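import Mathlib
import Cfsg.Prelude.Def_Local

set_option autoImplicit false

/-!
Quasisimple groups: basic facts (type level and subgroup level).
-/

namespace Cfsg.Agent.Lib.Helper3

open Subgroup
open scoped commutatorElement

section typeLevel

variable {X : Type*} [Group X]

/-- `IsQuasisimple` is invariant under group isomorphism. -/
theorem isQuasisimple_of_mulEquiv {Y : Type*} [Group Y] (e : X ≃* Y) (h : Cfsg.IsQuasisimple X) :
    Cfsg.IsQuasisimple Y := by
  obtain ⟨hp, hs⟩ := h
  refine ⟨Group.IsPerfect.ofSurjective (f := e.toMonoidHom) e.surjective, ?_⟩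
  have hc : (Subgroup.center X).map (e : X →* Y) = Subgroup.center Y := by
    ext y
    simp only [Subgroup.mem_map, Subgroup.mem_center_iff]
    constructor
    · rintro ⟨x, hx, rfl⟩ g
      obtain ⟨g', rfl⟩ := e.surjective g
      have := hx g'
      simp only [MonoidHom.coe_coe, ← map_mul, this]
    · intro hy
      refine ⟨e.symm y, fun g => ?_, by simp⟩
      apply e.injective
      simp only [map_mul, MulEquiv.apply_symm_apply]
      exact hy (e g)
  exact (QuotientGroup.congr (Subgroup.center X) (Subgroup.center Y) e hc).symm.isSimpleGroup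

theorem IsQuasisimple.isPerfect (h : Cfsg.IsQuasisimple X) : Group.IsPerfect X := h.1

theorem IsQuasisimple.commutator_eq_top (h : Cfsg.IsQuasisimple X) : commutator X = ⊤ :=
  h.1.commutator_eq_top

theorem IsQuasisimple.center_ne_top (h : Cfsg.IsQuasisimple X) : Subgroup.center X ≠ ⊤ := by
  intro hc
  haveI := h.2
  have : Subsingleton (X ⧸ Subgroup.center X) := by
    rw [hc]
    exact QuotientGroup.subsingleton_quotient_top
  exact not_subsingleton (X ⧸ Subgroup.center X) this

theorem IsQuasisimple.nontrivial (h : Cfsg.IsQuasisimple X) : Nontrivial X := by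
  by_contra hn
  rw [not_nontrivial_iff_subsingleton] at hn
  exact IsQuasisimple.center_ne_top h (Subsingleton.elim _ _)

theorem IsQuasisimple.not_isSolvable (h : Cfsg.IsQuasisimple X) : ¬ Group.IsSolvable X := by
  haveI := h.1
  haveI := IsQuasisimple.nontrivial h
  exact Group.IsPerfect.not_isSolvable X

theorem IsQuasisimple.not_isMulCommutative (h : Cfsg.IsQuasisimple X) : ¬ IsMulCommutative X := by
  haveI := h.1
  haveI := IsQuasisimple.nontrivial h
  exact Group.IsPerfect.not_isMulCommutative X

/-- If `N ⊔ Z(X) = ⊤` then the commutator subgroup of `X` lies in `N` (for `N` normal). -/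
theorem commutator_le_of_sup_center_eq_top (N : Subgroup X) [N.Normal]
    (h : N ⊔ Subgroup.center X = ⊤) : commutator X ≤ N := by
  rw [commutator_def, Subgroup.commutator_le]
  intro a _ b _
  have ha : a ∈ N ⊔ Subgroup.center X := by rw [h]; trivial
  have hb : b ∈ N ⊔ Subgroup.center X := by rw [h]; trivial
  rw [Subgroup.mem_sup_of_normal_right] at ha hb
  obtain ⟨n, hn, z, hz, rfl⟩ := ha
  obtain ⟨m, hm, w, hw, rfl⟩ := hb
  have e : ⁅n * z, m * w⁆ = ⁅n, m⁆ := by
    rw [Subgroup.mem_center_iff] at hz hw
    simp only [commutatorElement_def, mul_inv_rev]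
    calc n * z * (m * w) * (z⁻¹ * n⁻¹) * (w⁻¹ * m⁻¹)
        = n * (z * (m * w) * z⁻¹) * n⁻¹ * (w⁻¹ * m⁻¹) := by group
      _ = n * (m * w) * n⁻¹ * (w⁻¹ * m⁻¹) := by rw [← hz (m * w)]; group
      _ = n * m * (w * (n⁻¹ * w⁻¹)) * m⁻¹ := by group
      _ = n * m * n⁻¹ * m⁻¹ := by rw [← hw (n⁻¹ * w⁻¹)]; group
  rw [e, commutatorElement_def]
  exact N.mul_mem (N.mul_mem (N.mul_mem hn hm) (N.inv_mem hn)) (N.inv_mem hm)

/-- In a quasisimple group a normal subgroup is everything or central. -/
theorem IsQuasisimple.normal_eq_top_or_le_center (h : Cfsg.IsQuasisimple X) (N : Subgroup X)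
    [hN : N.Normal] : N = ⊤ ∨ N ≤ Subgroup.center X := by
  haveI := h.2
  have hmap : (N.map (QuotientGroup.mk' (Subgroup.center X))).Normal :=
    hN.map _ (QuotientGroup.mk'_surjective _)
  rcases hmap.eq_bot_or_eq_top with h1 | h1
  · right
    rw [Subgroup.map_eq_bot_iff, QuotientGroup.ker_mk'] at h1
    exact h1
  · left
    have h2 : N ⊔ Subgroup.center X = ⊤ := by
      have := congrArg (Subgroup.comap (QuotientGroup.mk' (Subgroup.center X))) h1
      rw [Subgroup.comap_map_eq, QuotientGroup.ker_mk', Subgroup.comap_top] at this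
      exact this
    have h3 := commutator_le_of_sup_center_eq_top N h2
    rw [IsQuasisimple.commutator_eq_top h] at h3
    exact top_le_iff.mp h3

/-- In a quasisimple group a subnormal subgroup is everything or central. -/
theorem IsQuasisimple.subnormal_eq_top_or_le_center (h : Cfsg.IsQuasisimple X) (N : Subgroup X)
    (hN : N.IsSubnormal) : N = ⊤ ∨ N ≤ Subgroup.center X := by
  induction hN with
  | top => exact Or.inl rfl
  | step H K h_le hSubn hN ih =>
    rcases ih with rfl | hK
    · have : H.Normal := by
        rw [Subgroup.normal_subgroupOf_iff_le_normalizer h_le, top_le_iff,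
          Subgroup.normalizer_eq_top_iff] at hN
        exact hN
      exact IsQuasisimple.normal_eq_top_or_le_center h H
    · exact Or.inr (h_le.trans hK)

end typeLevel

end Cfsg.Agent.Lib.Helper3
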