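import Mathlib
import Cfsg.Prelude.Def_Local
import Cfsg.Agent.Lib.Helper3.Components1

set_option autoImplicit false

/-!
Components: subgroup-level facts. A component either lies in, or commutes with, any subgroup it
normalizes which is subnormal / solvable; distinct components commute.
-/

namespace Cfsg.Agent.Lib.Helper3

open Subgroup
open scoped commutatorElement

variable {G : Type*} [Group G]

theorem IsQuasisimple.commutator_eq_self {L : Subgroup G} (h : Cfsg.IsQuasisimple L) :
    ⁅L, L⁆ = L := by
  haveI := h.1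
  exact Subgroup.commutator_eq_self

theorem IsQuasisimple.ne_bot {L : Subgroup G} (h : Cfsg.IsQuasisimple L) : L ≠ ⊥ := by
  intro hb
  haveI := IsQuasisimple.nontrivial h
  rw [Subgroup.nontrivial_iff_ne_bot] at this
  exact this hb

theorem IsQuasisimple.not_le_of_isSolvable {L H : Subgroup G} (h : Cfsg.IsQuasisimple L)
    (hH : Group.IsSolvable H) (hle : L ≤ H) : False := by
  apply IsQuasisimple.not_isSolvable h
  exact solvable_of_solvable_injective (Subgroup.inclusion_injective hle)

/-- A subgroup `M ≤ L` normalized by the quasisimple subgroup `L` is `L` or central in `L`. -/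
theorem IsQuasisimple.eq_or_commutator_eq_bot {L M : Subgroup G} (h : Cfsg.IsQuasisimple L)
    (hML : M ≤ L) (hn : L ≤ normalizer (M : Set G)) : M = L ∨ ⁅L, M⁆ = ⊥ := by
  haveI : (M.subgroupOf L).Normal := (Subgroup.normal_subgroupOf_iff_le_normalizer hML).mpr hn
  rcases IsQuasisimple.normal_eq_top_or_le_center h (M.subgroupOf L) with h1 | h1
  · left
    rw [Subgroup.subgroupOf_eq_top] at h1
    exact le_antisymm hML h1
  · right
    rw [Subgroup.commutator_eq_bot_iff_le_centralizer]
    intro l hl
    rw [Subgroup.mem_centralizer_iff]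
    intro m hm
    have hm' : (⟨m, hML hm⟩ : L) ∈ M.subgroupOf L := by
      rw [Subgroup.mem_subgroupOf]; exact hm
    have := Subgroup.mem_center_iff.mp (h1 hm') ⟨l, hl⟩
    have := congrArg Subtype.val this
    simpa using this.symm

/-- If `L` is quasisimple then `L` is not central in itself. -/
theorem IsQuasisimple.commutator_self_ne_bot {L : Subgroup G} (h : Cfsg.IsQuasisimple L) :
    ⁅L, L⁆ ≠ ⊥ := by
  rw [IsQuasisimple.commutator_eq_self h]
  exact IsQuasisimple.ne_bot h

/-- **Key lemma.** A perfect subnormal subgroup `L` normalizing `H` with `H ∩ L` central in `L`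
centralizes `H`. -/
theorem commutator_eq_bot_of_subnormal_perfect {L H : Subgroup G} (hsn : L.IsSubnormal)
    (hperf : ⁅L, L⁆ = L) (hinv : L ≤ normalizer (H : Set G)) (hc : ⁅L, H ⊓ L⁆ = ⊥) :
    ⁅L, H⁆ = ⊥ := by
  obtain ⟨n, f, hmono, hnorm, h0, hn⟩ := Subgroup.IsSubnormal.exists_chain hsn
  have hLf : ∀ i, L ≤ f i := fun i => h0 ▸ hmono (Nat.zero_le i)
  have key : ∀ i, ⁅L, H ⊓ f i⁆ = ⊥ := by
    intro i
    induction i with
    | zero => rw [h0]; exact hc
    | succ i ih =>
      have hfn : f (i + 1) ≤ normalizer (f i : Set G) :=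
        (Subgroup.normal_subgroupOf_iff_le_normalizer (hmono (Nat.le_succ i))).mp (hnorm i)
      have h1 : ⁅H ⊓ f (i + 1), L⁆ ≤ H ⊓ f i := by
        rw [Subgroup.commutator_le]
        intro x hx l hl
        refine ⟨?_, ?_⟩
        · have hl' := hinv hl
          rw [Subgroup.mem_normalizer_iff] at hl'
          have : l * x⁻¹ * l⁻¹ ∈ H := (hl' x⁻¹).mp (H.inv_mem hx.1)
          have e : ⁅x, l⁆ = x * (l * x⁻¹ * l⁻¹) := by
            rw [commutatorElement_def]; group
          rw [e]
          exact H.mul_mem hx.1 this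
        · have hx' := hfn hx.2
          rw [Subgroup.mem_normalizer_iff] at hx'
          have : x * l * x⁻¹ ∈ f i := (hx' l).mp (hLf i hl)
          rw [commutatorElement_def]
          exact (f i).mul_mem this ((f i).inv_mem (hLf i hl))
      have h2 : ⁅⁅H ⊓ f (i + 1), L⁆, L⁆ = ⊥ := by
        rw [eq_bot_iff]
        calc ⁅⁅H ⊓ f (i + 1), L⁆, L⁆ ≤ ⁅H ⊓ f i, L⁆ := Subgroup.commutator_mono h1 le_rfl
          _ = ⁅L, H ⊓ f i⁆ := Subgroup.commutator_comm _ _
          _ = ⊥ := ih
      have h3 : ⁅⁅L, H ⊓ f (i + 1)⁆, L⁆ = ⊥ := by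
        rw [Subgroup.commutator_comm L]; exact h2
      have h4 := Subgroup.commutator_commutator_eq_bot_of_rotate (H₁ := L) (H₂ := L)
        (H₃ := H ⊓ f (i + 1)) h3 h2
      rw [hperf] at h4
      exact h4
  have := key n
  rw [hn, inf_top_eq] at this
  exact this

/-- A component `L` normalizing a subgroup `H` lies in `H` or centralizes `H`. -/
theorem IsComponent.le_or_commutator_eq_bot_of_le_normalizer {L H : Subgroup G}
    (hL : Cfsg.IsComponent L) (hinv : L ≤ normalizer (H : Set G)) : L ≤ H ∨ ⁅L, H⁆ = ⊥ := by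
  have hn : L ≤ normalizer ((H ⊓ L : Subgroup G) : Set G) := by
    intro l hl
    have h1 := hinv hl
    rw [Subgroup.mem_normalizer_iff] at h1 ⊢
    intro x
    constructor
    · rintro ⟨hx1, hx2⟩
      exact ⟨(h1 x).mp hx1, L.mul_mem (L.mul_mem hl hx2) (L.inv_mem hl)⟩
    · rintro ⟨hx1, hx2⟩
      refine ⟨(h1 x).mpr hx1, ?_⟩
      have : x = l⁻¹ * (l * x * l⁻¹) * l := by group
      rw [this]
      exact L.mul_mem (L.mul_mem (L.inv_mem hl) hx2) hl
  rcases IsQuasisimple.eq_or_commutator_eq_bot hL.2 inf_le_right hn with h1 | h1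
  · left
    rw [← h1]; exact inf_le_left
  · right
    exact commutator_eq_bot_of_subnormal_perfect hL.1 (IsQuasisimple.commutator_eq_self hL.2)
      hinv h1

/-- A component `L` and a subnormal subgroup `H`: `L ≤ H` or `[L, H] = 1`. -/
theorem IsComponent.le_or_commutator_eq_bot_of_isSubnormal {L H : Subgroup G}
    (hL : Cfsg.IsComponent L) (hH : H.IsSubnormal) : L ≤ H ∨ ⁅L, H⁆ = ⊥ := by
  induction hH with
  | top => exact Or.inl le_top
  | step H K h_le hSubn hN ih =>
    rcases ih with h1 | h1
    · have hKn : K ≤ normalizer (H : Set G) :=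
        (Subgroup.normal_subgroupOf_iff_le_normalizer h_le).mp hN
      exact IsComponent.le_or_commutator_eq_bot_of_le_normalizer hL (h1.trans hKn)
    · right
      rw [eq_bot_iff, ← h1]
      exact Subgroup.commutator_mono le_rfl h_le

/-- A component centralizes every solvable subgroup that it normalizes. -/
theorem IsComponent.commutator_eq_bot_of_isSolvable {L H : Subgroup G}
    (hL : Cfsg.IsComponent L) (hH : Group.IsSolvable H) (hinv : L ≤ normalizer (H : Set G)) :
    ⁅L, H⁆ = ⊥ := by
  rcases IsComponent.le_or_commutator_eq_bot_of_le_normalizer hL hinv with h1 | h1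
  · exact (IsQuasisimple.not_le_of_isSolvable hL.2 hH h1).elim
  · exact h1

/-- A component centralizes every solvable subnormal subgroup. -/
theorem IsComponent.commutator_eq_bot_of_isSolvable_of_isSubnormal {L H : Subgroup G}
    (hL : Cfsg.IsComponent L) (hH : Group.IsSolvable H) (hsn : H.IsSubnormal) :
    ⁅L, H⁆ = ⊥ := by
  rcases IsComponent.le_or_commutator_eq_bot_of_isSubnormal hL hsn with h1 | h1
  · exact (IsQuasisimple.not_le_of_isSolvable hL.2 hH h1).elim
  · exact h1

/-- A component `K` contained in a component `L` equals it. -/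
theorem IsComponent.eq_of_le {K L : Subgroup G} (hK : Cfsg.IsComponent K)
    (hL : Cfsg.IsComponent L) (hle : K ≤ L) : K = L := by
  have h1 : (K.subgroupOf L).IsSubnormal := hK.1.subgroupOf
  rcases IsQuasisimple.subnormal_eq_top_or_le_center hL.2 _ h1 with h2 | h2
  · rw [Subgroup.subgroupOf_eq_top] at h2
    exact le_antisymm hle h2
  · exfalso
    apply IsQuasisimple.commutator_self_ne_bot hK.2
    rw [Subgroup.commutator_eq_bot_iff_le_centralizer]
    intro k hk
    rw [Subgroup.mem_centralizer_iff]
    intro m hm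
    have hk' : (⟨k, hle hk⟩ : L) ∈ K.subgroupOf L := by
      rw [Subgroup.mem_subgroupOf]; exact hk
    have := Subgroup.mem_center_iff.mp (h2 hk') ⟨m, hle hm⟩
    have := congrArg Subtype.val this
    simpa using this

/-- Distinct components commute. -/
theorem IsComponent.commutator_eq_bot_of_ne {K L : Subgroup G} (hK : Cfsg.IsComponent K)
    (hL : Cfsg.IsComponent L) (hne : K ≠ L) : ⁅K, L⁆ = ⊥ := by
  rcases IsComponent.le_or_commutator_eq_bot_of_isSubnormal hK hL.1 with h1 | h1
  · exact (hne (IsComponent.eq_of_le hK hL h1)).elim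
  · exact h1

end Cfsg.Agent.Lib.Helper3
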