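import Mathlib
import Cfsg.Prelude.Def_Local
import Cfsg.Agent.Lib.Helper3.Components2

set_option autoImplicit false

/-!
Producing quasisimple groups: if `X / Z` is non-abelian simple with `Z` central then `X'` is
quasisimple and `X = X' Z`.
-/

namespace Cfsg.Agent.Lib.Helper3

open Subgroup
open scoped commutatorElement

variable {X : Type*} [Group X]

/-- If `N ⊔ Z = ⊤` with `Z` central then `X' ≤ [N, N]`. -/
theorem commutator_le_commutator_of_sup_central_eq_top (N Z : Subgroup X) [Z.Normal]
    (hZ : Z ≤ Subgroup.center X) (h : N ⊔ Z = ⊤) : commutator X ≤ ⁅N, N⁆ := by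
  rw [commutator_def, Subgroup.commutator_le]
  intro a _ b _
  have ha : a ∈ N ⊔ Z := by rw [h]; trivial
  have hb : b ∈ N ⊔ Z := by rw [h]; trivial
  rw [Subgroup.mem_sup_of_normal_right] at ha hb
  obtain ⟨n, hn, z, hz, rfl⟩ := ha
  obtain ⟨m, hm, w, hw, rfl⟩ := hb
  have e : ⁅n * z, m * w⁆ = ⁅n, m⁆ := by
    have hz := Subgroup.mem_center_iff.mp (hZ hz)
    have hw := Subgroup.mem_center_iff.mp (hZ hw)
    simp only [commutatorElement_def, mul_inv_rev]
    calc n * z * (m * w) * (z⁻¹ * n⁻¹) * (w⁻¹ * m⁻¹)
        = n * (z * (m * w) * z⁻¹) * n⁻¹ * (w⁻¹ * m⁻¹) := by group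
      _ = n * (m * w) * n⁻¹ * (w⁻¹ * m⁻¹) := by rw [← hz (m * w)]; group
      _ = n * m * (w * (n⁻¹ * w⁻¹)) * m⁻¹ := by group
      _ = n * m * n⁻¹ * m⁻¹ := by rw [← hw (n⁻¹ * w⁻¹)]; group
  rw [e]
  exact Subgroup.commutator_mem_commutator hn hm

/-- If `X / Z` is non-abelian simple, `Z` central, then `X = X' Z`. -/
theorem commutator_sup_eq_top_of_simple_quotient (Z : Subgroup X) [Z.Normal]
    (hs : IsSimpleGroup (X ⧸ Z)) (hna : ¬ IsMulCommutative (X ⧸ Z)) :
    commutator X ⊔ Z = ⊤ := by
  have hmap : (commutator X).map (QuotientGroup.mk' Z) = commutator (X ⧸ Z) := by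
    rw [commutator_def, Subgroup.map_commutator, commutator_def,
      ← MonoidHom.range_eq_map, MonoidHom.range_eq_top.mpr (QuotientGroup.mk'_surjective Z)]
  have hnorm : (commutator (X ⧸ Z)).Normal := inferInstance
  rcases hnorm.eq_bot_or_eq_top with h1 | h1
  · exfalso
    apply hna
    rw [← Subgroup.center_eq_top_iff, ← commutator_eq_bot_iff_center_eq_top]
    exact h1
  · rw [← hmap] at h1
    have := congrArg (Subgroup.comap (QuotientGroup.mk' Z)) h1
    rw [Subgroup.comap_map_eq, QuotientGroup.ker_mk', Subgroup.comap_top] at this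
    exact this

/-- If `X / Z` is non-abelian simple with `Z` central, then `X'` is quasisimple. -/
theorem isQuasisimple_commutator_of_simple_quotient (Z : Subgroup X) [Z.Normal]
    (hZ : Z ≤ Subgroup.center X) (hs : IsSimpleGroup (X ⧸ Z)) (hna : ¬ IsMulCommutative (X ⧸ Z)) :
    Cfsg.IsQuasisimple ↥(commutator X) := by
  have htop := commutator_sup_eq_top_of_simple_quotient Z hs hna
  have hperf : ⁅commutator X, commutator X⁆ = commutator X :=
    le_antisymm (Subgroup.commutator_le_left _ _)
      (commutator_le_commutator_of_sup_central_eq_top _ Z hZ htop)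
  refine ⟨Subgroup.isPerfect_iff.mpr hperf, ?_⟩
  -- the restriction of the quotient map to X'
  let φ : ↥(commutator X) →* X ⧸ Z := (QuotientGroup.mk' Z).comp (commutator X).subtype
  have hφsurj : Function.Surjective φ := by
    intro q
    obtain ⟨x, rfl⟩ := QuotientGroup.mk'_surjective Z q
    have hx : x ∈ commutator X ⊔ Z := by rw [htop]; trivial
    rw [Subgroup.mem_sup_of_normal_right] at hx
    obtain ⟨c, hc, z, hz, rfl⟩ := hx
    refine ⟨⟨c, hc⟩, ?_⟩
    simp only [φ, MonoidHom.coe_comp, Function.comp_apply, Subgroup.coe_subtype,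
      QuotientGroup.mk'_apply]
    rw [QuotientGroup.eq]
    simpa using hz
  have hker : φ.ker = Subgroup.center ↥(commutator X) := by
    apply le_antisymm
    · intro c hc
      rw [MonoidHom.mem_ker] at hc
      simp only [φ, MonoidHom.coe_comp, Function.comp_apply, Subgroup.coe_subtype,
        QuotientGroup.mk'_apply, QuotientGroup.eq_one_iff] at hc
      rw [Subgroup.mem_center_iff]
      intro g
      apply Subtype.ext
      simp only [Subgroup.coe_mul]
      exact Subgroup.mem_center_iff.mp (hZ hc) g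
    · -- the image of the center is a normal abelian subgroup
      have hn : ((Subgroup.center ↥(commutator X)).map φ).Normal :=
        Subgroup.Normal.map inferInstance φ hφsurj
      rcases hn.eq_bot_or_eq_top with h1 | h1
      · rw [Subgroup.map_eq_bot_iff] at h1
        exact h1
      · exfalso
        apply hna
        rw [isMulCommutative_iff]
        intro a b
        have ha : a ∈ (Subgroup.center ↥(commutator X)).map φ := by rw [h1]; trivial
        have hb : b ∈ (Subgroup.center ↥(commutator X)).map φ := by rw [h1]; trivial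
        obtain ⟨a', ha', rfl⟩ := ha
        obtain ⟨b', hb', rfl⟩ := hb
        rw [← map_mul, ← map_mul, Subgroup.mem_center_iff.mp ha' b']
  have e1 : ↥(commutator X) ⧸ φ.ker ≃* X ⧸ Z := QuotientGroup.quotientKerEquivOfSurjective φ hφsurj
  have e2 : ↥(commutator X) ⧸ Subgroup.center ↥(commutator X) ≃* ↥(commutator X) ⧸ φ.ker :=
    QuotientGroup.quotientMulEquivOfEq hker.symm
  exact (e2.trans e1).isSimpleGroup

/-- The same for a subgroup `N` of a group: if `Z ≤ N` is central in `N`, normal in `N`, and `N / Z` is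
non-abelian simple then `⁅N, N⁆` is quasisimple. -/
theorem isQuasisimple_commutator_subgroup {G : Type*} [Group G] (N : Subgroup G)
    (Z : Subgroup ↥N) [Z.Normal] (hZ : Z ≤ Subgroup.center ↥N) (hs : IsSimpleGroup (↥N ⧸ Z))
    (hna : ¬ IsMulCommutative (↥N ⧸ Z)) : Cfsg.IsQuasisimple ↥(⁅N, N⁆) := by
  have h1 := isQuasisimple_commutator_of_simple_quotient Z hZ hs hna
  have e : ↥(commutator ↥N) ≃* ↥((commutator ↥N).map N.subtype) :=
    Subgroup.equivMapOfInjective _ _ N.subtype_injective
  have h2 := isQuasisimple_of_mulEquiv e h1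
  rw [Subgroup.map_subtype_commutator] at h2
  exact h2

end Cfsg.Agent.Lib.Helper3
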