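import Mathlib
import Cfsg.Prelude.Def_Local
import Cfsg.Agent.Lib.Helper3.Components3

set_option autoImplicit false

/-!
Components under maps; the layer is normal; components of subnormal subgroups.
-/

namespace Cfsg.Agent.Lib.Helper3

open Subgroup
open scoped commutatorElement Pointwise

variable {G : Type*} [Group G]

theorem isQuasisimple_map_of_injective {G' : Type*} [Group G'] (f : G →* G')
    (hf : Function.Injective f) {K : Subgroup G} (hK : Cfsg.IsQuasisimple K) :
    Cfsg.IsQuasisimple (K.map f) :=
  isQuasisimple_of_mulEquiv (Subgroup.equivMapOfInjective K f hf) hK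

theorem isQuasisimple_of_map_of_injective {G' : Type*} [Group G'] (f : G →* G')
    (hf : Function.Injective f) {K : Subgroup G} (hK : Cfsg.IsQuasisimple (K.map f)) :
    Cfsg.IsQuasisimple K :=
  isQuasisimple_of_mulEquiv (Subgroup.equivMapOfInjective K f hf).symm hK

/-- image of a component under an isomorphism -/
theorem IsComponent.map_equiv {G' : Type*} [Group G'] (e : G ≃* G') {K : Subgroup G}
    (hK : Cfsg.IsComponent K) : Cfsg.IsComponent (K.map (e : G →* G')) :=
  ⟨hK.1.map e.surjective, isQuasisimple_map_of_injective _ e.injective hK.2⟩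

theorem IsComponent.map_conj {K : Subgroup G} (hK : Cfsg.IsComponent K) (g : G) :
    Cfsg.IsComponent (K.map (MulAut.conj g).toMonoidHom) :=
  IsComponent.map_equiv (MulAut.conj g) hK

theorem IsComponent.le_layer {K : Subgroup G} (hK : Cfsg.IsComponent K) : K ≤ Cfsg.layer G :=
  le_sSup hK

theorem layer_le_iff {H : Subgroup G} :
    Cfsg.layer G ≤ H ↔ ∀ K : Subgroup G, Cfsg.IsComponent K → K ≤ H := by
  unfold Cfsg.layer
  rw [sSup_le_iff]
  rfl

/-- the layer is invariant under all automorphisms -/
theorem layer_map_equiv (e : G ≃* G) : (Cfsg.layer G).map (e : G →* G) = Cfsg.layer G := by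
  have key : ∀ e : G ≃* G, (Cfsg.layer G).map (e : G →* G) ≤ Cfsg.layer G := by
    intro e
    rw [Subgroup.map_le_iff_le_comap, layer_le_iff]
    intro K hK
    rw [← Subgroup.map_le_iff_le_comap]
    exact IsComponent.le_layer (IsComponent.map_equiv e hK)
  apply le_antisymm (key e)
  intro x hx
  have h2 : e.symm x ∈ Cfsg.layer G := key e.symm ⟨x, hx, rfl⟩
  exact ⟨_, h2, by simp⟩

instance layer_characteristic : (Cfsg.layer G).Characteristic := by
  rw [Subgroup.characteristic_iff_map_eq]
  intro e
  exact layer_map_equiv e

instance layer_normal : (Cfsg.layer G).Normal := inferInstance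

/-- A component of `G` contained in `H` is a component of `H`. -/
theorem IsComponent.subgroupOf {K : Subgroup G} (hK : Cfsg.IsComponent K) {H : Subgroup G}
    (hle : K ≤ H) : Cfsg.IsComponent (K.subgroupOf H) := by
  refine ⟨hK.1.subgroupOf, ?_⟩
  exact isQuasisimple_of_mulEquiv (Subgroup.subgroupOfEquivOfLe hle).symm hK.2

/-- A component of a subnormal subgroup is a component. -/
theorem IsComponent.map_subtype {H : Subgroup G} (hH : H.IsSubnormal) {K : Subgroup H}
    (hK : Cfsg.IsComponent K) : Cfsg.IsComponent (K.map H.subtype) :=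
  ⟨hK.1.trans' hH, isQuasisimple_map_of_injective _ H.subtype_injective hK.2⟩

theorem isComponent_map_subtype_iff {H : Subgroup G} (hH : H.IsSubnormal) (K : Subgroup H) :
    Cfsg.IsComponent K ↔ Cfsg.IsComponent (K.map H.subtype) := by
  constructor
  · exact IsComponent.map_subtype hH
  · intro h
    have h1 := IsComponent.subgroupOf h (H := H) (by rintro _ ⟨y, _, rfl⟩; exact y.2)
    have h2 : (K.map H.subtype).subgroupOf H = K := by
      rw [Subgroup.subgroupOf, Subgroup.comap_map_eq_self_of_injective H.subtype_injective]
    rw [h2] at h1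
    exact h1

/-- the layer of a subnormal subgroup lies in the layer -/
theorem layer_map_subtype_le {H : Subgroup G} (hH : H.IsSubnormal) :
    (Cfsg.layer H).map H.subtype ≤ Cfsg.layer G := by
  rw [Subgroup.map_le_iff_le_comap, layer_le_iff]
  intro K hK
  rw [← Subgroup.map_le_iff_le_comap]
  exact IsComponent.le_layer (IsComponent.map_subtype hH hK)

end Cfsg.Agent.Lib.Helper3
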