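import Mathlib
import Cfsg.Prelude.Def_Local
import Cfsg.Agent.Lib.Helper3.Components4
import Cfsg.Agent.Lib.Lead.Core

set_option autoImplicit false

/-!
The layer commutes with the Fitting subgroup; the layer is perfect; components are normal in it.
-/

namespace Cfsg.Agent.Lib.Helper3

open Subgroup
open scoped commutatorElement Pointwise

variable {G : Type*} [Group G]

theorem isSolvable_fittingSubgroup [Finite G] : Group.IsSolvable (Cfsg.fittingSubgroup G) := by
  haveI := Cfsg.Agent.Lib.Lead.fittingSubgroup_isNilpotent (G := G)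
  infer_instance

theorem fittingSubgroup_isSubnormal : (Cfsg.fittingSubgroup G).IsSubnormal :=
  (Cfsg.Agent.Lib.Lead.fittingSubgroup_normal (G := G)).isSubnormal

/-- if every component centralizes `H` then so does the layer -/
theorem commutator_layer_eq_bot_of_forall {H : Subgroup G}
    (h : ∀ K : Subgroup G, Cfsg.IsComponent K → ⁅K, H⁆ = ⊥) : ⁅Cfsg.layer G, H⁆ = ⊥ := by
  rw [Subgroup.commutator_eq_bot_iff_le_centralizer, layer_le_iff]
  intro K hK
  rw [← Subgroup.commutator_eq_bot_iff_le_centralizer]
  exact h K hK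

theorem IsComponent.commutator_fittingSubgroup [Finite G] {K : Subgroup G}
    (hK : Cfsg.IsComponent K) : ⁅K, Cfsg.fittingSubgroup G⁆ = ⊥ :=
  IsComponent.commutator_eq_bot_of_isSolvable_of_isSubnormal hK isSolvable_fittingSubgroup
    fittingSubgroup_isSubnormal

/-- `[E(G), F(G)] = 1` -/
theorem commutator_layer_fittingSubgroup [Finite G] :
    ⁅Cfsg.layer G, Cfsg.fittingSubgroup G⁆ = ⊥ :=
  commutator_layer_eq_bot_of_forall fun _ hK => IsComponent.commutator_fittingSubgroup hK

/-- `E(G)` centralizes every solvable subnormal subgroup -/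
theorem commutator_layer_of_isSolvable_of_isSubnormal {H : Subgroup G}
    (hH : Group.IsSolvable H) (hsn : H.IsSubnormal) : ⁅Cfsg.layer G, H⁆ = ⊥ :=
  commutator_layer_eq_bot_of_forall fun _ hK =>
    IsComponent.commutator_eq_bot_of_isSolvable_of_isSubnormal hK hH hsn

/-- every component normalizes every component -/
theorem IsComponent.le_normalizer {K L : Subgroup G} (hK : Cfsg.IsComponent K)
    (hL : Cfsg.IsComponent L) : K ≤ normalizer (L : Set G) := by
  by_cases h : K = L
  · rw [h]; exact Subgroup.le_normalizer
  · have := IsComponent.commutator_eq_bot_of_ne hK hL h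
    rw [Subgroup.commutator_eq_bot_iff_le_centralizer] at this
    exact this.trans (Subgroup.centralizer_le_normalizer _)

theorem IsComponent.layer_le_normalizer {L : Subgroup G} (hL : Cfsg.IsComponent L) :
    Cfsg.layer G ≤ normalizer (L : Set G) := by
  rw [layer_le_iff]
  intro K hK
  exact IsComponent.le_normalizer hK hL

/-- a component is normal in the layer -/
theorem IsComponent.normal_subgroupOf_layer {L : Subgroup G} (hL : Cfsg.IsComponent L) :
    (L.subgroupOf (Cfsg.layer G)).Normal :=
  (Subgroup.normal_subgroupOf_iff_le_normalizer (IsComponent.le_layer hL)).mpr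
    (IsComponent.layer_le_normalizer hL)

/-- the layer is perfect -/
theorem commutator_layer_layer : ⁅Cfsg.layer G, Cfsg.layer G⁆ = Cfsg.layer G := by
  apply le_antisymm (Subgroup.commutator_le_left _ _)
  rw [layer_le_iff]
  intro K hK
  calc K = ⁅K, K⁆ := (IsQuasisimple.commutator_eq_self hK.2).symm
    _ ≤ ⁅Cfsg.layer G, Cfsg.layer G⁆ :=
      Subgroup.commutator_mono (IsComponent.le_layer hK) (IsComponent.le_layer hK)

theorem layer_eq_bot_iff : Cfsg.layer G = ⊥ ↔ ∀ K : Subgroup G, ¬ Cfsg.IsComponent K := by
  constructor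
  · intro h K hK
    have := IsComponent.le_layer hK
    rw [h, le_bot_iff] at this
    exact IsQuasisimple.ne_bot hK.2 this
  · intro h
    rw [eq_bot_iff, layer_le_iff]
    intro K hK
    exact (h K hK).elim

/-- a component is not contained in a solvable subgroup -/
theorem layer_eq_bot_of_le_isSolvable {H : Subgroup G} (hH : Group.IsSolvable H)
    (hle : Cfsg.layer G ≤ H) : Cfsg.layer G = ⊥ := by
  rw [layer_eq_bot_iff]
  intro K hK
  exact IsQuasisimple.not_le_of_isSolvable hK.2 hH ((IsComponent.le_layer hK).trans hle)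

theorem layer_le_generalizedFittingSubgroup : Cfsg.layer G ≤ Cfsg.generalizedFittingSubgroup G :=
  le_sup_left

theorem fittingSubgroup_le_generalizedFittingSubgroup :
    Cfsg.fittingSubgroup G ≤ Cfsg.generalizedFittingSubgroup G :=
  le_sup_right

instance fittingSubgroup_normal' : (Cfsg.fittingSubgroup G).Normal :=
  Cfsg.Agent.Lib.Lead.fittingSubgroup_normal

instance generalizedFittingSubgroup_normal : (Cfsg.generalizedFittingSubgroup G).Normal := by
  unfold Cfsg.generalizedFittingSubgroup
  infer_instance

/-- `F(G) ∩ E(G) ≤ Z(E(G))` in the form of a commutator -/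
theorem commutator_layer_fitting_inf_layer [Finite G] :
    ⁅Cfsg.layer G, Cfsg.fittingSubgroup G ⊓ Cfsg.layer G⁆ = ⊥ := by
  rw [eq_bot_iff, ← commutator_layer_fittingSubgroup (G := G)]
  exact Subgroup.commutator_mono le_rfl inf_le_left

end Cfsg.Agent.Lib.Helper3
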