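import Mathlib
import Cfsg.Prelude.Def_Local
import Cfsg.Agent.Lib.Helper3.Components5

set_option autoImplicit false

/-!
Subnormal nilpotent subgroups lie in the Fitting subgroup. Class two criterion. Simple sections.
-/

namespace Cfsg.Agent.Lib.Helper3

open Subgroup
open scoped commutatorElement Pointwise

section nilp

variable {X : Type*} [Group X]

/-- a group of class at most two is nilpotent -/
theorem isNilpotent_of_commutator_le_center (h : commutator X ≤ Subgroup.center X) :
    Group.IsNilpotent X := by
  apply Group.of_quotient_center_nilpotent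
  have hcomm : ∀ a b : X ⧸ Subgroup.center X, a * b = b * a := by
    intro a b
    obtain ⟨a, rfl⟩ := QuotientGroup.mk_surjective a
    obtain ⟨b, rfl⟩ := QuotientGroup.mk_surjective b
    rw [← QuotientGroup.mk_mul, ← QuotientGroup.mk_mul, QuotientGroup.eq]
    apply h
    have : (a * b)⁻¹ * (b * a) = ⁅b⁻¹, a⁻¹⁆ := by
      rw [commutatorElement_def]; group
    rw [this, commutator_def]
    exact Subgroup.commutator_mem_commutator (Subgroup.mem_top _) (Subgroup.mem_top _)
  letI : CommGroup (X ⧸ Subgroup.center X) :=
    { (inferInstance : Group (X ⧸ Subgroup.center X)) with mul_comm := hcomm }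
  exact CommGroup.isNilpotent

end nilp

variable {G : Type*} [Group G]

/-- subgroup form of the class two criterion -/
theorem isNilpotent_of_commutator_le_centralizer {N : Subgroup G}
    (h : ⁅N, N⁆ ≤ centralizer (N : Set G)) : Group.IsNilpotent N := by
  apply isNilpotent_of_commutator_le_center
  intro x hx
  rw [Subgroup.mem_center_iff]
  intro g
  apply Subtype.ext
  have hx' : (x : G) ∈ ⁅N, N⁆ := by
    rw [← Subgroup.map_subtype_commutator]
    exact ⟨x, hx, rfl⟩
  have := Subgroup.mem_centralizer_iff.mp (h hx') g g.2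
  simpa using this

theorem fittingSubgroup_map_equiv_le {A : Type*} {B : Type*} [Group A] [Group B] (e : A ≃* B) :
    (Cfsg.fittingSubgroup A).map (e : A →* B) ≤ Cfsg.fittingSubgroup B := by
  unfold Cfsg.fittingSubgroup
  rw [Subgroup.map_le_iff_le_comap, sSup_le_iff]
  rintro N ⟨hN, hnil⟩
  rw [← Subgroup.map_le_iff_le_comap]
  apply le_sSup
  refine ⟨hN.map _ e.surjective, ?_⟩
  exact (Group.isNilpotent_congr (Subgroup.equivMapOfInjective N (e : A →* B) e.injective)).mp hnil

/-- the Fitting subgroup is invariant under isomorphisms -/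
theorem fittingSubgroup_map_equiv {G' : Type*} [Group G'] (e : G ≃* G') :
    (Cfsg.fittingSubgroup G).map (e : G →* G') = Cfsg.fittingSubgroup G' := by
  apply le_antisymm (fittingSubgroup_map_equiv_le e)
  intro x hx
  have h2 : e.symm x ∈ Cfsg.fittingSubgroup G := fittingSubgroup_map_equiv_le e.symm ⟨x, hx, rfl⟩
  exact ⟨_, h2, by simp⟩

/-- nilpotency passes along injective homomorphisms -/
theorem isNilpotent_of_injective {A : Type*} {B : Type*} [Group A] [Group B] (f : A →* B)
    (hf : Function.Injective f) (hB : Group.IsNilpotent B) : Group.IsNilpotent A := by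
  apply Subgroup.isNilpotent_of_ker_le_center f
  rw [(MonoidHom.ker_eq_bot_iff f).mpr hf]
  exact bot_le

/-- the Fitting subgroup of a subnormal subgroup lies in the Fitting subgroup -/
theorem fittingSubgroup_map_subtype_le_of_isSubnormal [Finite G] {K : Subgroup G}
    (hK : K.IsSubnormal) : (Cfsg.fittingSubgroup K).map K.subtype ≤ Cfsg.fittingSubgroup G := by
  induction hK with
  | top =>
    apply Cfsg.Agent.Lib.Lead.le_fittingSubgroup
    · exact (Cfsg.Agent.Lib.Lead.fittingSubgroup_normal).map _
        (fun x => ⟨⟨x, Subgroup.mem_top x⟩, rfl⟩)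
    · exact (Group.isNilpotent_congr (Subgroup.equivMapOfInjective _ _
        (Subgroup.subtype_injective _))).mp Cfsg.Agent.Lib.Lead.fittingSubgroup_isNilpotent
  | step H K h_le hSubn hN ih =>
    refine le_trans ?_ ih
    set N : Subgroup G := (Cfsg.fittingSubgroup H).map H.subtype with hNdef
    have hNH : N ≤ H := by
      rintro _ ⟨y, _, rfl⟩; exact y.2
    have hNK : N ≤ K := hNH.trans h_le
    have hnorm : K ≤ Subgroup.normalizer (H : Set G) :=
      (Subgroup.normal_subgroupOf_iff_le_normalizer h_le).mp hN
    have hNnorm : (N.subgroupOf K).Normal := by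
      rw [Subgroup.normal_subgroupOf_iff_le_normalizer hNK]
      intro k hk
      have hkH : k ∈ Subgroup.normalizer (H : Set G) := hnorm hk
      rw [Subgroup.mem_normalizer_iff_map_conj_eq]
      let φ : H ≃* H := Subgroup.normalizerMonoidHom H ⟨k, hkH⟩
      have hφ : (Cfsg.fittingSubgroup H).map φ.toMonoidHom = Cfsg.fittingSubgroup H :=
        fittingSubgroup_map_equiv φ
      rw [hNdef]
      conv_rhs => rw [← hφ]
      rw [Subgroup.map_map, Subgroup.map_map]
      congr 1
    have hnil : Group.IsNilpotent (N.subgroupOf K) := by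
      have e1 : ↥(N.subgroupOf K) ≃* ↥N := Subgroup.subgroupOfEquivOfLe hNK
      have e2 : ↥(Cfsg.fittingSubgroup H) ≃* ↥N :=
        Subgroup.equivMapOfInjective _ _ (Subgroup.subtype_injective _)
      have hfin : Finite H := inferInstance
      have : Group.IsNilpotent ↥(Cfsg.fittingSubgroup H) :=
        Cfsg.Agent.Lib.Lead.fittingSubgroup_isNilpotent
      exact (Group.isNilpotent_congr (e1.trans e2.symm)).mpr this
    have h1 : N.subgroupOf K ≤ Cfsg.fittingSubgroup K :=
      Cfsg.Agent.Lib.Lead.le_fittingSubgroup hNnorm hnil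
    intro x hx
    exact ⟨⟨x, hNK hx⟩, h1 hx, rfl⟩

/-- A subnormal nilpotent subgroup lies in the Fitting subgroup. -/
theorem le_fittingSubgroup_of_isSubnormal [Finite G] {K : Subgroup G}
    (hK : K.IsSubnormal) (hnil : Group.IsNilpotent K) : K ≤ Cfsg.fittingSubgroup G := by
  have h := fittingSubgroup_map_subtype_le_of_isSubnormal hK
  have h2 : Cfsg.fittingSubgroup K = ⊤ := by
    rw [eq_top_iff]
    apply Cfsg.Agent.Lib.Lead.le_fittingSubgroup inferInstance
    exact (Group.isNilpotent_congr Subgroup.topEquiv).mpr hnil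
  rw [h2] at h
  intro x hx
  exact h ⟨⟨x, hx⟩, Subgroup.mem_top _, rfl⟩

/-- the Fitting subgroup of a subnormal subgroup `S` is `F(G) ∩ S` -/
theorem fittingSubgroup_map_subtype_eq_of_isSubnormal [Finite G] {S : Subgroup G}
    (hS : S.IsSubnormal) :
    (Cfsg.fittingSubgroup S).map S.subtype = Cfsg.fittingSubgroup G ⊓ S := by
  apply le_antisymm
  · apply le_inf (fittingSubgroup_map_subtype_le_of_isSubnormal hS)
    rintro _ ⟨y, _, rfl⟩; exact y.2
  · intro x hx
    have h1 : ((Cfsg.fittingSubgroup G).subgroupOf S) ≤ Cfsg.fittingSubgroup S := by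
      apply Cfsg.Agent.Lib.Lead.le_fittingSubgroup
      · exact Subgroup.normal_subgroupOf
      · have : Group.IsNilpotent ↥(Cfsg.fittingSubgroup G) :=
          Cfsg.Agent.Lib.Lead.fittingSubgroup_isNilpotent
        refine isNilpotent_of_injective
          (((S.subtype).comp ((Cfsg.fittingSubgroup G).subgroupOf S).subtype).codRestrict
            (Cfsg.fittingSubgroup G) (fun x => x.2)) ?_ this
        intro a b hab
        have := congrArg Subtype.val hab
        exact Subtype.ext (Subtype.ext this)
    exact ⟨⟨x, hx.2⟩, h1 hx.1, rfl⟩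

end Cfsg.Agent.Lib.Helper3
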