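import Mathlib
import Cfsg.Prelude.Def_Local
import Cfsg.Agent.Lib.Helper3.Components6

set_option autoImplicit false

/-!
Simple sections `N / Z` described inside the subgroup lattice, and the theorem
`C_G(F*(G)) ≤ F*(G)`.
-/

namespace Cfsg.Agent.Lib.Helper3

open Subgroup
open scoped commutatorElement Pointwise

variable {G : Type*} [Group G]

/-- A section `N / Z` with no `N`-invariant subgroup strictly between is a simple group. -/
theorem isSimpleGroup_quotient_subgroupOf {N Z : Subgroup G} (hZN : Z ≤ N) (hne : Z ≠ N)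
    [hn : (Z.subgroupOf N).Normal]
    (hmin : ∀ M : Subgroup G, Z ≤ M → M ≤ N → N ≤ normalizer (M : Set G) → M = Z ∨ M = N) :
    IsSimpleGroup (↥N ⧸ Z.subgroupOf N) := by
  have hnt : Nontrivial (↥N ⧸ Z.subgroupOf N) := by
    have : ∃ x ∈ N, x ∉ Z := by
      by_contra hcon
      push Not at hcon
      exact hne (le_antisymm hZN hcon)
    obtain ⟨x, hxN, hxZ⟩ := this
    refine ⟨⟨((⟨x, hxN⟩ : N) : ↥N ⧸ Z.subgroupOf N), 1, ?_⟩⟩
    intro h
    rw [QuotientGroup.eq_one_iff, Subgroup.mem_subgroupOf] at h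
    exact hxZ h
  refine { toNontrivial := hnt, eq_bot_or_eq_top_of_normal := ?_ }
  intro H hH
  set M' : Subgroup ↥N := H.comap (QuotientGroup.mk' (Z.subgroupOf N)) with hM'
  have hM'n : M'.Normal := hH.comap _
  have hZM' : Z.subgroupOf N ≤ M' := by
    intro z hz
    rw [hM', Subgroup.mem_comap]
    have : (QuotientGroup.mk' (Z.subgroupOf N)) z = 1 := by
      rw [QuotientGroup.mk'_apply, QuotientGroup.eq_one_iff]; exact hz
    rw [this]; exact H.one_mem
  have hHmap : H = M'.map (QuotientGroup.mk' (Z.subgroupOf N)) := by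
    rw [hM', Subgroup.map_comap_eq_self_of_surjective (QuotientGroup.mk'_surjective _)]
  set M : Subgroup G := M'.map N.subtype with hM
  have hMN : M ≤ N := by rintro _ ⟨y, _, rfl⟩; exact y.2
  have hZM : Z ≤ M := by
    intro z hz
    exact ⟨⟨z, hZN hz⟩, hZM' (by rw [Subgroup.mem_subgroupOf]; exact hz), rfl⟩
  have hNM : N ≤ normalizer (M : Set G) := by
    rw [← Subgroup.normal_subgroupOf_iff_le_normalizer hMN]
    have : M.subgroupOf N = M' := by
      rw [hM, Subgroup.subgroupOf, Subgroup.comap_map_eq_self_of_injective N.subtype_injective]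
    rw [this]; exact hM'n
  have hsub : M.subgroupOf N = M' := by
    rw [hM, Subgroup.subgroupOf, Subgroup.comap_map_eq_self_of_injective N.subtype_injective]
  rcases hmin M hZM hMN hNM with h1 | h1
  · left
    rw [hHmap, ← hsub, h1, Subgroup.map_eq_bot_iff, QuotientGroup.ker_mk']
  · right
    rw [hHmap, ← hsub, h1, Subgroup.subgroupOf_self,
      ← MonoidHom.range_eq_map, MonoidHom.range_eq_top.mpr (QuotientGroup.mk'_surjective _)]

/-- if `[N, N] ≰ Z` then `N / Z` is not abelian -/
theorem not_isMulCommutative_quotient_subgroupOf {N Z : Subgroup G}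
    [hn : (Z.subgroupOf N).Normal] (h : ¬ ⁅N, N⁆ ≤ Z) :
    ¬ IsMulCommutative (↥N ⧸ Z.subgroupOf N) := by
  intro hc
  apply h
  rw [Subgroup.commutator_le]
  intro a ha b hb
  have h1 := mul_comm' ((⟨b⁻¹, N.inv_mem hb⟩ : N) : ↥N ⧸ Z.subgroupOf N)
    ((⟨a⁻¹, N.inv_mem ha⟩ : N) : ↥N ⧸ Z.subgroupOf N)
  rw [← QuotientGroup.mk_mul, ← QuotientGroup.mk_mul, QuotientGroup.eq,
    Subgroup.mem_subgroupOf] at h1
  have h2 : ⁅a, b⁆ = ((((⟨b⁻¹, N.inv_mem hb⟩ : N) * ⟨a⁻¹, N.inv_mem ha⟩)⁻¹ *
      (⟨a⁻¹, N.inv_mem ha⟩ * ⟨b⁻¹, N.inv_mem hb⟩) : N) : G) := by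
    simp only [Subgroup.coe_mul, Subgroup.coe_inv, commutatorElement_def]
    group
  rw [h2]
  exact h1

end Cfsg.Agent.Lib.Helper3

namespace Cfsg.Agent.Lib.Helper3

open Subgroup
open scoped commutatorElement Pointwise

variable {G : Type*} [Group G]

/-- **Bender's theorem**: `C_G(F*(G)) ≤ F*(G)` for a finite group `G`. -/
theorem centralizer_generalizedFittingSubgroup_le [Finite G] :
    centralizer (Cfsg.generalizedFittingSubgroup G : Set G) ≤ Cfsg.generalizedFittingSubgroup G := by
  set Fs := Cfsg.generalizedFittingSubgroup G with hFs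
  set C := centralizer (Fs : Set G) with hC
  set Z := C ⊓ Fs with hZ
  by_contra hcon
  have hCn : C.Normal := inferInstance
  have hZn : Z.Normal := inferInstance
  have hZC : Z < C := by
    refine lt_of_le_of_ne inf_le_left ?_
    intro h
    apply hcon
    rw [← h]
    exact inf_le_right
  -- `Z` is centralized by `C`
  have hZcent : Z ≤ centralizer (C : Set G) := by
    intro z hz
    rw [Subgroup.mem_centralizer_iff]
    intro c hc
    exact (Subgroup.mem_centralizer_iff.mp hc z hz.2).symm
  -- choose N minimal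
  let S : Set (Subgroup G) := {N | N.IsSubnormal ∧ Z < N ∧ N ≤ C}
  have hSne : S.Nonempty := ⟨C, hCn.isSubnormal, hZC, le_rfl⟩
  obtain ⟨N, ⟨hNsn, hZN, hNC⟩, hNmin⟩ := wellFounded_lt.has_min S hSne
  have hZcN : Z ≤ centralizer (N : Set G) :=
    hZcent.trans (Subgroup.centralizer_le hNC)
  have hmin : ∀ M : Subgroup G, Z ≤ M → M ≤ N → N ≤ normalizer (M : Set G) → M = Z ∨ M = N := by
    intro M hZM hMN hNM
    by_cases h : M = Z
    · exact Or.inl h
    · right
      have hMsn : M.IsSubnormal :=
        Subgroup.IsSubnormal.step M N hMN hNsn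
          ((Subgroup.normal_subgroupOf_iff_le_normalizer hMN).mpr hNM)
      have hMS : M ∈ S := ⟨hMsn, lt_of_le_of_ne hZM (Ne.symm h), hMN.trans hNC⟩
      by_contra hne
      exact hNmin M hMS (lt_of_le_of_ne hMN hne)
  by_cases hab : ⁅N, N⁆ ≤ Z
  · -- N is nilpotent of class at most two
    have hnil : Group.IsNilpotent N :=
      isNilpotent_of_commutator_le_centralizer (hab.trans hZcN)
    have h1 : N ≤ Cfsg.fittingSubgroup G := le_fittingSubgroup_of_isSubnormal hNsn hnil
    have h2 : N ≤ Z := le_inf hNC (h1.trans fittingSubgroup_le_generalizedFittingSubgroup)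
    exact absurd (lt_of_lt_of_le hZN h2) (lt_irrefl _)
  · -- N / Z is non-abelian simple so [N, N] is a component
    have hnorm : (Z.subgroupOf N).Normal := Subgroup.normal_subgroupOf
    have hs : IsSimpleGroup (↥N ⧸ Z.subgroupOf N) :=
      isSimpleGroup_quotient_subgroupOf hZN.le hZN.ne hmin
    have hna : ¬ IsMulCommutative (↥N ⧸ Z.subgroupOf N) :=
      not_isMulCommutative_quotient_subgroupOf hab
    have hcen : Z.subgroupOf N ≤ Subgroup.center ↥N := by
      intro z hz
      rw [Subgroup.mem_subgroupOf] at hz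
      rw [Subgroup.mem_center_iff]
      intro g
      apply Subtype.ext
      have := Subgroup.mem_centralizer_iff.mp (hZcN hz) g g.2
      simpa using this
    have hq : Cfsg.IsQuasisimple ↥(⁅N, N⁆) :=
      isQuasisimple_commutator_subgroup N (Z.subgroupOf N) hcen hs hna
    have hsn : (⁅N, N⁆).IsSubnormal := by
      refine Subgroup.IsSubnormal.step _ N (Subgroup.commutator_le.mpr ?_) hNsn ?_
      · intro a ha b hb
        rw [commutatorElement_def]
        exact N.mul_mem (N.mul_mem (N.mul_mem ha hb) (N.inv_mem ha)) (N.inv_mem hb)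
      · have : (⁅N, N⁆).subgroupOf N = commutator ↥N := by
          rw [← Subgroup.map_subtype_commutator, Subgroup.subgroupOf,
            Subgroup.comap_map_eq_self_of_injective N.subtype_injective]
        rw [this]
        infer_instance
    have hcomp : Cfsg.IsComponent (⁅N, N⁆) := ⟨hsn, hq⟩
    have h1 : ⁅N, N⁆ ≤ Fs :=
      (IsComponent.le_layer hcomp).trans layer_le_generalizedFittingSubgroup
    have h2 : ⁅N, N⁆ ≤ N := by
      rw [Subgroup.commutator_le]
      intro a ha b hb
      rw [commutatorElement_def]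
      exact N.mul_mem (N.mul_mem (N.mul_mem ha hb) (N.inv_mem ha)) (N.inv_mem hb)
    exact hab (le_inf (h2.trans hNC) h1)

end Cfsg.Agent.Lib.Helper3
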