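import Mathlib

set_option autoImplicit false

namespace Cfsg.Agent.Lib.Helper3

/-- If all fibres of `f : A → B` have `c` elements then `|A| = |B| * c`. -/
theorem card_eq_mul_of_fibres {A B : Type*} [Finite A] [Finite B] (f : A → B) (c : ℕ)
    (h : ∀ b, Nat.card {a // f a = b} = c) : Nat.card A = Nat.card B * c := by
  classical
  have := Fintype.ofFinite B
  rw [← Nat.card_congr (Equiv.sigmaFiberEquiv f), Nat.card_sigma]
  simp only [h, Finset.sum_const, Finset.card_univ, smul_eq_mul, Nat.card_eq_fintype_card]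

variable {G : Type*} [Group G]

/-- The solutions `g` of `g⁻¹ * x * g = y` form a coset of the centralizer of `x`. -/
theorem card_conj_fibre [Finite G] (x y g₀ : G) (h₀ : g₀⁻¹ * x * g₀ = y) :
    Nat.card {g : G // g⁻¹ * x * g = y} = Nat.card (Subgroup.centralizer ({x} : Set G)) := by
  apply Nat.card_congr
  refine
    { toFun := fun g => ⟨g.1 * g₀⁻¹, ?_⟩
      invFun := fun c => ⟨c.1 * g₀, ?_⟩
      left_inv := fun g => by simp
      right_inv := fun c => by simp }
  · rw [Subgroup.mem_centralizer_singleton_iff]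
    have hg := g.2
    have : g.1⁻¹ * x * g.1 = g₀⁻¹ * x * g₀ := by rw [hg, h₀]
    calc g.1 * g₀⁻¹ * x = g.1 * (g₀⁻¹ * x * g₀) * g₀⁻¹ := by group
      _ = g.1 * (g.1⁻¹ * x * g.1) * g₀⁻¹ := by rw [this]
      _ = x * (g.1 * g₀⁻¹) := by group
  · have hc := c.2
    rw [Subgroup.mem_centralizer_singleton_iff] at hc
    calc (c.1 * g₀)⁻¹ * x * (c.1 * g₀) = g₀⁻¹ * (c.1⁻¹ * (x * c.1)) * g₀ := by group
      _ = g₀⁻¹ * (c.1⁻¹ * (c.1 * x)) * g₀ := by rw [hc]
      _ = y := by rw [← h₀]; group

/-- The solutions `g` of `g * x * g⁻¹ = y` form a coset of the centralizer of `x`. -/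
theorem card_conj_fibre' [Finite G] (x y g₀ : G) (h₀ : g₀ * x * g₀⁻¹ = y) :
    Nat.card {g : G // g * x * g⁻¹ = y} = Nat.card (Subgroup.centralizer ({x} : Set G)) := by
  have := card_conj_fibre x y g₀⁻¹ (by simpa using h₀)
  rw [← this]
  apply Nat.card_congr
  refine
    { toFun := fun g => ⟨g.1⁻¹, by simpa using g.2⟩
      invFun := fun g => ⟨g.1⁻¹, by simpa using g.2⟩
      left_inv := fun g => by simp
      right_inv := fun g => by simp }

/-- Size of a conjugacy class times size of centralizer is the group order. -/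
theorem card_conj_class_mul_card_centralizer [Finite G] (x : G) :
    Nat.card {g : G // IsConj x g} * Nat.card (Subgroup.centralizer ({x} : Set G)) = Nat.card G := by
  let f : G → {g : G // IsConj x g} := fun g => ⟨g * x * g⁻¹, isConj_iff.mpr ⟨g, rfl⟩⟩
  rw [card_eq_mul_of_fibres f (Nat.card (Subgroup.centralizer ({x} : Set G)))]
  intro y
  obtain ⟨g₀, hg₀⟩ := isConj_iff.mp y.2
  rw [← card_conj_fibre' x y.1 g₀ hg₀]
  apply Nat.card_congr
  refine Equiv.subtypeEquivRight ?_
  intro g
  simp only [f]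
  constructor
  · intro h; exact congrArg Subtype.val h
  · intro h; exact Subtype.ext h

/-- Fibres of `G → G ⧸ H` have `|H|` elements. -/
theorem card_quotient_fibre [Finite G] (H : Subgroup G) (q : G ⧸ H) :
    Nat.card {g : G // (QuotientGroup.mk g : G ⧸ H) = q} = Nat.card H := by
  obtain ⟨g₀, rfl⟩ := QuotientGroup.mk_surjective q
  apply Nat.card_congr
  refine
    { toFun := fun g => ⟨g₀⁻¹ * g.1, QuotientGroup.eq.mp g.2.symm⟩
      invFun := fun h => ⟨g₀ * h.1, ?_⟩
      left_inv := fun g => by simp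
      right_inv := fun h => by simp }
  apply Eq.symm
  rw [QuotientGroup.eq]
  simp

end Cfsg.Agent.Lib.Helper3
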