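import Mathlib
import Cfsg.Agent.Lib.Helper3.Count

set_option autoImplicit false

namespace Cfsg.Agent.Lib.Helper3

variable {G : Type*} [Group G]

theorem sylow_normal_of_card_eq_one {p : ℕ} (P : Sylow p G) (h : Nat.card (Sylow p G) = 1) :
    (P : Subgroup G).Normal := by
  have : Subsingleton (Sylow p G) := (Nat.card_eq_one_iff_unique.mp h).1
  exact Sylow.normal_of_subsingleton P

theorem card_sylow_eq_one_of_normal [Finite G] {p : ℕ} [Fact p.Prime] (P : Sylow p G)
    (h : (P : Subgroup G).Normal) : Nat.card (Sylow p G) = 1 := by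
  have := Sylow.unique_of_normal P h
  exact Nat.card_unique

/-- a subgroup of order `p` in a group whose Sylow `p`-subgroups have order `p`, as a Sylow subgroup -/
noncomputable def sylowOfCardPrime [Finite G] {p : ℕ} [Fact p.Prime] (P : Sylow p G)
    (hP : Nat.card P = p) (H : Subgroup G) (hH : Nat.card H = p) : Sylow p G :=
  Sylow.ofCard H (by rw [hH, ← Sylow.card_eq_multiplicity P, hP])

theorem coe_sylowOfCardPrime [Finite G] {p : ℕ} [Fact p.Prime] (P : Sylow p G)
    (hP : Nat.card P = p) (H : Subgroup G) (hH : Nat.card H = p) :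
    (sylowOfCardPrime P hP H hH : Subgroup G) = H := rfl

theorem card_sylow_eq [Finite G] {p : ℕ} [Fact p.Prime] (P Q : Sylow p G) :
    Nat.card Q = Nat.card P := by
  rw [Sylow.card_eq_multiplicity, Sylow.card_eq_multiplicity]

/-- If the Sylow `p`-subgroups have order `p`, the number of elements of order `p` is
`n_p * (p - 1)`. -/
theorem card_orderOf_eq_prime [Finite G] {p : ℕ} [hp : Fact p.Prime] (P : Sylow p G)
    (hP : Nat.card P = p) :
    Nat.card {g : G // orderOf g = p} = Nat.card (Sylow p G) * (p - 1) := by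
  let f : {g : G // orderOf g = p} → Sylow p G := fun g =>
    sylowOfCardPrime P hP (Subgroup.zpowers g.1) (by rw [Nat.card_zpowers, g.2])
  apply card_eq_mul_of_fibres f
  intro Q
  have hQ : Nat.card Q = p := by rw [card_sylow_eq P Q, hP]
  have hord : ∀ b : Q, b ≠ 1 → orderOf (b : G) = p := by
    intro b hb
    have hdvd : orderOf b ∣ Nat.card Q := orderOf_dvd_natCard b
    rw [hQ] at hdvd
    rcases (Nat.dvd_prime hp.1).mp hdvd with h | h
    · exact absurd (orderOf_eq_one_iff.mp h) hb
    · rw [Subgroup.orderOf_coe]; exact h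
  have e1 : Nat.card {a : {g : G // orderOf g = p} // f a = Q} = Nat.card {g : Q // g ≠ 1} := by
    apply Nat.card_congr
    refine
      { toFun := fun a => ⟨⟨a.1.1, ?_⟩, ?_⟩
        invFun := fun b => ⟨⟨b.1.1, hord b.1 b.2⟩, ?_⟩
        left_inv := fun a => rfl
        right_inv := fun b => rfl }
    · have := a.2
      have h2 : (f a.1 : Subgroup G) = Q := by rw [this]
      have h3 : a.1.1 ∈ (f a.1 : Subgroup G) := Subgroup.mem_zpowers a.1.1
      rw [h2] at h3
      exact h3
    · intro h
      have h1 : a.1.1 = 1 := congrArg Subtype.val h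
      have h2 := a.1.2
      rw [h1, orderOf_one] at h2
      exact hp.1.one_lt.ne h2
    · apply Sylow.ext
      change Subgroup.zpowers b.1.1 = Q
      apply Subgroup.eq_of_le_of_card_ge
      · exact Subgroup.zpowers_le.mpr b.1.2
      · rw [Nat.card_zpowers, hQ, hord b.1 b.2]
  rw [e1]
  have : Nat.card {g : Q // g ≠ 1} = Nat.card Q - 1 := by
    classical
    have := Fintype.ofFinite Q
    rw [Nat.card_eq_fintype_card, Nat.card_eq_fintype_card, Fintype.card_subtype_compl,
      Fintype.card_subtype_eq]
    rfl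
  rw [this, hQ]

/-- Counting elements by their orders. -/
theorem sum_card_orderOf_le [Finite G] (D : Finset ℕ) :
    ∑ d ∈ D, Nat.card {g : G // orderOf g = d} ≤ Nat.card G := by
  classical
  have := Fintype.ofFinite G
  have h1 : ∀ d, Nat.card {g : G // orderOf g = d} = (Finset.univ.filter (fun g : G => orderOf g = d)).card := by
    intro d
    rw [Nat.card_eq_fintype_card, Fintype.card_subtype]
  simp only [h1]
  have h2 : ((Finset.univ : Finset G).filter (fun g => orderOf g ∈ D)).card
      = ∑ d ∈ D, (((Finset.univ : Finset G).filter (fun g => orderOf g ∈ D)).filter (fun g => orderOf g = d)).card :=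
    Finset.card_eq_sum_card_fiberwise (fun x hx => (Finset.mem_filter.mp hx).2)
  have h3 : ∀ d ∈ D, (((Finset.univ : Finset G).filter (fun g => orderOf g ∈ D)).filter (fun g => orderOf g = d))
      = (Finset.univ.filter (fun g : G => orderOf g = d)) := by
    intro d hd
    ext g
    simp only [Finset.mem_filter, Finset.mem_univ, true_and]
    constructor
    · intro h; exact h.2
    · intro h; exact ⟨h ▸ hd, h⟩
  rw [Finset.sum_congr rfl (fun d hd => by rw [h3 d hd])] at h2
  rw [← h2, Nat.card_eq_fintype_card]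
  exact Finset.card_le_univ _

/-- If `|G| = p ^ k * m` with `p ∤ m` then Sylow `p`-subgroups have order `p ^ k`. -/
theorem sylow_card_eq_of_card_eq [Finite G] {p : ℕ} [hp : Fact p.Prime] (P : Sylow p G) (k m : ℕ)
    (hG : Nat.card G = p ^ k * m) (hm : ¬ p ∣ m) : Nat.card P = p ^ k := by
  rw [Sylow.card_eq_multiplicity, hG]
  have hm0 : m ≠ 0 := fun h => hm (h ▸ dvd_zero p)
  have hpk : p ^ k ≠ 0 := pow_ne_zero _ hp.1.ne_zero
  rw [Nat.factorization_mul hpk hm0, Nat.Prime.factorization_pow hp.1, Finsupp.add_apply,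
    Nat.factorization_eq_zero_of_not_dvd hm]
  simp

theorem sylow_index_eq_of_card_eq [Finite G] {p : ℕ} [hp : Fact p.Prime] (P : Sylow p G) (k m : ℕ)
    (hG : Nat.card G = p ^ k * m) (hm : ¬ p ∣ m) : (P : Subgroup G).index = m := by
  have h1 := sylow_card_eq_of_card_eq P k m hG hm
  have h2 := (P : Subgroup G).index_mul_card
  rw [h1, hG, mul_comm] at h2
  exact Nat.eq_of_mul_eq_mul_left (pow_pos hp.1.pos k) h2

/-- If the index of a Sylow `p`-subgroup is smaller than `p`, it is the only one. -/
theorem card_sylow_eq_one_of_index_lt [Finite G] {p : ℕ} [hp : Fact p.Prime] (P : Sylow p G)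
    (h : (P : Subgroup G).index < p) : Nat.card (Sylow p G) = 1 := by
  have h1 : Nat.card (Sylow p G) ∣ (P : Subgroup G).index := P.card_dvd_index
  have h2 : Nat.card (Sylow p G) ≡ 1 [MOD p] := card_sylow_modEq_one p G
  have hpos : 0 < (P : Subgroup G).index := Nat.pos_of_ne_zero (Subgroup.index_ne_zero_of_finite)
  have h3 : Nat.card (Sylow p G) ≤ (P : Subgroup G).index := Nat.le_of_dvd hpos h1
  have h4 : Nat.card (Sylow p G) < p := lt_of_le_of_lt h3 h
  have h5 : Nat.card (Sylow p G) % p = 1 % p := h2
  rw [Nat.mod_eq_of_lt h4, Nat.mod_eq_of_lt hp.1.one_lt] at h5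
  exact h5

/-- Order of a product `H ⊔ N` with `N` normal and `H ⊓ N = ⊥`. -/
theorem card_sup_of_normal_of_disjoint [Finite G] (H N : Subgroup G) [N.Normal] (h : H ⊓ N = ⊥) :
    Nat.card (H ⊔ N : Subgroup G) = Nat.card H * Nat.card N := by
  have h1 : N.relIndex (H ⊔ N) = N.relIndex H := Subgroup.relIndex_sup_right H N
  have h2 : N.relIndex H = Nat.card H := by
    rw [← Subgroup.inf_relIndex_right, inf_comm, h, Subgroup.relIndex_bot_left]
  have h3 : N.relIndex (H ⊔ N) * Nat.card N = Nat.card (H ⊔ N : Subgroup G) := by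
    have := (N.subgroupOf (H ⊔ N)).index_mul_card
    rw [Nat.card_congr (Subgroup.subgroupOfEquivOfLe (le_sup_right : N ≤ H ⊔ N)).toEquiv] at this
    exact this
  rw [← h3, h1, h2]

/-- A normal subgroup of order less than `p` normalizes every Sylow `p`-subgroup. -/
theorem le_normalizer_sylow_of_card_lt [Finite G] {p : ℕ} [hp : Fact p.Prime] (R : Sylow p G)
    (N : Subgroup G) [N.Normal] (h : Nat.card N < p) :
    N ≤ Subgroup.normalizer ((R : Subgroup G) : Set G) := by
  have hdisj : (R : Subgroup G) ⊓ N = ⊥ := by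
    have h1 : IsPGroup p ((R : Subgroup G) ⊓ N : Subgroup G) := R.2.to_le inf_le_left
    rcases h1.card_eq_or_dvd with h2 | h2
    · exact (Subgroup.card_eq_one).mp h2
    · exfalso
      have h3 : Nat.card ((R : Subgroup G) ⊓ N : Subgroup G) ∣ Nat.card N :=
        Subgroup.card_dvd_of_le inf_le_right
      have h4 : p ≤ Nat.card N := Nat.le_of_dvd Nat.card_pos (dvd_trans h2 h3)
      omega
  have hcard := card_sup_of_normal_of_disjoint (R : Subgroup G) N hdisj
  let R' : Sylow p ((R : Subgroup G) ⊔ N : Subgroup G) := R.subtype le_sup_left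
  have hR'card : Nat.card (R' : Subgroup ((R : Subgroup G) ⊔ N : Subgroup G)) = Nat.card R := by
    rw [Sylow.coe_subtype]
    exact Nat.card_congr (Subgroup.subgroupOfEquivOfLe (le_sup_left : (R : Subgroup G) ≤ (R : Subgroup G) ⊔ N)).toEquiv
  have hidx : (R' : Subgroup ((R : Subgroup G) ⊔ N : Subgroup G)).index = Nat.card N := by
    have := (R' : Subgroup ((R : Subgroup G) ⊔ N : Subgroup G)).index_mul_card
    rw [hR'card, hcard, mul_comm] at this
    exact Nat.eq_of_mul_eq_mul_left Nat.card_pos this
  have hone := card_sylow_eq_one_of_index_lt R' (by rw [hidx]; exact h)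
  have hnorm := sylow_normal_of_card_eq_one R' hone
  rw [Sylow.coe_subtype] at hnorm
  exact le_trans le_sup_right ((Subgroup.normal_subgroupOf_iff_le_normalizer le_sup_left).mp hnorm)

end Cfsg.Agent.Lib.Helper3
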