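import Mathlib
import Cfsg.Agent.Lib.Helper3.SylowCount

set_option autoImplicit false

namespace Cfsg.Agent.Lib.Helper3

open Subgroup

variable {G : Type*} [Group G]

/-- The N/C theorem: `|N_G(H) : C_G(H)|` divides `|Aut H|`. -/
theorem relIndex_centralizer_normalizer_dvd_card_mulAut (H : Subgroup G) [Finite H] :
    (centralizer (H : Set G)).relIndex (normalizer (H : Set G)) ∣ Nat.card (MulAut H) := by
  have key := card_dvd_of_injective _ (QuotientGroup.kerLift_injective H.normalizerMonoidHom)
  rw [normalizerMonoidHom_ker, ← index, ← relIndex] at key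
  exact key

/-- For an abelian subgroup `H`, `|N_G(H) : C_G(H)|` divides `|N_G(H) : H|`. -/
theorem relIndex_centralizer_normalizer_dvd_relIndex (H : Subgroup G)
    (hH : H ≤ centralizer (H : Set G)) :
    (centralizer (H : Set G)).relIndex (normalizer (H : Set G)) ∣ H.relIndex (normalizer (H : Set G)) :=
  relIndex_dvd_of_le_left _ hH

theorem le_centralizer_of_isMulCommutative (H : Subgroup G) [hc : IsMulCommutative H] :
    H ≤ centralizer (H : Set G) := by
  intro x hx y hy
  have := hc.is_comm.comm ⟨y, hy⟩ ⟨x, hx⟩
  exact congrArg Subtype.val this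

/-- Burnside's normal `p`-complement theorem, phrased for simple groups: in a simple group whose
order is not `p`-power... a Sylow `p`-subgroup central in its normalizer forces `P = ⊥` or `P = ⊤`. -/
theorem sylow_eq_bot_or_top_of_normalizer_le_centralizer [Finite G] [IsSimpleGroup G] {p : ℕ}
    [Fact p.Prime] (P : Sylow p G) (hP : normalizer ((P : Subgroup G) : Set G) ≤ centralizer ((P : Subgroup G) : Set G)) :
    (P : Subgroup G) = ⊥ ∨ (P : Subgroup G) = ⊤ := by
  have hc := MonoidHom.ker_transferSylow_isComplement' P hP
  rcases (MonoidHom.normal_ker (MonoidHom.transferSylow P hP)).eq_bot_or_eq_top with h | h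
  · right
    rw [h] at hc
    exact (Subgroup.isComplement'_bot_left).mp hc
  · left
    rw [h] at hc
    exact (Subgroup.isComplement'_top_left).mp hc

/-- Automorphisms permute the non-identity elements. -/
def mulAutToPermNeOne (H : Type*) [Group H] : MulAut H →* Equiv.Perm {h : H // h ≠ 1} where
  toFun φ :=
    { toFun := fun h => ⟨φ h.1, fun hh => h.2 (by simpa using hh)⟩
      invFun := fun h => ⟨φ.symm h.1, fun hh => h.2 (by simpa using hh)⟩
      left_inv := fun h => by simp
      right_inv := fun h => by simp }
  map_one' := by ext; simp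
  map_mul' φ ψ := by ext; simp

theorem mulAutToPermNeOne_injective (H : Type*) [Group H] :
    Function.Injective (mulAutToPermNeOne H) := by
  intro φ ψ h
  ext x
  by_cases hx : x = 1
  · subst hx; simp
  · have := congrArg (fun σ : Equiv.Perm {h : H // h ≠ 1} => (σ ⟨x, hx⟩).1) h
    simpa [mulAutToPermNeOne] using this

/-- `|Aut H|` divides `(|H| - 1)!`. -/
theorem card_mulAut_dvd_factorial (H : Type*) [Group H] [Finite H] :
    Nat.card (MulAut H) ∣ (Nat.card H - 1).factorial := by
  have h1 := card_dvd_of_injective _ (mulAutToPermNeOne_injective H)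
  rw [Nat.card_perm] at h1
  have h2 : Nat.card {h : H // h ≠ 1} = Nat.card H - 1 := by
    classical
    have := Fintype.ofFinite H
    rw [Nat.card_eq_fintype_card, Nat.card_eq_fintype_card, Fintype.card_subtype_compl,
      Fintype.card_subtype_eq]
  rwa [h2] at h1

end Cfsg.Agent.Lib.Helper3
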