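import Mathlib
import Cfsg.Prelude.Def_Local
import Cfsg.Agent.Lib.Helper3.Components7
import Cfsg.Agent.Lib.Helper3.NC

set_option autoImplicit false

/-!
`Z(E) = F ∩ E`, `E = F*^(∞)`, `|G| ≤ |F*(G)|!`.
-/

namespace Cfsg.Agent.Lib.Helper3

open Subgroup
open scoped commutatorElement Pointwise

variable {G : Type*} [Group G]

/-- the centre of a subgroup, viewed in the big group -/
theorem center_map_subtype (H : Subgroup G) :
    (Subgroup.center ↥H).map H.subtype = H ⊓ centralizer (H : Set G) := by
  ext x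
  rw [Subgroup.mem_map, Subgroup.mem_inf]
  constructor
  · rintro ⟨y, hy, rfl⟩
    refine ⟨y.2, ?_⟩
    rw [Subgroup.mem_centralizer_iff]
    intro h hh
    have := Subgroup.mem_center_iff.mp hy ⟨h, hh⟩
    exact congrArg Subtype.val this
  · rintro ⟨hx1, hx2⟩
    refine ⟨⟨x, hx1⟩, ?_, rfl⟩
    rw [Subgroup.mem_center_iff]
    intro g
    apply Subtype.ext
    exact Subgroup.mem_centralizer_iff.mp hx2 g g.2

theorem isNilpotent_of_le_centralizer {N : Subgroup G} (h : N ≤ centralizer (N : Set G)) :
    Group.IsNilpotent N := by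
  apply isNilpotent_of_commutator_le_centralizer
  have : ⁅N, N⁆ = ⊥ := Subgroup.commutator_eq_bot_iff_le_centralizer.mpr h
  rw [this]; exact bot_le

/-- `Z(E(G)) = F(G) ∩ E(G)` -/
theorem center_layer_map_subtype [Finite G] :
    (Subgroup.center ↥(Cfsg.layer G)).map (Cfsg.layer G).subtype =
      Cfsg.fittingSubgroup G ⊓ Cfsg.layer G := by
  rw [center_map_subtype]
  apply le_antisymm
  · apply le_inf _ inf_le_left
    apply Cfsg.Agent.Lib.Lead.le_fittingSubgroup inferInstance
    apply isNilpotent_of_le_centralizer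
    exact inf_le_right.trans (Subgroup.centralizer_le inf_le_left)
  · apply le_inf inf_le_right
    have := commutator_layer_fitting_inf_layer (G := G)
    rw [Subgroup.commutator_comm, Subgroup.commutator_eq_bot_iff_le_centralizer] at this
    exact this

/-- `(EA)' ≤ E A'` for `E` normal -/
theorem commutator_sup_le (E A : Subgroup G) [E.Normal] :
    ⁅E ⊔ A, E ⊔ A⁆ ≤ E ⊔ ⁅A, A⁆ := by
  have h1 : (⁅E ⊔ A, E ⊔ A⁆).map (QuotientGroup.mk' E) ≤ (E ⊔ ⁅A, A⁆).map (QuotientGroup.mk' E) := by
    have hE : E.map (QuotientGroup.mk' E) = ⊥ := by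
      rw [Subgroup.map_eq_bot_iff, QuotientGroup.ker_mk']
    rw [Subgroup.map_commutator, Subgroup.map_sup, Subgroup.map_sup, hE, bot_sup_eq, bot_sup_eq,
      Subgroup.map_commutator]
  have h2 := Subgroup.comap_mono (f := QuotientGroup.mk' E) h1
  rw [Subgroup.comap_map_eq, Subgroup.comap_map_eq, QuotientGroup.ker_mk'] at h2
  calc ⁅E ⊔ A, E ⊔ A⁆ ≤ ⁅E ⊔ A, E ⊔ A⁆ ⊔ E := le_sup_left
    _ ≤ E ⊔ ⁅A, A⁆ ⊔ E := h2
    _ = E ⊔ ⁅A, A⁆ := by rw [sup_comm, ← sup_assoc, sup_idem]

/-- the derived series of a subgroup, computed in the big group -/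
theorem derivedSeries_map_subtype_succ (H : Subgroup G) (n : ℕ) :
    (derivedSeries ↥H (n + 1)).map H.subtype =
      ⁅(derivedSeries ↥H n).map H.subtype, (derivedSeries ↥H n).map H.subtype⁆ := by
  rw [derivedSeries_succ, Subgroup.map_commutator]

theorem derivedSeries_map_subtype_zero (H : Subgroup G) :
    (derivedSeries ↥H 0).map H.subtype = H := by
  rw [derivedSeries_zero, ← MonoidHom.range_eq_map, Subgroup.range_subtype]

theorem le_derivedSeries_map_subtype_of_perfect {E H : Subgroup G} (hperf : ⁅E, E⁆ = E)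
    (hle : E ≤ H) (n : ℕ) : E ≤ (derivedSeries ↥H n).map H.subtype := by
  induction n with
  | zero => rw [derivedSeries_map_subtype_zero]; exact hle
  | succ n ih =>
    rw [derivedSeries_map_subtype_succ]
    calc E = ⁅E, E⁆ := hperf.symm
      _ ≤ _ := Subgroup.commutator_mono ih ih

theorem derivedSeries_sup_le (E A : Subgroup G) [E.Normal] (n : ℕ) :
    (derivedSeries ↥(E ⊔ A) n).map (E ⊔ A).subtype ≤ E ⊔ (derivedSeries ↥A n).map A.subtype := by
  induction n with
  | zero => rw [derivedSeries_map_subtype_zero, derivedSeries_map_subtype_zero]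
  | succ n ih =>
    rw [derivedSeries_map_subtype_succ, derivedSeries_map_subtype_succ]
    exact (Subgroup.commutator_mono ih ih).trans (commutator_sup_le _ _)

/-- `E(G)` is the last term of the derived series of `F*(G)` -/
theorem iInf_derivedSeries_generalizedFittingSubgroup [Finite G] :
    (⨅ n : ℕ, (derivedSeries ↥(Cfsg.generalizedFittingSubgroup G) n).map
      (Cfsg.generalizedFittingSubgroup G).subtype) = Cfsg.layer G := by
  apply le_antisymm
  · obtain ⟨n, hn⟩ := (Group.isSolvable_def _).mp (isSolvable_fittingSubgroup (G := G))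
    refine (iInf_le _ n).trans ?_
    have := derivedSeries_sup_le (Cfsg.layer G) (Cfsg.fittingSubgroup G) n
    rw [hn, Subgroup.map_bot, sup_bot_eq] at this
    exact this
  · apply le_iInf
    intro n
    exact le_derivedSeries_map_subtype_of_perfect commutator_layer_layer
      layer_le_generalizedFittingSubgroup n

/-- `|G| ≤ |F*(G)|!` -/
theorem card_le_factorial_card_generalizedFittingSubgroup [Finite G] :
    Nat.card G ≤ (Nat.card ↥(Cfsg.generalizedFittingSubgroup G)).factorial := by
  set Fs := Cfsg.generalizedFittingSubgroup G with hFs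
  have h1 := relIndex_centralizer_normalizer_dvd_card_mulAut Fs
  rw [Subgroup.normalizer_eq_top, Subgroup.relIndex_top_right] at h1
  have h2 := card_mulAut_dvd_factorial ↥Fs
  have h3 : (centralizer (Fs : Set G)).index ≤ (Nat.card ↥Fs - 1).factorial :=
    Nat.le_of_dvd (Nat.factorial_pos _) (h1.trans h2)
  have h4 : Nat.card ↥(centralizer (Fs : Set G)) ≤ Nat.card ↥Fs :=
    Subgroup.card_le_of_le centralizer_generalizedFittingSubgroup_le
  have h5 := (centralizer (Fs : Set G)).card_mul_index
  rw [← h5, ← Nat.mul_factorial_pred (Nat.card_pos (α := ↥Fs)).ne']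
  exact Nat.mul_le_mul h4 h3

end Cfsg.Agent.Lib.Helper3
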