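import Mathlib
import Cfsg.Prelude.Def_Local
import Cfsg.Agent.Lib.Helper3.Components8

set_option autoImplicit false

/-!
The centre of a product of pairwise commuting subgroups; the centre of the layer.
Subnormal subgroups `A` with `E(A) = A`.
-/

namespace Cfsg.Agent.Lib.Helper3

open Subgroup
open scoped commutatorElement Pointwise

variable {G : Type*} [Group G]

/-- elements of `L ⊔ M` when `L` centralizes `M` -/
theorem exists_mul_of_mem_sup_of_commutator_eq_bot {L M : Subgroup G} (h : ⁅L, M⁆ = ⊥) {z : G}
    (hz : z ∈ L ⊔ M) : ∃ l ∈ L, ∃ m ∈ M, z = l * m := by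
  have hLE : L ≤ normalizer (M : Set G) :=
    (Subgroup.commutator_eq_bot_iff_le_centralizer.mp h).trans (Subgroup.centralizer_le_normalizer _)
  have := Subgroup.coe_mul_of_left_le_normalizer_right L M hLE
  have hz' : z ∈ ((L ⊔ M : Subgroup G) : Set G) := hz
  rw [this] at hz'
  obtain ⟨l, hl, m, hm, rfl⟩ := hz'
  exact ⟨l, hl, m, hm, rfl⟩

/-- the centre of a product of finitely many pairwise commuting subgroups -/
theorem sup_inf_centralizer_le_of_pairwise_commute [DecidableEq (Subgroup G)]
    (S : Finset (Subgroup G))
    (hS : ∀ K ∈ S, ∀ L ∈ S, K ≠ L → ⁅K, L⁆ = ⊥) :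
    S.sup id ⊓ centralizer ((S.sup id : Subgroup G) : Set G) ≤
      S.sup (fun L => L ⊓ centralizer (L : Set G)) := by
  induction S using Finset.induction_on with
  | empty => simp
  | insert L S' hL ih =>
    have ih' := ih (fun K hK L' hL' hne =>
      hS K (Finset.mem_insert_of_mem hK) L' (Finset.mem_insert_of_mem hL') hne)
    rw [Finset.sup_insert, Finset.sup_insert]
    simp only [id]
    set M : Subgroup G := S'.sup id with hM
    have hLM : ⁅L, M⁆ = ⊥ := by
      rw [Subgroup.commutator_comm, Subgroup.commutator_eq_bot_iff_le_centralizer, hM,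
        Finset.sup_le_iff]
      intro K hK
      simp only [id]
      rw [← Subgroup.commutator_eq_bot_iff_le_centralizer]
      apply hS K (Finset.mem_insert_of_mem hK) L (Finset.mem_insert_self _ _)
      rintro rfl
      exact hL hK
    have hLcM : L ≤ centralizer (M : Set G) := Subgroup.commutator_eq_bot_iff_le_centralizer.mp hLM
    have hMcL : M ≤ centralizer (L : Set G) := by
      rw [Subgroup.commutator_comm] at hLM
      exact Subgroup.commutator_eq_bot_iff_le_centralizer.mp hLM
    rintro z ⟨hz1, hz2⟩
    obtain ⟨l, hl, m, hm, rfl⟩ := exists_mul_of_mem_sup_of_commutator_eq_bot hLM hz1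
    have hzL : l * m ∈ centralizer (L : Set G) := Subgroup.centralizer_le (le_sup_left : L ≤ L ⊔ M) hz2
    have hzM : l * m ∈ centralizer (M : Set G) := Subgroup.centralizer_le (le_sup_right : M ≤ L ⊔ M) hz2
    have hlL : l ∈ centralizer (L : Set G) := by
      have : l = (l * m) * m⁻¹ := by group
      rw [this]
      exact Subgroup.mul_mem _ hzL (Subgroup.inv_mem _ (hMcL hm))
    have hmM : m ∈ centralizer (M : Set G) := by
      have : m = l⁻¹ * (l * m) := by group
      rw [this]
      exact Subgroup.mul_mem _ (Subgroup.inv_mem _ (hLcM hl)) hzM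
    apply Subgroup.mul_mem
    · exact (le_sup_left : L ⊓ centralizer (L : Set G) ≤ _) ⟨hl, hlL⟩
    · exact (le_sup_right : _ ≤ (L ⊓ centralizer (L : Set G)) ⊔ _) (ih' ⟨hm, hmM⟩)

/-- `Z(E(G))` is generated by the centres of the components -/
theorem center_layer_eq_iSup [Finite G] :
    (Subgroup.center ↥(Cfsg.layer G)).map (Cfsg.layer G).subtype =
      ⨆ L : {K : Subgroup G // Cfsg.IsComponent K},
        (Subgroup.center ↥(L : Subgroup G)).map (L : Subgroup G).subtype := by
  classical
  rw [center_map_subtype]
  simp_rw [center_map_subtype]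
  apply le_antisymm
  · have hfin : {K : Subgroup G | Cfsg.IsComponent K}.Finite := Set.toFinite _
    set S : Finset (Subgroup G) := hfin.toFinset with hSdef
    have hmem : ∀ K, K ∈ S ↔ Cfsg.IsComponent K := by
      intro K; rw [hSdef, Set.Finite.mem_toFinset]; rfl
    have hsup : Cfsg.layer G = S.sup id := by
      rw [Finset.sup_id_eq_sSup, hSdef, Set.Finite.coe_toFinset]; rfl
    have key := sup_inf_centralizer_le_of_pairwise_commute S (fun K hK L hL hne =>
      IsComponent.commutator_eq_bot_of_ne ((hmem K).mp hK) ((hmem L).mp hL) hne)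
    rw [← hsup] at key
    refine key.trans ?_
    rw [Finset.sup_le_iff]
    intro L hL
    exact le_iSup (fun L : {K : Subgroup G // Cfsg.IsComponent K} =>
      (L : Subgroup G) ⊓ centralizer ((L : Subgroup G) : Set G)) ⟨L, (hmem L).mp hL⟩
  · apply iSup_le
    rintro ⟨L, hL⟩
    apply le_inf (inf_le_left.trans (IsComponent.le_layer hL))
    -- `Z(L)` centralizes every component
    rw [← Subgroup.commutator_eq_bot_iff_le_centralizer, Subgroup.commutator_comm]
    apply commutator_layer_eq_bot_of_forall
    intro K hK
    by_cases hKL : K = L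
    · subst hKL
      rw [Subgroup.commutator_comm, Subgroup.commutator_eq_bot_iff_le_centralizer]
      exact inf_le_right
    · rw [eq_bot_iff, ← IsComponent.commutator_eq_bot_of_ne hK hL hKL]
      exact Subgroup.commutator_mono le_rfl inf_le_left

/-- a subnormal subgroup which is its own layer lies in the layer and is normal there -/
theorem le_layer_of_layer_eq_top {A : Subgroup G} (hsn : A.IsSubnormal)
    (hA : Cfsg.layer ↥A = ⊤) : A ≤ Cfsg.layer G := by
  have := layer_map_subtype_le hsn
  rw [hA, ← MonoidHom.range_eq_map, Subgroup.range_subtype] at this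
  exact this

theorem layer_le_normalizer_of_isSubnormal {A : Subgroup G} (hsn : A.IsSubnormal) :
    Cfsg.layer G ≤ normalizer (A : Set G) := by
  rw [layer_le_iff]
  intro K hK
  rcases IsComponent.le_or_commutator_eq_bot_of_isSubnormal hK hsn with h | h
  · exact h.trans Subgroup.le_normalizer
  · exact (Subgroup.commutator_eq_bot_iff_le_centralizer.mp h).trans
      (Subgroup.centralizer_le_normalizer _)

end Cfsg.Agent.Lib.Helper3
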