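import Mathlib
import Cfsg.Prelude.Def_Local
import Cfsg.Agent.Lib.Helper3.Components9

set_option autoImplicit false

/-!
Layer of a subnormal subgroup; subnormal subgroups of `F*`; `F*(A) ∩ B = F*(B)`.
Solvable normal subgroups of `C_G(F(G))`.
-/

namespace Cfsg.Agent.Lib.Helper3

open Subgroup
open scoped commutatorElement Pointwise

variable {G : Type*} [Group G]

/-- The layer of a subnormal subgroup `S` is generated by the components of `G` inside `S`. -/
theorem layer_map_subtype_eq {S : Subgroup G} (hS : S.IsSubnormal) :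
    (Cfsg.layer S).map S.subtype = sSup {K : Subgroup G | Cfsg.IsComponent K ∧ K ≤ S} := by
  apply le_antisymm
  · rw [Subgroup.map_le_iff_le_comap, layer_le_iff]
    intro K hK
    rw [← Subgroup.map_le_iff_le_comap]
    apply le_sSup
    refine ⟨IsComponent.map_subtype hS hK, ?_⟩
    rintro _ ⟨y, _, rfl⟩; exact y.2
  · apply sSup_le
    rintro K ⟨hK, hKS⟩
    have h1 : K.subgroupOf S ≤ Cfsg.layer S := IsComponent.le_layer (IsComponent.subgroupOf hK hKS)
    intro x hx
    exact ⟨⟨x, hKS hx⟩, h1 hx, rfl⟩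

theorem layer_map_subtype_mono {S T : Subgroup G} (hS : S.IsSubnormal) (hT : T.IsSubnormal)
    (hST : S ≤ T) : (Cfsg.layer S).map S.subtype ≤ (Cfsg.layer T).map T.subtype := by
  rw [layer_map_subtype_eq hS, layer_map_subtype_eq hT]
  apply sSup_le_sSup
  rintro K ⟨hK, hKS⟩
  exact ⟨hK, hKS.trans hST⟩

theorem fittingSubgroup_map_subtype_mono [Finite G] {S T : Subgroup G} (hS : S.IsSubnormal)
    (hT : T.IsSubnormal) (hST : S ≤ T) :
    (Cfsg.fittingSubgroup S).map S.subtype ≤ (Cfsg.fittingSubgroup T).map T.subtype := by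
  rw [fittingSubgroup_map_subtype_eq_of_isSubnormal hS, fittingSubgroup_map_subtype_eq_of_isSubnormal hT]
  exact inf_le_inf_left _ hST

/-- the generalized Fitting subgroup of a subgroup, seen in the big group -/
theorem generalizedFittingSubgroup_map_subtype (S : Subgroup G) :
    (Cfsg.generalizedFittingSubgroup S).map S.subtype =
      (Cfsg.layer S).map S.subtype ⊔ (Cfsg.fittingSubgroup S).map S.subtype := by
  unfold Cfsg.generalizedFittingSubgroup
  rw [Subgroup.map_sup]

/-- A subnormal subgroup `S` of `G` inside `F*(G)` is `E(S) F(S)`. -/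
theorem le_layer_sup_fitting_of_le_generalizedFittingSubgroup [Finite G] {S : Subgroup G}
    (hS : S.IsSubnormal) (hle : S ≤ Cfsg.generalizedFittingSubgroup G) :
    S ≤ (Cfsg.layer S).map S.subtype ⊔ (Cfsg.fittingSubgroup G ⊓ S) := by
  rw [layer_map_subtype_eq hS]
  set E₁ : Subgroup G := sSup {K : Subgroup G | Cfsg.IsComponent K ∧ K ≤ S} with hE₁
  set E₂ : Subgroup G := sSup {K : Subgroup G | Cfsg.IsComponent K ∧ ⁅K, S⁆ = ⊥} with hE₂
  have hE₁S : E₁ ≤ S := sSup_le fun K hK => hK.2
  have hE₁E : E₁ ≤ Cfsg.layer G := sSup_le fun K hK => IsComponent.le_layer hK.1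
  have hE₂E : E₂ ≤ Cfsg.layer G := sSup_le fun K hK => IsComponent.le_layer hK.1
  have hE : Cfsg.layer G ≤ E₁ ⊔ E₂ := by
    rw [layer_le_iff]
    intro K hK
    rcases IsComponent.le_or_commutator_eq_bot_of_isSubnormal hK hS with h | h
    · have hmem : K ∈ {K : Subgroup G | Cfsg.IsComponent K ∧ K ≤ S} := ⟨hK, h⟩
      exact (le_sSup hmem).trans le_sup_left
    · have hmem : K ∈ {K : Subgroup G | Cfsg.IsComponent K ∧ ⁅K, S⁆ = ⊥} := ⟨hK, h⟩
      exact (le_sSup hmem).trans le_sup_right
  -- S centralizes E₂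
  have hSE₂ : S ≤ centralizer (E₂ : Set G) := by
    rw [← Subgroup.commutator_eq_bot_iff_le_centralizer, Subgroup.commutator_comm,
      Subgroup.commutator_eq_bot_iff_le_centralizer, hE₂]
    apply sSup_le
    rintro K ⟨_, hK⟩
    exact Subgroup.commutator_eq_bot_iff_le_centralizer.mp hK
  -- E₁ centralizes E₂
  have hE₁E₂ : ⁅E₁, E₂⁆ = ⊥ := by
    rw [eq_bot_iff]
    have : ⁅S, E₂⁆ = ⊥ := Subgroup.commutator_eq_bot_iff_le_centralizer.mpr hSE₂
    rw [← this]
    exact Subgroup.commutator_mono hE₁S le_rfl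
  -- F centralizes E
  have hFE : Cfsg.fittingSubgroup G ≤ centralizer ((Cfsg.layer G : Subgroup G) : Set G) := by
    rw [← Subgroup.commutator_eq_bot_iff_le_centralizer, Subgroup.commutator_comm]
    exact commutator_layer_fittingSubgroup
  have hEF : ⁅Cfsg.layer G, Cfsg.fittingSubgroup G⁆ = ⊥ := commutator_layer_fittingSubgroup
  intro s hs
  have hs' : s ∈ E₁ ⊔ (E₂ ⊔ Cfsg.fittingSubgroup G) := by
    have := hle hs
    unfold Cfsg.generalizedFittingSubgroup at this
    rw [← sup_assoc]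
    exact (sup_le_sup_right hE _) this
  have hc1 : ⁅E₁, E₂ ⊔ Cfsg.fittingSubgroup G⁆ = ⊥ := by
    rw [Subgroup.commutator_eq_bot_iff_le_centralizer]
    have h1 : E₁ ≤ centralizer (E₂ : Set G) := Subgroup.commutator_eq_bot_iff_le_centralizer.mp hE₁E₂
    have h2 : E₁ ≤ centralizer ((Cfsg.fittingSubgroup G : Subgroup G) : Set G) :=
      hE₁E.trans (Subgroup.commutator_eq_bot_iff_le_centralizer.mp hEF)
    intro x hx
    rw [Subgroup.mem_centralizer_iff]
    intro y hy
    have hy' : y ∈ centralizer ({x} : Set G) := by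
      have : E₂ ⊔ Cfsg.fittingSubgroup G ≤ centralizer ({x} : Set G) := by
        apply sup_le
        · intro e he
          rw [Subgroup.mem_centralizer_singleton_iff]
          exact (Subgroup.mem_centralizer_iff.mp (h1 hx) e he)
        · intro f hf
          rw [Subgroup.mem_centralizer_singleton_iff]
          exact (Subgroup.mem_centralizer_iff.mp (h2 hx) f hf)
      exact this hy
    rw [Subgroup.mem_centralizer_singleton_iff] at hy'
    exact hy'
  obtain ⟨e₁, he₁, t, ht, rfl⟩ := exists_mul_of_mem_sup_of_commutator_eq_bot hc1 hs'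
  have hc2 : ⁅E₂, Cfsg.fittingSubgroup G⁆ = ⊥ := by
    rw [eq_bot_iff, ← hEF]
    exact Subgroup.commutator_mono hE₂E le_rfl
  obtain ⟨e₂, he₂, f, hf, rfl⟩ := exists_mul_of_mem_sup_of_commutator_eq_bot hc2 ht
  -- e₂ is central in E
  have htS : e₂ * f ∈ S := by
    have : e₂ * f = e₁⁻¹ * (e₁ * (e₂ * f)) := by group
    rw [this]
    exact S.mul_mem (S.inv_mem (hE₁S he₁)) hs
  have he₂c₂ : e₂ ∈ centralizer (E₂ : Set G) := by
    have : e₂ = (e₂ * f) * f⁻¹ := by group
    rw [this]
    refine Subgroup.mul_mem _ (hSE₂ htS) (Subgroup.inv_mem _ ?_)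
    exact Subgroup.centralizer_le hE₂E (hFE hf)
  have he₂c₁ : e₂ ∈ centralizer (E₁ : Set G) := by
    rw [Subgroup.commutator_comm] at hE₁E₂
    exact Subgroup.commutator_eq_bot_iff_le_centralizer.mp hE₁E₂ he₂
  have he₂c : e₂ ∈ centralizer ((Cfsg.layer G : Subgroup G) : Set G) := by
    have h3 : Cfsg.layer G ≤ centralizer ({e₂} : Set G) := by
      refine hE.trans (sup_le ?_ ?_)
      · intro x hx
        rw [Subgroup.mem_centralizer_singleton_iff]
        exact (Subgroup.mem_centralizer_iff.mp he₂c₁ x hx)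
      · intro x hx
        rw [Subgroup.mem_centralizer_singleton_iff]
        exact (Subgroup.mem_centralizer_iff.mp he₂c₂ x hx)
    rw [Subgroup.mem_centralizer_iff]
    intro x hx
    have := h3 hx
    rw [Subgroup.mem_centralizer_singleton_iff] at this
    exact this
  have he₂F : e₂ ∈ Cfsg.fittingSubgroup G := by
    have h4 : e₂ ∈ Cfsg.layer G ⊓ centralizer ((Cfsg.layer G : Subgroup G) : Set G) :=
      ⟨hE₂E he₂, he₂c⟩
    rw [← center_map_subtype, center_layer_map_subtype] at h4
    exact h4.1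
  apply Subgroup.mul_mem
  · exact (le_sup_left : E₁ ≤ E₁ ⊔ _) he₁
  · exact (le_sup_right : _ ≤ E₁ ⊔ (Cfsg.fittingSubgroup G ⊓ S))
      ⟨Subgroup.mul_mem _ he₂F hf, htS⟩

end Cfsg.Agent.Lib.Helper3
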