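import Mathlib
import Cfsg.Prelude.Def_Local
import Cfsg.Agent.Lib.Helper3.Components10

set_option autoImplicit false

/-!
Solvable normal subgroups of `C_G(F(G))` lie in `Z(F(G))`.
-/

namespace Cfsg.Agent.Lib.Helper3

open Subgroup
open scoped commutatorElement Pointwise

variable {G : Type*} [Group G]

theorem normalizer_inf_le_normalizer_commutator (A B : Subgroup G) :
    normalizer (A : Set G) ⊓ normalizer (B : Set G) ≤ normalizer ((⁅A, B⁆ : Subgroup G) : Set G) := by
  intro g hg
  obtain ⟨hA, hB⟩ := Subgroup.mem_inf.mp hg
  rw [Subgroup.mem_normalizer_iff_map_conj_eq] at hA hB ⊢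
  rw [Subgroup.map_commutator, hA, hB]

theorem normalizer_le_normalizer_derivedSeries (N : Subgroup G) (k : ℕ) :
    normalizer (N : Set G) ≤ normalizer (((derivedSeries ↥N k).map N.subtype : Subgroup G) : Set G) := by
  induction k with
  | zero => rw [derivedSeries_map_subtype_zero]
  | succ k ih =>
    rw [derivedSeries_map_subtype_succ]
    exact (le_inf ih ih).trans (normalizer_inf_le_normalizer_commutator _ _)

theorem derivedSeries_map_subtype_le (N : Subgroup G) (k : ℕ) :
    (derivedSeries ↥N k).map N.subtype ≤ N := by
  rintro _ ⟨y, _, rfl⟩; exact y.2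

/-- Let `C = C_G(F(G))` and `N ≤ C` solvable, normalized by `C`. Then `N ≤ Z(F(G))`. -/
theorem le_fitting_inf_centralizer_of_isSolvable [Finite G] (N : Subgroup G)
    (hN : N ≤ centralizer (Cfsg.fittingSubgroup G : Set G))
    (hnorm : centralizer (Cfsg.fittingSubgroup G : Set G) ≤ normalizer (N : Set G))
    (hsolv : Group.IsSolvable ↥N) :
    N ≤ Cfsg.fittingSubgroup G ⊓ centralizer (Cfsg.fittingSubgroup G : Set G) := by
  set F := Cfsg.fittingSubgroup G with hF
  set C := centralizer (F : Set G) with hC
  have hCn : C.Normal := inferInstance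
  -- `F ⊓ C` is centralized by `C`
  have hZc : F ⊓ C ≤ centralizer (C : Set G) := by
    intro z hz
    rw [Subgroup.mem_centralizer_iff]
    intro c hc
    exact (Subgroup.mem_centralizer_iff.mp hc z hz.1).symm
  obtain ⟨n, hn⟩ := (Group.isSolvable_def _).mp hsolv
  have key : ∀ k, (derivedSeries ↥N (k + 1)).map N.subtype ≤ F ⊓ C →
      (derivedSeries ↥N k).map N.subtype ≤ F ⊓ C := by
    intro k hk
    set M := (derivedSeries ↥N k).map N.subtype with hM
    have hMN : M ≤ N := derivedSeries_map_subtype_le N k
    have hMC : M ≤ C := hMN.trans hN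
    have hCM : C ≤ normalizer (M : Set G) :=
      hnorm.trans (normalizer_le_normalizer_derivedSeries N k)
    have hMsn : M.IsSubnormal :=
      Subgroup.IsSubnormal.step M C hMC hCn.isSubnormal
        ((Subgroup.normal_subgroupOf_iff_le_normalizer hMC).mpr hCM)
    rw [derivedSeries_map_subtype_succ] at hk
    have hnil : Group.IsNilpotent M := by
      apply isNilpotent_of_commutator_le_centralizer
      exact hk.trans (hZc.trans (Subgroup.centralizer_le hMC))
    exact le_inf (le_fittingSubgroup_of_isSubnormal hMsn hnil) hMC
  have all : ∀ k, k ≤ n → (derivedSeries ↥N (n - k)).map N.subtype ≤ F ⊓ C := by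
    intro k
    induction k with
    | zero =>
      intro _
      rw [Nat.sub_zero, hn, Subgroup.map_bot]; exact bot_le
    | succ k ih =>
      intro hk
      apply key
      have : n - (k + 1) + 1 = n - k := by omega
      rw [this]
      exact ih (by omega)
  have := all n le_rfl
  rw [Nat.sub_self, derivedSeries_map_subtype_zero] at this
  exact this

end Cfsg.Agent.Lib.Helper3
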