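import Mathlib
import Cfsg.Prelude.Def_Local
import Cfsg.Agent.Lib.Helper3.Components11

set_option autoImplicit false

/-!
`E = C_E(U) [E, U]`.
-/

namespace Cfsg.Agent.Lib.Helper3

open Subgroup
open scoped commutatorElement Pointwise

variable {G : Type*} [Group G]

/-- `[E, U]` is normalized by `E` -/
theorem le_normalizer_commutator_left (E U : Subgroup G) :
    E ≤ normalizer ((⁅E, U⁆ : Subgroup G) : Set G) := by
  intro x hx
  rw [Subgroup.mem_normalizer_iff_map_conj_eq]
  have key : ∀ x ∈ E, (⁅E, U⁆).map (MulAut.conj x).toMonoidHom ≤ ⁅E, U⁆ := by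
    intro x hx
    rw [Subgroup.map_le_iff_le_comap, Subgroup.commutator_le]
    intro e he u hu
    rw [Subgroup.mem_comap]
    have : (MulAut.conj x).toMonoidHom ⁅e, u⁆ = ⁅x * e, u⁆ * ⁅x, u⁆⁻¹ := by
      simp only [MulEquiv.toMonoidHom_eq_coe, MonoidHom.coe_coe, MulAut.conj_apply,
        commutatorElement_def]
      group
    rw [this]
    exact Subgroup.mul_mem _ (Subgroup.commutator_mem_commutator (E.mul_mem hx he) hu)
      (Subgroup.inv_mem _ (Subgroup.commutator_mem_commutator hx hu))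
  apply le_antisymm (key x hx)
  intro y hy
  have h2 := key x⁻¹ (E.inv_mem hx) ⟨y, hy, rfl⟩
  refine ⟨_, h2, ?_⟩
  simp only [MulEquiv.toMonoidHom_eq_coe, MonoidHom.coe_coe, MulAut.conj_apply, inv_inv]
  group

/-- each component lies in `C_E(U)` or in `[E, U]` -/
theorem IsComponent.le_centralizer_or_le_commutator {K : Subgroup G} (hK : Cfsg.IsComponent K)
    (U : Subgroup G) :
    K ≤ centralizer (U : Set G) ∨ K ≤ ⁅Cfsg.layer G, U⁆ := by
  by_cases hU : U ≤ normalizer (K : Set G)
  · -- U normalizes K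
    have h1 : ⁅K, U⁆ ≤ K := by
      rw [Subgroup.commutator_le]
      intro k hk u hu
      have hu' := hU hu
      rw [Subgroup.mem_normalizer_iff] at hu'
      have : u * k⁻¹ * u⁻¹ ∈ K := (hu' k⁻¹).mp (K.inv_mem hk)
      have e : ⁅k, u⁆ = k * (u * k⁻¹ * u⁻¹) := by rw [commutatorElement_def]; group
      rw [e]
      exact K.mul_mem hk this
    rcases IsQuasisimple.eq_or_commutator_eq_bot hK.2 h1 (le_normalizer_commutator_left K U) with
      h2 | h2
    · right
      rw [← h2]
      exact Subgroup.commutator_mono (IsComponent.le_layer hK) le_rfl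
    · left
      have h3 : ⁅⁅K, U⁆, K⁆ = ⊥ := by rw [Subgroup.commutator_comm]; exact h2
      have h4 : ⁅⁅U, K⁆, K⁆ = ⊥ := by rw [Subgroup.commutator_comm U K]; exact h3
      have h5 := Subgroup.commutator_commutator_eq_bot_of_rotate (H₁ := K) (H₂ := K) (H₃ := U)
        h3 h4
      rw [IsQuasisimple.commutator_eq_self hK.2] at h5
      exact Subgroup.commutator_eq_bot_iff_le_centralizer.mp h5
  · -- some u moves K
    right
    rw [SetLike.not_le_iff_exists] at hU
    obtain ⟨u, hu, hun⟩ := hU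
    have hne : K.map (MulAut.conj u).toMonoidHom ≠ K := by
      intro h
      exact hun (Subgroup.mem_normalizer_iff_map_conj_eq.mpr h)
    have hL := IsComponent.map_conj hK u
    have hcomm := IsComponent.commutator_eq_bot_of_ne hL hK hne
    rw [Subgroup.commutator_eq_bot_iff_le_centralizer] at hcomm
    have hEn := le_normalizer_commutator_left (Cfsg.layer G) U
    rw [← IsQuasisimple.commutator_eq_self hK.2, Subgroup.commutator_le]
    intro k hk k' hk'
    -- l = u k⁻¹ u⁻¹ commutes with K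
    have hl : u * k⁻¹ * u⁻¹ ∈ K.map (MulAut.conj u).toMonoidHom :=
      ⟨k⁻¹, K.inv_mem hk, by simp⟩
    have hlc := Subgroup.mem_centralizer_iff.mp (hcomm hl) k' hk'
    have e : ⁅k, k'⁆ = ⁅k, u⁆ * (k' * ⁅k, u⁆⁻¹ * k'⁻¹) := by
      simp only [commutatorElement_def, mul_inv_rev, inv_inv]
      have h1 : k * u * k⁻¹ * u⁻¹ * (k' * (u * (k * (u⁻¹ * k⁻¹))) * k'⁻¹)
          = k * ((u * k⁻¹ * u⁻¹) * k') * (u * k * u⁻¹) * k⁻¹ * k'⁻¹ := by group
      rw [h1, ← hlc]
      group
    rw [e]
    have hx : ⁅k, u⁆ ∈ ⁅Cfsg.layer G, U⁆ :=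
      Subgroup.commutator_mem_commutator (IsComponent.le_layer hK hk) hu
    have hk'n := hEn (IsComponent.le_layer hK hk')
    rw [Subgroup.mem_normalizer_iff] at hk'n
    exact Subgroup.mul_mem _ hx ((hk'n _).mp (Subgroup.inv_mem _ hx))

/-- `E = C_E(U) [E, U]` -/
theorem layer_eq_centralizer_sup_commutator (U : Subgroup G) :
    Cfsg.layer G = (Cfsg.layer G ⊓ centralizer (U : Set G)) ⊔ ⁅Cfsg.layer G, U⁆ := by
  apply le_antisymm
  · rw [layer_le_iff]
    intro K hK
    rcases IsComponent.le_centralizer_or_le_commutator hK U with h | h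
    · exact (le_inf (IsComponent.le_layer hK) h).trans le_sup_left
    · exact h.trans le_sup_right
  · exact sup_le inf_le_left (Subgroup.commutator_le_left _ _)

end Cfsg.Agent.Lib.Helper3
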