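import Mathlib
import Cfsg.Agent.Lib.Helper3.Components12
import Cfsg.Agent.Lib.Lead.ThompsonPQ
import Cfsg.Agent.Lib.Helper2.PCore

set_option autoImplicit false

/-!
Local subgroups and the generalized Fitting subgroup: applications of Thompson's `P × Q` lemma.
-/

namespace Cfsg.Agent.Lib.Helper3

open Cfsg.Agent.Lib.Lead

section quasisimple

variable {X : Type*} [Group X] [Finite X]

/-- a normal subgroup of a finite quasisimple group containing all `p'`-elements is everything -/
theorem IsQuasisimple.eq_top_of_forall_coprime_mem (h : Cfsg.IsQuasisimple X) (p : ℕ) [hp : Fact p.Prime]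
    (K : Subgroup X) [K.Normal] (hK : ∀ x : X, (orderOf x).Coprime p → x ∈ K) : K = ⊤ := by
  rcases IsQuasisimple.normal_eq_top_or_le_center h K with h1 | h1
  · exact h1
  · exfalso
    apply IsQuasisimple.not_isSolvable h
    -- the central quotient is a `p`-group
    have hpg : IsPGroup p (X ⧸ Subgroup.center X) := by
      intro y
      obtain ⟨x, rfl⟩ := QuotientGroup.mk_surjective y
      refine ⟨(orderOf x).factorization p, ?_⟩
      rw [← QuotientGroup.mk_pow, QuotientGroup.eq_one_iff]
      apply h1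
      apply hK
      rw [orderOf_pow' x (pow_ne_zero _ hp.out.ne_zero),
        Nat.gcd_eq_right (Nat.ordProj_dvd (orderOf x) p)]
      exact (Nat.coprime_ordCompl hp.out (orderOf_pos x).ne').symm
    have hq : Group.IsSolvable (X ⧸ Subgroup.center X) :=
      IsNilpotent.to_isSolvable (h := hpg.isNilpotent)
    have hz : Group.IsSolvable (Subgroup.center X) :=
      Group.isSolvable_of_comm (fun a b => Subtype.ext (Subgroup.mem_center_iff.mp b.2 a.1))
    exact Group.isSolvable_of_ker_le_range (Subgroup.center X).subtype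
      (QuotientGroup.mk' (Subgroup.center X)) (by simp)

end quasisimple

section thompson

variable {G : Type*} [Group G] [Finite G]

/-- a `p'`-element centralizing `P` and `C_Q(P)` centralizes `Q` -/
theorem mem_centralizer_of_coprime {p : ℕ} [Fact p.Prime] {Q P : Subgroup G} (hQ : IsPGroup p Q)
    (hP : IsPGroup p P) (hPQ : P ≤ Subgroup.normalizer (Q : Set G)) {x : G}
    (hx : (orderOf x).Coprime p) (hxQ : x ∈ Subgroup.normalizer (Q : Set G))
    (hxP : x ∈ Subgroup.centralizer (P : Set G))
    (hxC : x ∈ Subgroup.centralizer ((Q ⊓ Subgroup.centralizer (P : Set G) : Subgroup G) : Set G)) :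
    x ∈ Subgroup.centralizer (Q : Set G) := by
  have h1 := thompson_PQ p P (Subgroup.zpowers x) Q hP (by rw [Nat.card_zpowers]; exact hx) hQ
    (by rw [Subgroup.le_centralizer_iff]; exact Subgroup.zpowers_le.mpr hxP) hPQ
    (Subgroup.zpowers_le.mpr hxQ)
    (by rw [Subgroup.le_centralizer_iff]; exact Subgroup.zpowers_le.mpr hxC)
  exact h1 (Subgroup.mem_zpowers x)

/-- a `p'`-subgroup centralizing `P` and `C_Q(P)` centralizes `Q` -/
theorem le_centralizer_of_coprime {p : ℕ} [Fact p.Prime] {Q P W : Subgroup G} (hQ : IsPGroup p Q)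
    (hP : IsPGroup p P) (hPQ : P ≤ Subgroup.normalizer (Q : Set G))
    (hW : (Nat.card W).Coprime p) (hWQ : W ≤ Subgroup.normalizer (Q : Set G))
    (hWP : W ≤ Subgroup.centralizer (P : Set G))
    (hWC : W ≤ Subgroup.centralizer ((Q ⊓ Subgroup.centralizer (P : Set G) : Subgroup G) : Set G)) :
    W ≤ Subgroup.centralizer (Q : Set G) :=
  thompson_PQ p P W Q hP hW hQ (Subgroup.le_centralizer_iff.mp hWP) hPQ hWQ
    (Subgroup.le_centralizer_iff.mp hWC)

/-- a quasisimple subgroup centralizing `P` and `C_Q(P)` centralizes `Q` -/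
theorem le_centralizer_of_isQuasisimple {p : ℕ} [Fact p.Prime] {Q P L : Subgroup G}
    (hQ : IsPGroup p Q) (hP : IsPGroup p P) (hPQ : P ≤ Subgroup.normalizer (Q : Set G))
    (hL : Cfsg.IsQuasisimple L) (hLQ : L ≤ Subgroup.normalizer (Q : Set G))
    (hLP : L ≤ Subgroup.centralizer (P : Set G))
    (hLC : L ≤ Subgroup.centralizer ((Q ⊓ Subgroup.centralizer (P : Set G) : Subgroup G) : Set G)) :
    L ≤ Subgroup.centralizer (Q : Set G) := by
  have hn : ((Subgroup.centralizer (Q : Set G)).subgroupOf L).Normal :=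
    Subgroup.normal_subgroupOf_of_le_normalizer
      (hLQ.trans (Cfsg.Agent.Lib.Helper2.normalizer_le_normalizer_centralizer Q))
  have h1 := IsQuasisimple.eq_top_of_forall_coprime_mem hL p
    ((Subgroup.centralizer (Q : Set G)).subgroupOf L) (by
      intro x hx
      rw [Subgroup.mem_subgroupOf]
      rw [← Subgroup.orderOf_coe] at hx
      exact mem_centralizer_of_coprime hQ hP hPQ hx (hLQ x.2) (hLP x.2) (hLC x.2))
  exact Subgroup.subgroupOf_eq_top.mp h1

end thompson

end Cfsg.Agent.Lib.Helper3
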