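import Mathlib
import Cfsg.Prelude.Def_Balance
import Cfsg.Agent.Lib.Lead.CoprimeAction

set_option autoImplicit false
open Cfsg

namespace Cfsg.Agent.Lib.Helper3.Sig

variable {G : Type*} [Group G]

theorem ea_isPGroup {p : ℕ} {A : Subgroup G} (hA : Cfsg.IsElementaryAbelian p A) : IsPGroup p A := by
  intro a
  refine ⟨1, ?_⟩
  apply Subtype.ext
  simpa using hA.2 a.1 a.2

theorem zpowers_le_of_mem {A : Subgroup G} {b : G} (hb : b ∈ A) : Subgroup.zpowers b ≤ A := by
  rw [Subgroup.zpowers_le]; exact hb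

theorem coprime_card_of_isPGroup [Finite G] {p : ℕ} [Fact p.Prime] {B K : Subgroup G} (hB : IsPGroup p B)
    (hK : ¬ p ∣ Nat.card K) : (Nat.card B).Coprime (Nat.card K) := by
  obtain ⟨n, hn⟩ := IsPGroup.iff_card.mp hB
  rw [hn]
  exact Nat.Coprime.pow_left _ ((Nat.Prime.coprime_iff_not_dvd Fact.out).mpr hK)

theorem le_normalizer_of_conj_mem {A K : Subgroup G} (h : ∀ b ∈ A, ∀ x ∈ K, b * x * b⁻¹ ∈ K) :
    A ≤ Subgroup.normalizer (K : Set G) := by
  intro b hb
  rw [Subgroup.mem_normalizer_iff]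
  intro x
  constructor
  · exact h b hb x
  · intro hx
    have := h b⁻¹ (Subgroup.inv_mem _ hb) _ hx
    have e : b⁻¹ * (b * x * b⁻¹) * b⁻¹⁻¹ = x := by group
    rwa [e] at this

theorem le_normalizer_of_normal (K N : Subgroup G) [N.Normal] :
    K ≤ Subgroup.normalizer ((N : Subgroup G) : Set G) := by
  rw [Subgroup.normalizer_eq_top]
  exact le_top

theorem le_normalizer_inf {A K N : Subgroup G} (h1 : A ≤ Subgroup.normalizer (K : Set G))
    (h2 : A ≤ Subgroup.normalizer (N : Set G)) :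
    A ≤ Subgroup.normalizer ((K ⊓ N : Subgroup G) : Set G) := by
  intro b hb
  rw [Subgroup.mem_normalizer_iff]
  intro x
  have e1 := Subgroup.mem_normalizer_iff.mp (h1 hb) x
  have e2 := Subgroup.mem_normalizer_iff.mp (h2 hb) x
  rw [Subgroup.mem_inf, Subgroup.mem_inf, e1, e2]

end Cfsg.Agent.Lib.Helper3.Sig

namespace Cfsg.Agent.Lib.Helper3.Sig
open Cfsg.Agent.Lib.Lead
open scoped Pointwise

variable {G : Type*} [Group G]

/-- `X ⊔ Y` is solvable when `X`, `Y` are and `Y` normalizes `X` -/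
theorem isSolvable_sup_of_le_normalizer {X Y : Subgroup G} (hX : Group.IsSolvable X)
    (hY : Group.IsSolvable Y) (hn : Y ≤ Subgroup.normalizer (X : Set G)) :
    Group.IsSolvable (X ⊔ Y : Subgroup G) := by
  have hXU : X ≤ X ⊔ Y := le_sup_left
  have hnorm : (X.subgroupOf (X ⊔ Y)).Normal := by
    have : X ⊔ Y ≤ Subgroup.normalizer (X : Set G) := sup_le Subgroup.le_normalizer hn
    exact (Subgroup.normal_subgroupOf_iff_le_normalizer hXU).mpr this
  -- the quotient is a quotient of Y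
  let f : Y →* (↥(X ⊔ Y) ⧸ X.subgroupOf (X ⊔ Y)) :=
    (QuotientGroup.mk' (X.subgroupOf (X ⊔ Y))).comp (Subgroup.inclusion (le_sup_right : Y ≤ X ⊔ Y))
  have hf : Function.Surjective f := by
    intro q
    obtain ⟨⟨g, hg⟩, rfl⟩ := QuotientGroup.mk_surjective q
    have hg' : g ∈ ((X ⊔ Y : Subgroup G) : Set G) := hg
    rw [Subgroup.coe_mul_of_right_le_normalizer_left X Y hn] at hg'
    obtain ⟨x, hx, y, hy, rfl⟩ := hg'
    refine ⟨⟨y, hy⟩, ?_⟩
    show QuotientGroup.mk' _ _ = QuotientGroup.mk' _ _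
    rw [QuotientGroup.mk'_eq_mk']
    have hyx : y⁻¹ * x * y ∈ X := by
      have := (Subgroup.mem_normalizer_iff.mp (hn (Subgroup.inv_mem _ hy)) x).mp hx
      simpa using this
    refine ⟨⟨y⁻¹ * x * y, Subgroup.mem_sup_left hyx⟩, ?_, ?_⟩
    · rw [Subgroup.mem_subgroupOf]; exact hyx
    · apply Subtype.ext
      show y * (y⁻¹ * x * y) = x * y
      group
  have hq : Group.IsSolvable (↥(X ⊔ Y) ⧸ X.subgroupOf (X ⊔ Y)) := Group.isSolvable_of_surjective hf
  have hk : Group.IsSolvable (X.subgroupOf (X ⊔ Y)) :=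
    Group.isSolvable_of_isSolvable_injective (f := (Subgroup.subgroupOfEquivOfLe hXU).toMonoidHom)
      (Subgroup.subgroupOfEquivOfLe hXU).injective
  exact Group.isSolvable_of_ker_le_range (X.subgroupOf (X ⊔ Y)).subtype
    (QuotientGroup.mk' (X.subgroupOf (X ⊔ Y))) (by simp)

theorem le_normalizer_sup {A X Y : Subgroup G} (h1 : A ≤ Subgroup.normalizer (X : Set G))
    (h2 : A ≤ Subgroup.normalizer (Y : Set G)) :
    A ≤ Subgroup.normalizer ((X ⊔ Y : Subgroup G) : Set G) := by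
  intro b hb
  have e1 := Subgroup.mem_normalizer_iff_map_conj_eq.mp (h1 hb)
  have e2 := Subgroup.mem_normalizer_iff_map_conj_eq.mp (h2 hb)
  rw [Subgroup.mem_normalizer_iff_map_conj_eq, Subgroup.map_sup, e1, e2]

end Cfsg.Agent.Lib.Helper3.Sig
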