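import Mathlib
import Cfsg.Agent.Lib.Helper3.CharP1
import Cfsg.Agent.Lib.Helper3.Sig1

set_option autoImplicit false

/-!
Normalizers of `p`-subgroups in groups with `F*(G) = O_p(G)`.
-/

namespace Cfsg.Agent.Lib.Helper3

open Cfsg.Agent.Lib.Lead

variable {G : Type*} [Group G]

theorem map_le_centralizer_map {N : Subgroup G} {K H : Subgroup N}
    (h : K ≤ Subgroup.centralizer (H : Set N)) :
    K.map N.subtype ≤ Subgroup.centralizer ((H.map N.subtype : Subgroup G) : Set G) := by
  rintro _ ⟨k, hk, rfl⟩
  rw [Subgroup.mem_centralizer_iff]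
  rintro _ ⟨y, hy, rfl⟩
  have := Subgroup.mem_centralizer_iff.mp (h hk) y hy
  exact congrArg Subtype.val this

/-- a `p`-subgroup of `N` normalized by `N` lies in the image of `O_p(N)` -/
theorem le_map_pCore_of_le_normalizer {p : ℕ} {N R : Subgroup G} (hR : IsPGroup p R) (hRN : R ≤ N)
    (hN : N ≤ Subgroup.normalizer (R : Set G)) :
    R ≤ (Cfsg.pCore p N).map N.subtype := by
  have h1 : (R.subgroupOf N).Normal := Subgroup.normal_subgroupOf_of_le_normalizer hN
  have h2 : IsPGroup p (R.subgroupOf N) := hR.comap_subtype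
  have h3 := le_pCore h1 h2
  have h4 := Subgroup.map_mono (f := N.subtype) h3
  rwa [Subgroup.map_subgroupOf_eq_of_le hRN] at h4

/-- the layer centralizes `O_p` -/
theorem layer_le_centralizer_pCore (p : ℕ) [Fact p.Prime] (X : Type*) [Group X] [Finite X] :
    Cfsg.layer X ≤ Subgroup.centralizer (Cfsg.pCore p X : Set X) := by
  have h1 : ⁅Cfsg.layer X, Cfsg.fittingSubgroup X⁆ = ⊥ := commutator_layer_fittingSubgroup
  rw [Subgroup.commutator_eq_bot_iff_le_centralizer] at h1
  refine h1.trans (Subgroup.centralizer_le ?_)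
  exact le_fittingSubgroup (Cfsg.pCore_normal p X) (pCore_isPGroup p).isNilpotent

/-- `O_r` centralizes `O_p` for `r ≠ p` -/
theorem pCore_le_centralizer_pCore {p r : ℕ} [Fact p.Prime] [Fact r.Prime] (hrp : r ≠ p)
    (X : Type*) [Group X] :
    Cfsg.pCore r X ≤ Subgroup.centralizer (Cfsg.pCore p X : Set X) := by
  have h1 : ⁅Cfsg.pCore r X, Cfsg.pCore p X⁆ ≤ Cfsg.pCore r X ⊓ Cfsg.pCore p X :=
    Subgroup.commutator_le_inf _ _
  have h2 : Cfsg.pCore r X ⊓ Cfsg.pCore p X = ⊥ :=
    (IsPGroup.disjoint_of_ne r p hrp _ _ (pCore_isPGroup r) (pCore_isPGroup p)).eq_bot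
  rw [h2, le_bot_iff, Subgroup.commutator_eq_bot_iff_le_centralizer] at h1
  exact h1

theorem pCore_le_generalizedFittingSubgroup (p : ℕ) [Fact p.Prime] (X : Type*) [Group X] [Finite X] :
    Cfsg.pCore p X ≤ Cfsg.generalizedFittingSubgroup X :=
  (le_fittingSubgroup (Cfsg.pCore_normal p X) (pCore_isPGroup p).isNilpotent).trans
    fittingSubgroup_le_generalizedFittingSubgroup

theorem generalizedFittingSubgroup_eq_pCore_of_isPGroup {p : ℕ} [Fact p.Prime] {X : Type*} [Group X]
    [Finite X] (h : IsPGroup p (Cfsg.generalizedFittingSubgroup X)) :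
    Cfsg.generalizedFittingSubgroup X = Cfsg.pCore p X :=
  le_antisymm (le_pCore inferInstance h) (pCore_le_generalizedFittingSubgroup p X)

/-- `F*(X) = O_p(X)` as soon as `X` has no components and no nontrivial `O_r` for `r ≠ p` -/
theorem generalizedFittingSubgroup_eq_pCore_of_forall {p : ℕ} [Fact p.Prime] {X : Type*} [Group X]
    [Finite X] (h1 : Cfsg.layer X = ⊥)
    (h2 : ∀ r : ℕ, r.Prime → r ≠ p → Cfsg.pCore r X = ⊥) :
    Cfsg.generalizedFittingSubgroup X = Cfsg.pCore p X := by
  apply le_antisymm _ (pCore_le_generalizedFittingSubgroup p X)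
  unfold Cfsg.generalizedFittingSubgroup
  rw [h1, bot_sup_eq, fittingSubgroup_eq_iSup_pCore]
  apply iSup_le
  intro r
  by_cases hr : (r : ℕ) = p
  · rw [hr]
  · rw [h2 r r.2 hr]; exact bot_le

section normalizer

variable [Finite G] {p : ℕ} [hp : Fact p.Prime]

/-- **Key step**: if `C_G(Q) ≤ Q` for a normal `p`-subgroup `Q`, then normalizers of `p`-subgroups
have no components and no `O_r`, `r ≠ p`. -/
theorem generalizedFittingSubgroup_normalizer_eq_pCore {Q : Subgroup G} [hQn : Q.Normal]
    (hQ : IsPGroup p Q) (hC : Subgroup.centralizer (Q : Set G) ≤ Q) {P : Subgroup G}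
    (hP : IsPGroup p P) :
    Cfsg.generalizedFittingSubgroup (Subgroup.normalizer (P : Set G)) =
      Cfsg.pCore p (Subgroup.normalizer (P : Set G)) := by
  have hNQ : ∀ K : Subgroup G, K ≤ Subgroup.normalizer (Q : Set G) := by
    intro K
    rw [Subgroup.normalizer_eq_top]
    exact le_top
  -- `P` and `Q ∩ N` lie in the image of `O_p(N)`
  have hPO : P ≤ (Cfsg.pCore p (Subgroup.normalizer (P : Set G))).map
      (Subgroup.normalizer (P : Set G)).subtype :=
    le_map_pCore_of_le_normalizer hP Subgroup.le_normalizer le_rfl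
  have hRO : Q ⊓ Subgroup.normalizer (P : Set G) ≤
      (Cfsg.pCore p (Subgroup.normalizer (P : Set G))).map (Subgroup.normalizer (P : Set G)).subtype := by
    apply le_map_pCore_of_le_normalizer (hQ.to_le inf_le_left) inf_le_right
    exact Cfsg.Agent.Lib.Helper3.Sig.le_normalizer_inf (hNQ _) Subgroup.le_normalizer
  have hCR : Q ⊓ Subgroup.centralizer (P : Set G) ≤ Q ⊓ Subgroup.normalizer (P : Set G) :=
    inf_le_inf_left _ (Subgroup.centralizer_le_normalizer (P : Set G))
  -- anything centralizing the image of `O_p(N)` and of the right kind is trivial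
  apply generalizedFittingSubgroup_eq_pCore_of_forall
  · rw [layer_eq_bot_iff]
    intro K hK
    have hKq : Cfsg.IsQuasisimple (K.map (Subgroup.normalizer (P : Set G)).subtype) :=
      isQuasisimple_map_of_injective _ (Subgroup.subtype_injective _) hK.2
    have hKc : K.map (Subgroup.normalizer (P : Set G)).subtype ≤ Subgroup.centralizer
        (((Cfsg.pCore p (Subgroup.normalizer (P : Set G))).map
          (Subgroup.normalizer (P : Set G)).subtype : Subgroup G) : Set G) :=
      map_le_centralizer_map ((IsComponent.le_layer hK).trans (layer_le_centralizer_pCore p _))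
    have h1 := le_centralizer_of_isQuasisimple hQ hP (hNQ P) hKq (hNQ _)
      (hKc.trans (Subgroup.centralizer_le hPO))
      (hKc.trans (Subgroup.centralizer_le (hCR.trans hRO)))
    have h2 : IsPGroup p (K.map (Subgroup.normalizer (P : Set G)).subtype) := hQ.to_le (h1.trans hC)
    exact IsQuasisimple.not_isSolvable hKq (IsNilpotent.to_isSolvable (h := h2.isNilpotent))
  · intro r hr hrp
    have : Fact r.Prime := ⟨hr⟩
    have hWc : (Cfsg.pCore r (Subgroup.normalizer (P : Set G))).map
        (Subgroup.normalizer (P : Set G)).subtype ≤ Subgroup.centralizer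
        (((Cfsg.pCore p (Subgroup.normalizer (P : Set G))).map
          (Subgroup.normalizer (P : Set G)).subtype : Subgroup G) : Set G) :=
      map_le_centralizer_map (pCore_le_centralizer_pCore hrp _)
    have hWr : IsPGroup r ((Cfsg.pCore r (Subgroup.normalizer (P : Set G))).map
        (Subgroup.normalizer (P : Set G)).subtype) := (pCore_isPGroup r).map _
    have hWcop : (Nat.card ((Cfsg.pCore r (Subgroup.normalizer (P : Set G))).map
        (Subgroup.normalizer (P : Set G)).subtype)).Coprime p := by
      obtain ⟨k, hk⟩ := IsPGroup.iff_card.mp hWr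
      rw [hk]
      exact Nat.Coprime.pow_left _ ((Nat.coprime_primes hr hp.out).mpr hrp)
    have h1 := le_centralizer_of_coprime hQ hP (hNQ P) hWcop (hNQ _)
      (hWc.trans (Subgroup.centralizer_le hPO))
      (hWc.trans (Subgroup.centralizer_le (hCR.trans hRO)))
    have h2 : IsPGroup p ((Cfsg.pCore r (Subgroup.normalizer (P : Set G))).map
        (Subgroup.normalizer (P : Set G)).subtype) := hQ.to_le (h1.trans hC)
    have h3 : (Cfsg.pCore r (Subgroup.normalizer (P : Set G))).map
        (Subgroup.normalizer (P : Set G)).subtype = ⊥ := by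
      have := IsPGroup.disjoint_of_ne r p hrp _ _ hWr h2
      exact disjoint_self.mp this
    exact (Subgroup.map_eq_bot_iff_of_injective _ (Subgroup.subtype_injective _)).mp h3

end normalizer

end Cfsg.Agent.Lib.Helper3
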