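import Mathlib
import Cfsg.Agent.Lib.Helper3.CharP2

set_option autoImplicit false

namespace Cfsg.Agent.Lib.Helper3
open Cfsg.Agent.Lib.Lead
variable {G : Type*} [Group G]

/-- a subnormal subgroup of `N` contained in a normal subgroup `C ≤ N` of `G` is subnormal in `G` -/
theorem isSubnormal_map_subtype_of_le_normal {N C : Subgroup G} [C.Normal] (hCN : C ≤ N)
    {K : Subgroup N} (hK : K.IsSubnormal) (hKC : K.map N.subtype ≤ C) :
    (K.map N.subtype).IsSubnormal := by
  have h1 : (K.comap (Subgroup.inclusion hCN)).IsSubnormal := hK.comap _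
  have h2 : K.comap (Subgroup.inclusion hCN) = (K.map N.subtype).subgroupOf C := by
    ext x
    rw [Subgroup.mem_comap, Subgroup.mem_subgroupOf]
    constructor
    · intro h; exact ⟨_, h, rfl⟩
    · rintro ⟨y, hy, hyx⟩
      have : y = Subgroup.inclusion hCN x := Subtype.ext hyx
      rwa [← this]
  rw [h2] at h1
  exact Subgroup.IsSubnormal.trans hKC h1 (Subgroup.Normal.isSubnormal inferInstance)

end Cfsg.Agent.Lib.Helper3
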