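import Mathlib
import Cfsg.Agent.Lib.Helper3.CharP3

set_option autoImplicit false

/-!
Groups of characteristic `p` type: transport along isomorphisms, passing to subgroups
containing the relevant pieces, subnormal subgroups, extensions by `p`-groups.
-/

namespace Cfsg.Agent.Lib.Helper3
open Cfsg.Agent.Lib.Lead

section transport

variable {A : Type*} {B : Type*} [Group A] [Group B]

theorem layer_map_mulEquiv_le (e : A ≃* B) :
    (Cfsg.layer A).map (e : A →* B) ≤ Cfsg.layer B := by
  rw [Subgroup.map_le_iff_le_comap, layer_le_iff]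
  intro K hK
  rw [← Subgroup.map_le_iff_le_comap]
  exact IsComponent.le_layer (IsComponent.map_equiv e hK)

theorem layer_map_mulEquiv (e : A ≃* B) :
    (Cfsg.layer A).map (e : A →* B) = Cfsg.layer B := by
  apply le_antisymm (layer_map_mulEquiv_le e)
  intro x hx
  have h2 : e.symm x ∈ Cfsg.layer A := layer_map_mulEquiv_le e.symm ⟨x, hx, rfl⟩
  exact ⟨_, h2, by simp⟩

theorem generalizedFittingSubgroup_map_mulEquiv (e : A ≃* B) :
    (Cfsg.generalizedFittingSubgroup A).map (e : A →* B) = Cfsg.generalizedFittingSubgroup B := by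
  unfold Cfsg.generalizedFittingSubgroup
  rw [Subgroup.map_sup, layer_map_mulEquiv, fittingSubgroup_map_equiv]

theorem isPGroup_generalizedFittingSubgroup_of_mulEquiv {p : ℕ} (e : A ≃* B)
    (h : IsPGroup p (Cfsg.generalizedFittingSubgroup A)) :
    IsPGroup p (Cfsg.generalizedFittingSubgroup B) := by
  rw [← generalizedFittingSubgroup_map_mulEquiv e]
  exact h.map _

end transport

/-- `A ∩ B` seen inside `B` and inside `A` -/
def subgroupOfSwap {G : Type*} [Group G] (A B : Subgroup G) :
    ↥(A.subgroupOf B) ≃* ↥(B.subgroupOf A) where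
  toFun x := ⟨⟨x.1.1, x.2⟩, x.1.2⟩
  invFun y := ⟨⟨y.1.1, y.2⟩, y.1.2⟩
  left_inv _ := rfl
  right_inv _ := rfl
  map_mul' _ _ := rfl

section subgroups

variable {N : Type*} [Group N] [Finite N] {p : ℕ} [hp : Fact p.Prime]

/-- if all components and all `O_r`, `r ≠ p`, of `N` lie in a subgroup `Y` with `F*(Y)` a `p`-group,
then `F*(N) = O_p(N)` -/
theorem generalizedFittingSubgroup_eq_pCore_of_subgroup (Y : Subgroup N)
    (hK : ∀ K : Subgroup N, Cfsg.IsComponent K → K ≤ Y)
    (hR : ∀ r : ℕ, r.Prime → r ≠ p → Cfsg.pCore r N ≤ Y)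
    (hF : IsPGroup p (Cfsg.generalizedFittingSubgroup Y)) :
    Cfsg.generalizedFittingSubgroup N = Cfsg.pCore p N := by
  apply generalizedFittingSubgroup_eq_pCore_of_forall
  · rw [layer_eq_bot_iff]
    intro K hKc
    have hKY : K ≤ Y := hK K hKc
    have h1 := IsComponent.subgroupOf hKc hKY
    have h2 : K.subgroupOf Y ≤ Cfsg.generalizedFittingSubgroup Y :=
      (IsComponent.le_layer h1).trans layer_le_generalizedFittingSubgroup
    have h3 : IsPGroup p (K.subgroupOf Y) := hF.to_le h2
    exact IsQuasisimple.not_isSolvable h1.2 (IsNilpotent.to_isSolvable (h := h3.isNilpotent))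
  · intro r hr hrp
    have : Fact r.Prime := ⟨hr⟩
    have hRY : Cfsg.pCore r N ≤ Y := hR r hr hrp
    have h1 : ((Cfsg.pCore r N).subgroupOf Y).Normal := inferInstance
    have h2 : IsPGroup r ((Cfsg.pCore r N).subgroupOf Y) := (pCore_isPGroup r).comap_subtype
    have h3 : (Cfsg.pCore r N).subgroupOf Y ≤ Cfsg.generalizedFittingSubgroup Y :=
      (le_pCore h1 h2).trans (pCore_le_generalizedFittingSubgroup r Y)
    have h4 : IsPGroup p ((Cfsg.pCore r N).subgroupOf Y) := hF.to_le h3
    have h5 : (Cfsg.pCore r N).subgroupOf Y = ⊥ :=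
      disjoint_self.mp (IsPGroup.disjoint_of_ne r p hrp _ _ h2 h4)
    rw [Subgroup.subgroupOf_eq_bot] at h5
    have := h5.eq_bot
    rwa [inf_of_le_left hRY] at this

/-- `F*(N) = O_p(N)` as soon as some subgroup containing `C_N(O_p(N))` has that property -/
theorem generalizedFittingSubgroup_eq_pCore_of_centralizer_le (Y : Subgroup N)
    (hY : Subgroup.centralizer (Cfsg.pCore p N : Set N) ≤ Y)
    (hF : IsPGroup p (Cfsg.generalizedFittingSubgroup Y)) :
    Cfsg.generalizedFittingSubgroup N = Cfsg.pCore p N := by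
  apply generalizedFittingSubgroup_eq_pCore_of_subgroup Y _ _ hF
  · intro K hKc
    exact (IsComponent.le_layer hKc).trans ((layer_le_centralizer_pCore p N).trans hY)
  · intro r hr hrp
    have : Fact r.Prime := ⟨hr⟩
    exact (pCore_le_centralizer_pCore hrp N).trans hY

/-- subnormal subgroups inherit "`F*` is a `p`-group" -/
theorem isPGroup_generalizedFittingSubgroup_of_isSubnormal {M : Subgroup N} (hM : M.IsSubnormal)
    (h : IsPGroup p (Cfsg.generalizedFittingSubgroup N)) :
    IsPGroup p (Cfsg.generalizedFittingSubgroup M) := by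
  have h1 : (Cfsg.generalizedFittingSubgroup M).map M.subtype ≤ Cfsg.generalizedFittingSubgroup N := by
    rw [generalizedFittingSubgroup_map_subtype]
    apply sup_le
    · exact (layer_map_subtype_le hM).trans layer_le_generalizedFittingSubgroup
    · rw [fittingSubgroup_map_subtype_eq_of_isSubnormal hM]
      exact inf_le_left.trans fittingSubgroup_le_generalizedFittingSubgroup
  have h2 : IsPGroup p ((Cfsg.generalizedFittingSubgroup M).map M.subtype) := h.to_le h1
  exact h2.of_equiv
    (Subgroup.equivMapOfInjective (Cfsg.generalizedFittingSubgroup M) M.subtype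
      M.subtype_injective).symm

end subgroups

section ext

variable {H : Type*} [Group H]

theorem le_derivedSeries_of_perfect {K : Subgroup H} (hK : ⁅K, K⁆ = K) (n : ℕ) :
    K ≤ derivedSeries H n := by
  induction n with
  | zero => simp
  | succ n ih =>
    rw [derivedSeries_succ]
    calc K = ⁅K, K⁆ := hK.symm
      _ ≤ ⁅derivedSeries H n, derivedSeries H n⁆ := Subgroup.commutator_mono ih ih

theorem le_of_isSolvable_quotient_of_perfect {K C : Subgroup H} [C.Normal]
    (hq : Group.IsSolvable (H ⧸ C)) (hK : ⁅K, K⁆ = K) : K ≤ C := by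
  obtain ⟨n, hn⟩ := hq.solvable
  have h1 := map_derivedSeries_le_derivedSeries (QuotientGroup.mk' C) n
  rw [hn, le_bot_iff, Subgroup.map_eq_bot_iff, QuotientGroup.ker_mk'] at h1
  exact (le_derivedSeries_of_perfect hK n).trans h1

variable [Finite H] {p : ℕ} [hp : Fact p.Prime]

/-- an extension of a group with `F*` a `p`-group by a `p`-group is again of that kind -/
theorem generalizedFittingSubgroup_eq_pCore_of_isPGroup_quotient (C : Subgroup H) [C.Normal]
    (hq : IsPGroup p (H ⧸ C)) (hF : IsPGroup p (Cfsg.generalizedFittingSubgroup C)) :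
    Cfsg.generalizedFittingSubgroup H = Cfsg.pCore p H := by
  apply generalizedFittingSubgroup_eq_pCore_of_subgroup C _ _ hF
  · intro K hKc
    have : Group.IsNilpotent (H ⧸ C) := hq.isNilpotent
    exact le_of_isSolvable_quotient_of_perfect inferInstance (IsQuasisimple.commutator_eq_self hKc.2)
  · intro r hr hrp
    have : Fact r.Prime := ⟨hr⟩
    have h1 : IsPGroup r ((Cfsg.pCore r H).map (QuotientGroup.mk' C)) := (pCore_isPGroup r).map _
    have h2 : IsPGroup p ((Cfsg.pCore r H).map (QuotientGroup.mk' C)) := hq.to_subgroup _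
    have h3 : (Cfsg.pCore r H).map (QuotientGroup.mk' C) = ⊥ :=
      disjoint_self.mp (IsPGroup.disjoint_of_ne r p hrp _ _ h1 h2)
    rwa [Subgroup.map_eq_bot_iff, QuotientGroup.ker_mk'] at h3

end ext

/-- S1268 in library form -/
theorem generalizedFittingSubgroup_normalizer_eq_pCore_of_eq {G : Type*} [Group G] [Finite G] {p : ℕ}
    [Fact p.Prime] (h : Cfsg.generalizedFittingSubgroup G = Cfsg.pCore p G) {P : Subgroup G}
    (hP : IsPGroup p P) :
    Cfsg.generalizedFittingSubgroup (Subgroup.normalizer (P : Set G)) =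
      Cfsg.pCore p (Subgroup.normalizer (P : Set G)) := by
  have hC : Subgroup.centralizer (Cfsg.pCore p G : Set G) ≤ Cfsg.pCore p G := by
    have := centralizer_generalizedFittingSubgroup_le (G := G)
    rwa [h] at this
  exact generalizedFittingSubgroup_normalizer_eq_pCore (pCore_isPGroup p) hC hP

/-- if `F*(X)` is a `p`-group for a subgroup `X` containing the `p`-subgroup `P`, then
`F*(N_G(P) ∩ X)` is a `p`-group, where the intersection is seen inside `N_G(P)`. -/
theorem isPGroup_generalizedFittingSubgroup_subgroupOf_normalizer {G : Type*} [Group G] [Finite G]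
    {p : ℕ} [Fact p.Prime] {X P : Subgroup G} (hPX : P ≤ X) (hP : IsPGroup p P)
    (hX : IsPGroup p (Cfsg.generalizedFittingSubgroup X)) :
    IsPGroup p (Cfsg.generalizedFittingSubgroup (X.subgroupOf (Subgroup.normalizer (P : Set G)))) := by
  have h1 := generalizedFittingSubgroup_normalizer_eq_pCore_of_eq
    (generalizedFittingSubgroup_eq_pCore_of_isPGroup hX) (P := P.subgroupOf X) hP.comap_subtype
  have h2 : IsPGroup p (Cfsg.generalizedFittingSubgroup
      (Subgroup.normalizer ((P.subgroupOf X : Subgroup X) : Set X))) := by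
    rw [h1]; exact pCore_isPGroup p
  have e1 : ↥(Subgroup.normalizer ((P.subgroupOf X : Subgroup X) : Set X)) ≃*
      ↥((Subgroup.normalizer (P : Set G)).subgroupOf X) :=
    MulEquiv.subgroupCongr (Subgroup.subgroupOf_normalizer_eq hPX).symm
  exact isPGroup_generalizedFittingSubgroup_of_mulEquiv (e1.trans (subgroupOfSwap _ _)) h2

end Cfsg.Agent.Lib.Helper3
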