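import Mathlib
import Cfsg.Agent.Lib.Lead.Coprime
import Cfsg.Agent.Lib.Lead.CoprimeAction

set_option autoImplicit false

/-!
Generation of a group by centralizers under a coprime action: the action on the abelianization.
-/

namespace Cfsg.Agent.Lib.Helper3.Gen

open Cfsg.Agent.Lib.Lead

variable {H : Type*} [Group H]

/-- conjugation by `d` on the abelianization of `X` (trivial if `d` does not normalize `X`) -/
noncomputable def abConj (X : Subgroup H) (d : H) : Abelianization X →* Abelianization X := by
  classical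
  exact if h : d ∈ Subgroup.normalizer (X : Set H) then Abelianization.map (conjHom X d h) else 1

theorem abConj_of (X : Subgroup H) {d : H} (hd : d ∈ Subgroup.normalizer (X : Set H)) (x : X) :
    abConj X d (Abelianization.of x) = Abelianization.of (conjHom X d hd x) := by
  unfold abConj
  simp only [dif_pos hd, Abelianization.map_of]

theorem abConj_one (X : Subgroup H) (v : Abelianization X) : abConj X 1 v = v := by
  obtain ⟨x, rfl⟩ := QuotientGroup.mk_surjective v
  show abConj X 1 (Abelianization.of x) = Abelianization.of x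
  rw [abConj_of X (Subgroup.one_mem _)]
  congr 1
  apply Subtype.ext
  simp

theorem abConj_mul (X : Subgroup H) {d e : H} (hd : d ∈ Subgroup.normalizer (X : Set H))
    (he : e ∈ Subgroup.normalizer (X : Set H)) (v : Abelianization X) :
    abConj X (d * e) v = abConj X d (abConj X e v) := by
  obtain ⟨x, rfl⟩ := QuotientGroup.mk_surjective v
  show abConj X (d * e) (Abelianization.of x) = abConj X d (abConj X e (Abelianization.of x))
  rw [abConj_of X (Subgroup.mul_mem _ hd he), abConj_of X he, abConj_of X hd]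
  congr 1
  apply Subtype.ext
  simp [mul_assoc]

variable [Finite H]

/-- the elements of a subgroup as a finset -/
noncomputable def elems (D : Subgroup H) : Finset H := (Set.toFinite (D : Set H)).toFinset

theorem mem_elems {D : Subgroup H} {x : H} : x ∈ elems D ↔ x ∈ D := by simp [elems]

theorem card_elems (D : Subgroup H) : (elems D).card = Nat.card D := by
  unfold elems
  rw [← Nat.card_eq_card_finite_toFinset]
  rfl

/-- the norm of `v` under the subgroup `D` -/
noncomputable def abNorm (X D : Subgroup H) (v : Abelianization X) : Abelianization X :=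
  ∏ d ∈ elems D, abConj X d v

theorem abConj_abNorm (X D : Subgroup H) (hD : D ≤ Subgroup.normalizer (X : Set H)) {e : H}
    (he : e ∈ D) (v : Abelianization X) : abConj X e (abNorm X D v) = abNorm X D v := by
  unfold abNorm
  rw [map_prod]
  apply Finset.prod_nbij' (fun d => e * d) (fun d => e⁻¹ * d)
  · intro d hd; rw [mem_elems] at *; exact Subgroup.mul_mem _ he hd
  · intro d hd; rw [mem_elems] at *; exact Subgroup.mul_mem _ (Subgroup.inv_mem _ he) hd
  · intro d _; group
  · intro d _; group
  · intro d hd; rw [← abConj_mul X (hD he) (hD (mem_elems.mp hd))]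

open Classical in
theorem abNorm_eq (X D : Subgroup H) (v : Abelianization X) :
    abNorm X D v = v * ∏ d ∈ (elems D).erase 1, abConj X d v := by
  unfold abNorm
  rw [← Finset.mul_prod_erase (elems D) _ (mem_elems.mpr (Subgroup.one_mem D)), abConj_one]

open Classical in
/-- the subgroups of order `p` of `E` -/
noncomputable def linesOf (p : ℕ) (E : Subgroup H) : Finset (Subgroup H) :=
  haveI : Fintype (Subgroup H) := Fintype.ofFinite _
  Finset.univ.filter (fun D => D ≤ E ∧ Nat.card D = p)

theorem mem_linesOf {p : ℕ} {E D : Subgroup H} : D ∈ linesOf p E ↔ D ≤ E ∧ Nat.card D = p := by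
  simp [linesOf]

theorem zpowers_eq_of_prime_card {p : ℕ} [hp : Fact p.Prime] {D : Subgroup H} (hD : Nat.card D = p)
    {a : H} (ha : a ∈ D) (ha1 : a ≠ 1) : Subgroup.zpowers a = D := by
  have hle : Subgroup.zpowers a ≤ D := by rw [Subgroup.zpowers_le]; exact ha
  apply Subgroup.eq_of_le_of_card_ge hle
  rw [hD, Nat.card_zpowers]
  have h1 : orderOf a ∣ p := by
    rw [← hD]
    have := Subgroup.card_dvd_of_le hle
    rwa [Nat.card_zpowers] at this
  rcases (Nat.dvd_prime hp.out).mp h1 with h2 | h2
  · exact (ha1 (orderOf_eq_one_iff.mp h2)).elim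
  · exact h2.ge

theorem card_zpowers_of_pow_eq_one {p : ℕ} [hp : Fact p.Prime] {a : H} (ha : a ^ p = 1)
    (ha1 : a ≠ 1) : Nat.card (Subgroup.zpowers a) = p := by
  rw [Nat.card_zpowers]
  rcases (Nat.dvd_prime hp.out).mp (orderOf_dvd_of_pow_eq_one ha) with h2 | h2
  · exact (ha1 (orderOf_eq_one_iff.mp h2)).elim
  · exact h2

open Classical in
theorem erase_elems_eq_biUnion {p : ℕ} [Fact p.Prime] {E : Subgroup H} (hE : ∀ a ∈ E, a ^ p = 1) :
    (elems E).erase 1 = (linesOf p E).biUnion (fun D => (elems D).erase 1) := by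
  ext a
  simp only [Finset.mem_erase, mem_elems, Finset.mem_biUnion, mem_linesOf]
  constructor
  · rintro ⟨ha1, haE⟩
    exact ⟨Subgroup.zpowers a, ⟨(Subgroup.zpowers_le).mpr haE,
      card_zpowers_of_pow_eq_one (hE a haE) ha1⟩, ha1, Subgroup.mem_zpowers a⟩
  · rintro ⟨D, ⟨hDE, _⟩, ha1, haD⟩
    exact ⟨ha1, hDE haD⟩

open Classical in
theorem lines_disjoint {p : ℕ} [Fact p.Prime] (E : Subgroup H) :
    Set.PairwiseDisjoint (linesOf p E : Set (Subgroup H)) (fun D => (elems D).erase 1) := by
  intro D hD D' hD' hne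
  rw [Function.onFun, Finset.disjoint_left]
  intro a ha ha'
  rw [Finset.mem_erase, mem_elems] at ha ha'
  apply hne
  rw [← zpowers_eq_of_prime_card (mem_linesOf.mp hD).2 ha.2 ha.1,
    ← zpowers_eq_of_prime_card (mem_linesOf.mp hD').2 ha'.2 ha'.1]

open Classical in
theorem card_linesOf {p : ℕ} [hp : Fact p.Prime] {E : Subgroup H} (hE : ∀ a ∈ E, a ^ p = 1)
    (hcard : Nat.card E = p ^ 2) : (linesOf p E).card = p + 1 := by
  have h1 := congrArg Finset.card (erase_elems_eq_biUnion hE)
  rw [Finset.card_biUnion (lines_disjoint E),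
    Finset.card_erase_of_mem (mem_elems.mpr (Subgroup.one_mem E)), card_elems, hcard] at h1
  have h2 : ∀ D ∈ linesOf p E, ((elems D).erase 1).card = p - 1 := by
    intro D hD
    rw [Finset.card_erase_of_mem (mem_elems.mpr (Subgroup.one_mem D)), card_elems,
      (mem_linesOf.mp hD).2]
  rw [Finset.sum_congr rfl h2, Finset.sum_const, smul_eq_mul] at h1
  have hp2 : 2 ≤ p := hp.out.two_le
  obtain ⟨k, rfl⟩ : ∃ k, p = k + 2 := ⟨p - 2, by omega⟩
  have e1 : (k + 2) ^ 2 - 1 = (k + 3) * (k + 1) := by
    have : (k + 2) ^ 2 = (k + 3) * (k + 1) + 1 := by ring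
    omega
  have e2 : k + 2 - 1 = k + 1 := by omega
  rw [e1, e2] at h1
  have := Nat.eq_of_mul_eq_mul_right (by omega : 0 < k + 1) h1
  omega

open Classical in
/-- the counting identity for the norms of the subgroups of order `p` -/
theorem prod_abNorm_lines {p : ℕ} [hp : Fact p.Prime] {E : Subgroup H} (X : Subgroup H)
    (hE : ∀ a ∈ E, a ^ p = 1) (hcard : Nat.card E = p ^ 2) (v : Abelianization X) :
    ∏ D ∈ linesOf p E, abNorm X D v = v ^ p * abNorm X E v := by
  have h1 : ∀ D ∈ linesOf p E, abNorm X D v = v * ∏ d ∈ (elems D).erase 1, abConj X d v :=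
    fun D _ => abNorm_eq X D v
  rw [Finset.prod_congr rfl h1, Finset.prod_mul_distrib, Finset.prod_const, card_linesOf hE hcard,
    ← Finset.prod_biUnion (lines_disjoint E), ← erase_elems_eq_biUnion hE, abNorm_eq X E v,
    pow_succ, mul_assoc]

end Cfsg.Agent.Lib.Helper3.Gen
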