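import Mathlib
import Cfsg.Agent.Lib.Helper3.Gen1
import Cfsg.Agent.Lib.Helper3.Sig1
import Cfsg.Agent.Lib.Lead.CoprimeSylow3
import Cfsg.Agent.Lib.Lead.CoprimeAction3

set_option autoImplicit false

/-!
Generation of a group by centralizers under a coprime action.
-/

namespace Cfsg.Agent.Lib.Helper3.Gen

open Cfsg.Agent.Lib.Lead Cfsg.Agent.Lib.Helper3.Sig

variable {H : Type*} [Group H] [Finite H]

theorem le_of_forall_sylow_le {X W : Subgroup H}
    (h : ∀ q : ℕ, ∀ _ : Fact q.Prime, ∃ P : Sylow q X, (P : Subgroup X).map X.subtype ≤ W) :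
    X ≤ W := by
  have h0 : X ⊓ W = X := by
    apply Subgroup.eq_of_le_of_card_ge inf_le_left
    apply Nat.le_of_dvd Nat.card_pos
    rw [← Nat.factorization_prime_le_iff_dvd Nat.card_pos.ne' Nat.card_pos.ne']
    intro q hq
    have : Fact q.Prime := ⟨hq⟩
    obtain ⟨P, hP⟩ := h q ⟨hq⟩
    have h1 : (P : Subgroup X).map X.subtype ≤ X ⊓ W := le_inf (Subgroup.map_subtype_le _) hP
    have h2 := Subgroup.card_dvd_of_le h1
    rw [Subgroup.card_subtype, Sylow.card_eq_multiplicity] at h2
    exact (Nat.Prime.pow_dvd_iff_le_factorization hq Nat.card_pos.ne').mp h2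
  rw [← h0]
  exact inf_le_right

/-- lifting fixed points from the abelianization -/
theorem exists_of_eq_of_fixed {p : ℕ} [Fact p.Prime] {X D : Subgroup H}
    (hDX : D ≤ Subgroup.normalizer (X : Set H)) (hDp : IsPGroup p D) (hX : ¬ p ∣ Nat.card X)
    (v : Abelianization X) (hfix : ∀ e ∈ D, abConj X e v = v) :
    ∃ c : X, (c : H) ∈ Subgroup.centralizer (D : Set H) ∧ Abelianization.of c = v := by
  obtain ⟨x, rfl⟩ := QuotientGroup.mk_surjective v
  change ∀ e ∈ D, abConj X e (Abelianization.of x) = Abelianization.of x at hfix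
  have hN : ⁅X, X⁆ = (commutator X).map X.subtype := (Subgroup.map_subtype_commutator X).symm
  have hXN : X ≤ Subgroup.normalizer ((⁅X, X⁆ : Subgroup H) : Set H) :=
    (le_inf Subgroup.le_normalizer Subgroup.le_normalizer).trans
      (normalizer_inf_le_normalizer_commutator X X)
  have hDN : D ≤ Subgroup.normalizer ((⁅X, X⁆ : Subgroup H) : Set H) :=
    (le_inf hDX hDX).trans (normalizer_inf_le_normalizer_commutator X X)
  have hfix' : ∀ a ∈ D, a * x.1 * a⁻¹ * x.1⁻¹ ∈ ⁅X, X⁆ := by
    intro a ha
    have h1 := hfix a ha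
    rw [abConj_of X (hDX ha)] at h1
    have h2 : Abelianization.of (conjHom X a (hDX ha) x * x⁻¹) = 1 := by
      rw [map_mul, h1, ← map_mul, mul_inv_cancel, map_one]
    have h3 : conjHom X a (hDX ha) x * x⁻¹ ∈ commutator X := by
      rw [← Abelianization.ker_of]; exact h2
    rw [hN]
    exact ⟨_, h3, by simp⟩
  obtain ⟨c, hc, hcN⟩ := coprime_fixed_coset D X hDX (coprime_card_of_isPGroup hDp hX)
    (Or.inl (IsNilpotent.to_isSolvable (G := D) (h := hDp.isNilpotent))) ⁅X, X⁆
    (Subgroup.commutator_le_self X) hXN hDN x.1 x.2 hfix'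
  refine ⟨⟨c, hc.1⟩, hc.2, ?_⟩
  rw [hN] at hcN
  obtain ⟨n, hn, hn'⟩ := hcN
  have h4 : n = x⁻¹ * ⟨c, hc.1⟩ := by
    apply Subtype.ext
    simpa using hn'
  have h5 : Abelianization.of (x⁻¹ * ⟨c, hc.1⟩) = 1 := by
    rw [← h4]
    have : n ∈ (Abelianization.of (G := X)).ker := by rw [Abelianization.ker_of]; exact hn
    exact this
  rw [map_mul, map_inv, inv_mul_eq_one] at h5
  exact h5.symm

/-- the join of the centralizers in `X` of the nonidentity elements of `E` -/
def fixJoin (E X : Subgroup H) : Subgroup H :=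
  ⨆ d : {d : H // d ∈ E ∧ d ≠ 1}, X ⊓ Subgroup.centralizer {(d : H)}

omit [Finite H] in
theorem fixJoin_le (E X : Subgroup H) : fixJoin E X ≤ X := iSup_le fun _ => inf_le_left

omit [Finite H] in
theorem fixJoin_mono (E : Subgroup H) {X₁ X₂ : Subgroup H} (h : X₁ ≤ X₂) :
    fixJoin E X₁ ≤ fixJoin E X₂ := iSup_mono fun _ => inf_le_inf_right _ h

omit [Finite H] in
theorem inf_centralizer_le_fixJoin {E X D : Subgroup H} (hD : D ≤ E) (hD1 : D ≠ ⊥) :
    X ⊓ Subgroup.centralizer (D : Set H) ≤ fixJoin E X := by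
  obtain ⟨d, hd1⟩ := (Subgroup.ne_bot_iff_exists_ne_one.mp hD1)
  have hd1' : (d : H) ≠ 1 := fun h => hd1 (Subtype.ext h)
  refine le_trans ?_ (le_iSup (fun d : {d : H // d ∈ E ∧ d ≠ 1} =>
    X ⊓ Subgroup.centralizer {(d : H)}) ⟨d.1, hD d.2, hd1'⟩)
  exact inf_le_inf_left _ (Subgroup.centralizer_le (Set.singleton_subset_iff.mpr d.2))

theorem le_fixJoin {p : ℕ} [hp : Fact p.Prime] {E : Subgroup H} (hE : Cfsg.IsElementaryAbelian p E)
    (hcard : Nat.card E = p ^ 2) :
    ∀ n : ℕ, ∀ X : Subgroup H, Nat.card X ≤ n → ¬ p ∣ Nat.card X →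
      E ≤ Subgroup.normalizer (X : Set H) → X ≤ fixJoin E X := by
  intro n
  induction n with
  | zero =>
    intro X hX
    have := Nat.card_pos (α := X)
    omega
  | succ n ih =>
    intro X hXn hXp hEX
    have hEp : IsPGroup p E := ea_isPGroup hE
    have hEsolv : Group.IsSolvable E := IsNilpotent.to_isSolvable (h := hEp.isNilpotent)
    have ih' : ∀ X₁ : Subgroup H, X₁ < X → E ≤ Subgroup.normalizer (X₁ : Set H) →
        X₁ ≤ fixJoin E X := by
      intro X₁ hlt hE1
      have hc : Nat.card X₁ < Nat.card X := by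
        by_contra hcon
        exact hlt.ne (Subgroup.eq_of_le_of_card_ge hlt.le (by omega))
      have := ih X₁ (by omega) (fun h => hXp (h.trans (Subgroup.card_dvd_of_le hlt.le))) hE1
      exact this.trans (fixJoin_mono E hlt.le)
    by_cases hq : ∃ q : ℕ, q.Prime ∧ IsPGroup q X
    · obtain ⟨q, hqp, hqX⟩ := hq
      have : Fact q.Prime := ⟨hqp⟩
      by_cases hX1 : X = ⊥
      · rw [hX1]; exact bot_le
      have hXsolv : Group.IsSolvable X := IsNilpotent.to_isSolvable (h := hqX.isNilpotent)
      have hNlt : ⁅X, X⁆ < X := by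
        refine lt_of_le_of_ne (Subgroup.commutator_le_self X) ?_
        intro heq
        have hnt : Nontrivial X := by
          rw [Subgroup.nontrivial_iff_ne_bot]; exact hX1
        have h1 := Group.IsSolvable.commutator_lt_top_of_nontrivial X
        apply h1.ne
        have h2 := Subgroup.map_subtype_commutator X
        rw [heq] at h2
        apply Subgroup.map_injective X.subtype_injective
        rw [h2, ← MonoidHom.range_eq_map, Subgroup.range_subtype]
      have hNle : ⁅X, X⁆ ≤ fixJoin E X :=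
        ih' _ hNlt ((le_inf hEX hEX).trans (normalizer_inf_le_normalizer_commutator X X))
      intro x hx
      have hcomm_le : commutator X ≤ (fixJoin E X).subgroupOf X := by
        intro n hn
        rw [Subgroup.mem_subgroupOf]
        apply hNle
        rw [← Subgroup.map_subtype_commutator]
        exact ⟨n, hn, rfl⟩
      have hnorm : ∀ D : Subgroup H, D ≤ E → D ≠ ⊥ → ∀ v : Abelianization X,
          abNorm X D v ∈ ((fixJoin E X).subgroupOf X).map Abelianization.of := by
        intro D hDE hD1 v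
        obtain ⟨c, hc, hcv⟩ := exists_of_eq_of_fixed (hDE.trans hEX) (hEp.to_le hDE) hXp
          (abNorm X D v) (fun e he => abConj_abNorm X D (hDE.trans hEX) he v)
        rw [← hcv]
        refine ⟨c, ?_, rfl⟩
        show c ∈ (fixJoin E X).subgroupOf X
        rw [Subgroup.mem_subgroupOf]
        exact inf_centralizer_le_fixJoin hDE hD1 (Subgroup.mem_inf.mpr ⟨c.2, hc⟩)
      have hid := prod_abNorm_lines X hE.2 hcard (Abelianization.of (⟨x, hx⟩ : X))
      have hp2 : 2 ≤ p := hp.out.two_le
      have hvp : (Abelianization.of (⟨x, hx⟩ : X)) ^ p ∈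
          ((fixJoin E X).subgroupOf X).map Abelianization.of := by
        have h1 : (Abelianization.of (⟨x, hx⟩ : X)) ^ p =
            (∏ D ∈ linesOf p E, abNorm X D (Abelianization.of (⟨x, hx⟩ : X))) *
              (abNorm X E (Abelianization.of (⟨x, hx⟩ : X)))⁻¹ := by
          rw [hid]; group
        rw [h1]
        apply Subgroup.mul_mem
        · apply Subgroup.prod_mem
          intro D hD
          refine hnorm D (mem_linesOf.mp hD).1 ?_ _
          intro hbot
          have := (mem_linesOf.mp hD).2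
          rw [hbot, Subgroup.card_bot] at this
          omega
        · apply Subgroup.inv_mem
          refine hnorm E le_rfl ?_ _
          intro hbot
          rw [hbot, Subgroup.card_bot] at hcard
          have : 4 ≤ p ^ 2 := by nlinarith
          omega
      obtain ⟨y, hy, hyv⟩ := hvp
      have hxpY : (⟨x, hx⟩ : X) ^ p ∈ (fixJoin E X).subgroupOf X := by
        have h2 : Abelianization.of (y⁻¹ * (⟨x, hx⟩ : X) ^ p) = 1 := by
          rw [map_mul, map_inv, map_pow, hyv]; group
        have h3 : y⁻¹ * (⟨x, hx⟩ : X) ^ p ∈ commutator X := by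
          rw [← Abelianization.ker_of]; exact h2
        have h4 := Subgroup.mul_mem _ hy (hcomm_le h3)
        simpa using h4
      have hxp : x ^ p ∈ fixJoin E X := by
        rw [Subgroup.mem_subgroupOf] at hxpY
        simpa using hxpY
      have hcop : p.Coprime (orderOf x) := by
        rw [Nat.Prime.coprime_iff_not_dvd hp.out]
        intro hdvd
        apply hXp
        have h1 : orderOf (⟨x, hx⟩ : X) ∣ Nat.card X := orderOf_dvd_natCard _
        rw [← Subgroup.orderOf_coe] at h1
        exact hdvd.trans h1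
      obtain ⟨m, hm⟩ := exists_pow_eq_self_of_coprime hcop
      rw [← hm]
      exact Subgroup.pow_mem _ hxp m
    · apply le_of_forall_sylow_le
      intro q hqf
      obtain ⟨P, hP⟩ := coprime_invariant_sylow_exists E X hEX (coprime_card_of_isPGroup hEp hXp)
        (Or.inl hEsolv) q
      refine ⟨P, ih' _ ?_ hP⟩
      refine lt_of_le_of_ne (Subgroup.map_subtype_le _) ?_
      intro heq
      apply hq
      refine ⟨q, hqf.out, ?_⟩
      have h1 : IsPGroup q ((P : Subgroup X).map X.subtype) := P.2.map _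
      rw [heq] at h1
      exact h1

end Cfsg.Agent.Lib.Helper3.Gen
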