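import Mathlib
import Cfsg.Agent.Lib.Helper3.Gen2

set_option autoImplicit false

/-!
Generation by the centralizers of the subgroups of index at most `p`.
-/

namespace Cfsg.Agent.Lib.Helper3.Gen

open Cfsg.Agent.Lib.Lead Cfsg.Agent.Lib.Helper3.Sig

variable {H : Type*} [Group H]

theorem le_normalizer_of_isMulCommutative {A K Z : Subgroup H} (hA : IsMulCommutative A)
    (hK : K ≤ A) (hZ : Z ≤ A) : K ≤ Subgroup.normalizer (Z : Set H) := by
  intro k hk
  have hcomm : ∀ z ∈ A, k * z * k⁻¹ = z := by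
    intro z hz
    have h1 : (⟨k, hK hk⟩ : A) * ⟨z, hz⟩ = ⟨z, hz⟩ * ⟨k, hK hk⟩ := hA.is_comm.comm _ _
    have h2 : k * z = z * k := congrArg Subtype.val h1
    rw [h2]; group
  rw [Subgroup.mem_normalizer_iff]
  intro z
  constructor
  · intro hz
    rw [hcomm z (hZ hz)]; exact hz
  · intro hz
    have h1 := hcomm _ (hZ hz)
    have h2 : z = k * z * k⁻¹ := by
      calc z = k⁻¹ * (k * z * k⁻¹) * k := by group
        _ = k⁻¹ * (k * (k * z * k⁻¹) * k⁻¹) * k := by rw [h1]
        _ = k * z * k⁻¹ := by group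
    rw [h2]; exact hz

variable [Finite H]

theorem sup_zpowers_facts {p : ℕ} [Fact p.Prime] {A K : Subgroup H} (hA : IsMulCommutative A)
    (hK : K ≤ A) {g : H} (hgA : g ∈ A) (hgp : g ^ p = 1) (hgK : g ∉ K) :
    K ⊓ Subgroup.zpowers g = ⊥ ∧
      Nat.card (K ⊔ Subgroup.zpowers g : Subgroup H) = Nat.card K * p := by
  have hg1 : g ≠ 1 := fun h => hgK (h ▸ Subgroup.one_mem K)
  have hcardZ : Nat.card (Subgroup.zpowers g) = p := card_zpowers_of_pow_eq_one hgp hg1
  have hdisj : K ⊓ Subgroup.zpowers g = ⊥ := by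
    rw [Subgroup.eq_bot_iff_forall]
    intro h hh
    by_contra hh1
    obtain ⟨hhK, hhZ⟩ := Subgroup.mem_inf.mp hh
    have := zpowers_eq_of_prime_card hcardZ hhZ hh1
    apply hgK
    have h2 : g ∈ Subgroup.zpowers h := by rw [this]; exact Subgroup.mem_zpowers g
    exact (Subgroup.zpowers_le.mpr hhK) h2
  refine ⟨hdisj, ?_⟩
  rw [card_sup_of_disjoint K _ (le_normalizer_of_isMulCommutative hA hK
    (Subgroup.zpowers_le.mpr hgA)) hdisj, hcardZ]

/-- join of centralizers of the subgroups of index at most `p` containing `K` -/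
def hypJoin (p : ℕ) (A K X : Subgroup H) : Subgroup H :=
  ⨆ B : {B : Subgroup H // K ≤ B ∧ B ≤ A ∧ B.relIndex A ≤ p}, X ⊓ Subgroup.centralizer (B : Set H)

omit [Finite H] in
theorem hypJoin_mono (p : ℕ) (A : Subgroup H) {K₁ K₂ X₁ X₂ : Subgroup H} (hK : K₁ ≤ K₂)
    (hX : X₂ ≤ X₁) : hypJoin p A K₂ X₂ ≤ hypJoin p A K₁ X₁ := by
  apply iSup_le
  rintro ⟨B, hKB, hBA, hidx⟩
  exact le_trans (inf_le_inf_right _ hX)
    (le_iSup (fun B : {B : Subgroup H // K₁ ≤ B ∧ B ≤ A ∧ B.relIndex A ≤ p} =>
      X₁ ⊓ Subgroup.centralizer (B : Set H)) ⟨B, hK.trans hKB, hBA, hidx⟩)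

theorem le_hypJoin {p : ℕ} [hp : Fact p.Prime] {A : Subgroup H} (hA : Cfsg.IsElementaryAbelian p A) :
    ∀ n : ℕ, ∀ K X : Subgroup H, Nat.card A - Nat.card K ≤ n → K ≤ A →
      X ≤ Subgroup.centralizer (K : Set H) → ¬ p ∣ Nat.card X →
      A ≤ Subgroup.normalizer (X : Set H) → X ≤ hypJoin p A K X := by
  intro n
  induction n with
  | zero =>
    intro K X hn hKA hXK hXp hAX
    have hle : Nat.card A ≤ Nat.card K := by omega
    have hKeq : K = A := Subgroup.eq_of_le_of_card_ge hKA hle
    refine le_trans ?_ (le_iSup (fun B : {B : Subgroup H // K ≤ B ∧ B ≤ A ∧ B.relIndex A ≤ p} =>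
      X ⊓ Subgroup.centralizer (B : Set H)) ⟨K, le_rfl, hKA, ?_⟩)
    · exact le_inf le_rfl hXK
    · rw [hKeq, Subgroup.relIndex_self]; exact hp.out.one_lt.le
  | succ n ih =>
    intro K X hn hKA hXK hXp hAX
    by_cases hidx : K.relIndex A ≤ p
    · refine le_trans ?_ (le_iSup (fun B : {B : Subgroup H // K ≤ B ∧ B ≤ A ∧ B.relIndex A ≤ p} =>
        X ⊓ Subgroup.centralizer (B : Set H)) ⟨K, le_rfl, hKA, hidx⟩)
      exact le_inf le_rfl hXK
    · push Not at hidx
      have hcardA : Nat.card A = K.relIndex A * Nat.card K := by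
        have h1 := Subgroup.relIndex_mul_relIndex (⊥ : Subgroup H) K A bot_le hKA
        rw [Subgroup.relIndex_bot_left, Subgroup.relIndex_bot_left] at h1
        rw [← h1, mul_comm]
      have hKpos : 0 < Nat.card K := Nat.card_pos
      have hlt : p * Nat.card K < Nat.card A := by
        rw [hcardA]; exact Nat.mul_lt_mul_of_pos_right hidx hKpos
      -- choose a
      have hp2 : 2 ≤ p := hp.out.two_le
      obtain ⟨a, haA, haK⟩ : ∃ a ∈ A, a ∉ K := by
        by_contra hcon
        push Not at hcon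
        have : A ≤ K := hcon
        have h1 := Subgroup.card_le_of_le this
        nlinarith
      obtain ⟨hdisj1, hcard1⟩ := sup_zpowers_facts hA.1 hKA haA (hA.2 a haA) haK
      have hK1A : K ⊔ Subgroup.zpowers a ≤ A := sup_le hKA (Subgroup.zpowers_le.mpr haA)
      obtain ⟨b, hbA, hbK⟩ : ∃ b ∈ A, b ∉ K ⊔ Subgroup.zpowers a := by
        by_contra hcon
        push Not at hcon
        have : A ≤ K ⊔ Subgroup.zpowers a := hcon
        have h1 := Subgroup.card_le_of_le this
        rw [hcard1] at h1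
        nlinarith
      obtain ⟨hdisj2, hcard2⟩ := sup_zpowers_facts hA.1 hK1A hbA (hA.2 b hbA) hbK
      -- the subgroup E
      have hEA : Subgroup.zpowers a ⊔ Subgroup.zpowers b ≤ A :=
        sup_le (Subgroup.zpowers_le.mpr haA) (Subgroup.zpowers_le.mpr hbA)
      obtain ⟨-, hcardE⟩ := sup_zpowers_facts hA.1 (Subgroup.zpowers_le.mpr haA) hbA (hA.2 b hbA)
        (fun h => hbK (Subgroup.mem_sup_right h))
      have ha1 : a ≠ 1 := fun h => haK (h ▸ Subgroup.one_mem K)
      rw [card_zpowers_of_pow_eq_one (hA.2 a haA) ha1] at hcardE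
      have hcardE' : Nat.card (Subgroup.zpowers a ⊔ Subgroup.zpowers b : Subgroup H) = p ^ 2 := by
        rw [hcardE]; ring
      have hEea : Cfsg.IsElementaryAbelian p (Subgroup.zpowers a ⊔ Subgroup.zpowers b) := by
        refine ⟨?_, fun x hx => hA.2 x (hEA hx)⟩
        have := hA.1
        refine ⟨⟨fun x y => ?_⟩⟩
        have h1 : (⟨x.1, hEA x.2⟩ : A) * ⟨y.1, hEA y.2⟩ = ⟨y.1, hEA y.2⟩ * ⟨x.1, hEA x.2⟩ :=
          this.is_comm.comm _ _
        have h2 : x.1 * y.1 = y.1 * x.1 := congrArg Subtype.val h1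
        exact Subtype.ext h2
      -- E meets K trivially
      have hKE : K ⊓ (Subgroup.zpowers a ⊔ Subgroup.zpowers b) = ⊥ := by
        have h1 := Cfsg.Agent.Lib.Lead.card_sup_mul_card_inf K
          (Subgroup.zpowers a ⊔ Subgroup.zpowers b) (le_normalizer_of_isMulCommutative hA.1 hKA hEA)
        rw [← sup_assoc, hcard2, hcard1, hcardE'] at h1
        have h2 : Nat.card (K ⊓ (Subgroup.zpowers a ⊔ Subgroup.zpowers b) : Subgroup H) = 1 := by
          have hpp : 0 < Nat.card K * p * p := by positivity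
          have : Nat.card K * p * p * Nat.card (K ⊓ (Subgroup.zpowers a ⊔ Subgroup.zpowers b) : Subgroup H)
              = Nat.card K * p * p * 1 := by rw [h1]; ring
          exact Nat.eq_of_mul_eq_mul_left hpp this
        exact Subgroup.card_eq_one.mp h2
      -- apply the rank two generation
      have hgen := le_fixJoin hEea hcardE' (Nat.card X) X le_rfl hXp (hEA.trans hAX)
      refine hgen.trans ?_
      apply iSup_le
      rintro ⟨d, hdE, hd1⟩
      have hdA : d ∈ A := hEA hdE
      have hdK : d ∉ K := by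
        intro h
        apply hd1
        have : d ∈ K ⊓ (Subgroup.zpowers a ⊔ Subgroup.zpowers b) := Subgroup.mem_inf.mpr ⟨h, hdE⟩
        rw [hKE] at this
        exact Subgroup.mem_bot.mp this
      obtain ⟨-, hcardd⟩ := sup_zpowers_facts hA.1 hKA hdA (hA.2 d hdA) hdK
      have hKdA : K ⊔ Subgroup.zpowers d ≤ A := sup_le hKA (Subgroup.zpowers_le.mpr hdA)
      -- the centralizer of d in X
      have hAd : A ≤ Subgroup.normalizer ((Subgroup.centralizer {d} : Subgroup H) : Set H) := by
        intro x hx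
        have hxd : x * d = d * x := by
          have h1 : (⟨x, hx⟩ : A) * ⟨d, hdA⟩ = ⟨d, hdA⟩ * ⟨x, hx⟩ := hA.1.is_comm.comm _ _
          exact congrArg Subtype.val h1
        rw [Subgroup.mem_normalizer_iff]
        intro c
        rw [Subgroup.mem_centralizer_singleton_iff, Subgroup.mem_centralizer_singleton_iff]
        constructor
        · intro hc
          calc x * c * x⁻¹ * d = x * c * (x⁻¹ * (d * x) * x⁻¹) := by group
            _ = x * c * (x⁻¹ * (x * d) * x⁻¹) := by rw [hxd]
            _ = x * (c * d) * x⁻¹ := by group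
            _ = x * (d * c) * x⁻¹ := by rw [hc]
            _ = (x * d) * c * x⁻¹ := by group
            _ = (d * x) * c * x⁻¹ := by rw [hxd]
            _ = d * (x * c * x⁻¹) := by group
        · intro hc
          calc c * d = x⁻¹ * ((x * c * x⁻¹) * (x * d)) := by group
            _ = x⁻¹ * ((x * c * x⁻¹) * (d * x)) := by rw [hxd]
            _ = x⁻¹ * ((x * c * x⁻¹ * d) * x) := by group
            _ = x⁻¹ * ((d * (x * c * x⁻¹)) * x) := by rw [hc]
            _ = x⁻¹ * (d * x) * c := by group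
            _ = x⁻¹ * (x * d) * c := by rw [hxd]
            _ = d * c := by group
      have hW := ih (K ⊔ Subgroup.zpowers d) (X ⊓ Subgroup.centralizer {d}) ?_ hKdA ?_ ?_
        (le_normalizer_inf hAX hAd)
      · exact hW.trans (hypJoin_mono p A le_sup_left inf_le_left)
      · have h1 := Subgroup.card_le_of_le hKdA
        rw [hcardd] at h1 ⊢
        have : Nat.card K * 2 ≤ Nat.card K * p := Nat.mul_le_mul_left _ hp2
        omega
      · rw [Subgroup.le_centralizer_iff]
        apply sup_le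
        · rw [← Subgroup.le_centralizer_iff]
          exact inf_le_left.trans hXK
        · rw [Subgroup.zpowers_le, Subgroup.mem_centralizer_iff]
          intro w hw
          have := (Subgroup.mem_inf.mp hw).2
          rw [Subgroup.mem_centralizer_singleton_iff] at this
          exact this
      · intro hdvd
        exact hXp (hdvd.trans (Subgroup.card_dvd_of_le inf_le_left))

end Cfsg.Agent.Lib.Helper3.Gen
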