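import Mathlib
import Cfsg.Agent.Lib.Helper3.Gen3
import Cfsg.Agent.Lib.Lead.CoprimeSylow4

set_option autoImplicit false

namespace Cfsg.Agent.Lib.Helper3.Sig
variable {G : Type*} [Group G] [Finite G]

theorem not_dvd_card_of_isPGroup {p q : ℕ} [hp : Fact p.Prime] [hq : Fact q.Prime] (hqp : q ≠ p)
    {Q : Subgroup G} (hQ : IsPGroup q Q) : ¬ p ∣ Nat.card Q := by
  obtain ⟨k, hk⟩ := IsPGroup.iff_card.mp hQ
  rw [hk]
  intro h
  have := (Nat.prime_dvd_prime_iff_eq hp.out hq.out).mp (hp.out.dvd_of_dvd_pow h)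
  exact hqp this.symm

end Cfsg.Agent.Lib.Helper3.Sig
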