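import Mathlib
import Cfsg.Agent.Lib.Helper3.Sig2
import Cfsg.Agent.Lib.Lead.CoprimeSylow5

set_option autoImplicit false

/-!
Signalizer functors: the family, conjugation by `θ(C_G(A))`, maximal `q`-members.
-/

namespace Cfsg.Agent.Lib.Helper3.Sig

open Cfsg.Agent.Lib.Lead Cfsg.Agent.Lib.Helper3.Gen

variable {G : Type*} [Group G]

theorem le_normalizer_centralizer_singleton {A : Subgroup G} (hA : IsMulCommutative A) {d : G}
    (hdA : d ∈ A) : A ≤ Subgroup.normalizer ((Subgroup.centralizer {d} : Subgroup G) : Set G) := by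
  intro x hx
  have hxd : x * d = d * x := by
    have h1 : (⟨x, hx⟩ : A) * ⟨d, hdA⟩ = ⟨d, hdA⟩ * ⟨x, hx⟩ := hA.is_comm.comm _ _
    exact congrArg Subtype.val h1
  rw [Subgroup.mem_normalizer_iff]
  intro c
  rw [Subgroup.mem_centralizer_singleton_iff, Subgroup.mem_centralizer_singleton_iff]
  constructor
  · intro hc
    calc x * c * x⁻¹ * d = x * c * (x⁻¹ * (d * x) * x⁻¹) := by group
      _ = x * c * (x⁻¹ * (x * d) * x⁻¹) := by rw [hxd]
      _ = x * (c * d) * x⁻¹ := by group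
      _ = x * (d * c) * x⁻¹ := by rw [hc]
      _ = (x * d) * c * x⁻¹ := by group
      _ = (d * x) * c * x⁻¹ := by rw [hxd]
      _ = d * (x * c * x⁻¹) := by group
  · intro hc
    calc c * d = x⁻¹ * ((x * c * x⁻¹) * (x * d)) := by group
      _ = x⁻¹ * ((x * c * x⁻¹) * (d * x)) := by rw [hxd]
      _ = x⁻¹ * ((x * c * x⁻¹ * d) * x) := by group
      _ = x⁻¹ * ((d * (x * c * x⁻¹)) * x) := by rw [hc]
      _ = x⁻¹ * (d * x) * c := by group
      _ = x⁻¹ * (x * d) * c := by rw [hxd]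
      _ = d * c := by group

variable {p : ℕ} {A : Subgroup G} {θ : G → Subgroup G}

/-- members of the family are normalized by `A` -/
theorem family_le_normalizer {U : Subgroup G} (hU : U ∈ Cfsg.signalizerFamily p A θ) :
    A ≤ Subgroup.normalizer (U : Set G) := le_normalizer_of_conj_mem hU.2.2.1

/-- `A`-invariant subgroups of members are members -/
theorem family_of_le [Finite G] {U V : Subgroup G} (hU : U ∈ Cfsg.signalizerFamily p A θ) (hVU : V ≤ U)
    (hAV : A ≤ Subgroup.normalizer (V : Set G)) : V ∈ Cfsg.signalizerFamily p A θ := by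
  obtain ⟨hs, hp, hi, hb⟩ := hU
  refine ⟨?_, ?_, ?_, ?_⟩
  · exact Group.isSolvable_of_isSolvable_injective (f := Subgroup.inclusion hVU)
      (Subgroup.inclusion_injective hVU)
  · intro h
    exact hp (h.trans (Subgroup.card_dvd_of_le hVU))
  · intro b hb' u hu
    exact (Subgroup.mem_normalizer_iff.mp (hAV hb') u).mp hu
  · intro a ha ha1
    exact (inf_le_inf_right _ hVU).trans (hb a ha ha1)

/-- the values of a solvable signalizer functor are members -/
theorem theta_mem_family (hθ : Cfsg.IsSolvableSignalizerFunctor p A θ) {a : G} (ha : a ∈ A)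
    (ha1 : a ≠ 1) : θ a ∈ Cfsg.signalizerFamily p A θ := by
  obtain ⟨⟨hcent, hpprime, hinv, hbal⟩, hsolv⟩ := hθ
  exact ⟨hsolv a ha ha1, hpprime a ha ha1, hinv a ha ha1, fun b hb hb1 => hbal a ha ha1 b hb hb1⟩

/-- `θ(C_G(A))` centralizes `A` -/
theorem signalizerInf_le_centralizer (hθ : Cfsg.IsSignalizerFunctor p A θ) :
    Cfsg.signalizerInf A θ ≤ Subgroup.centralizer (A : Set G) := by
  intro c hc
  rw [Subgroup.mem_centralizer_iff]
  intro a ha
  by_cases ha1 : a = 1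
  · rw [ha1]; simp
  · have h1 : c ∈ θ a := by
      have := (Subgroup.mem_iInf.mp hc) ⟨a, ha, ha1⟩
      exact this
    have h2 := hθ.1 a ha ha1 h1
    rw [Subgroup.mem_centralizer_singleton_iff] at h2
    exact h2.symm

theorem signalizerInf_le_theta {a : G} (ha : a ∈ A) (ha1 : a ≠ 1) :
    Cfsg.signalizerInf A θ ≤ θ a := by
  intro c hc
  exact (Subgroup.mem_iInf.mp hc) ⟨a, ha, ha1⟩

theorem map_conj_map_conj_inv (c : G) (U : Subgroup G) :
    (U.map (MulAut.conj c).toMonoidHom).map (MulAut.conj c⁻¹).toMonoidHom = U := by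
  rw [Subgroup.map_map]
  have : (MulAut.conj c⁻¹).toMonoidHom.comp (MulAut.conj c).toMonoidHom = MonoidHom.id G := by
    ext x; simp [mul_assoc]
  rw [this, Subgroup.map_id]

theorem mem_map_conj {c x : G} {U : Subgroup G} :
    x ∈ U.map (MulAut.conj c).toMonoidHom ↔ c⁻¹ * x * c ∈ U := by
  constructor
  · rintro ⟨u, hu, rfl⟩
    have : c⁻¹ * ((MulAut.conj c).toMonoidHom u) * c = u := by simp [mul_assoc]
    rw [this]; exact hu
  · intro h
    exact ⟨c⁻¹ * x * c, h, by simp [mul_assoc]⟩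

/-- conjugation by an element of `θ(C_G(A))` preserves the family -/
theorem family_map_conj [Finite G] (hθ : Cfsg.IsSignalizerFunctor p A θ) {U : Subgroup G}
    (hU : U ∈ Cfsg.signalizerFamily p A θ) {c : G} (hc : c ∈ Cfsg.signalizerInf A θ) :
    U.map (MulAut.conj c).toMonoidHom ∈ Cfsg.signalizerFamily p A θ := by
  obtain ⟨hs, hp, hi, hb⟩ := hU
  have hcA := signalizerInf_le_centralizer hθ hc
  have hcomm : ∀ b ∈ A, b * c = c * b := fun b hb => Subgroup.mem_centralizer_iff.mp hcA b hb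
  have hinj : Function.Injective (MulAut.conj c).toMonoidHom := (MulAut.conj c).injective
  refine ⟨?_, ?_, ?_, ?_⟩
  · exact Group.isSolvable_of_isSolvable_injective
      (f := (Subgroup.equivMapOfInjective U _ hinj).symm.toMonoidHom)
      (Subgroup.equivMapOfInjective U _ hinj).symm.injective
  · rw [Subgroup.card_map_of_injective hinj]; exact hp
  · intro b hb x hx
    rw [mem_map_conj] at hx ⊢
    have h1 := hi b hb _ hx
    have hbc := hcomm b hb
    have e : c⁻¹ * (b * x * b⁻¹) * c = b * (c⁻¹ * x * c) * b⁻¹ := by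
      have h2 : c⁻¹ * b = b * c⁻¹ := by
        calc c⁻¹ * b = c⁻¹ * (b * c) * c⁻¹ := by group
          _ = c⁻¹ * (c * b) * c⁻¹ := by rw [hbc]
          _ = b * c⁻¹ := by group
      have h3 : b⁻¹ * c = c * b⁻¹ := by
        calc b⁻¹ * c = b⁻¹ * (c * b) * b⁻¹ := by group
          _ = b⁻¹ * (b * c) * b⁻¹ := by rw [hbc]
          _ = c * b⁻¹ := by group
      calc c⁻¹ * (b * x * b⁻¹) * c = (c⁻¹ * b) * x * (b⁻¹ * c) := by group
        _ = (b * c⁻¹) * x * (c * b⁻¹) := by rw [h2, h3]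
        _ = b * (c⁻¹ * x * c) * b⁻¹ := by group
    rw [e]; exact h1
  · intro a ha ha1 x hx
    obtain ⟨hxU, hxa⟩ := Subgroup.mem_inf.mp hx
    rw [mem_map_conj] at hxU
    rw [Subgroup.mem_centralizer_singleton_iff] at hxa
    have hac := hcomm a ha
    have hcθ : c ∈ θ a := signalizerInf_le_theta ha ha1 hc
    have h1 : c⁻¹ * x * c ∈ U ⊓ Subgroup.centralizer {a} := by
      refine Subgroup.mem_inf.mpr ⟨hxU, ?_⟩
      rw [Subgroup.mem_centralizer_singleton_iff]
      calc c⁻¹ * x * c * a = c⁻¹ * x * (a * c) * (c⁻¹ * c) := by rw [hac]; group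
        _ = c⁻¹ * (x * a) * c := by group
        _ = c⁻¹ * (a * x) * c := by rw [hxa]
        _ = c⁻¹ * (a * c) * c⁻¹ * x * c := by group
        _ = c⁻¹ * (c * a) * c⁻¹ * x * c := by rw [hac]
        _ = a * (c⁻¹ * x * c) := by group
    have h2 := hb a ha ha1 h1
    have : x = c * (c⁻¹ * x * c) * c⁻¹ := by group
    rw [this]
    exact Subgroup.mul_mem _ (Subgroup.mul_mem _ hcθ h2) (Subgroup.inv_mem _ hcθ)

/-- conjugacy under `θ(C_G(A))` -/
def CConj (A : Subgroup G) (θ : G → Subgroup G) (Q Q' : Subgroup G) : Prop :=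
  ∃ c ∈ Cfsg.signalizerInf A θ, Q.map (MulAut.conj c).toMonoidHom = Q'

theorem CConj.refl (Q : Subgroup G) : CConj A θ Q Q :=
  ⟨1, Subgroup.one_mem _, by
    have : (MulAut.conj (1 : G)).toMonoidHom = MonoidHom.id G := by ext x; simp
    rw [this, Subgroup.map_id]⟩

theorem CConj.symm {Q Q' : Subgroup G} (h : CConj A θ Q Q') : CConj A θ Q' Q := by
  obtain ⟨c, hc, rfl⟩ := h
  exact ⟨c⁻¹, Subgroup.inv_mem _ hc, map_conj_map_conj_inv c Q⟩

theorem CConj.trans {Q Q' Q'' : Subgroup G} (h : CConj A θ Q Q') (h' : CConj A θ Q' Q'') :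
    CConj A θ Q Q'' := by
  obtain ⟨c, hc, rfl⟩ := h
  obtain ⟨c', hc', rfl⟩ := h'
  refine ⟨c' * c, Subgroup.mul_mem _ hc' hc, ?_⟩
  rw [Subgroup.map_map]
  congr 1
  ext x
  simp [mul_assoc]

/-- maximal `q`-members of the family -/
def IsMaxQ (p : ℕ) (A : Subgroup G) (θ : G → Subgroup G) (q : ℕ) (Q : Subgroup G) : Prop :=
  Q ∈ Cfsg.signalizerFamily p A θ ∧ IsPGroup q Q ∧
    ∀ R ∈ Cfsg.signalizerFamily p A θ, IsPGroup q R → Q ≤ R → R = Q

theorem IsMaxQ.map_conj [Finite G] (hθ : Cfsg.IsSignalizerFunctor p A θ) {q : ℕ} {Q : Subgroup G}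
    (hQ : IsMaxQ p A θ q Q) {c : G} (hc : c ∈ Cfsg.signalizerInf A θ) :
    IsMaxQ p A θ q (Q.map (MulAut.conj c).toMonoidHom) := by
  obtain ⟨hQf, hQq, hQm⟩ := hQ
  refine ⟨family_map_conj hθ hQf hc, hQq.map _, ?_⟩
  intro R hRf hRq hle
  have h1 := family_map_conj hθ hRf (Subgroup.inv_mem _ hc)
  have h2 : Q ≤ R.map (MulAut.conj c⁻¹).toMonoidHom := by
    have := Subgroup.map_mono (f := (MulAut.conj c⁻¹).toMonoidHom) hle
    rwa [map_conj_map_conj_inv] at this
  have h3 := hQm _ h1 (hRq.map _) h2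
  have h4 : (R.map (MulAut.conj c⁻¹).toMonoidHom).map (MulAut.conj c).toMonoidHom =
      Q.map (MulAut.conj c).toMonoidHom := by rw [h3]
  have h5 := map_conj_map_conj_inv c⁻¹ R
  rw [inv_inv] at h5
  rw [h5] at h4
  exact h4

/-- every `q`-member lies in a maximal one -/
theorem exists_isMaxQ_ge [Finite G] {q : ℕ} {S : Subgroup G} (hS : S ∈ Cfsg.signalizerFamily p A θ)
    (hSq : IsPGroup q S) : ∃ Q, IsMaxQ p A θ q Q ∧ S ≤ Q := by
  have hfin : {R : Subgroup G | R ∈ Cfsg.signalizerFamily p A θ ∧ IsPGroup q R}.Finite :=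
    Set.toFinite _
  obtain ⟨Q, hSQ, hQ⟩ := hfin.exists_le_maximal (a := S) ⟨hS, hSq⟩
  refine ⟨Q, ⟨hQ.1.1, hQ.1.2, ?_⟩, hSQ⟩
  intro R hR hRq hle
  exact le_antisymm (hQ.2 ⟨hR, hRq⟩ hle) hle

end Cfsg.Agent.Lib.Helper3.Sig
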