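import Mathlib
import Cfsg.Agent.Lib.Helper3.Sig3
import Cfsg.Agent.S1280
import Cfsg.Agent.S1282

set_option autoImplicit false

/-!
The transitivity theorem for solvable signalizer functors.
-/

namespace Cfsg.Agent.Lib.Helper3.Sig

open Cfsg.Agent.Lib.Lead Cfsg.Agent.Lib.Helper3.Gen

variable {G : Type*} [Group G] [Finite G]

theorem card_lt_card_of_lt {U V : Subgroup G} (h : U < V) : Nat.card U < Nat.card V := by
  by_contra hcon
  exact h.ne (Subgroup.eq_of_le_of_card_ge h.le (by omega))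

theorem transitivity_aux {p : ℕ} [hp : Fact p.Prime] {A : Subgroup G}
    (hA : Cfsg.IsElementaryAbelian p A) (hA3 : p ^ 3 ≤ Nat.card A) {θ : G → Subgroup G}
    (hθ : Cfsg.IsSolvableSignalizerFunctor p A θ) {q : ℕ} [hq : Fact q.Prime] (hqp : q ≠ p) :
    ∀ n : ℕ, ∀ Q₁ Q₂ : Subgroup G, IsMaxQ p A θ q Q₁ → IsMaxQ p A θ q Q₂ →
      Nat.card G - Nat.card (Q₁ ⊓ Q₂ : Subgroup G) = n → CConj A θ Q₁ Q₂ := by
  intro n
  induction n using Nat.strong_induction_on with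
  | _ n ih =>
  intro Q₁ Q₂ h₁ h₂ hn
  by_cases hD₁ : Q₁ ⊓ Q₂ = Q₁
  · have := h₁.2.2 Q₂ h₂.1 h₂.2.1 (inf_eq_left.mp hD₁)
    rw [this]; exact CConj.refl _
  by_cases hD₂ : Q₁ ⊓ Q₂ = Q₂
  · have := h₂.2.2 Q₁ h₁.1 h₁.2.1 (inf_eq_right.mp hD₂)
    rw [this]; exact CConj.refl _
  have hp2 : 2 ≤ p := hp.out.two_le
  have hA2 : p ^ 2 ≤ Nat.card A := by
    have : p ^ 2 ≤ p ^ 3 := Nat.pow_le_pow_right (by omega) (by omega)
    omega
  have hAQ₁ := family_le_normalizer h₁.1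
  have hAQ₂ := family_le_normalizer h₂.1
  obtain ⟨a, haA, ha1, hna₁, hna₂⟩ := Cfsg.Agent.S1282.result p A hA hA3 q hqp Q₁ Q₂ h₁.2.1 h₂.2.1
    hAQ₁ hAQ₂ hD₁ hD₂
  have hAD0 : A ≤ Subgroup.normalizer ((Q₁ ⊓ Q₂ : Subgroup G) : Set G) := le_normalizer_inf hAQ₁ hAQ₂
  obtain ⟨D, hD⟩ : ∃ D : Subgroup G, D = Q₁ ⊓ Q₂ := ⟨_, rfl⟩
  rw [← hD] at hna₁ hna₂ hn hAD0
  have hDQ₁ : D ≤ Q₁ := hD ▸ inf_le_left
  have hDQ₂ : D ≤ Q₂ := hD ▸ inf_le_right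
  have hAD : A ≤ Subgroup.normalizer (D : Set G) := hAD0
  have hDf : D ∈ Cfsg.signalizerFamily p A θ := family_of_le h₁.1 hDQ₁ hAD
  have hθa := theta_mem_family hθ haA ha1
  have hAND : A ≤ Subgroup.normalizer
      ((Subgroup.normalizer (D : Set G) : Subgroup G) : Set G) :=
    hAD.trans Subgroup.le_normalizer
  have hYf : θ a ⊓ Subgroup.normalizer (D : Set G) ∈ Cfsg.signalizerFamily p A θ :=
    family_of_le hθa inf_le_left (le_normalizer_inf (family_le_normalizer hθa) hAND)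
  have hRf0 := Cfsg.Agent.S1280.result p A hA hA2 θ hθ _ _ hDf hYf inf_le_right
  obtain ⟨R, hR⟩ : ∃ R : Subgroup G, R = D ⊔ θ a ⊓ Subgroup.normalizer (D : Set G) := ⟨_, rfl⟩
  rw [← hR] at hRf0
  have hRf : R ∈ Cfsg.signalizerFamily p A θ := hRf0
  have hDR : D ≤ R := hR ▸ le_sup_left
  have hYR : θ a ⊓ Subgroup.normalizer (D : Set G) ≤ R := hR ▸ le_sup_right
  have hAR := family_le_normalizer hRf
  have hAC : A ≤ Subgroup.normalizer ((Subgroup.centralizer {a} : Subgroup G) : Set G) :=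
    le_normalizer_centralizer_singleton hA.1 haA
  have hcop : (Nat.card A).Coprime (Nat.card R) :=
    coprime_card_of_isPGroup (ea_isPGroup hA) hRf.2.1
  have hAsolv : Group.IsSolvable A := IsNilpotent.to_isSolvable (h := (ea_isPGroup hA).isNilpotent)
  -- the two enlarged subgroups
  have key : ∀ Q : Subgroup G, IsMaxQ p A θ q Q → D ≤ Q →
      ¬ (Subgroup.normalizer (D : Set G) ⊓ Q ⊓ Subgroup.centralizer {a} ≤ D) →
      ∃ S : Subgroup G, S ≤ R ∧ Nat.card S = q ^ (Nat.card R).factorization q ∧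
        A ≤ Subgroup.normalizer (S : Set G) ∧
        ∃ U : Subgroup G, D < U ∧ U ≤ Q ∧ U ≤ S := by
    intro Q hQ hDQ hna
    have hAQ := family_le_normalizer hQ.1
    obtain ⟨V, hV⟩ : ∃ V : Subgroup G,
      V = Subgroup.normalizer (D : Set G) ⊓ Q ⊓ Subgroup.centralizer {a} := ⟨_, rfl⟩
    rw [← hV] at hna
    have hVQ : V ≤ Q := hV ▸ (inf_le_left.trans inf_le_right)
    have hVθ : V ≤ θ a := by
      rw [hV]
      exact (inf_le_inf_right _ inf_le_right).trans (hQ.1.2.2.2 a haA ha1)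
    have hVN : V ≤ Subgroup.normalizer (D : Set G) := hV ▸ (inf_le_left.trans inf_le_left)
    have hAV : A ≤ Subgroup.normalizer (V : Set G) := by
      rw [hV]; exact le_normalizer_inf (le_normalizer_inf hAND hAQ) hAC
    have hUQ : D ⊔ V ≤ Q := sup_le hDQ hVQ
    have hUq := hQ.2.1.to_le hUQ
    have hUR : D ⊔ V ≤ R := sup_le hDR ((le_inf hVθ hVN).trans hYR)
    have hAU : A ≤ Subgroup.normalizer ((D ⊔ V : Subgroup G) : Set G) := le_normalizer_sup hAD hAV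
    have hDU : D < D ⊔ V := by
      refine lt_of_le_of_ne le_sup_left ?_
      intro heq
      apply hna
      calc V ≤ D ⊔ V := le_sup_right
        _ = D := heq.symm
    obtain ⟨S, hSR, hUS, hScard, hAS⟩ := coprime_invariant_pgroup_le_sylow_aux A R hAR hcop
      (Or.inl hAsolv) q _ (D ⊔ V) hUR hUq hAU rfl
    exact ⟨S, hSR, hScard, hAS, D ⊔ V, hDU, hUQ, hUS⟩
  obtain ⟨S₁, hS₁R, hS₁card, hAS₁, U₁, hDU₁, hU₁Q, hU₁S⟩ := key Q₁ h₁ hDQ₁ hna₁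
  obtain ⟨S₂, hS₂R, hS₂card, hAS₂, U₂, hDU₂, hU₂Q, hU₂S⟩ := key Q₂ h₂ hDQ₂ hna₂
  obtain ⟨c, hc, hcS⟩ := coprime_invariant_sylow_conj_aux A R hAR hcop (Or.inl hAsolv) q _ _ S₂ S₁
    hS₂R hS₁R hS₂card hS₁card (Nat.ordProj_mul_ordCompl_eq_self _ q).symm
    (Nat.not_dvd_ordCompl hq.out Nat.card_pos.ne') hAS₂ hAS₁
  have hcC : c ∈ Cfsg.signalizerInf A θ := by
    unfold Cfsg.signalizerInf
    rw [Subgroup.mem_iInf]
    rintro ⟨b, hb, hb1⟩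
    apply hRf.2.2.2 b hb hb1
    refine Subgroup.mem_inf.mpr ⟨hc.1, ?_⟩
    rw [Subgroup.mem_centralizer_singleton_iff]
    exact (Subgroup.mem_centralizer_iff.mp hc.2 b hb).symm
  have hS₁f := family_of_le hRf hS₁R hAS₁
  have hS₂f := family_of_le hRf hS₂R hAS₂
  obtain ⟨Q₁', hQ₁', hS₁Q₁'⟩ := exists_isMaxQ_ge hS₁f (IsPGroup.of_card hS₁card)
  obtain ⟨Q₂', hQ₂', hS₂Q₂'⟩ := exists_isMaxQ_ge hS₂f (IsPGroup.of_card hS₂card)
  -- measure
  have hmeas : ∀ U V W : Subgroup G, D < U → U ≤ V → U ≤ W →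
      Nat.card G - Nat.card (V ⊓ W : Subgroup G) < n := by
    intro U V W hDU hUV hUW
    have h1 := card_lt_card_of_lt hDU
    have h2 := Subgroup.card_le_of_le (le_inf hUV hUW)
    have h3 := Subgroup.card_le_card_group (V ⊓ W)
    have h4 := Subgroup.card_le_card_group D
    omega
  have r1 : CConj A θ Q₁ Q₁' :=
    ih _ (hmeas U₁ Q₁ Q₁' hDU₁ hU₁Q (hU₁S.trans hS₁Q₁')) Q₁ Q₁' h₁ hQ₁' rfl
  have r2 : CConj A θ Q₂ Q₂' :=
    ih _ (hmeas U₂ Q₂ Q₂' hDU₂ hU₂Q (hU₂S.trans hS₂Q₂')) Q₂ Q₂' h₂ hQ₂' rfl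
  have hQ₂'' := hQ₂'.map_conj hθ.1 hcC
  have hS₁le : S₁ ≤ Q₂'.map (MulAut.conj c).toMonoidHom := by
    rw [← hcS]
    exact Subgroup.map_mono hS₂Q₂'
  have r3 : CConj A θ Q₁' (Q₂'.map (MulAut.conj c).toMonoidHom) :=
    ih _ (hmeas U₁ Q₁' _ hDU₁ (hU₁S.trans hS₁Q₁') (hU₁S.trans hS₁le)) Q₁' _ hQ₁' hQ₂'' rfl
  have r4 : CConj A θ Q₂' (Q₂'.map (MulAut.conj c).toMonoidHom) := ⟨c, hcC, rfl⟩
  exact r1.trans (r3.trans (r4.symm.trans r2.symm))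

end Cfsg.Agent.Lib.Helper3.Sig
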