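import Mathlib
import Cfsg.Agent.Lib.Helper3.CharP4
import Cfsg.Agent.Lib.Helper3.Sig4

set_option autoImplicit false

/-!
Monotonicity of "`F*(C_G(U))` is a `p`-group" in the `p`-subgroup `U`.
-/

namespace Cfsg.Agent.Lib.Helper3
open Cfsg.Agent.Lib.Lead

section
variable {G : Type*} [Group G]

theorem isPGroup_quotient_sup_of_le_normalizer {p : ℕ} {X Y : Subgroup G} (hY : IsPGroup p Y)
    (hn : Y ≤ Subgroup.normalizer (X : Set G)) [hnorm : (X.subgroupOf (X ⊔ Y)).Normal] :
    IsPGroup p (↥(X ⊔ Y) ⧸ X.subgroupOf (X ⊔ Y)) := by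
  let f : Y →* (↥(X ⊔ Y) ⧸ X.subgroupOf (X ⊔ Y)) :=
    (QuotientGroup.mk' (X.subgroupOf (X ⊔ Y))).comp (Subgroup.inclusion (le_sup_right : Y ≤ X ⊔ Y))
  have hf : Function.Surjective f := by
    intro q
    obtain ⟨⟨g, hg⟩, rfl⟩ := QuotientGroup.mk_surjective q
    have hg' : g ∈ ((X ⊔ Y : Subgroup G) : Set G) := hg
    rw [Subgroup.coe_mul_of_right_le_normalizer_left X Y hn] at hg'
    obtain ⟨x, hx, y, hy, rfl⟩ := hg'
    refine ⟨⟨y, hy⟩, ?_⟩
    show QuotientGroup.mk' _ _ = QuotientGroup.mk' _ _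
    rw [QuotientGroup.mk'_eq_mk']
    have hyx : y⁻¹ * x * y ∈ X := by
      have := (Subgroup.mem_normalizer_iff.mp (hn (Subgroup.inv_mem _ hy)) x).mp hx
      simpa using this
    refine ⟨⟨y⁻¹ * x * y, Subgroup.mem_sup_left hyx⟩, ?_, ?_⟩
    · rw [Subgroup.mem_subgroupOf]; exact hyx
    · apply Subtype.ext
      show y * (y⁻¹ * x * y) = x * y
      group
  exact hY.of_surjective f hf

theorem centralizer_subgroupOf_eq {U H : Subgroup G} (hUH : U ≤ H) :
    Subgroup.centralizer ((U.subgroupOf H : Subgroup H) : Set H) =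
      (Subgroup.centralizer (U : Set G)).subgroupOf H := by
  ext x
  rw [Subgroup.mem_subgroupOf, Subgroup.mem_centralizer_iff, Subgroup.mem_centralizer_iff]
  constructor
  · intro h y hy
    have := h ⟨y, hUH hy⟩ hy
    exact congrArg Subtype.val this
  · intro h y hy
    exact Subtype.ext (h y hy)

variable [Finite G] {p : ℕ} [hp : Fact p.Prime]

theorem isPGroup_generalizedFittingSubgroup_centralizer_of_normal {U V : Subgroup G} (hVU : V ≤ U)
    (hUV : U ≤ Subgroup.normalizer (V : Set G)) (hU : IsPGroup p U)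
    (hV : IsPGroup p (Cfsg.generalizedFittingSubgroup (Subgroup.centralizer (V : Set G)))) :
    IsPGroup p (Cfsg.generalizedFittingSubgroup (Subgroup.centralizer (U : Set G))) := by
  obtain ⟨C, hC⟩ : ∃ C : Subgroup G, C = Subgroup.centralizer (V : Set G) := ⟨_, rfl⟩
  rw [← hC] at hV
  have hn : U ≤ Subgroup.normalizer (C : Set G) := by
    rw [hC]
    exact hUV.trans (Cfsg.Agent.Lib.Helper2.normalizer_le_normalizer_centralizer V)
  have hCH : C ≤ C ⊔ U := le_sup_left
  have hUH : U ≤ C ⊔ U := le_sup_right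
  have hnorm : (C.subgroupOf (C ⊔ U)).Normal := by
    have : C ⊔ U ≤ Subgroup.normalizer (C : Set G) := sup_le Subgroup.le_normalizer hn
    exact (Subgroup.normal_subgroupOf_iff_le_normalizer hCH).mpr this
  have hq : IsPGroup p (↥(C ⊔ U) ⧸ C.subgroupOf (C ⊔ U)) :=
    isPGroup_quotient_sup_of_le_normalizer hU hn
  have hFC : IsPGroup p (Cfsg.generalizedFittingSubgroup (C.subgroupOf (C ⊔ U))) :=
    isPGroup_generalizedFittingSubgroup_of_mulEquiv (Subgroup.subgroupOfEquivOfLe hCH).symm hV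
  have hH : Cfsg.generalizedFittingSubgroup ↥(C ⊔ U) = Cfsg.pCore p ↥(C ⊔ U) :=
    generalizedFittingSubgroup_eq_pCore_of_isPGroup_quotient _ hq hFC
  have hU' : IsPGroup p (U.subgroupOf (C ⊔ U)) := hU.comap_subtype
  have hN := generalizedFittingSubgroup_normalizer_eq_pCore_of_eq hH hU'
  have hN' : IsPGroup p (Cfsg.generalizedFittingSubgroup
      (Subgroup.normalizer ((U.subgroupOf (C ⊔ U) : Subgroup ↥(C ⊔ U)) : Set ↥(C ⊔ U)))) := by
    rw [hN]; exact pCore_isPGroup p
  have hMn : ((Subgroup.centralizer ((U.subgroupOf (C ⊔ U) : Subgroup ↥(C ⊔ U)) : Set ↥(C ⊔ U))).subgroupOf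
      (Subgroup.normalizer ((U.subgroupOf (C ⊔ U) : Subgroup ↥(C ⊔ U)) : Set ↥(C ⊔ U)))).Normal :=
    Subgroup.normal_subgroupOf_of_le_normalizer
      (Cfsg.Agent.Lib.Helper2.normalizer_le_normalizer_centralizer _)
  have hM := isPGroup_generalizedFittingSubgroup_of_isSubnormal hMn.isSubnormal hN'
  have hCUH : Subgroup.centralizer (U : Set G) ≤ C ⊔ U := by
    refine le_trans ?_ hCH
    rw [hC]
    exact Subgroup.centralizer_le hVU
  have e1 := Subgroup.subgroupOfEquivOfLe
    (Subgroup.centralizer_le_normalizer ((U.subgroupOf (C ⊔ U) : Subgroup ↥(C ⊔ U)) : Set ↥(C ⊔ U)))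
  have e2 : ↥(Subgroup.centralizer ((U.subgroupOf (C ⊔ U) : Subgroup ↥(C ⊔ U)) : Set ↥(C ⊔ U))) ≃*
      ↥((Subgroup.centralizer (U : Set G)).subgroupOf (C ⊔ U)) :=
    MulEquiv.subgroupCongr (centralizer_subgroupOf_eq hUH)
  have e3 := Subgroup.subgroupOfEquivOfLe hCUH
  exact isPGroup_generalizedFittingSubgroup_of_mulEquiv ((e1.trans e2).trans e3) hM

theorem isPGroup_generalizedFittingSubgroup_centralizer_mono {U : Subgroup G} (hU : IsPGroup p U) :
    ∀ (n : ℕ) (V : Subgroup G), V ≤ U → Nat.card U - Nat.card V ≤ n →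
    IsPGroup p (Cfsg.generalizedFittingSubgroup (Subgroup.centralizer (V : Set G))) →
    IsPGroup p (Cfsg.generalizedFittingSubgroup (Subgroup.centralizer (U : Set G))) := by
  intro n
  induction n with
  | zero =>
    intro V hVU hn hV
    have hcard : Nat.card U ≤ Nat.card V := by omega
    have : V = U := by
      by_contra hne
      have := Sig.card_lt_card_of_lt (lt_of_le_of_ne hVU hne)
      omega
    rw [← this]; exact hV
  | succ n ih =>
    intro V hVU hn hV
    by_cases hne : V = U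
    · rw [← hne]; exact hV
    have hlt : V < U := lt_of_le_of_ne hVU hne
    have hgrow := pgroup_normalizer_grows p U V hU hlt
    have hW := isPGroup_generalizedFittingSubgroup_centralizer_of_normal hgrow.le inf_le_right
      (hU.to_le inf_le_left) hV
    apply ih (U ⊓ Subgroup.normalizer (V : Set G)) inf_le_left _ hW
    have h1 := Sig.card_lt_card_of_lt hgrow
    have h2 := Subgroup.card_le_of_le (inf_le_left : U ⊓ Subgroup.normalizer (V : Set G) ≤ U)
    omega

end
end Cfsg.Agent.Lib.Helper3
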