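import Mathlib
import Cfsg.Agent.Lib.Helper3.CharP5
import Cfsg.Agent.Lib.Helper6.PPrimeCore

set_option autoImplicit false

/-!
The `p'`-layer of a `p`-local subgroup centralizes `O_p(G)`.
-/

namespace Cfsg.Agent.Lib.Helper3
open Cfsg.Agent.Lib.Lead

section
variable {H : Type*} [Group H] [Finite H] {p : ℕ} [hp : Fact p.Prime]

/-- a perfect subgroup `E` lies in any subgroup `B ≤ E`, normal in `E`, with `E/B` a `p`-group -/
theorem perfect_le_of_forall_pow_mem {E B : Subgroup H}
    (hn : E ≤ Subgroup.normalizer (B : Set H)) (hperf : ⁅E, E⁆ = E)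
    (hpow : ∀ e ∈ E, ∃ k : ℕ, e ^ (p ^ k) ∈ B) : E ≤ B := by
  have hnorm : (B.subgroupOf E).Normal := Subgroup.normal_subgroupOf_of_le_normalizer hn
  have hq : IsPGroup p (↥E ⧸ B.subgroupOf E) := by
    intro y
    obtain ⟨x, rfl⟩ := QuotientGroup.mk_surjective y
    obtain ⟨k, hk⟩ := hpow x x.2
    refine ⟨k, ?_⟩
    rw [← QuotientGroup.mk_pow, QuotientGroup.eq_one_iff, Subgroup.mem_subgroupOf]
    exact hk
  have hnil : Group.IsNilpotent (↥E ⧸ B.subgroupOf E) := hq.isNilpotent
  have htop : ⁅(⊤ : Subgroup E), (⊤ : Subgroup E)⁆ = (⊤ : Subgroup E) := by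
    apply Subgroup.map_injective E.subtype_injective
    rw [Subgroup.map_commutator, ← MonoidHom.range_eq_map, Subgroup.range_subtype]
    exact hperf
  have h1 := le_of_isSolvable_quotient_of_perfect (K := (⊤ : Subgroup E)) (C := B.subgroupOf E) inferInstance htop
  intro e he
  exact h1 (Subgroup.mem_top (⟨e, he⟩ : E))

theorem orderOf_pow_factorization_coprime (x : H) :
    (orderOf (x ^ (p ^ (orderOf x).factorization p))).Coprime p := by
  rw [orderOf_pow' x (pow_ne_zero _ hp.out.ne_zero),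
    Nat.gcd_eq_right (Nat.ordProj_dvd (orderOf x) p)]
  exact (Nat.coprime_ordCompl hp.out (orderOf_pos x).ne').symm

end

section
variable {N : Type*} [Group N] [Finite N] {p : ℕ} [hp : Fact p.Prime]

/-- the preimage of `E(N/O_{p'}(N))` centralizes every normal `p`-subgroup of `N` -/
theorem pPrimeLayer_le_centralizer_of_normal_isPGroup {R : Subgroup N} [hRn : R.Normal]
    (hR : IsPGroup p R) :
    (Cfsg.layer (N ⧸ Cfsg.pPrimeCore p N)).comap (QuotientGroup.mk' (Cfsg.pPrimeCore p N)) ≤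
      Subgroup.centralizer (R : Set N) := by
  intro x hx
  rw [Subgroup.mem_comap] at hx
  rw [Subgroup.mem_centralizer_iff]
  intro r hr
  have hc : x * r * x⁻¹ * r⁻¹ ∈ R ⊓ Cfsg.pPrimeCore p N := by
    refine Subgroup.mem_inf.mpr ⟨?_, ?_⟩
    · exact R.mul_mem (hRn.conj_mem r hr x) (R.inv_mem hr)
    · rw [← QuotientGroup.ker_mk' (Cfsg.pPrimeCore p N), MonoidHom.mem_ker]
      have h1 : (R.map (QuotientGroup.mk' (Cfsg.pPrimeCore p N))) ≤
          Cfsg.fittingSubgroup (N ⧸ Cfsg.pPrimeCore p N) := by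
        apply le_fittingSubgroup (hRn.map _ (QuotientGroup.mk'_surjective _))
        exact (hR.map _).isNilpotent
      have h2 : ⁅Cfsg.layer (N ⧸ Cfsg.pPrimeCore p N),
          Cfsg.fittingSubgroup (N ⧸ Cfsg.pPrimeCore p N)⁆ = ⊥ := commutator_layer_fittingSubgroup
      rw [Subgroup.commutator_eq_bot_iff_le_centralizer] at h2
      have h3 := Subgroup.mem_centralizer_iff.mp (h2 hx) _ (h1 ⟨r, hr, rfl⟩)
      rw [map_mul, map_mul, map_mul, map_inv, map_inv, ← h3]
      group
  rw [Cfsg.Agent.Lib.Helper6.isPGroup_inf_coprime_eq_bot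
    (Cfsg.Agent.Lib.Helper6.pPrimeCore_coprime p) hR, Subgroup.mem_bot] at hc
  calc r * x = (x * r * x⁻¹ * r⁻¹)⁻¹ * (x * r) := by group
    _ = x * r := by rw [hc]; group

/-- a normal subgroup containing all `p'`-elements of the `p'`-layer contains the `p'`-layer -/
theorem pPrimeLayer_le_of_forall_coprime_mem (C : Subgroup N) [hCn : C.Normal]
    (key : ∀ y ∈ (Cfsg.layer (N ⧸ Cfsg.pPrimeCore p N)).comap
      (QuotientGroup.mk' (Cfsg.pPrimeCore p N)), (orderOf y).Coprime p → y ∈ C) :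
    (Cfsg.layer (N ⧸ Cfsg.pPrimeCore p N)).comap (QuotientGroup.mk' (Cfsg.pPrimeCore p N)) ≤ C := by
  have hXn : ((Cfsg.layer (N ⧸ Cfsg.pPrimeCore p N)).comap
      (QuotientGroup.mk' (Cfsg.pPrimeCore p N))).Normal :=
    Subgroup.Normal.comap inferInstance _
  have hBn : ((C ⊓ (Cfsg.layer (N ⧸ Cfsg.pPrimeCore p N)).comap
      (QuotientGroup.mk' (Cfsg.pPrimeCore p N))).map
      (QuotientGroup.mk' (Cfsg.pPrimeCore p N))).Normal :=
    Subgroup.Normal.map inferInstance _ (QuotientGroup.mk'_surjective _)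
  have hEB : Cfsg.layer (N ⧸ Cfsg.pPrimeCore p N) ≤
      (C ⊓ (Cfsg.layer (N ⧸ Cfsg.pPrimeCore p N)).comap
      (QuotientGroup.mk' (Cfsg.pPrimeCore p N))).map (QuotientGroup.mk' (Cfsg.pPrimeCore p N)) := by
    apply perfect_le_of_forall_pow_mem (p := p)
    · exact Sig.le_normalizer_of_normal _ _
    · exact commutator_layer_layer
    · intro e he
      obtain ⟨x, rfl⟩ := QuotientGroup.mk'_surjective (Cfsg.pPrimeCore p N) e
      refine ⟨(orderOf x).factorization p, ?_⟩
      rw [← map_pow]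
      refine ⟨_, Subgroup.mem_inf.mpr ⟨?_, ?_⟩, rfl⟩
      · apply key
        · exact Subgroup.pow_mem _ (Subgroup.mem_comap.mpr he) _
        · exact orderOf_pow_factorization_coprime x
      · exact Subgroup.pow_mem _ (Subgroup.mem_comap.mpr he) _
  have hWC : Cfsg.pPrimeCore p N ≤ C := by
    intro w hw
    apply key
    · rw [Subgroup.mem_comap]
      have : QuotientGroup.mk' (Cfsg.pPrimeCore p N) w = 1 := by
        rw [← MonoidHom.mem_ker, QuotientGroup.ker_mk']; exact hw
      rw [this]; exact Subgroup.one_mem _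
    · have h1 := orderOf_dvd_natCard (⟨w, hw⟩ : Cfsg.pPrimeCore p N)
      rw [Subgroup.orderOf_mk] at h1
      exact Nat.Coprime.coprime_dvd_left h1 (Cfsg.Agent.Lib.Helper6.pPrimeCore_coprime p)
  intro x hx
  obtain ⟨c, hc, hcx⟩ := hEB (Subgroup.mem_comap.mp hx)
  have h1 : c⁻¹ * x ∈ Cfsg.pPrimeCore p N := by
    rw [← QuotientGroup.ker_mk' (Cfsg.pPrimeCore p N), MonoidHom.mem_ker, map_mul, map_inv, hcx]
    group
  have : x = c * (c⁻¹ * x) := by group
  rw [this]
  exact C.mul_mem (Subgroup.mem_inf.mp hc).1 (hWC h1)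

end

section
variable {G : Type*} [Group G] [Finite G] {p : ℕ} [hp : Fact p.Prime]

/-- `p'`-elements of the `p'`-layer of `N_G(P)` centralize normal `p`-subgroups of `G` -/
theorem mem_centralizer_of_mem_pPrimeLayer_of_coprime {P Q : Subgroup G} [hQn : Q.Normal]
    (hP : IsPGroup p P) (hQ : IsPGroup p Q)
    {y : Subgroup.normalizer (P : Set G)}
    (hy : y ∈ (Cfsg.layer (↥(Subgroup.normalizer (P : Set G)) ⧸
      Cfsg.pPrimeCore p ↥(Subgroup.normalizer (P : Set G)))).comap
        (QuotientGroup.mk' (Cfsg.pPrimeCore p ↥(Subgroup.normalizer (P : Set G)))))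
    (hyo : (orderOf y).Coprime p) : (y : G) ∈ Subgroup.centralizer (Q : Set G) := by
  have hNQ : ∀ K : Subgroup G, K ≤ Subgroup.normalizer (Q : Set G) := by
    intro K
    rw [Subgroup.normalizer_eq_top]
    exact le_top
  have hPn : (P.subgroupOf (Subgroup.normalizer (P : Set G))).Normal :=
    Subgroup.normal_subgroupOf_of_le_normalizer le_rfl
  have h1 := pPrimeLayer_le_centralizer_of_normal_isPGroup
    (R := P.subgroupOf (Subgroup.normalizer (P : Set G))) hP.comap_subtype hy
  have h2 := pPrimeLayer_le_centralizer_of_normal_isPGroup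
    (R := Q.subgroupOf (Subgroup.normalizer (P : Set G))) hQ.comap_subtype hy
  apply mem_centralizer_of_coprime hQ hP (hNQ P) _ (hNQ ⊤ (Subgroup.mem_top _))
  · rw [Subgroup.mem_centralizer_iff]
    intro g hg
    have := Subgroup.mem_centralizer_iff.mp h1 ⟨g, Subgroup.le_normalizer hg⟩ hg
    exact congrArg Subtype.val this
  · rw [Subgroup.mem_centralizer_iff]
    intro g hg
    obtain ⟨hgQ, hgC⟩ := Subgroup.mem_inf.mp hg
    have := Subgroup.mem_centralizer_iff.mp h2
      ⟨g, Subgroup.centralizer_le_normalizer (P : Set G) hgC⟩ hgQ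
    exact congrArg Subtype.val this
  · rw [Subgroup.orderOf_coe]; exact hyo

/-- **S1266**: the `p'`-layer of `N_G(P)` centralizes every normal `p`-subgroup of `G`. -/
theorem pPrimeLayer_normalizer_le_centralizer {P Q : Subgroup G} [hQn : Q.Normal]
    (hP : IsPGroup p P) (hQ : IsPGroup p Q) :
    ((Cfsg.layer (↥(Subgroup.normalizer (P : Set G)) ⧸
      Cfsg.pPrimeCore p ↥(Subgroup.normalizer (P : Set G)))).comap
        (QuotientGroup.mk' (Cfsg.pPrimeCore p ↥(Subgroup.normalizer (P : Set G))))).map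
        (Subgroup.normalizer (P : Set G)).subtype ≤ Subgroup.centralizer (Q : Set G) := by
  have h1 := pPrimeLayer_le_of_forall_coprime_mem (p := p)
    ((Subgroup.centralizer (Q : Set G)).subgroupOf (Subgroup.normalizer (P : Set G))) (by
      intro y hy hyo
      rw [Subgroup.mem_subgroupOf]
      exact mem_centralizer_of_mem_pPrimeLayer_of_coprime hP hQ hy hyo)
  rintro _ ⟨x, hx, rfl⟩
  exact h1 hx

end
end Cfsg.Agent.Lib.Helper3
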