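import Mathlib
import Cfsg.Agent.Lib.Helper3.LocalP1
import Cfsg.Agent.Lib.Helper6.PPrimeCore
import Cfsg.Agent.Lib.Helper6.CharSub

set_option autoImplicit false

/-!
Basic facts on `O_{p'}`: invariance under isomorphisms, subnormal `p'`-subgroups,
`O_{p'}(X/O_{p'}(X)) = 1`.
-/

namespace Cfsg.Agent.Lib.Helper3
open Cfsg.Agent.Lib.Lead

section
variable {A : Type*} {B : Type*} [Group A] [Group B]

theorem pPrimeCore_map_mulEquiv_le (p : ℕ) (e : A ≃* B) :
    (Cfsg.pPrimeCore p A).map (e : A →* B) ≤ Cfsg.pPrimeCore p B := by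
  unfold Cfsg.pPrimeCore
  rw [Subgroup.map_le_iff_le_comap, sSup_le_iff]
  rintro N ⟨hN, hc⟩
  rw [← Subgroup.map_le_iff_le_comap]
  apply le_sSup
  refine ⟨hN.map _ e.surjective, ?_⟩
  rwa [← Nat.card_congr (Subgroup.equivMapOfInjective N (e : A →* B) e.injective).toEquiv]

theorem pPrimeCore_map_mulEquiv (p : ℕ) (e : A ≃* B) :
    (Cfsg.pPrimeCore p A).map (e : A →* B) = Cfsg.pPrimeCore p B := by
  apply le_antisymm (pPrimeCore_map_mulEquiv_le p e)
  intro x hx
  have h2 : e.symm x ∈ Cfsg.pPrimeCore p A := pPrimeCore_map_mulEquiv_le p e.symm ⟨x, hx, rfl⟩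
  exact ⟨_, h2, by simp⟩

instance pPrimeCore_characteristic (p : ℕ) : (Cfsg.pPrimeCore p A).Characteristic := by
  rw [Subgroup.characteristic_iff_map_eq]
  intro e
  exact pPrimeCore_map_mulEquiv p e

end

section
variable {X : Type*} [Group X] [Finite X] {p : ℕ}

/-- `O_{p'}` of a subnormal subgroup lies in `O_{p'}` -/
theorem pPrimeCore_map_subtype_le_of_isSubnormal {H : Subgroup X} (hH : H.IsSubnormal) :
    (Cfsg.pPrimeCore p ↥H).map H.subtype ≤ Cfsg.pPrimeCore p X := by
  induction hH with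
  | top =>
    rintro _ ⟨y, hy, rfl⟩
    have := pPrimeCore_map_mulEquiv p (Subgroup.topEquiv (G := X))
    rw [← this]
    exact ⟨y, hy, rfl⟩
  | step H K hle _ hN ih =>
    refine le_trans ?_ ih
    have hle' : (Cfsg.pPrimeCore p ↥H).map H.subtype ≤ K := by
      rintro _ ⟨y, _, rfl⟩; exact hle y.2
    have hchar : (((Cfsg.pPrimeCore p ↥H).map H.subtype).subgroupOf H).Characteristic := by
      have : ((Cfsg.pPrimeCore p ↥H).map H.subtype).subgroupOf H = Cfsg.pPrimeCore p ↥H := by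
        rw [Subgroup.subgroupOf, Subgroup.comap_map_eq_self_of_injective H.subtype_injective]
      rw [this]; infer_instance
    have hHle : (Cfsg.pPrimeCore p ↥H).map H.subtype ≤ H := by
      rintro _ ⟨y, _, rfl⟩; exact y.2
    have hKn : K ≤ Subgroup.normalizer (((Cfsg.pPrimeCore p ↥H).map H.subtype : Subgroup X) : Set X) :=
      ((Subgroup.normal_subgroupOf_iff_le_normalizer hle).mp hN).trans
        (Cfsg.Agent.Lib.Helper6.normalizer_le_normalizer_of_characteristic hHle hchar)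
    have hnorm : (((Cfsg.pPrimeCore p ↥H).map H.subtype).subgroupOf K).Normal :=
      (Subgroup.normal_subgroupOf_iff_le_normalizer hle').mpr hKn
    have hcop : (Nat.card (((Cfsg.pPrimeCore p ↥H).map H.subtype).subgroupOf K)).Coprime p := by
      rw [Nat.card_congr (Subgroup.subgroupOfEquivOfLe hle').toEquiv,
        ← Nat.card_congr (Subgroup.equivMapOfInjective _ H.subtype H.subtype_injective).toEquiv]
      exact Cfsg.Agent.Lib.Helper6.pPrimeCore_coprime p
    have h1 := Cfsg.Agent.Lib.Helper6.le_pPrimeCore hnorm hcop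
    have h2 := Subgroup.map_mono (f := K.subtype) h1
    rwa [Subgroup.map_subgroupOf_eq_of_le hle'] at h2

/-- a subnormal `p'`-subgroup lies in `O_{p'}` -/
theorem le_pPrimeCore_of_isSubnormal {S : Subgroup X} (hS : S.IsSubnormal)
    (hc : (Nat.card S).Coprime p) : S ≤ Cfsg.pPrimeCore p X := by
  refine le_trans ?_ (pPrimeCore_map_subtype_le_of_isSubnormal hS)
  have h1 : (⊤ : Subgroup S) ≤ Cfsg.pPrimeCore p S :=
    Cfsg.Agent.Lib.Helper6.le_pPrimeCore inferInstance (by rwa [Subgroup.card_top])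
  intro s hs
  exact ⟨⟨s, hs⟩, h1 (Subgroup.mem_top _), rfl⟩

theorem card_comap_mk' (W : Subgroup X) [W.Normal] (N : Subgroup (X ⧸ W)) :
    Nat.card (N.comap (QuotientGroup.mk' W)) = Nat.card W * Nat.card N := by
  have h1 := Subgroup.card_mul_index (N.comap (QuotientGroup.mk' W))
  rw [Subgroup.index_comap_of_surjective N (QuotientGroup.mk'_surjective W)] at h1
  have h2 := Subgroup.card_mul_index N
  have h3 := Subgroup.card_eq_card_quotient_mul_card_subgroup W
  have hidx : N.index ≠ 0 := Subgroup.index_ne_zero_of_finite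
  have : Nat.card (N.comap (QuotientGroup.mk' W)) * N.index = (Nat.card W * Nat.card N) * N.index := by
    rw [h1, h3, ← h2]; ring
  exact Nat.eq_of_mul_eq_mul_right (Nat.pos_of_ne_zero hidx) this

/-- `O_{p'}(X/O_{p'}(X)) = 1` -/
theorem pPrimeCore_quotient_eq_bot :
    Cfsg.pPrimeCore p (X ⧸ Cfsg.pPrimeCore p X) = ⊥ := by
  have hn : ((Cfsg.pPrimeCore p (X ⧸ Cfsg.pPrimeCore p X)).comap
      (QuotientGroup.mk' (Cfsg.pPrimeCore p X))).Normal := Subgroup.Normal.comap inferInstance _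
  have hcop : (Nat.card ((Cfsg.pPrimeCore p (X ⧸ Cfsg.pPrimeCore p X)).comap
      (QuotientGroup.mk' (Cfsg.pPrimeCore p X)))).Coprime p := by
    rw [card_comap_mk']
    exact Nat.Coprime.mul_left (Cfsg.Agent.Lib.Helper6.pPrimeCore_coprime p)
      (Cfsg.Agent.Lib.Helper6.pPrimeCore_coprime p)
  have h1 := Cfsg.Agent.Lib.Helper6.le_pPrimeCore hn hcop
  rw [Subgroup.eq_bot_iff_forall]
  intro y hy
  obtain ⟨x, rfl⟩ := QuotientGroup.mk'_surjective (Cfsg.pPrimeCore p X) y
  have hx : x ∈ Cfsg.pPrimeCore p X := h1 (Subgroup.mem_comap.mpr hy)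
  rw [← MonoidHom.mem_ker, QuotientGroup.ker_mk']
  exact hx

end

end Cfsg.Agent.Lib.Helper3
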