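import Mathlib
import Cfsg.Agent.Lib.Helper3.PComp1

set_option autoImplicit false

/-!
Perfect groups with central Sylow `p`-subgroups; normal subgroups of `p'`-index in components.
-/

namespace Cfsg.Agent.Lib.Helper3
open Cfsg.Agent.Lib.Lead

section
variable {L : Type*} [Group L] [Finite L] {p : ℕ} [hp : Fact p.Prime]

/-- a perfect group whose Sylow `p`-subgroup is central has order prime to `p` -/
theorem coprime_card_of_perfect_of_sylow_le_center (hperf : commutator L = ⊤) (P : Sylow p L)
    (hPZ : (P : Subgroup L) ≤ Subgroup.center L) : (Nat.card L).Coprime p := by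
  have hP : Subgroup.normalizer ((P : Subgroup L) : Set L) ≤
      Subgroup.centralizer ((P : Subgroup L) : Set L) := by
    intro x _
    rw [Subgroup.mem_centralizer_iff]
    intro y hy
    exact (Subgroup.mem_center_iff.mp (hPZ hy) x).symm
  have hker : (MonoidHom.transferSylow P hP).ker = ⊤ := by
    rw [eq_top_iff, ← hperf, commutator_eq_closure, Subgroup.closure_le]
    rintro _ ⟨a, b, rfl⟩
    rw [SetLike.mem_coe, MonoidHom.mem_ker, map_commutatorElement, commutatorElement_eq_one_iff_commute]
    have h1 := (MonoidHom.transferSylow P hP a).2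
    have h2 := Subgroup.mem_center_iff.mp (hPZ h1) (MonoidHom.transferSylow P hP b : L)
    exact (Subtype.ext h2).symm
  have h1 := MonoidHom.not_dvd_card_ker_transferSylow P hP
  rw [hker, Subgroup.card_top] at h1
  exact ((Nat.Prime.coprime_iff_not_dvd hp.out).mpr h1).symm

/-- a Sylow `p`-subgroup lies in every normal subgroup of index prime to `p` -/
theorem sylow_le_of_normal_of_coprime_index (P : Sylow p L) (M : Subgroup L) [M.Normal]
    (hM : M.index.Coprime p) : (P : Subgroup L) ≤ M := by
  intro x hx
  rw [← QuotientGroup.eq_one_iff, ← orderOf_eq_one_iff]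
  obtain ⟨k, hk⟩ := (IsPGroup.iff_orderOf.mp P.2) ⟨x, hx⟩
  rw [Subgroup.orderOf_mk] at hk
  have h1 : orderOf (x : L ⧸ M) ∣ p ^ k := by
    rw [← hk]
    exact orderOf_map_dvd (QuotientGroup.mk' M) x
  have h2 : orderOf (x : L ⧸ M) ∣ M.index := by
    rw [Subgroup.index_eq_card]
    exact orderOf_dvd_natCard _
  have h3 : (M.index).Coprime (p ^ k) := Nat.Coprime.pow_right k hM
  exact Nat.eq_one_of_dvd_coprimes h3 h2 h1

/-- a quasisimple group with a central normal subgroup of index prime to `p` has order prime to `p` -/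
theorem coprime_card_of_isQuasisimple_of_le_center (hL : Cfsg.IsQuasisimple L) (M : Subgroup L)
    [M.Normal] (hM : M.index.Coprime p) (hMZ : M ≤ Subgroup.center L) : (Nat.card L).Coprime p := by
  obtain ⟨P⟩ : Nonempty (Sylow p L) := inferInstance
  exact coprime_card_of_perfect_of_sylow_le_center (IsQuasisimple.commutator_eq_top hL) P
    ((sylow_le_of_normal_of_coprime_index P M hM).trans hMZ)

end

section
variable {Y : Type*} [Group Y] [Finite Y] {p : ℕ} [hp : Fact p.Prime]

/-- in a group with `O_{p'} = 1`, a component has no proper normal subgroup of index prime to `p` -/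
theorem IsComponent.eq_top_of_normal_of_coprime_index (hY : Cfsg.pPrimeCore p Y = ⊥)
    {K : Subgroup Y} (hK : Cfsg.IsComponent K) (M : Subgroup K) [M.Normal]
    (hM : M.index.Coprime p) : M = ⊤ := by
  rcases IsQuasisimple.normal_eq_top_or_le_center hK.2 M with h | h
  · exact h
  · exfalso
    have h1 := coprime_card_of_isQuasisimple_of_le_center hK.2 M hM h
    have h2 := le_pPrimeCore_of_isSubnormal hK.1 h1
    rw [hY, le_bot_iff] at h2
    exact IsQuasisimple.ne_bot hK.2 h2

/-- in a group with `O_{p'} = 1`, the order of a component is divisible by `p` -/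
theorem IsComponent.dvd_card (hY : Cfsg.pPrimeCore p Y = ⊥) {K : Subgroup Y}
    (hK : Cfsg.IsComponent K) : p ∣ Nat.card K := by
  by_contra h
  have h1 : (Nat.card K).Coprime p := ((Nat.Prime.coprime_iff_not_dvd hp.out).mpr h).symm
  have h2 := le_pPrimeCore_of_isSubnormal hK.1 h1
  rw [hY, le_bot_iff] at h2
  exact IsQuasisimple.ne_bot hK.2 h2

end

end Cfsg.Agent.Lib.Helper3
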