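import Mathlib
import Cfsg.Agent.Lib.Helper3.PComp2
import Cfsg.Agent.Lib.Helper6.Subn

set_option autoImplicit false

/-!
`p`-components: perfectness, no normal subgroups of `p'`-index, uniqueness over a component.
-/

namespace Cfsg.Agent.Lib.Helper3
open Cfsg.Agent.Lib.Lead

local notation "π[" p "," X "]" => QuotientGroup.mk' (Cfsg.pPrimeCore p X)

section generic
variable {K : Type*} [Group K] [Finite K] {p : ℕ} [hp : Fact p.Prime]

/-- a normal subgroup containing all `m`-th powers, `m` prime to `p`, has index prime to `p` -/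
theorem coprime_index_of_forall_pow_mem (N : Subgroup K) [N.Normal] (m : ℕ) (hm : m.Coprime p)
    (h : ∀ k : K, k ^ m ∈ N) : N.index.Coprime p := by
  by_contra hcon
  have hdvd : p ∣ N.index := by
    by_contra h1
    exact hcon ((Nat.Prime.coprime_iff_not_dvd hp.out).mpr h1).symm
  rw [Subgroup.index_eq_card] at hdvd
  obtain ⟨q, hq⟩ := exists_prime_orderOf_dvd_card' p hdvd
  obtain ⟨k, rfl⟩ := QuotientGroup.mk_surjective q
  have h1 : ((k : K ⧸ N)) ^ m = 1 := by
    rw [← QuotientGroup.mk_pow, QuotientGroup.eq_one_iff]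
    exact h k
  have h2 : p ∣ m := by
    rw [← hq]; exact orderOf_dvd_of_pow_eq_one h1
  have h3 : p ∣ Nat.gcd m p := Nat.dvd_gcd h2 dvd_rfl
  rw [hm] at h3
  exact hp.out.one_lt.ne' (Nat.dvd_one.mp h3)

end generic

section
variable {X : Type*} [Group X] [Finite X] {p : ℕ} [hp : Fact p.Prime]

theorem IsPComponent.isSubnormal {K : Subgroup X} (hK : Cfsg.IsPComponent p K) : K.IsSubnormal := hK.1

theorem IsPComponent.isComponent_map {K : Subgroup X} (hK : Cfsg.IsPComponent p K) :
    Cfsg.IsComponent (K.map π[p, X]) := hK.2.1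

theorem IsPComponent.eq_of_le {K H : Subgroup X} (hK : Cfsg.IsPComponent p K)
    (hH : H.IsSubnormal) (hle : H ≤ K) (hmap : H.map π[p, X] = K.map π[p, X]) : H = K :=
  hK.2.2 H hH hle hmap

/-- a `p`-component is perfect -/
theorem IsPComponent.commutator_eq_self {K : Subgroup X} (hK : Cfsg.IsPComponent p K) :
    ⁅K, K⁆ = K := by
  apply IsPComponent.eq_of_le hK
  · rw [← Subgroup.map_subtype_commutator]
    exact Subgroup.IsSubnormal.trans' (Subgroup.Normal.isSubnormal inferInstance) hK.1
  · exact Subgroup.commutator_le_self K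
  · rw [Subgroup.map_commutator]
    exact IsQuasisimple.commutator_eq_self hK.2.1.2

/-- **S1273**: a `p`-component has no proper normal subgroup of index prime to `p` -/
theorem IsPComponent.eq_top_of_normal_of_coprime_index {K : Subgroup X}
    (hK : Cfsg.IsPComponent p K) (N : Subgroup K) [hN : N.Normal] (hidx : N.index.Coprime p) :
    N = ⊤ := by
  have hsn : (N.map K.subtype).IsSubnormal := Subgroup.IsSubnormal.trans' hN.isSubnormal hK.1
  have hle : N.map K.subtype ≤ K := by
    rintro _ ⟨y, _, rfl⟩; exact y.2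
  have hKn : K ≤ Subgroup.normalizer ((N.map K.subtype : Subgroup X) : Set X) := by
    intro k hk
    rw [Subgroup.mem_normalizer_iff]
    intro x
    constructor
    · rintro ⟨y, hy, rfl⟩
      exact ⟨⟨k, hk⟩ * y * ⟨k, hk⟩⁻¹, hN.conj_mem y hy ⟨k, hk⟩, rfl⟩
    · rintro ⟨y, hy, hyx⟩
      refine ⟨⟨k, hk⟩⁻¹ * y * ⟨k, hk⟩, ?_, ?_⟩
      · have := hN.conj_mem y hy ⟨k, hk⟩⁻¹
        simpa using this
      · have : (y : X) = k * x * k⁻¹ := hyx
        simp [this, mul_assoc]
  have hmle : (N.map K.subtype).map π[p, X] ≤ K.map π[p, X] := Subgroup.map_mono hle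
  have hMn : (((N.map K.subtype).map π[p, X]).subgroupOf (K.map π[p, X])).Normal :=
    Subgroup.normal_subgroupOf_of_le_normalizer
      ((Subgroup.map_mono hKn).trans (Subgroup.le_normalizer_map _))
  have hMi : (((N.map K.subtype).map π[p, X]).subgroupOf (K.map π[p, X])).index.Coprime p := by
    apply coprime_index_of_forall_pow_mem _ N.index hidx
    rintro ⟨_, ⟨k, hk, rfl⟩⟩
    rw [Subgroup.mem_subgroupOf]
    have h1 : (⟨k, hk⟩ : K) ^ N.index ∈ N := Subgroup.pow_index_mem N _
    exact ⟨k ^ N.index, ⟨_, h1, rfl⟩, by simp⟩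
  have hM := IsComponent.eq_top_of_normal_of_coprime_index pPrimeCore_quotient_eq_bot hK.2.1 _ hMi
  rw [Subgroup.subgroupOf_eq_top] at hM
  have h2 := IsPComponent.eq_of_le hK hsn hle (le_antisymm hmle hM)
  rw [eq_top_iff]
  intro k _
  have : (k : X) ∈ N.map K.subtype := by rw [h2]; exact k.2
  obtain ⟨y, hy, hyk⟩ := this
  have : y = k := Subtype.ext hyk
  rwa [← this]

/-- the order of a `p`-component is divisible by `p` -/
theorem IsPComponent.dvd_card {K : Subgroup X} (hK : Cfsg.IsPComponent p K) : p ∣ Nat.card K := by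
  have h1 := IsComponent.dvd_card pPrimeCore_quotient_eq_bot hK.2.1
  exact h1.trans (Subgroup.card_map_dvd K π[p, X])

/-- descent along a subnormal chain: a subgroup without proper normal subgroups of `p'`-index which
lies in `H W`, `W` a normal `p'`-subgroup and `H` subnormal, lies in `H`. -/
theorem le_of_le_sup_of_isSubnormal {W K : Subgroup X} [hWn : W.Normal]
    (hW : (Nat.card W).Coprime p)
    (hK : ∀ N : Subgroup K, N.Normal → N.index.Coprime p → N = ⊤)
    {H : Subgroup X} (hH : H.IsSubnormal) (hKH : K ≤ H ⊔ W) : K ≤ H := by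
  induction hH with
  | top => exact le_top
  | step H H1 hle _ hn ih =>
    have hK1 : K ≤ H1 := ih (hKH.trans (sup_le_sup_right hle W))
    have hH1n : H1 ≤ Subgroup.normalizer (H : Set X) :=
      (Subgroup.normal_subgroupOf_iff_le_normalizer hle).mp hn
    have hNn : (H.subgroupOf K).Normal :=
      Subgroup.normal_subgroupOf_of_le_normalizer (hK1.trans hH1n)
    have hidx : (H.subgroupOf K).index.Coprime p := by
      apply coprime_index_of_forall_pow_mem _ (Nat.card W) hW
      intro k
      rw [Subgroup.mem_subgroupOf]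
      have hk : (k : X) ∈ ((H ⊔ W : Subgroup X) : Set X) := hKH k.2
      rw [Subgroup.mul_normal] at hk
      obtain ⟨h, hh, w, hw, hhw⟩ := hk
      have hwH1 : w ∈ H1 := by
        have : w = h⁻¹ * (k : X) := by rw [← hhw]; group
        rw [this]
        exact H1.mul_mem (H1.inv_mem (hle hh)) (hK1 k.2)
      have h1 := Cfsg.Agent.Lib.Helper6.pow_mul_mem_of_mem_normalizer hh (hH1n hwH1) (Nat.card W)
      have h2 : w ^ Nat.card W = 1 := by
        have := pow_card_eq_one' (G := W) (x := ⟨w, hw⟩)
        exact congrArg Subtype.val this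
      rw [h2, inv_one, mul_one] at h1
      have : ((k ^ Nat.card W : K) : X) = (h * w) ^ Nat.card W := by
        rw [Subgroup.coe_pow]
        exact congrArg (· ^ Nat.card W) hhw.symm
      rw [this]
      exact h1
    have h3 := hK _ hNn hidx
    rw [Subgroup.subgroupOf_eq_top] at h3
    exact h3

/-- two `p`-components with the same image coincide -/
theorem IsPComponent.eq_of_map_eq {K L : Subgroup X} (hK : Cfsg.IsPComponent p K)
    (hL : Cfsg.IsPComponent p L) (h : K.map π[p, X] = L.map π[p, X]) : K = L := by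
  have key : ∀ {K L : Subgroup X}, Cfsg.IsPComponent p K → Cfsg.IsPComponent p L →
      K.map π[p, X] = L.map π[p, X] → K ≤ L := by
    intro K L hK hL h
    apply le_of_le_sup_of_isSubnormal (W := Cfsg.pPrimeCore p X)
      (Cfsg.Agent.Lib.Helper6.pPrimeCore_coprime p)
      (fun N hN hidx => @IsPComponent.eq_top_of_normal_of_coprime_index _ _ _ _ _ _ hK N hN hidx) hL.1
    have h1 : K ≤ (K.map π[p, X]).comap π[p, X] := Subgroup.le_comap_map _ _
    rw [h, Subgroup.comap_map_eq, QuotientGroup.ker_mk'] at h1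
    exact h1
  have h1 := key hK hL h
  exact IsPComponent.eq_of_le hL hK.1 h1 h

end

end Cfsg.Agent.Lib.Helper3
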