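import Mathlib
import Cfsg.Agent.Lib.Helper3.PComp3
import Cfsg.Agent.Lib.Helper3.Sig3

set_option autoImplicit false
set_option linter.unusedSectionVars false

/-!
`p`-components: minimality among perfect subnormal subgroups, existence, conjugation,
normality in the `p`-layer, image of the `p`-layer.
-/

namespace Cfsg.Agent.Lib.Helper3
open Cfsg.Agent.Lib.Lead

local notation "π[" p "," X "]" => QuotientGroup.mk' (Cfsg.pPrimeCore p X)

section
variable {X : Type*} [Group X] [Finite X] {p : ℕ} [hp : Fact p.Prime]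

/-- a perfect subnormal subgroup of order divisible by `p` inside a `p`-component is everything -/
theorem IsPComponent.eq_of_perfect_of_dvd_card {K H : Subgroup X} (hK : Cfsg.IsPComponent p K)
    (hle : H ≤ K) (hH : H.IsSubnormal) (hperf : ⁅H, H⁆ = H) (hdvd : p ∣ Nat.card H) : H = K := by
  have hmle : H.map π[p, X] ≤ K.map π[p, X] := Subgroup.map_mono hle
  have hsn : ((H.map π[p, X]).subgroupOf (K.map π[p, X])).IsSubnormal :=
    (hH.map (QuotientGroup.mk'_surjective _)).subgroupOf
  rcases IsQuasisimple.subnormal_eq_top_or_le_center hK.2.1.2 _ hsn with h | h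
  · rw [Subgroup.subgroupOf_eq_top] at h
    exact IsPComponent.eq_of_le hK hH hle (le_antisymm hmle h)
  · exfalso
    have h1 : ⁅H.map π[p, X], H.map π[p, X]⁆ = ⊥ := by
      rw [Subgroup.commutator_eq_bot_iff_le_centralizer]
      intro a ha
      rw [Subgroup.mem_centralizer_iff]
      intro b hb
      have hb' : (⟨b, hmle hb⟩ : K.map π[p, X]) ∈ Subgroup.center (K.map π[p, X]) := h hb
      have := Subgroup.mem_center_iff.mp hb' ⟨a, hmle ha⟩
      exact (congrArg Subtype.val this).symm
    rw [← Subgroup.map_commutator, hperf] at h1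
    have h2 : H ≤ Cfsg.pPrimeCore p X := by
      rw [← QuotientGroup.ker_mk' (Cfsg.pPrimeCore p X)]
      exact (Subgroup.map_eq_bot_iff _).mp h1
    have h3 : (Nat.card H).Coprime p :=
      Nat.Coprime.coprime_dvd_left (Subgroup.card_dvd_of_le h2)
        (Cfsg.Agent.Lib.Helper6.pPrimeCore_coprime p)
    have h4 : p ∣ Nat.gcd (Nat.card H) p := Nat.dvd_gcd hdvd dvd_rfl
    rw [h3] at h4
    exact hp.out.one_lt.ne' (Nat.dvd_one.mp h4)

end

section
variable {X : Type*} [Group X] {p : ℕ}

theorem map_conj_map_mk' (g : X) (K : Subgroup X) :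
    (K.map (MulAut.conj g).toMonoidHom).map π[p, X] =
      (K.map π[p, X]).map (MulAut.conj (π[p, X] g)).toMonoidHom := by
  rw [Subgroup.map_map, Subgroup.map_map]
  congr 1

theorem map_conj_inv_map_conj (c : X) (U : Subgroup X) :
    (U.map (MulAut.conj c⁻¹).toMonoidHom).map (MulAut.conj c).toMonoidHom = U := by
  have := Sig.map_conj_map_conj_inv c⁻¹ U
  rwa [inv_inv] at this

variable [Finite X]

/-- existence of a `p`-component over a component of `X/O_{p'}(X)` -/
theorem exists_isPComponent_map_eq {Kbar : Subgroup (X ⧸ Cfsg.pPrimeCore p X)}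
    (hKbar : Cfsg.IsComponent Kbar) : ∃ K : Subgroup X, Cfsg.IsPComponent p K ∧ K.map π[p, X] = Kbar := by
  have hne : {H : Subgroup X | H.IsSubnormal ∧ H.map π[p, X] = Kbar}.Nonempty :=
    ⟨Kbar.comap π[p, X], hKbar.1.comap _,
      Subgroup.map_comap_eq_self_of_surjective (QuotientGroup.mk'_surjective _) _⟩
  obtain ⟨K, hK⟩ := (Set.toFinite {H : Subgroup X | H.IsSubnormal ∧ H.map π[p, X] = Kbar}).exists_minimal hne
  refine ⟨K, ⟨hK.prop.1, ?_, ?_⟩, hK.prop.2⟩
  · rw [hK.prop.2]; exact hKbar
  · intro H hH hle hmap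
    exact le_antisymm hle (hK.le_of_le ⟨hH, hmap.trans hK.prop.2⟩ hle)

/-- conjugates of `p`-components are `p`-components -/
theorem IsPComponent.map_conj {K : Subgroup X} (hK : Cfsg.IsPComponent p K) (g : X) :
    Cfsg.IsPComponent p (K.map (MulAut.conj g).toMonoidHom) := by
  refine ⟨hK.1.map (MulAut.conj g).surjective, ?_, ?_⟩
  · rw [map_conj_map_mk']
    exact IsComponent.map_conj hK.2.1 _
  · intro H hH hle hmap
    have h1 : H.map (MulAut.conj g⁻¹).toMonoidHom ≤ K := by
      have := Subgroup.map_mono (f := (MulAut.conj g⁻¹).toMonoidHom) hle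
      rwa [Sig.map_conj_map_conj_inv] at this
    have h2 : (H.map (MulAut.conj g⁻¹).toMonoidHom).map π[p, X] = K.map π[p, X] := by
      rw [map_conj_map_mk', hmap, ← map_conj_map_mk', Sig.map_conj_map_conj_inv]
    have h3 := hK.2.2 _ (hH.map (MulAut.conj g⁻¹).surjective) h1 h2
    rw [← h3, map_conj_inv_map_conj]

variable [hp : Fact p.Prime]

/-- an element whose image normalizes the image of a `p`-component normalizes the `p`-component -/
theorem IsPComponent.mem_normalizer_of_map {K : Subgroup X} (hK : Cfsg.IsPComponent p K) {g : X}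
    (hg : π[p, X] g ∈ Subgroup.normalizer ((K.map π[p, X] : Subgroup _) : Set _)) :
    g ∈ Subgroup.normalizer (K : Set X) := by
  rw [Subgroup.mem_normalizer_iff_map_conj_eq]
  rw [Subgroup.mem_normalizer_iff_map_conj_eq] at hg
  apply IsPComponent.eq_of_map_eq (IsPComponent.map_conj hK g) hK
  rw [map_conj_map_mk']
  exact hg

/-- the preimage of `E(X/O_{p'}(X))` normalizes every `p`-component -/
theorem IsPComponent.comap_layer_le_normalizer {K : Subgroup X} (hK : Cfsg.IsPComponent p K) :
    (Cfsg.layer (X ⧸ Cfsg.pPrimeCore p X)).comap π[p, X] ≤ Subgroup.normalizer (K : Set X) := by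
  intro g hg
  apply IsPComponent.mem_normalizer_of_map hK
  exact IsComponent.layer_le_normalizer hK.2.1 (Subgroup.mem_comap.mp hg)

theorem IsPComponent.le_pLayer {K : Subgroup X} (hK : Cfsg.IsPComponent p K) :
    K ≤ Cfsg.pLayer p X := le_sSup hK

omit [Finite X] hp in
theorem pLayer_le_iff {H : Subgroup X} :
    Cfsg.pLayer p X ≤ H ↔ ∀ K : Subgroup X, Cfsg.IsPComponent p K → K ≤ H := by
  unfold Cfsg.pLayer
  rw [sSup_le_iff]
  rfl

/-- the image of the `p`-layer is the layer of `X/O_{p'}(X)` -/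
theorem pLayer_map_mk' : (Cfsg.pLayer p X).map π[p, X] = Cfsg.layer (X ⧸ Cfsg.pPrimeCore p X) := by
  apply le_antisymm
  · rw [Subgroup.map_le_iff_le_comap, pLayer_le_iff]
    intro K hK
    rw [← Subgroup.map_le_iff_le_comap]
    exact IsComponent.le_layer hK.2.1
  · rw [layer_le_iff]
    intro Kbar hKbar
    obtain ⟨K, hK, rfl⟩ := exists_isPComponent_map_eq hKbar
    exact Subgroup.map_mono (IsPComponent.le_pLayer hK)

theorem pLayer_le_comap_layer :
    Cfsg.pLayer p X ≤ (Cfsg.layer (X ⧸ Cfsg.pPrimeCore p X)).comap π[p, X] := by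
  rw [← Subgroup.map_le_iff_le_comap, pLayer_map_mk']

/-- **S1274** a `p`-component is normal in the `p`-layer -/
theorem IsPComponent.normal_subgroupOf_pLayer {K : Subgroup X} (hK : Cfsg.IsPComponent p K) :
    (K.subgroupOf (Cfsg.pLayer p X)).Normal :=
  Subgroup.normal_subgroupOf_of_le_normalizer
    (pLayer_le_comap_layer.trans (IsPComponent.comap_layer_le_normalizer hK))

end
end Cfsg.Agent.Lib.Helper3
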