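import Mathlib
import Cfsg.Agent.Lib.Helper3.PComp4

set_option autoImplicit false
set_option linter.unusedSectionVars false

/-!
`p`-components: `K/O_{p'}(K)` is quasisimple; quasisimple iff `[K, O_{p'}(K)] = 1`;
commutators of distinct `p`-components.
-/

namespace Cfsg.Agent.Lib.Helper3
open Cfsg.Agent.Lib.Lead

local notation "π[" p "," X "]" => QuotientGroup.mk' (Cfsg.pPrimeCore p X)

section lift
variable {X : Type*} [Group X]

/-- in a perfect group, the preimage of the centre of a central quotient is central (Grün) -/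
theorem comap_center_le_center_of_perfect (hperf : commutator X = ⊤) (Z : Subgroup X) [Z.Normal]
    (hZ : Z ≤ Subgroup.center X) :
    (Subgroup.center (X ⧸ Z)).comap (QuotientGroup.mk' Z) ≤ Subgroup.center X := by
  obtain ⟨C, hC⟩ : ∃ C, C = (Subgroup.center (X ⧸ Z)).comap (QuotientGroup.mk' Z) := ⟨_, rfl⟩
  rw [← hC]
  have h1 : ⁅C, (⊤ : Subgroup X)⁆ ≤ Z := by
    rw [Subgroup.commutator_le]
    intro c hc x _
    rw [hC, Subgroup.mem_comap] at hc
    rw [← QuotientGroup.eq_one_iff, commutatorElement_def]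
    have := Subgroup.mem_center_iff.mp hc (QuotientGroup.mk' Z x)
    simp only [QuotientGroup.mk'_apply] at this
    rw [QuotientGroup.mk_mul, QuotientGroup.mk_mul, QuotientGroup.mk_mul, ← this,
      QuotientGroup.mk_inv, QuotientGroup.mk_inv]
    group
  have h2 : ⁅⁅C, (⊤ : Subgroup X)⁆, (⊤ : Subgroup X)⁆ = ⊥ := by
    rw [Subgroup.commutator_eq_bot_iff_le_centralizer]
    refine (h1.trans hZ).trans ?_
    rw [Subgroup.coe_top, Subgroup.centralizer_univ]
  have h3 : ⁅⁅(⊤ : Subgroup X), C⁆, (⊤ : Subgroup X)⁆ = ⊥ := by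
    rw [Subgroup.commutator_comm ⊤ C]; exact h2
  have h4 := Subgroup.commutator_commutator_eq_bot_of_rotate h3 h2
  rw [← commutator_def, hperf, Subgroup.commutator_comm,
    Subgroup.commutator_eq_bot_iff_le_centralizer, Subgroup.coe_top, Subgroup.centralizer_univ] at h4
  exact h4

/-- a perfect central extension of a quasisimple group is quasisimple -/
theorem isQuasisimple_of_quotient_of_le_center (hperf : commutator X = ⊤) (Z : Subgroup X)
    [Z.Normal] (hZ : Z ≤ Subgroup.center X) (hq : Cfsg.IsQuasisimple (X ⧸ Z)) :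
    Cfsg.IsQuasisimple X := by
  refine ⟨Group.isPerfect_def.mpr hperf, ?_⟩
  have hle := comap_center_le_center_of_perfect hperf Z hZ
  have hge : Subgroup.center X ≤ (Subgroup.center (X ⧸ Z)).comap (QuotientGroup.mk' Z) := by
    intro c hc
    rw [Subgroup.mem_comap, Subgroup.mem_center_iff]
    intro y
    obtain ⟨x, rfl⟩ := QuotientGroup.mk'_surjective Z y
    rw [← map_mul, ← map_mul, Subgroup.mem_center_iff.mp hc x]
  have heq : Subgroup.center X = (Subgroup.center (X ⧸ Z)).comap (QuotientGroup.mk' Z) :=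
    le_antisymm hge hle
  let φ : X →* (X ⧸ Z) ⧸ Subgroup.center (X ⧸ Z) :=
    (QuotientGroup.mk' (Subgroup.center (X ⧸ Z))).comp (QuotientGroup.mk' Z)
  have hφ : Function.Surjective φ :=
    (QuotientGroup.mk'_surjective _).comp (QuotientGroup.mk'_surjective _)
  have hker : φ.ker = Subgroup.center X := by
    rw [heq, ← MonoidHom.comap_ker, QuotientGroup.ker_mk']
  have e1 : X ⧸ φ.ker ≃* (X ⧸ Z) ⧸ Subgroup.center (X ⧸ Z) :=
    QuotientGroup.quotientKerEquivOfSurjective φ hφ
  have e2 : X ⧸ Subgroup.center X ≃* X ⧸ φ.ker := QuotientGroup.quotientMulEquivOfEq hker.symm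
  have : IsSimpleGroup ((X ⧸ Z) ⧸ Subgroup.center (X ⧸ Z)) := hq.2
  exact (e2.trans e1).isSimpleGroup

end lift

section
variable {X : Type*} [Group X] [Finite X] {p : ℕ}

/-- `O_{p'}(K) = K ∩ O_{p'}(X)` for subnormal `K` -/
theorem pPrimeCore_eq_subgroupOf_of_isSubnormal {K : Subgroup X} (hK : K.IsSubnormal) :
    Cfsg.pPrimeCore p ↥K = (Cfsg.pPrimeCore p X).subgroupOf K := by
  apply le_antisymm
  · rw [Subgroup.subgroupOf, ← Subgroup.map_le_iff_le_comap]
    exact pPrimeCore_map_subtype_le_of_isSubnormal hK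
  · apply Cfsg.Agent.Lib.Helper6.le_pPrimeCore inferInstance
    have h1 : Nat.card ((Cfsg.pPrimeCore p X).subgroupOf K) ∣ Nat.card (Cfsg.pPrimeCore p X) := by
      rw [← Subgroup.inf_subgroupOf_right,
        Nat.card_congr (Subgroup.subgroupOfEquivOfLe inf_le_right).toEquiv]
      exact Subgroup.card_dvd_of_le inf_le_left
    exact Nat.Coprime.coprime_dvd_left h1 (Cfsg.Agent.Lib.Helper6.pPrimeCore_coprime p)

theorem pPrimeCore_map_subtype_eq_of_isSubnormal {K : Subgroup X} (hK : K.IsSubnormal) :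
    (Cfsg.pPrimeCore p ↥K).map K.subtype = Cfsg.pPrimeCore p X ⊓ K := by
  rw [pPrimeCore_eq_subgroupOf_of_isSubnormal hK, Subgroup.subgroupOf_map_subtype]

/-- `K/O_{p'}(K)` is the image of `K` in `X/O_{p'}(X)`, for subnormal `K` -/
noncomputable def quotientPPrimeCoreEquivMap {K : Subgroup X} (hK : K.IsSubnormal) :
    ↥K ⧸ Cfsg.pPrimeCore p ↥K ≃* ↥(K.map π[p, X]) := by
  let φ : ↥K →* X ⧸ Cfsg.pPrimeCore p X := π[p, X].comp K.subtype
  have hker : φ.ker = Cfsg.pPrimeCore p ↥K := by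
    rw [pPrimeCore_eq_subgroupOf_of_isSubnormal hK, ← MonoidHom.comap_ker, QuotientGroup.ker_mk']
    rfl
  have hrange : φ.range = K.map π[p, X] := by
    rw [MonoidHom.range_comp, Subgroup.range_subtype]
  exact ((QuotientGroup.quotientMulEquivOfEq hker.symm).trans
    (QuotientGroup.quotientKerEquivRange φ)).trans (MulEquiv.subgroupCongr hrange)

variable [hp : Fact p.Prime]

/-- **S1275** (any prime) -/
theorem IsPComponent.isQuasisimple_quotient {K : Subgroup X} (hK : Cfsg.IsPComponent p K) :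
    Cfsg.IsQuasisimple (↥K ⧸ Cfsg.pPrimeCore p ↥K) :=
  isQuasisimple_of_mulEquiv (quotientPPrimeCoreEquivMap hK.1).symm hK.2.1.2

theorem IsPComponent.commutator_eq_top {K : Subgroup X} (hK : Cfsg.IsPComponent p K) :
    commutator ↥K = ⊤ := by
  apply Subgroup.map_injective K.subtype_injective
  rw [Subgroup.map_subtype_commutator, ← MonoidHom.range_eq_map, Subgroup.range_subtype]
  exact IsPComponent.commutator_eq_self hK

/-- **S1276** (any prime) -/
theorem IsPComponent.isQuasisimple_iff {K : Subgroup X} (hK : Cfsg.IsPComponent p K) :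
    Cfsg.IsQuasisimple ↥K ↔ ⁅K, (Cfsg.pPrimeCore p ↥K).map K.subtype⁆ = ⊥ := by
  have hiff : ⁅K, (Cfsg.pPrimeCore p ↥K).map K.subtype⁆ = ⊥ ↔
      Cfsg.pPrimeCore p ↥K ≤ Subgroup.center ↥K := by
    rw [Subgroup.commutator_comm, Subgroup.commutator_eq_bot_iff_le_centralizer]
    constructor
    · intro h o ho
      rw [Subgroup.mem_center_iff]
      intro k
      have := Subgroup.mem_centralizer_iff.mp (h ⟨o, ho, rfl⟩) k k.2
      exact Subtype.ext this
    · rintro h _ ⟨o, ho, rfl⟩
      rw [Subgroup.mem_centralizer_iff]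
      intro k hk
      have := Subgroup.mem_center_iff.mp (h ho) ⟨k, hk⟩
      exact congrArg Subtype.val this
  rw [hiff]
  constructor
  · intro hq
    rcases IsQuasisimple.normal_eq_top_or_le_center hq (Cfsg.pPrimeCore p ↥K) with h | h
    · exfalso
      have h1 : (Nat.card K).Coprime p := by
        have := Cfsg.Agent.Lib.Helper6.pPrimeCore_coprime (G := ↥K) p
        rwa [h, Subgroup.card_top] at this
      have h2 := IsPComponent.dvd_card hK
      have h4 : p ∣ Nat.gcd (Nat.card K) p := Nat.dvd_gcd h2 dvd_rfl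
      rw [h1] at h4
      exact hp.out.one_lt.ne' (Nat.dvd_one.mp h4)
    · exact h
  · intro h
    exact isQuasisimple_of_quotient_of_le_center (IsPComponent.commutator_eq_top hK) _ h
      (IsPComponent.isQuasisimple_quotient hK)

/-- distinct `p`-components commute modulo `O_{p'}` -/
theorem IsPComponent.commutator_le_pPrimeCore {K L : Subgroup X} (hK : Cfsg.IsPComponent p K)
    (hL : Cfsg.IsPComponent p L) (hne : K ≠ L) : ⁅K, L⁆ ≤ Cfsg.pPrimeCore p X := by
  have hne' : K.map π[p, X] ≠ L.map π[p, X] := fun h => hne (IsPComponent.eq_of_map_eq hK hL h)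
  have h1 := IsComponent.commutator_eq_bot_of_ne hK.2.1 hL.2.1 hne'
  rw [← Subgroup.map_commutator, Subgroup.map_eq_bot_iff, QuotientGroup.ker_mk'] at h1
  exact h1

theorem IsPComponent.le_normalizer {K L : Subgroup X} (hK : Cfsg.IsPComponent p K)
    (hL : Cfsg.IsPComponent p L) : K ≤ Subgroup.normalizer (L : Set X) :=
  ((IsPComponent.le_pLayer hK).trans pLayer_le_comap_layer).trans
    (IsPComponent.comap_layer_le_normalizer hL)

omit [Finite X] hp in
theorem commutator_le_left_of_le_normalizer {K L : Subgroup X}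
    (h : L ≤ Subgroup.normalizer (K : Set X)) : ⁅K, L⁆ ≤ K := by
  rw [Subgroup.commutator_le]
  intro k hk l hl
  rw [commutatorElement_def]
  have h1 : l * k⁻¹ * l⁻¹ ∈ K := (Subgroup.mem_normalizer_iff.mp (h hl) k⁻¹).mp (K.inv_mem hk)
  have : k * l * k⁻¹ * l⁻¹ = k * (l * k⁻¹ * l⁻¹) := by group
  rw [this]
  exact K.mul_mem hk h1

/-- **S1278** (any prime), first part -/
theorem IsPComponent.commutator_le_inf {K L : Subgroup X} (hK : Cfsg.IsPComponent p K)
    (hL : Cfsg.IsPComponent p L) (hne : K ≠ L) :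
    ⁅K, L⁆ ≤ (Cfsg.pPrimeCore p ↥K).map K.subtype ⊓ (Cfsg.pPrimeCore p ↥L).map L.subtype := by
  rw [pPrimeCore_map_subtype_eq_of_isSubnormal hK.1, pPrimeCore_map_subtype_eq_of_isSubnormal hL.1]
  have h1 := IsPComponent.commutator_le_pPrimeCore hK hL hne
  have h2 : ⁅K, L⁆ ≤ K := commutator_le_left_of_le_normalizer (IsPComponent.le_normalizer hL hK)
  have h3 : ⁅K, L⁆ ≤ L := by
    rw [Subgroup.commutator_comm]
    exact commutator_le_left_of_le_normalizer (IsPComponent.le_normalizer hK hL)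
  exact le_inf (le_inf h1 h2) (le_inf h1 h3)

/-- **S1278** (any prime), second part -/
theorem IsPComponent.commutator_eq_bot_of_isQuasisimple {K L : Subgroup X}
    (hK : Cfsg.IsPComponent p K) (hL : Cfsg.IsPComponent p L) (hne : K ≠ L)
    (hq : Cfsg.IsQuasisimple ↥K) : ⁅K, L⁆ = ⊥ := by
  have h1 : ⁅K, L⁆ ≤ (Cfsg.pPrimeCore p ↥K).map K.subtype :=
    (IsPComponent.commutator_le_inf hK hL hne).trans inf_le_left
  have h2 : ⁅K, (Cfsg.pPrimeCore p ↥K).map K.subtype⁆ = ⊥ := (IsPComponent.isQuasisimple_iff hK).mp hq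
  -- three subgroups
  have h3 : ⁅⁅K, L⁆, K⁆ = ⊥ := by
    rw [eq_bot_iff]
    calc ⁅⁅K, L⁆, K⁆ ≤ ⁅(Cfsg.pPrimeCore p ↥K).map K.subtype, K⁆ := Subgroup.commutator_mono h1 le_rfl
      _ = ⁅K, (Cfsg.pPrimeCore p ↥K).map K.subtype⁆ := Subgroup.commutator_comm _ _
      _ = ⊥ := h2
  have h4 : ⁅⁅L, K⁆, K⁆ = ⊥ := by rw [Subgroup.commutator_comm L K]; exact h3
  have h5 := Subgroup.commutator_commutator_eq_bot_of_rotate h3 h4
  rw [IsPComponent.commutator_eq_self hK] at h5
  exact h5

end
end Cfsg.Agent.Lib.Helper3
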