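import Mathlib
import Cfsg.Agent.Lib.Helper3.PComp5

set_option autoImplicit false
set_option linter.unusedSectionVars false

/-!
Images of components in quotients; when `E(X)` covers `E(X/O_{p'}(X))`.
-/

namespace Cfsg.Agent.Lib.Helper3
open Cfsg.Agent.Lib.Lead

local notation "π[" p "," X "]" => QuotientGroup.mk' (Cfsg.pPrimeCore p X)

section quot
variable {X : Type*} [Group X]

/-- the central quotient of a central quotient of a perfect group -/
noncomputable def quotientCenterEquivOfPerfect (hperf : commutator X = ⊤) (Z : Subgroup X)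
    [Z.Normal] (hZ : Z ≤ Subgroup.center X) :
    X ⧸ Subgroup.center X ≃* (X ⧸ Z) ⧸ Subgroup.center (X ⧸ Z) := by
  have hle := comap_center_le_center_of_perfect hperf Z hZ
  have hge : Subgroup.center X ≤ (Subgroup.center (X ⧸ Z)).comap (QuotientGroup.mk' Z) := by
    intro c hc
    rw [Subgroup.mem_comap, Subgroup.mem_center_iff]
    intro y
    obtain ⟨x, rfl⟩ := QuotientGroup.mk'_surjective Z y
    rw [← map_mul, ← map_mul, Subgroup.mem_center_iff.mp hc x]
  have heq : Subgroup.center X = (Subgroup.center (X ⧸ Z)).comap (QuotientGroup.mk' Z) :=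
    le_antisymm hge hle
  let φ : X →* (X ⧸ Z) ⧸ Subgroup.center (X ⧸ Z) :=
    (QuotientGroup.mk' (Subgroup.center (X ⧸ Z))).comp (QuotientGroup.mk' Z)
  have hφ : Function.Surjective φ :=
    (QuotientGroup.mk'_surjective _).comp (QuotientGroup.mk'_surjective _)
  have hker : φ.ker = Subgroup.center X := by
    rw [heq, ← MonoidHom.comap_ker, QuotientGroup.ker_mk']
  exact (QuotientGroup.quotientMulEquivOfEq hker.symm).trans
    (QuotientGroup.quotientKerEquivOfSurjective φ hφ)

/-- a central quotient of a quasisimple group is quasisimple -/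
theorem isQuasisimple_quotient_of_le_center (hq : Cfsg.IsQuasisimple X) (Z : Subgroup X)
    [Z.Normal] (hZ : Z ≤ Subgroup.center X) : Cfsg.IsQuasisimple (X ⧸ Z) := by
  have : Group.IsPerfect X := hq.1
  refine ⟨inferInstance, ?_⟩
  have : IsSimpleGroup (X ⧸ Subgroup.center X) := hq.2
  exact (quotientCenterEquivOfPerfect (IsQuasisimple.commutator_eq_top hq) Z hZ).symm.isSimpleGroup

/-- `L/(L ∩ W)` is the image of `L` in `X/W` -/
noncomputable def quotientSubgroupOfEquivMap (W : Subgroup X) [W.Normal] (L : Subgroup X) :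
    ↥L ⧸ W.subgroupOf L ≃* ↥(L.map (QuotientGroup.mk' W)) := by
  let φ : ↥L →* X ⧸ W := (QuotientGroup.mk' W).comp L.subtype
  have hker : φ.ker = W.subgroupOf L := by
    rw [← MonoidHom.comap_ker, QuotientGroup.ker_mk']
    rfl
  have hrange : φ.range = L.map (QuotientGroup.mk' W) := by
    rw [MonoidHom.range_comp, Subgroup.range_subtype]
  exact ((QuotientGroup.quotientMulEquivOfEq hker.symm).trans
    (QuotientGroup.quotientKerEquivRange φ)).trans (MulEquiv.subgroupCongr hrange)

/-- the image of a component in a quotient is trivial or a component -/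
theorem IsComponent.map_mk'_eq_bot_or (W : Subgroup X) [W.Normal] {L : Subgroup X}
    (hL : Cfsg.IsComponent L) :
    L.map (QuotientGroup.mk' W) = ⊥ ∨ Cfsg.IsComponent (L.map (QuotientGroup.mk' W)) := by
  rcases IsQuasisimple.normal_eq_top_or_le_center hL.2 (W.subgroupOf L) with h | h
  · left
    rw [Subgroup.subgroupOf_eq_top] at h
    rw [Subgroup.map_eq_bot_iff, QuotientGroup.ker_mk']
    exact h
  · right
    refine ⟨hL.1.map (QuotientGroup.mk'_surjective W), ?_⟩
    exact isQuasisimple_of_mulEquiv (quotientSubgroupOfEquivMap W L)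
      (isQuasisimple_quotient_of_le_center hL.2 _ h)

/-- the image of the layer lies in the layer of the quotient -/
theorem layer_map_mk'_le (W : Subgroup X) [W.Normal] :
    (Cfsg.layer X).map (QuotientGroup.mk' W) ≤ Cfsg.layer (X ⧸ W) := by
  rw [Subgroup.map_le_iff_le_comap, layer_le_iff]
  intro L hL
  rw [← Subgroup.map_le_iff_le_comap]
  rcases IsComponent.map_mk'_eq_bot_or W hL with h | h
  · rw [h]; exact bot_le
  · exact IsComponent.le_layer h

/-- a component of `X/W` inside the image of `E(X)` is the image of a component of `X` -/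
theorem IsComponent.exists_map_eq_of_le_map_layer (W : Subgroup X) [W.Normal]
    {Kbar : Subgroup (X ⧸ W)} (hK : Cfsg.IsComponent Kbar)
    (hle : Kbar ≤ (Cfsg.layer X).map (QuotientGroup.mk' W)) :
    ∃ L : Subgroup X, Cfsg.IsComponent L ∧ L.map (QuotientGroup.mk' W) = Kbar := by
  by_contra hcon
  simp only [not_exists, not_and] at hcon
  have h1 : (Cfsg.layer X).map (QuotientGroup.mk' W) ≤ Subgroup.centralizer (Kbar : Set (X ⧸ W)) := by
    rw [Subgroup.map_le_iff_le_comap, layer_le_iff]
    intro L hL
    rw [← Subgroup.map_le_iff_le_comap]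
    rcases IsComponent.map_mk'_eq_bot_or W hL with h | h
    · rw [h]; exact bot_le
    · have := IsComponent.commutator_eq_bot_of_ne h hK (hcon L hL)
      rwa [Subgroup.commutator_eq_bot_iff_le_centralizer] at this
  have h2 : Kbar ≤ Subgroup.centralizer (Kbar : Set (X ⧸ W)) := hle.trans h1
  have h3 : ⁅Kbar, Kbar⁆ = ⊥ := by
    rw [Subgroup.commutator_eq_bot_iff_le_centralizer]; exact h2
  rw [IsQuasisimple.commutator_eq_self hK.2] at h3
  exact IsQuasisimple.ne_bot hK.2 h3

end quot

section
variable {X : Type*} [Group X] [Finite X] {p : ℕ} [hp : Fact p.Prime]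

/-- a component whose image is a component of `X/O_{p'}(X)` is a `p`-component -/
theorem IsComponent.isPComponent_of_map {L : Subgroup X} (hL : Cfsg.IsComponent L)
    (hLm : Cfsg.IsComponent (L.map π[p, X])) : Cfsg.IsPComponent p L := by
  refine ⟨hL.1, hLm, ?_⟩
  intro H hH hle hmap
  rcases IsQuasisimple.subnormal_eq_top_or_le_center hL.2 (H.subgroupOf L) hH.subgroupOf with h | h
  · rw [Subgroup.subgroupOf_eq_top] at h
    exact le_antisymm hle h
  · exfalso
    have h1 : ⁅H, H⁆ = ⊥ := by
      rw [Subgroup.commutator_eq_bot_iff_le_centralizer]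
      intro a ha
      rw [Subgroup.mem_centralizer_iff]
      intro b hb
      have hb' : (⟨b, hle hb⟩ : L) ∈ Subgroup.center L := h hb
      have := Subgroup.mem_center_iff.mp hb' ⟨a, hle ha⟩
      exact (congrArg Subtype.val this).symm
    have h2 : ⁅L.map π[p, X], L.map π[p, X]⁆ = ⊥ := by
      rw [← hmap, ← Subgroup.map_commutator, h1, Subgroup.map_bot]
    rw [IsQuasisimple.commutator_eq_self hLm.2] at h2
    exact IsQuasisimple.ne_bot hLm.2 h2

/-- **S1277** (any prime) -/
theorem layer_map_mk'_eq_iff :
    (Cfsg.layer X).map π[p, X] = Cfsg.layer (X ⧸ Cfsg.pPrimeCore p X) ↔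
      Cfsg.pLayer p X ≤ Cfsg.layer X := by
  constructor
  · intro h
    rw [pLayer_le_iff]
    intro K hK
    have hle : K.map π[p, X] ≤ (Cfsg.layer X).map π[p, X] := by
      rw [h]; exact IsComponent.le_layer hK.2.1
    obtain ⟨L, hL, hLm⟩ := IsComponent.exists_map_eq_of_le_map_layer _ hK.2.1 hle
    have hLp : Cfsg.IsPComponent p L := IsComponent.isPComponent_of_map hL (by rw [hLm]; exact hK.2.1)
    rw [← IsPComponent.eq_of_map_eq hLp hK hLm]
    exact IsComponent.le_layer hL
  · intro h
    apply le_antisymm (layer_map_mk'_le _)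
    rw [← pLayer_map_mk']
    exact Subgroup.map_mono h

end
end Cfsg.Agent.Lib.Helper3
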