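import Mathlib
import Cfsg.Agent.Lib.Helper3.PComp6
import Cfsg.Agent.Lib.Lead.CoprimeAction

set_option autoImplicit false
set_option linter.unusedSectionVars false

/-!
`p`-constraint is the same as having trivial `p`-layer.
-/

namespace Cfsg.Agent.Lib.Helper3
open Cfsg.Agent.Lib.Lead
open scoped Pointwise

local notation "π[" p "," X "]" => QuotientGroup.mk' (Cfsg.pPrimeCore p X)

section
variable {X : Type*} [Group X] [Finite X] {p : ℕ} [hp : Fact p.Prime]

/-- lifting centralizers of `p`-subgroups through a normal `p'`-subgroup -/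
theorem exists_mem_centralizer_of_map_mem_centralizer (W : Subgroup X) [hWn : W.Normal]
    (hW : (Nat.card W).Coprime p) {P : Subgroup X} (hP : IsPGroup p P) {y : X}
    (hy : QuotientGroup.mk' W y ∈ Subgroup.centralizer ((P.map (QuotientGroup.mk' W) : Subgroup _) : Set _)) :
    ∃ c ∈ Subgroup.centralizer (P : Set X), QuotientGroup.mk' W c = QuotientGroup.mk' W y := by
  have hcomm : ∀ u ∈ P, y * u * y⁻¹ * u⁻¹ ∈ W := by
    intro u hu
    rw [← QuotientGroup.ker_mk' W, MonoidHom.mem_ker]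
    have := Subgroup.mem_centralizer_iff.mp hy _ ⟨u, hu, rfl⟩
    rw [map_mul, map_mul, map_mul, map_inv, map_inv, ← this]
    group
  have hPW : P ≤ Subgroup.normalizer (W : Set X) := Sig.le_normalizer_of_normal _ _
  have hcop : (Nat.card P).Coprime (Nat.card W) := by
    obtain ⟨k, hk⟩ := IsPGroup.iff_card.mp hP
    rw [hk]
    exact (Nat.Coprime.pow_right k hW).symm
  have hB : MulAut.conj y • P ≤ P ⊔ W := by
    intro x hx
    rw [mem_conj_smul_iff'] at hx
    have h1 := hcomm _ hx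
    have : x = (y * (y⁻¹ * x * y) * y⁻¹ * (y⁻¹ * x * y)⁻¹) * (y⁻¹ * x * y) := by group
    rw [this]
    exact Subgroup.mul_mem _ (Subgroup.mem_sup_right h1) (Subgroup.mem_sup_left hx)
  have hcard : Nat.card (MulAut.conj y • P : Subgroup X) = Nat.card P := card_conj_smul y P
  obtain ⟨w, hw, hwP⟩ := coprime_conj_complement P W hPW hcop
    (Or.inl (IsNilpotent.to_isSolvable (h := hP.isNilpotent))) _ hB hcard
  refine ⟨w⁻¹ * y, ?_, ?_⟩
  · have hn : MulAut.conj (w⁻¹ * y) • P = P := by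
      rw [map_mul, mul_smul, ← hwP, ← mul_smul, ← map_mul, inv_mul_cancel, map_one, one_smul]
    rw [Subgroup.mem_centralizer_iff]
    intro u hu
    have h1 : (w⁻¹ * y) * u * (w⁻¹ * y)⁻¹ ∈ P := by
      rw [← hn, mem_conj_smul_iff']
      have : (w⁻¹ * y)⁻¹ * ((w⁻¹ * y) * u * (w⁻¹ * y)⁻¹) * (w⁻¹ * y) = u := by group
      rw [this]; exact hu
    have h2 : (w⁻¹ * y) * u * (w⁻¹ * y)⁻¹ * u⁻¹ ∈ W := by
      have e : (w⁻¹ * y) * u * (w⁻¹ * y)⁻¹ * u⁻¹ =
          w⁻¹ * ((y * u * y⁻¹ * u⁻¹) * (u * w * u⁻¹)) := by group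
      rw [e]
      exact W.mul_mem (W.inv_mem hw) (W.mul_mem (hcomm u hu) (hWn.conj_mem w hw u))
    have h3 : (w⁻¹ * y) * u * (w⁻¹ * y)⁻¹ * u⁻¹ ∈ P ⊓ W :=
      Subgroup.mem_inf.mpr ⟨P.mul_mem h1 (P.inv_mem hu), h2⟩
    rw [Cfsg.Agent.Lib.Helper6.isPGroup_inf_coprime_eq_bot hW hP, Subgroup.mem_bot] at h3
    calc u * (w⁻¹ * y) = ((w⁻¹ * y) * u * (w⁻¹ * y)⁻¹ * u⁻¹)⁻¹ * ((w⁻¹ * y) * u) := by group
      _ = (w⁻¹ * y) * u := by rw [h3]; group
  · rw [map_mul, map_inv]
    have : QuotientGroup.mk' W w = 1 := by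
      rw [← MonoidHom.mem_ker, QuotientGroup.ker_mk']; exact hw
    rw [this]; simp

/-- a Sylow `p`-subgroup covers every `p`-group quotient -/
theorem sup_sylow_eq_top_of_isPGroup_quotient {M : Type*} [Group M] [Finite M] (N : Subgroup M)
    [N.Normal] (hq : IsPGroup p (M ⧸ N)) (P : Sylow p M) : N ⊔ (P : Subgroup M) = ⊤ := by
  rw [← Subgroup.index_eq_one]
  have h1 : (N ⊔ (P : Subgroup M)).index ∣ N.index := Subgroup.index_dvd_of_le le_sup_left
  have h2 : (N ⊔ (P : Subgroup M)).index ∣ (P : Subgroup M).index :=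
    Subgroup.index_dvd_of_le le_sup_right
  obtain ⟨k, hk⟩ := IsPGroup.iff_card.mp hq
  rw [Subgroup.index_eq_card N, hk] at h1
  have h3 : ¬ p ∣ (P : Subgroup M).index := P.not_dvd_index
  obtain ⟨j, _, hj'⟩ := (Nat.dvd_prime_pow hp.out).mp h1
  rcases Nat.eq_zero_or_pos j with h0 | hpos
  · rw [hj', h0, pow_zero]
  · exfalso
    apply h3
    rw [hj'] at h2
    exact (dvd_pow_self p hpos.ne').trans h2

theorem pLayer_eq_bot_iff : Cfsg.pLayer p X = ⊥ ↔ ∀ K : Subgroup X, ¬ Cfsg.IsPComponent p K := by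
  constructor
  · intro h K hK
    have h1 := IsPComponent.le_pLayer hK
    rw [h, le_bot_iff] at h1
    have h2 := IsPComponent.dvd_card hK
    rw [h1, Subgroup.card_bot] at h2
    exact hp.out.one_lt.ne' (Nat.dvd_one.mp h2)
  · intro h
    rw [eq_bot_iff, pLayer_le_iff]
    intro K hK
    exact absurd hK (h K)

theorem layer_quotient_pPrimeCore_eq_bot_iff :
    Cfsg.layer (X ⧸ Cfsg.pPrimeCore p X) = ⊥ ↔ Cfsg.pLayer p X = ⊥ := by
  constructor
  · intro h
    rw [pLayer_eq_bot_iff]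
    intro K hK
    have h1 := IsComponent.le_layer hK.2.1
    rw [h, le_bot_iff] at h1
    exact IsQuasisimple.ne_bot hK.2.1.2 h1
  · intro h
    rw [← pLayer_map_mk', h, Subgroup.map_bot]

/-- **S1327** -/
theorem isPConstrained_iff : Cfsg.IsPConstrained p X ↔ Cfsg.pLayer p X = ⊥ := by
  rw [← layer_quotient_pPrimeCore_eq_bot_iff]
  constructor
  · intro h
    rw [layer_eq_bot_iff]
    intro Kbar hKbar
    obtain ⟨P⟩ : Nonempty (Sylow p ↥(Cfsg.pPrimePCore p X)) := inferInstance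
    have hP' : IsPGroup p ((P : Subgroup ↥(Cfsg.pPrimePCore p X)).map (Cfsg.pPrimePCore p X).subtype) :=
      P.2.map _
    have hPle : ((P : Subgroup ↥(Cfsg.pPrimePCore p X)).map (Cfsg.pPrimePCore p X).subtype).map π[p, X]
        ≤ Cfsg.pCore p (X ⧸ Cfsg.pPrimeCore p X) := by
      rw [Subgroup.map_le_iff_le_comap]
      rintro _ ⟨m, _, rfl⟩
      exact m.2
    have hKle : Kbar ≤ Cfsg.pCore p (X ⧸ Cfsg.pPrimeCore p X) := by
      intro k hk
      have h1 : k ∈ Subgroup.centralizer (Cfsg.pCore p (X ⧸ Cfsg.pPrimeCore p X) : Set _) :=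
        layer_le_centralizer_pCore p _ (IsComponent.le_layer hKbar hk)
      have h2 := Subgroup.centralizer_le hPle h1
      obtain ⟨x, rfl⟩ := QuotientGroup.mk'_surjective (Cfsg.pPrimeCore p X) k
      obtain ⟨c, hc, hcx⟩ := exists_mem_centralizer_of_map_mem_centralizer (Cfsg.pPrimeCore p X)
        (Cfsg.Agent.Lib.Helper6.pPrimeCore_coprime p) hP' h2
      have hcM : c ∈ Cfsg.pPrimePCore p X := h P hc
      rw [← hcx]
      exact hcM
    have h3 : IsPGroup p Kbar := (pCore_isPGroup p).to_le hKle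
    exact IsQuasisimple.not_isSolvable hKbar.2 (IsNilpotent.to_isSolvable (h := h3.isNilpotent))
  · intro h P x hx
    have hF : Cfsg.generalizedFittingSubgroup (X ⧸ Cfsg.pPrimeCore p X) =
        Cfsg.pCore p (X ⧸ Cfsg.pPrimeCore p X) := by
      apply generalizedFittingSubgroup_eq_pCore_of_forall h
      intro r hr hrp
      have : Fact r.Prime := ⟨hr⟩
      have h1 : (Nat.card (Cfsg.pCore r (X ⧸ Cfsg.pPrimeCore p X))).Coprime p := by
        obtain ⟨k, hk⟩ := IsPGroup.iff_card.mp (pCore_isPGroup (G := X ⧸ Cfsg.pPrimeCore p X) r)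
        rw [hk]
        exact Nat.Coprime.pow_left _ ((Nat.coprime_primes hr hp.out).mpr hrp)
      have h2 := Cfsg.Agent.Lib.Helper6.le_pPrimeCore (Cfsg.pCore_normal r _) h1
      rwa [pPrimeCore_quotient_eq_bot, le_bot_iff] at h2
    have hC : Subgroup.centralizer (Cfsg.pCore p (X ⧸ Cfsg.pPrimeCore p X) : Set _) ≤
        Cfsg.pCore p (X ⧸ Cfsg.pPrimeCore p X) := by
      have := centralizer_generalizedFittingSubgroup_le (G := X ⧸ Cfsg.pPrimeCore p X)
      rwa [hF] at this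
    -- the Sylow subgroup covers `O_p` of the quotient
    have hq : IsPGroup p (↥(Cfsg.pPrimePCore p X) ⧸
        (Cfsg.pPrimeCore p X).subgroupOf (Cfsg.pPrimePCore p X)) := by
      have e := quotientSubgroupOfEquivMap (Cfsg.pPrimeCore p X) (Cfsg.pPrimePCore p X)
      have h1 : IsPGroup p ((Cfsg.pPrimePCore p X).map π[p, X]) := by
        unfold Cfsg.pPrimePCore
        rw [Subgroup.map_comap_eq_self_of_surjective (QuotientGroup.mk'_surjective _)]
        exact pCore_isPGroup p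
      exact h1.of_equiv e.symm
    have htop := sup_sylow_eq_top_of_isPGroup_quotient _ hq P
    have hcover : Cfsg.pCore p (X ⧸ Cfsg.pPrimeCore p X) ≤
        ((P : Subgroup ↥(Cfsg.pPrimePCore p X)).map (Cfsg.pPrimePCore p X).subtype).map π[p, X] := by
      intro q hq'
      obtain ⟨m, rfl⟩ := QuotientGroup.mk'_surjective (Cfsg.pPrimeCore p X) q
      have hm : m ∈ Cfsg.pPrimePCore p X := hq'
      have hm' : (⟨m, hm⟩ : Cfsg.pPrimePCore p X) ∈
          (Cfsg.pPrimeCore p X).subgroupOf (Cfsg.pPrimePCore p X) ⊔ (P : Subgroup _) := by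
        rw [htop]; exact Subgroup.mem_top _
      rw [Subgroup.mem_sup_of_normal_left] at hm'
      obtain ⟨n, hn, u, hu, hnu⟩ := hm'
      refine ⟨(u : X), ⟨u, hu, rfl⟩, ?_⟩
      have hnW : (n : X) ∈ Cfsg.pPrimeCore p X := hn
      have e : m = (n : X) * (u : X) := by
        have := congrArg Subtype.val hnu
        simpa using this.symm
      rw [e, map_mul]
      have : π[p, X] (n : X) = 1 := by
        rw [← MonoidHom.mem_ker, QuotientGroup.ker_mk']; exact hnW
      rw [this, one_mul]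
    show π[p, X] x ∈ Cfsg.pCore p (X ⧸ Cfsg.pPrimeCore p X)
    apply hC
    apply Subgroup.centralizer_le hcover
    rw [Subgroup.mem_centralizer_iff]
    rintro _ ⟨u, hu, rfl⟩
    rw [← map_mul, ← map_mul, Subgroup.mem_centralizer_iff.mp hx u hu]

end
end Cfsg.Agent.Lib.Helper3
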