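import Mathlib
import Cfsg.Agent.Lib.Helper3.PComp7

set_option autoImplicit false
set_option linter.unusedSectionVars false

/-!
`p`-local subgroups of `p`-constrained groups.
-/

namespace Cfsg.Agent.Lib.Helper3
open Cfsg.Agent.Lib.Lead
open scoped Pointwise

local notation "π[" p "," X "]" => QuotientGroup.mk' (Cfsg.pPrimeCore p X)

section
variable {X : Type*} [Group X] [Finite X] {p : ℕ} [hp : Fact p.Prime]

/-- lifting normalizers of `p`-subgroups through a normal `p'`-subgroup -/
theorem exists_mem_normalizer_of_map_mem_normalizer (W : Subgroup X) [hWn : W.Normal]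
    (hW : (Nat.card W).Coprime p) {P : Subgroup X} (hP : IsPGroup p P) {y : X}
    (hy : QuotientGroup.mk' W y ∈ Subgroup.normalizer ((P.map (QuotientGroup.mk' W) : Subgroup _) : Set _)) :
    ∃ c ∈ Subgroup.normalizer (P : Set X), QuotientGroup.mk' W c = QuotientGroup.mk' W y := by
  have hPW : P ≤ Subgroup.normalizer (W : Set X) := Sig.le_normalizer_of_normal _ _
  have hcop : (Nat.card P).Coprime (Nat.card W) := by
    obtain ⟨k, hk⟩ := IsPGroup.iff_card.mp hP
    rw [hk]
    exact (Nat.Coprime.pow_right k hW).symm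
  have hB : MulAut.conj y • P ≤ P ⊔ W := by
    intro x hx
    rw [mem_conj_smul_iff'] at hx
    have h1 : QuotientGroup.mk' W x ∈ P.map (QuotientGroup.mk' W) := by
      have h2 := (Subgroup.mem_normalizer_iff.mp hy (QuotientGroup.mk' W (y⁻¹ * x * y))).mp
        ⟨_, hx, rfl⟩
      have e : QuotientGroup.mk' W y * QuotientGroup.mk' W (y⁻¹ * x * y) * (QuotientGroup.mk' W y)⁻¹
          = QuotientGroup.mk' W x := by
        rw [← map_inv, ← map_mul, ← map_mul]
        congr 1
        group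
      rwa [e] at h2
    have h3 : x ∈ (P.map (QuotientGroup.mk' W)).comap (QuotientGroup.mk' W) := h1
    rwa [Subgroup.comap_map_eq, QuotientGroup.ker_mk'] at h3
  obtain ⟨w, hw, hwP⟩ := coprime_conj_complement P W hPW hcop
    (Or.inl (IsNilpotent.to_isSolvable (h := hP.isNilpotent))) _ hB (card_conj_smul y P)
  refine ⟨w⁻¹ * y, ?_, ?_⟩
  · rw [mem_normalizer_iff_conj_smul, map_mul, mul_smul, ← hwP, ← mul_smul, ← map_mul,
      inv_mul_cancel, map_one, one_smul]
  · rw [map_mul, map_inv]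
    have : QuotientGroup.mk' W w = 1 := by
      rw [← MonoidHom.mem_ker, QuotientGroup.ker_mk']; exact hw
    rw [this]; simp

theorem normalizer_map_mk'_eq (W : Subgroup X) [hWn : W.Normal]
    (hW : (Nat.card W).Coprime p) {P : Subgroup X} (hP : IsPGroup p P) :
    (Subgroup.normalizer (P : Set X)).map (QuotientGroup.mk' W) =
      Subgroup.normalizer ((P.map (QuotientGroup.mk' W) : Subgroup _) : Set _) := by
  apply le_antisymm (Subgroup.le_normalizer_map _)
  intro y hy
  obtain ⟨x, rfl⟩ := QuotientGroup.mk'_surjective W y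
  obtain ⟨c, hc, hcx⟩ := exists_mem_normalizer_of_map_mem_normalizer W hW hP hy
  exact ⟨c, hc, hcx⟩

end

section
variable {H : Type*} [Group H] [Finite H] {p : ℕ} [hp : Fact p.Prime]

/-- if `F*(H) = O_p(H)` then `O_{p'}(H) = 1` -/
theorem pPrimeCore_eq_bot_of_generalizedFittingSubgroup_eq_pCore
    (h : Cfsg.generalizedFittingSubgroup H = Cfsg.pCore p H) : Cfsg.pPrimeCore p H = ⊥ := by
  have hdisj : Cfsg.pCore p H ⊓ Cfsg.pPrimeCore p H = ⊥ :=
    Cfsg.Agent.Lib.Helper6.isPGroup_inf_coprime_eq_bot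
      (Cfsg.Agent.Lib.Helper6.pPrimeCore_coprime p) (pCore_isPGroup p)
  have h1 : ⁅Cfsg.pPrimeCore p H, Cfsg.pCore p H⁆ ≤ Cfsg.pCore p H ⊓ Cfsg.pPrimeCore p H := by
    rw [inf_comm]; exact Subgroup.commutator_le_inf _ _
  rw [hdisj, le_bot_iff, Subgroup.commutator_eq_bot_iff_le_centralizer] at h1
  have h2 : Cfsg.pPrimeCore p H ≤ Cfsg.pCore p H := by
    have := centralizer_generalizedFittingSubgroup_le (G := H)
    rw [h] at this
    exact h1.trans this
  have h3 : Cfsg.pPrimeCore p H ≤ Cfsg.pCore p H ⊓ Cfsg.pPrimeCore p H := le_inf h2 le_rfl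
  rwa [hdisj, le_bot_iff] at h3

/-- if `F*(H) = O_p(H)` then `E(H) = 1` -/
theorem layer_eq_bot_of_generalizedFittingSubgroup_eq_pCore
    (h : Cfsg.generalizedFittingSubgroup H = Cfsg.pCore p H) : Cfsg.layer H = ⊥ := by
  rw [layer_eq_bot_iff]
  intro K hK
  have h1 : K ≤ Cfsg.pCore p H := by
    rw [← h]; exact (IsComponent.le_layer hK).trans layer_le_generalizedFittingSubgroup
  have h3 : IsPGroup p K := (pCore_isPGroup p).to_le h1
  exact IsQuasisimple.not_isSolvable hK.2 (IsNilpotent.to_isSolvable (h := h3.isNilpotent))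

/-- if `O_{p'}(X) = 1 = L_{p'}(X)` then `F*(X) = O_p(X)` -/
theorem generalizedFittingSubgroup_eq_pCore_of_pPrimeCore_eq_bot
    (h1 : Cfsg.pPrimeCore p H = ⊥) (h2 : Cfsg.layer H = ⊥) :
    Cfsg.generalizedFittingSubgroup H = Cfsg.pCore p H := by
  apply generalizedFittingSubgroup_eq_pCore_of_forall h2
  intro r hr hrp
  have : Fact r.Prime := ⟨hr⟩
  have h3 : (Nat.card (Cfsg.pCore r H)).Coprime p := by
    obtain ⟨k, hk⟩ := IsPGroup.iff_card.mp (pCore_isPGroup (G := H) r)
    rw [hk]
    exact Nat.Coprime.pow_left _ ((Nat.coprime_primes hr hp.out).mpr hrp)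
  have h4 := Cfsg.Agent.Lib.Helper6.le_pPrimeCore (Cfsg.pCore_normal r _) h3
  rwa [h1, le_bot_iff] at h4

/-- `F*(X/O_{p'}(X)) = O_p(X/O_{p'}(X))` when `L_{p'}(X) = 1` -/
theorem generalizedFittingSubgroup_quotient_eq_pCore_of_pLayer_eq_bot (h : Cfsg.pLayer p H = ⊥) :
    Cfsg.generalizedFittingSubgroup (H ⧸ Cfsg.pPrimeCore p H) =
      Cfsg.pCore p (H ⧸ Cfsg.pPrimeCore p H) :=
  generalizedFittingSubgroup_eq_pCore_of_pPrimeCore_eq_bot pPrimeCore_quotient_eq_bot
    (layer_quotient_pPrimeCore_eq_bot_iff.mpr h)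

/-- a surjection with `p'`-kernel onto a group with `O_{p'} = 1`: the kernel is `O_{p'}` -/
theorem pPrimeCore_eq_ker_of_surjective {Hbar : Type*} [Group Hbar] (φ : H →* Hbar)
    (hφ : Function.Surjective φ) (hker : (Nat.card φ.ker).Coprime p)
    (hbar : Cfsg.pPrimeCore p Hbar = ⊥) : Cfsg.pPrimeCore p H = φ.ker := by
  have : Finite Hbar := Finite.of_surjective φ hφ
  apply le_antisymm
  · have hn : ((Cfsg.pPrimeCore p H).map φ).Normal := Subgroup.Normal.map inferInstance φ hφ
    have hc : (Nat.card ((Cfsg.pPrimeCore p H).map φ)).Coprime p :=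
      Nat.Coprime.coprime_dvd_left (Subgroup.card_map_dvd _ φ)
        (Cfsg.Agent.Lib.Helper6.pPrimeCore_coprime p)
    have h1 := Cfsg.Agent.Lib.Helper6.le_pPrimeCore hn hc
    rw [hbar, le_bot_iff, Subgroup.map_eq_bot_iff] at h1
    exact h1
  · exact Cfsg.Agent.Lib.Helper6.le_pPrimeCore inferInstance hker

/-- ... and the `p`-layer is trivial if the layer of the image is -/
theorem pLayer_eq_bot_of_surjective {Hbar : Type*} [Group Hbar] (φ : H →* Hbar)
    (hφ : Function.Surjective φ) (hker : (Nat.card φ.ker).Coprime p)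
    (hbar : Cfsg.pPrimeCore p Hbar = ⊥) (hL : Cfsg.layer Hbar = ⊥) : Cfsg.pLayer p H = ⊥ := by
  rw [← layer_quotient_pPrimeCore_eq_bot_iff]
  have hk := pPrimeCore_eq_ker_of_surjective φ hφ hker hbar
  have e : H ⧸ Cfsg.pPrimeCore p H ≃* Hbar :=
    (QuotientGroup.quotientMulEquivOfEq hk).trans (QuotientGroup.quotientKerEquivOfSurjective φ hφ)
  have h1 := layer_map_mulEquiv e.symm
  rw [hL, Subgroup.map_bot] at h1
  exact h1.symm

end

section
variable {G : Type*} [Group G] [Finite G] {p : ℕ} [hp : Fact p.Prime]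

/-- **S1293** -/
theorem pLayer_normalizer_eq_bot_and (hL : Cfsg.pLayer p G = ⊥) {P : Subgroup G} (hP : IsPGroup p P) :
    Cfsg.pLayer p ↥(Subgroup.normalizer (P : Set G)) = ⊥ ∧
      (Cfsg.pPrimeCore p ↥(Subgroup.normalizer (P : Set G))).map
        (Subgroup.normalizer (P : Set G)).subtype ≤ Cfsg.pPrimeCore p G := by
  have hF := generalizedFittingSubgroup_quotient_eq_pCore_of_pLayer_eq_bot hL
  have hN := generalizedFittingSubgroup_normalizer_eq_pCore_of_eq hF (P := P.map π[p, G]) (hP.map _)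
  rw [← normalizer_map_mk'_eq _ (Cfsg.Agent.Lib.Helper6.pPrimeCore_coprime p) hP] at hN
  have h1 := pPrimeCore_eq_bot_of_generalizedFittingSubgroup_eq_pCore hN
  have h2 := layer_eq_bot_of_generalizedFittingSubgroup_eq_pCore hN
  have hφ := π[p, G].subgroupMap_surjective (Subgroup.normalizer (P : Set G))
  have hker : (π[p, G].subgroupMap (Subgroup.normalizer (P : Set G))).ker =
      (Cfsg.pPrimeCore p G).subgroupOf (Subgroup.normalizer (P : Set G)) := by
    ext x
    rw [MonoidHom.mem_ker, Subgroup.mem_subgroupOf]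
    constructor
    · intro h
      have := congrArg Subtype.val h
      exact (QuotientGroup.eq_one_iff _).mp this
    · intro h
      apply Subtype.ext
      exact (QuotientGroup.eq_one_iff _).mpr h
  have hkc : (Nat.card (π[p, G].subgroupMap (Subgroup.normalizer (P : Set G))).ker).Coprime p := by
    rw [hker, ← Subgroup.inf_subgroupOf_right,
      Nat.card_congr (Subgroup.subgroupOfEquivOfLe inf_le_right).toEquiv]
    exact Nat.Coprime.coprime_dvd_left (Subgroup.card_dvd_of_le inf_le_left)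
      (Cfsg.Agent.Lib.Helper6.pPrimeCore_coprime p)
  refine ⟨pLayer_eq_bot_of_surjective _ hφ hkc h1 h2, ?_⟩
  rw [pPrimeCore_eq_ker_of_surjective _ hφ hkc h1, hker, Subgroup.subgroupOf_map_subtype]
  exact inf_le_left

end
end Cfsg.Agent.Lib.Helper3
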