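import Mathlib
import Cfsg.Agent.Lib.Helper3.PComp8

set_option autoImplicit false
set_option linter.unusedSectionVars false

/-!
The extended `2`-layer is normal.
-/

namespace Cfsg.Agent.Lib.Helper3
open Cfsg.Agent.Lib.Lead
open scoped Pointwise

section
variable {X : Type*} [Group X]

/-- `O_{p'}(C)` for a subgroup `C`, as a subgroup of the big group -/
def coreOf (p : ℕ) (C : Subgroup X) : Subgroup X := (Cfsg.pPrimeCore p ↥C).map C.subtype

theorem coreOf_le (p : ℕ) (C : Subgroup X) : coreOf p C ≤ C := by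
  rintro _ ⟨y, _, rfl⟩; exact y.2

theorem coreOf_map_equiv (p : ℕ) (e : X ≃* X) (C : Subgroup X) :
    (coreOf p C).map (e : X →* X) = coreOf p (C.map (e : X →* X)) := by
  unfold coreOf
  have h1 := pPrimeCore_map_mulEquiv p (e.subgroupMap C)
  rw [← h1, Subgroup.map_map, Subgroup.map_map]
  congr 1

theorem coreOf_map_conj (p : ℕ) (g : X) (C : Subgroup X) :
    (coreOf p C).map (MulAut.conj g).toMonoidHom = coreOf p (C.map (MulAut.conj g).toMonoidHom) :=
  coreOf_map_equiv p (MulAut.conj g) C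

theorem centralizer_map_equiv (e : X ≃* X) (S : Subgroup X) :
    (Subgroup.centralizer (S : Set X)).map (e : X →* X) =
      Subgroup.centralizer ((S.map (e : X →* X) : Subgroup X) : Set X) := by
  ext x
  constructor
  · rintro ⟨c, hc, rfl⟩
    rw [Subgroup.mem_centralizer_iff]
    rintro _ ⟨s, hs, rfl⟩
    have := Subgroup.mem_centralizer_iff.mp hc s hs
    show e s * e c = e c * e s
    rw [← map_mul, ← map_mul, this]
  · intro hx
    refine ⟨e.symm x, ?_, by simp⟩
    show e.symm x ∈ Subgroup.centralizer (S : Set X)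
    rw [Subgroup.mem_centralizer_iff]
    intro s hs
    have := Subgroup.mem_centralizer_iff.mp hx (e s) ⟨s, hs, rfl⟩
    apply e.injective
    rw [map_mul, map_mul, MulEquiv.apply_symm_apply]
    exact this

theorem centralizer_map_conj (g : X) (S : Subgroup X) :
    (Subgroup.centralizer (S : Set X)).map (MulAut.conj g).toMonoidHom =
      Subgroup.centralizer ((S.map (MulAut.conj g).toMonoidHom : Subgroup X) : Set X) :=
  centralizer_map_equiv (MulAut.conj g) S

theorem normal_of_forall_map_conj_le {H : Subgroup X}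
    (h : ∀ g : X, H.map (MulAut.conj g).toMonoidHom ≤ H) : H.Normal :=
  ⟨fun n hn g => h g ⟨n, hn, rfl⟩⟩

variable [Finite X] {p : ℕ} [hp : Fact p.Prime]

instance pLayer_normal : (Cfsg.pLayer p X).Normal := by
  apply normal_of_forall_map_conj_le
  intro g
  rw [Subgroup.map_le_iff_le_comap, pLayer_le_iff]
  intro K hK
  rw [← Subgroup.map_le_iff_le_comap]
  exact IsPComponent.le_pLayer (IsPComponent.map_conj hK g)

instance pPrimePCore_normal : (Cfsg.pPrimePCore p X).Normal := by
  unfold Cfsg.pPrimePCore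
  exact Subgroup.Normal.comap (Cfsg.pCore_normal p _) _

/-- the conjugate of a Sylow subgroup of a normal subgroup by an element of the big group -/
theorem exists_sylow_map_conj {J : Subgroup X} [J.Normal] (T : Sylow p ↥J) (g : X) :
    ∃ T₁ : Sylow p ↥J, (T₁ : Subgroup ↥J).map J.subtype =
      ((T : Subgroup ↥J).map J.subtype).map (MulAut.conj g).toMonoidHom := by
  refine ⟨(MulAut.conjNormal g : MulAut ↥J) • T, ?_⟩
  ext x
  constructor
  · rintro ⟨y, hy, rfl⟩
    rw [Sylow.pointwise_smul_def, SetLike.mem_coe, Subgroup.mem_pointwise_smul_iff_inv_smul_mem] at hy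
    refine ⟨g⁻¹ * (y : X) * g, ⟨_, hy, ?_⟩, ?_⟩
    · simp [MulAut.smul_def]
    · simp [mul_assoc]
  · rintro ⟨_, ⟨y, hy, rfl⟩, rfl⟩
    refine ⟨(MulAut.conjNormal g : MulAut ↥J) y, ?_, ?_⟩
    · rw [Sylow.pointwise_smul_def, SetLike.mem_coe]
      exact Subgroup.smul_mem_pointwise_smul y _ _ hy
    · simp [MulAut.conjNormal_apply]

omit [Finite X] hp in
theorem map_conj_eq_of_normal (H : Subgroup X) [hH : H.Normal] (g : X) :
    H.map (MulAut.conj g).toMonoidHom = H := by
  apply Subgroup.mem_normalizer_iff_map_conj_eq.mp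
  rw [Subgroup.normalizer_eq_top]
  exact Subgroup.mem_top g

/-- the term of the extended `2`-layer attached to a Sylow subgroup -/
theorem extendedTwoLayer_eq :
    Cfsg.extendedTwoLayer X = Cfsg.pLayer 2 X ⊔ Cfsg.pPrimeCore 2 X ⊔
      ⨆ T : Sylow 2 ↥(Cfsg.pLayer 2 X ⊔ Cfsg.pPrimePCore 2 X),
        coreOf 2 (Subgroup.centralizer (((T : Subgroup ↥(Cfsg.pLayer 2 X ⊔ Cfsg.pPrimePCore 2 X)).map
          (Cfsg.pLayer 2 X ⊔ Cfsg.pPrimePCore 2 X).subtype : Subgroup X) : Set X)) := rfl

/-- **S1342** -/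
theorem extendedTwoLayer_normal : (Cfsg.extendedTwoLayer X).Normal := by
  apply normal_of_forall_map_conj_le
  intro g
  rw [extendedTwoLayer_eq, Subgroup.map_sup, Subgroup.map_sup, Subgroup.map_iSup,
    map_conj_eq_of_normal, map_conj_eq_of_normal]
  apply sup_le_sup_left
  apply iSup_le
  intro T
  obtain ⟨T₁, hT₁⟩ := exists_sylow_map_conj T g
  rw [coreOf_map_conj, centralizer_map_conj, ← hT₁]
  exact le_iSup (fun T : Sylow 2 ↥(Cfsg.pLayer 2 X ⊔ Cfsg.pPrimePCore 2 X) =>
    coreOf 2 (Subgroup.centralizer (((T : Subgroup ↥(Cfsg.pLayer 2 X ⊔ Cfsg.pPrimePCore 2 X)).map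
      (Cfsg.pLayer 2 X ⊔ Cfsg.pPrimePCore 2 X).subtype : Subgroup X) : Set X))) T₁

end
end Cfsg.Agent.Lib.Helper3
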