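import Mathlib
import Cfsg.Agent.Lib.Helper3.ExtLayer1

set_option autoImplicit false
set_option linter.unusedSectionVars false

/-!
The extended `2`-layer needs only one Sylow subgroup.
-/

namespace Cfsg.Agent.Lib.Helper3
open Cfsg.Agent.Lib.Lead
open scoped Pointwise

section
variable {X : Type*} [Group X]

/-- `N(C)` normalizes `O_{p'}(C)` -/
theorem normalizer_le_normalizer_coreOf (p : ℕ) (C : Subgroup X) :
    Subgroup.normalizer (C : Set X) ≤ Subgroup.normalizer ((coreOf p C : Subgroup X) : Set X) := by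
  apply Cfsg.Agent.Lib.Helper6.normalizer_le_normalizer_of_characteristic (coreOf_le p C)
  have : (coreOf p C).subgroupOf C = Cfsg.pPrimeCore p ↥C := by
    unfold coreOf
    rw [Subgroup.subgroupOf, Subgroup.comap_map_eq_self_of_injective C.subtype_injective]
  rw [this]; infer_instance

/-- a subgroup normalizes `O_{p'}` of its centralizer -/
theorem le_normalizer_coreOf_centralizer (p : ℕ) (S : Subgroup X) :
    S ≤ Subgroup.normalizer ((coreOf p (Subgroup.centralizer (S : Set X)) : Subgroup X) : Set X) :=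
  (Subgroup.le_normalizer.trans
    (Cfsg.Agent.Lib.Helper2.normalizer_le_normalizer_centralizer S)).trans
    (normalizer_le_normalizer_coreOf p _)

/-- conjugating by an element of a normal subgroup `R` moves `D` inside `R D` -/
theorem map_conj_le_sup_of_normal (R D : Subgroup X) [hR : R.Normal] {r : X} (hr : r ∈ R) :
    D.map (MulAut.conj r).toMonoidHom ≤ R ⊔ D := by
  rintro _ ⟨d, hd, rfl⟩
  have : (MulAut.conj r).toMonoidHom d = (r * (d * r⁻¹ * d⁻¹)) * d := by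
    simp [MulAut.conj_apply, mul_assoc]
  rw [this]
  exact Subgroup.mul_mem _ (Subgroup.mem_sup_left (R.mul_mem hr (hR.conj_mem _ (R.inv_mem hr) d)))
    (Subgroup.mem_sup_right hd)

theorem map_conj_mul (a b : X) (D : Subgroup X) :
    D.map (MulAut.conj (a * b)).toMonoidHom =
      (D.map (MulAut.conj b).toMonoidHom).map (MulAut.conj a).toMonoidHom := by
  rw [Subgroup.map_map]
  congr 1
  ext x
  simp [mul_assoc]

theorem map_conj_eq_of_mem_normalizer {H : Subgroup X} {g : X}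
    (hg : g ∈ Subgroup.normalizer (H : Set X)) : H.map (MulAut.conj g).toMonoidHom = H :=
  Subgroup.mem_normalizer_iff_map_conj_eq.mp hg

theorem sylow_smul_map_subtype {p : ℕ} (J : Subgroup X) (T : Sylow p ↥J) (j : ↥J) :
    ((j • T : Sylow p ↥J) : Subgroup ↥J).map J.subtype =
      ((T : Subgroup ↥J).map J.subtype).map (MulAut.conj (j : X)).toMonoidHom := by
  ext x
  constructor
  · rintro ⟨y, hy, rfl⟩
    rw [Sylow.coe_subgroup_smul, SetLike.mem_coe, Subgroup.mem_pointwise_smul_iff_inv_smul_mem] at hy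
    refine ⟨(j : X)⁻¹ * (y : X) * j, ⟨_, hy, ?_⟩, ?_⟩
    · simp [MulAut.smul_def]
    · simp [mul_assoc]
  · rintro ⟨_, ⟨y, hy, rfl⟩, rfl⟩
    refine ⟨j * y * j⁻¹, ?_, ?_⟩
    · rw [Sylow.coe_subgroup_smul, SetLike.mem_coe]
      exact ⟨y, hy, by simp [MulAut.conj_apply]⟩
    · simp [MulAut.conj_apply]

variable [Finite X]

/-- `L_{2'}(X) O_{2',2}(X)` is `L_{2'}(X) O(X) T` for a Sylow `2`-subgroup `T` of it -/
theorem pLayer_sup_pPrimePCore_le (T : Sylow 2 ↥(Cfsg.pLayer 2 X ⊔ Cfsg.pPrimePCore 2 X)) :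
    Cfsg.pLayer 2 X ⊔ Cfsg.pPrimePCore 2 X ≤ (Cfsg.pLayer 2 X ⊔ Cfsg.pPrimeCore 2 X) ⊔
      (T : Subgroup ↥(Cfsg.pLayer 2 X ⊔ Cfsg.pPrimePCore 2 X)).map
        (Cfsg.pLayer 2 X ⊔ Cfsg.pPrimePCore 2 X).subtype := by
  obtain ⟨R, hR⟩ : ∃ R, R = Cfsg.pLayer 2 X ⊔ Cfsg.pPrimeCore 2 X := ⟨_, rfl⟩
  have hRn : R.Normal := by rw [hR]; infer_instance
  have hOM : Cfsg.pPrimeCore 2 X ≤ Cfsg.pPrimePCore 2 X := by
    intro x hx
    show QuotientGroup.mk' (Cfsg.pPrimeCore 2 X) x ∈ Cfsg.pCore 2 _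
    have : QuotientGroup.mk' (Cfsg.pPrimeCore 2 X) x = 1 := by
      rw [← MonoidHom.mem_ker, QuotientGroup.ker_mk']; exact hx
    rw [this]; exact Subgroup.one_mem _
  have hRJ : R ≤ Cfsg.pLayer 2 X ⊔ Cfsg.pPrimePCore 2 X := by rw [hR]; exact sup_le_sup_left hOM _
  -- every element of `J` has a `2`-power in `R`
  have hpow : ∀ j ∈ Cfsg.pLayer 2 X ⊔ Cfsg.pPrimePCore 2 X, ∃ k : ℕ, j ^ (2 ^ k) ∈ R := by
    intro j hj
    have hj' : j ∈ ((Cfsg.pLayer 2 X ⊔ Cfsg.pPrimePCore 2 X : Subgroup X) : Set X) := hj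
    rw [Subgroup.normal_mul] at hj'
    obtain ⟨l, hl, m, hm, rfl⟩ := hj'
    have hm' : QuotientGroup.mk' (Cfsg.pPrimeCore 2 X) m ∈ Cfsg.pCore 2 (X ⧸ Cfsg.pPrimeCore 2 X) := hm
    obtain ⟨k, hk⟩ := (pCore_isPGroup (G := X ⧸ Cfsg.pPrimeCore 2 X) 2) ⟨_, hm'⟩
    have hk' : m ^ (2 ^ k) ∈ Cfsg.pPrimeCore 2 X := by
      rw [← QuotientGroup.ker_mk' (Cfsg.pPrimeCore 2 X), MonoidHom.mem_ker, map_pow]
      exact congrArg Subtype.val hk
    refine ⟨k, ?_⟩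
    have h1 := Cfsg.Agent.Lib.Helper6.pow_mul_mem_of_mem_normalizer hl
      (Sig.le_normalizer_of_normal ⊤ (Cfsg.pLayer 2 X) (Subgroup.mem_top m)) (2 ^ k)
    have : (l * m) ^ (2 ^ k) = ((l * m) ^ (2 ^ k) * (m ^ (2 ^ k))⁻¹) * m ^ (2 ^ k) := by group
    rw [this, hR]
    exact Subgroup.mul_mem _ (Subgroup.mem_sup_left h1) (Subgroup.mem_sup_right hk')
  have hq : IsPGroup 2 (↥(Cfsg.pLayer 2 X ⊔ Cfsg.pPrimePCore 2 X) ⧸
      R.subgroupOf (Cfsg.pLayer 2 X ⊔ Cfsg.pPrimePCore 2 X)) := by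
    intro y
    obtain ⟨j, rfl⟩ := QuotientGroup.mk_surjective y
    obtain ⟨k, hk⟩ := hpow j j.2
    refine ⟨k, ?_⟩
    rw [← QuotientGroup.mk_pow, QuotientGroup.eq_one_iff, Subgroup.mem_subgroupOf]
    exact hk
  have htop := sup_sylow_eq_top_of_isPGroup_quotient _ hq T
  rw [← hR]
  intro j hj
  have hj' : (⟨j, hj⟩ : ↥(Cfsg.pLayer 2 X ⊔ Cfsg.pPrimePCore 2 X)) ∈
      R.subgroupOf (Cfsg.pLayer 2 X ⊔ Cfsg.pPrimePCore 2 X) ⊔ (T : Subgroup _) := by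
    rw [htop]; exact Subgroup.mem_top _
  rw [Subgroup.mem_sup_of_normal_left] at hj'
  obtain ⟨n, hn, u, hu, hnu⟩ := hj'
  have e : j = (n : X) * (u : X) := by
    have := congrArg Subtype.val hnu
    simpa using this.symm
  rw [e]
  exact Subgroup.mul_mem _ (Subgroup.mem_sup_left hn) (Subgroup.mem_sup_right ⟨u, hu, rfl⟩)

/-- **S1341** -/
theorem extendedTwoLayer_eq_of_sylow (T : Sylow 2 ↥(Cfsg.pLayer 2 X ⊔ Cfsg.pPrimePCore 2 X)) :
    Cfsg.extendedTwoLayer X = Cfsg.pLayer 2 X ⊔ Cfsg.pPrimeCore 2 X ⊔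
      coreOf 2 (Subgroup.centralizer (((T : Subgroup ↥(Cfsg.pLayer 2 X ⊔ Cfsg.pPrimePCore 2 X)).map
          (Cfsg.pLayer 2 X ⊔ Cfsg.pPrimePCore 2 X).subtype : Subgroup X) : Set X)) := by
  rw [extendedTwoLayer_eq]
  apply le_antisymm
  · apply sup_le le_sup_left
    apply iSup_le
    intro T₁
    obtain ⟨j, hj⟩ := MulAction.exists_smul_eq ↥(Cfsg.pLayer 2 X ⊔ Cfsg.pPrimePCore 2 X) T T₁
    have hT₁ : (T₁ : Subgroup ↥(Cfsg.pLayer 2 X ⊔ Cfsg.pPrimePCore 2 X)).map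
        (Cfsg.pLayer 2 X ⊔ Cfsg.pPrimePCore 2 X).subtype =
        ((T : Subgroup ↥(Cfsg.pLayer 2 X ⊔ Cfsg.pPrimePCore 2 X)).map
        (Cfsg.pLayer 2 X ⊔ Cfsg.pPrimePCore 2 X).subtype).map (MulAut.conj (j : X)).toMonoidHom := by
      rw [← hj, sylow_smul_map_subtype]
    rw [hT₁, ← centralizer_map_conj, ← coreOf_map_conj]
    -- decompose `j`
    have hjJ := pLayer_sup_pPrimePCore_le T j.2
    have hjJ' : (j : X) ∈ (((Cfsg.pLayer 2 X ⊔ Cfsg.pPrimeCore 2 X) ⊔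
      (T : Subgroup ↥(Cfsg.pLayer 2 X ⊔ Cfsg.pPrimePCore 2 X)).map
        (Cfsg.pLayer 2 X ⊔ Cfsg.pPrimePCore 2 X).subtype : Subgroup X) : Set X) := hjJ
    rw [Subgroup.normal_mul] at hjJ'
    obtain ⟨r, hr, t, ht, hrt⟩ := hjJ'
    rw [← hrt, map_conj_mul]
    have ht' := le_normalizer_coreOf_centralizer 2 _ ht
    rw [map_conj_eq_of_mem_normalizer ht']
    exact map_conj_le_sup_of_normal _ _ hr
  · apply sup_le le_sup_left
    refine le_trans ?_ le_sup_right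
    exact le_iSup (fun T : Sylow 2 ↥(Cfsg.pLayer 2 X ⊔ Cfsg.pPrimePCore 2 X) =>
      coreOf 2 (Subgroup.centralizer (((T : Subgroup ↥(Cfsg.pLayer 2 X ⊔ Cfsg.pPrimePCore 2 X)).map
        (Cfsg.pLayer 2 X ⊔ Cfsg.pPrimePCore 2 X).subtype : Subgroup X) : Set X))) T

end
end Cfsg.Agent.Lib.Helper3
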