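import Mathlib
import Cfsg.Prelude.Def_Balance
import Cfsg.Agent.Lib.Helper3.ExtLayer2
import Cfsg.Agent.Lib.Lead.Brodkey

set_option autoImplicit false
open Cfsg

namespace Cfsg.Agent.Lib.Helper3
open Cfsg.Agent.Lib.Lead

section
variable {G : Type*} [Group G]

/-- the edge relation of the commuting graph used by `IsKConnected` -/
def kEdge (p k : ℕ) (A B : Subgroup G) : Prop :=
  IsElementaryAbelian p A ∧ p ^ k ≤ Nat.card ↥A ∧ IsElementaryAbelian p B ∧
    p ^ k ≤ Nat.card ↥B ∧ ∀ a ∈ A, ∀ b ∈ B, a * b = b * a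

theorem isKConnected_iff_kEdge (p k : ℕ) : IsKConnected p k G ↔ ∀ E E' : Subgroup G,
    IsElementaryAbelian p E → p ^ k ≤ Nat.card ↥E → IsElementaryAbelian p E' →
      p ^ k ≤ Nat.card ↥E' → Relation.ReflTransGen (kEdge p k) E E' := Iff.rfl

theorem kEdge_symm {p k : ℕ} {A B : Subgroup G} (h : kEdge p k A B) : kEdge p k B A := by
  obtain ⟨h1, h2, h3, h4, h5⟩ := h
  exact ⟨h3, h4, h1, h2, fun b hb a ha => (h5 a ha b hb).symm⟩

theorem isElementaryAbelian_map_conj {p : ℕ} {A : Subgroup G} (g : G)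
    (hA : IsElementaryAbelian p A) :
    IsElementaryAbelian p (A.map (MulAut.conj g).toMonoidHom) := by
  have := hA.1
  refine ⟨inferInstance, ?_⟩
  rintro _ ⟨a, ha, rfl⟩
  rw [← map_pow, hA.2 a ha, map_one]

theorem card_map_conj' (g : G) (A : Subgroup G) :
    Nat.card ↥(A.map (MulAut.conj g).toMonoidHom) = Nat.card ↥A :=
  Nat.card_congr (A.equivMapOfInjective _ (MulAut.conj g).injective).toEquiv.symm

theorem kEdge_map_conj {p k : ℕ} {A B : Subgroup G} (g : G) (h : kEdge p k A B) :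
    kEdge p k (A.map (MulAut.conj g).toMonoidHom) (B.map (MulAut.conj g).toMonoidHom) := by
  obtain ⟨h1, h2, h3, h4, h5⟩ := h
  refine ⟨isElementaryAbelian_map_conj g h1, by rwa [card_map_conj'],
    isElementaryAbelian_map_conj g h3, by rwa [card_map_conj'], ?_⟩
  rintro _ ⟨a, ha, rfl⟩ _ ⟨b, hb, rfl⟩
  rw [← map_mul, ← map_mul, h5 a ha b hb]

theorem kConn_map_conj {p k : ℕ} {A B : Subgroup G} (g : G)
    (h : Relation.ReflTransGen (kEdge p k) A B) :
    Relation.ReflTransGen (kEdge p k) (A.map (MulAut.conj g).toMonoidHom)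
      (B.map (MulAut.conj g).toMonoidHom) := by
  induction h with
  | refl => exact Relation.ReflTransGen.refl
  | tail _ hbc ih => exact ih.tail (kEdge_map_conj g hbc)

theorem kConn_symm {p k : ℕ} {A B : Subgroup G}
    (h : Relation.ReflTransGen (kEdge p k) A B) : Relation.ReflTransGen (kEdge p k) B A := by
  induction h with
  | refl => exact Relation.ReflTransGen.refl
  | tail _ hbc ih => exact Relation.ReflTransGen.head (kEdge_symm hbc) ih

theorem IsElementaryAbelian.isPGroup {p : ℕ} {A : Subgroup G} (hA : IsElementaryAbelian p A) :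
    IsPGroup p A := by
  intro a
  refine ⟨1, ?_⟩
  apply Subtype.ext
  rw [pow_one, Subgroup.coe_pow, hA.2 a a.2, Subgroup.coe_one]

theorem isElementaryAbelian_zpowers {p : ℕ} {z : G} (hz : z ^ p = 1) :
    IsElementaryAbelian p (Subgroup.zpowers z) := by
  refine ⟨inferInstance, ?_⟩
  rintro _ ⟨k, rfl⟩
  rw [← zpow_natCast, ← zpow_mul, mul_comm, zpow_mul, zpow_natCast, hz, one_zpow]

theorem card_zpowers_of_orderOf {p : ℕ} {z : G} (hz : orderOf z = p) :
    Nat.card ↥(Subgroup.zpowers z) = p := by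
  rw [Nat.card_zpowers, hz]

theorem map_conj_zpowers (g z : G) :
    (Subgroup.zpowers z).map (MulAut.conj g).toMonoidHom = Subgroup.zpowers (g * z * g⁻¹) := by
  rw [MonoidHom.map_zpowers]
  rfl

end

end Cfsg.Agent.Lib.Helper3
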