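import Mathlib
import Cfsg.Agent.Lib.Helper3.Conn1
import Cfsg.Agent.Lib.Lead.CoprimeSylow4

set_option autoImplicit false
open Cfsg

/-!
Sylow subgroups of subgroups, expressed through images in the ambient group.
-/

namespace Cfsg.Agent.Lib.Helper3
open Cfsg.Agent.Lib.Lead

section
variable {G : Type*} [Group G] [Finite G] {p : ℕ} [hp : Fact p.Prime]

/-- being the image of a Sylow subgroup of `H`, in terms of orders -/
theorem exists_sylow_map_eq_iff (H P : Subgroup G) :
    (∃ S : Sylow p ↥H, (S : Subgroup ↥H).map H.subtype = P) ↔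
      P ≤ H ∧ IsPGroup p ↥P ∧ Nat.card ↥P = p ^ (Nat.card ↥H).factorization p := by
  constructor
  · rintro ⟨S, rfl⟩
    refine ⟨Subgroup.map_subtype_le _, S.2.map _, ?_⟩
    rw [card_map_subtype, S.card_eq_multiplicity]
  · rintro ⟨hPH, hPp, hPc⟩
    refine ⟨Sylow.ofCard (P.subgroupOf H) (by rw [card_subgroupOf_of_le hPH, hPc]), ?_⟩
    rw [Sylow.coe_ofCard, map_subtype_subgroupOf_of_le hPH]

/-- Sylow subgroups of a subgroup `H` are conjugate under `H` -/
theorem exists_map_conj_eq_of_sylow_in (H P Q : Subgroup G)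
    (hP : ∃ S : Sylow p ↥H, (S : Subgroup ↥H).map H.subtype = P)
    (hQ : ∃ S : Sylow p ↥H, (S : Subgroup ↥H).map H.subtype = Q) :
    ∃ z ∈ H, Q.map (MulAut.conj z).toMonoidHom = P := by
  obtain ⟨S, rfl⟩ := hP
  obtain ⟨T, rfl⟩ := hQ
  obtain ⟨z, hz⟩ := MulAction.exists_smul_eq ↥H T S
  refine ⟨z, z.2, ?_⟩
  rw [← sylow_smul_map_subtype, hz]

omit [Finite G] in
theorem centralizer_singleton_map_conj (x g : G) :
    (Subgroup.centralizer ({g} : Set G)).map (MulAut.conj x).toMonoidHom =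
      Subgroup.centralizer ({x * g * x⁻¹} : Set G) := by
  ext y
  constructor
  · rintro ⟨c, hc, rfl⟩
    replace hc : c ∈ Subgroup.centralizer ({g} : Set G) := hc
    rw [Subgroup.mem_centralizer_singleton_iff] at hc ⊢
    show x * c * x⁻¹ * (x * g * x⁻¹) = x * g * x⁻¹ * (x * c * x⁻¹)
    calc x * c * x⁻¹ * (x * g * x⁻¹) = x * (c * g) * x⁻¹ := by group
      _ = x * (g * c) * x⁻¹ := by rw [hc]
      _ = x * g * x⁻¹ * (x * c * x⁻¹) := by group
  · intro hy
    rw [Subgroup.mem_centralizer_singleton_iff] at hy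
    refine ⟨x⁻¹ * y * x, ?_, ?_⟩
    · show x⁻¹ * y * x ∈ Subgroup.centralizer ({g} : Set G)
      rw [Subgroup.mem_centralizer_singleton_iff]
      calc x⁻¹ * y * x * g = x⁻¹ * (y * (x * g * x⁻¹)) * x := by group
        _ = x⁻¹ * ((x * g * x⁻¹) * y) * x := by rw [hy]
        _ = g * (x⁻¹ * y * x) := by group
    · show x * (x⁻¹ * y * x) * x⁻¹ = y
      group

end

end Cfsg.Agent.Lib.Helper3
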