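import Mathlib
import Cfsg.Prelude.Def_TwoFusion

set_option autoImplicit false

namespace Cfsg.Agent.Lib.Helper3

variable {G : Type*} [Group G]

/-- For involutions `u`, `v` and `d = u * v`: `d ^ k * u * d ^ k = u`. -/
theorem dihedral_pow_mul_left (u v : G) (hu : u * u = 1) (hv : v * v = 1) (k : ℕ) :
    (u * v) ^ k * u * (u * v) ^ k = u := by
  induction k with
  | zero => simp
  | succ k ih =>
    have e1 : (u * v) ^ (k + 1) = (u * v) * (u * v) ^ k := pow_succ' (u * v) k
    have e2 : (u * v) ^ (k + 1) = (u * v) ^ k * (u * v) := pow_succ (u * v) k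
    have h1 : (u * v) ^ (k + 1) * u * (u * v) ^ (k + 1)
        = (u * v) * ((u * v) ^ k * u * (u * v) ^ k) * (u * v) := by
      calc (u * v) ^ (k + 1) * u * (u * v) ^ (k + 1)
          = ((u * v) * (u * v) ^ k) * u * ((u * v) ^ k * (u * v)) := by rw [← e1, ← e2]
        _ = (u * v) * ((u * v) ^ k * u * (u * v) ^ k) * (u * v) := by simp only [mul_assoc]
    rw [h1, ih]
    calc u * v * u * (u * v) = u * v * (u * u) * v := by simp only [mul_assoc]
      _ = u * (v * v) := by rw [hu]; simp only [mul_one, mul_assoc]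
      _ = u := by rw [hv, mul_one]

/-- For involutions `u`, `v` and `d = u * v`: `d ^ k * v * d ^ k = v`. -/
theorem dihedral_pow_mul_right (u v : G) (hu : u * u = 1) (hv : v * v = 1) (k : ℕ) :
    (u * v) ^ k * v * (u * v) ^ k = v := by
  induction k with
  | zero => simp
  | succ k ih =>
    have e1 : (u * v) ^ (k + 1) = (u * v) * (u * v) ^ k := pow_succ' (u * v) k
    have e2 : (u * v) ^ (k + 1) = (u * v) ^ k * (u * v) := pow_succ (u * v) k
    have h1 : (u * v) ^ (k + 1) * v * (u * v) ^ (k + 1)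
        = (u * v) * ((u * v) ^ k * v * (u * v) ^ k) * (u * v) := by
      calc (u * v) ^ (k + 1) * v * (u * v) ^ (k + 1)
          = ((u * v) * (u * v) ^ k) * v * ((u * v) ^ k * (u * v)) := by rw [← e1, ← e2]
        _ = (u * v) * ((u * v) ^ k * v * (u * v) ^ k) * (u * v) := by simp only [mul_assoc]
    rw [h1, ih]
    calc u * v * v * (u * v) = u * (v * v) * u * v := by simp only [mul_assoc]
      _ = (u * u) * v := by rw [hv]; simp only [mul_one, mul_assoc]
      _ = v := by rw [hu, one_mul]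

/-- If the product of two involutions has odd order `2 j + 1` then `h = (u v) ^ j` conjugates `u` to `v`,
and is inverted by `u`. -/
theorem dihedral_odd_conj (u v : G) (hu : u * u = 1) (hv : v * v = 1) (j : ℕ)
    (hj : (u * v) ^ (2 * j + 1) = 1) :
    (u * v) ^ j * u * ((u * v) ^ j)⁻¹ = v ∧ u * (u * v) ^ j * u⁻¹ = ((u * v) ^ j)⁻¹ := by
  have h1 := dihedral_pow_mul_left u v hu hv j
  have h2 : (u * v) ^ j * ((u * v) ^ j * (u * v)) = 1 := by
    rw [← hj, two_mul, pow_succ, pow_add, mul_assoc]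
  have h3 : ((u * v) ^ j)⁻¹ = (u * v) ^ j * (u * v) := (eq_inv_of_mul_eq_one_right h2).symm ▸ rfl
  have huinv : u⁻¹ = u := inv_eq_of_mul_eq_one_right hu
  constructor
  · rw [h3]
    calc (u * v) ^ j * u * ((u * v) ^ j * (u * v))
        = ((u * v) ^ j * u * (u * v) ^ j) * (u * v) := by simp only [mul_assoc]
      _ = u * (u * v) := by rw [h1]
      _ = v := by rw [← mul_assoc, hu, one_mul]
  · rw [huinv]
    -- h u h = u  →  u h u = h⁻¹
    have : u * (u * v) ^ j * u * ((u * v) ^ j) = 1 := by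
      calc u * (u * v) ^ j * u * ((u * v) ^ j) = u * ((u * v) ^ j * u * (u * v) ^ j) := by
            simp only [mul_assoc]
        _ = 1 := by rw [h1, hu]
    exact eq_inv_of_mul_eq_one_left this

theorem IsIsolatedInvolution.mul_self {z : G} (hz : Cfsg.IsIsolatedInvolution z) : z * z = 1 := by
  have := pow_orderOf_eq_one z
  rw [hz.1, pow_two] at this
  exact this

theorem IsIsolatedInvolution.ne_one {z : G} (hz : Cfsg.IsIsolatedInvolution z) : z ≠ 1 := by
  intro h
  have := hz.1
  rw [h, orderOf_one] at this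
  omega

theorem IsIsolatedInvolution.inv_eq {z : G} (hz : Cfsg.IsIsolatedInvolution z) : z⁻¹ = z :=
  inv_eq_of_mul_eq_one_right (IsIsolatedInvolution.mul_self hz)

theorem conj_mul_self {z : G} (hz : z * z = 1) (g : G) : (g * z * g⁻¹) * (g * z * g⁻¹) = 1 := by
  calc (g * z * g⁻¹) * (g * z * g⁻¹) = g * (z * z) * g⁻¹ := by group
    _ = 1 := by rw [hz]; group

/-- The product of an isolated involution with any of its conjugates has odd order. -/
theorem IsIsolatedInvolution.odd_orderOf_mul_conj [Finite G] {z : G}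
    (hz : Cfsg.IsIsolatedInvolution z) (g : G) : Odd (orderOf (z * (g * z * g⁻¹))) := by
  have hu := IsIsolatedInvolution.mul_self hz
  have hv := conj_mul_self hu g
  set v := g * z * g⁻¹ with hvdef
  set d := z * v with hd
  by_contra hodd
  rw [Nat.not_odd_iff_even] at hodd
  obtain ⟨m, hm⟩ := hodd
  have hpos : 0 < orderOf d := orderOf_pos d
  have hm0 : 0 < m := by omega
  have hw1 : d ^ m ≠ 1 := pow_ne_one_of_lt_orderOf (by omega) (by omega)
  have hww : d ^ m * d ^ m = 1 := by rw [← pow_add, ← hm, pow_orderOf_eq_one]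
  have hwinv : (d ^ m)⁻¹ = d ^ m := inv_eq_of_mul_eq_one_right hww
  have h1 := dihedral_pow_mul_left z v hu hv m
  -- z commutes with w = d^m
  have hcomm : Commute z (d ^ m) := by
    have : d ^ m * z = z * (d ^ m)⁻¹ := by
      rw [eq_mul_inv_iff_mul_eq]; exact h1
    rw [hwinv] at this
    exact this.symm
  -- z * w is a conjugate of z
  have hconj : ∃ h : G, h * z * h⁻¹ = z * d ^ m := by
    rcases Nat.even_or_odd' m with ⟨i, hi | hi⟩
    · refine ⟨(d ^ i)⁻¹, ?_⟩
      have h2 := dihedral_pow_mul_left z v hu hv i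
      rw [inv_inv, hi, two_mul, pow_add]
      calc (d ^ i)⁻¹ * z * d ^ i = (d ^ i)⁻¹ * (d ^ i * z * d ^ i) * d ^ i := by rw [h2]
        _ = z * (d ^ i * d ^ i) := by group
    · refine ⟨(d ^ i)⁻¹ * g, ?_⟩
      have h2 := dihedral_pow_mul_right z v hu hv i
      have e1 : (d ^ i)⁻¹ * g * z * ((d ^ i)⁻¹ * g)⁻¹ = (d ^ i)⁻¹ * v * d ^ i := by
        rw [hvdef]; group
      rw [e1, hi, pow_succ', two_mul, pow_add]
      calc (d ^ i)⁻¹ * v * d ^ i = (d ^ i)⁻¹ * (d ^ i * v * d ^ i) * d ^ i := by rw [h2]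
        _ = v * (d ^ i * d ^ i) := by group
        _ = z * (z * v * (d ^ i * d ^ i)) := by
            have : z * (z * v * (d ^ i * d ^ i)) = (z * z) * (v * (d ^ i * d ^ i)) := by
              simp only [mul_assoc]
            rw [this, hu, one_mul]
  obtain ⟨h, hh⟩ := hconj
  have hc : Commute z (h * z * h⁻¹) := by
    rw [hh]
    exact (Commute.refl z).mul_right hcomm
  have := hz.2 h hc
  rw [hh] at this
  exact hw1 (mul_left_cancel (this.trans (mul_one z).symm))

/-- For an isolated involution `z` and a conjugate `v = g z g⁻¹`, some power `h` of `z v` of odd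
order, inverted by `z`, conjugates `z` to `v`. -/
theorem IsIsolatedInvolution.exists_conj [Finite G] {z : G}
    (hz : Cfsg.IsIsolatedInvolution z) (g : G) :
    ∃ h ∈ Subgroup.zpowers (z * (g * z * g⁻¹)), h * z * h⁻¹ = g * z * g⁻¹ ∧ z * h * z⁻¹ = h⁻¹ ∧
      Odd (orderOf h) := by
  have hu := IsIsolatedInvolution.mul_self hz
  have hv := conj_mul_self hu g
  obtain ⟨j, hj⟩ := IsIsolatedInvolution.odd_orderOf_mul_conj hz g
  have hd : (z * (g * z * g⁻¹)) ^ (2 * j + 1) = 1 := by rw [← hj]; exact pow_orderOf_eq_one _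
  obtain ⟨h1, h2⟩ := dihedral_odd_conj z (g * z * g⁻¹) hu hv j hd
  refine ⟨(z * (g * z * g⁻¹)) ^ j, Subgroup.pow_mem _ (Subgroup.mem_zpowers _) j, h1, h2, ?_⟩
  have hdvd : orderOf ((z * (g * z * g⁻¹)) ^ j) ∣ orderOf (z * (g * z * g⁻¹)) :=
    orderOf_pow_dvd j
  rw [hj] at hdvd
  exact Odd.of_dvd_nat ⟨j, rfl⟩ hdvd

/-- If `t` inverts `d` then `t ^ n` fixes `d` for even `n` and inverts it for odd `n`. -/
theorem pow_conj_of_inverts (t d : G) (hinv : t * d * t⁻¹ = d⁻¹) (n : ℕ) :
    t ^ n * d * (t ^ n)⁻¹ = if Even n then d else d⁻¹ := by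
  induction n with
  | zero => simp
  | succ n ih =>
    have e : t ^ (n + 1) * d * (t ^ (n + 1))⁻¹ = t * (t ^ n * d * (t ^ n)⁻¹) * t⁻¹ := by
      rw [pow_succ', mul_inv_rev]; simp only [mul_assoc]
    rw [e, ih]
    by_cases hn : Even n
    · have : ¬ Even (n + 1) := by
        rw [Nat.even_add_one]; exact not_not.mpr hn
      simp only [hn, this, if_true, if_false]
      exact hinv
    · have : Even (n + 1) := by
        rw [Nat.even_add_one]; exact hn
      simp only [hn, this, if_true, if_false]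
      calc t * d⁻¹ * t⁻¹ = (t * d * t⁻¹)⁻¹ := by group
        _ = d := by rw [hinv, inv_inv]

/-- An element of odd order inverting `d` forces `d * d = 1`. -/
theorem mul_self_eq_one_of_odd_inverts (t d : G) (hinv : t * d * t⁻¹ = d⁻¹) (hodd : Odd (orderOf t)) :
    d * d = 1 := by
  have h5 := pow_conj_of_inverts t d hinv (orderOf t)
  rw [pow_orderOf_eq_one] at h5
  have hne' : ¬ Even (orderOf t) := Nat.not_even_iff_odd.mpr hodd
  simp only [hne', if_false, one_mul, inv_one, mul_one] at h5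
  nth_rewrite 1 [h5]; exact inv_mul_cancel d

theorem eq_one_of_odd_of_mul_self [Finite G] (d : G) (hodd : Odd (orderOf d)) (hdd : d * d = 1) : d = 1 := by
  have hd2 : orderOf d ∣ 2 := orderOf_dvd_of_pow_eq_one (by rw [pow_two]; exact hdd)
  have hd1 : orderOf d = 1 := by
    rcases (Nat.dvd_prime Nat.prime_two).mp hd2 with h | h
    · exact h
    · rw [h] at hodd; exact absurd hodd (by decide)
  exact orderOf_eq_one_iff.mp hd1

theorem IsIsolatedInvolution.conj {z : G} (hz : Cfsg.IsIsolatedInvolution z) (g : G) :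
    Cfsg.IsIsolatedInvolution (g * z * g⁻¹) := by
  refine ⟨?_, ?_⟩
  · have : g * z * g⁻¹ = MulAut.conj g z := rfl
    rw [this, MulEquiv.orderOf_eq]
    exact hz.1
  · intro k hk
    have h1 : Commute z ((g⁻¹ * k * g) * z * (g⁻¹ * k * g)⁻¹) := by
      have := hk.eq
      unfold Commute SemiconjBy
      calc z * ((g⁻¹ * k * g) * z * (g⁻¹ * k * g)⁻¹)
          = g⁻¹ * ((g * z * g⁻¹) * (k * (g * z * g⁻¹) * k⁻¹)) * g := by group
        _ = g⁻¹ * ((k * (g * z * g⁻¹) * k⁻¹) * (g * z * g⁻¹)) * g := by rw [this]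
        _ = (g⁻¹ * k * g) * z * (g⁻¹ * k * g)⁻¹ * z := by group
    have h2 := hz.2 _ h1
    calc k * (g * z * g⁻¹) * k⁻¹ = g * ((g⁻¹ * k * g) * z * (g⁻¹ * k * g)⁻¹) * g⁻¹ := by group
      _ = g * z * g⁻¹ := by rw [h2]

/-- The product of two conjugates of an isolated involution has odd order. -/
theorem IsIsolatedInvolution.odd_orderOf_conj_mul_conj [Finite G] {z : G}
    (hz : Cfsg.IsIsolatedInvolution z) (g h : G) :
    Odd (orderOf ((g * z * g⁻¹) * (h * z * h⁻¹))) := by
  have := IsIsolatedInvolution.odd_orderOf_mul_conj (IsIsolatedInvolution.conj hz g) (h * g⁻¹)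
  have e : h * g⁻¹ * (g * z * g⁻¹) * (h * g⁻¹)⁻¹ = h * z * h⁻¹ := by group
  rw [e] at this
  exact this

end Cfsg.Agent.Lib.Helper3
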