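import Mathlib

set_option autoImplicit false

namespace Cfsg.Agent.Lib.Helper3

variable {G : Type*} [Group G]

/-- Elements of odd order with equal squares are equal. -/
theorem eq_of_sq_eq_of_odd_order (k₁ k₂ : G) (h1 : Odd (orderOf k₁)) (h2 : Odd (orderOf k₂))
    (hsq : k₁ * k₁ = k₂ * k₂) : k₁ = k₂ := by
  have hN : Odd (orderOf k₁ * orderOf k₂) := h1.mul h2
  obtain ⟨M, hM⟩ := hN
  have e1 : k₁ ^ (orderOf k₁ * orderOf k₂) = 1 := by rw [pow_mul, pow_orderOf_eq_one, one_pow]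
  have e2 : k₂ ^ (orderOf k₁ * orderOf k₂) = 1 := by
    rw [mul_comm, pow_mul, pow_orderOf_eq_one, one_pow]
  have f1 : k₁ = (k₁ * k₁) ^ (M + 1) := by
    rw [← pow_two, ← pow_mul]
    have : 2 * (M + 1) = (orderOf k₁ * orderOf k₂) + 1 := by omega
    rw [this, pow_succ, e1, one_mul]
  have f2 : k₂ = (k₂ * k₂) ^ (M + 1) := by
    rw [← pow_two, ← pow_mul]
    have : 2 * (M + 1) = (orderOf k₁ * orderOf k₂) + 1 := by omega
    rw [this, pow_succ, e2, one_mul]
  rw [f1, f2, hsq]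

/-- An element `y` of odd order has a square root among its powers. -/
theorem exists_pow_sq_eq_of_odd_order (y : G) (h : Odd (orderOf y)) :
    ∃ n : ℕ, (y ^ n) * (y ^ n) = y := by
  obtain ⟨m, hm⟩ := h
  refine ⟨m + 1, ?_⟩
  rw [← pow_add]
  have : m + 1 + (m + 1) = orderOf y + 1 := by omega
  rw [this, pow_succ, pow_orderOf_eq_one, one_mul]

theorem odd_orderOf_of_odd_card [Finite G] (h : Odd (Nat.card G)) (x : G) : Odd (orderOf x) :=
  Odd.of_dvd_nat h (orderOf_dvd_natCard x)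

end Cfsg.Agent.Lib.Helper3
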