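import Mathlib
import Cfsg.Prelude.Def_Involutions
import Cfsg.Agent.Lib.Helper1.StrEmb
import Cfsg.Agent.Lib.Helper3.Isolated
import Cfsg.Agent.Lib.Helper3.OddOrder

set_option autoImplicit false

/-!
Strongly embedded subgroups: the action on the cosets `G ⧸ H`. Every involution fixes exactly one
coset; involutions with different fixed points are conjugate by an involution; counting.
-/

namespace Cfsg.Agent.Lib.Helper3.StrEmb

open Cfsg.Agent.Lib.Helper1 Cfsg.Agent.Lib.Helper3

variable {G : Type*} [Group G] {H : Subgroup G}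

theorem smul_mk_eq_iff (t g : G) : t • (g : G ⧸ H) = (g : G ⧸ H) ↔ g⁻¹ * t * g ∈ H := by
  rw [MulAction.Quotient.smul_mk, QuotientGroup.eq, smul_eq_mul]
  have : (t * g)⁻¹ * g = (g⁻¹ * t * g)⁻¹ := by group
  rw [this, Subgroup.inv_mem_iff]

theorem smul_mk_one_eq_iff (t : G) : t • ((1 : G) : G ⧸ H) = ((1 : G) : G ⧸ H) ↔ t ∈ H := by
  rw [smul_mk_eq_iff]; simp

theorem invol_mul_self {t : G} (ht : orderOf t = 2) : t * t = 1 := mul_self_of_orderOf_two ht

theorem invol_inv {t : G} (ht : orderOf t = 2) : t⁻¹ = t :=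
  inv_eq_self_of_mul_self (invol_mul_self ht)

theorem orderOf_conj (g t : G) : orderOf (g * t * g⁻¹) = orderOf t := by
  have : g * t * g⁻¹ = MulAut.conj g t := rfl
  rw [this, MulEquiv.orderOf_eq]

theorem orderOf_conj_inv (g t : G) : orderOf (g⁻¹ * t * g) = orderOf t := by
  have := orderOf_conj g⁻¹ t
  rwa [inv_inv] at this

variable [Finite G]

theorem se_mem (hH : Cfsg.IsStronglyEmbedded H) {g t : G} (ht : t ∈ H) (ht2 : orderOf t = 2)
    (h : g⁻¹ * t * g ∈ H) : g ∈ H :=
  ((stronglyEmbedded_iff H).mp hH).2.2 g ⟨t, ht, ht2, h⟩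

theorem exists_involution_mem (hH : Cfsg.IsStronglyEmbedded H) : ∃ s ∈ H, orderOf s = 2 :=
  (even_card_iff_exists_involution H).mp ((stronglyEmbedded_iff H).mp hH).2.1

theorem mem_of_commute (hH : Cfsg.IsStronglyEmbedded H) {s t : G} (hs : s ∈ H)
    (hs2 : orderOf s = 2) (hc : s * t = t * s) : t ∈ H := by
  apply se_mem hH hs hs2
  have : t⁻¹ * s * t = s := by rw [mul_assoc, hc, ← mul_assoc, inv_mul_cancel, one_mul]
  rw [this]; exact hs

/-- an involution fixes at most one coset -/
theorem fixed_unique (hH : Cfsg.IsStronglyEmbedded H) {t : G} (ht : orderOf t = 2) {x y : G ⧸ H}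
    (hx : t • x = x) (hy : t • y = y) : x = y := by
  obtain ⟨g, rfl⟩ := QuotientGroup.mk_surjective x
  obtain ⟨g', rfl⟩ := QuotientGroup.mk_surjective y
  rw [smul_mk_eq_iff] at hx hy
  rw [QuotientGroup.eq]
  apply se_mem hH hx (by rw [orderOf_conj_inv]; exact ht)
  have : (g⁻¹ * g')⁻¹ * (g⁻¹ * t * g) * (g⁻¹ * g') = g'⁻¹ * t * g' := by group
  rw [this]; exact hy


/-- every involution fixes a coset -/
theorem exists_fixed (hH : Cfsg.IsStronglyEmbedded H) {t : G} (ht : orderOf t = 2) :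
    ∃ x : G ⧸ H, t • x = x := by
  obtain ⟨s, hs, hs2⟩ := exists_involution_mem hH
  have hss := invol_mul_self hs2
  have htt := invol_mul_self ht
  rcases Nat.even_or_odd (orderOf (s * t)) with he | ho
  · -- central involution
    obtain ⟨m, hm⟩ := he
    have hmpos : 0 < m := by
      rcases Nat.eq_zero_or_pos m with h0 | h0
      · exfalso
        rw [h0] at hm
        exact (orderOf_pos (s * t)).ne' hm
      · exact h0
    obtain ⟨hz2, hzs, hzt⟩ := invpair_half_pow hss htt m hm hmpos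
    have hzH : (s * t) ^ m ∈ H := mem_of_commute hH hs hs2 hzs.eq.symm
    have htH : t ∈ H := mem_of_commute hH hzH hz2 hzt.eq
    exact ⟨((1 : G) : G ⧸ H), (smul_mk_one_eq_iff t).mpr htH⟩
  · obtain ⟨j, hj⟩ := ho
    have hpow : (s * t) ^ (2 * j + 1) = 1 := by rw [← hj]; exact pow_orderOf_eq_one _
    obtain ⟨h1, -⟩ := dihedral_odd_conj s t hss htt j hpow
    refine ⟨(((s * t) ^ j : G) : G ⧸ H), ?_⟩
    rw [smul_mk_eq_iff]
    generalize (s * t) ^ j = w at h1
    have : w⁻¹ * t * w = s := by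
      calc w⁻¹ * t * w = w⁻¹ * (w * s * w⁻¹) * w := by rw [h1]
        _ = s := by group
    rw [this]; exact hs

/-- involutions with different fixed points have a product of odd order -/
theorem odd_orderOf_mul (hH : Cfsg.IsStronglyEmbedded H) {s t : G} (hs2 : orderOf s = 2)
    (ht2 : orderOf t = 2) {x y : G ⧸ H} (hx : s • x = x) (hy : t • y = y) (hxy : x ≠ y) :
    Odd (orderOf (s * t)) := by
  have hss := invol_mul_self hs2
  have htt := invol_mul_self ht2
  by_contra hodd
  rw [Nat.not_odd_iff_even] at hodd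
  obtain ⟨m, hm⟩ := hodd
  have hmpos : 0 < m := by
    rcases Nat.eq_zero_or_pos m with h0 | h0
    · exfalso
      rw [h0] at hm
      exact (orderOf_pos (s * t)).ne' hm
    · exact h0
  obtain ⟨hz2, hzs, hzt⟩ := invpair_half_pow hss htt m hm hmpos
  set z := (s * t) ^ m with hz
  obtain ⟨p, hp⟩ := exists_fixed hH hz2
  -- s • p is fixed by z
  have h1 : z • (s • p) = s • p := by
    rw [← mul_smul, hzs.eq, mul_smul, hp]
  have h2 : s • p = p := fixed_unique hH hz2 h1 hp
  have h3 : z • (t • p) = t • p := by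
    rw [← mul_smul, hzt.eq, mul_smul, hp]
  have h4 : t • p = p := fixed_unique hH hz2 h3 hp
  exact hxy ((fixed_unique hH hs2 hx h2).trans (fixed_unique hH ht2 h4 hy))

/-- involutions with different fixed points are conjugate by an involution -/
theorem exists_involution_conj (hH : Cfsg.IsStronglyEmbedded H) {s t : G} (hs2 : orderOf s = 2)
    (ht2 : orderOf t = 2) {x y : G ⧸ H} (hx : s • x = x) (hy : t • y = y) (hxy : x ≠ y) :
    ∃ i : G, orderOf i = 2 ∧ i * s * i⁻¹ = t ∧ i • x = y := by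
  have hss := invol_mul_self hs2
  have htt := invol_mul_self ht2
  obtain ⟨j, hj⟩ := odd_orderOf_mul hH hs2 ht2 hx hy hxy
  have hpow : (s * t) ^ (2 * j + 1) = 1 := by rw [← hj]; exact pow_orderOf_eq_one _
  obtain ⟨h1, h2⟩ := dihedral_odd_conj s t hss htt j hpow
  generalize (s * t) ^ j = w at h1 h2
  have hsinv := invol_inv hs2
  have hconj : (w * s) * s * (w * s)⁻¹ = t := by
    calc (w * s) * s * (w * s)⁻¹ = w * s * w⁻¹ := by group
      _ = t := h1
  have hsq : (w * s) * (w * s) = 1 := by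
    have : s * w = w⁻¹ * s := by
      have := h2
      rw [hsinv] at this
      calc s * w = (s * w * s) * s := by rw [mul_assoc (s * w), hss, mul_one]
        _ = w⁻¹ * s := by rw [this]
    calc (w * s) * (w * s) = w * (s * w) * s := by group
      _ = w * (w⁻¹ * s) * s := by rw [this]
      _ = s * s := by group
      _ = 1 := hss
  have hfix : t • ((w * s) • x) = (w * s) • x := by
    rw [← hconj, ← mul_smul]
    have : (w * s) * s * (w * s)⁻¹ * (w * s) = (w * s) * s := by group
    rw [this, mul_smul, hx]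
  have hix : (w * s) • x = y := fixed_unique hH ht2 hfix hy
  have hne : w * s ≠ 1 := by
    intro h
    rw [h, one_smul] at hix
    exact hxy hix
  exact ⟨w * s, orderOf_two_of_mul_self hsq hne, hconj, hix⟩

/-- uniqueness of the conjugating involution -/
theorem involution_conj_unique (hH : Cfsg.IsStronglyEmbedded H) {s i i' : G} (hs2 : orderOf s = 2)
    {x y : G ⧸ H} (hx : s • x = x) (hxy : x ≠ y) (hi : orderOf i = 2) (hi' : orderOf i' = 2)
    (hix : i • x = y) (hi'x : i' • x = y) (h : i * s * i⁻¹ = i' * s * i'⁻¹) : i = i' := by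
  have hss := invol_mul_self hs2
  have key : ∀ k : G, orderOf k = 2 → k • x = y → Odd (orderOf (s * k)) := by
    intro k hk hkx
    obtain ⟨z, hz⟩ := exists_fixed hH hk
    apply odd_orderOf_mul hH hs2 hk hx hz
    intro hxz
    rw [← hxz, hkx] at hz
    exact hxy hz.symm
  have h1 := key i hi hix
  have h2 := key i' hi' hi'x
  have hsq : (s * i) * (s * i) = (s * i') * (s * i') := by
    have e1 : (s * i) * (s * i) = s * (i * s * i⁻¹) := by rw [invol_inv hi]; group
    have e2 : (s * i') * (s * i') = s * (i' * s * i'⁻¹) := by rw [invol_inv hi']; group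
    rw [e1, e2, h]
  have := eq_of_sq_eq_of_odd_order _ _ h1 h2 hsq
  exact mul_left_cancel this

end Cfsg.Agent.Lib.Helper3.StrEmb

namespace Cfsg.Agent.Lib.Helper3.StrEmb

open Cfsg.Agent.Lib.Helper1 Cfsg.Agent.Lib.Helper3

variable {G : Type*} [Group G] {H : Subgroup G} [Finite G]

/-- each coset is fixed by some involution -/
theorem exists_involution_fixing (hH : Cfsg.IsStronglyEmbedded H) (x : G ⧸ H) :
    ∃ s : G, orderOf s = 2 ∧ s • x = x := by
  obtain ⟨s, hs, hs2⟩ := exists_involution_mem hH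
  obtain ⟨g, rfl⟩ := QuotientGroup.mk_surjective x
  refine ⟨g * s * g⁻¹, by rw [orderOf_conj]; exact hs2, ?_⟩
  rw [smul_mk_eq_iff]
  have : g⁻¹ * (g * s * g⁻¹) * g = s := by group
  rw [this]; exact hs

/-- involutions fixing the coset `gH` correspond to involutions of `H` -/
theorem card_involutions_fixing (x : G ⧸ H) :
    Nat.card {t : G // orderOf t = 2 ∧ t • x = x} = Nat.card {t : G // orderOf t = 2 ∧ t ∈ H} := by
  obtain ⟨g, rfl⟩ := QuotientGroup.mk_surjective x
  refine Nat.card_congr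
    { toFun := fun t => ⟨g⁻¹ * t.1 * g, by rw [orderOf_conj_inv]; exact t.2.1,
        (smul_mk_eq_iff t.1 g).mp t.2.2⟩
      invFun := fun t => ⟨g * t.1 * g⁻¹, by rw [orderOf_conj]; exact t.2.1, by
        rw [smul_mk_eq_iff]
        have : g⁻¹ * (g * t.1 * g⁻¹) * g = t.1 := by group
        rw [this]; exact t.2.2⟩
      left_inv := fun t => by
        apply Subtype.ext
        simp only
        group
      right_inv := fun t => by
        apply Subtype.ext
        simp only
        group }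

/-- the number of involutions mapping `x` to `y ≠ x` is the number of involutions fixing `y` -/
theorem card_involutions_smul_eq (hH : Cfsg.IsStronglyEmbedded H) {x y : G ⧸ H} (hxy : x ≠ y) :
    Nat.card {i : G // orderOf i = 2 ∧ i • x = y} =
      Nat.card {t : G // orderOf t = 2 ∧ t • y = y} := by
  obtain ⟨s, hs2, hsx⟩ := exists_involution_fixing hH x
  refine Nat.card_congr (Equiv.ofBijective
    (fun i : {i : G // orderOf i = 2 ∧ i • x = y} =>
      (⟨i.1 * s * i.1⁻¹, by rw [orderOf_conj]; exact hs2, by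
        have h1 : i.1 • x = y := i.2.2
        have h2 : (i.1 * s * i.1⁻¹) • (i.1 • x) = i.1 • x := by
          rw [← mul_smul]
          have : i.1 * s * i.1⁻¹ * i.1 = i.1 * s := by group
          rw [this, mul_smul, hsx]
        rw [h1] at h2
        exact h2⟩ : {t : G // orderOf t = 2 ∧ t • y = y})) ⟨?_, ?_⟩)
  · rintro ⟨i, hi2, hix⟩ ⟨i', hi'2, hi'x⟩ h
    simp only [Subtype.mk.injEq] at h
    apply Subtype.ext
    exact involution_conj_unique hH hs2 hsx hxy hi2 hi'2 hix hi'x h
  · rintro ⟨t, ht2, hty⟩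
    obtain ⟨i, hi2, hconj, hix⟩ := exists_involution_conj hH hs2 ht2 hsx hty hxy
    exact ⟨⟨i, hi2, hix⟩, Subtype.ext hconj⟩

/-- **Counting lemma**: the number of involutions mapping `x` to `y ≠ x` is the number of
involutions of `H`. -/
theorem card_involutions_smul_eq_card (hH : Cfsg.IsStronglyEmbedded H) {x y : G ⧸ H}
    (hxy : x ≠ y) :
    Nat.card {i : G // orderOf i = 2 ∧ i • x = y} = Nat.card {t : G // orderOf t = 2 ∧ t ∈ H} := by
  rw [card_involutions_smul_eq hH hxy, card_involutions_fixing]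

/-- an involution moving `x` to `y` moves `y` to `x` -/
theorem involution_smul_swap {i : G} (hi : orderOf i = 2) {x y : G ⧸ H} (h : i • x = y) :
    i • y = x := by
  rw [← h, ← mul_smul, invol_mul_self hi, one_smul]

/-- two involutions of `H` are conjugate by an element of `H ∩ uHu⁻¹` -/
theorem exists_conj_mem_inf (hH : Cfsg.IsStronglyEmbedded H) {u : G} (hu : orderOf u = 2)
    (huH : u ∉ H) {s t : G} (hs : orderOf s = 2) (hsH : s ∈ H) (ht : orderOf t = 2) (htH : t ∈ H) :
    ∃ d ∈ (H ⊓ H.map (MulAut.conj u).toMonoidHom), d * s * d⁻¹ = t := by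
  set x : G ⧸ H := ((1 : G) : G ⧸ H) with hx
  set y : G ⧸ H := ((u : G) : G ⧸ H) with hy
  have hxy : x ≠ y := by
    intro h
    rw [hx, hy, QuotientGroup.eq] at h
    simp at h
    exact huH h
  have hsx : s • x = x := (smul_mk_one_eq_iff s).mpr hsH
  have htx : t • x = x := (smul_mk_one_eq_iff t).mpr htH
  -- an involution fixing y
  obtain ⟨r, hr2, hry⟩ := exists_involution_fixing hH y
  obtain ⟨i₁, hi₁, hc₁, hi₁x⟩ := exists_involution_conj hH hs hr2 hsx hry hxy
  obtain ⟨i₂, hi₂, hc₂, hi₂x⟩ := exists_involution_conj hH ht hr2 htx hry hxy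
  refine ⟨i₂⁻¹ * i₁, ?_, ?_⟩
  · have hdx : (i₂⁻¹ * i₁) • x = x := by
      rw [mul_smul, hi₁x, invol_inv hi₂, involution_smul_swap hi₂ hi₂x]
    have hdy : (i₂⁻¹ * i₁) • y = y := by
      rw [mul_smul, involution_smul_swap hi₁ hi₁x, invol_inv hi₂, hi₂x]
    refine Subgroup.mem_inf.mpr ⟨(smul_mk_one_eq_iff _).mp hdx, ?_⟩
    rw [mem_map_conj_iff]
    exact (smul_mk_eq_iff _ u).mp hdy
  · calc i₂⁻¹ * i₁ * s * (i₂⁻¹ * i₁)⁻¹ = i₂⁻¹ * (i₁ * s * i₁⁻¹) * i₂ := by group
      _ = i₂⁻¹ * (i₂ * t * i₂⁻¹) * i₂ := by rw [hc₁, hc₂]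
      _ = t := by group

/-- all involutions are conjugate, provided some involution lies outside `H` -/
theorem isConj_of_involutions (hH : Cfsg.IsStronglyEmbedded H) {u : G} (hu : orderOf u = 2)
    (huH : u ∉ H) {a b : G} (ha : orderOf a = 2) (hb : orderOf b = 2) : IsConj a b := by
  obtain ⟨x, hax⟩ := exists_fixed hH ha
  obtain ⟨y, hby⟩ := exists_fixed hH hb
  by_cases hxy : x = y
  · subst hxy
    obtain ⟨g, rfl⟩ := QuotientGroup.mk_surjective x
    rw [smul_mk_eq_iff] at hax hby
    obtain ⟨d, -, hd⟩ := exists_conj_mem_inf hH hu huH (by rw [orderOf_conj_inv]; exact ha) hax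
      (by rw [orderOf_conj_inv]; exact hb) hby
    rw [isConj_iff]
    refine ⟨g * d * g⁻¹, ?_⟩
    calc g * d * g⁻¹ * a * (g * d * g⁻¹)⁻¹ = g * (d * (g⁻¹ * a * g) * d⁻¹) * g⁻¹ := by group
      _ = g * (g⁻¹ * b * g) * g⁻¹ := by rw [hd]
      _ = b := by group
  · obtain ⟨i, -, hc, -⟩ := exists_involution_conj hH ha hb hax hby hxy
    rw [isConj_iff]
    exact ⟨i, hc⟩

end Cfsg.Agent.Lib.Helper3.StrEmb
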