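import Mathlib

set_option autoImplicit false
open scoped Pointwise

namespace Cfsg.Agent.Lib.Helper3

variable {G : Type*} [Group G]

theorem map_conj_eq_smul (A : Subgroup G) (g : G) :
    A.map (MulAut.conj g).toMonoidHom = MulAut.conj g • A := rfl

theorem mem_conj_smul_iff (A : Subgroup G) (g x : G) :
    x ∈ MulAut.conj g • A ↔ g⁻¹ * x * g ∈ A := by
  rw [Subgroup.mem_pointwise_smul_iff_inv_smul_mem]
  simp [MulAut.smul_def]

theorem conj_mem_conj_smul (A : Subgroup G) (g x : G) (hx : x ∈ A) :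
    g * x * g⁻¹ ∈ MulAut.conj g • A := by
  rw [mem_conj_smul_iff]; simpa [mul_assoc] using hx

theorem isPGroup_conj_smul {p : ℕ} {A : Subgroup G} (hA : IsPGroup p A) (g : G) :
    IsPGroup p (MulAut.conj g • A : Subgroup G) := by
  have : (MulAut.conj g • A : Subgroup G) = A.map (MulAut.conj g).toMonoidHom := rfl
  rw [this]
  exact hA.map _

/-- Two `p`-subgroups of a subgroup `C` can be put into a common Sylow `p`-subgroup of `G` after
conjugating one of them by an element of `C`. -/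
theorem exists_conj_le_sylow [Finite G] {p : ℕ} [Fact p.Prime] (C U V : Subgroup G)
    (hU : IsPGroup p U) (hV : IsPGroup p V) (hUC : U ≤ C) (hVC : V ≤ C) :
    ∃ c ∈ C, ∃ P : Sylow p G, U ≤ P ∧ MulAut.conj c • V ≤ (P : Subgroup G) := by
  have hU' : IsPGroup p (U.subgroupOf C) := hU.comap_subtype
  have hV' : IsPGroup p (V.subgroupOf C) := hV.comap_subtype
  obtain ⟨RU, hRU⟩ := hU'.exists_le_sylow
  obtain ⟨RV, hRV⟩ := hV'.exists_le_sylow
  obtain ⟨c, hc⟩ := MulAction.exists_smul_eq C RV RU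
  have hR : IsPGroup p ((RU : Subgroup C).map C.subtype) := RU.2.map _
  obtain ⟨P, hP⟩ := hR.exists_le_sylow
  refine ⟨c, c.2, P, ?_, ?_⟩
  · intro u hu
    apply hP
    exact ⟨⟨u, hUC hu⟩, hRU (by simpa [Subgroup.mem_subgroupOf] using hu), rfl⟩
  · intro x hx
    rw [mem_conj_smul_iff] at hx
    apply hP
    have hxC : x ∈ C := by
      have := hVC hx
      have h2 : x = (c : G) * ((c : G)⁻¹ * x * c) * (c : G)⁻¹ := by group
      rw [h2]
      exact C.mul_mem (C.mul_mem c.2 this) (C.inv_mem c.2)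
    refine ⟨⟨x, hxC⟩, ?_, rfl⟩
    have h3 : (⟨x, hxC⟩ : C) ∈ ((c • RV : Sylow p C) : Subgroup C) := by
      rw [Sylow.coe_subgroup_smul, mem_conj_smul_iff]
      apply hRV
      simpa [Subgroup.mem_subgroupOf] using hx
    rw [hc] at h3
    exact h3

theorem sylow_eq_of_le {p : ℕ} (P Q : Sylow p G) (h : (P : Subgroup G) ≤ Q) : P = Q :=
  Sylow.ext (P.is_maximal' Q.2 h).symm

theorem isPGroup_zpowers_of_mem {p : ℕ} {A : Subgroup G} (hA : IsPGroup p A) {z : G} (hz : z ∈ A) :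
    IsPGroup p (Subgroup.zpowers z) :=
  hA.to_le (Subgroup.zpowers_le.mpr hz)

/-- A `p`-subgroup `V` of an overgroup `K` of a Sylow `p`-subgroup `S` of `G` is conjugate into `S` by
an element of `K`. -/
theorem exists_conj_le_of_le_sylow [Finite G] {p : ℕ} [Fact p.Prime] (S : Sylow p G) (K V : Subgroup G)
    (hSK : (S : Subgroup G) ≤ K) (hV : IsPGroup p V) (hVK : V ≤ K) :
    ∃ c ∈ K, MulAut.conj c • V ≤ (S : Subgroup G) := by
  obtain ⟨c, hc, P, hSP, hVP⟩ := exists_conj_le_sylow K (S : Subgroup G) V S.2 hV hSK hVK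
  have : S = P := sylow_eq_of_le S P hSP
  subst this
  exact ⟨c, hc, hVP⟩

/-- A `p`-element `z` of an overgroup `K` of a Sylow `p`-subgroup `S` of `G` is conjugate into `S` by
an element of `K`. -/
theorem exists_conj_mem_of_le_sylow [Finite G] {p : ℕ} [Fact p.Prime] (S : Sylow p G) (K : Subgroup G)
    (hSK : (S : Subgroup G) ≤ K) (z : G) (hz : IsPGroup p (Subgroup.zpowers z)) (hzK : z ∈ K) :
    ∃ c ∈ K, c * z * c⁻¹ ∈ (S : Subgroup G) := by
  obtain ⟨c, hc, hle⟩ := exists_conj_le_of_le_sylow S K (Subgroup.zpowers z) hSK hz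
    (Subgroup.zpowers_le.mpr hzK)
  exact ⟨c, hc, hle (conj_mem_conj_smul _ _ _ (Subgroup.mem_zpowers z))⟩

end Cfsg.Agent.Lib.Helper3
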