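import Mathlib
import Cfsg.Agent.S1226
import Cfsg.Agent.Lib.Helper3.StrEmb

set_option autoImplicit false

/-!
Groups in which the centralizer of every involution is an elementary abelian 2-group, the Sylow
2-subgroup `T` being neither cyclic nor normal. `H = N_G(T)`.
-/

namespace Cfsg.Agent.Lib.Helper3.ElemInv

open Cfsg.Agent.Lib.Helper1 Cfsg.Agent.Lib.Helper3 Cfsg.Agent.Lib.Helper3.StrEmb
open scoped Pointwise

variable {G : Type*} [Group G] [Finite G]

/-- the standing hypotheses -/
structure Setup (T : Sylow 2 G) : Prop where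
  hnc : ¬ IsCyclic (T : Subgroup G)
  hnn : ¬ (T : Subgroup G).Normal
  hC : ∀ t : G, orderOf t = 2 → IsMulCommutative (Subgroup.centralizer ({t} : Set G)) ∧
    ∀ c ∈ Subgroup.centralizer ({t} : Set G), c ^ 2 = 1

variable {T : Sylow 2 G}

theorem Setup.stronglyEmbedded (h : Setup T) :
    Cfsg.IsStronglyEmbedded (Subgroup.normalizer ((T : Subgroup G) : Set G)) :=
  Cfsg.Agent.S1226.result T h.hnc h.hnn h.hC

theorem Setup.isPGroup_centralizer (h : Setup T) {t : G} (ht : orderOf t = 2) :
    IsPGroup 2 (Subgroup.centralizer ({t} : Set G)) := by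
  intro c
  refine ⟨1, ?_⟩
  rw [pow_one]
  apply Subtype.ext
  simp only [Subgroup.coe_pow, Subgroup.coe_one]
  exact (h.hC t ht).2 c.1 c.2

theorem Setup.nontrivial (h : Setup T) : Nontrivial (T : Subgroup G) := by
  by_contra hn
  rw [not_nontrivial_iff_subsingleton] at hn
  exact h.hnc isCyclic_of_subsingleton

/-- a central involution of `T` -/
theorem Setup.exists_central (h : Setup T) :
    ∃ z : G, z ∈ (T : Subgroup G) ∧ orderOf z = 2 ∧ Subgroup.centralizer ({z} : Set G) = T := by
  have : Fact (Nat.Prime 2) := ⟨Nat.prime_two⟩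
  have hTnt := h.nontrivial
  have hcent : Nontrivial (Subgroup.center (T : Subgroup G)) := T.2.center_nontrivial
  obtain ⟨z, hz⟩ : ∃ z : Subgroup.center (T : Subgroup G), orderOf z = 2 := by
    have := Fintype.ofFinite (Subgroup.center (T : Subgroup G))
    apply exists_prime_orderOf_dvd_card 2
    rw [← Nat.card_eq_fintype_card]
    have hp : IsPGroup 2 (Subgroup.center (T : Subgroup G)) := T.2.to_subgroup _
    rcases hp.card_eq_or_dvd with h | h
    · exfalso
      have := (Nat.card_eq_one_iff_unique.mp h).1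
      exact not_subsingleton _ this
    · exact h
  have hzo : orderOf ((z : (T : Subgroup G)) : G) = 2 := by
    rw [Subgroup.orderOf_coe, Subgroup.orderOf_coe]; exact hz
  have hTle : (T : Subgroup G) ≤ Subgroup.centralizer ({((z : (T : Subgroup G)) : G)} : Set G) := by
    intro x hx
    rw [Subgroup.mem_centralizer_singleton_iff]
    have := (Subgroup.mem_center_iff.mp z.2) ⟨x, hx⟩
    exact (congrArg Subtype.val this)
  exact ⟨_, (z : (T : Subgroup G)).2, hzo, T.is_maximal' (h.isPGroup_centralizer hzo) hTle⟩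

theorem Setup.comm (h : Setup T) {x y : G} (hx : x ∈ (T : Subgroup G)) (hy : y ∈ (T : Subgroup G)) :
    x * y = y * x := by
  obtain ⟨z, -, hzo, hTeq⟩ := h.exists_central
  have hc := (h.hC _ hzo).1
  rw [← hTeq] at hx hy
  exact congrArg Subtype.val (hc.is_comm.comm ⟨x, hx⟩ ⟨y, hy⟩)

theorem Setup.mul_self (h : Setup T) {x : G} (hx : x ∈ (T : Subgroup G)) : x * x = 1 := by
  obtain ⟨z, -, hzo, hTeq⟩ := h.exists_central
  rw [← hTeq] at hx
  have := (h.hC _ hzo).2 x hx
  rwa [pow_two] at this

theorem Setup.orderOf_eq_two (h : Setup T) {x : G} (hx : x ∈ (T : Subgroup G)) (hx1 : x ≠ 1) :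
    orderOf x = 2 :=
  orderOf_two_of_mul_self (h.mul_self hx) hx1

theorem Setup.centralizer_eq (h : Setup T) {t : G} (htT : t ∈ (T : Subgroup G))
    (ht : orderOf t = 2) : Subgroup.centralizer ({t} : Set G) = T := by
  apply T.is_maximal' (h.isPGroup_centralizer ht)
  intro x hx
  rw [Subgroup.mem_centralizer_singleton_iff]
  exact h.comm hx htT

/-- involutions of `H` lie in `T` -/
theorem mem_of_mem_normalizer {t : G} (ht : orderOf t = 2)
    (htN : t ∈ Subgroup.normalizer ((T : Subgroup G) : Set G)) : t ∈ (T : Subgroup G) :=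
  Cfsg.Agent.S1226.mem_sylow_of_mem_normalizer T t ht htN

theorem Setup.four_le_card (h : Setup T) : 4 ≤ Nat.card (T : Subgroup G) := by
  have : Fact (Nat.Prime 2) := ⟨Nat.prime_two⟩
  obtain ⟨k, hk⟩ := IsPGroup.iff_card.mp T.2
  rw [hk]
  rcases k with _ | _ | k
  · exfalso
    rw [pow_zero] at hk
    have := (Nat.card_eq_one_iff_unique.mp hk).1
    exact h.hnc isCyclic_of_subsingleton
  · exfalso
    rw [zero_add, pow_one] at hk
    exact h.hnc (isCyclic_of_prime_card hk)
  · have : 2 ^ (k + 1 + 1) = 4 * 2 ^ k := by ring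
    rw [this]
    exact Nat.le_mul_of_pos_right 4 (Nat.pos_of_ne_zero (by positivity))

/-- the number of involutions of `H` -/
theorem Setup.card_involutions (h : Setup T) :
    Nat.card {t : G // orderOf t = 2 ∧ t ∈ Subgroup.normalizer ((T : Subgroup G) : Set G)} =
      Nat.card (T : Subgroup G) - 1 := by
  classical
  have e : {t : G // orderOf t = 2 ∧ t ∈ Subgroup.normalizer ((T : Subgroup G) : Set G)} ≃
      {t : (T : Subgroup G) // t ≠ 1} :=
    { toFun := fun t => ⟨⟨t.1, mem_of_mem_normalizer t.2.1 t.2.2⟩, by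
        intro h1
        have := congrArg Subtype.val h1
        simp only [Subgroup.coe_one] at this
        have h2 := t.2.1
        rw [this, orderOf_one] at h2
        omega⟩
      invFun := fun t => ⟨t.1.1, h.orderOf_eq_two t.1.2 (by
        intro h1; exact t.2 (Subtype.ext h1)), Subgroup.le_normalizer t.1.2⟩
      left_inv := fun t => rfl
      right_inv := fun t => rfl }
  rw [Nat.card_congr e]
  have := Fintype.ofFinite (T : Subgroup G)
  rw [Nat.card_eq_fintype_card, Nat.card_eq_fintype_card, Fintype.card_subtype_compl,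
    Fintype.card_subtype_eq]

/-- there is an involution outside `H` -/
theorem Setup.exists_involution_notMem (h : Setup T) :
    ∃ u : G, orderOf u = 2 ∧ u ∉ Subgroup.normalizer ((T : Subgroup G) : Set G) := by
  -- some conjugate of T is not T
  have hex : ∃ g : G, g ∉ Subgroup.normalizer ((T : Subgroup G) : Set G) := by
    by_contra hcon
    push Not at hcon
    apply h.hnn
    rw [← Subgroup.normalizer_eq_top_iff, eq_top_iff]
    intro g _
    exact hcon g
  obtain ⟨g, hg⟩ := hex
  by_contra hcon
  push Not at hcon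
  apply hg
  -- every element of g T g⁻¹ lies in H, hence in T
  have key : ∀ y : G, y ∈ (T : Subgroup G) → g * y * g⁻¹ ∈ (T : Subgroup G) := by
    intro y hy
    by_cases hy1 : y = 1
    · subst hy1; simp
    · have h2 : orderOf (g * y * g⁻¹) = 2 := by
        rw [orderOf_conj]; exact h.orderOf_eq_two hy hy1
      exact mem_of_mem_normalizer h2 (hcon _ h2)
  have hle : MulAut.conj g • (T : Subgroup G) ≤ (T : Subgroup G) := by
    intro x hx
    rw [mem_conj_smul_iff] at hx
    have := key _ hx
    have e : g * (g⁻¹ * x * g) * g⁻¹ = x := by group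
    rwa [e] at this
  have heq : MulAut.conj g • (T : Subgroup G) = (T : Subgroup G) := by
    apply Subgroup.eq_of_le_of_card_ge hle
    have : (MulAut.conj g • (T : Subgroup G) : Subgroup G) =
        (T : Subgroup G).map (MulAut.conj g).toMonoidHom := rfl
    rw [this, Subgroup.card_map_of_injective (MulAut.conj g).injective]
  exact Subgroup.mem_normalizer_iff_map_conj_eq.mpr heq

end Cfsg.Agent.Lib.Helper3.ElemInv
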