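import Mathlib
import Cfsg.Agent.Lib.Helper3.ElemInv
import Cfsg.Agent.Lib.Helper3.Count

set_option autoImplicit false

/-!
`|H| = |T| (|T| - 1)`; the two point stabilizer `D = H ∩ uHu⁻¹` is inverted by `u`, has order
`|T| - 1` and complements `T` in `H`.
-/

namespace Cfsg.Agent.Lib.Helper3.ElemInv

open Cfsg.Agent.Lib.Helper1 Cfsg.Agent.Lib.Helper3 Cfsg.Agent.Lib.Helper3.StrEmb
open scoped Pointwise

variable {G : Type*} [Group G] [Finite G] {T : Sylow 2 G}

local notation "N(" T ")" => Subgroup.normalizer ((T : Subgroup G) : Set G)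

/-- `|H| = |T| (|T| - 1)` -/
theorem Setup.card_normalizer (h : Setup T) :
    Nat.card (Subgroup.normalizer ((T : Subgroup G) : Set G)) =
      Nat.card (T : Subgroup G) * (Nat.card (T : Subgroup G) - 1) := by
  obtain ⟨u, hu, huH⟩ := h.exists_involution_notMem
  obtain ⟨s₀, hs₀T, hs₀, hcent⟩ := h.exists_central
  have hs₀H : s₀ ∈ Subgroup.normalizer ((T : Subgroup G) : Set G) := Subgroup.le_normalizer hs₀T
  let f : ↥(Subgroup.normalizer ((T : Subgroup G) : Set G)) →
      {t : G // orderOf t = 2 ∧ t ∈ Subgroup.normalizer ((T : Subgroup G) : Set G)} :=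
    fun k => ⟨(k : G) * s₀ * (k : G)⁻¹, by rw [orderOf_conj]; exact hs₀,
      Subgroup.mul_mem _ (Subgroup.mul_mem _ k.2 hs₀H) (Subgroup.inv_mem _ k.2)⟩
  rw [card_eq_mul_of_fibres f (Nat.card (T : Subgroup G)), h.card_involutions, mul_comm]
  rintro ⟨t, ht, htH⟩
  obtain ⟨d, hd, hdc⟩ := exists_conj_mem_inf h.stronglyEmbedded hu huH hs₀ hs₀H ht htH
  have hdH : d ∈ Subgroup.normalizer ((T : Subgroup G) : Set G) := (Subgroup.mem_inf.mp hd).1
  apply Nat.card_congr
  refine
    { toFun := fun k => ⟨d⁻¹ * (k.1 : G), ?_⟩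
      invFun := fun c => ⟨⟨d * c.1, Subgroup.mul_mem _ hdH (Subgroup.le_normalizer c.2)⟩, ?_⟩
      left_inv := fun k => by
        apply Subtype.ext
        apply Subtype.ext
        simp
      right_inv := fun c => by
        apply Subtype.ext
        simp }
  · have hk : (k.1 : G) * s₀ * (k.1 : G)⁻¹ = t := congrArg Subtype.val k.2
    have hmem : d⁻¹ * (k.1 : G) ∈ Subgroup.centralizer ({s₀} : Set G) := by
      rw [Subgroup.mem_centralizer_singleton_iff]
      calc d⁻¹ * (k.1 : G) * s₀ = d⁻¹ * ((k.1 : G) * s₀ * (k.1 : G)⁻¹) * (k.1 : G) := by group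
        _ = d⁻¹ * (d * s₀ * d⁻¹) * (k.1 : G) := by rw [hk, hdc]
        _ = s₀ * (d⁻¹ * (k.1 : G)) := by group
    rw [hcent] at hmem
    exact hmem
  · apply Subtype.ext
    simp only [f]
    have hc : c.1 * s₀ = s₀ * c.1 := h.comm c.2 hs₀T
    calc d * c.1 * s₀ * (d * c.1)⁻¹ = d * (c.1 * s₀) * c.1⁻¹ * d⁻¹ := by group
      _ = d * (s₀ * c.1) * c.1⁻¹ * d⁻¹ := by rw [hc]
      _ = d * s₀ * d⁻¹ := by group
      _ = t := hdc

end Cfsg.Agent.Lib.Helper3.ElemInv

namespace Cfsg.Agent.Lib.Helper3.ElemInv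

open Cfsg.Agent.Lib.Helper1 Cfsg.Agent.Lib.Helper3 Cfsg.Agent.Lib.Helper3.StrEmb
open scoped Pointwise

variable {G : Type*} [Group G] [Finite G] {T : Sylow 2 G}

/-- the two point stabilizer -/
abbrev twoPt (T : Sylow 2 G) (u : G) : Subgroup G :=
  Subgroup.normalizer ((T : Subgroup G) : Set G) ⊓
    (Subgroup.normalizer ((T : Subgroup G) : Set G)).map (MulAut.conj u).toMonoidHom

theorem Setup.odd_card_twoPt (h : Setup T) {u : G}
    (huH : u ∉ Subgroup.normalizer ((T : Subgroup G) : Set G)) : Odd (Nat.card (twoPt T u)) :=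
  h.stronglyEmbedded.2.2 u huH

theorem Setup.twoPt_inf (h : Setup T) {u : G}
    (huH : u ∉ Subgroup.normalizer ((T : Subgroup G) : Set G)) {d : G} (hd : d ∈ twoPt T u)
    (hdT : d ∈ (T : Subgroup G)) : d = 1 := by
  have : Fact (Nat.Prime 2) := ⟨Nat.prime_two⟩
  have h1 : Odd (orderOf d) := by
    have : orderOf (⟨d, hd⟩ : twoPt T u) ∣ Nat.card (twoPt T u) := orderOf_dvd_natCard _
    rw [← Subgroup.orderOf_coe] at this
    exact Odd.of_dvd_nat (h.odd_card_twoPt huH) this
  exact eq_one_of_odd_of_mul_self d h1 (h.mul_self hdT)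

theorem Setup.card_twoPt_le (h : Setup T) {u : G}
    (huH : u ∉ Subgroup.normalizer ((T : Subgroup G) : Set G)) :
    Nat.card (twoPt T u) ≤ Nat.card (T : Subgroup G) - 1 := by
  let g : ↥(twoPt T u) × ↥(T : Subgroup G) → ↥(Subgroup.normalizer ((T : Subgroup G) : Set G)) :=
    fun p => ⟨(p.1 : G) * (p.2 : G),
      Subgroup.mul_mem _ (Subgroup.mem_inf.mp p.1.2).1 (Subgroup.le_normalizer p.2.2)⟩
  have hg : Function.Injective g := by
    rintro ⟨⟨d, hd⟩, ⟨t, ht⟩⟩ ⟨⟨d', hd'⟩, ⟨t', ht'⟩⟩ hdt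
    have e : d * t = d' * t' := congrArg Subtype.val hdt
    have h1 : d'⁻¹ * d = t' * t⁻¹ := by
      calc d'⁻¹ * d = d'⁻¹ * (d * t) * t⁻¹ := by group
        _ = d'⁻¹ * (d' * t') * t⁻¹ := by rw [e]
        _ = t' * t⁻¹ := by group
    have h2 : d'⁻¹ * d = 1 := by
      apply h.twoPt_inf huH (Subgroup.mul_mem _ (Subgroup.inv_mem _ hd') hd)
      rw [h1]
      exact Subgroup.mul_mem _ ht' (Subgroup.inv_mem _ ht)
    have hdd : d = d' := by
      calc d = d' * (d'⁻¹ * d) := by group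
        _ = d' := by rw [h2, mul_one]
    subst hdd
    have htt : t = t' := mul_left_cancel e
    subst htt
    rfl
  have h1 := Nat.card_le_card_of_injective g hg
  rw [Nat.card_prod, h.card_normalizer, mul_comm] at h1
  exact Nat.le_of_mul_le_mul_left h1 Nat.card_pos

/-- the elements of `D` inverted by `u` are as many as the involutions of `H` -/
theorem Setup.le_card_inverted (h : Setup T) {u : G} (hu : orderOf u = 2)
    (huH : u ∉ Subgroup.normalizer ((T : Subgroup G) : Set G)) :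
    Nat.card (T : Subgroup G) - 1 ≤
      Nat.card {d : twoPt T u // u * (d : G) * u⁻¹ = (d : G)⁻¹} := by
  set H := Subgroup.normalizer ((T : Subgroup G) : Set G) with hH
  set x : G ⧸ H := ((1 : G) : G ⧸ H) with hx
  set y : G ⧸ H := ((u : G) : G ⧸ H) with hy
  have hxy : x ≠ y := by
    intro h'
    rw [hx, hy, QuotientGroup.eq] at h'
    simp at h'
    exact huH h'
  have hux : u • x = y := by
    rw [hx, hy, MulAction.Quotient.smul_mk, smul_eq_mul, mul_one]
  have huy : u • y = x := involution_smul_swap hu hux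
  rw [← h.card_involutions, ← card_involutions_smul_eq_card h.stronglyEmbedded hxy]
  let φ : {i : G // orderOf i = 2 ∧ i • x = y} →
      {d : twoPt T u // u * (d : G) * u⁻¹ = (d : G)⁻¹} := fun i =>
    ⟨⟨u * i.1, by
      have hix : (u * i.1) • x = x := by rw [mul_smul, i.2.2, huy]
      have hiy : (u * i.1) • y = y := by
        rw [mul_smul, involution_smul_swap i.2.1 i.2.2, hux]
      refine Subgroup.mem_inf.mpr ⟨(smul_mk_one_eq_iff _).mp hix, ?_⟩
      rw [mem_map_conj_iff]
      exact (smul_mk_eq_iff _ u).mp hiy⟩, by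
      simp only
      rw [mul_inv_rev, invol_inv hu, invol_inv i.2.1]
      calc u * (u * i.1) * u = (u * u) * i.1 * u := by group
        _ = i.1 * u := by rw [invol_mul_self hu, one_mul]⟩
  apply Nat.card_le_card_of_injective φ
  intro i i' hii
  have := congrArg (fun d : {d : twoPt T u // u * (d : G) * u⁻¹ = (d : G)⁻¹} => ((d : twoPt T u) : G)) hii
  simp only [φ] at this
  exact Subtype.ext (mul_left_cancel this)

/-- `u` inverts every element of `D`, and `|D| = |T| - 1` -/
theorem Setup.twoPt_inverted (h : Setup T) {u : G} (hu : orderOf u = 2)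
    (huH : u ∉ Subgroup.normalizer ((T : Subgroup G) : Set G)) :
    (∀ d ∈ twoPt T u, u * d * u⁻¹ = d⁻¹) ∧ Nat.card (twoPt T u) = Nat.card (T : Subgroup G) - 1 := by
  classical
  have h1 := h.le_card_inverted hu huH
  have h2 := h.card_twoPt_le huH
  have h3 : Nat.card {d : twoPt T u // u * (d : G) * u⁻¹ = (d : G)⁻¹} ≤ Nat.card (twoPt T u) :=
    Nat.card_le_card_of_injective _ Subtype.val_injective
  refine ⟨?_, le_antisymm h2 (h1.trans h3)⟩
  intro d hd
  by_contra hcon
  have := Fintype.ofFinite (twoPt T u)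
  have hlt : Fintype.card {d : twoPt T u // u * (d : G) * u⁻¹ = (d : G)⁻¹} <
      Fintype.card (twoPt T u) :=
    Fintype.card_subtype_lt (x := (⟨d, hd⟩ : twoPt T u)) hcon
  rw [← Nat.card_eq_fintype_card, ← Nat.card_eq_fintype_card] at hlt
  omega

end Cfsg.Agent.Lib.Helper3.ElemInv
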