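import Mathlib
import Cfsg.Agent.Lib.Helper3.ElemInv2

set_option autoImplicit false

/-!
The two point stabilizer `D` fixes exactly two cosets and `N_G(D) = D ⟨u⟩`.
-/

namespace Cfsg.Agent.Lib.Helper3.ElemInv

open Cfsg.Agent.Lib.Helper1 Cfsg.Agent.Lib.Helper3 Cfsg.Agent.Lib.Helper3.StrEmb
open scoped Pointwise

variable {G : Type*} [Group G] [Finite G] {T : Sylow 2 G}

theorem Setup.isComplement' (h : Setup T) {u : G} (hu : orderOf u = 2)
    (huH : u ∉ Subgroup.normalizer ((T : Subgroup G) : Set G)) :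
    Subgroup.IsComplement' ((twoPt T u).subgroupOf (Subgroup.normalizer ((T : Subgroup G) : Set G)))
      ((T : Subgroup G).subgroupOf (Subgroup.normalizer ((T : Subgroup G) : Set G))) := by
  obtain ⟨h1, h2⟩ := h.twoPt_inverted hu huH
  have h3 := h.card_normalizer
  apply Subgroup.isComplement'_of_card_mul_and_disjoint
  · have e1 : Nat.card ((twoPt T u).subgroupOf (Subgroup.normalizer ((T : Subgroup G) : Set G))) =
        Nat.card (twoPt T u) :=
      Nat.card_congr (Subgroup.subgroupOfEquivOfLe inf_le_left).toEquiv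
    have e2 : Nat.card ((T : Subgroup G).subgroupOf (Subgroup.normalizer ((T : Subgroup G) : Set G))) =
        Nat.card (T : Subgroup G) :=
      Nat.card_congr (Subgroup.subgroupOfEquivOfLe Subgroup.le_normalizer).toEquiv
    rw [e1, e2, h2, h3, mul_comm]
  · rw [Subgroup.disjoint_def]
    intro x hx1 hx2
    rw [Subgroup.mem_subgroupOf] at hx1 hx2
    apply Subtype.ext
    exact h.twoPt_inf huH hx1 hx2

/-- `H = D T` -/
theorem Setup.exists_mul_of_mem_normalizer (h : Setup T) {u : G} (hu : orderOf u = 2)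
    (huH : u ∉ Subgroup.normalizer ((T : Subgroup G) : Set G)) {k : G}
    (hk : k ∈ Subgroup.normalizer ((T : Subgroup G) : Set G)) :
    ∃ d ∈ twoPt T u, ∃ t ∈ (T : Subgroup G), k = d * t := by
  obtain ⟨⟨d, t⟩, hdt⟩ := (h.isComplement' hu huH).2 ⟨k, hk⟩
  refine ⟨d.1.1, ?_, t.1.1, ?_, ?_⟩
  · exact Subgroup.mem_subgroupOf.mp d.2
  · exact Subgroup.mem_subgroupOf.mp t.2
  · have := congrArg Subtype.val hdt
    simpa using this.symm

/-- `D` is abelian -/
theorem Setup.twoPt_comm (h : Setup T) {u : G} (hu : orderOf u = 2)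
    (huH : u ∉ Subgroup.normalizer ((T : Subgroup G) : Set G)) {d e : G} (hd : d ∈ twoPt T u)
    (he : e ∈ twoPt T u) : d * e = e * d := by
  obtain ⟨h1, -⟩ := h.twoPt_inverted hu huH
  have h2 := h1 (d * e) (Subgroup.mul_mem _ hd he)
  have h3 : u * (d * e) * u⁻¹ = (u * d * u⁻¹) * (u * e * u⁻¹) := by group
  rw [h3, h1 d hd, h1 e he, mul_inv_rev] at h2
  have h4 := congrArg (fun z => z⁻¹) h2
  have h5 : e * d = d * e := by simpa using h4
  exact h5.symm

theorem Setup.three_le_card_twoPt (h : Setup T) {u : G} (hu : orderOf u = 2)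
    (huH : u ∉ Subgroup.normalizer ((T : Subgroup G) : Set G)) : 3 ≤ Nat.card (twoPt T u) := by
  rw [(h.twoPt_inverted hu huH).2]
  have := h.four_le_card
  omega

/-- no element of `H` inverts `D` -/
theorem Setup.not_inverts (h : Setup T) {u : G} (hu : orderOf u = 2)
    (huH : u ∉ Subgroup.normalizer ((T : Subgroup G) : Set G)) {k : G}
    (hk : k ∈ Subgroup.normalizer ((T : Subgroup G) : Set G))
    (hinv : ∀ d ∈ twoPt T u, k * d * k⁻¹ = d⁻¹) : False := by
  obtain ⟨d₁, hd₁, t, ht, rfl⟩ := h.exists_mul_of_mem_normalizer hu huH hk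
  -- t inverts D
  have htinv : ∀ d ∈ twoPt T u, t * d * t⁻¹ = d⁻¹ := by
    intro d hd
    have h1 := hinv d hd
    have h2 : d₁ * t * d * (d₁ * t)⁻¹ = d₁ * (t * d * t⁻¹) * d₁⁻¹ := by group
    rw [h2] at h1
    have h3 : t * d * t⁻¹ = d₁⁻¹ * d⁻¹ * d₁ := by
      calc t * d * t⁻¹ = d₁⁻¹ * (d₁ * (t * d * t⁻¹) * d₁⁻¹) * d₁ := by group
        _ = d₁⁻¹ * d⁻¹ * d₁ := by rw [h1]
    rw [h3]
    have hc := h.twoPt_comm hu huH (Subgroup.inv_mem _ hd₁) (Subgroup.inv_mem _ hd)
    rw [hc]; group
  -- every element of D is trivial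
  have hall : ∀ d ∈ twoPt T u, d = 1 := by
    intro d hd
    have hdH : d ∈ Subgroup.normalizer ((T : Subgroup G) : Set G) := (Subgroup.mem_inf.mp hd).1
    have h1 : d * t⁻¹ * d⁻¹ ∈ (T : Subgroup G) := by
      rw [Subgroup.mem_normalizer_iff] at hdH
      exact (hdH t⁻¹).mp (Subgroup.inv_mem _ ht)
    have h2 : d⁻¹ * d⁻¹ ∈ (T : Subgroup G) := by
      have e : d⁻¹ * d⁻¹ = t * (d * t⁻¹ * d⁻¹) := by
        calc d⁻¹ * d⁻¹ = (t * d * t⁻¹) * d⁻¹ := by rw [htinv d hd]
          _ = t * (d * t⁻¹ * d⁻¹) := by group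
      rw [e]
      exact Subgroup.mul_mem _ ht h1
    have h3 : d⁻¹ * d⁻¹ = 1 :=
      h.twoPt_inf huH (Subgroup.mul_mem _ (Subgroup.inv_mem _ hd) (Subgroup.inv_mem _ hd)) h2
    have hodd : Odd (orderOf d⁻¹) := by
      have : orderOf (⟨d⁻¹, Subgroup.inv_mem _ hd⟩ : twoPt T u) ∣ Nat.card (twoPt T u) :=
        orderOf_dvd_natCard _
      rw [← Subgroup.orderOf_coe] at this
      exact Odd.of_dvd_nat (h.odd_card_twoPt huH) this
    have := eq_one_of_odd_of_mul_self d⁻¹ hodd h3
    simpa using this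
  have h3 := h.three_le_card_twoPt hu huH
  have : Subsingleton (twoPt T u) := ⟨fun a b => Subtype.ext ((hall a a.2).trans (hall b b.2).symm)⟩
  have h1 : Nat.card (twoPt T u) = 1 := Nat.card_eq_one_iff_unique.mpr ⟨this, ⟨1⟩⟩
  omega

end Cfsg.Agent.Lib.Helper3.ElemInv

namespace Cfsg.Agent.Lib.Helper3.ElemInv

open Cfsg.Agent.Lib.Helper1 Cfsg.Agent.Lib.Helper3 Cfsg.Agent.Lib.Helper3.StrEmb
open scoped Pointwise

variable {G : Type*} [Group G] [Finite G] {T : Sylow 2 G}

theorem mk_ne_one_iff {H : Subgroup G} (g : G) :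
    ((g : G) : G ⧸ H) ≠ ((1 : G) : G ⧸ H) ↔ g ∉ H := by
  rw [Ne, eq_comm, QuotientGroup.eq]
  simp

/-- an involution `v ∉ H` with `vH` fixed by `D` inverts `D` -/
theorem Setup.inverts_of_fixed (h : Setup T) {u : G} (hu : orderOf u = 2)
    (huH : u ∉ Subgroup.normalizer ((T : Subgroup G) : Set G)) {v : G} (hv : orderOf v = 2)
    (hvH : v ∉ Subgroup.normalizer ((T : Subgroup G) : Set G))
    (hfix : ∀ d ∈ twoPt T u, d • ((v : G) : G ⧸ Subgroup.normalizer ((T : Subgroup G) : Set G)) =
      ((v : G) : G ⧸ Subgroup.normalizer ((T : Subgroup G) : Set G))) :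
    ∀ d ∈ twoPt T u, v * d * v⁻¹ = d⁻¹ := by
  have hle : twoPt T u ≤ twoPt T v := by
    intro d hd
    refine Subgroup.mem_inf.mpr ⟨(Subgroup.mem_inf.mp hd).1, ?_⟩
    rw [mem_map_conj_iff]
    exact (smul_mk_eq_iff d v).mp (hfix d hd)
  have heq : twoPt T u = twoPt T v := by
    apply Subgroup.eq_of_le_of_card_ge hle
    rw [(h.twoPt_inverted hu huH).2, (h.twoPt_inverted hv hvH).2]
  intro d hd
  rw [heq] at hd
  exact (h.twoPt_inverted hv hvH).1 d hd

/-- existence of an involution moving the coset `H` to a given other coset -/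
theorem Setup.exists_involution_smul (h : Setup T) {g : G}
    (hg : g ∉ Subgroup.normalizer ((T : Subgroup G) : Set G)) :
    ∃ v : G, orderOf v = 2 ∧ v ∉ Subgroup.normalizer ((T : Subgroup G) : Set G) ∧
      ((v : G) : G ⧸ Subgroup.normalizer ((T : Subgroup G) : Set G)) = (g : G) := by
  have hne : ((1 : G) : G ⧸ Subgroup.normalizer ((T : Subgroup G) : Set G)) ≠ (g : G) :=
    ((mk_ne_one_iff g).mpr hg).symm
  have hcard := card_involutions_smul_eq_card h.stronglyEmbedded hne
  rw [h.card_involutions] at hcard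
  have hpos : 0 < Nat.card {i : G // orderOf i = 2 ∧
      i • ((1 : G) : G ⧸ Subgroup.normalizer ((T : Subgroup G) : Set G)) = (g : G)} := by
    rw [hcard]
    have := h.four_le_card
    omega
  obtain ⟨⟨v, hv2, hvg⟩⟩ := (Nat.card_pos_iff.mp hpos).1
  have hvg' : ((v : G) : G ⧸ Subgroup.normalizer ((T : Subgroup G) : Set G)) = (g : G) := by
    rw [← hvg, MulAction.Quotient.smul_mk, smul_eq_mul, mul_one]
  refine ⟨v, hv2, ?_, hvg'⟩
  rw [← mk_ne_one_iff, hvg']
  exact hne.symm

/-- `C_G(D) ≤ H` -/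
theorem Setup.centralizer_twoPt_le (h : Setup T) {u : G} (hu : orderOf u = 2)
    (huH : u ∉ Subgroup.normalizer ((T : Subgroup G) : Set G)) :
    Subgroup.centralizer ((twoPt T u : Subgroup G) : Set G) ≤
      Subgroup.normalizer ((T : Subgroup G) : Set G) := by
  intro c hc
  by_contra hcH
  obtain ⟨v, hv2, hvH, hvc⟩ := h.exists_involution_smul hcH
  have hfixc : ∀ d ∈ twoPt T u,
      d • ((c : G) : G ⧸ Subgroup.normalizer ((T : Subgroup G) : Set G)) = (c : G) := by
    intro d hd
    rw [MulAction.Quotient.smul_mk, smul_eq_mul, eq_comm, QuotientGroup.eq]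
    have hcomm : d * c = c * d := (Subgroup.mem_centralizer_iff.mp hc d hd)
    rw [hcomm]
    have : c⁻¹ * (c * d) = d := by group
    rw [this]
    exact (Subgroup.mem_inf.mp hd).1
  have hinv := h.inverts_of_fixed hu huH hv2 hvH (by rw [hvc]; exact hfixc)
  have hk : v⁻¹ * c ∈ Subgroup.normalizer ((T : Subgroup G) : Set G) := QuotientGroup.eq.mp hvc
  apply h.not_inverts hu huH hk
  intro d hd
  have hcomm : d * c = c * d := (Subgroup.mem_centralizer_iff.mp hc d hd)
  calc v⁻¹ * c * d * (v⁻¹ * c)⁻¹ = v⁻¹ * (c * d) * c⁻¹ * v := by group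
    _ = v⁻¹ * (d * c) * c⁻¹ * v := by rw [hcomm]
    _ = v⁻¹ * d * (v⁻¹)⁻¹ := by group
    _ = v * d * v⁻¹ := by rw [inv_inv, invol_inv hv2]
    _ = d⁻¹ := hinv d hd

/-- `D` fixes exactly the cosets `H` and `uH` -/
theorem Setup.fixed_iff (h : Setup T) {u : G} (hu : orderOf u = 2)
    (huH : u ∉ Subgroup.normalizer ((T : Subgroup G) : Set G)) (g : G) :
    (∀ d ∈ twoPt T u, d • ((g : G) : G ⧸ Subgroup.normalizer ((T : Subgroup G) : Set G)) = (g : G)) ↔
      ((g : G) : G ⧸ Subgroup.normalizer ((T : Subgroup G) : Set G)) = ((1 : G) : G ⧸ _) ∨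
      ((g : G) : G ⧸ Subgroup.normalizer ((T : Subgroup G) : Set G)) = ((u : G) : G ⧸ _) := by
  constructor
  · intro hfix
    by_cases hgH : g ∈ Subgroup.normalizer ((T : Subgroup G) : Set G)
    · left
      rw [eq_comm, QuotientGroup.eq]
      simpa using hgH
    · right
      obtain ⟨v, hv2, hvH, hvg⟩ := h.exists_involution_smul hgH
      have hinv := h.inverts_of_fixed hu huH hv2 hvH (by rw [hvg]; exact hfix)
      have huinv := (h.twoPt_inverted hu huH).1
      have hc : u * v ∈ Subgroup.centralizer ((twoPt T u : Subgroup G) : Set G) := by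
        rw [Subgroup.mem_centralizer_iff]
        intro d hd
        have h1 : u * v * d * (u * v)⁻¹ = d := by
          calc u * v * d * (u * v)⁻¹ = u * (v * d * v⁻¹) * u⁻¹ := by group
            _ = u * d⁻¹ * u⁻¹ := by rw [hinv d hd]
            _ = (d⁻¹)⁻¹ := huinv d⁻¹ (Subgroup.inv_mem _ hd)
            _ = d := inv_inv d
        calc d * (u * v) = (u * v * d * (u * v)⁻¹) * (u * v) := by rw [h1]
          _ = u * v * d := by group
      have hH := h.centralizer_twoPt_le hu huH hc
      rw [← hvg, QuotientGroup.eq]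
      have : v⁻¹ * u = (u * v)⁻¹ := by rw [mul_inv_rev, invol_inv hu]
      rw [this]
      exact Subgroup.inv_mem _ hH
  · rintro (hg | hg) d hd
    · rw [hg, smul_mk_one_eq_iff]
      exact (Subgroup.mem_inf.mp hd).1
    · rw [hg, smul_mk_eq_iff, ← mem_map_conj_iff]
      exact (Subgroup.mem_inf.mp hd).2

/-- `N_G(D) = D ⟨u⟩` -/
theorem Setup.normalizer_twoPt (h : Setup T) {u : G} (hu : orderOf u = 2)
    (huH : u ∉ Subgroup.normalizer ((T : Subgroup G) : Set G)) :
    Subgroup.normalizer ((twoPt T u : Subgroup G) : Set G) = twoPt T u ⊔ Subgroup.zpowers u := by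
  have huinv := (h.twoPt_inverted hu huH).1
  have hfix := h.fixed_iff hu huH
  -- elements of the normalizer permute the fixed cosets
  have hperm : ∀ n ∈ Subgroup.normalizer ((twoPt T u : Subgroup G) : Set G), ∀ g : G,
      (∀ d ∈ twoPt T u, d • ((g : G) : G ⧸ Subgroup.normalizer ((T : Subgroup G) : Set G)) = (g : G)) →
      ∀ d ∈ twoPt T u, d • (((n * g : G)) : G ⧸ Subgroup.normalizer ((T : Subgroup G) : Set G)) =
        ((n * g : G)) := by
    intro n hn g hg d hd
    have hn' := (Subgroup.mem_normalizer_iff.mp (Subgroup.inv_mem _ hn) d).mp hd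
    rw [inv_inv] at hn'
    have := hg _ hn'
    rw [MulAction.Quotient.smul_mk, smul_eq_mul] at this ⊢
    have e : d * (n * g) = n * (n⁻¹ * d * n * g) := by group
    rw [e, ← smul_eq_mul n, ← MulAction.Quotient.smul_mk, this, MulAction.Quotient.smul_mk,
      smul_eq_mul]
  have hone : ∀ d ∈ twoPt T u,
      d • (((1 : G)) : G ⧸ Subgroup.normalizer ((T : Subgroup G) : Set G)) = ((1 : G)) :=
    (hfix 1).mpr (Or.inl rfl)
  have hu' : ∀ d ∈ twoPt T u,
      d • (((u : G)) : G ⧸ Subgroup.normalizer ((T : Subgroup G) : Set G)) = ((u : G)) :=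
    (hfix u).mpr (Or.inr rfl)
  -- case analysis: n fixing H lies in D
  have hcase1 : ∀ n ∈ Subgroup.normalizer ((twoPt T u : Subgroup G) : Set G),
      n ∈ Subgroup.normalizer ((T : Subgroup G) : Set G) → n ∈ twoPt T u := by
    intro n hn hnH
    refine Subgroup.mem_inf.mpr ⟨hnH, ?_⟩
    rw [mem_map_conj_iff]
    have h1 := (hfix (n * u)).mp (hperm n hn u hu')
    rcases h1 with h1 | h1
    · exfalso
      rw [eq_comm, QuotientGroup.eq] at h1
      simp only [inv_one, one_mul] at h1
      apply huH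
      have : u = n⁻¹ * (n * u) := by group
      rw [this]
      exact Subgroup.mul_mem _ (Subgroup.inv_mem _ hnH) h1
    · rw [eq_comm, QuotientGroup.eq] at h1
      have : u⁻¹ * n * u = u⁻¹ * (n * u) := by group
      rw [this]; exact h1
  apply le_antisymm
  · intro n hn
    have h1 := (hfix (n * 1)).mp (hperm n hn 1 hone)
    rw [mul_one] at h1
    rcases h1 with h1 | h1
    · rw [eq_comm, QuotientGroup.eq] at h1
      simp only [inv_one, one_mul] at h1
      exact (le_sup_left : twoPt T u ≤ _) (hcase1 n hn h1)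
    · -- u n fixes H
      have hun : u * n ∈ Subgroup.normalizer ((twoPt T u : Subgroup G) : Set G) := by
        refine Subgroup.mul_mem _ ?_ hn
        rw [Subgroup.mem_normalizer_iff]
        intro d
        constructor
        · intro hd
          rw [huinv d hd]; exact Subgroup.inv_mem _ hd
        · intro hd
          have h2 := huinv _ hd
          have e : u * (u * d * u⁻¹) * u⁻¹ = d := by
            rw [invol_inv hu]
            calc u * (u * d * u) * u = (u * u) * d * (u * u) := by group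
              _ = d := by rw [invol_mul_self hu]; group
          rw [e] at h2
          have h3 : d = ((u * d * u⁻¹)⁻¹) := h2
          rw [h3]
          exact Subgroup.inv_mem _ hd
      have hunH : u * n ∈ Subgroup.normalizer ((T : Subgroup G) : Set G) := by
        rw [eq_comm, QuotientGroup.eq] at h1
        have : u * n = u⁻¹ * n := by rw [invol_inv hu]
        rw [this]; exact h1
      have h2 := hcase1 _ hun hunH
      have e : n = u * (u * n) := by
        calc n = (u * u) * n := by rw [invol_mul_self hu, one_mul]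
          _ = u * (u * n) := by group
      rw [e]
      exact Subgroup.mul_mem _ ((le_sup_right : Subgroup.zpowers u ≤ _) (Subgroup.mem_zpowers u))
        ((le_sup_left : twoPt T u ≤ _) h2)
  · apply sup_le Subgroup.le_normalizer
    rw [Subgroup.zpowers_le, Subgroup.mem_normalizer_iff]
    intro d
    constructor
    · intro hd
      rw [huinv d hd]; exact Subgroup.inv_mem _ hd
    · intro hd
      have h2 := huinv _ hd
      have e : u * (u * d * u⁻¹) * u⁻¹ = d := by
        rw [invol_inv hu]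
        calc u * (u * d * u) * u = (u * u) * d * (u * u) := by group
          _ = d := by rw [invol_mul_self hu]; group
      rw [e] at h2
      have h3 : d = ((u * d * u⁻¹)⁻¹) := h2
      rw [h3]
      exact Subgroup.inv_mem _ hd

end Cfsg.Agent.Lib.Helper3.ElemInv
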