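import Mathlib
import Cfsg.Agent.Lib.Helper3.ElemInv3

set_option autoImplicit false

/-!
`T` acts regularly on the cosets other than `H`; `G` is sharply triply transitive on `G ⧸ H`.
-/

namespace Cfsg.Agent.Lib.Helper3.ElemInv

open Cfsg.Agent.Lib.Helper1 Cfsg.Agent.Lib.Helper3 Cfsg.Agent.Lib.Helper3.StrEmb
open scoped Pointwise

variable {G : Type*} [Group G] [Finite G] {T : Sylow 2 G}

/-- `D` acts freely on `T` -/
theorem Setup.free_T (h : Setup T) {u : G}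
    (huH : u ∉ Subgroup.normalizer ((T : Subgroup G) : Set G)) {d t : G} (hd : d ∈ twoPt T u)
    (ht : t ∈ (T : Subgroup G)) (hcomm : d * t = t * d) : d = 1 ∨ t = 1 := by
  by_cases ht1 : t = 1
  · exact Or.inr ht1
  · left
    have ht2 := h.orderOf_eq_two ht ht1
    have hdc : d ∈ Subgroup.centralizer ({t} : Set G) := by
      rw [Subgroup.mem_centralizer_singleton_iff]; exact hcomm
    rw [h.centralizer_eq ht ht2] at hdc
    exact h.twoPt_inf huH hd hdc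

/-- every element `d t` with `1 ≠ d ∈ D`, `t ∈ T` is `T`-conjugate to `d` -/
theorem Setup.exists_conj_T (h : Setup T) {u : G}
    (huH : u ∉ Subgroup.normalizer ((T : Subgroup G) : Set G)) {d t : G} (hd : d ∈ twoPt T u)
    (hd1 : d ≠ 1) (ht : t ∈ (T : Subgroup G)) : ∃ s ∈ (T : Subgroup G), s * d * s⁻¹ = d * t := by
  have hdH : d ∈ Subgroup.normalizer ((T : Subgroup G) : Set G) := (Subgroup.mem_inf.mp hd).1
  have hconj : ∀ s ∈ (T : Subgroup G), d⁻¹ * s * d ∈ (T : Subgroup G) := by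
    intro s hs
    have := (Subgroup.mem_normalizer_iff.mp (Subgroup.inv_mem _ hdH) s).mp hs
    simpa using this
  let φ : ↥(T : Subgroup G) → ↥(T : Subgroup G) := fun s =>
    ⟨d⁻¹ * s.1 * d * s.1⁻¹, Subgroup.mul_mem _ (hconj s.1 s.2) (Subgroup.inv_mem _ s.2)⟩
  have hφ : Function.Injective φ := by
    intro s s' hss
    have e : d⁻¹ * s.1 * d * s.1⁻¹ = d⁻¹ * s'.1 * d * s'.1⁻¹ := congrArg Subtype.val hss
    have hc : d * (s'.1⁻¹ * s.1) = (s'.1⁻¹ * s.1) * d := by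
      have e2 : s.1 * d * s.1⁻¹ = s'.1 * d * s'.1⁻¹ := by
        calc s.1 * d * s.1⁻¹ = d * (d⁻¹ * s.1 * d * s.1⁻¹) := by group
          _ = d * (d⁻¹ * s'.1 * d * s'.1⁻¹) := by rw [e]
          _ = s'.1 * d * s'.1⁻¹ := by group
      calc d * (s'.1⁻¹ * s.1) = s'.1⁻¹ * (s'.1 * d * s'.1⁻¹) * s.1 := by group
        _ = s'.1⁻¹ * (s.1 * d * s.1⁻¹) * s.1 := by rw [e2]
        _ = (s'.1⁻¹ * s.1) * d := by group
    rcases h.free_T huH hd (Subgroup.mul_mem _ (Subgroup.inv_mem _ s'.2) s.2) hc with h1 | h1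
    · exact (hd1 h1).elim
    · apply Subtype.ext
      calc s.1 = s'.1 * (s'.1⁻¹ * s.1) := by group
        _ = s'.1 := by rw [h1, mul_one]
  obtain ⟨s, hs⟩ := Finite.surjective_of_injective hφ ⟨t, ht⟩
  refine ⟨s.1, s.2, ?_⟩
  have e : d⁻¹ * s.1 * d * s.1⁻¹ = t := congrArg Subtype.val hs
  calc s.1 * d * s.1⁻¹ = d * (d⁻¹ * s.1 * d * s.1⁻¹) := by group
    _ = d * t := by rw [e]

/-- `C_H(d) ≤ D` for `1 ≠ d ∈ D` -/
theorem Setup.mem_twoPt_of_commute (h : Setup T) {u : G} (hu : orderOf u = 2)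
    (huH : u ∉ Subgroup.normalizer ((T : Subgroup G) : Set G)) {d c : G} (hd : d ∈ twoPt T u)
    (hd1 : d ≠ 1) (hc : c ∈ Subgroup.normalizer ((T : Subgroup G) : Set G))
    (hcomm : c * d = d * c) : c ∈ twoPt T u := by
  obtain ⟨d₁, hd₁, t₁, ht₁, rfl⟩ := h.exists_mul_of_mem_normalizer hu huH hc
  have h1 : d * t₁ = t₁ * d := by
    have hdd := h.twoPt_comm hu huH hd₁ hd
    calc d * t₁ = d₁⁻¹ * (d₁ * d) * t₁ := by group
      _ = d₁⁻¹ * (d * d₁) * t₁ := by rw [hdd]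
      _ = d₁⁻¹ * (d * (d₁ * t₁)) := by group
      _ = d₁⁻¹ * ((d₁ * t₁) * d) := by rw [hcomm]
      _ = t₁ * d := by group
  rcases h.free_T huH hd ht₁ h1 with h2 | h2
  · exact (hd1 h2).elim
  · rw [h2, mul_one]; exact hd₁

end Cfsg.Agent.Lib.Helper3.ElemInv
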