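import Mathlib
import Cfsg.Agent.Lib.Helper3.ElemInv4

set_option autoImplicit false

/-!
`T` acts regularly on the cosets other than `H`; `G` is sharply triply transitive on `G ⧸ H`.
-/

namespace Cfsg.Agent.Lib.Helper3.ElemInv

open Cfsg.Agent.Lib.Helper1 Cfsg.Agent.Lib.Helper3 Cfsg.Agent.Lib.Helper3.StrEmb
open scoped Pointwise

variable {G : Type*} [Group G] [Finite G] {T : Sylow 2 G}

local notation "NT" => Subgroup.normalizer ((T : Subgroup G) : Set G)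

/-- every coset other than `H` is `s • uH` for some `s ∈ T` -/
theorem Setup.exists_smul_mk (h : Setup T) {u : G} (hu : orderOf u = 2)
    (huH : u ∉ NT) {z : G ⧸ NT} (hz : z ≠ ((1 : G) : G ⧸ NT)) :
    ∃ s ∈ (T : Subgroup G), s • ((u : G) : G ⧸ NT) = z := by
  obtain ⟨g, rfl⟩ := QuotientGroup.mk_surjective z
  have hgH : g ∉ NT := (mk_ne_one_iff g).mp hz
  obtain ⟨v, hv2, hvH, hvg⟩ := h.exists_involution_smul hgH
  rw [← hvg]
  -- pick d' ≠ 1 in D_v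
  have h3 := h.three_le_card_twoPt hv2 hvH
  obtain ⟨d', hd'1⟩ : ∃ d' : twoPt T v, d' ≠ 1 := by
    by_contra hall
    push Not at hall
    have : Subsingleton (twoPt T v) := ⟨fun a b => (hall a).trans (hall b).symm⟩
    have h1 : Nat.card (twoPt T v) = 1 := Nat.card_eq_one_iff_unique.mpr ⟨this, ⟨1⟩⟩
    omega
  have hd'H : d'.1 ∈ NT := (Subgroup.mem_inf.mp d'.2).1
  obtain ⟨d, hd, t, ht, hdt⟩ := h.exists_mul_of_mem_normalizer hu huH hd'H
  have hd1 : d ≠ 1 := by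
    rintro rfl
    rw [one_mul] at hdt
    apply hd'1
    apply Subtype.ext
    exact h.twoPt_inf hvH d'.2 (hdt ▸ ht)
  obtain ⟨s, hs, hsd⟩ := h.exists_conj_T huH hd hd1 ht
  refine ⟨s, hs, ?_⟩
  have hsH : s ∈ NT := Subgroup.le_normalizer hs
  -- D fixes s⁻¹ • vH
  have hfix : ∀ e ∈ twoPt T u, e • (((s⁻¹ * v : G)) : G ⧸ NT) = ((s⁻¹ * v : G)) := by
    intro e he
    have hc : s * e * s⁻¹ ∈ twoPt T v := by
      apply h.mem_twoPt_of_commute hv2 hvH d'.2 (fun h1 => hd'1 (Subtype.ext h1))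
      · exact Subgroup.mul_mem _ (Subgroup.mul_mem _ hsH (Subgroup.mem_inf.mp he).1)
          (Subgroup.inv_mem _ hsH)
      · rw [hdt, ← hsd]
        have hed := h.twoPt_comm hu huH he hd
        calc s * e * s⁻¹ * (s * d * s⁻¹) = s * (e * d) * s⁻¹ := by group
          _ = s * (d * e) * s⁻¹ := by rw [hed]
          _ = s * d * s⁻¹ * (s * e * s⁻¹) := by group
    have h1 : (s * e * s⁻¹) • ((v : G) : G ⧸ NT) = (v : G) := by
      rw [smul_mk_eq_iff, ← mem_map_conj_iff]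
      exact (Subgroup.mem_inf.mp hc).2
    calc e • (((s⁻¹ * v : G)) : G ⧸ NT) = s⁻¹ • ((s * e * s⁻¹) • ((v : G) : G ⧸ NT)) := by
          simp only [MulAction.Quotient.smul_mk, smul_eq_mul]; congr 1; group
      _ = ((s⁻¹ * v : G)) := by rw [h1, MulAction.Quotient.smul_mk, smul_eq_mul]
  rcases (h.fixed_iff hu huH (s⁻¹ * v)).mp hfix with h1 | h1
  · exfalso
    rw [eq_comm, QuotientGroup.eq] at h1
    simp only [inv_one, one_mul] at h1
    apply hvH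
    have : v = s * (s⁻¹ * v) := by group
    rw [this]; exact Subgroup.mul_mem _ hsH h1
  · rw [← h1, MulAction.Quotient.smul_mk, smul_eq_mul]; congr 1; group

/-- an element of `T` fixing a coset other than `H` is trivial -/
theorem Setup.eq_one_of_smul_eq (h : Setup T) {t : G} (ht : t ∈ (T : Subgroup G)) {x : G ⧸ NT}
    (hx : x ≠ ((1 : G) : G ⧸ NT)) (hfix : t • x = x) : t = 1 := by
  by_contra ht1
  have ht2 := h.orderOf_eq_two ht ht1
  have h1 : t • ((1 : G) : G ⧸ NT) = ((1 : G) : G ⧸ NT) :=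
    (smul_mk_one_eq_iff t).mpr (Subgroup.le_normalizer ht)
  exact hx (fixed_unique h.stronglyEmbedded ht2 hfix h1)

/-- `T` is regular on the cosets other than `H` -/
theorem Setup.existsUnique_smul (h : Setup T) {x y : G ⧸ NT} (hx : x ≠ ((1 : G) : G ⧸ NT))
    (hy : y ≠ ((1 : G) : G ⧸ NT)) : ∃! t : G, t ∈ T ∧ t • x = y := by
  obtain ⟨u, hu, huH⟩ := h.exists_involution_notMem
  obtain ⟨s, hs, rfl⟩ := h.exists_smul_mk hu huH hx
  obtain ⟨s', hs', rfl⟩ := h.exists_smul_mk hu huH hy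
  refine ⟨s' * s⁻¹, ⟨Subgroup.mul_mem _ hs' (Subgroup.inv_mem _ hs), ?_⟩, ?_⟩
  · rw [← mul_smul]; congr 1; group
  · rintro t ⟨ht, hteq⟩
    have h0 : (s'⁻¹ * t * s) • ((u : G) : G ⧸ NT) = ((u : G) : G ⧸ NT) := by
      rw [mul_smul, mul_smul, hteq, ← mul_smul, inv_mul_cancel, one_smul]
    have h1 := h.eq_one_of_smul_eq
      (Subgroup.mul_mem _ (Subgroup.mul_mem _ (Subgroup.inv_mem _ hs') ht) hs)
      ((mk_ne_one_iff u).mpr huH) h0
    calc t = s' * (s'⁻¹ * t * s) * s⁻¹ := by group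
      _ = s' * s⁻¹ := by rw [h1, mul_one]

/-- `D` is transitive on the cosets other than `H`, `uH` -/
theorem Setup.exists_twoPt_smul (h : Setup T) {u : G} (hu : orderOf u = 2) (huH : u ∉ NT)
    {x y : G ⧸ NT} (hx1 : x ≠ ((1 : G) : G ⧸ NT)) (hxu : x ≠ ((u : G) : G ⧸ NT))
    (hy1 : y ≠ ((1 : G) : G ⧸ NT)) (hyu : y ≠ ((u : G) : G ⧸ NT)) :
    ∃ d ∈ twoPt T u, d • x = y := by
  obtain ⟨s, hs, rfl⟩ := h.exists_smul_mk hu huH hx1
  obtain ⟨s', hs', rfl⟩ := h.exists_smul_mk hu huH hy1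
  have hs1 : s ≠ 1 := by rintro rfl; exact hxu (one_smul _ _)
  have hs'1 : s' ≠ 1 := by rintro rfl; exact hyu (one_smul _ _)
  obtain ⟨d, hd, hdc⟩ := exists_conj_mem_inf h.stronglyEmbedded hu huH (h.orderOf_eq_two hs hs1)
    (Subgroup.le_normalizer hs) (h.orderOf_eq_two hs' hs'1) (Subgroup.le_normalizer hs')
  refine ⟨d, hd, ?_⟩
  have hdu : d • ((u : G) : G ⧸ NT) = ((u : G) : G ⧸ NT) :=
    (h.fixed_iff hu huH u).mpr (Or.inr rfl) d hd
  calc d • s • ((u : G) : G ⧸ NT) = (d * s * d⁻¹) • d • ((u : G) : G ⧸ NT) := by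
        simp only [← mul_smul]; congr 1; group
    _ = s' • ((u : G) : G ⧸ NT) := by rw [hdc, hdu]

/-- any two distinct cosets can be moved to `H`, `uH` -/
theorem Setup.exists_smul_pair (h : Setup T) {u : G} (hu : orderOf u = 2) (huH : u ∉ NT)
    {x₁ x₂ : G ⧸ NT} (h12 : x₁ ≠ x₂) :
    ∃ g : G, g • x₁ = ((1 : G) : G ⧸ NT) ∧ g • x₂ = ((u : G) : G ⧸ NT) := by
  obtain ⟨g₁, rfl⟩ := QuotientGroup.mk_surjective x₁
  have hne : g₁⁻¹ • x₂ ≠ ((1 : G) : G ⧸ NT) := by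
    intro h1
    apply h12
    have : x₂ = g₁ • (g₁⁻¹ • x₂) := by rw [smul_inv_smul]
    rw [this, h1, MulAction.Quotient.smul_mk, smul_eq_mul, mul_one]
  obtain ⟨s, hs, hsx⟩ := h.exists_smul_mk hu huH hne
  refine ⟨s⁻¹ * g₁⁻¹, ?_, ?_⟩
  · rw [MulAction.Quotient.smul_mk, smul_eq_mul, QuotientGroup.eq]
    have : (s⁻¹ * g₁⁻¹ * g₁)⁻¹ * 1 = s := by group
    rw [this]; exact Subgroup.le_normalizer hs
  · rw [mul_smul, ← hsx, inv_smul_smul]

/-- `G` is triply transitive on `G ⧸ H` -/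
theorem Setup.triply_transitive (h : Setup T) (x₁ x₂ x₃ y₁ y₂ y₃ : G ⧸ NT)
    (hx12 : x₁ ≠ x₂) (hx13 : x₁ ≠ x₃) (hx23 : x₂ ≠ x₃) (hy12 : y₁ ≠ y₂) (hy13 : y₁ ≠ y₃)
    (hy23 : y₂ ≠ y₃) : ∃ g : G, g • x₁ = y₁ ∧ g • x₂ = y₂ ∧ g • x₃ = y₃ := by
  obtain ⟨u, hu, huH⟩ := h.exists_involution_notMem
  obtain ⟨a, ha1, ha2⟩ := h.exists_smul_pair hu huH hx12
  obtain ⟨b, hb1, hb2⟩ := h.exists_smul_pair hu huH hy12
  have hax1 : a • x₃ ≠ ((1 : G) : G ⧸ NT) := by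
    rw [← ha1]; intro hh; exact hx13 (smul_left_cancel a hh).symm
  have haxu : a • x₃ ≠ ((u : G) : G ⧸ NT) := by
    rw [← ha2]; intro hh; exact hx23 (smul_left_cancel a hh).symm
  have hby1 : b • y₃ ≠ ((1 : G) : G ⧸ NT) := by
    rw [← hb1]; intro hh; exact hy13 (smul_left_cancel b hh).symm
  have hbyu : b • y₃ ≠ ((u : G) : G ⧸ NT) := by
    rw [← hb2]; intro hh; exact hy23 (smul_left_cancel b hh).symm
  obtain ⟨d, hd, hdx⟩ := h.exists_twoPt_smul hu huH hax1 haxu hby1 hbyu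
  have hd1 : d • ((1 : G) : G ⧸ NT) = ((1 : G) : G ⧸ NT) :=
    (h.fixed_iff hu huH 1).mpr (Or.inl rfl) d hd
  have hdu : d • ((u : G) : G ⧸ NT) = ((u : G) : G ⧸ NT) :=
    (h.fixed_iff hu huH u).mpr (Or.inr rfl) d hd
  refine ⟨b⁻¹ * d * a, ?_, ?_, ?_⟩
  · rw [mul_smul, mul_smul, ha1, hd1, ← hb1, inv_smul_smul]
  · rw [mul_smul, mul_smul, ha2, hdu, ← hb2, inv_smul_smul]
  · rw [mul_smul, mul_smul, hdx, inv_smul_smul]

/-- an element fixing three cosets is trivial -/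
theorem Setup.eq_one_of_fix_three (h : Setup T) (g : G) (x₁ x₂ x₃ : G ⧸ NT)
    (hx12 : x₁ ≠ x₂) (hx13 : x₁ ≠ x₃) (hx23 : x₂ ≠ x₃) (hg1 : g • x₁ = x₁) (hg2 : g • x₂ = x₂)
    (hg3 : g • x₃ = x₃) : g = 1 := by
  obtain ⟨u, hu, huH⟩ := h.exists_involution_notMem
  obtain ⟨a, ha1, ha2⟩ := h.exists_smul_pair hu huH hx12
  have hax1 : a • x₃ ≠ ((1 : G) : G ⧸ NT) := by
    rw [← ha1]; intro hh; exact hx13 (smul_left_cancel a hh).symm
  have haxu : a • x₃ ≠ ((u : G) : G ⧸ NT) := by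
    rw [← ha2]; intro hh; exact hx23 (smul_left_cancel a hh).symm
  have key : ∀ x : G ⧸ NT, g • x = x → (a * g * a⁻¹) • (a • x) = a • x := by
    intro x hx
    rw [← mul_smul]
    have : a * g * a⁻¹ * a = a * g := by group
    rw [this, mul_smul, hx]
  have hg'1 := key x₁ hg1
  have hg'u := key x₂ hg2
  have hg'3 := key x₃ hg3
  rw [ha1] at hg'1
  rw [ha2] at hg'u
  obtain ⟨g', hg'⟩ : ∃ g' : G, g' = a * g * a⁻¹ := ⟨_, rfl⟩
  rw [← hg'] at hg'1 hg'u hg'3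
  have hg'H : g' ∈ NT := (smul_mk_one_eq_iff g').mp hg'1
  have hg'D : g' ∈ twoPt T u :=
    Subgroup.mem_inf.mpr ⟨hg'H, (mem_map_conj_iff _ u g').mpr ((smul_mk_eq_iff g' u).mp hg'u)⟩
  obtain ⟨t, ht, htx⟩ := h.exists_smul_mk hu huH hax1
  have ht1 : t ≠ 1 := by
    rintro rfl
    rw [one_smul] at htx
    exact haxu htx.symm
  have hconj : g' * t * g'⁻¹ ∈ (T : Subgroup G) := (Subgroup.mem_normalizer_iff.mp hg'H t).mp ht
  have h0 : (g' * t * g'⁻¹) • ((u : G) : G ⧸ NT) = t • ((u : G) : G ⧸ NT) := by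
    have hinv : g'⁻¹ • ((u : G) : G ⧸ NT) = ((u : G) : G ⧸ NT) := by
      rw [inv_smul_eq_iff, hg'u]
    rw [mul_smul, mul_smul, hinv, htx, hg'3]
  have h1 : t⁻¹ * (g' * t * g'⁻¹) = 1 :=
    h.eq_one_of_smul_eq (Subgroup.mul_mem _ (Subgroup.inv_mem _ ht) hconj)
      ((mk_ne_one_iff u).mpr huH) (by rw [mul_smul, h0, inv_smul_smul])
  have hcomm : g' * t = t * g' := by
    have h2 : g' * t * g'⁻¹ = t := by
      calc g' * t * g'⁻¹ = t * (t⁻¹ * (g' * t * g'⁻¹)) := by group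
        _ = t := by rw [h1, mul_one]
    calc g' * t = (g' * t * g'⁻¹) * g' := by group
      _ = t * g' := by rw [h2]
  rcases h.free_T huH hg'D ht hcomm with h2 | h2
  · have h3 : g = a⁻¹ * g' * a := by rw [hg']; group
    rw [h3, h2]; group
  · exact (ht1 h2).elim

end Cfsg.Agent.Lib.Helper3.ElemInv
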