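import Mathlib
import Cfsg.Agent.Lib.Helper3.ElemInv5
import Cfsg.Agent.S0727

set_option autoImplicit false
set_option linter.style.haveILetI false

/-!
Groups in which the centralizer of every involution is an elementary abelian 2-group are
`PSL₂(F)`: the identification, through the sharply triply transitive action on `G ⧸ N_G(T)`.
-/

namespace Cfsg.Agent.Lib.Helper3.ElemInv

open Cfsg.Agent.Lib.Helper1 Cfsg.Agent.Lib.Helper3 Cfsg.Agent.Lib.Helper3.StrEmb
open scoped Pointwise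

/-- `PGL₂ ≃ PSL₂` over a finite field with `2 ^ f` elements -/
theorem nonempty_pgl_equiv_psl {F : Type*} [Field F] [Fintype F] {f : ℕ} (hf : 1 ≤ f)
    (hF : Fintype.card F = 2 ^ f) :
    Nonempty (Matrix.ProjGenLinGroup (Fin 2) F ≃* Matrix.ProjectiveSpecialLinearGroup (Fin 2) F) := by
  classical
  refine ⟨(MulEquiv.ofBijective Matrix.ProjectiveSpecialLinearGroup.toPGL
    ⟨Matrix.ProjectiveSpecialLinearGroup.toPGL_injective,
      Matrix.ProjectiveSpecialLinearGroup.toPGL_surj_of_roots ?_⟩).symm⟩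
  intro r
  refine ⟨r ^ (2 ^ (f - 1)), ?_⟩
  rw [Fintype.card_fin, ← pow_mul, ← pow_succ]
  have h1 : f - 1 + 1 = f := by omega
  rw [h1]
  have h2 : r ^ (Fintype.card Fˣ) = 1 := pow_card_eq_one
  rw [Fintype.card_units, hF] at h2
  have h3 : 2 ^ f = (2 ^ f - 1) + 1 := by
    have : 1 ≤ 2 ^ f := Nat.one_le_two_pow
    omega
  rw [h3, pow_succ, h2, one_mul]

variable {G : Type*} [Group G] [Finite G] {T : Sylow 2 G}

local notation "NT" => Subgroup.normalizer ((T : Subgroup G) : Set G)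

/-- the number of cosets of `H = N_G(T)` -/
theorem Setup.card_quotient (h : Setup T) :
    Nat.card (G ⧸ NT) = Nat.card (T : Subgroup G) + 1 := by
  classical
  haveI : Fintype (G ⧸ NT) := Fintype.ofFinite _
  obtain ⟨u, hu, huH⟩ := h.exists_involution_notMem
  have hune : ((u : G) : G ⧸ NT) ≠ ((1 : G) : G ⧸ NT) := (mk_ne_one_iff u).mpr huH
  have hne : ∀ t : (T : Subgroup G), (t : G) • ((u : G) : G ⧸ NT) ≠ ((1 : G) : G ⧸ NT) := by
    intro t hh
    apply hune
    have h1 : ((t : G))⁻¹ • ((1 : G) : G ⧸ NT) = ((1 : G) : G ⧸ NT) :=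
      (smul_mk_one_eq_iff _).mpr (Subgroup.le_normalizer (Subgroup.inv_mem _ t.2))
    rw [← h1, ← hh, inv_smul_smul]
  have hbij : Function.Bijective (fun t : (T : Subgroup G) =>
      (⟨(t : G) • ((u : G) : G ⧸ NT), hne t⟩ : {x : G ⧸ NT // x ≠ ((1 : G) : G ⧸ NT)})) := by
    constructor
    · intro t t' htt
      have h1 : (t : G) • ((u : G) : G ⧸ NT) = (t' : G) • ((u : G) : G ⧸ NT) :=
        congrArg Subtype.val htt
      obtain ⟨s, -, hs⟩ := h.existsUnique_smul hune (hne t')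
      have e1 := hs (t : G) ⟨t.2, h1⟩
      have e2 := hs (t' : G) ⟨t'.2, rfl⟩
      exact Subtype.ext (e1.trans e2.symm)
    · rintro ⟨x, hx⟩
      obtain ⟨s, ⟨hs, hsx⟩, -⟩ := h.existsUnique_smul hune hx
      exact ⟨⟨s, hs⟩, Subtype.ext hsx⟩
  have h1 := Nat.card_congr (Equiv.ofBijective _ hbij)
  rw [h1, Nat.card_eq_fintype_card, Nat.card_eq_fintype_card, Fintype.card_subtype_compl,
    Fintype.card_subtype_eq]
  have : 1 ≤ Fintype.card (G ⧸ NT) := Fintype.card_pos_iff.mpr ⟨((1 : G) : G ⧸ NT)⟩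
  omega

/-- the identification with `PSL₂` -/
theorem Setup.exists_equiv_psl (h : Setup T) :
    ∃ (F : Type) (_ : Field F) (_ : Fintype F), Fintype.card F = Nat.card (T : Subgroup G) ∧
      Nonempty (G ≃* Matrix.ProjectiveSpecialLinearGroup (Fin 2) F) := by
  classical
  haveI : Fintype (G ⧸ NT) := Fintype.ofFinite _
  haveI : Fact (Nat.Prime 2) := ⟨Nat.prime_two⟩
  obtain ⟨f, hf⟩ := (T.isPGroup').exists_card_eq
  have h4 := h.four_le_card
  have hf1 : 1 ≤ f := by
    rcases f with _ | f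
    · rw [hf, pow_zero] at h4; omega
    · omega
  have hX : Fintype.card (G ⧸ NT) = 2 ^ f + 1 := by
    rw [← Nat.card_eq_fintype_card, h.card_quotient, hf]
  -- three distinct points
  have h3 : 2 < Fintype.card (G ⧸ NT) := by
    rw [hX]
    have : 2 ≤ 2 ^ f := by
      calc 2 = 2 ^ 1 := (pow_one 2).symm
        _ ≤ 2 ^ f := Nat.pow_le_pow_right (by norm_num) hf1
    omega
  obtain ⟨a, b, c, hab, hac, hbc⟩ := Fintype.two_lt_card_iff.mp h3
  have hφ : Function.Injective (MulAction.toPermHom G (G ⧸ NT)) := by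
    rw [injective_iff_map_eq_one]
    intro g hg
    have hfix : ∀ x : G ⧸ NT, g • x = x := by
      intro x
      have := congrArg (fun σ : Equiv.Perm (G ⧸ NT) => σ x) hg
      simpa using this
    exact h.eq_one_of_fix_three g a b c hab hac hbc (hfix a) (hfix b) (hfix c)
  have h3t : MulAction.IsMultiplyPretransitive (MulAction.toPermHom G (G ⧸ NT)).range
      (G ⧸ NT) 3 := by
    rw [MulAction.isMultiplyPretransitive_iff]
    intro x y
    have hx : ∀ i j : Fin 3, i ≠ j → x i ≠ x j := fun i j hij hh => hij (x.injective hh)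
    have hy : ∀ i j : Fin 3, i ≠ j → y i ≠ y j := fun i j hij hh => hij (y.injective hh)
    obtain ⟨g, hg0, hg1, hg2⟩ := h.triply_transitive (x 0) (x 1) (x 2) (y 0) (y 1) (y 2)
      (hx 0 1 (by decide)) (hx 0 2 (by decide)) (hx 1 2 (by decide))
      (hy 0 1 (by decide)) (hy 0 2 (by decide)) (hy 1 2 (by decide))
    refine ⟨⟨MulAction.toPermHom G (G ⧸ NT) g, g, rfl⟩, ?_⟩
    ext i
    fin_cases i
    · exact hg0
    · exact hg1
    · exact hg2
  have hsharp : ∀ x : Fin 3 ↪ (G ⧸ NT),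
      MulAction.stabilizer (MulAction.toPermHom G (G ⧸ NT)).range x = ⊥ := by
    intro x
    rw [eq_bot_iff]
    rintro ⟨σ, g, rfl⟩ hσ
    rw [MulAction.mem_stabilizer_iff] at hσ
    have hx : ∀ i j : Fin 3, i ≠ j → x i ≠ x j := fun i j hij hh => hij (x.injective hh)
    have hfix : ∀ i : Fin 3, g • x i = x i := by
      intro i
      have := congrArg (fun z : Fin 3 ↪ (G ⧸ NT) => z i) hσ
      exact this
    have hg1 := h.eq_one_of_fix_three g (x 0) (x 1) (x 2) (hx 0 1 (by decide))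
      (hx 0 2 (by decide)) (hx 1 2 (by decide)) (hfix 0) (hfix 1) (hfix 2)
    rw [Subgroup.mem_bot]
    apply Subtype.ext
    show MulAction.toPermHom G (G ⧸ NT) g = 1
    rw [hg1, map_one]
  obtain ⟨F, iF, iFt, hFcard, ⟨e⟩⟩ := Cfsg.Agent.S0727.result hf1 hX
    (MulAction.toPermHom G (G ⧸ NT)).range h3t hsharp
  obtain ⟨e'⟩ := nonempty_pgl_equiv_psl hf1 hFcard
  exact ⟨F, iF, iFt, by rw [hFcard, hf], ⟨((MonoidHom.ofInjective hφ).trans e).trans e'⟩⟩

end Cfsg.Agent.Lib.Helper3.ElemInv
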