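import Mathlib


set_option autoImplicit false

namespace Cfsg.Agent.Lib.Helper3

/-- A subgroup of prime order is generated by each of its non-identity elements. -/
theorem zpowers_eq_of_card_prime {G : Type*} [Group G] {p : ℕ} (hp : p.Prime) (Q : Subgroup G)
    (hQ : Nat.card ↥Q = p) {w : G} (hw : w ∈ Q) (hw1 : w ≠ 1) : Subgroup.zpowers w = Q := by
  have hfin : Finite ↥Q := Nat.finite_of_card_ne_zero (by rw [hQ]; exact hp.ne_zero)
  apply Subgroup.eq_of_le_of_card_ge
  · rw [Subgroup.zpowers_le]; exact hw
  · rw [hQ, Nat.card_zpowers]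
    have hdvd : orderOf w ∣ p := by
      rw [← hQ]
      have := orderOf_dvd_natCard (⟨w, hw⟩ : ↥Q)
      rwa [Subgroup.orderOf_mk] at this
    rcases (Nat.dvd_prime hp).mp hdvd with h | h
    · exact absurd (orderOf_eq_one_iff.mp h) hw1
    · rw [h]

/-- In a subgroup of prime order, the centralizer of a non-identity element equals that of a
generator. -/
theorem centralizer_eq_of_mem_zpowers_prime {G : Type*} [Group G] {p : ℕ} (hp : p.Prime) (z w : G)
    (hz : orderOf z = p) (hw : w ∈ Subgroup.zpowers z) (hw1 : w ≠ 1) :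
    Subgroup.centralizer ({w} : Set G) = Subgroup.centralizer ({z} : Set G) := by
  have h1 : Subgroup.zpowers w = Subgroup.zpowers z :=
    zpowers_eq_of_card_prime hp _ (by rw [Nat.card_zpowers, hz]) hw hw1
  rw [← Subgroup.centralizer_closure ({w} : Set G), ← Subgroup.centralizer_closure ({z} : Set G),
    ← Subgroup.zpowers_eq_closure, ← Subgroup.zpowers_eq_closure, h1]

end Cfsg.Agent.Lib.Helper3
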