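import Mathlib
import Cfsg.Agent.Lib.Helper1.C2Max_B0
import Cfsg.Agent.Lib.Helper5.C2Max_A

set_option autoImplicit false

/-!
# S5634 PK-B4: two aligned blocks give a cross-block elementary transvection, by three conjugations
with diagonal matrices.
-/

namespace Cfsg.Agent.Lib.Helper6.C2Max

open Matrix Cfsg.Agent.H9SLRoot

variable {F : Type*} [Field F] [Fintype F]

namespace PkB

set_option linter.unusedSectionVars false

variable {ι : Type*} [Fintype ι] [DecidableEq ι]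

/-- the diagonal of the torus element `diag (l at p, l⁻¹ at q)` -/
def dvec (p q : ι) (l : F) : ι → F := fun r => if r = p then l else if r = q then l⁻¹ else 1

theorem dvec_prod {p q : ι} (hpq : p ≠ q) {l : F} (hl : l ≠ 0) : ∏ r, dvec p q l r = 1 := by
  rw [Fintype.prod_eq_mul p q hpq (fun x hx => by simp [dvec, hx.1, hx.2])]
  simp [dvec, Ne.symm hpq, mul_inv_cancel₀ hl]

theorem dvec_ne_zero (p q : ι) {l : F} (hl : l ≠ 0) (r : ι) : dvec p q l r ≠ 0 := by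
  unfold dvec
  split_ifs
  · exact hl
  · exact inv_ne_zero hl
  · exact one_ne_zero

/-- conjugation of a transvection by a diagonal matrix -/
theorem diagSL_conj_tv (δ : ι → F) (hδ : ∏ r, δ r = 1) (hδ0 : ∀ r, δ r ≠ 0) (x φ : ι → F)
    (c : F) :
    diagSL δ hδ * tv x φ c * (diagSL δ hδ)⁻¹ =
      tv (fun r => δ r * x r) (fun r => φ r * (δ r)⁻¹) c := by
  have hδ' : ∏ r, (δ r)⁻¹ = 1 := by rw [Finset.prod_inv_distrib, hδ, inv_one]
  have hinv : (diagSL δ hδ)⁻¹ = diagSL (fun r => (δ r)⁻¹) hδ' := by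
    apply inv_eq_of_mul_eq_one_right
    apply Subtype.ext
    show Matrix.diagonal δ * Matrix.diagonal (fun r => (δ r)⁻¹) = 1
    rw [Matrix.diagonal_mul_diagonal]
    have : (fun i => δ i * (δ i)⁻¹) = fun _ => (1 : F) := by
      funext i
      exact mul_inv_cancel₀ (hδ0 i)
    rw [this, Matrix.diagonal_one]
  rw [tv_conj, hinv]
  congr 1
  · funext r
    exact Matrix.mulVec_diagonal δ x r
  · funext r
    exact Matrix.vecMul_diagonal φ (fun r => (δ r)⁻¹) r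

/-- conjugation of a transvection by `diag (l at p, l⁻¹ at q)` -/
theorem dvec_conj_tv {p q : ι} (hpq : p ≠ q) {l : F} (hl : l ≠ 0) (x φ : ι → F) (c : F)
    (hxq : x q = 0) (hφp : φ p = 0) :
    diagSL (dvec p q l) (dvec_prod hpq hl) * tv x φ c * (diagSL (dvec p q l) (dvec_prod hpq hl))⁻¹ =
      tv (x + Pi.single p ((l - 1) * x p)) (φ + Pi.single q ((l - 1) * φ q)) c := by
  rw [diagSL_conj_tv _ _ (dvec_ne_zero p q hl)]
  congr 1
  · funext r
    rw [Pi.add_apply]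
    by_cases hrp : r = p
    · subst hrp
      simp only [dvec, if_true, Pi.single_eq_same]
      ring
    · by_cases hrq : r = q
      · subst hrq
        rw [Pi.single_eq_of_ne hrp, hxq, mul_zero, add_zero]
      · simp only [dvec, if_neg hrp, if_neg hrq, Pi.single_eq_of_ne hrp]
        ring
  · funext r
    rw [Pi.add_apply]
    by_cases hrq : r = q
    · subst hrq
      simp only [dvec, if_neg (Ne.symm hpq), if_true, Pi.single_eq_same, inv_inv]
      ring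
    · by_cases hrp : r = p
      · subst hrp
        rw [Pi.single_eq_of_ne hrq, hφp, zero_mul, add_zero]
      · simp only [dvec, if_neg hrp, if_neg hrq, Pi.single_eq_of_ne hrq]
        simp

/-- the same when the transvection is fixed -/
theorem dvec_conj_tv_fix {p q : ι} (hpq : p ≠ q) {l : F} (hl : l ≠ 0) (x φ : ι → F) (c : F)
    (hxp : x p = 0) (hxq : x q = 0) (hφp : φ p = 0) (hφq : φ q = 0) :
    diagSL (dvec p q l) (dvec_prod hpq hl) * tv x φ c * (diagSL (dvec p q l) (dvec_prod hpq hl))⁻¹ =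
      tv x φ c := by
  rw [dvec_conj_tv hpq hl x φ c hxq hφp, hxp, hφq, mul_zero, Pi.single_zero, Pi.single_zero,
    add_zero, add_zero]

theorem single_dot_single_of_ne {p q : ι} (hpq : p ≠ q) (a a' : F) :
    (Pi.single p a : ι → F) ⬝ᵥ (Pi.single q a') = 0 := by
  rw [single_dotProduct, Pi.single_eq_of_ne hpq, mul_zero]

/-- PK-B4 -/
theorem cross_of_aligned {τ : Type*} (blk : ι → τ)
    (hq : 3 ≤ Fintype.card F) (K : Subgroup (SpecialLinearGroup ι F)) (hK : OverB blk K)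
    (b β : ι → F) (hβb : β ⬝ᵥ b = 0) (d : F) (hd0 : d ≠ 0) (hd : tv b β d ∈ K)
    (i₀ i₁ j₀ j₁ k₀ : ι) (hi : i₀ ≠ i₁) (hib : blk i₀ = blk i₁) (hj : j₀ ≠ j₁)
    (hjb : blk j₀ = blk j₁) (hij : blk i₀ ≠ blk j₀) (hk1 : blk k₀ ≠ blk i₀) (hk2 : blk k₀ ≠ blk j₀)
    (h1 : b i₁ = 0) (h2 : β i₀ = 0) (h3 : b j₁ = 0) (h4 : β j₀ = 0) (h5 : b i₀ ≠ 0)
    (h6 : β j₁ ≠ 0) (hne : i₀ ≠ j₁) :
    ∃ lam : F, lam ≠ 0 ∧ SpecialLinearGroup.transvection hne lam ∈ K := by
  classical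
  obtain ⟨l, hl0, hl1⟩ : ∃ l : F, l ≠ 0 ∧ l ≠ 1 := PkA.exists_third hq 0 1
  obtain ⟨e, he⟩ : ∃ e : F, e = l - 1 := ⟨_, rfl⟩
  have he0 : e ≠ 0 := by rw [he]; exact sub_ne_zero.2 hl1
  -- index inequalities
  have hi₀j₀ : i₀ ≠ j₀ := fun h => hij (by rw [h])
  have hi₁j₀ : i₁ ≠ j₀ := fun h => hij (by rw [hib, h])
  have hi₁j₁ : i₁ ≠ j₁ := fun h => hij (by rw [hib, h, hjb])
  have hk₀i₀ : k₀ ≠ i₀ := fun h => hk1 (by rw [h])
  have hk₀i₁ : k₀ ≠ i₁ := fun h => hk1 (by rw [h, hib])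
  have hk₀j₀ : k₀ ≠ j₀ := fun h => hk2 (by rw [h])
  have hk₀j₁ : k₀ ≠ j₁ := fun h => hk2 (by rw [h, hjb])
  -- the vectors
  obtain ⟨U, hU⟩ : ∃ U : ι → F, U = Pi.single i₀ (e * b i₀) := ⟨_, rfl⟩
  obtain ⟨Om, hOm⟩ : ∃ Om : ι → F, Om = Pi.single i₁ (e * β i₁) := ⟨_, rfl⟩
  obtain ⟨U', hU'⟩ : ∃ U' : ι → F, U' = Pi.single j₀ (e * b j₀) := ⟨_, rfl⟩
  obtain ⟨Om', hOm'⟩ : ∃ Om' : ι → F, Om' = Pi.single j₁ (e * β j₁) := ⟨_, rfl⟩
  obtain ⟨U'', hU''⟩ : ∃ U'' : ι → F, U'' = Pi.single i₀ (e * (e * b i₀)) := ⟨_, rfl⟩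
  -- pairings
  have pOmb : Om ⬝ᵥ b = 0 := by rw [hOm, single_dotProduct, h1, mul_zero]
  have pβU : β ⬝ᵥ U = 0 := by rw [hU, dotProduct_single, h2, zero_mul]
  have pOmU : Om ⬝ᵥ U = 0 := by rw [hOm, hU]; exact single_dot_single_of_ne (Ne.symm hi) _ _
  have pOmU' : Om ⬝ᵥ U' = 0 := by rw [hOm, hU']; exact single_dot_single_of_ne hi₁j₀ _ _
  have pβU' : β ⬝ᵥ U' = 0 := by rw [hU', dotProduct_single, h4, zero_mul]
  have pOm'U : Om' ⬝ᵥ U = 0 := by rw [hOm', hU]; exact single_dot_single_of_ne (Ne.symm hne) _ _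
  have pOm'U'' : Om' ⬝ᵥ U'' = 0 := by
    rw [hOm', hU'']; exact single_dot_single_of_ne (Ne.symm hne) _ _
  -- step 1
  have hT₁ : tv (b + U) (β + Om) d ∈ K := by
    have h := dvec_conj_tv hi hl0 b β d h1 h2
    rw [← he, ← hU, ← hOm] at h
    rw [← h]
    exact K.mul_mem (K.mul_mem (diagSL_memB hK _ _) hd) (K.inv_mem (diagSL_memB hK _ _))
  have hexp₁ : tv (b + U) (β + Om) d = tv b β d * tv b Om d * tv U β d * tv U Om d := by
    rw [tv_add_center (x := b) (x' := U) (φ := β + Om)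
      (by rw [add_dotProduct, hβb, pOmb, add_zero]) (by rw [add_dotProduct, pβU, pOmU, add_zero]),
      tv_add_axis hβb pOmb, tv_add_axis pβU pOmU]
    group
  have hUOm : tv U Om d ∈ K := by
    have hx : SuppIn blk (blk i₀) U := by rw [hU]; exact suppIn_single blk i₀ _
    have hφ : SuppIn blk (blk i₀) Om := by rw [hOm, hib]; exact suppIn_single blk i₁ _
    exact tv_mem_of_suppIn hK hx hφ d
  have hY₁ : tv b Om d * tv U β d ∈ K := by
    have h : tv b Om d * tv U β d =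
        (tv b β d)⁻¹ * tv (b + U) (β + Om) d * (tv U Om d)⁻¹ := by
      rw [hexp₁]
      group
    rw [h]
    exact K.mul_mem (K.mul_mem (K.inv_mem hd) hT₁) (K.inv_mem hUOm)
  -- step 2
  have hD₂ := diagSL_memB hK (dvec j₀ j₁ l) (dvec_prod hj hl0)
  have hc₂a : diagSL (dvec j₀ j₁ l) (dvec_prod hj hl0) * tv b Om d *
      (diagSL (dvec j₀ j₁ l) (dvec_prod hj hl0))⁻¹ = tv b Om d * tv U' Om d := by
    have h := dvec_conj_tv hj hl0 b Om d h3 (by rw [hOm, Pi.single_eq_of_ne (Ne.symm hi₁j₀)])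
    have h0 : Om j₁ = 0 := by rw [hOm, Pi.single_eq_of_ne (Ne.symm hi₁j₁)]
    rw [h0, mul_zero, Pi.single_zero, add_zero, ← he, ← hU'] at h
    rw [h, tv_add_center pOmb pOmU']
  have hc₂b : diagSL (dvec j₀ j₁ l) (dvec_prod hj hl0) * tv U β d *
      (diagSL (dvec j₀ j₁ l) (dvec_prod hj hl0))⁻¹ = tv U β d * tv U Om' d := by
    have h := dvec_conj_tv hj hl0 U β d (by rw [hU, Pi.single_eq_of_ne (Ne.symm hne)]) h4
    have h0 : U j₀ = 0 := by rw [hU, Pi.single_eq_of_ne (Ne.symm hi₀j₀)]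
    rw [h0, mul_zero, Pi.single_zero, add_zero, ← he, ← hOm'] at h
    rw [h, tv_add_axis pβU pOm'U]
  have hY₂ : tv U' Om d * tv U Om' d ∈ K := by
    have hcomm : tv U' Om d * tv U β d = tv U β d * tv U' Om d := tv_comm pOmU' pβU pβU' pOmU d d
    have h : tv U' Om d * tv U Om' d = (tv b Om d * tv U β d)⁻¹ *
        (diagSL (dvec j₀ j₁ l) (dvec_prod hj hl0) * (tv b Om d * tv U β d) *
          (diagSL (dvec j₀ j₁ l) (dvec_prod hj hl0))⁻¹) := by
      have hsplit : diagSL (dvec j₀ j₁ l) (dvec_prod hj hl0) * (tv b Om d * tv U β d) *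
          (diagSL (dvec j₀ j₁ l) (dvec_prod hj hl0))⁻¹ =
          (diagSL (dvec j₀ j₁ l) (dvec_prod hj hl0) * tv b Om d *
            (diagSL (dvec j₀ j₁ l) (dvec_prod hj hl0))⁻¹) *
          (diagSL (dvec j₀ j₁ l) (dvec_prod hj hl0) * tv U β d *
            (diagSL (dvec j₀ j₁ l) (dvec_prod hj hl0))⁻¹) := by group
      rw [hsplit, hc₂a, hc₂b]
      have : tv b Om d * tv U' Om d * (tv U β d * tv U Om' d) =
          tv b Om d * tv U β d * (tv U' Om d * tv U Om' d) := by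
        rw [mul_assoc, ← mul_assoc (tv U' Om d), hcomm, mul_assoc, mul_assoc]
      rw [this, inv_mul_cancel_left]
    rw [h]
    exact K.mul_mem (K.inv_mem hY₁) (K.mul_mem (K.mul_mem hD₂ hY₁) (K.inv_mem hD₂))
  -- step 3
  have hi₀k₀ : i₀ ≠ k₀ := Ne.symm hk₀i₀
  have hD₃ := diagSL_memB hK (dvec i₀ k₀ l) (dvec_prod hi₀k₀ hl0)
  have hc₃a : diagSL (dvec i₀ k₀ l) (dvec_prod hi₀k₀ hl0) * tv U' Om d *
      (diagSL (dvec i₀ k₀ l) (dvec_prod hi₀k₀ hl0))⁻¹ = tv U' Om d :=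
    dvec_conj_tv_fix hi₀k₀ hl0 U' Om d
      (by rw [hU', Pi.single_eq_of_ne hi₀j₀])
      (by rw [hU', Pi.single_eq_of_ne hk₀j₀])
      (by rw [hOm, Pi.single_eq_of_ne hi])
      (by rw [hOm, Pi.single_eq_of_ne hk₀i₁])
  have hc₃b : diagSL (dvec i₀ k₀ l) (dvec_prod hi₀k₀ hl0) * tv U Om' d *
      (diagSL (dvec i₀ k₀ l) (dvec_prod hi₀k₀ hl0))⁻¹ = tv U Om' d * tv U'' Om' d := by
    have h := dvec_conj_tv hi₀k₀ hl0 U Om' d (by rw [hU, Pi.single_eq_of_ne hk₀i₀])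
      (by rw [hOm', Pi.single_eq_of_ne hne])
    have h0 : Om' k₀ = 0 := by rw [hOm', Pi.single_eq_of_ne hk₀j₁]
    have h1' : U i₀ = e * b i₀ := by rw [hU, Pi.single_eq_same]
    rw [h0, mul_zero, Pi.single_zero, add_zero, ← he, h1', ← hU''] at h
    rw [h, tv_add_center pOm'U pOm'U'']
  have hfin : tv U'' Om' d ∈ K := by
    have h : tv U'' Om' d = (tv U' Om d * tv U Om' d)⁻¹ *
        (diagSL (dvec i₀ k₀ l) (dvec_prod hi₀k₀ hl0) * (tv U' Om d * tv U Om' d) *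
          (diagSL (dvec i₀ k₀ l) (dvec_prod hi₀k₀ hl0))⁻¹) := by
      have hsplit : diagSL (dvec i₀ k₀ l) (dvec_prod hi₀k₀ hl0) * (tv U' Om d * tv U Om' d) *
          (diagSL (dvec i₀ k₀ l) (dvec_prod hi₀k₀ hl0))⁻¹ =
          (diagSL (dvec i₀ k₀ l) (dvec_prod hi₀k₀ hl0) * tv U' Om d *
            (diagSL (dvec i₀ k₀ l) (dvec_prod hi₀k₀ hl0))⁻¹) *
          (diagSL (dvec i₀ k₀ l) (dvec_prod hi₀k₀ hl0) * tv U Om' d *
            (diagSL (dvec i₀ k₀ l) (dvec_prod hi₀k₀ hl0))⁻¹) := by group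
      rw [hsplit, hc₃a, hc₃b]
      group
    rw [h]
    exact K.mul_mem (K.inv_mem hY₂) (K.mul_mem (K.mul_mem hD₃ hY₂) (K.inv_mem hD₃))
  -- the result is an elementary transvection
  refine ⟨e * (e * b i₀) * (e * β j₁) * d, ?_, ?_⟩
  · exact mul_ne_zero (mul_ne_zero (mul_ne_zero he0 (mul_ne_zero he0 h5)) (mul_ne_zero he0 h6)) hd0
  · rw [transvection_eq_tv, ← tv_smul]
    have e1 : (e * (e * b i₀)) • (Pi.single i₀ (1 : F) : ι → F) = U'' := by
      rw [hU'']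
      funext r
      rw [Pi.smul_apply, smul_eq_mul]
      by_cases hr : r = i₀
      · subst hr; rw [Pi.single_eq_same, Pi.single_eq_same, mul_one]
      · rw [Pi.single_eq_of_ne hr, Pi.single_eq_of_ne hr, mul_zero]
    have e2 : (e * β j₁) • (Pi.single j₁ (1 : F) : ι → F) = Om' := by
      rw [hOm']
      funext r
      rw [Pi.smul_apply, smul_eq_mul]
      by_cases hr : r = j₁
      · subst hr; rw [Pi.single_eq_same, Pi.single_eq_same, mul_one]
      · rw [Pi.single_eq_of_ne hr, Pi.single_eq_of_ne hr, mul_zero]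
    rw [e1, e2]
    exact hfin

end PkB

end Cfsg.Agent.Lib.Helper6.C2Max
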