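import Mathlib
import Cfsg.Agent.Lib.Helper1.C2Max_B0
import Cfsg.Agent.Lib.Helper5.C2Max_A
import Cfsg.Agent.Lib.Helper3.C2Max_B4

set_option autoImplicit false

/-!
# S5634 PK-B5: blocks of dimension two, the bad case: both blocks carry a nonzero centre part and a
nonzero axis part pairing to zero.  An in-block elementary transvection aligns each block with the
coordinates, then PK-B4 applies.
-/

namespace Cfsg.Agent.Lib.Helper6.C2Max

open Matrix Cfsg.Agent.H9SLRoot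

variable {F : Type*} [Field F] [Fintype F]

namespace PkB

set_option linter.unusedSectionVars false

/-- aligning one block of dimension two with the coordinates -/
theorem align_block {t : ℕ} (K : Subgroup (SpecialLinearGroup (Σ _ : Fin t, Fin 2) F))
    (hK : OverB (Sigma.fst : (Σ _ : Fin t, Fin 2) → Fin t) K)
    (b β : (Σ _ : Fin t, Fin 2) → F) (hβb : β ⬝ᵥ b = 0) (d : F) (hd : tv b β d ∈ K) (i : Fin t)
    (hbi : ∃ x : Σ _ : Fin t, Fin 2, x.1 = i ∧ b x ≠ 0)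
    (hβi : ∃ x : Σ _ : Fin t, Fin 2, x.1 = i ∧ β x ≠ 0)
    (hi0 : ∑ x : Σ _ : Fin t, Fin 2, (if x.1 = i then β x * b x else 0) = 0) :
    ∃ (b' β' : (Σ _ : Fin t, Fin 2) → F) (i₀ i₁ : Σ _ : Fin t, Fin 2),
      β' ⬝ᵥ b' = 0 ∧ tv b' β' d ∈ K ∧ i₀.1 = i ∧ i₁.1 = i ∧ i₀ ≠ i₁ ∧ b' i₁ = 0 ∧ β' i₀ = 0 ∧
      b' i₀ ≠ 0 ∧ β' i₁ ≠ 0 ∧ ∀ x : Σ _ : Fin t, Fin 2, x.1 ≠ i → b' x = b x ∧ β' x = β x := by
  classical
  obtain ⟨x0, hx0⟩ : ∃ x0 : Σ _ : Fin t, Fin 2, x0 = ⟨i, 0⟩ := ⟨_, rfl⟩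
  obtain ⟨x1, hx1⟩ : ∃ x1 : Σ _ : Fin t, Fin 2, x1 = ⟨i, 1⟩ := ⟨_, rfl⟩
  have hx0i : x0.1 = i := by rw [hx0]
  have hx1i : x1.1 = i := by rw [hx1]
  have hx01 : x0 ≠ x1 := by
    rw [hx0, hx1]
    intro h
    have := eq_of_heq (Sigma.mk.inj h).2
    exact absurd this (by decide)
  have hblock : ∀ x : Σ _ : Fin t, Fin 2, x.1 = i → x = x0 ∨ x = x1 := by
    rintro ⟨k, e⟩ hk
    simp only at hk
    subst hk
    rw [hx0, hx1]
    fin_cases e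
    · left; rfl
    · right; rfl
  have hsum : β x0 * b x0 + β x1 * b x1 = 0 := by
    rw [Fintype.sum_eq_add x0 x1 hx01 (fun x hx => if_neg (fun h => by
      rcases hblock x h with h' | h'
      · exact hx.1 h'
      · exact hx.2 h')), if_pos hx0i, if_pos hx1i] at hi0
    exact hi0
  by_cases hb1 : b x1 = 0
  · -- already aligned: `b` on `x0`, `β` on `x1`
    have hb0 : b x0 ≠ 0 := by
      obtain ⟨x, hx, hbx⟩ := hbi
      rcases hblock x hx with h | h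
      · rwa [h] at hbx
      · rw [h, hb1] at hbx; exact absurd rfl hbx
    have hβ0 : β x0 = 0 := by
      rw [hb1, mul_zero, add_zero] at hsum
      rcases mul_eq_zero.1 hsum with h | h
      · exact h
      · exact absurd h hb0
    have hβ1 : β x1 ≠ 0 := by
      obtain ⟨x, hx, hβx⟩ := hβi
      rcases hblock x hx with h | h
      · rw [h, hβ0] at hβx; exact absurd rfl hβx
      · rwa [h] at hβx
    exact ⟨b, β, x0, x1, hβb, hd, hx0i, hx1i, hx01, hb1, hβ0, hb0, hβ1, fun x _ => ⟨rfl, rfl⟩⟩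
  by_cases hb0 : b x0 = 0
  · -- already aligned: `b` on `x1`, `β` on `x0`
    have hβ1 : β x1 = 0 := by
      rw [hb0, mul_zero, zero_add] at hsum
      rcases mul_eq_zero.1 hsum with h | h
      · exact h
      · exact absurd h hb1
    have hβ0 : β x0 ≠ 0 := by
      obtain ⟨x, hx, hβx⟩ := hβi
      rcases hblock x hx with h | h
      · rwa [h] at hβx
      · rw [h, hβ1] at hβx; exact absurd rfl hβx
    exact ⟨b, β, x1, x0, hβb, hd, hx1i, hx0i, Ne.symm hx01, hb0, hβ1, hb1, hβ0,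
      fun x _ => ⟨rfl, rfl⟩⟩
  -- both entries of `b` in the block are nonzero: conjugate by an in-block transvection
  have hβ0 : β x0 ≠ 0 := by
    intro h0
    have h1 : β x1 = 0 := by
      rw [h0, zero_mul, zero_add] at hsum
      rcases mul_eq_zero.1 hsum with h | h
      · exact h
      · exact absurd h hb1
    obtain ⟨x, hx, hβx⟩ := hβi
    rcases hblock x hx with h | h
    · rw [h, h0] at hβx; exact hβx rfl
    · rw [h, h1] at hβx; exact hβx rfl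
  obtain ⟨c, hc⟩ : ∃ c : F, c = -(b x0 / b x1) := ⟨_, rfl⟩
  have hg0 : (Pi.single x1 (1 : F) : (Σ _ : Fin t, Fin 2) → F) ⬝ᵥ (Pi.single x0 1) = 0 := by
    rw [single_dotProduct, one_mul, Pi.single_eq_of_ne (Ne.symm hx01)]
  obtain ⟨g, hgdef⟩ : ∃ g : SpecialLinearGroup (Σ _ : Fin t, Fin 2) F,
      g = tv (Pi.single x0 1) (Pi.single x1 1) c := ⟨_, rfl⟩
  have hgK : g ∈ K := by
    rw [hgdef]
    have h0 : SuppIn (Sigma.fst : (Σ _ : Fin t, Fin 2) → Fin t) i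
        (Pi.single x0 (1 : F) : (Σ _ : Fin t, Fin 2) → F) := by
      rw [← hx0i]; exact suppIn_single _ x0 1
    have h1 : SuppIn (Sigma.fst : (Σ _ : Fin t, Fin 2) → Fin t) i
        (Pi.single x1 (1 : F) : (Σ _ : Fin t, Fin 2) → F) := by
      rw [← hx1i]; exact suppIn_single _ x1 1
    exact tv_mem_of_suppIn hK h0 h1 c
  obtain ⟨b', hb'⟩ : ∃ b' : (Σ _ : Fin t, Fin 2) → F,
      b' = b + (c * b x1) • (Pi.single x0 (1 : F) : (Σ _ : Fin t, Fin 2) → F) := ⟨_, rfl⟩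
  obtain ⟨β', hβ'⟩ : ∃ β' : (Σ _ : Fin t, Fin 2) → F,
      β' = β + (-c * β x0) • (Pi.single x1 (1 : F) : (Σ _ : Fin t, Fin 2) → F) := ⟨_, rfl⟩
  have hgb : (g : Matrix (Σ _ : Fin t, Fin 2) (Σ _ : Fin t, Fin 2) F) *ᵥ b = b' := by
    rw [hgdef, tv_mulVec hg0, hb', single_dotProduct, one_mul]
  have hβg : β ᵥ* ((g⁻¹ : SpecialLinearGroup (Σ _ : Fin t, Fin 2) F) :
      Matrix (Σ _ : Fin t, Fin 2) (Σ _ : Fin t, Fin 2) F) = β' := by
    rw [hgdef, tv_inv, tv_vecMul hg0, hβ', dotProduct_single, mul_one]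
  have hconj : g * tv b β d * g⁻¹ = tv b' β' d := by
    rw [tv_conj, hgb, hβg]
  have hβb' : β' ⬝ᵥ b' = 0 := by
    rw [← hgb, ← hβg, dot_conj]
    exact hβb
  have hmem : tv b' β' d ∈ K := by
    rw [← hconj]
    exact K.mul_mem (K.mul_mem hgK hd) (K.inv_mem hgK)
  have hb'0 : b' x0 = 0 := by
    rw [hb', Pi.add_apply, Pi.smul_apply, Pi.single_eq_same, smul_eq_mul, mul_one, hc]
    field_simp
    ring
  have hb'ne : ∀ x, x ≠ x0 → b' x = b x := by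
    intro x hx
    rw [hb', Pi.add_apply, Pi.smul_apply, Pi.single_eq_of_ne hx, smul_zero, add_zero]
  have hβ'1 : β' x1 = 0 := by
    rw [hβ', Pi.add_apply, Pi.smul_apply, Pi.single_eq_same, smul_eq_mul, mul_one, hc]
    have : β x1 = -(β x0 * b x0) / b x1 := by
      field_simp
      linear_combination hsum
    rw [this]
    field_simp
    ring
  have hβ'ne : ∀ x, x ≠ x1 → β' x = β x := by
    intro x hx
    rw [hβ', Pi.add_apply, Pi.smul_apply, Pi.single_eq_of_ne hx, smul_zero, add_zero]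
  refine ⟨b', β', x1, x0, hβb', hmem, hx1i, hx0i, Ne.symm hx01, hb'0, hβ'1, ?_, ?_, ?_⟩
  · rw [hb'ne x1 (Ne.symm hx01)]; exact hb1
  · rw [hβ'ne x0 hx01]; exact hβ0
  · intro x hx
    have h0 : x ≠ x0 := fun h => hx (by rw [h, hx0i])
    have h1 : x ≠ x1 := fun h => hx (by rw [h, hx1i])
    exact ⟨hb'ne x h0, hβ'ne x h1⟩

/-- PK-B5 -/
theorem cross_of_bad {t : ℕ} (ht : 3 ≤ t) (hq : 3 ≤ Fintype.card F)
    (K : Subgroup (SpecialLinearGroup (Σ _ : Fin t, Fin 2) F))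
    (hK : OverB (Sigma.fst : (Σ _ : Fin t, Fin 2) → Fin t) K)
    (b β : (Σ _ : Fin t, Fin 2) → F) (hβb : β ⬝ᵥ b = 0) (d : F) (hd0 : d ≠ 0) (hd : tv b β d ∈ K)
    (i j : Fin t) (hij : i ≠ j)
    (hbi : ∃ x : Σ _ : Fin t, Fin 2, x.1 = i ∧ b x ≠ 0)
    (hβi : ∃ x : Σ _ : Fin t, Fin 2, x.1 = i ∧ β x ≠ 0)
    (hi0 : ∑ x : Σ _ : Fin t, Fin 2, (if x.1 = i then β x * b x else 0) = 0)
    (hbj : ∃ x : Σ _ : Fin t, Fin 2, x.1 = j ∧ b x ≠ 0)
    (hβj : ∃ x : Σ _ : Fin t, Fin 2, x.1 = j ∧ β x ≠ 0)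
    (hj0 : ∑ x : Σ _ : Fin t, Fin 2, (if x.1 = j then β x * b x else 0) = 0) :
    ∃ (r' c' : Σ _ : Fin t, Fin 2) (hne : r' ≠ c'), r'.1 ≠ c'.1 ∧
      ∃ lam : F, lam ≠ 0 ∧ SpecialLinearGroup.transvection hne lam ∈ K := by
  classical
  -- align the block `i`
  obtain ⟨b₁, β₁, i₀, i₁, hβb₁, hmem₁, hi₀, hi₁, hi01, h1, h2, h5, -, hout₁⟩ :=
    align_block K hK b β hβb d hd i hbi hβi hi0
  -- the hypotheses on the block `j` survive
  have hbj₁ : ∃ x : Σ _ : Fin t, Fin 2, x.1 = j ∧ b₁ x ≠ 0 := by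
    obtain ⟨x, hx, hbx⟩ := hbj
    exact ⟨x, hx, by rw [(hout₁ x (by rw [hx]; exact Ne.symm hij)).1]; exact hbx⟩
  have hβj₁ : ∃ x : Σ _ : Fin t, Fin 2, x.1 = j ∧ β₁ x ≠ 0 := by
    obtain ⟨x, hx, hβx⟩ := hβj
    exact ⟨x, hx, by rw [(hout₁ x (by rw [hx]; exact Ne.symm hij)).2]; exact hβx⟩
  have hj0₁ : ∑ x : Σ _ : Fin t, Fin 2, (if x.1 = j then β₁ x * b₁ x else 0) = 0 := by
    refine Eq.trans (Finset.sum_congr rfl fun x _ => ?_) hj0
    by_cases hx : x.1 = j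
    · rw [if_pos hx, if_pos hx, (hout₁ x (by rw [hx]; exact Ne.symm hij)).1,
        (hout₁ x (by rw [hx]; exact Ne.symm hij)).2]
    · rw [if_neg hx, if_neg hx]
  -- align the block `j`
  obtain ⟨b₂, β₂, j₀, j₁, hβb₂, hmem₂, hj₀, hj₁, hj01, h3, h4, -, h6, hout₂⟩ :=
    align_block K hK b₁ β₁ hβb₁ d hmem₁ j hbj₁ hβj₁ hj0₁
  have hi₀j : i₀.1 ≠ j := by rw [hi₀]; exact hij
  have hi₁j : i₁.1 ≠ j := by rw [hi₁]; exact hij
  -- a third block
  obtain ⟨k, hki, hkj⟩ := PkA.exists_third (ι := Fin t) (by rw [Fintype.card_fin]; exact ht) i j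
  have hne : i₀ ≠ j₁ := by
    intro h
    apply hij
    rw [← hi₀, h, hj₁]
  obtain ⟨lam, hlam, hmem⟩ := cross_of_aligned (Sigma.fst : (Σ _ : Fin t, Fin 2) → Fin t) hq K hK
    b₂ β₂ hβb₂ d hd0 hmem₂ i₀ i₁ j₀ j₁ ⟨k, 0⟩ hi01 (by rw [hi₀, hi₁]) hj01 (by rw [hj₀, hj₁])
    (by rw [hi₀, hj₀]; exact hij) (by rw [hi₀]; exact hki) (by rw [hj₀]; exact hkj)
    (by rw [(hout₂ i₁ hi₁j).1]; exact h1) (by rw [(hout₂ i₀ hi₀j).2]; exact h2) h3 h4
    (by rw [(hout₂ i₀ hi₀j).1]; exact h5) h6 hne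
  exact ⟨i₀, j₁, hne, by rw [hi₀, hj₁]; exact hij, lam, hlam, hmem⟩

end PkB

end Cfsg.Agent.Lib.Helper6.C2Max
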