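import Mathlib
import Cfsg.Agent.Lib.Helper3.ExtLayer2

set_option autoImplicit false
set_option linter.unusedSectionVars false

/-!
The extended `2`-layer is the `2`-layer times an odd-order subgroup normalized by a Sylow subgroup.
-/

namespace Cfsg.Agent.Lib.Helper3
open Cfsg.Agent.Lib.Lead
open scoped Pointwise

section
variable {X : Type*} [Group X] [Finite X]

theorem card_coreOf_coprime (p : ℕ) (C : Subgroup X) : (Nat.card (coreOf p C)).Coprime p := by
  unfold coreOf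
  rw [Nat.card_congr (Subgroup.equivMapOfInjective _ C.subtype C.subtype_injective).symm.toEquiv]
  exact Cfsg.Agent.Lib.Helper6.pPrimeCore_coprime p

/-- a Sylow subgroup of `X` containing a Sylow subgroup `T` of a normal subgroup `J` meets `J` in `T` -/
theorem sylow_inf_eq_of_le {p : ℕ} [Fact p.Prime] {J : Subgroup X} (T : Sylow p ↥J) (S : Sylow p X)
    (h : (T : Subgroup ↥J).map J.subtype ≤ S) :
    (T : Subgroup ↥J).map J.subtype = (S : Subgroup X) ⊓ J := by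
  have h1 : IsPGroup p (((S : Subgroup X) ⊓ J).subgroupOf J) :=
    (S.2.to_le inf_le_left).comap_subtype
  have h2 : (T : Subgroup ↥J) ≤ ((S : Subgroup X) ⊓ J).subgroupOf J := by
    intro t ht
    rw [Subgroup.mem_subgroupOf]
    exact Subgroup.mem_inf.mpr ⟨h ⟨t, ht, rfl⟩, t.2⟩
  have h3 := T.3 h1 h2
  rw [← h3, Subgroup.subgroupOf_map_subtype, inf_assoc, inf_idem]

/-- **S1343** -/
theorem extendedTwoLayer_odd_complement : ∃ F : Subgroup X, Odd (Nat.card ↥F) ∧
    (∃ S : Sylow 2 X, (S : Subgroup X) ≤ Subgroup.normalizer (F : Set X)) ∧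
    Cfsg.extendedTwoLayer X = Cfsg.pLayer 2 X ⊔ F := by
  obtain ⟨T⟩ : Nonempty (Sylow 2 ↥(Cfsg.pLayer 2 X ⊔ Cfsg.pPrimePCore 2 X)) := inferInstance
  have hT2 : IsPGroup 2 ((T : Subgroup ↥(Cfsg.pLayer 2 X ⊔ Cfsg.pPrimePCore 2 X)).map
      (Cfsg.pLayer 2 X ⊔ Cfsg.pPrimePCore 2 X).subtype) := T.2.map _
  obtain ⟨S, hS⟩ := hT2.exists_le_sylow
  have hTS := sylow_inf_eq_of_le T S hS
  refine ⟨Cfsg.pPrimeCore 2 X ⊔ coreOf 2 (Subgroup.centralizer
    (((T : Subgroup ↥(Cfsg.pLayer 2 X ⊔ Cfsg.pPrimePCore 2 X)).map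
      (Cfsg.pLayer 2 X ⊔ Cfsg.pPrimePCore 2 X).subtype : Subgroup X) : Set X)), ?_, ⟨S, ?_⟩, ?_⟩
  · rw [← Nat.coprime_two_right, sup_comm]
    exact Cfsg.Agent.Lib.Helper6.coprime_card_sup_of_normal (card_coreOf_coprime 2 _)
      (Cfsg.Agent.Lib.Helper6.pPrimeCore_coprime 2)
  · apply Sig.le_normalizer_sup (Sig.le_normalizer_of_normal _ _)
    have h1 : (S : Subgroup X) ≤ Subgroup.normalizer
        ((((T : Subgroup ↥(Cfsg.pLayer 2 X ⊔ Cfsg.pPrimePCore 2 X)).map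
        (Cfsg.pLayer 2 X ⊔ Cfsg.pPrimePCore 2 X).subtype : Subgroup X)) : Set X) := by
      rw [hTS]
      exact Sig.le_normalizer_inf Subgroup.le_normalizer (Sig.le_normalizer_of_normal _ _)
    exact (h1.trans (Cfsg.Agent.Lib.Helper2.normalizer_le_normalizer_centralizer _)).trans
      (normalizer_le_normalizer_coreOf 2 _)
  · rw [extendedTwoLayer_eq_of_sylow T, sup_assoc]

end
end Cfsg.Agent.Lib.Helper3
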