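import Mathlib
import Cfsg.Agent.Lib.Helper3.ExtLayer3
import Cfsg.Agent.Lib.Helper8.SylowIndex

set_option autoImplicit false
set_option linter.unusedSectionVars false

/-!
`2`-components are normal in the extended `2`-layer.
-/

namespace Cfsg.Agent.Lib.Helper3
open Cfsg.Agent.Lib.Lead
open scoped Pointwise

section
variable {H : Type*} [Group H] [Finite H]

/-- a subgroup of index prime to `p` meets every subnormal subgroup in a subgroup of index prime to `p` -/
theorem coprime_relIndex_of_isSubnormal {p : ℕ} {U K : Subgroup H} (hU : U.index.Coprime p)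
    (hK : K.IsSubnormal) : (U.relIndex K).Coprime p := by
  induction hK with
  | top => rwa [Subgroup.relIndex_top_right]
  | step K K₁ hle _ hn ih =>
    have hK₁n : K₁ ≤ Subgroup.normalizer (K : Set H) :=
      (Subgroup.normal_subgroupOf_iff_le_normalizer hle).mp hn
    have h1 : U.relIndex K = (U ⊓ K₁).relIndex K := by
      unfold Subgroup.relIndex
      congr 1
      ext x
      simp only [Subgroup.mem_subgroupOf, Subgroup.mem_inf]
      exact ⟨fun h => ⟨h, hle x.2⟩, fun h => h.1⟩
    have h2 := Cfsg.Agent.Lib.Helper8.relIndex_sup_of_le_normalizer (U ⊓ K₁) K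
      (inf_le_right.trans hK₁n)
    have h3 := Subgroup.relIndex_mul_relIndex (U ⊓ K₁) (K ⊔ (U ⊓ K₁)) K₁ le_sup_right
      (sup_le hle inf_le_right)
    rw [Subgroup.inf_relIndex_right, h2, ← h1] at h3
    exact Nat.Coprime.coprime_dvd_left (Dvd.intro _ h3) ih

end

section
variable {X : Type*} [Group X] [Finite X]

/-- an element centralizing a subgroup `U` whose intersection with the `p`-component `K` has
index prime to `p` in `K` normalizes `K` -/
theorem IsPComponent.mem_normalizer_of_mem_centralizer {p : ℕ} [Fact p.Prime] {K U : Subgroup X}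
    (hK : Cfsg.IsPComponent p K) (hU : (U.relIndex K).Coprime p) {d : X}
    (hd : d ∈ Subgroup.centralizer (U : Set X)) : d ∈ Subgroup.normalizer (K : Set X) := by
  have hK₁ := IsPComponent.map_conj hK d
  have hn : K ≤ Subgroup.normalizer ((K.map (MulAut.conj d).toMonoidHom : Subgroup X) : Set X) :=
    IsPComponent.le_normalizer hK hK₁
  have hNn : ((K.map (MulAut.conj d).toMonoidHom).subgroupOf K).Normal :=
    Subgroup.normal_subgroupOf_of_le_normalizer hn
  have hle : U ⊓ K ≤ K.map (MulAut.conj d).toMonoidHom := by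
    intro t ht
    obtain ⟨htU, htK⟩ := Subgroup.mem_inf.mp ht
    refine ⟨t, htK, ?_⟩
    have := Subgroup.mem_centralizer_iff.mp hd t htU
    simp only [MulEquiv.toMonoidHom_eq_coe, MonoidHom.coe_coe, MulAut.conj_apply]
    rw [← this]; group
  have hidx : ((K.map (MulAut.conj d).toMonoidHom).subgroupOf K).index.Coprime p := by
    have h1 : (K.map (MulAut.conj d).toMonoidHom).relIndex K ∣ (U ⊓ K).relIndex K :=
      Subgroup.relIndex_dvd_of_le_left K hle
    rw [Subgroup.inf_relIndex_right] at h1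
    exact Nat.Coprime.coprime_dvd_left h1 hU
  have h2 := IsPComponent.eq_top_of_normal_of_coprime_index hK _ hidx
  rw [Subgroup.subgroupOf_eq_top] at h2
  have hcard : Nat.card (K.map (MulAut.conj d).toMonoidHom) = Nat.card K :=
    (Nat.card_congr (Subgroup.equivMapOfInjective K _ (MulAut.conj d).injective).toEquiv).symm
  have h3 : K = K.map (MulAut.conj d).toMonoidHom :=
    Subgroup.eq_of_le_of_card_ge h2 hcard.le
  rw [Subgroup.mem_normalizer_iff_map_conj_eq]
  exact h3.symm

/-- **S1344** -/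
theorem IsPComponent.normal_subgroupOf_extendedTwoLayer {K : Subgroup X} (hK : Cfsg.IsPComponent 2 K) :
    K ≤ Cfsg.extendedTwoLayer X ∧ (K.subgroupOf (Cfsg.extendedTwoLayer X)).Normal := by
  obtain ⟨T⟩ : Nonempty (Sylow 2 ↥(Cfsg.pLayer 2 X ⊔ Cfsg.pPrimePCore 2 X)) := inferInstance
  rw [extendedTwoLayer_eq_of_sylow T]
  refine ⟨(IsPComponent.le_pLayer hK).trans (le_sup_left.trans le_sup_left), ?_⟩
  apply Subgroup.normal_subgroupOf_of_le_normalizer
  have hO : Cfsg.pPrimeCore 2 X ≤ (Cfsg.layer (X ⧸ Cfsg.pPrimeCore 2 X)).comap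
      (QuotientGroup.mk' (Cfsg.pPrimeCore 2 X)) := by
    intro x hx
    rw [Subgroup.mem_comap]
    have : QuotientGroup.mk' (Cfsg.pPrimeCore 2 X) x = 1 := by
      rw [← MonoidHom.mem_ker, QuotientGroup.ker_mk']; exact hx
    rw [this]; exact Subgroup.one_mem _
  apply sup_le (sup_le _ _) _
  · exact pLayer_le_comap_layer.trans (IsPComponent.comap_layer_le_normalizer hK)
  · exact hO.trans (IsPComponent.comap_layer_le_normalizer hK)
  · intro d hd
    have hdC : d ∈ Subgroup.centralizer
        ((((T : Subgroup ↥(Cfsg.pLayer 2 X ⊔ Cfsg.pPrimePCore 2 X)).map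
        (Cfsg.pLayer 2 X ⊔ Cfsg.pPrimePCore 2 X).subtype : Subgroup X)) : Set X) := coreOf_le 2 _ hd
    apply IsPComponent.mem_normalizer_of_mem_centralizer hK _ hdC
    have hKJ : K ≤ Cfsg.pLayer 2 X ⊔ Cfsg.pPrimePCore 2 X := (IsPComponent.le_pLayer hK).trans le_sup_left
    have hTi : (T : Subgroup ↥(Cfsg.pLayer 2 X ⊔ Cfsg.pPrimePCore 2 X)).index.Coprime 2 :=
      ((Nat.Prime.coprime_iff_not_dvd Nat.prime_two).mpr T.not_dvd_index).symm
    have h1 := coprime_relIndex_of_isSubnormal hTi
      (hK.1.subgroupOf (K := Cfsg.pLayer 2 X ⊔ Cfsg.pPrimePCore 2 X))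
    rw [← Subgroup.relIndex_map_map_of_injective _ _
      (Subgroup.subtype_injective (Cfsg.pLayer 2 X ⊔ Cfsg.pPrimePCore 2 X)),
      Subgroup.map_subgroupOf_eq_of_le hKJ] at h1
    exact h1

end
end Cfsg.Agent.Lib.Helper3
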