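import Mathlib
import Cfsg.Agent.Lib.Helper3.ExtLayer4

set_option autoImplicit false
set_option linter.unusedSectionVars false

/-!
`O_{p'}` of local subgroups of groups with trivial `p`-layer (e.g. solvable groups).
-/

namespace Cfsg.Agent.Lib.Helper3
open Cfsg.Agent.Lib.Lead
open scoped Pointwise

section
variable {H : Type*} [Group H] [Finite H] {p : ℕ} [hp : Fact p.Prime]

theorem pLayer_eq_bot_of_isSolvable (hs : Group.IsSolvable H) : Cfsg.pLayer p H = ⊥ := by
  rw [← layer_quotient_pPrimeCore_eq_bot_iff, layer_eq_bot_iff]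
  intro K hK
  have h1 : Group.IsSolvable (H ⧸ Cfsg.pPrimeCore p H) := inferInstance
  have h2 : Group.IsSolvable K := inferInstance
  exact IsQuasisimple.not_isSolvable hK.2 h2

/-- in a group with trivial `p`-layer, a `p'`-subgroup of `N(P)` normalized by `N(P)`, `P` a
`p`-subgroup, lies in `O_{p'}` -/
theorem le_pPrimeCore_of_le_normalizer_of_pLayer_eq_bot (hL : Cfsg.pLayer p H = ⊥) {P V : Subgroup H}
    (hP : IsPGroup p P) (hVc : (Nat.card V).Coprime p)
    (hVN : V ≤ Subgroup.normalizer (P : Set H))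
    (hNV : Subgroup.normalizer (P : Set H) ≤ Subgroup.normalizer (V : Set H)) :
    V ≤ Cfsg.pPrimeCore p H := by
  have hn : (V.subgroupOf (Subgroup.normalizer (P : Set H))).Normal :=
    Subgroup.normal_subgroupOf_of_le_normalizer hNV
  have hc : (Nat.card (V.subgroupOf (Subgroup.normalizer (P : Set H)))).Coprime p := by
    rwa [Nat.card_congr (Subgroup.subgroupOfEquivOfLe hVN).toEquiv]
  have h1 := Cfsg.Agent.Lib.Helper6.le_pPrimeCore hn hc
  have h2 := Subgroup.map_mono (f := (Subgroup.normalizer (P : Set H)).subtype) h1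
  rw [Subgroup.map_subgroupOf_eq_of_le hVN] at h2
  exact h2.trans (pLayer_normalizer_eq_bot_and hL hP).2

end

section
variable {G : Type*} [Group G] [Finite G] {p : ℕ} [hp : Fact p.Prime]

/-- internal form -/
theorem le_coreOf_of_pLayer_eq_bot {Hs : Subgroup G} (hL : Cfsg.pLayer p ↥Hs = ⊥) {P V : Subgroup G}
    (hPH : P ≤ Hs) (hP : IsPGroup p P) (hVH : V ≤ Hs) (hVc : (Nat.card V).Coprime p)
    (hVN : V ≤ Subgroup.normalizer (P : Set G))
    (hNV : Subgroup.normalizer (P : Set G) ⊓ Hs ≤ Subgroup.normalizer (V : Set G)) :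
    V ≤ coreOf p Hs := by
  have h1 : V.subgroupOf Hs ≤ Cfsg.pPrimeCore p ↥Hs := by
    apply le_pPrimeCore_of_le_normalizer_of_pLayer_eq_bot hL (P := P.subgroupOf Hs) hP.comap_subtype
    · rwa [Nat.card_congr (Subgroup.subgroupOfEquivOfLe hVH).toEquiv]
    · rw [← Subgroup.subgroupOf_normalizer_eq hPH]
      intro v hv
      rw [Subgroup.mem_subgroupOf] at hv ⊢
      exact hVN hv
    · rw [← Subgroup.subgroupOf_normalizer_eq hPH, ← Subgroup.subgroupOf_normalizer_eq hVH]
      intro n hn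
      rw [Subgroup.mem_subgroupOf] at hn ⊢
      exact hNV (Subgroup.mem_inf.mpr ⟨hn, n.2⟩)
  have h2 := Subgroup.map_mono (f := Hs.subtype) h1
  rwa [Subgroup.map_subgroupOf_eq_of_le hVH] at h2

theorem centralizerPPrimeCore_eq_coreOf (p : ℕ) (a : G) :
    Cfsg.centralizerPPrimeCore p a = coreOf p (Subgroup.centralizer ({a} : Set G)) := rfl

end
end Cfsg.Agent.Lib.Helper3
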