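import Mathlib
import Cfsg.Agent.Lib.Helper3.LocalP2

set_option autoImplicit false
open Cfsg

/-!
Facts about `SL(2,3)` obtained by kernel evaluation.
-/

namespace Cfsg.Agent.Lib.Helper3

local notation "X23" => Matrix.SpecialLinearGroup (Fin 2) (ZMod 3)

theorem card_X23 : Nat.card X23 = 24 := by
  rw [Nat.card_eq_fintype_card]; decide +kernel

theorem lemA : ∀ n : X23, n ≠ 1 → n ^ 3 = 1 → ∃ g : X23, (g * n * g⁻¹ * n) ^ 3 ≠ 1 := by
  decide +kernel

theorem lemC : ∀ t : X23, t * t = 1 → t ≠ 1 → ∀ g : X23, g * t = t * g := by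
  decide +kernel

theorem lemD : ∃ u : X23, u ^ 3 = 1 ∧ u ≠ 1 := by
  decide +kernel

theorem lemE : ∀ a b : X23, a ^ 4 = 1 → b ^ 4 = 1 → (a * b) ^ 4 = 1 := by
  decide +kernel

theorem lemF : ∀ a : X23, (a ^ 3) ^ 4 = 1 := by
  decide +kernel

theorem lemG : ∀ a g : X23, a ^ 4 = 1 → (g * a * g⁻¹) ^ 4 = 1 := by
  intro a g ha
  rw [conj_pow, ha, mul_one, mul_inv_cancel]

/-- the normal Sylow 2-subgroup of `SL(2,3)` -/
def quat23 : Subgroup X23 where
  carrier := {g | g ^ 4 = 1}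
  one_mem' := one_pow 4
  mul_mem' := fun {a b} ha hb => lemE a b ha hb
  inv_mem' := fun {a} ha => by
    show a⁻¹ ^ 4 = 1
    rw [inv_pow, ha, inv_one]

instance quat23_normal : quat23.Normal := ⟨fun a ha g => lemG a g ha⟩

theorem solvable_X23 : Group.IsSolvable X23 := by
  have : Fact (Nat.Prime 2) := ⟨Nat.prime_two⟩
  have : Fact (Nat.Prime 3) := ⟨Nat.prime_three⟩
  have h2 : IsPGroup 2 ↥quat23 := by
    intro g
    refine ⟨2, ?_⟩
    apply Subtype.ext
    have : (g : X23) ^ 4 = 1 := g.2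
    simpa using this
  have h3 : IsPGroup 3 (X23 ⧸ quat23) := by
    intro y
    obtain ⟨g, rfl⟩ := QuotientGroup.mk_surjective y
    refine ⟨1, ?_⟩
    rw [pow_one, ← QuotientGroup.mk_pow, QuotientGroup.eq_one_iff]
    exact lemF g
  have : Group.IsNilpotent ↥quat23 := h2.isNilpotent
  have : Group.IsNilpotent (X23 ⧸ quat23) := h3.isNilpotent
  exact Group.isSolvable_of_ker_le_range quat23.subtype (QuotientGroup.mk' quat23)
    (by rw [QuotientGroup.ker_mk', Subgroup.range_subtype])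

end Cfsg.Agent.Lib.Helper3
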