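import Mathlib
import Cfsg.Agent.Lib.Helper2.CubD0

/-!
# S4415, PC1 sub-package C1c: the 2-elements of an abelian normal subgroup are central (Case C')
-/

set_option autoImplicit false
open Cfsg

namespace Cfsg.Agent.Lib.Helper2.Cub

variable {G : Type*} [Group G] {W : Type*} [AddCommGroup W] [Module (ZMod 3) W]

/-- The subgroup of the elements of square `1` of an abelian subgroup. -/
def c1cOmega (A : Subgroup G) (hab : ∀ x ∈ A, ∀ y ∈ A, x * y = y * x) : Subgroup G where
  carrier := {x | x ∈ A ∧ x * x = 1}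
  one_mem' := ⟨A.one_mem, by simp⟩
  mul_mem' := by
    rintro x y ⟨hx, hx2⟩ ⟨hy, hy2⟩
    refine ⟨A.mul_mem hx hy, ?_⟩
    calc x * y * (x * y) = x * (y * x) * y := by group
      _ = x * (x * y) * y := by rw [hab y hy x hx]
      _ = (x * x) * (y * y) := by group
      _ = 1 := by rw [hx2, hy2, one_mul]
  inv_mem' := by
    rintro x ⟨hx, hx2⟩
    refine ⟨A.inv_mem hx, ?_⟩
    calc x⁻¹ * x⁻¹ = (x * x)⁻¹ := by group
      _ = 1 := by rw [hx2, inv_one]

theorem c1cOmega_normal (A : Subgroup G) (hA : A.Normal)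
    (hab : ∀ x ∈ A, ∀ y ∈ A, x * y = y * x) : (c1cOmega A hab).Normal := by
  constructor
  rintro n ⟨hn, hn2⟩ g
  refine ⟨hA.conj_mem n hn g, ?_⟩
  calc g * n * g⁻¹ * (g * n * g⁻¹) = g * (n * n) * g⁻¹ := by group
    _ = 1 := by rw [hn2]; group

variable [Finite G] [Finite W] {ρ : Representation (ZMod 3) G W} {R Q : Subgroup G} {b : G}

/-- C1c: the 2-elements of an abelian normal subgroup are central (Case C'). -/
theorem Setup.c1c (h : Setup ρ R Q b) (hC : CaseC G) (A : Subgroup G) (hA : A.Normal)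
    (hab : ∀ x ∈ A, ∀ y ∈ A, x * y = y * x) (k : ℕ) :
    ∀ a ∈ A, a ^ (2 ^ k) = 1 → ∀ g : G, a * g = g * a := by
  induction k with
  | zero =>
    intro a _ ha g
    rw [pow_zero, pow_one] at ha
    rw [ha, one_mul, mul_one]
  | succ k ih =>
    have hEc : ∀ x ∈ A, x * x = 1 → ∀ g : G, x * g = g * x := by
      intro x hx hx2 g
      exact hC (c1cOmega A hab) (c1cOmega_normal A hA hab) (fun y hy => hy.2) x ⟨hx, hx2⟩ g
    have hb3 : b * b * b = 1 := by rw [← h.b3, pow_succ, pow_two]
    -- every element of `S` commutes with `b`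
    have hb : ∀ x ∈ A, x ^ (2 ^ (k + 1)) = 1 → b * x = x * b := by
      intro x hx hxk
      have hx2c : ∀ g : G, (x * x) * g = g * (x * x) := by
        apply ih (x * x) (A.mul_mem hx hx)
        rw [← pow_two, ← pow_mul, ← pow_succ']
        exact hxk
      have hcx : b * x * b⁻¹ ∈ A := hA.conj_mem x hx b
      set e := b * x * b⁻¹ * x⁻¹ with he
      have heA : e ∈ A := A.mul_mem hcx (A.inv_mem hx)
      have he2 : e * e = 1 := by
        have hcomm : x⁻¹ * (b * x * b⁻¹) = (b * x * b⁻¹) * x⁻¹ :=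
          hab _ (A.inv_mem hx) _ hcx
        calc e * e = b * x * b⁻¹ * (x⁻¹ * (b * x * b⁻¹)) * x⁻¹ := by rw [he]; group
          _ = b * x * b⁻¹ * ((b * x * b⁻¹) * x⁻¹) * x⁻¹ := by rw [hcomm]
          _ = b * (x * x) * b⁻¹ * (x * x)⁻¹ := by group
          _ = (x * x) * b * b⁻¹ * (x * x)⁻¹ := by rw [← hx2c b]
          _ = 1 := by group
      have hec := hEc e heA he2
      have h1 : b * x * b⁻¹ = e * x := by rw [he]; group
      have hconj : ∀ y : G, b * (e * y) * b⁻¹ = e * (b * y * b⁻¹) := by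
        intro y
        calc b * (e * y) * b⁻¹ = (b * e) * y * b⁻¹ := by group
          _ = (e * b) * y * b⁻¹ := by rw [hec b]
          _ = e * (b * y * b⁻¹) := by group
      have h3 : x = e * x := by
        calc x = (b * b * b) * x * (b * b * b)⁻¹ := by rw [hb3]; group
          _ = b * (b * (b * x * b⁻¹) * b⁻¹) * b⁻¹ := by group
          _ = b * (b * (e * x) * b⁻¹) * b⁻¹ := by rw [h1]
          _ = b * (e * (e * x)) * b⁻¹ := by rw [hconj, h1]
          _ = e * (e * (e * x)) := by rw [hconj, hconj, h1]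
          _ = (e * e) * (e * x) := by group
          _ = e * x := by rw [he2, one_mul]
      have he1 : e = 1 := by
        have : 1 * x = e * x := by rw [one_mul]; exact h3
        exact (mul_right_cancel this).symm
      rw [he1, one_mul] at h1
      calc b * x = (b * x * b⁻¹) * b := by group
        _ = x * b := by rw [h1]
    -- the centralizer of `S` is normal and contains `b`
    let S : Set G := {x | x ∈ A ∧ x ^ (2 ^ (k + 1)) = 1}
    have hSconj : ∀ x ∈ S, ∀ g : G, g * x * g⁻¹ ∈ S := by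
      rintro x ⟨hx, hxk⟩ g
      refine ⟨hA.conj_mem x hx g, ?_⟩
      rw [conj_pow, hxk]; group
    have hHn : (Subgroup.centralizer S).Normal := by
      constructor
      intro n hn g
      rw [Subgroup.mem_centralizer_iff] at hn ⊢
      intro s hs
      have h1 := hn (g⁻¹ * s * g⁻¹⁻¹) (hSconj s hs g⁻¹)
      calc s * (g * n * g⁻¹) = g * ((g⁻¹ * s * g⁻¹⁻¹) * n) * g⁻¹ := by group
        _ = g * (n * (g⁻¹ * s * g⁻¹⁻¹)) * g⁻¹ := by rw [h1]
        _ = g * n * g⁻¹ * s := by group
    have hbH : b ∈ Subgroup.centralizer S := by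
      rw [Subgroup.mem_centralizer_iff]
      rintro s ⟨hs, hsk⟩
      exact (hb s hs hsk).symm
    have htop := h.eq_top_of_normal (Subgroup.centralizer S) hbH
    intro a ha hak g
    have hg : g ∈ Subgroup.centralizer S := by rw [htop]; trivial
    rw [Subgroup.mem_centralizer_iff] at hg
    exact hg a ⟨ha, hak⟩

end Cfsg.Agent.Lib.Helper2.Cub
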