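import Mathlib
import Cfsg.Agent.Lib.Helper2.CubD0

/-!
# S4415, PC1 sub-package C1b: an element of odd order centralizing `Q` commutes with `b`
-/

set_option autoImplicit false
open Cfsg

namespace Cfsg.Agent.Lib.Helper2.Cub

variable {G : Type*} [Group G] {W : Type*} [AddCommGroup W] [Module (ZMod 3) W]

section

variable {ρ : Representation (ZMod 3) G W} {Q : Subgroup G} {b : G} {q1 q2 q3 : G} {e1 e2 e3 : W}

/-- The weight space `W2` is spanned by `e2`. -/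
theorem Frame.W2_eq (F : Frame ρ Q b q1 q2 q3 e1 e2 e3) {u : W} (hu1 : ρ q1 u = -u)
    (hu2 : ρ q2 u = u) : ∃ a : ZMod 3, u = a • e2 := by
  have hu3 : ρ q3 u = -u := by rw [← F.m12, rho_mul_apply, hu2, hu1]
  have k1 : ρ q1 (ρ b⁻¹ u) = ρ b⁻¹ u := by
    rw [cubB_conj ρ b⁻¹ q1 u, inv_inv, F.c1, hu2]
  have k2 : ρ q2 (ρ b⁻¹ u) = -(ρ b⁻¹ u) := by
    rw [cubB_conj ρ b⁻¹ q2 u, inv_inv, F.c2, hu3, map_neg]
  obtain ⟨α, hα⟩ := F.W1_eq k1 k2
  refine ⟨α, ?_⟩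
  have := congrArg (ρ b) hα
  rwa [rho_apply_inv, map_smul, F.be1] at this

/-- The weight space `W3` is spanned by `e3`. -/
theorem Frame.W3_eq (F : Frame ρ Q b q1 q2 q3 e1 e2 e3) {u : W} (hu1 : ρ q1 u = -u)
    (hu2 : ρ q2 u = -u) : ∃ a : ZMod 3, u = a • e3 := by
  have hu3 : ρ q3 u = u := by rw [← F.m12, rho_mul_apply, hu2, map_neg, hu1, neg_neg]
  have d1 : b⁻¹ * q1 * b = q3 := by rw [← F.c3]; group
  have d2 : b⁻¹ * q2 * b = q1 := by rw [← F.c1]; group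
  have k1 : ρ q1 (ρ b u) = ρ b u := by
    rw [cubB_conj ρ b q1 u, d1, hu3]
  have k2 : ρ q2 (ρ b u) = -(ρ b u) := by
    rw [cubB_conj ρ b q2 u, d2, hu1, map_neg]
  obtain ⟨α, hα⟩ := F.W1_eq k1 k2
  refine ⟨α, ?_⟩
  apply rho_injective ρ b
  rw [hα, map_smul, F.be3]

/-- An eigenvector of an element of odd order with eigenvalue in `F_3` is fixed. -/
theorem c1b_eig (ρ : Representation (ZMod 3) G W) {a : G} {m : ℕ} (hm : Odd m) (ham : a ^ m = 1)
    {v : W} (hv : v ≠ 0) {ε : ZMod 3} (h : ρ a v = ε • v) : ρ a v = v := by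
  have hk : ∀ k : ℕ, ρ (a ^ k) v = ε ^ k • v := by
    intro k
    induction k with
    | zero => rw [pow_zero, pow_zero, rho_one_apply, one_smul]
    | succ k ih => rw [pow_succ, rho_mul_apply, h, map_smul, ih, smul_smul, pow_succ, mul_comm]
  have h1 := hk m
  rw [ham, rho_one_apply] at h1
  have h2 : (ε ^ m - 1) • v = 0 := by rw [sub_smul, one_smul, ← h1, sub_self]
  have h3 : ε ^ m = 1 := by
    rcases smul_eq_zero.mp h2 with h0 | h0
    · exact sub_eq_zero.mp h0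
    · exact absurd h0 hv
  have hcases : ∀ x : ZMod 3, x = 0 ∨ x = 1 ∨ x = -1 := by decide
  rcases hcases ε with h0 | h0 | h0
  · exfalso
    rw [h0, zero_pow (Nat.pos_iff_ne_zero.mp hm.pos)] at h3
    exact zero_ne_one h3
  · rw [h, h0, one_smul]
  · exfalso
    rw [h0, hm.neg_one_pow] at h3
    revert h3; decide

/-- C1b: an element of odd order centralizing `Q` commutes with `b`. -/
theorem Frame.c1b (F : Frame ρ Q b q1 q2 q3 e1 e2 e3) (hfaith : Function.Injective ρ) {a : G} {m : ℕ}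
    (hm : Odd m) (ham : a ^ m = 1) (h1 : q1 * a = a * q1) (h2 : q2 * a = a * q2) :
    b * a = a * b := by
  have hs : ∀ w : W, ρ q1 (ρ a w) = ρ a (ρ q1 w) := fun w => by
    rw [← rho_mul_apply, ← rho_mul_apply, h1]
  have ht : ∀ w : W, ρ q2 (ρ a w) = ρ a (ρ q2 w) := fun w => by
    rw [← rho_mul_apply, ← rho_mul_apply, h2]
  have x1 : ρ a e1 = e1 := by
    obtain ⟨α, hα⟩ := F.W1_eq (u := ρ a e1) (by rw [hs, F.q1e1]) (by rw [ht, F.q2e1, map_neg])
    exact c1b_eig ρ hm ham F.e1ne hα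
  have x2 : ρ a e2 = e2 := by
    obtain ⟨α, hα⟩ := F.W2_eq (u := ρ a e2) (by rw [hs, F.q1e2, map_neg]) (by rw [ht, F.q2e2])
    exact c1b_eig ρ hm ham F.toPreFrame.e2ne hα
  have x3 : ρ a e3 = e3 := by
    obtain ⟨α, hα⟩ := F.W3_eq (u := ρ a e3) (by rw [hs, F.q1e3, map_neg]) (by rw [ht, F.q2e3, map_neg])
    exact c1b_eig ρ hm ham F.toPreFrame.e3ne hα
  apply hfaith
  ext w
  obtain ⟨a1, a2, a3, w0, hw, hw1, hw2⟩ := F.decomp w
  have hb0 : ρ b (ρ a w0) = ρ a w0 :=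
    F.bfix _ (by rw [hs, hw1]) (by rw [ht, hw2])
  rw [rho_mul_apply, rho_mul_apply, hw]
  simp only [map_add, map_smul, x1, x2, x3, F.be1, F.be2, F.be3, hb0, F.bfix w0 hw1 hw2]

end

end Cfsg.Agent.Lib.Helper2.Cub
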