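import Mathlib
import Cfsg.Prelude

set_option autoImplicit false

/-!
Hub file for S5975 (field-extension subgroups `Sp_{2d/k}(q^k)` of `Sp_{2d}(q)`): the predicate
"the matrix `y` centralises the subalgebra `K`" and the standard quadratic field in `Sp_4`.
-/

namespace Cfsg.Agent.Lib.Helper3.FESp

open Matrix

variable {F : Type*} [Field F] {ι : Type} [Fintype ι] [DecidableEq ι]

/-- the matrix `y` commutes with every element of `K` (it is `K`-linear) -/
def KLin (K : Subalgebra F (Matrix ι ι F)) (y : Matrix ι ι F) : Prop :=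
  ∀ a ∈ K, y * a = a * y

/-- the standard generator of a self-adjoint quadratic field in the `4 × 4` matrices:
`j₀ E_inr 0 = E_inr 1`, `j₀ E_inr 1 = ε E_inr 0`, `j₀ E_inl 1 = E_inl 0`,
`j₀ E_inl 0 = ε E_inl 1`. -/
def stdJ (ε : F) : Matrix (Fin 2 ⊕ Fin 2) (Fin 2 ⊕ Fin 2) F :=
  Matrix.fromBlocks !![0, 1; ε, 0] 0 0 !![0, ε; 1, 0]

end Cfsg.Agent.Lib.Helper3.FESp
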