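import Mathlib
import Cfsg.Prelude
import Cfsg.Agent.Lib.Helper3.FESp0

set_option autoImplicit false

/-!
Hub file for S5977 / S5978 (quadratic field-extension subgroups `O_d(q²)` of `Ω^±_{2d}(q)`, `q` odd):
the predicate "`S` is self-adjoint for the polar form of `Q` and `S² = ε`" and conjugation of a
linear map by a linear equivalence.
-/

namespace Cfsg.Agent.Lib.Helper3.FEO

open Module QuadraticMap

variable {F : Type*} [Field F] {V : Type*} [AddCommGroup V] [Module F V]

/-- `S` is self-adjoint for the polar form of `Q` and squares to the scalar `ε` -/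
structure IsJ (Q : QuadraticForm F V) (ε : F) (S : V →ₗ[F] V) : Prop where
  sq : ∀ v, S (S v) = ε • v
  adj : ∀ u v, polar (⇑Q) (S u) v = polar (⇑Q) u (S v)

/-- the conjugate `ρ S ρ⁻¹` -/
def conjL (ρ : V ≃ₗ[F] V) (S : V →ₗ[F] V) : V →ₗ[F] V :=
  ρ.toLinearMap ∘ₗ S ∘ₗ ρ.symm.toLinearMap

theorem conjL_apply (ρ : V ≃ₗ[F] V) (S : V →ₗ[F] V) (v : V) :
    conjL ρ S v = ρ (S (ρ.symm v)) := rfl

end Cfsg.Agent.Lib.Helper3.FEO
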