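import Mathlib
import Cfsg.Prelude.Def_ChevStructure

set_option autoImplicit false

namespace Cfsg.Agent.Lib.Helper3
open Cfsg.Lie

theorem chainCoeff_pos (D : ChevalleyDatum) (r s u : ℕ) : ∀ km ∈ D.chainCoeff r s u, 0 < km.1 := by
  intro km hkm
  unfold ChevalleyDatum.chainCoeff at hkm
  simp only [List.mem_flatMap, List.mem_map] at hkm
  obtain ⟨e, -, q, -, rfl⟩ := hkm
  exact Nat.succ_pos _

theorem xMat_zero {F : Type*} [Field F] (D : ChevalleyDatum) (r : Fin D.nroots) :
    D.xMat F r 0 = 1 := by
  have hsum : ∀ s u : ℕ, ((D.chainCoeff r.val s u).map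
      fun km => ((km.2 : ℤ) : F) * (0 : F) ^ km.1).sum = 0 := by
    intro s u
    apply List.sum_eq_zero
    intro x hx
    rw [List.mem_map] at hx
    obtain ⟨km, hkm, rfl⟩ := hx
    rw [zero_pow (chainCoeff_pos D _ _ _ km hkm).ne', mul_zero]
  ext row col
  rw [Matrix.one_apply]
  unfold ChevalleyDatum.xMat
  rw [Matrix.of_apply]
  rcases col with i | s
  · rcases row with i' | u
    · simp only [Sum.inl.injEq]
    · simp
  · by_cases hsr : s = r
    · rcases row with i' | u
      · simp [hsr]
      · simp only [hsr, if_true, Sum.inr.injEq]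
    · by_cases hsn : s.val = D.negIdx.getD r.val 0
      · rcases row with i' | u
        · simp [hsr, hsn]
        · simp only [hsr, if_false, hsn, if_true, Sum.inr.injEq]
          by_cases hus : u = s
          · simp [hus]
          · simp [hus]
      · rcases row with i' | u
        · simp [hsr, hsn]
        · simp only [hsr, if_false, hsn, Sum.inr.injEq, hsum, add_zero]

theorem xMat_eq_one_imp {F : Type*} [Field F] (D : ChevalleyDatum)
    (hneg : ∀ r : Fin D.nroots, D.negIdx.getD r.val 0 < D.nroots ∧ D.negIdx.getD r.val 0 ≠ r.val)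
    (r : Fin D.nroots) (t : F) (h : D.xMat F r t = 1) : t = 0 := by
  obtain ⟨h1, h2⟩ := hneg r
  have hs : (⟨D.negIdx.getD r.val 0, h1⟩ : Fin D.nroots) ≠ r := by
    intro h; apply h2; exact congrArg Fin.val h
  have := congrFun (congrFun h (Sum.inr r)) (Sum.inr ⟨D.negIdx.getD r.val 0, h1⟩)
  unfold ChevalleyDatum.xMat at this
  rw [Matrix.of_apply, Matrix.one_apply] at this
  simp only [hs, if_false, if_true, Sum.inr.injEq, hs.symm] at this
  simpa using this

end Cfsg.Agent.Lib.Helper3
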