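import Mathlib
import Cfsg.Prelude.Def_ChevStructure
set_option autoImplicit false
open Cfsg Cfsg.Lie

namespace Cfsg.Agent.Lib.Helper3.ChevM

/-- A term of a sparse vector with Laurent-monomial coefficient: `coef * a^e1 * b^e2` at index code `idx`. -/
structure MTerm where
  idx : ℕ
  coef : ℤ
  e1 : ℤ
  e2 : ℤ
deriving DecidableEq, Repr

/-- A sparse vector: a list of terms (repeated indices and exponents are summed). -/
abbrev MVec := List MTerm

/-- A sparse matrix, given by its columns. -/
abbrev MMat := ℕ → MVec

/-- Insert a term into a sparse vector, merging with a term that has the same index and exponents. -/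
def mvInsert (t : MTerm) : MVec → MVec
  | [] => [t]
  | h :: r =>
    bif (Nat.beq h.idx t.idx && decide (h.e1 = t.e1) && decide (h.e2 = t.e2)) then
      ⟨h.idx, h.coef + t.coef, h.e1, h.e2⟩ :: r
    else h :: mvInsert t r

/-- Add the image of the term `t` under the sparse matrix `S` to the accumulator. -/
def applyMTerm (S : MMat) (t : MTerm) (acc : MVec) : MVec :=
  (S t.idx).foldl (fun acc' s => mvInsert ⟨s.idx, s.coef * t.coef, s.e1 + t.e1, s.e2 + t.e2⟩ acc') acc

/-- Apply a sparse matrix to a sparse vector; terms with index code `≥ N` or zero coefficient are dropped. -/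
def applyM (N : ℕ) (S : MMat) (v : MVec) : MVec :=
  v.foldl (fun acc t => bif (Nat.blt t.idx N && !decide (t.coef = 0)) then applyMTerm S t acc else acc) []

/-- Apply a product of sparse matrices (leftmost factor applied last). -/
def applyMW (N : ℕ) (w : List MMat) (v : MVec) : MVec :=
  w.foldr (fun S acc => applyM N S acc) v

/-- Negate a sparse vector. -/
def mvNeg (v : MVec) : MVec := v.map fun t => ⟨t.idx, -t.coef, t.e1, t.e2⟩

/-- Merge the second vector into the first. -/
def mvAdd (v w : MVec) : MVec := w.foldl (fun acc t => mvInsert t acc) v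

/-- All coefficients vanish. -/
def mvIsZero (v : MVec) : Bool := v.all fun t => decide (t.coef = 0)

/-- The basis vector with code `c`. -/
def mvBasis (c : ℕ) : MVec := [⟨c, 1, 0, 0⟩]

/-- Compare two products of sparse matrices on the basis vector with code `c`. -/
def checkColM (N : ℕ) (w1 w2 : List MMat) (c : ℕ) : Bool :=
  mvIsZero (mvAdd (applyMW N w1 (mvBasis c)) (mvNeg (applyMW N w2 (mvBasis c))))

/-- Compare two products of sparse matrices on all basis vectors. -/
def checkMW (N : ℕ) (w1 w2 : List MMat) : Bool :=
  (List.range N).all fun c => checkColM N w1 w2 c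

section Sem
variable {F : Type*} [Field F] (a b : F)

/-- Value of a term's coefficient. -/
def tEval (t : MTerm) : F := (t.coef : F) * a ^ t.e1 * b ^ t.e2

/-- The coordinate of a sparse vector at the index code `k`. -/
def mvAt (v : MVec) (k : ℕ) : F := ((v.filter fun t => t.idx = k).map (tEval a b)).sum

@[simp] theorem mvAt_nil (k : ℕ) : mvAt a b [] k = 0 := rfl

theorem mvAt_cons (t : MTerm) (v : MVec) (k : ℕ) :
    mvAt a b (t :: v) k = (if t.idx = k then tEval a b t else 0) + mvAt a b v k := by
  unfold mvAt
  by_cases h : t.idx = k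
  · simp [h]
  · simp [h]

theorem mvAt_append (v w : MVec) (k : ℕ) : mvAt a b (v ++ w) k = mvAt a b v k + mvAt a b w k := by
  simp [mvAt]

theorem mvAt_insert (t : MTerm) (v : MVec) (k : ℕ) :
    mvAt a b (mvInsert t v) k = mvAt a b v k + if t.idx = k then tEval a b t else 0 := by
  induction v with
  | nil => simp [mvInsert, mvAt_cons]
  | cons h r ih =>
    by_cases hc : (Nat.beq h.idx t.idx && decide (h.e1 = t.e1) && decide (h.e2 = t.e2)) = true
    · have : mvInsert t (h :: r) = ⟨h.idx, h.coef + t.coef, h.e1, h.e2⟩ :: r := by
        simp only [mvInsert, hc, cond_true]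
      rw [this, mvAt_cons, mvAt_cons]
      simp only [Bool.and_eq_true, decide_eq_true_eq] at hc
      obtain ⟨⟨h1, h2⟩, h3⟩ := hc
      have h1' : h.idx = t.idx := Nat.eq_of_beq_eq_true h1
      simp only [tEval, h1', h2, h3]
      by_cases hk : t.idx = k
      · simp only [hk, if_true]; push_cast; ring
      · simp only [hk, if_false]; ring
    · have : mvInsert t (h :: r) = h :: mvInsert t r := by
        simp only [mvInsert, hc, cond_false]
      rw [this, mvAt_cons, mvAt_cons, ih]
      ring

theorem mvAt_add (v w : MVec) (k : ℕ) : mvAt a b (mvAdd v w) k = mvAt a b v k + mvAt a b w k := by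
  unfold mvAdd
  induction w generalizing v with
  | nil => simp
  | cons h t ih =>
    simp only [List.foldl_cons, ih, mvAt_insert, mvAt_cons]
    ring

theorem mvAt_neg (v : MVec) (k : ℕ) : mvAt a b (mvNeg v) k = - mvAt a b v k := by
  induction v with
  | nil => simp [mvNeg]
  | cons h t ih =>
    simp only [mvNeg, List.map_cons, mvAt_cons] at ih ⊢
    rw [ih]
    simp only [tEval]
    split_ifs
    · push_cast; ring
    · ring

theorem mvAt_of_isZero (v : MVec) (h : mvIsZero v = true) (k : ℕ) : mvAt a b v k = 0 := by
  induction v with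
  | nil => rfl
  | cons e t ih =>
    simp only [mvIsZero, List.all_cons, Bool.and_eq_true, decide_eq_true_eq] at h
    rw [mvAt_cons, ih (by simpa [mvIsZero] using h.2)]
    simp [tEval, h.1]

theorem mvAt_applyMTerm (ha : a ≠ 0) (hb : b ≠ 0) (S : MMat) (t : MTerm) (acc : MVec) (k : ℕ) :
    mvAt a b (applyMTerm S t acc) k = mvAt a b acc k + tEval a b t * mvAt a b (S t.idx) k := by
  unfold applyMTerm
  generalize S t.idx = l
  induction l generalizing acc with
  | nil => simp
  | cons s l ih =>
    simp only [List.foldl_cons, ih, mvAt_insert, mvAt_cons]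
    by_cases hk : s.idx = k
    · simp only [hk, if_true, tEval, zpow_add₀ ha, zpow_add₀ hb]; push_cast; ring
    · simp only [hk, if_false]; ring

theorem mvAt_applyM (ha : a ≠ 0) (hb : b ≠ 0) (N : ℕ) (S : MMat) (v : MVec) (k : ℕ) :
    mvAt a b (applyM N S v) k =
      (v.map fun t => if t.idx < N then tEval a b t * mvAt a b (S t.idx) k else 0).sum := by
  unfold applyM
  suffices h : ∀ acc : MVec,
      mvAt a b (v.foldl (fun acc t => bif (Nat.blt t.idx N && !decide (t.coef = 0)) then applyMTerm S t acc else acc) acc) k =
      mvAt a b acc k + (v.map fun t => if t.idx < N then tEval a b t * mvAt a b (S t.idx) k else 0).sum by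
    simpa using h []
  induction v with
  | nil => intro acc; simp
  | cons t v ih =>
    intro acc
    simp only [List.foldl_cons, ih, List.map_cons, List.sum_cons]
    by_cases h : t.idx < N
    · by_cases h0 : t.coef = 0
      · have : (Nat.blt t.idx N && !decide (t.coef = 0)) = false := by simp [h0]
        rw [this, cond_false, if_pos h]
        simp [tEval, h0]
      · have : (Nat.blt t.idx N && !decide (t.coef = 0)) = true := by
          simp [h0, Nat.blt_eq, h]
        rw [this, cond_true, if_pos h, mvAt_applyMTerm a b ha hb]
        ring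
    · have : (Nat.blt t.idx N && !decide (t.coef = 0)) = false := by
        have : Nat.blt t.idx N = false := by
          rw [← Bool.not_eq_true, Nat.blt_eq]; exact h
        simp [this]
      rw [this, cond_false, if_neg h]
      ring

end Sem

end Cfsg.Agent.Lib.Helper3.ChevM
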