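import Mathlib
import Cfsg.Prelude.Def_ChevStructure
import Cfsg.Agent.Lib.Helper3.ChevM1
set_option autoImplicit false
open Cfsg Cfsg.Lie

namespace Cfsg.Agent.Lib.Helper3.ChevM

/-- The numeric code of a coordinate index: `h_{p_i} ↦ i`, `e_s ↦ rank + s`. -/
def code (D : ChevalleyDatum) : D.Idx → ℕ
  | Sum.inl i => i.val
  | Sum.inr s => D.rank + s.val

theorem code_injective (D : ChevalleyDatum) : Function.Injective (code D) := by
  rintro (i | s) (i' | s') h
  · simp only [code] at h; rw [Fin.ext h]
  · simp only [code] at h; have := i.isLt; omega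
  · simp only [code] at h; have := i'.isLt; omega
  · simp only [code] at h; congr 1; apply Fin.ext; omega

theorem code_lt (D : ChevalleyDatum) (j : D.Idx) : code D j < D.rank + D.nroots := by
  rcases j with i | s
  · simp only [code]; have := i.isLt; omega
  · simp only [code]; have := s.isLt; omega

theorem exists_code (D : ChevalleyDatum) (c : ℕ) (hc : c < D.rank + D.nroots) : ∃ j : D.Idx, code D j = c := by
  by_cases h : c < D.rank
  · exact ⟨Sum.inl ⟨c, h⟩, rfl⟩
  · refine ⟨Sum.inr ⟨c - D.rank, by omega⟩, ?_⟩
    simp only [code]; omega

section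
variable {F : Type*} [Field F] (a b : F)

/-- The dense vector of a sparse vector. -/
def vecFn (D : ChevalleyDatum) (v : MVec) : D.Idx → F := fun j => mvAt a b v (code D j)

/-- The sparse matrix `S` represents the matrix `M`. -/
def Represents (D : ChevalleyDatum) (S : MMat) (M : Matrix D.Idx D.Idx F) : Prop :=
  ∀ j col, M j col = mvAt a b (S (code D col)) (code D j)

theorem mulVec_applyM (ha : a ≠ 0) (hb : b ≠ 0) (D : ChevalleyDatum) (S : MMat) (M : Matrix D.Idx D.Idx F)
    (hM : Represents a b D S M) (v : MVec) :
    M.mulVec (vecFn a b D v) = vecFn a b D (applyM (D.rank + D.nroots) S v) := by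
  funext j
  simp only [Matrix.mulVec, dotProduct, vecFn]
  rw [mvAt_applyM a b ha hb]
  induction v with
  | nil => simp
  | cons e v ih =>
    simp only [mvAt_cons, mul_add, Finset.sum_add_distrib, ih, List.map_cons, List.sum_cons]
    congr 1
    by_cases hc : e.idx < D.rank + D.nroots
    · obtain ⟨col, hcol⟩ := exists_code D e.idx hc
      rw [Finset.sum_eq_single col, if_pos hc]
      · rw [hcol, if_pos rfl, hM, ← hcol]; ring
      · intro col' _ hne
        have : ¬ e.idx = code D col' := by
          rw [← hcol]; exact fun h => hne (code_injective D h).symm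
        rw [if_neg this, mul_zero]
      · intro h; exact absurd (Finset.mem_univ _) h
    · have : ∀ col : D.Idx, ¬ e.idx = code D col := fun col h => hc (h ▸ code_lt D col)
      simp [this, hc]

theorem mulVec_prod (ha : a ≠ 0) (hb : b ≠ 0) (D : ChevalleyDatum) (Ss : List MMat)
    (Ms : List (Matrix D.Idx D.Idx F)) (h : List.Forall₂ (Represents a b D) Ss Ms) (v : MVec) :
    Ms.prod.mulVec (vecFn a b D v) = vecFn a b D (applyMW (D.rank + D.nroots) Ss v) := by
  induction h with
  | nil => simp [applyMW]
  | cons hSM _ ih =>
    rw [List.prod_cons, ← Matrix.mulVec_mulVec, ih, mulVec_applyM a b ha hb D _ _ hSM]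
    rfl

theorem vecFn_basis (D : ChevalleyDatum) (col : D.Idx) :
    vecFn a b D (mvBasis (code D col)) = Pi.single col 1 := by
  funext j
  simp only [vecFn, mvBasis, mvAt_cons, mvAt_nil, add_zero]
  by_cases h : col = j
  · subst h; simp [tEval]
  · have : ¬ code D col = code D j := fun e => h (code_injective D e)
    rw [if_neg this, Pi.single_apply, if_neg (Ne.symm h)]

theorem prod_eq_of_checkMW (ha : a ≠ 0) (hb : b ≠ 0) (D : ChevalleyDatum) (S1 S2 : List MMat)
    (M1 M2 : List (Matrix D.Idx D.Idx F)) (h1 : List.Forall₂ (Represents a b D) S1 M1)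
    (h2 : List.Forall₂ (Represents a b D) S2 M2)
    (h : checkMW (D.rank + D.nroots) S1 S2 = true) : M1.prod = M2.prod := by
  apply Matrix.ext_of_mulVec_single
  intro col
  rw [← vecFn_basis a b D col, mulVec_prod a b ha hb D S1 M1 h1, mulVec_prod a b ha hb D S2 M2 h2]
  funext j
  simp only [vecFn]
  simp only [checkMW, List.all_eq_true, List.mem_range] at h
  have hc := h (code D col) (code_lt D col)
  simp only [checkColM] at hc
  have := mvAt_of_isZero a b _ hc (code D j)
  rw [mvAt_add, mvAt_neg] at this
  exact sub_eq_zero.mp (by rw [sub_eq_add_neg]; exact this)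

end

/-- An off-diagonal entry `coef * t^deg` of a column of `x_r(t)`, in row `row`. -/
structure CEnt where
  row : ℕ
  coef : ℤ
  deg : ℕ
deriving DecidableEq, Repr

/-- The off-diagonal part of column `c` of `x_r(t)`, read off the tables of the datum. -/
def colList (D : ChevalleyDatum) (r c : ℕ) : List CEnt :=
  if c < D.rank then [⟨D.rank + r, -((D.cartanSR.getD c #[]).getD r 0), 1⟩]
  else if c - D.rank = r then []
  else if c - D.rank = D.negIdx.getD r 0 then
    ⟨D.rank + r, -1, 2⟩ :: (List.range D.rank).map fun k => ⟨k, (D.coroot.getD r #[]).getD k 0, 1⟩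
  else
    ((D.chain.getD r #[]).toList.filter (fun e => e.1 = c - D.rank)).flatMap fun e =>
      (e.2.toList.zipIdx).map fun q => ⟨D.rank + q.1.1, q.1.2, q.2 + 1⟩

section
variable {F : Type*} [Field F]

/-- The sum of the entries of a column list lying in row `k`. -/
def colSum (T : F) (l : List CEnt) (k : ℕ) : F :=
  ((l.filter fun e => e.row = k).map fun e => (e.coef : F) * T ^ e.deg).sum

@[simp] theorem colSum_nil (T : F) (k : ℕ) : colSum T [] k = 0 := rfl

theorem colSum_cons (T : F) (e : CEnt) (l : List CEnt) (k : ℕ) :
    colSum T (e :: l) k = (if e.row = k then (e.coef : F) * T ^ e.deg else 0) + colSum T l k := by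
  unfold colSum
  by_cases h : e.row = k
  · simp [h]
  · simp [h]

theorem colSum_append (T : F) (l l' : List CEnt) (k : ℕ) :
    colSum T (l ++ l') k = colSum T l k + colSum T l' k := by
  simp [colSum]

theorem colSum_flatMap {α : Type*} (T : F) (l : List α) (f : α → List CEnt) (k : ℕ) :
    colSum T (l.flatMap f) k = (l.map fun e => colSum T (f e) k).sum := by
  induction l with
  | nil => simp
  | cons h t ih => simp [List.flatMap_cons, colSum_append, ih]

theorem colSum_map {α : Type*} (T : F) (l : List α) (g : α → ℕ) (c : α → ℤ) (d : α → ℕ) (k : ℕ) :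
    colSum T (l.map fun q => (⟨g q, c q, d q⟩ : CEnt)) k =
      ((l.filter fun q => g q = k).map fun q => (c q : F) * T ^ d q).sum := by
  induction l with
  | nil => simp
  | cons x t ih =>
    simp only [List.map_cons, colSum_cons, ih, List.filter_cons]
    by_cases hx : g x = k
    · simp [hx]
    · simp [hx]

theorem colSum_range_map (T : F) (n : ℕ) (c : ℕ → ℤ) (d : ℕ → ℕ) (k : ℕ) :
    colSum T ((List.range n).map fun q => (⟨q, c q, d q⟩ : CEnt)) k = if k < n then (c k : F) * T ^ d k else 0 := by
  induction n with
  | zero => simp
  | succ n ih =>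
    rw [List.range_succ, List.map_append, colSum_append, ih]
    simp only [List.map_cons, List.map_nil, colSum_cons, colSum_nil, add_zero]
    by_cases h1 : k < n
    · have : ¬ n = k := by omega
      have h2 : k < n + 1 := by omega
      simp [h1, this, h2]
    · by_cases h2 : n = k
      · subst h2; simp
      · have : ¬ k < n + 1 := by omega
        simp [h1, h2, this]

theorem chain_colSum (D : ChevalleyDatum) (T : F) (L : List (ℕ × Array (ℕ × ℤ))) (u : ℕ) :
    colSum T (L.flatMap fun e =>
        (e.2.toList.zipIdx).map fun q => (⟨D.rank + q.1.1, q.1.2, q.2 + 1⟩ : CEnt)) (D.rank + u) =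
    ((L.flatMap fun e => ((e.2.toList.zipIdx).filter (fun q => q.1.1 = u)).map fun q => (q.2 + 1, q.1.2)).map
        fun km => ((km.2 : ℤ) : F) * T ^ km.1).sum := by
  rw [colSum_flatMap]
  induction L with
  | nil => simp
  | cons e L ih =>
    simp only [List.map_cons, List.sum_cons, ih, List.flatMap_cons, List.map_append, List.sum_append]
    congr 1
    rw [colSum_map]
    simp only [List.map_map]
    have : (List.filter (fun q : (ℕ × ℤ) × ℕ => decide (D.rank + q.1.1 = D.rank + u)) e.2.toList.zipIdx) =
        (List.filter (fun q : (ℕ × ℤ) × ℕ => decide (q.1.1 = u)) e.2.toList.zipIdx) := by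
      congr 1; funext q; simp
    rw [this]
    rfl

/-- Entries of `x_r(t)` from the column lists. -/
theorem xMat_entry (D : ChevalleyDatum) (r : Fin D.nroots) (T : F) (j col : D.Idx) :
    D.xMat F r T j col = (if j = col then 1 else 0) + colSum T (colList D r.val (code D col)) (code D j) := by
  have fin_ne : ∀ x y : Fin D.nroots, ¬ x = y → ¬ x.val = y.val := fun x y h e => h (Fin.ext e)
  rcases col with i | s
  · -- column h_i
    have hi := i.isLt
    have hc : code D (Sum.inl i) = i.val := rfl
    rw [hc]
    unfold colList
    rw [if_pos hi]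
    rcases j with i' | u
    · have hi' := i'.isLt
      have h1 : ¬ D.rank + r.val = i'.val := by omega
      simp only [ChevalleyDatum.xMat, Matrix.of_apply, code, colSum_cons, colSum_nil, h1, if_false, add_zero]
      by_cases h : i' = i
      · simp [h]
      · simp [h]
    · simp only [ChevalleyDatum.xMat, Matrix.of_apply, code, colSum_cons, colSum_nil, add_zero]
      by_cases h : u = r
      · simp [h]
      · have := fin_ne _ _ (Ne.symm h)
        simp [h, this]
  · -- column e_s
    have hs := s.isLt
    have hc : code D (Sum.inr s) = D.rank + s.val := rfl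
    rw [hc]
    unfold colList
    have h1 : ¬ D.rank + s.val < D.rank := by omega
    have h3 : D.rank + s.val - D.rank = s.val := by omega
    rw [if_neg h1, h3]
    by_cases hsr : s = r
    · have : s.val = r.val := by rw [hsr]
      rw [if_pos this]
      subst hsr
      rcases j with i' | u
      · simp [ChevalleyDatum.xMat]
      · simp only [ChevalleyDatum.xMat, Matrix.of_apply, if_true, colSum_nil, add_zero]
        by_cases h : u = s
        · simp [h]
        · simp [h]
    · have hsr' : ¬ s.val = r.val := fun e => hsr (Fin.ext e)
      rw [if_neg hsr']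
      by_cases hneg : s.val = D.negIdx.getD r.val 0
      · rw [if_pos hneg]
        rcases j with i' | u
        · have hi' := i'.isLt
          have e2 : ¬ D.rank + r.val = i'.val := by omega
          simp only [ChevalleyDatum.xMat, Matrix.of_apply, hsr, if_false, hneg, if_true, code, colSum_cons, e2,
            zero_add, colSum_range_map, hi']
          simp
        · have e3 : ¬ D.rank + u.val < D.rank := by omega
          simp only [ChevalleyDatum.xMat, Matrix.of_apply, hsr, if_false, hneg, if_true, code, colSum_cons,
            colSum_range_map, e3, add_zero]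
          by_cases h : u = s
          · subst h
            have e5 : ¬ r.val = u.val := fun e => hsr' e.symm
            simp [e5]
          · by_cases h' : u = r
            · subst h'
              simp [h]
            · have e5 := fin_ne _ _ (Ne.symm h')
              simp [h, h', e5]
      · rw [if_neg hneg]
        rcases j with i' | u
        · have hi' := i'.isLt
          simp only [ChevalleyDatum.xMat, Matrix.of_apply, hsr, if_false, hneg, code]
          rw [colSum_flatMap]
          have : (0 : F) = (if (Sum.inl i' : D.Idx) = Sum.inr s then 1 else 0) + 0 := by simp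
          rw [this]
          congr 1
          symm
          apply List.sum_eq_zero
          intro x hx
          simp only [List.mem_map] at hx
          obtain ⟨e, _, rfl⟩ := hx
          rw [colSum_map]
          have : (List.filter (fun q : (ℕ × ℤ) × ℕ => decide (D.rank + q.1.1 = i'.val)) e.2.toList.zipIdx) = [] := by
            rw [List.filter_eq_nil_iff]
            intro q _
            simp only [decide_eq_true_eq]
            omega
          rw [this]
          rfl
        · simp only [ChevalleyDatum.xMat, Matrix.of_apply, hsr, if_false, hneg, code]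
          rw [chain_colSum]
          congr 1
          by_cases h : u = s
          · simp [h]
          · simp [h]

end

end Cfsg.Agent.Lib.Helper3.ChevM
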