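import Mathlib
import Cfsg.Prelude.Def_ChevStructure
import Cfsg.Agent.Lib.Helper3.ChevM2
set_option autoImplicit false
open Cfsg Cfsg.Lie

namespace Cfsg.Agent.Lib.Helper3.ChevM

/-- The sparse matrix of `x_r(t)`: `cols` lists the off-diagonal column entries of `x_r`, and `pw k` lists the monomials
of `t^k` (their index fields are ignored). -/
def xM (cols : ℕ → List CEnt) (pw : ℕ → MVec) : MMat :=
  fun c => ⟨c, 1, 0, 0⟩ :: (cols c).flatMap fun e => (pw e.deg).map fun m => ⟨e.row, e.coef * m.coef, m.e1, m.e2⟩

/-- The identity sparse matrix. -/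
def idM : MMat := fun c => [⟨c, 1, 0, 0⟩]

/-- A diagonal sparse matrix. -/
def diagM (χ : ℕ → MTerm) : MMat := fun c => [⟨c, (χ c).coef, (χ c).e1, (χ c).e2⟩]

/-- Powers of the monomial `tc * a^t1 * b^t2`. -/
def monoPw (tc t1 t2 : ℤ) : ℕ → MVec := fun k => [⟨0, tc ^ k, k * t1, k * t2⟩]

/-- Powers of `a + b`. -/
def addPw : ℕ → MVec := fun k => (List.range (k + 1)).map fun i => ⟨0, (Nat.choose k i : ℕ), (i : ℕ), ((k - i : ℕ) : ℤ)⟩

section
variable {F : Type*} [Field F] (a b : F)

/-- Value of a list of monomials. -/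
def pwEval (l : MVec) : F := (l.map (tEval a b)).sum

/-- `pw k` lists the monomials of `T^k`. -/
def IsPow (pw : ℕ → MVec) (T : F) : Prop := ∀ k, pwEval a b (pw k) = T ^ k

theorem isPow_monoPw (tc t1 t2 : ℤ) : IsPow a b (monoPw tc t1 t2) ((tc : F) * a ^ t1 * b ^ t2) := by
  intro k
  simp only [pwEval, monoPw, List.map_cons, List.map_nil, List.sum_cons, List.sum_nil, add_zero, tEval]
  push_cast
  rw [mul_pow, mul_pow, ← zpow_natCast (a ^ t1), ← zpow_natCast (b ^ t2), ← zpow_mul, ← zpow_mul, mul_comm t1,
    mul_comm t2]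

theorem isPow_addPw : IsPow a b addPw (a + b) := by
  intro k
  rw [add_pow, pwEval, addPw, List.map_map, ← List.sum_toFinset _ (List.nodup_range), List.toFinset_range]
  apply Finset.sum_congr rfl
  intro i _
  simp only [Function.comp, tEval, zpow_natCast]
  push_cast
  ring

theorem mvAt_map_row (l : MVec) (row : ℕ) (c : ℤ) (k : ℕ) :
    mvAt a b (l.map fun m => (⟨row, c * m.coef, m.e1, m.e2⟩ : MTerm)) k =
      if row = k then (c : F) * pwEval a b l else 0 := by
  induction l with
  | nil => simp [pwEval]
  | cons m l ih =>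
    simp only [List.map_cons, mvAt_cons, ih, pwEval, List.sum_cons]
    by_cases h : row = k
    · simp only [h, if_true, tEval]; push_cast; ring
    · simp [h]

theorem mvAt_xM (cols : ℕ → List CEnt) (pw : ℕ → MVec) (T : F) (hpw : IsPow a b pw T) (c k : ℕ) :
    mvAt a b (xM cols pw c) k = (if c = k then 1 else 0) + colSum T (cols c) k := by
  unfold xM
  rw [mvAt_cons]
  congr 1
  · simp [tEval]
  · generalize cols c = l
    induction l with
    | nil => simp
    | cons e l ih =>
      rw [List.flatMap_cons, mvAt_append, ih, colSum_cons, mvAt_map_row, hpw]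

theorem represents_xM (D : ChevalleyDatum) (r : ℕ) (hr : r < D.nroots) (cols : ℕ → List CEnt)
    (hcols : ∀ c < D.rank + D.nroots, cols c = colList D r c) (pw : ℕ → MVec) (T : F) (hpw : IsPow a b pw T) :
    Represents a b D (xM cols pw) (D.x F r T) := by
  intro j col
  unfold ChevalleyDatum.x
  rw [dif_pos hr, xMat_entry, mvAt_xM a b cols pw T hpw, hcols _ (code_lt D col)]
  congr 1
  by_cases h : j = col
  · subst h; simp
  · have : ¬ code D col = code D j := fun e => h (code_injective D e).symm
    rw [if_neg h, if_neg this]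

theorem represents_idM (D : ChevalleyDatum) : Represents a b D idM (1 : Matrix D.Idx D.Idx F) := by
  intro j col
  simp only [idM, mvAt_cons, mvAt_nil, add_zero, Matrix.one_apply, tEval]
  by_cases h : j = col
  · subst h; simp
  · have : ¬ code D col = code D j := fun e => h (code_injective D e).symm
    rw [if_neg h, if_neg this]

theorem represents_diagM (D : ChevalleyDatum) (χ : ℕ → MTerm) :
    Represents a b D (diagM χ) (Matrix.diagonal fun j => tEval a b (χ (code D j))) := by
  intro j col
  simp only [diagM, mvAt_cons, mvAt_nil, add_zero, Matrix.diagonal_apply]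
  by_cases hj : j = col
  · subst hj; simp [tEval]
  · have : ¬ code D col = code D j := fun e => hj (code_injective D e).symm
    rw [if_neg this, if_neg hj]

end

end Cfsg.Agent.Lib.Helper3.ChevM
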