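import Mathlib
import Cfsg.Prelude.Def_ChevStructure
import Cfsg.Agent.Lib.Helper3.ChevM3
import Cfsg.Agent.Lib.Helper3.Chev1
set_option autoImplicit false
open Cfsg Cfsg.Lie

namespace Cfsg.Agent.Lib.Helper3.ChevM

/-- `f` holds on `[lo, hi)`. -/
def allRange (lo hi : ℕ) (f : ℕ → Bool) : Bool := (List.range' lo (hi - lo)).all f

theorem allRange_spec {lo hi : ℕ} {f : ℕ → Bool} (h : allRange lo hi f = true) (r : ℕ) (h1 : lo ≤ r) (h2 : r < hi) :
    f r = true := by
  simp only [allRange, List.all_eq_true, List.mem_range'_1] at h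
  exact h r ⟨h1, by omega⟩

/-- The compiled column function agrees with the tables of the datum. -/
def IsCols (D : ChevalleyDatum) (cols : ℕ → ℕ → List CEnt) : Prop :=
  ∀ r < D.nroots, ∀ c < D.rank + D.nroots, cols r c = colList D r c

/-- Kernel-checkable form of `IsCols` for one root. -/
def colsCheck (D : ChevalleyDatum) (cols : ℕ → ℕ → List CEnt) (r : ℕ) : Bool :=
  (List.range (D.rank + D.nroots)).all fun c => decide (cols r c = colList D r c)

theorem isCols_of_check (D : ChevalleyDatum) (cols : ℕ → ℕ → List CEnt)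
    (h : ∀ r < D.nroots, colsCheck D cols r = true) : IsCols D cols := by
  intro r hr c hc
  have := h r hr
  simp only [colsCheck, List.all_eq_true, List.mem_range, decide_eq_true_eq] at this
  exact this c hc

/-- A datum together with verified compiled columns. -/
structure CDatum where
  D : ChevalleyDatum
  cols : ℕ → ℕ → List CEnt
  ok : IsCols D cols

namespace CDatum

variable (C : CDatum)

/-- Dimension of the module. -/
abbrev N : ℕ := C.D.rank + C.D.nroots

/-- The sparse matrix of `x_r(tc * a^t1 * b^t2)`. -/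
def xMono (r : ℕ) (tc t1 t2 : ℤ) : MMat := xM (C.cols r) (monoPw tc t1 t2)

theorem represents_xMono {F : Type*} [Field F] (a b : F) (r : ℕ) (hr : r < C.D.nroots) (tc t1 t2 : ℤ) :
    Represents a b C.D (C.xMono r tc t1 t2) (C.D.x F r ((tc : F) * a ^ t1 * b ^ t2)) :=
  represents_xM a b C.D r hr (C.cols r) (C.ok r hr) _ _ (isPow_monoPw a b tc t1 t2)

/-- Additivity check for the root `r`. -/
def checkAdd (r : ℕ) : Bool :=
  checkMW C.N [C.xMono r 1 1 0, C.xMono r 1 0 1] [xM (C.cols r) addPw]

theorem x_zero {F : Type*} [Field F] (D : ChevalleyDatum) (r : ℕ) : D.x F r 0 = 1 := by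
  unfold ChevalleyDatum.x
  split_ifs with h
  · exact Cfsg.Agent.Lib.Helper3.xMat_zero D ⟨r, h⟩
  · rfl

theorem x_add_of_check {F : Type*} [Field F] (r : ℕ) (hr : r < C.D.nroots) (h : C.checkAdd r = true) (t₁ t₂ : F) :
    C.D.x F r t₁ * C.D.x F r t₂ = C.D.x F r (t₁ + t₂) := by
  by_cases h1 : t₁ = 0
  · subst h1; rw [x_zero, one_mul, zero_add]
  by_cases h2 : t₂ = 0
  · subst h2; rw [x_zero, mul_one, add_zero]
  have key := prod_eq_of_checkMW t₁ t₂ h1 h2 C.D
    [C.xMono r 1 1 0, C.xMono r 1 0 1] [xM (C.cols r) addPw]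
    [C.D.x F r t₁, C.D.x F r t₂] [C.D.x F r (t₁ + t₂)]
    (by
      refine List.Forall₂.cons ?_ (List.Forall₂.cons ?_ List.Forall₂.nil)
      · have := C.represents_xMono t₁ t₂ r hr 1 1 0
        simpa using this
      · have := C.represents_xMono t₁ t₂ r hr 1 0 1
        simpa using this)
    (List.Forall₂.cons (represents_xM t₁ t₂ C.D r hr (C.cols r) (C.ok r hr) _ _ (isPow_addPw t₁ t₂)) List.Forall₂.nil)
    h
  simpa using key

end CDatum

end Cfsg.Agent.Lib.Helper3.ChevM
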