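import Mathlib
import Cfsg.Prelude.Def_ChevStructure
import Cfsg.Agent.Lib.Helper3.ChevM4
set_option autoImplicit false
open Cfsg Cfsg.Lie

namespace Cfsg.Agent.Lib.Helper3.ChevM

theorem nMat_eq_prod {F : Type*} [Field F] (D : ChevalleyDatum) (r : ℕ) (c : F) :
    D.nMat F r c = [D.x F r c, D.x F (D.neg r) (-c⁻¹), D.x F r c].prod := by
  simp [ChevalleyDatum.nMat, ChevalleyDatum.wordMat, ChevalleyDatum.nWord]

theorem hMat_eq_prod {F : Type*} [Field F] (D : ChevalleyDatum) (r : ℕ) (c : F) :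
    D.hMat F r c = [D.x F r c, D.x F (D.neg r) (-c⁻¹), D.x F r c,
      D.x F r (-1), D.x F (D.neg r) 1, D.x F r (-1)].prod := by
  simp [ChevalleyDatum.hMat, ChevalleyDatum.wordMat, ChevalleyDatum.hWord, ChevalleyDatum.nWord, inv_neg]

theorem hMat_eq_nMat_mul {F : Type*} [Field F] (D : ChevalleyDatum) (r : ℕ) (c : F) :
    D.hMat F r c = D.nMat F r c * D.nMat F r (-1) := by
  simp [ChevalleyDatum.hMat, ChevalleyDatum.nMat, ChevalleyDatum.wordMat, ChevalleyDatum.hWord, mul_assoc]


/-- Field `y` of width `w` (with `mask = 2^w - 1`) of a packed table. -/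
def getField (w mask packed y : ℕ) : ℕ := Nat.land (Nat.shiftRight packed (Nat.mul w y)) mask

/-- The sparse matrix of `n_{p_i}`: `h_j ↦ h_j - cartI j • h_i`, `e_s ↦ eta s • e_{refl s}`. -/
def nM (rank i : ℕ) (cartI : ℕ → ℤ) (refl : ℕ → ℕ) (eta : ℕ → ℤ) : MMat :=
  fun c => cond (Nat.blt c rank) [⟨c, 1, 0, 0⟩, ⟨i, -cartI c, 0, 0⟩]
    [⟨rank + refl (c - rank), eta (c - rank), 0, 0⟩]

/-- The signed monomial matrix of `n_{p_i}` with signs `η`. -/
def nMatrix (D : ChevalleyDatum) (F : Type*) [Field F] (i : ℕ) (η : ℕ → ℤ) : Matrix D.Idx D.Idx F :=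
  Matrix.of (fun (row col : D.Idx) =>
        Sum.elim
          (fun j' : Fin D.rank => Sum.elim
            (fun j : Fin D.rank => (if j' = j then (1 : F) else 0) - (if (j' : ℕ) = i then ((D.cartan j (D.simple i) : ℤ) : F) else 0))
            (fun _ => (0 : F)) col)
          (fun s' : Fin D.nroots => Sum.elim
            (fun _ => (0 : F))
            (fun s : Fin D.nroots => if (s' : ℕ) = D.reflectRoot i s then ((η s : ℤ) : F) else 0) col)
          row)

theorem represents_nM {F : Type*} [Field F] (a b : F) (D : ChevalleyDatum) (i : ℕ) (hi : i < D.rank)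
    (cartI : ℕ → ℤ) (refl : ℕ → ℕ) (eta η : ℕ → ℤ)
    (hc : ∀ j < D.rank, cartI j = D.cartan j (D.simple i))
    (hr : ∀ s < D.nroots, refl s = D.reflectRoot i s)
    (he : ∀ s < D.nroots, eta s = η s) :
    Represents a b D (nM D.rank i cartI refl eta) (nMatrix D F i η) := by
  intro row col
  rcases col with j | s
  · have hj := j.isLt
    have h1 : Nat.blt j.val D.rank = true := by rw [Nat.blt_eq]; exact hj
    simp only [nM, code, h1, cond_true, mvAt_cons, mvAt_nil, add_zero, tEval, hc j.val hj]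
    rcases row with j' | s'
    · simp only [nMatrix, Matrix.of_apply, Sum.elim_inl, code]
      by_cases e1 : j' = j
      · subst e1
        by_cases e2 : (j' : ℕ) = i
        · simp [e2]; ring
        · have : ¬ i = (j' : ℕ) := fun h => e2 h.symm
          simp [e2, this]
      · have e1' : ¬ (j : ℕ) = (j' : ℕ) := fun h => e1 (Fin.ext h.symm)
        by_cases e2 : (j' : ℕ) = i
        · have e3 : ¬ (j : ℕ) = i := fun h => e1' (h.trans e2.symm)
          simp [e1, e2, e3]
        · have : ¬ i = (j' : ℕ) := fun h => e2 h.symm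
          simp [e1, e1', e2, this]
    · have hs' := s'.isLt
      have e1 : ¬ (j : ℕ) = D.rank + (s' : ℕ) := by omega
      have e2 : ¬ i = D.rank + (s' : ℕ) := by omega
      simp [nMatrix, code, e1, e2]
  · have hs := s.isLt
    have h1 : Nat.blt (D.rank + s.val) D.rank = false := by
      rw [← Bool.not_eq_true, Nat.blt_eq]; omega
    have h2 : D.rank + s.val - D.rank = s.val := by omega
    simp only [nM, code, h1, cond_false, h2, mvAt_cons, mvAt_nil, add_zero, tEval, hr s.val hs, he s.val hs]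
    rcases row with j' | s'
    · have hj' := j'.isLt
      have e1 : ¬ D.rank + D.reflectRoot i s.val = (j' : ℕ) := by omega
      simp [nMatrix, code, e1]
    · simp only [nMatrix, Matrix.of_apply, Sum.elim_inr, code]
      by_cases e1 : (s' : ℕ) = D.reflectRoot i s.val
      · simp [e1]
      · have : ¬ D.reflectRoot i s.val = (s' : ℕ) := fun h => e1 h.symm
        simp [e1, this]

namespace CDatum

variable (C : CDatum)

theorem repr_x {F : Type*} [Field F] (a b : F) (r : ℕ) (hr : r < C.D.nroots) (tc t1 t2 : ℤ) (T : F)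
    (hT : T = (tc : F) * a ^ t1 * b ^ t2) :
    Represents a b C.D (C.xMono r tc t1 t2) (C.D.x F r T) := by
  rw [hT]; exact C.represents_xMono a b r hr tc t1 t2

/-- The word `n_r(±a^t1)` as sparse matrices (`tc = ±1`). -/
def nW (r : ℕ) (tc t1 : ℤ) : List MMat :=
  [C.xMono r tc t1 0, C.xMono (C.D.neg r) (-tc) (-t1) 0, C.xMono r tc t1 0]

/-- The word `h_r(a)` as sparse matrices. -/
def hW (r : ℕ) : List MMat := C.nW r 1 1 ++ C.nW r (-1) 0

theorem forall₂_nW_one {F : Type*} [Field F] (a b : F) (r : ℕ) (hr : r < C.D.nroots)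
    (hn : C.D.neg r < C.D.nroots) :
    List.Forall₂ (Represents a b C.D) (C.nW r 1 1) [C.D.x F r a, C.D.x F (C.D.neg r) (-a⁻¹), C.D.x F r a] := by
  refine List.Forall₂.cons ?_ (List.Forall₂.cons ?_ (List.Forall₂.cons ?_ List.Forall₂.nil))
  · exact C.repr_x a b r hr 1 1 0 a (by simp)
  · exact C.repr_x a b _ hn (-1) (-1) 0 (-a⁻¹) (by simp)
  · exact C.repr_x a b r hr 1 1 0 a (by simp)

theorem forall₂_nW_const {F : Type*} [Field F] (a b : F) (r : ℕ) (hr : r < C.D.nroots)
    (hn : C.D.neg r < C.D.nroots) (tc : ℤ) (htc : tc = 1 ∨ tc = -1) :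
    List.Forall₂ (Represents a b C.D) (C.nW r tc 0)
      [C.D.x F r (tc : F), C.D.x F (C.D.neg r) (-(tc : F)⁻¹), C.D.x F r (tc : F)] := by
  refine List.Forall₂.cons ?_ (List.Forall₂.cons ?_ (List.Forall₂.cons ?_ List.Forall₂.nil))
  · exact C.repr_x a b r hr tc 0 0 _ (by simp)
  · refine C.repr_x a b _ hn (-tc) (-0) 0 _ ?_
    rcases htc with rfl | rfl <;> simp
  · exact C.repr_x a b r hr tc 0 0 _ (by simp)

theorem forall₂_hW {F : Type*} [Field F] (a b : F) (r : ℕ) (hr : r < C.D.nroots)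
    (hn : C.D.neg r < C.D.nroots) :
    List.Forall₂ (Represents a b C.D) (C.hW r)
      [C.D.x F r a, C.D.x F (C.D.neg r) (-a⁻¹), C.D.x F r a,
        C.D.x F r (-1), C.D.x F (C.D.neg r) 1, C.D.x F r (-1)] := by
  have h1 := C.forall₂_nW_one a b r hr hn
  have h2 := C.forall₂_nW_const (F := F) a b r hr hn (-1) (Or.inr rfl)
  have h3 : List.Forall₂ (Represents a b C.D) (C.nW r (-1) 0)
      [C.D.x F r (-1), C.D.x F (C.D.neg r) 1, C.D.x F r (-1)] := by
    simpa [inv_neg] using h2
  exact List.rel_append h1 h3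

/-- Check that `h_r(a)` is the diagonal matrix with entries `a ^ e c`. -/
def checkHDiag (r : ℕ) (e : ℕ → ℤ) : Bool :=
  checkMW C.N (C.hW r) [diagM fun c => ⟨c, 1, e c, 0⟩]

theorem hMat_eq_diag {F : Type*} [Field F] (r : ℕ) (hr : r < C.D.nroots) (hn : C.D.neg r < C.D.nroots)
    (e : ℕ → ℤ) (h : C.checkHDiag r e = true) (a : F) (ha : a ≠ 0) :
    C.D.hMat F r a = Matrix.diagonal fun j => a ^ e (code C.D j) := by
  rw [hMat_eq_prod]
  have key := prod_eq_of_checkMW a (1 : F) ha one_ne_zero C.D (C.hW r) [diagM fun c => ⟨c, 1, e c, 0⟩]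
    _ [Matrix.diagonal fun j => tEval a (1 : F) ((fun c => (⟨c, 1, e c, 0⟩ : MTerm)) (code C.D j))]
    (C.forall₂_hW a 1 r hr hn)
    (List.Forall₂.cons (represents_diagM a 1 C.D _) List.Forall₂.nil) h
  rw [key]
  simp [tEval]

end CDatum

end Cfsg.Agent.Lib.Helper3.ChevM
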