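import Mathlib
import Cfsg.Prelude.Def_ChevStructure
import Cfsg.Agent.Lib.Helper3.ChevM5
set_option autoImplicit false
open Cfsg Cfsg.Lie

namespace Cfsg.Agent.Lib.Helper3.ChevM

namespace CDatum

variable (C : CDatum)

/-- The diagonal sparse matrix with entries `a ^ e c`. -/
def dM (e : ℕ → ℤ) : MMat := diagM fun c => ⟨c, 1, e c, 0⟩

theorem represents_dM {F : Type*} [Field F] (a b : F) (D : ChevalleyDatum) (e : ℕ → ℤ) :
    Represents a b D (dM e) (Matrix.diagonal fun j => a ^ e (code D j)) := by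
  have := represents_diagM a b D (fun c => (⟨c, 1, e c, 0⟩ : MTerm))
  simpa [tEval, dM] using this

/-- Check that `n_p(1)` for `p = simple i` is the given monomial matrix. -/
def checkN (i : ℕ) (cartI : ℕ → ℤ) (refl : ℕ → ℕ) (eta : ℕ → ℤ) : Bool :=
  checkMW C.N (C.nW (C.D.simple i) 1 0) [nM C.D.rank i cartI refl eta]

theorem nMat_eq_nMatrix {F : Type*} [Field F] (i : ℕ) (hi : i < C.D.rank)
    (hp : C.D.simple i < C.D.nroots) (hn : C.D.neg (C.D.simple i) < C.D.nroots)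
    (cartI : ℕ → ℤ) (refl : ℕ → ℕ) (eta : ℕ → ℤ)
    (hc : ∀ j < C.D.rank, cartI j = C.D.cartan j (C.D.simple i))
    (hr : ∀ s < C.D.nroots, refl s = C.D.reflectRoot i s)
    (h : C.checkN i cartI refl eta = true) :
    C.D.nMat F (C.D.simple i) 1 = nMatrix C.D F i eta := by
  rw [nMat_eq_prod]
  have h2 := C.forall₂_nW_const (F := F) 1 1 (C.D.simple i) hp hn 1 (Or.inl rfl)
  have key := prod_eq_of_checkMW (1 : F) (1 : F) one_ne_zero one_ne_zero C.D _ _ _ [nMatrix C.D F i eta] h2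
    (List.Forall₂.cons (represents_nM 1 1 C.D i hi cartI refl eta eta hc hr (fun _ _ => rfl)) List.Forall₂.nil) h
  simpa using key

/-- Check `n_{p_i} x_s(t) = x_{refl s}(eta s * t) n_{p_i}`. -/
def checkConj (i : ℕ) (cartI : ℕ → ℤ) (refl : ℕ → ℕ) (eta : ℕ → ℤ) (s : ℕ) : Bool :=
  checkMW C.N [nM C.D.rank i cartI refl eta, C.xMono s 1 1 0]
    [C.xMono (refl s) (eta s) 1 0, nM C.D.rank i cartI refl eta]

theorem nMatrix_mul_x {F : Type*} [Field F] (i : ℕ) (hi : i < C.D.rank)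
    (cartI : ℕ → ℤ) (refl : ℕ → ℕ) (eta : ℕ → ℤ)
    (hc : ∀ j < C.D.rank, cartI j = C.D.cartan j (C.D.simple i))
    (hr : ∀ s < C.D.nroots, refl s = C.D.reflectRoot i s)
    (s : ℕ) (hs : s < C.D.nroots) (hrs : refl s < C.D.nroots)
    (h : C.checkConj i cartI refl eta s = true) (t : F) :
    nMatrix C.D F i eta * C.D.x F s t = C.D.x F (refl s) ((eta s : F) * t) * nMatrix C.D F i eta := by
  by_cases ht : t = 0
  · subst ht; rw [mul_zero, x_zero, x_zero, mul_one, one_mul]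
  have hN := represents_nM t (1 : F) C.D i hi cartI refl eta eta hc hr (fun _ _ => rfl)
  have key := prod_eq_of_checkMW t (1 : F) ht one_ne_zero C.D _ _
    [nMatrix C.D F i eta, C.D.x F s t] [C.D.x F (refl s) ((eta s : F) * t), nMatrix C.D F i eta]
    (List.Forall₂.cons hN (List.Forall₂.cons (C.repr_x t 1 s hs 1 1 0 t (by simp)) List.Forall₂.nil))
    (List.Forall₂.cons (C.repr_x t 1 (refl s) hrs (eta s) 1 0 _ (by simp)) (List.Forall₂.cons hN List.Forall₂.nil))
    h
  simpa using key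

/-- Check `diag(a^e) x_s(t) = x_s(a^A t) diag(a^e)`. -/
def checkDX (e : ℕ → ℤ) (A : ℤ) (s : ℕ) : Bool :=
  checkMW C.N [dM e, C.xMono s 1 0 1] [C.xMono s 1 A 1, dM e]

theorem diag_mul_x {F : Type*} [Field F] (e : ℕ → ℤ) (A : ℤ) (s : ℕ) (hs : s < C.D.nroots)
    (h : C.checkDX e A s = true) (c : F) (hc : c ≠ 0) (t : F) :
    (Matrix.diagonal fun j => c ^ e (code C.D j)) * C.D.x F s t =
      C.D.x F s (c ^ A * t) * Matrix.diagonal fun j => c ^ e (code C.D j) := by
  by_cases ht : t = 0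
  · subst ht; rw [mul_zero, x_zero, mul_one, one_mul]
  have hd := represents_dM c t C.D e
  have key := prod_eq_of_checkMW c t hc ht C.D _ _
    [Matrix.diagonal fun j => c ^ e (code C.D j), C.D.x F s t]
    [C.D.x F s (c ^ A * t), Matrix.diagonal fun j => c ^ e (code C.D j)]
    (List.Forall₂.cons hd (List.Forall₂.cons (C.repr_x c t s hs 1 0 1 t (by simp)) List.Forall₂.nil))
    (List.Forall₂.cons (C.repr_x c t s hs 1 A 1 _ (by simp)) (List.Forall₂.cons hd List.Forall₂.nil))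
    h
  simpa using key

/-- Check `n_{p_i} diag(a^e) = diag(a^e') n_{p_i}`. -/
def checkND (i : ℕ) (cartI : ℕ → ℤ) (refl : ℕ → ℕ) (eta : ℕ → ℤ) (e e' : ℕ → ℤ) : Bool :=
  checkMW C.N [nM C.D.rank i cartI refl eta, dM e] [dM e', nM C.D.rank i cartI refl eta]

theorem nMatrix_mul_diag {F : Type*} [Field F] (i : ℕ) (hi : i < C.D.rank)
    (cartI : ℕ → ℤ) (refl : ℕ → ℕ) (eta : ℕ → ℤ)
    (hc : ∀ j < C.D.rank, cartI j = C.D.cartan j (C.D.simple i))
    (hr : ∀ s < C.D.nroots, refl s = C.D.reflectRoot i s) (e e' : ℕ → ℤ)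
    (h : C.checkND i cartI refl eta e e' = true) (t : F) (ht : t ≠ 0) :
    nMatrix C.D F i eta * (Matrix.diagonal fun j => t ^ e (code C.D j)) =
      (Matrix.diagonal fun j => t ^ e' (code C.D j)) * nMatrix C.D F i eta := by
  have hN := represents_nM t (1 : F) C.D i hi cartI refl eta eta hc hr (fun _ _ => rfl)
  have key := prod_eq_of_checkMW t (1 : F) ht one_ne_zero C.D _ _
    [nMatrix C.D F i eta, Matrix.diagonal fun j => t ^ e (code C.D j)]
    [Matrix.diagonal fun j => t ^ e' (code C.D j), nMatrix C.D F i eta]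
    (List.Forall₂.cons hN (List.Forall₂.cons (represents_dM t 1 C.D e) List.Forall₂.nil))
    (List.Forall₂.cons (represents_dM t 1 C.D e') (List.Forall₂.cons hN List.Forall₂.nil))
    h
  simpa using key

end CDatum

theorem diag_zpow_mul {F : Type*} [Field F] {ι : Type*} [Fintype ι] [DecidableEq ι] (e : ι → ℤ) (t₁ t₂ : F) :
    (Matrix.diagonal fun j => t₁ ^ e j) * (Matrix.diagonal fun j => t₂ ^ e j) =
      Matrix.diagonal fun j => (t₁ * t₂) ^ e j := by
  rw [Matrix.diagonal_mul_diagonal]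
  congr 1
  funext j
  rw [mul_zpow]

end Cfsg.Agent.Lib.Helper3.ChevM
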