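import Mathlib
import Cfsg.Prelude.Def_ChevStructure
import Cfsg.Agent.Lib.Helper3.ChevM6
set_option autoImplicit false
open Cfsg Cfsg.Lie

namespace Cfsg.Agent.Lib.Helper3.ChevM

theorem of_pairRange {m n : ℕ} {f : ℕ → ℕ → Bool} (h : ∀ k < m * n, f (k / n) (k % n) = true) :
    ∀ i < m, ∀ s < n, f i s = true := by
  intro i hi s hs
  have hk : i * n + s < m * n := by
    calc i * n + s < i * n + n := by omega
      _ = (i + 1) * n := by ring
      _ ≤ m * n := Nat.mul_le_mul_right n hi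
  have := h (i * n + s) hk
  have hn : 0 < n := by omega
  rwa [show (i * n + s) / n = i by rw [Nat.add_comm, Nat.add_mul_div_right _ _ hn, Nat.div_eq_of_lt hs, zero_add],
    show (i * n + s) % n = s by rw [Nat.add_comm, Nat.add_mul_mod_self_right, Nat.mod_eq_of_lt hs]] at this

/-- Check of the sign table for `n_{p_i}`. -/
def etaCheck (D : ChevalleyDatum) (eta : ℕ → ℕ → ℤ) (i s : ℕ) : Bool :=
  (decide (eta i s = 1) || decide (eta i s = -1)) &&
    decide (eta i s * eta i (D.reflectRoot i s) = (-1) ^ (D.cartan i s).natAbs) &&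
    decide (eta i s * eta i (D.neg s) = 1)

/-- Check of the compiled tables against the datum, for the fundamental root `i` and the root `s`. -/
def tabCheck (D : ChevalleyDatum) (pair : ℕ → ℕ → ℤ) (refl : ℕ → ℕ → ℕ) (i s : ℕ) : Bool :=
  decide (refl i s = D.reflectRoot i s) && decide (refl i s < D.nroots) &&
    decide (pair (D.simple i) s = D.cartan i s)

namespace CDatum

/-- Exponents of `h_r(c)` from a pairing table. -/
def expo (C : CDatum) (pair : ℕ → ℕ → ℤ) (r : ℕ) : ℕ → ℤ :=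
  fun c => cond (Nat.blt c C.D.rank) 0 (pair r (c - C.D.rank))

/-- The Cartan integers `A_{p_j, p_i}` from a pairing table. -/
def cartI (C : CDatum) (pair : ℕ → ℕ → ℤ) (i : ℕ) : ℕ → ℤ :=
  fun j => pair (C.D.simple j) (C.D.simple i)

end CDatum

/-- Tables and kernel-checked facts from which the relations among the `x_r(t)`, `n_p`, `h_r(t)` follow. -/
structure RelData (C : CDatum) where
  pair : ℕ → ℕ → ℤ
  refl : ℕ → ℕ → ℕ
  eta : ℕ → ℕ → ℤ
  neg_lt : ∀ r < C.D.nroots, C.D.neg r < C.D.nroots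
  simple_lt : ∀ i < C.D.rank, C.D.simple i < C.D.nroots
  tab : ∀ i < C.D.rank, ∀ s < C.D.nroots, tabCheck C.D pair refl i s = true
  etaOk : ∀ i < C.D.rank, ∀ s < C.D.nroots, etaCheck C.D eta i s = true
  etaSimple : ∀ i < C.D.rank, eta i (C.D.simple i) = -1 ∧ eta i (C.D.neg (C.D.simple i)) = -1
  add : ∀ r < C.D.nroots, C.checkAdd r = true
  hdiag : ∀ r < C.D.nroots, C.checkHDiag r (C.expo pair r) = true
  nchk : ∀ i < C.D.rank, C.checkN i (C.cartI pair i) (refl i) (eta i) = true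
  conj : ∀ i < C.D.rank, ∀ s < C.D.nroots, C.checkConj i (C.cartI pair i) (refl i) (eta i) s = true
  dx : ∀ i < C.D.rank, ∀ s < C.D.nroots, C.checkDX (C.expo pair (C.D.simple i)) (pair (C.D.simple i) s) s = true
  nd : ∀ i < C.D.rank, ∀ j < C.D.rank,
    C.checkND i (C.cartI pair i) (refl i) (eta i) (C.expo pair (C.D.simple j)) (C.expo pair (refl i (C.D.simple j))) = true

namespace RelData

variable {C : CDatum} (R : RelData C)
include R

theorem refl_eq (i : ℕ) (hi : i < C.D.rank) (s : ℕ) (hs : s < C.D.nroots) : R.refl i s = C.D.reflectRoot i s := by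
  have := R.tab i hi s hs
  simp only [tabCheck, Bool.and_eq_true, decide_eq_true_eq] at this
  exact this.1.1

theorem refl_lt (i : ℕ) (hi : i < C.D.rank) (s : ℕ) (hs : s < C.D.nroots) : R.refl i s < C.D.nroots := by
  have := R.tab i hi s hs
  simp only [tabCheck, Bool.and_eq_true, decide_eq_true_eq] at this
  exact this.1.2

theorem pair_simple (i : ℕ) (hi : i < C.D.rank) (s : ℕ) (hs : s < C.D.nroots) :
    R.pair (C.D.simple i) s = C.D.cartan i s := by
  have := R.tab i hi s hs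
  simp only [tabCheck, Bool.and_eq_true, decide_eq_true_eq] at this
  exact this.2

theorem cartI_eq (i : ℕ) (hi : i < C.D.rank) (j : ℕ) (hj : j < C.D.rank) :
    C.cartI R.pair i j = C.D.cartan j (C.D.simple i) :=
  R.pair_simple j hj _ (R.simple_lt i hi)

section
variable {F : Type*} [Field F]

theorem x_add (r : ℕ) (hr : r < C.D.nroots) (t₁ t₂ : F) :
    C.D.x F r t₁ * C.D.x F r t₂ = C.D.x F r (t₁ + t₂) :=
  C.x_add_of_check r hr (R.add r hr) t₁ t₂

theorem hMat_diag (r : ℕ) (hr : r < C.D.nroots) (c : F) (hc : c ≠ 0) :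
    C.D.hMat F r c = Matrix.diagonal fun j => c ^ C.expo R.pair r (code C.D j) :=
  C.hMat_eq_diag r hr (R.neg_lt r hr) _ (R.hdiag r hr) c hc

theorem expo_simple (i : ℕ) (hi : i < C.D.rank) (c : F) :
    (fun j => c ^ C.expo R.pair (C.D.simple i) (code C.D j)) =
      Sum.elim (fun _ => (1 : F)) (fun s : Fin C.D.nroots => c ^ (C.D.cartan i s)) := by
  funext j
  rcases j with j | s
  · have : Nat.blt j.val C.D.rank = true := by rw [Nat.blt_eq]; exact j.isLt
    simp [CDatum.expo, code, this]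
  · have : Nat.blt (C.D.rank + s.val) C.D.rank = false := by
      rw [← Bool.not_eq_true, Nat.blt_eq]; omega
    have h2 : C.D.rank + s.val - C.D.rank = s.val := by omega
    simp [CDatum.expo, code, this, h2, R.pair_simple i hi s.val s.isLt]

/-- S1033 -/
theorem hMat_simple (i : ℕ) (hi : i < C.D.rank) (c : F) (hc : c ≠ 0) :
    C.D.hMat F (C.D.simple i) c =
      Matrix.diagonal (Sum.elim (fun _ => (1 : F)) (fun s : Fin C.D.nroots => c ^ (C.D.cartan i s))) := by
  rw [R.hMat_diag _ (R.simple_lt i hi) c hc, R.expo_simple i hi]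

/-- S1076 -/
theorem hMat_mul (r : ℕ) (hr : r < C.D.nroots) (t₁ t₂ : F) (h₁ : t₁ ≠ 0) (h₂ : t₂ ≠ 0) :
    C.D.hMat F r t₁ * C.D.hMat F r t₂ = C.D.hMat F r (t₁ * t₂) := by
  rw [R.hMat_diag r hr t₁ h₁, R.hMat_diag r hr t₂ h₂, R.hMat_diag r hr _ (mul_ne_zero h₁ h₂), diag_zpow_mul]

theorem nMat_simple (i : ℕ) (hi : i < C.D.rank) :
    C.D.nMat F (C.D.simple i) 1 = nMatrix C.D F i (R.eta i) :=
  C.nMat_eq_nMatrix i hi (R.simple_lt i hi) (R.neg_lt _ (R.simple_lt i hi)) _ _ _
    (fun j hj => R.cartI_eq i hi j hj) (fun s hs => R.refl_eq i hi s hs) (R.nchk i hi)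

/-- S1031 -/
theorem nMat_mul_x (i s : ℕ) (hi : i < C.D.rank) (hs : s < C.D.nroots) :
    ∃ η : ℤ, (η = 1 ∨ η = -1) ∧
      ∀ t : F, C.D.nMat F (C.D.simple i) 1 * C.D.x F s t =
        C.D.x F (C.D.reflectRoot i s) ((η : F) * t) * C.D.nMat F (C.D.simple i) 1 := by
  refine ⟨R.eta i s, ?_, fun t => ?_⟩
  · have := R.etaOk i hi s hs
    simp only [etaCheck, Bool.and_eq_true, Bool.or_eq_true, decide_eq_true_eq] at this
    exact this.1.1
  · rw [R.nMat_simple i hi, ← R.refl_eq i hi s hs]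
    exact C.nMatrix_mul_x i hi _ _ _ (fun j hj => R.cartI_eq i hi j hj) (fun s hs => R.refl_eq i hi s hs) s hs
      (R.refl_lt i hi s hs) (R.conj i hi s hs) t

/-- S1032 -/
theorem hMat_mul_x (i s : ℕ) (hi : i < C.D.rank) (hs : s < C.D.nroots) (c : F) (hc : c ≠ 0) (t : F) :
    C.D.hMat F (C.D.simple i) c * C.D.x F s t =
      C.D.x F s (c ^ (C.D.cartan i s) * t) * C.D.hMat F (C.D.simple i) c := by
  rw [R.hMat_diag _ (R.simple_lt i hi) c hc, ← R.pair_simple i hi s hs]
  exact C.diag_mul_x _ _ s hs (R.dx i hi s hs) c hc t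

/-- S1096 -/
theorem nMat_mul_hMat (i j : ℕ) (hi : i < C.D.rank) (hj : j < C.D.rank) (t : F) (ht : t ≠ 0) :
    C.D.nMat F (C.D.simple i) 1 * C.D.hMat F (C.D.simple j) t =
      C.D.hMat F (C.D.reflectRoot i (C.D.simple j)) t * C.D.nMat F (C.D.simple i) 1 := by
  have hsj := R.simple_lt j hj
  rw [R.nMat_simple i hi, R.hMat_diag _ hsj t ht, ← R.refl_eq i hi _ hsj,
    R.hMat_diag _ (R.refl_lt i hi _ hsj) t ht]
  exact C.nMatrix_mul_diag i hi _ _ _ (fun j hj => R.cartI_eq i hi j hj) (fun s hs => R.refl_eq i hi s hs) _ _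
    (R.nd i hi j hj) t ht

/-- S1095 -/
theorem nMat_simple_monomial (i : ℕ) (hi : i < C.D.rank) :
    ∃ η : ℕ → ℤ, (∀ s < C.D.nroots, η s = 1 ∨ η s = -1) ∧ η (C.D.simple i) = -1 ∧ η (C.D.neg (C.D.simple i)) = -1 ∧
      (∀ s < C.D.nroots, η s * η (C.D.reflectRoot i s) = (-1) ^ (C.D.cartan i s).natAbs ∧ η s * η (C.D.neg s) = 1) ∧
      C.D.nMat F (C.D.simple i) 1 = nMatrix C.D F i η := by
  refine ⟨R.eta i, ?_, (R.etaSimple i hi).1, (R.etaSimple i hi).2, ?_, R.nMat_simple i hi⟩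
  · intro s hs
    have := R.etaOk i hi s hs
    simp only [etaCheck, Bool.and_eq_true, Bool.or_eq_true, decide_eq_true_eq] at this
    exact this.1.1
  · intro s hs
    have := R.etaOk i hi s hs
    simp only [etaCheck, Bool.and_eq_true, Bool.or_eq_true, decide_eq_true_eq] at this
    exact ⟨this.1.2, this.2⟩

end

end RelData

end Cfsg.Agent.Lib.Helper3.ChevM
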