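import Mathlib
import Cfsg.Prelude.Def_ChevStructure
import Cfsg.Agent.Lib.Helper3.ChevM7
set_option autoImplicit false
open Cfsg Cfsg.Lie

namespace Cfsg.Agent.Lib.Helper3.ChevM

/-- The commutator formula for the pair of roots `(r, s)` over the field `F`. -/
def CommF (D : ChevalleyDatum) (F : Type*) [Field F] (r s : ℕ) : Prop :=
  ∀ t u : F, D.x F s u * D.x F r t = D.x F r t * D.x F s u * D.wordMat F (D.commWord F r s t u)

namespace CDatum

variable (C : CDatum)

/-- The sparse matrices of the right-hand word of the commutator formula, with `a = t`, `b = u`. -/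
def commW (terms : List (ℕ × ℤ × ℕ × ℕ)) : List MMat :=
  terms.map fun c => C.xMono c.1 (c.2.1 * (-1) ^ c.2.2.1) c.2.2.1 c.2.2.2

/-- Brute-force check of the commutator formula for `(r, s)`. -/
def checkComm (r s : ℕ) : Bool :=
  ((C.D.commTerms r s).all fun c => decide (c.1 < C.D.nroots)) &&
  checkMW C.N [C.xMono s 1 0 1, C.xMono r 1 1 0]
    ([C.xMono r 1 1 0, C.xMono s 1 0 1] ++ C.commW (C.D.commTerms r s))

theorem forall₂_commW {F : Type*} [Field F] (t u : F) (terms : List (ℕ × ℤ × ℕ × ℕ))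
    (h : ∀ c ∈ terms, c.1 < C.D.nroots) :
    List.Forall₂ (Represents t u C.D) (C.commW terms)
      (terms.map fun c => C.D.x F c.1 ((c.2.1 : F) * (-t) ^ c.2.2.1 * u ^ c.2.2.2)) := by
  induction terms with
  | nil => exact List.Forall₂.nil
  | cons c l ih =>
    simp only [commW, List.map_cons] at ih ⊢
    refine List.Forall₂.cons ?_ (ih fun c' hc' => h c' (List.mem_cons_of_mem _ hc'))
    refine C.repr_x t u c.1 (h c List.mem_cons_self) _ _ _ _ ?_
    push_cast
    rw [zpow_natCast, zpow_natCast, neg_pow]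
    ring

theorem wordMat_commWord {F : Type*} [Field F] (D : ChevalleyDatum) (r s : ℕ) (t u : F) :
    D.wordMat F (D.commWord F r s t u) =
      ((D.commTerms r s).map fun c => D.x F c.1 ((c.2.1 : F) * (-t) ^ c.2.2.1 * u ^ c.2.2.2)).prod := by
  simp only [ChevalleyDatum.wordMat, ChevalleyDatum.commWord, List.map_map]
  rfl

theorem x_zero' {F : Type*} [Field F] (D : ChevalleyDatum) (r : ℕ) : D.x F r 0 = 1 := x_zero D r

theorem commWord_prod_zero_left {F : Type*} [Field F] (D : ChevalleyDatum) (l : List (ℕ × ℤ × ℕ × ℕ))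
    (hl : ∀ c ∈ l, 0 < c.2.2.1 ∧ 0 < c.2.2.2) (t u : F) (h0 : t = 0 ∨ u = 0) :
    (l.map fun c => D.x F c.1 ((c.2.1 : F) * (-t) ^ c.2.2.1 * u ^ c.2.2.2)).prod = 1 := by
  induction l with
  | nil => simp
  | cons c l ih =>
    rw [List.map_cons, List.prod_cons, ih fun c' hc' => hl c' (List.mem_cons_of_mem _ hc'), mul_one]
    obtain ⟨h1, h2⟩ := hl c List.mem_cons_self
    have : (c.2.1 : F) * (-t) ^ c.2.2.1 * u ^ c.2.2.2 = 0 := by
      rcases h0 with rfl | rfl
      · rw [neg_zero, zero_pow (by omega), mul_zero, zero_mul]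
      · rw [zero_pow (by omega), mul_zero]
    rw [this, x_zero]

theorem commTerms_pos (D : ChevalleyDatum) (r s : ℕ) : ∀ c ∈ D.commTerms r s, 0 < c.2.2.1 ∧ 0 < c.2.2.2 := by
  intro c hc
  simp only [ChevalleyDatum.commTerms, List.mem_filterMap] at hc
  obtain ⟨c', hc', hcc⟩ := hc
  simp only [List.mem_cons, List.not_mem_nil, or_false] at hc'
  rcases hc' with rfl | rfl | rfl | rfl | rfl | rfl | rfl <;>
  · simp only [Option.map_eq_some_iff] at hcc
    obtain ⟨k, _, rfl⟩ := hcc
    simp

theorem commF_of_check {F : Type*} [Field F] (r s : ℕ) (hr : r < C.D.nroots) (hs : s < C.D.nroots)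
    (h : C.checkComm r s = true) : CommF C.D F r s := by
  intro t u
  rw [wordMat_commWord]
  by_cases h0 : t = 0 ∨ u = 0
  · rw [commWord_prod_zero_left C.D _ (commTerms_pos C.D r s) t u h0, mul_one]
    rcases h0 with rfl | rfl
    · rw [x_zero, mul_one, one_mul]
    · rw [x_zero, mul_one, one_mul]
  push Not at h0
  simp only [checkComm, Bool.and_eq_true, List.all_eq_true, decide_eq_true_eq] at h
  have key := prod_eq_of_checkMW t u h0.1 h0.2 C.D _ _
    [C.D.x F s u, C.D.x F r t]
    ([C.D.x F r t, C.D.x F s u] ++ (C.D.commTerms r s).map fun c => C.D.x F c.1 ((c.2.1 : F) * (-t) ^ c.2.2.1 * u ^ c.2.2.2))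
    (List.Forall₂.cons (C.repr_x t u s hs 1 0 1 u (by simp))
      (List.Forall₂.cons (C.repr_x t u r hr 1 1 0 t (by simp)) List.Forall₂.nil))
    (List.rel_append
      (List.Forall₂.cons (C.repr_x t u r hr 1 1 0 t (by simp))
        (List.Forall₂.cons (C.repr_x t u s hs 1 0 1 u (by simp)) List.Forall₂.nil))
      (C.forall₂_commW t u _ h.1))
    h.2
  simpa [mul_assoc] using key

end CDatum

end Cfsg.Agent.Lib.Helper3.ChevM
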