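import Mathlib
import Cfsg.Prelude.Def_ChevStructure
import Cfsg.Agent.Lib.Helper3.ChevM8
set_option autoImplicit false
open Cfsg Cfsg.Lie

namespace Cfsg.Agent.Lib.Helper3.ChevM

section Transport
variable {F : Type*} [Field F] (D : ChevalleyDatum)

/-- Conjugation of the root elements by an invertible matrix `N`: `N x_k(t) = x_{refl k}(eta k * t) N`. -/
structure ConjRel (N : Matrix D.Idx D.Idx F) (refl : ℕ → ℕ) (eta : ℕ → ℤ) : Prop where
  inv : ∃ N' : Matrix D.Idx D.Idx F, N * N' = 1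
  conj : ∀ k < D.nroots, ∀ t : F, N * D.x F k t = D.x F (refl k) ((eta k : F) * t) * N
  sign : ∀ k < D.nroots, eta k = 1 ∨ eta k = -1

variable {D}

theorem ConjRel.conj_prod {N : Matrix D.Idx D.Idx F} {refl : ℕ → ℕ} {eta : ℕ → ℤ} (h : ConjRel D N refl eta)
    (l : List (ℕ × F)) (hl : ∀ p ∈ l, p.1 < D.nroots) :
    N * (l.map fun p => D.x F p.1 p.2).prod =
      (l.map fun p => D.x F (refl p.1) ((eta p.1 : F) * p.2)).prod * N := by
  induction l with
  | nil => simp
  | cons p l ih =>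
    rw [List.map_cons, List.prod_cons, List.map_cons, List.prod_cons, ← mul_assoc, h.conj p.1 (hl p List.mem_cons_self),
      mul_assoc, ih fun q hq => hl q (List.mem_cons_of_mem _ hq), mul_assoc]

theorem eta_sq {eta : ℤ} (h : eta = 1 ∨ eta = -1) : ((eta : F)) * (eta : F) = 1 := by
  rcases h with rfl | rfl <;> simp

theorem commF_transport {N : Matrix D.Idx D.Idx F} {refl : ℕ → ℕ} {eta : ℕ → ℤ} (h : ConjRel D N refl eta)
    (r₁ s₁ : ℕ) (hr : r₁ < D.nroots) (hs : s₁ < D.nroots)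
    (hk : ∀ c ∈ D.commTerms r₁ s₁, c.1 < D.nroots)
    (hterms : D.commTerms (refl r₁) (refl s₁) = (D.commTerms r₁ s₁).map fun c =>
      (refl c.1, eta c.1 * c.2.1 * eta r₁ ^ c.2.2.1 * eta s₁ ^ c.2.2.2, c.2.2.1, c.2.2.2))
    (hc : CommF D F r₁ s₁) : CommF D F (refl r₁) (refl s₁) := by
  intro t u
  obtain ⟨N', hN'⟩ := h.inv
  have er := eta_sq (F := F) (h.sign r₁ hr)
  have es := eta_sq (F := F) (h.sign s₁ hs)
  set t₁ : F := (eta r₁ : F) * t with ht₁
  set u₁ : F := (eta s₁ : F) * u with hu₁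
  have ht : (eta r₁ : F) * t₁ = t := by rw [ht₁, ← mul_assoc, er, one_mul]
  have hu : (eta s₁ : F) * u₁ = u := by rw [hu₁, ← mul_assoc, es, one_mul]
  have key := hc t₁ u₁
  rw [CDatum.wordMat_commWord] at key
  -- multiply by N on the left
  have e1 : N * (D.x F s₁ u₁ * D.x F r₁ t₁) = D.x F (refl s₁) u * D.x F (refl r₁) t * N := by
    rw [← mul_assoc, h.conj s₁ hs, mul_assoc, h.conj r₁ hr, ← mul_assoc, ht, hu]
  have e2 : N * (D.x F r₁ t₁ * D.x F s₁ u₁ *
      ((D.commTerms r₁ s₁).map fun c => D.x F c.1 ((c.2.1 : F) * (-t₁) ^ c.2.2.1 * u₁ ^ c.2.2.2)).prod) =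
      D.x F (refl r₁) t * D.x F (refl s₁) u *
        ((D.commTerms r₁ s₁).map fun c => D.x F (refl c.1) ((eta c.1 : F) * ((c.2.1 : F) * (-t₁) ^ c.2.2.1 * u₁ ^ c.2.2.2))).prod * N := by
    have := h.conj_prod ((D.commTerms r₁ s₁).map fun c => (c.1, (c.2.1 : F) * (-t₁) ^ c.2.2.1 * u₁ ^ c.2.2.2))
      (by
        intro p hp
        simp only [List.mem_map] at hp
        obtain ⟨c, hc', rfl⟩ := hp
        exact hk c hc')
    simp only [List.map_map, Function.comp_def] at this
    rw [mul_assoc (D.x F r₁ t₁), ← mul_assoc N, h.conj r₁ hr, ht, mul_assoc, ← mul_assoc N, h.conj s₁ hs, hu,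
      mul_assoc, this]
    simp only [mul_assoc]
  have e3 := congrArg (fun M => N * M) key
  beta_reduce at e3
  rw [e1, e2] at e3
  have e4 := congrArg (fun M => M * N') e3
  simp only [mul_assoc, hN', mul_one] at e4
  rw [CDatum.wordMat_commWord, hterms, List.map_map, e4]
  simp only [mul_assoc]
  congr 3
  apply List.map_congr_left
  intro c _
  simp only [Function.comp_def]
  congr 1
  rw [ht₁, hu₁]
  push_cast
  have p1 : ∀ (e : ℤ) (he : e = 1 ∨ e = -1) (k : ℕ) (x : F), (-((e : F) * x)) ^ k = (e : F) ^ k * (-x) ^ k := by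
    intro e _ k x
    rw [← mul_pow]; congr 1; ring
  rw [p1 _ (h.sign r₁ hr), mul_pow]
  ring

end Transport

/-- The measure for the induction over pairs of roots (it decreases as the indices increase). -/
def rho (n r s : ℕ) : ℕ := (n - r) * (n + 1) + (n - s)

/-- The commutator formula for `(r, s)` follows from the one for `(w_i r, w_i s)` by conjugation with `n_{p_i}`. -/
def commStep (D : ChevalleyDatum) (refl : ℕ → ℕ → ℕ) (eta : ℕ → ℕ → ℤ) (i r s : ℕ) : Bool :=
  decide (refl i (refl i r) = r) && decide (refl i (refl i s) = s) &&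
  decide (refl i r < D.nroots) && decide (refl i s < D.nroots) &&
  decide (refl i s ≠ refl i r) && decide (refl i s ≠ D.neg (refl i r)) &&
  decide (rho D.nroots (refl i r) (refl i s) < rho D.nroots r s) &&
  ((D.commTerms (refl i r) (refl i s)).all fun c => decide (c.1 < D.nroots)) &&
  decide (D.commTerms r s = (D.commTerms (refl i r) (refl i s)).map fun c =>
    (refl i c.1, eta i c.1 * c.2.1 * eta i (refl i r) ^ c.2.2.1 * eta i (refl i s) ^ c.2.2.2, c.2.2.1, c.2.2.2))

/-- The check for the pair `(r, s)`: a conjugation step with the fundamental reflection `wit r s`, or brute force. -/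
def commOK (C : CDatum) (refl : ℕ → ℕ → ℕ) (eta : ℕ → ℕ → ℤ) (wit : ℕ → ℕ → ℕ) (r s : ℕ) : Bool :=
  cond (Nat.blt (wit r s) C.D.rank) (commStep C.D refl eta (wit r s) r s) (C.checkComm r s)

theorem commF_all {F : Type*} [Field F] (C : CDatum) (refl : ℕ → ℕ → ℕ) (eta : ℕ → ℕ → ℤ) (wit : ℕ → ℕ → ℕ)
    (hconj : ∀ i < C.D.rank, ∃ N : Matrix C.D.Idx C.D.Idx F, ConjRel C.D N (refl i) (eta i))
    (hok : ∀ r < C.D.nroots, ∀ s < C.D.nroots, s ≠ r → s ≠ C.D.neg r → commOK C refl eta wit r s = true) :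
    ∀ r < C.D.nroots, ∀ s < C.D.nroots, s ≠ r → s ≠ C.D.neg r → CommF C.D F r s := by
  suffices h : ∀ m r s, rho C.D.nroots r s = m → r < C.D.nroots → s < C.D.nroots → s ≠ r → s ≠ C.D.neg r →
      CommF C.D F r s from fun r hr s hs h1 h2 => h _ r s rfl hr hs h1 h2
  intro m
  induction m using Nat.strong_induction_on with
  | _ m ih =>
    intro r s hm hr hs h1 h2
    have hk := hok r hr s hs h1 h2
    unfold commOK at hk
    by_cases hw : Nat.blt (wit r s) C.D.rank = true
    · rw [hw, cond_true] at hk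
      simp only [commStep, Bool.and_eq_true, decide_eq_true_eq, List.all_eq_true] at hk
      obtain ⟨⟨⟨⟨⟨⟨⟨⟨e1, e2⟩, e3⟩, e4⟩, e5⟩, e6⟩, e7⟩, e8⟩, e9⟩ := hk
      have hi : wit r s < C.D.rank := by rwa [Nat.blt_eq] at hw
      obtain ⟨N, hN⟩ := hconj _ hi
      have hc := ih _ (hm ▸ e7) _ _ rfl e3 e4 e5 e6
      have := commF_transport hN _ _ e3 e4 e8 (by rw [e1, e2]; exact e9) hc
      rwa [e1, e2] at this
    · rw [Bool.not_eq_true] at hw
      rw [hw, cond_false] at hk
      exact C.commF_of_check r s hr hs hk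


theorem nMat_mul_nMat_neg {F : Type*} [Field F] (D : ChevalleyDatum)
    (hadd : ∀ r (t₁ t₂ : F), D.x F r t₁ * D.x F r t₂ = D.x F r (t₁ + t₂)) (r : ℕ) (c : F) :
    D.nMat F r c * D.nMat F r (-c) = 1 := by
  rw [nMat_eq_prod, nMat_eq_prod]
  simp only [List.prod_cons, List.prod_nil, mul_one]
  have e1 : D.x F r c * D.x F r (-c) = 1 := by rw [hadd, add_neg_cancel, CDatum.x_zero]
  have e2 : D.x F (D.neg r) (-c⁻¹) * D.x F (D.neg r) (-(-c)⁻¹) = 1 := by
    rw [hadd, inv_neg, neg_neg, neg_add_cancel, CDatum.x_zero]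
  calc D.x F r c * (D.x F (D.neg r) (-c⁻¹) * D.x F r c) * (D.x F r (-c) * (D.x F (D.neg r) (-(-c)⁻¹) * D.x F r (-c)))
      = D.x F r c * (D.x F (D.neg r) (-c⁻¹) * (D.x F r c * D.x F r (-c)) * D.x F (D.neg r) (-(-c)⁻¹)) * D.x F r (-c) := by
        simp only [mul_assoc]
    _ = 1 := by rw [e1, mul_one, e2, mul_one, e1]

theorem x_add_total {F : Type*} [Field F] (D : ChevalleyDatum)
    (hadd : ∀ r < D.nroots, ∀ (t₁ t₂ : F), D.x F r t₁ * D.x F r t₂ = D.x F r (t₁ + t₂)) :
    ∀ r (t₁ t₂ : F), D.x F r t₁ * D.x F r t₂ = D.x F r (t₁ + t₂) := by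
  intro r t₁ t₂
  by_cases hr : r < D.nroots
  · exact hadd r hr t₁ t₂
  · simp [ChevalleyDatum.x, hr]

namespace RelData

variable {C : CDatum} (R : RelData C)
include R

theorem eta_sign (i : ℕ) (hi : i < C.D.rank) (s : ℕ) (hs : s < C.D.nroots) : R.eta i s = 1 ∨ R.eta i s = -1 := by
  have := R.etaOk i hi s hs
  simp only [etaCheck, Bool.and_eq_true, Bool.or_eq_true, decide_eq_true_eq] at this
  exact this.1.1

theorem conjRel {F : Type*} [Field F] (i : ℕ) (hi : i < C.D.rank) :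
    ConjRel C.D (C.D.nMat F (C.D.simple i) 1) (R.refl i) (R.eta i) where
  inv := ⟨C.D.nMat F (C.D.simple i) (-1),
    nMat_mul_nMat_neg C.D (x_add_total C.D fun r hr => R.x_add r hr) _ 1⟩
  conj := by
    intro k hk t
    rw [R.nMat_simple i hi]
    exact C.nMatrix_mul_x i hi _ _ _ (fun j hj => R.cartI_eq i hi j hj) (fun s hs => R.refl_eq i hi s hs) k hk
      (R.refl_lt i hi k hk) (R.conj i hi k hk) t
  sign := R.eta_sign i hi

end RelData

/-- The check for the pair `(r, s)` coded by `k = r * n + s`. -/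
def commOKk (C : CDatum) (refl : ℕ → ℕ → ℕ) (eta : ℕ → ℕ → ℤ) (wit : ℕ → ℕ → ℕ) (r s : ℕ) : Bool :=
  decide (s = r) || decide (s = C.D.neg r) || commOK C refl eta wit r s

/-- Data for the commutator formula: a table of fundamental reflections and the kernel-checked steps. -/
structure CommData (C : CDatum) (R : RelData C) where
  wit : ℕ → ℕ → ℕ
  ok : ∀ r < C.D.nroots, ∀ s < C.D.nroots, commOKk C R.refl R.eta wit r s = true

/-- S1025 -/
theorem CommData.commF {C : CDatum} {R : RelData C} (K : CommData C R) {F : Type*} [Field F]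
    (r s : ℕ) (hr : r < C.D.nroots) (hs : s < C.D.nroots) (hrs : s ≠ r) (hneg : s ≠ C.D.neg r) (t u : F) :
    C.D.x F s u * C.D.x F r t = C.D.x F r t * C.D.x F s u * C.D.wordMat F (C.D.commWord F r s t u) := by
  refine commF_all C R.refl R.eta K.wit (fun i hi => ⟨_, R.conjRel i hi⟩) ?_ r hr s hs hrs hneg t u
  intro r hr s hs h1 h2
  have := K.ok r hr s hs
  simpa [commOKk, h1, h2] using this

end Cfsg.Agent.Lib.Helper3.ChevM
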