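import Mathlib
set_option autoImplicit false

namespace Cfsg.Agent.Lib.Helper3.ChevT

open Matrix

variable {ι : Type*} [Fintype ι] [DecidableEq ι] {R : Type*} [CommRing R] (pos : ι → ℕ)

/-- `A i j = 0` unless `pos j + k ≤ pos i`: the matrix is lower triangular with respect to `pos`, shifted by `k`. -/
def Shift (k : ℕ) (A : Matrix ι ι R) : Prop := ∀ i j, pos i < pos j + k → A i j = 0

variable {pos}

theorem Shift.mono {k k' : ℕ} {A : Matrix ι ι R} (h : Shift pos k' A) (hk : k ≤ k') : Shift pos k A :=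
  fun i j hij => h i j (by omega)

theorem Shift.add {k : ℕ} {A B : Matrix ι ι R} (hA : Shift pos k A) (hB : Shift pos k B) : Shift pos k (A + B) :=
  fun i j hij => by rw [Matrix.add_apply, hA i j hij, hB i j hij, add_zero]

theorem Shift.neg {k : ℕ} {A : Matrix ι ι R} (hA : Shift pos k A) : Shift pos k (-A) :=
  fun i j hij => by rw [Matrix.neg_apply, hA i j hij, neg_zero]

theorem Shift.sub {k : ℕ} {A B : Matrix ι ι R} (hA : Shift pos k A) (hB : Shift pos k B) : Shift pos k (A - B) :=
  fun i j hij => by rw [Matrix.sub_apply, hA i j hij, hB i j hij, sub_zero]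

theorem Shift.mul {a b : ℕ} {A B : Matrix ι ι R} (hA : Shift pos a A) (hB : Shift pos b B) :
    Shift pos (a + b) (A * B) := by
  intro i j hij
  rw [Matrix.mul_apply]
  apply Finset.sum_eq_zero
  intro m _
  by_cases h : pos i < pos m + a
  · rw [hA i m h, zero_mul]
  · rw [hB m j (by omega), mul_zero]

theorem shift_zero_one : Shift pos 0 (1 : Matrix ι ι R) := by
  intro i j hij
  rw [Matrix.one_apply_ne]
  rintro rfl
  omega

theorem shift_zero_diagonal (d : ι → R) : Shift pos 0 (Matrix.diagonal d) := by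
  intro i j hij
  rw [Matrix.diagonal_apply_ne]
  rintro rfl
  omega

theorem Shift.eq_zero {N : ℕ} (hN : ∀ i, pos i < N) {A : Matrix ι ι R} (hA : Shift pos N A) : A = 0 := by
  ext i j
  exact hA i j (by have := hN i; omega)

theorem Shift.pow {k : ℕ} {A : Matrix ι ι R} (hA : Shift pos k A) (m : ℕ) : Shift pos (k * m) (A ^ m) := by
  induction m with
  | zero => simpa using shift_zero_one
  | succ m ih =>
    rw [pow_succ, Nat.mul_succ]
    exact ih.mul hA

/-- A strictly triangular matrix is nilpotent. -/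
theorem Shift.pow_eq_zero {N : ℕ} (hN : ∀ i, pos i < N) {A : Matrix ι ι R} (hA : Shift pos 1 A) : A ^ N = 0 := by
  have := hA.pow N
  rw [one_mul] at this
  exact this.eq_zero hN

theorem shift_zero_iff (A : Matrix ι ι R) :
    Shift pos 0 A ↔ A.BlockTriangular (OrderDual.toDual ∘ pos) := by
  constructor
  · intro h i j hij
    exact h i j (by simpa using hij)
  · intro h i j hij
    exact h (by simpa using hij)

theorem Shift.inv {g : GL ι R} (hg : Shift pos 0 (g : Matrix ι ι R)) :
    Shift pos 0 ((g⁻¹ : GL ι R) : Matrix ι ι R) := by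
  rw [shift_zero_iff] at hg ⊢
  rw [Matrix.coe_units_inv]
  have : Invertible (g : Matrix ι ι R) := Units.invertible g
  exact Matrix.blockTriangular_inv_of_blockTriangular hg

/-- The diagonal of a product of triangular matrices. -/
theorem Shift.mul_diag (hpos : Function.Injective pos) {A B : Matrix ι ι R} (hA : Shift pos 0 A) (hB : Shift pos 0 B)
    (i : ι) : (A * B) i i = A i i * B i i := by
  rw [Matrix.mul_apply]
  apply Finset.sum_eq_single i
  · intro m _ hm
    have : pos m ≠ pos i := fun h => hm (hpos h)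
    by_cases h : pos i < pos m
    · rw [hA i m (by omega), zero_mul]
    · rw [hB m i (by omega), mul_zero]
  · intro h; exact absurd (Finset.mem_univ i) h

theorem shift_one_sub_one_iff (hpos : Function.Injective pos) (A : Matrix ι ι R) :
    Shift pos 1 (A - 1) ↔ Shift pos 0 A ∧ ∀ i, A i i = 1 := by
  constructor
  · intro h
    refine ⟨?_, fun i => ?_⟩
    · have := (h.mono (Nat.zero_le 1)).add (shift_zero_one (pos := pos) (R := R))
      simpa using this
    · have := h i i (by omega)
      rw [Matrix.sub_apply, Matrix.one_apply_eq, sub_eq_zero] at this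
      exact this
  · rintro ⟨h0, h1⟩ i j hij
    rw [Matrix.sub_apply]
    by_cases e : i = j
    · subst e; rw [h1, Matrix.one_apply_eq, sub_self]
    · have : pos i ≠ pos j := fun h => e (hpos h)
      rw [h0 i j (by omega), Matrix.one_apply_ne e, sub_zero]

/-- The subgroup of triangular invertible matrices. -/
def triSubgroup (pos : ι → ℕ) (R : Type*) [CommRing R] : Subgroup (GL ι R) where
  carrier := {g | Shift pos 0 (g : Matrix ι ι R)}
  mul_mem' := by
    intro a b ha hb
    simp only [Set.mem_ofPred_eq, Units.val_mul] at *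
    exact ha.mul hb
  one_mem' := by simpa using shift_zero_one
  inv_mem' := by
    intro a ha
    exact Shift.inv ha

theorem mem_triSubgroup (g : GL ι R) : g ∈ triSubgroup pos R ↔ Shift pos 0 (g : Matrix ι ι R) := Iff.rfl

/-- The subgroup of unitriangular matrices `g` with `g - 1` shifted by `k + 1`. -/
def utSubgroup (pos : ι → ℕ) (R : Type*) [CommRing R] (k : ℕ) : Subgroup (GL ι R) where
  carrier := {g | Shift pos (k + 1) ((g : Matrix ι ι R) - 1)}
  mul_mem' := by
    intro a b ha hb
    simp only [Set.mem_ofPred_eq, Units.val_mul] at *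
    have : (a : Matrix ι ι R) * b - 1 = ((a : Matrix ι ι R) - 1) * ((b : Matrix ι ι R) - 1) +
        ((a : Matrix ι ι R) - 1) + ((b : Matrix ι ι R) - 1) := by noncomm_ring
    rw [this]
    exact (((ha.mul hb).mono (by omega)).add ha).add hb
  one_mem' := by
    simp only [Set.mem_ofPred_eq, Units.val_one, sub_self]
    intro i j _; rfl
  inv_mem' := by
    intro a ha
    simp only [Set.mem_ofPred_eq] at *
    have h0 : Shift pos 0 (a : Matrix ι ι R) := by
      have := (ha.mono (Nat.zero_le _)).add (shift_zero_one (pos := pos) (R := R))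
      simpa using this
    have hinv := Shift.inv h0
    have : ((a⁻¹ : GL ι R) : Matrix ι ι R) - 1 = -(((a⁻¹ : GL ι R) : Matrix ι ι R) * ((a : Matrix ι ι R) - 1)) := by
      rw [mul_sub, mul_one, ← Units.val_mul, inv_mul_cancel, Units.val_one]
      noncomm_ring
    rw [this]
    have := (hinv.mul ha).neg
    simpa using this

theorem mem_utSubgroup (k : ℕ) (g : GL ι R) :
    g ∈ utSubgroup pos R k ↔ Shift pos (k + 1) ((g : Matrix ι ι R) - 1) := Iff.rfl

theorem utSubgroup_le_tri (k : ℕ) : utSubgroup pos R k ≤ triSubgroup pos R := by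
  intro g hg
  rw [mem_utSubgroup] at hg
  rw [mem_triSubgroup]
  have := (hg.mono (Nat.zero_le _)).add (shift_zero_one (pos := pos) (R := R))
  simpa using this

theorem utSubgroup_eq_bot {N : ℕ} (hN : ∀ i, pos i < N) (k : ℕ) (hk : N ≤ k + 1) : utSubgroup pos R k = ⊥ := by
  rw [eq_bot_iff]
  intro g hg
  rw [mem_utSubgroup] at hg
  have := (hg.mono hk).eq_zero hN
  rw [Subgroup.mem_bot]
  apply Units.ext
  rw [Units.val_one]
  exact sub_eq_zero.mp this

/-- Commutators go down the series. -/
theorem commutator_mem_utSubgroup {a b : ℕ} {x g : GL ι R} (hx : x ∈ utSubgroup pos R a) (hg : g ∈ utSubgroup pos R b) :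
    x * g * x⁻¹ * g⁻¹ ∈ utSubgroup pos R (a + b + 1) := by
  rw [mem_utSubgroup] at *
  have hxi := Shift.inv (utSubgroup_le_tri a hx)
  have hgi := Shift.inv (utSubgroup_le_tri b hg)
  have e : ((x * g * x⁻¹ * g⁻¹ : GL ι R) : Matrix ι ι R) - 1 =
      ((((x : Matrix ι ι R) - 1) * ((g : Matrix ι ι R) - 1) - ((g : Matrix ι ι R) - 1) * ((x : Matrix ι ι R) - 1)) *
        (((x⁻¹ : GL ι R) : Matrix ι ι R) * ((g⁻¹ : GL ι R) : Matrix ι ι R))) := by
    have h1 : ((x : Matrix ι ι R) - 1) * ((g : Matrix ι ι R) - 1) - ((g : Matrix ι ι R) - 1) * ((x : Matrix ι ι R) - 1) =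
        (x : Matrix ι ι R) * g - (g : Matrix ι ι R) * x := by noncomm_ring
    rw [h1, sub_mul]
    have h2 : (g : Matrix ι ι R) * x * (((x⁻¹ : GL ι R) : Matrix ι ι R) * ((g⁻¹ : GL ι R) : Matrix ι ι R)) = 1 := by
      rw [← Units.val_mul, ← Units.val_mul, ← Units.val_mul]
      simp [mul_assoc]
    rw [h2]
    simp [mul_assoc]
  rw [e]
  have := ((hx.mul hg).sub (hg.mul hx |>.mono (by omega))).mul (hxi.mul hgi)
  exact this.mono (by omega)

/-- A group of unitriangular matrices is nilpotent. -/
theorem isNilpotent_of_le_utSubgroup {N : ℕ} (hN : ∀ i, pos i < N) (G : Subgroup (GL ι R))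
    (hG : G ≤ utSubgroup pos R 0) : Group.IsNilpotent G := by
  rw [Subgroup.nilpotent_iff_finite_descending_central_series]
  refine ⟨N, fun k => (utSubgroup pos R k).subgroupOf G, ⟨?_, ?_⟩, ?_⟩
  · rw [Subgroup.subgroupOf_eq_top]; exact hG
  · intro x n hx g
    rw [Subgroup.mem_subgroupOf] at hx ⊢
    have hg : (g : GL ι R) ∈ utSubgroup pos R 0 := hG g.2
    have := commutator_mem_utSubgroup hx hg
    rw [commutatorElement_def]
    simpa using this
  · show (utSubgroup pos R N).subgroupOf G = ⊥
    rw [utSubgroup_eq_bot hN N (by omega)]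
    simp


theorem commutator_mem_utSubgroup_zero (hpos : Function.Injective pos) {g h : GL ι R}
    (hg : g ∈ triSubgroup pos R) (hh : h ∈ triSubgroup pos R) : g * h * g⁻¹ * h⁻¹ ∈ utSubgroup pos R 0 := by
  rw [mem_utSubgroup, zero_add, shift_one_sub_one_iff hpos]
  have hgi := Shift.inv hg
  have hhi := Shift.inv hh
  rw [mem_triSubgroup] at hg hh
  refine ⟨((hg.mul hh).mul hgi).mul hhi, fun i => ?_⟩
  have e1 : (g : Matrix ι ι R) i i * ((g⁻¹ : GL ι R) : Matrix ι ι R) i i = 1 := by
    rw [← Shift.mul_diag hpos hg hgi, ← Units.val_mul, mul_inv_cancel, Units.val_one, Matrix.one_apply_eq]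
  have e2 : (h : Matrix ι ι R) i i * ((h⁻¹ : GL ι R) : Matrix ι ι R) i i = 1 := by
    rw [← Shift.mul_diag hpos hh hhi, ← Units.val_mul, mul_inv_cancel, Units.val_one, Matrix.one_apply_eq]
  simp only [Units.val_mul]
  rw [Shift.mul_diag hpos ((hg.mul hh).mul hgi) hhi, Shift.mul_diag hpos (hg.mul hh) hgi, Shift.mul_diag hpos hg hh]
  calc (g : Matrix ι ι R) i i * (h : Matrix ι ι R) i i * ((g⁻¹ : GL ι R) : Matrix ι ι R) i i * ((h⁻¹ : GL ι R) : Matrix ι ι R) i i
      = ((g : Matrix ι ι R) i i * ((g⁻¹ : GL ι R) : Matrix ι ι R) i i) * ((h : Matrix ι ι R) i i * ((h⁻¹ : GL ι R) : Matrix ι ι R) i i) := by ring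
    _ = 1 := by rw [e1, e2, one_mul]

/-- A group of triangular matrices is solvable. -/
theorem isSolvable_of_le_triSubgroup (hpos : Function.Injective pos) {N : ℕ} (hN : ∀ i, pos i < N)
    (G : Subgroup (GL ι R)) (hG : G ≤ triSubgroup pos R) : Group.IsSolvable G := by
  have hnil : Group.IsNilpotent ↥(utSubgroup pos R 0 ⊓ G) := isNilpotent_of_le_utSubgroup hN _ inf_le_left
  have hsol : Group.IsSolvable ↥((utSubgroup pos R 0).subgroupOf G) := by
    have e : (utSubgroup pos R 0).subgroupOf G = (utSubgroup pos R 0 ⊓ G).subgroupOf G := by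
      rw [Subgroup.inf_subgroupOf_right]
    rw [e]
    exact Group.isSolvable_of_isSolvable_injective
      (f := (Subgroup.subgroupOfEquivOfLe (inf_le_right : utSubgroup pos R 0 ⊓ G ≤ G)).toMonoidHom)
      (Subgroup.subgroupOfEquivOfLe (inf_le_right : utSubgroup pos R 0 ⊓ G ≤ G)).injective
  refine Group.isSolvable_of_ker_le_range ((utSubgroup pos R 0).subgroupOf G).subtype (Abelianization.of (G := ↥G)) ?_
  rw [Abelianization.ker_of, Subgroup.range_subtype, commutator_def, Subgroup.commutator_le]
  intro a _ b _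
  rw [Subgroup.mem_subgroupOf, commutatorElement_def]
  have := commutator_mem_utSubgroup_zero hpos (hG a.2) (hG b.2)
  simpa using this

end Cfsg.Agent.Lib.Helper3.ChevT
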