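import Mathlib
import Cfsg.Prelude.Def_ChevStructure
import Cfsg.Agent.Lib.Helper3.ChevM9
import Cfsg.Agent.Lib.Helper3.ChevT1
set_option autoImplicit false
open Cfsg Cfsg.Lie

namespace Cfsg.Agent.Lib.Helper3.ChevM

open ChevT

/-- Position of a coordinate code in the triangular order: negative roots, then the `h_i`, then positive roots. -/
def posC (D : ChevalleyDatum) (c : ℕ) : ℕ :=
  if c < D.rank then D.nroots / 2 + c else if c - D.rank < D.nroots / 2 then c - D.rank else c

/-- Position of a coordinate index. -/
def posIdx (D : ChevalleyDatum) (j : D.Idx) : ℕ := posC D (code D j)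

theorem posIdx_lt (D : ChevalleyDatum) (j : D.Idx) : posIdx D j < D.rank + D.nroots := by
  have h := code_lt D j
  unfold posIdx posC
  split_ifs <;> omega

theorem posIdx_injective (D : ChevalleyDatum) : Function.Injective (posIdx D) := by
  intro j j' h
  apply code_injective D
  have h1 := code_lt D j
  have h2 := code_lt D j'
  unfold posIdx posC at h
  split_ifs at h <;> omega

/-- All off-diagonal entries of `x_r` lie strictly below the diagonal in the triangular order. -/
def triCheck (C : CDatum) (r : ℕ) : Bool :=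
  (List.range C.N).all fun c => (C.cols r c).all fun e => decide (posC C.D c < posC C.D e.row)

theorem shift_x_sub_one {F : Type*} [Field F] (C : CDatum) (r : ℕ) (hr : r < C.D.nroots) (h : triCheck C r = true)
    (t : F) : Shift (posIdx C.D) 1 (C.D.x F r t - 1) := by
  intro j col hjc
  unfold ChevalleyDatum.x
  rw [dif_pos hr, Matrix.sub_apply, xMat_entry, Matrix.one_apply, add_sub_cancel_left]
  unfold colSum
  apply List.sum_eq_zero
  intro x hx
  simp only [List.mem_map, List.mem_filter, decide_eq_true_eq] at hx
  obtain ⟨e, ⟨he, hrow⟩, rfl⟩ := hx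
  exfalso
  simp only [triCheck, List.all_eq_true, List.mem_range, decide_eq_true_eq] at h
  have := h (code C.D col) (code_lt C.D col) e (by rw [C.ok r hr _ (code_lt C.D col)]; exact he)
  rw [hrow] at this
  unfold posIdx at hjc
  omega

/-- Check that every positive root passes `triCheck`. -/
def posTri (C : CDatum) (r : ℕ) : Bool := !decide (C.D.IsPosRoot r) || triCheck C r

theorem posUnipotent_le_ut {F : Type*} [Field F] (C : CDatum) (h : ∀ r < C.D.nroots, posTri C r = true) :
    C.D.posUnipotent F ≤ utSubgroup (posIdx C.D) F 0 := by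
  unfold ChevalleyDatum.posUnipotent
  rw [Subgroup.closure_le]
  rintro g ⟨r, t, hpos, hg⟩
  have hr : r < C.D.nroots := hpos.1
  have := h r hr
  simp only [posTri, Bool.or_eq_true, Bool.not_eq_true', decide_eq_false_iff_not] at this
  rcases this with h1 | h1
  · exact absurd hpos h1
  · show Shift (posIdx C.D) (0 + 1) ((g : Matrix C.D.Idx C.D.Idx F) - 1)
    rw [hg, zero_add]
    exact shift_x_sub_one C r hr h1 t

/-- S1028 -/
theorem posUnipotent_unipotent {F : Type*} [Field F] (C : CDatum) (h : ∀ r < C.D.nroots, posTri C r = true)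
    (g : GL C.D.Idx F) (hg : g ∈ C.D.posUnipotent F) :
    ((g : Matrix C.D.Idx C.D.Idx F) - 1) ^ (C.D.rank + C.D.nroots) = 0 := by
  have := posUnipotent_le_ut C h hg
  rw [mem_utSubgroup, zero_add] at this
  exact this.pow_eq_zero (posIdx_lt C.D)

/-- S1029 -/
theorem posUnipotent_nilpotent {F : Type*} [Field F] (C : CDatum) (h : ∀ r < C.D.nroots, posTri C r = true) :
    Group.IsNilpotent (C.D.posUnipotent F) :=
  isNilpotent_of_le_utSubgroup (posIdx_lt C.D) _ (posUnipotent_le_ut C h)

theorem diagonalSubgroup_le_tri {F : Type*} [Field F] {C : CDatum} (R : RelData C) :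
    C.D.diagonalSubgroup F ≤ triSubgroup (posIdx C.D) F := by
  unfold ChevalleyDatum.diagonalSubgroup
  rw [Subgroup.closure_le]
  rintro g ⟨r, t, hr, ht, hg⟩
  show Shift (posIdx C.D) 0 (g : Matrix C.D.Idx C.D.Idx F)
  rw [hg, R.hMat_diag r hr t ht]
  exact shift_zero_diagonal _

/-- S1050 -/
theorem borel_solvable {F : Type*} [Field F] {C : CDatum} (R : RelData C) (h : ∀ r < C.D.nroots, posTri C r = true) :
    Group.IsSolvable ↥(C.D.borelSubgroup F) := by
  apply isSolvable_of_le_triSubgroup (posIdx_injective C.D) (posIdx_lt C.D)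
  unfold ChevalleyDatum.borelSubgroup
  exact sup_le ((posUnipotent_le_ut C h).trans (utSubgroup_le_tri 0)) (diagonalSubgroup_le_tri R)

end Cfsg.Agent.Lib.Helper3.ChevM
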