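import Mathlib
import Cfsg.Prelude.Def_ChevStructure
import Cfsg.Agent.Lib.Helper3.ChevT2
set_option autoImplicit false
open Cfsg Cfsg.Lie

namespace Cfsg.Agent.Lib.Helper3.ChevM

/-- Table facts about the roots: signs of roots and the negation map. -/
def rootCheck (D : ChevalleyDatum) (r : ℕ) : Bool :=
  (decide (D.IsPosRoot r) || decide (D.IsPosRoot (D.neg r))) && decide (D.neg (D.neg r) = r)

namespace CDatum

variable (C : CDatum)

/-- Check `n_r(1) x_r(t) = x_{-r}(-t) n_r(1)`. -/
def checkNegConj (r : ℕ) : Bool :=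
  checkMW C.N (C.nW r 1 0 ++ [C.xMono r 1 1 0]) ([C.xMono (C.D.neg r) (-1) 1 0] ++ C.nW r 1 0)

theorem nMat_mul_x_self {F : Type*} [Field F] (r : ℕ) (hr : r < C.D.nroots) (hn : C.D.neg r < C.D.nroots)
    (h : C.checkNegConj r = true) (t : F) :
    C.D.nMat F r 1 * C.D.x F r t = C.D.x F (C.D.neg r) (-t) * C.D.nMat F r 1 := by
  by_cases ht : t = 0
  · subst ht; rw [neg_zero, x_zero, x_zero, mul_one, one_mul]
  rw [nMat_eq_prod]
  have h2 := C.forall₂_nW_const (F := F) t 1 r hr hn 1 (Or.inl rfl)
  have key := prod_eq_of_checkMW t (1 : F) ht one_ne_zero C.D _ _ _ _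
    (List.rel_append h2 (List.Forall₂.cons (C.repr_x t 1 r hr 1 1 0 t (by simp)) List.Forall₂.nil))
    (List.rel_append (List.Forall₂.cons (C.repr_x t 1 _ hn (-1) 1 0 (-t) (by simp)) List.Forall₂.nil) h2) h
  simpa [mul_assoc] using key

end CDatum

section Units
variable {F : Type*} [Field F] {C : CDatum} (R : RelData C)
include R

/-- The root element `x_r(t)` as an element of the general linear group. -/
def RelData.xU (r : ℕ) (t : F) : GL C.D.Idx F where
  val := C.D.x F r t
  inv := C.D.x F r (-t)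
  val_inv := by rw [x_add_total C.D (fun r hr => R.x_add r hr), add_neg_cancel, CDatum.x_zero]
  inv_val := by rw [x_add_total C.D (fun r hr => R.x_add r hr), neg_add_cancel, CDatum.x_zero]

@[simp] theorem RelData.xU_val (r : ℕ) (t : F) : ((R.xU r t : GL C.D.Idx F) : Matrix C.D.Idx C.D.Idx F) = C.D.x F r t := rfl

theorem RelData.xU_mem_group (r : ℕ) (hr : r < C.D.nroots) (t : F) : R.xU r t ∈ C.D.group F := by
  apply Subgroup.subset_closure
  refine ⟨⟨r, hr⟩, t, ?_⟩
  simp [ChevalleyDatum.x, hr]

/-- The product of a word as an element of the general linear group. -/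
def RelData.wordU (w : List (ℕ × F)) : GL C.D.Idx F := (w.map fun p => R.xU p.1 p.2).prod

theorem RelData.wordU_val (w : List (ℕ × F)) :
    ((R.wordU w : GL C.D.Idx F) : Matrix C.D.Idx C.D.Idx F) = C.D.wordMat F w := by
  unfold RelData.wordU ChevalleyDatum.wordMat
  induction w with
  | nil => simp
  | cons p w ih => simp [ih]

theorem RelData.wordU_mem_group (w : List (ℕ × F)) (hw : ∀ p ∈ w, p.1 < C.D.nroots) : R.wordU w ∈ C.D.group F := by
  unfold RelData.wordU
  apply Subgroup.list_prod_mem
  intro x hx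
  simp only [List.mem_map] at hx
  obtain ⟨p, hp, rfl⟩ := hx
  exact R.xU_mem_group p.1 (hw p hp) p.2

theorem RelData.mem_group_of_val_eq_wordMat (g : GL C.D.Idx F) (w : List (ℕ × F)) (hw : ∀ p ∈ w, p.1 < C.D.nroots)
    (hg : (g : Matrix C.D.Idx C.D.Idx F) = C.D.wordMat F w) : g ∈ C.D.group F := by
  have : g = R.wordU w := Units.ext (by rw [hg, R.wordU_val])
  rw [this]
  exact R.wordU_mem_group w hw

theorem RelData.posUnipotent_le_group : C.D.posUnipotent F ≤ C.D.group F := by
  unfold ChevalleyDatum.posUnipotent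
  rw [Subgroup.closure_le]
  rintro g ⟨r, t, hpos, hg⟩
  exact R.mem_group_of_val_eq_wordMat g [(r, t)] (by simpa using hpos.1) (by simp [ChevalleyDatum.wordMat, hg])

theorem RelData.diagonalSubgroup_le_group : C.D.diagonalSubgroup F ≤ C.D.group F := by
  unfold ChevalleyDatum.diagonalSubgroup
  rw [Subgroup.closure_le]
  rintro g ⟨r, t, hr, _, hg⟩
  refine R.mem_group_of_val_eq_wordMat g (C.D.hWord r t) ?_ hg
  intro p hp
  simp only [ChevalleyDatum.hWord, ChevalleyDatum.nWord, List.mem_append, List.mem_cons, List.not_mem_nil, or_false] at hp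
  have hn := R.neg_lt r hr
  rcases hp with (rfl | rfl | rfl) | (rfl | rfl | rfl) <;> assumption

theorem RelData.monomialSubgroup_le_group : C.D.monomialSubgroup F ≤ C.D.group F := by
  unfold ChevalleyDatum.monomialSubgroup
  refine sup_le R.diagonalSubgroup_le_group ?_
  rw [Subgroup.closure_le]
  rintro g ⟨r, hr, hg⟩
  refine R.mem_group_of_val_eq_wordMat g (C.D.nWord r 1) ?_ hg
  intro p hp
  simp only [ChevalleyDatum.nWord, List.mem_cons, List.not_mem_nil, or_false] at hp
  have hn := R.neg_lt r hr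
  rcases hp with rfl | rfl | rfl <;> assumption

/-- S1043 -/
theorem RelData.borel_sup_monomial (hroot : ∀ r < C.D.nroots, rootCheck C.D r = true)
    (hnc : ∀ r < C.D.nroots, C.checkNegConj r = true) :
    C.D.borelSubgroup F ≤ C.D.group F ∧ C.D.monomialSubgroup F ≤ C.D.group F ∧
      C.D.borelSubgroup F ⊔ C.D.monomialSubgroup F = C.D.group F := by
  have hB : C.D.borelSubgroup F ≤ C.D.group F := sup_le R.posUnipotent_le_group R.diagonalSubgroup_le_group
  refine ⟨hB, R.monomialSubgroup_le_group, le_antisymm (sup_le hB R.monomialSubgroup_le_group) ?_⟩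
  unfold ChevalleyDatum.group
  rw [Subgroup.closure_le]
  rintro g ⟨r, t, hg⟩
  have hr := r.isLt
  have hgx : (g : Matrix C.D.Idx C.D.Idx F) = C.D.x F r.val t := by
    rw [hg]; simp [ChevalleyDatum.x, hr]
  have hU : ∀ (s : ℕ) (u : F), C.D.IsPosRoot s → R.xU s u ∈ C.D.borelSubgroup F ⊔ C.D.monomialSubgroup F := by
    intro s u hs
    apply Subgroup.mem_sup_left
    apply Subgroup.mem_sup_left
    apply Subgroup.subset_closure
    exact ⟨s, u, hs, rfl⟩
  have hrc := hroot r.val hr
  simp only [rootCheck, Bool.and_eq_true, Bool.or_eq_true, decide_eq_true_eq] at hrc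
  obtain ⟨hpn, hnn⟩ := hrc
  rcases hpn with hp | hp
  · have : g = R.xU r.val t := Units.ext hgx
    rw [this]; exact hU _ _ hp
  · -- r is negative: conjugate by n_s with s = neg r
    set s := C.D.neg r.val with hs_def
    have hs : s < C.D.nroots := R.neg_lt _ hr
    have hns : C.D.neg s < C.D.nroots := R.neg_lt _ hs
    let n : GL C.D.Idx F := R.wordU (C.D.nWord s 1)
    have hnval : (n : Matrix C.D.Idx C.D.Idx F) = C.D.nMat F s 1 := R.wordU_val _
    have hn : n ∈ C.D.borelSubgroup F ⊔ C.D.monomialSubgroup F := by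
      apply Subgroup.mem_sup_right
      apply Subgroup.mem_sup_right
      apply Subgroup.subset_closure
      exact ⟨s, hs, hnval⟩
    have key : n * R.xU s (-t) = g * n := by
      apply Units.ext
      rw [Units.val_mul, Units.val_mul, hnval, R.xU_val, hgx, C.nMat_mul_x_self s hs hns (hnc s hs), neg_neg, hnn]
    have : g = n * R.xU s (-t) * n⁻¹ := by rw [key]; group
    rw [this]
    exact Subgroup.mul_mem _ (Subgroup.mul_mem _ hn (hU _ _ hp)) (Subgroup.inv_mem _ hn)

end Units

end Cfsg.Agent.Lib.Helper3.ChevM
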