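import Mathlib
import Cfsg.Prelude.Def_ChevStructure
import Cfsg.Agent.Lib.Helper3.ChevG1
set_option autoImplicit false
open Cfsg Cfsg.Lie

namespace Cfsg.Agent.Lib.Helper3.ChevM

open ChevT

/-- The coroot of `r` decomposes along the fundamental coroots, on the level of the pairing table. -/
def hdecCheck (D : ChevalleyDatum) (pair : ℕ → ℕ → ℤ) (r s : ℕ) : Bool :=
  decide (pair r s = ((List.range D.rank).map fun i => (D.coroot.getD r #[]).getD i 0 * pair (D.simple i) s).sum)

theorem wordMat_append {F : Type*} [Field F] (D : ChevalleyDatum) (w1 w2 : List (ℕ × F)) :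
    D.wordMat F (w1 ++ w2) = D.wordMat F w1 * D.wordMat F w2 := by
  simp [ChevalleyDatum.wordMat]

theorem wordMat_flatMap_hWord {F : Type*} [Field F] (D : ChevalleyDatum) (l : List ℕ) (c : ℕ → F) :
    D.wordMat F (l.flatMap fun i => D.hWord (D.simple i) (c i)) =
      (l.map fun i => D.hMat F (D.simple i) (c i)).prod := by
  induction l with
  | nil => simp [ChevalleyDatum.wordMat]
  | cons i l ih =>
    rw [List.flatMap_cons, wordMat_append, ih, List.map_cons, List.prod_cons]
    rfl

theorem list_prod_diagonal {F : Type*} [Field F] {ι α : Type*} [Fintype ι] [DecidableEq ι] (l : List α)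
    (d : α → ι → F) :
    (l.map fun i => Matrix.diagonal (d i)).prod = Matrix.diagonal fun j => (l.map fun i => d i j).prod := by
  induction l with
  | nil => simp
  | cons i l ih =>
    rw [List.map_cons, List.prod_cons, ih, Matrix.diagonal_mul_diagonal]
    simp

section
variable {F : Type*} [Field F] {C : CDatum} (R : RelData C)

/-- The diagonal entries of `∏ h_{p_i}(c_i)`. -/
def RelData.torusExp (c : ℕ → F) (j : C.D.Idx) : F :=
  ((List.range C.D.rank).map fun i => c i ^ C.expo R.pair (C.D.simple i) (code C.D j)).prod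

include R in
theorem RelData.hProd_eq_diag (c : ℕ → F) (hc : ∀ i < C.D.rank, c i ≠ 0) :
    ((List.range C.D.rank).map fun i => C.D.hMat F (C.D.simple i) (c i)).prod = Matrix.diagonal (R.torusExp c) := by
  have : (List.range C.D.rank).map (fun i => C.D.hMat F (C.D.simple i) (c i)) =
      (List.range C.D.rank).map (fun i => Matrix.diagonal fun j => c i ^ C.expo R.pair (C.D.simple i) (code C.D j)) := by
    apply List.map_congr_left
    intro i hi
    rw [List.mem_range] at hi
    exact R.hMat_diag _ (R.simple_lt i hi) (c i) (hc i hi)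
  rw [this, list_prod_diagonal]
  rfl

theorem RelData.torusExp_mul (c c' : ℕ → F) (j : C.D.Idx) :
    R.torusExp (fun i => c i * c' i) j = R.torusExp c j * R.torusExp c' j := by
  unfold RelData.torusExp
  generalize List.range C.D.rank = l
  induction l with
  | nil => simp
  | cons i l ih =>
    rw [List.map_cons, List.prod_cons, List.map_cons, List.prod_cons, List.map_cons, List.prod_cons, ih, mul_zpow]
    ring

theorem RelData.torusExp_one (j : C.D.Idx) : R.torusExp (fun _ => (1 : F)) j = 1 := by
  unfold RelData.torusExp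
  generalize List.range C.D.rank = l
  induction l with
  | nil => simp
  | cons i l ih => simp

/-- The subgroup of the matrices `∏ h_{p_i}(c_i)`. -/
def RelData.torus (R : RelData C) (F : Type*) [Field F] : Subgroup (GL C.D.Idx F) where
  carrier := {g | ∃ c : ℕ → F, (∀ i < C.D.rank, c i ≠ 0) ∧ (g : Matrix C.D.Idx C.D.Idx F) = Matrix.diagonal (R.torusExp c)}
  mul_mem' := by
    rintro a b ⟨c, hc, ha⟩ ⟨c', hc', hb⟩
    refine ⟨fun i => c i * c' i, fun i hi => mul_ne_zero (hc i hi) (hc' i hi), ?_⟩
    rw [Units.val_mul, ha, hb, Matrix.diagonal_mul_diagonal]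
    congr 1
    funext j
    rw [R.torusExp_mul]
  one_mem' := ⟨fun _ => 1, fun _ _ => one_ne_zero, by
    rw [Units.val_one]
    have : R.torusExp (fun _ => (1 : F)) = fun _ => 1 := funext fun j => R.torusExp_one j
    rw [this, Matrix.diagonal_one]⟩
  inv_mem' := by
    rintro a ⟨c, hc, ha⟩
    refine ⟨fun i => (c i)⁻¹, fun i hi => inv_ne_zero (hc i hi), ?_⟩
    have h1 : (a : Matrix C.D.Idx C.D.Idx F) * Matrix.diagonal (R.torusExp fun i => (c i)⁻¹) = 1 := by
      rw [ha, Matrix.diagonal_mul_diagonal]
      have : (fun j => R.torusExp c j * R.torusExp (fun i => (c i)⁻¹) j) = fun _ => (1 : F) := by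
        funext j
        rw [← R.torusExp_mul]
        unfold RelData.torusExp
        apply List.prod_eq_one
        intro x hx
        simp only [List.mem_map, List.mem_range] at hx
        obtain ⟨i, hi, rfl⟩ := hx
        rw [mul_inv_cancel₀ (hc i hi), one_zpow]
      rw [this, Matrix.diagonal_one]
    have h2 : ((a⁻¹ : GL C.D.Idx F) : Matrix C.D.Idx C.D.Idx F) =
        ((a⁻¹ : GL C.D.Idx F) : Matrix C.D.Idx C.D.Idx F) * ((a : Matrix C.D.Idx C.D.Idx F) * Matrix.diagonal (R.torusExp fun i => (c i)⁻¹)) := by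
      rw [h1, mul_one]
    rw [h2, ← mul_assoc, ← Units.val_mul, inv_mul_cancel, Units.val_one, one_mul]

theorem zpow_list_sum' (t : F) (ht : t ≠ 0) (l : List ℕ) (k e : ℕ → ℤ) :
    (l.map fun i => (t ^ k i) ^ e i).prod = t ^ (l.map fun i => k i * e i).sum := by
  induction l with
  | nil => simp
  | cons i l ih =>
    rw [List.map_cons, List.prod_cons, ih, List.map_cons, List.sum_cons, zpow_add₀ ht, zpow_mul]

include R in
theorem RelData.diagonalSubgroup_le_torus (hdec : ∀ r < C.D.nroots, ∀ s < C.D.nroots, hdecCheck C.D R.pair r s = true) :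
    C.D.diagonalSubgroup F ≤ R.torus F := by
  unfold ChevalleyDatum.diagonalSubgroup
  rw [Subgroup.closure_le]
  rintro g ⟨r, t, hr, ht, hg⟩
  refine ⟨fun i => t ^ ((C.D.coroot.getD r #[]).getD i 0), fun i _ => zpow_ne_zero _ ht, ?_⟩
  rw [hg, R.hMat_diag r hr t ht]
  congr 1
  funext j
  unfold RelData.torusExp
  rw [zpow_list_sum' t ht]
  congr 1
  rcases j with j | s
  · have : Nat.blt j.val C.D.rank = true := by rw [Nat.blt_eq]; exact j.isLt
    simp [CDatum.expo, code, this]
  · have h1 : Nat.blt (C.D.rank + s.val) C.D.rank = false := by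
      rw [← Bool.not_eq_true, Nat.blt_eq]; omega
    have h2 : C.D.rank + s.val - C.D.rank = s.val := by omega
    have := hdec r hr s.val s.isLt
    simp only [hdecCheck, decide_eq_true_eq] at this
    simp only [CDatum.expo, code, h1, cond_false, h2]
    exact this

/-- S1034 -/
theorem RelData.diagonalSubgroup_word (hdec : ∀ r < C.D.nroots, ∀ s < C.D.nroots, hdecCheck C.D R.pair r s = true)
    (g : GL C.D.Idx F) (hg : g ∈ C.D.diagonalSubgroup F) :
    ∃ c : ℕ → F, (∀ i < C.D.rank, c i ≠ 0) ∧
      (g : Matrix C.D.Idx C.D.Idx F) =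
        C.D.wordMat F ((List.range C.D.rank).flatMap fun i => C.D.hWord (C.D.simple i) (c i)) := by
  obtain ⟨c, hc, hgc⟩ := R.diagonalSubgroup_le_torus hdec hg
  exact ⟨c, hc, by rw [hgc, wordMat_flatMap_hWord, R.hProd_eq_diag c hc]⟩

end

end Cfsg.Agent.Lib.Helper3.ChevM
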