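import Mathlib
import Cfsg.Prelude.Def_ChevStructure
import Cfsg.Agent.Lib.Helper3.ChevG2
import Cfsg.Agent.Lib.Helper3.ChevM9
set_option autoImplicit false
open Cfsg Cfsg.Lie

namespace Cfsg.Agent.Lib.Helper3.ChevM

open ChevT

theorem mem_normalizer_closure' {G : Type*} [Group G] {g : G} {s : Set G}
    (h1 : ∀ u ∈ s, g * u * g⁻¹ ∈ Subgroup.closure s) (h2 : ∀ u ∈ s, g⁻¹ * u * g ∈ Subgroup.closure s) :
    g ∈ Subgroup.normalizer (Subgroup.closure s : Set G) := by
  rw [Subgroup.mem_normalizer_iff_map_conj_eq, MonoidHom.map_closure]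
  apply le_antisymm
  · rw [Subgroup.closure_le]
    rintro _ ⟨u, hu, rfl⟩
    exact h1 u hu
  · rw [Subgroup.closure_le, ← MonoidHom.map_closure]
    intro u hu
    refine ⟨g⁻¹ * u * g, h2 u hu, ?_⟩
    simp [mul_assoc]

section
variable {F : Type*} [Field F] {C : CDatum} (R : RelData C)

include R in
theorem RelData.hList_mul_x (l : List ℕ) (hl : ∀ i ∈ l, i < C.D.rank) (c : ℕ → F) (hc : ∀ i ∈ l, c i ≠ 0)
    (s : ℕ) (hs : s < C.D.nroots) (t : F) :
    (l.map fun i => C.D.hMat F (C.D.simple i) (c i)).prod * C.D.x F s t =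
      C.D.x F s ((l.map fun i => c i ^ C.D.cartan i s).prod * t) *
        (l.map fun i => C.D.hMat F (C.D.simple i) (c i)).prod := by
  induction l with
  | nil => simp
  | cons i l ih =>
    have hi := hl i List.mem_cons_self
    rw [List.map_cons, List.prod_cons, List.map_cons, List.prod_cons, mul_assoc,
      ih (fun j hj => hl j (List.mem_cons_of_mem _ hj)) (fun j hj => hc j (List.mem_cons_of_mem _ hj)),
      ← mul_assoc, R.hMat_mul_x i s hi hs (c i) (hc i List.mem_cons_self), mul_assoc, mul_assoc]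

include R in
/-- S1036 -/
theorem RelData.diagonal_normalizes
    (hdec : ∀ r < C.D.nroots, ∀ s < C.D.nroots, hdecCheck C.D R.pair r s = true)
    (htri : ∀ r < C.D.nroots, posTri C r = true) :
    C.D.diagonalSubgroup F ≤ Subgroup.normalizer (C.D.posUnipotent F : Set (GL C.D.Idx F)) ∧
      C.D.posUnipotent F ⊓ C.D.diagonalSubgroup F = ⊥ := by
  constructor
  · unfold ChevalleyDatum.posUnipotent
    rw [Subgroup.le_normalizer_closure_iff]
    rintro h hh g ⟨s, t, hs, hg⟩
    obtain ⟨c, hc, hh'⟩ := R.diagonalSubgroup_le_torus hdec hh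
    have hprod : (h : Matrix C.D.Idx C.D.Idx F) =
        ((List.range C.D.rank).map fun i => C.D.hMat F (C.D.simple i) (c i)).prod := by
      rw [hh', R.hProd_eq_diag c hc]
    have key := R.hList_mul_x (List.range C.D.rank) (fun i hi => List.mem_range.mp hi) c
      (fun i hi => hc i (List.mem_range.mp hi)) s hs.1 t
    rw [← hprod] at key
    apply Subgroup.subset_closure
    refine ⟨s, ((List.range C.D.rank).map fun i => c i ^ C.D.cartan i s).prod * t, hs, ?_⟩
    rw [Units.val_mul, Units.val_mul, hg, key, mul_assoc, ← Units.val_mul, mul_inv_cancel, Units.val_one, mul_one]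
  · rw [eq_bot_iff]
    rintro g ⟨hgU, hgH⟩
    rw [Subgroup.mem_bot]
    have h1 := posUnipotent_le_ut C htri hgU
    rw [mem_utSubgroup, zero_add] at h1
    have h2 : Shift (fun j => (C.D.rank + C.D.nroots) - posIdx C.D j) 0 (g : Matrix C.D.Idx C.D.Idx F) := by
      obtain ⟨c, _, hg'⟩ := R.diagonalSubgroup_le_torus hdec hgH
      rw [hg']
      exact shift_zero_diagonal _
    apply Units.ext
    rw [Units.val_one]
    ext a b
    by_cases hab : posIdx C.D a < posIdx C.D b + 1
    · have := h1 a b hab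
      rw [Matrix.sub_apply, sub_eq_zero] at this
      exact this
    · have hlt : posIdx C.D b < posIdx C.D a := by omega
      have ha := posIdx_lt C.D a
      have hne : a ≠ b := by
        rintro rfl; omega
      rw [Matrix.one_apply_ne hne]
      apply h2 a b
      show (C.D.rank + C.D.nroots) - posIdx C.D a < (C.D.rank + C.D.nroots) - posIdx C.D b + 0
      omega

end

/-- Table check for `U_p`: the roots in the commutator formula of `x_{±p}` with `x_s`, `s` positive and `s ≠ p`,
are positive and different from `p`. -/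
def upCheck (D : ChevalleyDatum) (i s : ℕ) : Bool :=
  decide (D.IsPosRoot (D.simple i)) && decide (D.neg (D.neg (D.simple i)) = D.simple i) &&
  (!(decide (D.IsPosRoot s) && decide (s ≠ D.simple i)) ||
    (decide (s ≠ D.neg (D.simple i)) &&
     ((D.commTerms (D.simple i) s).all fun c => decide (D.IsPosRoot c.1) && decide (c.1 ≠ D.simple i)) &&
     ((D.commTerms (D.neg (D.simple i)) s).all fun c => decide (D.IsPosRoot c.1) && decide (c.1 ≠ D.simple i))))

section
variable {F : Type*} [Field F] {C : CDatum} {R : RelData C} (K : CommData C R)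

include K in
/-- S1045 -/
theorem CommData.up_normal (hup : ∀ i < C.D.rank, ∀ s < C.D.nroots, upCheck C.D i s = true) (i : ℕ) (hi : i < C.D.rank) :
    C.D.rootSubgroup F (C.D.simple i) ⊔ C.D.rootSubgroup F (C.D.neg (C.D.simple i)) ≤
        Subgroup.normalizer (Subgroup.closure {g : GL C.D.Idx F | ∃ (s : ℕ) (t : F), C.D.IsPosRoot s ∧ s ≠ C.D.simple i ∧
          (g : Matrix C.D.Idx C.D.Idx F) = C.D.x F s t} : Set (GL C.D.Idx F)) ∧
      Subgroup.closure {g : GL C.D.Idx F | ∃ (s : ℕ) (t : F), C.D.IsPosRoot s ∧ s ≠ C.D.simple i ∧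
          (g : Matrix C.D.Idx C.D.Idx F) = C.D.x F s t} ⊔ C.D.rootSubgroup F (C.D.simple i) = C.D.posUnipotent F := by
  set p := C.D.simple i with hp
  have hpl : p < C.D.nroots := R.simple_lt i hi
  have hnpl : C.D.neg p < C.D.nroots := R.neg_lt p hpl
  have h0 := hup i hi p hpl
  simp only [upCheck, Bool.and_eq_true, decide_eq_true_eq] at h0
  obtain ⟨⟨hpos, hnn⟩, -⟩ := h0
  set Sp : Set (GL C.D.Idx F) := {g : GL C.D.Idx F | ∃ (s : ℕ) (t : F), C.D.IsPosRoot s ∧ s ≠ p ∧
          (g : Matrix C.D.Idx C.D.Idx F) = C.D.x F s t} with hSp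
  -- conjugation of a generator of `U_p` by `x_r(t)`, `r = ±p`
  have conj : ∀ r, (r = p ∨ r = C.D.neg p) → ∀ (t : F), ∀ u ∈ Sp, R.xU r t * u * (R.xU r t)⁻¹ ∈ Subgroup.closure Sp := by
    rintro r hr t u ⟨s, t', hs, hsp, hu⟩
    have hsl : s < C.D.nroots := hs.1
    have hc := hup i hi s hsl
    simp only [upCheck, Bool.and_eq_true, Bool.or_eq_true, Bool.not_eq_true', decide_eq_true_eq,
      decide_eq_false_iff_not, List.all_eq_true, Bool.and_eq_false_imp] at hc
    obtain ⟨-, hc⟩ := hc
    rcases hc with hc | ⟨⟨hsn, hc1⟩, hc2⟩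
    · exact absurd hsp (by simpa using hc hs)
    have hrl : r < C.D.nroots := by rcases hr with rfl | rfl <;> assumption
    have hsr : s ≠ r := by rcases hr with rfl | rfl <;> assumption
    have hsnr : s ≠ C.D.neg r := by
      rcases hr with rfl | rfl
      · exact hsn
      · rw [hnn]; exact hsp
    have hterms : ∀ c ∈ C.D.commTerms r s, C.D.IsPosRoot c.1 ∧ c.1 ≠ p := by
      rcases hr with rfl | rfl
      · exact hc1
      · exact hc2
    have hcomm := K.commF (F := F) r s hrl hsl hsr hsnr (-t) t'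
    have hval : R.xU r t * u * (R.xU r t)⁻¹ = R.xU s t' * R.wordU (C.D.commWord F r s (-t) t') := by
      apply Units.ext
      have hinv : (((R.xU r t)⁻¹ : GL C.D.Idx F) : Matrix C.D.Idx C.D.Idx F) = C.D.x F r (-t) := rfl
      rw [Units.val_mul, Units.val_mul, hinv, hu, Units.val_mul, R.wordU_val, R.xU_val, R.xU_val, mul_assoc, hcomm,
        ← mul_assoc, ← mul_assoc, x_add_total C.D (fun r hr => R.x_add r hr), add_neg_cancel, CDatum.x_zero, one_mul]
    rw [hval]
    apply Subgroup.mul_mem
    · exact Subgroup.subset_closure ⟨s, t', hs, hsp, rfl⟩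
    · unfold RelData.wordU
      apply Subgroup.list_prod_mem
      intro x hx
      simp only [List.mem_map] at hx
      obtain ⟨q, hq, rfl⟩ := hx
      simp only [ChevalleyDatum.commWord, List.mem_map] at hq
      obtain ⟨c, hc, rfl⟩ := hq
      exact Subgroup.subset_closure ⟨c.1, _, (hterms c hc).1, (hterms c hc).2, rfl⟩
  have hroot : ∀ r, (r = p ∨ r = C.D.neg p) → C.D.rootSubgroup F r ≤ Subgroup.normalizer (Subgroup.closure Sp : Set (GL C.D.Idx F)) := by
    intro r hr
    unfold ChevalleyDatum.rootSubgroup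
    rw [Subgroup.closure_le]
    rintro g ⟨t, hg⟩
    have : g = R.xU r t := Units.ext hg
    rw [this]
    apply mem_normalizer_closure'
    · exact conj r hr t
    · intro u hu
      have hinv : (R.xU r t)⁻¹ = R.xU r (-t) := by
        apply Units.ext
        show C.D.x F r (-t) = C.D.x F r (-t)
        rfl
      have := conj r hr (-t) u hu
      rw [← hinv, inv_inv] at this
      exact this
  refine ⟨sup_le (hroot p (Or.inl rfl)) (hroot _ (Or.inr rfl)), ?_⟩
  unfold ChevalleyDatum.rootSubgroup ChevalleyDatum.posUnipotent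
  rw [← Subgroup.closure_union]
  congr 1
  ext g
  constructor
  · rintro (⟨s, t, hs, -, hg⟩ | ⟨t, hg⟩)
    · exact ⟨s, t, hs, hg⟩
    · exact ⟨p, t, hpos, hg⟩
  · rintro ⟨s, t, hs, hg⟩
    by_cases hsp : s = p
    · subst hsp; exact Or.inr ⟨t, hg⟩
    · exact Or.inl ⟨s, t, hs, hsp, hg⟩

end

end Cfsg.Agent.Lib.Helper3.ChevM
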