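import Mathlib
import Cfsg.Prelude.Def_ChevStructure
import Cfsg.Agent.Lib.Helper3.ChevG3
set_option autoImplicit false
open Cfsg Cfsg.Lie

namespace Cfsg.Agent.Lib.Helper3.ChevM

/-- The image of the root `s` under the product of the fundamental reflections of the word `l`. -/
def reflW (refl : ℕ → ℕ → ℕ) : List ℕ → ℕ → ℕ
  | [], s => s
  | i :: l, s => refl i (reflW refl l s)

/-- The sign attached to the root `s` and the word `l`. -/
def etaW (refl : ℕ → ℕ → ℕ) (eta : ℕ → ℕ → ℤ) : List ℕ → ℕ → ℤ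
  | [], _ => 1
  | i :: l, s => eta i (reflW refl l s) * etaW refl eta l s

section
variable {F : Type*} [Field F] {D : ChevalleyDatum}

theorem ConjRel.one : ConjRel D (1 : Matrix D.Idx D.Idx F) (fun s => s) (fun _ => 1) where
  inv := ⟨1, one_mul 1⟩
  conj := by intro k _ t; simp
  sign := fun _ _ => Or.inl rfl

theorem ConjRel.mul {N₁ N₂ : Matrix D.Idx D.Idx F} {r₁ r₂ : ℕ → ℕ} {e₁ e₂ : ℕ → ℤ}
    (h₁ : ConjRel D N₁ r₁ e₁) (h₂ : ConjRel D N₂ r₂ e₂) (hlt : ∀ k < D.nroots, r₂ k < D.nroots) :
    ConjRel D (N₁ * N₂) (fun s => r₁ (r₂ s)) (fun s => e₁ (r₂ s) * e₂ s) where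
  inv := by
    obtain ⟨A, hA⟩ := h₁.inv
    obtain ⟨B, hB⟩ := h₂.inv
    refine ⟨B * A, ?_⟩
    rw [mul_assoc, ← mul_assoc N₂, hB, one_mul, hA]
  conj := by
    intro k hk t
    rw [mul_assoc, h₂.conj k hk, ← mul_assoc, h₁.conj _ (hlt k hk), mul_assoc]
    congr 2
    push_cast
    ring
  sign := by
    intro k hk
    rcases h₁.sign _ (hlt k hk) with a | a <;> rcases h₂.sign k hk with b | b <;> simp [a, b]

end

section
variable {F : Type*} [Field F] {C : CDatum} (R : RelData C)

/-- The product of the `n_{p_i}` along a word. -/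
def nWordMat (D : ChevalleyDatum) (F : Type*) [Field F] (l : List ℕ) : Matrix D.Idx D.Idx F :=
  (l.map fun i => D.nMat F (D.simple i) 1).prod

include R in
theorem RelData.reflW_lt (l : List ℕ) (hl : ∀ i ∈ l, i < C.D.rank) (s : ℕ) (hs : s < C.D.nroots) :
    reflW R.refl l s < C.D.nroots := by
  induction l with
  | nil => exact hs
  | cons i l ih =>
    exact R.refl_lt i (hl i List.mem_cons_self) _ (ih fun j hj => hl j (List.mem_cons_of_mem _ hj))

include R in
theorem RelData.conjRel_word (l : List ℕ) (hl : ∀ i ∈ l, i < C.D.rank) :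
    ConjRel C.D (nWordMat C.D F l) (reflW R.refl l) (etaW R.refl R.eta l) := by
  induction l with
  | nil => exact ConjRel.one
  | cons i l ih =>
    have hl' : ∀ j ∈ l, j < C.D.rank := fun j hj => hl j (List.mem_cons_of_mem _ hj)
    have := ConjRel.mul (R.conjRel (F := F) i (hl i List.mem_cons_self)) (ih hl') (fun k hk => R.reflW_lt l hl' k hk)
    unfold nWordMat
    rw [List.map_cons, List.prod_cons]
    exact this

/-- `n_r(c)` as an element of the general linear group. -/
def RelData.nU (r : ℕ) (c : F) : GL C.D.Idx F := R.wordU (C.D.nWord r c)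

theorem RelData.nU_val (r : ℕ) (c : F) : ((R.nU r c : GL C.D.Idx F) : Matrix C.D.Idx C.D.Idx F) = C.D.nMat F r c :=
  R.wordU_val _

/-- The product of the `n_{p_i}` along a word, in the general linear group. -/
def RelData.nWordU (l : List ℕ) : GL C.D.Idx F := (l.map fun i => R.nU (C.D.simple i) (1 : F)).prod

theorem RelData.nWordU_val (l : List ℕ) :
    ((R.nWordU l : GL C.D.Idx F) : Matrix C.D.Idx C.D.Idx F) = nWordMat C.D F l := by
  unfold RelData.nWordU nWordMat
  induction l with
  | nil => simp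
  | cons i l ih => simp [ih, R.nU_val]

theorem RelData.nU_simple_mem (i : ℕ) (hi : i < C.D.rank) : R.nU (C.D.simple i) (1 : F) ∈ C.D.monomialSubgroup F := by
  apply Subgroup.mem_sup_right
  apply Subgroup.subset_closure
  exact ⟨C.D.simple i, R.simple_lt i hi, R.nU_val _ _⟩

theorem RelData.nWordU_mem (l : List ℕ) (hl : ∀ i ∈ l, i < C.D.rank) : R.nWordU (F := F) l ∈ C.D.monomialSubgroup F := by
  unfold RelData.nWordU
  apply Subgroup.list_prod_mem
  intro x hx
  simp only [List.mem_map] at hx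
  obtain ⟨i, hi, rfl⟩ := hx
  exact R.nU_simple_mem i (hl i hi)

include R in
theorem RelData.conj_units {N : Matrix C.D.Idx C.D.Idx F} {refl : ℕ → ℕ} {eta : ℕ → ℤ} (h : ConjRel C.D N refl eta)
    (g : GL C.D.Idx F) (hg : (g : Matrix C.D.Idx C.D.Idx F) = N) (k : ℕ) (hk : k < C.D.nroots) (t : F) :
    g * R.xU k t * g⁻¹ = R.xU (refl k) ((eta k : F) * t) := by
  apply Units.ext
  rw [Units.val_mul, Units.val_mul, R.xU_val, R.xU_val, hg, h.conj k hk, ← hg, mul_assoc, ← Units.val_mul,
    mul_inv_cancel, Units.val_one, mul_one]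

/-- Check that the word `l` (with reverse `l'`) maps the positive roots onto the negative roots. -/
def oppCheck (D : ChevalleyDatum) (refl : ℕ → ℕ → ℕ) (l l' : List ℕ) (s : ℕ) : Bool :=
  (!decide (D.IsPosRoot s) || decide (D.IsNegRoot (reflW refl l s))) &&
  (!decide (D.IsNegRoot s) || (decide (D.IsPosRoot (reflW refl l' s)) && decide (reflW refl l (reflW refl l' s) = s)))

include R in
/-- S1053 -/
theorem RelData.exists_opposition (l l' : List ℕ) (hl : ∀ i ∈ l, i < C.D.rank)
    (hopp : ∀ s < C.D.nroots, oppCheck C.D R.refl l l' s = true) :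
    ∃ n ∈ C.D.monomialSubgroup F,
      (C.D.posUnipotent F).map (MulAut.conj n).toMonoidHom = C.D.negUnipotent F := by
  refine ⟨R.nWordU l, R.nWordU_mem l hl, ?_⟩
  have hrel := R.conjRel_word (F := F) l hl
  have hconj := fun k hk t => R.conj_units hrel (R.nWordU l) (R.nWordU_val l) k hk t
  unfold ChevalleyDatum.posUnipotent ChevalleyDatum.negUnipotent
  rw [MonoidHom.map_closure]
  congr 1
  ext g
  constructor
  · rintro ⟨u, ⟨s, t, hs, hu⟩, rfl⟩
    have hu' : u = R.xU s t := Units.ext hu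
    have hc := hopp s hs.1
    simp only [oppCheck, Bool.and_eq_true, Bool.or_eq_true, Bool.not_eq_true', decide_eq_true_eq,
      decide_eq_false_iff_not] at hc
    have hneg : C.D.IsNegRoot (reflW R.refl l s) := by
      rcases hc.1 with h | h
      · exact absurd hs h
      · exact h
    refine ⟨reflW R.refl l s, (etaW R.refl R.eta l s : F) * t, hneg, ?_⟩
    show ((R.nWordU l * u * (R.nWordU l)⁻¹ : GL C.D.Idx F) : Matrix C.D.Idx C.D.Idx F) = _
    rw [hu', hconj s hs.1 t]
    rfl
  · rintro ⟨r, t, hr, hg⟩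
    have hc := hopp r hr.1
    simp only [oppCheck, Bool.and_eq_true, Bool.or_eq_true, Bool.not_eq_true', decide_eq_true_eq,
      decide_eq_false_iff_not] at hc
    obtain ⟨hpos, hback⟩ : C.D.IsPosRoot (reflW R.refl l' r) ∧ reflW R.refl l (reflW R.refl l' r) = r := by
      rcases hc.2 with h | h
      · exact absurd hr h
      · exact h
    set s := reflW R.refl l' r with hs
    refine ⟨R.xU s ((etaW R.refl R.eta l s : F) * t), ⟨s, _, hpos, rfl⟩, ?_⟩
    show R.nWordU l * R.xU s ((etaW R.refl R.eta l s : F) * t) * (R.nWordU l)⁻¹ = g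
    rw [hconj s hpos.1, hback]
    apply Units.ext
    rw [hg, R.xU_val, ← mul_assoc, eta_sq (hrel.sign s hpos.1), one_mul]

end

end Cfsg.Agent.Lib.Helper3.ChevM
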