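import Mathlib
import Cfsg.Prelude.Def_ChevStructure
import Cfsg.Agent.Lib.Helper3.ChevW1
set_option autoImplicit false
open Cfsg Cfsg.Lie

namespace Cfsg.Agent.Lib.Helper3.ChevM

theorem mem_normalizer_of_conj_of_sq {G : Type*} [Group G] {H : Subgroup G} {g : G}
    (h1 : ∀ u ∈ H, g * u * g⁻¹ ∈ H) (h2 : g * g ∈ H) : g ∈ Subgroup.normalizer (H : Set G) := by
  rw [Subgroup.mem_normalizer_iff]
  intro u
  refine ⟨h1 u, fun hu => ?_⟩
  have h3 : (g * g)⁻¹ * (g * u * g⁻¹) * (g * g) ∈ H := H.mul_mem (H.mul_mem (H.inv_mem h2) hu) h2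
  have h4 := h1 _ h3
  have : g * ((g * g)⁻¹ * (g * u * g⁻¹) * (g * g)) * g⁻¹ = u := by group
  rwa [this] at h4

/-- Compatibility of a conjugation relation with the negation of roots. -/
def NegCompat (D : ChevalleyDatum) (refl : ℕ → ℕ) (eta : ℕ → ℤ) : Prop :=
  ∀ k < D.nroots, refl (D.neg k) = D.neg (refl k) ∧ eta (D.neg k) = eta k

/-- Check that the fundamental reflections commute with the negation of roots. -/
def negReflCheck (D : ChevalleyDatum) (refl : ℕ → ℕ → ℕ) (i s : ℕ) : Bool :=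
  decide (refl i (D.neg s) = D.neg (refl i s))

section
variable {F : Type*} [Field F] {C : CDatum} (R : RelData C)

include R in
theorem RelData.negCompat (hnr : ∀ i < C.D.rank, ∀ s < C.D.nroots, negReflCheck C.D R.refl i s = true)
    (i : ℕ) (hi : i < C.D.rank) : NegCompat C.D (R.refl i) (R.eta i) := by
  intro k hk
  refine ⟨by simpa [negReflCheck] using hnr i hi k hk, ?_⟩
  have h := R.etaOk i hi k hk
  simp only [etaCheck, Bool.and_eq_true, Bool.or_eq_true, decide_eq_true_eq] at h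
  obtain ⟨⟨h1, -⟩, h3⟩ := h
  rcases h1 with h1 | h1 <;> rw [h1] at h3 ⊢ <;> omega

include R in
theorem RelData.negCompat_word (hnr : ∀ i < C.D.rank, ∀ s < C.D.nroots, negReflCheck C.D R.refl i s = true)
    (l : List ℕ) (hl : ∀ i ∈ l, i < C.D.rank) : NegCompat C.D (reflW R.refl l) (etaW R.refl R.eta l) := by
  induction l with
  | nil => intro k _; exact ⟨rfl, rfl⟩
  | cons i l ih =>
    have hl' : ∀ j ∈ l, j < C.D.rank := fun j hj => hl j (List.mem_cons_of_mem _ hj)
    intro k hk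
    obtain ⟨e1, e2⟩ := ih hl' k hk
    obtain ⟨f1, f2⟩ := R.negCompat hnr i (hl i List.mem_cons_self) _ (R.reflW_lt l hl' k hk)
    constructor
    · show R.refl i (reflW R.refl l (C.D.neg k)) = C.D.neg (R.refl i (reflW R.refl l k))
      rw [e1, f1]
    · show R.eta i (reflW R.refl l (C.D.neg k)) * etaW R.refl R.eta l (C.D.neg k) =
        R.eta i (reflW R.refl l k) * etaW R.refl R.eta l k
      rw [e1, f2, e2]

theorem RelData.nU_eq (r : ℕ) (c : F) : R.nU r c = R.xU r c * R.xU (C.D.neg r) (-c⁻¹) * R.xU r c := by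
  apply Units.ext
  rw [R.nU_val]
  simp [ChevalleyDatum.nMat, ChevalleyDatum.nWord, ChevalleyDatum.wordMat, mul_assoc]

include R in
theorem RelData.conj_nU {N : Matrix C.D.Idx C.D.Idx F} {refl : ℕ → ℕ} {eta : ℕ → ℤ} (h : ConjRel C.D N refl eta)
    (hneg : NegCompat C.D refl eta) (g : GL C.D.Idx F) (hg : (g : Matrix C.D.Idx C.D.Idx F) = N)
    (r : ℕ) (hr : r < C.D.nroots) (c : F) :
    g * R.nU r c * g⁻¹ = R.nU (refl r) ((eta r : F) * c) := by
  have hnr := R.neg_lt r hr
  obtain ⟨e1, e2⟩ := hneg r hr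
  have key : g * R.nU r c * g⁻¹ = (g * R.xU r c * g⁻¹) * (g * R.xU (C.D.neg r) (-c⁻¹) * g⁻¹) * (g * R.xU r c * g⁻¹) := by
    rw [R.nU_eq]; group
  rw [key, R.conj_units h g hg r hr, R.conj_units h g hg _ hnr, R.nU_eq, e1, e2]
  congr 3
  rcases h.sign r hr with h1 | h1 <;> rw [h1] <;> simp

/-- `h_r(t)` as an element of the general linear group. -/
def RelData.hU (r : ℕ) (t : F) : GL C.D.Idx F := R.wordU (C.D.hWord r t)

theorem RelData.hU_val (r : ℕ) (t : F) : ((R.hU r t : GL C.D.Idx F) : Matrix C.D.Idx C.D.Idx F) = C.D.hMat F r t :=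
  R.wordU_val _

theorem RelData.hU_mem (r : ℕ) (hr : r < C.D.nroots) (t : F) (ht : t ≠ 0) : R.hU r t ∈ C.D.diagonalSubgroup F :=
  Subgroup.subset_closure ⟨r, t, hr, ht, R.hU_val r t⟩

theorem RelData.hU_eq (r : ℕ) (t : F) : R.hU r t = R.nU r t * R.nU r (-1) := by
  apply Units.ext
  rw [R.hU_val, Units.val_mul, R.nU_val, R.nU_val]
  simp [ChevalleyDatum.hMat, ChevalleyDatum.hWord, ChevalleyDatum.nMat, ChevalleyDatum.wordMat]

theorem RelData.nU_mul_neg (r : ℕ) (c : F) : R.nU r c * R.nU r (-c) = 1 := by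
  apply Units.ext
  rw [Units.val_mul, R.nU_val, R.nU_val, Units.val_one]
  exact nMat_mul_nMat_neg C.D (x_add_total C.D fun r hr => R.x_add r hr) r c

theorem RelData.nU_inv (r : ℕ) (c : F) : (R.nU r c)⁻¹ = R.nU r (-c) :=
  inv_eq_of_mul_eq_one_right (R.nU_mul_neg r c)

theorem RelData.nU_mul_nU (r : ℕ) (a b : F) : R.nU r a * R.nU r b = R.hU r a * (R.hU r (-b))⁻¹ := by
  rw [R.hU_eq, R.hU_eq, mul_inv_rev, ← R.nU_inv r b]
  group

include R in
/-- `n_{p_i}` normalises `H`. -/
theorem RelData.nU_simple_mem_normalizer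
    (hnr : ∀ i < C.D.rank, ∀ s < C.D.nroots, negReflCheck C.D R.refl i s = true) (i : ℕ) (hi : i < C.D.rank) :
    R.nU (C.D.simple i) (1 : F) ∈ Subgroup.normalizer (C.D.diagonalSubgroup F : Set (GL C.D.Idx F)) := by
  set g := R.nU (C.D.simple i) (1 : F) with hg
  have hrel := R.conjRel (F := F) i hi
  have hnc := R.negCompat hnr i hi
  apply mem_normalizer_of_conj_of_sq
  · intro u hu
    have hmap : (C.D.diagonalSubgroup F).map (MulAut.conj g).toMonoidHom ≤ C.D.diagonalSubgroup F := by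
      unfold ChevalleyDatum.diagonalSubgroup
      rw [MonoidHom.map_closure, Subgroup.closure_le]
      rintro _ ⟨v, ⟨r, t, hr, ht, hv⟩, rfl⟩
      have hv' : v = R.hU r t := Units.ext (by rw [hv, R.hU_val])
      show g * v * g⁻¹ ∈ _
      have e : g * v * g⁻¹ = (g * R.nU r t * g⁻¹) * (g * R.nU r (-1) * g⁻¹) := by
        rw [hv', R.hU_eq]; group
      have hr' := R.refl_lt i hi r hr
      have hη : (R.eta i r : F) ≠ 0 := by
        rcases R.eta_sign i hi r hr with h1 | h1 <;> rw [h1] <;> simp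
      rw [e, R.conj_nU hrel hnc g (R.nU_val _ _) r hr, R.conj_nU hrel hnc g (R.nU_val _ _) r hr, R.nU_mul_nU]
      apply Subgroup.mul_mem
      · exact Subgroup.subset_closure ⟨_, _, hr', mul_ne_zero hη ht, R.hU_val _ _⟩
      · apply Subgroup.inv_mem
        refine Subgroup.subset_closure ⟨_, _, hr', ?_, R.hU_val _ _⟩
        simpa using hη
    exact hmap ⟨u, hu, rfl⟩
  · have e : g * g = (R.hU (C.D.simple i) (-1))⁻¹ := by
      rw [R.hU_eq, mul_inv_rev, R.nU_inv, neg_neg]
    rw [e]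
    exact Subgroup.inv_mem _ (R.hU_mem _ (R.simple_lt i hi) _ (by simp))

end

/-- Check that the root `r` is the image of a fundamental root under a word of fundamental reflections. -/
def rootWordCheck (D : ChevalleyDatum) (refl : ℕ → ℕ → ℕ) (rw : ℕ → List ℕ × ℕ) (r : ℕ) : Bool :=
  ((rw r).1.all fun i => decide (i < D.rank)) && decide ((rw r).2 < D.rank) &&
    decide (reflW refl (rw r).1 (D.simple (rw r).2) = r)

section
variable {F : Type*} [Field F] {C : CDatum} (R : RelData C)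

include R in
/-- Every `n_r` lies in the subgroup generated by the `n_{p_i}`. -/
theorem RelData.nU_mem_closure_simple
    (hnr : ∀ i < C.D.rank, ∀ s < C.D.nroots, negReflCheck C.D R.refl i s = true)
    (rw : ℕ → List ℕ × ℕ) (hrw : ∀ r < C.D.nroots, rootWordCheck C.D R.refl rw r = true) (r : ℕ) (hr : r < C.D.nroots) :
    R.nU r (1 : F) ∈ Subgroup.closure {g : GL C.D.Idx F | ∃ i < C.D.rank, g = R.nU (C.D.simple i) (1 : F)} := by
  set K := Subgroup.closure {g : GL C.D.Idx F | ∃ i < C.D.rank, g = R.nU (C.D.simple i) (1 : F)} with hK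
  have h := hrw r hr
  simp only [rootWordCheck, Bool.and_eq_true, List.all_eq_true, decide_eq_true_eq] at h
  obtain ⟨⟨hl, hj⟩, hr'⟩ := h
  set l := (rw r).1
  set j := (rw r).2
  have hgen : ∀ i < C.D.rank, R.nU (C.D.simple i) (1 : F) ∈ K := fun i hi => Subgroup.subset_closure ⟨i, hi, rfl⟩
  have hg : R.nWordU (F := F) l ∈ K := by
    unfold RelData.nWordU
    apply Subgroup.list_prod_mem
    intro x hx
    simp only [List.mem_map] at hx
    obtain ⟨i, hi, rfl⟩ := hx
    exact hgen i (hl i hi)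
  have hrel := R.conjRel_word (F := F) l hl
  have hnc := R.negCompat_word hnr l hl
  have hsj := R.simple_lt j hj
  have hc := R.conj_nU hrel hnc (R.nWordU l) (R.nWordU_val l) (C.D.simple j) hsj ((etaW R.refl R.eta l (C.D.simple j) : ℤ) : F)
  rw [hr', eta_sq (hrel.sign _ hsj)] at hc
  rw [← hc]
  refine K.mul_mem (K.mul_mem hg ?_) (K.inv_mem hg)
  rcases hrel.sign _ hsj with h1 | h1
  · rw [h1]; simpa using hgen j hj
  · rw [h1]
    have : R.nU (C.D.simple j) (((-1 : ℤ) : F)) = (R.nU (C.D.simple j) (1 : F))⁻¹ := by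
      rw [R.nU_inv]; simp
    rw [this]
    exact K.inv_mem (hgen j hj)

include R in
/-- S1038 -/
theorem RelData.diagonal_normal_monomial
    (hnr : ∀ i < C.D.rank, ∀ s < C.D.nroots, negReflCheck C.D R.refl i s = true)
    (rw : ℕ → List ℕ × ℕ) (hrw : ∀ r < C.D.nroots, rootWordCheck C.D R.refl rw r = true) :
    ((C.D.diagonalSubgroup F).subgroupOf (C.D.monomialSubgroup F)).Normal := by
  have hle : C.D.diagonalSubgroup F ≤ C.D.monomialSubgroup F := le_sup_left
  rw [Subgroup.normal_subgroupOf_iff_le_normalizer hle]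
  unfold ChevalleyDatum.monomialSubgroup
  refine sup_le Subgroup.le_normalizer ?_
  rw [Subgroup.closure_le]
  rintro g ⟨r, hr, hg⟩
  have hg' : g = R.nU r (1 : F) := Units.ext (by rw [hg, R.nU_val])
  rw [hg']
  have h1 := R.nU_mem_closure_simple (F := F) hnr rw hrw r hr
  refine (Subgroup.closure_le _).mpr ?_ h1
  rintro _ ⟨i, hi, rfl⟩
  exact R.nU_simple_mem_normalizer hnr i hi

end

end Cfsg.Agent.Lib.Helper3.ChevM
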