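import Mathlib
import Cfsg.Prelude.Def_ChevStructure
import Cfsg.Agent.Lib.Helper3.ChevW2
set_option autoImplicit false
open Cfsg Cfsg.Lie

namespace Cfsg.Agent.Lib.Helper3.ChevM

open ChevT

/-- Position of a coordinate index in the reversed triangular order. -/
def posIdxOp (D : ChevalleyDatum) (j : D.Idx) : ℕ := (D.rank + D.nroots) - posIdx D j

/-- All off-diagonal entries of `x_r` lie strictly above the diagonal in the triangular order. -/
def triCheckNeg (C : CDatum) (r : ℕ) : Bool :=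
  (List.range C.N).all fun c => (C.cols r c).all fun e => decide (posC C.D e.row < posC C.D c)

theorem shift_x_sub_one_neg {F : Type*} [Field F] (C : CDatum) (r : ℕ) (hr : r < C.D.nroots)
    (h : triCheckNeg C r = true) (t : F) : Shift (posIdxOp C.D) 1 (C.D.x F r t - 1) := by
  intro j col hjc
  unfold ChevalleyDatum.x
  rw [dif_pos hr, Matrix.sub_apply, xMat_entry, Matrix.one_apply, add_sub_cancel_left]
  unfold colSum
  apply List.sum_eq_zero
  intro x hx
  simp only [List.mem_map, List.mem_filter, decide_eq_true_eq] at hx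
  obtain ⟨e, ⟨he, hrow⟩, rfl⟩ := hx
  exfalso
  simp only [triCheckNeg, List.all_eq_true, List.mem_range, decide_eq_true_eq] at h
  have := h (code C.D col) (code_lt C.D col) e (by rw [C.ok r hr _ (code_lt C.D col)]; exact he)
  rw [hrow] at this
  have h1 := posIdx_lt C.D j
  have h2 := posIdx_lt C.D col
  unfold posIdxOp at hjc
  unfold posIdx at hjc h1 h2
  omega

/-- Check that every negative root passes `triCheckNeg`. -/
def negTri (C : CDatum) (r : ℕ) : Bool := !decide (C.D.IsNegRoot r) || triCheckNeg C r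

theorem negUnipotent_le_ut {F : Type*} [Field F] (C : CDatum) (h : ∀ r < C.D.nroots, negTri C r = true) :
    C.D.negUnipotent F ≤ utSubgroup (posIdxOp C.D) F 0 := by
  unfold ChevalleyDatum.negUnipotent
  rw [Subgroup.closure_le]
  rintro g ⟨r, t, hneg, hg⟩
  have hr : r < C.D.nroots := hneg.1
  have := h r hr
  simp only [negTri, Bool.or_eq_true, Bool.not_eq_true', decide_eq_false_iff_not] at this
  rcases this with h1 | h1
  · exact absurd hneg h1
  · show Shift (posIdxOp C.D) (0 + 1) ((g : Matrix C.D.Idx C.D.Idx F) - 1)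
    rw [hg, zero_add]
    exact shift_x_sub_one_neg C r hr h1 t

section
variable {F : Type*} [Field F] {C : CDatum} (R : RelData C)

include R in
/-- An element of `H` is diagonal and conjugates each `x_s(t)` to `x_s(χ t)`. -/
theorem RelData.diagonal_mul_x (hdec : ∀ r < C.D.nroots, ∀ s < C.D.nroots, hdecCheck C.D R.pair r s = true)
    (h : GL C.D.Idx F) (hh : h ∈ C.D.diagonalSubgroup F) :
    ∃ c : ℕ → F, (∀ i < C.D.rank, c i ≠ 0) ∧ (h : Matrix C.D.Idx C.D.Idx F) = Matrix.diagonal (R.torusExp c) ∧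
      ∀ s < C.D.nroots, ∀ t : F, (h : Matrix C.D.Idx C.D.Idx F) * C.D.x F s t =
        C.D.x F s (((List.range C.D.rank).map fun i => c i ^ C.D.cartan i s).prod * t) * (h : Matrix C.D.Idx C.D.Idx F) := by
  obtain ⟨c, hc, hh'⟩ := R.diagonalSubgroup_le_torus hdec hh
  refine ⟨c, hc, hh', fun s hs t => ?_⟩
  have hprod : (h : Matrix C.D.Idx C.D.Idx F) =
      ((List.range C.D.rank).map fun i => C.D.hMat F (C.D.simple i) (c i)).prod := by
    rw [hh', R.hProd_eq_diag c hc]
  have key := R.hList_mul_x (List.range C.D.rank) (fun i hi => List.mem_range.mp hi) c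
    (fun i hi => hc i (List.mem_range.mp hi)) s hs t
  rw [← hprod] at key
  exact key

include R in
theorem RelData.diagonal_le_normalizer_closure
    (hdec : ∀ r < C.D.nroots, ∀ s < C.D.nroots, hdecCheck C.D R.pair r s = true)
    (P : ℕ → Prop) (hP : ∀ s, P s → s < C.D.nroots) :
    C.D.diagonalSubgroup F ≤ Subgroup.normalizer (Subgroup.closure {g : GL C.D.Idx F | ∃ (s : ℕ) (t : F), P s ∧
      (g : Matrix C.D.Idx C.D.Idx F) = C.D.x F s t} : Set (GL C.D.Idx F)) := by
  rw [Subgroup.le_normalizer_closure_iff]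
  rintro h hh g ⟨s, t, hs, hg⟩
  obtain ⟨c, -, -, key⟩ := R.diagonal_mul_x hdec h hh
  apply Subgroup.subset_closure
  refine ⟨s, ((List.range C.D.rank).map fun i => c i ^ C.D.cartan i s).prod * t, hs, ?_⟩
  rw [Units.val_mul, Units.val_mul, hg, key s (hP s hs) t, mul_assoc, ← Units.val_mul, mul_inv_cancel, Units.val_one,
    mul_one]

include R in
/-- S1037 -/
theorem RelData.borel_inf_neg
    (hdec : ∀ r < C.D.nroots, ∀ s < C.D.nroots, hdecCheck C.D R.pair r s = true)
    (htri : ∀ r < C.D.nroots, posTri C r = true) (hntri : ∀ r < C.D.nroots, negTri C r = true) :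
    C.D.borelSubgroup F ⊓ C.D.negUnipotent F = ⊥ ∧
      C.D.borelSubgroup F ⊓ (C.D.negUnipotent F ⊔ C.D.diagonalSubgroup F) = C.D.diagonalSubgroup F := by
  have hB : C.D.borelSubgroup F ≤ triSubgroup (posIdx C.D) F :=
    sup_le ((posUnipotent_le_ut C htri).trans (utSubgroup_le_tri 0)) (diagonalSubgroup_le_tri R)
  have h1 : C.D.borelSubgroup F ⊓ C.D.negUnipotent F = ⊥ := by
    rw [eq_bot_iff]
    rintro g ⟨hgB, hgV⟩
    rw [Subgroup.mem_bot]
    have a1 : Shift (posIdx C.D) 0 (g : Matrix C.D.Idx C.D.Idx F) := hB hgB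
    have a2 := negUnipotent_le_ut C hntri hgV
    rw [mem_utSubgroup, zero_add] at a2
    apply Units.ext
    rw [Units.val_one]
    ext a b
    by_cases hab : posIdxOp C.D a < posIdxOp C.D b + 1
    · have := a2 a b hab
      rw [Matrix.sub_apply, sub_eq_zero] at this
      exact this
    · have ha := posIdx_lt C.D a
      have hb := posIdx_lt C.D b
      unfold posIdxOp at hab
      have hlt : posIdx C.D a < posIdx C.D b := by omega
      have hne : a ≠ b := by
        rintro rfl; omega
      rw [Matrix.one_apply_ne hne]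
      exact a1 a b (by omega)
  refine ⟨h1, le_antisymm ?_ (le_inf le_sup_right le_sup_right)⟩
  rintro g ⟨hgB, hgVH⟩
  have hN : C.D.diagonalSubgroup F ≤ Subgroup.normalizer (C.D.negUnipotent F : Set (GL C.D.Idx F)) :=
    R.diagonal_le_normalizer_closure hdec (fun s => C.D.IsNegRoot s) (fun s hs => hs.1)
  have hset := Subgroup.coe_mul_of_right_le_normalizer_left (C.D.negUnipotent F) (C.D.diagonalSubgroup F) hN
  have hg' : g ∈ ((C.D.negUnipotent F ⊔ C.D.diagonalSubgroup F : Subgroup (GL C.D.Idx F)) : Set (GL C.D.Idx F)) := hgVH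
  rw [hset, Set.mem_mul] at hg'
  obtain ⟨v, hv, h, hh, rfl⟩ := hg'
  have hvB : v ∈ C.D.borelSubgroup F := by
    have e : v = (v * h) * h⁻¹ := by group
    rw [e]
    exact Subgroup.mul_mem _ hgB (Subgroup.inv_mem _ (Subgroup.mem_sup_right hh))
  have hv1 : v ∈ C.D.borelSubgroup F ⊓ C.D.negUnipotent F := ⟨hvB, hv⟩
  rw [h1, Subgroup.mem_bot] at hv1
  rw [hv1, one_mul]
  exact hh

end

/-- Check that the entry of `x_r(u)` in row `e_r` and column `e_{-r}` is `-u²`. -/
def injCheck (C : CDatum) (r : ℕ) : Bool :=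
  decide (C.D.neg r ≠ r) &&
  decide (((C.cols r (C.D.rank + C.D.neg r)).filter fun e => e.row = C.D.rank + r) = [⟨C.D.rank + r, -1, 2⟩])

theorem x_entry_neg {F : Type*} [Field F] (C : CDatum) (r : ℕ) (hr : r < C.D.nroots) (hn : C.D.neg r < C.D.nroots)
    (h : injCheck C r = true) (u : F) :
    C.D.x F r u (Sum.inr ⟨r, hr⟩) (Sum.inr ⟨C.D.neg r, hn⟩) = -u ^ 2 := by
  simp only [injCheck, Bool.and_eq_true, decide_eq_true_eq] at h
  obtain ⟨h1, h2⟩ := h
  unfold ChevalleyDatum.x
  rw [dif_pos hr, xMat_entry]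
  have hne : (Sum.inr ⟨r, hr⟩ : C.D.Idx) ≠ Sum.inr ⟨C.D.neg r, hn⟩ := by
    intro e
    simp only [Sum.inr.injEq, Fin.mk.injEq] at e
    exact h1 e.symm
  rw [if_neg hne, zero_add]
  have hc : code C.D (Sum.inr ⟨C.D.neg r, hn⟩) = C.D.rank + C.D.neg r := rfl
  have hj : code C.D (Sum.inr ⟨r, hr⟩) = C.D.rank + r := rfl
  rw [hc, hj]
  show colSum u (colList C.D r (C.D.rank + C.D.neg r)) (C.D.rank + r) = -u ^ 2
  rw [← C.ok r hr _ (by omega)]
  unfold colSum
  rw [h2]
  simp

section
variable {F : Type*} [Field F] {C : CDatum} (R : RelData C)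

include R in
theorem RelData.torusExp_inl (c : ℕ → F) (j : Fin C.D.rank) : R.torusExp c (Sum.inl j) = 1 := by
  unfold RelData.torusExp
  apply List.prod_eq_one
  intro x hx
  simp only [List.mem_map, List.mem_range] at hx
  obtain ⟨i, _, rfl⟩ := hx
  have : Nat.blt j.val C.D.rank = true := by rw [Nat.blt_eq]; exact j.isLt
  simp [CDatum.expo, code, this]

include R in
theorem RelData.torusExp_inr (c : ℕ → F) (s : Fin C.D.nroots) :
    R.torusExp c (Sum.inr s) = ((List.range C.D.rank).map fun i => c i ^ C.D.cartan i s).prod := by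
  unfold RelData.torusExp
  congr 1
  apply List.map_congr_left
  intro i hi
  rw [List.mem_range] at hi
  have h1 : Nat.blt (C.D.rank + s.val) C.D.rank = false := by
    rw [← Bool.not_eq_true, Nat.blt_eq]; omega
  have h2 : C.D.rank + s.val - C.D.rank = s.val := by omega
  simp only [CDatum.expo, code, h1, cond_false, h2]
  rw [R.pair_simple i hi s.val s.isLt]

include R in
/-- S1051 -/
theorem RelData.borel_core_trivial
    (hdec : ∀ r < C.D.nroots, ∀ s < C.D.nroots, hdecCheck C.D R.pair r s = true)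
    (htri : ∀ r < C.D.nroots, posTri C r = true) (hntri : ∀ r < C.D.nroots, negTri C r = true)
    (l l' : List ℕ) (hl : ∀ i ∈ l, i < C.D.rank) (hopp : ∀ s < C.D.nroots, oppCheck C.D R.refl l l' s = true)
    (hnr : ∀ i < C.D.rank, ∀ s < C.D.nroots, negReflCheck C.D R.refl i s = true)
    (rw : ℕ → List ℕ × ℕ) (hrw : ∀ r < C.D.nroots, rootWordCheck C.D R.refl rw r = true)
    (hinj : ∀ r < C.D.nroots, injCheck C r = true) :
    ((C.D.borelSubgroup F).subgroupOf (C.D.group F)).normalCore = ⊥ := by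
  rw [eq_bot_iff]
  intro k hk
  rw [Subgroup.mem_bot]
  set x : GL C.D.Idx F := (k : GL C.D.Idx F) with hx
  have hconj : ∀ g : GL C.D.Idx F, g ∈ C.D.group F → g * x * g⁻¹ ∈ C.D.borelSubgroup F := by
    intro g hg
    have := hk ⟨g, hg⟩
    simpa [Subgroup.mem_subgroupOf] using this
  obtain ⟨n0, hn0, hmap⟩ := R.exists_opposition (F := F) l l' hl hopp
  have hn0G : n0 ∈ C.D.group F := R.monomialSubgroup_le_group hn0
  have hNH : C.D.monomialSubgroup F ≤ Subgroup.normalizer (C.D.diagonalSubgroup F : Set (GL C.D.Idx F)) :=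
    (Subgroup.normal_subgroupOf_iff_le_normalizer le_sup_left).mp (R.diagonal_normal_monomial hnr rw hrw)
  have hHU := (R.diagonal_normalizes (F := F) hdec htri).1
  have hBset := Subgroup.coe_mul_of_right_le_normalizer_left (C.D.posUnipotent F) (C.D.diagonalSubgroup F) hHU
  have hBV := (R.borel_inf_neg (F := F) hdec htri hntri).2
  -- all conjugates lie in `H`
  have hA : ∀ g : GL C.D.Idx F, g ∈ C.D.group F → g * x * g⁻¹ ∈ C.D.diagonalSubgroup F := by
    intro g hg
    rw [← hBV]
    refine ⟨hconj g hg, ?_⟩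
    have hz := hconj (n0⁻¹ * g) (Subgroup.mul_mem _ (Subgroup.inv_mem _ hn0G) hg)
    have hz' : (n0⁻¹ * g) * x * (n0⁻¹ * g)⁻¹ ∈ ((C.D.posUnipotent F ⊔ C.D.diagonalSubgroup F : Subgroup (GL C.D.Idx F)) : Set (GL C.D.Idx F)) := hz
    rw [hBset, Set.mem_mul] at hz'
    obtain ⟨u, hu, h, hh, huh⟩ := hz'
    have e : g * x * g⁻¹ = (n0 * u * n0⁻¹) * (n0 * h * n0⁻¹) := by
      have : n0 * u * n0⁻¹ * (n0 * h * n0⁻¹) = n0 * (u * h) * n0⁻¹ := by group
      rw [this, huh]; group
    rw [e]
    apply Subgroup.mul_mem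
    · apply Subgroup.mem_sup_left
      rw [← hmap]
      exact ⟨u, hu, rfl⟩
    · apply Subgroup.mem_sup_right
      exact (Subgroup.mem_normalizer_iff.mp (hNH hn0) h).mp hh
  have hxH : x ∈ C.D.diagonalSubgroup F := by
    have := hA 1 (Subgroup.one_mem _)
    simpa using this
  obtain ⟨c, hc, hxd, key⟩ := R.diagonal_mul_x hdec x hxH
  -- the characters are trivial
  have hchi : ∀ s < C.D.nroots, ((List.range C.D.rank).map fun i => c i ^ C.D.cartan i s).prod = 1 := by
    intro s hs
    set χ : F := ((List.range C.D.rank).map fun i => c i ^ C.D.cartan i s).prod with hχ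
    have hχ0 : χ ≠ 0 := by
      rw [hχ]
      apply List.prod_ne_zero
      simp only [List.mem_map, List.mem_range, not_exists, not_and]
      intro i hi h0
      exact zpow_ne_zero _ (hc i hi) h0
    have hw := hA (R.xU s 1) (R.xU_mem_group s hs 1)
    have e1 : x * R.xU s χ⁻¹ = R.xU s 1 * x := by
      apply Units.ext
      rw [Units.val_mul, Units.val_mul, R.xU_val, R.xU_val, key s hs, mul_inv_cancel₀ hχ0]
    have e2 : R.xU s 1 * x * (R.xU s 1)⁻¹ = x * R.xU s (χ⁻¹ - 1) := by
      rw [← e1, mul_assoc]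
      congr 1
      apply Units.ext
      have hinv : (((R.xU s (1 : F))⁻¹ : GL C.D.Idx F) : Matrix C.D.Idx C.D.Idx F) = C.D.x F s (-1) := rfl
      rw [Units.val_mul, hinv, R.xU_val, R.xU_val, R.x_add s hs, sub_eq_add_neg]
    rw [e2] at hw
    have hw2 : R.xU s (χ⁻¹ - 1) ∈ C.D.diagonalSubgroup F := by
      have := Subgroup.mul_mem _ (Subgroup.inv_mem _ hxH) hw
      rwa [inv_mul_cancel_left] at this
    obtain ⟨c', -, hd'⟩ := R.diagonalSubgroup_le_torus hdec hw2
    have hns := R.neg_lt s hs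
    have hent := x_entry_neg C s hs hns (hinj s hs) (χ⁻¹ - 1)
    have hinj' := hinj s hs
    simp only [injCheck, Bool.and_eq_true, decide_eq_true_eq] at hinj'
    have hne : (Sum.inr ⟨s, hs⟩ : C.D.Idx) ≠ Sum.inr ⟨C.D.neg s, hns⟩ := by
      intro e
      simp only [Sum.inr.injEq, Fin.mk.injEq] at e
      exact hinj'.1 e.symm
    rw [R.xU_val] at hd'
    rw [hd', Matrix.diagonal_apply_ne _ hne] at hent
    have : χ⁻¹ - 1 = 0 := by
      have := hent.symm
      rw [neg_eq_zero] at this
      exact pow_eq_zero_iff (two_ne_zero) |>.mp this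
    have h1 : χ⁻¹ = 1 := sub_eq_zero.mp this
    exact inv_eq_one.mp h1
  have hx1 : x = 1 := by
    apply Units.ext
    rw [hxd, Units.val_one, ← Matrix.diagonal_one]
    congr 1
    funext j
    rcases j with j | s
    · exact R.torusExp_inl c j
    · rw [R.torusExp_inr, hchi s.val s.isLt]
  exact Subtype.ext hx1

end

end Cfsg.Agent.Lib.Helper3.ChevM
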