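import Mathlib
set_option autoImplicit false

/-! Integer matrices acting on tuples of elements of a commutative group, and the number of solutions of the
corresponding systems of equations in a cyclic group, via a diagonal form of the matrix. -/

namespace Cfsg.Agent.Lib.Helper3.ChevH

section
variable {M : Type*} [CommGroup M] {l : ℕ}

theorem zpow_finset_sum {ι : Type*} (s : Finset ι) (a : M) (f : ι → ℤ) :
    a ^ (∑ i ∈ s, f i) = ∏ i ∈ s, a ^ f i := by
  classical
  induction s using Finset.induction_on with
  | empty => simp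
  | insert i s hi ih => rw [Finset.sum_insert hi, Finset.prod_insert hi, zpow_add, ih]

/-- The endomorphism `c ↦ (∏ i, c i ^ A i j)_j` of `M^l`. -/
def pw (A : Matrix (Fin l) (Fin l) ℤ) : (Fin l → M) →* (Fin l → M) where
  toFun c j := ∏ i, c i ^ A i j
  map_one' := by funext j; simp
  map_mul' c c' := by funext j; simp [mul_zpow, Finset.prod_mul_distrib]

@[simp] theorem pw_apply (A : Matrix (Fin l) (Fin l) ℤ) (c : Fin l → M) (j : Fin l) :
    pw A c j = ∏ i, c i ^ A i j := rfl

theorem pw_mul (A B : Matrix (Fin l) (Fin l) ℤ) (c : Fin l → M) : pw (A * B) c = pw B (pw A c) := by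
  funext k
  simp only [pw_apply, Matrix.mul_apply]
  have : ∀ j, (∏ i, c i ^ A i j) ^ B j k = ∏ i, c i ^ (A i j * B j k) := by
    intro j
    rw [← Finset.prod_zpow]
    apply Finset.prod_congr rfl
    intro i _
    rw [zpow_mul]
  simp only [this]
  rw [Finset.prod_comm]
  apply Finset.prod_congr rfl
  intro i _
  rw [zpow_finset_sum]

theorem pw_one (c : Fin l → M) : pw (1 : Matrix (Fin l) (Fin l) ℤ) c = c := by
  funext j
  simp only [pw_apply]
  rw [Finset.prod_eq_single j]
  · simp
  · intro i _ hij
    simp [Matrix.one_apply_ne hij]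
  · intro h; exact absurd (Finset.mem_univ _) h

theorem pw_diagonal (d : Fin l → ℕ) (c : Fin l → M) (j : Fin l) :
    pw (Matrix.diagonal fun k => (d k : ℤ)) c j = c j ^ d j := by
  simp only [pw_apply]
  rw [Finset.prod_eq_single j]
  · simp
  · intro i _ hij
    simp [Matrix.diagonal_apply_ne _ hij]
  · intro h; exact absurd (Finset.mem_univ _) h

/-- The kernel of `pw A` has as many elements as the kernel of a diagonal form of `A`. -/
theorem card_ker_pw [Finite M] (P A Q P' Q' : Matrix (Fin l) (Fin l) ℤ) (d : Fin l → ℕ)
    (h : P * A * Q = Matrix.diagonal fun k => (d k : ℤ)) (hP : P * P' = 1) (hP' : P' * P = 1) (hQ : Q * Q' = 1) :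
    Nat.card (pw A : (Fin l → M) →* (Fin l → M)).ker = ∏ k, Nat.card (powMonoidHom (d k) : M →* M).ker := by
  have hQinj : Function.Injective (pw Q : (Fin l → M) →* (Fin l → M)) := by
    intro c c' hc
    have := congrArg (pw Q' : (Fin l → M) →* (Fin l → M)) hc
    rwa [← pw_mul, ← pw_mul, hQ, pw_one, pw_one] at this
  -- the bijection `ker (pw D) → ker (pw A)`, `c ↦ pw P c`
  have key : ∀ c : Fin l → M, pw (Matrix.diagonal fun k => (d k : ℤ)) c = 1 ↔ pw A (pw P c) = 1 := by
    intro c
    rw [← h, pw_mul, pw_mul]
    constructor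
    · intro h1
      apply hQinj
      rw [h1, map_one]
    · intro h1
      rw [h1, map_one]
  have e1 : (pw A : (Fin l → M) →* (Fin l → M)).ker ≃
      {c : Fin l → M // pw (Matrix.diagonal fun k => (d k : ℤ)) c = 1} :=
    { toFun := fun c => ⟨pw P' c.1, by
        rw [key]
        have e : pw P (pw P' c.1) = c.1 := by rw [← pw_mul, hP', pw_one]
        rw [e]
        exact c.2⟩
      invFun := fun c => ⟨pw P c.1, by
        rw [MonoidHom.mem_ker]
        exact (key c.1).mp c.2⟩
      left_inv := by
        intro c
        apply Subtype.ext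
        show pw P (pw P' c.1) = c.1
        rw [← pw_mul, hP', pw_one]
      right_inv := by
        intro c
        apply Subtype.ext
        show pw P' (pw P c.1) = c.1
        rw [← pw_mul, hP, pw_one] }
  have e2 : {c : Fin l → M // pw (Matrix.diagonal fun k => (d k : ℤ)) c = 1} ≃
      ((k : Fin l) → (powMonoidHom (d k) : M →* M).ker) :=
    { toFun := fun c k => ⟨c.1 k, by
        rw [MonoidHom.mem_ker, powMonoidHom_apply]
        have := congrFun c.2 k
        rwa [pw_diagonal] at this⟩
      invFun := fun c => ⟨fun k => (c k).1, by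
        funext k
        rw [pw_diagonal]
        have := (c k).2
        rwa [MonoidHom.mem_ker, powMonoidHom_apply] at this⟩
      left_inv := fun c => rfl
      right_inv := fun c => rfl }
  rw [Nat.card_congr (e1.trans e2), Nat.card_pi]

end

end Cfsg.Agent.Lib.Helper3.ChevH
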