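import Mathlib
import Cfsg.Prelude.Def_ChevStructure
import Cfsg.Agent.Lib.Helper3.ChevG4
import Cfsg.Agent.Lib.Helper3.ChevW2
import Cfsg.Agent.Lib.Helper3.ChevH1
set_option autoImplicit false
open Cfsg Cfsg.Lie

/-! The order of the diagonal subgroup `H` of a Chevalley group over a finite field. -/

namespace Cfsg.Agent.Lib.Helper3.ChevM

open ChevT ChevH

/-- The Cartan matrix `(A_{p_i, p_j})`. -/
def cartanMat (D : ChevalleyDatum) : Matrix (Fin D.rank) (Fin D.rank) ℤ :=
  Matrix.of fun i j => D.cartan i.val (D.simple j.val)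

/-- The Cartan integers `A_{p_i, s}` are the combinations of the `A_{p_i, p_j}` with the coefficients of `s`. -/
def vecCheck (D : ChevalleyDatum) (vec : ℕ → ℕ → ℤ) (i s : ℕ) : Bool :=
  decide (D.cartan i s = ((List.range D.rank).map fun j => vec s j * D.cartan i (D.simple j)).sum)

theorem list_range_sum_eq {A : Type*} [AddCommMonoid A] (f : ℕ → A) (n : ℕ) :
    ((List.range n).map f).sum = ∑ i : Fin n, f i.val := by
  induction n with
  | zero => simp
  | succ n ih => rw [List.range_succ, List.map_append, List.sum_append, ih, Fin.sum_univ_castSucc]; simp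

theorem list_range_prod_eq {A : Type*} [CommMonoid A] (f : ℕ → A) (n : ℕ) :
    ((List.range n).map f).prod = ∏ i : Fin n, f i.val := by
  induction n with
  | zero => simp
  | succ n ih => rw [List.range_succ, List.map_append, List.prod_append, ih, Fin.prod_univ_castSucc]; simp

section
variable (D : ChevalleyDatum) (F : Type*) [Field F]

/-- The values of the characters of the roots on `∏ h_{p_i}(c_i)`. -/
def rootChar : (Fin D.rank → Fˣ) →* (Fin D.nroots → Fˣ) where
  toFun c s := ∏ i, c i ^ D.cartan i.val s.val
  map_one' := by funext s; simp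
  map_mul' c c' := by funext s; simp [mul_zpow, Finset.prod_mul_distrib]

/-- The diagonal matrix with entries `1` on the `h_i` and `χ s` on the root vectors. -/
def diagU (χ : Fin D.nroots → Fˣ) : GL D.Idx F where
  val := Matrix.diagonal (Sum.elim (fun _ => 1) fun s => (χ s : F))
  inv := Matrix.diagonal (Sum.elim (fun _ => 1) fun s => ((χ s)⁻¹ : Fˣ))
  val_inv := by
    rw [Matrix.diagonal_mul_diagonal, ← Matrix.diagonal_one]
    congr 1
    funext j
    rcases j with j | s <;> simp
  inv_val := by
    rw [Matrix.diagonal_mul_diagonal, ← Matrix.diagonal_one]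
    congr 1
    funext j
    rcases j with j | s <;> simp

theorem diagU_injective : Function.Injective (diagU D F) := by
  intro χ χ' h
  have h1 := congrArg (fun g : GL D.Idx F => (g : Matrix D.Idx D.Idx F)) h
  simp only [diagU] at h1
  have h2 := Matrix.diagonal_injective h1
  funext s
  have := congrFun h2 (Sum.inr s)
  exact Units.ext this

end

section
variable {F : Type*} [Field F] {C : CDatum} (R : RelData C)

include R in
theorem RelData.ker_rootChar (vec : ℕ → ℕ → ℤ)
    (hvec : ∀ i < C.D.rank, ∀ s < C.D.nroots, vecCheck C.D vec i s = true) :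
    (rootChar C.D F).ker = (pw (cartanMat C.D) : (Fin C.D.rank → Fˣ) →* (Fin C.D.rank → Fˣ)).ker := by
  ext c
  rw [MonoidHom.mem_ker, MonoidHom.mem_ker]
  constructor
  · intro h
    funext j
    have := congrFun h ⟨C.D.simple j.val, R.simple_lt j.val j.isLt⟩
    simpa [rootChar, cartanMat] using this
  · intro h
    funext s
    show ∏ i, c i ^ C.D.cartan i.val s.val = 1
    have h1 : ∀ i : Fin C.D.rank, C.D.cartan i.val s.val =
        ∑ j : Fin C.D.rank, vec s.val j.val * C.D.cartan i.val (C.D.simple j.val) := by
      intro i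
      have := hvec i.val i.isLt s.val s.isLt
      simp only [vecCheck, decide_eq_true_eq] at this
      rw [this, list_range_sum_eq]
    have h2 : ∀ j : Fin C.D.rank, ∏ i, c i ^ C.D.cartan i.val (C.D.simple j.val) = 1 := by
      intro j
      have := congrFun h j
      simpa [cartanMat] using this
    calc ∏ i, c i ^ C.D.cartan i.val s.val
        = ∏ i, ∏ j : Fin C.D.rank, (c i ^ C.D.cartan i.val (C.D.simple j.val)) ^ vec s.val j.val := by
          apply Finset.prod_congr rfl
          intro i _
          rw [h1 i, zpow_finset_sum]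
          apply Finset.prod_congr rfl
          intro j _
          rw [← zpow_mul, mul_comm]
      _ = ∏ j : Fin C.D.rank, (∏ i, c i ^ C.D.cartan i.val (C.D.simple j.val)) ^ vec s.val j.val := by
          rw [Finset.prod_comm]
          apply Finset.prod_congr rfl
          intro j _
          rw [Finset.prod_zpow]
      _ = 1 := by
          apply Finset.prod_eq_one
          intro j _
          rw [h2 j, one_zpow]

include R in
theorem RelData.image_diagU
    (hdec : ∀ r < C.D.nroots, ∀ s < C.D.nroots, hdecCheck C.D R.pair r s = true) :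
    diagU C.D F '' ((rootChar C.D F).range : Set (Fin C.D.nroots → Fˣ)) =
      (C.D.diagonalSubgroup F : Set (GL C.D.Idx F)) := by
  ext h
  constructor
  · rintro ⟨χ, ⟨c', rfl⟩, rfl⟩
    let c : ℕ → F := fun i => if hi : i < C.D.rank then (c' ⟨i, hi⟩ : F) else 1
    have hc : ∀ i < C.D.rank, c i ≠ 0 := by
      intro i hi
      simp only [c, hi, dif_pos]
      exact Units.ne_zero _
    have e : diagU C.D F (rootChar C.D F c') =
        ((List.range C.D.rank).map fun i => R.hU (C.D.simple i) (c i)).prod := by
      apply Units.ext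
      have e1 : (((List.range C.D.rank).map fun i => R.hU (C.D.simple i) (c i)).prod : GL C.D.Idx F).val =
          ((List.range C.D.rank).map fun i => C.D.hMat F (C.D.simple i) (c i)).prod := by
        generalize List.range C.D.rank = L
        induction L with
        | nil => simp
        | cons i L ih => rw [List.map_cons, List.prod_cons, Units.val_mul, ih, R.hU_val, List.map_cons, List.prod_cons]
      rw [e1, R.hProd_eq_diag c hc]
      show Matrix.diagonal _ = _
      congr 1
      funext j
      rcases j with j | s
      · rw [R.torusExp_inl]; rfl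
      · rw [R.torusExp_inr, list_range_prod_eq]
        show ((∏ i, c' i ^ C.D.cartan i.val s.val : Fˣ) : F) = _
        rw [Units.coe_prod]
        apply Finset.prod_congr rfl
        intro i _
        simp only [c, i.isLt, dif_pos, Units.val_zpow_eq_zpow_val]
    rw [SetLike.mem_coe, e]
    apply Subgroup.list_prod_mem
    intro g hg
    obtain ⟨i, hi, rfl⟩ := List.mem_map.mp hg
    rw [List.mem_range] at hi
    exact R.hU_mem _ (R.simple_lt i hi) _ (hc i hi)
  · intro hh
    obtain ⟨c, hc, hgc⟩ := R.diagonalSubgroup_le_torus hdec hh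
    refine ⟨rootChar C.D F fun i => Units.mk0 (c i.val) (hc i.val i.isLt), ⟨_, rfl⟩, ?_⟩
    apply Units.ext
    rw [hgc]
    show Matrix.diagonal _ = _
    congr 1
    funext j
    rcases j with j | s
    · rw [R.torusExp_inl]; rfl
    · rw [R.torusExp_inr, list_range_prod_eq]
      show ((∏ i : Fin C.D.rank, (Units.mk0 (c i.val) (hc i.val i.isLt)) ^ C.D.cartan i.val s.val : Fˣ) : F) = _
      rw [Units.coe_prod]
      apply Finset.prod_congr rfl
      intro i _
      simp only [Units.val_zpow_eq_zpow_val, Units.val_mk0]

include R in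
/-- S1035 -/
theorem RelData.card_diagonal [Fintype F]
    (hdec : ∀ r < C.D.nroots, ∀ s < C.D.nroots, hdecCheck C.D R.pair r s = true)
    (vec : ℕ → ℕ → ℤ) (hvec : ∀ i < C.D.rank, ∀ s < C.D.nroots, vecCheck C.D vec i s = true)
    (P Q P' Q' : Matrix (Fin C.D.rank) (Fin C.D.rank) ℤ) (d : Fin C.D.rank → ℕ)
    (h : P * cartanMat C.D * Q = Matrix.diagonal fun k => (d k : ℤ)) (hP : P * P' = 1) (hP' : P' * P = 1)
    (hQ : Q * Q' = 1) :
    (∏ k, Nat.gcd (Fintype.card F - 1) (d k)) * Nat.card (C.D.diagonalSubgroup F) =
      (Fintype.card F - 1) ^ C.D.rank := by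
  classical
  have hcardU : Nat.card Fˣ = Fintype.card F - 1 := by
    rw [Nat.card_eq_fintype_card, Fintype.card_units]
  have h1 : Nat.card (C.D.diagonalSubgroup F) = Nat.card (rootChar C.D F).range := by
    have := R.image_diagU (F := F) hdec
    have e : Nat.card (C.D.diagonalSubgroup F) = Nat.card ((C.D.diagonalSubgroup F : Set (GL C.D.Idx F))) := rfl
    rw [e, ← this]
    exact Nat.card_image_of_injective (diagU_injective C.D F) _
  have h2 : Nat.card (rootChar C.D F).ker * Nat.card (rootChar C.D F).range = Nat.card (Fin C.D.rank → Fˣ) := by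
    rw [← Subgroup.index_ker, Subgroup.card_mul_index]
  have h3 : Nat.card (rootChar C.D F).ker = ∏ k, Nat.gcd (Fintype.card F - 1) (d k) := by
    rw [R.ker_rootChar vec hvec, card_ker_pw P (cartanMat C.D) Q P' Q' d h hP hP' hQ]
    apply Finset.prod_congr rfl
    intro k _
    rw [IsCyclic.card_powMonoidHom_ker, hcardU]
  rw [h1, ← h3, h2, Nat.card_fun, Nat.card_fin, hcardU]

end

end Cfsg.Agent.Lib.Helper3.ChevM
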