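import Mathlib
import Cfsg.Prelude.Def_ChevStructure
import Cfsg.Agent.Lib.Helper3.ChevG4
set_option autoImplicit false
open Cfsg Cfsg.Lie

namespace Cfsg.Agent.Lib.Helper3.ChevM

open ChevT

theorem exists_subgroup_union_doubleCoset {G : Type*} [Group G] (B : Subgroup G) (n : G) (hsq : n * n ∈ B)
    (hK : ∀ b ∈ B, n * b * n ∈ (B : Set G) ∪ DoubleCoset.doubleCoset n (B : Set G) B) :
    ∃ P : Subgroup G, (P : Set G) = (B : Set G) ∪ DoubleCoset.doubleCoset n (B : Set G) B := by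
  refine ⟨{ carrier := (B : Set G) ∪ DoubleCoset.doubleCoset n (B : Set G) B
            mul_mem' := ?_
            one_mem' := Or.inl B.one_mem
            inv_mem' := ?_ }, rfl⟩
  · rintro x y (hx | hx) (hy | hy)
    · exact Or.inl (B.mul_mem hx hy)
    · obtain ⟨b1, h1, b2, h2, rfl⟩ := DoubleCoset.mem_doubleCoset.mp hy
      refine Or.inr (DoubleCoset.mem_doubleCoset.mpr ⟨x * b1, B.mul_mem hx h1, b2, h2, ?_⟩)
      group
    · obtain ⟨b1, h1, b2, h2, rfl⟩ := DoubleCoset.mem_doubleCoset.mp hx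
      refine Or.inr (DoubleCoset.mem_doubleCoset.mpr ⟨b1, h1, b2 * y, B.mul_mem h2 hy, ?_⟩)
      group
    · obtain ⟨b1, h1, b2, h2, rfl⟩ := DoubleCoset.mem_doubleCoset.mp hx
      obtain ⟨b3, h3, b4, h4, rfl⟩ := DoubleCoset.mem_doubleCoset.mp hy
      have e : b1 * n * b2 * (b3 * n * b4) = b1 * (n * (b2 * b3) * n) * b4 := by group
      rw [e]
      rcases hK (b2 * b3) (B.mul_mem h2 h3) with h | h
      · exact Or.inl (B.mul_mem (B.mul_mem h1 h) h4)
      · obtain ⟨b5, h5, b6, h6, e'⟩ := DoubleCoset.mem_doubleCoset.mp h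
        rw [e']
        refine Or.inr (DoubleCoset.mem_doubleCoset.mpr ⟨b1 * b5, B.mul_mem h1 h5, b6 * b4, B.mul_mem h6 h4, ?_⟩)
        group
  · rintro x (hx | hx)
    · exact Or.inl (B.inv_mem hx)
    · obtain ⟨b1, h1, b2, h2, rfl⟩ := DoubleCoset.mem_doubleCoset.mp hx
      refine Or.inr (DoubleCoset.mem_doubleCoset.mpr ⟨b2⁻¹, B.inv_mem h2, (n * n)⁻¹ * b1⁻¹,
        B.mul_mem (B.inv_mem hsq) (B.inv_mem h1), ?_⟩)
      group

/-- Check that the fundamental reflection `w_i` permutes the positive roots other than `p_i`. -/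
def wpCheck (D : ChevalleyDatum) (refl : ℕ → ℕ → ℕ) (i s : ℕ) : Bool :=
  !(decide (D.IsPosRoot s) && decide (s ≠ D.simple i)) ||
    (decide (D.IsPosRoot (refl i s)) && decide (refl i s ≠ D.simple i))

section
variable {F : Type*} [Field F] {C : CDatum} (R : RelData C)

theorem RelData.xU_zero (r : ℕ) : R.xU r (0 : F) = 1 := by
  apply Units.ext
  rw [R.xU_val, CDatum.x_zero, Units.val_one]

theorem RelData.xU_add (r : ℕ) (t u : F) : R.xU r t * R.xU r u = R.xU r (t + u) := by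
  apply Units.ext
  rw [Units.val_mul, R.xU_val, R.xU_val, R.xU_val, x_add_total C.D (fun r hr => R.x_add r hr)]

theorem RelData.xU_inv (r : ℕ) (t : F) : (R.xU r t)⁻¹ = R.xU r (-t) := Units.ext rfl

theorem RelData.mem_rootSubgroup (r : ℕ) (g : GL C.D.Idx F) (hg : g ∈ C.D.rootSubgroup F r) : ∃ t : F, g = R.xU r t := by
  unfold ChevalleyDatum.rootSubgroup at hg
  induction hg using Subgroup.closure_induction with
  | mem x hx =>
    obtain ⟨t, ht⟩ := hx
    exact ⟨t, Units.ext ht⟩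
  | one => exact ⟨0, (R.xU_zero r).symm⟩
  | mul x y _ _ hx hy =>
    obtain ⟨t, rfl⟩ := hx
    obtain ⟨u, rfl⟩ := hy
    exact ⟨t + u, R.xU_add r t u⟩
  | inv x _ hx =>
    obtain ⟨t, rfl⟩ := hx
    exact ⟨-t, R.xU_inv r t⟩

theorem RelData.nU_sq_mem (r : ℕ) (hr : r < C.D.nroots) : R.nU r (1 : F) * R.nU r 1 ∈ C.D.diagonalSubgroup F := by
  have e : R.nU r (1 : F) * R.nU r 1 = (R.hU r (-1))⁻¹ := by
    rw [R.hU_eq, mul_inv_rev, R.nU_inv, neg_neg]
  rw [e]
  exact Subgroup.inv_mem _ (R.hU_mem _ hr _ (by simp))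

theorem RelData.nU_eq_hU_mul (r : ℕ) (c : F) : R.nU r c = R.hU r c * R.nU r 1 := by
  rw [R.hU_eq, mul_assoc, ← R.nU_inv r 1, inv_mul_cancel, mul_one]

end

section
variable {F : Type*} [Field F] {C : CDatum} {R : RelData C} (K : CommData C R)

include K in
/-- S1044 -/
theorem CommData.rank_one_parabolic
    (hup : ∀ i < C.D.rank, ∀ s < C.D.nroots, upCheck C.D i s = true)
    (hdec : ∀ r < C.D.nroots, ∀ s < C.D.nroots, hdecCheck C.D R.pair r s = true)
    (hnr : ∀ i < C.D.rank, ∀ s < C.D.nroots, negReflCheck C.D R.refl i s = true)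
    (hwp : ∀ i < C.D.rank, ∀ s < C.D.nroots, wpCheck C.D R.refl i s = true)
    (i : ℕ) (hi : i < C.D.rank) (n : GL C.D.Idx F)
    (hn : (n : Matrix C.D.Idx C.D.Idx F) = C.D.nMat F (C.D.simple i) 1) :
    ∃ P : Subgroup (GL C.D.Idx F), (P : Set (GL C.D.Idx F)) =
      (C.D.borelSubgroup F : Set (GL C.D.Idx F)) ∪
        DoubleCoset.doubleCoset n (C.D.borelSubgroup F : Set (GL C.D.Idx F)) (C.D.borelSubgroup F) := by
  have hn' : n = R.nU (C.D.simple i) 1 := Units.ext (by rw [hn, R.nU_val])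
  subst hn'
  set p := C.D.simple i with hp
  set n := R.nU p (1 : F) with hn
  have hpl : p < C.D.nroots := R.simple_lt i hi
  have hnpl : C.D.neg p < C.D.nroots := R.neg_lt p hpl
  set B := C.D.borelSubgroup F with hB
  have hHB : C.D.diagonalSubgroup F ≤ B := le_sup_right
  have hUB : C.D.posUnipotent F ≤ B := le_sup_left
  have hsqH : n * n ∈ C.D.diagonalSubgroup F := R.nU_sq_mem p hpl
  apply exists_subgroup_union_doubleCoset B n (hHB hsqH)
  -- the decomposition of `U`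
  obtain ⟨hXN, hUeq⟩ := K.up_normal (F := F) hup i hi
  set Up := Subgroup.closure {g : GL C.D.Idx F | ∃ (s : ℕ) (t : F), C.D.IsPosRoot s ∧ s ≠ p ∧
      (g : Matrix C.D.Idx C.D.Idx F) = C.D.x F s t} with hUp
  have hUpU : Up ≤ C.D.posUnipotent F := by rw [← hUeq]; exact le_sup_left
  have hUset := Subgroup.coe_mul_of_right_le_normalizer_left Up (C.D.rootSubgroup F p) (le_sup_left.trans hXN)
  rw [hUeq] at hUset
  have hHU : C.D.diagonalSubgroup F ≤ Subgroup.normalizer (C.D.posUnipotent F : Set (GL C.D.Idx F)) :=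
    R.diagonal_le_normalizer_closure hdec (fun s => C.D.IsPosRoot s) (fun s hs => hs.1)
  have hBset := Subgroup.coe_mul_of_right_le_normalizer_left (C.D.posUnipotent F) (C.D.diagonalSubgroup F) hHU
  -- conjugation by `n`
  have hrel := R.conjRel (F := F) i hi
  have hconjx := fun k hk t => R.conj_units hrel n (R.nU_val _ _) k hk t
  have hconjUp : ∀ u ∈ Up, n * u * n⁻¹ ∈ Up := by
    intro u hu
    have hmap : Up.map (MulAut.conj n).toMonoidHom ≤ Up := by
      rw [hUp, MonoidHom.map_closure, Subgroup.closure_le]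
      rintro _ ⟨v, ⟨s, t, hs, hsp, hv⟩, rfl⟩
      have hv' : v = R.xU s t := Units.ext hv
      show n * v * n⁻¹ ∈ _
      rw [hv', hconjx s hs.1 t]
      have hc := hwp i hi s hs.1
      simp only [wpCheck, Bool.or_eq_true, Bool.and_eq_true, Bool.not_eq_true', decide_eq_true_eq,
        Bool.and_eq_false_imp, decide_eq_false_iff_not] at hc
      rcases hc with hc | hc
      · exact absurd hsp (by simpa using hc hs)
      · exact Subgroup.subset_closure ⟨_, _, hc.1, hc.2, rfl⟩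
    exact hmap ⟨u, hu, rfl⟩
  have hconjH : ∀ h ∈ C.D.diagonalSubgroup F, n * h * n⁻¹ ∈ C.D.diagonalSubgroup F := fun h hh =>
    (Subgroup.mem_normalizer_iff.mp (R.nU_simple_mem_normalizer hnr i hi) h).mp hh
  have hreflp : R.refl i p = C.D.neg p := by
    rw [R.refl_eq i hi p hpl]
    simp [ChevalleyDatum.reflectRoot, hp]
  intro b hb
  have hb' : b ∈ ((C.D.posUnipotent F ⊔ C.D.diagonalSubgroup F : Subgroup (GL C.D.Idx F)) : Set (GL C.D.Idx F)) := hb
  rw [hBset, Set.mem_mul] at hb'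
  obtain ⟨u, hu, h, hh, rfl⟩ := hb'
  have hu' : u ∈ (C.D.posUnipotent F : Set (GL C.D.Idx F)) := hu
  rw [hUset, Set.mem_mul] at hu'
  obtain ⟨u', hu', x, hx, rfl⟩ := hu'
  obtain ⟨t, rfl⟩ := R.mem_rootSubgroup p x hx
  have e1 : n * (u' * R.xU p t * h) * n = (n * u' * n⁻¹) * (n * R.xU p t * n⁻¹) * ((n * h * n⁻¹) * (n * n)) := by group
  have hb1 : n * u' * n⁻¹ ∈ B := hUB (hUpU (hconjUp u' hu'))
  have hh1 : (n * h * n⁻¹) * (n * n) ∈ B := hHB (Subgroup.mul_mem _ (hconjH h hh) hsqH)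
  have e2 : n * R.xU p t * n⁻¹ = R.xU (C.D.neg p) (-t) := by
    rw [hconjx p hpl t, hreflp, (R.etaSimple i hi).1]
    congr 1
    simp
  rw [e1, e2]
  by_cases ht : t = 0
  · subst ht
    rw [neg_zero, R.xU_zero, mul_one]
    exact Or.inl (B.mul_mem hb1 hh1)
  · right
    have e3 : R.xU (C.D.neg p) (-t) = (R.xU p (-t⁻¹) * R.hU p t⁻¹) * n * R.xU p (-t⁻¹) := by
      have h1 : R.nU p t⁻¹ = R.xU p t⁻¹ * R.xU (C.D.neg p) (-t) * R.xU p t⁻¹ := by
        rw [R.nU_eq, inv_inv]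
      have h2 : R.xU (C.D.neg p) (-t) = R.xU p (-t⁻¹) * R.nU p t⁻¹ * R.xU p (-t⁻¹) := by
        rw [h1, ← R.xU_inv p t⁻¹]; group
      rw [h2, R.nU_eq_hU_mul p t⁻¹]
      simp only [← hn, mul_assoc]
    rw [e3]
    refine DoubleCoset.mem_doubleCoset.mpr ⟨(n * u' * n⁻¹) * (R.xU p (-t⁻¹) * R.hU p t⁻¹), ?_,
      R.xU p (-t⁻¹) * ((n * h * n⁻¹) * (n * n)), ?_, by group⟩
    · refine B.mul_mem hb1 (B.mul_mem (hUB ?_) (hHB (R.hU_mem p hpl _ (inv_ne_zero ht))))
      exact Subgroup.subset_closure ⟨p, _, (by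
        have h0 := hup i hi p hpl
        simp only [upCheck, Bool.and_eq_true, decide_eq_true_eq] at h0
        exact h0.1.1), rfl⟩
    · refine B.mul_mem (hUB ?_) hh1
      exact Subgroup.subset_closure ⟨p, _, (by
        have h0 := hup i hi p hpl
        simp only [upCheck, Bool.and_eq_true, decide_eq_true_eq] at h0
        exact h0.1.1), rfl⟩

end

end Cfsg.Agent.Lib.Helper3.ChevM
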