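import Mathlib
import Cfsg.Prelude.Def_ChevStructure
import Cfsg.Agent.Lib.Helper3.ChevG5
set_option autoImplicit false
open Cfsg Cfsg.Lie

namespace Cfsg.Agent.Lib.Helper3.ChevM

/-- The coroots of `±p_j` are `±` the `j`-th fundamental coroot, and `p_j` is positive. -/
def simpleCorootCheck (D : ChevalleyDatum) (j : ℕ) : Bool :=
  decide (D.IsPosRoot (D.simple j)) &&
  (List.range D.rank).all fun i => decide (i = j) ||
    (decide ((D.coroot.getD (D.simple j) #[]).getD i 0 = 0) &&
      decide ((D.coroot.getD (D.neg (D.simple j)) #[]).getD i 0 = 0))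

/-- The root `r` is the image of a fundamental root in its support under fundamental reflections in its support. -/
def suppWordCheck (D : ChevalleyDatum) (refl : ℕ → ℕ → ℕ) (rw : ℕ → List ℕ × ℕ) (r : ℕ) : Bool :=
  ((rw r).1.all fun i => decide (i < D.rank) && decide ((D.coroot.getD r #[]).getD i 0 ≠ 0)) &&
  decide ((rw r).2 < D.rank) && decide ((D.coroot.getD r #[]).getD (rw r).2 0 ≠ 0) &&
  decide (reflW refl (rw r).1 (D.simple (rw r).2) = r)

section
variable {F : Type*} [Field F] {C : CDatum} (R : RelData C)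

include R in
/-- S1047 -/
theorem RelData.parabolic_eq (hsc : ∀ j < C.D.rank, simpleCorootCheck C.D j = true)
    (rw : ℕ → List ℕ × ℕ) (hrw : ∀ r < C.D.nroots, suppWordCheck C.D R.refl rw r = true) (J : Set ℕ) :
    C.D.parabolicSubgroup F J = C.D.diagonalSubgroup F ⊔
      Subgroup.closure {g : GL C.D.Idx F | ∃ (r : ℕ) (t : F), (C.D.IsPosRoot r ∨ C.D.InRootSub J r) ∧
        (g : Matrix C.D.Idx C.D.Idx F) = C.D.x F r t} := by
  set XJ := Subgroup.closure {g : GL C.D.Idx F | ∃ (r : ℕ) (t : F), (C.D.IsPosRoot r ∨ C.D.InRootSub J r) ∧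
        (g : Matrix C.D.Idx C.D.Idx F) = C.D.x F r t} with hXJ
  have hsimple : ∀ j < C.D.rank, C.D.IsPosRoot (C.D.simple j) := by
    intro j hj
    have := hsc j hj
    simp only [simpleCorootCheck, Bool.and_eq_true, decide_eq_true_eq] at this
    exact this.1
  apply le_antisymm
  · unfold ChevalleyDatum.parabolicSubgroup ChevalleyDatum.borelSubgroup
    refine sup_le (sup_le ?_ le_sup_left) ?_
    · refine le_sup_of_le_right ?_
      unfold ChevalleyDatum.posUnipotent
      apply Subgroup.closure_mono
      rintro g ⟨r, t, hr, hg⟩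
      exact ⟨r, t, Or.inl hr, hg⟩
    · refine le_sup_of_le_right ?_
      rw [Subgroup.closure_le]
      rintro g ⟨j, hjJ, hj, hg⟩
      have hg' : g = R.nU (C.D.simple j) 1 := Units.ext (by rw [hg, R.nU_val])
      have hc := hsc j hj
      simp only [simpleCorootCheck, Bool.and_eq_true, decide_eq_true_eq, List.all_eq_true, List.mem_range,
        Bool.or_eq_true] at hc
      have hp : C.D.InRootSub J (C.D.simple j) := by
        refine ⟨R.simple_lt j hj, fun i hi hiJ => ?_⟩
        rcases hc.2 i hi with h | h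
        · subst h; exact absurd hjJ hiJ
        · exact h.1
      have hn : C.D.InRootSub J (C.D.neg (C.D.simple j)) := by
        refine ⟨R.neg_lt _ (R.simple_lt j hj), fun i hi hiJ => ?_⟩
        rcases hc.2 i hi with h | h
        · subst h; exact absurd hjJ hiJ
        · exact h.2
      rw [hg', R.nU_eq]
      refine XJ.mul_mem (XJ.mul_mem ?_ ?_) ?_
      · exact Subgroup.subset_closure ⟨_, _, Or.inr hp, rfl⟩
      · exact Subgroup.subset_closure ⟨_, _, Or.inr hn, rfl⟩
      · exact Subgroup.subset_closure ⟨_, _, Or.inr hp, rfl⟩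
  · have hUP : C.D.posUnipotent F ≤ C.D.parabolicSubgroup F J := le_sup_of_le_left le_sup_left
    refine sup_le (le_sup_of_le_left le_sup_right) ?_
    rw [hXJ, Subgroup.closure_le]
    rintro g ⟨r, t, hr, hg⟩
    have hg' : g = R.xU r t := Units.ext hg
    rcases hr with hr | hr
    · exact hUP (Subgroup.subset_closure ⟨r, t, hr, hg⟩)
    · have hrl : r < C.D.nroots := hr.1
      have hc := hrw r hrl
      simp only [suppWordCheck, Bool.and_eq_true, decide_eq_true_eq, List.all_eq_true] at hc
      obtain ⟨⟨⟨hl, hj⟩, hjs⟩, hrefl⟩ := hc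
      set l := (rw r).1
      set j := (rw r).2
      have hlJ : ∀ i ∈ l, i ∈ J := by
        intro i hi
        by_contra hiJ
        exact (hl i hi).2 (hr.2 i (hl i hi).1 hiJ)
      have hjJ : j ∈ J := by
        by_contra hjJ
        exact hjs (hr.2 j hj hjJ)
      have hlr : ∀ i ∈ l, i < C.D.rank := fun i hi => (hl i hi).1
      have hw : R.nWordU (F := F) l ∈ C.D.parabolicSubgroup F J := by
        apply Subgroup.mem_sup_right
        unfold RelData.nWordU
        apply Subgroup.list_prod_mem
        intro x hx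
        simp only [List.mem_map] at hx
        obtain ⟨i, hi, rfl⟩ := hx
        exact Subgroup.subset_closure ⟨i, hlJ i hi, hlr i hi, R.nU_val _ _⟩
      have hrel := R.conjRel_word (F := F) l hlr
      have hsj := R.simple_lt j hj
      have hconj := R.conj_units hrel (R.nWordU l) (R.nWordU_val l) (C.D.simple j) hsj
        ((etaW R.refl R.eta l (C.D.simple j) : F) * t)
      rw [hrefl, ← mul_assoc, eta_sq (hrel.sign _ hsj), one_mul] at hconj
      rw [hg', ← hconj]
      refine Subgroup.mul_mem _ (Subgroup.mul_mem _ hw (hUP ?_)) (Subgroup.inv_mem _ hw)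
      exact Subgroup.subset_closure ⟨_, _, hsimple j hj, rfl⟩

end

end Cfsg.Agent.Lib.Helper3.ChevM
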