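import Mathlib
import Cfsg.Prelude.Def_ChevStructure
import Cfsg.Agent.Lib.Helper3.ChevG6
set_option autoImplicit false
open Cfsg Cfsg.Lie

namespace Cfsg.Agent.Lib.Helper3.ChevM

open ChevT

/-- The matrix `M` preserves the span of the `h_i` and the span of the root vectors, and permutes the root vectors
up to sign along `σ` with signs `η`. -/
structure RootMono {F : Type*} [Field F] (D : ChevalleyDatum) (M : Matrix D.Idx D.Idx F) (σ : ℕ → ℕ) (η : ℕ → ℤ) :
    Prop where
  hr : ∀ (j : Fin D.rank) (s : Fin D.nroots), M (Sum.inl j) (Sum.inr s) = 0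
  rh : ∀ (s : Fin D.nroots) (j : Fin D.rank), M (Sum.inr s) (Sum.inl j) = 0
  rr : ∀ s' s : Fin D.nroots, M (Sum.inr s') (Sum.inr s) = if s'.val = σ s.val then (η s.val : F) else 0

section
variable {F : Type*} [Field F] {D : ChevalleyDatum}

theorem RootMono.one : RootMono D (1 : Matrix D.Idx D.Idx F) (fun s => s) (fun _ => 1) where
  hr := fun j s => Matrix.one_apply_ne (by simp)
  rh := fun s j => Matrix.one_apply_ne (by simp)
  rr := by
    intro s' s
    rw [Matrix.one_apply]
    by_cases h : s' = s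
    · subst h; simp
    · have : ¬ s'.val = s.val := fun e => h (Fin.ext e)
      simp [h, this]

theorem RootMono.congr {M : Matrix D.Idx D.Idx F} {σ σ' : ℕ → ℕ} {η η' : ℕ → ℤ} (h : RootMono D M σ η)
    (hσ : ∀ s < D.nroots, σ s = σ' s) (hη : ∀ s < D.nroots, η s = η' s) : RootMono D M σ' η' where
  hr := h.hr
  rh := h.rh
  rr := by
    intro s' s
    rw [h.rr, hσ s.val s.isLt, hη s.val s.isLt]

theorem RootMono.mul {M₁ M₂ : Matrix D.Idx D.Idx F} {σ₁ σ₂ : ℕ → ℕ} {η₁ η₂ : ℕ → ℤ}
    (h₁ : RootMono D M₁ σ₁ η₁) (h₂ : RootMono D M₂ σ₂ η₂) (hlt : ∀ k < D.nroots, σ₂ k < D.nroots) :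
    RootMono D (M₁ * M₂) (fun s => σ₁ (σ₂ s)) (fun s => η₁ (σ₂ s) * η₂ s) where
  hr := by
    intro j s
    rw [Matrix.mul_apply, Fintype.sum_sum_type]
    simp [h₁.hr, h₂.hr]
  rh := by
    intro s j
    rw [Matrix.mul_apply, Fintype.sum_sum_type]
    simp [h₁.rh, h₂.rh]
  rr := by
    intro s' s
    rw [Matrix.mul_apply, Fintype.sum_sum_type]
    simp only [h₁.rh, zero_mul, Finset.sum_const_zero, zero_add, h₁.rr, h₂.rr]
    rw [Finset.sum_eq_single (⟨σ₂ s.val, hlt s.val s.isLt⟩ : Fin D.nroots)]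
    · simp only [if_true]
      by_cases h : s'.val = σ₁ (σ₂ s.val)
      · simp [h]
      · simp [h]
    · intro k _ hk
      have : ¬ k.val = σ₂ s.val := fun e => hk (Fin.ext e)
      simp [this]
    · intro h; exact absurd (Finset.mem_univ _) h

theorem rootMono_nMatrix (i : ℕ) (η : ℕ → ℤ) :
    RootMono D (nMatrix D F i η) (ChevalleyDatum.reflectRoot D i) η where
  hr := fun _ _ => rfl
  rh := fun _ _ => rfl
  rr := fun _ _ => rfl

end

section
variable {F : Type*} [Field F] {C : CDatum} (R : RelData C)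

include R in
theorem RelData.rootMono_word (l : List ℕ) (hl : ∀ i ∈ l, i < C.D.rank) :
    RootMono C.D (nWordMat C.D F l) (reflW R.refl l) (etaW R.refl R.eta l) := by
  induction l with
  | nil => exact RootMono.one
  | cons i l ih =>
    have hl' : ∀ j ∈ l, j < C.D.rank := fun j hj => hl j (List.mem_cons_of_mem _ hj)
    have hi := hl i List.mem_cons_self
    have h1 : RootMono C.D (C.D.nMat F (C.D.simple i) 1) (R.refl i) (R.eta i) := by
      rw [R.nMat_simple i hi]
      exact (rootMono_nMatrix i (R.eta i)).congr (fun s hs => (R.refl_eq i hi s hs).symm) (fun _ _ => rfl)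
    have := h1.mul (ih hl') (fun k hk => R.reflW_lt l hl' k hk)
    unfold nWordMat
    rw [List.map_cons, List.prod_cons]
    exact this

end

/-- A self-map of `Fin n` which is injective and does not decrease an injective rank function is the identity. -/
theorem eq_self_of_le_of_injective {n : ℕ} (f : Fin n → Fin n) (hf : Function.Injective f) (g : Fin n → ℕ)
    (hg : Function.Injective g) (hle : ∀ s, g s ≤ g (f s)) : ∀ s, f s = s := by
  have hbij : Function.Bijective f := Finite.injective_iff_bijective.mp hf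
  let e : Fin n ≃ Fin n := Equiv.ofBijective f hbij
  have hsum : ∑ s, g (e s) = ∑ s, g s := Equiv.sum_comp e g
  intro s
  by_contra hne
  have hlt : g s < g (f s) := lt_of_le_of_ne (hle s) (fun h => hne (hg h.symm))
  have : ∑ s, g s < ∑ s, g (e s) :=
    Finset.sum_lt_sum (fun i _ => hle i) ⟨s, Finset.mem_univ s, hlt⟩
  omega

theorem reflW_append (refl : ℕ → ℕ → ℕ) (l1 l2 : List ℕ) (s : ℕ) :
    reflW refl (l1 ++ l2) s = reflW refl l1 (reflW refl l2 s) := by
  induction l1 with
  | nil => rfl
  | cons a l1 ih =>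
    simp only [List.cons_append, reflW]
    rw [ih]

/-- Check that the fundamental reflections are involutions on the roots. -/
def reflInvCheck (refl : ℕ → ℕ → ℕ) (i s : ℕ) : Bool :=
  decide (refl i (refl i s) = s)

section
variable {F : Type*} [Field F] {C : CDatum} (R : RelData C)

include R in
theorem RelData.reflW_reverse (hinv : ∀ i < C.D.rank, ∀ s < C.D.nroots, reflInvCheck R.refl i s = true)
    (l : List ℕ) (hl : ∀ i ∈ l, i < C.D.rank) (s : ℕ) (hs : s < C.D.nroots) :
    reflW R.refl l.reverse (reflW R.refl l s) = s := by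
  induction l generalizing s with
  | nil => rfl
  | cons i l ih =>
    have hl' : ∀ j ∈ l, j < C.D.rank := fun j hj => hl j (List.mem_cons_of_mem _ hj)
    have hi := hl i List.mem_cons_self
    rw [List.reverse_cons, reflW_append]
    show reflW R.refl l.reverse (R.refl i (R.refl i (reflW R.refl l s))) = s
    have := hinv i hi _ (R.reflW_lt l hl' s hs)
    simp only [reflInvCheck, decide_eq_true_eq] at this
    rw [this, ih hl' s hs]

include R in
/-- A product of the `n_{p_i}` which is triangular fixes every root. -/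
theorem RelData.reflW_eq_self_of_tri (hinv : ∀ i < C.D.rank, ∀ s < C.D.nroots, reflInvCheck R.refl i s = true)
    (l : List ℕ) (hl : ∀ i ∈ l, i < C.D.rank) (htri : Shift (posIdx C.D) 0 (nWordMat C.D F l)) :
    ∀ s < C.D.nroots, reflW R.refl l s = s := by
  have hmono := R.rootMono_word (F := F) l hl
  have hrel := R.conjRel_word (F := F) l hl
  let f : Fin C.D.nroots → Fin C.D.nroots := fun s => ⟨reflW R.refl l s.val, R.reflW_lt l hl s.val s.isLt⟩
  have hf : Function.Injective f := by
    intro a b hab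
    have h1 : reflW R.refl l a.val = reflW R.refl l b.val := congrArg Fin.val hab
    have h2 := R.reflW_reverse hinv l hl a.val a.isLt
    rw [h1, R.reflW_reverse hinv l hl b.val b.isLt] at h2
    exact Fin.ext h2.symm
  have hg : Function.Injective fun s : Fin C.D.nroots => posIdx C.D (Sum.inr s) := by
    intro a b hab
    have := posIdx_injective C.D hab
    exact Sum.inr_injective this
  have hle : ∀ s, posIdx C.D (Sum.inr s) ≤ posIdx C.D (Sum.inr (f s)) := by
    intro s
    by_contra hlt
    push Not at hlt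
    have h0 := htri (Sum.inr (f s)) (Sum.inr s) (by omega)
    rw [hmono.rr, if_pos rfl] at h0
    rcases hrel.sign s.val s.isLt with h1 | h1 <;> rw [h1] at h0 <;> simp at h0
  have key := eq_self_of_le_of_injective f hf _ hg hle
  intro s hs
  exact congrArg Fin.val (key ⟨s, hs⟩)

end

/-- `-p_i` is not a positive root. -/
def negSimpleCheck (D : ChevalleyDatum) (i : ℕ) : Bool :=
  !decide (D.IsPosRoot (D.neg (D.simple i))) && decide (D.IsPosRoot (D.simple i))

theorem exists_simple_of_walk (D : ChevalleyDatum) (refl : ℕ → ℕ → ℕ)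
    (hwp : ∀ i < D.rank, ∀ s < D.nroots, wpCheck D refl i s = true)
    (l : List ℕ) (hl : ∀ i ∈ l, i < D.rank) (s : ℕ) (hs : D.IsPosRoot s) (hneg : ¬ D.IsPosRoot (reflW refl l s)) :
    ∃ l1 j l2, l = l1 ++ j :: l2 ∧ reflW refl l2 s = D.simple j := by
  induction l with
  | nil => exact absurd hs hneg
  | cons a l ih =>
    have hl' : ∀ j ∈ l, j < D.rank := fun j hj => hl j (List.mem_cons_of_mem _ hj)
    by_cases h : D.IsPosRoot (reflW refl l s)
    · have hc := hwp a (hl a List.mem_cons_self) _ h.1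
      simp only [wpCheck, Bool.or_eq_true, Bool.and_eq_true, Bool.not_eq_true', decide_eq_true_eq,
        Bool.and_eq_false_imp, decide_eq_false_iff_not] at hc
      rcases hc with hc | hc
      · refine ⟨[], a, l, rfl, ?_⟩
        have := hc h
        simpa using this
      · exact absurd hc.1 hneg
    · obtain ⟨l1, j, l2, e, h2⟩ := ih hl' h
      exact ⟨a :: l1, j, l2, by rw [e]; rfl, h2⟩

section
variable {F : Type*} [Field F] {C : CDatum} (R : RelData C)

theorem RelData.nWordU_append (l1 l2 : List ℕ) : R.nWordU (F := F) (l1 ++ l2) = R.nWordU l1 * R.nWordU l2 := by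
  unfold RelData.nWordU
  rw [List.map_append, List.prod_append]

theorem RelData.nWordU_cons (i : ℕ) (l : List ℕ) :
    R.nWordU (F := F) (i :: l) = R.nU (C.D.simple i) 1 * R.nWordU l := by
  unfold RelData.nWordU
  rw [List.map_cons, List.prod_cons]

theorem RelData.nWordU_nil : R.nWordU (F := F) [] = 1 := rfl

/-- The hypotheses (table checks) used for the structure of the monomial subgroup. -/
structure MonoHyp (C : CDatum) (R : RelData C) where
  tri : ∀ r < C.D.nroots, posTri C r = true
  inv : ∀ i < C.D.rank, ∀ s < C.D.nroots, reflInvCheck R.refl i s = true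
  nr : ∀ i < C.D.rank, ∀ s < C.D.nroots, negReflCheck C.D R.refl i s = true
  wp : ∀ i < C.D.rank, ∀ s < C.D.nroots, wpCheck C.D R.refl i s = true
  ns : ∀ i < C.D.rank, negSimpleCheck C.D i = true
  rw : ℕ → List ℕ × ℕ
  rwc : ∀ r < C.D.nroots, rootWordCheck C.D R.refl rw r = true

variable {R}

theorem MonoHyp.monomial_le_normalizer (M : MonoHyp C R) :
    C.D.monomialSubgroup F ≤ Subgroup.normalizer (C.D.diagonalSubgroup F : Set (GL C.D.Idx F)) :=
  (Subgroup.normal_subgroupOf_iff_le_normalizer le_sup_left).mp (R.diagonal_normal_monomial M.nr M.rw M.rwc)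

theorem MonoHyp.conj_mem (M : MonoHyp C R) (n : GL C.D.Idx F) (hn : n ∈ C.D.monomialSubgroup F)
    (h : GL C.D.Idx F) (hh : h ∈ C.D.diagonalSubgroup F) : n * h * n⁻¹ ∈ C.D.diagonalSubgroup F :=
  (Subgroup.mem_normalizer_iff.mp (M.monomial_le_normalizer hn) h).mp hh

theorem MonoHyp.borel_le_tri (M : MonoHyp C R) : C.D.borelSubgroup F ≤ triSubgroup (posIdx C.D) F :=
  sup_le ((posUnipotent_le_ut C M.tri).trans (utSubgroup_le_tri 0)) (diagonalSubgroup_le_tri R)

/-- A product of the `n_{p_i}` which lies in `B` lies in `H`. -/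
theorem MonoHyp.nWordU_mem_diagonal (M : MonoHyp C R) :
    ∀ (k : ℕ) (l : List ℕ), l.length = k → (∀ i ∈ l, i < C.D.rank) → R.nWordU (F := F) l ∈ C.D.borelSubgroup F →
      R.nWordU (F := F) l ∈ C.D.diagonalSubgroup F := by
  intro k
  induction k using Nat.strong_induction_on with
  | _ k ih =>
    intro l hk hl hB
    rcases List.eq_nil_or_concat l with rfl | ⟨l', i, hcat⟩
    · exact Subgroup.one_mem _
    rw [List.concat_eq_append] at hcat
    subst hcat
    have hi : i < C.D.rank := hl i (by simp)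
    have hl' : ∀ j ∈ l', j < C.D.rank := fun j hj => hl j (by simp [hj])
    set p := C.D.simple i with hp
    have hpl : p < C.D.nroots := R.simple_lt i hi
    -- the word fixes every root
    have htri : Shift (posIdx C.D) 0 (nWordMat C.D F (l' ++ [i])) := by
      rw [← R.nWordU_val]
      exact M.borel_le_tri hB
    have hfix := R.reflW_eq_self_of_tri M.inv (l' ++ [i]) hl htri
    have hreflneg : R.refl i (C.D.neg p) = p := by
      rw [R.refl_eq i hi _ (R.neg_lt p hpl)]
      simp only [ChevalleyDatum.reflectRoot, ← hp]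
      split_ifs with h1 <;> simp_all
    have h1 : reflW R.refl l' p = C.D.neg p := by
      have h2 := hfix (C.D.neg p) (R.neg_lt p hpl)
      rw [reflW_append] at h2
      have h3 : reflW R.refl [i] (C.D.neg p) = p := hreflneg
      rw [h3] at h2
      exact h2
    have hns := M.ns i hi
    simp only [negSimpleCheck, Bool.and_eq_true, Bool.not_eq_true', decide_eq_false_iff_not, decide_eq_true_eq] at hns
    obtain ⟨l1, j, l2, e, h2⟩ := exists_simple_of_walk C.D R.refl M.wp l' hl' p hns.2 (by rw [h1]; exact hns.1)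
    subst e
    have hl1 : ∀ a ∈ l1, a < C.D.rank := fun a ha => hl' a (by simp [ha])
    have hl2 : ∀ a ∈ l2, a < C.D.rank := fun a ha => hl' a (by simp [ha])
    have hj : j < C.D.rank := hl' j (by simp)
    set W1 := R.nWordU (F := F) l1 with hW1
    set W2 := R.nWordU (F := F) l2 with hW2
    set nj := R.nU (C.D.simple j) (1 : F) with hnj
    set ni := R.nU p (1 : F) with hni
    have hword : R.nWordU (F := F) ((l1 ++ j :: l2) ++ [i]) = W1 * (nj * W2) * ni := by
      rw [R.nWordU_append, R.nWordU_append, R.nWordU_cons, R.nWordU_cons, R.nWordU_nil, mul_one]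
    have hrel := R.conjRel_word (F := F) l2 hl2
    have hnc := R.negCompat_word M.nr l2 hl2
    have hc := R.conj_nU hrel hnc W2 (R.nWordU_val l2) p hpl (1 : F)
    rw [h2, ← hni] at hc
    set η : F := ((etaW R.refl R.eta l2 p : ℤ) : F) * 1 with hη
    have hη0 : η ≠ 0 := by
      rw [hη, mul_one]
      rcases hrel.sign p hpl with h | h <;> rw [h] <;> simp
    have hsj := R.simple_lt j hj
    have h0 : nj * R.nU (C.D.simple j) η ∈ C.D.diagonalSubgroup F := by
      rw [hnj, R.nU_mul_nU]
      exact Subgroup.mul_mem _ (R.hU_mem _ hsj _ one_ne_zero)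
        (Subgroup.inv_mem _ (R.hU_mem _ hsj _ (neg_ne_zero.mpr hη0)))
    have hW1N : W1 ∈ C.D.monomialSubgroup F := R.nWordU_mem l1 hl1
    have h1' := M.conj_mem W1 hW1N _ h0
    have e2 : W1 * (nj * W2) * ni = (W1 * (nj * R.nU (C.D.simple j) η) * W1⁻¹) * (W1 * W2) := by
      rw [← hc]; group
    have hshort : R.nWordU (F := F) (l1 ++ l2) ∈ C.D.borelSubgroup F := by
      have : R.nWordU (F := F) (l1 ++ l2) =
          (W1 * (nj * R.nU (C.D.simple j) η) * W1⁻¹)⁻¹ * R.nWordU (F := F) ((l1 ++ j :: l2) ++ [i]) := by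
        rw [hword, e2, R.nWordU_append, ← hW1, ← hW2]; group
      rw [this]
      exact Subgroup.mul_mem _ (Subgroup.inv_mem _ (Subgroup.mem_sup_right h1')) hB
    have hlen : (l1 ++ l2).length < k := by
      rw [← hk]; simp
    have := ih _ hlen (l1 ++ l2) rfl (fun a ha => by
      rcases List.mem_append.mp ha with h | h
      · exact hl1 a h
      · exact hl2 a h) hshort
    rw [hword, e2, ← R.nWordU_append]
    exact Subgroup.mul_mem _ h1' this

end

section
variable {F : Type*} [Field F] {C : CDatum} {R : RelData C}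

theorem MonoHyp.nWordU_inv (M : MonoHyp C R) (l : List ℕ) (hl : ∀ i ∈ l, i < C.D.rank) :
    ∃ h ∈ C.D.diagonalSubgroup F, (R.nWordU (F := F) l)⁻¹ = h * R.nWordU l.reverse := by
  induction l with
  | nil => exact ⟨1, Subgroup.one_mem _, by simp [RelData.nWordU]⟩
  | cons i l ih =>
    have hl' : ∀ j ∈ l, j < C.D.rank := fun j hj => hl j (List.mem_cons_of_mem _ hj)
    have hi := hl i List.mem_cons_self
    obtain ⟨h, hh, e⟩ := ih hl'
    set ni := R.nU (C.D.simple i) (1 : F) with hni
    set W' := R.nWordU (F := F) l.reverse with hW'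
    have hk : (ni * ni)⁻¹ ∈ C.D.diagonalSubgroup F := Subgroup.inv_mem _ (R.nU_sq_mem _ (R.simple_lt i hi))
    have hN : W' * ni ∈ C.D.monomialSubgroup F := by
      refine Subgroup.mul_mem _ (R.nWordU_mem _ ?_) (R.nU_simple_mem i hi)
      intro a ha
      exact hl' a (List.mem_reverse.mp ha)
    refine ⟨h * ((W' * ni) * (ni * ni)⁻¹ * (W' * ni)⁻¹), Subgroup.mul_mem _ hh (M.conj_mem _ hN _ hk), ?_⟩
    rw [R.nWordU_cons, mul_inv_rev, e, List.reverse_cons, R.nWordU_append, R.nWordU_cons, R.nWordU_nil, mul_one,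
      ← hni, ← hW']
    group

/-- Every element of `N` is a product of an element of `H` and a word in the `n_{p_i}`. -/
theorem MonoHyp.monomial_decomp (M : MonoHyp C R) (g : GL C.D.Idx F) (hg : g ∈ C.D.monomialSubgroup F) :
    ∃ h ∈ C.D.diagonalSubgroup F, ∃ l : List ℕ, (∀ i ∈ l, i < C.D.rank) ∧ g = h * R.nWordU l := by
  let T : Subgroup (GL C.D.Idx F) :=
    { carrier := {g | ∃ h ∈ C.D.diagonalSubgroup F, ∃ l : List ℕ, (∀ i ∈ l, i < C.D.rank) ∧ g = h * R.nWordU l}
      mul_mem' := by
        rintro a b ⟨h1, hh1, l1, hl1, rfl⟩ ⟨h2, hh2, l2, hl2, rfl⟩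
        refine ⟨h1 * (R.nWordU l1 * h2 * (R.nWordU l1)⁻¹),
          Subgroup.mul_mem _ hh1 (M.conj_mem _ (R.nWordU_mem l1 hl1) _ hh2), l1 ++ l2, ?_, ?_⟩
        · intro i hi
          rcases List.mem_append.mp hi with h | h
          · exact hl1 i h
          · exact hl2 i h
        · rw [R.nWordU_append]; group
      one_mem' := ⟨1, Subgroup.one_mem _, [], by simp, by simp [RelData.nWordU]⟩
      inv_mem' := by
        rintro a ⟨h, hh, l, hl, rfl⟩
        obtain ⟨h', hh', e⟩ := M.nWordU_inv (F := F) l hl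
        have hl' : ∀ i ∈ l.reverse, i < C.D.rank := fun i hi => hl i (List.mem_reverse.mp hi)
        refine ⟨h' * (R.nWordU l.reverse * h⁻¹ * (R.nWordU l.reverse)⁻¹),
          Subgroup.mul_mem _ hh' (M.conj_mem _ (R.nWordU_mem _ hl') _ (Subgroup.inv_mem _ hh)), l.reverse, hl', ?_⟩
        rw [mul_inv_rev, e]; group }
  have hle : C.D.monomialSubgroup F ≤ T := by
    unfold ChevalleyDatum.monomialSubgroup
    refine sup_le ?_ ?_
    · intro h hh
      exact ⟨h, hh, [], by simp, by simp [RelData.nWordU]⟩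
    · rw [Subgroup.closure_le]
      rintro g ⟨r, hr, hg⟩
      have hg' : g = R.nU r (1 : F) := Units.ext (by rw [hg, R.nU_val])
      rw [hg']
      have h1 := R.nU_mem_closure_simple (F := F) M.nr M.rw M.rwc r hr
      refine (Subgroup.closure_le _).mpr ?_ h1
      rintro _ ⟨i, hi, rfl⟩
      refine ⟨1, Subgroup.one_mem _, [i], by simpa using hi, ?_⟩
      rw [R.nWordU_cons, R.nWordU_nil, one_mul, mul_one]
  exact hle hg

/-- `B ∩ N = H`. -/
theorem MonoHyp.borel_inf_monomial (M : MonoHyp C R) :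
    C.D.borelSubgroup F ⊓ C.D.monomialSubgroup F = C.D.diagonalSubgroup F := by
  apply le_antisymm
  · rintro g ⟨hgB, hgN⟩
    obtain ⟨h, hh, l, hl, rfl⟩ := M.monomial_decomp g hgN
    have hW : R.nWordU (F := F) l ∈ C.D.borelSubgroup F := by
      have : R.nWordU (F := F) l = h⁻¹ * (h * R.nWordU l) := by group
      rw [this]
      exact Subgroup.mul_mem _ (Subgroup.inv_mem _ (Subgroup.mem_sup_right hh)) hgB
    exact Subgroup.mul_mem _ hh (M.nWordU_mem_diagonal _ l rfl hl hW)
  · exact le_inf le_sup_right le_sup_left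

/-- S1040 -/
theorem MonoHyp.unipotent_inf_monomial (M : MonoHyp C R)
    (hdec : ∀ r < C.D.nroots, ∀ s < C.D.nroots, hdecCheck C.D R.pair r s = true) :
    C.D.posUnipotent F ⊓ C.D.monomialSubgroup F = ⊥ ∧
      C.D.borelSubgroup F ⊓ C.D.monomialSubgroup F = C.D.diagonalSubgroup F := by
  refine ⟨?_, M.borel_inf_monomial⟩
  rw [eq_bot_iff]
  rintro g ⟨hgU, hgN⟩
  have h1 : g ∈ C.D.borelSubgroup F ⊓ C.D.monomialSubgroup F := ⟨Subgroup.mem_sup_left hgU, hgN⟩
  rw [M.borel_inf_monomial] at h1
  have h2 : g ∈ C.D.posUnipotent F ⊓ C.D.diagonalSubgroup F := ⟨hgU, h1⟩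
  rw [(R.diagonal_normalizes (F := F) hdec M.tri).2] at h2
  exact h2

end

end Cfsg.Agent.Lib.Helper3.ChevM
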