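import Mathlib
import Cfsg.Prelude.Def_LieExceptional
set_option autoImplicit false
open Cfsg

namespace Cfsg.Agent.Lib.Helper3.ChevM

open DoubleCoset

/-- A (B,N)-pair on a subgroup `G₀` of a group `Γ`, from data and axioms stated inside `Γ`. -/
def bnOfSubgroup {Γ : Type*} [Group Γ] (G₀ B N : Subgroup Γ) (S : Set Γ) (hB : B ≤ G₀) (hN : N ≤ G₀)
    (h1 : B ⊔ N = G₀) (h2 : ∀ n ∈ N, ∀ t ∈ B ⊓ N, n * t * n⁻¹ ∈ B) (h3 : S ⊆ (N : Set Γ))
    (h4 : ∀ s ∈ S, s * s ∈ B) (h5 : ∀ s ∈ S, ∀ s' ∈ S, s⁻¹ * s' ∈ B → s = s')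
    (h6 : Subgroup.closure S ⊔ (B ⊓ N) = N)
    (h7 : ∀ s ∈ S, ∀ n ∈ N, ∀ b ∈ B,
      s * b * n ∈ doubleCoset (s * n) (B : Set Γ) B ∪ doubleCoset n (B : Set Γ) B)
    (h8 : ∀ s ∈ S, (fun b : Γ => s * b * s) '' (B : Set Γ) ≠ (B : Set Γ)) : BNPair ↥G₀ where
  B := B.subgroupOf G₀
  N := N.subgroupOf G₀
  S := {x | (x : Γ) ∈ S}
  sup_eq_top := by
    rw [← Subgroup.subgroupOf_sup hB hN, h1, Subgroup.subgroupOf_self]
  conj_mem := by
    rintro n hn t ⟨htB, htN⟩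
    rw [Subgroup.mem_subgroupOf] at hn ⊢
    exact h2 _ hn _ ⟨Subgroup.mem_subgroupOf.mp htB, Subgroup.mem_subgroupOf.mp htN⟩
  subset := fun x hx => Subgroup.mem_subgroupOf.mpr (h3 hx)
  sq_mem := fun s hs => Subgroup.mem_subgroupOf.mpr (h4 _ hs)
  inj := by
    intro s hs s' hs' h
    exact Subtype.ext (h5 _ hs _ hs' (Subgroup.mem_subgroupOf.mp h))
  closure_sup := by
    apply Subgroup.map_injective G₀.subtype_injective
    have hS : G₀.subtype '' {x : ↥G₀ | (x : Γ) ∈ S} = S := by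
      ext y
      constructor
      · rintro ⟨x, hx, rfl⟩; exact hx
      · intro hy; exact ⟨⟨y, hN (h3 hy)⟩, hy, rfl⟩
    have hinf : B.subgroupOf G₀ ⊓ N.subgroupOf G₀ = (B ⊓ N).subgroupOf G₀ := by
      ext x; simp [Subgroup.mem_subgroupOf]
    rw [Subgroup.map_sup, MonoidHom.map_closure, hinf,
      Subgroup.map_subgroupOf_eq_of_le (inf_le_left.trans hB), Subgroup.map_subgroupOf_eq_of_le hN]
    rw [show (⇑G₀.subtype '' {x : ↥G₀ | (x : Γ) ∈ S}) = S from hS, h6]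
  mul_mem_union := by
    intro s hs n hn b hb
    have key := h7 _ hs _ (Subgroup.mem_subgroupOf.mp hn) _ (Subgroup.mem_subgroupOf.mp hb)
    rcases key with key | key
    · left
      obtain ⟨b1, hb1, b2, hb2, e⟩ := mem_doubleCoset.mp key
      exact mem_doubleCoset.mpr ⟨⟨b1, hB hb1⟩, Subgroup.mem_subgroupOf.mpr hb1, ⟨b2, hB hb2⟩,
        Subgroup.mem_subgroupOf.mpr hb2, Subtype.ext e⟩
    · right
      obtain ⟨b1, hb1, b2, hb2, e⟩ := mem_doubleCoset.mp key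
      exact mem_doubleCoset.mpr ⟨⟨b1, hB hb1⟩, Subgroup.mem_subgroupOf.mpr hb1, ⟨b2, hB hb2⟩,
        Subgroup.mem_subgroupOf.mpr hb2, Subtype.ext e⟩
  conj_ne := by
    intro s hs heq
    apply h8 _ hs
    ext y
    constructor
    · rintro ⟨b, hb, rfl⟩
      have h1' : s * ⟨b, hB hb⟩ * s ∈ (fun b : ↥G₀ => s * b * s) '' ((B.subgroupOf G₀ : Subgroup ↥G₀) : Set ↥G₀) :=
        ⟨⟨b, hB hb⟩, Subgroup.mem_subgroupOf.mpr hb, rfl⟩
      rw [heq] at h1'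
      exact Subgroup.mem_subgroupOf.mp h1'
    · intro hy
      have h1' : (⟨y, hB hy⟩ : ↥G₀) ∈ ((B.subgroupOf G₀ : Subgroup ↥G₀) : Set ↥G₀) := Subgroup.mem_subgroupOf.mpr hy
      rw [← heq] at h1'
      obtain ⟨b0, hb0, e⟩ := h1'
      exact ⟨b0, Subgroup.mem_subgroupOf.mp hb0, congrArg Subtype.val e⟩

end Cfsg.Agent.Lib.Helper3.ChevM
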