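import Mathlib
import Cfsg.Prelude.Def_ChevStructure
import Cfsg.Agent.Lib.Helper3.ChevB1
import Cfsg.Agent.Lib.Helper3.ChevB2
set_option autoImplicit false
open Cfsg Cfsg.Lie

namespace Cfsg.Agent.Lib.Helper3.ChevM

open ChevT DoubleCoset

/-- For the fundamental root `p_i`: the entry of `x_{-p}(u)` in row `e_{-p}` and column `e_p` is `-u²`, and it lies
below the diagonal in the triangular order. -/
def lowCheck (C : CDatum) (i : ℕ) : Bool :=
  injCheck C (C.D.neg (C.D.simple i)) && decide (C.D.neg (C.D.neg (C.D.simple i)) = C.D.simple i) &&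
  decide (posC C.D (C.D.rank + C.D.neg (C.D.simple i)) < posC C.D (C.D.rank + C.D.simple i))

theorem eq_zero_of_tri_x_neg_simple {F : Type*} [Field F] {C : CDatum} (R : RelData C) (i : ℕ) (hi : i < C.D.rank)
    (hlow : lowCheck C i = true) (u : F)
    (h : Shift (posIdx C.D) 0 (C.D.x F (C.D.neg (C.D.simple i)) u)) : u = 0 := by
  simp only [lowCheck, Bool.and_eq_true, decide_eq_true_eq] at hlow
  obtain ⟨⟨h1, h2⟩, h3⟩ := hlow
  have hp := R.simple_lt i hi
  have hn := R.neg_lt _ hp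
  have hnn := R.neg_lt _ hn
  have hent := x_entry_neg C _ hn hnn h1 u
  have h0 := h (Sum.inr ⟨C.D.neg (C.D.simple i), hn⟩) (Sum.inr ⟨C.D.neg (C.D.neg (C.D.simple i)), hnn⟩) (by
    show posC C.D (C.D.rank + C.D.neg (C.D.simple i)) < posC C.D (C.D.rank + C.D.neg (C.D.neg (C.D.simple i))) + 0
    rw [h2, add_zero]; exact h3)
  rw [hent, neg_eq_zero] at h0
  exact pow_eq_zero_iff (two_ne_zero) |>.mp h0

section
variable {F : Type*} [Field F] {C : CDatum} {R : RelData C}

/-- An element of `N` conjugates the root elements to root elements. -/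
theorem MonoHyp.conj_xU (M : MonoHyp C R)
    (hdec : ∀ r < C.D.nroots, ∀ s < C.D.nroots, hdecCheck C.D R.pair r s = true)
    (g : GL C.D.Idx F) (hg : g ∈ C.D.monomialSubgroup F) :
    ∃ (σ : ℕ → ℕ) (d : ℕ → F), ∀ k < C.D.nroots, σ k < C.D.nroots ∧ d k ≠ 0 ∧ σ (C.D.neg k) = C.D.neg (σ k) ∧
      ∀ c : F, g * R.xU k c * g⁻¹ = R.xU (σ k) (d k * c) := by
  obtain ⟨h, hh, l, hl, rfl⟩ := M.monomial_decomp g hg
  obtain ⟨c', hc', -, key⟩ := R.diagonal_mul_x hdec h hh
  have hrel := R.conjRel_word (F := F) l hl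
  have hnc := R.negCompat_word M.nr l hl
  refine ⟨reflW R.refl l, fun k => ((List.range C.D.rank).map fun i => c' i ^ C.D.cartan i (reflW R.refl l k)).prod *
    (etaW R.refl R.eta l k : F), fun k hk => ?_⟩
  have hσ := R.reflW_lt l hl k hk
  refine ⟨hσ, ?_, (hnc k hk).1, fun c => ?_⟩
  · apply mul_ne_zero
    · apply List.prod_ne_zero
      simp only [List.mem_map, List.mem_range, not_exists, not_and]
      intro i hi h0
      exact zpow_ne_zero _ (hc' i hi) h0
    · rcases hrel.sign k hk with h1 | h1 <;> rw [h1] <;> simp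
  · have e1 : h * R.nWordU l * R.xU k c * (h * R.nWordU l)⁻¹ = h * (R.nWordU l * R.xU k c * (R.nWordU l)⁻¹) * h⁻¹ := by
      group
    rw [e1, R.conj_units hrel (R.nWordU l) (R.nWordU_val l) k hk c]
    apply Units.ext
    rw [Units.val_mul, Units.val_mul, R.xU_val, R.xU_val, key _ hσ, mul_assoc, ← Units.val_mul, mul_inv_cancel,
      Units.val_one, mul_one, mul_assoc]

end

section
variable {F : Type*} [Field F] {C : CDatum} {R : RelData C} (K : CommData C R)

include K in
/-- The decomposition `B = U_p X_p H` and the action of `n_p` on `U_p`, for a fundamental root `p`. -/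
theorem CommData.borel_decomp
    (hup : ∀ i < C.D.rank, ∀ s < C.D.nroots, upCheck C.D i s = true)
    (hdec : ∀ r < C.D.nroots, ∀ s < C.D.nroots, hdecCheck C.D R.pair r s = true)
    (hwp : ∀ i < C.D.rank, ∀ s < C.D.nroots, wpCheck C.D R.refl i s = true)
    (i : ℕ) (hi : i < C.D.rank) :
    ∃ Up : Subgroup (GL C.D.Idx F), Up ≤ C.D.posUnipotent F ∧
      (∀ u ∈ Up, R.nU (C.D.simple i) (1 : F) * u * (R.nU (C.D.simple i) (1 : F))⁻¹ ∈ Up) ∧
      ∀ b ∈ C.D.borelSubgroup F, ∃ u' ∈ Up, ∃ t : F, ∃ h ∈ C.D.diagonalSubgroup F, b = u' * R.xU (C.D.simple i) t * h := by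
  set p := C.D.simple i with hp
  set n := R.nU p (1 : F) with hn
  have hpl : p < C.D.nroots := R.simple_lt i hi
  obtain ⟨hXN, hUeq⟩ := K.up_normal (F := F) hup i hi
  set Up := Subgroup.closure {g : GL C.D.Idx F | ∃ (s : ℕ) (t : F), C.D.IsPosRoot s ∧ s ≠ p ∧
      (g : Matrix C.D.Idx C.D.Idx F) = C.D.x F s t} with hUp
  have hUpU : Up ≤ C.D.posUnipotent F := by rw [← hUeq]; exact le_sup_left
  have hUset := Subgroup.coe_mul_of_right_le_normalizer_left Up (C.D.rootSubgroup F p) (le_sup_left.trans hXN)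
  rw [hUeq] at hUset
  have hHU : C.D.diagonalSubgroup F ≤ Subgroup.normalizer (C.D.posUnipotent F : Set (GL C.D.Idx F)) :=
    R.diagonal_le_normalizer_closure hdec (fun s => C.D.IsPosRoot s) (fun s hs => hs.1)
  have hBset := Subgroup.coe_mul_of_right_le_normalizer_left (C.D.posUnipotent F) (C.D.diagonalSubgroup F) hHU
  have hrel := R.conjRel (F := F) i hi
  have hconjx := fun k hk t => R.conj_units hrel n (R.nU_val _ _) k hk t
  refine ⟨Up, hUpU, ?_, ?_⟩
  · intro u hu
    have hmap : Up.map (MulAut.conj n).toMonoidHom ≤ Up := by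
      rw [hUp, MonoidHom.map_closure, Subgroup.closure_le]
      rintro _ ⟨v, ⟨s, t, hs, hsp, hv⟩, rfl⟩
      have hv' : v = R.xU s t := Units.ext hv
      show n * v * n⁻¹ ∈ _
      rw [hv', hconjx s hs.1 t]
      have hc := hwp i hi s hs.1
      simp only [wpCheck, Bool.or_eq_true, Bool.and_eq_true, Bool.not_eq_true', decide_eq_true_eq,
        Bool.and_eq_false_imp, decide_eq_false_iff_not] at hc
      rcases hc with hc | hc
      · exact absurd hsp (by simpa using hc hs)
      · exact Subgroup.subset_closure ⟨_, _, hc.1, hc.2, rfl⟩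
    exact hmap ⟨u, hu, rfl⟩
  · intro b hb
    have hb' : b ∈ ((C.D.posUnipotent F ⊔ C.D.diagonalSubgroup F : Subgroup (GL C.D.Idx F)) : Set (GL C.D.Idx F)) := hb
    rw [hBset, Set.mem_mul] at hb'
    obtain ⟨u, hu, h, hh, rfl⟩ := hb'
    have hu' : u ∈ (C.D.posUnipotent F : Set (GL C.D.Idx F)) := hu
    rw [hUset, Set.mem_mul] at hu'
    obtain ⟨u', hu', x, hx, rfl⟩ := hu'
    obtain ⟨t, rfl⟩ := R.mem_rootSubgroup p x hx
    exact ⟨u', hu', t, h, hh, rfl⟩

end

section
variable {F : Type*} [Field F] {C : CDatum} {R : RelData C} (K : CommData C R)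

include K in
/-- The axiom `s B n ⊆ B s n B ∪ B n B` of a (B,N)-pair. -/
theorem CommData.bn_axiom (M : MonoHyp C R)
    (hup : ∀ i < C.D.rank, ∀ s < C.D.nroots, upCheck C.D i s = true)
    (hdec : ∀ r < C.D.nroots, ∀ s < C.D.nroots, hdecCheck C.D R.pair r s = true)
    (hroot : ∀ r < C.D.nroots, rootCheck C.D r = true)
    (i : ℕ) (hi : i < C.D.rank) (n : GL C.D.Idx F) (hn : n ∈ C.D.monomialSubgroup F)
    (b : GL C.D.Idx F) (hb : b ∈ C.D.borelSubgroup F) :
    R.nU (C.D.simple i) (1 : F) * b * n ∈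
      doubleCoset (R.nU (C.D.simple i) (1 : F) * n) (C.D.borelSubgroup F : Set (GL C.D.Idx F)) (C.D.borelSubgroup F) ∪
        doubleCoset n (C.D.borelSubgroup F : Set (GL C.D.Idx F)) (C.D.borelSubgroup F) := by
  obtain ⟨Up, hUpU, hconjUp, hdecomp⟩ := K.borel_decomp (F := F) hup hdec M.wp i hi
  obtain ⟨u', hu', t, h, hh, rfl⟩ := hdecomp b hb
  set p := C.D.simple i with hp
  set s := R.nU p (1 : F) with hs
  have hpl : p < C.D.nroots := R.simple_lt i hi
  have hnpl : C.D.neg p < C.D.nroots := R.neg_lt p hpl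
  have hHB : C.D.diagonalSubgroup F ≤ C.D.borelSubgroup F := le_sup_right
  have hUB : C.D.posUnipotent F ≤ C.D.borelSubgroup F := le_sup_left
  have hxB : ∀ k, C.D.IsPosRoot k → ∀ c : F, R.xU k c ∈ C.D.borelSubgroup F := fun k hk c =>
    hUB (Subgroup.subset_closure ⟨k, c, hk, rfl⟩)
  have hninv : n⁻¹ ∈ C.D.monomialSubgroup F := Subgroup.inv_mem _ hn
  obtain ⟨σ, d, hσ⟩ := M.conj_xU hdec n⁻¹ hninv
  have push : ∀ k < C.D.nroots, ∀ c : F, R.xU k c * n = n * R.xU (σ k) (d k * c) := by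
    intro k hk c
    have := (hσ k hk).2.2.2 c
    rw [inv_inv] at this
    rw [← this]; group
  have hB1 : s * u' * s⁻¹ ∈ C.D.borelSubgroup F := hUB (hUpU (hconjUp u' hu'))
  have hH2 : n⁻¹ * h * n ∈ C.D.diagonalSubgroup F := by
    have := M.conj_mem n⁻¹ hninv h hh
    rwa [inv_inv] at this
  have hsN : s ∈ C.D.monomialSubgroup F := R.nU_simple_mem i hi
  have hppos : C.D.IsPosRoot p := by
    have := M.ns i hi
    simp only [negSimpleCheck, Bool.and_eq_true, decide_eq_true_eq] at this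
    exact this.2
  have hrc := hroot (σ p) (hσ p hpl).1
  simp only [rootCheck, Bool.and_eq_true, Bool.or_eq_true, decide_eq_true_eq] at hrc
  rcases hrc.1 with hpos | hpos
  · left
    have e : s * (u' * R.xU p t * h) * n = (s * u' * s⁻¹) * (s * n) * (R.xU (σ p) (d p * t) * (n⁻¹ * h * n)) := by
      have h1 : s * (u' * R.xU p t * h) * n = (s * u' * s⁻¹) * s * (R.xU p t * n) * (n⁻¹ * h * n) := by group
      rw [h1, push p hpl t]; group
    exact mem_doubleCoset.mpr ⟨_, hB1, _, Subgroup.mul_mem _ (hxB _ hpos _) (hHB hH2), e⟩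
  · by_cases ht : t = 0
    · left
      subst ht
      have e : s * (u' * R.xU p 0 * h) * n = (s * u' * s⁻¹) * (s * n) * (n⁻¹ * h * n) := by
        rw [R.xU_zero]; group
      exact mem_doubleCoset.mpr ⟨_, hB1, _, hHB hH2, e⟩
    · right
      have hx : R.xU p t = (R.hU p t * s) * R.xU p (-t) * R.xU (C.D.neg p) t⁻¹ := by
        rw [← R.nU_eq_hU_mul p t, R.nU_eq, ← R.xU_inv p t]
        have : R.xU (C.D.neg p) t⁻¹ = (R.xU (C.D.neg p) (-t⁻¹))⁻¹ := by rw [R.xU_inv, neg_neg]
        rw [this]; group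
      have hσn : σ (C.D.neg p) = C.D.neg (σ p) := (hσ p hpl).2.2.1
      have e : s * (u' * R.xU p t * h) * n =
          ((s * u' * s⁻¹) * (s * R.hU p t * s⁻¹) * (s * s) * R.xU p (-t)) * n *
            (R.xU (C.D.neg (σ p)) (d (C.D.neg p) * t⁻¹) * (n⁻¹ * h * n)) := by
        have h1 : s * (u' * R.xU p t * h) * n =
            ((s * u' * s⁻¹) * (s * R.hU p t * s⁻¹) * (s * s) * R.xU p (-t)) * (R.xU (C.D.neg p) t⁻¹ * n) *
              (n⁻¹ * h * n) := by
          conv_lhs => rw [hx]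
          group
        rw [h1, push _ hnpl, hσn]; group
      refine mem_doubleCoset.mpr ⟨_, ?_, _, Subgroup.mul_mem _ (hxB _ hpos _) (hHB hH2), e⟩
      refine Subgroup.mul_mem _ (Subgroup.mul_mem _ (Subgroup.mul_mem _ hB1 (hHB ?_)) (hHB ?_)) (hxB _ hppos _)
      · exact M.conj_mem s hsN _ (R.hU_mem p hpl t ht)
      · exact R.nU_sq_mem p hpl

end

section
variable {F : Type*} [Field F] {C : CDatum} {R : RelData C}

/-- The set of the `n_{p_i}`. -/
def simpleReps (D : ChevalleyDatum) (F : Type*) [Field F] : Set (GL D.Idx F) :=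
  {g | ∃ i < D.rank, (g : Matrix D.Idx D.Idx F) = D.nMat F (D.simple i) 1}

theorem RelData.mem_simpleReps (R : RelData C) (g : GL C.D.Idx F) :
    g ∈ simpleReps C.D F ↔ ∃ i < C.D.rank, g = R.nU (C.D.simple i) (1 : F) := by
  constructor
  · rintro ⟨i, hi, hg⟩
    exact ⟨i, hi, Units.ext (by rw [hg, R.nU_val])⟩
  · rintro ⟨i, hi, rfl⟩
    exact ⟨i, hi, R.nU_val _ _⟩

theorem MonoHyp.conj_simple_self (_M : MonoHyp C R) (i : ℕ) (hi : i < C.D.rank) (c : F) :
    R.nU (C.D.simple i) (1 : F) * R.xU (C.D.simple i) c * (R.nU (C.D.simple i) (1 : F))⁻¹ =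
      R.xU (C.D.neg (C.D.simple i)) (-c) := by
  have hpl := R.simple_lt i hi
  rw [R.conj_units (R.conjRel (F := F) i hi) _ (R.nU_val _ _) _ hpl c]
  have hreflp : R.refl i (C.D.simple i) = C.D.neg (C.D.simple i) := by
    rw [R.refl_eq i hi _ hpl]
    simp [ChevalleyDatum.reflectRoot]
  rw [hreflp, (R.etaSimple i hi).1]
  congr 1
  simp

theorem MonoHyp.simpleReps_inj (M : MonoHyp C R)
    (hdec : ∀ r < C.D.nroots, ∀ s < C.D.nroots, hdecCheck C.D R.pair r s = true)
    (hlow : ∀ i < C.D.rank, lowCheck C i = true)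
    (s : GL C.D.Idx F) (hs : s ∈ simpleReps C.D F) (s' : GL C.D.Idx F) (hs' : s' ∈ simpleReps C.D F)
    (h : s⁻¹ * s' ∈ C.D.borelSubgroup F) : s = s' := by
  obtain ⟨i, hi, rfl⟩ := (R.mem_simpleReps s).mp hs
  obtain ⟨j, hj, rfl⟩ := (R.mem_simpleReps s').mp hs'
  by_cases hij : C.D.simple i = C.D.simple j
  · rw [hij]
  exfalso
  set s := R.nU (C.D.simple i) (1 : F) with hs0
  set s' := R.nU (C.D.simple j) (1 : F) with hs0'
  have hsN : s ∈ C.D.monomialSubgroup F := R.nU_simple_mem i hi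
  have hsN' : s' ∈ C.D.monomialSubgroup F := R.nU_simple_mem j hj
  have hH : s⁻¹ * s' ∈ C.D.diagonalSubgroup F := by
    rw [← M.borel_inf_monomial]
    exact ⟨h, Subgroup.mul_mem _ (Subgroup.inv_mem _ hsN) hsN'⟩
  obtain ⟨c, hc, -, key⟩ := R.diagonal_mul_x hdec _ hH
  have hpj := R.simple_lt j hj
  set χ : F := ((List.range C.D.rank).map fun a => c a ^ C.D.cartan a (C.D.simple j)).prod with hχ
  have e1 : (s⁻¹ * s') * R.xU (C.D.simple j) 1 * (s⁻¹ * s')⁻¹ = R.xU (C.D.simple j) (χ * 1) := by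
    apply Units.ext
    rw [Units.val_mul, Units.val_mul, R.xU_val, R.xU_val, key _ hpj, mul_assoc, ← Units.val_mul, mul_inv_cancel,
      Units.val_one, mul_one]
  have e2 : s' * R.xU (C.D.simple j) 1 * s'⁻¹ = s * ((s⁻¹ * s') * R.xU (C.D.simple j) 1 * (s⁻¹ * s')⁻¹) * s⁻¹ := by
    group
  rw [e1, M.conj_simple_self j hj, R.conj_units (R.conjRel (F := F) i hi) _ (R.nU_val _ _) _ hpj] at e2
  have hjpos : C.D.IsPosRoot (C.D.simple j) := by
    have := M.ns j hj
    simp only [negSimpleCheck, Bool.and_eq_true, decide_eq_true_eq] at this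
    exact this.2
  have hwp := M.wp i hi _ hpj
  simp only [wpCheck, Bool.or_eq_true, Bool.and_eq_true, Bool.not_eq_true', decide_eq_true_eq,
    Bool.and_eq_false_imp, decide_eq_false_iff_not] at hwp
  rcases hwp with hwp | hwp
  · have h3 : C.D.simple j = C.D.simple i := by simpa using hwp hjpos
    exact hij h3.symm
  · have hmem : R.xU (C.D.neg (C.D.simple j)) (-1 : F) ∈ C.D.borelSubgroup F := by
      rw [e2]
      exact Subgroup.mem_sup_left (Subgroup.subset_closure ⟨_, _, hwp.1, rfl⟩)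
    have := eq_zero_of_tri_x_neg_simple R j hj (hlow j hj) (-1 : F) (M.borel_le_tri hmem)
    simp at this

theorem MonoHyp.simpleReps_conj_ne (M : MonoHyp C R) (hlow : ∀ i < C.D.rank, lowCheck C i = true)
    (s : GL C.D.Idx F) (hs : s ∈ simpleReps C.D F) :
    (fun b : GL C.D.Idx F => s * b * s) '' (C.D.borelSubgroup F : Set (GL C.D.Idx F)) ≠
      (C.D.borelSubgroup F : Set (GL C.D.Idx F)) := by
  obtain ⟨i, hi, rfl⟩ := (R.mem_simpleReps s).mp hs
  intro heq
  set s := R.nU (C.D.simple i) (1 : F) with hs0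
  have hpl := R.simple_lt i hi
  have hipos : C.D.IsPosRoot (C.D.simple i) := by
    have := M.ns i hi
    simp only [negSimpleCheck, Bool.and_eq_true, decide_eq_true_eq] at this
    exact this.2
  have hx : R.xU (C.D.simple i) (1 : F) ∈ C.D.borelSubgroup F :=
    Subgroup.mem_sup_left (Subgroup.subset_closure ⟨_, _, hipos, rfl⟩)
  have h1 : s * R.xU (C.D.simple i) (1 : F) * s ∈ (C.D.borelSubgroup F : Set (GL C.D.Idx F)) := by
    rw [← heq]; exact ⟨_, hx, rfl⟩
  have hsq : s * s ∈ C.D.borelSubgroup F := Subgroup.mem_sup_right (R.nU_sq_mem _ hpl)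
  have h2 : R.xU (C.D.neg (C.D.simple i)) (-1 : F) ∈ C.D.borelSubgroup F := by
    rw [← M.conj_simple_self i hi (1 : F)]
    have e : s * R.xU (C.D.simple i) 1 * s⁻¹ = (s * R.xU (C.D.simple i) 1 * s) * (s * s)⁻¹ := by group
    rw [e]
    exact Subgroup.mul_mem _ h1 (Subgroup.inv_mem _ hsq)
  have := eq_zero_of_tri_x_neg_simple R i hi (hlow i hi) (-1 : F) (M.borel_le_tri h2)
  simp at this

theorem MonoHyp.closure_simpleReps_sup (M : MonoHyp C R) :
    Subgroup.closure (simpleReps C.D F) ⊔ (C.D.borelSubgroup F ⊓ C.D.monomialSubgroup F) = C.D.monomialSubgroup F := by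
  rw [M.borel_inf_monomial]
  apply le_antisymm
  · refine sup_le ?_ le_sup_left
    rw [Subgroup.closure_le]
    rintro g ⟨i, hi, hg⟩
    exact Subgroup.mem_sup_right (Subgroup.subset_closure ⟨_, R.simple_lt i hi, hg⟩)
  · conv_lhs => unfold ChevalleyDatum.monomialSubgroup
    refine sup_le le_sup_right (le_sup_of_le_left ?_)
    rw [Subgroup.closure_le]
    rintro g ⟨r, hr, hg⟩
    have hg' : g = R.nU r (1 : F) := Units.ext (by rw [hg, R.nU_val])
    rw [hg']
    have h1 := R.nU_mem_closure_simple (F := F) M.nr M.rw M.rwc r hr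
    refine (Subgroup.closure_mono ?_) h1
    rintro _ ⟨i, hi, rfl⟩
    exact ⟨i, hi, R.nU_val _ _⟩

end

section
variable {F : Type*} [Field F] {C : CDatum} {R : RelData C} (K : CommData C R)

/-- The hypotheses (table checks) for the (B,N)-pair. -/
structure BNHyp (C : CDatum) (R : RelData C) where
  mono : MonoHyp C R
  up : ∀ i < C.D.rank, ∀ s < C.D.nroots, upCheck C.D i s = true
  dec : ∀ r < C.D.nroots, ∀ s < C.D.nroots, hdecCheck C.D R.pair r s = true
  root : ∀ r < C.D.nroots, rootCheck C.D r = true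
  nc : ∀ r < C.D.nroots, C.checkNegConj r = true
  low : ∀ i < C.D.rank, lowCheck C i = true

include K in
/-- The (B,N)-pair of a Chevalley group. -/
def CommData.bnPair (Hy : BNHyp C R) : BNPair ↥(C.D.group F) :=
  bnOfSubgroup (C.D.group F) (C.D.borelSubgroup F) (C.D.monomialSubgroup F) (simpleReps C.D F)
    (R.borel_sup_monomial Hy.root Hy.nc).1 (R.borel_sup_monomial Hy.root Hy.nc).2.1
    (R.borel_sup_monomial Hy.root Hy.nc).2.2
    (by
      intro n hn t ht
      rw [Hy.mono.borel_inf_monomial] at ht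
      exact Subgroup.mem_sup_right (Hy.mono.conj_mem n hn t ht))
    (by
      rintro g ⟨i, hi, hg⟩
      exact Subgroup.mem_sup_right (Subgroup.subset_closure ⟨_, R.simple_lt i hi, hg⟩))
    (by
      intro s hs
      obtain ⟨i, hi, rfl⟩ := (R.mem_simpleReps s).mp hs
      exact Subgroup.mem_sup_right (R.nU_sq_mem _ (R.simple_lt i hi)))
    (Hy.mono.simpleReps_inj Hy.dec Hy.low)
    Hy.mono.closure_simpleReps_sup
    (by
      intro s hs n hn b hb
      obtain ⟨i, hi, rfl⟩ := (R.mem_simpleReps s).mp hs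
      exact K.bn_axiom Hy.mono Hy.up Hy.dec Hy.root i hi n hn b hb)
    (Hy.mono.simpleReps_conj_ne Hy.low)

include K in
/-- S1042 -/
theorem CommData.has_bnPair (Hy : BNHyp C R) :
    ∃ P : Cfsg.BNPair ↥(C.D.group F),
      P.B = (C.D.borelSubgroup F).subgroupOf (C.D.group F) ∧
      P.N = (C.D.monomialSubgroup F).subgroupOf (C.D.group F) ∧
      P.S = {n : ↥(C.D.group F) | ∃ i < C.D.rank,
        ((n : GL C.D.Idx F) : Matrix C.D.Idx C.D.Idx F) = C.D.nMat F (C.D.simple i) 1} :=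
  ⟨K.bnPair (F := F) Hy, rfl, rfl, rfl⟩

end

end Cfsg.Agent.Lib.Helper3.ChevM
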