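import Mathlib
import Cfsg.Prelude.Def_ChevStructure
import Cfsg.Agent.Lib.Helper3.ChevB3
set_option autoImplicit false
open Cfsg Cfsg.Lie

/-! The correspondence between the cosets of `H` in `N` and the permutations of the roots induced by words in the
fundamental reflections. -/

namespace Cfsg.Agent.Lib.Helper3.ChevM

open ChevT

/-- Every root is positive or negative, not both, and the negation of roots exchanges the two kinds. -/
def signCheck (D : ChevalleyDatum) (r : ℕ) : Bool :=
  (decide (D.IsPosRoot r) != decide (D.IsPosRoot (D.neg r))) &&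
    (decide (D.IsNegRoot r) == decide (D.IsPosRoot (D.neg r))) && decide (D.neg (D.neg r) = r)

theorem signCheck_spec {D : ChevalleyDatum} {r : ℕ} (h : signCheck D r = true) :
    (D.IsPosRoot r ↔ ¬ D.IsPosRoot (D.neg r)) ∧ (D.IsNegRoot r ↔ D.IsPosRoot (D.neg r)) ∧ D.neg (D.neg r) = r := by
  simp only [signCheck, Bool.and_eq_true, bne_iff_ne, ne_eq, beq_iff_eq, decide_eq_true_eq] at h
  obtain ⟨⟨h1, h2⟩, h3⟩ := h
  refine ⟨?_, ?_, h3⟩
  · by_cases a : D.IsPosRoot r <;> by_cases b : D.IsPosRoot (D.neg r) <;> simp_all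
  · by_cases a : D.IsNegRoot r <;> by_cases b : D.IsPosRoot (D.neg r) <;> simp_all

section
variable {F : Type*} [Field F] {C : CDatum} {R : RelData C}

/-- The action of `h n_w` on the root elements. -/
theorem MonoHyp.conj_word_xU (M : MonoHyp C R)
    (hdec : ∀ r < C.D.nroots, ∀ s < C.D.nroots, hdecCheck C.D R.pair r s = true)
    (h : GL C.D.Idx F) (hh : h ∈ C.D.diagonalSubgroup F) (l : List ℕ) (hl : ∀ i ∈ l, i < C.D.rank) :
    ∃ d : ℕ → F, ∀ k < C.D.nroots, d k ≠ 0 ∧
      ∀ c : F, (h * R.nWordU l) * R.xU k c * (h * R.nWordU l)⁻¹ = R.xU (reflW R.refl l k) (d k * c) := by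
  obtain ⟨c', hc', -, key⟩ := R.diagonal_mul_x hdec h hh
  have hrel := R.conjRel_word (F := F) l hl
  refine ⟨fun k => ((List.range C.D.rank).map fun i => c' i ^ C.D.cartan i (reflW R.refl l k)).prod *
    (etaW R.refl R.eta l k : F), fun k hk => ?_⟩
  have hσ := R.reflW_lt l hl k hk
  refine ⟨?_, fun c => ?_⟩
  · apply mul_ne_zero
    · apply List.prod_ne_zero
      simp only [List.mem_map, List.mem_range, not_exists, not_and]
      intro i hi h0
      exact zpow_ne_zero _ (hc' i hi) h0
    · rcases hrel.sign k hk with h1 | h1 <;> rw [h1] <;> simp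
  · have e1 : h * R.nWordU l * R.xU k c * (h * R.nWordU l)⁻¹ = h * (R.nWordU l * R.xU k c * (R.nWordU l)⁻¹) * h⁻¹ := by
      group
    rw [e1, R.conj_units hrel (R.nWordU l) (R.nWordU_val l) k hk c]
    apply Units.ext
    rw [Units.val_mul, Units.val_mul, R.xU_val, R.xU_val, key _ hσ, mul_assoc, ← Units.val_mul, mul_inv_cancel,
      Units.val_one, mul_one, mul_assoc]

/-- Two words whose products lie in the same coset of `H` induce the same permutation of the roots. -/
theorem RelData.reflW_eq_of_coset (R : RelData C)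
    (hdec : ∀ r < C.D.nroots, ∀ s < C.D.nroots, hdecCheck C.D R.pair r s = true)
    (l l' : List ℕ) (hl : ∀ i ∈ l, i < C.D.rank) (hl' : ∀ i ∈ l', i < C.D.rank)
    (h : GL C.D.Idx F) (hh : h ∈ C.D.diagonalSubgroup F) (e : R.nWordU (F := F) l = h * R.nWordU l') :
    ∀ s < C.D.nroots, reflW R.refl l s = reflW R.refl l' s := by
  intro s hs
  obtain ⟨c, -, hd⟩ := R.diagonalSubgroup_le_torus hdec hh
  have hm := R.rootMono_word (F := F) l hl
  have hm' := R.rootMono_word (F := F) l' hl'
  have hrel := R.conjRel_word (F := F) l hl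
  have e' : nWordMat C.D F l = Matrix.diagonal (R.torusExp c) * nWordMat C.D F l' := by
    rw [← R.nWordU_val, e, Units.val_mul, hd, R.nWordU_val]
  have hσ := R.reflW_lt l hl s hs
  have h1 := hm.rr ⟨reflW R.refl l s, hσ⟩ ⟨s, hs⟩
  rw [if_pos rfl, e', Matrix.diagonal_mul, hm'.rr] at h1
  by_contra hne
  rw [if_neg hne, mul_zero] at h1
  rcases hrel.sign s hs with h2 | h2 <;> rw [h2] at h1 <;> simp at h1

/-- Deletion: if `w₂(p_i) = p_j` then `n_{w₁} n_j n_{w₂} n_i ∈ H n_{w₁} n_{w₂}`. -/
theorem MonoHyp.deletion (M : MonoHyp C R) (l1 l2 : List ℕ) (i j : ℕ)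
    (hl1 : ∀ a ∈ l1, a < C.D.rank) (hl2 : ∀ a ∈ l2, a < C.D.rank) (hi : i < C.D.rank) (hj : j < C.D.rank)
    (h2 : reflW R.refl l2 (C.D.simple i) = C.D.simple j) :
    ∃ h' ∈ C.D.diagonalSubgroup F, R.nWordU (F := F) ((l1 ++ j :: l2) ++ [i]) = h' * R.nWordU (l1 ++ l2) := by
  set p := C.D.simple i with hp
  have hpl : p < C.D.nroots := R.simple_lt i hi
  set W1 := R.nWordU (F := F) l1 with hW1
  set W2 := R.nWordU (F := F) l2 with hW2
  set nj := R.nU (C.D.simple j) (1 : F) with hnj
  set ni := R.nU p (1 : F) with hni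
  have hword : R.nWordU (F := F) ((l1 ++ j :: l2) ++ [i]) = W1 * (nj * W2) * ni := by
    rw [R.nWordU_append, R.nWordU_append, R.nWordU_cons, R.nWordU_cons, R.nWordU_nil, mul_one]
  have hrel := R.conjRel_word (F := F) l2 hl2
  have hnc := R.negCompat_word M.nr l2 hl2
  have hc := R.conj_nU hrel hnc W2 (R.nWordU_val l2) p hpl (1 : F)
  rw [h2, ← hni] at hc
  set η : F := ((etaW R.refl R.eta l2 p : ℤ) : F) * 1 with hη
  have hη0 : η ≠ 0 := by
    rw [hη, mul_one]
    rcases hrel.sign p hpl with h | h <;> rw [h] <;> simp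
  have hsj := R.simple_lt j hj
  have h0 : nj * R.nU (C.D.simple j) η ∈ C.D.diagonalSubgroup F := by
    rw [hnj, R.nU_mul_nU]
    exact Subgroup.mul_mem _ (R.hU_mem _ hsj _ one_ne_zero)
      (Subgroup.inv_mem _ (R.hU_mem _ hsj _ (neg_ne_zero.mpr hη0)))
  have hW1N : W1 ∈ C.D.monomialSubgroup F := R.nWordU_mem l1 hl1
  have h1' := M.conj_mem W1 hW1N _ h0
  have e2 : W1 * (nj * W2) * ni = (W1 * (nj * R.nU (C.D.simple j) η) * W1⁻¹) * (W1 * W2) := by
    rw [← hc]; group
  exact ⟨_, h1', by rw [hword, e2, R.nWordU_append]⟩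

/-- Deletion on the level of the permutations of the roots. -/
theorem MonoHyp.reflW_deletion (M : MonoHyp C R)
    (hdec : ∀ r < C.D.nroots, ∀ s < C.D.nroots, hdecCheck C.D R.pair r s = true)
    (l1 l2 : List ℕ) (i j : ℕ)
    (hl1 : ∀ a ∈ l1, a < C.D.rank) (hl2 : ∀ a ∈ l2, a < C.D.rank) (hi : i < C.D.rank) (hj : j < C.D.rank)
    (h2 : reflW R.refl l2 (C.D.simple i) = C.D.simple j) :
    ∀ s < C.D.nroots, reflW R.refl ((l1 ++ j :: l2) ++ [i]) s = reflW R.refl (l1 ++ l2) s := by
  obtain ⟨h', hh', e⟩ := M.deletion (F := ℚ) l1 l2 i j hl1 hl2 hi hj h2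
  refine R.reflW_eq_of_coset (F := ℚ) hdec _ _ ?_ ?_ h' hh' e
  · intro a ha
    simp only [List.mem_append, List.mem_cons, List.mem_singleton, List.not_mem_nil, or_false] at ha
    rcases ha with (ha | rfl | ha) | rfl
    · exact hl1 a ha
    · exact hj
    · exact hl2 a ha
    · exact hi
  · intro a ha
    rcases List.mem_append.mp ha with ha | ha
    · exact hl1 a ha
    · exact hl2 a ha

/-- A word preserving the set of positive roots fixes every root. -/
theorem MonoHyp.reflW_eq_self_of_pos (M : MonoHyp C R)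
    (hdec : ∀ r < C.D.nroots, ∀ s < C.D.nroots, hdecCheck C.D R.pair r s = true)
    (hsign : ∀ r < C.D.nroots, signCheck C.D r = true) :
    ∀ (k : ℕ) (l : List ℕ), l.length = k → (∀ a ∈ l, a < C.D.rank) →
      (∀ s, C.D.IsPosRoot s → C.D.IsPosRoot (reflW R.refl l s)) → ∀ s < C.D.nroots, reflW R.refl l s = s := by
  intro k
  induction k using Nat.strong_induction_on with
  | _ k ih =>
    intro l hk hl hpos
    rcases List.eq_nil_or_concat l with rfl | ⟨l', i, hcat⟩
    · intro s _; rfl
    rw [List.concat_eq_append] at hcat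
    subst hcat
    have hi : i < C.D.rank := hl i (by simp)
    have hl' : ∀ j ∈ l', j < C.D.rank := fun j hj => hl j (by simp [hj])
    set p := C.D.simple i with hp
    have hpl : p < C.D.nroots := R.simple_lt i hi
    have hns := M.ns i hi
    simp only [negSimpleCheck, Bool.and_eq_true, Bool.not_eq_true', decide_eq_false_iff_not, decide_eq_true_eq] at hns
    have hreflp : R.refl i p = C.D.neg p := by
      rw [R.refl_eq i hi _ hpl]
      simp only [ChevalleyDatum.reflectRoot, ← hp, if_true]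
    have h1 : reflW R.refl (l' ++ [i]) p = C.D.neg (reflW R.refl l' p) := by
      rw [reflW_append]
      show reflW R.refl l' (R.refl i p) = _
      rw [hreflp]
      exact (R.negCompat_word M.nr l' hl' p hpl).1
    have h2 := hpos p hns.2
    rw [h1] at h2
    have hlt := R.reflW_lt l' hl' p hpl
    have hneg : ¬ C.D.IsPosRoot (reflW R.refl l' p) := by
      intro h3
      exact ((signCheck_spec (hsign _ hlt)).1.mp h3) h2
    obtain ⟨l1, j, l2, e, h3⟩ := exists_simple_of_walk C.D R.refl M.wp l' hl' p hns.2 hneg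
    subst e
    have hl1 : ∀ a ∈ l1, a < C.D.rank := fun a ha => hl' a (by simp [ha])
    have hl2 : ∀ a ∈ l2, a < C.D.rank := fun a ha => hl' a (by simp [ha])
    have hj : j < C.D.rank := hl' j (by simp)
    have hdel := M.reflW_deletion hdec l1 l2 i j hl1 hl2 hi hj h3
    have hlen : (l1 ++ l2).length < k := by
      rw [← hk]; simp
    have hl12 : ∀ a ∈ l1 ++ l2, a < C.D.rank := by
      intro a ha
      rcases List.mem_append.mp ha with h | h
      · exact hl1 a h
      · exact hl2 a h
    have := ih _ hlen (l1 ++ l2) rfl hl12 (fun s hs => by rw [← hdel s hs.1]; exact hpos s hs)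
    intro s hs
    rw [hdel s hs, this s hs]

/-- A word fixing every root has its product in `H`. -/
theorem MonoHyp.nWordU_mem_diagonal_of_fix (M : MonoHyp C R)
    (hdec : ∀ r < C.D.nroots, ∀ s < C.D.nroots, hdecCheck C.D R.pair r s = true) :
    ∀ (k : ℕ) (l : List ℕ), l.length = k → (∀ a ∈ l, a < C.D.rank) →
      (∀ s < C.D.nroots, reflW R.refl l s = s) → R.nWordU (F := F) l ∈ C.D.diagonalSubgroup F := by
  intro k
  induction k using Nat.strong_induction_on with
  | _ k ih =>
    intro l hk hl hfix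
    rcases List.eq_nil_or_concat l with rfl | ⟨l', i, hcat⟩
    · exact Subgroup.one_mem _
    rw [List.concat_eq_append] at hcat
    subst hcat
    have hi : i < C.D.rank := hl i (by simp)
    have hl' : ∀ j ∈ l', j < C.D.rank := fun j hj => hl j (by simp [hj])
    set p := C.D.simple i with hp
    have hpl : p < C.D.nroots := R.simple_lt i hi
    have hreflneg : R.refl i (C.D.neg p) = p := by
      rw [R.refl_eq i hi _ (R.neg_lt p hpl)]
      simp only [ChevalleyDatum.reflectRoot, ← hp]
      split_ifs with h1 <;> simp_all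
    have h1 : reflW R.refl l' p = C.D.neg p := by
      have h2 := hfix (C.D.neg p) (R.neg_lt p hpl)
      rw [reflW_append] at h2
      have h3 : reflW R.refl [i] (C.D.neg p) = p := hreflneg
      rw [h3] at h2
      exact h2
    have hns := M.ns i hi
    simp only [negSimpleCheck, Bool.and_eq_true, Bool.not_eq_true', decide_eq_false_iff_not, decide_eq_true_eq] at hns
    obtain ⟨l1, j, l2, e, h2⟩ := exists_simple_of_walk C.D R.refl M.wp l' hl' p hns.2 (by rw [h1]; exact hns.1)
    subst e
    have hl1 : ∀ a ∈ l1, a < C.D.rank := fun a ha => hl' a (by simp [ha])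
    have hl2 : ∀ a ∈ l2, a < C.D.rank := fun a ha => hl' a (by simp [ha])
    have hj : j < C.D.rank := hl' j (by simp)
    obtain ⟨h', hh', e⟩ := M.deletion (F := F) l1 l2 i j hl1 hl2 hi hj h2
    have hdel := M.reflW_deletion hdec l1 l2 i j hl1 hl2 hi hj h2
    have hlen : (l1 ++ l2).length < k := by
      rw [← hk]; simp
    have hl12 : ∀ a ∈ l1 ++ l2, a < C.D.rank := by
      intro a ha
      rcases List.mem_append.mp ha with h | h
      · exact hl1 a h
      · exact hl2 a h
    have := ih _ hlen (l1 ++ l2) rfl hl12 (fun s hs => by rw [← hdel s hs]; exact hfix s hs)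
    rw [e]
    exact Subgroup.mul_mem _ hh' this

/-- Words inducing the same permutation of the roots have products in the same coset of `H`. -/
theorem MonoHyp.coset_of_reflW_eq (M : MonoHyp C R)
    (hdec : ∀ r < C.D.nroots, ∀ s < C.D.nroots, hdecCheck C.D R.pair r s = true)
    (l l' : List ℕ) (hl : ∀ i ∈ l, i < C.D.rank) (hl' : ∀ i ∈ l', i < C.D.rank)
    (h : ∀ s < C.D.nroots, reflW R.refl l s = reflW R.refl l' s) :
    ∃ h' ∈ C.D.diagonalSubgroup F, R.nWordU (F := F) l = h' * R.nWordU l' := by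
  obtain ⟨h₁, hh₁, e₁⟩ := M.nWordU_inv (F := F) l' hl'
  have hrev : ∀ i ∈ l'.reverse, i < C.D.rank := fun i hi => hl' i (List.mem_reverse.mp hi)
  have hfix : ∀ s < C.D.nroots, reflW R.refl (l ++ l'.reverse) s = s := by
    intro s hs
    rw [reflW_append, h _ (R.reflW_lt _ hrev s hs)]
    have := R.reflW_reverse M.inv l'.reverse hrev s hs
    rwa [List.reverse_reverse] at this
  have hmem := M.nWordU_mem_diagonal_of_fix (F := F) hdec _ (l ++ l'.reverse) rfl (by
    intro a ha
    rcases List.mem_append.mp ha with h | h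
    · exact hl a h
    · exact hrev a h) hfix
  rw [R.nWordU_append] at hmem
  -- `n_l = (n_l n_{l'rev}) (n_{l'rev})⁻¹` and `(n_{l'rev})⁻¹ ∈ H n_{l'}`
  have e₂ : R.nWordU (F := F) l'.reverse = h₁⁻¹ * (R.nWordU l')⁻¹ := by
    rw [e₁]; group
  refine ⟨R.nWordU l * R.nWordU l'.reverse * (R.nWordU l' * h₁ * (R.nWordU l')⁻¹), ?_, ?_⟩
  · exact Subgroup.mul_mem _ hmem (M.conj_mem _ (R.nWordU_mem l' hl') _ hh₁)
  · rw [e₂]; group

end

end Cfsg.Agent.Lib.Helper3.ChevM
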