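import Mathlib
import Cfsg.Prelude.Def_ChevStructure
import Cfsg.Agent.Lib.Helper3.ChevN1
set_option autoImplicit false
open Cfsg Cfsg.Lie

/-! The permutations of the roots induced by words in the fundamental reflections, and their Poincaré sums. -/

namespace Cfsg.Agent.Lib.Helper3.ChevM

/-- The permutation of the roots induced by a word. -/
def wperm (D : ChevalleyDatum) (refl : ℕ → ℕ → ℕ) (w : List ℕ) : Fin D.nroots → Fin D.nroots :=
  fun s => if h : reflW refl w s.val < D.nroots then ⟨reflW refl w s.val, h⟩ else s

/-- The permutations induced by the words in the fundamental reflections with indices in `J`. -/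
def Wset (D : ChevalleyDatum) (refl : ℕ → ℕ → ℕ) (J : Set ℕ) : Set (Fin D.nroots → Fin D.nroots) :=
  {f | ∃ w : List ℕ, (∀ i ∈ w, i < D.rank ∧ i ∈ J) ∧ f = wperm D refl w}

/-- The number of positive roots made negative. -/
def Nf (D : ChevalleyDatum) (f : Fin D.nroots → Fin D.nroots) : ℕ :=
  (Finset.univ.filter fun s : Fin D.nroots => D.IsPosRoot s.val ∧ D.IsNegRoot (f s).val).card

open Classical in
/-- The Poincaré sum of the group generated by the fundamental reflections with indices in `J`. -/
noncomputable def poin (D : ChevalleyDatum) (refl : ℕ → ℕ → ℕ) (J : Set ℕ) (q : ℕ) : ℕ :=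
  ∑ f ∈ Finset.univ.filter (fun f => f ∈ Wset D refl J), q ^ Nf D f

section
variable {C : CDatum} (R : RelData C)
include R

theorem RelData.wperm_val (w : List ℕ) (hw : ∀ i ∈ w, i < C.D.rank) (s : Fin C.D.nroots) :
    (wperm C.D R.refl w s).val = reflW R.refl w s.val := by
  unfold wperm
  rw [dif_pos (R.reflW_lt w hw s.val s.isLt)]

theorem RelData.wperm_eq_iff (w w' : List ℕ) (hw : ∀ i ∈ w, i < C.D.rank) (hw' : ∀ i ∈ w', i < C.D.rank) :
    wperm C.D R.refl w = wperm C.D R.refl w' ↔ ∀ s < C.D.nroots, reflW R.refl w s = reflW R.refl w' s := by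
  constructor
  · intro h s hs
    have := congrArg Fin.val (congrFun h ⟨s, hs⟩)
    rwa [R.wperm_val w hw, R.wperm_val w' hw'] at this
  · intro h
    funext s
    apply Fin.ext
    rw [R.wperm_val w hw, R.wperm_val w' hw']
    exact h s.val s.isLt

omit R in
theorem list_filter_range_length (n : ℕ) (p : ℕ → Prop) [DecidablePred p] :
    ((List.range n).filter fun s => decide (p s)).length =
      (Finset.univ.filter fun s : Fin n => p s.val).card := by
  have h1 : ((List.range n).filter fun s => decide (p s)).length = ((Finset.range n).filter p).card := by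
    rw [Finset.card_def, Finset.filter_val]
    rfl
  rw [h1, ← Nat.Iio_eq_range, ← Fin.map_valEmbedding_univ, Finset.filter_map, Finset.card_map]
  rfl

omit R in
theorem negSet_length (D : ChevalleyDatum) (refl : ℕ → ℕ → ℕ) (w : List ℕ) :
    ((D.posRoots.filter fun r => decide (D.IsNegRoot (reflW refl w r))).length) =
      (Finset.univ.filter fun s : Fin D.nroots => D.IsPosRoot s.val ∧ D.IsNegRoot (reflW refl w s.val)).card := by
  unfold ChevalleyDatum.posRoots
  rw [List.filter_filter, ← list_filter_range_length D.nroots
    (fun s => D.IsPosRoot s ∧ D.IsNegRoot (reflW refl w s))]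
  congr 1
  apply List.filter_congr
  intro s _
  rw [Bool.and_comm, Bool.decide_and]

theorem RelData.Nf_wperm (w : List ℕ) (hw : ∀ i ∈ w, i < C.D.rank) :
    Nf C.D (wperm C.D R.refl w) =
      (C.D.posRoots.filter fun r => decide (C.D.IsNegRoot (reflW R.refl w r))).length := by
  rw [negSet_length]
  unfold Nf
  congr 1
  ext s
  simp only [Finset.mem_filter, Finset.mem_univ, true_and]
  rw [R.wperm_val w hw]

end

end Cfsg.Agent.Lib.Helper3.ChevM
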