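import Mathlib
set_option autoImplicit false
set_option linter.unusedSectionVars false

/-! Abstract collection: a group generated by "root subgroups" `x r`, `r` ranging over the indices with `P r`, with a
position function `pos` such that commutators of generators lie in later tails, is the product of the root subgroups
taken in any order. -/

namespace Cfsg.Agent.Lib.Helper3.ChevU

section
variable {G : Type*} [Group G] {F : Type*} [AddGroup F]
  (x : ℕ → F → G) (P : ℕ → Prop) (pos : ℕ → ℕ)

/-- The generators `x r t` with `P r` and position at least `m`. -/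
def tailSet (m : ℕ) : Set G := {g | ∃ r t, P r ∧ m ≤ pos r ∧ g = x r t}

/-- The subgroup generated by the root elements of position at least `m`. -/
def tailGrp (m : ℕ) : Subgroup G := Subgroup.closure (tailSet x P pos m)

theorem tailGrp_anti {m n : ℕ} (h : m ≤ n) : tailGrp x P pos n ≤ tailGrp x P pos m := by
  apply Subgroup.closure_mono
  rintro g ⟨r, t, hr, hm, rfl⟩
  exact ⟨r, t, hr, le_trans h hm, rfl⟩

theorem gen_mem {m : ℕ} {r : ℕ} (hr : P r) (hm : m ≤ pos r) (t : F) : x r t ∈ tailGrp x P pos m :=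
  Subgroup.subset_closure ⟨r, t, hr, hm, rfl⟩

/-- The hypotheses of the collection process. -/
structure RootSys : Prop where
  add : ∀ r a b, x r (a + b) = x r a * x r b
  comm : ∀ r s, P r → P s → ∀ t u, (x r t * x s u)⁻¹ * (x s u * x r t) ∈ tailGrp x P pos (pos r + 1)
  inj : ∀ r s, P r → P s → pos r = pos s → r = s

variable {x P pos}

namespace RootSys

variable (H : RootSys x P pos)
include H

theorem x_zero (r : ℕ) : x r 0 = 1 := by
  have := H.add r 0 0
  rw [add_zero] at this
  exact (mul_eq_left.mp this.symm)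

theorem x_neg (r : ℕ) (a : F) : x r (-a) = (x r a)⁻¹ := by
  have := H.add r (-a) a
  rw [neg_add_cancel, H.x_zero] at this
  exact eq_inv_of_mul_eq_one_left this.symm

theorem comm_gen {r s : ℕ} (hr : P r) (hs : P s) (t u : F) :
    x s u * x r t * (x s u)⁻¹ * (x r t)⁻¹ ∈ tailGrp x P pos (pos r + 1) := by
  have := H.comm r s hr hs (-t) (-u)
  rw [H.x_neg, H.x_neg] at this
  simpa [mul_assoc] using this

theorem tail_normal (m : ℕ) : tailGrp x P pos 0 ≤ Subgroup.normalizer (tailGrp x P pos m : Set G) := by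
  unfold tailGrp
  rw [Subgroup.closure_le]
  rintro y ⟨s, u, hs, -, rfl⟩
  have key : ∀ u : F, ∀ z ∈ tailSet x P pos m, x s u * z * (x s u)⁻¹ ∈ Subgroup.closure (tailSet x P pos m) := by
    rintro u z ⟨r, t, hr, hm, rfl⟩
    have h1 := H.comm_gen hr hs t u
    have h2 : x s u * x r t * (x s u)⁻¹ = (x s u * x r t * (x s u)⁻¹ * (x r t)⁻¹) * x r t := by group
    rw [h2]
    exact Subgroup.mul_mem _ (tailGrp_anti x P pos (by omega) h1) (gen_mem x P pos hr hm t)
  rw [SetLike.mem_coe, Subgroup.mem_normalizer_iff_map_conj_eq, MonoidHom.map_closure]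
  apply le_antisymm
  · rw [Subgroup.closure_le]
    rintro _ ⟨z, hz, rfl⟩
    exact key u z hz
  · rw [Subgroup.closure_le, ← MonoidHom.map_closure]
    intro z hz
    refine ⟨(x s u)⁻¹ * z * x s u, ?_, ?_⟩
    · have := key (-u) z hz
      rwa [H.x_neg, inv_inv] at this
    · simp [mul_assoc]

theorem conj_mem {m : ℕ} {g z : G} (hg : g ∈ tailGrp x P pos 0) (hz : z ∈ tailGrp x P pos m) :
    g * z * g⁻¹ ∈ tailGrp x P pos m := by
  have := H.tail_normal m hg
  rw [Subgroup.mem_normalizer_iff] at this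
  exact (this z).mp hz

theorem conj_mem' {m : ℕ} {g z : G} (hg : g ∈ tailGrp x P pos 0) (hz : z ∈ tailGrp x P pos m) :
    g⁻¹ * z * g ∈ tailGrp x P pos m := by
  have := H.conj_mem (Subgroup.inv_mem _ hg) hz
  rwa [inv_inv] at this

theorem central {r : ℕ} (hr : P r) (a : F) {g : G} (hg : g ∈ tailGrp x P pos 0) :
    g * x r a * g⁻¹ * (x r a)⁻¹ ∈ tailGrp x P pos (pos r + 1) := by
  induction hg using Subgroup.closure_induction with
  | mem y hy =>
    obtain ⟨s, u, hs, -, rfl⟩ := hy
    exact H.comm_gen hr hs a u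
  | one => simp
  | mul g h hg hh ihg ihh =>
    have e : g * h * x r a * (g * h)⁻¹ * (x r a)⁻¹ =
        g * (h * x r a * h⁻¹ * (x r a)⁻¹) * g⁻¹ * (g * x r a * g⁻¹ * (x r a)⁻¹) := by group
    rw [e]
    exact Subgroup.mul_mem _ (H.conj_mem hg ihh) ihg
  | inv g hg ih =>
    have e : g⁻¹ * x r a * g⁻¹⁻¹ * (x r a)⁻¹ = g⁻¹ * (g * x r a * g⁻¹ * (x r a)⁻¹)⁻¹ * g := by group
    rw [e]
    exact H.conj_mem' hg (Subgroup.inv_mem _ ih)

theorem split {r₀ k : ℕ} (hr₀ : P r₀) (hk : pos r₀ = k) {z : G} (hz : z ∈ tailGrp x P pos k) :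
    ∃ a : F, ∃ z' ∈ tailGrp x P pos (k + 1), z = x r₀ a * z' := by
  have hx0 : ∀ a, x r₀ a ∈ tailGrp x P pos 0 := fun a => gen_mem x P pos hr₀ (Nat.zero_le _) a
  induction hz using Subgroup.closure_induction with
  | mem y hy =>
    obtain ⟨r, t, hr, hm, rfl⟩ := hy
    by_cases h : pos r = k
    · have : r = r₀ := H.inj r r₀ hr hr₀ (h.trans hk.symm)
      subst this
      exact ⟨t, 1, Subgroup.one_mem _, by simp⟩
    · exact ⟨0, x r t, gen_mem x P pos hr (by omega) t, by simp [H.x_zero]⟩
  | one => exact ⟨0, 1, Subgroup.one_mem _, by simp [H.x_zero]⟩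
  | mul g h _ _ ihg ihh =>
    obtain ⟨a, z1, hz1, rfl⟩ := ihg
    obtain ⟨b, z2, hz2, rfl⟩ := ihh
    refine ⟨a + b, (x r₀ b)⁻¹ * z1 * x r₀ b * z2, Subgroup.mul_mem _ (H.conj_mem' (hx0 b) hz1) hz2, ?_⟩
    rw [H.add]; group
  | inv g _ ih =>
    obtain ⟨a, z1, hz1, rfl⟩ := ih
    refine ⟨-a, x r₀ a * z1⁻¹ * (x r₀ a)⁻¹, H.conj_mem (hx0 a) (Subgroup.inv_mem _ hz1), ?_⟩
    rw [H.x_neg]; group

theorem tail_succ_of_no_root {k : ℕ} (h : ¬ ∃ r, P r ∧ pos r = k) : tailGrp x P pos k = tailGrp x P pos (k + 1) := by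
  apply le_antisymm _ (tailGrp_anti x P pos (Nat.le_succ k))
  apply Subgroup.closure_mono
  rintro g ⟨r, t, hr, hm, rfl⟩
  refine ⟨r, t, hr, ?_, rfl⟩
  rcases Nat.lt_or_ge k (pos r) with h1 | h1
  · exact h1
  · exact absurd ⟨r, hr, le_antisymm h1 hm⟩ h

/-- Products over a list of roots with parameters `t`. -/
def lprod (x : ℕ → F → G) (M : List ℕ) (t : ℕ → F) : G := (M.map fun r => x r (t r)).prod

omit H in
theorem lprod_append (M N : List ℕ) (t : ℕ → F) : lprod x (M ++ N) t = lprod x M t * lprod x N t := by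
  simp [lprod]

omit H in
theorem lprod_cons (r : ℕ) (M : List ℕ) (t : ℕ → F) : lprod x (r :: M) t = x r (t r) * lprod x M t := by
  simp [lprod]

omit H in
theorem lprod_update_of_not_mem (M : List ℕ) (t : ℕ → F) (r : ℕ) (a : F) (h : r ∉ M) :
    lprod x M (Function.update t r a) = lprod x M t := by
  unfold lprod
  congr 1
  apply List.map_congr_left
  intro s hs
  have : s ≠ r := fun e => h (e ▸ hs)
  rw [Function.update_of_ne this]

omit H in
theorem lprod_mem (M : List ℕ) (hM : ∀ r ∈ M, P r) (t : ℕ → F) : lprod x M t ∈ tailGrp x P pos 0 := by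
  unfold lprod
  apply Subgroup.list_prod_mem
  intro g hg
  obtain ⟨r, hr, rfl⟩ := List.mem_map.mp hg
  exact gen_mem x P pos (hM r hr) (Nat.zero_le _) _

/-- The main induction. -/
theorem exists_lprod_mul (k : ℕ) : ∀ (M : List ℕ), M.Nodup → (∀ r, r ∈ M ↔ (P r ∧ pos r < k)) →
    ∀ g ∈ tailGrp x P pos 0, ∃ t : ℕ → F, ∃ z ∈ tailGrp x P pos k, g = lprod x M t * z := by
  induction k with
  | zero =>
    intro M _ hM g hg
    have : M = [] := by
      apply List.eq_nil_iff_forall_not_mem.mpr
      intro r hr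
      exact absurd ((hM r).mp hr).2 (Nat.not_lt_zero _)
    subst this
    exact ⟨fun _ => 0, g, hg, by simp [lprod]⟩
  | succ k ih =>
    intro M hnd hM g hg
    by_cases hex : ∃ r, P r ∧ pos r = k
    · obtain ⟨r₀, hr₀, hk⟩ := hex
      have hmem : r₀ ∈ M := (hM r₀).mpr ⟨hr₀, by omega⟩
      obtain ⟨M1, M2, rfl⟩ := List.append_of_mem hmem
      have hnd' : (M1 ++ M2).Nodup := by
        have := hnd
        rw [List.nodup_append] at this ⊢
        obtain ⟨h1, h2, h3⟩ := this
        refine ⟨h1, (List.nodup_cons.mp h2).2, ?_⟩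
        intro a ha b hb
        exact h3 a ha b (List.mem_cons_of_mem _ hb)
      have hr1 : r₀ ∉ M1 := by
        intro h
        rw [List.nodup_append] at hnd
        exact hnd.2.2 r₀ h r₀ List.mem_cons_self rfl
      have hr2 : r₀ ∉ M2 := by
        rw [List.nodup_append] at hnd
        exact (List.nodup_cons.mp hnd.2.1).1
      have hM' : ∀ r, r ∈ M1 ++ M2 ↔ (P r ∧ pos r < k) := by
        intro r
        constructor
        · intro hr
          have hr' : r ∈ M1 ++ r₀ :: M2 := by
            rcases List.mem_append.mp hr with h | h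
            · exact List.mem_append_left _ h
            · exact List.mem_append_right _ (List.mem_cons_of_mem _ h)
          obtain ⟨h1, h2⟩ := (hM r).mp hr'
          refine ⟨h1, ?_⟩
          rcases Nat.lt_succ_iff_lt_or_eq.mp h2 with h3 | h3
          · exact h3
          · exfalso
            have : r = r₀ := H.inj r r₀ h1 hr₀ (h3.trans hk.symm)
            subst this
            rcases List.mem_append.mp hr with h | h
            · exact hr1 h
            · exact hr2 h
        · rintro ⟨h1, h2⟩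
          have := (hM r).mpr ⟨h1, by omega⟩
          rcases List.mem_append.mp this with h | h
          · exact List.mem_append_left _ h
          · rcases List.mem_cons.mp h with h | h
            · subst h; omega
            · exact List.mem_append_right _ h
      obtain ⟨t, z, hz, rfl⟩ := ih (M1 ++ M2) hnd' hM' g hg
      obtain ⟨a, z', hz', rfl⟩ := H.split hr₀ hk hz
      have hP2 : ∀ r ∈ M2, P r := fun r hr => ((hM' r).mp (List.mem_append_right _ hr)).1
      have hc := H.central hr₀ (-a) (Subgroup.inv_mem _ (lprod_mem (P := P) (pos := pos) M2 hP2 t))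
      rw [hk, H.x_neg] at hc
      refine ⟨Function.update t r₀ a,
        ((lprod x M2 t)⁻¹ * (x r₀ a)⁻¹ * (lprod x M2 t)⁻¹⁻¹ * (x r₀ a)⁻¹⁻¹) * z',
        Subgroup.mul_mem _ hc hz', ?_⟩
      rw [lprod_append, lprod_append, lprod_cons, lprod_update_of_not_mem _ _ _ _ hr1,
        lprod_update_of_not_mem _ _ _ _ hr2, Function.update_self]
      group
    · have e := H.tail_succ_of_no_root hex
      have hM' : ∀ r, r ∈ M ↔ (P r ∧ pos r < k) := by
        intro r
        rw [hM r]
        constructor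
        · rintro ⟨h1, h2⟩
          refine ⟨h1, ?_⟩
          rcases Nat.lt_succ_iff_lt_or_eq.mp h2 with h3 | h3
          · exact h3
          · exact absurd ⟨r, h1, h3⟩ hex
        · rintro ⟨h1, h2⟩
          exact ⟨h1, by omega⟩
      obtain ⟨t, z, hz, rfl⟩ := ih M hnd hM' g hg
      exact ⟨t, z, e ▸ hz, rfl⟩

/-- Every element of the group generated by the root elements is the product of root elements taken in the order
of any list enumerating the roots. -/
theorem exists_lprod (K : ℕ) (hK : ∀ r, P r → pos r < K) (M : List ℕ) (hnd : M.Nodup) (hM : ∀ r, r ∈ M ↔ P r)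
    {g : G} (hg : g ∈ tailGrp x P pos 0) : ∃ t : ℕ → F, g = lprod x M t := by
  obtain ⟨t, z, hz, rfl⟩ := H.exists_lprod_mul K M hnd
    (fun r => by rw [hM r]; exact ⟨fun h => ⟨h, hK r h⟩, fun h => h.1⟩) g hg
  have : tailGrp x P pos K = ⊥ := by
    unfold tailGrp
    rw [Subgroup.closure_eq_bot_iff]
    rintro g ⟨r, t, hr, hm, rfl⟩
    exact absurd (hK r hr) (by omega)
  rw [this, Subgroup.mem_bot] at hz
  exact ⟨t, by rw [hz, mul_one]⟩

end RootSys

end

end Cfsg.Agent.Lib.Helper3.ChevU
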