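import Mathlib
import Cfsg.Prelude.Def_ChevStructure
import Cfsg.Agent.Lib.Helper3.ChevG5
import Cfsg.Agent.Lib.Helper3.ChevU1
set_option autoImplicit false
open Cfsg Cfsg.Lie

/-! The collection process in the subgroup `U` of a Chevalley group: every element of `U` is a product of root
elements taken in any prescribed order of the positive roots. -/

namespace Cfsg.Agent.Lib.Helper3.ChevM

open ChevT ChevU

theorem mem_posRoots (D : ChevalleyDatum) (r : ℕ) : r ∈ D.posRoots ↔ D.IsPosRoot r := by
  unfold ChevalleyDatum.posRoots
  rw [List.mem_filter, List.mem_range, decide_eq_true_eq]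
  exact ⟨fun h => h.2, fun h => ⟨h.1, h⟩⟩

theorem nodup_posRoots (D : ChevalleyDatum) : D.posRoots.Nodup :=
  List.Nodup.filter _ List.nodup_range

theorem pairwise_posRoots (D : ChevalleyDatum) : D.posRoots.Pairwise (· < ·) :=
  List.Pairwise.filter _ List.pairwise_lt_range

/-- For the pair `(r, s)` of distinct positive roots: every term of the commutator formula is a positive root placed
after `r` by `hpos`. -/
def collectCheck (D : ChevalleyDatum) (hpos : ℕ → ℕ) (r s : ℕ) : Bool :=
  !(decide (D.IsPosRoot r) && decide (D.IsPosRoot s) && decide (s ≠ r)) ||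
    (decide (s ≠ D.neg r) &&
      (D.commTerms r s).all fun c => decide (D.IsPosRoot c.1) && decide (hpos r < hpos c.1))

/-- The position function is injective on the positive roots and bounded by the number of roots. -/
def hposCheck (D : ChevalleyDatum) (hpos : ℕ → ℕ) (r : ℕ) : Bool :=
  !decide (D.IsPosRoot r) ||
    (decide (hpos r < D.nroots) && D.posRoots.all fun s => decide (s = r) || decide (hpos s ≠ hpos r))

section
variable {F : Type*} [Field F] {C : CDatum} {R : RelData C} (K : CommData C R)

include K in
theorem CommData.rootSys {hpos : ℕ → ℕ}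
    (hcol : ∀ r < C.D.nroots, ∀ s < C.D.nroots, collectCheck C.D hpos r s = true)
    (hinj : ∀ r < C.D.nroots, hposCheck C.D hpos r = true) :
    RootSys (fun r (t : F) => R.xU r t) C.D.IsPosRoot hpos where
  add := fun r a b => (R.xU_add r a b).symm
  comm := by
    intro r s hr hs t u
    by_cases hsr : s = r
    · subst hsr
      have : R.xU s t * R.xU s u = R.xU s u * R.xU s t := by
        rw [R.xU_add, R.xU_add, add_comm]
      simp only [this, inv_mul_cancel, Subgroup.one_mem]
    · have h := hcol r hr.1 s hs.1
      simp only [collectCheck, hr, hs, hsr, ne_eq, not_false_eq_true, decide_true, Bool.and_self, Bool.not_true,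
        Bool.false_or, Bool.and_eq_true, decide_eq_true_eq, List.all_eq_true] at h
      obtain ⟨hneg, hterms⟩ := h
      have e := K.commF r s hr.1 hs.1 hsr hneg t u
      have e' : R.xU s u * R.xU r t = R.xU r t * R.xU s u * R.wordU (C.D.commWord F r s t u) := by
        apply Units.ext
        simp only [Units.val_mul, R.xU_val, R.wordU_val]
        exact e
      have e2 : (R.xU r t * R.xU s u)⁻¹ * (R.xU s u * R.xU r t) = R.wordU (C.D.commWord F r s t u) := by
        rw [e']; group
      show (R.xU r t * R.xU s u)⁻¹ * (R.xU s u * R.xU r t) ∈ _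
      rw [e2]
      unfold RelData.wordU
      apply Subgroup.list_prod_mem
      intro g hg
      simp only [ChevalleyDatum.commWord, List.map_map, List.mem_map, Function.comp] at hg
      obtain ⟨c, hc, rfl⟩ := hg
      have := hterms c hc
      exact gen_mem _ _ _ this.1 (by omega) _
  inj := by
    intro r s hr hs h
    have := hinj r hr.1
    simp only [hposCheck, hr, decide_true, Bool.not_true, Bool.false_or, Bool.and_eq_true, decide_eq_true_eq,
      List.all_eq_true, Bool.or_eq_true, ne_eq] at this
    rcases this.2 s ((mem_posRoots C.D s).mpr hs) with h1 | h1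
    · exact h1.symm
    · exact absurd h.symm h1

theorem RelData.posUnipotent_eq_tailGrp (hpos : ℕ → ℕ) :
    C.D.posUnipotent F = tailGrp (fun r (t : F) => R.xU r t) C.D.IsPosRoot hpos 0 := by
  unfold ChevalleyDatum.posUnipotent tailGrp
  congr 1
  ext g
  constructor
  · rintro ⟨r, t, hr, hg⟩
    exact ⟨r, t, hr, Nat.zero_le _, Units.ext hg⟩
  · rintro ⟨r, t, hr, -, rfl⟩
    exact ⟨r, t, hr, rfl⟩

theorem RelData.lprod_val (M : List ℕ) (t : ℕ → F) :
    ((RootSys.lprod (fun r (t : F) => R.xU r t) M t : GL C.D.Idx F) : Matrix C.D.Idx C.D.Idx F) =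
      C.D.wordMat F (M.map fun r => (r, t r)) := by
  rw [← R.wordU_val]
  unfold RootSys.lprod RelData.wordU
  rw [List.map_map]
  rfl

include K in
/-- Every element of `U` is a product of root elements in the order of any list enumerating the positive roots. -/
theorem CommData.exists_word {hpos : ℕ → ℕ}
    (hcol : ∀ r < C.D.nroots, ∀ s < C.D.nroots, collectCheck C.D hpos r s = true)
    (hinj : ∀ r < C.D.nroots, hposCheck C.D hpos r = true)
    (M : List ℕ) (hnd : M.Nodup) (hM : ∀ r, r ∈ M ↔ C.D.IsPosRoot r)
    (g : GL C.D.Idx F) (hg : g ∈ C.D.posUnipotent F) :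
    ∃ t : ℕ → F, (∀ r, ¬ C.D.IsPosRoot r → t r = 0) ∧
      g = RootSys.lprod (fun r (t : F) => R.xU r t) M t := by
  classical
  have H := K.rootSys (F := F) hcol hinj
  rw [R.posUnipotent_eq_tailGrp hpos] at hg
  obtain ⟨t, rfl⟩ := H.exists_lprod C.D.nroots (by
    intro r hr
    have := hinj r hr.1
    simp only [hposCheck, hr, decide_true, Bool.not_true, Bool.false_or, Bool.and_eq_true, decide_eq_true_eq] at this
    exact this.1) M hnd hM hg
  refine ⟨fun r => if C.D.IsPosRoot r then t r else 0, fun r hr => by simp [hr], ?_⟩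
  unfold RootSys.lprod
  congr 1
  apply List.map_congr_left
  intro r hr
  simp [(hM r).mp hr]

end

end Cfsg.Agent.Lib.Helper3.ChevM
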