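import Mathlib
import Cfsg.Prelude.Def_ChevStructure
import Cfsg.Agent.Lib.Helper3.ChevT2
import Cfsg.Agent.Lib.Helper3.ChevU2
set_option autoImplicit false
open Cfsg Cfsg.Lie

/-! Uniqueness of the expression of an element of `U` as a product of root elements in increasing order, and the
order of `U`. -/

namespace Cfsg.Agent.Lib.Helper3.ChevM

open ChevT ChevU

/-- A level function on the coordinates, given on codes. -/
def hfIdx (D : ChevalleyDatum) (hf : ℕ → ℕ) (j : D.Idx) : ℕ := hf (code D j)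

/-- All off-diagonal entries of `x_r` raise the level by at least `fr r`. -/
def levelCheck (C : CDatum) (hf fr : ℕ → ℕ) (r : ℕ) : Bool :=
  !decide (C.D.IsPosRoot r) || (decide (0 < fr r) &&
    (List.range C.N).all fun c => (C.cols r c).all fun e => decide (hf c + fr r ≤ hf e.row))

/-- `fr` increases with the index on the positive roots. -/
def frCheck (D : ChevalleyDatum) (fr : ℕ → ℕ) (r : ℕ) : Bool :=
  !decide (D.IsPosRoot r) || D.posRoots.all fun s => !decide (r < s) || decide (fr r < fr s)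

/-- A witness entry `± t` of `x_r(t)` raising the level by exactly `fr r`. -/
def witCheck (C : CDatum) (hf fr wj wi : ℕ → ℕ) (r : ℕ) : Bool :=
  !decide (C.D.IsPosRoot r) || (decide (wj r < C.N) && decide (wi r < C.N) && decide (wi r ≠ wj r) &&
    decide (hf (wi r) = hf (wj r) + fr r) &&
    (decide (((C.cols r (wj r)).filter fun e => e.row = wi r) = [⟨wi r, 1, 1⟩]) ||
     decide (((C.cols r (wj r)).filter fun e => e.row = wi r) = [⟨wi r, -1, 1⟩])))

theorem utSubgroup_anti {ι : Type*} [Fintype ι] [DecidableEq ι] {A : Type*} [CommRing A] (pos : ι → ℕ)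
    {k k' : ℕ} (h : k ≤ k') : utSubgroup pos A k' ≤ utSubgroup pos A k := by
  intro g hg
  rw [mem_utSubgroup] at hg ⊢
  exact hg.mono (by omega)

section
variable {F : Type*} [Field F] {C : CDatum} (R : RelData C)

theorem shift_level (hf fr : ℕ → ℕ) (r : ℕ) (hr : C.D.IsPosRoot r) (h : levelCheck C hf fr r = true) (t : F) :
    Shift (hfIdx C.D hf) (fr r) (C.D.x F r t - 1) := by
  intro j col hjc
  unfold ChevalleyDatum.x
  rw [dif_pos hr.1, Matrix.sub_apply, xMat_entry, Matrix.one_apply, add_sub_cancel_left]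
  unfold colSum
  apply List.sum_eq_zero
  intro x hx
  simp only [List.mem_map, List.mem_filter, decide_eq_true_eq] at hx
  obtain ⟨e, ⟨he, hrow⟩, rfl⟩ := hx
  exfalso
  simp only [levelCheck, hr, decide_true, Bool.not_true, Bool.false_or, Bool.and_eq_true, decide_eq_true_eq,
    List.all_eq_true, List.mem_range] at h
  have := h.2 (code C.D col) (code_lt C.D col) e (by rw [C.ok r hr.1 _ (code_lt C.D col)]; exact he)
  rw [hrow] at this
  unfold hfIdx at hjc
  omega

include R in
theorem RelData.xU_mem_ut (hf fr : ℕ → ℕ) (r : ℕ) (hr : C.D.IsPosRoot r) (h : levelCheck C hf fr r = true) (t : F) :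
    R.xU r t ∈ utSubgroup (hfIdx C.D hf) F (fr r - 1) := by
  rw [mem_utSubgroup]
  have h0 : 0 < fr r := by
    simp only [levelCheck, hr, decide_true, Bool.not_true, Bool.false_or, Bool.and_eq_true, decide_eq_true_eq] at h
    exact h.1
  have e : fr r - 1 + 1 = fr r := by omega
  rw [e, R.xU_val]
  exact shift_level hf fr r hr h t

include R in
theorem RelData.eq_zero_of_mem_ut (hf fr wj wi : ℕ → ℕ) (r : ℕ) (hr : C.D.IsPosRoot r)
    (h : witCheck C hf fr wj wi r = true) (a : F) (hm : R.xU r a ∈ utSubgroup (hfIdx C.D hf) F (fr r)) : a = 0 := by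
  simp only [witCheck, hr, decide_true, Bool.not_true, Bool.false_or, Bool.and_eq_true, decide_eq_true_eq,
    Bool.or_eq_true] at h
  obtain ⟨⟨⟨⟨h1, h2⟩, h3⟩, h4⟩, h5⟩ := h
  obtain ⟨col, hcol⟩ := exists_code C.D (wj r) h1
  obtain ⟨j, hj⟩ := exists_code C.D (wi r) h2
  rw [mem_utSubgroup] at hm
  have hz := hm j col (by unfold hfIdx; rw [hj, hcol]; omega)
  have hne : j ≠ col := by
    intro e; rw [e, hcol] at hj; exact h3 hj.symm
  rw [R.xU_val] at hz
  unfold ChevalleyDatum.x at hz
  rw [dif_pos hr.1, Matrix.sub_apply, xMat_entry, Matrix.one_apply, add_sub_cancel_left, hcol, hj,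
    ← C.ok r hr.1 _ h1] at hz
  unfold colSum at hz
  rcases h5 with h5 | h5
  · rw [h5] at hz; simpa using hz
  · rw [h5] at hz; simpa using hz

include R in
/-- Uniqueness of the coefficients of a product in increasing order. -/
theorem RelData.lprod_inj (hf fr wj wi : ℕ → ℕ)
    (hlev : ∀ r < C.D.nroots, levelCheck C hf fr r = true)
    (hfr : ∀ r < C.D.nroots, frCheck C.D fr r = true)
    (hwit : ∀ r < C.D.nroots, witCheck C hf fr wj wi r = true)
    (L : List ℕ) (hL : L.Pairwise (· < ·)) (hpos : ∀ r ∈ L, C.D.IsPosRoot r) (t t' : ℕ → F)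
    (h : RootSys.lprod (fun r (t : F) => R.xU r t) L t = RootSys.lprod (fun r (t : F) => R.xU r t) L t') :
    ∀ r ∈ L, t r = t' r := by
  induction L with
  | nil => intro r hr; exact absurd hr (List.not_mem_nil)
  | cons r₀ L ih =>
    rw [List.pairwise_cons] at hL
    have hr₀ : C.D.IsPosRoot r₀ := hpos r₀ List.mem_cons_self
    have hposL : ∀ r ∈ L, C.D.IsPosRoot r := fun r hr => hpos r (List.mem_cons_of_mem _ hr)
    rw [RootSys.lprod_cons, RootSys.lprod_cons] at h
    have hmem : ∀ τ : ℕ → F, RootSys.lprod (fun r (t : F) => R.xU r t) L τ ∈ utSubgroup (hfIdx C.D hf) F (fr r₀) := by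
      intro τ
      unfold RootSys.lprod
      apply Subgroup.list_prod_mem
      intro g hg
      obtain ⟨s, hs, rfl⟩ := List.mem_map.mp hg
      have hs' := hposL s hs
      have hlt : fr r₀ < fr s := by
        have := hfr r₀ hr₀.1
        simp only [frCheck, hr₀, decide_true, Bool.not_true, Bool.false_or, List.all_eq_true, Bool.or_eq_true,
          Bool.not_eq_true', decide_eq_false_iff_not, decide_eq_true_eq] at this
        rcases this s ((mem_posRoots C.D s).mpr hs') with h1 | h1
        · exact absurd (hL.1 s hs) h1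
        · exact h1
      exact utSubgroup_anti _ (by omega) (R.xU_mem_ut hf fr s hs' (hlev s hs'.1) (τ s))
    have e : R.xU r₀ (t r₀ - t' r₀) =
        RootSys.lprod (fun r (t : F) => R.xU r t) L t' * (RootSys.lprod (fun r (t : F) => R.xU r t) L t)⁻¹ := by
      have e1 : R.xU r₀ (t r₀ - t' r₀) = (R.xU r₀ (t' r₀))⁻¹ * R.xU r₀ (t r₀) := by
        rw [R.xU_inv, R.xU_add, sub_eq_neg_add]
      rw [e1, eq_mul_inv_iff_mul_eq, mul_assoc]
      show (R.xU r₀ (t' r₀))⁻¹ * (R.xU r₀ (t r₀) * _) = _
      rw [h]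
      group
    have h0 : t r₀ - t' r₀ = 0 := by
      apply R.eq_zero_of_mem_ut hf fr wj wi r₀ hr₀ (hwit r₀ hr₀.1)
      rw [e]
      exact Subgroup.mul_mem _ (hmem t') (Subgroup.inv_mem _ (hmem t))
    have h1 : t r₀ = t' r₀ := sub_eq_zero.mp h0
    rw [h1] at h
    have h2 := mul_left_cancel h
    intro r hr
    rcases List.mem_cons.mp hr with rfl | hr
    · exact h1
    · exact ih hL.2 hposL h2 r hr

end

/-- The data and checks for the structure of `U`. -/
structure UHyp (C : CDatum) (R : RelData C) where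
  K : CommData C R
  hpos : ℕ → ℕ
  hf : ℕ → ℕ
  fr : ℕ → ℕ
  wj : ℕ → ℕ
  wi : ℕ → ℕ
  col : ∀ r < C.D.nroots, ∀ s < C.D.nroots, collectCheck C.D hpos r s = true
  inj : ∀ r < C.D.nroots, hposCheck C.D hpos r = true
  lev : ∀ r < C.D.nroots, levelCheck C hf fr r = true
  frm : ∀ r < C.D.nroots, frCheck C.D fr r = true
  wit : ∀ r < C.D.nroots, witCheck C hf fr wj wi r = true

section
variable {F : Type*} [Field F] {C : CDatum} {R : RelData C} (U : UHyp C R)
include U

/-- S1026 -/
theorem UHyp.unique_product :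
    (∀ g : GL C.D.Idx F, g ∈ C.D.posUnipotent F →
      ∃! t : ℕ → F, (∀ r, ¬ C.D.IsPosRoot r → t r = 0) ∧
        (g : Matrix C.D.Idx C.D.Idx F) = C.D.wordMat F (C.D.posRoots.map fun r => (r, t r))) ∧
    (∀ t : ℕ → F, ∃ g : GL C.D.Idx F, g ∈ C.D.posUnipotent F ∧
      (g : Matrix C.D.Idx C.D.Idx F) = C.D.wordMat F (C.D.posRoots.map fun r => (r, t r))) := by
  constructor
  · intro g hg
    obtain ⟨t, ht0, rfl⟩ := U.K.exists_word (F := F) U.col U.inj C.D.posRoots (nodup_posRoots C.D)
      (mem_posRoots C.D) g hg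
    refine ⟨t, ⟨ht0, R.lprod_val _ _⟩, ?_⟩
    rintro t' ⟨ht0', h'⟩
    rw [R.lprod_val, ← R.lprod_val, ← R.lprod_val] at h'
    have h'' := Units.ext h'
    have := R.lprod_inj U.hf U.fr U.wj U.wi U.lev U.frm U.wit C.D.posRoots (pairwise_posRoots C.D)
      (fun r hr => (mem_posRoots C.D r).mp hr) t t' h''
    funext r
    by_cases hr : C.D.IsPosRoot r
    · exact (this r ((mem_posRoots C.D r).mpr hr)).symm
    · rw [ht0 r hr, ht0' r hr]
  · intro t
    refine ⟨RootSys.lprod (fun r (t : F) => R.xU r t) C.D.posRoots t, ?_, R.lprod_val _ _⟩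
    rw [R.posUnipotent_eq_tailGrp U.hpos]
    exact RootSys.lprod_mem _ (fun r hr => (mem_posRoots C.D r).mp hr) t

/-- S1027 -/
theorem UHyp.card_posUnipotent [Fintype F] (hlen : C.D.posRoots.length = C.D.nroots / 2) :
    Nat.card (C.D.posUnipotent F) = Fintype.card F ^ (C.D.nroots / 2) := by
  classical
  set n := C.D.posRoots.length with hn
  let ext : (Fin n → F) → ℕ → F := fun τ r =>
    if h : C.D.posRoots.idxOf r < n then τ ⟨C.D.posRoots.idxOf r, h⟩ else 0
  have hext : ∀ (τ : Fin n → F) (i : Fin n), ext τ (C.D.posRoots[i.val]) = τ i := by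
    intro τ i
    have : C.D.posRoots.idxOf (C.D.posRoots[i.val]) = i.val := (nodup_posRoots C.D).idxOf_getElem _ _
    simp only [ext, this, i.isLt, dif_pos]
  let f : (Fin n → F) → C.D.posUnipotent F := fun τ =>
    ⟨RootSys.lprod (fun r (t : F) => R.xU r t) C.D.posRoots (ext τ), by
      rw [R.posUnipotent_eq_tailGrp U.hpos]
      exact RootSys.lprod_mem _ (fun r hr => (mem_posRoots C.D r).mp hr) _⟩
  have hinj : Function.Injective f := by
    intro τ τ' h
    have h' : RootSys.lprod (fun r (t : F) => R.xU r t) C.D.posRoots (ext τ) =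
        RootSys.lprod (fun r (t : F) => R.xU r t) C.D.posRoots (ext τ') := congrArg Subtype.val h
    have := R.lprod_inj U.hf U.fr U.wj U.wi U.lev U.frm U.wit C.D.posRoots (pairwise_posRoots C.D)
      (fun r hr => (mem_posRoots C.D r).mp hr) _ _ h'
    funext i
    have := this (C.D.posRoots[i.val]) (List.getElem_mem _)
    rwa [hext, hext] at this
  have hsurj : Function.Surjective f := by
    rintro ⟨g, hg⟩
    obtain ⟨t, -, rfl⟩ := U.K.exists_word (F := F) U.col U.inj C.D.posRoots (nodup_posRoots C.D)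
      (mem_posRoots C.D) g hg
    refine ⟨fun i => t (C.D.posRoots[i.val]), Subtype.ext ?_⟩
    show RootSys.lprod _ _ _ = RootSys.lprod _ _ _
    unfold RootSys.lprod
    congr 1
    apply List.map_congr_left
    intro r hr
    have hlt : C.D.posRoots.idxOf r < n := List.idxOf_lt_length_of_mem hr
    simp only [ext, hlt, dif_pos, List.getElem_idxOf]
  rw [← Nat.card_congr (Equiv.ofBijective f ⟨hinj, hsurj⟩), Nat.card_fun, Nat.card_fin,
    Nat.card_eq_fintype_card, hlen]

end

end Cfsg.Agent.Lib.Helper3.ChevM
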