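import Mathlib
import Cfsg.Prelude.Def_ChevStructure
import Cfsg.Agent.Lib.Helper3.ChevB3
import Cfsg.Agent.Lib.Helper3.ChevU3
import Cfsg.Agent.S0308
import Cfsg.Agent.S0309
set_option autoImplicit false
open Cfsg Cfsg.Lie

/-! The canonical form `g = b n u` of the elements of a Chevalley group. -/

namespace Cfsg.Agent.Lib.Helper3.ChevM

open ChevT ChevU DoubleCoset

section
variable {F : Type*} [Field F] {C : CDatum} {R : RelData C}

/-- The subgroup `U_w⁻` attached to `n`. -/
def uMinus (D : ChevalleyDatum) (F : Type*) [Field F] (n : GL D.Idx F) : Subgroup (GL D.Idx F) :=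
  Subgroup.closure {x : GL D.Idx F | ∃ (r : ℕ) (t : F), D.IsPosRoot r ∧
    (D.rootSubgroup F r).map (MulAut.conj n).toMonoidHom ≤ D.negUnipotent F ∧
      (x : Matrix D.Idx D.Idx F) = D.x F r t}

theorem conj_uMinus_le (D : ChevalleyDatum) (n : GL D.Idx F) (u : GL D.Idx F) (hu : u ∈ uMinus D F n) :
    n * u * n⁻¹ ∈ D.negUnipotent F := by
  have : uMinus D F n ≤ (D.negUnipotent F).comap (MulAut.conj n).toMonoidHom := by
    unfold uMinus
    rw [Subgroup.closure_le]
    rintro x ⟨r, t, -, hle, hx⟩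
    apply hle
    refine Subgroup.mem_map_of_mem _ ?_
    exact Subgroup.subset_closure ⟨t, hx⟩
  have := this hu
  simpa using this

theorem uMinus_le_posUnipotent (D : ChevalleyDatum) (n : GL D.Idx F) : uMinus D F n ≤ D.posUnipotent F := by
  unfold uMinus ChevalleyDatum.posUnipotent
  apply Subgroup.closure_mono
  rintro x ⟨r, t, hr, -, hx⟩
  exact ⟨r, t, hr, hx⟩

variable (Uh : UHyp C R) (Hy : BNHyp C R)
include Uh Hy

/-- S1100 -/
theorem UHyp.bruhat_normal_form
    (hntri : ∀ r < C.D.nroots, negTri C r = true)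
    (hsign : ∀ r < C.D.nroots, C.D.IsPosRoot r ∨ C.D.IsNegRoot r) :
    (∀ g ∈ C.D.group F, ∃ b ∈ C.D.borelSubgroup F, ∃ n ∈ C.D.monomialSubgroup F,
      ∃ u ∈ uMinus C.D F n, g = b * n * u) ∧
    (∀ (b b' n n' u u' : GL C.D.Idx F), b ∈ C.D.borelSubgroup F → b' ∈ C.D.borelSubgroup F →
      n ∈ C.D.monomialSubgroup F → n' ∈ C.D.monomialSubgroup F →
      u ∈ uMinus C.D F n → u' ∈ uMinus C.D F n' →
      b * n * u = b' * n' * u' → n⁻¹ * n' ∈ C.D.diagonalSubgroup F ∧ (n = n' → b = b' ∧ u = u')) := by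
  classical
  have hBG : C.D.borelSubgroup F ≤ C.D.group F := (R.borel_sup_monomial Hy.root Hy.nc).1
  have hNG : C.D.monomialSubgroup F ≤ C.D.group F := (R.borel_sup_monomial Hy.root Hy.nc).2.1
  have hUB : C.D.posUnipotent F ≤ C.D.borelSubgroup F := le_sup_left
  have hHB : C.D.diagonalSubgroup F ≤ C.D.borelSubgroup F := le_sup_right
  have hHN : C.D.diagonalSubgroup F ≤ C.D.monomialSubgroup F := le_sup_left
  obtain ⟨hHU, -⟩ := R.diagonal_normalizes (F := F) Hy.dec Hy.mono.tri
  set P := Uh.K.bnPair (F := F) Hy with hP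
  have hPB : P.B = (C.D.borelSubgroup F).subgroupOf (C.D.group F) := rfl
  have hPN : P.N = (C.D.monomialSubgroup F).subgroupOf (C.D.group F) := rfl
  constructor
  · intro g hg
    obtain ⟨nG, hnG, hmem⟩ := Cfsg.Agent.S0308.result P ⟨g, hg⟩
    obtain ⟨b₁, hb₁, b₂, hb₂, e⟩ := mem_doubleCoset.mp hmem
    rw [SetLike.mem_coe, hPB, Subgroup.mem_subgroupOf] at hb₁ hb₂
    rw [hPN, Subgroup.mem_subgroupOf] at hnG
    have e' : g = (b₁ : GL C.D.Idx F) * (nG : GL C.D.Idx F) * (b₂ : GL C.D.Idx F) := by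
      have := congrArg Subtype.val e
      simpa using this
    -- decompose `b₂ = u₂ * h₂`
    have hset := Subgroup.coe_mul_of_right_le_normalizer_left (C.D.posUnipotent F) (C.D.diagonalSubgroup F) hHU
    have hb₂' : (b₂ : GL C.D.Idx F) ∈ ((C.D.posUnipotent F ⊔ C.D.diagonalSubgroup F : Subgroup _) : Set _) := hb₂
    rw [hset] at hb₂'
    obtain ⟨u₂, hu₂, h₂, hh₂, e₂⟩ := Set.mem_mul.mp hb₂'
    set n' : GL C.D.Idx F := (nG : GL C.D.Idx F) * h₂ with hn'
    have hn'N : n' ∈ C.D.monomialSubgroup F := Subgroup.mul_mem _ hnG (hHN hh₂)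
    set u₃ : GL C.D.Idx F := h₂⁻¹ * u₂ * h₂ with hu₃
    have hu₃U : u₃ ∈ C.D.posUnipotent F := by
      have := hHU (Subgroup.inv_mem _ hh₂)
      rw [Subgroup.mem_normalizer_iff] at this
      have := (this u₂).mp hu₂
      rwa [inv_inv] at this
    have e3 : g = (b₁ : GL C.D.Idx F) * n' * u₃ := by
      rw [e', ← e₂, hn', hu₃]; group
    -- the action of `n'` on the root subgroups
    obtain ⟨σ, d, hσ⟩ := Hy.mono.conj_xU (F := F) Hy.dec n' hn'N
    set Ψ' := C.D.posRoots.filter (fun r => ¬ C.D.IsNegRoot (σ r)) with hΨ'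
    set Ψ := C.D.posRoots.filter (fun r => C.D.IsNegRoot (σ r)) with hΨ
    have hnd : (Ψ' ++ Ψ).Nodup := by
      rw [List.nodup_append]
      refine ⟨(nodup_posRoots C.D).filter _, (nodup_posRoots C.D).filter _, ?_⟩
      intro a ha b hb hab
      subst hab
      simp only [hΨ', hΨ, List.mem_filter, decide_eq_true_eq] at ha hb
      exact ha.2 hb.2
    have hmemM : ∀ r, r ∈ Ψ' ++ Ψ ↔ C.D.IsPosRoot r := by
      intro r
      simp only [hΨ', hΨ, List.mem_append, List.mem_filter, decide_eq_true_eq, mem_posRoots]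
      constructor
      · rintro (h | h) <;> exact h.1
      · intro h
        by_cases h' : C.D.IsNegRoot (σ r)
        · exact Or.inr ⟨h, h'⟩
        · exact Or.inl ⟨h, h'⟩
    obtain ⟨t, -, ht⟩ := Uh.K.exists_word (F := F) Uh.col Uh.inj (Ψ' ++ Ψ) hnd hmemM u₃ hu₃U
    rw [RootSys.lprod_append] at ht
    set up := RootSys.lprod (fun r (t : F) => R.xU r t) Ψ' t with hup
    set um := RootSys.lprod (fun r (t : F) => R.xU r t) Ψ t with hum
    have hum_mem : um ∈ uMinus C.D F n' := by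
      rw [hum]
      unfold RootSys.lprod
      apply Subgroup.list_prod_mem
      intro x hx
      obtain ⟨r, hr, rfl⟩ := List.mem_map.mp hx
      simp only [hΨ, List.mem_filter, decide_eq_true_eq, mem_posRoots] at hr
      apply Subgroup.subset_closure
      refine ⟨r, t r, hr.1, ?_, R.xU_val _ _⟩
      unfold ChevalleyDatum.rootSubgroup
      rw [MonoidHom.map_closure, Subgroup.closure_le]
      rintro _ ⟨y, ⟨c, hy⟩, rfl⟩
      have hy' : y = R.xU r c := Units.ext hy
      subst hy'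
      have := (hσ r hr.1.1).2.2.2 c
      show n' * R.xU r c * n'⁻¹ ∈ _
      rw [this]
      exact Subgroup.subset_closure ⟨σ r, d r * c, hr.2, R.xU_val _ _⟩
    have hup_mem : n' * up * n'⁻¹ ∈ C.D.posUnipotent F := by
      rw [hup]
      unfold RootSys.lprod
      have : ∀ L : List (GL C.D.Idx F), (∀ y ∈ L, n' * y * n'⁻¹ ∈ C.D.posUnipotent F) →
          n' * L.prod * n'⁻¹ ∈ C.D.posUnipotent F := by
        intro L
        induction L with
        | nil => intro _; simp
        | cons y L ih =>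
          intro h
          have e : n' * (y :: L).prod * n'⁻¹ = (n' * y * n'⁻¹) * (n' * L.prod * n'⁻¹) := by
            rw [List.prod_cons]; group
          rw [e]
          exact Subgroup.mul_mem _ (h y List.mem_cons_self) (ih fun z hz => h z (List.mem_cons_of_mem _ hz))
      apply this
      intro y hy
      obtain ⟨r, hr, rfl⟩ := List.mem_map.mp hy
      simp only [hΨ', List.mem_filter, decide_eq_true_eq, mem_posRoots] at hr
      have := (hσ r hr.1.1).2.2.2 (t r)
      show n' * R.xU r (t r) * n'⁻¹ ∈ _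
      rw [this]
      have hpos : C.D.IsPosRoot (σ r) := by
        rcases hsign (σ r) (hσ r hr.1.1).1 with h | h
        · exact h
        · exact absurd h hr.2
      exact Subgroup.subset_closure ⟨σ r, d r * t r, hpos, R.xU_val _ _⟩
    refine ⟨(b₁ : GL C.D.Idx F) * (n' * up * n'⁻¹), Subgroup.mul_mem _ hb₁ (hUB hup_mem), n', hn'N, um, hum_mem, ?_⟩
    rw [e3, ht]; group
  · intro b b' n n' u u' hb hb' hn hn' hu hu' e
    have huU := uMinus_le_posUnipotent C.D n hu
    have hu'U := uMinus_le_posUnipotent C.D n' hu'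
    constructor
    · -- the double cosets coincide
      have hmem : (⟨n', hNG hn'⟩ : ↥(C.D.group F)) ∈
          doubleCoset (⟨n, hNG hn⟩ : ↥(C.D.group F)) (P.B : Set ↥(C.D.group F)) P.B := by
        rw [mem_doubleCoset]
        refine ⟨⟨b'⁻¹ * b, hBG (Subgroup.mul_mem _ (Subgroup.inv_mem _ hb') hb)⟩, ?_,
          ⟨u * u'⁻¹, hBG (hUB (Subgroup.mul_mem _ huU (Subgroup.inv_mem _ hu'U)))⟩, ?_, ?_⟩
        · rw [SetLike.mem_coe, hPB, Subgroup.mem_subgroupOf]
          exact Subgroup.mul_mem _ (Subgroup.inv_mem _ hb') hb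
        · rw [SetLike.mem_coe, hPB, Subgroup.mem_subgroupOf]
          exact hUB (Subgroup.mul_mem _ huU (Subgroup.inv_mem _ hu'U))
        · apply Subtype.ext
          show n' = b'⁻¹ * b * n * (u * u'⁻¹)
          have : b'⁻¹ * b * n * (u * u'⁻¹) = b'⁻¹ * (b * n * u) * u'⁻¹ := by group
          rw [this, e]; group
      have heq := doubleCoset_eq_of_mem hmem
      have hnP : (⟨n, hNG hn⟩ : ↥(C.D.group F)) ∈ P.N := by
        rw [hPN, Subgroup.mem_subgroupOf]; exact hn
      have hn'P : (⟨n', hNG hn'⟩ : ↥(C.D.group F)) ∈ P.N := by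
        rw [hPN, Subgroup.mem_subgroupOf]; exact hn'
      have := (Cfsg.Agent.S0309.result P hnP hn'P).mp heq.symm
      rw [hPB, Subgroup.mem_subgroupOf] at this
      have hB : n⁻¹ * n' ∈ C.D.borelSubgroup F := this
      have hN : n⁻¹ * n' ∈ C.D.monomialSubgroup F := Subgroup.mul_mem _ (Subgroup.inv_mem _ hn) hn'
      rw [← Hy.mono.borel_inf_monomial]
      exact ⟨hB, hN⟩
    · intro hnn
      subst hnn
      have h1 : b'⁻¹ * b = n * (u' * u⁻¹) * n⁻¹ := by
        have : b'⁻¹ * b = b'⁻¹ * (b * n * u) * u⁻¹ * n⁻¹ := by group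
        rw [this, e]; group
      have h2 : n * (u' * u⁻¹) * n⁻¹ ∈ C.D.negUnipotent F :=
        conj_uMinus_le C.D n _ (Subgroup.mul_mem _ hu' (Subgroup.inv_mem _ hu))
      have h3 : b'⁻¹ * b ∈ C.D.borelSubgroup F ⊓ C.D.negUnipotent F :=
        ⟨Subgroup.mul_mem _ (Subgroup.inv_mem _ hb') hb, h1 ▸ h2⟩
      rw [(R.borel_inf_neg (F := F) Hy.dec Hy.mono.tri hntri).1, Subgroup.mem_bot] at h3
      have hbb : b = b' := by
        have := inv_mul_eq_one.mp h3
        exact this.symm
      subst hbb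
      refine ⟨rfl, ?_⟩
      exact mul_left_cancel e

end

end Cfsg.Agent.Lib.Helper3.ChevM
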