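import Mathlib
import Cfsg.Prelude.Def_ChevStructure
import Cfsg.Agent.Lib.Helper3.ChevN1
import Cfsg.Agent.Lib.Helper3.ChevU4
import Cfsg.Agent.Lib.Helper3.ChevO0
set_option autoImplicit false
open Cfsg Cfsg.Lie

/-! The order of a Chevalley group over a finite field as a sum over the permutations of the roots induced by the
words in the fundamental reflections. -/

namespace Cfsg.Agent.Lib.Helper3.ChevM

open ChevT ChevU DoubleCoset

section
variable {F : Type*} [Field F] {C : CDatum} {R : RelData C}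

/-- The set of the products of root elements over a list of roots. -/
def lprodSet (R : RelData C) (F : Type*) [Field F] (L : List ℕ) : Set (GL C.D.Idx F) :=
  {g | ∃ t : ℕ → F, g = RootSys.lprod (fun r (t : F) => R.xU r t) L t}

theorem UHyp.card_lprodSet [Fintype F] (Uh : UHyp C R) (L : List ℕ) (hL : L.Pairwise (· < ·))
    (hpos : ∀ r ∈ L, C.D.IsPosRoot r) : Nat.card (lprodSet R F L) = Fintype.card F ^ L.length := by
  classical
  have hnd : L.Nodup := hL.imp (fun h => ne_of_lt h)
  set n := L.length with hn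
  let ext : (Fin n → F) → ℕ → F := fun τ r => if h : L.idxOf r < n then τ ⟨L.idxOf r, h⟩ else 0
  have hext : ∀ (τ : Fin n → F) (i : Fin n), ext τ (L[i.val]) = τ i := by
    intro τ i
    have : L.idxOf (L[i.val]) = i.val := hnd.idxOf_getElem _ _
    simp only [ext, this, i.isLt, dif_pos]
  let f : (Fin n → F) → lprodSet R F L := fun τ => ⟨RootSys.lprod (fun r (t : F) => R.xU r t) L (ext τ), _, rfl⟩
  have hinj : Function.Injective f := by
    intro τ τ' h
    have h' : RootSys.lprod (fun r (t : F) => R.xU r t) L (ext τ) =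
        RootSys.lprod (fun r (t : F) => R.xU r t) L (ext τ') := congrArg Subtype.val h
    have := R.lprod_inj Uh.hf Uh.fr Uh.wj Uh.wi Uh.lev Uh.frm Uh.wit L hL hpos _ _ h'
    funext i
    have := this (L[i.val]) (List.getElem_mem _)
    rwa [hext, hext] at this
  have hsurj : Function.Surjective f := by
    rintro ⟨g, t, rfl⟩
    refine ⟨fun i => t (L[i.val]), Subtype.ext ?_⟩
    show RootSys.lprod _ _ _ = RootSys.lprod _ _ _
    unfold RootSys.lprod
    congr 1
    apply List.map_congr_left
    intro r hr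
    have hlt : L.idxOf r < n := List.idxOf_lt_length_of_mem hr
    simp only [ext, hlt, dif_pos, List.getElem_idxOf]
  rw [← Nat.card_congr (Equiv.ofBijective f ⟨hinj, hsurj⟩), Nat.card_fun, Nat.card_fin, Nat.card_eq_fintype_card]

/-- The positive roots made negative by a word. -/
def negSet (D : ChevalleyDatum) (refl : ℕ → ℕ → ℕ) (w : List ℕ) : List ℕ :=
  D.posRoots.filter fun r => decide (D.IsNegRoot (reflW refl w r))

theorem pairwise_negSet (D : ChevalleyDatum) (refl : ℕ → ℕ → ℕ) (w : List ℕ) :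
    (negSet D refl w).Pairwise (· < ·) := (pairwise_posRoots D).filter _

theorem mem_negSet (D : ChevalleyDatum) (refl : ℕ → ℕ → ℕ) (w : List ℕ) (r : ℕ) :
    r ∈ negSet D refl w ↔ D.IsPosRoot r ∧ D.IsNegRoot (reflW refl w r) := by
  simp [negSet, mem_posRoots]

variable (Uh : UHyp C R) (Hy : BNHyp C R)
include Uh Hy

/-- The subgroup `U_w⁻` consists of the products of root elements over the positive roots made negative by `w`. -/
theorem UHyp.uMinus_eq
    (hntri : ∀ r < C.D.nroots, negTri C r = true)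
    (hsign : ∀ r < C.D.nroots, signCheck C.D r = true)
    (h : GL C.D.Idx F) (hh : h ∈ C.D.diagonalSubgroup F) (w : List ℕ) (hw : ∀ i ∈ w, i < C.D.rank) :
    (uMinus C.D F (h * R.nWordU w) : Set (GL C.D.Idx F)) = lprodSet R F (negSet C.D R.refl w) := by
  classical
  set n := h * R.nWordU (F := F) w with hn
  obtain ⟨d, hd⟩ := Hy.mono.conj_word_xU (F := F) Hy.dec h hh w hw
  have hgen : ∀ r ∈ negSet C.D R.refl w, ∀ c : F, R.xU r c ∈ uMinus C.D F n := by
    intro r hr c
    rw [mem_negSet] at hr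
    apply Subgroup.subset_closure
    refine ⟨r, c, hr.1, ?_, R.xU_val _ _⟩
    unfold ChevalleyDatum.rootSubgroup
    rw [MonoidHom.map_closure, Subgroup.closure_le]
    rintro _ ⟨y, ⟨c', hy⟩, rfl⟩
    have hy' : y = R.xU r c' := Units.ext hy
    subst hy'
    show n * R.xU r c' * n⁻¹ ∈ _
    rw [(hd r hr.1.1).2 c']
    exact Subgroup.subset_closure ⟨_, d r * c', hr.2, R.xU_val _ _⟩
  have hsub : ∀ t : ℕ → F, RootSys.lprod (fun r (t : F) => R.xU r t) (negSet C.D R.refl w) t ∈ uMinus C.D F n := by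
    intro t
    unfold RootSys.lprod
    apply Subgroup.list_prod_mem
    intro x hx
    obtain ⟨r, hr, rfl⟩ := List.mem_map.mp hx
    exact hgen r hr (t r)
  apply Set.Subset.antisymm
  · intro g hg
    have hgU : g ∈ C.D.posUnipotent F := uMinus_le_posUnipotent C.D n hg
    have hgV : n * g * n⁻¹ ∈ C.D.negUnipotent F := conj_uMinus_le C.D n g hg
    set Ψ' := C.D.posRoots.filter (fun r => ¬ C.D.IsNegRoot (reflW R.refl w r)) with hΨ'
    set Ψ := negSet C.D R.refl w with hΨ
    have hnd : (Ψ' ++ Ψ).Nodup := by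
      rw [List.nodup_append]
      refine ⟨(nodup_posRoots C.D).filter _, (nodup_posRoots C.D).filter _, ?_⟩
      intro a ha b hb hab
      subst hab
      rw [hΨ, mem_negSet] at hb
      simp only [hΨ', List.mem_filter, decide_eq_true_eq] at ha
      exact ha.2 hb.2
    have hmemM : ∀ r, r ∈ Ψ' ++ Ψ ↔ C.D.IsPosRoot r := by
      intro r
      rw [List.mem_append, hΨ, mem_negSet]
      simp only [hΨ', List.mem_filter, decide_eq_true_eq, mem_posRoots]
      constructor
      · rintro (h | h) <;> exact h.1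
      · intro h
        by_cases h' : C.D.IsNegRoot (reflW R.refl w r)
        · exact Or.inr ⟨h, h'⟩
        · exact Or.inl ⟨h, h'⟩
    obtain ⟨t, -, ht⟩ := Uh.K.exists_word (F := F) Uh.col Uh.inj (Ψ' ++ Ψ) hnd hmemM g hgU
    rw [RootSys.lprod_append] at ht
    set up := RootSys.lprod (fun r (t : F) => R.xU r t) Ψ' t with hup
    set um := RootSys.lprod (fun r (t : F) => R.xU r t) Ψ t with hum
    have hup_mem : n * up * n⁻¹ ∈ C.D.posUnipotent F := by
      rw [hup]
      unfold RootSys.lprod
      have : ∀ L : List (GL C.D.Idx F), (∀ y ∈ L, n * y * n⁻¹ ∈ C.D.posUnipotent F) →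
          n * L.prod * n⁻¹ ∈ C.D.posUnipotent F := by
        intro L
        induction L with
        | nil => intro _; simp
        | cons y L ih =>
          intro h
          have e : n * (y :: L).prod * n⁻¹ = (n * y * n⁻¹) * (n * L.prod * n⁻¹) := by
            rw [List.prod_cons]; group
          rw [e]
          exact Subgroup.mul_mem _ (h y List.mem_cons_self) (ih fun z hz => h z (List.mem_cons_of_mem _ hz))
      apply this
      intro y hy
      obtain ⟨r, hr, rfl⟩ := List.mem_map.mp hy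
      simp only [hΨ', List.mem_filter, decide_eq_true_eq, mem_posRoots] at hr
      show n * R.xU r (t r) * n⁻¹ ∈ _
      rw [(hd r hr.1.1).2 (t r)]
      have hlt := R.reflW_lt w hw r hr.1.1
      have hpos : C.D.IsPosRoot (reflW R.refl w r) := by
        obtain ⟨s1, s2, -⟩ := signCheck_spec (hsign _ hlt)
        by_contra hnp
        have : C.D.IsPosRoot (C.D.neg (reflW R.refl w r)) := by
          by_contra h3
          exact hnp (s1.mpr h3)
        exact hr.2 (s2.mpr this)
      exact Subgroup.subset_closure ⟨_, d r * t r, hpos, R.xU_val _ _⟩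
    have hum_mem : n * um * n⁻¹ ∈ C.D.negUnipotent F := conj_uMinus_le C.D n um (hsub t)
    have h1 : n * up * n⁻¹ = (n * g * n⁻¹) * (n * um * n⁻¹)⁻¹ := by
      rw [ht]; group
    have h2 : n * up * n⁻¹ ∈ C.D.borelSubgroup F ⊓ C.D.negUnipotent F := by
      refine ⟨Subgroup.mem_sup_left hup_mem, ?_⟩
      rw [h1]
      exact Subgroup.mul_mem _ hgV (Subgroup.inv_mem _ hum_mem)
    rw [(R.borel_inf_neg (F := F) Hy.dec Hy.mono.tri hntri).1, Subgroup.mem_bot] at h2
    have h3 : up = 1 := by
      have : up = n⁻¹ * (n * up * n⁻¹) * n := by group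
      rw [this, h2]; group
    refine ⟨t, ?_⟩
    rw [ht, h3, one_mul]
  · rintro g ⟨t, rfl⟩
    exact hsub t

end

section Count
variable {F : Type*} [Field F] [Fintype F] {C : CDatum} {R : RelData C} (Uh : UHyp C R) (Hy : BNHyp C R)
include Uh Hy

omit Uh Hy in
theorem signCheck_or {D : ChevalleyDatum} {r : ℕ} (h : signCheck D r = true) : D.IsPosRoot r ∨ D.IsNegRoot r := by
  obtain ⟨s1, s2, -⟩ := signCheck_spec h
  by_cases h' : D.IsPosRoot (D.neg r)
  · exact Or.inr (s2.mpr h')
  · exact Or.inl (s1.mpr h')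

/-- The order of the group as a multiple of the order of `B`. -/
theorem UHyp.card_group
    (hntri : ∀ r < C.D.nroots, negTri C r = true)
    (hsign : ∀ r < C.D.nroots, signCheck C.D r = true) :
    Nat.card (C.D.group F) =
      Nat.card (C.D.borelSubgroup F) * poin C.D R.refl Set.univ (Fintype.card F) := by
  classical
  have hBG : C.D.borelSubgroup F ≤ C.D.group F := (R.borel_sup_monomial Hy.root Hy.nc).1
  have hNG : C.D.monomialSubgroup F ≤ C.D.group F := (R.borel_sup_monomial Hy.root Hy.nc).2.1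
  have hHB : C.D.diagonalSubgroup F ≤ C.D.borelSubgroup F := le_sup_right
  obtain ⟨bru1, bru2⟩ := Uh.bruhat_normal_form (F := F) Hy hntri (fun r hr => signCheck_or (hsign r hr))
  let W := {f : Fin C.D.nroots → Fin C.D.nroots // f ∈ Wset C.D R.refl Set.univ}
  have hword : ∀ f : W, ∃ w : List ℕ, (∀ i ∈ w, i < C.D.rank) ∧ f.1 = wperm C.D R.refl w := by
    intro f
    obtain ⟨w, hw, e⟩ := f.2
    exact ⟨w, fun i hi => (hw i hi).1, e⟩
  choose wd hwd hwd' using hword
  let nf : W → GL C.D.Idx F := fun f => R.nWordU (wd f)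
  have hnfN : ∀ f, nf f ∈ C.D.monomialSubgroup F := fun f => R.nWordU_mem _ (hwd f)
  have hUm : ∀ f, (uMinus C.D F (nf f) : Set (GL C.D.Idx F)) = lprodSet R F (negSet C.D R.refl (wd f)) := by
    intro f
    have := Uh.uMinus_eq (F := F) Hy hntri hsign 1 (Subgroup.one_mem _) (wd f) (hwd f)
    rwa [one_mul] at this
  let Φ : (Σ f : W, (C.D.borelSubgroup F) × (uMinus C.D F (nf f))) → C.D.group F := fun x =>
    ⟨x.2.1.1 * nf x.1 * x.2.2.1, Subgroup.mul_mem _ (Subgroup.mul_mem _ (hBG x.2.1.2) (hNG (hnfN x.1)))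
      (hBG (Subgroup.mem_sup_left (uMinus_le_posUnipotent C.D _ x.2.2.2)))⟩
  have hinj : Function.Injective Φ := by
    rintro ⟨f, b, u⟩ ⟨f', b', u'⟩ h
    have e : b.1 * nf f * u.1 = b'.1 * nf f' * u'.1 := congrArg Subtype.val h
    obtain ⟨h1, h2⟩ := bru2 b.1 b'.1 (nf f) (nf f') u.1 u'.1 b.2 b'.2 (hnfN f) (hnfN f') u.2 u'.2 e
    have hff : f = f' := by
      have e1 : R.nWordU (F := F) (wd f') = (nf f * ((nf f)⁻¹ * nf f') * (nf f)⁻¹) * R.nWordU (wd f) := by
        show nf f' = _ * nf f
        group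
      have := R.reflW_eq_of_coset (F := F) Hy.dec (wd f') (wd f) (hwd f') (hwd f) _
        (Hy.mono.conj_mem _ (hnfN f) _ h1) e1
      apply Subtype.ext
      rw [hwd' f, hwd' f', R.wperm_eq_iff _ _ (hwd f) (hwd f')]
      intro s hs
      exact (this s hs).symm
    subst hff
    obtain ⟨h3, h4⟩ := h2 rfl
    have hb : b = b' := Subtype.ext h3
    have hu : u = u' := Subtype.ext h4
    rw [hb, hu]
  have hsurj : Function.Surjective Φ := by
    rintro ⟨g, hg⟩
    obtain ⟨b, hb, n, hn, u, hu, rfl⟩ := bru1 g hg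
    obtain ⟨h, hh, w, hw, rfl⟩ := Hy.mono.monomial_decomp n hn
    let f : W := ⟨wperm C.D R.refl w, w, fun i hi => ⟨hw i hi, Set.mem_univ _⟩, rfl⟩
    have hperm : ∀ s < C.D.nroots, reflW R.refl w s = reflW R.refl (wd f) s := by
      rw [← R.wperm_eq_iff _ _ hw (hwd f)]
      exact hwd' f
    obtain ⟨h', hh', e'⟩ := Hy.mono.coset_of_reflW_eq (F := F) Hy.dec w (wd f) hw (hwd f) hperm
    have hu' : u ∈ uMinus C.D F (nf f) := by
      have e1 := Uh.uMinus_eq (F := F) Hy hntri hsign h hh w hw
      have e2 : negSet C.D R.refl w = negSet C.D R.refl (wd f) := by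
        unfold negSet
        apply List.filter_congr
        intro r hr
        rw [hperm r ((mem_posRoots C.D r).mp hr).1]
      have : u ∈ (uMinus C.D F (h * R.nWordU w) : Set (GL C.D.Idx F)) := hu
      rw [e1, e2, ← hUm f] at this
      exact this
    refine ⟨⟨f, ⟨b * (h * h'), Subgroup.mul_mem _ hb (hHB (Subgroup.mul_mem _ hh hh'))⟩, ⟨u, hu'⟩⟩, ?_⟩
    apply Subtype.ext
    show b * (h * h') * nf f * u = b * (h * R.nWordU w) * u
    rw [e']
    show b * (h * h') * R.nWordU (wd f) * u = _
    group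
  have hcardU : ∀ f : W, Nat.card (uMinus C.D F (nf f)) = Fintype.card F ^ Nf C.D f.1 := by
    intro f
    have e : Nat.card (uMinus C.D F (nf f)) = Nat.card ((uMinus C.D F (nf f) : Set (GL C.D.Idx F))) := rfl
    rw [e, hUm f, Uh.card_lprodSet _ (pairwise_negSet _ _ _) (fun r hr => ((mem_negSet _ _ _ r).mp hr).1),
      hwd' f, R.Nf_wperm _ (hwd f)]
    rfl
  letI : Fintype W := Subtype.fintype _
  rw [← Nat.card_congr (Equiv.ofBijective Φ ⟨hinj, hsurj⟩), Nat.card_sigma]
  simp only [Nat.card_prod, hcardU]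
  rw [← Finset.mul_sum]
  congr 1
  unfold poin
  rw [Finset.sum_subtype (p := fun f => f ∈ Wset C.D R.refl Set.univ)
    (Finset.univ.filter fun f => f ∈ Wset C.D R.refl Set.univ) (by simp)
    (fun f => Fintype.card F ^ Nf C.D f)]

end Count

end Cfsg.Agent.Lib.Helper3.ChevM
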