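import Mathlib
import Cfsg.Prelude.Def_ChevStructure
import Cfsg.Agent.Lib.Helper3.ChevO0
import Cfsg.Agent.Lib.Helper3.ChevU2
set_option autoImplicit false
set_option linter.unusedSectionVars false
open Cfsg Cfsg.Lie

/-! Factorisation of the Poincaré sum of a Weyl group along a chain of parabolic subgroups, by means of lists of
coset representatives checked by the kernel. -/

namespace Cfsg.Agent.Lib.Helper3.ChevM

/-- The root `r` is a combination of the first `k` fundamental roots. -/
def suppLt (D : ChevalleyDatum) (k r : ℕ) : Bool :=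
  (List.range D.rank).all fun j => decide (j < k) || decide ((D.coroot.getD r #[]).getD j 0 = 0)

/-- The checks on the sub-root-system spanned by the first `k` fundamental roots. -/
def suppCheck (D : ChevalleyDatum) (refl : ℕ → ℕ → ℕ) (k r : ℕ) : Bool :=
  (suppLt D k (D.neg r) == suppLt D k r) &&
    (List.range k).all fun j => (suppLt D k (refl j r) == suppLt D k r) && suppLt D k (D.simple j)

/-- The number of positive roots made negative by a word. -/
def Nw (D : ChevalleyDatum) (refl : ℕ → ℕ → ℕ) (d : List ℕ) : ℕ :=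
  (D.posRoots.filter fun r => decide (D.IsNegRoot (reflW refl d r))).length

/-- The representative `DL[a]` maps the positive roots of the subsystem to positive roots; its letters are at most `k`. -/
def repCheck (D : ChevalleyDatum) (refl : ℕ → ℕ → ℕ) (k : ℕ) (DL : List (List ℕ)) (a : ℕ) : Bool :=
  ((DL.getD a []).all fun i => decide (i < k + 1)) &&
    D.posRoots.all fun r => !suppLt D k r || decide (D.IsPosRoot (reflW refl (DL.getD a []) r))

/-- Left multiplication of the representative `DL[a]` by the reflection `i`: either another representative, or the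
representative followed by a reflection of the subsystem. -/
def stepCheck (D : ChevalleyDatum) (refl : ℕ → ℕ → ℕ) (k : ℕ) (DL : List (List ℕ)) (nxt : ℕ → ℕ → ℕ) (a i : ℕ) : Bool :=
  if nxt a i < DL.length then
    (List.range D.nroots).all fun s => refl i (reflW refl (DL.getD a []) s) == reflW refl (DL.getD (nxt a i) []) s
  else
    decide (nxt a i - DL.length < k) &&
      (List.range D.nroots).all fun s =>
        refl i (reflW refl (DL.getD a []) s) == reflW refl (DL.getD a []) (refl (nxt a i - DL.length) s)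

/-- The representatives induce distinct permutations. -/
def distinctCheck (D : ChevalleyDatum) (refl : ℕ → ℕ → ℕ) (DL : List (List ℕ)) : Bool :=
  decide ((DL.map fun d => (List.range D.nroots).map (reflW refl d)).Nodup)

section
variable {C : CDatum} {R : RelData C} (M : MonoHyp C R)
include M

theorem MonoHyp.wperm_append (w1 w2 : List ℕ) (h1 : ∀ i ∈ w1, i < C.D.rank) (h2 : ∀ i ∈ w2, i < C.D.rank)
    (s : Fin C.D.nroots) : wperm C.D R.refl (w1 ++ w2) s = wperm C.D R.refl w1 (wperm C.D R.refl w2 s) := by
  apply Fin.ext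
  rw [R.wperm_val _ (by
    intro i hi
    rcases List.mem_append.mp hi with h | h
    · exact h1 i h
    · exact h2 i h), R.wperm_val _ h1, R.wperm_val _ h2, reflW_append]

theorem MonoHyp.wperm_reverse (w : List ℕ) (hw : ∀ i ∈ w, i < C.D.rank) (s : Fin C.D.nroots) :
    wperm C.D R.refl w.reverse (wperm C.D R.refl w s) = s := by
  have hr : ∀ i ∈ w.reverse, i < C.D.rank := fun i hi => hw i (List.mem_reverse.mp hi)
  apply Fin.ext
  rw [R.wperm_val _ hr, R.wperm_val _ hw]
  exact R.reflW_reverse M.inv w hw s.val s.isLt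

theorem MonoHyp.wperm_reverse' (w : List ℕ) (hw : ∀ i ∈ w, i < C.D.rank) (s : Fin C.D.nroots) :
    wperm C.D R.refl w (wperm C.D R.refl w.reverse s) = s := by
  have hr : ∀ i ∈ w.reverse, i < C.D.rank := fun i hi => hw i (List.mem_reverse.mp hi)
  have := M.wperm_reverse w.reverse hr s
  rwa [List.reverse_reverse] at this

theorem MonoHyp.wperm_injective (w : List ℕ) (hw : ∀ i ∈ w, i < C.D.rank) :
    Function.Injective (wperm C.D R.refl w) := by
  intro s s' h
  have := congrArg (wperm C.D R.refl w.reverse) h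
  rwa [M.wperm_reverse w hw, M.wperm_reverse w hw] at this

/-- The action of a word commutes with the negation of roots. -/
theorem MonoHyp.reflW_neg (w : List ℕ) (hw : ∀ i ∈ w, i < C.D.rank) (s : ℕ) (hs : s < C.D.nroots) :
    reflW R.refl w (C.D.neg s) = C.D.neg (reflW R.refl w s) :=
  (R.negCompat_word M.nr w hw s hs).1

end

section
variable {C : CDatum} {R : RelData C} (M : MonoHyp C R)
  (hsign : ∀ r < C.D.nroots, signCheck C.D r = true) (k : ℕ)
  (hsupp : ∀ r < C.D.nroots, suppCheck C.D R.refl k r = true)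
include M hsign hsupp

omit M hsupp in
theorem neg_iff_not_pos (r : ℕ) (hr : r < C.D.nroots) : C.D.IsNegRoot r ↔ ¬ C.D.IsPosRoot r := by
  obtain ⟨s1, s2, -⟩ := signCheck_spec (hsign r hr)
  rw [s2, s1, not_not]

omit M hsign in
theorem suppCheck_spec (r : ℕ) (hr : r < C.D.nroots) :
    suppLt C.D k (C.D.neg r) = suppLt C.D k r ∧
      ∀ j < k, suppLt C.D k (R.refl j r) = suppLt C.D k r ∧ suppLt C.D k (C.D.simple j) = true := by
  have := hsupp r hr
  simp only [suppCheck, Bool.and_eq_true, beq_iff_eq, List.all_eq_true, List.mem_range] at this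
  exact this

omit hsign in
theorem MonoHyp.suppLt_reflW (hk : k ≤ C.D.rank) (w : List ℕ) (hw : ∀ i ∈ w, i < k) (s : ℕ) (hs : s < C.D.nroots) :
    suppLt C.D k (reflW R.refl w s) = suppLt C.D k s := by
  induction w with
  | nil => rfl
  | cons i w ih =>
    have hw' : ∀ j ∈ w, j < k := fun j hj => hw j (List.mem_cons_of_mem _ hj)
    have hlt := R.reflW_lt w (fun j hj => lt_of_lt_of_le (hw' j hj) hk) s hs
    show suppLt C.D k (R.refl i (reflW R.refl w s)) = _
    rw [((suppCheck_spec k hsupp _ hlt).2 i (hw i List.mem_cons_self)).1, ih hw']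

omit hsign in
theorem MonoHyp.pos_reflW_of_not_supp (hk : k ≤ C.D.rank) (w : List ℕ) (hw : ∀ i ∈ w, i < k) (s : ℕ)
    (hs : C.D.IsPosRoot s) (hns : suppLt C.D k s = false) : C.D.IsPosRoot (reflW R.refl w s) := by
  induction w with
  | nil => exact hs
  | cons i w ih =>
    have hw' : ∀ j ∈ w, j < k := fun j hj => hw j (List.mem_cons_of_mem _ hj)
    have hlt := R.reflW_lt w (fun j hj => lt_of_lt_of_le (hw' j hj) hk) s hs.1
    have hi := hw i List.mem_cons_self
    have h1 := ih hw'
    have h2 : suppLt C.D k (reflW R.refl w s) = false := by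
      rw [M.suppLt_reflW k hsupp hk w hw' s hs.1]; exact hns
    have hne : reflW R.refl w s ≠ C.D.simple i := by
      intro e
      rw [e, ((suppCheck_spec k hsupp _ hlt).2 i hi).2] at h2
      exact Bool.noConfusion h2
    have hc := M.wp i (lt_of_lt_of_le hi hk) _ hlt
    simp only [wpCheck, Bool.or_eq_true, Bool.and_eq_true, Bool.not_eq_true', decide_eq_true_eq,
      Bool.and_eq_false_imp, decide_eq_false_iff_not] at hc
    rcases hc with hc | hc
    · exact absurd (hc h1) (by simpa using hne)
    · exact hc.1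

variable (DL : List (List ℕ)) (hrep : ∀ a < DL.length, repCheck C.D R.refl k DL a = true)
include hrep

omit hsign hsupp in
theorem rep_letters (hk : k + 1 ≤ C.D.rank) (a : ℕ) (ha : a < DL.length) : ∀ i ∈ DL.getD a [], i < C.D.rank := by
  have := hrep a ha
  simp only [repCheck, Bool.and_eq_true, List.all_eq_true, decide_eq_true_eq] at this
  intro i hi
  exact lt_of_lt_of_le (this.1 i hi) hk

omit hsign hsupp in
theorem rep_pos (a : ℕ) (ha : a < DL.length) (r : ℕ) (hr : C.D.IsPosRoot r) (hs : suppLt C.D k r = true) :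
    C.D.IsPosRoot (reflW R.refl (DL.getD a []) r) := by
  have := hrep a ha
  simp only [repCheck, Bool.and_eq_true, List.all_eq_true, decide_eq_true_eq, Bool.or_eq_true,
    Bool.not_eq_true'] at this
  rcases this.2 r ((mem_posRoots C.D r).mpr hr) with h | h
  · rw [hs] at h; exact Bool.noConfusion h
  · exact h

/-- Additivity of the number of positive roots made negative. -/
theorem MonoHyp.Nf_comp (hk : k + 1 ≤ C.D.rank) (a : ℕ) (ha : a < DL.length) (w : List ℕ) (hw : ∀ i ∈ w, i < k) :
    Nf C.D (fun s => wperm C.D R.refl (DL.getD a []) (wperm C.D R.refl w s)) =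
      Nf C.D (wperm C.D R.refl (DL.getD a [])) + Nf C.D (wperm C.D R.refl w) := by
  classical
  have hk' : k ≤ C.D.rank := by omega
  set d := DL.getD a [] with hd
  have hdl := rep_letters M k DL hrep hk a ha
  have hwl : ∀ i ∈ w, i < C.D.rank := fun i hi => lt_of_lt_of_le (hw i hi) hk'
  have hrl : ∀ i ∈ w.reverse, i < C.D.rank := fun i hi => hwl i (List.mem_reverse.mp hi)
  have hrk : ∀ i ∈ w.reverse, i < k := fun i hi => hw i (List.mem_reverse.mp hi)
  set πd := wperm C.D R.refl d with hπd
  set v := wperm C.D R.refl w with hv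
  have hvval : ∀ s, (v s).val = reflW R.refl w s.val := fun s => R.wperm_val w hwl s
  have hdval : ∀ s, (πd s).val = reflW R.refl d s.val := fun s => R.wperm_val d hdl s
  -- splitting
  have hsplit : ∀ f : Fin C.D.nroots → Fin C.D.nroots, Nf C.D f =
      (Finset.univ.filter fun s : Fin C.D.nroots =>
        (C.D.IsPosRoot s.val ∧ suppLt C.D k s.val = true) ∧ C.D.IsNegRoot (f s).val).card +
      (Finset.univ.filter fun s : Fin C.D.nroots =>
        (C.D.IsPosRoot s.val ∧ suppLt C.D k s.val = false) ∧ C.D.IsNegRoot (f s).val).card := by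
    intro f
    unfold Nf
    rw [← Finset.card_union_of_disjoint]
    · congr 1
      ext s
      simp only [Finset.mem_filter, Finset.mem_univ, true_and, Finset.mem_union]
      constructor
      · rintro ⟨h1, h2⟩
        by_cases h3 : suppLt C.D k s.val = true
        · exact Or.inl ⟨⟨h1, h3⟩, h2⟩
        · exact Or.inr ⟨⟨h1, by simpa using h3⟩, h2⟩
      · rintro (⟨⟨h1, -⟩, h2⟩ | ⟨⟨h1, -⟩, h2⟩) <;> exact ⟨h1, h2⟩
    · rw [Finset.disjoint_filter]
      rintro s - ⟨⟨-, h1⟩, -⟩ ⟨⟨-, h2⟩, -⟩
      rw [h1] at h2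
      exact Bool.noConfusion h2
  rw [hsplit, hsplit πd, hsplit v]
  -- the four pieces
  have e1 : (Finset.univ.filter fun s : Fin C.D.nroots =>
        (C.D.IsPosRoot s.val ∧ suppLt C.D k s.val = true) ∧ C.D.IsNegRoot (πd (v s)).val) =
      (Finset.univ.filter fun s : Fin C.D.nroots =>
        (C.D.IsPosRoot s.val ∧ suppLt C.D k s.val = true) ∧ C.D.IsNegRoot (v s).val) := by
    apply Finset.filter_congr
    intro s _
    apply and_congr_right
    rintro ⟨hp, hs⟩
    have hvs : suppLt C.D k (v s).val = true := by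
      rw [hvval, M.suppLt_reflW k hsupp hk' w hw s.val s.isLt, hs]
    rw [neg_iff_not_pos hsign _ (πd (v s)).isLt, neg_iff_not_pos hsign _ (v s).isLt]
    constructor
    · intro h1 h2
      apply h1
      rw [hdval]
      exact rep_pos M k DL hrep a ha _ h2 hvs
    · intro h1 h2
      -- `v s` is negative, so `-(v s)` is positive in the subsystem and stays positive
      obtain ⟨s1, s2, s3⟩ := signCheck_spec (hsign _ (v s).isLt)
      have hnegpos : C.D.IsPosRoot (C.D.neg (v s).val) := by
        by_contra h3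
        exact h1 (s1.mpr h3)
      have hsn : suppLt C.D k (C.D.neg (v s).val) = true := by
        rw [(suppCheck_spec k hsupp _ (v s).isLt).1, hvs]
      have h4 := rep_pos M k DL hrep a ha _ hnegpos hsn
      rw [← hd, M.reflW_neg d hdl _ (v s).isLt, ← hdval] at h4
      obtain ⟨t1, -, -⟩ := signCheck_spec (hsign _ (πd (v s)).isLt)
      exact (t1.mp h2) h4
  have e2 : (Finset.univ.filter fun s : Fin C.D.nroots =>
        (C.D.IsPosRoot s.val ∧ suppLt C.D k s.val = false) ∧ C.D.IsNegRoot (v s).val) = ∅ := by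
    rw [Finset.filter_eq_empty_iff]
    rintro s - ⟨⟨hp, hs⟩, hn⟩
    rw [neg_iff_not_pos hsign _ (v s).isLt, hvval] at hn
    exact hn (M.pos_reflW_of_not_supp k hsupp hk' w hw s.val hp hs)
  have e3 : (Finset.univ.filter fun s : Fin C.D.nroots =>
        (C.D.IsPosRoot s.val ∧ suppLt C.D k s.val = true) ∧ C.D.IsNegRoot (πd s).val) = ∅ := by
    rw [Finset.filter_eq_empty_iff]
    rintro s - ⟨⟨hp, hs⟩, hn⟩
    rw [neg_iff_not_pos hsign _ (πd s).isLt, hdval] at hn
    exact hn (rep_pos M k DL hrep a ha _ hp hs)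
  have e4 : (Finset.univ.filter fun s : Fin C.D.nroots =>
        (C.D.IsPosRoot s.val ∧ suppLt C.D k s.val = false) ∧ C.D.IsNegRoot (πd (v s)).val).card =
      (Finset.univ.filter fun s : Fin C.D.nroots =>
        (C.D.IsPosRoot s.val ∧ suppLt C.D k s.val = false) ∧ C.D.IsNegRoot (πd s).val).card := by
    apply Finset.card_bij (fun s _ => v s)
    · intro s hs
      simp only [Finset.mem_filter, Finset.mem_univ, true_and] at hs ⊢
      obtain ⟨⟨hp, hs'⟩, hn⟩ := hs
      refine ⟨⟨?_, ?_⟩, hn⟩
      · rw [hvval]; exact M.pos_reflW_of_not_supp k hsupp hk' w hw s.val hp hs'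
      · rw [hvval, M.suppLt_reflW k hsupp hk' w hw s.val s.isLt, hs']
    · intro s _ s' _ h
      exact M.wperm_injective w hwl h
    · intro s' hs'
      simp only [Finset.mem_filter, Finset.mem_univ, true_and] at hs'
      obtain ⟨⟨hp, hs''⟩, hn⟩ := hs'
      refine ⟨wperm C.D R.refl w.reverse s', ?_, M.wperm_reverse' w hwl s'⟩
      simp only [Finset.mem_filter, Finset.mem_univ, true_and]
      have hback : v (wperm C.D R.refl w.reverse s') = s' := M.wperm_reverse' w hwl s'
      refine ⟨⟨?_, ?_⟩, by rw [hback]; exact hn⟩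
      · rw [R.wperm_val _ hrl]
        exact M.pos_reflW_of_not_supp k hsupp hk' w.reverse hrk s'.val hp hs''
      · rw [R.wperm_val _ hrl, M.suppLt_reflW k hsupp hk' w.reverse hrk s'.val s'.isLt, hs'']
  rw [e1, e2, e3, e4]
  simp only [Finset.card_empty, add_zero, zero_add]
  exact Nat.add_comm _ _

end

section
variable {C : CDatum} {R : RelData C} (M : MonoHyp C R)
  (hdec : ∀ r < C.D.nroots, ∀ s < C.D.nroots, hdecCheck C.D R.pair r s = true)
  (hsign : ∀ r < C.D.nroots, signCheck C.D r = true) (k : ℕ)
  (hsupp : ∀ r < C.D.nroots, suppCheck C.D R.refl k r = true)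
  (DL : List (List ℕ)) (hrep : ∀ a < DL.length, repCheck C.D R.refl k DL a = true)
  (nxt : ℕ → ℕ → ℕ) (hhead : DL.head? = some [])
  (hstep : ∀ a < DL.length, ∀ i < k + 1, stepCheck C.D R.refl k DL nxt a i = true)
  (hdist : distinctCheck C.D R.refl DL = true)
include M hdec hsign hsupp hrep hhead hstep hdist

omit hdec hsign hsupp hdist in
/-- Every word in the first `k + 1` reflections is a representative followed by a word in the first `k`. -/
theorem MonoHyp.exists_rep (hk : k + 1 ≤ C.D.rank) (w : List ℕ) (hw : ∀ i ∈ w, i < k + 1) :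
    ∃ a < DL.length, ∃ w' : List ℕ, (∀ i ∈ w', i < k) ∧
      ∀ s < C.D.nroots, reflW R.refl w s = reflW R.refl (DL.getD a []) (reflW R.refl w' s) := by
  have hk' : k ≤ C.D.rank := by omega
  induction w with
  | nil =>
    have hpos : 0 < DL.length := by
      rcases DL with _ | ⟨d, DL⟩
      · simp at hhead
      · simp
    refine ⟨0, hpos, [], fun i hi => absurd hi List.not_mem_nil, fun s _ => ?_⟩
    have : DL.getD 0 [] = [] := by
      rcases DL with _ | ⟨d, DL⟩
      · rfl
      · simp only [List.head?_cons, Option.some.injEq] at hhead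
        simp [hhead]
    rw [this]
    rfl
  | cons i w ih =>
    have hw' : ∀ j ∈ w, j < k + 1 := fun j hj => hw j (List.mem_cons_of_mem _ hj)
    obtain ⟨a, ha, w', hw'k, e⟩ := ih hw'
    have hi := hw i List.mem_cons_self
    have hwl : ∀ j ∈ w', j < C.D.rank := fun j hj => lt_of_lt_of_le (hw'k j hj) hk'
    have hc := hstep a ha i hi
    unfold stepCheck at hc
    split_ifs at hc with hlt
    · simp only [List.all_eq_true, List.mem_range, beq_iff_eq] at hc
      refine ⟨nxt a i, hlt, w', hw'k, fun s hs => ?_⟩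
      show R.refl i (reflW R.refl w s) = _
      rw [e s hs, hc _ (R.reflW_lt w' hwl s hs)]
    · simp only [Bool.and_eq_true, decide_eq_true_eq, List.all_eq_true, List.mem_range, beq_iff_eq] at hc
      obtain ⟨hj, hc⟩ := hc
      refine ⟨a, ha, (nxt a i - DL.length) :: w', ?_, fun s hs => ?_⟩
      · intro j hj'
        rcases List.mem_cons.mp hj' with rfl | h
        · exact hj
        · exact hw'k j h
      · show R.refl i (reflW R.refl w s) = reflW R.refl (DL.getD a []) (R.refl _ (reflW R.refl w' s))
        rw [e s hs, hc _ (R.reflW_lt w' hwl s hs)]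

omit hhead hstep in
/-- Uniqueness of the decomposition into a representative and an element of the parabolic subgroup. -/
theorem MonoHyp.rep_unique (hk : k + 1 ≤ C.D.rank) (a a' : ℕ) (ha : a < DL.length) (ha' : a' < DL.length)
    (w w' : List ℕ) (hw : ∀ i ∈ w, i < k) (hw' : ∀ i ∈ w', i < k)
    (h : ∀ s : Fin C.D.nroots, wperm C.D R.refl (DL.getD a []) (wperm C.D R.refl w s) =
      wperm C.D R.refl (DL.getD a' []) (wperm C.D R.refl w' s)) :
    a = a' ∧ wperm C.D R.refl w = wperm C.D R.refl w' := by
  classical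
  have hk' : k ≤ C.D.rank := by omega
  have hwl : ∀ i ∈ w, i < C.D.rank := fun i hi => lt_of_lt_of_le (hw i hi) hk'
  have hwl' : ∀ i ∈ w', i < C.D.rank := fun i hi => lt_of_lt_of_le (hw' i hi) hk'
  have hdl := rep_letters M k DL hrep hk a ha
  have hdl' := rep_letters M k DL hrep hk a' ha'
  -- `u = w' w⁻¹`
  set u := w' ++ w.reverse with hu
  set u' := w ++ w'.reverse with hu'
  have huk : ∀ i ∈ u, i < k := by
    intro i hi
    rcases List.mem_append.mp hi with h1 | h1
    · exact hw' i h1
    · exact hw i (List.mem_reverse.mp h1)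
  have huk' : ∀ i ∈ u', i < k := by
    intro i hi
    rcases List.mem_append.mp hi with h1 | h1
    · exact hw i h1
    · exact hw' i (List.mem_reverse.mp h1)
  have hul : ∀ i ∈ u, i < C.D.rank := fun i hi => lt_of_lt_of_le (huk i hi) hk'
  have hul' : ∀ i ∈ u', i < C.D.rank := fun i hi => lt_of_lt_of_le (huk' i hi) hk'
  have hrl : ∀ i ∈ w.reverse, i < C.D.rank := fun i hi => hwl i (List.mem_reverse.mp hi)
  have hrl' : ∀ i ∈ w'.reverse, i < C.D.rank := fun i hi => hwl' i (List.mem_reverse.mp hi)
  have e1 : wperm C.D R.refl (DL.getD a []) =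
      fun s => wperm C.D R.refl (DL.getD a' []) (wperm C.D R.refl u s) := by
    funext s
    rw [hu, M.wperm_append _ _ hwl' hrl, ← h, M.wperm_reverse' w hwl]
  have e2 : wperm C.D R.refl (DL.getD a' []) =
      fun s => wperm C.D R.refl (DL.getD a []) (wperm C.D R.refl u' s) := by
    funext s
    rw [hu', M.wperm_append _ _ hwl hrl', h, M.wperm_reverse' w' hwl']
  have n1 := M.Nf_comp hsign k hsupp DL hrep hk a' ha' u huk
  have n2 := M.Nf_comp hsign k hsupp DL hrep hk a ha u' huk'
  rw [← e1] at n1
  rw [← e2] at n2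
  have hzero : Nf C.D (wperm C.D R.refl u) = 0 := by omega
  -- `u` preserves the positive roots, hence is trivial
  have hpos : ∀ s, C.D.IsPosRoot s → C.D.IsPosRoot (reflW R.refl u s) := by
    intro s hs
    unfold Nf at hzero
    rw [Finset.card_eq_zero, Finset.filter_eq_empty_iff] at hzero
    have := hzero (Finset.mem_univ ⟨s, hs.1⟩)
    rw [not_and, R.wperm_val u hul, neg_iff_not_pos hsign _ (R.reflW_lt u hul s hs.1), not_not] at this
    exact this hs
  have hfix := M.reflW_eq_self_of_pos hdec hsign _ u rfl hul hpos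
  have hid : ∀ s, wperm C.D R.refl u s = s := by
    intro s
    apply Fin.ext
    rw [R.wperm_val u hul]
    exact hfix s.val s.isLt
  have hperm : wperm C.D R.refl (DL.getD a []) = wperm C.D R.refl (DL.getD a' []) := by
    rw [e1]
    funext s
    rw [hid]
  constructor
  · -- distinctness of the representatives
    simp only [distinctCheck, decide_eq_true_eq] at hdist
    have h3 : (List.range C.D.nroots).map (reflW R.refl (DL.getD a [])) =
        (List.range C.D.nroots).map (reflW R.refl (DL.getD a' [])) := by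
      apply List.map_congr_left
      intro s hs
      rw [List.mem_range] at hs
      exact (R.wperm_eq_iff _ _ hdl hdl').mp hperm s hs
    have hlen : (DL.map fun d => (List.range C.D.nroots).map (reflW R.refl d)).length = DL.length :=
      List.length_map _
    have := (List.Nodup.getElem_inj_iff hdist (i := a) (hi := by rw [hlen]; exact ha) (j := a')
      (hj := by rw [hlen]; exact ha')).mp (by
        rw [List.getElem_map, List.getElem_map]
        rw [List.getD_eq_getElem _ _ ha, List.getD_eq_getElem _ _ ha'] at h3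
        exact h3)
    exact this
  · funext s
    have := hid (wperm C.D R.refl w s)
    rw [hu, M.wperm_append _ _ hwl' hrl, M.wperm_reverse w hwl] at this
    exact this.symm

omit M hdec hsign hsupp hrep hhead hstep hdist in
theorem list_map_sum_eq_fin {A : Type*} [AddCommMonoid A] {β : Type*} (l : List β) (g : β → A) (b : β) :
    (l.map g).sum = ∑ i : Fin l.length, g (l.getD i.val b) := by
  rw [← List.sum_ofFn]
  congr 1
  apply List.ext_getElem
  · simp
  · intro i h1 h2
    simp only [List.getElem_map, List.getElem_ofFn]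
    rw [List.getD_eq_getElem]

/-- The Poincaré sum of the first `k + 1` reflections in terms of that of the first `k`. -/
theorem MonoHyp.poin_step (hk : k + 1 ≤ C.D.rank) (q : ℕ) :
    poin C.D R.refl (Set.Iio (k + 1)) q =
      (DL.map fun d => q ^ Nw C.D R.refl d).sum * poin C.D R.refl (Set.Iio k) q := by
  classical
  have hk' : k ≤ C.D.rank := by omega
  unfold poin
  set WJ' := Finset.univ.filter (fun f => f ∈ Wset C.D R.refl (Set.Iio k)) with hWJ'
  let e' : Fin DL.length × (Fin C.D.nroots → Fin C.D.nroots) → (Fin C.D.nroots → Fin C.D.nroots) :=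
    fun x => fun s => wperm C.D R.refl (DL.getD x.1.val []) (x.2 s)
  have hA : Finset.univ.filter (fun f => f ∈ Wset C.D R.refl (Set.Iio (k + 1))) =
      (Finset.univ ×ˢ WJ').image e' := by
    ext f
    simp only [Finset.mem_filter, Finset.mem_univ, true_and, Finset.mem_image, Finset.mem_product, hWJ']
    constructor
    · rintro ⟨w, hw, rfl⟩
      have hwl : ∀ i ∈ w, i < C.D.rank := fun i hi => (hw i hi).1
      obtain ⟨a, ha, w', hw', e⟩ := M.exists_rep k DL hrep nxt hhead hstep hk w (fun i hi => (hw i hi).2)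
      have hwl' : ∀ i ∈ w', i < C.D.rank := fun i hi => lt_of_lt_of_le (hw' i hi) hk'
      refine ⟨(⟨a, ha⟩, wperm C.D R.refl w'), ⟨w', fun i hi => ⟨hwl' i hi, hw' i hi⟩, rfl⟩, ?_⟩
      funext s
      apply Fin.ext
      show (wperm C.D R.refl (DL.getD a []) (wperm C.D R.refl w' s)).val = _
      rw [R.wperm_val _ (rep_letters M k DL hrep hk a ha), R.wperm_val _ hwl', R.wperm_val _ hwl, e s.val s.isLt]
    · rintro ⟨⟨a, v⟩, ⟨w', hw', rfl⟩, rfl⟩
      have hwl' : ∀ i ∈ w', i < C.D.rank := fun i hi => (hw' i hi).1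
      have hdl := rep_letters M k DL hrep hk a.val a.isLt
      refine ⟨DL.getD a.val [] ++ w', ?_, ?_⟩
      · intro i hi
        rcases List.mem_append.mp hi with h | h
        · refine ⟨hdl i h, ?_⟩
          have := hrep a.val a.isLt
          simp only [repCheck, Bool.and_eq_true, List.all_eq_true, decide_eq_true_eq] at this
          exact this.1 i h
        · exact ⟨hwl' i h, Nat.lt_succ_of_lt (hw' i h).2⟩
      · funext s
        show wperm C.D R.refl (DL.getD a.val []) (wperm C.D R.refl w' s) = _
        rw [M.wperm_append _ _ hdl hwl']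
  have hB : Set.InjOn e' (((Finset.univ : Finset (Fin DL.length)) ×ˢ WJ' :
      Finset (Fin DL.length × (Fin C.D.nroots → Fin C.D.nroots))) :
      Set (Fin DL.length × (Fin C.D.nroots → Fin C.D.nroots))) := by
    rintro ⟨a, v⟩ hx ⟨a', v'⟩ hx' h
    simp only [Finset.coe_product, Set.mem_prod, Finset.mem_coe, hWJ', Finset.mem_filter, Finset.mem_univ,
      true_and] at hx hx'
    obtain ⟨w, hw, rfl⟩ := hx
    obtain ⟨w', hw', rfl⟩ := hx'
    obtain ⟨h1, h2⟩ := M.rep_unique hdec hsign k hsupp DL hrep hdist hk a.val a'.val a.isLt a'.isLt w w'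
      (fun i hi => (hw i hi).2) (fun i hi => (hw' i hi).2) (fun s => congrFun h s)
    have : a = a' := Fin.ext h1
    rw [this, h2]
  rw [hA, Finset.sum_image hB, Finset.sum_product]
  have hterm : ∀ a : Fin DL.length, ∀ v ∈ WJ', q ^ Nf C.D (e' (a, v)) =
      q ^ Nw C.D R.refl (DL.getD a.val []) * q ^ Nf C.D v := by
    intro a v hv
    simp only [hWJ', Finset.mem_filter, Finset.mem_univ, true_and] at hv
    obtain ⟨w, hw, rfl⟩ := hv
    show q ^ Nf C.D (fun s => wperm C.D R.refl (DL.getD a.val []) (wperm C.D R.refl w s)) = _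
    rw [M.Nf_comp hsign k hsupp DL hrep hk a.val a.isLt w (fun i hi => (hw i hi).2), pow_add,
      R.Nf_wperm _ (rep_letters M k DL hrep hk a.val a.isLt)]
    rfl
  rw [Finset.sum_congr rfl (fun a _ => Finset.sum_congr rfl (hterm a))]
  simp only [← Finset.mul_sum]
  rw [← Finset.sum_mul, list_map_sum_eq_fin DL _ []]

end

end Cfsg.Agent.Lib.Helper3.ChevM
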