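import Mathlib
import Cfsg.Prelude.Def_ChevStructure
import Cfsg.Agent.Lib.Helper3.ChevO1
import Cfsg.Agent.Lib.Helper3.ChevO2
import Cfsg.Agent.Lib.Helper3.ChevH2
set_option autoImplicit false
open Cfsg Cfsg.Lie

/-! The order formula of a Chevalley group over a finite field, up to the evaluation of the Poincaré sum. -/

namespace Cfsg.Agent.Lib.Helper3.ChevM

open ChevT ChevU

theorem card_sup_of_le_normalizer {G : Type*} [Group G] (U H : Subgroup G)
    (hN : H ≤ Subgroup.normalizer (U : Set G)) (hd : U ⊓ H = ⊥) :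
    Nat.card ↥(U ⊔ H) = Nat.card U * Nat.card H := by
  have hset := Subgroup.coe_mul_of_right_le_normalizer_left U H hN
  let f : U × H → ↥(U ⊔ H) := fun x => ⟨x.1.1 * x.2.1, Subgroup.mul_mem _ (Subgroup.mem_sup_left x.1.2)
    (Subgroup.mem_sup_right x.2.2)⟩
  have hinj : Function.Injective f := by
    rintro ⟨u, h⟩ ⟨u', h'⟩ e
    have e' : u.1 * h.1 = u'.1 * h'.1 := congrArg Subtype.val e
    have h1 : u'.1⁻¹ * u.1 = h'.1 * h.1⁻¹ := by
      have : u'.1⁻¹ * u.1 = u'.1⁻¹ * (u.1 * h.1) * h.1⁻¹ := by group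
      rw [this, e']; group
    have h2 : u'.1⁻¹ * u.1 ∈ U ⊓ H :=
      ⟨Subgroup.mul_mem _ (Subgroup.inv_mem _ u'.2) u.2, h1 ▸ Subgroup.mul_mem _ h'.2 (Subgroup.inv_mem _ h.2)⟩
    rw [hd, Subgroup.mem_bot] at h2
    have hu : u = u' := Subtype.ext (inv_mul_eq_one.mp h2).symm
    subst hu
    have hh : h = h' := Subtype.ext (mul_left_cancel e')
    rw [hh]
  have hsurj : Function.Surjective f := by
    rintro ⟨g, hg⟩
    have : g ∈ ((U ⊔ H : Subgroup G) : Set G) := hg
    rw [hset] at this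
    obtain ⟨u, hu, h, hh, rfl⟩ := Set.mem_mul.mp this
    exact ⟨(⟨u, hu⟩, ⟨h, hh⟩), rfl⟩
  rw [← Nat.card_congr (Equiv.ofBijective f ⟨hinj, hsurj⟩), Nat.card_prod]

section
variable {C : CDatum} {R : RelData C}

theorem poin_univ (q : ℕ) : poin C.D R.refl Set.univ q = poin C.D R.refl (Set.Iio C.D.rank) q := by
  have e : Wset C.D R.refl Set.univ = Wset C.D R.refl (Set.Iio C.D.rank) := by
    ext f
    constructor
    · rintro ⟨w, hw, rfl⟩
      exact ⟨w, fun i hi => ⟨(hw i hi).1, (hw i hi).1⟩, rfl⟩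
    · rintro ⟨w, hw, rfl⟩
      exact ⟨w, fun i hi => ⟨(hw i hi).1, Set.mem_univ _⟩, rfl⟩
  unfold poin
  rw [e]

theorem poin_zero (hsign : ∀ r < C.D.nroots, signCheck C.D r = true) (q : ℕ) :
    poin C.D R.refl (Set.Iio 0) q = 1 := by
  classical
  unfold poin
  have h1 : Finset.univ.filter (fun f => f ∈ Wset C.D R.refl (Set.Iio 0)) = {wperm C.D R.refl []} := by
    ext f
    simp only [Finset.mem_filter, Finset.mem_univ, true_and, Finset.mem_singleton, Wset, Set.mem_ofPred_eq,
      Set.mem_Iio, Nat.not_lt_zero, and_false]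
    constructor
    · rintro ⟨w, hw, rfl⟩
      rcases w with _ | ⟨i, w⟩
      · rfl
      · exact absurd (hw i List.mem_cons_self) id
    · rintro rfl
      exact ⟨[], fun i hi => absurd hi List.not_mem_nil, rfl⟩
  rw [h1, Finset.sum_singleton]
  have h2 : Nf C.D (wperm C.D R.refl []) = 0 := by
    unfold Nf
    rw [Finset.card_eq_zero, Finset.filter_eq_empty_iff]
    rintro s - ⟨hp, hn⟩
    have e : (wperm C.D R.refl [] s) = s := by
      apply Fin.ext
      unfold wperm
      have : reflW R.refl [] s.val = s.val := rfl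
      simp only [this, s.isLt, dif_pos]
    rw [e, neg_iff_not_pos hsign _ s.isLt] at hn
    exact hn hp
  rw [h2, pow_zero]

end

section
variable {F : Type*} [Field F] [Fintype F] {C : CDatum} {R : RelData C} (Uh : UHyp C R) (Hy : BNHyp C R)
include Uh Hy

/-- The order of the group in terms of the Poincaré sum of its Weyl group. -/
theorem UHyp.card_group_formula
    (hntri : ∀ r < C.D.nroots, negTri C r = true)
    (hsign : ∀ r < C.D.nroots, signCheck C.D r = true)
    (hlen : C.D.posRoots.length = C.D.nroots / 2)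
    (vec : ℕ → ℕ → ℤ) (hvec : ∀ i < C.D.rank, ∀ s < C.D.nroots, vecCheck C.D vec i s = true)
    (P Q P' Q' : Matrix (Fin C.D.rank) (Fin C.D.rank) ℤ) (d : Fin C.D.rank → ℕ)
    (h : P * cartanMat C.D * Q = Matrix.diagonal fun k => (d k : ℤ)) (hP : P * P' = 1) (hP' : P' * P = 1)
    (hQ : Q * Q' = 1) :
    (∏ k, Nat.gcd (Fintype.card F - 1) (d k)) * Nat.card (C.D.group F) =
      Fintype.card F ^ (C.D.nroots / 2) * (Fintype.card F - 1) ^ C.D.rank *
        poin C.D R.refl Set.univ (Fintype.card F) := by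
  have h1 := Uh.card_group (F := F) Hy hntri hsign
  have h2 := Uh.card_posUnipotent (F := F) hlen
  have h3 := R.card_diagonal (F := F) Hy.dec vec hvec P Q P' Q' d h hP hP' hQ
  obtain ⟨hN, hd⟩ := R.diagonal_normalizes (F := F) Hy.dec Hy.mono.tri
  have h4 : Nat.card (C.D.borelSubgroup F) = Nat.card (C.D.posUnipotent F) * Nat.card (C.D.diagonalSubgroup F) :=
    card_sup_of_le_normalizer _ _ hN hd
  rw [h1, h4, h2, ← h3]
  ring

end

end Cfsg.Agent.Lib.Helper3.ChevM
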