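import Mathlib
import Cfsg.Prelude.Def_ChevStructure

set_option autoImplicit false

namespace Cfsg.Agent.Lib.Helper3.ChevRE
open Cfsg.Lie

/-- Entrywise application of a field isomorphism on `GL`. -/
noncomputable def glRingEquiv {n : Type*} [Fintype n] [DecidableEq n] {F K : Type*} [Field F] [Field K]
    (f : F ≃+* K) : GL n F ≃* GL n K :=
  Units.mapEquiv (f.mapMatrix (m := n)).toMulEquiv

theorem glRingEquiv_coe {n : Type*} [Fintype n] [DecidableEq n] {F K : Type*} [Field F] [Field K]
    (f : F ≃+* K) (g : GL n F) :
    ((glRingEquiv f g : GL n K) : Matrix n n K) = (g : Matrix n n F).map f := rfl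

theorem xMat_ringEquiv {F K : Type*} [Field F] [Field K] (D : ChevalleyDatum) (f : F ≃+* K)
    (r : Fin D.nroots) (t : F) :
    (D.xMat F r t).map f = D.xMat K r (f t) := by
  ext row col
  rw [Matrix.map_apply]
  unfold ChevalleyDatum.xMat
  rw [Matrix.of_apply, Matrix.of_apply]
  rcases col with i | s
  · rcases row with i' | u
    · simp only
      split_ifs <;> simp
    · simp only
      split_ifs <;> simp
  · by_cases hsr : s = r
    · rcases row with i' | u
      · simp [hsr]
      · simp only [hsr, if_true]
        split_ifs <;> simp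
    · by_cases hsn : s.val = D.negIdx.getD r.val 0
      · rcases row with i' | u
        · simp [hsr, hsn]
        · simp only [hsr, if_false, hsn, if_true]
          split_ifs <;> simp
      · rcases row with i' | u
        · simp only [hsr, if_false, hsn]
          simp
        · simp only [hsr, if_false, hsn]
          rw [map_add, map_list_sum, List.map_map]
          congr 1
          · split_ifs <;> simp
          · congr 1
            apply List.map_congr_left
            intro km _
            simp

theorem group_ringEquiv_le {F K : Type*} [Field F] [Field K] (D : ChevalleyDatum) (f : F ≃+* K) :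
    (D.group F).map (glRingEquiv (n := D.Idx) f).toMonoidHom ≤ D.group K := by
  rw [Subgroup.map_le_iff_le_comap]
  unfold ChevalleyDatum.group
  rw [Subgroup.closure_le]
  rintro g ⟨r, t, hg⟩
  rw [SetLike.mem_coe, Subgroup.mem_comap]
  apply Subgroup.subset_closure
  refine ⟨r, f t, ?_⟩
  show ((glRingEquiv f g : GL D.Idx K) : Matrix D.Idx D.Idx K) = _
  rw [glRingEquiv_coe, hg, xMat_ringEquiv]

theorem glRingEquiv_symm_apply {n : Type*} [Fintype n] [DecidableEq n] {F K : Type*} [Field F] [Field K]
    (f : F ≃+* K) (g : GL n K) : glRingEquiv f (glRingEquiv f.symm g) = g := by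
  apply Units.ext
  rw [glRingEquiv_coe, glRingEquiv_coe]
  ext i j
  simp

theorem group_ringEquiv_eq {F K : Type*} [Field F] [Field K] (D : ChevalleyDatum) (f : F ≃+* K) :
    (D.group F).map (glRingEquiv (n := D.Idx) f).toMonoidHom = D.group K := by
  apply le_antisymm (group_ringEquiv_le D f)
  intro g hg
  refine ⟨glRingEquiv f.symm g, ?_, ?_⟩
  · apply group_ringEquiv_le D f.symm
    exact ⟨g, hg, rfl⟩
  · exact glRingEquiv_symm_apply f g

/-- The Chevalley groups over isomorphic fields are isomorphic. -/
noncomputable def groupRingEquiv {F K : Type*} [Field F] [Field K] (D : ChevalleyDatum) (f : F ≃+* K) :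
    ↥(D.group F) ≃* ↥(D.group K) :=
  ((glRingEquiv (n := D.Idx) f).subgroupMap (D.group F)).trans
    (MulEquiv.subgroupCongr (group_ringEquiv_eq D f))

theorem groupRingEquiv_coe {F K : Type*} [Field F] [Field K] (D : ChevalleyDatum) (f : F ≃+* K)
    (g : ↥(D.group F)) :
    ((groupRingEquiv D f g : ↥(D.group K)) : GL D.Idx K) = glRingEquiv f (g : GL D.Idx F) := rfl

end Cfsg.Agent.Lib.Helper3.ChevRE
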