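import Mathlib

set_option autoImplicit false

/-!
Automizers of abelian `2`-groups with three involutions (homocyclic of rank two).
-/

namespace Cfsg.Agent.Lib.Helper3

section
variable {G : Type*} [Group G]

theorem conj_pow_eq_of_conj_eq {n x c : G} (hx : n * x * n⁻¹ = x * c) (hc : n * c * n⁻¹ = c) (j : ℕ) :
    n ^ j * x * (n ^ j)⁻¹ = x * c ^ j := by
  induction j with
  | zero => simp
  | succ j ih =>
    have hcj : n * c ^ j * n⁻¹ = c ^ j := by
      rw [← conj_pow, hc]
    calc n ^ (j + 1) * x * (n ^ (j + 1))⁻¹ = n * (n ^ j * x * (n ^ j)⁻¹) * n⁻¹ := by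
          rw [pow_succ']; group
      _ = n * (x * c ^ j) * n⁻¹ := by rw [ih]
      _ = (n * x * n⁻¹) * (n * c ^ j * n⁻¹) := by group
      _ = x * c * c ^ j := by rw [hx, hcj]
      _ = x * c ^ (j + 1) := by rw [pow_succ', mul_assoc]

/-- an element normalizing an abelian `2`-group with exactly three involutions, of odd order modulo
the centralizer, which fixes one involution, centralizes the group -/
theorem centralizes_of_three_involutions [DecidableEq G] (P : Subgroup G)
    (hcomm : ∀ x ∈ P, ∀ y ∈ P, x * y = y * x)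
    (I : Finset G) (hI : ∀ x, x ∈ I ↔ x ∈ P ∧ x ≠ 1 ∧ x ^ 2 = 1) (hI3 : I.card = 3)
    (hP2 : ∀ x ∈ P, ∃ k : ℕ, x ^ (2 ^ k) = 1)
    (n : G) (hn : ∀ x ∈ P, n * x * n⁻¹ ∈ P) (r : ℕ) (hr : Odd r)
    (hnr : ∀ x ∈ P, n ^ r * x * (n ^ r)⁻¹ = x) (v : G) (hv : v ∈ I) (hnv : n * v * n⁻¹ = v) :
    ∀ x ∈ P, n * x * n⁻¹ = x := by
  -- conjugation by `n` preserves `I`
  have hnI : ∀ w ∈ I, n * w * n⁻¹ ∈ I := by
    intro w hw
    obtain ⟨h1, h2, h3⟩ := (hI w).mp hw
    refine (hI _).mpr ⟨hn w h1, ?_, ?_⟩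
    · intro h
      apply h2
      have : w = n⁻¹ * (n * w * n⁻¹) * n := by group
      rw [this, h]; group
    · rw [conj_pow, h3]; group
  have hinj : ∀ a b : G, n * a * n⁻¹ = n * b * n⁻¹ → a = b := by
    intro a b h
    have : a = n⁻¹ * (n * a * n⁻¹) * n := by group
    rw [this, h]; group
  -- Step 1: `n` fixes every involution
  have step1 : ∀ w ∈ I, n * w * n⁻¹ = w := by
    intro w hw
    by_contra hne
    set w' := n * w * n⁻¹ with hw'
    have hw'I : w' ∈ I := hnI w hw
    have hw'v : w' ≠ v := by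
      intro h
      have : w = v := hinj _ _ (by rw [← hw', h, hnv])
      apply hne
      rw [hw', this]; exact hnv
    have hwv : w ≠ v := by
      rintro rfl
      exact hne hnv
    have hIeq : ({v, w, w'} : Finset G) = I := by
      apply Finset.eq_of_subset_of_card_le
      · intro x hx
        simp only [Finset.mem_insert, Finset.mem_singleton] at hx
        rcases hx with rfl | rfl | rfl
        · exact hv
        · exact hw
        · exact hw'I
      · rw [hI3, Finset.card_insert_of_notMem, Finset.card_insert_of_notMem, Finset.card_singleton]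
        · simpa using fun h => hne h.symm
        · simp only [Finset.mem_insert, Finset.mem_singleton, not_or]
          exact ⟨fun h => hwv h.symm, fun h => hw'v h.symm⟩
    have hw'' : n * w' * n⁻¹ = w := by
      have hmem := hnI w' hw'I
      rw [← hIeq] at hmem
      simp only [Finset.mem_insert, Finset.mem_singleton] at hmem
      rcases hmem with h | h | h
      · exfalso
        apply hw'v
        exact hinj _ _ (by rw [h, hnv])
      · exact h
      · exfalso
        apply hne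
        exact (hinj _ _ h).symm ▸ rfl
    -- `n ^ 2` fixes `w` and `w'`
    have h2w : ∀ k : ℕ, n ^ (2 * k) * w' * (n ^ (2 * k))⁻¹ = w' := by
      intro k
      induction k with
      | zero => simp
      | succ k ih =>
        have : n ^ (2 * (k + 1)) = n ^ (2 * k) * (n * n) := by
          rw [mul_add, pow_add, mul_one, pow_two]
        rw [this]
        calc n ^ (2 * k) * (n * n) * w' * (n ^ (2 * k) * (n * n))⁻¹
            = n ^ (2 * k) * (n * (n * w' * n⁻¹) * n⁻¹) * (n ^ (2 * k))⁻¹ := by group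
          _ = n ^ (2 * k) * w' * (n ^ (2 * k))⁻¹ := by rw [hw'', ← hw']
          _ = w' := ih
    obtain ⟨k, rfl⟩ := hr
    have h3 := hnr w ((hI w).mp hw).1
    have : n ^ (2 * k + 1) * w * (n ^ (2 * k + 1))⁻¹ = w' := by
      calc n ^ (2 * k + 1) * w * (n ^ (2 * k + 1))⁻¹
          = n ^ (2 * k) * (n * w * n⁻¹) * (n ^ (2 * k))⁻¹ := by rw [pow_succ]; group
        _ = w' := by rw [← hw']; exact h2w k
    rw [h3] at this
    exact hne this.symm
  have step1' : ∀ c ∈ P, c ^ 2 = 1 → n * c * n⁻¹ = c := by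
    intro c hc hc2
    by_cases h1 : c = 1
    · rw [h1]; group
    · exact step1 c ((hI c).mpr ⟨hc, h1, hc2⟩)
  -- Step 2: induction on the exponent
  have step2 : ∀ k : ℕ, ∀ x ∈ P, x ^ (2 ^ k) = 1 → n * x * n⁻¹ = x := by
    intro k
    induction k with
    | zero =>
      intro x hx h
      rw [pow_zero, pow_one] at h
      rw [h]; group
    | succ k ih =>
      intro x hx h
      have hx2 : n * x ^ 2 * n⁻¹ = x ^ 2 := by
        apply ih _ (P.pow_mem hx 2)
        rw [← pow_mul, ← pow_succ']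
        exact h
      set c := x⁻¹ * (n * x * n⁻¹) with hc
      have hcP : c ∈ P := P.mul_mem (P.inv_mem hx) (hn x hx)
      have hc2 : c ^ 2 = 1 := by
        have hcm := hcomm x⁻¹ (P.inv_mem hx) (n * x * n⁻¹) (hn x hx)
        rw [hc, pow_two]
        calc x⁻¹ * (n * x * n⁻¹) * (x⁻¹ * (n * x * n⁻¹))
            = x⁻¹ * ((n * x * n⁻¹) * x⁻¹) * (n * x * n⁻¹) := by group
          _ = x⁻¹ * (x⁻¹ * (n * x * n⁻¹)) * (n * x * n⁻¹) := by rw [hcm]
          _ = (x * x)⁻¹ * (n * (x * x) * n⁻¹) := by group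
          _ = 1 := by rw [← pow_two, hx2]; group
      have hcn := step1' c hcP hc2
      have hxc : n * x * n⁻¹ = x * c := by rw [hc]; group
      have h4 := conj_pow_eq_of_conj_eq hxc hcn r
      rw [hnr x hx] at h4
      have hcr : c ^ r = 1 := by
        have : x * c ^ r = x * 1 := by rw [mul_one]; exact h4.symm
        exact mul_left_cancel this
      obtain ⟨j, rfl⟩ := hr
      have hc1 : c = 1 := by
        rw [pow_succ, pow_mul, hc2, one_pow, one_mul] at hcr
        exact hcr
      rw [hxc, hc1, mul_one]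
  intro x hx
  obtain ⟨k, hk⟩ := hP2 x hx
  exact step2 k x hx hk

end

end Cfsg.Agent.Lib.Helper3

namespace Cfsg.Agent.Lib.Helper3

theorem zmod_two_mul_eq_zero (m : ℕ) (hm : 1 ≤ m) (a : ZMod (2 ^ m)) :
    2 * a = 0 ↔ a = 0 ∨ a = ((2 ^ (m - 1) : ℕ) : ZMod (2 ^ m)) := by
  have hNZ : NeZero (2 ^ m) := ⟨by positivity⟩
  have hpow : 2 ^ m = 2 * 2 ^ (m - 1) := by
    rw [← pow_succ']; congr 1; omega
  constructor
  · intro h
    have h1 : ((2 * a.val : ℕ) : ZMod (2 ^ m)) = 0 := by
      rw [Nat.cast_mul, ZMod.natCast_zmod_val]; exact_mod_cast h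
    rw [ZMod.natCast_eq_zero_iff] at h1
    have hlt : a.val < 2 ^ m := ZMod.val_lt a
    have h1' : 2 * 2 ^ (m - 1) ∣ 2 * a.val := hpow ▸ h1
    have hlt' : a.val < 2 * 2 ^ (m - 1) := hpow ▸ hlt
    have h2 : 2 ^ (m - 1) ∣ a.val := Nat.dvd_of_mul_dvd_mul_left (by norm_num) h1'
    obtain ⟨c, hc⟩ := h2
    have hc2 : c < 2 := by
      by_contra hge
      have : 2 ≤ c := by omega
      have : 2 ^ (m - 1) * 2 ≤ 2 ^ (m - 1) * c := Nat.mul_le_mul_left _ this
      omega
    interval_cases c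
    · left
      rw [mul_zero] at hc
      exact (ZMod.val_eq_zero a).mp hc
    · right
      rw [mul_one] at hc
      rw [← hc, ZMod.natCast_zmod_val]
  · rintro (rfl | rfl)
    · simp
    · have : (2 : ZMod (2 ^ m)) * ((2 ^ (m - 1) : ℕ) : ZMod (2 ^ m)) = ((2 ^ m : ℕ) : ZMod (2 ^ m)) := by
        rw [hpow]; push_cast; ring
      rw [this, ZMod.natCast_self]

theorem zmod_half_ne_zero (m : ℕ) (hm : 1 ≤ m) : ((2 ^ (m - 1) : ℕ) : ZMod (2 ^ m)) ≠ 0 := by
  rw [Ne, ZMod.natCast_eq_zero_iff]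
  intro h
  have := Nat.le_of_dvd (by positivity) h
  have h2 : 2 ^ (m - 1) < 2 ^ m := Nat.pow_lt_pow_right (by norm_num) (by omega)
  omega

end Cfsg.Agent.Lib.Helper3
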