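import Mathlib
import Cfsg.Agent.Lib.Helper3.Homocyclic

set_option autoImplicit false

/-!
Odd-order automorphisms of the quaternion group of order eight.
-/

namespace Cfsg.Agent.Lib.Helper3

local notation "Q8" => QuaternionGroup 2

theorem q8_sq_eq_one : ∀ x : Q8, x ^ 2 = 1 → x = 1 ∨ x = QuaternionGroup.a 2 := by decide +kernel
theorem q8_pow_four : ∀ x : Q8, x ^ 4 = 1 := by decide +kernel
theorem q8_centralizer : ∀ d w : Q8, d ^ 2 ≠ 1 → w * d = d * w →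
    w = 1 ∨ w = d ∨ w = d ^ 2 ∨ w = d ^ 3 := by decide +kernel
theorem q8_conj : ∀ d y : Q8, y * d * y⁻¹ = d ∨ y * d * y⁻¹ = d⁻¹ := by decide +kernel

set_option synthInstance.maxSize 4000 in
set_option synthInstance.maxHeartbeats 400000 in
theorem q8_three : ∀ x y w b : Q8, (x ^ 2 ≠ 1 ∧ y ^ 2 ≠ 1 ∧ w ^ 2 ≠ 1 ∧ b ^ 2 ≠ 1 ∧ y ≠ x ∧ y ≠ x⁻¹ ∧
    w ≠ x ∧ w ≠ x⁻¹ ∧ w ≠ y ∧ w ≠ y⁻¹) →
    (b = x ∨ b = x⁻¹ ∨ b = y ∨ b = y⁻¹ ∨ b = w ∨ b = w⁻¹) := by decide +kernel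

section
variable {G : Type*} [Group G]

/-- iterated conjugation -/
theorem conj_pow_succ (g d : G) (k : ℕ) :
    g ^ (k + 1) * d * (g ^ (k + 1))⁻¹ = g ^ k * (g * d * g⁻¹) * (g ^ k)⁻¹ := by
  rw [pow_succ]; group

/-- an element of odd order cannot invert an element that is not an involution -/
theorem not_conj_eq_inv_of_odd {g d : G} {r : ℕ} (hr : Odd r) (hgr : g ^ r = 1)
    (hd : d ^ 2 ≠ 1) : g * d * g⁻¹ ≠ d⁻¹ := by
  intro h
  have h2 : ∀ k : ℕ, g ^ (2 * k) * d * (g ^ (2 * k))⁻¹ = d := by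
    intro k
    induction k with
    | zero => simp
    | succ k ih =>
      have e1 : 2 * (k + 1) = (2 * k + 1) + 1 := by ring
      have hinv : g * d⁻¹ * g⁻¹ = d := by
        have : g * d⁻¹ * g⁻¹ = (g * d * g⁻¹)⁻¹ := by group
        rw [this, h, inv_inv]
      rw [e1, conj_pow_succ, conj_pow_succ, h, hinv]
      exact ih
  obtain ⟨k, rfl⟩ := hr
  have h3 : g ^ (2 * k + 1) * d * (g ^ (2 * k + 1))⁻¹ = d⁻¹ := by
    rw [conj_pow_succ, h]
    have := h2 k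
    have e2 : g ^ (2 * k) * d⁻¹ * (g ^ (2 * k))⁻¹ = (g ^ (2 * k) * d * (g ^ (2 * k))⁻¹)⁻¹ := by group
    rw [e2, this]
  rw [hgr] at h3
  apply hd
  have : d = d⁻¹ := by simpa using h3
  rw [pow_two]
  nth_rewrite 1 [this]
  exact inv_mul_cancel d

/-- the group-theoretic core: a subgroup `S ≅ Q₈`, a subgroup `D ≤ S` normalized but not
centralized by an element `g` of odd order. Then `D = S` and `g` permutes the cyclic
subgroups of order four transitively. -/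
theorem q8_odd_aut (S : Subgroup G) (e : ↥S ≃* Q8) (D : Subgroup G) (hDS : D ≤ S)
    (g : G) (r : ℕ) (hr : Odd r) (hgr : g ^ r = 1)
    (hgD : ∀ d ∈ D, g * d * g⁻¹ ∈ D) (hmove : ∃ d ∈ D, g * d * g⁻¹ ≠ d) :
    D = S ∧ ∀ a ∈ S, ∀ b ∈ S, a ^ 2 ≠ 1 → b ^ 2 ≠ 1 →
      ∃ i : ℕ, g ^ i * a * (g ^ i)⁻¹ = b ∨ g ^ i * a * (g ^ i)⁻¹ = b⁻¹ := by
  classical
  -- facts about `S`
  have hcoe : ∀ (s : G) (hs : s ∈ S) (t : G) (ht : t ∈ S), e ⟨s, hs⟩ = e ⟨t, ht⟩ → s = t := by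
    intro s hs t ht h
    exact congrArg Subtype.val (e.injective h)
  have hpow : ∀ (s : G) (hs : s ∈ S) (k : ℕ), e ⟨s ^ k, S.pow_mem hs k⟩ = (e ⟨s, hs⟩) ^ k := by
    intro s hs k
    rw [← map_pow]; rfl
  have hmul : ∀ (s : G) (hs : s ∈ S) (t : G) (ht : t ∈ S),
      e ⟨s * t, S.mul_mem hs ht⟩ = e ⟨s, hs⟩ * e ⟨t, ht⟩ := by
    intro s hs t ht
    rw [← map_mul]; rfl
  have hinv : ∀ (s : G) (hs : s ∈ S), e ⟨s⁻¹, S.inv_mem hs⟩ = (e ⟨s, hs⟩)⁻¹ := by
    intro s hs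
    rw [← map_inv]; rfl
  have hone : e ⟨1, S.one_mem⟩ = 1 := map_one e
  have hsq1 : ∀ (s : G) (hs : s ∈ S), s ^ 2 = 1 ↔ (e ⟨s, hs⟩) ^ 2 = 1 := by
    intro s hs
    rw [← hpow s hs 2]
    constructor
    · intro h
      rw [← hone]; congr 1; exact Subtype.ext h
    · intro h
      exact hcoe _ (S.pow_mem hs 2) _ S.one_mem (h.trans hone.symm)
  set z : G := ((e.symm (QuaternionGroup.a 2) : ↥S) : G) with hz
  have hzS : z ∈ S := (e.symm (QuaternionGroup.a 2)).2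
  have hF1 : ∀ s ∈ S, s ^ 2 = 1 → s = 1 ∨ s = z := by
    intro s hs h
    rcases q8_sq_eq_one _ ((hsq1 s hs).mp h) with h1 | h1
    · left; exact hcoe s hs 1 S.one_mem (h1.trans hone.symm)
    · right
      have : (⟨s, hs⟩ : ↥S) = e.symm (QuaternionGroup.a 2) := by
        rw [← h1, MulEquiv.symm_apply_apply]
      exact congrArg Subtype.val this
  have hF2 : ∀ s ∈ S, s ^ 4 = 1 := by
    intro s hs
    apply hcoe _ (S.pow_mem hs 4) 1 S.one_mem
    rw [hpow s hs 4, hone]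
    exact q8_pow_four _
  have hF4 : ∀ d ∈ S, ∀ w ∈ S, d ^ 2 ≠ 1 → w * d = d * w →
      w = 1 ∨ w = d ∨ w = d ^ 2 ∨ w = d ^ 3 := by
    intro d hd w hw hd2 hcomm
    have h1 : (e ⟨d, hd⟩) ^ 2 ≠ 1 := fun h => hd2 ((hsq1 d hd).mpr h)
    have h2 : e ⟨w, hw⟩ * e ⟨d, hd⟩ = e ⟨d, hd⟩ * e ⟨w, hw⟩ := by
      rw [← map_mul, ← map_mul]; congr 1; exact Subtype.ext hcomm
    rcases q8_centralizer _ _ h1 h2 with h | h | h | h
    · left; exact hcoe w hw 1 S.one_mem (h.trans hone.symm)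
    · right; left; exact hcoe w hw d hd h
    · right; right; left; exact hcoe w hw _ (S.pow_mem hd 2) (h.trans (hpow d hd 2).symm)
    · right; right; right; exact hcoe w hw _ (S.pow_mem hd 3) (h.trans (hpow d hd 3).symm)
  have hF5 : ∀ d ∈ S, ∀ y ∈ S, y * d * y⁻¹ = d ∨ y * d * y⁻¹ = d⁻¹ := by
    intro d hd y hy
    have hmem : y * d * y⁻¹ ∈ S := S.mul_mem (S.mul_mem hy hd) (S.inv_mem hy)
    have h1 : e ⟨y * d * y⁻¹, hmem⟩ = e ⟨y, hy⟩ * e ⟨d, hd⟩ * (e ⟨y, hy⟩)⁻¹ := by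
      rw [← map_inv, ← map_mul, ← map_mul]; rfl
    rcases q8_conj (e ⟨d, hd⟩) (e ⟨y, hy⟩) with h | h
    · left; exact hcoe _ hmem d hd (h1.trans h)
    · right; exact hcoe _ hmem _ (S.inv_mem hd) ((h1.trans h).trans (hinv d hd).symm)
  have hF6 : ∀ x ∈ S, ∀ y ∈ S, ∀ w ∈ S, ∀ b ∈ S, x ^ 2 ≠ 1 → y ^ 2 ≠ 1 → w ^ 2 ≠ 1 → b ^ 2 ≠ 1 →
      y ≠ x → y ≠ x⁻¹ → w ≠ x → w ≠ x⁻¹ → w ≠ y → w ≠ y⁻¹ →
      b = x ∨ b = x⁻¹ ∨ b = y ∨ b = y⁻¹ ∨ b = w ∨ b = w⁻¹ := by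
    intro x hx y hy w hw b hb hx2 hy2 hw2 hb2 h1 h2 h3 h4 h5 h6
    have key := q8_three (e ⟨x, hx⟩) (e ⟨y, hy⟩) (e ⟨w, hw⟩) (e ⟨b, hb⟩)
      ⟨fun h => hx2 ((hsq1 x hx).mpr h), fun h => hy2 ((hsq1 y hy).mpr h),
        fun h => hw2 ((hsq1 w hw).mpr h), fun h => hb2 ((hsq1 b hb).mpr h),
        fun h => h1 (hcoe _ _ _ _ h), fun h => h2 (hcoe _ hy _ (S.inv_mem hx) (h.trans (hinv x hx).symm)),
        fun h => h3 (hcoe _ _ _ _ h), fun h => h4 (hcoe _ hw _ (S.inv_mem hx) (h.trans (hinv x hx).symm)),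
        fun h => h5 (hcoe _ _ _ _ h), fun h => h6 (hcoe _ hw _ (S.inv_mem hy) (h.trans (hinv y hy).symm))⟩
    rcases key with h | h | h | h | h | h
    · exact Or.inl (hcoe _ _ _ _ h)
    · exact Or.inr (Or.inl (hcoe _ hb _ (S.inv_mem hx) (h.trans (hinv x hx).symm)))
    · exact Or.inr (Or.inr (Or.inl (hcoe _ _ _ _ h)))
    · exact Or.inr (Or.inr (Or.inr (Or.inl (hcoe _ hb _ (S.inv_mem hy) (h.trans (hinv y hy).symm)))))
    · exact Or.inr (Or.inr (Or.inr (Or.inr (Or.inl (hcoe _ _ _ _ h)))))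
    · exact Or.inr (Or.inr (Or.inr (Or.inr (Or.inr (hcoe _ hb _ (S.inv_mem hw) (h.trans (hinv w hw).symm))))))
  have hconj_sq : ∀ (h s : G), s ^ 2 ≠ 1 → (h * s * h⁻¹) ^ 2 ≠ 1 := by
    intro h s hs hc
    apply hs
    rw [conj_pow] at hc
    have : s ^ 2 = h⁻¹ * (h * s ^ 2 * h⁻¹) * h := by group
    rw [this, hc]; group
  -- (A)
  have claimA : ∀ h : G, (∃ r' : ℕ, Odd r' ∧ h ^ r' = 1) → (∀ s ∈ S, h * s * h⁻¹ ∈ S) →
      (∃ s ∈ S, h * s * h⁻¹ ≠ s) → ∀ d ∈ S, d ^ 2 ≠ 1 →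
        h * d * h⁻¹ ≠ d ∧ h * d * h⁻¹ ≠ d⁻¹ := by
    rintro h ⟨r', hr', hhr'⟩ hnorm ⟨s₀, hs₀, hs₀m⟩ d hd hd2
    refine ⟨?_, not_conj_eq_inv_of_odd hr' hhr' hd2⟩
    intro hfix
    apply hs₀m
    -- `h` centralizes `S`
    have hfix' : h⁻¹ * d * h = d := by
      have : h⁻¹ * d * h = h⁻¹ * (h * d * h⁻¹) * h := by rw [hfix]
      rw [this]; group
    have hfixinv : h * d⁻¹ * h⁻¹ = d⁻¹ := by
      have : h * d⁻¹ * h⁻¹ = (h * d * h⁻¹)⁻¹ := by group
      rw [this, hfix]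
    have hfixpow : ∀ k : ℕ, h * d ^ k * h⁻¹ = d ^ k := by
      intro k; rw [← conj_pow, hfix]
    have hall : ∀ y ∈ S, h * y * h⁻¹ = y := by
      intro y hy
      set c := y⁻¹ * (h * y * h⁻¹) with hc
      have hcS : c ∈ S := S.mul_mem (S.inv_mem hy) (hnorm y hy)
      have h1 : h * (y * d * y⁻¹) * h⁻¹ = y * d * y⁻¹ := by
        rcases hF5 d hd y hy with h5 | h5
        · rw [h5, hfix]
        · rw [h5, hfixinv]
      have hcd : c * d = d * c := by
        have e1 : c * d * c⁻¹ = y⁻¹ * (h * (y * (h⁻¹ * d * h) * y⁻¹) * h⁻¹) * y := by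
          rw [hc]; group
        rw [hfix', h1] at e1
        have e2 : y⁻¹ * (y * d * y⁻¹) * y = d := by group
        rw [e2] at e1
        calc c * d = (c * d * c⁻¹) * c := by group
          _ = d * c := by rw [e1]
      have hcfix : h * c * h⁻¹ = c := by
        rcases hF4 d hd c hcS hd2 hcd with h4 | h4 | h4 | h4
        · rw [h4]; group
        · rw [h4, hfix]
        · rw [h4, hfixpow]
        · rw [h4, hfixpow]
      have hyc : h * y * h⁻¹ = y * c := by rw [hc]; group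
      have h6 := conj_pow_eq_of_conj_eq hyc hcfix r'
      rw [hhr'] at h6
      have hcr : c ^ r' = 1 := by
        have : y * c ^ r' = y * 1 := by rw [← h6]; group
        exact mul_left_cancel this
      have hc4 : c ^ 4 = 1 := hF2 c hcS
      have hcop : Nat.Coprime r' 4 := by
        have : Nat.Coprime r' 2 := Nat.coprime_two_right.mpr hr'
        exact Nat.Coprime.pow_right 2 this
      have hc1 : c = 1 := by
        have h7 : orderOf c ∣ Nat.gcd r' 4 :=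
          Nat.dvd_gcd (orderOf_dvd_of_pow_eq_one hcr) (orderOf_dvd_of_pow_eq_one hc4)
        rw [hcop, Nat.dvd_one, orderOf_eq_one_iff] at h7
        exact h7
      rw [hyc, hc1, mul_one]
    exact hall s₀ hs₀
  -- (B)
  haveI : Finite ↥S := Finite.of_equiv _ e.symm.toEquiv
  haveI : Finite ↥D := Finite.of_injective _ (Subgroup.inclusion_injective hDS)
  have hcardS : Nat.card ↥S = 8 := by
    rw [Nat.card_congr e.toEquiv, Nat.card_eq_fintype_card, QuaternionGroup.card]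
  have hDS' : D = S := by
    by_contra hne
    obtain ⟨d, hdD, hdm⟩ := hmove
    have hdS : d ∈ S := hDS hdD
    by_cases hd2 : d ^ 2 = 1
    · rcases hF1 d hdS hd2 with rfl | rfl
      · apply hdm; group
      · have hwS : g * z * g⁻¹ ∈ S := hDS (hgD z hdD)
        have hw2 : (g * z * g⁻¹) ^ 2 = 1 := by rw [conj_pow, hd2]; group
        rcases hF1 _ hwS hw2 with h1 | h1
        · apply hdm
          have hz1 : z = 1 := by
            have : z = g⁻¹ * (g * z * g⁻¹) * g := by group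
            rw [this, h1]; group
          rw [h1, hz1]
        · exact hdm h1
    · have hord : orderOf d = 4 := by
        have := orderOf_eq_prime_pow (p := 2) (n := 1) (x := d) (by simpa using hd2)
          (by simpa using hF2 d hdS)
        simpa using this
      have hzle : Subgroup.zpowers d ≤ D := by
        rw [Subgroup.zpowers_le]; exact hdD
      have hzcard : Nat.card ↥(Subgroup.zpowers d) = 4 := by rw [Nat.card_zpowers, hord]
      have h4dvd : 4 ∣ Nat.card ↥D := hzcard ▸ Subgroup.card_dvd_of_le hzle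
      have h8dvd : Nat.card ↥D ∣ 8 := hcardS ▸ Subgroup.card_dvd_of_le hDS
      have hD4 : Nat.card ↥D = 4 := by
        have hle : Nat.card ↥D ≤ 8 := Nat.le_of_dvd (by norm_num) h8dvd
        have hne8 : Nat.card ↥D ≠ 8 := by
          intro h8
          apply hne
          exact Subgroup.eq_of_le_of_card_ge hDS (by rw [hcardS, h8])
        obtain ⟨c, hc⟩ := h4dvd
        have : c ≤ 2 := by omega
        interval_cases c
        · rw [hc] at h8dvd; omega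
        · omega
        · omega
      have hDz : Subgroup.zpowers d = D :=
        Subgroup.eq_of_le_of_card_ge hzle (by rw [hzcard, hD4])
      set w := g * d * g⁻¹ with hw
      have hwD : w ∈ Subgroup.zpowers d := hDz ▸ hgD d hdD
      have hwd : w * d = d * w := by
        obtain ⟨k, hk⟩ := Subgroup.mem_zpowers_iff.mp hwD
        rw [← hk]
        exact (Commute.zpow_left (Commute.refl d) k).eq
      have hw2 : w ^ 2 ≠ 1 := hconj_sq g d hd2
      rcases hF4 d hdS w (hDS (hgD d hdD)) hd2 hwd with h4 | h4 | h4 | h4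
      · apply hw2; rw [h4]; group
      · exact hdm h4
      · apply hw2
        rw [h4, ← pow_mul]
        exact hF2 d hdS
      · have : w = d⁻¹ := by
          rw [h4]
          have := hF2 d hdS
          calc d ^ 3 = d ^ 3 * (d * d⁻¹) := by group
            _ = d ^ 4 * d⁻¹ := by group
            _ = d⁻¹ := by rw [this, one_mul]
        exact not_conj_eq_inv_of_odd hr hgr hd2 this
  refine ⟨hDS', ?_⟩
  -- (C)
  have hnorm : ∀ s ∈ S, g * s * g⁻¹ ∈ S := fun s hs => hDS' ▸ hgD s (hDS' ▸ hs)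
  have hmoveS : ∃ s ∈ S, g * s * g⁻¹ ≠ s := by
    obtain ⟨d, hdD, hdm⟩ := hmove
    exact ⟨d, hDS hdD, hdm⟩
  have hg2norm : ∀ s ∈ S, g ^ 2 * s * (g ^ 2)⁻¹ ∈ S := by
    intro s hs
    have : g ^ 2 * s * (g ^ 2)⁻¹ = g * (g * s * g⁻¹) * g⁻¹ := by rw [pow_two]; group
    rw [this]
    exact hnorm _ (hnorm s hs)
  have hg2move : ∃ s ∈ S, g ^ 2 * s * (g ^ 2)⁻¹ ≠ s := by
    by_contra hall
    simp only [not_exists, not_and, not_not] at hall
    obtain ⟨s₀, hs₀, hs₀m⟩ := hmoveS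
    apply hs₀m
    obtain ⟨k, hk⟩ := hr
    have hgk : g = (g ^ 2) ^ (k + 1) := by
      rw [← pow_mul]
      have : 2 * (k + 1) = r + 1 := by omega
      rw [this, pow_succ, hgr, one_mul]
    have hpowfix : ∀ j : ℕ, (g ^ 2) ^ j * s₀ * ((g ^ 2) ^ j)⁻¹ = s₀ := by
      intro j
      induction j with
      | zero => simp
      | succ j ih =>
        rw [conj_pow_succ, hall s₀ hs₀, ih]
    have := hpowfix (k + 1)
    rw [← hgk] at this
    exact this
  intro a ha b hb ha2 hb2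
  have hg2odd : ∃ r' : ℕ, Odd r' ∧ (g ^ 2) ^ r' = 1 := ⟨r, hr, by rw [← pow_mul, mul_comm, pow_mul, hgr, one_pow]⟩
  set a₁ := g * a * g⁻¹ with ha₁
  set a₂ := g * a₁ * g⁻¹ with ha₂
  have ha₁S : a₁ ∈ S := hnorm a ha
  have ha₂S : a₂ ∈ S := hnorm a₁ ha₁S
  have ha₁2 : a₁ ^ 2 ≠ 1 := hconj_sq g a ha2
  have ha₂2 : a₂ ^ 2 ≠ 1 := hconj_sq g a₁ ha₁2
  obtain ⟨n1, n2⟩ := claimA g ⟨r, hr, hgr⟩ hnorm hmoveS a ha ha2
  obtain ⟨n3, n4⟩ := claimA g ⟨r, hr, hgr⟩ hnorm hmoveS a₁ ha₁S ha₁2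
  have ha₂' : a₂ = g ^ 2 * a * (g ^ 2)⁻¹ := by rw [ha₂, ha₁, pow_two]; group
  obtain ⟨n5, n6⟩ := claimA (g ^ 2) hg2odd hg2norm hg2move a ha ha2
  rw [← ha₂'] at n5 n6
  rcases hF6 a ha a₁ ha₁S a₂ ha₂S b hb ha2 ha₁2 ha₂2 hb2 n1 n2 n5 n6 n3 n4 with h | h | h | h | h | h
  · exact ⟨0, Or.inl (by rw [h]; group)⟩
  · exact ⟨0, Or.inr (by rw [h]; group)⟩
  · exact ⟨1, Or.inl (by rw [h, pow_one])⟩
  · exact ⟨1, Or.inr (by rw [h, pow_one, inv_inv])⟩
  · exact ⟨2, Or.inl (by rw [h, ha₂'])⟩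
  · exact ⟨2, Or.inr (by rw [h, ha₂', inv_inv])⟩

end

end Cfsg.Agent.Lib.Helper3

namespace Cfsg.Agent.Lib.Helper3

local notation "Q8" => QuaternionGroup 2

section
variable {G : Type*} [Group G]

theorem q8_sub_sq_eq_one (S : Subgroup G) (e : ↥S ≃* Q8) :
    ∃ z : G, ∀ s ∈ S, s ^ 2 = 1 → s = 1 ∨ s = z := by
  refine ⟨((e.symm (QuaternionGroup.a 2) : ↥S) : G), ?_⟩
  intro s hs h
  have h2 : (e ⟨s, hs⟩) ^ 2 = 1 := by
    rw [← map_pow]
    have : (⟨s, hs⟩ : ↥S) ^ 2 = 1 := Subtype.ext (by simpa using h)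
    rw [this, map_one]
  rcases q8_sq_eq_one _ h2 with h1 | h1
  · left
    have : (⟨s, hs⟩ : ↥S) = 1 := e.injective (h1.trans (map_one e).symm)
    exact congrArg Subtype.val this
  · right
    have : (⟨s, hs⟩ : ↥S) = e.symm (QuaternionGroup.a 2) := by
      rw [← h1, MulEquiv.symm_apply_apply]
    exact congrArg Subtype.val this

theorem q8_sub_pow_four (S : Subgroup G) (e : ↥S ≃* Q8) : ∀ s ∈ S, s ^ 4 = 1 := by
  intro s hs
  have h2 : (e ⟨s, hs⟩) ^ 4 = 1 := q8_pow_four _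
  rw [← map_pow] at h2
  have : (⟨s, hs⟩ : ↥S) ^ 4 = 1 := e.injective (h2.trans (map_one e).symm)
  simpa using congrArg Subtype.val this

/-- a subgroup of order four of a quaternion group is generated by an element of order four -/
theorem q8_sub_exists_generator (S : Subgroup G) (e : ↥S ≃* Q8) (A : Subgroup G) (hA : A ≤ S)
    (hA4 : Nat.card ↥A = 4) : ∃ a ∈ A, a ^ 2 ≠ 1 ∧ Subgroup.zpowers a = A := by
  classical
  haveI : Finite ↥S := Finite.of_equiv _ e.symm.toEquiv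
  haveI : Finite ↥A := Finite.of_injective _ (Subgroup.inclusion_injective hA)
  obtain ⟨z, hz⟩ := q8_sub_sq_eq_one S e
  have hex : ∃ a ∈ A, a ^ 2 ≠ 1 := by
    by_contra hno
    simp only [not_exists, not_and, not_not] at hno
    have hsub : (A : Set G) ⊆ {1, z} := by
      intro a ha
      rcases hz a (hA ha) (hno a ha) with h | h
      · rw [h]; exact Set.mem_insert _ _
      · rw [h]; exact Set.mem_insert_of_mem _ rfl
    have h1 : Nat.card ↥A = (A : Set G).ncard := (Nat.card_coe_set_eq _)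
    have h2 : (A : Set G).ncard ≤ ({1, z} : Set G).ncard :=
      Set.ncard_le_ncard hsub (Set.toFinite _)
    have h3 : ({1, z} : Set G).ncard ≤ 2 := by
      refine (Set.ncard_insert_le _ _).trans ?_
      rw [Set.ncard_singleton]
    omega
  obtain ⟨a, haA, ha2⟩ := hex
  refine ⟨a, haA, ha2, ?_⟩
  have hord : orderOf a = 4 := by
    have := orderOf_eq_prime_pow (p := 2) (n := 1) (x := a) (by simpa using ha2)
      (by simpa using q8_sub_pow_four S e a (hA haA))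
    simpa using this
  apply Subgroup.eq_of_le_of_card_ge
  · rw [Subgroup.zpowers_le]; exact haA
  · rw [Nat.card_zpowers, hord, hA4]

end

end Cfsg.Agent.Lib.Helper3
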