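import Mathlib
import Cfsg.Agent.Lib.Lead.Residual
import Cfsg.Agent.Lib.Lead.Focal

set_option autoImplicit false

namespace Cfsg.Agent.Lib.Helper3.Resid
open Cfsg.Agent.Lib.Lead

variable {X : Type*} [Group X] [Finite X]

/-- if `X` is generated by its `p'`-elements then a Sylow `p`-subgroup lies in the derived
subgroup -/
theorem sylow_le_commutator_of_pResidual_eq_top {p : ℕ} [hp : Fact p.Prime] (P : Sylow p X)
    (h : Cfsg.pResidual p X = ⊤) : (P : Subgroup X) ≤ commutator X := by
  have key : ∀ x ∈ Cfsg.pResidual p X, ∃ n : ℕ, n.Coprime p ∧ x ^ n ∈ commutator X := by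
    intro x hx
    unfold Cfsg.pResidual at hx
    induction hx using Subgroup.closure_induction with
    | mem g hg => exact ⟨orderOf g, hg, by rw [pow_orderOf_eq_one]; exact Subgroup.one_mem _⟩
    | one => exact ⟨1, Nat.coprime_one_left p, by rw [pow_one]; exact Subgroup.one_mem _⟩
    | mul a b _ _ iha ihb =>
      obtain ⟨n, hn, han⟩ := iha
      obtain ⟨m, hm, hbm⟩ := ihb
      refine ⟨n * m, Nat.Coprime.mul_left hn hm, ?_⟩
      rw [← Abelianization.ker_of X, MonoidHom.mem_ker] at han hbm ⊢
      rw [map_pow, map_mul, mul_pow, ← map_pow, ← map_pow, pow_mul, pow_mul', map_pow, han, one_pow,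
        map_pow _ (b ^ m), hbm, one_pow, one_mul]
    | inv a _ iha =>
      obtain ⟨n, hn, han⟩ := iha
      exact ⟨n, hn, by rw [inv_pow]; exact Subgroup.inv_mem _ han⟩
  intro t ht
  obtain ⟨n, hn, htn⟩ := key t (by rw [h]; trivial)
  obtain ⟨k, hk⟩ := (IsPGroup.iff_orderOf.mp P.isPGroup') ⟨t, ht⟩
  rw [Subgroup.orderOf_mk] at hk
  have hcop : (orderOf t).Coprime n := by rw [hk]; exact Nat.Coprime.pow_left k hn.symm
  -- `t` is a power of `t ^ n`
  have hmem : t ∈ Subgroup.zpowers (t ^ n) := by
    have h1 : orderOf (t ^ n) = orderOf t := by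
      rw [orderOf_pow' t (by
        rintro rfl
        rw [Nat.coprime_zero_right] at hcop
        rw [hcop] at hk
        have := hp.out.one_lt
        rcases k with _ | k
        · simp at hn; exact absurd hn (by have := hp.out.one_lt; omega)
        · have : p ∣ 1 := by rw [hk]; exact dvd_pow_self p (Nat.succ_ne_zero k)
          exact absurd (Nat.le_of_dvd one_pos this) (by omega)),
        Nat.Coprime.gcd_eq_one hcop, Nat.div_one]
    have h2 : Subgroup.zpowers (t ^ n) = Subgroup.zpowers t := by
      apply Subgroup.eq_of_le_of_card_ge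
      · rw [Subgroup.zpowers_le]; exact Subgroup.pow_mem _ (Subgroup.mem_zpowers t) n
      · rw [Nat.card_zpowers, Nat.card_zpowers, h1]
    rw [h2]; exact Subgroup.mem_zpowers t
  exact (Subgroup.zpowers_le.mpr htn) hmem


open Cfsg.Agent.Lib.Lead

variable {X : Type*} [Group X] [Finite X]

/-- a normal subgroup containing the `p'`-residual has `p`-power index -/
theorem isPGroup_quotient_of_pResidual_le {p : ℕ} [hp : Fact p.Prime] (M : Subgroup X) [M.Normal]
    (hM : Cfsg.pResidual p X ≤ M) : IsPGroup p (X ⧸ M) := by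
  intro g
  obtain ⟨g, rfl⟩ := QuotientGroup.mk_surjective g
  obtain ⟨u, v, rfl, ⟨k, hu⟩, hv⟩ := exists_ppart_decomp p g
  refine ⟨k, ?_⟩
  have hvM : v ∈ M := hM (mem_pResidual_of_coprime hv)
  have h1 : ((u * v : X) : X ⧸ M) = (u : X ⧸ M) := by
    rw [QuotientGroup.mk_mul, (QuotientGroup.eq_one_iff v).mpr hvM, mul_one]
  rw [h1, ← QuotientGroup.mk_pow, hu, QuotientGroup.mk_one]

/-- if a Sylow `p`-subgroup lies in the derived subgroup then `X` is generated by its
`p'`-elements -/
theorem pResidual_eq_top_of_sylow_le_commutator {p : ℕ} [hp : Fact p.Prime] (P : Sylow p X)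
    (h : (P : Subgroup X) ≤ commutator X) : Cfsg.pResidual p X = ⊤ := by
  have hRn : (Cfsg.pResidual p X).Normal := pResidual_normal p
  -- `X = X' R`
  have hsup : commutator X ⊔ Cfsg.pResidual p X = ⊤ := by
    have hMn : (commutator X ⊔ Cfsg.pResidual p X).Normal := inferInstance
    have hpg := isPGroup_quotient_of_pResidual_le (commutator X ⊔ Cfsg.pResidual p X) le_sup_right
    obtain ⟨k, hk⟩ := IsPGroup.iff_card.mp hpg
    have hidx : (commutator X ⊔ Cfsg.pResidual p X).index = p ^ k := by
      rw [Subgroup.index_eq_card]; exact hk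
    have hdvd : (commutator X ⊔ Cfsg.pResidual p X).index ∣ (P : Subgroup X).index :=
      Subgroup.index_dvd_of_le (h.trans le_sup_left)
    have hnp : ¬ p ∣ (P : Subgroup X).index := P.not_dvd_index
    rcases k with _ | k
    · rw [pow_zero] at hidx
      exact Subgroup.index_eq_one.mp hidx
    · exfalso
      apply hnp
      exact dvd_trans (by rw [hidx]; exact dvd_pow_self p (Nat.succ_ne_zero k)) hdvd
  -- the quotient `X / R` is a perfect `p`-group
  by_contra hne
  have hQ : IsPGroup p (X ⧸ Cfsg.pResidual p X) :=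
    isPGroup_quotient_of_pResidual_le (Cfsg.pResidual p X) le_rfl
  have hnil : Group.IsNilpotent (X ⧸ Cfsg.pResidual p X) := hQ.isNilpotent
  have hnt : Nontrivial (X ⧸ Cfsg.pResidual p X) := by
    rw [← Finite.one_lt_card_iff_nontrivial, ← Subgroup.index_eq_card]
    have h0 : (Cfsg.pResidual p X).index ≠ 0 := Subgroup.index_ne_zero_of_finite
    have h1 : (Cfsg.pResidual p X).index ≠ 1 := fun h1 => hne (Subgroup.index_eq_one.mp h1)
    omega
  have hlt := Group.IsSolvable.commutator_lt_top_of_nontrivial (X ⧸ Cfsg.pResidual p X)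
  apply hlt.ne
  rw [eq_top_iff]
  intro g _
  obtain ⟨g, rfl⟩ := QuotientGroup.mk_surjective g
  have hg : g ∈ commutator X ⊔ Cfsg.pResidual p X := by rw [hsup]; trivial
  obtain ⟨c, hc, r, hr, rfl⟩ := Subgroup.mem_sup_of_normal_right.mp hg
  rw [QuotientGroup.mk_mul, (QuotientGroup.eq_one_iff r).mpr hr, mul_one]
  have h1 : ((c : X) : X ⧸ Cfsg.pResidual p X) ∈
      (commutator X).map (QuotientGroup.mk' (Cfsg.pResidual p X)) := ⟨c, hc, rfl⟩
  rw [commutator_def, Subgroup.map_commutator] at h1
  rw [commutator_def]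
  exact Subgroup.commutator_mono le_top le_top h1

end Cfsg.Agent.Lib.Helper3.Resid
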