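import Mathlib
import Cfsg.Agent.S1182
import Cfsg.Agent.S1185
import Cfsg.Agent.Lib.Helper3.Resid1
import Cfsg.Agent.Lib.Helper3.Isolated

set_option autoImplicit false

namespace Cfsg.Agent.Lib.Helper3.Iso
open Cfsg.Agent.Lib.Lead Cfsg.Agent.Lib.Helper3 Cfsg.Agent.Lib.Helper3.Resid

variable {G : Type*} [Group G] [Finite G]

/-- an isolated involution is central in every Sylow 2-subgroup containing it -/
theorem sylow_le_centralizer {z : G} (hz : Cfsg.IsIsolatedInvolution z) (T : Sylow 2 G)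
    (hzT : z ∈ T) : (T : Subgroup G) ≤ Subgroup.centralizer {z} := by
  have : Fact (Nat.Prime 2) := ⟨Nat.prime_two⟩
  -- work inside `T`
  set H : Subgroup T := Subgroup.centralizer {(⟨z, hzT⟩ : T)} with hH
  by_contra hcon
  have hHne : H ≠ ⊤ := by
    intro h
    apply hcon
    intro t ht
    have : (⟨t, ht⟩ : T) ∈ H := by rw [h]; trivial
    have h2 := Subgroup.mem_centralizer_singleton_iff.mp this
    exact Subgroup.mem_centralizer_singleton_iff.mpr (congrArg Subtype.val h2)
  have hnil : Group.IsNilpotent T := T.isPGroup'.isNilpotent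
  have hnc := Group.normalizerCondition_of_isNilpotent (G := T) H (lt_top_iff_ne_top.mpr hHne)
  obtain ⟨t, htN, htH⟩ := SetLike.exists_of_lt hnc
  apply htH
  -- `t z t⁻¹ ∈ H` commutes with `z`
  have hzH : (⟨z, hzT⟩ : T) ∈ H := Subgroup.mem_centralizer_singleton_iff.mpr rfl
  have h1 : t * ⟨z, hzT⟩ * t⁻¹ ∈ H := (Subgroup.mem_normalizer_iff.mp htN _).mp hzH
  have h2 := Subgroup.mem_centralizer_singleton_iff.mp h1
  have h3 : Commute z ((t : G) * z * (t : G)⁻¹) := by
    have := congrArg Subtype.val h2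
    simp only [Subgroup.coe_mul, Subgroup.coe_inv] at this
    exact this.symm
  have h4 := hz.2 _ h3
  apply Subgroup.mem_centralizer_singleton_iff.mpr
  apply Subtype.ext
  simp only [Subgroup.coe_mul]
  calc (t : G) * z = ((t : G) * z * (t : G)⁻¹) * t := by group
    _ = z * t := by rw [h4]

/-- an isolated involution lies in a Sylow 2-subgroup, which lies in its centralizer -/
theorem exists_sylow_le_centralizer {z : G} (hz : Cfsg.IsIsolatedInvolution z) :
    ∃ T : Sylow 2 G, z ∈ T ∧ (T : Subgroup G) ≤ Subgroup.centralizer {z} := by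
  have : Fact (Nat.Prime 2) := ⟨Nat.prime_two⟩
  have hpg : IsPGroup 2 (Subgroup.zpowers z) := by
    rw [IsPGroup.iff_card]
    exact ⟨1, by rw [Nat.card_zpowers, hz.1, pow_one]⟩
  obtain ⟨T, hT⟩ := hpg.exists_le_sylow
  have hzT : z ∈ T := hT (Subgroup.mem_zpowers z)
  exact ⟨T, hzT, sylow_le_centralizer hz T hzT⟩

omit [Finite G] in
theorem map_subtype_pResidual_le (p : ℕ) (H : Subgroup G) :
    (Cfsg.pResidual p ↥H).map H.subtype ≤ Cfsg.pResidual p G := by
  unfold Cfsg.pResidual
  rw [MonoidHom.map_closure, Subgroup.closure_le]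
  rintro _ ⟨x, hx, rfl⟩
  apply Subgroup.subset_closure
  show Nat.Coprime (orderOf (H.subtype x)) p
  rw [Subgroup.coe_subtype, Subgroup.orderOf_coe]
  exact hx


open Cfsg.Agent.Lib.Lead Cfsg.Agent.Lib.Helper3 Cfsg.Agent.Lib.Helper3.Resid

variable {G : Type*} [Group G] [Finite G]

/-- the 2-residual of the centralizer of an isolated involution -/
theorem pResidual_eq_top_iff {z : G} (hz : Cfsg.IsIsolatedInvolution z) :
    Cfsg.pResidual 2 G = ⊤ ↔ Cfsg.pResidual 2 ↥(Subgroup.centralizer ({z} : Set G)) = ⊤ := by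
  have : Fact (Nat.Prime 2) := ⟨Nat.prime_two⟩
  obtain ⟨T, hzT, hTC⟩ := exists_sylow_le_centralizer hz
  constructor
  · intro h
    have h1 := sylow_le_commutator_of_pResidual_eq_top T h
    have hctl : ∀ x ∈ T, ∀ g : G, g * x * g⁻¹ ∈ T →
        ∃ n ∈ Subgroup.centralizer ({z} : Set G), n * x * n⁻¹ = g * x * g⁻¹ := by
      intro x hx g hg
      have hxz : Commute x z := Subgroup.mem_centralizer_singleton_iff.mp (hTC hx)
      have hyz : Commute (g * x * g⁻¹) z := Subgroup.mem_centralizer_singleton_iff.mp (hTC hg)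
      obtain ⟨c, -, hcz, hc⟩ := Cfsg.Agent.S1182.result z hz ⊤
        (by rw [Subgroup.normalizer_eq_top_iff.mpr (inferInstance : (⊤ : Subgroup G).Normal)]; trivial)
        x (g * x * g⁻¹) trivial trivial hxz hyz g trivial rfl
      exact ⟨c, Subgroup.mem_centralizer_singleton_iff.mpr hcz.eq, hc⟩
    have h2 := commutator_inf_sylow_eq_of_control T (Subgroup.centralizer ({z} : Set G)) hTC hctl
    have h3 : (T : Subgroup G) ≤ ⁅Subgroup.centralizer ({z} : Set G),
        Subgroup.centralizer ({z} : Set G)⁆ := by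
      intro t ht
      have : t ∈ commutator G ⊓ (T : Subgroup G) := ⟨h1 ht, ht⟩
      rw [h2] at this
      exact this.1
    apply pResidual_eq_top_of_sylow_le_commutator (T.subtype hTC)
    intro x hx
    have hx' : (x : G) ∈ (T : Subgroup G) := by
      have := hx
      rw [Sylow.coe_subtype, Subgroup.mem_subgroupOf] at this
      exact this
    have h4 := h3 hx'
    rw [← Subgroup.map_subtype_commutator] at h4
    obtain ⟨y, hy, hyx⟩ := h4
    have : y = x := Subtype.ext hyx
    rw [← this]; exact hy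
  · intro h
    rw [eq_top_iff]
    intro g _
    obtain ⟨k, ⟨⟨hkodd, -⟩, hkC⟩, -⟩ := Cfsg.Agent.S1185.result z hz g
    have hkL : k ∈ Cfsg.pResidual 2 G :=
      mem_pResidual_of_coprime (Nat.coprime_two_right.mpr hkodd)
    have hcL : g⁻¹ * k ∈ Cfsg.pResidual 2 G := by
      apply map_subtype_pResidual_le 2 (Subgroup.centralizer ({z} : Set G))
      refine ⟨⟨g⁻¹ * k, hkC⟩, ?_, rfl⟩
      rw [h]; trivial
    have e : g = k * (g⁻¹ * k)⁻¹ := by group
    rw [e]
    exact Subgroup.mul_mem _ hkL (Subgroup.inv_mem _ hcL)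

end Cfsg.Agent.Lib.Helper3.Iso
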