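import Mathlib
import Cfsg.Agent.Lib.Lead.MixCfg
import Cfsg.Agent.Lib.Helper7.MixP2a

/-!
# S4017, package P2 (part): the fields `norm_fpf`, `norm_card` of `CfgB`

`notes/S4017_paper_lead.md`, §1.3: `N_G(Q) / C_G(Q)` is regular on `Q \ {1}`.
-/

set_option autoImplicit false

namespace Cfsg.Agent.Lib.Helper3.Mix

open Cfsg.Agent.Lib.Lead.Mix Subgroup

universe u

variable {G : Type u} [Group G] [Finite G] {p a : ℕ} {Q : Subgroup G} {w : G}

/-- `p` is odd -/
theorem cfg_p_ne_two (h : Cfg G p a Q w) : p ≠ 2 := by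
  intro hp2
  have h1 := h.hpa
  have h2 : 2 ∣ 2 ^ a := dvd_pow_self 2 (by have := h.ha; omega)
  rw [← h1, hp2] at h2
  omega

/-- `w` is not in `Q` -/
theorem cfg_w_not_mem (h : Cfg G p a Q w) : w ∉ Q := by
  intro hw
  obtain ⟨k, hk⟩ := h.wp
  have h2 : orderOf w ∣ 2 := orderOf_dvd_of_pow_eq_one (h.Qexp w hw)
  rw [hk] at h2
  have hk0 : k = 0 := by
    by_contra hk0
    have : p ∣ 2 := dvd_trans (dvd_pow_self p hk0) h2
    have := (Nat.prime_dvd_prime_iff_eq h.hp Nat.prime_two).1 this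
    exact cfg_p_ne_two h this
  rw [hk0, pow_zero, orderOf_eq_one_iff] at hk
  exact Cfsg.Agent.Lib.Helper7.Mix.cfg_w_ne_one h hk

theorem cfg_Q_ne_top (h : Cfg G p a Q w) : Q ≠ ⊤ := by
  intro hQ
  exact cfg_w_not_mem h (hQ ▸ Subgroup.mem_top w)

theorem cfg_Q_ne_bot (h : Cfg G p a Q w) : Q ≠ ⊥ := by
  intro hQ
  have h1 := h.Qcard
  rw [hQ, Subgroup.card_bot] at h1
  have : 2 ^ 1 ≤ 2 ^ a := Nat.pow_le_pow_right (by norm_num) (by have := h.ha; omega)
  omega

/-- `N_G(Q)` is proper -/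
theorem cfg_normalizer_ne_top (h : Cfg G p a Q w) : normalizer (Q : Set G) ≠ ⊤ :=
  Cfsg.Agent.Lib.Helper7.Mix.cfg_nloc h Q (cfg_Q_ne_bot h) (cfg_Q_ne_top h)

/-- `w` normalizes `Q` -/
theorem cfg_w_mem_normalizer (h : Cfg G p a Q w) : w ∈ normalizer (Q : Set G) := by
  have : Finite (Q : Set G) := inferInstanceAs (Finite Q)
  exact Subgroup.mem_normalizer_fintype (fun n hn => h.wQ n hn)

/-- `|Q| = p + 1` -/
theorem cfg_Qcard' (h : Cfg G p a Q w) : Nat.card Q = p + 1 := by
  rw [h.Qcard, h.hpa]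

/-- the image of `N_G(Q)` in `Aut(Q)` is a `p`-group -/
theorem cfg_range_isPGroup (h : Cfg G p a Q w)
    (hc : Nat.card (centralizer (Q : Set G)) = 2 ^ a * Nat.card (Pone p Q)) :
    IsPGroup p (Q.normalizerMonoidHom).range ∧
      Nat.card (centralizer (Q : Set G)) * Nat.card (Q.normalizerMonoidHom).range =
        Nat.card (normalizer (Q : Set G)) := by
  set ψ := Q.normalizerMonoidHom with hψ
  have hKR : Nat.card ψ.ker * Nat.card ψ.range = Nat.card (normalizer (Q : Set G)) := by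
    rw [← Subgroup.index_ker]
    exact Subgroup.card_mul_index _
  have hK : Nat.card ψ.ker = Nat.card (centralizer (Q : Set G)) := by
    rw [hψ, Subgroup.normalizerMonoidHom_ker]
    exact Nat.card_congr
      (Subgroup.subgroupOfEquivOfLe (Subgroup.centralizer_le_normalizer (Q : Set G))).toEquiv
  rw [hK] at hKR
  refine ⟨?_, hKR⟩
  have hNG : Nat.card (normalizer (Q : Set G)) ∣ Nat.card G := Subgroup.card_subgroup_dvd_card _
  have h2N : 2 ∣ Nat.card (normalizer (Q : Set G)) := by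
    have h1 : Nat.card Q ∣ Nat.card (normalizer (Q : Set G)) :=
      Subgroup.card_dvd_of_le Subgroup.le_normalizer
    rw [h.Qcard] at h1
    exact dvd_trans (dvd_pow_self 2 (by have := h.ha; omega)) h1
  have hR0 : Nat.card ψ.range ≠ 0 := Nat.card_pos.ne'
  have hprime : ∀ {r : ℕ}, r.Prime → r ∣ Nat.card ψ.range → r = p := by
    intro r hr hrd
    have hrN : r ∣ Nat.card (normalizer (Q : Set G)) := by
      rw [← hKR]; exact dvd_mul_of_dvd_right hrd _
    rcases h.prop _ (cfg_normalizer_ne_top h) h2N r hr hrN with h2 | h2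
    · exfalso
      subst h2
      apply h.Gcard
      refine dvd_trans ?_ hNG
      obtain ⟨k, hk⟩ := hrd
      rw [← hKR, hc, hk]
      exact ⟨Nat.card (Pone p Q) * k, by ring⟩
    · exact h2
  have := Nat.eq_prime_pow_of_unique_prime_dvd hR0 hprime
  exact IsPGroup.of_card this

/-- an automorphism of `p`-power order of `Q` (`|Q| = p + 1`) fixing a non-identity element is `1` -/
theorem cfg_aut_eq_one (h : Cfg G p a Q w) (R : Subgroup (MulAut Q)) (hR : IsPGroup p R)
    (f : MulAut Q) (hf : f ∈ R) (t : Q) (ht : t ≠ 1) (hft : f t = t) : f = 1 := by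
  have : Fact p.Prime := ⟨h.hp⟩
  have hZ : IsPGroup p (Subgroup.zpowers f) := hR.to_le (Subgroup.zpowers_le.2 hf)
  have hmod := hZ.card_modEq_card_fixedPoints Q
  have hstab : Subgroup.zpowers f ≤ MulAction.stabilizer (MulAut Q) t :=
    Subgroup.zpowers_le.2 (by rw [MulAction.mem_stabilizer_iff]; exact hft)
  have hsub : ({1, t} : Set Q) ⊆ MulAction.fixedPoints (Subgroup.zpowers f) Q := by
    intro x hx
    rcases hx with rfl | rfl
    · intro g
      show (g : MulAut Q) (1 : Q) = 1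
      exact map_one _
    · intro g
      have := hstab g.2
      rw [MulAction.mem_stabilizer_iff] at this
      exact this
  have h2 : 2 ≤ (MulAction.fixedPoints (Subgroup.zpowers f) Q).ncard := by
    calc 2 = ({1, t} : Set Q).ncard := (Set.ncard_pair (Ne.symm ht)).symm
      _ ≤ _ := Set.ncard_le_ncard hsub (Set.toFinite _)
  have hle : (MulAction.fixedPoints (Subgroup.zpowers f) Q).ncard ≤ Nat.card Q := by
    rw [← Set.ncard_univ]
    exact Set.ncard_le_ncard (Set.subset_univ _) (Set.toFinite _)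
  rw [Nat.card_coe_set_eq, cfg_Qcard' h] at hmod
  rw [cfg_Qcard' h] at hle
  have hp2 : 2 ≤ p := h.hp.two_le
  have hall : (MulAction.fixedPoints (Subgroup.zpowers f) Q).ncard = Nat.card Q := by
    rw [cfg_Qcard' h]
    set F := (MulAction.fixedPoints (Subgroup.zpowers f) Q).ncard with hF
    have h1 : (p + 1) % p = F % p := hmod
    have h3 : (p + 1) % p = 1 := by
      rw [Nat.add_mod_left]
      exact Nat.mod_eq_of_lt (by omega)
    rw [h3] at h1
    by_contra hne
    have hFp : F ≤ p := by omega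
    rcases Nat.lt_or_ge F p with hlt | hge
    · rw [Nat.mod_eq_of_lt hlt] at h1
      omega
    · have : F = p := by omega
      rw [this, Nat.mod_self] at h1
      omega
  have huniv := (Set.eq_univ_iff_ncard _).2 hall
  ext x
  have hx : x ∈ MulAction.fixedPoints (Subgroup.zpowers f) Q := by rw [huniv]; exact Set.mem_univ x
  have := hx ⟨f, Subgroup.mem_zpowers f⟩
  have h4 : f x = x := this
  rw [h4]
  rfl

/-- (1.3), field `norm_fpf` of `CfgB` -/
theorem cfg_norm_fpf (h : Cfg G p a Q w) (_hP : IsPGroup p (Pone p Q))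
    (hc : Nat.card (centralizer (Q : Set G)) = 2 ^ a * Nat.card (Pone p Q)) :
    ∀ m ∈ normalizer (Q : Set G), m ∉ centralizer (Q : Set G) →
      ∀ t ∈ Q, t ≠ 1 → m * t ≠ t * m := by
  intro m hm hmc t ht ht1 hcomm
  apply hmc
  have hR := (cfg_range_isPGroup h hc).1
  have hf : Q.normalizerMonoidHom ⟨m, hm⟩ ∈ (Q.normalizerMonoidHom).range := ⟨_, rfl⟩
  have hft : Q.normalizerMonoidHom ⟨m, hm⟩ ⟨t, ht⟩ = ⟨t, ht⟩ := by
    apply Subtype.ext
    show m * t * m⁻¹ = t
    rw [hcomm]; group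
  have h1 := cfg_aut_eq_one h _ hR _ hf ⟨t, ht⟩
    (by intro h0; exact ht1 (congrArg Subtype.val h0)) hft
  have hker : (⟨m, hm⟩ : normalizer (Q : Set G)) ∈ (Q.normalizerMonoidHom).ker := h1
  rw [Subgroup.normalizerMonoidHom_ker, Subgroup.mem_subgroupOf] at hker
  exact hker

/-- (1.3), field `norm_card` of `CfgB` -/
theorem cfg_norm_card (h : Cfg G p a Q w) (_hP : IsPGroup p (Pone p Q))
    (hc : Nat.card (centralizer (Q : Set G)) = 2 ^ a * Nat.card (Pone p Q)) :
    Nat.card (normalizer (Q : Set G)) = p * Nat.card (centralizer (Q : Set G)) := by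
  obtain ⟨hR, hKR⟩ := cfg_range_isPGroup h hc
  suffices hs : Nat.card (Q.normalizerMonoidHom).range = p by rw [← hKR, hs, mul_comm]
  obtain ⟨x, hx, -, -, hx1, -, -⟩ := Cfsg.Agent.Lib.Helper7.Mix.cfg_exists_two h
  have hx1' : (⟨x, hx⟩ : Q) ≠ 1 := by intro h0; exact hx1 (congrArg Subtype.val h0)
  have hstab : MulAction.stabilizer (Q.normalizerMonoidHom).range (⟨x, hx⟩ : Q) = ⊥ := by
    rw [eq_bot_iff]
    intro g hg
    rw [MulAction.mem_stabilizer_iff] at hg
    have hg1 : (g : MulAut Q) = 1 := cfg_aut_eq_one h _ hR g g.2 ⟨x, hx⟩ hx1' hg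
    rw [Subgroup.mem_bot]
    exact Subtype.ext hg1
  have hidx := MulAction.index_stabilizer (Q.normalizerMonoidHom).range (⟨x, hx⟩ : Q)
  rw [hstab, Subgroup.index_bot] at hidx
  rw [hidx]
  have horb : MulAction.orbit (Q.normalizerMonoidHom).range (⟨x, hx⟩ : Q) =
      (Set.univ : Set Q) \ {1} := by
    ext z
    constructor
    · rintro ⟨g, rfl⟩
      refine ⟨Set.mem_univ _, ?_⟩
      intro h0
      rw [Set.mem_singleton_iff] at h0
      have h1 : (g : MulAut Q) (⟨x, hx⟩ : Q) = 1 := h0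
      exact hx1' ((map_eq_one_iff (g : MulAut Q) (MulEquiv.injective _)).1 h1)
    · rintro ⟨-, hz⟩
      have hz1 : (z : G) ≠ 1 := by
        intro h0; exact hz (Subtype.ext h0)
      obtain ⟨i, hi⟩ := h.wtr x hx hx1 z z.2 hz1
      have hwi : w ^ i ∈ normalizer (Q : Set G) := pow_mem (cfg_w_mem_normalizer h) i
      refine ⟨⟨Q.normalizerMonoidHom ⟨w ^ i, hwi⟩, ⟨_, rfl⟩⟩, ?_⟩
      apply Subtype.ext
      show w ^ i * x * (w ^ i)⁻¹ = z
      exact hi
  rw [horb, Set.ncard_diff_singleton_of_mem (Set.mem_univ _), Set.ncard_univ, cfg_Qcard' h]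
  simp

end Cfsg.Agent.Lib.Helper3.Mix
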