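import Mathlib
import Cfsg.Agent.Lib.Helper1.DihedralIso
import Cfsg.Agent.Lib.Lead.QuatRecog

namespace Cfsg.Agent.Lib.Helper3.S64

/-- the non-commutative groups of order eight -/
theorem order8_classify {G : Type*} [Group G] [Finite G] (hcard : Nat.card G = 8)
    (hna : ∃ a b : G, a * b ≠ b * a) :
    Nonempty (G ≃* DihedralGroup 4) ∨ Nonempty (G ≃* QuaternionGroup 2) := by
  classical
  obtain ⟨c, d, hcd⟩ := hna
  have hord : ∀ g : G, orderOf g = 1 ∨ orderOf g = 2 ∨ orderOf g = 4 ∨ orderOf g = 8 := by
    intro g
    have h := orderOf_dvd_natCard g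
    rw [hcard] at h
    have h2 : orderOf g ∈ Nat.divisors 8 := Nat.mem_divisors.mpr ⟨h, by norm_num⟩
    have hd : Nat.divisors 8 = {1, 2, 4, 8} := by decide
    rw [hd] at h2
    simpa using h2
  have h8 : ∀ g : G, orderOf g ≠ 8 := by
    intro g hg
    have hc : IsCyclic G := isCyclic_of_orderOf_eq_card g (by rw [hg, hcard])
    exact hcd ((IsCyclic.isMulCommutative (α := G)).is_comm.comm c d)
  -- an element of order four
  obtain ⟨a, hao⟩ : ∃ a : G, orderOf a = 4 := by
    by_contra hno
    push Not at hno
    have hsq : ∀ g : G, g * g = 1 := by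
      intro g
      rcases hord g with h | h | h | h
      · rw [orderOf_eq_one_iff] at h
        rw [h, one_mul]
      · rw [← pow_two, ← h]; exact pow_orderOf_eq_one g
      · exact absurd h (hno g)
      · exact absurd h (h8 g)
    apply hcd
    have e1 : (c * d)⁻¹ = c * d := inv_eq_of_mul_eq_one_right (hsq _)
    have e2 : c⁻¹ = c := inv_eq_of_mul_eq_one_right (hsq _)
    have e3 : d⁻¹ = d := inv_eq_of_mul_eq_one_right (hsq _)
    rw [← e1, mul_inv_rev, e2, e3]
  have ha4 : a ^ 4 = 1 := by rw [← hao]; exact pow_orderOf_eq_one a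
  have ha2 : a ^ 2 ≠ 1 := by
    intro h
    have := orderOf_dvd_of_pow_eq_one h
    rw [hao] at this
    norm_num at this
  obtain ⟨A, hA⟩ : ∃ A : Subgroup G, A = Subgroup.zpowers a := ⟨_, rfl⟩
  have hAcard : Nat.card A = 4 := by rw [hA, Nat.card_zpowers, hao]
  have hAidx : A.index = 2 := by
    have := A.card_mul_index
    rw [hcard, hAcard] at this
    omega
  have hAN : A.Normal := Subgroup.normal_of_index_eq_two hAidx
  have haA : a ∈ A := by rw [hA]; exact Subgroup.mem_zpowers a
  have hAmem : ∀ g ∈ A, g = 1 ∨ g = a ∨ g = a ^ 2 ∨ g = a ^ 3 := by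
    intro g hg
    rw [hA, mem_zpowers_iff_mem_range_orderOf, hao] at hg
    simp only [Finset.mem_image, Finset.mem_range] at hg
    obtain ⟨i, hi, rfl⟩ := hg
    interval_cases i
    · left; exact pow_zero a
    · right; left; exact pow_one a
    · right; right; left; rfl
    · right; right; right; rfl
  obtain ⟨b, hb⟩ : ∃ b : G, b ∉ A := by
    by_contra hall
    push Not at hall
    have : A = ⊤ := eq_top_iff.mpr fun g _ => hall g
    rw [this, Subgroup.card_top, hcard] at hAcard
    norm_num at hAcard
  have ha3 : a ^ 3 = a⁻¹ := by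
    rw [eq_inv_iff_mul_eq_one, ← pow_succ]
    exact ha4
  -- the conjugate of a
  have hconj : b * a * b⁻¹ = a⁻¹ := by
    have hm : b * a * b⁻¹ ∈ A := hAN.conj_mem a haA b
    have ho : orderOf (b * a * b⁻¹) = 4 := by
      have : b * a * b⁻¹ = MulAut.conj b a := rfl
      rw [this, MulEquiv.orderOf_eq, hao]
    rcases hAmem _ hm with h | h | h | h
    · rw [h, orderOf_one] at ho
      norm_num at ho
    · -- commuting: the group would be commutative
      exfalso
      have hab : b * a = a * b := by
        calc b * a = (b * a * b⁻¹) * b := by group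
          _ = a * b := by rw [h]
      obtain ⟨K, hK⟩ : ∃ K : Subgroup G, K = Subgroup.closure ({a, b} : Set G) := ⟨_, rfl⟩
      have hAK : A ≤ K := by
        rw [hA, hK, Subgroup.zpowers_le]
        exact Subgroup.subset_closure (by simp)
      have hbK : b ∈ K := by
        rw [hK]
        exact Subgroup.subset_closure (by simp)
      have hKtop : K = ⊤ := by
        have h1 : Nat.card A ∣ Nat.card K := Subgroup.card_dvd_of_le hAK
        have h2 : Nat.card K ∣ Nat.card G := Subgroup.card_subgroup_dvd_card K
        rw [hAcard] at h1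
        rw [hcard] at h2
        have h3 : Nat.card K ≠ 4 := by
          intro h4
          have : A = K := Subgroup.eq_of_le_of_card_ge hAK (by rw [h4, hAcard])
          exact hb (this ▸ hbK)
        have h5 : Nat.card K = 8 := by
          have h6 : Nat.card K ∈ Nat.divisors 8 := Nat.mem_divisors.mpr ⟨h2, by norm_num⟩
          have hd : Nat.divisors 8 = {1, 2, 4, 8} := by decide
          rw [hd] at h6
          simp only [Finset.mem_insert, Finset.mem_singleton] at h6
          rcases h6 with h6 | h6 | h6 | h6
          · rw [h6] at h1; norm_num at h1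
          · rw [h6] at h1; norm_num at h1
          · exact absurd h6 h3
          · exact h6
        exact Subgroup.eq_top_of_card_eq K (by rw [h5, hcard])
      have hKc : IsMulCommutative K := by
        rw [hK]
        apply Subgroup.isMulCommutative_closure
        intro x hx y hy
        simp only [Set.mem_insert_iff, Set.mem_singleton_iff] at hx hy
        rcases hx with rfl | rfl <;> rcases hy with rfl | rfl
        · rfl
        · exact hab.symm
        · exact hab
        · rfl
      apply hcd
      have hc : c ∈ K := by rw [hKtop]; trivial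
      have hd : d ∈ K := by rw [hKtop]; trivial
      have := hKc.is_comm.comm ⟨c, hc⟩ ⟨d, hd⟩
      exact congrArg Subtype.val this
    · exfalso
      rw [h] at ho
      have : (a ^ 2) ^ 2 = 1 := by rw [← pow_mul]; exact ha4
      have := orderOf_dvd_of_pow_eq_one this
      rw [ho] at this
      norm_num at this
    · rw [h, ha3]
  -- the square of b
  have hb2A : b ^ 2 ∈ A := by
    have : ((b : G) : G ⧸ A) ^ 2 = 1 := by
      have h1 := pow_card_eq_one' (G := G ⧸ A) (x := (b : G ⧸ A))
      rwa [← Subgroup.index_eq_card, hAidx] at h1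
    rw [← QuotientGroup.mk_pow, QuotientGroup.eq_one_iff] at this
    exact this
  have hbcomm : b * b ^ 2 * b⁻¹ = b ^ 2 := by group
  have hinv_ne : a⁻¹ ≠ a := by
    intro h
    apply ha2
    rw [pow_two]
    nth_rewrite 1 [← h]
    exact inv_mul_cancel a
  have hb2 : b ^ 2 = 1 ∨ b ^ 2 = a ^ 2 := by
    rcases hAmem _ hb2A with h | h | h | h
    · left; exact h
    · exfalso
      rw [h] at hbcomm
      rw [hconj] at hbcomm
      exact hinv_ne hbcomm
    · right; exact h
    · exfalso
      rw [h, ha3] at hbcomm
      have : b * a⁻¹ * b⁻¹ = (b * a * b⁻¹)⁻¹ := by group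
      rw [this, hconj, inv_inv] at hbcomm
      exact hinv_ne hbcomm.symm
  have hb1 : b ≠ 1 := fun h => hb (h ▸ Subgroup.one_mem _)
  rcases hb2 with h1 | h1
  · left
    have hbo : orderOf b = 2 := orderOf_eq_prime h1 hb1
    have hbb : b * b = 1 := by rw [← sq]; exact h1
    have hy2 : (b * a) ^ 2 = 1 := by
      have h3 : b * a = a⁻¹ * b := by
        calc b * a = (b * a * b⁻¹) * b := by group
          _ = a⁻¹ * b := by rw [hconj]
      rw [sq]
      calc b * a * (b * a) = (b * a) * b * a := by group
        _ = a⁻¹ * b * b * a := by rw [h3]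
        _ = a⁻¹ * (b * b) * a := by group
        _ = 1 := by rw [hbb]; group
    have hy1 : b * a ≠ 1 := by
      intro h
      apply hb
      have : b = a⁻¹ := eq_inv_of_mul_eq_one_left h
      rw [this]
      exact A.inv_mem haA
    have hyo : orderOf (b * a) = 2 := orderOf_eq_prime hy2 hy1
    have hxy : b * (b * a) = a := by rw [← mul_assoc, hbb, one_mul]
    have hne : orderOf (b * (b * a)) ≠ 0 := by
      rw [hxy, hao]; norm_num
    obtain ⟨e⟩ := Cfsg.Agent.Lib.Helper1.DihedralIso.closure_equiv_dihedral b (b * a) hbo hyo hne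
    rw [hxy, hao] at e
    have htop : Subgroup.closure ({b, b * a} : Set G) = ⊤ := by
      apply Subgroup.eq_top_of_card_eq
      rw [Nat.card_congr e.toEquiv, DihedralGroup.nat_card, hcard]
    exact ⟨(Subgroup.topEquiv.symm.trans (MulEquiv.subgroupCongr htop.symm)).trans e⟩
  · right
    exact Cfsg.Agent.Lib.Lead.quaternion_recognition 2 a b (by rw [hao]) h1 hconj
      (by rw [← hA]; exact hb) (by rw [hcard])

end Cfsg.Agent.Lib.Helper3.S64
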