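import Mathlib
import Cfsg.Agent.Lib.Helper2.OmMin.Defs

set_option autoImplicit false
set_option linter.unusedSectionVars false
set_option linter.unusedVariables false

/-!
# S2346, package PK-CHAR: the additive characters `psiU ψ0 Q u = (w ↦ ψ0 (f(u,w)))`
-/

namespace Cfsg.Agent.Lib.Helper2.OmMin

open Matrix Cfsg Cfsg.Agent.Lib.Helper2.HypExt Cfsg.Agent.Lib.Helper2.Siegel
open scoped ComplexConjugate

universe u

section PKCHAR
variable {F : Type u} [Field F] [Fintype F] [DecidableEq F] {ι : Type} [Fintype ι] [DecidableEq ι]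
variable {Q : QuadraticForm F (ι → F)}

namespace PkCHAR

/-- a nontrivial additive character of `F` is not trivial on any line `F c`, `c ≠ 0` -/
theorem exists_ne_one (ψ0 : AddChar F ℂ) (hψ0 : ψ0 ≠ 1) : ∃ t : F, ψ0 t ≠ 1 :=
  AddChar.ne_one_iff.mp hψ0

theorem psiU_sub (ψ0 : AddChar F ℂ) (u u' w : ι → F) :
    psiU ψ0 Q (u - u') w = psiU ψ0 Q u w * (psiU ψ0 Q u' w)⁻¹ := by
  rw [psiU_apply, psiU_apply, psiU_apply, QuadraticMap.polar_sub_left, sub_eq_add_neg,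
    AddChar.map_add_eq_mul, AddChar.map_neg_eq_inv]

end PkCHAR

open PkCHAR

/-- every additive character of `ι → F` is `psiU ψ0 Q u` for a unique `u` -/
theorem psiU_bijective (hQ : (QuadraticMap.polarBilin Q).Nondegenerate) (ψ0 : AddChar F ℂ)
    (hψ0 : ψ0 ≠ 1) : Function.Bijective (psiU ψ0 Q) := by
  rw [Fintype.bijective_iff_injective_and_card, AddChar.card_eq]
  refine ⟨?_, rfl⟩
  intro u u' huu
  by_contra hne
  have hd : u - u' ≠ 0 := sub_ne_zero.mpr hne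
  have hex : ∃ w₀, QuadraticMap.polar (⇑Q) (u - u') w₀ ≠ 0 := by
    by_contra hcon
    push Not at hcon
    exact hd (hQ.1 (u - u') hcon)
  obtain ⟨w₀, hw₀⟩ := hex
  obtain ⟨t, ht⟩ := exists_ne_one ψ0 hψ0
  apply ht
  have h1 : psiU ψ0 Q (u - u') ((t * (QuadraticMap.polar (⇑Q) (u - u') w₀)⁻¹) • w₀) = 1 := by
    rw [psiU_sub, huu, mul_inv_cancel₀]
    have : (psiU ψ0 Q u') ((t * (QuadraticMap.polar (⇑Q) (u - u') w₀)⁻¹) • w₀) ≠ 0 := by
      rw [psiU_apply]
      exact (AddChar.val_isUnit ψ0 _).ne_zero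
    exact this
  rw [psiU_apply, QuadraticMap.polar_smul_right, smul_eq_mul, mul_assoc, inv_mul_cancel₀ hw₀, mul_one] at h1
  exact h1

theorem psiU_zero (ψ0 : AddChar F ℂ) : psiU ψ0 Q 0 = 1 := by
  apply DFunLike.ext
  intro w
  rw [psiU_apply, QuadraticMap.polar_zero_left, AddChar.map_zero_eq_one, AddChar.one_apply]

theorem psiU_iso (ψ0 : AddChar F ℂ) (g : ↥(Cfsg.isometryGroup F ⇑Q)) (u w : ι → F) :
    psiU ψ0 Q (((g : Matrix.GeneralLinearGroup ι F) : Matrix ι ι F) *ᵥ u)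
      (((g : Matrix.GeneralLinearGroup ι F) : Matrix ι ι F) *ᵥ w) = psiU ψ0 Q u w := by
  rw [psiU_apply, psiU_apply, Cfsg.Agent.Lib.Helper2.CDG.iso_polar]

theorem psiU_smul (ψ0 : AddChar F ℂ) (a : F) (u w : ι → F) :
    psiU ψ0 Q u (a • w) = psiU ψ0 Q (a • u) w := by
  rw [psiU_apply, psiU_apply, QuadraticMap.polar_smul_right, QuadraticMap.polar_smul_left]

/-- `∑_{t ∈ F} ψ0 (t * s) = q` if `s = 0`, else `0` -/
theorem sum_psi0_mul (ψ0 : AddChar F ℂ) (hψ0 : ψ0 ≠ 1) (s : F) :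
    ∑ t : F, ψ0 (t * s) = if s = 0 then (Fintype.card F : ℂ) else 0 := by
  classical
  split_ifs with hs
  · subst hs
    simp only [mul_zero, AddChar.map_zero_eq_one, Finset.sum_const, Finset.card_univ, nsmul_eq_mul, mul_one]
  · rw [Fintype.sum_equiv (Equiv.mulRight₀ s hs) (fun t => ψ0 (t * s)) (fun t => ψ0 t) (fun t => rfl)]
    exact AddChar.sum_eq_zero_iff_ne_zero.mpr hψ0

end PKCHAR

end Cfsg.Agent.Lib.Helper2.OmMin
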