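import Mathlib
import Cfsg.Prelude.Def_Characters
import Cfsg.Agent.Lib.Helper1.SUMin.Defs
import Cfsg.Agent.Lib.Helper4.SUMinA1

set_option autoImplicit false

/-! Package PK-A2 of S2334/S2335 (helper1): the functions `theta χ z i` are invariant under the
elements normalising the `z j`, and are characters of the subgroups centralising the `z j`. -/

namespace Cfsg.Agent.Lib.Helper1.SUMin

open Cfsg
open scoped ComplexConjugate

universe u

section A2
variable {G : Type u} [Group G] [Fintype G] {S : Type u} [AddCommGroup S] [Fintype S]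

/-- invariance of `theta χ z i` under an element normalising `z j`, `j < i` -/
theorem theta_conj {χ : G → ℂ} (hχ : IsClassFunction G χ) (z : ℕ → S → G) (i : ℕ) (g : G)
    (t : ℕ → S ≃ S) (hg : ∀ j, j < i → ∀ a, g * z j a * g⁻¹ = z j (t j a)) (x : G) :
    theta χ z i (g * x * g⁻¹) = theta χ z i x := by
  induction i generalizing x with
  | zero => exact hχ x g
  | succ i ih =>
    rw [theta_succ, isoAvg_apply, isoAvg_apply]
    congr 1
    have ih' := ih (fun j hj a => hg j (by omega) a)
    have hgi := hg i (by omega)
    -- reindex the sum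
    rw [← Equiv.sum_comp (t i)]
    apply Finset.sum_congr rfl
    intro c _
    congr 1
    have e : z i (t i c) * (g * x * g⁻¹) = g * (z i c * x) * g⁻¹ := by
      rw [← hgi c]
      group
    rw [e, ih']

/-- a character composed with a homomorphism -/
theorem a2_comp_hom {H K : Type u} [Group H] [Group K] {χ : K → ℂ} (hχ : IsCharacter K χ)
    (e : H →* K) : IsCharacter H (fun h => χ (e h)) := by
  obtain ⟨n, ρ, rfl⟩ := hχ
  exact ⟨n, ρ.comp e, rfl⟩

/-- the subgroup centralising `z j`, `j < i` -/
def a2_cent (z : ℕ → S → G) (i : ℕ) : Subgroup G where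
  carrier := {g | ∀ j, j < i → ∀ a, g * z j a = z j a * g}
  one_mem' := by
    intro j _ a
    rw [one_mul, mul_one]
  mul_mem' := by
    intro g h hg hh j hj a
    rw [mul_assoc, hh j hj a, ← mul_assoc, hg j hj a, mul_assoc]
  inv_mem' := by
    intro g hg j hj a
    have := hg j hj a
    calc g⁻¹ * z j a = g⁻¹ * (z j a * g) * g⁻¹ := by group
      _ = g⁻¹ * (g * z j a) * g⁻¹ := by rw [this]
      _ = z j a * g⁻¹ := by group

theorem a2_mem_cent (z : ℕ → S → G) (i : ℕ) (g : G) :
    g ∈ a2_cent z i ↔ ∀ j, j < i → ∀ a, g * z j a = z j a * g := Iff.rfl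

/-- `theta χ z i` restricted to a subgroup centralising `z j`, `j < i`, is a character -/
theorem theta_isCharacter {χ : G → ℂ} (hχ : IsCharacter G χ) (z : ℕ → S → G)
    (hz : ∀ i a b, z i (a + b) = z i a * z i b) (i : ℕ)
    (hzz : ∀ j k a b, j < i → k < i → z j a * z k b = z k b * z j a)
    (L : Subgroup G) (hL : ∀ g ∈ L, ∀ j, j < i → ∀ a, g * z j a = z j a * g) :
    IsCharacter L (fun g : L => theta χ z i (g : G)) := by
  induction i generalizing L with
  | zero => exact a2_comp_hom hχ L.subtype
  | succ i ih =>
    -- the centraliser of `z j`, `j ≤ i`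
    set C : Subgroup G := a2_cent z (i + 1) with hC
    have hzC : ∀ c, z i c ∈ C := by
      intro c j hj a
      exact hzz i j c a (by omega) hj
    have h1 : IsCharacter C (fun g : C => theta χ z i (g : G)) :=
      ih (fun j k a b hj hk => hzz j k a b (by omega) (by omega)) C
        (fun g hg j hj a => hg j (by omega) a)
    classical
    have h2 := isCharacter_isoAvg h1 (fun c => (⟨z i c, hzC c⟩ : C))
      (fun a b => Subtype.ext (hz i a b))
      (fun a g => Subtype.ext ((g.2 i (by omega) a).symm)) (1 : AddChar S ℂ)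
    have hLC : L ≤ C := fun g hg => hL g hg
    have h3 := a2_comp_hom h2 (Subgroup.inclusion hLC)
    have e : (fun g : L => theta χ z (i + 1) (g : G)) =
        fun h : L => isoAvg (fun c => (⟨z i c, hzC c⟩ : C)) (⇑(1 : AddChar S ℂ))
          (fun g : C => theta χ z i (g : G)) (Subgroup.inclusion hLC h) := by
      funext g
      rw [theta_succ, isoAvg_apply, isoAvg_apply]
      congr 1
    rw [e]
    exact h3

end A2

end Cfsg.Agent.Lib.Helper1.SUMin
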