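import Mathlib
import Cfsg.Prelude.Def_Characters
import Cfsg.Agent.Lib.Helper4.SLMin.Defs
import Cfsg.Agent.Lib.Helper4.Characters
import Cfsg.Agent.Lib.Helper1.CharFound1
import Cfsg.Agent.Lib.Helper1.CharFound3
import Cfsg.Agent.Lib.Helper1.CharFound6
import Cfsg.Agent.Lib.Helper1.LinearChar

set_option autoImplicit false
set_option linter.unusedSectionVars false

/-!
# S2332, package PK-A: abstract character lemmas

* A1: the `lam`-isotypic part of a character is a character of the stabiliser of `lam`;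
* A2: if it has degree one, it is trivial on commutators of the stabiliser;
* G1: a character not constant on `{1, g}` has an irreducible constituent with the same property.
-/

namespace Cfsg.Agent.Lib.Helper4.SLMin

open Matrix Cfsg Cfsg.Agent.H9SLRoot Cfsg.Agent.Lib.Helper1.SUMin
open scoped ComplexConjugate

universe u

section PKA
variable {G : Type u} [Group G] [Fintype G] {A : Type u} [AddCommGroup A] [Fintype A]

namespace PkA

/-- the averaging operator `|A|⁻¹ ∑ conj (lam a) ρ (ζ a)` -/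
noncomputable def avgOp {n : ℕ} (ρ : Representation ℂ G (Fin n → ℂ)) (ζ : A → G) (lam : AddChar A ℂ) :
    Module.End ℂ (Fin n → ℂ) :=
  (Fintype.card A : ℂ)⁻¹ • ∑ a : A, conj (lam a) • ρ (ζ a)

theorem card_ne_zero : (Fintype.card A : ℂ) ≠ 0 := by
  have : 0 < Fintype.card A := Fintype.card_pos
  exact_mod_cast this.ne'

theorem avgOp_mul_self {n : ℕ} (ρ : Representation ℂ G (Fin n → ℂ)) (ζ : A → G)
    (hζ : ∀ a b, ζ (a + b) = ζ a * ζ b) (lam : AddChar A ℂ) :
    avgOp ρ ζ lam * avgOp ρ ζ lam = avgOp ρ ζ lam := by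
  unfold avgOp
  rw [smul_mul_smul_comm, Finset.sum_mul]
  have h1 : ∀ a : A, (conj (lam a) • ρ (ζ a)) * ∑ b : A, conj (lam b) • ρ (ζ b) =
      ∑ c : A, conj (lam c) • ρ (ζ c) := by
    intro a
    rw [Finset.mul_sum]
    rw [← Fintype.sum_equiv (Equiv.addLeft a) (fun b => (conj (lam a) • ρ (ζ a)) * (conj (lam b) • ρ (ζ b)))
      (fun c => conj (lam c) • ρ (ζ c))]
    intro b
    rw [Equiv.coe_addLeft, smul_mul_smul_comm, hζ, map_mul, AddChar.map_add_eq_mul, map_mul]
  rw [Finset.sum_congr rfl (fun a _ => h1 a), Finset.sum_const, Finset.card_univ, ← Nat.cast_smul_eq_nsmul ℂ,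
    smul_smul]
  congr 1
  have := card_ne_zero (A := A)
  field_simp

theorem avgOp_comm {n : ℕ} (ρ : Representation ℂ G (Fin n → ℂ)) (ζ : A → G) (lam : AddChar A ℂ)
    {s : G} (hs : s ∈ invStab ζ lam) : ρ s * avgOp ρ ζ lam = avgOp ρ ζ lam * ρ s := by
  obtain ⟨τ, hτ, hl⟩ := hs
  unfold avgOp
  rw [mul_smul_comm, smul_mul_assoc, Finset.mul_sum, Finset.sum_mul]
  congr 1
  rw [← Fintype.sum_equiv τ.toEquiv (fun a => ρ s * (conj (lam a) • ρ (ζ a)))
    (fun a => (conj (lam a) • ρ (ζ a)) * ρ s)]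
  intro a
  have e : s * ζ a = ζ (τ a) * s := by rw [← hτ a]; group
  rw [AddEquiv.toEquiv_eq_coe, AddEquiv.coe_toEquiv, mul_smul_comm, smul_mul_assoc, ← map_mul, ← map_mul, e, hl]

theorem trace_avgOp_mul {n : ℕ} (ρ : Representation ℂ G (Fin n → ℂ)) (ζ : A → G) (lam : AddChar A ℂ) (g : G) :
    LinearMap.trace ℂ (Fin n → ℂ) (avgOp ρ ζ lam * ρ g) = isoAvg ζ lam ρ.character g := by
  unfold avgOp
  rw [isoAvg_apply, smul_mul_assoc, map_smul, Finset.sum_mul, map_sum, smul_eq_mul]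
  congr 1
  refine Finset.sum_congr rfl (fun a _ => ?_)
  rw [smul_mul_assoc, map_smul, smul_eq_mul, ← map_mul]
  rfl

end PkA

open PkA in
/-- A1: the `lam`-isotypic part of a character is a character of the stabiliser of `lam`. -/
theorem isCharacter_isoAvg_invStab {χ : G → ℂ} (hχ : IsCharacter G χ) (ζ : A → G)
    (hζ : ∀ a b, ζ (a + b) = ζ a * ζ b) (lam : AddChar A ℂ) :
    IsCharacter (invStab ζ lam) (fun g : invStab ζ lam => isoAvg ζ lam χ (g : G)) := by
  obtain ⟨n, ρ, rfl⟩ := hχ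
  have hPP := avgOp_mul_self ρ ζ hζ lam
  -- the restriction of `ρ` to the stabiliser
  let ρS : Representation ℂ (invStab ζ lam) (Fin n → ℂ) := MonoidHom.comp ρ (invStab ζ lam).subtype
  have hρS : ∀ s : invStab ζ lam, ρS s = ρ (s : G) := fun s => rfl
  have hfix : ∀ w ∈ LinearMap.range (avgOp ρ ζ lam), avgOp ρ ζ lam w = w := by
    rintro w ⟨x, rfl⟩
    have := congrArg (fun f : Module.End ℂ (Fin n → ℂ) => f x) hPP
    exact this
  let W : Subrepresentation ρS :=
    { toSubmodule := LinearMap.range (avgOp ρ ζ lam)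
      apply_mem_toSubmodule := by
        rintro s v ⟨x, rfl⟩
        refine ⟨ρ (s : G) x, ?_⟩
        have := congrArg (fun f : Module.End ℂ (Fin n → ℂ) => f x) (avgOp_comm ρ ζ lam s.2)
        exact this.symm }
  have hchar := Cfsg.Agent.Lib.Helper1.isCharacter_character W.toRepresentation
  have heq : W.toRepresentation.character = fun g : invStab ζ lam => isoAvg ζ lam ρ.character (g : G) := by
    funext s
    rw [← trace_avgOp_mul]
    have hf : ∀ x, (avgOp ρ ζ lam * ρ (s : G)) x ∈ LinearMap.range (avgOp ρ ζ lam) :=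
      fun x => ⟨ρ (s : G) x, rfl⟩
    rw [← LinearMap.trace_restrict_eq_of_forall_mem (LinearMap.range (avgOp ρ ζ lam))
      (avgOp ρ ζ lam * ρ (s : G)) hf]
    show LinearMap.trace ℂ _ (W.toRepresentation s) = _
    congr 1
    apply LinearMap.ext
    rintro ⟨w, hw⟩
    apply Subtype.ext
    show ρ (s : G) w = avgOp ρ ζ lam (ρ (s : G) w)
    have h1 := congrArg (fun f : Module.End ℂ (Fin n → ℂ) => f w) (avgOp_comm ρ ζ lam s.2)
    have h2 : ρ (s : G) (avgOp ρ ζ lam w) = avgOp ρ ζ lam (ρ (s : G) w) := h1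
    rw [← h2, hfix w hw]
  rw [← heq]
  exact hchar

/-- A2: if `lam` has multiplicity one, commutators of the stabiliser act trivially on its line. -/
theorem isoAvg_commutator_eq_one {χ : G → ℂ} (hχ : IsCharacter G χ) (ζ : A → G)
    (hζ : ∀ a b, ζ (a + b) = ζ a * ζ b) (lam : AddChar A ℂ) (h1 : isoAvg ζ lam χ 1 = 1)
    {a b : G} (ha : a ∈ invStab ζ lam) (hb : b ∈ invStab ζ lam) :
    isoAvg ζ lam χ (a * b * a⁻¹ * b⁻¹) = 1 := by
  obtain ⟨n, σ, hσ⟩ := isCharacter_isoAvg_invStab hχ ζ hζ lam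
  have hn : n = 1 := by
    have h := congrFun hσ 1
    rw [Representation.char_one] at h
    have h' : ((Module.finrank ℂ (Fin n → ℂ) : ℕ) : ℂ) = 1 := h.trans h1
    rw [Module.finrank_fin_fun] at h'
    exact_mod_cast h'
  subst hn
  have hmul : ∀ x y : invStab ζ lam, isoAvg ζ lam χ ((x * y : invStab ζ lam) : G) =
      isoAvg ζ lam χ (x : G) * isoAvg ζ lam χ (y : G) := by
    intro x y
    have h := Cfsg.Agent.Lib.Helper1.character_mul_of_dim_one σ x y
    rw [hσ] at h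
    exact h
  have hinv : ∀ x : invStab ζ lam, isoAvg ζ lam χ (x : G) * isoAvg ζ lam χ ((x⁻¹ : invStab ζ lam) : G) = 1 := by
    intro x
    rw [← hmul, mul_inv_cancel]
    exact h1
  have e : a * b * a⁻¹ * b⁻¹ = (((⟨a, ha⟩ : invStab ζ lam) * ⟨b, hb⟩ * (⟨a, ha⟩ : invStab ζ lam)⁻¹ *
      (⟨b, hb⟩ : invStab ζ lam)⁻¹ : invStab ζ lam) : G) := rfl
  rw [e, hmul, hmul, hmul]
  have ea := hinv ⟨a, ha⟩
  have eb := hinv ⟨b, hb⟩
  calc _ = (isoAvg ζ lam χ ((⟨a, ha⟩ : invStab ζ lam) : G) *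
        isoAvg ζ lam χ (((⟨a, ha⟩ : invStab ζ lam)⁻¹ : invStab ζ lam) : G)) *
        (isoAvg ζ lam χ ((⟨b, hb⟩ : invStab ζ lam) : G) *
        isoAvg ζ lam χ (((⟨b, hb⟩ : invStab ζ lam)⁻¹ : invStab ζ lam) : G)) := by ring
    _ = 1 := by rw [ea, eb, one_mul]

/-- G1: a character not constant on `{1, g}` has an irreducible constituent with the same property. -/
theorem exists_constituent_ne {ψ : G → ℂ} (hψ : IsCharacter G ψ) (g : G) (hg : ψ g ≠ ψ 1) :
    ∃ θ : G → ℂ, IsIrrCharacter G θ ∧ θ g ≠ θ 1 ∧ ∃ k l : ℕ, θ 1 = k ∧ ψ 1 = l ∧ k ≤ l := by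
  classical
  have : Fintype (IrrCharacter G) := Fintype.ofFinite _
  have hexp := Cfsg.Agent.Lib.Helper1.class_function_expansion ψ
    (Cfsg.Agent.Lib.Helper4.isClassFunction_of_isCharacter hψ)
  choose m hm using fun χ : IrrCharacter G => Cfsg.Agent.Lib.Helper1.classInner_char_irr_nat hψ χ.2
  choose d hdpos hd using fun χ : IrrCharacter G => Cfsg.Agent.Lib.Helper4.irr_apply_one_pos χ.2
  have hval : ∀ x : G, ψ x = ∑ χ : IrrCharacter G, (m χ : ℂ) * (χ : G → ℂ) x := by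
    intro x
    have h := congrFun hexp x
    rw [Finset.sum_apply] at h
    simp only [Pi.smul_apply, smul_eq_mul, hm] at h
    exact h
  obtain ⟨θ, hmθ, hθg⟩ : ∃ θ : IrrCharacter G, m θ ≠ 0 ∧ (θ : G → ℂ) g ≠ (θ : G → ℂ) 1 := by
    by_contra hcon
    simp only [not_exists, not_and, not_not] at hcon
    apply hg
    rw [hval g, hval 1]
    refine Finset.sum_congr rfl (fun χ _ => ?_)
    by_cases h0 : m χ = 0
    · rw [h0, Nat.cast_zero, zero_mul, zero_mul]
    · rw [hcon χ h0]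
  refine ⟨θ, θ.2, hθg, d θ, ∑ χ : IrrCharacter G, m χ * d χ, hd θ, ?_, ?_⟩
  · rw [hval 1, Nat.cast_sum]
    refine Finset.sum_congr rfl (fun χ _ => ?_)
    rw [hd χ, Nat.cast_mul]
  · calc d θ ≤ m θ * d θ := Nat.le_mul_of_pos_left _ (Nat.pos_of_ne_zero hmθ)
      _ ≤ ∑ χ : IrrCharacter G, m χ * d χ :=
        Finset.single_le_sum (f := fun χ : IrrCharacter G => m χ * d χ) (fun _ _ => Nat.zero_le _)
          (Finset.mem_univ θ)

end PKA

end Cfsg.Agent.Lib.Helper4.SLMin
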