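import Mathlib
import Cfsg.Prelude.Def_Characters
import Cfsg.Agent.Lib.Helper4.SLMin.Defs
import Cfsg.Agent.Lib.Helper6.SLMin_B

set_option autoImplicit false
set_option linter.unusedSectionVars false

/-!
# S2332, package PK-D2: the root group `Y = emb (1 + t e_0 e_1ᵀ)` consists of commutators of the stabiliser of
`lamU ψ0 u` (`u ≠ 0`, `u 1 = 0`), unless `(n, q)` is exceptional
-/

namespace Cfsg.Agent.Lib.Helper4.SLMin

open Matrix Cfsg Cfsg.Agent.H9SLRoot Cfsg.Agent.Lib.Helper1.SUMin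
open scoped ComplexConjugate

universe u

variable {F : Type u} [Field F] [Fintype F] [DecidableEq F]

local notation "q" => Fintype.card F

namespace PkD2

/-! ## generalities -/

theorem e_dot {k : ℕ} (j : Fin k) (u : Fin k → F) : (e j : Fin k → F) ⬝ᵥ u = u j := by
  rw [e, single_dotProduct, one_mul]

theorem dot_e {k : ℕ} (j : Fin k) (u : Fin k → F) : u ⬝ᵥ (e j : Fin k → F) = u j := by
  rw [e, dotProduct_single, mul_one]

/-- the reduction to the small group -/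
theorem of_small {m : ℕ} (ψ0 : AddChar F ℂ) (u : Fin (m + 1) → F) (t : F)
    (H : ∃ a b : SpecialLinearGroup (Fin (m + 1)) F,
      (a : Matrix (Fin (m + 1)) (Fin (m + 1)) F) *ᵥ u = u ∧
      (b : Matrix (Fin (m + 1)) (Fin (m + 1)) F) *ᵥ u = u ∧
      a * b * a⁻¹ * b⁻¹ = tauE m t) :
    ∃ a b : SpecialLinearGroup (Fin (m + 2)) F,
      a ∈ invStab (qrow : (Fin (m + 1) → F) → _) (lamU ψ0 u) ∧
      b ∈ invStab (qrow : (Fin (m + 1) → F) → _) (lamU ψ0 u) ∧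
      a * b * a⁻¹ * b⁻¹ = emb (m + 1) (tauE m t) := by
  obtain ⟨a, b, ha, hb, hab⟩ := H
  refine ⟨emb (m + 1) a, emb (m + 1) b, emb_mem_invStab ψ0 u a ha, emb_mem_invStab ψ0 u b hb, ?_⟩
  rw [← hab, map_mul, map_mul, map_mul, map_inv, map_inv]

/-- case (i): some coordinate `u j`, `j ≥ 2`, vanishes -/
theorem small_case_one {k : ℕ} (u : Fin (k + 2) → F) (hu1 : u 1 = 0) (t : F) (j : Fin (k + 2))
    (hj0 : j ≠ 0) (hj1 : j ≠ 1) (huj : u j = 0) :
    ∃ a b : SpecialLinearGroup (Fin (k + 2)) F,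
      (a : Matrix (Fin (k + 2)) (Fin (k + 2)) F) *ᵥ u = u ∧
      (b : Matrix (Fin (k + 2)) (Fin (k + 2)) F) *ᵥ u = u ∧
      a * b * a⁻¹ * b⁻¹ = tv (e 0) (e 1) t := by
  have hx : (e 1 : Fin (k + 2) → F) ⬝ᵥ e j = 0 := e_dot_e_ne (Ne.symm hj1)
  have hy : (e j : Fin (k + 2) → F) ⬝ᵥ e 0 = 0 := e_dot_e_ne hj0
  have h2 : (e 1 : Fin (k + 2) → F) ⬝ᵥ e 0 = 0 := e_dot_e_ne (by simp)
  refine ⟨tv (e j) (e 1) (-t), tv (e 0) (e j) 1, ?_, ?_, ?_⟩
  · rw [tv_mulVec hx, e_dot, hu1, mul_zero, zero_smul, add_zero]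
  · rw [tv_mulVec hy, e_dot, huj, mul_zero, zero_smul, add_zero]
  · rw [tv_commutator hx hy h2, e_dot_e_self]
    congr 1
    ring

/-- case (ii): two coordinates `j ≠ l`, both `≥ 2`, with `u l ≠ 0` -/
theorem small_case_two {k : ℕ} (u : Fin (k + 2) → F) (hu1 : u 1 = 0) (t : F) (j l : Fin (k + 2))
    (hj0 : j ≠ 0) (hj1 : j ≠ 1) (hl0 : l ≠ 0) (hjl : j ≠ l) (hul : u l ≠ 0) :
    ∃ a b : SpecialLinearGroup (Fin (k + 2)) F,
      (a : Matrix (Fin (k + 2)) (Fin (k + 2)) F) *ᵥ u = u ∧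
      (b : Matrix (Fin (k + 2)) (Fin (k + 2)) F) *ᵥ u = u ∧
      a * b * a⁻¹ * b⁻¹ = tv (e 0) (e 1) t := by
  have hx : (e 1 : Fin (k + 2) → F) ⬝ᵥ ((u l)⁻¹ • e j) = 0 := by
    rw [dotProduct_smul, e_dot_e_ne (Ne.symm hj1), smul_zero]
  have hy : (u l • (e j : Fin (k + 2) → F) - u j • e l) ⬝ᵥ e 0 = 0 := by
    rw [sub_dotProduct, smul_dotProduct, smul_dotProduct, e_dot_e_ne hj0, e_dot_e_ne hl0, smul_zero,
      smul_zero, sub_zero]
  have h2 : (e 1 : Fin (k + 2) → F) ⬝ᵥ e 0 = 0 := e_dot_e_ne (by simp)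
  have hψx : (u l • (e j : Fin (k + 2) → F) - u j • e l) ⬝ᵥ ((u l)⁻¹ • e j) = 1 := by
    rw [sub_dotProduct, smul_dotProduct, smul_dotProduct, dotProduct_smul, dotProduct_smul, e_dot_e_self,
      e_dot_e_ne (Ne.symm hjl)]
    simp only [smul_eq_mul, mul_one, mul_zero, sub_zero]
    exact mul_inv_cancel₀ hul
  refine ⟨tv ((u l)⁻¹ • e j) (e 1) (-t), tv (e 0) (u l • (e j : Fin (k + 2) → F) - u j • e l) 1, ?_, ?_, ?_⟩
  · rw [tv_mulVec hx, e_dot, hu1, mul_zero, zero_smul, add_zero]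
  · have h0 : (u l • (e j : Fin (k + 2) → F) - u j • e l) ⬝ᵥ u = 0 := by
      rw [sub_dotProduct, smul_dotProduct, smul_dotProduct, e_dot, e_dot, smul_eq_mul, smul_eq_mul]
      ring
    rw [tv_mulVec hy, h0, mul_zero, zero_smul, add_zero]
  · rw [tv_commutator hx hy h2, hψx]
    congr 1
    ring

/-! ## diagonal elements -/

/-- diagonal elements of `SL` -/
noncomputable def dg {k : ℕ} (c : Fin k → F) (h : ∏ i, c i = 1) : SpecialLinearGroup (Fin k) F :=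
  ⟨Matrix.diagonal c, by rw [Matrix.det_diagonal]; exact h⟩

theorem dg_coe {k : ℕ} (c : Fin k → F) (h : ∏ i, c i = 1) :
    ((dg c h : SpecialLinearGroup (Fin k) F) : Matrix (Fin k) (Fin k) F) = Matrix.diagonal c := rfl

theorem dg_ne_zero {k : ℕ} (c : Fin k → F) (h : ∏ i, c i = 1) (i : Fin k) : c i ≠ 0 := by
  intro h0
  have : ∏ i, c i = 0 := Finset.prod_eq_zero (Finset.mem_univ i) h0
  rw [h] at this
  exact one_ne_zero this

theorem dg_inv_prod {k : ℕ} (c : Fin k → F) (h : ∏ i, c i = 1) : ∏ i, (c i)⁻¹ = 1 := by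
  rw [Finset.prod_inv_distrib, h, inv_one]

theorem dg_inv {k : ℕ} (c : Fin k → F) (h : ∏ i, c i = 1) :
    (dg c h)⁻¹ = dg (fun i => (c i)⁻¹) (dg_inv_prod c h) := by
  apply inv_eq_of_mul_eq_one_right
  apply Subtype.ext
  rw [Matrix.SpecialLinearGroup.coe_mul, dg_coe, dg_coe, Matrix.diagonal_mul_diagonal,
    Matrix.SpecialLinearGroup.coe_one]
  have : (fun i => c i * (c i)⁻¹) = fun _ => (1 : F) := by
    funext i
    exact mul_inv_cancel₀ (dg_ne_zero c h i)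
  rw [this, Matrix.diagonal_one]

theorem dg_mulVec {k : ℕ} (c : Fin k → F) (h : ∏ i, c i = 1) (v : Fin k → F) :
    ((dg c h : SpecialLinearGroup (Fin k) F) : Matrix (Fin k) (Fin k) F) *ᵥ v = fun i => c i * v i := by
  funext i
  rw [dg_coe, Matrix.mulVec_diagonal]

theorem vecMul_dg {k : ℕ} (c : Fin k → F) (h : ∏ i, c i = 1) (v : Fin k → F) :
    v ᵥ* ((dg c h : SpecialLinearGroup (Fin k) F) : Matrix (Fin k) (Fin k) F) = fun i => v i * c i := by
  funext i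
  rw [dg_coe, Matrix.vecMul_diagonal]

theorem dg_mulVec_e {k : ℕ} (c : Fin k → F) (h : ∏ i, c i = 1) (a : Fin k) :
    ((dg c h : SpecialLinearGroup (Fin k) F) : Matrix (Fin k) (Fin k) F) *ᵥ (e a : Fin k → F) =
      c a • e a := by
  rw [dg_mulVec]
  funext i
  by_cases hi : i = a
  · subst hi; simp [e]
  · simp [e, Pi.single_eq_of_ne hi]

/-- conjugating a transvection with centre `e a` by a diagonal element -/
theorem dg_conj_tv {k : ℕ} (c : Fin k → F) (h : ∏ i, c i = 1) (a : Fin k) (φ : Fin k → F) (s : F) :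
    dg c h * tv (e a) φ s * (dg c h)⁻¹ = tv (e a) (fun i => c a * (φ i * (c i)⁻¹)) s := by
  rw [tv_conj, dg_mulVec_e, dg_inv, vecMul_dg]
  have h1 : tv (c a • (e a : Fin k → F)) (fun i => φ i * (c i)⁻¹) s =
      tv (e a) (fun i => φ i * (c i)⁻¹) (c a * 1 * s) := by
    have := tv_smul (c a) (1 : F) (e a : Fin k → F) (fun i => φ i * (c i)⁻¹) s
    rwa [one_smul] at this
  have h2 : tv (e a : Fin k → F) (fun i => c a * (φ i * (c i)⁻¹)) s =
      tv (e a) (fun i => φ i * (c i)⁻¹) (1 * c a * s) := by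
    have := tv_smul (1 : F) (c a) (e a : Fin k → F) (fun i => φ i * (c i)⁻¹) s
    rw [one_smul] at this
    exact this
  rw [h1, h2, mul_one, one_mul]

theorem dg_conj_tv_e {k : ℕ} (c : Fin k → F) (h : ∏ i, c i = 1) (a b : Fin k) (s : F) :
    dg c h * tv (e a) (e b) s * (dg c h)⁻¹ = tv (e a) (e b) (c a * (c b)⁻¹ * s) := by
  rw [dg_conj_tv]
  have h1 : (fun i => c a * ((e b : Fin k → F) i * (c i)⁻¹)) = (c a * (c b)⁻¹) • (e b : Fin k → F) := by
    funext i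
    by_cases hi : i = b
    · subst hi; simp [e]
    · simp [e, Pi.single_eq_of_ne hi]
  rw [h1]
  have := tv_smul (1 : F) (c a * (c b)⁻¹) (e a : Fin k → F) (e b) s
  rw [one_smul] at this
  rw [this, one_mul]

/-- coordinatewise scaling as an additive equivalence -/
def scaleEquiv {k : ℕ} (s : Fin k → F) (hs : ∀ i, s i ≠ 0) : (Fin k → F) ≃+ (Fin k → F) where
  toFun w := fun i => s i * w i
  invFun w := fun i => (s i)⁻¹ * w i
  left_inv w := by
    funext i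
    show (s i)⁻¹ * (s i * w i) = w i
    rw [← mul_assoc, inv_mul_cancel₀ (hs i), one_mul]
  right_inv w := by
    funext i
    show s i * ((s i)⁻¹ * w i) = w i
    rw [← mul_assoc, mul_inv_cancel₀ (hs i), one_mul]
  map_add' w w' := by
    funext i
    show s i * (w i + w' i) = s i * w i + s i * w' i
    rw [mul_add]

theorem scaleEquiv_apply {k : ℕ} (s : Fin k → F) (hs : ∀ i, s i ≠ 0) (w : Fin k → F) (i : Fin k) :
    scaleEquiv s hs w i = s i * w i := rfl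

/-- a diagonal element lies in the stabiliser of `lamU ψ0 u` when it does not move the support of `u` -/
theorem dg_mem_invStab {m : ℕ} (ψ0 : AddChar F ℂ) (u : Fin m → F) (c : Fin (m + 1) → F)
    (h : ∏ i, c i = 1) (hu : ∀ j, u j * (c 0 * (c j.succ)⁻¹) = u j) :
    dg c h ∈ invStab (qrow : (Fin m → F) → SpecialLinearGroup (Fin (m + 1)) F) (lamU ψ0 u) := by
  have hs : ∀ j : Fin m, c 0 * (c j.succ)⁻¹ ≠ 0 := fun j =>
    mul_ne_zero (dg_ne_zero c h 0) (inv_ne_zero (dg_ne_zero c h j.succ))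
  refine ⟨scaleEquiv (fun j => c 0 * (c j.succ)⁻¹) hs, fun w => ?_, fun w => ?_⟩
  · rw [qrow, dg_conj_tv, qrow]
    congr 1
    funext i
    refine Fin.cases ?_ (fun j => ?_) i
    · simp [ext0]
    · simp only [ext0, Fin.cons_succ, scaleEquiv_apply]
      ring
  · rw [lamU_apply, lamU_apply]
    congr 1
    simp only [dotProduct, scaleEquiv_apply]
    refine Finset.sum_congr rfl (fun j _ => ?_)
    rw [← mul_assoc, hu j]

/-! ## field elements -/

theorem exists_pow_ne_one (r : ℕ) (hr : ¬ (Fintype.card F - 1) ∣ r) :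
    ∃ d : F, d ≠ 0 ∧ d ^ r ≠ 1 := by
  obtain ⟨g, hg⟩ := IsCyclic.exists_ofOrder_eq_natCard (α := Fˣ)
  refine ⟨(g : F), g.ne_zero, fun h => hr ?_⟩
  have h1 : g ^ r = 1 := Units.ext (by rw [Units.val_pow_eq_pow_val, h, Units.val_one])
  have h2 := orderOf_dvd_of_pow_eq_one h1
  rw [hg, Nat.card_units, Nat.card_eq_fintype_card] at h2
  exact h2

/-- case (iii): `n = 4`, `u 2 ≠ 0`, `q ≥ 4` -/
theorem small_case_three (u : Fin 3 → F) (hu1 : u 1 = 0) (hu2 : u 2 ≠ 0) (t c : F) (hc0 : c ≠ 0)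
    (hc : c ^ 2 ≠ 1) :
    ∃ a b : SpecialLinearGroup (Fin 3) F,
      (a : Matrix (Fin 3) (Fin 3) F) *ᵥ u = u ∧
      (b : Matrix (Fin 3) (Fin 3) F) *ᵥ u = u ∧
      a * b * a⁻¹ * b⁻¹ = tv (e 0) (e 1) t := by
  have h02 : (e 2 : Fin 3 → F) ⬝ᵥ e 0 = 0 := e_dot_e_ne (by decide)
  have h01 : (e 1 : Fin 3 → F) ⬝ᵥ e 0 = 0 := e_dot_e_ne (by decide)
  have hprod : ∏ i, (![c, c⁻¹, 1] : Fin 3 → F) i = 1 := by
    rw [Fin.prod_univ_three]
    simp [hc0]
  have hcomm : ∀ r s : F, tv (e 0 : Fin 3 → F) (e 2) r * tv (e 0) (e 1) s =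
      tv (e 0) (e 1) s * tv (e 0) (e 2) r := fun r s => tv_comm h02 h01 h01 h02 r s
  have hc1 : c ^ 2 - 1 ≠ 0 := sub_ne_zero.mpr hc
  refine ⟨tv (e 0) (e 2) (u 0 / u 2) * dg ![c, c⁻¹, 1] hprod * (tv (e 0) (e 2) (u 0 / u 2))⁻¹,
    tv (e 0) (e 1) (t / (c ^ 2 - 1)), ?_, ?_, ?_⟩
  · rw [coe_mul_mulVec, coe_mul_mulVec]
    have hw : ((tv (e 0 : Fin 3 → F) (e 2) (u 0 / u 2))⁻¹ : SpecialLinearGroup (Fin 3) F).1 *ᵥ u =
        u + (-(u 0 / u 2) * u 2) • (e 0 : Fin 3 → F) := by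
      rw [tv_inv]
      rw [tv_mulVec h02, e_dot]
    have hD : ((dg ![c, c⁻¹, 1] hprod : SpecialLinearGroup (Fin 3) F) : Matrix (Fin 3) (Fin 3) F) *ᵥ
        (u + (-(u 0 / u 2) * u 2) • (e 0 : Fin 3 → F)) = u + (-(u 0 / u 2) * u 2) • (e 0 : Fin 3 → F) := by
      rw [dg_mulVec]
      funext i
      fin_cases i
      · simp [e]
        field_simp
        ring
      · simp [e, hu1]
      · simp [e]
    change ((tv (e 0 : Fin 3 → F) (e 2) (u 0 / u 2) : SpecialLinearGroup (Fin 3) F) :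
        Matrix (Fin 3) (Fin 3) F) *ᵥ (((dg ![c, c⁻¹, 1] hprod : SpecialLinearGroup (Fin 3) F) :
        Matrix (Fin 3) (Fin 3) F) *ᵥ (((tv (e 0 : Fin 3 → F) (e 2) (u 0 / u 2))⁻¹ :
        SpecialLinearGroup (Fin 3) F).1 *ᵥ u)) = u
    rw [hw, hD, ← hw]
    exact mulVec_inv_mulVec _ _
  · rw [tv_mulVec h01, e_dot, hu1, mul_zero, zero_smul, add_zero]
  · have hconj : ∀ s : F, tv (e 0 : Fin 3 → F) (e 2) (u 0 / u 2) * dg ![c, c⁻¹, 1] hprod *
        (tv (e 0) (e 2) (u 0 / u 2))⁻¹ * tv (e 0) (e 1) s *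
        (tv (e 0 : Fin 3 → F) (e 2) (u 0 / u 2) * dg ![c, c⁻¹, 1] hprod *
        (tv (e 0) (e 2) (u 0 / u 2))⁻¹)⁻¹ = tv (e 0) (e 1) (c * (c⁻¹)⁻¹ * s) := by
      intro s
      have e1 : (tv (e 0 : Fin 3 → F) (e 2) (u 0 / u 2))⁻¹ * tv (e 0) (e 1) s *
          tv (e 0) (e 2) (u 0 / u 2) = tv (e 0) (e 1) s := by
        rw [mul_assoc, ← hcomm, ← mul_assoc, inv_mul_cancel, one_mul]
      have e2 : dg ![c, c⁻¹, 1] hprod * tv (e 0 : Fin 3 → F) (e 1) s * (dg ![c, c⁻¹, 1] hprod)⁻¹ =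
          tv (e 0) (e 1) (c * (c⁻¹)⁻¹ * s) := by
        rw [dg_conj_tv_e]
        simp
      have e3 : tv (e 0 : Fin 3 → F) (e 2) (u 0 / u 2) * tv (e 0) (e 1) (c * (c⁻¹)⁻¹ * s) *
          (tv (e 0) (e 2) (u 0 / u 2))⁻¹ = tv (e 0) (e 1) (c * (c⁻¹)⁻¹ * s) := by
        rw [hcomm, mul_assoc, mul_inv_cancel, mul_one]
      calc _ = tv (e 0 : Fin 3 → F) (e 2) (u 0 / u 2) * (dg ![c, c⁻¹, 1] hprod *
            ((tv (e 0 : Fin 3 → F) (e 2) (u 0 / u 2))⁻¹ * tv (e 0) (e 1) s *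
            tv (e 0) (e 2) (u 0 / u 2)) * (dg ![c, c⁻¹, 1] hprod)⁻¹) *
            (tv (e 0) (e 2) (u 0 / u 2))⁻¹ := by group
        _ = _ := by rw [e1, e2, e3]
    rw [hconj, tv_inv, tv_mul]
    congr 1
    rw [inv_inv]
    field_simp
    ring

/-- case (iv): `n = 3`, `q ∉ {2, 4}` -/
theorem case_four (ψ0 : AddChar F ℂ) (u : Fin 2 → F) (hu1 : u 1 = 0) (t d : F) (hd0 : d ≠ 0)
    (hd : d ^ 3 ≠ 1) :
    ∃ a b : SpecialLinearGroup (Fin 3) F,
      a ∈ invStab (qrow : (Fin 2 → F) → SpecialLinearGroup (Fin 3) F) (lamU ψ0 u) ∧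
      b ∈ invStab (qrow : (Fin 2 → F) → SpecialLinearGroup (Fin 3) F) (lamU ψ0 u) ∧
      a * b * a⁻¹ * b⁻¹ = emb 2 (tauE 1 t) := by
  have hprod : ∏ i, (![d, d, d⁻¹ * d⁻¹] : Fin 3 → F) i = 1 := by
    rw [Fin.prod_univ_three]
    simp
    field_simp
  have h01 : (e 1 : Fin 2 → F) ⬝ᵥ e 0 = 0 := e_dot_e_ne (by decide)
  have hd1 : d ^ 3 - 1 ≠ 0 := sub_ne_zero.mpr hd
  have hemb : ∀ s : F, emb 2 (tauE 1 s : SpecialLinearGroup (Fin 2) F) = tv (e 1 : Fin 3 → F) (e 2) s := by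
    intro s
    rw [tauE, emb_tv, ext0_e, ext0_e]
    rfl
  refine ⟨dg ![d, d, d⁻¹ * d⁻¹] hprod, emb 2 (tauE 1 (t / (d ^ 3 - 1))), ?_, ?_, ?_⟩
  · refine dg_mem_invStab ψ0 u _ hprod (fun j => ?_)
    fin_cases j
    · simp [hd0]
    · simp [hu1]
  · refine emb_mem_invStab ψ0 u _ ?_
    rw [tauE, tv_mulVec h01, e_dot, hu1, mul_zero, zero_smul, add_zero]
  · rw [hemb, hemb, dg_conj_tv_e, tv_inv, tv_mul]
    congr 1
    simp
    field_simp
    ring

end PkD2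

open PkD2 in
/-- D2: the root group `Y = emb (1 + t e_0 e_1ᵀ)` consists of commutators of the stabiliser of
`lamU ψ0 u` for every `u ≠ 0` with `u 1 = 0`, unless `(n, q)` is exceptional -/
theorem exists_comm {m : ℕ} (hm : 1 ≤ m) (hex : ¬ IsExc (m + 2) q) (ψ0 : AddChar F ℂ)
    (u : Fin (m + 1) → F) (hu : u ≠ 0) (hu1 : u 1 = 0) (t : F) :
    ∃ a b : SpecialLinearGroup (Fin (m + 2)) F,
      a ∈ invStab (qrow : (Fin (m + 1) → F) → _) (lamU ψ0 u) ∧
      b ∈ invStab (qrow : (Fin (m + 1) → F) → _) (lamU ψ0 u) ∧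
      a * b * a⁻¹ * b⁻¹ = emb (m + 1) (tauE m t) := by
  have hq : 2 ≤ q := Fintype.one_lt_card
  obtain ⟨k, rfl⟩ : ∃ k, m = k + 1 := ⟨m - 1, by omega⟩
  rcases Nat.eq_zero_or_pos k with rfl | hk
  · -- `n = 3`
    have hq24 : q ≠ 2 ∧ q ≠ 4 := by
      simp [IsExc] at hex
      exact hex
    have hdvd : ¬ (q - 1) ∣ 3 := by
      intro h
      rcases (Nat.dvd_prime Nat.prime_three).mp h with h1 | h1
      · exact hq24.1 (by omega)
      · exact hq24.2 (by omega)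
    obtain ⟨d, hd0, hd⟩ := exists_pow_ne_one (F := F) 3 hdvd
    exact case_four ψ0 u hu1 t d hd0 hd
  · -- `n ≥ 4`
    apply of_small
    by_cases hz : ∃ j : Fin (k + 1 + 1), j ≠ 0 ∧ j ≠ 1 ∧ u j = 0
    · obtain ⟨j, hj0, hj1, huj⟩ := hz
      exact small_case_one u hu1 t j hj0 hj1 huj
    · simp only [not_exists, not_and] at hz
      rcases Nat.lt_or_ge 1 k with hk2 | hk1
      · -- two indices `≥ 2`
        have hj0 : (⟨2, by omega⟩ : Fin (k + 1 + 1)) ≠ 0 := by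
          intro h; have := congrArg Fin.val h; simp at this
        have hj1 : (⟨2, by omega⟩ : Fin (k + 1 + 1)) ≠ 1 := by
          intro h; have := congrArg Fin.val h; simp at this
        have hl0 : (⟨3, by omega⟩ : Fin (k + 1 + 1)) ≠ 0 := by
          intro h; have := congrArg Fin.val h; simp at this
        have hl1 : (⟨3, by omega⟩ : Fin (k + 1 + 1)) ≠ 1 := by
          intro h; have := congrArg Fin.val h; simp at this
        have hjl : (⟨2, by omega⟩ : Fin (k + 1 + 1)) ≠ ⟨3, by omega⟩ := by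
          intro h; have := congrArg Fin.val h; simp at this
        exact small_case_two u hu1 t ⟨2, by omega⟩ ⟨3, by omega⟩ hj0 hj1 hl0 hjl (hz _ hl0 hl1)
      · -- `n = 4`
        obtain rfl : k = 1 := by omega
        have hq23 : q ≠ 2 ∧ q ≠ 3 := by
          simp [IsExc] at hex
          exact hex
        have hdvd : ¬ (q - 1) ∣ 2 := by
          intro h
          rcases (Nat.dvd_prime Nat.prime_two).mp h with h1 | h1
          · exact hq23.1 (by omega)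
          · exact hq23.2 (by omega)
        obtain ⟨c, hc0, hc⟩ := exists_pow_ne_one (F := F) 2 hdvd
        have hu2 : u 2 ≠ 0 := hz 2 (by decide) (by decide)
        exact small_case_three u hu1 hu2 t c hc0 hc

end Cfsg.Agent.Lib.Helper4.SLMin
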