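import Mathlib
import Cfsg.Prelude.Def_LieExceptional

set_option autoImplicit false
set_option linter.unusedSectionVars false

/-!
Suzuki groups, part 1: fields with a Tits endomorphism `θ` (`θ ∘ θ` is squaring), basic identities.
-/

namespace Cfsg.Agent.Lib.Helper3.Sz

/-- A Tits endomorphism of a field: a ring endomorphism whose square is the squaring map. -/
structure Tits (F : Type*) [Field F] where
  /-- the endomorphism -/
  θ : F →+* F
  /-- its square is squaring -/
  sq : ∀ x, θ (θ x) = x ^ 2

variable {F : Type*} [Field F]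

theorem charP_two_of_card [Fintype F] {n : ℕ} (hF : Fintype.card F = 2 ^ n) :
    CharP F 2 := by
  obtain ⟨p, hp⟩ := CharP.exists F
  obtain ⟨k, hpr, hk⟩ := FiniteField.card F p
  have h2 : p ∣ 2 ^ n := by
    rw [← hF, hk]
    exact dvd_pow_self _ k.ne_zero
  have : p = 2 := (Nat.prime_dvd_prime_iff_eq hpr Nat.prime_two).mp (hpr.dvd_of_dvd_pow h2)
  subst this
  exact hp

/-- The Tits endomorphism `x ↦ x ^ 2 ^ (m+1)` of the field with `2 ^ (2m+1)` elements. -/
noncomputable def titsOfCard [Fintype F] [CharP F 2] {m : ℕ} (hF : Fintype.card F = 2 ^ (2 * m + 1)) :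
    Tits F where
  θ := iterateFrobenius F 2 (m + 1)
  sq x := by
    rw [iterateFrobenius_def, iterateFrobenius_def, ← pow_mul, ← pow_add]
    have : 2 ^ (m + 1 + (m + 1)) = Fintype.card F * 2 := by
      rw [hF]; ring
    rw [this, pow_mul, FiniteField.pow_card]

theorem titsOfCard_apply [Fintype F] [CharP F 2] {m : ℕ} (hF : Fintype.card F = 2 ^ (2 * m + 1))
    (x : F) : (titsOfCard hF).θ x = x ^ 2 ^ (m + 1) := by
  simp [titsOfCard, iterateFrobenius_def]

theorem Tits.injective (T : Tits F) : Function.Injective T.θ := T.θ.injective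

theorem Tits.bijective [Finite F] (T : Tits F) : Function.Bijective T.θ :=
  Finite.injective_iff_bijective.mp T.injective

theorem Tits.eq_zero_iff (T : Tits F) {x : F} : T.θ x = 0 ↔ x = 0 := map_eq_zero T.θ

variable [CharP F 2] (T : Tits F)

theorem sq_eq_sq_iff {x y : F} : x ^ 2 = y ^ 2 ↔ x = y := by
  constructor
  · intro h
    have : (x + y) ^ 2 = 0 := by
      rw [CharTwo.add_sq, h, CharTwo.add_self_eq_zero]
    have := pow_eq_zero_iff (two_ne_zero) |>.mp this
    exact (CharTwo.add_eq_zero.mp this)
  · rintro rfl; rfl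

theorem sq_eq_one_iff {x : F} : x ^ 2 = 1 ↔ x = 1 := by
  rw [← sq_eq_sq_iff (x := x) (y := 1), one_pow]

theorem exists_sq [Finite F] (y : F) : ∃ x : F, x ^ 2 = y := by
  have : Function.Injective (fun x : F => x ^ 2) := fun a b h => sq_eq_sq_iff.mp h
  exact (Finite.injective_iff_bijective.mp this).2 y

/-- The "norm" `x ↦ x * θ x` (that is `x ^ (σ + 1)`) is injective. -/
theorem Tits.norm_injective {x y : F} (h : x * T.θ x = y * T.θ y) : x = y := by
  by_cases hx : x = 0
  · subst hx
    simp only [map_zero, mul_zero] at h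
    rcases mul_eq_zero.mp h.symm with h | h
    · exact h.symm
    · exact (T.eq_zero_iff.mp h).symm
  · have hy : y ≠ 0 := by
      rintro rfl
      simp only [map_zero, mul_zero] at h
      rcases mul_eq_zero.mp h with h | h
      · exact hx h
      · exact hx (T.eq_zero_iff.mp h)
    have h2 : T.θ x * x ^ 2 = T.θ y * y ^ 2 := by
      have := congrArg T.θ h
      simpa [map_mul, T.sq] using this
    have hθx : T.θ x ≠ 0 := fun h => hx (T.eq_zero_iff.mp h)
    have hθy : T.θ y ≠ 0 := fun h => hy (T.eq_zero_iff.mp h)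
    -- x = (θ x x^2)/(x θ x)
    have e1 : x * (x * T.θ x) = T.θ x * x ^ 2 := by ring
    have e2 : y * (y * T.θ y) = T.θ y * y ^ 2 := by ring
    have hne : y * T.θ y ≠ 0 := mul_ne_zero hy hθy
    have : x * (y * T.θ y) = y * (y * T.θ y) := by
      rw [e2, ← h2, ← e1, h]
    exact mul_right_cancel₀ hne this

theorem Tits.norm_surjective [Finite F] (y : F) : ∃ x : F, x * T.θ x = y := by
  have : Function.Injective (fun x : F => x * T.θ x) := fun a b h => T.norm_injective h
  exact (Finite.injective_iff_bijective.mp this).2 y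

theorem Tits.norm_eq_one {x : F} (h : x * T.θ x = 1) : x = 1 := by
  apply T.norm_injective
  simpa using h

/-- `t + θ t = 1` has no solution. -/
theorem Tits.add_ne_one (t : F) : t + T.θ t ≠ 1 := by
  intro h
  have h1 : T.θ t = t + 1 := by
    have : T.θ t = 1 - t := by rw [← h]; ring
    rw [this, CharTwo.sub_eq_add, add_comm]
  have h2 : t ^ 2 = t := by
    have := congrArg T.θ h1
    rw [T.sq, map_add, map_one, h1, add_assoc, CharTwo.add_self_eq_zero, add_zero] at this
    exact this
  have h3 : t * (t + 1) = 0 := by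
    have : t * (t + 1) = t ^ 2 + t := by ring
    rw [this, h2, CharTwo.add_self_eq_zero]
  rcases mul_eq_zero.mp h3 with h0 | h0
  · subst h0
    simp at h1
  · have : t = 1 := by
      have := CharTwo.add_eq_zero.mp h0
      exact this
    subst this
    simp [CharTwo.add_self_eq_zero] at h1

/-- The defining function of the ovoid. -/
def Tits.f (x y : F) : F := x * y + T.θ x * x ^ 2 + T.θ y

theorem Tits.f_eq_zero_iff {x y : F} : T.f x y = 0 ↔ x = 0 ∧ y = 0 := by
  constructor
  · intro h
    by_cases hx : x = 0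
    · subst hx
      simp only [Tits.f, zero_mul, map_zero, ne_eq, OfNat.ofNat_ne_zero, not_false_eq_true, zero_pow,
        mul_zero, add_zero, zero_add] at h
      exact ⟨rfl, T.eq_zero_iff.mp h⟩
    · exfalso
      have hθx : T.θ x ≠ 0 := fun h => hx (T.eq_zero_iff.mp h)
      -- t = y / (x θ x)
      set t := y / (x * T.θ x) with ht
      have hy : y = t * (x * T.θ x) := by
        rw [ht, div_mul_cancel₀ _ (mul_ne_zero hx hθx)]
      apply T.add_ne_one t
      have h3 : (t + T.θ t + 1) * (T.θ x * x ^ 2) = 0 := by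
        have : (t + T.θ t + 1) * (T.θ x * x ^ 2) = T.f x y := by
          rw [Tits.f, hy]
          simp only [map_mul, T.sq]
          ring
        rw [this, h]
      rcases mul_eq_zero.mp h3 with h4 | h4
      · have := CharTwo.add_eq_zero.mp h4
        exact this
      · exfalso
        exact mul_ne_zero hθx (pow_ne_zero 2 hx) h4
  · rintro ⟨rfl, rfl⟩
    simp [Tits.f]

end Cfsg.Agent.Lib.Helper3.Sz
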