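import Mathlib
import Cfsg.Agent.Lib.Helper3.Sz1

set_option autoImplicit false
set_option linter.unusedSectionVars false

/-!
Suzuki groups, part 2: the matrices `u(a,b)`, `h(κ)`, `τ`, their products, and their action on the
points of the ovoid.
-/

namespace Cfsg.Agent.Lib.Helper3.Sz

open Matrix

variable {F : Type*} [Field F] [CharP F 2] (T : Tits F)

/-- the unipotent matrix `u(a,b)` -/
def uM (a b : F) : Matrix (Fin 4) (Fin 4) F :=
  !![1, a, a * T.θ a + b, T.f a b; 0, 1, T.θ a, b; 0, 0, 1, a; 0, 0, 0, 1]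

/-- the diagonal matrix `h(κ)` -/
def hM (k : F) : Matrix (Fin 4) (Fin 4) F :=
  !![T.θ k * k ^ 2, 0, 0, 0; 0, T.θ k, 0, 0; 0, 0, (T.θ k)⁻¹, 0; 0, 0, 0, (T.θ k * k ^ 2)⁻¹]

/-- the antidiagonal matrix `τ` -/
def tM : Matrix (Fin 4) (Fin 4) F :=
  !![0, 0, 0, 1; 0, 0, 1, 0; 0, 1, 0, 0; 1, 0, 0, 0]

theorem uM_mul (a b c d : F) : uM T a b * uM T c d = uM T (a + c) (b + d + T.θ a * c) := by
  ext i j
  fin_cases i <;> fin_cases j <;>
    simp [uM, Matrix.mul_apply, Fin.sum_univ_four, Tits.f, T.sq] <;> grind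

theorem uM_zero : uM T 0 0 = 1 := by
  ext i j
  fin_cases i <;> fin_cases j <;> simp [uM, Tits.f]

theorem hM_mul (k l : F) : hM T k * hM T l = hM T (k * l) := by
  ext i j
  fin_cases i <;> fin_cases j <;>
    simp [hM, Matrix.mul_apply, Fin.sum_univ_four] <;> ring

theorem hM_one : hM T 1 = 1 := by
  ext i j
  fin_cases i <;> fin_cases j <;> simp [hM]

theorem tM_mul_tM : (tM : Matrix (Fin 4) (Fin 4) F) * tM = 1 := by
  ext i j
  fin_cases i <;> fin_cases j <;> simp [tM, Matrix.mul_apply, Fin.sum_univ_four]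

theorem det_uM (a b : F) : (uM T a b).det = 1 := by
  simp [uM, Matrix.det_succ_row_zero, Fin.sum_univ_succ, Fin.succAbove]

theorem det_tM : (tM : Matrix (Fin 4) (Fin 4) F).det = 1 := by
  simp [tM, Matrix.det_succ_row_zero, Fin.sum_univ_succ, Fin.succAbove]
  norm_num

theorem det_hM {k : F} (hk : k ≠ 0) : (hM T k).det = 1 := by
  have h1 : T.θ k ≠ 0 := fun h => hk (T.eq_zero_iff.mp h)
  simp [hM, Matrix.det_succ_row_zero, Fin.sum_univ_succ, Fin.succAbove]
  field_simp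

/-- conjugation of `u(a,b)` by `h(κ)` -/
theorem hM_mul_uM {k : F} (hk : k ≠ 0) (a b : F) :
    hM T k * uM T a b = uM T (k ^ 2 * a) (T.θ k ^ 2 * k ^ 2 * b) * hM T k := by
  have h1 : T.θ k ≠ 0 := fun h => hk (T.eq_zero_iff.mp h)
  ext i j
  fin_cases i <;> fin_cases j <;>
    simp [hM, uM, Matrix.mul_apply, Fin.sum_univ_four, Tits.f, T.sq] <;> field_simp

/-- `τ` inverts `h(κ)` -/
theorem tM_mul_hM {k : F} (hk : k ≠ 0) : tM * hM T k = hM T k⁻¹ * tM := by
  have h1 : T.θ k ≠ 0 := fun h => hk (T.eq_zero_iff.mp h)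
  ext i j
  fin_cases i <;> fin_cases j <;>
    simp [hM, tM, Matrix.mul_apply, Fin.sum_univ_four] <;> ring

end Cfsg.Agent.Lib.Helper3.Sz
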