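import Mathlib
import Cfsg.Agent.Lib.Helper3.Sz2

set_option autoImplicit false
set_option linter.unusedSectionVars false

/-!
Suzuki groups, part 3: the ovoid, the elements `u(a,b)`, `h(κ)`, `τ` of `SL₄` and their action on
the ovoid.
-/

namespace Cfsg.Agent.Lib.Helper3.Sz

open Matrix

variable {F : Type*} [Field F] [CharP F 2] (T : Tits F)

local notation "SL4" => Matrix.SpecialLinearGroup (Fin 4) F
local notation "PP" => Projectivization F (Fin 4 → F)

/-- the affine ovoid vector -/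
def ovVec (x y : F) : Fin 4 → F := ![T.f x y, y, x, 1]

/-- the vector `(1,0,0,0)` -/
def e0 : Fin 4 → F := ![1, 0, 0, 0]

theorem ovVec_ne_zero (x y : F) : ovVec T x y ≠ 0 := by
  intro h
  have := congrFun h 3
  simp [ovVec] at this

theorem e0_ne_zero : (e0 : Fin 4 → F) ≠ 0 := by
  intro h
  have := congrFun h 0
  simp [e0] at this

/-- the affine point `P(x,y)` of the ovoid -/
noncomputable def pt (x y : F) : PP := Projectivization.mk F (ovVec T x y) (ovVec_ne_zero T x y)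

/-- the point at infinity -/
noncomputable def ptInf : PP := Projectivization.mk F e0 e0_ne_zero

/-- the ovoid -/
def ovoid : Set PP := {p | p = ptInf ∨ ∃ x y : F, p = pt T x y}

theorem ptInf_mem : (ptInf : PP) ∈ ovoid T := Or.inl rfl

theorem pt_mem (x y : F) : pt T x y ∈ ovoid T := Or.inr ⟨x, y, rfl⟩

theorem pt_ne_ptInf (x y : F) : pt T x y ≠ ptInf := by
  intro h
  rw [pt, ptInf, Projectivization.mk_eq_mk_iff'] at h
  obtain ⟨c, hc⟩ := h
  have h3 := congrFun hc 3
  simp [ovVec, e0] at h3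

theorem pt_injective {x y x' y' : F} (h : pt T x y = pt T x' y') : x = x' ∧ y = y' := by
  rw [pt, pt, Projectivization.mk_eq_mk_iff'] at h
  obtain ⟨c, hc⟩ := h
  have h3 := congrFun hc 3
  have h2 := congrFun hc 2
  have h1 := congrFun hc 1
  simp [ovVec] at h3 h2 h1
  rw [h3, one_mul] at h2 h1
  exact ⟨h2.symm, h1.symm⟩

theorem ovoid_eq_suzukiOvoid [Fintype F] {m : ℕ} (hF : Fintype.card F = 2 ^ (2 * m + 1)) :
    Cfsg.suzukiOvoid F m = ovoid (titsOfCard hF) := by
  ext p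
  constructor
  · rintro ⟨v, hv, rfl, h | ⟨x, y, h⟩⟩
    · subst h
      exact Or.inl rfl
    · subst h
      refine Or.inr ⟨x, y, ?_⟩
      simp only [pt, ovVec, Tits.f, titsOfCard_apply]
      congr 2
      ring
  · rintro (rfl | ⟨x, y, rfl⟩)
    · exact ⟨_, e0_ne_zero, rfl, Or.inl rfl⟩
    · refine ⟨_, ovVec_ne_zero _ x y, rfl, Or.inr ⟨x, y, ?_⟩⟩
      simp only [ovVec, Tits.f, titsOfCard_apply]
      congr 2
      ring

theorem smul_mk_of_mulVec (g : SL4) {v w : Fin 4 → F} (hv : v ≠ 0) (hw : w ≠ 0) (c : F)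
    (h : (g : Matrix (Fin 4) (Fin 4) F).mulVec v = c • w) :
    g • Projectivization.mk F v hv = Projectivization.mk F w hw := by
  rw [Projectivization.smul_mk, Projectivization.mk_eq_mk_iff']
  exact ⟨c, by rw [← h]; rfl⟩

/-- `u(a,b)` in `SL₄` -/
def uS (a b : F) : SL4 := ⟨uM T a b, det_uM T a b⟩

/-- `h(κ)` in `SL₄` -/
def hS (k : Fˣ) : SL4 := ⟨hM T (k : F), det_hM T k.ne_zero⟩

/-- `τ` in `SL₄` -/
def tS : SL4 := ⟨tM, det_tM⟩

theorem uS_mul (a b c d : F) : uS T a b * uS T c d = uS T (a + c) (b + d + T.θ a * c) := by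
  apply Subtype.ext
  simp only [uS]
  exact uM_mul T a b c d

theorem uS_zero : uS T 0 0 = 1 := by
  apply Subtype.ext
  simp only [uS, Matrix.SpecialLinearGroup.coe_one]
  exact uM_zero T

theorem uS_inv (a b : F) : (uS T a b)⁻¹ = uS T a (b + a * T.θ a) := by
  rw [inv_eq_iff_mul_eq_one, uS_mul]
  have h1 : a + a = 0 := CharTwo.add_self_eq_zero a
  have h2 : b + (b + a * T.θ a) + T.θ a * a = 0 := by
    have : b + (b + a * T.θ a) + T.θ a * a = (b + b) + (a * T.θ a + a * T.θ a) := by ring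
    rw [this, CharTwo.add_self_eq_zero, CharTwo.add_self_eq_zero, add_zero]
  rw [h1, h2, uS_zero]

theorem hS_mul (k l : Fˣ) : hS T k * hS T l = hS T (k * l) := by
  apply Subtype.ext
  simp only [hS, Units.val_mul]
  exact hM_mul T k l

theorem hS_one : hS T 1 = 1 := by
  apply Subtype.ext
  simp only [hS, Matrix.SpecialLinearGroup.coe_one, Units.val_one]
  exact hM_one T

theorem hS_inv (k : Fˣ) : (hS T k)⁻¹ = hS T k⁻¹ := by
  rw [inv_eq_iff_mul_eq_one, hS_mul, mul_inv_cancel, hS_one]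

theorem tS_mul_tS : (tS : SL4) * tS = 1 := by
  apply Subtype.ext
  simp only [tS, Matrix.SpecialLinearGroup.coe_one]
  exact tM_mul_tM

theorem tS_inv : (tS : SL4)⁻¹ = tS := by
  rw [inv_eq_iff_mul_eq_one, tS_mul_tS]

theorem hS_mul_uS (k : Fˣ) (a b : F) :
    hS T k * uS T a b = uS T ((k : F) ^ 2 * a) (T.θ k ^ 2 * (k : F) ^ 2 * b) * hS T k := by
  apply Subtype.ext
  simp only [hS, uS]
  exact hM_mul_uM T k.ne_zero a b

theorem tS_mul_hS (k : Fˣ) : tS * hS T k = hS T k⁻¹ * tS := by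
  apply Subtype.ext
  simp only [hS, tS, Units.val_inv_eq_inv_val]
  exact tM_mul_hM T k.ne_zero

/-! ### action on points -/

theorem uS_smul_ptInf (a b : F) : uS T a b • (ptInf : PP) = ptInf := by
  refine smul_mk_of_mulVec _ _ _ 1 ?_
  ext i
  fin_cases i <;> simp [uS, uM, e0, Matrix.mulVec, dotProduct, Fin.sum_univ_four]

theorem uS_smul_pt (a b x y : F) :
    uS T a b • pt T x y = pt T (x + a) (y + T.θ a * x + b) := by
  refine smul_mk_of_mulVec _ _ _ 1 ?_
  ext i
  fin_cases i <;>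
    simp [uS, uM, ovVec, Matrix.mulVec, dotProduct, Fin.sum_univ_four, Tits.f, T.sq] <;> grind

theorem hS_smul_ptInf (k : Fˣ) : hS T k • (ptInf : PP) = ptInf := by
  refine smul_mk_of_mulVec _ _ _ (T.θ k * (k : F) ^ 2) ?_
  ext i
  fin_cases i <;> simp [hS, hM, e0, Matrix.mulVec, dotProduct, Fin.sum_univ_four]

theorem hS_smul_pt (k : Fˣ) (x y : F) :
    hS T k • pt T x y = pt T ((k : F) ^ 2 * x) (T.θ k ^ 2 * (k : F) ^ 2 * y) := by
  have h1 : T.θ (k : F) ≠ 0 := fun h => k.ne_zero (T.eq_zero_iff.mp h)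
  have h2 : (k : F) ≠ 0 := k.ne_zero
  refine smul_mk_of_mulVec _ _ _ (T.θ k * (k : F) ^ 2)⁻¹ ?_
  ext i
  fin_cases i <;>
    simp [hS, hM, ovVec, Matrix.mulVec, dotProduct, Fin.sum_univ_four, Tits.f, T.sq] <;> field_simp

theorem tS_smul_ptInf : (tS : SL4) • (ptInf : PP) = pt T 0 0 := by
  refine smul_mk_of_mulVec _ _ _ 1 ?_
  ext i
  fin_cases i <;> simp [tS, tM, e0, ovVec, Matrix.mulVec, dotProduct, Fin.sum_univ_four, Tits.f]

theorem tS_smul_pt_zero : (tS : SL4) • pt T 0 0 = ptInf := by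
  refine smul_mk_of_mulVec _ _ _ 1 ?_
  ext i
  fin_cases i <;> simp [tS, tM, e0, ovVec, Matrix.mulVec, dotProduct, Fin.sum_univ_four, Tits.f]

/-- the key identity behind the invariance of the ovoid under `τ` -/
theorem Tits.f_identity (x y : F) :
    x * y * T.θ (T.f x y) + T.θ y * y ^ 2 + T.θ x * T.f x y ^ 2 = T.f x y * T.θ (T.f x y) := by
  simp only [Tits.f, map_add, map_mul, map_pow, T.sq]
  grind

theorem Tits.f_div {x y : F} (h : T.f x y ≠ 0) :
    T.f (y / T.f x y) (x / T.f x y) = (T.f x y)⁻¹ := by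
  have key := T.f_identity x y
  have h1 : T.θ (T.f x y) ≠ 0 := fun h' => h (T.eq_zero_iff.mp h')
  generalize T.f x y = f at *
  rw [Tits.f, map_div₀, map_div₀]
  have : y / f * (x / f) + T.θ y / T.θ f * (y / f) ^ 2 + T.θ x / T.θ f =
      (x * y * T.θ f + T.θ y * y ^ 2 + T.θ x * f ^ 2) / (f ^ 2 * T.θ f) := by
    field_simp
  rw [this, key]
  field_simp

theorem tS_smul_pt {x y : F} (h : T.f x y ≠ 0) :
    (tS : SL4) • pt T x y = pt T (y / T.f x y) (x / T.f x y) := by
  refine smul_mk_of_mulVec _ _ _ (T.f x y) ?_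
  have key := T.f_div h
  ext i
  fin_cases i
  · simp only [ovVec, key]
    simp [tS, tM, Matrix.mulVec, dotProduct, Fin.sum_univ_four, h]
  · simp [tS, tM, ovVec, Matrix.mulVec, dotProduct, Fin.sum_univ_four]
    field_simp
  · simp [tS, tM, ovVec, Matrix.mulVec, dotProduct, Fin.sum_univ_four]
    field_simp
  · simp [tS, tM, ovVec, Matrix.mulVec, dotProduct, Fin.sum_univ_four]

end Cfsg.Agent.Lib.Helper3.Sz
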