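import Mathlib
import Cfsg.Agent.Lib.Helper3.Sz3

set_option autoImplicit false
set_option linter.unusedSectionVars false

/-!
Suzuki groups, part 4: the stabiliser of the ovoid contains `u(a,b)`, `h(κ)`, `τ`; vanishing of
sparse polynomial functions; the two-point stabiliser is the torus.
-/

namespace Cfsg.Agent.Lib.Helper3.Sz

open Matrix
open scoped Pointwise

variable {F : Type*} [Field F]

local notation "SL4" => Matrix.SpecialLinearGroup (Fin 4) F
local notation "PP" => Projectivization F (Fin 4 → F)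

theorem coeff_eq_zero_of_forall_eval [Fintype F] {ι : Type*} (S : Finset ι) (c : ι → F) (n : ι → ℕ)
    (hn : Set.InjOn n S) (hlt : ∀ i ∈ S, n i < Fintype.card F)
    (h : ∀ x : F, ∑ i ∈ S, c i * x ^ n i = 0) : ∀ i ∈ S, c i = 0 := by
  classical
  set P : Polynomial F := ∑ i ∈ S, Polynomial.C (c i) * Polynomial.X ^ n i with hP
  have hdeg : P.natDegree < Fintype.card F := by
    have h1 : P.natDegree ≤ Fintype.card F - 1 := by
      apply Polynomial.natDegree_sum_le_of_forall_le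
      intro i hi
      exact (Polynomial.natDegree_C_mul_X_pow_le _ _).trans (Nat.le_sub_one_of_lt (hlt i hi))
    have : 0 < Fintype.card F := Fintype.card_pos
    omega
  have hP0 : P = 0 := by
    apply Polynomial.eq_zero_of_natDegree_lt_card_of_eval_eq_zero P (f := id) Function.injective_id
    · intro x
      simp only [hP, Polynomial.eval_finsetSum, Polynomial.eval_mul, Polynomial.eval_C,
        Polynomial.eval_pow, Polynomial.eval_X, id]
      exact h x
    · exact hdeg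
  intro i hi
  have := congrArg (fun p => p.coeff (n i)) hP0
  simp only [hP, Polynomial.finsetSum_coeff, Polynomial.coeff_C_mul, Polynomial.coeff_X_pow,
    Polynomial.coeff_zero] at this
  rw [Finset.sum_eq_single i] at this
  · simpa using this
  · intro j hj hji
    have : n i ≠ n j := fun h => hji (hn hj hi h.symm)
    simp [this]
  · intro h; exact absurd hi h

theorem four_term [Fintype F] (a b c d : F) (n1 n2 n3 n4 : ℕ)
    (h12 : n1 ≠ n2) (h13 : n1 ≠ n3) (h14 : n1 ≠ n4) (h23 : n2 ≠ n3) (h24 : n2 ≠ n4) (h34 : n3 ≠ n4)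
    (l1 : n1 < Fintype.card F) (l2 : n2 < Fintype.card F) (l3 : n3 < Fintype.card F)
    (l4 : n4 < Fintype.card F)
    (h : ∀ x : F, a * x ^ n1 + b * x ^ n2 + c * x ^ n3 + d * x ^ n4 = 0) :
    a = 0 ∧ b = 0 ∧ c = 0 ∧ d = 0 := by
  have := coeff_eq_zero_of_forall_eval (F := F) (Finset.univ : Finset (Fin 4)) ![a, b, c, d]
    ![n1, n2, n3, n4] ?_ ?_ ?_
  · exact ⟨this 0 (Finset.mem_univ _), this 1 (Finset.mem_univ _), this 2 (Finset.mem_univ _),
      this 3 (Finset.mem_univ _)⟩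
  · intro i _ j _ hij
    fin_cases i <;> fin_cases j <;> simp_all
  · intro i _
    fin_cases i <;> simp_all
  · intro x
    simpa [Fin.sum_univ_four] using h x

/-- The Tits endomorphism is a power map `x ↦ x ^ s` with `2 < s` and `s + 2 < |F|`. -/
def Tits.IsPow [Fintype F] (T : Tits F) : Prop :=
  ∃ s : ℕ, 2 < s ∧ s + 2 < Fintype.card F ∧ ∀ x, T.θ x = x ^ s

theorem titsOfCard_isPow [Fintype F] [CharP F 2] {m : ℕ} (hm : 1 ≤ m)
    (hF : Fintype.card F = 2 ^ (2 * m + 1)) : (titsOfCard hF).IsPow := by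
  refine ⟨2 ^ (m + 1), ?_, ?_, titsOfCard_apply hF⟩
  · calc 2 < 2 ^ 2 := by norm_num
      _ ≤ 2 ^ (m + 1) := Nat.pow_le_pow_right (by norm_num) (by omega)
  · rw [hF]
    have h1 : 2 ^ (2 * m + 1) = 2 ^ (m + 1) * 2 ^ m := by rw [← pow_add]; congr 1; omega
    have h2 : 2 ≤ 2 ^ m := by
      calc 2 = 2 ^ 1 := by norm_num
        _ ≤ 2 ^ m := Nat.pow_le_pow_right (by norm_num) hm
    have h3 : 4 ≤ 2 ^ (m + 1) := by
      calc 4 = 2 ^ 2 := by norm_num
        _ ≤ 2 ^ (m + 1) := Nat.pow_le_pow_right (by norm_num) (by omega)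
    rw [h1]
    nlinarith

variable [CharP F 2] (T : Tits F)

/-- the stabiliser of the ovoid in `SL₄` -/
abbrev Gam : Subgroup SL4 := MulAction.stabilizer SL4 (ovoid T)

theorem mem_Gam_of_maps {g : SL4} (h1 : ∀ p ∈ ovoid T, g • p ∈ ovoid T)
    (h2 : ∀ p ∈ ovoid T, g⁻¹ • p ∈ ovoid T) : g ∈ Gam T := by
  rw [MulAction.mem_stabilizer_iff]
  ext p
  constructor
  · rintro ⟨q, hq, rfl⟩
    exact h1 q hq
  · intro hp
    exact ⟨g⁻¹ • p, h2 p hp, by simp⟩

theorem smul_mem_ovoid {g : SL4} (hg : g ∈ Gam T) {p : PP} (hp : p ∈ ovoid T) :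
    g • p ∈ ovoid T := by
  have : g • ovoid T = ovoid T := hg
  rw [← this]
  exact Set.smul_mem_smul_set hp

theorem uS_mem (a b : F) : uS T a b ∈ Gam T := by
  have key : ∀ a b : F, ∀ p ∈ ovoid T, uS T a b • p ∈ ovoid T := by
    intro a b p hp
    rcases hp with rfl | ⟨x, y, rfl⟩
    · rw [uS_smul_ptInf]; exact ptInf_mem T
    · rw [uS_smul_pt]; exact pt_mem T _ _
  apply mem_Gam_of_maps T (key a b)
  rw [uS_inv]
  exact key _ _

theorem hS_mem (k : Fˣ) : hS T k ∈ Gam T := by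
  have key : ∀ k : Fˣ, ∀ p ∈ ovoid T, hS T k • p ∈ ovoid T := by
    intro k p hp
    rcases hp with rfl | ⟨x, y, rfl⟩
    · rw [hS_smul_ptInf]; exact ptInf_mem T
    · rw [hS_smul_pt]; exact pt_mem T _ _
  apply mem_Gam_of_maps T (key k)
  rw [hS_inv]
  exact key _

theorem tS_mem : (tS : SL4) ∈ Gam T := by
  have key : ∀ p ∈ ovoid T, (tS : SL4) • p ∈ ovoid T := by
    intro p hp
    rcases hp with rfl | ⟨x, y, rfl⟩
    · rw [tS_smul_ptInf T]; exact pt_mem T _ _
    · by_cases h : T.f x y = 0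
      · obtain ⟨rfl, rfl⟩ := T.f_eq_zero_iff.mp h
        rw [tS_smul_pt_zero]; exact ptInf_mem T
      · rw [tS_smul_pt T h]; exact pt_mem T _ _
  apply mem_Gam_of_maps T key
  rw [tS_inv]
  exact key

theorem exists_mulVec_of_smul_mk (g : SL4) {v w : Fin 4 → F} (hv : v ≠ 0) (hw : w ≠ 0)
    (h : g • Projectivization.mk F v hv = Projectivization.mk F w hw) :
    ∃ c : F, c ≠ 0 ∧ (g : Matrix (Fin 4) (Fin 4) F).mulVec v = c • w := by
  rw [Projectivization.smul_mk, Projectivization.mk_eq_mk_iff'] at h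
  obtain ⟨c, hc⟩ := h
  refine ⟨c, ?_, hc.symm⟩
  rintro rfl
  rw [zero_smul] at hc
  exact (smul_ne_zero_iff_ne g).mpr hv hc.symm

end Cfsg.Agent.Lib.Helper3.Sz
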