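import Mathlib
import Cfsg.Agent.Lib.Helper3.Sz4

set_option autoImplicit false
set_option linter.unusedSectionVars false

/-!
Suzuki groups, part 5: the key lemma: an element of the stabiliser of the ovoid fixing the points
`∞` and `0` is `h(κ)`.
-/

namespace Cfsg.Agent.Lib.Helper3.Sz

open Matrix
open scoped Pointwise

variable {F : Type*} [Field F] [CharP F 2] (T : Tits F)

local notation "SL4" => Matrix.SpecialLinearGroup (Fin 4) F
local notation "PP" => Projectivization F (Fin 4 → F)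

/-- the functional equation satisfied by a matrix stabilising the ovoid and fixing `∞`, `0` -/
theorem key_aux1 {g : SL4} (hg : g ∈ Gam T)
    (h0 : g • (ptInf : PP) = ptInf) (h1 : g • pt T 0 0 = pt T 0 0) :
    (g 1 0 = 0 ∧ g 2 0 = 0 ∧ g 3 0 = 0) ∧ (g 0 3 = 0 ∧ g 1 3 = 0 ∧ g 2 3 = 0) ∧ g 3 3 ≠ 0 ∧
    ∀ x y : F, ∃ c x' y' : F, c ≠ 0 ∧
      c = g 3 1 * y + g 3 2 * x + g 3 3 ∧
      c * x' = g 2 1 * y + g 2 2 * x ∧
      c * y' = g 1 1 * y + g 1 2 * x ∧
      c * T.f x' y' = g 0 0 * T.f x y + g 0 1 * y + g 0 2 * x := by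
  obtain ⟨c0, hc0, e0'⟩ := exists_mulVec_of_smul_mk g e0_ne_zero e0_ne_zero h0
  obtain ⟨c3, hc3, e3'⟩ := exists_mulVec_of_smul_mk g (ovVec_ne_zero T 0 0) (ovVec_ne_zero T 0 0) h1
  have a10 := congrFun e0' 1
  have a20 := congrFun e0' 2
  have a30 := congrFun e0' 3
  have a03 := congrFun e3' 0
  have a13 := congrFun e3' 1
  have a23 := congrFun e3' 2
  have a33 := congrFun e3' 3
  simp [e0, Matrix.mulVec, dotProduct, Fin.sum_univ_four] at a10 a20 a30
  simp [ovVec, Tits.f, Matrix.mulVec, dotProduct, Fin.sum_univ_four] at a03 a13 a23 a33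
  refine ⟨⟨a10, a20, a30⟩, ⟨a03, a13, a23⟩, by rw [a33]; exact hc3, ?_⟩
  intro x y
  have hmem : g • pt T x y ∈ ovoid T := smul_mem_ovoid T hg (pt_mem T x y)
  rcases hmem with hinf | ⟨x', y', hxy⟩
  · exfalso
    rw [← h0] at hinf
    exact pt_ne_ptInf T x y (smul_left_cancel g hinf)
  · obtain ⟨c, hc, e⟩ := exists_mulVec_of_smul_mk g (ovVec_ne_zero T x y) (ovVec_ne_zero T x' y') hxy
    have b0 := congrFun e 0
    have b1 := congrFun e 1
    have b2 := congrFun e 2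
    have b3 := congrFun e 3
    simp [ovVec, Matrix.mulVec, dotProduct, Fin.sum_univ_four, a10, a20, a30, a03, a13, a23] at b0 b1 b2 b3
    refine ⟨c, x', y', hc, ?_, ?_, ?_, ?_⟩
    · rw [← b3]
    · rw [← b2]
    · rw [← b1]
    · rw [← b0]

/-- the last row of such a matrix is `(0,0,0,δ)` and we get a functional equation -/
theorem key_aux2 {g : SL4} (hg : g ∈ Gam T)
    (h0 : g • (ptInf : PP) = ptInf) (h1 : g • pt T 0 0 = pt T 0 0) :
    g 3 1 = 0 ∧ g 3 2 = 0 ∧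
    ∀ x y : F, g 3 3 * T.f ((g 2 1 * y + g 2 2 * x) / g 3 3) ((g 1 1 * y + g 1 2 * x) / g 3 3) =
      g 0 0 * T.f x y + g 0 1 * y + g 0 2 * x := by
  obtain ⟨-, -, hd, key⟩ := key_aux1 T hg h0 h1
  have h31 : g 3 1 = 0 := by
    by_contra hne
    obtain ⟨c, x', y', hc, e3, -, -, -⟩ := key 0 (g 3 3 / g 3 1)
    apply hc
    rw [e3, mul_div_cancel₀ _ hne, mul_zero, add_zero, CharTwo.add_self_eq_zero]
  have h32 : g 3 2 = 0 := by
    by_contra hne
    obtain ⟨c, x', y', hc, e3, -, -, -⟩ := key (g 3 3 / g 3 2) 0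
    apply hc
    rw [e3, mul_div_cancel₀ _ hne, mul_zero, zero_add, CharTwo.add_self_eq_zero]
  refine ⟨h31, h32, ?_⟩
  intro x y
  obtain ⟨c, x', y', hc, e3, e2, e1, e0⟩ := key x y
  rw [h31, h32, zero_mul, zero_mul, zero_add, zero_add] at e3
  subst e3
  have hx' : x' = (g 2 1 * y + g 2 2 * x) / g 3 3 := by
    rw [← e2, mul_div_cancel_left₀ _ hd]
  have hy' : y' = (g 1 1 * y + g 1 2 * x) / g 3 3 := by
    rw [← e1, mul_div_cancel_left₀ _ hd]
  rw [← hx', ← hy', e0]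

/-- division-free form of the functional equation -/
theorem key_aux3 {g : SL4} (hg : g ∈ Gam T)
    (h0 : g • (ptInf : PP) = ptInf) (h1 : g • pt T 0 0 = pt T 0 0) (x y : F) :
    g 3 3 * T.f (g 2 1 * y + g 2 2 * x) (g 1 1 * y + g 1 2 * x) =
      g 0 0 * T.f (g 3 3 * x) (g 3 3 * y) + g 0 1 * (g 3 3 * y) + g 0 2 * (g 3 3 * x) := by
  obtain ⟨-, -, hd, -⟩ := key_aux1 T hg h0 h1
  obtain ⟨-, -, key⟩ := key_aux2 T hg h0 h1
  have := key (g 3 3 * x) (g 3 3 * y)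
  rw [← this]
  congr 2
  · field_simp
  · field_simp

theorem key_aux4 [Fintype F] (hT : T.IsPow) {g : SL4} (hg : g ∈ Gam T)
    (h0 : g • (ptInf : PP) = ptInf) (h1 : g • pt T 0 0 = pt T 0 0) :
    g 0 1 = 0 ∧ g 0 2 = 0 ∧ g 1 2 = 0 ∧ g 2 1 = 0 ∧
    g 3 3 * T.θ (g 1 1) = g 0 0 * T.θ (g 3 3) ∧ g 2 2 * g 1 1 = g 0 0 * g 3 3 := by
  obtain ⟨-, -, hd, -⟩ := key_aux1 T hg h0 h1
  have key := key_aux3 T hg h0 h1
  obtain ⟨s, hs2, hsq, hpow⟩ := hT
  have hθd : T.θ (g 3 3) ≠ 0 := fun h => hd (T.eq_zero_iff.mp h)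
  -- y = 0
  have hy0 := four_term (g 3 3 * T.θ (g 2 2) * g 2 2 ^ 2 - g 0 0 * T.θ (g 3 3) * g 3 3 ^ 2)
    (g 3 3 * T.θ (g 1 2)) (g 3 3 * g 2 2 * g 1 2) (- (g 0 2 * g 3 3)) (s + 2) s 2 1
    (by omega) (by omega) (by omega) (by omega) (by omega) (by omega)
    (by omega) (by omega) (by omega) (by omega) (fun x => by
      have := key x 0
      simp only [Tits.f, mul_zero, zero_add, map_zero, add_zero, map_mul] at this
      rw [hpow x] at this
      linear_combination this)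
  obtain ⟨-, e12, -, e02⟩ := hy0
  have h12 : g 1 2 = 0 := by
    rcases mul_eq_zero.mp e12 with h | h
    · exact absurd h hd
    · exact T.eq_zero_iff.mp h
  have h02 : g 0 2 = 0 := by
    rcases mul_eq_zero.mp (neg_eq_zero.mp e02) with h | h
    · exact h
    · exact absurd h hd
  -- x = 0
  have hx0 := four_term (g 3 3 * T.θ (g 2 1) * g 2 1 ^ 2)
    (g 3 3 * T.θ (g 1 1) - g 0 0 * T.θ (g 3 3)) (g 3 3 * g 2 1 * g 1 1) (- (g 0 1 * g 3 3)) (s + 2) s 2 1
    (by omega) (by omega) (by omega) (by omega) (by omega) (by omega)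
    (by omega) (by omega) (by omega) (by omega) (fun y => by
      have := key 0 y
      simp only [Tits.f, mul_zero, zero_add, map_zero, add_zero, map_mul, zero_mul, ne_eq,
        OfNat.ofNat_ne_zero, not_false_eq_true, zero_pow] at this
      rw [hpow y] at this
      linear_combination this)
  obtain ⟨e21, e11, -, e01⟩ := hx0
  have h21 : g 2 1 = 0 := by
    rcases mul_eq_zero.mp e21 with h | h
    · rcases mul_eq_zero.mp h with h | h
      · exact absurd h hd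
      · exact T.eq_zero_iff.mp h
    · exact pow_eq_zero_iff (two_ne_zero) |>.mp h
  have h01 : g 0 1 = 0 := by
    rcases mul_eq_zero.mp (neg_eq_zero.mp e01) with h | h
    · exact h
    · exact absurd h hd
  have r2 : g 3 3 * T.θ (g 1 1) = g 0 0 * T.θ (g 3 3) := sub_eq_zero.mp e11
  refine ⟨h01, h02, h12, h21, r2, ?_⟩
  -- x = y = 1
  have k11 := key 1 1
  have k10 := key 1 0
  simp only [Tits.f, mul_one, mul_zero, map_zero, h12, h21, h01, h02,
    zero_add, add_zero, zero_mul] at k11 k10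
  have : g 3 3 * (g 2 2 * g 1 1) = g 3 3 * (g 0 0 * g 3 3) := by
    linear_combination k11 - k10 - r2
  exact mul_left_cancel₀ hd this

theorem fourth_pow_eq_one {x : F} (h : x ^ 4 = 1) : x = 1 := by
  have : (x ^ 2) ^ 2 = 1 := by rw [← pow_mul]; exact h
  exact sq_eq_one_iff.mp (sq_eq_one_iff.mp this)

/-- **Key lemma**: an element of the stabiliser of the ovoid fixing `∞` and `0` is some `h(κ)`. -/
theorem key_lemma [Fintype F] (hT : T.IsPow) {g : SL4} (hg : g ∈ Gam T)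
    (h0 : g • (ptInf : PP) = ptInf) (h1 : g • pt T 0 0 = pt T 0 0) : ∃ k : Fˣ, g = hS T k := by
  obtain ⟨⟨a10, a20, a30⟩, ⟨a03, a13, a23⟩, hd, -⟩ := key_aux1 T hg h0 h1
  obtain ⟨a31, a32, -⟩ := key_aux2 T hg h0 h1
  obtain ⟨a01, a02, a12, a21, r2, r3⟩ := key_aux4 T hT hg h0 h1
  have hmat : (g : Matrix (Fin 4) (Fin 4) F) =
      !![g 0 0, 0, 0, 0; 0, g 1 1, 0, 0; 0, 0, g 2 2, 0; 0, 0, 0, g 3 3] := by
    ext i j
    fin_cases i <;> fin_cases j <;> simp [a10, a20, a30, a03, a13, a23, a31, a32, a01, a02, a12, a21]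
  have hdet : g 0 0 * g 1 1 * g 2 2 * g 3 3 = 1 := by
    have := g.det_coe
    rw [hmat] at this
    simpa [Matrix.det_succ_row_zero, Fin.sum_univ_succ, Fin.succAbove, mul_assoc] using this
  have h11 : g 1 1 ≠ 0 := by
    rintro h; rw [h] at hdet; simp at hdet
  have h00 : g 0 0 ≠ 0 := by
    rintro h; rw [h] at hdet; simp at hdet
  have hθd : T.θ (g 3 3) ≠ 0 := fun h => hd (T.eq_zero_iff.mp h)
  -- choose κ with (κ θ κ)^2 = g11 / g33
  obtain ⟨w, hw⟩ := exists_sq (g 1 1 / g 3 3)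
  obtain ⟨k, hk⟩ := T.norm_surjective w
  have hD : g 1 1 = g 3 3 * (k * T.θ k) ^ 2 := by
    rw [hk, hw, mul_div_cancel₀ _ hd]
  have hk0 : k ≠ 0 := by
    rintro rfl
    simp only [map_zero, mul_zero, ne_eq, OfNat.ofNat_ne_zero, not_false_eq_true, zero_pow] at hD
    exact h11 hD
  have hθk : T.θ k ≠ 0 := fun h => hk0 (T.eq_zero_iff.mp h)
  -- g00 = δ θ(D)
  have e00 : g 0 0 = g 3 3 * (T.θ k * k ^ 2) ^ 2 := by
    have : g 0 0 * T.θ (g 3 3) = (g 3 3 * (T.θ k * k ^ 2) ^ 2) * T.θ (g 3 3) := by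
      rw [← r2, hD]
      simp only [map_mul, map_pow, T.sq]
      ring
    exact mul_right_cancel₀ hθd this
  have e22 : g 2 2 * (k * T.θ k) ^ 2 = g 3 3 * (T.θ k * k ^ 2) ^ 2 := by
    have : g 3 3 * (g 2 2 * (k * T.θ k) ^ 2) = g 3 3 * (g 3 3 * (T.θ k * k ^ 2) ^ 2) := by
      rw [← e00]
      linear_combination r3 - g 2 2 * hD
    exact mul_left_cancel₀ hd this
  have e22' : g 2 2 = g 3 3 * k ^ 2 := by
    have : g 2 2 * (k * T.θ k) ^ 2 = (g 3 3 * k ^ 2) * (k * T.θ k) ^ 2 := by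
      rw [e22]; ring
    exact mul_right_cancel₀ (pow_ne_zero 2 (mul_ne_zero hk0 hθk)) this
  have hδ : g 3 3 * (T.θ k * k ^ 2) = 1 := by
    apply fourth_pow_eq_one
    have : (g 3 3 * (T.θ k * k ^ 2)) ^ 4 = g 0 0 * g 1 1 * g 2 2 * g 3 3 := by
      rw [e00, hD, e22']
      ring
    rw [this, hdet]
  have hδ' : g 3 3 = (T.θ k * k ^ 2)⁻¹ := eq_inv_of_mul_eq_one_left hδ
  refine ⟨Units.mk0 k hk0, ?_⟩
  apply Subtype.ext
  rw [hmat]
  simp only [hS, hM, Units.val_mk0]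
  rw [e00, hD, e22', hδ']
  congr 1
  field_simp

end Cfsg.Agent.Lib.Helper3.Sz
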