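import Mathlib
import Cfsg.Agent.Lib.Helper3.Sz5

set_option autoImplicit false
set_option linter.unusedSectionVars false

/-!
Suzuki groups, part 6: the group `G = Stab(ovoid)` acting on the ovoid `O`: elements `u(a,b)`,
`h(κ)`, `τ`, Borel and Bruhat decompositions, double transitivity.
-/

namespace Cfsg.Agent.Lib.Helper3.Sz

open Matrix
open scoped Pointwise

variable {F : Type*} [Field F] [CharP F 2] (T : Tits F)

local notation "SL4" => Matrix.SpecialLinearGroup (Fin 4) F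
local notation "PP" => Projectivization F (Fin 4 → F)

/-- the point at infinity, as an element of the ovoid -/
noncomputable def oInf : ovoid T := ⟨ptInf, ptInf_mem T⟩

/-- the affine points, as elements of the ovoid -/
noncomputable def oPt (x y : F) : ovoid T := ⟨pt T x y, pt_mem T x y⟩

theorem ovoid_cases (p : ovoid T) : p = oInf T ∨ ∃ x y, p = oPt T x y := by
  obtain ⟨p, hp⟩ := p
  rcases hp with rfl | ⟨x, y, rfl⟩
  · exact Or.inl rfl
  · exact Or.inr ⟨x, y, rfl⟩

theorem oPt_ne_oInf (x y : F) : oPt T x y ≠ oInf T := by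
  intro h
  exact pt_ne_ptInf T x y (congrArg Subtype.val h)

theorem oPt_inj {x y x' y' : F} (h : oPt T x y = oPt T x' y') : x = x' ∧ y = y' :=
  pt_injective T (congrArg Subtype.val h)

theorem ne_oInf_iff {p : ovoid T} : p ≠ oInf T ↔ ∃ x y, p = oPt T x y := by
  constructor
  · intro h
    rcases ovoid_cases T p with h' | h'
    · exact absurd h' h
    · exact h'
  · rintro ⟨x, y, rfl⟩
    exact oPt_ne_oInf T x y

/-- `u(a,b)` as an element of `G` -/
def uG (a b : F) : Gam T := ⟨uS T a b, uS_mem T a b⟩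

/-- `h(κ)` as an element of `G` -/
def hG (k : Fˣ) : Gam T := ⟨hS T k, hS_mem T k⟩

/-- `τ` as an element of `G` -/
def tG : Gam T := ⟨tS, tS_mem T⟩

theorem uG_mul (a b c d : F) : uG T a b * uG T c d = uG T (a + c) (b + d + T.θ a * c) :=
  Subtype.ext (uS_mul T a b c d)

theorem uG_zero : uG T 0 0 = 1 := Subtype.ext (uS_zero T)

theorem uG_inv (a b : F) : (uG T a b)⁻¹ = uG T a (b + a * T.θ a) := Subtype.ext (uS_inv T a b)

theorem hG_mul (k l : Fˣ) : hG T k * hG T l = hG T (k * l) := Subtype.ext (hS_mul T k l)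

theorem hG_one : hG T 1 = 1 := Subtype.ext (hS_one T)

theorem hG_inv (k : Fˣ) : (hG T k)⁻¹ = hG T k⁻¹ := Subtype.ext (hS_inv T k)

theorem tG_mul_tG : tG T * tG T = 1 := Subtype.ext tS_mul_tS

theorem tG_inv : (tG T)⁻¹ = tG T := Subtype.ext tS_inv

theorem hG_mul_uG (k : Fˣ) (a b : F) :
    hG T k * uG T a b = uG T ((k : F) ^ 2 * a) (T.θ k ^ 2 * (k : F) ^ 2 * b) * hG T k :=
  Subtype.ext (hS_mul_uS T k a b)

theorem tG_mul_hG (k : Fˣ) : tG T * hG T k = hG T k⁻¹ * tG T := Subtype.ext (tS_mul_hS T k)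

theorem uG_injective {a b c d : F} (h : uG T a b = uG T c d) : a = c ∧ b = d := by
  have h' : uM T a b = uM T c d := congrArg (fun g : Gam T => ((g : SL4) : Matrix (Fin 4) (Fin 4) F)) h
  have h1 := congrFun (congrFun h' 2) 3
  have h2 := congrFun (congrFun h' 1) 3
  simp [uM] at h1 h2
  exact ⟨h1, h2⟩

theorem hG_injective {k l : Fˣ} (h : hG T k = hG T l) : k = l := by
  have h' : hM T k = hM T l := congrArg (fun g : Gam T => ((g : SL4) : Matrix (Fin 4) (Fin 4) F)) h
  have h1 := congrFun (congrFun h' 1) 1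
  simp [hM] at h1
  exact Units.ext (T.injective h1)

/-! ### the action on the ovoid -/

theorem smul_coe (g : Gam T) (p : ovoid T) : ((g • p : ovoid T) : PP) = (g : SL4) • (p : PP) := rfl

theorem uG_smul_oInf (a b : F) : uG T a b • oInf T = oInf T :=
  Subtype.ext (uS_smul_ptInf T a b)

theorem uG_smul_oPt (a b x y : F) : uG T a b • oPt T x y = oPt T (x + a) (y + T.θ a * x + b) :=
  Subtype.ext (uS_smul_pt T a b x y)

theorem hG_smul_oInf (k : Fˣ) : hG T k • oInf T = oInf T :=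
  Subtype.ext (hS_smul_ptInf T k)

theorem hG_smul_oPt (k : Fˣ) (x y : F) :
    hG T k • oPt T x y = oPt T ((k : F) ^ 2 * x) (T.θ k ^ 2 * (k : F) ^ 2 * y) :=
  Subtype.ext (hS_smul_pt T k x y)

theorem tG_smul_oInf : tG T • oInf T = oPt T 0 0 := Subtype.ext (tS_smul_ptInf T)

theorem tG_smul_oPt_zero : tG T • oPt T 0 0 = oInf T := Subtype.ext (tS_smul_pt_zero T)

theorem uG_smul_oPt_zero (a b : F) : uG T a b • oPt T 0 0 = oPt T a b := by
  rw [uG_smul_oPt]; simp

/-- key lemma, for `G` -/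
theorem key_lemma_G [Fintype F] (hT : T.IsPow) {g : Gam T}
    (h0 : g • oInf T = oInf T) (h1 : g • oPt T 0 0 = oPt T 0 0) : ∃ k : Fˣ, g = hG T k := by
  obtain ⟨k, hk⟩ := key_lemma T hT g.2 (congrArg Subtype.val h0) (congrArg Subtype.val h1)
  exact ⟨k, Subtype.ext hk⟩

/-- Borel decomposition -/
theorem borel_decomp [Fintype F] (hT : T.IsPow) {g : Gam T} (h0 : g • oInf T = oInf T) :
    ∃ a b k, g = uG T a b * hG T k := by
  have hne : g • oPt T 0 0 ≠ oInf T := by
    intro h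
    rw [← h0] at h
    exact oPt_ne_oInf T 0 0 (smul_left_cancel g h)
  obtain ⟨a, b, hab⟩ := (ne_oInf_iff T).mp hne
  have h1 : ((uG T a b)⁻¹ * g) • oInf T = oInf T := by
    rw [mul_smul, h0, inv_smul_eq_iff, uG_smul_oInf]
  have h2 : ((uG T a b)⁻¹ * g) • oPt T 0 0 = oPt T 0 0 := by
    rw [mul_smul, hab, inv_smul_eq_iff, uG_smul_oPt_zero]
  obtain ⟨k, hk⟩ := key_lemma_G T hT h1 h2
  exact ⟨a, b, k, by rw [← hk, mul_inv_cancel_left]⟩

/-- Bruhat decomposition, big cell -/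
theorem bruhat_decomp [Fintype F] (hT : T.IsPow) {g : Gam T} (h0 : g • oInf T ≠ oInf T) :
    ∃ a b c d k, g = uG T a b * tG T * (uG T c d * hG T k) := by
  obtain ⟨a, b, hab⟩ := (ne_oInf_iff T).mp h0
  have h1 : ((uG T a b * tG T)⁻¹ * g) • oInf T = oInf T := by
    rw [mul_smul, hab, inv_smul_eq_iff, mul_smul, tG_smul_oInf, uG_smul_oPt_zero]
  obtain ⟨c, d, k, hk⟩ := borel_decomp T hT h1
  exact ⟨a, b, c, d, k, by rw [← hk, mul_inv_cancel_left]⟩

/-- transitivity -/
theorem exists_smul_oInf_eq (p : ovoid T) : ∃ g : Gam T, g • oInf T = p := by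
  rcases ovoid_cases T p with rfl | ⟨x, y, rfl⟩
  · exact ⟨1, one_smul _ _⟩
  · exact ⟨uG T x y * tG T, by rw [mul_smul, tG_smul_oInf, uG_smul_oPt_zero]⟩

instance isPretransitive : MulAction.IsPretransitive (Gam T) (ovoid T) := by
  constructor
  intro p q
  obtain ⟨g, rfl⟩ := exists_smul_oInf_eq T p
  obtain ⟨g', rfl⟩ := exists_smul_oInf_eq T q
  exact ⟨g' * g⁻¹, by rw [mul_smul, inv_smul_smul]⟩

/-- double transitivity: any pair of distinct points is the image of `(∞, 0)` -/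
theorem exists_smul_pair {p q : ovoid T} (hpq : p ≠ q) :
    ∃ g : Gam T, g • oInf T = p ∧ g • oPt T 0 0 = q := by
  obtain ⟨g, rfl⟩ := exists_smul_oInf_eq T p
  have hne : g⁻¹ • q ≠ oInf T := by
    intro h
    apply hpq
    rw [← h, smul_inv_smul]
  obtain ⟨x, y, hxy⟩ := (ne_oInf_iff T).mp hne
  refine ⟨g * uG T x y, ?_, ?_⟩
  · rw [mul_smul, uG_smul_oInf]
  · rw [mul_smul, uG_smul_oPt_zero, ← hxy, smul_inv_smul]

theorem is_two_pretransitive : MulAction.IsMultiplyPretransitive (Gam T) (ovoid T) 2 := by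
  rw [MulAction.is_two_pretransitive_iff]
  intro a b c d hab hcd
  obtain ⟨g, rfl, rfl⟩ := exists_smul_pair T hab
  obtain ⟨g', rfl, rfl⟩ := exists_smul_pair T hcd
  exact ⟨g' * g⁻¹, by rw [mul_smul, inv_smul_smul], by rw [mul_smul, inv_smul_smul]⟩

end Cfsg.Agent.Lib.Helper3.Sz
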