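import Mathlib
import Cfsg.Agent.Lib.Helper3.Sz6

set_option autoImplicit false
set_option linter.unusedSectionVars false

/-!
Suzuki groups, part 7: orders of the ovoid, the Borel subgroup and the group.
-/

namespace Cfsg.Agent.Lib.Helper3.Sz

open Matrix
open scoped Pointwise

variable {F : Type*} [Field F] [CharP F 2] (T : Tits F)

local notation "SL4" => Matrix.SpecialLinearGroup (Fin 4) F
local notation "PP" => Projectivization F (Fin 4 → F)

/-- parametrisation of the ovoid -/
noncomputable def ovoidParam : Option (F × F) → ovoid T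
  | none => oInf T
  | some (x, y) => oPt T x y

theorem ovoidParam_bijective : Function.Bijective (ovoidParam T) := by
  constructor
  · intro a b hab
    rcases a with _ | ⟨x, y⟩ <;> rcases b with _ | ⟨x', y'⟩
    · rfl
    · exact absurd hab.symm (oPt_ne_oInf T x' y')
    · exact absurd hab (oPt_ne_oInf T x y)
    · obtain ⟨rfl, rfl⟩ := oPt_inj T hab
      rfl
  · intro p
    rcases ovoid_cases T p with rfl | ⟨x, y, rfl⟩
    · exact ⟨none, rfl⟩
    · exact ⟨some (x, y), rfl⟩

theorem card_ovoid [Finite F] : Nat.card (ovoid T) = Nat.card F ^ 2 + 1 := by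
  rw [← Nat.card_eq_of_bijective _ (ovoidParam_bijective T)]
  have : Nat.card (Option (F × F)) = Nat.card (F × F) + 1 := by
    have := Fintype.ofFinite F
    simp [Nat.card_eq_fintype_card, Fintype.card_option]
  rw [this, Nat.card_prod]
  ring

/-- the Borel subgroup: the stabiliser of `∞` -/
noncomputable abbrev Borel : Subgroup (Gam T) := MulAction.stabilizer (Gam T) (oInf T)

theorem uG_mem_Borel (a b : F) : uG T a b ∈ Borel T := uG_smul_oInf T a b

theorem hG_mem_Borel (k : Fˣ) : hG T k ∈ Borel T := hG_smul_oInf T k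

/-- parametrisation of the Borel subgroup -/
noncomputable def borelParam : F × F × Fˣ → Borel T := fun p =>
  ⟨uG T p.1 p.2.1 * hG T p.2.2, (Borel T).mul_mem (uG_mem_Borel T _ _) (hG_mem_Borel T _)⟩

theorem uG_mul_hG_injective {a b c d : F} {k l : Fˣ} (h : uG T a b * hG T k = uG T c d * hG T l) :
    a = c ∧ b = d ∧ k = l := by
  have h1 := congrArg (fun g : Gam T => g • oPt T 0 0) h
  simp only [mul_smul, hG_smul_oPt, mul_zero, uG_smul_oPt_zero] at h1
  obtain ⟨rfl, rfl⟩ := oPt_inj T h1
  refine ⟨rfl, rfl, ?_⟩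
  exact hG_injective T (mul_left_cancel h)

theorem borelParam_bijective [Fintype F] (hT : T.IsPow) : Function.Bijective (borelParam T) := by
  constructor
  · rintro ⟨a, b, k⟩ ⟨c, d, l⟩ h
    have h' : uG T a b * hG T k = uG T c d * hG T l := congrArg Subtype.val h
    obtain ⟨rfl, rfl, rfl⟩ := uG_mul_hG_injective T h'
    rfl
  · rintro ⟨g, hg⟩
    obtain ⟨a, b, k, rfl⟩ := borel_decomp T hT hg
    exact ⟨(a, b, k), rfl⟩

theorem card_Borel [Fintype F] (hT : T.IsPow) :
    Nat.card (Borel T) = Nat.card F ^ 2 * (Nat.card F - 1) := by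
  rw [← Nat.card_eq_of_bijective _ (borelParam_bijective T hT), Nat.card_prod, Nat.card_prod,
    Nat.card_units]
  ring

theorem card_Gam [Fintype F] (hT : T.IsPow) :
    Nat.card (Gam T) = (Nat.card F ^ 2 + 1) * (Nat.card F ^ 2 * (Nat.card F - 1)) := by
  rw [← Subgroup.index_mul_card (Borel T), MulAction.index_stabilizer_of_transitive, card_ovoid,
    card_Borel T hT]

end Cfsg.Agent.Lib.Helper3.Sz
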