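import Mathlib
import Cfsg.Agent.Lib.Helper3.Sz7

set_option autoImplicit false
set_option linter.unusedSectionVars false

/-!
Suzuki groups, part 8: the torus as two-point stabiliser; stabilisers of points of projective space.
-/

namespace Cfsg.Agent.Lib.Helper3.Sz

open Matrix
open scoped Pointwise

variable {F : Type*} [Field F] [CharP F 2] (T : Tits F)

local notation "SL4" => Matrix.SpecialLinearGroup (Fin 4) F
local notation "PP" => Projectivization F (Fin 4 → F)

theorem stabilizer_coe_eq (p : ovoid T) :
    MulAction.stabilizer (Gam T) (p : PP) = MulAction.stabilizer (Gam T) p := by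
  ext g
  rw [MulAction.mem_stabilizer_iff, MulAction.mem_stabilizer_iff]
  constructor
  · intro h
    exact Subtype.ext h
  · intro h
    exact congrArg Subtype.val h

theorem suzukiPointInfinity_eq : Cfsg.suzukiPointInfinity F = ((oInf T : ovoid T) : PP) := rfl

theorem suzukiPointZero_eq : Cfsg.suzukiPointZero F = ((oPt T 0 0 : ovoid T) : PP) := by
  simp only [Cfsg.suzukiPointZero, oPt, pt, ovVec, Tits.f]
  congr 2
  simp

/-- the torus homomorphism -/
def torusHom : Fˣ →* Gam T where
  toFun := hG T
  map_one' := hG_one T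
  map_mul' k l := (hG_mul T k l).symm

theorem torusHom_injective : Function.Injective (torusHom T) := fun _ _ h => hG_injective T h

theorem torusHom_range [Fintype F] (hT : T.IsPow) :
    (torusHom T).range =
      MulAction.stabilizer (Gam T) (oInf T) ⊓ MulAction.stabilizer (Gam T) (oPt T 0 0) := by
  ext g
  constructor
  · rintro ⟨k, rfl⟩
    refine ⟨hG_smul_oInf T k, ?_⟩
    show hG T k • oPt T 0 0 = oPt T 0 0
    rw [hG_smul_oPt]
    simp
  · rintro ⟨h0, h1⟩
    obtain ⟨k, rfl⟩ := key_lemma_G T hT h0 h1
    exact ⟨k, rfl⟩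

theorem two_point_stabilizer_equiv [Fintype F] (hT : T.IsPow) :
    Nonempty (↥(MulAction.stabilizer (Gam T) (Cfsg.suzukiPointInfinity F) ⊓
      MulAction.stabilizer (Gam T) (Cfsg.suzukiPointZero F)) ≃* Fˣ) := by
  rw [suzukiPointInfinity_eq T, suzukiPointZero_eq T, stabilizer_coe_eq, stabilizer_coe_eq,
    ← torusHom_range T hT]
  exact ⟨(MonoidHom.ofInjective (torusHom_injective T)).symm⟩

theorem two_point_stabilizer_equiv' [Fintype F] (hT : T.IsPow) (O : Set PP) (hO : O = ovoid T) :
    Nonempty (↥(MulAction.stabilizer (MulAction.stabilizer SL4 O) (Cfsg.suzukiPointInfinity F) ⊓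
      MulAction.stabilizer (MulAction.stabilizer SL4 O) (Cfsg.suzukiPointZero F)) ≃* Fˣ) := by
  subst hO
  exact two_point_stabilizer_equiv T hT

theorem card_stabilizer_inf [Fintype F] (hT : T.IsPow) (O : Set PP) (hO : O = ovoid T) :
    Nat.card (MulAction.stabilizer (MulAction.stabilizer SL4 O) (Cfsg.suzukiPointInfinity F)) =
      Nat.card F ^ 2 * (Nat.card F - 1) := by
  subst hO
  rw [suzukiPointInfinity_eq T, stabilizer_coe_eq]
  exact card_Borel T hT

end Cfsg.Agent.Lib.Helper3.Sz
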