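import Mathlib
import Cfsg.Agent.Lib.Helper3.Sz8

set_option autoImplicit false
set_option linter.unusedSectionVars false

/-!
Suzuki groups, part 9: faithfulness, three-point stabilisers, the subgroup `U`.
-/

namespace Cfsg.Agent.Lib.Helper3.Sz

open Matrix
open scoped Pointwise

variable {F : Type*} [Field F] [CharP F 2] (T : Tits F)

local notation "SL4" => Matrix.SpecialLinearGroup (Fin 4) F
local notation "PP" => Projectivization F (Fin 4 → F)

theorem units_sq_eq_one {k : Fˣ} (h : (k : F) ^ 2 = 1) : k = 1 :=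
  Units.ext (sq_eq_one_iff.mp h)

theorem units_norm_sq_eq_one {k : Fˣ} (h : T.θ k ^ 2 * (k : F) ^ 2 = 1) : k = 1 := by
  apply Units.ext
  apply T.norm_eq_one
  apply sq_eq_one_iff.mp
  rw [← h]; ring

/-- an `h(κ)` fixing a third point is trivial -/
theorem hG_eq_one_of_fix {k : Fˣ} {x y : F} (hxy : ¬ (x = 0 ∧ y = 0))
    (h : hG T k • oPt T x y = oPt T x y) : k = 1 := by
  rw [hG_smul_oPt] at h
  obtain ⟨h1, h2⟩ := oPt_inj T h
  by_cases hx : x = 0
  · have hy : y ≠ 0 := fun hy => hxy ⟨hx, hy⟩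
    apply units_norm_sq_eq_one T
    have : (T.θ k ^ 2 * (k : F) ^ 2) * y = 1 * y := by rw [h2, one_mul]
    exact mul_right_cancel₀ hy this
  · apply units_sq_eq_one
    have : ((k : F) ^ 2) * x = 1 * x := by rw [h1, one_mul]
    exact mul_right_cancel₀ hx this

/-- no nonidentity element fixes three points -/
theorem eq_one_of_fix_three [Fintype F] (hT : T.IsPow) {g : Gam T} {a b c : ovoid T}
    (hab : a ≠ b) (hbc : b ≠ c) (hac : a ≠ c) (ha : g • a = a) (hb : g • b = b) (hc : g • c = c) :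
    g = 1 := by
  obtain ⟨x, rfl, rfl⟩ := exists_smul_pair T hab
  have h0 : (x⁻¹ * g * x) • oInf T = oInf T := by
    rw [mul_smul, mul_smul, ha, inv_smul_smul]
  have h1 : (x⁻¹ * g * x) • oPt T 0 0 = oPt T 0 0 := by
    rw [mul_smul, mul_smul, hb, inv_smul_smul]
  obtain ⟨k, hk⟩ := key_lemma_G T hT h0 h1
  have hne : x⁻¹ • c ≠ oInf T := by
    intro h
    apply hac
    rw [← h, smul_inv_smul]
  obtain ⟨u, v, huv⟩ := (ne_oInf_iff T).mp hne
  have huv0 : ¬ (u = 0 ∧ v = 0) := by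
    rintro ⟨rfl, rfl⟩
    apply hbc
    rw [← huv, smul_inv_smul]
  have h2 : hG T k • oPt T u v = oPt T u v := by
    rw [← hk, ← huv, mul_smul, mul_smul, smul_inv_smul, hc]
  have hk1 := hG_eq_one_of_fix T huv0 h2
  rw [hk1, hG_one] at hk
  have : g = x * 1 * x⁻¹ := by
    rw [← hk]; group
  rw [this]; group

theorem exists_unit_ne_one [Fintype F] (hT : T.IsPow) : ∃ k : Fˣ, k ≠ 1 := by
  obtain ⟨s, hs2, hsq, -⟩ := hT
  have : 1 < Nat.card Fˣ := by
    rw [Nat.card_units, Nat.card_eq_fintype_card]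
    omega
  have : Nontrivial Fˣ := (Finite.one_lt_card_iff_nontrivial).mp this
  exact exists_ne 1

/-- the action on the ovoid is faithful -/
theorem faithful [Fintype F] (hT : T.IsPow) : FaithfulSMul (Gam T) (ovoid T) := by
  constructor
  intro g g' h
  have h' : ∀ a : ovoid T, (g'⁻¹ * g) • a = a := by
    intro a
    rw [mul_smul, h a, inv_smul_smul]
  have : g'⁻¹ * g = 1 := by
    refine eq_one_of_fix_three T hT (a := oInf T) (b := oPt T 0 0) (c := oPt T 1 0)
      (oPt_ne_oInf T 0 0).symm ?_ (oPt_ne_oInf T 1 0).symm (h' _) (h' _) (h' _)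
    intro h
    have := (oPt_inj T h).1
    exact zero_ne_one this
  rw [inv_mul_eq_one] at this
  exact this.symm

/-- the subgroup `U` -/
def Usub : Subgroup (Gam T) where
  carrier := {g | ∃ a b, g = uG T a b}
  mul_mem' := by
    rintro _ _ ⟨a, b, rfl⟩ ⟨c, d, rfl⟩
    exact ⟨_, _, uG_mul T a b c d⟩
  one_mem' := ⟨0, 0, (uG_zero T).symm⟩
  inv_mem' := by
    rintro _ ⟨a, b, rfl⟩
    exact ⟨_, _, uG_inv T a b⟩

theorem uG_mem_Usub (a b : F) : uG T a b ∈ Usub T := ⟨a, b, rfl⟩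

theorem mem_Usub_iff {g : Gam T} : g ∈ Usub T ↔ ∃ a b, g = uG T a b := Iff.rfl

theorem Usub_le_Borel : Usub T ≤ Borel T := by
  rintro _ ⟨a, b, rfl⟩
  exact uG_mem_Borel T a b

/-- the Borel subgroup normalises `U` -/
theorem borel_conj_mem [Fintype F] (hT : T.IsPow) {g : Gam T} (hg : g ∈ Borel T) {u : Gam T}
    (hu : u ∈ Usub T) : g * u * g⁻¹ ∈ Usub T := by
  obtain ⟨a, b, k, rfl⟩ := borel_decomp T hT hg
  obtain ⟨c, d, rfl⟩ := hu
  have : uG T a b * hG T k * uG T c d * (uG T a b * hG T k)⁻¹ =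
      uG T a b * (hG T k * uG T c d * (hG T k)⁻¹) * (uG T a b)⁻¹ := by group
  rw [this, hG_mul_uG, mul_inv_cancel_right]
  exact (Usub T).mul_mem ((Usub T).mul_mem (uG_mem_Usub T _ _) (uG_mem_Usub T _ _))
    ((Usub T).inv_mem (uG_mem_Usub T _ _))

/-- `U` is transitive on the affine points -/
theorem exists_uG_smul (x y x' y' : F) : ∃ a b, uG T a b • oPt T x y = oPt T x' y' := by
  refine ⟨x' + x, y' + y + T.θ (x' + x) * x, ?_⟩
  rw [uG_smul_oPt]
  congr 1
  · rw [add_comm x' x, ← add_assoc, CharTwo.add_self_eq_zero, zero_add]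
  · have : y + T.θ (x' + x) * x + (y' + y + T.θ (x' + x) * x) =
        y' + (y + y) + (T.θ (x' + x) * x + T.θ (x' + x) * x) := by ring
    rw [this, CharTwo.add_self_eq_zero, CharTwo.add_self_eq_zero, add_zero, add_zero]

/-- nonidentity elements of `U` fix only `∞` -/
theorem uG_fix {a b : F} {p : ovoid T} (h : uG T a b • p = p) (hp : p ≠ oInf T) :
    a = 0 ∧ b = 0 := by
  obtain ⟨x, y, rfl⟩ := (ne_oInf_iff T).mp hp
  rw [uG_smul_oPt] at h
  obtain ⟨h1, h2⟩ := oPt_inj T h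
  have ha : a = 0 := by
    have : x + a = x + 0 := by rw [h1, add_zero]
    exact add_left_cancel this
  subst ha
  refine ⟨rfl, ?_⟩
  simp only [map_zero, zero_mul, add_zero] at h2
  have : y + b = y + 0 := by rw [h2, add_zero]
  exact add_left_cancel this

end Cfsg.Agent.Lib.Helper3.Sz
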