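import Mathlib
import Cfsg.Agent.Lib.Helper3.Sz9

set_option autoImplicit false
set_option linter.unusedSectionVars false

/-!
Suzuki groups, part 10: simplicity.
-/

namespace Cfsg.Agent.Lib.Helper3.Sz

open Matrix
open scoped Pointwise

/-- A perfect finite group `G` with a normal subgroup `N` such that every element of `G` is the
product of an element of `N` and an element of order dividing `4` satisfies `N = ⊤`. -/
theorem eq_top_of_perfect_of_mul {G : Type*} [Group G] [Finite G] (hperf : commutator G = ⊤)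
    (N : Subgroup G) [N.Normal] (h : ∀ g : G, ∃ n ∈ N, ∃ u : G, u ^ 4 = 1 ∧ g = n * u) : N = ⊤ := by
  by_contra hN
  have hp : IsPGroup 2 (G ⧸ N) := by
    intro x
    obtain ⟨g, rfl⟩ := QuotientGroup.mk'_surjective N x
    obtain ⟨n, hn, u, hu, rfl⟩ := h g
    refine ⟨2, ?_⟩
    have : (QuotientGroup.mk' N) (n * u) = (QuotientGroup.mk' N) u := by
      rw [map_mul]
      have : (QuotientGroup.mk' N) n = 1 := (QuotientGroup.eq_one_iff n).mpr hn
      rw [this, one_mul]
    rw [this, ← map_pow]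
    have h4 : u ^ 2 ^ 2 = 1 := by norm_num; exact hu
    rw [h4, map_one]
  have : Fact (Nat.Prime 2) := ⟨Nat.prime_two⟩
  have : Group.IsNilpotent (G ⧸ N) := hp.isNilpotent
  have : Nontrivial (G ⧸ N) := by
    by_contra hnt
    rw [not_nontrivial_iff_subsingleton] at hnt
    apply hN
    rw [eq_top_iff]
    intro g _
    have : (QuotientGroup.mk' N) g = 1 := Subsingleton.elim _ _
    exact (QuotientGroup.eq_one_iff g).mp this
  have hlt := Group.IsSolvable.commutator_lt_top_of_nontrivial (G ⧸ N)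
  have : commutator (G ⧸ N) = ⊤ := by
    rw [commutator_def, ← Subgroup.map_top_of_surjective _ (QuotientGroup.mk'_surjective N),
      ← Subgroup.map_commutator, ← commutator_def, hperf]
  rw [this] at hlt
  exact lt_irrefl _ hlt

variable {F : Type*} [Field F] [CharP F 2] (T : Tits F)

local notation "SL4" => Matrix.SpecialLinearGroup (Fin 4) F
local notation "PP" => Projectivization F (Fin 4 → F)

theorem uG_pow_four (a b : F) : uG T a b ^ 4 = 1 := by
  have h2 : uG T a b ^ 2 = uG T 0 (a * T.θ a) := by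
    rw [pow_two, uG_mul]
    congr 1
    · exact CharTwo.add_self_eq_zero a
    · rw [CharTwo.add_self_eq_zero, zero_add, mul_comm]
  have : uG T a b ^ 4 = (uG T a b ^ 2) ^ 2 := by rw [← pow_mul]
  rw [this, h2, pow_two, uG_mul]
  rw [← uG_zero T]
  congr 1
  · exact CharTwo.add_self_eq_zero 0
  · rw [CharTwo.add_self_eq_zero, zero_add, map_zero, zero_mul]

/-- a nontrivial normal subgroup of `G` is transitive on the ovoid -/
theorem normal_transitive [Fintype F] (hT : T.IsPow) (N : Subgroup (Gam T)) [hN : N.Normal]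
    (hne : N ≠ ⊥) (p q : ovoid T) : ∃ n ∈ N, n • p = q := by
  by_cases hpq : p = q
  · exact ⟨1, N.one_mem, by rw [one_smul, hpq]⟩
  obtain ⟨n, hn, hn1⟩ : ∃ n ∈ N, n ≠ 1 := by
    by_contra h
    push Not at h
    exact hne ((Subgroup.eq_bot_iff_forall N).mpr h)
  -- n moves some point
  obtain ⟨a, ha⟩ : ∃ a : ovoid T, n • a ≠ a := by
    by_contra h
    push Not at h
    have := faithful T hT
    apply hn1
    apply FaithfulSMul.eq_of_smul_eq_smul (α := ovoid T)
    intro a
    rw [h a, one_smul]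
  obtain ⟨g, hg1, hg2⟩ := exists_smul_pair T (Ne.symm ha)
  obtain ⟨g', hg1', hg2'⟩ := exists_smul_pair T hpq
  -- (g' g⁻¹) maps a to p and n • a to q
  refine ⟨(g' * g⁻¹) * n * (g' * g⁻¹)⁻¹, hN.conj_mem n hn _, ?_⟩
  have e1 : (g' * g⁻¹)⁻¹ • p = a := by
    rw [inv_smul_eq_iff, mul_smul, ← hg1, inv_smul_smul, hg1']
  rw [mul_smul, mul_smul, e1, ← hg2, ← hg2']
  rw [mul_smul, inv_smul_smul]

/-- a transitive subgroup together with the Borel subgroup gives everything -/
theorem exists_mul_borel (N : Subgroup (Gam T))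
    (hN : ∀ p : ovoid T, ∃ n ∈ N, n • oInf T = p) (g : Gam T) :
    ∃ n ∈ N, ∃ b ∈ Borel T, g = n * b := by
  obtain ⟨n, hn, hnp⟩ := hN (g • oInf T)
  refine ⟨n, hn, n⁻¹ * g, ?_, by rw [mul_inv_cancel_left]⟩
  show (n⁻¹ * g) • oInf T = oInf T
  rw [mul_smul, ← hnp, inv_smul_smul]

/-- the normal closure of `U` -/
abbrev Mcl : Subgroup (Gam T) := Subgroup.normalClosure (Usub T : Set (Gam T))

theorem uG_mem_Mcl (a b : F) : uG T a b ∈ Mcl T :=
  Subgroup.subset_normalClosure (uG_mem_Usub T a b)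

theorem Mcl_transitive (p : ovoid T) : ∃ n ∈ Mcl T, n • oInf T = p := by
  rcases ovoid_cases T p with rfl | ⟨x, y, rfl⟩
  · exact ⟨1, Subgroup.one_mem _, one_smul _ _⟩
  · -- τ u(0,1) τ⁻¹ maps ∞ to P(1,0)
    have h1 : (tG T * uG T 0 1 * (tG T)⁻¹) ∈ Mcl T :=
      (Subgroup.normalClosure_normal).conj_mem _ (uG_mem_Mcl T 0 1) _
    have h2 : (tG T * uG T 0 1 * (tG T)⁻¹) • oInf T = oPt T 1 0 := by
      rw [tG_inv, mul_smul, mul_smul, tG_smul_oInf, uG_smul_oPt_zero]
      have hf : T.f 0 1 = 1 := by simp [Tits.f]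
      have hne : T.f 0 1 ≠ 0 := by rw [hf]; exact one_ne_zero
      apply Subtype.ext
      show (tS : SL4) • pt T 0 1 = pt T 1 0
      rw [tS_smul_pt T hne, hf]
      simp
    obtain ⟨a, b, hab⟩ := exists_uG_smul T 1 0 x y
    refine ⟨uG T a b * (tG T * uG T 0 1 * (tG T)⁻¹), Subgroup.mul_mem _ (uG_mem_Mcl T a b) h1, ?_⟩
    rw [mul_smul, h2, hab]

theorem card_units_odd [Fintype F] : Odd (Nat.card Fˣ) := by
  rw [Nat.card_units, Nat.card_eq_fintype_card]
  have h := FiniteField.even_card_of_char_two (F := F) (ringChar.eq F 2)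
  have hpos : 0 < Fintype.card F := Fintype.card_pos
  rw [Nat.odd_iff]
  omega

/-- every unit is a power of its square -/
theorem unit_mem_of_sq_mem [Fintype F] (K : Subgroup Fˣ) {k : Fˣ} (h : k ^ 2 ∈ K) : k ∈ K := by
  obtain ⟨j, hj⟩ := card_units_odd (F := F)
  have h1 : k ^ (Nat.card Fˣ) = 1 := pow_card_eq_one'
  have : k = (k ^ 2) ^ (j + 1) := by
    rw [← pow_mul]
    have : 2 * (j + 1) = Nat.card Fˣ + 1 := by omega
    rw [this, pow_succ, h1, one_mul]
  rw [this]
  exact K.pow_mem h _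

theorem Mcl_eq_top [Fintype F] (hT : T.IsPow) : Mcl T = ⊤ := by
  have hMn : (Mcl T).Normal := Subgroup.normalClosure_normal
  have hMH : ∀ g : Gam T, ∃ n ∈ Mcl T, ∃ k, g = n * hG T k := by
    intro g
    obtain ⟨n, hn, b, hb, rfl⟩ := exists_mul_borel T (Mcl T) (Mcl_transitive T) g
    obtain ⟨a, b', k, rfl⟩ := borel_decomp T hT hb
    exact ⟨n * uG T a b', Subgroup.mul_mem _ hn (uG_mem_Mcl T a b'), k, by group⟩
  -- the subgroup of units whose torus element lies in M
  let K : Subgroup Fˣ := (Mcl T).comap (torusHom T)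
  have hK : ∀ k, k ∈ K ↔ hG T k ∈ Mcl T := fun k => Iff.rfl
  -- τ ∈ M
  have ht : tG T ∈ Mcl T := by
    obtain ⟨n, hn, k, hk⟩ := hMH (tG T)
    have h1 : (n * hG T k) * (n * hG T k) = 1 := by rw [← hk, tG_mul_tG]
    have h2 : hG T (k ^ 2) ∈ Mcl T := by
      have e : hG T (k ^ 2) = (hG T k * n * (hG T k)⁻¹)⁻¹ * n⁻¹ * ((n * hG T k) * (n * hG T k)) := by
        rw [pow_two, ← hG_mul]; group
      rw [e, h1, mul_one]
      exact Subgroup.mul_mem _ (Subgroup.inv_mem _ (hMn.conj_mem n hn _))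
        (Subgroup.inv_mem _ hn)
    have h3 : k ∈ K := unit_mem_of_sq_mem K ((hK _).mpr h2)
    rw [hk]
    exact Subgroup.mul_mem _ hn ((hK k).mp h3)
  -- H ≤ M
  have hH : ∀ k, hG T k ∈ Mcl T := by
    intro k
    have h2 : hG T (k ^ 2) ∈ Mcl T := by
      have e : hG T (k ^ 2) = (hG T k * tG T * (hG T k)⁻¹) * (tG T)⁻¹ := by
        have : hG T k * tG T = tG T * hG T k⁻¹ := by
          have := tG_mul_hG T k⁻¹
          rw [inv_inv] at this
          exact this.symm
        rw [this, mul_assoc (tG T), hG_inv, hG_mul, ← pow_two, tG_inv]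
        have := tG_mul_hG T (k⁻¹ ^ 2)
        rw [this, inv_pow, inv_inv, mul_assoc, tG_mul_tG, mul_one]
      rw [e]
      exact Subgroup.mul_mem _ (hMn.conj_mem _ ht _) (Subgroup.inv_mem _ ht)
    exact (hK k).mp (unit_mem_of_sq_mem K ((hK _).mpr h2))
  rw [eq_top_iff]
  intro g _
  obtain ⟨n, hn, k, rfl⟩ := hMH g
  exact Subgroup.mul_mem _ hn (hH k)

end Cfsg.Agent.Lib.Helper3.Sz
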