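import Mathlib
import Cfsg.Agent.Lib.Helper3.Sz10

set_option autoImplicit false
set_option linter.unusedSectionVars false

/-!
Suzuki groups, part 11: perfectness and simplicity.
-/

namespace Cfsg.Agent.Lib.Helper3.Sz

open Matrix
open scoped Pointwise commutatorElement

variable {F : Type*} [Field F] [CharP F 2] (T : Tits F)

local notation "SL4" => Matrix.SpecialLinearGroup (Fin 4) F
local notation "PP" => Projectivization F (Fin 4 → F)

theorem add_one_ne_zero_of_ne_one {x : F} (h : x ≠ 1) : x + 1 ≠ 0 := by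
  intro h'
  exact h (CharTwo.add_eq_zero.mp h')

/-- commutator of `h(κ)` and `u(a,b)` -/
theorem commutator_hG_uG (k : Fˣ) (a b : F) :
    ⁅hG T k, uG T a b⁆ = uG T (((k : F) ^ 2 + 1) * a)
      ((T.θ k ^ 2 * (k : F) ^ 2 + 1) * b + (1 + T.θ k ^ 2) * (a * T.θ a)) := by
  rw [commutatorElement_def, hG_mul_uG, mul_assoc (uG T _ _), mul_inv_cancel, mul_one, uG_inv, uG_mul]
  congr 1
  · ring
  · simp only [map_mul, map_pow]
    ring

/-- every element of `U` is a commutator -/
theorem uG_mem_commutator [Fintype F] (hT : T.IsPow) (c d : F) : uG T c d ∈ commutator (Gam T) := by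
  obtain ⟨k, hk⟩ := exists_unit_ne_one T hT
  have h1 : (k : F) ^ 2 + 1 ≠ 0 := by
    apply add_one_ne_zero_of_ne_one
    intro h
    exact hk (units_sq_eq_one h)
  have h2 : T.θ k ^ 2 * (k : F) ^ 2 + 1 ≠ 0 := by
    apply add_one_ne_zero_of_ne_one
    intro h
    exact hk (units_norm_sq_eq_one T h)
  set a := c / ((k : F) ^ 2 + 1) with ha
  set b := (d - (1 + T.θ k ^ 2) * (a * T.θ a)) / (T.θ k ^ 2 * (k : F) ^ 2 + 1) with hb
  have e : uG T c d = ⁅hG T k, uG T a b⁆ := by
    rw [commutator_hG_uG]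
    congr 1
    · rw [ha]; field_simp
    · rw [hb]; field_simp; ring
  rw [e, commutator_def]
  exact Subgroup.commutator_mem_commutator (Subgroup.mem_top _) (Subgroup.mem_top _)

theorem perfect [Fintype F] (hT : T.IsPow) : commutator (Gam T) = ⊤ := by
  rw [eq_top_iff, ← Mcl_eq_top T hT]
  apply Subgroup.normalClosure_le_normal
  rintro _ ⟨a, b, rfl⟩
  exact uG_mem_commutator T hT a b

/-- every conjugate of an element of `U` lies in `N U` for a transitive normal subgroup `N` -/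
theorem conj_mem_mul [Fintype F] (hT : T.IsPow) (N : Subgroup (Gam T)) [hN : N.Normal]
    (htr : ∀ p : ovoid T, ∃ n ∈ N, n • oInf T = p) (g : Gam T) {u : Gam T} (hu : u ∈ Usub T) :
    ∃ n ∈ N, ∃ u' ∈ Usub T, g * u * g⁻¹ = n * u' := by
  obtain ⟨n, hn, b, hb, rfl⟩ := exists_mul_borel T N htr g
  have hu' := borel_conj_mem T hT hb hu
  refine ⟨n * ((b * u * b⁻¹) * n⁻¹ * (b * u * b⁻¹)⁻¹), N.mul_mem hn (hN.conj_mem _ (N.inv_mem hn) _),
    b * u * b⁻¹, hu', ?_⟩
  group

/-- a nontrivial normal subgroup is everything -/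
theorem normal_eq_top [Fintype F] (hT : T.IsPow) (N : Subgroup (Gam T)) [hN : N.Normal]
    (hne : N ≠ ⊥) : N = ⊤ := by
  have htr : ∀ p : ovoid T, ∃ n ∈ N, n • oInf T = p := fun p => normal_transitive T hT N hne _ p
  have hK : Mcl T ≤ N ⊔ Usub T := by
    apply (Subgroup.closure_le _).mpr
    intro x hx
    obtain ⟨u, hu, hux⟩ := Group.mem_conjugatesOfSet_iff.mp hx
    obtain ⟨g, rfl⟩ := isConj_iff.mp hux
    obtain ⟨n, hn, u', hu', e⟩ := conj_mem_mul T hT N htr g hu
    rw [e]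
    exact Subgroup.mul_mem _ (Subgroup.mem_sup_left hn) (Subgroup.mem_sup_right hu')
  rw [Mcl_eq_top T hT, top_le_iff] at hK
  apply eq_top_of_perfect_of_mul (perfect T hT) N
  intro g
  have hg : g ∈ ((N ⊔ Usub T : Subgroup (Gam T)) : Set (Gam T)) := by
    rw [hK]; exact Subgroup.mem_top g
  rw [Subgroup.normal_mul] at hg
  obtain ⟨n, hn, u, hu, rfl⟩ := Set.mem_mul.mp hg
  obtain ⟨a, b, rfl⟩ := hu
  exact ⟨n, hn, uG T a b, uG_pow_four T a b, rfl⟩

theorem nontrivial_Gam [Fintype F] (hT : T.IsPow) : Nontrivial (Gam T) := by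
  obtain ⟨k, hk⟩ := exists_unit_ne_one T hT
  refine ⟨⟨hG T k, 1, ?_⟩⟩
  intro h
  rw [← hG_one T] at h
  exact hk (hG_injective T h)

theorem isSimpleGroup_Gam [Fintype F] (hT : T.IsPow) : IsSimpleGroup (Gam T) := by
  have := nontrivial_Gam T hT
  refine ⟨fun N hN => ?_⟩
  by_cases h : N = ⊥
  · exact Or.inl h
  · exact Or.inr (normal_eq_top T hT N h)

theorem isSimpleGroup_of_eq [Fintype F] (hT : T.IsPow) (O : Set PP) (hO : O = ovoid T) :
    IsSimpleGroup (MulAction.stabilizer SL4 O) := by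
  subst hO
  exact isSimpleGroup_Gam T hT

end Cfsg.Agent.Lib.Helper3.Sz
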