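import Mathlib
import Cfsg.Agent.Lib.Helper3.Sz11

set_option autoImplicit false
set_option linter.unusedSectionVars false

/-!
Suzuki groups, part 12: the Suzuki group is a Zassenhaus group on the ovoid.
-/

namespace Cfsg.Agent.Lib.Helper3.Sz

open Matrix
open scoped Pointwise

variable {F : Type*} [Field F] [CharP F 2] (T : Tits F)

local notation "SL4" => Matrix.SpecialLinearGroup (Fin 4) F
local notation "PP" => Projectivization F (Fin 4 → F)

theorem isZassenhaus_Gam [Fintype F] (hT : T.IsPow) :
    Cfsg.IsZassenhausGroup (Gam T) (ovoid T) := by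
  refine ⟨faithful T hT, is_two_pretransitive T, ?_, ?_, ?_⟩
  · intro g a b c hab hbc hac ha hb hc
    exact eq_one_of_fix_three T hT hab hbc hac ha hb hc
  · obtain ⟨k, hk⟩ := exists_unit_ne_one T hT
    refine ⟨hG T k, ?_, oInf T, oPt T 0 0, (oPt_ne_oInf T 0 0).symm, hG_smul_oInf T k, ?_⟩
    · intro h
      rw [← hG_one T] at h
      exact hk (hG_injective T h)
    · rw [hG_smul_oPt]; simp
  · intro N hN htr
    have hN' : N = ⊤ := by
      have := hN
      apply normal_eq_top T hT N
      rintro rfl
      -- the trivial group is not transitive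
      obtain ⟨⟨n, hn⟩, hn'⟩ := htr.exists_smul_eq (oInf T) (oPt T 0 0)
      rw [Subgroup.mem_bot] at hn
      subst hn
      have : (1 : Gam T) • oInf T = oPt T 0 0 := hn'
      rw [one_smul] at this
      exact oPt_ne_oInf T 0 0 this.symm
    subst hN'
    refine ⟨oInf T, ?_⟩
    obtain ⟨k, hk⟩ := exists_unit_ne_one T hT
    intro h
    have hmem : (⟨hG T k, Subgroup.mem_top _⟩ : (⊤ : Subgroup (Gam T))) ∈
        MulAction.stabilizer (⊤ : Subgroup (Gam T)) (oInf T) := by
      rw [MulAction.mem_stabilizer_iff]
      exact hG_smul_oInf T k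
    rw [h, Subgroup.mem_bot] at hmem
    have : hG T k = 1 := congrArg Subtype.val hmem
    rw [← hG_one T] at this
    exact hk (hG_injective T this)

theorem isZassenhaus_of_eq [Fintype F] (hT : T.IsPow) (O : Set PP) (hO : O = ovoid T) :
    Cfsg.IsZassenhausGroup (MulAction.stabilizer SL4 O) O := by
  subst hO
  exact isZassenhaus_Gam T hT

end Cfsg.Agent.Lib.Helper3.Sz
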