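import Mathlib
import Cfsg.Agent.Lib.Helper3.Sz12

set_option autoImplicit false
set_option linter.unusedSectionVars false

/-!
Suzuki groups, part 13: the Suzuki group preserves the symplectic form; three points of the ovoid are
independent.
-/

namespace Cfsg.Agent.Lib.Helper3.Sz

open Matrix
open scoped Pointwise

variable {F : Type*} [Field F] [CharP F 2] (T : Tits F)

local notation "SL4" => Matrix.SpecialLinearGroup (Fin 4) F
local notation "PP" => Projectivization F (Fin 4 → F)

/-- the matrix preserves the form with matrix `τ` -/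
def PresJ (A : Matrix (Fin 4) (Fin 4) F) : Prop := Aᵀ * tM * A = tM

theorem PresJ.mul {A B : Matrix (Fin 4) (Fin 4) F} (hA : PresJ A) (hB : PresJ B) : PresJ (A * B) := by
  unfold PresJ at *
  rw [Matrix.transpose_mul]
  calc Bᵀ * Aᵀ * tM * (A * B) = Bᵀ * (Aᵀ * tM * A) * B := by simp only [Matrix.mul_assoc]
    _ = tM := by rw [hA, hB]

theorem presJ_uM (a b : F) : PresJ (uM T a b) := by
  unfold PresJ
  ext i j
  fin_cases i <;> fin_cases j <;>
    simp [uM, tM, Matrix.mul_apply, Fin.sum_univ_four, Tits.f] <;> grind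

theorem presJ_hM {k : F} (hk : k ≠ 0) : PresJ (hM T k) := by
  have h1 : T.θ k ≠ 0 := fun h => hk (T.eq_zero_iff.mp h)
  unfold PresJ
  ext i j
  fin_cases i <;> fin_cases j <;>
    simp [hM, tM, Matrix.mul_apply, Fin.sum_univ_four, h1] <;> field_simp

theorem presJ_tM : PresJ (tM : Matrix (Fin 4) (Fin 4) F) := by
  unfold PresJ
  ext i j
  fin_cases i <;> fin_cases j <;>
    simp [tM, Matrix.mul_apply, Fin.sum_univ_four]

theorem coe_uG (a b : F) : (((uG T a b : Gam T) : SL4) : Matrix (Fin 4) (Fin 4) F) = uM T a b := rfl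
theorem coe_hG (k : Fˣ) : (((hG T k : Gam T) : SL4) : Matrix (Fin 4) (Fin 4) F) = hM T k := rfl
theorem coe_tG : (((tG T : Gam T) : SL4) : Matrix (Fin 4) (Fin 4) F) = tM := rfl
theorem coe_mul_G (g h : Gam T) : (((g * h : Gam T) : SL4) : Matrix (Fin 4) (Fin 4) F) =
    ((g : SL4) : Matrix (Fin 4) (Fin 4) F) * ((h : SL4) : Matrix (Fin 4) (Fin 4) F) := rfl

theorem presJ_of_mem [Fintype F] (hT : T.IsPow) (g : Gam T) :
    PresJ ((g : SL4) : Matrix (Fin 4) (Fin 4) F) := by
  by_cases h0 : g • oInf T = oInf T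
  · obtain ⟨a, b, k, rfl⟩ := borel_decomp T hT h0
    rw [coe_mul_G, coe_uG, coe_hG]
    exact (presJ_uM T a b).mul (presJ_hM T k.ne_zero)
  · obtain ⟨a, b, c, d, k, rfl⟩ := bruhat_decomp T hT h0
    rw [coe_mul_G, coe_mul_G, coe_mul_G, coe_uG, coe_hG, coe_tG, coe_uG]
    exact ((presJ_uM T a b).mul presJ_tM).mul ((presJ_uM T c d).mul (presJ_hM T k.ne_zero))

theorem suzukiForm_eq : Cfsg.suzukiForm F = tM := rfl

theorem preserves_form_of_eq [Fintype F] (hT : T.IsPow) (O : Set PP) (hO : O = ovoid T)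
    {g : SL4} (hg : g ∈ MulAction.stabilizer SL4 O) :
    (g : Matrix (Fin 4) (Fin 4) F).transpose * Cfsg.suzukiForm F * (g : Matrix (Fin 4) (Fin 4) F) =
      Cfsg.suzukiForm F := by
  subst hO
  exact presJ_of_mem T hT ⟨g, hg⟩

/-! ### independence of three points -/

theorem linearIndependent_three {x y : F} (hxy : ¬ (x = 0 ∧ y = 0)) :
    LinearIndependent F ![e0, ovVec T 0 0, ovVec T x y] := by
  rw [Fintype.linearIndependent_iff]
  intro c hc
  have h1 := congrFun hc 1
  have h2 := congrFun hc 2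
  have h3 := congrFun hc 3
  have h0 := congrFun hc 0
  simp [Fin.sum_univ_three, e0, ovVec, Tits.f] at h0 h1 h2 h3
  have hc2 : c 2 = 0 := by
    rcases h1 with h | h
    · exact h
    · rcases h2 with h' | h'
      · exact h'
      · exact absurd ⟨h', h⟩ hxy
  rw [hc2] at h0 h3
  simp at h0 h3
  intro i
  fin_cases i
  · exact h0
  · exact h3
  · exact hc2

theorem independent_smul (g : SL4) {v : Fin 3 → Fin 4 → F} (hv : LinearIndependent F v)
    (hv0 : ∀ i, v i ≠ 0) :
    Projectivization.Independent (fun i => g • Projectivization.mk F (v i) (hv0 i)) := by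
  have h1 : ∀ i, g • v i ≠ 0 := fun i => (smul_ne_zero_iff_ne g).mpr (hv0 i)
  have h2 : (fun i => g • Projectivization.mk F (v i) (hv0 i)) =
      fun i => Projectivization.mk F (g • v i) (h1 i) := by
    funext i
    rw [Projectivization.smul_mk]
  rw [h2]
  refine Projectivization.Independent.mk _ h1 ?_
  have h3 : (fun i => g • v i) = (Matrix.toLin' (g : Matrix (Fin 4) (Fin 4) F)) ∘ v := by
    funext i
    simp [Matrix.toLin'_apply, Matrix.SpecialLinearGroup.smul_def, Matrix.smul_eq_mulVec]
  rw [h3]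
  apply hv.map'
  rw [LinearMap.ker_eq_bot]
  intro a b hab
  simp only [Matrix.toLin'_apply] at hab
  have : g • a = g • b := by
    rw [Matrix.SpecialLinearGroup.smul_def, Matrix.SpecialLinearGroup.smul_def, Matrix.smul_eq_mulVec,
      Matrix.smul_eq_mulVec]
    exact hab
  exact smul_left_cancel g this

theorem independent_three [Fintype F] (p : Fin 3 ↪ ovoid T) :
    Projectivization.Independent (fun i => (p i : PP)) := by
  have h01 : p 0 ≠ p 1 := fun h => by simpa using p.injective h
  have h02 : p 0 ≠ p 2 := fun h => by simpa using p.injective h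
  have h12 : p 1 ≠ p 2 := fun h => by simpa using p.injective h
  obtain ⟨g, hg0, hg1⟩ := exists_smul_pair T h01
  have hne : g⁻¹ • p 2 ≠ oInf T := by
    intro h
    apply h02
    rw [← hg0, ← h, smul_inv_smul]
  obtain ⟨x, y, hxy⟩ := (ne_oInf_iff T).mp hne
  have hxy0 : ¬ (x = 0 ∧ y = 0) := by
    rintro ⟨rfl, rfl⟩
    apply h12
    rw [← hg1, ← hxy, smul_inv_smul]
  have hg2 : g • oPt T x y = p 2 := by rw [← hxy, smul_inv_smul]
  have hv0 : ∀ i, (![e0, ovVec T 0 0, ovVec T x y] : Fin 3 → Fin 4 → F) i ≠ 0 := by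
    intro i
    fin_cases i
    · exact e0_ne_zero
    · exact ovVec_ne_zero T 0 0
    · exact ovVec_ne_zero T x y
  have key := independent_smul (g : SL4) (linearIndependent_three T hxy0) hv0
  convert key using 1
  funext i
  fin_cases i
  · exact (congrArg Subtype.val hg0).symm
  · exact (congrArg Subtype.val hg1).symm
  · exact (congrArg Subtype.val hg2).symm

theorem independent_three_of_eq [Fintype F] (O : Set PP) (hO : O = ovoid T) (p : Fin 3 ↪ O) :
    Projectivization.Independent (fun i => (p i : PP)) := by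
  subst hO
  exact independent_three T p

end Cfsg.Agent.Lib.Helper3.Sz
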