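import Mathlib
import Cfsg.Agent.Lib.Helper3.Sz13

set_option autoImplicit false
set_option linter.unusedSectionVars false

/-!
Suzuki groups, part 14: the structure of the unipotent group `U` and of the Sylow `2`-subgroups.
-/

namespace Cfsg.Agent.Lib.Helper3.Sz

open Matrix
open scoped Pointwise commutatorElement

/-- the structure of a Sylow `2`-subgroup of `Sz(q)` -/
structure SylStruct (A : Type*) [Group A] (q : ℕ) : Prop where
  card : Nat.card A = q ^ 2
  exp : Monoid.exponent A = 4
  center_eq : Subgroup.center A = commutator A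
  card_center : Nat.card (Subgroup.center A) = q

theorem mem_center_of_equiv {A B : Type*} [Group A] [Group B] (e : A ≃* B) (x : B) :
    x ∈ Subgroup.center B ↔ e.symm x ∈ Subgroup.center A := by
  simp only [Subgroup.mem_center_iff]
  constructor
  · intro hx a
    apply e.injective
    simp [hx]
  · intro hx b
    have := hx (e.symm b)
    apply e.symm.injective
    simpa using this

theorem center_eq_commutator_of_equiv {A B : Type*} [Group A] [Group B] (e : A ≃* B)
    (h : Subgroup.center A = commutator A) : Subgroup.center B = commutator B := by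
  ext x
  have hk : x ∈ commutator B ↔ e.symm x ∈ commutator A := by
    have : commutator B = (commutator A).map e.toMonoidHom := by
      rw [commutator_def, commutator_def, Subgroup.map_commutator,
        Subgroup.map_top_of_surjective _ e.surjective]
    rw [this, Subgroup.mem_map_equiv]
  rw [mem_center_of_equiv e, hk, h]

theorem SylStruct.of_equiv {A B : Type*} [Group A] [Group B] {q : ℕ} (e : A ≃* B)
    (h : SylStruct A q) : SylStruct B q where
  card := by rw [← Nat.card_congr e.toEquiv]; exact h.card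
  exp := by rw [← Monoid.exponent_eq_of_mulEquiv e]; exact h.exp
  center_eq := center_eq_commutator_of_equiv e h.center_eq
  card_center := by
    rw [← Nat.card_congr (Subgroup.centerCongr e).toEquiv]; exact h.card_center

variable {F : Type*} [Field F] [CharP F 2] (T : Tits F)

local notation "SL4" => Matrix.SpecialLinearGroup (Fin 4) F
local notation "PP" => Projectivization F (Fin 4 → F)

/-- elements of `U` -/
def uU (a b : F) : Usub T := ⟨uG T a b, uG_mem_Usub T a b⟩

theorem uU_surj (g : Usub T) : ∃ a b, g = uU T a b := by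
  obtain ⟨g, a, b, rfl⟩ := g
  exact ⟨a, b, rfl⟩

theorem uU_mul (a b c d : F) : uU T a b * uU T c d = uU T (a + c) (b + d + T.θ a * c) :=
  Subtype.ext (uG_mul T a b c d)

theorem uU_zero : uU T 0 0 = 1 := Subtype.ext (uG_zero T)

theorem uU_inv (a b : F) : (uU T a b)⁻¹ = uU T a (b + a * T.θ a) := Subtype.ext (uG_inv T a b)

theorem uU_inj {a b c d : F} (h : uU T a b = uU T c d) : a = c ∧ b = d :=
  uG_injective T (congrArg Subtype.val h)

theorem uU_eq_one_iff {a b : F} : uU T a b = 1 ↔ a = 0 ∧ b = 0 := by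
  rw [← uU_zero T]
  constructor
  · exact uU_inj T
  · rintro ⟨rfl, rfl⟩; rfl

theorem uU_bijective : Function.Bijective (fun p : F × F => uU T p.1 p.2) := by
  constructor
  · rintro ⟨a, b⟩ ⟨c, d⟩ h
    obtain ⟨rfl, rfl⟩ := uU_inj T h
    rfl
  · intro g
    obtain ⟨a, b, rfl⟩ := uU_surj T g
    exact ⟨(a, b), rfl⟩

theorem card_Usub [Finite F] : Nat.card (Usub T) = Nat.card F ^ 2 := by
  rw [← Nat.card_eq_of_bijective _ (uU_bijective T), Nat.card_prod]
  ring

theorem uU_sq (a b : F) : uU T a b ^ 2 = uU T 0 (a * T.θ a) := by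
  rw [pow_two, uU_mul]
  congr 1
  · exact CharTwo.add_self_eq_zero a
  · rw [CharTwo.add_self_eq_zero, zero_add, mul_comm]

theorem uU_pow_four (a b : F) : uU T a b ^ 4 = 1 := Subtype.ext (uG_pow_four T a b)

theorem exponent_Usub : Monoid.exponent (Usub T) = 4 := by
  have h4 : Monoid.exponent (Usub T) ∣ 2 ^ 2 := by
    rw [Monoid.exponent_dvd_iff_forall_pow_eq_one]
    intro g
    obtain ⟨a, b, rfl⟩ := uU_surj T g
    exact uU_pow_four T a b
  have h2 : ¬ Monoid.exponent (Usub T) ∣ 2 := by
    intro h
    rw [Monoid.exponent_dvd_iff_forall_pow_eq_one] at h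
    have := h (uU T 1 0)
    rw [uU_sq, uU_eq_one_iff] at this
    simp at this
  obtain ⟨k, hk, hk'⟩ := (Nat.dvd_prime_pow Nat.prime_two).mp h4
  interval_cases k
  · rw [hk'] at h2; exact absurd (one_dvd 2) h2
  · rw [hk'] at h2; exact absurd (dvd_refl 2) h2
  · exact hk'

/-- the centre of `U` as a subgroup -/
def Zsub : Subgroup (Usub T) where
  carrier := {g | ∃ b, g = uU T 0 b}
  mul_mem' := by
    rintro _ _ ⟨b, rfl⟩ ⟨d, rfl⟩
    refine ⟨b + d, ?_⟩
    rw [uU_mul]
    congr 1
    · exact add_zero 0
    · rw [map_zero, zero_mul, add_zero]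
  one_mem' := ⟨0, (uU_zero T).symm⟩
  inv_mem' := by
    rintro _ ⟨b, rfl⟩
    refine ⟨b, ?_⟩
    rw [uU_inv, zero_mul, add_zero]

theorem mem_Zsub_iff {a b : F} : uU T a b ∈ Zsub T ↔ a = 0 := by
  constructor
  · rintro ⟨d, h⟩
    exact (uU_inj T h).1
  · rintro rfl
    exact ⟨b, rfl⟩

theorem card_Zsub [Finite F] : Nat.card (Zsub T) = Nat.card F := by
  symm
  apply Nat.card_eq_of_bijective (fun b : F => (⟨uU T 0 b, ⟨b, rfl⟩⟩ : Zsub T))
  constructor
  · intro b d h
    exact (uU_inj T (congrArg Subtype.val h)).2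
  · rintro ⟨_, b, rfl⟩
    exact ⟨b, rfl⟩

/-- there is an element not fixed by `θ` -/
theorem exists_theta_ne [Fintype F] (hT : T.IsPow) : ∃ t : F, t + T.θ t ≠ 0 := by
  obtain ⟨k, hk⟩ := exists_unit_ne_one T hT
  by_contra h
  push Not at h
  have h1 : ∀ t : F, T.θ t = t := fun t => (CharTwo.add_eq_zero.mp (h t)).symm
  have h2 : (k : F) ^ 2 = k := by rw [← T.sq, h1, h1]
  have h3 : (k : F) = 1 := by
    have : (k : F) * k = k * 1 := by rw [mul_one, ← pow_two, h2]
    exact mul_left_cancel₀ k.ne_zero this
  exact hk (Units.ext h3)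

theorem commutator_uU (a b c d : F) :
    ⁅uU T a b, uU T c d⁆ = uU T 0 (T.θ a * c + T.θ c * a) := by
  rw [commutatorElement_def, uU_inv, uU_inv, uU_mul, uU_mul, uU_mul]
  congr 1
  · grind
  · simp only [map_add]
    grind

theorem center_Usub [Fintype F] (hT : T.IsPow) : Subgroup.center (Usub T) = Zsub T := by
  ext g
  obtain ⟨a, b, rfl⟩ := uU_surj T g
  rw [mem_Zsub_iff, Subgroup.mem_center_iff]
  constructor
  · intro h
    by_contra ha
    obtain ⟨t, ht⟩ := exists_theta_ne T hT
    have h1 := h (uU T 1 0)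
    have ht' := h (uU T t 0)
    rw [uU_mul, uU_mul] at h1 ht'
    have e1 := (uU_inj T h1).2
    have e2 := (uU_inj T ht').2
    simp only [map_one, one_mul, mul_one, zero_add, add_zero] at e1 e2
    -- e1 : b + a = b + θ a,  e2 : b + θ t * a = b + θ a * t
    have e1' : T.θ a = a := (add_left_cancel e1).symm
    have e2' : T.θ t * a = a * t := by
      have := add_left_cancel e2
      rw [e1'] at this
      exact this
    apply ht
    have : (t + T.θ t) * a = 0 := by
      rw [add_mul, e2', mul_comm t a, CharTwo.add_self_eq_zero]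
    rcases mul_eq_zero.mp this with h' | h'
    · exact h'
    · exact absurd h' ha
  · rintro rfl g
    obtain ⟨c, d, rfl⟩ := uU_surj T g
    rw [uU_mul, uU_mul]
    congr 1
    · exact add_comm c 0
    · rw [map_zero, zero_mul, mul_zero, add_comm d b]

theorem commutator_Usub [Fintype F] (hT : T.IsPow) : commutator (Usub T) = Zsub T := by
  apply le_antisymm
  · rw [commutator_def, Subgroup.commutator_le]
    intro g _ g' _
    obtain ⟨a, b, rfl⟩ := uU_surj T g
    obtain ⟨c, d, rfl⟩ := uU_surj T g'
    rw [commutator_uU]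
    exact ⟨_, rfl⟩
  · rintro _ ⟨b, rfl⟩
    obtain ⟨t, ht⟩ := exists_theta_ne T hT
    obtain ⟨l, hl⟩ := T.norm_surjective (b / (t + T.θ t))
    have : uU T 0 b = ⁅uU T l 0, uU T (l * t) 0⁆ := by
      rw [commutator_uU]
      congr 1
      have : T.θ l * (l * t) + T.θ (l * t) * l = (l * T.θ l) * (t + T.θ t) := by
        rw [map_mul]; ring
      rw [this, hl, div_mul_cancel₀ _ ht]
    rw [this, commutator_def]
    exact Subgroup.commutator_mem_commutator (Subgroup.mem_top _) (Subgroup.mem_top _)

theorem sylStruct_Usub [Fintype F] (hT : T.IsPow) : SylStruct (Usub T) (Nat.card F) where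
  card := card_Usub T
  exp := exponent_Usub T
  center_eq := by rw [center_Usub T hT, commutator_Usub T hT]
  card_center := by rw [center_Usub T hT, card_Zsub]

end Cfsg.Agent.Lib.Helper3.Sz
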