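import Mathlib
import Cfsg.Agent.Lib.Helper3.Sz14

set_option autoImplicit false
set_option linter.unusedSectionVars false

/-!
Suzuki groups, part 15: `U` is a Sylow `2`-subgroup; transport to all Sylow `2`-subgroups.
-/

namespace Cfsg.Agent.Lib.Helper3.Sz

open Matrix
open scoped Pointwise commutatorElement

variable {F : Type*} [Field F] [CharP F 2] (T : Tits F)

local notation "SL4" => Matrix.SpecialLinearGroup (Fin 4) F
local notation "PP" => Projectivization F (Fin 4 → F)

theorem isPGroup_Usub : IsPGroup 2 (Usub T) := by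
  intro g
  obtain ⟨a, b, rfl⟩ := uU_surj T g
  exact ⟨2, uU_pow_four T a b⟩

theorem even_card [Fintype F] : Even (Nat.card F) := by
  rw [Nat.card_eq_fintype_card, Nat.even_iff]
  exact FiniteField.even_card_of_char_two (F := F) (ringChar.eq F 2)

theorem index_Usub [Fintype F] (hT : T.IsPow) :
    (Usub T).index = (Nat.card F ^ 2 + 1) * (Nat.card F - 1) := by
  have h1 := Subgroup.card_mul_index (Usub T)
  rw [card_Usub, card_Gam T hT] at h1
  have hpos : 0 < Nat.card F ^ 2 := by
    have : 0 < Nat.card F := Nat.card_pos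
    positivity
  apply Nat.eq_of_mul_eq_mul_left hpos
  rw [h1]; ring

theorem not_two_dvd_index_Usub [Fintype F] (hT : T.IsPow) : ¬ 2 ∣ (Usub T).index := by
  rw [index_Usub T hT]
  obtain ⟨j, hj⟩ := even_card (F := F)
  have hpos : 0 < Nat.card F := Nat.card_pos
  intro h
  rcases (Nat.Prime.dvd_mul Nat.prime_two).mp h with h | h
  · rw [hj] at h
    have : (j + j) ^ 2 + 1 = 2 * (2 * j * j) + 1 := by ring
    rw [this] at h
    omega
  · omega

/-- `U` as a Sylow `2`-subgroup -/
noncomputable def sylU [Fintype F] (hT : T.IsPow) : Sylow 2 (Gam T) :=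
  (isPGroup_Usub T).toSylow (not_two_dvd_index_Usub T hT)

theorem sylU_coe [Fintype F] (hT : T.IsPow) : (sylU T hT : Subgroup (Gam T)) = Usub T :=
  IsPGroup.toSylow_coe _ _

theorem sylStruct_sylow [Fintype F] (hT : T.IsPow) (P : Sylow 2 (Gam T)) :
    SylStruct P (Nat.card F) := by
  have e1 : Usub T ≃* (sylU T hT) := MulEquiv.subgroupCongr (sylU_coe T hT).symm
  exact ((sylStruct_Usub T hT).of_equiv e1).of_equiv (Sylow.equiv (sylU T hT) P)

theorem sylStruct_of_eq [Fintype F] (hT : T.IsPow) (O : Set PP) (hO : O = ovoid T)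
    (P : Sylow 2 (MulAction.stabilizer SL4 O)) : SylStruct P (Nat.card F) := by
  subst hO
  exact sylStruct_sylow T hT P

/-- every Sylow `2`-subgroup is a conjugate of `U` -/
theorem exists_conj_sylow [Fintype F] (hT : T.IsPow) (P : Sylow 2 (Gam T)) :
    ∃ g : Gam T, (P : Subgroup (Gam T)) = (Usub T).map (MulAut.conj g).toMonoidHom := by
  obtain ⟨g, hg⟩ := MulAction.exists_smul_eq (Gam T) (sylU T hT) P
  refine ⟨g, ?_⟩
  rw [← hg, Sylow.coe_subgroup_smul, sylU_coe, Subgroup.pointwise_smul_def]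
  rfl

end Cfsg.Agent.Lib.Helper3.Sz
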