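import Mathlib
import Cfsg.Agent.Lib.Helper3.Sz15

set_option autoImplicit false
set_option linter.unusedSectionVars false

/-!
Suzuki groups, part 16: the normaliser of a Sylow `2`-subgroup is the unique maximal subgroup
containing it.
-/

namespace Cfsg.Agent.Lib.Helper3.Sz

open Matrix
open scoped Pointwise commutatorElement

/-- transport of "the normaliser is the unique maximal subgroup above" along an automorphism -/
theorem coatom_transport {G : Type*} [Group G] (c : G ≃* G) (U : Subgroup G)
    (h1 : IsCoatom (Subgroup.normalizer (U : Set G)))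
    (h2 : ∀ M : Subgroup G, IsCoatom M → U ≤ M → M = Subgroup.normalizer (U : Set G)) :
    IsCoatom (Subgroup.normalizer ((U.map c.toMonoidHom : Subgroup G) : Set G)) ∧
    ∀ M : Subgroup G, IsCoatom M → U.map c.toMonoidHom ≤ M →
      M = Subgroup.normalizer ((U.map c.toMonoidHom : Subgroup G) : Set G) := by
  have e := Subgroup.map_equiv_normalizer_eq U c
  constructor
  · rw [← e]
    exact (OrderIso.isCoatom_iff c.mapSubgroup _).mpr h1
  · intro M hM hUM
    rw [← e]
    have h3 : IsCoatom (M.map c.symm.toMonoidHom) :=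
      (OrderIso.isCoatom_iff c.symm.mapSubgroup _).mpr hM
    have h4 : U ≤ M.map c.symm.toMonoidHom := by
      intro u hu
      rw [Subgroup.mem_map_equiv]
      simp only [MulEquiv.symm_symm]
      exact hUM (Subgroup.mem_map_of_mem _ hu)
    have h5 := h2 _ h3 h4
    rw [← h5]
    ext x
    rw [Subgroup.mem_map_equiv, Subgroup.mem_map_equiv]
    simp

variable {F : Type*} [Field F] [CharP F 2] (T : Tits F)

local notation "SL4" => Matrix.SpecialLinearGroup (Fin 4) F
local notation "PP" => Projectivization F (Fin 4 → F)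

theorem normalizer_Usub [Fintype F] (hT : T.IsPow) :
    Subgroup.normalizer (Usub T : Set (Gam T)) = Borel T := by
  apply le_antisymm
  · intro g hg
    rw [Subgroup.mem_normalizer_iff] at hg
    -- g⁻¹ u(1,0) g ∈ U fixes ∞, so u(1,0) fixes g ∞
    by_contra hgB
    have h1 : g • oInf T ≠ oInf T := hgB
    have h2 : g⁻¹ * uG T 1 0 * g ∈ Usub T := by
      have := (hg (g⁻¹ * uG T 1 0 * g)).mpr (by
        have : g * (g⁻¹ * uG T 1 0 * g) * g⁻¹ = uG T 1 0 := by group
        rw [this]; exact uG_mem_Usub T 1 0)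
      exact this
    obtain ⟨a, b, hab⟩ := h2
    have h3 : uG T 1 0 • (g • oInf T) = g • oInf T := by
      have : uG T 1 0 * g = g * uG T a b := by rw [← hab]; group
      rw [← mul_smul, this, mul_smul, uG_smul_oInf]
    have := (uG_fix T h3 h1).1
    exact one_ne_zero this
  · intro g hg
    rw [Subgroup.mem_normalizer_iff]
    intro u
    constructor
    · intro hu
      exact borel_conj_mem T hT hg hu
    · intro hu
      have := borel_conj_mem T hT ((Borel T).inv_mem hg) hu
      have e : g⁻¹ * (g * u * g⁻¹) * g⁻¹⁻¹ = u := by group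
      rw [e] at this
      exact this

/-- **Lemma L**: a subgroup containing `U` and not contained in the Borel subgroup is everything -/
theorem eq_top_of_Usub_le [Fintype F] (hT : T.IsPow) (M : Subgroup (Gam T)) (hU : Usub T ≤ M)
    (hM : ¬ M ≤ Borel T) : M = ⊤ := by
  obtain ⟨g, hgM, hgB⟩ := SetLike.not_le_iff_exists.mp hM
  have hg : g • oInf T ≠ oInf T := hgB
  obtain ⟨x, y, hxy⟩ := (ne_oInf_iff T).mp hg
  -- M is transitive
  have htr : ∀ p : ovoid T, ∃ n ∈ M, n • oInf T = p := by
    intro p
    rcases ovoid_cases T p with rfl | ⟨x', y', rfl⟩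
    · exact ⟨1, M.one_mem, one_smul _ _⟩
    · obtain ⟨a, b, hab⟩ := exists_uG_smul T x y x' y'
      exact ⟨uG T a b * g, M.mul_mem (hU (uG_mem_Usub T a b)) hgM, by rw [mul_smul, hxy, hab]⟩
  -- U lies in the normal core of M
  have hcore : Usub T ≤ M.normalCore := by
    intro u hu
    show ∀ b, b * u * b⁻¹ ∈ M
    intro g'
    obtain ⟨n, hn, b, hb, rfl⟩ := exists_mul_borel T M htr g'
    have h1 := hU (borel_conj_mem T hT hb hu)
    have : n * b * u * (n * b)⁻¹ = n * (b * u * b⁻¹) * n⁻¹ := by group
    rw [this]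
    exact M.mul_mem (M.mul_mem hn h1) (M.inv_mem hn)
  have hne : M.normalCore ≠ ⊥ := by
    intro h
    have h1 : uG T 1 0 ∈ M.normalCore := hcore (uG_mem_Usub T 1 0)
    rw [h, Subgroup.mem_bot, ← uG_zero T] at h1
    exact one_ne_zero (uG_injective T h1).1
  have htop := normal_eq_top T hT M.normalCore hne
  rw [eq_top_iff, ← htop]
  exact M.normalCore_le

theorem borel_ne_top : Borel T ≠ ⊤ := by
  intro h
  have : tG T ∈ Borel T := by rw [h]; exact Subgroup.mem_top _
  have h1 : tG T • oInf T = oInf T := this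
  rw [tG_smul_oInf] at h1
  exact oPt_ne_oInf T 0 0 h1

theorem isCoatom_borel [Fintype F] (hT : T.IsPow) : IsCoatom (Borel T) := by
  refine ⟨borel_ne_top T, ?_⟩
  intro M hM
  apply eq_top_of_Usub_le T hT M ((Usub_le_Borel T).trans hM.le)
  exact fun h => absurd (le_antisymm h hM.le) (ne_of_gt hM)

theorem eq_borel_of_coatom [Fintype F] (hT : T.IsPow) (M : Subgroup (Gam T)) (hM : IsCoatom M)
    (hU : Usub T ≤ M) : M = Borel T := by
  by_contra hne
  have h1 : ¬ M ≤ Borel T := by
    intro hle
    rcases eq_or_lt_of_le hle with h | h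
    · exact hne h
    · exact borel_ne_top T (hM.2 _ h)
  exact hM.1 (eq_top_of_Usub_le T hT M hU h1)

theorem sylow_normalizer_coatom [Fintype F] (hT : T.IsPow) (P : Sylow 2 (Gam T)) :
    IsCoatom (Subgroup.normalizer ((P : Subgroup (Gam T)) : Set (Gam T))) ∧
    ∀ M : Subgroup (Gam T), IsCoatom M → (P : Subgroup (Gam T)) ≤ M →
      M = Subgroup.normalizer ((P : Subgroup (Gam T)) : Set (Gam T)) := by
  obtain ⟨g, hg⟩ := exists_conj_sylow T hT P
  rw [hg]
  apply coatom_transport
  · rw [normalizer_Usub T hT]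
    exact isCoatom_borel T hT
  · intro M hM hU
    rw [normalizer_Usub T hT]
    exact eq_borel_of_coatom T hT M hM hU

theorem sylow_normalizer_coatom_of_eq [Fintype F] (hT : T.IsPow) (O : Set PP) (hO : O = ovoid T)
    (P : Sylow 2 (MulAction.stabilizer SL4 O)) :
    IsCoatom (Subgroup.normalizer ((P : Subgroup (MulAction.stabilizer SL4 O)) :
      Set (MulAction.stabilizer SL4 O))) ∧
    ∀ M : Subgroup (MulAction.stabilizer SL4 O), IsCoatom M →
      (P : Subgroup (MulAction.stabilizer SL4 O)) ≤ M →
      M = Subgroup.normalizer ((P : Subgroup (MulAction.stabilizer SL4 O)) :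
        Set (MulAction.stabilizer SL4 O)) := by
  subst hO
  exact sylow_normalizer_coatom T hT P

end Cfsg.Agent.Lib.Helper3.Sz
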