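import Mathlib
import Cfsg.Agent.Lib.Helper3.Sz16

set_option autoImplicit false
set_option linter.unusedSectionVars false

/-!
Suzuki groups, part 17: the Suzuki group is generated by two elements.
-/

namespace Cfsg.Agent.Lib.Helper3.Sz

open Matrix
open scoped Pointwise commutatorElement

variable {F : Type*} [Field F] [CharP F 2] (T : Tits F)

local notation "SL4" => Matrix.SpecialLinearGroup (Fin 4) F
local notation "PP" => Projectivization F (Fin 4 → F)

theorem hG_zpow (k : Fˣ) (j : ℤ) : hG T (k ^ j) = hG T k ^ j := map_zpow (torusHom T) k j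

/-- a subgroup containing the torus and one element `u(a₀, b₀)` with `a₀ ≠ 0` contains `U` -/
theorem Usub_le_of_torus [Fintype F] (L : Subgroup (Gam T)) (hH : ∀ l : Fˣ, hG T l ∈ L)
    {a₀ b₀ : F} (ha₀ : a₀ ≠ 0) (hv : uG T a₀ b₀ ∈ L) : Usub T ≤ L := by
  -- for every x ≠ 0 some u(x, β) lies in L
  have h1 : ∀ x : F, x ≠ 0 → ∃ β, uG T x β ∈ L := by
    intro x hx
    obtain ⟨l, hl⟩ := exists_sq (x / a₀)
    have hl0 : l ≠ 0 := by
      rintro rfl
      rw [zero_pow two_ne_zero] at hl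
      exact div_ne_zero hx ha₀ hl.symm
    refine ⟨T.θ l ^ 2 * (x / a₀) * b₀, ?_⟩
    have h2 : hG T (Units.mk0 l hl0) * uG T a₀ b₀ * (hG T (Units.mk0 l hl0))⁻¹ ∈ L :=
      L.mul_mem (L.mul_mem (hH _) hv) (L.inv_mem (hH _))
    rw [hG_mul_uG, mul_inv_cancel_right, Units.val_mk0, hl, div_mul_cancel₀ _ ha₀] at h2
    exact h2
  -- the centre lies in L
  have h2 : ∀ y : F, uG T 0 y ∈ L := by
    intro y
    obtain ⟨x, hx⟩ := T.norm_surjective y
    by_cases hx0 : x = 0
    · subst hx0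
      rw [zero_mul] at hx
      rw [← hx, uG_zero]
      exact L.one_mem
    · obtain ⟨β, hβ⟩ := h1 x hx0
      have h3 : uG T x β * uG T x β ∈ L := L.mul_mem hβ hβ
      rw [uG_mul, CharTwo.add_self_eq_zero, CharTwo.add_self_eq_zero, zero_add, mul_comm, hx] at h3
      exact h3
  rintro _ ⟨x, β', rfl⟩
  by_cases hx0 : x = 0
  · subst hx0
    exact h2 β'
  · obtain ⟨β, hβ⟩ := h1 x hx0
    have h3 : uG T x β * uG T 0 (β' + β) ∈ L := L.mul_mem hβ (h2 _)
    rw [uG_mul, add_zero, mul_zero, add_zero] at h3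
    have : β + (β' + β) = β' := by
      rw [add_comm β' β, ← add_assoc, CharTwo.add_self_eq_zero, zero_add]
    rw [this] at h3
    exact h3

theorem two_generated [Fintype F] (hT : T.IsPow) :
    ∃ a b : Gam T, Subgroup.closure ({a, b} : Set (Gam T)) = ⊤ := by
  obtain ⟨k, hk⟩ := IsCyclic.exists_generator (α := Fˣ)
  have hk1 : k ≠ 1 := by
    rintro rfl
    obtain ⟨l, hl⟩ := exists_unit_ne_one T hT
    have := hk l
    rw [Subgroup.zpowers_one_eq_bot, Subgroup.mem_bot] at this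
    exact hl this
  refine ⟨hG T k, uG T 1 0 * tG T, ?_⟩
  set L := Subgroup.closure ({hG T k, uG T 1 0 * tG T} : Set (Gam T)) with hL
  have ha : hG T k ∈ L := Subgroup.subset_closure (by simp)
  have hb : uG T 1 0 * tG T ∈ L := Subgroup.subset_closure (by simp)
  have hH : ∀ l : Fˣ, hG T l ∈ L := by
    intro l
    obtain ⟨j, rfl⟩ := Subgroup.mem_zpowers_iff.mp (hk l)
    rw [hG_zpow]
    exact L.zpow_mem ha j
  -- the commutator of h(k) and u(1,0) lies in L
  have hc : ⁅hG T k, uG T 1 0⁆ ∈ L := by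
    have e : ⁅hG T k, uG T 1 0⁆ =
        hG T k * ((uG T 1 0 * tG T) * hG T k * (uG T 1 0 * tG T)⁻¹) := by
      rw [commutatorElement_def, _root_.mul_inv_rev, tG_inv]
      have : uG T 1 0 * tG T * hG T k * (tG T * (uG T 1 0)⁻¹) =
          uG T 1 0 * (tG T * hG T k * tG T) * (uG T 1 0)⁻¹ := by group
      rw [this, tG_mul_hG, mul_assoc (hG T k⁻¹), tG_mul_tG, mul_one, hG_inv]
      group
    rw [e]
    exact L.mul_mem ha (L.mul_mem (L.mul_mem hb ha) (L.inv_mem hb))
  rw [commutator_hG_uG] at hc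
  have ha₀ : ((k : F) ^ 2 + 1) * 1 ≠ 0 := by
    rw [mul_one]
    apply add_one_ne_zero_of_ne_one
    intro h
    exact hk1 (units_sq_eq_one h)
  have hU := Usub_le_of_torus T L hH ha₀ hc
  apply eq_top_of_Usub_le T hT L hU
  intro hle
  have h1 : (uG T 1 0 * tG T) • oInf T = oInf T := hle hb
  rw [mul_smul, tG_smul_oInf, uG_smul_oPt_zero] at h1
  exact oPt_ne_oInf T 1 0 h1

theorem two_generated_of_eq [Fintype F] (hT : T.IsPow) (O : Set PP) (hO : O = ovoid T) :
    ∃ a b : MulAction.stabilizer SL4 O,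
      Subgroup.closure ({a, b} : Set (MulAction.stabilizer SL4 O)) = ⊤ := by
  subst hO
  exact two_generated T hT

end Cfsg.Agent.Lib.Helper3.Sz
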