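import Mathlib
import Cfsg.Agent.Lib.Helper3.Sz17

set_option autoImplicit false
set_option linter.unusedSectionVars false

/-!
Suzuki groups, part 18: a non-identity `2`-element is conjugate to its inverse iff it is an involution.
-/

namespace Cfsg.Agent.Lib.Helper3.Sz

open Matrix
open scoped Pointwise commutatorElement

variable {F : Type*} [Field F] [CharP F 2] (T : Tits F)

local notation "SL4" => Matrix.SpecialLinearGroup (Fin 4) F
local notation "PP" => Projectivization F (Fin 4 → F)

theorem uG_sq (a b : F) : uG T a b ^ 2 = uG T 0 (a * T.θ a) :=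
  congrArg Subtype.val (uU_sq T a b)

theorem uG_eq_one_iff {a b : F} : uG T a b = 1 ↔ a = 0 ∧ b = 0 := by
  rw [← uG_zero T]
  constructor
  · exact uG_injective T
  · rintro ⟨rfl, rfl⟩; rfl

theorem uG_real_iff [Fintype F] (hT : T.IsPow) {a b : F} (hne : uG T a b ≠ 1) :
    IsConj (uG T a b) (uG T a b)⁻¹ ↔ orderOf (uG T a b) = 2 := by
  constructor
  · intro h
    obtain ⟨y, hy⟩ := isConj_iff.mp h
    have ha : a = 0 := by
      by_contra ha
      have hfix : (uG T a b)⁻¹ • (y • oInf T) = y • oInf T := by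
        rw [← hy, ← mul_smul, inv_mul_cancel_right, mul_smul, uG_smul_oInf]
      rw [uG_inv] at hfix
      have hy0 : y • oInf T = oInf T := by
        by_contra h0
        exact ha (uG_fix T hfix h0).1
      obtain ⟨c, d, k, rfl⟩ := borel_decomp T hT hy0
      have e : (uG T c d * hG T k) * uG T a b * (uG T c d * hG T k)⁻¹ =
          uG T c d * (hG T k * uG T a b * (hG T k)⁻¹) * (uG T c d)⁻¹ := by group
      rw [e, hG_mul_uG, mul_inv_cancel_right, uG_inv, uG_mul, uG_mul, uG_inv] at hy
      obtain ⟨h1, h2⟩ := uG_injective T hy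
      have hk : (k : F) ^ 2 = 1 := by
        have : (k : F) ^ 2 * a = 1 * a := by
          rw [one_mul]
          have : c + (k : F) ^ 2 * a + c = (k : F) ^ 2 * a := by
            rw [add_comm c, add_assoc, CharTwo.add_self_eq_zero, add_zero]
          rw [← this, h1]
        exact mul_right_cancel₀ ha this
      have hk1 : k = 1 := units_sq_eq_one hk
      subst hk1
      simp only [Units.val_one, one_pow, map_one, one_mul, map_add] at h2
      have h3 : T.θ c * a + T.θ a * c = a * T.θ a := by grind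
      have hθa : T.θ a ≠ 0 := fun h => ha (T.eq_zero_iff.mp h)
      apply T.add_ne_one (c / a)
      rw [map_div₀]
      field_simp
      rw [← h3]; ring
    subst ha
    apply orderOf_eq_prime
    · rw [uG_sq, zero_mul, uG_zero]
    · exact hne
  · intro h
    have h2 : uG T a b ^ 2 = 1 := by rw [← h]; exact pow_orderOf_eq_one _
    have : (uG T a b)⁻¹ = uG T a b := by
      rw [inv_eq_iff_mul_eq_one, ← pow_two, h2]
    rw [this]

theorem isConj_conj_iff {G : Type*} [Group G] (x a b : G) :
    IsConj (x * a * x⁻¹) (x * b * x⁻¹) ↔ IsConj a b := by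
  have h1 : ∀ a : G, IsConj a (x * a * x⁻¹) := fun a => isConj_iff.mpr ⟨x, rfl⟩
  constructor
  · intro h
    exact ((h1 a).trans h).trans (h1 b).symm
  · intro h
    exact ((h1 a).symm.trans h).trans (h1 b)

theorem sylow_real_iff [Fintype F] (hT : T.IsPow) (P : Sylow 2 (Gam T)) (g : Gam T)
    (hg : g ∈ (P : Subgroup (Gam T))) (h1 : g ≠ 1) : IsConj g g⁻¹ ↔ orderOf g = 2 := by
  obtain ⟨x, hx⟩ := exists_conj_sylow T hT P
  rw [hx] at hg
  obtain ⟨u, hu, rfl⟩ := Subgroup.mem_map.mp hg
  obtain ⟨a, b, rfl⟩ := hu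
  have e : (MulAut.conj x).toMonoidHom (uG T a b) = x * uG T a b * x⁻¹ := rfl
  rw [e] at h1 ⊢
  have hne : uG T a b ≠ 1 := by
    rintro h
    apply h1
    rw [h]; group
  have e2 : (x * uG T a b * x⁻¹)⁻¹ = x * (uG T a b)⁻¹ * x⁻¹ := by group
  rw [e2, isConj_conj_iff, uG_real_iff T hT hne]
  have : orderOf (x * uG T a b * x⁻¹) = orderOf (uG T a b) := by
    have := MulEquiv.orderOf_eq (MulAut.conj x) (uG T a b)
    exact this
  rw [this]

theorem sylow_real_iff_of_eq [Fintype F] (hT : T.IsPow) (O : Set PP) (hO : O = ovoid T)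
    (P : Sylow 2 (MulAction.stabilizer SL4 O)) (g : MulAction.stabilizer SL4 O)
    (hg : g ∈ (P : Subgroup (MulAction.stabilizer SL4 O))) (h1 : g ≠ 1) :
    IsConj g g⁻¹ ↔ orderOf g = 2 := by
  subst hO
  exact sylow_real_iff T hT P g hg h1

end Cfsg.Agent.Lib.Helper3.Sz
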