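import Mathlib
import Cfsg.Prelude.Def_Sz
import Cfsg.Agent.Lib.Helper3.Sz18

set_option autoImplicit false
set_option linter.unusedSectionVars false

/-!
Suzuki groups, part 19: the matrix group `Lie.Sz`: the generators `u(a,b)`, `h(κ)`, `τ` satisfy the
defining conditions `g ∈ Sp₄`, `g* = g^θ`.
-/

namespace Cfsg.Agent.Lib.Helper3.Sz

open Matrix
open scoped Pointwise

variable {F : Type*} [Field F] [CharP F 2] (T : Tits F)

local notation "SL4" => Matrix.SpecialLinearGroup (Fin 4) F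
local notation "GL4" => GL (Fin 4) F
local notation "PP" => Projectivization F (Fin 4 → F)

theorem altForm4_eq (u v : Fin 4 → F) : Cfsg.Lie.altForm4 u v = u ⬝ᵥ (tM *ᵥ v) := by
  simp [Cfsg.Lie.altForm4, tM, Matrix.mulVec, dotProduct, Fin.sum_univ_four]

theorem altForm4_mulVec (A : Matrix (Fin 4) (Fin 4) F) (u v : Fin 4 → F) :
    Cfsg.Lie.altForm4 (A *ᵥ u) (A *ᵥ v) = u ⬝ᵥ ((Aᵀ * tM * A) *ᵥ v) := by
  rw [altForm4_eq, ← Matrix.vecMul_transpose, ← Matrix.dotProduct_mulVec, Matrix.mulVec_mulVec,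
    Matrix.mulVec_mulVec, Matrix.mul_assoc]

theorem mem_Sp4_iff (g : GL4) :
    g ∈ Cfsg.Lie.Sp4 F ↔ PresJ (g : Matrix (Fin 4) (Fin 4) F) := by
  constructor
  · intro h
    unfold PresJ
    ext i j
    have := h (Pi.single i 1) (Pi.single j 1)
    simp only [Units.coeHom_apply] at this
    rw [altForm4_mulVec, altForm4_eq] at this
    simpa using this
  · intro h u v
    simp only [Units.coeHom_apply]
    rw [altForm4_mulVec, altForm4_eq, h]

/-- the defining set of `Lie.Sz`, for matrices -/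
def IsSz (A : Matrix (Fin 4) (Fin 4) F) : Prop :=
  PresJ A ∧ Cfsg.Lie.star4 A = A.map T.θ

theorem isSz_uM (a b : F) : IsSz T (uM T a b) := by
  refine ⟨presJ_uM T a b, ?_⟩
  ext i j
  fin_cases i <;> fin_cases j <;>
    simp [Cfsg.Lie.star4, Cfsg.Lie.pairOf, uM, Tits.f, T.sq] <;> grind

theorem isSz_hM {k : F} (hk : k ≠ 0) : IsSz T (hM T k) := by
  have h1 : T.θ k ≠ 0 := fun h => hk (T.eq_zero_iff.mp h)
  refine ⟨presJ_hM T hk, ?_⟩
  ext i j
  fin_cases i <;> fin_cases j <;>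
    simp [Cfsg.Lie.star4, Cfsg.Lie.pairOf, hM, T.sq] <;> field_simp

theorem isSz_tM : IsSz T (tM : Matrix (Fin 4) (Fin 4) F) := by
  refine ⟨presJ_tM, ?_⟩
  ext i j
  fin_cases i <;> fin_cases j <;>
    simp [Cfsg.Lie.star4, Cfsg.Lie.pairOf, tM] <;> exact CharTwo.neg_eq _

end Cfsg.Agent.Lib.Helper3.Sz
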