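import Mathlib
import Cfsg.Agent.Lib.Helper3.Sz19

set_option autoImplicit false
set_option linter.unusedSectionVars false

/-!
Suzuki groups, part 20: absolute points of the polarity; matrices satisfying the defining conditions
of `Lie.Sz` preserve the ovoid.
-/

namespace Cfsg.Agent.Lib.Helper3.Sz

open Matrix
open scoped Pointwise

variable {F : Type*} [Field F] [CharP F 2] (T : Tits F)

local notation "SL4" => Matrix.SpecialLinearGroup (Fin 4) F
local notation "GL4" => GL (Fin 4) F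
local notation "PP" => Projectivization F (Fin 4 → F)

/-- the four Plücker coordinates `p01, p02, p13, p23` of `v ∧ w` -/
def pl (v w : Fin 4 → F) : Fin 4 → F :=
  ![v 0 * w 1 - v 1 * w 0, v 0 * w 2 - v 2 * w 0, v 1 * w 3 - v 3 * w 1, v 2 * w 3 - v 3 * w 2]

/-- an absolute vector of the polarity -/
def Abs (v : Fin 4 → F) : Prop :=
  ∃ w : Fin 4 → F, Cfsg.Lie.altForm4 v w = 0 ∧ ∀ r, pl v w r = T.θ (v r)

theorem PresJ.transpose {A : Matrix (Fin 4) (Fin 4) F} (hA : PresJ A) : PresJ Aᵀ := by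
  unfold PresJ at *
  rw [Matrix.transpose_transpose]
  have h1 : (tM * Aᵀ * tM) * A = 1 := by
    rw [Matrix.mul_assoc, Matrix.mul_assoc, ← Matrix.mul_assoc Aᵀ, hA, tM_mul_tM]
  have h2 : A * (tM * Aᵀ * tM) = 1 := _root_.mul_eq_one_comm.mp h1
  calc A * tM * Aᵀ = (A * (tM * Aᵀ * tM)) * tM := by
        simp only [Matrix.mul_assoc, tM_mul_tM, Matrix.mul_one]
    _ = tM := by rw [h2, Matrix.one_mul]

theorem pl_mulVec (A : Matrix (Fin 4) (Fin 4) F) (v w : Fin 4 → F) (r : Fin 4) :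
    pl (A *ᵥ v) (A *ᵥ w) r = (Cfsg.Lie.star4 A *ᵥ pl v w) r +
      (A (Cfsg.Lie.pairOf r).1 0 * A (Cfsg.Lie.pairOf r).2 3 -
        A (Cfsg.Lie.pairOf r).2 0 * A (Cfsg.Lie.pairOf r).1 3) * (v 0 * w 3 - v 3 * w 0) +
      (A (Cfsg.Lie.pairOf r).1 1 * A (Cfsg.Lie.pairOf r).2 2 -
        A (Cfsg.Lie.pairOf r).2 1 * A (Cfsg.Lie.pairOf r).1 2) * (v 1 * w 2 - v 2 * w 1) := by
  fin_cases r <;>
    simp [pl, Cfsg.Lie.star4, Cfsg.Lie.pairOf, Matrix.mulVec, dotProduct, Fin.sum_univ_four] <;> ring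

theorem abs_mulVec {A : Matrix (Fin 4) (Fin 4) F} (hA : IsSz T A) {v : Fin 4 → F} (hv : Abs T v) :
    Abs T (A *ᵥ v) := by
  obtain ⟨w, hB, hpl⟩ := hv
  obtain ⟨hJ, hstar⟩ := hA
  refine ⟨A *ᵥ w, ?_, ?_⟩
  · rw [altForm4_mulVec, hJ, ← altForm4_eq, hB]
  · intro r
    have hJ' := hJ.transpose
    unfold PresJ at hJ'
    rw [Matrix.transpose_transpose] at hJ'
    -- rows of A are orthogonal
    have hrow : (A (Cfsg.Lie.pairOf r).1 0 * A (Cfsg.Lie.pairOf r).2 3 -
        A (Cfsg.Lie.pairOf r).2 0 * A (Cfsg.Lie.pairOf r).1 3) =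
      (A (Cfsg.Lie.pairOf r).1 1 * A (Cfsg.Lie.pairOf r).2 2 -
        A (Cfsg.Lie.pairOf r).2 1 * A (Cfsg.Lie.pairOf r).1 2) := by
      have := congrFun (congrFun hJ' (Cfsg.Lie.pairOf r).1) (Cfsg.Lie.pairOf r).2
      fin_cases r <;>
        simp [Cfsg.Lie.pairOf, tM, Matrix.mul_apply, Fin.sum_univ_four] at this ⊢ <;> grind
    have hp : v 0 * w 3 - v 3 * w 0 = v 1 * w 2 - v 2 * w 1 := by
      simp only [Cfsg.Lie.altForm4] at hB
      grind
    rw [pl_mulVec, hrow, hp, hstar]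
    have hpl' : pl v w = fun r => T.θ (v r) := funext hpl
    rw [hpl']
    have h2 : ∀ x : F, x + x = 0 := CharTwo.add_self_eq_zero
    simp only [Matrix.mulVec, dotProduct, Fin.sum_univ_four, Matrix.map_apply, map_add, map_mul]
    grind

theorem abs_smul {v : Fin 4 → F} (hv : Abs T v) {c : F} (hc : c ≠ 0) : Abs T (c • v) := by
  obtain ⟨w, hB, hpl⟩ := hv
  refine ⟨(T.θ c / c) • w, ?_, ?_⟩
  · simp only [Cfsg.Lie.altForm4, Pi.smul_apply, smul_eq_mul] at hB ⊢
    have : c * v 0 * (T.θ c / c * w 3) + c * v 1 * (T.θ c / c * w 2) + c * v 2 * (T.θ c / c * w 1) +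
        c * v 3 * (T.θ c / c * w 0) = T.θ c * (v 0 * w 3 + v 1 * w 2 + v 2 * w 1 + v 3 * w 0) := by
      field_simp
    rw [this, hB, mul_zero]
  · intro r
    have := hpl r
    fin_cases r <;>
      simp [pl, map_mul] at this ⊢ <;> rw [← this] <;> field_simp

theorem abs_e0 : Abs T (e0 : Fin 4 → F) := by
  refine ⟨![0, 1, 0, 0], ?_, ?_⟩
  · simp [Cfsg.Lie.altForm4, e0]
  · intro r
    fin_cases r <;> simp [pl, e0]

theorem abs_ovVec (x y : F) : Abs T (ovVec T x y) := by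
  refine ⟨![y + x * T.θ x, T.θ x, 1, 0], ?_, ?_⟩
  · simp [Cfsg.Lie.altForm4, ovVec, Tits.f]
    grind
  · intro r
    fin_cases r <;> simp [pl, ovVec, Tits.f, T.sq] <;> grind

theorem abs_last_one {v : Fin 4 → F} (hv : Abs T v) (h3 : v 3 = 1) : v 0 = T.f (v 2) (v 1) := by
  obtain ⟨w, hB, hpl⟩ := hv
  have c1 := hpl 1
  have c2 := hpl 2
  have c3 := hpl 3
  simp only [Cfsg.Lie.altForm4, h3, one_mul] at hB
  simp [pl, h3] at c1 c2 c3
  simp only [Tits.f]
  grind

/-- a nonzero absolute vector spans a point of the ovoid -/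
theorem mk_mem_ovoid_of_abs {v : Fin 4 → F} (hv0 : v ≠ 0) (hv : Abs T v) :
    Projectivization.mk F v hv0 ∈ ovoid T := by
  by_cases h3 : v 3 = 0
  · -- v is a multiple of e0
    left
    obtain ⟨w, hB, hpl⟩ := hv
    have c0 := hpl 0
    have c1 := hpl 1
    have c2 := hpl 2
    have c3 := hpl 3
    simp [pl, h3] at c0 c1 c2 c3
    simp only [Cfsg.Lie.altForm4, h3, zero_mul, add_zero] at hB
    have h2 : v 2 = 0 := by
      by_contra h2
      rcases c3 with h | h
      · exact h2 h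
      · rw [h, mul_zero] at c2
        exact h2 (T.eq_zero_iff.mp c2.symm)
    rw [h2, map_zero] at c2
    rw [h2, zero_mul, sub_zero] at c1
    rw [h2, zero_mul, add_zero] at hB
    have h1 : v 1 = 0 := by
      by_contra h1
      have hw3 : w 3 = 0 := by
        rcases mul_eq_zero.mp c2 with h | h
        · exact absurd h h1
        · exact h
      rw [hw3, mul_zero, zero_add] at hB
      have hw2 : w 2 = 0 := by
        rcases mul_eq_zero.mp hB with h | h
        · exact absurd h h1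
        · exact h
      rw [hw2, mul_zero] at c1
      exact h1 (T.eq_zero_iff.mp c1.symm)
    have h0 : v 0 ≠ 0 := by
      intro h0
      apply hv0
      funext i
      fin_cases i <;> simp [h0, h1, h2, h3]
    rw [ptInf, Projectivization.mk_eq_mk_iff']
    refine ⟨v 0, ?_⟩
    funext i
    fin_cases i <;> simp [e0, h1, h2, h3]
  · right
    -- scale so that the last coordinate is one
    have hv' := abs_smul T hv (inv_ne_zero h3)
    have h31 : ((v 3)⁻¹ • v) 3 = 1 := by simp [h3]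
    have key := abs_last_one T hv' h31
    refine ⟨((v 3)⁻¹ • v) 2, ((v 3)⁻¹ • v) 1, ?_⟩
    rw [pt, Projectivization.mk_eq_mk_iff']
    refine ⟨v 3, ?_⟩
    funext i
    fin_cases i
    · simp only [ovVec, ← key]
      simp [h3]
    · simp [ovVec, h3]
    · simp [ovVec, h3]
    · simp [ovVec]

end Cfsg.Agent.Lib.Helper3.Sz
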