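import Mathlib
import Cfsg.Agent.Lib.Helper3.Sz20

set_option autoImplicit false
set_option linter.unusedSectionVars false

/-!
Suzuki groups, part 21: the matrix group `Lie.Sz` is the image of the stabiliser of the ovoid.
-/

namespace Cfsg.Agent.Lib.Helper3.Sz

open Matrix
open scoped Pointwise

variable {F : Type*} [Field F] [CharP F 2] (T : Tits F)

local notation "SL4" => Matrix.SpecialLinearGroup (Fin 4) F
local notation "GL4" => GL (Fin 4) F
local notation "PP" => Projectivization F (Fin 4 → F)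

theorem det_eq_one_of_presJ {A : Matrix (Fin 4) (Fin 4) F} (hA : PresJ A) : A.det = 1 := by
  have := congrArg Matrix.det hA
  rw [Matrix.det_mul, Matrix.det_mul, Matrix.det_transpose, det_tM, mul_one, ← pow_two] at this
  exact sq_eq_one_iff.mp this

/-- the ovoid points are spanned by absolute vectors -/
theorem exists_abs_of_mem {p : PP} (hp : p ∈ ovoid T) :
    ∃ (v : Fin 4 → F) (hv : v ≠ 0), Abs T v ∧ p = Projectivization.mk F v hv := by
  rcases hp with rfl | ⟨x, y, rfl⟩
  · exact ⟨e0, e0_ne_zero, abs_e0 T, rfl⟩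
  · exact ⟨ovVec T x y, ovVec_ne_zero T x y, abs_ovVec T x y, rfl⟩

/-- a matrix satisfying the defining conditions of `Lie.Sz` stabilises the ovoid -/
theorem mem_Gam_of_isSz [Finite F] (g : SL4) (hg : IsSz T (g : Matrix (Fin 4) (Fin 4) F)) :
    g ∈ Gam T := by
  rw [MulAction.mem_stabilizer_set' (Set.toFinite _)]
  intro p hp
  obtain ⟨v, hv, habs, rfl⟩ := exists_abs_of_mem T hp
  rw [Projectivization.smul_mk]
  apply mk_mem_ovoid_of_abs
  have : g • v = (g : Matrix (Fin 4) (Fin 4) F) *ᵥ v := by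
    rw [Matrix.SpecialLinearGroup.smul_def, Matrix.smul_eq_mulVec]
  rw [this]
  exact abs_mulVec T hg habs

/-- the image of the stabiliser of the ovoid in `GL₄` -/
noncomputable abbrev GamGL : Subgroup GL4 := (Gam T).map Matrix.SpecialLinearGroup.toGL

/-- the defining set of `Lie.Sz` -/
def szSet (e : ℕ) : Set GL4 :=
  {g | g ∈ Cfsg.Lie.Sp4 F ∧ Cfsg.Lie.star4 (g : Matrix (Fin 4) (Fin 4) F) =
    (g : Matrix (Fin 4) (Fin 4) F).map (fun x => x ^ e)}

theorem lieSz_eq_closure (e : ℕ) : Cfsg.Lie.Sz F e = Subgroup.closure (szSet e) := rfl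

theorem mem_szSet_iff {e : ℕ} (he : ∀ x, T.θ x = x ^ e) (g : GL4) :
    g ∈ szSet e ↔ IsSz T (g : Matrix (Fin 4) (Fin 4) F) := by
  have : (fun x : F => x ^ e) = T.θ := by funext x; exact (he x).symm
  unfold szSet IsSz
  rw [Set.mem_ofPred_eq, this, mem_Sp4_iff]

theorem toGL_mem_szSet {e : ℕ} (he : ∀ x, T.θ x = x ^ e) (g : SL4)
    (hg : IsSz T (g : Matrix (Fin 4) (Fin 4) F)) :
    Matrix.SpecialLinearGroup.toGL g ∈ szSet (F := F) e :=
  (mem_szSet_iff T he _).mpr hg

theorem lieSz_eq [Fintype F] (hT : T.IsPow) {e : ℕ} (he : ∀ x, T.θ x = x ^ e) :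
    Cfsg.Lie.Sz F e = GamGL T := by
  rw [lieSz_eq_closure]
  apply le_antisymm
  · rw [Subgroup.closure_le]
    intro g hg
    have hg' := (mem_szSet_iff T he g).mp hg
    have hdet := det_eq_one_of_presJ hg'.1
    refine ⟨⟨(g : Matrix (Fin 4) (Fin 4) F), hdet⟩, mem_Gam_of_isSz T _ hg', ?_⟩
    exact Units.ext rfl
  · rintro _ ⟨g, hg, rfl⟩
    have hu : ∀ a b, Matrix.SpecialLinearGroup.toGL (uS T a b) ∈ Subgroup.closure (szSet (F := F) e) :=
      fun a b => Subgroup.subset_closure (toGL_mem_szSet T he _ (isSz_uM T a b))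
    have hh : ∀ k, Matrix.SpecialLinearGroup.toGL (hS T k) ∈ Subgroup.closure (szSet (F := F) e) :=
      fun k => Subgroup.subset_closure (toGL_mem_szSet T he _ (isSz_hM T k.ne_zero))
    have ht : Matrix.SpecialLinearGroup.toGL (tS : SL4) ∈ Subgroup.closure (szSet (F := F) e) :=
      Subgroup.subset_closure (toGL_mem_szSet T he _ (isSz_tM T))
    by_cases h0 : (⟨g, hg⟩ : Gam T) • oInf T = oInf T
    · obtain ⟨a, b, k, hk⟩ := borel_decomp T hT h0
      have : g = uS T a b * hS T k := congrArg Subtype.val hk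
      rw [this, map_mul]
      exact Subgroup.mul_mem _ (hu a b) (hh k)
    · obtain ⟨a, b, c, d, k, hk⟩ := bruhat_decomp T hT h0
      have : g = uS T a b * tS * (uS T c d * hS T k) := congrArg Subtype.val hk
      rw [this, map_mul, map_mul, map_mul]
      exact Subgroup.mul_mem _ (Subgroup.mul_mem _ (hu a b) ht) (Subgroup.mul_mem _ (hu c d) (hh k))

/-- the isomorphism from the stabiliser of the ovoid to its image in `GL₄` -/
noncomputable def gamEquiv : Gam T ≃* GamGL T :=
  (Gam T).equivMapOfInjective _ Matrix.SpecialLinearGroup.toGL_injective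

theorem isSimpleGroup_GamGL [Fintype F] (hT : T.IsPow) : IsSimpleGroup (GamGL T) := by
  have := isSimpleGroup_Gam T hT
  have : Nontrivial (GamGL T) := (gamEquiv T).symm.toEquiv.nontrivial
  exact IsSimpleGroup.isSimpleGroup_of_surjective (gamEquiv T).toMonoidHom (gamEquiv T).surjective

theorem isSimpleGroup_lieSz [Fintype F] (hT : T.IsPow) {e : ℕ} (he : ∀ x, T.θ x = x ^ e) :
    IsSimpleGroup (Cfsg.Lie.Sz F e) := by
  rw [lieSz_eq T hT he]
  exact isSimpleGroup_GamGL T hT

end Cfsg.Agent.Lib.Helper3.Sz
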