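import Mathlib
import Cfsg.Agent.Lib.Helper3.Sz18

set_option autoImplicit false
set_option linter.unusedSectionVars false

/-!
Suzuki groups, part 26: the Lüneburg spread: the translates of the line `⟨e₀, e₁⟩` partition the
nonzero vectors; an element fixing a nonzero vector is conjugate into the Borel subgroup.
-/

namespace Cfsg.Agent.Lib.Helper3.Sz

open Matrix
open scoped Pointwise

variable {F : Type*} [Field F] [CharP F 2] (T : Tits F)

local notation "SL4" => Matrix.SpecialLinearGroup (Fin 4) F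
local notation "PP" => Projectivization F (Fin 4 → F)
local notation "V4" => Fin 4 → F

theorem smul_vec (g : Gam T) (v : V4) :
    g • v = (((g : SL4) : Matrix (Fin 4) (Fin 4) F)) *ᵥ v := by
  rw [Subgroup.smul_def, Matrix.SpecialLinearGroup.smul_def, Matrix.smul_eq_mulVec]

/-- the line `L = ⟨e₀, e₁⟩` -/
def InL (v : V4) : Prop := v 2 = 0 ∧ v 3 = 0

theorem uG_smul_apply (a b : F) (v : V4) :
    (uG T a b • v) 2 = v 2 + a * v 3 ∧ (uG T a b • v) 3 = v 3 := by
  rw [smul_vec, coe_uG]
  simp [uM, Matrix.mulVec, dotProduct, Fin.sum_univ_four]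

theorem hG_smul_apply (k : Fˣ) (v : V4) :
    (hG T k • v) 2 = (T.θ k)⁻¹ * v 2 ∧ (hG T k • v) 3 = (T.θ k * (k : F) ^ 2)⁻¹ * v 3 := by
  rw [smul_vec, coe_hG]
  simp [hM, Matrix.mulVec, dotProduct, Fin.sum_univ_four]

theorem tG_smul_apply (v : V4) :
    (tG T • v) 2 = v 1 ∧ (tG T • v) 3 = v 0 := by
  rw [smul_vec, coe_tG]
  simp [tM, Matrix.mulVec, dotProduct, Fin.sum_univ_four]

theorem tG_smul_apply' (v : V4) :
    (tG T • v) 0 = v 3 ∧ (tG T • v) 1 = v 2 := by
  rw [smul_vec, coe_tG]
  simp [tM, Matrix.mulVec, dotProduct, Fin.sum_univ_four]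

theorem borel_inL [Fintype F] (hT : T.IsPow) {g : Gam T} (hg : g ∈ Borel T) {v : V4} (hv : InL v) :
    InL (g • v) := by
  obtain ⟨a, b, k, rfl⟩ := borel_decomp T hT hg
  rw [mul_smul]
  obtain ⟨h2, h3⟩ := hG_smul_apply T k v
  obtain ⟨h2', h3'⟩ := uG_smul_apply T a b (hG T k • v)
  refine ⟨?_, ?_⟩
  · rw [h2', h2, h3, hv.1, hv.2]; simp
  · rw [h3', h3, hv.2]; simp

/-- an element outside the Borel subgroup moves `L` off itself -/
theorem eq_zero_of_inL [Fintype F] (hT : T.IsPow) {g : Gam T} (hg : g ∉ Borel T) {v : V4}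
    (hv : InL v) (hgv : InL (g • v)) : v = 0 := by
  obtain ⟨a, b, c, d, k, rfl⟩ := bruhat_decomp T hT hg
  set b' := uG T c d * hG T k with hb'
  have hb'B : b' ∈ Borel T := (Borel T).mul_mem (uG_mem_Borel T c d) (hG_mem_Borel T k)
  have hw := borel_inL T hT hb'B hv
  set w := b' • v with hwdef
  rw [mul_smul, mul_smul] at hgv
  obtain ⟨h2, h3⟩ := uG_smul_apply T a b (tG T • w)
  obtain ⟨t2, t3⟩ := tG_smul_apply T w
  rw [t2, t3] at h2
  rw [t3] at h3
  have hw0 : w 0 = 0 := by rw [← h3]; exact hgv.2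
  have hw1 : w 1 = 0 := by
    have := hgv.1
    rw [h2, hw0, mul_zero, add_zero] at this
    exact this
  have hw00 : w = 0 := by
    funext i
    fin_cases i
    · exact hw0
    · exact hw1
    · exact hw.1
    · exact hw.2
  have : v = b'⁻¹ • w := by rw [hwdef, inv_smul_smul]
  rw [this, hw00, smul_zero]

/-- coset representatives for the Borel subgroup -/
def cosetRep : Option (F × F) → Gam T
  | none => 1
  | some (a, b) => uG T a b * tG T

theorem cosetRep_smul_oInf (i : Option (F × F)) : cosetRep T i • oInf T = ovoidParam T i := by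
  rcases i with _ | ⟨a, b⟩
  · exact one_smul _ _
  · show (uG T a b * tG T) • oInf T = oPt T a b
    rw [mul_smul, tG_smul_oInf, uG_smul_oPt_zero]

/-- the vector `s e₀ + t e₁` -/
def vecL (w : F × F) : V4 := ![w.1, w.2, 0, 0]

theorem vecL_inL (w : F × F) : InL (vecL w) := ⟨rfl, rfl⟩

theorem vecL_injective : Function.Injective (vecL : F × F → V4) := by
  rintro ⟨s, t⟩ ⟨s', t'⟩ h
  have h0 := congrFun h 0
  have h1 := congrFun h 1
  simp [vecL] at h0 h1
  rw [h0, h1]

theorem vecL_eq_zero_iff {w : F × F} : vecL w = 0 ↔ w = 0 := by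
  constructor
  · intro h
    apply vecL_injective
    rw [h]
    funext i
    fin_cases i <;> simp [vecL]
  · rintro rfl
    funext i
    fin_cases i <;> simp [vecL]

/-- the spread map -/
def spreadMap (p : Option (F × F) × {w : F × F // w ≠ 0}) : {v : V4 // v ≠ 0} :=
  ⟨cosetRep T p.1 • vecL p.2.1, by
    rw [Ne, smul_eq_zero_iff_eq, vecL_eq_zero_iff]
    exact p.2.2⟩

theorem spreadMap_injective [Fintype F] (hT : T.IsPow) : Function.Injective (spreadMap T) := by
  rintro ⟨i, w, hw⟩ ⟨j, w', hw'⟩ h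
  have h1 : cosetRep T i • vecL w = cosetRep T j • vecL w' := congrArg Subtype.val h
  have h2 : ((cosetRep T j)⁻¹ * cosetRep T i) • vecL w = vecL w' := by
    rw [mul_smul, h1, inv_smul_smul]
  have hB : (cosetRep T j)⁻¹ * cosetRep T i ∈ Borel T := by
    by_contra hB
    have := eq_zero_of_inL T hT hB (vecL_inL w) (by rw [h2]; exact vecL_inL w')
    exact hw (vecL_eq_zero_iff.mp this)
  have hij : i = j := by
    have h3 : ((cosetRep T j)⁻¹ * cosetRep T i) • oInf T = oInf T := hB
    rw [mul_smul, inv_smul_eq_iff, cosetRep_smul_oInf, cosetRep_smul_oInf] at h3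
    exact (ovoidParam_bijective T).1 h3
  subst hij
  rw [inv_mul_cancel, one_smul] at h2
  have := vecL_injective h2
  subst this
  rfl

theorem card_ne_zero_subtype {α : Type*} [Zero α] [Finite α] :
    Nat.card {a : α // a ≠ 0} = Nat.card α - 1 := by
  classical
  have := Fintype.ofFinite α
  rw [Nat.card_eq_fintype_card, Nat.card_eq_fintype_card, Fintype.card_subtype_compl,
    Fintype.card_subtype_eq]

theorem spreadMap_surjective [Fintype F] (hT : T.IsPow) : Function.Surjective (spreadMap T) := by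
  apply (Function.Injective.bijective_of_nat_card_le (spreadMap_injective T hT) ?_).2
  rw [Nat.card_prod, card_ne_zero_subtype, card_ne_zero_subtype, Nat.card_prod]
  have h1 : Nat.card (Option (F × F)) = Nat.card F * Nat.card F + 1 := by
    rw [Nat.card_eq_fintype_card, Fintype.card_option, ← Nat.card_eq_fintype_card, Nat.card_prod]
  have h2 : Nat.card V4 = Nat.card F ^ 4 := by
    rw [Nat.card_fun, Nat.card_eq_fintype_card (α := Fin 4), Fintype.card_fin]
  rw [h1, h2]
  have hpos : 0 < Nat.card F := Nat.card_pos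
  generalize Nat.card F = q at *
  have : q ^ 4 = (q * q + 1) * (q * q - 1) + 1 := by
    have h3 : 1 ≤ q * q := Nat.mul_pos hpos hpos
    obtain ⟨r, hr⟩ : ∃ r, q * q = r + 1 := ⟨q * q - 1, by omega⟩
    have : q ^ 4 = (q * q) * (q * q) := by ring
    rw [this, hr]
    simp only [Nat.add_sub_cancel]
    ring
  omega

/-- every nonzero vector lies in a translate of `L` -/
theorem exists_smul_inL [Fintype F] (hT : T.IsPow) {v : V4} (hv : v ≠ 0) :
    ∃ (x : Gam T) (w : V4), InL w ∧ w ≠ 0 ∧ v = x • w := by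
  obtain ⟨⟨i, w, hw⟩, h⟩ := spreadMap_surjective T hT ⟨v, hv⟩
  refine ⟨cosetRep T i, vecL w, vecL_inL w, fun h0 => hw (vecL_eq_zero_iff.mp h0), ?_⟩
  exact (congrArg Subtype.val h).symm

/-- an element fixing a nonzero vector is conjugate into the Borel subgroup -/
theorem conj_mem_borel_of_fix [Fintype F] (hT : T.IsPow) {g : Gam T} {v : V4} (hv : v ≠ 0)
    (hg : g • v = v) : ∃ x : Gam T, x⁻¹ * g * x ∈ Borel T := by
  obtain ⟨x, w, hwL, hw0, rfl⟩ := exists_smul_inL T hT hv
  refine ⟨x, ?_⟩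
  by_contra hB
  apply hw0
  apply eq_zero_of_inL T hT hB hwL
  rw [mul_smul, mul_smul, hg, inv_smul_smul]
  exact hwL

end Cfsg.Agent.Lib.Helper3.Sz
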