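import Mathlib
import Cfsg.Agent.Lib.Helper3.Sz26

set_option autoImplicit false
set_option linter.unusedSectionVars false

/-!
Suzuki groups, part 27: elements of prime order `p ∣ q² + 1` act irreducibly on the natural module.
-/

namespace Cfsg.Agent.Lib.Helper3.Sz

open Matrix
open scoped Pointwise

/-- arithmetic: a prime divisor of `q² + 1` (`q` even) does not divide `q`, `q - 1`, `q² - 1`,
`q³ - 1`. -/
theorem prime_dvd_sq_add_one {q p : ℕ} (hq : Even q) (hq0 : 0 < q) (hp : p.Prime)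
    (h : p ∣ q ^ 2 + 1) :
    p ≠ 2 ∧ ¬ p ∣ q ∧ ¬ p ∣ q - 1 ∧ ¬ p ∣ q ^ 2 - 1 ∧ ¬ p ∣ q ^ 3 - 1 := by
  have hp2 : p ≠ 2 := by
    rintro rfl
    obtain ⟨j, hj⟩ := hq
    rw [hj] at h
    have : (j + j) ^ 2 + 1 = 2 * (2 * j * j) + 1 := by ring
    rw [this] at h
    omega
  have hnq : ¬ p ∣ q := by
    intro hd
    have h1 : p ∣ q ^ 2 := dvd_pow hd two_ne_zero
    have h2 : p ∣ 1 := (Nat.dvd_add_right h1).mp h
    exact hp.one_lt.ne' (Nat.dvd_one.mp h2)
  have hn2 : ¬ p ∣ q ^ 2 - 1 := by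
    intro hd
    have h1 : q ^ 2 + 1 = (q ^ 2 - 1) + 2 := by
      have : 1 ≤ q ^ 2 := Nat.one_le_pow _ _ hq0
      omega
    rw [h1] at h
    have h2 : p ∣ 2 := (Nat.dvd_add_right hd).mp h
    exact hp2 ((Nat.prime_dvd_prime_iff_eq hp Nat.prime_two).mp h2)
  have hn1 : ¬ p ∣ q - 1 := by
    intro hd
    apply hn2
    have : q ^ 2 - 1 = (q - 1) * (q + 1) := by
      obtain ⟨r, rfl⟩ : ∃ r, q = r + 1 := ⟨q - 1, by omega⟩
      simp only [Nat.add_sub_cancel]
      have : (r + 1) ^ 2 - 1 = r * (r + 1 + 1) := by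
        have : (r + 1) ^ 2 = r * (r + 1 + 1) + 1 := by ring
        omega
      exact this
    rw [this]
    exact Dvd.dvd.mul_right hd _
  refine ⟨hp2, hnq, hn1, hn2, ?_⟩
  intro hd
  -- q^3 - 1 = q (q^2+1) - (q+1)
  have h1 : q * (q ^ 2 + 1) = (q ^ 3 - 1) + (q + 1) := by
    have : 1 ≤ q ^ 3 := Nat.one_le_pow _ _ hq0
    have : q * (q ^ 2 + 1) = q ^ 3 + q := by ring
    omega
  have h2 : p ∣ q + 1 := by
    have : p ∣ q * (q ^ 2 + 1) := Dvd.dvd.mul_left h q
    rw [h1] at this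
    exact (Nat.dvd_add_right hd).mp this
  apply hn2
  have : q ^ 2 - 1 = (q + 1) * (q - 1) := by
    obtain ⟨r, rfl⟩ : ∃ r, q = r + 1 := ⟨q - 1, by omega⟩
    simp only [Nat.add_sub_cancel]
    have : (r + 1) ^ 2 = (r + 1 + 1) * r + 1 := by ring
    omega
  rw [this]
  exact Dvd.dvd.mul_right h2 _

variable {F : Type*} [Field F] [CharP F 2] (T : Tits F)

local notation "SL4" => Matrix.SpecialLinearGroup (Fin 4) F
local notation "PP" => Projectivization F (Fin 4 → F)
local notation "V4" => Fin 4 → F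

/-- an element of prime order `p ∣ q² + 1` fixes no nonzero vector -/
theorem no_fixed_vector [Fintype F] (hT : T.IsPow) {g : Gam T} {p : ℕ} (hp : p.Prime)
    (hg : orderOf g = p) (hpq : p ∣ Nat.card F ^ 2 + 1) {v : V4} (hv : v ≠ 0) : g • v ≠ v := by
  intro hfix
  obtain ⟨x, hx⟩ := conj_mem_borel_of_fix T hT hv hfix
  have h1 : orderOf (x⁻¹ * g * x) = p := by
    rw [← hg]
    have := MulEquiv.orderOf_eq (MulAut.conj x⁻¹) g
    simpa using this
  have h2 : p ∣ Nat.card (Borel T) := by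
    rw [← h1]
    exact Subgroup.orderOf_dvd_natCard _ hx
  rw [card_Borel T hT] at h2
  obtain ⟨-, hnq, hn1, -, -⟩ := prime_dvd_sq_add_one (even_card (F := F)) Nat.card_pos hp hpq
  rcases (Nat.Prime.dvd_mul hp).mp h2 with h | h
  · exact hnq (hp.dvd_of_dvd_pow h)
  · exact hn1 h

theorem pow_smul_mem {g : Gam T} (W : Submodule F V4) (hW : ∀ w ∈ W, g • w ∈ W) (n : ℕ) :
    ∀ w ∈ W, g ^ n • w ∈ W := by
  induction n with
  | zero => intro w hw; rw [pow_zero, one_smul]; exact hw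
  | succ n ih =>
    intro w hw
    rw [pow_succ, mul_smul]
    exact ih _ (hW w hw)

/-- an element of prime order `p ∣ q² + 1` acts irreducibly -/
theorem irreducible_of_prime_order [Fintype F] (hT : T.IsPow) {g : Gam T} {p : ℕ} (hp : p.Prime)
    (hg : orderOf g = p) (hpq : p ∣ Nat.card F ^ 2 + 1) (W : Submodule F V4)
    (hW : ∀ w ∈ W, g • w ∈ W) : W = ⊥ ∨ W = ⊤ := by
  have hle : Module.finrank F W ≤ 4 := by
    have := Submodule.finrank_le W
    rwa [Module.finrank_fin_fun] at this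
  by_cases h0 : Module.finrank F W = 0
  · exact Or.inl (Submodule.finrank_eq_zero.mp h0)
  by_cases h4 : Module.finrank F W = 4
  · right
    apply Submodule.eq_top_of_finrank_eq
    rw [h4, Module.finrank_fin_fun]
  exfalso
  set d := Module.finrank F W with hd
  have : Fact p.Prime := ⟨hp⟩
  -- the cyclic group generated by g acts on the nonzero vectors of W
  have hZ : ∀ z ∈ Subgroup.zpowers g, ∀ w ∈ W, z • w ∈ W := by
    intro z hz w hw
    rw [← mem_powers_iff_mem_zpowers, Submonoid.mem_powers_iff] at hz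
    obtain ⟨n, rfl⟩ := hz
    exact pow_smul_mem T W hW n w hw
  let S : SubMulAction (Subgroup.zpowers g) V4 :=
    { carrier := {v | v ∈ W ∧ v ≠ 0}
      smul_mem' := fun z v hv => ⟨hZ z z.2 v hv.1, by
        rw [Ne, Subgroup.smul_def, smul_eq_zero_iff_eq]; exact hv.2⟩ }
  have hpg : IsPGroup p (Subgroup.zpowers g) := by
    apply IsPGroup.of_card (n := 1)
    rw [Nat.card_zpowers, hg, pow_one]
  have hfix : MulAction.fixedPoints (Subgroup.zpowers g) S = ∅ := by
    rw [Set.eq_empty_iff_forall_notMem]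
    rintro ⟨v, hvW, hv0⟩ hmem
    rw [MulAction.mem_fixedPoints] at hmem
    have := hmem ⟨g, Subgroup.mem_zpowers g⟩
    have h2 : g • v = v := congrArg Subtype.val this
    exact no_fixed_vector T hT hp hg hpq hv0 h2
  have hmod := hpg.card_modEq_card_fixedPoints S
  rw [hfix] at hmod
  have hempty : Nat.card (↑(∅ : Set S)) = 0 := by simp
  rw [hempty] at hmod
  have hdvd : p ∣ Nat.card S := (Nat.modEq_zero_iff_dvd).mp hmod
  -- the number of nonzero vectors of W
  have hcard : Nat.card S = Nat.card F ^ d - 1 := by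
    have := Fintype.ofFinite W
    have e : S ≃ {w : W // w ≠ 0} :=
      { toFun := fun s => ⟨⟨s.1, s.2.1⟩, fun h => s.2.2 (congrArg Subtype.val h)⟩
        invFun := fun w => ⟨w.1.1, w.1.2, fun h => w.2 (Subtype.ext h)⟩
        left_inv := fun s => rfl
        right_inv := fun w => rfl }
    rw [Nat.card_congr e, card_ne_zero_subtype, Nat.card_eq_fintype_card,
      Module.card_eq_pow_finrank (K := F) (V := W), ← Nat.card_eq_fintype_card]
  rw [hcard] at hdvd
  obtain ⟨-, -, hn1, hn2, hn3⟩ := prime_dvd_sq_add_one (even_card (F := F)) Nat.card_pos hp hpq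
  have hd' : d = 1 ∨ d = 2 ∨ d = 3 := by omega
  rcases hd' with h | h | h
  · rw [h, pow_one] at hdvd; exact hn1 hdvd
  · rw [h] at hdvd; exact hn2 hdvd
  · rw [h] at hdvd; exact hn3 hdvd

end Cfsg.Agent.Lib.Helper3.Sz
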