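import Mathlib
import Cfsg.Agent.Lib.Helper3.Sz27

set_option autoImplicit false
set_option linter.unusedSectionVars false

/-!
Suzuki groups, part 28: the centraliser (in the matrix algebra) of an element of prime order
`p ∣ q² + 1` is a commutative domain.
-/

namespace Cfsg.Agent.Lib.Helper3.Sz

open Matrix Polynomial
open scoped Pointwise

variable {F : Type*} [Field F] [CharP F 2] (T : Tits F)

local notation "SL4" => Matrix.SpecialLinearGroup (Fin 4) F
local notation "PP" => Projectivization F (Fin 4 → F)
local notation "V4" => Fin 4 → F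
local notation "M4" => Matrix (Fin 4) (Fin 4) F

/-- the matrix of an element of `G` -/
def matG (g : Gam T) : M4 := ((g : SL4) : M4)

theorem matG_mul (g h : Gam T) : matG T (g * h) = matG T g * matG T h := rfl

theorem matG_injective : Function.Injective (matG T) := by
  intro g h hgh
  exact Subtype.ext (Subtype.ext hgh)

theorem smul_vec' (g : Gam T) (v : V4) : g • v = matG T g *ᵥ v := smul_vec T g v

/-- `g` acts irreducibly -/
def Irr (g : Gam T) : Prop :=
  ∀ W : Submodule F V4, (∀ w ∈ W, g • w ∈ W) → W = ⊥ ∨ W = ⊤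

variable {T}

theorem commute_aeval {A c : M4} (h : c * A = A * c) (p : F[X]) :
    c * aeval A p = aeval A p * c := by
  induction p using Polynomial.induction_on' with
  | add p q hp hq => rw [map_add, mul_add, add_mul, hp, hq]
  | monomial n a =>
    rw [aeval_monomial]
    have h1 : Commute c A := h
    have h2 : Commute c (A ^ n) := h1.pow_right n
    have h3 : Commute c (algebraMap F M4 a) := (Algebra.commutes a c).symm
    exact (h3.mul_right h2).eq

theorem eq_zero_of_mulVec_eq_zero {g : Gam T} (hI : Irr T g) {c : M4}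
    (hc : c * matG T g = matG T g * c) {v : V4} (hv : v ≠ 0) (hcv : c *ᵥ v = 0) : c = 0 := by
  have hker : ∀ w ∈ LinearMap.ker (Matrix.mulVecLin c), g • w ∈ LinearMap.ker (Matrix.mulVecLin c) := by
    intro w hw
    rw [LinearMap.mem_ker, Matrix.mulVecLin_apply] at hw ⊢
    rw [smul_vec', Matrix.mulVec_mulVec, hc, ← Matrix.mulVec_mulVec, hw, Matrix.mulVec_zero]
  rcases hI _ hker with h | h
  · exfalso
    have : v ∈ LinearMap.ker (Matrix.mulVecLin c) := by
      rw [LinearMap.mem_ker, Matrix.mulVecLin_apply]; exact hcv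
    rw [h, Submodule.mem_bot] at this
    exact hv this
  · have h1 : Matrix.mulVecLin c = 0 := LinearMap.ker_eq_top.mp h
    have h2 : ∀ w, c *ᵥ w = 0 := fun w => by
      have := LinearMap.congr_fun h1 w
      simpa using this
    ext i j
    have := congrFun (h2 (Pi.single j 1)) i
    simpa using this

/-- every vector is a polynomial in `g` applied to a fixed nonzero vector -/
theorem exists_aeval_mulVec {g : Gam T} (hI : Irr T g) {v : V4} (hv : v ≠ 0) (w : V4) :
    ∃ p : F[X], w = aeval (matG T g) p *ᵥ v := by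
  let W : Submodule F V4 :=
    { carrier := {w | ∃ p : F[X], w = aeval (matG T g) p *ᵥ v}
      add_mem' := by
        rintro _ _ ⟨p, rfl⟩ ⟨q, rfl⟩
        exact ⟨p + q, by rw [map_add, Matrix.add_mulVec]⟩
      zero_mem' := ⟨0, by rw [map_zero, Matrix.zero_mulVec]⟩
      smul_mem' := by
        rintro a _ ⟨p, rfl⟩
        exact ⟨C a * p, by
          rw [map_mul, aeval_C, ← Matrix.mulVec_mulVec, Matrix.algebraMap_eq_diagonal]
          ext i
          simp [Matrix.mulVec_diagonal]⟩ }
  have hW : ∀ w ∈ W, g • w ∈ W := by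
    rintro _ ⟨p, rfl⟩
    refine ⟨X * p, ?_⟩
    rw [smul_vec', map_mul, aeval_X, Matrix.mulVec_mulVec]
  rcases hI W hW with h | h
  · exfalso
    have : v ∈ W := ⟨1, by rw [map_one, Matrix.one_mulVec]⟩
    rw [h, Submodule.mem_bot] at this
    exact hv this
  · have : w ∈ W := by rw [h]; exact Submodule.mem_top
    exact this

/-- a matrix commuting with `g` is a polynomial in `g` -/
theorem exists_eq_aeval {g : Gam T} (hI : Irr T g) {c : M4}
    (hc : c * matG T g = matG T g * c) : ∃ p : F[X], c = aeval (matG T g) p := by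
  have hv : (Pi.single 0 1 : V4) ≠ 0 := by
    intro h
    have := congrFun h 0
    simp at this
  obtain ⟨p, hp⟩ := exists_aeval_mulVec hI hv (c *ᵥ Pi.single 0 1)
  refine ⟨p, ?_⟩
  have h1 : (c - aeval (matG T g) p) * matG T g = matG T g * (c - aeval (matG T g) p) := by
    have h2 : aeval (matG T g) p * matG T g = matG T g * aeval (matG T g) p := by
      have := commute_aeval (A := matG T g) (c := matG T g) rfl p
      exact this.symm
    rw [sub_mul, mul_sub, hc, h2]
  have h3 : (c - aeval (matG T g) p) *ᵥ (Pi.single 0 1 : V4) = 0 := by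
    rw [Matrix.sub_mulVec, hp, sub_self]
  exact sub_eq_zero.mp (eq_zero_of_mulVec_eq_zero hI h1 hv h3)

theorem commute_of_commute {g : Gam T} (hI : Irr T g) {c d : M4}
    (hc : c * matG T g = matG T g * c) (hd : d * matG T g = matG T g * d) : c * d = d * c := by
  obtain ⟨p, rfl⟩ := exists_eq_aeval hI hc
  obtain ⟨q, rfl⟩ := exists_eq_aeval hI hd
  rw [← map_mul, ← map_mul, mul_comm]

theorem eq_zero_of_mul_eq_zero {g : Gam T} (hI : Irr T g) {c d : M4}
    (hc : c * matG T g = matG T g * c) (hc0 : c ≠ 0) (hcd : c * d = 0) : d = 0 := by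
  ext i j
  by_contra hne
  have hv : d *ᵥ (Pi.single j 1 : V4) ≠ 0 := by
    intro h
    have := congrFun h i
    simp at this
    exact hne this
  apply hc0
  apply eq_zero_of_mulVec_eq_zero hI hc hv
  rw [Matrix.mulVec_mulVec, hcd, Matrix.zero_mulVec]

end Cfsg.Agent.Lib.Helper3.Sz
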