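import Mathlib
import Cfsg.Agent.Lib.Helper3.Sz28

set_option autoImplicit false
set_option linter.unusedSectionVars false

/-!
Suzuki groups, part 29: centralisers of elements with fixed points.
-/

namespace Cfsg.Agent.Lib.Helper3.Sz

open Matrix
open scoped Pointwise

variable {F : Type*} [Field F] [CharP F 2] (T : Tits F)

local notation "SL4" => Matrix.SpecialLinearGroup (Fin 4) F
local notation "PP" => Projectivization F (Fin 4 → F)

theorem hG_ne_one {k : Fˣ} (hk : k ≠ 1) : hG T k ≠ 1 := by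
  intro h
  rw [← hG_one T] at h
  exact hk (hG_injective T h)

theorem hG_smul_oPt_zero (k : Fˣ) : hG T k • oPt T 0 0 = oPt T 0 0 := by
  rw [hG_smul_oPt]; simp

/-- the fixed points of `h(k)`, `k ≠ 1`, are `∞` and `0` -/
theorem hG_fix {k : Fˣ} (hk : k ≠ 1) {p : ovoid T} (hp : hG T k • p = p) :
    p = oInf T ∨ p = oPt T 0 0 := by
  rcases ovoid_cases T p with rfl | ⟨x, y, rfl⟩
  · exact Or.inl rfl
  · right
    by_contra hne
    have hxy : ¬ (x = 0 ∧ y = 0) := by
      rintro ⟨rfl, rfl⟩
      exact hne rfl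
    exact hk (hG_eq_one_of_fix T hxy hp)

theorem tG_hG_tG (k : Fˣ) : tG T * hG T k * tG T = hG T k⁻¹ := by
  rw [tG_mul_hG, mul_assoc, tG_mul_tG, mul_one]

/-- the centraliser of `h(k)`, `k ≠ 1`, is the torus -/
theorem centralizer_hG_le [Fintype F] (hT : T.IsPow) {k : Fˣ} (hk : k ≠ 1) :
    Subgroup.centralizer ({hG T k} : Set (Gam T)) ≤ (torusHom T).range := by
  intro x hx
  rw [Subgroup.mem_centralizer_singleton_iff] at hx
  -- x permutes the fixed points
  have hfix : ∀ p : ovoid T, hG T k • p = p → hG T k • (x • p) = x • p := by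
    intro p hp
    rw [← mul_smul, ← hx, mul_smul, hp]
  rcases hG_fix T hk (hfix _ (hG_smul_oInf T k)) with h0 | h0
  · -- x fixes ∞
    have h1 : x • oPt T 0 0 = oPt T 0 0 := by
      rcases hG_fix T hk (hfix _ (hG_smul_oPt_zero T k)) with h | h
      · exfalso
        exact oPt_ne_oInf T 0 0 (smul_left_cancel x (h.trans h0.symm))
      · exact h
    obtain ⟨l, rfl⟩ := key_lemma_G T hT h0 h1
    exact ⟨l, rfl⟩
  · -- x swaps ∞ and 0: impossible
    exfalso
    have h1 : x • oPt T 0 0 = oInf T := by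
      rcases hG_fix T hk (hfix _ (hG_smul_oPt_zero T k)) with h | h
      · exact h
      · exfalso
        exact oPt_ne_oInf T 0 0 (smul_left_cancel x (h.trans h0.symm))
    have h2 : (tG T * x) • oInf T = oInf T := by rw [mul_smul, h0, tG_smul_oPt_zero]
    have h3 : (tG T * x) • oPt T 0 0 = oPt T 0 0 := by rw [mul_smul, h1, tG_smul_oInf]
    obtain ⟨l, hl⟩ := key_lemma_G T hT h2 h3
    have hx' : x = tG T * hG T l := by
      rw [← hl, ← mul_assoc, tG_mul_tG, one_mul]
    rw [hx'] at hx
    -- tG hG l hG k = hG k tG hG l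
    have e1 : hG T k * (tG T * hG T l) = tG T * hG T k⁻¹ * hG T l := by
      have := tG_mul_hG T k⁻¹
      rw [inv_inv] at this
      rw [← mul_assoc, ← this]
    have e2 : tG T * hG T l * hG T k = tG T * (hG T k * hG T l) := by
      rw [mul_assoc, hG_mul, hG_mul, mul_comm]
    rw [e1, e2, mul_assoc] at hx
    have hx2 := mul_left_cancel hx
    rw [hG_mul, hG_mul] at hx2
    have hx3 := hG_injective T hx2
    have : k = k⁻¹ := mul_right_cancel hx3
    have hk2 : k ^ 2 = 1 := by
      rw [pow_two]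
      nth_rewrite 1 [this]
      exact inv_mul_cancel k
    apply hk
    apply units_sq_eq_one
    have := congrArg Units.val hk2
    simpa using this

/-- the centraliser of `u(a,b) ≠ 1` lies in `U` -/
theorem centralizer_uG_le [Fintype F] (hT : T.IsPow) {a b : F} (hab : ¬ (a = 0 ∧ b = 0)) :
    Subgroup.centralizer ({uG T a b} : Set (Gam T)) ≤ Usub T := by
  intro x hx
  rw [Subgroup.mem_centralizer_singleton_iff] at hx
  have hxinf : x • oInf T = oInf T := by
    by_contra hne
    have : uG T a b • (x • oInf T) = x • oInf T := by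
      rw [← mul_smul, ← hx, mul_smul, uG_smul_oInf]
    exact hab (uG_fix T this hne)
  obtain ⟨c, d, l, rfl⟩ := borel_decomp T hT hxinf
  have e : (uG T c d * hG T l) * uG T a b * (uG T c d * hG T l)⁻¹ = uG T a b := by
    rw [hx]; group
  have e' : (uG T c d * hG T l) * uG T a b * (uG T c d * hG T l)⁻¹ =
      uG T c d * (hG T l * uG T a b * (hG T l)⁻¹) * (uG T c d)⁻¹ := by group
  rw [e', hG_mul_uG, mul_inv_cancel_right, uG_inv, uG_mul, uG_mul] at e
  obtain ⟨h1, h2⟩ := uG_injective T e
  have hl : l = 1 := by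
    by_cases ha : a = 0
    · subst ha
      have hb : b ≠ 0 := fun hb => hab ⟨rfl, hb⟩
      simp only [mul_zero, add_zero] at h2
      have h3 : T.θ l ^ 2 * (l : F) ^ 2 * b = 1 * b := by grind
      exact units_norm_sq_eq_one T (mul_right_cancel₀ hb h3)
    · have h3 : (l : F) ^ 2 * a = 1 * a := by
        rw [one_mul]
        have : c + (l : F) ^ 2 * a + c = (l : F) ^ 2 * a := by
          rw [add_comm c, add_assoc, CharTwo.add_self_eq_zero, add_zero]
        rw [← this, h1]
      exact units_sq_eq_one (mul_right_cancel₀ ha h3)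
  subst hl
  rw [hG_one, mul_one]
  exact uG_mem_Usub T c d

/-- an element `u(a,b) h(k)` with `k ≠ 1` fixes a second point -/
theorem exists_fix_of_borel {a b : F} {k : Fˣ} (hk : k ≠ 1) :
    ∃ x y : F, (uG T a b * hG T k) • oPt T x y = oPt T x y := by
  have h1 : (k : F) ^ 2 + 1 ≠ 0 := by
    apply add_one_ne_zero_of_ne_one
    intro h
    exact hk (units_sq_eq_one h)
  have h2 : T.θ k ^ 2 * (k : F) ^ 2 + 1 ≠ 0 := by
    apply add_one_ne_zero_of_ne_one
    intro h
    exact hk (units_norm_sq_eq_one T h)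
  refine ⟨a / ((k : F) ^ 2 + 1),
    (T.θ a * ((k : F) ^ 2 * (a / ((k : F) ^ 2 + 1))) + b) / (T.θ k ^ 2 * (k : F) ^ 2 + 1), ?_⟩
  rw [mul_smul, hG_smul_oPt, uG_smul_oPt]
  congr 1
  · field_simp
    grind
  · field_simp
    grind

end Cfsg.Agent.Lib.Helper3.Sz
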