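import Mathlib
import Cfsg.Prelude.Def_ChevStructure
import Cfsg.Agent.Lib.Helper3.ChevG6
set_option autoImplicit false
open Cfsg Cfsg.Lie
open scoped commutatorElement

namespace Cfsg.Agent.Lib.Helper3.ChevM

/-- The pair `(s, s')` has commutator formula with the single term `(r, ±c, 1, 1)`. -/
def pairOK (D : ChevalleyDatum) (r s s' : ℕ) (c : ℤ) : Bool :=
  decide (s < D.nroots) && decide (s' < D.nroots) && decide (s' ≠ s) && decide (s' ≠ D.neg s) &&
    (decide (D.commTerms s s' = [(r, c, 1, 1)]) || decide (D.commTerms s s' = [(r, -c, 1, 1)]))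

/-- Certificate that `x_r(t)` is a commutator: tag 0, a pair with constant `±1`; tag 1, coefficients `m` with
`∑ m_i A_{p_i, r} = 1`; tag 2, a pair with constant `±2` and `∑ m_i A_{p_i, r} = 2`. -/
def perfCheck (D : ChevalleyDatum) (ptag ps ps' : ℕ → ℕ) (pm : ℕ → ℕ → ℤ) (r : ℕ) : Bool :=
  (decide (ptag r = 0) && pairOK D r (ps r) (ps' r) 1) ||
  (decide (ptag r = 1) && decide (((List.range D.rank).map fun i => pm r i * D.cartan i r).sum = 1)) ||
  (decide (ptag r = 2) && pairOK D r (ps r) (ps' r) 2 &&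
    decide (((List.range D.rank).map fun i => pm r i * D.cartan i r).sum = 2))

section
variable {F : Type*} [Field F] {C : CDatum} {R : RelData C} (K : CommData C R)

include K in
theorem CommData.mem_comm_of_pair (r s s' : ℕ) (c : ℤ) (hc : (c : F) ≠ 0) (hs : s < C.D.nroots) (hs' : s' < C.D.nroots)
    (h1 : s' ≠ s) (h2 : s' ≠ C.D.neg s) (hterms : C.D.commTerms s s' = [(r, c, 1, 1)]) (t : F) :
    R.xU r t ∈ ⁅C.D.group F, C.D.group F⁆ := by
  set t1 : F := -t / c with ht1
  have hcomm := K.commF (F := F) s s' hs hs' h1 h2 t1 1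
  have hw : C.D.wordMat F (C.D.commWord F s s' t1 1) = C.D.x F r t := by
    unfold ChevalleyDatum.commWord
    rw [hterms]
    simp only [List.map_cons, List.map_nil, ChevalleyDatum.wordMat, List.prod_cons, List.prod_nil, mul_one, pow_one]
    congr 1
    rw [ht1]; field_simp
  rw [hw] at hcomm
  have e : R.xU r t = ⁅(R.xU s' (1 : F))⁻¹, (R.xU s t1)⁻¹⁆ := by
    have : R.xU s' (1 : F) * R.xU s t1 = R.xU s t1 * R.xU s' (1 : F) * R.xU r t := Units.ext (by simpa using hcomm)
    rw [commutatorElement_def, inv_inv, inv_inv]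
    have h3 : R.xU r t = (R.xU s t1 * R.xU s' (1 : F))⁻¹ * (R.xU s' (1 : F) * R.xU s t1) := by
      rw [this]; group
    rw [h3]; group
  rw [e]
  exact Subgroup.commutator_mem_commutator (Subgroup.inv_mem _ (R.xU_mem_group s' hs' 1))
    (Subgroup.inv_mem _ (R.xU_mem_group s hs t1))

end

section
variable {F : Type*} [Field F] {C : CDatum} (R : RelData C)

/-- The product `∏ h_{p_i}(c_i)` in the general linear group. -/
def RelData.hListU (l : List ℕ) (c : ℕ → F) : GL C.D.Idx F := (l.map fun i => R.hU (C.D.simple i) (c i)).prod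

theorem RelData.hListU_val (l : List ℕ) (c : ℕ → F) :
    ((R.hListU l c : GL C.D.Idx F) : Matrix C.D.Idx C.D.Idx F) = (l.map fun i => C.D.hMat F (C.D.simple i) (c i)).prod := by
  unfold RelData.hListU
  induction l with
  | nil => simp
  | cons i l ih => simp [ih, R.hU_val]

theorem RelData.hListU_mem (l : List ℕ) (hl : ∀ i ∈ l, i < C.D.rank) (c : ℕ → F) (hc : ∀ i ∈ l, c i ≠ 0) :
    R.hListU l c ∈ C.D.diagonalSubgroup F := by
  unfold RelData.hListU
  apply Subgroup.list_prod_mem
  intro x hx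
  simp only [List.mem_map] at hx
  obtain ⟨i, hi, rfl⟩ := hx
  exact R.hU_mem _ (R.simple_lt i (hl i hi)) _ (hc i hi)

include R in
theorem RelData.mem_comm_of_torus (r : ℕ) (hr : r < C.D.nroots) (m : ℕ → ℤ) (e : ℤ)
    (hbez : ((List.range C.D.rank).map fun i => m i * C.D.cartan i r).sum = e) (a : F) (ha0 : a ≠ 0) (hae : a ^ e ≠ 1)
    (t : F) : R.xU r t ∈ ⁅C.D.group F, C.D.group F⁆ := by
  set l := List.range C.D.rank with hl
  set h := R.hListU l (fun i => a ^ m i) with hh
  have hlr : ∀ i ∈ l, i < C.D.rank := fun i hi => List.mem_range.mp hi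
  have hc : ∀ i ∈ l, (fun i => a ^ m i) i ≠ 0 := fun i _ => zpow_ne_zero _ ha0
  have hH : h ∈ C.D.diagonalSubgroup F := R.hListU_mem l hlr _ hc
  have hG : h ∈ C.D.group F := R.diagonalSubgroup_le_group hH
  have hχ : (l.map fun i => (fun i => a ^ m i) i ^ C.D.cartan i r).prod = a ^ e := by
    rw [← hbez]
    exact zpow_list_sum' a ha0 l m (fun i => C.D.cartan i r)
  have hne : a ^ e - 1 ≠ 0 := sub_ne_zero.mpr hae
  set t1 : F := t / (a ^ e - 1) with ht1
  have key := R.hList_mul_x l hlr (fun i => a ^ m i) hc r hr t1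
  rw [hχ, ← R.hListU_val] at key
  have e1 : h * R.xU r t1 * h⁻¹ = R.xU r (a ^ e * t1) := by
    apply Units.ext
    rw [Units.val_mul, Units.val_mul, R.xU_val, R.xU_val, key, mul_assoc, ← Units.val_mul, mul_inv_cancel,
      Units.val_one, mul_one]
  have e2 : R.xU r t = ⁅h, R.xU r t1⁆ := by
    rw [commutatorElement_def, e1, R.xU_inv, R.xU_add]
    congr 1
    rw [ht1]; field_simp; ring
  rw [e2]
  exact Subgroup.commutator_mem_commutator hG (R.xU_mem_group r hr t1)

end

section
variable {F : Type*} [Field F] {C : CDatum} {R : RelData C} (K : CommData C R)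

include K in
/-- S1052 -/
theorem CommData.perfect (ptag ps ps' : ℕ → ℕ) (pm : ℕ → ℕ → ℤ)
    (hchk : ∀ r < C.D.nroots, perfCheck C.D ptag ps ps' pm r = true)
    (ha : (∀ r < C.D.nroots, ptag r = 0) ∨ ∃ a : F, a ≠ 0 ∧ a ≠ 1) :
    commutator ↥(C.D.group F) = ⊤ := by
  have key : C.D.group F ≤ ⁅C.D.group F, C.D.group F⁆ := by
    conv_lhs => unfold ChevalleyDatum.group
    rw [Subgroup.closure_le]
    rintro g ⟨r, t, hg⟩
    have hr := r.isLt
    have hg' : g = R.xU r.val t := Units.ext (by rw [hg]; simp [ChevalleyDatum.x, hr])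
    rw [hg']
    have hpair : ∀ c : ℤ, (c : F) ≠ 0 → pairOK C.D r.val (ps r.val) (ps' r.val) c = true →
        R.xU r.val t ∈ ⁅C.D.group F, C.D.group F⁆ := by
      intro c hc hp
      simp only [pairOK, Bool.and_eq_true, Bool.or_eq_true, decide_eq_true_eq] at hp
      obtain ⟨⟨⟨⟨h1, h2⟩, h3⟩, h4⟩, h5⟩ := hp
      rcases h5 with h5 | h5
      · exact K.mem_comm_of_pair r.val _ _ c hc h1 h2 h3 h4 h5 t
      · exact K.mem_comm_of_pair r.val _ _ (-c) (by push_cast; exact neg_ne_zero.mpr hc) h1 h2 h3 h4 h5 t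
    have hc := hchk r.val hr
    simp only [perfCheck, Bool.or_eq_true, Bool.and_eq_true, decide_eq_true_eq] at hc
    rcases hc with (⟨-, hp⟩ | ⟨htag, hbez⟩) | ⟨⟨htag, hp⟩, hbez⟩
    · exact hpair 1 (by simp) hp
    · obtain ⟨a, ha0, ha1⟩ : ∃ a : F, a ≠ 0 ∧ a ≠ 1 := by
        rcases ha with h0 | h0
        · rw [h0 r.val hr] at htag; exact absurd htag (by decide)
        · exact h0
      exact R.mem_comm_of_torus r.val hr (pm r.val) 1 hbez a ha0 (by simpa using ha1) t
    · obtain ⟨a, ha0, ha1⟩ : ∃ a : F, a ≠ 0 ∧ a ≠ 1 := by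
        rcases ha with h0 | h0
        · rw [h0 r.val hr] at htag; exact absurd htag (by decide)
        · exact h0
      by_cases h2 : (2 : F) = 0
      · refine R.mem_comm_of_torus r.val hr (pm r.val) 2 hbez a ha0 ?_ t
        intro h
        apply ha1
        have : (a - 1) ^ 2 = 0 := by
          have e : (a - 1) ^ 2 = a ^ 2 - 2 * a + 1 := by ring
          rw [e, h2, zero_mul, sub_zero]
          have h' : a ^ 2 = 1 := by exact_mod_cast h
          rw [h']
          have : (1 : F) + 1 = 2 := by norm_num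
          rw [this, h2]
        exact sub_eq_zero.mp (pow_eq_zero_iff (two_ne_zero) |>.mp this)
      · exact hpair 2 (by exact_mod_cast h2) hp
  rw [eq_top_iff]
  intro g _
  have hg := key g.2
  rw [← Subgroup.map_subtype_commutator] at hg
  obtain ⟨g', hg', e⟩ := hg
  have : g' = g := Subtype.ext e
  rwa [this] at hg'

end

end Cfsg.Agent.Lib.Helper3.ChevM
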