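import Mathlib
import Cfsg.Prelude.Def_ChevStructure
import Cfsg.Agent.Lib.Helper3.ChevB3
import Cfsg.Agent.Lib.Helper3.ChevP1
import Cfsg.Agent.S0319
set_option autoImplicit false
open Cfsg Cfsg.Lie

namespace Cfsg.Agent.Lib.Helper3.ChevM

open ChevT DoubleCoset

/-- Certificate of connectedness of the Dynkin diagram: a rooted tree on the nodes in which each node does not
commute with its parent (in the Weyl group). -/
def irrCheck (D : ChevalleyDatum) (refl : ℕ → ℕ → ℕ) (par dep : ℕ → ℕ) (root i : ℕ) : Bool :=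
  decide (i = root) ||
    (decide (par i < D.rank) && decide (dep (par i) < dep i) &&
      decide (reflW refl [i, par i, i, par i] (D.simple i) ≠ D.simple i) &&
      decide (reflW refl [par i, i, par i, i] (D.simple (par i)) ≠ D.simple (par i)))

section
variable {F : Type*} [Field F] {C : CDatum} {R : RelData C}

/-- If the commutator of `n_a` and `n_b` lies in `B`, the word `abab` fixes all roots. -/
theorem MonoHyp.reflW_of_comm_mem (M : MonoHyp C R) (a b : ℕ) (ha : a < C.D.rank) (hb : b < C.D.rank)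
    (h : R.nU (C.D.simple a) (1 : F) * R.nU (C.D.simple b) 1 * (R.nU (C.D.simple a) 1)⁻¹ * (R.nU (C.D.simple b) 1)⁻¹ ∈
      C.D.borelSubgroup F) : ∀ s < C.D.nroots, reflW R.refl [a, b, a, b] s = s := by
  set s := R.nU (C.D.simple a) (1 : F) with hs
  set s' := R.nU (C.D.simple b) (1 : F) with hs'
  have hHB : C.D.diagonalSubgroup F ≤ C.D.borelSubgroup F := le_sup_right
  have hl : ∀ i ∈ [a, b, a, b], i < C.D.rank := by
    intro i hi
    simp only [List.mem_cons, List.not_mem_nil, or_false] at hi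
    rcases hi with rfl | rfl | rfl | rfl <;> assumption
  have hword : R.nWordU (F := F) [a, b, a, b] = s * s' * s * s' := by
    rw [R.nWordU_cons, R.nWordU_cons, R.nWordU_cons, R.nWordU_cons, R.nWordU_nil, mul_one, ← hs, ← hs']
    simp only [mul_assoc]
  have hsq : s * s ∈ C.D.diagonalSubgroup F := R.nU_sq_mem _ (R.simple_lt a ha)
  have hsq' : s' * s' ∈ C.D.diagonalSubgroup F := R.nU_sq_mem _ (R.simple_lt b hb)
  have hc := M.conj_mem s' (R.nU_simple_mem b hb) _ hsq
  have hB : R.nWordU (F := F) [a, b, a, b] ∈ C.D.borelSubgroup F := by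
    have e : s * s' * s * s' = (s * s' * s⁻¹ * s'⁻¹) * ((s' * (s * s) * s'⁻¹) * (s' * s')) := by group
    rw [hword, e]
    exact Subgroup.mul_mem _ h (hHB (Subgroup.mul_mem _ hc hsq'))
  have htri : Shift (posIdx C.D) 0 (nWordMat C.D F [a, b, a, b]) := by
    rw [← R.nWordU_val]
    exact M.borel_le_tri hB
  exact R.reflW_eq_self_of_tri M.inv _ hl htri

end

section
variable {F : Type*} [Field F] {C : CDatum} {R : RelData C} (K : CommData C R)

include K in
theorem CommData.bnPair_irreducible (Hy : BNHyp C R) (par dep : ℕ → ℕ) (root : ℕ) (hroot : root < C.D.rank)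
    (hirr : ∀ i < C.D.rank, irrCheck C.D R.refl par dep root i = true) : (K.bnPair (F := F) Hy).Irreducible := by
  intro J hJ hJne hJc
  have hS : ∀ x : ↥(C.D.group F), x ∈ (K.bnPair (F := F) Hy).S ↔ ∃ i < C.D.rank, (x : GL C.D.Idx F) = R.nU (C.D.simple i) 1 := by
    intro x
    exact R.mem_simpleReps (x : GL C.D.Idx F)
  -- the representative in the group
  let rep : (i : ℕ) → i < C.D.rank → ↥(C.D.group F) := fun i hi =>
    ⟨R.nU (C.D.simple i) (1 : F), R.monomialSubgroup_le_group (R.nU_simple_mem i hi)⟩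
  have hrepS : ∀ i (hi : i < C.D.rank), rep i hi ∈ (K.bnPair (F := F) Hy).S := fun i hi => (hS _).mpr ⟨i, hi, rfl⟩
  -- adjacent pair across the cut
  have hpair : ∃ (a b : ℕ) (ha : a < C.D.rank) (hb : b < C.D.rank), rep a ha ∈ J ∧ rep b hb ∉ J ∧
      ∃ s < C.D.nroots, reflW R.refl [a, b, a, b] s ≠ s := by
    by_cases hr : rep root hroot ∈ J
    · -- descend from a node outside `J`
      have key : ∀ m : ℕ, ∀ b (hb : b < C.D.rank), dep b = m → rep b hb ∉ J →
          ∃ (a b : ℕ) (ha : a < C.D.rank) (hb : b < C.D.rank), rep a ha ∈ J ∧ rep b hb ∉ J ∧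
            ∃ s < C.D.nroots, reflW R.refl [a, b, a, b] s ≠ s := by
        intro m
        induction m using Nat.strong_induction_on with
        | _ m ih =>
          intro b hb hm hbJ
          have hc := hirr b hb
          simp only [irrCheck, Bool.or_eq_true, Bool.and_eq_true, decide_eq_true_eq] at hc
          rcases hc with hc | ⟨⟨⟨h1, h2⟩, h3⟩, h4⟩
          · subst hc; exact absurd hr hbJ
          · by_cases hp : rep (par b) h1 ∈ J
            · exact ⟨par b, b, h1, hb, hp, hbJ, _, R.simple_lt _ h1, h4⟩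
            · exact ih _ (hm ▸ h2) (par b) h1 rfl hp
      obtain ⟨x, hxS, hxJ⟩ := hJc
      obtain ⟨b, hb, hxb⟩ := (hS x).mp hxS
      have : x = rep b hb := Subtype.ext hxb
      exact key _ b hb rfl (this ▸ hxJ)
    · have key : ∀ m : ℕ, ∀ a (ha : a < C.D.rank), dep a = m → rep a ha ∈ J →
          ∃ (a b : ℕ) (ha : a < C.D.rank) (hb : b < C.D.rank), rep a ha ∈ J ∧ rep b hb ∉ J ∧
            ∃ s < C.D.nroots, reflW R.refl [a, b, a, b] s ≠ s := by
        intro m
        induction m using Nat.strong_induction_on with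
        | _ m ih =>
          intro a ha hm haJ
          have hc := hirr a ha
          simp only [irrCheck, Bool.or_eq_true, Bool.and_eq_true, decide_eq_true_eq] at hc
          rcases hc with hc | ⟨⟨⟨h1, h2⟩, h3⟩, h4⟩
          · subst hc; exact absurd haJ hr
          · by_cases hp : rep (par a) h1 ∈ J
            · exact ih _ (hm ▸ h2) (par a) h1 rfl hp
            · exact ⟨a, par a, ha, h1, haJ, hp, _, R.simple_lt _ ha, h3⟩
      obtain ⟨x, hxJ⟩ := hJne
      obtain ⟨a, ha, hxa⟩ := (hS x).mp (hJ hxJ)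
      have : x = rep a ha := Subtype.ext hxa
      exact key _ a ha rfl (this ▸ hxJ)
  obtain ⟨a, b, ha, hb, haJ, hbJ, s, hs, hne⟩ := hpair
  refine ⟨rep a ha, haJ, rep b hb, ⟨hrepS b hb, hbJ⟩, ?_⟩
  intro hmem
  have hmem' : ((rep a ha * rep b hb * (rep a ha)⁻¹ * (rep b hb)⁻¹ : ↥(C.D.group F)) : GL C.D.Idx F) ∈ C.D.borelSubgroup F :=
    Subgroup.mem_subgroupOf.mp hmem
  exact hne (Hy.mono.reflW_of_comm_mem a b ha hb hmem' s hs)

end

/-- All the table checks for the simplicity of a Chevalley group. -/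
structure SimpleHyp (C : CDatum) (R : RelData C) where
  bn : BNHyp C R
  ntri : ∀ r < C.D.nroots, negTri C r = true
  l : List ℕ
  l' : List ℕ
  hl : ∀ i ∈ l, i < C.D.rank
  opp : ∀ s < C.D.nroots, oppCheck C.D R.refl l l' s = true
  inj : ∀ r < C.D.nroots, injCheck C r = true
  par : ℕ → ℕ
  dep : ℕ → ℕ
  root : ℕ
  hroot : root < C.D.rank
  irr : ∀ i < C.D.rank, irrCheck C.D R.refl par dep root i = true
  ptag : ℕ → ℕ
  ps : ℕ → ℕ
  ps' : ℕ → ℕ
  pm : ℕ → ℕ → ℤ
  perf : ∀ r < C.D.nroots, perfCheck C.D ptag ps ps' pm r = true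

section
variable {F : Type*} [Field F] {C : CDatum} {R : RelData C} (K : CommData C R)

include K in
/-- S1054, S1055, S1056 -/
theorem CommData.simple (S : SimpleHyp C R) (ha : (∀ r < C.D.nroots, S.ptag r = 0) ∨ ∃ a : F, a ≠ 0 ∧ a ≠ 1) :
    IsSimpleGroup ↥(C.D.group F) ∧ ¬ IsMulCommutative ↥(C.D.group F) := by
  have M := S.bn.mono
  set p := C.D.simple S.root with hp
  have hpl : p < C.D.nroots := R.simple_lt _ S.hroot
  have hppos : C.D.IsPosRoot p := by
    have := M.ns _ S.hroot
    simp only [negSimpleCheck, Bool.and_eq_true, decide_eq_true_eq] at this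
    exact this.2
  have hxB : ∀ c : F, R.xU p c ∈ C.D.borelSubgroup F := fun c =>
    Subgroup.mem_sup_left (Subgroup.subset_closure ⟨p, c, hppos, rfl⟩)
  -- `x_{-p}(-1)` is not in `B`
  have hnot : R.xU (C.D.neg p) (-1 : F) ∉ C.D.borelSubgroup F := by
    intro hmem
    have := eq_zero_of_tri_x_neg_simple R _ S.hroot (S.bn.low _ S.hroot) (-1 : F) (M.borel_le_tri hmem)
    simp at this
  have hconj := M.conj_simple_self (F := F) _ S.hroot (1 : F)
  have hx1 : R.xU p (1 : F) ≠ 1 := by
    intro h1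
    rw [h1] at hconj
    apply hnot
    rw [← hconj]
    simp
  have hxG : R.xU p (1 : F) ∈ C.D.group F := R.xU_mem_group p hpl 1
  have hnG : R.nU p (1 : F) ∈ C.D.group F := R.monomialSubgroup_le_group (R.nU_simple_mem _ S.hroot)
  have : Nontrivial ↥(C.D.group F) :=
    ⟨⟨⟨R.xU p 1, hxG⟩, 1, fun h => hx1 (congrArg Subtype.val h)⟩⟩
  have hBG : C.D.borelSubgroup F ≤ C.D.group F := (R.borel_sup_monomial S.bn.root S.bn.nc).1
  have hsolv : Group.IsSolvable ↥((K.bnPair (F := F) S.bn).B) := by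
    have := borel_solvable (F := F) R M.tri
    exact Group.isSolvable_of_isSolvable_injective (f := (Subgroup.subgroupOfEquivOfLe hBG).toMonoidHom)
      (Subgroup.subgroupOfEquivOfLe hBG).injective
  have hperf := K.perfect (F := F) S.ptag S.ps S.ps' S.pm S.perf ha
  have hcore : (K.bnPair (F := F) S.bn).B.normalCore = ⊥ :=
    R.borel_core_trivial S.bn.dec M.tri S.ntri S.l S.l' S.hl S.opp M.nr M.rw M.rwc S.inj
  have hirr := K.bnPair_irreducible (F := F) S.bn S.par S.dep S.root S.hroot S.irr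
  refine ⟨Cfsg.Agent.S0319.result (K.bnPair (F := F) S.bn) hirr hsolv hperf hcore, ?_⟩
  intro hcomm
  have hc := hcomm.is_comm.comm (⟨R.nU p 1, hnG⟩ : ↥(C.D.group F)) ⟨R.xU p 1, hxG⟩
  have hc' : R.nU p (1 : F) * R.xU p 1 = R.xU p 1 * R.nU p 1 := congrArg Subtype.val hc
  apply hnot
  rw [← hconj, ← hp, hc', mul_inv_cancel_right]
  exact hxB 1

end

end Cfsg.Agent.Lib.Helper3.ChevM
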