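import Mathlib
import Cfsg.Prelude.Def_ChevStructure
import Cfsg.Agent.Lib.Helper3.ChevG1
set_option autoImplicit false
set_option linter.unusedSectionVars false
set_option linter.style.haveILetI false
open Cfsg Cfsg.Lie

/-!
Special isogenies of Chevalley groups, part 1: entries of root elements as polynomials with a
check of vanishing modulo a prime, block triangular matrices and the induced homomorphisms.
-/

namespace Cfsg.Agent.Lib.Helper3.ChevSp

open Cfsg.Agent.Lib.Helper3.ChevM

/-! ### Polynomial entries -/

/-- The terms `(degree, coefficient)` of the entry in row `k`, column `c` (as codes) of `x_r(T)`. -/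
def entryPoly (D : ChevalleyDatum) (r c k : ℕ) : List (ℕ × ℤ) :=
  (if k = c then [(0, 1)] else []) ++
    ((colList D r c).filter fun e => e.row = k).map fun e => (e.deg, e.coef)

section
variable {F : Type*} [Field F]

/-- Value of a list of terms. -/
def evalPoly (T : F) (P : List (ℕ × ℤ)) : F := (P.map fun e => ((e.2 : ℤ) : F) * T ^ e.1).sum

theorem evalPoly_append (T : F) (P Q : List (ℕ × ℤ)) :
    evalPoly T (P ++ Q) = evalPoly T P + evalPoly T Q := by
  simp [evalPoly]

theorem xMat_eq_evalPoly (D : ChevalleyDatum) (r : Fin D.nroots) (T : F) (j col : D.Idx) :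
    D.xMat F r T j col = evalPoly T (entryPoly D r.val (code D col) (code D j)) := by
  rw [xMat_entry, entryPoly, evalPoly_append]
  congr 1
  · by_cases h : j = col
    · subst h
      simp [evalPoly]
    · have h' : code D j ≠ code D col := fun e => h (code_injective D e)
      simp [evalPoly, h, h']
  · simp only [evalPoly, colSum, List.map_map]
    rfl

/-- Scale the degrees and negate the coefficients. -/
def negScale (m : ℕ) (Q : List (ℕ × ℤ)) : List (ℕ × ℤ) := Q.map fun e => (e.1 * m, -e.2)

theorem evalPoly_negScale (T : F) (m : ℕ) (Q : List (ℕ × ℤ)) :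
    evalPoly T (negScale m Q) = - evalPoly (T ^ m) Q := by
  induction Q with
  | nil => simp [evalPoly, negScale]
  | cons e Q ih =>
    simp only [evalPoly, negScale, List.map_cons, List.sum_cons] at ih ⊢
    rw [ih]
    have : T ^ (e.1 * m) = (T ^ m) ^ e.1 := by rw [← pow_mul, mul_comm]
    rw [this]
    push_cast
    ring

/-- The coefficient in a given degree. -/
def coefAt (P : List (ℕ × ℤ)) (d : ℕ) : ℤ := ((P.filter fun e => e.1 = d).map Prod.snd).sum

/-- All coefficients vanish modulo `p`. -/
def polyZeroMod (p : ℕ) (P : List (ℕ × ℤ)) : Bool :=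
  P.all fun e => decide (coefAt P e.1 % (p : ℤ) = 0)

/-- The polynomial with integer coefficients of a list of terms. -/
noncomputable def toPoly (P : List (ℕ × ℤ)) : Polynomial ℤ :=
  (P.map fun e => Polynomial.monomial e.1 e.2).sum

theorem toPoly_coeff (P : List (ℕ × ℤ)) (d : ℕ) : (toPoly P).coeff d = coefAt P d := by
  induction P with
  | nil => simp [toPoly, coefAt]
  | cons e P ih =>
    simp only [toPoly, coefAt, List.map_cons, List.sum_cons, Polynomial.coeff_add,
      Polynomial.coeff_monomial, List.filter_cons] at ih ⊢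
    rw [ih]
    by_cases h : e.1 = d
    · simp [h]
    · simp [h]

theorem evalPoly_eq_eval₂ (T : F) (P : List (ℕ × ℤ)) :
    evalPoly T P = (toPoly P).eval₂ (Int.castRingHom F) T := by
  induction P with
  | nil => simp [toPoly, evalPoly]
  | cons e P ih =>
    simp only [toPoly, evalPoly, List.map_cons, List.sum_cons, Polynomial.eval₂_add,
      Polynomial.eval₂_monomial] at ih ⊢
    rw [ih]
    simp

theorem evalPoly_eq_zero_of_check (p : ℕ) [CharP F p] (T : F) (P : List (ℕ × ℤ))
    (h : polyZeroMod p P = true) : evalPoly T P = 0 := by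
  rw [evalPoly_eq_eval₂, Polynomial.eval₂_eq_sum]
  unfold Polynomial.sum
  apply Finset.sum_eq_zero
  intro d _
  rw [toPoly_coeff]
  have hd : (p : ℤ) ∣ coefAt P d := by
    by_cases hmem : ∃ e ∈ P, e.1 = d
    · obtain ⟨e, he, hed⟩ := hmem
      simp only [polyZeroMod, List.all_eq_true, decide_eq_true_eq] at h
      have := h e he
      rw [hed] at this
      exact Int.dvd_of_emod_eq_zero this
    · have : (P.filter fun e => e.1 = d) = [] := by
        rw [List.filter_eq_nil_iff]
        intro e he hed
        exact hmem ⟨e, he, by simpa using hed⟩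
      simp [coefAt, this]
  have hz : ((coefAt P d : ℤ) : F) = 0 := (CharP.intCast_eq_zero_iff F p _).mpr hd
  simp [hz]

end

/-! ### Block triangular matrices -/

section Block
variable {n : Type*} [Fintype n] [DecidableEq n] {d : Type*} [Fintype d] [DecidableEq d]
  {F : Type*} [Field F] (sI lI : d → n)

/-- The lower left block vanishes. -/
def ZeroBlk (M : Matrix n n F) : Prop := ∀ i j, M (lI i) (sI j) = 0

variable {sI lI}

theorem sum_split (hb : Function.Bijective (Sum.elim sI lI)) (f : n → F) :
    ∑ k, f k = ∑ i, f (sI i) + ∑ i, f (lI i) := by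
  rw [← (Equiv.ofBijective _ hb).sum_comp f, Fintype.sum_sum_type]
  rfl

theorem sI_injective (hb : Function.Bijective (Sum.elim sI lI)) : Function.Injective sI := by
  intro i j h
  have := hb.1 (a₁ := Sum.inl i) (a₂ := Sum.inl j) h
  exact Sum.inl.inj this

theorem lI_injective (hb : Function.Bijective (Sum.elim sI lI)) : Function.Injective lI := by
  intro i j h
  have := hb.1 (a₁ := Sum.inr i) (a₂ := Sum.inr j) h
  exact Sum.inr.inj this

theorem lI_ne_sI (hb : Function.Bijective (Sum.elim sI lI)) (i j : d) : lI i ≠ sI j := by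
  intro h
  have := hb.1 (a₁ := Sum.inr i) (a₂ := Sum.inl j) h
  exact absurd this (by simp)

theorem zeroBlk_one (hb : Function.Bijective (Sum.elim sI lI)) :
    ZeroBlk sI lI (1 : Matrix n n F) := by
  intro i j
  rw [Matrix.one_apply_ne (lI_ne_sI hb i j)]

theorem ZeroBlk.mul (hb : Function.Bijective (Sum.elim sI lI)) {M N : Matrix n n F}
    (hM : ZeroBlk sI lI M) (hN : ZeroBlk sI lI N) : ZeroBlk sI lI (M * N) := by
  intro i j
  rw [Matrix.mul_apply, sum_split hb]
  have h1 : ∑ k, M (lI i) (sI k) * N (sI k) (sI j) = 0 :=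
    Finset.sum_eq_zero fun k _ => by rw [hM i k, zero_mul]
  have h2 : ∑ k, M (lI i) (lI k) * N (lI k) (sI j) = 0 :=
    Finset.sum_eq_zero fun k _ => by rw [hN k j, mul_zero]
  rw [h1, h2, add_zero]

theorem submatrix_sI_mul (hb : Function.Bijective (Sum.elim sI lI)) (M : Matrix n n F)
    {N : Matrix n n F} (hN : ZeroBlk sI lI N) :
    (M * N).submatrix sI sI = M.submatrix sI sI * N.submatrix sI sI := by
  ext i j
  rw [Matrix.submatrix_apply, Matrix.mul_apply, sum_split hb, Matrix.mul_apply]
  have h2 : ∑ k, M (sI i) (lI k) * N (lI k) (sI j) = 0 :=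
    Finset.sum_eq_zero fun k _ => by rw [hN k j, mul_zero]
  rw [h2, add_zero]
  rfl

theorem submatrix_lI_mul (hb : Function.Bijective (Sum.elim sI lI)) {M : Matrix n n F}
    (hM : ZeroBlk sI lI M) (N : Matrix n n F) :
    (M * N).submatrix lI lI = M.submatrix lI lI * N.submatrix lI lI := by
  ext i j
  rw [Matrix.submatrix_apply, Matrix.mul_apply, sum_split hb, Matrix.mul_apply]
  have h1 : ∑ k, M (lI i) (sI k) * N (sI k) (lI j) = 0 :=
    Finset.sum_eq_zero fun k _ => by rw [hM i k, zero_mul]
  rw [h1, zero_add]
  rfl

theorem submatrix_sI_one (hb : Function.Bijective (Sum.elim sI lI)) :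
    (1 : Matrix n n F).submatrix sI sI = 1 :=
  Matrix.submatrix_one sI (sI_injective hb)

theorem submatrix_lI_one (hb : Function.Bijective (Sum.elim sI lI)) :
    (1 : Matrix n n F).submatrix lI lI = 1 :=
  Matrix.submatrix_one lI (lI_injective hb)

/-- The inverse of a block triangular invertible matrix is block triangular. -/
theorem ZeroBlk.inv (hb : Function.Bijective (Sum.elim sI lI)) (g : GL n F)
    (hg : ZeroBlk sI lI (g : Matrix n n F)) : ZeroBlk sI lI ((g⁻¹ : GL n F) : Matrix n n F) := by
  classical
  let b : n → ℕ := fun k => if ∃ i, sI i = k then 0 else 1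
  have hbs : ∀ i, b (sI i) = 0 := fun i => by simp [b]
  have hbl : ∀ i, b (lI i) = 1 := by
    intro i
    have : ¬ ∃ j, sI j = lI i := by
      rintro ⟨j, hj⟩
      exact lI_ne_sI hb i j hj.symm
    simp [b, this]
  have hcases : ∀ k, (∃ i, k = sI i) ∨ (∃ i, k = lI i) := by
    intro k
    obtain ⟨x, hx⟩ := hb.2 k
    rcases x with i | i
    · exact Or.inl ⟨i, hx.symm⟩
    · exact Or.inr ⟨i, hx.symm⟩
  have hM : Matrix.BlockTriangular (g : Matrix n n F) b := by
    intro i j hij
    rcases hcases i with ⟨i', rfl⟩ | ⟨i', rfl⟩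
    · rw [hbs] at hij
      exact absurd hij (Nat.not_lt_zero _)
    · rcases hcases j with ⟨j', rfl⟩ | ⟨j', rfl⟩
      · exact hg i' j'
      · rw [hbl, hbl] at hij
        exact absurd hij (lt_irrefl _)
  haveI : Invertible (g : Matrix n n F) := g.invertible
  have hinv := Matrix.blockTriangular_inv_of_blockTriangular hM
  intro i j
  rw [Matrix.coe_units_inv]
  apply hinv
  rw [hbs, hbl]
  exact Nat.zero_lt_one

/-- The subgroup of block triangular invertible matrices. -/
def blkSubgroup (hb : Function.Bijective (Sum.elim sI lI)) : Subgroup (GL n F) where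
  carrier := {g | ZeroBlk sI lI (g : Matrix n n F)}
  one_mem' := zeroBlk_one hb
  mul_mem' := fun {a b} ha hb' => by
    show ZeroBlk sI lI ((a * b : GL n F) : Matrix n n F)
    rw [Units.val_mul]
    exact ZeroBlk.mul hb ha hb'
  inv_mem' := fun {a} ha => ZeroBlk.inv hb a ha

theorem mem_blkSubgroup (hb : Function.Bijective (Sum.elim sI lI)) (g : GL n F) :
    g ∈ blkSubgroup (F := F) hb ↔ ZeroBlk sI lI (g : Matrix n n F) := Iff.rfl

/-- The upper left block, as a homomorphism on a subgroup of block triangular matrices. -/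
def blkHomS (hb : Function.Bijective (Sum.elim sI lI)) (H : Subgroup (GL n F))
    (hH : H ≤ blkSubgroup hb) : H →* GL d F :=
  MonoidHom.toHomUnits
    { toFun := fun g => ((g : GL n F) : Matrix n n F).submatrix sI sI
      map_one' := by
        show ((1 : GL n F) : Matrix n n F).submatrix sI sI = 1
        rw [Units.val_one]
        exact submatrix_sI_one hb
      map_mul' := fun a b => by
        show ((a * b : GL n F) : Matrix n n F).submatrix sI sI = _
        rw [Units.val_mul]
        exact submatrix_sI_mul hb _ (hH b.2) }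

/-- The lower right block, as a homomorphism on a subgroup of block triangular matrices. -/
def blkHomL (hb : Function.Bijective (Sum.elim sI lI)) (H : Subgroup (GL n F))
    (hH : H ≤ blkSubgroup hb) : H →* GL d F :=
  MonoidHom.toHomUnits
    { toFun := fun g => ((g : GL n F) : Matrix n n F).submatrix lI lI
      map_one' := by
        show ((1 : GL n F) : Matrix n n F).submatrix lI lI = 1
        rw [Units.val_one]
        exact submatrix_lI_one hb
      map_mul' := fun a b => by
        show ((a * b : GL n F) : Matrix n n F).submatrix lI lI = _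
        rw [Units.val_mul]
        exact submatrix_lI_mul hb (hH a.2) _ }

theorem blkHomS_val (hb : Function.Bijective (Sum.elim sI lI)) (H : Subgroup (GL n F))
    (hH : H ≤ blkSubgroup hb) (g : H) :
    ((blkHomS hb H hH g : GL d F) : Matrix d d F) =
      ((g : GL n F) : Matrix n n F).submatrix sI sI := rfl

theorem blkHomL_val (hb : Function.Bijective (Sum.elim sI lI)) (H : Subgroup (GL n F))
    (hH : H ≤ blkSubgroup hb) (g : H) :
    ((blkHomL hb H hH g : GL d F) : Matrix d d F) =
      ((g : GL n F) : Matrix n n F).submatrix lI lI := rfl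

end Block

end Cfsg.Agent.Lib.Helper3.ChevSp
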