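import Mathlib
import Cfsg.Prelude.Def_ChevStructure
import Cfsg.Agent.Lib.Helper3.ChevSp1
set_option autoImplicit false
set_option linter.unusedSectionVars false
set_option linter.style.haveILetI false
open Cfsg Cfsg.Lie

/-!
Special isogenies of Chevalley groups, part 2: construction of the automorphism from two block
representations related on the generators.
-/

namespace Cfsg.Agent.Lib.Helper3.ChevSp

open Cfsg.Agent.Lib.Helper3.ChevM

/-- Two injective homomorphisms with the same image of a generating set differ by an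
automorphism. -/
theorem exists_equiv_of_gens {G H : Type*} [Group G] [Group H] (f₁ f₂ : G →* H)
    (h₁ : Function.Injective f₁) (h₂ : Function.Injective f₂) (S : Set G)
    (hS : Subgroup.closure S = ⊤) (him : f₂ '' S = f₁ '' S) :
    ∃ σ : G ≃* G, ∀ g, f₁ (σ g) = f₂ g := by
  have hr : f₂.range = f₁.range := by
    rw [MonoidHom.range_eq_map, MonoidHom.range_eq_map, ← hS, MonoidHom.map_closure,
      MonoidHom.map_closure, him]
  let e₂ : G ≃* f₂.range := MonoidHom.ofInjective h₂
  let e₁ : G ≃* f₁.range := MonoidHom.ofInjective h₁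
  refine ⟨e₂.trans ((MulEquiv.subgroupCongr hr).trans e₁.symm), ?_⟩
  intro g
  show f₁ (e₁.symm (MulEquiv.subgroupCongr hr (e₂ g))) = f₂ g
  rw [MonoidHom.apply_ofInjective_symm]
  rfl

/-- An injectivity criterion in a simple group. -/
theorem injective_of_isSimpleGroup {G H : Type*} [Group G] [Group H] [IsSimpleGroup G] (f : G →* H)
    (g : G) (hg : f g ≠ 1) : Function.Injective f := by
  rw [← MonoidHom.ker_eq_bot_iff]
  rcases (inferInstance : f.ker.Normal).eq_bot_or_eq_top with h | h
  · exact h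
  · exfalso
    apply hg
    have : g ∈ f.ker := by rw [h]; exact Subgroup.mem_top g
    exact this

section
variable {F : Type*} [Field F] {C : CDatum} (R : RelData C) {d : Type*} [Fintype d] [DecidableEq d]
  {sI lI : d → C.D.Idx} (hb : Function.Bijective (Sum.elim sI lI))

theorem group_le_blk (hZ : ∀ (r : Fin C.D.nroots) (t : F), ZeroBlk sI lI (C.D.xMat F r t)) :
    C.D.group F ≤ blkSubgroup hb := by
  unfold ChevalleyDatum.group
  rw [Subgroup.closure_le]
  rintro g ⟨r, t, hg⟩
  show ZeroBlk sI lI (g : Matrix C.D.Idx C.D.Idx F)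
  rw [hg]
  exact hZ r t

/-- The root elements as elements of the Chevalley group. -/
def xG (r : ℕ) (hr : r < C.D.nroots) (t : F) : ↥(C.D.group F) := ⟨R.xU r t, R.xU_mem_group r hr t⟩

theorem xG_val (r : ℕ) (hr : r < C.D.nroots) (t : F) :
    (((xG R r hr t : ↥(C.D.group F)) : GL C.D.Idx F) : Matrix C.D.Idx C.D.Idx F) =
      C.D.xMat F ⟨r, hr⟩ t := by
  show C.D.x F r t = _
  simp [ChevalleyDatum.x, hr]

/-- The set of root elements in the Chevalley group. -/
def gensG : Set ↥(C.D.group F) := {g | ∃ (r : ℕ) (hr : r < C.D.nroots) (t : F), g = xG R r hr t}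

theorem closure_gensG : Subgroup.closure (gensG (F := F) R) = ⊤ := by
  have h := Subgroup.closure_closure_coe_preimage
    (k := {g : GL C.D.Idx F | ∃ (r : Fin C.D.nroots) (t : F),
      (g : Matrix C.D.Idx C.D.Idx F) = C.D.xMat F r t})
  have hset : gensG (F := F) R = ((↑) ⁻¹' {g : GL C.D.Idx F | ∃ (r : Fin C.D.nroots) (t : F),
      (g : Matrix C.D.Idx C.D.Idx F) = C.D.xMat F r t} : Set ↥(C.D.group F)) := by
    ext g
    constructor
    · rintro ⟨r, hr, t, rfl⟩
      exact ⟨⟨r, hr⟩, t, xG_val R r hr t⟩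
    · rintro ⟨r, t, hg⟩
      refine ⟨r.val, r.isLt, t, ?_⟩
      apply Subtype.ext
      apply Units.ext
      rw [hg, xG_val]
  rw [hset]
  exact h

/-- **Special isogeny**: if the two diagonal blocks of the root elements are related by a
permutation of the roots and surjective power maps of the field, and both block representations
are faithful, there is an automorphism of the Chevalley group realizing this. -/
theorem exists_special_isogeny
    (hZ : ∀ (r : Fin C.D.nroots) (t : F), ZeroBlk sI lI (C.D.xMat F r t))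
    (ρ : ℕ → ℕ) (lam : ℕ → ℕ) (hρ : ∀ r < C.D.nroots, ρ r < C.D.nroots)
    (hρρ : ∀ r < C.D.nroots, ρ (ρ r) = r)
    (hsurj : ∀ r < C.D.nroots, ∀ u : F, ∃ t : F, t ^ lam r = u)
    (hrel : ∀ (r : ℕ) (hr : r < C.D.nroots) (t : F),
      (C.D.xMat F ⟨r, hr⟩ t).submatrix lI lI =
        (C.D.xMat F ⟨ρ r, hρ r hr⟩ (t ^ lam r)).submatrix sI sI)
    (hinjS : Function.Injective (blkHomS hb (C.D.group F) (group_le_blk hb hZ)))
    (hinjL : Function.Injective (blkHomL hb (C.D.group F) (group_le_blk hb hZ))) :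
    ∃ σ : ↥(C.D.group F) ≃* ↥(C.D.group F), ∀ (r : ℕ) (hr : r < C.D.nroots) (t : F),
      σ (xG R r hr t) = xG R (ρ r) (hρ r hr) (t ^ lam r) := by
  have hkey : ∀ (r : ℕ) (hr : r < C.D.nroots) (t : F),
      blkHomL hb (C.D.group F) (group_le_blk hb hZ) (xG R r hr t) =
        blkHomS hb (C.D.group F) (group_le_blk hb hZ) (xG R (ρ r) (hρ r hr) (t ^ lam r)) := by
    intro r hr t
    apply Units.ext
    rw [blkHomL_val, blkHomS_val, xG_val, xG_val]
    exact hrel r hr t
  obtain ⟨σ, hσ⟩ := exists_equiv_of_gens _ _ hinjS hinjL (gensG (F := F) R) (closure_gensG R) (by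
    ext y
    constructor
    · rintro ⟨g, ⟨r, hr, t, rfl⟩, rfl⟩
      exact ⟨_, ⟨ρ r, hρ r hr, t ^ lam r, rfl⟩, (hkey r hr t).symm⟩
    · rintro ⟨g, ⟨s, hs, u, rfl⟩, rfl⟩
      obtain ⟨t, ht⟩ := hsurj (ρ s) (hρ s hs) u
      refine ⟨_, ⟨ρ s, hρ s hs, t, rfl⟩, ?_⟩
      rw [hkey (ρ s) (hρ s hs) t]
      congr 1
      apply Subtype.ext
      apply Units.ext
      show C.D.x F (ρ (ρ s)) (t ^ lam (ρ s)) = C.D.x F s u
      rw [hρρ s hs, ht])
  refine ⟨σ, ?_⟩
  intro r hr t
  apply hinjS
  rw [hσ, hkey]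

end

end Cfsg.Agent.Lib.Helper3.ChevSp
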