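import Mathlib
import Cfsg.Prelude.Def_ChevStructure
import Cfsg.Agent.Lib.Helper3.ChevSp2
import Cfsg.Agent.Lib.Helper3.ChevB4
set_option autoImplicit false
set_option linter.unusedSectionVars false
set_option linter.style.haveILetI false
open Cfsg Cfsg.Lie

/-!
Abstract twisting automorphisms of Chevalley groups, part 1: the automorphism as a function on the
general linear group, its action on root elements, `n_r(t)`, `h_r(t)` and on the standard subgroups.
-/

namespace Cfsg.Agent.Lib.Helper3.ChevAt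

open Cfsg.Agent.Lib.Helper3.ChevM Cfsg.Agent.Lib.Helper3.ChevSp

/-- An automorphism of a Chevalley group permuting the root subgroups, with power maps on the
parameters. -/
structure AbsTw (C : CDatum) (R : RelData C) (K : Type*) [Field K] where
  σ : ↥(C.D.group K) ≃* ↥(C.D.group K)
  rho : ℕ → ℕ
  e : ℕ → ℕ
  rho_lt : ∀ r < C.D.nroots, rho r < C.D.nroots
  σ_x : ∀ (r : ℕ) (hr : r < C.D.nroots) (t : K),
    σ (xG R r hr t) = xG R (rho r) (rho_lt r hr) (t ^ e r)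
  rho_pos : ∀ r, C.D.IsPosRoot r → C.D.IsPosRoot (rho r)
  rho_negRoot : ∀ r, C.D.IsNegRoot r → C.D.IsNegRoot (rho r)
  rho_neg : ∀ r < C.D.nroots, rho (C.D.neg r) = C.D.neg (rho r)
  rho_surj : ∀ s < C.D.nroots, ∃ r < C.D.nroots, rho r = s
  e_neg : ∀ r < C.D.nroots, e (C.D.neg r) = e r
  e_odd : ∀ r < C.D.nroots, (-1 : K) ^ e r = -1
  e_surj : ∀ r < C.D.nroots, ∀ u : K, ∃ t : K, t ^ e r = u

section
variable {K : Type*} [Field K] {C : CDatum} {R : RelData C} (A : AbsTw C R K)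

open Classical in
/-- The automorphism as a function on the general linear group (identity outside the Chevalley
group). -/
noncomputable def AbsTw.sg (g : GL C.D.Idx K) : GL C.D.Idx K :=
  if h : g ∈ C.D.group K then (A.σ ⟨g, h⟩ : GL C.D.Idx K) else g

theorem AbsTw.sg_of_mem {g : GL C.D.Idx K} (h : g ∈ C.D.group K) :
    A.sg g = (A.σ ⟨g, h⟩ : GL C.D.Idx K) := by
  unfold AbsTw.sg
  rw [dif_pos h]

theorem AbsTw.sg_mem {g : GL C.D.Idx K} (h : g ∈ C.D.group K) : A.sg g ∈ C.D.group K := by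
  rw [A.sg_of_mem h]
  exact (A.σ ⟨g, h⟩).2

theorem AbsTw.sg_mul {g h : GL C.D.Idx K} (hg : g ∈ C.D.group K) (hh : h ∈ C.D.group K) :
    A.sg (g * h) = A.sg g * A.sg h := by
  rw [A.sg_of_mem hg, A.sg_of_mem hh, A.sg_of_mem (Subgroup.mul_mem _ hg hh)]
  have : (⟨g * h, Subgroup.mul_mem _ hg hh⟩ : ↥(C.D.group K)) = ⟨g, hg⟩ * ⟨h, hh⟩ := rfl
  rw [this, map_mul]
  rfl

theorem AbsTw.sg_one : A.sg (1 : GL C.D.Idx K) = 1 := by
  rw [A.sg_of_mem (Subgroup.one_mem _)]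
  have : (⟨1, Subgroup.one_mem _⟩ : ↥(C.D.group K)) = 1 := rfl
  rw [this, map_one]
  rfl

theorem AbsTw.sg_inv {g : GL C.D.Idx K} (hg : g ∈ C.D.group K) : A.sg g⁻¹ = (A.sg g)⁻¹ := by
  rw [A.sg_of_mem hg, A.sg_of_mem (Subgroup.inv_mem _ hg)]
  have : (⟨g⁻¹, Subgroup.inv_mem _ hg⟩ : ↥(C.D.group K)) = (⟨g, hg⟩ : ↥(C.D.group K))⁻¹ := rfl
  rw [this, map_inv]
  rfl

theorem AbsTw.sg_injOn {g h : GL C.D.Idx K} (hg : g ∈ C.D.group K) (hh : h ∈ C.D.group K)
    (e : A.sg g = A.sg h) : g = h := by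
  rw [A.sg_of_mem hg, A.sg_of_mem hh] at e
  have := A.σ.injective (Subtype.ext e)
  exact congrArg Subtype.val this

theorem AbsTw.exists_sg_eq {g : GL C.D.Idx K} (hg : g ∈ C.D.group K) :
    ∃ g' ∈ C.D.group K, A.sg g' = g := by
  obtain ⟨x, hx⟩ := A.σ.surjective ⟨g, hg⟩
  refine ⟨x, x.2, ?_⟩
  rw [A.sg_of_mem x.2]
  have : (⟨(x : GL C.D.Idx K), x.2⟩ : ↥(C.D.group K)) = x := rfl
  rw [this, hx]

theorem AbsTw.sg_xU (r : ℕ) (hr : r < C.D.nroots) (t : K) :
    A.sg (R.xU r t) = R.xU (A.rho r) (t ^ A.e r) := by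
  rw [A.sg_of_mem (R.xU_mem_group r hr t)]
  have : (⟨R.xU r t, R.xU_mem_group r hr t⟩ : ↥(C.D.group K)) = xG R r hr t := rfl
  rw [this, A.σ_x]
  rfl

/-- Transport of a membership statement through generators. -/
theorem AbsTw.sg_mem_of_closure (S : Set (GL C.D.Idx K)) (hS : S ⊆ (C.D.group K : Set _))
    (T : Subgroup (GL C.D.Idx K)) (hST : ∀ x ∈ S, A.sg x ∈ T) {g : GL C.D.Idx K}
    (hg : g ∈ Subgroup.closure S) : A.sg g ∈ T := by
  have hle : Subgroup.closure S ≤ C.D.group K := (Subgroup.closure_le _).mpr hS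
  have key : ∀ x (hx : x ∈ Subgroup.closure S), A.sg x ∈ T := by
    intro x hx
    induction hx using Subgroup.closure_induction with
    | mem x hx => exact hST x hx
    | one => rw [A.sg_one]; exact Subgroup.one_mem _
    | mul x y hx hy ihx ihy =>
      rw [A.sg_mul (hle hx) (hle hy)]
      exact Subgroup.mul_mem _ ihx ihy
    | inv x hx ihx =>
      rw [A.sg_inv (hle hx)]
      exact Subgroup.inv_mem _ ihx
  exact key g hg

theorem AbsTw.sg_mem_posUnipotent {g : GL C.D.Idx K} (hg : g ∈ C.D.posUnipotent K) :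
    A.sg g ∈ C.D.posUnipotent K := by
  refine A.sg_mem_of_closure _ ?_ _ ?_ hg
  · rintro x ⟨r, t, hr, hx⟩
    have e : x = R.xU r t := Units.ext (by rw [hx, R.xU_val])
    rw [e]
    exact R.xU_mem_group r hr.1 t
  · rintro x ⟨r, t, hr, hx⟩
    have e : x = R.xU r t := Units.ext (by rw [hx, R.xU_val])
    rw [e, A.sg_xU r hr.1]
    exact Subgroup.subset_closure ⟨_, _, A.rho_pos r hr, R.xU_val _ _⟩

theorem AbsTw.sg_mem_negUnipotent {g : GL C.D.Idx K} (hg : g ∈ C.D.negUnipotent K) :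
    A.sg g ∈ C.D.negUnipotent K := by
  refine A.sg_mem_of_closure _ ?_ _ ?_ hg
  · rintro x ⟨r, t, hr, hx⟩
    have e : x = R.xU r t := Units.ext (by rw [hx, R.xU_val])
    rw [e]
    exact R.xU_mem_group r hr.1 t
  · rintro x ⟨r, t, hr, hx⟩
    have e : x = R.xU r t := Units.ext (by rw [hx, R.xU_val])
    rw [e, A.sg_xU r hr.1]
    exact Subgroup.subset_closure ⟨_, _, A.rho_negRoot r hr, R.xU_val _ _⟩

theorem AbsTw.sg_nU (r : ℕ) (hr : r < C.D.nroots) (c : K) (_hc : c ≠ 0) :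
    A.sg (R.nU r c) = R.nU (A.rho r) (c ^ A.e r) := by
  have hn := R.neg_lt r hr
  rw [R.nU_eq, R.nU_eq,
    A.sg_mul (Subgroup.mul_mem _ (R.xU_mem_group r hr _) (R.xU_mem_group _ hn _)) (R.xU_mem_group r hr _),
    A.sg_mul (R.xU_mem_group r hr _) (R.xU_mem_group _ hn _), A.sg_xU r hr, A.sg_xU _ hn,
    A.rho_neg r hr, A.e_neg r hr]
  congr 2
  have : (-c⁻¹) ^ A.e r = -(c ^ A.e r)⁻¹ := by
    rw [neg_eq_neg_one_mul, mul_pow, A.e_odd r hr, inv_pow]
    ring
  rw [this]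

theorem AbsTw.sg_hU (r : ℕ) (hr : r < C.D.nroots) (c : K) (hc : c ≠ 0) :
    A.sg (R.hU r c) = R.hU (A.rho r) (c ^ A.e r) := by
  have hNG : C.D.monomialSubgroup K ≤ C.D.group K := R.monomialSubgroup_le_group
  have hn1 : ∀ c' : K, R.nU r c' ∈ C.D.group K := by
    intro c'
    rw [R.nU_eq]
    exact Subgroup.mul_mem _ (Subgroup.mul_mem _ (R.xU_mem_group r hr _)
      (R.xU_mem_group _ (R.neg_lt r hr) _)) (R.xU_mem_group r hr _)
  rw [R.hU_eq, R.hU_eq, A.sg_mul (hn1 _) (hn1 _), A.sg_nU r hr c hc,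
    A.sg_nU r hr (-1) (neg_ne_zero.mpr one_ne_zero), A.e_odd r hr]

theorem AbsTw.sg_mem_diagonal {g : GL C.D.Idx K} (hg : g ∈ C.D.diagonalSubgroup K) :
    A.sg g ∈ C.D.diagonalSubgroup K := by
  refine A.sg_mem_of_closure _ ?_ _ ?_ hg
  · rintro x ⟨r, t, hr, ht, hx⟩
    have e : x = R.hU r t := Units.ext (by rw [hx, R.hU_val])
    rw [e]
    exact R.diagonalSubgroup_le_group (R.hU_mem r hr t ht)
  · rintro x ⟨r, t, hr, ht, hx⟩
    have e : x = R.hU r t := Units.ext (by rw [hx, R.hU_val])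
    rw [e, A.sg_hU r hr t ht]
    exact R.hU_mem _ (A.rho_lt r hr) _ (pow_ne_zero _ ht)

theorem AbsTw.sg_mem_monomial {g : GL C.D.Idx K} (hg : g ∈ C.D.monomialSubgroup K) :
    A.sg g ∈ C.D.monomialSubgroup K := by
  have hHG : C.D.diagonalSubgroup K ≤ C.D.group K := R.diagonalSubgroup_le_group
  have hNG : C.D.monomialSubgroup K ≤ C.D.group K := R.monomialSubgroup_le_group
  -- `N` is generated by the union of the two generating sets
  have hN : C.D.monomialSubgroup K = Subgroup.closure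
      ({g : GL C.D.Idx K | ∃ (r : ℕ) (t : K), r < C.D.nroots ∧ t ≠ 0 ∧
          (g : Matrix C.D.Idx C.D.Idx K) = C.D.hMat K r t} ∪
        {g : GL C.D.Idx K | ∃ r : ℕ, r < C.D.nroots ∧
          (g : Matrix C.D.Idx C.D.Idx K) = C.D.nMat K r 1}) := by
    unfold ChevalleyDatum.monomialSubgroup ChevalleyDatum.diagonalSubgroup
    rw [Subgroup.closure_union]
  rw [hN] at hg
  refine A.sg_mem_of_closure _ ?_ _ ?_ hg
  · rintro x (⟨r, t, hr, ht, hx⟩ | ⟨r, hr, hx⟩)
    · have e : x = R.hU r t := Units.ext (by rw [hx, R.hU_val])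
      rw [e]
      exact hHG (R.hU_mem r hr t ht)
    · apply hNG
      exact Subgroup.mem_sup_right (Subgroup.subset_closure ⟨r, hr, hx⟩)
  · rintro x (⟨r, t, hr, ht, hx⟩ | ⟨r, hr, hx⟩)
    · have e : x = R.hU r t := Units.ext (by rw [hx, R.hU_val])
      rw [e, A.sg_hU r hr t ht]
      exact Subgroup.mem_sup_left (R.hU_mem _ (A.rho_lt r hr) _ (pow_ne_zero _ ht))
    · have e : x = R.nU r 1 := Units.ext (by rw [hx, R.nU_val])
      rw [e, A.sg_nU r hr 1 one_ne_zero, one_pow]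
      exact Subgroup.mem_sup_right (Subgroup.subset_closure ⟨_, A.rho_lt r hr, R.nU_val _ _⟩)

theorem AbsTw.sg_mem_borel {g : GL C.D.Idx K} (hg : g ∈ C.D.borelSubgroup K) :
    A.sg g ∈ C.D.borelSubgroup K := by
  have hUG : C.D.posUnipotent K ≤ C.D.group K := R.posUnipotent_le_group
  have hHG : C.D.diagonalSubgroup K ≤ C.D.group K := R.diagonalSubgroup_le_group
  have hB : C.D.borelSubgroup K = Subgroup.closure
      ((C.D.posUnipotent K : Set (GL C.D.Idx K)) ∪ (C.D.diagonalSubgroup K : Set (GL C.D.Idx K))) := by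
    unfold ChevalleyDatum.borelSubgroup
    rw [Subgroup.closure_union, Subgroup.closure_eq, Subgroup.closure_eq]
  rw [hB] at hg
  refine A.sg_mem_of_closure _ ?_ _ ?_ hg
  · rintro x (hx | hx)
    · exact hUG hx
    · exact hHG hx
  · rintro x (hx | hx)
    · exact Subgroup.mem_sup_left (A.sg_mem_posUnipotent hx)
    · exact Subgroup.mem_sup_right (A.sg_mem_diagonal hx)

end

end Cfsg.Agent.Lib.Helper3.ChevAt
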