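import Mathlib
import Cfsg.Prelude.Def_ChevStructure
import Cfsg.Agent.Lib.Helper3.ChevAt1
import Cfsg.Agent.Lib.Helper3.ChevU4
import Cfsg.Agent.Lib.Helper3.ChevN1
import Cfsg.Agent.Lib.Helper3.ChevO1
set_option autoImplicit false
set_option linter.unusedSectionVars false
set_option linter.style.haveILetI false
open Cfsg Cfsg.Lie

/-!
Abstract twisting automorphisms of Chevalley groups, part 2: the canonical form of the fixed
elements when the only elements of the Weyl group commuting with the symmetry are the identity and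
one further element (twisted rank one).
-/

namespace Cfsg.Agent.Lib.Helper3.ChevAt

open Cfsg.Agent.Lib.Helper3.ChevM Cfsg.Agent.Lib.Helper3.ChevSp ChevU

section
variable {K : Type*} [Field K] {C : CDatum} {R : RelData C} (A : AbsTw C R K)

/-- The twisting automorphism carries `U_n⁻` into `U_{σ n}⁻`. -/
theorem AbsTw.sg_mem_uMinus (n u : GL C.D.Idx K) (hn : n ∈ C.D.group K) (hu : u ∈ uMinus C.D K n) :
    A.sg u ∈ uMinus C.D K (A.sg n) := by
  refine A.sg_mem_of_closure _ ?_ _ ?_ hu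
  · rintro x ⟨r, t, hr, -, hx⟩
    have e : x = R.xU r t := Units.ext (by rw [hx, R.xU_val])
    rw [e]
    exact R.xU_mem_group r hr.1 t
  · rintro x ⟨r, t, hr, hle, hx⟩
    have e : x = R.xU r t := Units.ext (by rw [hx, R.xU_val])
    rw [e, A.sg_xU r hr.1]
    refine Subgroup.subset_closure ⟨_, _, A.rho_pos r hr, ?_, R.xU_val _ _⟩
    rw [Subgroup.map_le_iff_le_comap]
    unfold ChevalleyDatum.rootSubgroup
    rw [Subgroup.closure_le]
    rintro y ⟨a, hy⟩
    have ey : y = R.xU (A.rho r) a := Units.ext (by rw [hy, R.xU_val])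
    obtain ⟨a', ha'⟩ := A.e_surj r hr.1 a
    have e2 : y = A.sg (R.xU r a') := by rw [A.sg_xU r hr.1, ha', ey]
    show (MulAut.conj (A.sg n)).toMonoidHom y ∈ C.D.negUnipotent K
    have hxG := R.xU_mem_group (F := K) r hr.1 a'
    have e3 : (MulAut.conj (A.sg n)).toMonoidHom y = A.sg (n * R.xU r a' * n⁻¹) := by
      rw [A.sg_mul (Subgroup.mul_mem _ hn hxG) (Subgroup.inv_mem _ hn), A.sg_mul hn hxG, A.sg_inv hn, e2]
      rfl
    rw [e3]
    apply A.sg_mem_negUnipotent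
    have : R.xU r a' ∈ C.D.rootSubgroup K r := Subgroup.subset_closure ⟨a', R.xU_val _ _⟩
    have := hle (Subgroup.mem_map_of_mem _ this)
    simpa using this

/-- The action of the twisting automorphism on the products of the `n_{p_i}`. -/
theorem AbsTw.sg_nWordU (p : ℕ → ℕ)
    (hp : ∀ i < C.D.rank, p i < C.D.rank ∧ A.rho (C.D.simple i) = C.D.simple (p i))
    (l : List ℕ) (hl : ∀ i ∈ l, i < C.D.rank) :
    A.sg (R.nWordU (F := K) l) = R.nWordU (l.map p) := by
  have hNG : C.D.monomialSubgroup K ≤ C.D.group K := R.monomialSubgroup_le_group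
  induction l with
  | nil => simp [RelData.nWordU_nil, A.sg_one]
  | cons i l ih =>
    have hi := hl i List.mem_cons_self
    have hl' : ∀ j ∈ l, j < C.D.rank := fun j hj => hl j (List.mem_cons_of_mem _ hj)
    rw [R.nWordU_cons, A.sg_mul (hNG (R.nU_simple_mem i hi)) (hNG (R.nWordU_mem l hl')), List.map_cons,
      R.nWordU_cons, ih hl', A.sg_nU _ (R.simple_lt i hi) 1 one_ne_zero, (hp i hi).2, one_pow]

end

/-- The table checks used for the canonical form. -/
structure AtHyp (C : CDatum) (R : RelData C) where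
  U : UHyp C R
  B : BNHyp C R
  ntri : ∀ r < C.D.nroots, negTri C r = true
  sign : ∀ r < C.D.nroots, signCheck C.D r = true

section
variable {K : Type*} [Field K] {C : CDatum} {R : RelData C} (A : AbsTw C R K) (H : AtHyp C R)

include H in
/-- The canonical form of an element of the Chevalley group fixed by a twisting automorphism of
twisted rank one. -/
theorem AbsTw.fix_normal_form (p : ℕ → ℕ)
    (hp : ∀ i < C.D.rank, p i < C.D.rank ∧ A.rho (C.D.simple i) = C.D.simple (p i))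
    (w0 : List ℕ) (hw0 : ∀ i ∈ w0, i < C.D.rank)
    (hW : ∀ l : List ℕ, (∀ i ∈ l, i < C.D.rank) →
      (∀ s < C.D.nroots, reflW R.refl (l.map p) s = reflW R.refl l s) →
      (∀ s < C.D.nroots, reflW R.refl l s = s) ∨
        (∀ s < C.D.nroots, reflW R.refl l s = reflW R.refl w0 s))
    (g : GL C.D.Idx K) (hg : g ∈ C.D.group K) (hfix : A.sg g = g) :
    (∃ u₁ ∈ C.D.posUnipotent K, A.sg u₁ = u₁ ∧ ∃ h ∈ C.D.diagonalSubgroup K, A.sg h = h ∧
        g = u₁ * h) ∨
    (∃ u₁ ∈ C.D.posUnipotent K, A.sg u₁ = u₁ ∧ ∃ h ∈ C.D.diagonalSubgroup K,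
      A.sg (h * R.nWordU w0) = h * R.nWordU w0 ∧ ∃ u ∈ C.D.posUnipotent K, A.sg u = u ∧
        g = u₁ * (h * R.nWordU w0) * u) := by
  classical
  have M := H.B.mono
  have hBG : C.D.borelSubgroup K ≤ C.D.group K := (R.borel_sup_monomial H.B.root H.B.nc).1
  have hNG : C.D.monomialSubgroup K ≤ C.D.group K := R.monomialSubgroup_le_group
  have hUG : C.D.posUnipotent K ≤ C.D.group K := R.posUnipotent_le_group
  have hHG : C.D.diagonalSubgroup K ≤ C.D.group K := R.diagonalSubgroup_le_group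
  have hHB : C.D.diagonalSubgroup K ≤ C.D.borelSubgroup K := le_sup_right
  have hHN : C.D.diagonalSubgroup K ≤ C.D.monomialSubgroup K := le_sup_left
  obtain ⟨bru1, bru2⟩ := H.U.bruhat_normal_form (F := K) H.B H.ntri (fun r hr => signCheck_or (H.sign r hr))
  obtain ⟨b, hb, n, hn, u, hu, rfl⟩ := bru1 g hg
  obtain ⟨h₀, hh₀, l, hl, rfl⟩ := M.monomial_decomp n hn
  have huU : u ∈ C.D.posUnipotent K := uMinus_le_posUnipotent C.D _ hu
  have hwN : R.nWordU (F := K) l ∈ C.D.monomialSubgroup K := R.nWordU_mem l hl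
  -- apply the automorphism
  have hσb := A.sg_mem_borel hb
  have hσn := A.sg_mem_monomial hn
  have hσu := A.sg_mem_uMinus _ u (hNG hn) hu
  have hfix' : b * (h₀ * R.nWordU l) * u = A.sg b * A.sg (h₀ * R.nWordU l) * A.sg u := by
    rw [← A.sg_mul (hBG hb) (hNG hn), ← A.sg_mul (Subgroup.mul_mem _ (hBG hb) (hNG hn)) (hUG huU), hfix]
  obtain ⟨hnH, -⟩ := bru2 _ _ _ _ _ _ hb hσb hn hσn hu hσu hfix'
  -- the word commutes with the symmetry
  have hσw : A.sg (R.nWordU (F := K) l) = R.nWordU (l.map p) := A.sg_nWordU p hp l hl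
  have hlp : ∀ i ∈ l.map p, i < C.D.rank := by
    intro i hi
    obtain ⟨a, ha, rfl⟩ := List.mem_map.mp hi
    exact (hp a (hl a ha)).1
  have hinv : ∀ s < C.D.nroots, reflW R.refl (l.map p) s = reflW R.refl l s := by
    have hσh₀ := A.sg_mem_diagonal hh₀
    refine R.reflW_eq_of_coset (F := K) H.B.dec _ _ hlp hl
      ((A.sg h₀)⁻¹ * h₀ * ((R.nWordU l) * ((h₀ * R.nWordU l)⁻¹ * A.sg (h₀ * R.nWordU l)) * (R.nWordU l)⁻¹))
      ?_ ?_
    · refine Subgroup.mul_mem _ (Subgroup.mul_mem _ (Subgroup.inv_mem _ hσh₀) hh₀) ?_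
      exact M.conj_mem _ hwN _ hnH
    · rw [A.sg_mul (hHG hh₀) (hNG hwN), hσw]; group
  obtain ⟨hHU, hdisj⟩ := R.diagonal_normalizes (F := K) H.B.dec M.tri
  have hset := Subgroup.coe_mul_of_right_le_normalizer_left (C.D.posUnipotent K) (C.D.diagonalSubgroup K) hHU
  rcases hW l hl hinv with hid | hw
  · -- the trivial element of the Weyl group
    left
    obtain ⟨h₁, hh₁, e₁⟩ := M.coset_of_reflW_eq (F := K) H.B.dec l [] hl (by simp) (by
      intro s hs
      rw [hid s hs]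
      rfl)
    rw [R.nWordU_nil, mul_one] at e₁
    -- `u` lies in `U_n⁻` for `n ∈ H`, so it is in `U ∩ V`-conjugate; use uniqueness instead
    have hnH' : h₀ * R.nWordU l ∈ C.D.diagonalSubgroup K := by
      rw [e₁]; exact Subgroup.mul_mem _ hh₀ hh₁
    -- the element is in `B`
    have hgB : b * (h₀ * R.nWordU l) * u ∈ C.D.borelSubgroup K :=
      Subgroup.mul_mem _ (Subgroup.mul_mem _ hb (hHB hnH')) (Subgroup.mem_sup_left huU)
    have hb'' : b * (h₀ * R.nWordU l) * u ∈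
        ((C.D.posUnipotent K ⊔ C.D.diagonalSubgroup K : Subgroup _) : Set _) := hgB
    rw [hset] at hb''
    obtain ⟨u₁, hu₁, h₂, hh₂, e₂⟩ := Set.mem_mul.mp hb''
    have hσu₁ := A.sg_mem_posUnipotent hu₁
    have hσh₂ := A.sg_mem_diagonal hh₂
    have hsplit : u₁⁻¹ * A.sg u₁ = h₂ * (A.sg h₂)⁻¹ := by
      have : u₁ * h₂ = A.sg u₁ * A.sg h₂ := by
        rw [← A.sg_mul (hUG hu₁) (hHG hh₂), e₂, hfix]
      rw [eq_mul_inv_iff_mul_eq, mul_assoc, ← this]; group
    have hmem : u₁⁻¹ * A.sg u₁ ∈ C.D.posUnipotent K ⊓ C.D.diagonalSubgroup K := by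
      refine Subgroup.mem_inf.mpr ⟨Subgroup.mul_mem _ (Subgroup.inv_mem _ hu₁) hσu₁, ?_⟩
      rw [hsplit]
      exact Subgroup.mul_mem _ hh₂ (Subgroup.inv_mem _ hσh₂)
    rw [hdisj, Subgroup.mem_bot] at hmem
    have hu₁fix : A.sg u₁ = u₁ := by
      have := congrArg (fun x => u₁ * x) hmem
      simpa using this
    have hh₂fix : A.sg h₂ = h₂ := by
      rw [hmem] at hsplit
      have := eq_mul_inv_iff_mul_eq.mp hsplit
      rw [one_mul] at this
      exact this
    exact ⟨u₁, hu₁, hu₁fix, h₂, hh₂, hh₂fix, e₂.symm⟩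
  · -- the other element of the Weyl group
    right
    obtain ⟨h₁, hh₁, e₁⟩ := M.coset_of_reflW_eq (F := K) H.B.dec l w0 hl hw0 hw
    set n₀ := R.nWordU (F := K) w0 with hn₀
    have hn₀N : n₀ ∈ C.D.monomialSubgroup K := R.nWordU_mem w0 hw0
    -- split `b`
    have hb'' : b ∈ ((C.D.posUnipotent K ⊔ C.D.diagonalSubgroup K : Subgroup _) : Set _) := hb
    rw [hset] at hb''
    obtain ⟨u₁, hu₁, h₂, hh₂, e₂⟩ := Set.mem_mul.mp hb''
    set h' := h₂ * h₀ * h₁ with hh'
    have hh'H : h' ∈ C.D.diagonalSubgroup K := Subgroup.mul_mem _ (Subgroup.mul_mem _ hh₂ hh₀) hh₁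
    have hg2 : b * (h₀ * R.nWordU l) * u = u₁ * (h' * n₀) * u := by
      rw [e₁, ← e₂, hh']; group
    rw [hg2] at hfix ⊢
    have hn'N : h' * n₀ ∈ C.D.monomialSubgroup K := Subgroup.mul_mem _ (hHN hh'H) hn₀N
    -- `u` lies in `U_{n'}⁻`
    have hUm : (uMinus C.D K (h₀ * R.nWordU l) : Set (GL C.D.Idx K)) = uMinus C.D K (h' * n₀) := by
      rw [H.U.uMinus_eq (F := K) H.B H.ntri H.sign h₀ hh₀ l hl,
        H.U.uMinus_eq (F := K) H.B H.ntri H.sign h' hh'H w0 hw0]
      congr 1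
      unfold negSet
      apply List.filter_congr
      intro r hr
      rw [hw r ((mem_posRoots C.D r).mp hr).1]
    have hu' : u ∈ uMinus C.D K (h' * n₀) := by
      have : u ∈ (uMinus C.D K (h' * n₀) : Set (GL C.D.Idx K)) := by rw [← hUm]; exact hu
      exact this
    -- the image of the representative
    have hσn' := A.sg_mem_monomial hn'N
    have hσu₁ := A.sg_mem_posUnipotent hu₁
    have hσu' := A.sg_mem_uMinus _ u (hNG hn'N) hu'
    have hfix2 : u₁ * (h' * n₀) * u = A.sg u₁ * A.sg (h' * n₀) * A.sg u := by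
      rw [← A.sg_mul (hUG hu₁) (hNG hn'N), ← A.sg_mul (Subgroup.mul_mem _ (hUG hu₁) (hNG hn'N)) (hUG huU),
        hfix]
    obtain ⟨hquot, -⟩ := bru2 _ _ _ _ _ _ (Subgroup.mem_sup_left hu₁) (Subgroup.mem_sup_left hσu₁)
      hn'N hσn' hu' hσu' hfix2
    -- write `σ n' = n' t` with `t ∈ H`, and move `t` to the left
    set t := (h' * n₀)⁻¹ * A.sg (h' * n₀) with ht
    have hσn'eq : A.sg (h' * n₀) = ((h' * n₀) * t * (h' * n₀)⁻¹) * (h' * n₀) := by
      rw [ht]; group
    have htc : (h' * n₀) * t * (h' * n₀)⁻¹ ∈ C.D.diagonalSubgroup K := M.conj_mem _ hn'N _ hquot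
    have hfix3 : u₁ * (h' * n₀) * u =
        (A.sg u₁ * ((h' * n₀) * t * (h' * n₀)⁻¹)) * (h' * n₀) * A.sg u := by
      conv_lhs => rw [hfix2, hσn'eq]
      group
    have hσu'' : A.sg u ∈ uMinus C.D K (h' * n₀) := by
      have e0 : A.sg (h' * n₀) = ((h' * n₀) * t * (h' * n₀)⁻¹ * h') * n₀ := by
        rw [ht]; group
      have e : (uMinus C.D K (A.sg (h' * n₀)) : Set (GL C.D.Idx K)) = uMinus C.D K (h' * n₀) := by
        rw [e0, hn₀, H.U.uMinus_eq (F := K) H.B H.ntri H.sign ((h' * R.nWordU w0) * t * (h' * R.nWordU w0)⁻¹ * h')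
          (Subgroup.mul_mem _ (by rw [← hn₀]; exact htc) hh'H) w0 hw0,
          H.U.uMinus_eq (F := K) H.B H.ntri H.sign h' hh'H w0 hw0]
      have : A.sg u ∈ (uMinus C.D K (A.sg (h' * n₀)) : Set (GL C.D.Idx K)) := hσu'
      rw [e] at this
      exact this
    obtain ⟨-, huniq⟩ := bru2 _ _ _ _ _ _ (Subgroup.mem_sup_left hu₁)
      (Subgroup.mul_mem _ (Subgroup.mem_sup_left hσu₁) (hHB htc)) hn'N hn'N hu' hσu'' hfix3
    obtain ⟨hbfix, hufix⟩ := huniq rfl
    -- `u₁ = σ u₁ * t'` with `t' ∈ H`, hence `t' = 1`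
    have hmem : (A.sg u₁)⁻¹ * u₁ ∈ C.D.posUnipotent K ⊓ C.D.diagonalSubgroup K := by
      refine Subgroup.mem_inf.mpr ⟨Subgroup.mul_mem _ (Subgroup.inv_mem _ hσu₁) hu₁, ?_⟩
      have : (A.sg u₁)⁻¹ * u₁ = (h' * n₀) * t * (h' * n₀)⁻¹ :=
        inv_mul_eq_iff_eq_mul.mpr hbfix
      rw [this]; exact htc
    rw [hdisj, Subgroup.mem_bot] at hmem
    have hu₁fix : A.sg u₁ = u₁ := by
      have := congrArg (fun x => A.sg u₁ * x) hmem
      simpa using this.symm
    have htc1 : (h' * n₀) * t * (h' * n₀)⁻¹ = 1 := by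
      have := hbfix
      rw [hu₁fix] at this
      have h2 := congrArg (fun x => u₁⁻¹ * x) this
      simpa using h2.symm
    have hn'fix : A.sg (h' * n₀) = h' * n₀ := by
      rw [hσn'eq, htc1, one_mul]
    exact ⟨u₁, hu₁, hu₁fix, h', hh'H, hn'fix, u, huU, hufix.symm, rfl⟩

end

end Cfsg.Agent.Lib.Helper3.ChevAt
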