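import Mathlib
import Cfsg.Prelude.Def_ChevStructure
import Cfsg.Agent.Lib.Helper3.ChevAt2
set_option autoImplicit false
set_option linter.unusedSectionVars false
set_option linter.style.haveILetI false
open Cfsg Cfsg.Lie

/-!
Abstract twisting automorphisms of Chevalley groups, part 3: the canonical form of the fixed
elements in general.
-/

namespace Cfsg.Agent.Lib.Helper3.ChevAt

open Cfsg.Agent.Lib.Helper3.ChevM Cfsg.Agent.Lib.Helper3.ChevSp ChevU

section
variable {K : Type*} [Field K] {C : CDatum} {R : RelData C}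

/-- The diagonal subgroup normalizes the subgroup generated by the negative root elements. -/
theorem diagonal_le_normalizer_neg (H : AtHyp C R) :
    C.D.diagonalSubgroup K ≤ Subgroup.normalizer (C.D.negUnipotent K : Set (GL C.D.Idx K)) :=
  R.diagonal_le_normalizer_closure (F := K) H.B.dec (fun s => C.D.IsNegRoot s) (fun _ hs => hs.1)

/-- The subgroup `U_n⁻` depends only on the coset of `n` under the diagonal subgroup. -/
theorem uMinus_diag_mul (H : AtHyp C R) (h n : GL C.D.Idx K) (hh : h ∈ C.D.diagonalSubgroup K) :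
    uMinus C.D K (h * n) = uMinus C.D K n := by
  have hnorm := diagonal_le_normalizer_neg (K := K) H hh
  rw [Subgroup.mem_normalizer_iff] at hnorm
  unfold uMinus
  congr 1
  ext x
  constructor
  · rintro ⟨r, t, hr, hle, hx⟩
    refine ⟨r, t, hr, ?_, hx⟩
    rintro _ ⟨y, hy, rfl⟩
    have h1 : (MulAut.conj (h * n)).toMonoidHom y ∈ C.D.negUnipotent K := hle ⟨y, hy, rfl⟩
    have h2 : (MulAut.conj (h * n)).toMonoidHom y = h * ((MulAut.conj n).toMonoidHom y) * h⁻¹ := by
      show h * n * y * (h * n)⁻¹ = h * (n * y * n⁻¹) * h⁻¹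
      group
    rw [h2] at h1
    exact (hnorm _).mpr h1
  · rintro ⟨r, t, hr, hle, hx⟩
    refine ⟨r, t, hr, ?_, hx⟩
    rintro _ ⟨y, hy, rfl⟩
    have h1 : (MulAut.conj n).toMonoidHom y ∈ C.D.negUnipotent K := hle ⟨y, hy, rfl⟩
    have h2 : (MulAut.conj (h * n)).toMonoidHom y = h * ((MulAut.conj n).toMonoidHom y) * h⁻¹ := by
      show h * n * y * (h * n)⁻¹ = h * (n * y * n⁻¹) * h⁻¹
      group
    rw [h2]
    exact (hnorm _).mp h1

end

section
variable {K : Type*} [Field K] {C : CDatum} {R : RelData C} (A : AbsTw C R K) (H : AtHyp C R)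

include H in
/-- The canonical form of an element of the Chevalley group fixed by a twisting automorphism. -/
theorem AbsTw.fix_normal_form_gen (g : GL C.D.Idx K) (hg : g ∈ C.D.group K) (hfix : A.sg g = g) :
    ∃ u₁ ∈ C.D.posUnipotent K, A.sg u₁ = u₁ ∧ ∃ n ∈ C.D.monomialSubgroup K, A.sg n = n ∧
      ∃ u ∈ uMinus C.D K n, A.sg u = u ∧ g = u₁ * n * u := by
  classical
  have M := H.B.mono
  have hBG : C.D.borelSubgroup K ≤ C.D.group K := (R.borel_sup_monomial H.B.root H.B.nc).1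
  have hNG : C.D.monomialSubgroup K ≤ C.D.group K := R.monomialSubgroup_le_group
  have hUG : C.D.posUnipotent K ≤ C.D.group K := R.posUnipotent_le_group
  have hHG : C.D.diagonalSubgroup K ≤ C.D.group K := R.diagonalSubgroup_le_group
  have hHB : C.D.diagonalSubgroup K ≤ C.D.borelSubgroup K := le_sup_right
  have hHN : C.D.diagonalSubgroup K ≤ C.D.monomialSubgroup K := le_sup_left
  obtain ⟨bru1, bru2⟩ := H.U.bruhat_normal_form (F := K) H.B H.ntri (fun r hr => signCheck_or (H.sign r hr))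
  obtain ⟨b, hb, n, hn, u, hu, rfl⟩ := bru1 g hg
  have huU : u ∈ C.D.posUnipotent K := uMinus_le_posUnipotent C.D _ hu
  obtain ⟨hHU, hdisj⟩ := R.diagonal_normalizes (F := K) H.B.dec M.tri
  have hset := Subgroup.coe_mul_of_right_le_normalizer_left (C.D.posUnipotent K) (C.D.diagonalSubgroup K) hHU
  -- split `b`
  have hb'' : b ∈ ((C.D.posUnipotent K ⊔ C.D.diagonalSubgroup K : Subgroup _) : Set _) := hb
  rw [hset] at hb''
  obtain ⟨u₁, hu₁, h₂, hh₂, e₂⟩ := Set.mem_mul.mp hb''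
  set n' := h₂ * n with hn'
  have hn'N : n' ∈ C.D.monomialSubgroup K := Subgroup.mul_mem _ (hHN hh₂) hn
  have hg2 : b * n * u = u₁ * n' * u := by
    rw [← e₂, hn']; group
  rw [hg2] at hfix ⊢
  have hu' : u ∈ uMinus C.D K n' := by
    rw [hn', uMinus_diag_mul H h₂ n hh₂]; exact hu
  -- the image of the representative
  have hσn' := A.sg_mem_monomial hn'N
  have hσu₁ := A.sg_mem_posUnipotent hu₁
  have hσu' := A.sg_mem_uMinus _ u (hNG hn'N) hu'
  have hfix2 : u₁ * n' * u = A.sg u₁ * A.sg n' * A.sg u := by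
    rw [← A.sg_mul (hUG hu₁) (hNG hn'N), ← A.sg_mul (Subgroup.mul_mem _ (hUG hu₁) (hNG hn'N)) (hUG huU),
      hfix]
  obtain ⟨hquot, -⟩ := bru2 _ _ _ _ _ _ (Subgroup.mem_sup_left hu₁) (Subgroup.mem_sup_left hσu₁)
    hn'N hσn' hu' hσu' hfix2
  -- write `σ n' = n' t` with `t ∈ H`, and move `t` to the left
  set t := n'⁻¹ * A.sg n' with ht
  have hσn'eq : A.sg n' = (n' * t * n'⁻¹) * n' := by
    rw [ht]; group
  have htc : n' * t * n'⁻¹ ∈ C.D.diagonalSubgroup K := M.conj_mem _ hn'N _ hquot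
  have hfix3 : u₁ * n' * u = (A.sg u₁ * (n' * t * n'⁻¹)) * n' * A.sg u := by
    conv_lhs => rw [hfix2, hσn'eq]
    group
  have hσu'' : A.sg u ∈ uMinus C.D K n' := by
    have : A.sg u ∈ uMinus C.D K (A.sg n') := hσu'
    rw [hσn'eq, uMinus_diag_mul H _ n' htc] at this
    exact this
  obtain ⟨-, huniq⟩ := bru2 _ _ _ _ _ _ (Subgroup.mem_sup_left hu₁)
    (Subgroup.mul_mem _ (Subgroup.mem_sup_left hσu₁) (hHB htc)) hn'N hn'N hu' hσu'' hfix3
  obtain ⟨hbfix, hufix⟩ := huniq rfl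
  -- `u₁ = σ u₁ * t'` with `t' ∈ H`, hence `t' = 1`
  have hmem : (A.sg u₁)⁻¹ * u₁ ∈ C.D.posUnipotent K ⊓ C.D.diagonalSubgroup K := by
    refine Subgroup.mem_inf.mpr ⟨Subgroup.mul_mem _ (Subgroup.inv_mem _ hσu₁) hu₁, ?_⟩
    have : (A.sg u₁)⁻¹ * u₁ = n' * t * n'⁻¹ :=
      inv_mul_eq_iff_eq_mul.mpr hbfix
    rw [this]; exact htc
  rw [hdisj, Subgroup.mem_bot] at hmem
  have hu₁fix : A.sg u₁ = u₁ := by
    have := congrArg (fun x => A.sg u₁ * x) hmem
    simpa using this.symm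
  have htc1 : n' * t * n'⁻¹ = 1 := by
    have := hbfix
    rw [hu₁fix] at this
    have h2 := congrArg (fun x => u₁⁻¹ * x) this
    simpa using h2.symm
  have hn'fix : A.sg n' = n' := by
    rw [hσn'eq, htc1, one_mul]
  exact ⟨u₁, hu₁, hu₁fix, n', hn'N, hn'fix, u, hu', hufix.symm, rfl⟩

end

end Cfsg.Agent.Lib.Helper3.ChevAt
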