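import Mathlib
import Cfsg.Prelude.Def_ChevStructure
import Cfsg.Agent.Lib.Helper3.ChevAt3
import Cfsg.Agent.Lib.Helper3.ChevO2
set_option autoImplicit false
set_option linter.unusedSectionVars false
set_option linter.style.haveILetI false
open Cfsg Cfsg.Lie

/-!
The subgroups `U_w⁻` of a Chevalley group: the characterisation `U_w⁻ = U ∩ n_w⁻¹ V n_w` and the
factorisation of `U_{w'w_J}⁻` when the lengths add.
-/

namespace Cfsg.Agent.Lib.Helper3.ChevAt

open Cfsg.Agent.Lib.Helper3.ChevM Cfsg.Agent.Lib.Helper3.ChevSp Cfsg.Agent.Lib.Helper3 ChevU ChevT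

section
variable {K : Type*} [Field K] {C : CDatum} {R : RelData C} (H : AtHyp C R)
include H

/-- the positive unipotent and the negative unipotent subgroups meet trivially -/
theorem pos_inf_neg : C.D.posUnipotent K ⊓ C.D.negUnipotent K = ⊥ := by
  rw [eq_bot_iff]
  rintro g ⟨h1, h2⟩
  have := (R.borel_inf_neg (F := K) H.B.dec H.B.mono.tri H.ntri).1
  rw [← this]
  exact ⟨Subgroup.mem_sup_left h1, h2⟩

/-- the root elements of `U_w⁻` -/
theorem xU_mem_uMinus (w : List ℕ) (hw : ∀ i ∈ w, i < C.D.rank) (r : ℕ) (hr : C.D.IsPosRoot r)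
    (hneg : C.D.IsNegRoot (reflW R.refl w r)) (c : K) : R.xU r c ∈ uMinus C.D K (R.nWordU w) := by
  have hrel := R.conjRel_word (F := K) w hw
  apply Subgroup.subset_closure
  refine ⟨r, c, hr, ?_, R.xU_val _ _⟩
  unfold ChevalleyDatum.rootSubgroup
  rw [MonoidHom.map_closure, Subgroup.closure_le]
  rintro _ ⟨y, ⟨c', hy⟩, rfl⟩
  have hy' : y = R.xU r c' := Units.ext hy
  subst hy'
  show R.nWordU w * R.xU r c' * (R.nWordU w)⁻¹ ∈ _
  rw [R.conj_units hrel (R.nWordU w) (R.nWordU_val w) r hr.1 c']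
  exact Subgroup.subset_closure ⟨_, _, hneg, R.xU_val _ _⟩

/-- `U_w⁻ = U ∩ n_w⁻¹ V n_w` -/
theorem mem_uMinus_iff (w : List ℕ) (hw : ∀ i ∈ w, i < C.D.rank) (g : GL C.D.Idx K) :
    g ∈ uMinus C.D K (R.nWordU w) ↔
      g ∈ C.D.posUnipotent K ∧ R.nWordU w * g * (R.nWordU w)⁻¹ ∈ C.D.negUnipotent K := by
  classical
  constructor
  · intro hg
    exact ⟨uMinus_le_posUnipotent C.D _ hg, conj_uMinus_le C.D _ g hg⟩
  · rintro ⟨hgU, hgV⟩
    set n := R.nWordU (F := K) w with hn
    have hrel := R.conjRel_word (F := K) w hw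
    set Ψ' := C.D.posRoots.filter (fun r => ¬ C.D.IsNegRoot (reflW R.refl w r)) with hΨ'
    set Ψ := negSet C.D R.refl w with hΨ
    have hnd : (Ψ' ++ Ψ).Nodup := by
      rw [List.nodup_append]
      refine ⟨(nodup_posRoots C.D).filter _, (nodup_posRoots C.D).filter _, ?_⟩
      intro a ha b hb hab
      subst hab
      rw [hΨ, mem_negSet] at hb
      simp only [hΨ', List.mem_filter, decide_eq_true_eq] at ha
      exact ha.2 hb.2
    have hmemM : ∀ r, r ∈ Ψ' ++ Ψ ↔ C.D.IsPosRoot r := by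
      intro r
      rw [List.mem_append, hΨ, mem_negSet]
      simp only [hΨ', List.mem_filter, decide_eq_true_eq, mem_posRoots]
      constructor
      · rintro (h | h) <;> exact h.1
      · intro h
        by_cases h' : C.D.IsNegRoot (reflW R.refl w r)
        · exact Or.inr ⟨h, h'⟩
        · exact Or.inl ⟨h, h'⟩
    obtain ⟨t, -, ht⟩ := H.U.K.exists_word (F := K) H.U.col H.U.inj (Ψ' ++ Ψ) hnd hmemM g hgU
    rw [RootSys.lprod_append] at ht
    set up := RootSys.lprod (fun r (t : K) => R.xU r t) Ψ' t with hup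
    set um := RootSys.lprod (fun r (t : K) => R.xU r t) Ψ t with hum
    have hum_mem : um ∈ uMinus C.D K n := by
      rw [hum]
      unfold RootSys.lprod
      apply Subgroup.list_prod_mem
      intro x hx
      obtain ⟨r, hr, rfl⟩ := List.mem_map.mp hx
      rw [hΨ, mem_negSet] at hr
      exact xU_mem_uMinus H w hw r hr.1 hr.2 (t r)
    have hup_mem : n * up * n⁻¹ ∈ C.D.posUnipotent K := by
      rw [hup]
      unfold RootSys.lprod
      have : ∀ L : List (GL C.D.Idx K), (∀ y ∈ L, n * y * n⁻¹ ∈ C.D.posUnipotent K) →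
          n * L.prod * n⁻¹ ∈ C.D.posUnipotent K := by
        intro L
        induction L with
        | nil => intro _; simp
        | cons y L ih =>
          intro h
          have e : n * (y :: L).prod * n⁻¹ = (n * y * n⁻¹) * (n * L.prod * n⁻¹) := by
            rw [List.prod_cons]; group
          rw [e]
          exact Subgroup.mul_mem _ (h y List.mem_cons_self) (ih fun z hz => h z (List.mem_cons_of_mem _ hz))
      apply this
      intro y hy
      obtain ⟨r, hr, rfl⟩ := List.mem_map.mp hy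
      simp only [hΨ', List.mem_filter, decide_eq_true_eq, mem_posRoots] at hr
      show n * R.xU r (t r) * n⁻¹ ∈ _
      rw [R.conj_units hrel n (R.nWordU_val w) r hr.1.1 (t r)]
      have hlt := R.reflW_lt w hw r hr.1.1
      have hpos : C.D.IsPosRoot (reflW R.refl w r) := by
        obtain ⟨s1, s2, -⟩ := signCheck_spec (H.sign _ hlt)
        by_contra hnp
        have : C.D.IsPosRoot (C.D.neg (reflW R.refl w r)) := by
          by_contra h3
          exact hnp (s1.mpr h3)
        exact hr.2 (s2.mpr this)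
      exact Subgroup.subset_closure ⟨_, _, hpos, R.xU_val _ _⟩
    have h1 : n * up * n⁻¹ = (n * g * n⁻¹) * (n * um * n⁻¹)⁻¹ := by
      rw [ht]; group
    have h2 : n * up * n⁻¹ ∈ C.D.posUnipotent K ⊓ C.D.negUnipotent K := by
      refine ⟨hup_mem, ?_⟩
      rw [h1]
      exact Subgroup.mul_mem _ hgV (Subgroup.inv_mem _ (conj_uMinus_le C.D n um hum_mem))
    rw [pos_inf_neg H, Subgroup.mem_bot] at h2
    have h3 : up = 1 := by
      have : up = n⁻¹ * (n * up * n⁻¹) * n := by group
      rw [this, h2]; group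
    rw [ht, h3, one_mul]
    exact hum_mem

end

/-- the lengths of `w'` and `J` add: the positive roots made negative by `J` are made negative by `w' J` -/
def addCheck (D : ChevalleyDatum) (refl : ℕ → ℕ → ℕ) (w' J : List ℕ) : Bool :=
  D.posRoots.all fun r => !decide (D.IsNegRoot (reflW refl J r)) || decide (D.IsNegRoot (reflW refl (w' ++ J) r))

/-- the lengths of `w'` and `J` add: the positive roots made negative by `w'` are images under `J` of positive
roots -/
def addCheck2 (D : ChevalleyDatum) (refl : ℕ → ℕ → ℕ) (w' J : List ℕ) : Bool :=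
  D.posRoots.all fun s => !decide (D.IsNegRoot (reflW refl w' s)) ||
    D.posRoots.any fun r => decide (reflW refl J r = s)

section
variable {K : Type*} [Field K] {C : CDatum} {R : RelData C} (H : AtHyp C R)
include H

/-- conjugation by a representative keeps a product of root elements positive when the roots stay
positive -/
theorem conj_lprod_mem_pos (w : List ℕ) (hw : ∀ i ∈ w, i < C.D.rank) (L : List ℕ)
    (hL : ∀ r ∈ L, C.D.IsPosRoot r ∧ ¬ C.D.IsNegRoot (reflW R.refl w r)) (t : ℕ → K) :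
    R.nWordU w * RootSys.lprod (fun r (t : K) => R.xU r t) L t * (R.nWordU w)⁻¹ ∈ C.D.posUnipotent K := by
  set n := R.nWordU (F := K) w with hn
  have hrel := R.conjRel_word (F := K) w hw
  unfold RootSys.lprod
  have : ∀ L : List (GL C.D.Idx K), (∀ y ∈ L, n * y * n⁻¹ ∈ C.D.posUnipotent K) →
      n * L.prod * n⁻¹ ∈ C.D.posUnipotent K := by
    intro L
    induction L with
    | nil => intro _; simp
    | cons y L ih =>
      intro h
      have e : n * (y :: L).prod * n⁻¹ = (n * y * n⁻¹) * (n * L.prod * n⁻¹) := by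
        rw [List.prod_cons]; group
      rw [e]
      exact Subgroup.mul_mem _ (h y List.mem_cons_self) (ih fun z hz => h z (List.mem_cons_of_mem _ hz))
  apply this
  intro y hy
  obtain ⟨r, hr, rfl⟩ := List.mem_map.mp hy
  obtain ⟨hr1, hr2⟩ := hL r hr
  show n * R.xU r (t r) * n⁻¹ ∈ _
  rw [R.conj_units hrel n (R.nWordU_val w) r hr1.1 (t r)]
  have hlt := R.reflW_lt w hw r hr1.1
  have hpos : C.D.IsPosRoot (reflW R.refl w r) := by
    by_contra hnp
    exact hr2 ((neg_iff_not_pos H.sign _ hlt).mpr hnp)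
  exact Subgroup.subset_closure ⟨_, _, hpos, R.xU_val _ _⟩

/-- the factorisation of `U_{w'J}⁻` when the lengths add -/
theorem uMinus_factor (w' J : List ℕ) (hw' : ∀ i ∈ w', i < C.D.rank) (hJ : ∀ i ∈ J, i < C.D.rank)
    (hadd : addCheck C.D R.refl w' J = true) (g : GL C.D.Idx K)
    (hg : g ∈ uMinus C.D K (R.nWordU (w' ++ J))) :
    ∃ x ∈ uMinus C.D K (R.nWordU J), ∃ y ∈ uMinus C.D K (R.nWordU w'),
      g = x * ((R.nWordU J)⁻¹ * y * R.nWordU J) := by
  classical
  have hwJ : ∀ i ∈ w' ++ J, i < C.D.rank := by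
    intro i hi
    rcases List.mem_append.mp hi with h | h
    · exact hw' i h
    · exact hJ i h
  have hgU : g ∈ C.D.posUnipotent K := uMinus_le_posUnipotent C.D _ hg
  have hgV := conj_uMinus_le C.D _ g hg
  set nJ := R.nWordU (F := K) J with hnJ
  set n' := R.nWordU (F := K) w' with hn'
  have hn : R.nWordU (F := K) (w' ++ J) = n' * nJ := R.nWordU_append w' J
  set Ψ' := C.D.posRoots.filter (fun r => ¬ C.D.IsNegRoot (reflW R.refl J r)) with hΨ'
  set Ψ := negSet C.D R.refl J with hΨ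
  have hnd : (Ψ ++ Ψ').Nodup := by
    rw [List.nodup_append]
    refine ⟨(nodup_posRoots C.D).filter _, (nodup_posRoots C.D).filter _, ?_⟩
    intro a ha b hb hab
    subst hab
    rw [hΨ, mem_negSet] at ha
    simp only [hΨ', List.mem_filter, decide_eq_true_eq] at hb
    exact hb.2 ha.2
  have hmemM : ∀ r, r ∈ Ψ ++ Ψ' ↔ C.D.IsPosRoot r := by
    intro r
    rw [List.mem_append, hΨ, mem_negSet]
    simp only [hΨ', List.mem_filter, decide_eq_true_eq, mem_posRoots]
    constructor
    · rintro (h | h) <;> exact h.1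
    · intro h
      by_cases h' : C.D.IsNegRoot (reflW R.refl J r)
      · exact Or.inl ⟨h, h'⟩
      · exact Or.inr ⟨h, h'⟩
  obtain ⟨t, -, ht⟩ := H.U.K.exists_word (F := K) H.U.col H.U.inj (Ψ ++ Ψ') hnd hmemM g hgU
  rw [RootSys.lprod_append] at ht
  set x := RootSys.lprod (fun r (t : K) => R.xU r t) Ψ t with hx
  set y₀ := RootSys.lprod (fun r (t : K) => R.xU r t) Ψ' t with hy₀
  have hadd' : ∀ r, C.D.IsPosRoot r → C.D.IsNegRoot (reflW R.refl J r) →
      C.D.IsNegRoot (reflW R.refl (w' ++ J) r) := by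
    intro r hr hneg
    unfold addCheck at hadd
    rw [List.all_eq_true] at hadd
    have := hadd r ((mem_posRoots C.D r).mpr hr)
    simp only [Bool.or_eq_true, Bool.not_eq_true', decide_eq_false_iff_not, decide_eq_true_eq] at this
    rcases this with h | h
    · exact absurd hneg h
    · exact h
  have hxJ : x ∈ uMinus C.D K nJ := by
    rw [hx]
    unfold RootSys.lprod
    apply Subgroup.list_prod_mem
    intro z hz
    obtain ⟨r, hr, rfl⟩ := List.mem_map.mp hz
    rw [hΨ, mem_negSet] at hr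
    exact xU_mem_uMinus H J hJ r hr.1 hr.2 (t r)
  have hxn : x ∈ uMinus C.D K (R.nWordU (w' ++ J)) := by
    rw [hx]
    unfold RootSys.lprod
    apply Subgroup.list_prod_mem
    intro z hz
    obtain ⟨r, hr, rfl⟩ := List.mem_map.mp hz
    rw [hΨ, mem_negSet] at hr
    exact xU_mem_uMinus H (w' ++ J) hwJ r hr.1 (hadd' r hr.1 hr.2) (t r)
  have hyU : nJ * y₀ * nJ⁻¹ ∈ C.D.posUnipotent K := by
    apply conj_lprod_mem_pos H J hJ
    intro r hr
    simp only [hΨ', List.mem_filter, decide_eq_true_eq, mem_posRoots] at hr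
    exact hr
  have hyM : nJ * y₀ * nJ⁻¹ ∈ uMinus C.D K n' := by
    rw [mem_uMinus_iff H w' hw']
    refine ⟨hyU, ?_⟩
    have e : n' * (nJ * y₀ * nJ⁻¹) * n'⁻¹ =
        ((n' * nJ) * x * (n' * nJ)⁻¹)⁻¹ * ((n' * nJ) * g * (n' * nJ)⁻¹) := by
      rw [ht]; group
    rw [e, ← hn]
    exact Subgroup.mul_mem _ (Subgroup.inv_mem _ (conj_uMinus_le C.D _ x hxn)) hgV
  refine ⟨x, hxJ, nJ * y₀ * nJ⁻¹, hyM, ?_⟩
  rw [ht]
  group

/-- products of the two factors lie in `U_{w'J}⁻` when the lengths add -/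
theorem uMinus_factor_mem (w' J : List ℕ) (hw' : ∀ i ∈ w', i < C.D.rank) (hJ : ∀ i ∈ J, i < C.D.rank)
    (hadd : addCheck C.D R.refl w' J = true) (hadd2 : addCheck2 C.D R.refl w' J = true)
    (x y : GL C.D.Idx K) (hx : x ∈ uMinus C.D K (R.nWordU J)) (hy : y ∈ uMinus C.D K (R.nWordU w')) :
    x * ((R.nWordU J)⁻¹ * y * R.nWordU J) ∈ uMinus C.D K (R.nWordU (w' ++ J)) := by
  classical
  have hwJ : ∀ i ∈ w' ++ J, i < C.D.rank := by
    intro i hi
    rcases List.mem_append.mp hi with h | h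
    · exact hw' i h
    · exact hJ i h
  set nJ := R.nWordU (F := K) J with hnJ
  set n' := R.nWordU (F := K) w' with hn'
  have hn : R.nWordU (F := K) (w' ++ J) = n' * nJ := R.nWordU_append w' J
  have hrelJ := R.conjRel_word (F := K) J hJ
  have hadd' : ∀ r, C.D.IsPosRoot r → C.D.IsNegRoot (reflW R.refl J r) →
      C.D.IsNegRoot (reflW R.refl (w' ++ J) r) := by
    intro r hr hneg
    unfold addCheck at hadd
    rw [List.all_eq_true] at hadd
    have := hadd r ((mem_posRoots C.D r).mpr hr)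
    simp only [Bool.or_eq_true, Bool.not_eq_true', decide_eq_false_iff_not, decide_eq_true_eq] at this
    rcases this with h | h
    · exact absurd hneg h
    · exact h
  -- the first factor
  have h1 : uMinus C.D K nJ ≤ uMinus C.D K (R.nWordU (w' ++ J)) := by
    intro z hz
    have hz' : z ∈ (uMinus C.D K (1 * nJ) : Set (GL C.D.Idx K)) := by rw [one_mul]; exact hz
    rw [H.U.uMinus_eq H.B H.ntri H.sign 1 (Subgroup.one_mem _) J hJ] at hz'
    obtain ⟨t, rfl⟩ := hz'
    unfold RootSys.lprod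
    apply Subgroup.list_prod_mem
    intro z hz
    obtain ⟨r, hr, rfl⟩ := List.mem_map.mp hz
    rw [mem_negSet] at hr
    exact xU_mem_uMinus H (w' ++ J) hwJ r hr.1 (hadd' r hr.1 hr.2) (t r)
  -- the second factor
  have h2 : nJ⁻¹ * y * nJ ∈ uMinus C.D K (R.nWordU (w' ++ J)) := by
    rw [mem_uMinus_iff H (w' ++ J) hwJ]
    constructor
    · have hy' : y ∈ (uMinus C.D K (1 * n') : Set (GL C.D.Idx K)) := by rw [one_mul]; exact hy
      rw [H.U.uMinus_eq H.B H.ntri H.sign 1 (Subgroup.one_mem _) w' hw'] at hy'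
      obtain ⟨t, rfl⟩ := hy'
      unfold RootSys.lprod
      have : ∀ L : List (GL C.D.Idx K), (∀ z ∈ L, nJ⁻¹ * z * nJ ∈ C.D.posUnipotent K) →
          nJ⁻¹ * L.prod * nJ ∈ C.D.posUnipotent K := by
        intro L
        induction L with
        | nil => intro _; simp
        | cons z L ih =>
          intro h
          have e : nJ⁻¹ * (z :: L).prod * nJ = (nJ⁻¹ * z * nJ) * (nJ⁻¹ * L.prod * nJ) := by
            rw [List.prod_cons]; group
          rw [e]
          exact Subgroup.mul_mem _ (h z List.mem_cons_self) (ih fun z' hz' => h z' (List.mem_cons_of_mem _ hz'))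
      apply this
      intro z hz
      obtain ⟨s, hs, rfl⟩ := List.mem_map.mp hz
      rw [mem_negSet] at hs
      unfold addCheck2 at hadd2
      rw [List.all_eq_true] at hadd2
      have hc := hadd2 s ((mem_posRoots C.D s).mpr hs.1)
      simp only [Bool.or_eq_true, Bool.not_eq_true', decide_eq_false_iff_not, List.any_eq_true,
        decide_eq_true_eq] at hc
      rcases hc with hc | ⟨r, hr, hrs⟩
      · exact absurd hs.2 hc
      · have hrpos := (mem_posRoots C.D r).mp hr
        have hη := hrelJ.sign r hrpos.1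
        have hconj := R.conj_units hrelJ nJ (R.nWordU_val J) r hrpos.1
          ((etaW R.refl R.eta J r : K) * t s)
        rw [hrs] at hconj
        have hηη : ((etaW R.refl R.eta J r : ℤ) : K) * ((etaW R.refl R.eta J r : K) * t s) = t s := by
          rcases hη with h | h <;> rw [h] <;> simp
        rw [hηη] at hconj
        show nJ⁻¹ * R.xU s (t s) * nJ ∈ _
        rw [← hconj]
        have e : nJ⁻¹ * (nJ * R.xU r ((etaW R.refl R.eta J r : K) * t s) * nJ⁻¹) * nJ =
            R.xU r ((etaW R.refl R.eta J r : K) * t s) := by group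
        rw [e]
        exact Subgroup.subset_closure ⟨_, _, hrpos, R.xU_val _ _⟩
    · have e : R.nWordU (F := K) (w' ++ J) * (nJ⁻¹ * y * nJ) * (R.nWordU (F := K) (w' ++ J))⁻¹ = n' * y * n'⁻¹ := by
        rw [hn]; group
      rw [e]
      exact conj_uMinus_le C.D _ y hy
  exact Subgroup.mul_mem _ (h1 hx) h2

/-- uniqueness of the factorisation -/
theorem uMinus_factor_unique (w' J : List ℕ)
    (x x' y y' : GL C.D.Idx K) (hx : x ∈ uMinus C.D K (R.nWordU J)) (hx' : x' ∈ uMinus C.D K (R.nWordU J))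
    (hy : y ∈ uMinus C.D K (R.nWordU w')) (hy' : y' ∈ uMinus C.D K (R.nWordU w'))
    (e : x * ((R.nWordU J)⁻¹ * y * R.nWordU J) = x' * ((R.nWordU J)⁻¹ * y' * R.nWordU J)) :
    x = x' ∧ y = y' := by
  set nJ := R.nWordU (F := K) J with hnJ
  have h1 : nJ * (x'⁻¹ * x) * nJ⁻¹ = y' * y⁻¹ := by
    have : x'⁻¹ * x = (nJ⁻¹ * y' * nJ) * (nJ⁻¹ * y * nJ)⁻¹ := by
      rw [eq_mul_inv_iff_mul_eq, mul_assoc, e, inv_mul_cancel_left]
    rw [this]; group
  have h2 : nJ * (x'⁻¹ * x) * nJ⁻¹ ∈ C.D.posUnipotent K ⊓ C.D.negUnipotent K := by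
    constructor
    · rw [h1]
      exact Subgroup.mul_mem _ (uMinus_le_posUnipotent C.D _ hy')
        (Subgroup.inv_mem _ (uMinus_le_posUnipotent C.D _ hy))
    · exact conj_uMinus_le C.D nJ _ (Subgroup.mul_mem _ (Subgroup.inv_mem _ hx') hx)
  rw [pos_inf_neg H, Subgroup.mem_bot] at h2
  have h3 : x'⁻¹ * x = 1 := by
    have : x'⁻¹ * x = nJ⁻¹ * (nJ * (x'⁻¹ * x) * nJ⁻¹) * nJ := by group
    rw [this, h2]; group
  have h4 : y' * y⁻¹ = 1 := by rw [← h1, h2]
  exact ⟨(inv_mul_eq_one.mp h3).symm, (mul_inv_eq_one.mp h4).symm⟩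

end

end Cfsg.Agent.Lib.Helper3.ChevAt
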