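import Mathlib
import Cfsg.Prelude.Def_ChevStructure
import Cfsg.Agent.Lib.Helper3.ChevAt4
set_option autoImplicit false
set_option linter.unusedSectionVars false
set_option linter.style.haveILetI false
open Cfsg Cfsg.Lie

/-!
The fixed points of a twisting automorphism on the subgroups `U_w⁻`: factorisation and counting.
-/

namespace Cfsg.Agent.Lib.Helper3.ChevAt

open Cfsg.Agent.Lib.Helper3.ChevM Cfsg.Agent.Lib.Helper3.ChevSp Cfsg.Agent.Lib.Helper3 ChevU ChevT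

section
variable {K : Type*} [Field K] {C : CDatum} {R : RelData C} (A : AbsTw C R K) (H : AtHyp C R)

/-- the fixed points of the twisting automorphism on `U_w⁻` -/
def AbsTw.fixU (w : List ℕ) : Set (GL C.D.Idx K) :=
  {g | g ∈ uMinus C.D K (R.nWordU w) ∧ A.sg g = g}

include H in
/-- the factorisation of the fixed points on `U_{w'J}⁻` -/
theorem AbsTw.fixU_factor (w' J : List ℕ) (hw' : ∀ i ∈ w', i < C.D.rank) (hJ : ∀ i ∈ J, i < C.D.rank)
    (hadd : addCheck C.D R.refl w' J = true)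
    (hfJ : A.sg (R.nWordU (F := K) J) = R.nWordU J) (hfw : A.sg (R.nWordU (F := K) w') = R.nWordU w')
    (g : GL C.D.Idx K) (hg : g ∈ A.fixU (w' ++ J)) :
    ∃ x ∈ A.fixU J, ∃ y ∈ A.fixU w', g = x * ((R.nWordU J)⁻¹ * y * R.nWordU J) := by
  have hNG : C.D.monomialSubgroup K ≤ C.D.group K := R.monomialSubgroup_le_group
  have hUG : C.D.posUnipotent K ≤ C.D.group K := R.posUnipotent_le_group
  obtain ⟨hgM, hgfix⟩ := hg
  obtain ⟨x, hx, y, hy, e⟩ := uMinus_factor H w' J hw' hJ hadd g hgM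
  have hnJ : R.nWordU (F := K) J ∈ C.D.group K := hNG (R.nWordU_mem J hJ)
  have hn' : R.nWordU (F := K) w' ∈ C.D.group K := hNG (R.nWordU_mem w' hw')
  have hxG : x ∈ C.D.group K := hUG (uMinus_le_posUnipotent C.D _ hx)
  have hyG : y ∈ C.D.group K := hUG (uMinus_le_posUnipotent C.D _ hy)
  have hσx : A.sg x ∈ uMinus C.D K (R.nWordU J) := by
    have := A.sg_mem_uMinus _ x hnJ hx
    rwa [hfJ] at this
  have hσy : A.sg y ∈ uMinus C.D K (R.nWordU w') := by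
    have := A.sg_mem_uMinus _ y hn' hy
    rwa [hfw] at this
  have e2 : A.sg g = A.sg x * ((R.nWordU J)⁻¹ * A.sg y * R.nWordU J) := by
    rw [e, A.sg_mul hxG (Subgroup.mul_mem _ (Subgroup.mul_mem _ (Subgroup.inv_mem _ hnJ) hyG) hnJ),
      A.sg_mul (Subgroup.mul_mem _ (Subgroup.inv_mem _ hnJ) hyG) hnJ, A.sg_mul (Subgroup.inv_mem _ hnJ) hyG,
      A.sg_inv hnJ, hfJ]
  rw [hgfix, e] at e2
  obtain ⟨e3, e4⟩ := uMinus_factor_unique H w' J x (A.sg x) y (A.sg y) hx hσx hy hσy e2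
  exact ⟨x, ⟨hx, e3.symm⟩, y, ⟨hy, e4.symm⟩, e⟩

include H in
/-- products of fixed points of the two factors are fixed points on `U_{w'J}⁻` -/
theorem AbsTw.fixU_factor_mem (w' J : List ℕ) (hw' : ∀ i ∈ w', i < C.D.rank) (hJ : ∀ i ∈ J, i < C.D.rank)
    (hadd : addCheck C.D R.refl w' J = true) (hadd2 : addCheck2 C.D R.refl w' J = true)
    (hfJ : A.sg (R.nWordU (F := K) J) = R.nWordU J)
    (x y : GL C.D.Idx K) (hx : x ∈ A.fixU J) (hy : y ∈ A.fixU w') :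
    x * ((R.nWordU J)⁻¹ * y * R.nWordU J) ∈ A.fixU (w' ++ J) := by
  have hNG : C.D.monomialSubgroup K ≤ C.D.group K := R.monomialSubgroup_le_group
  have hUG : C.D.posUnipotent K ≤ C.D.group K := R.posUnipotent_le_group
  have hnJ : R.nWordU (F := K) J ∈ C.D.group K := hNG (R.nWordU_mem J hJ)
  have hxG : x ∈ C.D.group K := hUG (uMinus_le_posUnipotent C.D _ hx.1)
  have hyG : y ∈ C.D.group K := hUG (uMinus_le_posUnipotent C.D _ hy.1)
  refine ⟨uMinus_factor_mem H w' J hw' hJ hadd hadd2 x y hx.1 hy.1, ?_⟩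
  rw [A.sg_mul hxG (Subgroup.mul_mem _ (Subgroup.mul_mem _ (Subgroup.inv_mem _ hnJ) hyG) hnJ),
    A.sg_mul (Subgroup.mul_mem _ (Subgroup.inv_mem _ hnJ) hyG) hnJ, A.sg_mul (Subgroup.inv_mem _ hnJ) hyG,
    A.sg_inv hnJ, hfJ, hx.2, hy.2]

include H in
/-- the number of fixed points on `U_{w'J}⁻` -/
theorem AbsTw.card_fixU (w' J : List ℕ) (hw' : ∀ i ∈ w', i < C.D.rank) (hJ : ∀ i ∈ J, i < C.D.rank)
    (hadd : addCheck C.D R.refl w' J = true) (hadd2 : addCheck2 C.D R.refl w' J = true)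
    (hfJ : A.sg (R.nWordU (F := K) J) = R.nWordU J) (hfw : A.sg (R.nWordU (F := K) w') = R.nWordU w') :
    Nat.card (A.fixU (w' ++ J)) = Nat.card (A.fixU J) * Nat.card (A.fixU w') := by
  rw [← Nat.card_prod]
  symm
  let f : A.fixU J × A.fixU w' → A.fixU (w' ++ J) := fun p =>
    ⟨p.1.1 * ((R.nWordU J)⁻¹ * p.2.1 * R.nWordU J),
      A.fixU_factor_mem H w' J hw' hJ hadd hadd2 hfJ p.1.1 p.2.1 p.1.2 p.2.2⟩
  refine Nat.card_congr (Equiv.ofBijective f ⟨?_, ?_⟩)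
  · rintro ⟨⟨x, hx⟩, ⟨y, hy⟩⟩ ⟨⟨x', hx'⟩, ⟨y', hy'⟩⟩ e
    have e' : x * ((R.nWordU J)⁻¹ * y * R.nWordU J) = x' * ((R.nWordU J)⁻¹ * y' * R.nWordU J) :=
      congrArg Subtype.val e
    obtain ⟨e1, e2⟩ := uMinus_factor_unique H w' J x x' y y' hx.1 hx'.1 hy.1 hy'.1 e'
    subst e1 e2
    rfl
  · rintro ⟨g, hg⟩
    obtain ⟨x, hx, y, hy, e⟩ := A.fixU_factor H w' J hw' hJ hadd hfJ hfw g hg
    exact ⟨⟨⟨x, hx⟩, ⟨y, hy⟩⟩, Subtype.ext e.symm⟩

include H in
/-- the fixed points on `U_{[]}⁻` -/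
theorem AbsTw.fixU_nil : A.fixU ([] : List ℕ) = {1} := by
  ext g
  constructor
  · rintro ⟨hg, -⟩
    have hg' : g ∈ (uMinus C.D K (1 * R.nWordU (F := K) []) : Set (GL C.D.Idx K)) := by rw [one_mul]; exact hg
    rw [H.U.uMinus_eq H.B H.ntri H.sign 1 (Subgroup.one_mem _) [] (by simp)] at hg'
    obtain ⟨t, rfl⟩ := hg'
    have : negSet C.D R.refl [] = [] := by
      unfold negSet
      rw [List.filter_eq_nil_iff]
      intro r hr
      have hpos := (mem_posRoots C.D r).mp hr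
      simp only [decide_eq_true_eq]
      show ¬ C.D.IsNegRoot r
      rw [neg_iff_not_pos H.sign r hpos.1, not_not]
      exact hpos
    rw [this]
    rfl
  · rintro rfl
    exact ⟨Subgroup.one_mem _, A.sg_one⟩

end

end Cfsg.Agent.Lib.Helper3.ChevAt
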