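import Mathlib
import Cfsg.Prelude.Def_ChevStructure
import Cfsg.Agent.Lib.Helper3.ChevM5
set_option autoImplicit false
set_option linter.unusedSectionVars false
open Cfsg Cfsg.Lie

/-!
Identities between products of root elements with monomial parameters in two variables, checked
modulo a prime.
-/

namespace Cfsg.Agent.Lib.Helper3.ChevM

/-- All coefficients vanish modulo `p`. -/
def mvIsZeroMod (p : ℕ) (v : MVec) : Bool := v.all fun t => decide (t.coef % (p : ℤ) = 0)

/-- Compare two products of sparse matrices on the basis vector with code `c`, modulo `p`. -/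
def checkColMmod (p N : ℕ) (w1 w2 : List MMat) (c : ℕ) : Bool :=
  mvIsZeroMod p (mvAdd (applyMW N w1 (mvBasis c)) (mvNeg (applyMW N w2 (mvBasis c))))

/-- Compare two products of sparse matrices on all basis vectors, modulo `p`. -/
def checkMWmod (p N : ℕ) (w1 w2 : List MMat) : Bool :=
  (List.range N).all fun c => checkColMmod p N w1 w2 c

/-- The entry in row `k` of the image of the basis vector `c` is the value of `expected`, modulo `p`. -/
def entryCheckMod (p N : ℕ) (w : List MMat) (c k : ℕ) (expected : MVec) : Bool :=
  mvIsZeroMod p (mvAdd ((applyMW N w (mvBasis c)).filter fun t => t.idx = k) (mvNeg expected)) &&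
    expected.all fun t => t.idx = k

section
variable {F : Type*} [Field F] (a b : F)

theorem mvAt_of_isZeroMod (p : ℕ) [CharP F p] (v : MVec) (h : mvIsZeroMod p v = true) (k : ℕ) :
    mvAt a b v k = 0 := by
  induction v with
  | nil => rfl
  | cons e t ih =>
    simp only [mvIsZeroMod, List.all_cons, Bool.and_eq_true, decide_eq_true_eq] at h
    rw [mvAt_cons, ih (by simpa [mvIsZeroMod] using h.2)]
    have hz : ((e.coef : ℤ) : F) = 0 :=
      (CharP.intCast_eq_zero_iff F p _).mpr (Int.dvd_of_emod_eq_zero h.1)
    simp [tEval, hz]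

theorem prod_eq_of_checkMWmod (p : ℕ) [CharP F p] (ha : a ≠ 0) (hb : b ≠ 0) (D : ChevalleyDatum)
    (S1 S2 : List MMat) (M1 M2 : List (Matrix D.Idx D.Idx F))
    (h1 : List.Forall₂ (Represents a b D) S1 M1) (h2 : List.Forall₂ (Represents a b D) S2 M2)
    (h : checkMWmod p (D.rank + D.nroots) S1 S2 = true) : M1.prod = M2.prod := by
  apply Matrix.ext_of_mulVec_single
  intro col
  rw [← vecFn_basis a b D col, mulVec_prod a b ha hb D S1 M1 h1, mulVec_prod a b ha hb D S2 M2 h2]
  funext j
  simp only [vecFn]
  simp only [checkMWmod, List.all_eq_true, List.mem_range] at h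
  have hc := h (code D col) (code_lt D col)
  simp only [checkColMmod] at hc
  have := mvAt_of_isZeroMod a b p _ hc (code D j)
  rw [mvAt_add, mvAt_neg] at this
  exact sub_eq_zero.mp (by rw [sub_eq_add_neg]; exact this)

theorem mvAt_filter_idx (v : MVec) (k : ℕ) :
    mvAt a b (v.filter fun t => t.idx = k) k = mvAt a b v k := by
  unfold mvAt
  rw [List.filter_filter]
  congr 2
  apply List.filter_congr
  intro t _
  simp

theorem entry_of_applyMW (ha : a ≠ 0) (hb : b ≠ 0) (D : ChevalleyDatum) (S : List MMat)
    (M : List (Matrix D.Idx D.Idx F)) (h : List.Forall₂ (Represents a b D) S M) (j col : D.Idx) :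
    M.prod j col = mvAt a b (applyMW (D.rank + D.nroots) S (mvBasis (code D col))) (code D j) := by
  have h1 := mulVec_prod a b ha hb D S M h (mvBasis (code D col))
  rw [vecFn_basis] at h1
  have h2 := congrFun h1 j
  rw [Matrix.mulVec_single_one] at h2
  exact h2

theorem entry_eq_of_check (p : ℕ) [CharP F p] (ha : a ≠ 0) (hb : b ≠ 0) (D : ChevalleyDatum)
    (S : List MMat) (M : List (Matrix D.Idx D.Idx F)) (h : List.Forall₂ (Represents a b D) S M)
    (j col : D.Idx) (expected : MVec)
    (hc : entryCheckMod p (D.rank + D.nroots) S (code D col) (code D j) expected = true) :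
    M.prod j col = mvAt a b expected (code D j) := by
  rw [entry_of_applyMW a b ha hb D S M h]
  simp only [entryCheckMod, Bool.and_eq_true] at hc
  have := mvAt_of_isZeroMod a b p _ hc.1 (code D j)
  rw [mvAt_add, mvAt_neg, mvAt_filter_idx] at this
  exact sub_eq_zero.mp (by rw [sub_eq_add_neg]; exact this)

end

end Cfsg.Agent.Lib.Helper3.ChevM
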