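import Mathlib
import Cfsg.Prelude.Def_ChevStructure
import Cfsg.Agent.Lib.Helper3.ChevMp1
import Cfsg.Agent.Lib.Helper3.ChevG1
set_option autoImplicit false
set_option linter.unusedSectionVars false
open Cfsg Cfsg.Lie

/-!
Identities between products of root elements with monomial parameters in two variables, checked
modulo a prime, for an arbitrary table of data.
-/

namespace Cfsg.Agent.Lib.Helper3.ChevM

section
variable {K : Type*} [Field K] {C : CDatum} (R : RelData C)

theorem RelData.xU_zero' (r : ℕ) : R.xU r (0 : K) = 1 := by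
  apply Units.ext
  rw [R.xU_val, CDatum.x_zero, Units.val_one]

theorem RelData.word_val_gen (a b : K) (w : List (ℕ × ℤ × ℤ × ℤ)) :
    (((w.map fun q => R.xU q.1 (((q.2.1 : ℤ) : K) * a ^ q.2.2.1 * b ^ q.2.2.2)).prod :
      GL C.D.Idx K) : Matrix C.D.Idx C.D.Idx K) =
    (w.map fun q => C.D.x K q.1 (((q.2.1 : ℤ) : K) * a ^ q.2.2.1 * b ^ q.2.2.2)).prod := by
  induction w with
  | nil => simp
  | cons q w ih => simp [ih]

theorem CDatum.word_rep_gen (a b : K) (w : List (ℕ × ℤ × ℤ × ℤ)) (hw : ∀ q ∈ w, q.1 < C.D.nroots) :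
    List.Forall₂ (Represents a b C.D) (w.map fun q => C.xMono q.1 q.2.1 q.2.2.1 q.2.2.2)
      (w.map fun q => C.D.x K q.1 (((q.2.1 : ℤ) : K) * a ^ q.2.2.1 * b ^ q.2.2.2)) := by
  induction w with
  | nil => exact List.Forall₂.nil
  | cons q w ih =>
    rw [List.map_cons, List.map_cons]
    exact List.Forall₂.cons (C.represents_xMono a b q.1 (hw q List.mem_cons_self) _ _ _)
      (ih fun q' hq' => hw q' (List.mem_cons_of_mem _ hq'))

/-- generic comparison of two words with monomial parameters -/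
theorem RelData.word_eq_of_check_gen (p : ℕ) [CharP K p] (a b : K) (ha : a ≠ 0) (hb : b ≠ 0)
    (w1 w2 : List (ℕ × ℤ × ℤ × ℤ)) (hw1 : ∀ q ∈ w1, q.1 < C.D.nroots)
    (hw2 : ∀ q ∈ w2, q.1 < C.D.nroots)
    (h : checkMWmod p (C.D.rank + C.D.nroots)
      (w1.map fun q => C.xMono q.1 q.2.1 q.2.2.1 q.2.2.2)
      (w2.map fun q => C.xMono q.1 q.2.1 q.2.2.1 q.2.2.2) = true) :
    (w1.map fun q => R.xU q.1 (((q.2.1 : ℤ) : K) * a ^ q.2.2.1 * b ^ q.2.2.2)).prod =
      (w2.map fun q => R.xU q.1 (((q.2.1 : ℤ) : K) * a ^ q.2.2.1 * b ^ q.2.2.2)).prod := by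
  apply Units.ext
  rw [R.word_val_gen, R.word_val_gen]
  exact prod_eq_of_checkMWmod a b p ha hb C.D _ _ _ _ (C.word_rep_gen a b w1 hw1) (C.word_rep_gen a b w2 hw2) h

/-- generic evaluation of an entry of a word with monomial parameters -/
theorem RelData.word_entry_of_check_gen (p : ℕ) [CharP K p] (a b : K) (ha : a ≠ 0) (hb : b ≠ 0)
    (w : List (ℕ × ℤ × ℤ × ℤ)) (hw : ∀ q ∈ w, q.1 < C.D.nroots) (j col : C.D.Idx)
    (expected : MVec)
    (h : entryCheckMod p (C.D.rank + C.D.nroots)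
      (w.map fun q => C.xMono q.1 q.2.1 q.2.2.1 q.2.2.2) (code C.D col) (code C.D j)
      expected = true) :
    (((w.map fun q => R.xU q.1 (((q.2.1 : ℤ) : K) * a ^ q.2.2.1 * b ^ q.2.2.2)).prod :
        GL C.D.Idx K) : Matrix C.D.Idx C.D.Idx K) j col = mvAt a b expected (code C.D j) := by
  rw [R.word_val_gen]
  exact entry_eq_of_check a b p ha hb C.D _ _ (C.word_rep_gen a b w hw) j col expected h

end

end Cfsg.Agent.Lib.Helper3.ChevM
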