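import Mathlib
import Cfsg.Prelude.Def_ChevStructure
import Cfsg.Agent.Lib.Helper3.ChevSp2
set_option autoImplicit false
set_option linter.unusedSectionVars false
set_option linter.style.haveILetI false
open Cfsg Cfsg.Lie

/-!
Special isogenies of Chevalley groups, part 3: the table checks.
-/

namespace Cfsg.Agent.Lib.Helper3.ChevSp

open Cfsg.Agent.Lib.Helper3.ChevM

/-- Check that the lower left block of `x_r(T)` vanishes modulo `p`. -/
def zeroBlkCheck (D : ChevalleyDatum) (p d : ℕ) (sC lC : ℕ → ℕ) (r : ℕ) : Bool :=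
  (List.range d).all fun i => (List.range d).all fun j =>
    polyZeroMod p (entryPoly D r (sC j) (lC i))

/-- Check that the lower right block of `x_r(T)` is the upper left block of
`x_{ρ r}(T ^ lam r)` modulo `p`. -/
def relCheck (D : ChevalleyDatum) (p d : ℕ) (sC lC : ℕ → ℕ) (ρ lam : ℕ → ℕ) (r : ℕ) : Bool :=
  (List.range d).all fun i => (List.range d).all fun j =>
    polyZeroMod p (entryPoly D r (lC j) (lC i) ++ negScale (lam r) (entryPoly D (ρ r) (sC j) (sC i)))

section
variable {F : Type*} [Field F] (D : ChevalleyDatum) (p : ℕ) [CharP F p] {d : ℕ}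
  (sI lI : Fin d → D.Idx) (sC lC : ℕ → ℕ) (hsC : ∀ i : Fin d, code D (sI i) = sC i.val)
  (hlC : ∀ i : Fin d, code D (lI i) = lC i.val)

include hsC hlC in
theorem zeroBlk_of_check (hchk : ∀ r < D.nroots, zeroBlkCheck D p d sC lC r = true)
    (r : Fin D.nroots) (t : F) : ZeroBlk sI lI (D.xMat F r t) := by
  intro i j
  rw [xMat_eq_evalPoly, hsC, hlC]
  apply evalPoly_eq_zero_of_check p
  have := hchk r.val r.isLt
  simp only [zeroBlkCheck, List.all_eq_true, List.mem_range] at this
  exact this i.val i.isLt j.val j.isLt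

include hsC hlC in
theorem rel_of_check (ρ lam : ℕ → ℕ) (hρ : ∀ r < D.nroots, ρ r < D.nroots)
    (hchk : ∀ r < D.nroots, relCheck D p d sC lC ρ lam r = true)
    (r : ℕ) (hr : r < D.nroots) (t : F) :
    (D.xMat F ⟨r, hr⟩ t).submatrix lI lI =
      (D.xMat F ⟨ρ r, hρ r hr⟩ (t ^ lam r)).submatrix sI sI := by
  ext i j
  rw [Matrix.submatrix_apply, Matrix.submatrix_apply, xMat_eq_evalPoly, xMat_eq_evalPoly,
    hsC, hsC, hlC, hlC]
  have := hchk r hr
  simp only [relCheck, List.all_eq_true, List.mem_range] at this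
  have h := evalPoly_eq_zero_of_check p t _ (this i.val i.isLt j.val j.isLt)
  rw [evalPoly_append, evalPoly_negScale] at h
  exact sub_eq_zero.mp (by rw [sub_eq_add_neg]; exact h)

end

end Cfsg.Agent.Lib.Helper3.ChevSp
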