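import Mathlib
import Cfsg.Prelude.Def_ChevStructure
import Cfsg.Agent.Lib.Helper3.ChevSp3
import Cfsg.Agent.Lib.Helper3.ChevB4
import Cfsg.Agent.S0319
set_option autoImplicit false
set_option linter.unusedSectionVars false
set_option linter.style.haveILetI false
open Cfsg Cfsg.Lie

/-!
Special isogenies of Chevalley groups, part 4: faithfulness of the block representations without
simplicity, from the (B,N)-pair.
-/

namespace Cfsg.Agent.Lib.Helper3.ChevSp

open Cfsg.Agent.Lib.Helper3.ChevM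
open Cfsg.Agent.Lib.Helper1 DoubleCoset
open scoped Pointwise

/-- In a group with an irreducible (B,N)-pair, a normal subgroup lies in `B` or supplements `B`. -/
theorem bn_normal_le_or_sup_eq_top {G : Type*} [Group G] (P : Cfsg.BNPair G) (hirr : P.Irreducible)
    (H : Subgroup G) [hH : H.Normal] : H ≤ P.B ∨ H ⊔ P.B = ⊤ := by
  set M := H ⊔ P.B with hMdef
  have hBM : P.B ≤ M := le_sup_right
  have hHM : H ≤ M := le_sup_left
  set J : Set G := {s | s ∈ P.S ∧ s ∈ M} with hJdef
  have hJ : J ⊆ P.S := fun _ h => h.1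
  have hpar : M = P.parabolic J := eq_parabolic_of_le P M hBM
  by_cases hJe : J.Nonempty
  · by_cases hJ'e : (P.S \ J).Nonempty
    · exfalso
      obtain ⟨s, hs, s', hs', hcomm⟩ := hirr J hJ hJe hJ'e
      apply hcomm
      have hsS : s ∈ P.S := hJ hs
      have hs'S : s' ∈ P.S := hs'.1
      have hHle : H ≤ (bnData P).par (bnImg P J) (bnImg_subset P J) := by
        rw [← parabolic_eq_par P hJ, ← hpar]; exact hHM
      have hmeet : ∃ h ∈ H, h ∈ (bnData P).C (bnπ P ⟨s, P.subset hsS⟩) := by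
        have hsM : s ∈ ((H ⊔ P.B : Subgroup G) : Set G) := hs.2
        rw [Subgroup.normal_mul] at hsM
        obtain ⟨h, hh, b, hb, hhb⟩ := Set.mem_mul.1 hsM
        refine ⟨h, hh, (mem_bnC_π P).2 ⟨1, P.B.one_mem, b⁻¹, P.B.inv_mem hb, ?_⟩⟩
        change h = 1 * s * b⁻¹
        have : s = h * b := hhb.symm
        rw [this]; group
      have hc := (bnData P).commute_of_normal (bnImg_subset P J) H hHle
        ((mem_bnImg_iff P hJ hsS).2 hs) ((mem_bnS P).2 ⟨s', hs'S, rfl⟩)
        (fun h => hs'.2 ((mem_bnImg_iff P hJ hs'S).1 h)) hmeet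
      have hN : s * s' * s⁻¹ * s'⁻¹ ∈ P.N :=
        P.N.mul_mem (P.N.mul_mem (P.N.mul_mem (P.subset hsS) (P.subset hs'S))
          (P.N.inv_mem (P.subset hsS))) (P.N.inv_mem (P.subset hs'S))
      have h1 : bnπ P ⟨s * s' * s⁻¹ * s'⁻¹, hN⟩ = 1 := by
        have : (⟨s * s' * s⁻¹ * s'⁻¹, hN⟩ : P.N)
            = ⟨s, P.subset hsS⟩ * ⟨s', P.subset hs'S⟩ * ⟨s, P.subset hsS⟩⁻¹ * ⟨s', P.subset hs'S⟩⁻¹ := rfl
        rw [this, map_mul, map_mul, map_mul, map_inv, map_inv, hc]
        group
      exact (bnπ_eq_one_iff P).1 h1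
    · right
      have hJS : J = P.S := by
        apply Set.Subset.antisymm hJ
        intro s hs
        by_contra hsJ
        exact hJ'e ⟨s, hs, hsJ⟩
      rw [hpar, hJS, Cfsg.Agent.S0322.parabolic_S_eq_top]
  · left
    have hJ0 : J = ∅ := Set.not_nonempty_iff_eq_empty.1 hJe
    have hMB : M = P.B := by
      rw [hpar, hJ0]
      unfold Cfsg.BNPair.parabolic
      rw [Subgroup.closure_empty, sup_bot_eq]
    rw [← hMB]; exact hHM

section
variable {F : Type*} [Field F] {C : CDatum} {R : RelData C} (K : CommData C R)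

include K in
/-- A homomorphism from a Chevalley group is injective, or every value is the value of an element
of `B`. -/
theorem ker_eq_bot_or (S : SimpleHyp C R) {H : Type*} [Group H] (f : ↥(C.D.group F) →* H) :
    f.ker = ⊥ ∨ ∀ g : ↥(C.D.group F), ∃ b : ↥(C.D.group F),
      (b : GL C.D.Idx F) ∈ C.D.borelSubgroup F ∧ f g = f b := by
  have M := S.bn.mono
  have hcore : (K.bnPair (F := F) S.bn).B.normalCore = ⊥ :=
    R.borel_core_trivial S.bn.dec M.tri S.ntri S.l S.l' S.hl S.opp M.nr M.rw M.rwc S.inj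
  have hirr := K.bnPair_irreducible (F := F) S.bn S.par S.dep S.root S.hroot S.irr
  rcases bn_normal_le_or_sup_eq_top (K.bnPair (F := F) S.bn) hirr f.ker with h | h
  · left
    have := (Subgroup.normal_le_normalCore (H := (K.bnPair (F := F) S.bn).B) (N := f.ker)).2 h
    rw [hcore] at this
    exact le_bot_iff.1 this
  · right
    intro g
    have hg : g ∈ ((f.ker ⊔ (K.bnPair (F := F) S.bn).B : Subgroup ↥(C.D.group F)) : Set _) := by
      rw [h]; exact Subgroup.mem_top g
    rw [Subgroup.normal_mul] at hg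
    obtain ⟨n, hn, b, hb, rfl⟩ := Set.mem_mul.1 hg
    refine ⟨b, Subgroup.mem_subgroupOf.mp hb, ?_⟩
    rw [map_mul, MonoidHom.mem_ker.mp hn, one_mul]

include K in
/-- A representation given by a diagonal block containing both `e_p` and `e_{-p}` for a
fundamental root `p` is faithful. -/
theorem injective_of_low (S : SimpleHyp C R) {d : Type*} [Fintype d] [DecidableEq d]
    (f : ↥(C.D.group F) →* GL d F) (ι : d → C.D.Idx)
    (hf : ∀ g : ↥(C.D.group F), ((f g : GL d F) : Matrix d d F) =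
      ((g : GL C.D.Idx F) : Matrix C.D.Idx C.D.Idx F).submatrix ι ι)
    (i : ℕ) (hi : i < C.D.rank) (a' b' : d)
    (ha : ι a' = Sum.inr ⟨C.D.neg (C.D.simple i), R.neg_lt _ (R.simple_lt i hi)⟩)
    (hb : ι b' = Sum.inr ⟨C.D.simple i, R.simple_lt i hi⟩) : Function.Injective f := by
  rw [← MonoidHom.ker_eq_bot_iff]
  rcases ker_eq_bot_or K S f with h | h
  · exact h
  · exfalso
    have hp := R.simple_lt i hi
    have hn := R.neg_lt _ hp
    have hlow := S.bn.low i hi
    have hlow' := hlow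
    simp only [lowCheck, Bool.and_eq_true, decide_eq_true_eq] at hlow'
    obtain ⟨⟨h1, h2⟩, h3⟩ := hlow'
    obtain ⟨b, hbB, hfb⟩ := h (xG R (C.D.neg (C.D.simple i)) hn (1 : F))
    have hent := congrArg (fun g : GL d F => (g : Matrix d d F) a' b') hfb
    simp only [hf, Matrix.submatrix_apply] at hent
    rw [ha, hb] at hent
    have htri := S.bn.mono.borel_le_tri hbB
    have hz : ((b : GL C.D.Idx F) : Matrix C.D.Idx C.D.Idx F)
        (Sum.inr ⟨C.D.neg (C.D.simple i), hn⟩) (Sum.inr ⟨C.D.simple i, hp⟩) = 0 := by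
      apply htri
      show posC C.D (C.D.rank + C.D.neg (C.D.simple i)) < posC C.D (C.D.rank + C.D.simple i) + 0
      rw [add_zero]; exact h3
    rw [hz] at hent
    have hnn : C.D.neg (C.D.neg (C.D.simple i)) < C.D.nroots := by rw [h2]; exact hp
    have hx := x_entry_neg (F := F) C _ hn hnn h1 1
    have hidx : (Sum.inr ⟨C.D.neg (C.D.neg (C.D.simple i)), hnn⟩ : C.D.Idx) =
        Sum.inr ⟨C.D.simple i, hp⟩ := by
      congr 1
      exact Fin.ext h2
    rw [hidx] at hx
    have hval : (((xG R (C.D.neg (C.D.simple i)) hn (1 : F) : ↥(C.D.group F)) : GL C.D.Idx F) :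
        Matrix C.D.Idx C.D.Idx F) = C.D.x F (C.D.neg (C.D.simple i)) 1 := rfl
    rw [hval, hx] at hent
    simp at hent

end

end Cfsg.Agent.Lib.Helper3.ChevSp
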