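import Mathlib
import Cfsg.Prelude.Def_ChevStructure
import Cfsg.Agent.Lib.Helper3.ChevSp4
set_option autoImplicit false
set_option linter.unusedSectionVars false
set_option linter.style.haveILetI false
open Cfsg Cfsg.Lie

/-!
Special isogenies of Chevalley groups, part 5: the isogeny from table checks.
-/

namespace Cfsg.Agent.Lib.Helper3.ChevSp

open Cfsg.Agent.Lib.Helper3.ChevM

section
variable {F : Type*} [Field F] {C : CDatum} {R : RelData C} (K : CommData C R)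

include K in
/-- **Special isogeny from table checks.** -/
theorem exists_special_isogeny_of_checks (S : SimpleHyp C R) (p : ℕ) [CharP F p] {d : ℕ}
    (sI lI : Fin d → C.D.Idx) (hb : Function.Bijective (Sum.elim sI lI))
    (sC lC : ℕ → ℕ) (hsC : ∀ i : Fin d, code C.D (sI i) = sC i.val)
    (hlC : ∀ i : Fin d, code C.D (lI i) = lC i.val)
    (hzero : ∀ r < C.D.nroots, zeroBlkCheck C.D p d sC lC r = true)
    (ρ lam : ℕ → ℕ) (hρ : ∀ r < C.D.nroots, ρ r < C.D.nroots)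
    (hρρ : ∀ r < C.D.nroots, ρ (ρ r) = r)
    (hrelc : ∀ r < C.D.nroots, relCheck C.D p d sC lC ρ lam r = true)
    (hsurj : ∀ r < C.D.nroots, ∀ u : F, ∃ t : F, t ^ lam r = u)
    (i j : ℕ) (hi : i < C.D.rank) (hj : j < C.D.rank) (a₁ b₁ a₂ b₂ : Fin d)
    (h1 : sI a₁ = Sum.inr ⟨C.D.neg (C.D.simple i), R.neg_lt _ (R.simple_lt i hi)⟩)
    (h2 : sI b₁ = Sum.inr ⟨C.D.simple i, R.simple_lt i hi⟩)
    (h3 : lI a₂ = Sum.inr ⟨C.D.neg (C.D.simple j), R.neg_lt _ (R.simple_lt j hj)⟩)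
    (h4 : lI b₂ = Sum.inr ⟨C.D.simple j, R.simple_lt j hj⟩) :
    ∃ σ : ↥(C.D.group F) ≃* ↥(C.D.group F), ∀ (r : ℕ) (hr : r < C.D.nroots) (t : F),
      σ (xG R r hr t) = xG R (ρ r) (hρ r hr) (t ^ lam r) := by
  have hZ : ∀ (r : Fin C.D.nroots) (t : F), ZeroBlk sI lI (C.D.xMat F r t) :=
    zeroBlk_of_check C.D p sI lI sC lC hsC hlC hzero
  refine exists_special_isogeny R hb hZ ρ lam hρ hρρ hsurj
    (rel_of_check C.D p sI lI sC lC hsC hlC ρ lam hρ hrelc) ?_ ?_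
  · exact injective_of_low K S _ sI (fun g => blkHomS_val hb _ _ g) i hi a₁ b₁ h1 h2
  · exact injective_of_low K S _ lI (fun g => blkHomL_val hb _ _ g) j hj a₂ b₂ h3 h4

end

end Cfsg.Agent.Lib.Helper3.ChevSp
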