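import Mathlib
import Cfsg.Prelude.Def_ChevStructure
import Cfsg.Agent.Lib.Helper3.ChevSp5
import Cfsg.Agent.Lib.Helper3.ChevData.F4Simple
set_option autoImplicit false
set_option linter.unusedSectionVars false
set_option linter.style.haveILetI false
open Cfsg Cfsg.Lie

/-!
The graph automorphism of `F4` in characteristic 2.
-/

namespace Cfsg.Agent.Lib.Helper3.ChevSp

open Cfsg.Agent.Lib.Helper3.ChevM

/-- the short part of the adjoint module -/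
def f4sI : Fin 26 → cdF4.D.Idx :=
  ![Sum.inl ⟨0, by decide⟩, Sum.inl ⟨1, by decide⟩, Sum.inr ⟨3, by decide⟩, Sum.inr ⟨7, by decide⟩, Sum.inr ⟨8, by decide⟩, Sum.inr ⟨9, by decide⟩, Sum.inr ⟨10, by decide⟩, Sum.inr ⟨11, by decide⟩, Sum.inr ⟨12, by decide⟩, Sum.inr ⟨13, by decide⟩, Sum.inr ⟨14, by decide⟩, Sum.inr ⟨18, by decide⟩, Sum.inr ⟨19, by decide⟩, Sum.inr ⟨20, by decide⟩, Sum.inr ⟨27, by decide⟩, Sum.inr ⟨28, by decide⟩, Sum.inr ⟨29, by decide⟩, Sum.inr ⟨33, by decide⟩, Sum.inr ⟨34, by decide⟩, Sum.inr ⟨35, by decide⟩, Sum.inr ⟨36, by decide⟩, Sum.inr ⟨37, by decide⟩, Sum.inr ⟨38, by decide⟩, Sum.inr ⟨39, by decide⟩, Sum.inr ⟨40, by decide⟩, Sum.inr ⟨44, by decide⟩]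

/-- the long part of the adjoint module -/
def f4lI : Fin 26 → cdF4.D.Idx :=
  ![Sum.inl ⟨3, by decide⟩, Sum.inl ⟨2, by decide⟩, Sum.inr ⟨0, by decide⟩, Sum.inr ⟨1, by decide⟩, Sum.inr ⟨2, by decide⟩, Sum.inr ⟨4, by decide⟩, Sum.inr ⟨15, by decide⟩, Sum.inr ⟨5, by decide⟩, Sum.inr ⟨16, by decide⟩, Sum.inr ⟨21, by decide⟩, Sum.inr ⟨23, by decide⟩, Sum.inr ⟨6, by decide⟩, Sum.inr ⟨17, by decide⟩, Sum.inr ⟨22, by decide⟩, Sum.inr ⟨25, by decide⟩, Sum.inr ⟨30, by decide⟩, Sum.inr ⟨41, by decide⟩, Sum.inr ⟨24, by decide⟩, Sum.inr ⟨26, by decide⟩, Sum.inr ⟨31, by decide⟩, Sum.inr ⟨42, by decide⟩, Sum.inr ⟨32, by decide⟩, Sum.inr ⟨43, by decide⟩, Sum.inr ⟨45, by decide⟩, Sum.inr ⟨46, by decide⟩, Sum.inr ⟨47, by decide⟩]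

def f4sC (i : ℕ) : ℕ := (#[0, 1, 7, 11, 12, 13, 14, 15, 16, 17, 18, 22, 23, 24, 31, 32, 33, 37, 38, 39, 40, 41, 42, 43, 44, 48] : Array ℕ).getD i 0

def f4lC (i : ℕ) : ℕ := (#[3, 2, 4, 5, 6, 8, 19, 9, 20, 25, 27, 10, 21, 26, 29, 34, 45, 28, 30, 35, 46, 36, 47, 49, 50, 51] : Array ℕ).getD i 0

/-- the symmetry of the root system exchanging long and short roots -/
def f4rho (r : ℕ) : ℕ := (#[3, 7, 8, 0, 9, 11, 18, 1, 2, 4, 15, 5, 16, 21, 23, 10, 12, 19, 6, 17, 22, 13, 20, 14, 33, 27, 34, 25, 30, 41, 28, 35, 37, 24, 26, 31, 42, 32, 43, 45, 46, 29, 36, 38, 47, 39, 40, 44] : Array ℕ).getD r 0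

/-- the exponent: 2 on short roots, 1 on long roots -/
def f4lam (r : ℕ) : ℕ := (#[1, 1, 1, 2, 1, 1, 1, 2, 2, 2, 2, 2, 2, 2, 2, 1, 1, 1, 2, 2, 2, 1, 1, 1, 1, 1, 1, 2, 2, 2, 1, 1, 1, 2, 2, 2, 2, 2, 2, 2, 2, 1, 1, 1, 2, 1, 1, 1] : Array ℕ).getD r 1

theorem f4_bij : Function.Bijective (Sum.elim f4sI f4lI) := by decide +kernel

theorem f4_sC : ∀ i : Fin 26, code cdF4.D (f4sI i) = f4sC i.val := by decide +kernel

theorem f4_lC : ∀ i : Fin 26, code cdF4.D (f4lI i) = f4lC i.val := by decide +kernel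

theorem f4_zeroBlkCheck : ∀ r < cdF4.D.nroots, zeroBlkCheck cdF4.D 2 26 f4sC f4lC r = true := by
  decide +kernel

theorem f4_relCheck : ∀ r < cdF4.D.nroots, relCheck cdF4.D 2 26 f4sC f4lC f4rho f4lam r = true := by
  decide +kernel

theorem f4rho_lt : ∀ r < cdF4.D.nroots, f4rho r < cdF4.D.nroots := by decide +kernel

theorem f4rho_rho : ∀ r < cdF4.D.nroots, f4rho (f4rho r) = r := by decide +kernel

theorem f4lam_cases : ∀ r < cdF4.D.nroots, f4lam r = 1 ∨ f4lam r = 2 := by decide +kernel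

section
variable {K : Type*} [Field K] [CharP K 2]

/-- the graph automorphism of `F4` in characteristic 2 over a perfect field -/
theorem f4_exists_graph_aut (hperf : ∀ x : K, ∃ y : K, y ^ 2 = x) :
    ∃ σ : ↥(cdF4.D.group K) ≃* ↥(cdF4.D.group K), ∀ (r : ℕ) (hr : r < cdF4.D.nroots) (t : K),
      σ (xG relF4 r hr t) = xG relF4 (f4rho r) (f4rho_lt r hr) (t ^ f4lam r) := by
  refine exists_special_isogeny_of_checks commF4 simpleF4 2 f4sI f4lI f4_bij f4sC f4lC f4_sC f4_lC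
    f4_zeroBlkCheck f4rho f4lam f4rho_lt f4rho_rho f4_relCheck ?_
    0 3 (by decide) (by decide) ⟨10, by decide⟩ ⟨17, by decide⟩ ⟨10, by decide⟩ ⟨17, by decide⟩ rfl rfl rfl rfl
  intro r hr u
  rcases f4lam_cases r hr with h | h
  · exact ⟨u, by rw [h, pow_one]⟩
  · rw [h]
    exact hperf u

end

end Cfsg.Agent.Lib.Helper3.ChevSp
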