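import Mathlib
import Cfsg.Prelude.Def_ChevStructure

set_option autoImplicit false

namespace Cfsg.Agent.Lib.Helper3
open Cfsg.Lie

/-- Entrywise application of a field automorphism on `GL`. -/
noncomputable def glMapEquiv {n : Type*} [Fintype n] [DecidableEq n] {F : Type*} [Field F] (f : F ≃+* F) :
    GL n F ≃* GL n F :=
  Units.mapEquiv (f.mapMatrix (m := n)).toMulEquiv

theorem glMapEquiv_coe {n : Type*} [Fintype n] [DecidableEq n] {F : Type*} [Field F] (f : F ≃+* F)
    (g : GL n F) : ((glMapEquiv f g : GL n F) : Matrix n n F) = (g : Matrix n n F).map f := rfl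

theorem xMat_map {F : Type*} [Field F] (D : ChevalleyDatum) (f : F ≃+* F) (r : Fin D.nroots) (t : F) :
    (D.xMat F r t).map f = D.xMat F r (f t) := by
  ext row col
  rw [Matrix.map_apply]
  unfold ChevalleyDatum.xMat
  rw [Matrix.of_apply, Matrix.of_apply]
  rcases col with i | s
  · rcases row with i' | u
    · simp only
      split_ifs <;> simp
    · simp only
      split_ifs <;> simp
  · by_cases hsr : s = r
    · rcases row with i' | u
      · simp [hsr]
      · simp only [hsr, if_true]
        split_ifs <;> simp
    · by_cases hsn : s.val = D.negIdx.getD r.val 0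
      · rcases row with i' | u
        · simp [hsr, hsn]
        · simp only [hsr, if_false, hsn, if_true]
          split_ifs <;> simp
      · rcases row with i' | u
        · simp only [hsr, if_false, hsn]
          simp
        · simp only [hsr, if_false, hsn]
          rw [map_add, map_list_sum, List.map_map]
          congr 1
          · split_ifs <;> simp
          · congr 1
            apply List.map_congr_left
            intro km _
            simp

theorem x_map {F : Type*} [Field F] (D : ChevalleyDatum) (f : F ≃+* F) (r : ℕ) (t : F) :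
    (D.x F r t).map f = D.x F r (f t) := by
  unfold ChevalleyDatum.x
  split_ifs with h
  · exact xMat_map D f ⟨r, h⟩ t
  · ext i j
    rw [Matrix.map_apply, Matrix.one_apply]
    split_ifs <;> simp

theorem group_map_le {F : Type*} [Field F] (D : ChevalleyDatum) (f : F ≃+* F) :
    (D.group F).map (glMapEquiv (n := D.Idx) f).toMonoidHom ≤ D.group F := by
  rw [Subgroup.map_le_iff_le_comap]
  unfold ChevalleyDatum.group
  rw [Subgroup.closure_le]
  rintro g ⟨r, t, hg⟩
  rw [SetLike.mem_coe, Subgroup.mem_comap]
  apply Subgroup.subset_closure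
  refine ⟨r, f t, ?_⟩
  show ((glMapEquiv f g : GL D.Idx F) : Matrix D.Idx D.Idx F) = _
  rw [glMapEquiv_coe, hg, xMat_map]

theorem group_map_eq {F : Type*} [Field F] (D : ChevalleyDatum) (f : F ≃+* F) :
    (D.group F).map (glMapEquiv (n := D.Idx) f).toMonoidHom = D.group F := by
  apply le_antisymm (group_map_le D f)
  intro g hg
  refine ⟨glMapEquiv f.symm g, ?_, ?_⟩
  · apply group_map_le D f.symm
    exact ⟨g, hg, rfl⟩
  · apply Units.ext
    show ((glMapEquiv f (glMapEquiv f.symm g) : GL D.Idx F) : Matrix D.Idx D.Idx F) = _
    rw [glMapEquiv_coe, glMapEquiv_coe]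
    ext i j
    simp

end Cfsg.Agent.Lib.Helper3
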