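import Mathlib
import Cfsg.Prelude.Def_ChevStructure
import Cfsg.Prelude.Def_ChevG2
import Cfsg.Agent.Lib.Helper3.ChevSp3
import Cfsg.Agent.Lib.Helper3.ChevData.G2Simple
set_option autoImplicit false
set_option linter.unusedSectionVars false
set_option linter.style.haveILetI false
open Cfsg Cfsg.Lie

/-!
The graph automorphism of `G₂` in characteristic 3.
-/

namespace Cfsg.Agent.Lib.Helper3.ChevSp

open Cfsg.Agent.Lib.Helper3.ChevM

/-- coordinate index of a coroot -/
def g2h (i : ℕ) (h : i < cdG2.D.rank := by decide) : cdG2.D.Idx := Sum.inl ⟨i, h⟩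

/-- coordinate index of a root vector -/
def g2e (r : ℕ) (h : r < cdG2.D.nroots := by decide) : cdG2.D.Idx := Sum.inr ⟨r, h⟩

/-- the short part of the adjoint module: `h_a` and the short root vectors -/
def g2sI : Fin 7 → cdG2.D.Idx :=
  ![g2h 0, g2e 2, g2e 3, g2e 4, g2e 7, g2e 8, g2e 9]

/-- the long part of the adjoint module: `h_b` and the long root vectors -/
def g2lI : Fin 7 → cdG2.D.Idx :=
  ![g2h 1, g2e 0, g2e 1, g2e 5, g2e 6, g2e 10, g2e 11]

def g2sC (i : ℕ) : ℕ := (#[0, 4, 5, 6, 9, 10, 11] : Array ℕ).getD i 0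

def g2lC (i : ℕ) : ℕ := (#[1, 2, 3, 7, 8, 12, 13] : Array ℕ).getD i 0

/-- the symmetry of the root system exchanging long and short roots -/
def g2rho (r : ℕ) : ℕ := (#[2, 3, 0, 1, 5, 4, 7, 6, 10, 11, 8, 9] : Array ℕ).getD r 0

/-- the exponent: 3 on short roots, 1 on long roots -/
def g2lam (r : ℕ) : ℕ := (#[1, 1, 3, 3, 3, 1, 1, 3, 3, 3, 1, 1] : Array ℕ).getD r 1

theorem g2_bij : Function.Bijective (Sum.elim g2sI g2lI) := by decide

theorem g2_sC : ∀ i : Fin 7, code cdG2.D (g2sI i) = g2sC i.val := by decide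

theorem g2_lC : ∀ i : Fin 7, code cdG2.D (g2lI i) = g2lC i.val := by decide

theorem g2_zeroBlkCheck : ∀ r < cdG2.D.nroots, zeroBlkCheck cdG2.D 3 7 g2sC g2lC r = true := by
  decide +kernel

theorem g2_relCheck : ∀ r < cdG2.D.nroots, relCheck cdG2.D 3 7 g2sC g2lC g2rho g2lam r = true := by
  decide +kernel

theorem g2rho_lt : ∀ r < cdG2.D.nroots, g2rho r < cdG2.D.nroots := by decide

theorem g2rho_rho : ∀ r < cdG2.D.nroots, g2rho (g2rho r) = r := by decide

theorem g2lam_cases : ∀ r < cdG2.D.nroots, g2lam r = 1 ∨ g2lam r = 3 := by decide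

section
variable {K : Type*} [Field K] [CharP K 3]

theorem g2_zeroBlk (r : Fin cdG2.D.nroots) (t : K) : ZeroBlk g2sI g2lI (cdG2.D.xMat K r t) :=
  zeroBlk_of_check cdG2.D 3 g2sI g2lI g2sC g2lC g2_sC g2_lC g2_zeroBlkCheck r t

theorem g2_isSimpleGroup : IsSimpleGroup ↥(cdG2.D.group K) := by
  have h2 : (2 : K) ≠ 0 := by
    intro h
    have := (CharP.cast_eq_zero_iff K 3 2).mp (by exact_mod_cast h)
    omega
  refine (commG2.simple simpleG2 (Or.inr ⟨2, h2, ?_⟩)).1
  intro h
  have h1 : (1 : K) = 0 := by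
    have : (2 : K) - 1 = 0 := by rw [h]; ring
    have e : (2 : K) - 1 = 1 := by ring
    rw [e] at this
    exact this
  exact one_ne_zero h1

/-- the graph automorphism of `G₂` in characteristic 3 over a perfect field -/
theorem g2_exists_graph_aut (hperf : ∀ x : K, ∃ y : K, y ^ 3 = x) :
    ∃ σ : ↥(cdG2.D.group K) ≃* ↥(cdG2.D.group K), ∀ (r : ℕ) (hr : r < cdG2.D.nroots) (t : K),
      σ (xG relG2 r hr t) = xG relG2 (g2rho r) (g2rho_lt r hr) (t ^ g2lam r) := by
  haveI : IsSimpleGroup ↥(cdG2.D.group K) := g2_isSimpleGroup (K := K)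
  refine exists_special_isogeny (C := cdG2) relG2 g2_bij g2_zeroBlk g2rho g2lam g2rho_lt g2rho_rho
    ?_ ?_ ?_ ?_
  · intro r hr u
    rcases g2lam_cases r hr with h | h
    · exact ⟨u, by rw [h, pow_one]⟩
    · rw [h]
      exact hperf u
  · exact rel_of_check cdG2.D 3 g2sI g2lI g2sC g2lC g2_sC g2_lC g2rho g2lam g2rho_lt g2_relCheck
  · -- faithfulness on the short part
    apply injective_of_isSimpleGroup _ (xG relG2 7 (by decide) (1 : K))
    intro h
    have h1 := congrArg (fun g : GL (Fin 7) K => (g : Matrix (Fin 7) (Fin 7) K) 0 3) h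
    rw [blkHomS_val, xG_val, Matrix.submatrix_apply, Units.val_one, xMat_eq_evalPoly] at h1
    have e : entryPoly cdG2.D 7 (code cdG2.D (g2sI 3)) (code cdG2.D (g2sI 0)) = [(1, 1)] := by
      decide +kernel
    rw [e] at h1
    simp [evalPoly] at h1
  · apply injective_of_isSimpleGroup _ (xG relG2 6 (by decide) (1 : K))
    intro h
    have h1 := congrArg (fun g : GL (Fin 7) K => (g : Matrix (Fin 7) (Fin 7) K) 0 3) h
    rw [blkHomL_val, xG_val, Matrix.submatrix_apply, Units.val_one, xMat_eq_evalPoly] at h1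
    have e : entryPoly cdG2.D 6 (code cdG2.D (g2lI 3)) (code cdG2.D (g2lI 0)) = [(1, 1)] := by
      decide +kernel
    rw [e] at h1
    simp [evalPoly] at h1

end

end Cfsg.Agent.Lib.Helper3.ChevSp
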