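import Mathlib
import Cfsg.Prelude.Def_ChevStructure
import Cfsg.Prelude.Def_ChevG2
import Cfsg.Agent.Lib.Helper3.Chev2
import Cfsg.Agent.Lib.Helper3.ChevAt2
import Cfsg.Agent.Lib.Helper3.ChevSpG2
import Cfsg.Agent.Lib.Helper3.ChevData.G2UHyp
import Cfsg.Agent.Lib.Helper3.ChevData.G2Bn
import Cfsg.Agent.Lib.Helper3.ChevData.G2NegTri
import Cfsg.Agent.Lib.Helper3.ChevData.G2Sign
set_option autoImplicit false
set_option linter.unusedSectionVars false
set_option linter.style.haveILetI false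
open Cfsg Cfsg.Lie

/-!
The twisting automorphism of `G₂(3^(2m+1))` defining the Ree groups.
-/

namespace Cfsg.Agent.Lib.Helper3.Ree

open Cfsg.Agent.Lib.Helper3.ChevM Cfsg.Agent.Lib.Helper3.ChevSp Cfsg.Agent.Lib.Helper3.ChevAt
open Cfsg.Agent.Lib.Helper3

section
variable {K : Type*} [Field K]

/-- The field automorphism of a Chevalley group. -/
noncomputable def fieldAutG (D : ChevalleyDatum) (f : K ≃+* K) : ↥(D.group K) ≃* ↥(D.group K) :=
  ((glMapEquiv (n := D.Idx) f).subgroupMap (D.group K)).trans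
    (MulEquiv.subgroupCongr (group_map_eq D f))

theorem fieldAutG_coe (D : ChevalleyDatum) (f : K ≃+* K) (g : ↥(D.group K)) :
    ((fieldAutG D f g : ↥(D.group K)) : GL D.Idx K) = glMapEquiv f (g : GL D.Idx K) := rfl

theorem fieldAutG_xG {C : CDatum} (R : RelData C) (f : K ≃+* K) (r : ℕ) (hr : r < C.D.nroots) (t : K) :
    fieldAutG C.D f (xG R r hr t) = xG R r hr (f t) := by
  apply Subtype.ext
  rw [fieldAutG_coe]
  apply Units.ext
  rw [glMapEquiv_coe]
  show (((R.xU r t : GL C.D.Idx K)) : Matrix C.D.Idx C.D.Idx K).map f = ((R.xU r (f t) : GL C.D.Idx K) : Matrix _ _ K)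
  rw [R.xU_val, R.xU_val]
  exact Cfsg.Agent.Lib.Helper3.x_map C.D f r t

end

/-- the exponents of the twisting automorphism -/
def reeE (m : ℕ) (r : ℕ) : ℕ := 3 ^ m * g2lam r

theorem g2rho_pos : ∀ r, cdG2.D.IsPosRoot r → cdG2.D.IsPosRoot (g2rho r) := by
  intro r hr
  have h1 : r < 12 := hr.1
  revert hr
  revert r
  decide

theorem g2rho_negRoot : ∀ r, cdG2.D.IsNegRoot r → cdG2.D.IsNegRoot (g2rho r) := by
  intro r hr
  have h1 : r < 12 := hr.1
  revert hr
  revert r
  decide

theorem g2rho_neg : ∀ r < cdG2.D.nroots, g2rho (cdG2.D.neg r) = cdG2.D.neg (g2rho r) := by decide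

theorem g2lam_neg : ∀ r < cdG2.D.nroots, g2lam (cdG2.D.neg r) = g2lam r := by decide

section
variable {K : Type*} [Field K] [Fintype K] [CharP K 3]

theorem exists_pow_three_pow (k : ℕ) (u : K) : ∃ t : K, t ^ 3 ^ k = u := by
  haveI : Fact (Nat.Prime 3) := ⟨by norm_num⟩
  obtain ⟨t, ht⟩ := (iterateFrobeniusEquiv K 3 k).surjective u
  refine ⟨t, ?_⟩
  rw [← ht, iterateFrobeniusEquiv_def]

/-- the twisting automorphism of `G₂` -/
noncomputable def reeSigma (m : ℕ) : ↥(cdG2.D.group K) ≃* ↥(cdG2.D.group K) :=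
  haveI : Fact (Nat.Prime 3) := ⟨by norm_num⟩
  (fieldAutG cdG2.D (iterateFrobeniusEquiv K 3 m)).trans
    (g2_exists_graph_aut (K := K) (fun x => by simpa using exists_pow_three_pow 1 x)).choose

theorem reeSigma_xG (m : ℕ) (r : ℕ) (hr : r < cdG2.D.nroots) (t : K) :
    reeSigma m (xG relG2 r hr t) = xG relG2 (g2rho r) (g2rho_lt r hr) (t ^ reeE m r) := by
  haveI : Fact (Nat.Prime 3) := ⟨by norm_num⟩
  unfold reeSigma
  rw [MulEquiv.trans_apply, fieldAutG_xG,
    (g2_exists_graph_aut (K := K) (fun x => by simpa using exists_pow_three_pow 1 x)).choose_spec]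
  rw [iterateFrobeniusEquiv_def, ← pow_mul, reeE]

/-- the twisting automorphism as abstract twisting data -/
noncomputable def reeTw (m : ℕ) : AbsTw cdG2 relG2 K where
  σ := reeSigma m
  rho := g2rho
  e := reeE m
  rho_lt := g2rho_lt
  σ_x := reeSigma_xG m
  rho_pos := g2rho_pos
  rho_negRoot := g2rho_negRoot
  rho_neg := g2rho_neg
  rho_surj := fun s hs => ⟨g2rho s, g2rho_lt s hs, g2rho_rho s hs⟩
  e_neg := fun r hr => by
    unfold reeE
    rw [g2lam_neg r hr]
  e_odd := fun r hr => by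
    apply Odd.neg_one_pow
    unfold reeE
    apply Odd.mul (Odd.pow (by decide))
    rcases g2lam_cases r hr with h | h <;> rw [h] <;> decide
  e_surj := fun r hr u => by
    unfold reeE
    rcases g2lam_cases r hr with h | h
    · rw [h, mul_one]
      exact exists_pow_three_pow m u
    · rw [h]
      have : 3 ^ m * 3 = 3 ^ (m + 1) := by ring
      rw [this]
      exact exists_pow_three_pow (m + 1) u

@[simp] theorem reeTw_rho (m : ℕ) : (reeTw (K := K) m).rho = g2rho := rfl
@[simp] theorem reeTw_e (m : ℕ) : (reeTw (K := K) m).e = reeE m := rfl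

end

/-- the table checks for `G₂` -/
def atHypG2 : AtHyp cdG2 relG2 where
  U := uhypG2
  B := bnG2
  ntri := g2NegTri
  sign := g2Sign

/-- the symmetry on the indices of the simple roots -/
def g2p (i : ℕ) : ℕ := 1 - i

theorem g2p_spec : ∀ i < cdG2.D.rank, g2p i < cdG2.D.rank ∧ g2rho (cdG2.D.simple i) = cdG2.D.simple (g2p i) := by
  decide

end Cfsg.Agent.Lib.Helper3.Ree
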