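import Mathlib
import Cfsg.Prelude.Def_ChevStructure
import Cfsg.Prelude.Def_ChevF4
import Cfsg.Agent.Lib.Helper3.Ree1
import Cfsg.Agent.Lib.Helper3.ChevSpF4
import Cfsg.Agent.Lib.Helper3.ChevData.F4UHyp
import Cfsg.Agent.Lib.Helper3.ChevData.F4Bn
import Cfsg.Agent.Lib.Helper3.ChevData.F4NegTri
import Cfsg.Agent.Lib.Helper3.ChevData.F4Sign
set_option autoImplicit false
set_option linter.unusedSectionVars false
set_option linter.style.haveILetI false
open Cfsg Cfsg.Lie

/-!
The twisting automorphism of `F₄(2^(2m+1))` defining the large Ree groups.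
-/

namespace Cfsg.Agent.Lib.Helper3.RF4

open Cfsg.Agent.Lib.Helper3.ChevM Cfsg.Agent.Lib.Helper3.ChevSp Cfsg.Agent.Lib.Helper3.ChevAt
open Cfsg.Agent.Lib.Helper3 Cfsg.Agent.Lib.Helper3.Ree

/-- the exponents of the twisting automorphism -/
def f4E (m : ℕ) (r : ℕ) : ℕ := 2 ^ m * f4lam r

theorem f4rho_pos : ∀ r, cdF4.D.IsPosRoot r → cdF4.D.IsPosRoot (f4rho r) := by
  intro r hr
  have h1 : r < 48 := hr.1
  revert hr
  revert r
  decide +kernel

theorem f4rho_negRoot : ∀ r, cdF4.D.IsNegRoot r → cdF4.D.IsNegRoot (f4rho r) := by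
  intro r hr
  have h1 : r < 48 := hr.1
  revert hr
  revert r
  decide +kernel

theorem f4rho_neg : ∀ r < cdF4.D.nroots, f4rho (cdF4.D.neg r) = cdF4.D.neg (f4rho r) := by decide +kernel

theorem f4lam_neg : ∀ r < cdF4.D.nroots, f4lam (cdF4.D.neg r) = f4lam r := by decide +kernel

section
variable {K : Type*} [Field K] [Fintype K] [CharP K 2]

theorem exists_pow_two_pow (k : ℕ) (u : K) : ∃ t : K, t ^ 2 ^ k = u := by
  haveI : Fact (Nat.Prime 2) := ⟨by norm_num⟩
  obtain ⟨t, ht⟩ := (iterateFrobeniusEquiv K 2 k).surjective u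
  refine ⟨t, ?_⟩
  rw [← ht, iterateFrobeniusEquiv_def]

/-- the twisting automorphism of `F₄` -/
noncomputable def f4Sigma (m : ℕ) : ↥(cdF4.D.group K) ≃* ↥(cdF4.D.group K) :=
  haveI : Fact (Nat.Prime 2) := ⟨by norm_num⟩
  (fieldAutG cdF4.D (iterateFrobeniusEquiv K 2 m)).trans
    (f4_exists_graph_aut (K := K) (fun x => by simpa using exists_pow_two_pow 1 x)).choose

theorem f4Sigma_xG (m : ℕ) (r : ℕ) (hr : r < cdF4.D.nroots) (t : K) :
    f4Sigma m (xG relF4 r hr t) = xG relF4 (f4rho r) (f4rho_lt r hr) (t ^ f4E m r) := by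
  haveI : Fact (Nat.Prime 2) := ⟨by norm_num⟩
  unfold f4Sigma
  rw [MulEquiv.trans_apply, fieldAutG_xG,
    (f4_exists_graph_aut (K := K) (fun x => by simpa using exists_pow_two_pow 1 x)).choose_spec]
  rw [iterateFrobeniusEquiv_def, ← pow_mul, f4E]

theorem neg_one_eq_one : (-1 : K) = 1 := by
  have h2 : (2 : K) = 0 := by
    have := CharP.cast_eq_zero K 2
    exact_mod_cast this
  have : (1 : K) + 1 = 0 := by rw [← h2]; norm_num
  exact (eq_neg_of_add_eq_zero_left this).symm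

/-- the twisting automorphism as abstract twisting data -/
noncomputable def f4Tw (m : ℕ) : AbsTw cdF4 relF4 K where
  σ := f4Sigma m
  rho := f4rho
  e := f4E m
  rho_lt := f4rho_lt
  σ_x := f4Sigma_xG m
  rho_pos := f4rho_pos
  rho_negRoot := f4rho_negRoot
  rho_neg := f4rho_neg
  rho_surj := fun s hs => ⟨f4rho s, f4rho_lt s hs, f4rho_rho s hs⟩
  e_neg := fun r hr => by
    unfold f4E
    rw [f4lam_neg r hr]
  e_odd := fun r hr => by
    rw [neg_one_eq_one, one_pow]
  e_surj := fun r hr u => by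
    unfold f4E
    rcases f4lam_cases r hr with h | h
    · rw [h, mul_one]
      exact exists_pow_two_pow m u
    · rw [h]
      have : 2 ^ m * 2 = 2 ^ (m + 1) := by ring
      rw [this]
      exact exists_pow_two_pow (m + 1) u

@[simp] theorem f4Tw_rho (m : ℕ) : (f4Tw (K := K) m).rho = f4rho := rfl
@[simp] theorem f4Tw_e (m : ℕ) : (f4Tw (K := K) m).e = f4E m := rfl

end

/-- the table checks for `F₄` -/
def atHypF4 : AtHyp cdF4 relF4 where
  U := uhypF4
  B := bnF4
  ntri := f4NegTri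
  sign := f4Sign

/-- the symmetry on the indices of the simple roots -/
def f4p (i : ℕ) : ℕ := 3 - i

theorem f4p_spec : ∀ i < cdF4.D.rank, f4p i < cdF4.D.rank ∧ f4rho (cdF4.D.simple i) = cdF4.D.simple (f4p i) := by
  decide

end Cfsg.Agent.Lib.Helper3.RF4
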