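import Mathlib
set_option autoImplicit false
set_option linter.unusedSectionVars false
set_option linter.style.haveILetI false

/-!
The abstract computation with the four one-parameter subgroups of a maximal unipotent subgroup of
`B₂` in characteristic 2: the elements fixed by the twisting automorphism.
-/

namespace Cfsg.Agent.Lib.Helper3.RF4

/-- Four one-parameter subgroups with the relations of the positive root subgroups of `B₂` in
characteristic 2 (`xa` for the short simple root, `xb` for the long one). -/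
structure BSys (K : Type*) [Field K] (Γ : Type*) [Group Γ] where
  xa : K → Γ
  xb : K → Γ
  x1 : K → Γ
  x2 : K → Γ
  xa_add : ∀ s t, xa (s + t) = xa s * xa t
  xb_add : ∀ s t, xb (s + t) = xb s * xb t
  x1_add : ∀ s t, x1 (s + t) = x1 s * x1 t
  x2_add : ∀ s t, x2 (s + t) = x2 s * x2 t
  ca1 : ∀ s t, Commute (xa s) (x1 t)
  ca2 : ∀ s t, Commute (xa s) (x2 t)
  cb1 : ∀ s t, Commute (xb s) (x1 t)
  cb2 : ∀ s t, Commute (xb s) (x2 t)
  c12 : ∀ s t, Commute (x1 s) (x2 t)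
  core : ∀ t T, xb t * xa T = xa T * xb t * x1 (t * T) * x2 (t * T ^ 2)

theorem hom_zero {K : Type*} [Field K] {Γ : Type*} [Group Γ] {f : K → Γ} (h : ∀ s t, f (s + t) = f s * f t) :
    f 0 = 1 := by
  have := h 0 0
  rw [add_zero] at this
  exact (mul_eq_left.mp this.symm)

section
variable {K : Type*} [Field K] {Γ : Type*} [Group Γ] (S : BSys K Γ)

/-- the products of the four root elements -/
def BSys.nf (a b c d : K) : Γ := S.xa a * S.xb b * S.x1 c * S.x2 d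

theorem BSys.nf_zero : S.nf 0 0 0 0 = 1 := by
  unfold BSys.nf
  rw [hom_zero S.xa_add, hom_zero S.xb_add, hom_zero S.x1_add, hom_zero S.x2_add]
  simp

theorem BSys.nf_mul (a b c d a' b' c' d' : K) :
    S.nf a b c d * S.nf a' b' c' d' = S.nf (a + a') (b + b') (c + c' + b * a') (d + d' + b * a' ^ 2) := by
  unfold BSys.nf
  have h1 : S.xa a * S.xb b * S.x1 c * S.x2 d * (S.xa a' * S.xb b' * S.x1 c' * S.x2 d') =
      S.xa a * (S.xb b * S.xa a') * S.xb b' * (S.x1 c * S.x1 c') * (S.x2 d * S.x2 d') := by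
    have e1 : S.x2 d * (S.xa a' * S.xb b' * S.x1 c' * S.x2 d') =
        S.xa a' * S.xb b' * S.x1 c' * (S.x2 d * S.x2 d') := by
      rw [← mul_assoc, ← mul_assoc, ← mul_assoc, ← (S.ca2 a' d).eq, mul_assoc (S.xa a'), ← (S.cb2 b' d).eq,
        ← mul_assoc, mul_assoc (S.xa a' * S.xb b'), ← (S.c12 c' d).eq]
      simp only [mul_assoc]
    have e2 : S.x1 c * (S.xa a' * S.xb b' * S.x1 c') = S.xa a' * S.xb b' * (S.x1 c * S.x1 c') := by
      rw [← mul_assoc, ← mul_assoc, ← (S.ca1 a' c).eq, mul_assoc (S.xa a'), ← (S.cb1 b' c).eq]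
      simp only [mul_assoc]
    calc S.xa a * S.xb b * S.x1 c * S.x2 d * (S.xa a' * S.xb b' * S.x1 c' * S.x2 d')
        = S.xa a * S.xb b * S.x1 c * (S.x2 d * (S.xa a' * S.xb b' * S.x1 c' * S.x2 d')) := by
          simp only [mul_assoc]
      _ = S.xa a * S.xb b * (S.x1 c * (S.xa a' * S.xb b' * S.x1 c')) * (S.x2 d * S.x2 d') := by
          rw [e1]; simp only [mul_assoc]
      _ = S.xa a * (S.xb b * S.xa a') * S.xb b' * (S.x1 c * S.x1 c') * (S.x2 d * S.x2 d') := by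
          rw [e2]; simp only [mul_assoc]
  rw [h1, S.core b a']
  have h2 : S.xa a * (S.xa a' * S.xb b * S.x1 (b * a') * S.x2 (b * a' ^ 2)) * S.xb b' * (S.x1 c * S.x1 c') *
      (S.x2 d * S.x2 d') =
      (S.xa a * S.xa a') * (S.xb b * S.xb b') * (S.x1 (b * a') * (S.x1 c * S.x1 c')) *
        (S.x2 (b * a' ^ 2) * (S.x2 d * S.x2 d')) := by
    have e3 : S.x2 (b * a' ^ 2) * S.xb b' = S.xb b' * S.x2 (b * a' ^ 2) := ((S.cb2 b' _).eq).symm
    have e4 : S.x1 (b * a') * S.xb b' = S.xb b' * S.x1 (b * a') := ((S.cb1 b' _).eq).symm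
    have e5 : S.x2 (b * a' ^ 2) * (S.x1 c * S.x1 c') = (S.x1 c * S.x1 c') * S.x2 (b * a' ^ 2) := by
      rw [← S.x1_add]
      exact ((S.c12 _ _).eq).symm
    calc S.xa a * (S.xa a' * S.xb b * S.x1 (b * a') * S.x2 (b * a' ^ 2)) * S.xb b' * (S.x1 c * S.x1 c') *
          (S.x2 d * S.x2 d')
        = S.xa a * S.xa a' * S.xb b * S.x1 (b * a') * (S.x2 (b * a' ^ 2) * S.xb b') * (S.x1 c * S.x1 c') *
          (S.x2 d * S.x2 d') := by simp only [mul_assoc]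
      _ = S.xa a * S.xa a' * S.xb b * (S.x1 (b * a') * S.xb b') * S.x2 (b * a' ^ 2) * (S.x1 c * S.x1 c') *
          (S.x2 d * S.x2 d') := by rw [e3]; simp only [mul_assoc]
      _ = S.xa a * S.xa a' * S.xb b * S.xb b' * S.x1 (b * a') * (S.x2 (b * a' ^ 2) * (S.x1 c * S.x1 c')) *
          (S.x2 d * S.x2 d') := by rw [e4]; simp only [mul_assoc]
      _ = (S.xa a * S.xa a') * (S.xb b * S.xb b') * (S.x1 (b * a') * (S.x1 c * S.x1 c')) *
          (S.x2 (b * a' ^ 2) * (S.x2 d * S.x2 d')) := by rw [e5]; simp only [mul_assoc]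
  rw [h2, ← S.xa_add, ← S.xb_add, ← S.x1_add, ← S.x1_add, ← S.x2_add, ← S.x2_add]
  congr 2 <;> ring_nf

end

section
variable {K : Type*} [Field K] [CharP K 2] {Γ : Type*} [Group Γ] (S : BSys K Γ)

theorem BSys.nf_inv (a b c d : K) : (S.nf a b c d)⁻¹ = S.nf a b (c + b * a) (d + b * a ^ 2) := by
  apply inv_eq_of_mul_eq_one_right
  rw [S.nf_mul]
  have e1 : a + a = 0 := CharTwo.add_self_eq_zero a
  have e2 : b + b = 0 := CharTwo.add_self_eq_zero b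
  have e3 : c + (c + b * a) + b * a = 0 := by
    have : c + (c + b * a) + b * a = (c + c) + (b * a + b * a) := by ring
    rw [this, CharTwo.add_self_eq_zero, CharTwo.add_self_eq_zero, add_zero]
  have e4 : d + (d + b * a ^ 2) + b * a ^ 2 = 0 := by
    have : d + (d + b * a ^ 2) + b * a ^ 2 = (d + d) + (b * a ^ 2 + b * a ^ 2) := by ring
    rw [this, CharTwo.add_self_eq_zero, CharTwo.add_self_eq_zero, add_zero]
  rw [e1, e2, e3, e4]
  exact S.nf_zero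

/-- the properties of the exponent `θ` -/
structure ThetaHyp2 (K : Type*) [Field K] (θ : ℕ) : Prop where
  add : ∀ x y : K, (x + y) ^ θ = x ^ θ + y ^ θ
  add2 : ∀ x y : K, (x + y) ^ (2 * θ) = x ^ (2 * θ) + y ^ (2 * θ)
  inv : ∀ x : K, (x ^ θ) ^ (2 * θ) = x

theorem ThetaHyp2.inv' {θ : ℕ} (hθ : ThetaHyp2 K θ) (x : K) : (x ^ (2 * θ)) ^ θ = x := by
  rw [← pow_mul, mul_comm, pow_mul]
  exact hθ.inv x

/-- the elements which will be fixed by the twisting automorphism -/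
def BSys.cls (θ : ℕ) (t u : K) : Γ := S.nf (t ^ θ) t (t ^ (θ + 1) + u) (u ^ (2 * θ))

theorem ThetaHyp2.pow_succ_pow {θ : ℕ} (hθ : ThetaHyp2 K θ) (t : K) :
    (t ^ (θ + 1)) ^ (2 * θ) = t * t ^ (2 * θ) := by
  rw [pow_succ, mul_pow, hθ.inv]

theorem ThetaHyp2.pow_sq {θ : ℕ} (t : K) : (t ^ θ) ^ 2 = t ^ (2 * θ) := by
  rw [← pow_mul, mul_comm]

theorem BSys.cls_mul {θ : ℕ} (hθ : ThetaHyp2 K θ) (t u t' u' : K) :
    S.cls θ t u * S.cls θ t' u' = S.cls θ (t + t') (u + u' + t ^ θ * t') := by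
  unfold BSys.cls
  rw [S.nf_mul, hθ.add]
  have h2 : (2 : K) = 0 := CharTwo.two_eq_zero
  congr 1
  · rw [pow_succ, pow_succ, pow_succ, hθ.add]
    linear_combination (-(t ^ θ * t')) * h2
  · rw [hθ.add2, hθ.add2, mul_pow, hθ.inv, ThetaHyp2.pow_sq]

theorem BSys.cls_zero {θ : ℕ} (hθ : θ ≠ 0) : S.cls θ 0 0 = 1 := by
  unfold BSys.cls
  rw [zero_pow hθ, zero_pow (by omega : θ + 1 ≠ 0), zero_pow (by omega : 2 * θ ≠ 0), add_zero]
  exact S.nf_zero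

/-- the action of the twisting automorphism -/
structure BSys.Tw (σ : Γ →* Γ) (θ : ℕ) : Prop where
  xa : ∀ c, σ (S.xa c) = S.xb (c ^ (2 * θ))
  xb : ∀ c, σ (S.xb c) = S.xa (c ^ θ)
  x1 : ∀ c, σ (S.x1 c) = S.x2 (c ^ (2 * θ))
  x2 : ∀ c, σ (S.x2 c) = S.x1 (c ^ θ)

variable {S}

theorem BSys.Tw.nf {σ : Γ →* Γ} {θ : ℕ} (h : S.Tw σ θ) (a b c d : K) :
    σ (S.nf a b c d) = S.nf (b ^ θ) (a ^ (2 * θ)) (a ^ (2 * θ) * b ^ θ + d ^ θ)
      (a ^ (2 * θ) * (b ^ θ) ^ 2 + c ^ (2 * θ)) := by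
  unfold BSys.nf
  rw [map_mul, map_mul, map_mul, h.xa, h.xb, h.x1, h.x2, S.core, S.x1_add, S.x2_add]
  have e : S.x2 (c ^ (2 * θ)) * S.x1 (d ^ θ) = S.x1 (d ^ θ) * S.x2 (c ^ (2 * θ)) := ((S.c12 _ _).eq).symm
  have e2 : S.x2 (a ^ (2 * θ) * (b ^ θ) ^ 2) * S.x1 (d ^ θ) = S.x1 (d ^ θ) * S.x2 (a ^ (2 * θ) * (b ^ θ) ^ 2) :=
    ((S.c12 _ _).eq).symm
  calc S.xa (b ^ θ) * S.xb (a ^ (2 * θ)) * S.x1 (a ^ (2 * θ) * b ^ θ) * S.x2 (a ^ (2 * θ) * (b ^ θ) ^ 2) *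
        S.x2 (c ^ (2 * θ)) * S.x1 (d ^ θ)
      = S.xa (b ^ θ) * S.xb (a ^ (2 * θ)) * S.x1 (a ^ (2 * θ) * b ^ θ) * S.x2 (a ^ (2 * θ) * (b ^ θ) ^ 2) *
        (S.x2 (c ^ (2 * θ)) * S.x1 (d ^ θ)) := by simp only [mul_assoc]
    _ = S.xa (b ^ θ) * S.xb (a ^ (2 * θ)) * S.x1 (a ^ (2 * θ) * b ^ θ) *
        (S.x2 (a ^ (2 * θ) * (b ^ θ) ^ 2) * S.x1 (d ^ θ)) * S.x2 (c ^ (2 * θ)) := by
        rw [e]; simp only [mul_assoc]
    _ = S.xa (b ^ θ) * S.xb (a ^ (2 * θ)) * (S.x1 (a ^ (2 * θ) * b ^ θ) * S.x1 (d ^ θ)) *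
        (S.x2 (a ^ (2 * θ) * (b ^ θ) ^ 2) * S.x2 (c ^ (2 * θ))) := by
        rw [e2]; simp only [mul_assoc]

/-- the distinguished elements are fixed -/
theorem BSys.Tw.cls_fixed {σ : Γ →* Γ} {θ : ℕ} (h : S.Tw σ θ) (hθ : ThetaHyp2 K θ) (t u : K) :
    σ (S.cls θ t u) = S.cls θ t u := by
  unfold BSys.cls
  rw [h.nf, hθ.inv, hθ.inv' u]
  have h2 : (2 : K) = 0 := CharTwo.two_eq_zero
  congr 1
  · rw [pow_succ, mul_comm]
  · rw [hθ.add2, hθ.pow_succ_pow, ThetaHyp2.pow_sq]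
    linear_combination (t * t ^ (2 * θ)) * h2

/-- uniqueness of the coordinates -/
def BSys.Inj (S : BSys K Γ) : Prop := ∀ a b c d a' b' c' d' : K,
  S.nf a b c d = S.nf a' b' c' d' → a = a' ∧ b = b' ∧ c = c' ∧ d = d'

theorem BSys.Inj.cls_inj (hinj : S.Inj) (θ : ℕ) (t u t' u' : K) (h : S.cls θ t u = S.cls θ t' u') :
    t = t' ∧ u = u' := by
  unfold BSys.cls at h
  obtain ⟨-, h2, h3, -⟩ := hinj _ _ _ _ _ _ _ _ h
  subst h2
  exact ⟨rfl, add_left_cancel h3⟩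

/-- a fixed element is one of the distinguished elements -/
theorem BSys.Tw.eq_cls_of_fixed {σ : Γ →* Γ} {θ : ℕ} (h : S.Tw σ θ) (hθ : ThetaHyp2 K θ) (hinj : S.Inj)
    (a b c d : K) (hfix : σ (S.nf a b c d) = S.nf a b c d) :
    S.nf a b c d = S.cls θ b (c + b ^ (θ + 1)) := by
  rw [h.nf] at hfix
  obtain ⟨h1, h2, h3, h4⟩ := hinj _ _ _ _ _ _ _ _ hfix
  unfold BSys.cls
  have e1 : b ^ (θ + 1) + (c + b ^ (θ + 1)) = c := by
    have : b ^ (θ + 1) + (c + b ^ (θ + 1)) = c + (b ^ (θ + 1) + b ^ (θ + 1)) := by ring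
    rw [this, CharTwo.add_self_eq_zero, add_zero]
  have e2 : (c + b ^ (θ + 1)) ^ (2 * θ) = d := by
    rw [hθ.add2, hθ.pow_succ_pow, ← h4, ← h1, hθ.inv b, ThetaHyp2.pow_sq]
    ring
  rw [e1, e2, ← h1]

end

end Cfsg.Agent.Lib.Helper3.RF4
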