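import Mathlib
import Cfsg.Prelude.Def_ChevStructure
import Cfsg.Prelude.Def_ChevF4
import Cfsg.Prelude.Def_LieTwisted
import Cfsg.Agent.Lib.Helper3.ChevMp2
import Cfsg.Agent.Lib.Helper3.F4T1
import Cfsg.Agent.Lib.Helper3.F4T2
set_option autoImplicit false
set_option linter.unusedSectionVars false
set_option linter.style.haveILetI false
open Cfsg Cfsg.Lie

/-!
The identities between root elements of `F₄` in characteristic 2 used for the large Ree groups, and
the two systems of type `B₂`.
-/

namespace Cfsg.Agent.Lib.Helper3.RF4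

open Cfsg.Agent.Lib.Helper3.ChevM Cfsg.Agent.Lib.Helper3.ChevSp Cfsg.Agent.Lib.Helper3.ChevAt
open Cfsg.Agent.Lib.Helper3

section
variable {K : Type*} [Field K] [CharP K 2]

/-- two root elements commute when the table check says so -/
theorem f4_comm_of_check (r s : ℕ) (hr : r < cdF4.D.nroots) (hs : s < cdF4.D.nroots)
    (h : checkMWmod 2 (cdF4.D.rank + cdF4.D.nroots)
      ([(r, 1, 1, 0), (s, 1, 0, 1)].map fun q : ℕ × ℤ × ℤ × ℤ => cdF4.xMono q.1 q.2.1 q.2.2.1 q.2.2.2)
      ([(s, 1, 0, 1), (r, 1, 1, 0)].map fun q : ℕ × ℤ × ℤ × ℤ => cdF4.xMono q.1 q.2.1 q.2.2.1 q.2.2.2) = true)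
    (c c' : K) : relF4.xU r c * relF4.xU s c' = relF4.xU s c' * relF4.xU r c := by
  by_cases hc : c = 0
  · subst hc
    simp [RelData.xU_zero']
  by_cases hc' : c' = 0
  · subst hc'
    simp [RelData.xU_zero']
  have := relF4.word_eq_of_check_gen 2 c c' hc hc'
    [(r, 1, 1, 0), (s, 1, 0, 1)] [(s, 1, 0, 1), (r, 1, 1, 0)]
    (by
      intro q hq
      simp only [List.mem_cons, List.not_mem_nil, or_false] at hq
      rcases hq with rfl | rfl <;> assumption)
    (by
      intro q hq
      simp only [List.mem_cons, List.not_mem_nil, or_false] at hq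
      rcases hq with rfl | rfl <;> assumption)
    h
  simpa [mul_assoc] using this

/-- the core identity for the positive roots of the subsystem of type `B₂` -/
theorem core_b2_pos (t T : K) :
    relF4.xU 25 t * relF4.xU 27 T =
      relF4.xU 27 T * relF4.xU 25 t * relF4.xU 28 (t * T) * relF4.xU 30 (t * T ^ 2) := by
  by_cases ht : t = 0
  · subst ht
    simp [RelData.xU_zero']
  by_cases hT : T = 0
  · subst hT
    simp [RelData.xU_zero']
  have := relF4.word_eq_of_check_gen 2 t T ht hT
    [(25, 1, 1, 0), (27, 1, 0, 1)]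
    [(27, 1, 0, 1), (25, 1, 1, 0), (28, 1, 1, 1), (30, 1, 1, 2)]
    (by decide) (by decide) (by decide +kernel)
  simpa [mul_assoc] using this

/-- the core identity for the negative roots of the subsystem of type `B₂` -/
theorem core_b2_neg (t T : K) :
    relF4.xU 22 t * relF4.xU 20 T =
      relF4.xU 20 T * relF4.xU 22 t * relF4.xU 19 (t * T) * relF4.xU 17 (t * T ^ 2) := by
  by_cases ht : t = 0
  · subst ht
    simp [RelData.xU_zero']
  by_cases hT : T = 0
  · subst hT
    simp [RelData.xU_zero']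
  have := relF4.word_eq_of_check_gen 2 t T ht hT
    [(22, 1, 1, 0), (20, 1, 0, 1)]
    [(20, 1, 0, 1), (22, 1, 1, 0), (19, 1, 1, 1), (17, 1, 1, 2)]
    (by decide) (by decide) (by decide +kernel)
  simpa [mul_assoc] using this

theorem xG_add' (r : ℕ) (hr : r < cdF4.D.nroots) (s t : K) :
    xG relF4 r hr (s + t) = xG relF4 r hr s * xG relF4 r hr t := by
  apply Subtype.ext
  show relF4.xU r (s + t) = relF4.xU r s * relF4.xU r t
  rw [relF4.xU_add]

theorem xG_commute' (r s : ℕ) (hr : r < cdF4.D.nroots) (hs : s < cdF4.D.nroots)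
    (h : checkMWmod 2 (cdF4.D.rank + cdF4.D.nroots)
      ([(r, 1, 1, 0), (s, 1, 0, 1)].map fun q : ℕ × ℤ × ℤ × ℤ => cdF4.xMono q.1 q.2.1 q.2.2.1 q.2.2.2)
      ([(s, 1, 0, 1), (r, 1, 1, 0)].map fun q : ℕ × ℤ × ℤ × ℤ => cdF4.xMono q.1 q.2.1 q.2.2.1 q.2.2.2) = true)
    (c c' : K) : Commute (xG relF4 r hr c) (xG relF4 s hs c') :=
  Subtype.ext (f4_comm_of_check r s hr hs h c c')

/-- the positive system of type `B₂` -/
def b2SysPos (K : Type*) [Field K] [CharP K 2] : BSys K ↥(cdF4.D.group K) where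
  xa := xG relF4 27 (by decide)
  xb := xG relF4 25 (by decide)
  x1 := xG relF4 28 (by decide)
  x2 := xG relF4 30 (by decide)
  xa_add := xG_add' 27 (by decide)
  xb_add := xG_add' 25 (by decide)
  x1_add := xG_add' 28 (by decide)
  x2_add := xG_add' 30 (by decide)
  ca1 := xG_commute' 27 28 (by decide) (by decide) (by decide +kernel)
  ca2 := xG_commute' 27 30 (by decide) (by decide) (by decide +kernel)
  cb1 := xG_commute' 25 28 (by decide) (by decide) (by decide +kernel)
  cb2 := xG_commute' 25 30 (by decide) (by decide) (by decide +kernel)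
  c12 := xG_commute' 28 30 (by decide) (by decide) (by decide +kernel)
  core := fun t T => Subtype.ext (core_b2_pos t T)

/-- the negative system of type `B₂` -/
def b2SysNeg (K : Type*) [Field K] [CharP K 2] : BSys K ↥(cdF4.D.group K) where
  xa := xG relF4 20 (by decide)
  xb := xG relF4 22 (by decide)
  x1 := xG relF4 19 (by decide)
  x2 := xG relF4 17 (by decide)
  xa_add := xG_add' 20 (by decide)
  xb_add := xG_add' 22 (by decide)
  x1_add := xG_add' 19 (by decide)
  x2_add := xG_add' 17 (by decide)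
  ca1 := xG_commute' 20 19 (by decide) (by decide) (by decide +kernel)
  ca2 := xG_commute' 20 17 (by decide) (by decide) (by decide +kernel)
  cb1 := xG_commute' 22 19 (by decide) (by decide) (by decide +kernel)
  cb2 := xG_commute' 22 17 (by decide) (by decide) (by decide +kernel)
  c12 := xG_commute' 19 17 (by decide) (by decide) (by decide +kernel)
  core := fun t T => Subtype.ext (core_b2_neg t T)

end

section
variable {K : Type*} [Field K] [Fintype K] [CharP K 2]

theorem f4Sigma_xG' (m : ℕ) (r s : ℕ) (hr : r < cdF4.D.nroots) (hs : s < cdF4.D.nroots) (e : ℕ)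
    (h1 : f4rho r = s) (h2 : 2 ^ m * f4lam r = e) (c : K) :
    f4Sigma m (xG relF4 r hr c) = xG relF4 s hs (c ^ e) := by
  subst h1 h2
  exact f4Sigma_xG m r hr c

theorem b2SysPos_tw (m : ℕ) : (b2SysPos K).Tw (f4Sigma (K := K) m).toMonoidHom (2 ^ m) where
  xa := fun c => f4Sigma_xG' m 27 25 (by decide) (by decide) _ (by decide) (by rw [mul_comm]; rfl) c
  xb := fun c => f4Sigma_xG' m 25 27 (by decide) (by decide) _ (by decide) (by rw [show f4lam 25 = 1 from rfl, mul_one]) c
  x1 := fun c => f4Sigma_xG' m 28 30 (by decide) (by decide) _ (by decide) (by rw [mul_comm]; rfl) c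
  x2 := fun c => f4Sigma_xG' m 30 28 (by decide) (by decide) _ (by decide) (by rw [show f4lam 30 = 1 from rfl, mul_one]) c

theorem b2SysNeg_tw (m : ℕ) : (b2SysNeg K).Tw (f4Sigma (K := K) m).toMonoidHom (2 ^ m) where
  xa := fun c => f4Sigma_xG' m 20 22 (by decide) (by decide) _ (by decide) (by rw [mul_comm]; rfl) c
  xb := fun c => f4Sigma_xG' m 22 20 (by decide) (by decide) _ (by decide) (by rw [show f4lam 22 = 1 from rfl, mul_one]) c
  x1 := fun c => f4Sigma_xG' m 19 17 (by decide) (by decide) _ (by decide) (by rw [mul_comm]; rfl) c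
  x2 := fun c => f4Sigma_xG' m 17 19 (by decide) (by decide) _ (by decide) (by rw [show f4lam 17 = 1 from rfl, mul_one]) c

theorem add_pow_two_pow (m : ℕ) (x y : K) : (x + y) ^ 2 ^ m = x ^ 2 ^ m + y ^ 2 ^ m := by
  haveI : Fact (Nat.Prime 2) := ⟨by norm_num⟩
  exact add_pow_char_pow x y 2 m

theorem thetaHyp2_of_card (m : ℕ) (hK : Fintype.card K = 2 ^ (2 * m + 1)) : ThetaHyp2 K (2 ^ m) where
  add := add_pow_two_pow m
  add2 := fun x y => by
    have : 2 * 2 ^ m = 2 ^ (m + 1) := by ring
    rw [this]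
    exact add_pow_two_pow (m + 1) x y
  inv := fun x => by
    rw [← pow_mul]
    have : 2 ^ m * (2 * 2 ^ m) = 2 ^ (2 * m + 1) := by ring
    rw [this, ← hK]
    exact FiniteField.pow_card x

end

end Cfsg.Agent.Lib.Helper3.RF4
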