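import Mathlib
import Cfsg.Prelude.Def_ChevStructure
import Cfsg.Prelude.Def_ChevF4
import Cfsg.Prelude.Def_LieTwisted
import Cfsg.Agent.Lib.Helper3.F4T3
set_option autoImplicit false
set_option linter.unusedSectionVars false
set_option linter.style.haveILetI false
open Cfsg Cfsg.Lie

/-!
The generators of the twisted group of type `F₄`, and the group of fixed points of the twisting
automorphism.
-/

namespace Cfsg.Agent.Lib.Helper3.RF4

open Cfsg.Agent.Lib.Helper3.ChevM Cfsg.Agent.Lib.Helper3.ChevSp Cfsg.Agent.Lib.Helper3.ChevAt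
open Cfsg.Agent.Lib.Helper3

section
variable {K : Type*} [Field K] [CharP K 2]

/-- the twisted group -/
def tF4 (K : Type*) [Field K] (θ : ℕ) : Subgroup (GL cdF4.D.Idx K) := cdF4.D.genSubgroup K (f4Words K θ)

/-- the distinguished positive elements of the class of type `B₂` -/
def clsP (θ : ℕ) (t u : K) : GL cdF4.D.Idx K :=
  (((b2SysPos K).cls θ t u : ↥(cdF4.D.group K)) : GL cdF4.D.Idx K)

/-- the distinguished negative elements of the class of type `B₂` -/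
def clsN (θ : ℕ) (t u : K) : GL cdF4.D.Idx K :=
  (((b2SysNeg K).cls θ t u : ↥(cdF4.D.group K)) : GL cdF4.D.Idx K)

/-- the distinguished positive elements of the class of type `A₁ × A₁` -/
def pairP (θ : ℕ) (t : K) : GL cdF4.D.Idx K := relF4.xU 33 (t ^ θ) * relF4.xU 24 t

/-- the distinguished negative elements of the class of type `A₁ × A₁` -/
def pairN (θ : ℕ) (t : K) : GL cdF4.D.Idx K := relF4.xU 14 (t ^ θ) * relF4.xU 23 t

theorem clsP_eq (θ : ℕ) (t u : K) :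
    clsP θ t u = relF4.xU 27 (t ^ θ) * relF4.xU 25 t * relF4.xU 28 (t ^ (θ + 1) + u) * relF4.xU 30 (u ^ (2 * θ)) :=
  rfl

theorem clsN_eq (θ : ℕ) (t u : K) :
    clsN θ t u = relF4.xU 20 (t ^ θ) * relF4.xU 22 t * relF4.xU 19 (t ^ (θ + 1) + u) * relF4.xU 17 (u ^ (2 * θ)) :=
  rfl

theorem clsP_val (θ : ℕ) (t u : K) :
    ((clsP θ t u : GL cdF4.D.Idx K) : Matrix cdF4.D.Idx cdF4.D.Idx K) =
      chevF4.wordMat K (b2ClassWord θ f4a f4b f4ab f4aab t u) := by
  show _ = cdF4.D.wordMat K (b2ClassWord θ f4a f4b f4ab f4aab t u)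
  rw [← relF4.wordU_val]
  congr 1
  simp [clsP_eq, b2ClassWord, RelData.wordU, mul_assoc, f4a, f4b, f4ab, f4aab]

theorem clsN_val (θ : ℕ) (t u : K) :
    ((clsN θ t u : GL cdF4.D.Idx K) : Matrix cdF4.D.Idx cdF4.D.Idx K) =
      chevF4.wordMat K (b2ClassWord θ f4ma f4mb f4mab f4maab t u) := by
  show _ = cdF4.D.wordMat K (b2ClassWord θ f4ma f4mb f4mab f4maab t u)
  rw [← relF4.wordU_val]
  congr 1
  simp [clsN_eq, b2ClassWord, RelData.wordU, mul_assoc, f4ma, f4mb, f4mab, f4maab]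

theorem pairP_val (θ : ℕ) (t : K) :
    ((pairP θ t : GL cdF4.D.Idx K) : Matrix cdF4.D.Idx cdF4.D.Idx K) =
      chevF4.wordMat K (f4PairWord θ f4p1 f4p4 t) := by
  show _ = cdF4.D.wordMat K (f4PairWord θ f4p1 f4p4 t)
  rw [← relF4.wordU_val]
  congr 1
  simp [pairP, f4PairWord, RelData.wordU, f4p1, f4p4]

theorem pairN_val (θ : ℕ) (t : K) :
    ((pairN θ t : GL cdF4.D.Idx K) : Matrix cdF4.D.Idx cdF4.D.Idx K) =
      chevF4.wordMat K (f4PairWord θ f4m1 f4m4 t) := by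
  show _ = cdF4.D.wordMat K (f4PairWord θ f4m1 f4m4 t)
  rw [← relF4.wordU_val]
  congr 1
  simp [pairN, f4PairWord, RelData.wordU, f4m1, f4m4]

theorem clsP_mem_tF4 (θ : ℕ) (t u : K) : clsP θ t u ∈ tF4 K θ :=
  Subgroup.subset_closure ⟨_, Or.inr ⟨t, u, Or.inl rfl⟩, clsP_val θ t u⟩

theorem clsN_mem_tF4 (θ : ℕ) (t u : K) : clsN θ t u ∈ tF4 K θ :=
  Subgroup.subset_closure ⟨_, Or.inr ⟨t, u, Or.inr rfl⟩, clsN_val θ t u⟩

theorem pairP_mem_tF4 (θ : ℕ) (t : K) : pairP θ t ∈ tF4 K θ :=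
  Subgroup.subset_closure ⟨_, Or.inl ⟨t, Or.inl rfl⟩, pairP_val θ t⟩

theorem pairN_mem_tF4 (θ : ℕ) (t : K) : pairN θ t ∈ tF4 K θ :=
  Subgroup.subset_closure ⟨_, Or.inl ⟨t, Or.inr rfl⟩, pairN_val θ t⟩

theorem comm_33_24 (c c' : K) : relF4.xU 33 c * relF4.xU 24 c' = relF4.xU 24 c' * relF4.xU 33 c :=
  f4_comm_of_check 33 24 (by decide) (by decide) (by decide +kernel) c c'

theorem comm_14_23 (c c' : K) : relF4.xU 14 c * relF4.xU 23 c' = relF4.xU 23 c' * relF4.xU 14 c :=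
  f4_comm_of_check 14 23 (by decide) (by decide) (by decide +kernel) c c'

theorem clsP_mem_group (θ : ℕ) (t u : K) : clsP θ t u ∈ cdF4.D.group K := Subtype.property _

theorem clsN_mem_group (θ : ℕ) (t u : K) : clsN θ t u ∈ cdF4.D.group K := Subtype.property _

theorem pairP_mem_group (θ : ℕ) (t : K) : pairP θ t ∈ cdF4.D.group K :=
  Subgroup.mul_mem _ (relF4.xU_mem_group 33 (by decide) _) (relF4.xU_mem_group 24 (by decide) _)

theorem pairN_mem_group (θ : ℕ) (t : K) : pairN θ t ∈ cdF4.D.group K :=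
  Subgroup.mul_mem _ (relF4.xU_mem_group 14 (by decide) _) (relF4.xU_mem_group 23 (by decide) _)

end

section
variable {K : Type*} [Field K] [Fintype K] [CharP K 2]

theorem sg_clsP (m : ℕ) (hK : Fintype.card K = 2 ^ (2 * m + 1)) (t u : K) :
    (f4Tw (K := K) m).sg (clsP (2 ^ m) t u) = clsP (2 ^ m) t u := by
  unfold clsP
  rw [(f4Tw (K := K) m).sg_of_mem (Subtype.property _)]
  have := (b2SysPos_tw (K := K) m).cls_fixed (thetaHyp2_of_card m hK) t u
  exact congrArg Subtype.val this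

theorem sg_clsN (m : ℕ) (hK : Fintype.card K = 2 ^ (2 * m + 1)) (t u : K) :
    (f4Tw (K := K) m).sg (clsN (2 ^ m) t u) = clsN (2 ^ m) t u := by
  unfold clsN
  rw [(f4Tw (K := K) m).sg_of_mem (Subtype.property _)]
  have := (b2SysNeg_tw (K := K) m).cls_fixed (thetaHyp2_of_card m hK) t u
  exact congrArg Subtype.val this

theorem sg_pairP (m : ℕ) (hK : Fintype.card K = 2 ^ (2 * m + 1)) (t : K) :
    (f4Tw (K := K) m).sg (pairP (2 ^ m) t) = pairP (2 ^ m) t := by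
  have hθ := thetaHyp2_of_card (K := K) m hK
  unfold pairP
  rw [(f4Tw (K := K) m).sg_mul (relF4.xU_mem_group 33 (by decide) _) (relF4.xU_mem_group 24 (by decide) _),
    (f4Tw (K := K) m).sg_xU 33 (by decide), (f4Tw (K := K) m).sg_xU 24 (by decide)]
  have e1 : (f4Tw (K := K) m).rho 33 = 24 := rfl
  have e2 : (f4Tw (K := K) m).rho 24 = 33 := rfl
  have e3 : (f4Tw (K := K) m).e 33 = 2 * 2 ^ m := by
    show 2 ^ m * f4lam 33 = 2 * 2 ^ m
    rw [mul_comm]; rfl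
  have e4 : (f4Tw (K := K) m).e 24 = 2 ^ m := by
    show 2 ^ m * f4lam 24 = 2 ^ m
    rw [show f4lam 24 = 1 from rfl, mul_one]
  rw [e1, e2, e3, e4, hθ.inv, comm_33_24]

theorem sg_pairN (m : ℕ) (hK : Fintype.card K = 2 ^ (2 * m + 1)) (t : K) :
    (f4Tw (K := K) m).sg (pairN (2 ^ m) t) = pairN (2 ^ m) t := by
  have hθ := thetaHyp2_of_card (K := K) m hK
  unfold pairN
  rw [(f4Tw (K := K) m).sg_mul (relF4.xU_mem_group 14 (by decide) _) (relF4.xU_mem_group 23 (by decide) _),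
    (f4Tw (K := K) m).sg_xU 14 (by decide), (f4Tw (K := K) m).sg_xU 23 (by decide)]
  have e1 : (f4Tw (K := K) m).rho 14 = 23 := rfl
  have e2 : (f4Tw (K := K) m).rho 23 = 14 := rfl
  have e3 : (f4Tw (K := K) m).e 14 = 2 * 2 ^ m := by
    show 2 ^ m * f4lam 14 = 2 * 2 ^ m
    rw [mul_comm]; rfl
  have e4 : (f4Tw (K := K) m).e 23 = 2 ^ m := by
    show 2 ^ m * f4lam 23 = 2 ^ m
    rw [show f4lam 23 = 1 from rfl, mul_one]
  rw [e1, e2, e3, e4, hθ.inv, comm_14_23]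

/-- the fixed points of the twisting automorphism -/
def fixF (K : Type*) [Field K] [Fintype K] [CharP K 2] (m : ℕ) : Subgroup (GL cdF4.D.Idx K) where
  carrier := {g | g ∈ cdF4.D.group K ∧ (f4Tw (K := K) m).sg g = g}
  mul_mem' := by
    rintro a b ⟨ha, ha'⟩ ⟨hb, hb'⟩
    exact ⟨Subgroup.mul_mem _ ha hb, by rw [(f4Tw (K := K) m).sg_mul ha hb, ha', hb']⟩
  one_mem' := ⟨Subgroup.one_mem _, (f4Tw (K := K) m).sg_one⟩
  inv_mem' := by
    rintro a ⟨ha, ha'⟩
    exact ⟨Subgroup.inv_mem _ ha, by rw [(f4Tw (K := K) m).sg_inv ha, ha']⟩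

theorem mem_fixF (m : ℕ) (g : GL cdF4.D.Idx K) :
    g ∈ fixF K m ↔ g ∈ cdF4.D.group K ∧ (f4Tw (K := K) m).sg g = g := Iff.rfl

theorem tF4_le_fixF (m : ℕ) (hK : Fintype.card K = 2 ^ (2 * m + 1)) : tF4 K (2 ^ m) ≤ fixF K m := by
  unfold tF4 ChevalleyDatum.genSubgroup
  rw [Subgroup.closure_le]
  rintro g ⟨w, (⟨t, rfl | rfl⟩ | ⟨t, u, rfl | rfl⟩), hg⟩
  · have : g = pairP (2 ^ m) t := Units.ext (hg.trans (pairP_val _ t).symm)
    rw [this]
    exact ⟨pairP_mem_group _ t, sg_pairP m hK t⟩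
  · have : g = pairN (2 ^ m) t := Units.ext (hg.trans (pairN_val _ t).symm)
    rw [this]
    exact ⟨pairN_mem_group _ t, sg_pairN m hK t⟩
  · have : g = clsP (2 ^ m) t u := Units.ext (hg.trans (clsP_val _ t u).symm)
    rw [this]
    exact ⟨clsP_mem_group _ t u, sg_clsP m hK t u⟩
  · have : g = clsN (2 ^ m) t u := Units.ext (hg.trans (clsN_val _ t u).symm)
    rw [this]
    exact ⟨clsN_mem_group _ t u, sg_clsN m hK t u⟩

theorem tF4_le_group (θ : ℕ) : tF4 K θ ≤ cdF4.D.group K := by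
  unfold tF4 ChevalleyDatum.genSubgroup
  rw [Subgroup.closure_le]
  rintro g ⟨w, -, hg⟩
  have : g = relF4.wordU w := Units.ext (hg.trans (relF4.wordU_val w).symm)
  rw [this]
  unfold RelData.wordU
  apply Subgroup.list_prod_mem
  intro x hx
  obtain ⟨p, -, rfl⟩ := List.mem_map.mp hx
  by_cases hp : p.1 < cdF4.D.nroots
  · exact relF4.xU_mem_group p.1 hp p.2
  · have : relF4.xU p.1 p.2 = (1 : GL cdF4.D.Idx K) := by
      apply Units.ext
      rw [relF4.xU_val]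
      unfold ChevalleyDatum.x
      rw [dif_neg hp]
      rfl
    rw [this]
    exact Subgroup.one_mem _

end

end Cfsg.Agent.Lib.Helper3.RF4
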