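import Mathlib
import Cfsg.Prelude.Def_ChevStructure
import Cfsg.Prelude.Def_ChevF4
import Cfsg.Prelude.Def_LieTwisted
import Cfsg.Agent.Lib.Helper3.F4T4
set_option autoImplicit false
set_option linter.unusedSectionVars false
set_option linter.style.haveILetI false
open Cfsg Cfsg.Lie

/-!
Representatives in the twisted group of type `F₄` of the two generators of its Weyl group.
-/

namespace Cfsg.Agent.Lib.Helper3.RF4

open Cfsg.Agent.Lib.Helper3.ChevM Cfsg.Agent.Lib.Helper3.ChevSp Cfsg.Agent.Lib.Helper3.ChevAt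
open Cfsg.Agent.Lib.Helper3

section
variable {K : Type*} [Field K] [CharP K 2]

theorem neg_one_eq_one' : (-1 : K) = 1 := by
  have h2 : (2 : K) = 0 := CharTwo.two_eq_zero
  have : (1 : K) + 1 = 0 := by rw [← h2]; norm_num
  exact (eq_neg_of_add_eq_zero_left this).symm

/-- `n_r(1)` in characteristic 2 -/
theorem nU_one (r : ℕ) : relF4.nU r (1 : K) = relF4.xU r 1 * relF4.xU (cdF4.D.neg r) 1 * relF4.xU r 1 := by
  rw [relF4.nU_eq, inv_one, neg_one_eq_one']

/-- the word for the first representative -/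
def wJ1 : List ℕ := [0, 3]

/-- the word for the second representative -/
def wJ2 : List ℕ := [1, 2, 1, 2]

theorem nWordU_wJ1 (θ : ℕ) : relF4.nWordU (F := K) wJ1 = pairP θ 1 * pairN θ 1 * pairP θ 1 := by
  have h1 : (1 : K) ≠ 0 := one_ne_zero
  have := relF4.word_eq_of_check_gen (K := K) 2 1 1 h1 h1
    [(33, 1, 0, 0), (14, 1, 0, 0), (33, 1, 0, 0), (24, 1, 0, 0), (23, 1, 0, 0), (24, 1, 0, 0)]
    [(33, 1, 0, 0), (24, 1, 0, 0), (14, 1, 0, 0), (23, 1, 0, 0), (33, 1, 0, 0), (24, 1, 0, 0)]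
    (by decide) (by decide) (by decide +kernel)
  simp only [List.map_cons, List.map_nil, List.prod_cons, List.prod_nil, mul_one, Int.cast_one, zpow_zero] at this
  unfold wJ1 RelData.nWordU pairP pairN
  simp only [List.map_cons, List.map_nil, List.prod_cons, List.prod_nil, mul_one, one_pow]
  have e0 : cdF4.D.simple 0 = 33 := rfl
  have e3 : cdF4.D.simple 3 = 24 := rfl
  have n33 : cdF4.D.neg 33 = 14 := by decide
  have n24 : cdF4.D.neg 24 = 23 := by decide
  rw [e0, e3, nU_one, nU_one, n33, n24]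
  simp only [mul_assoc] at this ⊢
  exact this

theorem clsP_zero_one (θ : ℕ) (hθ : θ ≠ 0) : clsP θ (0 : K) 1 = relF4.xU 28 1 * relF4.xU 30 1 := by
  rw [clsP_eq, zero_pow hθ, zero_pow (by omega : θ + 1 ≠ 0), RelData.xU_zero', RelData.xU_zero', zero_add,
    one_pow, one_mul, one_mul]

theorem clsN_zero_one (θ : ℕ) (hθ : θ ≠ 0) : clsN θ (0 : K) 1 = relF4.xU 19 1 * relF4.xU 17 1 := by
  rw [clsN_eq, zero_pow hθ, zero_pow (by omega : θ + 1 ≠ 0), RelData.xU_zero', RelData.xU_zero', zero_add,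
    one_pow, one_mul, one_mul]

theorem nWordU_wJ2 (θ : ℕ) (hθ : θ ≠ 0) :
    relF4.nWordU (F := K) wJ2 = clsP θ 0 1 * clsN θ 0 1 * clsP θ 0 1 * clsN θ 0 1 * clsP θ 0 1 := by
  have h1 : (1 : K) ≠ 0 := one_ne_zero
  have := relF4.word_eq_of_check_gen (K := K) 2 1 1 h1 h1
    [(27, 1, 0, 0), (20, 1, 0, 0), (27, 1, 0, 0), (25, 1, 0, 0), (22, 1, 0, 0), (25, 1, 0, 0),
     (27, 1, 0, 0), (20, 1, 0, 0), (27, 1, 0, 0), (25, 1, 0, 0), (22, 1, 0, 0), (25, 1, 0, 0)]
    [(28, 1, 0, 0), (30, 1, 0, 0), (19, 1, 0, 0), (17, 1, 0, 0), (28, 1, 0, 0), (30, 1, 0, 0),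
     (19, 1, 0, 0), (17, 1, 0, 0), (28, 1, 0, 0), (30, 1, 0, 0)]
    (by decide) (by decide) (by decide +kernel)
  simp only [List.map_cons, List.map_nil, List.prod_cons, List.prod_nil, mul_one, Int.cast_one, zpow_zero] at this
  rw [clsP_zero_one θ hθ, clsN_zero_one θ hθ]
  unfold wJ2 RelData.nWordU
  simp only [List.map_cons, List.map_nil, List.prod_cons, List.prod_nil, mul_one]
  have e1 : cdF4.D.simple 1 = 27 := rfl
  have e2 : cdF4.D.simple 2 = 25 := rfl
  have n27 : cdF4.D.neg 27 = 20 := by decide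
  have n25 : cdF4.D.neg 25 = 22 := by decide
  rw [e1, e2, nU_one, nU_one, n27, n25]
  simp only [mul_assoc] at this ⊢
  exact this

theorem nWordU_wJ1_mem (θ : ℕ) : relF4.nWordU (F := K) wJ1 ∈ tF4 K θ := by
  rw [nWordU_wJ1 θ]
  exact Subgroup.mul_mem _ (Subgroup.mul_mem _ (pairP_mem_tF4 θ 1) (pairN_mem_tF4 θ 1)) (pairP_mem_tF4 θ 1)

theorem nWordU_wJ2_mem (θ : ℕ) (hθ : θ ≠ 0) : relF4.nWordU (F := K) wJ2 ∈ tF4 K θ := by
  rw [nWordU_wJ2 θ hθ]
  exact Subgroup.mul_mem _ (Subgroup.mul_mem _ (Subgroup.mul_mem _ (Subgroup.mul_mem _ (clsP_mem_tF4 θ 0 1)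
    (clsN_mem_tF4 θ 0 1)) (clsP_mem_tF4 θ 0 1)) (clsN_mem_tF4 θ 0 1)) (clsP_mem_tF4 θ 0 1)

/-- the words in the two generators of the twisted Weyl group -/
def altWord : ℕ → List ℕ
  | 0 => []
  | k + 1 => (if k % 2 = 0 then wJ1 else wJ2) ++ altWord k

/-- the words in the two generators of the twisted Weyl group, starting with the other generator -/
def altWord' : ℕ → List ℕ
  | 0 => []
  | k + 1 => (if k % 2 = 0 then wJ2 else wJ1) ++ altWord' k

theorem altWord_mem (θ : ℕ) (hθ : θ ≠ 0) (k : ℕ) : relF4.nWordU (F := K) (altWord k) ∈ tF4 K θ := by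
  induction k with
  | zero => exact Subgroup.one_mem _
  | succ k ih =>
    unfold altWord
    rw [relF4.nWordU_append]
    refine Subgroup.mul_mem _ ?_ ih
    split_ifs
    · exact nWordU_wJ1_mem θ
    · exact nWordU_wJ2_mem θ hθ

theorem altWord'_mem (θ : ℕ) (hθ : θ ≠ 0) (k : ℕ) : relF4.nWordU (F := K) (altWord' k) ∈ tF4 K θ := by
  induction k with
  | zero => exact Subgroup.one_mem _
  | succ k ih =>
    unfold altWord'
    rw [relF4.nWordU_append]
    refine Subgroup.mul_mem _ ?_ ih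
    split_ifs
    · exact nWordU_wJ2_mem θ hθ
    · exact nWordU_wJ1_mem θ

theorem altWord_lt (k : ℕ) : ∀ i ∈ altWord k, i < cdF4.D.rank := by
  induction k with
  | zero => intro i hi; exact absurd hi List.not_mem_nil
  | succ k ih =>
    intro i hi
    unfold altWord at hi
    rw [List.mem_append] at hi
    rcases hi with hi | hi
    · split_ifs at hi
      · unfold wJ1 at hi
        simp only [List.mem_cons, List.not_mem_nil, or_false] at hi
        rcases hi with rfl | rfl <;> decide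
      · unfold wJ2 at hi
        simp only [List.mem_cons, List.not_mem_nil, or_false] at hi
        rcases hi with rfl | rfl | rfl | rfl <;> decide
    · exact ih i hi

theorem altWord'_lt (k : ℕ) : ∀ i ∈ altWord' k, i < cdF4.D.rank := by
  induction k with
  | zero => intro i hi; exact absurd hi List.not_mem_nil
  | succ k ih =>
    intro i hi
    unfold altWord' at hi
    rw [List.mem_append] at hi
    rcases hi with hi | hi
    · split_ifs at hi
      · unfold wJ2 at hi
        simp only [List.mem_cons, List.not_mem_nil, or_false] at hi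
        rcases hi with rfl | rfl | rfl | rfl <;> decide
      · unfold wJ1 at hi
        simp only [List.mem_cons, List.not_mem_nil, or_false] at hi
        rcases hi with rfl | rfl <;> decide
    · exact ih i hi

end

end Cfsg.Agent.Lib.Helper3.RF4
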