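import Mathlib
import Cfsg.Prelude.Def_ChevStructure
import Cfsg.Prelude.Def_ChevF4
import Cfsg.Prelude.Def_LieTwisted
import Cfsg.Agent.Lib.Helper3.F4T5
set_option autoImplicit false
set_option linter.unusedSectionVars false
set_option linter.style.haveILetI false
open Cfsg Cfsg.Lie

/-!
The diagonal subgroup of `F₄` and the fixed points of the twisting automorphism on it.
-/

namespace Cfsg.Agent.Lib.Helper3.RF4

open Cfsg.Agent.Lib.Helper3.ChevM Cfsg.Agent.Lib.Helper3.ChevSp Cfsg.Agent.Lib.Helper3.ChevAt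
open Cfsg.Agent.Lib.Helper3 ChevU

section
variable {K : Type*} [Field K]

/-- the parameters of an element of the diagonal subgroup -/
def quadFn (c0 c1 c2 c3 : K) : ℕ → K := fun i =>
  if i = 0 then c0 else if i = 1 then c1 else if i = 2 then c2 else c3

/-- the elements of the diagonal subgroup -/
def hT (c0 c1 c2 c3 : K) : GL cdF4.D.Idx K :=
  relF4.hU 33 c0 * relF4.hU 27 c1 * relF4.hU 25 c2 * relF4.hU 24 c3

theorem quadFn_ne (c0 c1 c2 c3 : K) (h0 : c0 ≠ 0) (h1 : c1 ≠ 0) (h2 : c2 ≠ 0) (h3 : c3 ≠ 0) (i : ℕ) :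
    quadFn c0 c1 c2 c3 i ≠ 0 := by
  unfold quadFn
  split_ifs <;> assumption

theorem hT_val (c0 c1 c2 c3 : K) (h0 : c0 ≠ 0) (h1 : c1 ≠ 0) (h2 : c2 ≠ 0) (h3 : c3 ≠ 0) :
    ((hT c0 c1 c2 c3 : GL cdF4.D.Idx K) : Matrix cdF4.D.Idx cdF4.D.Idx K) =
      Matrix.diagonal (relF4.torusExp (quadFn c0 c1 c2 c3)) := by
  have hc : ∀ i < cdF4.D.rank, quadFn c0 c1 c2 c3 i ≠ 0 := fun i _ => quadFn_ne c0 c1 c2 c3 h0 h1 h2 h3 i
  rw [← relF4.hProd_eq_diag (quadFn c0 c1 c2 c3) hc]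
  have hr : List.range cdF4.D.rank = [0, 1, 2, 3] := rfl
  rw [hr]
  have s0 : cdF4.D.simple 0 = 33 := by decide
  have s1 : cdF4.D.simple 1 = 27 := by decide
  have s2 : cdF4.D.simple 2 = 25 := by decide
  have s3 : cdF4.D.simple 3 = 24 := by decide
  simp [hT, quadFn, s0, s1, s2, s3, relF4.hU_val, mul_assoc]

theorem hT_mem (c0 c1 c2 c3 : K) (h0 : c0 ≠ 0) (h1 : c1 ≠ 0) (h2 : c2 ≠ 0) (h3 : c3 ≠ 0) :
    hT c0 c1 c2 c3 ∈ cdF4.D.diagonalSubgroup K :=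
  Subgroup.mul_mem _ (Subgroup.mul_mem _ (Subgroup.mul_mem _ (relF4.hU_mem 33 (by decide) c0 h0)
    (relF4.hU_mem 27 (by decide) c1 h1)) (relF4.hU_mem 25 (by decide) c2 h2)) (relF4.hU_mem 24 (by decide) c3 h3)

theorem exists_hT (h : GL cdF4.D.Idx K) (hh : h ∈ cdF4.D.diagonalSubgroup K) :
    ∃ c0 c1 c2 c3 : K, c0 ≠ 0 ∧ c1 ≠ 0 ∧ c2 ≠ 0 ∧ c3 ≠ 0 ∧ h = hT c0 c1 c2 c3 := by
  obtain ⟨c, hc, e⟩ := relF4.diagonalSubgroup_le_torus (F := K) bnF4.dec hh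
  refine ⟨c 0, c 1, c 2, c 3, hc 0 (by decide), hc 1 (by decide), hc 2 (by decide), hc 3 (by decide), ?_⟩
  apply Units.ext
  rw [e, hT_val _ _ _ _ (hc 0 (by decide)) (hc 1 (by decide)) (hc 2 (by decide)) (hc 3 (by decide))]
  congr 1

theorem torusExp_root (c : ℕ → K) (r : ℕ) (hr : r < cdF4.D.nroots) :
    relF4.torusExp c (Sum.inr ⟨r, hr⟩) =
      c 0 ^ cdF4.D.cartan 0 r * (c 1 ^ cdF4.D.cartan 1 r * (c 2 ^ cdF4.D.cartan 2 r * c 3 ^ cdF4.D.cartan 3 r)) := by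
  rw [relF4.torusExp_inr]
  have h1 : List.range cdF4.D.rank = [0, 1, 2, 3] := rfl
  rw [h1]
  simp

theorem hT_entry (c0 c1 c2 c3 : K) (h0 : c0 ≠ 0) (h1 : c1 ≠ 0) (h2 : c2 ≠ 0) (h3 : c3 ≠ 0) (r : ℕ)
    (hr : r < cdF4.D.nroots) :
    ((hT c0 c1 c2 c3 : GL cdF4.D.Idx K) : Matrix cdF4.D.Idx cdF4.D.Idx K) (Sum.inr ⟨r, hr⟩) (Sum.inr ⟨r, hr⟩) =
      c0 ^ cdF4.D.cartan 0 r * (c1 ^ cdF4.D.cartan 1 r * (c2 ^ cdF4.D.cartan 2 r * c3 ^ cdF4.D.cartan 3 r)) := by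
  rw [hT_val c0 c1 c2 c3 h0 h1 h2 h3, Matrix.diagonal_apply_eq, torusExp_root]
  rfl

theorem hT_inj (c0 c1 c2 c3 d0 d1 d2 d3 : K) (h0 : c0 ≠ 0) (h1 : c1 ≠ 0) (h2 : c2 ≠ 0) (h3 : c3 ≠ 0)
    (k0 : d0 ≠ 0) (k1 : d1 ≠ 0) (k2 : d2 ≠ 0) (k3 : d3 ≠ 0)
    (e : hT c0 c1 c2 c3 = hT d0 d1 d2 d3) : c0 = d0 ∧ c1 = d1 ∧ c2 = d2 ∧ c3 = d3 := by
  have key : ∀ (r : ℕ) (hr : r < cdF4.D.nroots),
      c0 ^ cdF4.D.cartan 0 r * (c1 ^ cdF4.D.cartan 1 r * (c2 ^ cdF4.D.cartan 2 r * c3 ^ cdF4.D.cartan 3 r)) =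
      d0 ^ cdF4.D.cartan 0 r * (d1 ^ cdF4.D.cartan 1 r * (d2 ^ cdF4.D.cartan 2 r * d3 ^ cdF4.D.cartan 3 r)) := by
    intro r hr
    rw [← hT_entry c0 c1 c2 c3 h0 h1 h2 h3 r hr, e, hT_entry d0 d1 d2 d3 k0 k1 k2 k3 r hr]
  have a44 := key 44 (by decide)
  have a47 := key 47 (by decide)
  have a40 := key 40 (by decide)
  have a46 := key 46 (by decide)
  have v44 : (cdF4.D.cartan 0 44, cdF4.D.cartan 1 44, cdF4.D.cartan 2 44, cdF4.D.cartan 3 44) = (1, 0, 0, 0) := by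
    decide +kernel
  have v47 : (cdF4.D.cartan 0 47, cdF4.D.cartan 1 47, cdF4.D.cartan 2 47, cdF4.D.cartan 3 47) = (0, 0, 0, 1) := by
    decide +kernel
  have v40 : (cdF4.D.cartan 0 40, cdF4.D.cartan 1 40, cdF4.D.cartan 2 40, cdF4.D.cartan 3 40) = (-1, 1, 0, 0) := by
    decide +kernel
  have v46 : (cdF4.D.cartan 0 46, cdF4.D.cartan 1 46, cdF4.D.cartan 2 46, cdF4.D.cartan 3 46) = (0, 0, 1, -1) := by
    decide +kernel
  simp only [Prod.mk.injEq] at v44 v47 v40 v46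
  rw [v44.1, v44.2.1, v44.2.2.1, v44.2.2.2] at a44
  rw [v47.1, v47.2.1, v47.2.2.1, v47.2.2.2] at a47
  rw [v40.1, v40.2.1, v40.2.2.1, v40.2.2.2] at a40
  rw [v46.1, v46.2.1, v46.2.2.1, v46.2.2.2] at a46
  simp only [zpow_zero, zpow_one, mul_one, one_mul, zpow_neg] at a44 a47 a40 a46
  subst a44
  subst a47
  refine ⟨rfl, ?_, ?_, rfl⟩
  · exact mul_left_cancel₀ (inv_ne_zero h0) a40
  · exact mul_right_cancel₀ (inv_ne_zero h3) a46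

theorem hT_mul (c0 c1 c2 c3 d0 d1 d2 d3 : K) (h0 : c0 ≠ 0) (h1 : c1 ≠ 0) (h2 : c2 ≠ 0) (h3 : c3 ≠ 0)
    (k0 : d0 ≠ 0) (k1 : d1 ≠ 0) (k2 : d2 ≠ 0) (k3 : d3 ≠ 0) :
    hT c0 c1 c2 c3 * hT d0 d1 d2 d3 = hT (c0 * d0) (c1 * d1) (c2 * d2) (c3 * d3) := by
  apply Units.ext
  rw [Units.val_mul, hT_val _ _ _ _ h0 h1 h2 h3, hT_val _ _ _ _ k0 k1 k2 k3,
    hT_val _ _ _ _ (mul_ne_zero h0 k0) (mul_ne_zero h1 k1) (mul_ne_zero h2 k2) (mul_ne_zero h3 k3),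
    Matrix.diagonal_mul_diagonal]
  congr 1
  funext j
  rw [← relF4.torusExp_mul]
  congr 1
  funext i
  unfold quadFn
  split_ifs <;> rfl

theorem hT_one : hT (1 : K) 1 1 1 = 1 := by
  apply Units.ext
  rw [hT_val _ _ _ _ one_ne_zero one_ne_zero one_ne_zero one_ne_zero]
  have : quadFn (1 : K) 1 1 1 = fun _ => 1 := by
    funext i
    unfold quadFn
    split_ifs <;> rfl
  rw [this]
  have h2 : relF4.torusExp (fun _ => (1 : K)) = fun _ => 1 := funext fun j => relF4.torusExp_one j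
  rw [h2]
  exact Matrix.diagonal_one

theorem hU_comm (r s : ℕ) (hr : r < cdF4.D.nroots) (hs : s < cdF4.D.nroots) (a b : K) (ha : a ≠ 0)
    (hb : b ≠ 0) : relF4.hU r a * relF4.hU s b = relF4.hU s b * relF4.hU r a := by
  apply Units.ext
  rw [Units.val_mul, Units.val_mul, relF4.hU_val, relF4.hU_val, relF4.hMat_diag r hr a ha,
    relF4.hMat_diag s hs b hb, Matrix.diagonal_mul_diagonal, Matrix.diagonal_mul_diagonal]
  congr 1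
  funext j
  rw [mul_comm]

/-- the action on root elements -/
theorem hT_conj (c0 c1 c2 c3 : K) (h0 : c0 ≠ 0) (h1 : c1 ≠ 0) (h2 : c2 ≠ 0) (h3 : c3 ≠ 0) (s : ℕ)
    (hs : s < cdF4.D.nroots) (t : K) :
    hT c0 c1 c2 c3 * relF4.xU s t * (hT c0 c1 c2 c3)⁻¹ =
      relF4.xU s (c0 ^ cdF4.D.cartan 0 s * (c1 ^ cdF4.D.cartan 1 s * (c2 ^ cdF4.D.cartan 2 s *
        (c3 ^ cdF4.D.cartan 3 s * t)))) := by
  rw [mul_inv_eq_iff_eq_mul]
  apply Units.ext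
  rw [Units.val_mul, Units.val_mul, relF4.xU_val, relF4.xU_val]
  have hc : ∀ i ∈ [0, 1, 2, 3], quadFn c0 c1 c2 c3 i ≠ 0 := fun i _ => quadFn_ne c0 c1 c2 c3 h0 h1 h2 h3 i
  have key := relF4.hList_mul_x (F := K) [0, 1, 2, 3] (by decide) (quadFn c0 c1 c2 c3) hc s hs t
  have s0 : cdF4.D.simple 0 = 33 := by decide
  have s1 : cdF4.D.simple 1 = 27 := by decide
  have s2 : cdF4.D.simple 2 = 25 := by decide
  have s3 : cdF4.D.simple 3 = 24 := by decide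
  simp only [List.map_cons, List.map_nil, List.prod_cons, List.prod_nil, mul_one, s0, s1, s2, s3, quadFn,
    if_true, one_ne_zero, if_false] at key
  norm_num at key
  rw [← relF4.hU_val, ← relF4.hU_val, ← relF4.hU_val, ← relF4.hU_val, ← Units.val_mul, ← Units.val_mul,
    ← Units.val_mul] at key
  unfold hT
  simp only [mul_assoc] at key ⊢
  exact key

end

theorem rev_four {G : Type*} [Monoid G] (a b c d : G) (hab : Commute a b) (hac : Commute a c)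
    (had : Commute a d) (hbc : Commute b c) (hbd : Commute b d) (hcd : Commute c d) :
    a * b * c * d = d * c * b * a := by
  rw [(Commute.mul_left (Commute.mul_left had hbd) hcd).eq, (Commute.mul_left hac hbc).eq, hab.eq]
  simp only [mul_assoc]

section
variable {K : Type*} [Field K] [Fintype K] [CharP K 2]

theorem f4Tw_e_short (m : ℕ) (r : ℕ) (h : f4lam r = 2) : (f4Tw (K := K) m).e r = 2 * 2 ^ m := by
  show 2 ^ m * f4lam r = _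
  rw [h, mul_comm]

theorem f4Tw_e_long (m : ℕ) (r : ℕ) (h : f4lam r = 1) : (f4Tw (K := K) m).e r = 2 ^ m := by
  show 2 ^ m * f4lam r = _
  rw [h, mul_one]

theorem sg_hT (m : ℕ) (c0 c1 c2 c3 : K) (h0 : c0 ≠ 0) (h1 : c1 ≠ 0) (h2 : c2 ≠ 0) (h3 : c3 ≠ 0) :
    (f4Tw (K := K) m).sg (hT c0 c1 c2 c3) =
      hT (c3 ^ 2 ^ m) (c2 ^ 2 ^ m) (c1 ^ (2 * 2 ^ m)) (c0 ^ (2 * 2 ^ m)) := by
  have hHG : cdF4.D.diagonalSubgroup K ≤ cdF4.D.group K := relF4.diagonalSubgroup_le_group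
  have m0 := relF4.hU_mem 33 (by decide) c0 h0
  have m1 := relF4.hU_mem 27 (by decide) c1 h1
  have m2 := relF4.hU_mem 25 (by decide) c2 h2
  have m3 := relF4.hU_mem 24 (by decide) c3 h3
  unfold hT
  rw [(f4Tw (K := K) m).sg_mul (hHG (Subgroup.mul_mem _ (Subgroup.mul_mem _ m0 m1) m2)) (hHG m3),
    (f4Tw (K := K) m).sg_mul (hHG (Subgroup.mul_mem _ m0 m1)) (hHG m2),
    (f4Tw (K := K) m).sg_mul (hHG m0) (hHG m1),
    (f4Tw (K := K) m).sg_hU 33 (by decide) c0 h0, (f4Tw (K := K) m).sg_hU 27 (by decide) c1 h1,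
    (f4Tw (K := K) m).sg_hU 25 (by decide) c2 h2, (f4Tw (K := K) m).sg_hU 24 (by decide) c3 h3]
  have e33 : (f4Tw (K := K) m).rho 33 = 24 := rfl
  have e27 : (f4Tw (K := K) m).rho 27 = 25 := rfl
  have e25 : (f4Tw (K := K) m).rho 25 = 27 := rfl
  have e24 : (f4Tw (K := K) m).rho 24 = 33 := rfl
  rw [e33, e27, e25, e24, f4Tw_e_short m 33 rfl, f4Tw_e_short m 27 rfl, f4Tw_e_long m 25 rfl,
    f4Tw_e_long m 24 rfl]
  have p0 := pow_ne_zero (2 * 2 ^ m) h0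
  have p1 := pow_ne_zero (2 * 2 ^ m) h1
  have p2 := pow_ne_zero (2 ^ m) h2
  have p3 := pow_ne_zero (2 ^ m) h3
  exact rev_four _ _ _ _ (hU_comm 24 25 (by decide) (by decide) _ _ p0 p1)
    (hU_comm 24 27 (by decide) (by decide) _ _ p0 p2) (hU_comm 24 33 (by decide) (by decide) _ _ p0 p3)
    (hU_comm 25 27 (by decide) (by decide) _ _ p1 p2) (hU_comm 25 33 (by decide) (by decide) _ _ p1 p3)
    (hU_comm 27 33 (by decide) (by decide) _ _ p2 p3)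

/-- the fixed elements of the diagonal subgroup -/
def hFix (θ : ℕ) (s t : K) : GL cdF4.D.Idx K := hT (s ^ θ) (t ^ θ) t s

theorem sg_hFix (m : ℕ) (hK : Fintype.card K = 2 ^ (2 * m + 1)) (s t : K) (hs : s ≠ 0) (ht : t ≠ 0) :
    (f4Tw (K := K) m).sg (hFix (2 ^ m) s t) = hFix (2 ^ m) s t := by
  unfold hFix
  rw [sg_hT m _ _ _ _ (pow_ne_zero _ hs) (pow_ne_zero _ ht) ht hs, (thetaHyp2_of_card m hK).inv,
    (thetaHyp2_of_card m hK).inv]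

theorem hFix_mem (θ : ℕ) (s t : K) (hs : s ≠ 0) (ht : t ≠ 0) : hFix θ s t ∈ cdF4.D.diagonalSubgroup K :=
  hT_mem _ _ _ _ (pow_ne_zero _ hs) (pow_ne_zero _ ht) ht hs

theorem fixed_diagonal (m : ℕ) (h : GL cdF4.D.Idx K) (hh : h ∈ cdF4.D.diagonalSubgroup K)
    (hfix : (f4Tw (K := K) m).sg h = h) : ∃ s t : K, s ≠ 0 ∧ t ≠ 0 ∧ h = hFix (2 ^ m) s t := by
  obtain ⟨c0, c1, c2, c3, h0, h1, h2, h3, rfl⟩ := exists_hT h hh
  rw [sg_hT m c0 c1 c2 c3 h0 h1 h2 h3] at hfix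
  obtain ⟨e0, e1, -, -⟩ := hT_inj _ _ _ _ _ _ _ _ (pow_ne_zero _ h3) (pow_ne_zero _ h2) (pow_ne_zero _ h1)
    (pow_ne_zero _ h0) h0 h1 h2 h3 hfix
  refine ⟨c3, c2, h3, h2, ?_⟩
  unfold hFix
  rw [e0, e1]

theorem hFix_mul (θ : ℕ) (s t s' t' : K) (hs : s ≠ 0) (ht : t ≠ 0) (hs' : s' ≠ 0) (ht' : t' ≠ 0) :
    hFix θ s t * hFix θ s' t' = hFix θ (s * s') (t * t') := by
  unfold hFix
  rw [hT_mul _ _ _ _ _ _ _ _ (pow_ne_zero _ hs) (pow_ne_zero _ ht) ht hs (pow_ne_zero _ hs')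
    (pow_ne_zero _ ht') ht' hs', mul_pow, mul_pow]

theorem hFix_inj (θ : ℕ) (s t s' t' : K) (hs : s ≠ 0) (ht : t ≠ 0) (hs' : s' ≠ 0) (ht' : t' ≠ 0)
    (e : hFix θ s t = hFix θ s' t') : s = s' ∧ t = t' := by
  obtain ⟨-, -, e2, e3⟩ := hT_inj _ _ _ _ _ _ _ _ (pow_ne_zero _ hs) (pow_ne_zero _ ht) ht hs (pow_ne_zero _ hs')
    (pow_ne_zero _ ht') ht' hs' e
  exact ⟨e3, e2⟩

end

end Cfsg.Agent.Lib.Helper3.RF4
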