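import Mathlib
import Cfsg.Prelude.Def_ChevStructure
import Cfsg.Prelude.Def_ChevF4
import Cfsg.Prelude.Def_LieTwisted
import Cfsg.Agent.Lib.Helper3.F4T6
set_option autoImplicit false
set_option linter.unusedSectionVars false
set_option linter.style.haveILetI false
open Cfsg Cfsg.Lie

/-!
The fixed points of the twisting automorphism on the diagonal subgroup of `F₄` lie in the twisted
group.
-/

namespace Cfsg.Agent.Lib.Helper3.RF4

open Cfsg.Agent.Lib.Helper3.ChevM Cfsg.Agent.Lib.Helper3.ChevSp Cfsg.Agent.Lib.Helper3.ChevAt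
open Cfsg.Agent.Lib.Helper3 ChevU

section
variable {K : Type*} [Field K] [CharP K 2]

theorem hU_one (r : ℕ) : relF4.hU r (1 : K) = 1 := by
  rw [relF4.hU_eq]
  exact relF4.nU_mul_neg r 1

/-- `h_r(c)` in characteristic 2 -/
theorem hU_two (r : ℕ) (c : K) :
    relF4.hU r c = relF4.xU r c * relF4.xU (cdF4.D.neg r) c⁻¹ * relF4.xU r c *
      (relF4.xU r 1 * relF4.xU (cdF4.D.neg r) 1 * relF4.xU r 1) := by
  rw [relF4.hU_eq, relF4.nU_eq, relF4.nU_eq]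
  simp only [neg_one_eq_one', inv_one, neg_inv]
  have : (-c)⁻¹ = c⁻¹ := by
    rw [neg_eq_neg_one_mul c, neg_one_eq_one', one_mul]
  rw [this]

theorem hFix_s_one (θ : ℕ) (s : K) (hs : s ≠ 0) :
    hFix θ s 1 = pairP θ s * pairN θ s⁻¹ * pairP θ s * (pairP θ 1 * pairN θ 1 * pairP θ 1) := by
  have ha : s ^ θ ≠ 0 := pow_ne_zero _ hs
  have := relF4.word_eq_of_check_gen (K := K) 2 (s ^ θ) s ha hs
    [(33, 1, 1, 0), (14, 1, -1, 0), (33, 1, 1, 0), (33, 1, 0, 0), (14, 1, 0, 0), (33, 1, 0, 0),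
     (24, 1, 0, 1), (23, 1, 0, -1), (24, 1, 0, 1), (24, 1, 0, 0), (23, 1, 0, 0), (24, 1, 0, 0)]
    [(33, 1, 1, 0), (24, 1, 0, 1), (14, 1, -1, 0), (23, 1, 0, -1), (33, 1, 1, 0), (24, 1, 0, 1),
     (33, 1, 0, 0), (24, 1, 0, 0), (14, 1, 0, 0), (23, 1, 0, 0), (33, 1, 0, 0), (24, 1, 0, 0)]
    (by decide) (by decide) (by decide +kernel)
  simp only [List.map_cons, List.map_nil, List.prod_cons, List.prod_nil, mul_one, Int.cast_one, zpow_zero,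
    zpow_one, zpow_neg_one, one_mul] at this
  unfold hFix hT pairP pairN
  rw [one_pow, hU_one, hU_one, mul_one, mul_one, hU_two, hU_two, inv_pow]
  have n33 : cdF4.D.neg 33 = 14 := by decide
  have n24 : cdF4.D.neg 24 = 23 := by decide
  rw [n33, n24]
  simp only [mul_assoc] at this ⊢
  exact this

theorem hFix_s_one_mem (θ : ℕ) (s : K) (hs : s ≠ 0) : hFix θ s 1 ∈ tF4 K θ := by
  rw [hFix_s_one θ s hs]
  exact Subgroup.mul_mem _ (Subgroup.mul_mem _ (Subgroup.mul_mem _ (pairP_mem_tF4 θ s) (pairN_mem_tF4 θ _))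
    (pairP_mem_tF4 θ s)) (Subgroup.mul_mem _ (Subgroup.mul_mem _ (pairP_mem_tF4 θ 1) (pairN_mem_tF4 θ 1))
    (pairP_mem_tF4 θ 1))

/-- conjugation of `h_r(c)` by a word in the fundamental reflections, in characteristic 2 -/
theorem conj_word_hU (l : List ℕ) (hl : ∀ i ∈ l, i < cdF4.D.rank) (r : ℕ) (hr : r < cdF4.D.nroots) (c : K) :
    relF4.nWordU (F := K) l * relF4.hU r c * (relF4.nWordU (F := K) l)⁻¹ =
      relF4.hU (reflW relF4.refl l r) c := by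
  have hrel := relF4.conjRel_word (F := K) l hl
  have hnc := relF4.negCompat_word monoF4.nr l hl
  have k1 := relF4.conj_nU hrel hnc (relF4.nWordU (F := K) l) (relF4.nWordU_val l) r hr c
  have k2 := relF4.conj_nU hrel hnc (relF4.nWordU (F := K) l) (relF4.nWordU_val l) r hr (-1)
  have hη : ((etaW relF4.refl relF4.eta l r : ℤ) : K) = 1 := by
    rcases hrel.sign r hr with h | h <;> rw [h]
    · simp
    · simp [neg_one_eq_one']
  rw [hη, one_mul] at k1 k2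
  rw [relF4.hU_eq, relF4.hU_eq, ← k1, ← k2]
  group

/-- decomposition of `h_r(c)` along the fundamental coroots -/
theorem hU_decomp (r : ℕ) (hr : r < cdF4.D.nroots) (n0 n1 n2 n3 : ℕ)
    (hchk : ∀ j : cdF4.D.Idx, cdF4.expo relF4.pair r (code cdF4.D j) =
      (n0 : ℤ) * cdF4.expo relF4.pair 33 (code cdF4.D j) + (n1 : ℤ) * cdF4.expo relF4.pair 27 (code cdF4.D j)
        + (n2 : ℤ) * cdF4.expo relF4.pair 25 (code cdF4.D j) + (n3 : ℤ) * cdF4.expo relF4.pair 24 (code cdF4.D j))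
    (c : K) (hc : c ≠ 0) : relF4.hU r c = hT (c ^ n0) (c ^ n1) (c ^ n2) (c ^ n3) := by
  apply Units.ext
  rw [relF4.hU_val, relF4.hMat_diag r hr c hc,
    hT_val _ _ _ _ (pow_ne_zero _ hc) (pow_ne_zero _ hc) (pow_ne_zero _ hc) (pow_ne_zero _ hc)]
  congr 1
  funext j
  unfold RelData.torusExp
  have hrg : List.range cdF4.D.rank = [0, 1, 2, 3] := rfl
  rw [hrg, hchk j]
  have s0 : cdF4.D.simple 0 = 33 := by decide
  have s1 : cdF4.D.simple 1 = 27 := by decide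
  have s2 : cdF4.D.simple 2 = 25 := by decide
  have s3 : cdF4.D.simple 3 = 24 := by decide
  simp only [List.map_cons, List.map_nil, List.prod_cons, List.prod_nil, mul_one, s0, s1, s2, s3, quadFn,
    if_true, one_ne_zero, if_false]
  norm_num
  rw [zpow_add₀ hc, zpow_add₀ hc, zpow_add₀ hc, zpow_mul, zpow_mul, zpow_mul, zpow_mul, zpow_natCast,
    zpow_natCast, zpow_natCast, zpow_natCast]
  simp only [mul_assoc]

theorem hU_37 (c : K) (hc : c ≠ 0) : relF4.hU 37 c = hT c (c ^ 2) (c ^ 2) 1 := by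
  have := hU_decomp 37 (by decide) 1 2 2 0 (by decide +kernel) c hc
  rw [pow_one, pow_zero] at this
  exact this

theorem hU_32 (c : K) (hc : c ≠ 0) : relF4.hU 32 c = hT 1 c (c ^ 2) c := by
  have := hU_decomp 32 (by decide) 0 1 2 1 (by decide +kernel) c hc
  rw [pow_one, pow_zero] at this
  exact this

theorem conj_wJ2_hT (a b : K) (ha : a ≠ 0) (hb : b ≠ 0) :
    relF4.nWordU (F := K) wJ2 * hT a 1 1 b * (relF4.nWordU (F := K) wJ2)⁻¹ =
      hT a (a ^ 2 * b) (a ^ 2 * b ^ 2) b := by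
  have hl : ∀ i ∈ wJ2, i < cdF4.D.rank := by decide
  have e1 : hT a 1 1 b = relF4.hU 33 a * relF4.hU 24 b := by
    unfold hT
    rw [hU_one, hU_one, mul_one, mul_one]
  have c1 := conj_word_hU (K := K) wJ2 hl 33 (by decide) a
  have c2 := conj_word_hU (K := K) wJ2 hl 24 (by decide) b
  have r1 : reflW relF4.refl wJ2 33 = 37 := by decide +kernel
  have r2 : reflW relF4.refl wJ2 24 = 32 := by decide +kernel
  rw [r1, hU_37 a ha] at c1
  rw [r2, hU_32 b hb] at c2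
  have e2 : relF4.nWordU (F := K) wJ2 * (relF4.hU 33 a * relF4.hU 24 b) * (relF4.nWordU (F := K) wJ2)⁻¹ =
      (relF4.nWordU (F := K) wJ2 * relF4.hU 33 a * (relF4.nWordU (F := K) wJ2)⁻¹) *
      (relF4.nWordU (F := K) wJ2 * relF4.hU 24 b * (relF4.nWordU (F := K) wJ2)⁻¹) := by group
  rw [e1, e2, c1, c2, hT_mul _ _ _ _ _ _ _ _ ha (pow_ne_zero _ ha) (pow_ne_zero _ ha) one_ne_zero one_ne_zero hb
    (pow_ne_zero _ hb) hb, mul_one, one_mul]

end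

section
variable {K : Type*} [Field K] [Fintype K] [CharP K 2]

theorem conj_wJ2_hFix (m : ℕ) (hK : Fintype.card K = 2 ^ (2 * m + 1)) (s : K) (hs : s ≠ 0) :
    relF4.nWordU (F := K) wJ2 * hFix (2 ^ m) s 1 * (relF4.nWordU (F := K) wJ2)⁻¹ =
      hFix (2 ^ m) s (s ^ (2 * 2 ^ m + 2)) := by
  have hθ := thetaHyp2_of_card (K := K) m hK
  unfold hFix
  rw [one_pow, conj_wJ2_hT _ _ (pow_ne_zero _ hs) hs]
  have e1 : (s ^ (2 * 2 ^ m + 2)) ^ 2 ^ m = (s ^ 2 ^ m) ^ 2 * s := by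
    rw [← pow_mul, add_mul, pow_add, mul_comm (2 * 2 ^ m) (2 ^ m), pow_mul, hθ.inv, mul_comm 2 (2 ^ m), pow_mul,
      mul_comm]
  have e2 : s ^ (2 * 2 ^ m + 2) = (s ^ 2 ^ m) ^ 2 * s ^ 2 := by
    rw [pow_add, mul_comm 2 (2 ^ m), pow_mul]
  rw [e1, e2]

theorem hFix_one_pow_mem (m : ℕ) (hK : Fintype.card K = 2 ^ (2 * m + 1)) (s : K) (hs : s ≠ 0) :
    hFix (2 ^ m) 1 (s ^ (2 * 2 ^ m + 2)) ∈ tF4 K (2 ^ m) := by
  have hθ0 : (2 : ℕ) ^ m ≠ 0 := pow_ne_zero _ (by norm_num)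
  have h1 := hFix_s_one_mem (2 ^ m) s hs
  have hn := nWordU_wJ2_mem (K := K) (2 ^ m) hθ0
  have h2 : hFix (2 ^ m) s (s ^ (2 * 2 ^ m + 2)) ∈ tF4 K (2 ^ m) := by
    rw [← conj_wJ2_hFix m hK s hs]
    exact Subgroup.mul_mem _ (Subgroup.mul_mem _ hn h1) (Subgroup.inv_mem _ hn)
  have e : hFix (2 ^ m) 1 (s ^ (2 * 2 ^ m + 2)) = (hFix (2 ^ m) s 1)⁻¹ * hFix (2 ^ m) s (s ^ (2 * 2 ^ m + 2)) := by
    rw [eq_inv_mul_iff_mul_eq, hFix_mul _ _ _ _ _ hs one_ne_zero one_ne_zero (pow_ne_zero _ hs), mul_one, one_mul]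
  rw [e]
  exact Subgroup.mul_mem _ (Subgroup.inv_mem _ h1) h2

theorem exists_pow_eq (m : ℕ) (hK : Fintype.card K = 2 ^ (2 * m + 1)) (t : K) (ht : t ≠ 0) :
    ∃ s : K, s ≠ 0 ∧ s ^ (2 * 2 ^ m + 2) = t := by
  have hθ := thetaHyp2_of_card (K := K) m hK
  have hA : t ^ 2 ^ m ≠ 0 := pow_ne_zero _ ht
  refine ⟨t * (t ^ 2 ^ m)⁻¹, mul_ne_zero ht (inv_ne_zero hA), ?_⟩
  have e1 : (t ^ 2 ^ m) ^ (2 * 2 ^ m + 2) = t * (t ^ 2 ^ m) ^ 2 := by
    rw [pow_add, hθ.inv]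
  have e2 : t ^ (2 * 2 ^ m + 2) = (t ^ 2 ^ m) ^ 2 * t ^ 2 := by
    rw [pow_add, mul_comm 2 (2 ^ m), pow_mul]
  rw [mul_pow, inv_pow, e1, e2]
  field_simp

theorem hFix_mem_tF4 (m : ℕ) (hK : Fintype.card K = 2 ^ (2 * m + 1)) (s t : K) (hs : s ≠ 0) (ht : t ≠ 0) :
    hFix (2 ^ m) s t ∈ tF4 K (2 ^ m) := by
  obtain ⟨s', hs', rfl⟩ := exists_pow_eq m hK t ht
  have e : hFix (2 ^ m) s (s' ^ (2 * 2 ^ m + 2)) = hFix (2 ^ m) s 1 * hFix (2 ^ m) 1 (s' ^ (2 * 2 ^ m + 2)) := by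
    rw [hFix_mul _ _ _ _ _ hs one_ne_zero one_ne_zero ht, mul_one, one_mul]
  rw [e]
  exact Subgroup.mul_mem _ (hFix_s_one_mem _ s hs) (hFix_one_pow_mem m hK s' hs')

/-- the diagonal elements of the twisted group -/
theorem mem_diag_inf_tF4 (m : ℕ) (hK : Fintype.card K = 2 ^ (2 * m + 1)) (h : GL cdF4.D.Idx K) :
    h ∈ cdF4.D.diagonalSubgroup K ⊓ tF4 K (2 ^ m) ↔ ∃ s t : K, s ≠ 0 ∧ t ≠ 0 ∧ h = hFix (2 ^ m) s t := by
  constructor
  · rintro ⟨h1, h2⟩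
    exact fixed_diagonal m h h1 (tF4_le_fixF m hK h2).2
  · rintro ⟨s, t, hs, ht, rfl⟩
    exact ⟨hFix_mem _ s t hs ht, hFix_mem_tF4 m hK s t hs ht⟩

/-- the fixed points on the diagonal subgroup lie in the twisted group -/
theorem fixed_diag_mem_tF4 (m : ℕ) (hK : Fintype.card K = 2 ^ (2 * m + 1)) (h : GL cdF4.D.Idx K)
    (hh : h ∈ cdF4.D.diagonalSubgroup K) (hfix : (f4Tw (K := K) m).sg h = h) : h ∈ tF4 K (2 ^ m) := by
  obtain ⟨s, t, hs, ht, rfl⟩ := fixed_diagonal m h hh hfix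
  exact hFix_mem_tF4 m hK s t hs ht

theorem card_diag_inf_tF4 (m : ℕ) (hK : Fintype.card K = 2 ^ (2 * m + 1)) :
    Nat.card ↥(cdF4.D.diagonalSubgroup K ⊓ tF4 K (2 ^ m)) = (2 ^ (2 * m + 1) - 1) ^ 2 := by
  classical
  let f : Kˣ × Kˣ → ↥(cdF4.D.diagonalSubgroup K ⊓ tF4 K (2 ^ m)) := fun p =>
    ⟨hFix (2 ^ m) (p.1 : K) (p.2 : K),
      (mem_diag_inf_tF4 m hK _).mpr ⟨_, _, p.1.ne_zero, p.2.ne_zero, rfl⟩⟩
  have hf : Function.Bijective f := by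
    constructor
    · rintro ⟨a, b⟩ ⟨a', b'⟩ e
      have e' : hFix (2 ^ m) (a : K) (b : K) = hFix (2 ^ m) (a' : K) (b' : K) := congrArg Subtype.val e
      obtain ⟨e1, e2⟩ := hFix_inj _ _ _ _ _ a.ne_zero b.ne_zero a'.ne_zero b'.ne_zero e'
      rw [Prod.mk.injEq]
      exact ⟨Units.ext e1, Units.ext e2⟩
    · rintro ⟨h, hh⟩
      obtain ⟨s, t, hs, ht, rfl⟩ := (mem_diag_inf_tF4 m hK h).mp hh
      exact ⟨⟨Units.mk0 s hs, Units.mk0 t ht⟩, rfl⟩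
  rw [← Nat.card_congr (Equiv.ofBijective f hf), Nat.card_prod, Nat.card_eq_fintype_card, Fintype.card_units, hK, sq]

end

end Cfsg.Agent.Lib.Helper3.RF4
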