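import Mathlib
import Cfsg.Prelude.Def_ChevStructure
import Cfsg.Prelude.Def_ChevF4
import Cfsg.Prelude.Def_LieTwisted
import Cfsg.Agent.Lib.Helper3.F4T7
set_option autoImplicit false
set_option linter.unusedSectionVars false
set_option linter.style.haveILetI false
open Cfsg Cfsg.Lie

/-!
Uniqueness of the coordinates of the distinguished unipotent elements of the twisted group of type
`F₄`, and the action of the representatives of the twisted Weyl group and of the diagonal subgroup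
on them.
-/

namespace Cfsg.Agent.Lib.Helper3.RF4

open Cfsg.Agent.Lib.Helper3.ChevM Cfsg.Agent.Lib.Helper3.ChevSp Cfsg.Agent.Lib.Helper3.ChevAt
open Cfsg.Agent.Lib.Helper3 ChevU

section
variable {K : Type*} [Field K] [CharP K 2] {Γ : Type*} [Group Γ] (S : BSys K Γ)

/-- the normal form with the first two factors exchanged -/
theorem BSys.nf_swap (a b c d : K) :
    S.nf a b c d = S.xb b * S.xa a * S.x1 (c + b * a) * S.x2 (d + b * a ^ 2) := by
  unfold BSys.nf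
  rw [S.core b a, S.x1_add, S.x2_add]
  have e1 : S.x2 (b * a ^ 2) * (S.x1 c * S.x1 (b * a)) = (S.x1 c * S.x1 (b * a)) * S.x2 (b * a ^ 2) := by
    rw [← S.x1_add]
    exact ((S.c12 _ _).eq).symm
  have e2 : S.x1 (b * a) * (S.x1 c * S.x1 (b * a)) = S.x1 c := by
    rw [← S.x1_add, ← S.x1_add]
    congr 1
    have : b * a + (c + b * a) = c + (b * a + b * a) := by ring
    rw [this, CharTwo.add_self_eq_zero, add_zero]
  have e3 : S.x2 (b * a ^ 2) * (S.x2 d * S.x2 (b * a ^ 2)) = S.x2 d := by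
    rw [← S.x2_add, ← S.x2_add]
    congr 1
    have : b * a ^ 2 + (d + b * a ^ 2) = d + (b * a ^ 2 + b * a ^ 2) := by ring
    rw [this, CharTwo.add_self_eq_zero, add_zero]
  calc S.xa a * S.xb b * S.x1 c * S.x2 d
      = S.xa a * S.xb b * (S.x1 (b * a) * (S.x1 c * S.x1 (b * a))) *
          (S.x2 (b * a ^ 2) * (S.x2 d * S.x2 (b * a ^ 2))) := by rw [e2, e3]
    _ = S.xa a * S.xb b * S.x1 (b * a) * (S.x1 c * S.x1 (b * a) * S.x2 (b * a ^ 2)) *
          (S.x2 d * S.x2 (b * a ^ 2)) := by simp only [mul_assoc]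
    _ = S.xa a * S.xb b * S.x1 (b * a) * (S.x2 (b * a ^ 2) * (S.x1 c * S.x1 (b * a))) *
          (S.x2 d * S.x2 (b * a ^ 2)) := by rw [e1]
    _ = S.xa a * S.xb b * S.x1 (b * a) * S.x2 (b * a ^ 2) * (S.x1 c * S.x1 (b * a)) *
          (S.x2 d * S.x2 (b * a ^ 2)) := by simp only [mul_assoc]

/-- the inverse of a distinguished element -/
theorem BSys.cls_inv {θ : ℕ} (hθ : ThetaHyp2 K θ) (hθ0 : θ ≠ 0) (t u : K) :
    (S.cls θ t u)⁻¹ = S.cls θ t (u + t ^ (θ + 1)) := by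
  apply inv_eq_of_mul_eq_one_right
  rw [S.cls_mul hθ, CharTwo.add_self_eq_zero]
  have : u + (u + t ^ (θ + 1)) + t ^ θ * t = 0 := by
    have e : u + (u + t ^ (θ + 1)) + t ^ θ * t = (u + u) + (t ^ (θ + 1) + t ^ (θ + 1)) := by
      rw [pow_succ]; ring
    rw [e, CharTwo.add_self_eq_zero, CharTwo.add_self_eq_zero, add_zero]
  rw [this]
  exact S.cls_zero hθ0

end

section
variable {K : Type*} [Field K] [CharP K 2]

/-- the coordinates of the positive system of type `B₂` are unique -/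
theorem b2SysPos_inj : (b2SysPos K).Inj := by
  intro a b c d a' b' c' d' h
  rw [(b2SysPos K).nf_swap, (b2SysPos K).nf_swap] at h
  have h' := congrArg (Subtype.val : ↥(cdF4.D.group K) → GL cdF4.D.Idx K) h
  let τ : K → K → K → K → ℕ → K := fun a b c d r =>
    if r = 25 then b else if r = 27 then a else if r = 28 then c + b * a else d + b * a ^ 2
  have e : ∀ a b c d : K, (((b2SysPos K).xb b * (b2SysPos K).xa a * (b2SysPos K).x1 (c + b * a) *
      (b2SysPos K).x2 (d + b * a ^ 2) : ↥(cdF4.D.group K)) : GL cdF4.D.Idx K) =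
      RootSys.lprod (fun r (t : K) => relF4.xU r t) [25, 27, 28, 30] (τ a b c d) := by
    intro a b c d
    unfold RootSys.lprod
    simp only [List.map_cons, List.map_nil, List.prod_cons, List.prod_nil, mul_one, τ]
    norm_num
    simp only [mul_assoc]
    rfl
  rw [e, e] at h'
  have key := relF4.lprod_inj uhypF4.hf uhypF4.fr uhypF4.wj uhypF4.wi uhypF4.lev uhypF4.frm uhypF4.wit
    [25, 27, 28, 30] (by decide) (by decide) _ _ h'
  have k25 := key 25 (by decide)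
  have k27 := key 27 (by decide)
  have k28 := key 28 (by decide)
  have k30 := key 30 (by decide)
  simp only [τ] at k25 k27 k28 k30
  norm_num at k25 k27 k28 k30
  subst k25 k27
  exact ⟨rfl, rfl, add_right_cancel k28, add_right_cancel k30⟩

end

section
variable {K : Type*} [Field K] [CharP K 2]

theorem pair_inj (a b a' b' : K) (h : relF4.xU 33 a * relF4.xU 24 b = relF4.xU 33 a' * relF4.xU 24 b') :
    a = a' ∧ b = b' := by
  rw [comm_33_24, comm_33_24] at h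
  let τ : K → K → ℕ → K := fun a b r => if r = 24 then b else a
  have e : ∀ a b : K, relF4.xU 24 b * relF4.xU 33 a =
      RootSys.lprod (fun r (t : K) => relF4.xU r t) [24, 33] (τ a b) := by
    intro a b
    unfold RootSys.lprod
    simp only [List.map_cons, List.map_nil, List.prod_cons, List.prod_nil, mul_one, τ]
    norm_num
  rw [e, e] at h
  have key := relF4.lprod_inj uhypF4.hf uhypF4.fr uhypF4.wj uhypF4.wi uhypF4.lev uhypF4.frm uhypF4.wit
    [24, 33] (by decide) (by decide) _ _ h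
  have k24 := key 24 (by decide)
  have k33 := key 33 (by decide)
  simp only [τ] at k24 k33
  norm_num at k24 k33
  exact ⟨k33, k24⟩

theorem pairP_inj (θ : ℕ) (t t' : K) (h : pairP θ t = pairP θ t') : t = t' :=
  (pair_inj _ _ _ _ h).2

theorem clsP_inj (θ : ℕ) (t u t' u' : K) (h : clsP θ t u = clsP θ t' u') : t = t' ∧ u = u' := by
  apply (b2SysPos_inj (K := K)).cls_inj θ
  exact Subtype.ext h

/-- conjugation of a root element by a word in the fundamental reflections, in characteristic 2 -/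
theorem conj_word_xU2 (l : List ℕ) (hl : ∀ i ∈ l, i < cdF4.D.rank) (k : ℕ) (hk : k < cdF4.D.nroots) (c : K) :
    relF4.nWordU (F := K) l * relF4.xU k c * (relF4.nWordU (F := K) l)⁻¹ = relF4.xU (reflW relF4.refl l k) c := by
  have hrel := relF4.conjRel_word (F := K) l hl
  have k1 := relF4.conj_units hrel (relF4.nWordU (F := K) l) (relF4.nWordU_val l) k hk c
  have hη : ((etaW relF4.refl relF4.eta l k : ℤ) : K) = 1 := by
    rcases hrel.sign k hk with h | h <;> rw [h]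
    · simp
    · simp [neg_one_eq_one']
  rw [hη, one_mul] at k1
  exact k1

theorem conj_wJ1_pairP (θ : ℕ) (t : K) :
    relF4.nWordU (F := K) wJ1 * pairP θ t * (relF4.nWordU (F := K) wJ1)⁻¹ = pairN θ t := by
  have hl : ∀ i ∈ wJ1, i < cdF4.D.rank := by decide
  have c1 := conj_word_xU2 (K := K) wJ1 hl 33 (by decide) (t ^ θ)
  have c2 := conj_word_xU2 (K := K) wJ1 hl 24 (by decide) t
  have r1 : reflW relF4.refl wJ1 33 = 14 := by decide +kernel
  have r2 : reflW relF4.refl wJ1 24 = 23 := by decide +kernel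
  rw [r1] at c1
  rw [r2] at c2
  unfold pairP pairN
  rw [← c1, ← c2]
  group

theorem conj_wJ2_clsP (θ : ℕ) (t u : K) :
    relF4.nWordU (F := K) wJ2 * clsP θ t u * (relF4.nWordU (F := K) wJ2)⁻¹ = clsN θ t u := by
  have hl : ∀ i ∈ wJ2, i < cdF4.D.rank := by decide
  have c1 := conj_word_xU2 (K := K) wJ2 hl 27 (by decide) (t ^ θ)
  have c2 := conj_word_xU2 (K := K) wJ2 hl 25 (by decide) t
  have c3 := conj_word_xU2 (K := K) wJ2 hl 28 (by decide) (t ^ (θ + 1) + u)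
  have c4 := conj_word_xU2 (K := K) wJ2 hl 30 (by decide) (u ^ (2 * θ))
  have r1 : reflW relF4.refl wJ2 27 = 20 := by decide +kernel
  have r2 : reflW relF4.refl wJ2 25 = 22 := by decide +kernel
  have r3 : reflW relF4.refl wJ2 28 = 19 := by decide +kernel
  have r4 : reflW relF4.refl wJ2 30 = 17 := by decide +kernel
  rw [r1] at c1
  rw [r2] at c2
  rw [r3] at c3
  rw [r4] at c4
  rw [clsP_eq, clsN_eq, ← c1, ← c2, ← c3, ← c4]
  group

theorem pairP_zero (θ : ℕ) (hθ : θ ≠ 0) : pairP θ (0 : K) = 1 := by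
  unfold pairP
  rw [zero_pow hθ, RelData.xU_zero', RelData.xU_zero', one_mul]

theorem pairP_add {θ : ℕ} (hθ : ThetaHyp2 K θ) (t t' : K) : pairP θ (t + t') = pairP θ t * pairP θ t' := by
  unfold pairP
  rw [hθ.add, ← relF4.xU_add, ← relF4.xU_add]
  calc relF4.xU 33 (t ^ θ) * relF4.xU 33 (t' ^ θ) * (relF4.xU 24 t * relF4.xU 24 t')
      = relF4.xU 33 (t ^ θ) * (relF4.xU 33 (t' ^ θ) * relF4.xU 24 t) * relF4.xU 24 t' := by simp only [mul_assoc]
    _ = relF4.xU 33 (t ^ θ) * (relF4.xU 24 t * relF4.xU 33 (t' ^ θ)) * relF4.xU 24 t' := by rw [comm_33_24]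
    _ = relF4.xU 33 (t ^ θ) * relF4.xU 24 t * (relF4.xU 33 (t' ^ θ) * relF4.xU 24 t') := by simp only [mul_assoc]

/-- the action of the diagonal subgroup on the distinguished elements of the first kind -/
theorem hT_conj_pairP (θ : ℕ) (c0 c1 c2 c3 : K) (h0 : c0 ≠ 0) (h1 : c1 ≠ 0) (h2 : c2 ≠ 0) (h3 : c3 ≠ 0) (t : K) :
    hT c0 c1 c2 c3 * pairP θ t * (hT c0 c1 c2 c3)⁻¹ =
      relF4.xU 33 (c0 ^ 2 * c1⁻¹ * t ^ θ) * relF4.xU 24 (c2⁻¹ * c3 ^ 2 * t) := by
  have a1 := hT_conj c0 c1 c2 c3 h0 h1 h2 h3 33 (by decide) (t ^ θ)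
  have a2 := hT_conj c0 c1 c2 c3 h0 h1 h2 h3 24 (by decide) t
  have v33 : (cdF4.D.cartan 0 33, cdF4.D.cartan 1 33, cdF4.D.cartan 2 33, cdF4.D.cartan 3 33) = (2, -1, 0, 0) := by
    decide +kernel
  have v24 : (cdF4.D.cartan 0 24, cdF4.D.cartan 1 24, cdF4.D.cartan 2 24, cdF4.D.cartan 3 24) = (0, 0, -1, 2) := by
    decide +kernel
  simp only [Prod.mk.injEq] at v33 v24
  rw [v33.1, v33.2.1, v33.2.2.1, v33.2.2.2] at a1
  rw [v24.1, v24.2.1, v24.2.2.1, v24.2.2.2] at a2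
  simp only [zpow_neg, zpow_ofNat, pow_zero, pow_one, one_mul] at a1 a2
  unfold pairP
  have e : hT c0 c1 c2 c3 * (relF4.xU 33 (t ^ θ) * relF4.xU 24 t) * (hT c0 c1 c2 c3)⁻¹ =
      (hT c0 c1 c2 c3 * relF4.xU 33 (t ^ θ) * (hT c0 c1 c2 c3)⁻¹) *
      (hT c0 c1 c2 c3 * relF4.xU 24 t * (hT c0 c1 c2 c3)⁻¹) := by group
  rw [e, a1, a2]
  simp only [mul_assoc]

/-- the action of the diagonal subgroup on the distinguished elements of the second kind -/
theorem hT_conj_nfP (c0 c1 c2 c3 : K) (h0 : c0 ≠ 0) (h1 : c1 ≠ 0) (h2 : c2 ≠ 0) (h3 : c3 ≠ 0) (a b c d : K) :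
    hT c0 c1 c2 c3 * (relF4.xU 27 a * relF4.xU 25 b * relF4.xU 28 c * relF4.xU 30 d) * (hT c0 c1 c2 c3)⁻¹ =
      relF4.xU 27 (c0⁻¹ * c1 ^ 2 * c2⁻¹ * a) * relF4.xU 25 ((c1 ^ 2)⁻¹ * c2 ^ 2 * c3⁻¹ * b) *
        relF4.xU 28 (c0⁻¹ * c2 * c3⁻¹ * c) * relF4.xU 30 ((c0 ^ 2)⁻¹ * c1 ^ 2 * c3⁻¹ * d) := by
  have a1 := hT_conj c0 c1 c2 c3 h0 h1 h2 h3 27 (by decide) a
  have a2 := hT_conj c0 c1 c2 c3 h0 h1 h2 h3 25 (by decide) b
  have a3 := hT_conj c0 c1 c2 c3 h0 h1 h2 h3 28 (by decide) c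
  have a4 := hT_conj c0 c1 c2 c3 h0 h1 h2 h3 30 (by decide) d
  have v27 : (cdF4.D.cartan 0 27, cdF4.D.cartan 1 27, cdF4.D.cartan 2 27, cdF4.D.cartan 3 27) = (-1, 2, -1, 0) := by
    decide +kernel
  have v25 : (cdF4.D.cartan 0 25, cdF4.D.cartan 1 25, cdF4.D.cartan 2 25, cdF4.D.cartan 3 25) = (0, -2, 2, -1) := by
    decide +kernel
  have v28 : (cdF4.D.cartan 0 28, cdF4.D.cartan 1 28, cdF4.D.cartan 2 28, cdF4.D.cartan 3 28) = (-1, 0, 1, -1) := by
    decide +kernel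
  have v30 : (cdF4.D.cartan 0 30, cdF4.D.cartan 1 30, cdF4.D.cartan 2 30, cdF4.D.cartan 3 30) = (-2, 2, 0, -1) := by
    decide +kernel
  simp only [Prod.mk.injEq] at v27 v25 v28 v30
  rw [v27.1, v27.2.1, v27.2.2.1, v27.2.2.2] at a1
  rw [v25.1, v25.2.1, v25.2.2.1, v25.2.2.2] at a2
  rw [v28.1, v28.2.1, v28.2.2.1, v28.2.2.2] at a3
  rw [v30.1, v30.2.1, v30.2.2.1, v30.2.2.2] at a4
  simp only [zpow_neg, zpow_ofNat, pow_zero, pow_one, one_mul] at a1 a2 a3 a4
  have e : hT c0 c1 c2 c3 * (relF4.xU 27 a * relF4.xU 25 b * relF4.xU 28 c * relF4.xU 30 d) * (hT c0 c1 c2 c3)⁻¹ =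
      (hT c0 c1 c2 c3 * relF4.xU 27 a * (hT c0 c1 c2 c3)⁻¹) *
      (hT c0 c1 c2 c3 * relF4.xU 25 b * (hT c0 c1 c2 c3)⁻¹) *
      (hT c0 c1 c2 c3 * relF4.xU 28 c * (hT c0 c1 c2 c3)⁻¹) *
      (hT c0 c1 c2 c3 * relF4.xU 30 d * (hT c0 c1 c2 c3)⁻¹) := by group
  rw [e, a1, a2, a3, a4]
  simp only [mul_assoc]

end

end Cfsg.Agent.Lib.Helper3.RF4
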