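import Mathlib
import Cfsg.Prelude.Def_ChevStructure
import Cfsg.Prelude.Def_ChevF4
import Cfsg.Prelude.Def_LieTwisted
import Cfsg.Agent.Lib.Helper3.F4T8
set_option autoImplicit false
set_option linter.unusedSectionVars false
set_option linter.style.haveILetI false
open Cfsg Cfsg.Lie

/-!
The twisted group of type `F₄` over a field with more than two elements is perfect.
-/

namespace Cfsg.Agent.Lib.Helper3.RF4

open Cfsg.Agent.Lib.Helper3.ChevM Cfsg.Agent.Lib.Helper3.ChevSp Cfsg.Agent.Lib.Helper3.ChevAt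
open Cfsg.Agent.Lib.Helper3 ChevU

section
variable {K : Type*} [Field K]

/-- the derived subgroup of the twisted group as a subgroup of the general linear group -/
def dF4 (K : Type*) [Field K] (θ : ℕ) : Subgroup (GL cdF4.D.Idx K) :=
  (commutator ↥(tF4 K θ)).map (tF4 K θ).subtype

theorem comm_mem_dF4 (θ : ℕ) (x y : GL cdF4.D.Idx K) (hx : x ∈ tF4 K θ) (hy : y ∈ tF4 K θ) :
    x * y * x⁻¹ * y⁻¹ ∈ dF4 K θ := by
  have h := Subgroup.commutator_mem_commutator (H₁ := (⊤ : Subgroup ↥(tF4 K θ))) (H₂ := ⊤)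
    (Subgroup.mem_top (⟨x, hx⟩ : ↥(tF4 K θ))) (Subgroup.mem_top (⟨y, hy⟩ : ↥(tF4 K θ)))
  rw [commutatorElement_def] at h
  exact ⟨_, h, rfl⟩

theorem conj_mem_dF4 (θ : ℕ) (g d : GL cdF4.D.Idx K) (hg : g ∈ tF4 K θ) (hd : d ∈ dF4 K θ) :
    g * d * g⁻¹ ∈ dF4 K θ := by
  obtain ⟨z, hz, rfl⟩ := hd
  have hn : (commutator ↥(tF4 K θ)).Normal := by
    rw [commutator_def]; infer_instance
  exact ⟨(⟨g, hg⟩ : ↥(tF4 K θ)) * z * (⟨g, hg⟩ : ↥(tF4 K θ))⁻¹, hn.conj_mem z hz _, rfl⟩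

theorem dF4_le (θ : ℕ) : dF4 K θ ≤ tF4 K θ := by
  rintro _ ⟨z, -, rfl⟩
  exact z.2

end

section
variable {K : Type*} [Field K] [CharP K 2]

theorem clsP_mul {θ : ℕ} (hθ : ThetaHyp2 K θ) (t u t' u' : K) :
    clsP θ t u * clsP θ t' u' = clsP θ (t + t') (u + u' + t ^ θ * t') := by
  unfold clsP
  rw [← (b2SysPos K).cls_mul hθ]
  rfl

theorem clsP_inv {θ : ℕ} (hθ : ThetaHyp2 K θ) (hθ0 : θ ≠ 0) (t u : K) :
    (clsP θ t u)⁻¹ = clsP θ t (u + t ^ (θ + 1)) := by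
  unfold clsP
  rw [← (b2SysPos K).cls_inv hθ hθ0]
  rfl

theorem pairP_inv {θ : ℕ} (hθ : ThetaHyp2 K θ) (hθ0 : θ ≠ 0) (t : K) : (pairP θ t)⁻¹ = pairP θ t := by
  apply inv_eq_of_mul_eq_one_right
  rw [← pairP_add hθ, CharTwo.add_self_eq_zero, pairP_zero θ hθ0]

theorem sq_add_one_ne (s : K) (hs : s ≠ 1) : s ^ 2 + 1 ≠ 0 := by
  intro h
  have h1 : (s + 1) ^ 2 = 0 := by
    rw [CharTwo.add_sq, one_pow, h]
  have h2 : s + 1 = 0 := pow_eq_zero_iff (two_ne_zero) |>.mp h1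
  apply hs
  have h3 : s = s + 1 + 1 := by
    rw [add_assoc, CharTwo.add_self_eq_zero, add_zero]
  rw [h3, h2, zero_add]

theorem add_one_ne (s : K) (hs : s ≠ 1) : s + 1 ≠ 0 := by
  intro h2
  apply hs
  have h3 : s = s + 1 + 1 := by
    rw [add_assoc, CharTwo.add_self_eq_zero, add_zero]
  rw [h3, h2, zero_add]

end

section
variable {K : Type*} [Field K] [Fintype K] [CharP K 2]

theorem exists_ne_zero_one (m : ℕ) (hm : 1 ≤ m) (hK : Fintype.card K = 2 ^ (2 * m + 1)) :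
    ∃ τ : K, τ ≠ 0 ∧ τ ≠ 1 := by
  classical
  by_contra h
  push Not at h
  have hsub : (Finset.univ : Finset K) ⊆ {0, 1} := by
    intro x _
    by_cases hx : x = 0
    · simp [hx]
    · simp [h x hx]
  have h1 := Finset.card_le_card hsub
  rw [Finset.card_univ, hK] at h1
  have h2 : ({0, 1} : Finset K).card ≤ 2 := Finset.card_le_two
  have h3 : 2 ^ 3 ≤ 2 ^ (2 * m + 1) := Nat.pow_le_pow_right (by norm_num) (by omega)
  omega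

theorem pow_theta_ne (m : ℕ) (hK : Fintype.card K = 2 ^ (2 * m + 1)) (τ : K) (h0 : τ ≠ 0) (h1 : τ ≠ 1) :
    τ ^ 2 ^ m ≠ τ := by
  have hθ := thetaHyp2_of_card (K := K) m hK
  intro h
  have h2 : τ ^ 2 = τ := by
    have e := hθ.inv τ
    rw [h, mul_comm, pow_mul, h] at e
    exact e
  have h3 : τ * τ = τ * 1 := by rw [mul_one, ← sq, h2]
  exact h1 (mul_left_cancel₀ h0 h3)

theorem hFix_conj_pairP (m : ℕ) (s : K) (hs : s ≠ 0) (t : K) :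
    hFix (2 ^ m) s 1 * pairP (2 ^ m) t * (hFix (2 ^ m) s 1)⁻¹ = pairP (2 ^ m) (s ^ 2 * t) := by
  unfold hFix
  rw [hT_conj_pairP _ _ _ _ _ (pow_ne_zero _ hs) (pow_ne_zero _ one_ne_zero) one_ne_zero hs]
  unfold pairP
  congr 2
  · rw [one_pow, inv_one, mul_one, mul_pow]
    ring
  · rw [inv_one, one_mul]

theorem pairP_mem_dF4 (m : ℕ) (hm : 1 ≤ m) (hK : Fintype.card K = 2 ^ (2 * m + 1)) (t : K) :
    pairP (2 ^ m) t ∈ dF4 K (2 ^ m) := by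
  have hθ := thetaHyp2_of_card (K := K) m hK
  have hθ0 : (2 : ℕ) ^ m ≠ 0 := pow_ne_zero _ (by norm_num)
  obtain ⟨s, hs0, hs1⟩ := exists_ne_zero_one m hm hK
  have hne := sq_add_one_ne s hs1
  set t' := (s ^ 2 + 1)⁻¹ * t with ht'
  have h1 := comm_mem_dF4 (2 ^ m) (hFix (2 ^ m) s 1) (pairP (2 ^ m) t') (hFix_s_one_mem _ s hs0)
    (pairP_mem_tF4 _ t')
  rw [hFix_conj_pairP m s hs0, pairP_inv hθ hθ0, ← pairP_add hθ] at h1
  have e : s ^ 2 * t' + t' = t := by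
    rw [ht']
    field_simp
  rwa [e] at h1

theorem hFix_conj_clsP (m : ℕ) (hK : Fintype.card K = 2 ^ (2 * m + 1)) (τ : K) (hτ : τ ≠ 0) (t u : K) :
    hFix (2 ^ m) 1 τ * clsP (2 ^ m) t u * (hFix (2 ^ m) 1 τ)⁻¹ =
      clsP (2 ^ m) (((τ ^ 2 ^ m) ^ 2)⁻¹ * τ ^ 2 * t) (τ * u) := by
  have hθ := thetaHyp2_of_card (K := K) m hK
  have hA : τ ^ 2 ^ m ≠ 0 := pow_ne_zero _ hτ
  unfold hFix
  rw [clsP_eq, clsP_eq, hT_conj_nfP _ _ _ _ (pow_ne_zero _ one_ne_zero) hA hτ one_ne_zero]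
  have eκ : (((τ ^ 2 ^ m) ^ 2)⁻¹ * τ ^ 2) ^ 2 ^ m = (τ ^ 2 ^ m) ^ 2 * τ⁻¹ := by
    rw [mul_pow, inv_pow, ← pow_mul (τ ^ 2 ^ m), hθ.inv, ← pow_mul, mul_comm 2 (2 ^ m), pow_mul, mul_comm]
  have eκ1 : (((τ ^ 2 ^ m) ^ 2)⁻¹ * τ ^ 2) ^ (2 ^ m + 1) = τ := by
    rw [pow_succ, eκ]
    field_simp
  simp only [one_pow, inv_one, one_mul, mul_one]
  have e27 : (((τ ^ 2 ^ m) ^ 2)⁻¹ * τ ^ 2 * t) ^ 2 ^ m = (τ ^ 2 ^ m) ^ 2 * τ⁻¹ * t ^ 2 ^ m := by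
    rw [mul_pow, eκ]
  have e28 : (((τ ^ 2 ^ m) ^ 2)⁻¹ * τ ^ 2 * t) ^ (2 ^ m + 1) + τ * u = τ * (t ^ (2 ^ m + 1) + u) := by
    rw [mul_pow, eκ1]
    ring
  have e30 : (τ * u) ^ (2 * 2 ^ m) = (τ ^ 2 ^ m) ^ 2 * u ^ (2 * 2 ^ m) := by
    rw [mul_pow, ← ThetaHyp2.pow_sq]
  rw [e27, e28, e30]

theorem clsP_zero_mem_dF4 (m : ℕ) (hm : 1 ≤ m) (hK : Fintype.card K = 2 ^ (2 * m + 1)) (u : K) :
    clsP (2 ^ m) 0 u ∈ dF4 K (2 ^ m) := by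
  have hθ := thetaHyp2_of_card (K := K) m hK
  have hθ0 : (2 : ℕ) ^ m ≠ 0 := pow_ne_zero _ (by norm_num)
  obtain ⟨τ, h0, h1⟩ := exists_ne_zero_one m hm hK
  have hne := add_one_ne τ h1
  set u' := (τ + 1)⁻¹ * u with hu'
  have h2 := comm_mem_dF4 (2 ^ m) (hFix (2 ^ m) 1 τ) (clsP (2 ^ m) 0 u') (hFix_mem_tF4 m hK 1 τ one_ne_zero h0)
    (clsP_mem_tF4 _ 0 u')
  rw [hFix_conj_clsP m hK τ h0, clsP_inv hθ hθ0, clsP_mul hθ, mul_zero, add_zero, zero_pow hθ0,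
    zero_pow (Nat.succ_ne_zero _), add_zero, zero_mul, add_zero] at h2
  have e : τ * u' + u' = u := by
    rw [hu']
    field_simp
  rwa [e] at h2

theorem clsP_mem_dF4 (m : ℕ) (hm : 1 ≤ m) (hK : Fintype.card K = 2 ^ (2 * m + 1)) (t u : K) :
    clsP (2 ^ m) t u ∈ dF4 K (2 ^ m) := by
  have hθ := thetaHyp2_of_card (K := K) m hK
  have hθ0 : (2 : ℕ) ^ m ≠ 0 := pow_ne_zero _ (by norm_num)
  obtain ⟨τ, h0, h1⟩ := exists_ne_zero_one m hm hK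
  have hA : τ ^ 2 ^ m ≠ 0 := pow_ne_zero _ h0
  set κ := ((τ ^ 2 ^ m) ^ 2)⁻¹ * τ ^ 2 with hκ
  have hκ1 : κ ≠ 1 := by
    intro h
    have h2 : τ ^ 2 = (τ ^ 2 ^ m) ^ 2 := by
      rw [hκ] at h
      field_simp at h
      exact h
    have h3 : (τ + τ ^ 2 ^ m) ^ 2 = 0 := by
      rw [CharTwo.add_sq, h2, CharTwo.add_self_eq_zero]
    have h4 : τ + τ ^ 2 ^ m = 0 := pow_eq_zero_iff (two_ne_zero) |>.mp h3
    apply pow_theta_ne m hK τ h0 h1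
    have h5 : τ ^ 2 ^ m = τ + (τ + τ ^ 2 ^ m) := by
      rw [← add_assoc, CharTwo.add_self_eq_zero, zero_add]
    rw [h5, h4, add_zero]
  have hne := add_one_ne κ hκ1
  set t' := (κ + 1)⁻¹ * t with ht'
  have h2 := comm_mem_dF4 (2 ^ m) (hFix (2 ^ m) 1 τ) (clsP (2 ^ m) t' 0) (hFix_mem_tF4 m hK 1 τ one_ne_zero h0)
    (clsP_mem_tF4 _ t' 0)
  rw [hFix_conj_clsP m hK τ h0, clsP_inv hθ hθ0, clsP_mul hθ, ← hκ] at h2
  have e : κ * t' + t' = t := by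
    rw [ht']
    field_simp
  rw [e] at h2
  set u₀ := τ * 0 + (0 + t' ^ (2 ^ m + 1)) + (κ * t') ^ 2 ^ m * t' with hu₀
  have h3 := Subgroup.mul_mem _ h2 (clsP_zero_mem_dF4 m hm hK (u + u₀))
  rw [clsP_mul hθ, add_zero, mul_zero, add_zero] at h3
  have e2 : u₀ + (u + u₀) = u := by
    have : u₀ + (u + u₀) = u + (u₀ + u₀) := by ring
    rw [this, CharTwo.add_self_eq_zero, add_zero]
  rwa [e2] at h3

theorem pairN_mem_dF4 (m : ℕ) (hm : 1 ≤ m) (hK : Fintype.card K = 2 ^ (2 * m + 1)) (t : K) :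
    pairN (2 ^ m) t ∈ dF4 K (2 ^ m) := by
  rw [← conj_wJ1_pairP]
  exact conj_mem_dF4 _ _ _ (nWordU_wJ1_mem _) (pairP_mem_dF4 m hm hK t)

theorem clsN_mem_dF4 (m : ℕ) (hm : 1 ≤ m) (hK : Fintype.card K = 2 ^ (2 * m + 1)) (t u : K) :
    clsN (2 ^ m) t u ∈ dF4 K (2 ^ m) := by
  have hθ0 : (2 : ℕ) ^ m ≠ 0 := pow_ne_zero _ (by norm_num)
  rw [← conj_wJ2_clsP]
  exact conj_mem_dF4 _ _ _ (nWordU_wJ2_mem _ hθ0) (clsP_mem_dF4 m hm hK t u)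

theorem tF4_le_dF4 (m : ℕ) (hm : 1 ≤ m) (hK : Fintype.card K = 2 ^ (2 * m + 1)) :
    tF4 K (2 ^ m) ≤ dF4 K (2 ^ m) := by
  unfold tF4 ChevalleyDatum.genSubgroup
  rw [Subgroup.closure_le]
  rintro g ⟨w, (⟨t, rfl | rfl⟩ | ⟨t, u, rfl | rfl⟩), hg⟩
  · have : g = pairP (2 ^ m) t := Units.ext (hg.trans (pairP_val _ t).symm)
    rw [this]
    exact pairP_mem_dF4 m hm hK t
  · have : g = pairN (2 ^ m) t := Units.ext (hg.trans (pairN_val _ t).symm)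
    rw [this]
    exact pairN_mem_dF4 m hm hK t
  · have : g = clsP (2 ^ m) t u := Units.ext (hg.trans (clsP_val _ t u).symm)
    rw [this]
    exact clsP_mem_dF4 m hm hK t u
  · have : g = clsN (2 ^ m) t u := Units.ext (hg.trans (clsN_val _ t u).symm)
    rw [this]
    exact clsN_mem_dF4 m hm hK t u

/-- the twisted group is perfect -/
theorem f4_perfect (m : ℕ) (hm : 1 ≤ m) (hK : Fintype.card K = 2 ^ (2 * m + 1)) :
    commutator ↥(tF4 K (2 ^ m)) = ⊤ := by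
  rw [eq_top_iff]
  intro z _
  obtain ⟨y, hy, e⟩ := tF4_le_dF4 m hm hK z.2
  have : y = z := Subtype.ext e
  rw [← this]
  exact hy

end

end Cfsg.Agent.Lib.Helper3.RF4
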