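import Mathlib
import Cfsg.Prelude.Def_ChevStructure
import Cfsg.Agent.Lib.Helper3.ChevM9
set_option autoImplicit false
open Cfsg Cfsg.Lie

/-! Graph automorphisms of Chevalley groups induced by signed permutation matrices. -/

namespace Cfsg.Agent.Lib.Helper3.ChevM

/-- The permutation of the coordinate codes induced by `p` on the `h_i` and `rho` on the roots. -/
def piC (D : ChevalleyDatum) (p rho : ℕ → ℕ) (c : ℕ) : ℕ :=
  if c < D.rank then p c else D.rank + rho (c - D.rank)

/-- The sign of a coordinate code. -/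
def epC (D : ChevalleyDatum) (eps : ℕ → ℤ) (c : ℕ) : ℤ :=
  if c < D.rank then 1 else eps (c - D.rank)

/-- The column `c` of `x_r` is carried to the column `π c` of `x_{ρ r}`. -/
def graphColCheck (C : CDatum) (p rho : ℕ → ℕ) (eps : ℕ → ℤ) (r c : ℕ) : Bool :=
  ((C.cols r c).all fun e => decide (e.row < C.N)) &&
  decide (List.Perm ((C.cols r c).map fun e =>
      (⟨piC C.D p rho e.row, epC C.D eps e.row * epC C.D eps c * eps r ^ e.deg * e.coef, e.deg⟩ : CEnt))
    (C.cols (rho r) (piC C.D p rho c)))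

/-- Bounds and inverses of the tables. -/
def graphTabCheck (D : ChevalleyDatum) (p pInv rho rhoInv : ℕ → ℕ) (eps : ℕ → ℤ) : Bool :=
  ((List.range D.rank).all fun i => decide (p i < D.rank) && decide (pInv i < D.rank) &&
    decide (pInv (p i) = i) && decide (p (pInv i) = i)) &&
  ((List.range D.nroots).all fun r => decide (rho r < D.nroots) && decide (rhoInv r < D.nroots) &&
    decide (rhoInv (rho r) = r) && decide (rho (rhoInv r) = r) && (decide (eps r = 1) || decide (eps r = -1)))

/-- The data of a graph automorphism. -/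
structure GraphData (C : CDatum) where
  p : ℕ → ℕ
  pInv : ℕ → ℕ
  rho : ℕ → ℕ
  rhoInv : ℕ → ℕ
  eps : ℕ → ℤ
  tab : graphTabCheck C.D p pInv rho rhoInv eps = true
  col : ∀ r < C.D.nroots, ∀ c < C.N, graphColCheck C p rho eps r c = true

namespace GraphData

variable {C : CDatum} (G : GraphData C)

theorem p_spec (i : ℕ) (hi : i < C.D.rank) :
    G.p i < C.D.rank ∧ G.pInv i < C.D.rank ∧ G.pInv (G.p i) = i ∧ G.p (G.pInv i) = i := by
  have := G.tab
  simp only [graphTabCheck, Bool.and_eq_true, List.all_eq_true, List.mem_range, decide_eq_true_eq] at this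
  have h := this.1 i hi
  exact ⟨h.1.1.1, h.1.1.2, h.1.2, h.2⟩

theorem rho_spec (r : ℕ) (hr : r < C.D.nroots) :
    G.rho r < C.D.nroots ∧ G.rhoInv r < C.D.nroots ∧ G.rhoInv (G.rho r) = r ∧ G.rho (G.rhoInv r) = r ∧
      (G.eps r = 1 ∨ G.eps r = -1) := by
  have := G.tab
  simp only [graphTabCheck, Bool.and_eq_true, List.all_eq_true, List.mem_range, decide_eq_true_eq,
    Bool.or_eq_true] at this
  have h := this.2 r hr
  exact ⟨h.1.1.1.1, h.1.1.1.2, h.1.1.2, h.1.2, h.2⟩

/-- The permutation of the coordinates. -/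
def piIdx : C.D.Idx → C.D.Idx
  | Sum.inl i => if h : G.p i.val < C.D.rank then Sum.inl ⟨G.p i.val, h⟩ else Sum.inl i
  | Sum.inr s => if h : G.rho s.val < C.D.nroots then Sum.inr ⟨G.rho s.val, h⟩ else Sum.inr s

/-- Its inverse. -/
def piInvIdx : C.D.Idx → C.D.Idx
  | Sum.inl i => if h : G.pInv i.val < C.D.rank then Sum.inl ⟨G.pInv i.val, h⟩ else Sum.inl i
  | Sum.inr s => if h : G.rhoInv s.val < C.D.nroots then Sum.inr ⟨G.rhoInv s.val, h⟩ else Sum.inr s

theorem code_piIdx (j : C.D.Idx) : code C.D (G.piIdx j) = piC C.D G.p G.rho (code C.D j) := by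
  rcases j with i | s
  · have := (G.p_spec i.val i.isLt).1
    have e : G.piIdx (Sum.inl i) = Sum.inl ⟨G.p i.val, this⟩ := by simp only [piIdx, dif_pos this]
    rw [e]
    show G.p i.val = piC C.D G.p G.rho i.val
    unfold piC
    rw [if_pos i.isLt]
  · have := (G.rho_spec s.val s.isLt).1
    have e : G.piIdx (Sum.inr s) = Sum.inr ⟨G.rho s.val, this⟩ := by simp only [piIdx, dif_pos this]
    rw [e]
    show C.D.rank + G.rho s.val = piC C.D G.p G.rho (C.D.rank + s.val)
    unfold piC
    rw [if_neg (by omega), Nat.add_sub_cancel_left]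

theorem piInv_pi (j : C.D.Idx) : G.piInvIdx (G.piIdx j) = j := by
  rcases j with i | s
  · have h1 := G.p_spec i.val i.isLt
    have h2 := G.p_spec (G.p i.val) h1.1
    simp only [piIdx, dif_pos h1.1, piInvIdx, dif_pos h2.2.1]
    congr 1
    exact Fin.ext h1.2.2.1
  · have h1 := G.rho_spec s.val s.isLt
    have h2 := G.rho_spec (G.rho s.val) h1.1
    simp only [piIdx, dif_pos h1.1, piInvIdx, dif_pos h2.2.1]
    congr 1
    exact Fin.ext h1.2.2.1

theorem pi_piInv (j : C.D.Idx) : G.piIdx (G.piInvIdx j) = j := by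
  rcases j with i | s
  · have h1 := G.p_spec i.val i.isLt
    have h2 := G.p_spec (G.pInv i.val) h1.2.1
    simp only [piInvIdx, dif_pos h1.2.1, piIdx, dif_pos h2.1]
    congr 1
    exact Fin.ext h1.2.2.2
  · have h1 := G.rho_spec s.val s.isLt
    have h2 := G.rho_spec (G.rhoInv s.val) h1.2.1
    simp only [piInvIdx, dif_pos h1.2.1, piIdx, dif_pos h2.1]
    congr 1
    exact Fin.ext h1.2.2.2.1

theorem piIdx_injective : Function.Injective G.piIdx := by
  intro a b h
  have := congrArg G.piInvIdx h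
  rwa [G.piInv_pi, G.piInv_pi] at this

/-- The sign attached to a coordinate. -/
def epIdx (j : C.D.Idx) : ℤ := epC C.D G.eps (code C.D j)

theorem epIdx_sq (j : C.D.Idx) : G.epIdx j * G.epIdx j = 1 := by
  rcases j with i | s
  · have e : G.epIdx (Sum.inl i) = 1 := by
      show epC C.D G.eps i.val = _
      unfold epC
      rw [if_pos i.isLt]
    rw [e]; norm_num
  · have h := (G.rho_spec s.val s.isLt).2.2.2.2
    have e : G.epIdx (Sum.inr s) = G.eps s.val := by
      show epC C.D G.eps (C.D.rank + s.val) = _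
      unfold epC
      rw [if_neg (by omega), Nat.add_sub_cancel_left]
    rw [e]
    rcases h with h | h <;> rw [h] <;> norm_num

section
variable {F : Type*} [Field F]

/-- The signed permutation matrix. -/
def pMat : Matrix C.D.Idx C.D.Idx F := Matrix.of fun i j => if i = G.piIdx j then ((G.epIdx j : ℤ) : F) else 0

/-- Its inverse. -/
def pMatInv : Matrix C.D.Idx C.D.Idx F := Matrix.of fun i j => if G.piIdx i = j then ((G.epIdx i : ℤ) : F) else 0

theorem pMat_mul_inv : (G.pMat : Matrix C.D.Idx C.D.Idx F) * G.pMatInv = 1 := by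
  ext i j
  rw [Matrix.mul_apply]
  simp only [pMat, pMatInv, Matrix.of_apply]
  rw [Finset.sum_eq_single (G.piInvIdx i)]
  · rw [if_pos (G.pi_piInv i).symm, G.pi_piInv, Matrix.one_apply]
    by_cases h : i = j
    · rw [if_pos h, if_pos h, ← Int.cast_mul, G.epIdx_sq, Int.cast_one]
    · rw [if_neg h, if_neg h, mul_zero]
  · intro k _ hk
    rw [if_neg, zero_mul]
    intro e
    apply hk
    rw [e, G.piInv_pi]
  · intro h; exact absurd (Finset.mem_univ _) h

theorem pMatInv_mul : (G.pMatInv : Matrix C.D.Idx C.D.Idx F) * G.pMat = 1 := by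
  ext i j
  rw [Matrix.mul_apply]
  simp only [pMat, pMatInv, Matrix.of_apply]
  rw [Finset.sum_eq_single (G.piIdx i)]
  · rw [if_pos rfl, Matrix.one_apply]
    by_cases h : i = j
    · subst h
      rw [if_pos rfl, if_pos rfl, ← Int.cast_mul, G.epIdx_sq, Int.cast_one]
    · rw [if_neg h, if_neg (fun e => h (G.piIdx_injective e)), mul_zero]
  · intro k _ hk
    rw [if_neg (Ne.symm hk), zero_mul]
  · intro h; exact absurd (Finset.mem_univ _) h

/-- The signed permutation matrix as a unit. -/
def pU : GL C.D.Idx F := ⟨G.pMat, G.pMatInv, G.pMat_mul_inv, G.pMatInv_mul⟩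

theorem pi_lt (c : ℕ) (hc : c < C.N) : piC C.D G.p G.rho c < C.N := by
  unfold piC
  split_ifs with h
  · have := (G.p_spec c h).1
    show _ < C.D.rank + C.D.nroots
    omega
  · have hc' : c - C.D.rank < C.D.nroots := by
      have : c < C.D.rank + C.D.nroots := hc
      omega
    have := (G.rho_spec _ hc').1
    show _ < C.D.rank + C.D.nroots
    omega

theorem piC_injective (c c' : ℕ) (hc : c < C.N) (hc' : c' < C.N)
    (h : piC C.D G.p G.rho c = piC C.D G.p G.rho c') : c = c' := by
  obtain ⟨j, rfl⟩ := exists_code C.D c hc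
  obtain ⟨j', rfl⟩ := exists_code C.D c' hc'
  rw [← G.code_piIdx, ← G.code_piIdx] at h
  rw [G.piIdx_injective (code_injective C.D h)]

theorem colSum_perm (T : F) (l l' : List CEnt) (h : l.Perm l') (k : ℕ) : colSum T l k = colSum T l' k := by
  unfold colSum
  exact ((h.filter _).map _).sum_eq

/-- The effect of the signed permutation on a column of `x_r(t)`. -/
theorem colSum_graph (r : ℕ) (hr : r < C.D.nroots) (c : ℕ) (hc : c < C.N) (k : ℕ) (hk : k < C.N) (t : F) :
    colSum (((G.eps r : ℤ) : F) * t) (C.cols (G.rho r) (piC C.D G.p G.rho c)) (piC C.D G.p G.rho k) =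
      ((epC C.D G.eps k : ℤ) : F) * ((epC C.D G.eps c : ℤ) : F) * colSum t (C.cols r c) k := by
  have hcol := G.col r hr c hc
  simp only [graphColCheck, Bool.and_eq_true, List.all_eq_true, decide_eq_true_eq] at hcol
  obtain ⟨hrow, hperm⟩ := hcol
  rw [← colSum_perm _ _ _ hperm]
  have heps : ((G.eps r : ℤ) : F) * ((G.eps r : ℤ) : F) = 1 := by
    rcases (G.rho_spec r hr).2.2.2.2 with h | h <;> rw [h] <;> norm_num
  have hpow : ∀ d : ℕ, ((G.eps r : ℤ) : F) ^ d * ((G.eps r : ℤ) : F) ^ d = 1 := by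
    intro d
    rw [← mul_pow, heps, one_pow]
  generalize C.cols r c = L at hrow
  induction L with
  | nil => simp
  | cons e L ih =>
    have hrow' : ∀ x ∈ L, x.row < C.N := fun x hx => hrow x (List.mem_cons_of_mem _ hx)
    rw [List.map_cons, colSum_cons, colSum_cons, ih hrow', mul_add]
    congr 1
    have he := hrow e List.mem_cons_self
    by_cases hek : e.row = k
    · rw [if_pos hek, if_pos (by rw [hek])]
      subst hek
      push_cast
      rw [mul_pow]
      have := hpow e.deg
      calc ((epC C.D G.eps e.row : ℤ) : F) * ((epC C.D G.eps c : ℤ) : F) * ((G.eps r : ℤ) : F) ^ e.deg * (e.coef : F) *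
            (((G.eps r : ℤ) : F) ^ e.deg * t ^ e.deg)
          = ((epC C.D G.eps e.row : ℤ) : F) * ((epC C.D G.eps c : ℤ) : F) * ((e.coef : F) * t ^ e.deg) *
            (((G.eps r : ℤ) : F) ^ e.deg * ((G.eps r : ℤ) : F) ^ e.deg) := by ring
        _ = _ := by rw [this, mul_one]
    · rw [if_neg hek, if_neg (fun h => hek (G.piC_injective _ _ he hk h)), mul_zero]

/-- The signed permutation matrix carries `x_r(t)` to `x_{ρ r}(ε_r t)`. -/
theorem pMat_mul_x (r : ℕ) (hr : r < C.D.nroots) (t : F) :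
    (G.pMat : Matrix C.D.Idx C.D.Idx F) * C.D.x F r t = C.D.x F (G.rho r) (((G.eps r : ℤ) : F) * t) * G.pMat := by
  have hr' := (G.rho_spec r hr).1
  ext i j
  rw [Matrix.mul_apply, Matrix.mul_apply]
  simp only [pMat, Matrix.of_apply]
  rw [Finset.sum_eq_single (G.piInvIdx i), Finset.sum_eq_single (G.piIdx j)]
  · rw [if_pos (G.pi_piInv i).symm, if_pos rfl]
    unfold ChevalleyDatum.x
    rw [dif_pos hr, dif_pos hr', xMat_entry, xMat_entry]
    set k := G.piInvIdx i with hk
    have hik : i = G.piIdx k := (G.pi_piInv i).symm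
    rw [hik, G.code_piIdx, G.code_piIdx]
    have h1 := G.colSum_graph r hr (code C.D j) (code_lt C.D j) (code C.D k) (code_lt C.D k) t
    rw [← C.ok r hr _ (code_lt C.D j), ← C.ok _ hr' _ (G.pi_lt _ (code_lt C.D j)), h1]
    have hkk := G.epIdx_sq k
    have hjj := G.epIdx_sq j
    have hkk' : ((G.epIdx k : ℤ) : F) * ((G.epIdx k : ℤ) : F) = 1 := by rw [← Int.cast_mul, hkk, Int.cast_one]
    have hjj' : ((G.epIdx j : ℤ) : F) * ((G.epIdx j : ℤ) : F) = 1 := by rw [← Int.cast_mul, hjj, Int.cast_one]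
    by_cases hkj : k = j
    · subst hkj
      rw [if_pos rfl, if_pos rfl]
      show _ * _ = (1 + ((G.epIdx k : ℤ) : F) * ((G.epIdx k : ℤ) : F) * _) * _
      rw [hkk']
      ring
    · rw [if_neg hkj, if_neg (fun e => hkj (G.piIdx_injective e))]
      show _ * _ = (0 + ((G.epIdx k : ℤ) : F) * ((G.epIdx j : ℤ) : F) * _) * _
      calc ((G.epIdx k : ℤ) : F) * (0 + colSum t (C.cols r (code C.D j)) (code C.D k))
          = ((G.epIdx k : ℤ) : F) * colSum t (C.cols r (code C.D j)) (code C.D k) *
            (((G.epIdx j : ℤ) : F) * ((G.epIdx j : ℤ) : F)) := by rw [hjj']; ring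
        _ = _ := by ring
  · intro k _ hk
    rw [if_neg hk, mul_zero]
  · intro h; exact absurd (Finset.mem_univ _) h
  · intro k _ hk
    rw [if_neg, zero_mul]
    intro e
    apply hk
    rw [e, G.piInv_pi]
  · intro h; exact absurd (Finset.mem_univ _) h

end

end GraphData

end Cfsg.Agent.Lib.Helper3.ChevM
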