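import Mathlib
import Cfsg.Prelude.Def_ChevStructure
import Cfsg.Agent.Lib.Helper3.ChevA1
import Cfsg.Agent.Lib.Helper3.ChevG1
set_option autoImplicit false
open Cfsg Cfsg.Lie

/-! The automorphism of a Chevalley group induced by a symmetry of the Dynkin diagram. -/

namespace Cfsg.Agent.Lib.Helper3.ChevM

namespace GraphData

variable {F : Type*} [Field F] {C : CDatum} (G : GraphData C) (R : RelData C)

include R in
theorem conj_xU (r : ℕ) (hr : r < C.D.nroots) (t : F) :
    G.pU * R.xU r t * (G.pU : GL C.D.Idx F)⁻¹ = R.xU (G.rho r) (((G.eps r : ℤ) : F) * t) := by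
  rw [mul_inv_eq_iff_eq_mul]
  apply Units.ext
  rw [Units.val_mul, Units.val_mul, R.xU_val, R.xU_val]
  exact G.pMat_mul_x r hr t

include R in
theorem conj_inv_xU (s : ℕ) (hs : s < C.D.nroots) (u : F) :
    (G.pU : GL C.D.Idx F)⁻¹ * R.xU s u * G.pU = R.xU (G.rhoInv s) (((G.eps (G.rhoInv s) : ℤ) : F) * u) := by
  obtain ⟨-, h2, -, h4, -⟩ := G.rho_spec s hs
  have h := G.conj_xU R (F := F) (G.rhoInv s) h2 (((G.eps (G.rhoInv s) : ℤ) : F) * u)
  have heps : ((G.eps (G.rhoInv s) : ℤ) : F) * ((G.eps (G.rhoInv s) : ℤ) : F) = 1 := by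
    rcases (G.rho_spec _ h2).2.2.2.2 with h | h <;> rw [h] <;> norm_num
  rw [h4, ← mul_assoc, heps, one_mul] at h
  rw [← h]; group

include R in
/-- Conjugation by the signed permutation matrix preserves the Chevalley group. -/
theorem conj_mem_group (g : GL C.D.Idx F) (hg : g ∈ C.D.group F) :
    G.pU * g * (G.pU : GL C.D.Idx F)⁻¹ ∈ C.D.group F := by
  unfold ChevalleyDatum.group at hg
  induction hg using Subgroup.closure_induction with
  | mem x hx =>
    obtain ⟨r, t, hx⟩ := hx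
    have e : x = R.xU r.val t := Units.ext (by rw [hx, R.xU_val]; simp [ChevalleyDatum.x, r.isLt])
    rw [e, G.conj_xU R r.val r.isLt]
    exact R.xU_mem_group _ (G.rho_spec r.val r.isLt).1 _
  | one => simpa using Subgroup.one_mem _
  | mul x y _ _ hx hy =>
    have : G.pU * (x * y) * (G.pU : GL C.D.Idx F)⁻¹ = (G.pU * x * (G.pU)⁻¹) * (G.pU * y * (G.pU)⁻¹) := by group
    rw [this]; exact Subgroup.mul_mem _ hx hy
  | inv x _ hx =>
    have : G.pU * x⁻¹ * (G.pU : GL C.D.Idx F)⁻¹ = (G.pU * x * (G.pU)⁻¹)⁻¹ := by group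
    rw [this]; exact Subgroup.inv_mem _ hx

include R in
theorem conj_inv_mem_group (g : GL C.D.Idx F) (hg : g ∈ C.D.group F) :
    (G.pU : GL C.D.Idx F)⁻¹ * g * G.pU ∈ C.D.group F := by
  unfold ChevalleyDatum.group at hg
  induction hg using Subgroup.closure_induction with
  | mem x hx =>
    obtain ⟨r, t, hx⟩ := hx
    have e : x = R.xU r.val t := Units.ext (by rw [hx, R.xU_val]; simp [ChevalleyDatum.x, r.isLt])
    rw [e, G.conj_inv_xU R r.val r.isLt]
    exact R.xU_mem_group _ (G.rho_spec r.val r.isLt).2.1 _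
  | one => simpa using Subgroup.one_mem _
  | mul x y _ _ hx hy =>
    have : (G.pU : GL C.D.Idx F)⁻¹ * (x * y) * G.pU = ((G.pU)⁻¹ * x * G.pU) * ((G.pU)⁻¹ * y * G.pU) := by group
    rw [this]; exact Subgroup.mul_mem _ hx hy
  | inv x _ hx =>
    have : (G.pU : GL C.D.Idx F)⁻¹ * x⁻¹ * G.pU = ((G.pU)⁻¹ * x * G.pU)⁻¹ := by group
    rw [this]; exact Subgroup.inv_mem _ hx

/-- The automorphism of the Chevalley group induced by the symmetry. -/
def aut : ↥(C.D.group F) ≃* ↥(C.D.group F) where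
  toFun g := ⟨G.pU * g.1 * (G.pU)⁻¹, G.conj_mem_group R g.1 g.2⟩
  invFun g := ⟨(G.pU)⁻¹ * g.1 * G.pU, G.conj_inv_mem_group R g.1 g.2⟩
  left_inv g := by apply Subtype.ext; simp only; group
  right_inv g := by apply Subtype.ext; simp only; group
  map_mul' a b := by apply Subtype.ext; simp only [Subgroup.coe_mul]; group

theorem aut_val (g : ↥(C.D.group F)) : (G.aut R g).1 = G.pU * g.1 * (G.pU)⁻¹ := rfl

/-- The action of the automorphism on the root elements. -/
theorem aut_x (g : ↥(C.D.group F)) (r : ℕ) (hr : r < C.D.nroots) (t : F)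
    (hg : ((g : GL C.D.Idx F) : Matrix C.D.Idx C.D.Idx F) = C.D.x F r t) :
    (((G.aut R g : ↥(C.D.group F)) : GL C.D.Idx F) : Matrix C.D.Idx C.D.Idx F) =
      C.D.x F (G.rho r) (((G.eps r : ℤ) : F) * t) := by
  have e : g.1 = R.xU r t := Units.ext (by rw [hg, R.xU_val])
  rw [G.aut_val, e, G.conj_xU R r hr, R.xU_val]

end GraphData

/-- The symmetry acts on the fundamental roots and their negatives through `p`, without signs. -/
def graphSimpleCheck (D : ChevalleyDatum) (p rho : ℕ → ℕ) (eps : ℕ → ℤ) : Bool :=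
  (List.range D.rank).all fun i => decide (rho (D.simple i) = D.simple (p i)) && decide (eps (D.simple i) = 1) &&
    decide (rho (D.neg (D.simple i)) = D.neg (D.simple (p i))) && decide (eps (D.neg (D.simple i)) = 1)

/-- S1081 for one datum. -/
theorem GraphData.exists_aut {F : Type*} [Field F] {C : CDatum} (G : GraphData C) (R : RelData C) (pl : List ℕ)
    (hpl : ∀ i < C.D.rank, pl.getD i 0 = G.p i)
    (hs : graphSimpleCheck C.D G.p G.rho G.eps = true) :
    ∃ α : ↥(C.D.group F) ≃* ↥(C.D.group F), ∀ (g : ↥(C.D.group F)) (i : ℕ) (t : F), i < C.D.rank →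
      (((g : GL C.D.Idx F) : Matrix C.D.Idx C.D.Idx F) = C.D.x F (C.D.simple i) t →
        ((α g : GL C.D.Idx F) : Matrix C.D.Idx C.D.Idx F) = C.D.x F (C.D.simple (pl.getD i 0)) t) ∧
      (((g : GL C.D.Idx F) : Matrix C.D.Idx C.D.Idx F) = C.D.x F (C.D.neg (C.D.simple i)) t →
        ((α g : GL C.D.Idx F) : Matrix C.D.Idx C.D.Idx F) = C.D.x F (C.D.neg (C.D.simple (pl.getD i 0))) t) := by
  refine ⟨G.aut R, ?_⟩
  intro g i t hi
  simp only [graphSimpleCheck, List.all_eq_true, List.mem_range, Bool.and_eq_true, decide_eq_true_eq] at hs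
  obtain ⟨⟨⟨h1, h2⟩, h3⟩, h4⟩ := hs i hi
  rw [hpl i hi]
  constructor
  · intro hg
    rw [G.aut_x R g _ (R.simple_lt i hi) t hg, h1, h2, Int.cast_one, one_mul]
  · intro hg
    rw [G.aut_x R g _ (R.neg_lt _ (R.simple_lt i hi)) t hg, h3, h4, Int.cast_one, one_mul]

end Cfsg.Agent.Lib.Helper3.ChevM
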