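import Mathlib
import Cfsg.Prelude.Def_ChevStructure
import Cfsg.Agent.Lib.Helper3.ChevA2
import Cfsg.Agent.Lib.Helper3.ChevW2
set_option autoImplicit false
open Cfsg Cfsg.Lie

/-! The composite of a graph automorphism and a field automorphism, acting on the general linear group of the
coordinate module of a Chevalley group. -/

namespace Cfsg.Agent.Lib.Helper3.ChevM

section
variable {K : Type*} [Field K] (φ : K →+* K)

theorem colSum_ringHom (T : K) (l : List CEnt) (k : ℕ) : φ (colSum T l k) = colSum (φ T) l k := by
  unfold colSum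
  rw [map_list_sum, List.map_map]
  congr 1
  apply List.map_congr_left
  intro e _
  simp

/-- Applying a ring homomorphism to the entries of a root element. -/
theorem x_map (D : ChevalleyDatum) (r : ℕ) (t : K) : (D.x K r t).map φ = D.x K r (φ t) := by
  unfold ChevalleyDatum.x
  split_ifs with h
  · ext j col
    rw [Matrix.map_apply, xMat_entry, xMat_entry, map_add, colSum_ringHom]
    congr 1
    split_ifs <;> simp
  · exact Matrix.map_one φ (map_zero φ) (map_one φ)

variable {C : CDatum} (R : RelData C)

theorem RelData.map_xU (r : ℕ) (t : K) : Matrix.GeneralLinearGroup.map φ (R.xU r t) = R.xU r (φ t) := by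
  apply Units.ext
  rw [R.xU_val, ← x_map φ C.D r t]
  rfl

theorem GLmap_injective {n : Type*} [Fintype n] [DecidableEq n] :
    Function.Injective (Matrix.GeneralLinearGroup.map (n := n) φ) := by
  intro a b h
  apply Units.ext
  ext i j
  have := congrArg (fun g : GL n K => (g : Matrix n n K) i j) h
  simp only [Matrix.GeneralLinearGroup.map_apply] at this
  exact φ.injective this

variable (G : GraphData C)

/-- The automorphism `g ↦ P g^φ P⁻¹`. -/
def GraphData.sig : GL C.D.Idx K →* GL C.D.Idx K :=
  (MulAut.conj (G.pU : GL C.D.Idx K)).toMonoidHom.comp (Matrix.GeneralLinearGroup.map φ)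

theorem GraphData.sig_apply (g : GL C.D.Idx K) :
    G.sig φ g = G.pU * Matrix.GeneralLinearGroup.map φ g * (G.pU : GL C.D.Idx K)⁻¹ := rfl

theorem GraphData.sig_injective : Function.Injective (G.sig (K := K) φ) := by
  intro a b h
  rw [G.sig_apply, G.sig_apply] at h
  apply GLmap_injective φ
  have := congrArg (fun g => (G.pU : GL C.D.Idx K)⁻¹ * g * G.pU) h
  simpa [mul_assoc] using this

include R in
theorem GraphData.sig_xU (r : ℕ) (hr : r < C.D.nroots) (t : K) :
    G.sig φ (R.xU r t) = R.xU (G.rho r) (((G.eps r : ℤ) : K) * φ t) := by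
  rw [G.sig_apply, R.map_xU, G.conj_xU R r hr]

/-- The action on words in the root elements. -/
def GraphData.sigWord (w : List (ℕ × K)) : List (ℕ × K) :=
  w.map fun p => (G.rho p.1, ((G.eps p.1 : ℤ) : K) * φ p.2)

include R in
theorem GraphData.sig_wordU (w : List (ℕ × K)) (hw : ∀ p ∈ w, p.1 < C.D.nroots) :
    G.sig φ (R.wordU w) = R.wordU (G.sigWord φ w) := by
  induction w with
  | nil => simp [RelData.wordU, GraphData.sigWord]
  | cons p w ih =>
    have e1 : R.wordU (p :: w) = R.xU p.1 p.2 * R.wordU w := by
      simp [RelData.wordU]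
    have e2 : R.wordU (G.sigWord φ (p :: w)) =
        R.xU (G.rho p.1) (((G.eps p.1 : ℤ) : K) * φ p.2) * R.wordU (G.sigWord φ w) := by
      simp [RelData.wordU, GraphData.sigWord]
    rw [e1, map_mul, e2, G.sig_xU φ R p.1 (hw p List.mem_cons_self), ih (fun q hq => hw q (List.mem_cons_of_mem _ hq))]

end

end Cfsg.Agent.Lib.Helper3.ChevM
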