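import Mathlib
import Cfsg.Prelude.Def_ChevStructure
import Cfsg.Agent.Lib.Helper3.ChevTw1
import Cfsg.Agent.Lib.Helper3.ChevG5
set_option autoImplicit false
open Cfsg Cfsg.Lie

/-! The twisting automorphism preserves the standard subgroups. -/

namespace Cfsg.Agent.Lib.Helper3.ChevM

/-- The permutation of the roots commutes with negation and preserves signs of roots. -/
def twTabCheck (D : ChevalleyDatum) (rho : ℕ → ℕ) (eps : ℕ → ℤ) : Bool :=
  (List.range D.nroots).all fun r =>
    decide (rho (D.neg r) = D.neg (rho r)) && decide (eps (D.neg r) = eps r) &&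
    (!decide (D.IsPosRoot r) || decide (D.IsPosRoot (rho r))) &&
    (!decide (D.IsNegRoot r) || decide (D.IsNegRoot (rho r)))

theorem twTabCheck_spec {D : ChevalleyDatum} {rho : ℕ → ℕ} {eps : ℕ → ℤ} (h : twTabCheck D rho eps = true)
    (r : ℕ) (hr : r < D.nroots) :
    rho (D.neg r) = D.neg (rho r) ∧ eps (D.neg r) = eps r ∧ (D.IsPosRoot r → D.IsPosRoot (rho r)) ∧
      (D.IsNegRoot r → D.IsNegRoot (rho r)) := by
  simp only [twTabCheck, List.all_eq_true, List.mem_range, Bool.and_eq_true, decide_eq_true_eq, Bool.or_eq_true,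
    Bool.not_eq_true', decide_eq_false_iff_not] at h
  obtain ⟨⟨⟨h1, h2⟩, h3⟩, h4⟩ := h r hr
  exact ⟨h1, h2, fun hp => h3.resolve_left (fun hn => hn hp), fun hp => h4.resolve_left (fun hn => hn hp)⟩

/-- A homomorphism mapping the generators into a subgroup maps their closure into it. -/
theorem map_mem_of_closure {Γ : Type*} [Group Γ] (f : Γ →* Γ) (S : Set Γ) (T : Subgroup Γ)
    (h : ∀ s ∈ S, f s ∈ T) {g : Γ} (hg : g ∈ Subgroup.closure S) : f g ∈ T := by
  have : Subgroup.closure S ≤ T.comap f := (Subgroup.closure_le _).mpr h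
  exact this hg

/-- An injective endomorphism of a finite group mapping a subgroup into itself maps it onto itself. -/
theorem mem_of_map_mem {Γ : Type*} [Group Γ] [Finite Γ] (f : Γ →* Γ) (hf : Function.Injective f) (T : Subgroup Γ)
    (h : ∀ g ∈ T, f g ∈ T) {g : Γ} (hg : f g ∈ T) : g ∈ T := by
  let f' : T → T := fun x => ⟨f x.1, h x.1 x.2⟩
  have hinj : Function.Injective f' := by
    intro a b hab
    exact Subtype.ext (hf (congrArg Subtype.val hab))
  have hsurj : Function.Surjective f' := Finite.surjective_of_injective hinj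
  obtain ⟨x, hx⟩ := hsurj ⟨f g, hg⟩
  have : f x.1 = f g := congrArg Subtype.val hx
  rw [← hf this]
  exact x.2

section
variable {K : Type*} [Field K] {C : CDatum} (G : GraphData C) (φ : K →+* K) (R : RelData C)
  (htw : twTabCheck C.D G.rho G.eps = true)
include R htw

omit R htw in
theorem GraphData.eps_cast_mul_self (r : ℕ) (hr : r < C.D.nroots) :
    ((G.eps r : ℤ) : K) * ((G.eps r : ℤ) : K) = 1 := by
  rcases (G.rho_spec r hr).2.2.2.2 with h | h <;> rw [h] <;> norm_num

omit R htw in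
theorem GraphData.eps_cast_inv (r : ℕ) (hr : r < C.D.nroots) :
    (((G.eps r : ℤ) : K))⁻¹ = ((G.eps r : ℤ) : K) := by
  rcases (G.rho_spec r hr).2.2.2.2 with h | h <;> rw [h] <;> norm_num

theorem GraphData.sig_nU (r : ℕ) (hr : r < C.D.nroots) (c : K) :
    G.sig φ (R.nU r c) = R.nU (G.rho r) (((G.eps r : ℤ) : K) * φ c) := by
  obtain ⟨h1, h2, -, -⟩ := twTabCheck_spec htw r hr
  have hw : ∀ p ∈ C.D.nWord r c, p.1 < C.D.nroots := by
    intro p hp
    simp only [ChevalleyDatum.nWord, List.mem_cons, List.not_mem_nil, or_false] at hp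
    rcases hp with rfl | rfl | rfl
    · exact hr
    · exact R.neg_lt r hr
    · exact hr
  unfold RelData.nU
  rw [G.sig_wordU φ R _ hw]
  congr 1
  simp only [GraphData.sigWord, ChevalleyDatum.nWord, List.map_cons, List.map_nil, h1, h2]
  congr 3
  rw [map_neg, map_inv₀, mul_inv, G.eps_cast_inv r hr]
  ring

theorem GraphData.sig_hU_mem (r : ℕ) (hr : r < C.D.nroots) (t : K) (ht : t ≠ 0) :
    G.sig φ (R.hU r t) ∈ C.D.diagonalSubgroup K := by
  have hρ := (G.rho_spec r hr).1
  have hε : ((G.eps r : ℤ) : K) ≠ 0 := by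
    intro h0
    have := G.eps_cast_mul_self (K := K) r hr
    rw [h0, mul_zero] at this
    exact zero_ne_one this
  rw [R.hU_eq, map_mul, G.sig_nU φ R htw r hr, G.sig_nU φ R htw r hr, R.nU_mul_nU]
  refine Subgroup.mul_mem _ (R.hU_mem _ hρ _ (mul_ne_zero hε ((map_ne_zero φ).mpr ht))) (Subgroup.inv_mem _ ?_)
  refine R.hU_mem _ hρ _ ?_
  rw [map_neg, map_one, mul_neg, mul_one, neg_neg]
  exact hε

theorem GraphData.sig_mem_posUnipotent {g : GL C.D.Idx K} (hg : g ∈ C.D.posUnipotent K) :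
    G.sig φ g ∈ C.D.posUnipotent K := by
  refine map_mem_of_closure (G.sig φ) _ _ ?_ hg
  rintro x ⟨r, t, hr, hx⟩
  have e : x = R.xU r t := Units.ext (by rw [hx, R.xU_val])
  rw [e, G.sig_xU φ R r hr.1]
  exact Subgroup.subset_closure ⟨_, _, (twTabCheck_spec htw r hr.1).2.2.1 hr, R.xU_val _ _⟩

theorem GraphData.sig_mem_negUnipotent {g : GL C.D.Idx K} (hg : g ∈ C.D.negUnipotent K) :
    G.sig φ g ∈ C.D.negUnipotent K := by
  refine map_mem_of_closure (G.sig φ) _ _ ?_ hg
  rintro x ⟨r, t, hr, hx⟩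
  have e : x = R.xU r t := Units.ext (by rw [hx, R.xU_val])
  rw [e, G.sig_xU φ R r hr.1]
  exact Subgroup.subset_closure ⟨_, _, (twTabCheck_spec htw r hr.1).2.2.2 hr, R.xU_val _ _⟩

theorem GraphData.sig_mem_diagonal {g : GL C.D.Idx K} (hg : g ∈ C.D.diagonalSubgroup K) :
    G.sig φ g ∈ C.D.diagonalSubgroup K := by
  refine map_mem_of_closure (G.sig φ) _ _ ?_ hg
  rintro x ⟨r, t, hr, ht, hx⟩
  have e : x = R.hU r t := Units.ext (by rw [hx, R.hU_val])
  rw [e]
  exact G.sig_hU_mem φ R htw r hr t ht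

theorem GraphData.sig_mem_monomial {g : GL C.D.Idx K} (hg : g ∈ C.D.monomialSubgroup K) :
    G.sig φ g ∈ C.D.monomialSubgroup K := by
  have hle : C.D.monomialSubgroup K ≤ (C.D.monomialSubgroup K).comap (G.sig φ) := by
    unfold ChevalleyDatum.monomialSubgroup
    rw [sup_le_iff]
    constructor
    · intro x hx
      exact Subgroup.mem_sup_left (G.sig_mem_diagonal φ R htw hx)
    · rw [Subgroup.closure_le]
      rintro x ⟨r, hr, hx⟩
      have e : x = R.nU r 1 := Units.ext (by rw [hx, R.nU_val])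
      show G.sig φ x ∈ C.D.diagonalSubgroup K ⊔
        Subgroup.closure {g | ∃ r : ℕ, r < C.D.nroots ∧ (g : Matrix C.D.Idx C.D.Idx K) = C.D.nMat K r 1}
      rw [e, G.sig_nU φ R htw r hr, map_one, mul_one, R.nU_eq_hU_mul]
      have hρ := (G.rho_spec r hr).1
      have hε : ((G.eps r : ℤ) : K) ≠ 0 := by
        intro h0
        have := G.eps_cast_mul_self (K := K) r hr
        rw [h0, mul_zero] at this
        exact zero_ne_one this
      refine Subgroup.mul_mem _ (Subgroup.mem_sup_left (R.hU_mem _ hρ _ hε)) (Subgroup.mem_sup_right ?_)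
      exact Subgroup.subset_closure ⟨_, hρ, R.nU_val _ _⟩
  exact hle hg

theorem GraphData.sig_mem_borel {g : GL C.D.Idx K} (hg : g ∈ C.D.borelSubgroup K) :
    G.sig φ g ∈ C.D.borelSubgroup K := by
  have hle : C.D.borelSubgroup K ≤ (C.D.borelSubgroup K).comap (G.sig φ) := by
    unfold ChevalleyDatum.borelSubgroup
    rw [sup_le_iff]
    exact ⟨fun x hx => Subgroup.mem_sup_left (G.sig_mem_posUnipotent φ R htw hx),
      fun x hx => Subgroup.mem_sup_right (G.sig_mem_diagonal φ R htw hx)⟩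
  exact hle hg

omit htw in
theorem GraphData.sig_mem_group {g : GL C.D.Idx K} (hg : g ∈ C.D.group K) :
    G.sig φ g ∈ C.D.group K := by
  refine map_mem_of_closure (G.sig φ) _ _ ?_ hg
  rintro x ⟨r, t, hx⟩
  have e : x = R.xU r.val t := Units.ext (by rw [hx, R.xU_val]; simp [ChevalleyDatum.x, r.isLt])
  rw [e, G.sig_xU φ R r.val r.isLt]
  exact R.xU_mem_group _ (G.rho_spec r.val r.isLt).1 _

end

end Cfsg.Agent.Lib.Helper3.ChevM
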