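import Mathlib
set_option autoImplicit false

/-! A group generated by involutions satisfying the exchange condition is a Coxeter group
(Tits' solution of the word problem, Matsumoto's lemma). -/

namespace Cfsg.Agent.Lib.Helper3.Cox

variable {B : Type*}

/-- The product of a word. -/
def wp {G : Type*} [Monoid G] (s : B → G) (ω : List B) : G := (ω.map s).prod

section monoid
variable {G : Type*} [Monoid G] (s : B → G)

@[simp] theorem wp_nil : wp s ([] : List B) = 1 := rfl
@[simp] theorem wp_cons (i : B) (ω : List B) : wp s (i :: ω) = s i * wp s ω := by simp [wp]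
@[simp] theorem wp_append (ω ω' : List B) : wp s (ω ++ ω') = wp s ω * wp s ω' := by simp [wp]
theorem wp_singleton (i : B) : wp s [i] = s i := by simp [wp]

end monoid

/-- The alternating word `x y x y …` of length `k`. -/
def alt : ℕ → B → B → List B
  | 0, _, _ => []
  | k + 1, x, y => x :: alt k y x

@[simp] theorem length_alt (k : ℕ) (x y : B) : (alt k x y).length = k := by
  induction k generalizing x y with
  | zero => rfl
  | succ k ih => simp [alt, ih]

theorem alt_dropLast (k : ℕ) (x y : B) : (alt (k + 1) x y).dropLast = alt k x y := by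
  induction k generalizing x y with
  | zero => rfl
  | succ k ih =>
    have h : alt (k + 1 + 1) x y = x :: alt (k + 1) y x := rfl
    rw [h]
    have h2 : alt (k + 1) y x = y :: alt k x y := rfl
    rw [h2, List.dropLast_cons_cons, ← h2, ih]
    rfl

theorem mul_mul_pow {G : Type*} [Monoid G] (a b : G) (k : ℕ) : a * (b * a) ^ k = (a * b) ^ k * a := by
  induction k with
  | zero => simp
  | succ k ih => rw [pow_succ, ← mul_assoc, ih, pow_succ]; simp only [mul_assoc]

theorem wp_alt {G : Type*} [Monoid G] (f : B → G) (hf : ∀ i, f i * f i = 1) (k : ℕ) (x y : B) :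
    wp f (alt k x y) = (f x * f y) ^ k * wp f (alt k y x) := by
  induction k generalizing x y with
  | zero => simp [alt]
  | succ k ih =>
    have h1 : alt (k + 1) x y = x :: alt k y x := rfl
    have h2 : alt (k + 1) y x = y :: alt k x y := rfl
    rw [h1, h2, wp_cons, wp_cons, ih y x, ← mul_assoc, mul_mul_pow, pow_succ]
    rw [mul_assoc ((f x * f y) ^ k) (f x * f y), mul_assoc ((f x * f y) ^ k) (f x)]
    congr 1
    rw [mul_assoc, ← mul_assoc (f y), hf, one_mul]

variable {W : Type*} [Group W]

/-- A word is reduced if no word with the same product is shorter. -/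
def Red (s : B → W) (ω : List B) : Prop := ∀ ω' : List B, wp s ω' = wp s ω → ω.length ≤ ω'.length

theorem Red.of_eq {s : B → W} {ω ω' : List B} (h : Red s ω) (hp : wp s ω' = wp s ω) (hl : ω'.length = ω.length) :
    Red s ω' := by
  intro τ hτ
  rw [hl]
  exact h τ (hτ.trans hp)

theorem Red.tail {s : B → W} {i : B} {ω : List B} (h : Red s (i :: ω)) : Red s ω := by
  intro τ hτ
  have := h (i :: τ) (by rw [wp_cons, wp_cons, hτ])
  simpa using this

theorem Red.init {s : B → W} {i : B} {ω : List B} (h : Red s (ω ++ [i])) : Red s ω := by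
  intro τ hτ
  have := h (τ ++ [i]) (by rw [wp_append, wp_append, hτ])
  simpa using this

theorem Red.length_eq {s : B → W} {ω ω' : List B} (h : Red s ω) (h' : Red s ω') (hp : wp s ω = wp s ω') :
    ω.length = ω'.length :=
  le_antisymm (h ω' hp.symm) (h' ω hp)

/-- The exchange condition for a family of involutions. -/
structure ExSys (s : B → W) : Prop where
  inv : ∀ i, s i * s i = 1
  exch : ∀ (i : B) (ω : List B), Red s ω → ¬ Red s (i :: ω) →
    ∃ k < ω.length, s i * wp s ω = wp s (ω.eraseIdx k)

section tits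
variable {s : B → W} (E : ExSys s) {G : Type*} [Group G] (f : B → G) (hf : ∀ i, f i * f i = 1)
  (hrel : ∀ i j (r : ℕ), (s i * s j) ^ r = 1 → (f i * f j) ^ r = 1)

/-- The statement of Tits' lemma for reduced words of length `r`. -/
def TQ (s : B → W) (f : B → G) (r : ℕ) : Prop :=
  ∀ ω ω' : List B, ω.length = r → ω'.length = r → Red s ω → Red s ω' → wp s ω = wp s ω' → wp f ω = wp f ω'

include E in
theorem tits_step (r : ℕ) (hQ : TQ s f r) (u : List B) (y : B) (d : List B) (hlu : u.length = r + 1)
    (hld : d.length = r) (hRu : Red s u) (hRv : Red s (y :: d)) (hp : wp s u = wp s (y :: d)) :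
    wp f u = wp f (y :: d) ∨
      (wp s (y :: u.dropLast) = wp s u ∧ Red s (y :: u.dropLast) ∧ wp f (y :: u.dropLast) = wp f (y :: d)) := by
  have hnr : ¬ Red s (y :: u) := by
    intro h
    have := h d (by rw [wp_cons, hp, wp_cons, ← mul_assoc, E.inv, one_mul])
    simp at this
    omega
  obtain ⟨i, hi, he⟩ := E.exch y _ hRu hnr
  have hpu' : wp s (y :: u.eraseIdx i) = wp s u := by
    rw [wp_cons, ← he, ← mul_assoc, E.inv, one_mul]
  have hlen' : (u.eraseIdx i).length = r := by
    rw [List.length_eraseIdx, if_pos hi, hlu]; rfl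
  have hRu' : Red s (y :: u.eraseIdx i) := hRu.of_eq hpu' (by simp [hlen', hlu])
  have h1 : wp f (y :: u.eraseIdx i) = wp f (y :: d) := by
    rw [wp_cons, wp_cons]
    congr 1
    apply hQ _ _ hlen' hld hRu'.tail hRv.tail
    have := hpu'.trans hp
    rw [wp_cons, wp_cons] at this
    exact mul_left_cancel this
  have hne : u ≠ [] := by
    intro h; rw [h] at hlu; simp at hlu
  have huz : u = u.dropLast ++ [u.getLast hne] := (List.dropLast_append_getLast hne).symm
  set u₀ := u.dropLast with hu₀
  set z := u.getLast hne with hz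
  have hl0 : u₀.length = r := by
    have := congrArg List.length huz
    simp at this
    omega
  by_cases hlast : i = r
  · right
    have hdl : u.eraseIdx i = u₀ := by
      rw [huz, hlast, ← hl0, List.eraseIdx_append_of_length_le (le_refl _)]
      simp
    rw [hdl] at hpu' hRu' h1
    exact ⟨hpu', hRu', h1⟩
  · left
    rw [← h1]
    have hi' : i < r := by omega
    have he2 : u.eraseIdx i = u₀.eraseIdx i ++ [z] := by
      rw [huz, List.eraseIdx_append_of_lt_length (by omega)]
    have hRa : Red s (y :: u₀.eraseIdx i) := by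
      have : Red s ((y :: u₀.eraseIdx i) ++ [z]) := by
        rw [he2] at hRu'; exact hRu'
      exact this.init
    have hpa : wp s (y :: u₀.eraseIdx i) = wp s u₀ := by
      have : wp s ((y :: u₀.eraseIdx i) ++ [z]) = wp s (u₀ ++ [z]) := by
        rw [he2, huz] at hpu'; exact hpu'
      rw [wp_append, wp_append] at this
      exact mul_right_cancel this
    have hla : (y :: u₀.eraseIdx i).length = r := by
      rw [List.length_cons, List.length_eraseIdx, if_pos (by omega)]
      omega
    have hRu0 : Red s u₀ := by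
      have : Red s (u₀ ++ [z]) := by rw [← huz]; exact hRu
      exact this.init
    have := hQ _ _ hl0 hla hRu0 hRa hpa.symm
    have e3 : y :: (u₀.eraseIdx i ++ [z]) = (y :: u₀.eraseIdx i) ++ [z] := rfl
    rw [he2, e3, wp_append, ← this, ← wp_append, ← huz]

include E hf hrel in
theorem tits_aux (r : ℕ) (hQ : TQ s f r) :
    ∀ (n : ℕ) (c : List B) (k : ℕ) (x y : B) (d : List B), c.length = n →
      (alt (k + 1) x y ++ c).length = r + 1 → d.length = r → Red s (alt (k + 1) x y ++ c) → Red s (y :: d) →
      wp s (alt (k + 1) x y ++ c) = wp s (y :: d) → wp f (alt (k + 1) x y ++ c) = wp f (y :: d) := by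
  intro n
  induction n with
  | zero =>
    intro c k x y d hc hlu hld hRu hRv hp
    have hc0 : c = [] := List.length_eq_zero_iff.mp hc
    subst hc0
    rw [List.append_nil] at *
    rcases tits_step E f r hQ _ y d hlu hld hRu hRv hp with h | ⟨hpu', hRu', h1⟩
    · exact h
    rw [← h1]
    rw [alt_dropLast] at hpu' ⊢
    have e1 : y :: alt k x y = alt (k + 1) y x := rfl
    rw [e1] at hpu' ⊢
    have h2 := wp_alt s E.inv (k + 1) y x
    rw [hpu'] at h2
    have h3 : (s y * s x) ^ (k + 1) = 1 :=
      (mul_eq_right (a := (s y * s x) ^ (k + 1)) (b := wp s (alt (k + 1) x y))).mp h2.symm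
    have h4 := hrel _ _ _ h3
    rw [wp_alt f hf (k + 1) y x, h4, one_mul]
  | succ n ih =>
    intro c k x y d hc hlu hld hRu hRv hp
    rcases tits_step E f r hQ _ y d hlu hld hRu hRv hp with h | ⟨hpu', hRu', h1⟩
    · exact h
    rw [← h1]
    obtain ⟨c₀, z, hc₀⟩ : ∃ c₀ z, c = c₀ ++ [z] := by
      have hne : c ≠ [] := by
        intro h; rw [h] at hc; simp at hc
      exact ⟨c.dropLast, c.getLast hne, (List.dropLast_append_getLast hne).symm⟩
    subst hc₀
    have hlc0 : c₀.length = n := by
      simp at hc
      omega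
    have hdl : (alt (k + 1) x y ++ (c₀ ++ [z])).dropLast = alt (k + 1) x y ++ c₀ := by
      rw [← List.append_assoc, List.dropLast_concat]
    rw [hdl] at hpu' hRu' ⊢
    have e1 : y :: (alt (k + 1) x y ++ c₀) = alt (k + 1 + 1) y x ++ c₀ := rfl
    have e2 : alt (k + 1) x y ++ (c₀ ++ [z]) = x :: (alt k y x ++ (c₀ ++ [z])) := rfl
    rw [e1] at hpu' hRu' ⊢
    have hl2 : (alt k y x ++ (c₀ ++ [z])).length = r := by
      rw [e2] at hlu
      simpa using hlu
    have hl3 : (alt (k + 1 + 1) y x ++ c₀).length = r + 1 := by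
      simp at hlu ⊢
      omega
    rw [e2] at hRu hpu' ⊢
    exact (ih c₀ (k + 1) y x _ hlc0 hl3 hl2 hRu' hRu hpu').symm

include E hf hrel in
theorem tits_TQ (r : ℕ) : TQ s f r := by
  induction r with
  | zero =>
    intro ω ω' h h' _ _ _
    rw [List.length_eq_zero_iff.mp h, List.length_eq_zero_iff.mp h']
  | succ r ih =>
    intro ω ω' h h' hR hR' hp
    rcases ω with _ | ⟨x, a⟩
    · simp at h
    rcases ω' with _ | ⟨y, d⟩
    · simp at h'
    have e : x :: a = alt (0 + 1) x y ++ a := rfl
    rw [e] at h hR hp ⊢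
    exact tits_aux E f hf hrel r ih a.length a 0 x y d rfl h (by simpa using h') hR hR' hp

include E hf hrel in
/-- Every word has the same `f`-product as a reduced word with the same `s`-product. -/
theorem exists_red (ω : List B) : ∃ ω', Red s ω' ∧ wp s ω' = wp s ω ∧ wp f ω' = wp f ω := by
  induction ω with
  | nil => exact ⟨[], fun τ _ => Nat.zero_le _, rfl, rfl⟩
  | cons i ω ih =>
    obtain ⟨ω', hR, hs, hfω⟩ := ih
    by_cases hR' : Red s (i :: ω')
    · exact ⟨i :: ω', hR', by rw [wp_cons, wp_cons, hs], by rw [wp_cons, wp_cons, hfω]⟩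
    obtain ⟨k, hk, he⟩ := E.exch i ω' hR hR'
    have hlen : (ω'.eraseIdx k).length + 1 = ω'.length := by
      rw [List.length_eraseIdx, if_pos hk]; omega
    have hp2 : wp s (i :: ω'.eraseIdx k) = wp s ω' := by
      rw [wp_cons, ← he, ← mul_assoc, E.inv, one_mul]
    have hR2 : Red s (i :: ω'.eraseIdx k) := hR.of_eq hp2 (by simp [hlen])
    refine ⟨ω'.eraseIdx k, hR2.tail, by rw [← he, wp_cons, hs], ?_⟩
    have := tits_TQ E f hf hrel _ _ _ rfl (by simp [hlen]) hR hR2 hp2.symm
    rw [wp_cons, ← hfω, this, wp_cons, ← mul_assoc, hf, one_mul]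

include E hf hrel in
/-- Tits' lemma: words with the same product in `W` have the same product in `G`. -/
theorem tits (ω ω' : List B) (h : wp s ω = wp s ω') : wp f ω = wp f ω' := by
  obtain ⟨τ, hR, hs, hfτ⟩ := exists_red E f hf hrel ω
  obtain ⟨τ', hR', hs', hfτ'⟩ := exists_red E f hf hrel ω'
  have hp : wp s τ = wp s τ' := by rw [hs, hs', h]
  rw [← hfτ, ← hfτ']
  exact tits_TQ E f hf hrel _ _ _ rfl (hR.length_eq hR' hp).symm hR hR' hp

end tits

section hom
variable {s : B → W}

theorem map_wp {G H : Type*} [Monoid G] [Monoid H] (φ : G →* H) (f : B → G) (ω : List B) :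
    φ (wp f ω) = wp (fun i => φ (f i)) ω := by
  induction ω with
  | nil => simp
  | cons i ω ih => rw [wp_cons, wp_cons, map_mul, ih]

theorem wp_reverse (hinv : ∀ i, s i * s i = 1) (ω : List B) : wp s ω.reverse = (wp s ω)⁻¹ := by
  induction ω with
  | nil => simp
  | cons i ω ih =>
    rw [List.reverse_cons, wp_append, ih, wp_singleton, wp_cons, mul_inv_rev]
    congr 1
    exact (inv_eq_of_mul_eq_one_right (hinv i)).symm

theorem exists_word (hinv : ∀ i, s i * s i = 1) (hgen : Subgroup.closure (Set.range s) = ⊤) (w : W) :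
    ∃ ω, wp s ω = w := by
  have hw : w ∈ Subgroup.closure (Set.range s) := by rw [hgen]; trivial
  induction hw using Subgroup.closure_induction with
  | mem x hx =>
    obtain ⟨i, rfl⟩ := hx
    exact ⟨[i], wp_singleton s i⟩
  | one => exact ⟨[], rfl⟩
  | mul x y _ _ hx hy =>
    obtain ⟨a, rfl⟩ := hx
    obtain ⟨b, rfl⟩ := hy
    exact ⟨a ++ b, wp_append s a b⟩
  | inv x _ hx =>
    obtain ⟨a, rfl⟩ := hx
    exact ⟨a.reverse, wp_reverse hinv a⟩

variable (E : ExSys s) (hgen : Subgroup.closure (Set.range s) = ⊤)
  {G : Type*} [Group G] (f : B → G) (hf : ∀ i, f i * f i = 1)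
  (hrel : ∀ i j (r : ℕ), (s i * s j) ^ r = 1 → (f i * f j) ^ r = 1)

/-- The homomorphism given by Tits' lemma. -/
noncomputable def titsHom : W →* G where
  toFun w := wp f (Classical.choose (exists_word E.inv hgen w))
  map_one' := by
    have := Classical.choose_spec (exists_word E.inv hgen (1 : W))
    exact tits E f hf hrel _ [] this
  map_mul' a b := by
    have ha := Classical.choose_spec (exists_word E.inv hgen a)
    have hb := Classical.choose_spec (exists_word E.inv hgen b)
    have hab := Classical.choose_spec (exists_word E.inv hgen (a * b))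
    rw [← wp_append]
    apply tits E f hf hrel
    rw [hab, wp_append, ha, hb]

theorem titsHom_wp (ω : List B) : titsHom E hgen f hf hrel (wp s ω) = wp f ω := by
  have := Classical.choose_spec (exists_word E.inv hgen (wp s ω))
  exact tits E f hf hrel _ _ this

theorem titsHom_apply (i : B) : titsHom E hgen f hf hrel (s i) = f i := by
  have := titsHom_wp E hgen f hf hrel [i]
  rwa [wp_singleton, wp_singleton] at this

/-- A group with the exchange condition is the Coxeter group of its matrix of orders. -/
noncomputable def coxEquiv (M : CoxeterMatrix B) (hM : ∀ i j, (s i * s j) ^ M i j = 1)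
    (hM' : ∀ i j (r : ℕ), (s i * s j) ^ r = 1 → M i j ∣ r) : W ≃* M.Group :=
  have hrelM : ∀ i j (r : ℕ), (s i * s j) ^ r = 1 → (M.simple i * M.simple j) ^ r = 1 := by
    intro i j r h
    obtain ⟨c, rfl⟩ := hM' i j r h
    rw [pow_mul]
    have := M.toCoxeterSystem.simple_mul_simple_pow i j
    rw [CoxeterMatrix.toCoxeterSystem_simple] at this
    rw [this, one_pow]
  have hinvM : ∀ i, M.simple i * M.simple i = 1 := by
    intro i
    have := M.toCoxeterSystem.simple_mul_simple_self i
    rwa [CoxeterMatrix.toCoxeterSystem_simple] at this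
  MonoidHom.toMulEquiv (titsHom E hgen M.simple hinvM hrelM) (M.toCoxeterSystem.lift ⟨s, hM⟩)
    (by
      apply MonoidHom.ext
      intro w
      obtain ⟨ω, rfl⟩ := exists_word E.inv hgen w
      rw [MonoidHom.comp_apply, titsHom_wp, map_wp, MonoidHom.id_apply]
      congr 1
      funext i
      have := M.toCoxeterSystem.lift_apply_simple (f := s) hM i
      rwa [CoxeterMatrix.toCoxeterSystem_simple] at this)
    (by
      apply M.toCoxeterSystem.ext_simple
      intro i
      rw [MonoidHom.comp_apply, MonoidHom.id_apply]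
      have := M.toCoxeterSystem.lift_apply_simple (f := s) hM i
      rw [this, titsHom_apply, CoxeterMatrix.toCoxeterSystem_simple])

theorem coxEquiv_apply (M : CoxeterMatrix B) (hM : ∀ i j, (s i * s j) ^ M i j = 1)
    (hM' : ∀ i j (r : ℕ), (s i * s j) ^ r = 1 → M i j ∣ r) (i : B) :
    coxEquiv E hgen M hM hM' (s i) = M.simple i := by
  unfold coxEquiv
  simp only [MonoidHom.toMulEquiv_apply]
  exact titsHom_apply E hgen _ _ _ i

end hom

section right
variable {s : B → W}

theorem Red.reverse (hinv : ∀ i, s i * s i = 1) {ω : List B} (h : Red s ω) : Red s ω.reverse := by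
  intro τ hτ
  have := h τ.reverse (by rw [wp_reverse hinv, hτ, wp_reverse hinv, inv_inv])
  simpa using this

/-- The exchange condition on the right. -/
structure ExSysR (s : B → W) : Prop where
  inv : ∀ i, s i * s i = 1
  exch : ∀ (i : B) (ω : List B), Red s ω → ¬ Red s (ω ++ [i]) →
    ∃ a j b, ω = a ++ j :: b ∧ wp s ω * s i = wp s (a ++ b)

theorem ExSysR.toExSys (E : ExSysR s) : ExSys s where
  inv := E.inv
  exch := by
    intro i ω hR hnR
    have hR' : Red s ω.reverse := hR.reverse E.inv
    have hnR' : ¬ Red s (ω.reverse ++ [i]) := by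
      intro h
      apply hnR
      have := h.reverse E.inv
      simpa using this
    obtain ⟨a, j, b, e, hp⟩ := E.exch i _ hR' hnR'
    have eω : ω = b.reverse ++ j :: a.reverse := by
      have := congrArg List.reverse e
      rw [List.reverse_reverse] at this
      rw [this]
      simp
    refine ⟨b.length, ?_, ?_⟩
    · rw [eω]; simp
    · have h1 : ω.eraseIdx b.length = (a ++ b).reverse := by
        rw [eω, List.eraseIdx_append_of_length_le (by simp)]
        simp
      rw [h1, wp_reverse E.inv, ← hp, mul_inv_rev, wp_reverse E.inv, inv_inv]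
      congr 1
      exact (inv_eq_of_mul_eq_one_right (E.inv i)).symm

end right

end Cfsg.Agent.Lib.Helper3.Cox
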