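import Mathlib
import Cfsg.Prelude.Def_ChevStructure
import Cfsg.Agent.Lib.Helper3.Cox1
import Cfsg.Agent.Lib.Helper3.ChevO3
set_option autoImplicit false
open Cfsg Cfsg.Lie

/-! The group of permutations of the roots generated by the fundamental reflections satisfies the exchange
condition, hence is a Coxeter group. -/

namespace Cfsg.Agent.Lib.Helper3.ChevM

open Cox

section
variable {C : CDatum} {R : RelData C} (M : MonoHyp C R)
  (hdec : ∀ r < C.D.nroots, ∀ s < C.D.nroots, hdecCheck C.D R.pair r s = true)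
  (hsign : ∀ r < C.D.nroots, signCheck C.D r = true)

include M hsign in
/-- Appending a fundamental reflection whose root stays positive raises the number of inversions by one. -/
theorem MonoHyp.Nf_append_simple (l : List ℕ) (hl : ∀ i ∈ l, i < C.D.rank) (i : ℕ) (hi : i < C.D.rank)
    (hpos : C.D.IsPosRoot (reflW R.refl l (C.D.simple i))) :
    Nf C.D (wperm C.D R.refl (l ++ [i])) = Nf C.D (wperm C.D R.refl l) + 1 := by
  classical
  set p := C.D.simple i with hp
  have hpl : p < C.D.nroots := R.simple_lt i hi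
  have hi1 : ∀ j ∈ [i], j < C.D.rank := by
    intro j hj; rw [List.mem_singleton.mp hj]; exact hi
  set σ := wperm C.D R.refl [i] with hσ
  set π := wperm C.D R.refl l with hπ
  have hσval : ∀ s, (σ s).val = R.refl i s.val := fun s => R.wperm_val [i] hi1 s
  have hπval : ∀ s, (π s).val = reflW R.refl l s.val := fun s => R.wperm_val l hl s
  have hcomp : ∀ s, wperm C.D R.refl (l ++ [i]) s = π (σ s) := fun s => M.wperm_append l [i] hl hi1 s
  have hσσ : ∀ s, σ (σ s) = s := fun s => M.wperm_reverse [i] hi1 s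
  have hns := M.ns i hi
  simp only [negSimpleCheck, Bool.and_eq_true, Bool.not_eq_true', decide_eq_false_iff_not, decide_eq_true_eq] at hns
  have hreflp : R.refl i p = C.D.neg p := by
    rw [R.refl_eq i hi _ hpl]
    simp only [ChevalleyDatum.reflectRoot, ← hp, if_true]
  let P : Fin C.D.nroots := ⟨p, hpl⟩
  have hσP : (σ P).val = C.D.neg p := by rw [hσval]; exact hreflp
  have hwp : ∀ s : Fin C.D.nroots, C.D.IsPosRoot s.val → s ≠ P → C.D.IsPosRoot (σ s).val ∧ σ s ≠ P := by
    intro s hs hne
    have hc := M.wp i hi s.val s.isLt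
    simp only [wpCheck, Bool.or_eq_true, Bool.and_eq_true, Bool.not_eq_true', decide_eq_true_eq,
      Bool.and_eq_false_imp, decide_eq_false_iff_not] at hc
    have hne' : s.val ≠ p := fun e => hne (Fin.ext e)
    rcases hc with hc | hc
    · exact absurd (hc hs) (by simpa using hne')
    · rw [hσval]
      refine ⟨hc.1, ?_⟩
      intro e
      have := congrArg Fin.val e
      rw [hσval] at this
      exact hc.2 this
  have hnegP : C.D.IsNegRoot (π (σ P)).val := by
    rw [hπval, hσP, M.reflW_neg l hl p hpl]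
    have hlt := R.reflW_lt l hl p hpl
    obtain ⟨-, s2, s3⟩ := signCheck_spec (hsign _ hlt)
    obtain ⟨-, t2, -⟩ := signCheck_spec (hsign _ (R.neg_lt _ hlt))
    rw [t2, s3]
    exact hpos
  have hnotnegP : ¬ C.D.IsNegRoot (π P).val := by
    rw [hπval]
    have hlt := R.reflW_lt l hl p hpl
    rw [neg_iff_not_pos hsign _ hlt, not_not]
    exact hpos
  unfold Nf
  set A' := Finset.univ.filter fun s : Fin C.D.nroots => C.D.IsPosRoot s.val ∧ C.D.IsNegRoot (π s).val with hA'
  have hA : (Finset.univ.filter fun s : Fin C.D.nroots =>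
      C.D.IsPosRoot s.val ∧ C.D.IsNegRoot (wperm C.D R.refl (l ++ [i]) s).val) = insert P (A'.image σ) := by
    ext s
    simp only [Finset.mem_filter, Finset.mem_univ, true_and, Finset.mem_insert, Finset.mem_image, hA', hcomp]
    constructor
    · rintro ⟨h1, h2⟩
      by_cases hsP : s = P
      · exact Or.inl hsP
      · right
        refine ⟨σ s, ⟨(hwp s h1 hsP).1, h2⟩, hσσ s⟩
    · rintro (rfl | ⟨t, ⟨h1, h2⟩, rfl⟩)
      · exact ⟨hns.2, hnegP⟩
      · have htP : t ≠ P := by
          rintro rfl
          exact hnotnegP h2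
        refine ⟨(hwp t h1 htP).1, ?_⟩
        rw [hσσ]; exact h2
  have hPn : P ∉ A'.image σ := by
    simp only [Finset.mem_image, hA', Finset.mem_filter, Finset.mem_univ, true_and, not_exists, not_and]
    rintro t ⟨h1, -⟩ e
    have : t = σ P := by rw [← e, hσσ]
    rw [this, hσP] at h1
    exact hns.1 h1
  have hinj : Function.Injective σ := M.wperm_injective [i] hi1
  rw [hA, Finset.card_insert_of_notMem hPn, Finset.card_image_of_injective _ hinj]

include M hdec hsign in
/-- The number of inversions is at most the length of the word. -/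
theorem MonoHyp.Nf_le_length : ∀ (k : ℕ) (l : List ℕ), l.length = k → (∀ i ∈ l, i < C.D.rank) →
    Nf C.D (wperm C.D R.refl l) ≤ k := by
  intro k
  induction k using Nat.strong_induction_on with
  | _ k ih =>
    intro l hk hl
    rcases List.eq_nil_or_concat l with rfl | ⟨l', i, hcat⟩
    · have h2 : Nf C.D (wperm C.D R.refl []) = 0 := by
        unfold Nf
        rw [Finset.card_eq_zero, Finset.filter_eq_empty_iff]
        rintro s - ⟨h1, h2⟩
        have : (wperm C.D R.refl [] s).val = s.val := R.wperm_val [] (by simp) s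
        rw [this, neg_iff_not_pos hsign _ s.isLt] at h2
        exact h2 h1
      rw [h2]; exact Nat.zero_le _
    rw [List.concat_eq_append] at hcat
    subst hcat
    have hi : i < C.D.rank := hl i (by simp)
    have hl' : ∀ j ∈ l', j < C.D.rank := fun j hj => hl j (by simp [hj])
    have hlen : l'.length + 1 = k := by rw [← hk]; simp
    by_cases hpos : C.D.IsPosRoot (reflW R.refl l' (C.D.simple i))
    · rw [M.Nf_append_simple hsign l' hl' i hi hpos]
      have := ih l'.length (by omega) l' rfl hl'
      omega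
    · have hns := M.ns i hi
      simp only [negSimpleCheck, Bool.and_eq_true, Bool.not_eq_true', decide_eq_false_iff_not,
        decide_eq_true_eq] at hns
      obtain ⟨l1, j, l2, e, h3⟩ := exists_simple_of_walk C.D R.refl M.wp l' hl' _ hns.2 hpos
      subst e
      have hl1 : ∀ a ∈ l1, a < C.D.rank := fun a ha => hl' a (by simp [ha])
      have hl2 : ∀ a ∈ l2, a < C.D.rank := fun a ha => hl' a (by simp [ha])
      have hj : j < C.D.rank := hl' j (by simp)
      have hdel := M.reflW_deletion hdec l1 l2 i j hl1 hl2 hi hj h3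
      have hl12 : ∀ a ∈ l1 ++ l2, a < C.D.rank := by
        intro a ha
        rcases List.mem_append.mp ha with h | h
        · exact hl1 a h
        · exact hl2 a h
      have he : wperm C.D R.refl ((l1 ++ j :: l2) ++ [i]) = wperm C.D R.refl (l1 ++ l2) :=
        (R.wperm_eq_iff _ _ hl hl12).mpr hdel
      rw [he]
      have hlt : (l1 ++ l2).length < k := by
        rw [← hk]; simp
      exact (ih _ hlt (l1 ++ l2) rfl hl12).trans hlt.le

/-- The word of natural numbers of a word of indices. -/
def lw {n : ℕ} (ω : List (Fin n)) : List ℕ := ω.map Fin.val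

theorem lw_lt {n : ℕ} (ω : List (Fin n)) : ∀ i ∈ lw ω, i < n := by
  intro i hi
  obtain ⟨a, -, rfl⟩ := List.mem_map.mp hi
  exact a.isLt

@[simp] theorem lw_append {n : ℕ} (a b : List (Fin n)) : lw (a ++ b) = lw a ++ lw b := List.map_append
@[simp] theorem lw_cons {n : ℕ} (i : Fin n) (a : List (Fin n)) : lw (i :: a) = i.val :: lw a := rfl
@[simp] theorem lw_nil {n : ℕ} : lw ([] : List (Fin n)) = [] := rfl
@[simp] theorem lw_length {n : ℕ} (a : List (Fin n)) : (lw a).length = a.length := List.length_map _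

/-- The fundamental reflection as a permutation of the roots. -/
def MonoHyp.sigma (i : Fin C.D.rank) : Equiv.Perm (Fin C.D.nroots) where
  toFun := wperm C.D R.refl [i.val]
  invFun := wperm C.D R.refl [i.val]
  left_inv := M.wperm_reverse [i.val] (by intro j hj; rw [List.mem_singleton.mp hj]; exact i.isLt)
  right_inv := M.wperm_reverse [i.val] (by intro j hj; rw [List.mem_singleton.mp hj]; exact i.isLt)

/-- The group generated by the fundamental reflections. -/
def MonoHyp.weyl : Subgroup (Equiv.Perm (Fin C.D.nroots)) := Subgroup.closure (Set.range M.sigma)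

/-- The fundamental reflections as elements of the group they generate. -/
def MonoHyp.sW (i : Fin C.D.rank) : M.weyl := ⟨M.sigma i, Subgroup.subset_closure ⟨i, rfl⟩⟩

theorem MonoHyp.wp_sigma (ω : List (Fin C.D.rank)) (s : Fin C.D.nroots) :
    Cox.wp M.sigma ω s = wperm C.D R.refl (lw ω) s := by
  induction ω generalizing s with
  | nil =>
    apply Fin.ext
    rw [R.wperm_val _ (lw_lt _)]
    rfl
  | cons i ω ih =>
    rw [Cox.wp_cons, Equiv.Perm.mul_apply, ih]
    have := M.wperm_append [i.val] (lw ω) (lw_lt [i]) (lw_lt ω) s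
    exact this.symm

theorem MonoHyp.coe_wp_sW (ω : List (Fin C.D.rank)) : ((Cox.wp M.sW ω : M.weyl) : Equiv.Perm (Fin C.D.nroots)) = Cox.wp M.sigma ω := by
  have := map_wp M.weyl.subtype M.sW ω
  exact this

theorem MonoHyp.wp_sW_eq_iff (ω ω' : List (Fin C.D.rank)) :
    Cox.wp M.sW ω = Cox.wp M.sW ω' ↔ wperm C.D R.refl (lw ω) = wperm C.D R.refl (lw ω') := by
  rw [← Subtype.coe_inj, M.coe_wp_sW, M.coe_wp_sW]
  constructor
  · intro h
    funext s
    rw [← M.wp_sigma, ← M.wp_sigma, h]
  · intro h
    ext s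
    rw [M.wp_sigma, M.wp_sigma, h]

theorem MonoHyp.sW_inv (i : Fin C.D.rank) : M.sW i * M.sW i = 1 := by
  apply Subtype.ext
  ext s
  show ((M.sigma i * M.sigma i) s).val = _
  rw [Equiv.Perm.mul_apply]
  have := M.wperm_reverse [i.val] (by intro j hj; rw [List.mem_singleton.mp hj]; exact i.isLt) s
  exact congrArg Fin.val this

theorem MonoHyp.closure_sW : Subgroup.closure (Set.range M.sW) = ⊤ := by
  have h := Subgroup.closure_closure_coe_preimage (k := Set.range M.sigma)
  have e : Set.range M.sW = ((↑) : M.weyl → Equiv.Perm (Fin C.D.nroots)) ⁻¹' Set.range M.sigma := by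
    ext x
    constructor
    · rintro ⟨i, rfl⟩
      exact ⟨i, rfl⟩
    · rintro ⟨i, hi⟩
      exact ⟨i, Subtype.ext hi⟩
  rw [e]
  exact h

include hdec in
/-- Deletion for words of indices. -/
theorem MonoHyp.deletion_fin (ω : List (Fin C.D.rank)) (i : Fin C.D.rank)
    (hneg : ¬ C.D.IsPosRoot (reflW R.refl (lw ω) (C.D.simple i.val))) :
    ∃ a j b, ω = a ++ j :: b ∧ Cox.wp M.sW ω * M.sW i = Cox.wp M.sW (a ++ b) := by
  have hns := M.ns i.val i.isLt
  simp only [negSimpleCheck, Bool.and_eq_true, Bool.not_eq_true', decide_eq_false_iff_not,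
    decide_eq_true_eq] at hns
  obtain ⟨l1, j, l2, e, h3⟩ := exists_simple_of_walk C.D R.refl M.wp (lw ω) (lw_lt ω) _ hns.2 hneg
  obtain ⟨a, b', rfl, ha, hb'⟩ := List.map_eq_append_iff.mp e
  obtain ⟨j', b, rfl, hj', hb⟩ := List.map_eq_cons_iff.mp hb'
  refine ⟨a, j', b, rfl, ?_⟩
  have h1 : Cox.wp M.sW (a ++ j' :: b) * M.sW i = Cox.wp M.sW ((a ++ j' :: b) ++ [i]) := by
    rw [wp_append _ _ [i], wp_singleton]
  rw [h1, M.wp_sW_eq_iff]
  rw [R.wperm_eq_iff _ _ (lw_lt _) (lw_lt _)]
  have hdel := M.reflW_deletion hdec (lw a) (lw b) i.val j'.val (lw_lt a) (lw_lt b) i.isLt j'.isLt (by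
    have : lw b = l2 := hb
    rw [this, h3, hj'])
  simpa using hdel

include hdec hsign in
/-- A reduced word has as many inversions as letters. -/
theorem MonoHyp.Nf_of_red : ∀ (k : ℕ) (ω : List (Fin C.D.rank)), ω.length = k → Red M.sW ω →
    Nf C.D (wperm C.D R.refl (lw ω)) = k := by
  intro k
  induction k with
  | zero =>
    intro ω hk _
    rw [List.length_eq_zero_iff.mp hk]
    have := M.Nf_le_length hdec hsign 0 [] rfl (by simp)
    exact Nat.le_zero.mp this
  | succ k ih =>
    intro ω hk hR
    rcases List.eq_nil_or_concat ω with rfl | ⟨ω', i, hcat⟩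
    · simp at hk
    rw [List.concat_eq_append] at hcat
    subst hcat
    have hk' : ω'.length = k := by simpa using hk
    have hR' : Red M.sW ω' := hR.init
    by_cases hpos : C.D.IsPosRoot (reflW R.refl (lw ω') (C.D.simple i.val))
    · rw [lw_append]
      show Nf C.D (wperm C.D R.refl (lw ω' ++ [i.val])) = k + 1
      rw [M.Nf_append_simple hsign (lw ω') (lw_lt _) i.val i.isLt hpos, ih ω' hk' hR']
    · exfalso
      obtain ⟨a, j, b, e, hp⟩ := M.deletion_fin hdec ω' i hpos
      have h1 : Cox.wp M.sW (a ++ b) = Cox.wp M.sW (ω' ++ [i]) := by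
        rw [← hp, wp_append, wp_singleton]
      have := hR (a ++ b) h1
      rw [e] at this
      simp at this

include hdec hsign in
/-- The fundamental reflections satisfy the exchange condition. -/
theorem MonoHyp.exSysR : ExSysR M.sW where
  inv := M.sW_inv
  exch := by
    intro i ω hR hnR
    apply M.deletion_fin hdec ω i
    intro hpos
    apply hnR
    intro τ hτ
    have h1 : Nf C.D (wperm C.D R.refl (lw (ω ++ [i]))) = ω.length + 1 := by
      rw [lw_append]
      show Nf C.D (wperm C.D R.refl (lw ω ++ [i.val])) = _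
      rw [M.Nf_append_simple hsign (lw ω) (lw_lt _) i.val i.isLt hpos, M.Nf_of_red hdec hsign _ ω rfl hR]
    have h2 := M.Nf_le_length hdec hsign _ (lw τ) rfl (lw_lt τ)
    rw [(M.wp_sW_eq_iff τ (ω ++ [i])).mp hτ, h1] at h2
    simpa using h2

/-- The order of the product of two fundamental reflections, checked on the table. -/
def wordOrdCheck (D : ChevalleyDatum) (refl : ℕ → ℕ → ℕ) (w : List ℕ) (m : ℕ) : Bool :=
  decide (0 < m) && decide (m ∣ 180) &&
    ((List.range D.nroots).all fun s => decide (reflW refl (List.replicate m w).flatten s = s)) &&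
    ([2, 3, 5].all fun p => !decide (p ∣ m) ||
      ((List.range D.nroots).any fun s => !decide (reflW refl (List.replicate (m / p) w).flatten s = s)))

theorem MonoHyp.wp_pow (ω : List (Fin C.D.rank)) (m : ℕ) :
    (Cox.wp M.sW ω) ^ m = Cox.wp M.sW (List.replicate m ω).flatten := by
  induction m with
  | zero => simp
  | succ m ih => rw [pow_succ', ih, List.replicate_succ, List.flatten_cons, wp_append]

theorem lw_flatten_replicate {n : ℕ} (ω : List (Fin n)) (m : ℕ) :
    lw (List.replicate m ω).flatten = (List.replicate m (lw ω)).flatten := by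
  induction m with
  | zero => rfl
  | succ m ih => rw [List.replicate_succ, List.flatten_cons, lw_append, ih, List.replicate_succ, List.flatten_cons]

theorem prime_dvd_180 (p : ℕ) (hp : p.Prime) (h : p ∣ 180) : p = 2 ∨ p = 3 ∨ p = 5 := by
  have e : (180 : ℕ) = 2 ^ 2 * (3 ^ 2 * 5) := by norm_num
  rw [e] at h
  rcases (Nat.Prime.dvd_mul hp).mp h with h | h
  · exact Or.inl ((Nat.prime_dvd_prime_iff_eq hp Nat.prime_two).mp (hp.dvd_of_dvd_pow h))
  rcases (Nat.Prime.dvd_mul hp).mp h with h | h
  · exact Or.inr (Or.inl ((Nat.prime_dvd_prime_iff_eq hp Nat.prime_three).mp (hp.dvd_of_dvd_pow h)))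
  · exact Or.inr (Or.inr ((Nat.prime_dvd_prime_iff_eq hp Nat.prime_five).mp h))

theorem MonoHyp.orderOf_wp (ω : List (Fin C.D.rank)) (m : ℕ)
    (h : wordOrdCheck C.D R.refl (lw ω) m = true) : orderOf (Cox.wp M.sW ω) = m := by
  simp only [wordOrdCheck, Bool.and_eq_true, decide_eq_true_eq, List.all_eq_true, List.mem_range,
    Bool.or_eq_true, Bool.not_eq_true', decide_eq_false_iff_not, List.any_eq_true] at h
  obtain ⟨⟨⟨h0, h180⟩, hone⟩, hp⟩ := h
  have hid : ∀ k : ℕ, (Cox.wp M.sW ω) ^ k = 1 ↔
      ∀ s < C.D.nroots, reflW R.refl (List.replicate k (lw ω)).flatten s = s := by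
    intro k
    have e1 : (1 : M.weyl) = Cox.wp M.sW [] := rfl
    rw [M.wp_pow, e1, M.wp_sW_eq_iff, R.wperm_eq_iff _ _ (lw_lt _) (lw_lt _), lw_flatten_replicate]
    rfl
  apply orderOf_eq_of_pow_and_pow_div_prime h0
  · rw [hid]; exact hone
  · intro p hpp hpm
    rw [ne_eq, hid]
    have hp180 := prime_dvd_180 p hpp (hpm.trans h180)
    have hmem : p ∈ [2, 3, 5] := by
      rcases hp180 with rfl | rfl | rfl <;> simp
    rcases hp p hmem with h1 | ⟨s, hs, h1⟩
    · exact absurd hpm h1
    · intro hall
      exact h1 (hall s hs)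

end

end Cfsg.Agent.Lib.Helper3.ChevM
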