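import Mathlib
import Cfsg.Prelude.Def_ChevStructure
import Cfsg.Agent.Lib.Helper3.Cox2
set_option autoImplicit false
open Cfsg Cfsg.Lie

/-! The Weyl group of a Chevalley datum as a Coxeter group: its order, and the homomorphism from `N`. -/

namespace Cfsg.Agent.Lib.Helper3.ChevM

open Cox

section
variable {C : CDatum} {R : RelData C} (M : MonoHyp C R)
  (hdec : ∀ r < C.D.nroots, ∀ s < C.D.nroots, hdecCheck C.D R.pair r s = true)
  (hsign : ∀ r < C.D.nroots, signCheck C.D r = true)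

theorem exists_lw {n : ℕ} (w : List ℕ) (hw : ∀ i ∈ w, i < n) : ∃ ω : List (Fin n), lw ω = w := by
  induction w with
  | nil => exact ⟨[], rfl⟩
  | cons i w ih =>
    obtain ⟨ω, hω⟩ := ih (fun j hj => hw j (List.mem_cons_of_mem _ hj))
    exact ⟨⟨i, hw i List.mem_cons_self⟩ :: ω, by rw [lw_cons, hω]⟩

theorem MonoHyp.exists_word_weyl (w : M.weyl) : ∃ ω, Cox.wp M.sW ω = w :=
  Cox.exists_word M.sW_inv M.closure_sW w

/-- The order of the group generated by the fundamental reflections is the value at 1 of the Poincaré sum. -/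
theorem MonoHyp.card_weyl : Nat.card M.weyl = poin C.D R.refl Set.univ 1 := by
  classical
  unfold poin
  simp only [one_pow, Finset.sum_const, smul_eq_mul, mul_one]
  rw [← Fintype.card_subtype, ← Nat.card_eq_fintype_card]
  let f : M.weyl → {f : Fin C.D.nroots → Fin C.D.nroots // f ∈ Wset C.D R.refl Set.univ} := fun w =>
    ⟨⇑w.val, by
      obtain ⟨ω, hω⟩ := M.exists_word_weyl w
      refine ⟨lw ω, fun i hi => ⟨lw_lt ω i hi, Set.mem_univ _⟩, ?_⟩
      funext s
      rw [← hω, M.coe_wp_sW, M.wp_sigma]⟩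
  have hinj : Function.Injective f := by
    intro a b h
    have h' : (⇑a.val : Fin C.D.nroots → Fin C.D.nroots) = ⇑b.val := congrArg Subtype.val h
    exact Subtype.ext (Equiv.ext (congrFun h'))
  have hsurj : Function.Surjective f := by
    rintro ⟨g, w, hw, rfl⟩
    obtain ⟨ω, hω⟩ := exists_lw (n := C.D.rank) w (fun i hi => (hw i hi).1)
    refine ⟨Cox.wp M.sW ω, ?_⟩
    apply Subtype.ext
    funext s
    show (Cox.wp M.sW ω).val s = _
    rw [M.coe_wp_sW, M.wp_sigma, hω]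
  exact Nat.card_congr (Equiv.ofBijective f ⟨hinj, hsurj⟩)

theorem MonoHyp.orderOf_sW_mul (i j : Fin C.D.rank) (m : ℕ)
    (h : wordOrdCheck C.D R.refl [i.val, j.val] m = true) : orderOf (M.sW i * M.sW j) = m := by
  have := M.orderOf_wp [i, j] m h
  rwa [Cox.wp_cons, Cox.wp_singleton] at this

/-- The isomorphism of the group generated by the fundamental reflections with a Coxeter group. -/
noncomputable def MonoHyp.coxEquiv (X : CoxeterMatrix (Fin C.D.rank))
    (hX : ∀ i j : Fin C.D.rank, wordOrdCheck C.D R.refl [i.val, j.val] (X i j) = true) : M.weyl ≃* X.Group :=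
  Cox.coxEquiv (M.exSysR hdec hsign).toExSys M.closure_sW X
    (fun i j => by rw [← M.orderOf_sW_mul i j _ (hX i j)]; exact pow_orderOf_eq_one _)
    (fun i j r h => by rw [← M.orderOf_sW_mul i j _ (hX i j)]; exact orderOf_dvd_of_pow_eq_one h)

theorem MonoHyp.coxEquiv_apply (X : CoxeterMatrix (Fin C.D.rank))
    (hX : ∀ i j : Fin C.D.rank, wordOrdCheck C.D R.refl [i.val, j.val] (X i j) = true) (i : Fin C.D.rank) :
    M.coxEquiv hdec hsign X hX (M.sW i) = X.simple i :=
  Cox.coxEquiv_apply _ _ _ _ _ i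

include M hdec hsign in
theorem MonoHyp.card_coxeter (X : CoxeterMatrix (Fin C.D.rank))
    (hX : ∀ i j : Fin C.D.rank, wordOrdCheck C.D R.refl [i.val, j.val] (X i j) = true) :
    Nat.card X.Group = poin C.D R.refl Set.univ 1 := by
  rw [← Nat.card_congr (M.coxEquiv hdec hsign X hX).toEquiv, M.card_weyl]

include M hdec hsign in
theorem MonoHyp.orderOf_coxeter (X : CoxeterMatrix (Fin C.D.rank))
    (hX : ∀ i j : Fin C.D.rank, wordOrdCheck C.D R.refl [i.val, j.val] (X i j) = true)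
    (ω : List (Fin C.D.rank)) (m : ℕ) (h : wordOrdCheck C.D R.refl (lw ω) m = true) :
    orderOf (ω.map X.simple).prod = m := by
  rw [← M.orderOf_wp ω m h, ← MulEquiv.orderOf_eq (M.coxEquiv hdec hsign X hX)]
  congr 1
  have := map_wp (M.coxEquiv hdec hsign X hX).toMonoidHom M.sW ω
  show _ = (M.coxEquiv hdec hsign X hX).toMonoidHom (Cox.wp M.sW ω)
  rw [this]
  unfold Cox.wp
  congr 1
  apply List.map_congr_left
  intro i _
  exact (M.coxEquiv_apply hdec hsign X hX i).symm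

end

section
variable {F : Type*} [Field F] {C : CDatum} {R : RelData C} (M : MonoHyp C R)
  (hdec : ∀ r < C.D.nroots, ∀ s < C.D.nroots, hdecCheck C.D R.pair r s = true)

/-- The relation between an element of `N` and the permutation of the roots it induces. -/
def MonoHyp.NRel (g : GL C.D.Idx F) (w : M.weyl) : Prop :=
  ∃ h ∈ C.D.diagonalSubgroup F, ∃ ω : List (Fin C.D.rank), g = h * R.nWordU (lw ω) ∧ w = Cox.wp M.sW ω

theorem MonoHyp.NRel_exists (g : GL C.D.Idx F) (hg : g ∈ C.D.monomialSubgroup F) : ∃ w, M.NRel g w := by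
  obtain ⟨h, hh, l, hl, e⟩ := M.monomial_decomp g hg
  obtain ⟨ω, hω⟩ := exists_lw (n := C.D.rank) l hl
  exact ⟨Cox.wp M.sW ω, h, hh, ω, by rw [hω, e], rfl⟩

include hdec in
theorem MonoHyp.NRel_unique (g : GL C.D.Idx F) (w w' : M.weyl) (h1 : M.NRel g w) (h2 : M.NRel g w') : w = w' := by
  obtain ⟨h, hh, ω, e, rfl⟩ := h1
  obtain ⟨h', hh', ω', e', rfl⟩ := h2
  rw [M.wp_sW_eq_iff, R.wperm_eq_iff _ _ (lw_lt _) (lw_lt _)]
  refine R.reflW_eq_of_coset (F := F) hdec _ _ (lw_lt _) (lw_lt _) (h⁻¹ * h')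
    (Subgroup.mul_mem _ (Subgroup.inv_mem _ hh) hh') ?_
  have : h * R.nWordU (lw ω) = h' * R.nWordU (lw ω') := by rw [← e, ← e']
  rw [mul_assoc, ← this]; group

theorem MonoHyp.NRel_mul (g g' : GL C.D.Idx F) (w w' : M.weyl) (h1 : M.NRel g w) (h2 : M.NRel g' w') :
    M.NRel (g * g') (w * w') := by
  obtain ⟨h, hh, ω, e, rfl⟩ := h1
  obtain ⟨h', hh', ω', e', rfl⟩ := h2
  refine ⟨h * (R.nWordU (lw ω) * h' * (R.nWordU (lw ω))⁻¹),
    Subgroup.mul_mem _ hh (M.conj_mem _ (R.nWordU_mem _ (lw_lt ω)) _ hh'), ω ++ ω', ?_, ?_⟩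
  · rw [lw_append, R.nWordU_append, e, e']; group
  · rw [Cox.wp_append]

include hdec in
/-- The homomorphism from `N` onto the group generated by the fundamental reflections, with kernel `H`. -/
theorem MonoHyp.exists_weylHom :
    ∃ φ : ↥(C.D.monomialSubgroup F) →* M.weyl, Function.Surjective φ ∧
      φ.ker = (C.D.diagonalSubgroup F).subgroupOf (C.D.monomialSubgroup F) ∧
      ∀ (i : Fin C.D.rank) (g : ↥(C.D.monomialSubgroup F)),
        ((g : GL C.D.Idx F) : Matrix C.D.Idx C.D.Idx F) = C.D.nMat F (C.D.simple i.val) 1 → φ g = M.sW i := by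
  classical
  let f : ↥(C.D.monomialSubgroup F) → M.weyl := fun g => Classical.choose (M.NRel_exists g.1 g.2)
  have hf : ∀ g : ↥(C.D.monomialSubgroup F), M.NRel g.1 (f g) := fun g => Classical.choose_spec (M.NRel_exists g.1 g.2)
  have hmul : ∀ a b, f (a * b) = f a * f b := fun a b =>
    M.NRel_unique hdec _ _ _ (hf (a * b)) (M.NRel_mul _ _ _ _ (hf a) (hf b))
  let φ : ↥(C.D.monomialSubgroup F) →* M.weyl := MonoidHom.mk' f hmul
  refine ⟨φ, ?_, ?_, ?_⟩
  · intro w
    obtain ⟨ω, rfl⟩ := M.exists_word_weyl w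
    refine ⟨⟨R.nWordU (lw ω), R.nWordU_mem _ (lw_lt ω)⟩, ?_⟩
    exact M.NRel_unique hdec _ _ _ (hf _) ⟨1, Subgroup.one_mem _, ω, (one_mul _).symm, rfl⟩
  · ext g
    rw [MonoidHom.mem_ker, Subgroup.mem_subgroupOf]
    constructor
    · intro h1
      have h2 := hf g
      have h3 : f g = 1 := h1
      rw [h3] at h2
      obtain ⟨h, hh, ω, e, hω⟩ := h2
      rw [e]
      refine Subgroup.mul_mem _ hh ?_
      apply M.nWordU_mem_diagonal_of_fix hdec _ _ rfl (lw_lt ω)
      have e1 : (1 : M.weyl) = Cox.wp M.sW [] := rfl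
      rw [e1, M.wp_sW_eq_iff, R.wperm_eq_iff _ _ (lw_lt _) (lw_lt _)] at hω
      intro s hs
      exact (hω s hs).symm
    · intro hg
      exact M.NRel_unique hdec _ _ _ (hf g) ⟨g.1, hg, [], by simp [RelData.nWordU], rfl⟩
  · intro i g hg
    have e : g.1 = R.nU (C.D.simple i.val) (1 : F) := Units.ext (by rw [hg, R.nU_val])
    refine M.NRel_unique hdec _ _ _ (hf g) ⟨1, Subgroup.one_mem _, [i], ?_, ?_⟩
    · rw [one_mul, e]
      show _ = R.nWordU [i.val]
      rw [R.nWordU_cons, R.nWordU_nil, mul_one]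
    · rw [Cox.wp_singleton]

end

end Cfsg.Agent.Lib.Helper3.ChevM
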