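import Mathlib
import Cfsg.Prelude.Def_ChevStructure
import Cfsg.Agent.Lib.Helper3.ChevTw2
import Cfsg.Agent.Lib.Helper3.Cox3
set_option autoImplicit false
open Cfsg Cfsg.Lie

/-! The elements of the Weyl group commuting with the symmetry are products of the reflections attached to the
orbits of the symmetry on the fundamental roots. -/

namespace Cfsg.Agent.Lib.Helper3.ChevM

/-- The symmetry is compatible with the fundamental reflections. -/
def twReflCheck (D : ChevalleyDatum) (refl : ℕ → ℕ → ℕ) (p rho : ℕ → ℕ) : Bool :=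
  (List.range D.rank).all fun i => decide (p i < D.rank) && decide (rho (D.simple i) = D.simple (p i)) &&
    (List.range D.nroots).all fun s => decide (refl (p i) (rho s) = rho (refl i s))

/-- The classes (orbits of the symmetry) of fundamental roots. -/
def twClsCheck (D : ChevalleyDatum) (refl : ℕ → ℕ → ℕ) (p : ℕ → ℕ) (cls : List (List ℕ)) : Bool :=
  ((List.range D.rank).all fun i => cls.any fun J => decide (i ∈ J)) &&
  cls.all fun J =>
    (J.all fun j => decide (j < D.rank)) &&
    (J.all fun a => J.all fun b => (List.range 4).any fun k => decide (p^[k] a = b)) &&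
    (J.all fun a => J.all fun b => decide (a = b) || decide (refl a (D.simple b) = D.simple b)) &&
    decide J.Nodup &&
    ((List.range D.nroots).all fun s =>
      decide (reflW refl (J.map p) s = reflW refl J s) && decide (reflW refl (J ++ J) s = s))

section
variable {C : CDatum} {R : RelData C} (M : MonoHyp C R)
  (hdec : ∀ r < C.D.nroots, ∀ s < C.D.nroots, hdecCheck C.D R.pair r s = true)
  (hsign : ∀ r < C.D.nroots, signCheck C.D r = true)

include M hdec hsign in
/-- A word mapping the fundamental roots to positive roots fixes every root. -/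
theorem MonoHyp.reflW_eq_self_of_simple_pos :
    ∀ (k : ℕ) (l : List ℕ), l.length = k → (∀ a ∈ l, a < C.D.rank) →
      (∀ i < C.D.rank, C.D.IsPosRoot (reflW R.refl l (C.D.simple i))) → ∀ s < C.D.nroots, reflW R.refl l s = s := by
  intro k
  induction k using Nat.strong_induction_on with
  | _ k ih =>
    intro l hk hl hpos
    rcases List.eq_nil_or_concat l with rfl | ⟨l', i, hcat⟩
    · intro s _; rfl
    rw [List.concat_eq_append] at hcat
    subst hcat
    have hi : i < C.D.rank := hl i (by simp)
    have hl' : ∀ j ∈ l', j < C.D.rank := fun j hj => hl j (by simp [hj])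
    set p := C.D.simple i with hp
    have hpl : p < C.D.nroots := R.simple_lt i hi
    have hns := M.ns i hi
    simp only [negSimpleCheck, Bool.and_eq_true, Bool.not_eq_true', decide_eq_false_iff_not, decide_eq_true_eq] at hns
    have hreflp : R.refl i p = C.D.neg p := by
      rw [R.refl_eq i hi _ hpl]
      simp only [ChevalleyDatum.reflectRoot, ← hp, if_true]
    have h1 : reflW R.refl (l' ++ [i]) p = C.D.neg (reflW R.refl l' p) := by
      rw [reflW_append]
      show reflW R.refl l' (R.refl i p) = _
      rw [hreflp]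
      exact (R.negCompat_word M.nr l' hl' p hpl).1
    have h2 := hpos i hi
    rw [← hp, h1] at h2
    have hlt := R.reflW_lt l' hl' p hpl
    have hneg : ¬ C.D.IsPosRoot (reflW R.refl l' p) := by
      intro h3
      exact ((signCheck_spec (hsign _ hlt)).1.mp h3) h2
    obtain ⟨l1, j, l2, e, h3⟩ := exists_simple_of_walk C.D R.refl M.wp l' hl' p hns.2 hneg
    subst e
    have hl1 : ∀ a ∈ l1, a < C.D.rank := fun a ha => hl' a (by simp [ha])
    have hl2 : ∀ a ∈ l2, a < C.D.rank := fun a ha => hl' a (by simp [ha])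
    have hj : j < C.D.rank := hl' j (by simp)
    have hdel := M.reflW_deletion hdec l1 l2 i j hl1 hl2 hi hj h3
    have hlen : (l1 ++ l2).length < k := by
      rw [← hk]; simp
    have hl12 : ∀ a ∈ l1 ++ l2, a < C.D.rank := by
      intro a ha
      rcases List.mem_append.mp ha with h | h
      · exact hl1 a h
      · exact hl2 a h
    have := ih _ hlen (l1 ++ l2) rfl hl12
      (fun a ha => by rw [← hdel _ (R.simple_lt a ha)]; exact hpos a ha)
    intro s hs
    rw [hdel s hs, this s hs]

include M hsign in
/-- Appending a fundamental reflection whose root becomes negative lowers the number of inversions by one. -/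
theorem MonoHyp.Nf_append_simple_neg (l : List ℕ) (hl : ∀ i ∈ l, i < C.D.rank) (i : ℕ) (hi : i < C.D.rank)
    (hneg : ¬ C.D.IsPosRoot (reflW R.refl l (C.D.simple i))) :
    Nf C.D (wperm C.D R.refl l) = Nf C.D (wperm C.D R.refl (l ++ [i])) + 1 := by
  set p := C.D.simple i with hp
  have hpl : p < C.D.nroots := R.simple_lt i hi
  have hli : ∀ j ∈ l ++ [i], j < C.D.rank := by
    intro j hj
    rcases List.mem_append.mp hj with h | h
    · exact hl j h
    · rw [List.mem_singleton.mp h]; exact hi
  have hreflp : R.refl i p = C.D.neg p := by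
    rw [R.refl_eq i hi _ hpl]
    simp only [ChevalleyDatum.reflectRoot, ← hp, if_true]
  have h1 : reflW R.refl (l ++ [i]) p = C.D.neg (reflW R.refl l p) := by
    rw [reflW_append]
    show reflW R.refl l (R.refl i p) = _
    rw [hreflp]
    exact (R.negCompat_word M.nr l hl p hpl).1
  have hlt := R.reflW_lt l hl p hpl
  have hpos' : C.D.IsPosRoot (reflW R.refl (l ++ [i]) (C.D.simple i)) := by
    rw [← hp, h1]
    obtain ⟨s1, s2, s3⟩ := signCheck_spec (hsign _ hlt)
    by_contra hc
    exact hneg (s1.mpr hc)
  have h2 := M.Nf_append_simple hsign (l ++ [i]) hli i hi hpos'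
  have h3 : wperm C.D R.refl (l ++ [i] ++ [i]) = wperm C.D R.refl l := by
    rw [R.wperm_eq_iff _ _ (by
      intro j hj
      rcases List.mem_append.mp hj with h | h
      · exact hli j h
      · rw [List.mem_singleton.mp h]; exact hi) hl]
    intro s hs
    rw [List.append_assoc, reflW_append]
    show reflW R.refl l (R.refl i (R.refl i s)) = _
    have := M.inv i hi s hs
    simp only [reflInvCheck, decide_eq_true_eq] at this
    rw [this]
  rw [h3] at h2
  exact h2

include M hsign in
/-- Appending a whole class all of whose roots become negative lowers the number of inversions. -/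
theorem MonoHyp.Nf_append_class (ω : List ℕ) (hω : ∀ i ∈ ω, i < C.D.rank) :
    ∀ (J' : List ℕ), (∀ j ∈ J', j < C.D.rank) → J'.Nodup →
      (∀ a ∈ J', ∀ b ∈ J', a ≠ b → R.refl a (C.D.simple b) = C.D.simple b) →
      (∀ j ∈ J', ¬ C.D.IsPosRoot (reflW R.refl ω (C.D.simple j))) →
      Nf C.D (wperm C.D R.refl ω) = Nf C.D (wperm C.D R.refl (ω ++ J')) + J'.length := by
  intro J'
  induction J' generalizing ω with
  | nil => intro _ _ _ _; simp
  | cons a J' ih =>
    intro hJ hnd horth hneg
    have ha : a < C.D.rank := hJ a List.mem_cons_self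
    have hωa : ∀ i ∈ ω ++ [a], i < C.D.rank := by
      intro i hi
      rcases List.mem_append.mp hi with h | h
      · exact hω i h
      · rw [List.mem_singleton.mp h]; exact ha
    rw [List.nodup_cons] at hnd
    have h1 := M.Nf_append_simple_neg hsign ω hω a ha (hneg a List.mem_cons_self)
    have h2 := ih (ω ++ [a]) hωa (fun j hj => hJ j (List.mem_cons_of_mem _ hj)) hnd.2
      (fun x hx y hy hxy => horth x (List.mem_cons_of_mem _ hx) y (List.mem_cons_of_mem _ hy) hxy)
      (by
        intro j hj
        rw [reflW_append]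
        show ¬ C.D.IsPosRoot (reflW R.refl ω (R.refl a (C.D.simple j)))
        rw [horth a List.mem_cons_self j (List.mem_cons_of_mem _ hj) (fun e => hnd.1 (e ▸ hj))]
        exact hneg j (List.mem_cons_of_mem _ hj))
    rw [h1, h2, List.append_assoc, List.singleton_append, List.length_cons]
    omega

end

section
variable {C : CDatum} {R : RelData C} (M : MonoHyp C R) (G : GraphData C)
  (hdec : ∀ r < C.D.nroots, ∀ s < C.D.nroots, hdecCheck C.D R.pair r s = true)
  (hsign : ∀ r < C.D.nroots, signCheck C.D r = true)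
  (htw : twTabCheck C.D G.rho G.eps = true)
  (hrf : twReflCheck C.D R.refl G.p G.rho = true)
  (cls : List (List ℕ)) (hcls : twClsCheck C.D R.refl G.p cls = true)

include hrf in
theorem twReflCheck_spec (i : ℕ) (hi : i < C.D.rank) :
    G.p i < C.D.rank ∧ G.rho (C.D.simple i) = C.D.simple (G.p i) ∧
      ∀ s < C.D.nroots, R.refl (G.p i) (G.rho s) = G.rho (R.refl i s) := by
  have := hrf
  simp only [twReflCheck, List.all_eq_true, List.mem_range, Bool.and_eq_true, decide_eq_true_eq] at this
  obtain ⟨⟨h1, h2⟩, h3⟩ := this i hi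
  exact ⟨h1, h2, h3⟩

include hrf in
theorem map_p_lt (ω : List ℕ) (hω : ∀ i ∈ ω, i < C.D.rank) : ∀ i ∈ ω.map G.p, i < C.D.rank := by
  intro i hi
  obtain ⟨a, ha, rfl⟩ := List.mem_map.mp hi
  exact (twReflCheck_spec G hrf a (hω a ha)).1

include hrf in
/-- The action of the transported word. -/
theorem reflW_map_p (ω : List ℕ) (hω : ∀ i ∈ ω, i < C.D.rank) (s : ℕ) (hs : s < C.D.nroots) :
    reflW R.refl (ω.map G.p) (G.rho s) = G.rho (reflW R.refl ω s) := by
  induction ω with
  | nil => rfl
  | cons a ω ih =>
    have hω' : ∀ i ∈ ω, i < C.D.rank := fun i hi => hω i (List.mem_cons_of_mem _ hi)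
    show R.refl (G.p a) (reflW R.refl (ω.map G.p) (G.rho s)) = G.rho (R.refl a (reflW R.refl ω s))
    rw [ih hω']
    exact (twReflCheck_spec G hrf a (hω a List.mem_cons_self)).2.2 _ (R.reflW_lt ω hω' s hs)

include hcls in
theorem twClsCheck_spec :
    (∀ i < C.D.rank, ∃ J ∈ cls, i ∈ J) ∧
    ∀ J ∈ cls, (∀ j ∈ J, j < C.D.rank) ∧ (∀ a ∈ J, ∀ b ∈ J, ∃ k, G.p^[k] a = b) ∧
      (∀ a ∈ J, ∀ b ∈ J, a ≠ b → R.refl a (C.D.simple b) = C.D.simple b) ∧ J.Nodup ∧
      (∀ s < C.D.nroots, reflW R.refl (J.map G.p) s = reflW R.refl J s) ∧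
      (∀ s < C.D.nroots, reflW R.refl (J ++ J) s = s) := by
  have := hcls
  simp only [twClsCheck, List.all_eq_true, List.any_eq_true, List.mem_range, Bool.and_eq_true, decide_eq_true_eq,
    Bool.or_eq_true] at this
  obtain ⟨h1, h2⟩ := this
  refine ⟨h1, ?_⟩
  intro J hJ
  obtain ⟨⟨⟨⟨a1, a2⟩, a3⟩, a4⟩, a5⟩ := h2 J hJ
  refine ⟨a1, ?_, ?_, a4, fun s hs => (a5 s hs).1, fun s hs => (a5 s hs).2⟩
  · intro a ha b hb
    obtain ⟨k, -, hk⟩ := a2 a ha b hb
    exact ⟨k, hk⟩
  · intro a ha b hb hab
    exact (a3 a ha b hb).resolve_left hab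

include M hdec hsign htw hrf hcls in
/-- A word commuting with the symmetry acts as a product of class reflections. -/
theorem MonoHyp.exists_class_word :
    ∀ (k : ℕ) (ω : List ℕ), Nf C.D (wperm C.D R.refl ω) = k → (∀ i ∈ ω, i < C.D.rank) →
      (∀ s < C.D.nroots, reflW R.refl (ω.map G.p) s = reflW R.refl ω s) →
      ∃ Ω : List (List ℕ), (∀ J ∈ Ω, J ∈ cls) ∧ ∀ s < C.D.nroots, reflW R.refl ω s = reflW R.refl Ω.flatten s := by
  intro k
  induction k using Nat.strong_induction_on with
  | _ k ih =>
    intro ω hk hω hinv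
    obtain ⟨hcov, hJs⟩ := twClsCheck_spec (R := R) G cls hcls
    by_cases hall : ∀ i < C.D.rank, C.D.IsPosRoot (reflW R.refl ω (C.D.simple i))
    · refine ⟨[], by simp, ?_⟩
      intro s hs
      rw [M.reflW_eq_self_of_simple_pos hdec hsign _ ω rfl hω hall s hs]
      rfl
    · push Not at hall
      obtain ⟨i, hi, hneg⟩ := hall
      obtain ⟨J, hJ, hiJ⟩ := hcov i hi
      obtain ⟨hJlt, htrans, horth, hnd, hJp, hJJ⟩ := hJs J hJ
      -- every root of the class becomes negative
      have hstep : ∀ a < C.D.rank, ¬ C.D.IsPosRoot (reflW R.refl ω (C.D.simple a)) →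
          ¬ C.D.IsPosRoot (reflW R.refl ω (C.D.simple (G.p a))) := by
        intro a ha hna
        obtain ⟨hpa, hsa, -⟩ := twReflCheck_spec (R := R) G hrf a ha
        have hsl := R.simple_lt a ha
        have hlt := R.reflW_lt ω hω _ hsl
        rw [← hsa, ← hinv _ (G.rho_spec _ hsl).1, reflW_map_p G hrf ω hω _ hsl]
        have hn : C.D.IsNegRoot (reflW R.refl ω (C.D.simple a)) := (neg_iff_not_pos hsign _ hlt).mpr hna
        have hn' := (twTabCheck_spec htw _ hlt).2.2.2 hn
        exact (neg_iff_not_pos hsign _ (G.rho_spec _ hlt).1).mp hn'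
      have hiter : ∀ (m : ℕ) (a : ℕ), a < C.D.rank → ¬ C.D.IsPosRoot (reflW R.refl ω (C.D.simple a)) →
          G.p^[m] a < C.D.rank ∧ ¬ C.D.IsPosRoot (reflW R.refl ω (C.D.simple (G.p^[m] a))) := by
        intro m
        induction m with
        | zero => intro a ha hna; exact ⟨ha, hna⟩
        | succ m ihm =>
          intro a ha hna
          rw [Function.iterate_succ_apply']
          obtain ⟨h1, h2⟩ := ihm a ha hna
          exact ⟨(twReflCheck_spec (R := R) G hrf _ h1).1, hstep _ h1 h2⟩
      have hnegJ : ∀ j ∈ J, ¬ C.D.IsPosRoot (reflW R.refl ω (C.D.simple j)) := by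
        intro j hj
        obtain ⟨m, hm⟩ := htrans i hiJ j hj
        rw [← hm]
        exact (hiter m i hi hneg).2
      have hNf := M.Nf_append_class hsign ω hω J hJlt hnd horth hnegJ
      have hJpos : 0 < J.length := List.length_pos_of_mem hiJ
      have hωJ : ∀ a ∈ ω ++ J, a < C.D.rank := by
        intro a ha
        rcases List.mem_append.mp ha with h | h
        · exact hω a h
        · exact hJlt a h
      have hinv' : ∀ s < C.D.nroots, reflW R.refl ((ω ++ J).map G.p) s = reflW R.refl (ω ++ J) s := by
        intro s hs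
        rw [List.map_append, reflW_append, reflW_append, hJp s hs]
        exact hinv _ (R.reflW_lt J hJlt s hs)
      obtain ⟨Ω', hΩ', hact⟩ := ih (Nf C.D (wperm C.D R.refl (ω ++ J))) (by omega) (ω ++ J) rfl hωJ hinv'
      refine ⟨Ω' ++ [J], ?_, ?_⟩
      · intro X hX
        rcases List.mem_append.mp hX with h | h
        · exact hΩ' X h
        · rw [List.mem_singleton.mp h]; exact hJ
      · intro s hs
        rw [List.flatten_append, List.flatten_singleton, reflW_append, ← hact _ (R.reflW_lt J hJlt s hs),
          reflW_append, ← reflW_append R.refl J J, hJJ s hs]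

end

end Cfsg.Agent.Lib.Helper3.ChevM
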