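import Mathlib
import Cfsg.Prelude.Def_ChevStructure
import Cfsg.Agent.Lib.Helper3.ChevTw3
import Cfsg.Agent.Lib.Helper3.ChevU3
set_option autoImplicit false
open Cfsg Cfsg.Lie

/-! Coordinates on `U` in an order compatible with the symmetry, and the action of the twisting automorphism on them. -/

namespace Cfsg.Agent.Lib.Helper3.ChevM

open ChevU

/-- The abbreviation for products of root elements. -/
abbrev RelData.lp {K : Type*} [Field K] {C : CDatum} (R : RelData C) (L : List ℕ) (t : ℕ → K) : GL C.D.Idx K :=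
  RootSys.lprod (fun r (t : K) => R.xU r t) L t

section
variable {K : Type*} [Field K] {C : CDatum} {R : RelData C}

theorem RelData.lp_congr (L : List ℕ) (t t' : ℕ → K) (h : ∀ r ∈ L, t r = t' r) : R.lp L t = R.lp L t' := by
  unfold RelData.lp RootSys.lprod
  congr 1
  apply List.map_congr_left
  intro r hr
  rw [h r hr]

theorem RelData.lp_nil (t : ℕ → K) : R.lp [] t = 1 := rfl

theorem RelData.lp_cons (r : ℕ) (L : List ℕ) (t : ℕ → K) : R.lp (r :: L) t = R.xU r (t r) * R.lp L t :=
  RootSys.lprod_cons _ _ _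

theorem RelData.lp_append (L L' : List ℕ) (t : ℕ → K) : R.lp (L ++ L') t = R.lp L t * R.lp L' t :=
  RootSys.lprod_append _ _ _

theorem RelData.lp_flatten (CL : List (List ℕ)) (t : ℕ → K) :
    R.lp CL.flatten t = (CL.map fun S => R.lp S t).prod := by
  induction CL with
  | nil => rfl
  | cons S CL ih => rw [List.flatten_cons, R.lp_append, ih, List.map_cons, List.prod_cons]

/-- Products of pairwise commuting root elements over lists that are permutations of each other agree. -/
theorem RelData.lp_perm (L L' : List ℕ) (hp : L.Perm L') (t : ℕ → K)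
    (hc : ∀ r ∈ L, ∀ s ∈ L, ∀ a b : K, R.xU r a * R.xU s b = R.xU s b * R.xU r a) :
    R.lp L t = R.lp L' t := by
  unfold RelData.lp RootSys.lprod
  apply List.Perm.prod_eq'
  · exact hp.map _
  · rw [List.pairwise_map]
    apply List.pairwise_of_forall_mem_list
    intro r hr s hs
    exact hc r hr s hs _ _

end

/-- The root elements of `r` and `s` commute, by the commutator formula. -/
def commEmptyCheck (D : ChevalleyDatum) (r s : ℕ) : Bool :=
  decide (r = s) || (decide (s ≠ D.neg r) && decide (D.commTerms r s = []))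

section
variable {K : Type*} [Field K] {C : CDatum} {R : RelData C} (Kd : CommData C R)
include Kd

theorem CommData.xU_comm (r s : ℕ) (hr : r < C.D.nroots) (hs : s < C.D.nroots)
    (h : commEmptyCheck C.D r s = true) (a b : K) : R.xU r a * R.xU s b = R.xU s b * R.xU r a := by
  simp only [commEmptyCheck, Bool.or_eq_true, Bool.and_eq_true, decide_eq_true_eq] at h
  rcases h with rfl | ⟨h1, h2⟩
  · rw [R.xU_add, R.xU_add, add_comm]
  · by_cases hrs : s = r
    · subst hrs
      rw [R.xU_add, R.xU_add, add_comm]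
    · have := Kd.commF (F := K) r s hr hs hrs h1 a b
      rw [CDatum.wordMat_commWord, h2, List.map_nil, List.prod_nil, mul_one] at this
      apply Units.ext
      rw [Units.val_mul, Units.val_mul, R.xU_val, R.xU_val, this]

end

section
variable {K : Type*} [Field K] {C : CDatum} {R : RelData C} (G : GraphData C) (φ : K →+* K)

/-- The action of the twisting automorphism on coordinates. -/
def GraphData.tw (t : ℕ → K) : ℕ → K := fun s => ((G.eps (G.rhoInv s) : ℤ) : K) * φ (t (G.rhoInv s))

theorem GraphData.tw_rho (t : ℕ → K) (r : ℕ) (hr : r < C.D.nroots) :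
    G.tw φ t (G.rho r) = ((G.eps r : ℤ) : K) * φ (t r) := by
  unfold GraphData.tw
  rw [(G.rho_spec r hr).2.2.1]

theorem GraphData.sig_lp (L : List ℕ) (hL : ∀ r ∈ L, r < C.D.nroots) (t : ℕ → K) :
    G.sig φ (R.lp L t) = R.lp (L.map G.rho) (G.tw φ t) := by
  induction L with
  | nil => simp [RelData.lp_nil]
  | cons r L ih =>
    rw [R.lp_cons, map_mul, List.map_cons, R.lp_cons, ih (fun s hs => hL s (List.mem_cons_of_mem _ hs)),
      G.sig_xU φ R r (hL r List.mem_cons_self), G.tw_rho φ t r (hL r List.mem_cons_self)]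

end

/-- The positive roots listed class by class. -/
def twPosClsCheck (D : ChevalleyDatum) (rho : ℕ → ℕ) (CL : List (List ℕ)) : Bool :=
  decide CL.flatten.Nodup && (CL.flatten.all fun r => decide (r < D.nroots)) &&
  ((List.range D.nroots).all fun r => decide (r ∈ CL.flatten) == decide (D.IsPosRoot r)) &&
  CL.all fun S => decide (S.Pairwise (· < ·)) && decide ((S.map rho).Perm S) &&
    S.all fun r => S.all fun s => commEmptyCheck D r s

theorem twPosClsCheck_spec {D : ChevalleyDatum} {rho : ℕ → ℕ} {CL : List (List ℕ)}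
    (h : twPosClsCheck D rho CL = true) :
    CL.flatten.Nodup ∧ (∀ r, r ∈ CL.flatten ↔ D.IsPosRoot r) ∧
      ∀ S ∈ CL, S.Pairwise (· < ·) ∧ (S.map rho).Perm S ∧ ∀ r ∈ S, ∀ s ∈ S, commEmptyCheck D r s = true := by
  simp only [twPosClsCheck, Bool.and_eq_true, decide_eq_true_eq, List.all_eq_true, List.mem_range, beq_iff_eq,
    decide_eq_decide] at h
  obtain ⟨⟨⟨h1, h0⟩, h2⟩, h3⟩ := h
  refine ⟨h1, ?_, fun S hS => ⟨(h3 S hS).1.1, (h3 S hS).1.2, (h3 S hS).2⟩⟩
  intro r
  by_cases hr : r < D.nroots
  · exact h2 r hr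
  · constructor
    · intro hm
      exact absurd (h0 r hm) hr
    · intro hp
      exact absurd hp.1 hr

end Cfsg.Agent.Lib.Helper3.ChevM
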