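import Mathlib
import Cfsg.Prelude.Def_ChevStructure
import Cfsg.Agent.Lib.Helper3.ChevTw4
set_option autoImplicit false
open Cfsg Cfsg.Lie

/-! The elements of `U` fixed by the twisting automorphism, in coordinates. -/

namespace Cfsg.Agent.Lib.Helper3.ChevM

open ChevU

section
variable {K : Type*} [Field K] {C : CDatum} {R : RelData C} (Uh : UHyp C R) (G : GraphData C) (φ : K →+* K)
  (CL : List (List ℕ)) (hCL : twPosClsCheck C.D G.rho CL = true)

include Uh hCL in
/-- The action of the twisting automorphism on the coordinates of an element of `U`. -/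
theorem UHyp.sig_lp_classes (t : ℕ → K) : G.sig φ (R.lp CL.flatten t) = R.lp CL.flatten (G.tw φ t) := by
  obtain ⟨hnd, hmem, hS⟩ := twPosClsCheck_spec hCL
  rw [R.lp_flatten, map_list_prod, List.map_map, R.lp_flatten]
  congr 1
  apply List.map_congr_left
  intro S hSm
  obtain ⟨-, hperm, hcomm⟩ := hS S hSm
  have hlt : ∀ r ∈ S, r < C.D.nroots := fun r hr => ((hmem r).mp (List.mem_flatten.mpr ⟨S, hSm, hr⟩)).1
  show G.sig φ (R.lp S t) = R.lp S (G.tw φ t)
  rw [G.sig_lp φ S hlt t]
  apply R.lp_perm _ _ hperm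
  intro r hr s hs a b
  have hr' := hperm.subset hr
  have hs' := hperm.subset hs
  exact Uh.K.xU_comm r s (hlt r hr') (hlt s hs') (hcomm r hr' s hs') a b

include Uh in
theorem UHyp.lp_mem (M : List ℕ) (hM : ∀ r ∈ M, C.D.IsPosRoot r) (t : ℕ → K) : R.lp M t ∈ C.D.posUnipotent K := by
  rw [R.posUnipotent_eq_tailGrp Uh.hpos]
  exact RootSys.lprod_mem _ hM t

variable [Fintype K]

include Uh in
/-- Uniqueness of the coordinates with respect to any enumeration of the positive roots (over a finite field, by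
counting). -/
theorem UHyp.lp_inj_of_fintype (hlen : C.D.posRoots.length = C.D.nroots / 2)
    (M : List ℕ) (hnd : M.Nodup) (hM : ∀ r, r ∈ M ↔ C.D.IsPosRoot r) (t t' : ℕ → K)
    (h : R.lp M t = R.lp M t') : ∀ r ∈ M, t r = t' r := by
  classical
  set n := M.length with hn
  have hperm : M.Perm C.D.posRoots :=
    (List.perm_ext_iff_of_nodup hnd (nodup_posRoots C.D)).mpr fun r => by rw [hM, mem_posRoots]
  have hnN : n = C.D.nroots / 2 := by rw [hn, hperm.length_eq, hlen]
  let ext : (Fin n → K) → ℕ → K := fun τ r => if h : M.idxOf r < n then τ ⟨M.idxOf r, h⟩ else 0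
  let res : (ℕ → K) → (Fin n → K) := fun t i => t (M[i.val])
  have hext : ∀ (t : ℕ → K), ∀ r ∈ M, ext (res t) r = t r := by
    intro t r hr
    have hlt : M.idxOf r < n := List.idxOf_lt_length_of_mem hr
    simp only [ext, res, dif_pos hlt, List.getElem_idxOf]
  let f : (Fin n → K) → C.D.posUnipotent K := fun τ =>
    ⟨R.lp M (ext τ), Uh.lp_mem M (fun r hr => (hM r).mp hr) _⟩
  have hsurj : Function.Surjective f := by
    rintro ⟨u, hu⟩
    obtain ⟨t, -, rfl⟩ := Uh.K.exists_word (F := K) Uh.col Uh.inj M hnd hM u hu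
    refine ⟨res t, Subtype.ext ?_⟩
    exact R.lp_congr M _ _ (hext t)
  have hcard : Nat.card (Fin n → K) ≤ Nat.card (C.D.posUnipotent K) := by
    rw [Uh.card_posUnipotent (F := K) hlen, Nat.card_eq_fintype_card, Fintype.card_fun, Fintype.card_fin, hnN]
  have hbij := hsurj.bijective_of_nat_card_le hcard
  have e : f (res t) = f (res t') := by
    apply Subtype.ext
    show R.lp M (ext (res t)) = R.lp M (ext (res t'))
    rw [R.lp_congr M _ _ (hext t), R.lp_congr M _ _ (hext t'), h]
  have e' := hbij.1 e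
  intro r hr
  rw [← hext t r hr, ← hext t' r hr, e']

include Uh hCL in
/-- An element of `U` is fixed by the twisting automorphism if and only if its coordinates are. -/
theorem UHyp.fix_iff (hlen : C.D.posRoots.length = C.D.nroots / 2) (t : ℕ → K) :
    G.sig φ (R.lp CL.flatten t) = R.lp CL.flatten t ↔ ∀ s ∈ CL.flatten, G.tw φ t s = t s := by
  obtain ⟨hnd, hmem, -⟩ := twPosClsCheck_spec hCL
  rw [Uh.sig_lp_classes G φ CL hCL t]
  constructor
  · intro h
    exact Uh.lp_inj_of_fintype hlen _ hnd hmem _ _ h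
  · intro h
    exact R.lp_congr _ _ _ h

include Uh hCL in
/-- The fixed points of the twisting automorphism on `U`, in coordinates. -/
theorem UHyp.exists_fix_coords (hlen : C.D.posRoots.length = C.D.nroots / 2) (g : GL C.D.Idx K)
    (hg : g ∈ C.D.posUnipotent K) (hfix : G.sig φ g = g) :
    ∃ t : ℕ → K, (∀ r, ¬ C.D.IsPosRoot r → t r = 0) ∧ g = R.lp CL.flatten t ∧
      ∀ s ∈ CL.flatten, G.tw φ t s = t s := by
  obtain ⟨hnd, hmem, -⟩ := twPosClsCheck_spec hCL
  obtain ⟨t, ht0, rfl⟩ := Uh.K.exists_word (F := K) Uh.col Uh.inj CL.flatten hnd hmem g hg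
  exact ⟨t, ht0, rfl, (Uh.fix_iff G φ CL hCL hlen t).mp hfix⟩

end

end Cfsg.Agent.Lib.Helper3.ChevM
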