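import Mathlib
import Cfsg.Prelude.Def_ChevStructure
import Cfsg.Agent.Lib.Helper3.ChevTw5
set_option autoImplicit false
open Cfsg Cfsg.Lie

/-! The number of elements of `U` fixed by the twisting automorphism. -/

namespace Cfsg.Agent.Lib.Helper3.ChevM

open ChevU

/-- Tables describing the orbits of the symmetry on the positive roots: `rep s` is the representative of the orbit
of `s`, `kk s` the number of steps from `rep s` to `s`, `ee s` the sign picked up on the way, `mlen r` the length of the
orbit of the representative `r`. -/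
def twRepCheck (D : ChevalleyDatum) (rhoInv : ℕ → ℕ) (eps : ℕ → ℤ) (d : ℕ) (isRep : ℕ → Bool)
    (mlen rep kk : ℕ → ℕ) (ee : ℕ → ℤ) : Bool :=
  (List.range D.nroots).all fun s => !decide (D.IsPosRoot s) ||
    (decide (rep s < D.nroots) && isRep (rep s) && decide (D.IsPosRoot (rep s)) && decide (D.IsPosRoot (rhoInv s)) &&
     (decide (mlen (rep s) = 1) || decide (mlen (rep s) = d)) &&
     (if kk s = 0 then decide (rep s = s) && decide (ee s = 1) &&
          decide (rep (rhoInv s) = s) && decide (kk (rhoInv s) + 1 = mlen s) &&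
          decide (eps (rhoInv s) * ee (rhoInv s) = 1)
      else decide (rep (rhoInv s) = rep s) && decide (kk (rhoInv s) + 1 = kk s) &&
          decide (ee s = eps (rhoInv s) * ee (rhoInv s))) &&
     (!isRep s || decide (kk s = 0)))

structure TwRep (D : ChevalleyDatum) (rhoInv : ℕ → ℕ) (eps : ℕ → ℤ) (d : ℕ) where
  isRep : ℕ → Bool
  mlen : ℕ → ℕ
  rep : ℕ → ℕ
  kk : ℕ → ℕ
  ee : ℕ → ℤ
  chk : twRepCheck D rhoInv eps d isRep mlen rep kk ee = true

namespace TwRep

variable {D : ChevalleyDatum} {rhoInv : ℕ → ℕ} {eps : ℕ → ℤ} {d : ℕ} (T : TwRep D rhoInv eps d)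

theorem spec (s : ℕ) (hs : D.IsPosRoot s) :
    T.rep s < D.nroots ∧ T.isRep (T.rep s) = true ∧ D.IsPosRoot (T.rep s) ∧ D.IsPosRoot (rhoInv s) ∧
      (T.mlen (T.rep s) = 1 ∨ T.mlen (T.rep s) = d) ∧
      (T.kk s = 0 → T.rep s = s ∧ T.ee s = 1 ∧ T.rep (rhoInv s) = s ∧ T.kk (rhoInv s) + 1 = T.mlen s ∧
        eps (rhoInv s) * T.ee (rhoInv s) = 1) ∧
      (T.kk s ≠ 0 → T.rep (rhoInv s) = T.rep s ∧ T.kk (rhoInv s) + 1 = T.kk s ∧
        T.ee s = eps (rhoInv s) * T.ee (rhoInv s)) ∧
      (T.isRep s = true → T.kk s = 0) := by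
  have h := T.chk
  simp only [twRepCheck, List.all_eq_true, List.mem_range, Bool.or_eq_true, Bool.not_eq_true',
    decide_eq_false_iff_not, Bool.and_eq_true, decide_eq_true_eq] at h
  have h' := (h s hs.1).resolve_left (fun hn => hn hs)
  obtain ⟨⟨⟨⟨⟨⟨h1, h2⟩, h3⟩, h4⟩, h5⟩, h6⟩, h7⟩ := h'
  refine ⟨h1, h2, h3, h4, h5, ?_, ?_, ?_⟩
  · intro hk
    rw [if_pos hk] at h6
    simp only [Bool.and_eq_true, decide_eq_true_eq] at h6
    obtain ⟨⟨⟨⟨a1, a2⟩, a3⟩, a4⟩, a5⟩ := h6
    exact ⟨a1, a2, a3, a4, a5⟩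
  · intro hk
    rw [if_neg hk] at h6
    simp only [Bool.and_eq_true, decide_eq_true_eq] at h6
    obtain ⟨⟨a1, a2⟩, a3⟩ := h6
    exact ⟨a1, a2, a3⟩
  · intro hr
    rcases h7 with h7 | h7
    · rw [hr] at h7; exact absurd h7 (by simp)
    · exact h7

/-- The exponent contributed by a root to the number of fixed points. -/
def expo (r : ℕ) : ℕ := if D.IsPosRoot r ∧ T.isRep r = true then T.mlen r else 0

end TwRep

section
variable {K : Type*} [Field K] {C : CDatum} (G : GraphData C) (φ : K →+* K) (d : ℕ)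
  (T : TwRep C.D G.rhoInv G.eps d)

/-- The coordinates determined by their values at the representatives. -/
def TwRep.coord (a : ℕ → K) : ℕ → K := fun s =>
  if C.D.IsPosRoot s then ((T.ee s : ℤ) : K) * φ^[T.kk s] (a (T.rep s)) else 0

theorem iterate_intCast_mul (z : ℤ) (x : K) (k : ℕ) : φ^[k] ((z : K) * x) = (z : K) * φ^[k] x := by
  induction k generalizing x with
  | zero => rfl
  | succ k ih => rw [Function.iterate_succ_apply, map_mul, map_intCast, ih, Function.iterate_succ_apply]

/-- Coordinates fixed by the twisting are determined by their values at the representatives. -/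
theorem TwRep.eq_coord (t : ℕ → K) (ht : ∀ s, C.D.IsPosRoot s → G.tw φ t s = t s) :
    ∀ (k : ℕ) (s : ℕ), C.D.IsPosRoot s → T.kk s = k → t s = ((T.ee s : ℤ) : K) * φ^[k] (t (T.rep s)) := by
  intro k
  induction k with
  | zero =>
    intro s hs hk
    obtain ⟨-, -, -, -, -, h0, -, -⟩ := T.spec s hs
    obtain ⟨a1, a2, -, -, -⟩ := h0 hk
    rw [a1, a2]; simp
  | succ k ih =>
    intro s hs hk
    obtain ⟨-, -, -, hpos', -, -, h1, -⟩ := T.spec s hs
    obtain ⟨a1, a2, a3⟩ := h1 (by omega)
    have hk' : T.kk (G.rhoInv s) = k := by omega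
    rw [← ht s hs]
    unfold GraphData.tw
    rw [ih _ hpos' hk', a1, map_mul, map_intCast, ← mul_assoc, ← Int.cast_mul, ← a3, Function.iterate_succ_apply']

/-- The closing condition at the representatives. -/
theorem TwRep.closing (t : ℕ → K) (ht : ∀ s, C.D.IsPosRoot s → G.tw φ t s = t s)
    (s : ℕ) (hs : C.D.IsPosRoot s) (hk : T.kk s = 0) : φ^[T.mlen s] (t s) = t s := by
  obtain ⟨-, -, -, hpos', -, h0, -, -⟩ := T.spec s hs
  obtain ⟨-, -, a3, a4, a5⟩ := h0 hk
  have h1 := T.eq_coord G φ d t ht _ _ hpos' rfl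
  have h2 := ht s hs
  unfold GraphData.tw at h2
  rw [h1, a3, map_mul, map_intCast, ← mul_assoc, ← Int.cast_mul, a5, Int.cast_one, one_mul,
    ← Function.iterate_succ_apply' φ, Nat.succ_eq_add_one, a4] at h2
  exact h2

/-- Coordinates built from values at the representatives satisfying the closing conditions are fixed. -/
theorem TwRep.coord_fixed (a : ℕ → K)
    (ha : ∀ r, C.D.IsPosRoot r → T.isRep r = true → φ^[T.mlen r] (a r) = a r)
    (s : ℕ) (hs : C.D.IsPosRoot s) : G.tw φ (T.coord G φ d a) s = T.coord G φ d a s := by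
  obtain ⟨-, hrep, hreppos, hpos', -, h0, h1, -⟩ := T.spec s hs
  unfold GraphData.tw TwRep.coord
  rw [if_pos hpos', if_pos hs, map_mul, map_intCast, ← mul_assoc, ← Int.cast_mul,
    ← Function.iterate_succ_apply' φ, Nat.succ_eq_add_one]
  by_cases hk : T.kk s = 0
  · obtain ⟨a1, a2, a3, a4, a5⟩ := h0 hk
    rw [a5, a3, a4, hk, a2, Function.iterate_zero, id]
    rw [a1] at hrep hreppos
    rw [ha s hs hrep, a1]
  · obtain ⟨a1, a2, a3⟩ := h1 hk
    rw [a1, a2, a3]

end

/-- The subgroup of fixed points of an endomorphism. -/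
def fixG {Γ : Type*} [Group Γ] (f : Γ →* Γ) : Subgroup Γ := MonoidHom.eqLocus f (MonoidHom.id Γ)

theorem mem_fixG {Γ : Type*} [Group Γ] (f : Γ →* Γ) (g : Γ) : g ∈ fixG f ↔ f g = g := Iff.rfl

section
variable {K : Type*} [Field K] [Fintype K] {C : CDatum} {R : RelData C} (Uh : UHyp C R) (G : GraphData C)
  (φ : K →+* K) (CL : List (List ℕ)) (hCL : twPosClsCheck C.D G.rho CL = true) (d : ℕ)
  (T : TwRep C.D G.rhoInv G.eps d)

include Uh hCL in
/-- The number of elements of `U` fixed by the twisting automorphism. -/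
theorem UHyp.card_fix (hlen : C.D.posRoots.length = C.D.nroots / 2) (q : ℕ)
    (hφ1 : Nat.card {x : K // φ x = x} = q) (hφd : ∀ x : K, φ^[d] x = x) (hK : Nat.card K = q ^ d)
    (hsum : ∑ r ∈ Finset.range C.D.nroots, T.expo r = C.D.nroots / 2) :
    Nat.card ↥(C.D.posUnipotent K ⊓ fixG (G.sig φ)) = q ^ (C.D.nroots / 2) := by
  classical
  obtain ⟨hnd, hmem, -⟩ := twPosClsCheck_spec hCL
  set M := CL.flatten with hM
  let P : ℕ → K → Prop := fun r x => if C.D.IsPosRoot r ∧ T.isRep r = true then φ^[T.mlen r] x = x else x = 0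
  let A := ∀ r : Fin C.D.nroots, {x : K // P r.val x}
  let aval : A → ℕ → K := fun a r => if h : r < C.D.nroots then (a ⟨r, h⟩).val else 0
  have haval : ∀ (a : A) (r : ℕ), C.D.IsPosRoot r → T.isRep r = true → φ^[T.mlen r] (aval a r) = aval a r := by
    intro a r hr hrep
    have hp := (a ⟨r, hr.1⟩).property
    simp only [P, hr, hrep, and_self, if_true] at hp
    simp only [aval, dif_pos hr.1]
    exact hp
  have hfixed : ∀ a : A, ∀ s ∈ M, G.tw φ (T.coord G φ d (aval a)) s = T.coord G φ d (aval a) s :=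
    fun a s hs => T.coord_fixed G φ d (aval a) (haval a) s ((hmem s).mp hs)
  let f : A → ↥(C.D.posUnipotent K ⊓ fixG (G.sig φ)) := fun a =>
    ⟨R.lp M (T.coord G φ d (aval a)),
      ⟨Uh.lp_mem M (fun r hr => (hmem r).mp hr) _, (Uh.fix_iff G φ CL hCL hlen _).mpr (hfixed a)⟩⟩
  -- the value of the coordinates at a representative
  have hcoord_rep : ∀ (a : ℕ → K) (r : ℕ), C.D.IsPosRoot r → T.isRep r = true → T.coord G φ d a r = a r := by
    intro a r hr hrep
    obtain ⟨-, -, -, -, -, h0, -, h7⟩ := T.spec r hr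
    have hk := h7 hrep
    obtain ⟨a1, a2, -, -, -⟩ := h0 hk
    unfold TwRep.coord
    rw [if_pos hr, hk, a1, a2]
    simp
  have hinj : Function.Injective f := by
    intro a a' h
    have h1 : R.lp M (T.coord G φ d (aval a)) = R.lp M (T.coord G φ d (aval a')) := congrArg Subtype.val h
    have h2 := Uh.lp_inj_of_fintype hlen M hnd hmem _ _ h1
    funext r
    apply Subtype.ext
    by_cases hr : C.D.IsPosRoot r.val ∧ T.isRep r.val = true
    · have h3 := h2 r.val ((hmem _).mpr hr.1)
      rw [hcoord_rep _ _ hr.1 hr.2, hcoord_rep _ _ hr.1 hr.2] at h3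
      simpa only [aval, dif_pos r.isLt] using h3
    · have hp := (a r).property
      have hp' := (a' r).property
      simp only [P, hr, if_false] at hp hp'
      rw [hp, hp']
  have hsurj : Function.Surjective f := by
    rintro ⟨g, hgU, hgfix⟩
    obtain ⟨t, ht0, rfl, htw⟩ := Uh.exists_fix_coords G φ CL hCL hlen g hgU ((mem_fixG _ _).mp hgfix)
    have htw' : ∀ s, C.D.IsPosRoot s → G.tw φ t s = t s := fun s hs => htw s ((hmem s).mpr hs)
    let a : A := fun r => ⟨if C.D.IsPosRoot r.val ∧ T.isRep r.val = true then t r.val else 0, by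
      by_cases hr : C.D.IsPosRoot r.val ∧ T.isRep r.val = true
      · simp only [P, hr, and_self, if_true]
        obtain ⟨-, -, -, -, -, -, -, h7⟩ := T.spec r.val hr.1
        exact T.closing G φ d t htw' r.val hr.1 (h7 hr.2)
      · simp only [P, hr, if_false]⟩
    refine ⟨a, Subtype.ext ?_⟩
    show R.lp M (T.coord G φ d (aval a)) = R.lp M t
    apply R.lp_congr
    intro s hs
    have hspos := (hmem s).mp hs
    obtain ⟨h1, h2, h3, -, -, -, -, -⟩ := T.spec s hspos
    have e : aval a (T.rep s) = t (T.rep s) := by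
      simp only [aval, dif_pos h1, a, h3, h2, and_self, if_true]
    unfold TwRep.coord
    rw [if_pos hspos, e]
    exact (T.eq_coord G φ d t htw' _ s hspos rfl).symm
  have hcardA : Nat.card A = q ^ (C.D.nroots / 2) := by
    rw [Nat.card_pi]
    have hfac : ∀ r : Fin C.D.nroots, Nat.card {x : K // P r.val x} = q ^ T.expo r.val := by
      intro r
      by_cases hr : C.D.IsPosRoot r.val ∧ T.isRep r.val = true
      · have hex : T.expo r.val = T.mlen r.val := by simp only [TwRep.expo, hr, and_self, if_true]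
        obtain ⟨-, -, -, -, h5, h0, -, h7⟩ := T.spec r.val hr.1
        obtain ⟨a1, -, -, -, -⟩ := h0 (h7 hr.2)
        rw [a1] at h5
        rw [hex]
        rcases h5 with h5 | h5
        · rw [h5, pow_one, ← hφ1]
          apply Nat.card_congr
          apply Equiv.subtypeEquivRight
          intro x
          simp only [P, hr, and_self, if_true, h5, Function.iterate_one]
        · rw [h5, ← hK]
          apply Nat.card_congr
          refine (Equiv.subtypeEquivRight (q := fun _ => True) ?_).trans (Equiv.subtypeUnivEquiv fun _ => trivial)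
          intro x
          simp only [P, hr, and_self, if_true, h5, hφd x]
      · have hex : T.expo r.val = 0 := by simp only [TwRep.expo, hr, if_false]
        rw [hex, pow_zero]
        have : Unique {x : K // P r.val x} :=
          { default := ⟨0, by simp only [P, hr, if_false]⟩
            uniq := by
              rintro ⟨x, hx⟩
              apply Subtype.ext
              simpa only [P, hr, if_false] using hx }
        exact Nat.card_unique
    rw [Finset.prod_congr rfl (fun r _ => hfac r), Finset.prod_pow_eq_pow_sum,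
      Fin.sum_univ_eq_sum_range (fun r => T.expo r), hsum]
  rw [← hcardA]
  exact (Nat.card_eq_of_bijective f ⟨hinj, hsurj⟩).symm

end

end Cfsg.Agent.Lib.Helper3.ChevM
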