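import Mathlib
import Cfsg.Prelude.Def_ChevStructure
import Cfsg.Agent.Lib.Helper3.ChevTw6
set_option autoImplicit false
open Cfsg Cfsg.Lie

/-! The twisted group: generators, their invariance under the twisting automorphism, and the representatives of the
class reflections. -/

namespace Cfsg.Agent.Lib.Helper3.ChevM

open ChevU

/-- The root attached to a fundamental index and a sign. -/
def sgnRoot (D : ChevalleyDatum) (neg : Bool) (j : ℕ) : ℕ := if neg then D.neg (D.simple j) else D.simple j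

/-- The word `x_{±p_a}(t) x_{±p_b}(t^φ) ⋯` of a class of fundamental roots. -/
def clsWord (D : ChevalleyDatum) {K : Type*} [Field K] (φ : K →+* K) (J : List ℕ) (neg : Bool) (t : K) :
    List (ℕ × K) :=
  J.zipIdx.map fun p => (sgnRoot D neg p.1, φ^[p.2] t)

/-- The shape of a class: an orbit of the symmetry, of length at most three, with commuting root subgroups. -/
def clsShapeCheck (D : ChevalleyDatum) (p : ℕ → ℕ) (eps : ℕ → ℤ) (J : List ℕ) : Bool :=
  (J.all fun a => decide (a < D.rank) && decide (eps (D.simple a) = 1) &&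
    J.all fun b => decide (a = b) ||
      (commEmptyCheck D (D.simple a) (D.simple b) && commEmptyCheck D (D.simple a) (D.neg (D.simple b)) &&
       commEmptyCheck D (D.neg (D.simple a)) (D.simple b) &&
       commEmptyCheck D (D.neg (D.simple a)) (D.neg (D.simple b)))) &&
  (match J with
   | [a] => decide (p a = a)
   | [a, b] => decide (p a = b) && decide (p b = a) && decide (a ≠ b)
   | [a, b, c] => decide (p a = b) && decide (p b = c) && decide (p c = a) && decide (a ≠ b) && decide (b ≠ c) &&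
       decide (a ≠ c)
   | _ => false)

section
variable {K : Type*} [Field K] {C : CDatum} (R : RelData C) (φ : K →+* K) (cls : List (List ℕ))

/-- The generators of the twisted group. -/
def RelData.twGens : Set (GL C.D.Idx K) :=
  {g | ∃ J ∈ cls, ∃ (neg : Bool) (t : K), φ^[J.length] t = t ∧ g = R.wordU (clsWord C.D φ J neg t)}

/-- The twisted group. -/
def RelData.twGroup : Subgroup (GL C.D.Idx K) := Subgroup.closure (R.twGens φ cls)

theorem RelData.wordU_cons (p : ℕ × K) (w : List (ℕ × K)) : R.wordU (p :: w) = R.xU p.1 p.2 * R.wordU w := by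
  simp [RelData.wordU]

theorem RelData.wordU_nil : R.wordU ([] : List (ℕ × K)) = 1 := rfl

end

section
variable {K : Type*} [Field K] {C : CDatum} {R : RelData C} (Kd : CommData C R) (G : GraphData C) (φ : K →+* K)
  (htw : twTabCheck C.D G.rho G.eps = true)
  (hrf : twReflCheck C.D R.refl G.p G.rho = true)

include htw hrf in
/-- The image of a root element of a signed fundamental root. -/
theorem GraphData.sig_xU_sgn (neg : Bool) (a : ℕ) (ha : a < C.D.rank) (hε : G.eps (C.D.simple a) = 1) (t : K) :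
    G.sig φ (R.xU (sgnRoot C.D neg a) t) = R.xU (sgnRoot C.D neg (G.p a)) (φ t) := by
  have hsl := R.simple_lt a ha
  obtain ⟨-, h2, -⟩ := twReflCheck_spec (R := R) G hrf a ha
  obtain ⟨t1, t2, -, -⟩ := twTabCheck_spec htw _ hsl
  cases neg
  · simp only [sgnRoot, Bool.false_eq_true, if_false]
    rw [G.sig_xU φ R _ hsl, h2, hε, Int.cast_one, one_mul]
  · simp only [sgnRoot, if_true]
    rw [G.sig_xU φ R _ (R.neg_lt _ hsl), t1, t2, h2, hε, Int.cast_one, one_mul]

include Kd in
theorem CommData.xU_comm_sgn (n1 n2 : Bool) (a b : ℕ) (ha : a < C.D.rank) (hb : b < C.D.rank)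
    (h : ((commEmptyCheck C.D (C.D.simple a) (C.D.simple b) = true ∧
      commEmptyCheck C.D (C.D.simple a) (C.D.neg (C.D.simple b)) = true) ∧
      commEmptyCheck C.D (C.D.neg (C.D.simple a)) (C.D.simple b) = true) ∧
      commEmptyCheck C.D (C.D.neg (C.D.simple a)) (C.D.neg (C.D.simple b)) = true) (x y : K) :
    Commute (R.xU (sgnRoot C.D n1 a) x) (R.xU (sgnRoot C.D n2 b) y) := by
  obtain ⟨⟨⟨h1, h2⟩, h3⟩, h4⟩ := h
  have hsa := R.simple_lt a ha
  have hsb := R.simple_lt b hb
  cases n1 <;> cases n2 <;> simp only [sgnRoot, Bool.false_eq_true, if_false, if_true]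
  · exact Kd.xU_comm _ _ hsa hsb h1 x y
  · exact Kd.xU_comm _ _ hsa (R.neg_lt _ hsb) h2 x y
  · exact Kd.xU_comm _ _ (R.neg_lt _ hsa) hsb h3 x y
  · exact Kd.xU_comm _ _ (R.neg_lt _ hsa) (R.neg_lt _ hsb) h4 x y

end

section
variable {K : Type*} [Field K] {C : CDatum} {R : RelData C}

theorem wordU_clsWord_one (φ : K →+* K) (a : ℕ) (neg : Bool) (t : K) :
    R.wordU (clsWord C.D φ [a] neg t) = R.xU (sgnRoot C.D neg a) t := by
  simp [clsWord, RelData.wordU, List.zipIdx]

theorem wordU_clsWord_two (φ : K →+* K) (a b : ℕ) (neg : Bool) (t : K) :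
    R.wordU (clsWord C.D φ [a, b] neg t) = R.xU (sgnRoot C.D neg a) t * R.xU (sgnRoot C.D neg b) (φ t) := by
  simp [clsWord, RelData.wordU, List.zipIdx]

theorem wordU_clsWord_three (φ : K →+* K) (a b c : ℕ) (neg : Bool) (t : K) :
    R.wordU (clsWord C.D φ [a, b, c] neg t) =
      R.xU (sgnRoot C.D neg a) t * R.xU (sgnRoot C.D neg b) (φ t) * R.xU (sgnRoot C.D neg c) (φ (φ t)) := by
  simp [clsWord, RelData.wordU, List.zipIdx, mul_assoc]

end

/-- Interleaving two commuting triples. -/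
theorem interleave3 {Γ : Type*} [Group Γ] (a1 a2 a3 b1 b2 b3 : Γ) (h21 : Commute a2 b1) (h31 : Commute a3 b1)
    (h32 : Commute a3 b2) : (a1 * a2 * a3) * (b1 * b2 * b3) = (a1 * b1) * (a2 * b2) * (a3 * b3) := by
  calc (a1 * a2 * a3) * (b1 * b2 * b3) = a1 * a2 * (a3 * b1) * b2 * b3 := by group
    _ = a1 * a2 * (b1 * a3) * b2 * b3 := by rw [h31.eq]
    _ = a1 * (a2 * b1) * (a3 * b2) * b3 := by group
    _ = a1 * (b1 * a2) * (b2 * a3) * b3 := by rw [h21.eq, h32.eq]
    _ = (a1 * b1) * (a2 * b2) * (a3 * b3) := by group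

section
variable {K : Type*} [Field K] {C : CDatum} {R : RelData C} (Kd : CommData C R) (G : GraphData C) (φ : K →+* K)
  (htw : twTabCheck C.D G.rho G.eps = true)
  (hrf : twReflCheck C.D R.refl G.p G.rho = true)

include Kd htw hrf in
/-- The generators of the twisted group are fixed by the twisting automorphism. -/
theorem CommData.sig_clsWord (J : List ℕ) (hJ : clsShapeCheck C.D G.p G.eps J = true) (neg : Bool) (t : K)
    (ht : φ^[J.length] t = t) :
    G.sig φ (R.wordU (clsWord C.D φ J neg t)) = R.wordU (clsWord C.D φ J neg t) := by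
  simp only [clsShapeCheck, Bool.and_eq_true, List.all_eq_true, decide_eq_true_eq, Bool.or_eq_true] at hJ
  obtain ⟨hall, hshape⟩ := hJ
  match J, hall, hshape, ht with
  | [a], hall, hshape, ht =>
    simp only [decide_eq_true_eq] at hshape
    obtain ⟨⟨ha, hε⟩, -⟩ := hall a (by simp)
    rw [wordU_clsWord_one, G.sig_xU_sgn φ htw hrf neg a ha hε, hshape]
    congr 1
  | [a, b], hall, hshape, ht =>
    simp only [Bool.and_eq_true, decide_eq_true_eq] at hshape
    obtain ⟨⟨h1, h2⟩, h3⟩ := hshape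
    obtain ⟨⟨ha, hεa⟩, hca⟩ := hall a (by simp)
    obtain ⟨⟨hb, hεb⟩, -⟩ := hall b (by simp)
    have hab := (hca b (by simp)).resolve_left h3
    have ht' : φ (φ t) = t := ht
    rw [wordU_clsWord_two, map_mul, G.sig_xU_sgn φ htw hrf neg a ha hεa, G.sig_xU_sgn φ htw hrf neg b hb hεb,
      h1, h2, ht']
    exact ((Kd.xU_comm_sgn neg neg a b ha hb hab _ _).eq).symm
  | [a, b, c], hall, hshape, ht =>
    simp only [Bool.and_eq_true, decide_eq_true_eq] at hshape
    obtain ⟨⟨⟨⟨⟨h1, h2⟩, h3⟩, h4⟩, h5⟩, h6⟩ := hshape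
    obtain ⟨⟨ha, hεa⟩, hca⟩ := hall a (by simp)
    obtain ⟨⟨hb, hεb⟩, hcb⟩ := hall b (by simp)
    obtain ⟨⟨hc, hεc⟩, -⟩ := hall c (by simp)
    have hab := (hca b (by simp)).resolve_left h4
    have hac := (hca c (by simp)).resolve_left h6
    have ht' : φ (φ (φ t)) = t := ht
    rw [wordU_clsWord_three, map_mul, map_mul, G.sig_xU_sgn φ htw hrf neg a ha hεa,
      G.sig_xU_sgn φ htw hrf neg b hb hεb, G.sig_xU_sgn φ htw hrf neg c hc hεc, h1, h2, h3, ht']
    have c1 := Kd.xU_comm_sgn (K := K) neg neg a b ha hb hab t (φ t)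
    have c2 := Kd.xU_comm_sgn (K := K) neg neg a c ha hc hac t (φ (φ t))
    rw [← (c1.mul_right c2).eq, mul_assoc]
  | [], _, hshape, _ => simp at hshape
  | _ :: _ :: _ :: _ :: _, _, hshape, _ => simp at hshape

omit htw hrf in
theorem RelData.nU_one_eq (r : ℕ) : R.nU r (1 : K) = R.xU r 1 * R.xU (C.D.neg r) (-1) * R.xU r 1 := by
  rw [R.nU_eq, inv_one]

include Kd in
/-- The representative of a class reflection as a product of generators of the twisted group. -/
theorem CommData.nWordU_cls (J : List ℕ) (hJ : clsShapeCheck C.D G.p G.eps J = true) :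
    R.nWordU (F := K) J = R.wordU (clsWord C.D φ J false 1) * R.wordU (clsWord C.D φ J true (-1)) *
      R.wordU (clsWord C.D φ J false 1) := by
  simp only [clsShapeCheck, Bool.and_eq_true, List.all_eq_true, decide_eq_true_eq, Bool.or_eq_true] at hJ
  obtain ⟨hall, hshape⟩ := hJ
  match J, hall, hshape with
  | [a], hall, hshape =>
    rw [wordU_clsWord_one, wordU_clsWord_one, R.nWordU_cons, R.nWordU_nil, mul_one, R.nU_one_eq]
    simp only [sgnRoot, Bool.false_eq_true, if_false, if_true]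
  | [a, b], hall, hshape =>
    simp only [Bool.and_eq_true, decide_eq_true_eq] at hshape
    obtain ⟨⟨h1, h2⟩, h3⟩ := hshape
    obtain ⟨⟨ha, -⟩, hca⟩ := hall a (by simp)
    obtain ⟨⟨hb, -⟩, -⟩ := hall b (by simp)
    have hab := (hca b (by simp)).resolve_left h3
    rw [wordU_clsWord_two, wordU_clsWord_two, R.nWordU_cons, R.nWordU_cons, R.nWordU_nil, mul_one, R.nU_one_eq,
      R.nU_one_eq, map_one, map_neg, map_one]
    have e := interleave3 (R.xU (sgnRoot C.D false a) (1 : K)) (R.xU (sgnRoot C.D true a) (-1))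
      (R.xU (sgnRoot C.D false a) 1) (R.xU (sgnRoot C.D false b) 1) (R.xU (sgnRoot C.D true b) (-1))
      (R.xU (sgnRoot C.D false b) 1) (Kd.xU_comm_sgn _ _ a b ha hb hab _ _) (Kd.xU_comm_sgn _ _ a b ha hb hab _ _)
      (Kd.xU_comm_sgn _ _ a b ha hb hab _ _)
    simpa only [sgnRoot, Bool.false_eq_true, if_false, if_true] using e
  | [a, b, c], hall, hshape =>
    simp only [Bool.and_eq_true, decide_eq_true_eq] at hshape
    obtain ⟨⟨⟨⟨⟨h1, h2⟩, h3⟩, h4⟩, h5⟩, h6⟩ := hshape
    obtain ⟨⟨ha, -⟩, hca⟩ := hall a (by simp)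
    obtain ⟨⟨hb, -⟩, hcb⟩ := hall b (by simp)
    obtain ⟨⟨hc, -⟩, -⟩ := hall c (by simp)
    have hab := (hca b (by simp)).resolve_left h4
    have hac := (hca c (by simp)).resolve_left h6
    have hbc := (hcb c (by simp)).resolve_left h5
    rw [wordU_clsWord_three, wordU_clsWord_three, R.nWordU_cons, R.nWordU_cons, R.nWordU_cons, R.nWordU_nil, mul_one,
      R.nU_one_eq, R.nU_one_eq, R.nU_one_eq, map_one, map_one, map_neg, map_neg, map_one, map_one]
    have cab : ∀ (n1 n2 : Bool) (x y : K), Commute (R.xU (sgnRoot C.D n1 a) x) (R.xU (sgnRoot C.D n2 b) y) :=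
      fun n1 n2 x y => Kd.xU_comm_sgn n1 n2 a b ha hb hab x y
    have cac : ∀ (n1 n2 : Bool) (x y : K), Commute (R.xU (sgnRoot C.D n1 a) x) (R.xU (sgnRoot C.D n2 c) y) :=
      fun n1 n2 x y => Kd.xU_comm_sgn n1 n2 a c ha hc hac x y
    have cbc : ∀ (n1 n2 : Bool) (x y : K), Commute (R.xU (sgnRoot C.D n1 b) x) (R.xU (sgnRoot C.D n2 c) y) :=
      fun n1 n2 x y => Kd.xU_comm_sgn n1 n2 b c hb hc hbc x y
    have e1 := interleave3 (R.xU (sgnRoot C.D false a) (1 : K)) (R.xU (sgnRoot C.D true a) (-1))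
      (R.xU (sgnRoot C.D false a) 1) (R.xU (sgnRoot C.D false b) 1) (R.xU (sgnRoot C.D true b) (-1))
      (R.xU (sgnRoot C.D false b) 1) (cab _ _ _ _) (cab _ _ _ _) (cab _ _ _ _)
    have e2 := interleave3 (R.xU (sgnRoot C.D false a) (1 : K) * R.xU (sgnRoot C.D false b) 1)
      (R.xU (sgnRoot C.D true a) (-1) * R.xU (sgnRoot C.D true b) (-1))
      (R.xU (sgnRoot C.D false a) 1 * R.xU (sgnRoot C.D false b) 1)
      (R.xU (sgnRoot C.D false c) 1) (R.xU (sgnRoot C.D true c) (-1)) (R.xU (sgnRoot C.D false c) 1)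
      ((cac _ _ _ _).mul_left (cbc _ _ _ _)) ((cac _ _ _ _).mul_left (cbc _ _ _ _))
      ((cac _ _ _ _).mul_left (cbc _ _ _ _))
    simp only [sgnRoot, Bool.false_eq_true, if_false, if_true] at e1 e2 ⊢
    rw [← mul_assoc, e1, e2]
  | [], _, hshape => simp at hshape
  | _ :: _ :: _ :: _ :: _, _, hshape => simp at hshape

end

end Cfsg.Agent.Lib.Helper3.ChevM
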