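import Mathlib
import Cfsg.Prelude.Def_ChevStructure
import Cfsg.Agent.Lib.Helper3.ChevTw7
set_option autoImplicit false
open Cfsg Cfsg.Lie

/-! Commuting families of root subgroups, and the fixed points of the twisting automorphism on the root subgroups of
a class. -/

namespace Cfsg.Agent.Lib.Helper3.ChevM

open ChevU

section
variable {K : Type*} [Field K] {C : CDatum} {R : RelData C}

/-- The subgroup generated by the root subgroups of a list of roots. -/
def RelData.xGrp (R : RelData C) (K : Type*) [Field K] (L : List ℕ) : Subgroup (GL C.D.Idx K) :=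
  Subgroup.closure {g | ∃ s ∈ L, ∃ a : K, g = R.xU s a}

theorem RelData.xU_mem_xGrp (L : List ℕ) (s : ℕ) (hs : s ∈ L) (a : K) : R.xU s a ∈ R.xGrp K L :=
  Subgroup.subset_closure ⟨s, hs, a, rfl⟩

theorem RelData.lp_mem_xGrp (L : List ℕ) (t : ℕ → K) : R.lp L t ∈ R.xGrp K L := by
  unfold RelData.lp RootSys.lprod
  apply Subgroup.list_prod_mem
  intro g hg
  obtain ⟨r, hr, rfl⟩ := List.mem_map.mp hg
  exact R.xU_mem_xGrp L r hr _

theorem RelData.lp_zero (L : List ℕ) : R.lp L (fun _ => (0 : K)) = 1 := by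
  induction L with
  | nil => rfl
  | cons r L ih => rw [R.lp_cons, ih, R.xU_zero, mul_one]

theorem RelData.lp_commute (L : List ℕ) (t : ℕ → K) (g : GL C.D.Idx K)
    (h : ∀ r ∈ L, ∀ a : K, Commute (R.xU r a) g) : Commute (R.lp L t) g := by
  induction L with
  | nil => rw [R.lp_nil]; exact Commute.one_left g
  | cons r L ih =>
    rw [R.lp_cons]
    exact (h r List.mem_cons_self _).mul_left (ih fun s hs a => h s (List.mem_cons_of_mem _ hs) a)

theorem RelData.lp_add (L : List ℕ)
    (hc : ∀ r ∈ L, ∀ s ∈ L, ∀ a b : K, R.xU r a * R.xU s b = R.xU s b * R.xU r a) (t t' : ℕ → K) :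
    R.lp L t * R.lp L t' = R.lp L (fun r => t r + t' r) := by
  induction L with
  | nil => simp [RelData.lp_nil]
  | cons r L ih =>
    have hc' : ∀ x ∈ L, ∀ y ∈ L, ∀ a b : K, R.xU x a * R.xU y b = R.xU y b * R.xU x a :=
      fun x hx y hy => hc x (List.mem_cons_of_mem _ hx) y (List.mem_cons_of_mem _ hy)
    rw [R.lp_cons, R.lp_cons, R.lp_cons, ← ih hc', ← R.xU_add]
    have hcm : Commute (R.lp L t) (R.xU r (t' r)) :=
      R.lp_commute L t _ fun s hs a => hc s (List.mem_cons_of_mem _ hs) r List.mem_cons_self a (t' r)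
    calc R.xU r (t r) * R.lp L t * (R.xU r (t' r) * R.lp L t')
        = R.xU r (t r) * (R.lp L t * R.xU r (t' r)) * R.lp L t' := by group
      _ = R.xU r (t r) * (R.xU r (t' r) * R.lp L t) * R.lp L t' := by rw [hcm.eq]
      _ = R.xU r (t r) * R.xU r (t' r) * (R.lp L t * R.lp L t') := by group

theorem RelData.lp_single (L : List ℕ) (hnd : L.Nodup) (s : ℕ) (hs : s ∈ L) (a : K) :
    R.lp L (fun r => if r = s then a else 0) = R.xU s a := by
  induction L with
  | nil => exact absurd hs List.not_mem_nil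
  | cons r L ih =>
    rw [List.nodup_cons] at hnd
    rw [R.lp_cons]
    by_cases hrs : r = s
    · subst hrs
      rw [if_pos rfl]
      have : R.lp L (fun x => if x = r then a else 0) = R.lp L (fun _ => (0 : K)) := by
        apply R.lp_congr
        intro x hx
        have hxr : x ≠ r := fun e => hnd.1 (by rw [← e]; exact hx)
        rw [if_neg hxr]
      rw [this, R.lp_zero, mul_one]
    · rw [if_neg hrs, R.xU_zero, one_mul]
      rcases List.mem_cons.mp hs with h | h
      · exact absurd h.symm hrs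
      · exact ih hnd.2 h

/-- Every element of the group generated by commuting root subgroups is a product of root elements. -/
theorem RelData.exists_lp_of_mem_xGrp (L : List ℕ) (hnd : L.Nodup)
    (hc : ∀ r ∈ L, ∀ s ∈ L, ∀ a b : K, R.xU r a * R.xU s b = R.xU s b * R.xU r a)
    (g : GL C.D.Idx K) (hg : g ∈ R.xGrp K L) : ∃ t : ℕ → K, g = R.lp L t := by
  unfold RelData.xGrp at hg
  induction hg using Subgroup.closure_induction with
  | mem x hx =>
    obtain ⟨s, hs, a, rfl⟩ := hx
    exact ⟨_, (R.lp_single L hnd s hs a).symm⟩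
  | one => exact ⟨fun _ => 0, (R.lp_zero L).symm⟩
  | mul x y _ _ hx hy =>
    obtain ⟨t, rfl⟩ := hx
    obtain ⟨t', rfl⟩ := hy
    exact ⟨_, R.lp_add L hc t t'⟩
  | inv x _ hx =>
    obtain ⟨t, rfl⟩ := hx
    refine ⟨fun r => -t r, ?_⟩
    rw [inv_eq_iff_mul_eq_one, R.lp_add L hc]
    have : (fun r => t r + -t r) = fun _ => (0 : K) := by funext r; ring
    rw [this]
    exact R.lp_zero L

end

section
variable {K : Type*} [Field K] {C : CDatum} {R : RelData C} (Uh : UHyp C R)

include Uh in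
/-- Uniqueness of the coordinates on a commuting family of positive root subgroups. -/
theorem UHyp.lp_inj_comm (L : List ℕ) (hnd : L.Nodup) (hpos : ∀ r ∈ L, C.D.IsPosRoot r)
    (hc : ∀ r ∈ L, ∀ s ∈ L, ∀ a b : K, R.xU r a * R.xU s b = R.xU s b * R.xU r a) (t t' : ℕ → K)
    (h : R.lp L t = R.lp L t') : ∀ r ∈ L, t r = t' r := by
  set L' := L.insertionSort (· ≤ ·) with hL'
  have hperm : L'.Perm L := List.perm_insertionSort _ L
  have hsorted : L'.Pairwise (· < ·) := by
    have h1 : L'.Pairwise (· ≤ ·) := List.pairwise_insertionSort _ L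
    have h2 : L'.Nodup := hperm.nodup_iff.mpr hnd
    exact (h1.and h2).imp (fun ⟨a, b⟩ => lt_of_le_of_ne a b)
  have e1 : R.lp L t = R.lp L' t := R.lp_perm L L' hperm.symm t hc
  have e2 : R.lp L t' = R.lp L' t' := R.lp_perm L L' hperm.symm t' hc
  rw [e1, e2] at h
  have := R.lprod_inj Uh.hf Uh.fr Uh.wj Uh.wi Uh.lev Uh.frm Uh.wit L' hsorted
    (fun r hr => hpos r (hperm.subset hr)) t t' h
  intro r hr
  exact this r (hperm.symm.subset hr)

end

section
variable {K : Type*} [Field K] {C : CDatum} {R : RelData C} (Uh : UHyp C R) (M : MonoHyp C R) (G : GraphData C)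
  (φ : K →+* K)
  (htw : twTabCheck C.D G.rho G.eps = true)
  (hrf : twReflCheck C.D R.refl G.p G.rho = true)
  (cls : List (List ℕ))

include Uh htw hrf in
/-- The generators of the twisted group lie in the fixed points of the twisting automorphism. -/
theorem UHyp.twGroup_le_fix (hshape : ∀ J ∈ cls, clsShapeCheck C.D G.p G.eps J = true) :
    R.twGroup φ cls ≤ fixG (G.sig φ) := by
  unfold RelData.twGroup
  rw [Subgroup.closure_le]
  rintro g ⟨J, hJ, neg, t, ht, rfl⟩
  exact Uh.K.sig_clsWord G φ htw hrf J (hshape J hJ) neg t ht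

omit Uh htw hrf in
include R in
theorem clsWord_lt (J : List ℕ) (hJ : ∀ j ∈ J, j < C.D.rank) (neg : Bool) (t : K) :
    ∀ p ∈ clsWord C.D φ J neg t, p.1 < C.D.nroots := by
  intro p hp
  simp only [clsWord, List.mem_map] at hp
  obtain ⟨⟨j, k⟩, hjk, rfl⟩ := hp
  have hj : j ∈ J := (List.mem_zipIdx hjk).2.2 ▸ List.getElem_mem _
  have := R.simple_lt j (hJ j hj)
  cases neg
  · simpa [sgnRoot] using this
  · simpa [sgnRoot] using R.neg_lt _ this


omit Uh htw hrf in
include R in
theorem twGroup_le_group (hcls : ∀ J ∈ cls, ∀ j ∈ J, j < C.D.rank) : R.twGroup φ cls ≤ C.D.group K := by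
  unfold RelData.twGroup
  rw [Subgroup.closure_le]
  rintro g ⟨J, hJ, neg, t, -, rfl⟩
  exact R.wordU_mem_group _ (clsWord_lt (R := R) φ J (hcls J hJ) neg t)

include Uh in
/-- The representatives of the class reflections lie in the twisted group. -/
theorem UHyp.nWordU_cls_mem (hshape : ∀ J ∈ cls, clsShapeCheck C.D G.p G.eps J = true) (J : List ℕ) (hJ : J ∈ cls) :
    R.nWordU (F := K) J ∈ R.twGroup φ cls := by
  rw [Uh.K.nWordU_cls G φ J (hshape J hJ)]
  have h1 : R.wordU (clsWord C.D φ J false (1 : K)) ∈ R.twGroup φ cls :=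
    Subgroup.subset_closure ⟨J, hJ, false, 1, Function.iterate_fixed (map_one φ) _, rfl⟩
  have h2 : R.wordU (clsWord C.D φ J true (-1 : K)) ∈ R.twGroup φ cls :=
    Subgroup.subset_closure ⟨J, hJ, true, -1,
      Function.iterate_fixed (by rw [map_neg, map_one]) _, rfl⟩
  exact Subgroup.mul_mem _ (Subgroup.mul_mem _ h1 h2) h1

/-- The fundamental roots of a class are distinct positive roots. -/
def clsPosCheck (D : ChevalleyDatum) (J : List ℕ) : Bool :=
  decide ((J.map D.simple).Nodup) && J.all fun a => decide (D.IsPosRoot (D.simple a))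

omit Uh htw hrf in
theorem clsShape_cases {J : List ℕ} (h : clsShapeCheck C.D G.p G.eps J = true) :
    (∃ a, J = [a] ∧ G.p a = a) ∨ (∃ a b, J = [a, b] ∧ G.p a = b ∧ G.p b = a) ∨
      (∃ a b c, J = [a, b, c] ∧ G.p a = b ∧ G.p b = c ∧ G.p c = a) := by
  simp only [clsShapeCheck, Bool.and_eq_true] at h
  obtain ⟨-, hsh⟩ := h
  match J, hsh with
  | [a], hsh => exact Or.inl ⟨a, rfl, by simpa using hsh⟩
  | [a, b], hsh =>
    simp only [Bool.and_eq_true, decide_eq_true_eq] at hsh
    exact Or.inr (Or.inl ⟨a, b, rfl, hsh.1.1, hsh.1.2⟩)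
  | [a, b, c], hsh =>
    simp only [Bool.and_eq_true, decide_eq_true_eq] at hsh
    exact Or.inr (Or.inr ⟨a, b, c, rfl, hsh.1.1.1.1.1, hsh.1.1.1.1.2, hsh.1.1.1.2⟩)
  | [], hsh => simp at hsh
  | _ :: _ :: _ :: _ :: _, hsh => simp at hsh

include Uh htw hrf in
/-- The fixed points of the twisting automorphism on the root subgroups of a class of fundamental roots are
generators of the twisted group. -/
theorem UHyp.fix_simple_class (hshape : ∀ J ∈ cls, clsShapeCheck C.D G.p G.eps J = true) (J : List ℕ) (hJ : J ∈ cls)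
    (hpos : clsPosCheck C.D J = true)
    (g : GL C.D.Idx K) (hg : g ∈ R.xGrp K (J.map C.D.simple)) (hfix : G.sig φ g = g) :
    g ∈ R.twGroup φ cls := by
  have hJs := hshape J hJ
  have hcases := clsShape_cases G hJs
  simp only [clsShapeCheck, Bool.and_eq_true, List.all_eq_true, decide_eq_true_eq, Bool.or_eq_true] at hJs
  obtain ⟨hall, -⟩ := hJs
  simp only [clsPosCheck, Bool.and_eq_true, List.all_eq_true, decide_eq_true_eq] at hpos
  obtain ⟨hnd, hpos⟩ := hpos
  have hsimple : ∀ a ∈ J, G.rho (C.D.simple a) = C.D.simple (G.p a) := fun a ha =>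
    (twReflCheck_spec (R := R) G hrf a (hall a ha).1.1).2.1
  have hcomm0 : ∀ a ∈ J, ∀ b ∈ J, ∀ x y : K, R.xU (C.D.simple a) x * R.xU (C.D.simple b) y =
      R.xU (C.D.simple b) y * R.xU (C.D.simple a) x := by
    intro a ha b hb x y
    by_cases hab : a = b
    · subst hab; rw [R.xU_add, R.xU_add, add_comm]
    · have := Uh.K.xU_comm_sgn (K := K) false false a b (hall a ha).1.1 (hall b hb).1.1
        (((hall a ha).2 b hb).resolve_left hab) x y
      simpa [sgnRoot] using this.eq
  have hcomm : ∀ r ∈ J.map C.D.simple, ∀ s ∈ J.map C.D.simple, ∀ x y : K,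
      R.xU r x * R.xU s y = R.xU s y * R.xU r x := by
    intro r hr s hs x y
    obtain ⟨a, ha, rfl⟩ := List.mem_map.mp hr
    obtain ⟨b, hb, rfl⟩ := List.mem_map.mp hs
    exact hcomm0 a ha b hb x y
  have hlt : ∀ r ∈ J.map C.D.simple, r < C.D.nroots := by
    intro r hr
    obtain ⟨a, ha, rfl⟩ := List.mem_map.mp hr
    exact R.simple_lt a (hall a ha).1.1
  have hposL : ∀ r ∈ J.map C.D.simple, C.D.IsPosRoot r := by
    intro r hr
    obtain ⟨a, ha, rfl⟩ := List.mem_map.mp hr
    exact hpos a ha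
  obtain ⟨c, rfl⟩ := R.exists_lp_of_mem_xGrp _ hnd hcomm g hg
  -- the permutation of the class
  have hpermJ : (J.map G.p).Perm J := by
    rcases hcases with ⟨a, rfl, h1⟩ | ⟨a, b, rfl, h1, h2⟩ | ⟨a, b, c', rfl, h1, h2, h3⟩
    · simp [h1]
    · simp only [List.map_cons, List.map_nil, h1, h2]
      exact List.Perm.swap a b []
    · simp only [List.map_cons, List.map_nil, h1, h2, h3]
      exact (List.perm_cons_append_cons a (l₁ := [b, c']) (l₂ := []) (List.Perm.refl _)).symm.trans
        (by simp)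
  have hmapρ : (J.map C.D.simple).map G.rho = (J.map G.p).map C.D.simple := by
    rw [List.map_map, List.map_map]
    apply List.map_congr_left
    intro a ha
    exact hsimple a ha
  have hperm : ((J.map C.D.simple).map G.rho).Perm (J.map C.D.simple) := by
    rw [hmapρ]; exact hpermJ.map _
  have hcomm' : ∀ r ∈ (J.map C.D.simple).map G.rho, ∀ s ∈ (J.map C.D.simple).map G.rho, ∀ x y : K,
      R.xU r x * R.xU s y = R.xU s y * R.xU r x :=
    fun r hr s hs => hcomm r (hperm.subset hr) s (hperm.subset hs)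
  rw [G.sig_lp φ _ hlt c, R.lp_perm _ _ hperm _ hcomm'] at hfix
  have hc := Uh.lp_inj_comm _ hnd hposL hcomm _ _ hfix
  have hstep : ∀ a ∈ J, c (C.D.simple (G.p a)) = φ (c (C.D.simple a)) := by
    intro a ha
    have hpa : G.p a ∈ J := hpermJ.subset (List.mem_map_of_mem ha)
    have := hc _ (List.mem_map_of_mem hpa)
    rw [← this, ← hsimple a ha, G.tw_rho φ c _ (R.simple_lt a (hall a ha).1.1), (hall a ha).1.2, Int.cast_one,
      one_mul]
  rcases hcases with ⟨a, rfl, h1⟩ | ⟨a, b, rfl, h1, h2⟩ | ⟨a, b, c', rfl, h1, h2, h3⟩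
  · have e := hstep a (by simp)
    rw [h1] at e
    refine Subgroup.subset_closure ⟨[a], hJ, false, c (C.D.simple a), e.symm, ?_⟩
    rw [wordU_clsWord_one]
    simp [RelData.lp_cons, RelData.lp_nil, sgnRoot]
  · have e1 := hstep a (by simp)
    have e2 := hstep b (by simp)
    rw [h1] at e1
    rw [h2] at e2
    refine Subgroup.subset_closure ⟨[a, b], hJ, false, c (C.D.simple a), ?_, ?_⟩
    · show φ (φ (c (C.D.simple a))) = _
      rw [← e1, ← e2]
    · rw [wordU_clsWord_two, ← e1]
      simp [RelData.lp_cons, RelData.lp_nil, sgnRoot]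
  · have e1 := hstep a (by simp)
    have e2 := hstep b (by simp)
    have e3 := hstep c' (by simp)
    rw [h1] at e1
    rw [h2] at e2
    rw [h3] at e3
    refine Subgroup.subset_closure ⟨[a, b, c'], hJ, false, c (C.D.simple a), ?_, ?_⟩
    · show φ (φ (φ (c (C.D.simple a)))) = _
      rw [← e1, ← e2, ← e3]
    · rw [wordU_clsWord_three, ← e1, ← e2]
      simp [RelData.lp_cons, RelData.lp_nil, sgnRoot, mul_assoc]

end

end Cfsg.Agent.Lib.Helper3.ChevM
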