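import Mathlib
import Cfsg.Prelude.Def_ChevStructure
import Cfsg.Agent.Lib.Helper3.ChevTw8
set_option autoImplicit false
open Cfsg Cfsg.Lie

/-! The elements of `U` fixed by the twisting automorphism lie in the twisted group. -/

namespace Cfsg.Agent.Lib.Helper3.ChevM

open ChevU

/-- A chain of classes of roots, each either a class of fundamental roots or carried into an earlier class of the
chain by a class reflection (or by the identity, when the index of the reflection is out of range). -/
def twChainCheck (D : ChevalleyDatum) (refl : ℕ → ℕ → ℕ) (cls CL : List (List ℕ))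
    (chain : List (List ℕ × ℕ × ℕ)) : Bool :=
  (CL.all fun S => chain.any fun e => decide (e.1 = S)) &&
  (List.range chain.length).all fun k =>
    (((chain.getD k ([], 0, 0)).1.all fun s => decide (s < D.nroots)) &&
    (if (chain.getD k ([], 0, 0)).2.2 < k then
      (chain.getD k ([], 0, 0)).1.all fun s =>
        decide (reflW refl (cls.getD (chain.getD k ([], 0, 0)).2.1 []) s ∈
          (chain.getD (chain.getD k ([], 0, 0)).2.2 ([], 0, 0)).1)
     else decide ((chain.getD k ([], 0, 0)).2.1 < cls.length) &&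
      decide ((chain.getD k ([], 0, 0)).1 = (cls.getD (chain.getD k ([], 0, 0)).2.1 []).map D.simple) &&
      clsPosCheck D (cls.getD (chain.getD k ([], 0, 0)).2.1 [])))

section
variable {K : Type*} [Field K] {C : CDatum} {R : RelData C} (Uh : UHyp C R) (M : MonoHyp C R) (G : GraphData C)
  (φ : K →+* K)
  (hdec : ∀ r < C.D.nroots, ∀ s < C.D.nroots, hdecCheck C.D R.pair r s = true)
  (htw : twTabCheck C.D G.rho G.eps = true)
  (hrf : twReflCheck C.D R.refl G.p G.rho = true)
  (cls : List (List ℕ)) (hcls : twClsCheck C.D R.refl G.p cls = true)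
  (hshape : ∀ J ∈ cls, clsShapeCheck C.D G.p G.eps J = true)
  (CL : List (List ℕ)) (chain : List (List ℕ × ℕ × ℕ))
  (hchain : twChainCheck C.D R.refl cls CL chain = true)

include Uh M hdec htw hrf hcls hshape hchain in
/-- The fixed points on the root subgroups of each class of the chain lie in the twisted group. -/
theorem UHyp.chain_le : ∀ k < chain.length,
    R.xGrp K (chain.getD k ([], 0, 0)).1 ⊓ fixG (G.sig φ) ≤ R.twGroup φ cls := by
  intro k
  induction k using Nat.strong_induction_on with
  | _ k ih =>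
    intro hk
    have hch := hchain
    simp only [twChainCheck, Bool.and_eq_true, List.all_eq_true, List.mem_range] at hch
    obtain ⟨hlt, hcase⟩ := hch.2 k hk
    set e := chain.getD k ([], 0, 0) with he
    set J := cls.getD e.2.1 [] with hJ
    have hfixle := Uh.twGroup_le_fix G φ htw hrf cls hshape
    intro g hg0
    obtain ⟨hg, hgfix⟩ := Subgroup.mem_inf.mp hg0
    rw [mem_fixG] at hgfix
    by_cases hlt' : e.2.2 < k
    · rw [if_pos hlt'] at hcase
      simp only [List.all_eq_true, decide_eq_true_eq] at hcase hlt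
      have hk' : e.2.2 < chain.length := lt_trans hlt' hk
      have hJmem : J ∈ cls ∨ J = [] := by
        by_cases hj : e.2.1 < cls.length
        · left
          rw [hJ, List.getD_eq_getElem _ _ hj]
          exact List.getElem_mem _
        · right
          rw [hJ, List.getD_eq_default _ _ (by omega)]
      have hJlt : ∀ i ∈ J, i < C.D.rank := by
        rcases hJmem with h | h
        · exact ((twClsCheck_spec (R := R) G cls hcls).2 J h).1
        · rw [h]; simp
      set n := R.nWordU (F := K) J with hn
      have hnmem : n ∈ R.twGroup φ cls := by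
        rcases hJmem with h | h
        · exact Uh.nWordU_cls_mem G φ cls hshape J h
        · rw [hn, h, R.nWordU_nil]; exact Subgroup.one_mem _
      have hnfix : G.sig φ n = n := (mem_fixG _ _).mp (hfixle hnmem)
      obtain ⟨dd, hdd⟩ := M.conj_word_xU (F := K) hdec 1 (Subgroup.one_mem _) J hJlt
      have hconj : n * g * n⁻¹ ∈ R.xGrp K (chain.getD e.2.2 ([], 0, 0)).1 := by
        have := map_mem_of_closure (MulAut.conj n).toMonoidHom _
          (R.xGrp K (chain.getD e.2.2 ([], 0, 0)).1) ?_ hg
        · simpa using this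
        · rintro x ⟨s, hs, a, rfl⟩
          have h1 := (hdd s (hlt s hs)).2 a
          rw [one_mul] at h1
          show n * R.xU s a * n⁻¹ ∈ _
          rw [h1]
          exact R.xU_mem_xGrp _ _ (hcase s hs) _
      have hconjfix : G.sig φ (n * g * n⁻¹) = n * g * n⁻¹ := by
        rw [map_mul, map_mul, map_inv, hnfix, hgfix]
      have := ih e.2.2 hlt' hk' (Subgroup.mem_inf.mpr ⟨hconj, (mem_fixG _ _).mpr hconjfix⟩)
      have e2 : g = n⁻¹ * (n * g * n⁻¹) * n := by group
      rw [e2]
      exact Subgroup.mul_mem _ (Subgroup.mul_mem _ (Subgroup.inv_mem _ hnmem) this) hnmem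
    · rw [if_neg hlt'] at hcase
      simp only [Bool.and_eq_true, decide_eq_true_eq] at hcase
      obtain ⟨⟨h1, h2⟩, h3⟩ := hcase
      have hJmem : J ∈ cls := by
        rw [hJ, List.getD_eq_getElem _ _ h1]
        exact List.getElem_mem _
      rw [h2] at hg
      exact Uh.fix_simple_class G φ htw hrf cls hshape J hJmem h3 g hg hgfix

include Uh M hdec htw hrf hcls hshape hchain in
/-- The elements of `U` fixed by the twisting automorphism lie in the twisted group. -/
theorem UHyp.fix_le_twGroup [Fintype K] (hCL : twPosClsCheck C.D G.rho CL = true)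
    (hlen : C.D.posRoots.length = C.D.nroots / 2) :
    C.D.posUnipotent K ⊓ fixG (G.sig φ) ≤ R.twGroup φ cls := by
  intro g hg0
  obtain ⟨hgU, hgfix⟩ := Subgroup.mem_inf.mp hg0
  rw [mem_fixG] at hgfix
  obtain ⟨t, -, rfl, htw'⟩ := Uh.exists_fix_coords G φ CL hCL hlen g hgU hgfix
  obtain ⟨hnd, hmem, hS⟩ := twPosClsCheck_spec hCL
  rw [R.lp_flatten]
  apply Subgroup.list_prod_mem
  intro x hx
  obtain ⟨S, hSm, rfl⟩ := List.mem_map.mp hx
  have hch := hchain
  simp only [twChainCheck, Bool.and_eq_true, List.all_eq_true, List.any_eq_true, decide_eq_true_eq] at hch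
  obtain ⟨e, hemem, heS⟩ := hch.1 S hSm
  obtain ⟨k, hk, hek⟩ := List.getElem_of_mem hemem
  have hgetD : chain.getD k ([], 0, 0) = e := by rw [List.getD_eq_getElem _ _ hk, hek]
  have hle := Uh.chain_le M G φ hdec htw hrf cls hcls hshape CL chain hchain k hk
  rw [hgetD, heS] at hle
  apply hle
  refine Subgroup.mem_inf.mpr ⟨R.lp_mem_xGrp S t, ?_⟩
  rw [mem_fixG]
  obtain ⟨-, hperm, hcomm⟩ := hS S hSm
  have hlt : ∀ r ∈ S, r < C.D.nroots := fun r hr => ((hmem r).mp (List.mem_flatten.mpr ⟨S, hSm, hr⟩)).1
  rw [G.sig_lp φ S hlt t]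
  have hc' : ∀ r ∈ S.map G.rho, ∀ s ∈ S.map G.rho, ∀ a b : K, R.xU r a * R.xU s b = R.xU s b * R.xU r a := by
    intro r hr s hs a b
    have hr' := hperm.subset hr
    have hs' := hperm.subset hs
    exact Uh.K.xU_comm r s (hlt r hr') (hlt s hs') (hcomm r hr' s hs') a b
  rw [R.lp_perm _ _ hperm _ hc']
  apply R.lp_congr
  intro s hs
  exact htw' s (List.mem_flatten.mpr ⟨S, hSm, hs⟩)

end

end Cfsg.Agent.Lib.Helper3.ChevM
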