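import Mathlib
set_option autoImplicit false

/-! The `q`-th power automorphism of a finite field with `q ^ d` elements. -/

namespace Cfsg.Agent.Lib.Helper3.ChevM

theorem card_pow_eq_self {K : Type*} [Field K] [Fintype K] (q d : ℕ) (hq : 1 < q) (hd : 0 < d)
    (hK : Fintype.card K = q ^ d) : Nat.card {x : K // x ^ q = x} = q := by
  classical
  have hdvd : q - 1 ∣ q ^ d - 1 := by
    have := Nat.sub_dvd_pow_sub_pow q 1 d
    simpa only [one_pow] using this
  have hker : Nat.card (powMonoidHom (q - 1) : Kˣ →* Kˣ).ker = q - 1 := by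
    rw [IsCyclic.card_powMonoidHom_ker, Nat.card_eq_fintype_card, Fintype.card_units, hK]
    exact Nat.gcd_eq_right hdvd
  let f : Option (powMonoidHom (q - 1) : Kˣ →* Kˣ).ker → {x : K // x ^ q = x} := fun o =>
    match o with
    | none => ⟨0, zero_pow (by omega)⟩
    | some u => ⟨(u.1 : K), by
        have h1 : (u.1 : Kˣ) ^ (q - 1) = 1 := u.2
        have h2 : ((u.1 : Kˣ) : K) ^ (q - 1) = 1 := by
          rw [← Units.val_pow_eq_pow_val, h1, Units.val_one]
        have e : ((u.1 : Kˣ) : K) ^ q = ((u.1 : Kˣ) : K) ^ (q - 1) * ((u.1 : Kˣ) : K) := by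
          rw [← pow_succ]; congr 1; omega
        rw [e, h2, one_mul]⟩
  have hbij : Function.Bijective f := by
    constructor
    · intro a b hab
      rcases a with _ | a <;> rcases b with _ | b
      · rfl
      · exfalso
        have : (0 : K) = (b.1 : K) := congrArg Subtype.val hab
        exact Units.ne_zero _ this.symm
      · exfalso
        have : (a.1 : K) = (0 : K) := congrArg Subtype.val hab
        exact Units.ne_zero _ this
      · have : (a.1 : K) = (b.1 : K) := congrArg Subtype.val hab
        exact congrArg some (Subtype.ext (Units.ext this))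
    · rintro ⟨x, hx⟩
      by_cases h0 : x = 0
      · exact ⟨none, Subtype.ext h0.symm⟩
      · have h1 : x ^ (q - 1) = 1 := by
          have e : x ^ q = x ^ (q - 1) * x := by
            rw [← pow_succ]; congr 1; omega
          rw [e] at hx
          exact mul_right_cancel₀ h0 (by rw [hx, one_mul])
        refine ⟨some ⟨Units.mk0 x h0, ?_⟩, Subtype.ext rfl⟩
        rw [MonoidHom.mem_ker, powMonoidHom_apply]
        apply Units.ext
        rw [Units.val_pow_eq_pow_val, Units.val_mk0, h1, Units.val_one]
  rw [← Nat.card_eq_of_bijective f hbij, Nat.card_eq_fintype_card, Fintype.card_option,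
    ← Nat.card_eq_fintype_card, hker]
  omega

/-- The `q`-th power map as a ring homomorphism of a field with `q ^ d` elements. -/
theorem exists_frob (K : Type*) [Field K] [Fintype K] (q d : ℕ) (hq : IsPrimePow q) (hd : 0 < d)
    (hK : Fintype.card K = q ^ d) :
    ∃ φ : K →+* K, (∀ t, φ t = t ^ q) ∧ (∀ t, φ^[d] t = t) ∧ Nat.card {x : K // φ x = x} = q := by
  obtain ⟨p, k, hp, hk, rfl⟩ := hq
  have hp' : p.Prime := Nat.prime_iff.mpr hp
  obtain ⟨p', hchar⟩ := CharP.exists K
  obtain ⟨n, hp'n, hcard⟩ := FiniteField.card K p'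
  have hpp : p' = p := by
    have h1 : p' ∣ (p ^ k) ^ d := by
      rw [← hK, hcard]
      exact dvd_pow_self p' n.ne_zero
    have h2 := hp'n.dvd_of_dvd_pow (hp'n.dvd_of_dvd_pow h1)
    exact (Nat.prime_dvd_prime_iff_eq hp'n hp').mp h2
  subst hpp
  have : Fact p'.Prime := ⟨hp'⟩
  refine ⟨iterateFrobenius K p' k, fun t => iterateFrobenius_def p' k t, ?_, ?_⟩
  · intro t
    have key : ∀ m : ℕ, ∀ x : K, (iterateFrobenius K p' k)^[m] x = x ^ ((p' ^ k) ^ m) := by
      intro m
      induction m with
      | zero => intro x; simp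
      | succ m ih =>
        intro x
        rw [Function.iterate_succ_apply, ih, iterateFrobenius_def, ← pow_mul, pow_succ, mul_comm]
    rw [key, ← hK, FiniteField.pow_card]
  · have h1 : 1 < p' ^ k := Nat.one_lt_pow hk.ne' hp'.one_lt
    have := card_pow_eq_self (K := K) (p' ^ k) d h1 hd hK
    rw [← this]
    apply Nat.card_congr
    apply Equiv.subtypeEquivRight
    intro x
    rw [iterateFrobenius_def]

end Cfsg.Agent.Lib.Helper3.ChevM
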