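import Mathlib
import Cfsg.Prelude.Def_ChevStructure
import Cfsg.Agent.Lib.Helper3.ChevTw9
import Cfsg.Agent.Lib.Helper3.ChevTwF
set_option autoImplicit false
open Cfsg Cfsg.Lie

/-! The data of a twisted group, and the order of the fixed points of `U`. -/

namespace Cfsg.Agent.Lib.Helper3.ChevM

open ChevU

/-- All the data and table checks for a twisted group. -/
structure TwHyp (C : CDatum) (R : RelData C) where
  U : UHyp C R
  B : BNHyp C R
  G : GraphData C
  sign : ∀ r < C.D.nroots, signCheck C.D r = true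
  len : C.D.posRoots.length = C.D.nroots / 2
  tab : twTabCheck C.D G.rho G.eps = true
  rf : twReflCheck C.D R.refl G.p G.rho = true
  cls : List (List ℕ)
  clsOk : twClsCheck C.D R.refl G.p cls = true
  shape : ∀ J ∈ cls, clsShapeCheck C.D G.p G.eps J = true
  CL : List (List ℕ)
  clOk : twPosClsCheck C.D G.rho CL = true
  d : ℕ
  T : TwRep C.D G.rhoInv G.eps d
  sum : ∑ r ∈ Finset.range C.D.nroots, T.expo r = C.D.nroots / 2
  chain : List (List ℕ × ℕ × ℕ)
  chainOk : twChainCheck C.D R.refl cls CL chain = true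

section
variable {K : Type*} [Field K] [Fintype K] {C : CDatum} {R : RelData C} (H : TwHyp C R) (φ : K →+* K)

/-- The twisted group attached to the data. -/
abbrev TwHyp.grp : Subgroup (GL C.D.Idx K) := R.twGroup φ H.cls

/-- The twisting automorphism attached to the data. -/
abbrev TwHyp.sig : GL C.D.Idx K →* GL C.D.Idx K := H.G.sig φ

theorem TwHyp.grp_le_fix : H.grp φ ≤ fixG (H.sig φ) :=
  H.U.twGroup_le_fix H.G φ H.tab H.rf H.cls H.shape

theorem TwHyp.posUnipotent_inf_grp : C.D.posUnipotent K ⊓ H.grp φ = C.D.posUnipotent K ⊓ fixG (H.sig φ) := by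
  apply le_antisymm
  · exact inf_le_inf_left _ (H.grp_le_fix φ)
  · exact le_inf inf_le_left
      (H.U.fix_le_twGroup H.B.mono H.G φ H.B.dec H.tab H.rf H.cls H.clsOk H.shape H.CL H.chain H.chainOk H.clOk H.len)

/-- The order of `U ∩ G¹`. -/
theorem TwHyp.card_posUnipotent_inf (q : ℕ) (hφ1 : Nat.card {x : K // φ x = x} = q)
    (hφd : ∀ x : K, φ^[H.d] x = x) (hK : Nat.card K = q ^ H.d) :
    Nat.card ↥(C.D.posUnipotent K ⊓ H.grp φ) = q ^ (C.D.nroots / 2) := by
  rw [H.posUnipotent_inf_grp φ]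
  exact H.U.card_fix H.G φ H.CL H.clOk H.d H.T H.len q hφ1 hφd hK H.sum

end

end Cfsg.Agent.Lib.Helper3.ChevM
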