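import Mathlib
import Cfsg.Prelude.Def_ChevStructure
import Cfsg.Agent.Lib.Helper3.ChevTw10
import Cfsg.Agent.Lib.Helper3.ChevO1
set_option autoImplicit false
open Cfsg Cfsg.Lie

/-! The canonical form of the elements of a Chevalley group fixed by the twisting automorphism. -/

namespace Cfsg.Agent.Lib.Helper3.ChevM

open ChevU

section
variable {K : Type*} [Field K] {C : CDatum} {R : RelData C} (G : GraphData C) (φ : K →+* K)
  (htw : twTabCheck C.D G.rho G.eps = true)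

include R htw in
/-- The twisting automorphism carries `U_n⁻` into `U_{σ n}⁻`. -/
theorem GraphData.sig_mem_uMinus (hφs : Function.Surjective φ) (n u : GL C.D.Idx K) (hu : u ∈ uMinus C.D K n) :
    G.sig φ u ∈ uMinus C.D K (G.sig φ n) := by
  refine map_mem_of_closure (G.sig φ) _ _ ?_ hu
  rintro x ⟨r, t, hr, hle, hx⟩
  have e : x = R.xU r t := Units.ext (by rw [hx, R.xU_val])
  rw [e, G.sig_xU φ R r hr.1]
  refine Subgroup.subset_closure ⟨_, _, (twTabCheck_spec htw r hr.1).2.2.1 hr, ?_, R.xU_val _ _⟩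
  rw [Subgroup.map_le_iff_le_comap]
  unfold ChevalleyDatum.rootSubgroup
  rw [Subgroup.closure_le]
  rintro y ⟨a, hy⟩
  have ey : y = R.xU (G.rho r) a := Units.ext (by rw [hy, R.xU_val])
  obtain ⟨a', ha'⟩ := hφs (((G.eps r : ℤ) : K) * a)
  have e2 : y = G.sig φ (R.xU r a') := by
    rw [G.sig_xU φ R r hr.1, ha', ← mul_assoc, G.eps_cast_mul_self r hr.1, one_mul, ey]
  show (MulAut.conj (G.sig φ n)).toMonoidHom y ∈ C.D.negUnipotent K
  have e3 : (MulAut.conj (G.sig φ n)).toMonoidHom y = G.sig φ (n * R.xU r a' * n⁻¹) := by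
    rw [e2, map_mul, map_mul, map_inv]
    rfl
  rw [e3]
  apply G.sig_mem_negUnipotent φ R htw
  have : R.xU r a' ∈ C.D.rootSubgroup K r := Subgroup.subset_closure ⟨a', R.xU_val _ _⟩
  have := hle (Subgroup.mem_map_of_mem _ this)
  simpa using this

include R htw in
/-- The action of the twisting automorphism on the products of the `n_{p_i}`. -/
theorem GraphData.sig_nWordU (hrf : twReflCheck C.D R.refl G.p G.rho = true)
    (hε : ∀ i < C.D.rank, G.eps (C.D.simple i) = 1) (l : List ℕ) (hl : ∀ i ∈ l, i < C.D.rank) :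
    G.sig φ (R.nWordU (F := K) l) = R.nWordU (l.map G.p) := by
  induction l with
  | nil => simp [RelData.nWordU_nil]
  | cons i l ih =>
    have hi := hl i List.mem_cons_self
    rw [R.nWordU_cons, map_mul, List.map_cons, R.nWordU_cons, ih (fun j hj => hl j (List.mem_cons_of_mem _ hj)),
      G.sig_nU φ R htw _ (R.simple_lt i hi), (twReflCheck_spec (R := R) G hrf i hi).2.1, hε i hi, map_one,
      Int.cast_one, one_mul]

end

section
variable {K : Type*} [Field K] [Fintype K] {C : CDatum} {R : RelData C} (H : TwHyp C R) (φ : K →+* K)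

omit [Fintype K] in
theorem TwHyp.eps_simple (i : ℕ) (hi : i < C.D.rank) : H.G.eps (C.D.simple i) = 1 := by
  obtain ⟨J, hJ, hiJ⟩ := (twClsCheck_spec (R := R) H.G H.cls H.clsOk).1 i hi
  have := H.shape J hJ
  simp only [clsShapeCheck, Bool.and_eq_true, List.all_eq_true, decide_eq_true_eq] at this
  exact (this.1 i hiJ).1.2

/-- The product of the representatives of a word in the class reflections. -/
def RelData.nCls (R : RelData C) (K : Type*) [Field K] (Ω : List (List ℕ)) : GL C.D.Idx K :=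
  R.nWordU (F := K) Ω.flatten

omit [Fintype K] in
theorem TwHyp.flatten_lt (Ω : List (List ℕ)) (hΩ : ∀ J ∈ Ω, J ∈ H.cls) : ∀ i ∈ Ω.flatten, i < C.D.rank := by
  intro i hi
  obtain ⟨J, hJ, hiJ⟩ := List.mem_flatten.mp hi
  exact ((twClsCheck_spec (R := R) H.G H.cls H.clsOk).2 J (hΩ J hJ)).1 i hiJ

omit [Fintype K] in
theorem TwHyp.nCls_mem (Ω : List (List ℕ)) (hΩ : ∀ J ∈ Ω, J ∈ H.cls) : R.nCls K Ω ∈ H.grp φ := by
  induction Ω with
  | nil => exact Subgroup.one_mem _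
  | cons J Ω ih =>
    unfold RelData.nCls
    rw [List.flatten_cons, R.nWordU_append]
    exact Subgroup.mul_mem _ (H.U.nWordU_cls_mem H.G φ H.cls H.shape J (hΩ J List.mem_cons_self))
      (ih fun X hX => hΩ X (List.mem_cons_of_mem _ hX))

omit [Fintype K] in
theorem TwHyp.nCls_mem_monomial (Ω : List (List ℕ)) (hΩ : ∀ J ∈ Ω, J ∈ H.cls) :
    R.nCls K Ω ∈ C.D.monomialSubgroup K :=
  R.nWordU_mem _ (H.flatten_lt Ω hΩ)

/-- The canonical form of an element of the Chevalley group fixed by the twisting automorphism. -/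
theorem TwHyp.fix_normal_form (hntri : ∀ r < C.D.nroots, negTri C r = true) (g : GL C.D.Idx K)
    (hg : g ∈ C.D.group K) (hfix : H.sig φ g = g) :
    ∃ u₁ ∈ C.D.posUnipotent K ⊓ fixG (H.sig φ), ∃ h ∈ C.D.diagonalSubgroup K ⊓ fixG (H.sig φ),
      ∃ Ω : List (List ℕ), (∀ J ∈ Ω, J ∈ H.cls) ∧
        ∃ u ∈ uMinus C.D K (R.nCls K Ω) ⊓ fixG (H.sig φ), g = u₁ * h * R.nCls K Ω * u := by
  classical
  have M := H.B.mono
  have hφs : Function.Surjective φ := Finite.surjective_of_injective φ.injective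
  obtain ⟨bru1, bru2⟩ := H.U.bruhat_normal_form (F := K) H.B hntri (fun r hr => signCheck_or (H.sign r hr))
  obtain ⟨b, hb, n, hn, u, hu, rfl⟩ := bru1 g hg
  obtain ⟨h₀, hh₀, l, hl, rfl⟩ := M.monomial_decomp n hn
  -- apply the automorphism
  have hσb := H.G.sig_mem_borel φ R H.tab hb
  have hσn := H.G.sig_mem_monomial φ R H.tab hn
  have hσu := H.G.sig_mem_uMinus (R := R) φ H.tab hφs _ u hu
  have hfix' : b * (h₀ * R.nWordU l) * u = H.sig φ b * H.sig φ (h₀ * R.nWordU l) * H.sig φ u := by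
    rw [← map_mul, ← map_mul, hfix]
  obtain ⟨hnH, -⟩ := bru2 _ _ _ _ _ _ hb hσb hn hσn hu hσu hfix'
  -- the word commutes with the symmetry
  have hσw : H.sig φ (R.nWordU (F := K) l) = R.nWordU (l.map H.G.p) :=
    H.G.sig_nWordU (R := R) φ H.tab H.rf H.eps_simple l hl
  have hlp := map_p_lt (R := R) H.G H.rf l hl
  have hinv : ∀ s < C.D.nroots, reflW R.refl (l.map H.G.p) s = reflW R.refl l s := by
    have hσh₀ := H.G.sig_mem_diagonal φ R H.tab hh₀
    refine R.reflW_eq_of_coset (F := K) H.B.dec _ _ hlp hl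
      ((H.sig φ h₀)⁻¹ * h₀ * ((R.nWordU l) * ((h₀ * R.nWordU l)⁻¹ * H.sig φ (h₀ * R.nWordU l)) * (R.nWordU l)⁻¹))
      ?_ ?_
    · refine Subgroup.mul_mem _ (Subgroup.mul_mem _ (Subgroup.inv_mem _ hσh₀) hh₀) ?_
      exact M.conj_mem _ (R.nWordU_mem l hl) _ hnH
    · rw [map_mul, hσw]; group
  obtain ⟨Ω, hΩ, hact⟩ := M.exists_class_word H.G H.B.dec H.sign H.tab H.rf H.cls H.clsOk _ l rfl hl hinv
  have hΩlt := H.flatten_lt Ω hΩ
  obtain ⟨h₁, hh₁, e₁⟩ := M.coset_of_reflW_eq (F := K) H.B.dec l Ω.flatten hl hΩlt hact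
  -- rewrite with the fixed representative
  set nΩ := R.nCls K Ω with hnΩ
  have hnΩ' : nΩ = R.nWordU Ω.flatten := rfl
  have hnΩN : nΩ ∈ C.D.monomialSubgroup K := H.nCls_mem_monomial Ω hΩ
  have hnΩfix : H.sig φ nΩ = nΩ := (mem_fixG _ _).mp (H.grp_le_fix φ (H.nCls_mem φ Ω hΩ))
  have hUm : (uMinus C.D K (h₀ * R.nWordU l) : Set (GL C.D.Idx K)) = uMinus C.D K nΩ := by
    rw [H.U.uMinus_eq (F := K) H.B hntri H.sign h₀ hh₀ l hl]
    have := H.U.uMinus_eq (F := K) H.B hntri H.sign 1 (Subgroup.one_mem _) Ω.flatten hΩlt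
    rw [one_mul] at this
    rw [hnΩ', this]
    congr 1
    unfold negSet
    apply List.filter_congr
    intro r hr
    rw [hact r ((mem_posRoots C.D r).mp hr).1]
  have hu' : u ∈ uMinus C.D K nΩ := by
    have : u ∈ (uMinus C.D K nΩ : Set (GL C.D.Idx K)) := by rw [← hUm]; exact hu
    exact this
  set b' := b * h₀ * h₁ with hb'
  have hb'B : b' ∈ C.D.borelSubgroup K :=
    Subgroup.mul_mem _ (Subgroup.mul_mem _ hb (Subgroup.mem_sup_right hh₀)) (Subgroup.mem_sup_right hh₁)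
  have hg2 : b * (h₀ * R.nWordU l) * u = b' * nΩ * u := by
    rw [e₁, hb', hnΩ']; group
  rw [hg2] at hfix ⊢
  have hσb' := H.G.sig_mem_borel φ R H.tab hb'B
  have hσu' : H.sig φ u ∈ uMinus C.D K nΩ := by
    have := H.G.sig_mem_uMinus (R := R) φ H.tab hφs _ u hu'
    rwa [hnΩfix] at this
  have hfix2 : b' * nΩ * u = H.sig φ b' * nΩ * H.sig φ u := by
    conv_lhs => rw [← hfix]
    rw [map_mul, map_mul, hnΩfix]
  obtain ⟨-, huniq⟩ := bru2 _ _ _ _ _ _ hb'B hσb' hnΩN hnΩN hu' hσu' hfix2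
  obtain ⟨hbfix, hufix⟩ := huniq rfl
  -- split `b'`
  obtain ⟨hHU, hdisj⟩ := R.diagonal_normalizes (F := K) H.B.dec M.tri
  have hset := Subgroup.coe_mul_of_right_le_normalizer_left (C.D.posUnipotent K) (C.D.diagonalSubgroup K) hHU
  have hb'' : b' ∈ ((C.D.posUnipotent K ⊔ C.D.diagonalSubgroup K : Subgroup _) : Set _) := hb'B
  rw [hset] at hb''
  obtain ⟨u₁, hu₁, h₂, hh₂, e₂⟩ := Set.mem_mul.mp hb''
  have hσu₁ := H.G.sig_mem_posUnipotent φ R H.tab hu₁
  have hσh₂ := H.G.sig_mem_diagonal φ R H.tab hh₂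
  have hsplit : u₁⁻¹ * H.sig φ u₁ = h₂ * (H.sig φ h₂)⁻¹ := by
    have : u₁ * h₂ = H.sig φ u₁ * H.sig φ h₂ := by rw [← map_mul, e₂, ← hbfix]
    rw [eq_mul_inv_iff_mul_eq, mul_assoc, ← this]; group
  have hmem : u₁⁻¹ * H.sig φ u₁ ∈ C.D.posUnipotent K ⊓ C.D.diagonalSubgroup K := by
    refine Subgroup.mem_inf.mpr ⟨Subgroup.mul_mem _ (Subgroup.inv_mem _ hu₁) hσu₁, ?_⟩
    rw [hsplit]
    exact Subgroup.mul_mem _ hh₂ (Subgroup.inv_mem _ hσh₂)
  rw [hdisj, Subgroup.mem_bot] at hmem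
  have hu₁fix : H.sig φ u₁ = u₁ := by
    have := congrArg (fun x => u₁ * x) hmem
    simpa using this
  have hh₂fix : H.sig φ h₂ = h₂ := by
    rw [hmem] at hsplit
    have := eq_mul_inv_iff_mul_eq.mp hsplit
    rw [one_mul] at this
    exact this
  refine ⟨u₁, Subgroup.mem_inf.mpr ⟨hu₁, (mem_fixG _ _).mpr hu₁fix⟩, h₂,
    Subgroup.mem_inf.mpr ⟨hh₂, (mem_fixG _ _).mpr hh₂fix⟩, Ω, hΩ, u,
    Subgroup.mem_inf.mpr ⟨hu', (mem_fixG _ _).mpr hufix.symm⟩, ?_⟩
  rw [← e₂]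

end

end Cfsg.Agent.Lib.Helper3.ChevM
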