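import Mathlib
import Cfsg.Prelude.Def_ChevStructure
import Cfsg.Agent.Lib.Helper3.ChevTw11
set_option autoImplicit false
open Cfsg Cfsg.Lie

/-! The canonical form of the elements of a twisted group, and its (B,N)-pair. -/

namespace Cfsg.Agent.Lib.Helper3.ChevM

open ChevU DoubleCoset

/-- For a proper nonempty part of a class, the product of the reflections is not invariant under the symmetry. -/
def twSubCheck (D : ChevalleyDatum) (refl : ℕ → ℕ → ℕ) (p : ℕ → ℕ) (cls : List (List ℕ)) : Bool :=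
  cls.all fun J => J.sublists.all fun K =>
    decide (K = []) || decide (K = J) ||
      (List.range D.nroots).any fun s => !decide (reflW refl (K.map p) s = reflW refl K s)

theorem twSubCheck_spec {D : ChevalleyDatum} {refl : ℕ → ℕ → ℕ} {p : ℕ → ℕ} {cls : List (List ℕ)}
    (h : twSubCheck D refl p cls = true) (J : List ℕ) (hJ : J ∈ cls) (K : List ℕ) (hK : K.Sublist J)
    (hinv : ∀ s < D.nroots, reflW refl (K.map p) s = reflW refl K s) : K = [] ∨ K = J := by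
  simp only [twSubCheck, List.all_eq_true, List.mem_sublists, Bool.or_eq_true, decide_eq_true_eq,
    List.any_eq_true, List.mem_range, Bool.not_eq_true', decide_eq_false_iff_not] at h
  rcases h J hJ K hK with h1 | ⟨s, hs, hne⟩
  · exact h1
  · exact absurd (hinv s hs) hne

/-- Distinct classes have distinct reflections. -/
def twInjCheck (D : ChevalleyDatum) (refl : ℕ → ℕ → ℕ) (cls : List (List ℕ)) : Bool :=
  cls.all fun J => cls.all fun J' => decide (J = J') ||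
    (List.range D.nroots).any fun s => !decide (reflW refl J s = reflW refl J' s)

theorem twInjCheck_spec {D : ChevalleyDatum} {refl : ℕ → ℕ → ℕ} {cls : List (List ℕ)}
    (h : twInjCheck D refl cls = true) (J : List ℕ) (hJ : J ∈ cls) (J' : List ℕ) (hJ' : J' ∈ cls)
    (heq : ∀ s < D.nroots, reflW refl J s = reflW refl J' s) : J = J' := by
  simp only [twInjCheck, List.all_eq_true, Bool.or_eq_true, decide_eq_true_eq,
    List.any_eq_true, List.mem_range, Bool.not_eq_true', decide_eq_false_iff_not] at h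
  rcases h J hJ J' hJ' with h1 | ⟨s, hs, hne⟩
  · exact h1
  · exact absurd (heq s hs) hne

/-- The reflection of a class makes its fundamental roots negative. -/
def twNegCheck (D : ChevalleyDatum) (refl : ℕ → ℕ → ℕ) (cls : List (List ℕ)) : Bool :=
  cls.all fun J => J.all fun j => decide (D.IsNegRoot (reflW refl J (D.simple j)))

theorem twNegCheck_spec {D : ChevalleyDatum} {refl : ℕ → ℕ → ℕ} {cls : List (List ℕ)}
    (h : twNegCheck D refl cls = true) (J : List ℕ) (hJ : J ∈ cls) (j : ℕ) (hj : j ∈ J) :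
    D.IsNegRoot (reflW refl J (D.simple j)) := by
  simp only [twNegCheck, List.all_eq_true, decide_eq_true_eq] at h
  exact h J hJ j hj

/-- More table checks for a twisted group. -/
structure TwHyp2 (C : CDatum) (R : RelData C) extends TwHyp C R where
  ntri : ∀ r < C.D.nroots, negTri C r = true
  sub : twSubCheck C.D R.refl G.p cls = true
  inj : twInjCheck C.D R.refl cls = true
  pos : ∀ J ∈ cls, clsPosCheck C.D J = true
  negc : twNegCheck C.D R.refl cls = true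

section
variable {F : Type*} [Field F] {C : CDatum} {R : RelData C} (Uh : UHyp C R) (Hy : BNHyp C R)

include Uh Hy in
/-- Two elements of `N` in the same double coset of `B` differ by an element of `H`. -/
theorem UHyp.monomial_coset_unique (b₁ b₂ b₁' b₂' n n' : GL C.D.Idx F)
    (hb₁ : b₁ ∈ C.D.borelSubgroup F) (hb₂ : b₂ ∈ C.D.borelSubgroup F)
    (hb₁' : b₁' ∈ C.D.borelSubgroup F) (hb₂' : b₂' ∈ C.D.borelSubgroup F)
    (hn : n ∈ C.D.monomialSubgroup F) (hn' : n' ∈ C.D.monomialSubgroup F)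
    (e : b₁ * n * b₂ = b₁' * n' * b₂') : n⁻¹ * n' ∈ C.D.diagonalSubgroup F := by
  have hBG : C.D.borelSubgroup F ≤ C.D.group F := (R.borel_sup_monomial Hy.root Hy.nc).1
  have hNG : C.D.monomialSubgroup F ≤ C.D.group F := (R.borel_sup_monomial Hy.root Hy.nc).2.1
  set P := Uh.K.bnPair (F := F) Hy with hP
  have hPB : P.B = (C.D.borelSubgroup F).subgroupOf (C.D.group F) := rfl
  have hPN : P.N = (C.D.monomialSubgroup F).subgroupOf (C.D.group F) := rfl
  have hmem : (⟨n', hNG hn'⟩ : ↥(C.D.group F)) ∈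
      doubleCoset (⟨n, hNG hn⟩ : ↥(C.D.group F)) (P.B : Set ↥(C.D.group F)) P.B := by
    rw [mem_doubleCoset]
    refine ⟨⟨b₁'⁻¹ * b₁, hBG (Subgroup.mul_mem _ (Subgroup.inv_mem _ hb₁') hb₁)⟩, ?_,
      ⟨b₂ * b₂'⁻¹, hBG (Subgroup.mul_mem _ hb₂ (Subgroup.inv_mem _ hb₂'))⟩, ?_, ?_⟩
    · rw [SetLike.mem_coe, hPB, Subgroup.mem_subgroupOf]
      exact Subgroup.mul_mem _ (Subgroup.inv_mem _ hb₁') hb₁
    · rw [SetLike.mem_coe, hPB, Subgroup.mem_subgroupOf]
      exact Subgroup.mul_mem _ hb₂ (Subgroup.inv_mem _ hb₂')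
    · apply Subtype.ext
      show n' = b₁'⁻¹ * b₁ * n * (b₂ * b₂'⁻¹)
      have : b₁'⁻¹ * b₁ * n * (b₂ * b₂'⁻¹) = b₁'⁻¹ * (b₁ * n * b₂) * b₂'⁻¹ := by group
      rw [this, e]; group
  have heq := doubleCoset_eq_of_mem hmem
  have hnP : (⟨n, hNG hn⟩ : ↥(C.D.group F)) ∈ P.N := by
    rw [hPN, Subgroup.mem_subgroupOf]; exact hn
  have hn'P : (⟨n', hNG hn'⟩ : ↥(C.D.group F)) ∈ P.N := by
    rw [hPN, Subgroup.mem_subgroupOf]; exact hn'
  have := (Cfsg.Agent.S0309.result P hnP hn'P).mp heq.symm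
  rw [hPB, Subgroup.mem_subgroupOf] at this
  have hB : n⁻¹ * n' ∈ C.D.borelSubgroup F := this
  have hN : n⁻¹ * n' ∈ C.D.monomialSubgroup F := Subgroup.mul_mem _ (Subgroup.inv_mem _ hn) hn'
  rw [← Hy.mono.borel_inf_monomial]
  exact ⟨hB, hN⟩

include Uh Hy in
/-- The iterated axiom of the (B,N)-pair: `n_J B n ⊆ ⋃_{K ⊆ J} B n_K n B`. -/
theorem UHyp.bn_axiom_word (J : List ℕ) (hJ : ∀ j ∈ J, j < C.D.rank)
    (n : GL C.D.Idx F) (hn : n ∈ C.D.monomialSubgroup F) (b : GL C.D.Idx F) (hb : b ∈ C.D.borelSubgroup F) :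
    ∃ K : List ℕ, K.Sublist J ∧
      R.nWordU (F := F) J * b * n ∈
        doubleCoset (R.nWordU (F := F) K * n) (C.D.borelSubgroup F : Set (GL C.D.Idx F)) (C.D.borelSubgroup F) := by
  induction J with
  | nil =>
    refine ⟨[], List.Sublist.refl _, ?_⟩
    rw [R.nWordU_nil, one_mul, one_mul]
    exact mem_doubleCoset.mpr ⟨b, hb, 1, Subgroup.one_mem _, by rw [mul_one]⟩
  | cons j J ih =>
    have hj : j < C.D.rank := hJ j List.mem_cons_self
    have hJ' : ∀ i ∈ J, i < C.D.rank := fun i hi => hJ i (List.mem_cons_of_mem _ hi)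
    obtain ⟨K, hK, hmem⟩ := ih hJ'
    obtain ⟨b₁, hb₁, b₂, hb₂, e⟩ := mem_doubleCoset.mp hmem
    have hKlt : ∀ i ∈ K, i < C.D.rank := fun i hi => hJ' i (hK.subset hi)
    have hKn : R.nWordU (F := F) K * n ∈ C.D.monomialSubgroup F :=
      Subgroup.mul_mem _ (R.nWordU_mem K hKlt) hn
    have hax := Uh.K.bn_axiom Hy.mono Hy.up Hy.dec Hy.root j hj _ hKn b₁ hb₁
    have e2 : R.nWordU (F := F) (j :: J) * b * n =
        (R.nU (C.D.simple j) (1 : F) * b₁ * (R.nWordU (F := F) K * n)) * b₂ := by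
      rw [R.nWordU_cons, mul_assoc, mul_assoc, ← mul_assoc (R.nWordU J), e]
      group
    rcases hax with hax | hax
    · obtain ⟨c₁, hc₁, c₂, hc₂, e3⟩ := mem_doubleCoset.mp hax
      refine ⟨j :: K, hK.cons_cons j, ?_⟩
      rw [e2, e3, R.nWordU_cons]
      exact mem_doubleCoset.mpr ⟨c₁, hc₁, c₂ * b₂, Subgroup.mul_mem _ hc₂ hb₂, by group⟩
    · obtain ⟨c₁, hc₁, c₂, hc₂, e3⟩ := mem_doubleCoset.mp hax
      refine ⟨K, hK.cons j, ?_⟩
      rw [e2, e3]
      exact mem_doubleCoset.mpr ⟨c₁, hc₁, c₂ * b₂, Subgroup.mul_mem _ hc₂ hb₂, by group⟩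

end

section
variable {K : Type*} [Field K] {C : CDatum} {R : RelData C} (M : MonoHyp C R)

include M in
/-- Conjugating a word of root elements whose roots are made negative. -/
theorem MonoHyp.conj_wordU_mem_neg
    (hdec : ∀ r < C.D.nroots, ∀ s < C.D.nroots, hdecCheck C.D R.pair r s = true)
    (l : List ℕ) (hl : ∀ i ∈ l, i < C.D.rank) (w : List (ℕ × K))
    (hw : ∀ p ∈ w, p.1 < C.D.nroots ∧ C.D.IsNegRoot (reflW R.refl l p.1)) :
    R.nWordU (F := K) l * R.wordU w * (R.nWordU (F := K) l)⁻¹ ∈ C.D.negUnipotent K := by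
  obtain ⟨d, hd⟩ := M.conj_word_xU (F := K) hdec 1 (Subgroup.one_mem _) l hl
  induction w with
  | nil => rw [R.wordU_nil, mul_one, mul_inv_cancel]; exact Subgroup.one_mem _
  | cons p w ih =>
    have e : R.nWordU (F := K) l * R.wordU (p :: w) * (R.nWordU (F := K) l)⁻¹ =
        (R.nWordU (F := K) l * R.xU p.1 p.2 * (R.nWordU (F := K) l)⁻¹) *
          (R.nWordU (F := K) l * R.wordU w * (R.nWordU (F := K) l)⁻¹) := by
      rw [R.wordU_cons]; group
    rw [e]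
    refine Subgroup.mul_mem _ ?_ (ih fun q hq => hw q (List.mem_cons_of_mem _ hq))
    obtain ⟨hp1, hp2⟩ := hw p List.mem_cons_self
    have := (hd p.1 hp1).2 p.2
    rw [one_mul] at this
    rw [this]
    exact Subgroup.subset_closure ⟨_, _, hp2, R.xU_val _ _⟩

end

section
variable {K : Type*} [Field K] [Fintype K] {C : CDatum} {R : RelData C} (H : TwHyp2 C R) (φ : K →+* K)

omit [Fintype K] in
theorem TwHyp2.cls_lt (J : List ℕ) (hJ : J ∈ H.cls) : ∀ j ∈ J, j < C.D.rank :=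
  ((twClsCheck_spec (R := R) H.G H.cls H.clsOk).2 J hJ).1

omit [Fintype K] in
theorem TwHyp2.grp_le_group : H.grp φ ≤ C.D.group K :=
  twGroup_le_group (R := R) φ H.cls (fun J hJ => H.cls_lt J hJ)

/-- The canonical form of the elements of the twisted group. -/
theorem TwHyp2.grp_normal_form (g : GL C.D.Idx K) (hg : g ∈ H.grp φ) :
    ∃ u₁ ∈ C.D.posUnipotent K ⊓ H.grp φ, ∃ h ∈ C.D.diagonalSubgroup K ⊓ H.grp φ,
      ∃ Ω : List (List ℕ), (∀ J ∈ Ω, J ∈ H.cls) ∧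
        ∃ u ∈ uMinus C.D K (R.nCls K Ω) ⊓ H.grp φ, g = u₁ * h * R.nCls K Ω * u := by
  obtain ⟨u₁, hu₁, h, hh, Ω, hΩ, u, hu, e⟩ := H.toTwHyp.fix_normal_form φ H.ntri g (H.grp_le_group φ hg)
    ((mem_fixG _ _).mp (H.toTwHyp.grp_le_fix φ hg))
  have hu₁' : u₁ ∈ C.D.posUnipotent K ⊓ H.grp φ := by
    rw [H.toTwHyp.posUnipotent_inf_grp φ]; exact hu₁
  have hu' : u ∈ H.grp φ := by
    have : u ∈ C.D.posUnipotent K ⊓ fixG (H.sig φ) := ⟨uMinus_le_posUnipotent C.D _ hu.1, hu.2⟩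
    rw [← H.toTwHyp.posUnipotent_inf_grp φ] at this
    exact this.2
  have hn := H.toTwHyp.nCls_mem φ Ω hΩ
  have hh' : h ∈ H.grp φ := by
    have : h = u₁⁻¹ * g * u⁻¹ * (R.nCls K Ω)⁻¹ := by rw [e]; group
    rw [this]
    exact Subgroup.mul_mem _ (Subgroup.mul_mem _ (Subgroup.mul_mem _ (Subgroup.inv_mem _ hu₁'.2) hg)
      (Subgroup.inv_mem _ hu')) (Subgroup.inv_mem _ hn)
  exact ⟨u₁, hu₁', h, ⟨hh.1, hh'⟩, Ω, hΩ, u, ⟨hu.1, hu'⟩, e⟩

/-- The elements of `N` in the twisted group. -/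
theorem TwHyp2.monomial_decomp (n : GL C.D.Idx K) (hn : n ∈ C.D.monomialSubgroup K ⊓ H.grp φ) :
    ∃ Ω : List (List ℕ), (∀ J ∈ Ω, J ∈ H.cls) ∧ ∃ h ∈ C.D.diagonalSubgroup K ⊓ H.grp φ, n = R.nCls K Ω * h := by
  obtain ⟨u₁, hu₁, h, hh, Ω, hΩ, u, hu, e⟩ := H.grp_normal_form φ n hn.2
  have hUB : C.D.posUnipotent K ≤ C.D.borelSubgroup K := le_sup_left
  have hHB : C.D.diagonalSubgroup K ≤ C.D.borelSubgroup K := le_sup_right
  have hnΩ := H.toTwHyp.nCls_mem φ Ω hΩ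
  have key := H.U.monomial_coset_unique (F := K) H.B 1 1 (u₁ * h) u n (R.nCls K Ω) (Subgroup.one_mem _)
    (Subgroup.one_mem _) (Subgroup.mul_mem _ (hUB hu₁.1) (hHB hh.1)) (hUB (uMinus_le_posUnipotent C.D _ hu.1))
    hn.1 (H.toTwHyp.nCls_mem_monomial Ω hΩ) (by rw [one_mul, mul_one]; exact e)
  refine ⟨Ω, hΩ, (n⁻¹ * R.nCls K Ω)⁻¹, ⟨Subgroup.inv_mem _ key, ?_⟩, by group⟩
  exact Subgroup.inv_mem _ (Subgroup.mul_mem _ (Subgroup.inv_mem _ hn.2) hnΩ)

/-- The representatives of the class reflections. -/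
def TwHyp2.reps (H : TwHyp2 C R) (K : Type*) [Field K] : Set (GL C.D.Idx K) :=
  {g | ∃ J ∈ H.cls, g = R.nWordU (F := K) J}

theorem TwHyp2.borel_sup_monomial :
    (C.D.borelSubgroup K ⊓ H.grp φ) ⊔ (C.D.monomialSubgroup K ⊓ H.grp φ) = H.grp φ := by
  apply le_antisymm (sup_le inf_le_right inf_le_right)
  intro g hg
  obtain ⟨u₁, hu₁, h, hh, Ω, hΩ, u, hu, rfl⟩ := H.grp_normal_form φ g hg
  have hUB : C.D.posUnipotent K ≤ C.D.borelSubgroup K := le_sup_left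
  have hHB : C.D.diagonalSubgroup K ≤ C.D.borelSubgroup K := le_sup_right
  refine Subgroup.mul_mem _ (Subgroup.mul_mem _ (Subgroup.mul_mem _ ?_ ?_) ?_) ?_
  · exact Subgroup.mem_sup_left ⟨hUB hu₁.1, hu₁.2⟩
  · exact Subgroup.mem_sup_left ⟨hHB hh.1, hh.2⟩
  · exact Subgroup.mem_sup_right ⟨H.toTwHyp.nCls_mem_monomial Ω hΩ, H.toTwHyp.nCls_mem φ Ω hΩ⟩
  · exact Subgroup.mem_sup_left ⟨hUB (uMinus_le_posUnipotent C.D _ hu.1), hu.2⟩

omit [Fintype K] in
theorem TwHyp2.reps_mem (s : GL C.D.Idx K) (hs : s ∈ H.reps K) :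
    s ∈ C.D.monomialSubgroup K ⊓ H.grp φ := by
  obtain ⟨J, hJ, rfl⟩ := hs
  exact ⟨R.nWordU_mem J (H.cls_lt J hJ), H.U.nWordU_cls_mem H.G φ H.cls H.shape J hJ⟩

omit [Fintype K] in
theorem TwHyp2.reps_sq (s : GL C.D.Idx K) (hs : s ∈ H.reps K) :
    s * s ∈ C.D.diagonalSubgroup K ⊓ H.grp φ := by
  have hsm := H.reps_mem φ s hs
  obtain ⟨J, hJ, rfl⟩ := hs
  refine ⟨?_, Subgroup.mul_mem _ hsm.2 hsm.2⟩
  have hJlt := H.cls_lt J hJ
  have hJJ : ∀ i ∈ J ++ J, i < C.D.rank := by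
    intro i hi
    rcases List.mem_append.mp hi with h | h <;> exact hJlt i h
  obtain ⟨-, -, -, -, -, hsq⟩ := (twClsCheck_spec (R := R) H.G H.cls H.clsOk).2 J hJ
  obtain ⟨h', hh', e⟩ := H.B.mono.coset_of_reflW_eq (F := K) H.B.dec (J ++ J) [] hJJ (by simp)
    (fun s hs => by rw [hsq s hs]; rfl)
  rw [← R.nWordU_append, e, R.nWordU_nil, mul_one]
  exact hh'

omit [Fintype K] in
theorem TwHyp2.reps_inj (s : GL C.D.Idx K) (hs : s ∈ H.reps K) (s' : GL C.D.Idx K) (hs' : s' ∈ H.reps K)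
    (h : s⁻¹ * s' ∈ C.D.borelSubgroup K) : s = s' := by
  obtain ⟨J, hJ, rfl⟩ := hs
  obtain ⟨J', hJ', rfl⟩ := hs'
  have hsm : R.nWordU (F := K) J ∈ C.D.monomialSubgroup K := R.nWordU_mem J (H.cls_lt J hJ)
  have hsm' : R.nWordU (F := K) J' ∈ C.D.monomialSubgroup K := R.nWordU_mem J' (H.cls_lt J' hJ')
  have hH : (R.nWordU (F := K) J)⁻¹ * R.nWordU J' ∈ C.D.diagonalSubgroup K := by
    rw [← H.B.mono.borel_inf_monomial]
    exact ⟨h, Subgroup.mul_mem _ (Subgroup.inv_mem _ hsm) hsm'⟩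
  have hH2 := H.B.mono.conj_mem _ hsm _ hH
  have := R.reflW_eq_of_coset (F := K) H.B.dec J' J (H.cls_lt J' hJ') (H.cls_lt J hJ) _ hH2 (by group)
  have hJJ' : J' = J := twInjCheck_spec H.inj J' hJ' J hJ this
  rw [hJJ']

theorem TwHyp2.closure_reps_sup :
    Subgroup.closure (H.reps K) ⊔ ((C.D.borelSubgroup K ⊓ H.grp φ) ⊓ (C.D.monomialSubgroup K ⊓ H.grp φ)) =
      C.D.monomialSubgroup K ⊓ H.grp φ := by
  apply le_antisymm
  · refine sup_le ?_ inf_le_right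
    rw [Subgroup.closure_le]
    exact fun s hs => H.reps_mem φ s hs
  · intro n hn
    obtain ⟨Ω, hΩ, h, hh, rfl⟩ := H.monomial_decomp φ n hn
    have hHB : C.D.diagonalSubgroup K ≤ C.D.borelSubgroup K := le_sup_right
    have hHN : C.D.diagonalSubgroup K ≤ C.D.monomialSubgroup K := le_sup_left
    refine Subgroup.mul_mem _ (Subgroup.mem_sup_left ?_) (Subgroup.mem_sup_right ⟨⟨hHB hh.1, hh.2⟩, hHN hh.1, hh.2⟩)
    clear hn
    induction Ω with
    | nil => exact Subgroup.one_mem _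
    | cons J Ω ih =>
      unfold RelData.nCls
      rw [List.flatten_cons, R.nWordU_append]
      exact Subgroup.mul_mem _ (Subgroup.subset_closure ⟨J, hΩ J List.mem_cons_self, rfl⟩)
        (ih fun X hX => hΩ X (List.mem_cons_of_mem _ hX))

/-- The axiom `s B n ⊆ B s n B ∪ B n B` in the twisted group. -/
theorem TwHyp2.bn_axiom (s : GL C.D.Idx K) (hs : s ∈ H.reps K) (n : GL C.D.Idx K)
    (hn : n ∈ C.D.monomialSubgroup K ⊓ H.grp φ) (b : GL C.D.Idx K) (hb : b ∈ C.D.borelSubgroup K ⊓ H.grp φ) :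
    s * b * n ∈ doubleCoset (s * n) ((C.D.borelSubgroup K ⊓ H.grp φ : Subgroup _) : Set (GL C.D.Idx K))
        (C.D.borelSubgroup K ⊓ H.grp φ : Subgroup _) ∪
      doubleCoset n ((C.D.borelSubgroup K ⊓ H.grp φ : Subgroup _) : Set (GL C.D.Idx K))
        (C.D.borelSubgroup K ⊓ H.grp φ : Subgroup _) := by
  have hsm := H.reps_mem φ s hs
  obtain ⟨J, hJ, rfl⟩ := hs
  have hJlt := H.cls_lt J hJ
  have hUB : C.D.posUnipotent K ≤ C.D.borelSubgroup K := le_sup_left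
  have hHB : C.D.diagonalSubgroup K ≤ C.D.borelSubgroup K := le_sup_right
  have M := H.B.mono
  have hg : R.nWordU (F := K) J * b * n ∈ H.grp φ := Subgroup.mul_mem _ (Subgroup.mul_mem _ hsm.2 hb.2) hn.2
  obtain ⟨u₁, hu₁, h, hh, Ω, hΩ, u, hu, e⟩ := H.grp_normal_form φ _ hg
  obtain ⟨L, hL, hmem⟩ := H.U.bn_axiom_word (F := K) H.B J hJlt n hn.1 b hb.1
  obtain ⟨b₁, hb₁, b₂, hb₂, e2⟩ := mem_doubleCoset.mp hmem
  have hLlt : ∀ i ∈ L, i < C.D.rank := fun i hi => hJlt i (hL.subset hi)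
  have hLN : R.nWordU (F := K) L ∈ C.D.monomialSubgroup K := R.nWordU_mem L hLlt
  have hΩN := H.toTwHyp.nCls_mem_monomial (K := K) Ω hΩ
  have hΩG := H.toTwHyp.nCls_mem φ Ω hΩ
  set nΩ := R.nCls K Ω with hnΩ
  -- the two decompositions give the same coset
  have key := H.U.monomial_coset_unique (F := K) H.B b₁ b₂ (u₁ * h) u (R.nWordU L * n) nΩ hb₁ hb₂
    (Subgroup.mul_mem _ (hUB hu₁.1) (hHB hh.1)) (hUB (uMinus_le_posUnipotent C.D _ hu.1))
    (Subgroup.mul_mem _ hLN hn.1) hΩN (by rw [← e2, e])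
  set h' := (R.nWordU (F := K) L * n)⁻¹ * nΩ with hh'
  -- apply the automorphism
  have hσn : H.sig φ n = n := (mem_fixG _ _).mp (H.toTwHyp.grp_le_fix φ hn.2)
  have hσΩ : H.sig φ nΩ = nΩ := (mem_fixG _ _).mp (H.toTwHyp.grp_le_fix φ hΩG)
  have hσL : H.sig φ (R.nWordU (F := K) L) = R.nWordU (L.map H.G.p) :=
    H.G.sig_nWordU (R := R) φ H.tab H.rf H.toTwHyp.eps_simple L hLlt
  have hσh' : H.sig φ h' = (R.nWordU (F := K) (L.map H.G.p) * n)⁻¹ * nΩ := by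
    rw [hh', map_mul, map_inv, map_mul, hσn, hσΩ, hσL]
  have hσh'H : H.sig φ h' ∈ C.D.diagonalSubgroup K := H.G.sig_mem_diagonal φ R H.tab key
  have hLp := map_p_lt (R := R) H.G H.rf L hLlt
  have hinv : ∀ s < C.D.nroots, reflW R.refl (L.map H.G.p) s = reflW R.refl L s := by
    refine R.reflW_eq_of_coset (F := K) H.B.dec _ _ hLp hLlt (nΩ * ((H.sig φ h')⁻¹ * h') * nΩ⁻¹) ?_ ?_
    · exact M.conj_mem _ hΩN _ (Subgroup.mul_mem _ (Subgroup.inv_mem _ hσh'H) key)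
    · rw [hσh', hh']; group
  rcases twSubCheck_spec H.sub J hJ L hL hinv with hL0 | hLJ
  · right
    subst hL0
    rw [R.nWordU_nil, one_mul] at hh'
    have hh'G : h' ∈ H.grp φ := by rw [hh']; exact Subgroup.mul_mem _ (Subgroup.inv_mem _ hn.2) hΩG
    refine mem_doubleCoset.mpr ⟨u₁ * h, ⟨Subgroup.mul_mem _ (hUB hu₁.1) (hHB hh.1), Subgroup.mul_mem _ hu₁.2 hh.2⟩,
      h' * u, ⟨Subgroup.mul_mem _ (hHB key) (hUB (uMinus_le_posUnipotent C.D _ hu.1)),
        Subgroup.mul_mem _ hh'G hu.2⟩, ?_⟩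
    rw [e, hh']; group
  · left
    subst hLJ
    have hh'G : h' ∈ H.grp φ := by
      rw [hh']; exact Subgroup.mul_mem _ (Subgroup.inv_mem _ (Subgroup.mul_mem _ hsm.2 hn.2)) hΩG
    refine mem_doubleCoset.mpr ⟨u₁ * h, ⟨Subgroup.mul_mem _ (hUB hu₁.1) (hHB hh.1), Subgroup.mul_mem _ hu₁.2 hh.2⟩,
      h' * u, ⟨Subgroup.mul_mem _ (hHB key) (hUB (uMinus_le_posUnipotent C.D _ hu.1)),
        Subgroup.mul_mem _ hh'G hu.2⟩, ?_⟩
    rw [e, hh']; group

end

end Cfsg.Agent.Lib.Helper3.ChevM
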