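import Mathlib
import Cfsg.Prelude.Def_ChevStructure
import Cfsg.Agent.Lib.Helper3.ChevTw12
set_option autoImplicit false
open Cfsg Cfsg.Lie

/-! The (B,N)-pair of a twisted group. -/

namespace Cfsg.Agent.Lib.Helper3.ChevM

open ChevU DoubleCoset

section
variable {K : Type*} [Field K] {C : CDatum} {R : RelData C} (φ : K →+* K)

theorem clsWord_one_eq_lp (J : List ℕ) :
    R.wordU (clsWord C.D φ J false (1 : K)) = R.lp (J.map C.D.simple) (fun _ => 1) := by
  simp only [clsWord, RelData.wordU, RelData.lp, RootSys.lprod, List.map_map]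
  congr 1
  have h1 : ∀ k : ℕ, φ^[k] (1 : K) = 1 := fun k => Function.iterate_fixed (map_one φ) k
  have : (fun p : ℕ × ℕ => R.xU (sgnRoot C.D false p.1) (φ^[p.2] (1 : K))) =
      (fun j => R.xU (C.D.simple j) (1 : K)) ∘ Prod.fst := by
    funext p
    simp [sgnRoot, h1]
  show List.map (fun p : ℕ × ℕ => R.xU (sgnRoot C.D false p.1) (φ^[p.2] (1 : K))) J.zipIdx = _
  rw [this, ← List.map_map, List.zipIdx_map_fst]
  rfl

theorem mem_clsWord (J : List ℕ) (neg : Bool) (t : K) (p : ℕ × K) (hp : p ∈ clsWord C.D φ J neg t) :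
    ∃ j ∈ J, p.1 = sgnRoot C.D neg j := by
  simp only [clsWord, List.mem_map] at hp
  obtain ⟨⟨j, k⟩, hjk, rfl⟩ := hp
  have hj : j ∈ J := (List.mem_zipIdx hjk).2.2 ▸ List.getElem_mem _
  exact ⟨j, hj, rfl⟩

end

section
variable {K : Type*} [Field K] [Fintype K] {C : CDatum} {R : RelData C} (H : TwHyp2 C R) (φ : K →+* K)

omit [Fintype K] in
/-- The root subgroups of a class commute. -/
theorem TwHyp2.cls_comm (J : List ℕ) (hJ : J ∈ H.cls) :
    ∀ r ∈ J.map C.D.simple, ∀ s ∈ J.map C.D.simple, ∀ x y : K,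
      R.xU r x * R.xU s y = R.xU s y * R.xU r x := by
  have hJs := H.shape J hJ
  simp only [clsShapeCheck, Bool.and_eq_true, List.all_eq_true, decide_eq_true_eq, Bool.or_eq_true] at hJs
  obtain ⟨hall, -⟩ := hJs
  intro r hr s hs x y
  obtain ⟨a, ha, rfl⟩ := List.mem_map.mp hr
  obtain ⟨b, hb, rfl⟩ := List.mem_map.mp hs
  by_cases hab : a = b
  · subst hab; rw [R.xU_add, R.xU_add, add_comm]
  · have := H.U.K.xU_comm_sgn (K := K) false false a b (hall a ha).1.1 (hall b hb).1.1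
      (((hall a ha).2 b hb).resolve_left hab) x y
    simpa [sgnRoot] using this.eq

omit [Fintype K] in
theorem TwHyp2.cls_pos (J : List ℕ) (hJ : J ∈ H.cls) :
    (J.map C.D.simple).Nodup ∧ ∀ r ∈ J.map C.D.simple, C.D.IsPosRoot r := by
  have hpos := H.pos J hJ
  simp only [clsPosCheck, Bool.and_eq_true, List.all_eq_true, decide_eq_true_eq] at hpos
  refine ⟨hpos.1, ?_⟩
  intro r hr
  obtain ⟨a, ha, rfl⟩ := List.mem_map.mp hr
  exact hpos.2 a ha

omit [Fintype K] in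
theorem TwHyp2.cls_ne_nil (J : List ℕ) (hJ : J ∈ H.cls) : ∃ a, a ∈ J := by
  rcases clsShape_cases H.G (H.shape J hJ) with ⟨a, rfl, -⟩ | ⟨a, b, rfl, -, -⟩ | ⟨a, b, c, rfl, -, -, -⟩
  · exact ⟨a, by simp⟩
  · exact ⟨a, by simp⟩
  · exact ⟨a, by simp⟩

omit [Fintype K] in
/-- The axiom `s B s ≠ B` in the twisted group. -/
theorem TwHyp2.reps_conj_ne (s : GL C.D.Idx K) (hs : s ∈ H.reps K) :
    (fun b : GL C.D.Idx K => s * b * s) '' ((C.D.borelSubgroup K ⊓ H.grp φ : Subgroup _) : Set (GL C.D.Idx K)) ≠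
      ((C.D.borelSubgroup K ⊓ H.grp φ : Subgroup _) : Set (GL C.D.Idx K)) := by
  intro heq
  have hsm := H.reps_mem φ s hs
  have hsq := H.reps_sq φ s hs
  obtain ⟨J, hJ, rfl⟩ := hs
  have M := H.B.mono
  have hJlt := H.cls_lt J hJ
  have hUB : C.D.posUnipotent K ≤ C.D.borelSubgroup K := le_sup_left
  have hHB : C.D.diagonalSubgroup K ≤ C.D.borelSubgroup K := le_sup_right
  set b := R.wordU (clsWord C.D φ J false (1 : K)) with hb
  have hblp : b = R.lp (J.map C.D.simple) (fun _ => 1) := clsWord_one_eq_lp φ J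
  obtain ⟨hnd, hposL⟩ := H.cls_pos J hJ
  have hbU : b ∈ C.D.posUnipotent K := by rw [hblp]; exact H.U.lp_mem _ hposL _
  have hbG : b ∈ H.grp φ :=
    Subgroup.subset_closure ⟨J, hJ, false, 1, Function.iterate_fixed (map_one φ) _, rfl⟩
  have hmem : R.nWordU (F := K) J * b * R.nWordU J ∈ (C.D.borelSubgroup K ⊓ H.grp φ : Subgroup _) := by
    rw [← SetLike.mem_coe, ← heq]
    exact ⟨b, ⟨hUB hbU, hbG⟩, rfl⟩
  have h1 : R.nWordU (F := K) J * b * (R.nWordU (F := K) J)⁻¹ ∈ C.D.borelSubgroup K := by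
    have : R.nWordU (F := K) J * b * (R.nWordU (F := K) J)⁻¹ =
        (R.nWordU (F := K) J * b * R.nWordU J) * (R.nWordU (F := K) J * R.nWordU J)⁻¹ := by group
    rw [this]
    exact Subgroup.mul_mem _ hmem.1 (Subgroup.inv_mem _ (hHB hsq.1))
  have h2 : R.nWordU (F := K) J * b * (R.nWordU (F := K) J)⁻¹ ∈ C.D.negUnipotent K := by
    apply M.conj_wordU_mem_neg H.B.dec J hJlt
    intro p hp
    obtain ⟨j, hj, hpj⟩ := mem_clsWord φ J false 1 p hp
    have hpj' : p.1 = C.D.simple j := by rw [hpj]; simp [sgnRoot]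
    rw [hpj']
    exact ⟨R.simple_lt j (hJlt j hj), twNegCheck_spec H.negc J hJ j hj⟩
  have h3 : R.nWordU (F := K) J * b * (R.nWordU (F := K) J)⁻¹ = 1 := by
    have h4 : R.nWordU (F := K) J * b * (R.nWordU (F := K) J)⁻¹ ∈ C.D.borelSubgroup K ⊓ C.D.negUnipotent K :=
      ⟨h1, h2⟩
    rw [(R.borel_inf_neg (F := K) H.B.dec M.tri H.ntri).1, Subgroup.mem_bot] at h4
    exact h4
  have hb1 : b = 1 := by
    have : b = (R.nWordU (F := K) J)⁻¹ * (R.nWordU (F := K) J * b * (R.nWordU (F := K) J)⁻¹) * R.nWordU J := by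
      group
    rw [this, h3]; group
  have hinj := H.U.lp_inj_comm (K := K) (J.map C.D.simple) hnd hposL (H.cls_comm J hJ) (fun _ => 1) (fun _ => 0)
    (by rw [← hblp, hb1, R.lp_zero])
  obtain ⟨a, ha⟩ := H.cls_ne_nil J hJ
  have := hinj (C.D.simple a) (List.mem_map_of_mem ha)
  exact one_ne_zero this

/-- The (B,N)-pair of the twisted group. -/
def TwHyp2.bnPair : BNPair ↥(H.grp φ) :=
  bnOfSubgroup (H.grp φ) (C.D.borelSubgroup K ⊓ H.grp φ) (C.D.monomialSubgroup K ⊓ H.grp φ) (H.reps K)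
    inf_le_right inf_le_right (H.borel_sup_monomial φ)
    (by
      intro n hn t ht
      have htH : t ∈ C.D.diagonalSubgroup K := by
        rw [← H.B.mono.borel_inf_monomial]
        exact ⟨ht.1.1, ht.2.1⟩
      exact ⟨Subgroup.mem_sup_right (H.B.mono.conj_mem n hn.1 t htH),
        Subgroup.mul_mem _ (Subgroup.mul_mem _ hn.2 ht.1.2) (Subgroup.inv_mem _ hn.2)⟩)
    (fun s hs => H.reps_mem φ s hs)
    (fun s hs => ⟨Subgroup.mem_sup_right (H.reps_sq φ s hs).1, (H.reps_sq φ s hs).2⟩)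
    (fun s hs s' hs' h => H.reps_inj s hs s' hs' h.1)
    (H.closure_reps_sup φ) (H.bn_axiom φ) (H.reps_conj_ne φ)

theorem TwHyp2.bnPair_B :
    (H.bnPair φ).B = (C.D.borelSubgroup K ⊓ H.grp φ).subgroupOf (H.grp φ) := rfl

theorem TwHyp2.bnPair_N :
    (H.bnPair φ).N = (C.D.monomialSubgroup K ⊓ H.grp φ).subgroupOf (H.grp φ) := rfl

end

end Cfsg.Agent.Lib.Helper3.ChevM
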