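import Mathlib
import Cfsg.Prelude.Def_ChevStructure
import Cfsg.Agent.Lib.Helper3.ChevTw13
import Cfsg.Agent.Lib.Helper3.ChevH2
import Cfsg.Agent.Lib.Helper3.ChevW1
set_option autoImplicit false
open Cfsg Cfsg.Lie

/-! The core of `B¹` in a twisted group is trivial. -/

namespace Cfsg.Agent.Lib.Helper3.ChevM

open ChevU ChevT ChevH DoubleCoset

section
variable {F : Type*} [Field F] {C : CDatum} (R : RelData C)

include R in
/-- The representative of a word mapping the positive roots onto the negative roots conjugates `U` onto `V`. -/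
theorem RelData.opposition_word (l l' : List ℕ) (hl : ∀ i ∈ l, i < C.D.rank)
    (hopp : ∀ s < C.D.nroots, oppCheck C.D R.refl l l' s = true) :
    (C.D.posUnipotent F).map (MulAut.conj (R.nWordU (F := F) l)).toMonoidHom = C.D.negUnipotent F := by
  have hrel := R.conjRel_word (F := F) l hl
  have hconj := fun k hk t => R.conj_units hrel (R.nWordU l) (R.nWordU_val l) k hk t
  unfold ChevalleyDatum.posUnipotent ChevalleyDatum.negUnipotent
  rw [MonoidHom.map_closure]
  congr 1
  ext g
  constructor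
  · rintro ⟨u, ⟨s, t, hs, hu⟩, rfl⟩
    have hu' : u = R.xU s t := Units.ext hu
    have hc := hopp s hs.1
    simp only [oppCheck, Bool.and_eq_true, Bool.or_eq_true, Bool.not_eq_true', decide_eq_true_eq,
      decide_eq_false_iff_not] at hc
    have hneg : C.D.IsNegRoot (reflW R.refl l s) := by
      rcases hc.1 with h | h
      · exact absurd hs h
      · exact h
    refine ⟨reflW R.refl l s, (etaW R.refl R.eta l s : F) * t, hneg, ?_⟩
    show ((R.nWordU l * u * (R.nWordU l)⁻¹ : GL C.D.Idx F) : Matrix C.D.Idx C.D.Idx F) = _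
    rw [hu', hconj s hs.1 t]
    rfl
  · rintro ⟨r, t, hr, hg⟩
    have hc := hopp r hr.1
    simp only [oppCheck, Bool.and_eq_true, Bool.or_eq_true, Bool.not_eq_true', decide_eq_true_eq,
      decide_eq_false_iff_not] at hc
    obtain ⟨hpos, hback⟩ : C.D.IsPosRoot (reflW R.refl l' r) ∧ reflW R.refl l (reflW R.refl l' r) = r := by
      rcases hc.2 with h | h
      · exact absurd hr h
      · exact h
    set s := reflW R.refl l' r with hs
    refine ⟨R.xU s ((etaW R.refl R.eta l s : F) * t), ⟨s, _, hpos, rfl⟩, ?_⟩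
    show R.nWordU l * R.xU s ((etaW R.refl R.eta l s : F) * t) * (R.nWordU l)⁻¹ = g
    rw [hconj s hpos.1, hback]
    apply Units.ext
    rw [hg, R.xU_val, ← mul_assoc, eta_sq (hrel.sign s hpos.1), one_mul]

include R in
/-- Conjugating a product of root elements by a diagonal element. -/
theorem RelData.diag_mul_lp (x : GL C.D.Idx F) (χ : ℕ → F)
    (key : ∀ s < C.D.nroots, ∀ t : F, (x : Matrix C.D.Idx C.D.Idx F) * C.D.x F s t =
      C.D.x F s (χ s * t) * (x : Matrix C.D.Idx C.D.Idx F))
    (L : List ℕ) (hL : ∀ r ∈ L, r < C.D.nroots) (t : ℕ → F) :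
    x * R.lp L t = R.lp L (fun r => χ r * t r) * x := by
  induction L with
  | nil => simp [RelData.lp_nil]
  | cons r L ih =>
    have hr := hL r List.mem_cons_self
    have e1 : x * R.xU r (t r) = R.xU r (χ r * t r) * x := by
      apply Units.ext
      rw [Units.val_mul, Units.val_mul, R.xU_val, R.xU_val, key r hr]
    rw [R.lp_cons, R.lp_cons, ← mul_assoc, e1, mul_assoc, ih fun s hs => hL s (List.mem_cons_of_mem _ hs),
      mul_assoc]

end

/-- Still more table checks for a twisted group: a word in the classes for the opposition, and the coordinates of the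
roots. -/
structure TwHyp3 (C : CDatum) (R : RelData C) extends TwHyp2 C R where
  w0 : List (List ℕ)
  w0cls : ∀ J ∈ w0, J ∈ cls
  opp : ∀ s < C.D.nroots, oppCheck C.D R.refl w0.flatten w0.flatten s = true
  vec : ℕ → ℕ → ℤ
  hvec : ∀ i < C.D.rank, ∀ s < C.D.nroots, vecCheck C.D vec i s = true

section
variable {K : Type*} [Field K] [Fintype K] {C : CDatum} {R : RelData C} (H : TwHyp3 C R) (φ : K →+* K)

omit [Fintype K] in
/-- The representative of the opposition in the twisted group. -/
theorem TwHyp3.w0_spec :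
    R.nCls K H.w0 ∈ C.D.monomialSubgroup K ⊓ H.grp φ ∧
      (C.D.posUnipotent K).map (MulAut.conj (R.nCls K H.w0)).toMonoidHom = C.D.negUnipotent K :=
  ⟨⟨H.toTwHyp.nCls_mem_monomial H.w0 H.w0cls, H.toTwHyp.nCls_mem φ H.w0 H.w0cls⟩,
    R.opposition_word (F := K) _ _ (H.toTwHyp.flatten_lt H.w0 H.w0cls) H.opp⟩

omit [Fintype K] in
/-- An element of the core of `B¹` is trivial. -/
theorem TwHyp3.core_trivial :
    ((C.D.borelSubgroup K ⊓ H.grp φ).subgroupOf (H.grp φ)).normalCore = ⊥ := by
  rw [eq_bot_iff]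
  intro k hk
  rw [Subgroup.mem_bot]
  set x : GL C.D.Idx K := (k : GL C.D.Idx K) with hx
  have M := H.B.mono
  have hdec := H.B.dec
  have hconj : ∀ g : GL C.D.Idx K, g ∈ H.grp φ → g * x * g⁻¹ ∈ C.D.borelSubgroup K := by
    intro g hg
    have := hk ⟨g, hg⟩
    simpa [Subgroup.mem_subgroupOf] using this
  obtain ⟨⟨hn0, hn0G⟩, hmap⟩ := H.w0_spec φ
  set n0 := R.nCls K H.w0 with hn0def
  have hNH : C.D.monomialSubgroup K ≤ Subgroup.normalizer (C.D.diagonalSubgroup K : Set (GL C.D.Idx K)) :=
    (Subgroup.normal_subgroupOf_iff_le_normalizer le_sup_left).mp (R.diagonal_normal_monomial M.nr M.rw M.rwc)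
  obtain ⟨hHU, hdisj⟩ := R.diagonal_normalizes (F := K) hdec M.tri
  have hBset := Subgroup.coe_mul_of_right_le_normalizer_left (C.D.posUnipotent K) (C.D.diagonalSubgroup K) hHU
  have hBV := (R.borel_inf_neg (F := K) hdec M.tri H.ntri).2
  -- all conjugates lie in `H`
  have hA : ∀ g : GL C.D.Idx K, g ∈ H.grp φ → g * x * g⁻¹ ∈ C.D.diagonalSubgroup K := by
    intro g hg
    rw [← hBV]
    refine ⟨hconj g hg, ?_⟩
    have hz := hconj (n0⁻¹ * g) (Subgroup.mul_mem _ (Subgroup.inv_mem _ hn0G) hg)
    have hz' : (n0⁻¹ * g) * x * (n0⁻¹ * g)⁻¹ ∈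
        ((C.D.posUnipotent K ⊔ C.D.diagonalSubgroup K : Subgroup (GL C.D.Idx K)) : Set (GL C.D.Idx K)) := hz
    rw [hBset, Set.mem_mul] at hz'
    obtain ⟨u, hu, h, hh, huh⟩ := hz'
    have e : g * x * g⁻¹ = (n0 * u * n0⁻¹) * (n0 * h * n0⁻¹) := by
      have : n0 * u * n0⁻¹ * (n0 * h * n0⁻¹) = n0 * (u * h) * n0⁻¹ := by group
      rw [this, huh]; group
    rw [e]
    apply Subgroup.mul_mem
    · apply Subgroup.mem_sup_left
      rw [← hmap]
      exact ⟨u, hu, rfl⟩
    · apply Subgroup.mem_sup_right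
      exact (Subgroup.mem_normalizer_iff.mp (hNH hn0) h).mp hh
  have hxH : x ∈ C.D.diagonalSubgroup K := by
    have := hA 1 (Subgroup.one_mem _)
    simpa using this
  obtain ⟨c, hc, hxd, key⟩ := R.diagonal_mul_x hdec x hxH
  set χ : ℕ → K := fun s => ((List.range C.D.rank).map fun i => c i ^ C.D.cartan i s).prod with hχ
  -- the characters of the fundamental roots are trivial
  have hsimple : ∀ j < C.D.rank, χ (C.D.simple j) = 1 := by
    intro j hj
    obtain ⟨J, hJ, hjJ⟩ := (twClsCheck_spec (R := R) H.G H.cls H.clsOk).1 j hj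
    set L := J.map C.D.simple with hL
    obtain ⟨hnd, hposL⟩ := H.cls_pos J hJ
    have hLlt : ∀ r ∈ L, r < C.D.nroots := fun r hr => (hposL r hr).1
    set g := R.lp L (fun _ => (1 : K)) with hg
    have hgU : g ∈ C.D.posUnipotent K := H.U.lp_mem _ hposL _
    have hgG : g ∈ H.grp φ := by
      rw [hg, ← clsWord_one_eq_lp φ J]
      exact Subgroup.subset_closure ⟨J, hJ, false, 1, Function.iterate_fixed (map_one φ) _, rfl⟩
    have h1 := hA g hgG
    have h2 : x⁻¹ * g * x ∈ C.D.posUnipotent K := by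
      have := (Subgroup.mem_normalizer_iff.mp (hHU (Subgroup.inv_mem _ hxH)) g).mp hgU
      rwa [inv_inv] at this
    have h3 : x⁻¹ * g * x * g⁻¹ ∈ C.D.posUnipotent K ⊓ C.D.diagonalSubgroup K := by
      refine ⟨Subgroup.mul_mem _ h2 (Subgroup.inv_mem _ hgU), ?_⟩
      have : x⁻¹ * g * x * g⁻¹ = x⁻¹ * (g * x * g⁻¹) := by group
      rw [this]
      exact Subgroup.mul_mem _ (Subgroup.inv_mem _ hxH) h1
    rw [hdisj, Subgroup.mem_bot] at h3
    have h4 : x * g = g * x := by
      have : x * g = x * (x⁻¹ * g * x * g⁻¹) * g := by rw [h3, mul_one]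
      rw [this]; group
    have h5 := R.diag_mul_lp (F := K) x χ key L hLlt (fun _ => 1)
    rw [← hg, h4] at h5
    have h6 : R.lp L (fun _ => (1 : K)) = R.lp L (fun r => χ r * 1) := mul_right_cancel h5
    have := H.U.lp_inj_comm (K := K) L hnd hposL (H.cls_comm J hJ) _ _ h6 (C.D.simple j)
      (List.mem_map_of_mem hjJ)
    rw [mul_one] at this
    exact this.symm
  -- hence all the characters are trivial
  have hchi : ∀ s < C.D.nroots, χ s = 1 := by
    intro s hs
    let c' : Fin C.D.rank → Kˣ := fun i => Units.mk0 (c i.val) (hc i.val i.isLt)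
    have hker : c' ∈ (pw (cartanMat C.D) : (Fin C.D.rank → Kˣ) →* (Fin C.D.rank → Kˣ)).ker := by
      rw [MonoidHom.mem_ker]
      funext j
      apply Units.ext
      have := hsimple j.val j.isLt
      simp only [hχ, list_range_prod_eq] at this
      simp only [pw, cartanMat, MonoidHom.coe_mk, OneHom.coe_mk, Matrix.of_apply, Pi.one_apply, Units.val_one,
        Units.coe_prod, Units.val_zpow_eq_zpow_val, c', Units.val_mk0]
      exact this
    rw [← R.ker_rootChar (F := K) H.vec H.hvec, MonoidHom.mem_ker] at hker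
    have := congrFun hker ⟨s, hs⟩
    have h2 := congrArg Units.val this
    simp only [rootChar, MonoidHom.coe_mk, OneHom.coe_mk, Pi.one_apply, Units.val_one, Units.coe_prod,
      Units.val_zpow_eq_zpow_val, c', Units.val_mk0] at h2
    simp only [hχ, list_range_prod_eq]
    exact h2
  have hx1 : x = 1 := by
    apply Units.ext
    rw [hxd, Units.val_one, ← Matrix.diagonal_one]
    congr 1
    funext j
    rcases j with j | s
    · exact R.torusExp_inl c j
    · rw [R.torusExp_inr]; exact hchi s.val s.isLt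
  exact Subtype.ext hx1

end

end Cfsg.Agent.Lib.Helper3.ChevM
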