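import Mathlib
import Cfsg.Prelude.Def_ChevStructure
import Cfsg.Prelude.Def_ChevF4
import Cfsg.Prelude.Def_LieTwisted
import Cfsg.Agent.Lib.Helper3.F4T8
import Cfsg.Agent.Lib.Helper3.ChevTw14
set_option autoImplicit false
set_option linter.unusedSectionVars false
set_option linter.style.haveILetI false
open Cfsg Cfsg.Lie

/-!
The core of `B¹` in the twisted group of type `F₄` is trivial.
-/

namespace Cfsg.Agent.Lib.Helper3.RF4

open Cfsg.Agent.Lib.Helper3.ChevM Cfsg.Agent.Lib.Helper3.ChevSp Cfsg.Agent.Lib.Helper3.ChevAt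
open Cfsg.Agent.Lib.Helper3 ChevU

theorem f4_opp8 : ∀ s < cdF4.D.nroots, oppCheck cdF4.D relF4.refl (altWord 8) (altWord 8) s = true := by
  decide +kernel

section
variable {K : Type*} [Field K]

theorem char_trivial (c0 c1 c2 c3 : K) (h0 : c0 ≠ 0) (h1 : c1 ≠ 0) (h2 : c2 ≠ 0) (h3 : c3 ≠ 0)
    (e33 : c0 ^ 2 * c1⁻¹ = 1) (e27 : c0⁻¹ * c1 ^ 2 * c2⁻¹ = 1) (e25 : (c1 ^ 2)⁻¹ * c2 ^ 2 * c3⁻¹ = 1)
    (e24 : c2⁻¹ * c3 ^ 2 = 1) : c0 = 1 ∧ c1 = 1 ∧ c2 = 1 ∧ c3 = 1 := by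
  have a1 : c0 ^ 2 = c1 := (mul_inv_eq_one₀ h1).mp e33
  subst a1
  have a2 : c0⁻¹ * (c0 ^ 2) ^ 2 = c2 := (mul_inv_eq_one₀ h2).mp e27
  have a2' : c2 = c0 ^ 3 := by
    rw [← a2]
    field_simp
  subst a2'
  have a3 : ((c0 ^ 2) ^ 2)⁻¹ * (c0 ^ 3) ^ 2 = c3 := (mul_inv_eq_one₀ h3).mp e25
  have a3' : c3 = c0 ^ 2 := by
    rw [← a3]
    field_simp
  subst a3'
  have a4 : c0 ^ 3 = (c0 ^ 2) ^ 2 := (inv_mul_eq_one₀ h2).mp e24
  have a5 : c0 = 1 := by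
    have : c0 ^ 3 * c0 = c0 ^ 3 * 1 := by
      calc c0 ^ 3 * c0 = (c0 ^ 2) ^ 2 := by ring
        _ = c0 ^ 3 := a4.symm
        _ = c0 ^ 3 * 1 := (mul_one _).symm
    exact mul_left_cancel₀ (pow_ne_zero 3 h0) this
  subst a5
  simp

theorem xU_mem_pos (r : ℕ) (hr : cdF4.D.IsPosRoot r) (t : K) : relF4.xU r t ∈ cdF4.D.posUnipotent K :=
  Subgroup.subset_closure ⟨r, t, hr, relF4.xU_val r t⟩

end

section
variable {K : Type*} [Field K] [Fintype K] [CharP K 2]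

/-- a normal subgroup of the twisted group contained in the Borel subgroup is trivial -/
theorem core_aux (m : ℕ) (x : GL cdF4.D.Idx K)
    (hx : x ∈ tF4 K (2 ^ m)) (hP : ∀ g ∈ tF4 K (2 ^ m), g * x * g⁻¹ ∈ cdF4.D.borelSubgroup K) : x = 1 := by
  have hθ0 : (2 : ℕ) ^ m ≠ 0 := pow_ne_zero _ (by norm_num)
  have hl8 := altWord_lt 8
  set n0 := relF4.nWordU (F := K) (altWord 8) with hn0
  have hn0T : n0 ∈ tF4 K (2 ^ m) := altWord_mem (2 ^ m) hθ0 8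
  have hn0N : n0 ∈ cdF4.D.monomialSubgroup K := relF4.nWordU_mem _ hl8
  have hmap := relF4.opposition_word (F := K) (altWord 8) (altWord 8) hl8 f4_opp8
  obtain ⟨hHU, hdisj⟩ := relF4.diagonal_normalizes (F := K) bnF4.dec bnF4.mono.tri
  have hBset := Subgroup.coe_mul_of_right_le_normalizer_left (cdF4.D.posUnipotent K) (cdF4.D.diagonalSubgroup K) hHU
  have hBV := (relF4.borel_inf_neg (F := K) bnF4.dec bnF4.mono.tri f4NegTri).2
  -- all conjugates lie in `H`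
  have hA : ∀ g ∈ tF4 K (2 ^ m), g * x * g⁻¹ ∈ cdF4.D.diagonalSubgroup K := by
    intro g hg
    rw [← hBV]
    refine ⟨hP g hg, ?_⟩
    have hz := hP (n0⁻¹ * g) (Subgroup.mul_mem _ (Subgroup.inv_mem _ hn0T) hg)
    have hz' : (n0⁻¹ * g) * x * (n0⁻¹ * g)⁻¹ ∈ ((cdF4.D.posUnipotent K ⊔ cdF4.D.diagonalSubgroup K :
        Subgroup (GL cdF4.D.Idx K)) : Set (GL cdF4.D.Idx K)) := hz
    rw [hBset, Set.mem_mul] at hz'
    obtain ⟨u, hu, h, hh, huh⟩ := hz'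
    have e : g * x * g⁻¹ = (n0 * u * n0⁻¹) * (n0 * h * n0⁻¹) := by
      have : n0 * u * n0⁻¹ * (n0 * h * n0⁻¹) = n0 * (u * h) * n0⁻¹ := by group
      rw [this, huh]; group
    rw [e]
    apply Subgroup.mul_mem
    · apply Subgroup.mem_sup_left
      rw [← hmap]
      exact ⟨u, hu, rfl⟩
    · apply Subgroup.mem_sup_right
      exact monoF4.conj_mem n0 hn0N h hh
  have hxH : x ∈ cdF4.D.diagonalSubgroup K := by
    have := hA 1 (Subgroup.one_mem _)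
    simpa using this
  -- such elements commute with the unipotent elements of the twisted group
  have hcomm : ∀ w ∈ tF4 K (2 ^ m), w ∈ cdF4.D.posUnipotent K → x * w * x⁻¹ = w := by
    intro w hwT hwU
    have h1 := hA w hwT
    have h2 : x⁻¹ * w * x ∈ cdF4.D.posUnipotent K := by
      have := (Subgroup.mem_normalizer_iff.mp (hHU (Subgroup.inv_mem _ hxH)) w).mp hwU
      rwa [inv_inv] at this
    have h3 : x⁻¹ * w * x * w⁻¹ ∈ cdF4.D.posUnipotent K ⊓ cdF4.D.diagonalSubgroup K := by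
      refine ⟨Subgroup.mul_mem _ h2 (Subgroup.inv_mem _ hwU), ?_⟩
      have : x⁻¹ * w * x * w⁻¹ = x⁻¹ * (w * x * w⁻¹) := by group
      rw [this]
      exact Subgroup.mul_mem _ (Subgroup.inv_mem _ hxH) h1
    rw [hdisj, Subgroup.mem_bot] at h3
    have h4 : x⁻¹ * w * x = w := by
      have := congrArg (fun y => y * w) h3
      simpa [mul_assoc] using this
    have h5 := congrArg (fun y => x * y * x⁻¹) h4
    simp only [mul_assoc, mul_inv_cancel_left, mul_inv_cancel, mul_one] at h5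
    rw [← mul_assoc] at h5
    exact h5.symm
  obtain ⟨c0, c1, c2, c3, h0, h1, h2, h3, rfl⟩ := exists_hT x hxH
  -- the first kind
  have k1 := hcomm (pairP (2 ^ m) 1) (pairP_mem_tF4 _ 1)
    (Subgroup.mul_mem _ (xU_mem_pos 33 (by decide) _) (xU_mem_pos 24 (by decide) _))
  rw [hT_conj_pairP _ c0 c1 c2 c3 h0 h1 h2 h3] at k1
  unfold pairP at k1
  obtain ⟨e33, e24⟩ := pair_inj _ _ _ _ k1
  rw [one_pow, mul_one] at e33
  rw [mul_one] at e24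
  -- the second kind
  have k2 := hcomm (clsP (2 ^ m) 1 0) (clsP_mem_tF4 _ 1 0)
    (by
      rw [clsP_eq]
      exact Subgroup.mul_mem _ (Subgroup.mul_mem _ (Subgroup.mul_mem _ (xU_mem_pos 27 (by decide) _)
        (xU_mem_pos 25 (by decide) _)) (xU_mem_pos 28 (by decide) _)) (xU_mem_pos 30 (by decide) _))
  rw [clsP_eq, hT_conj_nfP c0 c1 c2 c3 h0 h1 h2 h3] at k2
  have k2' : (b2SysPos K).nf (c0⁻¹ * c1 ^ 2 * c2⁻¹ * 1 ^ 2 ^ m) ((c1 ^ 2)⁻¹ * c2 ^ 2 * c3⁻¹ * 1)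
      (c0⁻¹ * c2 * c3⁻¹ * (1 ^ (2 ^ m + 1) + 0)) ((c0 ^ 2)⁻¹ * c1 ^ 2 * c3⁻¹ * 0 ^ (2 * 2 ^ m)) =
      (b2SysPos K).nf (1 ^ 2 ^ m) 1 (1 ^ (2 ^ m + 1) + 0) (0 ^ (2 * 2 ^ m)) := Subtype.ext k2
  obtain ⟨e27, e25, -, -⟩ := b2SysPos_inj _ _ _ _ _ _ _ _ k2'
  rw [one_pow, mul_one] at e27
  rw [mul_one] at e25
  obtain ⟨rfl, rfl, rfl, rfl⟩ := char_trivial c0 c1 c2 c3 h0 h1 h2 h3 e33 e27 e25 e24
  exact hT_one

/-- the core of `B¹` is trivial -/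
theorem f4_core (m : ℕ) :
    ((cdF4.D.borelSubgroup K ⊓ tF4 K (2 ^ m)).subgroupOf (tF4 K (2 ^ m))).normalCore = ⊥ := by
  rw [eq_bot_iff]
  intro z hz
  rw [Subgroup.mem_bot]
  apply Subtype.ext
  refine core_aux m z.1 z.2 ?_
  intro g hg
  have h1 : (⟨g, hg⟩ : ↥(tF4 K (2 ^ m))) * z * (⟨g, hg⟩ : ↥(tF4 K (2 ^ m)))⁻¹ ∈
      (cdF4.D.borelSubgroup K ⊓ tF4 K (2 ^ m)).subgroupOf (tF4 K (2 ^ m)) := hz ⟨g, hg⟩
  exact (Subgroup.mem_subgroupOf.mp h1).1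

end

end Cfsg.Agent.Lib.Helper3.RF4
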