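import Mathlib
import Cfsg.Prelude.Def_ChevStructure
import Cfsg.Prelude.Def_ChevF4
import Cfsg.Prelude.Def_LieTwisted
import Cfsg.Agent.Lib.Helper3.F4T9
import Cfsg.Agent.Lib.Helper3.ChevData.F4Poin
set_option autoImplicit false
set_option linter.unusedSectionVars false
set_option linter.style.haveILetI false
set_option maxRecDepth 1000000
open Cfsg Cfsg.Lie

/-!
The elements of the Weyl group of type `F₄` commuting with the symmetry of the Dynkin diagram, and
the fixed points of the twisting automorphism on the monomial subgroup.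
-/

namespace Cfsg.Agent.Lib.Helper3.RF4

open Cfsg.Agent.Lib.Helper3.ChevM Cfsg.Agent.Lib.Helper3.ChevSp Cfsg.Agent.Lib.Helper3.ChevAt
open Cfsg.Agent.Lib.Helper3 ChevU

theorem f4p_refl : ∀ i < 4, ∀ s < 48, relF4.refl (f4p i) (f4rho s) = f4rho (relF4.refl i s) := by decide +kernel

theorem f4p_lt (i : ℕ) : f4p i < 4 := by
  unfold f4p
  omega

theorem map_f4p_lt (l : List ℕ) : ∀ i ∈ l.map f4p, i < cdF4.D.rank := by
  intro i hi
  obtain ⟨a, -, rfl⟩ := List.mem_map.mp hi
  exact f4p_lt a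

theorem reflW_map_f4p (l : List ℕ) (hl : ∀ i ∈ l, i < cdF4.D.rank) (s : ℕ) (hs : s < cdF4.D.nroots) :
    reflW relF4.refl (l.map f4p) (f4rho s) = f4rho (reflW relF4.refl l s) := by
  induction l with
  | nil => rfl
  | cons i l ih =>
    have hl' : ∀ j ∈ l, j < cdF4.D.rank := fun j hj => hl j (List.mem_cons_of_mem _ hj)
    show relF4.refl (f4p i) (reflW relF4.refl (l.map f4p) (f4rho s)) = f4rho (relF4.refl i (reflW relF4.refl l s))
    rw [ih hl']
    exact f4p_refl i (hl i List.mem_cons_self) _ (relF4.reflW_lt l hl' s hs)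

theorem reflW_map_congr (l l' : List ℕ) (hl : ∀ i ∈ l, i < cdF4.D.rank) (hl' : ∀ i ∈ l', i < cdF4.D.rank)
    (h : ∀ s < cdF4.D.nroots, reflW relF4.refl l s = reflW relF4.refl l' s) :
    ∀ s < cdF4.D.nroots, reflW relF4.refl (l.map f4p) s = reflW relF4.refl (l'.map f4p) s := by
  intro s hs
  have h1 := f4rho_lt s hs
  rw [← f4rho_rho s hs, reflW_map_f4p l hl _ h1, reflW_map_f4p l' hl' _ h1, h _ h1]

/-- the permutation of the roots induced by a word, as a list -/
def permOf (l : List ℕ) : List ℕ := (List.range 48).map (reflW relF4.refl l)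

theorem permOf_eq_iff (l l' : List ℕ) :
    permOf l = permOf l' ↔ ∀ s < cdF4.D.nroots, reflW relF4.refl l s = reflW relF4.refl l' s := by
  unfold permOf
  constructor
  · intro h s hs
    have := List.map_inj_left.mp h s (List.mem_range.mpr hs)
    exact this
  · intro h
    apply List.map_congr_left
    intro s hs
    exact h s (List.mem_range.mp hs)

/-- the permutations induced by the alternating words -/
def perms16 : List (List ℕ) :=
  ((List.range 9).map fun k => permOf (altWord k)) ++ ((List.range 9).map fun k => permOf (altWord' k))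

/-- the check that the elements commuting with the symmetry are the alternating words -/
def cwCheck : Bool := dlF43.all fun a => dlF42.all fun b => dlF41.all fun c => dlF40.all fun d =>
  !(permOf (a ++ b ++ c ++ d) == permOf ((a ++ b ++ c ++ d).map f4p)) || perms16.contains (permOf (a ++ b ++ c ++ d))

theorem cwCheck_true : cwCheck = true := by decide +kernel

theorem getD_mem {α : Type*} (L : List α) (a : ℕ) (ha : a < L.length) (d : α) : L.getD a d ∈ L := by
  rw [List.getD_eq_getElem _ _ ha]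
  exact List.getElem_mem ha

/-- every word induces the same permutation as a product of four coset representatives -/
theorem exists_four_rep (l : List ℕ) (hl : ∀ i ∈ l, i < cdF4.D.rank) :
    ∃ a ∈ dlF43, ∃ b ∈ dlF42, ∃ c ∈ dlF41, ∃ d ∈ dlF40,
      ∀ s < cdF4.D.nroots, reflW relF4.refl l s = reflW relF4.refl (a ++ b ++ c ++ d) s := by
  obtain ⟨a, ha, w3, hw3, e3⟩ := monoF4.exists_rep 3 dlF43 f4Or3 nxtF43 (by decide +kernel)
    (of_pairRange (m := 24) (n := 4) f4Ot3) (by decide) l hl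
  obtain ⟨b, hb, w2, hw2, e2⟩ := monoF4.exists_rep 2 dlF42 f4Or2 nxtF42 (by decide +kernel)
    (of_pairRange (m := 8) (n := 3) f4Ot2) (by decide) w3 hw3
  obtain ⟨c, hc, w1, hw1, e1⟩ := monoF4.exists_rep 1 dlF41 f4Or1 nxtF41 (by decide +kernel)
    (of_pairRange (m := 3) (n := 2) f4Ot1) (by decide) w2 hw2
  obtain ⟨d, hd, w0, hw0, e0⟩ := monoF4.exists_rep 0 dlF40 f4Or0 nxtF40 (by decide +kernel)
    (of_pairRange (m := 2) (n := 1) f4Ot0) (by decide) w1 hw1
  have hw0nil : w0 = [] := by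
    rcases w0 with _ | ⟨i, w0⟩
    · rfl
    · exact absurd (hw0 i List.mem_cons_self) (Nat.not_lt_zero _)
  subst hw0nil
  refine ⟨_, getD_mem dlF43 a ha [], _, getD_mem dlF42 b hb [], _, getD_mem dlF41 c hc [], _,
    getD_mem dlF40 d hd [], ?_⟩
  intro s hs
  have hw3' : ∀ i ∈ w3, i < cdF4.D.rank := fun i hi => lt_trans (hw3 i hi) (by decide)
  have hw2' : ∀ i ∈ w2, i < cdF4.D.rank := fun i hi => lt_trans (hw2 i hi) (by decide)
  have hw1' : ∀ i ∈ w1, i < cdF4.D.rank := fun i hi => lt_trans (hw1 i hi) (by decide)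
  rw [reflW_append, reflW_append, reflW_append, e3 s hs, e2 s hs, e1 s hs, e0 s hs]
  rfl

/-- the elements of the Weyl group commuting with the symmetry are induced by the alternating words -/
theorem cw_rho (l : List ℕ) (hl : ∀ i ∈ l, i < cdF4.D.rank)
    (h : ∀ s < cdF4.D.nroots, reflW relF4.refl (l.map f4p) s = reflW relF4.refl l s) :
    ∃ k < 9, (∀ s < cdF4.D.nroots, reflW relF4.refl l s = reflW relF4.refl (altWord k) s) ∨
      (∀ s < cdF4.D.nroots, reflW relF4.refl l s = reflW relF4.refl (altWord' k) s) := by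
  obtain ⟨a, ha, b, hb, c, hc, d, hd, e⟩ := exists_four_rep l hl
  have hchk := cwCheck_true
  unfold cwCheck at hchk
  rw [List.all_eq_true] at hchk
  have h1 := hchk a ha
  rw [List.all_eq_true] at h1
  have h2 := h1 b hb
  rw [List.all_eq_true] at h2
  have h3 := h2 c hc
  rw [List.all_eq_true] at h3
  have h4 := h3 d hd
  set l' := a ++ b ++ c ++ d with hl'def
  have hl' : ∀ i ∈ l', i < cdF4.D.rank := by
    have h43 : ∀ x ∈ dlF43, ∀ i ∈ x, i < 4 := by decide +kernel
    have h42 : ∀ x ∈ dlF42, ∀ i ∈ x, i < 4 := by decide +kernel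
    have h41 : ∀ x ∈ dlF41, ∀ i ∈ x, i < 4 := by decide +kernel
    have h40 : ∀ x ∈ dlF40, ∀ i ∈ x, i < 4 := by decide +kernel
    intro i hi
    rw [hl'def] at hi
    simp only [List.mem_append] at hi
    rcases hi with ((hi | hi) | hi) | hi
    · exact h43 a ha i hi
    · exact h42 b hb i hi
    · exact h41 c hc i hi
    · exact h40 d hd i hi
  have hcomm : permOf l' = permOf (l'.map f4p) := by
    rw [permOf_eq_iff]
    intro s hs
    rw [← e s hs, ← h s hs]
    exact reflW_map_congr l l' hl hl' e s hs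
  rw [Bool.or_eq_true] at h4
  rcases h4 with h4 | h4
  · rw [hcomm] at h4
    simp at h4
  · rw [List.contains_iff_mem] at h4
    unfold perms16 at h4
    rw [List.mem_append] at h4
    rcases h4 with h4 | h4
    · obtain ⟨k, hk, e'⟩ := List.mem_map.mp h4
      refine ⟨k, List.mem_range.mp hk, Or.inl ?_⟩
      intro s hs
      rw [e s hs]
      exact ((permOf_eq_iff _ _).mp e'.symm) s hs
    · obtain ⟨k, hk, e'⟩ := List.mem_map.mp h4
      refine ⟨k, List.mem_range.mp hk, Or.inr ?_⟩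
      intro s hs
      rw [e s hs]
      exact ((permOf_eq_iff _ _).mp e'.symm) s hs

section
variable {K : Type*} [Field K] [Fintype K] [CharP K 2]

/-- the fixed points of the twisting automorphism on the monomial subgroup -/
theorem fixed_monomial (m : ℕ) (hK : Fintype.card K = 2 ^ (2 * m + 1)) (n : GL cdF4.D.Idx K)
    (hn : n ∈ cdF4.D.monomialSubgroup K) (hfix : (f4Tw (K := K) m).sg n = n) :
    ∃ k < 9, ∃ h ∈ cdF4.D.diagonalSubgroup K, (f4Tw (K := K) m).sg h = h ∧
      (n = h * relF4.nWordU (F := K) (altWord k) ∨ n = h * relF4.nWordU (F := K) (altWord' k)) := by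
  have hθ0 : (2 : ℕ) ^ m ≠ 0 := pow_ne_zero _ (by norm_num)
  have hNG : cdF4.D.monomialSubgroup K ≤ cdF4.D.group K := relF4.monomialSubgroup_le_group
  have hHG : cdF4.D.diagonalSubgroup K ≤ cdF4.D.group K := relF4.diagonalSubgroup_le_group
  obtain ⟨h₀, hh₀, l, hl, rfl⟩ := monoF4.monomial_decomp n hn
  have hwN : relF4.nWordU (F := K) l ∈ cdF4.D.monomialSubgroup K := relF4.nWordU_mem l hl
  have hσw : (f4Tw (K := K) m).sg (relF4.nWordU (F := K) l) = relF4.nWordU (l.map f4p) :=
    (f4Tw (K := K) m).sg_nWordU f4p f4p_spec l hl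
  have hσh₀ := (f4Tw (K := K) m).sg_mem_diagonal hh₀
  rw [(f4Tw (K := K) m).sg_mul (hHG hh₀) (hNG hwN), hσw] at hfix
  have hinv : ∀ s < cdF4.D.nroots, reflW relF4.refl (l.map f4p) s = reflW relF4.refl l s := by
    refine relF4.reflW_eq_of_coset (F := K) bnF4.dec _ _ (map_f4p_lt l) hl
      (((f4Tw (K := K) m).sg h₀)⁻¹ * h₀) (Subgroup.mul_mem _ (Subgroup.inv_mem _ hσh₀) hh₀) ?_
    rw [mul_assoc, ← hfix, inv_mul_cancel_left]
  obtain ⟨k, hk, hkk⟩ := cw_rho l hl hinv
  have key : ∀ w : List ℕ, (∀ i ∈ w, i < cdF4.D.rank) → relF4.nWordU (F := K) w ∈ tF4 K (2 ^ m) →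
      (∀ s < cdF4.D.nroots, reflW relF4.refl l s = reflW relF4.refl w s) →
      ∃ h ∈ cdF4.D.diagonalSubgroup K, (f4Tw (K := K) m).sg h = h ∧
        h₀ * relF4.nWordU (F := K) l = h * relF4.nWordU (F := K) w := by
    intro w hw hwT hlw
    obtain ⟨h', hh', e'⟩ := monoF4.coset_of_reflW_eq (F := K) bnF4.dec l w hl hw hlw
    have hwfix := (tF4_le_fixF m hK hwT).2
    have hwN' : relF4.nWordU (F := K) w ∈ cdF4.D.monomialSubgroup K := relF4.nWordU_mem w hw
    refine ⟨h₀ * h', Subgroup.mul_mem _ hh₀ hh', ?_, by rw [e', mul_assoc]⟩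
    have h1 : (f4Tw (K := K) m).sg (h₀ * h' * relF4.nWordU (F := K) w) = h₀ * h' * relF4.nWordU (F := K) w := by
      have e2 : h₀ * h' * relF4.nWordU (F := K) w = h₀ * relF4.nWordU (F := K) l := by rw [e', mul_assoc]
      rw [e2, (f4Tw (K := K) m).sg_mul (hHG hh₀) (hNG hwN), hσw]
      exact hfix
    rw [(f4Tw (K := K) m).sg_mul (hHG (Subgroup.mul_mem _ hh₀ hh')) (hNG hwN'), hwfix] at h1
    exact mul_right_cancel h1
  refine ⟨k, hk, ?_⟩
  rcases hkk with hkk | hkk
  · obtain ⟨h, hh, hhfix, e⟩ := key (altWord k) (altWord_lt k) (altWord_mem _ hθ0 k) hkk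
    exact ⟨h, hh, hhfix, Or.inl e⟩
  · obtain ⟨h, hh, hhfix, e⟩ := key (altWord' k) (altWord'_lt k) (altWord'_mem _ hθ0 k) hkk
    exact ⟨h, hh, hhfix, Or.inr e⟩

theorem fixed_monomial_mem_tF4 (m : ℕ) (hK : Fintype.card K = 2 ^ (2 * m + 1)) (n : GL cdF4.D.Idx K)
    (hn : n ∈ cdF4.D.monomialSubgroup K) (hfix : (f4Tw (K := K) m).sg n = n) : n ∈ tF4 K (2 ^ m) := by
  have hθ0 : (2 : ℕ) ^ m ≠ 0 := pow_ne_zero _ (by norm_num)
  obtain ⟨k, -, h, hh, hhfix, e | e⟩ := fixed_monomial m hK n hn hfix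
  · rw [e]
    exact Subgroup.mul_mem _ (fixed_diag_mem_tF4 m hK h hh hhfix) (altWord_mem _ hθ0 k)
  · rw [e]
    exact Subgroup.mul_mem _ (fixed_diag_mem_tF4 m hK h hh hhfix) (altWord'_mem _ hθ0 k)

end

end Cfsg.Agent.Lib.Helper3.RF4
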