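import Mathlib
import Cfsg.Prelude.Def_ChevStructure
import Cfsg.Prelude.Def_ChevF4
import Cfsg.Prelude.Def_LieTwisted
import Cfsg.Agent.Lib.Helper3.F4T10
import Cfsg.Agent.Lib.Helper3.F4T11
import Cfsg.Agent.Lib.Helper3.ChevAt5
set_option autoImplicit false
set_option linter.unusedSectionVars false
set_option linter.style.haveILetI false
set_option maxRecDepth 1000000
open Cfsg Cfsg.Lie

/-!
The fixed points of the twisting automorphism of `F₄` on the subgroups `U_J⁻` for the two generators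
of the twisted Weyl group.
-/

namespace Cfsg.Agent.Lib.Helper3.RF4

open Cfsg.Agent.Lib.Helper3.ChevM Cfsg.Agent.Lib.Helper3.ChevSp Cfsg.Agent.Lib.Helper3.ChevAt
open Cfsg.Agent.Lib.Helper3 ChevU

theorem negSet_wJ1 : negSet cdF4.D relF4.refl wJ1 = [24, 33] := by decide +kernel

theorem negSet_wJ2 : negSet cdF4.D relF4.refl wJ2 = [25, 27, 28, 30] := by decide +kernel

section
variable {K : Type*} [Field K] [Fintype K] [CharP K 2]

theorem uMinus_wJ1 (g : GL cdF4.D.Idx K) :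
    g ∈ uMinus cdF4.D K (relF4.nWordU (F := K) wJ1) ↔ ∃ a b : K, g = relF4.xU 33 a * relF4.xU 24 b := by
  have hl : ∀ i ∈ wJ1, i < cdF4.D.rank := by decide
  have key := uhypF4.uMinus_eq (F := K) bnF4 f4NegTri f4Sign 1 (Subgroup.one_mem _) wJ1 hl
  rw [one_mul, negSet_wJ1] at key
  rw [← SetLike.mem_coe, key]
  constructor
  · rintro ⟨t, rfl⟩
    refine ⟨t 33, t 24, ?_⟩
    unfold RootSys.lprod
    simp only [List.map_cons, List.map_nil, List.prod_cons, List.prod_nil, mul_one]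
    rw [comm_33_24]
  · rintro ⟨a, b, rfl⟩
    refine ⟨fun r => if r = 24 then b else a, ?_⟩
    unfold RootSys.lprod
    simp only [List.map_cons, List.map_nil, List.prod_cons, List.prod_nil, mul_one]
    norm_num
    rw [comm_33_24]

theorem uMinus_wJ2 (g : GL cdF4.D.Idx K) :
    g ∈ uMinus cdF4.D K (relF4.nWordU (F := K) wJ2) ↔
      ∃ a b c d : K, g = (((b2SysPos K).nf a b c d : ↥(cdF4.D.group K)) : GL cdF4.D.Idx K) := by
  have hl : ∀ i ∈ wJ2, i < cdF4.D.rank := by decide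
  have key := uhypF4.uMinus_eq (F := K) bnF4 f4NegTri f4Sign 1 (Subgroup.one_mem _) wJ2 hl
  rw [one_mul, negSet_wJ2] at key
  rw [← SetLike.mem_coe, key]
  have e : ∀ a b c d : K, (((b2SysPos K).nf a b c d : ↥(cdF4.D.group K)) : GL cdF4.D.Idx K) =
      relF4.xU 25 b * (relF4.xU 27 a * (relF4.xU 28 (c + b * a) * relF4.xU 30 (d + b * a ^ 2))) := by
    intro a b c d
    rw [(b2SysPos K).nf_swap]
    simp only [mul_assoc]
    rfl
  constructor
  · rintro ⟨t, rfl⟩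
    refine ⟨t 27, t 25, t 28 + t 25 * t 27, t 30 + t 25 * t 27 ^ 2, ?_⟩
    rw [e]
    unfold RootSys.lprod
    simp only [List.map_cons, List.map_nil, List.prod_cons, List.prod_nil, mul_one]
    have e1 : t 28 + t 25 * t 27 + t 25 * t 27 = t 28 := by
      rw [add_assoc, CharTwo.add_self_eq_zero, add_zero]
    have e2 : t 30 + t 25 * t 27 ^ 2 + t 25 * t 27 ^ 2 = t 30 := by
      rw [add_assoc, CharTwo.add_self_eq_zero, add_zero]
    rw [e1, e2]
  · rintro ⟨a, b, c, d, rfl⟩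
    refine ⟨fun r => if r = 25 then b else if r = 27 then a else if r = 28 then c + b * a else d + b * a ^ 2, ?_⟩
    rw [e]
    unfold RootSys.lprod
    simp only [List.map_cons, List.map_nil, List.prod_cons, List.prod_nil, mul_one]
    norm_num

/-- the fixed points on `U_J⁻` for the first generator -/
theorem fixU_wJ1 (m : ℕ) (hK : Fintype.card K = 2 ^ (2 * m + 1)) (g : GL cdF4.D.Idx K) :
    g ∈ (f4Tw (K := K) m).fixU wJ1 ↔ ∃ t : K, g = pairP (2 ^ m) t := by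
  have hθ := thetaHyp2_of_card (K := K) m hK
  constructor
  · rintro ⟨hg, hfix⟩
    obtain ⟨a, b, rfl⟩ := (uMinus_wJ1 g).mp hg
    rw [(f4Tw (K := K) m).sg_mul (relF4.xU_mem_group 33 (by decide) _) (relF4.xU_mem_group 24 (by decide) _),
      (f4Tw (K := K) m).sg_xU 33 (by decide), (f4Tw (K := K) m).sg_xU 24 (by decide)] at hfix
    have e1 : (f4Tw (K := K) m).rho 33 = 24 := rfl
    have e2 : (f4Tw (K := K) m).rho 24 = 33 := rfl
    rw [e1, e2, f4Tw_e_short m 33 rfl, f4Tw_e_long m 24 rfl, ← comm_33_24] at hfix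
    obtain ⟨h1, -⟩ := pair_inj _ _ _ _ hfix
    refine ⟨b, ?_⟩
    unfold pairP
    rw [h1]
  · rintro ⟨t, rfl⟩
    exact ⟨(uMinus_wJ1 _).mpr ⟨_, _, rfl⟩, sg_pairP m hK t⟩

/-- the fixed points on `U_J⁻` for the second generator -/
theorem fixU_wJ2 (m : ℕ) (hK : Fintype.card K = 2 ^ (2 * m + 1)) (g : GL cdF4.D.Idx K) :
    g ∈ (f4Tw (K := K) m).fixU wJ2 ↔ ∃ t u : K, g = clsP (2 ^ m) t u := by
  have hθ := thetaHyp2_of_card (K := K) m hK
  constructor
  · rintro ⟨hg, hfix⟩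
    obtain ⟨a, b, c, d, rfl⟩ := (uMinus_wJ2 g).mp hg
    rw [(f4Tw (K := K) m).sg_of_mem (Subtype.property _)] at hfix
    have hfix' : (f4Sigma (K := K) m).toMonoidHom ((b2SysPos K).nf a b c d) = (b2SysPos K).nf a b c d :=
      Subtype.ext hfix
    have := (b2SysPos_tw (K := K) m).eq_cls_of_fixed hθ b2SysPos_inj a b c d hfix'
    refine ⟨b, c + b ^ (2 ^ m + 1), ?_⟩
    unfold clsP
    rw [this]
  · rintro ⟨t, u, rfl⟩
    exact ⟨(uMinus_wJ2 _).mpr ⟨_, _, _, _, rfl⟩, sg_clsP m hK t u⟩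

theorem card_fixU_wJ1 (m : ℕ) (hK : Fintype.card K = 2 ^ (2 * m + 1)) :
    Nat.card ((f4Tw (K := K) m).fixU wJ1) = 2 ^ (2 * m + 1) := by
  let f : K → (f4Tw (K := K) m).fixU wJ1 := fun t => ⟨pairP (2 ^ m) t, (fixU_wJ1 m hK _).mpr ⟨t, rfl⟩⟩
  have hf : Function.Bijective f := by
    constructor
    · intro t t' e
      have e' : pairP (2 ^ m) t = pairP (2 ^ m) t' :=
        congrArg (fun z : ↥((f4Tw (K := K) m).fixU wJ1) => (z : GL cdF4.D.Idx K)) e
      exact pairP_inj _ _ _ e'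
    · rintro ⟨g, hg⟩
      obtain ⟨t, rfl⟩ := (fixU_wJ1 m hK g).mp hg
      exact ⟨t, rfl⟩
  rw [← Nat.card_congr (Equiv.ofBijective f hf), Nat.card_eq_fintype_card, hK]

theorem card_fixU_wJ2 (m : ℕ) (hK : Fintype.card K = 2 ^ (2 * m + 1)) :
    Nat.card ((f4Tw (K := K) m).fixU wJ2) = (2 ^ (2 * m + 1)) ^ 2 := by
  let f : K × K → (f4Tw (K := K) m).fixU wJ2 := fun p =>
    ⟨clsP (2 ^ m) p.1 p.2, (fixU_wJ2 m hK _).mpr ⟨p.1, p.2, rfl⟩⟩
  have hf : Function.Bijective f := by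
    constructor
    · rintro ⟨t, u⟩ ⟨t', u'⟩ e
      have e' : clsP (2 ^ m) t u = clsP (2 ^ m) t' u' :=
        congrArg (fun z : ↥((f4Tw (K := K) m).fixU wJ2) => (z : GL cdF4.D.Idx K)) e
      obtain ⟨e1, e2⟩ := clsP_inj _ _ _ _ _ e'
      rw [e1, e2]
    · rintro ⟨g, hg⟩
      obtain ⟨t, u, rfl⟩ := (fixU_wJ2 m hK g).mp hg
      exact ⟨⟨t, u⟩, rfl⟩
  rw [← Nat.card_congr (Equiv.ofBijective f hf), Nat.card_prod, Nat.card_eq_fintype_card, hK, sq]

end

end Cfsg.Agent.Lib.Helper3.RF4
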