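import Mathlib
import Cfsg.Prelude.Def_ChevStructure
import Cfsg.Prelude.Def_ChevF4
import Cfsg.Prelude.Def_LieTwisted
import Cfsg.Agent.Lib.Helper3.F4T13
set_option autoImplicit false
set_option linter.unusedSectionVars false
set_option linter.style.haveILetI false
set_option maxRecDepth 1000000
open Cfsg Cfsg.Lie

/-!
The fixed points of the twisting automorphism of `F₄` on the subgroups `U_w⁻` for the elements `w`
of the twisted Weyl group: they lie in the twisted group, and their number.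
-/

namespace Cfsg.Agent.Lib.Helper3.RF4

open Cfsg.Agent.Lib.Helper3.ChevM Cfsg.Agent.Lib.Helper3.ChevSp Cfsg.Agent.Lib.Helper3.ChevAt
open Cfsg.Agent.Lib.Helper3 ChevU

theorem altWord_succ_eq : ∀ k < 8, altWord (k + 1) = altWord' k ++ wJ1 ∧ altWord' (k + 1) = altWord k ++ wJ2 := by
  decide

theorem alt_addCheck : ∀ k < 8, addCheck cdF4.D relF4.refl (altWord' k) wJ1 = true ∧
    addCheck2 cdF4.D relF4.refl (altWord' k) wJ1 = true ∧ addCheck cdF4.D relF4.refl (altWord k) wJ2 = true ∧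
    addCheck2 cdF4.D relF4.refl (altWord k) wJ2 = true := by
  decide +kernel

/-- the lengths of the alternating words in the twisted Weyl group -/
def altLen (k : ℕ) : ℕ := [0, 1, 3, 4, 6, 7, 9, 10, 12].getD k 0

/-- the lengths of the alternating words in the twisted Weyl group, starting with the other generator -/
def altLen' (k : ℕ) : ℕ := [0, 2, 3, 5, 6, 8, 9, 11, 12].getD k 0

theorem altLen_succ : ∀ k < 8, altLen (k + 1) = 1 + altLen' k ∧ altLen' (k + 1) = 2 + altLen k := by decide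

section
variable {K : Type*} [Field K] [Fintype K] [CharP K 2]

theorem sg_altWord (m : ℕ) (hK : Fintype.card K = 2 ^ (2 * m + 1)) (k : ℕ) :
    (f4Tw (K := K) m).sg (relF4.nWordU (F := K) (altWord k)) = relF4.nWordU (altWord k) :=
  (tF4_le_fixF m hK (altWord_mem (2 ^ m) (pow_ne_zero _ (by norm_num)) k)).2

theorem sg_altWord' (m : ℕ) (hK : Fintype.card K = 2 ^ (2 * m + 1)) (k : ℕ) :
    (f4Tw (K := K) m).sg (relF4.nWordU (F := K) (altWord' k)) = relF4.nWordU (altWord' k) :=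
  (tF4_le_fixF m hK (altWord'_mem (2 ^ m) (pow_ne_zero _ (by norm_num)) k)).2

theorem sg_wJ1 (m : ℕ) (hK : Fintype.card K = 2 ^ (2 * m + 1)) :
    (f4Tw (K := K) m).sg (relF4.nWordU (F := K) wJ1) = relF4.nWordU wJ1 :=
  (tF4_le_fixF m hK (nWordU_wJ1_mem (2 ^ m))).2

theorem sg_wJ2 (m : ℕ) (hK : Fintype.card K = 2 ^ (2 * m + 1)) :
    (f4Tw (K := K) m).sg (relF4.nWordU (F := K) wJ2) = relF4.nWordU wJ2 :=
  (tF4_le_fixF m hK (nWordU_wJ2_mem (2 ^ m) (pow_ne_zero _ (by norm_num)))).2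

/-- the fixed points on `U_w⁻` for the alternating words: number and membership -/
theorem chain (m : ℕ) (hK : Fintype.card K = 2 ^ (2 * m + 1)) (k : ℕ) (hk : k ≤ 8) :
    (Nat.card ((f4Tw (K := K) m).fixU (altWord k)) = (2 ^ (2 * m + 1)) ^ altLen k ∧
      ∀ g ∈ (f4Tw (K := K) m).fixU (altWord k), g ∈ tF4 K (2 ^ m)) ∧
    (Nat.card ((f4Tw (K := K) m).fixU (altWord' k)) = (2 ^ (2 * m + 1)) ^ altLen' k ∧
      ∀ g ∈ (f4Tw (K := K) m).fixU (altWord' k), g ∈ tF4 K (2 ^ m)) := by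
  have hθ0 : (2 : ℕ) ^ m ≠ 0 := pow_ne_zero _ (by norm_num)
  have h1 : ∀ i ∈ wJ1, i < cdF4.D.rank := by decide
  have h2 : ∀ i ∈ wJ2, i < cdF4.D.rank := by decide
  induction k with
  | zero =>
    have e0 : altWord 0 = [] := rfl
    have e0' : altWord' 0 = [] := rfl
    rw [e0, e0', (f4Tw (K := K) m).fixU_nil atHypF4]
    have hc : Nat.card ({1} : Set (GL cdF4.D.Idx K)) = 1 := by
      rw [Nat.card_eq_fintype_card]; simp
    refine ⟨⟨?_, ?_⟩, ⟨?_, ?_⟩⟩
    · rw [hc]; rfl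
    · intro g hg
      rw [Set.mem_singleton_iff] at hg
      rw [hg]; exact Subgroup.one_mem _
    · rw [hc]; rfl
    · intro g hg
      rw [Set.mem_singleton_iff] at hg
      rw [hg]; exact Subgroup.one_mem _
  | succ k ih =>
    have hk8 : k < 8 := by omega
    obtain ⟨⟨c1, m1⟩, ⟨c2, m2⟩⟩ := ih (by omega)
    obtain ⟨ew, ew'⟩ := altWord_succ_eq k hk8
    obtain ⟨a1, a2, a3, a4⟩ := alt_addCheck k hk8
    obtain ⟨l1, l2⟩ := altLen_succ k hk8
    refine ⟨⟨?_, ?_⟩, ⟨?_, ?_⟩⟩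
    · rw [ew, (f4Tw (K := K) m).card_fixU atHypF4 (altWord' k) wJ1 (altWord'_lt k) h1 a1 a2 (sg_wJ1 m hK)
        (sg_altWord' m hK k), card_fixU_wJ1 m hK, c2, l1]
      ring
    · intro g hg
      rw [ew] at hg
      obtain ⟨x, hx, y, hy, rfl⟩ := (f4Tw (K := K) m).fixU_factor atHypF4 (altWord' k) wJ1 (altWord'_lt k) h1 a1
        (sg_wJ1 m hK) (sg_altWord' m hK k) g hg
      obtain ⟨t, rfl⟩ := (fixU_wJ1 m hK x).mp hx
      exact Subgroup.mul_mem _ (pairP_mem_tF4 _ t) (Subgroup.mul_mem _ (Subgroup.mul_mem _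
        (Subgroup.inv_mem _ (nWordU_wJ1_mem _)) (m2 y hy)) (nWordU_wJ1_mem _))
    · rw [ew', (f4Tw (K := K) m).card_fixU atHypF4 (altWord k) wJ2 (altWord_lt k) h2 a3 a4 (sg_wJ2 m hK)
        (sg_altWord m hK k), card_fixU_wJ2 m hK, c1, l2]
      ring
    · intro g hg
      rw [ew'] at hg
      obtain ⟨x, hx, y, hy, rfl⟩ := (f4Tw (K := K) m).fixU_factor atHypF4 (altWord k) wJ2 (altWord_lt k) h2 a3
        (sg_wJ2 m hK) (sg_altWord m hK k) g hg
      obtain ⟨t, u, rfl⟩ := (fixU_wJ2 m hK x).mp hx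
      exact Subgroup.mul_mem _ (clsP_mem_tF4 _ t u) (Subgroup.mul_mem _ (Subgroup.mul_mem _
        (Subgroup.inv_mem _ (nWordU_wJ2_mem _ hθ0)) (m1 y hy)) (nWordU_wJ2_mem _ hθ0))

end

end Cfsg.Agent.Lib.Helper3.RF4
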