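import Mathlib
import Cfsg.Prelude.Def_ChevStructure
import Cfsg.Prelude.Def_ChevF4
import Cfsg.Prelude.Def_LieTwisted
import Cfsg.Agent.Lib.Helper3.F4T14
set_option autoImplicit false
set_option linter.unusedSectionVars false
set_option linter.style.haveILetI false
set_option maxRecDepth 1000000
open Cfsg Cfsg.Lie

/-!
The unipotent subgroup of the twisted group of type `F₄`, and the equality of the twisted group with
the group of fixed points of the twisting automorphism.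
-/

namespace Cfsg.Agent.Lib.Helper3.RF4

open Cfsg.Agent.Lib.Helper3.ChevM Cfsg.Agent.Lib.Helper3.ChevSp Cfsg.Agent.Lib.Helper3.ChevAt
open Cfsg.Agent.Lib.Helper3 ChevU

section
variable {K : Type*} [Field K] [Fintype K] [CharP K 2]

theorem uMinus_alt8 : uMinus cdF4.D K (relF4.nWordU (F := K) (altWord 8)) = cdF4.D.posUnipotent K := by
  have hl8 := altWord_lt 8
  have hmap := relF4.opposition_word (F := K) (altWord 8) (altWord 8) hl8 f4_opp8
  apply le_antisymm (uMinus_le_posUnipotent cdF4.D _)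
  intro g hg
  rw [mem_uMinus_iff atHypF4 _ hl8]
  refine ⟨hg, ?_⟩
  rw [← hmap]
  exact ⟨g, hg, rfl⟩

/-- the fixed points on `U` lie in the twisted group -/
theorem fixed_pos_mem_tF4 (m : ℕ) (hK : Fintype.card K = 2 ^ (2 * m + 1)) (g : GL cdF4.D.Idx K)
    (hg : g ∈ cdF4.D.posUnipotent K) (hfix : (f4Tw (K := K) m).sg g = g) : g ∈ tF4 K (2 ^ m) := by
  apply ((chain m hK 8 le_rfl).1).2 g
  refine ⟨?_, hfix⟩
  rw [uMinus_alt8]
  exact hg

theorem mem_pos_inf_tF4 (m : ℕ) (hK : Fintype.card K = 2 ^ (2 * m + 1)) (g : GL cdF4.D.Idx K) :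
    g ∈ cdF4.D.posUnipotent K ⊓ tF4 K (2 ^ m) ↔ g ∈ (f4Tw (K := K) m).fixU (altWord 8) := by
  constructor
  · rintro ⟨h1, h2⟩
    refine ⟨?_, (tF4_le_fixF m hK h2).2⟩
    rw [uMinus_alt8]
    exact h1
  · rintro ⟨h1, h2⟩
    rw [uMinus_alt8] at h1
    exact ⟨h1, fixed_pos_mem_tF4 m hK g h1 h2⟩

theorem card_pos_inf_tF4 (m : ℕ) (hK : Fintype.card K = 2 ^ (2 * m + 1)) :
    Nat.card ↥(cdF4.D.posUnipotent K ⊓ tF4 K (2 ^ m)) = (2 ^ (2 * m + 1)) ^ 12 := by
  have h := ((chain m hK 8 le_rfl).1).1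
  have e : altLen 8 = 12 := rfl
  rw [e] at h
  rw [← h]
  apply Nat.card_congr
  exact Equiv.subtypeEquivRight (mem_pos_inf_tF4 m hK)

end

end Cfsg.Agent.Lib.Helper3.RF4
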