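import Mathlib
import Cfsg.Prelude.Def_ChevStructure
import Cfsg.Prelude.Def_ChevF4
import Cfsg.Prelude.Def_LieTwisted
import Cfsg.Agent.Lib.Helper3.F4T15
set_option autoImplicit false
set_option linter.unusedSectionVars false
set_option linter.style.haveILetI false
set_option maxRecDepth 1000000
open Cfsg Cfsg.Lie

/-!
The twisted group of type `F₄` is the group of fixed points of the twisting automorphism; the
canonical form of its elements.
-/

namespace Cfsg.Agent.Lib.Helper3.RF4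

open Cfsg.Agent.Lib.Helper3.ChevM Cfsg.Agent.Lib.Helper3.ChevSp Cfsg.Agent.Lib.Helper3.ChevAt
open Cfsg.Agent.Lib.Helper3 ChevU

/-- the words of the 16 elements of the twisted Weyl group -/
def wList : List (List ℕ) := (List.range 9).map altWord ++ (List.range' 1 7).map altWord'

/-- the word of an element of the twisted Weyl group -/
def wOf (i : Fin 16) : List ℕ := wList.getD i.val []

/-- the length of an element of the twisted Weyl group -/
def lenOf (i : Fin 16) : ℕ := ([0, 1, 3, 4, 6, 7, 9, 10, 12] ++ [2, 3, 5, 6, 8, 9, 11]).getD i.val 0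

theorem wOf_lt : ∀ i : Fin 16, ∀ j ∈ wOf i, j < cdF4.D.rank := by decide

theorem wOf_alt : ∀ i : Fin 16, (∃ k, k ≤ 8 ∧ wOf i = altWord k ∧ lenOf i = altLen k) ∨
    (∃ k, k ≤ 8 ∧ wOf i = altWord' k ∧ lenOf i = altLen' k) := by
  intro i
  fin_cases i
  · exact Or.inl ⟨0, by decide, rfl, rfl⟩
  · exact Or.inl ⟨1, by decide, rfl, rfl⟩
  · exact Or.inl ⟨2, by decide, rfl, rfl⟩
  · exact Or.inl ⟨3, by decide, rfl, rfl⟩
  · exact Or.inl ⟨4, by decide, rfl, rfl⟩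
  · exact Or.inl ⟨5, by decide, rfl, rfl⟩
  · exact Or.inl ⟨6, by decide, rfl, rfl⟩
  · exact Or.inl ⟨7, by decide, rfl, rfl⟩
  · exact Or.inl ⟨8, by decide, rfl, rfl⟩
  · exact Or.inr ⟨1, by decide, rfl, rfl⟩
  · exact Or.inr ⟨2, by decide, rfl, rfl⟩
  · exact Or.inr ⟨3, by decide, rfl, rfl⟩
  · exact Or.inr ⟨4, by decide, rfl, rfl⟩
  · exact Or.inr ⟨5, by decide, rfl, rfl⟩
  · exact Or.inr ⟨6, by decide, rfl, rfl⟩
  · exact Or.inr ⟨7, by decide, rfl, rfl⟩

theorem wOf_inj : ∀ i j : Fin 16, permOf (wOf i) = permOf (wOf j) → i = j := by decide +kernel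

theorem alt_wOf : ∀ k < 9, (∃ i : Fin 16, permOf (altWord k) = permOf (wOf i)) ∧
    (∃ i : Fin 16, permOf (altWord' k) = permOf (wOf i)) := by decide +kernel

section
variable {K : Type*} [Field K] [Fintype K] [CharP K 2]

theorem wOf_mem_tF4 (m : ℕ) (i : Fin 16) : relF4.nWordU (F := K) (wOf i) ∈ tF4 K (2 ^ m) := by
  have hθ0 : (2 : ℕ) ^ m ≠ 0 := pow_ne_zero _ (by norm_num)
  rcases wOf_alt i with ⟨k, -, e, -⟩ | ⟨k, -, e, -⟩
  · rw [e]; exact altWord_mem _ hθ0 k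
  · rw [e]; exact altWord'_mem _ hθ0 k

theorem sg_wOf (m : ℕ) (hK : Fintype.card K = 2 ^ (2 * m + 1)) (i : Fin 16) :
    (f4Tw (K := K) m).sg (relF4.nWordU (F := K) (wOf i)) = relF4.nWordU (wOf i) :=
  (tF4_le_fixF m hK (wOf_mem_tF4 m i)).2

theorem card_fixU_wOf (m : ℕ) (hK : Fintype.card K = 2 ^ (2 * m + 1)) (i : Fin 16) :
    Nat.card ((f4Tw (K := K) m).fixU (wOf i)) = (2 ^ (2 * m + 1)) ^ lenOf i := by
  rcases wOf_alt i with ⟨k, hk, e, e'⟩ | ⟨k, hk, e, e'⟩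
  · rw [e, e']; exact ((chain m hK k hk).1).1
  · rw [e, e']; exact ((chain m hK k hk).2).1

theorem fixU_wOf_mem (m : ℕ) (hK : Fintype.card K = 2 ^ (2 * m + 1)) (i : Fin 16) (g : GL cdF4.D.Idx K)
    (hg : g ∈ (f4Tw (K := K) m).fixU (wOf i)) : g ∈ tF4 K (2 ^ m) := by
  rcases wOf_alt i with ⟨k, hk, e, -⟩ | ⟨k, hk, e, -⟩
  · rw [e] at hg; exact ((chain m hK k hk).1).2 g hg
  · rw [e] at hg; exact ((chain m hK k hk).2).2 g hg

/-- the fixed points on the monomial subgroup, with the 16 representatives -/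
theorem fixed_monomial' (m : ℕ) (hK : Fintype.card K = 2 ^ (2 * m + 1)) (n : GL cdF4.D.Idx K)
    (hn : n ∈ cdF4.D.monomialSubgroup K) (hfix : (f4Tw (K := K) m).sg n = n) :
    ∃ i : Fin 16, ∃ h ∈ cdF4.D.diagonalSubgroup K, (f4Tw (K := K) m).sg h = h ∧
      n = h * relF4.nWordU (F := K) (wOf i) := by
  have hθ0 : (2 : ℕ) ^ m ≠ 0 := pow_ne_zero _ (by norm_num)
  have hNG : cdF4.D.monomialSubgroup K ≤ cdF4.D.group K := relF4.monomialSubgroup_le_group
  have hHG : cdF4.D.diagonalSubgroup K ≤ cdF4.D.group K := relF4.diagonalSubgroup_le_group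
  have key : ∀ v : List ℕ, (∀ j ∈ v, j < cdF4.D.rank) → (∃ i : Fin 16, permOf v = permOf (wOf i)) →
      ∀ h ∈ cdF4.D.diagonalSubgroup K, n = h * relF4.nWordU (F := K) v →
      ∃ i : Fin 16, ∃ h ∈ cdF4.D.diagonalSubgroup K, (f4Tw (K := K) m).sg h = h ∧
        n = h * relF4.nWordU (F := K) (wOf i) := by
    rintro v hv ⟨i, hi⟩ h hh e
    rw [permOf_eq_iff] at hi
    obtain ⟨h', hh', e'⟩ := monoF4.coset_of_reflW_eq (F := K) bnF4.dec v (wOf i) hv (wOf_lt i) hi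
    have hwN : relF4.nWordU (F := K) (wOf i) ∈ cdF4.D.monomialSubgroup K := relF4.nWordU_mem _ (wOf_lt i)
    refine ⟨i, h * h', Subgroup.mul_mem _ hh hh', ?_, by rw [e, e', mul_assoc]⟩
    have e2 : n = h * h' * relF4.nWordU (F := K) (wOf i) := by rw [e, e', mul_assoc]
    rw [e2, (f4Tw (K := K) m).sg_mul (hHG (Subgroup.mul_mem _ hh hh')) (hNG hwN), sg_wOf m hK i] at hfix
    exact mul_right_cancel hfix
  obtain ⟨k, hk, h, hh, -, e | e⟩ := fixed_monomial m hK n hn hfix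
  · exact key (altWord k) (altWord_lt k) (alt_wOf k hk).1 h hh e
  · exact key (altWord' k) (altWord'_lt k) (alt_wOf k hk).2 h hh e

/-- the twisted group is the group of fixed points of the twisting automorphism -/
theorem tF4_eq_fixF (m : ℕ) (hK : Fintype.card K = 2 ^ (2 * m + 1)) : tF4 K (2 ^ m) = fixF K m := by
  apply le_antisymm (tF4_le_fixF m hK)
  rintro g ⟨hg, hfix⟩
  obtain ⟨u₁, hu₁, hu₁f, n, hn, hnf, u, hu, huf, rfl⟩ :=
    (f4Tw (K := K) m).fix_normal_form_gen atHypF4 g hg hfix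
  exact Subgroup.mul_mem _ (Subgroup.mul_mem _ (fixed_pos_mem_tF4 m hK u₁ hu₁ hu₁f)
    (fixed_monomial_mem_tF4 m hK n hn hnf))
    (fixed_pos_mem_tF4 m hK u (uMinus_le_posUnipotent cdF4.D _ hu) huf)

end

end Cfsg.Agent.Lib.Helper3.RF4
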