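import Mathlib
import Cfsg.Prelude.Def_ChevStructure
import Cfsg.Prelude.Def_ChevF4
import Cfsg.Prelude.Def_LieTwisted
import Cfsg.Agent.Lib.Helper3.F4T16
set_option autoImplicit false
set_option linter.unusedSectionVars false
set_option linter.style.haveILetI false
set_option maxRecDepth 1000000
open Cfsg Cfsg.Lie

/-!
The order of the twisted group of type `F₄`.
-/

namespace Cfsg.Agent.Lib.Helper3.RF4

open Cfsg.Agent.Lib.Helper3.ChevM Cfsg.Agent.Lib.Helper3.ChevSp Cfsg.Agent.Lib.Helper3.ChevAt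
open Cfsg.Agent.Lib.Helper3 ChevU

section
variable {K : Type*} [Field K] [Fintype K] [CharP K 2]

/-- the parameters of the canonical form -/
abbrev NfType (K : Type*) [Field K] [Fintype K] [CharP K 2] (m : ℕ) : Type _ :=
  Σ i : Fin 16, (↥(cdF4.D.posUnipotent K ⊓ tF4 K (2 ^ m)) × ↥(cdF4.D.diagonalSubgroup K ⊓ tF4 K (2 ^ m)) ×
    ↥((f4Tw (K := K) m).fixU (wOf i)))

/-- the canonical form -/
def nfMap (m : ℕ) (hK : Fintype.card K = 2 ^ (2 * m + 1)) : NfType K m → ↥(tF4 K (2 ^ m)) := fun p =>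
  ⟨(p.2.1 : GL cdF4.D.Idx K) * (p.2.2.1 : GL cdF4.D.Idx K) * relF4.nWordU (F := K) (wOf p.1) *
      (p.2.2.2 : GL cdF4.D.Idx K),
    Subgroup.mul_mem _ (Subgroup.mul_mem _ (Subgroup.mul_mem _ p.2.1.2.2 p.2.2.1.2.2) (wOf_mem_tF4 m p.1))
      (fixU_wOf_mem m hK p.1 _ p.2.2.2.2)⟩

theorem nfMap_surjective (m : ℕ) (hK : Fintype.card K = 2 ^ (2 * m + 1)) :
    Function.Surjective (nfMap (K := K) m hK) := by
  rintro ⟨g, hgT⟩
  obtain ⟨hg, hfix⟩ := tF4_le_fixF m hK hgT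
  obtain ⟨u₁, hu₁, hu₁f, n, hn, hnf, u, hu, huf, e⟩ :=
    (f4Tw (K := K) m).fix_normal_form_gen atHypF4 g hg hfix
  obtain ⟨i, h, hh, hhf, rfl⟩ := fixed_monomial' m hK n hn hnf
  rw [uMinus_diag_mul atHypF4 h _ hh] at hu
  refine ⟨⟨i, ⟨u₁, hu₁, fixed_pos_mem_tF4 m hK u₁ hu₁ hu₁f⟩, ⟨h, hh, fixed_diag_mem_tF4 m hK h hh hhf⟩,
    ⟨u, hu, huf⟩⟩, ?_⟩
  apply Subtype.ext
  show u₁ * h * relF4.nWordU (F := K) (wOf i) * u = g
  rw [e]
  simp only [mul_assoc]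

theorem nfMap_injective (m : ℕ) (hK : Fintype.card K = 2 ^ (2 * m + 1)) :
    Function.Injective (nfMap (K := K) m hK) := by
  obtain ⟨-, bru2⟩ := uhypF4.bruhat_normal_form (F := K) bnF4 f4NegTri (fun r hr => signCheck_or (f4Sign r hr))
  obtain ⟨hHU, hdisj⟩ := relF4.diagonal_normalizes (F := K) bnF4.dec bnF4.mono.tri
  rintro ⟨i, ⟨u₁, hu₁, hu₁T⟩, ⟨h, hh, hhT⟩, ⟨u, hu, huf⟩⟩ ⟨i', ⟨u₁', hu₁', hu₁T'⟩, ⟨h', hh', hhT'⟩, ⟨u', hu', huf'⟩⟩ e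
  have e' : u₁ * h * relF4.nWordU (F := K) (wOf i) * u = u₁' * h' * relF4.nWordU (F := K) (wOf i') * u' :=
    congrArg (fun z : ↥(tF4 K (2 ^ m)) => (z : GL cdF4.D.Idx K)) e
  have hb : u₁ * h ∈ cdF4.D.borelSubgroup K :=
    Subgroup.mul_mem _ (Subgroup.mem_sup_left hu₁) (Subgroup.mem_sup_right hh)
  have hb' : u₁' * h' ∈ cdF4.D.borelSubgroup K :=
    Subgroup.mul_mem _ (Subgroup.mem_sup_left hu₁') (Subgroup.mem_sup_right hh')
  have hnN : relF4.nWordU (F := K) (wOf i) ∈ cdF4.D.monomialSubgroup K := relF4.nWordU_mem _ (wOf_lt i)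
  have hnN' : relF4.nWordU (F := K) (wOf i') ∈ cdF4.D.monomialSubgroup K := relF4.nWordU_mem _ (wOf_lt i')
  obtain ⟨hq, huniq⟩ := bru2 _ _ _ _ _ _ hb hb' hnN hnN' hu hu' e'
  have hii : i = i' := by
    apply wOf_inj
    rw [permOf_eq_iff]
    intro s hs
    refine (relF4.reflW_eq_of_coset (F := K) bnF4.dec (wOf i') (wOf i) (wOf_lt i') (wOf_lt i)
      (relF4.nWordU (F := K) (wOf i) * ((relF4.nWordU (F := K) (wOf i))⁻¹ * relF4.nWordU (F := K) (wOf i')) *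
        (relF4.nWordU (F := K) (wOf i))⁻¹) (monoF4.conj_mem _ hnN _ hq) (by group) s hs).symm
  subst hii
  obtain ⟨eb, eu⟩ := huniq rfl
  have hmem : u₁'⁻¹ * u₁ ∈ cdF4.D.posUnipotent K ⊓ cdF4.D.diagonalSubgroup K := by
    refine ⟨Subgroup.mul_mem _ (Subgroup.inv_mem _ hu₁') hu₁, ?_⟩
    have : u₁'⁻¹ * u₁ = h' * h⁻¹ := by
      rw [inv_mul_eq_iff_eq_mul, ← mul_assoc, ← eb, mul_inv_cancel_right]
    rw [this]
    exact Subgroup.mul_mem _ hh' (Subgroup.inv_mem _ hh)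
  rw [hdisj, Subgroup.mem_bot] at hmem
  have eu₁ : u₁ = u₁' := (inv_mul_eq_one.mp hmem).symm
  subst eu₁
  have eh : h = h' := mul_left_cancel eb
  subst eh
  subst eu
  rfl

end

end Cfsg.Agent.Lib.Helper3.RF4
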