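import Mathlib
import Cfsg.Prelude.Def_ChevStructure
import Cfsg.Prelude.Def_ChevF4
import Cfsg.Prelude.Def_LieTwisted
import Cfsg.Agent.Lib.Helper3.F4T17
set_option autoImplicit false
set_option linter.unusedSectionVars false
set_option linter.style.haveILetI false
set_option maxRecDepth 1000000
open Cfsg Cfsg.Lie

/-!
The order of the twisted group of type `F₄` (end of the computation).
-/

namespace Cfsg.Agent.Lib.Helper3.RF4

open Cfsg.Agent.Lib.Helper3.ChevM Cfsg.Agent.Lib.Helper3.ChevSp Cfsg.Agent.Lib.Helper3.ChevAt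
open Cfsg.Agent.Lib.Helper3 ChevU

theorem sum_lenOf (q : ℕ) : ∑ i : Fin 16, q ^ lenOf i = (1 + q) * (1 + q ^ 2) * (1 + q ^ 3) * (1 + q ^ 6) := by
  simp [Fin.sum_univ_succ, lenOf]
  ring

theorem order_arith (q : ℕ) (hq : 1 ≤ q) :
    q ^ 12 * (q - 1) ^ 2 * ((1 + q) * (1 + q ^ 2) * (1 + q ^ 3) * (1 + q ^ 6)) =
      q ^ 12 * (q - 1) * (q ^ 3 + 1) * (q ^ 4 - 1) * (q ^ 6 + 1) := by
  obtain ⟨p, rfl⟩ : ∃ p, q = p + 1 := ⟨q - 1, by omega⟩
  have e1 : p + 1 - 1 = p := by omega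
  have e2 : (p + 1) ^ 4 - 1 = p * ((1 + (p + 1)) * (1 + (p + 1) ^ 2)) := by
    apply Nat.sub_eq_of_eq_add
    ring
  rw [e1, e2]
  ring

section
variable {K : Type*} [Field K] [Fintype K] [CharP K 2]

/-- the order of the twisted group of type `F₄` -/
theorem card_tF4 (m : ℕ) (hK : Fintype.card K = 2 ^ (2 * m + 1)) :
    Nat.card ↥(tF4 K (2 ^ m)) =
      (2 ^ (2 * m + 1)) ^ 12 * (2 ^ (2 * m + 1) - 1) * ((2 ^ (2 * m + 1)) ^ 3 + 1) *
        ((2 ^ (2 * m + 1)) ^ 4 - 1) * ((2 ^ (2 * m + 1)) ^ 6 + 1) := by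
  classical
  have hbij : Function.Bijective (nfMap (K := K) m hK) := ⟨nfMap_injective m hK, nfMap_surjective m hK⟩
  rw [← Nat.card_congr (Equiv.ofBijective _ hbij)]
  haveI : Finite (GL cdF4.D.Idx K) := inferInstance
  rw [Nat.card_sigma]
  have e : ∀ i : Fin 16, Nat.card (↥(cdF4.D.posUnipotent K ⊓ tF4 K (2 ^ m)) ×
      ↥(cdF4.D.diagonalSubgroup K ⊓ tF4 K (2 ^ m)) × ↥((f4Tw (K := K) m).fixU (wOf i))) =
      (2 ^ (2 * m + 1)) ^ 12 * (2 ^ (2 * m + 1) - 1) ^ 2 * (2 ^ (2 * m + 1)) ^ lenOf i := by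
    intro i
    rw [Nat.card_prod, Nat.card_prod, card_pos_inf_tF4 m hK, card_diag_inf_tF4 m hK, card_fixU_wOf m hK i,
      mul_assoc]
  rw [Finset.sum_congr rfl (fun i _ => e i), ← Finset.mul_sum, sum_lenOf]
  exact order_arith _ Nat.one_le_two_pow

end

end Cfsg.Agent.Lib.Helper3.RF4
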