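import Mathlib
import Cfsg.Agent.Lib.Helper1.TIDefs
import Cfsg.Agent.Lib.Helper1.TILA

set_option autoImplicit false
set_option linter.unusedVariables false
set_option linter.unusedSectionVars false

/-! Package NK of S3797: no two distinct commuting involutions act on `W` (trivially on `V`)
normalising an odd-order group `K₀` which acts trivially on `V` and non-trivially on `W`.
`no_klein_of` takes the statement of package FP (specialised to the data) as a hypothesis. -/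

namespace Cfsg.Agent.Lib.Helper3.TINK

open Cfsg.Agent.Lib.Helper1.TI

section

variable {𝒩 W V : Type*} [Group 𝒩] [Finite 𝒩] [AddCommGroup W] [Finite W] [AddCommGroup V]
  [DistribMulAction 𝒩 W] [DistribMulAction 𝒩 V] (q : QMap W V)

/-- an involution on `W`, trivial on `V` and non-trivial on `W`, inverts the image of `K₀` in
`Perm W`. -/
theorem inverts_of
    (hequiv : ∀ (n : 𝒩) (w : W), q.sq (n • w) = n • q.sq w)
    (hFP : ∀ k : 𝒩, Odd (orderOf k) → (∀ v : V, k • v = v) → (∃ w : W, k • w ≠ w) →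
      ∀ w : W, k • w = w → w = 0)
    (K₀ : Subgroup 𝒩) [K₀.Normal] (hK₀odd : Odd (Nat.card K₀))
    (hK₀V : ∀ k ∈ K₀, ∀ v : V, k • v = v)
    (t : 𝒩) (htV : ∀ v : V, t • v = v) (ht2 : ∀ w : W, t • t • w = w)
    (ht : ∃ w : W, t • w ≠ w) :
    ∀ k ∈ K₀, ∀ w : W, t • k • t • w = k⁻¹ • w := by
  classical
  set ρ : 𝒩 →* Equiv.Perm W := MulAction.toPermHom 𝒩 W with hρ
  have hρa : ∀ (g : 𝒩) (w : W), ρ g w = g • w := fun g w => rfl
  set τ : Equiv.Perm W := ρ t with hτ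
  have hττ : τ * τ = 1 := by
    ext w
    simp only [Equiv.Perm.mul_apply, Equiv.Perm.one_apply, hτ, hρa, ht2]
  have hτinv : τ⁻¹ = τ := inv_eq_of_mul_eq_one_right hττ
  set K : Subgroup (Equiv.Perm W) := K₀.map ρ with hK
  -- elements of `K` commuting with `τ` are trivial
  have hcent : ∀ a ∈ K, a * τ = τ * a → a = 1 := by
    intro a ha hcomm
    obtain ⟨k, hk, rfl⟩ := ha
    by_contra hne
    have hkW : ∃ w : W, k • w ≠ w := by
      by_contra hall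
      push Not at hall
      apply hne
      ext w
      rw [hρa, hall, Equiv.Perm.one_apply]
    have hodd : Odd (orderOf k) :=
      Odd.of_dvd_nat hK₀odd (Subgroup.orderOf_dvd_natCard K₀ hk)
    have hfpf := hFP k hodd (hK₀V k hk) hkW
    have hc : ∀ w : W, k • t • w = t • k • w := by
      intro w
      have := congrArg (fun f : Equiv.Perm W => f w) hcomm
      simpa only [Equiv.Perm.mul_apply, hτ, hρa] using this
    have htriv := Cfsg.Agent.Lib.Helper1.TILA.trivial_of_commute_fpf q hequiv t k htV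
      (hK₀V k hk) ht2 hc hfpf
    obtain ⟨w, hw⟩ := ht
    exact hw (htriv w)
  -- `τ` normalises `K`
  have hnorm : ∀ a ∈ K, τ * a * τ⁻¹ ∈ K := by
    intro a ha
    obtain ⟨k, hk, rfl⟩ := ha
    refine ⟨t * k * t⁻¹, ‹K₀.Normal›.conj_mem k hk t, ?_⟩
    rw [map_mul, map_mul, map_inv]
  -- the map `a ↦ a⁻¹ * (τ a τ⁻¹)` on `K`
  let φ : K → K := fun a => ⟨(a : Equiv.Perm W)⁻¹ * (τ * a * τ⁻¹),
    K.mul_mem (K.inv_mem a.2) (hnorm a a.2)⟩
  have hφinj : Function.Injective φ := by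
    intro a b hab
    have h1 : (a : Equiv.Perm W)⁻¹ * (τ * a * τ⁻¹) = (b : Equiv.Perm W)⁻¹ * (τ * b * τ⁻¹) :=
      congrArg Subtype.val hab
    have h2 : ((b : Equiv.Perm W) * (a : Equiv.Perm W)⁻¹) * τ =
        τ * ((b : Equiv.Perm W) * (a : Equiv.Perm W)⁻¹) := by
      have h3 : (b : Equiv.Perm W) * ((a : Equiv.Perm W)⁻¹ * (τ * a * τ⁻¹)) * τ * (a : Equiv.Perm W)⁻¹ =
          (b : Equiv.Perm W) * ((b : Equiv.Perm W)⁻¹ * (τ * b * τ⁻¹)) * τ * (a : Equiv.Perm W)⁻¹ := by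
        rw [h1]
      have e1 : (b : Equiv.Perm W) * ((a : Equiv.Perm W)⁻¹ * (τ * a * τ⁻¹)) * τ * (a : Equiv.Perm W)⁻¹ =
          ((b : Equiv.Perm W) * (a : Equiv.Perm W)⁻¹) * τ := by group
      have e2 : (b : Equiv.Perm W) * ((b : Equiv.Perm W)⁻¹ * (τ * b * τ⁻¹)) * τ * (a : Equiv.Perm W)⁻¹ =
          τ * ((b : Equiv.Perm W) * (a : Equiv.Perm W)⁻¹) := by group
      rw [e1, e2] at h3
      exact h3
    have h4 := hcent _ (K.mul_mem b.2 (K.inv_mem a.2)) h2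
    have h5 : (b : Equiv.Perm W) = a := mul_inv_eq_one.mp h4
    exact Subtype.ext h5.symm
  have hφsurj : Function.Surjective φ := Finite.surjective_of_injective hφinj
  have hinv : ∀ c ∈ K, τ * c * τ⁻¹ = c⁻¹ := by
    intro c hc
    obtain ⟨a, ha⟩ := hφsurj ⟨c, hc⟩
    have hc' : c = (a : Equiv.Perm W)⁻¹ * (τ * a * τ⁻¹) := (congrArg Subtype.val ha).symm
    rw [hc', hτinv]
    have e1 : τ * ((a : Equiv.Perm W)⁻¹ * (τ * a * τ)) * τ =
        τ * (a : Equiv.Perm W)⁻¹ * τ * a * (τ * τ) := by group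
    have e2 : ((a : Equiv.Perm W)⁻¹ * (τ * a * τ))⁻¹ = τ⁻¹ * (a : Equiv.Perm W)⁻¹ * τ⁻¹ * a := by
      group
    rw [e1, e2, hττ, hτinv, mul_one]
  intro k hk w
  have h := hinv (ρ k) ⟨k, hk, rfl⟩
  rw [hτinv] at h
  have := congrArg (fun f : Equiv.Perm W => f w) h
  simpa only [Equiv.Perm.mul_apply, hτ, hρa, ← map_inv] using this

theorem no_klein_of [Finite V]
    (hequiv : ∀ (n : 𝒩) (w : W), q.sq (n • w) = n • q.sq w)
    (hFP : ∀ k : 𝒩, Odd (orderOf k) → (∀ v : V, k • v = v) → (∃ w : W, k • w ≠ w) →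
      ∀ w : W, k • w = w → w = 0)
    (K₀ : Subgroup 𝒩) [K₀.Normal] (hK₀odd : Odd (Nat.card K₀))
    (hK₀V : ∀ k ∈ K₀, ∀ v : V, k • v = v) (hK₀W : ∃ k ∈ K₀, ∃ w : W, k • w ≠ w)
    (t₁ t₂ : 𝒩) (h₁V : ∀ v : V, t₁ • v = v) (h₂V : ∀ v : V, t₂ • v = v)
    (h₁2 : ∀ w : W, t₁ • t₁ • w = w) (h₂2 : ∀ w : W, t₂ • t₂ • w = w)
    (h12 : ∀ w : W, t₁ • t₂ • w = t₂ • t₁ • w)
    (h₁ : ∃ w : W, t₁ • w ≠ w) (h₂ : ∃ w : W, t₂ • w ≠ w) (h₃ : ∃ w : W, t₁ • w ≠ t₂ • w) :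
    False := by
  have hi1 := inverts_of q hequiv hFP K₀ hK₀odd hK₀V t₁ h₁V h₁2 h₁
  have hi2 := inverts_of q hequiv hFP K₀ hK₀odd hK₀V t₂ h₂V h₂2 h₂
  obtain ⟨k, hk, hkW⟩ := hK₀W
  have hodd : Odd (orderOf k) :=
    Odd.of_dvd_nat hK₀odd (Subgroup.orderOf_dvd_natCard K₀ hk)
  have hfpf := hFP k hodd (hK₀V k hk) hkW
  -- `t₁ t₂` commutes with `k` on `W`
  have hkinv : k⁻¹ ∈ K₀ := K₀.inv_mem hk
  have hcomm : ∀ w : W, k • (t₁ * t₂) • w = (t₁ * t₂) • k • w := by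
    intro w
    -- t₁ t₂ k t₂ t₁ w' = k w'  with w' := t₁ t₂ w ... use the two inversions
    have e2 := hi2 k hk (t₂ • k⁻¹ • w)
    -- e2 : t₂ • k • t₂ • t₂ • k⁻¹ • w = k⁻¹ • t₂ • k⁻¹ • w
    rw [h₂2, smul_inv_smul] at e2
    -- e2 : t₂ • w = k⁻¹ • t₂ • k⁻¹ • w
    have e2' : t₂ • k • w = k⁻¹ • t₂ • w := by
      have := hi2 k hk (t₂ • k • w)
      -- t₂ • k • t₂ • t₂ • k • w = k⁻¹ • t₂ • k • w
      rw [h₂2] at this
      -- t₂ • k • k • w = k⁻¹ • t₂ • k • w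
      have e3 := hi2 k hk (t₂ • w)
      rw [h₂2] at e3
      -- e3 : t₂ • k • w = k⁻¹ • t₂ • w
      exact e3
    have e1' : ∀ u : W, t₁ • k⁻¹ • u = k • t₁ • u := by
      intro u
      have e3 := hi1 k⁻¹ hkinv (t₁ • u)
      rw [h₁2, inv_inv] at e3
      exact e3
    rw [mul_smul, mul_smul, e2', e1']
  have htV : ∀ v : V, (t₁ * t₂) • v = v := fun v => by rw [mul_smul, h₂V, h₁V]
  have ht2 : ∀ w : W, (t₁ * t₂) • (t₁ * t₂) • w = w := by
    intro w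
    rw [mul_smul, mul_smul, ← h12 (t₂ • w), h₂2, h₁2]
  have htriv := Cfsg.Agent.Lib.Helper1.TILA.trivial_of_commute_fpf q hequiv (t₁ * t₂) k htV
    (hK₀V k hk) ht2 hcomm hfpf
  obtain ⟨w, hw⟩ := h₃
  apply hw
  have := htriv (t₂ • w)
  rw [mul_smul, h₂2] at this
  exact this

end

end Cfsg.Agent.Lib.Helper3.TINK
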