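import Mathlib
import Cfsg.Agent.Lib.Helper3.TINK
import Cfsg.Agent.Lib.Helper9.TIFP

set_option autoImplicit false
set_option linter.unusedVariables false
set_option linter.unusedSectionVars false

/-! Package NK of S3797, exact skeleton statement (FP = `Helper9.TIFP.fpf_of_odd`). -/

namespace Cfsg.Agent.Lib.Helper3.TINK

open Cfsg.Agent.Lib.Helper1.TI

theorem no_klein {𝒩 W V : Type*} [Group 𝒩] [Finite 𝒩] [AddCommGroup W] [Finite W] [AddCommGroup V]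
    [Finite V] [DistribMulAction 𝒩 W] [DistribMulAction 𝒩 V] (q : QMap W V)
    (hequiv : ∀ (n : 𝒩) (w : W), q.sq (n • w) = n • q.sq w)
    (hcard : Nat.card W = Nat.card V ^ 2) (hnd : Nondeg q ⊤)
    (K₀ : Subgroup 𝒩) [K₀.Normal] (hK₀odd : Odd (Nat.card K₀))
    (hK₀V : ∀ k ∈ K₀, ∀ v : V, k • v = v) (hK₀W : ∃ k ∈ K₀, ∃ w : W, k • w ≠ w)
    (t₁ t₂ : 𝒩) (h₁V : ∀ v : V, t₁ • v = v) (h₂V : ∀ v : V, t₂ • v = v)
    (h₁2 : ∀ w : W, t₁ • t₁ • w = w) (h₂2 : ∀ w : W, t₂ • t₂ • w = w)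
    (h12 : ∀ w : W, t₁ • t₂ • w = t₂ • t₁ • w)
    (h₁ : ∃ w : W, t₁ • w ≠ w) (h₂ : ∃ w : W, t₂ • w ≠ w) (h₃ : ∃ w : W, t₁ • w ≠ t₂ • w) :
    False :=
  no_klein_of q hequiv
    (fun k hkodd hkV hk => Cfsg.Agent.Lib.Helper9.TIFP.fpf_of_odd q hequiv hcard hnd k hkodd hkV hk)
    K₀ hK₀odd hK₀V hK₀W t₁ t₂ h₁V h₂V h₁2 h₂2 h12 h₁ h₂ h₃

end Cfsg.Agent.Lib.Helper3.TINK
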