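import Mathlib
import Cfsg.Prelude.Def_ChevStructure
import Cfsg.Agent.Lib.Helper3.Cox3
set_option autoImplicit false
open Cfsg Cfsg.Lie

/-! Words in a Coxeter group compared through the action on the roots; the centre of the Weyl group; generation
by a Coxeter element and reflections. -/

namespace Cfsg.Agent.Lib.Helper3.ChevM

open Cox

/-- A word of natural numbers as a word of indices (letters out of range are dropped). -/
def toFin (n : ℕ) (l : List ℕ) : List (Fin n) := l.filterMap fun i => if h : i < n then some ⟨i, h⟩ else none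

theorem lw_toFin (n : ℕ) (l : List ℕ) (h : ∀ i ∈ l, i < n) : lw (toFin n l) = l := by
  induction l with
  | nil => rfl
  | cons a l ih =>
    have ha : a < n := h a List.mem_cons_self
    have hl : ∀ i ∈ l, i < n := fun i hi => h i (List.mem_cons_of_mem _ hi)
    unfold toFin
    rw [List.filterMap_cons_some (b := ⟨a, ha⟩) (by simp [ha])]
    rw [lw_cons]
    congr 1
    exact ih hl

theorem toFin_append (n : ℕ) (a b : List ℕ) : toFin n (a ++ b) = toFin n a ++ toFin n b := List.filterMap_append

theorem toFin_reverse (n : ℕ) (a : List ℕ) : toFin n a.reverse = (toFin n a).reverse := List.filterMap_reverse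

theorem toFin_flatten_replicate (n : ℕ) (a : List ℕ) (m : ℕ) :
    toFin n (List.replicate m a).flatten = (List.replicate m (toFin n a)).flatten := by
  induction m with
  | zero => rfl
  | succ m ih => rw [List.replicate_succ, List.flatten_cons, toFin_append, ih, List.replicate_succ, List.flatten_cons]

theorem toFin_lw {n : ℕ} (ω : List (Fin n)) : toFin n (lw ω) = ω := by
  induction ω with
  | nil => rfl
  | cons a ω ih =>
    rw [lw_cons]
    unfold toFin
    rw [List.filterMap_cons_some (b := a) (by simp)]
    congr 1

section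
variable {C : CDatum} {R : RelData C} (M : MonoHyp C R)
  (hdec : ∀ r < C.D.nroots, ∀ s < C.D.nroots, hdecCheck C.D R.pair r s = true)
  (hsign : ∀ r < C.D.nroots, signCheck C.D r = true)
  (X : CoxeterMatrix (Fin C.D.rank))
  (hX : ∀ i j : Fin C.D.rank, wordOrdCheck C.D R.refl [i.val, j.val] (X i j) = true)

include M hdec hsign hX in
/-- Two words have the same product in the Coxeter group iff they act in the same way on the roots. -/
theorem MonoHyp.cox_wp_eq_iff (ω ω' : List (Fin C.D.rank)) :
    Cox.wp X.simple ω = Cox.wp X.simple ω' ↔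
      ∀ s < C.D.nroots, reflW R.refl (lw ω) s = reflW R.refl (lw ω') s := by
  rw [← R.wperm_eq_iff _ _ (lw_lt _) (lw_lt _), ← M.wp_sW_eq_iff]
  set e := M.coxEquiv hdec hsign X hX
  have key : ∀ τ : List (Fin C.D.rank), e (Cox.wp M.sW τ) = Cox.wp X.simple τ := by
    intro τ
    have := map_wp e.toMonoidHom M.sW τ
    show e.toMonoidHom (Cox.wp M.sW τ) = _
    rw [this]
    unfold Cox.wp
    congr 1
    apply List.map_congr_left
    intro i _
    exact M.coxEquiv_apply hdec hsign X hX i
  rw [← key, ← key]
  exact e.injective.eq_iff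

include M hdec hsign hX in
theorem MonoHyp.cox_wp_toFin_eq_iff (w w' : List ℕ) (hw : ∀ i ∈ w, i < C.D.rank) (hw' : ∀ i ∈ w', i < C.D.rank) :
    Cox.wp X.simple (toFin C.D.rank w) = Cox.wp X.simple (toFin C.D.rank w') ↔
      ∀ s < C.D.nroots, reflW R.refl w s = reflW R.refl w' s := by
  rw [M.cox_wp_eq_iff hdec hsign X hX, lw_toFin _ _ hw, lw_toFin _ _ hw']

theorem cox_simple_mul_self (i : Fin C.D.rank) : X.simple i * X.simple i = 1 := by
  have := X.toCoxeterSystem.simple_mul_simple_self i
  rwa [CoxeterMatrix.toCoxeterSystem_simple] at this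

theorem cox_exists_word (g : X.Group) : ∃ ω : List (Fin C.D.rank), Cox.wp X.simple ω = g := by
  obtain ⟨ω, hω⟩ := X.toCoxeterSystem.wordProd_surjective g
  refine ⟨ω, ?_⟩
  rw [← hω]
  unfold Cox.wp CoxeterSystem.wordProd
  simp only [CoxeterMatrix.toCoxeterSystem_simple]

theorem cox_closure_simple : Subgroup.closure (Set.range X.simple) = ⊤ := by
  have := X.toCoxeterSystem.subgroup_closure_range_simple
  simpa only [CoxeterMatrix.toCoxeterSystem_simple] using this

end

/-! ### Generation by a Coxeter element and reflections -/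

/-- Expansion of a word in the letters `0` (the word `cw`), `1` (its reverse), `k + 2` (the `k`-th word of `ts`). -/
def expandL (cw : List ℕ) (ts : List (List ℕ)) : List ℕ → List ℕ
  | [] => []
  | 0 :: l => cw ++ expandL cw ts l
  | 1 :: l => cw.reverse ++ expandL cw ts l
  | (k + 2) :: l => ts.getD k [] ++ expandL cw ts l

/-- Every fundamental reflection is a word in `cw`, its inverse and the words of `ts`. -/
def genWeylCheck (D : ChevalleyDatum) (refl : ℕ → ℕ → ℕ) (cw : List ℕ) (ts : List (List ℕ)) (prog : ℕ → List ℕ) : Bool :=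
  (cw.all fun i => decide (i < D.rank)) && (ts.all fun t => t.all fun i => decide (i < D.rank)) &&
    (List.range D.rank).all fun i => ((prog i).all fun k => decide (k < ts.length + 2)) &&
      (List.range D.nroots).all fun s => decide (reflW refl (expandL cw ts (prog i)) s = refl i s)

section
variable {C : CDatum} {R : RelData C} (M : MonoHyp C R)
  (hdec : ∀ r < C.D.nroots, ∀ s < C.D.nroots, hdecCheck C.D R.pair r s = true)
  (hsign : ∀ r < C.D.nroots, signCheck C.D r = true)
  (X : CoxeterMatrix (Fin C.D.rank))
  (hX : ∀ i j : Fin C.D.rank, wordOrdCheck C.D R.refl [i.val, j.val] (X i j) = true)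

theorem expandL_lt (cw : List ℕ) (ts : List (List ℕ)) (n : ℕ) (hcw : ∀ i ∈ cw, i < n)
    (hts : ∀ t ∈ ts, ∀ i ∈ t, i < n) (L : List ℕ) : ∀ i ∈ expandL cw ts L, i < n := by
  induction L with
  | nil => intro i hi; simp [expandL] at hi
  | cons a L ih =>
    intro i hi
    match a, hi with
    | 0, hi =>
      rcases List.mem_append.mp hi with h | h
      · exact hcw i h
      · exact ih i h
    | 1, hi =>
      rcases List.mem_append.mp hi with h | h
      · exact hcw i (List.mem_reverse.mp h)
      · exact ih i h
    | k + 2, hi =>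
      rcases List.mem_append.mp hi with h | h
      · by_cases hk : k < ts.length
        · rw [List.getD_eq_getElem _ _ hk] at h
          exact hts _ (List.getElem_mem hk) i h
        · rw [List.getD_eq_default _ _ (by omega)] at h
          simp at h
      · exact ih i h

theorem expandL_mem_closure (cw : List ℕ) (ts : List (List ℕ)) (S : Set X.Group)
    (hc : Cox.wp X.simple (toFin C.D.rank cw) ∈ Subgroup.closure S)
    (ht : ∀ t ∈ ts, Cox.wp X.simple (toFin C.D.rank t) ∈ Subgroup.closure S) (L : List ℕ) :
    Cox.wp X.simple (toFin C.D.rank (expandL cw ts L)) ∈ Subgroup.closure S := by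
  induction L with
  | nil => simp [expandL, toFin]
  | cons a L ih =>
    match a with
    | 0 =>
      rw [expandL, toFin_append, wp_append]
      exact Subgroup.mul_mem _ hc ih
    | 1 =>
      rw [expandL, toFin_append, wp_append, toFin_reverse, wp_reverse (cox_simple_mul_self X)]
      exact Subgroup.mul_mem _ (Subgroup.inv_mem _ hc) ih
    | k + 2 =>
      rw [expandL, toFin_append, wp_append]
      refine Subgroup.mul_mem _ ?_ ih
      by_cases hk : k < ts.length
      · rw [List.getD_eq_getElem _ _ hk]
        exact ht _ (List.getElem_mem hk)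
      · rw [List.getD_eq_default _ _ (by omega)]
        simp [toFin]

include M hdec hsign hX in
/-- The Coxeter group is generated by the product of `cw` and the products of the words of `ts`. -/
theorem MonoHyp.closure_eq_top_of_genWeylCheck (cw : List ℕ) (ts : List (List ℕ)) (prog : ℕ → List ℕ)
    (h : genWeylCheck C.D R.refl cw ts prog = true) (S : Set X.Group)
    (hc : Cox.wp X.simple (toFin C.D.rank cw) ∈ Subgroup.closure S)
    (ht : ∀ t ∈ ts, Cox.wp X.simple (toFin C.D.rank t) ∈ Subgroup.closure S) :
    Subgroup.closure S = ⊤ := by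
  simp only [genWeylCheck, Bool.and_eq_true, List.all_eq_true, decide_eq_true_eq, List.mem_range] at h
  obtain ⟨⟨hcw, hts⟩, hprog⟩ := h
  rw [eq_top_iff, ← cox_closure_simple X, Subgroup.closure_le]
  rintro _ ⟨i, rfl⟩
  obtain ⟨-, hi⟩ := hprog i.val i.isLt
  have hlt := expandL_lt cw ts C.D.rank hcw hts (prog i.val)
  have e : Cox.wp X.simple (toFin C.D.rank (expandL cw ts (prog i.val))) = Cox.wp X.simple (toFin C.D.rank [i.val]) := by
    rw [M.cox_wp_toFin_eq_iff hdec hsign X hX _ _ hlt (by intro j hj; rw [List.mem_singleton.mp hj]; exact i.isLt)]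
    intro s hs
    rw [hi s hs]
    rfl
  have e2 : Cox.wp X.simple (toFin C.D.rank [i.val]) = X.simple i := by
    have : toFin C.D.rank [i.val] = [i] := toFin_lw [i]
    rw [this, wp_singleton]
  rw [SetLike.mem_coe, ← e2, ← e]
  exact expandL_mem_closure X cw ts S hc ht _

end

end Cfsg.Agent.Lib.Helper3.ChevM
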