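import Mathlib
import Cfsg.Prelude.Def_ChevStructure
import Cfsg.Agent.Lib.Helper3.Cox4
set_option autoImplicit false
open Cfsg Cfsg.Lie

/-! Generation of the Weyl group by a Coxeter element and reflections: the final form. -/

namespace Cfsg.Agent.Lib.Helper3.ChevM

open Cox

theorem toFin_range (n : ℕ) : toFin n (List.range n) = List.finRange n := by
  have : lw (List.finRange n) = List.range n := List.map_coe_finRange_eq_range
  rw [← this, toFin_lw]

section
variable {C : CDatum} {R : RelData C} (M : MonoHyp C R)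
  (hdec : ∀ r < C.D.nroots, ∀ s < C.D.nroots, hdecCheck C.D R.pair r s = true)
  (hsign : ∀ r < C.D.nroots, signCheck C.D r = true)
  (X : CoxeterMatrix (Fin C.D.rank))
  (hX : ∀ i j : Fin C.D.rank, wordOrdCheck C.D R.refl [i.val, j.val] (X i j) = true)

theorem cox_wp_conj (g : List ℕ) (i : Fin C.D.rank) :
    Cox.wp X.simple (toFin C.D.rank (g ++ [i.val] ++ g.reverse)) =
      Cox.wp X.simple (toFin C.D.rank g) * X.simple i * (Cox.wp X.simple (toFin C.D.rank g))⁻¹ := by
  rw [toFin_append, toFin_append, wp_append, wp_append, toFin_reverse, wp_reverse (cox_simple_mul_self X)]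
  have : toFin C.D.rank [i.val] = [i] := toFin_lw [i]
  rw [this, wp_singleton]

include M hdec hsign hX in
/-- The Coxeter group is generated by the Coxeter element and the listed reflections. -/
theorem MonoHyp.exists_gen_coxeter (tsg : List (List ℕ × ℕ)) (prog : ℕ → List ℕ)
    (h : genWeylCheck C.D R.refl (List.range C.D.rank) (tsg.map fun p => p.1 ++ [p.2] ++ p.1.reverse) prog = true)
    (hi : ∀ p ∈ tsg, p.2 < C.D.rank)
    (hnd : (tsg.map fun p => Cox.wp X.simple (toFin C.D.rank (p.1 ++ [p.2] ++ p.1.reverse))).Nodup) :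
    ∃ T : Finset X.Group, T.card = tsg.length ∧
      (∀ t ∈ T, ∃ (g : X.Group) (i : Fin C.D.rank), t = g * X.simple i * g⁻¹) ∧
      Subgroup.closure (({((List.finRange C.D.rank).map X.simple).prod} : Set X.Group) ∪ ↑T) = ⊤ := by
  classical
  refine ⟨(tsg.map fun p => Cox.wp X.simple (toFin C.D.rank (p.1 ++ [p.2] ++ p.1.reverse))).toFinset, ?_, ?_, ?_⟩
  · rw [List.toFinset_card_of_nodup hnd, List.length_map]
  · intro t ht
    rw [List.mem_toFinset, List.mem_map] at ht
    obtain ⟨p, hp, rfl⟩ := ht
    refine ⟨Cox.wp X.simple (toFin C.D.rank p.1), ⟨p.2, hi p hp⟩, ?_⟩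
    exact cox_wp_conj X p.1 ⟨p.2, hi p hp⟩
  · apply M.closure_eq_top_of_genWeylCheck hdec hsign X hX _ _ prog h
    · apply Subgroup.subset_closure
      left
      rw [Set.mem_singleton_iff, toFin_range]
      rfl
    · intro t ht
      apply Subgroup.subset_closure
      right
      rw [List.mem_map] at ht
      obtain ⟨p, hp, rfl⟩ := ht
      rw [Finset.mem_coe, List.mem_toFinset, List.mem_map]
      exact ⟨p, hp, rfl⟩

end

end Cfsg.Agent.Lib.Helper3.ChevM
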