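import Mathlib
import Cfsg.Prelude.Def_ChevStructure
import Cfsg.Agent.Lib.Helper3.Cox5
set_option autoImplicit false
open Cfsg Cfsg.Lie

/-! The centre of the Weyl group of a Chevalley datum, as a Coxeter group. -/

namespace Cfsg.Agent.Lib.Helper3.ChevM

open Cox

/-- `w_{p_i}(s) = -s` only for `s = ± p_i`. -/
def reflNegCheck (D : ChevalleyDatum) (refl : ℕ → ℕ → ℕ) (i s : ℕ) : Bool :=
  !decide (refl i s = D.neg s) || decide (s = D.simple i) || decide (s = D.neg (D.simple i))

/-- Invariance of the pairing under the fundamental reflections. -/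
def pairInvCheck (pair : ℕ → ℕ → ℤ) (refl : ℕ → ℕ → ℕ) (i r s : ℕ) : Bool :=
  decide (pair (refl i r) (refl i s) = pair r s)

/-- The pairing of fundamental roots changes sign with either argument. -/
def pairNegCheck (D : ChevalleyDatum) (pair : ℕ → ℕ → ℤ) (i j : ℕ) : Bool :=
  decide (pair (D.simple i) (D.neg (D.simple j)) = - pair (D.simple i) (D.simple j)) &&
    decide (pair (D.neg (D.simple i)) (D.simple j) = - pair (D.simple i) (D.simple j))

/-- One step of the closure of a set of nodes of the Dynkin diagram under adjacency. -/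
def connStep (D : ChevalleyDatum) (pair : ℕ → ℕ → ℤ) (S : List ℕ) : List ℕ :=
  S ++ (List.range D.rank).filter fun j => S.any fun i => decide (pair (D.simple i) (D.simple j) ≠ 0)

/-- The nodes reached from the node `0` in at most `t` steps. -/
def connIter (D : ChevalleyDatum) (pair : ℕ → ℕ → ℤ) : ℕ → List ℕ
  | 0 => [0]
  | t + 1 => connStep D pair (connIter D pair t)

/-- The Dynkin diagram is connected. -/
def connCheck (D : ChevalleyDatum) (pair : ℕ → ℕ → ℤ) : Bool :=
  (List.range D.rank).all fun j => (connIter D pair D.rank).contains j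

theorem conn_induction (D : ChevalleyDatum) (pair : ℕ → ℕ → ℤ) (Q : ℕ → Prop) (h0 : Q 0)
    (hstep : ∀ i j, Q i → j < D.rank → pair (D.simple i) (D.simple j) ≠ 0 → Q j)
    (hc : connCheck D pair = true) : ∀ j < D.rank, Q j := by
  have key : ∀ t, ∀ j ∈ connIter D pair t, Q j := by
    intro t
    induction t with
    | zero =>
      intro j hj
      rw [connIter, List.mem_singleton] at hj
      rw [hj]; exact h0
    | succ t ih =>
      intro j hj
      rw [connIter, connStep, List.mem_append] at hj
      rcases hj with hj | hj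
      · exact ih j hj
      · rw [List.mem_filter, List.any_eq_true] at hj
        obtain ⟨hj1, i, hi, hp⟩ := hj
        exact hstep i j (ih i hi) (List.mem_range.mp hj1) (of_decide_eq_true hp)
  intro j hj
  simp only [connCheck, List.all_eq_true, List.mem_range, List.contains_iff_mem] at hc
  exact key _ j (hc j hj)

/-- The word `w` acts as `-1` on the roots. -/
def negWordCheck (D : ChevalleyDatum) (refl : ℕ → ℕ → ℕ) (w : List ℕ) : Bool :=
  (w.all fun i => decide (i < D.rank)) && (List.range D.nroots).all fun s => decide (reflW refl w s = D.neg s)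

/-- The word `w` followed by `-1` maps positive roots to positive roots, and is not the identity. -/
def noNegCheck (D : ChevalleyDatum) (refl : ℕ → ℕ → ℕ) (w : List ℕ) : Bool :=
  (w.all fun i => decide (i < D.rank)) &&
    ((List.range D.nroots).all fun s => !(decide (D.IsPosRoot s) && decide (D.IsNegRoot (D.neg (reflW refl w s))))) &&
    ((List.range D.nroots).any fun s => decide (D.neg (reflW refl w s) ≠ s))

theorem all_range2 (n : ℕ) (p : ℕ → ℕ → Bool)
    (h : ((List.range n).all fun r => (List.range n).all fun s => p r s) = true) :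
    ∀ r < n, ∀ s < n, p r s = true := by
  intro r hr s hs
  rw [List.all_eq_true] at h
  have := h r (List.mem_range.mpr hr)
  rw [List.all_eq_true] at this
  exact this s (List.mem_range.mpr hs)

theorem wp_pow' {B G : Type*} [Monoid G] (s : B → G) (ω : List B) (m : ℕ) :
    (Cox.wp s ω) ^ m = Cox.wp s (List.replicate m ω).flatten := by
  induction m with
  | zero => simp
  | succ m ih => rw [pow_succ', ih, List.replicate_succ, List.flatten_cons, wp_append]

section
variable {C : CDatum} {R : RelData C} (M : MonoHyp C R)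
  (hdec : ∀ r < C.D.nroots, ∀ s < C.D.nroots, hdecCheck C.D R.pair r s = true)
  (hsign : ∀ r < C.D.nroots, signCheck C.D r = true)
  (X : CoxeterMatrix (Fin C.D.rank))
  (hX : ∀ i j : Fin C.D.rank, wordOrdCheck C.D R.refl [i.val, j.val] (X i j) = true)

include R in
theorem RelData.refl_simple (i : ℕ) (hi : i < C.D.rank) : R.refl i (C.D.simple i) = C.D.neg (C.D.simple i) := by
  rw [R.refl_eq i hi _ (R.simple_lt i hi)]
  simp [ChevalleyDatum.reflectRoot]

include M hdec hsign in
/-- A word whose permutation makes no positive root negative is trivial. -/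
theorem MonoHyp.wp_eq_one_of_Nf_zero (ω : List (Fin C.D.rank))
    (h : Nf C.D (wperm C.D R.refl (lw ω)) = 0) : Cox.wp M.sW ω = 1 := by
  classical
  have hex : ∃ k, ∃ τ : List (Fin C.D.rank), τ.length = k ∧ Cox.wp M.sW τ = Cox.wp M.sW ω := ⟨_, ω, rfl, rfl⟩
  obtain ⟨τ, hτl, hτ⟩ := Nat.find_spec hex
  have hred : Red M.sW τ := by
    intro τ' hτ'
    rw [hτl]
    exact Nat.find_min' hex ⟨τ', rfl, hτ'.trans hτ⟩
  have h1 := M.Nf_of_red hdec hsign _ τ rfl hred
  rw [(M.wp_sW_eq_iff τ ω).mp hτ, h] at h1
  have : τ = [] := List.length_eq_zero_iff.mp h1.symm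
  rw [← hτ, this]
  rfl

include M hdec hsign hX in
/-- A central element of the Coxeter group is trivial or acts as `-1` on the roots. -/
theorem MonoHyp.center_dichotomy (hr : 0 < C.D.rank)
    (hT1 : ∀ i < C.D.rank, ∀ s < C.D.nroots, reflNegCheck C.D R.refl i s = true)
    (hT2 : ∀ i < C.D.rank, ∀ r < C.D.nroots, ∀ s < C.D.nroots, pairInvCheck R.pair R.refl i r s = true)
    (hT3 : ∀ i < C.D.rank, ∀ j < C.D.rank, pairNegCheck C.D R.pair i j = true)
    (hT4 : connCheck C.D R.pair = true)
    (z : X.Group) (hz : z ∈ Subgroup.center X.Group) :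
    z = 1 ∨ ∃ ω : List (Fin C.D.rank), Cox.wp X.simple ω = z ∧
      ∀ s < C.D.nroots, reflW R.refl (lw ω) s = C.D.neg s := by
  obtain ⟨ω, hω⟩ := cox_exists_word X z
  set w := lw ω with hw
  have hwl : ∀ i ∈ w, i < C.D.rank := lw_lt ω
  set f := reflW R.refl w with hf
  have F3 : ∀ s < C.D.nroots, f s < C.D.nroots := fun s hs => R.reflW_lt w hwl s hs
  have F2 : ∀ s < C.D.nroots, f (C.D.neg s) = C.D.neg (f s) := fun s hs => M.reflW_neg w hwl s hs
  have F1 : ∀ i < C.D.rank, ∀ s < C.D.nroots, f (R.refl i s) = R.refl i (f s) := by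
    intro i hi s hs
    have hcomm : Cox.wp X.simple (ω ++ [⟨i, hi⟩]) = Cox.wp X.simple (⟨i, hi⟩ :: ω) := by
      rw [wp_append, wp_singleton, wp_cons, hω]
      exact (Subgroup.mem_center_iff.mp hz (X.simple ⟨i, hi⟩)).symm
    have := (M.cox_wp_eq_iff hdec hsign X hX _ _).mp hcomm s hs
    rw [lw_append, lw_cons, lw_cons, lw_nil, reflW_append] at this
    exact this
  have F1' : ∀ l : List ℕ, (∀ i ∈ l, i < C.D.rank) → ∀ s < C.D.nroots, f (reflW R.refl l s) = reflW R.refl l (f s) := by
    intro l
    induction l with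
    | nil => intro _ s _; rfl
    | cons i l ih =>
      intro hl s hs
      have hl' : ∀ j ∈ l, j < C.D.rank := fun j hj => hl j (List.mem_cons_of_mem _ hj)
      show f (R.refl i (reflW R.refl l s)) = R.refl i (reflW R.refl l (f s))
      rw [F1 i (hl i List.mem_cons_self) _ (R.reflW_lt l hl' s hs), ih hl' s hs]
  -- images of the fundamental roots
  have S1 : ∀ i < C.D.rank, f (C.D.simple i) = C.D.simple i ∨ f (C.D.simple i) = C.D.neg (C.D.simple i) := by
    intro i hi
    have hp := R.simple_lt i hi
    have h1 : R.refl i (f (C.D.simple i)) = C.D.neg (f (C.D.simple i)) := by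
      rw [← F1 i hi _ hp, R.refl_simple i hi, F2 _ hp]
    have := hT1 i hi _ (F3 _ hp)
    simp only [reflNegCheck, Bool.or_eq_true, Bool.not_eq_true', decide_eq_false_iff_not, decide_eq_true_eq] at this
    rcases this with (h | h) | h
    · exact absurd h1 h
    · exact Or.inl h
    · exact Or.inr h
  -- invariance of the pairing
  have S2 : ∀ l : List ℕ, (∀ i ∈ l, i < C.D.rank) → ∀ r < C.D.nroots, ∀ s < C.D.nroots,
      R.pair (reflW R.refl l r) (reflW R.refl l s) = R.pair r s := by
    intro l
    induction l with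
    | nil => intro _ r _ s _; rfl
    | cons i l ih =>
      intro hl r hr s hs
      have hl' : ∀ j ∈ l, j < C.D.rank := fun j hj => hl j (List.mem_cons_of_mem _ hj)
      show R.pair (R.refl i (reflW R.refl l r)) (R.refl i (reflW R.refl l s)) = _
      have := hT2 i (hl i List.mem_cons_self) _ (R.reflW_lt l hl' r hr) _ (R.reflW_lt l hl' s hs)
      rw [pairInvCheck, decide_eq_true_eq] at this
      rw [this, ih hl' r hr s hs]
  have S2' : ∀ i < C.D.rank, ∀ j < C.D.rank,
      R.pair (f (C.D.simple i)) (f (C.D.simple j)) = R.pair (C.D.simple i) (C.D.simple j) :=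
    fun i hi j hj => S2 w hwl _ (R.simple_lt i hi) _ (R.simple_lt j hj)
  have S3 : ∀ i < C.D.rank, ∀ j < C.D.rank,
      R.pair (C.D.simple i) (C.D.neg (C.D.simple j)) = - R.pair (C.D.simple i) (C.D.simple j) ∧
      R.pair (C.D.neg (C.D.simple i)) (C.D.simple j) = - R.pair (C.D.simple i) (C.D.simple j) := by
    intro i hi j hj
    have := hT3 i hi j hj
    simpa only [pairNegCheck, Bool.and_eq_true, decide_eq_true_eq] using this
  -- every root is the image of a fundamental root
  have hroot : ∀ r < C.D.nroots, ∃ l : List ℕ, (∀ i ∈ l, i < C.D.rank) ∧ ∃ j < C.D.rank,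
      reflW R.refl l (C.D.simple j) = r := by
    intro r hr
    have := M.rwc r hr
    simp only [rootWordCheck, Bool.and_eq_true, List.all_eq_true, decide_eq_true_eq] at this
    exact ⟨_, this.1.1, _, this.1.2, this.2⟩
  rcases S1 0 hr with h0 | h0
  · -- all fundamental roots are fixed
    left
    have hall : ∀ j < C.D.rank, j < C.D.rank ∧ f (C.D.simple j) = C.D.simple j := by
      apply conn_induction C.D R.pair (fun j => j < C.D.rank ∧ f (C.D.simple j) = C.D.simple j) ⟨hr, h0⟩ ?_ hT4
      rintro i j ⟨hi, hfi⟩ hj hp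
      refine ⟨hj, ?_⟩
      rcases S1 j hj with h | h
      · exact h
      · exfalso
        have e := S2' i hi j hj
        rw [hfi, h, (S3 i hi j hj).1] at e
        apply hp
        omega
    have hfix : ∀ s < C.D.nroots, f s = s := by
      intro s hs
      obtain ⟨l, hl, j, hj, rfl⟩ := hroot s hs
      rw [F1' l hl _ (R.simple_lt j hj), (hall j hj).2]
    rw [← hω]
    have : Cox.wp X.simple ω = Cox.wp X.simple [] := by
      rw [M.cox_wp_eq_iff hdec hsign X hX]
      intro s hs
      exact hfix s hs
    rw [this]; rfl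
  · -- all fundamental roots are negated
    right
    have hall : ∀ j < C.D.rank, j < C.D.rank ∧ f (C.D.simple j) = C.D.neg (C.D.simple j) := by
      apply conn_induction C.D R.pair (fun j => j < C.D.rank ∧ f (C.D.simple j) = C.D.neg (C.D.simple j)) ⟨hr, h0⟩ ?_ hT4
      rintro i j ⟨hi, hfi⟩ hj hp
      refine ⟨hj, ?_⟩
      rcases S1 j hj with h | h
      · exfalso
        have e := S2' i hi j hj
        rw [hfi, h, (S3 i hi j hj).2] at e
        apply hp
        omega
      · exact h
    refine ⟨ω, hω, ?_⟩
    intro s hs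
    obtain ⟨l, hl, j, hj, rfl⟩ := hroot s hs
    show f _ = _
    rw [F1' l hl _ (R.simple_lt j hj), (hall j hj).2, M.reflW_neg l hl _ (R.simple_lt j hj)]

include M hdec hsign hX in
/-- The centre of the Coxeter group when `-1` is given by the word `w0`. -/
theorem MonoHyp.center_of_negWord (hr : 0 < C.D.rank)
    (hT1 : ∀ i < C.D.rank, ∀ s < C.D.nroots, reflNegCheck C.D R.refl i s = true)
    (hT2 : ∀ i < C.D.rank, ∀ r < C.D.nroots, ∀ s < C.D.nroots, pairInvCheck R.pair R.refl i r s = true)
    (hT3 : ∀ i < C.D.rank, ∀ j < C.D.rank, pairNegCheck C.D R.pair i j = true)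
    (hT4 : connCheck C.D R.pair = true)
    (w0 : List ℕ) (h0 : negWordCheck C.D R.refl w0 = true) :
    Cox.wp X.simple (toFin C.D.rank w0) ∈ Subgroup.center X.Group ∧
      Cox.wp X.simple (toFin C.D.rank w0) ≠ 1 ∧
      ∀ z ∈ Subgroup.center X.Group, z = 1 ∨ z = Cox.wp X.simple (toFin C.D.rank w0) := by
  simp only [negWordCheck, Bool.and_eq_true, List.all_eq_true, decide_eq_true_eq, List.mem_range] at h0
  obtain ⟨hw0, hneg⟩ := h0
  set z0 := Cox.wp X.simple (toFin C.D.rank w0) with hz0
  refine ⟨?_, ?_, ?_⟩
  · rw [Subgroup.mem_center_iff]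
    have hcent : Subgroup.centralizer {z0} = ⊤ := by
      rw [eq_top_iff, ← cox_closure_simple X, Subgroup.closure_le]
      rintro _ ⟨i, rfl⟩
      rw [SetLike.mem_coe, Subgroup.mem_centralizer_iff]
      intro h hh
      rw [Set.mem_singleton_iff] at hh
      subst hh
      have e : Cox.wp X.simple (toFin C.D.rank (w0 ++ [i.val])) = Cox.wp X.simple (toFin C.D.rank (i.val :: w0)) := by
        rw [M.cox_wp_toFin_eq_iff hdec hsign X hX]
        · intro s hs
          rw [reflW_append]
          show reflW R.refl w0 (R.refl i.val s) = R.refl i.val (reflW R.refl w0 s)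
          rw [hneg _ (R.refl_lt i.val i.isLt s hs), hneg s hs]
          have := M.nr i.val i.isLt s hs
          rw [negReflCheck, decide_eq_true_eq] at this
          exact this.symm
        · intro j hj
          rcases List.mem_append.mp hj with h | h
          · exact hw0 j h
          · rw [List.mem_singleton.mp h]; exact i.isLt
        · intro j hj
          rcases List.mem_cons.mp hj with h | h
          · rw [h]; exact i.isLt
          · exact hw0 j h
      have e1 : toFin C.D.rank [i.val] = [i] := toFin_lw [i]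
      rw [toFin_append, wp_append, e1, wp_singleton] at e
      rw [show i.val :: w0 = [i.val] ++ w0 from rfl, toFin_append, wp_append, e1, wp_singleton] at e
      exact e
    intro g
    have hg : g ∈ Subgroup.centralizer {z0} := by rw [hcent]; trivial
    exact (Subgroup.mem_centralizer_iff.mp hg z0 rfl).symm
  · intro h1
    have e : Cox.wp X.simple (toFin C.D.rank w0) = Cox.wp X.simple (toFin C.D.rank []) := by
      rw [← hz0, h1]; rfl
    rw [M.cox_wp_toFin_eq_iff hdec hsign X hX _ _ hw0 (by simp)] at e
    have hp := R.simple_lt 0 hr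
    have e0 := e _ hp
    rw [hneg _ hp] at e0
    have hs := (signCheck_spec (hsign _ hp)).1
    have : reflW R.refl [] (C.D.simple 0) = C.D.simple 0 := rfl
    rw [this] at e0
    rw [e0] at hs
    tauto
  · intro z hz
    rcases M.center_dichotomy hdec hsign X hX hr hT1 hT2 hT3 hT4 z hz with h | ⟨ω, hω, hneg'⟩
    · exact Or.inl h
    · right
      rw [← hω, hz0]
      have : ω = toFin C.D.rank (lw ω) := (toFin_lw ω).symm
      rw [this, M.cox_wp_toFin_eq_iff hdec hsign X hX _ _ (lw_lt ω) hw0]
      intro s hs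
      rw [hneg' s hs, hneg s hs]

include M hdec hsign hX in
/-- The order of the centre, and the centre as a power of the Coxeter element. -/
theorem MonoHyp.center_coxeter (hr : 0 < C.D.rank)
    (hT1 : ∀ i < C.D.rank, ∀ s < C.D.nroots, reflNegCheck C.D R.refl i s = true)
    (hT2 : ∀ i < C.D.rank, ∀ r < C.D.nroots, ∀ s < C.D.nroots, pairInvCheck R.pair R.refl i r s = true)
    (hT3 : ∀ i < C.D.rank, ∀ j < C.D.rank, pairNegCheck C.D R.pair i j = true)
    (hT4 : connCheck C.D R.pair = true) (m : ℕ)
    (h0 : negWordCheck C.D R.refl (List.replicate m (List.range C.D.rank)).flatten = true) :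
    Nat.card (Subgroup.center X.Group) = 2 ∧
      Subgroup.center X.Group ≤ Subgroup.zpowers ((List.finRange C.D.rank).map X.simple).prod := by
  obtain ⟨hc, hne, hall⟩ := M.center_of_negWord hdec hsign X hX hr hT1 hT2 hT3 hT4 _ h0
  set z0 := Cox.wp X.simple (toFin C.D.rank (List.replicate m (List.range C.D.rank)).flatten) with hz0
  have hz0c : z0 = (((List.finRange C.D.rank).map X.simple).prod) ^ m := by
    rw [hz0, toFin_flatten_replicate, ← wp_pow', toFin_range]
    rfl
  constructor
  · rw [Nat.card_eq_two_iff]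
    refine ⟨⟨1, Subgroup.one_mem _⟩, ⟨z0, hc⟩, ?_, ?_⟩
    · intro h
      exact hne (congrArg Subtype.val h).symm
    · ext ⟨z, hz⟩
      simp only [Set.mem_insert_iff, Set.mem_singleton_iff, Set.mem_univ, iff_true, Subtype.mk.injEq]
      exact hall z hz
  · intro z hz
    rcases hall z hz with h | h
    · rw [h]; exact Subgroup.one_mem _
    · rw [h, hz0c]
      exact Subgroup.npow_mem_zpowers _ m

include M hdec hsign hX in
/-- The centre is trivial when `-1` is not in the Weyl group. -/
theorem MonoHyp.center_coxeter_trivial (hr : 0 < C.D.rank)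
    (hT1 : ∀ i < C.D.rank, ∀ s < C.D.nroots, reflNegCheck C.D R.refl i s = true)
    (hT2 : ∀ i < C.D.rank, ∀ r < C.D.nroots, ∀ s < C.D.nroots, pairInvCheck R.pair R.refl i r s = true)
    (hT3 : ∀ i < C.D.rank, ∀ j < C.D.rank, pairNegCheck C.D R.pair i j = true)
    (hT4 : connCheck C.D R.pair = true)
    (w0 : List ℕ) (h0 : noNegCheck C.D R.refl w0 = true) :
    Nat.card (Subgroup.center X.Group) = 1 ∧
      Subgroup.center X.Group ≤ Subgroup.zpowers ((List.finRange C.D.rank).map X.simple).prod := by
  classical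
  simp only [noNegCheck, Bool.and_eq_true, List.all_eq_true, decide_eq_true_eq, List.mem_range,
    Bool.not_eq_true', Bool.and_eq_false_iff, decide_eq_false_iff_not, List.any_eq_true] at h0
  obtain ⟨⟨hw0, hpos⟩, s0, hs0, hne0⟩ := h0
  have hbot : Subgroup.center X.Group = ⊥ := by
    rw [eq_bot_iff]
    intro z hz
    rw [Subgroup.mem_bot]
    rcases M.center_dichotomy hdec hsign X hX hr hT1 hT2 hT3 hT4 z hz with h | ⟨ω, -, hneg⟩
    · exact h
    · exfalso
      -- the word ω ++ w0 maps positive roots to positive roots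
      obtain ⟨τ, hτ⟩ := exists_lw (n := C.D.rank) w0 hw0
      have hNf : Nf C.D (wperm C.D R.refl (lw (ω ++ τ))) = 0 := by
        unfold Nf
        rw [Finset.card_eq_zero, Finset.filter_eq_empty_iff]
        intro s _ hsp
        rw [R.wperm_val _ (lw_lt _), lw_append, hτ, reflW_append,
          hneg _ (R.reflW_lt w0 hw0 s.val s.isLt)] at hsp
        rcases hpos s.val s.isLt with h | h
        · exact h hsp.1
        · exact h hsp.2
      have h1 := M.wp_eq_one_of_Nf_zero hdec hsign (ω ++ τ) hNf
      have h2 : Cox.wp M.sW (ω ++ τ) = Cox.wp M.sW [] := h1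
      rw [M.wp_sW_eq_iff, R.wperm_eq_iff _ _ (lw_lt _) (lw_lt _)] at h2
      have h3 := h2 s0 hs0
      rw [lw_append, hτ, reflW_append, hneg _ (R.reflW_lt w0 hw0 s0 hs0)] at h3
      exact hne0 h3
  rw [hbot]
  exact ⟨by simp, bot_le⟩

end

end Cfsg.Agent.Lib.Helper3.ChevM
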