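import Mathlib
import Cfsg.Prelude.Def_ChevStructure
import Cfsg.Agent.Lib.Helper3.ChevU3
import Cfsg.Agent.Lib.Helper3.ChevW2
set_option autoImplicit false
set_option linter.unusedSectionVars false
open Cfsg Cfsg.Lie

/-! Groups generated by symbols `X r t` satisfying the additivity and commutator relations of a Chevalley group,
together with a homomorphism to the general linear group sending `X r t` to the root element `x_r(t)`. -/

namespace Cfsg.Agent.Lib.Helper3.StB

open ChevM ChevU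

/-- The product of a word in the symbols `X`. -/
def wordS {F : Type*} {Γ : Type*} [Group Γ] (X : ℕ → F → Γ) (w : List (ℕ × F)) : Γ :=
  (w.map fun p => X p.1 p.2).prod

theorem wordS_nil {F : Type*} {Γ : Type*} [Group Γ] (X : ℕ → F → Γ) : wordS X [] = 1 := rfl

theorem wordS_cons {F : Type*} {Γ : Type*} [Group Γ] (X : ℕ → F → Γ) (p : ℕ × F) (w : List (ℕ × F)) :
    wordS X (p :: w) = X p.1 p.2 * wordS X w := by
  unfold wordS
  rw [List.map_cons, List.prod_cons]

theorem wordS_append {F : Type*} {Γ : Type*} [Group Γ] (X : ℕ → F → Γ) (w w' : List (ℕ × F)) :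
    wordS X (w ++ w') = wordS X w * wordS X w' := by
  unfold wordS
  rw [List.map_append, List.prod_append]

theorem wordS_mem {F : Type*} {Γ : Type*} [Group Γ] (X : ℕ → F → Γ) (T : Subgroup Γ) (w : List (ℕ × F))
    (h : ∀ p ∈ w, X p.1 p.2 ∈ T) : wordS X w ∈ T := by
  unfold wordS
  apply Subgroup.list_prod_mem
  intro x hx
  obtain ⟨p, hp, rfl⟩ := List.mem_map.mp hx
  exact h p hp

theorem map_wordS {F : Type*} {Γ Δ : Type*} [Group Γ] [Group Δ] (f : Γ →* Δ) (X : ℕ → F → Γ) (w : List (ℕ × F)) :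
    f (wordS X w) = wordS (fun r t => f (X r t)) w := by
  unfold wordS
  rw [map_list_prod, List.map_map]
  rfl

theorem conj_wordS {F : Type*} {Γ : Type*} [Group Γ] (X : ℕ → F → Γ) (g : Γ) (w : List (ℕ × F)) :
    g * wordS X w * g⁻¹ = wordS (fun r t => g * X r t * g⁻¹) w := by
  have := map_wordS (MulAut.conj g).toMonoidHom X w
  simpa using this

/-- A group with symbols `X r t` and a homomorphism to the general linear group. -/
structure StData (C : CDatum) (R : RelData C) (F : Type*) [Field F] (Γ : Type*) [Group Γ] where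
  X : ℕ → F → Γ
  φ : Γ →* GL C.D.Idx F
  φX : ∀ r < C.D.nroots, ∀ t : F, φ (X r t) = R.xU r t
  add : ∀ r (a b : F), X r (a + b) = X r a * X r b
  comm : ∀ r < C.D.nroots, ∀ s < C.D.nroots, s ≠ r → s ≠ C.D.neg r → ∀ t u : F,
    (X s u)⁻¹ * (X r t)⁻¹ * X s u * X r t = wordS X (C.D.commWord F r s t u)

section
variable {C : CDatum} {R : RelData C} {F : Type*} [Field F] {Γ : Type*} [Group Γ] (S : StData C R F Γ)

theorem StData.X_zero (r : ℕ) : S.X r 0 = 1 := by
  have := S.add r 0 0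
  rw [add_zero] at this
  exact (mul_eq_left.mp this.symm)

theorem StData.X_neg (r : ℕ) (a : F) : S.X r (-a) = (S.X r a)⁻¹ := by
  have := S.add r (-a) a
  rw [neg_add_cancel, S.X_zero] at this
  exact eq_inv_of_mul_eq_one_left this.symm

theorem StData.X_inv (r : ℕ) (a : F) : (S.X r a)⁻¹ = S.X r (-a) := (S.X_neg r a).symm

theorem StData.X_mul (r : ℕ) (a b : F) : S.X r a * S.X r b = S.X r (a + b) := (S.add r a b).symm

/-- The set of the values of `X r` is a subgroup. -/
def StData.rootGrp (r : ℕ) : Subgroup Γ where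
  carrier := {g | ∃ t : F, g = S.X r t}
  mul_mem' := by
    rintro _ _ ⟨a, rfl⟩ ⟨b, rfl⟩
    exact ⟨a + b, (S.add r a b).symm⟩
  one_mem' := ⟨0, (S.X_zero r).symm⟩
  inv_mem' := by
    rintro _ ⟨a, rfl⟩
    exact ⟨-a, (S.X_neg r a).symm⟩

theorem StData.mem_rootGrp (r : ℕ) (g : Γ) : g ∈ S.rootGrp r ↔ ∃ t : F, g = S.X r t := Iff.rfl

theorem StData.X_mem_rootGrp (r : ℕ) (t : F) : S.X r t ∈ S.rootGrp r := ⟨t, rfl⟩

theorem StData.phi_wordS (w : List (ℕ × F)) (hw : ∀ p ∈ w, p.1 < C.D.nroots) :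
    S.φ (wordS S.X w) = R.wordU w := by
  induction w with
  | nil => simp [wordS, RelData.wordU]
  | cons p w ih =>
    rw [wordS_cons, map_mul, ih fun q hq => hw q (List.mem_cons_of_mem _ hq), S.φX p.1 (hw p List.mem_cons_self)]
    unfold RelData.wordU
    rw [List.map_cons, List.prod_cons]

/-- The element `n_r(c)`. -/
def StData.nS (r : ℕ) (c : F) : Γ := wordS S.X (C.D.nWord r c)

/-- The element `h_r(c)`. -/
def StData.hS (r : ℕ) (c : F) : Γ := wordS S.X (C.D.hWord r c)

theorem StData.nS_eq (r : ℕ) (c : F) : S.nS r c = S.X r c * S.X (C.D.neg r) (-c⁻¹) * S.X r c := by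
  simp [StData.nS, wordS, ChevalleyDatum.nWord, mul_assoc]

theorem StData.hS_eq (r : ℕ) (c : F) : S.hS r c = S.nS r c * S.nS r (-1) := by
  unfold StData.hS StData.nS ChevalleyDatum.hWord
  rw [wordS_append]

theorem StData.nS_neg (r : ℕ) (c : F) : S.nS r (-c) = (S.nS r c)⁻¹ := by
  rw [S.nS_eq, S.nS_eq, mul_inv_rev, mul_inv_rev, S.X_inv, S.X_inv, neg_neg, inv_neg, mul_assoc, neg_neg]

theorem StData.nS_inv (r : ℕ) (c : F) : (S.nS r c)⁻¹ = S.nS r (-c) := (S.nS_neg r c).symm

theorem StData.nS_eq_hS_mul (r : ℕ) (c : F) : S.nS r c = S.hS r c * S.nS r 1 := by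
  rw [S.hS_eq, S.nS_neg r 1, inv_mul_cancel_right]

theorem StData.nS_mul_nS (r : ℕ) (a b : F) : S.nS r a * S.nS r b = S.hS r a * (S.hS r (-b))⁻¹ := by
  rw [S.hS_eq, S.hS_eq, mul_inv_rev, S.nS_inv, S.nS_inv, neg_neg, neg_neg, S.nS_neg r 1]
  group

theorem StData.hS_one (r : ℕ) : S.hS r 1 = 1 := by
  rw [S.hS_eq, S.nS_neg, mul_inv_cancel]

theorem StData.phi_nS (r : ℕ) (hr : r < C.D.nroots) (c : F) : S.φ (S.nS r c) = R.nU r c := by
  unfold StData.nS RelData.nU
  apply S.phi_wordS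
  intro p hp
  simp only [ChevalleyDatum.nWord, List.mem_cons, List.not_mem_nil, or_false] at hp
  rcases hp with rfl | rfl | rfl
  · exact hr
  · exact R.neg_lt r hr
  · exact hr

theorem StData.phi_hS (r : ℕ) (hr : r < C.D.nroots) (c : F) : S.φ (S.hS r c) = R.hU r c := by
  rw [S.hS_eq, map_mul, S.phi_nS r hr, S.phi_nS r hr, R.hU_eq]

end

end Cfsg.Agent.Lib.Helper3.StB
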