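import Mathlib
import Cfsg.Prelude.Def_ChevStructure
import Cfsg.Agent.Lib.Helper3.StB1
set_option autoImplicit false
set_option linter.unusedSectionVars false
open Cfsg Cfsg.Lie

/-! The subgroup generated by the positive root symbols: collection and injectivity of the homomorphism on it. -/

namespace Cfsg.Agent.Lib.Helper3.StB

open ChevM ChevU

section
variable {C : CDatum} {R : RelData C} {F : Type*} [Field F] {Γ : Type*} [Group Γ] (S : StData C R F Γ)
  (U : UHyp C R)

theorem StData.rootSys : RootSys S.X C.D.IsPosRoot U.hpos where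
  add := S.add
  comm := by
    intro r s hr hs t u
    by_cases hsr : s = r
    · subst hsr
      have : S.X s t * S.X s u = S.X s u * S.X s t := by
        rw [S.X_mul, S.X_mul, add_comm]
      simp only [this, inv_mul_cancel, Subgroup.one_mem]
    · have h := U.col r hr.1 s hs.1
      simp only [collectCheck, hr, hs, hsr, ne_eq, not_false_eq_true, decide_true, Bool.and_self, Bool.not_true,
        Bool.false_or, Bool.and_eq_true, decide_eq_true_eq, List.all_eq_true] at h
      obtain ⟨hneg, hterms⟩ := h
      have e := S.comm r hr.1 s hs.1 hsr hneg t u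
      have e2 : (S.X r t * S.X s u)⁻¹ * (S.X s u * S.X r t) = wordS S.X (C.D.commWord F r s t u) := by
        rw [← e]; group
      rw [e2]
      apply wordS_mem
      intro p hp
      simp only [ChevalleyDatum.commWord, List.mem_map] at hp
      obtain ⟨c, hc, rfl⟩ := hp
      have := hterms c hc
      exact gen_mem _ _ _ this.1 (by omega) _
  inj := by
    intro r s hr hs h
    have := U.inj r hr.1
    simp only [hposCheck, hr, decide_true, Bool.not_true, Bool.false_or, Bool.and_eq_true, decide_eq_true_eq,
      List.all_eq_true, Bool.or_eq_true, ne_eq] at this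
    rcases this.2 s ((mem_posRoots C.D s).mpr hs) with h1 | h1
    · exact h1.symm
    · exact absurd h.symm h1

/-- The subgroup generated by the positive root symbols. -/
def StData.Ubar : Subgroup Γ := tailGrp S.X C.D.IsPosRoot U.hpos 0

theorem StData.X_mem_Ubar (r : ℕ) (hr : C.D.IsPosRoot r) (t : F) : S.X r t ∈ S.Ubar U :=
  gen_mem _ _ _ hr (Nat.zero_le _) t

theorem StData.Ubar_le {T : Subgroup Γ} (h : ∀ r, C.D.IsPosRoot r → ∀ t, S.X r t ∈ T) : S.Ubar U ≤ T := by
  unfold StData.Ubar tailGrp
  rw [Subgroup.closure_le]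
  rintro g ⟨r, t, hr, -, rfl⟩
  exact h r hr t

theorem StData.phi_lprod (M : List ℕ) (hM : ∀ r ∈ M, r < C.D.nroots) (t : ℕ → F) :
    S.φ (RootSys.lprod S.X M t) = RootSys.lprod (fun r (t : F) => R.xU r t) M t := by
  induction M with
  | nil => simp [RootSys.lprod]
  | cons r M ih =>
    rw [RootSys.lprod_cons, RootSys.lprod_cons, map_mul, ih fun q hq => hM q (List.mem_cons_of_mem _ hq),
      S.φX r (hM r List.mem_cons_self)]

theorem StData.exists_lprod_of_mem_Ubar (y : Γ) (hy : y ∈ S.Ubar U) :
    ∃ t : ℕ → F, y = RootSys.lprod S.X C.D.posRoots t := by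
  have H := S.rootSys U
  exact H.exists_lprod C.D.nroots (by
    intro r hr
    have := U.inj r hr.1
    simp only [hposCheck, hr, decide_true, Bool.not_true, Bool.false_or, Bool.and_eq_true, decide_eq_true_eq] at this
    exact this.1) C.D.posRoots (nodup_posRoots C.D) (mem_posRoots C.D) hy

/-- The homomorphism is injective on the subgroup generated by the positive root symbols. -/
theorem StData.inj_Ubar (y : Γ) (hy : y ∈ S.Ubar U) (h1 : S.φ y = 1) : y = 1 := by
  obtain ⟨t, rfl⟩ := S.exists_lprod_of_mem_Ubar U y hy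
  rw [S.phi_lprod _ (fun r hr => ((mem_posRoots C.D r).mp hr).1)] at h1
  have h0 : RootSys.lprod (fun r (t : F) => R.xU r t) C.D.posRoots (fun _ => (0 : F)) = 1 := by
    unfold RootSys.lprod
    apply List.prod_eq_one
    intro x hx
    obtain ⟨r, -, rfl⟩ := List.mem_map.mp hx
    exact R.xU_zero r
  have key := R.lprod_inj U.hf U.fr U.wj U.wi U.lev U.frm U.wit C.D.posRoots (pairwise_posRoots C.D)
    (fun r hr => (mem_posRoots C.D r).mp hr) t (fun _ => 0) (by rw [h1, h0])
  unfold RootSys.lprod
  apply List.prod_eq_one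
  intro x hx
  obtain ⟨r, hr, rfl⟩ := List.mem_map.mp hx
  rw [key r hr, S.X_zero]

theorem StData.inj_Ubar' (y z : Γ) (hy : y ∈ S.Ubar U) (hz : z ∈ S.Ubar U) (h : S.φ y = S.φ z) : y = z := by
  have := S.inj_Ubar U (y * z⁻¹) (Subgroup.mul_mem _ hy (Subgroup.inv_mem _ hz)) (by rw [map_mul, map_inv, h, mul_inv_cancel])
  exact mul_inv_eq_one.mp this

theorem StData.phi_Ubar (y : Γ) (hy : y ∈ S.Ubar U) : S.φ y ∈ C.D.posUnipotent F := by
  have : S.Ubar U ≤ (C.D.posUnipotent F).comap S.φ := by
    apply S.Ubar_le U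
    intro r hr t
    rw [Subgroup.mem_comap, S.φX r hr.1]
    exact Subgroup.subset_closure ⟨r, t, hr, rfl⟩
  exact this hy

end

end Cfsg.Agent.Lib.Helper3.StB
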