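import Mathlib
import Cfsg.Prelude.Def_ChevStructure
import Cfsg.Agent.Lib.Helper3.StB2
import Cfsg.Agent.Lib.Helper3.ChevB3
set_option autoImplicit false
set_option linter.unusedSectionVars false
open Cfsg Cfsg.Lie

/-! The rank one subgroups `⟨X_p, X_{-p}⟩` for a fundamental root `p` normalise the subgroup generated by the
other positive root symbols, and conjugation by their elements is controlled by the homomorphism. -/

namespace Cfsg.Agent.Lib.Helper3.StB

open ChevM ChevU ChevT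

section
variable {C : CDatum} {R : RelData C} {F : Type*} [Field F] {Γ : Type*} [Group Γ] (S : StData C R F Γ)
  (U : UHyp C R)

/-- The generators of `U_p`. -/
def StData.UiSet (i : ℕ) : Set Γ := {g | ∃ (s : ℕ) (t : F), C.D.IsPosRoot s ∧ s ≠ C.D.simple i ∧ g = S.X s t}

/-- The subgroup generated by the positive root symbols other than `X_p`. -/
def StData.Ui (i : ℕ) : Subgroup Γ := Subgroup.closure (S.UiSet i)

/-- The rank one subgroup. -/
def StData.Gi (i : ℕ) : Subgroup Γ := S.rootGrp (C.D.simple i) ⊔ S.rootGrp (C.D.neg (C.D.simple i))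

theorem StData.X_mem_Ui (i s : ℕ) (hs : C.D.IsPosRoot s) (hsp : s ≠ C.D.simple i) (t : F) : S.X s t ∈ S.Ui i :=
  Subgroup.subset_closure ⟨s, t, hs, hsp, rfl⟩

theorem StData.Ui_le_Ubar (i : ℕ) : S.Ui i ≤ S.Ubar U := by
  unfold StData.Ui
  rw [Subgroup.closure_le]
  rintro g ⟨s, t, hs, -, rfl⟩
  exact S.X_mem_Ubar U s hs t

theorem StData.X_mem_Gi (i : ℕ) (t : F) : S.X (C.D.simple i) t ∈ S.Gi i :=
  Subgroup.mem_sup_left (S.X_mem_rootGrp _ t)

theorem StData.X_neg_mem_Gi (i : ℕ) (t : F) : S.X (C.D.neg (C.D.simple i)) t ∈ S.Gi i :=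
  Subgroup.mem_sup_right (S.X_mem_rootGrp _ t)

theorem StData.nS_mem_Gi (i : ℕ) (c : F) : S.nS (C.D.simple i) c ∈ S.Gi i := by
  rw [S.nS_eq]
  exact Subgroup.mul_mem _ (Subgroup.mul_mem _ (S.X_mem_Gi i _) (S.X_neg_mem_Gi i _)) (S.X_mem_Gi i _)

theorem StData.hS_mem_Gi (i : ℕ) (c : F) : S.hS (C.D.simple i) c ∈ S.Gi i := by
  rw [S.hS_eq]
  exact Subgroup.mul_mem _ (S.nS_mem_Gi i _) (S.nS_mem_Gi i _)

theorem StData.Gi_le_normalizer_Ui (hup : ∀ i < C.D.rank, ∀ s < C.D.nroots, upCheck C.D i s = true)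
    (i : ℕ) (hi : i < C.D.rank) : S.Gi i ≤ Subgroup.normalizer (S.Ui i : Set Γ) := by
  set p := C.D.simple i with hp
  have hpl : p < C.D.nroots := R.simple_lt i hi
  have hnpl : C.D.neg p < C.D.nroots := R.neg_lt p hpl
  have h0 := hup i hi p hpl
  simp only [upCheck, Bool.and_eq_true, decide_eq_true_eq] at h0
  obtain ⟨⟨hpos, hnn⟩, -⟩ := h0
  have conj : ∀ r, (r = p ∨ r = C.D.neg p) → ∀ (t : F), ∀ u ∈ S.UiSet i, S.X r t * u * (S.X r t)⁻¹ ∈ S.Ui i := by
    rintro r hr t u ⟨s, t', hs, hsp, rfl⟩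
    have hsl : s < C.D.nroots := hs.1
    have hc := hup i hi s hsl
    simp only [upCheck, Bool.and_eq_true, Bool.or_eq_true, Bool.not_eq_true', decide_eq_true_eq,
      decide_eq_false_iff_not, List.all_eq_true, Bool.and_eq_false_imp] at hc
    obtain ⟨-, hc⟩ := hc
    rcases hc with hc | ⟨⟨hsn, hc1⟩, hc2⟩
    · exact absurd hsp (by simpa using hc hs)
    have hrl : r < C.D.nroots := by rcases hr with rfl | rfl <;> assumption
    have hsr : s ≠ r := by rcases hr with rfl | rfl <;> assumption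
    have hsnr : s ≠ C.D.neg r := by
      rcases hr with rfl | rfl
      · exact hsn
      · rw [hnn]; exact hsp
    have hterms : ∀ c ∈ C.D.commTerms r s, C.D.IsPosRoot c.1 ∧ c.1 ≠ p := by
      rcases hr with rfl | rfl
      · exact hc1
      · exact hc2
    have hcomm := S.comm r hrl s hsl hsr hsnr (-t) t'
    rw [S.X_neg, inv_inv] at hcomm
    have hval : S.X r t * S.X s t' * (S.X r t)⁻¹ = S.X s t' * wordS S.X (C.D.commWord F r s (-t) t') := by
      rw [← hcomm]; group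
    rw [hval]
    apply Subgroup.mul_mem
    · exact S.X_mem_Ui i s hs hsp t'
    · apply wordS_mem
      intro q hq
      simp only [ChevalleyDatum.commWord, List.mem_map] at hq
      obtain ⟨c, hc, rfl⟩ := hq
      exact S.X_mem_Ui i c.1 (hterms c hc).1 (hterms c hc).2 _
  have hroot : ∀ r, (r = p ∨ r = C.D.neg p) → S.rootGrp r ≤ Subgroup.normalizer (S.Ui i : Set Γ) := by
    rintro r hr g ⟨t, rfl⟩
    apply mem_normalizer_closure'
    · exact conj r hr t
    · intro u hu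
      have := conj r hr (-t) u hu
      rwa [S.X_neg, inv_inv] at this
  exact sup_le (hroot p (Or.inl rfl)) (hroot _ (Or.inr rfl))

theorem StData.conj_mem_Ui (hup : ∀ i < C.D.rank, ∀ s < C.D.nroots, upCheck C.D i s = true)
    (i : ℕ) (hi : i < C.D.rank) (g : Γ) (hg : g ∈ S.Gi i) (y : Γ) (hy : y ∈ S.Ui i) : g * y * g⁻¹ ∈ S.Ui i :=
  (Subgroup.mem_normalizer_iff.mp (S.Gi_le_normalizer_Ui hup i hi hg) y).mp hy

include U in
/-- Conjugation of a positive root symbol by an element of the rank one subgroup is determined by the image. -/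
theorem StData.conj_eq_of_pos (hup : ∀ i < C.D.rank, ∀ s < C.D.nroots, upCheck C.D i s = true)
    (i : ℕ) (hi : i < C.D.rank) (g : Γ) (hg : g ∈ S.Gi i) (s : ℕ) (hs : C.D.IsPosRoot s) (hsp : s ≠ C.D.simple i)
    (u : F) (s' : ℕ) (hs' : C.D.IsPosRoot s') (u' : F)
    (h : S.φ g * R.xU s u * (S.φ g)⁻¹ = R.xU s' u') : g * S.X s u * g⁻¹ = S.X s' u' := by
  apply S.inj_Ubar' U
  · exact S.Ui_le_Ubar U i (S.conj_mem_Ui hup i hi g hg _ (S.X_mem_Ui i s hs hsp u))
  · exact S.X_mem_Ubar U s' hs' u'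
  · rw [map_mul, map_mul, map_inv, S.φX s hs.1, S.φX s' hs'.1, h]

/-- The subgroup generated by `X_{-p}` and the positive root symbols other than `X_p`. -/
def StData.Qi (i : ℕ) : Subgroup Γ := S.rootGrp (C.D.neg (C.D.simple i)) ⊔ S.Ui i

include U in
theorem StData.inj_Qi (hup : ∀ i < C.D.rank, ∀ s < C.D.nroots, upCheck C.D i s = true)
    (htri : ∀ r < C.D.nroots, posTri C r = true)
    (i : ℕ) (hi : i < C.D.rank) (hlow : lowCheck C i = true)
    (y : Γ) (hy : y ∈ S.Qi i) (h1 : S.φ y = 1) : y = 1 := by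
  have hN : S.rootGrp (C.D.neg (C.D.simple i)) ≤ Subgroup.normalizer (S.Ui i : Set Γ) :=
    le_trans le_sup_right (S.Gi_le_normalizer_Ui hup i hi)
  have hset := Subgroup.coe_mul_of_left_le_normalizer_right _ _ hN
  have hy' : y ∈ ((S.rootGrp (C.D.neg (C.D.simple i)) ⊔ S.Ui i : Subgroup Γ) : Set Γ) := hy
  rw [hset, Set.mem_mul] at hy'
  obtain ⟨x, ⟨t, rfl⟩, u, hu, rfl⟩ := hy'
  have huU := S.Ui_le_Ubar U i hu
  have hnl := R.neg_lt _ (R.simple_lt i hi)
  rw [map_mul, S.φX _ hnl] at h1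
  have hx : R.xU (C.D.neg (C.D.simple i)) t = (S.φ u)⁻¹ := eq_inv_of_mul_eq_one_left h1
  have hmem : R.xU (C.D.neg (C.D.simple i)) t ∈ C.D.posUnipotent F := by
    rw [hx]; exact Subgroup.inv_mem _ (S.phi_Ubar U u huU)
  have hsh : Shift (posIdx C.D) 0 (C.D.x F (C.D.neg (C.D.simple i)) t) := by
    have := (posUnipotent_le_ut C htri).trans (utSubgroup_le_tri 0) hmem
    rw [mem_triSubgroup, R.xU_val] at this
    exact this
  have ht : t = 0 := eq_zero_of_tri_x_neg_simple R i hi hlow t hsh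
  subst ht
  rw [R.xU_zero, one_mul] at h1
  rw [S.X_zero, one_mul]
  exact S.inj_Ubar U u huU h1

include U in
theorem StData.inj_Qi' (hup : ∀ i < C.D.rank, ∀ s < C.D.nroots, upCheck C.D i s = true)
    (htri : ∀ r < C.D.nroots, posTri C r = true)
    (i : ℕ) (hi : i < C.D.rank) (hlow : lowCheck C i = true)
    (y z : Γ) (hy : y ∈ S.Qi i) (hz : z ∈ S.Qi i) (h : S.φ y = S.φ z) : y = z := by
  have := S.inj_Qi U hup htri i hi hlow (y * z⁻¹) (Subgroup.mul_mem _ hy (Subgroup.inv_mem _ hz))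
    (by rw [map_mul, map_inv, h, mul_inv_cancel])
  exact mul_inv_eq_one.mp this

end

end Cfsg.Agent.Lib.Helper3.StB
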