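import Mathlib
import Cfsg.Prelude.Def_ChevStructure
import Cfsg.Agent.Lib.Helper3.StB3
import Cfsg.Agent.Lib.Helper3.ChevN1
set_option autoImplicit false
set_option linter.unusedSectionVars false
open Cfsg Cfsg.Lie

/-! The permutation matrix exchanging `e_r` and `e_{-r}` conjugates `x_r(t)` to `x_{-r}(-t)`. -/

namespace Cfsg.Agent.Lib.Helper3.StB

open ChevM ChevU ChevT

/-- The permutation on codes. -/
def thetaC (D : ChevalleyDatum) (c : ℕ) : ℕ := if c < D.rank then c else D.rank + D.neg (c - D.rank)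

/-- The sparse permutation matrix. -/
def thetaM (D : ChevalleyDatum) : MMat := fun c => [⟨thetaC D c, 1, 0, 0⟩]

/-- The permutation of the coordinates. -/
def thetaIdx (D : ChevalleyDatum) (hneg : ∀ r < D.nroots, D.neg r < D.nroots) : D.Idx → D.Idx
  | Sum.inl k => Sum.inl k
  | Sum.inr s => Sum.inr ⟨D.neg s.val, hneg s.val s.isLt⟩

theorem code_thetaIdx (D : ChevalleyDatum) (hneg : ∀ r < D.nroots, D.neg r < D.nroots) (j : D.Idx) :
    code D (thetaIdx D hneg j) = thetaC D (code D j) := by
  rcases j with k | s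
  · simp [thetaIdx, code, thetaC, k.isLt]
  · have : ¬ D.rank + s.val < D.rank := by omega
    simp [thetaIdx, code, thetaC, this]

/-- The permutation matrix. -/
def thetaMat (D : ChevalleyDatum) (F : Type*) [Field F] (hneg : ∀ r < D.nroots, D.neg r < D.nroots) :
    Matrix D.Idx D.Idx F := fun j col => if j = thetaIdx D hneg col then 1 else 0

theorem represents_thetaM {F : Type*} [Field F] (a b : F) (D : ChevalleyDatum)
    (hneg : ∀ r < D.nroots, D.neg r < D.nroots) : Represents a b D (thetaM D) (thetaMat D F hneg) := by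
  intro j col
  simp only [thetaMat, thetaM, mvAt_cons, mvAt_nil, add_zero]
  by_cases h : j = thetaIdx D hneg col
  · subst h
    rw [if_pos rfl, code_thetaIdx, if_pos rfl]
    simp [tEval]
  · rw [if_neg h, if_neg]
    intro e
    rw [← code_thetaIdx D hneg] at e
    exact h (code_injective D e).symm

theorem thetaIdx_invol (D : ChevalleyDatum) (hneg : ∀ r < D.nroots, D.neg r < D.nroots)
    (hnn : ∀ r < D.nroots, D.neg (D.neg r) = r) (j : D.Idx) : thetaIdx D hneg (thetaIdx D hneg j) = j := by
  rcases j with k | s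
  · rfl
  · simp only [thetaIdx]
    congr 1
    apply Fin.ext
    exact hnn s.val s.isLt

theorem thetaMat_mul_self {F : Type*} [Field F] (D : ChevalleyDatum) (hneg : ∀ r < D.nroots, D.neg r < D.nroots)
    (hnn : ∀ r < D.nroots, D.neg (D.neg r) = r) : thetaMat D F hneg * thetaMat D F hneg = 1 := by
  ext j col
  rw [Matrix.mul_apply]
  simp only [thetaMat]
  rw [Finset.sum_eq_single (thetaIdx D hneg col)]
  · rw [if_pos rfl, mul_one, Matrix.one_apply]
    by_cases h : j = col
    · subst h; rw [if_pos rfl, if_pos (thetaIdx_invol D hneg hnn j).symm]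
    · rw [if_neg h, if_neg]
      intro e
      rw [e, thetaIdx_invol D hneg hnn] at h
      exact h rfl
  · intro k _ hk
    rw [if_neg hk, mul_zero]
  · intro h; exact absurd (Finset.mem_univ _) h

/-- Check `P x_r(t) = x_{-r}(-t) P`. -/
def thetaCheck (C : CDatum) (r : ℕ) : Bool :=
  checkMW C.N [thetaM C.D, C.xMono r 1 1 0] [C.xMono (C.D.neg r) (-1) 1 0, thetaM C.D]

theorem thetaMat_mul_x {F : Type*} [Field F] (C : CDatum) (hneg : ∀ r < C.D.nroots, C.D.neg r < C.D.nroots)
    (r : ℕ) (hr : r < C.D.nroots) (h : thetaCheck C r = true) (t : F) :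
    thetaMat C.D F hneg * C.D.x F r t = C.D.x F (C.D.neg r) (-t) * thetaMat C.D F hneg := by
  by_cases ht : t = 0
  · subst ht; rw [neg_zero, CDatum.x_zero, CDatum.x_zero, mul_one, one_mul]
  have hP := represents_thetaM t (1 : F) C.D hneg
  have key := prod_eq_of_checkMW t (1 : F) ht one_ne_zero C.D _ _
    [thetaMat C.D F hneg, C.D.x F r t] [C.D.x F (C.D.neg r) (-t), thetaMat C.D F hneg]
    (List.Forall₂.cons hP (List.Forall₂.cons (C.repr_x t 1 r hr 1 1 0 t (by simp)) List.Forall₂.nil))
    (List.Forall₂.cons (C.repr_x t 1 (C.D.neg r) (hneg r hr) (-1) 1 0 _ (by simp)) (List.Forall₂.cons hP List.Forall₂.nil))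
    h
  simpa using key

section
variable {C : CDatum} (R : RelData C) {F : Type*} [Field F]

/-- The permutation matrix as an element of the general linear group. -/
def thetaU (hnn : ∀ r < C.D.nroots, C.D.neg (C.D.neg r) = r) : GL C.D.Idx F where
  val := thetaMat C.D F R.neg_lt
  inv := thetaMat C.D F R.neg_lt
  val_inv := thetaMat_mul_self C.D R.neg_lt hnn
  inv_val := thetaMat_mul_self C.D R.neg_lt hnn

theorem thetaU_inv (hnn : ∀ r < C.D.nroots, C.D.neg (C.D.neg r) = r) :
    (thetaU R (F := F) hnn)⁻¹ = thetaU R hnn := Units.ext rfl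

theorem thetaU_conj (hnn : ∀ r < C.D.nroots, C.D.neg (C.D.neg r) = r)
    (hth : ∀ r < C.D.nroots, thetaCheck C r = true) (r : ℕ) (hr : r < C.D.nroots) (t : F) :
    thetaU R hnn * R.xU r t * (thetaU R hnn)⁻¹ = R.xU (C.D.neg r) (-t) := by
  rw [mul_inv_eq_iff_eq_mul]
  apply Units.ext
  rw [Units.val_mul, Units.val_mul, R.xU_val, R.xU_val]
  exact thetaMat_mul_x C R.neg_lt r hr (hth r hr) t

end

end Cfsg.Agent.Lib.Helper3.StB
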