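import Mathlib
import Cfsg.Prelude.Def_ChevStructure
import Cfsg.Agent.Lib.Helper3.StB4
set_option autoImplicit false
set_option linter.unusedSectionVars false
open Cfsg Cfsg.Lie

/-! The opposite data `X' r t = X (-r) (-t)`, and conjugation of the negative root symbols. -/

namespace Cfsg.Agent.Lib.Helper3.StB

open ChevM ChevU ChevT

/-- The terms of the commutator formula for `(-r, -s)` are those for `(r, s)` with the roots negated and the
signs changed by `(-1)^(i+j+1)`. -/
def commNegCheck (D : ChevalleyDatum) (r s : ℕ) : Bool :=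
  decide (D.commTerms (D.neg r) (D.neg s) =
    (D.commTerms r s).map fun c => (D.neg c.1, c.2.1 * (-1) ^ (c.2.2.1 + c.2.2.2 + 1), c.2.2.1, c.2.2.2))

theorem sign_id {F : Type*} [Field F] (c t u : F) (i j : ℕ) :
    c * (-1) ^ (i + j + 1) * (- -t) ^ i * (-u) ^ j = -(c * (-t) ^ i * u ^ j) := by
  rw [neg_neg, neg_pow u j, neg_pow t i, pow_succ, pow_add]
  have h : ((-1 : F) ^ j) * ((-1) ^ j) = 1 := by rw [← mul_pow]; simp
  linear_combination (-c * (-1) ^ i * t ^ i * u ^ j) * h

section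
variable {C : CDatum} {R : RelData C} {F : Type*} [Field F] {Γ : Type*} [Group Γ] (S : StData C R F Γ)

/-- The opposite data. -/
def StData.opp (hnn : ∀ r < C.D.nroots, C.D.neg (C.D.neg r) = r)
    (hth : ∀ r < C.D.nroots, thetaCheck C r = true)
    (hcn : ∀ r < C.D.nroots, ∀ s < C.D.nroots, commNegCheck C.D r s = true) : StData C R F Γ where
  X := fun r t => S.X (C.D.neg r) (-t)
  φ := (MulAut.conj (thetaU R (F := F) hnn)).toMonoidHom.comp S.φ
  φX := by
    intro r hr t
    show thetaU R hnn * S.φ (S.X (C.D.neg r) (-t)) * (thetaU R hnn)⁻¹ = R.xU r t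
    rw [S.φX _ (R.neg_lt r hr), thetaU_conj R hnn hth _ (R.neg_lt r hr), hnn r hr, neg_neg]
  add := fun r a b => by rw [neg_add, S.add]
  comm := by
    intro r hr s hs hsr hsnr t u
    have h1 : C.D.neg s ≠ C.D.neg r := by
      intro e
      apply hsr
      rw [← hnn s hs, e, hnn r hr]
    have h2 : C.D.neg s ≠ C.D.neg (C.D.neg r) := by
      rw [hnn r hr]
      intro e
      apply hsnr
      rw [← hnn s hs, e]
    have e := S.comm (C.D.neg r) (R.neg_lt r hr) (C.D.neg s) (R.neg_lt s hs) h1 h2 (-t) (-u)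
    rw [e]
    have hc := hcn r hr s hs
    simp only [commNegCheck, decide_eq_true_eq] at hc
    unfold wordS ChevalleyDatum.commWord
    rw [hc, List.map_map, List.map_map, List.map_map]
    congr 1
    apply List.map_congr_left
    intro c _
    simp only [Function.comp]
    congr 1
    push_cast
    exact sign_id _ t u _ _

theorem StData.opp_X (hnn : ∀ r < C.D.nroots, C.D.neg (C.D.neg r) = r)
    (hth : ∀ r < C.D.nroots, thetaCheck C r = true)
    (hcn : ∀ r < C.D.nroots, ∀ s < C.D.nroots, commNegCheck C.D r s = true) (r : ℕ) (t : F) :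
    (S.opp hnn hth hcn).X r t = S.X (C.D.neg r) (-t) := rfl

theorem StData.opp_phi (hnn : ∀ r < C.D.nroots, C.D.neg (C.D.neg r) = r)
    (hth : ∀ r < C.D.nroots, thetaCheck C r = true)
    (hcn : ∀ r < C.D.nroots, ∀ s < C.D.nroots, commNegCheck C.D r s = true) (g : Γ) :
    (S.opp hnn hth hcn).φ g = thetaU R hnn * S.φ g * (thetaU R hnn)⁻¹ := rfl

theorem StData.opp_rootGrp (hnn : ∀ r < C.D.nroots, C.D.neg (C.D.neg r) = r)
    (hth : ∀ r < C.D.nroots, thetaCheck C r = true)
    (hcn : ∀ r < C.D.nroots, ∀ s < C.D.nroots, commNegCheck C.D r s = true) (r : ℕ) :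
    (S.opp hnn hth hcn).rootGrp r = S.rootGrp (C.D.neg r) := by
  ext g
  constructor
  · rintro ⟨t, rfl⟩
    exact ⟨-t, rfl⟩
  · rintro ⟨t, rfl⟩
    exact ⟨-t, by rw [StData.opp_X, neg_neg]⟩

theorem StData.opp_Gi (hnn : ∀ r < C.D.nroots, C.D.neg (C.D.neg r) = r)
    (hth : ∀ r < C.D.nroots, thetaCheck C r = true)
    (hcn : ∀ r < C.D.nroots, ∀ s < C.D.nroots, commNegCheck C.D r s = true) (i : ℕ) (hi : i < C.D.rank) :
    (S.opp hnn hth hcn).Gi i = S.Gi i := by
  unfold StData.Gi
  rw [S.opp_rootGrp, S.opp_rootGrp, hnn _ (R.simple_lt i hi), sup_comm]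

/-- The image of a conjugation relation under the permutation matrix. -/
theorem opp_conj_rel (hnn : ∀ r < C.D.nroots, C.D.neg (C.D.neg r) = r)
    (hth : ∀ r < C.D.nroots, thetaCheck C r = true)
    (g : GL C.D.Idx F) (s s' : ℕ) (hs : s < C.D.nroots) (hs' : s' < C.D.nroots) (u u' : F)
    (h : g * R.xU s u * g⁻¹ = R.xU s' u') :
    (thetaU R hnn * g * (thetaU R hnn)⁻¹) * R.xU (C.D.neg s) (-u) * (thetaU R hnn * g * (thetaU R hnn)⁻¹)⁻¹ =
      R.xU (C.D.neg s') (-u') := by
  rw [← thetaU_conj R hnn hth s hs u, ← thetaU_conj R hnn hth s' hs' u', ← h]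
  group

end

end Cfsg.Agent.Lib.Helper3.StB
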