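import Mathlib
import Cfsg.Prelude.Def_ChevStructure
import Cfsg.Agent.Lib.Helper3.StB5
set_option autoImplicit false
set_option linter.unusedSectionVars false
open Cfsg Cfsg.Lie

/-! The transfer lemma: a root symbol which is a term of a commutator formula (with coefficient `±1` and exponent
pattern `(1, j)` or `(i, 1)`) is conjugated in the expected way as soon as the other root symbols of the commutator
formula are, provided everything takes place in a subgroup on which the homomorphism is injective. -/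

namespace Cfsg.Agent.Lib.Helper3.StB

open ChevM ChevU ChevT

section
variable {C : CDatum} {R : RelData C} {F : Type*} [Field F] {Γ : Type*} [Group Γ] (S : StData C R F Γ)

theorem StData.transfer (T : Subgroup Γ) (hT : ∀ y ∈ T, ∀ z ∈ T, S.φ y = S.φ z → y = z)
    (g : Γ) (σ : ℕ → ℕ) (κ : ℕ → F)
    (a b k : ℕ) (c₀ : ℤ) (i₀ j₀ : ℕ) (pre post : List (ℕ × ℤ × ℕ × ℕ))
    (ha : a < C.D.nroots) (hb : b < C.D.nroots) (hab : b ≠ a) (hab' : b ≠ C.D.neg a)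
    (hterms : C.D.commTerms a b = pre ++ (k, c₀, i₀, j₀) :: post) (hc₀ : c₀ = 1 ∨ c₀ = -1)
    (hij : i₀ = 1 ∨ j₀ = 1)
    (hσa : σ a < C.D.nroots) (hσb : σ b < C.D.nroots) (hσab : σ b ≠ σ a) (hσab' : σ b ≠ C.D.neg (σ a))
    (hga : ∀ w, g * S.X a w * g⁻¹ = S.X (σ a) (κ a * w))
    (hgb : ∀ w, g * S.X b w * g⁻¹ = S.X (σ b) (κ b * w))
    (hrest : ∀ c ∈ pre ++ post, ∀ w, g * S.X c.1 w * g⁻¹ = S.X (σ c.1) (κ c.1 * w))
    (hrestT : ∀ c ∈ pre ++ post, ∀ w, S.X (σ c.1) w ∈ T)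
    (hT2 : ∀ c ∈ C.D.commTerms (σ a) (σ b), ∀ w, S.X c.1 w ∈ T)
    (k' : ℕ) (κ' : F) (hk'T : ∀ w, S.X k' w ∈ T) (hk : k < C.D.nroots) (hk' : k' < C.D.nroots)
    (hG : ∀ v, S.φ g * R.xU k v * (S.φ g)⁻¹ = R.xU k' (κ' * v)) :
    ∀ v, g * S.X k v * g⁻¹ = S.X k' (κ' * v) := by
  intro v
  have hcc : (c₀ : F) * (c₀ : F) = 1 := by rcases hc₀ with rfl | rfl <;> simp
  obtain ⟨t', u', hv⟩ : ∃ t' u' : F, (c₀ : F) * (-t') ^ i₀ * u' ^ j₀ = v := by
    rcases hij with rfl | rfl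
    · exact ⟨-((c₀ : F) * v), 1, by rw [neg_neg, pow_one, one_pow, mul_one, ← mul_assoc, hcc, one_mul]⟩
    · exact ⟨-1, (c₀ : F) * v, by rw [neg_neg, one_pow, mul_one, pow_one, ← mul_assoc, hcc, one_mul]⟩
  have e := S.comm a ha b hb hab hab' t' u'
  set f : ℕ × ℤ × ℕ × ℕ → ℕ × F := fun c => (c.1, (c.2.1 : F) * (-t') ^ c.2.2.1 * u' ^ c.2.2.2) with hf
  set W1 : Γ := wordS S.X (pre.map f) with hW1
  set W2 : Γ := wordS S.X (post.map f) with hW2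
  have hword : wordS S.X (C.D.commWord F a b t' u') = W1 * S.X k v * W2 := by
    unfold ChevalleyDatum.commWord
    rw [hterms, List.map_append, List.map_cons, wordS_append, wordS_cons, ← mul_assoc]
    show W1 * S.X k ((c₀ : F) * (-t') ^ i₀ * u' ^ j₀) * W2 = _
    rw [hv]
  rw [hword] at e
  have hXk : S.X k v = W1⁻¹ * ((S.X b u')⁻¹ * (S.X a t')⁻¹ * S.X b u' * S.X a t') * W2⁻¹ := by
    rw [e]; group
  -- conjugate
  have hconjW : ∀ L : List (ℕ × ℤ × ℕ × ℕ), (∀ c ∈ L, c ∈ pre ++ post) → g * wordS S.X (L.map f) * g⁻¹ ∈ T := by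
    intro L hL
    rw [conj_wordS]
    apply wordS_mem
    intro p hp
    obtain ⟨c, hc, rfl⟩ := List.mem_map.mp hp
    show g * S.X c.1 _ * g⁻¹ ∈ T
    rw [hrest c (hL c hc)]
    exact hrestT c (hL c hc) _
  have hconjW1 : g * W1 * g⁻¹ ∈ T := hconjW pre fun c hc => List.mem_append_left _ hc
  have hconjW2 : g * W2 * g⁻¹ ∈ T := hconjW post fun c hc => List.mem_append_right _ hc
  have hconjC : g * ((S.X b u')⁻¹ * (S.X a t')⁻¹ * S.X b u' * S.X a t') * g⁻¹ ∈ T := by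
    have e1 : g * ((S.X b u')⁻¹ * (S.X a t')⁻¹ * S.X b u' * S.X a t') * g⁻¹ =
        (g * S.X b u' * g⁻¹)⁻¹ * (g * S.X a t' * g⁻¹)⁻¹ * (g * S.X b u' * g⁻¹) * (g * S.X a t' * g⁻¹) := by group
    rw [e1, hga, hgb, S.comm (σ a) hσa (σ b) hσb hσab hσab']
    apply wordS_mem
    intro p hp
    simp only [ChevalleyDatum.commWord, List.mem_map] at hp
    obtain ⟨c, hc, rfl⟩ := hp
    exact hT2 c hc _
  have hmem : g * S.X k v * g⁻¹ ∈ T := by
    rw [hXk]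
    have e2 : g * (W1⁻¹ * ((S.X b u')⁻¹ * (S.X a t')⁻¹ * S.X b u' * S.X a t') * W2⁻¹) * g⁻¹ =
        (g * W1 * g⁻¹)⁻¹ * (g * ((S.X b u')⁻¹ * (S.X a t')⁻¹ * S.X b u' * S.X a t') * g⁻¹) * (g * W2 * g⁻¹)⁻¹ := by
      group
    rw [e2]
    exact Subgroup.mul_mem _ (Subgroup.mul_mem _ (Subgroup.inv_mem _ hconjW1) hconjC) (Subgroup.inv_mem _ hconjW2)
  apply hT _ hmem _ (hk'T _)
  rw [map_mul, map_mul, map_inv, S.φX k hk, S.φX k' hk', hG]

end

end Cfsg.Agent.Lib.Helper3.StB
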