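import Mathlib
import Cfsg.Prelude.Def_ChevStructure
import Cfsg.Agent.Lib.Helper3.StB6
import Cfsg.Agent.Lib.Helper3.Cox6
set_option autoImplicit false
set_option linter.unusedSectionVars false
open Cfsg Cfsg.Lie

/-! The action of `h_p(t)` and `n_p` (`p` fundamental) on all the root symbols. -/

namespace Cfsg.Agent.Lib.Helper3.StB

open ChevM ChevU ChevT

/-- The commutator formula for the chosen pair has exactly one term with root `p`, with coefficient `±1` and exponent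
pattern `(1, j)` or `(i, 1)`, and all other roots are positive and different from `p`. -/
def termsCheck (D : ChevalleyDatum) (p : ℕ) : List (ℕ × ℤ × ℕ × ℕ) → Bool
  | [] => false
  | c :: rest =>
    if c.1 = p then
      (decide (c.2.1 = 1) || decide (c.2.1 = -1)) && (decide (c.2.2.1 = 1) || decide (c.2.2.2 = 1)) &&
        rest.all fun c => decide (D.IsPosRoot c.1) && decide (c.1 ≠ p)
    else decide (D.IsPosRoot c.1) && termsCheck D p rest

theorem termsCheck_spec {D : ChevalleyDatum} {p : ℕ} : ∀ {l : List (ℕ × ℤ × ℕ × ℕ)}, termsCheck D p l = true →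
    ∃ (pre : List (ℕ × ℤ × ℕ × ℕ)) (c₀ : ℤ) (i₀ j₀ : ℕ) (post : List (ℕ × ℤ × ℕ × ℕ)),
      l = pre ++ (p, c₀, i₀, j₀) :: post ∧ (c₀ = 1 ∨ c₀ = -1) ∧ (i₀ = 1 ∨ j₀ = 1) ∧
      ∀ c ∈ pre ++ post, D.IsPosRoot c.1 ∧ c.1 ≠ p
  | [], h => by simp [termsCheck] at h
  | c :: rest, h => by
    by_cases hc : c.1 = p
    · simp only [termsCheck, hc, if_true, Bool.and_eq_true, Bool.or_eq_true, decide_eq_true_eq,
        List.all_eq_true] at h
      obtain ⟨⟨h1, h2⟩, h3⟩ := h
      refine ⟨[], c.2.1, c.2.2.1, c.2.2.2, rest, ?_, h1, h2, ?_⟩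
      · obtain ⟨c1, c2, c3, c4⟩ := c
        simp only at hc
        subst hc
        rfl
      · intro d hd
        exact h3 d (by simpa using hd)
    · simp only [termsCheck, hc, if_false, Bool.and_eq_true, decide_eq_true_eq] at h
      obtain ⟨h1, h2⟩ := h
      obtain ⟨pre, c₀, i₀, j₀, post, e, hc₀, hij, hrest⟩ := termsCheck_spec h2
      refine ⟨c :: pre, c₀, i₀, j₀, post, by rw [e]; rfl, hc₀, hij, ?_⟩
      intro d hd
      rw [List.cons_append, List.mem_cons] at hd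
      rcases hd with rfl | hd
      · exact ⟨h1, hc⟩
      · exact hrest d hd

/-- The choice of a pair of roots `(a, b)` expressing `x_p` through a commutator, for the fundamental root `p_i`. -/
def selfCheck (D : ChevalleyDatum) (refl : ℕ → ℕ → ℕ) (ab : ℕ → ℕ × ℕ) (i : ℕ) : Bool :=
  decide ((ab i).1 < D.nroots) && decide ((ab i).2 < D.nroots) && decide ((ab i).2 ≠ (ab i).1) &&
  decide ((ab i).2 ≠ D.neg (ab i).1) &&
  decide ((ab i).1 ≠ D.simple i) && decide ((ab i).1 ≠ D.neg (D.simple i)) &&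
  decide ((ab i).2 ≠ D.simple i) && decide ((ab i).2 ≠ D.neg (D.simple i)) &&
  decide (refl i (ab i).2 ≠ refl i (ab i).1) && decide (refl i (ab i).2 ≠ D.neg (refl i (ab i).1)) &&
  termsCheck D (D.simple i) (D.commTerms (ab i).1 (ab i).2) &&
  (D.commTerms (refl i (ab i).1) (refl i (ab i).2)).all fun c =>
    decide (c.1 = D.neg (D.simple i)) || (decide (D.IsPosRoot c.1) && decide (c.1 ≠ D.simple i))

/-- The table hypotheses used for the presentation. -/
structure StHyp (C : CDatum) (R : RelData C) where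
  U : UHyp C R
  B : BNHyp C R
  sign : ∀ r < C.D.nroots, signCheck C.D r = true
  theta : ∀ r < C.D.nroots, thetaCheck C r = true
  cneg : ∀ r < C.D.nroots, ∀ s < C.D.nroots, commNegCheck C.D r s = true
  ab : ℕ → ℕ × ℕ
  self : ∀ i < C.D.rank, selfCheck C.D R.refl ab i = true
  pneg : ∀ i < C.D.rank, ∀ j < C.D.rank, pairNegCheck C.D R.pair i j = true

section
variable {C : CDatum} {R : RelData C} (Y : StHyp C R)
include Y

theorem StHyp.hnn (r : ℕ) (hr : r < C.D.nroots) : C.D.neg (C.D.neg r) = r := (signCheck_spec (Y.sign r hr)).2.2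

theorem StHyp.pos_or_neg (r : ℕ) (hr : r < C.D.nroots) : C.D.IsPosRoot r ∨ C.D.IsPosRoot (C.D.neg r) := by
  have := Y.B.root r hr
  simp only [rootCheck, Bool.and_eq_true, Bool.or_eq_true, decide_eq_true_eq] at this
  exact this.1

theorem StHyp.not_pos_neg (r : ℕ) (hr : r < C.D.nroots) (h : C.D.IsPosRoot r) : ¬ C.D.IsPosRoot (C.D.neg r) :=
  (signCheck_spec (Y.sign r hr)).1.mp h

theorem StHyp.simple_pos (i : ℕ) (hi : i < C.D.rank) : C.D.IsPosRoot (C.D.simple i) := by
  have := Y.B.mono.ns i hi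
  simp only [negSimpleCheck, Bool.and_eq_true, decide_eq_true_eq] at this
  exact this.2

theorem StHyp.neg_simple_not_pos (i : ℕ) (hi : i < C.D.rank) : ¬ C.D.IsPosRoot (C.D.neg (C.D.simple i)) :=
  Y.not_pos_neg _ (R.simple_lt i hi) (Y.simple_pos i hi)

theorem StHyp.refl_pos (i : ℕ) (hi : i < C.D.rank) (s : ℕ) (hs : C.D.IsPosRoot s) (hsp : s ≠ C.D.simple i) :
    C.D.IsPosRoot (R.refl i s) ∧ R.refl i s ≠ C.D.simple i := by
  have hc := Y.B.mono.wp i hi s hs.1
  simp only [wpCheck, Bool.or_eq_true, Bool.and_eq_true, Bool.not_eq_true', decide_eq_true_eq,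
    Bool.and_eq_false_imp, decide_eq_false_iff_not] at hc
  rcases hc with hc | hc
  · exact absurd hsp (by simpa using hc hs)
  · exact hc

theorem StHyp.refl_neg (i : ℕ) (hi : i < C.D.rank) (s : ℕ) (hs : s < C.D.nroots) :
    R.refl i (C.D.neg s) = C.D.neg (R.refl i s) := (R.negCompat Y.B.mono.nr i hi s hs).1

theorem StHyp.cartan_neg_simple (j : ℕ) (hj : j < C.D.rank) (i : ℕ) (hi : i < C.D.rank) :
    C.D.cartan j (C.D.neg (C.D.simple i)) = - C.D.cartan j (C.D.simple i) := by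
  have := Y.pneg j hj i hi
  simp only [pairNegCheck, Bool.and_eq_true, decide_eq_true_eq] at this
  rw [← R.pair_simple j hj _ (R.neg_lt _ (R.simple_lt i hi)), ← R.pair_simple j hj _ (R.simple_lt i hi)]
  exact this.1

theorem StHyp.eta_neg (i : ℕ) (hi : i < C.D.rank) (s : ℕ) (hs : s < C.D.nroots) :
    R.eta i (C.D.neg s) = R.eta i s := (R.negCompat Y.B.mono.nr i hi s hs).2

end

section
variable {C : CDatum} (R : RelData C) {F : Type*} [Field F]

theorem hU_conj (i : ℕ) (hi : i < C.D.rank) (t : F) (ht : t ≠ 0) (s : ℕ) (hs : s < C.D.nroots) (u : F) :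
    R.hU (C.D.simple i) t * R.xU s u * (R.hU (C.D.simple i) t)⁻¹ = R.xU s (t ^ C.D.cartan i s * u) := by
  rw [mul_inv_eq_iff_eq_mul]
  apply Units.ext
  rw [Units.val_mul, Units.val_mul, R.hU_val, R.xU_val, R.xU_val]
  exact R.hMat_mul_x i s hi hs t ht u

theorem nU_conj (i : ℕ) (hi : i < C.D.rank) (s : ℕ) (hs : s < C.D.nroots) (u : F) :
    R.nU (C.D.simple i) (1 : F) * R.xU s u * (R.nU (C.D.simple i) (1 : F))⁻¹ =
      R.xU (R.refl i s) ((R.eta i s : F) * u) :=
  R.conj_units (R.conjRel i hi) _ (R.nU_val _ _) s hs u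

theorem xU_inj_pos (U : UHyp C R) (r : ℕ) (hr : C.D.IsPosRoot r) (a b : F) (h : R.xU r a = R.xU r b) : a = b := by
  have h1 : R.xU r (a - b) = 1 := by
    rw [sub_eq_add_neg, ← R.xU_add, ← R.xU_inv, h, mul_inv_cancel]
  have := R.eq_zero_of_mem_ut U.hf U.fr U.wj U.wi r hr (U.wit r hr.1) (a - b) (by rw [h1]; exact Subgroup.one_mem _)
  exact sub_eq_zero.mp this

end

section
variable {C : CDatum} {R : RelData C} {F : Type*} [Field F] {Γ : Type*} [Group Γ] (S : StData C R F Γ)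
  (Y : StHyp C R)

/-- The opposite data attached to the table hypotheses. -/
def StData.oppY : StData C R F Γ := S.opp Y.hnn Y.theta Y.cneg

theorem StData.oppY_X (r : ℕ) (t : F) : (S.oppY Y).X r t = S.X (C.D.neg r) (-t) := rfl

include Y in
/-- Conjugation of a negative root symbol by an element of the rank one subgroup is determined by the image. -/
theorem StData.conj_eq_of_neg (i : ℕ) (hi : i < C.D.rank) (g : Γ) (hg : g ∈ S.Gi i) (s : ℕ) (hs : s < C.D.nroots)
    (hsn : C.D.IsPosRoot (C.D.neg s)) (hsp : s ≠ C.D.neg (C.D.simple i)) (u : F) (s' : ℕ) (hs' : s' < C.D.nroots)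
    (hsn' : C.D.IsPosRoot (C.D.neg s')) (u' : F)
    (h : S.φ g * R.xU s u * (S.φ g)⁻¹ = R.xU s' u') : g * S.X s u * g⁻¹ = S.X s' u' := by
  have hne : C.D.neg s ≠ C.D.simple i := by
    intro e
    apply hsp
    rw [← Y.hnn s hs, e]
  have key := (S.oppY Y).conj_eq_of_pos Y.U Y.B.up i hi g (by rw [StData.oppY, S.opp_Gi _ _ _ i hi]; exact hg)
    (C.D.neg s) hsn hne (-u) (C.D.neg s') hsn' (-u')
    (by
      rw [StData.oppY, S.opp_phi]
      exact opp_conj_rel Y.hnn Y.theta (S.φ g) s s' hs hs' u u' h)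
  rw [StData.oppY_X, StData.oppY_X, Y.hnn s hs, Y.hnn s' hs', neg_neg, neg_neg] at key
  exact key

include Y in
theorem StData.hS_conj_off (i : ℕ) (hi : i < C.D.rank) (t : F) (ht : t ≠ 0) (s : ℕ) (hs : s < C.D.nroots)
    (h1 : s ≠ C.D.simple i) (h2 : s ≠ C.D.neg (C.D.simple i)) (u : F) :
    S.hS (C.D.simple i) t * S.X s u * (S.hS (C.D.simple i) t)⁻¹ = S.X s (t ^ C.D.cartan i s * u) := by
  have hφ : S.φ (S.hS (C.D.simple i) t) * R.xU s u * (S.φ (S.hS (C.D.simple i) t))⁻¹ =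
      R.xU s (t ^ C.D.cartan i s * u) := by
    rw [S.phi_hS _ (R.simple_lt i hi)]
    exact hU_conj R i hi t ht s hs u
  rcases Y.pos_or_neg s hs with hp | hn
  · exact S.conj_eq_of_pos Y.U Y.B.up i hi _ (S.hS_mem_Gi i t) s hp h1 u s hp _ hφ
  · exact S.conj_eq_of_neg Y i hi _ (S.hS_mem_Gi i t) s hs hn h2 u s hs hn _ hφ

include Y in
theorem StData.nS_conj_off (i : ℕ) (hi : i < C.D.rank) (s : ℕ) (hs : s < C.D.nroots)
    (h1 : s ≠ C.D.simple i) (h2 : s ≠ C.D.neg (C.D.simple i)) (u : F) :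
    S.nS (C.D.simple i) 1 * S.X s u * (S.nS (C.D.simple i) 1)⁻¹ = S.X (R.refl i s) ((R.eta i s : F) * u) := by
  have hφ : S.φ (S.nS (C.D.simple i) 1) * R.xU s u * (S.φ (S.nS (C.D.simple i) 1))⁻¹ =
      R.xU (R.refl i s) ((R.eta i s : F) * u) := by
    rw [S.phi_nS _ (R.simple_lt i hi)]
    exact nU_conj R i hi s hs u
  rcases Y.pos_or_neg s hs with hp | hn
  · exact S.conj_eq_of_pos Y.U Y.B.up i hi _ (S.nS_mem_Gi i 1) s hp h1 u _ (Y.refl_pos i hi s hp h1).1 _ hφ
  · have hne : C.D.neg s ≠ C.D.simple i := by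
      intro e
      apply h2
      rw [← Y.hnn s hs, e]
    have := (Y.refl_pos i hi _ hn hne).1
    rw [Y.refl_neg i hi s hs] at this
    exact S.conj_eq_of_neg Y i hi _ (S.nS_mem_Gi i 1) s hs hn h2 u _ (R.refl_lt i hi s hs) this _ hφ

end

end Cfsg.Agent.Lib.Helper3.StB
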