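import Mathlib
import Cfsg.Prelude.Def_ChevStructure
import Cfsg.Agent.Lib.Helper3.StB7
set_option autoImplicit false
set_option linter.unusedSectionVars false
open Cfsg Cfsg.Lie

/-! The action of `h_p(t)` and `n_p` on the root symbols `X_{±p}`, and the resulting relations for all roots. -/

namespace Cfsg.Agent.Lib.Helper3.StB

open ChevM ChevU ChevT

section
variable {C : CDatum} {R : RelData C} {F : Type*} [Field F] {Γ : Type*} [Group Γ] (S : StData C R F Γ)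
  (Y : StHyp C R)

include Y in
theorem StHyp.self_spec (i : ℕ) (hi : i < C.D.rank) :
    ∃ (a b : ℕ) (c₀ : ℤ) (i₀ j₀ : ℕ) (pre post : List (ℕ × ℤ × ℕ × ℕ)), a < C.D.nroots ∧ b < C.D.nroots ∧ b ≠ a ∧
      b ≠ C.D.neg a ∧
      a ≠ C.D.simple i ∧ a ≠ C.D.neg (C.D.simple i) ∧ b ≠ C.D.simple i ∧ b ≠ C.D.neg (C.D.simple i) ∧
      R.refl i b ≠ R.refl i a ∧ R.refl i b ≠ C.D.neg (R.refl i a) ∧
      C.D.commTerms a b = pre ++ (C.D.simple i, c₀, i₀, j₀) :: post ∧ (c₀ = 1 ∨ c₀ = -1) ∧ (i₀ = 1 ∨ j₀ = 1) ∧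
      (∀ c ∈ pre ++ post, C.D.IsPosRoot c.1 ∧ c.1 ≠ C.D.simple i) ∧
      (∀ c ∈ C.D.commTerms (R.refl i a) (R.refl i b),
        c.1 = C.D.neg (C.D.simple i) ∨ (C.D.IsPosRoot c.1 ∧ c.1 ≠ C.D.simple i)) := by
  have h := Y.self i hi
  simp only [selfCheck, Bool.and_eq_true, decide_eq_true_eq, List.all_eq_true, Bool.or_eq_true] at h
  obtain ⟨⟨⟨⟨⟨⟨⟨⟨⟨⟨⟨h1, h2⟩, h3⟩, h4⟩, h5⟩, h6⟩, h7⟩, h8⟩, h9⟩, h10⟩, h11⟩, h12⟩ := h
  obtain ⟨pre, c₀, i₀, j₀, post, e, hc, hij, hr⟩ := termsCheck_spec h11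
  exact ⟨(Y.ab i).1, (Y.ab i).2, c₀, i₀, j₀, pre, post, h1, h2, h3, h4, h5, h6, h7, h8, h9, h10, e, hc, hij, hr, h12⟩

include Y in
/-- `h_p(t) x_p(v) h_p(t)⁻¹ = x_p(t^{A_{pp}} v)`. -/
theorem StData.hS_conj_self (i : ℕ) (hi : i < C.D.rank) (t : F) (ht : t ≠ 0) (v : F) :
    S.hS (C.D.simple i) t * S.X (C.D.simple i) v * (S.hS (C.D.simple i) t)⁻¹ =
      S.X (C.D.simple i) (t ^ C.D.cartan i (C.D.simple i) * v) := by
  obtain ⟨a, b, c₀, i₀, j₀, pre, post, ha, hb, hab, hab', ha1, ha2, hb1, hb2, -, -, hterms, hc₀, hij, hrest, -⟩ :=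
    Y.self_spec i hi
  have hpl := R.simple_lt i hi
  have hppos := Y.simple_pos i hi
  refine S.transfer (S.Ubar Y.U) (fun y hy z hz h => S.inj_Ubar' Y.U y z hy hz h) (S.hS (C.D.simple i) t) (fun s => s)
    (fun c => t ^ C.D.cartan i c) a b (C.D.simple i) c₀ i₀ j₀ pre post ha hb hab hab' hterms hc₀ hij ha hb hab hab'
    (fun w => S.hS_conj_off Y i hi t ht a ha ha1 ha2 w) (fun w => S.hS_conj_off Y i hi t ht b hb hb1 hb2 w)
    ?_ ?_ ?_ (C.D.simple i) _ (fun w => S.X_mem_Ubar Y.U _ hppos w) hpl hpl ?_ v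
  · intro c hc w
    have h1 := hrest c hc
    refine S.hS_conj_off Y i hi t ht c.1 h1.1.1 h1.2 ?_ w
    intro e
    exact Y.neg_simple_not_pos i hi (e ▸ h1.1)
  · intro c hc w
    exact S.X_mem_Ubar Y.U _ (hrest c hc).1 w
  · intro c hc w
    rw [hterms] at hc
    rcases List.mem_append.mp hc with hc | hc
    · exact S.X_mem_Ubar Y.U _ (hrest c (List.mem_append_left _ hc)).1 w
    · rcases List.mem_cons.mp hc with rfl | hc
      · exact S.X_mem_Ubar Y.U _ hppos w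
      · exact S.X_mem_Ubar Y.U _ (hrest c (List.mem_append_right _ hc)).1 w
  · intro v
    rw [S.phi_hS _ hpl]
    exact hU_conj R i hi t ht _ hpl v

include Y in
/-- `n_p x_p(v) n_p⁻¹ = x_{-p}(η v)`. -/
theorem StData.nS_conj_self (i : ℕ) (hi : i < C.D.rank) (v : F) :
    S.nS (C.D.simple i) 1 * S.X (C.D.simple i) v * (S.nS (C.D.simple i) 1)⁻¹ =
      S.X (R.refl i (C.D.simple i)) ((R.eta i (C.D.simple i) : F) * v) := by
  obtain ⟨a, b, c₀, i₀, j₀, pre, post, ha, hb, hab, hab', ha1, ha2, hb1, hb2, hσ1, hσ2, hterms, hc₀, hij, hrest,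
    hT2⟩ := Y.self_spec i hi
  have hpl := R.simple_lt i hi
  have hnpl := R.neg_lt _ hpl
  have hUQ : S.Ui i ≤ S.Qi i := le_sup_right
  have hXQ : ∀ w, S.X (C.D.neg (C.D.simple i)) w ∈ S.Qi i := fun w =>
    Subgroup.mem_sup_left (S.X_mem_rootGrp _ w)
  refine S.transfer (S.Qi i) (fun y hy z hz h => S.inj_Qi' Y.U Y.B.up Y.B.mono.tri i hi (Y.B.low i hi) y z hy hz h) (S.nS (C.D.simple i) 1)
    (R.refl i) (fun c => (R.eta i c : F)) a b (C.D.simple i) c₀ i₀ j₀ pre post ha hb hab hab' hterms hc₀ hij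
    (R.refl_lt i hi a ha) (R.refl_lt i hi b hb) hσ1 hσ2
    (fun w => S.nS_conj_off Y i hi a ha ha1 ha2 w) (fun w => S.nS_conj_off Y i hi b hb hb1 hb2 w)
    ?_ ?_ ?_ (R.refl i (C.D.simple i)) _ ?_ hpl (R.refl_lt i hi _ hpl) ?_ v
  · intro c hc w
    have h1 := hrest c hc
    refine S.nS_conj_off Y i hi c.1 h1.1.1 h1.2 ?_ w
    intro e
    exact Y.neg_simple_not_pos i hi (e ▸ h1.1)
  · intro c hc w
    have h1 := hrest c hc
    have h2 := Y.refl_pos i hi c.1 h1.1 h1.2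
    exact hUQ (S.X_mem_Ui i _ h2.1 h2.2 w)
  · intro c hc w
    rcases hT2 c hc with h1 | h1
    · rw [h1]; exact hXQ w
    · exact hUQ (S.X_mem_Ui i _ h1.1 h1.2 w)
  · intro w
    rw [R.refl_simple i hi]
    exact hXQ w
  · intro v
    rw [S.phi_nS _ hpl]
    exact nU_conj R i hi _ hpl v

include Y in
/-- `h_p(t) x_{-p}(v) h_p(t)⁻¹ = x_{-p}(t^{A_{p,-p}} v)`. -/
theorem StData.hS_conj_neg_self (i : ℕ) (hi : i < C.D.rank) (t : F) (ht : t ≠ 0) (v : F) :
    S.hS (C.D.simple i) t * S.X (C.D.neg (C.D.simple i)) v * (S.hS (C.D.simple i) t)⁻¹ =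
      S.X (C.D.neg (C.D.simple i)) (t ^ C.D.cartan i (C.D.neg (C.D.simple i)) * v) := by
  obtain ⟨a, b, c₀, i₀, j₀, pre, post, ha, hb, hab, hab', ha1, ha2, hb1, hb2, -, -, hterms, hc₀, hij, hrest, -⟩ :=
    Y.self_spec i hi
  have hpl := R.simple_lt i hi
  have hnpl := R.neg_lt _ hpl
  have hppos := Y.simple_pos i hi
  have hoff : ∀ c, c < C.D.nroots → c ≠ C.D.simple i → c ≠ C.D.neg (C.D.simple i) → ∀ w,
      S.hS (C.D.simple i) t * (S.oppY Y).X c w * (S.hS (C.D.simple i) t)⁻¹ =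
        (S.oppY Y).X c (t ^ C.D.cartan i (C.D.neg c) * w) := by
    intro c hc h1 h2 w
    rw [StData.oppY_X, StData.oppY_X]
    have hnc := R.neg_lt c hc
    have e1 : C.D.neg c ≠ C.D.simple i := by
      intro e; apply h2; rw [← Y.hnn c hc, e]
    have e2 : C.D.neg c ≠ C.D.neg (C.D.simple i) := by
      intro e; apply h1; rw [← Y.hnn c hc, e, Y.hnn _ hpl]
    rw [S.hS_conj_off Y i hi t ht _ hnc e1 e2, mul_neg]
  have key := (S.oppY Y).transfer ((S.oppY Y).Ubar Y.U) (fun y hy z hz h => (S.oppY Y).inj_Ubar' Y.U y z hy hz h) (S.hS (C.D.simple i) t)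
    (fun s => s) (fun c => t ^ C.D.cartan i (C.D.neg c)) a b (C.D.simple i) c₀ i₀ j₀ pre post ha hb hab hab' hterms hc₀ hij
    ha hb hab hab' (hoff a ha ha1 ha2) (hoff b hb hb1 hb2)
    (by
      intro c hc w
      have h1 := hrest c hc
      refine hoff c.1 h1.1.1 h1.2 ?_ w
      intro e
      exact Y.neg_simple_not_pos i hi (e ▸ h1.1))
    (by
      intro c hc w
      exact (S.oppY Y).X_mem_Ubar Y.U _ (hrest c hc).1 w)
    (by
      intro c hc w
      rw [hterms] at hc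
      rcases List.mem_append.mp hc with hc | hc
      · exact (S.oppY Y).X_mem_Ubar Y.U _ (hrest c (List.mem_append_left _ hc)).1 w
      · rcases List.mem_cons.mp hc with rfl | hc
        · exact (S.oppY Y).X_mem_Ubar Y.U _ hppos w
        · exact (S.oppY Y).X_mem_Ubar Y.U _ (hrest c (List.mem_append_right _ hc)).1 w)
    (C.D.simple i) (t ^ C.D.cartan i (C.D.neg (C.D.simple i)))
    (fun w => (S.oppY Y).X_mem_Ubar Y.U _ hppos w) hpl hpl
    (by
      intro v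
      have h0 := hU_conj R i hi t ht _ hnpl (-v)
      rw [← S.phi_hS _ hpl] at h0
      have := opp_conj_rel Y.hnn Y.theta _ _ _ hnpl hnpl _ _ h0
      rw [Y.hnn _ hpl, neg_neg, mul_neg, neg_neg] at this
      exact this)
    (-v)
  rw [StData.oppY_X, StData.oppY_X, neg_neg, mul_neg, neg_neg] at key
  exact key

include Y in
/-- `n_p x_{-p}(v) n_p⁻¹ = x_p(η v)`. -/
theorem StData.nS_conj_neg_self (i : ℕ) (hi : i < C.D.rank) (w : F) :
    S.nS (C.D.simple i) 1 * S.X (C.D.neg (C.D.simple i)) w * (S.nS (C.D.simple i) 1)⁻¹ =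
      S.X (R.refl i (C.D.neg (C.D.simple i))) ((R.eta i (C.D.neg (C.D.simple i)) : F) * w) := by
  have hpl := R.simple_lt i hi
  have hnpl := R.neg_lt _ hpl
  have hppos := Y.simple_pos i hi
  set p := C.D.simple i with hp
  set n := S.nS p 1 with hn
  set η : F := (R.eta i p : F) with hη
  have hηη : η * η = 1 := by
    rw [hη]
    rcases R.eta_sign i hi p hpl with h | h <;> rw [h] <;> simp
  have hA := S.nS_conj_self Y i hi
  rw [R.refl_simple i hi, ← hp, ← hn, ← hη] at hA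
  have hrn : R.refl i (C.D.neg p) = p := by
    rw [Y.refl_neg i hi p hpl, R.refl_simple i hi, Y.hnn p hpl]
  rw [hrn]
  have hD := S.hS_conj_self Y i hi (-1 : F) (by simp)
  rw [← hp] at hD
  set c : F := (-1 : F) ^ C.D.cartan i p with hc
  have hc0 : c ≠ 0 := zpow_ne_zero _ (by simp)
  have hnn : n * n = (S.hS p (-1))⁻¹ := by
    rw [hn, S.nS_mul_nS, S.hS_one, one_mul]
  -- `X (-p) w = n X p (η w) n⁻¹`
  have e1 : S.X (C.D.neg p) w = n * S.X p (η * w) * n⁻¹ := by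
    rw [hA, ← mul_assoc, hηη, one_mul]
  have e2 : n * S.X (C.D.neg p) w * n⁻¹ = (S.hS p (-1))⁻¹ * S.X p (η * w) * (S.hS p (-1)) := by
    have : n * (n * S.X p (η * w) * n⁻¹) * n⁻¹ = (n * n) * S.X p (η * w) * (n * n)⁻¹ := by group
    rw [e1, this, hnn, inv_inv]
  have e3 : (S.hS p (-1))⁻¹ * S.X p (η * w) * (S.hS p (-1)) = S.X p (c⁻¹ * (η * w)) := by
    have := hD (c⁻¹ * (η * w))
    rw [mul_inv_cancel_left₀ hc0] at this
    rw [← this]; group
  rw [e2, e3]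
  -- compare the images
  have himg : S.φ (n * S.X (C.D.neg p) w * n⁻¹) = R.xU p ((R.eta i (C.D.neg p) : F) * w) := by
    rw [map_mul, map_mul, map_inv, hn, S.phi_nS _ hpl, S.φX _ hnpl, nU_conj R i hi _ hnpl, hrn]
  rw [e2, e3, S.φX _ hpl] at himg
  rw [xU_inj_pos R Y.U p hppos _ _ himg]

include Y in
theorem StData.hS_conj (i : ℕ) (hi : i < C.D.rank) (t : F) (ht : t ≠ 0) (s : ℕ) (hs : s < C.D.nroots) (u : F) :
    S.hS (C.D.simple i) t * S.X s u * (S.hS (C.D.simple i) t)⁻¹ = S.X s (t ^ C.D.cartan i s * u) := by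
  by_cases h1 : s = C.D.simple i
  · subst h1; exact S.hS_conj_self Y i hi t ht u
  by_cases h2 : s = C.D.neg (C.D.simple i)
  · subst h2; exact S.hS_conj_neg_self Y i hi t ht u
  exact S.hS_conj_off Y i hi t ht s hs h1 h2 u

include Y in
theorem StData.nS_conj (i : ℕ) (hi : i < C.D.rank) (s : ℕ) (hs : s < C.D.nroots) (u : F) :
    S.nS (C.D.simple i) 1 * S.X s u * (S.nS (C.D.simple i) 1)⁻¹ = S.X (R.refl i s) ((R.eta i s : F) * u) := by
  by_cases h1 : s = C.D.simple i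
  · subst h1; exact S.nS_conj_self Y i hi u
  by_cases h2 : s = C.D.neg (C.D.simple i)
  · subst h2; exact S.nS_conj_neg_self Y i hi u
  exact S.nS_conj_off Y i hi s hs h1 h2 u

end

end Cfsg.Agent.Lib.Helper3.StB
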