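import Mathlib
import Cfsg.Prelude.Def_ChevStructure
import Cfsg.Agent.Lib.Helper3.StB8
set_option autoImplicit false
set_option linter.unusedSectionVars false
open Cfsg Cfsg.Lie

/-! The subgroups `H̄` and `N̄` of a group with Steinberg's relations. -/

namespace Cfsg.Agent.Lib.Helper3.StB

open ChevM ChevU ChevT

section
variable {C : CDatum} {R : RelData C} {F : Type*} [Field F] {Γ : Type*} [Group Γ] (S : StData C R F Γ)
  (Y : StHyp C R)

/-- The element `n_{p_i} = n_{p_i}(1)`. -/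
def StData.nb (i : ℕ) : Γ := S.nS (C.D.simple i) 1

/-- The product of the `n_{p_i}` along a word. -/
def StData.wordN (l : List ℕ) : Γ := (l.map S.nb).prod

theorem StData.wordN_nil : S.wordN [] = 1 := rfl

theorem StData.wordN_cons (i : ℕ) (l : List ℕ) : S.wordN (i :: l) = S.nb i * S.wordN l := by
  unfold StData.wordN
  rw [List.map_cons, List.prod_cons]

theorem StData.wordN_append (l l' : List ℕ) : S.wordN (l ++ l') = S.wordN l * S.wordN l' := by
  unfold StData.wordN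
  rw [List.map_append, List.prod_append]

/-- The generators of `H̄`. -/
def StData.HSet : Set Γ := {g | ∃ (i : ℕ) (t : F), i < C.D.rank ∧ t ≠ 0 ∧ g = S.hS (C.D.simple i) t}

/-- The subgroup `H̄`. -/
def StData.Hbar : Subgroup Γ := Subgroup.closure S.HSet

theorem StData.hS_mem_Hbar (i : ℕ) (hi : i < C.D.rank) (t : F) (ht : t ≠ 0) : S.hS (C.D.simple i) t ∈ S.Hbar :=
  Subgroup.subset_closure ⟨i, t, hi, ht, rfl⟩

theorem StData.phi_wordN (l : List ℕ) (hl : ∀ i ∈ l, i < C.D.rank) : S.φ (S.wordN l) = R.nWordU l := by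
  induction l with
  | nil => simp [StData.wordN, RelData.nWordU]
  | cons i l ih =>
    rw [S.wordN_cons, map_mul, ih fun j hj => hl j (List.mem_cons_of_mem _ hj), R.nWordU_cons, StData.nb,
      S.phi_nS _ (R.simple_lt i (hl i List.mem_cons_self))]

include Y in
theorem StData.wordN_conj (l : List ℕ) (hl : ∀ i ∈ l, i < C.D.rank) (s : ℕ) (hs : s < C.D.nroots) (u : F) :
    S.wordN l * S.X s u * (S.wordN l)⁻¹ = S.X (reflW R.refl l s) ((etaW R.refl R.eta l s : F) * u) := by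
  induction l generalizing u with
  | nil => simp [StData.wordN, reflW, etaW]
  | cons i l ih =>
    have hl' : ∀ j ∈ l, j < C.D.rank := fun j hj => hl j (List.mem_cons_of_mem _ hj)
    have hi := hl i List.mem_cons_self
    have e : S.wordN (i :: l) * S.X s u * (S.wordN (i :: l))⁻¹ =
        S.nb i * (S.wordN l * S.X s u * (S.wordN l)⁻¹) * (S.nb i)⁻¹ := by
      rw [S.wordN_cons]; group
    rw [e, ih hl', StData.nb, S.nS_conj Y i hi _ (R.reflW_lt l hl' s hs)]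
    show S.X (R.refl i (reflW R.refl l s)) _ = S.X (R.refl i (reflW R.refl l s)) _
    congr 1
    simp only [etaW]
    push_cast
    ring

theorem eta_inv {F : Type*} [Field F] {η : ℤ} (h : η = 1 ∨ η = -1) : ((η : F))⁻¹ = (η : F) := by
  rcases h with rfl | rfl <;> simp

include Y in
theorem StData.wordN_conj_nS (l : List ℕ) (hl : ∀ i ∈ l, i < C.D.rank) (r : ℕ) (hr : r < C.D.nroots) (c : F) :
    S.wordN l * S.nS r c * (S.wordN l)⁻¹ = S.nS (reflW R.refl l r) ((etaW R.refl R.eta l r : F) * c) := by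
  have hnc := R.negCompat_word Y.B.mono.nr l hl r hr
  have hsign := (R.conjRel_word (F := F) l hl).sign r hr
  have e : S.wordN l * S.nS r c * (S.wordN l)⁻¹ =
      (S.wordN l * S.X r c * (S.wordN l)⁻¹) * (S.wordN l * S.X (C.D.neg r) (-c⁻¹) * (S.wordN l)⁻¹) *
        (S.wordN l * S.X r c * (S.wordN l)⁻¹) := by
    rw [S.nS_eq]; group
  rw [e, S.wordN_conj Y l hl r hr, S.wordN_conj Y l hl _ (R.neg_lt r hr), hnc.1, hnc.2, S.nS_eq]
  congr 3
  rw [mul_inv, eta_inv hsign, mul_neg]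

include Y in
/-- Every element of `H̄` acts diagonally on the root symbols. -/
theorem StData.Hbar_diag (h : Γ) (hh : h ∈ S.Hbar) :
    ∃ χ : ℕ → F, (∀ s, χ s ≠ 0) ∧ ∀ s < C.D.nroots, ∀ u, h * S.X s u * h⁻¹ = S.X s (χ s * u) := by
  induction hh using Subgroup.closure_induction with
  | mem y hy =>
    obtain ⟨i, t, hi, ht, rfl⟩ := hy
    exact ⟨fun s => t ^ C.D.cartan i s, fun s => zpow_ne_zero _ ht, fun s hs u => S.hS_conj Y i hi t ht s hs u⟩
  | one => exact ⟨fun _ => 1, fun _ => one_ne_zero, fun s _ u => by simp⟩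
  | mul a b _ _ iha ihb =>
    obtain ⟨χa, ha0, ha⟩ := iha
    obtain ⟨χb, hb0, hb⟩ := ihb
    refine ⟨fun s => χa s * χb s, fun s => mul_ne_zero (ha0 s) (hb0 s), fun s hs u => ?_⟩
    have e : a * b * S.X s u * (a * b)⁻¹ = a * (b * S.X s u * b⁻¹) * a⁻¹ := by group
    rw [e, hb s hs, ha s hs, mul_assoc]
  | inv a _ iha =>
    obtain ⟨χa, ha0, ha⟩ := iha
    refine ⟨fun s => (χa s)⁻¹, fun s => inv_ne_zero (ha0 s), fun s hs u => ?_⟩
    have := ha s hs ((χa s)⁻¹ * u)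
    rw [mul_inv_cancel_left₀ (ha0 s)] at this
    rw [← this]; group

include Y in
/-- `n_{p_i} h_{p_j}(t) n_{p_i}⁻¹ = h_{p_j}(t) h_{p_i}(t^{-A})`. -/
theorem StData.nb_conj_hS (i : ℕ) (hi : i < C.D.rank) (j : ℕ) (hj : j < C.D.rank) (t : F) (ht : t ≠ 0) :
    S.nb i * S.hS (C.D.simple j) t * (S.nb i)⁻¹ =
      S.hS (C.D.simple j) t * S.hS (C.D.simple i) (t ^ (- C.D.cartan j (C.D.simple i))) := by
  set h := S.hS (C.D.simple j) t with hh
  have hpl := R.simple_lt i hi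
  have hnpl := R.neg_lt _ hpl
  set A := C.D.cartan j (C.D.simple i) with hA
  have hAn : C.D.cartan j (C.D.neg (C.D.simple i)) = -A := Y.cartan_neg_simple j hj i hi
  have ht0 : t ^ A ≠ 0 := zpow_ne_zero _ ht
  -- `h⁻¹ X s u h = X s (t^{-A_{js}} u)`
  have hinv : ∀ s < C.D.nroots, ∀ u, h⁻¹ * S.X s u * h = S.X s ((t ^ C.D.cartan j s)⁻¹ * u) := by
    intro s hs u
    have := S.hS_conj Y j hj t ht s hs ((t ^ C.D.cartan j s)⁻¹ * u)
    rw [mul_inv_cancel_left₀ (zpow_ne_zero _ ht)] at this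
    rw [← this, ← hh]; group
  have key : h⁻¹ * S.nb i * h = S.nS (C.D.simple i) (t ^ (-A)) := by
    have e : h⁻¹ * S.nb i * h = (h⁻¹ * S.X (C.D.simple i) 1 * h) *
        (h⁻¹ * S.X (C.D.neg (C.D.simple i)) (-(1 : F)⁻¹) * h) * (h⁻¹ * S.X (C.D.simple i) 1 * h) := by
      rw [StData.nb, S.nS_eq]; group
    have c1 : (t ^ A)⁻¹ * 1 = t ^ (-A) := by rw [mul_one, zpow_neg]
    have c2 : (t ^ (-A))⁻¹ * (-(1 : F)⁻¹) = -(t ^ (-A))⁻¹ := by rw [inv_one, mul_neg, mul_one]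
    rw [e, hinv _ hpl, hinv _ hnpl, hAn, S.nS_eq, ← hA, c1, c2]
  have e2 : S.nb i * h * (S.nb i)⁻¹ = h * (h⁻¹ * S.nb i * h) * (S.nb i)⁻¹ := by group
  rw [e2, key, S.nS_eq_hS_mul, StData.nb]
  group

include Y in
theorem StData.nb_inv (i : ℕ) : (S.nb i)⁻¹ = S.nb i * S.hS (C.D.simple i) (-1) := by
  rw [S.hS_eq, StData.nb, S.nS_neg]
  group

include Y in
theorem StData.nb_conj_Hbar (i : ℕ) (hi : i < C.D.rank) (y : Γ) (hy : y ∈ S.Hbar) :
    S.nb i * y * (S.nb i)⁻¹ ∈ S.Hbar := by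
  induction hy using Subgroup.closure_induction with
  | mem y hy =>
    obtain ⟨j, t, hj, ht, rfl⟩ := hy
    rw [S.nb_conj_hS Y i hi j hj t ht]
    exact Subgroup.mul_mem _ (S.hS_mem_Hbar j hj t ht) (S.hS_mem_Hbar i hi _ (zpow_ne_zero _ ht))
  | one => simp
  | mul a b _ _ iha ihb =>
    have e : S.nb i * (a * b) * (S.nb i)⁻¹ = (S.nb i * a * (S.nb i)⁻¹) * (S.nb i * b * (S.nb i)⁻¹) := by group
    rw [e]; exact Subgroup.mul_mem _ iha ihb
  | inv a _ iha =>
    have e : S.nb i * a⁻¹ * (S.nb i)⁻¹ = (S.nb i * a * (S.nb i)⁻¹)⁻¹ := by group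
    rw [e]; exact Subgroup.inv_mem _ iha

include Y in
theorem StData.nb_conj_Hbar' (i : ℕ) (hi : i < C.D.rank) (y : Γ) (hy : y ∈ S.Hbar) :
    (S.nb i)⁻¹ * y * S.nb i ∈ S.Hbar := by
  set k := S.hS (C.D.simple i) (-1) with hk
  have hkH : k ∈ S.Hbar := S.hS_mem_Hbar i hi _ (by simp)
  have e : (S.nb i)⁻¹ * y * S.nb i = k⁻¹ * (k * ((S.nb i)⁻¹ * y * S.nb i) * k⁻¹) * k := by group
  have e2 : k * ((S.nb i)⁻¹ * y * S.nb i) * k⁻¹ = S.nb i * (k * k * y * (k * k)⁻¹) * (S.nb i)⁻¹ := by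
    have h1 : (S.nb i)⁻¹ = S.nb i * k := S.nb_inv Y i
    have h2 : S.nb i = (S.nb i * k)⁻¹ := by rw [← h1, inv_inv]
    have h3 : S.nb i * k * (S.nb i * k) = 1 → True := fun _ => trivial
    -- `k = n⁻¹ n⁻¹`
    have h4 : k = (S.nb i)⁻¹ * (S.nb i)⁻¹ := by
      rw [hk, S.hS_eq, StData.nb, S.nS_neg]
    rw [h4]; group
  rw [e, e2]
  refine Subgroup.mul_mem _ (Subgroup.mul_mem _ (Subgroup.inv_mem _ hkH) ?_) hkH
  apply S.nb_conj_Hbar Y i hi
  exact Subgroup.mul_mem _ (Subgroup.mul_mem _ (Subgroup.mul_mem _ hkH hkH) hy)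
    (Subgroup.inv_mem _ (Subgroup.mul_mem _ hkH hkH))

include Y in
theorem StData.wordN_conj_Hbar (l : List ℕ) (hl : ∀ i ∈ l, i < C.D.rank) (y : Γ) (hy : y ∈ S.Hbar) :
    S.wordN l * y * (S.wordN l)⁻¹ ∈ S.Hbar := by
  induction l with
  | nil => simpa [StData.wordN] using hy
  | cons i l ih =>
    have e : S.wordN (i :: l) * y * (S.wordN (i :: l))⁻¹ =
        S.nb i * (S.wordN l * y * (S.wordN l)⁻¹) * (S.nb i)⁻¹ := by
      rw [S.wordN_cons]; group
    rw [e]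
    exact S.nb_conj_Hbar Y i (hl i List.mem_cons_self) _ (ih fun j hj => hl j (List.mem_cons_of_mem _ hj))

/-- The subgroup `N̄`. -/
def StData.Nbar : Subgroup Γ :=
  Subgroup.closure ((S.Hbar : Set Γ) ∪ {g | ∃ i, i < C.D.rank ∧ g = S.nb i})

theorem StData.Hbar_le_Nbar : S.Hbar ≤ S.Nbar := fun _ hx => Subgroup.subset_closure (Or.inl hx)

theorem StData.nb_mem_Nbar (i : ℕ) (hi : i < C.D.rank) : S.nb i ∈ S.Nbar :=
  Subgroup.subset_closure (Or.inr ⟨i, hi, rfl⟩)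

theorem StData.wordN_mem_Nbar (l : List ℕ) (hl : ∀ i ∈ l, i < C.D.rank) : S.wordN l ∈ S.Nbar := by
  unfold StData.wordN
  apply Subgroup.list_prod_mem
  intro x hx
  obtain ⟨i, hi, rfl⟩ := List.mem_map.mp hx
  exact S.nb_mem_Nbar i (hl i hi)

include Y in
/-- Every element of `N̄` is `h n_w`. -/
theorem StData.Nbar_decomp (g : Γ) (hg : g ∈ S.Nbar) :
    ∃ h ∈ S.Hbar, ∃ l : List ℕ, (∀ i ∈ l, i < C.D.rank) ∧ g = h * S.wordN l := by
  induction hg using Subgroup.closure_induction_left with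
  | one => exact ⟨1, Subgroup.one_mem _, [], by simp, by simp [StData.wordN]⟩
  | mul_left x hx y _ ih =>
    obtain ⟨h, hh, l, hl, rfl⟩ := ih
    rcases hx with hx | ⟨i, hi, rfl⟩
    · exact ⟨x * h, Subgroup.mul_mem _ hx hh, l, hl, by group⟩
    · refine ⟨S.nb i * h * (S.nb i)⁻¹, S.nb_conj_Hbar Y i hi h hh, i :: l, ?_, ?_⟩
      · intro j hj
        rcases List.mem_cons.mp hj with rfl | hj
        · exact hi
        · exact hl j hj
      · rw [S.wordN_cons]; group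
  | inv_mul_cancel x hx y _ ih =>
    obtain ⟨h, hh, l, hl, rfl⟩ := ih
    rcases hx with hx | ⟨i, hi, rfl⟩
    · exact ⟨x⁻¹ * h, Subgroup.mul_mem _ (Subgroup.inv_mem _ hx) hh, l, hl, by group⟩
    · set k := S.hS (C.D.simple i) (-1) with hk
      have hkH : k ∈ S.Hbar := S.hS_mem_Hbar i hi _ (by simp)
      refine ⟨S.nb i * (k * h) * (S.nb i)⁻¹, S.nb_conj_Hbar Y i hi _ (Subgroup.mul_mem _ hkH hh), i :: l, ?_, ?_⟩
      · intro j hj
        rcases List.mem_cons.mp hj with rfl | hj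
        · exact hi
        · exact hl j hj
      · have h4 : k = (S.nb i)⁻¹ * (S.nb i)⁻¹ := by
          rw [hk, S.hS_eq, StData.nb, S.nS_neg]
        rw [S.wordN_cons, h4]; group

end

end Cfsg.Agent.Lib.Helper3.StB
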