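import Mathlib
import Cfsg.Prelude.Def_ChevStructure
import Cfsg.Agent.Lib.Helper3.StB9
set_option autoImplicit false
set_option linter.unusedSectionVars false
open Cfsg Cfsg.Lie

/-! Deletion in `N̄`: a word in the `n_{p_i}` which fixes every root lies in `H̄`. -/

namespace Cfsg.Agent.Lib.Helper3.StB

open ChevM ChevU ChevT

section
variable {C : CDatum} {R : RelData C} {F : Type*} [Field F] {Γ : Type*} [Group Γ] (S : StData C R F Γ)
  (Y : StHyp C R)

include Y in
/-- Deletion: if `w₂(p_i) = p_j` then `n_{w₁} n_j n_{w₂} n_i ∈ H̄ n_{w₁} n_{w₂}`. -/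
theorem StData.deletion (l1 l2 : List ℕ) (i j : ℕ)
    (hl1 : ∀ a ∈ l1, a < C.D.rank) (hl2 : ∀ a ∈ l2, a < C.D.rank) (hi : i < C.D.rank) (hj : j < C.D.rank)
    (h2 : reflW R.refl l2 (C.D.simple i) = C.D.simple j) :
    ∃ h' ∈ S.Hbar, S.wordN ((l1 ++ j :: l2) ++ [i]) = h' * S.wordN (l1 ++ l2) := by
  have hpl : C.D.simple i < C.D.nroots := R.simple_lt i hi
  set W1 := S.wordN l1 with hW1
  set W2 := S.wordN l2 with hW2
  have hword : S.wordN ((l1 ++ j :: l2) ++ [i]) = W1 * (S.nb j * W2) * S.nb i := by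
    rw [S.wordN_append, S.wordN_append, S.wordN_cons, S.wordN_cons, S.wordN_nil, mul_one]
  have hc := S.wordN_conj_nS Y l2 hl2 _ hpl (1 : F)
  rw [h2, ← hW2] at hc
  set η : F := ((etaW R.refl R.eta l2 (C.D.simple i) : ℤ) : F) * 1 with hη
  have hη0 : η ≠ 0 := by
    rw [hη, mul_one]
    rcases (R.conjRel_word (F := F) l2 hl2).sign _ hpl with h | h <;> rw [h] <;> simp
  have h0 : S.nb j * S.nS (C.D.simple j) η ∈ S.Hbar := by
    rw [StData.nb, S.nS_mul_nS]
    exact Subgroup.mul_mem _ (S.hS_mem_Hbar j hj _ one_ne_zero)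
      (Subgroup.inv_mem _ (S.hS_mem_Hbar j hj _ (neg_ne_zero.mpr hη0)))
  have h1' := S.wordN_conj_Hbar Y l1 hl1 _ h0
  have e2 : W1 * (S.nb j * W2) * S.nb i = (W1 * (S.nb j * S.nS (C.D.simple j) η) * W1⁻¹) * (W1 * W2) := by
    rw [← hc]; unfold StData.nb; group
  exact ⟨_, h1', by rw [hword, e2, S.wordN_append]⟩

include Y in
/-- A word fixing every root has its product in `H̄`. -/
theorem StData.wordN_mem_Hbar_of_fix :
    ∀ (k : ℕ) (l : List ℕ), l.length = k → (∀ a ∈ l, a < C.D.rank) →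
      (∀ s < C.D.nroots, reflW R.refl l s = s) → S.wordN l ∈ S.Hbar := by
  intro k
  induction k using Nat.strong_induction_on with
  | _ k ih =>
    intro l hk hl hfix
    rcases List.eq_nil_or_concat l with rfl | ⟨l', i, hcat⟩
    · exact Subgroup.one_mem _
    rw [List.concat_eq_append] at hcat
    subst hcat
    have hi : i < C.D.rank := hl i (by simp)
    have hl' : ∀ j ∈ l', j < C.D.rank := fun j hj => hl j (by simp [hj])
    set p := C.D.simple i with hp
    have hpl : p < C.D.nroots := R.simple_lt i hi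
    have hreflneg : R.refl i (C.D.neg p) = p := by
      rw [Y.refl_neg i hi p hpl, R.refl_simple i hi, Y.hnn p hpl]
    have h1 : reflW R.refl l' p = C.D.neg p := by
      have h2 := hfix (C.D.neg p) (R.neg_lt p hpl)
      rw [reflW_append] at h2
      have h3 : reflW R.refl [i] (C.D.neg p) = p := hreflneg
      rw [h3] at h2
      exact h2
    obtain ⟨l1, j, l2, e, h2⟩ := exists_simple_of_walk C.D R.refl Y.B.mono.wp l' hl' p (Y.simple_pos i hi)
      (by rw [h1]; exact Y.neg_simple_not_pos i hi)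
    subst e
    have hl1 : ∀ a ∈ l1, a < C.D.rank := fun a ha => hl' a (by simp [ha])
    have hl2 : ∀ a ∈ l2, a < C.D.rank := fun a ha => hl' a (by simp [ha])
    have hj : j < C.D.rank := hl' j (by simp)
    obtain ⟨h', hh', e⟩ := S.deletion Y l1 l2 i j hl1 hl2 hi hj h2
    have hdel := Y.B.mono.reflW_deletion Y.B.dec l1 l2 i j hl1 hl2 hi hj h2
    have hlen : (l1 ++ l2).length < k := by
      rw [← hk]; simp
    have hl12 : ∀ a ∈ l1 ++ l2, a < C.D.rank := by
      intro a ha
      rcases List.mem_append.mp ha with h | h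
      · exact hl1 a h
      · exact hl2 a h
    have := ih _ hlen (l1 ++ l2) rfl hl12 (fun s hs => by rw [← hdel s hs]; exact hfix s hs)
    rw [e]
    exact Subgroup.mul_mem _ hh' this

end

end Cfsg.Agent.Lib.Helper3.StB
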