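import Mathlib
import Cfsg.Prelude.Def_ChevStructure
import Cfsg.Agent.Lib.Helper3.StB10
set_option autoImplicit false
set_option linter.unusedSectionVars false
open Cfsg Cfsg.Lie

/-! The decomposition `Γ = B̄ N̄ B̄` of a group with Steinberg's relations. -/

namespace Cfsg.Agent.Lib.Helper3.StB

open ChevM ChevU ChevT

section
variable {C : CDatum} {R : RelData C} {F : Type*} [Field F] {Γ : Type*} [Group Γ] (S : StData C R F Γ)
  (Y : StHyp C R)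

include Y in
theorem StData.Hbar_conj_Ubar (h : Γ) (hh : h ∈ S.Hbar) (y : Γ) (hy : y ∈ S.Ubar Y.U) : h * y * h⁻¹ ∈ S.Ubar Y.U := by
  obtain ⟨χ, -, hχ⟩ := S.Hbar_diag Y h hh
  have : S.Ubar Y.U ≤ (S.Ubar Y.U).comap (MulAut.conj h).toMonoidHom := by
    apply S.Ubar_le Y.U
    intro r hr t
    rw [Subgroup.mem_comap]
    show h * S.X r t * h⁻¹ ∈ _
    rw [hχ r hr.1]
    exact S.X_mem_Ubar Y.U r hr _
  exact this hy

include Y in
theorem StData.Hbar_le_normalizer_Ubar : S.Hbar ≤ Subgroup.normalizer (S.Ubar Y.U : Set Γ) := by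
  intro h hh
  rw [Subgroup.mem_normalizer_iff]
  intro y
  constructor
  · exact S.Hbar_conj_Ubar Y h hh y
  · intro hy
    have := S.Hbar_conj_Ubar Y h⁻¹ (Subgroup.inv_mem _ hh) _ hy
    rw [inv_inv] at this
    have e : h⁻¹ * (h * y * h⁻¹) * h = y := by group
    rwa [e] at this

/-- The subgroup `B̄ = Ū H̄`. -/
def StData.Bbar : Subgroup Γ := S.Ubar Y.U ⊔ S.Hbar

theorem StData.Ubar_le_Bbar : S.Ubar Y.U ≤ S.Bbar Y := le_sup_left

theorem StData.Hbar_le_Bbar : S.Hbar ≤ S.Bbar Y := le_sup_right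

theorem StData.mem_Bbar (b : Γ) (hb : b ∈ S.Bbar Y) : ∃ u ∈ S.Ubar Y.U, ∃ h ∈ S.Hbar, b = u * h := by
  have hset := Subgroup.coe_mul_of_right_le_normalizer_left (S.Ubar Y.U) S.Hbar (S.Hbar_le_normalizer_Ubar Y)
  have hb' : b ∈ ((S.Ubar Y.U ⊔ S.Hbar : Subgroup Γ) : Set Γ) := hb
  rw [hset, Set.mem_mul] at hb'
  obtain ⟨u, hu, h, hh, rfl⟩ := hb'
  exact ⟨u, hu, h, hh, rfl⟩

include Y in
theorem StData.mem_Ubar_decomp (i : ℕ) (hi : i < C.D.rank) (u : Γ) (hu : u ∈ S.Ubar Y.U) :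
    ∃ u' ∈ S.Ui i, ∃ t : F, u = u' * S.X (C.D.simple i) t := by
  have hN : S.rootGrp (C.D.simple i) ≤ Subgroup.normalizer (S.Ui i : Set Γ) :=
    le_trans le_sup_left (S.Gi_le_normalizer_Ui Y.B.up i hi)
  have hset := Subgroup.coe_mul_of_right_le_normalizer_left (S.Ui i) (S.rootGrp (C.D.simple i)) hN
  have hle : S.Ubar Y.U ≤ S.Ui i ⊔ S.rootGrp (C.D.simple i) := by
    apply S.Ubar_le Y.U
    intro r hr t
    by_cases h : r = C.D.simple i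
    · subst h; exact Subgroup.mem_sup_right (S.X_mem_rootGrp _ t)
    · exact Subgroup.mem_sup_left (S.X_mem_Ui i r hr h t)
  have hu' : u ∈ ((S.Ui i ⊔ S.rootGrp (C.D.simple i) : Subgroup Γ) : Set Γ) := hle hu
  rw [hset, Set.mem_mul] at hu'
  obtain ⟨u', hu', x, ⟨t, rfl⟩, rfl⟩ := hu'
  exact ⟨u', hu', t, rfl⟩

include Y in
/-- The action of an element of `N̄` on the root symbols. -/
theorem StData.Nbar_conj (g : Γ) (hg : g ∈ S.Nbar) :
    ∃ (σ : ℕ → ℕ) (d : ℕ → F), ∀ k < C.D.nroots, σ k < C.D.nroots ∧ d k ≠ 0 ∧ σ (C.D.neg k) = C.D.neg (σ k) ∧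
      ∀ c : F, g * S.X k c * g⁻¹ = S.X (σ k) (d k * c) := by
  obtain ⟨h, hh, l, hl, rfl⟩ := S.Nbar_decomp Y g hg
  obtain ⟨χ, hχ0, hχ⟩ := S.Hbar_diag Y h hh
  have hrel := R.conjRel_word (F := F) l hl
  have hnc := R.negCompat_word Y.B.mono.nr l hl
  refine ⟨reflW R.refl l, fun k => χ (reflW R.refl l k) * (etaW R.refl R.eta l k : F), fun k hk => ?_⟩
  have hσ := R.reflW_lt l hl k hk
  refine ⟨hσ, ?_, (hnc k hk).1, fun c => ?_⟩
  · apply mul_ne_zero (hχ0 _)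
    rcases hrel.sign k hk with h1 | h1 <;> rw [h1] <;> simp
  · have e1 : h * S.wordN l * S.X k c * (h * S.wordN l)⁻¹ = h * (S.wordN l * S.X k c * (S.wordN l)⁻¹) * h⁻¹ := by
      group
    rw [e1, S.wordN_conj Y l hl k hk, hχ _ hσ, mul_assoc]

include Y in
theorem StData.Nbar_conj_Hbar (g : Γ) (hg : g ∈ S.Nbar) (y : Γ) (hy : y ∈ S.Hbar) : g * y * g⁻¹ ∈ S.Hbar := by
  obtain ⟨h, hh, l, hl, rfl⟩ := S.Nbar_decomp Y g hg
  have e1 : h * S.wordN l * y * (h * S.wordN l)⁻¹ = h * (S.wordN l * y * (S.wordN l)⁻¹) * h⁻¹ := by group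
  rw [e1]
  exact Subgroup.mul_mem _ (Subgroup.mul_mem _ hh (S.wordN_conj_Hbar Y l hl y hy)) (Subgroup.inv_mem _ hh)

/-- The set `B̄ N̄ B̄`. -/
def StData.BNB : Set Γ := {g | ∃ b ∈ S.Bbar Y, ∃ n ∈ S.Nbar, ∃ b' ∈ S.Bbar Y, g = b * n * b'}

theorem StData.one_mem_BNB : (1 : Γ) ∈ S.BNB Y :=
  ⟨1, Subgroup.one_mem _, 1, Subgroup.one_mem _, 1, Subgroup.one_mem _, by simp⟩

theorem StData.mul_mem_BNB (b₀ : Γ) (hb₀ : b₀ ∈ S.Bbar Y) (g : Γ) (hg : g ∈ S.BNB Y) : b₀ * g ∈ S.BNB Y := by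
  obtain ⟨b, hb, n, hn, b', hb', rfl⟩ := hg
  exact ⟨b₀ * b, Subgroup.mul_mem _ hb₀ hb, n, hn, b', hb', by group⟩

/-- The axiom `s B n ⊆ B s n B ∪ B n B` in `Γ`. -/
theorem StData.bn_axiom (i : ℕ) (hi : i < C.D.rank) (n : Γ) (hn : n ∈ S.Nbar) (b : Γ) (hb : b ∈ S.Bbar Y) :
    S.nb i * b * n ∈ S.BNB Y := by
  obtain ⟨u, hu, h, hh, rfl⟩ := S.mem_Bbar Y b hb
  obtain ⟨u', hu', t, rfl⟩ := S.mem_Ubar_decomp Y i hi u hu
  set p := C.D.simple i with hp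
  set s := S.nb i with hs
  have hpl : p < C.D.nroots := R.simple_lt i hi
  have hnpl : C.D.neg p < C.D.nroots := R.neg_lt p hpl
  have hHB := S.Hbar_le_Bbar Y
  have hUB := S.Ubar_le_Bbar Y
  have hxB : ∀ k, C.D.IsPosRoot k → ∀ c : F, S.X k c ∈ S.Bbar Y := fun k hk c => hUB (S.X_mem_Ubar Y.U k hk c)
  have hninv : n⁻¹ ∈ S.Nbar := Subgroup.inv_mem _ hn
  obtain ⟨σ, d, hσ⟩ := S.Nbar_conj Y n⁻¹ hninv
  have push : ∀ k < C.D.nroots, ∀ c : F, S.X k c * n = n * S.X (σ k) (d k * c) := by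
    intro k hk c
    have := (hσ k hk).2.2.2 c
    rw [inv_inv] at this
    rw [← this]; group
  have hsG : s ∈ S.Gi i := S.nS_mem_Gi i 1
  have hB1 : s * u' * s⁻¹ ∈ S.Bbar Y := hUB (S.Ui_le_Ubar Y.U i (S.conj_mem_Ui Y.B.up i hi s hsG u' hu'))
  have hH2 : n⁻¹ * h * n ∈ S.Hbar := by
    have := S.Nbar_conj_Hbar Y n⁻¹ hninv h hh
    rwa [inv_inv] at this
  have hsN : s ∈ S.Nbar := S.nb_mem_Nbar i hi
  have hppos := Y.simple_pos i hi
  rcases Y.pos_or_neg (σ p) (hσ p hpl).1 with hpos | hpos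
  · have e : s * (u' * S.X p t * h) * n = (s * u' * s⁻¹) * (s * n) * (S.X (σ p) (d p * t) * (n⁻¹ * h * n)) := by
      have h1 : s * (u' * S.X p t * h) * n = (s * u' * s⁻¹) * s * (S.X p t * n) * (n⁻¹ * h * n) := by group
      rw [h1, push p hpl t]; group
    exact ⟨_, hB1, _, Subgroup.mul_mem _ hsN hn, _, Subgroup.mul_mem _ (hxB _ hpos _) (hHB hH2), e⟩
  · by_cases ht : t = 0
    · subst ht
      have e : s * (u' * S.X p 0 * h) * n = (s * u' * s⁻¹) * (s * n) * (n⁻¹ * h * n) := by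
        rw [S.X_zero]; group
      exact ⟨_, hB1, _, Subgroup.mul_mem _ hsN hn, _, hHB hH2, e⟩
    · have hx : S.X p t = (S.hS p t * s) * S.X p (-t) * S.X (C.D.neg p) t⁻¹ := by
        rw [hs, StData.nb, ← S.nS_eq_hS_mul p t, S.nS_eq, S.X_neg p t]
        have : S.X (C.D.neg p) t⁻¹ = (S.X (C.D.neg p) (-t⁻¹))⁻¹ := by rw [S.X_inv, neg_neg]
        rw [this]; group
      have hσn : σ (C.D.neg p) = C.D.neg (σ p) := (hσ p hpl).2.2.1
      have e : s * (u' * S.X p t * h) * n =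
          ((s * u' * s⁻¹) * (s * S.hS p t * s⁻¹) * (s * s) * S.X p (-t)) * n *
            (S.X (C.D.neg (σ p)) (d (C.D.neg p) * t⁻¹) * (n⁻¹ * h * n)) := by
        have h1 : s * (u' * S.X p t * h) * n =
            ((s * u' * s⁻¹) * (s * S.hS p t * s⁻¹) * (s * s) * S.X p (-t)) * (S.X (C.D.neg p) t⁻¹ * n) *
              (n⁻¹ * h * n) := by
          conv_lhs => rw [hx]
          group
        rw [h1, push _ hnpl, hσn]; group
      refine ⟨_, ?_, n, hn, _, Subgroup.mul_mem _ (hxB _ hpos _) (hHB hH2), e⟩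
      refine Subgroup.mul_mem _ (Subgroup.mul_mem _ (Subgroup.mul_mem _ hB1 (hHB ?_)) (hHB ?_)) (hxB _ hppos _)
      · exact S.nb_conj_Hbar Y i hi _ (S.hS_mem_Hbar i hi t ht)
      · have : s * s = (S.hS p (-1))⁻¹ := by
          rw [hs, StData.nb, S.nS_mul_nS, S.hS_one, one_mul]
        rw [this]
        exact Subgroup.inv_mem _ (S.hS_mem_Hbar i hi _ (by simp))

theorem StData.nb_mul_mem_BNB (i : ℕ) (hi : i < C.D.rank) (g : Γ) (hg : g ∈ S.BNB Y) : S.nb i * g ∈ S.BNB Y := by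
  obtain ⟨b, hb, n, hn, b', hb', rfl⟩ := hg
  obtain ⟨b₁, hb₁, n₁, hn₁, b₁', hb₁', e⟩ := S.bn_axiom Y i hi n hn b hb
  refine ⟨b₁, hb₁, n₁, hn₁, b₁' * b', Subgroup.mul_mem _ hb₁' hb', ?_⟩
  have : S.nb i * (b * n * b') = (S.nb i * b * n) * b' := by group
  rw [this, e]; group

theorem StData.nb_inv_mul_mem_BNB (i : ℕ) (hi : i < C.D.rank) (g : Γ) (hg : g ∈ S.BNB Y) :
    (S.nb i)⁻¹ * g ∈ S.BNB Y := by
  have e : (S.nb i)⁻¹ * g = S.nb i * (S.hS (C.D.simple i) (-1) * g) := by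
    rw [S.nb_inv Y i]; group
  rw [e]
  exact S.nb_mul_mem_BNB Y i hi _ (S.mul_mem_BNB Y _ (S.Hbar_le_Bbar Y (S.hS_mem_Hbar i hi _ (by simp))) g hg)

end

end Cfsg.Agent.Lib.Helper3.StB
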