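import Mathlib
import Cfsg.Prelude.Def_ChevStructure
import Cfsg.Agent.Lib.Helper3.StB11
set_option autoImplicit false
set_option linter.unusedSectionVars false
open Cfsg Cfsg.Lie

/-! The kernel of the homomorphism to the Chevalley group is contained in `H̄` and is central. -/

namespace Cfsg.Agent.Lib.Helper3.StB

open ChevM ChevU ChevT

section
variable {C : CDatum} {R : RelData C} {F : Type*} [Field F] {Γ : Type*} [Group Γ] (S : StData C R F Γ)
  (Y : StHyp C R)

/-- The generating set used for the decomposition. -/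
def StData.genBN : Set Γ := (S.Bbar Y : Set Γ) ∪ {g | ∃ i, i < C.D.rank ∧ g = S.nb i}

theorem StData.X_mem_closure_genBN (r : ℕ) (hr : r < C.D.nroots) (t : F) :
    S.X r t ∈ Subgroup.closure (S.genBN Y) := by
  set K := Subgroup.closure (S.genBN Y) with hK
  have h := Y.B.mono.rwc r hr
  simp only [rootWordCheck, Bool.and_eq_true, List.all_eq_true, decide_eq_true_eq] at h
  obtain ⟨⟨hl, hj⟩, hr'⟩ := h
  set l := (Y.B.mono.rw r).1
  set j := (Y.B.mono.rw r).2
  have hsj := R.simple_lt j hj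
  have hW : S.wordN l ∈ K := by
    unfold StData.wordN
    apply Subgroup.list_prod_mem
    intro x hx
    obtain ⟨i, hi, rfl⟩ := List.mem_map.mp hx
    exact Subgroup.subset_closure (Or.inr ⟨i, hl i hi, rfl⟩)
  have hsign := (R.conjRel_word (F := F) l hl).sign _ hsj
  set η : F := (etaW R.refl R.eta l (C.D.simple j) : F) with hη
  have hηη : η * η = 1 := by
    rw [hη]
    rcases hsign with h | h <;> rw [h] <;> simp
  have hc := S.wordN_conj Y l hl _ hsj (η * t)
  rw [hr', ← hη, ← mul_assoc, hηη, one_mul] at hc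
  rw [← hc]
  refine K.mul_mem (K.mul_mem hW ?_) (K.inv_mem hW)
  exact Subgroup.subset_closure (Or.inl (S.Ubar_le_Bbar Y (S.X_mem_Ubar Y.U _ (Y.simple_pos j hj) _)))

theorem StData.mem_BNB_of_mem_closure (g : Γ) (hg : g ∈ Subgroup.closure (S.genBN Y)) : g ∈ S.BNB Y := by
  induction hg using Subgroup.closure_induction_left with
  | one => exact S.one_mem_BNB Y
  | mul_left x hx y _ ih =>
    rcases hx with hx | ⟨i, hi, rfl⟩
    · exact S.mul_mem_BNB Y x hx y ih
    · exact S.nb_mul_mem_BNB Y i hi y ih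
  | inv_mul_cancel x hx y _ ih =>
    rcases hx with hx | ⟨i, hi, rfl⟩
    · exact S.mul_mem_BNB Y x⁻¹ (Subgroup.inv_mem _ hx) y ih
    · exact S.nb_inv_mul_mem_BNB Y i hi y ih

/-- The decomposition `Γ = B̄ N̄ B̄`. -/
theorem StData.mem_BNB (hgen : Subgroup.closure {g : Γ | ∃ (r : ℕ) (t : F), r < C.D.nroots ∧ g = S.X r t} = ⊤)
    (g : Γ) : g ∈ S.BNB Y := by
  apply S.mem_BNB_of_mem_closure Y
  have : (⊤ : Subgroup Γ) ≤ Subgroup.closure (S.genBN Y) := by
    rw [← hgen, Subgroup.closure_le]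
    rintro x ⟨r, t, hr, rfl⟩
    exact S.X_mem_closure_genBN Y r hr t
  exact this (Subgroup.mem_top g)

theorem StData.phi_Hbar (h : Γ) (hh : h ∈ S.Hbar) : S.φ h ∈ C.D.diagonalSubgroup F := by
  have : S.Hbar ≤ (C.D.diagonalSubgroup F).comap S.φ := by
    unfold StData.Hbar
    rw [Subgroup.closure_le]
    rintro x ⟨i, t, hi, ht, rfl⟩
    rw [SetLike.mem_coe, Subgroup.mem_comap, S.phi_hS _ (R.simple_lt i hi)]
    exact R.hU_mem _ (R.simple_lt i hi) t ht
  exact this hh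

theorem StData.phi_Bbar (b : Γ) (hb : b ∈ S.Bbar Y) : S.φ b ∈ C.D.borelSubgroup F := by
  obtain ⟨u, hu, h, hh, rfl⟩ := S.mem_Bbar Y b hb
  rw [map_mul]
  exact Subgroup.mul_mem _ (Subgroup.mem_sup_left (S.phi_Ubar Y.U u hu)) (Subgroup.mem_sup_right (S.phi_Hbar h hh))

include Y in
/-- The kernel is contained in `H̄`. -/
theorem StData.ker_le_Hbar (hgen : Subgroup.closure {g : Γ | ∃ (r : ℕ) (t : F), r < C.D.nroots ∧ g = S.X r t} = ⊤) :
    S.φ.ker ≤ S.Hbar := by
  intro z hz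
  rw [MonoidHom.mem_ker] at hz
  obtain ⟨b, hb, n, hn, b', hb', rfl⟩ := S.mem_BNB Y hgen z
  obtain ⟨h, hh, l, hl, rfl⟩ := S.Nbar_decomp Y n hn
  rw [map_mul, map_mul, map_mul, S.phi_wordN l hl] at hz
  have hW : R.nWordU (F := F) l ∈ C.D.borelSubgroup F := by
    have e : R.nWordU (F := F) l = (S.φ h)⁻¹ * (S.φ b)⁻¹ * (S.φ b')⁻¹ := by
      have : R.nWordU (F := F) l = (S.φ h)⁻¹ * (S.φ b)⁻¹ * (S.φ b * (S.φ h * R.nWordU l) * S.φ b') * (S.φ b')⁻¹ := by
        group
      rw [this, hz]; group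
    rw [e]
    exact Subgroup.mul_mem _ (Subgroup.mul_mem _
      (Subgroup.inv_mem _ (Subgroup.mem_sup_right (S.phi_Hbar h hh))) (Subgroup.inv_mem _ (S.phi_Bbar Y b hb)))
      (Subgroup.inv_mem _ (S.phi_Bbar Y b' hb'))
  have htri : Shift (posIdx C.D) 0 (nWordMat C.D F l) := by
    rw [← R.nWordU_val]
    exact Y.B.mono.borel_le_tri hW
  have hfix := R.reflW_eq_self_of_tri Y.B.mono.inv l hl htri
  have hWH := S.wordN_mem_Hbar_of_fix Y _ l rfl hl hfix
  have hzB : b * (h * S.wordN l) * b' ∈ S.Bbar Y :=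
    Subgroup.mul_mem _ (Subgroup.mul_mem _ hb (S.Hbar_le_Bbar Y (Subgroup.mul_mem _ hh hWH))) hb'
  obtain ⟨u, hu, h'', hh'', e⟩ := S.mem_Bbar Y _ hzB
  have hz' : S.φ (b * (h * S.wordN l) * b') = 1 := by
    rw [map_mul, map_mul, map_mul, S.phi_wordN l hl]; exact hz
  rw [e, map_mul] at hz'
  have hu1 : S.φ u ∈ C.D.posUnipotent F ⊓ C.D.diagonalSubgroup F := by
    refine ⟨S.phi_Ubar Y.U u hu, ?_⟩
    rw [eq_inv_of_mul_eq_one_left hz']
    exact Subgroup.inv_mem _ (S.phi_Hbar h'' hh'')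
  rw [(R.diagonal_normalizes (F := F) Y.B.dec Y.B.mono.tri).2, Subgroup.mem_bot] at hu1
  have := S.inj_Ubar Y.U u hu hu1
  rw [e, this, one_mul]
  exact hh''

include Y in
theorem xU_inj (r : ℕ) (hr : r < C.D.nroots) (a b : F) (h : R.xU r a = R.xU r b) : a = b := by
  rcases Y.pos_or_neg r hr with hp | hn
  · exact xU_inj_pos R Y.U r hp a b h
  · have h1 := thetaU_conj R (F := F) Y.hnn Y.theta r hr a
    have h2 := thetaU_conj R (F := F) Y.hnn Y.theta r hr b
    rw [h] at h1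
    have := xU_inj_pos R Y.U _ hn _ _ (h1.symm.trans h2)
    exact neg_injective this

include Y in
/-- The kernel is central. -/
theorem StData.ker_le_center (hgen : Subgroup.closure {g : Γ | ∃ (r : ℕ) (t : F), r < C.D.nroots ∧ g = S.X r t} = ⊤) :
    S.φ.ker ≤ Subgroup.center Γ := by
  intro z hz
  have hzH := S.ker_le_Hbar Y hgen hz
  rw [MonoidHom.mem_ker] at hz
  obtain ⟨χ, -, hχ⟩ := S.Hbar_diag Y z hzH
  have hcomm : ∀ r < C.D.nroots, ∀ t : F, z * S.X r t = S.X r t * z := by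
    intro r hr t
    have h1 := hχ r hr t
    have h2 : S.φ (z * S.X r t * z⁻¹) = R.xU r t := by
      rw [map_mul, map_mul, map_inv, hz, S.φX r hr]; group
    rw [h1, S.φX r hr] at h2
    have h3 := xU_inj Y r hr _ _ h2
    rw [h3] at h1
    have h4 : z * S.X r t = (z * S.X r t * z⁻¹) * z := by group
    rw [h4, h1]
  rw [Subgroup.mem_center_iff]
  intro g
  have hg : g ∈ Subgroup.closure {g : Γ | ∃ (r : ℕ) (t : F), r < C.D.nroots ∧ g = S.X r t} := by
    rw [hgen]; exact Subgroup.mem_top g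
  induction hg using Subgroup.closure_induction with
  | mem y hy =>
    obtain ⟨r, t, hr, rfl⟩ := hy
    exact (hcomm r hr t).symm
  | one => simp
  | mul a b _ _ iha ihb => rw [mul_assoc, ihb, ← mul_assoc, iha, mul_assoc]
  | inv a _ iha =>
    have : a⁻¹ * z = a⁻¹ * (z * a) * a⁻¹ := by group
    rw [this, ← iha]; group

end

end Cfsg.Agent.Lib.Helper3.StB
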