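import Mathlib
import Cfsg.Prelude.Def_Steinberg
import Cfsg.Prelude.Def_SteinbergCover
import Cfsg.Agent.Lib.Helper3.StB12
set_option autoImplicit false
set_option linter.unusedSectionVars false
open Cfsg Cfsg.Lie

/-! Application to groups presented by Steinberg's relators. -/

namespace Cfsg.Agent.Lib.Helper3.StB

open ChevM ChevU ChevT

section
variable {C : CDatum} (R : RelData C) {F : Type*} [Field F]

theorem stX_of_lt (D : ChevalleyDatum) (r : ℕ) (hr : r < D.nroots) (t : F) :
    D.stX r t = FreeGroup.of ((⟨r, hr⟩ : Fin D.nroots), t) := dif_pos hr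

theorem stX_of_not_lt (D : ChevalleyDatum) (r : ℕ) (hr : ¬ r < D.nroots) (t : F) : D.stX r t = 1 := dif_neg hr

theorem map_stWord (D : ChevalleyDatum) {Γ : Type*} [Group Γ] (f : FreeGroup (Fin D.nroots × F) →* Γ)
    (w : List (ℕ × F)) : f (D.stWord w) = wordS (fun r t => f (D.stX r t)) w := by
  unfold ChevalleyDatum.stWord wordS
  rw [map_list_prod, List.map_map]
  rfl

/-- A group presented by relators containing (R1) and (R2), with a homomorphism to the general linear group. -/
def presData (rels : Set (FreeGroup (Fin C.D.nroots × F))) (hAB : C.D.steinbergRelsAB F ⊆ rels)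
    (φ : PresentedGroup rels →* GL C.D.Idx F)
    (hφ : ∀ r < C.D.nroots, ∀ t : F, φ (PresentedGroup.mk rels (C.D.stX r t)) = R.xU r t) :
    StData C R F (PresentedGroup rels) where
  X r t := PresentedGroup.mk rels (C.D.stX r t)
  φ := φ
  φX := hφ
  add r a b := by
    by_cases hr : r < C.D.nroots
    · have hrel : C.D.stX r a * C.D.stX r b * (C.D.stX r (a + b))⁻¹ ∈ rels :=
        hAB (Or.inl ⟨r, a, b, hr, rfl⟩)
      have h1 := PresentedGroup.one_of_mem hrel
      rw [map_mul, map_mul, map_inv, mul_inv_eq_one] at h1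
      exact h1.symm
    · rw [stX_of_not_lt _ r hr, stX_of_not_lt _ r hr, stX_of_not_lt _ r hr, map_one, one_mul]
  comm r hr s hs hsr hsn t u := by
    have hrel : (C.D.stX s u)⁻¹ * (C.D.stX r t)⁻¹ * C.D.stX s u * C.D.stX r t *
        (C.D.stWord (C.D.commWord F r s t u))⁻¹ ∈ rels :=
      hAB (Or.inr ⟨r, s, t, u, hr, hs, hsr, hsn, rfl⟩)
    have h1 := PresentedGroup.one_of_mem hrel
    rw [map_mul, map_mul, map_mul, map_mul, map_inv, map_inv, map_inv, mul_inv_eq_one, map_stWord] at h1
    exact h1

variable (rels : Set (FreeGroup (Fin C.D.nroots × F))) (hAB : C.D.steinbergRelsAB F ⊆ rels)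
    (φ : PresentedGroup rels →* GL C.D.Idx F)
    (hφ : ∀ r < C.D.nroots, ∀ t : F, φ (PresentedGroup.mk rels (C.D.stX r t)) = R.xU r t)

theorem presData_X (r : ℕ) (t : F) :
    (presData R rels hAB φ hφ).X r t = PresentedGroup.mk rels (C.D.stX r t) := rfl

theorem presData_phi : (presData R rels hAB φ hφ).φ = φ := rfl

theorem presData_gen :
    Subgroup.closure {g : PresentedGroup rels | ∃ (r : ℕ) (t : F), r < C.D.nroots ∧
      g = (presData R rels hAB φ hφ).X r t} = ⊤ := by
  rw [eq_top_iff, ← PresentedGroup.closure_range_of rels, Subgroup.closure_le]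
  rintro _ ⟨⟨i, t⟩, rfl⟩
  apply Subgroup.subset_closure
  refine ⟨i.val, t, i.isLt, ?_⟩
  rw [presData_X, stX_of_lt _ i.val i.isLt]
  rfl

theorem presData_hS (r : ℕ) (t : F) :
    (presData R rels hAB φ hφ).hS r t = PresentedGroup.mk rels (C.D.stH r t) := by
  unfold StData.hS ChevalleyDatum.stH
  rw [map_stWord]
  rfl

theorem presData_Hbar :
    (presData R rels hAB φ hφ).Hbar = Subgroup.closure {g : PresentedGroup rels | ∃ (i : ℕ) (t : F),
      i < C.D.rank ∧ t ≠ 0 ∧ g = PresentedGroup.mk rels (C.D.stH (C.D.simple i) t)} := by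
  have e : (presData R rels hAB φ hφ).HSet = {g : PresentedGroup rels | ∃ (i : ℕ) (t : F),
      i < C.D.rank ∧ t ≠ 0 ∧ g = PresentedGroup.mk rels (C.D.stH (C.D.simple i) t)} := by
    ext g
    constructor
    · rintro ⟨i, t, hi, ht, rfl⟩
      exact ⟨i, t, hi, ht, presData_hS R rels hAB φ hφ _ t⟩
    · rintro ⟨i, t, hi, ht, rfl⟩
      exact ⟨i, t, hi, ht, (presData_hS R rels hAB φ hφ _ t).symm⟩
  unfold StData.Hbar
  rw [e]

include hAB hφ in
/-- The kernel is generated by the images of the words `h̄_{p_i}(t)`. -/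
theorem pres_ker_le (Y : StHyp C R) :
    φ.ker ≤ Subgroup.closure {g : PresentedGroup rels | ∃ (i : ℕ) (t : F),
      i < C.D.rank ∧ t ≠ 0 ∧ g = PresentedGroup.mk rels (C.D.stH (C.D.simple i) t)} := by
  rw [← presData_Hbar R rels hAB φ hφ]
  exact (presData R rels hAB φ hφ).ker_le_Hbar Y (presData_gen R rels hAB φ hφ)

include hAB hφ in
/-- The kernel is central. -/
theorem pres_ker_le_center (Y : StHyp C R) : φ.ker ≤ Subgroup.center (PresentedGroup rels) :=
  (presData R rels hAB φ hφ).ker_le_center Y (presData_gen R rels hAB φ hφ)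

end

section
variable {C : CDatum} (R : RelData C) (F : Type*) [Field F]

/-- The homomorphism from the free group sending the symbols to the root elements. -/
def stLift : FreeGroup (Fin C.D.nroots × F) →* GL C.D.Idx F := FreeGroup.lift fun p => R.xU p.1.val p.2

variable {F}

theorem xU_of_not_lt (r : ℕ) (hr : ¬ r < C.D.nroots) (t : F) : R.xU r t = 1 := by
  apply Units.ext
  rw [R.xU_val, Units.val_one]
  unfold ChevalleyDatum.x
  rw [dif_neg hr]

theorem stLift_stX (r : ℕ) (t : F) : stLift R F (C.D.stX r t) = R.xU r t := by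
  by_cases hr : r < C.D.nroots
  · rw [stX_of_lt _ r hr]
    unfold stLift
    rw [FreeGroup.lift_apply_of]
  · rw [stX_of_not_lt _ r hr, map_one, xU_of_not_lt R r hr]

theorem stLift_stWord (w : List (ℕ × F)) : stLift R F (C.D.stWord w) = R.wordU w := by
  rw [map_stWord]
  unfold wordS RelData.wordU
  congr 1
  apply List.map_congr_left
  intro p _
  exact stLift_stX R p.1 p.2

theorem stLift_relsAB (K : CommData C R) : ∀ g ∈ C.D.steinbergRelsAB F, stLift R F g = 1 := by
  rintro g (⟨r, a, b, hr, rfl⟩ | ⟨r, s, t, u, hr, hs, hsr, hsn, rfl⟩)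
  · rw [map_mul, map_mul, map_inv, stLift_stX, stLift_stX, stLift_stX, R.xU_add, mul_inv_cancel]
  · rw [map_mul, map_mul, map_mul, map_mul, map_inv, map_inv, map_inv, stLift_stX, stLift_stX, stLift_stWord,
      mul_inv_eq_one]
    have hcomm := K.commF (F := F) r s hr hs hsr hsn t u
    have e1 : R.xU s u * R.xU r t = R.xU r t * R.xU s u * R.wordU (C.D.commWord F r s t u) := by
      apply Units.ext
      rw [Units.val_mul, Units.val_mul, Units.val_mul, R.xU_val, R.xU_val, R.wordU_val]
      exact hcomm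
    rw [mul_assoc, e1]; group

theorem stLift_rels (K : CommData C R) : ∀ g ∈ C.D.steinbergRels F, stLift R F g = 1 := by
  rintro g (hg | ⟨r, a, b, hr, ha, hb, rfl⟩)
  · exact stLift_relsAB R K g hg
  · unfold ChevalleyDatum.stH
    rw [map_mul, map_mul, map_inv, stLift_stWord, stLift_stWord, stLift_stWord, mul_inv_eq_one]
    apply Units.ext
    rw [Units.val_mul]
    exact R.hMat_mul r hr a b ha hb

theorem stLift_mem_group (g : FreeGroup (Fin C.D.nroots × F)) : stLift R F g ∈ C.D.group F := by
  induction g using FreeGroup.induction_on with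
  | C1 => rw [map_one]; exact Subgroup.one_mem _
  | of p =>
    unfold stLift
    rw [FreeGroup.lift_apply_of]
    exact R.xU_mem_group _ p.1.isLt _
  | inv_of p h => rw [map_inv]; exact Subgroup.inv_mem _ h
  | mul x y hx hy => rw [map_mul]; exact Subgroup.mul_mem _ hx hy

/-- The homomorphism from a presented group to the Chevalley group. -/
def presHom (rels : Set (FreeGroup (Fin C.D.nroots × F))) (h : ∀ g ∈ rels, stLift R F g = 1) :
    PresentedGroup rels →* ↥(C.D.group F) :=
  (PresentedGroup.toGroup (f := fun p : Fin C.D.nroots × F => R.xU p.1.val p.2) h).codRestrict (C.D.group F) (by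
    intro g
    induction g using PresentedGroup.induction_on with
    | _ x =>
      have : (PresentedGroup.toGroup (f := fun p : Fin C.D.nroots × F => R.xU p.1.val p.2) h)
          (PresentedGroup.mk rels x) = stLift R F x := rfl
      rw [this]
      exact stLift_mem_group R x)

theorem presHom_mk (rels : Set (FreeGroup (Fin C.D.nroots × F))) (h : ∀ g ∈ rels, stLift R F g = 1)
    (x : FreeGroup (Fin C.D.nroots × F)) :
    ((presHom R rels h (PresentedGroup.mk rels x) : ↥(C.D.group F)) : GL C.D.Idx F) = stLift R F x := rfl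

theorem presHom_surjective (rels : Set (FreeGroup (Fin C.D.nroots × F))) (h : ∀ g ∈ rels, stLift R F g = 1) :
    Function.Surjective (presHom R rels h) := by
  rw [← MonoidHom.range_eq_top, eq_top_iff]
  rintro ⟨g, hg⟩ -
  have : C.D.group F ≤ (presHom R rels h).range.map (C.D.group F).subtype := by
    unfold ChevalleyDatum.group
    rw [Subgroup.closure_le]
    rintro x ⟨r, t, hx⟩
    refine ⟨presHom R rels h (PresentedGroup.mk rels (C.D.stX r.val t)), ⟨_, rfl⟩, ?_⟩
    rw [Subgroup.coe_subtype, presHom_mk, stLift_stX]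
    apply Units.ext
    rw [hx, R.xU_val]
    unfold ChevalleyDatum.x
    rw [dif_pos r.isLt]
  obtain ⟨y, hy, e⟩ := this hg
  have : y = ⟨g, hg⟩ := Subtype.ext e
  rw [← this]; exact hy

end

end Cfsg.Agent.Lib.Helper3.StB
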