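import Mathlib
import Cfsg.Prelude.Def_Steinberg
import Cfsg.Prelude.Def_SteinbergCover
import Cfsg.Agent.Lib.Helper3.StB13
import Cfsg.Agent.S0312
set_option autoImplicit false
set_option linter.unusedSectionVars false
open Cfsg Cfsg.Lie

/-! The centre of a Chevalley group is trivial; the kernel of the homomorphism from a presented group is its centre. -/

namespace Cfsg.Agent.Lib.Helper3.StB

open ChevM ChevU ChevT

section
variable {C : CDatum} {R : RelData C} {F : Type*} [Field F]

/-- The centre of the Chevalley group is trivial. -/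
theorem group_center_eq_bot (K : CommData C R) (Hy : BNHyp C R)
    (hcore : ((C.D.borelSubgroup F).subgroupOf (C.D.group F)).normalCore = ⊥) :
    Subgroup.center ↥(C.D.group F) = ⊥ := by
  have hN := Cfsg.Agent.S0312.result (K.bnPair (F := F) Hy) (J := ∅) (Set.empty_subset _)
  have hP : (K.bnPair (F := F) Hy).parabolic ∅ = (C.D.borelSubgroup F).subgroupOf (C.D.group F) := by
    unfold BNPair.parabolic
    rw [Subgroup.closure_empty, sup_bot_eq]
    rfl
  rw [hP] at hN
  have h1 : Subgroup.center ↥(C.D.group F) ≤ (C.D.borelSubgroup F).subgroupOf (C.D.group F) := by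
    have h2 : Subgroup.center ↥(C.D.group F) ≤
        Subgroup.normalizer (((C.D.borelSubgroup F).subgroupOf (C.D.group F) : Subgroup ↥(C.D.group F)) :
          Set ↥(C.D.group F)) := Subgroup.center_le_normalizer _
    rw [hN] at h2
    exact h2
  rw [eq_bot_iff, ← hcore]
  exact (Subgroup.normal_le_normalCore (H := (C.D.borelSubgroup F).subgroupOf (C.D.group F))
    (N := Subgroup.center ↥(C.D.group F))).mpr h1

variable (R)

/-- The kernel of a surjective homomorphism from a presented group to the Chevalley group, sending the symbols to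
the root elements, is the centre. -/
theorem pres_ker_eq_center (K : CommData C R) (Y : StHyp C R)
    (hcore : ((C.D.borelSubgroup F).subgroupOf (C.D.group F)).normalCore = ⊥)
    (rels : Set (FreeGroup (Fin C.D.nroots × F))) (hAB : C.D.steinbergRelsAB F ⊆ rels)
    (θ : PresentedGroup rels →* ↥(C.D.group F)) (hsurj : Function.Surjective θ)
    (hθ : ∀ r < C.D.nroots, ∀ t : F,
      ((θ (PresentedGroup.mk rels (C.D.stX r t)) : GL C.D.Idx F) : Matrix C.D.Idx C.D.Idx F) = C.D.x F r t) :
    θ.ker = Subgroup.center (PresentedGroup rels) := by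
  have hφ : ∀ r < C.D.nroots, ∀ t : F,
      ((C.D.group F).subtype.comp θ) (PresentedGroup.mk rels (C.D.stX r t)) = R.xU r t := by
    intro r hr t
    apply Units.ext
    rw [R.xU_val, ← hθ r hr t]
    rfl
  have hker : ((C.D.group F).subtype.comp θ).ker = θ.ker := by
    ext z
    rw [MonoidHom.mem_ker, MonoidHom.mem_ker, MonoidHom.comp_apply]
    constructor
    · intro h
      exact Subtype.ext h
    · intro h
      rw [h]; rfl
  apply le_antisymm
  · rw [← hker]
    exact pres_ker_le_center R rels hAB _ hφ Y
  · intro z hz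
    rw [MonoidHom.mem_ker]
    have h1 : θ z ∈ Subgroup.center ↥(C.D.group F) := by
      rw [Subgroup.mem_center_iff]
      intro g
      obtain ⟨g', rfl⟩ := hsurj g
      rw [← map_mul, ← map_mul, (Subgroup.mem_center_iff.mp hz) g']
    rw [group_center_eq_bot K Y.B hcore, Subgroup.mem_bot] at h1
    exact h1

/-- The kernel of a homomorphism from a presented group to the Chevalley group, sending the symbols to
the root elements, is generated by the images of the words `h̄_{p_i}(t)`. -/
theorem pres_ker_le' (Y : StHyp C R)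
    (rels : Set (FreeGroup (Fin C.D.nroots × F))) (hAB : C.D.steinbergRelsAB F ⊆ rels)
    (θ : PresentedGroup rels →* ↥(C.D.group F))
    (hθ : ∀ r < C.D.nroots, ∀ t : F,
      ((θ (PresentedGroup.mk rels (C.D.stX r t)) : GL C.D.Idx F) : Matrix C.D.Idx C.D.Idx F) = C.D.x F r t) :
    θ.ker ≤ Subgroup.closure {g : PresentedGroup rels | ∃ (i : ℕ) (t : F),
      i < C.D.rank ∧ t ≠ 0 ∧ g = PresentedGroup.mk rels (C.D.stH (C.D.simple i) t)} := by
  have hφ : ∀ r < C.D.nroots, ∀ t : F,
      ((C.D.group F).subtype.comp θ) (PresentedGroup.mk rels (C.D.stX r t)) = R.xU r t := by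
    intro r hr t
    apply Units.ext
    rw [R.xU_val, ← hθ r hr t]
    rfl
  have hker : ((C.D.group F).subtype.comp θ).ker = θ.ker := by
    ext z
    rw [MonoidHom.mem_ker, MonoidHom.mem_ker, MonoidHom.comp_apply]
    constructor
    · intro h
      exact Subtype.ext h
    · intro h
      rw [h]; rfl
  rw [← hker]
  exact pres_ker_le R rels hAB _ hφ Y

/-- The homomorphism from a presented group to the Chevalley group, with its properties. -/
theorem pres_exists (K : CommData C R) (Y : StHyp C R)
    (hcore : ((C.D.borelSubgroup F).subgroupOf (C.D.group F)).normalCore = ⊥)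
    (rels : Set (FreeGroup (Fin C.D.nroots × F))) (hAB : C.D.steinbergRelsAB F ⊆ rels)
    (hrel : ∀ g ∈ rels, stLift R F g = 1) :
    ∃ θ : PresentedGroup rels →* ↥(C.D.group F), Function.Surjective θ ∧
      θ.ker = Subgroup.center (PresentedGroup rels) ∧
      ∀ (r : ℕ) (t : F), r < C.D.nroots →
        ((θ (PresentedGroup.mk rels (C.D.stX r t)) : GL C.D.Idx F) : Matrix C.D.Idx C.D.Idx F) = C.D.x F r t := by
  have hθ : ∀ r < C.D.nroots, ∀ t : F,
      ((presHom R rels hrel (PresentedGroup.mk rels (C.D.stX r t)) : GL C.D.Idx F) :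
        Matrix C.D.Idx C.D.Idx F) = C.D.x F r t := by
    intro r hr t
    rw [presHom_mk, stLift_stX, R.xU_val]
  exact ⟨presHom R rels hrel, presHom_surjective R rels hrel,
    pres_ker_eq_center R K Y hcore rels hAB _ (presHom_surjective R rels hrel) hθ, fun r t hr => hθ r hr t⟩

end

end Cfsg.Agent.Lib.Helper3.StB
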