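import Mathlib
import Cfsg.Prelude.Def_Steinberg
import Cfsg.Agent.Lib.Helper3.StB14
import Cfsg.Agent.Lib.Helper3.ChevH2
set_option autoImplicit false
set_option linter.unusedSectionVars false
open Cfsg Cfsg.Lie

/-! Consequences of the multiplicativity of the symbols `h̄_r`: when the Cartan matrix is invertible over the
integers, the homomorphism to the Chevalley group is injective on `H̄`. -/

namespace Cfsg.Agent.Lib.Helper3.StB

open ChevM ChevU ChevT ChevH

section
variable {C : CDatum} {R : RelData C} {F : Type*} [Field F] {Γ : Type*} [Group Γ] (S : StData C R F Γ)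
  (Y : StHyp C R)

include Y in
theorem StData.hS_conj_nS (i j : ℕ) (hi : i < C.D.rank) (hj : j < C.D.rank) (t : F) (ht : t ≠ 0) (c : F) :
    S.hS (C.D.simple i) t * S.nS (C.D.simple j) c * (S.hS (C.D.simple i) t)⁻¹ =
      S.nS (C.D.simple j) (t ^ C.D.cartan i (C.D.simple j) * c) := by
  have hs := R.simple_lt j hj
  rw [S.nS_eq, S.nS_eq]
  have e : ∀ h a b : Γ, h * (a * b * a) * h⁻¹ = (h * a * h⁻¹) * (h * b * h⁻¹) * (h * a * h⁻¹) := by
    intro h a b; group
  rw [e, S.hS_conj Y i hi t ht _ hs, S.hS_conj Y i hi t ht _ (R.neg_lt _ hs), Y.cartan_neg_simple i hi j hj, zpow_neg]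
  congr 3
  rw [mul_inv]; ring

variable (hmul : ∀ i < C.D.rank, ∀ a b : F, a ≠ 0 → b ≠ 0 →
  S.hS (C.D.simple i) a * S.hS (C.D.simple i) b = S.hS (C.D.simple i) (a * b))

include Y hmul in
theorem StData.hS_conj_hS (i j : ℕ) (hi : i < C.D.rank) (hj : j < C.D.rank) (a b : F) (ha : a ≠ 0) (hb : b ≠ 0) :
    S.hS (C.D.simple i) a * S.hS (C.D.simple j) b * (S.hS (C.D.simple i) a)⁻¹ = S.hS (C.D.simple j) b := by
  have hk : a ^ C.D.cartan i (C.D.simple j) ≠ 0 := zpow_ne_zero _ ha
  rw [S.hS_eq (C.D.simple j) b]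
  have e : ∀ h x y : Γ, h * (x * y) * h⁻¹ = (h * x * h⁻¹) * (h * y * h⁻¹) := by
    intro h x y; group
  rw [e, S.hS_conj_nS Y i j hi hj a ha, S.hS_conj_nS Y i j hi hj a ha, S.nS_mul_nS, mul_neg, mul_one, neg_neg,
    mul_comm, ← hmul j hj b _ hb hk, mul_inv_cancel_right, ← S.hS_eq]

include Y hmul in
theorem StData.hS_commute (i j : ℕ) (hi : i < C.D.rank) (hj : j < C.D.rank) (a b : F) (ha : a ≠ 0) (hb : b ≠ 0) :
    Commute (S.hS (C.D.simple i) a) (S.hS (C.D.simple j) b) := by
  have := S.hS_conj_hS Y hmul i j hi hj a b ha hb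
  unfold Commute SemiconjBy
  calc S.hS (C.D.simple i) a * S.hS (C.D.simple j) b
      = (S.hS (C.D.simple i) a * S.hS (C.D.simple j) b * (S.hS (C.D.simple i) a)⁻¹) * S.hS (C.D.simple i) a := by
        group
    _ = _ := by rw [this]

/-- The product of the `h̄_{p_i}(c_i)`, `i < n`. -/
def StData.hProd (c : ℕ → F) (n : ℕ) : Γ := ((List.range n).map fun i => S.hS (C.D.simple i) (c i)).prod

theorem StData.hProd_zero (c : ℕ → F) : S.hProd c 0 = 1 := by
  unfold StData.hProd
  rw [List.range_zero, List.map_nil, List.prod_nil]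

theorem StData.hProd_succ (c : ℕ → F) (n : ℕ) : S.hProd c (n + 1) = S.hProd c n * S.hS (C.D.simple n) (c n) := by
  unfold StData.hProd
  rw [List.range_succ, List.map_append, List.prod_append, List.map_cons, List.map_nil, List.prod_cons, List.prod_nil,
    mul_one]

theorem StData.hProd_congr (c d : ℕ → F) (n : ℕ) (h : ∀ i < n, c i = d i) : S.hProd c n = S.hProd d n := by
  induction n with
  | zero => rw [S.hProd_zero, S.hProd_zero]
  | succ n ih =>
    rw [S.hProd_succ, S.hProd_succ, ih fun i hi => h i (Nat.lt_succ_of_lt hi), h n (Nat.lt_succ_self n)]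

theorem StData.hProd_one (n : ℕ) : S.hProd (fun _ => (1 : F)) n = 1 := by
  induction n with
  | zero => exact S.hProd_zero _
  | succ n ih => rw [S.hProd_succ, ih, S.hS_one, mul_one]

include Y hmul in
theorem StData.hS_commute_hProd (i : ℕ) (hi : i < C.D.rank) (a : F) (ha : a ≠ 0) (c : ℕ → F) (hc : ∀ k, c k ≠ 0)
    (n : ℕ) (hn : n ≤ C.D.rank) : Commute (S.hS (C.D.simple i) a) (S.hProd c n) := by
  induction n with
  | zero => rw [S.hProd_zero]; exact Commute.one_right _
  | succ n ih =>
    rw [S.hProd_succ]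
    exact (ih (Nat.le_of_succ_le hn)).mul_right (S.hS_commute Y hmul i n hi hn a (c n) ha (hc n))

include Y hmul in
theorem StData.hProd_mul (c d : ℕ → F) (hc : ∀ k, c k ≠ 0) (hd : ∀ k, d k ≠ 0) (n : ℕ) (hn : n ≤ C.D.rank) :
    S.hProd c n * S.hProd d n = S.hProd (fun k => c k * d k) n := by
  induction n with
  | zero => rw [S.hProd_zero, S.hProd_zero, S.hProd_zero, mul_one]
  | succ n ih =>
    rw [S.hProd_succ, S.hProd_succ, S.hProd_succ, ← ih (Nat.le_of_succ_le hn), ← hmul n hn _ _ (hc n) (hd n)]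
    have := (S.hS_commute_hProd Y hmul n hn (c n) (hc n) d hd n (Nat.le_of_succ_le hn)).eq
    calc S.hProd c n * S.hS (C.D.simple n) (c n) * (S.hProd d n * S.hS (C.D.simple n) (d n))
        = S.hProd c n * (S.hS (C.D.simple n) (c n) * S.hProd d n) * S.hS (C.D.simple n) (d n) := by group
      _ = S.hProd c n * (S.hProd d n * S.hS (C.D.simple n) (c n)) * S.hS (C.D.simple n) (d n) := by rw [this]
      _ = _ := by group

theorem StData.hProd_single (i : ℕ) (t : F) (n : ℕ) :
    S.hProd (fun k => if k = i then t else 1) n = if i < n then S.hS (C.D.simple i) t else 1 := by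
  induction n with
  | zero => rw [S.hProd_zero, if_neg (Nat.not_lt_zero i)]
  | succ n ih =>
    rw [S.hProd_succ, ih]
    by_cases h1 : i < n
    · have h2 : n ≠ i := by omega
      rw [if_pos h1, if_neg h2, S.hS_one, mul_one, if_pos (Nat.lt_succ_of_lt h1)]
    · by_cases h2 : n = i
      · subst h2
        rw [if_neg h1, if_pos rfl, one_mul, if_pos (Nat.lt_succ_self n)]
      · have h3 : ¬ i < n + 1 := by omega
        rw [if_neg h1, if_neg h2, S.hS_one, mul_one, if_neg h3]

include Y hmul in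
/-- Every element of `H̄` is a product of the `h̄_{p_i}(c_i)`. -/
theorem StData.exists_hProd (z : Γ) (hz : z ∈ S.Hbar) :
    ∃ c : ℕ → F, (∀ k, c k ≠ 0) ∧ z = S.hProd c C.D.rank := by
  induction hz using Subgroup.closure_induction with
  | mem y hy =>
    obtain ⟨i, t, hi, ht, rfl⟩ := hy
    refine ⟨fun k => if k = i then t else 1, fun k => ?_, ?_⟩
    · by_cases h : k = i
      · simp only [h, if_true]; exact ht
      · simp only [h, if_false]; exact one_ne_zero
    · rw [S.hProd_single, if_pos hi]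
  | one => exact ⟨fun _ => 1, fun _ => one_ne_zero, (S.hProd_one _).symm⟩
  | mul a b _ _ iha ihb =>
    obtain ⟨c, hc, rfl⟩ := iha
    obtain ⟨d, hd, rfl⟩ := ihb
    exact ⟨fun k => c k * d k, fun k => mul_ne_zero (hc k) (hd k), S.hProd_mul Y hmul c d hc hd _ le_rfl⟩
  | inv a _ iha =>
    obtain ⟨c, hc, rfl⟩ := iha
    refine ⟨fun k => (c k)⁻¹, fun k => inv_ne_zero (hc k), ?_⟩
    have h1 := S.hProd_mul Y hmul c (fun k => (c k)⁻¹) hc (fun k => inv_ne_zero (hc k)) _ le_rfl
    have h2 : (fun k => c k * (c k)⁻¹) = fun _ => (1 : F) := by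
      funext k; exact mul_inv_cancel₀ (hc k)
    rw [h2, S.hProd_one] at h1
    exact inv_eq_of_mul_eq_one_right h1

theorem StData.phi_hProd (c : ℕ → F) (hc : ∀ k, c k ≠ 0) :
    ((S.φ (S.hProd c C.D.rank) : GL C.D.Idx F) : Matrix C.D.Idx C.D.Idx F) = Matrix.diagonal (R.torusExp c) := by
  rw [← R.hProd_eq_diag c fun i _ => hc i]
  have : ∀ n ≤ C.D.rank, ((S.φ (S.hProd c n) : GL C.D.Idx F) : Matrix C.D.Idx C.D.Idx F) =
      ((List.range n).map fun i => C.D.hMat F (C.D.simple i) (c i)).prod := by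
    intro n
    induction n with
    | zero => intro _; rw [S.hProd_zero, map_one]; simp
    | succ n ih =>
      intro hn
      rw [S.hProd_succ, map_mul, Units.val_mul, ih (Nat.le_of_succ_le hn), S.phi_hS _ (R.simple_lt n hn), R.hU_val,
        List.range_succ, List.map_append, List.prod_append, List.map_cons, List.map_nil, List.prod_cons,
        List.prod_nil, mul_one]
  exact this _ le_rfl

include Y hmul in
/-- If the Cartan matrix is invertible over the integers, the homomorphism is injective on `H̄`. -/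
theorem StData.inj_Hbar (B : Matrix (Fin C.D.rank) (Fin C.D.rank) ℤ) (hB : cartanMat C.D * B = 1)
    (z : Γ) (hz : z ∈ S.Hbar) (h1 : S.φ z = 1) : z = 1 := by
  obtain ⟨c, hc, rfl⟩ := S.exists_hProd Y hmul z hz
  have hd := S.phi_hProd c hc
  rw [h1, Units.val_one, ← Matrix.diagonal_one] at hd
  have hd' := Matrix.diagonal_injective hd
  let c' : Fin C.D.rank → Fˣ := fun i => Units.mk0 (c i.val) (hc i.val)
  have hpw : pw (cartanMat C.D) c' = 1 := by
    funext j
    rw [pw_apply]
    apply Units.ext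
    rw [Units.coe_prod, Pi.one_apply, Units.val_one]
    have h2 := congrFun hd' (Sum.inr ⟨C.D.simple j.val, R.simple_lt j.val j.isLt⟩)
    rw [R.torusExp_inr, list_range_prod_eq] at h2
    refine Eq.trans ?_ h2.symm
    apply Finset.prod_congr rfl
    intro i _
    simp only [c', cartanMat, Matrix.of_apply, Units.val_zpow_eq_zpow_val, Units.val_mk0]
  have hc1 : c' = 1 := by
    have h3 := pw_mul (cartanMat C.D) B c'
    rw [hB, pw_one, hpw, map_one] at h3
    exact h3
  have hc2 : ∀ i < C.D.rank, c i = 1 := by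
    intro i hi
    have := congrFun hc1 ⟨i, hi⟩
    have h4 := congrArg Units.val this
    simpa [c'] using h4
  rw [S.hProd_congr c (fun _ => 1) _ hc2, S.hProd_one]

end

section
variable {C : CDatum} (R : RelData C) {F : Type*} [Field F]

/-- The centre of the group presented by Steinberg's relators is trivial when the Cartan matrix is invertible over
the integers. -/
theorem steinberg_center_eq_bot (K : CommData C R) (Y : StHyp C R)
    (hcore : ((C.D.borelSubgroup F).subgroupOf (C.D.group F)).normalCore = ⊥)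
    (B : Matrix (Fin C.D.rank) (Fin C.D.rank) ℤ) (hB : cartanMat C.D * B = 1) :
    Subgroup.center (PresentedGroup (C.D.steinbergRels F)) = ⊥ := by
  have hAB : C.D.steinbergRelsAB F ⊆ C.D.steinbergRels F := fun g hg => Or.inl hg
  have hrel := stLift_rels R (F := F) K
  set θ := presHom R (C.D.steinbergRels F) hrel with hθdef
  have hθ : ∀ r < C.D.nroots, ∀ t : F,
      ((θ (PresentedGroup.mk (C.D.steinbergRels F) (C.D.stX r t)) : GL C.D.Idx F) :
        Matrix C.D.Idx C.D.Idx F) = C.D.x F r t := by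
    intro r hr t
    rw [hθdef, presHom_mk, stLift_stX, R.xU_val]
  have hsurj := presHom_surjective R (C.D.steinbergRels F) hrel
  have hker := pres_ker_eq_center R K Y hcore _ hAB θ hsurj hθ
  have hφ : ∀ r < C.D.nroots, ∀ t : F,
      ((C.D.group F).subtype.comp θ) (PresentedGroup.mk (C.D.steinbergRels F) (C.D.stX r t)) = R.xU r t := by
    intro r hr t
    apply Units.ext
    rw [R.xU_val, ← hθ r hr t]
    rfl
  set S := presData R (C.D.steinbergRels F) hAB _ hφ with hS
  have hmul : ∀ i < C.D.rank, ∀ a b : F, a ≠ 0 → b ≠ 0 →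
      S.hS (C.D.simple i) a * S.hS (C.D.simple i) b = S.hS (C.D.simple i) (a * b) := by
    intro i hi a b ha hb
    have hrel3 : C.D.stH (C.D.simple i) a * C.D.stH (C.D.simple i) b * (C.D.stH (C.D.simple i) (a * b))⁻¹ ∈
        C.D.steinbergRels F := Or.inr ⟨C.D.simple i, a, b, R.simple_lt i hi, ha, hb, rfl⟩
    have h1 := PresentedGroup.one_of_mem hrel3
    rw [map_mul, map_mul, map_inv, mul_inv_eq_one] at h1
    rw [hS, presData_hS, presData_hS, presData_hS]
    exact h1
  rw [eq_bot_iff, ← hker]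
  intro z hz
  rw [Subgroup.mem_bot]
  have hz' : ((C.D.group F).subtype.comp θ) z = 1 := by
    rw [MonoidHom.comp_apply, MonoidHom.mem_ker.mp hz]; rfl
  have hzH : z ∈ S.Hbar := S.ker_le_Hbar Y (presData_gen R _ hAB _ hφ) (MonoidHom.mem_ker.mpr hz')
  exact S.inj_Hbar Y hmul B hB z hzH hz'

end

end Cfsg.Agent.Lib.Helper3.StB
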