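import Mathlib
set_option autoImplicit false
set_option linter.unusedSectionVars false

/-! Groups of rank one: two opposite "root subgroups" `x`, `y` with the relation
`w(t) x(a) w(t)⁻¹ = y(-t⁻² a)`, `w(t) = x(t) y(-t⁻¹) x(t)`. The elements `h(t) = w(t) w(-1)`; over a finite field
they are multiplicative in `t` as soon as the defects `h(t) h(u) h(tu)⁻¹` are central. -/

namespace Cfsg.Agent.Lib.Helper3.StRk

structure RankOne (F : Type*) [Field F] (Γ : Type*) [Group Γ] where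
  x : F → Γ
  y : F → Γ
  x_add : ∀ a b, x (a + b) = x a * x b
  y_add : ∀ a b, y (a + b) = y a * y b
  conj_x : ∀ t, t ≠ 0 → ∀ a, (x t * y (-t⁻¹) * x t) * x a * (x t * y (-t⁻¹) * x t)⁻¹ = y (-(t⁻¹ ^ 2 * a))

section
variable {F : Type*} [Field F] {Γ : Type*} [Group Γ] (A : RankOne F Γ)

def RankOne.w (t : F) : Γ := A.x t * A.y (-t⁻¹) * A.x t

def RankOne.h (t : F) : Γ := A.w t * A.w (-1)

theorem RankOne.x_zero : A.x 0 = 1 := by
  have := A.x_add 0 0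
  rw [add_zero] at this
  exact (mul_eq_left.mp this.symm)

theorem RankOne.y_zero : A.y 0 = 1 := by
  have := A.y_add 0 0
  rw [add_zero] at this
  exact (mul_eq_left.mp this.symm)

theorem RankOne.x_neg (a : F) : A.x (-a) = (A.x a)⁻¹ := by
  have := A.x_add (-a) a
  rw [neg_add_cancel, A.x_zero] at this
  exact eq_inv_of_mul_eq_one_left this.symm

theorem RankOne.y_neg (a : F) : A.y (-a) = (A.y a)⁻¹ := by
  have := A.y_add (-a) a
  rw [neg_add_cancel, A.y_zero] at this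
  exact eq_inv_of_mul_eq_one_left this.symm

theorem RankOne.w_neg (t : F) : A.w (-t) = (A.w t)⁻¹ := by
  unfold RankOne.w
  rw [A.x_neg, inv_neg, neg_neg, mul_inv_rev, mul_inv_rev, A.y_neg, inv_inv, mul_assoc]

theorem RankOne.w_inv (t : F) : (A.w t)⁻¹ = A.w (-t) := (A.w_neg t).symm

theorem RankOne.wx (t : F) (ht : t ≠ 0) (a : F) : A.w t * A.x a * (A.w t)⁻¹ = A.y (-(t⁻¹ ^ 2 * a)) :=
  A.conj_x t ht a

theorem RankOne.wy (t : F) (ht : t ≠ 0) (a : F) : A.w t * A.y a * (A.w t)⁻¹ = A.x (-(t ^ 2 * a)) := by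
  have h1 := A.wx (-t) (neg_ne_zero.mpr ht) (-(t ^ 2 * a))
  rw [A.w_neg, inv_inv] at h1
  have e : -((-t)⁻¹ ^ 2 * -(t ^ 2 * a)) = a := by
    field_simp
  rw [e] at h1
  rw [← h1]
  group

theorem RankOne.w_eq' (t : F) (ht : t ≠ 0) : A.w t = A.y (-t⁻¹) * A.x t * A.y (-t⁻¹) := by
  have e : A.w t = (A.w t * A.x t * (A.w t)⁻¹) * (A.w t * A.y (-t⁻¹) * (A.w t)⁻¹) * (A.w t * A.x t * (A.w t)⁻¹) := by
    conv_lhs => rw [show A.w t = A.w t * A.w t * (A.w t)⁻¹ by group]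
    conv_lhs => enter [1, 2]; unfold RankOne.w
    group
  rw [A.wx t ht, A.wy t ht] at e
  have e1 : -(t⁻¹ ^ 2 * t) = -t⁻¹ := by field_simp
  have e2 : -(t ^ 2 * -t⁻¹) = t := by field_simp
  rw [e1, e2] at e
  exact e

theorem RankOne.ww (s a : F) (hs : s ≠ 0) (ha : a ≠ 0) : A.w s * A.w a * (A.w s)⁻¹ = A.w (s ^ 2 * a⁻¹) := by
  have e : A.w s * A.w a * (A.w s)⁻¹ =
      (A.w s * A.x a * (A.w s)⁻¹) * (A.w s * A.y (-a⁻¹) * (A.w s)⁻¹) * (A.w s * A.x a * (A.w s)⁻¹) := by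
    conv_lhs => enter [1, 2]; unfold RankOne.w
    group
  rw [e, A.wx s hs, A.wy s hs, A.w_eq' (s ^ 2 * a⁻¹) (mul_ne_zero (pow_ne_zero 2 hs) (inv_ne_zero ha))]
  have e1 : -(s ^ 2 * a⁻¹)⁻¹ = -(s⁻¹ ^ 2 * a) := by field_simp
  have e2 : -(s ^ 2 * -a⁻¹) = s ^ 2 * a⁻¹ := by ring
  rw [e1, e2]

theorem RankOne.hx (t : F) (ht : t ≠ 0) (a : F) : A.h t * A.x a * (A.h t)⁻¹ = A.x (t ^ 2 * a) := by
  have e : A.h t * A.x a * (A.h t)⁻¹ = A.w t * (A.w (-1) * A.x a * (A.w (-1))⁻¹) * (A.w t)⁻¹ := by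
    unfold RankOne.h; group
  rw [e, A.wx (-1) (by simp), A.wy t ht]
  congr 1
  field_simp

theorem RankOne.hy (t : F) (ht : t ≠ 0) (a : F) : A.h t * A.y a * (A.h t)⁻¹ = A.y (t⁻¹ ^ 2 * a) := by
  have e : A.h t * A.y a * (A.h t)⁻¹ = A.w t * (A.w (-1) * A.y a * (A.w (-1))⁻¹) * (A.w t)⁻¹ := by
    unfold RankOne.h; group
  rw [e, A.wy (-1) (by simp), A.wx t ht]
  congr 1
  field_simp

theorem RankOne.hw (t v : F) (ht : t ≠ 0) (hv : v ≠ 0) : A.h t * A.w v * (A.h t)⁻¹ = A.w (t ^ 2 * v) := by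
  have e : A.h t * A.w v * (A.h t)⁻¹ =
      (A.h t * A.x v * (A.h t)⁻¹) * (A.h t * A.y (-v⁻¹) * (A.h t)⁻¹) * (A.h t * A.x v * (A.h t)⁻¹) := by
    conv_lhs => enter [1, 2]; unfold RankOne.w
    group
  rw [e, A.hx t ht, A.hy t ht]
  unfold RankOne.w
  have e1 : -(t ^ 2 * v)⁻¹ = t⁻¹ ^ 2 * -v⁻¹ := by field_simp
  rw [e1]

theorem RankOne.hh (t v : F) (ht : t ≠ 0) (hv : v ≠ 0) :
    A.h t * A.h v * (A.h t)⁻¹ = A.h (t ^ 2 * v) * (A.h (t ^ 2))⁻¹ := by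
  have e : A.h t * A.h v * (A.h t)⁻¹ = (A.h t * A.w v * (A.h t)⁻¹) * (A.h t * A.w (-1) * (A.h t)⁻¹) := by
    conv_lhs => enter [1, 2]; unfold RankOne.h
    group
  rw [e, A.hw t v ht hv, A.hw t (-1) ht (by simp)]
  unfold RankOne.h
  rw [mul_inv_rev, A.w_inv (t ^ 2), mul_neg, mul_one]
  group

theorem RankOne.h_one : A.h 1 = 1 := by
  unfold RankOne.h
  rw [A.w_neg, mul_inv_cancel]

theorem RankOne.w_eq_h (a : F) : A.w a = A.h a * A.w 1 := by
  unfold RankOne.h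
  rw [A.w_neg, inv_mul_cancel_right]

theorem RankOne.w1h (a : F) (ha : a ≠ 0) : A.w 1 * A.h a * (A.w 1)⁻¹ = A.h a⁻¹ := by
  have e : A.w 1 * A.h a * (A.w 1)⁻¹ = (A.w 1 * A.w a * (A.w 1)⁻¹) * (A.w 1 * A.w (-1) * (A.w 1)⁻¹) := by
    conv_lhs => enter [1, 2]; unfold RankOne.h
    group
  rw [e, A.ww 1 a one_ne_zero ha, A.ww 1 (-1) one_ne_zero (by simp)]
  unfold RankOne.h
  have e1 : (1 : F) ^ 2 * a⁻¹ = a⁻¹ := by ring
  have e2 : (1 : F) ^ 2 * (-1)⁻¹ = -1 := by norm_num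
  rw [e1, e2]

/-- The relation behind the Steinberg symbol identity `{t, 1 - t} = 1`. -/
theorem RankOne.steinberg_rel (t u : F) (ht : t ≠ 0) (hu : u ≠ 0) (htu : t + u = 1) :
    A.w (t * u) = A.w (-(t ^ 2)) * A.w t * A.w u := by
  have hy1 : A.y (-(t * u)⁻¹) = A.y (-t⁻¹) * A.y (-u⁻¹) := by
    rw [← A.y_add]
    congr 1
    have : u = 1 - t := by linear_combination htu
    subst this
    field_simp
    ring
  have hy2 : ∀ s : F, A.y (-s⁻¹) = A.x (-s) * A.w s * A.x (-s) := by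
    intro s
    unfold RankOne.w
    rw [A.x_neg]
    group
  have h3 : A.w (t * u) = A.x (-(t ^ 2)) * A.w t * A.x (-1) * A.w u * A.x (-(u ^ 2)) := by
    conv_lhs => unfold RankOne.w
    rw [hy1, hy2 t, hy2 u]
    have e1 : A.x (t * u) * A.x (-t) = A.x (-(t ^ 2)) := by
      rw [← A.x_add]; congr 1; linear_combination t * htu
    have e2 : A.x (-t) * A.x (-u) = A.x (-1) := by
      rw [← A.x_add]; congr 1; linear_combination -htu
    have e3 : A.x (-u) * A.x (t * u) = A.x (-(u ^ 2)) := by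
      rw [← A.x_add]; congr 1; linear_combination u * htu
    calc A.x (t * u) * (A.x (-t) * A.w t * A.x (-t) * (A.x (-u) * A.w u * A.x (-u))) * A.x (t * u)
        = (A.x (t * u) * A.x (-t)) * A.w t * (A.x (-t) * A.x (-u)) * A.w u * (A.x (-u) * A.x (t * u)) := by group
      _ = _ := by rw [e1, e2, e3]
  have h4 : A.w t * A.x (-1) = A.y (t⁻¹ ^ 2) * A.w t := by
    have := A.wx t ht (-1)
    have e : -(t⁻¹ ^ 2 * -1) = t⁻¹ ^ 2 := by ring
    rw [e] at this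
    rw [← this]; group
  have h5 : A.x (-(t ^ 2)) * A.y (t⁻¹ ^ 2) = A.w (-(t ^ 2)) * A.x (t ^ 2) := by
    unfold RankOne.w
    have e : -(-(t ^ 2))⁻¹ = t⁻¹ ^ 2 := by field_simp
    rw [e, A.x_neg]
    group
  have h6 : A.x (t ^ 2) * (A.w t * A.w u) = (A.w t * A.w u) * A.x (u ^ 2) := by
    have a1 : (A.w t)⁻¹ * A.x (t ^ 2) * A.w t = A.y (-1) := by
      have := A.wx (-t) (neg_ne_zero.mpr ht) (t ^ 2)
      rw [A.w_neg, inv_inv] at this
      rw [this]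
      congr 1
      field_simp
    have a2 : (A.w u)⁻¹ * A.y (-1) * A.w u = A.x (u ^ 2) := by
      have := A.wy (-u) (neg_ne_zero.mpr hu) (-1)
      rw [A.w_neg, inv_inv] at this
      rw [this]
      congr 1
      ring
    calc A.x (t ^ 2) * (A.w t * A.w u)
        = A.w t * A.w u * ((A.w u)⁻¹ * ((A.w t)⁻¹ * A.x (t ^ 2) * A.w t) * A.w u) := by group
      _ = _ := by rw [a1, a2]
  calc A.w (t * u) = A.x (-(t ^ 2)) * (A.w t * A.x (-1)) * A.w u * A.x (-(u ^ 2)) := by rw [h3]; group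
    _ = (A.x (-(t ^ 2)) * A.y (t⁻¹ ^ 2)) * A.w t * A.w u * A.x (-(u ^ 2)) := by rw [h4]; group
    _ = A.w (-(t ^ 2)) * (A.x (t ^ 2) * (A.w t * A.w u)) * A.x (-(u ^ 2)) := by rw [h5]; group
    _ = A.w (-(t ^ 2)) * A.w t * A.w u * (A.x (u ^ 2) * A.x (-(u ^ 2))) := by rw [h6]; group
    _ = _ := by rw [← A.x_add, add_neg_cancel, A.x_zero, mul_one]

theorem RankOne.rel_h (t u : F) (ht : t ≠ 0) (hu : u ≠ 0) (htu : t + u = 1) :
    A.h (t ^ 2) * A.h (t * u)⁻¹ = A.h t * A.h u⁻¹ := by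
  have h1 := A.steinberg_rel t u ht hu htu
  have h2 : A.w (t ^ 2) * A.w (t * u) = A.w t * A.w u := by
    rw [h1, A.w_neg]; group
  rw [A.w_eq_h (t ^ 2), A.w_eq_h (t * u), A.w_eq_h t, A.w_eq_h u] at h2
  have c1 := A.w1h (t * u) (mul_ne_zero ht hu)
  have c2 := A.w1h u hu
  have e1 : A.h (t ^ 2) * A.w 1 * (A.h (t * u) * A.w 1) =
      A.h (t ^ 2) * (A.w 1 * A.h (t * u) * (A.w 1)⁻¹) * (A.w 1 * A.w 1) := by group
  have e2 : A.h t * A.w 1 * (A.h u * A.w 1) = A.h t * (A.w 1 * A.h u * (A.w 1)⁻¹) * (A.w 1 * A.w 1) := by group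
  rw [e1, e2, c1, c2] at h2
  exact mul_right_cancel h2

end

section
variable {F : Type*} [Field F] [Finite F] {Γ : Type*} [Group Γ] (A : RankOne F Γ)
variable (hc : ∀ t u : F, t ≠ 0 → u ≠ 0 → A.h t * A.h u * (A.h (t * u))⁻¹ ∈ Subgroup.center Γ)
include hc

theorem RankOne.h_commute (t u : F) (ht : t ≠ 0) (hu : u ≠ 0) : A.h t * A.h u = A.h u * A.h t := by
  obtain ⟨g, hg⟩ := IsCyclic.exists_generator (α := Fˣ)
  have key : ∀ n : ℕ, ∃ z ∈ Subgroup.center Γ, A.h ((g ^ n : Fˣ) : F) = z * A.h (g : F) ^ n := by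
    intro n
    induction n with
    | zero => exact ⟨1, Subgroup.one_mem _, by simp [A.h_one]⟩
    | succ n ih =>
      obtain ⟨z, hz, e⟩ := ih
      have hcn := hc ((g ^ n : Fˣ) : F) (g : F) (Units.ne_zero _) (Units.ne_zero _)
      refine ⟨(A.h ((g ^ n : Fˣ) : F) * A.h (g : F) * (A.h (((g ^ n : Fˣ) : F) * (g : F)))⁻¹)⁻¹ * z,
        Subgroup.mul_mem _ (Subgroup.inv_mem _ hcn) hz, ?_⟩
      rw [pow_succ, Units.val_mul, pow_succ, ← mul_assoc, mul_assoc _ z, ← e]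
      group
  have hpow : ∀ v : F, v ≠ 0 → ∃ n : ℕ, v = ((g ^ n : Fˣ) : F) := by
    intro v hv
    have hmem := hg (Units.mk0 v hv)
    have : Finite Fˣ := inferInstance
    rw [← mem_powers_iff_mem_zpowers] at hmem
    obtain ⟨n, hn⟩ := hmem
    exact ⟨n, by have := congrArg Units.val hn; simpa using this.symm⟩
  obtain ⟨n, rfl⟩ := hpow t ht
  obtain ⟨m, rfl⟩ := hpow u hu
  obtain ⟨z1, hz1, e1⟩ := key n
  obtain ⟨z2, hz2, e2⟩ := key m
  rw [e1, e2]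
  rw [Subgroup.mem_center_iff] at hz1 hz2
  have hp : A.h (g : F) ^ n * A.h (g : F) ^ m = A.h (g : F) ^ m * A.h (g : F) ^ n := by
    rw [← pow_add, ← pow_add, add_comm]
  calc z1 * A.h (g : F) ^ n * (z2 * A.h (g : F) ^ m)
      = z1 * (A.h (g : F) ^ n * z2) * A.h (g : F) ^ m := by group
    _ = z1 * (z2 * A.h (g : F) ^ n) * A.h (g : F) ^ m := by rw [hz2]
    _ = z1 * z2 * (A.h (g : F) ^ n * A.h (g : F) ^ m) := by group
    _ = z1 * z2 * (A.h (g : F) ^ m * A.h (g : F) ^ n) := by rw [hp]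
    _ = (z2 * z1) * A.h (g : F) ^ m * A.h (g : F) ^ n := by rw [← hz2 z1]; group
    _ = z2 * (z1 * A.h (g : F) ^ m) * A.h (g : F) ^ n := by group
    _ = z2 * (A.h (g : F) ^ m * z1) * A.h (g : F) ^ n := by rw [hz1]
    _ = _ := by group

theorem RankOne.h_sq_mul (t v : F) (ht : t ≠ 0) (hv : v ≠ 0) : A.h (t ^ 2 * v) = A.h (t ^ 2) * A.h v := by
  have h1 := A.hh t v ht hv
  have h2 := A.h_commute hc t v ht hv
  have h3 : A.h t * A.h v * (A.h t)⁻¹ = A.h v := by rw [h2]; group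
  rw [h3] at h1
  have h4 : A.h (t ^ 2 * v) = A.h v * A.h (t ^ 2) := by rw [h1]; group
  rw [h4]
  exact A.h_commute hc v (t ^ 2) hv (pow_ne_zero 2 ht)

/-- Over a finite field the elements `h(t)` are multiplicative. -/
theorem RankOne.h_mul (t u : F) (ht : t ≠ 0) (hu : u ≠ 0) : A.h (t * u) = A.h t * A.h u := by
  classical
  have : Fintype F := Fintype.ofFinite F
  -- squares are good
  have hsq : ∀ a v : F, a ≠ 0 → v ≠ 0 → IsSquare a → A.h (a * v) = A.h a * A.h v := by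
    rintro a v ha hv ⟨s, rfl⟩
    have hs : s ≠ 0 := fun h => ha (by rw [h, mul_zero])
    rw [← sq]
    exact A.h_sq_mul hc s v hs hv
  by_cases hall : ∀ a : F, IsSquare a
  · exact hsq t u ht hu (hall t)
  have hchar : ringChar F ≠ 2 := fun h2 => hall (FiniteField.isSquare_of_char_two h2)
  -- two nonsquares with sum one
  obtain ⟨g, hg⟩ := FiniteField.exists_nonsquare hchar
  have hg0 : g ≠ 0 := fun h => hg (by rw [h]; exact IsSquare.zero)
  have hodd : Fintype.card F % 2 = 1 := FiniteField.odd_card_of_char_ne_two hchar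
  obtain ⟨a, b, hab⟩ := FiniteField.exists_root_sum_quadratic (R := F) (f := Polynomial.X ^ 2)
    (g := Polynomial.X ^ 2 - Polynomial.C g⁻¹) (Polynomial.degree_X_pow 2)
    (Polynomial.degree_X_pow_sub_C (by decide) _) hodd
  simp only [Polynomial.eval_pow, Polynomial.eval_X, Polynomial.eval_sub, Polynomial.eval_C] at hab
  have hsum : g * a ^ 2 + g * b ^ 2 = 1 := by
    have : a ^ 2 + b ^ 2 = g⁻¹ := by linear_combination hab
    rw [← mul_add, this, mul_inv_cancel₀ hg0]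
  have hnsq : ∀ c : F, c ≠ 0 → ¬ IsSquare (g * c ^ 2) := by
    rintro c hc0 ⟨d, hd⟩
    apply hg
    refine ⟨d * c⁻¹, ?_⟩
    field_simp
    linear_combination hd
  have ha0 : a ≠ 0 := by
    intro h
    rw [h] at hsum
    apply hg
    refine ⟨b⁻¹, ?_⟩
    have hb0 : b ≠ 0 := by
      intro hb; rw [hb] at hsum; simp at hsum
    field_simp
    linear_combination hsum
  have hb0 : b ≠ 0 := by
    intro h
    rw [h] at hsum
    apply hg
    refine ⟨a⁻¹, ?_⟩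
    field_simp
    linear_combination hsum
  set t₀ := g * a ^ 2 with ht₀
  set u₀ := g * b ^ 2 with hu₀
  have ht₀0 : t₀ ≠ 0 := mul_ne_zero hg0 (pow_ne_zero 2 ha0)
  have hu₀0 : u₀ ≠ 0 := mul_ne_zero hg0 (pow_ne_zero 2 hb0)
  have hnt₀ : ¬ IsSquare t₀ := hnsq a ha0
  have hnu₀ : ¬ IsSquare u₀ := hnsq b hb0
  -- the product of two nonsquares is a square
  have hprod : ∀ p q : F, p ≠ 0 → q ≠ 0 → ¬ IsSquare p → ¬ IsSquare q → IsSquare (p * q) := by
    intro p q hp hq hnp hnq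
    rw [← quadraticChar_one_iff_isSquare (mul_ne_zero hp hq), map_mul,
      quadraticChar_neg_one_iff_not_isSquare.mpr hnp, quadraticChar_neg_one_iff_not_isSquare.mpr hnq]
    norm_num
  have hrel := A.rel_h t₀ u₀ ht₀0 hu₀0 hsum
  have hbase : A.h (t₀ * u₀⁻¹) = A.h t₀ * A.h u₀⁻¹ := by
    rw [← hrel, ← A.h_sq_mul hc t₀ (t₀ * u₀)⁻¹ ht₀0 (inv_ne_zero (mul_ne_zero ht₀0 hu₀0))]
    congr 1
    field_simp
  -- `t₀` is good
  have hgood₀ : ∀ v : F, v ≠ 0 → A.h (t₀ * v) = A.h t₀ * A.h v := by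
    intro v hv
    by_cases hvs : IsSquare v
    · rw [mul_comm, hsq v t₀ hv ht₀0 hvs]
      exact A.h_commute hc v t₀ hv ht₀0
    · have hs : IsSquare (v * u₀) := hprod v u₀ hv hu₀0 hvs hnu₀
      have hvu : v * u₀ ≠ 0 := mul_ne_zero hv hu₀0
      have e1 : t₀ * v = (v * u₀) * (t₀ * u₀⁻¹) := by field_simp
      have e2 : v = (v * u₀) * u₀⁻¹ := by field_simp
      rw [e1, hsq _ _ hvu (mul_ne_zero ht₀0 (inv_ne_zero hu₀0)) hs, hbase]
      conv_rhs => rw [e2, hsq _ _ hvu (inv_ne_zero hu₀0) hs]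
      have := A.h_commute hc (v * u₀) t₀ hvu ht₀0
      calc A.h (v * u₀) * (A.h t₀ * A.h u₀⁻¹) = (A.h (v * u₀) * A.h t₀) * A.h u₀⁻¹ := by group
        _ = (A.h t₀ * A.h (v * u₀)) * A.h u₀⁻¹ := by rw [this]
        _ = _ := by group
  by_cases hts : IsSquare t
  · exact hsq t u ht hu hts
  · have hs : IsSquare (t * t₀⁻¹) := by
      have hn : ¬ IsSquare t₀⁻¹ := by
        rintro ⟨d, hd⟩
        apply hnt₀
        refine ⟨d⁻¹, ?_⟩
        have hd0 : d ≠ 0 := by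
          intro h; rw [h, mul_zero] at hd; exact inv_ne_zero ht₀0 hd
        field_simp
        have : t₀ * (d * d) = 1 := by rw [← hd]; exact mul_inv_cancel₀ ht₀0
        linear_combination this
      exact hprod t t₀⁻¹ ht (inv_ne_zero ht₀0) hts hn
    have hne : t * t₀⁻¹ ≠ 0 := mul_ne_zero ht (inv_ne_zero ht₀0)
    have e1 : t * u = (t * t₀⁻¹) * (t₀ * u) := by field_simp
    have e2 : t = (t * t₀⁻¹) * t₀ := by field_simp
    rw [e1, hsq _ _ hne (mul_ne_zero ht₀0 hu) hs, hgood₀ u hu]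
    conv_rhs => rw [e2, hsq _ _ hne ht₀0 hs]
    group

end

end Cfsg.Agent.Lib.Helper3.StRk
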