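import Mathlib
import Cfsg.Prelude.Def_Steinberg
import Cfsg.Prelude.Def_SteinbergCover
import Cfsg.Agent.Lib.Helper3.StB15
import Cfsg.Agent.Lib.Helper3.StRk1
import Cfsg.Agent.Lib.Helper3.Cox6
set_option autoImplicit false
set_option linter.unusedSectionVars false
open Cfsg Cfsg.Lie

/-! Over a finite field the symbols `h̄_r` of a group satisfying Steinberg's relations (R1), (R2) are
multiplicative. -/

namespace Cfsg.Agent.Lib.Helper3.StB

open ChevM ChevU ChevT ChevH StRk

section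
variable {C : CDatum} {R : RelData C} {F : Type*} [Field F] {Γ : Type*} [Group Γ] (S : StData C R F Γ)
  (Y : StHyp C R)

include Y in
theorem StData.nS_conj_X_simple (i : ℕ) (hi : i < C.D.rank) (hc2 : C.D.cartan i (C.D.simple i) = 2)
    (t : F) (ht : t ≠ 0) (a : F) :
    S.nS (C.D.simple i) t * S.X (C.D.simple i) a * (S.nS (C.D.simple i) t)⁻¹ =
      S.X (C.D.neg (C.D.simple i)) (-(t⁻¹ ^ 2 * a)) := by
  have hpl := R.simple_lt i hi
  have e : S.nS (C.D.simple i) t * S.X (C.D.simple i) a * (S.nS (C.D.simple i) t)⁻¹ =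
      S.hS (C.D.simple i) t * (S.nS (C.D.simple i) 1 * S.X (C.D.simple i) a * (S.nS (C.D.simple i) 1)⁻¹) *
        (S.hS (C.D.simple i) t)⁻¹ := by
    rw [S.nS_eq_hS_mul (C.D.simple i) t]; group
  rw [e, S.nS_conj Y i hi _ hpl, R.refl_simple i hi, (R.etaSimple i hi).1,
    S.hS_conj Y i hi t ht _ (R.neg_lt _ hpl), Y.cartan_neg_simple i hi i hi, hc2]
  congr 1
  rw [zpow_neg, show (2 : ℤ) = ((2 : ℕ) : ℤ) by rfl, zpow_natCast]
  push_cast
  ring

/-- The rank one group of a fundamental root. -/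
def StData.rankOne (i : ℕ) (hi : i < C.D.rank) (hc2 : C.D.cartan i (C.D.simple i) = 2) : RankOne F Γ where
  x := S.X (C.D.simple i)
  y := S.X (C.D.neg (C.D.simple i))
  x_add := S.add _
  y_add := S.add _
  conj_x := by
    intro t ht a
    rw [← S.nS_eq]
    exact S.nS_conj_X_simple Y i hi hc2 t ht a

theorem StData.rankOne_w (i : ℕ) (hi : i < C.D.rank) (hc2 : C.D.cartan i (C.D.simple i) = 2) (t : F) :
    (S.rankOne Y i hi hc2).w t = S.nS (C.D.simple i) t := (S.nS_eq _ _).symm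

theorem StData.rankOne_h (i : ℕ) (hi : i < C.D.rank) (hc2 : C.D.cartan i (C.D.simple i) = 2) (t : F) :
    (S.rankOne Y i hi hc2).h t = S.hS (C.D.simple i) t := by
  unfold RankOne.h
  rw [S.rankOne_w, S.rankOne_w, ← S.hS_eq]

include Y in
theorem StData.hS_defect_mem_center
    (hgen : Subgroup.closure {g : Γ | ∃ (r : ℕ) (t : F), r < C.D.nroots ∧ g = S.X r t} = ⊤)
    (r : ℕ) (hr : r < C.D.nroots) (t u : F) (ht : t ≠ 0) (hu : u ≠ 0) :
    S.hS r t * S.hS r u * (S.hS r (t * u))⁻¹ ∈ Subgroup.center Γ := by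
  apply S.ker_le_center Y hgen
  rw [MonoidHom.mem_ker, map_mul, map_mul, map_inv, S.phi_hS r hr, S.phi_hS r hr, S.phi_hS r hr, mul_inv_eq_one]
  apply Units.ext
  rw [Units.val_mul, R.hU_val, R.hU_val, R.hU_val]
  exact R.hMat_mul r hr t u ht hu

include Y in
/-- Multiplicativity for the fundamental roots. -/
theorem StData.hS_mul_simple [Finite F]
    (hgen : Subgroup.closure {g : Γ | ∃ (r : ℕ) (t : F), r < C.D.nroots ∧ g = S.X r t} = ⊤)
    (i : ℕ) (hi : i < C.D.rank) (hc2 : C.D.cartan i (C.D.simple i) = 2) (t u : F) (ht : t ≠ 0) (hu : u ≠ 0) :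
    S.hS (C.D.simple i) (t * u) = S.hS (C.D.simple i) t * S.hS (C.D.simple i) u := by
  have := (S.rankOne Y i hi hc2).h_mul (by
    intro a b ha hb
    rw [S.rankOne_h, S.rankOne_h, S.rankOne_h]
    exact S.hS_defect_mem_center Y hgen _ (R.simple_lt i hi) a b ha hb) t u ht hu
  rwa [S.rankOne_h, S.rankOne_h, S.rankOne_h] at this

include Y in
/-- Multiplicativity for all roots. -/
theorem StData.hS_mul [Finite F]
    (hgen : Subgroup.closure {g : Γ | ∃ (r : ℕ) (t : F), r < C.D.nroots ∧ g = S.X r t} = ⊤)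
    (hc2 : ∀ i < C.D.rank, C.D.cartan i (C.D.simple i) = 2)
    (r : ℕ) (hr : r < C.D.nroots) (t u : F) (ht : t ≠ 0) (hu : u ≠ 0) :
    S.hS r (t * u) = S.hS r t * S.hS r u := by
  have h := Y.B.mono.rwc r hr
  simp only [rootWordCheck, Bool.and_eq_true, List.all_eq_true, decide_eq_true_eq] at h
  obtain ⟨⟨hl, hj⟩, hr'⟩ := h
  set l := (Y.B.mono.rw r).1
  set j := (Y.B.mono.rw r).2
  have hpl := R.simple_lt j hj
  have hsign := (R.conjRel_word (F := F) l hl).sign (C.D.simple j) hpl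
  set η : F := (etaW R.refl R.eta l (C.D.simple j) : F) with hη
  have hη2 : η * η = 1 := by
    rcases hsign with h1 | h1 <;> rw [hη, h1] <;> simp
  have hη0 : η ≠ 0 := fun h0 => by rw [h0, mul_zero] at hη2; exact zero_ne_one hη2
  have hm := S.hS_mul_simple Y hgen j hj (hc2 j hj)
  -- the symbol of `r` is a conjugate of the symbol of the fundamental root
  have key : ∀ c : F, c ≠ 0 → S.hS r c = S.wordN l * S.hS (C.D.simple j) c * (S.wordN l)⁻¹ := by
    intro c hc
    have e1 : ∀ d : F, S.nS r d = S.wordN l * S.nS (C.D.simple j) (η * d) * (S.wordN l)⁻¹ := by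
      intro d
      rw [S.wordN_conj_nS Y l hl _ hpl, hr', ← hη, ← mul_assoc, hη2, one_mul]
    rw [S.hS_eq r c, e1 c, e1 (-1)]
    have e2 : S.nS (C.D.simple j) (η * c) * S.nS (C.D.simple j) (η * -1) = S.hS (C.D.simple j) c := by
      rw [S.nS_mul_nS, mul_neg, mul_one, neg_neg, hm η c hη0 hc]
      have hcomm : S.hS (C.D.simple j) η * S.hS (C.D.simple j) c =
          S.hS (C.D.simple j) c * S.hS (C.D.simple j) η := by
        rw [← hm η c hη0 hc, ← hm c η hc hη0, mul_comm]
      rw [hcomm]; group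
    rw [← e2]; group
  rw [key _ (mul_ne_zero ht hu), key t ht, key u hu, hm t u ht hu]
  group

end

end Cfsg.Agent.Lib.Helper3.StB
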