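import Mathlib
import Cfsg.Prelude.Def_Steinberg
import Cfsg.Prelude.Def_SteinbergCover
import Cfsg.Agent.Lib.Helper3.StRk2
set_option autoImplicit false
set_option linter.unusedSectionVars false
open Cfsg Cfsg.Lie

/-! Over a finite field the group presented by (R1), (R2) is the group presented by (R1), (R2), (R3). -/

namespace Cfsg.Agent.Lib.Helper3.StB

open ChevM ChevU ChevT ChevH StRk

theorem lift_mk_of {α : Type*} (rels : Set (FreeGroup α)) :
    FreeGroup.lift (fun p : α => PresentedGroup.mk rels (FreeGroup.of p)) = PresentedGroup.mk rels := by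
  ext p
  simp

section
variable {C : CDatum} {R : RelData C} {F : Type*} [Field F] [Finite F]

theorem cover_equiv_steinberg (K : CommData C R) (Y : StHyp C R)
    (hc2 : ∀ i < C.D.rank, C.D.cartan i (C.D.simple i) = 2) :
    ∃ e : C.D.SteinbergCover F ≃* C.D.SteinbergGroup F,
      ∀ (r : ℕ) (t : F), e (C.D.scGen F r t) = C.D.stGen F r t := by
  have hAB : C.D.steinbergRelsAB F ⊆ C.D.steinbergRelsAB F := fun g hg => hg
  have hsub : C.D.steinbergRelsAB F ⊆ C.D.steinbergRels F := fun g hg => Or.inl hg
  set φ : PresentedGroup (C.D.steinbergRelsAB F) →* GL C.D.Idx F :=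
    (C.D.group F).subtype.comp (presHom R (C.D.steinbergRelsAB F) (stLift_relsAB R K)) with hφdef
  have hφ : ∀ r < C.D.nroots, ∀ t : F,
      φ (PresentedGroup.mk (C.D.steinbergRelsAB F) (C.D.stX r t)) = R.xU r t := by
    intro r _ t
    rw [hφdef, MonoidHom.comp_apply, Subgroup.coe_subtype, presHom_mk, stLift_stX]
  set S := presData R (C.D.steinbergRelsAB F) hAB φ hφ with hS
  have hgen := presData_gen R (C.D.steinbergRelsAB F) hAB φ hφ
  -- the relators (R3) hold in the cover
  have hR3 : ∀ g ∈ C.D.steinbergRels F, PresentedGroup.mk (C.D.steinbergRelsAB F) g = 1 := by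
    rintro g (hg | ⟨r, a, b, hr, ha, hb, rfl⟩)
    · exact PresentedGroup.one_of_mem hg
    · rw [map_mul, map_mul, map_inv, ← presData_hS R (C.D.steinbergRelsAB F) hAB φ hφ,
        ← presData_hS R (C.D.steinbergRelsAB F) hAB φ hφ, ← presData_hS R (C.D.steinbergRelsAB F) hAB φ hφ,
        mul_inv_eq_one]
      exact (S.hS_mul Y hgen hc2 r hr a b ha hb).symm
  let f : C.D.SteinbergCover F →* C.D.SteinbergGroup F :=
    PresentedGroup.toGroup (f := fun p => PresentedGroup.mk (C.D.steinbergRels F) (FreeGroup.of p)) (by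
      intro g hg
      rw [lift_mk_of]
      exact PresentedGroup.one_of_mem (hsub hg))
  let g : C.D.SteinbergGroup F →* C.D.SteinbergCover F :=
    PresentedGroup.toGroup (f := fun p => PresentedGroup.mk (C.D.steinbergRelsAB F) (FreeGroup.of p)) (by
      intro x hx
      rw [lift_mk_of]
      exact hR3 x hx)
  have hf : ∀ w, f (PresentedGroup.mk (C.D.steinbergRelsAB F) w) = PresentedGroup.mk (C.D.steinbergRels F) w := by
    intro w
    show FreeGroup.lift (fun p => PresentedGroup.mk (C.D.steinbergRels F) (FreeGroup.of p)) w = _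
    rw [lift_mk_of]
  have hg : ∀ w, g (PresentedGroup.mk (C.D.steinbergRels F) w) = PresentedGroup.mk (C.D.steinbergRelsAB F) w := by
    intro w
    show FreeGroup.lift (fun p => PresentedGroup.mk (C.D.steinbergRelsAB F) (FreeGroup.of p)) w = _
    rw [lift_mk_of]
  refine ⟨MulEquiv.ofBijective f ⟨?_, ?_⟩, ?_⟩
  · intro a b hab
    have : ∀ z, g (f z) = z := by
      intro z
      obtain ⟨w, rfl⟩ := PresentedGroup.mk_surjective _ z
      rw [hf, hg]
    rw [← this a, ← this b, hab]
  · intro z
    obtain ⟨w, rfl⟩ := PresentedGroup.mk_surjective _ z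
    exact ⟨PresentedGroup.mk _ w, hf w⟩
  · intro r t
    exact hf _

end

end Cfsg.Agent.Lib.Helper3.StB
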