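import Mathlib
import Cfsg.Agent.Lib.Helper3.ChevU1
set_option autoImplicit false
set_option linter.unusedSectionVars false

/-! The tails of the collection process are themselves products of root subgroups. -/

namespace Cfsg.Agent.Lib.Helper3.ChevCoh

open Cfsg.Agent.Lib.Helper3.ChevU

section
variable {G : Type*} [Group G] {F : Type*} [AddGroup F]
  {x : ℕ → F → G} {P : ℕ → Prop} {pos : ℕ → ℕ}

theorem tailGrp_restrict (k m : ℕ) (hkm : k ≤ m) :
    tailGrp x (fun r => P r ∧ k ≤ pos r) pos m = tailGrp x P pos m := by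
  unfold tailGrp
  congr 1
  ext g
  constructor
  · rintro ⟨r, t, ⟨hr, -⟩, hm, rfl⟩
    exact ⟨r, t, hr, hm, rfl⟩
  · rintro ⟨r, t, hr, hm, rfl⟩
    exact ⟨r, t, ⟨hr, le_trans hkm hm⟩, hm, rfl⟩

theorem tailGrp_restrict_zero (k : ℕ) :
    tailGrp x (fun r => P r ∧ k ≤ pos r) pos 0 = tailGrp x P pos k := by
  unfold tailGrp
  congr 1
  ext g
  constructor
  · rintro ⟨r, t, ⟨hr, hk⟩, -, rfl⟩
    exact ⟨r, t, hr, hk, rfl⟩
  · rintro ⟨r, t, hr, hm, rfl⟩
    exact ⟨r, t, ⟨hr, hm⟩, Nat.zero_le _, rfl⟩

theorem rootSys_restrict (H : RootSys x P pos) (k : ℕ) : RootSys x (fun r => P r ∧ k ≤ pos r) pos where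
  add := H.add
  comm := by
    rintro r s ⟨hr, hkr⟩ ⟨hs, -⟩ t u
    rw [tailGrp_restrict k (pos r + 1) (by omega)]
    exact H.comm r s hr hs t u
  inj := fun r s hr hs h => H.inj r s hr.1 hs.1 h

theorem lprod_zero (H : RootSys x P pos) (M : List ℕ) (t : ℕ → F) (ht : ∀ r ∈ M, t r = 0) :
    RootSys.lprod x M t = 1 := by
  induction M with
  | nil => simp [RootSys.lprod]
  | cons r M ih =>
    rw [RootSys.lprod_cons, ht r List.mem_cons_self, H.x_zero, one_mul]
    exact ih (fun s hs => ht s (List.mem_cons_of_mem _ hs))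

theorem lprod_filter (H : RootSys x P pos) (q : ℕ → Bool) (M : List ℕ) (t : ℕ → F)
    (ht : ∀ r ∈ M, q r = false → t r = 0) :
    RootSys.lprod x M t = RootSys.lprod x (M.filter q) t := by
  induction M with
  | nil => simp
  | cons r M ih =>
    have ih' := ih (fun s hs => ht s (List.mem_cons_of_mem _ hs))
    by_cases hq : q r = true
    · rw [List.filter_cons_of_pos hq, RootSys.lprod_cons, RootSys.lprod_cons, ih']
    · rw [List.filter_cons_of_neg hq, RootSys.lprod_cons, ih',
        ht r List.mem_cons_self (by simpa using hq), H.x_zero, one_mul]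

theorem lprod_single (H : RootSys x P pos) (M : List ℕ) (hM : M.Nodup) (r : ℕ) (hr : r ∈ M) (c : F) :
    RootSys.lprod x M (Function.update (fun _ => 0) r c) = x r c := by
  obtain ⟨M1, M2, rfl⟩ := List.append_of_mem hr
  have hr1 : r ∉ M1 := by
    intro h
    rw [List.nodup_append] at hM
    exact hM.2.2 r h r List.mem_cons_self rfl
  have hr2 : r ∉ M2 := by
    rw [List.nodup_append] at hM
    exact (List.nodup_cons.mp hM.2.1).1
  rw [RootSys.lprod_append, RootSys.lprod_cons, RootSys.lprod_update_of_not_mem _ _ _ _ hr1,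
    RootSys.lprod_update_of_not_mem _ _ _ _ hr2, Function.update_self,
    lprod_zero H M1 _ (fun _ _ => rfl), lprod_zero H M2 _ (fun _ _ => rfl), one_mul, mul_one]

/-- Every element of a tail is a product of root elements of the roots of the tail, in the order of any list
enumerating the roots. -/
theorem exists_lprod_tail (H : RootSys x P pos) (K : ℕ) (hK : ∀ r, P r → pos r < K) (M : List ℕ) (hnd : M.Nodup)
    (hM : ∀ r, r ∈ M ↔ P r) (k : ℕ) {g : G} (hg : g ∈ tailGrp x P pos k) :
    ∃ t : ℕ → F, (∀ r, pos r < k → t r = 0) ∧ g = RootSys.lprod x M t := by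
  classical
  rw [← tailGrp_restrict_zero k] at hg
  obtain ⟨t, rfl⟩ := (rootSys_restrict H k).exists_lprod K (fun r hr => hK r hr.1) (M.filter fun r => decide (k ≤ pos r))
    (hnd.filter _) (by
      intro r
      rw [List.mem_filter, hM r, decide_eq_true_eq]) hg
  refine ⟨fun r => if k ≤ pos r then t r else 0, fun r hr => by simp [Nat.not_le.mpr hr], ?_⟩
  rw [lprod_filter H (fun r => decide (k ≤ pos r)) M _ (by
    intro r _ hq
    simp only [decide_eq_false_iff_not] at hq
    simp [hq])]
  unfold RootSys.lprod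
  congr 1
  apply List.map_congr_left
  intro r hr
  have := (List.mem_filter.mp hr).2
  simp only [decide_eq_true_eq] at this
  simp [this]

end

end Cfsg.Agent.Lib.Helper3.ChevCoh
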