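import Mathlib
set_option autoImplicit false
set_option linter.unusedSectionVars false

/-! Central extensions: commutators of lifts, reduction to perfect extensions, and the lifting property obtained
from the splitting of all central extensions. -/

namespace Cfsg.Agent.Lib.Helper3.StU

open scoped commutatorElement

section
variable {E Δ : Type*} [Group E] [Group Δ] (ψ : E →* Δ)

theorem comm_mul_central_left {a b z : E} (hz : z ∈ Subgroup.center E) : ⁅a * z, b⁆ = ⁅a, b⁆ := by
  have h := Subgroup.mem_center_iff.mp hz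
  rw [commutatorElement_def, commutatorElement_def, mul_inv_rev]
  calc a * z * b * (z⁻¹ * a⁻¹) * b⁻¹ = a * (z * b) * z⁻¹ * a⁻¹ * b⁻¹ := by group
    _ = a * (b * z) * z⁻¹ * a⁻¹ * b⁻¹ := by rw [h b]
    _ = a * b * a⁻¹ * b⁻¹ := by group

theorem comm_mul_central_right {a b z : E} (hz : z ∈ Subgroup.center E) : ⁅a, b * z⁆ = ⁅a, b⁆ := by
  have h := Subgroup.mem_center_iff.mp hz
  rw [commutatorElement_def, commutatorElement_def, mul_inv_rev]
  calc a * (b * z) * a⁻¹ * (z⁻¹ * b⁻¹) = a * b * (z * a⁻¹) * z⁻¹ * b⁻¹ := by group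
    _ = a * b * (a⁻¹ * z) * z⁻¹ * b⁻¹ := by rw [h a⁻¹]
    _ = a * b * a⁻¹ * b⁻¹ := by group

/-- The commutator of two elements depends only on their images modulo a central kernel. -/
theorem comm_congr (hc : ψ.ker ≤ Subgroup.center E) {a a' b b' : E} (ha : ψ a = ψ a') (hb : ψ b = ψ b') :
    ⁅a, b⁆ = ⁅a', b'⁆ := by
  have hz : a⁻¹ * a' ∈ Subgroup.center E := hc (by rw [MonoidHom.mem_ker, map_mul, map_inv, ha, inv_mul_cancel])
  have hz' : b⁻¹ * b' ∈ Subgroup.center E := hc (by rw [MonoidHom.mem_ker, map_mul, map_inv, hb, inv_mul_cancel])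
  have e1 : a' = a * (a⁻¹ * a') := by group
  have e2 : b' = b * (b⁻¹ * b') := by group
  rw [e1, e2, comm_mul_central_left hz, comm_mul_central_right hz']

theorem comm_mem_ker {a b : E} (h : Commute (ψ a) (ψ b)) : ⁅a, b⁆ ∈ ψ.ker := by
  rw [MonoidHom.mem_ker, commutatorElement_def, map_mul, map_mul, map_mul, map_inv, map_inv, h.eq]
  group

theorem comm_mul_left_eq (a a' b : E) : ⁅a * a', b⁆ = a * ⁅a', b⁆ * a⁻¹ * ⁅a, b⁆ := by
  simp only [commutatorElement_def]; group

theorem comm_mul_right_eq (a b b' : E) : ⁅a, b * b'⁆ = ⁅a, b⁆ * (b * ⁅a, b'⁆ * b⁻¹) := by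
  simp only [commutatorElement_def]; group

theorem conj_comm (g a b : E) : g * ⁅a, b⁆ * g⁻¹ = ⁅g * a * g⁻¹, g * b * g⁻¹⁆ := by
  simp only [commutatorElement_def]; group

theorem comm_mul_left_of_central {a a' b : E} (h : ⁅a', b⁆ ∈ Subgroup.center E) :
    ⁅a * a', b⁆ = ⁅a, b⁆ * ⁅a', b⁆ := by
  have hz := Subgroup.mem_center_iff.mp h
  have e : ⁅a * a', b⁆ = a * ⁅a', b⁆ * a⁻¹ * ⁅a, b⁆ := by
    simp only [commutatorElement_def]; group
  rw [e, hz a, mul_inv_cancel_right]
  exact (hz _).symm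

theorem comm_mul_right_of_central {a b b' : E} (h : ⁅a, b'⁆ ∈ Subgroup.center E) :
    ⁅a, b * b'⁆ = ⁅a, b⁆ * ⁅a, b'⁆ := by
  have hz := Subgroup.mem_center_iff.mp h
  have e : ⁅a, b * b'⁆ = ⁅a, b⁆ * (b * ⁅a, b'⁆ * b⁻¹) := by
    simp only [commutatorElement_def]; group
  rw [e, hz b, mul_inv_cancel_right]

theorem comm_one_right (a : E) : ⁅a, (1 : E)⁆ = 1 := by
  rw [commutatorElement_def]; group

theorem comm_one_left (a : E) : ⁅(1 : E), a⁆ = 1 := by
  rw [commutatorElement_def]; group

theorem comm_inv_right_of_central {a g : E} (h : ⁅a, g⁆ ∈ Subgroup.center E) : ⁅a, g⁻¹⁆ = ⁅a, g⁆⁻¹ := by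
  have := comm_mul_right_of_central (a := a) (b := g⁻¹) (b' := g) h
  rw [inv_mul_cancel, comm_one_right] at this
  exact eq_inv_of_mul_eq_one_left this.symm

theorem comm_inv_left_of_central {a g : E} (h : ⁅g, a⁆ ∈ Subgroup.center E) : ⁅g⁻¹, a⁆ = ⁅g, a⁆⁻¹ := by
  have := comm_mul_left_of_central (a := g⁻¹) (a' := g) (b := a) h
  rw [inv_mul_cancel, comm_one_left] at this
  exact eq_inv_of_mul_eq_one_left this.symm

/-- If `a` commutes with `g₁` and `g₂` modulo the centre, it commutes with their commutator. -/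
theorem comm_comm_eq_one {a g₁ g₂ : E} (h₁ : ⁅a, g₁⁆ ∈ Subgroup.center E) (h₂ : ⁅a, g₂⁆ ∈ Subgroup.center E) :
    ⁅a, g₁⁻¹ * g₂⁻¹ * g₁ * g₂⁆ = 1 := by
  have i1 := comm_inv_right_of_central h₁
  have i2 := comm_inv_right_of_central h₂
  have h₂' : ⁅a, g₂⁻¹⁆ ∈ Subgroup.center E := by rw [i2]; exact Subgroup.inv_mem _ h₂
  rw [comm_mul_right_of_central h₂, comm_mul_right_of_central h₁, comm_mul_right_of_central h₂', i1, i2]
  have c := Subgroup.mem_center_iff.mp h₂
  calc ⁅a, g₁⁆⁻¹ * ⁅a, g₂⁆⁻¹ * ⁅a, g₁⁆ * ⁅a, g₂⁆ = ⁅a, g₁⁆⁻¹ * ⁅a, g₂⁆⁻¹ * (⁅a, g₁⁆ * ⁅a, g₂⁆) := by group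
    _ = ⁅a, g₁⁆⁻¹ * ⁅a, g₂⁆⁻¹ * (⁅a, g₂⁆ * ⁅a, g₁⁆) := by rw [c]
    _ = 1 := by group

/-- A homomorphism to a commutative group is trivial on a perfect group. -/
theorem hom_trivial_of_perfect {A : Type*} [Group A] (hcomm : ∀ x y : A, x * y = y * x) (hperf : commutator E = ⊤)
    (f : E →* A) (a : E) : f a = 1 := by
  have h : commutator E ≤ f.ker := by
    rw [commutator_eq_closure, Subgroup.closure_le]
    rintro _ ⟨x, y, rfl⟩
    rw [SetLike.mem_coe, MonoidHom.mem_ker, commutatorElement_def, map_mul, map_mul, map_mul, map_inv, map_inv,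
      hcomm (f x) (f y)]
    group
  rw [hperf] at h
  exact MonoidHom.mem_ker.mp (h (Subgroup.mem_top a))

theorem center_comm (x y : Subgroup.center E) : x * y = y * x := by
  apply Subtype.ext
  exact (Subgroup.mem_center_iff.mp x.2 y.1).symm

/-- A central extension of a central extension of a perfect group is central. -/
theorem ker_comp_le_center {G : Type*} [Group G] (π : Δ →* G) (hperf : commutator E = ⊤)
    (hc : ψ.ker ≤ Subgroup.center E) (hπ : π.ker ≤ Subgroup.center Δ) :
    (π.comp ψ).ker ≤ Subgroup.center E := by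
  intro z hz
  have hz' : ψ z ∈ Subgroup.center Δ := hπ (by rwa [MonoidHom.mem_ker, MonoidHom.comp_apply] at hz)
  have hcen : ∀ a : E, ⁅z, a⁆ ∈ Subgroup.center E := fun a =>
    hc (comm_mem_ker ψ ((Subgroup.mem_center_iff.mp hz' (ψ a)).symm))
  let f : E →* Subgroup.center E :=
    { toFun := fun a => ⟨⁅z, a⁆, hcen a⟩
      map_one' := by
        apply Subtype.ext
        exact comm_one_right z
      map_mul' := by
        intro a b
        apply Subtype.ext
        exact comm_mul_right_of_central (hcen b) }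
  rw [Subgroup.mem_center_iff]
  intro a
  have h1 : f a = 1 := hom_trivial_of_perfect center_comm hperf f a
  have h2 : ⁅z, a⁆ = 1 := congrArg Subtype.val h1
  rw [commutatorElement_def] at h2
  have h3 : z * a = a * z := by
    have := congrArg (fun x => x * a * z) h2
    simpa [mul_assoc] using this
  exact h3.symm

end

section
universe u v
variable {Δ : Type v} [Group Δ]

/-- It suffices to split the perfect central extensions. -/
theorem exists_section_of_perfect_case (hΔ : commutator Δ = ⊤)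
    (H : ∀ (E' : Type u) [Group E'] (ψ' : E' →* Δ), Function.Surjective ψ' → ψ'.ker ≤ Subgroup.center E' →
      commutator E' = ⊤ → ∃ s : Δ →* E', ψ'.comp s = MonoidHom.id Δ)
    {E : Type u} [Group E] (ψ : E →* Δ) (hs : Function.Surjective ψ) (hc : ψ.ker ≤ Subgroup.center E) :
    ∃ s : Δ →* E, ψ.comp s = MonoidHom.id Δ := by
  have hmap : (commutator E).map ψ = ⊤ := by
    rw [commutator_def, Subgroup.map_commutator, Subgroup.map_top_of_surjective ψ hs, ← commutator_def, hΔ]
  have hsurj0 : ∀ d : Δ, ∃ e ∈ commutator E, ψ e = d := by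
    intro d
    have : d ∈ (commutator E).map ψ := by rw [hmap]; exact Subgroup.mem_top d
    exact this
  obtain ⟨s₀, hs₀⟩ := H ↥(commutator E) (ψ.comp (commutator E).subtype)
    (by
      intro d
      obtain ⟨e, he, rfl⟩ := hsurj0 d
      exact ⟨⟨e, he⟩, rfl⟩)
    (by
      intro x hx
      have : (x : E) ∈ Subgroup.center E := hc (by
        rw [MonoidHom.mem_ker] at hx ⊢
        exact hx)
      rw [Subgroup.mem_center_iff] at this ⊢
      intro g
      apply Subtype.ext
      exact this g)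
    (by
      have h1 : commutator E ≤ ⁅commutator E, commutator E⁆ := by
        rw [commutator_eq_closure, Subgroup.closure_le]
        rintro _ ⟨a, b, rfl⟩
        obtain ⟨a₀, ha₀, ea⟩ := hsurj0 (ψ a)
        obtain ⟨b₀, hb₀, eb⟩ := hsurj0 (ψ b)
        rw [comm_congr ψ hc ea.symm eb.symm]
        rw [← commutator_eq_closure]
        exact Subgroup.commutator_mem_commutator ha₀ hb₀
      have h2 := Subgroup.map_subtype_commutator (commutator E)
      rw [eq_top_iff]
      intro x _
      have hx : (x : E) ∈ (commutator ↥(commutator E)).map (commutator E).subtype := by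
        rw [h2]; exact h1 x.2
      obtain ⟨y, hy, hyx⟩ := hx
      have : y = x := Subtype.ext hyx
      rwa [this] at hy)
  refine ⟨(commutator E).subtype.comp s₀, ?_⟩
  rw [← MonoidHom.comp_assoc]
  exact hs₀

end

section
universe u v w
variable {Δ : Type u} [Group Δ]

/-- If the central extensions of a perfect group split, homomorphisms from it lift uniquely through central
extensions. -/
theorem existsUnique_lift (hΔ : commutator Δ = ⊤)
    (H : ∀ (E' : Type (max u v)) [Group E'] (ψ' : E' →* Δ), Function.Surjective ψ' → ψ'.ker ≤ Subgroup.center E' →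
      ∃ s : Δ →* E', ψ'.comp s = MonoidHom.id Δ)
    {G₁ : Type w} {E : Type v} [Group G₁] [Group E] (π₁ : E →* G₁) (hπ : Function.Surjective π₁)
    (hc : π₁.ker ≤ Subgroup.center E) (σ : Δ →* G₁) : ∃! τ : Δ →* E, π₁.comp τ = σ := by
  let P : Subgroup (Δ × E) :=
    { carrier := {x | σ x.1 = π₁ x.2}
      mul_mem' := by
        intro x y hx hy
        simp only [Set.mem_ofPred_eq, Prod.fst_mul, Prod.snd_mul, map_mul] at hx hy ⊢
        rw [hx, hy]
      one_mem' := by simp
      inv_mem' := by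
        intro x hx
        simp only [Set.mem_ofPred_eq, Prod.fst_inv, Prod.snd_inv, map_inv] at hx ⊢
        rw [hx] }
  obtain ⟨s, hs⟩ := H ↥P ((MonoidHom.fst Δ E).comp P.subtype)
    (by
      intro d
      obtain ⟨e, he⟩ := hπ (σ d)
      exact ⟨⟨(d, e), he.symm⟩, rfl⟩)
    (by
      intro x hx
      rw [MonoidHom.mem_ker] at hx
      have hx1 : (x : Δ × E).1 = 1 := hx
      have hx2 : (x : Δ × E).2 ∈ Subgroup.center E := hc (by
        rw [MonoidHom.mem_ker]
        have := x.2
        simp only [P, Subgroup.mem_mk] at this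
        rw [← this, hx1, map_one])
      rw [Subgroup.mem_center_iff] at hx2 ⊢
      intro g
      apply Subtype.ext
      apply Prod.ext
      · show (g : Δ × E).1 * (x : Δ × E).1 = (x : Δ × E).1 * (g : Δ × E).1
        rw [hx1, mul_one, one_mul]
      · exact hx2 _)
  have hs' : ∀ d, ((s d : Δ × E)).1 = d := fun d => DFunLike.congr_fun hs d
  refine ⟨(MonoidHom.snd Δ E).comp (P.subtype.comp s), ?_, ?_⟩
  · ext d
    have := (s d).2
    simp only [P, Subgroup.mem_mk] at this
    show π₁ ((s d : Δ × E)).2 = σ d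
    rw [← this, hs']
  · intro τ' hτ'
    set τ := (MonoidHom.snd Δ E).comp (P.subtype.comp s) with hτdef
    have hτ : π₁.comp τ = σ := by
      ext d
      have := (s d).2
      simp only [P, Subgroup.mem_mk] at this
      show π₁ ((s d : Δ × E)).2 = σ d
      rw [← this, hs']
    have hcen : ∀ d, τ' d * (τ d)⁻¹ ∈ Subgroup.center E := fun d => hc (by
      rw [MonoidHom.mem_ker, map_mul, map_inv]
      have h1 : π₁ (τ' d) = σ d := DFunLike.congr_fun hτ' d
      have h2 : π₁ (τ d) = σ d := DFunLike.congr_fun hτ d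
      rw [h1, h2, mul_inv_cancel])
    let f : Δ →* Subgroup.center E :=
      { toFun := fun d => ⟨τ' d * (τ d)⁻¹, hcen d⟩
        map_one' := by
          apply Subtype.ext
          simp
        map_mul' := by
          intro a b
          apply Subtype.ext
          show τ' (a * b) * (τ (a * b))⁻¹ = τ' a * (τ a)⁻¹ * (τ' b * (τ b)⁻¹)
          have hz := Subgroup.mem_center_iff.mp (hcen b)
          rw [map_mul, map_mul, mul_inv_rev]
          calc τ' a * τ' b * ((τ b)⁻¹ * (τ a)⁻¹) = τ' a * (τ' b * (τ b)⁻¹) * (τ a)⁻¹ := by group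
            _ = (τ' b * (τ b)⁻¹) * τ' a * (τ a)⁻¹ := by rw [hz]
            _ = (τ' b * (τ b)⁻¹) * (τ' a * (τ a)⁻¹) := by group
            _ = τ' a * (τ a)⁻¹ * (τ' b * (τ b)⁻¹) := by rw [hz] }
    ext d
    have h1 : f d = 1 := hom_trivial_of_perfect center_comm hΔ f d
    have h2 : τ' d * (τ d)⁻¹ = 1 := congrArg Subtype.val h1
    exact mul_inv_eq_one.mp h2

end

end Cfsg.Agent.Lib.Helper3.StU
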