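import Mathlib
import Cfsg.Prelude.Def_ChevStructure
import Cfsg.Prelude.Def_SteinbergCover
import Cfsg.Agent.Lib.Helper3.StU10
set_option autoImplicit false
set_option linter.unusedSectionVars false
open Cfsg Cfsg.Lie

/-! The lifting property of the group presented by Steinberg's relators (R1), (R2). -/

namespace Cfsg.Agent.Lib.Helper3.StU

open ChevM ChevU ChevT ChevH StB

universe u v w

/-- Homomorphisms from the group presented by (R1), (R2) lift uniquely through central extensions. -/
theorem cover_lift_unique {C : CDatum} {R : RelData C} (K : CommData C R) (H : UnivHyp C R) {F : Type u} [Field F]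
    (hbig : ∃ s : Finset F, 4 < s.card) (hperf : commutator (C.D.SteinbergCover F) = ⊤)
    {G₁ : Type w} {E : Type v} [Group G₁] [Group E] (π₁ : E →* G₁) (hπ : Function.Surjective π₁)
    (hc : π₁.ker ≤ Subgroup.center E) (σ : C.D.SteinbergCover F →* G₁) :
    ∃! τ : C.D.SteinbergCover F →* E, π₁.comp τ = σ :=
  existsUnique_lift hperf (fun _ _ ψ' hs' hc' => cover_split K H hbig hperf ψ' hs' hc') π₁ hπ hc σ

end Cfsg.Agent.Lib.Helper3.StU
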