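import Mathlib
import Cfsg.Prelude.Def_KGroupFacts
import Cfsg.Agent.Lib.Helper3.StU1
import Cfsg.Agent.Lib.Helper3.ChevH1
set_option autoImplicit false
set_option linter.unusedSectionVars false
open Cfsg

/-! The Schur multiplier of a quotient of a perfect group with the lifting property for central extensions by a
cyclic central subgroup. -/

namespace Cfsg.Agent.Lib.Helper3.StS

open StU ChevH
open scoped commutatorElement

universe u

/-- A finite perfect central extension through which every stem extension factors gives the Schur multiplier. -/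
theorem hasCyclicSchurMultiplier_of_cover {G : Type u} [Group G] {Γ₀ : Type u} [Group Γ₀] [Finite Γ₀]
    (θ : Γ₀ →* G) (hθ : Function.Surjective θ) (hker : θ.ker ≤ Subgroup.center Γ₀)
    (hperf : commutator Γ₀ = ⊤) (n : ℕ) (hcyc : IsCyclic θ.ker) (hn : Nat.card θ.ker = n)
    (hlift : ∀ (Γ : Type u) [Group Γ] [Finite Γ] (σ : Γ →* G), Cfsg.IsStemExtension σ →
      ∃ τ : Γ₀ →* Γ, σ.comp τ = θ) :
    Cfsg.HasCyclicSchurMultiplier G n := by
  subst hn
  have e₀ : Multiplicative (ZMod (Nat.card θ.ker)) ≃* θ.ker := zmodCyclicMulEquiv hcyc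
  refine ⟨⟨Γ₀, inferInstance, inferInstance, θ, ⟨hθ, hker, ?_⟩, ⟨e₀.symm⟩⟩, ?_⟩
  · rw [hperf]; exact le_top
  · intro Γ _ _ σ hσ
    obtain ⟨τ, hτ⟩ := hlift Γ σ hσ
    obtain ⟨hsurj, hcen, hcomm⟩ := hσ
    have hτ' : ∀ d, σ (τ d) = θ d := fun d => DFunLike.congr_fun hτ d
    have hdec : ∀ γ : Γ, ∃ k ∈ σ.ker, ∃ d : Γ₀, γ = k * τ d := by
      intro γ
      obtain ⟨d, hd⟩ := hθ (σ γ)
      refine ⟨γ * (τ d)⁻¹, ?_, d, by group⟩
      rw [MonoidHom.mem_ker, map_mul, map_inv, hτ', hd, mul_inv_cancel]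
    have hle : commutator Γ ≤ τ.range := by
      rw [commutator_eq_closure, Subgroup.closure_le]
      rintro _ ⟨a, b, rfl⟩
      obtain ⟨k, hk, d, rfl⟩ := hdec a
      obtain ⟨k', hk', d', rfl⟩ := hdec b
      have e : ⁅k * τ d, k' * τ d'⁆ = ⁅τ d, τ d'⁆ := by
        apply comm_congr σ hcen
        · rw [map_mul, MonoidHom.mem_ker.mp hk, one_mul]
        · rw [map_mul, MonoidHom.mem_ker.mp hk', one_mul]
      rw [e, ← map_commutatorElement]
      exact ⟨_, rfl⟩
    -- the restriction of `τ` to the kernel of `θ`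
    let ρ : θ.ker →* σ.ker :=
      { toFun := fun d => ⟨τ d.1, by
          rw [MonoidHom.mem_ker, hτ']
          exact MonoidHom.mem_ker.mp d.2⟩
        map_one' := by
          apply Subtype.ext
          show τ 1 = 1
          exact map_one τ
        map_mul' := by
          intro a b
          apply Subtype.ext
          show τ (a.1 * b.1) = τ a.1 * τ b.1
          exact map_mul τ _ _ }
    refine ⟨ρ.comp e₀.toMonoidHom, ?_⟩
    intro z
    obtain ⟨d, hd⟩ := hle (hcomm z.2)
    have hdk : d ∈ θ.ker := by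
      rw [MonoidHom.mem_ker, ← hτ', hd]
      exact MonoidHom.mem_ker.mp z.2
    refine ⟨e₀.symm ⟨d, hdk⟩, ?_⟩
    apply Subtype.ext
    show τ ((e₀ (e₀.symm ⟨d, hdk⟩) : θ.ker) : Γ₀) = z.1
    rw [MulEquiv.apply_symm_apply]
    exact hd

/-- A group mapping onto a finite group with finite kernel is finite. -/
theorem finite_of_ker_finite {Γ₀ G : Type*} [Group Γ₀] [Group G] [Finite G] (θ : Γ₀ →* G) [Finite θ.ker] :
    Finite Γ₀ := by
  have h1 : Finite (Γ₀ ⧸ θ.ker) := Finite.of_injective _ (QuotientGroup.kerLift_injective θ)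
  exact Finite.of_equiv _ (Subgroup.groupEquivQuotientProdSubgroup (s := θ.ker)).symm

section
variable {M : Type*} [CommGroup M] [IsCyclic M] {l : ℕ}

/-- If a diagonal form of `A` has at most one entry different from `1`, the kernel of `pw A` on the tuples of
elements of a cyclic group is cyclic. -/
theorem isCyclic_ker_pw (P A Q P' Q' : Matrix (Fin l) (Fin l) ℤ) (d : Fin l → ℕ)
    (h : P * A * Q = Matrix.diagonal fun k => (d k : ℤ)) (hP : P * P' = 1) (hP' : P' * P = 1) (hQ : Q * Q' = 1)
    (k₀ : Fin l) (hd : ∀ k, k ≠ k₀ → d k = 1) :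
    IsCyclic (pw A : (Fin l → M) →* (Fin l → M)).ker := by
  have hQinj : Function.Injective (pw Q : (Fin l → M) →* (Fin l → M)) := by
    intro c c' hc
    have := congrArg (pw Q' : (Fin l → M) →* (Fin l → M)) hc
    rwa [← pw_mul, ← pw_mul, hQ, pw_one, pw_one] at this
  let g : (pw A : (Fin l → M) →* (Fin l → M)).ker →* M :=
    { toFun := fun c => pw P' c.1 k₀
      map_one' := by
        show pw P' (1 : Fin l → M) k₀ = 1
        rw [map_one]; rfl
      map_mul' := by
        intro a b
        show pw P' (a.1 * b.1) k₀ = pw P' a.1 k₀ * pw P' b.1 k₀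
        rw [map_mul]; rfl }
  apply isCyclic_of_injective g
  rw [injective_iff_map_eq_one]
  intro c hc
  have hc' : pw P' c.1 k₀ = 1 := hc
  set c' := pw P' c.1 with hc'def
  have e1 : pw P c' = c.1 := by rw [hc'def, ← pw_mul, hP', pw_one]
  have e2 : pw (Matrix.diagonal fun k => (d k : ℤ)) c' = 1 := by
    rw [← h, pw_mul, pw_mul, e1]
    have := c.2
    rw [MonoidHom.mem_ker] at this
    rw [this, map_one]
  have e3 : c' = 1 := by
    funext k
    by_cases hk : k = k₀
    · rw [hk, hc']; rfl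
    · have := congrFun e2 k
      rw [pw_diagonal, hd k hk, pow_one] at this
      exact this
  apply Subtype.ext
  show c.1 = 1
  rw [← e1, e3, map_one]

end

end Cfsg.Agent.Lib.Helper3.StS
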