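import Mathlib
import Cfsg.Prelude.Def_KGroupFacts
import Cfsg.Agent.Lib.Helper3.StU1
set_option autoImplicit false
set_option linter.unusedSectionVars false
open Cfsg

/-! A finite group covered by a group with the lifting property for central extensions has trivial Schur
multiplier. -/

namespace Cfsg.Agent.Lib.Helper3.StU

open scoped commutatorElement

universe u v

/-- The kernel of a stem extension through which an isomorphism lifts is trivial. -/
theorem stem_ker_eq_bot {G : Type u} [Group G] {Δ : Type v} [Group Δ] (ι : Δ ≃* G)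
    {Γ : Type u} [Group Γ] (σ : Γ →* G) (hσ : Cfsg.IsStemExtension σ)
    (τ : Δ →* Γ) (hτ : σ.comp τ = ι.toMonoidHom) : σ.ker = ⊥ := by
  obtain ⟨hsurj, hcen, hcomm⟩ := hσ
  have hτ' : ∀ d, σ (τ d) = ι d := fun d => DFunLike.congr_fun hτ d
  have hdec : ∀ γ : Γ, ∃ k ∈ σ.ker, ∃ d : Δ, γ = k * τ d := by
    intro γ
    refine ⟨γ * (τ (ι.symm (σ γ)))⁻¹, ?_, ι.symm (σ γ), by group⟩
    rw [MonoidHom.mem_ker, map_mul, map_inv, hτ', MulEquiv.apply_symm_apply, mul_inv_cancel]
  have hle : commutator Γ ≤ τ.range := by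
    rw [commutator_eq_closure, Subgroup.closure_le]
    rintro _ ⟨a, b, rfl⟩
    obtain ⟨k, hk, d, rfl⟩ := hdec a
    obtain ⟨k', hk', d', rfl⟩ := hdec b
    have e : ⁅k * τ d, k' * τ d'⁆ = ⁅τ d, τ d'⁆ := by
      apply comm_congr σ hcen
      · rw [map_mul, MonoidHom.mem_ker.mp hk, one_mul]
      · rw [map_mul, MonoidHom.mem_ker.mp hk', one_mul]
    rw [e, ← map_commutatorElement]
    exact ⟨_, rfl⟩
  rw [eq_bot_iff]
  intro z hz
  obtain ⟨d, rfl⟩ := hle (hcomm hz)
  rw [MonoidHom.mem_ker, hτ'] at hz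
  have : d = 1 := by
    have := congrArg ι.symm hz
    rwa [MulEquiv.symm_apply_apply, map_one] at this
  rw [this, map_one]
  exact Subgroup.one_mem _

/-- A finite group all of whose stem extensions have trivial kernel has trivial Schur multiplier. -/
theorem hasCyclicSchurMultiplier_one {G : Type u} [Group G] [Finite G]
    (h : ∀ (Γ : Type u) [Group Γ] [Finite Γ] (σ : Γ →* G), Cfsg.IsStemExtension σ → σ.ker = ⊥) :
    Cfsg.HasCyclicSchurMultiplier G 1 := by
  have : Subsingleton (Multiplicative (ZMod 1)) := by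
    change Subsingleton (Fin 1)
    infer_instance
  refine ⟨⟨G, inferInstance, inferInstance, MonoidHom.id G, ⟨fun g => ⟨g, rfl⟩, ?_, ?_⟩, ⟨?_⟩⟩, ?_⟩
  · intro z hz
    rw [MonoidHom.mem_ker, MonoidHom.id_apply] at hz
    rw [hz]; exact Subgroup.one_mem _
  · intro z hz
    rw [MonoidHom.mem_ker, MonoidHom.id_apply] at hz
    rw [hz]; exact Subgroup.one_mem _
  · haveI : Subsingleton (MonoidHom.id G).ker := by
      constructor
      intro a b
      apply Subtype.ext
      have ha := a.2
      have hb := b.2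
      rw [MonoidHom.mem_ker, MonoidHom.id_apply] at ha hb
      rw [ha, hb]
    exact
      { toFun := fun _ => 1
        invFun := fun _ => 1
        left_inv := fun a => Subsingleton.elim _ _
        right_inv := fun a => Subsingleton.elim _ _
        map_mul' := fun a b => Subsingleton.elim _ _ }
  · intro Γ _ _ σ hσ
    refine ⟨1, ?_⟩
    intro z
    have hle : σ.ker ≤ ⊥ := le_of_eq (h Γ σ hσ)
    have hz : (z : Γ) ∈ (⊥ : Subgroup Γ) := hle z.2
    rw [Subgroup.mem_bot] at hz
    exact ⟨1, Subtype.ext (by rw [hz]; rfl)⟩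

end Cfsg.Agent.Lib.Helper3.StU
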