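import Mathlib
import Cfsg.Prelude.Def_ChevStructure
import Cfsg.Agent.Lib.Helper3.StU10
set_option autoImplicit false
set_option linter.unusedSectionVars false
open Cfsg Cfsg.Lie

/-! Perfect central extensions of a group with Steinberg symbols over an arbitrary field: commutator pairings of lifts
of commuting root elements, and the canonical lifts of the root elements defined by torus elements. This repeats the
development made for fields with more than four elements, without the hypothesis on the field. -/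

namespace Cfsg.Agent.Lib.Helper3.StV

open ChevM ChevU ChevT ChevH StB StU
open scoped commutatorElement

/-- A perfect central extension of a group with Steinberg symbols generated by them. -/
structure XExt {C : CDatum} {R : RelData C} {F : Type*} [Field F] {Δ : Type*} [Group Δ] (S : StData C R F Δ)
    (E : Type*) [Group E] where
  ψ : E →* Δ
  surj : Function.Surjective ψ
  central : ψ.ker ≤ Subgroup.center E
  perfect : commutator E = ⊤
  Y : StHyp C R
  gen : Subgroup.closure {g : Δ | ∃ (r : ℕ) (t : F), r < C.D.nroots ∧ g = S.X r t} = ⊤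

section
variable {C : CDatum} {R : RelData C} {F : Type*} [Field F] {Δ : Type*} [Group Δ] {S : StData C R F Δ}
  {E : Type*} [Group E] (T : XExt S E)

/-- A chosen preimage. -/
noncomputable def XExt.lift (d : Δ) : E := Function.surjInv T.surj d

theorem XExt.psi_lift (d : Δ) : T.ψ (T.lift d) = d := Function.surjInv_eq T.surj d

theorem XExt.pker_le_center : (S.φ.comp T.ψ).ker ≤ Subgroup.center E :=
  ker_comp_le_center T.ψ S.φ T.perfect T.central (S.ker_le_center T.Y T.gen)

/-- Commutators depend only on the images in the Chevalley group. -/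
theorem XExt.comm_congr_phi {a a' b b' : E} (ha : S.φ (T.ψ a) = S.φ (T.ψ a')) (hb : S.φ (T.ψ b) = S.φ (T.ψ b')) :
    ⁅a, b⁆ = ⁅a', b'⁆ :=
  comm_congr (S.φ.comp T.ψ) T.pker_le_center ha hb

theorem XExt.comm_congr_psi {a a' b b' : E} (ha : T.ψ a = T.ψ a') (hb : T.ψ b = T.ψ b') : ⁅a, b⁆ = ⁅a', b'⁆ :=
  comm_congr T.ψ T.central ha hb

/-- `g` lies over an element of `H̄` which acts on the root `r` by the scalar `v`. -/
def XExt.IsTorAt (g : E) (r : ℕ) (v : F) : Prop :=
  T.ψ g ∈ S.Hbar ∧ ∀ u, T.ψ g * S.X r u * (T.ψ g)⁻¹ = S.X r (v * u)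

/-- `g` lies over an element of `H̄` acting on the roots by the scalars `χ`. -/
def XExt.IsTor (g : E) (χ : ℕ → F) : Prop :=
  T.ψ g ∈ S.Hbar ∧ ∀ s < C.D.nroots, ∀ u, T.ψ g * S.X s u * (T.ψ g)⁻¹ = S.X s (χ s * u)

theorem XExt.IsTor.at {g : E} {χ : ℕ → F} (h : T.IsTor g χ) (r : ℕ) (hr : r < C.D.nroots) : T.IsTorAt g r (χ r) :=
  ⟨h.1, h.2 r hr⟩

theorem XExt.isTor_lift_tor (e : ℕ → ℤ) (v : F) (hv : v ≠ 0) :
    T.IsTor (T.lift (S.tor e v)) (fun s => v ^ chiZ C.D e s) := by
  refine ⟨?_, ?_⟩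
  · rw [T.psi_lift]; exact S.tor_mem_Hbar e v hv
  · intro s hs u
    rw [T.psi_lift]
    exact S.tor_conj T.Y e v hv s hs u

end


section
variable {C : CDatum} {R : RelData C} {F : Type*} [Field F] {Δ : Type*} [Group Δ] {S : StData C R F Δ}
  {E : Type*} [Group E] (T : XExt S E)

/-- The commutator of the chosen lifts of `X_r(t)` and `X_s(u)`. -/
noncomputable def XExt.cm (r s : ℕ) (t u : F) : E := ⁅T.lift (S.X r t), T.lift (S.X s u)⁆

theorem XExt.cm_eq (r s : ℕ) (t u : F) {a b : E} (ha : T.ψ a = S.X r t) (hb : T.ψ b = S.X s u) :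
    ⁅a, b⁆ = T.cm r s t u :=
  T.comm_congr_psi (by rw [ha, T.psi_lift]) (by rw [hb, T.psi_lift])

theorem XExt.comm_mem_center {a b : E} (h : Commute (T.ψ a) (T.ψ b)) : ⁅a, b⁆ ∈ Subgroup.center E :=
  T.central (comm_mem_ker T.ψ h)

variable {r s : ℕ} (hrs : ∀ t u : F, Commute (S.X r t) (S.X s u))
include hrs

theorem XExt.cm_mem_center (t u : F) : T.cm r s t u ∈ Subgroup.center E := by
  apply T.comm_mem_center
  rw [T.psi_lift, T.psi_lift]
  exact hrs t u

theorem XExt.cm_add_left (t t' u : F) : T.cm r s (t + t') u = T.cm r s t u * T.cm r s t' u := by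
  have h1 : T.cm r s (t + t') u = ⁅T.lift (S.X r t) * T.lift (S.X r t'), T.lift (S.X s u)⁆ := by
    apply T.comm_congr_psi _ rfl
    rw [map_mul, T.psi_lift, T.psi_lift, T.psi_lift, S.add]
  rw [h1, comm_mul_left_of_central (T.cm_mem_center hrs t' u)]
  rfl

theorem XExt.cm_add_right (t u u' : F) : T.cm r s t (u + u') = T.cm r s t u * T.cm r s t u' := by
  have h1 : T.cm r s t (u + u') = ⁅T.lift (S.X r t), T.lift (S.X s u) * T.lift (S.X s u')⁆ := by
    apply T.comm_congr_psi rfl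
    rw [map_mul, T.psi_lift, T.psi_lift, T.psi_lift, S.add]
  rw [h1, comm_mul_right_of_central (T.cm_mem_center hrs t u')]
  rfl

theorem XExt.cm_tor {g : E} {v v' : F} (h1 : T.IsTorAt g r v) (h2 : T.IsTorAt g s v') (t u : F) :
    T.cm r s (v * t) (v' * u) = T.cm r s t u := by
  have hc := Subgroup.mem_center_iff.mp (T.cm_mem_center hrs t u) g
  have e1 : g * T.cm r s t u * g⁻¹ = T.cm r s t u := by rw [hc, mul_inv_cancel_right]
  rw [← e1]
  unfold XExt.cm
  rw [conj_comm]
  apply T.comm_congr_psi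
  · rw [T.psi_lift, map_mul, map_mul, map_inv, T.psi_lift, h1.2]
  · rw [T.psi_lift, map_mul, map_mul, map_inv, T.psi_lift, h2.2]

end

section
variable {C : CDatum} {R : RelData C} {F : Type*} [Field F] {Δ : Type*} [Group Δ] {S : StData C R F Δ}
  {E : Type*} [Group E] (T : XExt S E)

theorem commute_self (S : StData C R F Δ) (r : ℕ) (t u : F) : Commute (S.X r t) (S.X r u) := by
  show S.X r t * S.X r u = S.X r u * S.X r t
  rw [S.X_mul, S.X_mul, add_comm]

theorem XExt.commute_of_cm_self {r : ℕ} (h : ∀ t u : F, T.cm r r t u = 1) {a b : E} {t u : F}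
    (ha : T.ψ a = S.X r t) (hb : T.ψ b = S.X r u) : a * b = b * a := by
  have := T.cm_eq r r t u ha hb
  rw [h] at this
  exact commutatorElement_eq_one_iff_mul_comm.mp this

/-- The lift of `X_r(t)` defined by the torus element `g`. -/
noncomputable def XExt.Lh (g : E) (v : F) (r : ℕ) (t : F) : E := ⁅g, T.lift (S.X r (t / (v - 1)))⁆

variable {g : E} {v : F} {r : ℕ} (hg : T.IsTorAt g r v) (hv : v ≠ 1)
include hg hv

theorem XExt.psi_Lh (t : F) : T.ψ (T.Lh g v r t) = S.X r t := by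
  unfold XExt.Lh
  rw [map_commutatorElement, commutatorElement_def, T.psi_lift, hg.2, ← S.X_neg, S.X_mul]
  congr 1
  have : v - 1 ≠ 0 := sub_ne_zero.mpr hv
  field_simp
  ring

variable (hself : ∀ t u : F, T.cm r r t u = 1)
include hself

theorem XExt.Lh_add (t u : F) : T.Lh g v r (t + u) = T.Lh g v r t * T.Lh g v r u := by
  have h1 : T.Lh g v r (t + u) = ⁅g, T.lift (S.X r (t / (v - 1))) * T.lift (S.X r (u / (v - 1)))⁆ := by
    apply T.comm_congr_psi rfl
    rw [map_mul, T.psi_lift, T.psi_lift, T.psi_lift, S.X_mul, add_div]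
  rw [h1, comm_mul_right_eq]
  have h2 : T.lift (S.X r (t / (v - 1))) * T.Lh g v r u = T.Lh g v r u * T.lift (S.X r (t / (v - 1))) :=
    T.commute_of_cm_self hself (T.psi_lift _) (T.psi_Lh hg hv u)
  show T.Lh g v r t * (T.lift (S.X r (t / (v - 1))) * T.Lh g v r u * (T.lift (S.X r (t / (v - 1))))⁻¹) = _
  rw [h2, mul_inv_cancel_right]

theorem XExt.Lh_zero : T.Lh g v r 0 = 1 := by
  have := T.Lh_add hg hv hself 0 0
  rw [add_zero] at this
  exact (mul_eq_left.mp this.symm)

theorem XExt.Lh_neg (t : F) : T.Lh g v r (-t) = (T.Lh g v r t)⁻¹ := by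
  have := T.Lh_add hg hv hself (-t) t
  rw [neg_add_cancel, T.Lh_zero hg hv hself] at this
  exact eq_inv_of_mul_eq_one_left this.symm

theorem XExt.Lh_tor {g' : E} {v' : F} (hg' : T.IsTorAt g' r v') (t : F) :
    g' * T.Lh g v r t * g'⁻¹ = T.Lh g v r (v' * t) := by
  unfold XExt.Lh
  rw [conj_comm]
  apply T.comm_congr_phi
  · rw [map_mul, map_mul, map_inv, map_mul, map_mul, map_inv, S.phi_Hbar_commute T.Y _ _ hg'.1 hg.1,
      mul_inv_cancel_right]
  · congr 1
    rw [map_mul, map_mul, map_inv, T.psi_lift, T.psi_lift, hg'.2, mul_div_assoc]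

theorem XExt.comm_tor_eq {g' : E} {v' : F} (hg' : T.IsTorAt g' r v') {b : E} {t : F} (hb : T.ψ b = S.X r t) :
    ⁅g', b⁆ = T.Lh g v r ((v' - 1) * t) := by
  have h1 : ⁅g', b⁆ = ⁅g', T.Lh g v r t⁆ := T.comm_congr_psi rfl (by rw [hb, T.psi_Lh hg hv])
  rw [h1, commutatorElement_def, T.Lh_tor hg hv hself hg', ← T.Lh_neg hg hv hself, ← T.Lh_add hg hv hself]
  congr 1
  ring

end


section
variable {C : CDatum} {R : RelData C} {F : Type*} [Field F] {Δ : Type*} [Group Δ] {S : StData C R F Δ}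
  {E : Type*} [Group E] (T : XExt S E)

/-- The lifts of each root subgroup commute, and each root has a torus element acting non-trivially on it. -/
structure XExt.Good : Prop where
  self : ∀ r < C.D.nroots, ∀ t u : F, T.cm r r t u = 1
  tor : ∀ r < C.D.nroots, ∃ (g : E) (v : F), T.IsTorAt g r v ∧ v ≠ 1

variable (hG : T.Good)

/-- The canonical lift of `X_r(t)`. -/
noncomputable def XExt.L (r : ℕ) (t : F) : E :=
  if hr : r < C.D.nroots then
    T.Lh (Classical.choose (hG.tor r hr)) (Classical.choose (Classical.choose_spec (hG.tor r hr))) r t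
  else 1

theorem XExt.L_eq {r : ℕ} (hr : r < C.D.nroots) :
    ∃ (g : E) (v : F), T.IsTorAt g r v ∧ v ≠ 1 ∧ ∀ t, T.L hG r t = T.Lh g v r t := by
  refine ⟨Classical.choose (hG.tor r hr), Classical.choose (Classical.choose_spec (hG.tor r hr)),
    (Classical.choose_spec (Classical.choose_spec (hG.tor r hr))).1,
    (Classical.choose_spec (Classical.choose_spec (hG.tor r hr))).2, fun t => ?_⟩
  unfold XExt.L
  rw [dif_pos hr]

theorem XExt.psi_L {r : ℕ} (hr : r < C.D.nroots) (t : F) : T.ψ (T.L hG r t) = S.X r t := by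
  obtain ⟨g, v, hg, hv, e⟩ := T.L_eq hG hr
  rw [e, T.psi_Lh hg hv]

theorem XExt.L_add {r : ℕ} (hr : r < C.D.nroots) (t u : F) : T.L hG r (t + u) = T.L hG r t * T.L hG r u := by
  obtain ⟨g, v, hg, hv, e⟩ := T.L_eq hG hr
  rw [e, e, e, T.Lh_add hg hv (hG.self r hr)]

theorem XExt.L_zero {r : ℕ} (hr : r < C.D.nroots) : T.L hG r 0 = 1 := by
  obtain ⟨g, v, hg, hv, e⟩ := T.L_eq hG hr
  rw [e, T.Lh_zero hg hv (hG.self r hr)]

theorem XExt.L_neg {r : ℕ} (hr : r < C.D.nroots) (t : F) : T.L hG r (-t) = (T.L hG r t)⁻¹ := by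
  obtain ⟨g, v, hg, hv, e⟩ := T.L_eq hG hr
  rw [e, e, T.Lh_neg hg hv (hG.self r hr)]

theorem XExt.L_mul {r : ℕ} (hr : r < C.D.nroots) (t u : F) : T.L hG r t * T.L hG r u = T.L hG r (t + u) :=
  (T.L_add hG hr t u).symm

theorem XExt.L_tor {r : ℕ} (hr : r < C.D.nroots) {g' : E} {v' : F} (hg' : T.IsTorAt g' r v') (t : F) :
    g' * T.L hG r t * g'⁻¹ = T.L hG r (v' * t) := by
  obtain ⟨g, v, hg, hv, e⟩ := T.L_eq hG hr
  rw [e, e, T.Lh_tor hg hv (hG.self r hr) hg']

theorem XExt.comm_tor_L {r : ℕ} (hr : r < C.D.nroots) {g' : E} {v' : F} (hg' : T.IsTorAt g' r v') {b : E} {t : F}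
    (hb : T.ψ b = S.X r t) : ⁅g', b⁆ = T.L hG r ((v' - 1) * t) := by
  obtain ⟨g, v, hg, hv, e⟩ := T.L_eq hG hr
  rw [e, T.comm_tor_eq hg hv (hG.self r hr) hg' hb]

/-- Equivariance under the monomial group. -/
theorem XExt.L_N (l : List ℕ) (hl : ∀ i ∈ l, i < C.D.rank) {n : E} (hn : T.ψ n = S.wordN l) {r : ℕ}
    (hr : r < C.D.nroots) (t : F) :
    n * T.L hG r t * n⁻¹ = T.L hG (reflW R.refl l r) ((etaW R.refl R.eta l r : F) * t) := by
  obtain ⟨g, v, hg, hv, e⟩ := T.L_eq hG hr
  have hr' := R.reflW_lt l hl r hr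
  have hsign := (R.conjRel_word (F := F) l hl).sign r hr
  have hη : ((etaW R.refl R.eta l r : ℤ) : F) * ((etaW R.refl R.eta l r : ℤ) : F) = 1 := eta_sq hsign
  set η : F := ((etaW R.refl R.eta l r : ℤ) : F) with hηdef
  have hv' : v - 1 ≠ 0 := sub_ne_zero.mpr hv
  have htor : T.IsTorAt (n * g * n⁻¹) (reflW R.refl l r) v := by
    refine ⟨?_, ?_⟩
    · rw [map_mul, map_mul, map_inv, hn]
      exact S.wordN_conj_Hbar T.Y l hl _ hg.1
    · intro u
      have h1 := S.wordN_conj T.Y l hl r hr (η * u)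
      rw [← hηdef, ← mul_assoc, hη, one_mul] at h1
      have h2 := S.wordN_conj T.Y l hl r hr (v * (η * u))
      rw [← hηdef] at h2
      have h3 : η * (v * (η * u)) = v * u := by
        calc η * (v * (η * u)) = (η * η) * (v * u) := by ring
          _ = v * u := by rw [hη, one_mul]
      rw [h3] at h2
      rw [map_mul, map_mul, map_inv, hn, ← h1, ← h2, ← hg.2]
      group
  have hb : T.ψ (n * T.lift (S.X r (t / (v - 1))) * n⁻¹) = S.X (reflW R.refl l r) (η * (t / (v - 1))) := by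
    rw [map_mul, map_mul, map_inv, hn, T.psi_lift, S.wordN_conj T.Y l hl r hr]
  rw [e]
  unfold XExt.Lh
  rw [conj_comm, T.comm_tor_L hG hr' htor hb]
  congr 1
  field_simp

end


end Cfsg.Agent.Lib.Helper3.StV
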