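import Mathlib
import Cfsg.Prelude.Def_ChevStructure
import Cfsg.Agent.Lib.Helper3.StV1
set_option autoImplicit false
set_option linter.unusedSectionVars false
open Cfsg Cfsg.Lie

/-! Systems of canonical lifts of the root elements in a perfect central extension, and the commutator relation for a
pair of roots separated by a torus element. -/

namespace Cfsg.Agent.Lib.Helper3.StV

open ChevM ChevU ChevT ChevH StB StU
open scoped commutatorElement

section
variable {C : CDatum} {R : RelData C} {F : Type*} [Field F] {Δ : Type*} [Group Δ] {S : StData C R F Δ}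
  {E : Type*} [Group E] (T : XExt S E)

/-- A system of lifts of the root elements, additive and equivariant under the torus and the monomial group. -/
structure XExt.LSys where
  L : ℕ → F → E
  L_out : ∀ r, ¬ r < C.D.nroots → ∀ t, L r t = 1
  psi_L : ∀ r < C.D.nroots, ∀ t, T.ψ (L r t) = S.X r t
  L_add : ∀ r < C.D.nroots, ∀ t u, L r (t + u) = L r t * L r u
  L_tor : ∀ r < C.D.nroots, ∀ (g : E) (v : F), T.IsTorAt g r v → ∀ t, g * L r t * g⁻¹ = L r (v * t)
  L_N : ∀ (l : List ℕ), (∀ i ∈ l, i < C.D.rank) → ∀ n : E, T.ψ n = S.wordN l → ∀ r < C.D.nroots, ∀ t,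
    n * L r t * n⁻¹ = L (reflW R.refl l r) ((etaW R.refl R.eta l r : F) * t)

/-- The canonical lifts defined by torus elements. -/
noncomputable def XExt.lsysOfGood (hG : T.Good) : T.LSys where
  L := T.L hG
  L_out := by
    intro r hr t
    unfold XExt.L
    rw [dif_neg hr]
  psi_L := fun r hr t => T.psi_L hG hr t
  L_add := fun r hr t u => T.L_add hG hr t u
  L_tor := fun r hr g v hg t => T.L_tor hG hr hg t
  L_N := fun l hl n hn r hr t => T.L_N hG l hl hn hr t

variable (Λ : T.LSys)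

theorem XExt.LSys.L_zero {r : ℕ} (hr : r < C.D.nroots) : Λ.L r 0 = 1 := by
  have := Λ.L_add r hr 0 0
  rw [add_zero] at this
  exact (mul_eq_left.mp this.symm)

theorem XExt.LSys.L_neg {r : ℕ} (hr : r < C.D.nroots) (t : F) : Λ.L r (-t) = (Λ.L r t)⁻¹ := by
  have := Λ.L_add r hr (-t) t
  rw [neg_add_cancel, Λ.L_zero T hr] at this
  exact eq_inv_of_mul_eq_one_left this.symm

theorem XExt.LSys.L_mul {r : ℕ} (hr : r < C.D.nroots) (t u : F) : Λ.L r t * Λ.L r u = Λ.L r (t + u) :=
  (Λ.L_add r hr t u).symm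

end

section
variable {C : CDatum} {R : RelData C} {F : Type*} [Field F] {Δ : Type*} [Group Δ] {S : StData C R F Δ}
  {E : Type*} [Group E] (T : XExt S E) (Λ : T.LSys)

/-- The commutator relation for the lifts of the roots `r`, `s`. -/
def XExt.Brel (r s : ℕ) : Prop :=
  ∀ t u : F, (Λ.L s u)⁻¹ * (Λ.L r t)⁻¹ * Λ.L s u * Λ.L r t = wordS (Λ.L) (C.D.commWord F r s t u)

theorem XExt.psi_wordS (w : List (ℕ × F)) (hw : ∀ p ∈ w, p.1 < C.D.nroots) :
    T.ψ (wordS (Λ.L) w) = wordS S.X w := by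
  rw [map_wordS]
  apply wordS_congr
  intro p hp
  exact Λ.psi_L _ (hw p hp) p.2

theorem XExt.conj_wordS_tor {g : E} {χ : ℕ → F} (hg : T.IsTor g χ) (w : List (ℕ × F))
    (hw : ∀ p ∈ w, p.1 < C.D.nroots) :
    g * wordS (Λ.L) w * g⁻¹ = wordS (Λ.L) (w.map fun p => (p.1, χ p.1 * p.2)) := by
  rw [conj_wordS]
  unfold wordS
  rw [List.map_map]
  congr 1
  apply List.map_congr_left
  intro p hp
  exact Λ.L_tor _ (hw p hp) _ _ (hg.at T p.1 (hw p hp)) p.2

/-- The commutator relation for `(r, s)`, given a subgroup containing the right-hand sides on which the extension is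
injective, normalized by the lifts of `X_r` and by the torus. -/
theorem XExt.brel_step {r s : ℕ} (hr : r < C.D.nroots) (hs : s < C.D.nroots) (hsr : s ≠ r) (hneg : s ≠ C.D.neg r)
    (hlt : ∀ c ∈ C.D.commTerms r s, c.1 < C.D.nroots) (V : Subgroup E)
    (hinj : ∀ y ∈ V, ∀ z ∈ V, T.ψ y = T.ψ z → y = z)
    (hZ : ∀ t u : F, wordS (Λ.L) (C.D.commWord F r s t u) ∈ V)
    (hnorm : ∀ t' : F, ∀ y ∈ V, (Λ.L r t')⁻¹ * y * Λ.L r t' ∈ V)
    (htorV : ∀ (g : E) (χ : ℕ → F), T.IsTor g χ → ∀ y ∈ V, g * y * g⁻¹ ∈ V)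
    (hsep : ∃ (g : E) (χ : ℕ → F), T.IsTor g χ ∧ χ r ≠ 1 ∧ χ s = 1) : T.Brel Λ r s := by
  set W : F → F → E := fun t u => (Λ.L s u)⁻¹ * (Λ.L r t)⁻¹ * Λ.L s u * Λ.L r t with hW
  set Z : F → F → E := fun t u => wordS (Λ.L) (C.D.commWord F r s t u) with hZdef
  have hlt' : ∀ t u : F, ∀ p ∈ C.D.commWord F r s t u, p.1 < C.D.nroots := by
    intro t u p hp
    simp only [ChevalleyDatum.commWord, List.mem_map] at hp
    obtain ⟨c, hc, rfl⟩ := hp
    exact hlt c hc
  have hψ : ∀ t u, T.ψ (W t u) = T.ψ (Z t u) := by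
    intro t u
    rw [hW, hZdef]
    simp only [map_mul, map_inv, Λ.psi_L _ hr, Λ.psi_L _ hs]
    rw [T.psi_wordS Λ _ (hlt' t u)]
    exact S.comm r hr s hs hsr hneg t u
  set z : F → F → E := fun t u => W t u * (Z t u)⁻¹ with hz
  have hzc : ∀ t u, z t u ∈ Subgroup.center E := by
    intro t u
    apply T.central
    rw [MonoidHom.mem_ker, hz]
    simp only [map_mul, map_inv]
    rw [hψ, mul_inv_cancel]
  have hWz : ∀ t u, W t u = z t u * Z t u := by
    intro t u
    rw [hz]; simp only []; group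
  -- additivity in the first variable
  have hadd : ∀ u t t', z (t + t') u = z t u * z t' u := by
    intro u t t'
    have e1 : W (t + t') u = W t' u * ((Λ.L r t')⁻¹ * W t u * Λ.L r t') := by
      simp only [hW]
      rw [Λ.L_add _ hr]
      group
    set B := Z t' u * ((Λ.L r t')⁻¹ * Z t u * Λ.L r t') with hB
    have hBV : B ∈ V := Subgroup.mul_mem _ (hZ t' u) (hnorm t' _ (hZ t u))
    have hBψ : T.ψ B = T.ψ (Z (t + t') u) := by
      rw [← hψ, e1, hB]
      simp only [map_mul, map_inv]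
      rw [hψ, hψ]
    have hBZ : B = Z (t + t') u := hinj _ hBV _ (hZ _ _) hBψ
    have c1 := Subgroup.mem_center_iff.mp (hzc t u)
    have c2 := Subgroup.mem_center_iff.mp (hzc t' u)
    have e2 : W (t + t') u = z t' u * z t u * B := by
      rw [e1, hWz t' u, hWz t u, hB]
      calc z t' u * Z t' u * ((Λ.L r t')⁻¹ * (z t u * Z t u) * Λ.L r t')
          = z t' u * Z t' u * (((Λ.L r t')⁻¹ * z t u) * Z t u * Λ.L r t') := by group
        _ = z t' u * Z t' u * ((z t u * (Λ.L r t')⁻¹) * Z t u * Λ.L r t') := by rw [c1]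
        _ = z t' u * (Z t' u * z t u) * ((Λ.L r t')⁻¹ * Z t u * Λ.L r t') := by group
        _ = z t' u * (z t u * Z t' u) * ((Λ.L r t')⁻¹ * Z t u * Λ.L r t') := by rw [c1]
        _ = _ := by group
    have e3 : z (t + t') u = z t' u * z t u := by
      show W (t + t') u * (Z (t + t') u)⁻¹ = _
      rw [e2, hBZ, mul_inv_cancel_right]
    rw [e3, c1]
  -- invariance under the torus
  have hinv : ∀ (g : E) (χ : ℕ → F), T.IsTor g χ → ∀ t u, z (χ r * t) (χ s * u) = z t u := by
    intro g χ hg t u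
    have e1 : g * W t u * g⁻¹ = W (χ r * t) (χ s * u) := by
      simp only [hW]
      rw [← Λ.L_tor _ hr _ _ (hg.at T r hr), ← Λ.L_tor _ hs _ _ (hg.at T s hs)]
      group
    have hV : g * Z t u * g⁻¹ ∈ V := htorV g χ hg _ (hZ t u)
    have e2 : g * Z t u * g⁻¹ = Z (χ r * t) (χ s * u) := by
      apply hinj _ hV _ (hZ _ _)
      rw [← hψ, ← e1]
      simp only [map_mul, map_inv]
      rw [hψ]
    have c1 := Subgroup.mem_center_iff.mp (hzc t u) g
    have e3 : g * z t u * g⁻¹ = z t u := by rw [c1, mul_inv_cancel_right]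
    rw [← e3]
    show W (χ r * t) (χ s * u) * (Z (χ r * t) (χ s * u))⁻¹ = g * (W t u * (Z t u)⁻¹) * g⁻¹
    rw [← e1, ← e2]
    group
  obtain ⟨g, χ, hg, h1, h2⟩ := hsep
  intro t u
  have key : z t u = 1 := by
    refine kill_additive (fun t => z t u) (fun t t' => hadd u t t') (χ r) h1 ?_ t
    intro t
    have := hinv g χ hg t u
    rwa [h2, one_mul] at this
  have := hWz t u
  rw [key, one_mul] at this
  exact this

end


end Cfsg.Agent.Lib.Helper3.StV
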