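import Mathlib
import Cfsg.Prelude.Def_ChevStructure
import Cfsg.Agent.Lib.Helper3.StV3
set_option autoImplicit false
set_option linter.unusedSectionVars false
open Cfsg Cfsg.Lie

/-! The commutator relations for all pairs of roots in a perfect central extension: transport by the monomial
group from the pairs of positive roots. -/

namespace Cfsg.Agent.Lib.Helper3.StV

open ChevM ChevU ChevT ChevH StB StU
open scoped commutatorElement

section
variable {C : CDatum} {R : RelData C} {F : Type*} [Field F] {Δ : Type*} [Group Δ] {S : StData C R F Δ}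
  {E : Type*} [Group E] (T : XExt S E) (Λ : T.LSys)

theorem XExt.conj_wordS_N (l : List ℕ) (hl : ∀ i ∈ l, i < C.D.rank) {n : E} (hn : T.ψ n = S.wordN l)
    (w : List (ℕ × F)) (hw : ∀ p ∈ w, p.1 < C.D.nroots) :
    n * wordS (Λ.L) w * n⁻¹ =
      wordS (Λ.L) (w.map fun p => (reflW R.refl l p.1, (etaW R.refl R.eta l p.1 : F) * p.2)) := by
  rw [conj_wordS]
  unfold wordS
  rw [List.map_map]
  congr 1
  apply List.map_congr_left
  intro p hp
  exact Λ.L_N l hl n hn p.1 (hw p hp) p.2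

variable (hposB : ∀ r s, C.D.IsPosRoot r → C.D.IsPosRoot s → s ≠ r → T.Brel Λ r s)
include hposB

theorem XExt.rootSys_pos : RootSys (Λ.L) (fun γ => C.D.IsPosRoot γ ∧ 0 ≤ T.Y.U.hpos γ) T.Y.U.hpos := by
  refine ⟨fun γ a b => ?_, ?_, fun γ δ hγ hδ h => UHyp.hpos_inj T.Y.U hγ.1 hδ.1 h⟩
  · by_cases hγ : γ < C.D.nroots
    · exact Λ.L_add _ hγ a b
    · rw [Λ.L_out γ hγ, Λ.L_out γ hγ, Λ.L_out γ hγ, mul_one]
  · intro γ δ hγ hδ t u
    by_cases hδγ : δ = γ
    · subst hδγ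
      rw [Λ.L_mul T hδ.1.1, Λ.L_mul T hδ.1.1, add_comm u t, inv_mul_cancel]
      exact Subgroup.one_mem _
    · have hb := hposB γ δ hγ.1 hδ.1 hδγ t u
      have e : (Λ.L γ t * Λ.L δ u)⁻¹ * (Λ.L δ u * Λ.L γ t) =
          wordS (Λ.L) (C.D.commWord F γ δ t u) := by
        rw [← hb]; group
      rw [e]
      apply wordS_mem
      intro p hp
      simp only [ChevalleyDatum.commWord, List.mem_map] at hp
      obtain ⟨c, hc, rfl⟩ := hp
      dsimp only
      have := (UHyp.col_spec T.Y.U hγ.1 hδ.1 hδγ).2 c hc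
      exact gen_mem _ _ _ ⟨this.1, Nat.zero_le _⟩ (by omega) _

/-- The extension is injective on the group generated by the lifts of the positive root elements. -/
theorem XExt.inj_pos {y z : E}
    (hy : y ∈ tailGrp (Λ.L) (fun γ => C.D.IsPosRoot γ ∧ 0 ≤ T.Y.U.hpos γ) T.Y.U.hpos 0)
    (hz : z ∈ tailGrp (Λ.L) (fun γ => C.D.IsPosRoot γ ∧ 0 ≤ T.Y.U.hpos γ) T.Y.U.hpos 0)
    (h : T.ψ y = T.ψ z) : y = z := by
  refine tail_inj (Λ.L) (S.φ.comp T.ψ) T.Y.U 0 ?_ (T.rootSys_pos Λ hposB) hy hz ?_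
  · intro γ hγ _ t
    rw [MonoidHom.comp_apply, Λ.psi_L _ hγ.1, S.φX γ hγ.1]
  · rw [MonoidHom.comp_apply, MonoidHom.comp_apply, h]

/-- The commutator relation for a pair of roots mapped to a pair of positive roots by a word. -/
theorem XExt.brel_of_word {l : List ℕ} {r s : ℕ} (hr : r < C.D.nroots) (hs : s < C.D.nroots) (hsr : s ≠ r)
    (hneg : s ≠ C.D.neg r) (h : wordOK C.D R.refl l r s = true) : T.Brel Λ r s := by
  simp only [wordOK, Bool.and_eq_true, List.all_eq_true, decide_eq_true_eq] at h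
  obtain ⟨⟨⟨⟨hl, h1⟩, h2⟩, h3⟩, h4⟩ := h
  intro t u
  set n := T.lift (S.wordN l) with hndef
  have hn : T.ψ n = S.wordN l := T.psi_lift _
  set P' : ℕ → Prop := fun γ => C.D.IsPosRoot γ ∧ 0 ≤ T.Y.U.hpos γ with hP'
  have hlt' : ∀ p ∈ C.D.commWord F r s t u, p.1 < C.D.nroots := by
    intro p hp
    simp only [ChevalleyDatum.commWord, List.mem_map] at hp
    obtain ⟨c, hc, rfl⟩ := hp
    exact (h4 c hc).1
  set W := (Λ.L s u)⁻¹ * (Λ.L r t)⁻¹ * Λ.L s u * Λ.L r t with hW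
  set Z := wordS (Λ.L) (C.D.commWord F r s t u) with hZ
  have hψ : T.ψ W = T.ψ Z := by
    rw [hW, hZ]
    simp only [map_mul, map_inv, Λ.psi_L _ hr, Λ.psi_L _ hs]
    rw [T.psi_wordS Λ _ hlt']
    exact S.comm r hr s hs hsr hneg t u
  -- conjugate by `n`
  have e1 : n * W * n⁻¹ = (Λ.L (reflW R.refl l s) ((etaW R.refl R.eta l s : F) * u))⁻¹ *
      (Λ.L (reflW R.refl l r) ((etaW R.refl R.eta l r : F) * t))⁻¹ *
      Λ.L (reflW R.refl l s) ((etaW R.refl R.eta l s : F) * u) *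
      Λ.L (reflW R.refl l r) ((etaW R.refl R.eta l r : F) * t) := by
    rw [← Λ.L_N l hl n hn s hs, ← Λ.L_N l hl n hn r hr, hW]
    group
  rw [hposB _ _ h1 h2 h3] at e1
  have hcs := UHyp.col_spec T.Y.U h1 h2 h3
  have m1 : n * W * n⁻¹ ∈ tailGrp (Λ.L) P' T.Y.U.hpos 0 := by
    rw [e1]
    apply wordS_mem
    intro p hp
    simp only [ChevalleyDatum.commWord, List.mem_map] at hp
    obtain ⟨c, hc, rfl⟩ := hp
    dsimp only
    exact gen_mem _ _ _ ⟨(hcs.2 c hc).1, Nat.zero_le _⟩ (Nat.zero_le _) _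
  have m2 : n * Z * n⁻¹ ∈ tailGrp (Λ.L) P' T.Y.U.hpos 0 := by
    rw [hZ, T.conj_wordS_N Λ l hl hn _ hlt']
    apply wordS_mem
    intro p hp
    simp only [ChevalleyDatum.commWord, List.mem_map] at hp
    obtain ⟨q, ⟨c, hc, rfl⟩, rfl⟩ := hp
    dsimp only
    exact gen_mem _ _ _ ⟨(h4 c hc).2, Nat.zero_le _⟩ (Nat.zero_le _) _
  have e2 : n * W * n⁻¹ = n * Z * n⁻¹ := by
    apply T.inj_pos Λ hposB m1 m2
    simp only [map_mul, map_inv]
    rw [hψ]
  have e3 : W = Z := by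
    have := congrArg (fun x => n⁻¹ * x * n) e2
    simpa [mul_assoc] using this
  exact e3

/-- Transport of the commutator relation by a fundamental reflection. -/
theorem XExt.brel_transport (i : ℕ) (hi : i < C.D.rank) (r₁ s₁ : ℕ) (hr : r₁ < C.D.nroots) (hs : s₁ < C.D.nroots)
    (hk : ∀ c ∈ C.D.commTerms r₁ s₁, c.1 < C.D.nroots)
    (hterms : C.D.commTerms (R.refl i r₁) (R.refl i s₁) = (C.D.commTerms r₁ s₁).map fun c =>
      (R.refl i c.1, R.eta i c.1 * c.2.1 * R.eta i r₁ ^ c.2.2.1 * R.eta i s₁ ^ c.2.2.2, c.2.2.1, c.2.2.2))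
    (hc : T.Brel Λ r₁ s₁) : T.Brel Λ (R.refl i r₁) (R.refl i s₁) := by
  intro t u
  have hl : ∀ j ∈ [i], j < C.D.rank := by
    intro j hj
    rw [List.mem_singleton] at hj
    rw [hj]; exact hi
  set n := T.lift (S.wordN [i]) with hndef
  have hn : T.ψ n = S.wordN [i] := T.psi_lift _
  have er := eta_sq (F := F) (R.eta_sign i hi r₁ hr)
  have es := eta_sq (F := F) (R.eta_sign i hi s₁ hs)
  set t₁ : F := (R.eta i r₁ : F) * t with ht₁
  set u₁ : F := (R.eta i s₁ : F) * u with hu₁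
  have ht : (R.eta i r₁ : F) * t₁ = t := by rw [ht₁, ← mul_assoc, er, one_mul]
  have hu : (R.eta i s₁ : F) * u₁ = u := by rw [hu₁, ← mul_assoc, es, one_mul]
  have key := hc t₁ u₁
  have hLN : ∀ k < C.D.nroots, ∀ v : F, n * Λ.L k v * n⁻¹ = Λ.L (R.refl i k) ((R.eta i k : F) * v) := by
    intro k hk' v
    have := Λ.L_N [i] hl n hn k hk' v
    simpa [reflW, etaW] using this
  have hlt' : ∀ p ∈ C.D.commWord F r₁ s₁ t₁ u₁, p.1 < C.D.nroots := by
    intro p hp
    simp only [ChevalleyDatum.commWord, List.mem_map] at hp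
    obtain ⟨c, hc', rfl⟩ := hp
    exact hk c hc'
  have e1 : n * ((Λ.L s₁ u₁)⁻¹ * (Λ.L r₁ t₁)⁻¹ * Λ.L s₁ u₁ * Λ.L r₁ t₁) * n⁻¹ =
      (Λ.L (R.refl i s₁) u)⁻¹ * (Λ.L (R.refl i r₁) t)⁻¹ * Λ.L (R.refl i s₁) u *
        Λ.L (R.refl i r₁) t := by
    rw [← hu, ← ht, ← hLN s₁ hs, ← hLN r₁ hr]
    group
  rw [← e1, key, conj_wordS]
  unfold wordS
  rw [ChevalleyDatum.commWord, ChevalleyDatum.commWord, hterms, List.map_map, List.map_map, List.map_map]
  congr 1
  apply List.map_congr_left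
  intro c hc'
  simp only [Function.comp_def]
  rw [hLN c.1 (hk c hc')]
  congr 1
  rw [ht₁, hu₁]
  push_cast
  have p1 : ∀ (e : ℤ) (k : ℕ) (x : F), (-((e : F) * x)) ^ k = (e : F) ^ k * (-x) ^ k := by
    intro e k x
    rw [← mul_pow]; congr 1; ring
  rw [p1, mul_pow]
  ring

/-- The commutator relations for all pairs of roots. -/
theorem XExt.brel_all (bw : ℕ → ℕ → List ℕ)
    (hbase : ∀ r < C.D.nroots, ∀ s < C.D.nroots, baseOK C.D R.refl T.Y.U.K.wit bw r s = true) :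
    ∀ r < C.D.nroots, ∀ s < C.D.nroots, s ≠ r → s ≠ C.D.neg r → T.Brel Λ r s := by
  suffices h : ∀ m r s, rho C.D.nroots r s = m → r < C.D.nroots → s < C.D.nroots → s ≠ r → s ≠ C.D.neg r →
      T.Brel Λ r s from fun r hr s hs h1 h2 => h _ r s rfl hr hs h1 h2
  intro m
  induction m using Nat.strong_induction_on with
  | _ m ih =>
    intro r s hm hr hs h1 h2
    by_cases hw : Nat.blt (T.Y.U.K.wit r s) C.D.rank = true
    · have hk := T.Y.U.K.ok r hr s hs
      simp only [commOKk, h1, h2, decide_false, Bool.false_or] at hk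
      unfold commOK at hk
      rw [hw, cond_true] at hk
      simp only [commStep, Bool.and_eq_true, decide_eq_true_eq, List.all_eq_true] at hk
      obtain ⟨⟨⟨⟨⟨⟨⟨⟨e1, e2⟩, e3⟩, e4⟩, e5⟩, e6⟩, e7⟩, e8⟩, e9⟩ := hk
      have hi : T.Y.U.K.wit r s < C.D.rank := by rwa [Nat.blt_eq] at hw
      have hc := ih _ (hm ▸ e7) _ _ rfl e3 e4 e5 e6
      have := T.brel_transport Λ hposB _ hi _ _ e3 e4 e8 (by rw [e1, e2]; exact e9) hc
      rwa [e1, e2] at this
    · have hb := hbase r hr s hs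
      simp only [baseOK, h1, h2, hw, decide_false, Bool.false_or, Bool.or_eq_true, Bool.and_eq_true,
        decide_eq_true_eq] at hb
      rcases hb with hb | hb
      · exact hposB r s hb.1 hb.2 h1
      · exact T.brel_of_word Λ hposB hr hs h1 h2 hb

end


end Cfsg.Agent.Lib.Helper3.StV
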