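import Mathlib
import Cfsg.Prelude.Def_ChevStructure
import Cfsg.Prelude.Def_SteinbergCover
import Cfsg.Agent.Lib.Helper3.StV4
set_option autoImplicit false
set_option linter.unusedSectionVars false
open Cfsg Cfsg.Lie

/-! A perfect central extension of a group presented by Steinberg's relators (R1), (R2) splits, given a system of
canonical lifts for which every pair of distinct positive roots is separated by a torus element or satisfies its
commutator relation. -/

namespace Cfsg.Agent.Lib.Helper3.StV

open ChevM ChevU ChevT ChevH StB StU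
open scoped commutatorElement

section
variable {C : CDatum} {R : RelData C} {F : Type*} [Field F] {Δ : Type*} [Group Δ] {S : StData C R F Δ}
  {E : Type*} [Group E]

/-- The splitting of a perfect central extension from a system of lifts. -/
theorem split_of_lsys (H : UnivHyp C R) (T : XExt S E) (hY : T.Y = H.Y) (Λ : T.LSys)
    (hsep : ∀ r s, C.D.IsPosRoot r → C.D.IsPosRoot s → s ≠ r →
      (∃ (g : E) (χ : ℕ → F), T.IsTor g χ ∧ χ r ≠ 1 ∧ χ s = 1) ∨ T.Brel Λ r s)
    (hpres : ∀ x : ℕ → F → E, (∀ r, ¬ r < C.D.nroots → ∀ t, x r t = 1) →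
      (∀ r < C.D.nroots, ∀ a b, x r (a + b) = x r a * x r b) →
      (∀ r < C.D.nroots, ∀ s < C.D.nroots, s ≠ r → s ≠ C.D.neg r → ∀ t u : F,
        (x s u)⁻¹ * (x r t)⁻¹ * x s u * x r t = wordS x (C.D.commWord F r s t u)) →
      ∃ f : Δ →* E, ∀ r < C.D.nroots, ∀ t, f (S.X r t) = x r t) :
    ∃ s : Δ →* E, T.ψ.comp s = MonoidHom.id Δ := by
  have hposB : ∀ r s, C.D.IsPosRoot r → C.D.IsPosRoot s → s ≠ r → T.Brel Λ r s := by
    apply T.brel_pos Λ hsep
    intro r s hr hs hsr c hc
    have := H.col2 r hr.1 s hs.1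
    simp only [col2OK, hr, hs, hsr, ne_eq, not_false_eq_true, decide_true, Bool.and_self, Bool.not_true,
      Bool.false_or, List.all_eq_true, decide_eq_true_eq] at this
    rw [hY]
    exact this c hc
  have hall := T.brel_all Λ hposB H.bw (by rw [hY]; exact H.base)
  obtain ⟨f, hf⟩ := hpres Λ.L Λ.L_out (fun r hr a b => Λ.L_add r hr a b)
    (fun r hr s hs hsr hneg t u => hall r hr s hs hsr hneg t u)
  refine ⟨f, ?_⟩
  have hclo : ∀ d ∈ Subgroup.closure {g : Δ | ∃ (r : ℕ) (t : F), r < C.D.nroots ∧ g = S.X r t},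
      (T.ψ.comp f) d = d := by
    intro d hd
    induction hd using Subgroup.closure_induction with
    | mem y hy =>
      obtain ⟨r, t, hr, rfl⟩ := hy
      rw [MonoidHom.comp_apply, hf r hr]
      exact Λ.psi_L r hr t
    | one => exact map_one _
    | mul a b _ _ iha ihb => rw [map_mul, iha, ihb]
    | inv a _ iha => rw [map_inv, iha]
  ext d
  exact hclo d (by rw [T.gen]; exact Subgroup.mem_top d)

end

section
universe u v
variable {C : CDatum} {R : RelData C} {F : Type u} [Field F]

/-- Every central extension of the group presented by (R1), (R2) splits, if every perfect central extension of it has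
a system of lifts with the pairs of positive roots separated or related. -/
theorem cover_split_of_lsys (K : CommData C R) (H : UnivHyp C R)
    (hperf : commutator (C.D.SteinbergCover F) = ⊤)
    (hkey : ∀ {Δ : Type u} [Group Δ] (S : StData C R F Δ) {E' : Type v} [Group E'] (T : XExt S E'),
      T.Y = H.Y → ∃ Λ : T.LSys, ∀ r s, C.D.IsPosRoot r → C.D.IsPosRoot s → s ≠ r →
        (∃ (g : E') (χ : ℕ → F), T.IsTor g χ ∧ χ r ≠ 1 ∧ χ s = 1) ∨ T.Brel Λ r s)
    {E : Type v} [Group E] (ψ : E →* C.D.SteinbergCover F) (hsurj : Function.Surjective ψ)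
    (hc : ψ.ker ≤ Subgroup.center E) : ∃ s : C.D.SteinbergCover F →* E, ψ.comp s = MonoidHom.id _ := by
  have hAB : C.D.steinbergRelsAB F ⊆ C.D.steinbergRelsAB F := fun g hg => hg
  set φ : PresentedGroup (C.D.steinbergRelsAB F) →* GL C.D.Idx F :=
    (C.D.group F).subtype.comp (presHom R (C.D.steinbergRelsAB F) (stLift_relsAB R K)) with hφdef
  have hφ : ∀ r < C.D.nroots, ∀ t : F,
      φ (PresentedGroup.mk (C.D.steinbergRelsAB F) (C.D.stX r t)) = R.xU r t := by
    intro r _ t
    rw [hφdef, MonoidHom.comp_apply, Subgroup.coe_subtype, presHom_mk, stLift_stX]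
  set S := presData R (C.D.steinbergRelsAB F) hAB φ hφ with hS
  have hgen := presData_gen R (C.D.steinbergRelsAB F) hAB φ hφ
  refine exists_section_of_perfect_case hperf ?_ ψ hsurj hc
  intro E' _ ψ' hs' hc' hp'
  let T : XExt S E' := ⟨ψ', hs', hc', hp', H.Y, hgen⟩
  obtain ⟨Λ, hΛ⟩ := hkey S T rfl
  exact split_of_lsys H T rfl Λ hΛ (fun x h0 hadd hcomm => cover_hpres x h0 hadd hcomm)

end

end Cfsg.Agent.Lib.Helper3.StV
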