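import Mathlib
import Cfsg.Prelude.Def_ChevStructure
import Cfsg.Agent.Lib.Helper3.StV5
set_option autoImplicit false
set_option linter.unusedSectionVars false
open Cfsg Cfsg.Lie

/-! Torus elements defined by a field element of prime multiplicative order: separation of pairs of roots, and the
commutation of the lifts of commuting root elements. -/

namespace Cfsg.Agent.Lib.Helper3.StV

open ChevM ChevU ChevT ChevH StB StU
open scoped commutatorElement

/-- A field element of prime multiplicative order. -/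
structure PrimEl (F : Type*) [Field F] where
  v : F
  m : ℕ
  hm : m.Prime
  hv1 : v ≠ 1
  hvm : v ^ m = 1

section
variable {F : Type*} [Field F] (P : PrimEl F)

theorem PrimEl.ne_zero : P.v ≠ 0 := by
  intro h
  have := P.hvm
  rw [h, zero_pow P.hm.ne_zero] at this
  exact zero_ne_one this

theorem PrimEl.zpow_eq_one_iff (k : ℤ) : P.v ^ k = 1 ↔ (P.m : ℤ) ∣ k := by
  set u : Fˣ := Units.mk0 P.v P.ne_zero with hu
  have ho : orderOf u = P.m := by
    have := Fact.mk P.hm
    apply orderOf_eq_prime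
    · apply Units.ext
      rw [Units.val_pow_eq_pow_val, hu, Units.val_mk0, P.hvm, Units.val_one]
    · intro h
      apply P.hv1
      have := congrArg Units.val h
      rwa [hu, Units.val_mk0, Units.val_one] at this
  have h1 : P.v ^ k = ((u ^ k : Fˣ) : F) := by
    rw [Units.val_zpow_eq_zpow_val, hu, Units.val_mk0]
  rw [h1, ← ho, orderOf_dvd_iff_zpow_eq_one]
  constructor
  · intro h
    apply Units.ext
    rw [h, Units.val_one]
  · intro h
    rw [h, Units.val_one]

end

/-- Some torus element `h_γ(v)`, `v` of order `m`, centralizes `X_s` and acts non-trivially on `X_r`. -/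
def sepBy (m : ℕ) (D : ChevalleyDatum) (r s : ℕ) : Bool :=
  (List.range D.nroots).any fun γ =>
    decide (chiZ D (corootV D γ) s % (m : ℤ) = 0) && decide (chiZ D (corootV D γ) r % (m : ℤ) ≠ 0)

/-- Some torus element `h_{p_i}(v)`, `v` of order `m`, acts non-trivially on `X_r`. -/
def torExBy (m : ℕ) (D : ChevalleyDatum) (r : ℕ) : Bool :=
  (List.range D.rank).any fun i => decide (D.cartan i r % (m : ℤ) ≠ 0)

/-- The root elements of `r` and `s` commute over a field of characteristic `p`. -/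
def nilP (p : ℕ) (D : ChevalleyDatum) (r s : ℕ) : Bool :=
  decide (s ≠ r) && decide (s ≠ D.neg r) && (D.commTerms r s).all fun c => decide ((p : ℤ) ∣ c.2.1)

section
variable {C : CDatum} {R : RelData C} {F : Type*} [Field F] {Δ : Type*} [Group Δ] {S : StData C R F Δ}
  {E : Type*} [Group E] (T : XExt S E) (P : PrimEl F)

theorem XExt.exists_sep {r s : ℕ} (h : sepBy P.m C.D r s = true) :
    ∃ (g : E) (χ : ℕ → F), T.IsTor g χ ∧ χ r ≠ 1 ∧ χ s = 1 := by
  simp only [sepBy, List.any_eq_true, List.mem_range, Bool.and_eq_true, decide_eq_true_eq] at h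
  obtain ⟨γ, -, h1, h2⟩ := h
  refine ⟨T.lift (S.tor (corootV C.D γ) P.v), fun δ => P.v ^ chiZ C.D (corootV C.D γ) δ,
    T.isTor_lift_tor _ P.v P.ne_zero, ?_, ?_⟩
  · show P.v ^ chiZ C.D (corootV C.D γ) r ≠ 1
    rw [Ne, P.zpow_eq_one_iff]
    intro hd
    exact h2 (Int.emod_eq_zero_of_dvd hd)
  · show P.v ^ chiZ C.D (corootV C.D γ) s = 1
    rw [P.zpow_eq_one_iff]
    exact Int.dvd_of_emod_eq_zero h1

theorem XExt.exists_torAt' {r : ℕ} (hr : r < C.D.nroots) (h : torExBy P.m C.D r = true) :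
    ∃ (g : E) (v : F), T.IsTorAt g r v ∧ v ≠ 1 := by
  simp only [torExBy, List.any_eq_true, List.mem_range, decide_eq_true_eq] at h
  obtain ⟨i, hi, hm⟩ := h
  refine ⟨T.lift (S.hS (C.D.simple i) P.v), P.v ^ C.D.cartan i r, ⟨?_, ?_⟩, ?_⟩
  · rw [T.psi_lift]; exact S.hS_mem_Hbar i hi P.v P.ne_zero
  · intro u
    rw [T.psi_lift]
    exact S.hS_conj T.Y i hi P.v P.ne_zero r hr u
  · rw [Ne, P.zpow_eq_one_iff]
    intro hd
    exact hm (Int.emod_eq_zero_of_dvd hd)

theorem commute_of_nilP {p : ℕ} (hp : ((p : ℕ) : F) = 0) {r s : ℕ} (hr : r < C.D.nroots) (hs : s < C.D.nroots)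
    (h : nilP p C.D r s = true) (t u : F) : Commute (S.X r t) (S.X s u) := by
  simp only [nilP, Bool.and_eq_true, decide_eq_true_eq, List.all_eq_true] at h
  obtain ⟨⟨h1, h2⟩, h3⟩ := h
  have hrel := S.comm r hr s hs h1 h2 t u
  have hone : wordS S.X (C.D.commWord F r s t u) = 1 := by
    unfold wordS ChevalleyDatum.commWord
    apply List.prod_eq_one
    intro x hx
    simp only [List.mem_map] at hx
    obtain ⟨q, ⟨c, hc, rfl⟩, rfl⟩ := hx
    obtain ⟨k, hk⟩ := h3 c hc
    have : ((c.2.1 : ℤ) : F) = 0 := by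
      rw [hk]; push_cast; rw [hp, zero_mul]
    simp only [this, zero_mul]
    exact S.X_zero _
  rw [hone] at hrel
  show S.X r t * S.X s u = S.X s u * S.X r t
  have e : S.X r t * S.X s u = S.X r t * S.X s u * ((S.X s u)⁻¹ * (S.X r t)⁻¹ * S.X s u * S.X r t) := by
    rw [hrel, mul_one]
  rw [e]; group

/-- The lifts of commuting root elements commute, given a separating torus element. -/
theorem XExt.cm_eq_one_of_sep {r s : ℕ} (hr : r < C.D.nroots) (hs : s < C.D.nroots)
    (hrs : ∀ t u : F, Commute (S.X r t) (S.X s u))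
    (h : ∃ (g : E) (χ : ℕ → F), T.IsTor g χ ∧ χ r ≠ 1 ∧ χ s = 1) (t u : F) : T.cm r s t u = 1 := by
  obtain ⟨g, χ, hg, h1, h2⟩ := h
  refine kill_additive (fun t => T.cm r s t u) (fun t t' => T.cm_add_left hrs t t' u) (χ r) h1 ?_ t
  intro t
  have := T.cm_tor hrs (hg.at T r hr) (hg.at T s hs) t u
  rwa [h2, one_mul] at this

theorem XExt.cm_symm (r s : ℕ) (t u : F) : T.cm s r u t = (T.cm r s t u)⁻¹ := by
  unfold XExt.cm
  rw [commutatorElement_inv]

/-- The root elements of `r`, `s` commute, and their lifts commute by a separating torus element. -/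
def commOK (m p : ℕ) (D : ChevalleyDatum) (r s : ℕ) : Bool :=
  nilP p D r s && (sepBy m D r s || sepBy m D s r)

theorem nilP_symm_commute {p : ℕ} (hp : ((p : ℕ) : F) = 0) {r s : ℕ} (hr : r < C.D.nroots) (hs : s < C.D.nroots)
    (h : nilP p C.D r s = true) (t u : F) : Commute (S.X s u) (S.X r t) :=
  (commute_of_nilP (S := S) hp hr hs h t u).symm

theorem XExt.cm_eq_one_of_commOK {p : ℕ} (hp : ((p : ℕ) : F) = 0) {r s : ℕ} (hr : r < C.D.nroots)
    (hs : s < C.D.nroots) (h : commOK P.m p C.D r s = true) (t u : F) : T.cm r s t u = 1 := by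
  simp only [commOK, Bool.and_eq_true, Bool.or_eq_true] at h
  obtain ⟨hn, h2 | h2⟩ := h
  · exact T.cm_eq_one_of_sep hr hs (commute_of_nilP (S := S) hp hr hs hn) (T.exists_sep P h2) t u
  · have := T.cm_eq_one_of_sep hs hr (fun u t => (commute_of_nilP (S := S) hp hr hs hn t u).symm)
      (T.exists_sep P h2) u t
    have e := T.cm_symm s r u t
    rw [this, inv_one] at e
    exact e

end

end Cfsg.Agent.Lib.Helper3.StV
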