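import Mathlib
import Cfsg.Prelude.Def_ChevStructure
import Cfsg.Agent.Lib.Helper3.StV6
set_option autoImplicit false
set_option linter.unusedSectionVars false
open Cfsg Cfsg.Lie

/-! The commutation of the lifts of the elements of a root subgroup: over a prime field, and from a commutator
relation containing the root. -/

namespace Cfsg.Agent.Lib.Helper3.StV

open ChevM ChevU ChevT ChevH StB StU
open scoped commutatorElement

/-- The coefficient is a unit and one of the exponents is 1. -/
def linOK (c : ℤ) (i j : ℕ) : Bool := (decide (c = 1) || decide (c = -1)) && (decide (i = 1) || decide (j = 1))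

theorem exists_param {F : Type*} [Field F] {c : ℤ} {i j : ℕ} (h : linOK c i j = true) (a : F) :
    ∃ t u : F, (c : F) * (-t) ^ i * u ^ j = a := by
  simp only [linOK, Bool.and_eq_true, Bool.or_eq_true, decide_eq_true_eq] at h
  obtain ⟨hc, hij⟩ := h
  have hcc : (c : F) * (c : F) = 1 := by
    rcases hc with rfl | rfl <;> simp
  rcases hij with rfl | rfl
  · refine ⟨-((c : F) * a), 1, ?_⟩
    rw [neg_neg, pow_one, one_pow, mul_one, ← mul_assoc, hcc, one_mul]
  · refine ⟨-1, (c : F) * a, ?_⟩
    rw [neg_neg, one_pow, mul_one, pow_one, ← mul_assoc, hcc, one_mul]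

/-- The root `r` occurs in the commutator formula of `(γ, δ)` with a unit coefficient and linearly in one of the
parameters; `X_r` commutes with `X_γ`, `X_δ`, and the lifts of `X_r` and of the other term commute. -/
def homOK1 (m p : ℕ) (D : ChevalleyDatum) (r γ δ : ℕ) : Bool :=
  decide (γ < D.nroots) && decide (δ < D.nroots) && decide (δ ≠ γ) && decide (δ ≠ D.neg γ) &&
    nilP p D r γ && nilP p D r δ &&
    match D.commTerms γ δ with
    | [(k, c, i, j)] => decide (k = r) && linOK c i j
    | [(k₁, c₁, i₁, j₁), (k₂, c₂, i₂, j₂)] =>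
        (decide (k₁ = r) && linOK c₁ i₁ j₁ && decide (k₂ < D.nroots) && commOK m p D r k₂) ||
        (decide (k₂ = r) && linOK c₂ i₂ j₂ && decide (k₁ < D.nroots) && commOK m p D r k₁)
    | _ => false

/-- The check giving the commutation of the lifts of the elements of `X_r`. -/
def selfOK1 (m p : ℕ) (D : ChevalleyDatum) (r : ℕ) : Bool :=
  (List.range D.nroots).any fun γ => (List.range D.nroots).any fun δ => homOK1 m p D r γ δ

section
variable {C : CDatum} {R : RelData C} {F : Type*} [Field F] {Δ : Type*} [Group Δ] {S : StData C R F Δ}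
  {E : Type*} [Group E] (T : XExt S E) (P : PrimEl F)

theorem StData_X_zpow (S : StData C R F Δ) (r : ℕ) (k : ℤ) : S.X r (k : F) = S.X r 1 ^ k := by
  let f : Multiplicative F →* Δ :=
    { toFun := fun x => S.X r x.toAdd
      map_one' := S.X_zero r
      map_mul' := fun x y => S.add r x.toAdd y.toAdd }
  have h := map_zpow f (Multiplicative.ofAdd (1 : F)) k
  have e : (Multiplicative.ofAdd (1 : F)) ^ k = Multiplicative.ofAdd ((k : F)) := by
    rw [← ofAdd_zsmul, zsmul_one]
  rw [e] at h
  exact h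

/-- Over a prime field the lifts of the elements of a root subgroup commute. -/
theorem XExt.cm_self_of_prime (hpf : ∀ t : F, ∃ k : ℤ, t = (k : F)) (r : ℕ) (t u : F) : T.cm r r t u = 1 := by
  obtain ⟨k, rfl⟩ := hpf t
  obtain ⟨l, rfl⟩ := hpf u
  set y := T.lift (S.X r 1) with hy
  have e : T.cm r r (k : F) (l : F) = ⁅y ^ k, y ^ l⁆ := by
    unfold XExt.cm
    apply T.comm_congr_psi
    · rw [T.psi_lift, map_zpow, hy, T.psi_lift, StData_X_zpow]
    · rw [T.psi_lift, map_zpow, hy, T.psi_lift, StData_X_zpow]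
  rw [e, commutatorElement_eq_one_iff_commute]
  exact (Commute.refl y).zpow_zpow k l

theorem XExt.cm_self_of_hom1 {p : ℕ} (hp : ((p : ℕ) : F) = 0) {r γ δ : ℕ} (hr : r < C.D.nroots)
    (h : homOK1 P.m p C.D r γ δ = true) (b a : F) : T.cm r r b a = 1 := by
  unfold homOK1 at h
  simp only [Bool.and_eq_true, decide_eq_true_eq] at h
  obtain ⟨⟨⟨⟨⟨⟨hγ, hδ⟩, hδγ⟩, hneg⟩, n1⟩, n2⟩, hm⟩ := h
  have cγ := commute_of_nilP (S := S) hp hr hγ n1
  have cδ := commute_of_nilP (S := S) hp hr hδ n2
  set x := T.lift (S.X r b) with hx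
  have main : ∀ t u : F, ⁅x, T.lift (wordS S.X (C.D.commWord F γ δ t u))⁆ = 1 := by
    intro t u
    have hz1 : ⁅x, T.lift (S.X δ u)⁆ ∈ Subgroup.center E := by
      apply T.comm_mem_center; rw [hx, T.psi_lift, T.psi_lift]; exact cδ b u
    have hz2 : ⁅x, T.lift (S.X γ t)⁆ ∈ Subgroup.center E := by
      apply T.comm_mem_center; rw [hx, T.psi_lift, T.psi_lift]; exact cγ b t
    have key := comm_comm_eq_one hz1 hz2
    rw [← key]
    apply T.comm_congr_psi rfl
    simp only [map_mul, map_inv, T.psi_lift]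
    exact (S.comm γ hγ δ hδ hδγ hneg t u).symm
  split at hm
  · rename_i k c i j hterms
    simp only [Bool.and_eq_true, decide_eq_true_eq] at hm
    obtain ⟨rfl, hlin⟩ := hm
    obtain ⟨t, u, htu⟩ := exists_param (F := F) hlin a
    have := main t u
    rw [ChevalleyDatum.commWord, hterms] at this
    simp only [List.map_cons, List.map_nil, wordS_cons, wordS_nil, mul_one] at this
    rw [htu] at this
    exact this
  · rename_i k₁ c₁ i₁ j₁ k₂ c₂ i₂ j₂ hterms
    simp only [Bool.or_eq_true, Bool.and_eq_true, decide_eq_true_eq] at hm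
    rcases hm with ⟨⟨⟨rfl, hlin⟩, hk₂⟩, hc⟩ | ⟨⟨⟨rfl, hlin⟩, hk₁⟩, hc⟩
    · obtain ⟨t, u, htu⟩ := exists_param (F := F) hlin a
      have := main t u
      rw [ChevalleyDatum.commWord, hterms] at this
      simp only [List.map_cons, List.map_nil, wordS_cons, wordS_nil, mul_one] at this
      rw [htu] at this
      set a₂ : F := (c₂ : F) * (-t) ^ i₂ * u ^ j₂ with ha₂
      have e2 : ⁅x, T.lift (S.X k₁ a * S.X k₂ a₂)⁆ = ⁅x, T.lift (S.X k₁ a) * T.lift (S.X k₂ a₂)⁆ := by
        apply T.comm_congr_psi rfl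
        simp only [map_mul, T.psi_lift]
      have hcen : ⁅x, T.lift (S.X k₂ a₂)⁆ ∈ Subgroup.center E := by
        have : ⁅x, T.lift (S.X k₂ a₂)⁆ = T.cm k₁ k₂ b a₂ := rfl
        rw [this, T.cm_eq_one_of_commOK P hp hr hk₂ hc]
        exact Subgroup.one_mem _
      rw [e2, comm_mul_right_of_central hcen] at this
      have e3 : ⁅x, T.lift (S.X k₂ a₂)⁆ = T.cm k₁ k₂ b a₂ := rfl
      rw [e3, T.cm_eq_one_of_commOK P hp hr hk₂ hc, mul_one] at this
      exact this
    · obtain ⟨t, u, htu⟩ := exists_param (F := F) hlin a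
      have := main t u
      rw [ChevalleyDatum.commWord, hterms] at this
      simp only [List.map_cons, List.map_nil, wordS_cons, wordS_nil, mul_one] at this
      rw [htu] at this
      set a₁ : F := (c₁ : F) * (-t) ^ i₁ * u ^ j₁ with ha₁
      have e2 : ⁅x, T.lift (S.X k₁ a₁ * S.X k₂ a)⁆ = ⁅x, T.lift (S.X k₁ a₁) * T.lift (S.X k₂ a)⁆ := by
        apply T.comm_congr_psi rfl
        simp only [map_mul, T.psi_lift]
      have hcen : ⁅x, T.lift (S.X k₂ a)⁆ ∈ Subgroup.center E := by
        have : ⁅x, T.lift (S.X k₂ a)⁆ = T.cm k₂ k₂ b a := rfl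
        rw [this]
        exact T.cm_mem_center (commute_self S k₂) b a
      rw [e2, comm_mul_right_of_central hcen] at this
      have e3 : ⁅x, T.lift (S.X k₁ a₁)⁆ = T.cm k₂ k₁ b a₁ := rfl
      rw [e3, T.cm_eq_one_of_commOK P hp hr hk₁ hc, one_mul] at this
      exact this
  · exact absurd hm (by simp)

theorem XExt.cm_self_of_selfOK1 {p : ℕ} (hp : ((p : ℕ) : F) = 0) {r : ℕ} (hr : r < C.D.nroots)
    (h : selfOK1 P.m p C.D r = true) (t u : F) : T.cm r r t u = 1 := by
  simp only [selfOK1, List.any_eq_true, List.mem_range] at h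
  obtain ⟨γ, -, δ, -, h⟩ := h
  exact T.cm_self_of_hom1 P hp hr h t u

/-- The extension is good: by the table checks, or over a prime field. -/
theorem XExt.good_of_checks1 {p : ℕ} (hp : ((p : ℕ) : F) = 0)
    (hself : (∀ t : F, ∃ k : ℤ, t = (k : F)) ∨ ∀ r < C.D.nroots, selfOK1 P.m p C.D r = true)
    (htor : ∀ r < C.D.nroots, torExBy P.m C.D r = true) : T.Good where
  self := by
    intro r hr t u
    rcases hself with h | h
    · exact T.cm_self_of_prime h r t u
    · exact T.cm_self_of_selfOK1 P hp hr (h r hr) t u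
  tor := fun r hr => T.exists_torAt' P hr (htor r hr)

end

end Cfsg.Agent.Lib.Helper3.StV
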