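import Mathlib
import Cfsg.Prelude.Def_ChevStructure
import Cfsg.Agent.Lib.Helper3.StV7
set_option autoImplicit false
set_option linter.unusedSectionVars false
open Cfsg Cfsg.Lie

/-! Commutator relations established directly: a relation with a single term for a pair of roots separated by a torus
element, and the commutation of the lifts of two orthogonal root subgroups over the field with three elements, from two
decompositions of one of the roots. -/

namespace Cfsg.Agent.Lib.Helper3.StV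

open ChevM ChevU ChevT ChevH StB StU
open scoped commutatorElement

theorem hw_core {G : Type*} [Group G] {A D B P La : G} (h1 : D⁻¹ * A⁻¹ * D * A = La) (h2 : Commute B A)
    (h3 : B⁻¹ * D⁻¹ * B * D = P) (h4 : Commute P La) : La⁻¹ * B⁻¹ * La * B = P * A⁻¹ * P⁻¹ * A := by
  have e1 : B⁻¹ * D * B = D * P⁻¹ := by rw [← h3]; group
  have e2 : B⁻¹ * A * B = A := by
    have := h2.eq
    calc B⁻¹ * A * B = B⁻¹ * (A * B) := by group
      _ = B⁻¹ * (B * A) := by rw [this]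
      _ = A := by group
  have e3 : B⁻¹ * La * B = (B⁻¹ * D * B)⁻¹ * (B⁻¹ * A * B)⁻¹ * (B⁻¹ * D * B) * (B⁻¹ * A * B) := by
    rw [← h1]; group
  rw [e1, e2] at e3
  have e4 : (D * P⁻¹)⁻¹ * A⁻¹ * (D * P⁻¹) * A = P * (D⁻¹ * A⁻¹ * D * A) * A⁻¹ * P⁻¹ * A := by group
  rw [e4, h1] at e3
  have h4' : La⁻¹ * P * La = P := by
    have := h4.eq
    calc La⁻¹ * P * La = La⁻¹ * (P * La) := by group
      _ = La⁻¹ * (La * P) := by rw [this]
      _ = P := by group
  calc La⁻¹ * B⁻¹ * La * B = La⁻¹ * (B⁻¹ * La * B) := by group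
    _ = La⁻¹ * (P * La * A⁻¹ * P⁻¹ * A) := by rw [e3]
    _ = (La⁻¹ * P * La) * A⁻¹ * P⁻¹ * A := by group
    _ = P * A⁻¹ * P⁻¹ * A := by rw [h4']

section
variable {C : CDatum} {R : RelData C} {F : Type*} [Field F] {Δ : Type*} [Group Δ] {S : StData C R F Δ}
  {E : Type*} [Group E] (T : XExt S E) (Λ : T.LSys)

/-- The values of the lifts of a root subgroup form a subgroup. -/
def XExt.LSys.rootGrp (k : ℕ) (hk : k < C.D.nroots) : Subgroup E where
  carrier := {y | ∃ t : F, y = Λ.L k t}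
  mul_mem' := by
    rintro _ _ ⟨a, rfl⟩ ⟨b, rfl⟩
    exact ⟨a + b, (Λ.L_add k hk a b).symm⟩
  one_mem' := ⟨0, (Λ.L_zero T hk).symm⟩
  inv_mem' := by
    rintro _ ⟨a, rfl⟩
    exact ⟨-a, (Λ.L_neg T hk a).symm⟩

theorem XExt.LSys.commute_of_cm {r s : ℕ} (hr : r < C.D.nroots) (hs : s < C.D.nroots)
    (h : ∀ t u : F, T.cm r s t u = 1) (t u : F) : Commute (Λ.L r t) (Λ.L s u) := by
  have := T.cm_eq r s t u (Λ.psi_L r hr t) (Λ.psi_L s hs u)
  rw [h] at this
  exact commutatorElement_eq_one_iff_commute.mp this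

/-- The commutator relation with a single term, for a pair of roots separated by a torus element. -/
theorem XExt.brel_single {r s k : ℕ} {c : ℤ} (hr : r < C.D.nroots) (hs : s < C.D.nroots) (hk : k < C.D.nroots)
    (hsr : s ≠ r) (hneg : s ≠ C.D.neg r) (hterms : C.D.commTerms r s = [(k, c, 1, 1)])
    (hsep : ∃ (g : E) (χ : ℕ → F), T.IsTor g χ ∧ χ r ≠ 1 ∧ χ s = 1)
    (hrk : ∀ t u : F, T.cm r k t u = 1) : T.Brel Λ r s := by
  refine T.brel_step Λ hr hs hsr hneg ?_ (Λ.rootGrp T k hk) ?_ ?_ ?_ ?_ hsep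
  · intro c' hc'
    rw [hterms, List.mem_singleton] at hc'
    rw [hc']
    exact hk
  · rintro _ ⟨a, rfl⟩ _ ⟨b, rfl⟩ h
    rw [Λ.psi_L k hk, Λ.psi_L k hk] at h
    have h2 := congrArg S.φ h
    rw [S.φX k hk, S.φX k hk] at h2
    rw [xU_inj T.Y k hk a b h2]
  · intro t u
    rw [ChevalleyDatum.commWord, hterms]
    simp only [List.map_cons, List.map_nil, wordS_cons, wordS_nil, mul_one]
    exact ⟨_, rfl⟩
  · rintro t' _ ⟨a, rfl⟩
    have := (Λ.commute_of_cm T hr hk hrk t' a).eq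
    refine ⟨a, ?_⟩
    calc (Λ.L r t')⁻¹ * Λ.L k a * Λ.L r t' = (Λ.L r t')⁻¹ * (Λ.L k a * Λ.L r t') := by group
      _ = (Λ.L r t')⁻¹ * (Λ.L r t' * Λ.L k a) := by rw [this]
      _ = Λ.L k a := by group
  · rintro g χ hg _ ⟨a, rfl⟩
    exact ⟨χ k * a, Λ.L_tor k hk g (χ k) (hg.at T k hk) a⟩

end

section
variable {C : CDatum} {R : RelData C} {F : Type*} [Field F] {Δ : Type*} [Group Δ] {S : StData C R F Δ}
  {E : Type*} [Group E] (T : XExt S E)

variable {r s : ℕ} (hrs : ∀ t u : F, Commute (S.X r t) (S.X s u))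
include hrs

theorem XExt.cm_zero_left (u : F) : T.cm r s 0 u = 1 := by
  have := T.cm_add_left hrs 0 0 u
  rw [add_zero] at this
  exact (mul_eq_left.mp this.symm)

theorem XExt.cm_zero_right (t : F) : T.cm r s t 0 = 1 := by
  have := T.cm_add_right hrs t 0 0
  rw [add_zero] at this
  exact (mul_eq_left.mp this.symm)

theorem XExt.cm_neg_left (t u : F) : T.cm r s (-t) u = (T.cm r s t u)⁻¹ := by
  have := T.cm_add_left hrs (-t) t u
  rw [neg_add_cancel, T.cm_zero_left hrs] at this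
  exact eq_inv_of_mul_eq_one_left this.symm

theorem XExt.cm_neg_right (t u : F) : T.cm r s t (-u) = (T.cm r s t u)⁻¹ := by
  have := T.cm_add_right hrs t (-u) u
  rw [neg_add_cancel, T.cm_zero_right hrs] at this
  exact eq_inv_of_mul_eq_one_left this.symm

end

section
variable {C : CDatum} {R : RelData C} {F : Type*} [Field F] {Δ : Type*} [Group Δ] {S : StData C R F Δ}
  {E : Type*} [Group E] (T : XExt S E) (Λ : T.LSys)

/-- One decomposition `α = γ + δ` of a root orthogonal to `β` relates the commutator pairings of `(α, β)` and of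
`(δ + β, γ)`. -/
theorem XExt.orth_relation {α β γ δ ε : ℕ} {c₁ c₂ : ℤ} (hα : α < C.D.nroots) (hβ : β < C.D.nroots)
    (hγ : γ < C.D.nroots) (hδ : δ < C.D.nroots) (hε : ε < C.D.nroots)
    (ht1 : C.D.commTerms γ δ = [(α, c₁, 1, 1)]) (ht2 : C.D.commTerms δ β = [(ε, c₂, 1, 1)])
    (hb1 : T.Brel Λ γ δ) (hb2 : T.Brel Λ δ β)
    (hc1 : ∀ t u : F, Commute (Λ.L β t) (Λ.L γ u)) (hc2 : ∀ t u : F, Commute (Λ.L ε t) (Λ.L α u))
    (t u v : F) :
    T.cm α β (-((c₁ : F) * -t * v)) (-u) = T.cm ε γ ((c₂ : F) * -v * u) (-t) := by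
  have h1 := hb1 t v
  rw [ChevalleyDatum.commWord, ht1] at h1
  simp only [List.map_cons, List.map_nil, wordS_cons, wordS_nil, mul_one, pow_one] at h1
  have h3 := hb2 v u
  rw [ChevalleyDatum.commWord, ht2] at h3
  simp only [List.map_cons, List.map_nil, wordS_cons, wordS_nil, mul_one, pow_one] at h3
  have key := hw_core h1 (hc1 u t) h3 (hc2 _ _)
  have e1 : (Λ.L α ((c₁ : F) * -t * v))⁻¹ * (Λ.L β u)⁻¹ * Λ.L α ((c₁ : F) * -t * v) * Λ.L β u =
      ⁅(Λ.L α ((c₁ : F) * -t * v))⁻¹, (Λ.L β u)⁻¹⁆ := by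
    rw [commutatorElement_def, inv_inv, inv_inv]
  have e2 : Λ.L ε ((c₂ : F) * -v * u) * (Λ.L γ t)⁻¹ * (Λ.L ε ((c₂ : F) * -v * u))⁻¹ * Λ.L γ t =
      ⁅Λ.L ε ((c₂ : F) * -v * u), (Λ.L γ t)⁻¹⁆ := by
    rw [commutatorElement_def, inv_inv]
  rw [e1, e2] at key
  rw [← T.cm_eq α β _ _ (a := (Λ.L α ((c₁ : F) * -t * v))⁻¹) (b := (Λ.L β u)⁻¹)
      (by rw [map_inv, Λ.psi_L α hα, S.X_neg]) (by rw [map_inv, Λ.psi_L β hβ, S.X_neg]),
    ← T.cm_eq ε γ _ _ (a := Λ.L ε ((c₂ : F) * -v * u)) (b := (Λ.L γ t)⁻¹)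
      (Λ.psi_L ε hε _) (by rw [map_inv, Λ.psi_L γ hγ, S.X_neg])]
  exact key

end

end Cfsg.Agent.Lib.Helper3.StV
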