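import Mathlib
import Cfsg.Prelude.Def_ChevStructure
import Cfsg.Agent.Lib.Helper3.StV8
set_option autoImplicit false
set_option linter.unusedSectionVars false
open Cfsg Cfsg.Lie

/-! Over the field with three elements the lifts of two orthogonal root subgroups commute, given two decompositions of
one of the roots whose structure constants have equal products. -/

namespace Cfsg.Agent.Lib.Helper3.StV

open ChevM ChevU ChevT ChevH StB StU
open scoped commutatorElement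

theorem sq_aux {G : Type*} [Group G] (x y : G) (h1 : x⁻¹ = y ∨ x = y⁻¹) (h2 : x⁻¹ = y⁻¹ ∨ x = y) : x = x⁻¹ := by
  have e1 : y = x⁻¹ := by
    rcases h1 with h | h
    · exact h.symm
    · rw [h, inv_inv]
  have e2 : y = x := by
    rcases h2 with h | h
    · exact (inv_inj.mp h).symm
    · exact h.symm
  exact e2.symm.trans e1

section
variable {C : CDatum} {R : RelData C} {F : Type*} [Field F] {Δ : Type*} [Group Δ] {S : StData C R F Δ}
  {E : Type*} [Group E] (T : XExt S E) (Λ : T.LSys)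

theorem XExt.cm_orth_three (h3 : ∀ t : F, t = 0 ∨ t = 1 ∨ t = -1) (hp : ((3 : ℕ) : F) = 0)
    {α β γ δ ε δ' : ℕ} {c₁ c₂ c₁' c₂' : ℤ}
    (hα : α < C.D.nroots) (hβ : β < C.D.nroots) (hγ : γ < C.D.nroots) (hδ : δ < C.D.nroots) (hε : ε < C.D.nroots)
    (hδ' : δ' < C.D.nroots)
    (ht1 : C.D.commTerms γ δ = [(α, c₁, 1, 1)]) (ht2 : C.D.commTerms δ β = [(ε, c₂, 1, 1)])
    (ht3 : C.D.commTerms ε δ' = [(α, c₁', 1, 1)]) (ht4 : C.D.commTerms δ' β = [(γ, c₂', 1, 1)])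
    (hs1 : c₁ = 1 ∨ c₁ = -1) (hs2 : c₂ = 1 ∨ c₂ = -1) (hs3 : c₁' = 1 ∨ c₁' = -1) (hs4 : c₂' = 1 ∨ c₂' = -1)
    (hprod : c₁ * c₂ = c₁' * c₂')
    (hb1 : T.Brel Λ γ δ) (hb2 : T.Brel Λ δ β) (hb3 : T.Brel Λ ε δ') (hb4 : T.Brel Λ δ' β)
    (hc1 : ∀ t u : F, Commute (Λ.L β t) (Λ.L γ u)) (hc2 : ∀ t u : F, Commute (Λ.L ε t) (Λ.L α u))
    (hc3 : ∀ t u : F, Commute (Λ.L β t) (Λ.L ε u)) (hc4 : ∀ t u : F, Commute (Λ.L γ t) (Λ.L α u))
    (hαβ : ∀ t u : F, Commute (S.X α t) (S.X β u)) (hεγ : ∀ t u : F, Commute (S.X ε t) (S.X γ u))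
    (t u : F) : T.cm α β t u = 1 := by
  have r1 := T.orth_relation Λ hα hβ hγ hδ hε ht1 ht2 hb1 hb2 hc1 hc2 1 1 1
  have r2 := T.orth_relation Λ hα hβ hε hδ' hγ ht3 ht4 hb3 hb4 hc3 hc4 1 1 1
  have hγε : ∀ t u : F, Commute (S.X γ t) (S.X ε u) := fun t u => (hεγ u t).symm
  set Φ := T.cm α β 1 1 with hΦ
  set Ψ := T.cm ε γ 1 1 with hΨ
  have hsym : T.cm γ ε 1 1 = Ψ⁻¹ := T.cm_symm ε γ 1 1
  simp only [mul_one, mul_neg, neg_neg] at r1 r2
  have hΦ2 : Φ = Φ⁻¹ := by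
    rcases hs1 with rfl | rfl <;> rcases hs2 with rfl | rfl <;> rcases hs3 with rfl | rfl <;>
      rcases hs4 with rfl | rfl <;>
      first
      | (exfalso; revert hprod; decide)
      | (simp only [Int.cast_one, Int.cast_neg, neg_neg, T.cm_neg_left hαβ, T.cm_neg_right hαβ,
          T.cm_neg_left hεγ, T.cm_neg_right hεγ, T.cm_neg_left hγε, T.cm_neg_right hγε, inv_inv, hsym,
          ← hΦ, ← hΨ] at r1 r2
         first
         | exact sq_aux _ _ (Or.inl r1) (Or.inl r2)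
         | exact sq_aux _ _ (Or.inl r1) (Or.inr r2)
         | exact sq_aux _ _ (Or.inr r1) (Or.inl r2)
         | exact sq_aux _ _ (Or.inr r1) (Or.inr r2)
         | exact sq_aux _ _ (Or.inl r2) (Or.inl r1)
         | exact sq_aux _ _ (Or.inl r2) (Or.inr r1)
         | exact sq_aux _ _ (Or.inr r2) (Or.inl r1)
         | exact sq_aux _ _ (Or.inr r2) (Or.inr r1))
  have hΦsq : Φ * Φ = 1 := by
    nth_rewrite 1 [hΦ2]
    exact inv_mul_cancel Φ
  have hΦ3 : Φ * Φ * Φ = 1 := by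
    have e1 := T.cm_add_left hαβ (1 + 1) 1 1
    have e2 := T.cm_add_left hαβ 1 1 1
    rw [e2] at e1
    have e3 : ((1 : F) + 1 + 1) = 0 := by
      have : ((3 : ℕ) : F) = 1 + 1 + 1 := by norm_num
      rw [← this, hp]
    rw [e3, T.cm_zero_left hαβ] at e1
    exact e1.symm
  have hΦ1 : Φ = 1 := by
    rw [hΦsq, one_mul] at hΦ3
    exact hΦ3
  have hinv : Φ⁻¹ = 1 := by rw [hΦ1, inv_one]
  rcases h3 t with rfl | rfl | rfl
  · exact T.cm_zero_left hαβ u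
  · rcases h3 u with rfl | rfl | rfl
    · exact T.cm_zero_right hαβ 1
    · exact hΦ1
    · rw [T.cm_neg_right hαβ]; exact hinv
  · rcases h3 u with rfl | rfl | rfl
    · exact T.cm_zero_right hαβ _
    · rw [T.cm_neg_left hαβ]; exact hinv
    · rw [T.cm_neg_left hαβ, T.cm_neg_right hαβ, inv_inv]; exact hΦ1

end

end Cfsg.Agent.Lib.Helper3.StV
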