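import Mathlib
import Cfsg.Prelude.Def_ChevStructure
import Cfsg.Prelude.Def_SteinbergCover
import Cfsg.Agent.Lib.Helper3.StV9
set_option autoImplicit false
set_option linter.unusedSectionVars false
open Cfsg Cfsg.Lie

/-! Table checks for the splitting of the central extensions of the group presented by Steinberg's relators (R1),
(R2) over the fields with three and four elements. -/

namespace Cfsg.Agent.Lib.Helper3.StV

open ChevM ChevU ChevT ChevH StB StU
open scoped commutatorElement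

/-- A pair of distinct positive roots is separated by a torus element of order `m`. -/
def posSepOK (m : ℕ) (D : ChevalleyDatum) (r s : ℕ) : Bool :=
  !(decide (D.IsPosRoot r) && decide (D.IsPosRoot s) && decide (s ≠ r)) || sepBy m D r s

/-- The commutator formula of `(r, s)` has the single term `r + s = k`. -/
def singleOK (D : ChevalleyDatum) (r s k : ℕ) : Bool :=
  decide (D.commTerms r s = [(k, D.chainM r s 1, 1, 1)])

/-- The conditions under which the relation of `(r, s)` with the single term `k` is obtained directly. -/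
def d1OK (m p : ℕ) (D : ChevalleyDatum) (r s k : ℕ) : Bool :=
  decide (r < D.nroots) && decide (s < D.nroots) && decide (k < D.nroots) && decide (s ≠ r) &&
    decide (s ≠ D.neg r) && singleOK D r s k && sepBy m D r s && commOK m p D r k

def unitZ (c : ℤ) : Bool := decide (c = 1) || decide (c = -1)

/-- Two decompositions `α = γ + δ = ε + δ'`, with `ε = δ + β` and `γ = δ' + β`, of a root `α` orthogonal to `β`. -/
def orthOK (m p : ℕ) (D : ChevalleyDatum) (α β γ δ ε δ' : ℕ) : Bool :=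
  nilP p D α β && nilP p D ε γ &&
    d1OK m p D γ δ α && d1OK m p D δ β ε && d1OK m p D ε δ' α && d1OK m p D δ' β γ &&
    unitZ (D.chainM γ δ 1) && unitZ (D.chainM δ β 1) && unitZ (D.chainM ε δ' 1) && unitZ (D.chainM δ' β 1) &&
    decide (D.chainM γ δ 1 * D.chainM δ β 1 = D.chainM ε δ' 1 * D.chainM δ' β 1) &&
    commOK m p D β γ && commOK m p D ε α && commOK m p D β ε && commOK m p D γ α

section
variable {C : CDatum} {R : RelData C} {F : Type*} [Field F] {Δ : Type*} [Group Δ] {S : StData C R F Δ}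
  {E : Type*} [Group E] (T : XExt S E) (Λ : T.LSys) (P : PrimEl F)

theorem unitZ_spec {c : ℤ} (h : unitZ c = true) : c = 1 ∨ c = -1 := by
  simpa [unitZ] using h

theorem XExt.brel_of_d1OK {p : ℕ} (hp : ((p : ℕ) : F) = 0) {r s k : ℕ} (h : d1OK P.m p C.D r s k = true) :
    T.Brel Λ r s ∧ r < C.D.nroots ∧ s < C.D.nroots ∧ k < C.D.nroots ∧
      C.D.commTerms r s = [(k, C.D.chainM r s 1, 1, 1)] := by
  simp only [d1OK, singleOK, Bool.and_eq_true, decide_eq_true_eq] at h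
  obtain ⟨⟨⟨⟨⟨⟨⟨hr, hs⟩, hk⟩, hsr⟩, hneg⟩, hterms⟩, hsep⟩, hc⟩ := h
  exact ⟨T.brel_single Λ hr hs hk hsr hneg hterms (T.exists_sep P hsep)
    (T.cm_eq_one_of_commOK P hp hr hk hc), hr, hs, hk, hterms⟩

theorem XExt.commute_of_commOK {p : ℕ} (hp : ((p : ℕ) : F) = 0) {r s : ℕ} (hr : r < C.D.nroots)
    (hs : s < C.D.nroots) (h : commOK P.m p C.D r s = true) (t u : F) : Commute (Λ.L r t) (Λ.L s u) :=
  Λ.commute_of_cm T hr hs (T.cm_eq_one_of_commOK P hp hr hs h) t u

include Λ in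
/-- Over the field with three elements the lifts of the root subgroups of two orthogonal roots commute. -/
theorem XExt.cm_of_orthOK (h3 : ∀ t : F, t = 0 ∨ t = 1 ∨ t = -1) (hp : ((3 : ℕ) : F) = 0)
    {α β γ δ ε δ' : ℕ} (h : orthOK P.m 3 C.D α β γ δ ε δ' = true) (t u : F) : T.cm α β t u = 1 := by
  simp only [orthOK, Bool.and_eq_true, decide_eq_true_eq] at h
  obtain ⟨⟨⟨⟨⟨⟨⟨⟨⟨⟨⟨⟨⟨⟨n1, n2⟩, d1⟩, d2⟩, d3⟩, d4⟩, u1⟩, u2⟩, u3⟩, u4⟩, hprod⟩, k1⟩, k2⟩, k3⟩, k4⟩ := h
  obtain ⟨hb1, hγ, hδ, hα, ht1⟩ := T.brel_of_d1OK Λ P hp d1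
  obtain ⟨hb2, -, hβ, hε, ht2⟩ := T.brel_of_d1OK Λ P hp d2
  obtain ⟨hb3, -, hδ', -, ht3⟩ := T.brel_of_d1OK Λ P hp d3
  obtain ⟨hb4, -, -, -, ht4⟩ := T.brel_of_d1OK Λ P hp d4
  exact T.cm_orth_three Λ h3 hp hα hβ hγ hδ hε hδ' ht1 ht2 ht3 ht4 (unitZ_spec u1) (unitZ_spec u2)
    (unitZ_spec u3) (unitZ_spec u4) hprod hb1 hb2 hb3 hb4
    (T.commute_of_commOK Λ P hp hβ hγ k1) (T.commute_of_commOK Λ P hp hε hα k2)
    (T.commute_of_commOK Λ P hp hβ hε k3) (T.commute_of_commOK Λ P hp hγ hα k4)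
    (commute_of_nilP (S := S) hp hα hβ n1) (commute_of_nilP (S := S) hp hε hγ n2) t u

/-- The commutator relation of a pair of roots whose root subgroups commute, when their lifts commute. -/
theorem XExt.brel_of_cm {p : ℕ} (hp : ((p : ℕ) : F) = 0) {r s : ℕ} (hr : r < C.D.nroots) (hs : s < C.D.nroots)
    (hn : nilP p C.D r s = true) (h : ∀ t u : F, T.cm r s t u = 1) : T.Brel Λ r s := by
  intro t u
  have hc := (Λ.commute_of_cm T hr hs h t u).eq
  simp only [nilP, Bool.and_eq_true, decide_eq_true_eq, List.all_eq_true] at hn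
  obtain ⟨-, h3⟩ := hn
  have hone : wordS Λ.L (C.D.commWord F r s t u) = 1 := by
    unfold wordS ChevalleyDatum.commWord
    apply List.prod_eq_one
    intro x hx
    simp only [List.mem_map] at hx
    obtain ⟨q, ⟨c, hc', rfl⟩, rfl⟩ := hx
    obtain ⟨k, hk⟩ := h3 c hc'
    have : ((c.2.1 : ℤ) : F) = 0 := by
      rw [hk]; push_cast; rw [hp, zero_mul]
    simp only [this, zero_mul]
    by_cases hlt : c.1 < C.D.nroots
    · exact Λ.L_zero T hlt
    · exact Λ.L_out c.1 hlt 0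
  rw [hone]
  calc (Λ.L s u)⁻¹ * (Λ.L r t)⁻¹ * Λ.L s u * Λ.L r t = (Λ.L s u)⁻¹ * (Λ.L r t)⁻¹ * (Λ.L s u * Λ.L r t) := by group
    _ = (Λ.L s u)⁻¹ * (Λ.L r t)⁻¹ * (Λ.L r t * Λ.L s u) := by rw [hc]
    _ = 1 := by group

end

end Cfsg.Agent.Lib.Helper3.StV
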