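import Mathlib
import Cfsg.Prelude.Def_ChevStructure
import Cfsg.Prelude.Def_SteinbergCover
import Cfsg.Agent.Lib.Helper3.StV10
set_option autoImplicit false
set_option linter.unusedSectionVars false
open Cfsg Cfsg.Lie

/-! Every central extension of the group presented by Steinberg's relators (R1), (R2) splits: when all pairs of positive
roots are separated by torus elements of a prime order, and over the field with three elements when the remaining pairs
consist of orthogonal roots with suitable decompositions. -/

namespace Cfsg.Agent.Lib.Helper3.StV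

open ChevM ChevU ChevT ChevH StB StU
open scoped commutatorElement

/-- The table checks for a field with an element of prime order `m` and of characteristic `p` (or any, if `p = 0`). -/
structure SepHyp (m p : ℕ) (C : CDatum) (R : RelData C) where
  H : UnivHyp C R
  self : ∀ r < C.D.nroots, selfOK1 m p C.D r = true
  torEx : ∀ r < C.D.nroots, torExBy m C.D r = true
  sep : ∀ r < C.D.nroots, ∀ s < C.D.nroots, posSepOK m C.D r s = true

/-- A pair of distinct positive roots is separated by a torus element of order 2, or consists of orthogonal roots with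
the decompositions given by `wit`. -/
def posSepOrthOK (D : ChevalleyDatum) (wit : ℕ → ℕ → ℕ × ℕ × ℕ × ℕ) (r s : ℕ) : Bool :=
  !(decide (D.IsPosRoot r) && decide (D.IsPosRoot s) && decide (s ≠ r)) || sepBy 2 D r s ||
    orthOK 2 3 D r s (wit r s).1 (wit r s).2.1 (wit r s).2.2.1 (wit r s).2.2.2

/-- The table checks for the field with three elements. -/
structure OrthHyp (C : CDatum) (R : RelData C) where
  H : UnivHyp C R
  torEx : ∀ r < C.D.nroots, torExBy 2 C.D r = true
  wit : ℕ → ℕ → ℕ × ℕ × ℕ × ℕ
  sep : ∀ r < C.D.nroots, ∀ s < C.D.nroots, posSepOrthOK C.D wit r s = true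

section
universe u v
variable {C : CDatum} {R : RelData C} {F : Type u} [Field F]

theorem cover_split_sep {m p : ℕ} (K : CommData C R) (Hs : SepHyp m p C R) (P : PrimEl F) (hPm : P.m = m)
    (hp : ((p : ℕ) : F) = 0) (hperf : commutator (C.D.SteinbergCover F) = ⊤)
    {E : Type v} [Group E] (ψ : E →* C.D.SteinbergCover F) (hsurj : Function.Surjective ψ)
    (hc : ψ.ker ≤ Subgroup.center E) : ∃ s : C.D.SteinbergCover F →* E, ψ.comp s = MonoidHom.id _ := by
  subst hPm
  refine cover_split_of_lsys K Hs.H hperf ?_ ψ hsurj hc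
  intro Δ _ S E' _ T _
  have hG : T.Good := T.good_of_checks1 P hp (Or.inr Hs.self) Hs.torEx
  refine ⟨T.lsysOfGood hG, ?_⟩
  intro r s hr hs hsr
  left
  apply T.exists_sep P
  have := Hs.sep r hr.1 s hs.1
  simpa [posSepOK, hr, hs, hsr] using this

/-- The element `-1` of order 2 of a field of characteristic 3. -/
def primElNegOne (hp : ((3 : ℕ) : F) = 0) : PrimEl F where
  v := -1
  m := 2
  hm := Nat.prime_two
  hv1 := by
    intro h
    have h2 : (2 : F) = 0 := by
      have : (1 : F) + 1 = 0 := by nth_rewrite 1 [← h]; ring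
      rw [← this]; norm_num
    have h3 : (3 : F) = 0 := by exact_mod_cast hp
    have : (1 : F) = 0 := by linear_combination h3 - h2
    exact one_ne_zero this
  hvm := by norm_num

theorem cover_split_orth (K : CommData C R) (Ho : OrthHyp C R) (h3 : ∀ t : F, t = 0 ∨ t = 1 ∨ t = -1)
    (hp : ((3 : ℕ) : F) = 0) (hperf : commutator (C.D.SteinbergCover F) = ⊤)
    {E : Type v} [Group E] (ψ : E →* C.D.SteinbergCover F) (hsurj : Function.Surjective ψ)
    (hc : ψ.ker ≤ Subgroup.center E) : ∃ s : C.D.SteinbergCover F →* E, ψ.comp s = MonoidHom.id _ := by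
  refine cover_split_of_lsys K Ho.H hperf ?_ ψ hsurj hc
  intro Δ _ S E' _ T _
  set P := primElNegOne (F := F) hp with hP
  have hpf : ∀ t : F, ∃ k : ℤ, t = (k : F) := by
    intro t
    rcases h3 t with rfl | rfl | rfl
    · exact ⟨0, by simp⟩
    · exact ⟨1, by simp⟩
    · exact ⟨-1, by simp⟩
  have hG : T.Good := T.good_of_checks1 (p := 3) P hp (Or.inl hpf) Ho.torEx
  refine ⟨T.lsysOfGood hG, ?_⟩
  intro r s hr hs hsr
  have := Ho.sep r hr.1 s hs.1
  simp only [posSepOrthOK, hr, hs, hsr, ne_eq, not_false_eq_true, decide_true, Bool.and_self, Bool.not_true,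
    Bool.false_or, Bool.or_eq_true] at this
  rcases this with h | h
  · left
    exact T.exists_sep P h
  · right
    have hcm := T.cm_of_orthOK (T.lsysOfGood hG) P h3 hp h
    have hn : nilP 3 C.D r s = true := by
      simp only [orthOK, Bool.and_eq_true] at h
      exact h.1.1.1.1.1.1.1.1.1.1.1.1.1.1
    exact T.brel_of_cm (T.lsysOfGood hG) hp hr.1 hs.1 hn hcm

end

end Cfsg.Agent.Lib.Helper3.StV
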