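import Mathlib
import Cfsg.Agent.Lib.Helper3.StV11
set_option autoImplicit false
set_option linter.unusedSectionVars false
open Cfsg Cfsg.Lie

/-! The fields with three and four elements. -/

namespace Cfsg.Agent.Lib.Helper3.StV

section
variable {F : Type*} [Field F] [Fintype F]

theorem three_eq_zero_of_card (h : Fintype.card F = 3) : ((3 : ℕ) : F) = 0 := by
  rw [← h]; exact Nat.cast_card_eq_zero F

theorem elems_of_card_three (h : Fintype.card F = 3) : ∀ t : F, t = 0 ∨ t = 1 ∨ t = -1 := by
  classical
  have h3 : (3 : F) = 0 := by exact_mod_cast three_eq_zero_of_card h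
  have h2 : (2 : F) ≠ 0 := by
    intro h2
    have : (1 : F) = 0 := by linear_combination h3 - h2
    exact one_ne_zero this
  have hne : (1 : F) ≠ -1 := by
    intro e
    apply h2
    have : (1 : F) + 1 = 0 := by nth_rewrite 2 [e]; ring
    rw [← this]; norm_num
  have hcard : ({0, 1, -1} : Finset F).card = 3 := by
    rw [Finset.card_insert_of_notMem, Finset.card_insert_of_notMem, Finset.card_singleton]
    · simpa using hne
    · simp
  have huniv : ({0, 1, -1} : Finset F) = Finset.univ := by
    apply Finset.eq_univ_of_card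
    rw [hcard, h]
  intro t
  have ht : t ∈ ({0, 1, -1} : Finset F) := by rw [huniv]; exact Finset.mem_univ t
  simpa using ht

theorem two_eq_zero_of_card (h : Fintype.card F = 4) : ((2 : ℕ) : F) = 0 := by
  have h4 : ((4 : ℕ) : F) = 0 := by rw [← h]; exact Nat.cast_card_eq_zero F
  have : ((2 : ℕ) : F) * ((2 : ℕ) : F) = 0 := by
    rw [← h4]; push_cast; norm_num
  exact mul_self_eq_zero.mp this

theorem exists_primEl_of_card_four (h : Fintype.card F = 4) : ∃ P : PrimEl F, P.m = 3 := by
  classical
  have hlt : ({0, 1} : Finset F).card < (Finset.univ : Finset F).card := by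
    rw [Finset.card_univ, h]
    calc ({0, 1} : Finset F).card ≤ 2 := Finset.card_le_two
      _ < 4 := by norm_num
  obtain ⟨v, -, hv⟩ := Finset.exists_mem_notMem_of_card_lt_card hlt
  simp only [Finset.mem_insert, Finset.mem_singleton, not_or] at hv
  refine ⟨⟨v, 3, Nat.prime_three, hv.2, ?_⟩, rfl⟩
  have := FiniteField.pow_card_sub_one_eq_one v hv.1
  rwa [h] at this

end

end Cfsg.Agent.Lib.Helper3.StV
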