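import Mathlib
import Cfsg.Prelude.Def_ChevStructure
import Cfsg.Prelude.Def_Steinberg
import Cfsg.Prelude.Def_KGroupFacts
import Cfsg.Agent.Lib.Helper3.StV12
import Cfsg.Agent.Lib.Helper3.StU12
import Cfsg.Agent.Lib.Helper3.StS5
set_option autoImplicit false
set_option linter.unusedSectionVars false
open Cfsg Cfsg.Lie

/-! The group presented by Steinberg's relators (R1), (R2), (R3) over a finite field is finite; it has trivial Schur
multiplier when the central extensions of the group presented by (R1), (R2) split. -/

namespace Cfsg.Agent.Lib.Helper3.StV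

open ChevM ChevU ChevT ChevH StB StU StS
open scoped commutatorElement

section
variable {C : CDatum} (R : RelData C) {F : Type*} [Field F] [Finite F]

theorem steinbergGroup_finite (K : CommData C R) (Y : StHyp C R) : Finite (C.D.SteinbergGroup F) := by
  classical
  have hAB : C.D.steinbergRelsAB F ⊆ C.D.steinbergRels F := fun g hg => Or.inl hg
  have hrel := stLift_rels R (F := F) K
  set θ := presHom R (C.D.steinbergRels F) hrel with hθdef
  have hφ : ∀ r < C.D.nroots, ∀ t : F,
      ((C.D.group F).subtype.comp θ) (PresentedGroup.mk (C.D.steinbergRels F) (C.D.stX r t)) = R.xU r t := by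
    intro r hr t
    rw [MonoidHom.comp_apply, Subgroup.coe_subtype, hθdef, presHom_mk, stLift_stX]
  set S := presData R (C.D.steinbergRels F) hAB _ hφ with hS
  have hmul : ∀ i < C.D.rank, ∀ a b : F, a ≠ 0 → b ≠ 0 →
      S.hS (C.D.simple i) a * S.hS (C.D.simple i) b = S.hS (C.D.simple i) (a * b) := by
    intro i hi a b ha hb
    have hrel3 : C.D.stH (C.D.simple i) a * C.D.stH (C.D.simple i) b * (C.D.stH (C.D.simple i) (a * b))⁻¹ ∈
        C.D.steinbergRels F := Or.inr ⟨C.D.simple i, a, b, R.simple_lt i hi, ha, hb, rfl⟩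
    have h1 := PresentedGroup.one_of_mem hrel3
    rw [map_mul, map_mul, map_inv, mul_inv_eq_one] at h1
    rw [hS, presData_hS, presData_hS, presData_hS]
    exact h1
  have hgen := presData_gen R (C.D.steinbergRels F) hAB _ hφ
  have hker : S.φ.ker ≤ S.Hbar := S.ker_le_Hbar Y hgen
  -- `H̄` is finite
  let Φ : (Fin C.D.rank → F) → C.D.SteinbergGroup F :=
    fun d => S.hProd (fun i => if h : i < C.D.rank then d ⟨i, h⟩ else 1) C.D.rank
  have hsub : (S.Hbar : Set (C.D.SteinbergGroup F)) ⊆ Set.range Φ := by
    intro z hz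
    obtain ⟨c, -, rfl⟩ := S.exists_hProd Y hmul z hz
    refine ⟨fun i => c i.val, ?_⟩
    apply S.hProd_congr
    intro i hi
    simp only [hi, dif_pos]
  have hfinH : (S.Hbar : Set (C.D.SteinbergGroup F)).Finite := (Set.finite_range Φ).subset hsub
  have hkerθ : θ.ker = S.φ.ker := by
    ext z
    rw [MonoidHom.mem_ker, MonoidHom.mem_ker, hS, presData_phi, MonoidHom.comp_apply, Subgroup.coe_subtype]
    constructor
    · intro h; rw [h]; rfl
    · intro h; exact Subtype.ext h
  haveI : Finite θ.ker := by
    rw [hkerθ]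
    exact (hfinH.subset hker).to_subtype
  exact finite_of_ker_finite θ

end

section
universe u
variable {C : CDatum} (R : RelData C) {F : Type u} [Field F] [Finite F]

/-- The group presented by (R1), (R2), (R3) has trivial Schur multiplier, when it is isomorphic to the group presented
by (R1), (R2) and homomorphisms from the latter lift through central extensions. -/
theorem steinbergGroup_multiplier_one (K : CommData C R) (Y : StHyp C R)
    (e : C.D.SteinbergCover F ≃* C.D.SteinbergGroup F)
    (hlift : ∀ {Γ : Type u} [Group Γ] (σ : Γ →* C.D.SteinbergGroup F), Function.Surjective σ →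
      σ.ker ≤ Subgroup.center Γ → ∃ τ : C.D.SteinbergCover F →* Γ, σ.comp τ = e.toMonoidHom) :
    Cfsg.HasCyclicSchurMultiplier (C.D.SteinbergGroup F) 1 := by
  haveI := steinbergGroup_finite R (F := F) K Y
  apply hasCyclicSchurMultiplier_one
  intro Γ _ _ σ hσ
  obtain ⟨τ, hτ⟩ := hlift σ hσ.1 hσ.2.1
  exact stem_ker_eq_bot e σ hσ τ hτ

end

end Cfsg.Agent.Lib.Helper3.StV
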