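import Mathlib
import Cfsg.Prelude.Def_ChevStructure
import Cfsg.Agent.Lib.Helper3.StV13
set_option autoImplicit false
set_option linter.unusedSectionVars false
open Cfsg Cfsg.Lie

/-! The commutator relations for pairs of positive roots in a perfect central extension, when each pair is separated by
a torus element, or its relation is known beforehand, or the reversed pair is separated and its relation implies the
relation of the pair. -/

namespace Cfsg.Agent.Lib.Helper3.StV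

open ChevM ChevU ChevT ChevH StB StU
open scoped commutatorElement

theorem muPair_symm (N a b : ℕ) : muPair N a b = muPair N b a := by
  unfold muPair
  rw [min_comm, max_comm]

section
variable {C : CDatum} {R : RelData C} {F : Type*} [Field F] {Δ : Type*} [Group Δ] {S : StData C R F Δ}
  {E : Type*} [Group E] (T : XExt S E) (Λ : T.LSys)

/-- The step of the induction: the relation of a separated pair from the relations of the pairs of smaller measure. -/
theorem XExt.brel_pos_step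
    (hcol2 : ∀ r s, C.D.IsPosRoot r → C.D.IsPosRoot s → s ≠ r → ∀ c ∈ C.D.commTerms r s,
      T.Y.U.hpos s < T.Y.U.hpos c.1)
    (r s : ℕ) (hr : C.D.IsPosRoot r) (hs : C.D.IsPosRoot s) (hsr : s ≠ r)
    (IH : ∀ γ δ, C.D.IsPosRoot γ → C.D.IsPosRoot δ → δ ≠ γ →
      muPair C.D.nroots (T.Y.U.hpos γ) (T.Y.U.hpos δ) < muPair C.D.nroots (T.Y.U.hpos r) (T.Y.U.hpos s) →
      T.Brel Λ γ δ)
    (hsep : ∃ (g : E) (χ : ℕ → F), T.IsTor g χ ∧ χ r ≠ 1 ∧ χ s = 1) : T.Brel Λ r s := by
  set U := T.Y.U with hU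
  set N := C.D.nroots with hN
  have hne : U.hpos r ≠ U.hpos s := fun h => hsr (UHyp.hpos_inj U hr hs h).symm
  set M := max (U.hpos r) (U.hpos s) with hMdef
  set P' : ℕ → Prop := fun γ => C.D.IsPosRoot γ ∧ M + 1 ≤ U.hpos γ with hP'
  have hrN := UHyp.hpos_lt U hr
  have hsN := UHyp.hpos_lt U hs
  -- the pairs of roots beyond `M`
  have IH1 : ∀ γ δ, P' γ → P' δ → δ ≠ γ → T.Brel Λ γ δ := by
    intro γ δ hγ hδ hδγ
    apply IH γ δ hγ.1 hδ.1 hδγ
    apply muPair_lt_of_min
    · have := hγ.2; have := hδ.2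
      omega
    · have := UHyp.hpos_lt U hγ.1; have := UHyp.hpos_lt U hδ.1
      omega
  have IH2 : ∀ γ, P' γ → T.Brel Λ r γ := by
    intro γ hγ
    have hγr : γ ≠ r := by
      rintro rfl
      have := hγ.2
      omega
    apply IH r γ hr hγ.1 hγr
    have hγN := UHyp.hpos_lt U hγ.1
    have h2 := hγ.2
    by_cases hle : U.hpos r ≤ U.hpos s
    · apply muPair_lt_of_max
      · omega
      · omega
      · omega
    · apply muPair_lt_of_min
      · omega
      · omega
  have HS : RootSys (Λ.L) P' U.hpos := by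
    refine ⟨fun γ a b => ?_, ?_, fun γ δ hγ hδ h => UHyp.hpos_inj U hγ.1 hδ.1 h⟩
    · by_cases hγ : γ < C.D.nroots
      · exact Λ.L_add _ hγ a b
      · rw [Λ.L_out γ hγ, Λ.L_out γ hγ, Λ.L_out γ hγ, mul_one]
    · intro γ δ hγ hδ t u
      by_cases hδγ : δ = γ
      · subst hδγ
        rw [Λ.L_mul T hδ.1.1, Λ.L_mul T hδ.1.1, add_comm u t, inv_mul_cancel]
        exact Subgroup.one_mem _
      · have hb := IH1 γ δ hγ hδ hδγ t u
        have e : (Λ.L γ t * Λ.L δ u)⁻¹ * (Λ.L δ u * Λ.L γ t) =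
            wordS (Λ.L) (C.D.commWord F γ δ t u) := by
          rw [← hb]; group
        rw [e]
        apply wordS_mem
        intro p hp
        simp only [ChevalleyDatum.commWord, List.mem_map] at hp
        obtain ⟨c, hc, rfl⟩ := hp
        dsimp only
        have := (UHyp.col_spec U hγ.1 hδ.1 hδγ).2 c hc
        exact gen_mem _ _ _ ⟨this.1, by have := hγ.2; omega⟩ (by omega) _
  set V := tailGrp (Λ.L) P' U.hpos 0 with hV
  have hinj : ∀ y ∈ V, ∀ z ∈ V, T.ψ y = T.ψ z → y = z := by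
    intro y hy z hz h
    refine tail_inj (Λ.L) (S.φ.comp T.ψ) U (M + 1) ?_ HS hy hz ?_
    · intro γ hγ _ t
      rw [MonoidHom.comp_apply, Λ.psi_L _ hγ.1, S.φX γ hγ.1]
    · rw [MonoidHom.comp_apply, MonoidHom.comp_apply, h]
  have hcs := UHyp.col_spec U hr hs hsr
  have hZ : ∀ t u : F, wordS (Λ.L) (C.D.commWord F r s t u) ∈ V := by
    intro t u
    apply wordS_mem
    intro p hp
    simp only [ChevalleyDatum.commWord, List.mem_map] at hp
    obtain ⟨c, hc, rfl⟩ := hp
    dsimp only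
    have h1 := hcs.2 c hc
    have h2 := hcol2 r s hr hs hsr c hc
    exact gen_mem _ _ _ ⟨h1.1, by rw [hMdef]; omega⟩ (Nat.zero_le _) _
  have hnorm : ∀ t' : F, ∀ y ∈ V, (Λ.L r t')⁻¹ * y * Λ.L r t' ∈ V := by
    intro t' y hy
    induction hy using Subgroup.closure_induction with
    | mem y hy =>
      obtain ⟨γ, u, hγ, -, rfl⟩ := hy
      have hγr : γ ≠ r := by
        rintro rfl
        have := hγ.2
        omega
      have hb := IH2 γ hγ t' u
      have e : (Λ.L r t')⁻¹ * Λ.L γ u * Λ.L r t' =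
          Λ.L γ u * wordS (Λ.L) (C.D.commWord F r γ t' u) := by
        rw [← hb]; group
      rw [e]
      refine Subgroup.mul_mem _ (gen_mem _ _ _ hγ (Nat.zero_le _) _) ?_
      apply wordS_mem
      intro p hp
      simp only [ChevalleyDatum.commWord, List.mem_map] at hp
      obtain ⟨c, hc, rfl⟩ := hp
      dsimp only
      have h1 := (UHyp.col_spec U hr hγ.1 hγr).2 c hc
      have h2 := hcol2 r γ hr hγ.1 hγr c hc
      exact gen_mem _ _ _ ⟨h1.1, by have := hγ.2; omega⟩ (Nat.zero_le _) _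
    | one => simp
    | mul a b _ _ iha ihb =>
      have e : (Λ.L r t')⁻¹ * (a * b) * Λ.L r t' =
          ((Λ.L r t')⁻¹ * a * Λ.L r t') * ((Λ.L r t')⁻¹ * b * Λ.L r t') := by group
      rw [e]; exact Subgroup.mul_mem _ iha ihb
    | inv a _ iha =>
      have e : (Λ.L r t')⁻¹ * a⁻¹ * Λ.L r t' = ((Λ.L r t')⁻¹ * a * Λ.L r t')⁻¹ := by group
      rw [e]; exact Subgroup.inv_mem _ iha
  have htorV : ∀ (g : E) (χ : ℕ → F), T.IsTor g χ → ∀ y ∈ V, g * y * g⁻¹ ∈ V := by
    intro g χ hg y hy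
    induction hy using Subgroup.closure_induction with
    | mem y hy =>
      obtain ⟨γ, u, hγ, -, rfl⟩ := hy
      rw [Λ.L_tor _ hγ.1.1 _ _ (hg.at T γ hγ.1.1)]
      exact gen_mem _ _ _ hγ (Nat.zero_le _) _
    | one => simp
    | mul a b _ _ iha ihb =>
      have e : g * (a * b) * g⁻¹ = (g * a * g⁻¹) * (g * b * g⁻¹) := by group
      rw [e]; exact Subgroup.mul_mem _ iha ihb
    | inv a _ iha =>
      have e : g * a⁻¹ * g⁻¹ = (g * a * g⁻¹)⁻¹ := by group
      rw [e]; exact Subgroup.inv_mem _ iha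
  exact T.brel_step Λ hr.1 hs.1 hsr hcs.1 (fun c hc => (hcs.2 c hc).1.1) V hinj hZ hnorm htorV hsep

/-- The commutator relations for the pairs of positive roots. -/
theorem XExt.brel_pos3
    (htor : ∀ r s, C.D.IsPosRoot r → C.D.IsPosRoot s → s ≠ r →
      (∃ (g : E) (χ : ℕ → F), T.IsTor g χ ∧ χ r ≠ 1 ∧ χ s = 1) ∨ T.Brel Λ r s ∨
      ((∃ (g : E) (χ : ℕ → F), T.IsTor g χ ∧ χ s ≠ 1 ∧ χ r = 1) ∧ (T.Brel Λ s r → T.Brel Λ r s)))
    (hcol2 : ∀ r s, C.D.IsPosRoot r → C.D.IsPosRoot s → s ≠ r → ∀ c ∈ C.D.commTerms r s,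
      T.Y.U.hpos s < T.Y.U.hpos c.1) :
    ∀ r s, C.D.IsPosRoot r → C.D.IsPosRoot s → s ≠ r → T.Brel Λ r s := by
  suffices H : ∀ m r s, C.D.IsPosRoot r → C.D.IsPosRoot s → s ≠ r →
      muPair C.D.nroots (T.Y.U.hpos r) (T.Y.U.hpos s) = m → T.Brel Λ r s from
    fun r s hr hs hsr => H _ r s hr hs hsr rfl
  intro m
  induction m using Nat.strong_induction_on with
  | _ m ih =>
    intro r s hr hs hsr hm
    have IH : ∀ γ δ, C.D.IsPosRoot γ → C.D.IsPosRoot δ → δ ≠ γ →
        muPair C.D.nroots (T.Y.U.hpos γ) (T.Y.U.hpos δ) < muPair C.D.nroots (T.Y.U.hpos r) (T.Y.U.hpos s) →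
        T.Brel Λ γ δ :=
      fun γ δ hγ hδ hδγ hlt => ih _ (hm ▸ hlt) γ δ hγ hδ hδγ rfl
    rcases htor r s hr hs hsr with hsep | hpre | ⟨hsep, hinv⟩
    · exact T.brel_pos_step Λ hcol2 r s hr hs hsr IH hsep
    · exact hpre
    · apply hinv
      refine T.brel_pos_step Λ hcol2 s r hs hr (Ne.symm hsr) ?_ hsep
      intro γ δ hγ hδ hδγ hlt
      rw [muPair_symm _ (T.Y.U.hpos s)] at hlt
      exact IH γ δ hγ hδ hδγ hlt

end

end Cfsg.Agent.Lib.Helper3.StV
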