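import Mathlib
import Cfsg.Prelude.Def_ChevStructure
import Cfsg.Agent.Lib.Helper3.StV15
import Cfsg.Agent.Lib.Helper3.ChevData.B2Univ
set_option autoImplicit false
set_option linter.unusedSectionVars false
set_option maxRecDepth 100000
open Cfsg Cfsg.Lie

/-! Type B₂ over the field with three elements: the torus centralizes the long root subgroups, and their lifts to a
perfect central extension are defined as commutators of the lifts of short root elements. This file has the lifts of the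
short root elements and their commutators. -/

namespace Cfsg.Agent.Lib.Helper3.StV

open ChevM ChevU ChevT ChevH StB StU
open scoped commutatorElement

/-- The short roots of type B₂. -/
def shortB (r : ℕ) : Bool := decide (r = 1) || decide (r = 2) || decide (r = 5) || decide (r = 6)

/-- The pair of short roots with sum the long root `ℓ`. -/
def pairOfB (ℓ : ℕ) : ℕ × ℕ := if ℓ = 0 then (1, 2) else if ℓ = 3 then (5, 1) else if ℓ = 4 then (6, 2) else (5, 6)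

/-- `a`, `b` are short roots with sum the long root `ℓ`. -/
def spOK (a b ℓ : ℕ) : Bool :=
  shortB a && shortB b && decide (ℓ < 8) && !shortB ℓ && decide (b ≠ a) && decide (b ≠ Cfsg.Lie.chevB2.neg a) &&
    (decide (Cfsg.Lie.chevB2.commTerms a b = [(ℓ, 2, 1, 1)]) || decide (Cfsg.Lie.chevB2.commTerms a b = [(ℓ, -2, 1, 1)])) &&
    commOK 2 3 Cfsg.Lie.chevB2 a ℓ && commOK 2 3 Cfsg.Lie.chevB2 b ℓ

theorem spOK_pairOf_fin : ∀ ℓ : Fin 8, shortB ℓ = false →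
    spOK (pairOfB ℓ).1 (pairOfB ℓ).2 ℓ = true ∧
      Cfsg.Lie.chevB2.commTerms (pairOfB ℓ).1 (pairOfB ℓ).2 = [((ℓ : ℕ), 2, 1, 1)] := by decide +kernel

theorem spOK_pairOf (ℓ : ℕ) (hℓ : ℓ < 8) (h : shortB ℓ = false) :
    spOK (pairOfB ℓ).1 (pairOfB ℓ).2 ℓ = true ∧
      Cfsg.Lie.chevB2.commTerms (pairOfB ℓ).1 (pairOfB ℓ).2 = [(ℓ, 2, 1, 1)] := spOK_pairOf_fin ⟨ℓ, hℓ⟩ h

theorem spOK_cases_fin : ∀ a b ℓ : Fin 8, spOK a b ℓ = true →
    ((a : ℕ), (b : ℕ)) = pairOfB ℓ ∨ ((b : ℕ), (a : ℕ)) = pairOfB ℓ := by decide +kernel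

theorem spOK_lt {a b ℓ : ℕ} (h : spOK a b ℓ = true) : a < 8 ∧ b < 8 ∧ ℓ < 8 := by
  simp only [spOK, shortB, Bool.and_eq_true, Bool.or_eq_true, decide_eq_true_eq] at h
  omega

theorem spOK_cases {a b ℓ : ℕ} (h : spOK a b ℓ = true) : (a, b) = pairOfB ℓ ∨ (b, a) = pairOfB ℓ := by
  obtain ⟨ha, hb, hℓ⟩ := spOK_lt h
  exact spOK_cases_fin ⟨a, ha⟩ ⟨b, hb⟩ ⟨ℓ, hℓ⟩ h

theorem spOK_refl_fin : ∀ (i : Fin 2) (a b ℓ : Fin 8), spOK a b ℓ = true →
    spOK (reflB2 i a) (reflB2 i b) (reflB2 i ℓ) = true := by decide +kernel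

theorem spOK_refl {i a b ℓ : ℕ} (hi : i < 2) (h : spOK a b ℓ = true) :
    spOK (reflB2 i a) (reflB2 i b) (reflB2 i ℓ) = true := by
  obtain ⟨ha, hb, hℓ⟩ := spOK_lt h
  exact spOK_refl_fin ⟨i, hi⟩ ⟨a, ha⟩ ⟨b, hb⟩ ⟨ℓ, hℓ⟩ h

theorem shortB_refl_fin : ∀ (i : Fin 2) (a : Fin 8), shortB (reflB2 i a) = shortB a := by decide +kernel

theorem shortB_refl {i a : ℕ} (hi : i < 2) (ha : a < 8) : shortB (reflB2 i a) = shortB a :=
  shortB_refl_fin ⟨i, hi⟩ ⟨a, ha⟩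

theorem shortB_cartan_fin : ∀ a : Fin 8, shortB a = true →
    Cfsg.Lie.chevB2.cartan 1 a = 1 ∨ Cfsg.Lie.chevB2.cartan 1 a = -1 := by decide +kernel

theorem shortB_lt : ∀ a, shortB a = true → a < 8 := by
  intro a h
  simp only [shortB, Bool.or_eq_true, decide_eq_true_eq] at h
  omega

theorem shortB_cartan {a : ℕ} (h : shortB a = true) :
    Cfsg.Lie.chevB2.cartan 1 a = 1 ∨ Cfsg.Lie.chevB2.cartan 1 a = -1 :=
  shortB_cartan_fin ⟨a, shortB_lt a h⟩ h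

end Cfsg.Agent.Lib.Helper3.StV
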