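import Mathlib
import Cfsg.Prelude.Def_ChevStructure
import Cfsg.Agent.Lib.Helper3.StV16
set_option autoImplicit false
set_option linter.unusedSectionVars false
set_option maxRecDepth 100000
open Cfsg Cfsg.Lie

/-! Type B₂ over the field with three elements: the lifts of the short root elements to a perfect central extension,
defined by the torus element `h_{p_2}(-1)`. -/

namespace Cfsg.Agent.Lib.Helper3.StV

open ChevM ChevU ChevT ChevH StB StU
open scoped commutatorElement

/-- The field has the three elements `0`, `1`, `-1`. -/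
structure F3Hyp (F : Type*) [Field F] : Prop where
  el : ∀ t : F, t = 0 ∨ t = 1 ∨ t = -1
  ch : ((3 : ℕ) : F) = 0

section
variable {F : Type*} [Field F] (hF : F3Hyp F)
include hF

theorem F3Hyp.neg_one_ne_one : (-1 : F) ≠ 1 := (primElNegOne hF.ch).hv1

theorem F3Hyp.prime : ∀ t : F, ∃ k : ℤ, t = (k : F) := by
  intro t
  rcases hF.el t with rfl | rfl | rfl
  · exact ⟨0, by simp⟩
  · exact ⟨1, by simp⟩
  · exact ⟨-1, by simp⟩

theorem F3Hyp.two_eq : (2 : F) = -1 := by
  have h3 : (3 : F) = 0 := by exact_mod_cast hF.ch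
  linear_combination h3

theorem F3Hyp.ne_zero_cases {v : F} (hv : v ≠ 0) : v = 1 ∨ v = -1 := by
  rcases hF.el v with h | h | h
  · exact absurd h hv
  · exact Or.inl h
  · exact Or.inr h

end

section
variable {F : Type*} [Field F] {Δ : Type*} [Group Δ] {S : StData cdB2 relB2 F Δ}
  {E : Type*} [Group E] (T : XExt S E) (hF : F3Hyp F)

/-- The lift of the torus element `h_{p_2}(-1)`. -/
noncomputable def XExt.g0 : E := T.lift (S.hS (cdB2.D.simple 1) (-1))

include hF in
theorem XExt.isTorAt_g0 {r : ℕ} (hs : shortB r = true) : T.IsTorAt T.g0 r (-1) := by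
  have hne : (-1 : F) ≠ 0 := neg_ne_zero.mpr one_ne_zero
  have hr : r < cdB2.D.nroots := shortB_lt r hs
  refine ⟨?_, ?_⟩
  · unfold XExt.g0
    rw [T.psi_lift]
    exact S.hS_mem_Hbar 1 (by decide) (-1) hne
  · intro u
    unfold XExt.g0
    rw [T.psi_lift, S.hS_conj T.Y 1 (by decide) (-1) hne r hr u]
    congr 1
    rcases shortB_cartan hs with h | h
    · have : cdB2.D.cartan 1 r = 1 := h
      rw [this, zpow_one]
    · have : cdB2.D.cartan 1 r = -1 := h
      rw [this, zpow_neg_one, inv_neg, inv_one]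

/-- The lifts of the short root elements. -/
noncomputable def XExt.Ls (r : ℕ) (t : F) : E := T.Lh T.g0 (-1) r t

variable {r : ℕ} (hs : shortB r = true)
include hF hs

theorem XExt.psi_Ls (t : F) : T.ψ (T.Ls r t) = S.X r t :=
  T.psi_Lh (T.isTorAt_g0 hF hs) hF.neg_one_ne_one t

theorem XExt.Ls_add (t u : F) : T.Ls r (t + u) = T.Ls r t * T.Ls r u :=
  T.Lh_add (T.isTorAt_g0 hF hs) hF.neg_one_ne_one (T.cm_self_of_prime hF.prime r) t u

theorem XExt.Ls_zero : T.Ls r 0 = 1 :=
  T.Lh_zero (T.isTorAt_g0 hF hs) hF.neg_one_ne_one (T.cm_self_of_prime hF.prime r)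

theorem XExt.Ls_neg (t : F) : T.Ls r (-t) = (T.Ls r t)⁻¹ :=
  T.Lh_neg (T.isTorAt_g0 hF hs) hF.neg_one_ne_one (T.cm_self_of_prime hF.prime r) t

theorem XExt.Ls_tor {g' : E} {v' : F} (hg' : T.IsTorAt g' r v') (t : F) :
    g' * T.Ls r t * g'⁻¹ = T.Ls r (v' * t) :=
  T.Lh_tor (T.isTorAt_g0 hF hs) hF.neg_one_ne_one (T.cm_self_of_prime hF.prime r) hg' t

theorem XExt.comm_tor_Ls {g' : E} {v' : F} (hg' : T.IsTorAt g' r v') {b : E} {t : F} (hb : T.ψ b = S.X r t) :
    ⁅g', b⁆ = T.Ls r ((v' - 1) * t) :=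
  T.comm_tor_eq (T.isTorAt_g0 hF hs) hF.neg_one_ne_one (T.cm_self_of_prime hF.prime r) hg' hb

end

section
variable {F : Type*} [Field F] {Δ : Type*} [Group Δ] {S : StData cdB2 relB2 F Δ}
  {E : Type*} [Group E] (T : XExt S E) (hF : F3Hyp F)

theorem shortB_reflW (l : List ℕ) (hl : ∀ i ∈ l, i < 2) {a : ℕ} (ha : a < 8) :
    reflW reflB2 l a < 8 ∧ shortB (reflW reflB2 l a) = shortB a := by
  induction l with
  | nil => exact ⟨ha, rfl⟩
  | cons i l ih =>
    have hl' : ∀ j ∈ l, j < 2 := fun j hj => hl j (List.mem_cons_of_mem _ hj)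
    obtain ⟨h1, h2⟩ := ih hl'
    have hi := hl i List.mem_cons_self
    refine ⟨?_, ?_⟩
    · show reflB2 i (reflW reflB2 l a) < 8
      exact relB2.refl_lt i hi _ h1
    · show shortB (reflB2 i (reflW reflB2 l a)) = shortB a
      rw [shortB_refl hi h1, h2]

include hF in
/-- Equivariance of the lifts of the short root elements under the monomial group. -/
theorem XExt.Ls_N (l : List ℕ) (hl : ∀ i ∈ l, i < cdB2.D.rank) {n : E} (hn : T.ψ n = S.wordN l) {r : ℕ}
    (hs : shortB r = true) (t : F) :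
    n * T.Ls r t * n⁻¹ = T.Ls (reflW relB2.refl l r) ((etaW relB2.refl relB2.eta l r : F) * t) := by
  have hr : r < cdB2.D.nroots := shortB_lt r hs
  have hr' := relB2.reflW_lt l hl r hr
  have hs' : shortB (reflW relB2.refl l r) = true := by
    have := (shortB_reflW l hl hr).2
    rw [hs] at this
    exact this
  have hsign := (relB2.conjRel_word (F := F) l hl).sign r hr
  have hη : ((etaW relB2.refl relB2.eta l r : ℤ) : F) * ((etaW relB2.refl relB2.eta l r : ℤ) : F) = 1 := eta_sq hsign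
  set η : F := ((etaW relB2.refl relB2.eta l r : ℤ) : F) with hηdef
  have hg := T.isTorAt_g0 hF hs
  have hv := hF.neg_one_ne_one
  have hv' : (-1 : F) - 1 ≠ 0 := sub_ne_zero.mpr hv
  have htor : T.IsTorAt (n * T.g0 * n⁻¹) (reflW relB2.refl l r) (-1) := by
    refine ⟨?_, ?_⟩
    · rw [map_mul, map_mul, map_inv, hn]
      exact S.wordN_conj_Hbar T.Y l hl _ hg.1
    · intro u
      have h1 := S.wordN_conj T.Y l hl r hr (η * u)
      rw [← hηdef, ← mul_assoc, hη, one_mul] at h1
      have h2 := S.wordN_conj T.Y l hl r hr (-1 * (η * u))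
      rw [← hηdef] at h2
      have h3 : η * (-1 * (η * u)) = -1 * u := by
        calc η * (-1 * (η * u)) = (η * η) * (-1 * u) := by ring
          _ = -1 * u := by rw [hη, one_mul]
      rw [h3] at h2
      rw [map_mul, map_mul, map_inv, hn, ← h1, ← h2, ← hg.2]
      group
  have hb : T.ψ (n * T.lift (S.X r (t / (-1 - 1))) * n⁻¹) = S.X (reflW relB2.refl l r) (η * (t / (-1 - 1))) := by
    rw [map_mul, map_mul, map_inv, hn, T.psi_lift, S.wordN_conj T.Y l hl r hr]
  show n * T.Lh T.g0 (-1) r t * n⁻¹ = _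
  unfold XExt.Lh
  rw [conj_comm, T.comm_tor_Ls hF hs' htor hb]
  congr 1
  field_simp

end

end Cfsg.Agent.Lib.Helper3.StV
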