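import Mathlib
import Cfsg.Prelude.Def_ChevStructure
import Cfsg.Agent.Lib.Helper3.StV17
set_option autoImplicit false
set_option linter.unusedSectionVars false
set_option maxRecDepth 100000
open Cfsg Cfsg.Lie

/-! Type B₂ over the field with three elements: the commutators of the lifts of short root elements, and the lifts of
the long root elements defined by them. -/

namespace Cfsg.Agent.Lib.Helper3.StV

open ChevM ChevU ChevT ChevH StB StU
open scoped commutatorElement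

theorem kel_swap {G : Type*} [Group G] (A B : G) : B⁻¹ * A⁻¹ * B * A = (A⁻¹ * B⁻¹ * A * B)⁻¹ := by group

theorem kel_mul_left {G : Type*} [Group G] (A A' B : G) :
    B⁻¹ * (A * A')⁻¹ * B * (A * A') = (B⁻¹ * A'⁻¹ * B * A') * (A'⁻¹ * (B⁻¹ * A⁻¹ * B * A) * A') := by group

theorem kel_mul_right {G : Type*} [Group G] (A B B' : G) :
    (B * B')⁻¹ * A⁻¹ * (B * B') * A = (B'⁻¹ * (B⁻¹ * A⁻¹ * B * A) * B') * (B'⁻¹ * A⁻¹ * B' * A) := by group

section
variable {F : Type*} [Field F] {Δ : Type*} [Group Δ] {S : StData cdB2 relB2 F Δ}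
  {E : Type*} [Group E] (T : XExt S E) (hF : F3Hyp F)

/-- The commutator of the lifts of two short root elements. -/
noncomputable def XExt.Kel (a b : ℕ) (t u : F) : E := (T.Ls b u)⁻¹ * (T.Ls a t)⁻¹ * T.Ls b u * T.Ls a t

include hF in
theorem XExt.commute_Ls_lift {a ℓ : ℕ} (hs : shortB a = true) (hℓ : ℓ < 8)
    (hc : commOK 2 3 Cfsg.Lie.chevB2 a ℓ = true) (t : F) {y : E} {x : F} (hy : T.ψ y = S.X ℓ x) :
    Commute (T.Ls a t) y := by
  have h1 := T.cm_eq a ℓ t x (T.psi_Ls hF hs t) hy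
  have h2 := T.cm_eq_one_of_commOK (primElNegOne hF.ch) (p := 3) hF.ch (shortB_lt a hs) hℓ hc t x
  rw [h2] at h1
  exact commutatorElement_eq_one_iff_commute.mp h1

variable {a b ℓ : ℕ} (h : spOK a b ℓ = true)
include hF h

theorem XExt.psi_Kel : ∃ c : ℤ, (c = 2 ∨ c = -2) ∧ cdB2.D.commTerms a b = [(ℓ, c, 1, 1)] ∧
    ∀ t u : F, T.ψ (T.Kel a b t u) = S.X ℓ ((c : F) * -t * u) := by
  simp only [spOK, Bool.and_eq_true, Bool.or_eq_true, Bool.not_eq_true', decide_eq_true_eq] at h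
  obtain ⟨⟨⟨⟨⟨⟨⟨⟨ha, hb⟩, hℓ⟩, -⟩, hba⟩, hneg⟩, hterms⟩, -⟩, -⟩ := h
  have ha8 : a < cdB2.D.nroots := shortB_lt a ha
  have hb8 : b < cdB2.D.nroots := shortB_lt b hb
  have key : ∀ c : ℤ, cdB2.D.commTerms a b = [(ℓ, c, 1, 1)] →
      ∀ t u : F, T.ψ (T.Kel a b t u) = S.X ℓ ((c : F) * -t * u) := by
    intro c hc t u
    unfold XExt.Kel
    simp only [map_mul, map_inv, T.psi_Ls hF ha, T.psi_Ls hF hb]
    rw [S.comm a ha8 b hb8 hba hneg t u, ChevalleyDatum.commWord, hc]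
    simp [wordS]
  rcases hterms with ht | ht
  · exact ⟨2, Or.inl rfl, ht, key 2 ht⟩
  · exact ⟨-2, Or.inr rfl, ht, key (-2) ht⟩

theorem XExt.Kel_add_left (t t' u : F) : T.Kel a b (t + t') u = T.Kel a b t u * T.Kel a b t' u := by
  obtain ⟨c, -, -, hψ⟩ := T.psi_Kel hF h
  have h' := h
  simp only [spOK, Bool.and_eq_true, Bool.or_eq_true, Bool.not_eq_true', decide_eq_true_eq] at h'
  obtain ⟨⟨⟨⟨⟨⟨⟨⟨ha, hb⟩, hℓ⟩, -⟩, -⟩, -⟩, -⟩, hca⟩, hcb⟩ := h'
  have e1 : T.Kel a b (t + t') u = T.Kel a b t' u * ((T.Ls a t')⁻¹ * T.Kel a b t u * T.Ls a t') := by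
    unfold XExt.Kel
    rw [T.Ls_add hF ha]
    exact kel_mul_left _ _ _
  have c1 := (T.commute_Ls_lift hF ha hℓ hca t' (hψ t u)).eq
  have e2 : (T.Ls a t')⁻¹ * T.Kel a b t u * T.Ls a t' = T.Kel a b t u := by
    calc (T.Ls a t')⁻¹ * T.Kel a b t u * T.Ls a t' = (T.Ls a t')⁻¹ * (T.Kel a b t u * T.Ls a t') := by group
      _ = (T.Ls a t')⁻¹ * (T.Ls a t' * T.Kel a b t u) := by rw [c1]
      _ = T.Kel a b t u := by group
  rw [e1, e2]
  exact T.commute_of_cm_self (T.cm_self_of_prime hF.prime ℓ) (hψ t' u) (hψ t u)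

theorem XExt.Kel_add_right (t u u' : F) : T.Kel a b t (u + u') = T.Kel a b t u * T.Kel a b t u' := by
  obtain ⟨c, -, -, hψ⟩ := T.psi_Kel hF h
  have h' := h
  simp only [spOK, Bool.and_eq_true, Bool.or_eq_true, Bool.not_eq_true', decide_eq_true_eq] at h'
  obtain ⟨⟨⟨⟨⟨⟨⟨⟨ha, hb⟩, hℓ⟩, -⟩, -⟩, -⟩, -⟩, hca⟩, hcb⟩ := h'
  have e1 : T.Kel a b t (u + u') = ((T.Ls b u')⁻¹ * T.Kel a b t u * T.Ls b u') * T.Kel a b t u' := by
    unfold XExt.Kel
    rw [T.Ls_add hF hb]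
    exact kel_mul_right _ _ _
  have c1 := (T.commute_Ls_lift hF hb hℓ hcb u' (hψ t u)).eq
  have e2 : (T.Ls b u')⁻¹ * T.Kel a b t u * T.Ls b u' = T.Kel a b t u := by
    calc (T.Ls b u')⁻¹ * T.Kel a b t u * T.Ls b u' = (T.Ls b u')⁻¹ * (T.Kel a b t u * T.Ls b u') := by group
      _ = (T.Ls b u')⁻¹ * (T.Ls b u' * T.Kel a b t u) := by rw [c1]
      _ = T.Kel a b t u := by group
  rw [e1, e2]

theorem XExt.Kel_zero_left (u : F) : T.Kel a b 0 u = 1 := by
  have := T.Kel_add_left hF h 0 0 u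
  rw [add_zero] at this
  exact (mul_eq_left.mp this.symm)

theorem XExt.Kel_zero_right (t : F) : T.Kel a b t 0 = 1 := by
  have := T.Kel_add_right hF h t 0 0
  rw [add_zero] at this
  exact (mul_eq_left.mp this.symm)

theorem XExt.Kel_neg_left (t u : F) : T.Kel a b (-t) u = (T.Kel a b t u)⁻¹ := by
  have := T.Kel_add_left hF h (-t) t u
  rw [neg_add_cancel, T.Kel_zero_left hF h] at this
  exact eq_inv_of_mul_eq_one_left this.symm

theorem XExt.Kel_neg_right (t u : F) : T.Kel a b t (-u) = (T.Kel a b t u)⁻¹ := by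
  have := T.Kel_add_right hF h t (-u) u
  rw [neg_add_cancel, T.Kel_zero_right hF h] at this
  exact eq_inv_of_mul_eq_one_left this.symm

/-- Over the field with three elements the commutator depends only on the product of the parameters. -/
theorem XExt.Kel_eq (t u : F) : T.Kel a b t u = T.Kel a b (t * u) 1 := by
  rcases hF.el u with rfl | rfl | rfl
  · rw [mul_zero, T.Kel_zero_right hF h, T.Kel_zero_left hF h]
  · rw [mul_one]
  · rw [T.Kel_neg_right hF h, mul_neg, mul_one, T.Kel_neg_left hF h]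

end

end Cfsg.Agent.Lib.Helper3.StV
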