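import Mathlib
import Cfsg.Prelude.Def_ChevStructure
import Cfsg.Agent.Lib.Helper3.StV18
set_option autoImplicit false
set_option linter.unusedSectionVars false
set_option maxRecDepth 100000
open Cfsg Cfsg.Lie

/-! Type B₂ over the field with three elements: the system of lifts of the root elements to a perfect central
extension. -/

namespace Cfsg.Agent.Lib.Helper3.StV

open ChevM ChevU ChevT ChevH StB StU
open scoped commutatorElement

theorem spOK_reflW (l : List ℕ) (hl : ∀ i ∈ l, i < 2) {a b ℓ : ℕ} (h : spOK a b ℓ = true) :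
    spOK (reflW reflB2 l a) (reflW reflB2 l b) (reflW reflB2 l ℓ) = true := by
  induction l with
  | nil => exact h
  | cons i l ih =>
    have hl' : ∀ j ∈ l, j < 2 := fun j hj => hl j (List.mem_cons_of_mem _ hj)
    exact spOK_refl (hl i List.mem_cons_self) (ih hl')

theorem conj_kel {G : Type*} [Group G] (g A B : G) :
    g * (B⁻¹ * A⁻¹ * B * A) * g⁻¹ = (g * B * g⁻¹)⁻¹ * (g * A * g⁻¹)⁻¹ * (g * B * g⁻¹) * (g * A * g⁻¹) := by group

section
variable {F : Type*} [Field F] {Δ : Type*} [Group Δ] {S : StData cdB2 relB2 F Δ}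
  {E : Type*} [Group E] (T : XExt S E) (hF : F3Hyp F)

/-- The group of the lifts of the elements of the long root subgroup `X_ℓ`. -/
def XExt.Vl (ℓ : ℕ) (hℓ : ℓ < 8) (hl : shortB ℓ = false) : Subgroup E where
  carrier := {y | ∃ x : F, y = T.Kel (pairOfB ℓ).1 (pairOfB ℓ).2 x 1}
  mul_mem' := by
    rintro _ _ ⟨x, rfl⟩ ⟨x', rfl⟩
    exact ⟨x + x', (T.Kel_add_left hF (spOK_pairOf ℓ hℓ hl).1 x x' 1).symm⟩
  one_mem' := ⟨0, (T.Kel_zero_left hF (spOK_pairOf ℓ hℓ hl).1 1).symm⟩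
  inv_mem' := by
    rintro _ ⟨x, rfl⟩
    exact ⟨-x, (T.Kel_neg_left hF (spOK_pairOf ℓ hℓ hl).1 x 1).symm⟩

theorem spOK_long {a b ℓ : ℕ} (h : spOK a b ℓ = true) : ℓ < 8 ∧ shortB ℓ = false := by
  simp only [spOK, Bool.and_eq_true, Bool.or_eq_true, Bool.not_eq_true', decide_eq_true_eq] at h
  exact ⟨h.1.1.1.1.1.1.2, h.1.1.1.1.1.2⟩

theorem XExt.mem_Vl_of_sp {a b ℓ : ℕ} (h : spOK a b ℓ = true) (t u : F) :
    T.Kel a b t u ∈ T.Vl hF ℓ (spOK_long h).1 (spOK_long h).2 := by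
  have hp := (spOK_pairOf ℓ (spOK_long h).1 (spOK_long h).2).1
  rcases spOK_cases h with e | e
  · have e1 : a = (pairOfB ℓ).1 := congrArg Prod.fst e
    have e2 : b = (pairOfB ℓ).2 := congrArg Prod.snd e
    refine ⟨t * u, ?_⟩
    rw [← e1, ← e2]
    exact T.Kel_eq hF h t u
  · have e1 : b = (pairOfB ℓ).1 := congrArg Prod.fst e
    have e2 : a = (pairOfB ℓ).2 := congrArg Prod.snd e
    refine ⟨-(u * t), ?_⟩
    rw [T.Kel_neg_left hF hp, ← T.Kel_eq hF hp, ← e1, ← e2]
    exact kel_swap _ _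

theorem XExt.Vl_inj (ℓ : ℕ) (hℓ : ℓ < 8) (hl : shortB ℓ = false) {y z : E} (hy : y ∈ T.Vl hF ℓ hℓ hl)
    (hz : z ∈ T.Vl hF ℓ hℓ hl) (hyz : T.ψ y = T.ψ z) : y = z := by
  obtain ⟨x, rfl⟩ := hy
  obtain ⟨x', rfl⟩ := hz
  obtain ⟨c, hc, -, hψ⟩ := T.psi_Kel hF (spOK_pairOf ℓ hℓ hl).1
  rw [hψ, hψ] at hyz
  have h2 := congrArg S.φ hyz
  rw [S.φX ℓ hℓ, S.φX ℓ hℓ] at h2
  have h3 := xU_inj T.Y ℓ hℓ _ _ h2
  have hc0 : (c : F) ≠ 0 := by
    have h2ne : (2 : F) ≠ 0 := by rw [hF.two_eq]; exact neg_ne_zero.mpr one_ne_zero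
    rcases hc with rfl | rfl
    · simpa using h2ne
    · simpa using h2ne
  have : x = x' := by
    have h4 : (c : F) * -x = (c : F) * -x' := by simpa using h3
    have := mul_left_cancel₀ hc0 h4
    exact neg_inj.mp this
  rw [this]

/-- The lifts of the long root elements. -/
noncomputable def XExt.Ll (ℓ : ℕ) (x : F) : E := T.Kel (pairOfB ℓ).1 (pairOfB ℓ).2 x 1

theorem XExt.Ll_mem (ℓ : ℕ) (hℓ : ℓ < 8) (hl : shortB ℓ = false) (x : F) : T.Ll ℓ x ∈ T.Vl hF ℓ hℓ hl := ⟨x, rfl⟩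

include hF in
theorem XExt.psi_Ll (ℓ : ℕ) (hℓ : ℓ < 8) (hl : shortB ℓ = false) (x : F) : T.ψ (T.Ll ℓ x) = S.X ℓ x := by
  obtain ⟨c, hc, hterms, hψ⟩ := T.psi_Kel hF (spOK_pairOf ℓ hℓ hl).1
  have h2 : cdB2.D.commTerms (pairOfB ℓ).1 (pairOfB ℓ).2 = [(ℓ, 2, 1, 1)] := (spOK_pairOf ℓ hℓ hl).2
  rw [hterms] at h2
  have hc2 : c = 2 := by
    have := List.head_eq_of_cons_eq h2
    simpa using this
  unfold XExt.Ll
  rw [hψ, hc2]
  congr 1
  have := hF.two_eq
  push_cast
  rw [this]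
  ring

/-- The lifts of all root elements. -/
noncomputable def XExt.Lb (r : ℕ) (t : F) : E :=
  if shortB r = true then T.Ls r t else if r < 8 then T.Ll r t else 1

theorem XExt.Lb_short {r : ℕ} (hs : shortB r = true) (t : F) : T.Lb r t = T.Ls r t := by
  unfold XExt.Lb
  rw [if_pos hs]

theorem XExt.Lb_long {r : ℕ} (hr : r < 8) (hl : shortB r = false) (t : F) : T.Lb r t = T.Ll r t := by
  unfold XExt.Lb
  rw [if_neg (by rw [hl]; exact Bool.false_ne_true), if_pos hr]

/-- The system of lifts of type B₂ over the field with three elements. -/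
noncomputable def XExt.lsysB : T.LSys where
  L := T.Lb
  L_out := by
    intro r hr t
    have hr' : ¬ r < 8 := hr
    unfold XExt.Lb
    have hs : ¬ shortB r = true := fun h => hr' (shortB_lt r h)
    rw [if_neg hs, if_neg hr']
  psi_L := by
    intro r hr t
    by_cases hs : shortB r = true
    · rw [T.Lb_short hs]; exact T.psi_Ls hF hs t
    · have hl : shortB r = false := by simpa using hs
      rw [T.Lb_long hr hl]; exact T.psi_Ll hF r hr hl t
  L_add := by
    intro r hr t u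
    by_cases hs : shortB r = true
    · rw [T.Lb_short hs, T.Lb_short hs, T.Lb_short hs]; exact T.Ls_add hF hs t u
    · have hl : shortB r = false := by simpa using hs
      rw [T.Lb_long hr hl, T.Lb_long hr hl, T.Lb_long hr hl]
      exact T.Kel_add_left hF (spOK_pairOf r hr hl).1 t u 1
  L_tor := by
    intro r hr g v hg t
    by_cases hs : shortB r = true
    · rw [T.Lb_short hs, T.Lb_short hs]; exact T.Ls_tor hF hs hg t
    · have hl : shortB r = false := by simpa using hs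
      rw [T.Lb_long hr hl, T.Lb_long hr hl]
      have hsp := (spOK_pairOf r hr hl).1
      obtain ⟨χ, -, hχ⟩ := S.Hbar_diag T.Y (T.ψ g) hg.1
      have hsp' := hsp
      simp only [spOK, Bool.and_eq_true, Bool.or_eq_true, Bool.not_eq_true', decide_eq_true_eq] at hsp'
      have ha := hsp'.1.1.1.1.1.1.1.1
      have hb := hsp'.1.1.1.1.1.1.1.2
      have ta : T.IsTorAt g (pairOfB r).1 (χ (pairOfB r).1) := ⟨hg.1, hχ _ (shortB_lt _ ha)⟩
      have tb : T.IsTorAt g (pairOfB r).2 (χ (pairOfB r).2) := ⟨hg.1, hχ _ (shortB_lt _ hb)⟩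
      have e1 : g * T.Ll r t * g⁻¹ =
          T.Kel (pairOfB r).1 (pairOfB r).2 (χ (pairOfB r).1 * t) (χ (pairOfB r).2 * 1) := by
        unfold XExt.Ll XExt.Kel
        rw [conj_kel, T.Ls_tor hF ha ta, T.Ls_tor hF hb tb]
      apply T.Vl_inj hF r hr hl
      · rw [e1]; exact T.mem_Vl_of_sp hF hsp _ _
      · exact T.Ll_mem hF r hr hl _
      · rw [map_mul, map_mul, map_inv, T.psi_Ll hF r hr hl, T.psi_Ll hF r hr hl, hg.2]
  L_N := by
    intro l hl n hn r hr t
    have hl2 : ∀ i ∈ l, i < 2 := hl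
    have hrefl : relB2.refl = reflB2 := rfl
    by_cases hs : shortB r = true
    · have hs' : shortB (reflW relB2.refl l r) = true := by
        rw [hrefl, (shortB_reflW l hl2 hr).2, hs]
      rw [T.Lb_short hs, T.Lb_short hs']
      exact T.Ls_N hF l hl hn hs t
    · have hl' : shortB r = false := by simpa using hs
      have hr' : reflW relB2.refl l r < 8 := by rw [hrefl]; exact (shortB_reflW l hl2 hr).1
      have hl'' : shortB (reflW relB2.refl l r) = false := by
        rw [hrefl, (shortB_reflW l hl2 hr).2, hl']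
      rw [T.Lb_long hr hl', T.Lb_long hr' hl'']
      have hsp := (spOK_pairOf r hr hl').1
      have hsp' := hsp
      simp only [spOK, Bool.and_eq_true, Bool.or_eq_true, Bool.not_eq_true', decide_eq_true_eq] at hsp'
      have ha := hsp'.1.1.1.1.1.1.1.1
      have hb := hsp'.1.1.1.1.1.1.1.2
      have hspw := spOK_reflW l hl2 hsp
      have e1 : n * T.Ll r t * n⁻¹ =
          T.Kel (reflW relB2.refl l (pairOfB r).1) (reflW relB2.refl l (pairOfB r).2)
            ((etaW relB2.refl relB2.eta l (pairOfB r).1 : F) * t)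
            ((etaW relB2.refl relB2.eta l (pairOfB r).2 : F) * 1) := by
        unfold XExt.Ll XExt.Kel
        rw [conj_kel, T.Ls_N hF l hl hn ha, T.Ls_N hF l hl hn hb]
      have hmem : n * T.Ll r t * n⁻¹ ∈ T.Vl hF (reflW relB2.refl l r) hr' hl'' := by
        rw [e1]
        exact T.mem_Vl_of_sp hF hspw _ _
      apply T.Vl_inj hF _ hr' hl'' hmem (T.Ll_mem hF _ hr' hl'' _)
      rw [map_mul, map_mul, map_inv, T.psi_Ll hF r hr hl', T.psi_Ll hF _ hr' hl'', hn,
        S.wordN_conj T.Y l hl r hr]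

end

end Cfsg.Agent.Lib.Helper3.StV
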