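import Mathlib
import Cfsg.Prelude.Def_ChevStructure
import Cfsg.Agent.Lib.Helper3.StV19
set_option autoImplicit false
set_option linter.unusedSectionVars false
set_option maxRecDepth 100000
open Cfsg Cfsg.Lie

/-! Type B₂ over the field with three elements: the commutator relations of the pairs of positive roots not separated
by a torus element. -/

namespace Cfsg.Agent.Lib.Helper3.StV

open ChevM ChevU ChevT ChevH StB StU
open scoped commutatorElement

/-- An element commuting with `A` and moving `B` by an element commuting with `A` commutes with `⁅A, B⁆`. -/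
theorem commute_comm_of {G : Type*} [Group G] {y A B M z : G} (h1 : Commute y A)
    (h2 : y⁻¹ * B * y = B * M * z) (hz : z ∈ Subgroup.center G) (h3 : Commute A M) : Commute y ⁅A, B⁆ := by
  have hA : y⁻¹ * A * y = A := by
    rw [mul_assoc, ← h1.eq, ← mul_assoc, inv_mul_cancel, one_mul]
  have hz' := Subgroup.mem_center_iff.mp hz
  have e : y⁻¹ * ⁅A, B⁆ * y = ⁅y⁻¹ * A * y, y⁻¹ * B * y⁆ := by
    rw [commutatorElement_def, commutatorElement_def]; group
  have key : y⁻¹ * ⁅A, B⁆ * y = ⁅A, B⁆ := by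
    rw [e, hA, h2, commutatorElement_def, commutatorElement_def]
    have e1 : A * (B * M * z) * A⁻¹ * (B * M * z)⁻¹ = A * B * M * (z * A⁻¹ * z⁻¹) * M⁻¹ * B⁻¹ := by group
    have e2 : z * A⁻¹ * z⁻¹ = A⁻¹ := by rw [← hz' A⁻¹]; group
    have e3 : M * A⁻¹ = A⁻¹ * M := (h3.inv_left.symm).eq
    rw [e1, e2]
    calc A * B * M * A⁻¹ * M⁻¹ * B⁻¹ = A * B * (M * A⁻¹) * M⁻¹ * B⁻¹ := by group
      _ = A * B * (A⁻¹ * M) * M⁻¹ * B⁻¹ := by rw [e3]
      _ = _ := by group
  show y * ⁅A, B⁆ = ⁅A, B⁆ * y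
  calc y * ⁅A, B⁆ = y * (y⁻¹ * ⁅A, B⁆ * y) := by rw [key]
    _ = ⁅A, B⁆ * y := by group

theorem commute_wordS {F : Type*} {G : Type*} [Group G] (L : ℕ → F → G) (A : G) (w : List (ℕ × F))
    (h : ∀ p ∈ w, Commute A (L p.1 p.2)) : Commute A (wordS L w) := by
  induction w with
  | nil => rw [wordS_nil]; exact Commute.one_right A
  | cons p w ih =>
    rw [wordS_cons]
    exact (h p List.mem_cons_self).mul_right (ih fun q hq => h q (List.mem_cons_of_mem _ hq))

theorem posB_fin : ∀ r : Fin 8, Cfsg.Lie.chevB2.IsPosRoot r → (r : ℕ) = 4 ∨ (r : ℕ) = 5 ∨ (r : ℕ) = 6 ∨ (r : ℕ) = 7 := by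
  decide +kernel

theorem posB {r : ℕ} (h : cdB2.D.IsPosRoot r) : r = 4 ∨ r = 5 ∨ r = 6 ∨ r = 7 :=
  posB_fin ⟨r, h.1⟩ h

theorem termsB_72 : cdB2.D.commTerms 7 2 = [(6, -1, 1, 1), (4, -1, 1, 2)] := by decide +kernel
theorem termsB_45 : cdB2.D.commTerms 4 5 = [(6, 1, 1, 1), (7, -1, 1, 2)] := by decide +kernel
theorem termsB_54 : cdB2.D.commTerms 5 4 = [(6, -1, 1, 1), (7, -1, 2, 1)] := by decide +kernel
theorem commOKB_67 : commOK 2 3 cdB2.D 6 7 = true := by decide +kernel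
theorem commOKB_64 : commOK 2 3 cdB2.D 6 4 = true := by decide +kernel
theorem commOKB_46 : commOK 2 3 cdB2.D 4 6 = true := by decide +kernel
theorem commOKB_75 : commOK 2 3 cdB2.D 7 5 = true := by decide +kernel
theorem commOKB_76 : commOK 2 3 cdB2.D 7 6 = true := by decide +kernel
theorem nilPB_46 : nilP 3 cdB2.D 4 6 = true := by decide +kernel
theorem nilPB_75 : nilP 3 cdB2.D 7 5 = true := by decide +kernel
theorem nilPB_76 : nilP 3 cdB2.D 7 6 = true := by decide +kernel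
theorem nilPB_47 : nilP 3 cdB2.D 4 7 = true := by decide +kernel
theorem nilPB_74 : nilP 3 cdB2.D 7 4 = true := by decide +kernel
theorem sepB_54 : sepBy 2 cdB2.D 5 4 = true := by decide +kernel
theorem sepB_64 : sepBy 2 cdB2.D 6 4 = true := by decide +kernel
theorem sepB_57 : sepBy 2 cdB2.D 5 7 = true := by decide +kernel
theorem sepB_67 : sepBy 2 cdB2.D 6 7 = true := by decide +kernel
theorem spOKB_56 : spOK 5 6 7 = true := by decide +kernel
theorem spOKB_65 : spOK 6 5 7 = true := by decide +kernel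

section
variable {F : Type*} [Field F] {Δ : Type*} [Group Δ] {S : StData cdB2 relB2 F Δ}
  {E : Type*} [Group E] (T : XExt S E) (hF : F3Hyp F)
include hF

theorem XExt.lsysB_short {r : ℕ} (hs : shortB r = true) (t : F) : (T.lsysB hF).L r t = T.Ls r t :=
  T.Lb_short hs t

theorem XExt.lsysB_long {r : ℕ} (hr : r < 8) (hl : shortB r = false) (t : F) : (T.lsysB hF).L r t = T.Ll r t :=
  T.Lb_long hr hl t

/-- The lifts of the root subgroups of the two orthogonal long positive roots commute. -/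
theorem XExt.cmB_47 (t u : F) : T.cm 4 7 t u = 1 := by
  set Λ := T.lsysB hF with hΛ
  have h4 : (4 : ℕ) < cdB2.D.nroots := by decide
  have h6 : (6 : ℕ) < cdB2.D.nroots := by decide
  have h7 : (7 : ℕ) < cdB2.D.nroots := by decide
  have h2 : (2 : ℕ) < cdB2.D.nroots := by decide
  have hs6 : shortB 6 = true := rfl
  have hs2 : shortB 2 = true := rfl
  have hy : T.ψ (Λ.L 7 u) = S.X 7 u := Λ.psi_L 7 h7 u
  have key : ∀ a b : F, Commute (Λ.L 7 u) ⁅T.Ls 6 a, T.Ls 2 b⁆ := by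
    intro a b
    have hlt : ∀ p ∈ cdB2.D.commWord F 7 2 u b, p.1 < cdB2.D.nroots := by
      intro p hp
      rw [ChevalleyDatum.commWord, termsB_72] at hp
      simp only [List.map_cons, List.map_nil, List.mem_cons, List.not_mem_nil, or_false] at hp
      rcases hp with rfl | rfl
      · exact h6
      · exact h4
    have hz : (wordS Λ.L (cdB2.D.commWord F 7 2 u b))⁻¹ *
        ((T.Ls 2 b)⁻¹ * (Λ.L 7 u)⁻¹ * T.Ls 2 b * Λ.L 7 u) ∈ Subgroup.center E := by
      apply T.central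
      rw [MonoidHom.mem_ker]
      simp only [map_mul, map_inv]
      rw [T.psi_wordS Λ _ hlt, hy, T.psi_Ls hF hs2 b,
        S.comm 7 h7 2 h2 (by decide) (by decide) u b, inv_mul_cancel]
    refine commute_comm_of (M := wordS Λ.L (cdB2.D.commWord F 7 2 u b)) ?_ ?_ hz ?_
    · exact (T.commute_Ls_lift hF hs6 h7 commOKB_67 a hy).symm
    · group
    · apply commute_wordS
      intro p hp
      rw [ChevalleyDatum.commWord, termsB_72] at hp
      simp only [List.map_cons, List.map_nil, List.mem_cons, List.not_mem_nil, or_false] at hp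
      rcases hp with rfl | rfl
      · show T.Ls 6 a * Λ.L 6 _ = Λ.L 6 _ * T.Ls 6 a
        exact T.commute_of_cm_self (T.cm_self_of_prime hF.prime 6) (T.psi_Ls hF hs6 a) (Λ.psi_L 6 h6 _)
      · exact T.commute_Ls_lift hF hs6 h4 commOKB_64 a (Λ.psi_L 4 h4 _)
  have e4 : Λ.L 4 t = (⁅T.Ls 6 (-t), T.Ls 2 (-1)⁆)⁻¹ := by
    rw [hΛ, T.lsysB_long hF h4 rfl, T.Ls_neg hF hs6, T.Ls_neg hF hs2, commutatorElement_def]
    show T.Kel 6 2 t 1 = _
    unfold XExt.Kel
    group
  have hc : Commute (Λ.L 4 t) (Λ.L 7 u) := by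
    rw [e4]
    exact ((key (-t) (-1)).inv_right).symm
  rw [← T.cm_eq 4 7 t u (Λ.psi_L 4 h4 t) hy]
  exact commutatorElement_eq_one_iff_commute.mpr hc

theorem XExt.cmB_74 (t u : F) : T.cm 7 4 t u = 1 := by
  rw [T.cm_symm 4 7 u t, T.cmB_47 hF, inv_one]

/-- The commutator relation of two short roots with sum a long root. -/
theorem XExt.brelB_short {a b ℓ : ℕ} (h : spOK a b ℓ = true) : T.Brel (T.lsysB hF) a b := by
  intro t u
  obtain ⟨c, -, hterms, hψ⟩ := T.psi_Kel hF h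
  have h' := h
  simp only [spOK, Bool.and_eq_true, Bool.or_eq_true, Bool.not_eq_true', decide_eq_true_eq] at h'
  obtain ⟨⟨⟨⟨⟨⟨⟨⟨ha, hb⟩, hℓ⟩, hl⟩, -⟩, -⟩, -⟩, -⟩, -⟩ := h'
  rw [T.lsysB_short hF ha, T.lsysB_short hF hb, ChevalleyDatum.commWord, hterms]
  simp only [List.map_cons, List.map_nil, wordS_cons, wordS_nil, mul_one, pow_one]
  rw [T.lsysB_long hF hℓ hl]
  apply T.Vl_inj hF ℓ hℓ hl (T.mem_Vl_of_sp hF h t u) (T.Ll_mem hF ℓ hℓ hl _)
  rw [T.psi_Ll hF ℓ hℓ hl]
  exact hψ t u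

/-- The relation of the pair `(p₂, p₁)` from the relation of `(p₁, p₂)`. -/
theorem XExt.brelB_45 (h : T.Brel (T.lsysB hF) 5 4) : T.Brel (T.lsysB hF) 4 5 := by
  intro t u
  set Λ := T.lsysB hF with hΛ
  have h6 : (6 : ℕ) < cdB2.D.nroots := by decide
  have h7 : (7 : ℕ) < cdB2.D.nroots := by decide
  have h1 := h u t
  rw [ChevalleyDatum.commWord, termsB_54] at h1
  simp only [List.map_cons, List.map_nil, wordS_cons, wordS_nil, mul_one, pow_one] at h1
  rw [ChevalleyDatum.commWord, termsB_45]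
  simp only [List.map_cons, List.map_nil, wordS_cons, wordS_nil, mul_one, pow_one]
  rw [kel_swap, h1, mul_inv_rev, ← Λ.L_neg T h6, ← Λ.L_neg T h7]
  have hc := (T.commute_of_commOK Λ (primElNegOne hF.ch) (p := 3) hF.ch h6 h7 commOKB_67
    (-(((-1 : ℤ) : F) * -u * t)) (-(((-1 : ℤ) : F) * (-u) ^ 2 * t))).eq
  rw [← hc]
  congr 2
  · push_cast; ring
  · push_cast; ring

end

end Cfsg.Agent.Lib.Helper3.StV
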