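import Mathlib
import Cfsg.Prelude.Def_ChevStructure
import Cfsg.Prelude.Def_SteinbergCover
import Cfsg.Agent.Lib.Helper3.StV20
import Cfsg.Agent.Lib.Helper3.ChevData.B2CommData
set_option autoImplicit false
set_option linter.unusedSectionVars false
set_option maxRecDepth 100000
open Cfsg Cfsg.Lie

/-! Every central extension of the group of type B₂ presented by Steinberg's relators (R1), (R2) over the field with
three elements splits. -/

namespace Cfsg.Agent.Lib.Helper3.StV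

open ChevM ChevU ChevT ChevH StB StU
open scoped commutatorElement

section
variable {F : Type*} [Field F] {Δ : Type*} [Group Δ] {S : StData cdB2 relB2 F Δ}
  {E : Type*} [Group E] (T : XExt S E) (hF : F3Hyp F)
include hF

theorem XExt.sepB_three (r s : ℕ) (hr : cdB2.D.IsPosRoot r) (hs : cdB2.D.IsPosRoot s) (hsr : s ≠ r) :
    (∃ (g : E) (χ : ℕ → F), T.IsTor g χ ∧ χ r ≠ 1 ∧ χ s = 1) ∨ T.Brel (T.lsysB hF) r s ∨
      ((∃ (g : E) (χ : ℕ → F), T.IsTor g χ ∧ χ s ≠ 1 ∧ χ r = 1) ∧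
        (T.Brel (T.lsysB hF) s r → T.Brel (T.lsysB hF) r s)) := by
  have h4 : (4 : ℕ) < cdB2.D.nroots := by decide
  have h5 : (5 : ℕ) < cdB2.D.nroots := by decide
  have h6 : (6 : ℕ) < cdB2.D.nroots := by decide
  have h7 : (7 : ℕ) < cdB2.D.nroots := by decide
  have hsep : ∀ {r s : ℕ}, sepBy 2 cdB2.D r s = true →
      ∃ (g : E) (χ : ℕ → F), T.IsTor g χ ∧ χ r ≠ 1 ∧ χ s = 1 :=
    fun h => T.exists_sep (primElNegOne (F := F) hF.ch) h
  have hcm : ∀ {r s : ℕ}, r < cdB2.D.nroots → s < cdB2.D.nroots → commOK 2 3 cdB2.D r s = true →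
      ∀ t u : F, T.cm r s t u = 1 :=
    fun hr hs h => T.cm_eq_one_of_commOK (primElNegOne (F := F) hF.ch) (p := 3) hF.ch hr hs h
  rcases posB hr with rfl | rfl | rfl | rfl <;> rcases posB hs with rfl | rfl | rfl | rfl
  · exact absurd rfl hsr
  · exact Or.inr (Or.inr ⟨hsep sepB_54, T.brelB_45 hF⟩)
  · exact Or.inr (Or.inl (T.brel_of_cm _ hF.ch h4 h6 nilPB_46 (hcm h4 h6 commOKB_46)))
  · exact Or.inr (Or.inl (T.brel_of_cm _ hF.ch h4 h7 nilPB_47 (T.cmB_47 hF)))
  · exact Or.inl (hsep sepB_54)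
  · exact absurd rfl hsr
  · exact Or.inr (Or.inl (T.brelB_short hF spOKB_56))
  · exact Or.inl (hsep sepB_57)
  · exact Or.inl (hsep sepB_64)
  · exact Or.inr (Or.inl (T.brelB_short hF spOKB_65))
  · exact absurd rfl hsr
  · exact Or.inl (hsep sepB_67)
  · exact Or.inr (Or.inl (T.brel_of_cm _ hF.ch h7 h4 nilPB_74 (T.cmB_74 hF)))
  · exact Or.inr (Or.inl (T.brel_of_cm _ hF.ch h7 h5 nilPB_75 (hcm h7 h5 commOKB_75)))
  · exact Or.inr (Or.inl (T.brel_of_cm _ hF.ch h7 h6 nilPB_76 (hcm h7 h6 commOKB_76)))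
  · exact absurd rfl hsr

end

section
universe u v
variable {F : Type u} [Field F]

/-- Every central extension of the group of type B₂ presented by (R1), (R2) over the field with three elements
splits. -/
theorem cover_split_B2_three (h3 : ∀ t : F, t = 0 ∨ t = 1 ∨ t = -1) (hp : ((3 : ℕ) : F) = 0)
    (hperf : commutator (cdB2.D.SteinbergCover F) = ⊤)
    {E : Type v} [Group E] (ψ : E →* cdB2.D.SteinbergCover F) (hsurj : Function.Surjective ψ)
    (hc : ψ.ker ≤ Subgroup.center E) : ∃ s : cdB2.D.SteinbergCover F →* E, ψ.comp s = MonoidHom.id _ := by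
  have hF : F3Hyp F := ⟨h3, hp⟩
  refine cover_split_of_lsys3 commB2 univHypB2 hperf ?_ ψ hsurj hc
  intro Δ _ S E' _ T _
  exact ⟨T.lsysB hF, T.sepB_three hF⟩

end

end Cfsg.Agent.Lib.Helper3.StV
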