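import Mathlib
import Cfsg.Agent.Lib.Lead.NormalRankTwo
import Cfsg.Agent.Lib.Lead.CyclicP
import Cfsg.Agent.Lib.Lead.RankThree5
import Cfsg.Agent.Lib.Helper3.Count

set_option autoImplicit false

namespace Cfsg.Agent.Lib.Helper3.NormalSq

open Cfsg.Agent.Lib.Lead
open scoped commutatorElement
open scoped IsMulCommutative

section
variable {P : Type*} [Group P]

theorem card_subgroupOf_of_le' {H A : Subgroup P} (h : H ≤ A) :
    Nat.card (H.subgroupOf A) = Nat.card H :=
  Nat.card_congr (Subgroup.subgroupOfEquivOfLe h).toEquiv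

theorem orderOf_conj'' (g x : P) : orderOf (g * x * g⁻¹) = orderOf x := by
  rw [← MulAut.conj_apply]; exact MulEquiv.orderOf_eq _ _

/-- subgroups of a cyclic subgroup are ordered by divisibility of their orders -/
theorem le_of_card_dvd_of_le_cyclic [Finite P] (A : Subgroup P) [IsCyclic A] {H K : Subgroup P}
    (hH : H ≤ A) (hK : K ≤ A) (h : Nat.card H ∣ Nat.card K) : H ≤ K := by
  have h1 : H.subgroupOf A ≤ K.subgroupOf A := by
    apply le_of_card_dvd_of_isCyclic
    rw [card_subgroupOf_of_le' hH, card_subgroupOf_of_le' hK]; exact h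
  intro x hx
  have := h1 (show (⟨x, hH hx⟩ : A) ∈ H.subgroupOf A from Subgroup.mem_subgroupOf.mpr hx)
  exact Subgroup.mem_subgroupOf.mp this

/-- a subgroup of exponent `n` of a cyclic subgroup has order at most `n` -/
theorem card_le_of_le_cyclic_of_exp [Finite P] (A : Subgroup P) [IsCyclic A] {H : Subgroup P}
    (hH : H ≤ A) (n : ℕ) (hn : 0 < n) (h : ∀ x ∈ H, x ^ n = 1) : Nat.card H ≤ n := by
  rw [← card_subgroupOf_of_le' hH]
  apply card_le_of_forall_pow_eq_one (H.subgroupOf A) n hn
  intro x hx
  apply Subtype.ext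
  rw [Subgroup.coe_pow, Subgroup.coe_one]
  exact h _ (Subgroup.mem_subgroupOf.mp hx)

/-- commutators centralise a cyclic normal subgroup -/
theorem commutator_mem_centralizer_of_isCyclic (A : Subgroup P) [hAn : A.Normal] [hA : IsCyclic A]
    (g h : P) : g * h * g⁻¹ * h⁻¹ ∈ Subgroup.centralizer (A : Set P) := by
  let _ := (hA.mulAutMulEquiv _).toMonoidHom.commGroupOfInjective (hA.mulAutMulEquiv _).injective
  have h1 := Abelianization.commutator_subset_ker A.normalizerMonoidHom
  rw [Subgroup.normalizerMonoidHom_ker] at h1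
  have hg : g ∈ Subgroup.normalizer (A : Set P) := by rw [Subgroup.normalizer_eq_top]; trivial
  have hh : h ∈ Subgroup.normalizer (A : Set P) := by rw [Subgroup.normalizer_eq_top]; trivial
  have h2 : ⁅(⟨g, hg⟩ : Subgroup.normalizer (A : Set P)), ⟨h, hh⟩⁆ ∈
      commutator (Subgroup.normalizer (A : Set P)) := by
    rw [commutator_def]
    exact Subgroup.commutator_mem_commutator (Subgroup.mem_top _) (Subgroup.mem_top _)
  have h3 := h1 h2
  rw [Subgroup.mem_subgroupOf] at h3
  simpa [commutatorElement_def] using h3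

end

section
variable {P : Type*} [Group P] [Finite P]

omit [Finite P] in
theorem relIndex_mul_card'' {H L : Subgroup P} (hHL : H ≤ L) :
    H.relIndex L * Nat.card H = Nat.card L := by
  have h1 := Subgroup.card_mul_index (H.subgroupOf L)
  rw [card_subgroupOf_of_le' hHL] at h1
  unfold Subgroup.relIndex
  rw [mul_comm]; exact h1

/-- the index of the centraliser of `x` is at most the size of any set containing all conjugates
of `x` -/
theorem index_centralizer_le_card (x : P) (T : Set P) (h : ∀ g : P, g * x * g⁻¹ ∈ T) :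
    (Subgroup.centralizer ({x} : Set P)).index ≤ Nat.card T := by
  have h1 := Cfsg.Agent.Lib.Helper3.card_conj_class_mul_card_centralizer x
  have h2 := Subgroup.index_mul_card (Subgroup.centralizer ({x} : Set P))
  have h3 : Nat.card {g : P // IsConj x g} = (Subgroup.centralizer ({x} : Set P)).index := by
    have hpos : 0 < Nat.card (Subgroup.centralizer ({x} : Set P)) := Nat.card_pos
    apply Nat.eq_of_mul_eq_mul_right hpos
    rw [h1, h2]
  rw [← h3]
  let ι : {g : P // IsConj x g} → T := fun y => ⟨y.1, by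
    obtain ⟨c, hc⟩ := isConj_iff.mp y.2
    rw [← hc]; exact h c⟩
  apply Nat.card_le_card_of_injective ι
  intro a b hab
  apply Subtype.ext
  exact congrArg (fun z : T => (z : P)) hab

/-- `|E| ≤ |P : C| |E ∩ C|` -/
theorem card_le_index_mul_card_inf (E C : Subgroup P) :
    Nat.card E ≤ C.index * Nat.card ↥(E ⊓ C) := by
  have h1 := relIndex_mul_card'' (inf_le_left : E ⊓ C ≤ E)
  rw [Subgroup.inf_relIndex_left] at h1
  have h2 : C.relIndex E ≤ C.relIndex ⊤ :=
    Subgroup.relIndex_le_of_le_right le_top (by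
      rw [Subgroup.relIndex_top_right]; exact Subgroup.index_ne_zero_of_finite)
  rw [Subgroup.relIndex_top_right] at h2
  rw [← h1]
  exact Nat.mul_le_mul_right _ h2

/-- the cyclic case: a `2`-group with a self-centralising cyclic normal subgroup and an elementary
abelian subgroup of order greater than `4` has a normal four-subgroup -/
theorem exists_normal_four_of_cyclic (hP : IsPGroup 2 P) (A : Subgroup P) [hAn : A.Normal]
    [hAc : IsCyclic A] (hCA : Subgroup.centralizer (A : Set P) = A) (E : Subgroup P)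
    (hEe : ∀ a ∈ E, a ^ 2 = 1) (hEcard : 4 < Nat.card E) :
    ∃ W : Subgroup P, W.Normal ∧ IsMulCommutative W ∧ (∀ e ∈ W, e ^ 2 = 1) ∧
      Nat.card W = 2 ^ 2 := by
  classical
  have : Fact (Nat.Prime 2) := ⟨Nat.prime_two⟩
  have hEA : Nat.card ↥(E ⊓ A) ≤ 2 :=
    card_le_of_le_cyclic_of_exp A inf_le_right 2 (by norm_num) (fun x hx => hEe x hx.1)
  -- `4 ∣ |A|`
  have h4A : 4 ∣ Nat.card A := by
    obtain ⟨n, hn⟩ := IsPGroup.iff_card.mp (hP.to_subgroup A)
    rcases Nat.lt_or_ge n 2 with hn2 | hn2
    · exfalso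
      have htot : Nat.card (MulAut A) = 1 := by
        rw [IsCyclic.card_mulAut, hn]
        interval_cases n <;> simp
      have hsub : Subsingleton (MulAut A) := (Nat.card_eq_one_iff_unique.mp htot).1
      have hker : (A.normalizerMonoidHom).ker = ⊤ := by
        rw [eq_top_iff]; intro g _; rw [MonoidHom.mem_ker]; exact Subsingleton.elim _ _
      rw [Subgroup.normalizerMonoidHom_ker] at hker
      have hle : Subgroup.normalizer (A : Set P) ≤ Subgroup.centralizer (A : Set P) :=
        Subgroup.subgroupOf_eq_top.mp hker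
      rw [Subgroup.normalizer_eq_top, hCA] at hle
      have h1 : Nat.card E ≤ Nat.card A := Subgroup.card_le_of_le (le_trans le_top hle)
      have h2 : Nat.card A ≤ 2 := by rw [hn]; interval_cases n <;> norm_num
      omega
    · obtain ⟨t, rfl⟩ := Nat.exists_eq_add_of_le hn2
      rw [hn, pow_add]; exact Dvd.intro _ rfl
  -- an element of order four
  obtain ⟨x, hx⟩ := IsCyclic.exists_generator (α := A)
  have hox : orderOf x = Nat.card A := orderOf_eq_card_of_forall_mem_zpowers hx
  obtain ⟨m, hm⟩ := h4A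
  have hm0 : m ≠ 0 := by
    rintro rfl
    have : 0 < Nat.card A := Nat.card_pos
    omega
  have hoy' : orderOf (x ^ m) = 4 := by
    rw [orderOf_pow_of_dvd hm0 (by rw [hox, hm]; exact Dvd.intro_left _ rfl), hox, hm]
    exact Nat.mul_div_cancel _ (Nat.pos_of_ne_zero hm0)
  set y : P := ((x ^ m : A) : P) with hy
  have hyA : y ∈ A := (x ^ m).2
  have hoy : orderOf y = 4 := by rw [hy, Subgroup.orderOf_coe]; exact hoy'
  have hy4 : y ^ 4 = 1 := by rw [← hoy]; exact pow_orderOf_eq_one y
  have hconj : ∀ g : P, g * y * g⁻¹ = y ∨ g * y * g⁻¹ = y⁻¹ := by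
    intro g
    have hord : orderOf (g * y * g⁻¹) = 4 := by rw [orderOf_conj'', hoy]
    have h1 : Subgroup.zpowers (g * y * g⁻¹) ≤ Subgroup.zpowers y := by
      apply le_of_card_dvd_of_le_cyclic A
      · rw [Subgroup.zpowers_le]; exact hAn.conj_mem y hyA g
      · rw [Subgroup.zpowers_le]; exact hyA
      · rw [Nat.card_zpowers, Nat.card_zpowers, hord, hoy]
    have h2 : g * y * g⁻¹ ∈ Subgroup.zpowers y := h1 (Subgroup.mem_zpowers _)
    rw [mem_zpowers_iff_mem_range_orderOf, hoy] at h2
    obtain ⟨k, hk, hk2⟩ := Finset.mem_image.mp h2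
    rw [Finset.mem_range] at hk
    interval_cases k
    · exfalso
      rw [pow_zero] at hk2; rw [← hk2, orderOf_one] at hord; omega
    · left; rw [← hk2, pow_one]
    · exfalso
      rw [← hk2] at hord
      have h3 : (y ^ 2) ^ 2 = 1 := by rw [← pow_mul]; exact hy4
      have h4 := orderOf_dvd_of_pow_eq_one h3
      rw [hord] at h4; omega
    · right
      rw [← hk2, eq_inv_iff_mul_eq_one, ← pow_succ]; exact hy4
  have hidx : (Subgroup.centralizer ({y} : Set P)).index ≤ 2 := by
    refine le_trans (index_centralizer_le_card y {y, y⁻¹} (fun g => ?_)) ?_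
    · rcases hconj g with h | h <;> simp [h]
    · rw [Nat.card_coe_set_eq]
      exact (Set.ncard_insert_le y {y⁻¹}).trans (by rw [Set.ncard_singleton])
  have hE4 : Nat.card E ≤ 2 * Nat.card ↥(E ⊓ Subgroup.centralizer ({y} : Set P)) :=
    (card_le_index_mul_card_inf E _).trans (Nat.mul_le_mul_right _ hidx)
  obtain ⟨e, heE, heC, heA⟩ : ∃ e, e ∈ E ∧ e ∈ Subgroup.centralizer ({y} : Set P) ∧ e ∉ A := by
    by_contra hcon
    push Not at hcon
    have hle : E ⊓ Subgroup.centralizer ({y} : Set P) ≤ E ⊓ A :=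
      fun e he => ⟨he.1, hcon e he.1 he.2⟩
    have := Subgroup.card_le_of_le hle
    omega
  have hey : e * y = y * e := Subgroup.mem_centralizer_singleton_iff.mp heC
  have he2 : e ^ 2 = 1 := hEe e heE
  set z : P := y ^ 2 with hz
  have hz2 : z ^ 2 = 1 := by rw [hz, ← pow_mul]; exact hy4
  have hz1 : z ≠ 1 := by
    intro h
    have h3 := orderOf_dvd_of_pow_eq_one h
    rw [hoy] at h3; omega
  have hzA : z ∈ A := A.pow_mem hyA 2
  have hzc : z ∈ Subgroup.center P := by
    rw [Subgroup.mem_center_iff]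
    intro g
    have h1 : g * z * g⁻¹ = z := by
      rw [hz, ← conj_pow]
      rcases hconj g with h | h
      · rw [h]
      · rw [h, inv_pow]
        exact inv_eq_of_mul_eq_one_left (by rw [← pow_add]; exact hy4)
    exact mul_inv_eq_iff_eq_mul.mp h1
  have hoz : orderOf z = 2 := orderOf_eq_prime hz2 hz1
  have hzle : Subgroup.zpowers z ≤ A := by rw [Subgroup.zpowers_le]; exact hzA
  have heZ : e ∉ Subgroup.zpowers z := fun h => heA (hzle h)
  obtain ⟨hWc, hWexp, hWcard⟩ := closure_pair_elementary (p := 2) z e hzc hz1 hz2 he2 heZ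
  refine ⟨Subgroup.closure {z, e}, ?_, hWc, hWexp, hWcard⟩
  have hZW : Subgroup.zpowers z ≤ Subgroup.closure {z, e} := by
    rw [Subgroup.zpowers_le]; exact Subgroup.subset_closure (by simp)
  refine ⟨fun n hn g => ?_⟩
  have hle : Subgroup.closure {z, e} ≤
      (Subgroup.closure {z, e}).comap (MulAut.conj g).toMonoidHom := by
    rw [Subgroup.closure_le]
    intro w hw
    simp only [Set.mem_insert_iff, Set.mem_singleton_iff] at hw
    rw [SetLike.mem_coe, Subgroup.mem_comap]
    change g * w * g⁻¹ ∈ _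
    rcases hw with rfl | rfl
    · rw [Subgroup.mem_center_iff.mp hzc g, mul_inv_cancel_right]
      exact Subgroup.subset_closure (by simp)
    · -- the commutator `c`
      set c : P := g * w * g⁻¹ * w⁻¹ with hc
      have hcA : c ∈ A := by
        have := commutator_mem_centralizer_of_isCyclic A g w
        rw [hCA] at this; exact this
      have hwinv : w⁻¹ = w := by
        rw [inv_eq_iff_mul_eq_one, ← sq]; exact he2
      have hcw : g * w * g⁻¹ = c * w := by rw [hc]; group
      have hcw2 : (c * w) ^ 2 = 1 := by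
        rw [← hcw, conj_pow, he2]; group
      have hinv : w * c * w⁻¹ = c⁻¹ := by
        rw [hwinv]
        have h1 : c * w * (c * w) = 1 := by rw [← sq]; exact hcw2
        have h2 : w * c * w = c⁻¹ * (c * w * (c * w)) := by group
        rw [h2, h1, mul_one]
      have hc2 : c ^ 2 = 1 := by
        obtain ⟨k, hk⟩ := hP c
        obtain ⟨j, hj, hj2⟩ := (Nat.dvd_prime_pow Nat.prime_two).mp (orderOf_dvd_of_pow_eq_one hk)
        rcases Nat.lt_or_ge j 2 with hj3 | hj3
        · have h1 : orderOf c ∣ 2 := by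
            rw [hj2]; interval_cases j <;> norm_num
          exact orderOf_dvd_iff_pow_eq_one.mp h1
        · exfalso
          have h1 : Subgroup.zpowers y ≤ Subgroup.zpowers c := by
            apply le_of_card_dvd_of_le_cyclic A
            · rw [Subgroup.zpowers_le]; exact hyA
            · rw [Subgroup.zpowers_le]; exact hcA
            · rw [Nat.card_zpowers, Nat.card_zpowers, hoy, hj2]
              obtain ⟨t, rfl⟩ := Nat.exists_eq_add_of_le hj3
              rw [pow_add]; exact Dvd.intro _ rfl
          obtain ⟨i, hi⟩ := Subgroup.mem_zpowers_iff.mp (h1 (Subgroup.mem_zpowers y))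
          have h2 : w * y * w⁻¹ = y⁻¹ := by
            rw [← hi, ← conj_zpow, hinv, inv_zpow]
          have h3 : w * y * w⁻¹ = y := by rw [hey]; group
          rw [h3] at h2
          apply hz1
          rw [hz, sq]
          exact eq_inv_iff_mul_eq_one.mp h2
      have hcZ : c ∈ Subgroup.zpowers z := by
        have h1 : Subgroup.zpowers c ≤ Subgroup.zpowers z := by
          apply le_of_card_dvd_of_le_cyclic A
          · rw [Subgroup.zpowers_le]; exact hcA
          · exact hzle
          · rw [Nat.card_zpowers, Nat.card_zpowers, hoz]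
            exact orderOf_dvd_of_pow_eq_one hc2
        exact h1 (Subgroup.mem_zpowers c)
      rw [hcw]
      exact Subgroup.mul_mem _ (hZW hcZ) (Subgroup.subset_closure (by simp))
  exact hle hn


variable {p : ℕ} [hp : Fact p.Prime]

/-- the non-cyclic case: a `p`-group with a non-cyclic normal abelian subgroup has a normal
elementary abelian subgroup of order `p ^ 2` -/
theorem exists_normal_sq_of_noncyclic (hR : IsPGroup p P) (A : Subgroup P) [hAn : A.Normal]
    [hAc : IsMulCommutative A] (hAcyc : ¬ IsCyclic A) :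
    ∃ W : Subgroup P, W.Normal ∧ IsMulCommutative W ∧ (∀ e ∈ W, e ^ p = 1) ∧
      Nat.card W = p ^ 2 := by
  classical
  obtain ⟨q, hq, E0, hE0card, hE0exp⟩ := exists_elementary_abelian_sq hAcyc
  have hqp : q = p := by
    obtain ⟨k, hk⟩ := IsPGroup.iff_card.mp hR
    have h1 : q ∣ Nat.card P := by
      have h2 : q ∣ Nat.card E0 := by rw [hE0card, sq]; exact dvd_mul_right q q
      exact (h2.trans (Subgroup.card_subgroup_dvd_card E0)).trans
        (Subgroup.card_subgroup_dvd_card A)
    rw [hk] at h1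
    exact (Nat.prime_dvd_prime_iff_eq hq hp.out).mp (hq.dvd_of_dvd_pow h1)
  subst hqp
  set V : Subgroup P := (powMonoidHom q : A →* A).ker.map A.subtype with hV
  have hVmem : ∀ y : P, y ∈ V ↔ y ∈ A ∧ y ^ q = 1 := by
    intro y
    constructor
    · intro hy
      obtain ⟨a, ha, rfl⟩ := Subgroup.mem_map.mp hy
      refine ⟨a.2, ?_⟩
      have h1 : a ^ q = 1 := ha
      have := congrArg Subtype.val h1
      simpa using this
    · rintro ⟨hyA, hyq⟩
      refine Subgroup.mem_map.mpr ⟨⟨y, hyA⟩, ?_, rfl⟩
      change (⟨y, hyA⟩ : A) ^ q = 1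
      exact Subtype.ext hyq
  have hVn : V.Normal := by
    refine ⟨fun n hn g => ?_⟩
    rw [hVmem] at hn ⊢
    refine ⟨hAn.conj_mem n hn.1 g, ?_⟩
    rw [conj_pow, hn.2]; group
  have hVexp : ∀ v ∈ V, v ^ q = 1 := fun v hv => ((hVmem v).mp hv).2
  have hE0V : E0.map A.subtype ≤ V := by
    intro y hy
    obtain ⟨e, he, rfl⟩ := Subgroup.mem_map.mp hy
    rw [hVmem]
    refine ⟨e.2, ?_⟩
    have := congrArg Subtype.val (hE0exp e he)
    simpa using this
  have hVcard : q < Nat.card V := by
    have h1 := Subgroup.card_le_of_le hE0V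
    rw [Subgroup.card_map_of_injective A.subtype_injective, hE0card] at h1
    have h2 : q < q ^ 2 := by
      rw [sq]; have := hq.one_lt; nlinarith
    omega
  obtain ⟨W, hWn, -, hWc, hWexp, hWcard⟩ := exists_normal_sq_le hR V hVexp hVcard
  exact ⟨W, hWn, hWc, hWexp, hWcard⟩

/-- **A `p`-group of rank at least three has a normal elementary abelian subgroup of order
`p ^ 2`.** -/
theorem exists_normal_sq_of_rank_three (hR : IsPGroup p P) (hrk : ¬ Cfsg.PRankLE p 2 P) :
    ∃ U : Subgroup P, U.Normal ∧ Cfsg.IsElementaryAbelian p U ∧ Nat.card U = p ^ 2 := by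
  classical
  have : Group.IsNilpotent P := hR.isNilpotent
  unfold Cfsg.PRankLE at hrk
  push Not at hrk
  obtain ⟨E, hEc, hEe, hEcard⟩ := hrk
  by_cases hp2 : p = 2
  · subst hp2
    obtain ⟨A, hAn, hAc, hmax⟩ := exists_max_normal_abelian P
    by_cases hAcyc : IsCyclic A
    · have hCA := centralizer_eq_of_max_abelian_normal A hmax
      obtain ⟨W, hWn, hWc, hWe, hWcard⟩ :=
        exists_normal_four_of_cyclic hR A hCA E hEe (by norm_num at hEcard; exact hEcard)
      exact ⟨W, hWn, ⟨hWc, hWe⟩, hWcard⟩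
    · obtain ⟨W, hWn, hWc, hWe, hWcard⟩ := exists_normal_sq_of_noncyclic hR A hAcyc
      exact ⟨W, hWn, ⟨hWc, hWe⟩, hWcard⟩
  · have hnc : ¬ IsCyclic P := by
      intro hcyc
      have h1 := card_le_of_forall_pow_eq_one E p hp.out.pos hEe
      have h2 : p < p ^ 2 := by
        rw [sq]; have := hp.out.one_lt; nlinarith
      omega
    obtain ⟨W, hWn, hWc, hWe, hWcard⟩ := exists_normal_elementary_sq hp2 hR hnc
    exact ⟨W, hWn, ⟨hWc, hWe⟩, hWcard⟩

end

end Cfsg.Agent.Lib.Helper3.NormalSq
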