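import Mathlib
import Cfsg.Agent.Lib.Helper3.NormalSq1
import Cfsg.Prelude.Def_CaseTheorems
import Cfsg.Prelude.Def_Transfer

set_option autoImplicit false

namespace Cfsg.Agent.Lib.Helper3.NormalSq

open Cfsg.Agent.Lib.Lead
open scoped IsMulCommutative

section
variable {P : Type*} [Group P]

/-- the join of two commuting elementary abelian subgroups is elementary abelian -/
theorem isElementaryAbelian_sup {p : ℕ} {A B : Subgroup P} (hA : Cfsg.IsElementaryAbelian p A)
    (hB : Cfsg.IsElementaryAbelian p B) (hAB : ∀ a ∈ A, ∀ b ∈ B, a * b = b * a) :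
    Cfsg.IsElementaryAbelian p (A ⊔ B) := by
  have hAc := hA.1
  have hBc := hB.1
  have hAA : A ≤ Subgroup.centralizer (A : Set P) := Subgroup.le_centralizer A
  have hBB : B ≤ Subgroup.centralizer (B : Set P) := Subgroup.le_centralizer B
  have hBA : B ≤ Subgroup.centralizer (A : Set P) := by
    intro b hb
    rw [Subgroup.mem_centralizer_iff]
    intro a ha
    exact hAB a ha b hb
  have hAB' : A ≤ Subgroup.centralizer (B : Set P) := by
    intro a ha
    rw [Subgroup.mem_centralizer_iff]
    intro b hb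
    exact (hAB a ha b hb).symm
  have hcomm : A ⊔ B ≤ Subgroup.centralizer ((A ⊔ B : Subgroup P) : Set P) := by
    apply sup_le
    · rw [Subgroup.le_centralizer_iff]; exact sup_le hAA hBA
    · rw [Subgroup.le_centralizer_iff]; exact sup_le hAB' hBB
  have hcomm' : ∀ x ∈ A ⊔ B, ∀ y ∈ A ⊔ B, x * y = y * x := by
    intro x hx y hy
    exact (Subgroup.mem_centralizer_iff.mp (hcomm hx) y hy).symm
  refine ⟨⟨⟨fun x y => Subtype.ext (hcomm' x.1 x.2 y.1 y.2)⟩⟩, ?_⟩
  -- exponent
  let T : Subgroup P :=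
    { carrier := {x | x ∈ A ⊔ B ∧ x ^ p = 1}
      one_mem' := ⟨Subgroup.one_mem _, one_pow p⟩
      mul_mem' := by
        rintro x y ⟨hx, hxp⟩ ⟨hy, hyp⟩
        refine ⟨Subgroup.mul_mem _ hx hy, ?_⟩
        have hc : Commute x y := hcomm' x hx y hy
        rw [hc.mul_pow, hxp, hyp, one_mul]
      inv_mem' := by
        rintro x ⟨hx, hxp⟩
        exact ⟨Subgroup.inv_mem _ hx, by rw [inv_pow, hxp, inv_one]⟩ }
  have hT : A ⊔ B ≤ T :=
    sup_le (fun a ha => ⟨le_sup_left (a := A) (b := B) ha, hA.2 a ha⟩)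
      (fun b hb => ⟨le_sup_right (a := A) (b := B) hb, hB.2 b hb⟩)
  intro x hx
  exact (hT hx).2

theorem comm_of_isElementaryAbelian {p : ℕ} {E : Subgroup P} (hE : Cfsg.IsElementaryAbelian p E)
    {a b : P} (ha : a ∈ E) (hb : b ∈ E) : a * b = b * a := by
  have := hE.1
  have h1 := mul_comm (⟨a, ha⟩ : E) ⟨b, hb⟩
  have h2 := congrArg Subtype.val h1
  simpa using h2

theorem isElementaryAbelian_of_le' {p : ℕ} {A B : Subgroup P} (hB : Cfsg.IsElementaryAbelian p B)
    (hAB : A ≤ B) : Cfsg.IsElementaryAbelian p A := by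
  have := hB.1
  refine ⟨⟨⟨fun x y => Subtype.ext ?_⟩⟩, fun a ha => hB.2 a (hAB ha)⟩
  have := mul_comm (⟨x.1, hAB x.2⟩ : B) ⟨y.1, hAB y.2⟩
  have h2 := congrArg Subtype.val this
  simpa using h2

/-- an elementary abelian subgroup of `C_P(X)` of order greater than `p ^ 2` witnesses that
`C_P(X)` has rank at least three -/
theorem not_pRankLE_of_le {p : ℕ} {C F : Subgroup P} (hF : Cfsg.IsElementaryAbelian p F)
    (hFC : F ≤ C) (hcard : p ^ 2 < Nat.card F) : ¬ Cfsg.PRankLE p 2 ↥C := by
  intro h
  have := hF.1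
  have h1 := h (F.subgroupOf C) inferInstance (fun a ha => by
    apply Subtype.ext
    rw [Subgroup.coe_pow, Subgroup.coe_one]
    exact hF.2 _ (Subgroup.mem_subgroupOf.mp ha))
  rw [card_subgroupOf_of_le' hFC] at h1
  omega

theorem exists_le_of_not_pRankLE {p : ℕ} {C : Subgroup P} (h : ¬ Cfsg.PRankLE p 2 ↥C) :
    ∃ F : Subgroup P, F ≤ C ∧ Cfsg.IsElementaryAbelian p F ∧ p ^ 2 < Nat.card F := by
  unfold Cfsg.PRankLE at h
  push Not at h
  obtain ⟨A, hAc, hAe, hAcard⟩ := h
  refine ⟨A.map C.subtype, Subgroup.map_subtype_le A, ⟨inferInstance, ?_⟩, ?_⟩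
  · rintro _ ⟨a, ha, rfl⟩
    have := congrArg Subtype.val (hAe a ha)
    simpa using this
  · rw [Subgroup.card_map_of_injective C.subtype_injective]; exact hAcard

end

section
variable {P : Type*} [Group P] [Finite P] {p : ℕ} [hp : Fact p.Prime]

theorem pow_le_card_of_lt_mul (hP : IsPGroup p P) (D : Subgroup P) (k : ℕ)
    (h : p ^ k < p * Nat.card D) : p ^ k ≤ Nat.card D := by
  obtain ⟨j, hj⟩ := IsPGroup.iff_card.mp (hP.to_subgroup D)
  rw [hj, ← pow_succ'] at h
  rw [hj]
  have h1 : k < j + 1 := (Nat.pow_lt_pow_iff_right hp.out.one_lt).mp h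
  exact Nat.pow_le_pow_right hp.out.pos (by omega)

/-- the centraliser of a normal elementary abelian subgroup of order `p ^ 2` of a `p`-group has
index at most `p` (in the form of an intersection bound) -/
theorem card_le_mul_card_inf_centralizer (hP : IsPGroup p P) (U : Subgroup P) [hUn : U.Normal]
    (hU : Cfsg.IsElementaryAbelian p U) (hUcard : Nat.card U = p ^ 2) (B : Subgroup P) :
    Nat.card B ≤ p * Nat.card ↥(B ⊓ Subgroup.centralizer (U : Set P)) := by
  classical
  have : Group.IsNilpotent P := hP.isNilpotent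
  have hp1 := hp.out.one_lt
  have hUne : U ≠ ⊥ := by
    rintro rfl
    rw [Subgroup.card_bot] at hUcard
    have : 1 < p ^ 2 := Nat.one_lt_pow (by norm_num) hp1
    omega
  have h1 := inf_center_ne_bot U hUne
  obtain ⟨z, hzmem, hz1⟩ : ∃ z ∈ U ⊓ Subgroup.center P, z ≠ 1 := by
    by_contra hall
    push Not at hall
    exact h1 ((Subgroup.eq_bot_iff_forall _).mpr hall)
  have hzU : z ∈ U := hzmem.1
  have hzc : z ∈ Subgroup.center P := hzmem.2
  have hzp : z ^ p = 1 := hU.2 z hzU
  have hoz : orderOf z = p := orderOf_eq_prime hzp hz1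
  obtain ⟨u, huU, huZ⟩ : ∃ u ∈ U, u ∉ Subgroup.zpowers z := by
    by_contra hcon
    push Not at hcon
    have hle : U ≤ Subgroup.zpowers z := hcon
    have h2 := Subgroup.card_le_of_le hle
    rw [Nat.card_zpowers, hoz, hUcard] at h2
    have : p < p ^ 2 := by rw [sq]; nlinarith
    omega
  have hup : u ^ p = 1 := hU.2 u huU
  obtain ⟨-, -, hWcard⟩ := closure_pair_elementary z u hzc hz1 hzp hup huZ
  have hWU : Subgroup.closure {z, u} = U := by
    apply Subgroup.eq_of_le_of_card_ge
    · rw [Subgroup.closure_le]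
      intro w hw
      simp only [Set.mem_insert_iff, Set.mem_singleton_iff] at hw
      rcases hw with rfl | rfl
      · exact hzU
      · exact huU
    · rw [hWcard, hUcard]
  have hCC : Subgroup.centralizer ({u} : Set P) ≤ Subgroup.centralizer (U : Set P) := by
    intro g hg
    have hgu : g * u = u * g := Subgroup.mem_centralizer_singleton_iff.mp hg
    have hle : Subgroup.closure {z, u} ≤ Subgroup.centralizer ({g} : Set P) := by
      rw [Subgroup.closure_le]
      intro w hw
      simp only [Set.mem_insert_iff, Set.mem_singleton_iff] at hw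
      rw [SetLike.mem_coe, Subgroup.mem_centralizer_singleton_iff]
      rcases hw with rfl | rfl
      · exact (Subgroup.mem_center_iff.mp hzc g).symm
      · exact hgu.symm
    rw [hWU] at hle
    rw [Subgroup.mem_centralizer_iff]
    intro w hw
    exact Subgroup.mem_centralizer_singleton_iff.mp (hle hw)
  have hu1 : u ≠ 1 := fun h => huZ (h ▸ Subgroup.one_mem _)
  have hidx : (Subgroup.centralizer ({u} : Set P)).index ≤ p := by
    have h2 : (Subgroup.centralizer ({u} : Set P)).index ≤ p ^ 2 - 1 := by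
      refine le_trans (index_centralizer_le_card u ((U : Set P) \ {1}) (fun g => ?_)) ?_
      · refine ⟨hUn.conj_mem u huU g, ?_⟩
        rw [Set.mem_singleton_iff]
        intro h
        apply hu1
        have : u = g⁻¹ * (g * u * g⁻¹) * g := by group
        rw [this, h]; group
      · rw [Nat.card_coe_set_eq, Set.ncard_sdiff_singleton_of_mem (Subgroup.one_mem U),
          ← Nat.card_coe_set_eq]
        exact le_of_eq (congrArg (fun n => n - 1) hUcard)
    obtain ⟨n, hn⟩ := IsPGroup.iff_card.mp hP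
    have h3 : (Subgroup.centralizer ({u} : Set P)).index ∣ p ^ n := by
      rw [← hn]; exact Subgroup.index_dvd_card _
    obtain ⟨k, -, hk⟩ := (Nat.dvd_prime_pow hp.out).mp h3
    rw [hk] at h2 ⊢
    have h4 : p ^ k < p ^ 2 := by
      have : 0 < p ^ 2 := by positivity
      omega
    have h5 : k < 2 := (Nat.pow_lt_pow_iff_right hp1).mp h4
    calc p ^ k ≤ p ^ 1 := Nat.pow_le_pow_right hp.out.pos (by omega)
      _ = p := pow_one p
  calc Nat.card B ≤ (Subgroup.centralizer ({u} : Set P)).index *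
        Nat.card ↥(B ⊓ Subgroup.centralizer ({u} : Set P)) := card_le_index_mul_card_inf B _
    _ ≤ p * Nat.card ↥(B ⊓ Subgroup.centralizer (U : Set P)) :=
        Nat.mul_le_mul hidx (Subgroup.card_le_of_le (inf_le_inf_left B hCC))

end

end Cfsg.Agent.Lib.Helper3.NormalSq
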