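import Mathlib
import Cfsg.Prelude.Def_ChevStructure
import Cfsg.Prelude.Def_ChevG2
import Cfsg.Agent.Lib.Helper3.Ree1
set_option autoImplicit false
set_option linter.unusedSectionVars false
set_option linter.style.haveILetI false
open Cfsg Cfsg.Lie

/-!
The elements of the Weyl group of `G₂` commuting with the symmetry of the root system.
-/

namespace Cfsg.Agent.Lib.Helper3.Ree

open Cfsg.Agent.Lib.Helper3.ChevM Cfsg.Agent.Lib.Helper3.ChevSp Cfsg.Agent.Lib.Helper3.ChevAt
open Cfsg.Agent.Lib.Helper3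

/-- the action of a word on the roots as a list -/
def actL (l : List ℕ) : List ℕ := (List.range 12).map (reflW relG2.refl l)

/-- the longest element -/
def w0G2 : List ℕ := [0, 1, 0, 1, 0, 1]

/-- the twelve elements of the Weyl group -/
def wlG2 : List (List ℕ) :=
  [[], [0], [1], [0, 1], [1, 0], [0, 1, 0], [1, 0, 1], [0, 1, 0, 1], [1, 0, 1, 0], [0, 1, 0, 1, 0],
    [1, 0, 1, 0, 1], [0, 1, 0, 1, 0, 1]].map actL

theorem actL_cons (i : ℕ) (l : List ℕ) : actL (i :: l) = (actL l).map (relG2.refl i) := by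
  unfold actL
  rw [List.map_map]
  rfl

theorem wlG2_closed : ∀ a ∈ wlG2, ∀ i < 2, a.map (relG2.refl i) ∈ wlG2 := by decide

theorem actL_mem (l : List ℕ) (hl : ∀ i ∈ l, i < 2) : actL l ∈ wlG2 := by
  induction l with
  | nil => decide
  | cons i l ih =>
    rw [actL_cons]
    exact wlG2_closed _ (ih fun j hj => hl j (List.mem_cons_of_mem _ hj)) i (hl i List.mem_cons_self)

theorem g2_refl_rho : ∀ i < 2, ∀ s < 12, relG2.refl (g2p i) (g2rho s) = g2rho (relG2.refl i s) := by
  decide

theorem reflW_map_g2p (l : List ℕ) (hl : ∀ i ∈ l, i < 2) (s : ℕ) (hs : s < 12) :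
    reflW relG2.refl (l.map g2p) (g2rho s) = g2rho (reflW relG2.refl l s) := by
  induction l with
  | nil => rfl
  | cons i l ih =>
    have hl' : ∀ j ∈ l, j < 2 := fun j hj => hl j (List.mem_cons_of_mem _ hj)
    rw [List.map_cons]
    show relG2.refl (g2p i) (reflW relG2.refl (l.map g2p) (g2rho s)) = g2rho (relG2.refl i (reflW relG2.refl l s))
    rw [ih hl']
    exact g2_refl_rho i (hl i List.mem_cons_self) _ (relG2.reflW_lt l hl' s hs)

theorem wlG2_comm : ∀ a ∈ wlG2,
    ((List.range 12).all fun s => a.getD (g2rho s) 0 == g2rho (a.getD s 0)) = true →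
      a = actL [] ∨ a = actL w0G2 := by decide

theorem actL_getD (l : List ℕ) (s : ℕ) (hs : s < 12) : (actL l).getD s 0 = reflW relG2.refl l s := by
  unfold actL
  rw [List.getD_eq_getElem _ _ (by simpa using hs)]
  simp

/-- the words commuting with the symmetry -/
theorem g2_weyl_comm (l : List ℕ) (hl : ∀ i ∈ l, i < cdG2.D.rank)
    (h : ∀ s < cdG2.D.nroots, reflW relG2.refl (l.map g2p) s = reflW relG2.refl l s) :
    (∀ s < cdG2.D.nroots, reflW relG2.refl l s = s) ∨
      (∀ s < cdG2.D.nroots, reflW relG2.refl l s = reflW relG2.refl w0G2 s) := by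
  have hl2 : ∀ i ∈ l, i < 2 := hl
  have hcond : ((List.range 12).all fun s => (actL l).getD (g2rho s) 0 == g2rho ((actL l).getD s 0)) = true := by
    rw [List.all_eq_true]
    intro s hs
    have hs' : s < 12 := List.mem_range.mp hs
    have hr : g2rho s < 12 := g2rho_lt s hs'
    rw [beq_iff_eq, actL_getD l _ hr, actL_getD l _ hs', ← reflW_map_g2p l hl2 s hs']
    exact (h _ hr).symm
  have key : ∀ l' : List ℕ, actL l = actL l' → ∀ s < cdG2.D.nroots, reflW relG2.refl l s = reflW relG2.refl l' s := by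
    intro l' e s hs
    have hs' : s < 12 := hs
    rw [← actL_getD l s hs', ← actL_getD l' s hs', e]
  rcases wlG2_comm _ (actL_mem l hl2) hcond with e | e
  · left
    intro s hs
    exact key [] e s hs
  · right
    exact key w0G2 e

end Cfsg.Agent.Lib.Helper3.Ree
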