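import Mathlib
import Cfsg.Prelude.Def_ChevStructure
import Cfsg.Prelude.Def_ChevG2
import Cfsg.Agent.Lib.Helper3.ChevMp1
import Cfsg.Agent.Lib.Helper3.ChevG1
import Cfsg.Agent.Lib.Helper3.ChevData.G2Rel
set_option autoImplicit false
set_option linter.unusedSectionVars false
open Cfsg Cfsg.Lie

/-!
Identities between root elements of `G₂` in characteristic 3 used for the Ree groups.
-/

namespace Cfsg.Agent.Lib.Helper3.Ree

open Cfsg.Agent.Lib.Helper3.ChevM

section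
variable {K : Type*} [Field K]

theorem xU_zero (r : ℕ) : relG2.xU r (0 : K) = 1 := by
  apply Units.ext
  rw [relG2.xU_val, CDatum.x_zero, Units.val_one]

/-- generic comparison of two words with monomial parameters -/
theorem word_eq_of_check [CharP K 3] (a b : K) (ha : a ≠ 0) (hb : b ≠ 0)
    (w1 w2 : List (ℕ × ℤ × ℤ × ℤ)) (hw1 : ∀ q ∈ w1, q.1 < cdG2.D.nroots)
    (hw2 : ∀ q ∈ w2, q.1 < cdG2.D.nroots)
    (h : checkMWmod 3 (cdG2.D.rank + cdG2.D.nroots)
      (w1.map fun q => cdG2.xMono q.1 q.2.1 q.2.2.1 q.2.2.2)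
      (w2.map fun q => cdG2.xMono q.1 q.2.1 q.2.2.1 q.2.2.2) = true) :
    (w1.map fun q => relG2.xU q.1 (((q.2.1 : ℤ) : K) * a ^ q.2.2.1 * b ^ q.2.2.2)).prod =
      (w2.map fun q => relG2.xU q.1 (((q.2.1 : ℤ) : K) * a ^ q.2.2.1 * b ^ q.2.2.2)).prod := by
  apply Units.ext
  have hval : ∀ w : List (ℕ × ℤ × ℤ × ℤ),
      (((w.map fun q => relG2.xU q.1 (((q.2.1 : ℤ) : K) * a ^ q.2.2.1 * b ^ q.2.2.2)).prod :
        GL cdG2.D.Idx K) : Matrix cdG2.D.Idx cdG2.D.Idx K) =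
      (w.map fun q => cdG2.D.x K q.1 (((q.2.1 : ℤ) : K) * a ^ q.2.2.1 * b ^ q.2.2.2)).prod := by
    intro w
    induction w with
    | nil => simp
    | cons q w ih => simp [ih]
  have hrep : ∀ w : List (ℕ × ℤ × ℤ × ℤ), (∀ q ∈ w, q.1 < cdG2.D.nroots) →
      List.Forall₂ (Represents a b cdG2.D) (w.map fun q => cdG2.xMono q.1 q.2.1 q.2.2.1 q.2.2.2)
        (w.map fun q => cdG2.D.x K q.1 (((q.2.1 : ℤ) : K) * a ^ q.2.2.1 * b ^ q.2.2.2)) := by
    intro w hw
    induction w with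
    | nil => exact List.Forall₂.nil
    | cons q w ih =>
      rw [List.map_cons, List.map_cons]
      exact List.Forall₂.cons (cdG2.represents_xMono a b q.1 (hw q List.mem_cons_self) _ _ _)
        (ih fun q' hq' => hw q' (List.mem_cons_of_mem _ hq'))
  rw [hval, hval]
  exact prod_eq_of_checkMWmod a b 3 ha hb cdG2.D _ _ _ _ (hrep w1 hw1) (hrep w2 hw2) h

/-- generic evaluation of an entry of a word with monomial parameters -/
theorem word_entry_of_check [CharP K 3] (a b : K) (ha : a ≠ 0) (hb : b ≠ 0)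
    (w : List (ℕ × ℤ × ℤ × ℤ)) (hw : ∀ q ∈ w, q.1 < cdG2.D.nroots) (j col : cdG2.D.Idx)
    (expected : MVec)
    (h : entryCheckMod 3 (cdG2.D.rank + cdG2.D.nroots)
      (w.map fun q => cdG2.xMono q.1 q.2.1 q.2.2.1 q.2.2.2) (code cdG2.D col) (code cdG2.D j)
      expected = true) :
    (((w.map fun q => relG2.xU q.1 (((q.2.1 : ℤ) : K) * a ^ q.2.2.1 * b ^ q.2.2.2)).prod :
        GL cdG2.D.Idx K) : Matrix cdG2.D.Idx cdG2.D.Idx K) j col = mvAt a b expected (code cdG2.D j) := by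
  have hval : ∀ w : List (ℕ × ℤ × ℤ × ℤ),
      (((w.map fun q => relG2.xU q.1 (((q.2.1 : ℤ) : K) * a ^ q.2.2.1 * b ^ q.2.2.2)).prod :
        GL cdG2.D.Idx K) : Matrix cdG2.D.Idx cdG2.D.Idx K) =
      (w.map fun q => cdG2.D.x K q.1 (((q.2.1 : ℤ) : K) * a ^ q.2.2.1 * b ^ q.2.2.2)).prod := by
    intro w
    induction w with
    | nil => simp
    | cons q w ih => simp [ih]
  have hrep : ∀ w : List (ℕ × ℤ × ℤ × ℤ), (∀ q ∈ w, q.1 < cdG2.D.nroots) →
      List.Forall₂ (Represents a b cdG2.D) (w.map fun q => cdG2.xMono q.1 q.2.1 q.2.2.1 q.2.2.2)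
        (w.map fun q => cdG2.D.x K q.1 (((q.2.1 : ℤ) : K) * a ^ q.2.2.1 * b ^ q.2.2.2)) := by
    intro w hw
    induction w with
    | nil => exact List.Forall₂.nil
    | cons q w ih =>
      rw [List.map_cons, List.map_cons]
      exact List.Forall₂.cons (cdG2.represents_xMono a b q.1 (hw q List.mem_cons_self) _ _ _)
        (ih fun q' hq' => hw q' (List.mem_cons_of_mem _ hq'))
  rw [hval]
  exact entry_eq_of_check a b 3 ha hb cdG2.D _ _ (hrep w hw) j col expected h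

end

end Cfsg.Agent.Lib.Helper3.Ree
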