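import Mathlib
import Cfsg.Prelude.Def_ChevStructure
import Cfsg.Prelude.Def_ChevG2
import Cfsg.Agent.Lib.Helper3.Ree2
set_option autoImplicit false
set_option linter.unusedSectionVars false
open Cfsg Cfsg.Lie

/-!
The particular identities between root elements of `G₂` in characteristic 3 used for the Ree
groups.
-/

namespace Cfsg.Agent.Lib.Helper3.Ree

open Cfsg.Agent.Lib.Helper3.ChevM

section
variable {K : Type*} [Field K] [CharP K 3]

/-- the core identity for the positive roots -/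
theorem core_pos (t T : K) :
    relG2.xU 6 t * relG2.xU 7 T * relG2.xU 10 (t * T ^ 3) * relG2.xU 11 (t ^ 2 * T ^ 3) =
      relG2.xU 7 T * relG2.xU 6 t * relG2.xU 8 (t * T) * relG2.xU 9 (t * T ^ 2) := by
  by_cases ht : t = 0
  · subst ht
    simp [xU_zero]
  by_cases hT : T = 0
  · subst hT
    simp [xU_zero]
  have := word_eq_of_check t T ht hT
    [(6, 1, 1, 0), (7, 1, 0, 1), (10, 1, 1, 3), (11, 1, 2, 3)]
    [(7, 1, 0, 1), (6, 1, 1, 0), (8, 1, 1, 1), (9, 1, 1, 2)]
    (by decide) (by decide) (by decide +kernel)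
  simpa [mul_assoc] using this

/-- the core identity for the negative roots -/
theorem core_neg (t T : K) :
    relG2.xU 5 (-t) * relG2.xU 4 (-T) * relG2.xU 1 (-(t * T ^ 3)) * relG2.xU 0 (-(t ^ 2 * T ^ 3)) =
      relG2.xU 4 (-T) * relG2.xU 5 (-t) * relG2.xU 3 (-(t * T)) * relG2.xU 2 (-(t * T ^ 2)) := by
  by_cases ht : t = 0
  · subst ht
    simp [xU_zero]
  by_cases hT : T = 0
  · subst hT
    simp [xU_zero]
  have := word_eq_of_check t T ht hT
    [(5, -1, 1, 0), (4, -1, 0, 1), (1, -1, 1, 3), (0, -1, 2, 3)]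
    [(4, -1, 0, 1), (5, -1, 1, 0), (3, -1, 1, 1), (2, -1, 1, 2)]
    (by decide) (by decide) (by decide +kernel)
  simpa [mul_assoc] using this

/-- root elements for roots of height at least two commute (in characteristic 3) -/
theorem comm_high (r s : ℕ) (hr : r ∈ [8, 9, 10, 11]) (hs : s ∈ [8, 9, 10, 11]) (c c' : K) :
    relG2.xU r c * relG2.xU s c' = relG2.xU s c' * relG2.xU r c := by
  by_cases hc : c = 0
  · subst hc
    simp [xU_zero]
  by_cases hc' : c' = 0
  · subst hc'
    simp [xU_zero]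
  have key : ∀ r ∈ [8, 9, 10, 11], ∀ s ∈ [8, 9, 10, 11],
      checkMWmod 3 (cdG2.D.rank + cdG2.D.nroots)
        ([(r, 1, 1, 0), (s, 1, 0, 1)].map fun q : ℕ × ℤ × ℤ × ℤ => cdG2.xMono q.1 q.2.1 q.2.2.1 q.2.2.2)
        ([(s, 1, 0, 1), (r, 1, 1, 0)].map fun q : ℕ × ℤ × ℤ × ℤ => cdG2.xMono q.1 q.2.1 q.2.2.1 q.2.2.2) = true := by
    decide +kernel
  have hr' : r < cdG2.D.nroots := by
    simp only [List.mem_cons, List.not_mem_nil, or_false] at hr
    rcases hr with rfl | rfl | rfl | rfl <;> decide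
  have hs' : s < cdG2.D.nroots := by
    simp only [List.mem_cons, List.not_mem_nil, or_false] at hs
    rcases hs with rfl | rfl | rfl | rfl <;> decide
  have := word_eq_of_check c c' hc hc'
    [(r, 1, 1, 0), (s, 1, 0, 1)] [(s, 1, 0, 1), (r, 1, 1, 0)]
    (by
      intro q hq
      simp only [List.mem_cons, List.not_mem_nil, or_false] at hq
      rcases hq with rfl | rfl <;> assumption)
    (by
      intro q hq
      simp only [List.mem_cons, List.not_mem_nil, or_false] at hq
      rcases hq with rfl | rfl <;> assumption)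
    (key r hr s hs)
  simpa [mul_assoc] using this

/-- root elements for negative roots of height at least two commute (in characteristic 3) -/
theorem comm_low (r s : ℕ) (hr : r ∈ [0, 1, 2, 3]) (hs : s ∈ [0, 1, 2, 3]) (c c' : K) :
    relG2.xU r c * relG2.xU s c' = relG2.xU s c' * relG2.xU r c := by
  by_cases hc : c = 0
  · subst hc
    simp [xU_zero]
  by_cases hc' : c' = 0
  · subst hc'
    simp [xU_zero]
  have key : ∀ r ∈ [0, 1, 2, 3], ∀ s ∈ [0, 1, 2, 3],
      checkMWmod 3 (cdG2.D.rank + cdG2.D.nroots)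
        ([(r, 1, 1, 0), (s, 1, 0, 1)].map fun q : ℕ × ℤ × ℤ × ℤ => cdG2.xMono q.1 q.2.1 q.2.2.1 q.2.2.2)
        ([(s, 1, 0, 1), (r, 1, 1, 0)].map fun q : ℕ × ℤ × ℤ × ℤ => cdG2.xMono q.1 q.2.1 q.2.2.1 q.2.2.2) = true := by
    decide +kernel
  have hr' : r < cdG2.D.nroots := by
    simp only [List.mem_cons, List.not_mem_nil, or_false] at hr
    rcases hr with rfl | rfl | rfl | rfl <;> decide
  have hs' : s < cdG2.D.nroots := by
    simp only [List.mem_cons, List.not_mem_nil, or_false] at hs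
    rcases hs with rfl | rfl | rfl | rfl <;> decide
  have := word_eq_of_check c c' hc hc'
    [(r, 1, 1, 0), (s, 1, 0, 1)] [(s, 1, 0, 1), (r, 1, 1, 0)]
    (by
      intro q hq
      simp only [List.mem_cons, List.not_mem_nil, or_false] at hq
      rcases hq with rfl | rfl <;> assumption)
    (by
      intro q hq
      simp only [List.mem_cons, List.not_mem_nil, or_false] at hq
      rcases hq with rfl | rfl <;> assumption)
    (key r hr s hs)
  simpa [mul_assoc] using this

/-- the norm entry of the negative Ree element with `u = v = 0` -/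
theorem entry_t (t T : K) (ht : t ≠ 0) (hT : T ≠ 0) :
    ((relG2.xU 4 (-T) * relG2.xU 5 (-t) * relG2.xU 3 (-(t * T)) * relG2.xU 2 (-(t * T ^ 2)) :
      GL cdG2.D.Idx K) : Matrix cdG2.D.Idx cdG2.D.Idx K)
        (Sum.inr ⟨0, by decide⟩) (Sum.inr ⟨11, by decide⟩) = t ^ 4 * T ^ 6 := by
  have := word_entry_of_check t T ht hT
    [(4, -1, 0, 1), (5, -1, 1, 0), (3, -1, 1, 1), (2, -1, 1, 2)] (by decide)
    (Sum.inr ⟨0, by decide⟩) (Sum.inr ⟨11, by decide⟩) [⟨2, 1, 4, 6⟩] (by decide +kernel)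
  simp only [List.map_cons, List.map_nil, List.prod_cons, List.prod_nil, mul_one] at this
  have e : mvAt t T [⟨2, 1, 4, 6⟩] (code cdG2.D (Sum.inr ⟨0, by decide⟩)) = t ^ 4 * T ^ 6 := by
    have hc : code cdG2.D (Sum.inr ⟨0, by decide⟩) = 2 := rfl
    rw [hc, mvAt_cons, mvAt_nil]
    simp only [tEval, if_true, add_zero, Int.cast_one, one_mul]
    norm_cast
  rw [e] at this
  rw [← this]
  simp [mul_assoc]

/-- the norm entry of the negative Ree element with `t = u = 0` -/
theorem entry_v (x X : K) (hx : x ≠ 0) (hX : X ≠ 0) :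
    ((relG2.xU 2 (-X) * relG2.xU 0 (-x) : GL cdG2.D.Idx K) : Matrix cdG2.D.Idx cdG2.D.Idx K)
        (Sum.inr ⟨0, by decide⟩) (Sum.inr ⟨11, by decide⟩) = -x ^ 2 := by
  have := word_entry_of_check x X hx hX
    [(2, -1, 0, 1), (0, -1, 1, 0)] (by decide)
    (Sum.inr ⟨0, by decide⟩) (Sum.inr ⟨11, by decide⟩) [⟨2, -1, 2, 0⟩] (by decide +kernel)
  simp only [List.map_cons, List.map_nil, List.prod_cons, List.prod_nil, mul_one] at this
  have e : mvAt x X [⟨2, -1, 2, 0⟩] (code cdG2.D (Sum.inr ⟨0, by decide⟩)) = -x ^ 2 := by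
    have hc : code cdG2.D (Sum.inr ⟨0, by decide⟩) = 2 := rfl
    rw [hc, mvAt_cons, mvAt_nil]
    simp only [tEval, if_true, add_zero, zpow_zero, mul_one]
    have h1 : ((-1 : ℤ) : K) = -1 := by norm_num
    rw [h1]
    have h2 : x ^ (2 : ℤ) = x ^ 2 := by norm_cast
    rw [h2]
    ring
  rw [e] at this
  rw [← this]
  simp

end

end Cfsg.Agent.Lib.Helper3.Ree
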