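import Mathlib
set_option autoImplicit false
set_option linter.unusedSectionVars false
set_option linter.style.haveILetI false

/-!
The abstract computation with the six one-parameter subgroups of a maximal unipotent subgroup of
`G₂` in characteristic 3: the elements fixed by the twisting automorphism.
-/

namespace Cfsg.Agent.Lib.Helper3.Ree

/-- products of four pairwise commuting pairs -/
theorem four_mul {M : Type*} [Monoid M] (a b c d a' b' c' d' : M) (hba : Commute b a') (hca : Commute c a')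
    (hda : Commute d a') (hcb : Commute c b') (hdb : Commute d b') (hdc : Commute d c') :
    (a * b * c * d) * (a' * b' * c' * d') = (a * a') * (b * b') * (c * c') * (d * d') := by
  simp only [mul_assoc]
  rw [hda.left_comm, hca.left_comm, hba.left_comm, hdb.left_comm, hcb.left_comm, hdc.left_comm]

/-- Six one-parameter subgroups with the relations of the positive root subgroups of `G₂` in
characteristic 3. -/
structure RSys (K : Type*) [Field K] (Γ : Type*) [Group Γ] where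
  xa : K → Γ
  xb : K → Γ
  x1 : K → Γ
  x2 : K → Γ
  x3 : K → Γ
  x4 : K → Γ
  xa_add : ∀ s t, xa (s + t) = xa s * xa t
  xb_add : ∀ s t, xb (s + t) = xb s * xb t
  x1_add : ∀ s t, x1 (s + t) = x1 s * x1 t
  x2_add : ∀ s t, x2 (s + t) = x2 s * x2 t
  x3_add : ∀ s t, x3 (s + t) = x3 s * x3 t
  x4_add : ∀ s t, x4 (s + t) = x4 s * x4 t
  c12 : ∀ s t, Commute (x1 s) (x2 t)
  c13 : ∀ s t, Commute (x1 s) (x3 t)
  c14 : ∀ s t, Commute (x1 s) (x4 t)
  c23 : ∀ s t, Commute (x2 s) (x3 t)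
  c24 : ∀ s t, Commute (x2 s) (x4 t)
  c34 : ∀ s t, Commute (x3 s) (x4 t)
  core : ∀ t T, xb t * xa T * x3 (t * T ^ 3) * x4 (t ^ 2 * T ^ 3) = xa T * xb t * x1 (t * T) * x2 (t * T ^ 2)

section
variable {K : Type*} [Field K] {Γ : Type*} [Group Γ] (S : RSys K Γ)

theorem add_zero_one {f : K → Γ} (h : ∀ s t, f (s + t) = f s * f t) : f 0 = 1 := by
  have := h 0 0
  rw [add_zero] at this
  exact (mul_eq_left.mp this.symm)

theorem add_neg_inv {f : K → Γ} (h : ∀ s t, f (s + t) = f s * f t) (c : K) : f (-c) = (f c)⁻¹ := by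
  apply eq_inv_of_mul_eq_one_left
  rw [← h, neg_add_cancel, add_zero_one h]

theorem RSys.c11 (s t : K) : Commute (S.x1 s) (S.x1 t) := by
  show S.x1 s * S.x1 t = S.x1 t * S.x1 s
  rw [← S.x1_add, ← S.x1_add, add_comm]

theorem RSys.c22 (s t : K) : Commute (S.x2 s) (S.x2 t) := by
  show S.x2 s * S.x2 t = S.x2 t * S.x2 s
  rw [← S.x2_add, ← S.x2_add, add_comm]

theorem RSys.c33 (s t : K) : Commute (S.x3 s) (S.x3 t) := by
  show S.x3 s * S.x3 t = S.x3 t * S.x3 s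
  rw [← S.x3_add, ← S.x3_add, add_comm]

/-- the product of the root elements of height at least two -/
def RSys.hi (c1 c2 c3 c4 : K) : Γ := S.x1 c1 * S.x2 c2 * S.x3 c3 * S.x4 c4

theorem RSys.hi_mul (c1 c2 c3 c4 d1 d2 d3 d4 : K) :
    S.hi c1 c2 c3 c4 * S.hi d1 d2 d3 d4 = S.hi (c1 + d1) (c2 + d2) (c3 + d3) (c4 + d4) := by
  unfold RSys.hi
  rw [four_mul _ _ _ _ _ _ _ _ (S.c12 _ _).symm (S.c13 _ _).symm (S.c14 _ _).symm (S.c23 _ _).symm
    (S.c24 _ _).symm (S.c34 _ _).symm, S.x1_add, S.x2_add, S.x3_add, S.x4_add]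

theorem RSys.hi_zero : S.hi 0 0 0 0 = 1 := by
  unfold RSys.hi
  rw [add_zero_one S.x1_add, add_zero_one S.x2_add, add_zero_one S.x3_add, add_zero_one S.x4_add]
  simp

theorem RSys.hi_inv (c1 c2 c3 c4 : K) : (S.hi c1 c2 c3 c4)⁻¹ = S.hi (-c1) (-c2) (-c3) (-c4) := by
  apply inv_eq_of_mul_eq_one_right
  rw [S.hi_mul]
  simp [S.hi_zero]

/-- a permuted product of the root elements of height at least two -/
theorem RSys.hi_perm (c1 c2 c3 c4 : K) : S.x3 c3 * S.x4 c4 * S.x1 c1 * S.x2 c2 = S.hi c1 c2 c3 c4 := by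
  have h1 : S.x3 c3 * S.x4 c4 = S.hi 0 0 c3 c4 := by
    unfold RSys.hi
    rw [add_zero_one S.x1_add, add_zero_one S.x2_add]
    simp
  have h2 : S.x1 c1 * S.x2 c2 = S.hi c1 c2 0 0 := by
    unfold RSys.hi
    rw [add_zero_one S.x3_add, add_zero_one S.x4_add]
    simp
  rw [mul_assoc, h1, h2, S.hi_mul]
  simp

/-- interchanging the two root elements of height one -/
theorem RSys.swap (t T : K) :
    S.xa T * S.xb t = S.xb t * S.xa T * S.hi (-(t * T)) (-(t * T ^ 2)) (t * T ^ 3) (t ^ 2 * T ^ 3) := by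
  have h := S.core t T
  have h1 : S.xb t * S.xa T * S.x3 (t * T ^ 3) * S.x4 (t ^ 2 * T ^ 3) =
      S.xb t * S.xa T * S.hi 0 0 (t * T ^ 3) (t ^ 2 * T ^ 3) := by
    unfold RSys.hi
    rw [add_zero_one S.x1_add, add_zero_one S.x2_add]
    simp [mul_assoc]
  have h2 : S.xa T * S.xb t * S.x1 (t * T) * S.x2 (t * T ^ 2) =
      S.xa T * S.xb t * S.hi (t * T) (t * T ^ 2) 0 0 := by
    unfold RSys.hi
    rw [add_zero_one S.x3_add, add_zero_one S.x4_add]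
    simp [mul_assoc]
  rw [h1, h2] at h
  have h3 : S.xa T * S.xb t = S.xb t * S.xa T * S.hi 0 0 (t * T ^ 3) (t ^ 2 * T ^ 3) *
      (S.hi (t * T) (t * T ^ 2) 0 0)⁻¹ := by
    rw [h]
    group
  rw [h3, S.hi_inv, mul_assoc, S.hi_mul]
  simp

end

section
variable {K : Type*} [Field K] [CharP K 3] {Γ : Type*} [Group Γ] (S : RSys K Γ)

/-- the elements which will be fixed by the twisting automorphism -/
def RSys.ree (θ : ℕ) (t u v : K) : Γ :=
  S.xa (t ^ θ) * S.xb t * S.x1 (t ^ (θ + 1) + u ^ θ) * S.x2 (t ^ (2 * θ + 1) + v ^ θ) * S.x3 u * S.x4 v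

theorem RSys.ree_eq (θ : ℕ) (t u v : K) :
    S.ree θ t u v = S.xa (t ^ θ) * S.xb t * S.hi (t ^ (θ + 1) + u ^ θ) (t ^ (2 * θ + 1) + v ^ θ) u v := by
  unfold RSys.ree RSys.hi
  simp only [mul_assoc]

/-- the elements in the increasing order of the roots -/
theorem RSys.ree_eq' (θ : ℕ) (t u v : K) :
    S.ree θ t u v = S.xb t * S.xa (t ^ θ) *
      S.hi (u ^ θ) (v ^ θ) (u + t * (t ^ θ) ^ 3) (v + t ^ 2 * (t ^ θ) ^ 3) := by
  rw [S.ree_eq, S.swap, mul_assoc, S.hi_mul]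
  congr 2 <;> ring

/-- the action of the twisting automorphism -/
structure RSys.Tw (σ : Γ →* Γ) (θ : ℕ) : Prop where
  xa : ∀ c, σ (S.xa c) = S.xb (c ^ (3 * θ))
  xb : ∀ c, σ (S.xb c) = S.xa (c ^ θ)
  x1 : ∀ c, σ (S.x1 c) = S.x3 (c ^ (3 * θ))
  x2 : ∀ c, σ (S.x2 c) = S.x4 (c ^ (3 * θ))
  x3 : ∀ c, σ (S.x3 c) = S.x1 (c ^ θ)
  x4 : ∀ c, σ (S.x4 c) = S.x2 (c ^ θ)

variable {S}

theorem RSys.Tw.hi {σ : Γ →* Γ} {θ : ℕ} (h : S.Tw σ θ) (c1 c2 c3 c4 : K) :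
    σ (S.hi c1 c2 c3 c4) = S.hi (c3 ^ θ) (c4 ^ θ) (c1 ^ (3 * θ)) (c2 ^ (3 * θ)) := by
  unfold RSys.hi
  rw [map_mul, map_mul, map_mul, h.x1, h.x2, h.x3, h.x4]
  exact S.hi_perm _ _ _ _

/-- the properties of the exponent `θ` -/
structure ThetaHyp (K : Type*) [Field K] (θ : ℕ) : Prop where
  add : ∀ x y : K, (x + y) ^ θ = x ^ θ + y ^ θ
  add3 : ∀ x y : K, (x + y) ^ (3 * θ) = x ^ (3 * θ) + y ^ (3 * θ)
  inv : ∀ x : K, (x ^ θ) ^ (3 * θ) = x

theorem ThetaHyp.inv' {θ : ℕ} (hθ : ThetaHyp K θ) (x : K) : (x ^ (3 * θ)) ^ θ = x := by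
  rw [← pow_mul, mul_comm, pow_mul]
  exact hθ.inv x

theorem add_pow_three_pow (m : ℕ) (x y : K) : (x + y) ^ 3 ^ m = x ^ 3 ^ m + y ^ 3 ^ m := by
  haveI : Fact (Nat.Prime 3) := ⟨by norm_num⟩
  exact add_pow_char_pow x y 3 m

theorem thetaHyp_of (m : ℕ) (hq : ∀ x : K, x ^ 3 ^ (2 * m + 1) = x) : ThetaHyp K (3 ^ m) where
  add := add_pow_three_pow m
  add3 := fun x y => by
    have : 3 * 3 ^ m = 3 ^ (m + 1) := by ring
    rw [this]
    exact add_pow_three_pow (m + 1) x y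
  inv := fun x => by
    rw [← pow_mul]
    have : 3 ^ m * (3 * 3 ^ m) = 3 ^ (2 * m + 1) := by ring
    rw [this]
    exact hq x

/-- the distinguished elements are fixed -/
theorem RSys.Tw.ree_fixed {σ : Γ →* Γ} {θ : ℕ} (h : S.Tw σ θ) (hθ : ThetaHyp K θ) (t u v : K) :
    σ (S.ree θ t u v) = S.ree θ t u v := by
  rw [S.ree_eq, map_mul, map_mul, h.xa, h.xb, h.hi, hθ.inv t]
  -- the parameters
  have e0 : t ^ (3 * θ) = (t ^ θ) ^ 3 := by rw [← pow_mul, mul_comm]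
  have e1 : (t ^ (θ + 1) + u ^ θ) ^ (3 * θ) = t * (t ^ θ) ^ 3 + u := by
    rw [hθ.add3, hθ.inv u, pow_succ, mul_pow, hθ.inv t, e0]
  have e2 : (t ^ (2 * θ + 1) + v ^ θ) ^ (3 * θ) = t ^ 2 * (t ^ θ) ^ 3 + v := by
    have e : t ^ (2 * θ + 1) = (t ^ θ) ^ 2 * t := by ring
    rw [hθ.add3, hθ.inv v, e, mul_pow, ← pow_mul, mul_comm 2, pow_mul, hθ.inv t, e0]
  rw [e1, e2]
  have e3 : S.hi (u ^ θ) (v ^ θ) (t * (t ^ θ) ^ 3 + u) (t ^ 2 * (t ^ θ) ^ 3 + v) =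
      S.hi 0 0 (t * (t ^ θ) ^ 3) (t ^ 2 * (t ^ θ) ^ 3) * S.hi (u ^ θ) (v ^ θ) u v := by
    rw [S.hi_mul]
    simp
  have e4 : S.xb t * S.xa (t ^ θ) * S.hi 0 0 (t * (t ^ θ) ^ 3) (t ^ 2 * (t ^ θ) ^ 3) =
      S.xa (t ^ θ) * S.xb t * S.hi (t * t ^ θ) (t * (t ^ θ) ^ 2) 0 0 := by
    have := S.core t (t ^ θ)
    unfold RSys.hi
    rw [add_zero_one S.x1_add, add_zero_one S.x2_add, add_zero_one S.x3_add, add_zero_one S.x4_add]
    simp only [mul_one, one_mul, mul_assoc] at this ⊢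
    exact this
  rw [e3, ← mul_assoc, e4, mul_assoc, S.hi_mul]
  congr 2 <;> ring

end

end Cfsg.Agent.Lib.Helper3.Ree
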