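import Mathlib
import Cfsg.Agent.Lib.Helper3.Ree5
set_option autoImplicit false
set_option linter.unusedSectionVars false
set_option linter.style.haveILetI false

/-!
The abstract computation, part 2: every fixed element is one of the distinguished elements.
-/

namespace Cfsg.Agent.Lib.Helper3.Ree

section
variable {K : Type*} [Field K] [CharP K 3] {Γ : Type*} [Group Γ] (S : RSys K Γ)

/-- uniqueness of the coordinates -/
def RSys.Inj : Prop := ∀ a b c1 c2 c3 c4 a' b' d1 d2 d3 d4 : K,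
  S.xb a * S.xa b * S.hi c1 c2 c3 c4 = S.xb a' * S.xa b' * S.hi d1 d2 d3 d4 →
  a = a' ∧ b = b' ∧ c1 = d1 ∧ c2 = d2 ∧ c3 = d3 ∧ c4 = d4

variable {S}

theorem ThetaHyp.sub {θ : ℕ} (hθ : ThetaHyp K θ) (x y : K) : (x - y) ^ θ = x ^ θ - y ^ θ := by
  have := hθ.add (x - y) y
  rw [sub_add_cancel] at this
  rw [this, add_sub_cancel_right]

theorem RSys.Inj.ree_inj (hinj : S.Inj) (θ : ℕ) (t u v t' u' v' : K)
    (h : S.ree θ t u v = S.ree θ t' u' v') : t = t' ∧ u = u' ∧ v = v' := by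
  rw [S.ree_eq', S.ree_eq'] at h
  obtain ⟨h1, -, -, -, h5, h6⟩ := hinj _ _ _ _ _ _ _ _ _ _ _ _ h
  subst h1
  exact ⟨rfl, add_right_cancel h5, add_right_cancel h6⟩

/-- a fixed element is one of the distinguished elements -/
theorem RSys.Tw.eq_ree_of_fixed {σ : Γ →* Γ} {θ : ℕ} (h : S.Tw σ θ) (hθ : ThetaHyp K θ) (hinj : S.Inj)
    (t s c1 c2 c3 c4 : K)
    (hfix : σ (S.xb t * S.xa s * S.hi c1 c2 c3 c4) = S.xb t * S.xa s * S.hi c1 c2 c3 c4) :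
    S.xb t * S.xa s * S.hi c1 c2 c3 c4 =
      S.ree θ t (c3 - t * (t ^ θ) ^ 3) (c4 - t ^ 2 * (t ^ θ) ^ 3) := by
  rw [map_mul, map_mul, h.xb, h.xa, h.hi, S.swap, mul_assoc, S.hi_mul] at hfix
  obtain ⟨h1, h2, h3, h4, -, -⟩ := hinj _ _ _ _ _ _ _ _ _ _ _ _ hfix
  rw [S.ree_eq']
  have e0 : ((t ^ θ) ^ 3) ^ θ = t := by
    rw [← pow_mul]
    exact hθ.inv t
  rw [h1] at h3 h4
  have e1 : (c3 - t * (t ^ θ) ^ 3) ^ θ = c1 := by
    rw [hθ.sub, mul_pow, e0, ← h3]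
    ring
  have e2 : (c4 - t ^ 2 * (t ^ θ) ^ 3) ^ θ = c2 := by
    rw [hθ.sub, mul_pow, e0, ← h4, ← pow_mul, mul_comm 2 θ, pow_mul]
    ring
  rw [e1, e2, ← h2]
  congr 2 <;> ring

end

end Cfsg.Agent.Lib.Helper3.Ree
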