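import Mathlib
import Cfsg.Prelude.Def_ChevStructure
import Cfsg.Prelude.Def_ChevG2
import Cfsg.Agent.Lib.Helper3.Ree1
import Cfsg.Agent.Lib.Helper3.Ree3
import Cfsg.Agent.Lib.Helper3.Ree6
set_option autoImplicit false
set_option linter.unusedSectionVars false
set_option linter.style.haveILetI false
open Cfsg Cfsg.Lie

/-!
The positive and the negative root systems of `G₂` as abstract systems, and the fixed points of
the twisting automorphism on the maximal unipotent subgroups.
-/

namespace Cfsg.Agent.Lib.Helper3.Ree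

open Cfsg.Agent.Lib.Helper3.ChevM Cfsg.Agent.Lib.Helper3.ChevSp Cfsg.Agent.Lib.Helper3.ChevAt
open Cfsg.Agent.Lib.Helper3

section
variable {K : Type*} [Field K]

theorem xG_add (r : ℕ) (hr : r < cdG2.D.nroots) (s t : K) :
    xG relG2 r hr (s + t) = xG relG2 r hr s * xG relG2 r hr t := by
  apply Subtype.ext
  show relG2.xU r (s + t) = relG2.xU r s * relG2.xU r t
  rw [relG2.xU_add]

theorem xG_add_neg (r : ℕ) (hr : r < cdG2.D.nroots) (s t : K) :
    xG relG2 r hr (-(s + t)) = xG relG2 r hr (-s) * xG relG2 r hr (-t) := by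
  rw [neg_add, xG_add]

theorem xG_commute [CharP K 3] (r s : ℕ) (hr : r < cdG2.D.nroots) (hs : s < cdG2.D.nroots)
    (h : (r ∈ [8, 9, 10, 11] ∧ s ∈ [8, 9, 10, 11]) ∨ (r ∈ [0, 1, 2, 3] ∧ s ∈ [0, 1, 2, 3])) (c c' : K) :
    Commute (xG relG2 r hr c) (xG relG2 s hs c') := by
  apply Subtype.ext
  show relG2.xU r c * relG2.xU s c' = relG2.xU s c' * relG2.xU r c
  rcases h with h | h
  · exact comm_high r s h.1 h.2 c c'
  · exact comm_low r s h.1 h.2 c c'

/-- the positive system -/
def reeSysPos (K : Type*) [Field K] [CharP K 3] : RSys K ↥(cdG2.D.group K) where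
  xa := xG relG2 7 (by decide)
  xb := xG relG2 6 (by decide)
  x1 := xG relG2 8 (by decide)
  x2 := xG relG2 9 (by decide)
  x3 := xG relG2 10 (by decide)
  x4 := xG relG2 11 (by decide)
  xa_add := xG_add 7 (by decide)
  xb_add := xG_add 6 (by decide)
  x1_add := xG_add 8 (by decide)
  x2_add := xG_add 9 (by decide)
  x3_add := xG_add 10 (by decide)
  x4_add := xG_add 11 (by decide)
  c12 := xG_commute 8 9 (by decide) (by decide) (Or.inl (by decide))
  c13 := xG_commute 8 10 (by decide) (by decide) (Or.inl (by decide))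
  c14 := xG_commute 8 11 (by decide) (by decide) (Or.inl (by decide))
  c23 := xG_commute 9 10 (by decide) (by decide) (Or.inl (by decide))
  c24 := xG_commute 9 11 (by decide) (by decide) (Or.inl (by decide))
  c34 := xG_commute 10 11 (by decide) (by decide) (Or.inl (by decide))
  core := fun t T => Subtype.ext (core_pos t T)

/-- the negative system -/
def reeSysNeg (K : Type*) [Field K] [CharP K 3] : RSys K ↥(cdG2.D.group K) where
  xa := fun c => xG relG2 4 (by decide) (-c)
  xb := fun c => xG relG2 5 (by decide) (-c)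
  x1 := fun c => xG relG2 3 (by decide) (-c)
  x2 := fun c => xG relG2 2 (by decide) (-c)
  x3 := fun c => xG relG2 1 (by decide) (-c)
  x4 := fun c => xG relG2 0 (by decide) (-c)
  xa_add := xG_add_neg 4 (by decide)
  xb_add := xG_add_neg 5 (by decide)
  x1_add := xG_add_neg 3 (by decide)
  x2_add := xG_add_neg 2 (by decide)
  x3_add := xG_add_neg 1 (by decide)
  x4_add := xG_add_neg 0 (by decide)
  c12 := fun _ _ => xG_commute 3 2 (by decide) (by decide) (Or.inr (by decide)) _ _
  c13 := fun _ _ => xG_commute 3 1 (by decide) (by decide) (Or.inr (by decide)) _ _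
  c14 := fun _ _ => xG_commute 3 0 (by decide) (by decide) (Or.inr (by decide)) _ _
  c23 := fun _ _ => xG_commute 2 1 (by decide) (by decide) (Or.inr (by decide)) _ _
  c24 := fun _ _ => xG_commute 2 0 (by decide) (by decide) (Or.inr (by decide)) _ _
  c34 := fun _ _ => xG_commute 1 0 (by decide) (by decide) (Or.inr (by decide)) _ _
  core := fun t T => Subtype.ext (core_neg t T)

end

section
variable {K : Type*} [Field K] [Fintype K] [CharP K 3]

theorem reeSigma_xG' (m : ℕ) (r s : ℕ) (hr : r < cdG2.D.nroots) (hs : s < cdG2.D.nroots) (e : ℕ)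
    (h1 : g2rho r = s) (h2 : 3 ^ m * g2lam r = e) (c : K) :
    reeSigma m (xG relG2 r hr c) = xG relG2 s hs (c ^ e) := by
  subst h1 h2
  exact reeSigma_xG m r hr c

theorem reeSysPos_tw (m : ℕ) : (reeSysPos K).Tw (reeSigma (K := K) m).toMonoidHom (3 ^ m) where
  xa := fun c => reeSigma_xG' m 7 6 (by decide) (by decide) _ (by decide) (by rw [mul_comm]; rfl) c
  xb := fun c => reeSigma_xG' m 6 7 (by decide) (by decide) _ (by decide) (by rw [show g2lam 6 = 1 from rfl, mul_one]) c
  x1 := fun c => reeSigma_xG' m 8 10 (by decide) (by decide) _ (by decide) (by rw [mul_comm]; rfl) c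
  x2 := fun c => reeSigma_xG' m 9 11 (by decide) (by decide) _ (by decide) (by rw [mul_comm]; rfl) c
  x3 := fun c => reeSigma_xG' m 10 8 (by decide) (by decide) _ (by decide) (by rw [show g2lam 10 = 1 from rfl, mul_one]) c
  x4 := fun c => reeSigma_xG' m 11 9 (by decide) (by decide) _ (by decide) (by rw [show g2lam 11 = 1 from rfl, mul_one]) c

theorem neg_pow_three_mul (m : ℕ) (c : K) : (-c) ^ (3 * 3 ^ m) = -c ^ (3 * 3 ^ m) := by
  apply Odd.neg_pow
  exact Odd.mul (by decide) (Odd.pow (by decide))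

theorem neg_pow_three_pow (m : ℕ) (c : K) : (-c) ^ 3 ^ m = -c ^ 3 ^ m := by
  apply Odd.neg_pow
  exact Odd.pow (by decide)

theorem reeSysNeg_tw (m : ℕ) : (reeSysNeg K).Tw (reeSigma (K := K) m).toMonoidHom (3 ^ m) where
  xa := fun c => by
    show reeSigma m (xG relG2 4 (by decide) (-c)) = xG relG2 5 (by decide) (-(c ^ (3 * 3 ^ m)))
    rw [← neg_pow_three_mul]
    exact reeSigma_xG' m 4 5 (by decide) (by decide) _ (by decide) (by rw [mul_comm]; rfl) _
  xb := fun c => by
    show reeSigma m (xG relG2 5 (by decide) (-c)) = xG relG2 4 (by decide) (-(c ^ 3 ^ m))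
    rw [← neg_pow_three_pow]
    exact reeSigma_xG' m 5 4 (by decide) (by decide) _ (by decide) (by rw [show g2lam 5 = 1 from rfl, mul_one]) _
  x1 := fun c => by
    show reeSigma m (xG relG2 3 (by decide) (-c)) = xG relG2 1 (by decide) (-(c ^ (3 * 3 ^ m)))
    rw [← neg_pow_three_mul]
    exact reeSigma_xG' m 3 1 (by decide) (by decide) _ (by decide) (by rw [mul_comm]; rfl) _
  x2 := fun c => by
    show reeSigma m (xG relG2 2 (by decide) (-c)) = xG relG2 0 (by decide) (-(c ^ (3 * 3 ^ m)))
    rw [← neg_pow_three_mul]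
    exact reeSigma_xG' m 2 0 (by decide) (by decide) _ (by decide) (by rw [mul_comm]; rfl) _
  x3 := fun c => by
    show reeSigma m (xG relG2 1 (by decide) (-c)) = xG relG2 3 (by decide) (-(c ^ 3 ^ m))
    rw [← neg_pow_three_pow]
    exact reeSigma_xG' m 1 3 (by decide) (by decide) _ (by decide) (by rw [show g2lam 1 = 1 from rfl, mul_one]) _
  x4 := fun c => by
    show reeSigma m (xG relG2 0 (by decide) (-c)) = xG relG2 2 (by decide) (-(c ^ 3 ^ m))
    rw [← neg_pow_three_pow]
    exact reeSigma_xG' m 0 2 (by decide) (by decide) _ (by decide) (by rw [show g2lam 0 = 1 from rfl, mul_one]) _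

theorem thetaHyp_of_card (m : ℕ) (hK : Fintype.card K = 3 ^ (2 * m + 1)) : ThetaHyp K (3 ^ m) := by
  apply thetaHyp_of
  intro x
  rw [← hK]
  exact FiniteField.pow_card x

end

end Cfsg.Agent.Lib.Helper3.Ree
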