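import Mathlib
import Cfsg.Prelude.Def_ChevStructure
import Cfsg.Prelude.Def_ChevG2
import Cfsg.Prelude.Def_LieTwisted
import Cfsg.Agent.Lib.Helper3.Ree7
set_option autoImplicit false
set_option linter.unusedSectionVars false
set_option linter.style.haveILetI false
open Cfsg Cfsg.Lie

/-!
The fixed points of the twisting automorphism on the maximal unipotent subgroup of `G₂`.
-/

namespace Cfsg.Agent.Lib.Helper3.Ree

open Cfsg.Agent.Lib.Helper3.ChevM Cfsg.Agent.Lib.Helper3.ChevSp Cfsg.Agent.Lib.Helper3.ChevAt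
open Cfsg.Agent.Lib.Helper3 ChevU

section
variable {K : Type*} [Field K]

/-- the coordinates as a function on the roots -/
def tup (a b c1 c2 c3 c4 : K) : ℕ → K := fun r => [a, b, c1, c2, c3, c4].getD (r - 6) 0

theorem lprod_tup (a b c1 c2 c3 c4 : K) :
    RootSys.lprod (fun r (t : K) => relG2.xU r t) [6, 7, 8, 9, 10, 11] (tup a b c1 c2 c3 c4) =
      relG2.xU 6 a * relG2.xU 7 b * (relG2.xU 8 c1 * relG2.xU 9 c2 * relG2.xU 10 c3 * relG2.xU 11 c4) := by
  simp [RootSys.lprod, tup, mul_assoc]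

theorem posRoots_g2 : cdG2.D.posRoots = [6, 7, 8, 9, 10, 11] := by decide

theorem pw_inj (a b c1 c2 c3 c4 a' b' d1 d2 d3 d4 : K)
    (h : relG2.xU 6 a * relG2.xU 7 b * (relG2.xU 8 c1 * relG2.xU 9 c2 * relG2.xU 10 c3 * relG2.xU 11 c4) =
      relG2.xU 6 a' * relG2.xU 7 b' * (relG2.xU 8 d1 * relG2.xU 9 d2 * relG2.xU 10 d3 * relG2.xU 11 d4)) :
    a = a' ∧ b = b' ∧ c1 = d1 ∧ c2 = d2 ∧ c3 = d3 ∧ c4 = d4 := by
  rw [← lprod_tup, ← lprod_tup] at h
  have key := relG2.lprod_inj (F := K) uhypG2.hf uhypG2.fr uhypG2.wj uhypG2.wi uhypG2.lev uhypG2.frm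
    uhypG2.wit [6, 7, 8, 9, 10, 11] (by decide) (by decide) _ _ h
  refine ⟨?_, ?_, ?_, ?_, ?_, ?_⟩
  · simpa [tup] using key 6 (by decide)
  · simpa [tup] using key 7 (by decide)
  · simpa [tup] using key 8 (by decide)
  · simpa [tup] using key 9 (by decide)
  · simpa [tup] using key 10 (by decide)
  · simpa [tup] using key 11 (by decide)

theorem pw_surj (g : GL cdG2.D.Idx K) (hg : g ∈ cdG2.D.posUnipotent K) :
    ∃ a b c1 c2 c3 c4 : K, g =
      relG2.xU 6 a * relG2.xU 7 b * (relG2.xU 8 c1 * relG2.xU 9 c2 * relG2.xU 10 c3 * relG2.xU 11 c4) := by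
  obtain ⟨t, -, ht⟩ := uhypG2.K.exists_word (F := K) uhypG2.col uhypG2.inj cdG2.D.posRoots
    (nodup_posRoots cdG2.D) (mem_posRoots cdG2.D) g hg
  refine ⟨t 6, t 7, t 8, t 9, t 10, t 11, ?_⟩
  rw [ht, posRoots_g2]
  simp [RootSys.lprod, mul_assoc]

end

section
variable {K : Type*} [Field K] [CharP K 3]

theorem reeSysPos_inj : (reeSysPos K).Inj := by
  intro a b c1 c2 c3 c4 a' b' d1 d2 d3 d4 h
  have := congrArg Subtype.val h
  exact pw_inj _ _ _ _ _ _ _ _ _ _ _ _ this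

theorem reeSysPos_surj (g : GL cdG2.D.Idx K) (hg : g ∈ cdG2.D.posUnipotent K) :
    ∃ a b c1 c2 c3 c4 : K, g =
      (((reeSysPos K).xb a * (reeSysPos K).xa b * (reeSysPos K).hi c1 c2 c3 c4 : ↥(cdG2.D.group K)) :
        GL cdG2.D.Idx K) := by
  obtain ⟨a, b, c1, c2, c3, c4, h⟩ := pw_surj g hg
  exact ⟨a, b, c1, c2, c3, c4, h⟩

/-- the distinguished elements in the general linear group -/
def reeU (θ : ℕ) (t u v : K) : GL cdG2.D.Idx K := (((reeSysPos K).ree θ t u v : ↥(cdG2.D.group K)) : GL cdG2.D.Idx K)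

/-- the distinguished negative elements in the general linear group -/
def reeV (θ : ℕ) (t u v : K) : GL cdG2.D.Idx K := (((reeSysNeg K).ree θ t u v : ↥(cdG2.D.group K)) : GL cdG2.D.Idx K)

theorem reeU_val (θ : ℕ) (t u v : K) :
    ((reeU θ t u v : GL cdG2.D.Idx K) : Matrix cdG2.D.Idx cdG2.D.Idx K) =
      chevG2.wordMat K (reeWordU θ t u v) := by
  show _ = cdG2.D.wordMat K (reeWordU θ t u v)
  rw [← relG2.wordU_val]
  congr 1
  simp [reeU, RSys.ree, reeSysPos, reeWordU, RelData.wordU, xG, mul_assoc, g2a, g2b, g2ab, g2aab, g2aaab,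
    g2aaabb]

theorem reeV_val (θ : ℕ) (t u v : K) :
    ((reeV θ t u v : GL cdG2.D.Idx K) : Matrix cdG2.D.Idx cdG2.D.Idx K) =
      chevG2.wordMat K (reeWordV θ t u v) := by
  show _ = cdG2.D.wordMat K (reeWordV θ t u v)
  rw [← relG2.wordU_val]
  congr 1
  have h6 : chevG2.negIdx[6]?.getD 0 = 5 := by decide
  have h7 : chevG2.negIdx[7]?.getD 0 = 4 := by decide
  have h8 : chevG2.negIdx[8]?.getD 0 = 3 := by decide
  have h9 : chevG2.negIdx[9]?.getD 0 = 2 := by decide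
  have h10 : chevG2.negIdx[10]?.getD 0 = 1 := by decide
  have h11 : chevG2.negIdx[11]?.getD 0 = 0 := by decide
  simp [reeV, RSys.ree, reeSysNeg, reeWordV, reeWordU, ChevalleyDatum.negWord, RelData.wordU, xG, mul_assoc,
    g2a, g2b, g2ab, g2aab, g2aaab, g2aaabb, h6, h7, h8, h9, h10, h11]

theorem reeU_mem_pos (θ : ℕ) (t u v : K) : reeU θ t u v ∈ cdG2.D.posUnipotent K := by
  have h : ∀ (r : ℕ) (hr : cdG2.D.IsPosRoot r) (c : K), relG2.xU r c ∈ cdG2.D.posUnipotent K :=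
    fun r hr c => Subgroup.subset_closure ⟨r, c, hr, relG2.xU_val r c⟩
  unfold reeU RSys.ree
  simp only [Subgroup.coe_mul]
  refine Subgroup.mul_mem _ (Subgroup.mul_mem _ (Subgroup.mul_mem _ (Subgroup.mul_mem _
    (Subgroup.mul_mem _ ?_ ?_) ?_) ?_) ?_) ?_
  · exact h 7 (by decide) _
  · exact h 6 (by decide) _
  · exact h 8 (by decide) _
  · exact h 9 (by decide) _
  · exact h 10 (by decide) _
  · exact h 11 (by decide) _

theorem reeV_mem_neg (θ : ℕ) (t u v : K) : reeV θ t u v ∈ cdG2.D.negUnipotent K := by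
  have h : ∀ (r : ℕ) (hr : cdG2.D.IsNegRoot r) (c : K), relG2.xU r c ∈ cdG2.D.negUnipotent K :=
    fun r hr c => Subgroup.subset_closure ⟨r, c, hr, relG2.xU_val r c⟩
  unfold reeV RSys.ree
  simp only [Subgroup.coe_mul]
  refine Subgroup.mul_mem _ (Subgroup.mul_mem _ (Subgroup.mul_mem _ (Subgroup.mul_mem _
    (Subgroup.mul_mem _ ?_ ?_) ?_) ?_) ?_) ?_
  · exact h 4 (by decide) _
  · exact h 5 (by decide) _
  · exact h 3 (by decide) _
  · exact h 2 (by decide) _
  · exact h 1 (by decide) _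
  · exact h 0 (by decide) _

end

section
variable {K : Type*} [Field K] [Fintype K] [CharP K 3]

theorem sg_reeU (m : ℕ) (hK : Fintype.card K = 3 ^ (2 * m + 1)) (t u v : K) :
    (reeTw (K := K) m).sg (reeU (3 ^ m) t u v) = reeU (3 ^ m) t u v := by
  unfold reeU
  rw [(reeTw (K := K) m).sg_of_mem (Subtype.property _)]
  have := (reeSysPos_tw (K := K) m).ree_fixed (thetaHyp_of_card m hK) t u v
  exact congrArg Subtype.val this

theorem sg_reeV (m : ℕ) (hK : Fintype.card K = 3 ^ (2 * m + 1)) (t u v : K) :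
    (reeTw (K := K) m).sg (reeV (3 ^ m) t u v) = reeV (3 ^ m) t u v := by
  unfold reeV
  rw [(reeTw (K := K) m).sg_of_mem (Subtype.property _)]
  have := (reeSysNeg_tw (K := K) m).ree_fixed (thetaHyp_of_card m hK) t u v
  exact congrArg Subtype.val this

/-- the fixed points on the maximal unipotent subgroup -/
theorem fixed_posUnipotent (m : ℕ) (hK : Fintype.card K = 3 ^ (2 * m + 1)) (g : GL cdG2.D.Idx K)
    (hg : g ∈ cdG2.D.posUnipotent K) (hfix : (reeTw (K := K) m).sg g = g) :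
    ∃ t u v : K, g = reeU (3 ^ m) t u v := by
  obtain ⟨a, b, c1, c2, c3, c4, rfl⟩ := reeSysPos_surj g hg
  rw [(reeTw (K := K) m).sg_of_mem (Subtype.property _)] at hfix
  have hfix' : (reeSigma (K := K) m).toMonoidHom
      ((reeSysPos K).xb a * (reeSysPos K).xa b * (reeSysPos K).hi c1 c2 c3 c4) =
      (reeSysPos K).xb a * (reeSysPos K).xa b * (reeSysPos K).hi c1 c2 c3 c4 := Subtype.ext hfix
  have := (reeSysPos_tw (K := K) m).eq_ree_of_fixed (thetaHyp_of_card m hK) reeSysPos_inj _ _ _ _ _ _ hfix'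
  exact ⟨_, _, _, congrArg Subtype.val this⟩

theorem reeU_inj (θ : ℕ) (t u v t' u' v' : K) (h : reeU θ t u v = reeU θ t' u' v') :
    t = t' ∧ u = u' ∧ v = v' :=
  reeSysPos_inj.ree_inj θ t u v t' u' v' (Subtype.ext h)

end

end Cfsg.Agent.Lib.Helper3.Ree
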