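import Mathlib
import Cfsg.Prelude.Def_ChevStructure
import Cfsg.Prelude.Def_ChevG2
import Cfsg.Prelude.Def_LieTwisted
import Cfsg.Agent.Lib.Helper3.Ree8
set_option autoImplicit false
set_option linter.unusedSectionVars false
set_option linter.style.haveILetI false
open Cfsg Cfsg.Lie

/-!
The diagonal subgroup of `G₂` and the fixed points of the twisting automorphism on it.
-/

namespace Cfsg.Agent.Lib.Helper3.Ree

open Cfsg.Agent.Lib.Helper3.ChevM Cfsg.Agent.Lib.Helper3.ChevSp Cfsg.Agent.Lib.Helper3.ChevAt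
open Cfsg.Agent.Lib.Helper3 ChevU

section
variable {K : Type*} [Field K]

/-- the parameters of an element of the diagonal subgroup -/
def pairFn (c0 c1 : K) : ℕ → K := fun i => if i = 0 then c0 else c1

/-- the elements of the diagonal subgroup -/
def hT (c0 c1 : K) : GL cdG2.D.Idx K := relG2.hU 7 c0 * relG2.hU 6 c1

theorem hT_val (c0 c1 : K) (h0 : c0 ≠ 0) (h1 : c1 ≠ 0) :
    ((hT c0 c1 : GL cdG2.D.Idx K) : Matrix cdG2.D.Idx cdG2.D.Idx K) =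
      Matrix.diagonal (relG2.torusExp (pairFn c0 c1)) := by
  have hc : ∀ i < cdG2.D.rank, pairFn c0 c1 i ≠ 0 := by
    intro i _
    unfold pairFn
    split_ifs <;> assumption
  rw [← relG2.hProd_eq_diag (pairFn c0 c1) hc]
  have hr : List.range cdG2.D.rank = [0, 1] := rfl
  rw [hr]
  have s0 : cdG2.D.simple 0 = 7 := by decide
  have s1 : cdG2.D.simple 1 = 6 := by decide
  simp [hT, pairFn, s0, s1, relG2.hU_val]

theorem hT_mem (c0 c1 : K) (h0 : c0 ≠ 0) (h1 : c1 ≠ 0) : hT c0 c1 ∈ cdG2.D.diagonalSubgroup K :=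
  Subgroup.mul_mem _ (relG2.hU_mem 7 (by decide) c0 h0) (relG2.hU_mem 6 (by decide) c1 h1)

theorem exists_hT (h : GL cdG2.D.Idx K) (hh : h ∈ cdG2.D.diagonalSubgroup K) :
    ∃ c0 c1 : K, c0 ≠ 0 ∧ c1 ≠ 0 ∧ h = hT c0 c1 := by
  obtain ⟨c, hc, e⟩ := relG2.diagonalSubgroup_le_torus (F := K) bnG2.dec hh
  refine ⟨c 0, c 1, hc 0 (by decide), hc 1 (by decide), ?_⟩
  apply Units.ext
  rw [e, hT_val _ _ (hc 0 (by decide)) (hc 1 (by decide))]
  rfl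

theorem torusExp_9 (c : ℕ → K) : relG2.torusExp c (Sum.inr ⟨9, by decide⟩) = c 0 := by
  rw [relG2.torusExp_inr]
  have h1 : List.range cdG2.D.rank = [0, 1] := rfl
  rw [h1]
  have e0 : cdG2.D.cartan 0 (⟨9, by decide⟩ : Fin cdG2.D.nroots) = 1 := by decide
  have e1 : cdG2.D.cartan 1 (⟨9, by decide⟩ : Fin cdG2.D.nroots) = 0 := by decide
  simp [e0, e1]

theorem torusExp_11 (c : ℕ → K) : relG2.torusExp c (Sum.inr ⟨11, by decide⟩) = c 1 := by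
  rw [relG2.torusExp_inr]
  have h1 : List.range cdG2.D.rank = [0, 1] := rfl
  rw [h1]
  have e0 : cdG2.D.cartan 0 (⟨11, by decide⟩ : Fin cdG2.D.nroots) = 0 := by decide
  have e1 : cdG2.D.cartan 1 (⟨11, by decide⟩ : Fin cdG2.D.nroots) = 1 := by decide
  simp [e0, e1]

theorem torusExp_0 (c : ℕ → K) : relG2.torusExp c (Sum.inr ⟨0, by decide⟩) = (c 1)⁻¹ := by
  rw [relG2.torusExp_inr]
  have h1 : List.range cdG2.D.rank = [0, 1] := rfl
  rw [h1]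
  have e0 : cdG2.D.cartan 0 (⟨0, by decide⟩ : Fin cdG2.D.nroots) = 0 := by decide
  have e1 : cdG2.D.cartan 1 (⟨0, by decide⟩ : Fin cdG2.D.nroots) = -1 := by decide
  simp [e0, e1]

theorem hT_entry_9 (c0 c1 : K) (h0 : c0 ≠ 0) (h1 : c1 ≠ 0) :
    ((hT c0 c1 : GL cdG2.D.Idx K) : Matrix cdG2.D.Idx cdG2.D.Idx K) (Sum.inr ⟨9, by decide⟩)
      (Sum.inr ⟨9, by decide⟩) = c0 := by
  rw [hT_val c0 c1 h0 h1, Matrix.diagonal_apply_eq, torusExp_9]
  rfl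

theorem hT_entry_11 (c0 c1 : K) (h0 : c0 ≠ 0) (h1 : c1 ≠ 0) :
    ((hT c0 c1 : GL cdG2.D.Idx K) : Matrix cdG2.D.Idx cdG2.D.Idx K) (Sum.inr ⟨11, by decide⟩)
      (Sum.inr ⟨11, by decide⟩) = c1 := by
  rw [hT_val c0 c1 h0 h1, Matrix.diagonal_apply_eq, torusExp_11]
  rfl

theorem hT_entry_0 (c0 c1 : K) (h0 : c0 ≠ 0) (h1 : c1 ≠ 0) :
    ((hT c0 c1 : GL cdG2.D.Idx K) : Matrix cdG2.D.Idx cdG2.D.Idx K) (Sum.inr ⟨0, by decide⟩)
      (Sum.inr ⟨0, by decide⟩) = c1⁻¹ := by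
  rw [hT_val c0 c1 h0 h1, Matrix.diagonal_apply_eq, torusExp_0]
  rfl

theorem hT_inj (c0 c1 d0 d1 : K) (h0 : c0 ≠ 0) (h1 : c1 ≠ 0) (k0 : d0 ≠ 0) (k1 : d1 ≠ 0)
    (e : hT c0 c1 = hT d0 d1) : c0 = d0 ∧ c1 = d1 := by
  constructor
  · rw [← hT_entry_9 c0 c1 h0 h1, e, hT_entry_9 d0 d1 k0 k1]
  · rw [← hT_entry_11 c0 c1 h0 h1, e, hT_entry_11 d0 d1 k0 k1]

theorem hT_mul (c0 c1 d0 d1 : K) (h0 : c0 ≠ 0) (h1 : c1 ≠ 0) (k0 : d0 ≠ 0) (k1 : d1 ≠ 0) :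
    hT c0 c1 * hT d0 d1 = hT (c0 * d0) (c1 * d1) := by
  apply Units.ext
  rw [Units.val_mul, hT_val _ _ h0 h1, hT_val _ _ k0 k1, hT_val _ _ (mul_ne_zero h0 k0) (mul_ne_zero h1 k1),
    Matrix.diagonal_mul_diagonal]
  congr 1
  funext j
  rw [← relG2.torusExp_mul]
  congr 1
  funext i
  unfold pairFn
  split_ifs <;> rfl

theorem hU_comm (r s : ℕ) (hr : r < cdG2.D.nroots) (hs : s < cdG2.D.nroots) (a b : K) (ha : a ≠ 0)
    (hb : b ≠ 0) : relG2.hU r a * relG2.hU s b = relG2.hU s b * relG2.hU r a := by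
  apply Units.ext
  rw [Units.val_mul, Units.val_mul, relG2.hU_val, relG2.hU_val, relG2.hMat_diag r hr a ha,
    relG2.hMat_diag s hs b hb, Matrix.diagonal_mul_diagonal, Matrix.diagonal_mul_diagonal]
  congr 1
  funext j
  rw [mul_comm]

/-- the action on root elements -/
theorem hT_conj (c0 c1 : K) (h0 : c0 ≠ 0) (h1 : c1 ≠ 0) (s : ℕ) (hs : s < cdG2.D.nroots) (t : K) :
    hT c0 c1 * relG2.xU s t * (hT c0 c1)⁻¹ =
      relG2.xU s (c0 ^ cdG2.D.cartan 0 s * c1 ^ cdG2.D.cartan 1 s * t) := by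
  rw [mul_inv_eq_iff_eq_mul]
  apply Units.ext
  rw [Units.val_mul, Units.val_mul, relG2.xU_val, relG2.xU_val]
  have hc : ∀ i ∈ [0, 1], pairFn c0 c1 i ≠ 0 := by
    intro i _
    unfold pairFn
    split_ifs <;> assumption
  have key := relG2.hList_mul_x (F := K) [0, 1] (by decide) (pairFn c0 c1) hc s hs t
  have s0 : cdG2.D.simple 0 = 7 := by decide
  have s1 : cdG2.D.simple 1 = 6 := by decide
  simp only [List.map_cons, List.map_nil, List.prod_cons, List.prod_nil, mul_one, s0, s1, pairFn,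
    if_true, one_ne_zero, if_false] at key
  rw [← relG2.hU_val, ← relG2.hU_val, ← Units.val_mul] at key
  exact key

end

section
variable {K : Type*} [Field K] [Fintype K] [CharP K 3]

theorem sg_hT (m : ℕ) (c0 c1 : K) (h0 : c0 ≠ 0) (h1 : c1 ≠ 0) :
    (reeTw (K := K) m).sg (hT c0 c1) = hT (c1 ^ 3 ^ m) (c0 ^ (3 * 3 ^ m)) := by
  have hHG : cdG2.D.diagonalSubgroup K ≤ cdG2.D.group K := relG2.diagonalSubgroup_le_group
  unfold hT
  rw [(reeTw (K := K) m).sg_mul (hHG (relG2.hU_mem 7 (by decide) c0 h0)) (hHG (relG2.hU_mem 6 (by decide) c1 h1)),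
    (reeTw (K := K) m).sg_hU 7 (by decide) c0 h0, (reeTw (K := K) m).sg_hU 6 (by decide) c1 h1]
  have e7 : (reeTw (K := K) m).rho 7 = 6 := rfl
  have e6 : (reeTw (K := K) m).rho 6 = 7 := rfl
  have f7 : (reeTw (K := K) m).e 7 = 3 * 3 ^ m := by
    show 3 ^ m * g2lam 7 = _
    rw [mul_comm]; rfl
  have f6 : (reeTw (K := K) m).e 6 = 3 ^ m := by
    show 3 ^ m * g2lam 6 = _
    rw [show g2lam 6 = 1 from rfl, mul_one]
  rw [e7, e6, f7, f6]
  exact hU_comm 6 7 (by decide) (by decide) _ _ (pow_ne_zero _ h0) (pow_ne_zero _ h1)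

/-- the fixed elements of the diagonal subgroup -/
def hRee (θ : ℕ) (s : K) : GL cdG2.D.Idx K := hT (s ^ θ) s

theorem sg_hRee (m : ℕ) (hK : Fintype.card K = 3 ^ (2 * m + 1)) (s : K) (hs : s ≠ 0) :
    (reeTw (K := K) m).sg (hRee (3 ^ m) s) = hRee (3 ^ m) s := by
  unfold hRee
  rw [sg_hT m _ _ (pow_ne_zero _ hs) hs, (thetaHyp_of_card m hK).inv]

theorem fixed_diagonal (m : ℕ) (h : GL cdG2.D.Idx K) (hh : h ∈ cdG2.D.diagonalSubgroup K)
    (hfix : (reeTw (K := K) m).sg h = h) : ∃ s : K, s ≠ 0 ∧ h = hRee (3 ^ m) s := by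
  obtain ⟨c0, c1, h0, h1, rfl⟩ := exists_hT h hh
  rw [sg_hT m c0 c1 h0 h1] at hfix
  obtain ⟨e0, -⟩ := hT_inj _ _ _ _ (pow_ne_zero _ h1) (pow_ne_zero _ h0) h0 h1 hfix
  refine ⟨c1, h1, ?_⟩
  unfold hRee
  rw [e0]

end

end Cfsg.Agent.Lib.Helper3.Ree
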