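import Mathlib
import Cfsg.Prelude.Def_ChevStructure
import Cfsg.Prelude.Def_ChevG2
import Cfsg.Prelude.Def_LieTwisted
import Cfsg.Agent.Lib.Helper3.Ree4
import Cfsg.Agent.Lib.Helper3.Ree9
set_option autoImplicit false
set_option linter.unusedSectionVars false
set_option linter.style.haveILetI false
open Cfsg Cfsg.Lie

/-!
The group of fixed points of the twisting automorphism of `G₂`, the twisted group, and a matrix
entry distinguishing the two double cosets.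
-/

namespace Cfsg.Agent.Lib.Helper3.Ree

open Cfsg.Agent.Lib.Helper3.ChevM Cfsg.Agent.Lib.Helper3.ChevSp Cfsg.Agent.Lib.Helper3.ChevAt
open Cfsg.Agent.Lib.Helper3 ChevU ChevT

/-- the index of the lowest root -/
def iLow : cdG2.D.Idx := Sum.inr ⟨0, by decide⟩

/-- the index of the highest root -/
def iHigh : cdG2.D.Idx := Sum.inr ⟨11, by decide⟩

section
variable {K : Type*} [Field K]

/-- the twisted group -/
def tG2 (K : Type*) [Field K] (θ : ℕ) : Subgroup (GL cdG2.D.Idx K) := cdG2.D.genSubgroup K (g2Words K θ)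

theorem reeU_mem_tG2 [CharP K 3] (θ : ℕ) (t u v : K) : reeU θ t u v ∈ tG2 K θ :=
  Subgroup.subset_closure ⟨reeWordU θ t u v, ⟨t, u, v, Or.inl rfl⟩, reeU_val θ t u v⟩

theorem reeV_mem_tG2 [CharP K 3] (θ : ℕ) (t u v : K) : reeV θ t u v ∈ tG2 K θ :=
  Subgroup.subset_closure ⟨reeWordV θ t u v, ⟨t, u, v, Or.inr rfl⟩, reeV_val θ t u v⟩

theorem posIdx_iHigh (j : cdG2.D.Idx) : posIdx cdG2.D j < posIdx cdG2.D iHigh + 1 := by
  have h1 : posIdx cdG2.D iHigh = 13 := by decide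
  have h2 := posIdx_lt cdG2.D j
  have h3 : cdG2.D.rank + cdG2.D.nroots = 14 := rfl
  omega

theorem posIdx_iLow (j : cdG2.D.Idx) : posIdx cdG2.D iLow < posIdx cdG2.D j + 1 := by
  have h1 : posIdx cdG2.D iLow = 0 := by decide
  omega

theorem pos_col_high (u : GL cdG2.D.Idx K) (hu : u ∈ cdG2.D.posUnipotent K) (j : cdG2.D.Idx) :
    (u : Matrix cdG2.D.Idx cdG2.D.Idx K) j iHigh = (1 : Matrix cdG2.D.Idx cdG2.D.Idx K) j iHigh := by
  have h : Shift (posIdx cdG2.D) (0 + 1) ((u : Matrix cdG2.D.Idx cdG2.D.Idx K) - 1) :=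
    posUnipotent_le_ut (F := K) cdG2 bnG2.mono.tri hu
  have := h j iHigh (by rw [zero_add]; exact posIdx_iHigh j)
  rw [Matrix.sub_apply, sub_eq_zero] at this
  exact this

theorem pos_row_low (u : GL cdG2.D.Idx K) (hu : u ∈ cdG2.D.posUnipotent K) (j : cdG2.D.Idx) :
    (u : Matrix cdG2.D.Idx cdG2.D.Idx K) iLow j = (1 : Matrix cdG2.D.Idx cdG2.D.Idx K) iLow j := by
  have h : Shift (posIdx cdG2.D) (0 + 1) ((u : Matrix cdG2.D.Idx cdG2.D.Idx K) - 1) :=
    posUnipotent_le_ut (F := K) cdG2 bnG2.mono.tri hu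
  have := h iLow j (by rw [zero_add]; exact posIdx_iLow j)
  rw [Matrix.sub_apply, sub_eq_zero] at this
  exact this

/-- the distinguishing entry is not changed by multiplication by elements of `U` -/
theorem entry_mul_mul (u₁ u : GL cdG2.D.Idx K) (hu₁ : u₁ ∈ cdG2.D.posUnipotent K)
    (hu : u ∈ cdG2.D.posUnipotent K) (M : Matrix cdG2.D.Idx cdG2.D.Idx K) :
    ((u₁ : Matrix cdG2.D.Idx cdG2.D.Idx K) * M * (u : Matrix cdG2.D.Idx cdG2.D.Idx K)) iLow iHigh =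
      M iLow iHigh := by
  rw [Matrix.mul_apply, Finset.sum_eq_single iHigh]
  · rw [pos_col_high u hu, Matrix.one_apply_eq, mul_one, Matrix.mul_apply, Finset.sum_eq_single iLow]
    · rw [pos_row_low u₁ hu₁, Matrix.one_apply_eq, one_mul]
    · intro i _ hi
      rw [pos_row_low u₁ hu₁, Matrix.one_apply_ne (Ne.symm hi), zero_mul]
    · intro h; exact absurd (Finset.mem_univ _) h
  · intro j _ hj
    rw [pos_col_high u hu, Matrix.one_apply_ne hj, mul_zero]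
  · intro h; exact absurd (Finset.mem_univ _) h

theorem entry_hT_mul (c0 c1 : K) (h0 : c0 ≠ 0) (h1 : c1 ≠ 0) (M : Matrix cdG2.D.Idx cdG2.D.Idx K) :
    (((hT c0 c1 : GL cdG2.D.Idx K) : Matrix cdG2.D.Idx cdG2.D.Idx K) * M) iLow iHigh =
      c1⁻¹ * M iLow iHigh := by
  rw [hT_val c0 c1 h0 h1, Matrix.diagonal_mul]
  congr 1
  exact torusExp_0 _

theorem entry_mul_hT (c0 c1 : K) (h0 : c0 ≠ 0) (h1 : c1 ≠ 0) (M : Matrix cdG2.D.Idx cdG2.D.Idx K) :
    (M * ((hT c0 c1 : GL cdG2.D.Idx K) : Matrix cdG2.D.Idx cdG2.D.Idx K)) iLow iHigh =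
      M iLow iHigh * c1 := by
  rw [hT_val c0 c1 h0 h1, Matrix.mul_diagonal]
  congr 1
  exact torusExp_11 _

end

section
variable {K : Type*} [Field K] [Fintype K] [CharP K 3]

/-- the fixed points of the twisting automorphism -/
def fixG (K : Type*) [Field K] [Fintype K] [CharP K 3] (m : ℕ) : Subgroup (GL cdG2.D.Idx K) where
  carrier := {g | g ∈ cdG2.D.group K ∧ (reeTw (K := K) m).sg g = g}
  mul_mem' := by
    rintro a b ⟨ha, ha'⟩ ⟨hb, hb'⟩
    exact ⟨Subgroup.mul_mem _ ha hb, by rw [(reeTw (K := K) m).sg_mul ha hb, ha', hb']⟩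
  one_mem' := ⟨Subgroup.one_mem _, (reeTw (K := K) m).sg_one⟩
  inv_mem' := by
    rintro a ⟨ha, ha'⟩
    exact ⟨Subgroup.inv_mem _ ha, by rw [(reeTw (K := K) m).sg_inv ha, ha']⟩

theorem mem_fixG (m : ℕ) (g : GL cdG2.D.Idx K) :
    g ∈ fixG K m ↔ g ∈ cdG2.D.group K ∧ (reeTw (K := K) m).sg g = g := Iff.rfl

theorem reeU_mem_fixG (m : ℕ) (hK : Fintype.card K = 3 ^ (2 * m + 1)) (t u v : K) :
    reeU (3 ^ m) t u v ∈ fixG K m := ⟨Subtype.property _, sg_reeU m hK t u v⟩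

theorem reeV_mem_fixG (m : ℕ) (hK : Fintype.card K = 3 ^ (2 * m + 1)) (t u v : K) :
    reeV (3 ^ m) t u v ∈ fixG K m := ⟨Subtype.property _, sg_reeV m hK t u v⟩

theorem hRee_mem_fixG (m : ℕ) (hK : Fintype.card K = 3 ^ (2 * m + 1)) (s : K) (hs : s ≠ 0) :
    hRee (3 ^ m) s ∈ fixG K m :=
  ⟨relG2.diagonalSubgroup_le_group (hT_mem _ _ (pow_ne_zero _ hs) hs), sg_hRee m hK s hs⟩

theorem tG2_le_fixG (m : ℕ) (hK : Fintype.card K = 3 ^ (2 * m + 1)) : tG2 K (3 ^ m) ≤ fixG K m := by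
  unfold tG2 ChevalleyDatum.genSubgroup
  rw [Subgroup.closure_le]
  rintro g ⟨w, ⟨t, u, v, rfl | rfl⟩, hg⟩
  · have : g = reeU (3 ^ m) t u v := Units.ext (hg.trans (reeU_val _ t u v).symm)
    rw [this]
    exact reeU_mem_fixG m hK t u v
  · have : g = reeV (3 ^ m) t u v := Units.ext (hg.trans (reeV_val _ t u v).symm)
    rw [this]
    exact reeV_mem_fixG m hK t u v

/-- the representative of the longest element -/
def n0 (K : Type*) [Field K] : GL cdG2.D.Idx K := relG2.nWordU (F := K) w0G2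

/-- the canonical form of the fixed elements -/
theorem fixG_normal_form (m : ℕ) (hK : Fintype.card K = 3 ^ (2 * m + 1)) (g : GL cdG2.D.Idx K)
    (hg : g ∈ fixG K m) :
    (∃ t u v s : K, s ≠ 0 ∧ g = reeU (3 ^ m) t u v * hRee (3 ^ m) s) ∨
    (∃ (t u v : K) (h : GL cdG2.D.Idx K) (t' u' v' : K), h ∈ cdG2.D.diagonalSubgroup K ∧
      (reeTw (K := K) m).sg (h * n0 K) = h * n0 K ∧
      g = reeU (3 ^ m) t u v * (h * n0 K) * reeU (3 ^ m) t' u' v') := by
  rcases (reeTw (K := K) m).fix_normal_form atHypG2 g2p g2p_spec w0G2 (by decide) g2_weyl_comm g hg.1 hg.2 with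
    ⟨u₁, hu₁, hu₁f, h, hh, hhf, rfl⟩ | ⟨u₁, hu₁, hu₁f, h, hh, hhf, u, hu, huf, rfl⟩
  · left
    obtain ⟨t, u, v, rfl⟩ := fixed_posUnipotent m hK u₁ hu₁ hu₁f
    obtain ⟨s, hs, rfl⟩ := fixed_diagonal m h hh hhf
    exact ⟨t, u, v, s, hs, rfl⟩
  · right
    obtain ⟨t, u', v, rfl⟩ := fixed_posUnipotent m hK u₁ hu₁ hu₁f
    obtain ⟨t', u'', v', rfl⟩ := fixed_posUnipotent m hK u hu huf
    exact ⟨t, u', v, h, t', u'', v', hh, hhf, rfl⟩

end

end Cfsg.Agent.Lib.Helper3.Ree
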