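import Mathlib
import Cfsg.Prelude.Def_ChevStructure
import Cfsg.Prelude.Def_ChevG2
import Cfsg.Prelude.Def_LieTwisted
import Cfsg.Agent.Lib.Helper3.Ree10
set_option autoImplicit false
set_option linter.unusedSectionVars false
set_option linter.style.haveILetI false
open Cfsg Cfsg.Lie

/-!
The twisted group of type `G₂` is the group of fixed points of the twisting automorphism.
-/

namespace Cfsg.Agent.Lib.Helper3.Ree

open Cfsg.Agent.Lib.Helper3.ChevM Cfsg.Agent.Lib.Helper3.ChevSp Cfsg.Agent.Lib.Helper3.ChevAt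
open Cfsg.Agent.Lib.Helper3 ChevU ChevT

section
variable {K : Type*} [Field K] [CharP K 3]

theorem reeV_t_eq (θ : ℕ) (hθ : θ ≠ 0) :
    reeV θ (1 : K) 0 0 = relG2.xU 4 (-1) * relG2.xU 5 (-1) * relG2.xU 3 (-(1 * 1)) * relG2.xU 2 (-(1 * 1 ^ 2)) := by
  simp [reeV, RSys.ree, reeSysNeg, xG, hθ, xU_zero]

theorem reeV_v_eq (θ : ℕ) (hθ : θ ≠ 0) (x : K) :
    reeV θ (0 : K) 0 x = relG2.xU 2 (-(x ^ θ)) * relG2.xU 0 (-x) := by
  simp [reeV, RSys.ree, reeSysNeg, xG, hθ, xU_zero]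

theorem entry_reeV_t (θ : ℕ) (hθ : θ ≠ 0) :
    ((reeV θ (1 : K) 0 0 : GL cdG2.D.Idx K) : Matrix cdG2.D.Idx cdG2.D.Idx K) iLow iHigh = 1 := by
  rw [reeV_t_eq θ hθ]
  have := entry_t (K := K) 1 1 one_ne_zero one_ne_zero
  unfold iLow iHigh
  simpa using this

theorem entry_reeV_v (θ : ℕ) (hθ : θ ≠ 0) (x : K) (hx : x ≠ 0) :
    ((reeV θ (0 : K) 0 x : GL cdG2.D.Idx K) : Matrix cdG2.D.Idx cdG2.D.Idx K) iLow iHigh = -x ^ 2 := by
  rw [reeV_v_eq θ hθ]
  exact entry_v (K := K) x (x ^ θ) hx (pow_ne_zero _ hx)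

theorem hRee_mul (θ : ℕ) (s s' : K) (hs : s ≠ 0) (hs' : s' ≠ 0) :
    hRee θ (s * s') = hRee θ s * hRee θ s' := by
  unfold hRee
  rw [hT_mul _ _ _ _ (pow_ne_zero _ hs) hs (pow_ne_zero _ hs') hs', mul_pow]

theorem hRee_one (θ : ℕ) : hRee θ (1 : K) = 1 := by
  have h := hRee_mul θ (1 : K) 1 one_ne_zero one_ne_zero
  rw [mul_one] at h
  exact (mul_eq_left.mp h.symm)

theorem entry_pos_mul_hRee (θ : ℕ) (u : GL cdG2.D.Idx K) (hu : u ∈ cdG2.D.posUnipotent K) (s : K) (hs : s ≠ 0) :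
    ((u * hRee θ s : GL cdG2.D.Idx K) : Matrix cdG2.D.Idx cdG2.D.Idx K) iLow iHigh = 0 := by
  unfold hRee
  rw [Units.val_mul, entry_mul_hT _ _ (pow_ne_zero _ hs) hs, pos_row_low u hu, Matrix.one_apply_ne, zero_mul]
  decide

end

section
variable {K : Type*} [Field K] [Fintype K] [CharP K 3]

theorem three_pow_ne_zero (m : ℕ) : (3 : ℕ) ^ m ≠ 0 := pow_ne_zero _ (by norm_num)

/-- a fixed representative of the longest element lying in the twisted group -/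
theorem exists_n1 (m : ℕ) (hK : Fintype.card K = 3 ^ (2 * m + 1)) :
    ∃ h₀ : GL cdG2.D.Idx K, h₀ ∈ cdG2.D.diagonalSubgroup K ∧
      (reeTw (K := K) m).sg (h₀ * n0 K) = h₀ * n0 K ∧ h₀ * n0 K ∈ tG2 K (3 ^ m) ∧
      ((h₀ * n0 K : GL cdG2.D.Idx K) : Matrix cdG2.D.Idx cdG2.D.Idx K) iLow iHigh = 1 := by
  have hv := entry_reeV_t (K := K) (3 ^ m) (three_pow_ne_zero m)
  rcases fixG_normal_form m hK _ (reeV_mem_fixG m hK 1 0 0) with
    ⟨t, u, v, s, hs, e⟩ | ⟨t, u, v, h, t', u', v', hh, hfix, e⟩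
  · exfalso
    rw [e, entry_pos_mul_hRee _ _ (reeU_mem_pos _ t u v) s hs] at hv
    exact zero_ne_one hv
  · refine ⟨h, hh, hfix, ?_, ?_⟩
    · have : h * n0 K = (reeU (3 ^ m) t u v)⁻¹ * reeV (3 ^ m) 1 0 0 * (reeU (3 ^ m) t' u' v')⁻¹ := by
        rw [e]; group
      rw [this]
      exact Subgroup.mul_mem _ (Subgroup.mul_mem _ (Subgroup.inv_mem _ (reeU_mem_tG2 _ t u v))
        (reeV_mem_tG2 _ 1 0 0)) (Subgroup.inv_mem _ (reeU_mem_tG2 _ t' u' v'))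
    · rw [e, Units.val_mul, Units.val_mul, entry_mul_mul _ _ (reeU_mem_pos _ t u v) (reeU_mem_pos _ t' u' v')] at hv
      exact hv

/-- the chosen diagonal factor -/
noncomputable def h1 (m : ℕ) (hK : Fintype.card K = 3 ^ (2 * m + 1)) : GL cdG2.D.Idx K :=
  (exists_n1 (K := K) m hK).choose

/-- the chosen representative of the longest element -/
noncomputable def n1 (m : ℕ) (hK : Fintype.card K = 3 ^ (2 * m + 1)) : GL cdG2.D.Idx K :=
  h1 m hK * n0 K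

theorem h1_mem (m : ℕ) (hK : Fintype.card K = 3 ^ (2 * m + 1)) : h1 m hK ∈ cdG2.D.diagonalSubgroup K :=
  (exists_n1 (K := K) m hK).choose_spec.1

theorem sg_n1 (m : ℕ) (hK : Fintype.card K = 3 ^ (2 * m + 1)) :
    (reeTw (K := K) m).sg (n1 m hK) = n1 m hK := (exists_n1 (K := K) m hK).choose_spec.2.1

theorem n1_mem_tG2 (m : ℕ) (hK : Fintype.card K = 3 ^ (2 * m + 1)) : n1 m hK ∈ tG2 K (3 ^ m) :=
  (exists_n1 (K := K) m hK).choose_spec.2.2.1

theorem n1_entry (m : ℕ) (hK : Fintype.card K = 3 ^ (2 * m + 1)) :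
    ((n1 m hK : GL cdG2.D.Idx K) : Matrix cdG2.D.Idx cdG2.D.Idx K) iLow iHigh = 1 :=
  (exists_n1 (K := K) m hK).choose_spec.2.2.2

theorem n0_mem_monomial : n0 K ∈ cdG2.D.monomialSubgroup K := relG2.nWordU_mem w0G2 (by decide)

theorem n1_mem_monomial (m : ℕ) (hK : Fintype.card K = 3 ^ (2 * m + 1)) :
    n1 m hK ∈ cdG2.D.monomialSubgroup K :=
  Subgroup.mul_mem _ (Subgroup.mem_sup_left (h1_mem m hK)) n0_mem_monomial

theorem n1_mem_group (m : ℕ) (hK : Fintype.card K = 3 ^ (2 * m + 1)) : n1 m hK ∈ cdG2.D.group K :=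
  relG2.monomialSubgroup_le_group (n1_mem_monomial m hK)

theorem n1_mem_fixG (m : ℕ) (hK : Fintype.card K = 3 ^ (2 * m + 1)) : n1 m hK ∈ fixG K m :=
  ⟨n1_mem_group m hK, sg_n1 m hK⟩

/-- the refined canonical form of the fixed elements -/
theorem fixG_normal_form' (m : ℕ) (hK : Fintype.card K = 3 ^ (2 * m + 1)) (g : GL cdG2.D.Idx K)
    (hg : g ∈ fixG K m) :
    (∃ t u v s : K, s ≠ 0 ∧ g = reeU (3 ^ m) t u v * hRee (3 ^ m) s) ∨
    (∃ (t u v s t' u' v' : K), s ≠ 0 ∧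
      g = reeU (3 ^ m) t u v * (hRee (3 ^ m) s * n1 m hK) * reeU (3 ^ m) t' u' v') := by
  rcases fixG_normal_form m hK g hg with h | ⟨t, u, v, h, t', u', v', hh, hfix, e⟩
  · exact Or.inl h
  · right
    have hHG : cdG2.D.diagonalSubgroup K ≤ cdG2.D.group K := relG2.diagonalSubgroup_le_group
    have hNG : cdG2.D.monomialSubgroup K ≤ cdG2.D.group K := relG2.monomialSubgroup_le_group
    have hhn : h * n0 K ∈ cdG2.D.group K := Subgroup.mul_mem _ (hHG hh) (hNG n0_mem_monomial)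
    have e1 : h * (h1 m hK)⁻¹ = (h * n0 K) * (n1 m hK)⁻¹ := by
      unfold n1; group
    have hfix2 : (reeTw (K := K) m).sg (h * (h1 m hK)⁻¹) = h * (h1 m hK)⁻¹ := by
      rw [e1, (reeTw (K := K) m).sg_mul hhn (Subgroup.inv_mem _ (n1_mem_group m hK)),
        (reeTw (K := K) m).sg_inv (n1_mem_group m hK), hfix, sg_n1]
    obtain ⟨s, hs, e2⟩ := fixed_diagonal m _ (Subgroup.mul_mem _ hh (Subgroup.inv_mem _ (h1_mem m hK))) hfix2
    refine ⟨t, u, v, s, t', u', v', hs, ?_⟩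
    rw [← e2, e]
    unfold n1
    group

theorem entry_form2 (m : ℕ) (hK : Fintype.card K = 3 ^ (2 * m + 1)) (t u v s t' u' v' : K) (hs : s ≠ 0) :
    ((reeU (3 ^ m) t u v * (hRee (3 ^ m) s * n1 m hK) * reeU (3 ^ m) t' u' v' : GL cdG2.D.Idx K) :
      Matrix cdG2.D.Idx cdG2.D.Idx K) iLow iHigh = s⁻¹ := by
  rw [Units.val_mul, Units.val_mul, entry_mul_mul _ _ (reeU_mem_pos _ t u v) (reeU_mem_pos _ t' u' v'),
    Units.val_mul]
  unfold hRee
  rw [entry_hT_mul _ _ (pow_ne_zero _ hs) hs, n1_entry, mul_one]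

/-- an element of the twisted group with nonzero distinguishing entry gives an element of the
diagonal subgroup in the twisted group -/
theorem hRee_mem_of_entry (m : ℕ) (hK : Fintype.card K = 3 ^ (2 * m + 1)) (g : GL cdG2.D.Idx K)
    (hg : g ∈ tG2 K (3 ^ m))
    (hne : (g : Matrix cdG2.D.Idx cdG2.D.Idx K) iLow iHigh ≠ 0) :
    hRee (3 ^ m) ((g : Matrix cdG2.D.Idx cdG2.D.Idx K) iLow iHigh)⁻¹ ∈ tG2 K (3 ^ m) := by
  rcases fixG_normal_form' m hK g (tG2_le_fixG m hK hg) with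
    ⟨t, u, v, s, hs, e⟩ | ⟨t, u, v, s, t', u', v', hs, e⟩
  · exfalso
    apply hne
    rw [e, entry_pos_mul_hRee _ _ (reeU_mem_pos _ t u v) s hs]
  · have hN : (g : Matrix cdG2.D.Idx cdG2.D.Idx K) iLow iHigh = s⁻¹ := by
      rw [e, entry_form2 m hK _ _ _ _ _ _ _ hs]
    rw [hN, inv_inv]
    have : hRee (3 ^ m) s = (reeU (3 ^ m) t u v)⁻¹ * g * (reeU (3 ^ m) t' u' v')⁻¹ * (n1 m hK)⁻¹ := by
      rw [e]; group
    rw [this]
    exact Subgroup.mul_mem _ (Subgroup.mul_mem _ (Subgroup.mul_mem _ (Subgroup.inv_mem _ (reeU_mem_tG2 _ t u v))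
      hg) (Subgroup.inv_mem _ (reeU_mem_tG2 _ t' u' v'))) (Subgroup.inv_mem _ (n1_mem_tG2 m hK))

theorem card_mod_four (m : ℕ) : 3 ^ (2 * m + 1) % 4 = 3 := by
  rw [pow_succ, pow_mul, Nat.mul_mod, Nat.pow_mod]
  norm_num

/-- every nonzero element is a square or the negative of a square -/
theorem exists_sq_or_neg_sq (m : ℕ) (hK : Fintype.card K = 3 ^ (2 * m + 1)) (y : K) (hy : y ≠ 0) :
    ∃ x : K, x ≠ 0 ∧ (y = x ^ 2 ∨ y = -x ^ 2) := by
  classical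
  have hneg : ¬ IsSquare (-1 : K) := by
    rw [FiniteField.isSquare_neg_one_iff, hK, card_mod_four]
    simp
  have h2 : ringChar K ≠ 2 := by
    rw [ringChar.eq K 3]
    norm_num
  by_cases hsq : IsSquare y
  · obtain ⟨x, hx⟩ := hsq
    refine ⟨x, ?_, Or.inl (by rw [hx, sq])⟩
    rintro rfl
    apply hy
    rw [hx, mul_zero]
  · have h1 : quadraticChar K y = -1 := (quadraticChar_neg_one_iff_not_isSquare).mpr hsq
    have h3 : quadraticChar K (-1) = -1 := (quadraticChar_neg_one_iff_not_isSquare).mpr hneg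
    have h4 : quadraticChar K (-y) = 1 := by
      rw [neg_eq_neg_one_mul, map_mul, h1, h3]
      norm_num
    have hny : -y ≠ 0 := neg_ne_zero.mpr hy
    obtain ⟨x, hx⟩ := (quadraticChar_one_iff_isSquare hny).mp h4
    refine ⟨x, ?_, Or.inr (by rw [sq, ← hx, neg_neg])⟩
    rintro rfl
    apply hny
    rw [hx, mul_zero]

/-- the fixed elements of the diagonal subgroup lie in the twisted group -/
theorem hRee_mem_tG2 (m : ℕ) (hK : Fintype.card K = 3 ^ (2 * m + 1)) (s : K) (hs : s ≠ 0) :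
    hRee (3 ^ m) s ∈ tG2 K (3 ^ m) := by
  have hθ := three_pow_ne_zero m
  -- the negatives of the squares
  have key1 : ∀ x : K, x ≠ 0 → hRee (3 ^ m) (-x ^ 2) ∈ tG2 K (3 ^ m) := by
    intro x hx
    have hne : -x ^ 2 ≠ 0 := neg_ne_zero.mpr (pow_ne_zero _ hx)
    have := hRee_mem_of_entry m hK _ (reeV_mem_tG2 (3 ^ m) 0 0 x) (by rw [entry_reeV_v _ hθ x hx]; exact hne)
    rw [entry_reeV_v _ hθ x hx] at this
    have h2 := Subgroup.inv_mem _ this
    have e : hRee (3 ^ m) (-x ^ 2)⁻¹ * hRee (3 ^ m) (-x ^ 2) = 1 := by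
      rw [← hRee_mul _ _ _ (inv_ne_zero hne) hne, inv_mul_cancel₀ hne, hRee_one]
    rw [inv_eq_of_mul_eq_one_right e] at h2
    exact h2
  have key2 : hRee (3 ^ m) (-1 : K) ∈ tG2 K (3 ^ m) := by
    have := key1 1 one_ne_zero
    rwa [one_pow] at this
  have key3 : ∀ x : K, x ≠ 0 → hRee (3 ^ m) (x ^ 2) ∈ tG2 K (3 ^ m) := by
    intro x hx
    have : x ^ 2 = (-1) * (-x ^ 2) := by ring
    rw [this, hRee_mul _ _ _ (neg_ne_zero.mpr one_ne_zero) (neg_ne_zero.mpr (pow_ne_zero _ hx))]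
    exact Subgroup.mul_mem _ key2 (key1 x hx)
  obtain ⟨x, hx, rfl | rfl⟩ := exists_sq_or_neg_sq m hK s hs
  · exact key3 x hx
  · exact key1 x hx

/-- the twisted group is the group of fixed points -/
theorem tG2_eq_fixG (m : ℕ) (hK : Fintype.card K = 3 ^ (2 * m + 1)) : tG2 K (3 ^ m) = fixG K m := by
  apply le_antisymm (tG2_le_fixG m hK)
  intro g hg
  rcases fixG_normal_form' m hK g hg with ⟨t, u, v, s, hs, rfl⟩ | ⟨t, u, v, s, t', u', v', hs, rfl⟩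
  · exact Subgroup.mul_mem _ (reeU_mem_tG2 _ t u v) (hRee_mem_tG2 m hK s hs)
  · exact Subgroup.mul_mem _ (Subgroup.mul_mem _ (reeU_mem_tG2 _ t u v)
      (Subgroup.mul_mem _ (hRee_mem_tG2 m hK s hs) (n1_mem_tG2 m hK))) (reeU_mem_tG2 _ t' u' v')

end

end Cfsg.Agent.Lib.Helper3.Ree
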