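import Mathlib
import Cfsg.Prelude.Def_ChevStructure
import Cfsg.Prelude.Def_ChevG2
import Cfsg.Prelude.Def_LieTwisted
import Cfsg.Agent.Lib.Helper3.Ree11
set_option autoImplicit false
set_option linter.unusedSectionVars false
set_option linter.style.haveILetI false
open Cfsg Cfsg.Lie

/-!
Uniqueness of the canonical form in the twisted group of type `G₂`, and its order.
-/

namespace Cfsg.Agent.Lib.Helper3.Ree

open Cfsg.Agent.Lib.Helper3.ChevM Cfsg.Agent.Lib.Helper3.ChevSp Cfsg.Agent.Lib.Helper3.ChevAt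
open Cfsg.Agent.Lib.Helper3 ChevU ChevT

section
variable {K : Type*} [Field K]

theorem negSet_w0 : negSet cdG2.D relG2.refl w0G2 = [6, 7, 8, 9, 10, 11] := by decide

/-- for the longest element, `U_w⁻` is the whole of `U` -/
theorem pos_le_uMinus (h : GL cdG2.D.Idx K) (hh : h ∈ cdG2.D.diagonalSubgroup K) :
    cdG2.D.posUnipotent K ≤ uMinus cdG2.D K (h * n0 K) := by
  intro u hu
  have := uhypG2.uMinus_eq (F := K) bnG2 g2NegTri g2Sign h hh w0G2 (by decide)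
  have hmem : u ∈ (uMinus cdG2.D K (h * n0 K) : Set (GL cdG2.D.Idx K)) := by
    unfold n0
    rw [this, negSet_w0]
    obtain ⟨t, -, ht⟩ := uhypG2.K.exists_word (F := K) uhypG2.col uhypG2.inj cdG2.D.posRoots
      (nodup_posRoots cdG2.D) (mem_posRoots cdG2.D) u hu
    rw [posRoots_g2] at ht
    exact ⟨t, ht⟩
  exact hmem

theorem reeU_zero [CharP K 3] (θ : ℕ) (hθ : θ ≠ 0) : reeU θ (0 : K) 0 0 = 1 := by
  simp [reeU, RSys.ree, reeSysPos, xG, hθ, xU_zero]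

end

section
variable {K : Type*} [Field K] [Fintype K] [CharP K 3]

theorem form1_inj (θ : ℕ) (t u v s t' u' v' s' : K) (hs : s ≠ 0) (hs' : s' ≠ 0)
    (e : reeU θ t u v * hRee θ s = reeU θ t' u' v' * hRee θ s') :
    t = t' ∧ u = u' ∧ v = v' ∧ s = s' := by
  obtain ⟨-, hdisj⟩ := relG2.diagonal_normalizes (F := K) bnG2.dec bnG2.mono.tri
  have hH : ∀ s : K, s ≠ 0 → hRee θ s ∈ cdG2.D.diagonalSubgroup K :=
    fun s hs => hT_mem _ _ (pow_ne_zero _ hs) hs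
  have e1 : (reeU θ t' u' v')⁻¹ * reeU θ t u v = hRee θ s' * (hRee θ s)⁻¹ := by
    rw [eq_mul_inv_iff_mul_eq, mul_assoc, e]; group
  have hmem : (reeU θ t' u' v')⁻¹ * reeU θ t u v ∈ cdG2.D.posUnipotent K ⊓ cdG2.D.diagonalSubgroup K := by
    refine ⟨Subgroup.mul_mem _ (Subgroup.inv_mem _ (reeU_mem_pos _ _ _ _)) (reeU_mem_pos _ _ _ _), ?_⟩
    rw [e1]
    exact Subgroup.mul_mem _ (hH s' hs') (Subgroup.inv_mem _ (hH s hs))
  rw [hdisj, Subgroup.mem_bot] at hmem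
  have e2 : reeU θ t u v = reeU θ t' u' v' := by
    have := congrArg (fun x => reeU θ t' u' v' * x) hmem
    simpa using this
  obtain ⟨h1, h2, h3⟩ := reeU_inj θ _ _ _ _ _ _ e2
  refine ⟨h1, h2, h3, ?_⟩
  rw [hmem] at e1
  have e3 : hRee θ s = hRee θ s' := by
    have := congrArg (fun x => x * hRee θ s) e1
    simpa using this
  exact (hT_inj _ _ _ _ (pow_ne_zero _ hs) hs (pow_ne_zero _ hs') hs' e3).2

theorem form2_inj (m : ℕ) (hK : Fintype.card K = 3 ^ (2 * m + 1)) (t u v s a b c t' u' v' s' a' b' c' : K)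
    (hs : s ≠ 0) (hs' : s' ≠ 0)
    (e : reeU (3 ^ m) t u v * (hRee (3 ^ m) s * n1 m hK) * reeU (3 ^ m) a b c =
      reeU (3 ^ m) t' u' v' * (hRee (3 ^ m) s' * n1 m hK) * reeU (3 ^ m) a' b' c') :
    t = t' ∧ u = u' ∧ v = v' ∧ s = s' ∧ a = a' ∧ b = b' ∧ c = c' := by
  have hss : s = s' := by
    have h1 := entry_form2 m hK t u v s a b c hs
    rw [e, entry_form2 m hK t' u' v' s' a' b' c' hs'] at h1
    exact (inv_injective h1).symm
  subst hss
  obtain ⟨-, bru2⟩ := uhypG2.bruhat_normal_form (F := K) bnG2 g2NegTri (fun r hr => signCheck_or (g2Sign r hr))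
  have hH : hRee (3 ^ m) s * h1 m hK ∈ cdG2.D.diagonalSubgroup K :=
    Subgroup.mul_mem _ (hT_mem _ _ (pow_ne_zero _ hs) hs) (h1_mem m hK)
  have hn : hRee (3 ^ m) s * n1 m hK = (hRee (3 ^ m) s * h1 m hK) * n0 K := by
    unfold n1; group
  have hN : hRee (3 ^ m) s * n1 m hK ∈ cdG2.D.monomialSubgroup K :=
    Subgroup.mul_mem _ (Subgroup.mem_sup_left (hT_mem _ _ (pow_ne_zero _ hs) hs)) (n1_mem_monomial m hK)
  have hU : ∀ a b c : K, reeU (3 ^ m) a b c ∈ uMinus cdG2.D K (hRee (3 ^ m) s * n1 m hK) := by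
    intro a b c
    rw [hn]
    exact pos_le_uMinus _ hH (reeU_mem_pos _ a b c)
  obtain ⟨-, huniq⟩ := bru2 _ _ _ _ _ _ (Subgroup.mem_sup_left (reeU_mem_pos _ t u v))
    (Subgroup.mem_sup_left (reeU_mem_pos _ t' u' v')) hN hN (hU a b c) (hU a' b' c') e
  obtain ⟨e1, e2⟩ := huniq rfl
  obtain ⟨h1, h2, h3⟩ := reeU_inj _ _ _ _ _ _ _ e1
  obtain ⟨h4, h5, h6⟩ := reeU_inj _ _ _ _ _ _ _ e2
  exact ⟨h1, h2, h3, rfl, h4, h5, h6⟩

theorem form_disjoint (m : ℕ) (hK : Fintype.card K = 3 ^ (2 * m + 1)) (t u v s t' u' v' s' a b c : K)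
    (hs : s ≠ 0) (hs' : s' ≠ 0)
    (e : reeU (3 ^ m) t u v * hRee (3 ^ m) s =
      reeU (3 ^ m) t' u' v' * (hRee (3 ^ m) s' * n1 m hK) * reeU (3 ^ m) a b c) : False := by
  have h1 := entry_pos_mul_hRee (3 ^ m) (reeU (3 ^ m) t u v) (reeU_mem_pos _ t u v) s hs
  rw [e, entry_form2 m hK _ _ _ _ _ _ _ hs'] at h1
  exact inv_ne_zero hs' h1

/-- the parametrization of the twisted group -/
noncomputable def param (m : ℕ) (hK : Fintype.card K = 3 ^ (2 * m + 1)) :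
    (K × K × K × Kˣ) ⊕ (K × K × K × Kˣ × K × K × K) → GL cdG2.D.Idx K
  | Sum.inl (t, u, v, s) => reeU (3 ^ m) t u v * hRee (3 ^ m) (s : K)
  | Sum.inr (t, u, v, s, a, b, c) =>
    reeU (3 ^ m) t u v * (hRee (3 ^ m) (s : K) * n1 m hK) * reeU (3 ^ m) a b c

theorem param_injective (m : ℕ) (hK : Fintype.card K = 3 ^ (2 * m + 1)) :
    Function.Injective (param (K := K) m hK) := by
  rintro (⟨t, u, v, s⟩ | ⟨t, u, v, s, a, b, c⟩) (⟨t', u', v', s'⟩ | ⟨t', u', v', s', a', b', c'⟩) e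
  · obtain ⟨h1, h2, h3, h4⟩ := form1_inj _ _ _ _ _ _ _ _ _ s.ne_zero s'.ne_zero e
    rw [h1, h2, h3, Units.ext h4]
  · exact (form_disjoint m hK _ _ _ _ _ _ _ _ _ _ _ s.ne_zero s'.ne_zero e).elim
  · exact (form_disjoint m hK _ _ _ _ _ _ _ _ _ _ _ s'.ne_zero s.ne_zero e.symm).elim
  · obtain ⟨h1, h2, h3, h4, h5, h6, h7⟩ := form2_inj m hK _ _ _ _ _ _ _ _ _ _ _ _ _ _ s.ne_zero s'.ne_zero e
    rw [h1, h2, h3, Units.ext h4, h5, h6, h7]

theorem range_param (m : ℕ) (hK : Fintype.card K = 3 ^ (2 * m + 1)) :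
    Set.range (param (K := K) m hK) = (tG2 K (3 ^ m) : Set (GL cdG2.D.Idx K)) := by
  ext g
  constructor
  · rintro ⟨(⟨t, u, v, s⟩ | ⟨t, u, v, s, a, b, c⟩), rfl⟩
    · exact Subgroup.mul_mem _ (reeU_mem_tG2 _ t u v) (hRee_mem_tG2 m hK s s.ne_zero)
    · exact Subgroup.mul_mem _ (Subgroup.mul_mem _ (reeU_mem_tG2 _ t u v)
        (Subgroup.mul_mem _ (hRee_mem_tG2 m hK s s.ne_zero) (n1_mem_tG2 m hK))) (reeU_mem_tG2 _ a b c)
  · intro hg
    rcases fixG_normal_form' m hK g (tG2_le_fixG m hK hg) with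
      ⟨t, u, v, s, hs, rfl⟩ | ⟨t, u, v, s, t', u', v', hs, rfl⟩
    · exact ⟨Sum.inl (t, u, v, Units.mk0 s hs), rfl⟩
    · exact ⟨Sum.inr (t, u, v, Units.mk0 s hs, t', u', v'), rfl⟩

/-- the order of the twisted group -/
theorem card_tG2 (m : ℕ) (hK : Fintype.card K = 3 ^ (2 * m + 1)) :
    Nat.card ↥(tG2 K (3 ^ m)) =
      (3 ^ (2 * m + 1)) ^ 3 * (3 ^ (2 * m + 1) - 1) * ((3 ^ (2 * m + 1)) ^ 3 + 1) := by
  classical
  have h1 : Nat.card ↥(tG2 K (3 ^ m)) = Nat.card (Set.range (param (K := K) m hK)) := by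
    rw [range_param]
    rfl
  rw [h1, ← Nat.card_congr (Equiv.ofInjective _ (param_injective m hK))]
  have hq : Nat.card K = 3 ^ (2 * m + 1) := by rw [Nat.card_eq_fintype_card, hK]
  have hu : Nat.card Kˣ = 3 ^ (2 * m + 1) - 1 := by
    rw [Nat.card_eq_fintype_card, Fintype.card_units, hK]
  rw [Nat.card_sum, Nat.card_prod, Nat.card_prod, Nat.card_prod, Nat.card_prod, Nat.card_prod, Nat.card_prod,
    Nat.card_prod, Nat.card_prod, Nat.card_prod, hq, hu]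
  ring

end

end Cfsg.Agent.Lib.Helper3.Ree
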