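import Mathlib
import Cfsg.Prelude.Def_ChevStructure
import Cfsg.Prelude.Def_ChevG2
import Cfsg.Prelude.Def_LieTwisted
import Cfsg.Agent.Lib.Helper3.Ree12
set_option autoImplicit false
set_option linter.unusedSectionVars false
set_option linter.style.haveILetI false
open Cfsg Cfsg.Lie

/-!
The intersections of the twisted group of type `G₂` with the standard subgroups.
-/

namespace Cfsg.Agent.Lib.Helper3.Ree

open Cfsg.Agent.Lib.Helper3.ChevM Cfsg.Agent.Lib.Helper3.ChevSp Cfsg.Agent.Lib.Helper3.ChevAt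
open Cfsg.Agent.Lib.Helper3 ChevU ChevT

section
variable {K : Type*} [Field K] [Fintype K] [CharP K 3]

theorem mem_pos_inf_tG2 (m : ℕ) (hK : Fintype.card K = 3 ^ (2 * m + 1)) (g : GL cdG2.D.Idx K) :
    g ∈ cdG2.D.posUnipotent K ⊓ tG2 K (3 ^ m) ↔ ∃ t u v : K, g = reeU (3 ^ m) t u v := by
  constructor
  · rintro ⟨h1, h2⟩
    exact fixed_posUnipotent m hK g h1 (tG2_le_fixG m hK h2).2
  · rintro ⟨t, u, v, rfl⟩
    exact ⟨reeU_mem_pos _ t u v, reeU_mem_tG2 _ t u v⟩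

theorem card_pos_inf_tG2 (m : ℕ) (hK : Fintype.card K = 3 ^ (2 * m + 1)) :
    Nat.card ↥(cdG2.D.posUnipotent K ⊓ tG2 K (3 ^ m)) = (3 ^ (2 * m + 1)) ^ 3 := by
  let f : K × K × K → ↥(cdG2.D.posUnipotent K ⊓ tG2 K (3 ^ m)) := fun p =>
    ⟨reeU (3 ^ m) p.1 p.2.1 p.2.2, (mem_pos_inf_tG2 m hK _).mpr ⟨_, _, _, rfl⟩⟩
  have hf : Function.Bijective f := by
    constructor
    · rintro ⟨t, u, v⟩ ⟨t', u', v'⟩ e
      have := congrArg Subtype.val e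
      obtain ⟨h1, h2, h3⟩ := reeU_inj _ _ _ _ _ _ _ this
      simp only at h1 h2 h3
      rw [h1, h2, h3]
    · rintro ⟨g, hg⟩
      obtain ⟨t, u, v, rfl⟩ := (mem_pos_inf_tG2 m hK g).mp hg
      exact ⟨(t, u, v), rfl⟩
  rw [← Nat.card_congr (Equiv.ofBijective f hf), Nat.card_prod, Nat.card_prod, Nat.card_eq_fintype_card, hK]
  ring

theorem mem_diag_inf_tG2 (m : ℕ) (hK : Fintype.card K = 3 ^ (2 * m + 1)) (g : GL cdG2.D.Idx K) :
    g ∈ cdG2.D.diagonalSubgroup K ⊓ tG2 K (3 ^ m) ↔ ∃ s : K, s ≠ 0 ∧ g = hRee (3 ^ m) s := by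
  constructor
  · rintro ⟨h1, h2⟩
    exact fixed_diagonal m g h1 (tG2_le_fixG m hK h2).2
  · rintro ⟨s, hs, rfl⟩
    exact ⟨hT_mem _ _ (pow_ne_zero _ hs) hs, hRee_mem_tG2 m hK s hs⟩

theorem hRee_inj (θ : ℕ) (s s' : K) (hs : s ≠ 0) (hs' : s' ≠ 0) (e : hRee θ s = hRee θ s') : s = s' :=
  (hT_inj _ _ _ _ (pow_ne_zero _ hs) hs (pow_ne_zero _ hs') hs' e).2

theorem card_diag_inf_tG2 (m : ℕ) (hK : Fintype.card K = 3 ^ (2 * m + 1)) :
    Nat.card ↥(cdG2.D.diagonalSubgroup K ⊓ tG2 K (3 ^ m)) = 3 ^ (2 * m + 1) - 1 := by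
  classical
  let f : Kˣ → ↥(cdG2.D.diagonalSubgroup K ⊓ tG2 K (3 ^ m)) := fun s =>
    ⟨hRee (3 ^ m) (s : K), (mem_diag_inf_tG2 m hK _).mpr ⟨_, s.ne_zero, rfl⟩⟩
  have hf : Function.Bijective f := by
    constructor
    · intro s s' e
      have := congrArg Subtype.val e
      exact Units.ext (hRee_inj _ _ _ s.ne_zero s'.ne_zero this)
    · rintro ⟨g, hg⟩
      obtain ⟨s, hs, rfl⟩ := (mem_diag_inf_tG2 m hK g).mp hg
      exact ⟨Units.mk0 s hs, rfl⟩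
  rw [← Nat.card_congr (Equiv.ofBijective f hf), Nat.card_eq_fintype_card, Fintype.card_units, hK]

/-- the elements of the monomial subgroup in the twisted group -/
theorem mem_mono_inf_tG2 (m : ℕ) (hK : Fintype.card K = 3 ^ (2 * m + 1)) (g : GL cdG2.D.Idx K)
    (hg : g ∈ cdG2.D.monomialSubgroup K ⊓ tG2 K (3 ^ m)) :
    (∃ s : K, s ≠ 0 ∧ g = hRee (3 ^ m) s) ∨ (∃ s : K, s ≠ 0 ∧ g = hRee (3 ^ m) s * n1 m hK) := by
  obtain ⟨hgN, hgT⟩ := hg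
  obtain ⟨-, bru2⟩ := uhypG2.bruhat_normal_form (F := K) bnG2 g2NegTri (fun r hr => signCheck_or (g2Sign r hr))
  have hone : ∀ n : GL cdG2.D.Idx K, (1 : GL cdG2.D.Idx K) ∈ uMinus cdG2.D K n := fun n => Subgroup.one_mem _
  have hHN : cdG2.D.diagonalSubgroup K ≤ cdG2.D.monomialSubgroup K := le_sup_left
  have hH : ∀ s : K, s ≠ 0 → hRee (3 ^ m) s ∈ cdG2.D.diagonalSubgroup K :=
    fun s hs => hT_mem _ _ (pow_ne_zero _ hs) hs
  rcases fixG_normal_form' m hK g (tG2_le_fixG m hK hgT) with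
    ⟨t, u, v, s, hs, e⟩ | ⟨t, u, v, s, t', u', v', hs, e⟩
  · left
    -- `g = 1 * g * 1 = (u h) * 1 * 1`
    have e' : (1 : GL cdG2.D.Idx K) * g * 1 = (reeU (3 ^ m) t u v * hRee (3 ^ m) s) * 1 * 1 := by
      rw [e]; group
    obtain ⟨hq, -⟩ := bru2 _ _ _ _ _ _ (Subgroup.one_mem _)
      (Subgroup.mul_mem _ (Subgroup.mem_sup_left (reeU_mem_pos _ t u v)) (Subgroup.mem_sup_right (hH s hs)))
      hgN (Subgroup.one_mem _) (hone _) (hone _) e'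
    rw [mul_one] at hq
    have hgH : g ∈ cdG2.D.diagonalSubgroup K := by
      have := Subgroup.inv_mem _ hq
      rwa [inv_inv] at this
    exact (mem_diag_inf_tG2 m hK g).mp ⟨hgH, hgT⟩
  · right
    have hn : hRee (3 ^ m) s * n1 m hK = (hRee (3 ^ m) s * h1 m hK) * n0 K := by
      unfold n1; group
    have hN : hRee (3 ^ m) s * n1 m hK ∈ cdG2.D.monomialSubgroup K :=
      Subgroup.mul_mem _ (hHN (hH s hs)) (n1_mem_monomial m hK)
    have hU : reeU (3 ^ m) t' u' v' ∈ uMinus cdG2.D K (hRee (3 ^ m) s * n1 m hK) := by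
      rw [hn]
      exact pos_le_uMinus _ (Subgroup.mul_mem _ (hH s hs) (h1_mem m hK)) (reeU_mem_pos _ t' u' v')
    have e' : (1 : GL cdG2.D.Idx K) * g * 1 =
        reeU (3 ^ m) t u v * (hRee (3 ^ m) s * n1 m hK) * reeU (3 ^ m) t' u' v' := by
      rw [← e]; group
    obtain ⟨hq, -⟩ := bru2 _ _ _ _ _ _ (Subgroup.one_mem _) (Subgroup.mem_sup_left (reeU_mem_pos _ t u v))
      hgN hN (hone _) hU e'
    -- `g = (h' h) n1` with `h'` fixed
    have hq' : g * (hRee (3 ^ m) s * n1 m hK)⁻¹ ∈ cdG2.D.diagonalSubgroup K := by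
      have h2 := bnG2.mono.conj_mem (F := K) g hgN _ (Subgroup.inv_mem _ hq)
      have : g * (g⁻¹ * (hRee (3 ^ m) s * n1 m hK))⁻¹ * g⁻¹ = g * (hRee (3 ^ m) s * n1 m hK)⁻¹ := by group
      rwa [this] at h2
    have hq'' : g * (hRee (3 ^ m) s * n1 m hK)⁻¹ ∈ cdG2.D.diagonalSubgroup K ⊓ tG2 K (3 ^ m) :=
      ⟨hq', Subgroup.mul_mem _ hgT (Subgroup.inv_mem _
        (Subgroup.mul_mem _ (hRee_mem_tG2 m hK s hs) (n1_mem_tG2 m hK)))⟩
    obtain ⟨s', hs', e2⟩ := (mem_diag_inf_tG2 m hK _).mp hq''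
    refine ⟨s' * s, mul_ne_zero hs' hs, ?_⟩
    rw [hRee_mul _ _ _ hs' hs, ← e2]
    group

end

end Cfsg.Agent.Lib.Helper3.Ree
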