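import Mathlib
import Cfsg.Prelude.Def_ChevStructure
import Cfsg.Prelude.Def_ChevG2
import Cfsg.Prelude.Def_LieTwisted
import Cfsg.Agent.Lib.Helper3.Ree13
set_option autoImplicit false
set_option linter.unusedSectionVars false
set_option linter.style.haveILetI false
open Cfsg Cfsg.Lie

/-!
The Weyl group of the twisted group of type `G₂` has order two.
-/

namespace Cfsg.Agent.Lib.Helper3.Ree

open Cfsg.Agent.Lib.Helper3.ChevM Cfsg.Agent.Lib.Helper3.ChevSp Cfsg.Agent.Lib.Helper3.ChevAt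
open Cfsg.Agent.Lib.Helper3 ChevU ChevT

/-- an abstract statement: a subgroup of index two is the kernel of a surjection onto the group of
order two -/
theorem exists_hom_of_index_two {G : Type*} [Group G] (L : Subgroup G) (h : L.index = 2) :
    ∃ φ : G →* Multiplicative (ZMod 2), Function.Surjective φ ∧ φ.ker = L := by
  haveI : L.Normal := Subgroup.normal_of_index_eq_two h
  haveI : Fact (Nat.Prime 2) := ⟨Nat.prime_two⟩
  have h1 : Nat.card (G ⧸ L) = 2 := h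
  have h2 : Nat.card (Multiplicative (ZMod 2)) = 2 := by
    rw [Nat.card_eq_fintype_card]
    rfl
  let e : (G ⧸ L) ≃* Multiplicative (ZMod 2) := mulEquivOfPrimeCardEq h1 h2
  refine ⟨e.toMonoidHom.comp (QuotientGroup.mk' L), ?_, ?_⟩
  · exact e.surjective.comp (QuotientGroup.mk'_surjective L)
  · ext x
    rw [MonoidHom.mem_ker, MonoidHom.comp_apply]
    show e (QuotientGroup.mk' L x) = 1 ↔ _
    rw [MulEquiv.map_eq_one_iff, QuotientGroup.mk'_apply, QuotientGroup.eq_one_iff]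

section
variable {K : Type*} [Field K]

theorem diag_entry (h : GL cdG2.D.Idx K) (hh : h ∈ cdG2.D.diagonalSubgroup K) :
    (h : Matrix cdG2.D.Idx cdG2.D.Idx K) iLow iHigh = 0 := by
  obtain ⟨c0, c1, h0, h1, rfl⟩ := exists_hT h hh
  rw [hT_val c0 c1 h0 h1, Matrix.diagonal_apply_ne]
  decide

end

section
variable {K : Type*} [Field K] [Fintype K] [CharP K 3]

theorem hRee_mul_n1_not_mem (m : ℕ) (hK : Fintype.card K = 3 ^ (2 * m + 1)) (s : K) (hs : s ≠ 0) :
    hRee (3 ^ m) s * n1 m hK ∉ cdG2.D.diagonalSubgroup K := by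
  intro h
  have h1 := diag_entry _ h
  have h2 := entry_form2 m hK 0 0 0 s 0 0 0 hs
  rw [reeU_zero _ (three_pow_ne_zero m), one_mul, mul_one, h1] at h2
  exact inv_ne_zero hs h2.symm

theorem n1_sq_mem (m : ℕ) (hK : Fintype.card K = 3 ^ (2 * m + 1)) :
    n1 m hK * n1 m hK ∈ cdG2.D.diagonalSubgroup K := by
  have hmem : n1 m hK * n1 m hK ∈ cdG2.D.monomialSubgroup K ⊓ tG2 K (3 ^ m) :=
    ⟨Subgroup.mul_mem _ (n1_mem_monomial m hK) (n1_mem_monomial m hK),
      Subgroup.mul_mem _ (n1_mem_tG2 m hK) (n1_mem_tG2 m hK)⟩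
  rcases mem_mono_inf_tG2 m hK _ hmem with ⟨s, hs, e⟩ | ⟨s, hs, e⟩
  · rw [e]
    exact hT_mem _ _ (pow_ne_zero _ hs) hs
  · exfalso
    have e1 : n1 m hK = hRee (3 ^ m) s := mul_right_cancel e
    have := hRee_mul_n1_not_mem m hK 1 one_ne_zero
    rw [hRee_one, one_mul, e1] at this
    exact this (hT_mem _ _ (pow_ne_zero _ hs) hs)

/-- the diagonal part has index two in the monomial part -/
theorem index_diag_in_mono (m : ℕ) (hK : Fintype.card K = 3 ^ (2 * m + 1)) :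
    ((cdG2.D.diagonalSubgroup K ⊓ tG2 K (3 ^ m)).subgroupOf
      (cdG2.D.monomialSubgroup K ⊓ tG2 K (3 ^ m))).index = 2 := by
  rw [Subgroup.index_eq_two_iff]
  refine ⟨⟨n1 m hK, n1_mem_monomial m hK, n1_mem_tG2 m hK⟩, ?_⟩
  rintro ⟨b, hb⟩
  have hH : ∀ s : K, s ≠ 0 → hRee (3 ^ m) s ∈ cdG2.D.diagonalSubgroup K :=
    fun s hs => hT_mem _ _ (pow_ne_zero _ hs) hs
  simp only [Subgroup.mem_subgroupOf, Subgroup.coe_mul]
  rcases mem_mono_inf_tG2 m hK b hb with ⟨s, hs, rfl⟩ | ⟨s, hs, rfl⟩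
  · refine Or.inr ⟨⟨hH s hs, hRee_mem_tG2 m hK s hs⟩, ?_⟩
    intro h
    exact hRee_mul_n1_not_mem m hK s hs h.1
  · refine Or.inl ⟨⟨?_, ?_⟩, ?_⟩
    · rw [mul_assoc]
      exact Subgroup.mul_mem _ (hH s hs) (n1_sq_mem m hK)
    · exact Subgroup.mul_mem _ (Subgroup.mul_mem _ (hRee_mem_tG2 m hK s hs) (n1_mem_tG2 m hK)) (n1_mem_tG2 m hK)
    · intro h
      exact hRee_mul_n1_not_mem m hK s hs h.1

end

end Cfsg.Agent.Lib.Helper3.Ree
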