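import Mathlib
import Cfsg.Prelude.Def_ChevStructure
import Cfsg.Prelude.Def_ChevG2
import Cfsg.Prelude.Def_LieTwisted
import Cfsg.Agent.Lib.Helper3.Ree14
import Cfsg.Agent.Lib.Helper3.ChevB2
set_option autoImplicit false
set_option linter.unusedSectionVars false
set_option linter.style.haveILetI false
open Cfsg Cfsg.Lie

/-!
The `(B, N)`-pair of the twisted group of type `G₂`.
-/

namespace Cfsg.Agent.Lib.Helper3.Ree

open Cfsg.Agent.Lib.Helper3.ChevM Cfsg.Agent.Lib.Helper3.ChevSp Cfsg.Agent.Lib.Helper3.ChevAt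
open Cfsg.Agent.Lib.Helper3 ChevU ChevT DoubleCoset

section
variable {K : Type*} [Field K]

theorem borel_entry (b : GL cdG2.D.Idx K) (hb : b ∈ cdG2.D.borelSubgroup K) :
    (b : Matrix cdG2.D.Idx cdG2.D.Idx K) iLow iHigh = 0 := by
  have h : Shift (posIdx cdG2.D) 0 (b : Matrix cdG2.D.Idx cdG2.D.Idx K) := bnG2.mono.borel_le_tri (F := K) hb
  exact h iLow iHigh (by decide)

end

section
variable {K : Type*} [Field K] [Fintype K] [CharP K 3]

/-- the Borel subgroup of the twisted group -/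
def bT (K : Type*) [Field K] (θ : ℕ) : Subgroup (GL cdG2.D.Idx K) := cdG2.D.borelSubgroup K ⊓ tG2 K θ

/-- the monomial subgroup of the twisted group -/
def nT (K : Type*) [Field K] (θ : ℕ) : Subgroup (GL cdG2.D.Idx K) := cdG2.D.monomialSubgroup K ⊓ tG2 K θ

theorem reeU_mem_bT (θ : ℕ) (t u v : K) : reeU θ t u v ∈ bT K θ :=
  ⟨Subgroup.mem_sup_left (reeU_mem_pos _ t u v), reeU_mem_tG2 _ t u v⟩

theorem hRee_mem_bT (m : ℕ) (hK : Fintype.card K = 3 ^ (2 * m + 1)) (s : K) (hs : s ≠ 0) :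
    hRee (3 ^ m) s ∈ bT K (3 ^ m) :=
  ⟨Subgroup.mem_sup_right (hT_mem _ _ (pow_ne_zero _ hs) hs), hRee_mem_tG2 m hK s hs⟩

theorem hRee_mem_nT (m : ℕ) (hK : Fintype.card K = 3 ^ (2 * m + 1)) (s : K) (hs : s ≠ 0) :
    hRee (3 ^ m) s ∈ nT K (3 ^ m) :=
  ⟨Subgroup.mem_sup_left (hT_mem _ _ (pow_ne_zero _ hs) hs), hRee_mem_tG2 m hK s hs⟩

theorem n1_mem_nT (m : ℕ) (hK : Fintype.card K = 3 ^ (2 * m + 1)) : n1 m hK ∈ nT K (3 ^ m) :=
  ⟨n1_mem_monomial m hK, n1_mem_tG2 m hK⟩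

/-- the elements of the Borel subgroup of the twisted group -/
theorem mem_bT_iff (m : ℕ) (hK : Fintype.card K = 3 ^ (2 * m + 1)) (g : GL cdG2.D.Idx K) :
    g ∈ bT K (3 ^ m) ↔ ∃ t u v s : K, s ≠ 0 ∧ g = reeU (3 ^ m) t u v * hRee (3 ^ m) s := by
  constructor
  · rintro ⟨hgB, hgT⟩
    rcases fixG_normal_form' m hK g (tG2_le_fixG m hK hgT) with h | ⟨t, u, v, s, t', u', v', hs, e⟩
    · exact h
    · exfalso
      have h1 := borel_entry g hgB
      rw [e, entry_form2 m hK _ _ _ _ _ _ _ hs] at h1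
      exact inv_ne_zero hs h1
  · rintro ⟨t, u, v, s, hs, rfl⟩
    exact Subgroup.mul_mem _ (reeU_mem_bT _ t u v) (hRee_mem_bT m hK s hs)

/-- the decomposition of the twisted group -/
theorem tG2_cases (m : ℕ) (hK : Fintype.card K = 3 ^ (2 * m + 1)) (g : GL cdG2.D.Idx K)
    (hg : g ∈ tG2 K (3 ^ m)) :
    g ∈ bT K (3 ^ m) ∨ ∃ b ∈ bT K (3 ^ m), ∃ b' ∈ bT K (3 ^ m), g = b * n1 m hK * b' := by
  rcases fixG_normal_form' m hK g (tG2_le_fixG m hK hg) with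
    ⟨t, u, v, s, hs, rfl⟩ | ⟨t, u, v, s, t', u', v', hs, rfl⟩
  · exact Or.inl (Subgroup.mul_mem _ (reeU_mem_bT _ t u v) (hRee_mem_bT m hK s hs))
  · right
    refine ⟨reeU (3 ^ m) t u v * hRee (3 ^ m) s, Subgroup.mul_mem _ (reeU_mem_bT _ t u v) (hRee_mem_bT m hK s hs),
      reeU (3 ^ m) t' u' v', reeU_mem_bT _ t' u' v', ?_⟩
    group

/-- conjugation of the diagonal part by the representative -/
theorem n1_conj_hRee (m : ℕ) (hK : Fintype.card K = 3 ^ (2 * m + 1)) (s : K) (hs : s ≠ 0) :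
    n1 m hK * hRee (3 ^ m) s * (n1 m hK)⁻¹ ∈ cdG2.D.diagonalSubgroup K ⊓ tG2 K (3 ^ m) :=
  ⟨bnG2.mono.conj_mem (F := K) _ (n1_mem_monomial m hK) _ (hT_mem _ _ (pow_ne_zero _ hs) hs),
    Subgroup.mul_mem _ (Subgroup.mul_mem _ (n1_mem_tG2 m hK) (hRee_mem_tG2 m hK s hs))
      (Subgroup.inv_mem _ (n1_mem_tG2 m hK))⟩

theorem diag_inf_le_bT (θ : ℕ) : cdG2.D.diagonalSubgroup K ⊓ tG2 K θ ≤ bT K θ :=
  fun _ hx => ⟨Subgroup.mem_sup_right hx.1, hx.2⟩

theorem n1_sq_mem_bT (m : ℕ) (hK : Fintype.card K = 3 ^ (2 * m + 1)) :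
    n1 m hK * n1 m hK ∈ bT K (3 ^ m) :=
  diag_inf_le_bT _ ⟨n1_sq_mem m hK, Subgroup.mul_mem _ (n1_mem_tG2 m hK) (n1_mem_tG2 m hK)⟩

theorem reeU_one_ne (θ : ℕ) (hθ : θ ≠ 0) : reeU θ (1 : K) 0 0 ≠ 1 := by
  intro h
  rw [← reeU_zero (K := K) θ hθ] at h
  exact one_ne_zero (reeU_inj _ _ _ _ _ _ _ h).1

/-- the representative does not normalize the Borel subgroup -/
theorem n1_conj_not_mem (m : ℕ) (hK : Fintype.card K = 3 ^ (2 * m + 1)) :
    n1 m hK * reeU (3 ^ m) 1 0 0 * (n1 m hK)⁻¹ ∉ cdG2.D.borelSubgroup K := by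
  intro h
  have hU : reeU (3 ^ m) (1 : K) 0 0 ∈ uMinus cdG2.D K (n1 m hK) :=
    pos_le_uMinus _ (h1_mem m hK) (reeU_mem_pos _ 1 0 0)
  have hV := conj_uMinus_le cdG2.D (n1 m hK) _ hU
  have hmem : n1 m hK * reeU (3 ^ m) 1 0 0 * (n1 m hK)⁻¹ ∈
      cdG2.D.borelSubgroup K ⊓ cdG2.D.negUnipotent K := ⟨h, hV⟩
  rw [(relG2.borel_inf_neg (F := K) bnG2.dec bnG2.mono.tri g2NegTri).1, Subgroup.mem_bot] at hmem
  apply reeU_one_ne (K := K) (3 ^ m) (three_pow_ne_zero m)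
  have := congrArg (fun x => (n1 m hK)⁻¹ * x * n1 m hK) hmem
  simpa [mul_assoc] using this

/-- the `(B, N)`-pair of the twisted group -/
noncomputable def reeBN (m : ℕ) (hK : Fintype.card K = 3 ^ (2 * m + 1)) : BNPair ↥(tG2 K (3 ^ m)) :=
  bnOfSubgroup (tG2 K (3 ^ m)) (bT K (3 ^ m)) (nT K (3 ^ m)) {n1 m hK} inf_le_right inf_le_right
    (by
      apply le_antisymm (sup_le inf_le_right inf_le_right)
      intro g hg
      rcases tG2_cases m hK g hg with h | ⟨b, hb, b', hb', rfl⟩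
      · exact Subgroup.mem_sup_left h
      · exact Subgroup.mul_mem _ (Subgroup.mul_mem _ (Subgroup.mem_sup_left hb)
          (Subgroup.mem_sup_right (n1_mem_nT m hK))) (Subgroup.mem_sup_left hb'))
    (by
      rintro n hn t ⟨htB, htN⟩
      rcases mem_mono_inf_tG2 m hK t htN with ⟨s, hs, rfl⟩ | ⟨s, hs, rfl⟩
      · refine ⟨Subgroup.mem_sup_right (bnG2.mono.conj_mem (F := K) n hn.1 _ (hT_mem _ _ (pow_ne_zero _ hs) hs)),
          Subgroup.mul_mem _ (Subgroup.mul_mem _ hn.2 (hRee_mem_tG2 m hK s hs)) (Subgroup.inv_mem _ hn.2)⟩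
      · exfalso
        have h1 := borel_entry _ htB.1
        have h2 := entry_form2 m hK 0 0 0 s 0 0 0 hs
        rw [reeU_zero _ (three_pow_ne_zero m), one_mul, mul_one, h1] at h2
        exact inv_ne_zero hs h2.symm)
    (by
      rintro s hs
      rw [Set.mem_singleton_iff] at hs
      rw [hs]
      exact n1_mem_nT m hK)
    (by
      rintro s hs
      rw [Set.mem_singleton_iff] at hs
      rw [hs]
      exact n1_sq_mem_bT m hK)
    (by
      rintro s hs s' hs' -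
      rw [Set.mem_singleton_iff] at hs hs'
      rw [hs, hs'])
    (by
      apply le_antisymm
      · apply sup_le
        · rw [Subgroup.closure_le]
          rintro s hs
          rw [Set.mem_singleton_iff] at hs
          rw [hs]
          exact n1_mem_nT m hK
        · exact inf_le_right
      · intro n hn
        rcases mem_mono_inf_tG2 m hK n hn with ⟨s, hs, rfl⟩ | ⟨s, hs, rfl⟩
        · exact Subgroup.mem_sup_right ⟨hRee_mem_bT m hK s hs, hRee_mem_nT m hK s hs⟩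
        · exact Subgroup.mul_mem _ (Subgroup.mem_sup_right ⟨hRee_mem_bT m hK s hs, hRee_mem_nT m hK s hs⟩)
            (Subgroup.mem_sup_left (Subgroup.subset_closure rfl)))
    (by
      rintro s hs n hn b hb
      rw [Set.mem_singleton_iff] at hs
      subst hs
      have hg : n1 m hK * b * n ∈ tG2 K (3 ^ m) :=
        Subgroup.mul_mem _ (Subgroup.mul_mem _ (n1_mem_tG2 m hK) hb.2) hn.2
      -- double cosets of elements of `B`
      have L1 : ∀ x a : GL cdG2.D.Idx K, x ∈ bT K (3 ^ m) → a ∈ bT K (3 ^ m) →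
          x ∈ doubleCoset a (bT K (3 ^ m) : Set (GL cdG2.D.Idx K)) (bT K (3 ^ m)) := by
        intro x a hx ha
        rw [mem_doubleCoset]
        exact ⟨x * a⁻¹, Subgroup.mul_mem _ hx (Subgroup.inv_mem _ ha), 1, Subgroup.one_mem _, by group⟩
      -- double cosets of elements of `B n₁`
      have L2 : ∀ x a : GL cdG2.D.Idx K, (∃ b₁ ∈ bT K (3 ^ m), ∃ b₂ ∈ bT K (3 ^ m), x = b₁ * n1 m hK * b₂) →
          (∃ b₃ ∈ bT K (3 ^ m), a = b₃ * n1 m hK) →
          x ∈ doubleCoset a (bT K (3 ^ m) : Set (GL cdG2.D.Idx K)) (bT K (3 ^ m)) := by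
        rintro x a ⟨b₁, hb₁, b₂, hb₂, rfl⟩ ⟨b₃, hb₃, rfl⟩
        rw [mem_doubleCoset]
        exact ⟨b₁ * b₃⁻¹, Subgroup.mul_mem _ hb₁ (Subgroup.inv_mem _ hb₃), b₂, hb₂, by group⟩
      rcases mem_mono_inf_tG2 m hK n hn with ⟨s, hs, rfl⟩ | ⟨s, hs, rfl⟩
      · rcases tG2_cases m hK _ hg with h | h
        · exact Or.inr (L1 _ _ h (hRee_mem_bT m hK s hs))
        · refine Or.inl (L2 _ _ h ⟨n1 m hK * hRee (3 ^ m) s * (n1 m hK)⁻¹,
            diag_inf_le_bT _ (n1_conj_hRee m hK s hs), by group⟩)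
      · rcases tG2_cases m hK _ hg with h | h
        · refine Or.inl (L1 _ _ h ?_)
          have : n1 m hK * (hRee (3 ^ m) s * n1 m hK) =
              (n1 m hK * hRee (3 ^ m) s * (n1 m hK)⁻¹) * (n1 m hK * n1 m hK) := by group
          rw [this]
          exact Subgroup.mul_mem _ (diag_inf_le_bT _ (n1_conj_hRee m hK s hs)) (n1_sq_mem_bT m hK)
        · exact Or.inr (L2 _ _ h ⟨hRee (3 ^ m) s, hRee_mem_bT m hK s hs, rfl⟩))
    (by
      rintro s hs heq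
      rw [Set.mem_singleton_iff] at hs
      subst hs
      have h1 : n1 m hK * reeU (3 ^ m) 1 0 0 * n1 m hK ∈ (bT K (3 ^ m) : Set (GL cdG2.D.Idx K)) := by
        rw [← heq]
        exact ⟨_, reeU_mem_bT _ 1 0 0, rfl⟩
      apply n1_conj_not_mem m hK
      have : n1 m hK * reeU (3 ^ m) 1 0 0 * (n1 m hK)⁻¹ =
          (n1 m hK * reeU (3 ^ m) 1 0 0 * n1 m hK) * (n1 m hK * n1 m hK)⁻¹ := by group
      rw [this]
      exact (Subgroup.mul_mem _ h1 (Subgroup.inv_mem _ (n1_sq_mem_bT m hK))).1)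

theorem reeBN_B (m : ℕ) (hK : Fintype.card K = 3 ^ (2 * m + 1)) :
    (reeBN (K := K) m hK).B = (bT K (3 ^ m)).subgroupOf (tG2 K (3 ^ m)) := rfl

theorem reeBN_N (m : ℕ) (hK : Fintype.card K = 3 ^ (2 * m + 1)) :
    (reeBN (K := K) m hK).N = (nT K (3 ^ m)).subgroupOf (tG2 K (3 ^ m)) := rfl

end

end Cfsg.Agent.Lib.Helper3.Ree
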