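import Mathlib
import Cfsg.Prelude.Def_ChevStructure
import Cfsg.Prelude.Def_ChevG2
import Cfsg.Prelude.Def_LieTwisted
import Cfsg.Agent.Lib.Helper3.Ree15
set_option autoImplicit false
set_option linter.unusedSectionVars false
set_option linter.style.haveILetI false
open Cfsg Cfsg.Lie

/-!
The action of the diagonal part of the twisted group of type `G₂` on its unipotent part, and the
core of the Borel subgroup.
-/

namespace Cfsg.Agent.Lib.Helper3.Ree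

open Cfsg.Agent.Lib.Helper3.ChevM Cfsg.Agent.Lib.Helper3.ChevSp Cfsg.Agent.Lib.Helper3.ChevAt
open Cfsg.Agent.Lib.Helper3 ChevU ChevT DoubleCoset

section
variable {K : Type*} [Field K]

/-- the characters of the diagonal subgroup -/
def chi (c0 c1 : K) (r : ℕ) : K := c0 ^ cdG2.D.cartan 0 r * c1 ^ cdG2.D.cartan 1 r

theorem hT_conj' (c0 c1 : K) (h0 : c0 ≠ 0) (h1 : c1 ≠ 0) (s : ℕ) (hs : s < cdG2.D.nroots) (t : K) :
    MulAut.conj (hT c0 c1) (relG2.xU s t) = relG2.xU s (chi c0 c1 s * t) :=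
  hT_conj c0 c1 h0 h1 s hs t

theorem hT_conj_pw (c0 c1 : K) (h0 : c0 ≠ 0) (h1 : c1 ≠ 0) (b a d1 d2 d3 d4 : K) :
    hT c0 c1 * (relG2.xU 6 b * relG2.xU 7 a *
      (relG2.xU 8 d1 * relG2.xU 9 d2 * relG2.xU 10 d3 * relG2.xU 11 d4)) * (hT c0 c1)⁻¹ =
    relG2.xU 6 (chi c0 c1 6 * b) * relG2.xU 7 (chi c0 c1 7 * a) *
      (relG2.xU 8 (chi c0 c1 8 * d1) * relG2.xU 9 (chi c0 c1 9 * d2) * relG2.xU 10 (chi c0 c1 10 * d3) *
        relG2.xU 11 (chi c0 c1 11 * d4)) := by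
  have e : ∀ g : GL cdG2.D.Idx K, hT c0 c1 * g * (hT c0 c1)⁻¹ = MulAut.conj (hT c0 c1) g := fun g => rfl
  rw [e]
  simp only [map_mul]
  rw [hT_conj' c0 c1 h0 h1 6 (by decide), hT_conj' c0 c1 h0 h1 7 (by decide),
    hT_conj' c0 c1 h0 h1 8 (by decide), hT_conj' c0 c1 h0 h1 9 (by decide),
    hT_conj' c0 c1 h0 h1 10 (by decide), hT_conj' c0 c1 h0 h1 11 (by decide)]

theorem chi_11 (c0 c1 : K) : chi c0 c1 11 = c1 := by
  have e0 : cdG2.D.cartan 0 11 = 0 := by decide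
  have e1 : cdG2.D.cartan 1 11 = 1 := by decide
  simp [chi, e0, e1]

theorem chi_10 (c0 c1 : K) : chi c0 c1 10 = c0 ^ 3 * c1⁻¹ := by
  have e0 : cdG2.D.cartan 0 10 = 3 := by decide
  have e1 : cdG2.D.cartan 1 10 = -1 := by decide
  rw [chi, e0, e1, zpow_neg_one]
  norm_cast

theorem chi_6 (c0 c1 : K) : chi c0 c1 6 = (c0 ^ 3)⁻¹ * c1 ^ 2 := by
  have e0 : cdG2.D.cartan 0 6 = -3 := by decide
  have e1 : cdG2.D.cartan 1 6 = 2 := by decide
  rw [chi, e0, e1, zpow_neg]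
  norm_cast

end

section
variable {K : Type*} [Field K] [CharP K 3]

theorem reeU_coe (θ : ℕ) (t u v : K) :
    reeU θ t u v = relG2.xU 6 t * relG2.xU 7 (t ^ θ) *
      (relG2.xU 8 (u ^ θ) * relG2.xU 9 (v ^ θ) * relG2.xU 10 (u + t * (t ^ θ) ^ 3) *
        relG2.xU 11 (v + t ^ 2 * (t ^ θ) ^ 3)) := by
  unfold reeU
  rw [(reeSysPos K).ree_eq']
  rfl

end

section
variable {K : Type*} [Field K] [Fintype K] [CharP K 3]

/-- the action of the diagonal part on the unipotent part -/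
theorem conj_reeU (m : ℕ) (hK : Fintype.card K = 3 ^ (2 * m + 1)) (s : K) (hs : s ≠ 0) (t u v : K) :
    ∃ u' v' : K, hRee (3 ^ m) s * reeU (3 ^ m) t u v * (hRee (3 ^ m) s)⁻¹ =
        reeU (3 ^ m) (chi (s ^ 3 ^ m) s 6 * t) u' v' ∧
      (t = 0 → u' = chi (s ^ 3 ^ m) s 10 * u ∧ v' = chi (s ^ 3 ^ m) s 11 * v) := by
  have hsθ : s ^ 3 ^ m ≠ 0 := pow_ne_zero _ hs
  obtain ⟨hHU, -⟩ := relG2.diagonal_normalizes (F := K) bnG2.dec bnG2.mono.tri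
  have hH : hRee (3 ^ m) s ∈ cdG2.D.diagonalSubgroup K := hT_mem _ _ hsθ hs
  have hmemU : hRee (3 ^ m) s * reeU (3 ^ m) t u v * (hRee (3 ^ m) s)⁻¹ ∈ cdG2.D.posUnipotent K :=
    (Subgroup.mem_normalizer_iff.mp (hHU hH) _).mp (reeU_mem_pos _ t u v)
  have hmemF : hRee (3 ^ m) s * reeU (3 ^ m) t u v * (hRee (3 ^ m) s)⁻¹ ∈ fixG K m :=
    Subgroup.mul_mem _ (Subgroup.mul_mem _ (hRee_mem_fixG m hK s hs) (reeU_mem_fixG m hK t u v))
      (Subgroup.inv_mem _ (hRee_mem_fixG m hK s hs))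
  obtain ⟨t', u', v', e⟩ := fixed_posUnipotent m hK _ hmemU hmemF.2
  have e2 := e
  rw [reeU_coe, reeU_coe] at e2
  unfold hRee at e2
  rw [hT_conj_pw _ _ hsθ hs] at e2
  obtain ⟨k1, -, -, -, k5, k6⟩ := pw_inj _ _ _ _ _ _ _ _ _ _ _ _ e2
  refine ⟨u', v', ?_, ?_⟩
  · rw [e, k1]
  · intro ht
    subst ht
    rw [mul_zero] at k1
    rw [← k1] at k5 k6
    have hz : (0 : K) ^ 3 ^ m = 0 := zero_pow (three_pow_ne_zero m)
    simp only [hz, zero_mul, mul_zero, add_zero, ne_eq, OfNat.ofNat_ne_zero, not_false_eq_true, zero_pow] at k5 k6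
    exact ⟨k5.symm, k6.symm⟩

/-- a normal subgroup of the twisted group contained in the Borel subgroup is trivial -/
theorem core_aux (m : ℕ) (hK : Fintype.card K = 3 ^ (2 * m + 1)) (x : GL cdG2.D.Idx K)
    (hx : x ∈ tG2 K (3 ^ m)) (hP : ∀ g ∈ tG2 K (3 ^ m), g * x * g⁻¹ ∈ bT K (3 ^ m)) : x = 1 := by
  obtain ⟨hHU, hdisj⟩ := relG2.diagonal_normalizes (F := K) bnG2.dec bnG2.mono.tri
  -- such elements lie in the diagonal part
  have step1 : ∀ y ∈ tG2 K (3 ^ m), (∀ g ∈ tG2 K (3 ^ m), g * y * g⁻¹ ∈ bT K (3 ^ m)) →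
      ∃ s : K, s ≠ 0 ∧ y = hRee (3 ^ m) s := by
    intro y hy hPy
    have hyB : y ∈ bT K (3 ^ m) := by
      have := hPy 1 (Subgroup.one_mem _)
      simpa using this
    obtain ⟨t, u, v, s, hs, rfl⟩ := (mem_bT_iff m hK y).mp hyB
    have h1 := (hPy (n1 m hK) (n1_mem_tG2 m hK)).1
    have e1 : n1 m hK * (reeU (3 ^ m) t u v * hRee (3 ^ m) s) * (n1 m hK)⁻¹ =
        (n1 m hK * reeU (3 ^ m) t u v * (n1 m hK)⁻¹) * (n1 m hK * hRee (3 ^ m) s * (n1 m hK)⁻¹) := by group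
    rw [e1] at h1
    have h2 : n1 m hK * reeU (3 ^ m) t u v * (n1 m hK)⁻¹ ∈ cdG2.D.borelSubgroup K := by
      have := Subgroup.mul_mem _ h1 (Subgroup.inv_mem _ (Subgroup.mem_sup_right (n1_conj_hRee m hK s hs).1))
      simpa [mul_assoc] using this
    have hU : reeU (3 ^ m) t u v ∈ uMinus cdG2.D K (n1 m hK) :=
      pos_le_uMinus _ (h1_mem m hK) (reeU_mem_pos _ t u v)
    have hV := conj_uMinus_le cdG2.D (n1 m hK) _ hU
    have hmem : n1 m hK * reeU (3 ^ m) t u v * (n1 m hK)⁻¹ ∈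
        cdG2.D.borelSubgroup K ⊓ cdG2.D.negUnipotent K := ⟨h2, hV⟩
    rw [(relG2.borel_inf_neg (F := K) bnG2.dec bnG2.mono.tri g2NegTri).1, Subgroup.mem_bot] at hmem
    have h3 : reeU (3 ^ m) t u v = 1 := by
      have := congrArg (fun x => (n1 m hK)⁻¹ * x * n1 m hK) hmem
      simpa [mul_assoc] using this
    exact ⟨s, hs, by rw [h3, one_mul]⟩
  obtain ⟨s, hs, rfl⟩ := step1 x hx hP
  -- conjugate by a unipotent element
  set w := reeU (3 ^ m) (0 : K) 0 1 with hw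
  have hwT : w ∈ tG2 K (3 ^ m) := reeU_mem_tG2 _ _ _ _
  have hyT : w * hRee (3 ^ m) s * w⁻¹ ∈ tG2 K (3 ^ m) :=
    Subgroup.mul_mem _ (Subgroup.mul_mem _ hwT hx) (Subgroup.inv_mem _ hwT)
  obtain ⟨s', hs', e⟩ := step1 (w * hRee (3 ^ m) s * w⁻¹) hyT (by
    intro g hg
    have := hP (g * w) (Subgroup.mul_mem _ hg hwT)
    have e : g * w * hRee (3 ^ m) s * (g * w)⁻¹ = g * (w * hRee (3 ^ m) s * w⁻¹) * g⁻¹ := by group
    rwa [e] at this)
  have hH : ∀ s : K, s ≠ 0 → hRee (3 ^ m) s ∈ cdG2.D.diagonalSubgroup K :=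
    fun s hs => hT_mem _ _ (pow_ne_zero _ hs) hs
  have hmem : w * (hRee (3 ^ m) s * w⁻¹ * (hRee (3 ^ m) s)⁻¹) ∈
      cdG2.D.posUnipotent K ⊓ cdG2.D.diagonalSubgroup K := by
    refine ⟨Subgroup.mul_mem _ (reeU_mem_pos _ _ _ _) ?_, ?_⟩
    · exact (Subgroup.mem_normalizer_iff.mp (hHU (hH s hs)) _).mp (Subgroup.inv_mem _ (reeU_mem_pos _ _ _ _))
    · have : w * (hRee (3 ^ m) s * w⁻¹ * (hRee (3 ^ m) s)⁻¹) = (w * hRee (3 ^ m) s * w⁻¹) * (hRee (3 ^ m) s)⁻¹ := by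
        group
      rw [this, e]
      exact Subgroup.mul_mem _ (hH s' hs') (Subgroup.inv_mem _ (hH s hs))
  rw [hdisj, Subgroup.mem_bot] at hmem
  have hcomm : hRee (3 ^ m) s * w * (hRee (3 ^ m) s)⁻¹ = w := by
    have h1 : hRee (3 ^ m) s * w⁻¹ * (hRee (3 ^ m) s)⁻¹ = w⁻¹ := by
      have := congrArg (fun x => w⁻¹ * x) hmem
      simpa [mul_assoc] using this
    have h2 := congrArg (fun x => x⁻¹) h1
    simpa [mul_assoc] using h2
  obtain ⟨u', v', e3, e4⟩ := conj_reeU m hK s hs 0 0 1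
  obtain ⟨-, e5⟩ := e4 rfl
  rw [hcomm, hw] at e3
  obtain ⟨-, -, e6⟩ := reeU_inj _ _ _ _ _ _ _ e3
  rw [e5, chi_11, mul_one] at e6
  rw [← e6, hRee_one]

end

end Cfsg.Agent.Lib.Helper3.Ree
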