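import Mathlib
import Cfsg.Prelude.Def_ChevStructure
import Cfsg.Prelude.Def_ChevG2
import Cfsg.Prelude.Def_LieTwisted
import Cfsg.Agent.Lib.Helper3.Ree16
set_option autoImplicit false
set_option linter.unusedSectionVars false
set_option linter.style.haveILetI false
open Cfsg Cfsg.Lie

/-!
The diagonal part of the twisted group of type `G₂`: it is cyclic, and its elements of odd order
act without fixed points on the unipotent part.
-/

namespace Cfsg.Agent.Lib.Helper3.Ree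

open Cfsg.Agent.Lib.Helper3.ChevM Cfsg.Agent.Lib.Helper3.ChevSp Cfsg.Agent.Lib.Helper3.ChevAt
open Cfsg.Agent.Lib.Helper3 ChevU ChevT DoubleCoset

section
variable {K : Type*} [Field K] [Fintype K] [CharP K 3]

/-- the parametrization of the diagonal part -/
noncomputable def hReeHom (m : ℕ) (hK : Fintype.card K = 3 ^ (2 * m + 1)) :
    Kˣ →* ↥(cdG2.D.diagonalSubgroup K ⊓ tG2 K (3 ^ m)) where
  toFun s := ⟨hRee (3 ^ m) (s : K), (mem_diag_inf_tG2 m hK _).mpr ⟨_, s.ne_zero, rfl⟩⟩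
  map_one' := Subtype.ext (hRee_one _)
  map_mul' s s' := Subtype.ext (hRee_mul _ _ _ s.ne_zero s'.ne_zero)

theorem hReeHom_bijective (m : ℕ) (hK : Fintype.card K = 3 ^ (2 * m + 1)) :
    Function.Bijective (hReeHom (K := K) m hK) := by
  constructor
  · intro s s' e
    have := congrArg Subtype.val e
    exact Units.ext (hRee_inj _ _ _ s.ne_zero s'.ne_zero this)
  · rintro ⟨g, hg⟩
    obtain ⟨s, hs, rfl⟩ := (mem_diag_inf_tG2 m hK g).mp hg
    exact ⟨Units.mk0 s hs, rfl⟩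

/-- the isomorphism of the multiplicative group with the diagonal part -/
noncomputable def hReeEquiv (m : ℕ) (hK : Fintype.card K = 3 ^ (2 * m + 1)) :
    Kˣ ≃* ↥(cdG2.D.diagonalSubgroup K ⊓ tG2 K (3 ^ m)) :=
  MulEquiv.ofBijective (hReeHom m hK) (hReeHom_bijective m hK)

theorem isCyclic_diag_inf (m : ℕ) (hK : Fintype.card K = 3 ^ (2 * m + 1)) :
    IsCyclic ↥(cdG2.D.diagonalSubgroup K ⊓ tG2 K (3 ^ m)) :=
  isCyclic_of_surjective (hReeHom (K := K) m hK) (hReeHom_bijective m hK).2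

/-- the elements of the field with trivial character at the long simple root -/
theorem chi6_eq_one (m : ℕ) (hK : Fintype.card K = 3 ^ (2 * m + 1)) (s : K) (hs : s ≠ 0)
    (h : chi (s ^ 3 ^ m) s 6 = 1) : s = 1 := by
  have hθ := thetaHyp_of_card (K := K) m hK
  have hsθ : s ^ 3 ^ m ≠ 0 := pow_ne_zero _ hs
  rw [chi_6] at h
  -- `(s^θ)^3 = s^2`
  have h1 : (s ^ 3 ^ m) ^ 3 = s ^ 2 := by
    have := congrArg (fun x => (s ^ 3 ^ m) ^ 3 * x) h
    simpa [← mul_assoc, mul_inv_cancel₀ (pow_ne_zero 3 hsθ)] using this.symm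
  -- raise to the power `θ`
  have h2 : s = (s ^ 3 ^ m) ^ 2 := by
    calc s = (s ^ 3 ^ m) ^ (3 * 3 ^ m) := (hθ.inv s).symm
      _ = ((s ^ 3 ^ m) ^ 3) ^ 3 ^ m := pow_mul _ _ _
      _ = (s ^ 2) ^ 3 ^ m := by rw [h1]
      _ = (s ^ 3 ^ m) ^ 2 := by rw [← pow_mul, mul_comm, pow_mul]
  have h3 : (s ^ 3 ^ m) ^ 3 = (s ^ 3 ^ m) ^ 4 := by
    rw [h1]
    nth_rewrite 1 [h2]
    ring
  have h4 : s ^ 3 ^ m = 1 := by
    have : (s ^ 3 ^ m) ^ 3 * 1 = (s ^ 3 ^ m) ^ 3 * (s ^ 3 ^ m) := by rw [mul_one, ← pow_succ]; exact h3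
    exact (mul_left_cancel₀ (pow_ne_zero 3 hsθ) this).symm
  rw [h2, h4, one_pow]

/-- the elements of the field with trivial character at the root `3a + b` -/
theorem chi10_eq_one (m : ℕ) (hK : Fintype.card K = 3 ^ (2 * m + 1)) (s : K) (hs : s ≠ 0)
    (h : chi (s ^ 3 ^ m) s 10 = 1) : s ^ 2 = 1 := by
  have hθ := thetaHyp_of_card (K := K) m hK
  rw [chi_10] at h
  have h1 : (s ^ 3 ^ m) ^ 3 = s := by
    have := congrArg (fun x => x * s) h
    simpa [mul_assoc, inv_mul_cancel₀ hs] using this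
  -- raise to the power `θ`
  have h2 : s = s ^ 3 ^ m := by
    calc s = (s ^ 3 ^ m) ^ (3 * 3 ^ m) := (hθ.inv s).symm
      _ = ((s ^ 3 ^ m) ^ 3) ^ 3 ^ m := pow_mul _ _ _
      _ = s ^ 3 ^ m := by rw [h1]
  rw [← h2] at h1
  have : s ^ 2 * s = 1 * s := by rw [one_mul, ← pow_succ]; exact h1
  exact mul_right_cancel₀ hs this

end

end Cfsg.Agent.Lib.Helper3.Ree
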