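import Mathlib
import Cfsg.Prelude.Def_ChevStructure
import Cfsg.Prelude.Def_ChevG2
import Cfsg.Prelude.Def_LieTwisted
import Cfsg.Agent.Lib.Helper3.Ree21
set_option autoImplicit false
set_option linter.unusedSectionVars false
set_option linter.style.haveILetI false
open Cfsg Cfsg.Lie

/-!
The elements of odd order of the diagonal part of the twisted group of type `G₂`.
-/

namespace Cfsg.Agent.Lib.Helper3.Ree

open Cfsg.Agent.Lib.Helper3.ChevM Cfsg.Agent.Lib.Helper3.ChevSp Cfsg.Agent.Lib.Helper3.ChevAt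
open Cfsg.Agent.Lib.Helper3 ChevU ChevT DoubleCoset

/-- the number of elements of odd order in a cyclic group of order twice an odd number -/
theorem card_odd_order (G : Type*) [CommGroup G] [Finite G] [IsCyclic G] (k : ℕ) (hk : Odd k)
    (hc : Nat.card G = 2 * k) : Nat.card {g : G // Odd (orderOf g)} = k := by
  have h1 := IsCyclic.card_powMonoidHom_ker G k
  rw [hc, Nat.gcd_mul_left_left] at h1
  rw [← h1]
  apply Nat.card_congr
  refine Equiv.subtypeEquivRight ?_
  intro g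
  rw [MonoidHom.mem_ker, powMonoidHom_apply]
  constructor
  · intro hodd
    have hdvd : orderOf g ∣ 2 * k := by
      rw [← hc]; exact orderOf_dvd_natCard g
    have hcop : Nat.Coprime (orderOf g) 2 := Nat.Coprime.symm (Nat.coprime_two_left.mpr hodd)
    exact orderOf_dvd_iff_pow_eq_one.mp (hcop.dvd_of_dvd_mul_left hdvd)
  · intro h
    have hdvd := orderOf_dvd_of_pow_eq_one h
    obtain ⟨c, hc'⟩ := hdvd
    rw [hc'] at hk
    exact (Nat.odd_mul.mp hk).1

theorem half_odd (m : ℕ) : Odd ((3 ^ (2 * m + 1) - 1) / 2) ∧ 3 ^ (2 * m + 1) - 1 = 2 * ((3 ^ (2 * m + 1) - 1) / 2) := by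
  have h := card_mod_four m
  have hpos : 0 < 3 ^ (2 * m + 1) := by positivity
  constructor
  · rw [Nat.odd_iff]; omega
  · omega

section
variable {K : Type*} [Field K] [Fintype K] [CharP K 3]

theorem card_odd_diag (m : ℕ) (hK : Fintype.card K = 3 ^ (2 * m + 1)) :
    2 * Nat.card {h : ↥(cdG2.D.diagonalSubgroup K ⊓ tG2 K (3 ^ m)) // Odd (orderOf h)} =
      3 ^ (2 * m + 1) - 1 := by
  classical
  obtain ⟨hodd, heq⟩ := half_odd m
  have hc : Nat.card Kˣ = 2 * ((3 ^ (2 * m + 1) - 1) / 2) := by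
    rw [Nat.card_eq_fintype_card, Fintype.card_units, hK]
    exact heq
  have h1 := card_odd_order Kˣ _ hodd hc
  have h2 : Nat.card {h : ↥(cdG2.D.diagonalSubgroup K ⊓ tG2 K (3 ^ m)) // Odd (orderOf h)} =
      Nat.card {s : Kˣ // Odd (orderOf s)} := by
    apply Nat.card_congr
    refine (Equiv.subtypeEquiv (hReeEquiv (K := K) m hK).toEquiv ?_).symm
    intro s
    show Odd (orderOf s) ↔ Odd (orderOf ((hReeEquiv (K := K) m hK) s))
    rw [MulEquiv.orderOf_eq]
  rw [h2, h1, ← heq]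

/-- nontrivial elements of odd order of the diagonal part have no nontrivial fixed points on
the unipotent part -/
theorem centralizer_odd (m : ℕ) (hK : Fintype.card K = 3 ^ (2 * m + 1)) (h : GL cdG2.D.Idx K)
    (hh : h ∈ cdG2.D.diagonalSubgroup K ⊓ tG2 K (3 ^ m)) (h1 : h ≠ 1) (hodd : Odd (orderOf h)) :
    (cdG2.D.posUnipotent K ⊓ tG2 K (3 ^ m)) ⊓ Subgroup.centralizer {h} = ⊥ := by
  obtain ⟨s, hs, rfl⟩ := (mem_diag_inf_tG2 m hK h).mp hh
  have hs1 : s ≠ 1 := by
    rintro rfl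
    exact h1 (hRee_one _)
  have hsq : s ^ 2 ≠ 1 := by
    intro hsq
    have e : hRee (3 ^ m) s ^ 2 = 1 := by
      rw [sq, ← hRee_mul _ _ _ hs hs, ← sq, hsq, hRee_one]
    have hd := orderOf_dvd_of_pow_eq_one e
    have : orderOf (hRee (3 ^ m) s) = 1 := by
      rcases (Nat.dvd_prime Nat.prime_two).mp hd with h | h
      · exact h
      · rw [h] at hodd; exact absurd hodd (by decide)
    exact h1 (orderOf_eq_one_iff.mp this)
  rw [eq_bot_iff]
  rintro x ⟨hxU, hxC⟩
  rw [Subgroup.mem_bot]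
  obtain ⟨t, u, v, rfl⟩ := (mem_pos_inf_tG2 m hK x).mp hxU
  have hcomm : hRee (3 ^ m) s * reeU (3 ^ m) t u v * (hRee (3 ^ m) s)⁻¹ = reeU (3 ^ m) t u v := by
    have := Subgroup.mem_centralizer_iff.mp hxC (hRee (3 ^ m) s) rfl
    rw [this]; group
  obtain ⟨u', v', e, e2⟩ := conj_reeU m hK s hs t u v
  rw [hcomm] at e
  obtain ⟨k1, k2, k3⟩ := reeU_inj _ _ _ _ _ _ _ e
  have ht : t = 0 := by
    by_contra ht
    apply hs1
    apply chi6_eq_one m hK s hs
    have : chi (s ^ 3 ^ m) s 6 * t = 1 * t := by rw [one_mul]; exact k1.symm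
    exact mul_right_cancel₀ ht this
  obtain ⟨e3, e4⟩ := e2 ht
  rw [chi_11] at e4
  have hv : v = 0 := by
    by_contra hv
    apply hs1
    have : s * v = 1 * v := by rw [one_mul, ← e4]; exact k3.symm
    exact mul_right_cancel₀ hv this
  have hu : u = 0 := by
    by_contra hu
    apply hsq
    apply chi10_eq_one m hK s hs
    have : chi (s ^ 3 ^ m) s 10 * u = 1 * u := by rw [one_mul, ← e3]; exact k2.symm
    exact mul_right_cancel₀ hu this
  rw [ht, hu, hv]
  exact reeU_zero _ (three_pow_ne_zero m)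

end

end Cfsg.Agent.Lib.Helper3.Ree
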