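import Mathlib
import Cfsg.Prelude.Def_ChevStructure
import Cfsg.Prelude.Def_ChevG2
import Cfsg.Prelude.Def_LieTwisted
import Cfsg.Agent.Lib.Helper3.Ree16
set_option autoImplicit false
set_option linter.unusedSectionVars false
set_option linter.style.haveILetI false
open Cfsg Cfsg.Lie

/-!
The Sylow 3-subgroups of the twisted group of type `G₂` intersect pairwise trivially.
-/

namespace Cfsg.Agent.Lib.Helper3.Ree

open Cfsg.Agent.Lib.Helper3.ChevM Cfsg.Agent.Lib.Helper3.ChevSp Cfsg.Agent.Lib.Helper3.ChevAt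
open Cfsg.Agent.Lib.Helper3 ChevU ChevT DoubleCoset

/-- an abstract criterion for the Sylow subgroups to intersect trivially, in a group with a
decomposition into two double cosets -/
theorem sylow_ti {G : Type*} [Group G] [Finite G] {p : ℕ} [Fact p.Prime] (U B : Subgroup G) (n : G)
    (hU : IsPGroup p U) (hidx : ¬ p ∣ U.index) (hBN : B ≤ Subgroup.normalizer (U : Set G))
    (hG : ∀ g : G, g ∈ B ∨ ∃ b ∈ B, ∃ b' ∈ B, g = b * n * b')
    (hTI : ∀ x ∈ U, n⁻¹ * x * n ∈ U → x = 1)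
    (P Q : Sylow p G) (hPQ : P ≠ Q) : (P : Subgroup G) ⊓ Q = ⊥ := by
  set S₀ : Sylow p G := hU.toSylow hidx with hS₀
  have hS₀c : (S₀ : Subgroup G) = U := IsPGroup.toSylow_coe _ _
  obtain ⟨g₁, rfl⟩ := MulAction.exists_smul_eq G S₀ P
  obtain ⟨g₂, rfl⟩ := MulAction.exists_smul_eq G S₀ Q
  have hmem : ∀ (g x : G), x ∈ ((g • S₀ : Sylow p G) : Subgroup G) ↔ g⁻¹ * x * g ∈ U := by
    intro g x
    rw [Sylow.coe_subgroup_smul, Subgroup.mem_pointwise_smul_iff_inv_smul_mem, hS₀c]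
    simp [MulAut.smul_def]
  have hnorm : ∀ b ∈ B, ∀ y : G, y ∈ U ↔ b * y * b⁻¹ ∈ U := fun b hb y =>
    Subgroup.mem_normalizer_iff.mp (hBN hb) y
  rw [eq_bot_iff]
  rintro x ⟨hx1, hx2⟩
  rw [Subgroup.mem_bot]
  have hx1 := (hmem g₁ x).mp hx1
  have hx2 := (hmem g₂ x).mp hx2
  rcases hG (g₁⁻¹ * g₂) with hB | ⟨b, hb, b', hb', e⟩
  · exfalso
    apply hPQ
    have h1 : (g₁⁻¹ * g₂) • S₀ = S₀ := by
      rw [Sylow.smul_eq_iff_mem_normalizer]
      show g₁⁻¹ * g₂ ∈ Subgroup.normalizer ((S₀ : Subgroup G) : Set G)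
      rw [hS₀c]
      exact hBN hB
    rw [mul_smul] at h1
    have := congrArg (fun T => g₁ • T) h1
    simpa using this.symm
  · -- `y = g₁⁻¹ x g₁ ∈ U` and `g⁻¹ y g ∈ U`
    set y := g₁⁻¹ * x * g₁ with hy
    have hy2 : (g₁⁻¹ * g₂)⁻¹ * y * (g₁⁻¹ * g₂) ∈ U := by
      have : (g₁⁻¹ * g₂)⁻¹ * y * (g₁⁻¹ * g₂) = g₂⁻¹ * x * g₂ := by rw [hy]; group
      rw [this]; exact hx2
    rw [e] at hy2
    -- `y' = b⁻¹ y b`
    have hy' : b⁻¹ * y * b ∈ U := by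
      have := (hnorm b⁻¹ (Subgroup.inv_mem _ hb) y).mp hx1
      rwa [inv_inv] at this
    have h3 : n⁻¹ * (b⁻¹ * y * b) * n ∈ U := by
      have := (hnorm b' hb' _).mp hy2
      have e2 : b' * ((b * n * b')⁻¹ * y * (b * n * b')) * b'⁻¹ = n⁻¹ * (b⁻¹ * y * b) * n := by group
      rwa [e2] at this
    have h4 := hTI _ hy' h3
    have h5 : y = 1 := by
      have := congrArg (fun z => b * z * b⁻¹) h4
      simpa [mul_assoc] using this
    have := congrArg (fun z => g₁ * z * g₁⁻¹) h5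
    simpa [hy, mul_assoc] using this

section
variable {K : Type*} [Field K] [Fintype K] [CharP K 3]

instance finite_tG2 (θ : ℕ) : Finite ↥(tG2 K θ) := by
  haveI : Finite (GL cdG2.D.Idx K) := Finite.of_injective (fun g : GL cdG2.D.Idx K => (g : Matrix cdG2.D.Idx cdG2.D.Idx K))
    Units.val_injective
  infer_instance

/-- the unipotent part as a subgroup of the twisted group -/
def uSub (K : Type*) [Field K] (θ : ℕ) : Subgroup ↥(tG2 K θ) :=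
  (cdG2.D.posUnipotent K ⊓ tG2 K θ).subgroupOf (tG2 K θ)

theorem card_uSub (m : ℕ) (hK : Fintype.card K = 3 ^ (2 * m + 1)) :
    Nat.card ↥(uSub K (3 ^ m)) = (3 ^ (2 * m + 1)) ^ 3 := by
  rw [← card_pos_inf_tG2 m hK]
  exact Nat.card_congr (Subgroup.subgroupOfEquivOfLe inf_le_right).toEquiv

theorem isPGroup_uSub (m : ℕ) (hK : Fintype.card K = 3 ^ (2 * m + 1)) : IsPGroup 3 ↥(uSub K (3 ^ m)) := by
  haveI : Fact (Nat.Prime 3) := ⟨by norm_num⟩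
  apply IsPGroup.of_card (n := (2 * m + 1) * 3)
  rw [card_uSub m hK, pow_mul]

theorem index_uSub (m : ℕ) (hK : Fintype.card K = 3 ^ (2 * m + 1)) :
    (uSub K (3 ^ m)).index = (3 ^ (2 * m + 1) - 1) * ((3 ^ (2 * m + 1)) ^ 3 + 1) := by
  have h1 := Subgroup.card_mul_index (uSub K (3 ^ m))
  rw [card_uSub m hK, card_tG2 m hK] at h1
  have hpos : 0 < (3 ^ (2 * m + 1)) ^ 3 := by positivity
  apply Nat.eq_of_mul_eq_mul_left hpos
  rw [h1]; ring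

theorem not_dvd_index_uSub (m : ℕ) (hK : Fintype.card K = 3 ^ (2 * m + 1)) :
    ¬ 3 ∣ (uSub K (3 ^ m)).index := by
  rw [index_uSub m hK]
  have h3 : 3 ∣ 3 ^ (2 * m + 1) := dvd_pow_self 3 (by omega)
  obtain ⟨c, hc⟩ := h3
  have hpos : 0 < 3 ^ (2 * m + 1) := by positivity
  intro h
  rcases (Nat.Prime.dvd_mul (by norm_num : Nat.Prime 3)).mp h with h | h
  · omega
  · have : (3 ^ (2 * m + 1)) ^ 3 + 1 = 3 * (c * (3 ^ (2 * m + 1)) ^ 2) + 1 := by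
      have e : (3 ^ (2 * m + 1)) ^ 3 = 3 ^ (2 * m + 1) * (3 ^ (2 * m + 1)) ^ 2 := by ring
      rw [e]
      nth_rewrite 1 [hc]
      rw [mul_assoc]
    omega

theorem bT_normalizes (m : ℕ) (g : GL cdG2.D.Idx K) (hg : g ∈ bT K (3 ^ m)) (y : GL cdG2.D.Idx K) :
    y ∈ cdG2.D.posUnipotent K ⊓ tG2 K (3 ^ m) ↔ g * y * g⁻¹ ∈ cdG2.D.posUnipotent K ⊓ tG2 K (3 ^ m) := by
  obtain ⟨hHU, -⟩ := relG2.diagonal_normalizes (F := K) bnG2.dec bnG2.mono.tri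
  have hBN : cdG2.D.borelSubgroup K ≤ Subgroup.normalizer (cdG2.D.posUnipotent K : Set (GL cdG2.D.Idx K)) :=
    sup_le Subgroup.le_normalizer hHU
  have h1 := Subgroup.mem_normalizer_iff.mp (hBN hg.1) y
  constructor
  · rintro ⟨hy1, hy2⟩
    exact ⟨h1.mp hy1, Subgroup.mul_mem _ (Subgroup.mul_mem _ hg.2 hy2) (Subgroup.inv_mem _ hg.2)⟩
  · rintro ⟨hy1, hy2⟩
    refine ⟨h1.mpr hy1, ?_⟩
    have := Subgroup.mul_mem _ (Subgroup.mul_mem _ (Subgroup.inv_mem _ hg.2) hy2) hg.2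
    simpa [mul_assoc] using this

/-- the Sylow 3-subgroups of the twisted group intersect pairwise trivially -/
theorem ree_sylow_ti (m : ℕ) (hK : Fintype.card K = 3 ^ (2 * m + 1))
    [Fact (Nat.Prime 3)] (P Q : Sylow 3 ↥(tG2 K (3 ^ m))) (hPQ : P ≠ Q) :
    (P : Subgroup ↥(tG2 K (3 ^ m))) ⊓ (Q : Subgroup ↥(tG2 K (3 ^ m))) = ⊥ := by
  refine sylow_ti (uSub K (3 ^ m)) ((bT K (3 ^ m)).subgroupOf (tG2 K (3 ^ m))) ⟨n1 m hK, n1_mem_tG2 m hK⟩
    (isPGroup_uSub m hK) (not_dvd_index_uSub m hK) ?_ ?_ ?_ P Q hPQ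
  · intro g hg
    rw [Subgroup.mem_normalizer_iff]
    intro y
    exact bT_normalizes m g.1 (Subgroup.mem_subgroupOf.mp hg) y.1
  · rintro ⟨g, hg⟩
    rcases tG2_cases m hK g hg with h | ⟨b, hb, b', hb', e⟩
    · exact Or.inl (Subgroup.mem_subgroupOf.mpr h)
    · exact Or.inr ⟨⟨b, hb.2⟩, Subgroup.mem_subgroupOf.mpr hb, ⟨b', hb'.2⟩, Subgroup.mem_subgroupOf.mpr hb',
        Subtype.ext e⟩
  · rintro ⟨x, hxT⟩ hx hx2
    apply Subtype.ext
    have hx' : x ∈ cdG2.D.posUnipotent K ⊓ tG2 K (3 ^ m) := Subgroup.mem_subgroupOf.mp hx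
    have hx2' : (n1 m hK)⁻¹ * x * n1 m hK ∈ cdG2.D.posUnipotent K ⊓ tG2 K (3 ^ m) :=
      Subgroup.mem_subgroupOf.mp hx2
    have hU : (n1 m hK)⁻¹ * x * n1 m hK ∈ uMinus cdG2.D K (n1 m hK) :=
      pos_le_uMinus _ (h1_mem m hK) hx2'.1
    have hV := conj_uMinus_le cdG2.D (n1 m hK) _ hU
    have e : n1 m hK * ((n1 m hK)⁻¹ * x * n1 m hK) * (n1 m hK)⁻¹ = x := by group
    rw [e] at hV
    have hmem : x ∈ cdG2.D.borelSubgroup K ⊓ cdG2.D.negUnipotent K := ⟨Subgroup.mem_sup_left hx'.1, hV⟩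
    rw [(relG2.borel_inf_neg (F := K) bnG2.dec bnG2.mono.tri g2NegTri).1, Subgroup.mem_bot] at hmem
    exact hmem

end

end Cfsg.Agent.Lib.Helper3.Ree
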