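import Mathlib
set_option autoImplicit false
set_option linter.unusedSectionVars false
set_option linter.style.haveILetI false

/-!
Stabilizers of three points in the action of a group with a decomposition `G = B ∪ U n B` on the
cosets of `B` (abstract version).
-/

namespace Cfsg.Agent.Lib.Helper3.Ree

open MulAction

section
variable {G : Type*} [Group G] (B : Subgroup G)

/-- the stabilizer of three points -/
def stab3 (x y z : G ⧸ B) : Subgroup G := stabilizer G x ⊓ stabilizer G y ⊓ stabilizer G z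

theorem stab3_smul (g : G) (x y z : G ⧸ B) :
    stab3 B (g • x) (g • y) (g • z) = (stab3 B x y z).map (MulAut.conj g).toMonoidHom := by
  unfold stab3
  have hinj : Function.Injective (MulAut.conj g).toMonoidHom := (MulAut.conj g).injective
  rw [Subgroup.map_inf _ _ _ hinj, Subgroup.map_inf _ _ _ hinj, stabilizer_smul_eq_stabilizer_map_conj,
    stabilizer_smul_eq_stabilizer_map_conj, stabilizer_smul_eq_stabilizer_map_conj]

theorem card_stab3_smul (g : G) (x y z : G ⧸ B) :
    Nat.card ↥(stab3 B (g • x) (g • y) (g • z)) = Nat.card ↥(stab3 B x y z) := by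
  rw [stab3_smul]
  exact Subgroup.card_map_of_injective (MulAut.conj g).injective

theorem mem_stabilizer_mk (a g : G) : g ∈ stabilizer G (QuotientGroup.mk a : G ⧸ B) ↔ a⁻¹ * g * a ∈ B := by
  rw [mem_stabilizer_iff, MulAction.Quotient.smul_mk, QuotientGroup.eq]
  constructor
  · intro h
    have := B.inv_mem h
    have e : ((g • a)⁻¹ * a)⁻¹ = a⁻¹ * g * a := by simp [smul_eq_mul, mul_assoc]
    rwa [e] at this
  · intro h
    have := B.inv_mem h
    have e : (a⁻¹ * g * a)⁻¹ = (g • a)⁻¹ * a := by simp [smul_eq_mul, mul_assoc]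
    rwa [e] at this

variable (U H : Subgroup G) (n : G)

/-- the hypotheses on the decomposition -/
structure Dec3 : Prop where
  hUB : U ≤ B
  hHB : H ≤ B
  dec : ∀ g : G, g ∈ B ∨ ∃ u ∈ U, ∃ b ∈ B, g = u * n * b
  inter : ∀ b ∈ B, n⁻¹ * b * n ∈ B → b ∈ H
  conjH : ∀ h ∈ H, n⁻¹ * h * n ∈ B
  normU : ∀ h ∈ H, ∀ u ∈ U, h * u * h⁻¹ ∈ U
  ti : ∀ w ∈ U, n⁻¹ * w * n ∈ B → w = 1
  hn : n ∉ B

variable {B U H n}

/-- the stabilizer of the three standard points -/
theorem Dec3.stab3_std (D : Dec3 B U H n) (u : G) (hu : u ∈ U) :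
    stab3 B (QuotientGroup.mk 1) (QuotientGroup.mk n) (QuotientGroup.mk (u * n)) =
      H ⊓ Subgroup.centralizer {u} := by
  ext g
  unfold stab3
  rw [Subgroup.mem_inf, Subgroup.mem_inf, mem_stabilizer_mk, mem_stabilizer_mk, mem_stabilizer_mk,
    Subgroup.mem_inf, Subgroup.mem_centralizer_iff]
  constructor
  · rintro ⟨⟨h1, h2⟩, h3⟩
    have hgB : g ∈ B := by simpa using h1
    have hgH : g ∈ H := D.inter g hgB h2
    refine ⟨hgH, ?_⟩
    intro y hy
    rw [Set.mem_singleton_iff] at hy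
    subst hy
    -- `w = y⁻¹ g y g⁻¹`
    have hw : y⁻¹ * (g * y * g⁻¹) ∈ U := U.mul_mem (U.inv_mem hu) (D.normU g hgH y hu)
    have e : (y * n)⁻¹ * g * (y * n) = (n⁻¹ * (y⁻¹ * (g * y * g⁻¹)) * n) * (n⁻¹ * g * n) := by group
    rw [e] at h3
    have h4 : n⁻¹ * (y⁻¹ * (g * y * g⁻¹)) * n ∈ B := by
      have := B.mul_mem h3 (B.inv_mem (D.conjH g hgH))
      simpa [mul_assoc] using this
    have h5 := D.ti _ hw h4
    have h6 : g * y * g⁻¹ = y := by
      have := congrArg (fun z => y * z) h5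
      simpa [mul_assoc] using this
    have := congrArg (fun z => z * g) h6
    simpa [mul_assoc] using this.symm
  · rintro ⟨hgH, hc⟩
    have hcu : u * g = g * u := hc u rfl
    refine ⟨⟨by simpa using D.hHB hgH, D.conjH g hgH⟩, ?_⟩
    have e : (u * n)⁻¹ * g * (u * n) = n⁻¹ * g * n := by
      have : (u * n)⁻¹ * g * (u * n) = n⁻¹ * (u⁻¹ * (g * u)) * n := by group
      rw [this, ← hcu]
      group
    rw [e]
    exact D.conjH g hgH

/-- the three standard points are distinct -/
theorem Dec3.std_distinct (D : Dec3 B U H n) (u : G) (hu : u ∈ U) (hu1 : u ≠ 1) :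
    (QuotientGroup.mk 1 : G ⧸ B) ≠ QuotientGroup.mk n ∧
      (QuotientGroup.mk 1 : G ⧸ B) ≠ QuotientGroup.mk (u * n) ∧
      (QuotientGroup.mk n : G ⧸ B) ≠ QuotientGroup.mk (u * n) := by
  refine ⟨?_, ?_, ?_⟩
  · intro h
    rw [QuotientGroup.eq] at h
    apply D.hn
    simpa using h
  · intro h
    rw [QuotientGroup.eq] at h
    apply D.hn
    have h2 : u * n ∈ B := by simpa using h
    have := B.mul_mem (B.inv_mem (D.hUB hu)) h2
    simpa using this
  · intro h
    rw [QuotientGroup.eq] at h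
    apply hu1
    rw [← mul_assoc] at h
    exact D.ti u hu h

/-- every triple of distinct points is conjugate to a standard triple -/
theorem Dec3.exists_std (D : Dec3 B U H n) (x y z : G ⧸ B) (hxy : x ≠ y) (hxz : x ≠ z) (hyz : y ≠ z) :
    ∃ u ∈ U, u ≠ 1 ∧ Nat.card ↥(stab3 B x y z) = Nat.card ↥(H ⊓ Subgroup.centralizer {u}) := by
  obtain ⟨a, rfl⟩ := QuotientGroup.mk_surjective x
  obtain ⟨b, rfl⟩ := QuotientGroup.mk_surjective y
  obtain ⟨c, rfl⟩ := QuotientGroup.mk_surjective z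
  -- move `x` to the base point
  have hab : a⁻¹ * b ∉ B := fun h => hxy (QuotientGroup.eq.mpr h)
  rcases D.dec (a⁻¹ * b) with h | ⟨u₁, hu₁, b₁, hb₁, e₁⟩
  · exact absurd h hab
  -- the element moving `(x, y)` to the first two standard points
  set g := u₁⁻¹ * a⁻¹ with hg
  have hx' : g • (QuotientGroup.mk a : G ⧸ B) = QuotientGroup.mk 1 := by
    rw [MulAction.Quotient.smul_mk, QuotientGroup.eq]
    have : (g • a)⁻¹ * 1 = u₁ := by simp [hg, smul_eq_mul]
    rw [this]
    exact D.hUB hu₁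
  have hy' : g • (QuotientGroup.mk b : G ⧸ B) = QuotientGroup.mk n := by
    rw [MulAction.Quotient.smul_mk, QuotientGroup.eq]
    have : (g • b)⁻¹ * n = b₁⁻¹ := by
      have hb : b = a * (u₁ * n * b₁) := by rw [← e₁]; group
      rw [hb, hg, smul_eq_mul]
      group
    rw [this]
    exact B.inv_mem hb₁
  -- the third point
  have hc1 : g * c ∉ B := by
    intro h
    apply hxz
    have h1 : g • (QuotientGroup.mk c : G ⧸ B) = QuotientGroup.mk 1 := by
      rw [MulAction.Quotient.smul_mk, QuotientGroup.eq]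
      have : (g • c)⁻¹ * 1 = (g * c)⁻¹ := by simp [smul_eq_mul]
      rw [this]
      exact B.inv_mem h
    rw [← hx'] at h1
    exact (smul_left_cancel g h1).symm
  rcases D.dec (g * c) with h | ⟨u₂, hu₂, b₂, hb₂, e₂⟩
  · exact absurd h hc1
  have hz' : g • (QuotientGroup.mk c : G ⧸ B) = QuotientGroup.mk (u₂ * n) := by
    rw [MulAction.Quotient.smul_mk, QuotientGroup.eq, smul_eq_mul, e₂]
    have : (u₂ * n * b₂)⁻¹ * (u₂ * n) = b₂⁻¹ := by group
    rw [this]
    exact B.inv_mem hb₂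
  have hu₂1 : u₂ ≠ 1 := by
    rintro rfl
    apply hyz
    rw [one_mul] at hz'
    rw [← hy'] at hz'
    exact (smul_left_cancel g hz').symm
  refine ⟨u₂, hu₂, hu₂1, ?_⟩
  rw [← card_stab3_smul B g, hx', hy', hz', D.stab3_std u₂ hu₂]

end

end Cfsg.Agent.Lib.Helper3.Ree
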