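import Mathlib
import Cfsg.Prelude.Def_ChevStructure
import Cfsg.Prelude.Def_ChevG2
import Cfsg.Prelude.Def_LieTwisted
import Cfsg.Agent.Lib.Helper3.Ree22
import Cfsg.Agent.Lib.Helper3.Ree23
import Cfsg.Agent.Lib.Helper3.Ree24
set_option autoImplicit false
set_option linter.unusedSectionVars false
set_option linter.style.haveILetI false
open Cfsg Cfsg.Lie

/-!
Stabilizers of three points in the action of the twisted group of type `G₂` on the cosets of its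
Borel subgroup.
-/

namespace Cfsg.Agent.Lib.Helper3.Ree

open Cfsg.Agent.Lib.Helper3.ChevM Cfsg.Agent.Lib.Helper3.ChevSp Cfsg.Agent.Lib.Helper3.ChevAt
open Cfsg.Agent.Lib.Helper3 ChevU ChevT DoubleCoset

section
variable {K : Type*} [Field K] [Fintype K] [CharP K 3]

/-- a unipotent element conjugated into the Borel subgroup by the representative is trivial -/
theorem n1_conj_reeU_mem (m : ℕ) (hK : Fintype.card K = 3 ^ (2 * m + 1)) (t u v : K)
    (h : n1 m hK * reeU (3 ^ m) t u v * (n1 m hK)⁻¹ ∈ cdG2.D.borelSubgroup K) :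
    reeU (3 ^ m) t u v = 1 := by
  have hU : reeU (3 ^ m) t u v ∈ uMinus cdG2.D K (n1 m hK) :=
    pos_le_uMinus _ (h1_mem m hK) (reeU_mem_pos _ t u v)
  have hV := conj_uMinus_le cdG2.D (n1 m hK) _ hU
  have hmem : n1 m hK * reeU (3 ^ m) t u v * (n1 m hK)⁻¹ ∈
      cdG2.D.borelSubgroup K ⊓ cdG2.D.negUnipotent K := ⟨h, hV⟩
  rw [(relG2.borel_inf_neg (F := K) bnG2.dec bnG2.mono.tri g2NegTri).1, Subgroup.mem_bot] at hmem
  have := congrArg (fun x => (n1 m hK)⁻¹ * x * n1 m hK) hmem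
  simpa [mul_assoc] using this

/-- an element of the Borel subgroup conjugated into it by the representative is diagonal -/
theorem n1_conj_bT_mem (m : ℕ) (hK : Fintype.card K = 3 ^ (2 * m + 1)) (b : GL cdG2.D.Idx K)
    (hb : b ∈ bT K (3 ^ m)) (h : n1 m hK * b * (n1 m hK)⁻¹ ∈ bT K (3 ^ m)) :
    b ∈ cdG2.D.diagonalSubgroup K ⊓ tG2 K (3 ^ m) := by
  obtain ⟨t, u, v, s, hs, rfl⟩ := (mem_bT_iff m hK b).mp hb
  have h1 := h.1
  have e1 : n1 m hK * (reeU (3 ^ m) t u v * hRee (3 ^ m) s) * (n1 m hK)⁻¹ =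
      (n1 m hK * reeU (3 ^ m) t u v * (n1 m hK)⁻¹) * (n1 m hK * hRee (3 ^ m) s * (n1 m hK)⁻¹) := by group
  rw [e1] at h1
  have h2 : n1 m hK * reeU (3 ^ m) t u v * (n1 m hK)⁻¹ ∈ cdG2.D.borelSubgroup K := by
    have := Subgroup.mul_mem _ h1 (Subgroup.inv_mem _ (Subgroup.mem_sup_right (n1_conj_hRee m hK s hs).1))
    simpa [mul_assoc] using this
  rw [n1_conj_reeU_mem m hK t u v h2, one_mul]
  exact (mem_diag_inf_tG2 m hK _).mpr ⟨s, hs, rfl⟩

theorem n1_not_mem_bT (m : ℕ) (hK : Fintype.card K = 3 ^ (2 * m + 1)) :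
    n1 m hK ∉ cdG2.D.borelSubgroup K := by
  intro h
  have h1 := borel_entry _ h
  rw [n1_entry] at h1
  exact one_ne_zero h1

/-- the Borel subgroup of the twisted group, as a subgroup of it -/
def bSub (K : Type*) [Field K] (θ : ℕ) : Subgroup ↥(tG2 K θ) := (bT K θ).subgroupOf (tG2 K θ)

/-- the diagonal part of the twisted group, as a subgroup of it -/
def hSub (K : Type*) [Field K] (θ : ℕ) : Subgroup ↥(tG2 K θ) :=
  (cdG2.D.diagonalSubgroup K ⊓ tG2 K θ).subgroupOf (tG2 K θ)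

/-- the representative of the Weyl group element as an element of the twisted group -/
noncomputable def nSub (m : ℕ) (hK : Fintype.card K = 3 ^ (2 * m + 1)) : ↥(tG2 K (3 ^ m)) :=
  ⟨n1 m hK, n1_mem_tG2 m hK⟩

theorem ree_dec3 (m : ℕ) (hK : Fintype.card K = 3 ^ (2 * m + 1)) :
    Dec3 (bSub K (3 ^ m)) (uSub K (3 ^ m)) (hSub K (3 ^ m)) (nSub m hK)⁻¹ where
  hUB := by
    rintro ⟨x, hxT⟩ hx
    have hx' : x ∈ cdG2.D.posUnipotent K ⊓ tG2 K (3 ^ m) := Subgroup.mem_subgroupOf.mp hx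
    exact Subgroup.mem_subgroupOf.mpr ⟨Subgroup.mem_sup_left hx'.1, hx'.2⟩
  hHB := by
    rintro ⟨x, hxT⟩ hx
    have hx' : x ∈ cdG2.D.diagonalSubgroup K ⊓ tG2 K (3 ^ m) := Subgroup.mem_subgroupOf.mp hx
    exact Subgroup.mem_subgroupOf.mpr (diag_inf_le_bT _ hx')
  dec := by
    rintro ⟨g, hg⟩
    rcases fixG_normal_form' m hK g (tG2_le_fixG m hK hg) with
      ⟨t, u, v, s, hs, rfl⟩ | ⟨t, u, v, s, t', u', v', hs, rfl⟩
    · left
      exact Subgroup.mem_subgroupOf.mpr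
        (Subgroup.mul_mem _ (reeU_mem_bT _ t u v) (hRee_mem_bT m hK s hs))
    · right
      have hb : (n1 m hK * hRee (3 ^ m) s * (n1 m hK)⁻¹) * (n1 m hK * n1 m hK) * reeU (3 ^ m) t' u' v' ∈
          bT K (3 ^ m) :=
        Subgroup.mul_mem _ (Subgroup.mul_mem _ (diag_inf_le_bT _ (n1_conj_hRee m hK s hs))
          (n1_sq_mem_bT m hK)) (reeU_mem_bT _ t' u' v')
      refine ⟨⟨reeU (3 ^ m) t u v, reeU_mem_tG2 _ t u v⟩, ?_, ⟨_, hb.2⟩, ?_, ?_⟩
      · exact Subgroup.mem_subgroupOf.mpr ⟨reeU_mem_pos _ t u v, reeU_mem_tG2 _ t u v⟩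
      · exact Subgroup.mem_subgroupOf.mpr hb
      · apply Subtype.ext
        show reeU (3 ^ m) t u v * (hRee (3 ^ m) s * n1 m hK) * reeU (3 ^ m) t' u' v' =
          reeU (3 ^ m) t u v * (n1 m hK)⁻¹ *
            ((n1 m hK * hRee (3 ^ m) s * (n1 m hK)⁻¹) * (n1 m hK * n1 m hK) * reeU (3 ^ m) t' u' v')
        group
  inter := by
    rintro ⟨b, hbT⟩ hb h
    have hb' : b ∈ bT K (3 ^ m) := Subgroup.mem_subgroupOf.mp hb
    have h' : n1 m hK * b * (n1 m hK)⁻¹ ∈ bT K (3 ^ m) := by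
      have := Subgroup.mem_subgroupOf.mp h
      simpa [nSub] using this
    exact Subgroup.mem_subgroupOf.mpr (n1_conj_bT_mem m hK b hb' h')
  conjH := by
    rintro ⟨h, hhT⟩ hh
    have hh' : h ∈ cdG2.D.diagonalSubgroup K ⊓ tG2 K (3 ^ m) := Subgroup.mem_subgroupOf.mp hh
    obtain ⟨s, hs, rfl⟩ := (mem_diag_inf_tG2 m hK h).mp hh'
    apply Subgroup.mem_subgroupOf.mpr
    have := diag_inf_le_bT _ (n1_conj_hRee m hK s hs)
    simpa [nSub] using this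
  normU := by
    rintro ⟨h, hhT⟩ hh ⟨u, huT⟩ hu
    have hh' : h ∈ cdG2.D.diagonalSubgroup K ⊓ tG2 K (3 ^ m) := Subgroup.mem_subgroupOf.mp hh
    have hu' : u ∈ cdG2.D.posUnipotent K ⊓ tG2 K (3 ^ m) := Subgroup.mem_subgroupOf.mp hu
    exact Subgroup.mem_subgroupOf.mpr ((bT_normalizes m h (diag_inf_le_bT _ hh') u).mp hu')
  ti := by
    rintro ⟨w, hwT⟩ hw h
    have hw' : w ∈ cdG2.D.posUnipotent K ⊓ tG2 K (3 ^ m) := Subgroup.mem_subgroupOf.mp hw
    obtain ⟨t, u, v, rfl⟩ := (mem_pos_inf_tG2 m hK w).mp hw'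
    have h' : n1 m hK * reeU (3 ^ m) t u v * (n1 m hK)⁻¹ ∈ bT K (3 ^ m) := by
      have := Subgroup.mem_subgroupOf.mp h
      simpa [nSub] using this
    exact Subtype.ext (n1_conj_reeU_mem m hK t u v h'.1)
  hn := by
    intro h
    have h' : (n1 m hK)⁻¹ ∈ bT K (3 ^ m) := by
      have := Subgroup.mem_subgroupOf.mp h
      simpa [nSub] using this
    apply n1_not_mem_bT m hK
    have := Subgroup.inv_mem _ h'.1
    simpa using this

/-- elements of the diagonal part commuting with a nontrivial unipotent element -/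
theorem comm_hRee_reeU (m : ℕ) (hK : Fintype.card K = 3 ^ (2 * m + 1)) (s : K) (hs : s ≠ 0) (t u v : K)
    (hne : reeU (3 ^ m) t u v ≠ 1)
    (hcomm : hRee (3 ^ m) s * reeU (3 ^ m) t u v * (hRee (3 ^ m) s)⁻¹ = reeU (3 ^ m) t u v) :
    s = 1 ∨ s = -1 := by
  obtain ⟨u', v', e, e2⟩ := conj_reeU m hK s hs t u v
  rw [hcomm] at e
  obtain ⟨k1, k2, k3⟩ := reeU_inj _ _ _ _ _ _ _ e
  by_cases ht : t = 0
  · obtain ⟨e3, e4⟩ := e2 ht
    rw [chi_11] at e4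
    by_cases hv : v = 0
    · have hu : u ≠ 0 := by
        rintro rfl
        apply hne
        rw [ht, hv]
        exact reeU_zero _ (three_pow_ne_zero m)
      have hsq : s ^ 2 = 1 := by
        apply chi10_eq_one m hK s hs
        have : chi (s ^ 3 ^ m) s 10 * u = 1 * u := by rw [one_mul, ← e3]; exact k2.symm
        exact mul_right_cancel₀ hu this
      rw [sq] at hsq
      exact mul_self_eq_one_iff.mp hsq
    · left
      have : s * v = 1 * v := by rw [one_mul, ← e4]; exact k3.symm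
      exact mul_right_cancel₀ hv this
  · left
    apply chi6_eq_one m hK s hs
    have : chi (s ^ 3 ^ m) s 6 * t = 1 * t := by rw [one_mul]; exact k1.symm
    exact mul_right_cancel₀ ht this

theorem neg_one_pow_three_pow (m : ℕ) : ((-1 : K)) ^ 3 ^ m = -1 := by
  have hodd : Odd (3 ^ m) := Odd.pow (by decide)
  exact hodd.neg_one_pow

/-- the involution of the diagonal part commutes with a unipotent element -/
theorem hRee_neg_one_comm (m : ℕ) (hK : Fintype.card K = 3 ^ (2 * m + 1)) :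
    hRee (3 ^ m) (-1 : K) * reeU (3 ^ m) 0 1 0 * (hRee (3 ^ m) (-1 : K))⁻¹ = reeU (3 ^ m) 0 1 0 := by
  have hs : (-1 : K) ≠ 0 := neg_ne_zero.mpr one_ne_zero
  obtain ⟨u', v', e, e2⟩ := conj_reeU m hK (-1 : K) hs 0 1 0
  obtain ⟨e3, e4⟩ := e2 rfl
  rw [e, mul_zero, e3, e4, mul_zero, mul_one, chi_10, neg_one_pow_three_pow]
  congr 1
  rw [inv_neg, inv_one]
  ring

theorem neg_one_ne_one : (-1 : K) ≠ 1 := by
  intro h
  have h2 : (2 : K) = 0 := by
    have : (1 : K) + 1 = 0 := by nth_rewrite 1 [← h]; ring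
    rw [← this]; norm_num
  have h3 : ((3 : ℕ) : K) = 0 := CharP.cast_eq_zero K 3
  have : (1 : K) = 0 := by
    have e : (1 : K) = ((3 : ℕ) : K) - 2 := by push_cast; ring
    rw [e, h3, h2, sub_zero]
  exact one_ne_zero this

theorem reeU_010_ne (m : ℕ) : reeU (3 ^ m) (0 : K) 1 0 ≠ 1 := by
  intro h
  rw [← reeU_zero (K := K) (3 ^ m) (three_pow_ne_zero m)] at h
  exact one_ne_zero (reeU_inj _ _ _ _ _ _ _ h).2.1

/-- the centralizer of a nontrivial unipotent element in the diagonal part has at most two elements -/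
theorem card_hSub_centralizer_le (m : ℕ) (hK : Fintype.card K = 3 ^ (2 * m + 1))
    (x : ↥(tG2 K (3 ^ m))) (hx : x ∈ uSub K (3 ^ m)) (hx1 : x ≠ 1) :
    Nat.card ↥(hSub K (3 ^ m) ⊓ Subgroup.centralizer {x}) ≤ 2 := by
  obtain ⟨w, hwT⟩ := x
  have hw' : w ∈ cdG2.D.posUnipotent K ⊓ tG2 K (3 ^ m) := Subgroup.mem_subgroupOf.mp hx
  obtain ⟨t, u, v, rfl⟩ := (mem_pos_inf_tG2 m hK w).mp hw'
  have hne : reeU (3 ^ m) t u v ≠ 1 := fun h => hx1 (Subtype.ext h)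
  have hm1 : (-1 : K) ≠ 0 := neg_ne_zero.mpr one_ne_zero
  have hsub : ((hSub K (3 ^ m) ⊓ Subgroup.centralizer {(⟨reeU (3 ^ m) t u v, hwT⟩ : ↥(tG2 K (3 ^ m)))} :
      Subgroup ↥(tG2 K (3 ^ m))) : Set ↥(tG2 K (3 ^ m))) ⊆
      {1, ⟨hRee (3 ^ m) (-1 : K), hRee_mem_tG2 m hK _ hm1⟩} := by
    rintro ⟨h, hhT⟩ ⟨hh, hc⟩
    have hh' : h ∈ cdG2.D.diagonalSubgroup K ⊓ tG2 K (3 ^ m) := Subgroup.mem_subgroupOf.mp hh
    obtain ⟨s, hs, rfl⟩ := (mem_diag_inf_tG2 m hK h).mp hh'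
    have hc' := Subgroup.mem_centralizer_iff.mp hc _ rfl
    have hc'' : reeU (3 ^ m) t u v * hRee (3 ^ m) s = hRee (3 ^ m) s * reeU (3 ^ m) t u v :=
      congrArg Subtype.val hc'
    have hcomm : hRee (3 ^ m) s * reeU (3 ^ m) t u v * (hRee (3 ^ m) s)⁻¹ = reeU (3 ^ m) t u v := by
      rw [← hc'']; group
    rcases comm_hRee_reeU m hK s hs t u v hne hcomm with rfl | rfl
    · left
      exact Subtype.ext (hRee_one _)
    · right
      rfl
  have e : Nat.card ↥(hSub K (3 ^ m) ⊓ Subgroup.centralizer {(⟨reeU (3 ^ m) t u v, hwT⟩ : ↥(tG2 K (3 ^ m)))}) =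
      Set.ncard ((hSub K (3 ^ m) ⊓ Subgroup.centralizer {(⟨reeU (3 ^ m) t u v, hwT⟩ : ↥(tG2 K (3 ^ m)))} :
      Subgroup ↥(tG2 K (3 ^ m))) : Set ↥(tG2 K (3 ^ m))) := (Nat.card_coe_set_eq _)
  rw [e]
  calc Set.ncard _ ≤ Set.ncard ({1, ⟨hRee (3 ^ m) (-1 : K), hRee_mem_tG2 m hK _ hm1⟩} : Set ↥(tG2 K (3 ^ m))) :=
        Set.ncard_le_ncard hsub (Set.toFinite _)
    _ ≤ 2 := by
        have := Set.ncard_insert_le (1 : ↥(tG2 K (3 ^ m)))
          {(⟨hRee (3 ^ m) (-1 : K), hRee_mem_tG2 m hK _ hm1⟩ : ↥(tG2 K (3 ^ m)))}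
        rw [Set.ncard_singleton] at this
        exact this

/-- the centralizer of a suitable unipotent element in the diagonal part has two elements -/
theorem card_hSub_centralizer_eq (m : ℕ) (hK : Fintype.card K = 3 ^ (2 * m + 1)) :
    Nat.card ↥(hSub K (3 ^ m) ⊓
      Subgroup.centralizer {(⟨reeU (3 ^ m) 0 1 0, reeU_mem_tG2 _ _ _ _⟩ : ↥(tG2 K (3 ^ m)))}) = 2 := by
  apply le_antisymm
  · apply card_hSub_centralizer_le m hK
    · exact Subgroup.mem_subgroupOf.mpr ⟨reeU_mem_pos _ _ _ _, reeU_mem_tG2 _ _ _ _⟩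
    · intro h
      exact reeU_010_ne m (congrArg Subtype.val h)
  · have hm1 : (-1 : K) ≠ 0 := neg_ne_zero.mpr one_ne_zero
    have hmem : (⟨hRee (3 ^ m) (-1 : K), hRee_mem_tG2 m hK _ hm1⟩ : ↥(tG2 K (3 ^ m))) ∈
        hSub K (3 ^ m) ⊓
          Subgroup.centralizer {(⟨reeU (3 ^ m) 0 1 0, reeU_mem_tG2 _ _ _ _⟩ : ↥(tG2 K (3 ^ m)))} := by
      refine ⟨Subgroup.mem_subgroupOf.mpr ((mem_diag_inf_tG2 m hK _).mpr ⟨_, hm1, rfl⟩), ?_⟩
      apply Subgroup.mem_centralizer_iff.mpr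
      intro y hy
      rw [Set.mem_singleton_iff] at hy
      subst hy
      apply Subtype.ext
      show reeU (3 ^ m) (0 : K) 1 0 * hRee (3 ^ m) (-1 : K) = hRee (3 ^ m) (-1 : K) * reeU (3 ^ m) 0 1 0
      have := hRee_neg_one_comm (K := K) m hK
      have h2 := congrArg (fun z => z * hRee (3 ^ m) (-1 : K)) this
      simpa [mul_assoc] using h2.symm
    have hne : hSub K (3 ^ m) ⊓
        Subgroup.centralizer {(⟨reeU (3 ^ m) 0 1 0, reeU_mem_tG2 _ _ _ _⟩ : ↥(tG2 K (3 ^ m)))} ≠ ⊥ := by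
      intro h
      rw [h, Subgroup.mem_bot] at hmem
      have h3 : hRee (3 ^ m) (-1 : K) = 1 := congrArg Subtype.val hmem
      rw [← hRee_one (K := K) (3 ^ m)] at h3
      exact neg_one_ne_one (hRee_inj _ _ _ hm1 one_ne_zero h3)
    exact (Subgroup.one_lt_card_iff_ne_bot _).mpr hne

/-- the stabilizers of three points -/
theorem ree_stab3 (m : ℕ) (hK : Fintype.card K = 3 ^ (2 * m + 1)) :
    (∀ x y z : ↥(tG2 K (3 ^ m)) ⧸ bSub K (3 ^ m), x ≠ y → x ≠ z → y ≠ z →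
        Nat.card ↥(stab3 (bSub K (3 ^ m)) x y z) ≤ 2) ∧
      ∃ x y z : ↥(tG2 K (3 ^ m)) ⧸ bSub K (3 ^ m), x ≠ y ∧ x ≠ z ∧ y ≠ z ∧
        Nat.card ↥(stab3 (bSub K (3 ^ m)) x y z) = 2 := by
  have D := ree_dec3 (K := K) m hK
  constructor
  · intro x y z hxy hxz hyz
    obtain ⟨u, hu, hu1, e⟩ := D.exists_std x y z hxy hxz hyz
    rw [e]
    exact card_hSub_centralizer_le m hK u hu hu1
  · have hu : (⟨reeU (3 ^ m) 0 1 0, reeU_mem_tG2 _ _ _ _⟩ : ↥(tG2 K (3 ^ m))) ∈ uSub K (3 ^ m) :=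
      Subgroup.mem_subgroupOf.mpr ⟨reeU_mem_pos _ _ _ _, reeU_mem_tG2 _ _ _ _⟩
    have hu1 : (⟨reeU (3 ^ m) 0 1 0, reeU_mem_tG2 _ _ _ _⟩ : ↥(tG2 K (3 ^ m))) ≠ 1 := fun h =>
      reeU_010_ne m (congrArg Subtype.val h)
    obtain ⟨d1, d2, d3⟩ := D.std_distinct _ hu hu1
    refine ⟨_, _, _, d1, d2, d3, ?_⟩
    rw [D.stab3_std _ hu]
    exact card_hSub_centralizer_eq m hK

end

end Cfsg.Agent.Lib.Helper3.Ree
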