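import Mathlib
import Cfsg.Prelude.Def_ChevStructure
import Cfsg.Prelude.Def_ChevG2
import Cfsg.Prelude.Def_LieTwisted
import Cfsg.Agent.Lib.Helper3.Ree16
set_option autoImplicit false
set_option linter.unusedSectionVars false
set_option linter.style.haveILetI false
open Cfsg Cfsg.Lie

/-!
An additive function on the maximal unipotent subgroup of `G₂` reading off the coordinate at the
long simple root, and the multiplication of the distinguished elements.
-/

namespace Cfsg.Agent.Lib.Helper3.Ree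

open Cfsg.Agent.Lib.Helper3.ChevM Cfsg.Agent.Lib.Helper3.ChevSp Cfsg.Agent.Lib.Helper3.ChevAt
open Cfsg.Agent.Lib.Helper3 ChevU ChevT DoubleCoset

/-- the row of the distinguishing entry -/
def iR : cdG2.D.Idx := Sum.inr ⟨1, by decide⟩

/-- the column of the distinguishing entry -/
def iC : cdG2.D.Idx := Sum.inr ⟨0, by decide⟩

section
variable {K : Type*} [Field K]

/-- the entry reading off the coordinate at the long simple root -/
def eps (g : GL cdG2.D.Idx K) : K := (g : Matrix cdG2.D.Idx cdG2.D.Idx K) iR iC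

theorem pos_le_utH : cdG2.D.posUnipotent K ≤ utSubgroup (hfIdx cdG2.D hfG2) K 0 := by
  unfold ChevalleyDatum.posUnipotent
  rw [Subgroup.closure_le]
  rintro g ⟨r, t, hr, hg⟩
  have e : g = relG2.xU r t := Units.ext (by rw [hg, relG2.xU_val])
  rw [e]
  exact utSubgroup_anti _ (Nat.zero_le _) (relG2.xU_mem_ut hfG2 frG2 r hr (g2Ulev r hr.1) t)

theorem eps_mul (g g' : GL cdG2.D.Idx K) (hg : g ∈ cdG2.D.posUnipotent K) (hg' : g' ∈ cdG2.D.posUnipotent K) :
    eps (g * g') = eps g + eps g' := by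
  have hA : Shift (hfIdx cdG2.D hfG2) (0 + 1) ((g : Matrix cdG2.D.Idx cdG2.D.Idx K) - 1) := pos_le_utH hg
  have hB : Shift (hfIdx cdG2.D hfG2) (0 + 1) ((g' : Matrix cdG2.D.Idx cdG2.D.Idx K) - 1) := pos_le_utH hg'
  have hAB := hA.mul hB
  have hne : iR ≠ iC := by decide
  have e : ((g * g' : GL cdG2.D.Idx K) : Matrix cdG2.D.Idx cdG2.D.Idx K) =
      ((g : Matrix cdG2.D.Idx cdG2.D.Idx K) - 1) * ((g' : Matrix cdG2.D.Idx cdG2.D.Idx K) - 1) +
        (g : Matrix cdG2.D.Idx cdG2.D.Idx K) + (g' : Matrix cdG2.D.Idx cdG2.D.Idx K) - 1 := by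
    rw [Units.val_mul]; noncomm_ring
  unfold eps
  rw [e, Matrix.sub_apply, Matrix.add_apply, Matrix.add_apply, hAB iR iC (by decide), Matrix.one_apply_ne hne]
  ring

theorem eps_one : eps (1 : GL cdG2.D.Idx K) = 0 := by
  unfold eps
  rw [Units.val_one, Matrix.one_apply_ne]
  decide

theorem eps_inv (g : GL cdG2.D.Idx K) (hg : g ∈ cdG2.D.posUnipotent K) : eps g⁻¹ = -eps g := by
  have := eps_mul g g⁻¹ hg (Subgroup.inv_mem _ hg)
  rw [mul_inv_cancel, eps_one] at this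
  exact eq_neg_of_add_eq_zero_right this.symm

/-- elements in the deeper part of the filtration have vanishing entry -/
theorem eps_of_mem_ut (g : GL cdG2.D.Idx K) (hg : g ∈ utSubgroup (hfIdx cdG2.D hfG2) K 7) : eps g = 0 := by
  have h : Shift (hfIdx cdG2.D hfG2) (7 + 1) ((g : Matrix cdG2.D.Idx cdG2.D.Idx K) - 1) := hg
  have := h iR iC (by decide)
  rw [Matrix.sub_apply, Matrix.one_apply_ne (by decide), sub_zero] at this
  exact this

theorem xU_mem_ut7 (r : ℕ) (hr : r ∈ [7, 8, 9, 10, 11]) (t : K) :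
    relG2.xU r t ∈ utSubgroup (hfIdx cdG2.D hfG2) K 7 := by
  have hpos : cdG2.D.IsPosRoot r := by
    simp only [List.mem_cons, List.not_mem_nil, or_false] at hr
    rcases hr with rfl | rfl | rfl | rfl | rfl <;> decide
  have hfr : 7 ≤ frG2 r - 1 := by
    simp only [List.mem_cons, List.not_mem_nil, or_false] at hr
    rcases hr with rfl | rfl | rfl | rfl | rfl <;> decide
  exact utSubgroup_anti _ hfr (relG2.xU_mem_ut hfG2 frG2 r hpos (g2Ulev r hpos.1) t)

/-- the sign of the distinguishing entry -/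
def kap : ℤ := ((cdG2.cols 6 2).filter fun e => e.row = 3).headD ⟨0, 1, 1⟩ |>.coef

theorem kap_cases : kap = 1 ∨ kap = -1 := by decide

theorem eps_x6 (t : K) : eps (relG2.xU 6 t) = (kap : K) * t := by
  unfold eps
  rw [relG2.xU_val]
  unfold ChevalleyDatum.x
  rw [dif_pos (by decide : 6 < cdG2.D.nroots), xMat_entry, if_neg (by decide), zero_add]
  have hc1 : code cdG2.D iC = 2 := rfl
  have hc2 : code cdG2.D iR = 3 := rfl
  rw [hc1, hc2, ← cdG2.ok 6 (by decide) 2 (by decide)]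
  unfold colSum
  have hl : ((cdG2.cols 6 2).filter fun e => e.row = 3) = [⟨3, kap, 1⟩] := by decide
  rw [hl]
  simp

end

section
variable {K : Type*} [Field K] [CharP K 3]

theorem eps_reeU (θ : ℕ) (t u v : K) : eps (reeU θ t u v) = (kap : K) * t := by
  rw [reeU_coe, mul_assoc]
  have hrest : relG2.xU 7 (t ^ θ) * (relG2.xU 8 (u ^ θ) * relG2.xU 9 (v ^ θ) *
      relG2.xU 10 (u + t * (t ^ θ) ^ 3) * relG2.xU 11 (v + t ^ 2 * (t ^ θ) ^ 3)) ∈
      utSubgroup (hfIdx cdG2.D hfG2) K 7 :=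
    Subgroup.mul_mem _ (xU_mem_ut7 7 (by decide) _) (Subgroup.mul_mem _ (Subgroup.mul_mem _ (Subgroup.mul_mem _
      (xU_mem_ut7 8 (by decide) _) (xU_mem_ut7 9 (by decide) _)) (xU_mem_ut7 10 (by decide) _))
      (xU_mem_ut7 11 (by decide) _))
  have hpos : ∀ (r : ℕ) (hr : cdG2.D.IsPosRoot r) (c : K), relG2.xU r c ∈ cdG2.D.posUnipotent K :=
    fun r hr c => Subgroup.subset_closure ⟨r, c, hr, relG2.xU_val r c⟩
  have hrestU : relG2.xU 7 (t ^ θ) * (relG2.xU 8 (u ^ θ) * relG2.xU 9 (v ^ θ) *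
      relG2.xU 10 (u + t * (t ^ θ) ^ 3) * relG2.xU 11 (v + t ^ 2 * (t ^ θ) ^ 3)) ∈ cdG2.D.posUnipotent K :=
    Subgroup.mul_mem _ (hpos 7 (by decide) _) (Subgroup.mul_mem _ (Subgroup.mul_mem _ (Subgroup.mul_mem _
      (hpos 8 (by decide) _) (hpos 9 (by decide) _)) (hpos 10 (by decide) _)) (hpos 11 (by decide) _))
  rw [eps_mul _ _ (hpos 6 (by decide) _) hrestU, eps_x6, eps_of_mem_ut _ hrest, add_zero]

theorem kap_ne_zero : (kap : K) ≠ 0 := by
  rcases kap_cases with h | h <;> rw [h] <;> simp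

/-- the first coordinate is additive -/
theorem reeU_mul_first (θ : ℕ) (t u v t' u' v' t'' u'' v'' : K)
    (e : reeU θ t u v * reeU θ t' u' v' = reeU θ t'' u'' v'') : t'' = t + t' := by
  have h := congrArg eps e
  rw [eps_mul _ _ (reeU_mem_pos _ _ _ _) (reeU_mem_pos _ _ _ _), eps_reeU, eps_reeU, eps_reeU, ← mul_add] at h
  exact (mul_left_cancel₀ kap_ne_zero h).symm

/-- the elements with vanishing first coordinate -/
theorem zU_eq (θ : ℕ) (hθ : θ ≠ 0) (u v : K) :
    reeU θ 0 u v = (((reeSysPos K).hi (u ^ θ) (v ^ θ) u v : ↥(cdG2.D.group K)) : GL cdG2.D.Idx K) := by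
  unfold reeU
  rw [(reeSysPos K).ree_eq]
  have h0 : (0 : K) ^ θ = 0 := zero_pow hθ
  have h1 : (0 : K) ^ (θ + 1) = 0 := zero_pow (by omega)
  have h2 : (0 : K) ^ (2 * θ + 1) = 0 := zero_pow (by omega)
  rw [h0, h1, h2, add_zero_one (reeSysPos K).xa_add, add_zero_one (reeSysPos K).xb_add]
  simp

theorem reeU_split (θ : ℕ) (hθ : θ ≠ 0) (t u v : K) : reeU θ t u v = reeU θ t 0 0 * reeU θ 0 u v := by
  rw [zU_eq θ hθ]
  unfold reeU
  rw [(reeSysPos K).ree_eq, (reeSysPos K).ree_eq, ← Subgroup.coe_mul]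
  congr 1
  rw [mul_assoc _ _ ((reeSysPos K).hi (u ^ θ) (v ^ θ) u v), (reeSysPos K).hi_mul]
  have h0 : (0 : K) ^ θ = 0 := zero_pow hθ
  simp [h0]

end

end Cfsg.Agent.Lib.Helper3.Ree
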