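import Mathlib
import Cfsg.Prelude.Def_ChevStructure
import Cfsg.Prelude.Def_ChevG2
import Cfsg.Prelude.Def_LieTwisted
import Cfsg.Agent.Lib.Helper3.Ree17
set_option autoImplicit false
set_option linter.unusedSectionVars false
set_option linter.style.haveILetI false
open Cfsg Cfsg.Lie

/-!
The twisted group of type `G₂` over a field with more than three elements is perfect.
-/

namespace Cfsg.Agent.Lib.Helper3.Ree

open Cfsg.Agent.Lib.Helper3.ChevM Cfsg.Agent.Lib.Helper3.ChevSp Cfsg.Agent.Lib.Helper3.ChevAt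
open Cfsg.Agent.Lib.Helper3 ChevU ChevT DoubleCoset

section
variable {K : Type*} [Field K]

/-- the derived subgroup of the twisted group as a subgroup of the general linear group -/
def dT (K : Type*) [Field K] (θ : ℕ) : Subgroup (GL cdG2.D.Idx K) :=
  (commutator ↥(tG2 K θ)).map (tG2 K θ).subtype

theorem comm_mem_dT (θ : ℕ) (x y : GL cdG2.D.Idx K) (hx : x ∈ tG2 K θ) (hy : y ∈ tG2 K θ) :
    x * y * x⁻¹ * y⁻¹ ∈ dT K θ := by
  have h := Subgroup.commutator_mem_commutator (H₁ := (⊤ : Subgroup ↥(tG2 K θ))) (H₂ := ⊤)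
    (Subgroup.mem_top (⟨x, hx⟩ : ↥(tG2 K θ))) (Subgroup.mem_top (⟨y, hy⟩ : ↥(tG2 K θ)))
  rw [commutatorElement_def] at h
  exact ⟨_, h, rfl⟩

theorem conj_mem_dT (θ : ℕ) (g d : GL cdG2.D.Idx K) (hg : g ∈ tG2 K θ) (hd : d ∈ dT K θ) :
    g * d * g⁻¹ ∈ dT K θ := by
  obtain ⟨z, hz, rfl⟩ := hd
  have hn : (commutator ↥(tG2 K θ)).Normal := by
    rw [commutator_def]; infer_instance
  exact ⟨(⟨g, hg⟩ : ↥(tG2 K θ)) * z * (⟨g, hg⟩ : ↥(tG2 K θ))⁻¹, hn.conj_mem z hz _, rfl⟩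

theorem dT_le (θ : ℕ) : dT K θ ≤ tG2 K θ := by
  rintro _ ⟨z, -, rfl⟩
  exact z.2

end

section
variable {K : Type*} [Field K] [CharP K 3]

theorem zU_mul (m : ℕ) (u v u' v' : K) :
    reeU (3 ^ m) 0 u v * reeU (3 ^ m) 0 u' v' = reeU (3 ^ m) (0 : K) (u + u') (v + v') := by
  have hθ := three_pow_ne_zero m
  rw [zU_eq _ hθ, zU_eq _ hθ, zU_eq _ hθ, ← Subgroup.coe_mul, (reeSysPos K).hi_mul, add_pow_three_pow,
    add_pow_three_pow]

theorem zU_inv (m : ℕ) (u v : K) : (reeU (3 ^ m) (0 : K) u v)⁻¹ = reeU (3 ^ m) (0 : K) (-u) (-v) := by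
  apply inv_eq_of_mul_eq_one_right
  rw [zU_mul, add_neg_cancel, add_neg_cancel]
  exact reeU_zero _ (three_pow_ne_zero m)

theorem three_mul_eq_zero (x : K) : x + x + x = 0 := by
  have h3 : (3 : K) = 0 := by
    have := CharP.cast_eq_zero K 3
    exact_mod_cast this
  have : x + x + x = 3 * x := by ring
  rw [this, h3, zero_mul]

end

section
variable {K : Type*} [Field K] [Fintype K] [CharP K 3]

theorem neg_one_pow_theta (m : ℕ) : (-1 : K) ^ 3 ^ m = -1 := Odd.neg_one_pow (Odd.pow (by decide))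

/-- step A: the elements with only the last coordinate -/
theorem zU_v_mem (m : ℕ) (hK : Fintype.card K = 3 ^ (2 * m + 1)) (v : K) :
    reeU (3 ^ m) (0 : K) 0 v ∈ dT K (3 ^ m) := by
  have hne : (-1 : K) ≠ 0 := neg_ne_zero.mpr one_ne_zero
  obtain ⟨u', v', e, e2⟩ := conj_reeU m hK (-1) hne 0 0 v
  obtain ⟨e3, e4⟩ := e2 rfl
  rw [mul_zero] at e e3
  rw [neg_one_pow_theta, chi_11] at e4
  rw [e3, e4] at e
  have hc := comm_mem_dT (3 ^ m) _ _ (hRee_mem_tG2 m hK (-1) hne) (reeU_mem_tG2 (3 ^ m) (0 : K) 0 v)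
  rw [e, zU_inv, zU_mul] at hc
  have : -1 * v + -v = v := by
    have := three_mul_eq_zero v
    linear_combination (-1 : K) * this
  rw [this, add_neg_cancel] at hc
  exact hc

/-- an element of the field not fixed by the relevant power map -/
theorem exists_not_fixed (m : ℕ) (hm : 1 ≤ m) (hK : Fintype.card K = 3 ^ (2 * m + 1)) :
    ∃ s : K, s ^ 3 ^ (m + 1) ≠ s := by
  classical
  by_contra hall
  push Not at hall
  have h1 : 1 < 3 ^ (m + 1) := Nat.one_lt_pow (by omega) (by norm_num)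
  have hne := FiniteField.X_pow_card_sub_X_ne_zero K h1
  have hdeg := FiniteField.X_pow_card_sub_X_natDegree_eq K h1
  have hsub : (Finset.univ : Finset K).val ⊆ (Polynomial.X ^ 3 ^ (m + 1) - Polynomial.X : Polynomial K).roots := by
    intro x _
    rw [Polynomial.mem_roots hne, Polynomial.IsRoot, Polynomial.eval_sub, Polynomial.eval_pow,
      Polynomial.eval_X, hall x, sub_self]
  have := Polynomial.card_le_degree_of_subset_roots hsub
  rw [hdeg, Finset.card_univ, hK] at this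
  have h2 : 3 ^ (m + 1) < 3 ^ (2 * m + 1) := Nat.pow_lt_pow_right (by norm_num) (by omega)
  omega

/-- step B: the elements with vanishing first coordinate -/
theorem zU_mem (m : ℕ) (hm : 1 ≤ m) (hK : Fintype.card K = 3 ^ (2 * m + 1)) (u v : K) :
    reeU (3 ^ m) (0 : K) u v ∈ dT K (3 ^ m) := by
  obtain ⟨s, hs⟩ := exists_not_fixed (K := K) m hm hK
  have hs0 : s ≠ 0 := by
    rintro rfl
    apply hs
    rw [zero_pow (three_pow_ne_zero _)]
  have hchi : chi (s ^ 3 ^ m) s 10 - 1 ≠ 0 := by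
    rw [chi_10, sub_ne_zero]
    intro h
    apply hs
    have h2 : (s ^ 3 ^ m) ^ 3 = s := by
      have := congrArg (fun x => x * s) h
      simpa [mul_assoc, inv_mul_cancel₀ hs0] using this
    rw [pow_succ, pow_mul]
    exact h2
  have key : ∀ u : K, reeU (3 ^ m) (0 : K) u 0 ∈ dT K (3 ^ m) := by
    intro u₀
    set u := u₀ / (chi (s ^ 3 ^ m) s 10 - 1) with hu
    obtain ⟨u', v', e, e2⟩ := conj_reeU m hK s hs0 0 u 0
    obtain ⟨e3, e4⟩ := e2 rfl
    rw [mul_zero] at e e4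
    rw [e3, e4] at e
    have hc := comm_mem_dT (3 ^ m) _ _ (hRee_mem_tG2 m hK s hs0) (reeU_mem_tG2 (3 ^ m) (0 : K) u 0)
    rw [e, zU_inv, zU_mul] at hc
    have : chi (s ^ 3 ^ m) s 10 * u + -u = u₀ := by
      rw [hu]
      field_simp
      ring
    rw [this, neg_zero, add_zero] at hc
    exact hc
  have : reeU (3 ^ m) (0 : K) u v = reeU (3 ^ m) (0 : K) u 0 * reeU (3 ^ m) (0 : K) 0 v := by
    rw [zU_mul, add_zero, zero_add]
  rw [this]
  exact Subgroup.mul_mem _ (key u) (zU_v_mem m hK v)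

/-- step C: all the distinguished elements -/
theorem reeU_mem_dT (m : ℕ) (hm : 1 ≤ m) (hK : Fintype.card K = 3 ^ (2 * m + 1)) (t u v : K) :
    reeU (3 ^ m) t u v ∈ dT K (3 ^ m) := by
  have hθ := three_pow_ne_zero m
  rw [reeU_split _ hθ]
  refine Subgroup.mul_mem _ ?_ (zU_mem m hm hK u v)
  have hne : (-1 : K) ≠ 0 := neg_ne_zero.mpr one_ne_zero
  obtain ⟨u', v', e, -⟩ := conj_reeU m hK (-1) hne t 0 0
  have hchi : chi ((-1 : K) ^ 3 ^ m) (-1) 6 = -1 := by
    rw [neg_one_pow_theta, chi_6]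
    norm_num
  rw [hchi] at e
  have hc := comm_mem_dT (3 ^ m) _ _ (hRee_mem_tG2 m hK (-1) hne) (reeU_mem_tG2 (3 ^ m) t 0 0)
  rw [e] at hc
  -- the commutator is a distinguished element with first coordinate `t`
  have hcU : reeU (3 ^ m) (-1 * t) u' v' * (reeU (3 ^ m) t 0 0)⁻¹ ∈ cdG2.D.posUnipotent K :=
    Subgroup.mul_mem _ (reeU_mem_pos _ _ _ _) (Subgroup.inv_mem _ (reeU_mem_pos _ _ _ _))
  have hcF : reeU (3 ^ m) (-1 * t) u' v' * (reeU (3 ^ m) t 0 0)⁻¹ ∈ fixG K m :=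
    Subgroup.mul_mem _ (reeU_mem_fixG m hK _ _ _) (Subgroup.inv_mem _ (reeU_mem_fixG m hK _ _ _))
  obtain ⟨a, b, c, e2⟩ := fixed_posUnipotent m hK _ hcU hcF.2
  have e3 : reeU (3 ^ m) a b c * reeU (3 ^ m) t 0 0 = reeU (3 ^ m) (-1 * t) u' v' := by
    rw [← e2]; group
  have ha : a = t := by
    have h1 := reeU_mul_first _ _ _ _ _ _ _ _ _ _ e3
    have := three_mul_eq_zero t
    linear_combination (-1 : K) * h1 - this
  rw [e2, ha, reeU_split _ hθ t b c] at hc
  have := Subgroup.mul_mem _ hc (Subgroup.inv_mem _ (zU_mem m hm hK b c))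
  simpa [mul_assoc] using this

end

end Cfsg.Agent.Lib.Helper3.Ree
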