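import Mathlib
import Cfsg.Prelude.Def_ChevStructure
import Cfsg.Prelude.Def_ChevG2
import Cfsg.Prelude.Def_LieTwisted
import Cfsg.Agent.Lib.Helper3.Ree18
set_option autoImplicit false
set_option linter.unusedSectionVars false
set_option linter.style.haveILetI false
open Cfsg Cfsg.Lie

/-!
The cubes of the elements of the unipotent part of the twisted group of type `G₂`, and the
number of its elements of order three.
-/

namespace Cfsg.Agent.Lib.Helper3.Ree

open Cfsg.Agent.Lib.Helper3.ChevM Cfsg.Agent.Lib.Helper3.ChevSp Cfsg.Agent.Lib.Helper3.ChevAt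
open Cfsg.Agent.Lib.Helper3 ChevU ChevT DoubleCoset

/-- the height function on the codes of the coordinates -/
def hfH (c : ℕ) : ℕ := (#[5, 5, 0, 1, 2, 3, 4, 4, 6, 6, 7, 8, 9, 10] : Array ℕ).getD c 0

/-- the heights of the roots -/
def frH (r : ℕ) : ℕ := (#[0, 0, 0, 0, 0, 0, 1, 1, 2, 3, 4, 5] : Array ℕ).getD r 0

theorem levH : ∀ r < 12, levelCheck cdG2 hfH frH r = true := by decide +kernel

section
variable {K : Type*} [Field K]

theorem xU_mem_utH (r : ℕ) (hr : cdG2.D.IsPosRoot r) (t : K) :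
    relG2.xU r t ∈ utSubgroup (hfIdx cdG2.D hfH) K (frH r - 1) :=
  relG2.xU_mem_ut hfH frH r hr (levH r hr.1) t

theorem pos_le_utH' : cdG2.D.posUnipotent K ≤ utSubgroup (hfIdx cdG2.D hfH) K 0 := by
  unfold ChevalleyDatum.posUnipotent
  rw [Subgroup.closure_le]
  rintro g ⟨r, t, hr, hg⟩
  have e : g = relG2.xU r t := Units.ext (by rw [hg, relG2.xU_val])
  rw [e]
  exact utSubgroup_anti _ (Nat.zero_le _) (xU_mem_utH r hr t)

theorem xU_mem_utH1 (r : ℕ) (hr : r ∈ [8, 9, 10, 11]) (t : K) :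
    relG2.xU r t ∈ utSubgroup (hfIdx cdG2.D hfH) K 1 := by
  have hpos : cdG2.D.IsPosRoot r := by
    simp only [List.mem_cons, List.not_mem_nil, or_false] at hr
    rcases hr with rfl | rfl | rfl | rfl <;> decide
  have hfr : 1 ≤ frH r - 1 := by
    simp only [List.mem_cons, List.not_mem_nil, or_false] at hr
    rcases hr with rfl | rfl | rfl | rfl <;> decide
  exact utSubgroup_anti _ hfr (xU_mem_utH r hpos t)

instance nonemptyIdxG2 : Nonempty cdG2.D.Idx := ⟨Sum.inr ⟨0, by decide⟩⟩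

/-- the cube of a matrix in characteristic three -/
theorem mat_cube [CharP K 3] (A : Matrix cdG2.D.Idx cdG2.D.Idx K) : A ^ 3 = 1 + (A - 1) ^ 3 := by
  haveI : Fact (Nat.Prime 3) := ⟨by norm_num⟩
  have h := sub_pow_char_of_commute (p := 3) (Commute.one_right A)
  rw [one_pow] at h
  rw [h]
  abel

/-- the cube of a product of a unitriangular matrix with a deeper one -/
theorem cube_entry [CharP K 3] {ι : Type*} [Fintype ι] [DecidableEq ι] (pos : ι → ℕ)
    (Y W : Matrix ι ι K) (hY : Shift pos 1 (Y - 1)) (hW : Shift pos 2 (W - 1)) :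
    Shift pos 4 ((Y * W - 1) ^ 3 - (Y - 1) ^ 3) := by
  have hY0 : Shift pos 0 Y := by
    have := (hY.mono (Nat.zero_le 1)).add (shift_zero_one (pos := pos) (R := K))
    simpa using this
  have hM : Shift pos 2 (Y * (W - 1)) := by
    have := hY0.mul hW
    simpa using this
  have hNM : Shift pos 1 ((Y - 1) + Y * (W - 1)) := hY.add (hM.mono (by omega))
  have e : (Y * W - 1) ^ 3 - (Y - 1) ^ 3 =
      ((Y - 1) * (Y * (W - 1)) + (Y * (W - 1)) * ((Y - 1) + Y * (W - 1))) * ((Y - 1) + Y * (W - 1)) +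
        (Y - 1) * (Y - 1) * (Y * (W - 1)) := by
    noncomm_ring
  rw [e]
  have h1 : Shift pos 3 ((Y - 1) * (Y * (W - 1)) + (Y * (W - 1)) * ((Y - 1) + Y * (W - 1))) := by
    have a1 := hY.mul hM
    have a2 := hM.mul hNM
    exact a1.add a2
  have h2 := h1.mul hNM
  have h3 := (hY.mul hY).mul hM
  exact h2.add h3

end

section
variable {K : Type*} [Field K] [CharP K 3]

/-- the row of the entry used to detect the cube -/
def iCubeR : cdG2.D.Idx := Sum.inr ⟨9, by decide⟩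

/-- the column of the entry used to detect the cube -/
def iCubeC : cdG2.D.Idx := Sum.inl ⟨0, by decide⟩

/-- an entry of the cube of a distinguished element -/
theorem entry_cube (t T : K) (ht : t ≠ 0) (hT : T ≠ 0) :
    (((relG2.xU 6 t * relG2.xU 7 T * relG2.xU 10 (t * T ^ 3) * relG2.xU 11 (t ^ 2 * T ^ 3)) ^ 3 :
      GL cdG2.D.Idx K) : Matrix cdG2.D.Idx cdG2.D.Idx K) iCubeR iCubeC = t * T ^ 2 := by
  have := word_entry_of_check t T ht hT
    [(6, 1, 1, 0), (7, 1, 0, 1), (10, 1, 1, 3), (11, 1, 2, 3),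
     (6, 1, 1, 0), (7, 1, 0, 1), (10, 1, 1, 3), (11, 1, 2, 3),
     (6, 1, 1, 0), (7, 1, 0, 1), (10, 1, 1, 3), (11, 1, 2, 3)] (by decide)
    iCubeR iCubeC [⟨11, 1, 1, 2⟩] (by decide +kernel)
  simp only [List.map_cons, List.map_nil, List.prod_cons, List.prod_nil, mul_one] at this
  have e : mvAt t T [⟨11, 1, 1, 2⟩] (code cdG2.D iCubeR) = t * T ^ 2 := by
    have hc : code cdG2.D iCubeR = 11 := rfl
    rw [hc, mvAt_cons, mvAt_nil]
    simp only [tEval, if_true, add_zero, Int.cast_one, one_mul]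
    norm_cast
    rw [pow_one]
  rw [e] at this
  rw [← this, pow_succ, pow_succ, pow_one]
  simp [mul_assoc]

end

section
variable {K : Type*} [Field K] [CharP K 3]

theorem reeU_t00 (θ : ℕ) (hθ : θ ≠ 0) (t : K) :
    reeU θ t 0 0 = relG2.xU 6 t * relG2.xU 7 (t ^ θ) * relG2.xU 10 (t * (t ^ θ) ^ 3) *
      relG2.xU 11 (t ^ 2 * (t ^ θ) ^ 3) := by
  rw [reeU_coe, zero_pow hθ, xU_zero, xU_zero, zero_add, zero_add]
  simp [mul_assoc]

theorem reeU_0uv_mem (θ : ℕ) (hθ : θ ≠ 0) (u v : K) :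
    reeU θ 0 u v ∈ utSubgroup (hfIdx cdG2.D hfH) K 1 := by
  rw [reeU_coe, zero_pow hθ, xU_zero, xU_zero, one_mul, one_mul]
  exact Subgroup.mul_mem _ (Subgroup.mul_mem _ (Subgroup.mul_mem _ (xU_mem_utH1 8 (by decide) _)
    (xU_mem_utH1 9 (by decide) _)) (xU_mem_utH1 10 (by decide) _)) (xU_mem_utH1 11 (by decide) _)

/-- the elements with nonzero first coordinate do not have order three -/
theorem reeU_cube_ne (θ : ℕ) (hθ : θ ≠ 0) (t u v : K) (ht : t ≠ 0) : reeU θ t u v ^ 3 ≠ 1 := by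
  intro h
  have hY : Shift (hfIdx cdG2.D hfH) 1 ((reeU θ t 0 0 : GL cdG2.D.Idx K) - 1 : Matrix cdG2.D.Idx cdG2.D.Idx K) :=
    pos_le_utH' (reeU_mem_pos θ t 0 0)
  have hW : Shift (hfIdx cdG2.D hfH) 2 ((reeU θ 0 u v : GL cdG2.D.Idx K) - 1 : Matrix cdG2.D.Idx cdG2.D.Idx K) :=
    reeU_0uv_mem θ hθ u v
  have hsh := cube_entry (hfIdx cdG2.D hfH) _ _ hY hW
  have hent := hsh iCubeR iCubeC (by decide)
  rw [Matrix.sub_apply, sub_eq_zero] at hent
  -- the two cubes
  have e1 : ((reeU θ t 0 0 : GL cdG2.D.Idx K) * (reeU θ 0 u v : GL cdG2.D.Idx K) - 1 :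
      Matrix cdG2.D.Idx cdG2.D.Idx K) ^ 3 =
      ((reeU θ t u v ^ 3 : GL cdG2.D.Idx K) : Matrix cdG2.D.Idx cdG2.D.Idx K) - 1 := by
    rw [Units.val_pow_eq_pow_val, mat_cube (reeU θ t u v : Matrix cdG2.D.Idx cdG2.D.Idx K), reeU_split θ hθ t u v,
      Units.val_mul]
    abel
  have e2 : ((reeU θ t 0 0 : GL cdG2.D.Idx K) - 1 : Matrix cdG2.D.Idx cdG2.D.Idx K) ^ 3 =
      ((reeU θ t 0 0 ^ 3 : GL cdG2.D.Idx K) : Matrix cdG2.D.Idx cdG2.D.Idx K) - 1 := by
    rw [Units.val_pow_eq_pow_val, mat_cube (reeU θ t 0 0 : Matrix cdG2.D.Idx cdG2.D.Idx K)]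
    abel
  rw [e1, e2, h, Units.val_one, sub_self, Matrix.zero_apply, Matrix.sub_apply, reeU_t00 θ hθ,
    entry_cube t (t ^ θ) ht (pow_ne_zero _ ht), Matrix.one_apply_ne (by decide)] at hent
  have : t * (t ^ θ) ^ 2 ≠ 0 := mul_ne_zero ht (pow_ne_zero _ (pow_ne_zero _ ht))
  apply this
  rw [sub_zero] at hent
  exact hent.symm

/-- the elements with vanishing first coordinate have trivial cube -/
theorem zU_cube (m : ℕ) (u v : K) : reeU (3 ^ m) (0 : K) u v ^ 3 = 1 := by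
  rw [pow_succ, pow_succ, pow_one, zU_mul, zU_mul, three_mul_eq_zero, three_mul_eq_zero]
  exact reeU_zero _ (three_pow_ne_zero m)

end

section
variable {K : Type*} [Field K] [Fintype K] [CharP K 3]

/-- the number of elements of order three of the unipotent part -/
theorem card_order_three (m : ℕ) (hK : Fintype.card K = 3 ^ (2 * m + 1)) :
    Nat.card {x : ↥(cdG2.D.posUnipotent K ⊓ tG2 K (3 ^ m)) // orderOf x = 3} = (3 ^ (2 * m + 1)) ^ 2 - 1 := by
  classical
  haveI : Fact (Nat.Prime 3) := ⟨by norm_num⟩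
  have hθ := three_pow_ne_zero m
  have hmemU : ∀ u v : K, reeU (3 ^ m) (0 : K) u v ∈ cdG2.D.posUnipotent K ⊓ tG2 K (3 ^ m) :=
    fun u v => ⟨reeU_mem_pos _ _ _ _, reeU_mem_tG2 _ _ _ _⟩
  have hord : ∀ p : {p : K × K // p ≠ 0},
      orderOf (⟨reeU (3 ^ m) (0 : K) p.1.1 p.1.2, hmemU _ _⟩ : ↥(cdG2.D.posUnipotent K ⊓ tG2 K (3 ^ m))) = 3 := by
    rintro ⟨⟨u, v⟩, hp⟩
    rw [orderOf_eq_prime_iff]
    constructor
    · apply Subtype.ext
      rw [Subgroup.coe_pow]
      exact zU_cube m u v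
    · intro h
      apply hp
      have h2 : reeU (3 ^ m) (0 : K) u v = 1 := congrArg Subtype.val h
      rw [← reeU_zero (K := K) (3 ^ m) hθ] at h2
      obtain ⟨-, h3, h4⟩ := reeU_inj _ _ _ _ _ _ _ h2
      exact Prod.ext h3 h4
  have hex : ∃ f : {p : K × K // p ≠ 0} → {x : ↥(cdG2.D.posUnipotent K ⊓ tG2 K (3 ^ m)) // orderOf x = 3},
      ∀ p, ((f p).1 : GL cdG2.D.Idx K) = reeU (3 ^ m) (0 : K) p.1.1 p.1.2 :=
    ⟨fun p => ⟨⟨reeU (3 ^ m) (0 : K) p.1.1 p.1.2, hmemU _ _⟩, hord p⟩, fun p => rfl⟩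
  obtain ⟨f, hfv⟩ := hex
  have hf : Function.Bijective f := by
    constructor
    · rintro ⟨⟨u, v⟩, hp⟩ ⟨⟨u', v'⟩, hp'⟩ h
      have h2 : reeU (3 ^ m) (0 : K) u v = reeU (3 ^ m) (0 : K) u' v' := by
        have e1 := hfv ⟨(u, v), hp⟩
        have e2 := hfv ⟨(u', v'), hp'⟩
        rw [h] at e1
        exact e1.symm.trans e2
      obtain ⟨-, h3, h4⟩ := reeU_inj _ _ _ _ _ _ _ h2
      apply Subtype.ext
      exact Prod.ext h3 h4
    · rintro ⟨⟨x, hx⟩, hox⟩
      obtain ⟨t, u, v, rfl⟩ := (mem_pos_inf_tG2 m hK x).mp hx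
      rw [orderOf_eq_prime_iff] at hox
      obtain ⟨h3, h1⟩ := hox
      have h3' : reeU (3 ^ m) t u v ^ 3 = 1 := by
        have := congrArg Subtype.val h3
        rwa [Subgroup.coe_pow] at this
      have ht : t = 0 := by
        by_contra ht
        exact reeU_cube_ne _ hθ t u v ht h3'
      subst ht
      have hp : ((u, v) : K × K) ≠ 0 := by
        intro h
        have hu : u = 0 := congrArg Prod.fst h
        have hv : v = 0 := congrArg Prod.snd h
        subst hu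
        subst hv
        exact h1 (Subtype.ext (reeU_zero _ hθ))
      have e1 : (f ⟨(u, v), hp⟩).1 =
          (⟨reeU (3 ^ m) 0 u v, hx⟩ : ↥(cdG2.D.posUnipotent K ⊓ tG2 K (3 ^ m))) :=
        Subtype.ext (hfv ⟨(u, v), hp⟩)
      exact ⟨⟨(u, v), hp⟩, Subtype.ext e1⟩
  rw [← Nat.card_congr (Equiv.ofBijective f hf), Nat.card_eq_fintype_card, Fintype.card_subtype_compl,
    Fintype.card_subtype_eq, Fintype.card_prod, hK, sq]

end


end Cfsg.Agent.Lib.Helper3.Ree
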