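import Mathlib
import Cfsg.Prelude.Def_ChevStructure
import Cfsg.Prelude.Def_ChevG2
import Cfsg.Prelude.Def_LieTwisted
import Cfsg.Agent.Lib.Helper3.Ree18
import Cfsg.Agent.Lib.Helper3.ChevTw14
set_option autoImplicit false
set_option linter.unusedSectionVars false
set_option linter.style.haveILetI false
open Cfsg Cfsg.Lie

/-!
The twisted group of type `G₂` over a field with more than three elements is perfect (end of
the proof).
-/

namespace Cfsg.Agent.Lib.Helper3.Ree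

open Cfsg.Agent.Lib.Helper3.ChevM Cfsg.Agent.Lib.Helper3.ChevSp Cfsg.Agent.Lib.Helper3.ChevAt
open Cfsg.Agent.Lib.Helper3 ChevU ChevT DoubleCoset

theorem g2_opp : ∀ s < cdG2.D.nroots, oppCheck cdG2.D relG2.refl w0G2 w0G2 s = true := by decide

section
variable {K : Type*} [Field K] [Fintype K] [CharP K 3]

/-- the representative of the longest element conjugates `V` into `U` -/
theorem conj_neg_mem_pos (m : ℕ) (hK : Fintype.card K = 3 ^ (2 * m + 1)) (v : GL cdG2.D.Idx K)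
    (hv : v ∈ cdG2.D.negUnipotent K) : (n1 m hK)⁻¹ * v * n1 m hK ∈ cdG2.D.posUnipotent K := by
  have opp := relG2.opposition_word (F := K) w0G2 w0G2 (by decide) g2_opp
  have hN : cdG2.D.diagonalSubgroup K ≤ Subgroup.normalizer (cdG2.D.negUnipotent K : Set (GL cdG2.D.Idx K)) :=
    relG2.diagonal_le_normalizer_closure bnG2.dec (fun s => cdG2.D.IsNegRoot s) (fun s hs => hs.1)
  have hv' : (h1 m hK)⁻¹ * v * h1 m hK ∈ cdG2.D.negUnipotent K := by
    have := (Subgroup.mem_normalizer_iff.mp (hN (Subgroup.inv_mem _ (h1_mem m hK))) v).mp hv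
    rwa [inv_inv] at this
  rw [← opp] at hv'
  obtain ⟨u, hu, e⟩ := hv'
  have e' : n0 K * u * (n0 K)⁻¹ = (h1 m hK)⁻¹ * v * h1 m hK := e
  have : (n1 m hK)⁻¹ * v * n1 m hK = u := by
    have h2 : (n1 m hK)⁻¹ * v * n1 m hK = (n0 K)⁻¹ * ((h1 m hK)⁻¹ * v * h1 m hK) * n0 K := by
      unfold n1; group
    rw [h2, ← e']
    group
  rw [this]
  exact hu

theorem reeV_mem_dT (m : ℕ) (hm : 1 ≤ m) (hK : Fintype.card K = 3 ^ (2 * m + 1)) (t u v : K) :
    reeV (3 ^ m) t u v ∈ dT K (3 ^ m) := by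
  have hU := conj_neg_mem_pos m hK _ (reeV_mem_neg (3 ^ m) t u v)
  have hF : (n1 m hK)⁻¹ * reeV (3 ^ m) t u v * n1 m hK ∈ fixG K m :=
    Subgroup.mul_mem _ (Subgroup.mul_mem _ (Subgroup.inv_mem _ (n1_mem_fixG m hK)) (reeV_mem_fixG m hK t u v))
      (n1_mem_fixG m hK)
  obtain ⟨a, b, c, e⟩ := fixed_posUnipotent m hK _ hU hF.2
  have : reeV (3 ^ m) t u v = n1 m hK * reeU (3 ^ m) a b c * (n1 m hK)⁻¹ := by
    rw [← e]; group
  rw [this]
  exact conj_mem_dT _ _ _ (n1_mem_tG2 m hK) (reeU_mem_dT m hm hK a b c)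

theorem tG2_le_dT (m : ℕ) (hm : 1 ≤ m) (hK : Fintype.card K = 3 ^ (2 * m + 1)) :
    tG2 K (3 ^ m) ≤ dT K (3 ^ m) := by
  unfold tG2 ChevalleyDatum.genSubgroup
  rw [Subgroup.closure_le]
  rintro g ⟨w, ⟨t, u, v, rfl | rfl⟩, hg⟩
  · have : g = reeU (3 ^ m) t u v := Units.ext (hg.trans (reeU_val _ t u v).symm)
    rw [this]
    exact reeU_mem_dT m hm hK t u v
  · have : g = reeV (3 ^ m) t u v := Units.ext (hg.trans (reeV_val _ t u v).symm)
    rw [this]
    exact reeV_mem_dT m hm hK t u v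

/-- the twisted group is perfect -/
theorem ree_perfect (m : ℕ) (hm : 1 ≤ m) (hK : Fintype.card K = 3 ^ (2 * m + 1)) :
    commutator ↥(tG2 K (3 ^ m)) = ⊤ := by
  rw [eq_top_iff]
  intro z _
  obtain ⟨y, hy, e⟩ := tG2_le_dT m hm hK z.2
  have : y = z := Subtype.ext e
  rw [← this]
  exact hy

end

end Cfsg.Agent.Lib.Helper3.Ree
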