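import Mathlib
import Cfsg.Prelude.Def_ChevStructure
import Cfsg.Prelude.Def_ChevG2
import Cfsg.Prelude.Def_LieTwisted
import Cfsg.Agent.Lib.Helper3.Ree19
import Cfsg.Agent.S0319
set_option autoImplicit false
set_option linter.unusedSectionVars false
set_option linter.style.haveILetI false
open Cfsg Cfsg.Lie

/-!
The twisted group of type `G₂` over a field with more than three elements is simple.
-/

namespace Cfsg.Agent.Lib.Helper3.Ree

open Cfsg.Agent.Lib.Helper3.ChevM Cfsg.Agent.Lib.Helper3.ChevSp Cfsg.Agent.Lib.Helper3.ChevAt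
open Cfsg.Agent.Lib.Helper3 ChevU ChevT DoubleCoset

section
variable {K : Type*} [Field K] [Fintype K] [CharP K 3]

theorem reeBN_core (m : ℕ) (hK : Fintype.card K = 3 ^ (2 * m + 1)) :
    (reeBN (K := K) m hK).B.normalCore = ⊥ := by
  rw [eq_bot_iff]
  intro z hz
  rw [Subgroup.mem_bot]
  apply Subtype.ext
  refine core_aux (K := K) m hK z.1 z.2 ?_
  intro g hg
  have h1 : (⟨g, hg⟩ : ↥(tG2 K (3 ^ m))) * z * (⟨g, hg⟩ : ↥(tG2 K (3 ^ m)))⁻¹ ∈
      (bT K (3 ^ m)).subgroupOf (tG2 K (3 ^ m)) := hz ⟨g, hg⟩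
  exact Subgroup.mem_subgroupOf.mp h1

theorem reeBN_irreducible (m : ℕ) (hK : Fintype.card K = 3 ^ (2 * m + 1)) :
    (reeBN (K := K) m hK).Irreducible := by
  intro J hJ hJne hne
  exfalso
  obtain ⟨a, ha⟩ := hJne
  obtain ⟨b, hb, hbJ⟩ := hne
  apply hbJ
  have ha' : (a : GL cdG2.D.Idx K) = n1 m hK := hJ ha
  have hb' : (b : GL cdG2.D.Idx K) = n1 m hK := hb
  have : a = b := Subtype.ext (ha'.trans hb'.symm)
  rw [← this]
  exact ha

theorem reeBN_solvable (m : ℕ) (hK : Fintype.card K = 3 ^ (2 * m + 1)) :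
    Group.IsSolvable ↥((reeBN (K := K) m hK).B) := by
  have := borel_solvable (F := K) relG2 bnG2.mono.tri
  let f : ↥((reeBN (K := K) m hK).B) →* ↥(cdG2.D.borelSubgroup K) :=
    { toFun := fun x => ⟨((x : ↥(tG2 K (3 ^ m))) : GL cdG2.D.Idx K), (Subgroup.mem_subgroupOf.mp x.2).1⟩
      map_one' := rfl
      map_mul' := fun _ _ => rfl }
  refine Group.isSolvable_of_isSolvable_injective (f := f) ?_
  intro x y hxy
  apply Subtype.ext
  apply Subtype.ext
  show ((x : ↥(tG2 K (3 ^ m))) : GL cdG2.D.Idx K) = ((y : ↥(tG2 K (3 ^ m))) : GL cdG2.D.Idx K)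
  have h2 : ((f x : ↥(cdG2.D.borelSubgroup K)) : GL cdG2.D.Idx K) =
      ((f y : ↥(cdG2.D.borelSubgroup K)) : GL cdG2.D.Idx K) := by
    rw [hxy]
  exact h2

/-- the twisted group of type `G₂` is simple -/
theorem ree_simple (m : ℕ) (hm : 1 ≤ m) (hK : Fintype.card K = 3 ^ (2 * m + 1)) :
    IsSimpleGroup ↥(tG2 K (3 ^ m)) ∧ ¬ IsMulCommutative ↥(tG2 K (3 ^ m)) := by
  have hne1 := reeU_one_ne (K := K) (3 ^ m) (three_pow_ne_zero m)
  have : Nontrivial ↥(tG2 K (3 ^ m)) :=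
    ⟨⟨⟨_, reeU_mem_tG2 (3 ^ m) (1 : K) 0 0⟩, 1, fun h => hne1 (congrArg Subtype.val h)⟩⟩
  have hperf := ree_perfect (K := K) m hm hK
  refine ⟨Cfsg.Agent.S0319.result (reeBN m hK) (reeBN_irreducible m hK) (reeBN_solvable m hK) hperf
    (reeBN_core m hK), ?_⟩
  intro hcomm
  have h1 : commutator ↥(tG2 K (3 ^ m)) = ⊥ := by
    rw [commutator_def, Subgroup.commutator_eq_bot_iff_le_centralizer]
    intro x _
    rw [Subgroup.mem_centralizer_iff]
    intro y _
    exact hcomm.is_comm.comm y x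
  rw [hperf] at h1
  exact top_ne_bot h1

end

end Cfsg.Agent.Lib.Helper3.Ree
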