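import Mathlib

set_option autoImplicit false

namespace Cfsg.Agent.Lib.Helper3.Ree


section LinAlg
open Module

variable {K W : Type*} [Field K] [AddCommGroup W] [Module K W]

/-- the fixed space of an endomorphism -/
def fixSp (g : Module.End K W) : Submodule K W := LinearMap.ker (g - 1)

theorem mem_fixSp (g : Module.End K W) (v : W) : v ∈ fixSp g ↔ g v = v := by
  simp [fixSp, sub_eq_zero]

theorem fixSp_eq_top (g : Module.End K W) (h : fixSp g = ⊤) : g = 1 := by
  ext v
  have : v ∈ fixSp g := by rw [h]; trivial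
  exact (mem_fixSp g v).mp this

/-- the unit attached to an endomorphism of finite order -/
def unitOfPow (p : ℕ) (hp : 0 < p) (g : Module.End K W) (hg : g ^ p = 1) : (Module.End K W)ˣ :=
  ⟨g, g ^ (p - 1), by rw [← pow_succ', Nat.sub_add_cancel hp, hg],
    by rw [← pow_succ, Nat.sub_add_cancel hp, hg]⟩

theorem card_fixSp_modEq [Finite K] [Module.Finite K W] (p : ℕ) [hp : Fact p.Prime]
    (g : Module.End K W) (hg : g ^ p = 1) :
    Nat.card W ≡ Nat.card (fixSp g) [MOD p] := by
  have : Finite W := Module.finite_of_finite K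
  set u := unitOfPow p hp.out.pos g hg with hu
  have hup : u ^ p = 1 := by
    apply Units.ext
    rw [Units.val_pow_eq_pow_val]
    exact hg
  let H : Subgroup (Module.End K W)ˣ := Subgroup.zpowers u
  have hH : IsPGroup p H := by
    rintro ⟨h, hh⟩
    refine ⟨1, ?_⟩
    obtain ⟨k, rfl⟩ := Subgroup.mem_zpowers_iff.mp hh
    apply Subtype.ext
    rw [pow_one, Subgroup.coe_pow, Subgroup.coe_one, ← zpow_natCast, ← zpow_mul, mul_comm, zpow_mul,
      zpow_natCast, hup, one_zpow]
  have key := hH.card_modEq_card_fixedPoints W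
  have e : (MulAction.fixedPoints H W) = (fixSp g : Set W) := by
    ext v
    rw [MulAction.mem_fixedPoints, SetLike.mem_coe, mem_fixSp]
    constructor
    · intro h
      exact h ⟨u, Subgroup.mem_zpowers u⟩
    · rintro h ⟨x, hx⟩
      have hu1 : u • v = v := h
      have hinv : u⁻¹ • v = v := by
        rw [inv_smul_eq_iff, hu1]
      have hall : ∀ k : ℤ, (u ^ k) • v = v := by
        intro k
        induction k using Int.induction_on with
        | zero => simp
        | succ n ih => rw [zpow_add_one, mul_smul, hu1, ih]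
        | pred n ih => rw [zpow_sub_one, mul_smul, hinv, ih]
      obtain ⟨k, rfl⟩ := Subgroup.mem_zpowers_iff.mp hx
      exact hall k
  rw [e] at key
  exact key

end LinAlg



/-- the arithmetic behind the seven-dimensional module: `q` has order six modulo `p` -/
theorem pow_seven_modEq (p q d : ℕ) [hp : Fact p.Prime] (hp3 : 3 < p) (hq : p ∣ q ^ 2 - q + 1)
    (hd : d ≤ 7) (h : q ^ 7 ≡ q ^ d [MOD p]) : d = 1 ∨ d = 7 := by
  have hqq : q ≤ q ^ 2 := by nlinarith [Nat.zero_le q]
  set x : ZMod p := (q : ZMod p) with hx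
  have h0 : x ^ 2 - x + 1 = 0 := by
    have := (ZMod.natCast_eq_zero_iff (q ^ 2 - q + 1) p).mpr hq
    rw [Nat.cast_add, Nat.cast_sub hqq, Nat.cast_pow, Nat.cast_one] at this
    exact this
  have hk : x ^ 7 = x ^ d := by
    have := (ZMod.natCast_eq_natCast_iff (q ^ 7) (q ^ d) p).mpr h
    rw [Nat.cast_pow, Nat.cast_pow] at this
    exact this
  have h7 : x ^ 7 = x := by linear_combination (x ^ 5 + x ^ 4 - x ^ 2 - x) * h0
  rw [h7] at hk
  have c1 : (1 : ZMod p) ≠ 0 := one_ne_zero
  have c2 : (2 : ZMod p) ≠ 0 := by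
    intro e
    have : ((2 : ℕ) : ZMod p) = 0 := by exact_mod_cast e
    rw [ZMod.natCast_eq_zero_iff] at this
    have := Nat.le_of_dvd (by norm_num) this
    omega
  have c3 : (3 : ZMod p) ≠ 0 := by
    intro e
    have : ((3 : ℕ) : ZMod p) = 0 := by exact_mod_cast e
    rw [ZMod.natCast_eq_zero_iff] at this
    have := Nat.le_of_dvd (by norm_num) this
    omega
  interval_cases d
  · exfalso
    apply c1
    linear_combination h0 - x * hk
  · left; rfl
  · exfalso
    apply c1
    linear_combination h0 + hk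
  · exfalso
    apply c3
    linear_combination (1 - (x - 2) * (x + 1)) * h0 + (2 - x) * hk
  · exfalso
    apply c2
    linear_combination (2 - (x - 1) * x * (x + 1)) * h0 + (1 - x) * hk
  · exfalso
    apply c3
    linear_combination (4 - (2 * x - 1) * (x ^ 3 + x ^ 2 - 1)) * h0 + (1 - 2 * x) * hk
  · exfalso
    apply c1
    linear_combination (1 - x * (x ^ 3 - 1) * (x + 1)) * h0 - x * hk
  · right; rfl



section Avg
open Module

variable {R : Type*} [Ring R]

/-- the norm element of a cyclic group of order `p` -/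
def avgP (p : ℕ) [NeZero p] (g : R) : R := ∑ k : ZMod p, g ^ k.val

theorem pow_val_add_one (p : ℕ) [hp : Fact p.Prime] (g : R) (hg : g ^ p = 1) (k : ZMod p) :
    g ^ (k + 1).val = g ^ (k.val + 1) := by
  have : Fact (1 < p) := ⟨hp.out.one_lt⟩
  rw [ZMod.val_add, ZMod.val_one, ← pow_eq_pow_mod _ hg]

theorem mul_avgP (p : ℕ) [hp : Fact p.Prime] (g : R) (hg : g ^ p = 1) : g * avgP p g = avgP p g := by
  unfold avgP
  rw [Finset.mul_sum]
  rw [← Equiv.sum_comp (Equiv.addRight (1 : ZMod p)) (fun k => g ^ k.val)]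
  apply Finset.sum_congr rfl
  intro k _
  show g * g ^ k.val = g ^ (k + 1).val
  rw [pow_val_add_one p g hg, pow_succ']

theorem sum_pow_mul (p : ℕ) [hp : Fact p.Prime] (b : R) (hb : b ^ p = 1) (j : ZMod p) (hj : j ≠ 0) :
    ∑ i : ZMod p, b ^ (i.val * j.val) = avgP p b := by
  unfold avgP
  rw [← Equiv.sum_comp (Equiv.mulRight₀ j hj) (fun k => b ^ k.val)]
  apply Finset.sum_congr rfl
  intro i _
  show b ^ (i.val * j.val) = b ^ (i * j).val
  rw [ZMod.val_mul, ← pow_eq_pow_mod _ hb]

theorem avg_identity (p : ℕ) [hp : Fact p.Prime] (a b : R) (hab : Commute a b) (hb : b ^ p = 1) :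
    ∑ i : ZMod p, avgP p (a * b ^ i.val) + avgP p b =
      (p : R) + ∑ j : ZMod p, a ^ j.val * avgP p b := by
  have h1 : ∑ i : ZMod p, avgP p (a * b ^ i.val) =
      ∑ j : ZMod p, a ^ j.val * ∑ i : ZMod p, b ^ (i.val * j.val) := by
    unfold avgP
    rw [Finset.sum_comm]
    apply Finset.sum_congr rfl
    intro j _
    rw [Finset.mul_sum]
    apply Finset.sum_congr rfl
    intro i _
    rw [(hab.pow_right _).mul_pow, ← pow_mul]
  rw [h1, Fintype.sum_eq_add_sum_compl (0 : ZMod p), Fintype.sum_eq_add_sum_compl (0 : ZMod p)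
    (fun j => a ^ j.val * avgP p b)]
  have h2 : ∑ j ∈ ({0}ᶜ : Finset (ZMod p)), a ^ j.val * ∑ i : ZMod p, b ^ (i.val * j.val) =
      ∑ j ∈ ({0}ᶜ : Finset (ZMod p)), a ^ j.val * avgP p b := by
    apply Finset.sum_congr rfl
    intro j hj
    rw [sum_pow_mul p b hb j (by simpa using hj)]
  rw [h2]
  simp only [ZMod.val_zero, pow_zero, mul_zero, one_mul, Finset.sum_const, Finset.card_univ, ZMod.card,
    nsmul_eq_mul, mul_one]
  abel

end Avg


section Main
open Module

variable {K W : Type*} [Field K] [AddCommGroup W] [Module K W]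

theorem finrank_fixSp [Finite K] [Module.Finite K W] (p q : ℕ) [Fact p.Prime] (hp3 : 3 < p)
    (hq : p ∣ q ^ 2 - q + 1) (hK : Nat.card K = q) (hW : finrank K W = 7)
    (g : Module.End K W) (hg : g ^ p = 1) (hg1 : g ≠ 1) : finrank K (fixSp g) = 1 := by
  have h1 := card_fixSp_modEq p g hg
  rw [Module.natCard_eq_pow_finrank (K := K) (V := W),
    Module.natCard_eq_pow_finrank (K := K) (V := fixSp g), hK, hW] at h1
  have hd : finrank K (fixSp g) ≤ 7 := hW ▸ Submodule.finrank_le _
  rcases pow_seven_modEq p q _ hp3 hq hd h1 with h | h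
  · exact h
  · exfalso
    apply hg1
    apply fixSp_eq_top
    apply Submodule.eq_top_of_finrank_eq
    rw [h, hW]

theorem coprime_sub_one (p q : ℕ) [hp : Fact p.Prime] (hq : p ∣ q ^ 2 - q + 1) (hq1 : 1 ≤ q) :
    Nat.Coprime p (q - 1) := by
  rw [Nat.Prime.coprime_iff_not_dvd hp.out]
  intro h
  have h2 : p ∣ (q - 1) * q := Dvd.dvd.mul_right h q
  have e : q ^ 2 - q + 1 = (q - 1) * q + 1 := by
    obtain ⟨k, rfl⟩ : ∃ k, q = k + 1 := ⟨q - 1, by omega⟩
    simp only [Nat.add_sub_cancel]
    have : (k + 1) ^ 2 = k * (k + 1) + (k + 1) := by ring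
    rw [this, Nat.add_sub_cancel]
  rw [e] at hq
  have h3 : p ∣ 1 := (Nat.dvd_add_right h2).mp hq
  exact hp.out.one_lt.ne' (Nat.dvd_one.mp h3)

theorem fixSp_le_of_commute [Fintype K] (p q : ℕ) [hp : Fact p.Prime]
    (hq : p ∣ q ^ 2 - q + 1) (hK : Fintype.card K = q)
    (g g' : Module.End K W) (hc : Commute g g') (hg' : g' ^ p = 1) (h1 : finrank K (fixSp g) = 1) :
    fixSp g ≤ fixSp g' := by
  obtain ⟨⟨v, hv⟩, hv0, hspan⟩ := finrank_eq_one_iff'.mp h1
  have hv0' : v ≠ 0 := fun e => hv0 (Subtype.ext e)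
  have hgv : g v = v := (mem_fixSp g v).mp hv
  have hmem : g' v ∈ fixSp g := by
    rw [mem_fixSp]
    have := congrArg (fun f : Module.End K W => f v) hc.eq
    simp only [Module.End.mul_apply] at this
    rw [this, hgv]
  obtain ⟨c, hcv⟩ := hspan ⟨g' v, hmem⟩
  have hcv' : g' v = c • v := by
    have := congrArg Subtype.val hcv
    exact this.symm
  have hpow : ∀ n : ℕ, (g' ^ n) v = c ^ n • v := by
    intro n
    induction n with
    | zero => simp
    | succ n ih => rw [pow_succ, Module.End.mul_apply, hcv', map_smul, ih, smul_smul, pow_succ, mul_comm]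
  have hcp : c ^ p = 1 := by
    have h2 := hpow p
    rw [hg', Module.End.one_apply] at h2
    have h3 : (c ^ p - 1) • v = 0 := by rw [sub_smul, one_smul, ← h2, sub_self]
    rcases smul_eq_zero.mp h3 with h4 | h4
    · exact sub_eq_zero.mp h4
    · exact absurd h4 hv0'
  have hc0 : c ≠ 0 := by
    rintro rfl
    rw [zero_pow hp.out.ne_zero] at hcp
    exact zero_ne_one hcp
  have hcq : c ^ (q - 1) = 1 := by
    rw [← hK]
    exact FiniteField.pow_card_sub_one_eq_one c hc0
  have hq1 : 1 ≤ q := by rw [← hK]; exact Fintype.card_pos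
  have hc1 : c = 1 := by
    have := pow_gcd_eq_one.mpr ⟨hcp, hcq⟩
    rw [Nat.Coprime.gcd_eq_one (coprime_sub_one p q hq hq1), pow_one] at this
    exact this
  intro w hw
  obtain ⟨c', hc'⟩ := hspan ⟨w, hw⟩
  have hw' : w = c' • v := (congrArg Subtype.val hc').symm
  rw [mem_fixSp, hw', map_smul, hcv', hc1, one_smul]

theorem natCast_ne_zero_of_dvd [Fintype K] (p q : ℕ)
    (hq : p ∣ q ^ 2 - q + 1) (hK : Fintype.card K = q) : (p : K) ≠ 0 := by
  intro h
  have hq0 : (q : K) = 0 := by rw [← hK]; exact FiniteField.cast_card_eq_zero K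
  obtain ⟨t, ht⟩ := hq
  have hqq : q ≤ q ^ 2 := by nlinarith [Nat.zero_le q]
  have := congrArg (fun n : ℕ => (n : K)) ht
  simp only [Nat.cast_add, Nat.cast_sub hqq, Nat.cast_pow, Nat.cast_one, Nat.cast_mul, h, hq0,
    zero_mul] at this
  simp at this

theorem no_rank_two [Fintype K] [Module.Finite K W] (p q : ℕ) [hp : Fact p.Prime] (hp3 : 3 < p)
    (hq : p ∣ q ^ 2 - q + 1) (hK : Fintype.card K = q) (hW : finrank K W = 7)
    (a b : Module.End K W) (hab : Commute a b) (ha : a ^ p = 1) (hb : b ^ p = 1) (hb1 : b ≠ 1)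
    (hne : ∀ i : ZMod p, a * b ^ i.val ≠ 1) : False := by
  have hK' : Nat.card K = q := by rw [Nat.card_eq_fintype_card, hK]
  have hfb : finrank K (fixSp b) = 1 := finrank_fixSp p q hp3 hq hK' hW b hb hb1
  have hcp : ∀ i : ZMod p, (a * b ^ i.val) ^ p = 1 := by
    intro i
    rw [(hab.pow_right _).mul_pow, ha, ← pow_mul, mul_comm, pow_mul, hb, one_pow, one_mul]
  have hfc : ∀ i : ZMod p, finrank K (fixSp (a * b ^ i.val)) = 1 := fun i =>
    finrank_fixSp p q hp3 hq hK' hW _ (hcp i) (hne i)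
  have hcomm : ∀ i : ZMod p, Commute (a * b ^ i.val) b := fun i =>
    (hab.mul_left (Commute.pow_left (Commute.refl b) _))
  have heq : ∀ i : ZMod p, fixSp (a * b ^ i.val) = fixSp b := by
    intro i
    apply Submodule.eq_of_le_of_finrank_eq
    · exact fixSp_le_of_commute p q hq hK _ _ (hcomm i) hb (hfc i)
    · rw [hfc i, hfb]
  have hpK : (p : K) ≠ 0 := natCast_ne_zero_of_dvd p q hq hK
  have hall : ∀ v : W, v ∈ fixSp b := by
    intro v
    have hid := avg_identity p a b hab hb
    have hid' := congrArg (fun f : Module.End K W => f v) hid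
    simp only [LinearMap.add_apply, LinearMap.sum_apply] at hid'
    have m1 : ∑ i : ZMod p, (avgP p (a * b ^ i.val)) v ∈ fixSp b := by
      apply Submodule.sum_mem
      intro i _
      rw [← heq i, mem_fixSp, ← Module.End.mul_apply, mul_avgP p _ (hcp i)]
    have m2 : (avgP p b) v ∈ fixSp b := by
      rw [mem_fixSp, ← Module.End.mul_apply, mul_avgP p _ hb]
    have m3 : ∑ j : ZMod p, (a ^ j.val * avgP p b) v ∈ fixSp b := by
      apply Submodule.sum_mem
      intro j _
      rw [mem_fixSp, ← Module.End.mul_apply, ← mul_assoc, ((hab.pow_left j.val).eq).symm, mul_assoc,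
        mul_avgP p _ hb]
    have m4 : ((p : Module.End K W)) v ∈ fixSp b := by
      have : ((p : Module.End K W)) v =
          ∑ i : ZMod p, (avgP p (a * b ^ i.val)) v + (avgP p b) v -
            ∑ j : ZMod p, (a ^ j.val * avgP p b) v := by
        rw [hid']; abel
      rw [this]
      exact Submodule.sub_mem _ (Submodule.add_mem _ m1 m2) m3
    have e : ((p : Module.End K W)) v = (p : K) • v := by
      rw [Module.End.natCast_apply, Nat.cast_smul_eq_nsmul]
    rw [e] at m4
    have := Submodule.smul_mem (fixSp b) ((p : K)⁻¹) m4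
    rwa [smul_smul, inv_mul_cancel₀ hpK, one_smul] at this
  have htop : fixSp b = ⊤ := by
    rw [eq_top_iff]
    intro v _
    exact hall v
  rw [htop, finrank_top, hW] at hfb
  norm_num at hfb

end Main

end Cfsg.Agent.Lib.Helper3.Ree
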