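import Mathlib
set_option autoImplicit false
set_option linter.unusedSectionVars false

/-!
A homomorphism from `SL₂(F)` defined by root elements: if `X, Y : F → Γ` satisfy the relations of
the upper and lower unitriangular matrices of `SL₂(F)` (additivity, the conjugation formula
`n(t) x(u) n(t)⁻¹ = y(-t⁻² u)` and the multiplicativity of `h(t) = n(t) n(1)⁻¹`), then there is a
homomorphism `SL₂(F) → Γ` with `[[1,t],[0,1]] ↦ X t` and `[[1,0],[t,1]] ↦ Y t`.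
-/

namespace Cfsg.Agent.Lib.Helper3.SL2P

section
variable {F : Type*} [Field F] {Γ : Type*} [Group Γ]

/-- the element `n(t) = x(t) y(-t⁻¹) x(t)` -/
def nE (X Y : F → Γ) (t : F) : Γ := X t * Y (-t⁻¹) * X t

/-- the element `h(t) = n(t) n(1)⁻¹` -/
def hE (X Y : F → Γ) (t : F) : Γ := nE X Y t * (nE X Y 1)⁻¹

/-- the relations -/
structure Rel (X Y : F → Γ) : Prop where
  X_add : ∀ t u, X (t + u) = X t * X u
  Y_add : ∀ t u, Y (t + u) = Y t * Y u
  conj : ∀ t, t ≠ 0 → ∀ u, nE X Y t * X u * (nE X Y t)⁻¹ = Y (-(t⁻¹ * t⁻¹ * u))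
  h_mul : ∀ t u, t ≠ 0 → u ≠ 0 → hE X Y (t * u) = hE X Y t * hE X Y u

variable {X Y : F → Γ} (R : Rel X Y)
include R

theorem Rel.X_zero : X 0 = 1 := by
  have h := R.X_add 0 0
  rw [add_zero] at h
  exact (mul_eq_left.mp h.symm)

theorem Rel.Y_zero : Y 0 = 1 := by
  have h := R.Y_add 0 0
  rw [add_zero] at h
  exact (mul_eq_left.mp h.symm)

theorem Rel.X_neg (t : F) : X (-t) = (X t)⁻¹ := by
  have h := R.X_add t (-t)
  rw [add_neg_cancel, R.X_zero] at h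
  exact eq_inv_of_mul_eq_one_right h.symm

theorem Rel.Y_neg (t : F) : Y (-t) = (Y t)⁻¹ := by
  have h := R.Y_add t (-t)
  rw [add_neg_cancel, R.Y_zero] at h
  exact eq_inv_of_mul_eq_one_right h.symm

theorem Rel.n_inv (t : F) : (nE X Y t)⁻¹ = nE X Y (-t) := by
  unfold nE
  rw [mul_inv_rev, mul_inv_rev, ← R.X_neg, ← R.Y_neg, inv_neg, neg_neg, mul_assoc]

theorem Rel.conjY (t : F) (ht : t ≠ 0) (u : F) :
    nE X Y t * Y u * (nE X Y t)⁻¹ = X (-(t * t * u)) := by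
  have h := R.conj (-t) (neg_ne_zero.mpr ht) (-(t * t * u))
  rw [← R.n_inv, inv_inv] at h
  have e : -((-t)⁻¹ * (-t)⁻¹ * -(t * t * u)) = u := by
    field_simp
  rw [e] at h
  rw [← h]
  group

theorem Rel.h_one : hE X Y 1 = 1 := by
  unfold hE
  exact mul_inv_cancel _

theorem Rel.n_eq (t : F) : nE X Y t = hE X Y t * nE X Y 1 := by
  unfold hE
  group

theorem Rel.h_conj (t : F) (ht : t ≠ 0) (u : F) :
    hE X Y t * X u * (hE X Y t)⁻¹ = X (t * t * u) := by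
  have h1 := R.conj (-1) (neg_ne_zero.mpr one_ne_zero) u
  have e1 : -((-1 : F)⁻¹ * (-1)⁻¹ * u) = -u := by
    field_simp
  rw [e1] at h1
  have h2 := R.conjY t ht (-u)
  have e2 : -(t * t * -u) = t * t * u := by ring
  rw [e2] at h2
  rw [← h2, ← h1]
  unfold hE
  rw [R.n_inv 1]
  group

theorem Rel.h_comm_X (t : F) (ht : t ≠ 0) (u : F) :
    hE X Y t * X u = X (t * t * u) * hE X Y t := by
  rw [← R.h_conj t ht u]
  group

theorem Rel.h_neg_one_sq : hE X Y (-1) * hE X Y (-1) = 1 := by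
  rw [← R.h_mul (-1) (-1) (neg_ne_zero.mpr one_ne_zero) (neg_ne_zero.mpr one_ne_zero)]
  rw [show (-1 : F) * -1 = 1 by ring]
  exact R.h_one

theorem Rel.n_one_sq : nE X Y 1 * nE X Y 1 = hE X Y (-1) := by
  have h1 : (nE X Y 1)⁻¹ = nE X Y (-1) := R.n_inv 1
  have h2 : hE X Y (-1) = nE X Y (-1) * nE X Y (-1) := by
    unfold hE
    rw [h1]
  have h3 : nE X Y 1 = (nE X Y (-1))⁻¹ := by
    rw [← h1, inv_inv]
  have h4 : (hE X Y (-1))⁻¹ = hE X Y (-1) := inv_eq_of_mul_eq_one_right R.h_neg_one_sq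
  rw [← h4, h2, h3]
  group

theorem Rel.n_mul_n_one (a : F) (ha : a ≠ 0) : nE X Y a * nE X Y 1 = hE X Y (-a) := by
  rw [R.n_eq a, mul_assoc, R.n_one_sq, ← R.h_mul a (-1) ha (neg_ne_zero.mpr one_ne_zero)]
  rw [show a * -1 = -a by ring]

theorem Rel.h_mul_n (a b : F) (ha : a ≠ 0) (hb : b ≠ 0) : hE X Y a * nE X Y b = nE X Y (a * b) := by
  rw [R.n_eq b, R.n_eq (a * b), ← mul_assoc, ← R.h_mul a b ha hb]

theorem Rel.y_eq (s : F) : Y s = X s⁻¹ * nE X Y (-s⁻¹) * X s⁻¹ := by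
  unfold nE
  have e : -(-s⁻¹)⁻¹ = s := by
    rw [inv_neg, inv_inv, neg_neg]
  rw [e, R.X_neg]
  group

end

end Cfsg.Agent.Lib.Helper3.SL2P
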