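import Mathlib
import Cfsg.Agent.Lib.Helper3.SL2Pres1
set_option autoImplicit false
set_option linter.unusedSectionVars false

/-!
The map `SL₂(F) → Γ` given by the Bruhat normal form, and its compatibility with the generators.
-/

namespace Cfsg.Agent.Lib.Helper3.SL2P

section
variable {F : Type*} [Field F]

/-- the upper unitriangular matrices -/
def xE (t : F) : Matrix.SpecialLinearGroup (Fin 2) F :=
  ⟨!![1, t; 0, 1], by simp [Matrix.det_fin_two]⟩

/-- the lower unitriangular matrices -/
def yE (t : F) : Matrix.SpecialLinearGroup (Fin 2) F :=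
  ⟨!![1, 0; t, 1], by simp [Matrix.det_fin_two]⟩

/-- the Weyl element -/
def wE : Matrix.SpecialLinearGroup (Fin 2) F :=
  ⟨!![0, 1; -1, 0], by simp [Matrix.det_fin_two]⟩

theorem det_eq (g : Matrix.SpecialLinearGroup (Fin 2) F) :
    g.1 0 0 * g.1 1 1 - g.1 0 1 * g.1 1 0 = 1 := by
  have := g.2
  rwa [Matrix.det_fin_two] at this

theorem mul_xE_00 (g : Matrix.SpecialLinearGroup (Fin 2) F) (t : F) : (g * xE t).1 0 0 = g.1 0 0 := by
  show (g.1 * (xE t).1) 0 0 = _
  simp [xE, Matrix.mul_apply, Fin.sum_univ_two]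

theorem mul_xE_01 (g : Matrix.SpecialLinearGroup (Fin 2) F) (t : F) :
    (g * xE t).1 0 1 = g.1 0 0 * t + g.1 0 1 := by
  show (g.1 * (xE t).1) 0 1 = _
  simp [xE, Matrix.mul_apply, Fin.sum_univ_two]

theorem mul_xE_10 (g : Matrix.SpecialLinearGroup (Fin 2) F) (t : F) : (g * xE t).1 1 0 = g.1 1 0 := by
  show (g.1 * (xE t).1) 1 0 = _
  simp [xE, Matrix.mul_apply, Fin.sum_univ_two]

theorem mul_xE_11 (g : Matrix.SpecialLinearGroup (Fin 2) F) (t : F) :
    (g * xE t).1 1 1 = g.1 1 0 * t + g.1 1 1 := by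
  show (g.1 * (xE t).1) 1 1 = _
  simp [xE, Matrix.mul_apply, Fin.sum_univ_two]

theorem mul_wE_00 (g : Matrix.SpecialLinearGroup (Fin 2) F) : (g * wE).1 0 0 = -g.1 0 1 := by
  show (g.1 * (wE (F := F)).1) 0 0 = _
  simp [wE, Matrix.mul_apply, Fin.sum_univ_two]

theorem mul_wE_01 (g : Matrix.SpecialLinearGroup (Fin 2) F) : (g * wE).1 0 1 = g.1 0 0 := by
  show (g.1 * (wE (F := F)).1) 0 1 = _
  simp [wE, Matrix.mul_apply, Fin.sum_univ_two]

theorem mul_wE_10 (g : Matrix.SpecialLinearGroup (Fin 2) F) : (g * wE).1 1 0 = -g.1 1 1 := by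
  show (g.1 * (wE (F := F)).1) 1 0 = _
  simp [wE, Matrix.mul_apply, Fin.sum_univ_two]

theorem mul_wE_11 (g : Matrix.SpecialLinearGroup (Fin 2) F) : (g * wE).1 1 1 = g.1 1 0 := by
  show (g.1 * (wE (F := F)).1) 1 1 = _
  simp [wE, Matrix.mul_apply, Fin.sum_univ_two]

end

section
variable {F : Type*} [Field F] {Γ : Type*} [Group Γ]

open Classical in
/-- the map given by the Bruhat normal form -/
noncomputable def phiFun (X Y : F → Γ) (g : Matrix.SpecialLinearGroup (Fin 2) F) : Γ :=
  if g.1 1 0 = 0 then X (g.1 0 0 * g.1 0 1) * hE X Y (g.1 0 0)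
  else X (g.1 0 0 / g.1 1 0) * nE X Y (-(g.1 1 0)⁻¹) * X (g.1 1 1 / g.1 1 0)

variable {X Y : F → Γ} (R : Rel X Y)
include R

theorem phiFun_one : phiFun X Y (1 : Matrix.SpecialLinearGroup (Fin 2) F) = 1 := by
  unfold phiFun
  simp [R.X_zero, R.h_one]

theorem phiFun_xE (t : F) : phiFun X Y (xE t) = X t := by
  unfold phiFun
  simp [xE, R.h_one]

theorem phiFun_wE : phiFun X Y (wE (F := F)) = nE X Y 1 := by
  unfold phiFun
  simp [wE, R.X_zero]

theorem phiFun_mul_xE (g : Matrix.SpecialLinearGroup (Fin 2) F) (t : F) :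
    phiFun X Y (g * xE t) = phiFun X Y g * X t := by
  have hdet := det_eq g
  unfold phiFun
  rw [mul_xE_00, mul_xE_01, mul_xE_10, mul_xE_11]
  by_cases hc : g.1 1 0 = 0
  · rw [if_pos hc, if_pos hc]
    have ha : g.1 0 0 ≠ 0 := by
      intro h
      rw [h, hc] at hdet
      simp at hdet
    rw [mul_assoc, R.h_comm_X _ ha t, ← mul_assoc, ← R.X_add]
    congr 2
    ring
  · rw [if_neg hc, if_neg hc, mul_assoc, mul_assoc, ← R.X_add, ← mul_assoc]
    congr 2
    field_simp
    ring

theorem phiFun_mul_wE (g : Matrix.SpecialLinearGroup (Fin 2) F) :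
    phiFun X Y (g * wE) = phiFun X Y g * nE X Y 1 := by
  have hdet := det_eq g
  unfold phiFun
  rw [mul_wE_00, mul_wE_01, mul_wE_10, mul_wE_11]
  by_cases hc : g.1 1 0 = 0
  · -- the lower left entry vanishes
    have ha : g.1 0 0 ≠ 0 := by
      intro h
      rw [h, hc] at hdet
      simp at hdet
    have hd : g.1 1 1 ≠ 0 := by
      intro h
      rw [h, hc] at hdet
      simp at hdet
    have had : g.1 0 0 * g.1 1 1 = 1 := by
      rw [hc] at hdet
      simpa using hdet
    have hd' : g.1 1 1 = (g.1 0 0)⁻¹ := eq_inv_of_mul_eq_one_right had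
    rw [if_neg (neg_ne_zero.mpr hd), if_pos hc, hc, zero_div, R.X_zero, mul_one, mul_assoc, ← R.n_eq]
    congr 2
    · rw [hd']; field_simp
    · rw [hd', inv_neg, inv_inv, neg_neg]
  · rw [if_neg hc]
    by_cases hd : g.1 1 1 = 0
    · -- the lower right entry vanishes
      have hbc : g.1 0 1 * g.1 1 0 = -1 := by
        rw [hd] at hdet
        linear_combination -hdet
      have hb : g.1 0 1 = -(g.1 1 0)⁻¹ := by
        field_simp
        linear_combination hbc
      rw [if_pos (by rw [hd, neg_zero]), hd, zero_div, R.X_zero, mul_one, mul_assoc,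
        R.n_mul_n_one _ (neg_ne_zero.mpr (inv_ne_zero hc)), neg_neg, hb, neg_neg]
      congr 2
      field_simp
    · -- the general case
      rw [if_neg (neg_ne_zero.mpr hd)]
      set a := g.1 0 0 with ha
      set b := g.1 0 1 with hb
      set c := g.1 1 0 with hc'
      set d := g.1 1 1 with hd'
      have hv : d / c ≠ 0 := div_ne_zero hd hc
      have hs : -c⁻¹ ≠ 0 := neg_ne_zero.mpr (inv_ne_zero hc)
      -- move `n(1)` to the left
      have e1 : X (d / c) * nE X Y 1 = nE X Y 1 * Y (-(d / c)) := by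
        have h1 := R.conj (-1) (neg_ne_zero.mpr one_ne_zero) (d / c)
        have e : -((-1 : F)⁻¹ * (-1)⁻¹ * (d / c)) = -(d / c) := by field_simp
        rw [e, ← R.n_inv 1] at h1
        rw [← h1]
        group
      have e2 := R.y_eq (X := X) (Y := Y) (-(d / c))
      have e3 : (-(d / c))⁻¹ = -(c / d) := by
        field_simp
      rw [e3, neg_neg] at e2
      have e4 : nE X Y (-c⁻¹) * nE X Y 1 = hE X Y c⁻¹ := by
        rw [R.n_mul_n_one _ hs, neg_neg]
      have hcd : c / d ≠ 0 := div_ne_zero hc hd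
      calc X (-b / -d) * nE X Y (-(-d)⁻¹) * X (c / -d)
          = X (a / c) * (X (-(c⁻¹ * c⁻¹ * (c / d))) * nE X Y (c⁻¹ * (c / d))) * X (-(c / d)) := by
            rw [← mul_assoc, ← R.X_add]
            congr 2
            · congr 1
              field_simp
              linear_combination -hdet
            · congr 1
              field_simp
            · field_simp
        _ = X (a / c) * (hE X Y c⁻¹ * X (-(c / d)) * nE X Y (c / d)) * X (-(c / d)) := by
            rw [R.h_comm_X _ (inv_ne_zero hc), mul_assoc (X _) (hE X Y _) (nE X Y _),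
              R.h_mul_n _ _ (inv_ne_zero hc) hcd]
            congr 4
            ring
        _ = X (a / c) * nE X Y (-c⁻¹) * (nE X Y 1 * Y (-(d / c))) := by
            rw [e2, ← e4]
            group
        _ = X (a / c) * nE X Y (-c⁻¹) * X (d / c) * nE X Y 1 := by
            rw [← e1]
            group

end

end Cfsg.Agent.Lib.Helper3.SL2P
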