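import Mathlib
import Cfsg.Agent.Lib.Helper3.SL2Pres2
set_option autoImplicit false
set_option linter.unusedSectionVars false

/-!
The homomorphism `SL₂(F) → Γ` defined by root elements satisfying the relations of `SL₂(F)`.
-/

namespace Cfsg.Agent.Lib.Helper3.SL2P

section
variable {F : Type*} [Field F]

theorem yE_eq (u : F) : yE u = wE * xE (-u) * (wE (F := F))⁻¹ := by
  rw [eq_mul_inv_iff_mul_eq]
  apply Subtype.ext
  show (yE u).1 * (wE (F := F)).1 = (wE (F := F)).1 * (xE (-u)).1
  ext i j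
  fin_cases i <;> fin_cases j <;> simp [yE, wE, xE, Matrix.mul_apply, Fin.sum_univ_two]

/-- the generators -/
def gens (F : Type*) [Field F] : Set (Matrix.SpecialLinearGroup (Fin 2) F) :=
  {g | (∃ t : F, g = xE t) ∨ g = wE}

theorem decomp (g : Matrix.SpecialLinearGroup (Fin 2) F) (hc : g.1 1 0 ≠ 0) :
    g = xE ((g.1 0 0 - 1) / g.1 1 0) * yE (g.1 1 0) * xE ((g.1 1 1 - 1) / g.1 1 0) := by
  have hdet := det_eq g
  apply Subtype.ext
  show g.1 = (xE ((g.1 0 0 - 1) / g.1 1 0)).1 * (yE (g.1 1 0)).1 * (xE ((g.1 1 1 - 1) / g.1 1 0)).1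
  ext i j
  fin_cases i <;> fin_cases j
  · simp [yE, xE, Matrix.mul_apply, Fin.sum_univ_two]
    field_simp
    ring
  · simp [yE, xE, Matrix.mul_apply, Fin.sum_univ_two]
    field_simp
    linear_combination -hdet
  · simp [yE, xE, Matrix.mul_apply, Fin.sum_univ_two]
  · simp [yE, xE, Matrix.mul_apply, Fin.sum_univ_two]
    field_simp
    ring

theorem closure_gens : Subgroup.closure (gens F) = ⊤ := by
  rw [eq_top_iff]
  intro g _
  have hx : ∀ t : F, xE t ∈ Subgroup.closure (gens F) := fun t => Subgroup.subset_closure (Or.inl ⟨t, rfl⟩)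
  have hw : (wE (F := F)) ∈ Subgroup.closure (gens F) := Subgroup.subset_closure (Or.inr rfl)
  have hy : ∀ t : F, yE t ∈ Subgroup.closure (gens F) := by
    intro t
    rw [yE_eq]
    exact Subgroup.mul_mem _ (Subgroup.mul_mem _ hw (hx _)) (Subgroup.inv_mem _ hw)
  have key : ∀ g : Matrix.SpecialLinearGroup (Fin 2) F, g.1 1 0 ≠ 0 → g ∈ Subgroup.closure (gens F) := by
    intro g hc
    rw [decomp g hc]
    exact Subgroup.mul_mem _ (Subgroup.mul_mem _ (hx _) (hy _)) (hx _)
  by_cases hc : g.1 1 0 = 0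
  · have hdet := det_eq g
    have hd : g.1 1 1 ≠ 0 := by
      intro h
      rw [h, hc] at hdet
      simp at hdet
    have h1 : g * wE ∈ Subgroup.closure (gens F) := by
      apply key
      rw [mul_wE_10]
      exact neg_ne_zero.mpr hd
    have : g = g * wE * (wE (F := F))⁻¹ := by group
    rw [this]
    exact Subgroup.mul_mem _ h1 (Subgroup.inv_mem _ hw)
  · exact key g hc

end

section
variable {F : Type*} [Field F] {Γ : Type*} [Group Γ] {X Y : F → Γ} (R : Rel X Y)
include R

theorem phiFun_mul (g g' : Matrix.SpecialLinearGroup (Fin 2) F) :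
    phiFun X Y (g * g') = phiFun X Y g * phiFun X Y g' := by
  have hmem : g' ∈ Subgroup.closure (gens F) := by
    rw [closure_gens]
    exact Subgroup.mem_top _
  revert g
  induction hmem using Subgroup.closure_induction with
  | mem x hx =>
    intro g
    rcases hx with ⟨t, rfl⟩ | rfl
    · rw [phiFun_mul_xE R, phiFun_xE R]
    · rw [phiFun_mul_wE R, phiFun_wE R]
  | one =>
    intro g
    rw [mul_one, phiFun_one R, mul_one]
  | mul x y _ _ ihx ihy =>
    intro g
    rw [← mul_assoc, ihy, ihx, ihy x, mul_assoc]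
  | inv x _ ih =>
    intro g
    have h1 : phiFun X Y x⁻¹ * phiFun X Y x = 1 := by
      rw [← ih, inv_mul_cancel, phiFun_one R]
    have h2 : phiFun X Y (g * x⁻¹) * phiFun X Y x = phiFun X Y g := by
      rw [← ih, inv_mul_cancel_right]
    rw [eq_inv_of_mul_eq_one_left h1, ← h2]
    group

/-- the homomorphism -/
noncomputable def phi : Matrix.SpecialLinearGroup (Fin 2) F →* Γ where
  toFun := phiFun X Y
  map_one' := phiFun_one R
  map_mul' := phiFun_mul R

theorem phi_xE (t : F) : phi R (xE t) = X t := phiFun_xE R t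

theorem phi_wE : phi R (wE (F := F)) = nE X Y 1 := phiFun_wE R

theorem phi_yE (t : F) : phi R (yE t) = Y t := by
  rw [yE_eq, map_mul, map_mul, map_inv, phi_xE, phi_wE]
  have h1 := R.conj 1 one_ne_zero (-t)
  rw [h1]
  congr 1
  simp

theorem range_phi : (phi R).range = Subgroup.closure (Set.range X ∪ Set.range Y) := by
  apply le_antisymm
  · rw [MonoidHom.range_eq_map, ← closure_gens, MonoidHom.map_closure, Subgroup.closure_le]
    rintro _ ⟨g, hg, rfl⟩
    have hX : ∀ t, X t ∈ Subgroup.closure (Set.range X ∪ Set.range Y) :=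
      fun t => Subgroup.subset_closure (Or.inl ⟨t, rfl⟩)
    have hY : ∀ t, Y t ∈ Subgroup.closure (Set.range X ∪ Set.range Y) :=
      fun t => Subgroup.subset_closure (Or.inr ⟨t, rfl⟩)
    rcases hg with ⟨t, rfl⟩ | rfl
    · rw [phi_xE]
      exact hX t
    · rw [phi_wE]
      exact Subgroup.mul_mem _ (Subgroup.mul_mem _ (hX _) (hY _)) (hX _)
  · rw [Subgroup.closure_le]
    rintro _ (⟨t, rfl⟩ | ⟨t, rfl⟩)
    · exact ⟨xE t, phi_xE R t⟩
    · exact ⟨yE t, phi_yE R t⟩

end

end Cfsg.Agent.Lib.Helper3.SL2P
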