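import Mathlib
import Cfsg.Prelude.Def_ChevStructure
import Cfsg.Agent.Lib.Helper3.ChevB1
import Cfsg.Agent.Lib.Helper3.ChevG5
import Cfsg.Agent.Lib.Helper3.SL2Pres3
set_option autoImplicit false
set_option linter.unusedSectionVars false
open Cfsg Cfsg.Lie

/-!
The homomorphism from `SL₂(F)` onto the subgroup generated by a pair of opposite root subgroups of a
Chevalley group.
-/

namespace Cfsg.Agent.Lib.Helper3.ChevM

open Cfsg.Agent.Lib.Helper3.SL2P

section
variable {F : Type*} [Field F] {C : CDatum} {R : RelData C}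

theorem RelData.hU_conj_xU (i s : ℕ) (hi : i < C.D.rank) (hs : s < C.D.nroots) (c : F) (hc : c ≠ 0) (t : F) :
    R.hU (C.D.simple i) c * R.xU s t * (R.hU (C.D.simple i) c)⁻¹ = R.xU s (c ^ (C.D.cartan i s) * t) := by
  rw [mul_inv_eq_iff_eq_mul]
  apply Units.ext
  rw [Units.val_mul, Units.val_mul, R.xU_val, R.xU_val, R.hU_val]
  exact R.hMat_mul_x i s hi hs c hc t

/-- the conjugation relation for a fundamental root -/
theorem RelData.sl2_conj_simple
    (hcs : ∀ j < C.D.rank, C.D.cartan j (C.D.neg (C.D.simple j)) = -2)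
    (j : ℕ) (hj : j < C.D.rank) (t : F) (ht : t ≠ 0) (u : F) :
    R.nU (C.D.simple j) t * R.xU (C.D.simple j) u * (R.nU (C.D.simple j) t)⁻¹ =
      R.xU (C.D.neg (C.D.simple j)) (-(t⁻¹ * t⁻¹ * u)) := by
  set p := C.D.simple j with hp
  have hpl : p < C.D.nroots := R.simple_lt j hj
  have hrel := R.conjRel (F := F) j hj
  have h1 := R.conj_units hrel (R.nU p 1) (R.nU_val _ _) p hpl u
  have hrefl : R.refl j p = C.D.neg p := by
    rw [R.refl_eq j hj p hpl]
    simp [ChevalleyDatum.reflectRoot, ← hp]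
  have heta : R.eta j p = -1 := (R.etaSimple j hj).1
  rw [hrefl, heta] at h1
  have h2 := R.hU_conj_xU (F := F) j (C.D.neg p) hj (R.neg_lt p hpl) t ht (((-1 : ℤ) : F) * u)
  rw [hcs j hj] at h2
  rw [R.nU_eq_hU_mul p t]
  have e : R.hU p t * R.nU p 1 * R.xU p u * (R.hU p t * R.nU p 1)⁻¹ =
      R.hU p t * (R.nU p 1 * R.xU p u * (R.nU p 1)⁻¹) * (R.hU p t)⁻¹ := by group
  rw [e, h1, h2]
  congr 1
  have : t ^ (-2 : ℤ) = t⁻¹ * t⁻¹ := by
    rw [zpow_neg, zpow_ofNat, sq, mul_inv]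
  rw [this]
  push_cast
  ring

/-- the conjugation relation for an arbitrary root -/
theorem MonoHyp.sl2_conj (M : MonoHyp C R)
    (hcs : ∀ j < C.D.rank, C.D.cartan j (C.D.neg (C.D.simple j)) = -2)
    (r : ℕ) (hr : r < C.D.nroots) (t : F) (ht : t ≠ 0) (u : F) :
    R.nU r t * R.xU r u * (R.nU r t)⁻¹ = R.xU (C.D.neg r) (-(t⁻¹ * t⁻¹ * u)) := by
  have h := M.rwc r hr
  simp only [rootWordCheck, Bool.and_eq_true, List.all_eq_true, decide_eq_true_eq] at h
  obtain ⟨⟨hl, hj⟩, hr'⟩ := h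
  set l := (M.rw r).1
  set j := (M.rw r).2
  set p := C.D.simple j with hp
  have hpl : p < C.D.nroots := R.simple_lt j hj
  have hnpl : C.D.neg p < C.D.nroots := R.neg_lt p hpl
  set g := R.nWordU (F := F) l with hg
  have hrel := R.conjRel_word (F := F) l hl
  have hnc := R.negCompat_word M.nr l hl
  obtain ⟨hneg1, hneg2⟩ := hnc p hpl
  set η : F := ((etaW R.refl R.eta l p : ℤ) : F) with hη
  have hηη : η * η = 1 := eta_sq (hrel.sign p hpl)
  have hη0 : η ≠ 0 := fun h => by rw [h, zero_mul] at hηη; exact zero_ne_one hηη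
  have hηinv : η⁻¹ = η := inv_eq_of_mul_eq_one_right hηη
  -- the three conjugation formulas
  have cX : ∀ v : F, g * R.xU p (η * v) * g⁻¹ = R.xU r v := by
    intro v
    rw [R.conj_units hrel g (R.nWordU_val l) p hpl, hr', ← mul_assoc, hηη, one_mul]
  have cY : ∀ v : F, g * R.xU (C.D.neg p) (η * v) * g⁻¹ = R.xU (C.D.neg r) v := by
    intro v
    rw [R.conj_units hrel g (R.nWordU_val l) _ hnpl, hneg1, hneg2, hr', ← mul_assoc, hηη, one_mul]
  have cN : g * R.nU p (η * t) * g⁻¹ = R.nU r t := by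
    rw [R.conj_nU hrel hnc g (R.nWordU_val l) p hpl, hr', ← mul_assoc, hηη, one_mul]
  have key := R.sl2_conj_simple (F := F) hcs j hj (η * t) (mul_ne_zero hη0 ht) (η * u)
  rw [← cN, ← cX u, ← cY]
  have e : g * R.nU p (η * t) * g⁻¹ * (g * R.xU p (η * u) * g⁻¹) * (g * R.nU p (η * t) * g⁻¹)⁻¹ =
      g * (R.nU p (η * t) * R.xU p (η * u) * (R.nU p (η * t))⁻¹) * g⁻¹ := by group
  rw [e, key]
  congr 3
  rw [mul_inv, hηinv]
  calc -(η * t⁻¹ * (η * t⁻¹) * (η * u)) = -((η * η) * η * (t⁻¹ * t⁻¹ * u)) := by ring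
    _ = η * -(t⁻¹ * t⁻¹ * u) := by rw [hηη]; ring

/-- the relations of `SL₂` for a pair of opposite root subgroups -/
theorem MonoHyp.sl2_rel (M : MonoHyp C R)
    (hcs : ∀ j < C.D.rank, C.D.cartan j (C.D.neg (C.D.simple j)) = -2)
    (r : ℕ) (hr : r < C.D.nroots) :
    Rel (fun t : F => R.xU r t) (fun t : F => R.xU (C.D.neg r) t) where
  X_add := fun t u => (R.xU_add r t u).symm
  Y_add := fun t u => (R.xU_add _ t u).symm
  conj := by
    intro t ht u
    have e : nE (fun t : F => R.xU r t) (fun t : F => R.xU (C.D.neg r) t) t = R.nU r t := (R.nU_eq r t).symm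
    rw [e]
    exact M.sl2_conj hcs r hr t ht u
  h_mul := by
    intro t u ht hu
    have e : ∀ v : F, hE (fun t : F => R.xU r t) (fun t : F => R.xU (C.D.neg r) t) v = R.hU r v := by
      intro v
      unfold hE
      have e1 : ∀ w : F, nE (fun t : F => R.xU r t) (fun t : F => R.xU (C.D.neg r) t) w = R.nU r w :=
        fun w => (R.nU_eq r w).symm
      rw [e1, e1, R.nU_inv, R.hU_eq]
    rw [e, e, e]
    apply Units.ext
    rw [Units.val_mul, R.hU_val, R.hU_val, R.hU_val, R.hMat_mul r hr t u ht hu]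

/-- the homomorphism from `SL₂(F)` -/
theorem MonoHyp.exists_sl2_hom (M : MonoHyp C R)
    (hcs : ∀ j < C.D.rank, C.D.cartan j (C.D.neg (C.D.simple j)) = -2)
    (r : ℕ) (hr : r < C.D.nroots) :
    ∃ φ : Matrix.SpecialLinearGroup (Fin 2) F →* GL C.D.Idx F,
      φ.range = C.D.rootSubgroup F r ⊔ C.D.rootSubgroup F (C.D.neg r) ∧
      ∀ (g : Matrix.SpecialLinearGroup (Fin 2) F) (t : F),
        ((g : Matrix (Fin 2) (Fin 2) F) = !![1, t; 0, 1] →
          ((φ g : GL C.D.Idx F) : Matrix C.D.Idx C.D.Idx F) = C.D.x F r t) ∧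
        ((g : Matrix (Fin 2) (Fin 2) F) = !![1, 0; t, 1] →
          ((φ g : GL C.D.Idx F) : Matrix C.D.Idx C.D.Idx F) = C.D.x F (C.D.neg r) t) := by
  have hR := M.sl2_rel (F := F) hcs r hr
  refine ⟨phi hR, ?_, ?_⟩
  · rw [range_phi hR]
    unfold ChevalleyDatum.rootSubgroup
    rw [← Subgroup.closure_union]
    congr 1
    ext g
    constructor
    · rintro (⟨t, rfl⟩ | ⟨t, rfl⟩)
      · exact Or.inl ⟨t, R.xU_val r t⟩
      · exact Or.inr ⟨t, R.xU_val _ t⟩
    · rintro (⟨t, ht⟩ | ⟨t, ht⟩)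
      · exact Or.inl ⟨t, Units.ext (by rw [ht, R.xU_val])⟩
      · exact Or.inr ⟨t, Units.ext (by rw [ht, R.xU_val])⟩
  · intro g t
    constructor
    · intro hg
      have : g = xE t := Subtype.ext hg
      rw [this, phi_xE hR, R.xU_val]
    · intro hg
      have : g = yE t := Subtype.ext hg
      rw [this, phi_yE hR, R.xU_val]

end

end Cfsg.Agent.Lib.Helper3.ChevM
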