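import Mathlib
import Cfsg.Prelude.Def_ChevStructure
import Cfsg.Prelude.Def_ChevG2
import Cfsg.Prelude.Def_LieTwisted
import Cfsg.Agent.Lib.Helper3.Ree16
set_option autoImplicit false
set_option linter.unusedSectionVars false
set_option linter.style.haveILetI false
open Cfsg Cfsg.Lie

/-!
A Klein four subgroup of the twisted group of type `G₂`: the involution of the fixed diagonal
subgroup together with the chosen representative of the longest element.
-/

namespace Cfsg.Agent.Lib.Helper3.Ree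

open Cfsg.Agent.Lib.Helper3.ChevM

section
variable {K : Type*} [Field K] [CharP K 3]

/-- the word of `h(a, b) n₀` -/
def hnWord : List (ℕ × ℤ × ℤ × ℤ) :=
  [(7, 1, 1, 0), (4, -1, -1, 0), (7, 1, 1, 0), (7, -1, 0, 0), (4, 1, 0, 0), (7, -1, 0, 0),
   (6, 1, 0, 1), (5, -1, 0, -1), (6, 1, 0, 1), (6, -1, 0, 0), (5, 1, 0, 0), (6, -1, 0, 0),
   (7, 1, 0, 0), (4, -1, 0, 0), (7, 1, 0, 0), (6, 1, 0, 0), (5, -1, 0, 0), (6, 1, 0, 0),
   (7, 1, 0, 0), (4, -1, 0, 0), (7, 1, 0, 0), (6, 1, 0, 0), (5, -1, 0, 0), (6, 1, 0, 0),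
   (7, 1, 0, 0), (4, -1, 0, 0), (7, 1, 0, 0), (6, 1, 0, 0), (5, -1, 0, 0), (6, 1, 0, 0)]

theorem hnWord_eq (a b : K) :
    (hnWord.map fun q => relG2.xU q.1 (((q.2.1 : ℤ) : K) * a ^ q.2.2.1 * b ^ q.2.2.2)).prod =
      hT a b * n0 K := by
  have s0 : cdG2.D.simple 0 = 7 := by decide
  have s1 : cdG2.D.simple 1 = 6 := by decide
  have n7 : cdG2.D.neg 7 = 4 := by decide
  have n6 : cdG2.D.neg 6 = 5 := by decide
  unfold hT n0 w0G2
  rw [relG2.nWordU_cons, relG2.nWordU_cons, relG2.nWordU_cons, relG2.nWordU_cons, relG2.nWordU_cons,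
    relG2.nWordU_cons, relG2.nWordU_nil, relG2.hU_eq, relG2.hU_eq, s0, s1]
  simp only [relG2.nU_eq, n7, n6]
  simp [hnWord, mul_assoc]

theorem hT_n0_sq (a b : K) (ha : a ≠ 0) (hb : b ≠ 0) : (hT a b * n0 K) * (hT a b * n0 K) = 1 := by
  have key := word_eq_of_check a b ha hb (hnWord ++ hnWord) [] (by decide) (by decide) (by decide +kernel)
  rw [List.map_append, List.prod_append, hnWord_eq] at key
  simpa using key

end

section
variable {K : Type*} [Field K] [Fintype K] [CharP K 3]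

/-- the chosen representative of the longest element is an involution -/
theorem n1_sq (m : ℕ) (hK : Fintype.card K = 3 ^ (2 * m + 1)) : n1 m hK * n1 m hK = 1 := by
  obtain ⟨c0, c1, h0, h1', e⟩ := exists_hT (h1 m hK) (h1_mem m hK)
  unfold n1
  rw [e]
  exact hT_n0_sq c0 c1 h0 h1'

theorem neg_one_ne_one_three : (-1 : K) ≠ 1 := by
  intro h
  have h2 : ((2 : ℕ) : K) = 0 := by
    push_cast
    linear_combination -h
  rw [CharP.cast_eq_zero_iff K 3] at h2
  omega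

theorem hRee_neg_one_sq (θ : ℕ) : hRee θ (-1 : K) * hRee θ (-1 : K) = 1 := by
  rw [← hRee_mul θ (-1 : K) (-1) (neg_ne_zero.mpr one_ne_zero) (neg_ne_zero.mpr one_ne_zero)]
  rw [show (-1 : K) * -1 = 1 by ring, hRee_one]

theorem hRee_neg_one_ne (θ : ℕ) : hRee θ (-1 : K) ≠ 1 := by
  intro h
  rw [← hRee_one (K := K) θ] at h
  exact neg_one_ne_one_three (hRee_inj θ _ _ (neg_ne_zero.mpr one_ne_zero) one_ne_zero h)

theorem n1_not_mem_diag (m : ℕ) (hK : Fintype.card K = 3 ^ (2 * m + 1)) :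
    n1 m hK ∉ cdG2.D.diagonalSubgroup K := by
  have := hRee_mul_n1_not_mem m hK 1 one_ne_zero
  rwa [hRee_one, one_mul] at this

/-- the representative of the longest element commutes with the involution of the diagonal subgroup -/
theorem n1_comm_hRee_neg_one (m : ℕ) (hK : Fintype.card K = 3 ^ (2 * m + 1)) :
    n1 m hK * hRee (3 ^ m) (-1 : K) = hRee (3 ^ m) (-1 : K) * n1 m hK := by
  have hne : (-1 : K) ≠ 0 := neg_ne_zero.mpr one_ne_zero
  obtain ⟨s, hs, e⟩ := (mem_diag_inf_tG2 m hK _).mp (n1_conj_hRee m hK (-1) hne)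
  have hsq : hRee (3 ^ m) s * hRee (3 ^ m) s = 1 := by
    rw [← e]
    have : n1 m hK * hRee (3 ^ m) (-1 : K) * (n1 m hK)⁻¹ * (n1 m hK * hRee (3 ^ m) (-1 : K) * (n1 m hK)⁻¹) =
        n1 m hK * (hRee (3 ^ m) (-1 : K) * hRee (3 ^ m) (-1 : K)) * (n1 m hK)⁻¹ := by group
    rw [this, hRee_neg_one_sq, mul_one, mul_inv_cancel]
  rw [← hRee_mul _ s s hs hs, ← hRee_one (K := K) (3 ^ m)] at hsq
  have hss : s * s = 1 := hRee_inj _ _ _ (mul_ne_zero hs hs) one_ne_zero hsq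
  have hcases : s = 1 ∨ s = -1 := by
    have : (s - 1) * (s + 1) = 0 := by linear_combination hss
    rcases mul_eq_zero.mp this with h | h
    · exact Or.inl (by linear_combination h)
    · exact Or.inr (by linear_combination h)
  rcases hcases with rfl | rfl
  · exfalso
    rw [hRee_one] at e
    apply hRee_neg_one_ne (K := K) (3 ^ m)
    have := congrArg (fun x => (n1 m hK)⁻¹ * x * n1 m hK) e
    simpa [mul_assoc] using this
  · exact mul_inv_eq_iff_eq_mul.mp e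

/-- a Klein four subgroup of the twisted group of type `G₂` -/
theorem ree_klein_four (m : ℕ) (hK : Fintype.card K = 3 ^ (2 * m + 1)) :
    ∃ a b : GL cdG2.D.Idx K, a ∈ tG2 K (3 ^ m) ∧ b ∈ tG2 K (3 ^ m) ∧ a ≠ 1 ∧ b ≠ 1 ∧ a ≠ b ∧
      a * a = 1 ∧ b * b = 1 ∧ a * b = b * a := by
  have hne : (-1 : K) ≠ 0 := neg_ne_zero.mpr one_ne_zero
  refine ⟨hRee (3 ^ m) (-1), n1 m hK, hRee_mem_tG2 m hK _ hne, n1_mem_tG2 m hK, hRee_neg_one_ne _, ?_, ?_,
    hRee_neg_one_sq _, n1_sq m hK, (n1_comm_hRee_neg_one m hK).symm⟩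
  · intro h
    apply n1_not_mem_diag m hK
    rw [h]
    exact Subgroup.one_mem _
  · intro h
    apply n1_not_mem_diag m hK
    rw [← h]
    exact hT_mem _ _ (pow_ne_zero _ hne) hne

/-- a Klein four subgroup of the twisted group of type `G₂`, in the group itself -/
theorem ree_klein_four' (m : ℕ) (hK : Fintype.card K = 3 ^ (2 * m + 1)) :
    ∃ a b : ↥(Cfsg.Lie.twistedG2 K (3 ^ m)), a ≠ 1 ∧ b ≠ 1 ∧ a ≠ b ∧ a * a = 1 ∧ b * b = 1 ∧ a * b = b * a := by
  obtain ⟨a, b, ha, hb, h1, h2, h3, h4, h5, h6⟩ := ree_klein_four (K := K) m hK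
  refine ⟨⟨a, ha⟩, ⟨b, hb⟩, ?_, ?_, ?_, ?_, ?_, ?_⟩
  · intro h; exact h1 (congrArg Subtype.val h)
  · intro h; exact h2 (congrArg Subtype.val h)
  · intro h; exact h3 (congrArg Subtype.val h)
  · exact Subtype.ext h4
  · exact Subtype.ext h5
  · exact Subtype.ext h6

end

end Cfsg.Agent.Lib.Helper3.Ree
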