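import Mathlib
import Cfsg.Agent.Lib.Helper3.SL2Pres3
set_option autoImplicit false
set_option linter.unusedSectionVars false

/-!
The diagonal product of two commuting systems of root elements satisfying the relations of `SL₂(F)`,
one of them twisted by a field endomorphism, again satisfies these relations.
-/

namespace Cfsg.Agent.Lib.Helper3.SL2P

section
variable {F : Type*} [Field F] {Γ : Type*} [Group Γ]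

theorem six_mul {M : Type*} [Monoid M] (a b c d e f : M) (hba : Commute b c) (hbe : Commute b e)
    (hde : Commute d e) :
    a * b * c * d * e * f = (a * c * e) * (b * d * f) := by
  simp only [mul_assoc]
  rw [hde.left_comm, hba.left_comm, hbe.left_comm]

variable {X₁ Y₁ X₂ Y₂ : F → Γ}

theorem nE_prod (φ : F →+* F)
    (cXX : ∀ s t, Commute (X₁ s) (X₂ t)) (cXY : ∀ s t, Commute (X₁ s) (Y₂ t))
    (cYX : ∀ s t, Commute (Y₁ s) (X₂ t)) (t : F) :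
    nE (fun t => X₁ (φ t) * X₂ t) (fun t => Y₁ (φ t) * Y₂ t) t = nE X₁ Y₁ (φ t) * nE X₂ Y₂ t := by
  unfold nE
  have e : φ (-t⁻¹) = -(φ t)⁻¹ := by rw [map_neg, map_inv₀]
  simp only [e]
  have := six_mul (X₁ (φ t)) (X₂ t) (Y₁ (-(φ t)⁻¹)) (Y₂ (-t⁻¹)) (X₁ (φ t)) (X₂ t)
    (cYX _ _).symm (cXX _ _).symm (cXY _ _).symm
  simpa only [mul_assoc] using this

theorem comm_nE_left
    (cXX : ∀ s t, Commute (X₁ s) (X₂ t)) (cYX : ∀ s t, Commute (Y₁ s) (X₂ t)) (s t : F) :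
    Commute (nE X₁ Y₁ s) (X₂ t) := by
  unfold nE
  exact ((cXX _ _).mul_left (cYX _ _)).mul_left (cXX _ _)

theorem comm_nE_right
    (cXX : ∀ s t, Commute (X₁ s) (X₂ t)) (cXY : ∀ s t, Commute (X₁ s) (Y₂ t)) (s t : F) :
    Commute (X₁ s) (nE X₂ Y₂ t) := by
  unfold nE
  exact ((cXX _ _).mul_right (cXY _ _)).mul_right (cXX _ _)

theorem comm_nE_nE
    (cXX : ∀ s t, Commute (X₁ s) (X₂ t)) (cXY : ∀ s t, Commute (X₁ s) (Y₂ t))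
    (cYX : ∀ s t, Commute (Y₁ s) (X₂ t)) (cYY : ∀ s t, Commute (Y₁ s) (Y₂ t)) (s t : F) :
    Commute (nE X₁ Y₁ s) (nE X₂ Y₂ t) := by
  have h1 : ∀ u, Commute (nE X₁ Y₁ s) (X₂ u) := fun u => comm_nE_left cXX cYX s u
  have h2 : ∀ u, Commute (nE X₁ Y₁ s) (Y₂ u) := by
    intro u
    unfold nE
    exact ((cXY _ _).mul_left (cYY _ _)).mul_left (cXY _ _)
  unfold nE at *
  exact ((h1 _).mul_right (h2 _)).mul_right (h1 _)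

theorem hE_prod (φ : F →+* F)
    (cXX : ∀ s t, Commute (X₁ s) (X₂ t)) (cXY : ∀ s t, Commute (X₁ s) (Y₂ t))
    (cYX : ∀ s t, Commute (Y₁ s) (X₂ t)) (cYY : ∀ s t, Commute (Y₁ s) (Y₂ t)) (t : F) :
    hE (fun t => X₁ (φ t) * X₂ t) (fun t => Y₁ (φ t) * Y₂ t) t = hE X₁ Y₁ (φ t) * hE X₂ Y₂ t := by
  unfold hE
  rw [nE_prod φ cXX cXY cYX, nE_prod φ cXX cXY cYX, map_one]
  have c1 := comm_nE_nE cXX cXY cYX cYY (1 : F) (1 : F)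
  have c2 := comm_nE_nE cXX cXY cYX cYY (1 : F) t
  rw [mul_inv_rev]
  have c3 : Commute (nE X₂ Y₂ t) (nE X₁ Y₁ 1)⁻¹ := c2.symm.inv_right
  have c4 : Commute (nE X₂ Y₂ 1)⁻¹ (nE X₁ Y₁ 1)⁻¹ := c1.symm.inv_inv
  calc nE X₁ Y₁ (φ t) * nE X₂ Y₂ t * ((nE X₂ Y₂ 1)⁻¹ * (nE X₁ Y₁ 1)⁻¹)
      = nE X₁ Y₁ (φ t) * nE X₂ Y₂ t * ((nE X₁ Y₁ 1)⁻¹ * (nE X₂ Y₂ 1)⁻¹) := by rw [c4.eq]
    _ = nE X₁ Y₁ (φ t) * (nE X₂ Y₂ t * (nE X₁ Y₁ 1)⁻¹) * (nE X₂ Y₂ 1)⁻¹ := by group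
    _ = nE X₁ Y₁ (φ t) * ((nE X₁ Y₁ 1)⁻¹ * nE X₂ Y₂ t) * (nE X₂ Y₂ 1)⁻¹ := by rw [c3.eq]
    _ = _ := by group

/-- the diagonal product of two commuting systems -/
theorem Rel.prod (R₁ : Rel X₁ Y₁) (R₂ : Rel X₂ Y₂) (φ : F →+* F)
    (cXX : ∀ s t, Commute (X₁ s) (X₂ t)) (cXY : ∀ s t, Commute (X₁ s) (Y₂ t))
    (cYX : ∀ s t, Commute (Y₁ s) (X₂ t)) (cYY : ∀ s t, Commute (Y₁ s) (Y₂ t)) :
    Rel (fun t => X₁ (φ t) * X₂ t) (fun t => Y₁ (φ t) * Y₂ t) where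
  X_add := by
    intro t u
    show X₁ (φ (t + u)) * X₂ (t + u) = X₁ (φ t) * X₂ t * (X₁ (φ u) * X₂ u)
    rw [map_add, R₁.X_add, R₂.X_add]
    have c := cXX (φ u) t
    calc X₁ (φ t) * X₁ (φ u) * (X₂ t * X₂ u) = X₁ (φ t) * (X₁ (φ u) * X₂ t) * X₂ u := by group
      _ = X₁ (φ t) * (X₂ t * X₁ (φ u)) * X₂ u := by rw [c.eq]
      _ = _ := by group
  Y_add := by
    intro t u
    show Y₁ (φ (t + u)) * Y₂ (t + u) = Y₁ (φ t) * Y₂ t * (Y₁ (φ u) * Y₂ u)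
    rw [map_add, R₁.Y_add, R₂.Y_add]
    have c := cYY (φ u) t
    calc Y₁ (φ t) * Y₁ (φ u) * (Y₂ t * Y₂ u) = Y₁ (φ t) * (Y₁ (φ u) * Y₂ t) * Y₂ u := by group
      _ = Y₁ (φ t) * (Y₂ t * Y₁ (φ u)) * Y₂ u := by rw [c.eq]
      _ = _ := by group
  conj := by
    intro t ht u
    rw [nE_prod φ cXX cXY cYX]
    show nE X₁ Y₁ (φ t) * nE X₂ Y₂ t * (X₁ (φ u) * X₂ u) * (nE X₁ Y₁ (φ t) * nE X₂ Y₂ t)⁻¹ =
      Y₁ (φ (-(t⁻¹ * t⁻¹ * u))) * Y₂ (-(t⁻¹ * t⁻¹ * u))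
    have hφt : φ t ≠ 0 := (map_ne_zero φ).mpr ht
    have e : φ (-(t⁻¹ * t⁻¹ * u)) = -((φ t)⁻¹ * (φ t)⁻¹ * φ u) := by
      rw [map_neg, map_mul, map_mul, map_inv₀]
    rw [e, ← R₁.conj (φ t) hφt (φ u), ← R₂.conj t ht u]
    have c1 : Commute (nE X₂ Y₂ t) (X₁ (φ u)) := (comm_nE_right cXX cXY (φ u) t).symm
    have c2 : Commute (nE X₁ Y₁ (φ t)) (nE X₂ Y₂ t) := comm_nE_nE cXX cXY cYX cYY _ _
    have c3 : Commute (nE X₁ Y₁ (φ t)) (X₂ u) := comm_nE_left cXX cYX _ _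
    have c4 : Commute (nE X₁ Y₁ (φ t))⁻¹ (nE X₂ Y₂ t * X₂ u * (nE X₂ Y₂ t)⁻¹) :=
      ((c2.inv_left.mul_right c3.inv_left)).mul_right c2.inv_inv
    calc nE X₁ Y₁ (φ t) * nE X₂ Y₂ t * (X₁ (φ u) * X₂ u) * (nE X₁ Y₁ (φ t) * nE X₂ Y₂ t)⁻¹
        = nE X₁ Y₁ (φ t) * (nE X₂ Y₂ t * X₁ (φ u)) * X₂ u * (nE X₂ Y₂ t)⁻¹ * (nE X₁ Y₁ (φ t))⁻¹ := by group
      _ = nE X₁ Y₁ (φ t) * (X₁ (φ u) * nE X₂ Y₂ t) * X₂ u * (nE X₂ Y₂ t)⁻¹ * (nE X₁ Y₁ (φ t))⁻¹ := by rw [c1.eq]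
      _ = nE X₁ Y₁ (φ t) * X₁ (φ u) * ((nE X₂ Y₂ t * X₂ u * (nE X₂ Y₂ t)⁻¹) * (nE X₁ Y₁ (φ t))⁻¹) := by group
      _ = nE X₁ Y₁ (φ t) * X₁ (φ u) * ((nE X₁ Y₁ (φ t))⁻¹ * (nE X₂ Y₂ t * X₂ u * (nE X₂ Y₂ t)⁻¹)) := by rw [c4.eq]
      _ = _ := by group
  h_mul := by
    intro t u ht hu
    rw [hE_prod φ cXX cXY cYX cYY, hE_prod φ cXX cXY cYX cYY, hE_prod φ cXX cXY cYX cYY, map_mul,
      R₁.h_mul _ _ ((map_ne_zero φ).mpr ht) ((map_ne_zero φ).mpr hu), R₂.h_mul _ _ ht hu]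
    have c : Commute (hE X₁ Y₁ (φ u)) (hE X₂ Y₂ t) := by
      unfold hE
      exact ((comm_nE_nE cXX cXY cYX cYY _ _).mul_right (comm_nE_nE cXX cXY cYX cYY _ _).inv_right).mul_left
        ((comm_nE_nE cXX cXY cYX cYY _ _).inv_left.mul_right (comm_nE_nE cXX cXY cYX cYY _ _).inv_inv)
    calc hE X₁ Y₁ (φ t) * hE X₁ Y₁ (φ u) * (hE X₂ Y₂ t * hE X₂ Y₂ u)
        = hE X₁ Y₁ (φ t) * (hE X₁ Y₁ (φ u) * hE X₂ Y₂ t) * hE X₂ Y₂ u := by group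
      _ = hE X₁ Y₁ (φ t) * (hE X₂ Y₂ t * hE X₁ Y₁ (φ u)) * hE X₂ Y₂ u := by rw [c.eq]
      _ = _ := by group

end

end Cfsg.Agent.Lib.Helper3.SL2P
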