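import Mathlib
import Cfsg.Agent.Lib.Helper3.Ree27
import Cfsg.Agent.Lib.Helper3.SL2Pres4
import Cfsg.Agent.Lib.Helper3.ChevSL2
import Cfsg.Agent.Lib.Helper3.ChevData.G2Mono
set_option autoImplicit false
set_option linter.unusedSectionVars false
set_option linter.style.haveILetI false
open Cfsg Cfsg.Lie

/-!
The homomorphism from `SL₂(K)` into the centralizer of the involution of the diagonal subgroup of the
twisted group of type `G₂`.
-/

namespace Cfsg.Agent.Lib.Helper3.Ree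

open Cfsg.Agent.Lib.Helper3.ChevM Cfsg.Agent.Lib.Helper3.SL2P

section
variable {K : Type*} [Field K] [CharP K 3]

theorem comm_mixed (r s : ℕ) (h : (r = 8 ∧ s = 1) ∨ (r = 3 ∧ s = 10)) (c c' : K) :
    relG2.xU r c * relG2.xU s c' = relG2.xU s c' * relG2.xU r c := by
  by_cases hc : c = 0
  · subst hc
    simp [xU_zero]
  by_cases hc' : c' = 0
  · subst hc'
    simp [xU_zero]
  rcases h with ⟨rfl, rfl⟩ | ⟨rfl, rfl⟩
  · have := word_eq_of_check c c' hc hc' [(8, 1, 1, 0), (1, 1, 0, 1)] [(1, 1, 0, 1), (8, 1, 1, 0)]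
      (by decide) (by decide) (by decide +kernel)
    simpa using this
  · have := word_eq_of_check c c' hc hc' [(3, 1, 1, 0), (10, 1, 0, 1)] [(10, 1, 0, 1), (3, 1, 1, 0)]
      (by decide) (by decide) (by decide +kernel)
    simpa using this

theorem rel8 : Rel (fun t : K => relG2.xU 8 t) (fun t : K => relG2.xU 3 t) := by
  have h := monoG2.sl2_rel (F := K) (by decide +kernel) 8 (by decide)
  have e : cdG2.D.neg 8 = 3 := by decide
  rwa [e] at h

theorem rel10 : Rel (fun t : K => relG2.xU 10 t) (fun t : K => relG2.xU 1 t) := by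
  have h := monoG2.sl2_rel (F := K) (by decide +kernel) 10 (by decide)
  have e : cdG2.D.neg 10 = 1 := by decide
  rwa [e] at h

/-- the root elements of the centralizer of the involution -/
def xR (θ : ℕ) (u : K) : GL cdG2.D.Idx K := reeU θ 0 u 0

/-- the opposite root elements of the centralizer of the involution -/
def yR (θ : ℕ) (u : K) : GL cdG2.D.Idx K := reeV θ 0 (-u) 0

theorem xR_eq (θ : ℕ) (hθ : θ ≠ 0) (u : K) : xR θ u = relG2.xU 8 (u ^ θ) * relG2.xU 10 u := by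
  unfold xR
  rw [reeU_coe]
  simp [xU_zero, zero_pow hθ]

theorem yR_eq (θ : ℕ) (hθ : θ ≠ 0) (hodd : Odd θ) (u : K) : yR θ u = relG2.xU 3 (u ^ θ) * relG2.xU 1 u := by
  unfold yR reeV RSys.ree
  simp only [reeSysNeg, Subgroup.coe_mul]
  show relG2.xU 4 _ * relG2.xU 5 _ * relG2.xU 3 _ * relG2.xU 2 _ * relG2.xU 1 _ * relG2.xU 0 _ = _
  simp [xU_zero, zero_pow hθ, hodd.neg_pow]

theorem relR (m : ℕ) : Rel (xR (K := K) (3 ^ m)) (yR (K := K) (3 ^ m)) := by
  haveI : ExpChar K 3 := ExpChar.prime Nat.prime_three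
  have hθ : (3 : ℕ) ^ m ≠ 0 := three_pow_ne_zero m
  have hodd : Odd ((3 : ℕ) ^ m) := Odd.pow (by decide)
  have R := Rel.prod (rel8 (K := K)) (rel10 (K := K)) (iterateFrobenius K 3 m)
    (fun s t => comm_high 8 10 (by decide) (by decide) s t)
    (fun s t => comm_mixed 8 1 (Or.inl ⟨rfl, rfl⟩) s t)
    (fun s t => comm_mixed 3 10 (Or.inr ⟨rfl, rfl⟩) s t)
    (fun s t => comm_low 3 1 (by decide) (by decide) s t)
  have e1 : xR (K := K) (3 ^ m) = fun t => relG2.xU 8 (iterateFrobenius K 3 m t) * relG2.xU 10 t := by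
    funext u
    rw [xR_eq _ hθ, iterateFrobenius_def]
  have e2 : yR (K := K) (3 ^ m) = fun t => relG2.xU 3 (iterateFrobenius K 3 m t) * relG2.xU 1 t := by
    funext u
    rw [yR_eq _ hθ hodd, iterateFrobenius_def]
  rw [e1, e2]
  exact R

theorem nR_sq (m : ℕ) :
    nE (xR (K := K) (3 ^ m)) (yR (K := K) (3 ^ m)) 1 * nE (xR (K := K) (3 ^ m)) (yR (K := K) (3 ^ m)) 1 = 1 := by
  have hθ : (3 : ℕ) ^ m ≠ 0 := three_pow_ne_zero m
  have hodd : Odd ((3 : ℕ) ^ m) := Odd.pow (by decide)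
  unfold nE
  rw [xR_eq _ hθ, yR_eq _ hθ hodd]
  have := word_eq_of_check (1 : K) 1 one_ne_zero one_ne_zero
    [(8, 1, 0, 0), (10, 1, 0, 0), (3, -1, 0, 0), (1, -1, 0, 0), (8, 1, 0, 0), (10, 1, 0, 0),
     (8, 1, 0, 0), (10, 1, 0, 0), (3, -1, 0, 0), (1, -1, 0, 0), (8, 1, 0, 0), (10, 1, 0, 0)] []
    (by decide) (by decide) (by decide +kernel)
  have e : ∀ c : K, c * 1 ^ (0 : ℤ) * 1 ^ (0 : ℤ) = c := by intro c; simp
  simp only [List.map_cons, List.map_nil, List.prod_cons, List.prod_nil, Int.cast_one, Int.cast_neg, e,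
    mul_one] at this
  rw [← this]
  simp only [one_pow, inv_one, hodd.neg_pow, mul_assoc]

theorem hR_neg_one (m : ℕ) : hE (xR (K := K) (3 ^ m)) (yR (K := K) (3 ^ m)) (-1) = 1 := by
  rw [← (relR m).n_one_sq, nR_sq]

/-- the homomorphism from `SL₂(K)` into the centralizer of the involution -/
noncomputable def phiR (m : ℕ) : Matrix.SpecialLinearGroup (Fin 2) K →* GL cdG2.D.Idx K := phi (relR m)

theorem phiR_xE (m : ℕ) (t : K) : phiR m (xE t) = xR (3 ^ m) t := phi_xE (relR m) t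

theorem phiR_yE (m : ℕ) (t : K) : phiR m (yE t) = yR (3 ^ m) t := phi_yE (relR m) t

theorem phiR_wE_sq (m : ℕ) : phiR (K := K) m (wE * wE) = 1 := by
  rw [map_mul]
  unfold phiR
  rw [phi_wE, nR_sq]

theorem phiR_mem (m : ℕ) (g : Matrix.SpecialLinearGroup (Fin 2) K) : phiR m g ∈ tG2 K (3 ^ m) := by
  have h : (phiR (K := K) m).range ≤ tG2 K (3 ^ m) := by
    unfold phiR
    rw [range_phi, Subgroup.closure_le]
    rintro _ (⟨t, rfl⟩ | ⟨t, rfl⟩)
    · exact reeU_mem_tG2 _ _ _ _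
    · exact reeV_mem_tG2 _ _ _ _
  exact h ⟨g, rfl⟩

theorem range_phiR (m : ℕ) :
    (phiR (K := K) m).range = Subgroup.closure (Set.range (xR (K := K) (3 ^ m)) ∪ Set.range (yR (K := K) (3 ^ m))) :=
  range_phi (relR m)

/-- the involution of the diagonal subgroup commutes with the four root subgroups -/
theorem zR_comm_xU (θ : ℕ) (hodd : Odd θ) (s : ℕ) (hs : s ∈ [8, 10, 3, 1]) (t : K) :
    hRee θ (-1 : K) * relG2.xU s t = relG2.xU s t * hRee θ (-1 : K) := by
  have hne : (-1 : K) ≠ 0 := neg_ne_zero.mpr one_ne_zero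
  have hlt : s < cdG2.D.nroots := by
    simp only [List.mem_cons, List.not_mem_nil, or_false] at hs
    rcases hs with rfl | rfl | rfl | rfl <;> decide
  have h := hT_conj' ((-1 : K) ^ θ) (-1) (pow_ne_zero _ hne) hne s hlt t
  have hchi : chi ((-1 : K) ^ θ) (-1) s = 1 := by
    rw [hodd.neg_one_pow]
    unfold chi
    simp only [List.mem_cons, List.not_mem_nil, or_false] at hs
    rcases hs with rfl | rfl | rfl | rfl
    · rw [show cdG2.D.cartan 0 8 = -1 by decide, show cdG2.D.cartan 1 8 = 1 by decide]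
      simp
    · rw [show cdG2.D.cartan 0 10 = 3 by decide, show cdG2.D.cartan 1 10 = -1 by decide]
      norm_num
    · rw [show cdG2.D.cartan 0 3 = 1 by decide, show cdG2.D.cartan 1 3 = -1 by decide]
      simp
    · rw [show cdG2.D.cartan 0 1 = -3 by decide, show cdG2.D.cartan 1 1 = 1 by decide]
      norm_num
  rw [hchi, one_mul] at h
  unfold hRee
  have h2 : hT ((-1 : K) ^ θ) (-1) * relG2.xU s t * (hT ((-1 : K) ^ θ) (-1))⁻¹ = relG2.xU s t := h
  exact mul_inv_eq_iff_eq_mul.mp h2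

theorem zR_comm_xR (m : ℕ) (u : K) :
    hRee (3 ^ m) (-1 : K) * xR (3 ^ m) u = xR (3 ^ m) u * hRee (3 ^ m) (-1 : K) := by
  have hθ : (3 : ℕ) ^ m ≠ 0 := three_pow_ne_zero m
  have hodd : Odd ((3 : ℕ) ^ m) := Odd.pow (by decide)
  rw [xR_eq _ hθ, ← mul_assoc, zR_comm_xU _ hodd 8 (by decide), mul_assoc, zR_comm_xU _ hodd 10 (by decide),
    mul_assoc]

theorem zR_comm_yR (m : ℕ) (u : K) :
    hRee (3 ^ m) (-1 : K) * yR (3 ^ m) u = yR (3 ^ m) u * hRee (3 ^ m) (-1 : K) := by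
  have hθ : (3 : ℕ) ^ m ≠ 0 := three_pow_ne_zero m
  have hodd : Odd ((3 : ℕ) ^ m) := Odd.pow (by decide)
  rw [yR_eq _ hθ hodd, ← mul_assoc, zR_comm_xU _ hodd 3 (by decide), mul_assoc, zR_comm_xU _ hodd 1 (by decide),
    mul_assoc]

theorem zR_comm_phiR (m : ℕ) (g : Matrix.SpecialLinearGroup (Fin 2) K) :
    hRee (3 ^ m) (-1 : K) * phiR m g = phiR m g * hRee (3 ^ m) (-1 : K) := by
  have h : (phiR (K := K) m).range ≤ Subgroup.centralizer {hRee (3 ^ m) (-1 : K)} := by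
    rw [range_phiR, Subgroup.closure_le]
    rintro _ (⟨t, rfl⟩ | ⟨t, rfl⟩)
    · intro z hz
      rw [Set.mem_singleton_iff] at hz
      subst hz
      exact zR_comm_xR m t
    · intro z hz
      rw [Set.mem_singleton_iff] at hz
      subst hz
      exact zR_comm_yR m t
  exact h ⟨g, rfl⟩ _ rfl

end

section
variable {K : Type*} [Field K] [Fintype K] [CharP K 3]

theorem xR_ne_one (m : ℕ) (c : K) (hc : c ≠ 0) : xR (3 ^ m) c ≠ 1 := by
  intro h
  unfold xR at h
  rw [← reeU_zero (K := K) (3 ^ m) (three_pow_ne_zero m)] at h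
  exact hc (reeU_inj _ _ _ _ _ _ _ h).2.1

theorem yR_ne_one (m : ℕ) (c : K) (hc : c ≠ 0) : yR (3 ^ m) c ≠ 1 := by
  intro h
  have h1 := (relR (K := K) m).conjY 1 one_ne_zero c
  rw [h, mul_one, mul_inv_cancel] at h1
  exact xR_ne_one m (-(1 * 1 * c)) (by simpa using hc) h1.symm

theorem phiR_not_mem_borel (m : ℕ) (g : Matrix.SpecialLinearGroup (Fin 2) K) (hc : g.1 1 0 ≠ 0) :
    phiR m g ∉ cdG2.D.borelSubgroup K := by
  intro hmem
  rw [decomp g hc, map_mul, map_mul, phiR_xE, phiR_xE, phiR_yE] at hmem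
  have hx : ∀ t : K, xR (3 ^ m) t ∈ cdG2.D.borelSubgroup K :=
    fun t => Subgroup.mem_sup_left (reeU_mem_pos _ _ _ _)
  have hy : yR (3 ^ m) (g.1 1 0) ∈ cdG2.D.borelSubgroup K := by
    have := Subgroup.mul_mem _ (Subgroup.mul_mem _ (Subgroup.inv_mem _ (hx ((g.1 0 0 - 1) / g.1 1 0))) hmem)
      (Subgroup.inv_mem _ (hx ((g.1 1 1 - 1) / g.1 1 0)))
    simpa [mul_assoc] using this
  have h2 : yR (3 ^ m) (g.1 1 0) ∈ cdG2.D.borelSubgroup K ⊓ cdG2.D.negUnipotent K :=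
    ⟨hy, reeV_mem_neg _ _ _ _⟩
  rw [(relG2.borel_inf_neg (F := K) bnG2.dec bnG2.mono.tri atHypG2.ntri).1, Subgroup.mem_bot] at h2
  exact yR_ne_one m _ hc h2

end

end Cfsg.Agent.Lib.Helper3.Ree
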