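import Mathlib
import Cfsg.Agent.Lib.Helper3.Ree28
set_option autoImplicit false
set_option linter.unusedSectionVars false
set_option linter.style.haveILetI false
open Cfsg Cfsg.Lie

/-!
The Sylow `2`-subgroups of the twisted groups of type `G₂` are elementary abelian of order 8.
-/

namespace Cfsg.Agent.Lib.Helper3.Ree

open Cfsg.Agent.Lib.Helper3.ChevM Cfsg.Agent.Lib.Helper3.SL2P
open scoped Pointwise

section abstract
variable {G : Type*} [Group G]

/-- the homomorphism from the group of order two defined by an involution -/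
def invHom (x : G) (hx : x * x = 1) : Multiplicative (ZMod 2) →* G where
  toFun i := x ^ (Multiplicative.toAdd i).val
  map_one' := by simp
  map_mul' := by
    intro i j
    have hx2 : x ^ 2 = 1 := by rw [sq, hx]
    rw [toAdd_mul, ZMod.val_add, ← pow_add]
    exact (pow_eq_pow_mod _ hx2).symm

theorem invHom_apply (x : G) (hx : x * x = 1) (i : Multiplicative (ZMod 2)) :
    invHom x hx i = x ^ (Multiplicative.toAdd i).val := rfl

theorem zmod_two_cases (i : Multiplicative (ZMod 2)) : i = 1 ∨ i = Multiplicative.ofAdd 1 := by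
  revert i
  decide

/-- three commuting independent involutions generate an elementary abelian group of order 8 -/
theorem exists_e8 (B : Subgroup G) (z a b : G) (hz : z ∈ B) (hz1 : z ≠ 1)
    (ha : a ∉ B) (hb : b ∉ B) (hab : a * b ∉ B) (hzz : z * z = 1) (haa : a * a = 1) (hbb : b * b = 1)
    (cza : z * a = a * z) (czb : z * b = b * z) (cab : a * b = b * a) :
    ∃ E : Subgroup G, Nat.card E = 8 ∧ (∀ x ∈ E, x * x = 1) ∧ z ∈ E := by
  have c1 : ∀ m n, Commute (invHom a haa m) (invHom b hbb n) := by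
    intro m n
    rw [invHom_apply, invHom_apply]
    exact Commute.pow_pow cab _ _
  set f23 := (invHom a haa).noncommCoprod (invHom b hbb) c1 with hf23
  have c2 : ∀ m n, Commute (invHom z hzz m) (f23 n) := by
    intro m n
    rw [hf23, MonoidHom.noncommCoprod_apply, invHom_apply, invHom_apply, invHom_apply]
    exact (Commute.pow_pow cza _ _).mul_right (Commute.pow_pow czb _ _)
  set f := (invHom z hzz).noncommCoprod f23 c2 with hf
  have hfa : ∀ i j k, f (i, j, k) = z ^ (Multiplicative.toAdd i).val * (a ^ (Multiplicative.toAdd j).val *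
      b ^ (Multiplicative.toAdd k).val) := by
    intro i j k
    rw [hf, MonoidHom.noncommCoprod_apply, hf23, MonoidHom.noncommCoprod_apply]
    rfl
  have hv1 : (Multiplicative.toAdd (1 : Multiplicative (ZMod 2))).val = 0 := by decide
  have hv2 : (Multiplicative.toAdd (Multiplicative.ofAdd (1 : ZMod 2))).val = 1 := by decide
  have hzinv : z⁻¹ = z := inv_eq_of_mul_eq_one_right hzz
  have hinj : Function.Injective f := by
    rw [injective_iff_map_eq_one]
    rintro ⟨i, j, k⟩ h
    rw [hfa] at h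
    rcases zmod_two_cases i with rfl | rfl <;> rcases zmod_two_cases j with rfl | rfl <;>
      rcases zmod_two_cases k with rfl | rfl <;>
      simp only [hv1, hv2, pow_zero, pow_one, one_mul, mul_one] at h
    · rfl
    · exact (hb (h ▸ B.one_mem)).elim
    · exact (ha (h ▸ B.one_mem)).elim
    · exact (hab (h ▸ B.one_mem)).elim
    · exact (hz1 h).elim
    · exfalso
      apply hb
      have : b = z⁻¹ := eq_inv_of_mul_eq_one_right h
      rw [this]
      exact B.inv_mem hz
    · exfalso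
      apply ha
      have : a = z⁻¹ := eq_inv_of_mul_eq_one_right h
      rw [this]
      exact B.inv_mem hz
    · exfalso
      apply hab
      have : a * b = z⁻¹ := eq_inv_of_mul_eq_one_right h
      rw [this]
      exact B.inv_mem hz
  refine ⟨f.range, ?_, ?_, ?_⟩
  · rw [← Nat.card_congr (MonoidHom.ofInjective hinj).toEquiv, Nat.card_prod, Nat.card_prod]
    simp [Nat.card_eq_fintype_card]
  · rintro _ ⟨p, rfl⟩
    rw [← map_mul]
    have : p * p = 1 := by
      revert p
      decide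
    rw [this, map_one]
  · refine ⟨(Multiplicative.ofAdd 1, 1, 1), ?_⟩
    rw [hfa]
    simp only [hv1, hv2, pow_zero, pow_one, mul_one]

/-- the Sylow `2`-subgroups of a group of order `8k`, `k` odd, containing an elementary abelian subgroup of
order 8 -/
theorem sylow_of_e8 [Finite G] (k : ℕ) (hk : Odd k) (hcard : Nat.card G = 8 * k)
    (E : Subgroup G) (hE : Nat.card E = 8) (hexp : ∀ x ∈ E, x * x = 1) (S : Sylow 2 G) :
    Nat.card S = 8 ∧ ∀ x ∈ S, x * x = 1 := by
  haveI : Fact (Nat.Prime 2) := ⟨Nat.prime_two⟩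
  have hfac : (Nat.card G).factorization 2 = 3 := by
    rw [hcard, show (8 : ℕ) = 2 ^ 3 by norm_num,
      Nat.factorization_mul (by norm_num) (by rintro rfl; exact (by decide : ¬ Odd 0) hk),
      Nat.Prime.factorization_pow Nat.prime_two]
    have : k.factorization 2 = 0 := by
      apply Nat.factorization_eq_zero_of_not_dvd
      intro h
      exact (Nat.not_even_iff_odd.mpr hk) (even_iff_two_dvd.mpr h)
    simp [this]
  set S₀ : Sylow 2 G := Sylow.ofCard E (by rw [hE, hfac]; norm_num) with hS₀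
  constructor
  · rw [Sylow.card_eq_multiplicity, hfac]
    norm_num
  · obtain ⟨g, hg⟩ := MulAction.exists_smul_eq G S₀ S
    intro x hx
    rw [← hg, Sylow.smul_def] at hx
    have hx' : x ∈ (MulAut.conj g) • (S₀ : Subgroup G) := hx
    rw [Subgroup.mem_pointwise_smul_iff_inv_smul_mem] at hx'
    have hx'' : g⁻¹ * x * g ∈ E := by
      simpa [MulAut.smul_def, hS₀] using hx'
    have := hexp _ hx''
    have e : g⁻¹ * x * g * (g⁻¹ * x * g) = g⁻¹ * (x * x) * g := by group
    rw [e] at this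
    have e2 : x * x = g * (g⁻¹ * (x * x) * g) * g⁻¹ := by group
    rw [e2, this]
    group

theorem comm_of_sylow_exp_two [Finite G] (h : ∀ S : Sylow 2 G, ∀ x ∈ S, x * x = 1)
    (Q : Subgroup G) (hQ : IsPGroup 2 ↥Q) (x : G) (hx : x ∈ Q) (y : G) (hy : y ∈ Q) : x * y = y * x := by
  haveI : Fact (Nat.Prime 2) := ⟨Nat.prime_two⟩
  obtain ⟨P, hP⟩ := hQ.exists_le_sylow
  have h1 := h P x (hP hx)
  have h2 := h P y (hP hy)
  have h3 := h P (x * y) (P.mul_mem (hP hx) (hP hy))
  have hx' : x⁻¹ = x := inv_eq_of_mul_eq_one_right h1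
  have hy' : y⁻¹ = y := inv_eq_of_mul_eq_one_right h2
  have hxy : (x * y)⁻¹ = x * y := inv_eq_of_mul_eq_one_right h3
  rw [← hxy, mul_inv_rev, hx', hy']

end abstract

section
variable {K : Type*} [Field K] [CharP K 3]

theorem three_eq_zero : (3 : K) = 0 := by
  have := CharP.cast_eq_zero K 3
  exact_mod_cast this

/-- an element of order four of `SL₂(K)` in characteristic 3 -/
def mE : Matrix.SpecialLinearGroup (Fin 2) K :=
  ⟨!![1, 1; 1, -1], by
    have h3 := three_eq_zero (K := K)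
    rw [Matrix.det_fin_two]
    simp
    linear_combination -h3⟩

theorem mE_sq : (mE : Matrix.SpecialLinearGroup (Fin 2) K) * mE = wE * wE := by
  have h3 := three_eq_zero (K := K)
  apply Subtype.ext
  show (mE (K := K)).1 * (mE (K := K)).1 = (wE (F := K)).1 * (wE (F := K)).1
  ext i j
  fin_cases i <;> fin_cases j <;> simp [mE, wE, Matrix.mul_apply, Fin.sum_univ_two] <;>
    linear_combination h3

theorem wE_mul_mE : (wE : Matrix.SpecialLinearGroup (Fin 2) K) * mE = wE * wE * mE * wE := by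
  have h3 := three_eq_zero (K := K)
  apply Subtype.ext
  show (wE (F := K)).1 * (mE (K := K)).1 =
    (wE (F := K)).1 * (wE (F := K)).1 * (mE (K := K)).1 * (wE (F := K)).1
  ext i j
  fin_cases i <;> fin_cases j <;> simp [mE, wE, Matrix.mul_apply, Fin.sum_univ_two]

theorem wE_10 : (wE (F := K)).1 1 0 ≠ 0 := by
  simp [wE]

theorem mE_10 : (mE (K := K)).1 1 0 ≠ 0 := by
  simp [mE]

theorem wE_mE_10 : ((wE (F := K)) * mE).1 1 0 ≠ 0 := by
  show ((wE (F := K)).1 * (mE (K := K)).1) 1 0 ≠ 0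
  simp [wE, mE, Matrix.mul_apply, Fin.sum_univ_two]

end

section
variable {K : Type*} [Field K] [Fintype K] [CharP K 3]

theorem three_pow_odd_eq (m : ℕ) : ∃ j : ℕ, 3 ^ (2 * m + 1) = 8 * j + 3 := by
  induction m with
  | zero => exact ⟨0, by norm_num⟩
  | succ n ih =>
    obtain ⟨j, hj⟩ := ih
    refine ⟨9 * j + 3, ?_⟩
    rw [show 2 * (n + 1) + 1 = (2 * n + 1) + 2 by ring, pow_add, hj]
    ring

theorem card_tG2_eq (m : ℕ) (hK : Fintype.card K = 3 ^ (2 * m + 1)) :
    ∃ k : ℕ, Odd k ∧ Nat.card ↥(tG2 K (3 ^ m)) = 8 * k := by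
  rw [card_tG2 m hK]
  obtain ⟨j, hj⟩ := three_pow_odd_eq m
  rw [hj]
  refine ⟨(8 * j + 3) ^ 3 * (4 * j + 1) * ((2 * j + 1) * (64 * j ^ 2 + 40 * j + 7)), ?_, ?_⟩
  · refine Odd.mul (Odd.mul (Odd.pow ⟨4 * j + 1, by ring⟩) ⟨2 * j, by ring⟩) (Odd.mul ⟨j, by ring⟩ ?_)
    exact ⟨32 * j ^ 2 + 20 * j + 3, by ring⟩
  · have e1 : 8 * j + 3 - 1 = 2 * (4 * j + 1) := by omega
    rw [e1]
    ring

/-- the Sylow `2`-subgroups of the twisted groups of type `G₂` are elementary abelian of order 8 -/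
theorem ree_sylow_two (m : ℕ) (hK : Fintype.card K = 3 ^ (2 * m + 1))
    (S : Sylow 2 ↥(Cfsg.Lie.twistedG2 K (3 ^ m))) : Nat.card S = 8 ∧ ∀ x ∈ S, x * x = 1 := by
  have hne : (-1 : K) ≠ 0 := neg_ne_zero.mpr one_ne_zero
  obtain ⟨k, hk, hcard⟩ := card_tG2_eq (K := K) m hK
  set z : ↥(tG2 K (3 ^ m)) := ⟨hRee (3 ^ m) (-1 : K), hRee_mem_tG2 m hK _ hne⟩ with hz
  set a : ↥(tG2 K (3 ^ m)) := ⟨phiR m wE, phiR_mem m _⟩ with ha
  set b : ↥(tG2 K (3 ^ m)) := ⟨phiR m mE, phiR_mem m _⟩ with hb
  set B : Subgroup ↥(tG2 K (3 ^ m)) := (cdG2.D.borelSubgroup K).subgroupOf (tG2 K (3 ^ m)) with hB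
  have hzB : z ∈ B := by
    rw [hB, Subgroup.mem_subgroupOf]
    exact Subgroup.mem_sup_right (hT_mem _ _ (pow_ne_zero _ hne) hne)
  have hz1 : z ≠ 1 := fun h => hRee_neg_one_ne (K := K) (3 ^ m) (congrArg Subtype.val h)
  have haB : a ∉ B := by
    rw [hB, Subgroup.mem_subgroupOf]
    exact phiR_not_mem_borel m _ wE_10
  have hbB : b ∉ B := by
    rw [hB, Subgroup.mem_subgroupOf]
    exact phiR_not_mem_borel m _ mE_10
  have habB : a * b ∉ B := by
    rw [hB, Subgroup.mem_subgroupOf]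
    have : ((a * b : ↥(tG2 K (3 ^ m))) : GL cdG2.D.Idx K) = phiR m (wE * mE) := by
      rw [map_mul]
      rfl
    rw [this]
    exact phiR_not_mem_borel m _ wE_mE_10
  have hzz : z * z = 1 := Subtype.ext (hRee_neg_one_sq _)
  have haa : a * a = 1 := by
    apply Subtype.ext
    show phiR m wE * phiR m wE = 1
    rw [← map_mul, phiR_wE_sq]
  have hbb : b * b = 1 := by
    apply Subtype.ext
    show phiR m mE * phiR m mE = 1
    rw [← map_mul, mE_sq, phiR_wE_sq]
  have cza : z * a = a * z := Subtype.ext (zR_comm_phiR m _)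
  have czb : z * b = b * z := Subtype.ext (zR_comm_phiR m _)
  have cab : a * b = b * a := by
    apply Subtype.ext
    show phiR m wE * phiR m mE = phiR m mE * phiR m wE
    rw [← map_mul, wE_mul_mE, map_mul, map_mul, phiR_wE_sq, one_mul]
  obtain ⟨E, hE, hexp, -⟩ := exists_e8 B z a b hzB hz1 haB hbB habB hzz haa hbb cza czb cab
  exact sylow_of_e8 k hk hcard E hE hexp S

/-- the `2`-subgroups of the twisted groups of type `G₂` are abelian -/
theorem ree_two_subgroup_comm (m : ℕ) (hK : Fintype.card K = 3 ^ (2 * m + 1))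
    (Q : Subgroup ↥(Cfsg.Lie.twistedG2 K (3 ^ m))) (hQ : IsPGroup 2 ↥Q)
    (x : ↥(Cfsg.Lie.twistedG2 K (3 ^ m))) (hx : x ∈ Q) (y : ↥(Cfsg.Lie.twistedG2 K (3 ^ m))) (hy : y ∈ Q) :
    x * y = y * x := by
  exact comm_of_sylow_exp_two (fun S => (ree_sylow_two m hK S).2) Q hQ x hx y hy

end
section
variable {K : Type*} [Field K] [Fintype K]

/-- every `2`-subgroup of a twisted group of type `G₂` is abelian (no assumption on the characteristic) -/
theorem ree_abTwo (m : ℕ) (hK : Fintype.card K = 3 ^ (2 * m + 1)) :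
    ∀ Q : Subgroup ↥(Cfsg.Lie.twistedG2 K (3 ^ m)), IsPGroup 2 ↥Q → ∀ x ∈ Q, ∀ y ∈ Q, x * y = y * x := by
  haveI : Fact (Nat.Prime 3) := ⟨by norm_num⟩
  haveI : CharP K 3 := charP_of_card_eq_prime_pow hK
  intro Q hQ x hx y hy
  exact ree_two_subgroup_comm m hK Q hQ x hx y hy

/-- the Sylow `2`-subgroups of a twisted group of type `G₂` are elementary abelian of order 8 (no assumption
on the characteristic) -/
theorem ree_sylow_two' (m : ℕ) (hK : Fintype.card K = 3 ^ (2 * m + 1))
    (S : Sylow 2 ↥(Cfsg.Lie.twistedG2 K (3 ^ m))) : Nat.card S = 8 ∧ ∀ x ∈ S, x * x = 1 := by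
  haveI : Fact (Nat.Prime 3) := ⟨by norm_num⟩
  haveI : CharP K 3 := charP_of_card_eq_prime_pow hK
  exact ree_sylow_two m hK S

end

end Cfsg.Agent.Lib.Helper3.Ree
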