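import Mathlib
import Cfsg.Agent.Lib.Helper3.Ree29
import Cfsg.Agent.Lib.Helper3.Ree21
set_option autoImplicit false
set_option linter.unusedSectionVars false
set_option linter.style.haveILetI false
open Cfsg Cfsg.Lie

/-!
The diagonal part of the twisted group of type `G₂` is generated by its involution and the image of
the diagonal matrices of `SL₂(K)`.
-/

namespace Cfsg.Agent.Lib.Helper3.Ree

open Cfsg.Agent.Lib.Helper3.ChevM Cfsg.Agent.Lib.Helper3.SL2P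

section
variable {K : Type*} [Field K] [CharP K 3]

theorem hE_xU (r nr : ℕ) (h : cdG2.D.neg r = nr) (v : K) :
    hE (fun t : K => relG2.xU r t) (fun t : K => relG2.xU nr t) v = relG2.hU r v := by
  subst h
  unfold hE
  have e1 : ∀ w : K, nE (fun t : K => relG2.xU r t) (fun t : K => relG2.xU (cdG2.D.neg r) t) w = relG2.nU r w :=
    fun w => (relG2.nU_eq r w).symm
  rw [e1, e1, relG2.nU_inv, relG2.hU_eq]

theorem hR_eq_hU (m : ℕ) (t : K) :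
    hE (xR (K := K) (3 ^ m)) (yR (K := K) (3 ^ m)) t = relG2.hU 8 (t ^ 3 ^ m) * relG2.hU 10 t := by
  haveI : ExpChar K 3 := ExpChar.prime Nat.prime_three
  have hθ : (3 : ℕ) ^ m ≠ 0 := three_pow_ne_zero m
  have hodd : Odd ((3 : ℕ) ^ m) := Odd.pow (by decide)
  have e1 : xR (K := K) (3 ^ m) = fun t => relG2.xU 8 (iterateFrobenius K 3 m t) * relG2.xU 10 t := by
    funext u
    rw [xR_eq _ hθ, iterateFrobenius_def]
  have e2 : yR (K := K) (3 ^ m) = fun t => relG2.xU 3 (iterateFrobenius K 3 m t) * relG2.xU 1 t := by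
    funext u
    rw [yR_eq _ hθ hodd, iterateFrobenius_def]
  rw [e1, e2, hE_prod (iterateFrobenius K 3 m)
    (fun s t => comm_high 8 10 (by decide) (by decide) s t)
    (fun s t => comm_mixed 8 1 (Or.inl ⟨rfl, rfl⟩) s t)
    (fun s t => comm_mixed 3 10 (Or.inr ⟨rfl, rfl⟩) s t)
    (fun s t => comm_low 3 1 (by decide) (by decide) s t),
    hE_xU 8 3 (by decide), hE_xU 10 1 (by decide), iterateFrobenius_def]

theorem hR_mem_diag (m : ℕ) (t : K) (ht : t ≠ 0) :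
    hE (xR (K := K) (3 ^ m)) (yR (K := K) (3 ^ m)) t ∈ cdG2.D.diagonalSubgroup K := by
  rw [hR_eq_hU]
  exact Subgroup.mul_mem _ (relG2.hU_mem 8 (by decide) _ (pow_ne_zero _ ht)) (relG2.hU_mem 10 (by decide) _ ht)

/-- the diagonal matrices of `SL₂(K)` -/
def dE (t : K) (ht : t ≠ 0) : Matrix.SpecialLinearGroup (Fin 2) K :=
  ⟨!![t, 0; 0, t⁻¹], by simp [Matrix.det_fin_two, ht]⟩

theorem dE_eq (t : K) (ht : t ≠ 0) :
    dE t ht = (xE t * yE (-t⁻¹) * xE t) * (xE 1 * yE (-(1 : K)⁻¹) * xE 1)⁻¹ := by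
  rw [eq_mul_inv_iff_mul_eq]
  apply Subtype.ext
  show (dE t ht).1 * ((xE (1 : K)).1 * (yE (-(1 : K)⁻¹)).1 * (xE (1 : K)).1) =
    (xE t).1 * (yE (-t⁻¹)).1 * (xE t).1
  ext i j
  fin_cases i <;> fin_cases j <;> simp [dE, xE, yE, Matrix.mul_apply, Fin.sum_univ_two, ht]

theorem phiR_dE (m : ℕ) (t : K) (ht : t ≠ 0) :
    phiR m (dE t ht) = hE (xR (K := K) (3 ^ m)) (yR (K := K) (3 ^ m)) t := by
  rw [dE_eq, map_mul, map_inv, map_mul, map_mul, map_mul, map_mul, phiR_xE, phiR_xE, phiR_yE, phiR_yE]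
  rfl

end
section
variable {K : Type*} [Field K] [Fintype K] [CharP K 3]

theorem xR_inj (m : ℕ) (c c' : K) (h : xR (3 ^ m) c = xR (3 ^ m) c') : c = c' :=
  (reeU_inj _ _ _ _ _ _ _ h).2.1

/-- the action of the diagonal part on the root elements `xR` -/
theorem hRee_conj_xR (m : ℕ) (hK : Fintype.card K = 3 ^ (2 * m + 1)) (s : K) (hs : s ≠ 0) (c : K) :
    hRee (3 ^ m) s * xR (3 ^ m) c * (hRee (3 ^ m) s)⁻¹ = xR (3 ^ m) ((s ^ 3 ^ m) ^ 3 * s⁻¹ * c) := by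
  obtain ⟨u', v', e, e2⟩ := conj_reeU m hK s hs 0 c 0
  obtain ⟨e3, e4⟩ := e2 rfl
  unfold xR
  rw [e, mul_zero, e3, e4, mul_zero, chi_10]

theorem hR_eq_hRee (m : ℕ) (hK : Fintype.card K = 3 ^ (2 * m + 1)) (t : K) (ht : t ≠ 0) :
    hE (xR (K := K) (3 ^ m)) (yR (K := K) (3 ^ m)) t = hRee (3 ^ m) (t ^ (3 * 3 ^ m + 1)) ∨
      hE (xR (K := K) (3 ^ m)) (yR (K := K) (3 ^ m)) t =
        hRee (3 ^ m) (-1 : K) * hRee (3 ^ m) (t ^ (3 * 3 ^ m + 1)) := by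
  have hθ := thetaHyp_of_card (K := K) m hK
  have hne : (-1 : K) ≠ 0 := neg_ne_zero.mpr one_ne_zero
  have hmem : hE (xR (K := K) (3 ^ m)) (yR (K := K) (3 ^ m)) t ∈ cdG2.D.diagonalSubgroup K ⊓ tG2 K (3 ^ m) := by
    refine ⟨hR_mem_diag m t ht, ?_⟩
    rw [← phiR_dE m t ht]
    exact phiR_mem m _
  obtain ⟨s', hs', e⟩ := (mem_diag_inf_tG2 m hK _).mp hmem
  set s : K := t ^ (3 * 3 ^ m + 1) with hs
  have hs0 : s ≠ 0 := pow_ne_zero _ ht
  -- the action on `xR 1`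
  have h1 := (relR (K := K) m).h_conj t ht 1
  rw [e, hRee_conj_xR m hK s' hs'] at h1
  have h2 : (s' ^ 3 ^ m) ^ 3 * s'⁻¹ = t * t := by
    have := xR_inj m _ _ h1
    simpa using this
  have h3 : (s ^ 3 ^ m) ^ 3 * s⁻¹ = t * t := by
    have e1 : (s ^ 3 ^ m) ^ 3 = t ^ 3 * t ^ (3 * 3 ^ m) := by
      rw [hs]
      calc ((t ^ (3 * 3 ^ m + 1)) ^ 3 ^ m) ^ 3 = ((t ^ 3 ^ m) ^ (3 * 3 ^ m)) ^ 3 * t ^ (3 * 3 ^ m) := by
            rw [← pow_mul, ← pow_mul, ← pow_mul, ← pow_mul, ← pow_add]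
            congr 1
            ring
        _ = t ^ 3 * t ^ (3 * 3 ^ m) := by rw [hθ.inv]
    rw [e1, hs]
    field_simp
    ring
  -- the quotient
  set r : K := s' * s⁻¹ with hr
  have hr0 : r ≠ 0 := mul_ne_zero hs' (inv_ne_zero hs0)
  have h4 : chi (r ^ 3 ^ m) r 10 = 1 := by
    rw [chi_10, hr, mul_pow, mul_pow, mul_inv, inv_inv]
    have : (s⁻¹ ^ 3 ^ m) ^ 3 * s = ((s ^ 3 ^ m) ^ 3 * s⁻¹)⁻¹ := by
      rw [mul_inv, inv_inv, inv_pow, inv_pow]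
    calc (s' ^ 3 ^ m) ^ 3 * (s⁻¹ ^ 3 ^ m) ^ 3 * (s'⁻¹ * s)
        = ((s' ^ 3 ^ m) ^ 3 * s'⁻¹) * ((s⁻¹ ^ 3 ^ m) ^ 3 * s) := by ring
      _ = 1 := by rw [this, h2, h3, mul_inv_cancel₀ (mul_ne_zero ht ht)]
  have h5 : r ^ 2 = 1 := chi10_eq_one m hK r hr0 h4
  have h6 : s' = r * s := by
    rw [hr, mul_assoc, inv_mul_cancel₀ hs0, mul_one]
  rw [sq] at h5
  rcases mul_self_eq_one_iff.mp h5 with h7 | h7
  · left
    rw [e, h6, h7, one_mul]
  · right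
    rw [e, h6, h7, hRee_mul _ _ _ hne hs0]

theorem hRee_decomp (m : ℕ) (hK : Fintype.card K = 3 ^ (2 * m + 1)) (s : K) (hs : s ≠ 0) :
    ∃ t : K, t ≠ 0 ∧ (hRee (3 ^ m) s = hE (xR (K := K) (3 ^ m)) (yR (K := K) (3 ^ m)) t ∨
      hRee (3 ^ m) s = hRee (3 ^ m) (-1 : K) * hE (xR (K := K) (3 ^ m)) (yR (K := K) (3 ^ m)) t) := by
  have hθ := thetaHyp_of_card (K := K) m hK
  have hne : (-1 : K) ≠ 0 := neg_ne_zero.mpr one_ne_zero
  obtain ⟨x, hx, hsx⟩ := exists_sq_or_neg_sq m hK s hs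
  obtain ⟨a, ha⟩ : ∃ a : ℕ, 3 * 3 ^ m = a + 1 := ⟨3 * 3 ^ m - 1, by have := three_pow_ne_zero m; omega⟩
  set t : K := x ^ a with ht
  have ht0 : t ≠ 0 := pow_ne_zero _ hx
  have hpow : t ^ (3 * 3 ^ m + 1) = x ^ 2 := by
    have h1 : t ^ (3 * 3 ^ m + 1) * x = x ^ 2 * x := by
      calc t ^ (3 * 3 ^ m + 1) * x = x ^ (a * (a + 1 + 1) + 1) := by
            rw [ht, ha, ← pow_mul, ← pow_succ]
        _ = ((x ^ 3 ^ m) ^ (3 * 3 ^ m)) ^ 3 := by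
            rw [← pow_mul, ← pow_mul]
            congr 1
            have : 3 ^ m * (3 * 3 ^ m * 3) = (a + 1) * (a + 1) := by rw [← ha]; ring
            rw [this]
            ring
        _ = x ^ 2 * x := by rw [hθ.inv]; ring
    exact mul_right_cancel₀ hx h1
  have hzz := hRee_neg_one_sq (K := K) (3 ^ m)
  refine ⟨t, ht0, ?_⟩
  have hx2 : x ^ 2 ≠ 0 := pow_ne_zero _ hx
  rcases hR_eq_hRee m hK t ht0 with h | h <;> rw [hpow] at h <;> rcases hsx with rfl | rfl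
  · left; exact h.symm
  · right
    rw [h, neg_eq_neg_one_mul, hRee_mul _ _ _ hne hx2]
  · right
    rw [h, ← mul_assoc, hzz, one_mul]
  · left
    rw [h, neg_eq_neg_one_mul, hRee_mul _ _ _ hne hx2]

end
end Cfsg.Agent.Lib.Helper3.Ree
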