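import Mathlib
import Cfsg.Agent.Lib.Helper3.Ree30
set_option autoImplicit false
set_option linter.unusedSectionVars false
set_option linter.style.haveILetI false
set_option linter.unusedSimpArgs false
open Cfsg Cfsg.Lie

/-!
The centralizer of the involution of the diagonal part of the twisted group of type `G₂` is generated by
the involution and the image of `SL₂(K)`; the kernel of the homomorphism from `SL₂(K)`.
-/

namespace Cfsg.Agent.Lib.Helper3.Ree

open Cfsg.Agent.Lib.Helper3.ChevM Cfsg.Agent.Lib.Helper3.SL2P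

section
variable {K : Type*} [Field K] [Fintype K] [CharP K 3]

theorem two_ne_zero_three : (2 : K) ≠ 0 := by
  intro h
  have h3 := three_eq_zero (K := K)
  have : (1 : K) = 0 := by linear_combination h3 - h
  exact one_ne_zero this

/-- conjugation of a unipotent element by the involution of the diagonal part -/
theorem conj_zR_reeU (m : ℕ) (hK : Fintype.card K = 3 ^ (2 * m + 1)) (t u v : K) :
    ∃ u' v' : K, hRee (3 ^ m) (-1 : K) * reeU (3 ^ m) t u v * (hRee (3 ^ m) (-1 : K))⁻¹ =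
        reeU (3 ^ m) (-t) u' v' ∧ (t = 0 → u' = u ∧ v' = -v) := by
  have hne : (-1 : K) ≠ 0 := neg_ne_zero.mpr one_ne_zero
  obtain ⟨u', v', e, e2⟩ := conj_reeU m hK (-1 : K) hne t u v
  have hodd : Odd ((3 : ℕ) ^ m) := Odd.pow (by decide)
  rw [hodd.neg_one_pow] at e e2
  have c6 : chi (-1 : K) (-1) 6 = -1 := by
    rw [chi_6]
    norm_num
  have c10 : chi (-1 : K) (-1) 10 = 1 := by
    rw [chi_10]
    norm_num
  have c11 : chi (-1 : K) (-1) 11 = -1 := chi_11 _ _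
  rw [c6] at e
  rw [c10, c11] at e2
  refine ⟨u', v', ?_, ?_⟩
  · rw [e, neg_one_mul]
  · intro ht
    obtain ⟨h1, h2⟩ := e2 ht
    rw [h1, h2, one_mul, neg_one_mul]
    exact ⟨rfl, rfl⟩

/-- the unipotent elements commuting with the involution of the diagonal part -/
theorem reeU_of_conj_zR (m : ℕ) (hK : Fintype.card K = 3 ^ (2 * m + 1)) (t u v : K)
    (h : hRee (3 ^ m) (-1 : K) * reeU (3 ^ m) t u v * (hRee (3 ^ m) (-1 : K))⁻¹ = reeU (3 ^ m) t u v) :
    t = 0 ∧ v = 0 := by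
  obtain ⟨u', v', e, e2⟩ := conj_zR_reeU m hK t u v
  rw [h] at e
  obtain ⟨k1, k2, k3⟩ := reeU_inj _ _ _ _ _ _ _ e
  have ht : t = 0 := by
    have : (2 : K) * t = 0 := by linear_combination k1
    rcases mul_eq_zero.mp this with h2 | h2
    · exact (two_ne_zero_three h2).elim
    · exact h2
  obtain ⟨-, h2⟩ := e2 ht
  refine ⟨ht, ?_⟩
  rw [h2] at k3
  have : (2 : K) * v = 0 := by linear_combination k3
  rcases mul_eq_zero.mp this with h2 | h2
  · exact (two_ne_zero_three h2).elim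
  · exact h2

theorem zR_comm_hRee (θ : ℕ) (s : K) (hs : s ≠ 0) :
    hRee θ (-1 : K) * hRee θ s = hRee θ s * hRee θ (-1 : K) := by
  have hne : (-1 : K) ≠ 0 := neg_ne_zero.mpr one_ne_zero
  rw [← hRee_mul _ _ _ hne hs, ← hRee_mul _ _ _ hs hne, mul_comm]

theorem nR_mem_monomial (m : ℕ) :
    nE (xR (K := K) (3 ^ m)) (yR (K := K) (3 ^ m)) 1 ∈ cdG2.D.monomialSubgroup K := by
  haveI : ExpChar K 3 := ExpChar.prime Nat.prime_three
  have hθ : (3 : ℕ) ^ m ≠ 0 := three_pow_ne_zero m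
  have hodd : Odd ((3 : ℕ) ^ m) := Odd.pow (by decide)
  have e1 : xR (K := K) (3 ^ m) = fun t => relG2.xU 8 (iterateFrobenius K 3 m t) * relG2.xU 10 t := by
    funext u
    rw [xR_eq _ hθ, iterateFrobenius_def]
  have e2 : yR (K := K) (3 ^ m) = fun t => relG2.xU 3 (iterateFrobenius K 3 m t) * relG2.xU 1 t := by
    funext u
    rw [yR_eq _ hθ hodd, iterateFrobenius_def]
  rw [e1, e2, nE_prod (iterateFrobenius K 3 m)
    (fun s t => comm_high 8 10 (by decide) (by decide) s t)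
    (fun s t => comm_mixed 8 1 (Or.inl ⟨rfl, rfl⟩) s t)
    (fun s t => comm_mixed 3 10 (Or.inr ⟨rfl, rfl⟩) s t), map_one]
  have h8 : nE (fun t : K => relG2.xU 8 t) (fun t : K => relG2.xU 3 t) 1 = relG2.nU 8 1 := by
    have := (relG2.nU_eq (F := K) 8 1).symm
    rwa [show cdG2.D.neg 8 = 3 by decide] at this
  have h10 : nE (fun t : K => relG2.xU 10 t) (fun t : K => relG2.xU 1 t) 1 = relG2.nU 10 1 := by
    have := (relG2.nU_eq (F := K) 10 1).symm
    rwa [show cdG2.D.neg 10 = 1 by decide] at this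
  rw [h8, h10]
  have hmem : ∀ r < cdG2.D.nroots, relG2.nU r (1 : K) ∈ cdG2.D.monomialSubgroup K := by
    intro r hr
    exact Subgroup.mem_sup_right (Subgroup.subset_closure ⟨r, hr, relG2.nU_val r 1⟩)
  exact Subgroup.mul_mem _ (hmem 8 (by decide)) (hmem 10 (by decide))

/-- the representative `n1` differs from the image of `wE` by an element of the diagonal part -/
theorem n1_eq_hRee_mul (m : ℕ) (hK : Fintype.card K = 3 ^ (2 * m + 1)) :
    ∃ s : K, s ≠ 0 ∧ n1 m hK = hRee (3 ^ m) s * phiR m wE := by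
  have hw : phiR (K := K) m wE = nE (xR (K := K) (3 ^ m)) (yR (K := K) (3 ^ m)) 1 := phi_wE (relR m)
  have hmem : phiR (K := K) m wE ∈ cdG2.D.monomialSubgroup K ⊓ tG2 K (3 ^ m) :=
    ⟨by rw [hw]; exact nR_mem_monomial m, phiR_mem m _⟩
  rcases mem_mono_inf_tG2 m hK _ hmem with ⟨s, hs, e⟩ | ⟨s, hs, e⟩
  · exfalso
    apply phiR_not_mem_borel m (wE (F := K)) wE_10
    rw [e]
    exact Subgroup.mem_sup_right (hT_mem _ _ (pow_ne_zero _ hs) hs)
  · refine ⟨s⁻¹, inv_ne_zero hs, ?_⟩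
    rw [e, ← mul_assoc, ← hRee_mul _ _ _ (inv_ne_zero hs) hs, inv_mul_cancel₀ hs, hRee_one, one_mul]

/-- the centralizer of the involution of the diagonal part -/
theorem centralizer_zR (m : ℕ) (hK : Fintype.card K = 3 ^ (2 * m + 1)) (g : GL cdG2.D.Idx K)
    (hg : g ∈ tG2 K (3 ^ m)) (hcomm : hRee (3 ^ m) (-1 : K) * g = g * hRee (3 ^ m) (-1 : K)) :
    ∃ A : Matrix.SpecialLinearGroup (Fin 2) K, g = phiR m A ∨ g = hRee (3 ^ m) (-1 : K) * phiR m A := by
  obtain ⟨z, hz⟩ : ∃ z : GL cdG2.D.Idx K, z = hRee (3 ^ m) (-1 : K) := ⟨_, rfl⟩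
  rw [← hz] at hcomm ⊢
  have hconj : z * g * z⁻¹ = g := by rw [hcomm]; group
  have hzx : ∀ u : K, z * xR (3 ^ m) u = xR (3 ^ m) u * z := by
    intro u
    rw [hz]
    exact zR_comm_xR m u
  have hzh : ∀ s : K, s ≠ 0 → z * hRee (3 ^ m) s * z⁻¹ = hRee (3 ^ m) s := by
    intro s hs
    rw [hz, zR_comm_hRee (K := K) (3 ^ m) s hs]
    group
  have hzn : z * n1 m hK * z⁻¹ = n1 m hK := by
    rw [hz, ← n1_comm_hRee_neg_one m hK]
    group
  have hzU : ∀ t u v : K, ∃ u' v' : K, z * reeU (3 ^ m) t u v * z⁻¹ = reeU (3 ^ m) (-t) u' v' := by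
    intro t u v
    obtain ⟨u', v', e, -⟩ := conj_zR_reeU m hK t u v
    exact ⟨u', v', by rw [hz, e]⟩
  have hzfix : ∀ t u v : K, z * reeU (3 ^ m) t u v * z⁻¹ = reeU (3 ^ m) t u v → t = 0 ∧ v = 0 := by
    intro t u v h
    rw [hz] at h
    exact reeU_of_conj_zR m hK t u v h
  -- the diagonal part
  have hdiag : ∀ s : K, s ≠ 0 → ∃ A : Matrix.SpecialLinearGroup (Fin 2) K,
      hRee (3 ^ m) s = phiR m A ∨ hRee (3 ^ m) s = z * phiR m A := by
    intro s hs
    obtain ⟨t, ht, h | h⟩ := hRee_decomp m hK s hs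
    · exact ⟨dE t ht, Or.inl (by rw [h, phiR_dE])⟩
    · exact ⟨dE t ht, Or.inr (by rw [h, phiR_dE, hz])⟩
  rcases fixG_normal_form' m hK g (tG2_le_fixG m hK hg) with
    ⟨t, u, v, s, hs, rfl⟩ | ⟨t, u, v, s, t', u', v', hs, rfl⟩
  · -- the first form
    obtain ⟨u₁, v₁, e1⟩ := hzU t u v
    have h1 : z * (reeU (3 ^ m) t u v * hRee (3 ^ m) s) * z⁻¹ =
        (z * reeU (3 ^ m) t u v * z⁻¹) * (z * hRee (3 ^ m) s * z⁻¹) := by group
    rw [h1, e1, hzh s hs] at hconj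
    obtain ⟨k1, k2, k3, -⟩ := form1_inj _ _ _ _ _ _ _ _ _ hs hs hconj
    have hfix : z * reeU (3 ^ m) t u v * z⁻¹ = reeU (3 ^ m) t u v := by
      rw [e1, k1, k2, k3]
    obtain ⟨ht, hv⟩ := hzfix t u v hfix
    subst ht hv
    have hx : reeU (3 ^ m) 0 u 0 = xR (3 ^ m) u := by unfold xR; exact rfl
    rw [hx]
    obtain ⟨A, hA | hA⟩ := hdiag s hs
    · refine ⟨xE u * A, Or.inl ?_⟩
      rw [map_mul, phiR_xE, hA]
    · refine ⟨xE u * A, Or.inr ?_⟩
      rw [map_mul, phiR_xE, hA, ← mul_assoc, ← mul_assoc, hzx u]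
  · -- the second form
    obtain ⟨u₁, v₁, e1⟩ := hzU t u v
    obtain ⟨u₂, v₂, e2⟩ := hzU t' u' v'
    have h1 : z * (reeU (3 ^ m) t u v * (hRee (3 ^ m) s * n1 m hK) * reeU (3 ^ m) t' u' v') * z⁻¹ =
        (z * reeU (3 ^ m) t u v * z⁻¹) * ((z * hRee (3 ^ m) s * z⁻¹) * (z * n1 m hK * z⁻¹)) *
          (z * reeU (3 ^ m) t' u' v' * z⁻¹) := by group
    rw [h1, hzn, hzh s hs, e1, e2] at hconj
    obtain ⟨k1, k2, k3, -, k4, k5, k6⟩ := form2_inj m hK _ _ _ _ _ _ _ _ _ _ _ _ _ _ hs hs hconj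
    have hfix : z * reeU (3 ^ m) t u v * z⁻¹ = reeU (3 ^ m) t u v := by
      rw [e1, k1, k2, k3]
    have hfix' : z * reeU (3 ^ m) t' u' v' * z⁻¹ = reeU (3 ^ m) t' u' v' := by
      rw [e2, k4, k5, k6]
    obtain ⟨ht, hv⟩ := hzfix t u v hfix
    obtain ⟨ht', hv'⟩ := hzfix t' u' v' hfix'
    subst ht hv ht' hv'
    have hx : ∀ c : K, reeU (3 ^ m) 0 c 0 = xR (3 ^ m) c := by intro c; unfold xR; exact rfl
    rw [hx, hx]
    obtain ⟨s₁, hs₁, en⟩ := n1_eq_hRee_mul m hK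
    have e3 : hRee (3 ^ m) s * n1 m hK = hRee (3 ^ m) (s * s₁) * phiR m wE := by
      rw [en, ← mul_assoc, ← hRee_mul _ _ _ hs hs₁]
    obtain ⟨A, hA | hA⟩ := hdiag (s * s₁) (mul_ne_zero hs hs₁)
    · refine ⟨xE u * A * wE * xE u', Or.inl ?_⟩
      rw [map_mul, map_mul, map_mul, phiR_xE, phiR_xE, e3, hA]
      simp only [mul_assoc]
    · refine ⟨xE u * A * wE * xE u', Or.inr ?_⟩
      rw [map_mul, map_mul, map_mul, phiR_xE, phiR_xE, e3, hA]
      have := hzx u
      calc xR (3 ^ m) u * (z * phiR m A * phiR m wE) * xR (3 ^ m) u'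
          = (xR (3 ^ m) u * z) * phiR m A * phiR m wE * xR (3 ^ m) u' := by simp only [mul_assoc]
        _ = (z * xR (3 ^ m) u) * phiR m A * phiR m wE * xR (3 ^ m) u' := by rw [← this]
        _ = _ := by simp only [mul_assoc]

theorem sl2_upper (A : Matrix.SpecialLinearGroup (Fin 2) K) (h : A.1 1 0 = 0) :
    ∃ (α : K) (hα : α ≠ 0) (β : K), A = dE α hα * xE β := by
  have hdet := det_eq A
  rw [h, mul_zero, sub_zero] at hdet
  have hα : A.1 0 0 ≠ 0 := by
    intro h0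
    rw [h0, zero_mul] at hdet
    exact zero_ne_one hdet
  have h11 : A.1 1 1 = (A.1 0 0)⁻¹ := eq_inv_of_mul_eq_one_right hdet
  refine ⟨A.1 0 0, hα, A.1 0 1 / A.1 0 0, ?_⟩
  apply Subtype.ext
  show A.1 = (dE (A.1 0 0) hα).1 * (xE (A.1 0 1 / A.1 0 0)).1
  ext i j
  fin_cases i <;> fin_cases j
  · simp [dE, xE, Matrix.mul_apply, Fin.sum_univ_two]
  · simp [dE, xE, Matrix.mul_apply, Fin.sum_univ_two]
    field_simp
  · simp [dE, xE, Matrix.mul_apply, Fin.sum_univ_two, h]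
  · simp [dE, xE, Matrix.mul_apply, Fin.sum_univ_two, h, h11]

theorem dE_one : dE (1 : K) one_ne_zero = 1 := by
  apply Subtype.ext
  show (dE (1 : K) one_ne_zero).1 = 1
  ext i j
  fin_cases i <;> fin_cases j <;> simp [dE]

theorem dE_neg_one : dE (-1 : K) (neg_ne_zero.mpr one_ne_zero) = wE * wE := by
  apply Subtype.ext
  show (dE (-1 : K) (neg_ne_zero.mpr one_ne_zero)).1 = (wE (F := K)).1 * (wE (F := K)).1
  ext i j
  fin_cases i <;> fin_cases j <;> simp [dE, wE, Matrix.mul_apply, Fin.sum_univ_two, inv_neg]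

/-- the elements of `SL₂(K)` mapped into the diagonal part by `phiR` -/
theorem phiR_mem_diag (m : ℕ) (A : Matrix.SpecialLinearGroup (Fin 2) K)
    (h : phiR m A ∈ cdG2.D.diagonalSubgroup K) :
    ∃ (α : K) (hα : α ≠ 0), A = dE α hα := by
  have h10 : A.1 1 0 = 0 := by
    by_contra hc
    exact phiR_not_mem_borel m A hc (Subgroup.mem_sup_right h)
  obtain ⟨α, hα, β, rfl⟩ := sl2_upper A h10
  refine ⟨α, hα, ?_⟩
  rw [map_mul, phiR_dE, phiR_xE] at h
  obtain ⟨-, hdisj⟩ := relG2.diagonal_normalizes (F := K) bnG2.dec bnG2.mono.tri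
  have hx : xR (3 ^ m) β ∈ cdG2.D.posUnipotent K ⊓ cdG2.D.diagonalSubgroup K := by
    refine ⟨reeU_mem_pos _ _ _ _, ?_⟩
    have := Subgroup.mul_mem _ (Subgroup.inv_mem _ (hR_mem_diag m α hα)) h
    rwa [inv_mul_cancel_left] at this
  rw [hdisj, Subgroup.mem_bot] at hx
  have hβ : β = 0 := by
    by_contra hβ
    exact xR_ne_one m β hβ hx
  subst hβ
  have : xE (0 : K) = 1 := by
    apply Subtype.ext
    show (xE (0 : K)).1 = 1
    ext i j
    fin_cases i <;> fin_cases j <;> simp [xE]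
  rw [this, mul_one]

/-- the elements of `SL₂(K)` whose image under `phiR` commutes with the root elements `xR` and is diagonal -/
theorem phiR_eq_central (m : ℕ) (A : Matrix.SpecialLinearGroup (Fin 2) K)
    (h : phiR m A ∈ cdG2.D.diagonalSubgroup K)
    (hc : phiR m A * xR (3 ^ m) 1 = xR (3 ^ m) 1 * phiR m A) :
    (A = 1 ∨ A = wE * wE) ∧ phiR m A = 1 := by
  obtain ⟨α, hα, rfl⟩ := phiR_mem_diag m A h
  rw [phiR_dE] at hc
  have h1 := (relR (K := K) m).h_conj α hα 1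
  rw [hc, mul_inv_cancel_right] at h1
  have h2 : α * α = 1 := by
    have := xR_inj m _ _ h1
    rw [mul_one] at this
    exact this.symm
  rcases mul_self_eq_one_iff.mp h2 with rfl | rfl
  · refine ⟨Or.inl dE_one, ?_⟩
    rw [dE_one, map_one]
  · refine ⟨Or.inr dE_neg_one, ?_⟩
    rw [dE_neg_one, phiR_wE_sq]

theorem phiR_ker (m : ℕ) (A : Matrix.SpecialLinearGroup (Fin 2) K) (h : phiR m A = 1) :
    A = 1 ∨ A = wE * wE := by
  refine (phiR_eq_central m A ?_ ?_).1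
  · rw [h]
    exact Subgroup.one_mem _
  · rw [h, one_mul, mul_one]

theorem phiR_ne_zR (m : ℕ) (A : Matrix.SpecialLinearGroup (Fin 2) K) :
    phiR m A ≠ hRee (3 ^ m) (-1 : K) := by
  intro h
  have hne : (-1 : K) ≠ 0 := neg_ne_zero.mpr one_ne_zero
  have := (phiR_eq_central m A ?_ ?_).2
  · rw [h] at this
    exact hRee_neg_one_ne (K := K) (3 ^ m) this
  · rw [h]
    exact hT_mem _ _ (pow_ne_zero _ hne) hne
  · rw [h]
    exact zR_comm_xR m 1

theorem wE_sq_mem_center : (wE (F := K)) * wE ∈ Subgroup.center (Matrix.SpecialLinearGroup (Fin 2) K) := by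
  rw [Matrix.SpecialLinearGroup.mem_center_iff]
  refine ⟨-1, by simp, ?_⟩
  rw [Matrix.SpecialLinearGroup.coe_mul]
  ext i j
  fin_cases i <;> fin_cases j <;> simp [wE, Matrix.mul_apply, Fin.sum_univ_two]

theorem center_le_ker (m : ℕ) (A : Matrix.SpecialLinearGroup (Fin 2) K)
    (h : A ∈ Subgroup.center (Matrix.SpecialLinearGroup (Fin 2) K)) : phiR m A = 1 := by
  rw [Matrix.SpecialLinearGroup.mem_center_iff] at h
  obtain ⟨r, hr, e⟩ := h
  have hr2 : r * r = 1 := by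
    rw [Fintype.card_fin] at hr
    rw [← sq]
    exact hr
  rcases mul_self_eq_one_iff.mp hr2 with rfl | rfl
  · have : A = 1 := by
      apply Subtype.ext
      rw [← e]
      simp
    rw [this, map_one]
  · have : A = wE * wE := by
      apply Subtype.ext
      rw [← e]
      show _ = (wE (F := K)).1 * (wE (F := K)).1
      ext i j
      fin_cases i <;> fin_cases j <;> simp [wE, Matrix.mul_apply, Fin.sum_univ_two]
    rw [this, phiR_wE_sq]

end

end Cfsg.Agent.Lib.Helper3.Ree
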