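import Mathlib
import Cfsg.Agent.Lib.Helper3.Ree31
set_option autoImplicit false
set_option linter.unusedSectionVars false
set_option linter.style.haveILetI false
open Cfsg Cfsg.Lie

/-!
The centralizer of the involution of the diagonal part of the twisted group of type `G₂` is isomorphic to
`Z₂ × PSL₂(K)`.
-/

namespace Cfsg.Agent.Lib.Helper3.Ree

open Cfsg.Agent.Lib.Helper3.ChevM Cfsg.Agent.Lib.Helper3.SL2P

section
variable {K : Type*} [Field K] [Fintype K] [CharP K 3]

/-- the involution of the diagonal part, in the twisted group -/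
def zG (m : ℕ) (hK : Fintype.card K = 3 ^ (2 * m + 1)) : ↥(tG2 K (3 ^ m)) :=
  ⟨hRee (3 ^ m) (-1 : K), hRee_mem_tG2 m hK _ (neg_ne_zero.mpr one_ne_zero)⟩

theorem zG_sq (m : ℕ) (hK : Fintype.card K = 3 ^ (2 * m + 1)) : zG (K := K) m hK * zG m hK = 1 :=
  Subtype.ext (hRee_neg_one_sq _)

/-- the homomorphism from `SL₂(K)` into the twisted group -/
noncomputable def psiR (m : ℕ) : Matrix.SpecialLinearGroup (Fin 2) K →* ↥(tG2 K (3 ^ m)) :=
  (phiR m).codRestrict (tG2 K (3 ^ m)) (phiR_mem m)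

theorem psiR_coe (m : ℕ) (A : Matrix.SpecialLinearGroup (Fin 2) K) :
    ((psiR m A : ↥(tG2 K (3 ^ m))) : GL cdG2.D.Idx K) = phiR m A := rfl

/-- the induced homomorphism from `PSL₂(K)` -/
noncomputable def psiBar (m : ℕ) :
    Matrix.ProjectiveSpecialLinearGroup (Fin 2) K →* ↥(tG2 K (3 ^ m)) :=
  QuotientGroup.lift (Subgroup.center (Matrix.SpecialLinearGroup (Fin 2) K)) (psiR m) (by
    intro A hA
    rw [MonoidHom.mem_ker]
    exact Subtype.ext (center_le_ker m A hA))

theorem psiBar_mk (m : ℕ) (A : Matrix.SpecialLinearGroup (Fin 2) K) :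
    psiBar m (QuotientGroup.mk A) = psiR m A := rfl

theorem zG_comm_psiBar (m : ℕ) (hK : Fintype.card K = 3 ^ (2 * m + 1))
    (x : Matrix.ProjectiveSpecialLinearGroup (Fin 2) K) :
    zG m hK * psiBar m x = psiBar m x * zG m hK := by
  obtain ⟨A, rfl⟩ := QuotientGroup.mk_surjective x
  rw [psiBar_mk]
  exact Subtype.ext (zR_comm_phiR m A)

/-- the homomorphism onto the centralizer -/
noncomputable def PsiR (m : ℕ) (hK : Fintype.card K = 3 ^ (2 * m + 1)) :
    Multiplicative (ZMod 2) × Matrix.ProjectiveSpecialLinearGroup (Fin 2) K →* ↥(tG2 K (3 ^ m)) :=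
  (invHom (zG m hK) (zG_sq m hK)).noncommCoprod (psiBar m) (by
    intro i x
    rw [invHom_apply]
    exact Commute.pow_left (zG_comm_psiBar m hK x) _)

theorem PsiR_apply (m : ℕ) (hK : Fintype.card K = 3 ^ (2 * m + 1)) (i : Multiplicative (ZMod 2))
    (x : Matrix.ProjectiveSpecialLinearGroup (Fin 2) K) :
    PsiR m hK (i, x) = zG m hK ^ (Multiplicative.toAdd i).val * psiBar m x := rfl

theorem PsiR_injective (m : ℕ) (hK : Fintype.card K = 3 ^ (2 * m + 1)) :
    Function.Injective (PsiR (K := K) m hK) := by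
  rw [injective_iff_map_eq_one]
  rintro ⟨i, x⟩ h
  obtain ⟨A, rfl⟩ := QuotientGroup.mk_surjective x
  rw [PsiR_apply, psiBar_mk] at h
  have hv1 : (Multiplicative.toAdd (1 : Multiplicative (ZMod 2))).val = 0 := by decide
  have hv2 : (Multiplicative.toAdd (Multiplicative.ofAdd (1 : ZMod 2))).val = 1 := by decide
  rcases zmod_two_cases i with rfl | rfl
  · rw [hv1, pow_zero, one_mul] at h
    have h1 : phiR m A = 1 := by
      have := congrArg Subtype.val h
      exact this
    have h2 : A ∈ Subgroup.center (Matrix.SpecialLinearGroup (Fin 2) K) := by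
      rcases phiR_ker m A h1 with rfl | rfl
      · exact Subgroup.one_mem _
      · exact wE_sq_mem_center
    have h3 : (QuotientGroup.mk A : Matrix.ProjectiveSpecialLinearGroup (Fin 2) K) = 1 :=
      (QuotientGroup.eq_one_iff A).mpr h2
    rw [h3]
    rfl
  · exfalso
    rw [hv2, pow_one] at h
    have h1 : hRee (3 ^ m) (-1 : K) * phiR m A = 1 := by
      have := congrArg Subtype.val h
      exact this
    have h2 : phiR m A = hRee (3 ^ m) (-1 : K) := by
      have h3 := hRee_neg_one_sq (K := K) (3 ^ m)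
      calc phiR m A = (hRee (3 ^ m) (-1 : K) * hRee (3 ^ m) (-1 : K)) * phiR m A := by rw [h3, one_mul]
        _ = hRee (3 ^ m) (-1 : K) * (hRee (3 ^ m) (-1 : K) * phiR m A) := by rw [mul_assoc]
        _ = hRee (3 ^ m) (-1 : K) := by rw [h1, mul_one]
    exact phiR_ne_zR m A h2

theorem PsiR_range (m : ℕ) (hK : Fintype.card K = 3 ^ (2 * m + 1)) :
    (PsiR (K := K) m hK).range = Subgroup.centralizer {zG m hK} := by
  have hv1 : (Multiplicative.toAdd (1 : Multiplicative (ZMod 2))).val = 0 := by decide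
  have hv2 : (Multiplicative.toAdd (Multiplicative.ofAdd (1 : ZMod 2))).val = 1 := by decide
  apply le_antisymm
  · rintro _ ⟨⟨i, x⟩, rfl⟩
    rw [Subgroup.mem_centralizer_iff]
    intro y hy
    rw [Set.mem_singleton_iff] at hy
    subst hy
    rw [PsiR_apply]
    have c1 : Commute (zG m hK) (zG m hK ^ (Multiplicative.toAdd i).val) := (Commute.refl _).pow_right _
    have c2 : Commute (zG m hK) (psiBar m x) := zG_comm_psiBar m hK x
    exact (c1.mul_right c2).eq
  · intro g hg
    rw [Subgroup.mem_centralizer_iff] at hg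
    have hcomm := hg (zG m hK) rfl
    have hcomm' : hRee (3 ^ m) (-1 : K) * (g : GL cdG2.D.Idx K) = (g : GL cdG2.D.Idx K) * hRee (3 ^ m) (-1 : K) :=
      congrArg Subtype.val hcomm
    obtain ⟨A, hA | hA⟩ := centralizer_zR m hK g g.2 hcomm'
    · refine ⟨(1, QuotientGroup.mk A), ?_⟩
      rw [PsiR_apply, psiBar_mk, hv1, pow_zero, one_mul]
      exact Subtype.ext hA.symm
    · refine ⟨(Multiplicative.ofAdd 1, QuotientGroup.mk A), ?_⟩
      rw [PsiR_apply, psiBar_mk, hv2, pow_one]
      exact Subtype.ext hA.symm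

/-- the centralizer of the involution of the diagonal part is `Z₂ × PSL₂(K)` -/
theorem centralizer_zG_iso (m : ℕ) (hK : Fintype.card K = 3 ^ (2 * m + 1)) :
    Nonempty (↥(Subgroup.centralizer {zG (K := K) m hK}) ≃*
      Multiplicative (ZMod 2) × Matrix.ProjectiveSpecialLinearGroup (Fin 2) K) := by
  have e1 := MonoidHom.ofInjective (PsiR_injective (K := K) m hK)
  have e2 := MulEquiv.subgroupCongr (PsiR_range (K := K) m hK)
  exact ⟨(e1.trans e2).symm⟩

/-- the involutions of the diagonal part -/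
theorem eq_zG (m : ℕ) (hK : Fintype.card K = 3 ^ (2 * m + 1)) (a : ↥(tG2 K (3 ^ m)))
    (haH : (a : GL cdG2.D.Idx K) ∈ cdG2.D.diagonalSubgroup K) (ha1 : a ≠ 1) (ha2 : a * a = 1) :
    a = zG m hK := by
  obtain ⟨s, hs, e⟩ := (mem_diag_inf_tG2 m hK _).mp ⟨haH, a.2⟩
  have h1 : hRee (3 ^ m) (s * s) = hRee (3 ^ m) (1 : K) := by
    rw [hRee_mul _ _ _ hs hs, ← e, hRee_one]
    exact congrArg Subtype.val ha2
  have h2 : s * s = 1 := hRee_inj _ _ _ (mul_ne_zero hs hs) one_ne_zero h1
  rcases mul_self_eq_one_iff.mp h2 with rfl | rfl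
  · exfalso
    apply ha1
    apply Subtype.ext
    rw [e, hRee_one]
    rfl
  · exact Subtype.ext e

end
end Cfsg.Agent.Lib.Helper3.Ree
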