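import Mathlib
set_option autoImplicit false
set_option linter.unusedSectionVars false
set_option linter.style.haveILetI false
set_option linter.unusedTactic false
set_option linter.unreachableTactic false

/-!
The normalizer of a self-centralizing elementary abelian Sylow `2`-subgroup of order 8 in a perfect group
has order 168 (under hypotheses on the centralizer of an involution).
-/

namespace Cfsg.Agent.Lib.Helper3.Ree

open scoped Pointwise

section transfer
variable {G : Type*} [Group G] [Finite G]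

open scoped IsMulCommutative in
/-- in a perfect group, a nontrivial element of an abelian Sylow subgroup is not central in the normalizer -/
theorem exists_normalizer_not_comm {p : ℕ} [Fact p.Prime] (P : Sylow p G) [IsMulCommutative P]
    (hperf : commutator G = ⊤) (t : G) (ht : t ∈ P) (ht1 : t ≠ 1) :
    ∃ n ∈ Subgroup.normalizer ((P : Subgroup G) : Set G), n * t * n⁻¹ ≠ t := by
  by_contra hcon
  push Not at hcon
  -- the transfer into `P`
  have key : ∀ (k : ℕ) (g₀ : G), g₀⁻¹ * t ^ k * g₀ ∈ (P : Subgroup G) → g₀⁻¹ * t ^ k * g₀ = t ^ k := by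
    intro k g₀ h
    obtain ⟨n, hn, e⟩ := P.conj_eq_normalizer_conj_of_mem (t ^ k) g₀ (Subgroup.pow_mem _ ht k) h
    rw [e]
    have h1 := hcon n⁻¹ (Subgroup.inv_mem _ hn)
    rw [inv_inv] at h1
    have h2 : n⁻¹ * t ^ k * n = (n⁻¹ * t * n) ^ k := by
      have := map_pow (MulAut.conj n⁻¹) t k
      simpa [MulAut.conj_apply] using this
    rw [h2, h1]
  have h1 := MonoidHom.transfer_eq_pow (MonoidHom.id (P : Subgroup G)) t key
  have h2 : MonoidHom.transfer (MonoidHom.id (P : Subgroup G)) t = 1 := by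
    have hk : commutator G ≤ (MonoidHom.transfer (MonoidHom.id (P : Subgroup G))).ker :=
      Abelianization.commutator_subset_ker _
    rw [hperf] at hk
    exact hk (Subgroup.mem_top t)
  rw [h2] at h1
  have h3 : t ^ (P : Subgroup G).index = 1 := by
    have := congrArg Subtype.val h1
    simpa using this.symm
  -- the order of `t` is a power of `p` and divides the index
  obtain ⟨k, hk⟩ := (P.2.to_le le_rfl : IsPGroup p ↥(P : Subgroup G)) ⟨t, ht⟩
  have hk' : t ^ p ^ k = 1 := by
    have := congrArg Subtype.val hk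
    simpa using this
  have hd1 : orderOf t ∣ (P : Subgroup G).index := orderOf_dvd_of_pow_eq_one h3
  have hd2 : orderOf t ∣ p ^ k := orderOf_dvd_of_pow_eq_one hk'
  have hcop : Nat.Coprime (p ^ k) (P : Subgroup G).index :=
    Nat.Coprime.pow_left _ ((Nat.Prime.coprime_iff_not_dvd Fact.out).mpr P.not_dvd_index)
  have : orderOf t = 1 := Nat.eq_one_of_dvd_coprimes hcop hd2 hd1
  exact ht1 (orderOf_eq_one_iff.mp this)

end transfer

section orbits
variable {A X : Type*} [Group A] [MulAction A X]

/-- an action on seven points with orbits of odd length and without fixed points is transitive -/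
theorem exists_smul_eq_of_seven [Finite X] (hX : Nat.card X = 7)
    (hodd : ∀ x : X, Odd (Nat.card (MulAction.orbit A x)))
    (hfix : ∀ x : X, ∃ g : A, g • x ≠ x) (x y : X) : ∃ g : A, g • x = y := by
  classical
  haveI : Fintype X := Fintype.ofFinite X
  let Ω := MulAction.orbitRel.Quotient A X
  haveI : Fintype Ω := Fintype.ofFinite Ω
  have hsum : Nat.card X = ∑ ω : Ω, Nat.card (MulAction.orbit A ω.out) := by
    rw [Nat.card_congr (MulAction.selfEquivSigmaOrbits A X), Nat.card_sigma]
  set c : Ω → ℕ := fun ω => Nat.card (MulAction.orbit A ω.out) with hc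
  have hc_odd : ∀ ω, Odd (c ω) := fun ω => hodd _
  have hc_ne : ∀ ω, c ω ≠ 1 := by
    intro ω h1
    obtain ⟨g, hg⟩ := hfix ω.out
    have hsub : Subsingleton (MulAction.orbit A ω.out) := by
      have : Finite (MulAction.orbit A ω.out) := Finite.of_injective _ Subtype.val_injective
      exact (Nat.card_eq_one_iff_unique.mp h1).1
    have := hsub.elim ⟨g • ω.out, MulAction.mem_orbit _ g⟩ ⟨ω.out, MulAction.mem_orbit_self _⟩
    exact hg (congrArg Subtype.val this)
  have hc3 : ∀ ω, 3 ≤ c ω := by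
    intro ω
    obtain ⟨k, hk⟩ := hc_odd ω
    have := hc_ne ω
    omega
  rw [hX] at hsum
  have hcard_le : 3 * Fintype.card Ω ≤ 7 := by
    rw [hsum]
    calc 3 * Fintype.card Ω = ∑ _ω : Ω, 3 := by simp [mul_comm]
      _ ≤ ∑ ω : Ω, c ω := Finset.sum_le_sum fun ω _ => hc3 ω
  have hpar : Odd (Fintype.card Ω) := by
    have h7 : Odd (∑ ω : Ω, c ω) := by rw [← hsum]; decide
    rw [Finset.odd_sum_iff_odd_card_odd] at h7
    have : (Finset.univ.filter fun ω : Ω => Odd (c ω)) = Finset.univ := by
      ext ω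
      simp [hc_odd ω]
    rwa [this, Finset.card_univ] at h7
  have hone : Fintype.card Ω = 1 := by
    obtain ⟨k, hk⟩ := hpar
    omega
  have hsub : Subsingleton Ω := by
    rw [← Fintype.card_le_one_iff_subsingleton, hone]
  have h1 : (Quotient.mk'' x : Ω) = Quotient.mk'' y := hsub.elim _ _
  have h2 : (MulAction.orbitRel A X) x y := Quotient.exact' h1
  rw [MulAction.orbitRel_apply] at h2
  obtain ⟨g, hg⟩ := h2
  exact ⟨g⁻¹, by rw [← hg, inv_smul_smul]⟩

end orbits

section conjaction
variable {G : Type*} [Group G]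

/-- the conjugation action of a subgroup on a set invariant under conjugation -/
@[reducible] def conjSetAction (M : Subgroup G) (P : Set G) (hP : ∀ g ∈ M, ∀ x ∈ P, g * x * g⁻¹ ∈ P) :
    MulAction ↥M ↥P where
  smul g x := ⟨(g : G) * (x : G) * (g : G)⁻¹, hP g g.2 x x.2⟩
  one_smul x := Subtype.ext (by
    show ((1 : ↥M) : G) * (x : G) * ((1 : ↥M) : G)⁻¹ = x
    simp)
  mul_smul g h x := Subtype.ext (by
    show ((g * h : ↥M) : G) * (x : G) * ((g * h : ↥M) : G)⁻¹ = (g : G) * ((h : G) * (x : G) * (h : G)⁻¹) * (g : G)⁻¹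
    simp [mul_assoc])

theorem conjSetAction_smul (M : Subgroup G) (P : Set G) (hP : ∀ g ∈ M, ∀ x ∈ P, g * x * g⁻¹ ∈ P)
    (g : ↥M) (x : ↥P) :
    (((conjSetAction M P hP).smul g x : ↥P) : G) = (g : G) * (x : G) * (g : G)⁻¹ := rfl

/-- the punctured set of a subgroup -/
def punct (S : Subgroup G) : Set G := {x | x ∈ S ∧ x ≠ 1}

theorem card_punct [Finite G] (S : Subgroup G) : Nat.card ↥(punct S) = Nat.card S - 1 := by
  have h1 : punct S = (S : Set G) \ {1} := by
    ext x
    simp [punct]
  rw [h1, Nat.card_coe_set_eq, Set.ncard_sdiff_singleton_of_mem S.one_mem, ← Nat.card_coe_set_eq]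
  rfl

theorem punct_invariant (M S : Subgroup G) (h : M ≤ Subgroup.normalizer (S : Set G)) :
    ∀ g ∈ M, ∀ x ∈ punct S, g * x * g⁻¹ ∈ punct S := by
  intro g hg x hx
  refine ⟨(Subgroup.mem_normalizer_iff.mp (h hg) x).mp hx.1, ?_⟩
  intro h1
  apply hx.2
  have : x = g⁻¹ * (g * x * g⁻¹) * g := by group
  rw [this, h1]
  group

/-- the order of the stabilizer of an involution in the normalizer of an elementary abelian Sylow subgroup
of order 8 -/
theorem card_stab_24 [Finite G] (k : ℕ) (hk : Odd k) (hG : Nat.card G = 8 * k)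
    (S : Subgroup G) (hS8 : Nat.card S = 8) (hcomm : ∀ x ∈ S, ∀ y ∈ S, x * y = y * x)
    (hC : Subgroup.centralizer (S : Set G) ≤ S)
    (z : G) (hz : z ∈ S) (V : Subgroup G) (hVS : V ≤ S) (hV4 : Nat.card V = 4) (hzV : z ∉ V)
    (M : Subgroup G) (hSM : S ≤ M) (hMz : ∀ g ∈ M, z * g = g * z)
    (hMV : ∀ g ∈ M, ∀ v ∈ V, g * v * g⁻¹ ∈ V)
    (x₃ : G) (hx₃ : x₃ ∈ M) (hx₃S : x₃ ∉ S) : Nat.card M = 24 := by
  classical
  -- the decomposition of `S`
  have hdec : ∀ s ∈ S, s ∈ V ∨ z * s ∈ V := by
    intro s hs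
    have hidx : (V.subgroupOf S).index = 2 := by
      have h1 := Subgroup.card_mul_index (V.subgroupOf S)
      rw [hS8, Nat.card_congr (Subgroup.subgroupOfEquivOfLe hVS).toEquiv, hV4] at h1
      omega
    have h2 := Subgroup.mul_mem_iff_of_index_two hidx (a := (⟨z, hz⟩ : ↥S)) (b := ⟨s, hs⟩)
    simp only [Subgroup.mem_subgroupOf, Subgroup.coe_mul] at h2
    by_cases hsV : s ∈ V
    · exact Or.inl hsV
    · right
      rw [h2]
      exact ⟨fun h => (hzV h).elim, fun h => (hsV h).elim⟩
  -- the action on the nonidentity elements of `V`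
  have hinv : ∀ g ∈ M, ∀ x ∈ punct V, g * x * g⁻¹ ∈ punct V := by
    intro g hg x hx
    refine ⟨hMV g hg x hx.1, ?_⟩
    intro h1
    apply hx.2
    have : x = g⁻¹ * (g * x * g⁻¹) * g := by group
    rw [this, h1]
    group
  letI act := conjSetAction M (punct V) hinv
  let φ : ↥M →* Equiv.Perm ↥(punct V) := MulAction.toPermHom ↥M ↥(punct V)
  have hφ : ∀ (g : ↥M) (y : ↥(punct V)), ((φ g y : ↥(punct V)) : G) = (g : G) * (y : G) * (g : G)⁻¹ :=
    fun g y => rfl
  -- the kernel
  have hker : φ.ker = S.subgroupOf M := by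
    ext g
    rw [MonoidHom.mem_ker, Subgroup.mem_subgroupOf]
    constructor
    · intro h
      apply hC
      rw [Subgroup.mem_centralizer_iff]
      have hgz : z * (g : G) = (g : G) * z := hMz _ g.2
      have hgv : ∀ v ∈ V, v * (g : G) = (g : G) * v := by
        intro v hv
        by_cases hv1 : v = 1
        · rw [hv1, one_mul, mul_one]
        · have h1 := hφ g ⟨v, hv, hv1⟩
          rw [h] at h1
          have h2 : v = (g : G) * v * (g : G)⁻¹ := h1
          calc v * (g : G) = ((g : G) * v * (g : G)⁻¹) * (g : G) := by rw [← h2]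
            _ = (g : G) * v := by group
      intro s hs
      rcases hdec s hs with hv | hv
      · exact hgv s hv
      · have h1 := hgv _ hv
        have hzz : z⁻¹ * (g : G) = (g : G) * z⁻¹ := by
          calc z⁻¹ * (g : G) = z⁻¹ * ((g : G) * z) * z⁻¹ := by group
            _ = z⁻¹ * (z * (g : G)) * z⁻¹ := by rw [hgz]
            _ = (g : G) * z⁻¹ := by group
        calc s * (g : G) = z⁻¹ * ((z * s) * (g : G)) := by group
          _ = z⁻¹ * ((g : G) * (z * s)) := by rw [h1]
          _ = (z⁻¹ * (g : G)) * (z * s) := by group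
          _ = ((g : G) * z⁻¹) * (z * s) := by rw [hzz]
          _ = (g : G) * s := by group
    · intro hgS
      apply Equiv.ext
      intro y
      apply Subtype.ext
      rw [hφ]
      have := hcomm _ hgS _ (hVS y.2.1)
      show (g : G) * (y : G) * (g : G)⁻¹ = (y : G)
      rw [this]
      group
  -- the cardinalities
  have hcardker : Nat.card φ.ker = 8 := by
    rw [hker, Nat.card_congr (Subgroup.subgroupOfEquivOfLe hSM).toEquiv, hS8]
  have hcardM : Nat.card ↥M = 8 * Nat.card φ.range := by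
    rw [← Subgroup.card_mul_index φ.ker, Subgroup.index_ker, hcardker]
  have hY : Nat.card ↥(punct V) = 3 := by rw [card_punct, hV4]
  have hdvd6 : Nat.card φ.range ∣ 6 := by
    have h1 := Subgroup.card_subgroup_dvd_card φ.range
    have h2 : Nat.card (Equiv.Perm ↥(punct V)) = 6 := by
      rw [Nat.card_perm, hY]
      rfl
    rwa [h2] at h1
  have hodd : Odd (Nat.card φ.range) := by
    have h1 : Nat.card ↥M ∣ Nat.card G := Subgroup.card_subgroup_dvd_card M
    rw [hcardM, hG] at h1
    have h2 : Nat.card φ.range ∣ k := (Nat.mul_dvd_mul_iff_left (by norm_num)).mp h1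
    exact Odd.of_dvd_nat hk h2
  have hne1 : Nat.card φ.range ≠ 1 := by
    intro h1
    have hbot : φ.range = ⊥ := Subgroup.card_eq_one.mp h1
    have h2 : φ ⟨x₃, hx₃⟩ ∈ φ.range := ⟨_, rfl⟩
    rw [hbot, Subgroup.mem_bot] at h2
    have h3 : (⟨x₃, hx₃⟩ : ↥M) ∈ φ.ker := h2
    rw [hker, Subgroup.mem_subgroupOf] at h3
    exact hx₃S h3
  have key : ∀ r : ℕ, r ∣ 6 → Odd r → r ≠ 1 → r = 3 := by
    intro r h1 h2 h3
    have hle : r ≤ 6 := Nat.le_of_dvd (by norm_num) h1
    interval_cases r <;> first | rfl | omega | (exfalso; revert h2; decide) | (exfalso; revert h1; decide)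
  have h3 : Nat.card φ.range = 3 := key _ hdvd6 hodd hne1
  rw [hcardM, h3]

end conjaction

section main
variable {G : Type*} [Group G]

theorem card_orbit_mul_card_stabilizer {A X : Type*} [Group A] [MulAction A X] (b : X) :
    Nat.card (MulAction.orbit A b) * Nat.card (MulAction.stabilizer A b) = Nat.card A := by
  rw [← Nat.card_prod, Nat.card_congr (MulAction.orbitProdStabilizerEquivGroup A b)]

theorem comm_of_exp_two (S : Subgroup G) (hexp : ∀ x ∈ S, x * x = 1) :
    ∀ x ∈ S, ∀ y ∈ S, x * y = y * x := by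
  intro x hx y hy
  have h1 := hexp x hx
  have h2 := hexp y hy
  have h3 := hexp (x * y) (S.mul_mem hx hy)
  have hx' : x⁻¹ = x := inv_eq_of_mul_eq_one_right h1
  have hy' : y⁻¹ = y := inv_eq_of_mul_eq_one_right h2
  have hxy : (x * y)⁻¹ = x * y := inv_eq_of_mul_eq_one_right h3
  rw [← hxy, mul_inv_rev, hx', hy']

/-- the order of the normalizer of a self-centralizing elementary abelian Sylow `2`-subgroup of order 8 in a
perfect group -/
theorem card_normalizer_168 [Finite G] (k : ℕ) (hk : Odd k) (hG : Nat.card G = 8 * k)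
    (hperf : commutator G = ⊤)
    (S : Sylow 2 G) (hS8 : Nat.card (S : Subgroup G) = 8) (hexp : ∀ x ∈ (S : Subgroup G), x * x = 1)
    (hC : Subgroup.centralizer ((S : Subgroup G) : Set G) ≤ S)
    (z : G) (hz : z ∈ (S : Subgroup G)) (hz1 : z ≠ 1) (V : Subgroup G) (hVS : V ≤ S) (hV4 : Nat.card V = 4)
    (hzV : z ∉ V)
    (hMV : ∀ g ∈ Subgroup.normalizer ((S : Subgroup G) : Set G), z * g = g * z → ∀ v ∈ V, g * v * g⁻¹ ∈ V)
    (x₃ : G) (hx₃N : x₃ ∈ Subgroup.normalizer ((S : Subgroup G) : Set G)) (hx₃z : z * x₃ = x₃ * z)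
    (hx₃S : x₃ ∉ (S : Subgroup G)) :
    Nat.card (Subgroup.normalizer ((S : Subgroup G) : Set G)) = 168 := by
  classical
  haveI : Fact (Nat.Prime 2) := ⟨Nat.prime_two⟩
  have hcomm := comm_of_exp_two (S : Subgroup G) hexp
  haveI : IsMulCommutative ↥(S : Subgroup G) := ⟨⟨fun a b => Subtype.ext (hcomm _ a.2 _ b.2)⟩⟩
  set N : Subgroup G := Subgroup.normalizer ((S : Subgroup G) : Set G) with hN
  have hSN : (S : Subgroup G) ≤ N := Subgroup.le_normalizer
  -- the order of `N`
  obtain ⟨k₂, hk₂, hcardN⟩ : ∃ k₂ : ℕ, Odd k₂ ∧ Nat.card N = 8 * k₂ := by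
    obtain ⟨j, hj⟩ : 8 ∣ Nat.card N := by
      rw [← hS8]
      exact Subgroup.card_dvd_of_le hSN
    refine ⟨j, ?_, hj⟩
    have h1 : Nat.card N ∣ Nat.card G := Subgroup.card_subgroup_dvd_card N
    rw [hj, hG] at h1
    exact Odd.of_dvd_nat hk ((Nat.mul_dvd_mul_iff_left (by norm_num)).mp h1)
  -- the stabilizer
  set M : Subgroup G := N ⊓ Subgroup.centralizer {z} with hM
  have hMz : ∀ g ∈ M, z * g = g * z := by
    intro g hg
    exact (Subgroup.mem_centralizer_iff.mp hg.2) z rfl
  have hSM : (S : Subgroup G) ≤ M := by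
    intro s hs
    refine ⟨hSN hs, ?_⟩
    show s ∈ Subgroup.centralizer {z}
    rw [Subgroup.mem_centralizer_iff]
    intro y hy
    rw [Set.mem_singleton_iff] at hy
    subst hy
    exact hcomm _ hz _ hs
  have hcardM : Nat.card M = 24 :=
    card_stab_24 k hk hG (S : Subgroup G) hS8 hcomm hC z hz V hVS hV4 hzV M hSM hMz
      (fun g hg v hv => hMV g hg.1 (hMz g hg) v hv) x₃
      ⟨hx₃N, by
        show x₃ ∈ Subgroup.centralizer {z}
        rw [Subgroup.mem_centralizer_iff]
        intro y hy
        rw [Set.mem_singleton_iff] at hy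
        subst hy
        exact hx₃z⟩ hx₃S
  -- the action
  letI act := conjSetAction N (punct (S : Subgroup G)) (punct_invariant N (S : Subgroup G) le_rfl)
  have hsm : ∀ (g : ↥N) (x : ↥(punct (S : Subgroup G))), ((g • x : ↥(punct (S : Subgroup G))) : G) =
      (g : G) * (x : G) * (g : G)⁻¹ := fun g x => rfl
  have hX : Nat.card ↥(punct (S : Subgroup G)) = 7 := by rw [card_punct, hS8]
  have hstab : ∀ x : ↥(punct (S : Subgroup G)), 8 ∣ Nat.card (MulAction.stabilizer ↥N x) := by
    intro x
    have h1 : (S : Subgroup G).subgroupOf N ≤ MulAction.stabilizer ↥N x := by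
      intro g hg
      rw [Subgroup.mem_subgroupOf] at hg
      rw [MulAction.mem_stabilizer_iff]
      apply Subtype.ext
      rw [hsm, hcomm _ hg _ x.2.1]
      group
    have h2 := Subgroup.card_dvd_of_le h1
    rwa [Nat.card_congr (Subgroup.subgroupOfEquivOfLe hSN).toEquiv, hS8] at h2
  have hodd : ∀ x : ↥(punct (S : Subgroup G)), Odd (Nat.card (MulAction.orbit ↥N x)) := by
    intro x
    have h1 := card_orbit_mul_card_stabilizer (A := ↥N) x
    obtain ⟨j, hj⟩ := hstab x
    rw [hj, hcardN] at h1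
    have h2 : Nat.card (MulAction.orbit ↥N x) * j = k₂ := by
      have : 8 * (Nat.card (MulAction.orbit ↥N x) * j) = 8 * k₂ := by rw [← h1]; ring
      exact Nat.eq_of_mul_eq_mul_left (by norm_num) this
    exact Odd.of_dvd_nat hk₂ ⟨j, h2.symm⟩
  have hfix : ∀ x : ↥(punct (S : Subgroup G)), ∃ g : ↥N, g • x ≠ x := by
    intro x
    obtain ⟨n, hn, hne⟩ := exists_normalizer_not_comm S hperf (x : G) x.2.1 x.2.2
    refine ⟨⟨n, hn⟩, fun h => hne ?_⟩
    have := congrArg Subtype.val h
    rwa [hsm] at this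
  have htrans := exists_smul_eq_of_seven (A := ↥N) hX hodd hfix
  -- the orbit of `z`
  set z₀ : ↥(punct (S : Subgroup G)) := ⟨z, hz, hz1⟩ with hz₀
  have horb : Nat.card (MulAction.orbit ↥N z₀) = 7 := by
    have h1 : MulAction.orbit ↥N z₀ = Set.univ := by
      ext y
      simp only [Set.mem_univ, iff_true]
      obtain ⟨g, hg⟩ := htrans z₀ y
      exact ⟨g, hg⟩
    rw [h1, Nat.card_congr (Equiv.Set.univ _), hX]
  have hst : Nat.card (MulAction.stabilizer ↥N z₀) = 24 := by
    have h1 : MulAction.stabilizer ↥N z₀ = M.subgroupOf N := by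
      ext g
      rw [MulAction.mem_stabilizer_iff, Subgroup.mem_subgroupOf]
      constructor
      · intro h
        refine ⟨g.2, ?_⟩
        show (g : G) ∈ Subgroup.centralizer {z}
        rw [Subgroup.mem_centralizer_iff]
        intro y hy
        rw [Set.mem_singleton_iff] at hy
        subst hy
        have h2 := congrArg Subtype.val h
        rw [hsm] at h2
        have h3 : (g : G) * y * (g : G)⁻¹ = y := h2
        calc y * (g : G) = ((g : G) * y * (g : G)⁻¹) * (g : G) := by rw [h3]
          _ = (g : G) * y := by group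
      · intro h
        apply Subtype.ext
        rw [hsm]
        show (g : G) * z * (g : G)⁻¹ = z
        rw [← hMz _ h]
        group
    rw [h1, Nat.card_congr (Subgroup.subgroupOfEquivOfLe (inf_le_left : M ≤ N)).toEquiv, hcardM]
  have h1 := card_orbit_mul_card_stabilizer (A := ↥N) z₀
  rw [horb, hst] at h1
  rw [← h1]

end main

end Cfsg.Agent.Lib.Helper3.Ree
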