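import Mathlib
import Cfsg.Agent.Lib.Helper3.Ree29
set_option autoImplicit false
set_option linter.unusedSectionVars false
set_option linter.style.haveILetI false
set_option linter.unusedSimpArgs false

/-!
Elementary abelian subgroups of order 8 generated by three involutions, and the transport of the
centralizer and the normalizer of a Sylow subgroup along conjugation.
-/

namespace Cfsg.Agent.Lib.Helper3.Ree

open scoped Pointwise

section abstract2
variable {G : Type*} [Group G]

/-- three commuting independent involutions generate an elementary abelian group of order 8 (with the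
description of its elements) -/
theorem exists_e8_full (B : Subgroup G) (z a b : G) (hz : z ∈ B) (hz1 : z ≠ 1)
    (ha : a ∉ B) (hb : b ∉ B) (hab : a * b ∉ B) (hzz : z * z = 1) (haa : a * a = 1) (hbb : b * b = 1)
    (cza : z * a = a * z) (czb : z * b = b * z) (cab : a * b = b * a) :
    ∃ E : Subgroup G, Nat.card E = 8 ∧ (∀ x ∈ E, x * x = 1) ∧ z ∈ E ∧ a ∈ E ∧ b ∈ E ∧
      ∀ x ∈ E, ∃ i j k : ℕ, x = z ^ i * (a ^ j * b ^ k) := by
  have c1 : ∀ m n, Commute (invHom a haa m) (invHom b hbb n) := by
    intro m n
    rw [invHom_apply, invHom_apply]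
    exact Commute.pow_pow cab _ _
  set f23 := (invHom a haa).noncommCoprod (invHom b hbb) c1 with hf23
  have c2 : ∀ m n, Commute (invHom z hzz m) (f23 n) := by
    intro m n
    rw [hf23, MonoidHom.noncommCoprod_apply, invHom_apply, invHom_apply, invHom_apply]
    exact (Commute.pow_pow cza _ _).mul_right (Commute.pow_pow czb _ _)
  set f := (invHom z hzz).noncommCoprod f23 c2 with hf
  have hfa : ∀ i j k, f (i, j, k) = z ^ (Multiplicative.toAdd i).val * (a ^ (Multiplicative.toAdd j).val *
      b ^ (Multiplicative.toAdd k).val) := by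
    intro i j k
    rw [hf, MonoidHom.noncommCoprod_apply, hf23, MonoidHom.noncommCoprod_apply]
    rfl
  have hv1 : (Multiplicative.toAdd (1 : Multiplicative (ZMod 2))).val = 0 := by decide
  have hv2 : (Multiplicative.toAdd (Multiplicative.ofAdd (1 : ZMod 2))).val = 1 := by decide
  have hzinv : z⁻¹ = z := inv_eq_of_mul_eq_one_right hzz
  have hinj : Function.Injective f := by
    rw [injective_iff_map_eq_one]
    rintro ⟨i, j, k⟩ h
    rw [hfa] at h
    rcases zmod_two_cases i with rfl | rfl <;> rcases zmod_two_cases j with rfl | rfl <;>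
      rcases zmod_two_cases k with rfl | rfl <;>
      simp only [hv1, hv2, pow_zero, pow_one, one_mul, mul_one] at h
    · rfl
    · exact (hb (h ▸ B.one_mem)).elim
    · exact (ha (h ▸ B.one_mem)).elim
    · exact (hab (h ▸ B.one_mem)).elim
    · exact (hz1 h).elim
    · exfalso
      apply hb
      have : b = z⁻¹ := eq_inv_of_mul_eq_one_right h
      rw [this]
      exact B.inv_mem hz
    · exfalso
      apply ha
      have : a = z⁻¹ := eq_inv_of_mul_eq_one_right h
      rw [this]
      exact B.inv_mem hz
    · exfalso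
      apply hab
      have : a * b = z⁻¹ := eq_inv_of_mul_eq_one_right h
      rw [this]
      exact B.inv_mem hz
  refine ⟨f.range, ?_, ?_, ?_, ?_, ?_, ?_⟩
  · rw [← Nat.card_congr (MonoidHom.ofInjective hinj).toEquiv, Nat.card_prod, Nat.card_prod]
    simp [Nat.card_eq_fintype_card]
  · rintro _ ⟨p, rfl⟩
    rw [← map_mul]
    have : p * p = 1 := by
      revert p
      decide
    rw [this, map_one]
  · refine ⟨(Multiplicative.ofAdd 1, 1, 1), ?_⟩
    rw [hfa]
    simp only [hv1, hv2, pow_zero, pow_one, mul_one]
  · refine ⟨(1, Multiplicative.ofAdd 1, 1), ?_⟩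
    rw [hfa]
    simp only [hv1, hv2, pow_zero, pow_one, mul_one, one_mul]
  · refine ⟨(1, 1, Multiplicative.ofAdd 1), ?_⟩
    rw [hfa]
    simp only [hv1, hv2, pow_zero, pow_one, mul_one, one_mul]
  · rintro _ ⟨⟨i, j, k⟩, rfl⟩
    exact ⟨_, _, _, hfa i j k⟩

/-- an element conjugating a finite subgroup into itself normalizes it -/
theorem mem_normalizer_of_conj_mem (H : Subgroup G) [Finite H] (g : G) (h : ∀ x ∈ H, g * x * g⁻¹ ∈ H) :
    g ∈ Subgroup.normalizer (H : Set G) := by
  rw [Subgroup.mem_normalizer_iff]
  intro y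
  refine ⟨h y, fun hy => ?_⟩
  let c : ↥H → ↥H := fun x => ⟨g * x * g⁻¹, h x x.2⟩
  have hc : Function.Injective c := by
    intro x x' e
    have := congrArg Subtype.val e
    simp only [c] at this
    exact Subtype.ext (mul_left_cancel (mul_right_cancel this))
  obtain ⟨x, hx⟩ := (Finite.injective_iff_surjective.mp hc) ⟨g * y * g⁻¹, hy⟩
  have := congrArg Subtype.val hx
  simp only [c] at this
  have : (x : G) = y := mul_left_cancel (mul_right_cancel this)
  rw [← this]
  exact x.2

/-- transport of the centralizer and the normalizer along conjugation of Sylow subgroups -/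
theorem sylow_transport [Finite G] {p : ℕ} [Fact p.Prime] (S₀ S : Sylow p G)
    (hC : Subgroup.centralizer ((S₀ : Subgroup G) : Set G) = S₀) :
    Subgroup.centralizer ((S : Subgroup G) : Set G) = S ∧
      Nat.card (Subgroup.normalizer ((S : Subgroup G) : Set G)) =
        Nat.card (Subgroup.normalizer ((S₀ : Subgroup G) : Set G)) := by
  obtain ⟨g, hg⟩ := MulAction.exists_smul_eq G S₀ S
  have hS : (S : Subgroup G) = (S₀ : Subgroup G).map (MulAut.conj g).toMonoidHom := by
    rw [← hg, Sylow.smul_def]
    rfl
  have hmem : ∀ x, x ∈ (S : Subgroup G) ↔ g⁻¹ * x * g ∈ (S₀ : Subgroup G) := by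
    intro x
    rw [hS, Subgroup.mem_map_equiv]
    simp [MulAut.conj_symm_apply]
  constructor
  · ext x
    rw [hmem, ← hC, Subgroup.mem_centralizer_iff, Subgroup.mem_centralizer_iff]
    constructor
    · intro h y hy
      have hy' : g * y * g⁻¹ ∈ (S : Subgroup G) := by
        rw [hmem]
        have : g⁻¹ * (g * y * g⁻¹) * g = y := by group
        rw [this]
        exact hy
      have := h _ hy'
      calc y * (g⁻¹ * x * g) = g⁻¹ * ((g * y * g⁻¹) * x) * g := by group
        _ = g⁻¹ * (x * (g * y * g⁻¹)) * g := by rw [this]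
        _ = g⁻¹ * x * g * y := by group
    · intro h y hy
      have hy' := (hmem y).mp hy
      have := h _ hy'
      calc y * x = g * ((g⁻¹ * y * g) * (g⁻¹ * x * g)) * g⁻¹ := by group
        _ = g * ((g⁻¹ * x * g) * (g⁻¹ * y * g)) * g⁻¹ := by rw [this]
        _ = x * y := by group
  · rw [hS, ← Subgroup.map_equiv_normalizer_eq]
    exact Subgroup.card_map_of_injective (MulAut.conj g).injective

end abstract2

end Cfsg.Agent.Lib.Helper3.Ree
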