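import Mathlib
import Cfsg.Agent.Lib.Helper3.Ree32
import Cfsg.Agent.Lib.Helper3.Ree19
import Cfsg.Agent.Lib.Helper3.Ree33
import Cfsg.Agent.Lib.Helper3.Ree34
set_option autoImplicit false
set_option linter.unusedSectionVars false
set_option linter.style.haveILetI false
set_option linter.unusedSimpArgs false
open Cfsg Cfsg.Lie

/-!
The quaternion subgroup of `SL₂(K)` in characteristic 3 and the elementary abelian subgroup of order 8 of
the twisted group of type `G₂`.
-/

namespace Cfsg.Agent.Lib.Helper3.Ree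

open Cfsg.Agent.Lib.Helper3.ChevM Cfsg.Agent.Lib.Helper3.SL2P

section
variable {K : Type*} [Field K] [CharP K 3]

theorem sl2_ext (X Y : Matrix.SpecialLinearGroup (Fin 2) K)
    (h00 : X.1 0 0 = Y.1 0 0) (h01 : X.1 0 1 = Y.1 0 1) (h10 : X.1 1 0 = Y.1 1 0) (h11 : X.1 1 1 = Y.1 1 1) :
    X = Y := by
  apply Subtype.ext
  ext i j
  fin_cases i <;> fin_cases j <;> assumption

theorem comm_wE_entries (A : Matrix.SpecialLinearGroup (Fin 2) K) (h : A * wE = wE * A) :
    A.1 1 0 = -A.1 0 1 ∧ A.1 1 1 = A.1 0 0 := by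
  replace h := congrArg Subtype.val h
  simp only [Matrix.SpecialLinearGroup.coe_mul] at h
  have e00 := congrFun (congrFun h 0) 0
  have e01 := congrFun (congrFun h 0) 1
  simp [wE, Matrix.mul_apply, Fin.sum_univ_two] at e00 e01
  exact ⟨by rw [← e00], e01.symm⟩

theorem anti_wE_entries (A : Matrix.SpecialLinearGroup (Fin 2) K) (h : A * wE = wE * wE * wE * A) :
    A.1 1 0 = A.1 0 1 ∧ A.1 1 1 = -A.1 0 0 := by
  replace h := congrArg Subtype.val h
  simp only [Matrix.SpecialLinearGroup.coe_mul] at h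
  have e00 := congrFun (congrFun h 0) 0
  have e01 := congrFun (congrFun h 0) 1
  simp [wE, Matrix.mul_apply, Fin.sum_univ_two] at e00 e01
  constructor
  · exact e00.symm
  · linear_combination e01

theorem comm_mE_entries (A : Matrix.SpecialLinearGroup (Fin 2) K) (h : A * mE = mE * A) :
    A.1 1 0 = A.1 0 1 ∧ A.1 1 1 = A.1 0 0 + A.1 0 1 := by
  have h3 := three_eq_zero (K := K)
  replace h := congrArg Subtype.val h
  simp only [Matrix.SpecialLinearGroup.coe_mul] at h
  have e00 := congrFun (congrFun h 0) 0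
  have e01 := congrFun (congrFun h 0) 1
  simp [mE, Matrix.mul_apply, Fin.sum_univ_two] at e00 e01
  constructor
  · exact e00.symm
  · linear_combination -e01 - A.1 0 1 * h3

theorem anti_mE_entries (A : Matrix.SpecialLinearGroup (Fin 2) K) (h : A * mE = wE * wE * mE * A) :
    A.1 1 0 = A.1 0 0 - A.1 0 1 ∧ A.1 1 1 = -A.1 0 0 := by
  have h3 := three_eq_zero (K := K)
  replace h := congrArg Subtype.val h
  simp only [Matrix.SpecialLinearGroup.coe_mul] at h
  have e00 := congrFun (congrFun h 0) 0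
  have e01 := congrFun (congrFun h 0) 1
  simp [mE, wE, Matrix.mul_apply, Fin.sum_univ_two] at e00 e01
  constructor
  · linear_combination e00 - A.1 0 0 * h3
  · linear_combination e01


theorem two_ne_zero_three' : (2 : K) ≠ 0 := by
  intro h
  have h3 := three_eq_zero (K := K)
  have : (1 : K) = 0 := by linear_combination h3 - h
  exact one_ne_zero this

theorem neg_entries (B : Matrix.SpecialLinearGroup (Fin 2) K) (i j : Fin 2) :
    (wE * wE * B).1 i j = -B.1 i j := by
  show ((wE * wE * B : Matrix.SpecialLinearGroup (Fin 2) K) : Matrix (Fin 2) (Fin 2) K) i j = _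
  simp only [Matrix.SpecialLinearGroup.coe_mul]
  fin_cases i <;> fin_cases j <;> simp [wE, Matrix.mul_apply, Fin.sum_univ_two]

theorem wE_mE_entries (i j : Fin 2) :
    ((wE : Matrix.SpecialLinearGroup (Fin 2) K) * mE).1 i j = (!![1, -1; -1, -1] : Matrix (Fin 2) (Fin 2) K) i j := by
  show ((wE * mE : Matrix.SpecialLinearGroup (Fin 2) K) : Matrix (Fin 2) (Fin 2) K) i j = _
  simp only [Matrix.SpecialLinearGroup.coe_mul]
  fin_cases i <;> fin_cases j <;> simp [wE, mE, Matrix.mul_apply, Fin.sum_univ_two]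

/-- the elements of `SL₂(K)` centralizing the quaternion group modulo the center -/
theorem sl2_q8 (A : Matrix.SpecialLinearGroup (Fin 2) K)
    (h1 : A * wE = wE * A ∨ A * wE = wE * wE * wE * A)
    (h2 : A * mE = mE * A ∨ A * mE = wE * wE * mE * A) :
    ∃ B : Matrix.SpecialLinearGroup (Fin 2) K, (B = 1 ∨ B = wE ∨ B = mE ∨ B = wE * mE) ∧
      (A = B ∨ A = wE * wE * B) := by
  have h3 := three_eq_zero (K := K)
  have h2ne := two_ne_zero_three' (K := K)
  have hdet := det_eq A
  rcases h1 with h1 | h1 <;> rcases h2 with h2 | h2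
  · obtain ⟨e1, e2⟩ := comm_wE_entries A h1
    obtain ⟨e3, e4⟩ := comm_mE_entries A h2
    have hb : A.1 0 1 = 0 := by
      have : (2 : K) * A.1 0 1 = 0 := by linear_combination e1 - e3
      exact (mul_eq_zero.mp this).resolve_left h2ne
    have hc : A.1 1 0 = 0 := by rw [e1, hb, neg_zero]
    have ha : A.1 0 0 * A.1 0 0 = 1 := by
      rw [e2, hb, hc] at hdet
      linear_combination hdet
    refine ⟨1, Or.inl rfl, ?_⟩
    rcases mul_self_eq_one_iff.mp ha with ha | ha
    · left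
      apply sl2_ext <;> simp [ha, hb, hc, e2]
    · right
      apply sl2_ext <;> rw [neg_entries] <;> simp [ha, hb, hc, e2]
  · obtain ⟨e1, e2⟩ := comm_wE_entries A h1
    obtain ⟨e3, e4⟩ := anti_mE_entries A h2
    have ha : A.1 0 0 = 0 := by
      have : (2 : K) * A.1 0 0 = 0 := by linear_combination e4 - e2
      exact (mul_eq_zero.mp this).resolve_left h2ne
    have hd : A.1 1 1 = 0 := by rw [e2, ha]
    have hb : A.1 0 1 * A.1 0 1 = 1 := by
      rw [ha, hd, e1] at hdet
      linear_combination hdet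
    refine ⟨wE, Or.inr (Or.inl rfl), ?_⟩
    rcases mul_self_eq_one_iff.mp hb with hb | hb
    · left
      apply sl2_ext <;> simp [wE, ha, hb, hd, e1]
    · right
      apply sl2_ext <;> rw [neg_entries] <;> simp [wE, ha, hb, hd, e1]
  · obtain ⟨e1, e2⟩ := anti_wE_entries A h1
    obtain ⟨e3, e4⟩ := comm_mE_entries A h2
    have hb : A.1 0 1 = A.1 0 0 := by linear_combination e2 - e4 - A.1 0 0 * h3
    have ha : A.1 0 0 * A.1 0 0 = 1 := by
      rw [e2, e1, hb] at hdet
      linear_combination hdet + A.1 0 0 * A.1 0 0 * h3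
    refine ⟨mE, Or.inr (Or.inr (Or.inl rfl)), ?_⟩
    rcases mul_self_eq_one_iff.mp ha with ha | ha
    · left
      apply sl2_ext <;> simp [mE, ha, hb, e1, e2]
    · right
      apply sl2_ext <;> rw [neg_entries] <;> simp [mE, ha, hb, e1, e2]
  · obtain ⟨e1, e2⟩ := anti_wE_entries A h1
    obtain ⟨e3, e4⟩ := anti_mE_entries A h2
    have ha : A.1 0 0 = -A.1 0 1 := by linear_combination e1 - e3 + A.1 0 1 * h3
    have hb : A.1 0 1 * A.1 0 1 = 1 := by
      rw [e2, e1, ha] at hdet
      linear_combination hdet + A.1 0 1 * A.1 0 1 * h3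
    refine ⟨wE * mE, Or.inr (Or.inr (Or.inr rfl)), ?_⟩
    rcases mul_self_eq_one_iff.mp hb with hb | hb
    · right
      apply sl2_ext <;> rw [neg_entries, wE_mE_entries] <;> simp [ha, hb, e1, e2]
    · left
      apply sl2_ext <;> rw [wE_mE_entries] <;> simp [ha, hb, e1, e2]

end

section
variable {K : Type*} [Field K] [Fintype K] [CharP K 3]

/-- elements of `SL₂(K)` with the same image under `phiR` -/
theorem phiR_eq_iff (m : ℕ) (X Y : Matrix.SpecialLinearGroup (Fin 2) K) (h : phiR m X = phiR m Y) :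
    X = Y ∨ X = wE * wE * Y := by
  have h1 : phiR m (X * Y⁻¹) = 1 := by rw [map_mul, map_inv, h, mul_inv_cancel]
  rcases phiR_ker m _ h1 with h2 | h2
  · left
    exact mul_inv_eq_one.mp h2
  · right
    rw [← h2]
    group

theorem phiR_neg (m : ℕ) (Y : Matrix.SpecialLinearGroup (Fin 2) K) : phiR m (wE * wE * Y) = phiR m Y := by
  rw [map_mul, phiR_wE_sq, one_mul]

/-- the second involution -/
noncomputable def aG (m : ℕ) : ↥(tG2 K (3 ^ m)) := psiR m wE

/-- the third involution -/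
noncomputable def bG (m : ℕ) : ↥(tG2 K (3 ^ m)) := psiR m mE

/-- the element of order three -/
noncomputable def cG (m : ℕ) : ↥(tG2 K (3 ^ m)) := psiR m (xE 1)

/-- the Borel subgroup of the twisted group -/
def borelG (K : Type*) [Field K] (θ : ℕ) : Subgroup ↥(tG2 K θ) := (cdG2.D.borelSubgroup K).subgroupOf (tG2 K θ)

theorem psiR_not_mem_borelG (m : ℕ) (A : Matrix.SpecialLinearGroup (Fin 2) K) (hc : A.1 1 0 ≠ 0) :
    psiR m A ∉ borelG K (3 ^ m) := by
  unfold borelG
  rw [Subgroup.mem_subgroupOf]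
  exact phiR_not_mem_borel m A hc

theorem zG_mem_borelG (m : ℕ) (hK : Fintype.card K = 3 ^ (2 * m + 1)) : zG m hK ∈ borelG K (3 ^ m) := by
  have hne : (-1 : K) ≠ 0 := neg_ne_zero.mpr one_ne_zero
  unfold borelG
  rw [Subgroup.mem_subgroupOf]
  exact Subgroup.mem_sup_right (hT_mem _ _ (pow_ne_zero _ hne) hne)

theorem zG_ne_one (m : ℕ) (hK : Fintype.card K = 3 ^ (2 * m + 1)) : zG (K := K) m hK ≠ 1 :=
  fun h => hRee_neg_one_ne (K := K) (3 ^ m) (congrArg Subtype.val h)

theorem zG_comm_psiR (m : ℕ) (hK : Fintype.card K = 3 ^ (2 * m + 1)) (A : Matrix.SpecialLinearGroup (Fin 2) K) :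
    zG m hK * psiR m A = psiR m A * zG m hK :=
  Subtype.ext (zR_comm_phiR m A)

theorem psiR_wE_sq (m : ℕ) : psiR (K := K) m (wE * wE) = 1 := Subtype.ext (phiR_wE_sq m)

theorem aG_sq (m : ℕ) : aG (K := K) m * aG m = 1 := by
  unfold aG
  rw [← map_mul, psiR_wE_sq]

theorem bG_sq (m : ℕ) : bG (K := K) m * bG m = 1 := by
  unfold bG
  rw [← map_mul, mE_sq, psiR_wE_sq]

theorem aG_comm_bG (m : ℕ) : aG (K := K) m * bG m = bG m * aG m := by
  unfold aG bG
  rw [← map_mul, wE_mul_mE, map_mul, map_mul, psiR_wE_sq, one_mul]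

theorem aG_mul_bG (m : ℕ) : aG (K := K) m * bG m = psiR m (wE * mE) := by
  unfold aG bG
  rw [map_mul]

/-- the elementary abelian subgroup of order 8, with its properties -/
theorem exists_e8_ree (m : ℕ) (hK : Fintype.card K = 3 ^ (2 * m + 1)) :
    ∃ E : Subgroup ↥(tG2 K (3 ^ m)), Nat.card E = 8 ∧ (∀ x ∈ E, x * x = 1) ∧ zG m hK ∈ E ∧ aG m ∈ E ∧ bG m ∈ E ∧
      ∀ x ∈ E, ∃ i j k : ℕ, x = zG m hK ^ i * (aG m ^ j * bG m ^ k) :=
  exists_e8_full (borelG K (3 ^ m)) (zG m hK) (aG m) (bG m) (zG_mem_borelG m hK) (zG_ne_one m hK)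
    (psiR_not_mem_borelG m _ wE_10) (psiR_not_mem_borelG m _ mE_10)
    (by rw [aG_mul_bG]; exact psiR_not_mem_borelG m _ wE_mE_10)
    (zG_sq m hK) (aG_sq m) (bG_sq m) (zG_comm_psiR m hK _) (zG_comm_psiR m hK _) (aG_comm_bG m)

end

end Cfsg.Agent.Lib.Helper3.Ree
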