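import Mathlib
import Cfsg.Agent.Lib.Helper3.Ree35
set_option autoImplicit false
set_option linter.unusedSectionVars false
set_option linter.style.haveILetI false
set_option linter.unusedSimpArgs false
open Cfsg Cfsg.Lie

/-!
A Sylow `2`-subgroup of the twisted group of type `G₂` is self-centralizing and its normalizer has order 168.
-/

namespace Cfsg.Agent.Lib.Helper3.Ree

open Cfsg.Agent.Lib.Helper3.ChevM Cfsg.Agent.Lib.Helper3.SL2P

section
variable {K : Type*} [Field K] [Fintype K] [CharP K 3]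

/-- the centralizer of the involution `zG` in the twisted group -/
theorem centralizer_zG (m : ℕ) (hK : Fintype.card K = 3 ^ (2 * m + 1)) (g : ↥(tG2 K (3 ^ m)))
    (hg : zG m hK * g = g * zG m hK) :
    ∃ A : Matrix.SpecialLinearGroup (Fin 2) K, g = psiR m A ∨ g = zG m hK * psiR m A := by
  obtain ⟨A, hA | hA⟩ := centralizer_zR m hK g g.2 (congrArg Subtype.val hg)
  · exact ⟨A, Or.inl (Subtype.ext hA)⟩
  · exact ⟨A, Or.inr (Subtype.ext hA)⟩

theorem psiR_eq_iff (m : ℕ) (X Y : Matrix.SpecialLinearGroup (Fin 2) K) (h : psiR m X = psiR m Y) :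
    X = Y ∨ X = wE * wE * Y :=
  phiR_eq_iff m X Y (congrArg Subtype.val h)

theorem psiR_neg (m : ℕ) (Y : Matrix.SpecialLinearGroup (Fin 2) K) : psiR m (wE * wE * Y) = psiR m Y :=
  Subtype.ext (phiR_neg m Y)

/-- elements of the image of `SL₂(K)` commuting with the two involutions `aG` and `bG` -/
theorem psiR_comm_aG_bG (m : ℕ) (A : Matrix.SpecialLinearGroup (Fin 2) K)
    (ha : psiR m A * aG m = aG m * psiR m A) (hb : psiR m A * bG m = bG m * psiR m A) :
    psiR m A = 1 ∨ psiR m A = aG m ∨ psiR m A = bG m ∨ psiR m A = aG m * bG m := by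
  have h1 : A * wE = wE * A ∨ A * wE = wE * wE * wE * A := by
    unfold aG at ha
    rw [← map_mul, ← map_mul] at ha
    rcases psiR_eq_iff m _ _ ha with h | h
    · exact Or.inl h
    · right
      rw [h]
      group
  have h2 : A * mE = mE * A ∨ A * mE = wE * wE * mE * A := by
    unfold bG at hb
    rw [← map_mul, ← map_mul] at hb
    rcases psiR_eq_iff m _ _ hb with h | h
    · exact Or.inl h
    · right
      rw [h]
      group
  obtain ⟨B, hB, hAB⟩ := sl2_q8 A h1 h2
  have hAB' : psiR m A = psiR m B := by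
    rcases hAB with rfl | rfl
    · rfl
    · exact psiR_neg m B
  rw [hAB']
  rcases hB with rfl | rfl | rfl | rfl
  · left; exact map_one _
  · right; left; rfl
  · right; right; left; rfl
  · right; right; right
    rw [map_mul]
    rfl

/-- the elementary abelian subgroup of order 8 is self-centralizing -/
theorem centralizer_e8_le (m : ℕ) (hK : Fintype.card K = 3 ^ (2 * m + 1)) (E : Subgroup ↥(tG2 K (3 ^ m)))
    (hz : zG m hK ∈ E) (ha : aG m ∈ E) (hb : bG m ∈ E) :
    Subgroup.centralizer (E : Set ↥(tG2 K (3 ^ m))) ≤ E := by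
  intro g hg
  rw [Subgroup.mem_centralizer_iff] at hg
  have hgz := hg _ hz
  have hga := hg _ ha
  have hgb := hg _ hb
  obtain ⟨A, hA⟩ := centralizer_zG m hK g hgz
  -- `psiR A` commutes with `aG` and `bG`
  have hc : ∀ y : ↥(tG2 K (3 ^ m)), y * g = g * y → zG m hK * y = y * zG m hK →
      psiR m A * y = y * psiR m A := by
    intro y hy hzy
    rcases hA with rfl | rfl
    · exact hy.symm
    · have h1 : zG m hK * (psiR m A * y) = zG m hK * (y * psiR m A) := by
        calc zG m hK * (psiR m A * y) = (zG m hK * psiR m A) * y := by group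
          _ = y * (zG m hK * psiR m A) := hy.symm
          _ = (y * zG m hK) * psiR m A := by group
          _ = (zG m hK * y) * psiR m A := by rw [hzy]
          _ = zG m hK * (y * psiR m A) := by group
      exact mul_left_cancel h1
  have h1 := hc _ hga (zG_comm_psiR m hK _)
  have h2 := hc _ hgb (zG_comm_psiR m hK _)
  have h3 : psiR m A ∈ E := by
    rcases psiR_comm_aG_bG m A h1 h2 with h | h | h | h <;> rw [h]
    · exact E.one_mem
    · exact ha
    · exact hb
    · exact E.mul_mem ha hb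
  rcases hA with rfl | rfl
  · exact h3
  · exact E.mul_mem hz h3

theorem zG_not_mem_range (m : ℕ) (hK : Fintype.card K = 3 ^ (2 * m + 1)) :
    zG m hK ∉ (psiR (K := K) m).range := by
  rintro ⟨A, hA⟩
  exact phiR_ne_zR m A (congrArg Subtype.val hA)

theorem zG_pow (m : ℕ) (hK : Fintype.card K = 3 ^ (2 * m + 1)) (i : ℕ) :
    zG (K := K) m hK ^ i = 1 ∨ zG m hK ^ i = zG m hK := by
  induction i with
  | zero => left; exact pow_zero _
  | succ n ih =>
    rcases ih with h | h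
    · right; rw [pow_succ, h, one_mul]
    · left; rw [pow_succ, h, zG_sq]

/-- the four-subgroup: its index -/
theorem index_four_sub (m : ℕ) (hK : Fintype.card K = 3 ^ (2 * m + 1)) (E : Subgroup ↥(tG2 K (3 ^ m)))
    (hz : zG m hK ∈ E)
    (hform : ∀ x ∈ E, ∃ i j k : ℕ, x = zG m hK ^ i * (aG m ^ j * bG m ^ k)) :
    ((E ⊓ (psiR (K := K) m).range).subgroupOf E).index = 2 := by
  rw [Subgroup.index_eq_two_iff]
  refine ⟨⟨zG m hK, hz⟩, ?_⟩
  rintro ⟨x, hx⟩
  simp only [Subgroup.mem_subgroupOf, Subgroup.coe_mul]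
  have hzL := zG_not_mem_range (K := K) m hK
  obtain ⟨i, j, k, rfl⟩ := hform x hx
  have hl : aG (K := K) m ^ j * bG m ^ k ∈ (psiR (K := K) m).range := by
    have h1 : aG (K := K) m ∈ (psiR (K := K) m).range := ⟨wE, rfl⟩
    have h2 : bG (K := K) m ∈ (psiR (K := K) m).range := ⟨mE, rfl⟩
    exact Subgroup.mul_mem _ (Subgroup.pow_mem _ h1 _) (Subgroup.pow_mem _ h2 _)
  obtain ⟨A, hA⟩ := hl
  rw [← hA] at hx ⊢
  rcases zG_pow m hK i with h | h
  · rw [h, one_mul] at hx ⊢
    refine Or.inr ⟨⟨hx, ⟨A, rfl⟩⟩, ?_⟩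
    rintro ⟨-, B, hB⟩
    apply hzL
    refine ⟨A⁻¹ * B, ?_⟩
    rw [map_mul, hB, map_inv]
    group
  · rw [h] at hx ⊢
    refine Or.inl ⟨⟨?_, ?_⟩, ?_⟩
    · exact E.mul_mem hx hz
    · refine ⟨A, ?_⟩
      rw [mul_assoc, ← zG_comm_psiR m hK A, ← mul_assoc, zG_sq, one_mul]
    · rintro ⟨-, B, hB⟩
      apply hzL
      refine ⟨B * A⁻¹, ?_⟩
      rw [map_mul, hB, map_inv]
      group

theorem card_four_sub (m : ℕ) (hK : Fintype.card K = 3 ^ (2 * m + 1)) (E : Subgroup ↥(tG2 K (3 ^ m)))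
    (hE : Nat.card E = 8) (hz : zG m hK ∈ E)
    (hform : ∀ x ∈ E, ∃ i j k : ℕ, x = zG m hK ^ i * (aG m ^ j * bG m ^ k)) :
    Nat.card ↥(E ⊓ (psiR (K := K) m).range) = 4 := by
  have h1 := Subgroup.card_mul_index ((E ⊓ (psiR (K := K) m).range).subgroupOf E)
  rw [index_four_sub m hK E hz hform, hE,
    Nat.card_congr (Subgroup.subgroupOfEquivOfLe (inf_le_left : E ⊓ (psiR (K := K) m).range ≤ E)).toEquiv] at h1
  omega

/-- the stabilizer of `zG` in the normalizer of the subgroup of order 8 normalizes the four-subgroup -/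
theorem conj_four_sub (m : ℕ) (hK : Fintype.card K = 3 ^ (2 * m + 1)) (E : Subgroup ↥(tG2 K (3 ^ m)))
    (g : ↥(tG2 K (3 ^ m))) (hgN : g ∈ Subgroup.normalizer (E : Set ↥(tG2 K (3 ^ m))))
    (hgz : zG m hK * g = g * zG m hK) (v : ↥(tG2 K (3 ^ m))) (hv : v ∈ E ⊓ (psiR (K := K) m).range) :
    g * v * g⁻¹ ∈ E ⊓ (psiR (K := K) m).range := by
  refine ⟨(Subgroup.mem_normalizer_iff.mp hgN v).mp hv.1, ?_⟩
  obtain ⟨B, rfl⟩ := hv.2
  obtain ⟨A, rfl | rfl⟩ := centralizer_zG m hK g hgz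
  · exact ⟨A * B * A⁻¹, by rw [map_mul, map_mul, map_inv]⟩
  · refine ⟨A * B * A⁻¹, ?_⟩
    rw [map_mul, map_mul, map_inv]
    have h1 := zG_comm_psiR m hK (A * B * A⁻¹)
    rw [map_mul, map_mul, map_inv] at h1
    calc psiR m A * psiR m B * (psiR m A)⁻¹
        = (psiR m A * psiR m B * (psiR m A)⁻¹ * zG m hK) * (zG m hK)⁻¹ := by group
      _ = (zG m hK * (psiR m A * psiR m B * (psiR m A)⁻¹)) * (zG m hK)⁻¹ := by rw [h1]
      _ = zG m hK * psiR m A * psiR m B * (zG m hK * psiR m A)⁻¹ := by group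

theorem xE_wE : (xE (1 : K)) * wE = wE * wE * mE * xE 1 := by
  have h3 := three_eq_zero (K := K)
  apply sl2_ext <;>
  · show ((_ : Matrix.SpecialLinearGroup (Fin 2) K) : Matrix (Fin 2) (Fin 2) K) _ _ = _
    simp only [Matrix.SpecialLinearGroup.coe_mul]
    simp [wE, mE, xE, Matrix.mul_apply, Fin.sum_univ_two]
    try first | linear_combination h3 | linear_combination -h3

theorem xE_mE : (xE (1 : K)) * mE = wE * wE * (wE * mE) * xE 1 := by
  have h3 := three_eq_zero (K := K)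
  apply sl2_ext <;>
  · show ((_ : Matrix.SpecialLinearGroup (Fin 2) K) : Matrix (Fin 2) (Fin 2) K) _ _ = _
    simp only [Matrix.SpecialLinearGroup.coe_mul]
    simp [wE, mE, xE, Matrix.mul_apply, Fin.sum_univ_two]
    try first | linear_combination h3 | linear_combination -h3

theorem cG_conj_aG (m : ℕ) : cG (K := K) m * aG m * (cG m)⁻¹ = bG m := by
  unfold cG aG bG
  rw [← map_mul, xE_wE, map_mul, psiR_neg]
  group

theorem cG_conj_bG (m : ℕ) : cG (K := K) m * bG m * (cG m)⁻¹ = aG m * bG m := by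
  unfold cG aG bG
  rw [← map_mul, xE_mE, map_mul, psiR_neg, map_mul]
  group

theorem cG_conj_zG (m : ℕ) (hK : Fintype.card K = 3 ^ (2 * m + 1)) :
    cG (K := K) m * zG m hK * (cG m)⁻¹ = zG m hK := by
  unfold cG
  rw [← zG_comm_psiR m hK]
  group

theorem cG_mem_normalizer (m : ℕ) (hK : Fintype.card K = 3 ^ (2 * m + 1)) (E : Subgroup ↥(tG2 K (3 ^ m)))
    (hz : zG m hK ∈ E) (ha : aG m ∈ E) (hb : bG m ∈ E)
    (hform : ∀ x ∈ E, ∃ i j k : ℕ, x = zG m hK ^ i * (aG m ^ j * bG m ^ k)) :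
    cG m ∈ Subgroup.normalizer (E : Set ↥(tG2 K (3 ^ m))) := by
  haveI : Finite ↥E := inferInstance
  apply mem_normalizer_of_conj_mem
  intro x hx
  obtain ⟨i, j, k, rfl⟩ := hform x hx
  have e : cG (K := K) m * (zG m hK ^ i * (aG m ^ j * bG m ^ k)) * (cG m)⁻¹ =
      MulAut.conj (cG (K := K) m) (zG m hK ^ i * (aG m ^ j * bG m ^ k)) := rfl
  rw [e, map_mul, map_mul, map_pow, map_pow, map_pow]
  simp only [MulAut.conj_apply]
  rw [cG_conj_zG, cG_conj_aG, cG_conj_bG]
  exact E.mul_mem (E.pow_mem hz _) (E.mul_mem (E.pow_mem hb _) (E.pow_mem (E.mul_mem ha hb) _))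

theorem cG_not_mem (m : ℕ) (E : Subgroup ↥(tG2 K (3 ^ m))) (hexp : ∀ x ∈ E, x * x = 1) : cG m ∉ E := by
  intro h
  have h1 := hexp _ h
  have h2 : phiR (K := K) m (xE 1) * phiR m (xE 1) = 1 := congrArg Subtype.val h1
  rw [phiR_xE, ← (relR (K := K) m).X_add] at h2
  refine xR_ne_one m ((1 : K) + 1) ?_ h2
  have := two_ne_zero_three' (K := K)
  intro h3
  apply this
  rw [← h3]
  norm_num

theorem factorization_two_of_eight_mul (n k : ℕ) (hk : Odd k) (hn : n = 8 * k) : n.factorization 2 = 3 := by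
  rw [hn, show (8 : ℕ) = 2 ^ 3 by norm_num,
    Nat.factorization_mul (by norm_num) (by rintro rfl; exact (by decide : ¬ Odd 0) hk),
    Nat.Prime.factorization_pow Nat.prime_two]
  have : k.factorization 2 = 0 := by
    apply Nat.factorization_eq_zero_of_not_dvd
    intro h
    exact (Nat.not_even_iff_odd.mpr hk) (even_iff_two_dvd.mpr h)
  simp [this]

/-- a Sylow `2`-subgroup of the twisted group of type `G₂` is self-centralizing with normalizer of order 168 -/
theorem ree_sylow_two_normalizer (m : ℕ) (hm : 1 ≤ m) (hK : Fintype.card K = 3 ^ (2 * m + 1))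
    (S : Sylow 2 ↥(tG2 K (3 ^ m))) :
    Subgroup.centralizer ((S : Subgroup ↥(tG2 K (3 ^ m))) : Set ↥(tG2 K (3 ^ m))) = S ∧
      Nat.card (Subgroup.normalizer ((S : Subgroup ↥(tG2 K (3 ^ m))) : Set ↥(tG2 K (3 ^ m)))) = 168 := by
  haveI : Fact (Nat.Prime 2) := ⟨Nat.prime_two⟩
  obtain ⟨E, hE8, hexp, hz, ha, hb, hform⟩ := exists_e8_ree (K := K) m hK
  obtain ⟨k, hk, hG⟩ := card_tG2_eq (K := K) m hK
  have hfac := factorization_two_of_eight_mul _ k hk hG
  set S₀ : Sylow 2 ↥(tG2 K (3 ^ m)) := Sylow.ofCard E (by rw [hE8, hfac]; norm_num) with hS₀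
  have hS₀E : (S₀ : Subgroup ↥(tG2 K (3 ^ m))) = E := Sylow.coe_ofCard _ _
  have hcomm := comm_of_exp_two E hexp
  have hC₀ : Subgroup.centralizer ((S₀ : Subgroup ↥(tG2 K (3 ^ m))) : Set ↥(tG2 K (3 ^ m))) = S₀ := by
    rw [hS₀E]
    apply le_antisymm (centralizer_e8_le m hK E hz ha hb)
    intro x hx
    rw [Subgroup.mem_centralizer_iff]
    intro y hy
    exact hcomm _ hy _ hx
  have h168 : Nat.card (Subgroup.normalizer ((S₀ : Subgroup ↥(tG2 K (3 ^ m))) : Set ↥(tG2 K (3 ^ m)))) = 168 := by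
    apply card_normalizer_168 k hk hG (ree_perfect m hm hK) S₀ (by rw [hS₀E]; exact hE8)
      (by rw [hS₀E]; exact hexp) hC₀.le (zG m hK) (by rw [hS₀E]; exact hz) (zG_ne_one m hK)
      (E ⊓ (psiR (K := K) m).range) (by rw [hS₀E]; exact inf_le_left) (card_four_sub m hK E hE8 hz hform)
      (fun h => zG_not_mem_range m hK h.2) ?_ (cG m) ?_ (zG_comm_psiR m hK _) ?_
    · intro g hg hgz v hv
      rw [hS₀E] at hg
      exact conj_four_sub m hK E g hg hgz v hv
    · rw [hS₀E]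
      exact cG_mem_normalizer m hK E hz ha hb hform
    · rw [hS₀E]
      exact cG_not_mem m E hexp
  obtain ⟨h1, h2⟩ := sylow_transport S₀ S hC₀
  exact ⟨h1, h2.trans h168⟩

end

end Cfsg.Agent.Lib.Helper3.Ree
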