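import Mathlib
import Cfsg.Agent.Lib.Helper3.Ree36
set_option autoImplicit false
set_option linter.unusedSectionVars false
set_option linter.style.haveILetI false
set_option linter.unusedSimpArgs false
open Cfsg Cfsg.Lie

/-!
In characteristic `3` the short root vectors together with one Cartan vector span a submodule of
dimension seven of the adjoint module of type `G₂`; the Chevalley group acts on it.
-/

namespace Cfsg.Agent.Lib.Helper3.Ree

open Cfsg.Agent.Lib.Helper3.ChevM

/-- codes of the coordinates of the seven-dimensional submodule -/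
def j7 (k : ℕ) : Bool := k == 0 || k == 4 || k == 5 || k == 6 || k == 9 || k == 10 || k == 11

theorem j7_table : ∀ r : Fin 12, ∀ c : Fin 14, j7 c.val = true →
    ∀ e ∈ colList chevG2 r.val c.val, j7 e.row = false → (3 : ℤ) ∣ e.coef := by
  decide +kernel

/-- the coordinates of the seven-dimensional submodule -/
abbrev J7 : Type := {i : chevG2.Idx // j7 (code chevG2 i) = true}

theorem card_J7 : Fintype.card J7 = 7 := by decide

section
variable {K : Type*} [Field K]

/-- the matrices leaving the seven-dimensional coordinate subspace invariant -/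
def BT7 (M : Matrix chevG2.Idx chevG2.Idx K) : Prop :=
  ∀ i j, j7 (code chevG2 j) = true → j7 (code chevG2 i) = false → M i j = 0

theorem bt7_one : BT7 (1 : Matrix chevG2.Idx chevG2.Idx K) := by
  intro i j hj hi
  rw [Matrix.one_apply_ne]
  rintro rfl
  rw [hj] at hi
  exact absurd hi (by decide)

theorem bt7_mul (M N : Matrix chevG2.Idx chevG2.Idx K) (hM : BT7 M) (hN : BT7 N) : BT7 (M * N) := by
  intro i j hj hi
  rw [Matrix.mul_apply]
  apply Finset.sum_eq_zero
  intro k _
  by_cases hk : j7 (code chevG2 k) = true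
  · rw [hM i k hk hi, zero_mul]
  · rw [hN k j hj (by simpa using hk), mul_zero]

/-- the block of a matrix on the seven coordinates -/
def resJ (M : Matrix chevG2.Idx chevG2.Idx K) : Matrix J7 J7 K := M.submatrix Subtype.val Subtype.val

theorem resJ_one : resJ (1 : Matrix chevG2.Idx chevG2.Idx K) = 1 := by
  ext i j
  simp [resJ, Matrix.one_apply, Subtype.ext_iff]

theorem resJ_mul (M N : Matrix chevG2.Idx chevG2.Idx K) (hN : BT7 N) : resJ (M * N) = resJ M * resJ N := by
  ext i j
  simp only [resJ, Matrix.submatrix_apply, Matrix.mul_apply]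
  rw [← Fintype.sum_subtype_add_sum_subtype (fun k : chevG2.Idx => j7 (code chevG2 k) = true)]
  have h0 : ∑ k : {k : chevG2.Idx // ¬ j7 (code chevG2 k) = true}, M i.val k.val * N k.val j.val = 0 := by
    apply Finset.sum_eq_zero
    intro k _
    rw [hN k.val j.val j.2 (by simpa using k.2), mul_zero]
  rw [h0, add_zero]

theorem colSum_eq_zero_of_dvd [CharP K 3] (T : K) (l : List CEnt) (k : ℕ)
    (h : ∀ e ∈ l, e.row = k → (3 : ℤ) ∣ e.coef) : colSum T l k = 0 := by
  induction l with
  | nil => rfl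
  | cons e l ih =>
    rw [colSum_cons, ih (fun e' he' => h e' (List.mem_cons_of_mem _ he')), add_zero]
    split_ifs with hk
    · obtain ⟨c, hc⟩ := h e List.mem_cons_self hk
      have h3 : ((3 : ℤ) : K) = 0 := by
        have := CharP.cast_eq_zero K 3
        exact_mod_cast this
      rw [hc, Int.cast_mul, h3, zero_mul, zero_mul]
    · rfl

theorem bt7_xMat [CharP K 3] (r : Fin chevG2.nroots) (t : K) : BT7 (chevG2.xMat K r t) := by
  intro i j hj hi
  rw [xMat_entry]
  have hne : i ≠ j := by
    rintro rfl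
    rw [hj] at hi
    exact absurd hi (by decide)
  rw [if_neg hne, zero_add]
  apply colSum_eq_zero_of_dvd
  intro e he hrow
  have hc : code chevG2 j < 14 := code_lt chevG2 j
  refine j7_table r ⟨code chevG2 j, hc⟩ hj e he ?_
  rw [hrow]
  exact hi

theorem bt7_x [CharP K 3] (r : ℕ) (t : K) : BT7 (chevG2.x K r t) := by
  unfold ChevalleyDatum.x
  split_ifs with h
  · exact bt7_xMat ⟨r, h⟩ t
  · exact bt7_one

/-- the invertible matrices leaving the seven-dimensional subspace invariant -/
def btSub (K : Type*) [Field K] : Subgroup (GL chevG2.Idx K) where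
  carrier := {g | BT7 (g : Matrix chevG2.Idx chevG2.Idx K) ∧
    BT7 ((g⁻¹ : GL chevG2.Idx K) : Matrix chevG2.Idx chevG2.Idx K)}
  one_mem' := ⟨by rw [Units.val_one]; exact bt7_one, by rw [inv_one, Units.val_one]; exact bt7_one⟩
  mul_mem' := by
    rintro g h ⟨hg, hg'⟩ ⟨hh, hh'⟩
    refine ⟨?_, ?_⟩
    · rw [Units.val_mul]; exact bt7_mul _ _ hg hh
    · rw [mul_inv_rev, Units.val_mul]; exact bt7_mul _ _ hh' hg'
  inv_mem' := by
    rintro g ⟨hg, hg'⟩
    exact ⟨hg', by rw [inv_inv]; exact hg⟩

theorem mem_btSub (g : GL chevG2.Idx K) : g ∈ btSub K ↔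
    BT7 (g : Matrix chevG2.Idx chevG2.Idx K) ∧
      BT7 ((g⁻¹ : GL chevG2.Idx K) : Matrix chevG2.Idx chevG2.Idx K) := Iff.rfl

/-- the action on the seven-dimensional subspace -/
def rhoJ (K : Type*) [Field K] : ↥(btSub K) →* GL J7 K where
  toFun g := ⟨resJ ((g : GL chevG2.Idx K) : Matrix chevG2.Idx chevG2.Idx K),
    resJ (((g : GL chevG2.Idx K)⁻¹ : GL chevG2.Idx K) : Matrix chevG2.Idx chevG2.Idx K),
    by rw [← resJ_mul _ _ g.2.2, ← Units.val_mul, mul_inv_cancel, Units.val_one, resJ_one],
    by rw [← resJ_mul _ _ g.2.1, ← Units.val_mul, inv_mul_cancel, Units.val_one, resJ_one]⟩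
  map_one' := by
    apply Units.ext
    show resJ ((1 : GL chevG2.Idx K) : Matrix chevG2.Idx chevG2.Idx K) = 1
    rw [Units.val_one, resJ_one]
  map_mul' g h := by
    apply Units.ext
    show resJ (((g : GL chevG2.Idx K) * (h : GL chevG2.Idx K) : GL chevG2.Idx K) :
      Matrix chevG2.Idx chevG2.Idx K) = resJ _ * resJ _
    rw [Units.val_mul, resJ_mul _ _ h.2.1]

theorem rhoJ_val (g : ↥(btSub K)) :
    ((rhoJ K g : GL J7 K) : Matrix J7 J7 K) =
      resJ ((g : GL chevG2.Idx K) : Matrix chevG2.Idx chevG2.Idx K) := rfl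

theorem group_le_btSub [CharP K 3] : chevG2.group K ≤ btSub K := by
  unfold ChevalleyDatum.group
  rw [Subgroup.closure_le]
  rintro g ⟨r, t, hg⟩
  rw [SetLike.mem_coe, mem_btSub, hg]
  refine ⟨bt7_xMat r t, ?_⟩
  have hx : chevG2.xMat K r t * chevG2.xMat K r (-t) = 1 := by
    have h1 := relG2.x_add (F := K) r.val r.isLt t (-t)
    rw [add_neg_cancel, CDatum.x_zero] at h1
    unfold ChevalleyDatum.x at h1
    have hr : r.val < cdG2.D.nroots := r.isLt
    rw [dif_pos hr, dif_pos hr] at h1
    exact h1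
  have hinv : ((g⁻¹ : GL chevG2.Idx K) : Matrix chevG2.Idx chevG2.Idx K) = chevG2.xMat K r (-t) := by
    have h2 : ((g⁻¹ : GL chevG2.Idx K) : Matrix chevG2.Idx chevG2.Idx K) *
        (g : Matrix chevG2.Idx chevG2.Idx K) = 1 := by
      rw [← Units.val_mul, inv_mul_cancel, Units.val_one]
    calc ((g⁻¹ : GL chevG2.Idx K) : Matrix chevG2.Idx chevG2.Idx K)
        = ((g⁻¹ : GL chevG2.Idx K) : Matrix chevG2.Idx chevG2.Idx K) *
            (chevG2.xMat K r t * chevG2.xMat K r (-t)) := by rw [hx, mul_one]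
      _ = chevG2.xMat K r (-t) := by rw [← mul_assoc, ← hg, h2, one_mul]
  rw [hinv]
  exact bt7_xMat r (-t)

end

end Cfsg.Agent.Lib.Helper3.Ree
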