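import Mathlib
import Cfsg.Agent.Lib.Helper3.Ree37
import Cfsg.Agent.Lib.Helper3.Ree38
import Cfsg.Agent.Lib.Helper3.Ree20
set_option autoImplicit false
set_option linter.unusedSectionVars false
set_option linter.style.haveILetI false
set_option linter.unusedSimpArgs false
open Cfsg Cfsg.Lie

/-!
The twisted group of type `G₂` acts faithfully on a module of dimension seven; consequently it has no
elementary abelian subgroup of order `p²` for the primes `p > 3` dividing `q² - q + 1`.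
-/

namespace Cfsg.Agent.Lib.Helper3.Ree

open Cfsg.Agent.Lib.Helper3.ChevM

section
variable {K : Type*} [Field K] [Fintype K] [CharP K 3]

theorem tG2_le_btSub (m : ℕ) (hK : Fintype.card K = 3 ^ (2 * m + 1)) : tG2 K (3 ^ m) ≤ btSub K := by
  intro g hg
  have h1 := tG2_le_fixG m hK hg
  rw [mem_fixG] at h1
  exact group_le_btSub h1.1

/-- the representation of the twisted group on the seven-dimensional module -/
def rhoR (m : ℕ) (hK : Fintype.card K = 3 ^ (2 * m + 1)) : ↥(tG2 K (3 ^ m)) →* GL J7 K :=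
  (rhoJ K).comp (Subgroup.inclusion (tG2_le_btSub m hK))

theorem rhoR_val (m : ℕ) (hK : Fintype.card K = 3 ^ (2 * m + 1)) (g : ↥(tG2 K (3 ^ m))) :
    ((rhoR m hK g : GL J7 K) : Matrix J7 J7 K) =
      resJ ((g : GL cdG2.D.Idx K) : Matrix cdG2.D.Idx cdG2.D.Idx K) := rfl

theorem rhoR_zG_ne (m : ℕ) (hK : Fintype.card K = 3 ^ (2 * m + 1)) : rhoR m hK (zG m hK) ≠ 1 := by
  intro h
  have h1 := congrArg (fun g : GL J7 K => (g : Matrix J7 J7 K)) h
  simp only [rhoR_val, Units.val_one] at h1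
  have hne : (-1 : K) ≠ 0 := neg_ne_zero.mpr one_ne_zero
  have h2 : ((hT ((-1 : K) ^ 3 ^ m) (-1) : GL cdG2.D.Idx K) : Matrix cdG2.D.Idx cdG2.D.Idx K)
      (Sum.inr ⟨9, by decide⟩) (Sum.inr ⟨9, by decide⟩) = 1 := by
    have := congrFun (congrFun h1 ⟨Sum.inr ⟨9, by decide⟩, by decide⟩) ⟨Sum.inr ⟨9, by decide⟩, by decide⟩
    rw [Matrix.one_apply_eq] at this
    exact this
  have h4 := hT_entry_9 ((-1 : K) ^ 3 ^ m) (-1) (pow_ne_zero _ hne) hne
  rw [h4] at h2
  have hodd : Odd ((3 : ℕ) ^ m) := Odd.pow (by decide)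
  rw [hodd.neg_one_pow] at h2
  have h5 : (2 : K) = 0 := by linear_combination -h2
  have h6 : (3 : K) = 0 := by
    have := CharP.cast_eq_zero K 3
    exact_mod_cast this
  have : (1 : K) = 0 := by linear_combination h6 - h5
  exact one_ne_zero this

theorem rhoR_injective (m : ℕ) (hm : 1 ≤ m) (hK : Fintype.card K = 3 ^ (2 * m + 1)) :
    Function.Injective (rhoR (K := K) m hK) := by
  haveI := (ree_simple (K := K) m hm hK).1
  rw [← MonoidHom.ker_eq_bot_iff]
  rcases (rhoR (K := K) m hK).normal_ker.eq_bot_or_eq_top with h | h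
  · exact h
  · exfalso
    apply rhoR_zG_ne m hK
    have : zG m hK ∈ (rhoR (K := K) m hK).ker := by rw [h]; trivial
    exact this

/-- the representation by endomorphisms of the space of functions on the seven coordinates -/
noncomputable def rhoEnd (m : ℕ) (hK : Fintype.card K = 3 ^ (2 * m + 1)) :
    ↥(tG2 K (3 ^ m)) →* Module.End K (J7 → K) :=
  ((Matrix.toLinAlgEquiv' (R := K) (n := J7)).toAlgHom.toRingHom.toMonoidHom.comp
    (Units.coeHom (Matrix J7 J7 K))).comp (rhoR m hK)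

theorem rhoEnd_injective (m : ℕ) (hm : 1 ≤ m) (hK : Fintype.card K = 3 ^ (2 * m + 1)) :
    Function.Injective (rhoEnd (K := K) m hK) := by
  intro g h e
  apply rhoR_injective m hm hK
  apply Units.ext
  exact (Matrix.toLinAlgEquiv' (R := K) (n := J7)).injective e

theorem no_rank_two_ree (m : ℕ) (hm : 1 ≤ m) (hK : Fintype.card K = 3 ^ (2 * m + 1))
    (p : ℕ) [hp : Fact p.Prime] (hp3 : 3 < p)
    (hq : p ∣ (3 ^ (2 * m + 1)) ^ 2 - 3 ^ (2 * m + 1) + 1)
    (a b : ↥(tG2 K (3 ^ m))) (hab : a * b = b * a) (ha : a ^ p = 1) (hb : b ^ p = 1) (hb1 : b ≠ 1) :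
    ∃ i : ℕ, a * b ^ i = 1 := by
  by_contra hcon
  push Not at hcon
  have hinj := rhoEnd_injective (K := K) m hm hK
  have hW : Module.finrank K (J7 → K) = 7 := by
    rw [Module.finrank_fintype_fun_eq_card, card_J7]
  refine no_rank_two (K := K) (W := J7 → K) p (3 ^ (2 * m + 1)) hp3 hq hK hW
    (rhoEnd m hK a) (rhoEnd m hK b) ?_ ?_ ?_ ?_ ?_
  · show rhoEnd m hK a * rhoEnd m hK b = rhoEnd m hK b * rhoEnd m hK a
    rw [← map_mul, ← map_mul, hab]
  · rw [← map_pow, ha, map_one]
  · rw [← map_pow, hb, map_one]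
  · intro h
    apply hb1
    apply hinj
    rw [h, map_one]
  · intro i h
    apply hcon i.val
    apply hinj
    rw [map_mul, map_pow, h, map_one]

end

end Cfsg.Agent.Lib.Helper3.Ree
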