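import Mathlib
import Cfsg.Agent.Lib.Helper3.Ree39
import Cfsg.Agent.Lib.Helper5.SL2Torus
import Cfsg.Agent.Lib.Lead.NormalRankTwo
set_option autoImplicit false
set_option linter.unusedSectionVars false
set_option linter.style.haveILetI false
set_option linter.unusedSimpArgs false
open Cfsg Cfsg.Lie

/-!
The Sylow `p`-subgroups of the twisted group of type `G₂` are cyclic for `p > 3`.
-/

namespace Cfsg.Agent.Lib.Helper3.Ree

open Cfsg.Agent.Lib.Helper3.ChevM Cfsg.Agent.Lib.Helper3.SL2P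

theorem sylow_cyclic_of_cyclic_sub {G : Type*} [Group G] [Finite G] (p : ℕ) [hp : Fact p.Prime]
    (C : Subgroup G) [hC : IsCyclic C] (h : ¬ p ∣ C.index) (P : Sylow p G) :
    IsCyclic ↥(P : Subgroup G) := by
  obtain ⟨Q⟩ : Nonempty (Sylow p C) := inferInstance
  let Q' : Subgroup G := (Q : Subgroup C).map C.subtype
  have hQ' : IsPGroup p Q' := Q.isPGroup'.map C.subtype
  have hidx : ¬ p ∣ Q'.index := by
    show ¬ p ∣ ((Q : Subgroup C).map C.subtype).index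
    rw [Subgroup.index_map_subtype]
    intro hd
    rcases (Nat.Prime.dvd_mul hp.out).mp hd with h1 | h1
    · exact Q.not_dvd_index h1
    · exact h h1
  let S : Sylow p G := hQ'.toSylow hidx
  have e1 : ↥(Q : Subgroup C) ≃* ↥Q' := (Q : Subgroup C).equivMapOfInjective C.subtype C.subtype_injective
  haveI : IsCyclic ↥(Q : Subgroup C) := Subgroup.isCyclic _
  haveI : IsCyclic ↥Q' := isCyclic_of_surjective e1 e1.surjective
  have e2 : ↥(S : Subgroup G) ≃* ↥(P : Subgroup G) := Sylow.equiv S P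
  have hS : IsCyclic ↥(S : Subgroup G) := (inferInstance : IsCyclic ↥Q')
  exact isCyclic_of_surjective e2 e2.surjective

section NT
variable (p q : ℕ) [hp : Fact p.Prime]

theorem nt_two (hp3 : 3 < p) : ¬ p ∣ 2 := fun h => by
  have := Nat.le_of_dvd (by norm_num) h
  omega

theorem nt_three (hp3 : 3 < p) : ¬ p ∣ 3 := fun h => by
  have := Nat.le_of_dvd (by norm_num) h
  omega

theorem nt_pow_three (hp3 : 3 < p) (k : ℕ) : ¬ p ∣ 3 ^ k := fun h =>
  nt_three p hp3 (hp.out.dvd_of_dvd_pow h)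

/-- `p ∣ q - 1` and `p ∣ q + 1` is impossible -/
theorem nt_sub_add (hp3 : 3 < p) (hq1 : 1 ≤ q) (h1 : p ∣ q - 1) (h2 : p ∣ q + 1) : False := by
  have e : q + 1 = (q - 1) + 2 := by omega
  rw [e] at h2
  exact nt_two p hp3 ((Nat.dvd_add_right h1).mp h2)

/-- `p ∣ q + 1` and `p ∣ q² - q + 1` is impossible -/
theorem nt_add_quad (hp3 : 3 < p) (hq2 : 2 ≤ q) (h1 : p ∣ q + 1) (h2 : p ∣ q ^ 2 - q + 1) : False := by
  have e : q ^ 2 - q + 1 = (q + 1) * (q - 2) + 3 := by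
    obtain ⟨k, rfl⟩ : ∃ k, q = k + 2 := ⟨q - 2, by omega⟩
    simp only [Nat.add_sub_cancel]
    have : (k + 2) ^ 2 = ((k + 2 + 1) * k + 2) + (k + 2) := by ring
    rw [this, Nat.add_sub_cancel]
  rw [e] at h2
  exact nt_three p hp3 ((Nat.dvd_add_right (Dvd.dvd.mul_right h1 _)).mp h2)

/-- `p ∣ q - 1` and `p ∣ q³ + 1` is impossible -/
theorem nt_sub_cube (hp3 : 3 < p) (hq1 : 1 ≤ q) (h1 : p ∣ q - 1) (h2 : p ∣ q ^ 3 + 1) : False := by
  have e : q ^ 3 + 1 = (q - 1) * (q ^ 2 + q + 1) + 2 := by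
    obtain ⟨k, rfl⟩ : ∃ k, q = k + 1 := ⟨q - 1, by omega⟩
    simp only [Nat.add_sub_cancel]
    ring
  rw [e] at h2
  exact nt_two p hp3 ((Nat.dvd_add_right (Dvd.dvd.mul_right h1 _)).mp h2)

theorem nt_cube_factor (hq1 : 1 ≤ q) : q ^ 3 + 1 = (q + 1) * (q ^ 2 - q + 1) := by
  obtain ⟨k, rfl⟩ : ∃ k, q = k + 1 := ⟨q - 1, by omega⟩
  have : (k + 1) ^ 2 - (k + 1) + 1 = k ^ 2 + k + 1 := by
    have : (k + 1) ^ 2 = (k ^ 2 + k) + (k + 1) := by ring
    rw [this, Nat.add_sub_cancel]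
  rw [this]
  ring

end NT

section
variable {K : Type*} [Field K] [Fintype K] [CharP K 3]

theorem wE_sq_sq : ((wE (F := K)) * wE) * (wE * wE) = 1 := by
  have h : ((wE (F := K)) * wE).1 = -1 := by
    show (wE (F := K)).1 * (wE (F := K)).1 = -1
    show !![(0:K), 1; -1, 0] * !![(0:K), 1; -1, 0] = -1
    rw [Matrix.mul_fin_two]
    ext i j
    fin_cases i <;> fin_cases j <;> simp
  apply Subtype.ext
  show ((wE (F := K)) * wE).1 * ((wE (F := K)) * wE).1 = 1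
  rw [h]
  simp

/-- the split torus inside the twisted group -/
def torusSplit (m : ℕ) : Subgroup ↥(tG2 K (3 ^ m)) :=
  (cdG2.D.diagonalSubgroup K ⊓ tG2 K (3 ^ m)).subgroupOf (tG2 K (3 ^ m))

theorem torusSplit_cyclic (m : ℕ) (hK : Fintype.card K = 3 ^ (2 * m + 1)) :
    IsCyclic ↥(torusSplit (K := K) m) := by
  have e : ↥(torusSplit (K := K) m) ≃* ↥(cdG2.D.diagonalSubgroup K ⊓ tG2 K (3 ^ m)) :=
    Subgroup.subgroupOfEquivOfLe inf_le_right
  haveI := isCyclic_diag_inf (K := K) m hK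
  exact isCyclic_of_surjective e.symm e.symm.surjective

theorem card_torusSplit (m : ℕ) (hK : Fintype.card K = 3 ^ (2 * m + 1)) :
    Nat.card ↥(torusSplit (K := K) m) = 3 ^ (2 * m + 1) - 1 := by
  classical
  have e : ↥(torusSplit (K := K) m) ≃* ↥(cdG2.D.diagonalSubgroup K ⊓ tG2 K (3 ^ m)) :=
    Subgroup.subgroupOfEquivOfLe inf_le_right
  rw [Nat.card_congr e.toEquiv, ← Nat.card_congr (hReeEquiv (K := K) m hK).toEquiv,
    Nat.card_eq_fintype_card, Fintype.card_units, hK]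

theorem ree_sylow_cyclic_split (m : ℕ) (hK : Fintype.card K = 3 ^ (2 * m + 1))
    (p : ℕ) [hp : Fact p.Prime] (hp3 : 3 < p) (h1 : p ∣ 3 ^ (2 * m + 1) - 1)
    (P : Sylow p ↥(tG2 K (3 ^ m))) : IsCyclic ↥(P : Subgroup ↥(tG2 K (3 ^ m))) := by
  haveI := torusSplit_cyclic (K := K) m hK
  haveI : Finite ↥(tG2 K (3 ^ m)) := inferInstance
  apply sylow_cyclic_of_cyclic_sub p (torusSplit (K := K) m) _ P
  intro hd
  have hc := Subgroup.card_mul_index (torusSplit (K := K) m)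
  rw [card_torusSplit m hK, card_tG2 m hK] at hc
  set q := 3 ^ (2 * m + 1) with hq
  have hq1 : 1 < q := Nat.one_lt_pow (by omega) (by norm_num)
  have hpos : 0 < q - 1 := by omega
  have hidx : (torusSplit (K := K) m).index = q ^ 3 * (q ^ 3 + 1) := by
    apply Nat.eq_of_mul_eq_mul_left hpos
    rw [hc]; ring
  rw [hidx] at hd
  rcases (Nat.Prime.dvd_mul hp.out).mp hd with h | h
  · exact nt_pow_three p hp3 (2 * m + 1) (hp.out.dvd_of_dvd_pow h)
  · exact nt_sub_cube p q hp3 hq1.le h1 h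

theorem ree_sylow_cyclic_nonsplit (m : ℕ) (hK : Fintype.card K = 3 ^ (2 * m + 1))
    (p : ℕ) [hp : Fact p.Prime] (hp3 : 3 < p) (h2 : p ∣ 3 ^ (2 * m + 1) + 1)
    (P : Sylow p ↥(tG2 K (3 ^ m))) : IsCyclic ↥(P : Subgroup ↥(tG2 K (3 ^ m))) := by
  haveI : Fact (Nat.Prime 3) := ⟨by norm_num⟩
  obtain ⟨g₀, hg₀⟩ := Cfsg.Agent.Lib.Helper5.exists_orderOf_eq_card_add_one (F := K) 3
  set q := 3 ^ (2 * m + 1) with hq
  rw [hK] at hg₀
  have hq1 : 1 < q := Nat.one_lt_pow (by omega) (by norm_num)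
  set y := psiR (K := K) m g₀ with hy
  have ho1 : orderOf y ∣ q + 1 := by
    rw [← hg₀]
    exact orderOf_map_dvd _ _
  have ho2 : q + 1 ∣ 2 * orderOf y := by
    rw [← hg₀]
    apply orderOf_dvd_of_pow_eq_one
    have h3 : psiR (K := K) m (g₀ ^ orderOf y) = psiR m 1 := by
      rw [map_pow, map_one, ← hy, pow_orderOf_eq_one]
    rcases psiR_eq_iff m _ _ h3 with h4 | h4
    · rw [mul_comm, pow_mul, h4, one_pow]
    · rw [mul_one] at h4
      rw [mul_comm, pow_mul, h4, pow_two, wE_sq_sq]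
  haveI : IsCyclic ↥(Subgroup.zpowers y) := inferInstance
  apply sylow_cyclic_of_cyclic_sub p (Subgroup.zpowers y) _ P
  intro hd
  have hc := Subgroup.card_mul_index (Subgroup.zpowers y)
  rw [Nat.card_zpowers, card_tG2 m hK, ← hq, nt_cube_factor q hq1.le] at hc
  obtain ⟨k, hk⟩ := ho2
  -- `(q+1) * (k * index) = (q+1) * (2 q³ (q-1) (q²-q+1))`
  have h5 : k * (Subgroup.zpowers y).index = 2 * (q ^ 3 * (q - 1) * (q ^ 2 - q + 1)) := by
    apply Nat.eq_of_mul_eq_mul_left (show 0 < q + 1 by omega)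
    calc (q + 1) * (k * (Subgroup.zpowers y).index)
        = ((q + 1) * k) * (Subgroup.zpowers y).index := by ring
      _ = 2 * (orderOf y * (Subgroup.zpowers y).index) := by rw [← hk]; ring
      _ = (q + 1) * (2 * (q ^ 3 * (q - 1) * (q ^ 2 - q + 1))) := by rw [hc]; ring
  have h6 : p ∣ 2 * (q ^ 3 * (q - 1) * (q ^ 2 - q + 1)) := by
    rw [← h5]
    exact Dvd.dvd.mul_left hd k
  rcases (Nat.Prime.dvd_mul hp.out).mp h6 with h | h
  · exact nt_two p hp3 h
  · rcases (Nat.Prime.dvd_mul hp.out).mp h with h | h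
    · rcases (Nat.Prime.dvd_mul hp.out).mp h with h | h
      · exact nt_pow_three p hp3 (2 * m + 1) (hp.out.dvd_of_dvd_pow h)
      · exact nt_sub_add p q hp3 hq1.le h h2
    · exact nt_add_quad p q hp3 hq1 h2 h

theorem ree_sylow_cyclic_quad (m : ℕ) (hm : 1 ≤ m) (hK : Fintype.card K = 3 ^ (2 * m + 1))
    (p : ℕ) [hp : Fact p.Prime] (hp3 : 3 < p)
    (h3 : p ∣ (3 ^ (2 * m + 1)) ^ 2 - 3 ^ (2 * m + 1) + 1)
    (P : Sylow p ↥(tG2 K (3 ^ m))) : IsCyclic ↥(P : Subgroup ↥(tG2 K (3 ^ m))) := by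
  by_contra hnc
  have hp2 : p ≠ 2 := by omega
  obtain ⟨A, -, hAc, hAe, hAcard⟩ := Cfsg.Agent.Lib.Lead.exists_normal_elementary_sq hp2 P.isPGroup' hnc
  have hp1 : 1 < p := hp.out.one_lt
  -- a nontrivial element of `A`
  have hAne : A ≠ ⊥ := by
    intro h
    rw [h, Subgroup.card_bot] at hAcard
    have : 1 < p ^ 2 := Nat.one_lt_pow (by norm_num) hp1
    omega
  obtain ⟨⟨b, hbA⟩, hb1'⟩ := (Subgroup.ne_bot_iff_exists_ne_one.mp hAne)
  have hb1 : b ≠ 1 := fun h => hb1' (Subtype.ext h)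
  have hbp : b ^ p = 1 := hAe b hbA
  -- the cyclic group generated by `b` is a proper subgroup of `A`
  have hzle : Subgroup.zpowers b ≤ A := Subgroup.zpowers_le.mpr hbA
  have hzcard : Nat.card ↥(Subgroup.zpowers b) ≤ p := by
    rw [Nat.card_zpowers]
    exact Nat.le_of_dvd hp.out.pos (orderOf_dvd_of_pow_eq_one hbp)
  have hzne : Subgroup.zpowers b ≠ A := by
    intro h
    rw [h, hAcard] at hzcard
    have : p < p ^ 2 := by nlinarith
    omega
  obtain ⟨a, haA, haz⟩ := SetLike.exists_of_lt (lt_of_le_of_ne hzle hzne)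
  have hap : a ^ p = 1 := hAe a haA
  have hcomm : a * b = b * a := by
    have := hAc.is_comm.comm (⟨a, haA⟩ : ↥A) ⟨b, hbA⟩
    exact congrArg Subtype.val this
  -- pass to the ambient group
  obtain ⟨i, hi⟩ := no_rank_two_ree (K := K) m hm hK p hp3 h3 (a : ↥(tG2 K (3 ^ m))) (b : ↥(tG2 K (3 ^ m)))
    (by exact_mod_cast congrArg Subtype.val hcomm)
    (by exact_mod_cast congrArg Subtype.val hap)
    (by exact_mod_cast congrArg Subtype.val hbp)
    (fun h => hb1 (Subtype.ext h))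
  apply haz
  have hi' : a * b ^ i = 1 := by
    apply Subtype.ext
    exact_mod_cast hi
  have : a = (b ^ i)⁻¹ := eq_inv_of_mul_eq_one_left hi'
  rw [this]
  exact Subgroup.inv_mem _ (Subgroup.pow_mem _ (Subgroup.mem_zpowers b) i)

/-- the Sylow `p`-subgroups of the twisted group of type `G₂` are cyclic for `p > 3` -/
theorem ree_sylow_cyclic (m : ℕ) (hm : 1 ≤ m) (hK : Fintype.card K = 3 ^ (2 * m + 1))
    (p : ℕ) [hp : Fact p.Prime] (hp3 : 3 < p)
    (P : Sylow p ↥(tG2 K (3 ^ m))) : IsCyclic ↥(P : Subgroup ↥(tG2 K (3 ^ m))) := by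
  by_cases h1 : p ∣ 3 ^ (2 * m + 1) - 1
  · exact ree_sylow_cyclic_split m hK p hp3 h1 P
  by_cases h2 : p ∣ 3 ^ (2 * m + 1) + 1
  · exact ree_sylow_cyclic_nonsplit m hK p hp3 h2 P
  by_cases h3 : p ∣ (3 ^ (2 * m + 1)) ^ 2 - 3 ^ (2 * m + 1) + 1
  · exact ree_sylow_cyclic_quad m hm hK p hp3 h3 P
  -- `p` does not divide the order
  haveI : IsCyclic ↥(⊥ : Subgroup ↥(tG2 K (3 ^ m))) := inferInstance
  apply sylow_cyclic_of_cyclic_sub p (⊥ : Subgroup ↥(tG2 K (3 ^ m))) _ P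
  rw [Subgroup.index_bot, card_tG2 m hK]
  set q := 3 ^ (2 * m + 1) with hq
  have hq1 : 1 < q := Nat.one_lt_pow (by omega) (by norm_num)
  intro hd
  rcases (Nat.Prime.dvd_mul hp.out).mp hd with h | h
  · rcases (Nat.Prime.dvd_mul hp.out).mp h with h | h
    · exact nt_pow_three p hp3 (2 * m + 1) (hp.out.dvd_of_dvd_pow h)
    · exact h1 h
  · rw [nt_cube_factor q hq1.le] at h
    rcases (Nat.Prime.dvd_mul hp.out).mp h with h | h
    · exact h2 h
    · exact h3 h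

end

end Cfsg.Agent.Lib.Helper3.Ree
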