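import Mathlib
import Cfsg.Agent.Lib.Helper3.Ree40
set_option autoImplicit false
set_option linter.unusedSectionVars false
set_option linter.style.haveILetI false
set_option linter.unusedSimpArgs false
open Cfsg Cfsg.Lie

/-!
The centralizer and the normalizer of the split torus of the twisted group of type `G₂`.
-/

namespace Cfsg.Agent.Lib.Helper3.Ree

open Cfsg.Agent.Lib.Helper3.ChevM Cfsg.Agent.Lib.Helper3.SL2P

section
variable {K : Type*} [Field K] [Fintype K] [CharP K 3]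

theorem n0_conj_hT (a b : K) (ha : a ≠ 0) (hb : b ≠ 0) : n0 K * hT a b * (n0 K)⁻¹ = (hT a b)⁻¹ := by
  have h1 := hT_n0_sq (K := K) a b ha hb
  have h2 := hT_n0_sq (K := K) 1 1 one_ne_zero one_ne_zero
  have e1 : hT (1 : K) 1 = 1 := by
    have := hRee_one (K := K) 1
    unfold hRee at this
    rwa [one_pow] at this
  rw [e1, one_mul] at h2
  have e2 : (n0 K)⁻¹ = n0 K := inv_eq_of_mul_eq_one_right h2
  rw [e2]
  have e3 : hT a b * (n0 K * hT a b * n0 K) = 1 := by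
    rw [← h1]; group
  exact (inv_eq_of_mul_eq_one_right e3).symm

theorem hT_comm (a b c d : K) (ha : a ≠ 0) (hb : b ≠ 0) (hc : c ≠ 0) (hd : d ≠ 0) :
    hT a b * hT c d = hT c d * hT a b := by
  rw [hT_mul _ _ _ _ ha hb hc hd, hT_mul _ _ _ _ hc hd ha hb, mul_comm a c, mul_comm b d]

/-- the representative of the longest element inverts the diagonal part -/
theorem n1_conj_hRee_eq (m : ℕ) (hK : Fintype.card K = 3 ^ (2 * m + 1)) (s : K) (hs : s ≠ 0) :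
    n1 m hK * hRee (3 ^ m) s * (n1 m hK)⁻¹ = (hRee (3 ^ m) s)⁻¹ := by
  obtain ⟨c0, c1, h0, h1', e⟩ := exists_hT (h1 m hK) (h1_mem m hK)
  have hsθ : s ^ 3 ^ m ≠ 0 := pow_ne_zero _ hs
  unfold n1 hRee
  rw [e]
  have e1 : hT c0 c1 * n0 K * hT (s ^ 3 ^ m) s * (hT c0 c1 * n0 K)⁻¹ =
      hT c0 c1 * (n0 K * hT (s ^ 3 ^ m) s * (n0 K)⁻¹) * (hT c0 c1)⁻¹ := by group
  rw [e1, n0_conj_hT _ _ hsθ hs]
  have e2 : hT c0 c1 * (hT (s ^ 3 ^ m) s)⁻¹ = (hT (s ^ 3 ^ m) s)⁻¹ * hT c0 c1 := by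
    have := hT_comm c0 c1 (s ^ 3 ^ m) s h0 h1' hsθ hs
    rw [eq_inv_mul_iff_mul_eq, ← mul_assoc, ← this, mul_assoc, mul_inv_cancel, mul_one]
  rw [e2, mul_assoc, mul_inv_cancel, mul_one]

theorem hRee_inv (θ : ℕ) (s : K) (hs : s ≠ 0) : (hRee θ s)⁻¹ = hRee θ s⁻¹ := by
  apply inv_eq_of_mul_eq_one_right
  rw [← hRee_mul θ s s⁻¹ hs (inv_ne_zero hs), mul_inv_cancel₀ hs, hRee_one]

theorem hRee_comm (θ : ℕ) (s s' : K) (hs : s ≠ 0) (hs' : s' ≠ 0) :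
    hRee θ s * hRee θ s' = hRee θ s' * hRee θ s := by
  rw [← hRee_mul θ s s' hs hs', ← hRee_mul θ s' s hs' hs, mul_comm]

theorem n1_mul_hRee (m : ℕ) (hK : Fintype.card K = 3 ^ (2 * m + 1)) (s : K) (hs : s ≠ 0) :
    n1 m hK * hRee (3 ^ m) s = hRee (3 ^ m) s⁻¹ * n1 m hK := by
  have := n1_conj_hRee_eq m hK s hs
  rw [hRee_inv _ s hs] at this
  rw [← this]; group

/-- the unipotent elements commuting with a diagonal element which is not an involution -/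
theorem reeU_comm_hRee (m : ℕ) (hK : Fintype.card K = 3 ^ (2 * m + 1)) (s : K) (hs : s ≠ 0)
    (hsq : s ^ 2 ≠ 1) (t u v : K)
    (hcomm : hRee (3 ^ m) s * reeU (3 ^ m) t u v * (hRee (3 ^ m) s)⁻¹ = reeU (3 ^ m) t u v) :
    t = 0 ∧ u = 0 ∧ v = 0 := by
  have hs1 : s ≠ 1 := by
    rintro rfl
    exact hsq (one_pow 2)
  obtain ⟨u', v', e, e2⟩ := conj_reeU m hK s hs t u v
  rw [hcomm] at e
  obtain ⟨k1, k2, k3⟩ := reeU_inj _ _ _ _ _ _ _ e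
  have ht : t = 0 := by
    by_contra ht
    apply hs1
    apply chi6_eq_one m hK s hs
    have : chi (s ^ 3 ^ m) s 6 * t = 1 * t := by rw [one_mul]; exact k1.symm
    exact mul_right_cancel₀ ht this
  obtain ⟨e3, e4⟩ := e2 ht
  rw [chi_11] at e4
  have hv : v = 0 := by
    by_contra hv
    apply hs1
    have : s * v = 1 * v := by rw [one_mul, ← e4]; exact k3.symm
    exact mul_right_cancel₀ hv this
  have hu : u = 0 := by
    by_contra hu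
    apply hsq
    apply chi10_eq_one m hK s hs
    have : chi (s ^ 3 ^ m) s 10 * u = 1 * u := by rw [one_mul, ← e3]; exact k2.symm
    exact mul_right_cancel₀ hu this
  exact ⟨ht, hu, hv⟩

/-- conjugation of the unipotent elements by the diagonal part stays unipotent -/
theorem conj_reeU' (m : ℕ) (hK : Fintype.card K = 3 ^ (2 * m + 1)) (s : K) (hs : s ≠ 0) (t u v : K) :
    ∃ t' u' v' : K, hRee (3 ^ m) s * reeU (3 ^ m) t u v * (hRee (3 ^ m) s)⁻¹ = reeU (3 ^ m) t' u' v' := by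
  obtain ⟨u', v', e, -⟩ := conj_reeU m hK s hs t u v
  exact ⟨_, u', v', e⟩

/-- the centralizer of a diagonal element which is not an involution is the diagonal part -/
theorem centralizer_hRee (m : ℕ) (hK : Fintype.card K = 3 ^ (2 * m + 1)) (s₀ : K) (hs₀ : s₀ ≠ 0)
    (hsq : s₀ ^ 2 ≠ 1) (g : GL cdG2.D.Idx K) (hg : g ∈ tG2 K (3 ^ m))
    (hcomm : hRee (3 ^ m) s₀ * g = g * hRee (3 ^ m) s₀) :
    ∃ s : K, s ≠ 0 ∧ g = hRee (3 ^ m) s := by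
  have hθ : (3 : ℕ) ^ m ≠ 0 := three_pow_ne_zero m
  rcases fixG_normal_form' m hK g (tG2_le_fixG m hK hg) with
    ⟨t, u, v, s, hs, rfl⟩ | ⟨t, u, v, s, t', u', v', hs, rfl⟩
  · refine ⟨s, hs, ?_⟩
    obtain ⟨t₁, u₁, v₁, e1⟩ := conj_reeU' m hK s₀ hs₀ t u v
    have e2 : reeU (3 ^ m) t₁ u₁ v₁ * hRee (3 ^ m) s = reeU (3 ^ m) t u v * hRee (3 ^ m) s := by
      rw [← e1]
      calc hRee (3 ^ m) s₀ * reeU (3 ^ m) t u v * (hRee (3 ^ m) s₀)⁻¹ * hRee (3 ^ m) s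
          = hRee (3 ^ m) s₀ * reeU (3 ^ m) t u v * (hRee (3 ^ m) s * (hRee (3 ^ m) s₀)⁻¹) := by
            rw [hRee_inv _ s₀ hs₀, hRee_comm _ s s₀⁻¹ hs (inv_ne_zero hs₀)]; group
        _ = (hRee (3 ^ m) s₀ * (reeU (3 ^ m) t u v * hRee (3 ^ m) s)) * (hRee (3 ^ m) s₀)⁻¹ := by group
        _ = reeU (3 ^ m) t u v * hRee (3 ^ m) s := by rw [hcomm]; group
    obtain ⟨k1, k2, k3, -⟩ := form1_inj _ _ _ _ _ _ _ _ _ hs hs e2
    subst k1 k2 k3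
    obtain ⟨rfl, rfl, rfl⟩ := reeU_comm_hRee m hK s₀ hs₀ hsq _ _ _ e1
    rw [reeU_zero _ hθ, one_mul]
  · exfalso
    obtain ⟨t₁, u₁, v₁, e1⟩ := conj_reeU' m hK s₀ hs₀ t u v
    obtain ⟨t₂, u₂, v₂, e2⟩ := conj_reeU' m hK s₀ hs₀ t' u' v'
    have hss : s₀ * s₀ * s ≠ 0 := mul_ne_zero (mul_ne_zero hs₀ hs₀) hs
    have e3 : hRee (3 ^ m) s₀ * (hRee (3 ^ m) s * n1 m hK) * (hRee (3 ^ m) s₀)⁻¹ =
        hRee (3 ^ m) (s₀ * s₀ * s) * n1 m hK := by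
      rw [hRee_inv _ s₀ hs₀]
      have h5 := n1_mul_hRee m hK s₀⁻¹ (inv_ne_zero hs₀)
      rw [inv_inv] at h5
      rw [hRee_mul _ _ _ (mul_ne_zero hs₀ hs₀) hs, hRee_mul _ _ _ hs₀ hs₀]
      calc hRee (3 ^ m) s₀ * (hRee (3 ^ m) s * n1 m hK) * hRee (3 ^ m) s₀⁻¹
          = hRee (3 ^ m) s₀ * hRee (3 ^ m) s * (n1 m hK * hRee (3 ^ m) s₀⁻¹) := by group
        _ = hRee (3 ^ m) s₀ * (hRee (3 ^ m) s * hRee (3 ^ m) s₀) * n1 m hK := by rw [h5]; group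
        _ = hRee (3 ^ m) s₀ * hRee (3 ^ m) s₀ * hRee (3 ^ m) s * n1 m hK := by
            rw [hRee_comm _ s s₀ hs hs₀]; group
    have e4 : reeU (3 ^ m) t₁ u₁ v₁ * (hRee (3 ^ m) (s₀ * s₀ * s) * n1 m hK) * reeU (3 ^ m) t₂ u₂ v₂ =
        reeU (3 ^ m) t u v * (hRee (3 ^ m) s * n1 m hK) * reeU (3 ^ m) t' u' v' := by
      rw [← e1, ← e2, ← e3]
      calc hRee (3 ^ m) s₀ * reeU (3 ^ m) t u v * (hRee (3 ^ m) s₀)⁻¹ *
            (hRee (3 ^ m) s₀ * (hRee (3 ^ m) s * n1 m hK) * (hRee (3 ^ m) s₀)⁻¹) *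
            (hRee (3 ^ m) s₀ * reeU (3 ^ m) t' u' v' * (hRee (3 ^ m) s₀)⁻¹)
          = hRee (3 ^ m) s₀ * (reeU (3 ^ m) t u v * (hRee (3 ^ m) s * n1 m hK) * reeU (3 ^ m) t' u' v') *
              (hRee (3 ^ m) s₀)⁻¹ := by group
        _ = reeU (3 ^ m) t u v * (hRee (3 ^ m) s * n1 m hK) * reeU (3 ^ m) t' u' v' := by
            rw [hcomm]; group
    obtain ⟨-, -, -, k4, -, -, -⟩ := form2_inj m hK _ _ _ _ _ _ _ _ _ _ _ _ _ _ hss hs e4
    apply hsq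
    have : (s₀ * s₀ - 1) * s = 0 := by linear_combination k4
    rcases mul_eq_zero.mp this with h | h
    · linear_combination h
    · exact absurd h hs

end

end Cfsg.Agent.Lib.Helper3.Ree
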