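import Mathlib
import Cfsg.Agent.Lib.Helper3.Ree41
set_option autoImplicit false
set_option linter.unusedSectionVars false
set_option linter.style.haveILetI false
set_option linter.unusedSimpArgs false
open Cfsg Cfsg.Lie

/-!
Conjugates of a diagonal element inside the diagonal part of the twisted group of type `G₂`.
-/

namespace Cfsg.Agent.Lib.Helper3.Ree

open Cfsg.Agent.Lib.Helper3.ChevM Cfsg.Agent.Lib.Helper3.SL2P

section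
variable {K : Type*} [Field K] [Fintype K] [CharP K 3]

theorem inv_sq_ne_one (s : K) (hs : s ≠ 0) (hsq : s ^ 2 ≠ 1) : (s⁻¹) ^ 2 ≠ 1 := by
  intro h
  apply hsq
  rw [inv_pow] at h
  have := inv_eq_one.mp h
  exact this

/-- an element conjugating a diagonal element, not an involution, into the diagonal part is
monomial -/
theorem conj_hRee_mem (m : ℕ) (hK : Fintype.card K = 3 ^ (2 * m + 1)) (s₀ s₁ : K) (hs₀ : s₀ ≠ 0)
    (hs₁ : s₁ ≠ 0) (hsq : s₀ ^ 2 ≠ 1) (g : GL cdG2.D.Idx K) (hg : g ∈ tG2 K (3 ^ m))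
    (hconj : g * hRee (3 ^ m) s₀ = hRee (3 ^ m) s₁ * g) :
    (∃ s : K, s ≠ 0 ∧ g = hRee (3 ^ m) s ∧ s₁ = s₀) ∨
      (∃ s : K, s ≠ 0 ∧ g = hRee (3 ^ m) s * n1 m hK ∧ s₁ = s₀⁻¹) := by
  have hθ : (3 : ℕ) ^ m ≠ 0 := three_pow_ne_zero m
  rcases fixG_normal_form' m hK g (tG2_le_fixG m hK hg) with
    ⟨t, u, v, s, hs, rfl⟩ | ⟨t, u, v, s, t', u', v', hs, rfl⟩
  · left
    obtain ⟨t₁, u₁, v₁, e1⟩ := conj_reeU' m hK s₁ hs₁ t u v
    have e2 : reeU (3 ^ m) t u v * hRee (3 ^ m) (s * s₀) =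
        reeU (3 ^ m) t₁ u₁ v₁ * hRee (3 ^ m) (s₁ * s) := by
      rw [← e1, hRee_mul _ _ _ hs hs₀, hRee_mul _ _ _ hs₁ hs]
      calc reeU (3 ^ m) t u v * (hRee (3 ^ m) s * hRee (3 ^ m) s₀)
          = reeU (3 ^ m) t u v * hRee (3 ^ m) s * hRee (3 ^ m) s₀ := by group
        _ = hRee (3 ^ m) s₁ * (reeU (3 ^ m) t u v * hRee (3 ^ m) s) := hconj
        _ = _ := by group
    obtain ⟨k1, k2, k3, k4⟩ := form1_inj _ _ _ _ _ _ _ _ _ (mul_ne_zero hs hs₀) (mul_ne_zero hs₁ hs) e2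
    subst k1 k2 k3
    have hs10 : s₁ = s₀ := by
      have : s * (s₀ - s₁) = 0 := by linear_combination k4
      rcases mul_eq_zero.mp this with h | h
      · exact absurd h hs
      · exact (sub_eq_zero.mp h).symm
    subst hs10
    obtain ⟨rfl, rfl, rfl⟩ := reeU_comm_hRee m hK s₁ hs₁ hsq _ _ _ e1
    exact ⟨s, hs, by rw [reeU_zero _ hθ, one_mul], rfl⟩
  · right
    have hs₀i : s₀⁻¹ ≠ 0 := inv_ne_zero hs₀
    obtain ⟨t₁, u₁, v₁, e1⟩ := conj_reeU' m hK s₁ hs₁ t u v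
    obtain ⟨t₂, u₂, v₂, e2⟩ := conj_reeU' m hK s₀⁻¹ hs₀i t' u' v'
    have h5 := n1_mul_hRee m hK s₀ hs₀
    have e3 : reeU (3 ^ m) t u v * (hRee (3 ^ m) (s * s₀⁻¹) * n1 m hK) * reeU (3 ^ m) t₂ u₂ v₂ =
        reeU (3 ^ m) t₁ u₁ v₁ * (hRee (3 ^ m) (s₁ * s) * n1 m hK) * reeU (3 ^ m) t' u' v' := by
      rw [← e1, ← e2, hRee_mul _ _ _ hs hs₀i, hRee_mul _ _ _ hs₁ hs, hRee_inv _ s₀⁻¹ hs₀i, inv_inv]
      calc reeU (3 ^ m) t u v * (hRee (3 ^ m) s * hRee (3 ^ m) s₀⁻¹ * n1 m hK) *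
            (hRee (3 ^ m) s₀⁻¹ * reeU (3 ^ m) t' u' v' * hRee (3 ^ m) s₀)
          = reeU (3 ^ m) t u v * hRee (3 ^ m) s * (hRee (3 ^ m) s₀⁻¹ * n1 m hK) *
            hRee (3 ^ m) s₀⁻¹ * reeU (3 ^ m) t' u' v' * hRee (3 ^ m) s₀ := by group
        _ = reeU (3 ^ m) t u v * hRee (3 ^ m) s * (n1 m hK * hRee (3 ^ m) s₀) *
            hRee (3 ^ m) s₀⁻¹ * reeU (3 ^ m) t' u' v' * hRee (3 ^ m) s₀ := by rw [h5]
        _ = reeU (3 ^ m) t u v * hRee (3 ^ m) s * n1 m hK * (hRee (3 ^ m) s₀ *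
            hRee (3 ^ m) s₀⁻¹) * reeU (3 ^ m) t' u' v' * hRee (3 ^ m) s₀ := by group
        _ = reeU (3 ^ m) t u v * (hRee (3 ^ m) s * n1 m hK) * reeU (3 ^ m) t' u' v' *
            hRee (3 ^ m) s₀ := by
            rw [← hRee_mul _ _ _ hs₀ hs₀i, mul_inv_cancel₀ hs₀, hRee_one]; group
        _ = hRee (3 ^ m) s₁ * (reeU (3 ^ m) t u v * (hRee (3 ^ m) s * n1 m hK) *
            reeU (3 ^ m) t' u' v') := hconj
        _ = _ := by group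
    obtain ⟨k1, k2, k3, k4, k5, k6, k7⟩ := form2_inj m hK _ _ _ _ _ _ _ _ _ _ _ _ _ _
      (mul_ne_zero hs hs₀i) (mul_ne_zero hs₁ hs) e3
    subst k1 k2 k3 k5 k6 k7
    have hs10 : s₁ = s₀⁻¹ := by
      have : s * (s₀⁻¹ - s₁) = 0 := by linear_combination k4
      rcases mul_eq_zero.mp this with h | h
      · exact absurd h hs
      · exact (sub_eq_zero.mp h).symm
    subst hs10
    have hsqi := inv_sq_ne_one s₀ hs₀ hsq
    obtain ⟨rfl, rfl, rfl⟩ := reeU_comm_hRee m hK s₀⁻¹ hs₀i hsqi _ _ _ e1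
    obtain ⟨rfl, rfl, rfl⟩ := reeU_comm_hRee m hK s₀⁻¹ hs₀i hsqi _ _ _ e2
    exact ⟨s, hs, by rw [reeU_zero _ hθ, one_mul, mul_one], rfl⟩

end

end Cfsg.Agent.Lib.Helper3.Ree
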