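import Mathlib
import Cfsg.Agent.Lib.Helper3.Ree42
import Cfsg.Agent.Lib.Helper3.Ree25
import Cfsg.Agent.Lib.Helper3.Ree26
set_option autoImplicit false
set_option linter.unusedSectionVars false
set_option linter.style.haveILetI false
set_option linter.unusedSimpArgs false
open Cfsg Cfsg.Lie

/-!
The split torus of the twisted group of type `G₂`: centralizers and normalizers of its subgroups.
-/

namespace Cfsg.Agent.Lib.Helper3.Ree

open Cfsg.Agent.Lib.Helper3.ChevM Cfsg.Agent.Lib.Helper3.SL2P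

section
variable {K : Type*} [Field K] [Fintype K] [CharP K 3]

theorem mem_torusSplit_iff (m : ℕ) (hK : Fintype.card K = 3 ^ (2 * m + 1)) (g : ↥(tG2 K (3 ^ m))) :
    g ∈ torusSplit (K := K) m ↔ ∃ s : K, s ≠ 0 ∧ (g : GL cdG2.D.Idx K) = hRee (3 ^ m) s := by
  unfold torusSplit
  rw [Subgroup.mem_subgroupOf, mem_diag_inf_tG2 m hK]

theorem sq_ne_one_of_mul_self (m : ℕ) (s : K) (hs : s ≠ 0)
    (h : hRee (3 ^ m) s * hRee (3 ^ m) s ≠ 1) : s ^ 2 ≠ 1 := by
  intro h2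
  apply h
  rw [← hRee_mul _ _ _ hs hs, ← pow_two, h2, hRee_one]

/-- the centralizer of an element of the split torus which is not an involution -/
theorem centralizer_torusSplit (m : ℕ) (hK : Fintype.card K = 3 ^ (2 * m + 1))
    (a : ↥(tG2 K (3 ^ m))) (ha : a ∈ torusSplit (K := K) m) (ha2 : a * a ≠ 1) :
    Subgroup.centralizer {a} = torusSplit (K := K) m := by
  obtain ⟨s₀, hs₀, e₀⟩ := (mem_torusSplit_iff m hK a).mp ha
  have hsq : s₀ ^ 2 ≠ 1 := by
    apply sq_ne_one_of_mul_self m s₀ hs₀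
    rw [← e₀]
    intro h
    exact ha2 (Subtype.ext h)
  ext g
  rw [Subgroup.mem_centralizer_singleton_iff]
  constructor
  · intro hcomm
    have h1 : hRee (3 ^ m) s₀ * (g : GL cdG2.D.Idx K) = (g : GL cdG2.D.Idx K) * hRee (3 ^ m) s₀ := by
      rw [← e₀]
      exact (congrArg Subtype.val hcomm).symm
    obtain ⟨s, hs, e⟩ := centralizer_hRee m hK s₀ hs₀ hsq g g.2 h1
    exact (mem_torusSplit_iff m hK g).mpr ⟨s, hs, e⟩
  · intro hg
    obtain ⟨s, hs, e⟩ := (mem_torusSplit_iff m hK g).mp hg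
    apply Subtype.ext
    show (g : GL cdG2.D.Idx K) * a = a * g
    rw [e, e₀]
    exact hRee_comm _ _ _ hs hs₀

theorem nSub_conj_torus (m : ℕ) (hK : Fintype.card K = 3 ^ (2 * m + 1))
    (a : ↥(tG2 K (3 ^ m))) (ha : a ∈ torusSplit (K := K) m) :
    nSub m hK * a * (nSub m hK)⁻¹ = a⁻¹ := by
  obtain ⟨s₀, hs₀, e₀⟩ := (mem_torusSplit_iff m hK a).mp ha
  apply Subtype.ext
  show n1 m hK * (a : GL cdG2.D.Idx K) * (n1 m hK)⁻¹ = (a : GL cdG2.D.Idx K)⁻¹
  rw [e₀]
  exact n1_conj_hRee_eq m hK s₀ hs₀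

theorem nSub_not_mem_torus (m : ℕ) (hK : Fintype.card K = 3 ^ (2 * m + 1)) :
    nSub m hK ∉ torusSplit (K := K) m := by
  intro h
  obtain ⟨s, hs, e⟩ := (mem_torusSplit_iff m hK _).mp h
  apply n1_not_mem_bT m hK
  have : (nSub m hK : GL cdG2.D.Idx K) = n1 m hK := rfl
  rw [← this, e]
  exact (hRee_mem_bT m hK s hs).1

/-- the elements conjugating an element of the split torus, not an involution, into the split
torus -/
theorem conj_mem_torusSplit (m : ℕ) (hK : Fintype.card K = 3 ^ (2 * m + 1))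
    (a : ↥(tG2 K (3 ^ m))) (ha : a ∈ torusSplit (K := K) m) (ha2 : a * a ≠ 1)
    (g : ↥(tG2 K (3 ^ m))) (hg : g * a * g⁻¹ ∈ torusSplit (K := K) m) :
    (g ∈ torusSplit (K := K) m ∧ g * a * g⁻¹ = a) ∨
      (g * (nSub m hK)⁻¹ ∈ torusSplit (K := K) m ∧ g * a * g⁻¹ = a⁻¹) := by
  obtain ⟨s₀, hs₀, e₀⟩ := (mem_torusSplit_iff m hK a).mp ha
  obtain ⟨s₁, hs₁, e₁⟩ := (mem_torusSplit_iff m hK _).mp hg
  have hsq : s₀ ^ 2 ≠ 1 := by
    apply sq_ne_one_of_mul_self m s₀ hs₀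
    rw [← e₀]
    intro h
    exact ha2 (Subtype.ext h)
  have hconj : (g : GL cdG2.D.Idx K) * hRee (3 ^ m) s₀ = hRee (3 ^ m) s₁ * g := by
    rw [← e₀, ← e₁]
    show (g : GL cdG2.D.Idx K) * a = (g : GL cdG2.D.Idx K) * a * (g : GL cdG2.D.Idx K)⁻¹ * g
    group
  rcases conj_hRee_mem m hK s₀ s₁ hs₀ hs₁ hsq g g.2 hconj with ⟨s, hs, e, rfl⟩ | ⟨s, hs, e, rfl⟩
  · left
    refine ⟨(mem_torusSplit_iff m hK g).mpr ⟨s, hs, e⟩, ?_⟩
    apply Subtype.ext
    rw [e₁, e₀]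
  · right
    constructor
    · rw [mem_torusSplit_iff m hK]
      refine ⟨s, hs, ?_⟩
      show (g : GL cdG2.D.Idx K) * (n1 m hK)⁻¹ = _
      rw [e]; group
    · apply Subtype.ext
      rw [e₁]
      show _ = (a : GL cdG2.D.Idx K)⁻¹
      rw [e₀, hRee_inv _ _ hs₀]

theorem torusSplit_comm (m : ℕ) (hK : Fintype.card K = 3 ^ (2 * m + 1))
    (a b : ↥(tG2 K (3 ^ m))) (ha : a ∈ torusSplit (K := K) m) (hb : b ∈ torusSplit (K := K) m) :
    a * b = b * a := by
  obtain ⟨s, hs, e⟩ := (mem_torusSplit_iff m hK a).mp ha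
  obtain ⟨s', hs', e'⟩ := (mem_torusSplit_iff m hK b).mp hb
  apply Subtype.ext
  show (a : GL cdG2.D.Idx K) * b = b * a
  rw [e, e']
  exact hRee_comm _ _ _ hs hs'

theorem nSub_mem_normalizer (m : ℕ) (hK : Fintype.card K = 3 ^ (2 * m + 1))
    (A : Subgroup ↥(tG2 K (3 ^ m))) (hA : A ≤ torusSplit (K := K) m) :
    nSub m hK ∈ Subgroup.normalizer (A : Set ↥(tG2 K (3 ^ m))) := by
  rw [Subgroup.mem_normalizer_iff]
  intro x
  constructor
  · intro hx
    rw [nSub_conj_torus m hK x (hA hx)]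
    exact A.inv_mem hx
  · intro hx
    have h1 := nSub_conj_torus m hK _ (hA (A.inv_mem hx))
    rw [inv_inv] at h1
    have h2 : x = (nSub m hK * x * (nSub m hK)⁻¹)⁻¹ := by
      have : (nSub m hK * x * (nSub m hK)⁻¹)⁻¹ =
          (nSub m hK)⁻¹ * (nSub m hK * (nSub m hK * x * (nSub m hK)⁻¹)⁻¹ * (nSub m hK)⁻¹) * nSub m hK := by
        group
      rw [this, h1]; group
    rw [h2]
    exact A.inv_mem hx

theorem torus_le_normalizer (m : ℕ) (hK : Fintype.card K = 3 ^ (2 * m + 1))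
    (A : Subgroup ↥(tG2 K (3 ^ m))) (hA : A ≤ torusSplit (K := K) m) :
    torusSplit (K := K) m ≤ Subgroup.normalizer (A : Set ↥(tG2 K (3 ^ m))) := by
  intro g hg
  rw [Subgroup.mem_normalizer_iff]
  intro x
  have key : ∀ y ∈ A, g * y * g⁻¹ = y := by
    intro y hy
    rw [torusSplit_comm m hK g y hg (hA hy)]; group
  constructor
  · intro hx
    rw [key x hx]; exact hx
  · intro hx
    have h1 : g⁻¹ * (g * x * g⁻¹) * g = g * x * g⁻¹ := by
      have := torusSplit_comm m hK g (g * x * g⁻¹) hg (hA hx)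
      calc g⁻¹ * (g * x * g⁻¹) * g = g⁻¹ * ((g * x * g⁻¹) * g) := by group
        _ = g⁻¹ * (g * (g * x * g⁻¹)) := by rw [this]
        _ = _ := by group
    have h2 : x = g⁻¹ * (g * x * g⁻¹) * g := by group
    rw [h2, h1]; exact hx

/-- the normalizer of a subgroup of the split torus with an element which is not an
involution -/
theorem normalizer_sub_torus (m : ℕ) (hK : Fintype.card K = 3 ^ (2 * m + 1))
    (A : Subgroup ↥(tG2 K (3 ^ m))) (hA : A ≤ torusSplit (K := K) m)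
    (a : ↥(tG2 K (3 ^ m))) (ha : a ∈ A) (ha2 : a * a ≠ 1) (g : ↥(tG2 K (3 ^ m))) :
    g ∈ Subgroup.normalizer (A : Set ↥(tG2 K (3 ^ m))) ↔
      (g ∈ torusSplit (K := K) m ∨ g * (nSub m hK)⁻¹ ∈ torusSplit (K := K) m) := by
  constructor
  · intro hg
    have h1 : g * a * g⁻¹ ∈ A := (Subgroup.mem_normalizer_iff.mp hg a).mp ha
    rcases conj_mem_torusSplit m hK a (hA ha) ha2 g (hA h1) with ⟨h, -⟩ | ⟨h, -⟩
    · exact Or.inl h
    · exact Or.inr h
  · rintro (h | h)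
    · exact torus_le_normalizer m hK A hA h
    · have h1 := torus_le_normalizer m hK A hA h
      have h2 := nSub_mem_normalizer m hK A hA
      have := Subgroup.mul_mem _ h1 h2
      simpa using this

theorem normalizer_sub_torus_eq (m : ℕ) (hK : Fintype.card K = 3 ^ (2 * m + 1))
    (A : Subgroup ↥(tG2 K (3 ^ m))) (hA : A ≤ torusSplit (K := K) m)
    (a : ↥(tG2 K (3 ^ m))) (ha : a ∈ A) (ha2 : a * a ≠ 1)
    (A' : Subgroup ↥(tG2 K (3 ^ m))) (hA' : A' ≤ torusSplit (K := K) m)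
    (a' : ↥(tG2 K (3 ^ m))) (ha' : a' ∈ A') (ha2' : a' * a' ≠ 1) :
    Subgroup.normalizer (A : Set ↥(tG2 K (3 ^ m))) = Subgroup.normalizer (A' : Set ↥(tG2 K (3 ^ m))) := by
  ext g
  rw [normalizer_sub_torus m hK A hA a ha ha2, normalizer_sub_torus m hK A' hA' a' ha' ha2']

/-- the centralizer of a subgroup of the split torus with an element which is not an
involution -/
theorem centralizer_sub_torus (m : ℕ) (hK : Fintype.card K = 3 ^ (2 * m + 1))
    (A : Subgroup ↥(tG2 K (3 ^ m))) (hA : A ≤ torusSplit (K := K) m)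
    (a : ↥(tG2 K (3 ^ m))) (ha : a ∈ A) (ha2 : a * a ≠ 1) :
    Subgroup.centralizer (A : Set ↥(tG2 K (3 ^ m))) = torusSplit (K := K) m := by
  apply le_antisymm
  · rw [← centralizer_torusSplit m hK a (hA ha) ha2]
    apply Subgroup.centralizer_le
    intro x hx
    rw [Set.mem_singleton_iff] at hx
    rw [hx]; exact ha
  · intro g hg
    rw [Subgroup.mem_centralizer_iff]
    intro y hy
    exact torusSplit_comm m hK y g (hA hy) hg

end

end Cfsg.Agent.Lib.Helper3.Ree
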