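import Mathlib
import Cfsg.Agent.Lib.Helper3.Basic
import Cfsg.Agent.Lib.Helper3.Ree33
set_option autoImplicit false
set_option linter.unusedSectionVars false
set_option linter.style.haveILetI false
set_option linter.unusedSimpArgs false

/-!
Abstract group theory for the structure of the twisted groups of type `G₂`: conjugation into a
subgroup of index prime to `p`, centralizers in groups with trivially intersecting Sylow subgroups,
pairs of involutions, and a criterion for the centralizer of an element to be abelian.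
-/

namespace Cfsg.Agent.Lib.Helper3.Ree

open scoped Pointwise

section general
variable {G : Type*} [Group G]

/-- a `p`-element is conjugate into a subgroup of index prime to `p` -/
theorem exists_conj_mem_of_not_dvd_index [Finite G] (p : ℕ) [hp : Fact p.Prime]
    (C : Subgroup G) (h : ¬ p ∣ C.index) (x : G) (hx : IsPGroup p (Subgroup.zpowers x)) :
    ∃ g : G, g * x * g⁻¹ ∈ C := by
  obtain ⟨Q⟩ : Nonempty (Sylow p C) := inferInstance
  let Q' : Subgroup G := (Q : Subgroup C).map C.subtype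
  have hQ' : IsPGroup p Q' := Q.isPGroup'.map C.subtype
  have hidx : ¬ p ∣ Q'.index := by
    show ¬ p ∣ ((Q : Subgroup C).map C.subtype).index
    rw [Subgroup.index_map_subtype]
    intro hd
    rcases (Nat.Prime.dvd_mul hp.out).mp hd with h1 | h1
    · exact Q.not_dvd_index h1
    · exact h h1
  let S : Sylow p G := hQ'.toSylow hidx
  obtain ⟨c, -, hc⟩ := Cfsg.Agent.Lib.Helper3.exists_conj_mem_of_le_sylow S ⊤ le_top x hx
    (Subgroup.mem_top x)
  refine ⟨c, ?_⟩
  have h1 : c * x * c⁻¹ ∈ Q' := hc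
  obtain ⟨y, -, hy⟩ := Subgroup.mem_map.mp h1
  rw [← hy]
  exact y.2

/-- an element of prime power order generates a `p`-group -/
theorem isPGroup_zpowers_of_orderOf (p : ℕ) [hp : Fact p.Prime] (x : G) (k : ℕ)
    (hx : orderOf x = p ^ k) : IsPGroup p (Subgroup.zpowers x) := by
  apply IsPGroup.of_card (n := k)
  rw [Nat.card_zpowers, hx]

/-- in a group whose Sylow `p`-subgroups intersect trivially, the centralizer of a nontrivial
element of a Sylow `p`-subgroup normalizes it -/
theorem centralizer_le_normalizer_of_ti [Finite G] (p : ℕ) [hp : Fact p.Prime]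
    (hTI : ∀ P Q : Sylow p G, P ≠ Q → (P : Subgroup G) ⊓ Q = ⊥)
    (P : Sylow p G) (x : G) (hx : x ∈ (P : Subgroup G)) (hx1 : x ≠ 1) :
    Subgroup.centralizer {x} ≤ Subgroup.normalizer ((P : Subgroup G) : Set G) := by
  intro g hg
  rw [Subgroup.mem_centralizer_singleton_iff] at hg
  by_contra hn
  have hne : g • P ≠ P := by
    intro h
    exact hn (Sylow.smul_eq_iff_mem_normalizer.mp h)
  have h1 := hTI (g • P) P hne
  have h2 : x ∈ ((g • P : Sylow p G) : Subgroup G) ⊓ P := by
    refine Subgroup.mem_inf.mpr ⟨?_, hx⟩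
    rw [Sylow.coe_subgroup_smul, Cfsg.Agent.Lib.Helper3.mem_conj_smul_iff]
    have : g⁻¹ * x * g = x := by
      calc g⁻¹ * x * g = g⁻¹ * (x * g) := by group
        _ = g⁻¹ * (g * x) := by rw [← hg]
        _ = x := by group
    rw [this]
    exact hx
  rw [h1, Subgroup.mem_bot] at h2
  exact hx1 h2

/-- two involutions are conjugate by a power of their product, or commute with a common
involution which is a power of their product -/
theorem involution_pair [Finite G] (s t : G) (hs : s * s = 1) (ht : t * t = 1) :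
    (∃ k : ℕ, (s * t) ^ k * s * ((s * t) ^ k)⁻¹ = t) ∨
      (∃ k : ℕ, (s * t) ^ k ≠ 1 ∧ (s * t) ^ k * (s * t) ^ k = 1 ∧
        (s * t) ^ k * s = s * (s * t) ^ k ∧ (s * t) ^ k * t = t * (s * t) ^ k) := by
  have hsi : s⁻¹ = s := inv_eq_of_mul_eq_one_right hs
  have hti : t⁻¹ = t := inv_eq_of_mul_eq_one_right ht
  have hri : (s * t)⁻¹ = t * s := by rw [mul_inv_rev, hsi, hti]
  -- `s r = r⁻¹ s` and `t r = r⁻¹ t`
  have h1 : s * (s * t) = (s * t)⁻¹ * s := by
    rw [hri, ← mul_assoc, hs, one_mul, mul_assoc, hs, mul_one]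
  have h2 : t * (s * t) = (s * t)⁻¹ * t := by
    rw [hri, mul_assoc]
  generalize s * t = r at *
  have h1k : ∀ k : ℕ, s * r ^ k = (r ^ k)⁻¹ * s := by
    intro k
    induction k with
    | zero => simp
    | succ k ih =>
      calc s * r ^ (k + 1) = s * (r * r ^ k) := by rw [pow_succ']
        _ = (s * r) * r ^ k := (mul_assoc _ _ _).symm
        _ = r⁻¹ * (s * r ^ k) := by rw [h1, mul_assoc]
        _ = r⁻¹ * ((r ^ k)⁻¹ * s) := by rw [ih]
        _ = (r ^ k * r)⁻¹ * s := by rw [mul_inv_rev, mul_assoc]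
        _ = (r ^ (k + 1))⁻¹ * s := by rw [← pow_succ]
  have h2k : ∀ k : ℕ, t * r ^ k = (r ^ k)⁻¹ * t := by
    intro k
    induction k with
    | zero => simp
    | succ k ih =>
      calc t * r ^ (k + 1) = t * (r * r ^ k) := by rw [pow_succ']
        _ = (t * r) * r ^ k := (mul_assoc _ _ _).symm
        _ = r⁻¹ * (t * r ^ k) := by rw [h2, mul_assoc]
        _ = r⁻¹ * ((r ^ k)⁻¹ * t) := by rw [ih]
        _ = (r ^ k * r)⁻¹ * t := by rw [mul_inv_rev, mul_assoc]
        _ = (r ^ (k + 1))⁻¹ * t := by rw [← pow_succ]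
  have hn : 0 < orderOf r := orderOf_pos r
  rcases Nat.even_or_odd' (orderOf r) with ⟨k, hk | hk⟩
  · -- even order
    right
    have hk0 : 0 < k := by omega
    have hw2 : r ^ k * r ^ k = 1 := by
      rw [← pow_add, ← two_mul, ← hk, pow_orderOf_eq_one]
    have hw1 : r ^ k ≠ 1 := by
      intro h
      have := orderOf_dvd_of_pow_eq_one h
      have := Nat.le_of_dvd hk0 this
      omega
    have hwi : (r ^ k)⁻¹ = r ^ k := inv_eq_of_mul_eq_one_right hw2
    refine ⟨k, hw1, hw2, ?_, ?_⟩
    · rw [h1k, hwi]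
    · rw [h2k, hwi]
  · -- odd order
    left
    refine ⟨k, ?_⟩
    have h1k' : s * (r ^ k)⁻¹ = r ^ k * s := by
      have := h1k k
      calc s * (r ^ k)⁻¹ = r ^ k * ((r ^ k)⁻¹ * s) * (r ^ k)⁻¹ := by group
        _ = r ^ k * (s * r ^ k) * (r ^ k)⁻¹ := by rw [this]
        _ = r ^ k * s := by group
    have h3 : r ^ k * s * (r ^ k)⁻¹ = r ^ k * r ^ k * s := by
      rw [mul_assoc, h1k', mul_assoc]
    rw [h3, ← pow_add]
    have h4 : r ^ (k + k) * r = 1 := by
      rw [← pow_succ, ← two_mul, ← hk, pow_orderOf_eq_one]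
    have h5 : r ^ (k + k) = r⁻¹ := eq_inv_of_mul_eq_one_left h4
    rw [h5, hri, mul_assoc, hs, mul_one]

/-- a criterion for a subgroup `C` to coincide with an abelian subgroup `D` with four elements of
exponent two, when the centralizers in `C` of the involutions of `D` lie in `D` -/
theorem eq_of_four_involutions [Finite G] (C D : Subgroup G) (z t : G) (hDC : D ≤ C)
    (hz : z ∈ D) (ht : t ∈ D) (hz2 : z * z = 1) (ht2 : t * t = 1) (hz1 : z ≠ 1) (ht1 : t ≠ 1)
    (hzt : z ≠ t)
    (hcomm : ∀ a ∈ D, ∀ b ∈ D, a * b = b * a)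
    (hinv : ∀ x ∈ D, x * x = 1 → x = 1 ∨ x = z ∨ x = t ∨ x = z * t)
    (hcent : ∀ w : G, (w = z ∨ w = t ∨ w = z * t) → ∀ g ∈ C, g * w = w * g → g ∈ D)
    (h3 : ∀ g ∈ C, ∀ k : ℕ, g ^ 3 ^ k = 1 → g = 1) : C = D := by
  have hztc : z * t = t * z := hcomm z hz t ht
  have hzt2 : (z * t) * (z * t) = 1 := by
    calc (z * t) * (z * t) = z * (t * z) * t := by group
      _ = z * (z * t) * t := by rw [hztc]
      _ = (z * z) * (t * t) := by group
      _ = 1 := by rw [hz2, ht2, mul_one]
  have hzt1 : z * t ≠ 1 := by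
    intro h
    apply hzt
    calc z = z * (t * t) := by rw [ht2, mul_one]
      _ = (z * t) * t := by group
      _ = t := by rw [h, one_mul]
  have hztz : z * t ≠ z := by
    intro h
    apply ht1
    calc t = (z * z) * t := by rw [hz2, one_mul]
      _ = z * (z * t) := by group
      _ = 1 := by rw [h, hz2]
  have hztt : z * t ≠ t := by
    intro h
    apply hz1
    calc z = z * (t * t) := by rw [ht2, mul_one]
      _ = (z * t) * t := by group
      _ = 1 := by rw [h, ht2]
  have hztD : z * t ∈ D := D.mul_mem hz ht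
  -- the set of involutions
  let I : G → Prop := fun w => w = z ∨ w = t ∨ w = z * t
  have hID : ∀ w, I w → w ∈ D := by
    rintro w (rfl | rfl | rfl)
    · exact hz
    · exact ht
    · exact hztD
  have hI2 : ∀ w, I w → w * w = 1 := by
    rintro w (rfl | rfl | rfl)
    · exact hz2
    · exact ht2
    · exact hzt2
  have hI1 : ∀ w, I w → w ≠ 1 := by
    rintro w (rfl | rfl | rfl)
    · exact hz1
    · exact ht1
    · exact hzt1
  have hIofD : ∀ x ∈ D, x * x = 1 → x ≠ 1 → I x := by
    intro x hx hx2 hx1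
    rcases hinv x hx hx2 with h | h | h | h
    · exact absurd h hx1
    · exact Or.inl h
    · exact Or.inr (Or.inl h)
    · exact Or.inr (Or.inr h)
  -- the centralizer in `C` of an involution of `D` is `D`
  have hcentD : ∀ w, I w → ∀ g ∈ C, (g * w = w * g ↔ g ∈ D) := by
    intro w hw g hg
    constructor
    · exact hcent w hw g hg
    · intro hgD
      exact hcomm g hgD w (hID w hw)
  -- conjugation by an element of `C` mapping an involution of `D` to one of them normalizes `D`
  have hnorm : ∀ c ∈ C, ∀ w₁ w₂, I w₁ → I w₂ → c * w₁ * c⁻¹ = w₂ → ∀ x ∈ D, c * x * c⁻¹ ∈ D := by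
    intro c hc w₁ w₂ hw₁ hw₂ e x hx
    have hxC : c * x * c⁻¹ ∈ C := C.mul_mem (C.mul_mem hc (hDC hx)) (C.inv_mem hc)
    rw [← hcentD w₂ hw₂ _ hxC, ← e]
    have := hcomm x hx w₁ (hID w₁ hw₁)
    calc c * x * c⁻¹ * (c * w₁ * c⁻¹) = c * (x * w₁) * c⁻¹ := by group
      _ = c * (w₁ * x) * c⁻¹ := by rw [this]
      _ = _ := by group
  have hconjI : ∀ c ∈ C, ∀ w₁ w₂, I w₁ → I w₂ → c * w₁ * c⁻¹ = w₂ → ∀ w, I w → I (c * w * c⁻¹) := by
    intro c hc w₁ w₂ hw₁ hw₂ e w hw
    apply hIofD _ (hnorm c hc w₁ w₂ hw₁ hw₂ e w (hID w hw))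
    · calc c * w * c⁻¹ * (c * w * c⁻¹) = c * (w * w) * c⁻¹ := by group
        _ = 1 := by rw [hI2 w hw]; group
    · intro h
      apply hI1 w hw
      calc w = c⁻¹ * (c * w * c⁻¹) * c := by group
        _ = 1 := by rw [h]; group
  -- no two distinct involutions of `D` are conjugate in `C`
  have hnonconj : ∀ c ∈ C, ∀ w₁ w₂, I w₁ → I w₂ → c * w₁ * c⁻¹ = w₂ → w₁ = w₂ := by
    intro c hc w₁ w₂ hw₁ hw₂ e
    by_contra hne
    -- the third involution
    have hprod : ∀ a b, I a → I b → a ≠ b → I (a * b) ∧ a * b ≠ a ∧ a * b ≠ b := by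
      intro a b ha hb hab
      have habD : a * b ∈ D := D.mul_mem (hID a ha) (hID b hb)
      have hc' := hcomm a (hID a ha) b (hID b hb)
      have h2 : (a * b) * (a * b) = 1 := by
        calc (a * b) * (a * b) = a * (b * a) * b := by group
          _ = a * (a * b) * b := by rw [hc']
          _ = (a * a) * (b * b) := by group
          _ = 1 := by rw [hI2 a ha, hI2 b hb, mul_one]
      have h1 : a * b ≠ 1 := by
        intro h
        apply hab
        calc a = a * (b * b) := by rw [hI2 b hb, mul_one]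
          _ = (a * b) * b := by group
          _ = b := by rw [h, one_mul]
      refine ⟨hIofD _ habD h2 h1, ?_, ?_⟩
      · intro h
        apply hI1 b hb
        calc b = (a * a) * b := by rw [hI2 a ha, one_mul]
          _ = a * (a * b) := by group
          _ = 1 := by rw [h, hI2 a ha]
      · intro h
        apply hI1 a ha
        calc a = a * (b * b) := by rw [hI2 b hb, mul_one]
          _ = (a * b) * b := by group
          _ = 1 := by rw [h, hI2 b hb]
    obtain ⟨hw₃, hw₃1, hw₃2⟩ := hprod w₁ w₂ hw₁ hw₂ hne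
    set w₃ := w₁ * w₂ with hw₃def
    -- every involution is one of the three
    have hall : ∀ w, I w → w = w₁ ∨ w = w₂ ∨ w = w₃ := by
      intro w hw
      by_contra hcon
      push Not at hcon
      obtain ⟨n1, n2, n3⟩ := hcon
      -- four distinct elements among three
      rcases hw with rfl | rfl | rfl <;> rcases hw₁ with h1 | h1 | h1 <;>
        rcases hw₂ with h2 | h2 | h2 <;> rcases hw₃ with h3' | h3' | h3' <;>
        first
        | exact n1 h1.symm
        | exact n2 h2.symm
        | exact n3 h3'.symm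
        | exact hne (h1.trans h2.symm)
        | exact hw₃1 (h3'.trans h1.symm)
        | exact hw₃2 (h3'.trans h2.symm)
    have hconj := hconjI c hc w₁ w₂ hw₁ hw₂ e
    have hinj : ∀ a b, c * a * c⁻¹ = c * b * c⁻¹ → a = b := by
      intro a b h
      calc a = c⁻¹ * (c * a * c⁻¹) * c := by group
        _ = c⁻¹ * (c * b * c⁻¹) * c := by rw [h]
        _ = b := by group
    -- the image of `w₂`
    rcases hall _ (hconj w₂ hw₂) with h | h | h
    · -- `c` swaps `w₁` and `w₂`, hence fixes `w₃`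
      have h5 : c * w₃ * c⁻¹ = w₃ := by
        rw [hw₃def]
        calc c * (w₁ * w₂) * c⁻¹ = (c * w₁ * c⁻¹) * (c * w₂ * c⁻¹) := by group
          _ = w₂ * w₁ := by rw [e, h]
          _ = w₁ * w₂ := (hcomm w₁ (hID w₁ hw₁) w₂ (hID w₂ hw₂)).symm
      have h6 : c * w₃ = w₃ * c := by
        calc c * w₃ = (c * w₃ * c⁻¹) * c := by group
          _ = w₃ * c := by rw [h5]
      have hcD : c ∈ D := (hcentD w₃ hw₃ c hc).mp h6
      have h7 := hcomm c hcD w₁ (hID w₁ hw₁)
      apply hne
      rw [← e, h7]; group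
    · exact hne (hinj _ _ (e.trans h.symm))
    · -- a cycle of length three
      have h5 : c * w₃ * c⁻¹ = w₁ := by
        rcases hall _ (hconj w₃ hw₃) with h' | h' | h'
        · exact h'
        · exact absurd (hinj _ _ (h'.trans e.symm)) hw₃1
        · exact absurd (hinj _ _ (h'.trans h.symm)) hw₃2
      -- the action of the powers of `c`
      have hpow : ∀ j : ℕ, (c ^ j * w₁ * (c ^ j)⁻¹ = w₁ ∧ c ^ j * w₂ * (c ^ j)⁻¹ = w₂ ∧
          c ^ j * w₃ * (c ^ j)⁻¹ = w₃ ∧ j % 3 = 0) ∨
          (c ^ j * w₁ * (c ^ j)⁻¹ = w₂ ∧ c ^ j * w₂ * (c ^ j)⁻¹ = w₃ ∧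
          c ^ j * w₃ * (c ^ j)⁻¹ = w₁ ∧ j % 3 = 1) ∨
          (c ^ j * w₁ * (c ^ j)⁻¹ = w₃ ∧ c ^ j * w₂ * (c ^ j)⁻¹ = w₁ ∧
          c ^ j * w₃ * (c ^ j)⁻¹ = w₂ ∧ j % 3 = 2) := by
        intro j
        induction j with
        | zero => left; simp
        | succ j ih =>
          have hstep : ∀ a b : G, c ^ j * a * (c ^ j)⁻¹ = b →
              c ^ (j + 1) * a * (c ^ (j + 1))⁻¹ = c * b * c⁻¹ := by
            intro a b hab
            rw [← hab, pow_succ']; group
          rcases ih with ⟨a1, a2, a3, a4⟩ | ⟨a1, a2, a3, a4⟩ | ⟨a1, a2, a3, a4⟩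
          · right; left
            exact ⟨(hstep _ _ a1).trans e, (hstep _ _ a2).trans h, (hstep _ _ a3).trans h5, by omega⟩
          · right; right
            exact ⟨(hstep _ _ a1).trans h, (hstep _ _ a2).trans h5, (hstep _ _ a3).trans e, by omega⟩
          · left
            exact ⟨(hstep _ _ a1).trans h5, (hstep _ _ a2).trans e, (hstep _ _ a3).trans h, by omega⟩
      -- the order of `c`
      have hord : 0 < orderOf c := orderOf_pos c
      obtain ⟨k, b, hb, hkb⟩ := Nat.exists_eq_pow_mul_and_not_dvd hord.ne' 3 (by norm_num)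
      have hcb : (c ^ b) ^ 3 ^ k = 1 := by
        rw [← pow_mul, mul_comm, ← hkb, pow_orderOf_eq_one]
      have hcb1 := h3 (c ^ b) (C.pow_mem hc b) k hcb
      rcases hpow b with ⟨-, -, -, a4⟩ | ⟨a1, -, -, -⟩ | ⟨a1, -, -, -⟩
      · exact hb (Nat.dvd_of_mod_eq_zero a4)
      · rw [hcb1] at a1
        apply hne
        rw [← a1]; group
      · rw [hcb1] at a1
        apply hw₃1
        rw [← a1]; group
  -- the involution `z` is central in `C`
  apply le_antisymm _ hDC
  intro c hc
  have hzI : I z := Or.inl rfl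
  have htI : I t := Or.inr (Or.inl rfl)
  apply hcent z hzI c hc
  obtain ⟨s, hsdef⟩ : ∃ s, s = c * z * c⁻¹ := ⟨_, rfl⟩
  have hsC : s ∈ C := by
    rw [hsdef]; exact C.mul_mem (C.mul_mem hc (hDC hz)) (C.inv_mem hc)
  have hs2 : s * s = 1 := by
    calc s * s = c * (z * z) * c⁻¹ := by rw [hsdef]; group
      _ = 1 := by rw [hz2]; group
  have hs1 : s ≠ 1 := by
    intro h
    apply hz1
    calc z = c⁻¹ * s * c := by rw [hsdef]; group
      _ = 1 := by rw [h]; group
  have hsz : s = z := by
    rcases involution_pair s t hs2 ht2 with ⟨k, hk⟩ | ⟨k, hw1, hw2, hws, hwt⟩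
    · exfalso
      have hgC : (s * t) ^ k ∈ C := C.pow_mem (C.mul_mem hsC (hDC ht)) k
      have e1 : (s * t) ^ k * c * z * ((s * t) ^ k * c)⁻¹ =
          (s * t) ^ k * (c * z * c⁻¹) * ((s * t) ^ k)⁻¹ := by
        rw [mul_inv_rev]; simp only [mul_assoc]
      have := hnonconj ((s * t) ^ k * c) (C.mul_mem hgC hc) z t hzI htI (by
        rw [e1, ← hsdef]; exact hk)
      exact hzt this
    · set w := (s * t) ^ k with hwdef
      have hwC : w ∈ C := C.pow_mem (C.mul_mem hsC (hDC ht)) k
      have hwD : w ∈ D := (hcentD t htI w hwC).mp hwt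
      have hwI : I w := hIofD w hwD hw2 hw1
      have hsD : s ∈ D := (hcentD w hwI s hsC).mp hws.symm
      have hsI : I s := hIofD s hsD hs2 hs1
      exact (hnonconj c hc z s hzI hsI hsdef.symm).symm
  calc c * z = (c * z * c⁻¹) * c := by group
    _ = z * c := by rw [← hsdef, hsz]

end general

end Cfsg.Agent.Lib.Helper3.Ree
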