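import Mathlib
import Cfsg.Agent.Lib.Helper3.Ree44
import Cfsg.Agent.Lib.Helper3.Ree43
set_option autoImplicit false
set_option linter.unusedSectionVars false
set_option linter.style.haveILetI false
set_option linter.unusedSimpArgs false
open Cfsg Cfsg.Lie

/-!
The involutions of the twisted group of type `G₂` are conjugate; the normalizer of the unipotent
part; elements commuting with a nontrivial `3`-element.
-/

namespace Cfsg.Agent.Lib.Helper3.Ree

open Cfsg.Agent.Lib.Helper3.ChevM Cfsg.Agent.Lib.Helper3.SL2P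
open scoped Pointwise

section abstract
variable {G : Type*} [Group G]

/-- the normalizer of an elementary abelian Sylow `2`-subgroup of order 8 of a perfect group is
transitive on its involutions -/
theorem normalizer_transitive_e8 [Finite G] (k : ℕ) (hk : Odd k) (hG : Nat.card G = 8 * k)
    (hperf : commutator G = ⊤)
    (S : Sylow 2 G) (hS8 : Nat.card (S : Subgroup G) = 8) (hexp : ∀ x ∈ (S : Subgroup G), x * x = 1)
    (x y : G) (hx : x ∈ (S : Subgroup G)) (hx1 : x ≠ 1) (hy : y ∈ (S : Subgroup G)) (hy1 : y ≠ 1) :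
    ∃ n ∈ Subgroup.normalizer ((S : Subgroup G) : Set G), n * x * n⁻¹ = y := by
  classical
  haveI : Fact (Nat.Prime 2) := ⟨Nat.prime_two⟩
  have hcomm := comm_of_exp_two (S : Subgroup G) hexp
  haveI : IsMulCommutative ↥(S : Subgroup G) := ⟨⟨fun a b => Subtype.ext (hcomm _ a.2 _ b.2)⟩⟩
  set N : Subgroup G := Subgroup.normalizer ((S : Subgroup G) : Set G) with hN
  have hSN : (S : Subgroup G) ≤ N := Subgroup.le_normalizer
  obtain ⟨k₂, hk₂, hcardN⟩ : ∃ k₂ : ℕ, Odd k₂ ∧ Nat.card N = 8 * k₂ := by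
    obtain ⟨j, hj⟩ : 8 ∣ Nat.card N := by
      rw [← hS8]
      exact Subgroup.card_dvd_of_le hSN
    refine ⟨j, ?_, hj⟩
    have h1 : Nat.card N ∣ Nat.card G := Subgroup.card_subgroup_dvd_card N
    rw [hj, hG] at h1
    exact Odd.of_dvd_nat hk ((Nat.mul_dvd_mul_iff_left (by norm_num)).mp h1)
  letI act := conjSetAction N (punct (S : Subgroup G)) (punct_invariant N (S : Subgroup G) le_rfl)
  have hsm : ∀ (g : ↥N) (x : ↥(punct (S : Subgroup G))), ((g • x : ↥(punct (S : Subgroup G))) : G) =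
      (g : G) * (x : G) * (g : G)⁻¹ := fun g x => rfl
  have hX : Nat.card ↥(punct (S : Subgroup G)) = 7 := by rw [card_punct, hS8]
  have hstab : ∀ x : ↥(punct (S : Subgroup G)), 8 ∣ Nat.card (MulAction.stabilizer ↥N x) := by
    intro x
    have h1 : (S : Subgroup G).subgroupOf N ≤ MulAction.stabilizer ↥N x := by
      intro g hg
      rw [Subgroup.mem_subgroupOf] at hg
      rw [MulAction.mem_stabilizer_iff]
      apply Subtype.ext
      rw [hsm, hcomm _ hg _ x.2.1]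
      group
    have h2 := Subgroup.card_dvd_of_le h1
    rwa [Nat.card_congr (Subgroup.subgroupOfEquivOfLe hSN).toEquiv, hS8] at h2
  have hodd : ∀ x : ↥(punct (S : Subgroup G)), Odd (Nat.card (MulAction.orbit ↥N x)) := by
    intro x
    have h1 := card_orbit_mul_card_stabilizer (A := ↥N) x
    obtain ⟨j, hj⟩ := hstab x
    rw [hj, hcardN] at h1
    have h2 : Nat.card (MulAction.orbit ↥N x) * j = k₂ := by
      have : 8 * (Nat.card (MulAction.orbit ↥N x) * j) = 8 * k₂ := by rw [← h1]; ring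
      exact Nat.eq_of_mul_eq_mul_left (by norm_num) this
    exact Odd.of_dvd_nat hk₂ ⟨j, h2.symm⟩
  have hfix : ∀ x : ↥(punct (S : Subgroup G)), ∃ g : ↥N, g • x ≠ x := by
    intro x
    obtain ⟨n, hn, hne⟩ := exists_normalizer_not_comm S hperf (x : G) x.2.1 x.2.2
    refine ⟨⟨n, hn⟩, fun h => hne ?_⟩
    have := congrArg Subtype.val h
    rwa [hsm] at this
  have htrans := exists_smul_eq_of_seven (A := ↥N) hX hodd hfix
  obtain ⟨g, hg⟩ := htrans ⟨x, hx, hx1⟩ ⟨y, hy, hy1⟩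
  refine ⟨g, g.2, ?_⟩
  have := congrArg Subtype.val hg
  rwa [hsm] at this

end abstract

section
variable {K : Type*} [Field K] [Fintype K] [CharP K 3]

/-- the involutions of the twisted group are conjugate -/
theorem involution_conj (m : ℕ) (hm : 1 ≤ m) (hK : Fintype.card K = 3 ^ (2 * m + 1))
    (w : ↥(tG2 K (3 ^ m))) (hw2 : w * w = 1) (hw1 : w ≠ 1) :
    ∃ g : ↥(tG2 K (3 ^ m)), g * zG m hK * g⁻¹ = w := by
  haveI : Fact (Nat.Prime 2) := ⟨Nat.prime_two⟩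
  obtain ⟨k, hk, hG⟩ := card_tG2_eq (K := K) m hK
  have hpg : ∀ v : ↥(tG2 K (3 ^ m)), v * v = 1 → IsPGroup 2 (Subgroup.zpowers v) := by
    intro v hv
    by_cases h : v = 1
    · apply IsPGroup.of_card (n := 0)
      rw [Nat.card_zpowers, h, orderOf_one, pow_zero]
    · apply IsPGroup.of_card (n := 1)
      rw [Nat.card_zpowers, pow_one]
      exact orderOf_eq_prime (by rw [pow_two]; exact hv) h
  obtain ⟨S₀, hS₀⟩ := (hpg (zG m hK) (zG_sq m hK)).exists_le_sylow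
  obtain ⟨S', hS'⟩ := (hpg w hw2).exists_le_sylow
  have hz₀ : zG m hK ∈ (S₀ : Subgroup ↥(tG2 K (3 ^ m))) := hS₀ (Subgroup.mem_zpowers _)
  have hw' : w ∈ (S' : Subgroup ↥(tG2 K (3 ^ m))) := hS' (Subgroup.mem_zpowers _)
  obtain ⟨g, hg⟩ := MulAction.exists_smul_eq ↥(tG2 K (3 ^ m)) S₀ S'
  have hw₀ : g⁻¹ * w * g ∈ (S₀ : Subgroup ↥(tG2 K (3 ^ m))) := by
    rw [← hg, Sylow.coe_subgroup_smul, Cfsg.Agent.Lib.Helper3.mem_conj_smul_iff] at hw'
    exact hw'
  have hw₀1 : g⁻¹ * w * g ≠ 1 := by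
    intro h
    apply hw1
    calc w = g * (g⁻¹ * w * g) * g⁻¹ := by group
      _ = 1 := by rw [h]; group
  obtain ⟨h8, hexp⟩ := ree_sylow_two m hK S₀
  obtain ⟨n, -, hn⟩ := normalizer_transitive_e8 k hk hG (ree_perfect m hm hK) S₀ h8 hexp
    (zG m hK) (g⁻¹ * w * g) hz₀ (zG_ne_one m hK) hw₀ hw₀1
  refine ⟨g * n, ?_⟩
  calc g * n * zG m hK * (g * n)⁻¹ = g * (n * zG m hK * n⁻¹) * g⁻¹ := by group
    _ = w := by rw [hn]; group

/-- the representative of the Weyl group element conjugates no nontrivial unipotent element to a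
unipotent element -/
theorem n1_conj_uSub (m : ℕ) (hK : Fintype.card K = 3 ^ (2 * m + 1)) (x : ↥(tG2 K (3 ^ m)))
    (hx : x ∈ uSub K (3 ^ m)) (hx2 : (nSub m hK)⁻¹ * x * nSub m hK ∈ uSub K (3 ^ m)) : x = 1 := by
  obtain ⟨x, hxT⟩ := x
  apply Subtype.ext
  have hx' : x ∈ cdG2.D.posUnipotent K ⊓ tG2 K (3 ^ m) := Subgroup.mem_subgroupOf.mp hx
  have hx2' : (n1 m hK)⁻¹ * x * n1 m hK ∈ cdG2.D.posUnipotent K ⊓ tG2 K (3 ^ m) :=
    Subgroup.mem_subgroupOf.mp hx2
  have hU : (n1 m hK)⁻¹ * x * n1 m hK ∈ uMinus cdG2.D K (n1 m hK) :=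
    pos_le_uMinus _ (h1_mem m hK) hx2'.1
  have hV := conj_uMinus_le cdG2.D (n1 m hK) _ hU
  have e : n1 m hK * ((n1 m hK)⁻¹ * x * n1 m hK) * (n1 m hK)⁻¹ = x := by group
  rw [e] at hV
  have hmem : x ∈ cdG2.D.borelSubgroup K ⊓ cdG2.D.negUnipotent K := ⟨Subgroup.mem_sup_left hx'.1, hV⟩
  rw [(relG2.borel_inf_neg (F := K) bnG2.dec bnG2.mono.tri g2NegTri).1, Subgroup.mem_bot] at hmem
  exact hmem

/-- the order of the Borel subgroup of the twisted group -/
theorem card_bSub (m : ℕ) (hK : Fintype.card K = 3 ^ (2 * m + 1)) :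
    Nat.card ↥(bSub K (3 ^ m)) = (3 ^ (2 * m + 1)) ^ 3 * (3 ^ (2 * m + 1) - 1) := by
  classical
  let f : K × K × K × Kˣ → ↥(bSub K (3 ^ m)) := fun p =>
    ⟨⟨reeU (3 ^ m) p.1 p.2.1 p.2.2.1 * hRee (3 ^ m) (p.2.2.2 : K),
      Subgroup.mul_mem _ (reeU_mem_tG2 _ _ _ _) (hRee_mem_tG2 m hK _ p.2.2.2.ne_zero)⟩,
      Subgroup.mem_subgroupOf.mpr ((mem_bT_iff m hK _).mpr ⟨_, _, _, _, p.2.2.2.ne_zero, rfl⟩)⟩
  have hf : Function.Bijective f := by
    constructor
    · rintro ⟨t, u, v, s⟩ ⟨t', u', v', s'⟩ h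
      have h1 : reeU (3 ^ m) t u v * hRee (3 ^ m) (s : K) =
          reeU (3 ^ m) t' u' v' * hRee (3 ^ m) (s' : K) :=
        congrArg (fun x : ↥(bSub K (3 ^ m)) => ((x : ↥(tG2 K (3 ^ m))) : GL cdG2.D.Idx K)) h
      obtain ⟨rfl, rfl, rfl, h4⟩ := form1_inj _ _ _ _ _ _ _ _ _ s.ne_zero s'.ne_zero h1
      have : s = s' := Units.ext h4
      rw [this]
    · rintro ⟨⟨g, hgT⟩, hg⟩
      obtain ⟨t, u, v, s, hs, e⟩ := (mem_bT_iff m hK g).mp (Subgroup.mem_subgroupOf.mp hg)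
      refine ⟨(t, u, v, Units.mk0 s hs), ?_⟩
      apply Subtype.ext
      apply Subtype.ext
      exact e.symm
  rw [← Nat.card_congr (Equiv.ofBijective f hf), Nat.card_prod, Nat.card_prod, Nat.card_prod,
    Nat.card_eq_fintype_card, Nat.card_eq_fintype_card, Fintype.card_units, hK]
  ring

theorem bSub_le_normalizer_uSub (m : ℕ) (hK : Fintype.card K = 3 ^ (2 * m + 1)) :
    bSub K (3 ^ m) ≤ Subgroup.normalizer ((uSub K (3 ^ m) : Subgroup ↥(tG2 K (3 ^ m))) : Set ↥(tG2 K (3 ^ m))) := by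
  intro g hg
  rw [Subgroup.mem_normalizer_iff]
  intro y
  exact bT_normalizes m g.1 (Subgroup.mem_subgroupOf.mp hg) y.1

/-- the normalizer of the unipotent part is the Borel subgroup -/
theorem normalizer_uSub_le (m : ℕ) (hK : Fintype.card K = 3 ^ (2 * m + 1)) :
    Subgroup.normalizer ((uSub K (3 ^ m) : Subgroup ↥(tG2 K (3 ^ m))) : Set ↥(tG2 K (3 ^ m))) ≤ bSub K (3 ^ m) := by
  rintro ⟨g, hgT⟩ hg
  rcases tG2_cases m hK g hgT with h | ⟨b, hb, b', hb', e⟩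
  · exact Subgroup.mem_subgroupOf.mpr h
  · exfalso
    have hbN := bSub_le_normalizer_uSub m hK (show (⟨b, hb.2⟩ : ↥(tG2 K (3 ^ m))) ∈ bSub K (3 ^ m) from
      Subgroup.mem_subgroupOf.mpr hb)
    have hbN' := bSub_le_normalizer_uSub m hK (show (⟨b', hb'.2⟩ : ↥(tG2 K (3 ^ m))) ∈ bSub K (3 ^ m) from
      Subgroup.mem_subgroupOf.mpr hb')
    have hn : nSub m hK ∈ Subgroup.normalizer ((uSub K (3 ^ m) : Subgroup ↥(tG2 K (3 ^ m))) : Set ↥(tG2 K (3 ^ m))) := by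
      have e2 : nSub m hK = (⟨b, hb.2⟩ : ↥(tG2 K (3 ^ m)))⁻¹ * ⟨g, hgT⟩ * (⟨b', hb'.2⟩ : ↥(tG2 K (3 ^ m)))⁻¹ := by
        apply Subtype.ext
        show n1 m hK = b⁻¹ * g * b'⁻¹
        rw [e]; group
      rw [e2]
      exact Subgroup.mul_mem _ (Subgroup.mul_mem _ (Subgroup.inv_mem _ hbN) hg) (Subgroup.inv_mem _ hbN')
    -- the unipotent part would be trivial
    have htriv : ∀ x ∈ uSub K (3 ^ m), x = 1 := by
      intro x hx
      apply n1_conj_uSub m hK x hx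
      have := (Subgroup.mem_normalizer_iff.mp (Subgroup.inv_mem _ hn) x).mp hx
      simpa using this
    have hcard := card_uSub (K := K) m hK
    have h1 : Nat.card ↥(uSub K (3 ^ m)) = 1 := by
      rw [Nat.card_eq_one_iff_unique]
      refine ⟨⟨fun a b => ?_⟩, ⟨1⟩⟩
      apply Subtype.ext
      rw [htriv a a.2, htriv b b.2]
    rw [hcard] at h1
    have : 1 < (3 ^ (2 * m + 1)) ^ 3 := Nat.one_lt_pow (by norm_num) (Nat.one_lt_pow (by omega) (by norm_num))
    omega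

/-- an element commuting with a nontrivial `3`-element has order dividing the order of the Borel
subgroup -/
theorem orderOf_dvd_of_comm_three (m : ℕ) (hK : Fintype.card K = 3 ^ (2 * m + 1))
    (g y : ↥(tG2 K (3 ^ m))) (hg1 : g ≠ 1) (k : ℕ) (hg : g ^ 3 ^ k = 1) (hcomm : g * y = y * g) :
    orderOf y ∣ (3 ^ (2 * m + 1)) ^ 3 * (3 ^ (2 * m + 1) - 1) := by
  haveI : Fact (Nat.Prime 3) := ⟨by norm_num⟩
  have hpg : IsPGroup 3 (Subgroup.zpowers g) := by
    obtain ⟨j, -, hj⟩ := (Nat.dvd_prime_pow (by norm_num : Nat.Prime 3)).mp (orderOf_dvd_of_pow_eq_one hg)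
    exact isPGroup_zpowers_of_orderOf 3 g j hj
  set U₀ : Sylow 3 ↥(tG2 K (3 ^ m)) := (isPGroup_uSub m hK).toSylow (not_dvd_index_uSub m hK) with hU₀
  have hU₀c : (U₀ : Subgroup ↥(tG2 K (3 ^ m))) = uSub K (3 ^ m) := IsPGroup.toSylow_coe _ _
  obtain ⟨c, -, hc⟩ := Cfsg.Agent.Lib.Helper3.exists_conj_mem_of_le_sylow U₀ ⊤ le_top g hpg
    (Subgroup.mem_top g)
  have hg'1 : c * g * c⁻¹ ≠ 1 := by
    intro h
    apply hg1
    calc g = c⁻¹ * (c * g * c⁻¹) * c := by group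
      _ = 1 := by rw [h]; group
  have hy' : c * y * c⁻¹ ∈ Subgroup.centralizer {c * g * c⁻¹} := by
    rw [Subgroup.mem_centralizer_singleton_iff]
    calc c * y * c⁻¹ * (c * g * c⁻¹) = c * (y * g) * c⁻¹ := by group
      _ = c * (g * y) * c⁻¹ := by rw [hcomm]
      _ = _ := by group
  have h1 := centralizer_le_normalizer_of_ti 3 (ree_sylow_ti m hK) U₀ _ hc hg'1 hy'
  rw [hU₀c] at h1
  have h2 := normalizer_uSub_le m hK h1
  have h3 : orderOf (c * y * c⁻¹) = orderOf y := by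
    have := orderOf_injective (MulAut.conj c).toMonoidHom (MulAut.conj c).injective y
    simpa [MulAut.conj_apply] using this
  rw [← h3, ← card_bSub m hK]
  have h4 : orderOf (⟨c * y * c⁻¹, h2⟩ : ↥(bSub K (3 ^ m))) = orderOf (c * y * c⁻¹) :=
    Subgroup.orderOf_mk _ _
  rw [← h4]
  exact orderOf_dvd_natCard _

end

end Cfsg.Agent.Lib.Helper3.Ree
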