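import Mathlib
import Cfsg.Agent.Lib.Helper3.Ree45
import Cfsg.Agent.Lib.Helper5.SL2TorusConj
import Cfsg.Agent.Lib.Helper5.SL2Roots
set_option autoImplicit false
set_option linter.unusedSectionVars false
set_option linter.style.haveILetI false
set_option linter.unusedSimpArgs false
open Cfsg Cfsg.Lie

/-!
Elements of odd order of `SL₂(K)` and their images in the twisted group of type `G₂`; the order of
the centralizer of an involution and of an element of odd order dividing `q + 1`.
-/

namespace Cfsg.Agent.Lib.Helper3.Ree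

open Cfsg.Agent.Lib.Helper3.ChevM Cfsg.Agent.Lib.Helper3.SL2P
open Matrix

section
variable {K : Type*} [Field K] [Fintype K] [CharP K 3]

theorem negE_eq : (wE (F := K)) * wE = Cfsg.Agent.Lib.Helper5.negOneSL := by
  have h : ((wE (F := K)) * wE).1 = -1 := by
    show (wE (F := K)).1 * (wE (F := K)).1 = -1
    show !![(0:K), 1; -1, 0] * !![(0:K), 1; -1, 0] = -1
    rw [Matrix.mul_fin_two]
    ext i j
    fin_cases i <;> fin_cases j <;> simp
  apply Subtype.ext
  rw [h]
  rfl

theorem negE_ne_one : (wE (F := K)) * wE ≠ 1 := by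
  rw [negE_eq]
  exact Cfsg.Agent.Lib.Helper5.negOneSL_ne_one two_ne_zero_three'

theorem negE_comm (X : SpecialLinearGroup (Fin 2) K) : X * (wE * wE) = (wE * wE) * X := by
  rw [negE_eq]
  exact Cfsg.Agent.Lib.Helper5.negOneSL_commute X

theorem negE_pow_odd (k : ℕ) (hk : Odd k) : ((wE (F := K)) * wE) ^ k = wE * wE := by
  obtain ⟨j, rfl⟩ := hk
  rw [pow_succ, pow_mul, pow_two, wE_sq_sq, one_pow, one_mul]

/-- an element with an odd power equal to one is not minus the identity -/
theorem ne_negE_of_pow_odd (x : SpecialLinearGroup (Fin 2) K) (k : ℕ) (hk : Odd k) (hx : x ^ k = 1) :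
    x ≠ wE * wE := by
  rintro rfl
  rw [negE_pow_odd k hk] at hx
  exact negE_ne_one hx

theorem mul_negE_pow_odd (x : SpecialLinearGroup (Fin 2) K) (k : ℕ) (hk : Odd k) :
    (wE * wE * x) ^ k = wE * wE * x ^ k := by
  have hc : Commute ((wE (F := K)) * wE) x := (negE_comm x).symm
  rw [hc.mul_pow, negE_pow_odd k hk]

/-- commuting images of `SL₂(K)`, one of them of odd order -/
theorem psiR_comm_of_odd (m : ℕ) (X c : SpecialLinearGroup (Fin 2) K) (k : ℕ) (hk : Odd k)
    (hc : c ^ k = 1) (h : psiR m X * psiR m c = psiR m c * psiR m X) : X * c = c * X := by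
  rw [← map_mul, ← map_mul] at h
  rcases psiR_eq_iff m _ _ h with h1 | h1
  · exact h1
  · exfalso
    have h2 : X * c * X⁻¹ = wE * wE * c := by
      rw [h1]; group
    have h3 : (X * c * X⁻¹) ^ k = 1 := by
      have : (X * c * X⁻¹) ^ k = X * c ^ k * X⁻¹ := by
        have := map_pow (MulAut.conj X) c k
        simpa [MulAut.conj_apply] using this.symm
      rw [this, hc]; group
    rw [h2, mul_negE_pow_odd _ k hk, hc, mul_one] at h3
    exact negE_ne_one h3

/-- the image of an element of odd order has the same order -/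
theorem orderOf_psiR_of_odd (m : ℕ) (c : SpecialLinearGroup (Fin 2) K) (hodd : Odd (orderOf c)) :
    orderOf (psiR m c) = orderOf c := by
  rw [orderOf_eq_orderOf_iff]
  intro n
  rw [← map_pow]
  constructor
  · intro h
    have h1 : psiR m (c ^ n) = psiR m 1 := by rw [h, map_one]
    rcases psiR_eq_iff m _ _ h1 with h2 | h2
    · exact h2
    · exfalso
      rw [mul_one] at h2
      have h3 : (c ^ n) ^ orderOf c = 1 := by
        rw [← pow_mul, mul_comm, pow_mul, pow_orderOf_eq_one, one_pow]
      exact ne_negE_of_pow_odd _ _ hodd h3 h2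
  · intro h
    rw [h, map_one]

/-- an element of odd order commuting with the involution `zG` is the image of an element of
`SL₂(K)` of the same order -/
theorem exists_psiR_of_comm_zG (m : ℕ) (hK : Fintype.card K = 3 ^ (2 * m + 1))
    (y : ↥(tG2 K (3 ^ m))) (hy : zG m hK * y = y * zG m hK) (hodd : Odd (orderOf y)) :
    ∃ c : SpecialLinearGroup (Fin 2) K, psiR m c = y ∧ orderOf c = orderOf y := by
  set k := orderOf y with hk
  obtain ⟨A, hA | hA⟩ := centralizer_zG m hK y hy
  · have h1 : psiR m (A ^ k) = psiR m 1 := by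
      rw [map_pow, ← hA, map_one, hk, pow_orderOf_eq_one]
    have key : ∀ c : SpecialLinearGroup (Fin 2) K, psiR m c = y → c ^ k = 1 → orderOf c = k := by
      intro c hc hck
      apply Nat.dvd_antisymm (orderOf_dvd_of_pow_eq_one hck)
      rw [hk, ← hc]
      apply orderOf_dvd_of_pow_eq_one
      rw [← map_pow, pow_orderOf_eq_one, map_one]
    rcases psiR_eq_iff m _ _ h1 with h2 | h2
    · exact ⟨A, hA.symm, key A hA.symm h2⟩
    · rw [mul_one] at h2
      refine ⟨wE * wE * A, ?_, ?_⟩
      · rw [psiR_neg, hA]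
      · apply key
        · rw [psiR_neg, hA]
        · rw [mul_negE_pow_odd _ k hodd, h2, wE_sq_sq]
  · exfalso
    have h1 : y ^ k = 1 := pow_orderOf_eq_one y
    have hc : Commute (zG m hK) (psiR m A) := zG_comm_psiR m hK A
    rw [hA, hc.mul_pow] at h1
    have h2 : zG m hK ^ k = zG m hK := by
      obtain ⟨j, hj⟩ := hodd
      rw [hj, pow_succ, pow_mul, pow_two, zG_sq, one_pow, one_mul]
    rw [h2, ← map_pow] at h1
    apply zG_not_mem_range m hK
    refine ⟨(A ^ k)⁻¹, ?_⟩
    rw [map_inv]
    exact (eq_inv_of_mul_eq_one_left h1).symm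

/-- the centralizer in `SL₂(K)` of an element of odd order dividing `q + 1` has order `q + 1` -/
theorem card_centralizer_sl2_of_odd (m : ℕ) (hK : Fintype.card K = 3 ^ (2 * m + 1))
    (c : SpecialLinearGroup (Fin 2) K) (hodd : Odd (orderOf c)) (h1 : 1 < orderOf c)
    (hdvd : orderOf c ∣ 3 ^ (2 * m + 1) + 1) :
    Nat.card (Subgroup.centralizer ({c} : Set (SpecialLinearGroup (Fin 2) K))) = 3 ^ (2 * m + 1) + 1 := by
  classical
  haveI : Fact (Nat.Prime 3) := ⟨by norm_num⟩
  set q := 3 ^ (2 * m + 1) with hq
  have hq3 : 3 ∣ q := dvd_pow_self 3 (by omega)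
  have hqpos : 0 < q := by positivity
  by_cases ht : (c : Matrix (Fin 2) (Fin 2) K).trace ^ 2 = 4
  · exfalso
    obtain ⟨r, hr⟩ := Cfsg.Agent.Lib.Helper5.pow_char_scalar_of_sq_eq_four 3 c ht
    have hr2 := (Cfsg.Agent.Lib.Helper5.sq_eq_four_of_scalar (c ^ 3) r hr).2
    have h6 : c ^ 6 = 1 := by
      have : c ^ 6 = c ^ 3 * c ^ 3 := by rw [← pow_add]
      rw [this]
      apply Subtype.ext
      show ((c ^ 3 : SpecialLinearGroup (Fin 2) K) : Matrix (Fin 2) (Fin 2) K) *
        ((c ^ 3 : SpecialLinearGroup (Fin 2) K) : Matrix (Fin 2) (Fin 2) K) = 1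
      rw [hr, Matrix.smul_mul, Matrix.mul_smul, Matrix.one_mul, smul_smul, ← pow_two, hr2, one_smul]
    have hd6 : orderOf c ∣ 6 := orderOf_dvd_of_pow_eq_one h6
    have hd3 : orderOf c ∣ 3 := by
      have hcop : Nat.Coprime (orderOf c) 2 := Nat.Coprime.symm (Nat.coprime_two_left.mpr hodd)
      have : orderOf c ∣ 2 * 3 := hd6
      exact hcop.dvd_of_dvd_mul_left this
    have hdq : orderOf c ∣ q := dvd_trans hd3 hq3
    have : orderOf c ∣ 1 := (Nat.dvd_add_right hdq).mp hdvd
    have := Nat.le_of_dvd (by norm_num) this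
    omega
  · have hgen := Cfsg.Agent.Lib.Helper5.card_centralizer_generic c ht
    rw [hK] at hgen
    rcases Cfsg.Agent.Lib.Helper5.rootCount_eq_zero_or_two _ ht with h0 | h2
    · rw [h0, add_zero] at hgen
      exact hgen
    · exfalso
      rw [h2] at hgen
      have hcard : Nat.card (Subgroup.centralizer ({c} : Set (SpecialLinearGroup (Fin 2) K))) = q - 1 := by
        omega
      have hmem : c ∈ Subgroup.centralizer ({c} : Set (SpecialLinearGroup (Fin 2) K)) := by
        rw [Subgroup.mem_centralizer_singleton_iff]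
      have hd1 : orderOf c ∣ q - 1 := by
        rw [← hcard]
        have h4 : orderOf (⟨c, hmem⟩ : ↥(Subgroup.centralizer ({c} : Set (SpecialLinearGroup (Fin 2) K)))) =
            orderOf c := Subgroup.orderOf_mk _ _
        rw [← h4]
        exact orderOf_dvd_natCard _
      have hd2 : orderOf c ∣ 2 := by
        have e : q + 1 = (q - 1) + 2 := by omega
        rw [e] at hdvd
        exact (Nat.dvd_add_right hd1).mp hdvd
      have hcop : Nat.Coprime (orderOf c) 2 := Nat.Coprime.symm (Nat.coprime_two_left.mpr hodd)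
      have : orderOf c ∣ 1 := by
        have := hcop.dvd_of_dvd_mul_left (show orderOf c ∣ 2 * 1 from hd2)
        exact this
      have := Nat.le_of_dvd (by norm_num) this
      omega

/-- the order of the centralizer of the involution `zG` and the image of an element of odd order
dividing `q + 1` -/
theorem card_centralizer_zG_psiR (m : ℕ) (hK : Fintype.card K = 3 ^ (2 * m + 1))
    (c : SpecialLinearGroup (Fin 2) K) (hodd : Odd (orderOf c)) (h1 : 1 < orderOf c)
    (hdvd : orderOf c ∣ 3 ^ (2 * m + 1) + 1) :
    Nat.card ↥(Subgroup.centralizer {zG m hK} ⊓ Subgroup.centralizer {psiR m c}) =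
      3 ^ (2 * m + 1) + 1 := by
  classical
  set Z := Subgroup.centralizer ({c} : Set (SpecialLinearGroup (Fin 2) K)) with hZ
  set S := Subgroup.centralizer {zG (K := K) m hK} ⊓ Subgroup.centralizer {psiR m c} with hS
  have hck : c ^ orderOf c = 1 := pow_orderOf_eq_one c
  have hmemS : ∀ (b : Bool) (X : ↥Z), (if b then zG m hK else 1) * psiR m (X : SpecialLinearGroup (Fin 2) K) ∈ S := by
    intro b X
    have hX : (X : SpecialLinearGroup (Fin 2) K) * c = c * X :=
      Subgroup.mem_centralizer_singleton_iff.mp X.2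
    have hXc : psiR m (X : SpecialLinearGroup (Fin 2) K) * psiR m c = psiR m c * psiR m X := by
      rw [← map_mul, ← map_mul, hX]
    refine Subgroup.mem_inf.mpr ⟨?_, ?_⟩
    · rw [Subgroup.mem_centralizer_singleton_iff]
      cases b
      · simp only [Bool.false_eq_true, if_false, one_mul]
        exact (zG_comm_psiR m hK _).symm
      · simp only [if_true]
        rw [mul_assoc, ← zG_comm_psiR m hK, ← mul_assoc]
    · rw [Subgroup.mem_centralizer_singleton_iff]
      cases b
      · simp only [Bool.false_eq_true, if_false, one_mul]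
        exact hXc
      · simp only [if_true]
        rw [mul_assoc, hXc, ← mul_assoc, zG_comm_psiR m hK c, mul_assoc]
  have hnegZ : ∀ X : ↥Z, wE * wE * (X : SpecialLinearGroup (Fin 2) K) ∈ Z := by
    intro X
    have hX : (X : SpecialLinearGroup (Fin 2) K) * c = c * X :=
      Subgroup.mem_centralizer_singleton_iff.mp X.2
    apply Subgroup.mem_centralizer_singleton_iff.mpr
    rw [mul_assoc, hX, ← mul_assoc, ← negE_comm c, mul_assoc]
  have hcard := Cfsg.Agent.Lib.Helper5.card_eq_two_mul_of_two_to_one
    (fun p : Bool × ↥Z => (⟨_, hmemS p.1 p.2⟩ : ↥S)) ?_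
    (fun p : Bool × ↥Z => ((p.1, ⟨_, hnegZ p.2⟩) : Bool × ↥Z)) ?_ ?_
  · rw [Nat.card_prod, Nat.card_eq_fintype_card (α := Bool), Fintype.card_bool,
      card_centralizer_sl2_of_odd m hK c hodd h1 hdvd] at hcard
    omega
  · -- surjectivity
    rintro ⟨g, hg⟩
    obtain ⟨hgz, hgc⟩ := Subgroup.mem_inf.mp hg
    rw [Subgroup.mem_centralizer_singleton_iff] at hgz hgc
    obtain ⟨A, hA | hA⟩ := centralizer_zG m hK g hgz.symm
    · have hAc : psiR m A * psiR m c = psiR m c * psiR m A := by rw [← hA]; exact hgc
      have hAZ : A ∈ Z := by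
        apply Subgroup.mem_centralizer_singleton_iff.mpr
        exact psiR_comm_of_odd m A c _ hodd hck hAc
      refine ⟨(false, ⟨A, hAZ⟩), ?_⟩
      apply Subtype.ext
      show (if false = true then zG m hK else 1) * psiR m A = g
      simp only [Bool.false_eq_true, if_false, one_mul]
      exact hA.symm
    · have hAc : psiR m A * psiR m c = psiR m c * psiR m A := by
        have hzc := zG_comm_psiR m hK c
        rw [hA] at hgc
        have : zG m hK * (psiR m A * psiR m c) = zG m hK * (psiR m c * psiR m A) := by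
          rw [← mul_assoc, hgc, ← mul_assoc, ← hzc, mul_assoc]
        exact mul_left_cancel this
      have hAZ : A ∈ Z := by
        apply Subgroup.mem_centralizer_singleton_iff.mpr
        exact psiR_comm_of_odd m A c _ hodd hck hAc
      refine ⟨(true, ⟨A, hAZ⟩), ?_⟩
      apply Subtype.ext
      show (if true = true then zG m hK else 1) * psiR m A = g
      simp only [if_true]
      exact hA.symm
  · rintro ⟨b, X⟩ h
    have h1 := congrArg (fun p : Bool × ↥Z => (p.2 : SpecialLinearGroup (Fin 2) K)) h
    dsimp only at h1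
    have h3 : (wE (F := K)) * wE = 1 := by
      have := congrArg (fun Y => Y * (X : SpecialLinearGroup (Fin 2) K)⁻¹) h1
      simpa [mul_assoc] using this
    exact negE_ne_one h3
  · rintro ⟨b, X⟩ ⟨b', X'⟩
    dsimp only
    constructor
    · intro h
      have h1 := congrArg (fun s : ↥S => (s : ↥(tG2 K (3 ^ m)))) h
      dsimp only at h1
      have hbb : b = b' := by
        by_contra hne
        apply zG_not_mem_range (K := K) m hK
        cases b <;> cases b'
        · exact absurd rfl hne
        · simp only [Bool.false_eq_true, if_false, one_mul, if_true] at h1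
          refine ⟨(X : SpecialLinearGroup (Fin 2) K) * (X' : SpecialLinearGroup (Fin 2) K)⁻¹, ?_⟩
          rw [map_mul, map_inv, h1]; group
        · simp only [Bool.false_eq_true, if_false, one_mul, if_true] at h1
          refine ⟨(X' : SpecialLinearGroup (Fin 2) K) * (X : SpecialLinearGroup (Fin 2) K)⁻¹, ?_⟩
          rw [map_mul, map_inv, ← h1]; group
        · exact absurd rfl hne
      subst hbb
      have h2 : psiR m (X : SpecialLinearGroup (Fin 2) K) = psiR m (X' : SpecialLinearGroup (Fin 2) K) :=
        mul_left_cancel h1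
      rcases psiR_eq_iff m _ _ h2 with h3 | h3
      · left
        have : X' = X := Subtype.ext h3.symm
        rw [this]
      · right
        have : X' = ⟨_, hnegZ X⟩ := by
          apply Subtype.ext
          show (X' : SpecialLinearGroup (Fin 2) K) = wE * wE * (X : SpecialLinearGroup (Fin 2) K)
          rw [h3, ← mul_assoc, wE_sq_sq, one_mul]
        rw [this]
    · rintro (h | h)
      · obtain ⟨rfl, rfl⟩ := Prod.mk.inj h
        rfl
      · obtain ⟨rfl, rfl⟩ := Prod.mk.inj h
        apply Subtype.ext
        show (if b' then zG m hK else 1) * psiR m (X : SpecialLinearGroup (Fin 2) K) =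
          (if b' then zG m hK else 1) * psiR m (wE * wE * (X : SpecialLinearGroup (Fin 2) K))
        rw [psiR_neg]

end

end Cfsg.Agent.Lib.Helper3.Ree
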