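import Mathlib
import Cfsg.Agent.Lib.Helper3.Ree46
set_option autoImplicit false
set_option linter.unusedSectionVars false
set_option linter.style.haveILetI false
set_option linter.unusedSimpArgs false
open Cfsg Cfsg.Lie

/-!
The nonsplit torus of order `q + 1` of the twisted group of type `G₂`.
-/

namespace Cfsg.Agent.Lib.Helper3.Ree

open Cfsg.Agent.Lib.Helper3.ChevM Cfsg.Agent.Lib.Helper3.SL2P
open Matrix

section abstract
variable {G : Type*} [Group G]

theorem card_inf_centralizer_conj (g a b : G) :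
    Nat.card ↥(Subgroup.centralizer {g * a * g⁻¹} ⊓ Subgroup.centralizer {g * b * g⁻¹}) =
      Nat.card ↥(Subgroup.centralizer {a} ⊓ Subgroup.centralizer {b}) := by
  have key : ∀ (g a x : G), x ∈ Subgroup.centralizer {a} → g * x * g⁻¹ ∈ Subgroup.centralizer {g * a * g⁻¹} := by
    intro g a x hx
    rw [Subgroup.mem_centralizer_singleton_iff] at hx ⊢
    calc g * x * g⁻¹ * (g * a * g⁻¹) = g * (x * a) * g⁻¹ := by group
      _ = g * (a * x) * g⁻¹ := by rw [hx]
      _ = _ := by group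
  have key' : ∀ (g a x : G), x ∈ Subgroup.centralizer {g * a * g⁻¹} → g⁻¹ * x * g ∈ Subgroup.centralizer {a} := by
    intro g a x hx
    have := key g⁻¹ (g * a * g⁻¹) x hx
    rw [inv_inv] at this
    have e : g⁻¹ * (g * a * g⁻¹) * g = a := by group
    rwa [e] at this
  apply Nat.card_congr
  refine ⟨fun x => ⟨g⁻¹ * x.1 * g, Subgroup.mem_inf.mpr ⟨key' g a _ x.2.1, key' g b _ x.2.2⟩⟩,
    fun x => ⟨g * x.1 * g⁻¹, Subgroup.mem_inf.mpr ⟨key g a _ x.2.1, key g b _ x.2.2⟩⟩, ?_, ?_⟩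
  · intro x
    apply Subtype.ext
    show g * (g⁻¹ * x.1 * g) * g⁻¹ = x.1
    group
  · intro x
    apply Subtype.ext
    show g⁻¹ * (g * x.1 * g⁻¹) * g = x.1
    group

end abstract

section
variable {K : Type*} [Field K] [Fintype K] [CharP K 3]

/-- the order of the centralizer of an involution and an element of odd order dividing `q + 1`
commuting with it -/
theorem card_centralizer_inv_odd (m : ℕ) (hm : 1 ≤ m) (hK : Fintype.card K = 3 ^ (2 * m + 1))
    (w y : ↥(tG2 K (3 ^ m))) (hw2 : w * w = 1) (hw1 : w ≠ 1) (hwy : w * y = y * w)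
    (hodd : Odd (orderOf y)) (h1 : 1 < orderOf y) (hdvd : orderOf y ∣ 3 ^ (2 * m + 1) + 1) :
    Nat.card ↥(Subgroup.centralizer {w} ⊓ Subgroup.centralizer {y}) = 3 ^ (2 * m + 1) + 1 := by
  obtain ⟨g, hg⟩ := involution_conj m hm hK w hw2 hw1
  set y' := g⁻¹ * y * g with hy'
  have hyy : y = g * y' * g⁻¹ := by rw [hy']; group
  have hord : orderOf y' = orderOf y := by
    have := orderOf_injective (MulAut.conj g⁻¹).toMonoidHom (MulAut.conj g⁻¹).injective y
    simpa [MulAut.conj_apply] using this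
  have hzy : zG m hK * y' = y' * zG m hK := by
    have e1 : zG m hK = g⁻¹ * w * g := by rw [← hg]; group
    rw [e1, hy']
    calc g⁻¹ * w * g * (g⁻¹ * y * g) = g⁻¹ * (w * y) * g := by group
      _ = g⁻¹ * (y * w) * g := by rw [hwy]
      _ = _ := by group
  obtain ⟨c, hc, hco⟩ := exists_psiR_of_comm_zG m hK y' hzy (by rw [hord]; exact hodd)
  rw [hord] at hco
  have h := card_centralizer_zG_psiR m hK c (by rw [hco]; exact hodd) (by rw [hco]; exact h1)
    (by rw [hco]; exact hdvd)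
  rw [hc] at h
  rw [← hg, hyy, card_inf_centralizer_conj, h]

/-- the nonsplit torus of order `q + 1` -/
def torusD (m : ℕ) (hK : Fintype.card K = 3 ^ (2 * m + 1)) (g₀ : SpecialLinearGroup (Fin 2) K) :
    Subgroup ↥(tG2 K (3 ^ m)) where
  carrier := {x | ∃ X ∈ Subgroup.zpowers g₀, x = psiR m X ∨ x = zG m hK * psiR m X}
  one_mem' := ⟨1, Subgroup.one_mem _, Or.inl (map_one _).symm⟩
  mul_mem' := by
    rintro a b ⟨X, hX, ha⟩ ⟨Y, hY, hb⟩
    refine ⟨X * Y, Subgroup.mul_mem _ hX hY, ?_⟩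
    have hz := zG_sq (K := K) m hK
    have hc := zG_comm_psiR m hK X
    rcases ha with rfl | rfl <;> rcases hb with rfl | rfl
    · left; rw [map_mul]
    · right; rw [map_mul, ← mul_assoc, ← hc, mul_assoc]
    · right; rw [map_mul, mul_assoc]
    · left
      rw [map_mul]
      calc zG m hK * psiR m X * (zG m hK * psiR m Y)
          = zG m hK * (psiR m X * zG m hK) * psiR m Y := by group
        _ = zG m hK * (zG m hK * psiR m X) * psiR m Y := by rw [hc]
        _ = (zG m hK * zG m hK) * psiR m X * psiR m Y := by group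
        _ = _ := by rw [hz, one_mul]
  inv_mem' := by
    rintro a ⟨X, hX, ha⟩
    refine ⟨X⁻¹, Subgroup.inv_mem _ hX, ?_⟩
    have hz := zG_sq (K := K) m hK
    have hzi : (zG (K := K) m hK)⁻¹ = zG m hK := inv_eq_of_mul_eq_one_right hz
    have hc := zG_comm_psiR m hK X⁻¹
    rcases ha with rfl | rfl
    · left; rw [map_inv]
    · right; rw [_root_.mul_inv_rev, hzi, ← map_inv, hc]

theorem mem_torusD_iff (m : ℕ) (hK : Fintype.card K = 3 ^ (2 * m + 1)) (g₀ : SpecialLinearGroup (Fin 2) K)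
    (x : ↥(tG2 K (3 ^ m))) :
    x ∈ torusD m hK g₀ ↔ ∃ X ∈ Subgroup.zpowers g₀, x = psiR m X ∨ x = zG m hK * psiR m X := Iff.rfl

theorem zG_mem_torusD (m : ℕ) (hK : Fintype.card K = 3 ^ (2 * m + 1)) (g₀ : SpecialLinearGroup (Fin 2) K) :
    zG m hK ∈ torusD m hK g₀ :=
  ⟨1, Subgroup.one_mem _, Or.inr (by rw [map_one, mul_one])⟩

theorem psiR_mem_torusD (m : ℕ) (hK : Fintype.card K = 3 ^ (2 * m + 1)) (g₀ X : SpecialLinearGroup (Fin 2) K)
    (hX : X ∈ Subgroup.zpowers g₀) : psiR m X ∈ torusD m hK g₀ :=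
  ⟨X, hX, Or.inl rfl⟩

theorem zpowers_comm (g₀ X Y : SpecialLinearGroup (Fin 2) K) (hX : X ∈ Subgroup.zpowers g₀)
    (hY : Y ∈ Subgroup.zpowers g₀) : X * Y = Y * X := by
  obtain ⟨i, rfl⟩ := Subgroup.mem_zpowers_iff.mp hX
  obtain ⟨j, rfl⟩ := Subgroup.mem_zpowers_iff.mp hY
  rw [← _root_.zpow_add, ← _root_.zpow_add, add_comm]

/-- the nonsplit torus is abelian -/
theorem torusD_comm (m : ℕ) (hK : Fintype.card K = 3 ^ (2 * m + 1)) (g₀ : SpecialLinearGroup (Fin 2) K)
    (a b : ↥(tG2 K (3 ^ m))) (ha : a ∈ torusD m hK g₀) (hb : b ∈ torusD m hK g₀) : a * b = b * a := by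
  obtain ⟨X, hX, ha⟩ := ha
  obtain ⟨Y, hY, hb⟩ := hb
  have hXY : psiR m X * psiR m Y = psiR m Y * psiR m X := by
    rw [← map_mul, ← map_mul, zpowers_comm g₀ X Y hX hY]
  have hcX := zG_comm_psiR m hK X
  have hcY := zG_comm_psiR m hK Y
  rcases ha with rfl | rfl <;> rcases hb with rfl | rfl
  · exact hXY
  · calc psiR m X * (zG m hK * psiR m Y) = (psiR m X * zG m hK) * psiR m Y := by group
      _ = zG m hK * (psiR m X * psiR m Y) := by rw [← hcX]; group
      _ = _ := by rw [hXY]; group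
  · calc zG m hK * psiR m X * psiR m Y = zG m hK * (psiR m X * psiR m Y) := by group
      _ = (zG m hK * psiR m Y) * psiR m X := by rw [hXY]; group
      _ = _ := by rw [hcY]; group
  · calc zG m hK * psiR m X * (zG m hK * psiR m Y)
        = zG m hK * (psiR m X * zG m hK) * psiR m Y := by group
      _ = zG m hK * zG m hK * (psiR m X * psiR m Y) := by rw [← hcX]; group
      _ = zG m hK * zG m hK * (psiR m Y * psiR m X) := by rw [hXY]
      _ = zG m hK * (psiR m Y * zG m hK) * psiR m X := by rw [← hcY]; group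
      _ = _ := by group

end

end Cfsg.Agent.Lib.Helper3.Ree
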