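import Mathlib
import Cfsg.Agent.Lib.Helper3.Ree47
set_option autoImplicit false
set_option linter.unusedSectionVars false
set_option linter.style.haveILetI false
set_option linter.unusedSimpArgs false
open Cfsg Cfsg.Lie

/-!
The centralizer of an element of odd order of the nonsplit torus of order `q + 1` of the twisted
group of type `G₂`.
-/

namespace Cfsg.Agent.Lib.Helper3.Ree

open Cfsg.Agent.Lib.Helper3.ChevM Cfsg.Agent.Lib.Helper3.SL2P
open Matrix

section
variable {K : Type*} [Field K] [Fintype K] [CharP K 3]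

/-- an element of odd order which is not the identity is not scalar -/
theorem not_scalar_of_odd (c : SpecialLinearGroup (Fin 2) K) (hodd : Odd (orderOf c)) (h1 : 1 < orderOf c) :
    ¬ ∃ r : K, (c : Matrix (Fin 2) (Fin 2) K) = r • (1 : Matrix (Fin 2) (Fin 2) K) := by
  rintro ⟨r, hr⟩
  have hr2 := (Cfsg.Agent.Lib.Helper5.sq_eq_four_of_scalar c r hr).2
  have h2 : c ^ 2 = 1 := by
    rw [pow_two]
    apply Subtype.ext
    show (c : Matrix (Fin 2) (Fin 2) K) * (c : Matrix (Fin 2) (Fin 2) K) = 1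
    rw [hr, Matrix.smul_mul, Matrix.mul_smul, Matrix.one_mul, smul_smul, ← pow_two, hr2, one_smul]
  have hd : orderOf c ∣ 2 := orderOf_dvd_of_pow_eq_one h2
  have hcop : Nat.Coprime (orderOf c) 2 := Nat.Coprime.symm (Nat.coprime_two_left.mpr hodd)
  have : orderOf c ∣ 1 := hcop.dvd_of_dvd_mul_left (show orderOf c ∣ 2 * 1 from hd)
  have := Nat.le_of_dvd (by norm_num) this
  omega

/-- the centralizer in `SL₂(K)` of an element of odd order of the torus -/
theorem centralizer_sl2_torus (m : ℕ) (hK : Fintype.card K = 3 ^ (2 * m + 1))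
    (g₀ : SpecialLinearGroup (Fin 2) K) (hg₀ : orderOf g₀ = 3 ^ (2 * m + 1) + 1)
    (c : SpecialLinearGroup (Fin 2) K) (hc : c ∈ Subgroup.zpowers g₀)
    (hodd : Odd (orderOf c)) (h1 : 1 < orderOf c) :
    Subgroup.centralizer ({c} : Set (SpecialLinearGroup (Fin 2) K)) = Subgroup.zpowers g₀ := by
  classical
  have hcard : Nat.card ↥(Subgroup.zpowers g₀) = Fintype.card K + 1 := by
    rw [Nat.card_zpowers, hg₀, hK]
  exact (Cfsg.Agent.Lib.Helper5.torus_structure (Subgroup.zpowers g₀) inferInstance hcard c hc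
    (not_scalar_of_odd c hodd h1)).1

/-- the nonsplit torus as the centralizer of the involution `zG` and an element of odd order -/
theorem torusD_eq_inf (m : ℕ) (hK : Fintype.card K = 3 ^ (2 * m + 1))
    (g₀ : SpecialLinearGroup (Fin 2) K) (hg₀ : orderOf g₀ = 3 ^ (2 * m + 1) + 1)
    (c : SpecialLinearGroup (Fin 2) K) (hc : c ∈ Subgroup.zpowers g₀)
    (hodd : Odd (orderOf c)) (h1 : 1 < orderOf c) :
    Subgroup.centralizer {zG m hK} ⊓ Subgroup.centralizer {psiR m c} = torusD m hK g₀ := by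
  have hcent := centralizer_sl2_torus m hK g₀ hg₀ c hc hodd h1
  have hck : c ^ orderOf c = 1 := pow_orderOf_eq_one c
  apply le_antisymm
  · intro g hg
    obtain ⟨hgz, hgc⟩ := Subgroup.mem_inf.mp hg
    rw [Subgroup.mem_centralizer_singleton_iff] at hgz hgc
    obtain ⟨A, hA | hA⟩ := centralizer_zG m hK g hgz.symm
    · have hAc : psiR m A * psiR m c = psiR m c * psiR m A := by rw [← hA]; exact hgc
      have hAZ : A ∈ Subgroup.zpowers g₀ := by
        rw [← hcent]
        apply Subgroup.mem_centralizer_singleton_iff.mpr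
        exact psiR_comm_of_odd m A c _ hodd hck hAc
      exact ⟨A, hAZ, Or.inl hA⟩
    · have hAc : psiR m A * psiR m c = psiR m c * psiR m A := by
        have hzc := zG_comm_psiR m hK c
        rw [hA] at hgc
        have : zG m hK * (psiR m A * psiR m c) = zG m hK * (psiR m c * psiR m A) := by
          rw [← mul_assoc, hgc, ← mul_assoc, ← hzc, mul_assoc]
        exact mul_left_cancel this
      have hAZ : A ∈ Subgroup.zpowers g₀ := by
        rw [← hcent]
        apply Subgroup.mem_centralizer_singleton_iff.mpr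
        exact psiR_comm_of_odd m A c _ hodd hck hAc
      exact ⟨A, hAZ, Or.inr hA⟩
  · intro g hg
    refine Subgroup.mem_inf.mpr ⟨?_, ?_⟩
    · rw [Subgroup.mem_centralizer_singleton_iff]
      exact torusD_comm m hK g₀ g _ hg (zG_mem_torusD m hK g₀)
    · rw [Subgroup.mem_centralizer_singleton_iff]
      exact torusD_comm m hK g₀ g _ hg (psiR_mem_torusD m hK g₀ c hc)

theorem quarter_odd (m : ℕ) (hm : 1 ≤ m) :
    ∃ k₀ : ℕ, Odd k₀ ∧ 1 < k₀ ∧ 3 ^ (2 * m + 1) + 1 = 4 * k₀ := by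
  obtain ⟨j, hj⟩ := three_pow_odd_eq m
  refine ⟨2 * j + 1, ⟨j, rfl⟩, ?_, by rw [hj]; ring⟩
  have : 27 ≤ 3 ^ (2 * m + 1) := by
    calc 27 = 3 ^ 3 := by norm_num
      _ ≤ 3 ^ (2 * m + 1) := Nat.pow_le_pow_right (by norm_num) (by omega)
  omega

/-- an element of odd order in the torus of `SL₂(K)` -/
theorem exists_odd_mem_torus (m : ℕ) (hm : 1 ≤ m) (g₀ : SpecialLinearGroup (Fin 2) K)
    (hg₀ : orderOf g₀ = 3 ^ (2 * m + 1) + 1) :
    ∃ c ∈ Subgroup.zpowers g₀, Odd (orderOf c) ∧ 1 < orderOf c ∧ 4 * orderOf c = 3 ^ (2 * m + 1) + 1 := by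
  obtain ⟨k₀, hk₀, hk1, hq⟩ := quarter_odd m hm
  refine ⟨g₀ ^ 4, Subgroup.pow_mem _ (Subgroup.mem_zpowers g₀) 4, ?_⟩
  have h : orderOf (g₀ ^ 4) = k₀ := by
    rw [orderOf_pow_of_dvd (by norm_num) (by rw [hg₀, hq]; exact dvd_mul_right 4 k₀), hg₀, hq]
    omega
  rw [h]
  exact ⟨hk₀, hk1, hq.symm⟩

/-- the order of the nonsplit torus -/
theorem card_torusD (m : ℕ) (hm : 1 ≤ m) (hK : Fintype.card K = 3 ^ (2 * m + 1))
    (g₀ : SpecialLinearGroup (Fin 2) K) (hg₀ : orderOf g₀ = 3 ^ (2 * m + 1) + 1) :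
    Nat.card ↥(torusD m hK g₀) = 3 ^ (2 * m + 1) + 1 := by
  obtain ⟨c, hc, hodd, h1, h4⟩ := exists_odd_mem_torus m hm g₀ hg₀
  rw [← torusD_eq_inf m hK g₀ hg₀ c hc hodd h1]
  exact card_centralizer_zG_psiR m hK c hodd h1 ⟨4, by rw [← h4]; ring⟩

/-- the involution of the torus inside the image of `SL₂(K)` -/
noncomputable def tD (m : ℕ) (g₀ : SpecialLinearGroup (Fin 2) K) : ↥(tG2 K (3 ^ m)) :=
  psiR m (g₀ ^ ((3 ^ (2 * m + 1) + 1) / 4))

theorem torus_pow_quarter_sq (m : ℕ) (hm : 1 ≤ m) (g₀ : SpecialLinearGroup (Fin 2) K)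
    (hg₀ : orderOf g₀ = 3 ^ (2 * m + 1) + 1) :
    g₀ ^ ((3 ^ (2 * m + 1) + 1) / 4) * g₀ ^ ((3 ^ (2 * m + 1) + 1) / 4) = wE * wE := by
  obtain ⟨k₀, hk₀, hk1, hq⟩ := quarter_odd m hm
  have hk : (3 ^ (2 * m + 1) + 1) / 4 = k₀ := by omega
  rw [hk, ← pow_add]
  have h2 : g₀ ^ (k₀ + k₀) * g₀ ^ (k₀ + k₀) = 1 := by
    rw [← pow_add]
    have : k₀ + k₀ + (k₀ + k₀) = orderOf g₀ := by rw [hg₀, hq]; ring
    rw [this, pow_orderOf_eq_one]
  rcases Cfsg.Agent.Lib.Helper5.eq_one_or_negOne_of_mul_self two_ne_zero_three' _ h2 with h | h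
  · exfalso
    have hd := orderOf_dvd_of_pow_eq_one h
    rw [hg₀, hq] at hd
    have := Nat.le_of_dvd (by omega) hd
    omega
  · rw [h, negE_eq]

theorem tD_mem_torusD (m : ℕ) (hK : Fintype.card K = 3 ^ (2 * m + 1)) (g₀ : SpecialLinearGroup (Fin 2) K) :
    tD m g₀ ∈ torusD m hK g₀ :=
  psiR_mem_torusD m hK g₀ _ (Subgroup.pow_mem _ (Subgroup.mem_zpowers g₀) _)

theorem tD_sq (m : ℕ) (hm : 1 ≤ m) (g₀ : SpecialLinearGroup (Fin 2) K)
    (hg₀ : orderOf g₀ = 3 ^ (2 * m + 1) + 1) : tD m g₀ * tD m g₀ = 1 := by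
  unfold tD
  rw [← map_mul, torus_pow_quarter_sq m hm g₀ hg₀, psiR_wE_sq]

theorem tD_ne_one (m : ℕ) (hm : 1 ≤ m) (g₀ : SpecialLinearGroup (Fin 2) K)
    (hg₀ : orderOf g₀ = 3 ^ (2 * m + 1) + 1) : tD m g₀ ≠ 1 := by
  unfold tD
  intro h
  have h1 : psiR m (g₀ ^ ((3 ^ (2 * m + 1) + 1) / 4)) = psiR m 1 := by rw [h, map_one]
  have hsq := torus_pow_quarter_sq m hm g₀ hg₀
  rcases psiR_eq_iff m _ _ h1 with h2 | h2
  · rw [h2, one_mul] at hsq
    exact negE_ne_one hsq.symm
  · rw [h2, mul_one, wE_sq_sq] at hsq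
    exact negE_ne_one hsq.symm

theorem zG_ne_tD (m : ℕ) (hK : Fintype.card K = 3 ^ (2 * m + 1)) (g₀ : SpecialLinearGroup (Fin 2) K) :
    zG m hK ≠ tD m g₀ := by
  intro h
  exact zG_not_mem_range m hK ⟨_, h.symm⟩

/-- the elements of exponent two of the nonsplit torus -/
theorem involution_torusD (m : ℕ) (hm : 1 ≤ m) (hK : Fintype.card K = 3 ^ (2 * m + 1))
    (g₀ : SpecialLinearGroup (Fin 2) K) (hg₀ : orderOf g₀ = 3 ^ (2 * m + 1) + 1)
    (x : ↥(tG2 K (3 ^ m))) (hx : x ∈ torusD m hK g₀) (hx2 : x * x = 1) :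
    x = 1 ∨ x = zG m hK ∨ x = tD m g₀ ∨ x = zG m hK * tD m g₀ := by
  obtain ⟨X, hX, hxX⟩ := hx
  set T₀ := g₀ ^ ((3 ^ (2 * m + 1) + 1) / 4) with hT₀
  have hT₀mem : T₀ ∈ Subgroup.zpowers g₀ := Subgroup.pow_mem _ (Subgroup.mem_zpowers g₀) _
  have hTsq : T₀ * T₀ = wE * wE := torus_pow_quarter_sq m hm g₀ hg₀
  -- the square of the image of `X` is trivial
  have hXsq : psiR m (X * X) = 1 := by
    rw [map_mul]
    rcases hxX with rfl | rfl
    · exact hx2
    · have hc := zG_comm_psiR m hK X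
      have : zG m hK * psiR m X * (zG m hK * psiR m X) =
          (zG m hK * zG m hK) * (psiR m X * psiR m X) := by
        calc zG m hK * psiR m X * (zG m hK * psiR m X)
            = zG m hK * (psiR m X * zG m hK) * psiR m X := by group
          _ = zG m hK * (zG m hK * psiR m X) * psiR m X := by rw [hc]
          _ = _ := by group
      rw [this, zG_sq, one_mul] at hx2
      exact hx2
  -- the image of `X` is trivial or the involution
  have hcases : psiR m X = 1 ∨ psiR m X = tD m g₀ := by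
    have h1 : psiR m (X * X) = psiR m 1 := by rw [hXsq, map_one]
    rcases psiR_eq_iff m _ _ h1 with h2 | h2
    · left
      rcases Cfsg.Agent.Lib.Helper5.eq_one_or_negOne_of_mul_self two_ne_zero_three' X h2 with h | h
      · rw [h, map_one]
      · rw [h, ← negE_eq, psiR_wE_sq]
    · right
      rw [mul_one] at h2
      -- `X T₀⁻¹` has square one
      have hcomm : X * T₀⁻¹ = T₀⁻¹ * X :=
        zpowers_comm g₀ X T₀⁻¹ hX (Subgroup.inv_mem _ hT₀mem)
      have h3 : (X * T₀⁻¹) * (X * T₀⁻¹) = 1 := by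
        calc (X * T₀⁻¹) * (X * T₀⁻¹) = X * (T₀⁻¹ * X) * T₀⁻¹ := by group
          _ = X * (X * T₀⁻¹) * T₀⁻¹ := by rw [hcomm]
          _ = (X * X) * (T₀ * T₀)⁻¹ := by group
          _ = 1 := by rw [h2, hTsq]; group
      unfold tD
      rw [← hT₀]
      rcases Cfsg.Agent.Lib.Helper5.eq_one_or_negOne_of_mul_self two_ne_zero_three' _ h3 with h | h
      · have : X = T₀ := by
          calc X = (X * T₀⁻¹) * T₀ := by group
            _ = T₀ := by rw [h, one_mul]
        rw [this]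
      · have : X = wE * wE * T₀ := by
          calc X = (X * T₀⁻¹) * T₀ := by group
            _ = wE * wE * T₀ := by rw [h, negE_eq]
        rw [this, psiR_neg]
  rcases hxX with rfl | rfl <;> rcases hcases with h | h
  · left; exact h
  · right; right; left; exact h
  · right; left; rw [h, mul_one]
  · right; right; right; rw [h]

/-- the centralizer of an element of odd order of the nonsplit torus -/
theorem centralizer_torusD (m : ℕ) (hm : 1 ≤ m) (hK : Fintype.card K = 3 ^ (2 * m + 1))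
    (g₀ : SpecialLinearGroup (Fin 2) K) (hg₀ : orderOf g₀ = 3 ^ (2 * m + 1) + 1)
    (c : SpecialLinearGroup (Fin 2) K) (hc : c ∈ Subgroup.zpowers g₀)
    (hodd : Odd (orderOf c)) (h1 : 1 < orderOf c) :
    Subgroup.centralizer {psiR m c} = torusD m hK g₀ := by
  set y := psiR m c with hy
  have hyo : orderOf y = orderOf c := orderOf_psiR_of_odd m c hodd
  have hdvd : orderOf y ∣ 3 ^ (2 * m + 1) + 1 := by
    rw [hyo, ← hg₀]
    exact orderOf_dvd_of_mem_zpowers hc
  have hyD : y ∈ torusD m hK g₀ := psiR_mem_torusD m hK g₀ c hc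
  have hcomm := torusD_comm m hK g₀
  have hDC : torusD m hK g₀ ≤ Subgroup.centralizer {y} := by
    intro g hg
    rw [Subgroup.mem_centralizer_singleton_iff]
    exact hcomm g y hg hyD
  have hz := zG_mem_torusD m hK g₀
  have ht := tD_mem_torusD m hK g₀
  have hzt2 : (zG m hK * tD m g₀) * (zG m hK * tD m g₀) = 1 := by
    have hc' := hcomm _ _ hz ht
    calc (zG m hK * tD m g₀) * (zG m hK * tD m g₀)
        = zG m hK * (tD m g₀ * zG m hK) * tD m g₀ := by group
      _ = zG m hK * (zG m hK * tD m g₀) * tD m g₀ := by rw [hc']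
      _ = (zG m hK * zG m hK) * (tD m g₀ * tD m g₀) := by group
      _ = 1 := by rw [zG_sq, tD_sq m hm g₀ hg₀, one_mul]
  have hzt1 : zG m hK * tD m g₀ ≠ 1 := by
    intro h
    apply zG_ne_tD m hK g₀
    calc zG m hK = zG m hK * (tD m g₀ * tD m g₀) := by rw [tD_sq m hm g₀ hg₀, mul_one]
      _ = (zG m hK * tD m g₀) * tD m g₀ := by group
      _ = tD m g₀ := by rw [h, one_mul]
  apply eq_of_four_involutions (Subgroup.centralizer {y}) (torusD m hK g₀) (zG m hK) (tD m g₀) hDC
    hz ht (zG_sq m hK) (tD_sq m hm g₀ hg₀) (zG_ne_one m hK) (tD_ne_one m hm g₀ hg₀) (zG_ne_tD m hK g₀)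
    (fun a ha b hb => hcomm a b ha hb) (involution_torusD m hm hK g₀ hg₀)
  · -- the centralizers of the involutions
    intro w hw g hg hgw
    have hwD : w ∈ torusD m hK g₀ := by
      rcases hw with rfl | rfl | rfl
      · exact hz
      · exact ht
      · exact Subgroup.mul_mem _ hz ht
    have hw2 : w * w = 1 := by
      rcases hw with rfl | rfl | rfl
      · exact zG_sq m hK
      · exact tD_sq m hm g₀ hg₀
      · exact hzt2
    have hw1 : w ≠ 1 := by
      rcases hw with rfl | rfl | rfl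
      · exact zG_ne_one m hK
      · exact tD_ne_one m hm g₀ hg₀
      · exact hzt1
    have hcard := card_centralizer_inv_odd m hm hK w y hw2 hw1 (hcomm w y hwD hyD)
      (by rw [hyo]; exact hodd) (by rw [hyo]; exact h1) hdvd
    have hle : torusD m hK g₀ ≤ Subgroup.centralizer {w} ⊓ Subgroup.centralizer {y} := by
      intro x hx
      refine Subgroup.mem_inf.mpr ⟨?_, hDC hx⟩
      rw [Subgroup.mem_centralizer_singleton_iff]
      exact hcomm x w hx hwD
    have heq : torusD m hK g₀ = Subgroup.centralizer {w} ⊓ Subgroup.centralizer {y} := by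
      apply Subgroup.eq_of_le_of_card_ge hle
      rw [hcard, card_torusD m hm hK g₀ hg₀]
    rw [heq]
    refine Subgroup.mem_inf.mpr ⟨?_, hg⟩
    rw [Subgroup.mem_centralizer_singleton_iff]
    exact hgw
  · -- the `3`-elements
    intro g hg k hgk
    by_contra hg1
    rw [Subgroup.mem_centralizer_singleton_iff] at hg
    have hd := orderOf_dvd_of_comm_three m hK g y hg1 k hgk hg
    -- the order of `y` is prime to the order of the Borel subgroup
    set q := 3 ^ (2 * m + 1) with hq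
    have hqpos : 1 < q := Nat.one_lt_pow (by omega) (by norm_num)
    have hyodd : Odd (orderOf y) := by rw [hyo]; exact hodd
    have hcop1 : Nat.Coprime (orderOf y) q := by
      apply Nat.Coprime.coprime_dvd_left hdvd
      rw [Nat.coprime_comm]
      have : Nat.Coprime q (1 + q) := (Nat.coprime_add_self_right).mpr (Nat.coprime_one_right q)
      rwa [add_comm] at this
    have hcop2 : Nat.Coprime (orderOf y) (q - 1) := by
      have h2 : Nat.Coprime (orderOf y) 2 := Nat.Coprime.symm (Nat.coprime_two_left.mpr hyodd)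
      have hg2 : Nat.gcd (orderOf y) (q - 1) ∣ 2 := by
        have d1 : Nat.gcd (orderOf y) (q - 1) ∣ q + 1 := dvd_trans (Nat.gcd_dvd_left _ _) hdvd
        have d2 : Nat.gcd (orderOf y) (q - 1) ∣ q - 1 := Nat.gcd_dvd_right _ _
        have e : q + 1 = (q - 1) + 2 := by omega
        rw [e] at d1
        exact (Nat.dvd_add_right d2).mp d1
      have hg3 : Nat.gcd (orderOf y) (q - 1) ∣ orderOf y := Nat.gcd_dvd_left _ _
      have : Nat.gcd (orderOf y) (q - 1) ∣ Nat.gcd (orderOf y) 2 := Nat.dvd_gcd hg3 hg2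
      rw [h2] at this
      exact Nat.eq_one_of_dvd_one this
    have hcop : Nat.Coprime (orderOf y) (q ^ 3 * (q - 1)) :=
      Nat.Coprime.mul_right (Nat.Coprime.pow_right 3 hcop1) hcop2
    have : orderOf y = 1 := Nat.Coprime.eq_one_of_dvd hcop hd
    rw [hyo] at this
    omega

end

end Cfsg.Agent.Lib.Helper3.Ree
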