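import Mathlib
import Cfsg.Agent.Lib.Helper3.Ree48
set_option autoImplicit false
set_option linter.unusedSectionVars false
set_option linter.style.haveILetI false
set_option linter.unusedSimpArgs false
open Cfsg Cfsg.Lie

/-!
Centralizers of cyclic subgroups of order `(q - 1) / 2` and `(q + 1) / 4` of the twisted group of
type `G₂`.
-/

namespace Cfsg.Agent.Lib.Helper3.Ree

open Cfsg.Agent.Lib.Helper3.ChevM Cfsg.Agent.Lib.Helper3.SL2P
open Matrix

section abstract
variable {G : Type*} [Group G]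

theorem conj_ne_one (g b : G) (hb : b ≠ 1) : g * b * g⁻¹ ≠ 1 := by
  intro h
  apply hb
  calc b = g⁻¹ * (g * b * g⁻¹) * g := by group
    _ = 1 := by rw [h]; group

theorem orderOf_conj' (g b : G) : orderOf (g * b * g⁻¹) = orderOf b := by
  have := orderOf_injective (MulAut.conj g).toMonoidHom (MulAut.conj g).injective b
  simpa [MulAut.conj_apply] using this

/-- the centralizers of the nontrivial subgroups of an abelian subgroup conjugate into an abelian
subgroup `T` in which the good elements have centralizer `T` -/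
theorem centralizer_eq_map_conj (T H : Subgroup G) (P : G → Prop)
    (hT : ∀ a ∈ T, ∀ b ∈ T, a * b = b * a)
    (hP : ∀ a ∈ T, P a → Subgroup.centralizer {a} = T)
    (hH : ∀ a ∈ H, ∀ b ∈ H, a * b = b * a)
    (g x : G) (hx : x ∈ H) (hgx : g * x * g⁻¹ ∈ T) (hPx : P (g * x * g⁻¹))
    (hPall : ∀ b ∈ H, b ≠ 1 → g * b * g⁻¹ ∈ T → P (g * b * g⁻¹))
    (A : Subgroup G) (hA : A ≤ H) (hA1 : A ≠ ⊥) :
    Subgroup.centralizer (A : Set G) = T.map (MulAut.conj g⁻¹).toMonoidHom := by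
  have hconj : ∀ a b : G, a * b = b * a → (g * a * g⁻¹) * (g * b * g⁻¹) = (g * b * g⁻¹) * (g * a * g⁻¹) := by
    intro a b h
    calc (g * a * g⁻¹) * (g * b * g⁻¹) = g * (a * b) * g⁻¹ := by group
      _ = g * (b * a) * g⁻¹ := by rw [h]
      _ = _ := by group
  have hHT : ∀ y ∈ H, g * y * g⁻¹ ∈ T := by
    intro y hy
    rw [← hP _ hgx hPx, Subgroup.mem_centralizer_singleton_iff]
    exact hconj y x (hH y hy x hx)
  obtain ⟨b, hbA, hb1⟩ : ∃ b ∈ A, b ≠ 1 := by
    obtain ⟨a, ha⟩ := Subgroup.ne_bot_iff_exists_ne_one.mp hA1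
    exact ⟨(a : G), a.2, fun h => ha (Subtype.ext h)⟩
  have hbT := hHT b (hA hbA)
  have hPb := hPall b (hA hbA) hb1 hbT
  have hmem : ∀ y : G, y ∈ T.map (MulAut.conj g⁻¹).toMonoidHom ↔ g * y * g⁻¹ ∈ T := by
    intro y
    rw [Subgroup.mem_map]
    constructor
    · rintro ⟨t, ht, rfl⟩
      have : g * ((MulAut.conj g⁻¹).toMonoidHom t) * g⁻¹ = t := by
        show g * ((MulAut.conj g⁻¹) t) * g⁻¹ = t
        rw [MulAut.conj_apply]; group
      rw [this]; exact ht
    · intro h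
      refine ⟨g * y * g⁻¹, h, ?_⟩
      show (MulAut.conj g⁻¹) (g * y * g⁻¹) = y
      rw [MulAut.conj_apply]; group
  ext y
  rw [hmem]
  constructor
  · intro hy
    rw [← hP _ hbT hPb, Subgroup.mem_centralizer_singleton_iff]
    apply hconj
    exact ((Subgroup.mem_centralizer_iff.mp hy) b hbA).symm
  · intro hy
    rw [Subgroup.mem_centralizer_iff]
    intro a ha
    have h1 := hT _ (hHT a (hA ha)) _ hy
    calc a * y = g⁻¹ * ((g * a * g⁻¹) * (g * y * g⁻¹)) * g := by group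
      _ = g⁻¹ * ((g * y * g⁻¹) * (g * a * g⁻¹)) * g := by rw [h1]
      _ = y * a := by group

end abstract

section
variable {K : Type*} [Field K] [Fintype K] [CharP K 3]

theorem index_torusSplit (m : ℕ) (hK : Fintype.card K = 3 ^ (2 * m + 1)) :
    (torusSplit (K := K) m).index = (3 ^ (2 * m + 1)) ^ 3 * ((3 ^ (2 * m + 1)) ^ 3 + 1) := by
  have hc := Subgroup.card_mul_index (torusSplit (K := K) m)
  rw [card_torusSplit m hK, card_tG2 m hK] at hc
  set q := 3 ^ (2 * m + 1) with hq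
  have hq1 : 1 < q := Nat.one_lt_pow (by omega) (by norm_num)
  have hpos : 0 < q - 1 := by omega
  apply Nat.eq_of_mul_eq_mul_left hpos
  rw [hc]; ring

theorem index_torusD (m : ℕ) (hm : 1 ≤ m) (hK : Fintype.card K = 3 ^ (2 * m + 1))
    (g₀ : SpecialLinearGroup (Fin 2) K) (hg₀ : orderOf g₀ = 3 ^ (2 * m + 1) + 1) :
    (torusD m hK g₀).index = (3 ^ (2 * m + 1)) ^ 3 * (3 ^ (2 * m + 1) - 1) *
      ((3 ^ (2 * m + 1)) ^ 2 - 3 ^ (2 * m + 1) + 1) := by
  have hc := Subgroup.card_mul_index (torusD m hK g₀)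
  rw [card_torusD m hm hK g₀ hg₀, card_tG2 m hK] at hc
  set q := 3 ^ (2 * m + 1) with hq
  have hq1 : 1 < q := Nat.one_lt_pow (by omega) (by norm_num)
  apply Nat.eq_of_mul_eq_mul_left (show 0 < q + 1 by omega)
  rw [hc, nt_cube_factor q hq1.le]; ring

/-- the centralizer of an element of odd order of the nonsplit torus -/
theorem centralizer_of_mem_torusD (m : ℕ) (hm : 1 ≤ m) (hK : Fintype.card K = 3 ^ (2 * m + 1))
    (g₀ : SpecialLinearGroup (Fin 2) K) (hg₀ : orderOf g₀ = 3 ^ (2 * m + 1) + 1)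
    (a : ↥(tG2 K (3 ^ m))) (ha : a ∈ torusD m hK g₀) (hodd : Odd (orderOf a)) (h1 : 1 < orderOf a) :
    Subgroup.centralizer {a} = torusD m hK g₀ := by
  obtain ⟨X, hX, haX⟩ := ha
  set k := orderOf a with hk
  have hnegmem : wE * wE ∈ Subgroup.zpowers g₀ := by
    rw [← torus_pow_quarter_sq m hm g₀ hg₀]
    exact Subgroup.mul_mem _ (Subgroup.pow_mem _ (Subgroup.mem_zpowers g₀) _)
      (Subgroup.pow_mem _ (Subgroup.mem_zpowers g₀) _)
  have key : ∀ c : SpecialLinearGroup (Fin 2) K, psiR m c = a → c ^ k = 1 → orderOf c = k := by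
    intro c hc hck
    apply Nat.dvd_antisymm (orderOf_dvd_of_pow_eq_one hck)
    rw [hk, ← hc]
    apply orderOf_dvd_of_pow_eq_one
    rw [← map_pow, pow_orderOf_eq_one, map_one]
  obtain ⟨c, hc, hca, hco⟩ : ∃ c ∈ Subgroup.zpowers g₀, psiR m c = a ∧ orderOf c = k := by
    rcases haX with hA | hA
    · have h2 : psiR m (X ^ k) = psiR m 1 := by
        rw [map_pow, ← hA, map_one, hk, pow_orderOf_eq_one]
      rcases psiR_eq_iff m _ _ h2 with h3 | h3
      · exact ⟨X, hX, hA.symm, key X hA.symm h3⟩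
      · rw [mul_one] at h3
        refine ⟨wE * wE * X, Subgroup.mul_mem _ hnegmem hX, ?_, ?_⟩
        · rw [psiR_neg, hA]
        · apply key
          · rw [psiR_neg, hA]
          · rw [mul_negE_pow_odd _ k hodd, h3, wE_sq_sq]
    · exfalso
      have h2 : a ^ k = 1 := pow_orderOf_eq_one a
      have hcm : Commute (zG m hK) (psiR m X) := zG_comm_psiR m hK X
      rw [hA, hcm.mul_pow] at h2
      have h3 : zG m hK ^ k = zG m hK := by
        obtain ⟨j, hj⟩ := hodd
        rw [hj, pow_succ, pow_mul, pow_two, zG_sq, one_pow, one_mul]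
      rw [h3, ← map_pow] at h2
      apply zG_not_mem_range m hK
      refine ⟨(X ^ k)⁻¹, ?_⟩
      rw [map_inv]
      exact (eq_inv_of_mul_eq_one_left h2).symm
  rw [← hca]
  exact centralizer_torusD m hm hK g₀ hg₀ c hc (by rw [hco]; exact hodd) (by rw [hco]; exact h1)

/-- the elements of the nonsplit torus have order dividing `(q + 1) / 2` -/
theorem pow_half_torusD (m : ℕ) (hm : 1 ≤ m) (hK : Fintype.card K = 3 ^ (2 * m + 1))
    (g₀ : SpecialLinearGroup (Fin 2) K) (hg₀ : orderOf g₀ = 3 ^ (2 * m + 1) + 1)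
    (a : ↥(tG2 K (3 ^ m))) (ha : a ∈ torusD m hK g₀) : a ^ ((3 ^ (2 * m + 1) + 1) / 2) = 1 := by
  obtain ⟨k₀, hk₀, hk1, hq⟩ := quarter_odd m hm
  have he : (3 ^ (2 * m + 1) + 1) / 2 = 2 * k₀ := by omega
  rw [he]
  obtain ⟨X, hX, haX⟩ := ha
  have hXe : psiR m X ^ (2 * k₀) = 1 := by
    rw [← map_pow]
    have h2 : X ^ (2 * k₀) * X ^ (2 * k₀) = 1 := by
      rw [← pow_add]
      have : 2 * k₀ + 2 * k₀ = orderOf g₀ := by rw [hg₀, hq]; ring
      rw [this]
      obtain ⟨j, rfl⟩ := Subgroup.mem_zpowers_iff.mp hX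
      rw [← zpow_natCast, ← _root_.zpow_mul, mul_comm, _root_.zpow_mul, zpow_natCast, pow_orderOf_eq_one, _root_.one_zpow]
    rcases Cfsg.Agent.Lib.Helper5.eq_one_or_negOne_of_mul_self two_ne_zero_three' _ h2 with h | h
    · rw [h, map_one]
    · rw [h, ← negE_eq, psiR_wE_sq]
  rcases haX with rfl | rfl
  · exact hXe
  · have hcm : Commute (zG m hK) (psiR m X) := zG_comm_psiR m hK X
    rw [hcm.mul_pow, hXe, mul_one, pow_mul, pow_two, zG_sq, one_pow]

theorem orderOf_ne_four_torusD (m : ℕ) (hm : 1 ≤ m) (hK : Fintype.card K = 3 ^ (2 * m + 1))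
    (g₀ : SpecialLinearGroup (Fin 2) K) (hg₀ : orderOf g₀ = 3 ^ (2 * m + 1) + 1)
    (a : ↥(tG2 K (3 ^ m))) (ha : a ∈ torusD m hK g₀) : orderOf a ≠ 4 := by
  intro h4
  obtain ⟨k₀, hk₀, hk1, hq⟩ := quarter_odd m hm
  have he : (3 ^ (2 * m + 1) + 1) / 2 = 2 * k₀ := by omega
  have hd := orderOf_dvd_of_pow_eq_one (pow_half_torusD m hm hK g₀ hg₀ a ha)
  rw [h4, he] at hd
  obtain ⟨j, hj⟩ := hd
  obtain ⟨i, hi⟩ := hk₀
  omega

end

end Cfsg.Agent.Lib.Helper3.Ree
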