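import Mathlib
import Cfsg.Agent.Lib.Helper3.Ree49
set_option autoImplicit false
set_option linter.unusedSectionVars false
set_option linter.style.haveILetI false
set_option linter.unusedSimpArgs false
open Cfsg Cfsg.Lie

/-!
Cyclic subgroups of order `(q - 1) / 2` and `(q + 1) / 4` of the twisted group of type `G₂` are
conjugate into the split torus and the nonsplit torus.
-/

namespace Cfsg.Agent.Lib.Helper3.Ree

open Cfsg.Agent.Lib.Helper3.ChevM Cfsg.Agent.Lib.Helper3.SL2P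
open Matrix

section abstract
variable {G : Type*} [Group G]

theorem sq_ne_one_of_odd (a : G) (hodd : Odd (orderOf a)) (h1 : a ≠ 1) : a * a ≠ 1 := by
  intro h
  have hd : orderOf a ∣ 2 := orderOf_dvd_of_pow_eq_one (by rw [pow_two]; exact h)
  have hcop : Nat.Coprime (orderOf a) 2 := Nat.Coprime.symm (Nat.coprime_two_left.mpr hodd)
  have : orderOf a ∣ 1 := hcop.dvd_of_dvd_mul_left (show orderOf a ∣ 2 * 1 from hd)
  exact h1 (orderOf_eq_one_iff.mp (Nat.eq_one_of_dvd_one this))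

theorem cyclic_comm (H : Subgroup G) (hH : IsCyclic H) (a b : G) (ha : a ∈ H) (hb : b ∈ H) :
    a * b = b * a := by
  obtain ⟨gen, hgen⟩ := hH.exists_generator
  obtain ⟨i, hi⟩ := Subgroup.mem_zpowers_iff.mp (hgen ⟨a, ha⟩)
  obtain ⟨j, hj⟩ := Subgroup.mem_zpowers_iff.mp (hgen ⟨b, hb⟩)
  have h : (⟨a, ha⟩ : ↥H) * ⟨b, hb⟩ = ⟨b, hb⟩ * ⟨a, ha⟩ := by
    rw [← hi, ← hj, ← _root_.zpow_add, ← _root_.zpow_add, add_comm]
  exact congrArg Subtype.val h

/-- an element of prime order `p` of a subgroup whose order is divisible by `p` -/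
theorem exists_mem_orderOf_eq_prime [Finite G] (H : Subgroup G) (p : ℕ) [hp : Fact p.Prime]
    (hd : p ∣ Nat.card H) : ∃ x ∈ H, orderOf x = p := by
  obtain ⟨x, hx⟩ := exists_prime_orderOf_dvd_card' p hd
  exact ⟨(x : G), x.2, by rw [Subgroup.orderOf_coe]; exact hx⟩

theorem orderOf_dvd_card_of_mem [Finite G] (H : Subgroup G) (b : G) (hb : b ∈ H) :
    orderOf b ∣ Nat.card H := by
  have h4 : orderOf (⟨b, hb⟩ : ↥H) = orderOf b := Subgroup.orderOf_mk _ _
  rw [← h4]
  exact orderOf_dvd_natCard _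

end abstract

section
variable {K : Type*} [Field K] [Fintype K] [CharP K 3]

/-- cyclic subgroups of order `(q - 1) / 2`: the centralizers of the nontrivial subgroups are a
common conjugate of the split torus -/
theorem centralizer_cyclic_split (m : ℕ) (hm : 1 ≤ m) (hK : Fintype.card K = 3 ^ (2 * m + 1))
    (H : Subgroup ↥(tG2 K (3 ^ m))) (hH : IsCyclic H) (hcard : Nat.card H = (3 ^ (2 * m + 1) - 1) / 2) :
    ∃ g : ↥(tG2 K (3 ^ m)), ∀ A : Subgroup ↥(tG2 K (3 ^ m)), A ≤ H → A ≠ ⊥ →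
      Subgroup.centralizer (A : Set ↥(tG2 K (3 ^ m))) =
        (torusSplit (K := K) m).map (MulAut.conj g⁻¹).toMonoidHom := by
  obtain ⟨hodd, hq2⟩ := half_odd m
  set q := 3 ^ (2 * m + 1) with hq
  set k₁ := (q - 1) / 2 with hk₁
  have hq27 : 27 ≤ q := by
    calc 27 = 3 ^ 3 := by norm_num
      _ ≤ 3 ^ (2 * m + 1) := Nat.pow_le_pow_right (by norm_num) (by omega)
  have hk1 : k₁ ≠ 1 := by omega
  set p := k₁.minFac with hp
  have hpp : p.Prime := Nat.minFac_prime hk1
  haveI : Fact p.Prime := ⟨hpp⟩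
  have hpk : p ∣ k₁ := Nat.minFac_dvd k₁
  have hpq : p ∣ q - 1 := by rw [hq2]; exact Dvd.dvd.mul_left hpk 2
  have hp2 : p ≠ 2 := by
    intro h
    rw [h] at hpk
    exact (Nat.not_even_iff_odd.mpr hodd) (even_iff_two_dvd.mpr hpk)
  have hp3' : p ≠ 3 := by
    intro h
    rw [h] at hpq
    have h3 : 3 ∣ q := dvd_pow_self 3 (by omega)
    have : 3 ∣ 1 := by
      have e : q = (q - 1) + 1 := by omega
      rw [e] at h3
      exact (Nat.dvd_add_right hpq).mp h3
    omega
  have hp3 : 3 < p := by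
    have := hpp.two_le
    omega
  obtain ⟨x, hxH, hxo⟩ := exists_mem_orderOf_eq_prime H p (by rw [hcard]; exact hpk)
  have hpg : IsPGroup p (Subgroup.zpowers x) := isPGroup_zpowers_of_orderOf p x 1 (by rw [pow_one]; exact hxo)
  have hidx : ¬ p ∣ (torusSplit (K := K) m).index := by
    rw [index_torusSplit m hK]
    intro hd
    rcases (Nat.Prime.dvd_mul hpp).mp hd with h | h
    · exact nt_pow_three p hp3 (2 * m + 1) (hpp.dvd_of_dvd_pow h)
    · exact nt_sub_cube p q hp3 (by omega) hpq h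
  obtain ⟨g, hg⟩ := exists_conj_mem_of_not_dvd_index p _ hidx x hpg
  have hoddH : ∀ b ∈ H, Odd (orderOf b) := by
    intro b hb
    have := orderOf_dvd_card_of_mem H b hb
    rw [hcard] at this
    exact Odd.of_dvd_nat hodd this
  refine ⟨g, fun A hA hA1 => ?_⟩
  apply centralizer_eq_map_conj (torusSplit (K := K) m) H (fun a => a * a ≠ 1)
    (fun a ha b hb => torusSplit_comm m hK a b ha hb)
    (fun a ha hPa => centralizer_torusSplit m hK a ha hPa)
    (fun a ha b hb => cyclic_comm H hH a b ha hb) g x hxH hg ?_ ?_ A hA hA1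
  · apply sq_ne_one_of_odd
    · rw [orderOf_conj']; exact hoddH x hxH
    · apply conj_ne_one
      intro h
      rw [h, orderOf_one] at hxo
      exact hpp.one_lt.ne hxo
  · intro b hb hb1 _
    apply sq_ne_one_of_odd
    · rw [orderOf_conj']; exact hoddH b hb
    · exact conj_ne_one g b hb1

/-- cyclic subgroups of order `(q + 1) / 4`: the centralizers of the nontrivial subgroups are a
common conjugate of the nonsplit torus -/
theorem centralizer_cyclic_nonsplit (m : ℕ) (hm : 1 ≤ m) (hK : Fintype.card K = 3 ^ (2 * m + 1))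
    (g₀ : SpecialLinearGroup (Fin 2) K) (hg₀ : orderOf g₀ = 3 ^ (2 * m + 1) + 1)
    (H : Subgroup ↥(tG2 K (3 ^ m))) (hH : IsCyclic H) (hcard : Nat.card H = (3 ^ (2 * m + 1) + 1) / 4) :
    ∃ g : ↥(tG2 K (3 ^ m)), ∀ A : Subgroup ↥(tG2 K (3 ^ m)), A ≤ H → A ≠ ⊥ →
      Subgroup.centralizer (A : Set ↥(tG2 K (3 ^ m))) =
        (torusD m hK g₀).map (MulAut.conj g⁻¹).toMonoidHom := by
  obtain ⟨k₀, hodd, hk1, hq4⟩ := quarter_odd m hm
  set q := 3 ^ (2 * m + 1) with hq
  have hk₀ : (q + 1) / 4 = k₀ := by omega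
  rw [hk₀] at hcard
  have hq27 : 27 ≤ q := by
    calc 27 = 3 ^ 3 := by norm_num
      _ ≤ 3 ^ (2 * m + 1) := Nat.pow_le_pow_right (by norm_num) (by omega)
  set p := k₀.minFac with hp
  have hpp : p.Prime := Nat.minFac_prime (by omega)
  haveI : Fact p.Prime := ⟨hpp⟩
  have hpk : p ∣ k₀ := Nat.minFac_dvd k₀
  have hpq : p ∣ q + 1 := by rw [hq4]; exact Dvd.dvd.mul_left hpk 4
  have hp2 : p ≠ 2 := by
    intro h
    rw [h] at hpk
    exact (Nat.not_even_iff_odd.mpr hodd) (even_iff_two_dvd.mpr hpk)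
  have hp3' : p ≠ 3 := by
    intro h
    rw [h] at hpq
    have h3 : 3 ∣ q := dvd_pow_self 3 (by omega)
    have : 3 ∣ 1 := (Nat.dvd_add_right h3).mp hpq
    omega
  have hp3 : 3 < p := by
    have := hpp.two_le
    omega
  obtain ⟨x, hxH, hxo⟩ := exists_mem_orderOf_eq_prime H p (by rw [hcard]; exact hpk)
  have hpg : IsPGroup p (Subgroup.zpowers x) := isPGroup_zpowers_of_orderOf p x 1 (by rw [pow_one]; exact hxo)
  have hidx : ¬ p ∣ (torusD m hK g₀).index := by
    rw [index_torusD m hm hK g₀ hg₀]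
    intro hd
    rcases (Nat.Prime.dvd_mul hpp).mp hd with h | h
    · rcases (Nat.Prime.dvd_mul hpp).mp h with h | h
      · exact nt_pow_three p hp3 (2 * m + 1) (hpp.dvd_of_dvd_pow h)
      · exact nt_sub_add p q hp3 (by omega) h hpq
    · exact nt_add_quad p q hp3 (by omega) hpq h
  obtain ⟨g, hg⟩ := exists_conj_mem_of_not_dvd_index p _ hidx x hpg
  have hoddH : ∀ b ∈ H, Odd (orderOf b) := by
    intro b hb
    have := orderOf_dvd_card_of_mem H b hb
    rw [hcard] at this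
    exact Odd.of_dvd_nat hodd this
  have hgt : ∀ b : ↥(tG2 K (3 ^ m)), b ≠ 1 → 1 < orderOf b := by
    intro b hb
    have h0 : 0 < orderOf b := orderOf_pos b
    have h1 : orderOf b ≠ 1 := fun h => hb (orderOf_eq_one_iff.mp h)
    omega
  refine ⟨g, fun A hA hA1 => ?_⟩
  apply centralizer_eq_map_conj (torusD m hK g₀) H (fun a => Odd (orderOf a) ∧ 1 < orderOf a)
    (fun a ha b hb => torusD_comm m hK g₀ a b ha hb)
    (fun a ha hPa => centralizer_of_mem_torusD m hm hK g₀ hg₀ a ha hPa.1 hPa.2)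
    (fun a ha b hb => cyclic_comm H hH a b ha hb) g x hxH hg ?_ ?_ A hA hA1
  · refine ⟨by rw [orderOf_conj']; exact hoddH x hxH, ?_⟩
    apply hgt
    apply conj_ne_one
    intro h
    rw [h, orderOf_one] at hxo
    exact hpp.one_lt.ne hxo
  · intro b hb hb1 _
    exact ⟨by rw [orderOf_conj']; exact hoddH b hb, hgt _ (conj_ne_one g b hb1)⟩

end

end Cfsg.Agent.Lib.Helper3.Ree
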