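import Mathlib
import Cfsg.Agent.Lib.Helper3.Ree50
set_option autoImplicit false
set_option linter.unusedSectionVars false
set_option linter.style.haveILetI false
set_option linter.unusedSimpArgs false
open Cfsg Cfsg.Lie

/-!
Centralizers of cyclic subgroups of order `(q - 1) / 2` and `(q + 1) / 4` of the twisted group of
type `G₂`: the final form.
-/

namespace Cfsg.Agent.Lib.Helper3.Ree

open Cfsg.Agent.Lib.Helper3.ChevM Cfsg.Agent.Lib.Helper3.SL2P
open Matrix

section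
variable {K : Type*} [Field K] [Fintype K] [CharP K 3]

theorem ree_centralizers_split_quarter (m : ℕ) (hm : 1 ≤ m)
    (hK : Fintype.card K = 3 ^ (2 * m + 1)) (H : Subgroup ↥(tG2 K (3 ^ m))) (hH : IsCyclic H) :
    (Nat.card H = (3 ^ (2 * m + 1) - 1) / 2 →
      IsCyclic ↥(Subgroup.centralizer (H : Set ↥(tG2 K (3 ^ m)))) ∧
        Nat.card ↥(Subgroup.centralizer (H : Set ↥(tG2 K (3 ^ m)))) = 3 ^ (2 * m + 1) - 1 ∧
        ∀ A : Subgroup ↥(tG2 K (3 ^ m)), A ≤ H → A ≠ ⊥ →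
          Subgroup.centralizer (A : Set ↥(tG2 K (3 ^ m))) = Subgroup.centralizer (H : Set ↥(tG2 K (3 ^ m)))) ∧
    (Nat.card H = (3 ^ (2 * m + 1) + 1) / 4 →
      IsMulCommutative ↥(Subgroup.centralizer (H : Set ↥(tG2 K (3 ^ m)))) ∧
        Nat.card ↥(Subgroup.centralizer (H : Set ↥(tG2 K (3 ^ m)))) = 3 ^ (2 * m + 1) + 1 ∧
        (∀ x ∈ Subgroup.centralizer (H : Set ↥(tG2 K (3 ^ m))), orderOf x ≠ 4) ∧
        ∀ A : Subgroup ↥(tG2 K (3 ^ m)), A ≤ H → A ≠ ⊥ →
          Subgroup.centralizer (A : Set ↥(tG2 K (3 ^ m))) = Subgroup.centralizer (H : Set ↥(tG2 K (3 ^ m)))) := by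
  classical
  haveI : Fact (Nat.Prime 3) := ⟨by norm_num⟩
  have hq27 : 27 ≤ 3 ^ (2 * m + 1) := by
    calc 27 = 3 ^ 3 := by norm_num
      _ ≤ 3 ^ (2 * m + 1) := Nat.pow_le_pow_right (by norm_num) (by omega)
  have hHbot : ∀ n : ℕ, 1 < n → Nat.card H = n → H ≠ ⊥ := by
    intro n hn hc h
    rw [h, Subgroup.card_bot] at hc
    omega
  constructor
  · intro hcard
    obtain ⟨g, hg⟩ := centralizer_cyclic_split (K := K) m hm hK H hH hcard
    have hH1 : H ≠ ⊥ := hHbot _ (by omega) hcard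
    have hCH := hg H le_rfl hH1
    have hinj : Function.Injective (MulAut.conj g⁻¹).toMonoidHom := (MulAut.conj g⁻¹).injective
    refine ⟨?_, ?_, ?_⟩
    · rw [hCH]
      haveI := torusSplit_cyclic (K := K) m hK
      have e := (torusSplit (K := K) m).equivMapOfInjective _ hinj
      exact isCyclic_of_surjective e e.surjective
    · rw [hCH, Subgroup.card_map_of_injective hinj, card_torusSplit m hK]
    · intro A hA hA1
      rw [hCH]
      exact hg A hA hA1
  · intro hcard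
    obtain ⟨g₀, hg₀⟩ := Cfsg.Agent.Lib.Helper5.exists_orderOf_eq_card_add_one (F := K) 3
    rw [hK] at hg₀
    obtain ⟨g, hg⟩ := centralizer_cyclic_nonsplit (K := K) m hm hK g₀ hg₀ H hH hcard
    have hH1 : H ≠ ⊥ := hHbot _ (by omega) hcard
    have hCH := hg H le_rfl hH1
    have hinj : Function.Injective (MulAut.conj g⁻¹).toMonoidHom := (MulAut.conj g⁻¹).injective
    refine ⟨?_, ?_, ?_, ?_⟩
    · rw [hCH]
      refine ⟨⟨?_⟩⟩
      rintro ⟨a, ha⟩ ⟨b, hb⟩
      apply Subtype.ext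
      obtain ⟨a', ha', rfl⟩ := Subgroup.mem_map.mp ha
      obtain ⟨b', hb', rfl⟩ := Subgroup.mem_map.mp hb
      show (MulAut.conj g⁻¹).toMonoidHom a' * (MulAut.conj g⁻¹).toMonoidHom b' =
        (MulAut.conj g⁻¹).toMonoidHom b' * (MulAut.conj g⁻¹).toMonoidHom a'
      rw [← map_mul, ← map_mul, torusD_comm m hK g₀ a' b' ha' hb']
    · rw [hCH, Subgroup.card_map_of_injective hinj, card_torusD m hm hK g₀ hg₀]
    · intro x hx
      rw [hCH] at hx
      obtain ⟨a', ha', rfl⟩ := Subgroup.mem_map.mp hx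
      rw [orderOf_injective _ hinj]
      exact orderOf_ne_four_torusD m hm hK g₀ hg₀ a' ha'
    · intro A hA hA1
      rw [hCH]
      exact hg A hA hA1

end

end Cfsg.Agent.Lib.Helper3.Ree
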