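import Mathlib
set_option autoImplicit false
set_option linter.unusedSectionVars false
set_option linter.style.haveILetI false
set_option linter.unusedSimpArgs false

/-!
Counting the union of the conjugates of a subset which is normalized by a subgroup `N` and which
meets its conjugates by elements outside `N` trivially.
-/

namespace Cfsg.Agent.Lib.Helper3.Ree

section
variable {G : Type*} [Group G]

/-- the union of the conjugates of a subset -/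
def conjUnion (S : Set G) : Set G := {y | ∃ g : G, g⁻¹ * y * g ∈ S}

theorem mem_conjUnion (S : Set G) (y : G) : y ∈ conjUnion S ↔ ∃ g : G, g⁻¹ * y * g ∈ S := Iff.rfl

theorem subset_conjUnion (S : Set G) : S ⊆ conjUnion S := by
  intro x hx
  exact ⟨1, by simpa using hx⟩

theorem conj_mem_conjUnion (S : Set G) (g y : G) (hy : y ∈ conjUnion S) : g * y * g⁻¹ ∈ conjUnion S := by
  obtain ⟨h, hh⟩ := hy
  refine ⟨g * h, ?_⟩
  have : (g * h)⁻¹ * (g * y * g⁻¹) * (g * h) = h⁻¹ * y * h := by group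
  rw [this]; exact hh

/-- the number of elements of the union of the conjugates of a trivial intersection set -/
theorem card_conjUnion [Finite G] (S : Set G) (N : Subgroup G)
    (hN : ∀ n ∈ N, ∀ x ∈ S, n * x * n⁻¹ ∈ S)
    (hS : ∀ g : G, ∀ x ∈ S, g * x * g⁻¹ ∈ S → g ∈ N) :
    Nat.card ↥(conjUnion S) * Nat.card ↥N = Nat.card G * Nat.card ↥S := by
  classical
  have hch : ∀ y : ↥(conjUnion S), ∃ g : G, g⁻¹ * (y : G) * g ∈ S := fun y => y.2
  choose g₀ hg₀ using hch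
  rw [← Nat.card_prod, ← Nat.card_prod]
  apply Nat.card_congr
  refine ⟨fun p => (g₀ p.1 * (p.2 : G), ⟨(g₀ p.1 * (p.2 : G))⁻¹ * (p.1 : G) * (g₀ p.1 * (p.2 : G)), ?_⟩),
    fun p => (⟨p.1 * (p.2 : G) * p.1⁻¹, ⟨p.1, ?_⟩⟩, ⟨(g₀ ⟨p.1 * (p.2 : G) * p.1⁻¹, ⟨p.1, ?_⟩⟩)⁻¹ * p.1, ?_⟩), ?_, ?_⟩
  · have h1 := hN (p.2 : G)⁻¹ (N.inv_mem p.2.2) _ (hg₀ p.1)
    have e : (p.2 : G)⁻¹ * ((g₀ p.1)⁻¹ * (p.1 : G) * g₀ p.1) * ((p.2 : G)⁻¹)⁻¹ =
        (g₀ p.1 * (p.2 : G))⁻¹ * (p.1 : G) * (g₀ p.1 * (p.2 : G)) := by group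
    rw [← e]; exact h1
  · have : p.1⁻¹ * (p.1 * (p.2 : G) * p.1⁻¹) * p.1 = (p.2 : G) := by group
    rw [this]; exact p.2.2
  · have : p.1⁻¹ * (p.1 * (p.2 : G) * p.1⁻¹) * p.1 = (p.2 : G) := by group
    rw [this]; exact p.2.2
  · set y : ↥(conjUnion S) := ⟨p.1 * (p.2 : G) * p.1⁻¹, ⟨p.1, by
      have : p.1⁻¹ * (p.1 * (p.2 : G) * p.1⁻¹) * p.1 = (p.2 : G) := by group
      rw [this]; exact p.2.2⟩⟩ with hy
    have h1 := hg₀ y
    apply hS _ (p.2 : G) p.2.2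
    have e : (g₀ y)⁻¹ * p.1 * (p.2 : G) * ((g₀ y)⁻¹ * p.1)⁻¹ = (g₀ y)⁻¹ * (y : G) * g₀ y := by
      rw [hy]; group
    rw [e]; exact h1
  · rintro ⟨y, n⟩
    apply Prod.ext
    · apply Subtype.ext
      show (g₀ y * (n : G)) * ((g₀ y * (n : G))⁻¹ * (y : G) * (g₀ y * (n : G))) * (g₀ y * (n : G))⁻¹ = y
      group
    · apply Subtype.ext
      have e : (⟨(g₀ y * (n : G)) * ((g₀ y * (n : G))⁻¹ * (y : G) * (g₀ y * (n : G))) * (g₀ y * (n : G))⁻¹,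
          ⟨g₀ y * (n : G), by
            have : (g₀ y * (n : G))⁻¹ * ((g₀ y * (n : G)) * ((g₀ y * (n : G))⁻¹ * (y : G) * (g₀ y * (n : G))) *
              (g₀ y * (n : G))⁻¹) * (g₀ y * (n : G)) = (g₀ y * (n : G))⁻¹ * (y : G) * (g₀ y * (n : G)) := by group
            rw [this]
            have h1 := hN (n : G)⁻¹ (N.inv_mem n.2) _ (hg₀ y)
            have e : (n : G)⁻¹ * ((g₀ y)⁻¹ * (y : G) * g₀ y) * ((n : G)⁻¹)⁻¹ =
                (g₀ y * (n : G))⁻¹ * (y : G) * (g₀ y * (n : G)) := by group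
            rw [← e]; exact h1⟩⟩ : ↥(conjUnion S)) = y := by
        apply Subtype.ext
        show (g₀ y * (n : G)) * ((g₀ y * (n : G))⁻¹ * (y : G) * (g₀ y * (n : G))) * (g₀ y * (n : G))⁻¹ = y
        group
      show (g₀ _)⁻¹ * (g₀ y * (n : G)) = n
      rw [e]; group
  · rintro ⟨g, x⟩
    apply Prod.ext
    · show g₀ _ * ((g₀ _)⁻¹ * g) = g
      group
    · apply Subtype.ext
      show (g₀ _ * ((g₀ _)⁻¹ * g))⁻¹ * (g * (x : G) * g⁻¹) * (g₀ _ * ((g₀ _)⁻¹ * g)) = x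
      group

end

end Cfsg.Agent.Lib.Helper3.Ree
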