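import Mathlib
import Cfsg.Agent.Lib.Helper3.Ree51
import Cfsg.Agent.Lib.Helper3.Ree52
set_option autoImplicit false
set_option linter.unusedSectionVars false
set_option linter.style.haveILetI false
set_option linter.unusedSimpArgs false
open Cfsg Cfsg.Lie

/-!
The structure of the Borel subgroup of the twisted group of type `G₂`: elements, conjugation into the
split torus, involutions.
-/

namespace Cfsg.Agent.Lib.Helper3.Ree

open Cfsg.Agent.Lib.Helper3.ChevM Cfsg.Agent.Lib.Helper3.SL2P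
open Matrix

section
variable {K : Type*} [Field K] [Fintype K] [CharP K 3]

theorem mem_uSub_iff (m : ℕ) (hK : Fintype.card K = 3 ^ (2 * m + 1)) (g : ↥(tG2 K (3 ^ m))) :
    g ∈ uSub K (3 ^ m) ↔ ∃ t u v : K, (g : GL cdG2.D.Idx K) = reeU (3 ^ m) t u v := by
  unfold uSub
  rw [Subgroup.mem_subgroupOf, mem_pos_inf_tG2 m hK]

/-- the unipotent elements as elements of the twisted group -/
def uG (m : ℕ) (t u v : K) : ↥(tG2 K (3 ^ m)) := ⟨reeU (3 ^ m) t u v, reeU_mem_tG2 _ t u v⟩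

theorem uG_mem (m : ℕ) (hK : Fintype.card K = 3 ^ (2 * m + 1)) (t u v : K) : uG m t u v ∈ uSub K (3 ^ m) :=
  (mem_uSub_iff m hK _).mpr ⟨t, u, v, rfl⟩

theorem mem_bSub_iff' (m : ℕ) (hK : Fintype.card K = 3 ^ (2 * m + 1)) (g : ↥(tG2 K (3 ^ m))) :
    g ∈ bSub K (3 ^ m) ↔ ∃ u ∈ uSub K (3 ^ m), ∃ a ∈ torusSplit (K := K) m, g = u * a := by
  unfold bSub
  rw [Subgroup.mem_subgroupOf, mem_bT_iff m hK]
  constructor
  · rintro ⟨t, u, v, s, hs, e⟩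
    refine ⟨uG m t u v, uG_mem m hK t u v, ⟨hRee (3 ^ m) s, hRee_mem_tG2 m hK s hs⟩,
      (mem_torusSplit_iff m hK _).mpr ⟨s, hs, rfl⟩, Subtype.ext e⟩
  · rintro ⟨u, hu, a, ha, rfl⟩
    obtain ⟨t, u', v, e⟩ := (mem_uSub_iff m hK u).mp hu
    obtain ⟨s, hs, e'⟩ := (mem_torusSplit_iff m hK a).mp ha
    exact ⟨t, u', v, s, hs, by show (u : GL cdG2.D.Idx K) * a = _; rw [e, e']⟩

theorem uSub_le_bSub (m : ℕ) (hK : Fintype.card K = 3 ^ (2 * m + 1)) : uSub K (3 ^ m) ≤ bSub K (3 ^ m) := by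
  intro u hu
  exact (mem_bSub_iff' m hK u).mpr ⟨u, hu, 1, Subgroup.one_mem _, (mul_one u).symm⟩

theorem torusSplit_le_bSub (m : ℕ) (hK : Fintype.card K = 3 ^ (2 * m + 1)) :
    torusSplit (K := K) m ≤ bSub K (3 ^ m) := by
  intro a ha
  exact (mem_bSub_iff' m hK a).mpr ⟨1, Subgroup.one_mem _, a, ha, (one_mul a).symm⟩

theorem uSub_inf_torusSplit (m : ℕ) (hK : Fintype.card K = 3 ^ (2 * m + 1)) :
    uSub K (3 ^ m) ⊓ torusSplit (K := K) m = ⊥ := by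
  have hθ : (3 : ℕ) ^ m ≠ 0 := three_pow_ne_zero m
  rw [eq_bot_iff]
  rintro g ⟨hu, ha⟩
  obtain ⟨t, u, v, e⟩ := (mem_uSub_iff m hK g).mp hu
  obtain ⟨s, hs, e'⟩ := (mem_torusSplit_iff m hK g).mp ha
  have h1 : reeU (3 ^ m) t u v * hRee (3 ^ m) (1 : K) = reeU (3 ^ m) 0 0 0 * hRee (3 ^ m) s := by
    rw [hRee_one, mul_one, reeU_zero _ hθ, one_mul, ← e, e']
  obtain ⟨rfl, rfl, rfl, -⟩ := form1_inj _ _ _ _ _ _ _ _ _ one_ne_zero hs h1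
  rw [Subgroup.mem_bot]
  apply Subtype.ext
  rw [e, reeU_zero _ hθ]
  rfl

theorem bSub_conj_uSub (m : ℕ) (hK : Fintype.card K = 3 ^ (2 * m + 1)) (b u : ↥(tG2 K (3 ^ m)))
    (hb : b ∈ bSub K (3 ^ m)) (hu : u ∈ uSub K (3 ^ m)) : b * u * b⁻¹ ∈ uSub K (3 ^ m) :=
  (Subgroup.mem_normalizer_iff.mp (bSub_le_normalizer_uSub m hK hb) u).mp hu

/-- a unipotent element commuting with an element of the split torus which is not an involution -/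
theorem comm_uSub_torus (m : ℕ) (hK : Fintype.card K = 3 ^ (2 * m + 1)) (a u : ↥(tG2 K (3 ^ m)))
    (ha : a ∈ torusSplit (K := K) m) (ha2 : a * a ≠ 1) (hu : u ∈ uSub K (3 ^ m)) (hc : u * a = a * u) :
    u = 1 := by
  have h1 : u ∈ Subgroup.centralizer {a} := Subgroup.mem_centralizer_singleton_iff.mpr hc
  rw [centralizer_torusSplit m hK a ha ha2] at h1
  have : u ∈ uSub K (3 ^ m) ⊓ torusSplit (K := K) m := ⟨hu, h1⟩
  rw [uSub_inf_torusSplit m hK, Subgroup.mem_bot] at this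
  exact this

/-- an element of the Borel subgroup whose diagonal part is not an involution is conjugate to
its diagonal part by a unipotent element -/
theorem conj_to_torus (m : ℕ) (hK : Fintype.card K = 3 ^ (2 * m + 1)) (a u : ↥(tG2 K (3 ^ m)))
    (ha : a ∈ torusSplit (K := K) m) (ha2 : a * a ≠ 1) (hu : u ∈ uSub K (3 ^ m)) :
    ∃ u' ∈ uSub K (3 ^ m), u' * a * u'⁻¹ = u * a := by
  have haB := torusSplit_le_bSub m hK ha
  let ψ : ↥(uSub K (3 ^ m)) → ↥(uSub K (3 ^ m)) := fun w =>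
    ⟨(w : ↥(tG2 K (3 ^ m))) * (a * (w : ↥(tG2 K (3 ^ m)))⁻¹ * a⁻¹),
      Subgroup.mul_mem _ w.2 (bSub_conj_uSub m hK a _ haB (Subgroup.inv_mem _ w.2))⟩
  have hinj : Function.Injective ψ := by
    intro w w' h
    have h1 : (w : ↥(tG2 K (3 ^ m))) * (a * (w : ↥(tG2 K (3 ^ m)))⁻¹ * a⁻¹) =
        (w' : ↥(tG2 K (3 ^ m))) * (a * (w' : ↥(tG2 K (3 ^ m)))⁻¹ * a⁻¹) := congrArg Subtype.val h
    have h2 : ((w' : ↥(tG2 K (3 ^ m)))⁻¹ * w) * a = a * ((w' : ↥(tG2 K (3 ^ m)))⁻¹ * w) := by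
      have h3 : (w' : ↥(tG2 K (3 ^ m)))⁻¹ * w * a * (w : ↥(tG2 K (3 ^ m)))⁻¹ = a * (w' : ↥(tG2 K (3 ^ m)))⁻¹ := by
        calc (w' : ↥(tG2 K (3 ^ m)))⁻¹ * w * a * (w : ↥(tG2 K (3 ^ m)))⁻¹
            = (w' : ↥(tG2 K (3 ^ m)))⁻¹ * ((w : ↥(tG2 K (3 ^ m))) * (a * (w : ↥(tG2 K (3 ^ m)))⁻¹ * a⁻¹)) * a := by group
          _ = (w' : ↥(tG2 K (3 ^ m)))⁻¹ * ((w' : ↥(tG2 K (3 ^ m))) * (a * (w' : ↥(tG2 K (3 ^ m)))⁻¹ * a⁻¹)) * a := by rw [h1]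
          _ = _ := by group
      calc (w' : ↥(tG2 K (3 ^ m)))⁻¹ * w * a = ((w' : ↥(tG2 K (3 ^ m)))⁻¹ * w * a * (w : ↥(tG2 K (3 ^ m)))⁻¹) * w := by group
        _ = _ := by rw [h3, mul_assoc]
    have h4 := comm_uSub_torus m hK a _ ha ha2 (Subgroup.mul_mem _ (Subgroup.inv_mem _ w'.2) w.2) h2
    apply Subtype.ext
    calc (w : ↥(tG2 K (3 ^ m))) = w' * ((w' : ↥(tG2 K (3 ^ m)))⁻¹ * w) := by group
      _ = w' := by rw [h4, mul_one]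
  obtain ⟨w, hw⟩ := (Finite.injective_iff_surjective.mp hinj) ⟨u, hu⟩
  refine ⟨w, w.2, ?_⟩
  have h1 : (w : ↥(tG2 K (3 ^ m))) * (a * (w : ↥(tG2 K (3 ^ m)))⁻¹ * a⁻¹) = u := congrArg Subtype.val hw
  rw [← h1]; group

end

end Cfsg.Agent.Lib.Helper3.Ree
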