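import Mathlib
import Cfsg.Agent.Lib.Helper3.Ree53
set_option autoImplicit false
set_option linter.unusedSectionVars false
set_option linter.style.haveILetI false
set_option linter.unusedSimpArgs false
open Cfsg Cfsg.Lie

/-!
The unipotent part of the twisted group of type `G₂`: exponent, the centralizer of the involution of
the diagonal part, the involutions of the Borel subgroup.
-/

namespace Cfsg.Agent.Lib.Helper3.Ree

open Cfsg.Agent.Lib.Helper3.ChevM Cfsg.Agent.Lib.Helper3.SL2P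
open Matrix
open scoped Pointwise

section
variable {K : Type*} [Field K] [Fintype K] [CharP K 3]

/-- a nontrivial unipotent element conjugate to a unipotent element: the conjugating element lies in
the Borel subgroup -/
theorem mem_bSub_of_conj_uSub (m : ℕ) (hK : Fintype.card K = 3 ^ (2 * m + 1)) (g x : ↥(tG2 K (3 ^ m)))
    (hx : x ∈ uSub K (3 ^ m)) (hx1 : x ≠ 1) (hgx : g * x * g⁻¹ ∈ uSub K (3 ^ m)) : g ∈ bSub K (3 ^ m) := by
  haveI : Fact (Nat.Prime 3) := ⟨by norm_num⟩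
  set U₀ : Sylow 3 ↥(tG2 K (3 ^ m)) := (isPGroup_uSub m hK).toSylow (not_dvd_index_uSub m hK) with hU₀
  have hU₀c : (U₀ : Subgroup ↥(tG2 K (3 ^ m))) = uSub K (3 ^ m) := IsPGroup.toSylow_coe _ _
  apply normalizer_uSub_le m hK
  rw [← hU₀c]
  by_contra hn
  have hne : g • U₀ ≠ U₀ := fun h => hn (Sylow.smul_eq_iff_mem_normalizer.mp h)
  have h1 := ree_sylow_ti m hK (g • U₀) U₀ hne
  have h2 : g * x * g⁻¹ ∈ ((g • U₀ : Sylow 3 ↥(tG2 K (3 ^ m))) : Subgroup ↥(tG2 K (3 ^ m))) ⊓ U₀ := by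
    refine Subgroup.mem_inf.mpr ⟨?_, by rw [hU₀c]; exact hgx⟩
    rw [Sylow.coe_subgroup_smul, Cfsg.Agent.Lib.Helper3.mem_conj_smul_iff, hU₀c]
    have : g⁻¹ * (g * x * g⁻¹) * g = x := by group
    rw [this]; exact hx
  rw [h1, Subgroup.mem_bot] at h2
  exact conj_ne_one g x hx1 h2

/-- the unipotent part has exponent dividing nine -/
theorem pow_nine_uSub (m : ℕ) (hK : Fintype.card K = 3 ^ (2 * m + 1)) (x : ↥(tG2 K (3 ^ m)))
    (hx : x ∈ uSub K (3 ^ m)) : x ^ 9 = 1 := by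
  obtain ⟨t, u, v, e⟩ := (mem_uSub_iff m hK x).mp hx
  obtain ⟨t₂, u₂, v₂, e₂⟩ := (mem_uSub_iff m hK (x * x)).mp (Subgroup.mul_mem _ hx hx)
  obtain ⟨t₃, u₃, v₃, e₃⟩ := (mem_uSub_iff m hK (x * x * x)).mp
    (Subgroup.mul_mem _ (Subgroup.mul_mem _ hx hx) hx)
  have h2 : t₂ = t + t := by
    apply reeU_mul_first (3 ^ m) t u v t u v t₂ u₂ v₂
    rw [← e, ← e₂]; rfl
  have h3 : t₃ = t₂ + t := by
    apply reeU_mul_first (3 ^ m) t₂ u₂ v₂ t u v t₃ u₃ v₃
    rw [← e, ← e₂, ← e₃]; rfl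
  have h0 : t₃ = 0 := by rw [h3, h2]; exact three_mul_eq_zero t
  have h9 : x ^ 9 = (x * x * x) ^ 3 := by
    rw [show x * x * x = x ^ 3 by rw [pow_succ, pow_succ, pow_one], ← pow_mul]
  rw [h9]
  apply Subtype.ext
  show ((x * x * x : ↥(tG2 K (3 ^ m))) : GL cdG2.D.Idx K) ^ 3 = 1
  rw [e₃, h0]
  exact zU_cube m u₃ v₃

theorem orderOf_dvd_nine_uSub (m : ℕ) (hK : Fintype.card K = 3 ^ (2 * m + 1)) (x : ↥(tG2 K (3 ^ m)))
    (hx : x ∈ uSub K (3 ^ m)) : orderOf x ∣ 9 :=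
  orderOf_dvd_of_pow_eq_one (pow_nine_uSub m hK x hx)

/-- the unipotent elements commuting with the involution of the diagonal part -/
theorem mem_uSub_centralizer_zG (m : ℕ) (hK : Fintype.card K = 3 ^ (2 * m + 1)) (x : ↥(tG2 K (3 ^ m))) :
    x ∈ uSub K (3 ^ m) ⊓ Subgroup.centralizer {zG m hK} ↔ ∃ c : K, x = uG m 0 c 0 := by
  constructor
  · intro h
    obtain ⟨hu, hc⟩ := Subgroup.mem_inf.mp h
    obtain ⟨t, u, v, e⟩ := (mem_uSub_iff m hK x).mp hu
    rw [Subgroup.mem_centralizer_singleton_iff] at hc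
    have h1 : hRee (3 ^ m) (-1 : K) * reeU (3 ^ m) t u v * (hRee (3 ^ m) (-1 : K))⁻¹ = reeU (3 ^ m) t u v := by
      have h2 : (x : GL cdG2.D.Idx K) * hRee (3 ^ m) (-1 : K) = hRee (3 ^ m) (-1 : K) * x :=
        congrArg Subtype.val hc
      rw [← e, ← h2]; group
    obtain ⟨rfl, rfl⟩ := reeU_of_conj_zR m hK t u v h1
    exact ⟨u, Subtype.ext e⟩
  · rintro ⟨c, rfl⟩
    refine Subgroup.mem_inf.mpr ⟨uG_mem m hK 0 c 0, Subgroup.mem_centralizer_singleton_iff.mpr ?_⟩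
    apply Subtype.ext
    show reeU (3 ^ m) 0 c 0 * hRee (3 ^ m) (-1 : K) = hRee (3 ^ m) (-1 : K) * reeU (3 ^ m) 0 c 0
    exact (zR_comm_xR m c).symm

theorem card_uSub_centralizer_zG (m : ℕ) (hK : Fintype.card K = 3 ^ (2 * m + 1)) :
    Nat.card ↥(uSub K (3 ^ m) ⊓ Subgroup.centralizer {zG m hK}) = 3 ^ (2 * m + 1) := by
  let f : K → ↥(uSub K (3 ^ m) ⊓ Subgroup.centralizer {zG m hK}) := fun c =>
    ⟨uG m 0 c 0, (mem_uSub_centralizer_zG m hK _).mpr ⟨c, rfl⟩⟩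
  have hf : Function.Bijective f := by
    constructor
    · intro c c' h
      have h1 : reeU (3 ^ m) (0 : K) c 0 = reeU (3 ^ m) 0 c' 0 :=
        congrArg (fun x : ↥(uSub K (3 ^ m) ⊓ Subgroup.centralizer {zG m hK}) =>
          ((x : ↥(tG2 K (3 ^ m))) : GL cdG2.D.Idx K)) h
      exact (reeU_inj _ _ _ _ _ _ _ h1).2.1
    · rintro ⟨x, hx⟩
      obtain ⟨c, rfl⟩ := (mem_uSub_centralizer_zG m hK x).mp hx
      exact ⟨c, rfl⟩
  rw [← Nat.card_congr (Equiv.ofBijective f hf), Nat.card_eq_fintype_card, hK]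

theorem cube_uSub_centralizer_zG (m : ℕ) (hK : Fintype.card K = 3 ^ (2 * m + 1)) (x : ↥(tG2 K (3 ^ m)))
    (hx : x ∈ uSub K (3 ^ m) ⊓ Subgroup.centralizer {zG m hK}) : x ^ 3 = 1 := by
  obtain ⟨c, rfl⟩ := (mem_uSub_centralizer_zG m hK x).mp hx
  apply Subtype.ext
  exact zU_cube m c 0

theorem zG_mem_torusSplit (m : ℕ) (hK : Fintype.card K = 3 ^ (2 * m + 1)) :
    zG m hK ∈ torusSplit (K := K) m :=
  (mem_torusSplit_iff m hK _).mpr ⟨-1, neg_ne_zero.mpr one_ne_zero, rfl⟩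

theorem zG_inv (m : ℕ) (hK : Fintype.card K = 3 ^ (2 * m + 1)) : (zG (K := K) m hK)⁻¹ = zG m hK :=
  inv_eq_of_mul_eq_one_right (zG_sq m hK)

/-- an element of square one of the Borel subgroup is the product of a unipotent element inverted by
the involution `zG` and of `zG` -/
theorem involution_bSub_form (m : ℕ) (hK : Fintype.card K = 3 ^ (2 * m + 1)) (w : ↥(tG2 K (3 ^ m)))
    (hw : w ∈ bSub K (3 ^ m)) (hw2 : w * w = 1) (hw1 : w ≠ 1) :
    ∃ u ∈ uSub K (3 ^ m), w = u * zG m hK ∧ zG m hK * u * zG m hK = u⁻¹ := by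
  obtain ⟨u, hu, a, ha, rfl⟩ := (mem_bSub_iff' m hK w).mp hw
  have haB := torusSplit_le_bSub m hK ha
  have h1 : a * a = (u * (a * u * a⁻¹))⁻¹ := by
    have : u * (a * u * a⁻¹) * (a * a) = 1 := by rw [← hw2]; group
    exact eq_inv_of_mul_eq_one_right this
  have h2 : a * a ∈ uSub K (3 ^ m) ⊓ torusSplit (K := K) m := by
    refine ⟨?_, Subgroup.mul_mem _ ha ha⟩
    rw [h1]
    exact Subgroup.inv_mem _ (Subgroup.mul_mem _ hu (bSub_conj_uSub m hK a u haB hu))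
  rw [uSub_inf_torusSplit m hK, Subgroup.mem_bot] at h2
  have ha1 : a ≠ 1 := by
    rintro rfl
    rw [mul_one] at hw2 hw1
    apply hw1
    have h9 := pow_nine_uSub m hK u hu
    have h2' : u ^ 2 = 1 := by rw [pow_two]; exact hw2
    calc u = u ^ 9 * (u ^ 2)⁻¹ ^ 4 := by group
      _ = 1 := by rw [h9, h2']; simp
  have hadiag : (a : GL cdG2.D.Idx K) ∈ cdG2.D.diagonalSubgroup K := by
    have : a ∈ torusSplit (K := K) m := ha
    unfold torusSplit at this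
    exact (Subgroup.mem_subgroupOf.mp this).1
  have haz := eq_zG m hK a hadiag ha1 h2
  subst haz
  refine ⟨u, hu, rfl, ?_⟩
  have h3 : u * zG m hK * (u * zG m hK) = 1 := hw2
  calc zG m hK * u * zG m hK = u⁻¹ * (u * zG m hK * (u * zG m hK)) := by group
    _ = u⁻¹ := by rw [h3, mul_one]

/-- the involutions of the Borel subgroup are conjugate to `zG` under the unipotent part -/
theorem involution_bSub (m : ℕ) (hK : Fintype.card K = 3 ^ (2 * m + 1)) (w : ↥(tG2 K (3 ^ m)))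
    (hw : w ∈ bSub K (3 ^ m)) (hw2 : w * w = 1) (hw1 : w ≠ 1) :
    ∃ u ∈ uSub K (3 ^ m), w = u * zG m hK * u⁻¹ := by
  obtain ⟨u, hu, rfl, hinv⟩ := involution_bSub_form m hK w hw hw2 hw1
  refine ⟨u ^ 5, Subgroup.pow_mem _ hu 5, ?_⟩
  have h9 := pow_nine_uSub m hK u hu
  -- `z u⁻⁵ z = u⁵`
  have h5 : zG m hK * (u ^ 5)⁻¹ * zG m hK = u ^ 5 := by
    have hz := zG_sq (K := K) m hK
    have e1 : zG m hK * u⁻¹ * zG m hK = u := by
      have : zG m hK * u⁻¹ * zG m hK = (zG m hK * u * zG m hK)⁻¹ := by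
        rw [_root_.mul_inv_rev, _root_.mul_inv_rev, zG_inv, mul_assoc]
      rw [this, hinv, inv_inv]
    have e2 : ∀ k : ℕ, zG m hK * (u⁻¹) ^ k * zG m hK = u ^ k := by
      intro k
      induction k with
      | zero => simp [hz]
      | succ k ih =>
        calc zG m hK * (u⁻¹) ^ (k + 1) * zG m hK
            = (zG m hK * (u⁻¹) ^ k * zG m hK) * (zG m hK * u⁻¹ * zG m hK) := by
              rw [pow_succ]
              calc zG m hK * ((u⁻¹) ^ k * u⁻¹) * zG m hK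
                  = zG m hK * (u⁻¹) ^ k * 1 * u⁻¹ * zG m hK := by group
                _ = zG m hK * (u⁻¹) ^ k * (zG m hK * zG m hK) * u⁻¹ * zG m hK := by rw [hz]
                _ = _ := by group
          _ = u ^ (k + 1) := by rw [ih, e1, pow_succ]
    rw [← inv_pow]
    exact e2 5
  calc u * zG m hK = u ^ 10 * zG m hK := by
        rw [show (10 : ℕ) = 9 + 1 by norm_num, pow_succ, h9, one_mul]
    _ = u ^ 5 * (zG m hK * (u ^ 5)⁻¹ * zG m hK) * zG m hK := by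
        rw [h5, ← pow_add]
    _ = u ^ 5 * zG m hK * (u ^ 5)⁻¹ * (zG m hK * zG m hK) := by group
    _ = _ := by rw [zG_sq, mul_one]

end

end Cfsg.Agent.Lib.Helper3.Ree
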