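import Mathlib
import Cfsg.Agent.Lib.Helper3.Ree54
import Cfsg.Agent.Lib.Helper5.SL2Count
set_option autoImplicit false
set_option linter.unusedSectionVars false
set_option linter.style.haveILetI false
set_option linter.unusedSimpArgs false
open Cfsg Cfsg.Lie

/-!
The order of the centralizer of an involution of the twisted group of type `G₂` and the number of
involutions.
-/

namespace Cfsg.Agent.Lib.Helper3.Ree

open Cfsg.Agent.Lib.Helper3.ChevM Cfsg.Agent.Lib.Helper3.SL2P
open Matrix

section
variable {K : Type*} [Field K] [Fintype K] [CharP K 3]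

/-- the order of the centralizer of the involution `zG` -/
theorem card_centralizer_zG (m : ℕ) (hK : Fintype.card K = 3 ^ (2 * m + 1)) :
    Nat.card ↥(Subgroup.centralizer {zG (K := K) m hK}) =
      3 ^ (2 * m + 1) * (3 ^ (2 * m + 1) - 1) * (3 ^ (2 * m + 1) + 1) := by
  classical
  set S := Subgroup.centralizer {zG (K := K) m hK} with hS
  have hmemS : ∀ (b : Bool) (X : SpecialLinearGroup (Fin 2) K),
      (if b then zG m hK else 1) * psiR m X ∈ S := by
    intro b X
    rw [Subgroup.mem_centralizer_singleton_iff]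
    cases b
    · simp only [Bool.false_eq_true, if_false, one_mul]
      exact (zG_comm_psiR m hK _).symm
    · simp only [if_true]
      rw [mul_assoc, ← zG_comm_psiR m hK, ← mul_assoc]
  have hcard := Cfsg.Agent.Lib.Helper5.card_eq_two_mul_of_two_to_one
    (fun p : Bool × SpecialLinearGroup (Fin 2) K => (⟨_, hmemS p.1 p.2⟩ : ↥S)) ?_
    (fun p : Bool × SpecialLinearGroup (Fin 2) K => ((p.1, wE * wE * p.2) : Bool × SpecialLinearGroup (Fin 2) K)) ?_ ?_
  · rw [Nat.card_prod, Nat.card_eq_fintype_card (α := Bool), Fintype.card_bool,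
      Cfsg.Agent.Lib.Helper5.card_SL2, hK] at hcard
    omega
  · -- surjectivity
    rintro ⟨g, hg⟩
    have hgz := Subgroup.mem_centralizer_singleton_iff.mp hg
    obtain ⟨A, hA | hA⟩ := centralizer_zG m hK g hgz.symm
    · refine ⟨(false, A), ?_⟩
      apply Subtype.ext
      show (if false = true then zG m hK else 1) * psiR m A = g
      simp only [Bool.false_eq_true, if_false, one_mul]
      exact hA.symm
    · refine ⟨(true, A), ?_⟩
      apply Subtype.ext
      show (if true = true then zG m hK else 1) * psiR m A = g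
      simp only [if_true]
      exact hA.symm
  · rintro ⟨b, X⟩ h
    have h1 := congrArg (fun p : Bool × SpecialLinearGroup (Fin 2) K => p.2) h
    dsimp only at h1
    have h3 : (wE (F := K)) * wE = 1 := by
      have := congrArg (fun Y => Y * X⁻¹) h1
      simpa [mul_assoc] using this
    exact negE_ne_one h3
  · rintro ⟨b, X⟩ ⟨b', X'⟩
    dsimp only
    constructor
    · intro h
      have h1 := congrArg (fun s : ↥S => (s : ↥(tG2 K (3 ^ m)))) h
      dsimp only at h1
      have hbb : b = b' := by
        by_contra hne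
        apply zG_not_mem_range (K := K) m hK
        cases b <;> cases b'
        · exact absurd rfl hne
        · simp only [Bool.false_eq_true, if_false, one_mul, if_true] at h1
          refine ⟨X * X'⁻¹, ?_⟩
          rw [map_mul, map_inv, h1]; group
        · simp only [Bool.false_eq_true, if_false, one_mul, if_true] at h1
          refine ⟨X' * X⁻¹, ?_⟩
          rw [map_mul, map_inv, ← h1]; group
        · exact absurd rfl hne
      subst hbb
      have h2 : psiR m X = psiR m X' := mul_left_cancel h1
      rcases psiR_eq_iff m _ _ h2 with h3 | h3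
      · left
        rw [h3]
      · right
        have : X' = wE * wE * X := by
          rw [h3, ← mul_assoc, wE_sq_sq, one_mul]
        rw [this]
    · rintro (h | h)
      · obtain ⟨rfl, rfl⟩ := Prod.mk.inj h
        rfl
      · obtain ⟨rfl, rfl⟩ := Prod.mk.inj h
        apply Subtype.ext
        show (if b' then zG m hK else 1) * psiR m X =
          (if b' then zG m hK else 1) * psiR m (wE * wE * X)
        rw [psiR_neg]

/-- the set of involutions -/
def invSet (G : Type*) [Group G] : Set G := {w | w * w = 1 ∧ w ≠ 1}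

theorem invSet_eq_conjUnion (m : ℕ) (hm : 1 ≤ m) (hK : Fintype.card K = 3 ^ (2 * m + 1)) :
    invSet ↥(tG2 K (3 ^ m)) = conjUnion {zG (K := K) m hK} := by
  ext w
  constructor
  · rintro ⟨hw2, hw1⟩
    obtain ⟨g, hg⟩ := involution_conj m hm hK w hw2 hw1
    refine ⟨g, ?_⟩
    rw [Set.mem_singleton_iff, ← hg]; group
  · rintro ⟨g, hg⟩
    rw [Set.mem_singleton_iff] at hg
    have hw : w = g * zG m hK * g⁻¹ := by rw [← hg]; group
    refine ⟨?_, ?_⟩
    · rw [hw]
      calc g * zG m hK * g⁻¹ * (g * zG m hK * g⁻¹) = g * (zG m hK * zG m hK) * g⁻¹ := by group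
        _ = 1 := by rw [zG_sq]; group
    · rw [hw]
      exact conj_ne_one g _ (zG_ne_one m hK)

/-- the number of involutions -/
theorem card_invSet (m : ℕ) (hm : 1 ≤ m) (hK : Fintype.card K = 3 ^ (2 * m + 1)) :
    Nat.card ↥(invSet ↥(tG2 K (3 ^ m))) =
      (3 ^ (2 * m + 1)) ^ 2 * ((3 ^ (2 * m + 1)) ^ 2 - 3 ^ (2 * m + 1) + 1) := by
  have h := card_conjUnion ({zG (K := K) m hK} : Set ↥(tG2 K (3 ^ m)))
    (Subgroup.centralizer {zG (K := K) m hK}) ?_ ?_
  · have h1 : Nat.card ↥({zG (K := K) m hK} : Set ↥(tG2 K (3 ^ m))) = 1 := by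
      rw [Nat.card_eq_fintype_card]; simp
    rw [← invSet_eq_conjUnion m hm hK, card_centralizer_zG, card_tG2 m hK, h1, mul_one] at h
    obtain ⟨q, hq⟩ : ∃ q, q = 3 ^ (2 * m + 1) := ⟨_, rfl⟩
    rw [← hq] at h ⊢
    have hq3 : 3 ≤ q := by
      rw [hq]
      calc 3 = 3 ^ 1 := by norm_num
        _ ≤ 3 ^ (2 * m + 1) := Nat.pow_le_pow_right (by norm_num) (by omega)
    obtain ⟨k, rfl⟩ : ∃ k, q = k + 3 := ⟨q - 3, by omega⟩
    have e1 : k + 3 - 1 = k + 2 := by omega
    have e2 : (k + 3) ^ 2 - (k + 3) + 1 = k ^ 2 + 5 * k + 7 := by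
      have : (k + 3) ^ 2 = k ^ 2 + 5 * k + 6 + (k + 3) := by ring
      omega
    rw [e1] at h
    rw [e2]
    have hpos : 0 < (k + 3) * (k + 2) * (k + 3 + 1) := by positivity
    apply Nat.eq_of_mul_eq_mul_right hpos
    rw [h]; ring
  · intro n hn x hx
    rw [Set.mem_singleton_iff] at hx ⊢
    subst hx
    have := Subgroup.mem_centralizer_singleton_iff.mp hn
    rw [this]; group
  · intro g x hx hgx
    rw [Set.mem_singleton_iff] at hx hgx
    subst hx
    apply Subgroup.mem_centralizer_singleton_iff.mpr
    calc g * zG m hK = g * zG m hK * g⁻¹ * g := by group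
      _ = zG m hK * g := by rw [hgx]

end

end Cfsg.Agent.Lib.Helper3.Ree
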