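import Mathlib
import Cfsg.Agent.Lib.Helper3.Ree55
set_option autoImplicit false
set_option linter.unusedSectionVars false
set_option linter.style.haveILetI false
set_option linter.unusedSimpArgs false
open Cfsg Cfsg.Lie

/-!
Counting in the twisted group of type `G₂`: the normalizer of the split torus, the conjugates of the
elements of the split torus, the involutions of the Borel subgroup.
-/

namespace Cfsg.Agent.Lib.Helper3.Ree

open Cfsg.Agent.Lib.Helper3.ChevM Cfsg.Agent.Lib.Helper3.SL2P
open Matrix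

section
variable {G : Type*} [Group G]

/-- orbit and stabilizer for the conjugation action of a subgroup on an element -/
theorem card_conj_orbit (H : Subgroup G) (z : G) :
    Nat.card ↥{w : G | ∃ h ∈ H, h * z * h⁻¹ = w} * Nat.card ↥(H ⊓ Subgroup.centralizer {z}) =
      Nat.card ↥H := by
  letI : MulAction ↥H G := MulAction.compHom G ((ConjAct.toConjAct (G := G)).toMonoidHom.comp H.subtype)
  have hsm : ∀ (h : ↥H) (x : G), h • x = (h : G) * x * (h : G)⁻¹ := by
    intro h x
    rfl
  have h1 : Nat.card (MulAction.orbit ↥H z) * Nat.card (MulAction.stabilizer ↥H z) = Nat.card ↥H := by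
    rw [← Nat.card_prod, Nat.card_congr (MulAction.orbitProdStabilizerEquivGroup ↥H z)]
  have h2 : (MulAction.orbit ↥H z : Set G) = {w : G | ∃ h ∈ H, h * z * h⁻¹ = w} := by
    ext w
    constructor
    · rintro ⟨h, rfl⟩
      exact ⟨h, h.2, (hsm h z).symm⟩
    · rintro ⟨h, hh, rfl⟩
      exact ⟨⟨h, hh⟩, hsm _ _⟩
  have h3 : Nat.card (MulAction.stabilizer ↥H z) = Nat.card ↥(H ⊓ Subgroup.centralizer {z}) := by
    apply Nat.card_congr
    refine ⟨fun h => ⟨(h : ↥H), Subgroup.mem_inf.mpr ⟨h.1.2, ?_⟩⟩,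
      fun h => ⟨⟨h, (Subgroup.mem_inf.mp h.2).1⟩, ?_⟩, ?_, ?_⟩
    · apply Subgroup.mem_centralizer_singleton_iff.mpr
      have := h.2
      rw [MulAction.mem_stabilizer_iff, hsm] at this
      calc ((h : ↥H) : G) * z = ((h : ↥H) : G) * z * ((h : ↥H) : G)⁻¹ * ((h : ↥H) : G) := by group
        _ = z * ((h : ↥H) : G) := by rw [this]
    · rw [MulAction.mem_stabilizer_iff, hsm]
      have := Subgroup.mem_centralizer_singleton_iff.mp (Subgroup.mem_inf.mp h.2).2
      show (h : G) * z * (h : G)⁻¹ = z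
      rw [this]; group
    · intro h; rfl
    · intro h; rfl
  rw [← h2, ← h3]
  exact h1

end

section
variable {K : Type*} [Field K] [Fintype K] [CharP K 3]

/-- the order of the normalizer of a subgroup of the split torus which is not of exponent two -/
theorem card_normalizer_sub_torus (m : ℕ) (hK : Fintype.card K = 3 ^ (2 * m + 1))
    (A : Subgroup ↥(tG2 K (3 ^ m))) (hA : A ≤ torusSplit (K := K) m)
    (a : ↥(tG2 K (3 ^ m))) (ha : a ∈ A) (ha2 : a * a ≠ 1) :
    Nat.card ↥(Subgroup.normalizer (A : Set ↥(tG2 K (3 ^ m)))) = 2 * (3 ^ (2 * m + 1) - 1) := by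
  classical
  have hmem : ∀ (b : Bool) (t : ↥(torusSplit (K := K) m)),
      (t : ↥(tG2 K (3 ^ m))) * (if b then nSub m hK else 1) ∈
        Subgroup.normalizer (A : Set ↥(tG2 K (3 ^ m))) := by
    intro b t
    rw [normalizer_sub_torus m hK A hA a ha ha2]
    cases b
    · left; simpa using t.2
    · right
      simp only [if_true]
      have : (t : ↥(tG2 K (3 ^ m))) * nSub m hK * (nSub m hK)⁻¹ = t := by group
      rw [this]; exact t.2
  let f : Bool × ↥(torusSplit (K := K) m) → ↥(Subgroup.normalizer (A : Set ↥(tG2 K (3 ^ m)))) :=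
    fun p => ⟨_, hmem p.1 p.2⟩
  have hf : Function.Bijective f := by
    constructor
    · rintro ⟨b, t⟩ ⟨b', t'⟩ h
      have h1 : (t : ↥(tG2 K (3 ^ m))) * (if b then nSub m hK else 1) =
          (t' : ↥(tG2 K (3 ^ m))) * (if b' then nSub m hK else 1) := congrArg Subtype.val h
      have hbb : b = b' := by
        by_contra hne
        apply nSub_not_mem_torus (K := K) m hK
        cases b <;> cases b'
        · exact absurd rfl hne
        · simp only [Bool.false_eq_true, if_false, mul_one, if_true] at h1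
          have : nSub m hK = (t' : ↥(tG2 K (3 ^ m)))⁻¹ * t := by rw [h1]; group
          rw [this]
          exact Subgroup.mul_mem _ (Subgroup.inv_mem _ t'.2) t.2
        · simp only [Bool.false_eq_true, if_false, mul_one, if_true] at h1
          have : nSub m hK = (t : ↥(tG2 K (3 ^ m)))⁻¹ * t' := by rw [← h1]; group
          rw [this]
          exact Subgroup.mul_mem _ (Subgroup.inv_mem _ t.2) t'.2
        · exact absurd rfl hne
      subst hbb
      have h2 : (t : ↥(tG2 K (3 ^ m))) = t' := mul_right_cancel h1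
      rw [Subtype.ext h2]
    · rintro ⟨g, hg⟩
      rcases (normalizer_sub_torus m hK A hA a ha ha2 g).mp hg with h | h
      · refine ⟨(false, ⟨g, h⟩), ?_⟩
        apply Subtype.ext
        show g * (if false = true then nSub m hK else 1) = g
        simp
      · refine ⟨(true, ⟨_, h⟩), ?_⟩
        apply Subtype.ext
        show g * (nSub m hK)⁻¹ * (if true = true then nSub m hK else 1) = g
        simp
  rw [← Nat.card_congr (Equiv.ofBijective f hf), Nat.card_prod, Nat.card_eq_fintype_card (α := Bool),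
    Fintype.card_bool, card_torusSplit m hK]

/-- counting the conjugates of a set of elements of the split torus -/
theorem card_conjUnion_torus (m : ℕ) (hK : Fintype.card K = 3 ^ (2 * m + 1))
    (S : Set ↥(tG2 K (3 ^ m))) (hS : ∀ a ∈ S, a ∈ torusSplit (K := K) m) (hS2 : ∀ a ∈ S, a * a ≠ 1)
    (hinv : ∀ a ∈ S, a⁻¹ ∈ S) :
    2 * Nat.card ↥(conjUnion S) = (3 ^ (2 * m + 1)) ^ 3 * ((3 ^ (2 * m + 1)) ^ 3 + 1) * Nat.card ↥S := by
  by_cases hne : S.Nonempty
  · obtain ⟨a₀, ha₀⟩ := hne
    have hT : (torusSplit (K := K) m) ≤ torusSplit (K := K) m := le_refl _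
    have h := card_conjUnion S (Subgroup.normalizer ((torusSplit (K := K) m : Subgroup ↥(tG2 K (3 ^ m))) : Set ↥(tG2 K (3 ^ m)))) ?_ ?_
    · rw [card_normalizer_sub_torus m hK _ hT a₀ (hS a₀ ha₀) (hS2 a₀ ha₀), card_tG2 m hK] at h
      have hq1 : 0 < 3 ^ (2 * m + 1) - 1 := by
        have : 3 ^ 1 ≤ 3 ^ (2 * m + 1) := Nat.pow_le_pow_right (by norm_num) (by omega)
        omega
      apply Nat.eq_of_mul_eq_mul_right hq1
      calc 2 * Nat.card ↥(conjUnion S) * (3 ^ (2 * m + 1) - 1)
          = Nat.card ↥(conjUnion S) * (2 * (3 ^ (2 * m + 1) - 1)) := by ring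
        _ = _ := by rw [h]; ring
    · intro n hn x hx
      rcases (normalizer_sub_torus m hK _ hT a₀ (hS a₀ ha₀) (hS2 a₀ ha₀) n).mp hn with h | h
      · have : n * x * n⁻¹ = x := by
          rw [torusSplit_comm m hK n x h (hS x hx)]; group
        rw [this]; exact hx
      · have h1 := nSub_conj_torus m hK x (hS x hx)
        have h2 : n * x * n⁻¹ = (n * (nSub m hK)⁻¹) * x⁻¹ * (n * (nSub m hK)⁻¹)⁻¹ := by
          rw [← h1]; group
        have h3 : (n * (nSub m hK)⁻¹) * x⁻¹ * (n * (nSub m hK)⁻¹)⁻¹ = x⁻¹ := by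
          rw [torusSplit_comm m hK _ x⁻¹ h (Subgroup.inv_mem _ (hS x hx))]; group
        rw [h2, h3]; exact hinv x hx
    · intro g x hx hgx
      rw [normalizer_sub_torus m hK _ hT a₀ (hS a₀ ha₀) (hS2 a₀ ha₀)]
      rcases conj_mem_torusSplit m hK x (hS x hx) (hS2 x hx) g (hS _ hgx) with h | h
      · exact Or.inl h.1
      · exact Or.inr h.1
  · rw [Set.not_nonempty_iff_eq_empty] at hne
    subst hne
    have h1 : conjUnion (∅ : Set ↥(tG2 K (3 ^ m))) = ∅ := by
      ext y
      simp [conjUnion]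
    rw [h1]
    simp

end

end Cfsg.Agent.Lib.Helper3.Ree
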