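import Mathlib
import Cfsg.Agent.Lib.Helper3.Ree56
set_option autoImplicit false
set_option linter.unusedSectionVars false
set_option linter.style.haveILetI false
set_option linter.unusedSimpArgs false
open Cfsg Cfsg.Lie

/-!
The involutions of the Borel subgroup of the twisted group of type `G₂` and the elements of order six.
-/

namespace Cfsg.Agent.Lib.Helper3.Ree

open Cfsg.Agent.Lib.Helper3.ChevM Cfsg.Agent.Lib.Helper3.SL2P
open Matrix

section
variable {K : Type*} [Field K] [Fintype K] [CharP K 3]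

theorem zG_not_mem_uSub (m : ℕ) (hK : Fintype.card K = 3 ^ (2 * m + 1)) :
    zG (K := K) m hK ∉ uSub K (3 ^ m) := by
  intro h
  have : zG (K := K) m hK ∈ uSub K (3 ^ m) ⊓ torusSplit (K := K) m :=
    Subgroup.mem_inf.mpr ⟨h, zG_mem_torusSplit m hK⟩
  rw [uSub_inf_torusSplit m hK, Subgroup.mem_bot] at this
  exact zG_ne_one m hK this

/-- the coset of the unipotent part containing the involution `zG` -/
def cosetUz (m : ℕ) (hK : Fintype.card K = 3 ^ (2 * m + 1)) : Set ↥(tG2 K (3 ^ m)) :=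
  {x | ∃ u ∈ uSub K (3 ^ m), x = u * zG m hK}

theorem card_cosetUz (m : ℕ) (hK : Fintype.card K = 3 ^ (2 * m + 1)) :
    Nat.card ↥(cosetUz (K := K) m hK) = (3 ^ (2 * m + 1)) ^ 3 := by
  rw [← card_uSub m hK]
  symm
  apply Nat.card_congr
  refine Equiv.ofBijective (fun u => ⟨(u : ↥(tG2 K (3 ^ m))) * zG m hK, ⟨u, u.2, rfl⟩⟩) ⟨?_, ?_⟩
  · intro u u' h
    have h1 : (u : ↥(tG2 K (3 ^ m))) * zG m hK = (u' : ↥(tG2 K (3 ^ m))) * zG m hK :=
      congrArg Subtype.val h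
    exact Subtype.ext (mul_right_cancel h1)
  · rintro ⟨x, u, hu, rfl⟩
    exact ⟨⟨u, hu⟩, rfl⟩

/-- the involutions of the Borel subgroup -/
def invB (m : ℕ) (hK : Fintype.card K = 3 ^ (2 * m + 1)) : Set ↥(tG2 K (3 ^ m)) :=
  {w | ∃ h ∈ uSub K (3 ^ m), h * zG m hK * h⁻¹ = w}

theorem mem_invB_iff (m : ℕ) (hK : Fintype.card K = 3 ^ (2 * m + 1)) (w : ↥(tG2 K (3 ^ m))) :
    w ∈ invB (K := K) m hK ↔ w ∈ bSub K (3 ^ m) ∧ w * w = 1 ∧ w ≠ 1 := by
  constructor
  · rintro ⟨h, hh, rfl⟩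
    refine ⟨?_, ?_, ?_⟩
    · have hB := uSub_le_bSub m hK hh
      exact Subgroup.mul_mem _ (Subgroup.mul_mem _ hB (torusSplit_le_bSub m hK (zG_mem_torusSplit m hK)))
        (Subgroup.inv_mem _ hB)
    · calc h * zG m hK * h⁻¹ * (h * zG m hK * h⁻¹) = h * (zG m hK * zG m hK) * h⁻¹ := by group
        _ = 1 := by rw [zG_sq]; group
    · exact conj_ne_one h _ (zG_ne_one m hK)
  · rintro ⟨hB, h2, h1⟩
    obtain ⟨u, hu, e⟩ := involution_bSub m hK w hB h2 h1
    exact ⟨u, hu, e.symm⟩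

theorem card_invB (m : ℕ) (hK : Fintype.card K = 3 ^ (2 * m + 1)) :
    Nat.card ↥(invB (K := K) m hK) = (3 ^ (2 * m + 1)) ^ 2 := by
  have h := card_conj_orbit (uSub K (3 ^ m)) (zG m hK)
  rw [card_uSub_centralizer_zG m hK, card_uSub m hK] at h
  have hq : 0 < 3 ^ (2 * m + 1) := by positivity
  apply Nat.eq_of_mul_eq_mul_right hq
  show Nat.card ↥{w | ∃ h ∈ uSub K (3 ^ m), h * zG m hK * h⁻¹ = w} * _ = _
  rw [h]; ring

/-- the elements of order six of the Borel subgroup -/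
def mSet (m : ℕ) (hK : Fintype.card K = 3 ^ (2 * m + 1)) : Set ↥(tG2 K (3 ^ m)) :=
  {x | (∃ u ∈ uSub K (3 ^ m), x = u * zG m hK) ∧ x * x ≠ 1}

theorem cosetUz_eq (m : ℕ) (hK : Fintype.card K = 3 ^ (2 * m + 1)) :
    cosetUz (K := K) m hK = invB m hK ∪ mSet m hK := by
  ext x
  constructor
  · rintro ⟨u, hu, rfl⟩
    by_cases h : u * zG m hK * (u * zG m hK) = 1
    · left
      rw [mem_invB_iff]
      refine ⟨Subgroup.mul_mem _ (uSub_le_bSub m hK hu)
        (torusSplit_le_bSub m hK (zG_mem_torusSplit m hK)), h, ?_⟩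
      intro h1
      apply zG_not_mem_uSub (K := K) m hK
      have : zG m hK = u⁻¹ := by
        calc zG m hK = u⁻¹ * (u * zG m hK) := by group
          _ = u⁻¹ := by rw [h1, mul_one]
      rw [this]
      exact Subgroup.inv_mem _ hu
    · right
      exact ⟨⟨u, hu, rfl⟩, h⟩
  · rintro (h | h)
    · obtain ⟨hB, h2, h1⟩ := (mem_invB_iff m hK x).mp h
      obtain ⟨u, hu, e, -⟩ := involution_bSub_form m hK x hB h2 h1
      exact ⟨u, hu, e⟩
    · exact h.1

theorem invB_disjoint_mSet (m : ℕ) (hK : Fintype.card K = 3 ^ (2 * m + 1)) :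
    Disjoint (invB (K := K) m hK) (mSet m hK) := by
  rw [Set.disjoint_left]
  intro x hx hx'
  exact hx'.2 ((mem_invB_iff m hK x).mp hx).2.1

theorem card_mSet (m : ℕ) (hK : Fintype.card K = 3 ^ (2 * m + 1)) :
    Nat.card ↥(mSet (K := K) m hK) = (3 ^ (2 * m + 1)) ^ 3 - (3 ^ (2 * m + 1)) ^ 2 := by
  have h1 := card_cosetUz (K := K) m hK
  rw [cosetUz_eq m hK, Nat.card_coe_set_eq, Set.ncard_union_eq (invB_disjoint_mSet m hK)
    (Set.toFinite _) (Set.toFinite _), ← Nat.card_coe_set_eq, ← Nat.card_coe_set_eq, card_invB m hK] at h1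
  omega

end

end Cfsg.Agent.Lib.Helper3.Ree
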