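import Mathlib
import Cfsg.Agent.Lib.Helper3.Ree57
set_option autoImplicit false
set_option linter.unusedSectionVars false
set_option linter.style.haveILetI false
set_option linter.unusedSimpArgs false
open Cfsg Cfsg.Lie

/-!
The elements of order six of the twisted group of type `G₂`: they are conjugate to elements of the
coset `U z` of the Borel subgroup.
-/

namespace Cfsg.Agent.Lib.Helper3.Ree

open Cfsg.Agent.Lib.Helper3.ChevM Cfsg.Agent.Lib.Helper3.SL2P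
open Matrix

section
variable {K : Type*} [Field K] [Fintype K] [CharP K 3]

theorem zG_mem_bSub (m : ℕ) (hK : Fintype.card K = 3 ^ (2 * m + 1)) : zG (K := K) m hK ∈ bSub K (3 ^ m) :=
  torusSplit_le_bSub m hK (zG_mem_torusSplit m hK)

/-- the coset `U z` is stable under conjugation by the Borel subgroup -/
theorem cosetUz_conj (m : ℕ) (hK : Fintype.card K = 3 ^ (2 * m + 1)) (b x : ↥(tG2 K (3 ^ m)))
    (hb : b ∈ bSub K (3 ^ m)) (hx : x ∈ cosetUz (K := K) m hK) : b * x * b⁻¹ ∈ cosetUz (K := K) m hK := by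
  obtain ⟨u, hu, rfl⟩ := hx
  obtain ⟨u', hu', a, ha, rfl⟩ := (mem_bSub_iff' m hK b).mp hb
  have haz : a * zG m hK = zG m hK * a := torusSplit_comm m hK a _ ha (zG_mem_torusSplit m hK)
  refine ⟨(u' * a) * u * (u' * a)⁻¹ * (u' * (zG m hK * u'⁻¹ * (zG m hK)⁻¹)), ?_, ?_⟩
  · exact Subgroup.mul_mem _ (bSub_conj_uSub m hK _ u hb hu)
      (Subgroup.mul_mem _ hu' (bSub_conj_uSub m hK _ _ (zG_mem_bSub m hK) (Subgroup.inv_mem _ hu')))
  · have e1 : a * zG m hK * a⁻¹ = zG m hK := by rw [haz]; group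
    calc u' * a * (u * zG m hK) * (u' * a)⁻¹
        = (u' * a) * u * (u' * a)⁻¹ * (u' * (a * zG m hK * a⁻¹) * u'⁻¹) := by group
      _ = (u' * a) * u * (u' * a)⁻¹ * (u' * zG m hK * u'⁻¹) := by rw [e1]
      _ = _ := by group

/-- the square of an element of the coset `U z` is unipotent -/
theorem sq_mem_uSub_of_cosetUz (m : ℕ) (hK : Fintype.card K = 3 ^ (2 * m + 1)) (x : ↥(tG2 K (3 ^ m)))
    (hx : x ∈ cosetUz (K := K) m hK) : x * x ∈ uSub K (3 ^ m) := by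
  obtain ⟨u, hu, rfl⟩ := hx
  have : u * zG m hK * (u * zG m hK) = u * (zG m hK * u * (zG m hK)⁻¹) := by
    rw [zG_inv]; group
  rw [this]
  exact Subgroup.mul_mem _ hu (bSub_conj_uSub m hK _ u (zG_mem_bSub m hK) hu)

theorem mul_uSub_mem_cosetUz (m : ℕ) (hK : Fintype.card K = 3 ^ (2 * m + 1)) (x v : ↥(tG2 K (3 ^ m)))
    (hx : x ∈ cosetUz (K := K) m hK) (hv : v ∈ uSub K (3 ^ m)) : x * v ∈ cosetUz (K := K) m hK := by
  obtain ⟨u, hu, rfl⟩ := hx
  refine ⟨u * (zG m hK * v * (zG m hK)⁻¹), ?_, by group⟩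
  exact Subgroup.mul_mem _ hu (bSub_conj_uSub m hK _ v (zG_mem_bSub m hK) hv)

theorem one_not_mem_cosetUz (m : ℕ) (hK : Fintype.card K = 3 ^ (2 * m + 1)) :
    (1 : ↥(tG2 K (3 ^ m))) ∉ cosetUz (K := K) m hK := by
  rintro ⟨u, hu, e⟩
  apply zG_not_mem_uSub (K := K) m hK
  have : zG m hK = u⁻¹ := by
    calc zG m hK = u⁻¹ * (u * zG m hK) := by group
      _ = u⁻¹ := by rw [← e, mul_one]
  rw [this]
  exact Subgroup.inv_mem _ hu

/-- the odd powers of an element of the coset `U z` lie in this coset -/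
theorem pow_odd_mem_cosetUz (m : ℕ) (hK : Fintype.card K = 3 ^ (2 * m + 1)) (x : ↥(tG2 K (3 ^ m)))
    (hx : x ∈ cosetUz (K := K) m hK) (k : ℕ) : x ^ (2 * k + 1) ∈ cosetUz (K := K) m hK := by
  have h1 : x ^ (2 * k + 1) = x * (x * x) ^ k := by
    rw [← pow_two, ← pow_mul, pow_succ']
  rw [h1]
  exact mul_uSub_mem_cosetUz m hK x _ hx
    (Subgroup.pow_mem _ (sq_mem_uSub_of_cosetUz m hK x hx) k)

theorem pow_odd_ne_one_of_cosetUz (m : ℕ) (hK : Fintype.card K = 3 ^ (2 * m + 1)) (x : ↥(tG2 K (3 ^ m)))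
    (hx : x ∈ cosetUz (K := K) m hK) (k : ℕ) : x ^ (2 * k + 1) ≠ 1 := by
  intro h
  apply one_not_mem_cosetUz (K := K) m hK
  rw [← h]
  exact pow_odd_mem_cosetUz m hK x hx k

/-- the sixth power of an element of the coset `U z` is trivial -/
theorem pow_six_cosetUz (m : ℕ) (hK : Fintype.card K = 3 ^ (2 * m + 1)) (x : ↥(tG2 K (3 ^ m)))
    (hx : x ∈ cosetUz (K := K) m hK) : x ^ 6 = 1 := by
  have h18 : x ^ 18 = 1 := by
    have := pow_nine_uSub m hK (x * x) (sq_mem_uSub_of_cosetUz m hK x hx)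
    rw [← pow_two, ← pow_mul] at this
    exact this
  -- the involution `w = x ^ 9`
  have hw : x ^ 9 ∈ invB (K := K) m hK := by
    rw [mem_invB_iff]
    have h9 := pow_odd_mem_cosetUz m hK x hx 4
    have h9' : x ^ 9 ∈ cosetUz (K := K) m hK := h9
    refine ⟨?_, ?_, pow_odd_ne_one_of_cosetUz m hK x hx 4⟩
    · obtain ⟨u, hu, e⟩ := h9'
      rw [e]
      exact Subgroup.mul_mem _ (uSub_le_bSub m hK hu) (zG_mem_bSub m hK)
    · rw [← pow_add]; exact h18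
  obtain ⟨u₁, hu₁, e⟩ := hw
  -- the conjugate `x' = u₁⁻¹ x u₁` commutes with `z`
  have hx' : u₁⁻¹ * x * u₁⁻¹⁻¹ ∈ cosetUz (K := K) m hK :=
    cosetUz_conj m hK u₁⁻¹ x (uSub_le_bSub m hK (Subgroup.inv_mem _ hu₁)) hx
  rw [inv_inv] at hx'
  have hcomm : (u₁⁻¹ * x * u₁) * zG m hK = zG m hK * (u₁⁻¹ * x * u₁) := by
    have hz : zG m hK = u₁⁻¹ * x ^ 9 * u₁ := by rw [← e]; group
    have hxc : x * x ^ 9 = x ^ 9 * x := by rw [← pow_succ', ← pow_succ]
    calc (u₁⁻¹ * x * u₁) * zG m hK = u₁⁻¹ * (x * x ^ 9) * u₁ := by rw [hz]; group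
      _ = u₁⁻¹ * (x ^ 9 * x) * u₁ := by rw [hxc]
      _ = zG m hK * (u₁⁻¹ * x * u₁) := by rw [hz]; group
  obtain ⟨u', hu', e'⟩ := hx'
  have hu'c : u' * zG m hK = zG m hK * u' := by
    rw [e'] at hcomm
    have : u' * zG m hK * zG m hK = zG m hK * u' * zG m hK := by
      rw [hcomm, mul_assoc]
    exact mul_right_cancel this
  have hu'3 : u' ^ 3 = 1 := cube_uSub_centralizer_zG m hK u'
    (Subgroup.mem_inf.mpr ⟨hu', Subgroup.mem_centralizer_singleton_iff.mpr hu'c⟩)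
  have h6 : (u₁⁻¹ * x * u₁) ^ 6 = 1 := by
    rw [e', (Commute.mul_pow (show Commute u' (zG m hK) from hu'c) 6)]
    have hz6 : zG m hK ^ 6 = 1 := by
      have : zG m hK ^ 2 = 1 := by rw [pow_two]; exact zG_sq m hK
      calc zG m hK ^ 6 = (zG m hK ^ 2) ^ 3 := by rw [← pow_mul]
        _ = 1 := by rw [this, one_pow]
    have hu6 : u' ^ 6 = 1 := by
      calc u' ^ 6 = (u' ^ 3) ^ 2 := by rw [← pow_mul]
        _ = 1 := by rw [hu'3, one_pow]
    rw [hz6, hu6, mul_one]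
  have h7 : (u₁⁻¹ * x * u₁) ^ 6 = u₁⁻¹ * x ^ 6 * u₁ := by
    have := conj_pow (a := u₁⁻¹) (b := x) (i := 6)
    rw [inv_inv] at this
    exact this
  rw [h7] at h6
  calc x ^ 6 = u₁ * (u₁⁻¹ * x ^ 6 * u₁) * u₁⁻¹ := by group
    _ = 1 := by rw [h6]; group

theorem orderOf_mSet (m : ℕ) (hK : Fintype.card K = 3 ^ (2 * m + 1)) (x : ↥(tG2 K (3 ^ m)))
    (hx : x ∈ mSet (K := K) m hK) : orderOf x = 6 := by
  have hc : x ∈ cosetUz (K := K) m hK := hx.1
  have h6 := pow_six_cosetUz m hK x hc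
  have hd : orderOf x ∣ 6 := orderOf_dvd_of_pow_eq_one h6
  have h2 : ¬ orderOf x ∣ 2 := by
    intro h
    apply hx.2
    rw [← pow_two]
    exact orderOf_dvd_iff_pow_eq_one.mp h
  have h3 : ¬ orderOf x ∣ 3 := by
    intro h
    exact pow_odd_ne_one_of_cosetUz m hK x hc 1 (orderOf_dvd_iff_pow_eq_one.mp h)
  have hle : orderOf x ≤ 6 := Nat.le_of_dvd (by norm_num) hd
  interval_cases h : orderOf x
  · simp at hd
  · exact absurd (one_dvd 2) h2
  · exact absurd (dvd_refl 2) h2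
  · exact absurd (dvd_refl 3) h3
  · norm_num at hd
  · norm_num at hd
  · rfl

/-- the set of elements of order six of the Borel subgroup is stable under conjugation by the Borel
subgroup -/
theorem mSet_conj (m : ℕ) (hK : Fintype.card K = 3 ^ (2 * m + 1)) (b x : ↥(tG2 K (3 ^ m)))
    (hb : b ∈ bSub K (3 ^ m)) (hx : x ∈ mSet (K := K) m hK) : b * x * b⁻¹ ∈ mSet (K := K) m hK := by
  refine ⟨cosetUz_conj m hK b x hb hx.1, ?_⟩
  have : b * x * b⁻¹ * (b * x * b⁻¹) = b * (x * x) * b⁻¹ := by group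
  rw [this]
  exact conj_ne_one b _ hx.2

theorem mSet_ti (m : ℕ) (hK : Fintype.card K = 3 ^ (2 * m + 1)) (g x : ↥(tG2 K (3 ^ m)))
    (hx : x ∈ mSet (K := K) m hK) (hgx : g * x * g⁻¹ ∈ mSet (K := K) m hK) : g ∈ bSub K (3 ^ m) := by
  apply mem_bSub_of_conj_uSub m hK g (x * x) (sq_mem_uSub_of_cosetUz m hK x hx.1) hx.2
  have : g * (x * x) * g⁻¹ = g * x * g⁻¹ * (g * x * g⁻¹) := by group
  rw [this]
  exact sq_mem_uSub_of_cosetUz m hK _ hgx.1

/-- counting the conjugates of a set of elements of order six of the Borel subgroup -/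
theorem card_conjUnion_mSet (m : ℕ) (hK : Fintype.card K = 3 ^ (2 * m + 1))
    (S : Set ↥(tG2 K (3 ^ m))) (hS : S ⊆ mSet (K := K) m hK)
    (hconj : ∀ b ∈ bSub K (3 ^ m), ∀ x ∈ S, b * x * b⁻¹ ∈ S) :
    Nat.card ↥(conjUnion S) = ((3 ^ (2 * m + 1)) ^ 3 + 1) * Nat.card ↥S := by
  have h := card_conjUnion S (bSub K (3 ^ m)) hconj
    (fun g x hx hgx => mSet_ti m hK g x (hS hx) (hS hgx))
  rw [card_bSub m hK, card_tG2 m hK] at h
  have hpos : 0 < (3 ^ (2 * m + 1)) ^ 3 * (3 ^ (2 * m + 1) - 1) := by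
    have : 3 ^ 1 ≤ 3 ^ (2 * m + 1) := Nat.pow_le_pow_right (by norm_num) (by omega)
    have h1 : 0 < 3 ^ (2 * m + 1) - 1 := by omega
    positivity
  apply Nat.eq_of_mul_eq_mul_right hpos
  rw [h]; ring

/-- counting the conjugates of a set of nontrivial unipotent elements -/
theorem card_conjUnion_uSub (m : ℕ) (hK : Fintype.card K = 3 ^ (2 * m + 1))
    (S : Set ↥(tG2 K (3 ^ m))) (hS : ∀ x ∈ S, x ∈ uSub K (3 ^ m) ∧ x ≠ 1)
    (hconj : ∀ b ∈ bSub K (3 ^ m), ∀ x ∈ S, b * x * b⁻¹ ∈ S) :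
    Nat.card ↥(conjUnion S) = ((3 ^ (2 * m + 1)) ^ 3 + 1) * Nat.card ↥S := by
  have h := card_conjUnion S (bSub K (3 ^ m)) hconj
    (fun g x hx hgx => mem_bSub_of_conj_uSub m hK g x (hS x hx).1 (hS x hx).2 (hS _ hgx).1)
  rw [card_bSub m hK, card_tG2 m hK] at h
  have hpos : 0 < (3 ^ (2 * m + 1)) ^ 3 * (3 ^ (2 * m + 1) - 1) := by
    have : 3 ^ 1 ≤ 3 ^ (2 * m + 1) := Nat.pow_le_pow_right (by norm_num) (by omega)
    have h1 : 0 < 3 ^ (2 * m + 1) - 1 := by omega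
    positivity
  apply Nat.eq_of_mul_eq_mul_right hpos
  rw [h]; ring

end

end Cfsg.Agent.Lib.Helper3.Ree
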