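import Mathlib
import Cfsg.Agent.Lib.Helper3.Ree58
set_option autoImplicit false
set_option linter.unusedSectionVars false
set_option linter.style.haveILetI false
set_option linter.unusedSimpArgs false
open Cfsg Cfsg.Lie

/-!
The elements of order divisible by three of the twisted group of type `G₂`: they have order three,
nine or six.
-/

namespace Cfsg.Agent.Lib.Helper3.Ree

open Cfsg.Agent.Lib.Helper3.ChevM Cfsg.Agent.Lib.Helper3.SL2P
open Matrix

section
variable {G : Type*} [Group G]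

theorem orderOf_conj'' (g x : G) : orderOf (g⁻¹ * x * g) = orderOf x := by
  have := orderOf_conj' g⁻¹ x
  rw [inv_inv] at this
  exact this

end

section
variable {K : Type*} [Field K] [Fintype K] [CharP K 3]

theorem torusSplit_le_diag (m : ℕ) (a : ↥(tG2 K (3 ^ m))) (ha : a ∈ torusSplit (K := K) m) :
    (a : GL cdG2.D.Idx K) ∈ cdG2.D.diagonalSubgroup K := by
  unfold torusSplit at ha
  exact (Subgroup.mem_subgroupOf.mp ha).1

theorem orderOf_dvd_of_mem_torusSplit (m : ℕ) (hK : Fintype.card K = 3 ^ (2 * m + 1))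
    (a : ↥(tG2 K (3 ^ m))) (ha : a ∈ torusSplit (K := K) m) : orderOf a ∣ 3 ^ (2 * m + 1) - 1 := by
  rw [← card_torusSplit (K := K) m hK]
  exact orderOf_dvd_card_of_mem _ a ha

theorem not_three_dvd_sub_one (m : ℕ) : ¬ 3 ∣ 3 ^ (2 * m + 1) - 1 := by
  intro h
  have h3 : 3 ∣ 3 ^ (2 * m + 1) := dvd_pow_self 3 (by omega)
  have hpos : 0 < 3 ^ (2 * m + 1) := by positivity
  omega

/-- an element of three-power order is conjugate to a unipotent element -/
theorem exists_conj_mem_uSub (m : ℕ) (hK : Fintype.card K = 3 ^ (2 * m + 1)) (x : ↥(tG2 K (3 ^ m)))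
    (k : ℕ) (hx : orderOf x = 3 ^ k) : ∃ g : ↥(tG2 K (3 ^ m)), g * x * g⁻¹ ∈ uSub K (3 ^ m) := by
  haveI : Fact (Nat.Prime 3) := ⟨by norm_num⟩
  exact exists_conj_mem_of_not_dvd_index 3 (uSub K (3 ^ m)) (not_dvd_index_uSub m hK) x
    (isPGroup_zpowers_of_orderOf 3 x k hx)

/-- the elements of order divisible by three are conjugate to unipotent elements or to elements of
the coset `U z` -/
theorem three_dvd_cases (m : ℕ) (hK : Fintype.card K = 3 ^ (2 * m + 1)) (g : ↥(tG2 K (3 ^ m)))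
    (h3 : 3 ∣ orderOf g) :
    ∃ h : ↥(tG2 K (3 ^ m)), h * g * h⁻¹ ∈ uSub K (3 ^ m) ∨ h * g * h⁻¹ ∈ mSet (K := K) m hK := by
  obtain ⟨k, hk⟩ := h3
  have hn0 : orderOf g ≠ 0 := (orderOf_pos g).ne'
  have hk0 : k ≠ 0 := by
    rintro rfl
    rw [mul_zero] at hk
    exact hn0 hk
  have hy : orderOf (g ^ k) = 3 := by
    rw [orderOf_pow_of_dvd hk0 ⟨3, by rw [hk]; ring⟩, hk]
    exact Nat.mul_div_cancel _ (Nat.pos_of_ne_zero hk0)
  obtain ⟨h, hh⟩ := exists_conj_mem_uSub m hK (g ^ k) 1 (by rw [hy, pow_one])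
  refine ⟨h, ?_⟩
  have hy1 : h * g ^ k * h⁻¹ ≠ 1 := by
    apply conj_ne_one
    intro h1
    rw [h1, orderOf_one] at hy
    norm_num at hy
  have hB : h * g * h⁻¹ ∈ bSub K (3 ^ m) := by
    apply mem_bSub_of_conj_uSub m hK _ _ hh hy1
    have : h * g * h⁻¹ * (h * g ^ k * h⁻¹) * (h * g * h⁻¹)⁻¹ = h * (g * g ^ k * g⁻¹) * h⁻¹ := by group
    rw [this]
    have : g * g ^ k * g⁻¹ = g ^ k := by
      rw [← pow_succ', pow_succ]; group
    rw [this]
    exact hh
  obtain ⟨u, hu, a, ha, e⟩ := (mem_bSub_iff' m hK _).mp hB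
  by_cases ha2 : a * a = 1
  · by_cases ha1 : a = 1
    · left
      rw [e, ha1, mul_one]
      exact hu
    · right
      have haz := eq_zG m hK a (torusSplit_le_diag m a ha) ha1 ha2
      refine ⟨⟨u, hu, by rw [e, haz]⟩, ?_⟩
      intro h2
      have h3' : orderOf (h * g * h⁻¹) ∣ 2 := by
        apply orderOf_dvd_of_pow_eq_one
        rw [pow_two]; exact h2
      rw [orderOf_conj', hk] at h3'
      have := Nat.le_of_dvd (by norm_num) h3'
      have hk1 : 1 ≤ k := Nat.pos_of_ne_zero hk0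
      nlinarith
  · exfalso
    obtain ⟨u', hu', e'⟩ := conj_to_torus m hK a u ha ha2 hu
    have h1 : orderOf a = orderOf g := by
      rw [← orderOf_conj' h g, e, ← e', orderOf_conj']
    have h2 := orderOf_dvd_of_mem_torusSplit m hK a ha
    rw [h1, hk] at h2
    exact not_three_dvd_sub_one m (dvd_trans (dvd_mul_right 3 k) h2)

end

end Cfsg.Agent.Lib.Helper3.Ree
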