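import Mathlib
import Cfsg.Agent.Lib.Helper3.Ree59
set_option autoImplicit false
set_option linter.unusedSectionVars false
set_option linter.style.haveILetI false
set_option linter.unusedSimpArgs false
open Cfsg Cfsg.Lie

/-!
The numbers of elements of order three, nine and six of the twisted group of type `G₂`.
-/

namespace Cfsg.Agent.Lib.Helper3.Ree

open Cfsg.Agent.Lib.Helper3.ChevM Cfsg.Agent.Lib.Helper3.SL2P
open Matrix

section
variable {K : Type*} [Field K] [Fintype K] [CharP K 3]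

/-- the unipotent elements of a given order -/
def uOrd (K : Type*) [Field K] [Fintype K] (m n : ℕ) : Set ↥(tG2 K (3 ^ m)) :=
  {x | x ∈ uSub K (3 ^ m) ∧ orderOf x = n}

theorem card_uOrd_three (m : ℕ) (hK : Fintype.card K = 3 ^ (2 * m + 1)) :
    Nat.card ↥(uOrd K m 3) = (3 ^ (2 * m + 1)) ^ 2 - 1 := by
  rw [← card_order_three m hK]
  apply Nat.card_congr
  refine ⟨fun x => ⟨⟨(x : ↥(tG2 K (3 ^ m))).1, Subgroup.mem_subgroupOf.mp x.2.1⟩, ?_⟩,
    fun x => ⟨⟨(x : ↥(cdG2.D.posUnipotent K ⊓ tG2 K (3 ^ m))).1, x.1.2.2⟩,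
      ⟨Subgroup.mem_subgroupOf.mpr x.1.2, ?_⟩⟩, ?_, ?_⟩
  · have h := x.2.2
    rw [← Subgroup.orderOf_coe] at h ⊢
    exact h
  · have h := x.2
    rw [← Subgroup.orderOf_coe] at h ⊢
    exact h
  · intro x; rfl
  · intro x; rfl

theorem uSub_eq_union (m : ℕ) (hK : Fintype.card K = 3 ^ (2 * m + 1)) :
    ((uSub K (3 ^ m) : Subgroup ↥(tG2 K (3 ^ m))) : Set ↥(tG2 K (3 ^ m))) =
      {1} ∪ uOrd K m 3 ∪ uOrd K m 9 := by
  ext x
  constructor
  · intro hx
    have hd := orderOf_dvd_nine_uSub m hK x hx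
    have hle : orderOf x ≤ 9 := Nat.le_of_dvd (by norm_num) hd
    have hpos := orderOf_pos x
    interval_cases h : orderOf x
    · left; left
      rw [Set.mem_singleton_iff]
      exact orderOf_eq_one_iff.mp h
    · norm_num at hd
    · left; right
      exact ⟨hx, h⟩
    · norm_num at hd
    · norm_num at hd
    · norm_num at hd
    · norm_num at hd
    · norm_num at hd
    · right
      exact ⟨hx, h⟩
  · rintro ((h | h) | h)
    · rw [Set.mem_singleton_iff] at h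
      rw [h]
      exact Subgroup.one_mem _
    · exact h.1
    · exact h.1

theorem card_uOrd_nine (m : ℕ) (hK : Fintype.card K = 3 ^ (2 * m + 1)) :
    Nat.card ↥(uOrd K m 9) = (3 ^ (2 * m + 1)) ^ 3 - (3 ^ (2 * m + 1)) ^ 2 := by
  have h1 := card_uSub (K := K) m hK
  have hd1 : Disjoint ({1} : Set ↥(tG2 K (3 ^ m))) (uOrd K m 3) := by
    rw [Set.disjoint_left]
    intro x hx hx'
    rw [Set.mem_singleton_iff] at hx
    have := hx'.2
    rw [hx, orderOf_one] at this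
    norm_num at this
  have hd2 : Disjoint (({1} : Set ↥(tG2 K (3 ^ m))) ∪ uOrd K m 3) (uOrd K m 9) := by
    rw [Set.disjoint_left]
    rintro x (hx | hx) hx'
    · rw [Set.mem_singleton_iff] at hx
      have := hx'.2
      rw [hx, orderOf_one] at this
      norm_num at this
    · have := hx'.2
      rw [hx.2] at this
      norm_num at this
  have h2 : Nat.card ↥(uSub K (3 ^ m)) =
      Nat.card ↥((uSub K (3 ^ m) : Subgroup ↥(tG2 K (3 ^ m))) : Set ↥(tG2 K (3 ^ m))) := rfl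
  rw [h2, uSub_eq_union m hK, Nat.card_coe_set_eq, Set.ncard_union_eq hd2 (Set.toFinite _) (Set.toFinite _),
    Set.ncard_union_eq hd1 (Set.toFinite _) (Set.toFinite _), Set.ncard_singleton,
    ← Nat.card_coe_set_eq, ← Nat.card_coe_set_eq, card_uOrd_three m hK] at h1
  have hq : 1 ≤ (3 ^ (2 * m + 1)) ^ 2 := Nat.one_le_pow _ _ (by positivity)
  omega

theorem uOrd_conj (m : ℕ) (hK : Fintype.card K = 3 ^ (2 * m + 1)) (n : ℕ) (b x : ↥(tG2 K (3 ^ m)))
    (hb : b ∈ bSub K (3 ^ m)) (hx : x ∈ uOrd K m n) : b * x * b⁻¹ ∈ uOrd K m n :=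
  ⟨bSub_conj_uSub m hK b x hb hx.1, by rw [orderOf_conj']; exact hx.2⟩

theorem card_conjUnion_uOrd (m : ℕ) (hK : Fintype.card K = 3 ^ (2 * m + 1)) (n : ℕ) (hn : n ≠ 1) :
    Nat.card ↥(conjUnion (uOrd K m n)) = ((3 ^ (2 * m + 1)) ^ 3 + 1) * Nat.card ↥(uOrd K m n) := by
  apply card_conjUnion_uSub m hK
  · intro x hx
    refine ⟨hx.1, ?_⟩
    rintro rfl
    apply hn
    rw [← hx.2, orderOf_one]
  · intro b hb x hx
    exact uOrd_conj m hK n b x hb hx

/-- the elements of order three or nine are conjugate to unipotent elements -/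
theorem ordSet_eq_conjUnion_uOrd (m : ℕ) (hK : Fintype.card K = 3 ^ (2 * m + 1)) (n : ℕ)
    (hn : n = 3 ∨ n = 9) : {g : ↥(tG2 K (3 ^ m)) | orderOf g = n} = conjUnion (uOrd K m n) := by
  ext g
  constructor
  · intro hg
    have hg' : orderOf g = n := hg
    have h3 : 3 ∣ orderOf g := by
      rw [hg']
      rcases hn with rfl | rfl <;> norm_num
    obtain ⟨h, hh | hh⟩ := three_dvd_cases m hK g h3
    · refine ⟨h⁻¹, ?_⟩
      rw [inv_inv]
      exact ⟨hh, by rw [orderOf_conj']; exact hg'⟩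
    · exfalso
      have := orderOf_mSet m hK _ hh
      rw [orderOf_conj', hg'] at this
      rcases hn with rfl | rfl <;> norm_num at this
  · rintro ⟨h, hh⟩
    have := hh.2
    rw [orderOf_conj''] at this
    exact this

theorem ordSet_six_eq (m : ℕ) (hK : Fintype.card K = 3 ^ (2 * m + 1)) :
    {g : ↥(tG2 K (3 ^ m)) | orderOf g = 6} = conjUnion (mSet (K := K) m hK) := by
  ext g
  constructor
  · intro hg
    have hg' : orderOf g = 6 := hg
    have h3 : 3 ∣ orderOf g := by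
      rw [hg']; norm_num
    obtain ⟨h, hh | hh⟩ := three_dvd_cases m hK g h3
    · exfalso
      have := orderOf_dvd_nine_uSub m hK _ hh
      rw [orderOf_conj', hg'] at this
      norm_num at this
    · refine ⟨h⁻¹, ?_⟩
      rw [inv_inv]
      exact hh
  · rintro ⟨h, hh⟩
    have := orderOf_mSet m hK _ hh
    rw [orderOf_conj''] at this
    exact this

theorem card_order_three_ree (m : ℕ) (hK : Fintype.card K = 3 ^ (2 * m + 1)) :
    Nat.card {g : ↥(tG2 K (3 ^ m)) // orderOf g = 3} =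
      ((3 ^ (2 * m + 1)) ^ 2 - 1) * ((3 ^ (2 * m + 1)) ^ 3 + 1) := by
  have h := ordSet_eq_conjUnion_uOrd m hK 3 (Or.inl rfl)
  have h1 : Nat.card {g : ↥(tG2 K (3 ^ m)) // orderOf g = 3} =
      Nat.card ↥{g : ↥(tG2 K (3 ^ m)) | orderOf g = 3} := rfl
  rw [h1, h, card_conjUnion_uOrd m hK 3 (by norm_num), card_uOrd_three m hK, mul_comm]

theorem card_order_nine_ree (m : ℕ) (hK : Fintype.card K = 3 ^ (2 * m + 1)) :
    Nat.card {g : ↥(tG2 K (3 ^ m)) // orderOf g = 9} =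
      (3 ^ (2 * m + 1)) ^ 2 * (3 ^ (2 * m + 1) - 1) * ((3 ^ (2 * m + 1)) ^ 3 + 1) := by
  have h := ordSet_eq_conjUnion_uOrd m hK 9 (Or.inr rfl)
  have h1 : Nat.card {g : ↥(tG2 K (3 ^ m)) // orderOf g = 9} =
      Nat.card ↥{g : ↥(tG2 K (3 ^ m)) | orderOf g = 9} := rfl
  rw [h1, h, card_conjUnion_uOrd m hK 9 (by norm_num), card_uOrd_nine m hK, mul_comm]
  congr 1
  rw [Nat.mul_sub, mul_one, ← pow_succ]

theorem card_order_six_ree (m : ℕ) (hK : Fintype.card K = 3 ^ (2 * m + 1)) :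
    Nat.card {g : ↥(tG2 K (3 ^ m)) // orderOf g = 6} =
      (3 ^ (2 * m + 1)) ^ 2 * (3 ^ (2 * m + 1) - 1) * ((3 ^ (2 * m + 1)) ^ 3 + 1) := by
  have h := ordSet_six_eq (K := K) m hK
  have h1 : Nat.card {g : ↥(tG2 K (3 ^ m)) // orderOf g = 6} =
      Nat.card ↥{g : ↥(tG2 K (3 ^ m)) | orderOf g = 6} := rfl
  rw [h1, h, card_conjUnion_mSet m hK _ (le_refl _) (fun b hb x hx => mSet_conj m hK b x hb hx),
    card_mSet m hK, mul_comm]
  congr 1
  rw [Nat.mul_sub, mul_one, ← pow_succ]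

end

end Cfsg.Agent.Lib.Helper3.Ree
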