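import Mathlib
import Cfsg.Agent.Lib.Helper3.Ree60
import Cfsg.Agent.Lib.Helper5.SL2TorusNorm
set_option autoImplicit false
set_option linter.unusedSectionVars false
set_option linter.style.haveILetI false
set_option linter.unusedSimpArgs false
open Cfsg Cfsg.Lie

/-!
The centralizer of the four-group of the nonsplit torus of the twisted group of type `G₂`.
-/

namespace Cfsg.Agent.Lib.Helper3.Ree

open Cfsg.Agent.Lib.Helper3.ChevM Cfsg.Agent.Lib.Helper3.SL2P
open Matrix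

section
variable {K : Type*} [Field K] [Fintype K] [CharP K 3]

theorem four_ne_zero_three : (0 : K) ^ 2 ≠ 4 := by
  have h3 := three_eq_zero (K := K)
  intro h
  have : (1 : K) = 0 := by linear_combination -h - h3
  exact one_ne_zero this

/-- an element of `SL₂(K)` whose square is `-1` has trace zero -/
theorem trace_eq_zero_of_sq (A : SpecialLinearGroup (Fin 2) K) (hA : A * A = wE * wE) :
    (A : Matrix (Fin 2) (Fin 2) K).trace = 0 := by
  have h1 : A⁻¹ = wE * wE * A := by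
    apply inv_eq_of_mul_eq_one_right
    rw [← mul_assoc, negE_comm A, mul_assoc, hA, wE_sq_sq]
  have h2 := Cfsg.Agent.Lib.Helper5.coe_inv_eq A
  rw [h1] at h2
  have h00 := congrFun (congrFun h2 0) 0
  have h01 := congrFun (congrFun h2 0) 1
  have h10 := congrFun (congrFun h2 1) 0
  have h11 := congrFun (congrFun h2 1) 1
  have e := fun i j => neg_entries A i j
  have e00 : ((wE * wE * A : SpecialLinearGroup (Fin 2) K) : Matrix (Fin 2) (Fin 2) K) 0 0 = -A.1 0 0 := e 0 0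
  rw [e00] at h00
  simp at h00
  linear_combination -h00

/-- elements of `SL₂(K)` whose square is `-1` are conjugate -/
theorem isConj_of_sq (A B : SpecialLinearGroup (Fin 2) K) (hA : A * A = wE * wE) (hB : B * B = wE * wE) :
    IsConj A B := by
  classical
  apply Cfsg.Agent.Lib.Helper5.isConj_of_trace_eq A B
  · rw [trace_eq_zero_of_sq A hA, trace_eq_zero_of_sq B hB]
  · rw [trace_eq_zero_of_sq A hA]
    exact four_ne_zero_three

/-- the element of order four of the torus of `SL₂(K)` -/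
noncomputable def t0 (m : ℕ) (g₀ : SpecialLinearGroup (Fin 2) K) : SpecialLinearGroup (Fin 2) K :=
  g₀ ^ ((3 ^ (2 * m + 1) + 1) / 4)

theorem tD_eq (m : ℕ) (g₀ : SpecialLinearGroup (Fin 2) K) : tD m g₀ = psiR m (t0 m g₀) := rfl

theorem t0_mem (m : ℕ) (g₀ : SpecialLinearGroup (Fin 2) K) : t0 m g₀ ∈ Subgroup.zpowers g₀ :=
  Subgroup.pow_mem _ (Subgroup.mem_zpowers g₀) _

theorem t0_sq (m : ℕ) (hm : 1 ≤ m) (g₀ : SpecialLinearGroup (Fin 2) K)
    (hg₀ : orderOf g₀ = 3 ^ (2 * m + 1) + 1) : t0 m g₀ * t0 m g₀ = wE * wE :=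
  torus_pow_quarter_sq m hm g₀ hg₀

theorem not_scalar_of_sq (A : SpecialLinearGroup (Fin 2) K) (hA : A * A = wE * wE) :
    ¬ ∃ r : K, (A : Matrix (Fin 2) (Fin 2) K) = r • (1 : Matrix (Fin 2) (Fin 2) K) := by
  rintro ⟨r, hr⟩
  have hr2 := (Cfsg.Agent.Lib.Helper5.sq_eq_four_of_scalar A r hr).2
  have h2 : A * A = 1 := by
    apply Subtype.ext
    show (A : Matrix (Fin 2) (Fin 2) K) * (A : Matrix (Fin 2) (Fin 2) K) = 1
    rw [hr, Matrix.smul_mul, Matrix.mul_smul, Matrix.one_mul, smul_smul, ← pow_two, hr2, one_smul]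
  rw [hA] at h2
  exact negE_ne_one h2

theorem inv_of_sq (A : SpecialLinearGroup (Fin 2) K) (hA : A * A = wE * wE) : A⁻¹ = wE * wE * A := by
  apply inv_eq_of_mul_eq_one_right
  rw [← mul_assoc, negE_comm A, mul_assoc, hA, wE_sq_sq]

theorem centralizer_t0 (m : ℕ) (hm : 1 ≤ m) (hK : Fintype.card K = 3 ^ (2 * m + 1))
    (g₀ : SpecialLinearGroup (Fin 2) K) (hg₀ : orderOf g₀ = 3 ^ (2 * m + 1) + 1) :
    Subgroup.centralizer ({t0 m g₀} : Set (SpecialLinearGroup (Fin 2) K)) = Subgroup.zpowers g₀ := by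
  classical
  have hcard : Nat.card ↥(Subgroup.zpowers g₀) = Fintype.card K + 1 := by
    rw [Nat.card_zpowers, hg₀, hK]
  exact (Cfsg.Agent.Lib.Helper5.torus_structure (Subgroup.zpowers g₀) inferInstance hcard _ (t0_mem m g₀)
    (not_scalar_of_sq _ (t0_sq m hm g₀ hg₀))).1

theorem trace_sq_of_sq (A : SpecialLinearGroup (Fin 2) K) (hA : A * A = wE * wE) :
    (A : Matrix (Fin 2) (Fin 2) K).trace ^ 2 ≠ 4 := by
  rw [trace_eq_zero_of_sq A hA]
  exact four_ne_zero_three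

theorem ne_neg_self (A : SpecialLinearGroup (Fin 2) K) : wE * wE * A ≠ A := by
  intro h
  apply negE_ne_one (K := K)
  calc (wE (F := K)) * wE = wE * wE * A * A⁻¹ := by group
    _ = 1 := by rw [h]; group

/-- the centralizer of the four-group of the nonsplit torus -/
def cV (m : ℕ) (hK : Fintype.card K = 3 ^ (2 * m + 1)) (g₀ : SpecialLinearGroup (Fin 2) K) :
    Subgroup ↥(tG2 K (3 ^ m)) :=
  Subgroup.centralizer {zG m hK} ⊓ Subgroup.centralizer {tD m g₀}

theorem torusD_le_cV (m : ℕ) (hK : Fintype.card K = 3 ^ (2 * m + 1)) (g₀ : SpecialLinearGroup (Fin 2) K) :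
    torusD m hK g₀ ≤ cV m hK g₀ := by
  intro x hx
  refine Subgroup.mem_inf.mpr ⟨Subgroup.mem_centralizer_singleton_iff.mpr ?_,
    Subgroup.mem_centralizer_singleton_iff.mpr ?_⟩
  · exact torusD_comm m hK g₀ _ _ hx (zG_mem_torusD m hK g₀)
  · exact torusD_comm m hK g₀ _ _ hx (tD_mem_torusD m hK g₀)

/-- the normalizer in `SL₂(K)` of the nonsplit torus -/
def nT0 (m : ℕ) (g₀ : SpecialLinearGroup (Fin 2) K) : Subgroup (SpecialLinearGroup (Fin 2) K) :=
  Subgroup.normalizer ((Subgroup.centralizer ({t0 m g₀} : Set (SpecialLinearGroup (Fin 2) K)) :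
    Subgroup (SpecialLinearGroup (Fin 2) K)) : Set (SpecialLinearGroup (Fin 2) K))

theorem mem_nT0_iff (m : ℕ) (hm : 1 ≤ m) (g₀ : SpecialLinearGroup (Fin 2) K)
    (hg₀ : orderOf g₀ = 3 ^ (2 * m + 1) + 1) (X : SpecialLinearGroup (Fin 2) K) :
    X ∈ nT0 m g₀ ↔ (X * t0 m g₀ = t0 m g₀ * X ∨ X * t0 m g₀ = wE * wE * (t0 m g₀ * X)) := by
  have hsq := t0_sq m hm g₀ hg₀
  unfold nT0
  rw [Cfsg.Agent.Lib.Helper5.mem_normalizer_iff_conj two_ne_zero_three' _ (trace_sq_of_sq _ hsq),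
    inv_of_sq _ hsq]
  constructor
  · rintro (h | h)
    · left
      calc X * t0 m g₀ = X * t0 m g₀ * X⁻¹ * X := by group
        _ = t0 m g₀ * X := by rw [h]
    · right
      calc X * t0 m g₀ = X * t0 m g₀ * X⁻¹ * X := by group
        _ = wE * wE * (t0 m g₀ * X) := by rw [h, mul_assoc]
  · rintro (h | h)
    · left
      rw [h]; group
    · right
      rw [h]; group

theorem psiR_comm_tD_iff (m : ℕ) (hm : 1 ≤ m) (g₀ : SpecialLinearGroup (Fin 2) K)
    (hg₀ : orderOf g₀ = 3 ^ (2 * m + 1) + 1) (X : SpecialLinearGroup (Fin 2) K) :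
    psiR m X * tD m g₀ = tD m g₀ * psiR m X ↔ X ∈ nT0 m g₀ := by
  rw [mem_nT0_iff m hm g₀ hg₀, tD_eq, ← map_mul, ← map_mul]
  constructor
  · intro h
    exact psiR_eq_iff m _ _ h
  · rintro (h | h)
    · rw [h]
    · rw [h, psiR_neg]

theorem mem_cV_iff (m : ℕ) (hm : 1 ≤ m) (hK : Fintype.card K = 3 ^ (2 * m + 1))
    (g₀ : SpecialLinearGroup (Fin 2) K) (hg₀ : orderOf g₀ = 3 ^ (2 * m + 1) + 1) (x : ↥(tG2 K (3 ^ m))) :
    x ∈ cV m hK g₀ ↔ ∃ X ∈ nT0 m g₀, x = psiR m X ∨ x = zG m hK * psiR m X := by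
  unfold cV
  rw [Subgroup.mem_inf, Subgroup.mem_centralizer_singleton_iff, Subgroup.mem_centralizer_singleton_iff]
  constructor
  · rintro ⟨hz, ht⟩
    obtain ⟨X, hX | hX⟩ := centralizer_zG m hK x hz.symm
    · refine ⟨X, ?_, Or.inl hX⟩
      rw [← psiR_comm_tD_iff m hm g₀ hg₀, ← hX]
      exact ht
    · refine ⟨X, ?_, Or.inr hX⟩
      rw [← psiR_comm_tD_iff m hm g₀ hg₀]
      have hzt : zG m hK * tD m g₀ = tD m g₀ * zG m hK := zG_comm_psiR m hK _
      rw [hX] at ht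
      have : zG m hK * (psiR m X * tD m g₀) = zG m hK * (tD m g₀ * psiR m X) := by
        rw [← mul_assoc, ht, ← mul_assoc, ← hzt, mul_assoc]
      exact mul_left_cancel this
  · rintro ⟨X, hX, h | h⟩
    · rw [h]
      exact ⟨(zG_comm_psiR m hK X).symm, (psiR_comm_tD_iff m hm g₀ hg₀ X).mpr hX⟩
    · rw [h]
      have hc := (psiR_comm_tD_iff m hm g₀ hg₀ X).mpr hX
      have hzt : zG m hK * tD m g₀ = tD m g₀ * zG m hK := zG_comm_psiR m hK _
      refine ⟨?_, ?_⟩
      · rw [mul_assoc, ← zG_comm_psiR m hK X, ← mul_assoc]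
      · rw [mul_assoc, hc, ← mul_assoc, hzt, mul_assoc]

end

end Cfsg.Agent.Lib.Helper3.Ree
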