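import Mathlib
import Cfsg.Agent.Lib.Helper3.Ree61
set_option autoImplicit false
set_option linter.unusedSectionVars false
set_option linter.style.haveILetI false
set_option linter.unusedSimpArgs false
open Cfsg Cfsg.Lie

/-!
The order of the centralizer of the four-group of the nonsplit torus of the twisted group of type `G₂`.
-/

namespace Cfsg.Agent.Lib.Helper3.Ree

open Cfsg.Agent.Lib.Helper3.ChevM Cfsg.Agent.Lib.Helper3.SL2P
open Matrix

section
variable {K : Type*} [Field K] [Fintype K] [CharP K 3]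

theorem card_nT0 (m : ℕ) (hm : 1 ≤ m) (hK : Fintype.card K = 3 ^ (2 * m + 1))
    (g₀ : SpecialLinearGroup (Fin 2) K) (hg₀ : orderOf g₀ = 3 ^ (2 * m + 1) + 1) :
    Nat.card ↥(nT0 m g₀) = 2 * (3 ^ (2 * m + 1) + 1) := by
  classical
  have hsq := t0_sq m hm g₀ hg₀
  unfold nT0
  rw [Cfsg.Agent.Lib.Helper5.card_normalizer_centralizer two_ne_zero_three' _ (trace_sq_of_sq _ hsq),
    centralizer_t0 m hm hK g₀ hg₀, Nat.card_zpowers, hg₀]

theorem negE_mul_mem_nT0 (m : ℕ) (g₀ : SpecialLinearGroup (Fin 2) K) (X : SpecialLinearGroup (Fin 2) K)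
    (hX : X ∈ nT0 m g₀) : wE * wE * X ∈ nT0 m g₀ := by
  apply Subgroup.mul_mem _ _ hX
  apply Subgroup.le_normalizer
  apply Subgroup.mem_centralizer_singleton_iff.mpr
  exact (negE_comm (K := K) _).symm

/-- the order of the centralizer of the four-group -/
theorem card_cV (m : ℕ) (hm : 1 ≤ m) (hK : Fintype.card K = 3 ^ (2 * m + 1))
    (g₀ : SpecialLinearGroup (Fin 2) K) (hg₀ : orderOf g₀ = 3 ^ (2 * m + 1) + 1) :
    Nat.card ↥(cV m hK g₀) = 2 * (3 ^ (2 * m + 1) + 1) := by
  classical
  set S := cV m hK g₀ with hS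
  have hmemS : ∀ (b : Bool) (X : ↥(nT0 m g₀)),
      (if b then zG m hK else 1) * psiR m (X : SpecialLinearGroup (Fin 2) K) ∈ S := by
    intro b X
    rw [hS, mem_cV_iff m hm hK g₀ hg₀]
    refine ⟨X, X.2, ?_⟩
    cases b
    · left; simp
    · right; simp
  have hcard := Cfsg.Agent.Lib.Helper5.card_eq_two_mul_of_two_to_one
    (fun p : Bool × ↥(nT0 m g₀) => (⟨_, hmemS p.1 p.2⟩ : ↥S)) ?_
    (fun p : Bool × ↥(nT0 m g₀) => ((p.1, ⟨_, negE_mul_mem_nT0 m g₀ _ p.2.2⟩) : Bool × ↥(nT0 m g₀))) ?_ ?_
  · rw [Nat.card_prod, Nat.card_eq_fintype_card (α := Bool), Fintype.card_bool,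
      card_nT0 m hm hK g₀ hg₀] at hcard
    omega
  · -- surjectivity
    rintro ⟨g, hg⟩
    obtain ⟨A, hAN, hA | hA⟩ := (mem_cV_iff m hm hK g₀ hg₀ g).mp hg
    · refine ⟨(false, ⟨A, hAN⟩), ?_⟩
      apply Subtype.ext
      show (if false = true then zG m hK else 1) * psiR m A = g
      simp only [Bool.false_eq_true, if_false, one_mul]
      exact hA.symm
    · refine ⟨(true, ⟨A, hAN⟩), ?_⟩
      apply Subtype.ext
      show (if true = true then zG m hK else 1) * psiR m A = g
      simp only [if_true]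
      exact hA.symm
  · rintro ⟨b, X⟩ h
    have h1 := congrArg (fun p : Bool × ↥(nT0 m g₀) => (p.2 : SpecialLinearGroup (Fin 2) K)) h
    dsimp only at h1
    exact ne_neg_self _ h1
  · rintro ⟨b, X⟩ ⟨b', X'⟩
    dsimp only
    constructor
    · intro h
      have h1 := congrArg (fun s : ↥S => (s : ↥(tG2 K (3 ^ m)))) h
      dsimp only at h1
      have hbb : b = b' := by
        by_contra hne
        apply zG_not_mem_range (K := K) m hK
        cases b <;> cases b'
        · exact absurd rfl hne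
        · simp only [Bool.false_eq_true, if_false, one_mul, if_true] at h1
          refine ⟨(X : SpecialLinearGroup (Fin 2) K) * (X' : SpecialLinearGroup (Fin 2) K)⁻¹, ?_⟩
          rw [map_mul, map_inv, h1]; group
        · simp only [Bool.false_eq_true, if_false, one_mul, if_true] at h1
          refine ⟨(X' : SpecialLinearGroup (Fin 2) K) * (X : SpecialLinearGroup (Fin 2) K)⁻¹, ?_⟩
          rw [map_mul, map_inv, ← h1]; group
        · exact absurd rfl hne
      subst hbb
      have h2 : psiR m (X : SpecialLinearGroup (Fin 2) K) = psiR m (X' : SpecialLinearGroup (Fin 2) K) :=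
        mul_left_cancel h1
      rcases psiR_eq_iff m _ _ h2 with h3 | h3
      · left
        have : X' = X := Subtype.ext h3.symm
        rw [this]
      · right
        have : X' = ⟨_, negE_mul_mem_nT0 m g₀ _ X.2⟩ := by
          apply Subtype.ext
          show (X' : SpecialLinearGroup (Fin 2) K) = wE * wE * (X : SpecialLinearGroup (Fin 2) K)
          rw [h3, ← mul_assoc, wE_sq_sq, one_mul]
        rw [this]
    · rintro (h | h)
      · obtain ⟨rfl, rfl⟩ := Prod.mk.inj h
        rfl
      · obtain ⟨rfl, rfl⟩ := Prod.mk.inj h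
        apply Subtype.ext
        show (if b' then zG m hK else 1) * psiR m (X : SpecialLinearGroup (Fin 2) K) =
          (if b' then zG m hK else 1) * psiR m (wE * wE * (X : SpecialLinearGroup (Fin 2) K))
        rw [psiR_neg]

/-- the elements of the centralizer of the four-group outside the torus are involutions -/
theorem cV_cases (m : ℕ) (hm : 1 ≤ m) (hK : Fintype.card K = 3 ^ (2 * m + 1))
    (g₀ : SpecialLinearGroup (Fin 2) K) (hg₀ : orderOf g₀ = 3 ^ (2 * m + 1) + 1) (x : ↥(tG2 K (3 ^ m)))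
    (hx : x ∈ cV m hK g₀) : x ∈ torusD m hK g₀ ∨ x * x = 1 := by
  have hsq := t0_sq m hm g₀ hg₀
  obtain ⟨X, hXN, hX⟩ := (mem_cV_iff m hm hK g₀ hg₀ x).mp hx
  by_cases hXC : X ∈ Subgroup.centralizer ({t0 m g₀} : Set (SpecialLinearGroup (Fin 2) K))
  · left
    rw [centralizer_t0 m hm hK g₀ hg₀] at hXC
    exact ⟨X, hXC, hX⟩
  · right
    classical
    have h1 := Cfsg.Agent.Lib.Helper5.mul_self_eq_negOne_of_mem_normalizer two_ne_zero_three' _
      (trace_sq_of_sq _ hsq) X hXN hXC
    rw [← negE_eq] at h1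
    have h2 : psiR m X * psiR m X = 1 := by rw [← map_mul, h1, psiR_wE_sq]
    rcases hX with rfl | rfl
    · exact h2
    · calc zG m hK * psiR m X * (zG m hK * psiR m X)
          = zG m hK * (psiR m X * zG m hK) * psiR m X := by group
        _ = zG m hK * (zG m hK * psiR m X) * psiR m X := by rw [zG_comm_psiR m hK X]
        _ = (zG m hK * zG m hK) * (psiR m X * psiR m X) := by group
        _ = 1 := by rw [zG_sq, h2, one_mul]

end

end Cfsg.Agent.Lib.Helper3.Ree
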