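import Mathlib
import Cfsg.Agent.Lib.Helper3.Ree62
set_option autoImplicit false
set_option linter.unusedSectionVars false
set_option linter.style.haveILetI false
set_option linter.unusedSimpArgs false
open Cfsg Cfsg.Lie

/-!
An element of the twisted group of type `G₂` permuting cyclically the three involutions of the
nonsplit torus.
-/

namespace Cfsg.Agent.Lib.Helper3.Ree

open Cfsg.Agent.Lib.Helper3.ChevM Cfsg.Agent.Lib.Helper3.SL2P
open Matrix

section
variable {K : Type*} [Field K] [Fintype K] [CharP K 3]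

theorem bG_ne_one (m : ℕ) : bG (K := K) m ≠ 1 := by
  intro h
  apply psiR_not_mem_borelG (K := K) m mE mE_10
  have : psiR (K := K) m mE = 1 := h
  rw [this]
  exact Subgroup.one_mem _

/-- an involution `s` commuting with `zG` and an element permuting `zG`, `s`, `zG * s` cyclically -/
theorem exists_three_cycle_aux (m : ℕ) (hm : 1 ≤ m) (hK : Fintype.card K = 3 ^ (2 * m + 1)) :
    ∃ s c : ↥(tG2 K (3 ^ m)), s * s = 1 ∧ s ≠ 1 ∧ zG m hK * s = s * zG m hK ∧
      c * zG m hK * c⁻¹ = s ∧ c * s * c⁻¹ = zG m hK * s := by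
  haveI : Fact (Nat.Prime 2) := ⟨Nat.prime_two⟩
  obtain ⟨E, hE8, hexp, hz, ha, hb, hform⟩ := exists_e8_ree (K := K) m hK
  obtain ⟨k, hk, hG⟩ := card_tG2_eq (K := K) m hK
  have hfac := factorization_two_of_eight_mul _ k hk hG
  set S₀ : Sylow 2 ↥(tG2 K (3 ^ m)) := Sylow.ofCard E (by rw [hE8, hfac]; norm_num) with hS₀
  have hS₀E : (S₀ : Subgroup ↥(tG2 K (3 ^ m))) = E := Sylow.coe_ofCard _ _
  have hcomm := comm_of_exp_two E hexp
  have ha1 : aG (K := K) m ≠ 1 := by
    intro h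
    apply psiR_not_mem_borelG (K := K) m wE wE_10
    have : psiR (K := K) m wE = 1 := h
    rw [this]
    exact Subgroup.one_mem _
  obtain ⟨n, hn, hnz⟩ := normalizer_transitive_e8 k hk hG (ree_perfect m hm hK) S₀ (by rw [hS₀E]; exact hE8)
    (by rw [hS₀E]; exact hexp) (aG m) (zG m hK) (by rw [hS₀E]; exact ha) ha1 (by rw [hS₀E]; exact hz)
    (zG_ne_one m hK)
  rw [hS₀E] at hn
  have hsE : n * bG m * n⁻¹ ∈ E := (Subgroup.mem_normalizer_iff.mp hn _).mp hb
  have hnz' : n⁻¹ * zG m hK * n = aG m := by rw [← hnz]; group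
  refine ⟨n * bG m * n⁻¹, n * cG m * n⁻¹, hexp _ hsE, conj_ne_one _ _ (bG_ne_one m),
    hcomm _ hz _ hsE, ?_, ?_⟩
  · calc n * cG m * n⁻¹ * zG m hK * (n * cG m * n⁻¹)⁻¹
        = n * (cG m * (n⁻¹ * zG m hK * n) * (cG m)⁻¹) * n⁻¹ := by group
      _ = n * bG m * n⁻¹ := by rw [hnz', cG_conj_aG]
  · calc n * cG m * n⁻¹ * (n * bG m * n⁻¹) * (n * cG m * n⁻¹)⁻¹
        = n * (cG m * bG m * (cG m)⁻¹) * n⁻¹ := by group
      _ = n * (aG m * bG m) * n⁻¹ := by rw [cG_conj_bG]
      _ = (n * aG m * n⁻¹) * (n * bG m * n⁻¹) := by group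
      _ = zG m hK * (n * bG m * n⁻¹) := by rw [hnz]

/-- an element permuting cyclically the three involutions of the nonsplit torus -/
theorem exists_three_cycle (m : ℕ) (hm : 1 ≤ m) (hK : Fintype.card K = 3 ^ (2 * m + 1))
    (g₀ : SpecialLinearGroup (Fin 2) K) (hg₀ : orderOf g₀ = 3 ^ (2 * m + 1) + 1) :
    ∃ c : ↥(tG2 K (3 ^ m)), c * zG m hK * c⁻¹ = tD m g₀ ∧ c * tD m g₀ * c⁻¹ = zG m hK * tD m g₀ := by
  obtain ⟨s, c, hs2, hs1, hzs, hcz, hcs⟩ := exists_three_cycle_aux (K := K) m hm hK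
  have hsz : s ≠ zG m hK := by
    intro h
    rw [h, zG_sq] at hcs
    apply zG_ne_one (K := K) m hK
    calc zG m hK = c⁻¹ * (c * zG m hK * c⁻¹) * c := by group
      _ = 1 := by rw [hcs]; group
  obtain ⟨A, hA⟩ := centralizer_zG m hK s hzs
  -- the part of `s` in the image of `SL₂(K)`
  have hA2 : psiR m A * psiR m A = 1 := by
    rcases hA with hA | hA
    · rw [← hA]; exact hs2
    · have h1 : s * s = (zG m hK * zG m hK) * (psiR m A * psiR m A) := by
        rw [hA]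
        calc zG m hK * psiR m A * (zG m hK * psiR m A)
            = zG m hK * (psiR m A * zG m hK) * psiR m A := by group
          _ = zG m hK * (zG m hK * psiR m A) * psiR m A := by rw [zG_comm_psiR m hK A]
          _ = _ := by group
      rw [hs2, zG_sq, one_mul] at h1
      exact h1.symm
  have hA1 : psiR m A ≠ 1 := by
    intro h
    rcases hA with hA | hA
    · exact hs1 (by rw [hA, h])
    · exact hsz (by rw [hA, h, mul_one])
  have hAsq : A * A = wE * wE := by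
    have h1 : psiR m (A * A) = psiR m 1 := by rw [map_mul, hA2, map_one]
    rcases psiR_eq_iff m _ _ h1 with h2 | h2
    · exfalso
      rcases Cfsg.Agent.Lib.Helper5.eq_one_or_negOne_of_mul_self two_ne_zero_three' A h2 with h3 | h3
      · exact hA1 (by rw [h3, map_one])
      · exact hA1 (by rw [h3, ← negE_eq, psiR_wE_sq])
    · rw [h2, mul_one]
  obtain ⟨P, hP⟩ := isConj_iff.mp (isConj_of_sq A (t0 m g₀) hAsq (t0_sq m hm g₀ hg₀))
  have hPs : psiR m P * psiR m A * (psiR m P)⁻¹ = tD m g₀ := by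
    rw [tD_eq, ← hP, map_mul, map_mul, map_inv]
  have hPz : psiR m P * zG m hK * (psiR m P)⁻¹ = zG m hK := by
    rw [← zG_comm_psiR m hK P]; group
  -- the conjugate of `c`
  obtain ⟨c', hc'⟩ : ∃ c', c' = psiR m P * c * (psiR m P)⁻¹ := ⟨_, rfl⟩
  have hc'z : c' * zG m hK * c'⁻¹ = psiR m P * s * (psiR m P)⁻¹ := by
    rw [hc']
    calc psiR m P * c * (psiR m P)⁻¹ * zG m hK * (psiR m P * c * (psiR m P)⁻¹)⁻¹
        = psiR m P * (c * ((psiR m P)⁻¹ * zG m hK * psiR m P) * c⁻¹) * (psiR m P)⁻¹ := by group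
      _ = psiR m P * (c * zG m hK * c⁻¹) * (psiR m P)⁻¹ := by
          have : (psiR m P)⁻¹ * zG m hK * psiR m P = zG m hK := by
            rw [mul_assoc, zG_comm_psiR m hK P]; group
          rw [this]
      _ = _ := by rw [hcz]
  have hc's : c' * (psiR m P * s * (psiR m P)⁻¹) * c'⁻¹ = zG m hK * (psiR m P * s * (psiR m P)⁻¹) := by
    rw [hc']
    calc psiR m P * c * (psiR m P)⁻¹ * (psiR m P * s * (psiR m P)⁻¹) * (psiR m P * c * (psiR m P)⁻¹)⁻¹
        = psiR m P * (c * s * c⁻¹) * (psiR m P)⁻¹ := by group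
      _ = psiR m P * (zG m hK * s) * (psiR m P)⁻¹ := by rw [hcs]
      _ = (psiR m P * zG m hK * (psiR m P)⁻¹) * (psiR m P * s * (psiR m P)⁻¹) := by group
      _ = _ := by rw [hPz]
  rcases hA with hA | hA
  · refine ⟨c', ?_, ?_⟩
    · rw [hc'z, hA, hPs]
    · have := hc's
      rw [hA, hPs] at this
      exact this
  · have hps : psiR m P * s * (psiR m P)⁻¹ = zG m hK * tD m g₀ := by
      rw [hA]
      calc psiR m P * (zG m hK * psiR m A) * (psiR m P)⁻¹
          = (psiR m P * zG m hK * (psiR m P)⁻¹) * (psiR m P * psiR m A * (psiR m P)⁻¹) := by group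
        _ = _ := by rw [hPz, hPs]
    rw [hps] at hc'z hc's
    have hzz : zG m hK * (zG m hK * tD m g₀) = tD m g₀ := by
      rw [← mul_assoc, zG_sq, one_mul]
    rw [hzz] at hc's
    -- `c'` maps `z ↦ z t ↦ t ↦ z`; take the inverse
    have hc't : c' * tD m g₀ * c'⁻¹ = zG m hK := by
      have h1 : tD m g₀ = zG m hK * (zG m hK * tD m g₀) := hzz.symm
      calc c' * tD m g₀ * c'⁻¹ = c' * (zG m hK * (zG m hK * tD m g₀)) * c'⁻¹ := by rw [← h1]
        _ = (c' * zG m hK * c'⁻¹) * (c' * (zG m hK * tD m g₀) * c'⁻¹) := by group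
        _ = zG m hK * tD m g₀ * tD m g₀ := by rw [hc'z, hc's]
        _ = zG m hK := by rw [mul_assoc, tD_sq m hm g₀ hg₀, mul_one]
    refine ⟨c'⁻¹, ?_, ?_⟩
    · rw [inv_inv]
      calc c'⁻¹ * zG m hK * c' = c'⁻¹ * (c' * tD m g₀ * c'⁻¹) * c' := by rw [hc't]
        _ = tD m g₀ := by group
    · rw [inv_inv]
      calc c'⁻¹ * tD m g₀ * c' = c'⁻¹ * (c' * (zG m hK * tD m g₀) * c'⁻¹) * c' := by rw [hc's]
        _ = zG m hK * tD m g₀ := by group

end

end Cfsg.Agent.Lib.Helper3.Ree
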