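import Mathlib
import Cfsg.Agent.Lib.Helper3.Ree63
set_option autoImplicit false
set_option linter.unusedSectionVars false
set_option linter.style.haveILetI false
set_option linter.unusedSimpArgs false
open Cfsg Cfsg.Lie

/-!
The normalizer of the nonsplit torus of the twisted group of type `G₂`.
-/

namespace Cfsg.Agent.Lib.Helper3.Ree

open Cfsg.Agent.Lib.Helper3.ChevM Cfsg.Agent.Lib.Helper3.SL2P
open Matrix

section
variable {G : Type*} [Group G]

theorem centralizer_conj_eq (g a : G) (D : Subgroup G) (h1 : Subgroup.centralizer {a} = D)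
    (h2 : Subgroup.centralizer {g * a * g⁻¹} = D) : g ∈ Subgroup.normalizer (D : Set G) := by
  rw [Subgroup.mem_normalizer_iff]
  intro x
  have e1 : x ∈ D ↔ x * a = a * x := by
    rw [← h1, Subgroup.mem_centralizer_singleton_iff]
  have e2 : g * x * g⁻¹ ∈ D ↔ g * x * g⁻¹ * (g * a * g⁻¹) = g * a * g⁻¹ * (g * x * g⁻¹) := by
    rw [← h2, Subgroup.mem_centralizer_singleton_iff]
  rw [e1, e2]
  constructor
  · intro h
    calc g * x * g⁻¹ * (g * a * g⁻¹) = g * (x * a) * g⁻¹ := by group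
      _ = g * (a * x) * g⁻¹ := by rw [h]
      _ = _ := by group
  · intro h
    calc x * a = g⁻¹ * (g * x * g⁻¹ * (g * a * g⁻¹)) * g := by group
      _ = g⁻¹ * (g * a * g⁻¹ * (g * x * g⁻¹)) * g := by rw [h]
      _ = a * x := by group

end

section
variable {K : Type*} [Field K] [Fintype K] [CharP K 3]

theorem pow_card_torusD (m : ℕ) (hm : 1 ≤ m) (hK : Fintype.card K = 3 ^ (2 * m + 1))
    (g₀ : SpecialLinearGroup (Fin 2) K) (hg₀ : orderOf g₀ = 3 ^ (2 * m + 1) + 1)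
    (a : ↥(tG2 K (3 ^ m))) (ha : a ∈ torusD m hK g₀) : a ^ (3 ^ (2 * m + 1) + 1) = 1 := by
  have h := orderOf_dvd_card_of_mem (torusD m hK g₀) a ha
  rw [card_torusD m hm hK g₀ hg₀] at h
  exact orderOf_dvd_iff_pow_eq_one.mp h

/-- the centralizer of an element of the nonsplit torus which is not of exponent two -/
theorem centralizer_of_sq_ne_torusD (m : ℕ) (hm : 1 ≤ m) (hK : Fintype.card K = 3 ^ (2 * m + 1))
    (g₀ : SpecialLinearGroup (Fin 2) K) (hg₀ : orderOf g₀ = 3 ^ (2 * m + 1) + 1)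
    (a : ↥(tG2 K (3 ^ m))) (ha : a ∈ torusD m hK g₀) (ha2 : a * a ≠ 1) :
    Subgroup.centralizer {a} = torusD m hK g₀ := by
  obtain ⟨k₀, hk₀, hk1, hq⟩ := quarter_odd m hm
  have h4 : a ^ 4 ≠ 1 := by
    intro h
    have hd : orderOf a ∣ 4 := orderOf_dvd_of_pow_eq_one h
    have hle : orderOf a ≤ 4 := Nat.le_of_dvd (by norm_num) hd
    have hpos := orderOf_pos a
    have h4' := orderOf_ne_four_torusD m hm hK g₀ hg₀ a ha
    have h2 : orderOf a ∣ 2 := by
      interval_cases h : orderOf a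
      · exact one_dvd 2
      · exact dvd_refl 2
      · norm_num at hd
      · exact absurd rfl h4'
    apply ha2
    rw [← pow_two]
    exact orderOf_dvd_iff_pow_eq_one.mp h2
  have hk : (a ^ 4) ^ k₀ = 1 := by
    rw [← pow_mul, ← hq]
    exact pow_card_torusD m hm hK g₀ hg₀ a ha
  have hdvd : orderOf (a ^ 4) ∣ k₀ := orderOf_dvd_of_pow_eq_one hk
  have hodd : Odd (orderOf (a ^ 4)) := by
    obtain ⟨j, hj⟩ := hdvd
    rw [hj] at hk₀
    exact (Nat.odd_mul.mp hk₀).1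
  have h1 : 1 < orderOf (a ^ 4) := by
    have hpos := orderOf_pos (a ^ 4)
    have : orderOf (a ^ 4) ≠ 1 := fun h => h4 (orderOf_eq_one_iff.mp h)
    omega
  have hC := centralizer_of_mem_torusD m hm hK g₀ hg₀ (a ^ 4) (Subgroup.pow_mem _ ha 4) hodd h1
  apply le_antisymm
  · rw [← hC]
    intro x hx
    rw [Subgroup.mem_centralizer_singleton_iff] at hx ⊢
    exact (Commute.pow_right (show Commute x a from hx) 4)
  · intro x hx
    rw [Subgroup.mem_centralizer_singleton_iff]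
    exact torusD_comm m hK g₀ _ _ hx ha

/-- an element conjugating an element of the nonsplit torus which is not of exponent two into the
torus normalizes the torus -/
theorem mem_normalizer_torusD_of_conj (m : ℕ) (hm : 1 ≤ m) (hK : Fintype.card K = 3 ^ (2 * m + 1))
    (g₀ : SpecialLinearGroup (Fin 2) K) (hg₀ : orderOf g₀ = 3 ^ (2 * m + 1) + 1)
    (g a : ↥(tG2 K (3 ^ m))) (ha : a ∈ torusD m hK g₀) (ha2 : a * a ≠ 1)
    (hga : g * a * g⁻¹ ∈ torusD m hK g₀) :
    g ∈ Subgroup.normalizer ((torusD m hK g₀ : Subgroup ↥(tG2 K (3 ^ m))) : Set ↥(tG2 K (3 ^ m))) := by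
  apply centralizer_conj_eq g a _ (centralizer_of_sq_ne_torusD m hm hK g₀ hg₀ a ha ha2)
  apply centralizer_of_sq_ne_torusD m hm hK g₀ hg₀ _ hga
  have : g * a * g⁻¹ * (g * a * g⁻¹) = g * (a * a) * g⁻¹ := by group
  rw [this]
  exact conj_ne_one g _ ha2

/-- an element of the nonsplit torus which is not of exponent two -/
theorem exists_sq_ne_torusD (m : ℕ) (hm : 1 ≤ m) (hK : Fintype.card K = 3 ^ (2 * m + 1))
    (g₀ : SpecialLinearGroup (Fin 2) K) (hg₀ : orderOf g₀ = 3 ^ (2 * m + 1) + 1) :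
    ∃ a ∈ torusD m hK g₀, a * a ≠ 1 ∧ Odd (orderOf a) ∧ 1 < orderOf a := by
  obtain ⟨c, hc, hodd, h1, h4⟩ := exists_odd_mem_torus m hm g₀ hg₀
  have ho : orderOf (psiR m c) = orderOf c := orderOf_psiR_of_odd m c hodd
  refine ⟨psiR m c, psiR_mem_torusD m hK g₀ c hc, ?_, by rw [ho]; exact hodd, by rw [ho]; exact h1⟩
  intro h
  have hd : orderOf (psiR m c) ∣ 2 := by
    apply orderOf_dvd_of_pow_eq_one
    rw [pow_two]; exact h
  rw [ho] at hd
  have hcop : Nat.Coprime (orderOf c) 2 := Nat.Coprime.symm (Nat.coprime_two_left.mpr hodd)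
  have : orderOf c ∣ 1 := hcop.dvd_of_dvd_mul_left (show orderOf c ∣ 2 * 1 from hd)
  have := Nat.le_of_dvd (by norm_num) this
  omega

/-- an element mapping the centralizer of the four-group into itself normalizes the torus -/
theorem mem_normalizer_torusD_of_cV (m : ℕ) (hm : 1 ≤ m) (hK : Fintype.card K = 3 ^ (2 * m + 1))
    (g₀ : SpecialLinearGroup (Fin 2) K) (hg₀ : orderOf g₀ = 3 ^ (2 * m + 1) + 1)
    (g : ↥(tG2 K (3 ^ m))) (hg : ∀ x ∈ torusD m hK g₀, g * x * g⁻¹ ∈ cV m hK g₀) :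
    g ∈ Subgroup.normalizer ((torusD m hK g₀ : Subgroup ↥(tG2 K (3 ^ m))) : Set ↥(tG2 K (3 ^ m))) := by
  obtain ⟨a, ha, ha2, -, -⟩ := exists_sq_ne_torusD m hm hK g₀ hg₀
  apply mem_normalizer_torusD_of_conj m hm hK g₀ hg₀ g a ha ha2
  rcases cV_cases m hm hK g₀ hg₀ _ (hg a ha) with h | h
  · exact h
  · exfalso
    have : g * a * g⁻¹ * (g * a * g⁻¹) = g * (a * a) * g⁻¹ := by group
    rw [this] at h
    exact conj_ne_one g _ ha2 h

theorem cV_le_normalizer (m : ℕ) (hm : 1 ≤ m) (hK : Fintype.card K = 3 ^ (2 * m + 1))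
    (g₀ : SpecialLinearGroup (Fin 2) K) (hg₀ : orderOf g₀ = 3 ^ (2 * m + 1) + 1) :
    cV m hK g₀ ≤
      Subgroup.normalizer ((torusD m hK g₀ : Subgroup ↥(tG2 K (3 ^ m))) : Set ↥(tG2 K (3 ^ m))) := by
  intro g hg
  apply mem_normalizer_torusD_of_cV m hm hK g₀ hg₀
  intro x hx
  exact Subgroup.mul_mem _ (Subgroup.mul_mem _ hg (torusD_le_cV m hK g₀ hx)) (Subgroup.inv_mem _ hg)

end

end Cfsg.Agent.Lib.Helper3.Ree
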