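import Mathlib
import Cfsg.Agent.Lib.Helper3.Ree64
set_option autoImplicit false
set_option linter.unusedSectionVars false
set_option linter.style.haveILetI false
set_option linter.unusedSimpArgs false
open Cfsg Cfsg.Lie

/-!
The order of the normalizer of the nonsplit torus of the twisted group of type `G₂`.
-/

namespace Cfsg.Agent.Lib.Helper3.Ree

open Cfsg.Agent.Lib.Helper3.ChevM Cfsg.Agent.Lib.Helper3.SL2P
open Matrix

section
variable {K : Type*} [Field K] [Fintype K] [CharP K 3]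

/-- the normalizer of the nonsplit torus -/
def nD (m : ℕ) (hK : Fintype.card K = 3 ^ (2 * m + 1)) (g₀ : SpecialLinearGroup (Fin 2) K) :
    Subgroup ↥(tG2 K (3 ^ m)) :=
  Subgroup.normalizer ((torusD m hK g₀ : Subgroup ↥(tG2 K (3 ^ m))) : Set ↥(tG2 K (3 ^ m)))

theorem zG_mul_tD_ne (m : ℕ) (hm : 1 ≤ m) (hK : Fintype.card K = 3 ^ (2 * m + 1))
    (g₀ : SpecialLinearGroup (Fin 2) K) (hg₀ : orderOf g₀ = 3 ^ (2 * m + 1) + 1) :
    zG m hK * tD m g₀ ≠ zG m hK ∧ zG m hK * tD m g₀ ≠ tD m g₀ := by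
  constructor
  · intro h
    apply tD_ne_one m hm g₀ hg₀
    have : zG m hK * tD m g₀ = zG m hK * 1 := by rw [h, mul_one]
    exact mul_left_cancel this
  · intro h
    apply zG_ne_one (K := K) m hK
    have : zG m hK * tD m g₀ = 1 * tD m g₀ := by rw [h, one_mul]
    exact mul_right_cancel this

/-- the element permuting the involutions of the nonsplit torus normalizes the torus -/
theorem three_cycle_mem_nD (m : ℕ) (hm : 1 ≤ m) (hK : Fintype.card K = 3 ^ (2 * m + 1))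
    (g₀ : SpecialLinearGroup (Fin 2) K) (hg₀ : orderOf g₀ = 3 ^ (2 * m + 1) + 1)
    (c : ↥(tG2 K (3 ^ m))) (hcz : c * zG m hK * c⁻¹ = tD m g₀)
    (hct : c * tD m g₀ * c⁻¹ = zG m hK * tD m g₀) : c ∈ nD m hK g₀ := by
  apply mem_normalizer_torusD_of_cV m hm hK g₀ hg₀
  intro x hx
  have hxz : x * zG m hK = zG m hK * x := torusD_comm m hK g₀ _ _ hx (zG_mem_torusD m hK g₀)
  have hxt : x * tD m g₀ = tD m g₀ * x := torusD_comm m hK g₀ _ _ hx (tD_mem_torusD m hK g₀)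
  -- `c x c⁻¹` commutes with `t` and `z t`
  have h1 : c * x * c⁻¹ * tD m g₀ = tD m g₀ * (c * x * c⁻¹) := by
    rw [← hcz]
    calc c * x * c⁻¹ * (c * zG m hK * c⁻¹) = c * (x * zG m hK) * c⁻¹ := by group
      _ = c * (zG m hK * x) * c⁻¹ := by rw [hxz]
      _ = _ := by group
  have h2 : c * x * c⁻¹ * (zG m hK * tD m g₀) = (zG m hK * tD m g₀) * (c * x * c⁻¹) := by
    rw [← hct]
    calc c * x * c⁻¹ * (c * tD m g₀ * c⁻¹) = c * (x * tD m g₀) * c⁻¹ := by group
      _ = c * (tD m g₀ * x) * c⁻¹ := by rw [hxt]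
      _ = _ := by group
  have ht2 := tD_sq m hm g₀ hg₀
  have h3 : c * x * c⁻¹ * zG m hK = zG m hK * (c * x * c⁻¹) := by
    have e : zG m hK = (zG m hK * tD m g₀) * tD m g₀ := by rw [mul_assoc, ht2, mul_one]
    calc c * x * c⁻¹ * zG m hK = c * x * c⁻¹ * ((zG m hK * tD m g₀) * tD m g₀) := by rw [← e]
      _ = (c * x * c⁻¹ * (zG m hK * tD m g₀)) * tD m g₀ := by group
      _ = (zG m hK * tD m g₀) * (c * x * c⁻¹ * tD m g₀) := by rw [h2]; group
      _ = (zG m hK * tD m g₀) * (tD m g₀ * (c * x * c⁻¹)) := by rw [h1]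
      _ = ((zG m hK * tD m g₀) * tD m g₀) * (c * x * c⁻¹) := by group
      _ = _ := by rw [← e]
  exact Subgroup.mem_inf.mpr ⟨Subgroup.mem_centralizer_singleton_iff.mpr h3,
    Subgroup.mem_centralizer_singleton_iff.mpr h1⟩

/-- the elements of the normalizer of the nonsplit torus permute its involutions -/
theorem nD_conj_involution (m : ℕ) (hm : 1 ≤ m) (hK : Fintype.card K = 3 ^ (2 * m + 1))
    (g₀ : SpecialLinearGroup (Fin 2) K) (hg₀ : orderOf g₀ = 3 ^ (2 * m + 1) + 1)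
    (g w : ↥(tG2 K (3 ^ m))) (hg : g ∈ nD m hK g₀) (hw : w ∈ torusD m hK g₀) (hw2 : w * w = 1) (hw1 : w ≠ 1) :
    g * w * g⁻¹ = zG m hK ∨ g * w * g⁻¹ = tD m g₀ ∨ g * w * g⁻¹ = zG m hK * tD m g₀ := by
  have h1 : g * w * g⁻¹ ∈ torusD m hK g₀ := (Subgroup.mem_normalizer_iff.mp hg w).mp hw
  have h2 : g * w * g⁻¹ * (g * w * g⁻¹) = 1 := by
    calc g * w * g⁻¹ * (g * w * g⁻¹) = g * (w * w) * g⁻¹ := by group
      _ = 1 := by rw [hw2]; group
  rcases involution_torusD m hm hK g₀ hg₀ _ h1 h2 with h | h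
  · exact absurd h (conj_ne_one g w hw1)
  · exact h

/-- the stabilizer of `zG` in the normalizer of the nonsplit torus -/
theorem nD_inf_centralizer (m : ℕ) (hm : 1 ≤ m) (hK : Fintype.card K = 3 ^ (2 * m + 1))
    (g₀ : SpecialLinearGroup (Fin 2) K) (hg₀ : orderOf g₀ = 3 ^ (2 * m + 1) + 1) :
    nD m hK g₀ ⊓ Subgroup.centralizer {zG m hK} = cV m hK g₀ := by
  apply le_antisymm
  · intro g hg
    obtain ⟨hgN, hgz⟩ := Subgroup.mem_inf.mp hg
    rw [Subgroup.mem_centralizer_singleton_iff] at hgz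
    refine Subgroup.mem_inf.mpr ⟨Subgroup.mem_centralizer_singleton_iff.mpr hgz,
      Subgroup.mem_centralizer_singleton_iff.mpr ?_⟩
    have hcases := nD_conj_involution m hm hK g₀ hg₀ g (tD m g₀) hgN (tD_mem_torusD m hK g₀)
      (tD_sq m hm g₀ hg₀) (tD_ne_one m hm g₀ hg₀)
    have hgz' : g * zG m hK * g⁻¹ = zG m hK := by rw [hgz]; group
    rcases hcases with h | h | h
    · exfalso
      apply zG_ne_tD (K := K) m hK g₀
      have : g * zG m hK * g⁻¹ = g * tD m g₀ * g⁻¹ := by rw [hgz', h]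
      have h2 : zG m hK = g⁻¹ * (g * zG m hK * g⁻¹) * g := by group
      rw [h2, this]; group
    · calc g * tD m g₀ = g * tD m g₀ * g⁻¹ * g := by group
        _ = tD m g₀ * g := by rw [h]
    · exfalso
      -- `g t g⁻¹` lies in the image of `SL₂(K)` but `z t` does not
      obtain ⟨X, hX⟩ := centralizer_zG m hK g hgz.symm
      have hr : g * tD m g₀ * g⁻¹ ∈ (psiR (K := K) m).range := by
        rcases hX with rfl | rfl
        · exact ⟨X * t0 m g₀ * X⁻¹, by rw [map_mul, map_mul, map_inv, tD_eq]⟩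
        · refine ⟨X * t0 m g₀ * X⁻¹, ?_⟩
          have e : zG m hK * psiR m X * tD m g₀ * (zG m hK * psiR m X)⁻¹ =
              zG m hK * psiR m (X * t0 m g₀ * X⁻¹) * (zG m hK)⁻¹ := by
            rw [map_mul, map_mul, map_inv, tD_eq]; group
          rw [e, zG_comm_psiR m hK]; group
      rw [h] at hr
      apply zG_not_mem_range (K := K) m hK
      obtain ⟨Y, hY⟩ := hr
      refine ⟨Y * (t0 m g₀)⁻¹, ?_⟩
      rw [map_mul, map_inv, hY, ← tD_eq]; group
  · intro g hg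
    refine Subgroup.mem_inf.mpr ⟨cV_le_normalizer m hm hK g₀ hg₀ hg, ?_⟩
    exact (Subgroup.mem_inf.mp hg).1

/-- the order of the normalizer of the nonsplit torus -/
theorem card_nD (m : ℕ) (hm : 1 ≤ m) (hK : Fintype.card K = 3 ^ (2 * m + 1))
    (g₀ : SpecialLinearGroup (Fin 2) K) (hg₀ : orderOf g₀ = 3 ^ (2 * m + 1) + 1) :
    Nat.card ↥(nD m hK g₀) = 6 * (3 ^ (2 * m + 1) + 1) := by
  obtain ⟨c, hcz, hct⟩ := exists_three_cycle m hm hK g₀ hg₀
  have hcN := three_cycle_mem_nD m hm hK g₀ hg₀ c hcz hct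
  have h := card_conj_orbit (nD m hK g₀) (zG m hK)
  rw [nD_inf_centralizer m hm hK g₀ hg₀, card_cV m hm hK g₀ hg₀] at h
  obtain ⟨hne1, hne2⟩ := zG_mul_tD_ne m hm hK g₀ hg₀
  have horb : {w : ↥(tG2 K (3 ^ m)) | ∃ h ∈ nD m hK g₀, h * zG m hK * h⁻¹ = w} =
      {zG m hK, tD m g₀, zG m hK * tD m g₀} := by
    ext w
    simp only [Set.mem_ofPred_eq, Set.mem_insert_iff, Set.mem_singleton_iff]
    constructor
    · rintro ⟨g, hg, rfl⟩
      exact nD_conj_involution m hm hK g₀ hg₀ g _ hg (zG_mem_torusD m hK g₀) (zG_sq m hK) (zG_ne_one m hK)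
    · rintro (rfl | rfl | rfl)
      · exact ⟨1, Subgroup.one_mem _, by group⟩
      · exact ⟨c, hcN, hcz⟩
      · refine ⟨c * c, Subgroup.mul_mem _ hcN hcN, ?_⟩
        calc c * c * zG m hK * (c * c)⁻¹ = c * (c * zG m hK * c⁻¹) * c⁻¹ := by group
          _ = _ := by rw [hcz, hct]
  have h3 : Nat.card ↥({zG m hK, tD m g₀, zG m hK * tD m g₀} : Set ↥(tG2 K (3 ^ m))) = 3 := by
    rw [Nat.card_coe_set_eq, Set.ncard_eq_three]
    exact ⟨_, _, _, zG_ne_tD m hK g₀, fun h => hne1 h.symm, fun h => hne2 h.symm, rfl⟩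
  rw [horb, h3] at h
  omega

end

end Cfsg.Agent.Lib.Helper3.Ree
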