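import Mathlib
import Cfsg.Agent.Lib.Helper3.Ree65
set_option autoImplicit false
set_option linter.unusedSectionVars false
set_option linter.style.haveILetI false
set_option linter.unusedSimpArgs false
open Cfsg Cfsg.Lie

/-!
The cyclic subgroup of order `(q + 1) / 4` of the twisted group of type `G₂`: the normalizers of its
subgroups; counting the conjugates of the elements of the nonsplit torus.
-/

namespace Cfsg.Agent.Lib.Helper3.Ree

open Cfsg.Agent.Lib.Helper3.ChevM Cfsg.Agent.Lib.Helper3.SL2P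
open Matrix

section
variable {G : Type*} [Group G]

/-- in a finite cyclic group, the elements whose order divides the order of a subgroup lie in this
subgroup -/
theorem mem_of_pow_card_eq_one_of_cyclic (A A₀ : Subgroup G) [Finite A] [IsCyclic A] (h : A₀ ≤ A)
    (x : G) (hxA : x ∈ A) (hx : x ^ Nat.card A₀ = 1) : x ∈ A₀ := by
  classical
  haveI : Fintype ↥A := Fintype.ofFinite _
  haveI : Finite ↥A₀ := Finite.of_injective (Subgroup.inclusion h) (Subgroup.inclusion_injective h)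
  set d := Nat.card A₀ with hd
  have hd0 : 0 < d := Nat.card_pos
  have hle := IsCyclic.card_pow_eq_one_le (α := ↥A) hd0
  let f : ↥A₀ → {a : ↥A // a ∈ (Finset.univ.filter (fun a : ↥A => a ^ d = 1))} := fun a =>
    ⟨⟨(a : G), h a.2⟩, by
      rw [Finset.mem_filter]
      refine ⟨Finset.mem_univ _, ?_⟩
      apply Subtype.ext
      show (a : G) ^ d = 1
      have := pow_card_eq_one' (G := ↥A₀) (x := a)
      rw [← hd] at this
      exact congrArg Subtype.val this⟩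
  have hf : Function.Injective f := by
    intro a b hab
    apply Subtype.ext
    exact congrArg (fun y : {a : ↥A // a ∈ (Finset.univ.filter (fun a : ↥A => a ^ d = 1))} => ((y : ↥A) : G)) hab
  have hsurj : Function.Surjective f := by
    have hcard : Nat.card {a : ↥A // a ∈ (Finset.univ.filter (fun a : ↥A => a ^ d = 1))} ≤
        Nat.card ↥A₀ := by
      rw [Nat.card_eq_fintype_card, Fintype.card_coe]; exact hle
    exact (hf.bijective_of_nat_card_le hcard).2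
  obtain ⟨a, ha⟩ := hsurj ⟨⟨x, hxA⟩, by
    rw [Finset.mem_filter]
    exact ⟨Finset.mem_univ _, Subtype.ext hx⟩⟩
  have : (a : G) = x := congrArg (fun y : {a : ↥A // a ∈ (Finset.univ.filter (fun a : ↥A => a ^ d = 1))} => ((y : ↥A) : G)) ha
  rw [← this]
  exact a.2

end

section
variable {K : Type*} [Field K] [Fintype K] [CharP K 3]

/-- the cyclic subgroup of order `(q + 1) / 4` -/
noncomputable def torusA (m : ℕ) (g₀ : SpecialLinearGroup (Fin 2) K) : Subgroup ↥(tG2 K (3 ^ m)) :=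
  Subgroup.zpowers (psiR m (g₀ ^ 4))

theorem card_torusA (m : ℕ) (hm : 1 ≤ m) (g₀ : SpecialLinearGroup (Fin 2) K)
    (hg₀ : orderOf g₀ = 3 ^ (2 * m + 1) + 1) :
    Nat.card ↥(torusA m g₀) = (3 ^ (2 * m + 1) + 1) / 4 := by
  obtain ⟨k₀, hk₀, hk1, hq⟩ := quarter_odd m hm
  have h : orderOf (g₀ ^ 4) = k₀ := by
    rw [orderOf_pow_of_dvd (by norm_num) (by rw [hg₀, hq]; exact dvd_mul_right 4 k₀), hg₀, hq]
    omega
  unfold torusA
  rw [Nat.card_zpowers, orderOf_psiR_of_odd m _ (by rw [h]; exact hk₀), h, hq]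
  omega

theorem torusA_le_torusD (m : ℕ) (hK : Fintype.card K = 3 ^ (2 * m + 1))
    (g₀ : SpecialLinearGroup (Fin 2) K) : torusA m g₀ ≤ torusD m hK g₀ := by
  unfold torusA
  rw [Subgroup.zpowers_le]
  exact psiR_mem_torusD m hK g₀ _ (Subgroup.pow_mem _ (Subgroup.mem_zpowers g₀) 4)

theorem pow_four_mem_torusA (m : ℕ) (hK : Fintype.card K = 3 ^ (2 * m + 1))
    (g₀ : SpecialLinearGroup (Fin 2) K) (y : ↥(tG2 K (3 ^ m))) (hy : y ∈ torusD m hK g₀) :
    y ^ 4 ∈ torusA m g₀ := by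
  obtain ⟨X, hX, hy⟩ := hy
  obtain ⟨i, rfl⟩ := Subgroup.mem_zpowers_iff.mp hX
  have h1 : psiR m (g₀ ^ i) ^ 4 ∈ torusA m g₀ := by
    unfold torusA
    rw [Subgroup.mem_zpowers_iff]
    refine ⟨i, ?_⟩
    rw [← map_zpow, ← map_pow, ← zpow_natCast, ← zpow_natCast, ← _root_.zpow_mul, ← _root_.zpow_mul, mul_comm]
  rcases hy with rfl | rfl
  · exact h1
  · have hc : Commute (zG m hK) (psiR m (g₀ ^ i)) := zG_comm_psiR m hK _
    rw [hc.mul_pow]
    have hz4 : zG m hK ^ 4 = 1 := by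
      have : zG m hK ^ 2 = 1 := by rw [pow_two]; exact zG_sq m hK
      calc zG m hK ^ 4 = (zG m hK ^ 2) ^ 2 := by rw [← pow_mul]
        _ = 1 := by rw [this, one_pow]
    rw [hz4, one_mul]
    exact h1

theorem mem_torusA_of_pow (m : ℕ) (hm : 1 ≤ m) (hK : Fintype.card K = 3 ^ (2 * m + 1))
    (g₀ : SpecialLinearGroup (Fin 2) K) (y : ↥(tG2 K (3 ^ m))) (hy : y ∈ torusD m hK g₀)
    (hyk : y ^ ((3 ^ (2 * m + 1) + 1) / 4) = 1) : y ∈ torusA m g₀ := by
  obtain ⟨k₀, hk₀, hk1, hq⟩ := quarter_odd m hm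
  have hk : (3 ^ (2 * m + 1) + 1) / 4 = k₀ := by omega
  rw [hk] at hyk
  have hcop : Nat.Coprime 4 k₀ := by
    have : Nat.Coprime 2 k₀ := Nat.coprime_two_left.mpr hk₀
    exact Nat.Coprime.pow_left 2 this
  have hb := Nat.gcd_eq_gcd_ab 4 k₀
  rw [hcop] at hb
  have : y = (y ^ 4) ^ (Nat.gcdA 4 k₀) * (y ^ k₀) ^ (Nat.gcdB 4 k₀) := by
    rw [← zpow_natCast y 4, ← zpow_natCast y k₀, ← _root_.zpow_mul, ← _root_.zpow_mul, ← _root_.zpow_add]
    have : ((4 : ℕ) : ℤ) * Nat.gcdA 4 k₀ + (k₀ : ℤ) * Nat.gcdB 4 k₀ = 1 := by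
      rw [← hb]; norm_num
    rw [this, zpow_one]
  rw [this, hyk, _root_.one_zpow, mul_one]
  exact Subgroup.zpow_mem _ (pow_four_mem_torusA m hK g₀ y hy) _

/-- the normalizer of a nontrivial subgroup of the cyclic subgroup of order `(q + 1) / 4` -/
theorem normalizer_sub_torusA (m : ℕ) (hm : 1 ≤ m) (hK : Fintype.card K = 3 ^ (2 * m + 1))
    (g₀ : SpecialLinearGroup (Fin 2) K) (hg₀ : orderOf g₀ = 3 ^ (2 * m + 1) + 1)
    (A₀ : Subgroup ↥(tG2 K (3 ^ m))) (hA₀ : A₀ ≤ torusA m g₀) (hne : A₀ ≠ ⊥) :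
    Subgroup.normalizer (A₀ : Set ↥(tG2 K (3 ^ m))) = nD m hK g₀ := by
  obtain ⟨k₀, hk₀, hk1, hq⟩ := quarter_odd m hm
  have hk : (3 ^ (2 * m + 1) + 1) / 4 = k₀ := by omega
  have hcardA := card_torusA m hm g₀ hg₀
  have hpowA : ∀ a ∈ torusA m g₀, a ^ k₀ = 1 := by
    intro a ha
    have := orderOf_dvd_card_of_mem (torusA m g₀) a ha
    rw [hcardA, hk] at this
    exact orderOf_dvd_iff_pow_eq_one.mp this
  have hsq : ∀ a ∈ torusA m g₀, a ≠ 1 → a * a ≠ 1 := by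
    intro a ha ha1 h2
    apply ha1
    have h3 := hpowA a ha
    obtain ⟨j, hj⟩ := hk₀
    rw [hj, pow_succ, pow_mul, pow_two, h2, one_pow, one_mul] at h3
    exact h3
  apply le_antisymm
  · intro g hg
    obtain ⟨a, ha1⟩ := (Subgroup.ne_bot_iff_exists_ne_one).mp hne
    have ha' : (a : ↥(tG2 K (3 ^ m))) ≠ 1 := fun h => ha1 (Subtype.ext h)
    have haA := hA₀ a.2
    apply mem_normalizer_torusD_of_conj m hm hK g₀ hg₀ g a (torusA_le_torusD m hK g₀ haA)
      (hsq a haA ha')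
    exact torusA_le_torusD m hK g₀ (hA₀ ((Subgroup.mem_normalizer_iff.mp hg a).mp a.2))
  · intro g hg
    haveI : Finite ↥A₀ := inferInstance
    apply mem_normalizer_of_conj_mem
    intro x hx
    have hxA := hA₀ hx
    have h1 : g * x * g⁻¹ ∈ torusD m hK g₀ :=
      (Subgroup.mem_normalizer_iff.mp hg x).mp (torusA_le_torusD m hK g₀ hxA)
    have h2 : g * x * g⁻¹ ∈ torusA m g₀ := by
      apply mem_torusA_of_pow m hm hK g₀ _ h1
      rw [hk, conj_pow, hpowA x hxA]; group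
    haveI : IsCyclic ↥(torusA m g₀) := by unfold torusA; infer_instance
    apply mem_of_pow_card_eq_one_of_cyclic (torusA m g₀) A₀ hA₀ _ h2
    rw [conj_pow]
    have : x ^ Nat.card ↥A₀ = 1 := by
      have := pow_card_eq_one' (G := ↥A₀) (x := ⟨x, hx⟩)
      exact congrArg Subtype.val this
    rw [this]; group

/-- counting the conjugates of a set of elements of the nonsplit torus -/
theorem card_conjUnion_torusD (m : ℕ) (hm : 1 ≤ m) (hK : Fintype.card K = 3 ^ (2 * m + 1))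
    (g₀ : SpecialLinearGroup (Fin 2) K) (hg₀ : orderOf g₀ = 3 ^ (2 * m + 1) + 1)
    (S : Set ↥(tG2 K (3 ^ m))) (hS : ∀ a ∈ S, a ∈ torusD m hK g₀) (hS2 : ∀ a ∈ S, a * a ≠ 1)
    (hconj : ∀ n ∈ nD m hK g₀, ∀ x ∈ S, n * x * n⁻¹ ∈ S) :
    6 * Nat.card ↥(conjUnion S) = (3 ^ (2 * m + 1)) ^ 3 * (3 ^ (2 * m + 1) - 1) *
      ((3 ^ (2 * m + 1)) ^ 2 - 3 ^ (2 * m + 1) + 1) * Nat.card ↥S := by
  have h := card_conjUnion S (nD m hK g₀) hconj ?_
  · rw [card_nD m hm hK g₀ hg₀, card_tG2 m hK] at h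
    obtain ⟨q, hq⟩ : ∃ q, q = 3 ^ (2 * m + 1) := ⟨_, rfl⟩
    rw [← hq] at h ⊢
    have hq3 : 3 ≤ q := by
      rw [hq]
      calc 3 = 3 ^ 1 := by norm_num
        _ ≤ 3 ^ (2 * m + 1) := Nat.pow_le_pow_right (by norm_num) (by omega)
    obtain ⟨k, rfl⟩ : ∃ k, q = k + 3 := ⟨q - 3, by omega⟩
    have e1 : k + 3 - 1 = k + 2 := by omega
    have e2 : (k + 3) ^ 2 - (k + 3) + 1 = k ^ 2 + 5 * k + 7 := by
      have : (k + 3) ^ 2 = k ^ 2 + 5 * k + 6 + (k + 3) := by ring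
      omega
    rw [e1] at h ⊢
    rw [e2]
    have hpos : 0 < k + 3 + 1 := by omega
    apply Nat.eq_of_mul_eq_mul_right hpos
    calc 6 * Nat.card ↥(conjUnion S) * (k + 3 + 1) = Nat.card ↥(conjUnion S) * (6 * (k + 3 + 1)) := by ring
      _ = _ := by rw [h]; ring
  · intro g x hx hgx
    exact mem_normalizer_torusD_of_conj m hm hK g₀ hg₀ g x (hS x hx) (hS2 x hx) (hS _ hgx)

end

end Cfsg.Agent.Lib.Helper3.Ree
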