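import Mathlib
import Cfsg.Agent.Lib.Helper3.Ree66
set_option autoImplicit false
set_option linter.unusedSectionVars false
set_option linter.style.haveILetI false
set_option linter.unusedSimpArgs false
open Cfsg Cfsg.Lie

/-!
The elements of the centralizer of an involution of the twisted group of type `G₂`; the elements of
even order.
-/

namespace Cfsg.Agent.Lib.Helper3.Ree

open Cfsg.Agent.Lib.Helper3.ChevM Cfsg.Agent.Lib.Helper3.SL2P
open Matrix

section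
variable {K : Type*} [Field K] [Fintype K] [CharP K 3]

theorem psiR_dE_mem_torusSplit (m : ℕ) (hK : Fintype.card K = 3 ^ (2 * m + 1)) (t : K) (ht : t ≠ 0) :
    psiR m (dE t ht) ∈ torusSplit (K := K) m := by
  rw [mem_torusSplit_iff m hK]
  have hne : (-1 : K) ≠ 0 := neg_ne_zero.mpr one_ne_zero
  have hs0 : t ^ (3 * 3 ^ m + 1) ≠ 0 := pow_ne_zero _ ht
  have e : ((psiR m (dE t ht) : ↥(tG2 K (3 ^ m))) : GL cdG2.D.Idx K) = phiR m (dE t ht) := rfl
  rw [e, phiR_dE]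
  rcases hR_eq_hRee m hK t ht with h | h
  · exact ⟨_, hs0, h⟩
  · refine ⟨-1 * t ^ (3 * 3 ^ m + 1), mul_ne_zero hne hs0, ?_⟩
    rw [h, hRee_mul _ _ _ hne hs0]

/-- the three kinds of elements of `SL₂(K)` -/
theorem sl2_cases (m : ℕ) (hK : Fintype.card K = 3 ^ (2 * m + 1))
    (g₀ : SpecialLinearGroup (Fin 2) K) (hg₀ : orderOf g₀ = 3 ^ (2 * m + 1) + 1)
    (X : SpecialLinearGroup (Fin 2) K) :
    X ^ 6 = 1 ∨ (∃ (t : K) (ht : t ≠ 0), IsConj X (dE t ht)) ∨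
      (∃ c ∈ Subgroup.zpowers g₀, IsConj X c) := by
  classical
  haveI : Fact (Nat.Prime 3) := ⟨by norm_num⟩
  by_cases ht : (X : Matrix (Fin 2) (Fin 2) K).trace ^ 2 = 4
  · left
    obtain ⟨c, hc⟩ := Cfsg.Agent.Lib.Helper5.pow_char_scalar_of_sq_eq_four 3 X ht
    have hc2 := (Cfsg.Agent.Lib.Helper5.sq_eq_four_of_scalar (X ^ 3) c hc).2
    have h2 : X ^ 3 * X ^ 3 = 1 := by
      apply Subtype.ext
      show ((X ^ 3 : SpecialLinearGroup (Fin 2) K) : Matrix (Fin 2) (Fin 2) K) *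
        ((X ^ 3 : SpecialLinearGroup (Fin 2) K) : Matrix (Fin 2) (Fin 2) K) = 1
      rw [hc, Matrix.smul_mul, Matrix.mul_smul, Matrix.one_mul, smul_smul, ← pow_two, hc2, one_smul]
    rw [show (6 : ℕ) = 3 + 3 by norm_num, pow_add]
    exact h2
  · by_cases hroot : ∃ x : K, x ^ 2 - (X : Matrix (Fin 2) (Fin 2) K).trace * x + 1 = 0
    · right; left
      obtain ⟨x, hx⟩ := hroot
      have hx0 : x ≠ 0 := by
        rintro rfl
        simp at hx
      refine ⟨x, hx0, ?_⟩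
      apply Cfsg.Agent.Lib.Helper5.isConj_of_trace_eq X (dE x hx0) _ ht
      show _ = (!![x, 0; 0, x⁻¹] : Matrix (Fin 2) (Fin 2) K).trace
      rw [Matrix.trace_fin_two_of]
      field_simp
      linear_combination -hx
    · right; right
      push Not at hroot
      have hcard : Nat.card ↥(Subgroup.zpowers g₀) = Fintype.card K + 1 := by
        rw [Nat.card_zpowers, hg₀, hK]
      obtain ⟨c, hc, -, hconj⟩ := Cfsg.Agent.Lib.Helper5.exists_conj_mem_torus (Subgroup.zpowers g₀)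
        two_ne_zero_three' inferInstance hcard X hroot
      exact ⟨c, hc, hconj⟩

/-- the three kinds of elements of the centralizer of the involution `zG` -/
theorem centralizer_zG_cases (m : ℕ) (hK : Fintype.card K = 3 ^ (2 * m + 1))
    (g₀ : SpecialLinearGroup (Fin 2) K) (hg₀ : orderOf g₀ = 3 ^ (2 * m + 1) + 1)
    (g : ↥(tG2 K (3 ^ m))) (hg : zG m hK * g = g * zG m hK) :
    g ^ 6 = 1 ∨ (∃ h : ↥(tG2 K (3 ^ m)), h * g * h⁻¹ ∈ torusSplit (K := K) m) ∨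
      (∃ h : ↥(tG2 K (3 ^ m)), h * g * h⁻¹ ∈ torusD m hK g₀) := by
  obtain ⟨X, hX⟩ := centralizer_zG m hK g hg
  have hz6 : zG m hK ^ 6 = 1 := by
    have : zG m hK ^ 2 = 1 := by rw [pow_two]; exact zG_sq m hK
    calc zG m hK ^ 6 = (zG m hK ^ 2) ^ 3 := by rw [← pow_mul]
      _ = 1 := by rw [this, one_pow]
  have hconjz : ∀ P : SpecialLinearGroup (Fin 2) K,
      psiR m P * (zG m hK * psiR m X) * (psiR m P)⁻¹ = zG m hK * psiR m (P * X * P⁻¹) := by
    intro P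
    rw [map_mul, map_mul, map_inv]
    calc psiR m P * (zG m hK * psiR m X) * (psiR m P)⁻¹
        = (psiR m P * zG m hK) * psiR m X * (psiR m P)⁻¹ := by group
      _ = (zG m hK * psiR m P) * psiR m X * (psiR m P)⁻¹ := by rw [zG_comm_psiR m hK P]
      _ = _ := by group
  rcases sl2_cases m hK g₀ hg₀ X with h | ⟨t, ht, h⟩ | ⟨c, hc, h⟩
  · left
    have h1 : psiR m X ^ 6 = 1 := by rw [← map_pow, h, map_one]
    rcases hX with rfl | rfl
    · exact h1
    · rw [(show Commute (zG m hK) (psiR m X) from zG_comm_psiR m hK X).mul_pow, hz6, h1, one_mul]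
  · right; left
    obtain ⟨P, hP⟩ := isConj_iff.mp h
    refine ⟨psiR m P, ?_⟩
    rcases hX with rfl | rfl
    · rw [← map_inv, ← map_mul, ← map_mul, hP]
      exact psiR_dE_mem_torusSplit m hK t ht
    · rw [hconjz, hP]
      exact Subgroup.mul_mem _ (zG_mem_torusSplit m hK) (psiR_dE_mem_torusSplit m hK t ht)
  · right; right
    obtain ⟨P, hP⟩ := isConj_iff.mp h
    refine ⟨psiR m P, ?_⟩
    rcases hX with rfl | rfl
    · rw [← map_inv, ← map_mul, ← map_mul, hP]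
      exact psiR_mem_torusD m hK g₀ c hc
    · rw [hconjz, hP]
      exact Subgroup.mul_mem _ (zG_mem_torusD m hK g₀) (psiR_mem_torusD m hK g₀ c hc)

/-- the three kinds of elements of even order -/
theorem even_order_cases (m : ℕ) (hm : 1 ≤ m) (hK : Fintype.card K = 3 ^ (2 * m + 1))
    (g₀ : SpecialLinearGroup (Fin 2) K) (hg₀ : orderOf g₀ = 3 ^ (2 * m + 1) + 1)
    (g : ↥(tG2 K (3 ^ m))) (h2 : 2 ∣ orderOf g) :
    g ^ 6 = 1 ∨ (∃ h : ↥(tG2 K (3 ^ m)), h * g * h⁻¹ ∈ torusSplit (K := K) m) ∨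
      (∃ h : ↥(tG2 K (3 ^ m)), h * g * h⁻¹ ∈ torusD m hK g₀) := by
  obtain ⟨k, hk⟩ := h2
  have hn0 : orderOf g ≠ 0 := (orderOf_pos g).ne'
  have hk0 : k ≠ 0 := by
    rintro rfl
    rw [mul_zero] at hk
    exact hn0 hk
  have hw : orderOf (g ^ k) = 2 := by
    rw [orderOf_pow_of_dvd hk0 ⟨2, by rw [hk]; ring⟩, hk]
    exact Nat.mul_div_cancel _ (Nat.pos_of_ne_zero hk0)
  have hw2 : g ^ k * g ^ k = 1 := by
    rw [← pow_two, ← hw]; exact pow_orderOf_eq_one _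
  have hw1 : g ^ k ≠ 1 := by
    intro h
    rw [h, orderOf_one] at hw
    norm_num at hw
  obtain ⟨g₁, hg₁⟩ := involution_conj m hm hK (g ^ k) hw2 hw1
  have hcomm : zG m hK * (g₁⁻¹ * g * g₁) = (g₁⁻¹ * g * g₁) * zG m hK := by
    have hz : zG m hK = g₁⁻¹ * g ^ k * g₁ := by rw [← hg₁]; group
    have hc : g ^ k * g = g * g ^ k := by rw [← pow_succ, ← pow_succ']
    calc zG m hK * (g₁⁻¹ * g * g₁) = g₁⁻¹ * (g ^ k * g) * g₁ := by rw [hz]; group
      _ = g₁⁻¹ * (g * g ^ k) * g₁ := by rw [hc]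
      _ = _ := by rw [hz]; group
  rcases centralizer_zG_cases m hK g₀ hg₀ _ hcomm with h | ⟨h, hh⟩ | ⟨h, hh⟩
  · left
    have h7 : (g₁⁻¹ * g * g₁) ^ 6 = g₁⁻¹ * g ^ 6 * g₁ := by
      have := conj_pow (a := g₁⁻¹) (b := g) (i := 6)
      rw [inv_inv] at this
      exact this
    rw [h7] at h
    calc g ^ 6 = g₁ * (g₁⁻¹ * g ^ 6 * g₁) * g₁⁻¹ := by group
      _ = 1 := by rw [h]; group
  · right; left
    refine ⟨h * g₁⁻¹, ?_⟩
    have : h * g₁⁻¹ * g * (h * g₁⁻¹)⁻¹ = h * (g₁⁻¹ * g * g₁) * h⁻¹ := by group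
    rw [this]; exact hh
  · right; right
    refine ⟨h * g₁⁻¹, ?_⟩
    have : h * g₁⁻¹ * g * (h * g₁⁻¹)⁻¹ = h * (g₁⁻¹ * g * g₁) * h⁻¹ := by group
    rw [this]; exact hh

end

end Cfsg.Agent.Lib.Helper3.Ree
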