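import Mathlib
import Cfsg.Agent.Lib.Helper3.Ree67
set_option autoImplicit false
set_option linter.unusedSectionVars false
set_option linter.style.haveILetI false
set_option linter.unusedSimpArgs false
open Cfsg Cfsg.Lie

/-!
Elements of the twisted group of type `G₂` commuting with an element of prime order dividing `q - 1`
or `q + 1`; the classification of the elements.
-/

namespace Cfsg.Agent.Lib.Helper3.Ree

open Cfsg.Agent.Lib.Helper3.ChevM Cfsg.Agent.Lib.Helper3.SL2P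
open Matrix

section
variable {K : Type*} [Field K] [Fintype K] [CharP K 3]

theorem odd_of_prime_gt (p : ℕ) (hp : p.Prime) (hp3 : 3 < p) : Odd p := by
  rcases hp.eq_two_or_odd' with h | h
  · omega
  · exact h

/-- an element of prime order dividing `q - 1` is conjugate into the split torus -/
theorem conj_prime_torusSplit (m : ℕ) (hK : Fintype.card K = 3 ^ (2 * m + 1)) (p : ℕ) [hp : Fact p.Prime]
    (hp3 : 3 < p) (hpq : p ∣ 3 ^ (2 * m + 1) - 1) (x : ↥(tG2 K (3 ^ m))) (hx : orderOf x = p) :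
    ∃ h : ↥(tG2 K (3 ^ m)), h * x * h⁻¹ ∈ torusSplit (K := K) m := by
  have hpp := hp.out
  have hq1 : 1 ≤ 3 ^ (2 * m + 1) := Nat.one_le_pow _ _ (by norm_num)
  have hpg : IsPGroup p (Subgroup.zpowers x) := isPGroup_zpowers_of_orderOf p x 1 (by rw [pow_one]; exact hx)
  have hidx : ¬ p ∣ (torusSplit (K := K) m).index := by
    rw [index_torusSplit m hK]
    intro hd
    rcases (Nat.Prime.dvd_mul hpp).mp hd with h | h
    · exact nt_pow_three p hp3 (2 * m + 1) (hpp.dvd_of_dvd_pow h)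
    · exact nt_sub_cube p _ hp3 hq1 hpq h
  exact exists_conj_mem_of_not_dvd_index p _ hidx x hpg

/-- an element of prime order dividing `q + 1` is conjugate into the nonsplit torus -/
theorem conj_prime_torusD (m : ℕ) (hm : 1 ≤ m) (hK : Fintype.card K = 3 ^ (2 * m + 1))
    (g₀ : SpecialLinearGroup (Fin 2) K) (hg₀ : orderOf g₀ = 3 ^ (2 * m + 1) + 1) (p : ℕ) [hp : Fact p.Prime]
    (hp3 : 3 < p) (hpq : p ∣ 3 ^ (2 * m + 1) + 1) (x : ↥(tG2 K (3 ^ m))) (hx : orderOf x = p) :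
    ∃ h : ↥(tG2 K (3 ^ m)), h * x * h⁻¹ ∈ torusD m hK g₀ := by
  have hpp := hp.out
  have hq1 : 3 ≤ 3 ^ (2 * m + 1) := by
    calc 3 = 3 ^ 1 := by norm_num
      _ ≤ 3 ^ (2 * m + 1) := Nat.pow_le_pow_right (by norm_num) (by omega)
  have hpg : IsPGroup p (Subgroup.zpowers x) := isPGroup_zpowers_of_orderOf p x 1 (by rw [pow_one]; exact hx)
  have hidx : ¬ p ∣ (torusD m hK g₀).index := by
    rw [index_torusD m hm hK g₀ hg₀]
    intro hd
    rcases (Nat.Prime.dvd_mul hpp).mp hd with h | h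
    · rcases (Nat.Prime.dvd_mul hpp).mp h with h | h
      · exact nt_pow_three p hp3 (2 * m + 1) (hpp.dvd_of_dvd_pow h)
      · exact nt_sub_add p _ hp3 (by omega) h hpq
    · exact nt_add_quad p _ hp3 (by omega) hpq h
  exact exists_conj_mem_of_not_dvd_index p _ hidx x hpg

theorem ne_one_of_orderOf_prime {G : Type*} [Group G] (x : G) (p : ℕ) (hp : p.Prime) (hx : orderOf x = p) :
    x ≠ 1 := by
  rintro rfl
  rw [orderOf_one] at hx
  exact hp.one_lt.ne hx

/-- an element commuting with an element of prime order dividing `q - 1` is conjugate into the split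
torus -/
theorem comm_prime_split (m : ℕ) (hK : Fintype.card K = 3 ^ (2 * m + 1)) (p : ℕ) [hp : Fact p.Prime]
    (hp3 : 3 < p) (hpq : p ∣ 3 ^ (2 * m + 1) - 1) (x y : ↥(tG2 K (3 ^ m))) (hx : orderOf x = p)
    (hxy : x * y = y * x) : ∃ h : ↥(tG2 K (3 ^ m)), h * y * h⁻¹ ∈ torusSplit (K := K) m := by
  obtain ⟨h, hh⟩ := conj_prime_torusSplit m hK p hp3 hpq x hx
  refine ⟨h, ?_⟩
  have hsq : h * x * h⁻¹ * (h * x * h⁻¹) ≠ 1 := by
    apply sq_ne_one_of_odd
    · rw [orderOf_conj', hx]; exact odd_of_prime_gt p hp.out hp3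
    · exact conj_ne_one h x (ne_one_of_orderOf_prime x p hp.out hx)
  rw [← centralizer_torusSplit m hK _ hh hsq, Subgroup.mem_centralizer_singleton_iff]
  calc h * y * h⁻¹ * (h * x * h⁻¹) = h * (y * x) * h⁻¹ := by group
    _ = h * (x * y) * h⁻¹ := by rw [hxy]
    _ = _ := by group

/-- an element commuting with an element of prime order dividing `q + 1` is conjugate into the
nonsplit torus -/
theorem comm_prime_nonsplit (m : ℕ) (hm : 1 ≤ m) (hK : Fintype.card K = 3 ^ (2 * m + 1))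
    (g₀ : SpecialLinearGroup (Fin 2) K) (hg₀ : orderOf g₀ = 3 ^ (2 * m + 1) + 1) (p : ℕ) [hp : Fact p.Prime]
    (hp3 : 3 < p) (hpq : p ∣ 3 ^ (2 * m + 1) + 1) (x y : ↥(tG2 K (3 ^ m))) (hx : orderOf x = p)
    (hxy : x * y = y * x) : ∃ h : ↥(tG2 K (3 ^ m)), h * y * h⁻¹ ∈ torusD m hK g₀ := by
  obtain ⟨h, hh⟩ := conj_prime_torusD m hm hK g₀ hg₀ p hp3 hpq x hx
  refine ⟨h, ?_⟩
  have hsq : h * x * h⁻¹ * (h * x * h⁻¹) ≠ 1 := by
    apply sq_ne_one_of_odd
    · rw [orderOf_conj', hx]; exact odd_of_prime_gt p hp.out hp3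
    · exact conj_ne_one h x (ne_one_of_orderOf_prime x p hp.out hx)
  rw [← centralizer_of_sq_ne_torusD m hm hK g₀ hg₀ _ hh hsq, Subgroup.mem_centralizer_singleton_iff]
  calc h * y * h⁻¹ * (h * x * h⁻¹) = h * (y * x) * h⁻¹ := by group
    _ = h * (x * y) * h⁻¹ := by rw [hxy]
    _ = _ := by group

/-- the elements of the split torus which are not of exponent two -/
def tSet (K : Type*) [Field K] [Fintype K] (m : ℕ) : Set ↥(tG2 K (3 ^ m)) :=
  {a | a ∈ torusSplit (K := K) m ∧ a * a ≠ 1}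

/-- the elements of the nonsplit torus which are not of exponent two -/
def dSet (m : ℕ) (hK : Fintype.card K = 3 ^ (2 * m + 1)) (g₀ : SpecialLinearGroup (Fin 2) K) :
    Set ↥(tG2 K (3 ^ m)) :=
  {a | a ∈ torusD m hK g₀ ∧ a * a ≠ 1}

theorem card_tG2_factor (m : ℕ) (hK : Fintype.card K = 3 ^ (2 * m + 1)) :
    Nat.card ↥(tG2 K (3 ^ m)) = (3 ^ (2 * m + 1)) ^ 3 * ((3 ^ (2 * m + 1) - 1) *
      ((3 ^ (2 * m + 1) + 1) * ((3 ^ (2 * m + 1)) ^ 2 - 3 ^ (2 * m + 1) + 1))) := by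
  rw [card_tG2 m hK, nt_cube_factor _ (Nat.one_le_pow _ _ (by norm_num))]
  ring

/-- the classification of the elements of the twisted group -/
theorem element_cases (m : ℕ) (hm : 1 ≤ m) (hK : Fintype.card K = 3 ^ (2 * m + 1))
    (g₀ : SpecialLinearGroup (Fin 2) K) (hg₀ : orderOf g₀ = 3 ^ (2 * m + 1) + 1)
    (g : ↥(tG2 K (3 ^ m))) :
    g * g = 1 ∨ 3 ∣ orderOf g ∨ g ∈ conjUnion (tSet K m) ∨ g ∈ conjUnion (dSet m hK g₀) ∨
      orderOf g ∣ (3 ^ (2 * m + 1)) ^ 2 - 3 ^ (2 * m + 1) + 1 := by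
  by_cases h3 : 3 ∣ orderOf g
  · exact Or.inr (Or.inl h3)
  have hT : ∀ h : ↥(tG2 K (3 ^ m)), h * g * h⁻¹ ∈ torusSplit (K := K) m →
      g * g = 1 ∨ g ∈ conjUnion (tSet K m) := by
    intro h hh
    by_cases h2 : g * g = 1
    · exact Or.inl h2
    · right
      refine ⟨h⁻¹, ?_⟩
      rw [inv_inv]
      refine ⟨hh, ?_⟩
      have : h * g * h⁻¹ * (h * g * h⁻¹) = h * (g * g) * h⁻¹ := by group
      rw [this]
      exact conj_ne_one h _ h2
  have hD : ∀ h : ↥(tG2 K (3 ^ m)), h * g * h⁻¹ ∈ torusD m hK g₀ →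
      g * g = 1 ∨ g ∈ conjUnion (dSet m hK g₀) := by
    intro h hh
    by_cases h2 : g * g = 1
    · exact Or.inl h2
    · right
      refine ⟨h⁻¹, ?_⟩
      rw [inv_inv]
      refine ⟨hh, ?_⟩
      have : h * g * h⁻¹ * (h * g * h⁻¹) = h * (g * g) * h⁻¹ := by group
      rw [this]
      exact conj_ne_one h _ h2
  by_cases h2 : 2 ∣ orderOf g
  · rcases even_order_cases m hm hK g₀ hg₀ g h2 with h | ⟨h, hh⟩ | ⟨h, hh⟩
    · left
      have hd : orderOf g ∣ 6 := orderOf_dvd_of_pow_eq_one h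
      have hd2 : orderOf g ∣ 2 := by
        have hcop : Nat.Coprime (orderOf g) 3 :=
          (Nat.Coprime.symm ((Nat.Prime.coprime_iff_not_dvd (by norm_num)).mpr h3))
        exact hcop.dvd_of_dvd_mul_right (show orderOf g ∣ 2 * 3 from hd)
      rw [← pow_two]
      exact orderOf_dvd_iff_pow_eq_one.mp hd2
    · rcases hT h hh with h' | h'
      · exact Or.inl h'
      · exact Or.inr (Or.inr (Or.inl h'))
    · rcases hD h hh with h' | h'
      · exact Or.inl h'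
      · exact Or.inr (Or.inr (Or.inr (Or.inl h')))
  -- the order is prime to six
  have hprime : ∀ p : ℕ, p.Prime → p ∣ orderOf g → 3 < p := by
    intro p hp hpd
    have h2' : p ≠ 2 := fun h => h2 (h ▸ hpd)
    have h3' : p ≠ 3 := fun h => h3 (h ▸ hpd)
    have := hp.two_le
    omega
  by_cases hex1 : ∃ p : ℕ, p.Prime ∧ p ∣ orderOf g ∧ p ∣ 3 ^ (2 * m + 1) - 1
  · obtain ⟨p, hp, hpd, hpq⟩ := hex1
    haveI : Fact p.Prime := ⟨hp⟩
    obtain ⟨k, hk⟩ := hpd
    have hk0 : k ≠ 0 := by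
      rintro rfl
      rw [mul_zero] at hk
      exact (orderOf_pos g).ne' hk
    have hx : orderOf (g ^ k) = p := by
      rw [orderOf_pow_of_dvd hk0 ⟨p, by rw [hk]; ring⟩, hk]
      exact Nat.mul_div_cancel _ (Nat.pos_of_ne_zero hk0)
    obtain ⟨h, hh⟩ := comm_prime_split m hK p (hprime p hp ⟨k, hk⟩) hpq (g ^ k) g hx
      (by rw [← pow_succ, ← pow_succ'])
    rcases hT h hh with h' | h'
    · exact Or.inl h'
    · exact Or.inr (Or.inr (Or.inl h'))
  by_cases hex2 : ∃ p : ℕ, p.Prime ∧ p ∣ orderOf g ∧ p ∣ 3 ^ (2 * m + 1) + 1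
  · obtain ⟨p, hp, hpd, hpq⟩ := hex2
    haveI : Fact p.Prime := ⟨hp⟩
    obtain ⟨k, hk⟩ := hpd
    have hk0 : k ≠ 0 := by
      rintro rfl
      rw [mul_zero] at hk
      exact (orderOf_pos g).ne' hk
    have hx : orderOf (g ^ k) = p := by
      rw [orderOf_pow_of_dvd hk0 ⟨p, by rw [hk]; ring⟩, hk]
      exact Nat.mul_div_cancel _ (Nat.pos_of_ne_zero hk0)
    obtain ⟨h, hh⟩ := comm_prime_nonsplit m hm hK g₀ hg₀ p (hprime p hp ⟨k, hk⟩) hpq (g ^ k) g hx
      (by rw [← pow_succ, ← pow_succ'])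
    rcases hD h hh with h' | h'
    · exact Or.inl h'
    · exact Or.inr (Or.inr (Or.inr (Or.inl h')))
  -- the order divides `q ^ 2 - q + 1`
  right; right; right; right
  push Not at hex1 hex2
  have hdvd : orderOf g ∣ Nat.card ↥(tG2 K (3 ^ m)) := orderOf_dvd_natCard g
  rw [card_tG2_factor m hK] at hdvd
  have hc3 : Nat.Coprime (orderOf g) ((3 ^ (2 * m + 1)) ^ 3) := by
    apply Nat.Coprime.pow_right
    apply Nat.Coprime.pow_right
    exact (Nat.Coprime.symm ((Nat.Prime.coprime_iff_not_dvd (by norm_num)).mpr h3))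
  have hc1 : Nat.Coprime (orderOf g) (3 ^ (2 * m + 1) - 1) := by
    apply Nat.coprime_of_dvd
    intro p hp hpd hpq
    exact hex1 p hp hpd hpq
  have hc2 : Nat.Coprime (orderOf g) (3 ^ (2 * m + 1) + 1) := by
    apply Nat.coprime_of_dvd
    intro p hp hpd hpq
    exact hex2 p hp hpd hpq
  exact hc2.dvd_of_dvd_mul_left (hc1.dvd_of_dvd_mul_left (hc3.dvd_of_dvd_mul_left hdvd))

end

end Cfsg.Agent.Lib.Helper3.Ree
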