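import Mathlib
import Cfsg.Agent.Lib.Helper3.Ree68
set_option autoImplicit false
set_option linter.unusedSectionVars false
set_option linter.style.haveILetI false
set_option linter.unusedSimpArgs false
open Cfsg Cfsg.Lie

/-!
Counting the elements of the twisted group of type `G₂` whose order is not prime to `6 (q² - 1)`.
-/

namespace Cfsg.Agent.Lib.Helper3.Ree

open Cfsg.Agent.Lib.Helper3.ChevM Cfsg.Agent.Lib.Helper3.SL2P
open Matrix

section arith

theorem q_ge (m : ℕ) : 3 ≤ 3 ^ (2 * m + 1) := by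
  calc 3 = 3 ^ 1 := by norm_num
    _ ≤ 3 ^ (2 * m + 1) := Nat.pow_le_pow_right (by norm_num) (by omega)

theorem three_dvd_q (m : ℕ) : 3 ∣ 3 ^ (2 * m + 1) := dvd_pow_self 3 (by omega)

theorem not_three_dvd_add_one (m : ℕ) : ¬ 3 ∣ 3 ^ (2 * m + 1) + 1 := by
  intro h
  have := (Nat.dvd_add_right (three_dvd_q m)).mp h
  omega

theorem quad_eq (q : ℕ) (hq : 1 ≤ q) : q ^ 2 - q + 1 = q * (q - 1) + 1 := by
  obtain ⟨k, rfl⟩ : ∃ k, q = k + 1 := ⟨q - 1, by omega⟩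
  have : (k + 1) ^ 2 = (k + 1) * k + (k + 1) := by ring
  rw [this]
  simp

theorem not_three_dvd_quad (m : ℕ) : ¬ 3 ∣ (3 ^ (2 * m + 1)) ^ 2 - 3 ^ (2 * m + 1) + 1 := by
  intro h
  rw [quad_eq _ (by have := q_ge m; omega)] at h
  have h1 : 3 ∣ 3 ^ (2 * m + 1) * (3 ^ (2 * m + 1) - 1) := Dvd.dvd.mul_right (three_dvd_q m) _
  have := (Nat.dvd_add_right h1).mp h
  omega

theorem odd_quad (m : ℕ) : Odd ((3 ^ (2 * m + 1)) ^ 2 - 3 ^ (2 * m + 1) + 1) := by
  rw [quad_eq _ (by have := q_ge m; omega)]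
  have h := Nat.even_mul_pred_self (3 ^ (2 * m + 1))
  exact Even.add_one h

/-- a common divisor of `q - 1` and `q + 1` divides two -/
theorem dvd_two_of_dvd_sub_add (n q : ℕ) (hq : 1 ≤ q) (h1 : n ∣ q - 1) (h2 : n ∣ q + 1) : n ∣ 2 := by
  have e : q + 1 = (q - 1) + 2 := by omega
  rw [e] at h2
  exact (Nat.dvd_add_right h1).mp h2

/-- a common divisor of `q - 1` and `q² - q + 1` is one -/
theorem eq_one_of_dvd_sub_quad (n q : ℕ) (hq : 1 ≤ q) (h1 : n ∣ q - 1) (h2 : n ∣ q ^ 2 - q + 1) : n = 1 := by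
  rw [quad_eq q hq] at h2
  have h3 : n ∣ q * (q - 1) := Dvd.dvd.mul_left h1 q
  exact Nat.eq_one_of_dvd_one ((Nat.dvd_add_right h3).mp h2)

/-- a common divisor of `q + 1` and `q² - q + 1` divides three -/
theorem dvd_three_of_dvd_add_quad (n q : ℕ) (hq : 2 ≤ q) (h1 : n ∣ q + 1) (h2 : n ∣ q ^ 2 - q + 1) : n ∣ 3 := by
  have e : q ^ 2 - q + 1 = (q + 1) * (q - 2) + 3 := by
    obtain ⟨k, rfl⟩ : ∃ k, q = k + 2 := ⟨q - 2, by omega⟩
    simp only [Nat.add_sub_cancel]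
    have : (k + 2) ^ 2 = ((k + 2 + 1) * k + 2) + (k + 2) := by ring
    rw [this, Nat.add_sub_cancel]
  rw [e] at h2
  have h3 : n ∣ (q + 1) * (q - 2) := Dvd.dvd.mul_right h1 _
  exact (Nat.dvd_add_right h3).mp h2

theorem eq_one_of_dvd_add_quad (m n : ℕ) (h1 : n ∣ 3 ^ (2 * m + 1) + 1)
    (h2 : n ∣ (3 ^ (2 * m + 1)) ^ 2 - 3 ^ (2 * m + 1) + 1) : n = 1 := by
  have h3 := dvd_three_of_dvd_add_quad n _ (by have := q_ge m; omega) h1 h2
  have hle := Nat.le_of_dvd (by norm_num) h3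
  have hpos : 0 < n := Nat.pos_of_dvd_of_pos h3 (by norm_num)
  interval_cases n
  · rfl
  · norm_num at h3
  · exact absurd h1 (not_three_dvd_add_one m)

end arith

section
variable {K : Type*} [Field K] [Fintype K] [CharP K 3]

theorem sq_eq_one_iff_orderOf {G : Type*} [Group G] (g : G) : g * g = 1 ↔ orderOf g ∣ 2 := by
  rw [← pow_two, orderOf_dvd_iff_pow_eq_one]

/-- the order of an element conjugate to an element of the split torus -/
theorem orderOf_conjUnion_tSet (m : ℕ) (hK : Fintype.card K = 3 ^ (2 * m + 1)) (g : ↥(tG2 K (3 ^ m)))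
    (hg : g ∈ conjUnion (tSet K m)) : orderOf g ∣ 3 ^ (2 * m + 1) - 1 ∧ ¬ orderOf g ∣ 2 := by
  obtain ⟨h, hh, hh2⟩ := hg
  constructor
  · have := orderOf_dvd_of_mem_torusSplit m hK _ hh
    rw [orderOf_conj''] at this
    exact this
  · rw [← sq_eq_one_iff_orderOf]
    intro h2
    apply hh2
    calc h⁻¹ * g * h * (h⁻¹ * g * h) = h⁻¹ * (g * g) * h := by group
      _ = 1 := by rw [h2]; group

/-- the order of an element conjugate to an element of the nonsplit torus -/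
theorem orderOf_conjUnion_dSet (m : ℕ) (hm : 1 ≤ m) (hK : Fintype.card K = 3 ^ (2 * m + 1))
    (g₀ : SpecialLinearGroup (Fin 2) K) (hg₀ : orderOf g₀ = 3 ^ (2 * m + 1) + 1) (g : ↥(tG2 K (3 ^ m)))
    (hg : g ∈ conjUnion (dSet m hK g₀)) : orderOf g ∣ 3 ^ (2 * m + 1) + 1 ∧ ¬ orderOf g ∣ 2 := by
  obtain ⟨h, hh, hh2⟩ := hg
  constructor
  · have := orderOf_dvd_card_of_mem _ _ hh
    rw [orderOf_conj'', card_torusD m hm hK g₀ hg₀] at this
    exact this
  · rw [← sq_eq_one_iff_orderOf]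
    intro h2
    apply hh2
    calc h⁻¹ * g * h * (h⁻¹ * g * h) = h⁻¹ * (g * g) * h := by group
      _ = 1 := by rw [h2]; group

end

end Cfsg.Agent.Lib.Helper3.Ree
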