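import Mathlib
import Cfsg.Agent.Lib.Helper3.Ree69
set_option autoImplicit false
set_option linter.unusedSectionVars false
set_option linter.style.haveILetI false
set_option linter.unusedSimpArgs false
open Cfsg Cfsg.Lie

/-!
The numbers of elements of the twisted group of type `G₂` conjugate to elements of the split torus
and of the nonsplit torus.
-/

namespace Cfsg.Agent.Lib.Helper3.Ree

open Cfsg.Agent.Lib.Helper3.ChevM Cfsg.Agent.Lib.Helper3.SL2P
open Matrix

section
variable {K : Type*} [Field K] [Fintype K] [CharP K 3]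

theorem card_tSet (m : ℕ) (hK : Fintype.card K = 3 ^ (2 * m + 1)) :
    Nat.card ↥(tSet K m) = 3 ^ (2 * m + 1) - 3 := by
  have h1 := card_torusSplit (K := K) m hK
  have hun : ((torusSplit (K := K) m : Subgroup ↥(tG2 K (3 ^ m))) : Set ↥(tG2 K (3 ^ m))) =
      {1, zG m hK} ∪ tSet K m := by
    ext a
    constructor
    · intro ha
      by_cases h2 : a * a = 1
      · left
        by_cases h1 : a = 1
        · left; exact h1
        · right
          rw [Set.mem_singleton_iff]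
          exact eq_zG m hK a (torusSplit_le_diag m a ha) h1 h2
      · right
        exact ⟨ha, h2⟩
    · rintro (h | h)
      · rcases h with h | h
        · rw [h]; exact Subgroup.one_mem _
        · rw [Set.mem_singleton_iff] at h
          rw [h]; exact zG_mem_torusSplit m hK
      · exact h.1
  have hd : Disjoint ({1, zG m hK} : Set ↥(tG2 K (3 ^ m))) (tSet K m) := by
    rw [Set.disjoint_left]
    rintro a (h | h) ha
    · exact ha.2 (by rw [h, mul_one])
    · rw [Set.mem_singleton_iff] at h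
      exact ha.2 (by rw [h, zG_sq])
  have h2 : Nat.card ↥(torusSplit (K := K) m) =
      Nat.card ↥((torusSplit (K := K) m : Subgroup ↥(tG2 K (3 ^ m))) : Set ↥(tG2 K (3 ^ m))) := rfl
  rw [h2, hun, Nat.card_coe_set_eq, Set.ncard_union_eq hd (Set.toFinite _) (Set.toFinite _),
    Set.ncard_pair (zG_ne_one m hK).symm, ← Nat.card_coe_set_eq] at h1
  omega

theorem card_dSet (m : ℕ) (hm : 1 ≤ m) (hK : Fintype.card K = 3 ^ (2 * m + 1))
    (g₀ : SpecialLinearGroup (Fin 2) K) (hg₀ : orderOf g₀ = 3 ^ (2 * m + 1) + 1) :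
    Nat.card ↥(dSet m hK g₀) = 3 ^ (2 * m + 1) - 3 := by
  have h1 := card_torusD (K := K) m hm hK g₀ hg₀
  obtain ⟨hne1, hne2⟩ := zG_mul_tD_ne m hm hK g₀ hg₀
  have hun : ((torusD m hK g₀ : Subgroup ↥(tG2 K (3 ^ m))) : Set ↥(tG2 K (3 ^ m))) =
      {1, zG m hK, tD m g₀, zG m hK * tD m g₀} ∪ dSet m hK g₀ := by
    ext a
    constructor
    · intro ha
      by_cases h2 : a * a = 1
      · left
        rcases involution_torusD m hm hK g₀ hg₀ a ha h2 with h | h | h | h
        · rw [h]; simp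
        · rw [h]; simp
        · rw [h]; simp
        · rw [h]; simp
      · right
        exact ⟨ha, h2⟩
    · rintro (h | h)
      · simp only [Set.mem_insert_iff, Set.mem_singleton_iff] at h
        rcases h with h | h | h | h
        · rw [h]; exact Subgroup.one_mem _
        · rw [h]; exact zG_mem_torusD m hK g₀
        · rw [h]; exact tD_mem_torusD m hK g₀
        · rw [h]; exact Subgroup.mul_mem _ (zG_mem_torusD m hK g₀) (tD_mem_torusD m hK g₀)
      · exact h.1
  have hzt : zG m hK * tD m g₀ = tD m g₀ * zG m hK := zG_comm_psiR m hK _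
  have hd : Disjoint ({1, zG m hK, tD m g₀, zG m hK * tD m g₀} : Set ↥(tG2 K (3 ^ m))) (dSet m hK g₀) := by
    rw [Set.disjoint_left]
    intro a h ha
    simp only [Set.mem_insert_iff, Set.mem_singleton_iff] at h
    apply ha.2
    rcases h with h | h | h | h
    · rw [h, mul_one]
    · rw [h, zG_sq]
    · rw [h, tD_sq m hm g₀ hg₀]
    · rw [h]
      calc zG m hK * tD m g₀ * (zG m hK * tD m g₀) = zG m hK * (tD m g₀ * zG m hK) * tD m g₀ := by group
        _ = zG m hK * (zG m hK * tD m g₀) * tD m g₀ := by rw [hzt]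
        _ = (zG m hK * zG m hK) * (tD m g₀ * tD m g₀) := by group
        _ = 1 := by rw [zG_sq, tD_sq m hm g₀ hg₀, one_mul]
  have h4 : ({1, zG m hK, tD m g₀, zG m hK * tD m g₀} : Set ↥(tG2 K (3 ^ m))).ncard = 4 := by
    rw [Set.ncard_eq_succ (Set.toFinite _)]
    refine ⟨1, {zG m hK, tD m g₀, zG m hK * tD m g₀}, ?_, rfl, ?_⟩
    · simp only [Set.mem_insert_iff, Set.mem_singleton_iff, not_or]
      refine ⟨(zG_ne_one m hK).symm, (tD_ne_one m hm g₀ hg₀).symm, ?_⟩
      intro h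
      apply zG_ne_tD (K := K) m hK g₀
      have ht2 := tD_sq m hm g₀ hg₀
      calc zG m hK = zG m hK * tD m g₀ * tD m g₀ := by rw [mul_assoc, ht2, mul_one]
        _ = tD m g₀ := by rw [← h, one_mul]
    · rw [Set.ncard_eq_three]
      exact ⟨_, _, _, zG_ne_tD m hK g₀, fun h => hne1 h.symm, fun h => hne2 h.symm, rfl⟩
  have h2 : Nat.card ↥(torusD m hK g₀) =
      Nat.card ↥((torusD m hK g₀ : Subgroup ↥(tG2 K (3 ^ m))) : Set ↥(tG2 K (3 ^ m))) := rfl
  rw [h2, hun, Nat.card_coe_set_eq, Set.ncard_union_eq hd (Set.toFinite _) (Set.toFinite _),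
    h4, ← Nat.card_coe_set_eq] at h1
  omega

theorem card_conjUnion_tSet (m : ℕ) (hK : Fintype.card K = 3 ^ (2 * m + 1)) :
    2 * Nat.card ↥(conjUnion (tSet K m)) =
      (3 ^ (2 * m + 1)) ^ 3 * ((3 ^ (2 * m + 1)) ^ 3 + 1) * (3 ^ (2 * m + 1) - 3) := by
  rw [card_conjUnion_torus m hK (tSet K m) (fun a ha => ha.1) (fun a ha => ha.2) ?_, card_tSet m hK]
  intro a ha
  refine ⟨Subgroup.inv_mem _ ha.1, ?_⟩
  intro h
  apply ha.2
  have : a⁻¹ * a⁻¹ = (a * a)⁻¹ := by group
  rw [this, inv_eq_one] at h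
  exact h

theorem card_conjUnion_dSet (m : ℕ) (hm : 1 ≤ m) (hK : Fintype.card K = 3 ^ (2 * m + 1))
    (g₀ : SpecialLinearGroup (Fin 2) K) (hg₀ : orderOf g₀ = 3 ^ (2 * m + 1) + 1) :
    6 * Nat.card ↥(conjUnion (dSet m hK g₀)) = (3 ^ (2 * m + 1)) ^ 3 * (3 ^ (2 * m + 1) - 1) *
      ((3 ^ (2 * m + 1)) ^ 2 - 3 ^ (2 * m + 1) + 1) * (3 ^ (2 * m + 1) - 3) := by
  rw [card_conjUnion_torusD m hm hK g₀ hg₀ (dSet m hK g₀) (fun a ha => ha.1) (fun a ha => ha.2) ?_,
    card_dSet m hm hK g₀ hg₀]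
  intro n hn x hx
  refine ⟨(Subgroup.mem_normalizer_iff.mp hn x).mp hx.1, ?_⟩
  have : n * x * n⁻¹ * (n * x * n⁻¹) = n * (x * x) * n⁻¹ := by group
  rw [this]
  exact conj_ne_one n _ hx.2

end

end Cfsg.Agent.Lib.Helper3.Ree
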