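import Mathlib
import Cfsg.Agent.Lib.Helper3.Ree70
set_option autoImplicit false
set_option linter.unusedSectionVars false
set_option linter.style.haveILetI false
set_option linter.unusedSimpArgs false
open Cfsg Cfsg.Lie

/-!
The number of elements of the twisted group of type `G₂` whose order divides `q² - q + 1`.
-/

namespace Cfsg.Agent.Lib.Helper3.Ree

open Cfsg.Agent.Lib.Helper3.ChevM Cfsg.Agent.Lib.Helper3.SL2P
open Matrix

section
variable {K : Type*} [Field K] [Fintype K] [CharP K 3]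

/-- the nontrivial elements whose order divides `q² - q + 1` -/
def ySet (K : Type*) [Field K] [Fintype K] (m : ℕ) : Set ↥(tG2 K (3 ^ m)) :=
  {g | g ≠ 1 ∧ orderOf g ∣ (3 ^ (2 * m + 1)) ^ 2 - 3 ^ (2 * m + 1) + 1}

/-- the elements of exponent two -/
def sqSet (G : Type*) [Group G] : Set G := {g | g * g = 1}

/-- the elements of order divisible by three -/
def threeSet (G : Type*) [Group G] : Set G := {g | 3 ∣ orderOf g}

theorem card_sqSet (m : ℕ) (hm : 1 ≤ m) (hK : Fintype.card K = 3 ^ (2 * m + 1)) :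
    Nat.card ↥(sqSet ↥(tG2 K (3 ^ m))) =
      1 + (3 ^ (2 * m + 1)) ^ 2 * ((3 ^ (2 * m + 1)) ^ 2 - 3 ^ (2 * m + 1) + 1) := by
  have hun : sqSet ↥(tG2 K (3 ^ m)) = {1} ∪ invSet ↥(tG2 K (3 ^ m)) := by
    ext g
    constructor
    · intro hg
      by_cases h1 : g = 1
      · left; exact h1
      · right; exact ⟨hg, h1⟩
    · rintro (h | h)
      · rw [Set.mem_singleton_iff] at h
        show g * g = 1
        rw [h, mul_one]
      · exact h.1
  have hd : Disjoint ({1} : Set ↥(tG2 K (3 ^ m))) (invSet ↥(tG2 K (3 ^ m))) := by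
    rw [Set.disjoint_left]
    intro g hg hg'
    exact hg'.2 hg
  rw [hun, Nat.card_coe_set_eq, Set.ncard_union_eq hd (Set.toFinite _) (Set.toFinite _),
    Set.ncard_singleton, ← Nat.card_coe_set_eq, card_invSet m hm hK]

theorem orderOf_of_three_dvd (m : ℕ) (hK : Fintype.card K = 3 ^ (2 * m + 1)) (g : ↥(tG2 K (3 ^ m)))
    (h3 : 3 ∣ orderOf g) : orderOf g = 3 ∨ orderOf g = 9 ∨ orderOf g = 6 := by
  obtain ⟨h, hh | hh⟩ := three_dvd_cases m hK g h3
  · have hd := orderOf_dvd_nine_uSub m hK _ hh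
    rw [orderOf_conj'] at hd
    have hle : orderOf g ≤ 9 := Nat.le_of_dvd (by norm_num) hd
    have hpos := orderOf_pos g
    interval_cases h : orderOf g
    · norm_num at h3
    · norm_num at hd
    · left; rfl
    · norm_num at hd
    · norm_num at hd
    · norm_num at hd
    · norm_num at hd
    · norm_num at hd
    · right; left; rfl
  · have := orderOf_mSet m hK _ hh
    rw [orderOf_conj'] at this
    exact Or.inr (Or.inr this)

theorem card_threeSet (m : ℕ) (hK : Fintype.card K = 3 ^ (2 * m + 1)) :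
    Nat.card ↥(threeSet ↥(tG2 K (3 ^ m))) =
      ((3 ^ (2 * m + 1)) ^ 2 - 1) * ((3 ^ (2 * m + 1)) ^ 3 + 1) +
        2 * ((3 ^ (2 * m + 1)) ^ 2 * (3 ^ (2 * m + 1) - 1) * ((3 ^ (2 * m + 1)) ^ 3 + 1)) := by
  have hun : threeSet ↥(tG2 K (3 ^ m)) = {g : ↥(tG2 K (3 ^ m)) | orderOf g = 3} ∪
      {g : ↥(tG2 K (3 ^ m)) | orderOf g = 9} ∪ {g : ↥(tG2 K (3 ^ m)) | orderOf g = 6} := by
    ext g
    constructor
    · intro hg
      rcases orderOf_of_three_dvd m hK g hg with h | h | h
      · left; left; exact h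
      · left; right; exact h
      · right; exact h
    · rintro ((h | h) | h)
      · show 3 ∣ orderOf g
        rw [show orderOf g = 3 from h]
      · show 3 ∣ orderOf g
        rw [show orderOf g = 9 from h]; norm_num
      · show 3 ∣ orderOf g
        rw [show orderOf g = 6 from h]; norm_num
  have hd1 : Disjoint {g : ↥(tG2 K (3 ^ m)) | orderOf g = 3} {g : ↥(tG2 K (3 ^ m)) | orderOf g = 9} := by
    rw [Set.disjoint_left]
    intro g hg hg'
    have h1 : orderOf g = 3 := hg
    have h2 : orderOf g = 9 := hg'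
    omega
  have hd2 : Disjoint ({g : ↥(tG2 K (3 ^ m)) | orderOf g = 3} ∪ {g : ↥(tG2 K (3 ^ m)) | orderOf g = 9})
      {g : ↥(tG2 K (3 ^ m)) | orderOf g = 6} := by
    rw [Set.disjoint_left]
    rintro g (hg | hg) hg'
    · have h1 : orderOf g = 3 := hg
      have h2 : orderOf g = 6 := hg'
      omega
    · have h1 : orderOf g = 9 := hg
      have h2 : orderOf g = 6 := hg'
      omega
  have e3 := card_order_three_ree (K := K) m hK
  have e9 := card_order_nine_ree (K := K) m hK
  have e6 := card_order_six_ree (K := K) m hK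
  have c3 : Nat.card {g : ↥(tG2 K (3 ^ m)) // orderOf g = 3} =
      Nat.card ↥{g : ↥(tG2 K (3 ^ m)) | orderOf g = 3} := rfl
  have c9 : Nat.card {g : ↥(tG2 K (3 ^ m)) // orderOf g = 9} =
      Nat.card ↥{g : ↥(tG2 K (3 ^ m)) | orderOf g = 9} := rfl
  have c6 : Nat.card {g : ↥(tG2 K (3 ^ m)) // orderOf g = 6} =
      Nat.card ↥{g : ↥(tG2 K (3 ^ m)) | orderOf g = 6} := rfl
  rw [c3] at e3
  rw [c9] at e9
  rw [c6] at e6
  rw [hun, Nat.card_coe_set_eq, Set.ncard_union_eq hd2 (Set.toFinite _) (Set.toFinite _),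
    Set.ncard_union_eq hd1 (Set.toFinite _) (Set.toFinite _), ← Nat.card_coe_set_eq, ← Nat.card_coe_set_eq,
    ← Nat.card_coe_set_eq, e3, e9, e6]
  ring

end

end Cfsg.Agent.Lib.Helper3.Ree
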