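import Mathlib
import Cfsg.Agent.Lib.Helper3.Ree71
set_option autoImplicit false
set_option linter.unusedSectionVars false
set_option linter.style.haveILetI false
set_option linter.unusedSimpArgs false
open Cfsg Cfsg.Lie

/-!
The number of elements of the twisted group of type `G₂` whose order divides `q² - q + 1`.
-/

namespace Cfsg.Agent.Lib.Helper3.Ree

open Cfsg.Agent.Lib.Helper3.ChevM Cfsg.Agent.Lib.Helper3.SL2P
open Matrix

section
variable {K : Type*} [Field K] [Fintype K] [CharP K 3]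

theorem card_partition (m : ℕ) (hm : 1 ≤ m) (hK : Fintype.card K = 3 ^ (2 * m + 1))
    (g₀ : SpecialLinearGroup (Fin 2) K) (hg₀ : orderOf g₀ = 3 ^ (2 * m + 1) + 1) :
    Nat.card ↥(tG2 K (3 ^ m)) = Nat.card ↥(sqSet ↥(tG2 K (3 ^ m))) +
      (Nat.card ↥(threeSet ↥(tG2 K (3 ^ m))) + (Nat.card ↥(conjUnion (tSet K m)) +
        (Nat.card ↥(conjUnion (dSet m hK g₀)) + Nat.card ↥(ySet K m)))) := by
  have hq := q_ge m
  have hun : (Set.univ : Set ↥(tG2 K (3 ^ m))) = sqSet ↥(tG2 K (3 ^ m)) ∪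
      (threeSet ↥(tG2 K (3 ^ m)) ∪ (conjUnion (tSet K m) ∪ (conjUnion (dSet m hK g₀) ∪ ySet K m))) := by
    ext g
    simp only [Set.mem_univ, true_iff]
    rcases element_cases m hm hK g₀ hg₀ g with h | h | h | h | h
    · exact Or.inl h
    · exact Or.inr (Or.inl h)
    · exact Or.inr (Or.inr (Or.inl h))
    · exact Or.inr (Or.inr (Or.inr (Or.inl h)))
    · by_cases h1 : g = 1
      · left
        show g * g = 1
        rw [h1, mul_one]
      · exact Or.inr (Or.inr (Or.inr (Or.inr ⟨h1, h⟩)))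
  have hT := fun g hg => orderOf_conjUnion_tSet (K := K) m hK g hg
  have hD := fun g hg => orderOf_conjUnion_dSet (K := K) m hm hK g₀ hg₀ g hg
  have hY1 : ∀ g ∈ ySet K m, orderOf g ≠ 1 := fun g hg h => hg.1 (orderOf_eq_one_iff.mp h)
  have d4 : Disjoint (conjUnion (dSet m hK g₀)) (ySet K m) := by
    rw [Set.disjoint_left]
    intro g hg hg'
    exact hY1 g hg' (eq_one_of_dvd_add_quad m _ (hD g hg).1 hg'.2)
  have d3 : Disjoint (conjUnion (tSet K m)) (conjUnion (dSet m hK g₀) ∪ ySet K m) := by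
    rw [Set.disjoint_left]
    rintro g hg (hg' | hg')
    · exact (hT g hg).2 (dvd_two_of_dvd_sub_add _ _ (by omega) (hT g hg).1 (hD g hg').1)
    · exact hY1 g hg' (eq_one_of_dvd_sub_quad _ _ (by omega) (hT g hg).1 hg'.2)
  have d2 : Disjoint (threeSet ↥(tG2 K (3 ^ m)))
      (conjUnion (tSet K m) ∪ (conjUnion (dSet m hK g₀) ∪ ySet K m)) := by
    rw [Set.disjoint_left]
    rintro g hg (hg' | hg' | hg')
    · exact not_three_dvd_sub_one m (dvd_trans hg (hT g hg').1)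
    · exact not_three_dvd_add_one m (dvd_trans hg (hD g hg').1)
    · exact not_three_dvd_quad m (dvd_trans hg hg'.2)
  have d1 : Disjoint (sqSet ↥(tG2 K (3 ^ m))) (threeSet ↥(tG2 K (3 ^ m)) ∪
      (conjUnion (tSet K m) ∪ (conjUnion (dSet m hK g₀) ∪ ySet K m))) := by
    rw [Set.disjoint_left]
    intro g hg
    have h2 : orderOf g ∣ 2 := (sq_eq_one_iff_orderOf g).mp hg
    rintro (hg' | hg' | hg' | hg')
    · have : 3 ∣ 2 := dvd_trans hg' h2
      omega
    · exact (hT g hg').2 h2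
    · exact (hD g hg').2 h2
    · have hodd := odd_quad m
      have hcop : Nat.Coprime 2 ((3 ^ (2 * m + 1)) ^ 2 - 3 ^ (2 * m + 1) + 1) :=
        Nat.coprime_two_left.mpr hodd
      exact hY1 g hg' (Nat.eq_one_of_dvd_coprimes hcop h2 hg'.2)
  rw [← Nat.card_univ, hun, Nat.card_coe_set_eq, Set.ncard_union_eq d1 (Set.toFinite _) (Set.toFinite _),
    Set.ncard_union_eq d2 (Set.toFinite _) (Set.toFinite _),
    Set.ncard_union_eq d3 (Set.toFinite _) (Set.toFinite _),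
    Set.ncard_union_eq d4 (Set.toFinite _) (Set.toFinite _)]
  simp only [Nat.card_coe_set_eq]

/-- the number of nontrivial elements whose order divides `q² - q + 1` -/
theorem card_ySet (m : ℕ) (hm : 1 ≤ m) (hK : Fintype.card K = 3 ^ (2 * m + 1)) :
    3 * Nat.card ↥(ySet K m) =
      (3 ^ (2 * m + 1)) ^ 4 * ((3 ^ (2 * m + 1)) ^ 2 - 1) * (3 ^ (2 * m + 1) - 2) := by
  haveI : Fact (Nat.Prime 3) := ⟨by norm_num⟩
  obtain ⟨g₀, hg₀⟩ := Cfsg.Agent.Lib.Helper5.exists_orderOf_eq_card_add_one (F := K) 3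
  rw [hK] at hg₀
  have hp := card_partition m hm hK g₀ hg₀
  have hT := card_conjUnion_tSet (K := K) m hK
  have hD := card_conjUnion_dSet m hm hK g₀ hg₀
  rw [card_tG2 m hK, card_sqSet m hm hK, card_threeSet m hK] at hp
  obtain ⟨q, hq⟩ : ∃ q, q = 3 ^ (2 * m + 1) := ⟨_, rfl⟩
  rw [← hq] at hp hT hD ⊢
  have hq3 : 3 ≤ q := by rw [hq]; exact q_ge m
  obtain ⟨k, rfl⟩ : ∃ k, q = k + 3 := ⟨q - 3, by omega⟩
  have e1 : k + 3 - 1 = k + 2 := by omega
  have e2 : (k + 3) ^ 2 - (k + 3) + 1 = k ^ 2 + 5 * k + 7 := by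
    have : (k + 3) ^ 2 = k ^ 2 + 5 * k + 6 + (k + 3) := by ring
    omega
  have e3 : k + 3 - 3 = k := by omega
  have e4 : (k + 3) ^ 2 - 1 = k ^ 2 + 6 * k + 8 := by
    have : (k + 3) ^ 2 = k ^ 2 + 6 * k + 8 + 1 := by ring
    omega
  have e5 : k + 3 - 2 = k + 1 := by omega
  rw [e1, e2, e4] at hp
  rw [e3] at hT
  rw [e1, e2, e3] at hD
  rw [e4, e5]
  obtain ⟨a, ha⟩ : ∃ a, a = Nat.card ↥(conjUnion (tSet K m)) := ⟨_, rfl⟩
  obtain ⟨b, hb⟩ : ∃ b, b = Nat.card ↥(conjUnion (dSet m hK g₀)) := ⟨_, rfl⟩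
  obtain ⟨y, hy⟩ : ∃ y, y = Nat.card ↥(ySet K m) := ⟨_, rfl⟩
  rw [← ha, ← hb, ← hy] at hp
  rw [← ha] at hT
  rw [← hb] at hD
  rw [← hy]
  nlinarith [hp, hT, hD]

end

end Cfsg.Agent.Lib.Helper3.Ree
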