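import Mathlib
import Cfsg.Agent.Lib.Helper3.Ree72
set_option autoImplicit false
set_option linter.unusedSectionVars false
set_option linter.style.haveILetI false
set_option linter.unusedSimpArgs false

/-!
Matrices of prime order `p` dividing `q² - q + 1` over the field with `q` elements in dimension seven:
a basis of eigenvectors over an algebraically closed extension.
-/

namespace Cfsg.Agent.Lib.Helper3.Ree

section NT

/-- the order of `q` modulo `p` is six -/
theorem pow_eq_one_mod (p q d : ℕ) [hp : Fact p.Prime] (hp3 : 3 < p) (hq : p ∣ q ^ 2 - q + 1)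
    (hd : d < 6) (h : q ^ d ≡ 1 [MOD p]) : d = 0 := by
  have hqq : q ≤ q ^ 2 := by nlinarith [Nat.zero_le q]
  set x : ZMod p := (q : ZMod p) with hx
  have h0 : x ^ 2 - x + 1 = 0 := by
    have := (ZMod.natCast_eq_zero_iff (q ^ 2 - q + 1) p).mpr hq
    rw [Nat.cast_add, Nat.cast_sub hqq, Nat.cast_pow, Nat.cast_one] at this
    exact this
  have hk : x ^ d = 1 := by
    have := (ZMod.natCast_eq_natCast_iff (q ^ d) 1 p).mpr h
    rw [Nat.cast_pow, Nat.cast_one] at this
    exact this
  have c1 : (1 : ZMod p) ≠ 0 := one_ne_zero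
  have c2 : (2 : ZMod p) ≠ 0 := by
    intro e
    have : ((2 : ℕ) : ZMod p) = 0 := by exact_mod_cast e
    rw [ZMod.natCast_eq_zero_iff] at this
    have := Nat.le_of_dvd (by norm_num) this
    omega
  have c3 : (3 : ZMod p) ≠ 0 := by
    intro e
    have : ((3 : ℕ) : ZMod p) = 0 := by exact_mod_cast e
    rw [ZMod.natCast_eq_zero_iff] at this
    have := Nat.le_of_dvd (by norm_num) this
    omega
  interval_cases d
  · rfl
  · exfalso
    apply c1
    linear_combination h0 - x * hk
  · exfalso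
    apply c3
    linear_combination (x + 2) * h0 - (x + 1) * hk
  · exfalso
    apply c2
    linear_combination (x + 1) * h0 - hk
  · exfalso
    apply c3
    linear_combination (1 - (x - 2) * x * (x + 1)) * h0 + (x - 2) * hk
  · exfalso
    apply c1
    linear_combination (1 - (x - 1) * (x ^ 2 * (x + 1) - 1)) * h0 + (x - 1) * hk

theorem not_dvd_of_quad (p q : ℕ) [hp : Fact p.Prime] (hq : p ∣ q ^ 2 - q + 1) : ¬ p ∣ q := by
  intro h
  have hqq : q ≤ q ^ 2 := by nlinarith [Nat.zero_le q]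
  have h1 : p ∣ q ^ 2 - q := by
    have : q ^ 2 - q = q * (q - 1) := by
      rcases Nat.eq_zero_or_pos q with h0 | h0
      · rw [h0]; norm_num
      · obtain ⟨k, rfl⟩ : ∃ k, q = k + 1 := ⟨q - 1, by omega⟩
        have : (k + 1) ^ 2 = (k + 1) * k + (k + 1) := by ring
        rw [this]; simp
    rw [this]
    exact Dvd.dvd.mul_right h _
  have := (Nat.dvd_add_right h1).mp hq
  have := Nat.le_of_dvd (by norm_num) this
  have := hp.out.two_le
  omega

theorem coprime_pow_of_quad (p q k : ℕ) [hp : Fact p.Prime] (hq : p ∣ q ^ 2 - q + 1) :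
    Nat.Coprime (q ^ k) p := by
  apply Nat.Coprime.pow_left
  exact (Nat.Coprime.symm ((Nat.Prime.coprime_iff_not_dvd hp.out).mpr (not_dvd_of_quad p q hq)))

theorem pow_inj_mod (p q k l : ℕ) [hp : Fact p.Prime] (hp3 : 3 < p) (hq : p ∣ q ^ 2 - q + 1)
    (hk : k < 6) (hl : l < 6) (h : q ^ k ≡ q ^ l [MOD p]) : k = l := by
  wlog hkl : k ≤ l generalizing k l
  · exact (this l k hl hk h.symm (by omega)).symm
  have h1 : q ^ k * 1 ≡ q ^ k * q ^ (l - k) [MOD p] := by
    rw [mul_one, ← pow_add, Nat.add_sub_cancel' hkl]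
    exact h
  have h2 := Nat.ModEq.cancel_left_of_coprime (Nat.Coprime.symm (coprime_pow_of_quad p q k hq)) h1
  have := pow_eq_one_mod p q (l - k) hp3 hq (by omega) h2.symm
  omega

theorem pow_six_mod (p q : ℕ) [hp : Fact p.Prime] (hq : p ∣ q ^ 2 - q + 1) : q ^ 6 ≡ 1 [MOD p] := by
  have hqq : q ≤ q ^ 2 := by nlinarith [Nat.zero_le q]
  have h0 : ((q : ZMod p)) ^ 2 - (q : ZMod p) + 1 = 0 := by
    have := (ZMod.natCast_eq_zero_iff (q ^ 2 - q + 1) p).mpr hq
    rw [Nat.cast_add, Nat.cast_sub hqq, Nat.cast_pow, Nat.cast_one] at this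
    exact this
  rw [← ZMod.natCast_eq_natCast_iff, Nat.cast_pow, Nat.cast_one]
  linear_combination ((q : ZMod p) ^ 4 + (q : ZMod p) ^ 3 - (q : ZMod p) - 1) * h0

end NT

end Cfsg.Agent.Lib.Helper3.Ree
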