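import Mathlib
import Cfsg.Agent.Lib.Helper3.Ree73
set_option autoImplicit false
set_option linter.unusedSectionVars false
set_option linter.style.haveILetI false
set_option linter.unusedSimpArgs false

/-!
Matrices of prime order `p` dividing `q² - q + 1` over the field with `q` elements in dimension seven:
a basis of eigenvectors over an algebraically closed extension.
-/

namespace Cfsg.Agent.Lib.Helper3.Ree

section Eig
open Module

variable {K : Type*} [Field K] [Fintype K] [CharP K 3]
variable {L : Type*} [Field L] [Algebra K L]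
variable {n : Type*} [Fintype n] [DecidableEq n]

/-- the Frobenius map on vectors -/
def frobVec (q : ℕ) (v : n → L) : n → L := fun i => v i ^ q

theorem mulVec_frobVec (q f : ℕ) (hq : q = 3 ^ f) (hK : Fintype.card K = q) (M : Matrix n n K) (v : n → L) (c : L)
    (h : (M.map (algebraMap K L)).mulVec v = c • v) :
    (M.map (algebraMap K L)).mulVec (frobVec q v) = c ^ q • frobVec q v := by
  haveI : Fact (Nat.Prime 3) := ⟨by norm_num⟩
  haveI : CharP L 3 := charP_of_injective_algebraMap (algebraMap K L).injective 3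
  ext i
  have hi := congrFun h i
  simp only [Matrix.mulVec, dotProduct, Matrix.map_apply, Pi.smul_apply, smul_eq_mul] at hi
  simp only [Matrix.mulVec, dotProduct, Matrix.map_apply, Pi.smul_apply, smul_eq_mul, frobVec]
  rw [← mul_pow, ← hi, hq, sum_pow_char_pow]
  apply Finset.sum_congr rfl
  intro j _
  rw [mul_pow, ← map_pow, ← hq, ← hK, FiniteField.pow_card]

/-- the iterated Frobenius map on vectors -/
def frobIter (q : ℕ) (k : ℕ) (v : n → L) : n → L := fun i => v i ^ (q ^ k)

theorem frobIter_succ (q k : ℕ) (v : n → L) : frobIter q (k + 1) v = frobVec q (frobIter q k v) := by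
  ext i
  simp only [frobIter, frobVec]
  rw [← pow_mul, pow_succ]

theorem mulVec_frobIter (q f : ℕ) (hq : q = 3 ^ f) (hK : Fintype.card K = q) (M : Matrix n n K) (v : n → L) (c : L)
    (h : (M.map (algebraMap K L)).mulVec v = c • v) (k : ℕ) :
    (M.map (algebraMap K L)).mulVec (frobIter q k v) = c ^ (q ^ k) • frobIter q k v := by
  induction k with
  | zero =>
    have : frobIter q 0 v = v := by
      ext i; simp [frobIter]
    rw [this, pow_zero, pow_one]; exact h
  | succ k ih =>
    rw [frobIter_succ, mulVec_frobVec q f hq hK M _ _ ih, ← pow_mul, pow_succ]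

theorem frobIter_ne_zero (q k : ℕ) (v : n → L) (hv : v ≠ 0) : frobIter q k v ≠ 0 := by
  intro h
  apply hv
  ext i
  have := congrFun h i
  simp only [frobIter, Pi.zero_apply] at this
  exact eq_zero_of_pow_eq_zero this

/-- a matrix of prime order `p` different from the characteristic has an eigenvalue different from one -/
theorem exists_eigenvalue_ne_one [IsAlgClosed L] (p : ℕ) [hp : Fact p.Prime] (hp3 : p ≠ 3) (A : Matrix n n L)
    [CharP L 3] (hA : A ^ p = 1) (hA1 : A ≠ 1) :
    ∃ (c : L) (v : n → L), v ≠ 0 ∧ A.mulVec v = c • v ∧ c ≠ 1 ∧ c ^ p = 1 := by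
  set f : Module.End L (n → L) := Matrix.toLin' A with hf
  have hfp : f ^ p = 1 := by
    rw [hf, ← Matrix.toLin'_pow, hA, Matrix.toLin'_one]; rfl
  have hf1 : f - 1 ≠ 0 := by
    intro h
    apply hA1
    have h1 : f = 1 := sub_eq_zero.mp h
    have h2 : Matrix.toLin' A = Matrix.toLin' (1 : Matrix n n L) := by
      rw [Matrix.toLin'_one]; exact h1
    exact Matrix.toLin'.injective h2
  set U : Submodule L (n → L) := LinearMap.range (f - 1) with hU
  have hUne : U ≠ ⊥ := by
    rw [hU, Ne, LinearMap.range_eq_bot]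
    exact hf1
  have hfU : ∀ x ∈ U, f x ∈ U := by
    rintro x ⟨w, rfl⟩
    refine ⟨f w, ?_⟩
    simp only [LinearMap.sub_apply, Module.End.one_apply, map_sub]
  haveI : Nontrivial ↥U := Submodule.nontrivial_iff_ne_bot.mpr hUne
  obtain ⟨c, hc⟩ := Module.End.exists_eigenvalue (f.restrict hfU)
  obtain ⟨u, hu⟩ := hc.exists_hasEigenvector
  have hu0 : (u : n → L) ≠ 0 := fun h => hu.2 (Subtype.ext h)
  have hfu : f (u : n → L) = c • (u : n → L) := by
    have := Module.End.mem_eigenspace_iff.mp hu.1
    exact congrArg Subtype.val this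
  have hpow : ∀ k : ℕ, (f ^ k) (u : n → L) = c ^ k • (u : n → L) := by
    intro k
    induction k with
    | zero => simp
    | succ k ih => rw [pow_succ, Module.End.mul_apply, hfu, map_smul, ih, smul_smul, pow_succ, mul_comm]
  have hcp : c ^ p = 1 := by
    have h1 := hpow p
    rw [hfp, Module.End.one_apply] at h1
    by_contra hne
    apply hu0
    have h2 : (c ^ p - 1) • (u : n → L) = 0 := by rw [sub_smul, one_smul, ← h1, sub_self]
    rcases smul_eq_zero.mp h2 with h3 | h3
    · exact absurd (sub_eq_zero.mp h3) hne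
    · exact h3
  refine ⟨c, u, hu0, ?_, ?_, hcp⟩
  · rw [← Matrix.toLin'_apply]; exact hfu
  · rintro rfl
    -- `u` is fixed and lies in the range of `f - 1`
    obtain ⟨w, hw⟩ := u.2
    have hsum : (∑ i ∈ Finset.range p, f ^ i) (u : n → L) = (p : L) • (u : n → L) := by
      rw [LinearMap.sum_apply]
      simp only [hpow, one_pow, one_smul]
      rw [Finset.sum_const, Finset.card_range, Nat.cast_smul_eq_nsmul]
    have hzero : (∑ i ∈ Finset.range p, f ^ i) (u : n → L) = 0 := by
      rw [← hw, ← Module.End.mul_apply, geom_sum_mul, hfp, sub_self, LinearMap.zero_apply]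
    rw [hsum] at hzero
    rcases smul_eq_zero.mp hzero with h3 | h3
    · have := (CharP.cast_eq_zero_iff L 3 p).mp h3
      have h4 := (Nat.prime_dvd_prime_iff_eq (by norm_num) hp.out).mp this
      exact hp3 h4.symm
    · exact hu0 h3

/-- the eigenvalues -/
def eigMu (q : ℕ) (c : L) : Option (Fin 6) → L
  | none => 1
  | some k => c ^ (q ^ (k : ℕ))

theorem eigMu_injective (q : ℕ) (p : ℕ) [hp : Fact p.Prime] (hp3 : 3 < p) (hpq : p ∣ q ^ 2 - q + 1)
    (c : L) (hc : orderOf c = p) : Function.Injective (eigMu q c) := by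
  have hne : ∀ k : ℕ, c ^ (q ^ k) ≠ 1 := by
    intro k h
    have := orderOf_dvd_of_pow_eq_one h
    rw [hc] at this
    exact (Nat.Prime.coprime_iff_not_dvd hp.out).mp (coprime_pow_of_quad p q k hpq).symm this
  intro i j hij
  rcases i with _ | i <;> rcases j with _ | j
  · rfl
  · exact absurd hij.symm (hne _)
  · exact absurd hij (hne _)
  · simp only [eigMu] at hij
    have hc0 : c ≠ 0 := by
      rintro rfl
      rw [orderOf_eq_zero_iff'.mpr (fun n hn => by simp [hn.ne'])] at hc
      exact hp.out.ne_zero hc.symm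
    have hu : (Units.mk0 c hc0) ^ (q ^ (i : ℕ)) = (Units.mk0 c hc0) ^ (q ^ (j : ℕ)) := by
      apply Units.ext
      simpa using hij
    have h1 := pow_eq_pow_iff_modEq.mp hu
    rw [← orderOf_units, Units.val_mk0, hc] at h1
    have := pow_inj_mod p q _ _ hp3 hpq i.2 j.2 h1
    rw [Fin.ext this]

theorem exists_eigen_basis [IsAlgClosed L] (q f : ℕ) (hq : q = 3 ^ f) (hK : Fintype.card K = q)
    (p : ℕ) [hp : Fact p.Prime] (hp3 : 3 < p) (hpq : p ∣ q ^ 2 - q + 1)
    (hn : Fintype.card n = 7) (M : Matrix n n K) (hM : M ^ p = 1) (hM1 : M ≠ 1)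
    (v₀ : n → K) (hv₀ : v₀ ≠ 0) (hfix : M.mulVec v₀ = v₀) :
    ∃ (c : L) (b : Basis (Option (Fin 6)) L (n → L)), orderOf c = p ∧
      ∀ i, (M.map (algebraMap K L)).mulVec (b i) = eigMu q c i • b i := by
  haveI : Fact (Nat.Prime 3) := ⟨by norm_num⟩
  haveI : CharP L 3 := charP_of_injective_algebraMap (algebraMap K L).injective 3
  set A := M.map (algebraMap K L) with hA
  have hAp : A ^ p = 1 := by
    rw [hA, ← Matrix.map_pow, hM, Matrix.map_one _ (map_zero _) (map_one _)]
  have hA1 : A ≠ 1 := by
    intro h
    apply hM1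
    have h1 : M.map (algebraMap K L) = (1 : Matrix n n K).map (algebraMap K L) := by
      rw [Matrix.map_one _ (map_zero _) (map_one _)]; exact h
    exact Matrix.map_injective (algebraMap K L).injective h1
  obtain ⟨c, u, hu0, hAu, hc1, hcp⟩ := exists_eigenvalue_ne_one p (by omega) A hAp hA1
  have hco : orderOf c = p := orderOf_eq_prime hcp hc1
  let w : Option (Fin 6) → (n → L) := fun i =>
    match i with
    | none => fun j => algebraMap K L (v₀ j)
    | some k => frobIter q (k : ℕ) u
  have hw : ∀ i, A.mulVec (w i) = eigMu q c i • w i := by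
    intro i
    rcases i with _ | k
    · show A.mulVec (fun j => algebraMap K L (v₀ j)) = (1 : L) • fun j => algebraMap K L (v₀ j)
      rw [one_smul]
      ext j
      have := RingHom.map_mulVec (algebraMap K L) M v₀ j
      rw [hfix] at this
      exact this.symm
    · exact mulVec_frobIter q f hq hK M u c hAu k
  have hw0 : ∀ i, w i ≠ 0 := by
    intro i
    rcases i with _ | k
    · intro h
      apply hv₀
      ext j
      have := congrFun h j
      exact (map_eq_zero (algebraMap K L)).mp this
    · exact frobIter_ne_zero q k u hu0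
  have hli : LinearIndependent L w := by
    apply Module.End.eigenvectors_linearIndependent' (Matrix.toLin' A) (eigMu q c)
      (eigMu_injective q p hp3 hpq c hco) w
    intro i
    rw [Module.End.hasEigenvector_iff]
    refine ⟨?_, hw0 i⟩
    rw [Module.End.mem_eigenspace_iff, Matrix.toLin'_apply]
    exact hw i
  have hcard : Fintype.card (Option (Fin 6)) = Module.finrank L (n → L) := by
    rw [Module.finrank_fintype_fun_eq_card, hn]
    rfl
  refine ⟨c, basisOfLinearIndependentOfCardEqFinrank hli hcard, hco, ?_⟩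
  intro i
  rw [coe_basisOfLinearIndependentOfCardEqFinrank]
  exact hw i

end Eig

end Cfsg.Agent.Lib.Helper3.Ree
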