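import Mathlib
import Cfsg.Agent.Lib.Helper3.Ree74
set_option autoImplicit false
set_option linter.unusedSectionVars false
set_option linter.style.haveILetI false
set_option linter.unusedSimpArgs false

/-!
Matrices commuting with a matrix having a basis of eigenvectors with distinct eigenvalues; conjugates
of a matrix of prime order `p` dividing `q² - q + 1` among its powers.
-/

namespace Cfsg.Agent.Lib.Helper3.Ree

section Eig
open Module

variable {L : Type*} [Field L]
variable {n : Type*} [Fintype n] [DecidableEq n] {ι : Type*} [Fintype ι] [DecidableEq ι]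

/-- the coordinates of the image of a vector under a matrix which is diagonal in a basis -/
theorem repr_mulVec_of_eigen (b : Basis ι L (n → L)) (A : Matrix n n L) (μ : ι → L)
    (hb : ∀ i, A.mulVec (b i) = μ i • b i) (u : n → L) (k : ι) :
    b.repr (A.mulVec u) k = μ k * b.repr u k := by
  have h : (b.coord k).comp (Matrix.toLin' A) = μ k • b.coord k := by
    apply b.ext
    intro j
    simp only [LinearMap.comp_apply, Matrix.toLin'_apply, hb, map_smul, LinearMap.smul_apply,
      Basis.coord_apply, Basis.repr_self, smul_eq_mul]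
    by_cases hjk : j = k
    · rw [hjk]
    · rw [Finsupp.single_eq_of_ne (Ne.symm hjk), mul_zero, mul_zero]
  have := congrArg (fun φ : (n → L) →ₗ[L] L => φ u) h
  simpa [Basis.coord_apply] using this

/-- an eigenvector is a multiple of the basis vector -/
theorem eigen_of_mulVec (b : Basis ι L (n → L)) (A : Matrix n n L) (μ : ι → L) (hμ : Function.Injective μ)
    (hb : ∀ i, A.mulVec (b i) = μ i • b i) (u : n → L) (i : ι) (hu : A.mulVec u = μ i • u) :
    u = b.repr u i • b i := by
  apply b.ext_elem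
  intro k
  rw [map_smul, Basis.repr_self, Finsupp.smul_apply, smul_eq_mul]
  by_cases hki : k = i
  · rw [hki, Finsupp.single_eq_same, mul_one]
  · rw [Finsupp.single_eq_of_ne hki, mul_zero]
    have h1 := repr_mulVec_of_eigen b A μ hb u k
    rw [hu, map_smul, Finsupp.smul_apply, smul_eq_mul] at h1
    have h2 : (μ i - μ k) * b.repr u k = 0 := by rw [sub_mul, h1, sub_self]
    rcases mul_eq_zero.mp h2 with h3 | h3
    · exact absurd (hμ (sub_eq_zero.mp h3)).symm hki
    · exact h3

/-- matrices commuting with a matrix which is diagonal with distinct eigenvalues in a basis commute -/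
theorem commute_of_eigen (b : Basis ι L (n → L)) (A : Matrix n n L) (μ : ι → L) (hμ : Function.Injective μ)
    (hb : ∀ i, A.mulVec (b i) = μ i • b i) (Y Z : Matrix n n L) (hY : Y * A = A * Y) (hZ : Z * A = A * Z) :
    Y * Z = Z * Y := by
  have key : ∀ (Y : Matrix n n L), Y * A = A * Y → ∀ i, ∃ y : L, Y.mulVec (b i) = y • b i := by
    intro Y hY i
    refine ⟨b.repr (Y.mulVec (b i)) i, ?_⟩
    apply eigen_of_mulVec b A μ hμ hb
    rw [Matrix.mulVec_mulVec, ← hY, ← Matrix.mulVec_mulVec, hb, Matrix.mulVec_smul]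
  apply Matrix.toLin'.injective
  apply b.ext
  intro i
  obtain ⟨y, hy⟩ := key Y hY i
  obtain ⟨z, hz⟩ := key Z hZ i
  rw [Matrix.toLin'_apply, Matrix.toLin'_apply, ← Matrix.mulVec_mulVec, ← Matrix.mulVec_mulVec, hy, hz,
    Matrix.mulVec_smul, Matrix.mulVec_smul, hy, hz, smul_smul, smul_smul, mul_comm]

end Eig

section Main
open Module

variable {K : Type*} [Field K] [Fintype K] [CharP K 3]
variable {n : Type*} [Fintype n] [DecidableEq n]

/-- the matrices commuting with a matrix of prime order `p` dividing `q² - q + 1` commute -/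
theorem commute_of_commute_prime (q f : ℕ) (hq : q = 3 ^ f) (hK : Fintype.card K = q)
    (p : ℕ) [hp : Fact p.Prime] (hp3 : 3 < p) (hpq : p ∣ q ^ 2 - q + 1)
    (hn : Fintype.card n = 7) (M : Matrix n n K) (hM : M ^ p = 1) (hM1 : M ≠ 1)
    (v₀ : n → K) (hv₀ : v₀ ≠ 0) (hfix : M.mulVec v₀ = v₀)
    (Y Z : Matrix n n K) (hY : Y * M = M * Y) (hZ : Z * M = M * Z) : Y * Z = Z * Y := by
  obtain ⟨c, b, hc, hb⟩ := exists_eigen_basis (L := AlgebraicClosure K) q f hq hK p hp3 hpq hn M hM hM1
    v₀ hv₀ hfix
  have h := commute_of_eigen b (M.map (algebraMap K (AlgebraicClosure K))) (eigMu q c)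
    (eigMu_injective q p hp3 hpq c hc) hb (Y.map (algebraMap K (AlgebraicClosure K)))
    (Z.map (algebraMap K (AlgebraicClosure K)))
    (by rw [← Matrix.map_mul, ← Matrix.map_mul, hY]) (by rw [← Matrix.map_mul, ← Matrix.map_mul, hZ])
  rw [← Matrix.map_mul, ← Matrix.map_mul] at h
  exact Matrix.map_injective (algebraMap K (AlgebraicClosure K)).injective h

/-- a power of a matrix of prime order `p` dividing `q² - q + 1` which is conjugate to this matrix -/
theorem pow_of_conj_prime (q f : ℕ) (hq : q = 3 ^ f) (hK : Fintype.card K = q)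
    (p : ℕ) [hp : Fact p.Prime] (hp3 : 3 < p) (hpq : p ∣ q ^ 2 - q + 1)
    (hn : Fintype.card n = 7) (M : Matrix n n K) (hM : M ^ p = 1) (hM1 : M ≠ 1)
    (v₀ : n → K) (hv₀ : v₀ ≠ 0) (hfix : M.mulVec v₀ = v₀)
    (G G' : Matrix n n K) (hGG' : G * G' = 1) (j : ℕ) (hconj : G * M * G' = M ^ j) :
    ∃ k < 6, M ^ j = M ^ (q ^ k) := by
  obtain ⟨c, b, hc, hb⟩ := exists_eigen_basis (L := AlgebraicClosure K) q f hq hK p hp3 hpq hn M hM hM1
    v₀ hv₀ hfix
  set φ := algebraMap K (AlgebraicClosure K) with hφ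
  set A := M.map φ with hA
  have hG'G : G' * G = 1 := mul_eq_one_comm.mp hGG'
  have hinj := eigMu_injective q p hp3 hpq c hc
  -- the vector `u = G' b₁`
  set b₁ := b (some 0) with hb₁
  have hb₁e : A.mulVec b₁ = c • b₁ := by
    have := hb (some 0)
    simp only [eigMu, Fin.val_zero, pow_zero, pow_one] at this
    exact this
  have hpow : ∀ k : ℕ, (A ^ k).mulVec b₁ = c ^ k • b₁ := by
    intro k
    induction k with
    | zero => simp
    | succ k ih => rw [pow_succ, ← Matrix.mulVec_mulVec, hb₁e, Matrix.mulVec_smul, ih, smul_smul, pow_succ, mul_comm]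
  set u := (G'.map φ).mulVec b₁ with hu
  have hAG' : A * G'.map φ = G'.map φ * A ^ j := by
    have h1 : M * G' = G' * M ^ j := by
      rw [← hconj]
      calc M * G' = (G' * G) * M * G' := by rw [hG'G, one_mul]
        _ = G' * (G * M * G') := by simp only [mul_assoc]
    rw [hA, ← Matrix.map_pow, ← Matrix.map_mul, ← Matrix.map_mul, h1]
  have hAu : A.mulVec u = c ^ j • u := by
    rw [hu, Matrix.mulVec_mulVec, hAG', ← Matrix.mulVec_mulVec, hpow, Matrix.mulVec_smul]
  have hu0 : u ≠ 0 := by
    intro h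
    have h1 : (G.map φ).mulVec u = b₁ := by
      rw [hu, Matrix.mulVec_mulVec, ← Matrix.map_mul, hGG', Matrix.map_one _ (map_zero _) (map_one _),
        Matrix.one_mulVec]
    rw [h, Matrix.mulVec_zero] at h1
    exact b.ne_zero (some 0) h1.symm
  -- a nonzero coordinate
  obtain ⟨k, hk⟩ : ∃ k, b.repr u k ≠ 0 := by
    by_contra hcon
    push Not at hcon
    apply hu0
    apply b.ext_elem
    intro k
    rw [hcon k, map_zero, Finsupp.zero_apply]
  have h1 := repr_mulVec_of_eigen b A (eigMu q c) hb u k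
  rw [hAu, map_smul, Finsupp.smul_apply, smul_eq_mul] at h1
  have h2 : c ^ j = eigMu q c k := by
    have : (c ^ j - eigMu q c k) * b.repr u k = 0 := by rw [sub_mul, h1, sub_self]
    rcases mul_eq_zero.mp this with h3 | h3
    · exact sub_eq_zero.mp h3
    · exact absurd h3 hk
  have hc0 : c ≠ 0 := by
    rintro rfl
    rw [orderOf_eq_zero_iff'.mpr (fun n hn => by simp [hn.ne'])] at hc
    exact hp.out.ne_zero hc.symm
  rcases k with _ | k
  · -- `c ^ j = 1`: impossible
    exfalso
    simp only [eigMu] at h2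
    have hd := orderOf_dvd_of_pow_eq_one h2
    rw [hc] at hd
    obtain ⟨t, ht⟩ := hd
    have hMj : M ^ j = 1 := by rw [ht, pow_mul, hM, one_pow]
    apply hM1
    rw [hMj] at hconj
    calc M = (G' * G) * M * (G' * G) := by rw [hG'G, one_mul, mul_one]
      _ = G' * (G * M * G') * G := by simp only [mul_assoc]
      _ = 1 := by rw [hconj, mul_one, hG'G]
  · refine ⟨k, k.2, ?_⟩
    simp only [eigMu] at h2
    have hu' : (Units.mk0 c hc0) ^ j = (Units.mk0 c hc0) ^ (q ^ (k : ℕ)) := by
      apply Units.ext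
      simpa using h2
    have h3 := pow_eq_pow_iff_modEq.mp hu'
    rw [← orderOf_units, Units.val_mk0, hc] at h3
    rw [pow_eq_pow_mod j hM, pow_eq_pow_mod (q ^ (k : ℕ)) hM]
    rw [h3]

end Main

end Cfsg.Agent.Lib.Helper3.Ree
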