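import Mathlib
import Cfsg.Agent.Lib.Helper3.Ree75
set_option autoImplicit false
set_option linter.unusedSectionVars false
set_option linter.style.haveILetI false
set_option linter.unusedSimpArgs false
open Cfsg Cfsg.Lie

/-!
Elements of prime order `p` dividing `q² - q + 1` of the twisted group of type `G₂`: the centralizer
is abelian and the conjugates among the powers are the powers with exponent `q ^ k`.
-/

namespace Cfsg.Agent.Lib.Helper3.Ree

open Cfsg.Agent.Lib.Helper3.ChevM Cfsg.Agent.Lib.Helper3.SL2P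
open Matrix

section
variable {K : Type*} [Field K] [Fintype K] [CharP K 3]

/-- the matrix of an element on the seven-dimensional module -/
noncomputable def rhoM (m : ℕ) (hK : Fintype.card K = 3 ^ (2 * m + 1)) (g : ↥(tG2 K (3 ^ m))) :
    Matrix J7 J7 K := ((rhoR m hK g : GL J7 K) : Matrix J7 J7 K)

theorem rhoM_mul (m : ℕ) (hK : Fintype.card K = 3 ^ (2 * m + 1)) (g h : ↥(tG2 K (3 ^ m))) :
    rhoM m hK (g * h) = rhoM m hK g * rhoM m hK h := by
  unfold rhoM
  rw [map_mul, Units.val_mul]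

theorem rhoM_one (m : ℕ) (hK : Fintype.card K = 3 ^ (2 * m + 1)) :
    rhoM (K := K) m hK 1 = 1 := by
  unfold rhoM
  rw [map_one, Units.val_one]

theorem rhoM_pow (m : ℕ) (hK : Fintype.card K = 3 ^ (2 * m + 1)) (g : ↥(tG2 K (3 ^ m))) (k : ℕ) :
    rhoM m hK (g ^ k) = rhoM m hK g ^ k := by
  unfold rhoM
  rw [map_pow, Units.val_pow_eq_pow_val]

theorem rhoM_injective (m : ℕ) (hm : 1 ≤ m) (hK : Fintype.card K = 3 ^ (2 * m + 1)) :
    Function.Injective (rhoM (K := K) m hK) := by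
  intro g h e
  apply rhoR_injective m hm hK
  exact Units.ext e

/-- a nonzero fixed vector of an element of prime order dividing `q² - q + 1` -/
theorem exists_fixed_vector (m : ℕ) (hm : 1 ≤ m) (hK : Fintype.card K = 3 ^ (2 * m + 1))
    (p : ℕ) [hp : Fact p.Prime] (hp3 : 3 < p)
    (hq : p ∣ (3 ^ (2 * m + 1)) ^ 2 - 3 ^ (2 * m + 1) + 1)
    (x : ↥(tG2 K (3 ^ m))) (hx : orderOf x = p) :
    ∃ v₀ : J7 → K, v₀ ≠ 0 ∧ (rhoM m hK x).mulVec v₀ = v₀ := by
  have hinj := rhoEnd_injective (K := K) m hm hK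
  have hW : Module.finrank K (J7 → K) = 7 := by
    rw [Module.finrank_fintype_fun_eq_card, card_J7]
  have hK' : Nat.card K = 3 ^ (2 * m + 1) := by rw [Nat.card_eq_fintype_card, hK]
  have hxp : x ^ p = 1 := by rw [← hx]; exact pow_orderOf_eq_one x
  have hx1 : x ≠ 1 := ne_one_of_orderOf_prime x p hp.out hx
  have h1 := finrank_fixSp (K := K) (W := J7 → K) p (3 ^ (2 * m + 1)) hp3 hq hK' hW (rhoEnd m hK x)
    (by rw [← map_pow, hxp, map_one])
    (by intro h; apply hx1; apply hinj; rw [h, map_one])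
  have hpos : 0 < Module.finrank K ↥(fixSp (rhoEnd m hK x)) := by rw [h1]; norm_num
  obtain ⟨v, hv⟩ := Module.finrank_pos_iff_exists_ne_zero.mp hpos
  refine ⟨(v : J7 → K), fun h => hv (Subtype.ext h), ?_⟩
  have := (mem_fixSp (rhoEnd m hK x) (v : J7 → K)).mp v.2
  exact this

/-- the centralizer of an element of prime order dividing `q² - q + 1` is abelian -/
theorem centralizer_comm_of_prime (m : ℕ) (hm : 1 ≤ m) (hK : Fintype.card K = 3 ^ (2 * m + 1))
    (p : ℕ) [hp : Fact p.Prime] (hp3 : 3 < p)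
    (hq : p ∣ (3 ^ (2 * m + 1)) ^ 2 - 3 ^ (2 * m + 1) + 1)
    (x : ↥(tG2 K (3 ^ m))) (hx : orderOf x = p) (y z : ↥(tG2 K (3 ^ m)))
    (hy : y * x = x * y) (hz : z * x = x * z) : y * z = z * y := by
  obtain ⟨v₀, hv₀, hfix⟩ := exists_fixed_vector m hm hK p hp3 hq x hx
  have hxp : x ^ p = 1 := by rw [← hx]; exact pow_orderOf_eq_one x
  have hx1 : x ≠ 1 := ne_one_of_orderOf_prime x p hp.out hx
  apply rhoM_injective m hm hK
  rw [rhoM_mul, rhoM_mul]
  apply commute_of_commute_prime (3 ^ (2 * m + 1)) (2 * m + 1) rfl hK p hp3 hq card_J7 (rhoM m hK x)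
    (by rw [← rhoM_pow, hxp, rhoM_one])
    (by intro h; apply hx1; apply rhoM_injective m hm hK; rw [h, rhoM_one]) v₀ hv₀ hfix
  · rw [← rhoM_mul, ← rhoM_mul, hy]
  · rw [← rhoM_mul, ← rhoM_mul, hz]

/-- the conjugates of an element of prime order dividing `q² - q + 1` among its powers -/
theorem conj_pow_of_prime (m : ℕ) (hm : 1 ≤ m) (hK : Fintype.card K = 3 ^ (2 * m + 1))
    (p : ℕ) [hp : Fact p.Prime] (hp3 : 3 < p)
    (hq : p ∣ (3 ^ (2 * m + 1)) ^ 2 - 3 ^ (2 * m + 1) + 1)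
    (x : ↥(tG2 K (3 ^ m))) (hx : orderOf x = p) (g : ↥(tG2 K (3 ^ m))) (j : ℕ)
    (hg : g * x * g⁻¹ = x ^ j) : ∃ k < 6, x ^ j = x ^ ((3 ^ (2 * m + 1)) ^ k) := by
  obtain ⟨v₀, hv₀, hfix⟩ := exists_fixed_vector m hm hK p hp3 hq x hx
  have hxp : x ^ p = 1 := by rw [← hx]; exact pow_orderOf_eq_one x
  have hx1 : x ≠ 1 := ne_one_of_orderOf_prime x p hp.out hx
  obtain ⟨k, hk, h⟩ := pow_of_conj_prime (3 ^ (2 * m + 1)) (2 * m + 1) rfl hK p hp3 hq card_J7 (rhoM m hK x)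
    (by rw [← rhoM_pow, hxp, rhoM_one])
    (by intro h; apply hx1; apply rhoM_injective m hm hK; rw [h, rhoM_one]) v₀ hv₀ hfix
    (rhoM m hK g) (rhoM m hK g⁻¹) (by rw [← rhoM_mul, mul_inv_cancel, rhoM_one]) j
    (by rw [← rhoM_mul, ← rhoM_mul, hg, rhoM_pow])
  refine ⟨k, hk, ?_⟩
  apply rhoM_injective m hm hK
  rw [rhoM_pow, rhoM_pow]
  exact h

end

end Cfsg.Agent.Lib.Helper3.Ree
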