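import Mathlib
import Cfsg.Agent.Lib.Helper3.Ree76
set_option autoImplicit false
set_option linter.unusedSectionVars false
set_option linter.style.haveILetI false
set_option linter.unusedSimpArgs false
open Cfsg Cfsg.Lie

/-!
The elements of the twisted group of type `G₂` whose order divides `q² - q + 1`: elements commuting
with them, their centralizers.
-/

namespace Cfsg.Agent.Lib.Helper3.Ree

open Cfsg.Agent.Lib.Helper3.ChevM Cfsg.Agent.Lib.Helper3.SL2P
open Matrix

section
variable {G : Type*} [Group G]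

theorem card_centralizer_conj (g a : G) :
    Nat.card ↥(Subgroup.centralizer {g * a * g⁻¹}) = Nat.card ↥(Subgroup.centralizer {a}) := by
  have h := card_inf_centralizer_conj g a a
  rw [inf_idem, inf_idem] at h
  exact h

theorem orderOf_dvd_card_centralizer [Finite G] (a y : G) (h : y * a = a * y) :
    orderOf y ∣ Nat.card ↥(Subgroup.centralizer {a}) :=
  orderOf_dvd_card_of_mem _ y (Subgroup.mem_centralizer_singleton_iff.mpr h)

end

section
variable {K : Type*} [Field K] [Fintype K] [CharP K 3]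

/-- the order of the centralizer of an involution -/
theorem card_centralizer_involution (m : ℕ) (hm : 1 ≤ m) (hK : Fintype.card K = 3 ^ (2 * m + 1))
    (w : ↥(tG2 K (3 ^ m))) (hw2 : w * w = 1) (hw1 : w ≠ 1) :
    Nat.card ↥(Subgroup.centralizer {w}) =
      3 ^ (2 * m + 1) * (3 ^ (2 * m + 1) - 1) * (3 ^ (2 * m + 1) + 1) := by
  obtain ⟨g, hg⟩ := involution_conj m hm hK w hw2 hw1
  rw [← hg, card_centralizer_conj, card_centralizer_zG]

/-- a number dividing `q² - q + 1` and `q (q - 1) (q + 1)` is one -/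
theorem eq_one_of_dvd_quad_mul (m n : ℕ) (h1 : n ∣ (3 ^ (2 * m + 1)) ^ 2 - 3 ^ (2 * m + 1) + 1)
    (k : ℕ) (h2 : n ∣ (3 ^ (2 * m + 1)) ^ k * (3 ^ (2 * m + 1) - 1) * (3 ^ (2 * m + 1) + 1)) : n = 1 := by
  have hq := q_ge m
  -- `n` is prime to `3`
  have hc3 : Nat.Coprime n ((3 ^ (2 * m + 1)) ^ k) := by
    apply Nat.Coprime.pow_right
    apply Nat.Coprime.pow_right
    apply Nat.Coprime.symm
    rw [Nat.Prime.coprime_iff_not_dvd (by norm_num)]
    intro h3
    exact not_three_dvd_quad m (dvd_trans h3 h1)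
  have hc1 : Nat.Coprime n (3 ^ (2 * m + 1) - 1) := by
    apply Nat.Coprime.symm
    apply Nat.coprime_of_dvd
    intro p hp hp1 hpn
    have := eq_one_of_dvd_sub_quad p _ (by omega) hp1 (dvd_trans hpn h1)
    exact hp.one_lt.ne' this
  rw [mul_assoc] at h2
  have h3 : n ∣ 3 ^ (2 * m + 1) + 1 := hc1.dvd_of_dvd_mul_left (hc3.dvd_of_dvd_mul_left h2)
  exact eq_one_of_dvd_add_quad m n h3 h1

/-- a nontrivial element commuting with an element of order dividing `q² - q + 1` has order dividing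
`q² - q + 1` -/
theorem mem_ySet_of_comm (m : ℕ) (hm : 1 ≤ m) (hK : Fintype.card K = 3 ^ (2 * m + 1))
    (y g : ↥(tG2 K (3 ^ m))) (hy : y ∈ ySet K m) (hg1 : g ≠ 1) (hgy : g * y = y * g) : g ∈ ySet K m := by
  haveI : Fact (Nat.Prime 3) := ⟨by norm_num⟩
  obtain ⟨g₀, hg₀⟩ := Cfsg.Agent.Lib.Helper5.exists_orderOf_eq_card_add_one (F := K) 3
  rw [hK] at hg₀
  have hq := q_ge m
  have hyo : orderOf y ≠ 1 := fun h => hy.1 (orderOf_eq_one_iff.mp h)
  refine ⟨hg1, ?_⟩
  rcases element_cases m hm hK g₀ hg₀ g with h | h | h | h | h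
  · -- involution
    exfalso
    apply hyo
    have h1 := orderOf_dvd_card_centralizer g y hgy.symm
    rw [card_centralizer_involution m hm hK g h hg1] at h1
    have h2 : orderOf y ∣ (3 ^ (2 * m + 1)) ^ 1 * (3 ^ (2 * m + 1) - 1) * (3 ^ (2 * m + 1) + 1) := by
      rw [pow_one]; exact h1
    exact eq_one_of_dvd_quad_mul m _ hy.2 1 h2
  · -- order divisible by three
    exfalso
    apply hyo
    obtain ⟨k, hk⟩ := h
    have hk0 : k ≠ 0 := by
      rintro rfl
      rw [mul_zero] at hk
      exact (orderOf_pos g).ne' hk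
    have hx : orderOf (g ^ k) = 3 := by
      rw [orderOf_pow_of_dvd hk0 ⟨3, by rw [hk]; ring⟩, hk]
      exact Nat.mul_div_cancel _ (Nat.pos_of_ne_zero hk0)
    have h1 := orderOf_dvd_of_comm_three m hK (g ^ k) y
      (ne_one_of_orderOf_prime _ 3 (by norm_num) hx) 1
      (by rw [pow_one]; have := pow_orderOf_eq_one (g ^ k); rw [hx] at this; exact this)
      ((Commute.pow_left (show Commute g y from hgy) k))
    have h2 : orderOf y ∣ (3 ^ (2 * m + 1)) ^ 3 * (3 ^ (2 * m + 1) - 1) * (3 ^ (2 * m + 1) + 1) :=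
      Dvd.dvd.mul_right h1 _
    exact eq_one_of_dvd_quad_mul m _ hy.2 3 h2
  · -- conjugate into the split torus
    exfalso
    apply hyo
    obtain ⟨h, hh, hh2⟩ := h
    have hc : h⁻¹ * y * h ∈ torusSplit (K := K) m := by
      rw [← centralizer_torusSplit m hK _ hh hh2, Subgroup.mem_centralizer_singleton_iff]
      calc h⁻¹ * y * h * (h⁻¹ * g * h) = h⁻¹ * (y * g) * h := by group
        _ = h⁻¹ * (g * y) * h := by rw [hgy]
        _ = _ := by group
    have h1 := orderOf_dvd_of_mem_torusSplit m hK _ hc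
    rw [orderOf_conj''] at h1
    exact eq_one_of_dvd_sub_quad _ _ (by omega) h1 hy.2
  · -- conjugate into the nonsplit torus
    exfalso
    apply hyo
    obtain ⟨h, hh, hh2⟩ := h
    have hc : h⁻¹ * y * h ∈ torusD m hK g₀ := by
      rw [← centralizer_of_sq_ne_torusD m hm hK g₀ hg₀ _ hh hh2, Subgroup.mem_centralizer_singleton_iff]
      calc h⁻¹ * y * h * (h⁻¹ * g * h) = h⁻¹ * (y * g) * h := by group
        _ = h⁻¹ * (g * y) * h := by rw [hgy]
        _ = _ := by group
    have h1 := orderOf_dvd_card_of_mem _ _ hc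
    rw [orderOf_conj'', card_torusD m hm hK g₀ hg₀] at h1
    exact eq_one_of_dvd_add_quad m _ h1 hy.2
  · exact h

end

end Cfsg.Agent.Lib.Helper3.Ree
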