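import Mathlib
import Cfsg.Agent.Lib.Helper3.Ree77
set_option autoImplicit false
set_option linter.unusedSectionVars false
set_option linter.style.haveILetI false
set_option linter.unusedSimpArgs false
open Cfsg Cfsg.Lie

/-!
The centralizers of the elements of the twisted group of type `G₂` whose order divides `q² - q + 1`:
they are abelian, of order dividing `q² - q + 1`, and form a partition.
-/

namespace Cfsg.Agent.Lib.Helper3.Ree

open Cfsg.Agent.Lib.Helper3.ChevM Cfsg.Agent.Lib.Helper3.SL2P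
open Matrix

section
variable {K : Type*} [Field K] [Fintype K] [CharP K 3]

theorem prime_gt_three_of_dvd_quad (m p : ℕ) (hp : p.Prime)
    (h : p ∣ (3 ^ (2 * m + 1)) ^ 2 - 3 ^ (2 * m + 1) + 1) : 3 < p := by
  have h2 : p ≠ 2 := by
    rintro rfl
    exact (Nat.not_even_iff_odd.mpr (odd_quad m)) (even_iff_two_dvd.mpr h)
  have h3 : p ≠ 3 := by
    rintro rfl
    exact not_three_dvd_quad m h
  have := hp.two_le
  omega

/-- a power of prime order of an element whose order divides `q² - q + 1` -/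
theorem exists_prime_pow_of_ySet (m : ℕ) (y : ↥(tG2 K (3 ^ m))) (hy : y ∈ ySet K m) :
    ∃ p k : ℕ, p.Prime ∧ 3 < p ∧ p ∣ (3 ^ (2 * m + 1)) ^ 2 - 3 ^ (2 * m + 1) + 1 ∧ orderOf (y ^ k) = p := by
  have hyo : orderOf y ≠ 1 := fun h => hy.1 (orderOf_eq_one_iff.mp h)
  set p := (orderOf y).minFac with hp
  have hpp : p.Prime := Nat.minFac_prime hyo
  have hpd : p ∣ orderOf y := Nat.minFac_dvd _
  have hpN := dvd_trans hpd hy.2
  obtain ⟨k, hk⟩ := hpd
  have hk0 : k ≠ 0 := by
    rintro rfl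
    rw [mul_zero] at hk
    exact (orderOf_pos y).ne' hk
  refine ⟨p, k, hpp, prime_gt_three_of_dvd_quad m p hpp hpN, hpN, ?_⟩
  rw [orderOf_pow_of_dvd hk0 ⟨p, by rw [hk]; ring⟩, hk]
  exact Nat.mul_div_cancel _ (Nat.pos_of_ne_zero hk0)

/-- the centralizer of an element whose order divides `q² - q + 1` is abelian -/
theorem centralizer_comm_of_ySet (m : ℕ) (hm : 1 ≤ m) (hK : Fintype.card K = 3 ^ (2 * m + 1))
    (y a b : ↥(tG2 K (3 ^ m))) (hy : y ∈ ySet K m) (ha : a * y = y * a) (hb : b * y = y * b) :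
    a * b = b * a := by
  obtain ⟨p, k, hpp, hp3, hpN, hx⟩ := exists_prime_pow_of_ySet m y hy
  haveI : Fact p.Prime := ⟨hpp⟩
  exact centralizer_comm_of_prime m hm hK p hp3 hpN (y ^ k) hx a b
    (Commute.pow_right (show Commute a y from ha) k) (Commute.pow_right (show Commute b y from hb) k)

/-- the centralizers of the nontrivial elements of the centralizer of an element whose order divides
`q² - q + 1` coincide -/
theorem centralizer_eq_of_ySet (m : ℕ) (hm : 1 ≤ m) (hK : Fintype.card K = 3 ^ (2 * m + 1))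
    (y y' : ↥(tG2 K (3 ^ m))) (hy : y ∈ ySet K m) (hy1 : y' ≠ 1) (hc : y' * y = y * y') :
    Subgroup.centralizer {y'} = Subgroup.centralizer {y} := by
  have hy' : y' ∈ ySet K m := mem_ySet_of_comm m hm hK y y' hy hy1 hc
  apply le_antisymm
  · intro g hg
    rw [Subgroup.mem_centralizer_singleton_iff] at hg ⊢
    exact centralizer_comm_of_ySet m hm hK y' g y hy' hg hc.symm
  · intro g hg
    rw [Subgroup.mem_centralizer_singleton_iff] at hg ⊢
    exact centralizer_comm_of_ySet m hm hK y g y' hy hg hc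

/-- the order of the centralizer of an element whose order divides `q² - q + 1` -/
theorem card_centralizer_dvd_of_ySet (m : ℕ) (hm : 1 ≤ m) (hK : Fintype.card K = 3 ^ (2 * m + 1))
    (y : ↥(tG2 K (3 ^ m))) (hy : y ∈ ySet K m) :
    Nat.card ↥(Subgroup.centralizer {y}) ∣ (3 ^ (2 * m + 1)) ^ 2 - 3 ^ (2 * m + 1) + 1 := by
  have hq := q_ge m
  have hdvd : Nat.card ↥(Subgroup.centralizer {y}) ∣ Nat.card ↥(tG2 K (3 ^ m)) := Subgroup.card_subgroup_dvd_card _
  rw [card_tG2_factor m hK] at hdvd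
  have hprime : ∀ r : ℕ, r.Prime → r ∣ Nat.card ↥(Subgroup.centralizer {y}) →
      r ∣ (3 ^ (2 * m + 1)) ^ 2 - 3 ^ (2 * m + 1) + 1 := by
    intro r hr hrd
    haveI : Fact r.Prime := ⟨hr⟩
    obtain ⟨g, hgC, hgo⟩ := exists_mem_orderOf_eq_prime (Subgroup.centralizer {y}) r hrd
    have hg1 : g ≠ 1 := ne_one_of_orderOf_prime g r hr hgo
    have := mem_ySet_of_comm m hm hK y g hy hg1 (Subgroup.mem_centralizer_singleton_iff.mp hgC)
    rw [← hgo]
    exact this.2
  have hc3 : Nat.Coprime (Nat.card ↥(Subgroup.centralizer {y})) ((3 ^ (2 * m + 1)) ^ 3) := by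
    apply Nat.Coprime.pow_right
    apply Nat.Coprime.pow_right
    apply Nat.Coprime.symm
    rw [Nat.Prime.coprime_iff_not_dvd (by norm_num)]
    intro h3
    exact not_three_dvd_quad m (hprime 3 (by norm_num) h3)
  have hc1 : Nat.Coprime (Nat.card ↥(Subgroup.centralizer {y})) (3 ^ (2 * m + 1) - 1) := by
    apply Nat.coprime_of_dvd
    intro r hr hrd hr1
    have := eq_one_of_dvd_sub_quad r _ (by omega) hr1 (hprime r hr hrd)
    exact hr.one_lt.ne' this
  have hc2 : Nat.Coprime (Nat.card ↥(Subgroup.centralizer {y})) (3 ^ (2 * m + 1) + 1) := by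
    apply Nat.coprime_of_dvd
    intro r hr hrd hr1
    have := eq_one_of_dvd_add_quad m r hr1 (hprime r hr hrd)
    exact hr.one_lt.ne' this
  exact hc2.dvd_of_dvd_mul_left (hc1.dvd_of_dvd_mul_left (hc3.dvd_of_dvd_mul_left hdvd))

/-- an element conjugating a nontrivial element of the centralizer into the centralizer normalizes it -/
theorem mem_normalizer_of_conj_mem_of_ySet (m : ℕ) (hm : 1 ≤ m) (hK : Fintype.card K = 3 ^ (2 * m + 1))
    (y a g : ↥(tG2 K (3 ^ m))) (hy : y ∈ ySet K m) (ha : a * y = y * a) (ha1 : a ≠ 1)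
    (hga : g * a * g⁻¹ * y = y * (g * a * g⁻¹)) :
    g ∈ Subgroup.normalizer ((Subgroup.centralizer {y} : Subgroup ↥(tG2 K (3 ^ m))) : Set ↥(tG2 K (3 ^ m))) :=
  centralizer_conj_eq g a _ (centralizer_eq_of_ySet m hm hK y a hy ha1 ha)
    (centralizer_eq_of_ySet m hm hK y _ hy (conj_ne_one g a ha1) hga)

end

end Cfsg.Agent.Lib.Helper3.Ree
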