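import Mathlib
import Cfsg.Agent.Lib.Helper3.Ree78
set_option autoImplicit false
set_option linter.unusedSectionVars false
set_option linter.style.haveILetI false
set_option linter.unusedSimpArgs false
open Cfsg Cfsg.Lie

/-!
The centralizers of the elements of the twisted group of type `G₂` whose order divides `q² - q + 1`
are cyclic.
-/

namespace Cfsg.Agent.Lib.Helper3.Ree

open Cfsg.Agent.Lib.Helper3.ChevM Cfsg.Agent.Lib.Helper3.SL2P
open Matrix

section
variable {G : Type*} [Group G]

/-- an abelian subgroup all of whose Sylow subgroups are cyclic is cyclic -/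
theorem isCyclic_of_comm_of_sylow [Finite G] (A : Subgroup G)
    (hcomm : ∀ a ∈ A, ∀ b ∈ A, a * b = b * a)
    (hsyl : ∀ (p : ℕ) [Fact p.Prime], p ∣ Nat.card A → ∀ Q : Sylow p G, IsCyclic ↥(Q : Subgroup G)) :
    IsCyclic ↥A := by
  letI : CommGroup ↥A := { (inferInstance : Group ↥A) with
    mul_comm := fun a b => Subtype.ext (hcomm a a.2 b b.2) }
  haveI : IsZGroup ↥A := by
    refine ⟨fun p hp P => ?_⟩
    haveI : Fact p.Prime := ⟨hp⟩
    by_cases hpd : p ∣ Nat.card A
    · -- embed into a Sylow subgroup of `G`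
      have hpg : IsPGroup p ((P : Subgroup ↥A).map A.subtype) := P.isPGroup'.map A.subtype
      obtain ⟨Q, hQ⟩ := hpg.exists_le_sylow
      haveI := hsyl p hpd Q
      let f : ↥(P : Subgroup ↥A) →* ↥(Q : Subgroup G) :=
        { toFun := fun x => ⟨((x : ↥A) : G), hQ ⟨(x : ↥A), x.2, rfl⟩⟩
          map_one' := rfl
          map_mul' := fun _ _ => rfl }
      have hf : Function.Injective f := by
        intro a b hab
        apply Subtype.ext
        apply Subtype.ext
        exact congrArg (fun z : ↥(Q : Subgroup G) => (z : G)) hab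
      exact isCyclic_of_injective f hf
    · have hcard : Nat.card ↥(P : Subgroup ↥A) = 1 := by
        rw [Sylow.card_eq_multiplicity, Nat.factorization_eq_zero_of_not_dvd hpd, pow_zero]
      haveI : Subsingleton ↥(P : Subgroup ↥A) := (Nat.card_eq_one_iff_unique.mp hcard).1
      exact isCyclic_of_subsingleton
  infer_instance

end

section
variable {K : Type*} [Field K] [Fintype K] [CharP K 3]

/-- the centralizer of an element whose order divides `q² - q + 1` is cyclic -/
theorem isCyclic_centralizer_of_ySet (m : ℕ) (hm : 1 ≤ m) (hK : Fintype.card K = 3 ^ (2 * m + 1))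
    (y : ↥(tG2 K (3 ^ m))) (hy : y ∈ ySet K m) : IsCyclic ↥(Subgroup.centralizer {y}) := by
  apply isCyclic_of_comm_of_sylow
  · intro a ha b hb
    rw [Subgroup.mem_centralizer_singleton_iff] at ha hb
    exact centralizer_comm_of_ySet m hm hK y a b hy ha hb
  · intro p hp hpd Q
    have hpN := dvd_trans hpd (card_centralizer_dvd_of_ySet m hm hK y hy)
    exact ree_sylow_cyclic m hm hK p (prime_gt_three_of_dvd_quad m p hp.out hpN) Q

theorem one_lt_card_centralizer_of_ySet (m : ℕ) (y : ↥(tG2 K (3 ^ m))) (hy : y ∈ ySet K m) :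
    1 < Nat.card ↥(Subgroup.centralizer {y}) := by
  rw [Finite.one_lt_card_iff_nontrivial]
  refine ⟨⟨1, ⟨y, Subgroup.mem_centralizer_singleton_iff.mpr rfl⟩, ?_⟩⟩
  intro h
  exact hy.1 (congrArg Subtype.val h).symm

/-- the order of the centralizer of an element whose order divides `q² - q + 1` is at least five -/
theorem five_le_card_centralizer_of_ySet (m : ℕ) (hm : 1 ≤ m) (hK : Fintype.card K = 3 ^ (2 * m + 1))
    (y : ↥(tG2 K (3 ^ m))) (hy : y ∈ ySet K m) : 5 ≤ Nat.card ↥(Subgroup.centralizer {y}) := by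
  have h1 := one_lt_card_centralizer_of_ySet m y hy
  have hd := card_centralizer_dvd_of_ySet m hm hK y hy
  by_contra hlt
  push Not at hlt
  have h2 : ¬ 2 ∣ Nat.card ↥(Subgroup.centralizer {y}) := fun h =>
    (Nat.not_even_iff_odd.mpr (odd_quad m)) (even_iff_two_dvd.mpr (dvd_trans h hd))
  have h3 : ¬ 3 ∣ Nat.card ↥(Subgroup.centralizer {y}) := fun h =>
    not_three_dvd_quad m (dvd_trans h hd)
  interval_cases Nat.card ↥(Subgroup.centralizer {y})
  · exact h2 (dvd_refl 2)
  · exact h3 (dvd_refl 3)
  · exact h2 ⟨2, rfl⟩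

end

end Cfsg.Agent.Lib.Helper3.Ree
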