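import Mathlib
import Cfsg.Agent.Lib.Helper3.Sig4

set_option autoImplicit false

/-!
Consequences of the transitivity theorem.
-/

namespace Cfsg.Agent.Lib.Helper3.Sig

open Cfsg.Agent.Lib.Lead Cfsg.Agent.Lib.Helper3.Gen

variable {G : Type*} [Group G] [Finite G]

/-- for a member `H` of the family some `θ(C_G(A))`-conjugate of a maximal `q`-member meets `H`
in a Sylow `q`-subgroup -/
theorem exists_sylow_eq_conj_inf {p : ℕ} [hp : Fact p.Prime] {A : Subgroup G}
    (hA : Cfsg.IsElementaryAbelian p A) (hA3 : p ^ 3 ≤ Nat.card A) {θ : G → Subgroup G}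
    (hθ : Cfsg.IsSolvableSignalizerFunctor p A θ) {q : ℕ} [hq : Fact q.Prime] (hqp : q ≠ p)
    {Q : Subgroup G} (hQ : IsMaxQ p A θ q Q) {H : Subgroup G}
    (hH : H ∈ Cfsg.signalizerFamily p A θ) :
    ∃ c ∈ Cfsg.signalizerInf A θ, ∃ S : Sylow q H,
      (S : Subgroup H).map H.subtype = Q.map (MulAut.conj c).toMonoidHom ⊓ H := by
  have hAH := family_le_normalizer hH
  have hcop : (Nat.card A).Coprime (Nat.card H) := coprime_card_of_isPGroup (ea_isPGroup hA) hH.2.1
  have hAsolv : Group.IsSolvable A := IsNilpotent.to_isSolvable (h := (ea_isPGroup hA).isNilpotent)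
  obtain ⟨P, hP⟩ := coprime_invariant_sylow_exists A H hAH hcop (Or.inl hAsolv) q
  have hPf := family_of_le hH (Subgroup.map_subtype_le _) hP
  have hPq : IsPGroup q ((P : Subgroup H).map H.subtype) := P.2.map _
  obtain ⟨Q', hQ', hPQ'⟩ := exists_isMaxQ_ge hPf hPq
  obtain ⟨c, hc, hcQ⟩ := transitivity_aux hA hA3 hθ hqp _ Q Q' hQ hQ' rfl
  refine ⟨c, hc, P, ?_⟩
  rw [hcQ]
  apply le_antisymm
  · exact le_inf hPQ' (Subgroup.map_subtype_le _)
  · have h1 : IsPGroup q ((Q' ⊓ H).subgroupOf H) := by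
      have : IsPGroup q (Q' ⊓ H : Subgroup G) := hQ'.2.1.to_le inf_le_left
      exact this.comap_subtype
    have h2 : (P : Subgroup H) ≤ (Q' ⊓ H).subgroupOf H := by
      intro x hx
      rw [Subgroup.mem_subgroupOf]
      exact Subgroup.mem_inf.mpr ⟨hPQ' ⟨x, hx, rfl⟩, x.2⟩
    have h3 := P.is_maximal' h1 h2
    rw [← h3, Subgroup.subgroupOf_map_subtype]
    exact le_inf le_rfl inf_le_right

omit [Finite G] in
theorem le_normalizer_iInf {ι : Sort*} {A : Subgroup G} {K : ι → Subgroup G}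
    (h : ∀ i, A ≤ Subgroup.normalizer ((K i : Subgroup G) : Set G)) :
    A ≤ Subgroup.normalizer ((⨅ i, K i : Subgroup G) : Set G) := by
  intro x hx
  rw [Subgroup.mem_normalizer_iff]
  intro y
  rw [Subgroup.mem_iInf, Subgroup.mem_iInf]
  exact forall_congr' fun i => Subgroup.mem_normalizer_iff.mp (h i hx) y

omit [Finite G] in
theorem map_conj_eq_self_of_mem {T : Subgroup G} {c : G} (hc : c ∈ T) :
    T.map (MulAut.conj c).toMonoidHom = T := by
  ext x
  rw [mem_map_conj]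
  constructor
  · intro h
    have : x = c * (c⁻¹ * x * c) * c⁻¹ := by group
    rw [this]
    exact Subgroup.mul_mem _ (Subgroup.mul_mem _ hc h) (Subgroup.inv_mem _ hc)
  · intro h
    exact Subgroup.mul_mem _ (Subgroup.mul_mem _ (Subgroup.inv_mem _ hc) h) hc

/-- `C_Q(B)` is a Sylow `q`-subgroup of `θ(C_G(B))` for a maximal `q`-member `Q` -/
theorem exists_sylow_eq_inf_centralizer {p : ℕ} [hp : Fact p.Prime] {A : Subgroup G}
    (hA : Cfsg.IsElementaryAbelian p A) (hA3 : p ^ 3 ≤ Nat.card A) {θ : G → Subgroup G}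
    (hθ : Cfsg.IsSolvableSignalizerFunctor p A θ) {q : ℕ} [hq : Fact q.Prime] (hqp : q ≠ p)
    {Q : Subgroup G} (hQ : IsMaxQ p A θ q Q) {B : Subgroup G} (hBA : B ≤ A) (hB : B ≠ ⊥) :
    ∃ S : Sylow q (Cfsg.signalizerInf B θ),
      (S : Subgroup (Cfsg.signalizerInf B θ)).map (Cfsg.signalizerInf B θ).subtype =
        Q ⊓ Subgroup.centralizer (B : Set G) := by
  obtain ⟨⟨b₀, hb₀⟩, hb₀1⟩ := Subgroup.ne_bot_iff_exists_ne_one.mp hB
  have hb₀1' : b₀ ≠ 1 := fun h => hb₀1 (Subtype.ext h)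
  have hTθ : Cfsg.signalizerInf B θ ≤ θ b₀ := signalizerInf_le_theta hb₀ hb₀1'
  have hAT : A ≤ Subgroup.normalizer ((Cfsg.signalizerInf B θ : Subgroup G) : Set G) := by
    unfold Cfsg.signalizerInf
    apply le_normalizer_iInf
    rintro ⟨b, hb, hb1⟩
    exact family_le_normalizer (theta_mem_family hθ (hBA hb) hb1)
  have hTf : Cfsg.signalizerInf B θ ∈ Cfsg.signalizerFamily p A θ :=
    family_of_le (theta_mem_family hθ (hBA hb₀) hb₀1') hTθ hAT
  obtain ⟨c, hc, S, hS⟩ := exists_sylow_eq_conj_inf hA hA3 hθ hqp hQ hTf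
  have hcT : c ∈ Cfsg.signalizerInf B θ := by
    unfold Cfsg.signalizerInf
    rw [Subgroup.mem_iInf]
    rintro ⟨b, hb, hb1⟩
    exact signalizerInf_le_theta (hBA hb) hb1 hc
  -- `Q ⊓ T = Q ⊓ C(B)`
  have hQT : Q ⊓ Cfsg.signalizerInf B θ = Q ⊓ Subgroup.centralizer (B : Set G) := by
    apply le_antisymm
    · apply le_inf inf_le_left
      intro x hx
      have hxT := (Subgroup.mem_inf.mp hx).2
      rw [Subgroup.mem_centralizer_iff]
      intro b hb
      by_cases hb1 : b = 1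
      · rw [hb1]; simp
      · have h1 : x ∈ θ b := signalizerInf_le_theta hb hb1 hxT
        have h2 := hθ.1.1 b (hBA hb) hb1 h1
        rw [Subgroup.mem_centralizer_singleton_iff] at h2
        exact h2.symm
    · apply le_inf inf_le_left
      intro x hx
      obtain ⟨hxQ, hxC⟩ := Subgroup.mem_inf.mp hx
      unfold Cfsg.signalizerInf
      rw [Subgroup.mem_iInf]
      rintro ⟨b, hb, hb1⟩
      apply hQ.1.2.2.2 b (hBA hb) hb1
      refine Subgroup.mem_inf.mpr ⟨hxQ, ?_⟩
      rw [Subgroup.mem_centralizer_singleton_iff]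
      exact (Subgroup.mem_centralizer_iff.mp hxC b hb).symm
  -- cardinality
  have hinj : Function.Injective (MulAut.conj c).toMonoidHom := (MulAut.conj c).injective
  have hcard : Nat.card (Q ⊓ Cfsg.signalizerInf B θ : Subgroup G) =
      q ^ (Nat.card (Cfsg.signalizerInf B θ)).factorization q := by
    have h1 : (Q ⊓ Cfsg.signalizerInf B θ).map (MulAut.conj c).toMonoidHom =
        Q.map (MulAut.conj c).toMonoidHom ⊓ Cfsg.signalizerInf B θ := by
      rw [Subgroup.map_inf _ _ _ hinj, map_conj_eq_self_of_mem hcT]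
    rw [← Subgroup.card_map_of_injective hinj, h1, ← hS, Subgroup.card_subtype]
    exact S.card_eq_multiplicity
  have hcard' : Nat.card ((Q ⊓ Cfsg.signalizerInf B θ).subgroupOf (Cfsg.signalizerInf B θ)) =
      q ^ (Nat.card (Cfsg.signalizerInf B θ)).factorization q := by
    rw [card_subgroupOf_of_le inf_le_right, hcard]
  refine ⟨Sylow.ofCard _ hcard', ?_⟩
  rw [Sylow.coe_ofCard, map_subtype_subgroupOf_of_le inf_le_right, hQT]

end Cfsg.Agent.Lib.Helper3.Sig
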