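import Mathlib
import Cfsg.Agent.Lib.Helper3.Sig5

set_option autoImplicit false

namespace Cfsg.Agent.Lib.Helper3.Sig
variable {G : Type*} [Group G]

theorem card_mul_relIndex {D B : Subgroup G} (h : D ≤ B) :
    Nat.card D * D.relIndex B = Nat.card B := by
  have h1 := Subgroup.relIndex_mul_relIndex (⊥ : Subgroup G) D B bot_le h
  rwa [Subgroup.relIndex_bot_left, Subgroup.relIndex_bot_left] at h1

theorem ea_of_le {p : ℕ} {A B : Subgroup G} (hA : Cfsg.IsElementaryAbelian p A) (hBA : B ≤ A) :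
    Cfsg.IsElementaryAbelian p B := by
  refine ⟨⟨⟨fun x y => ?_⟩⟩, fun x hx => hA.2 x (hBA hx)⟩
  have h1 : (⟨x.1, hBA x.2⟩ : A) * ⟨y.1, hBA y.2⟩ = ⟨y.1, hBA y.2⟩ * ⟨x.1, hBA x.2⟩ :=
    hA.1.is_comm.comm _ _
  have h2 : x.1 * y.1 = y.1 * x.1 := congrArg Subtype.val h1
  exact Subtype.ext h2

/-- a `p`-group of order at least `p ^ 2` has a subgroup of index `p` -/
theorem exists_relIndex_eq_prime [Finite G] {p : ℕ} [hp : Fact p.Prime] {B : Subgroup G}
    (hB : IsPGroup p B) (hB2 : p ^ 2 ≤ Nat.card B) : ∃ D : Subgroup G, D ≤ B ∧ D.relIndex B = p := by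
  obtain ⟨m, hm⟩ := IsPGroup.iff_card.mp hB
  have hp2 : 2 ≤ p := hp.out.two_le
  have hm2 : 2 ≤ m := by
    by_contra hcon
    have : m ≤ 1 := by omega
    have h1 : p ^ m ≤ p ^ 1 := Nat.pow_le_pow_right (by omega) this
    have h2 : p ^ 1 < p ^ 2 := Nat.pow_lt_pow_right (by omega) (by omega)
    omega
  obtain ⟨K, hK⟩ := Sylow.exists_subgroup_card_pow_prime (G := B) p (n := m - 1)
    (by rw [hm]; exact pow_dvd_pow p (by omega))
  refine ⟨K.map B.subtype, Subgroup.map_subtype_le _, ?_⟩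
  have h1 := card_mul_relIndex (Subgroup.map_subtype_le K)
  rw [Subgroup.card_subtype, hK, hm] at h1
  have h2 : p ^ m = p ^ (m - 1) * p := by
    rw [← pow_succ]; congr 1; omega
  rw [h2] at h1
  exact Nat.eq_of_mul_eq_mul_left (by positivity) h1

end Cfsg.Agent.Lib.Helper3.Sig
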