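import Mathlib
import Cfsg.Agent.Lib.Lead.BrandtDefs

/-!
# S4607 (Brandt), package A1: Wedderburn data and the form lemma
(`notes/S4607_PROOF_lead.md`, Step 0)
-/

set_option autoImplicit false

namespace Cfsg.Agent.Lib.Lead.Brandt

/-- a product of `n` elements of a left ideal lies in its `n`-th power -/
theorem list_prod_mem_pow_A1 {R : Type*} [Ring R] (J : Ideal R) :
    ∀ l : List R, (∀ x ∈ l, x ∈ J) → l.prod ∈ J ^ l.length := by
  intro l
  induction l using List.reverseRecOn with
  | nil =>
    intro _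
    rw [List.prod_nil, List.length_nil, Submodule.pow_zero, Ideal.one_eq_top]
    exact Submodule.mem_top
  | append_singleton l a ih =>
    intro h
    rw [List.prod_append, List.prod_singleton, List.length_append, List.length_singleton,
      Submodule.pow_succ]
    refine Ideal.mul_mem_mul (ih fun x hx => h x (List.mem_append_left _ hx)) (h a ?_)
    simp

/-- A1 (Wedderburn data): semisimple quotient by a nilpotent ideal -/
theorem exists_wedderburn (k R : Type*) [Field k] [IsAlgClosed k] [Ring R] [Algebra k R]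
    [FiniteDimensional k R] :
    ∃ (L : ℕ) (d : Fin L → ℕ) (_ : ∀ i, NeZero (d i))
      (π : R →ₐ[k] (Π i, Matrix (Fin (d i)) (Fin (d i)) k)),
      Function.Surjective π ∧
      ∃ N : ℕ, ∀ f : Fin N → R, (∀ i, π (f i) = 0) → (List.ofFn f).prod = 0 := by
  have : IsArtinianRing R := IsArtinianRing.of_finite k R
  obtain ⟨L, d, hd, ⟨e⟩⟩ :=
    IsSemisimpleRing.exists_algEquiv_pi_matrix_of_isAlgClosed k (R ⧸ Ring.jacobson R)
  obtain ⟨N, hN⟩ := (IsSemiprimaryRing.isNilpotent : IsNilpotent (Ring.jacobson R))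
  refine ⟨L, d, hd, (e : (R ⧸ Ring.jacobson R) →ₐ[k] _).comp
    (Ideal.Quotient.mkₐ k (Ring.jacobson R)), ?_, N, ?_⟩
  · intro y
    obtain ⟨x, hx⟩ := e.surjective y
    obtain ⟨r, hr⟩ := Ideal.Quotient.mk_surjective x
    refine ⟨r, ?_⟩
    simp only [AlgHom.comp_apply, Ideal.Quotient.mkₐ_eq_mk, AlgEquiv.coe_toAlgHom]
    rw [hr, hx]
  · intro f hf
    have hmem : ∀ i, f i ∈ Ring.jacobson R := by
      intro i
      have h1 := hf i
      simp only [AlgHom.comp_apply, Ideal.Quotient.mkₐ_eq_mk, AlgEquiv.coe_toAlgHom] at h1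
      have h2 : (Ideal.Quotient.mk (Ring.jacobson R)) (f i) = 0 := by
        apply e.injective
        rw [h1, map_zero]
      exact Ideal.Quotient.eq_zero_iff_mem.mp h2
    have h3 := list_prod_mem_pow_A1 (Ring.jacobson R) (List.ofFn f) (by
      intro x hx
      rw [List.mem_ofFn] at hx
      obtain ⟨i, rfl⟩ := hx
      exact hmem i)
    rw [List.length_ofFn, hN, Ideal.zero_eq_bot, Ideal.mem_bot] at h3
    exact h3

section A
variable {k R : Type*} [Field k] [Ring R] [Algebra k R] [FiniteDimensional k R]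

/-- A1 (form lemma): a functional killing all commutators is `t (z * ·)` with `z` central -/
theorem exists_central_of_form (t : R →ₗ[k] k) (ht : ∀ a b, t (a * b) = t (b * a))
    (hnd : ∀ a, (∀ b, t (a * b) = 0) → a = 0) (φ : R →ₗ[k] k)
    (hφ : ∀ a b, φ (a * b) = φ (b * a)) :
    ∃ z : R, (∀ x, z * x = x * z) ∧ ∀ x, φ x = t (z * x) := by
  let T : R →ₗ[k] Module.Dual k R := (LinearMap.mul k R).compr₂ t
  have hT : ∀ a b, T a b = t (a * b) := fun a b => rfl
  have hinj : Function.Injective T := by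
    rw [injective_iff_map_eq_zero]
    intro a ha
    apply hnd a
    intro b
    rw [← hT, ha]
    rfl
  have hsurj : Function.Surjective T :=
    (LinearMap.injective_iff_surjective_of_finrank_eq_finrank
      (Subspace.dual_finrank_eq (K := k) (V := R)).symm).mp hinj
  obtain ⟨z, hz⟩ := hsurj φ
  have hzφ : ∀ x, φ x = t (z * x) := by
    intro x
    rw [← hz, hT]
  refine ⟨z, ?_, hzφ⟩
  intro x
  rw [← sub_eq_zero]
  apply hnd
  intro y
  rw [sub_mul, map_sub, sub_eq_zero]
  calc t (z * x * y) = φ (x * y) := by rw [hzφ, mul_assoc]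
    _ = φ (y * x) := hφ x y
    _ = t (z * (y * x)) := hzφ _
    _ = t (z * y * x) := by rw [mul_assoc]
    _ = t (x * (z * y)) := ht _ _
    _ = t (x * z * y) := by rw [mul_assoc]

end A

end Cfsg.Agent.Lib.Lead.Brandt
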