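import Mathlib
import Cfsg.Prelude.Def_KGroupFacts
import Cfsg.Agent.Lib.Helper3.StU12
set_option autoImplicit false
set_option linter.unusedSectionVars false

/-!
Stem extensions and Sylow subgroups: the kernel of a finite stem extension is trivial, if for every prime `r` the
preimage `P` of a subgroup of index prime to `r` has no element of order `r` of the kernel in its derived subgroup.
-/

namespace Cfsg.Agent.Lib.Helper3.SzM

open scoped commutatorElement

section
variable {Γ : Type*} [Group Γ]

/-- The transfer: a central element of the derived subgroup, raised to the index of `P`, lies in the derived subgroup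
of `P`. -/
theorem pow_index_mem_commutator (P : Subgroup Γ) [P.FiniteIndex] {z : Γ}
    (hz : z ∈ Subgroup.center Γ) (hz' : z ∈ commutator Γ) : z ^ P.index ∈ ⁅P, P⁆ := by
  have hc := Subgroup.mem_center_iff.mp hz
  have key : ∀ (k : ℕ) (g₀ : Γ), g₀⁻¹ * z ^ k * g₀ ∈ P → g₀⁻¹ * z ^ k * g₀ = z ^ k := by
    intro k g₀ _
    have hk : z ^ k ∈ Subgroup.center Γ := Subgroup.pow_mem _ hz k
    have := Subgroup.mem_center_iff.mp hk g₀
    rw [mul_assoc, ← this, inv_mul_cancel_left]
  have h1 := MonoidHom.transfer_eq_pow (Abelianization.of : P →* Abelianization P) z key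
  have h2 : MonoidHom.transfer (Abelianization.of : P →* Abelianization P) z = 1 := by
    have := Abelianization.commutator_subset_ker (MonoidHom.transfer (Abelianization.of : P →* Abelianization P)) hz'
    exact this
  rw [h2] at h1
  have h3 : (⟨z ^ P.index, MonoidHom.transfer_eq_pow_aux z key⟩ : P) ∈ (Abelianization.of : P →* Abelianization P).ker :=
    h1.symm
  rw [Abelianization.ker_of] at h3
  have h4 : ((⟨z ^ P.index, MonoidHom.transfer_eq_pow_aux z key⟩ : P) : Γ) ∈ (commutator P).map P.subtype :=
    Subgroup.mem_map_of_mem _ h3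
  rw [Subgroup.map_subtype_commutator] at h4
  exact h4

end

section
universe u
variable {G : Type u} [Group G]

/-- The kernel of a finite stem extension is trivial, if for every prime `r` there is a subgroup `R` of index prime to
`r` such that the derived subgroup of the preimage of `R` has no element of order `r` of the kernel. -/
theorem stem_ker_eq_bot_of_sylow {Γ : Type*} [Group Γ] [Finite Γ] (σ : Γ →* G) (hσ : Cfsg.IsStemExtension σ)
    (h : ∀ r : ℕ, r.Prime → ∃ R : Subgroup G, ¬ r ∣ R.index ∧
      ∀ z ∈ σ.ker, z ∈ ⁅R.comap σ, R.comap σ⁆ → z ^ r = 1 → z = 1) : σ.ker = ⊥ := by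
  obtain ⟨hsurj, hcen, hcomm⟩ := hσ
  by_contra hne
  have hnt : Nontrivial σ.ker := (Subgroup.nontrivial_iff_ne_bot _).mpr hne
  have hcard : 1 < Nat.card σ.ker := Finite.one_lt_card
  obtain ⟨r, hr, hrd⟩ := Nat.exists_prime_and_dvd (Nat.ne_of_gt hcard)
  have : Fact r.Prime := ⟨hr⟩
  obtain ⟨z, hz⟩ := exists_prime_orderOf_dvd_card' r hrd
  obtain ⟨R, hR, hRz⟩ := h r hr
  have hzo : orderOf (z : Γ) = r := by rw [Subgroup.orderOf_coe, hz]
  set P := R.comap σ with hP
  have hidx : P.index = R.index := Subgroup.index_comap_of_surjective R hsurj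
  have hmem := pow_index_mem_commutator P (hcen z.2) (hcomm z.2)
  have hker : (z : Γ) ^ P.index ∈ σ.ker := Subgroup.pow_mem _ z.2 _
  have hpow : ((z : Γ) ^ P.index) ^ r = 1 := by
    rw [← pow_mul, mul_comm, pow_mul, ← hzo, pow_orderOf_eq_one, one_pow]
  have h1 := hRz _ hker hmem hpow
  have hdvd : r ∣ P.index := by
    rw [← hzo]
    exact orderOf_dvd_of_pow_eq_one h1
  rw [hidx] at hdvd
  exact hR hdvd

/-- The preimage of a cyclic subgroup in a central extension is commutative. -/
theorem commutator_comap_eq_bot_of_isCyclic {Γ : Type*} [Group Γ] (σ : Γ →* G) (hc : σ.ker ≤ Subgroup.center Γ)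
    (R : Subgroup G) [IsCyclic R] : ⁅R.comap σ, R.comap σ⁆ = ⊥ := by
  rw [eq_bot_iff, Subgroup.commutator_le]
  intro x hx y hy
  rw [Subgroup.mem_bot, commutatorElement_eq_one_iff_mul_comm]
  let f : R.comap σ →* R := σ.subgroupComap R
  have hf : f.ker ≤ Subgroup.center (R.comap σ) := by
    intro a ha
    rw [Subgroup.mem_center_iff]
    intro b
    have ha' : σ (a : Γ) = 1 := by
      have := congrArg Subtype.val (MonoidHom.mem_ker.mp ha)
      exact this
    have := Subgroup.mem_center_iff.mp (hc (MonoidHom.mem_ker.mpr ha')) (b : Γ)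
    exact Subtype.ext this
  have := (f.isMulCommutative_of_isCyclic_of_ker_le_center hf).is_comm.comm ⟨x, hx⟩ ⟨y, hy⟩
  exact congrArg Subtype.val this

/-- Transport of the triviality of the Schur multiplier along an isomorphism. -/
theorem hasCyclicSchurMultiplier_one_of_equiv {G' : Type u} [Group G'] [Finite G'] (e : G ≃* G')
    (h : ∀ (Γ : Type u) [Group Γ] [Finite Γ] (σ : Γ →* G), Cfsg.IsStemExtension σ → σ.ker = ⊥) :
    Cfsg.HasCyclicSchurMultiplier G' 1 := by
  apply Cfsg.Agent.Lib.Helper3.StU.hasCyclicSchurMultiplier_one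
  intro Γ _ _ σ hσ
  have h1 : Cfsg.IsStemExtension (e.symm.toMonoidHom.comp σ) := by
    obtain ⟨hs, hc, hd⟩ := hσ
    have hk : (e.symm.toMonoidHom.comp σ).ker = σ.ker := by
      ext x
      simp [MonoidHom.mem_ker]
    refine ⟨e.symm.surjective.comp hs, ?_, ?_⟩
    · rw [hk]; exact hc
    · rw [hk]; exact hd
  have := h Γ (e.symm.toMonoidHom.comp σ) h1
  have hk : (e.symm.toMonoidHom.comp σ).ker = σ.ker := by
    ext x
    simp [MonoidHom.mem_ker]
  rw [← hk]
  exact this

end

end Cfsg.Agent.Lib.Helper3.SzM
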