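import Mathlib
import Cfsg.Agent.Lib.Helper3.StU1
set_option autoImplicit false
set_option linter.unusedSectionVars false

/-!
Lifts of an additive one-parameter subgroup to a central extension commute, when a set of scalars acts on the
subgroup by conjugation and contains a suitable triple.
-/

namespace Cfsg.Agent.Lib.Helper3.SzM

open Cfsg.Agent.Lib.Helper3.StU
open scoped commutatorElement

section
variable {F : Type*} [Field F] {A : Type*} [Group A]

/-- A biadditive pairing with `c (k a) (k b) = c a b` for all `k` in a set `S` vanishes, if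
`1 / k₁ + 1 / k₂ ≠ 1 / (k₁ + k₂)` for some `k₁`, `k₂`, `k₁ + k₂` in `S`. -/
theorem pairing_eq_one_of_set (c : F → F → A)
    (hl : ∀ a a' b, c (a + a') b = c a b * c a' b) (hr : ∀ a b b', c a (b + b') = c a b * c a b')
    (S : Set F) (hinv : ∀ k ∈ S, ∀ a b, c (k * a) (k * b) = c a b)
    (k₁ k₂ : F) (m1 : k₁ ∈ S) (m2 : k₂ ∈ S) (m3 : k₁ + k₂ ∈ S) (h1 : k₁ ≠ 0) (h2 : k₂ ≠ 0) (h3 : k₁ + k₂ ≠ 0)
    (hne : k₁⁻¹ + k₂⁻¹ ≠ (k₁ + k₂)⁻¹) : ∀ a b, c a b = 1 := by
  have hmove : ∀ k ∈ S, k ≠ 0 → ∀ a b, c (k * a) b = c a (k⁻¹ * b) := by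
    intro k hkS hk a b
    have := hinv k hkS a (k⁻¹ * b)
    rw [← mul_assoc, mul_inv_cancel₀ hk, one_mul] at this
    exact this
  have hr0 : ∀ a, c a 0 = 1 := by
    intro a
    have := hr a 0 0
    rw [add_zero] at this
    exact (mul_eq_left.mp this.symm)
  have hrsub : ∀ a x y, c a (x - y) = c a x * (c a y)⁻¹ := by
    intro a x y
    have := hr a (x - y) y
    rw [sub_add_cancel] at this
    rw [this, mul_inv_cancel_right]
  set δ := k₁⁻¹ + k₂⁻¹ - (k₁ + k₂)⁻¹ with hδ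
  have hδ0 : δ ≠ 0 := sub_ne_zero.mpr hne
  have key : ∀ a b, c a (δ * b) = 1 := by
    intro a b
    have e1 : c ((k₁ + k₂) * a) b = c a ((k₁ + k₂)⁻¹ * b) := hmove _ m3 h3 a b
    have e2 : c ((k₁ + k₂) * a) b = c a ((k₁⁻¹ + k₂⁻¹) * b) := by
      rw [add_mul, hl, hmove k₁ m1 h1, hmove k₂ m2 h2, ← hr, ← add_mul]
    rw [hδ, sub_mul, hrsub, ← e2, e1, mul_inv_cancel]
  intro a b
  have := key a (δ⁻¹ * b)
  rwa [← mul_assoc, mul_inv_cancel₀ hδ0, one_mul] at this

/-- Lifts of the elements of an additive one-parameter subgroup `X` to a central extension commute, if the scalars of a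
set `S` act on `X` by conjugation and `S` contains `k₁`, `k₂`, `k₁ + k₂` with `1 / k₁ + 1 / k₂ ≠ 1 / (k₁ + k₂)`. -/
theorem lifts_commute_of_torus {G Γ : Type*} [Group G] [Group Γ] (σ : Γ →* G) (hs : Function.Surjective σ)
    (hc : σ.ker ≤ Subgroup.center Γ) (X : F → G) (hX : ∀ a b, X (a + b) = X a * X b)
    (S : Set F) (hS : ∀ k ∈ S, ∃ g : G, ∀ a, g * X a * g⁻¹ = X (k * a))
    (k₁ k₂ : F) (m1 : k₁ ∈ S) (m2 : k₂ ∈ S) (m3 : k₁ + k₂ ∈ S) (h1 : k₁ ≠ 0) (h2 : k₂ ≠ 0) (h3 : k₁ + k₂ ≠ 0)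
    (hne : k₁⁻¹ + k₂⁻¹ ≠ (k₁ + k₂)⁻¹) {x y : Γ} {a b : F} (hx : σ x = X a) (hy : σ y = X b) :
    x * y = y * x := by
  let lift : G → Γ := Function.surjInv hs
  have hlift : ∀ d, σ (lift d) = d := Function.surjInv_eq hs
  let c : F → F → Γ := fun a b => ⁅lift (X a), lift (X b)⁆
  have c_eq : ∀ {x y : Γ} {a b : F}, σ x = X a → σ y = X b → ⁅x, y⁆ = c a b := by
    intro x y a b hx hy
    exact comm_congr σ hc (by rw [hx, hlift]) (by rw [hy, hlift])
  have hcomm : ∀ a b, Commute (X a) (X b) := by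
    intro a b
    show X a * X b = X b * X a
    rw [← hX, ← hX, add_comm]
  have c_cen : ∀ a b, c a b ∈ Subgroup.center Γ := by
    intro a b
    apply hc
    apply comm_mem_ker
    rw [hlift, hlift]
    exact hcomm a b
  have hl : ∀ a a' b, c (a + a') b = c a b * c a' b := by
    intro a a' b
    have h : σ (lift (X a) * lift (X a')) = X (a + a') := by rw [map_mul, hlift, hlift, hX]
    rw [← c_eq h (hlift _), comm_mul_left_of_central (c_cen a' b)]
  have hr : ∀ a b b', c a (b + b') = c a b * c a b' := by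
    intro a b b'
    have h : σ (lift (X b) * lift (X b')) = X (b + b') := by rw [map_mul, hlift, hlift, hX]
    rw [← c_eq (hlift _) h, comm_mul_right_of_central (c_cen a b')]
  have hinv : ∀ k ∈ S, ∀ a b, c (k * a) (k * b) = c a b := by
    intro k hk a b
    obtain ⟨g, hg⟩ := hS k hk
    have e1 : σ (lift g * lift (X a) * (lift g)⁻¹) = X (k * a) := by
      rw [map_mul, map_mul, map_inv, hlift, hlift, hg]
    have e2 : σ (lift g * lift (X b) * (lift g)⁻¹) = X (k * b) := by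
      rw [map_mul, map_mul, map_inv, hlift, hlift, hg]
    rw [← c_eq e1 e2, ← conj_comm]
    have := Subgroup.mem_center_iff.mp (c_cen a b) (lift g)
    show lift g * c a b * (lift g)⁻¹ = c a b
    rw [this, mul_inv_cancel_right]
  have h1' := pairing_eq_one_of_set c hl hr S hinv k₁ k₂ m1 m2 m3 h1 h2 h3 hne a b
  rw [← c_eq hx hy] at h1'
  exact commutatorElement_eq_one_iff_mul_comm.mp h1'

end

end Cfsg.Agent.Lib.Helper3.SzM
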