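import Mathlib
set_option autoImplicit false
set_option linter.unusedSectionVars false

/-!
Finite fields which are large enough contain nonzero `x`, `y`, `z` with `x² + y² = z²` and
`1 / x² + 1 / y² ≠ 1 / z²`.
-/

namespace Cfsg.Agent.Lib.Helper3.SzM

open Polynomial

section
variable {F : Type*} [Field F] [Fintype F]

theorem exists_not_root (P : F[X]) (hP : P ≠ 0) (hd : P.natDegree < Fintype.card F) : ∃ μ : F, P.eval μ ≠ 0 := by
  classical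
  by_contra h
  push Not at h
  have h1 : (Finset.univ : Finset F) ⊆ P.roots.toFinset := by
    intro μ _
    rw [Multiset.mem_toFinset, mem_roots hP]
    exact h μ
  have h2 := Finset.card_le_card h1
  have h3 : P.roots.toFinset.card ≤ P.natDegree := (Multiset.toFinset_card_le _).trans (card_roots' P)
  rw [Finset.card_univ] at h2
  omega

theorem inv_sq_add_ne {x y : F} (hx : x ≠ 0) (hy : y ≠ 0) (hz : x ^ 2 + y ^ 2 ≠ 0)
    (h : x ^ 4 + x ^ 2 * y ^ 2 + y ^ 4 ≠ 0) : (x ^ 2)⁻¹ + (y ^ 2)⁻¹ ≠ (x ^ 2 + y ^ 2)⁻¹ := by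
  intro e
  apply h
  field_simp at e
  linear_combination e

/-- odd characteristic -/
theorem exists_square_triple_odd (h2 : (2 : F) ≠ 0) (hq : 13 < Fintype.card F) :
    ∃ x y z : F, x ≠ 0 ∧ y ≠ 0 ∧ z ≠ 0 ∧ x ^ 2 + y ^ 2 = z ^ 2 ∧ (x ^ 2)⁻¹ + (y ^ 2)⁻¹ ≠ (x ^ 2 + y ^ 2)⁻¹ := by
  set Q : F[X] := (C 2 * X) ^ 4 + (C 2 * X) ^ 2 * (1 - X ^ 2) ^ 2 + (1 - X ^ 2) ^ 4 with hQ
  set P : F[X] := X * (1 - X ^ 2) * (1 + X ^ 2) * Q with hP
  have e1 : (1 - X ^ 2 : F[X]) ≠ 0 := by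
    intro h
    have := congrArg (eval 0) h
    simp at this
  have e2 : (1 + X ^ 2 : F[X]) ≠ 0 := by
    intro h
    have := congrArg (eval 0) h
    simp at this
  have e3 : Q ≠ 0 := by
    intro h
    have := congrArg (eval 0) h
    simp [hQ] at this
  have hP0 : P ≠ 0 := mul_ne_zero (mul_ne_zero (mul_ne_zero X_ne_zero e1) e2) e3
  have hdeg : P.natDegree ≤ 13 := by
    rw [hP, hQ]
    compute_degree
  obtain ⟨μ, hμ⟩ := exists_not_root P hP0 (by omega)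
  rw [hP, hQ] at hμ
  simp only [eval_mul, eval_add, eval_sub, eval_pow, eval_X, eval_one, eval_C] at hμ
  have hμ0 : μ ≠ 0 := fun h => hμ (by rw [h]; ring)
  have hy : 1 - μ ^ 2 ≠ 0 := fun h => hμ (by rw [h]; ring)
  have hz : 1 + μ ^ 2 ≠ 0 := fun h => hμ (by rw [h]; ring)
  have hq4 : (2 * μ) ^ 4 + (2 * μ) ^ 2 * (1 - μ ^ 2) ^ 2 + (1 - μ ^ 2) ^ 4 ≠ 0 := fun h => hμ (by rw [h]; ring)
  have hsum : (2 * μ) ^ 2 + (1 - μ ^ 2) ^ 2 = (1 + μ ^ 2) ^ 2 := by ring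
  refine ⟨2 * μ, 1 - μ ^ 2, 1 + μ ^ 2, mul_ne_zero h2 hμ0, hy, hz, hsum, ?_⟩
  apply inv_sq_add_ne (mul_ne_zero h2 hμ0) hy
  · rw [hsum]
    exact pow_ne_zero 2 hz
  · exact hq4

/-- characteristic two -/
theorem exists_square_triple_even (h2 : (2 : F) = 0) (hq : 4 < Fintype.card F) :
    ∃ x y z : F, x ≠ 0 ∧ y ≠ 0 ∧ z ≠ 0 ∧ x ^ 2 + y ^ 2 = z ^ 2 ∧ (x ^ 2)⁻¹ + (y ^ 2)⁻¹ ≠ (x ^ 2 + y ^ 2)⁻¹ := by
  set P : F[X] := X * (1 + X) * (1 + X + X ^ 2) with hP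
  have e1 : (1 + X : F[X]) ≠ 0 := by
    intro h
    have := congrArg (eval 0) h
    simp at this
  have e2 : (1 + X + X ^ 2 : F[X]) ≠ 0 := by
    intro h
    have := congrArg (eval 0) h
    simp at this
  have hP0 : P ≠ 0 := mul_ne_zero (mul_ne_zero X_ne_zero e1) e2
  have hdeg : P.natDegree ≤ 4 := by
    rw [hP]
    compute_degree
  obtain ⟨s, hs⟩ := exists_not_root P hP0 (by omega)
  rw [hP] at hs
  simp only [eval_mul, eval_add, eval_pow, eval_X, eval_one] at hs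
  have hs0 : s ≠ 0 := fun h => hs (by rw [h]; ring)
  have hs1 : 1 + s ≠ 0 := fun h => hs (by rw [h]; ring)
  have hs2 : 1 + s + s ^ 2 ≠ 0 := fun h => hs (by rw [h]; ring)
  have hsum : (1 : F) ^ 2 + s ^ 2 = (1 + s) ^ 2 := by linear_combination (-s) * h2
  refine ⟨1, s, 1 + s, one_ne_zero, hs0, hs1, hsum, ?_⟩
  apply inv_sq_add_ne one_ne_zero hs0
  · rw [hsum]
    exact pow_ne_zero 2 hs1
  · have : (1 : F) ^ 4 + 1 ^ 2 * s ^ 2 + s ^ 4 = (1 + s + s ^ 2) ^ 2 := by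
      linear_combination (-(s + s ^ 2 + s ^ 3)) * h2
    rw [this]
    exact pow_ne_zero 2 hs2

end

end Cfsg.Agent.Lib.Helper3.SzM
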