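import Mathlib
import Cfsg.Agent.Lib.Helper3.SzM1
import Cfsg.Agent.Lib.Helper3.SzM6
import Cfsg.Agent.Lib.Helper3.SzM7
import Cfsg.Agent.Lib.Helper1.SL2Torus
set_option autoImplicit false
set_option linter.unusedSectionVars false

/-!
Central extensions of `SL₂` over a finite field: the preimage of the group of upper unitriangular matrices is
commutative, when the field has neither 4 nor 9 elements.
-/

namespace Cfsg.Agent.Lib.Helper3.SzM

open Matrix
open scoped commutatorElement MatrixGroups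

section
variable {F : Type*} [Field F]

/-- upper unitriangular matrices -/
def uL (a : F) : SpecialLinearGroup (Fin 2) F := ⟨!![1, a; 0, 1], by simp [Matrix.det_fin_two_of]⟩

/-- diagonal matrices -/
def hL (l : Fˣ) : SpecialLinearGroup (Fin 2) F :=
  ⟨!![(l : F), 0; 0, (l : F)⁻¹], by simp [Matrix.det_fin_two_of]⟩

theorem uL_add (a b : F) : uL (a + b) = uL a * uL b := by
  apply Subtype.ext
  show !![1, a + b; 0, 1] = !![1, a; 0, 1] * !![1, b; 0, 1]
  rw [Matrix.mul_fin_two]
  simp [add_comm]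

theorem hL_mul_uL (l : Fˣ) (a : F) : hL l * uL a = uL ((l : F) ^ 2 * a) * hL l := by
  apply Subtype.ext
  show !![(l : F), 0; 0, (l : F)⁻¹] * !![1, a; 0, 1] = !![1, (l : F) ^ 2 * a; 0, 1] * !![(l : F), 0; 0, (l : F)⁻¹]
  rw [Matrix.mul_fin_two, Matrix.mul_fin_two]
  have hl : (l : F) ≠ 0 := l.ne_zero
  congr 1
  ext i j
  fin_cases i <;> fin_cases j <;> simp <;> field_simp

theorem hL_conj_uL (l : Fˣ) (a : F) : hL l * uL a * (hL l)⁻¹ = uL ((l : F) ^ 2 * a) := by
  rw [hL_mul_uL, mul_inv_cancel_right]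

theorem uL_injective : Function.Injective (uL : F → SpecialLinearGroup (Fin 2) F) := by
  intro a b h
  have := congrArg (fun g : SpecialLinearGroup (Fin 2) F => (g : Matrix (Fin 2) (Fin 2) F) 0 1) h
  simpa [uL] using this

/-- the group of upper unitriangular matrices -/
def ULsub : Subgroup (SpecialLinearGroup (Fin 2) F) where
  carrier := Set.range uL
  mul_mem' := by
    rintro _ _ ⟨a, rfl⟩ ⟨b, rfl⟩
    exact ⟨a + b, uL_add a b⟩
  one_mem' := ⟨0, by
    apply Subtype.ext
    show !![(1 : F), 0; 0, 1] = 1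
    exact Matrix.one_fin_two.symm⟩
  inv_mem' := by
    rintro _ ⟨a, rfl⟩
    refine ⟨-a, ?_⟩
    apply eq_inv_of_mul_eq_one_left
    rw [← uL_add, neg_add_cancel]
    apply Subtype.ext
    show !![(1 : F), 0; 0, 1] = 1
    exact Matrix.one_fin_two.symm

theorem card_ULsub [Finite F] : Nat.card (ULsub : Subgroup (SpecialLinearGroup (Fin 2) F)) = Nat.card F := by
  symm
  apply Nat.card_congr
  exact Equiv.ofBijective (fun a => ⟨uL a, a, rfl⟩)
    ⟨fun a b h => uL_injective (congrArg Subtype.val h), fun ⟨_, a, rfl⟩ => ⟨a, rfl⟩⟩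

end

section
variable {F : Type*} [Field F] [Fintype F]

theorem not_dvd_index_ULsub (p : ℕ) [hp : Fact p.Prime] [CharP F p] :
    ¬ p ∣ (ULsub : Subgroup (SpecialLinearGroup (Fin 2) F)).index := by
  obtain ⟨n, -, hn⟩ := FiniteField.card F p
  have h1 := Subgroup.card_mul_index (ULsub : Subgroup (SpecialLinearGroup (Fin 2) F))
  rw [card_ULsub, Cfsg.Agent.Lib.Helper1.card_SL2, Nat.card_eq_fintype_card] at h1
  have hq : 0 < Fintype.card F := Fintype.card_pos
  have h2 : (ULsub : Subgroup (SpecialLinearGroup (Fin 2) F)).index = Fintype.card F ^ 2 - 1 :=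
    Nat.eq_of_mul_eq_mul_left hq h1
  rw [h2]
  intro hd
  have hpq : p ∣ Fintype.card F ^ 2 := by
    rw [hn, ← pow_mul]
    exact dvd_pow_self p (by positivity)
  have h1le : 1 ≤ Fintype.card F ^ 2 := Nat.one_le_pow _ _ hq
  have : p ∣ 1 := by
    have := Nat.dvd_sub hpq hd
    rwa [Nat.sub_sub_self h1le] at this
  exact hp.out.one_lt.ne' (Nat.dvd_one.mp this)

/-- The preimage of the group of upper unitriangular matrices in a central extension is commutative. -/
theorem commutator_comap_ULsub {Γ : Type*} [Group Γ] (σ : Γ →* SpecialLinearGroup (Fin 2) F)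
    (hs : Function.Surjective σ) (hc : σ.ker ≤ Subgroup.center Γ) (h4 : Fintype.card F ≠ 4)
    (h9 : Fintype.card F ≠ 9) : ⁅(ULsub).comap σ, (ULsub).comap σ⁆ = ⊥ := by
  obtain ⟨p, hchar⟩ := CharP.exists F
  obtain ⟨n, hp, hn⟩ := FiniteField.card F p
  have : Fact p.Prime := ⟨hp⟩
  by_cases hn1 : (n : ℕ) = 1
  · -- prime field: the subgroup is cyclic
    have hcard : Nat.card (ULsub : Subgroup (SpecialLinearGroup (Fin 2) F)) = p := by
      rw [card_ULsub, Nat.card_eq_fintype_card, hn, hn1, pow_one]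
    have : IsCyclic (ULsub : Subgroup (SpecialLinearGroup (Fin 2) F)) := isCyclic_of_prime_card hcard
    exact commutator_comap_eq_bot_of_isCyclic σ hc _
  · have hn2 : 2 ≤ (n : ℕ) := by
      have := n.pos
      omega
    have hex : ∃ x y z : F, x ≠ 0 ∧ y ≠ 0 ∧ z ≠ 0 ∧ x ^ 2 + y ^ 2 = z ^ 2 ∧
        (x ^ 2)⁻¹ + (y ^ 2)⁻¹ ≠ (x ^ 2 + y ^ 2)⁻¹ := by
      by_cases hp2 : p = 2
      · subst hp2
        have h2 : (2 : F) = 0 := by
          have := CharP.cast_eq_zero F 2
          exact_mod_cast this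
        apply exists_square_triple_even h2
        rw [hn]
        have h3 : 3 ≤ (n : ℕ) := by
          by_contra hlt
          have : (n : ℕ) = 2 := by omega
          rw [this] at hn
          exact h4 (by rw [hn]; norm_num)
        calc 4 < 2 ^ 3 := by norm_num
          _ ≤ 2 ^ (n : ℕ) := Nat.pow_le_pow_right (by norm_num) h3
      · have h2 : (2 : F) ≠ 0 := by
          intro h
          have h' : ((2 : ℕ) : F) = 0 := by exact_mod_cast h
          have := (CharP.cast_eq_zero_iff F p 2).mp h'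
          have := (Nat.prime_dvd_prime_iff_eq hp Nat.prime_two).mp this
          exact hp2 this
        apply exists_square_triple_odd h2
        rw [hn]
        have hp3 : 3 ≤ p := by
          have := hp.two_le
          omega
        by_cases hp3' : p = 3
        · subst hp3'
          have h3 : 3 ≤ (n : ℕ) := by
            by_contra hlt
            have : (n : ℕ) = 2 := by omega
            rw [this] at hn
            exact h9 (by rw [hn]; norm_num)
          calc 13 < 3 ^ 3 := by norm_num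
            _ ≤ 3 ^ (n : ℕ) := Nat.pow_le_pow_right (by norm_num) h3
        · have hp5 : 5 ≤ p := by
            have : p ≠ 4 := by
              rintro rfl
              norm_num at hp
            omega
          calc 13 < 5 ^ 2 := by norm_num
            _ ≤ p ^ 2 := Nat.pow_le_pow_left hp5 2
            _ ≤ p ^ (n : ℕ) := Nat.pow_le_pow_right (by omega) hn2
    obtain ⟨x, y, z, hx, hy, hz, hsum, hne⟩ := hex
    rw [eq_bot_iff, Subgroup.commutator_le]
    rintro g ⟨a, ha⟩ g' ⟨b, hb⟩
    rw [Subgroup.mem_bot, commutatorElement_eq_one_iff_mul_comm]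
    refine lifts_commute_of_torus σ hs hc uL uL_add {k | ∃ l : Fˣ, k = (l : F) ^ 2} ?_ (x ^ 2) (y ^ 2)
      ⟨Units.mk0 x hx, rfl⟩ ⟨Units.mk0 y hy, rfl⟩ ⟨Units.mk0 z hz, hsum⟩ (pow_ne_zero 2 hx) (pow_ne_zero 2 hy) ?_ hne
      ha.symm hb.symm
    · rintro k ⟨l, rfl⟩
      exact ⟨hL l, fun a => hL_conj_uL l a⟩
    · rw [hsum]
      exact pow_ne_zero 2 hz

end

end Cfsg.Agent.Lib.Helper3.SzM
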