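import Mathlib
import Cfsg.Agent.Lib.Helper7.StemCore
set_option autoImplicit false
set_option linter.unusedSectionVars false

/-!
Central extensions of generalized quaternion groups: the derived subgroup meets the kernel trivially.
-/

namespace Cfsg.Agent.Lib.Helper3.SzM

open QuaternionGroup Cfsg.Agent.Lib.Helper7
open scoped commutatorElement

theorem quat_closure_gens (n : ℕ) [NeZero n] :
    Subgroup.closure {(a 1 : QuaternionGroup n), xa 0} = ⊤ := by
  rw [eq_top_iff]
  have ha : ∀ i : ZMod (2 * n), (a i : QuaternionGroup n) ∈ Subgroup.closure {(a 1 : QuaternionGroup n), xa 0} := by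
    intro i
    have h1 : (a 1 : QuaternionGroup n) ^ i.val = a i := by
      rw [a_one_pow, ZMod.natCast_zmod_val]
    rw [← h1]
    exact Subgroup.pow_mem _ (Subgroup.subset_closure (by simp)) _
  rintro (i | i) _
  · exact ha i
  · have : (xa i : QuaternionGroup n) = xa 0 * a i := by rw [xa_mul_a, zero_add]
    rw [this]
    exact Subgroup.mul_mem _ (Subgroup.subset_closure (by simp)) (ha i)

theorem quat_two_n (n : ℕ) : ((n : ZMod (2 * n)) + n) = 0 := by
  have : ((n : ZMod (2 * n)) + n) = ((2 * n : ℕ) : ZMod (2 * n)) := by push_cast; ring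
  rw [this]; exact ZMod.natCast_self _

theorem quat_xa_zero_inv (n : ℕ) : (xa 0 : QuaternionGroup n)⁻¹ = xa (n : ZMod (2 * n)) := by
  rw [inv_eq_iff_mul_eq_one, xa_mul_xa, one_def]
  congr 1
  rw [sub_zero]; exact quat_two_n n

theorem quat_a_one_inv (n : ℕ) : (a 1 : QuaternionGroup n)⁻¹ = a (-1) := by
  rw [inv_eq_iff_mul_eq_one, a_mul_a, one_def]
  congr 1
  ring

theorem quat_rel (n : ℕ) : (xa 0 : QuaternionGroup n) * a 1 * (xa 0)⁻¹ = (a 1)⁻¹ := by
  rw [quat_xa_zero_inv, quat_a_one_inv, xa_mul_a, xa_mul_xa]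
  congr 1
  have := quat_two_n n
  linear_combination this

/-- In a finite central extension of a generalized quaternion group the derived subgroup meets the kernel trivially. -/
theorem eq_one_of_mem_commutator_quaternion {E : Type*} [Group E] [Finite E] (n : ℕ) [NeZero n]
    (τ : E →* QuaternionGroup n) (hτ : Function.Surjective τ) (hcen : τ.ker ≤ Subgroup.center E) {z : E}
    (hz : z ∈ τ.ker) (hz' : z ∈ commutator E) : z = 1 := by
  obtain ⟨α, hα⟩ := hτ (a 1)
  obtain ⟨ξ, hξ⟩ := hτ (xa 0)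
  set k := α * (ξ * α * ξ⁻¹) with hkdef
  have hk : k ∈ τ.ker := by
    rw [MonoidHom.mem_ker, hkdef]
    simp only [map_mul, map_inv, hα, hξ, quat_rel n]
    group
  have hrel : ξ * α * ξ⁻¹ = α⁻¹ * k := by rw [hkdef]; group
  have hgen : Subgroup.closure {α, ξ} ⊔ τ.ker = ⊤ := by
    rw [eq_top_iff]
    intro g _
    have h1 : τ g ∈ (Subgroup.closure {α, ξ}).map τ := by
      rw [MonoidHom.map_closure, Set.image_pair, hα, hξ, quat_closure_gens n]; exact Subgroup.mem_top _
    obtain ⟨w, hw, hwg⟩ := h1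
    have h2 : w⁻¹ * g ∈ τ.ker := by
      rw [MonoidHom.mem_ker, map_mul, map_inv, hwg]; group
    have : g = w * (w⁻¹ * g) := by group
    rw [this]
    exact Subgroup.mul_mem _ (Subgroup.mem_sup_left hw) (Subgroup.mem_sup_right h2)
  have hzp : z ∈ Subgroup.zpowers (α * α * k⁻¹) :=
    commutator_le_zpowers τ.ker hcen α ξ k hk hrel hgen hz'
  rw [← mem_powers_iff_mem_zpowers] at hzp
  obtain ⟨i, hi⟩ := hzp
  have hzi : z = α ^ (2 * i) * (k⁻¹) ^ i := by
    rw [← hi]
    exact c_pow τ.ker hcen α k hk i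
  have hai : ((a 1 : QuaternionGroup n) * a 1) ^ i = 1 := by
    have := congrArg τ hi
    rw [MonoidHom.mem_ker.mp hz] at this
    rw [← this]
    simp only [map_pow, map_mul, map_inv, hα, MonoidHom.mem_ker.mp hk, inv_one, mul_one]
  -- `ξ` commutes with `α ^ n`
  have hcomm : ξ * α ^ n = α ^ n * ξ := by
    set k₂ := (α ^ n)⁻¹ * (ξ * ξ) with hk₂def
    have hk₂ : k₂ ∈ τ.ker := by
      rw [MonoidHom.mem_ker, hk₂def]
      simp only [map_mul, map_inv, map_pow, hα, hξ]
      rw [a_one_pow, xa_mul_xa, sub_zero, add_zero]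
      group
    have hk₂c : ∀ g : E, g * k₂ = k₂ * g := Subgroup.mem_center_iff.mp (hcen hk₂)
    have h1 : ξ * ξ = α ^ n * k₂ := by rw [hk₂def]; group
    have h3 : ξ * (α ^ n * k₂) = (α ^ n * k₂) * ξ := by rw [← h1]; group
    have h4 : ξ * α ^ n * k₂ = α ^ n * ξ * k₂ := by
      calc ξ * α ^ n * k₂ = ξ * (α ^ n * k₂) := by group
        _ = (α ^ n * k₂) * ξ := h3
        _ = α ^ n * (k₂ * ξ) := by group
        _ = α ^ n * (ξ * k₂) := by rw [hk₂c ξ]
        _ = α ^ n * ξ * k₂ := by group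
    exact mul_right_cancel h4
  have h2n := rel_two_mul τ.ker hcen α ξ k hk hrel n hcomm
  have hni : n ∣ i := by
    have h1 : ((a 1 : QuaternionGroup n) * a 1) ^ i = a ((2 * i : ℕ) : ZMod (2 * n)) := by
      rw [← pow_two, ← pow_mul, a_one_pow]
    rw [h1, one_def] at hai
    have h2 : ((2 * i : ℕ) : ZMod (2 * n)) = 0 := by injection hai
    rw [ZMod.natCast_eq_zero_iff] at h2
    exact (Nat.mul_dvd_mul_iff_left (by norm_num)).mp h2
  obtain ⟨j, rfl⟩ := hni
  rw [hzi]
  have e1 : α ^ (2 * (n * j)) = (k ^ n) ^ j := by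
    rw [← h2n, ← pow_mul, mul_assoc]
  have e2 : (k⁻¹) ^ (n * j) = ((k ^ n) ^ j)⁻¹ := by
    rw [inv_pow, pow_mul]
  rw [e1, e2, mul_inv_cancel]

end Cfsg.Agent.Lib.Helper3.SzM
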