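import Cfsg.Agent.Lib.Helper3.BN8
import Cfsg.Agent.Lib.Helper3.DN10

/-!
# Type `B`: the kernel of the natural representation lies in the long subgroup
-/

set_option linter.unusedSectionVars false
set_option linter.unusedVariables false
set_option linter.unusedSimpArgs false

namespace Cfsg.Agent.Lib.Helper3.BN

open Cfsg.Agent.Lib.Helper5.Stb Cfsg.Agent.Lib.Helper3.AN Cfsg.Agent.Lib.Helper3.DN Matrix

section generic
variable {J K G : Type*} [Field K] [Group G] {ν : J → J} (B : BData J K G ν) [Fintype J]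
  [DecidableEq J] {φ : G →* Matrix (Unit ⊕ J) (Unit ⊕ J) K} (hφ : IsRepB B φ)

namespace BData

include hφ in
theorem N0_fix0 {g : G} (hg : g ∈ B.N0) : φ g *ᵥ (e0 : Unit ⊕ J → K) = e0 := by
  unfold N0 at hg
  induction hg using Subgroup.closure_induction with
  | mem y hy =>
    obtain ⟨i, j, u, -, -, -, rfl⟩ := hy
    exact rep_w_0 hφ i j u
  | one => rw [map_one, Matrix.one_mulVec]
  | mul a b _ _ ha hb => rw [map_mul, ← Matrix.mulVec_mulVec, hb, ha]
  | inv a _ ha =>
    have h1 : φ a⁻¹ *ᵥ (φ a *ᵥ (e0 : Unit ⊕ J → K)) = e0 := by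
      rw [Matrix.mulVec_mulVec, ← map_mul, inv_mul_cancel, map_one, Matrix.one_mulVec]
    rwa [ha] at h1

end BData

end generic

section fin
variable {n : ℕ} {K G : Type*} [Field K] [Group G] (B : BData (Fin (n + n)) K G Fin.rev)
  {φ : G →* Matrix (Unit ⊕ Fin (n + n)) (Unit ⊕ Fin (n + n)) K} (hφ : IsRepB B φ)

namespace BData

theorem NwB_eq : B.NwB = Subgroup.closure B.genNB := rfl

include hφ in
/-- the kernel of the natural representation lies in the long monomial subgroup -/
theorem ker_mem_N0 (h2 : (2 : K) ≠ 0) (hn : 3 ≤ n) (hgen : B.Gen) (g : G) (hg : φ g = 1) :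
    g ∈ B.N0 ∧ ∀ x : G, g * x = x * g := by
  obtain ⟨h1, hcen⟩ := B.ker_centralB hφ h2 hn hgen g hg
  refine ⟨?_, hcen⟩
  have hc := hc_fin hn
  let a₀ : Fin (n + n) := ⟨0, by omega⟩
  rw [NwB_eq] at h1
  rcases B.closure_genNB_le hc a₀ h1 with h | h
  · exact h
  · exfalso
    have e1 : g = (g * (B.wS a₀ 1)⁻¹) * B.wS a₀ 1 := by group
    have e2 : φ g *ᵥ (e0 : Unit ⊕ Fin (n + n) → K) = (-1 : K) • e0 := by
      rw [e1, map_mul, ← Matrix.mulVec_mulVec, rep_wS_0 hφ a₀ one_ne_zero, Matrix.mulVec_smul,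
        B.N0_fix0 hφ h]
    rw [hg, Matrix.one_mulVec] at e2
    have e3 := congrFun e2 (Sum.inl ())
    simp only [Pi.smul_apply, Pi.single_eq_same, smul_eq_mul, mul_one] at e3
    apply h2
    have : (2 : K) = 1 + 1 := by norm_num
    rw [this]
    nth_rewrite 1 [e3]
    ring

end BData

end fin

section transport
variable {J K G : Type*} [Field K] [Group G] {ν : J → J}

/-- reindexing of Steinberg data of type `B` -/
def BData.reindex {J' : Type*} {ν' : J' → J'} (B : BData J K G ν) (e : J' ≃ J)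
    (he : ∀ k, e (ν' k) = ν (e k)) : BData J' K G ν' where
  D := B.D.reindex e he
  Y := fun k t => B.Y (e k) t
  Y_add := fun k t u => B.Y_add _ _ _
  XY_comm := fun k l p t u h1 h2 =>
    B.XY_comm _ _ _ t u (e.injective.ne h1) (by rw [← he]; exact e.injective.ne h2)
  XY_rel := fun k l s t h1 h2 => by
    have := B.XY_rel (e k) (e l) s t (e.injective.ne h1) (by rw [← he]; exact e.injective.ne h2)
    rw [← he] at this
    exact this
  YY_rel := fun k l s t h1 h2 => by
    have := B.YY_rel (e k) (e l) s t (e.injective.ne h1) (by rw [← he]; exact e.injective.ne h2)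
    rw [← he] at this
    exact this

theorem BData.reindex_gen {J' : Type*} {ν' : J' → J'} (B : BData J K G ν) (e : J' ≃ J)
    (he : ∀ k, e (ν' k) = ν (e k)) (hgen : B.Gen) : (B.reindex e he).Gen := by
  unfold BData.Gen at hgen ⊢
  rw [← hgen]
  congr 1
  ext g
  constructor
  · rintro (⟨k, l, t, rfl⟩ | ⟨k, t, rfl⟩)
    · exact Or.inl ⟨e k, e l, t, rfl⟩
    · exact Or.inr ⟨e k, t, rfl⟩
  · rintro (⟨k, l, t, rfl⟩ | ⟨k, t, rfl⟩)
    · exact Or.inl ⟨e.symm k, e.symm l, t, by simp [BData.reindex, DData.reindex]⟩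
    · exact Or.inr ⟨e.symm k, t, by simp [BData.reindex]⟩

theorem BData.reindex_longSub_le {J' : Type*} {ν' : J' → J'} (B : BData J K G ν) (e : J' ≃ J)
    (he : ∀ k, e (ν' k) = ν (e k)) : (B.reindex e he).longSub ≤ B.longSub := by
  unfold BData.longSub
  rw [Subgroup.closure_le]
  rintro g ⟨k, l, t, rfl⟩
  exact Subgroup.subset_closure ⟨e k, e l, t, rfl⟩

variable [Fintype J] [DecidableEq J]

/-- the kernel of the natural representation is central and lies in the long subgroup (index
set in bijection with `Fin (n + n)`) -/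
theorem kerB_of_equiv {n : ℕ} (B : BData J K G ν) (e : Fin (n + n) ≃ J)
    (he : ∀ k, e (Fin.rev k) = ν (e k)) (h2 : (2 : K) ≠ 0) (hn : 3 ≤ n) (hgen : B.Gen)
    (φ : G →* Matrix (Unit ⊕ J) (Unit ⊕ J) K) (hφ : IsRepB B φ) (g : G) (hg : φ g = 1) :
    g ∈ B.longSub ∧ ∀ x : G, g * x = x * g := by
  let E : Unit ⊕ Fin (n + n) ≃ Unit ⊕ J := (Equiv.refl Unit).sumCongr e
  have hEl : ∀ u, E (Sum.inl u) = Sum.inl u := fun u => rfl
  have hEr : ∀ k, E (Sum.inr k) = Sum.inr (e k) := fun k => rfl
  let φ' : G →* Matrix (Unit ⊕ Fin (n + n)) (Unit ⊕ Fin (n + n)) K :=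
    { toFun := fun g => (φ g).submatrix E E
      map_one' := by rw [map_one, Matrix.submatrix_one_equiv]
      map_mul' := fun a b => by rw [map_mul, Matrix.submatrix_mul_equiv] }
  have hφ'def : ∀ g, φ' g = (φ g).submatrix E E := fun g => rfl
  have single_inr : ∀ (k : J) (c : Unit ⊕ Fin (n + n)),
      (eJ k : Unit ⊕ J → K) (E c) = (eJ (e.symm k) : Unit ⊕ Fin (n + n) → K) c := by
    intro k c
    rcases c with u | c
    · simp [hEl]
    · rw [hEr]
      simp only [Pi.single_apply, Sum.inr.injEq]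
      have : e c = k ↔ c = e.symm k := by
        constructor
        · intro h; rw [← h, Equiv.symm_apply_apply]
        · intro h; rw [h, Equiv.apply_symm_apply]
      simp only [this]
  have single_inl : ∀ (c : Unit ⊕ Fin (n + n)),
      (e0 : Unit ⊕ J → K) (E c) = (e0 : Unit ⊕ Fin (n + n) → K) c := by
    intro c
    rcases c with u | c
    · simp [hEl]
    · rw [hEr]
      simp
  have hrep : IsRepB (B.reindex e he) φ' := by
    constructor
    · intro a b t hab hab' y
      rw [hφ'def, Matrix.submatrix_mulVec_equiv]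
      have h1 : e a ≠ e b := e.injective.ne hab
      have h2 : e b ≠ ν (e a) := by rw [← he]; exact e.injective.ne hab'
      have h3 := hφ.long (e a) (e b) t h1 h2 (y ∘ E.symm)
      show (φ (B.D.y (e a) (e b) t) *ᵥ (y ∘ E.symm)) ∘ E = _
      rw [h3]
      ext c
      have e3 : E.symm (Sum.inr (ν (e a))) = Sum.inr (Fin.rev a) := by
        rw [← he, ← hEr, Equiv.symm_apply_apply]
      have e4 : E.symm (Sum.inr (e b)) = Sum.inr b := by
        rw [← hEr, Equiv.symm_apply_apply]
      have e5 : e.symm (ν (e b)) = Fin.rev b := by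
        rw [← he, Equiv.symm_apply_apply]
      simp only [Function.comp_apply, Pi.add_apply, Pi.sub_apply, Pi.smul_apply, smul_eq_mul,
        Equiv.symm_apply_apply, single_inr, e3, e4, e5]
    · intro a t y
      rw [hφ'def, Matrix.submatrix_mulVec_equiv]
      have h3 := hφ.short (e a) t (y ∘ E.symm)
      show (φ (B.Y (e a) t) *ᵥ (y ∘ E.symm)) ∘ E = _
      rw [h3]
      ext c
      have e3 : E.symm (Sum.inr (ν (e a))) = Sum.inr (Fin.rev a) := by
        rw [← he, ← hEr, Equiv.symm_apply_apply]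
      have e4 : E.symm (Sum.inl ()) = Sum.inl () := by
        rw [← hEl, Equiv.symm_apply_apply]
      simp only [Function.comp_apply, Pi.add_apply, Pi.sub_apply, Pi.smul_apply, smul_eq_mul,
        Equiv.symm_apply_apply, single_inr, single_inl, e3, e4]
  have hg' : φ' g = 1 := by rw [hφ'def, hg, Matrix.submatrix_one_equiv]
  obtain ⟨h1, h3⟩ := (B.reindex e he).ker_mem_N0 hrep h2 hn (B.reindex_gen e he hgen) g hg'
  exact ⟨B.reindex_longSub_le e he ((B.reindex e he).N0_le_longSub h1), h3⟩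

end transport

end Cfsg.Agent.Lib.Helper3.BN
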