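import Mathlib

set_option autoImplicit false
set_option linter.unusedSectionVars false

/-!
An abstract "rank one" lemma: a finite group acting transitively on `q² + 1` points, with a `2`-subgroup
`U` of order `q²` fixing a point `∞`, regular on the other points, whose normaliser is the stabiliser
of `∞`.
-/

namespace Cfsg.Agent.Lib.Helper3.Sz

open MulAction

section aux

variable {G Ω : Type*} [Group G] [MulAction G Ω] [MulAction.IsPretransitive G Ω]
  (inf : Ω) (U : Subgroup G)
  (hfix : ∀ u ∈ U, u • inf = inf)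
  (hreg : ∀ x y : Ω, x ≠ inf → y ≠ inf → ∃! u : U, (u : G) • x = y)

include hfix hreg in
theorem rankone_two_trans {x y x' y' : Ω} (hxy : x ≠ y) (hxy' : x' ≠ y') :
    ∃ g : G, g • x = x' ∧ g • y = y' := by
  obtain ⟨g₁, hg₁⟩ := MulAction.exists_smul_eq G x inf
  obtain ⟨g₂, hg₂⟩ := MulAction.exists_smul_eq G x' inf
  have h1 : g₁ • y ≠ inf := by
    intro h
    rw [← hg₁] at h
    exact hxy (smul_left_cancel g₁ h).symm
  have h2 : g₂ • y' ≠ inf := by
    intro h
    rw [← hg₂] at h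
    exact hxy' (smul_left_cancel g₂ h).symm
  obtain ⟨u, hu, -⟩ := hreg _ _ h1 h2
  refine ⟨g₂⁻¹ * u * g₁, ?_, ?_⟩
  · rw [mul_smul, mul_smul, hg₁, hfix u u.2, inv_smul_eq_iff, hg₂]
  · rw [mul_smul, mul_smul, hu, inv_smul_smul]

include hfix hreg in
theorem rankone_aux (N : Subgroup G) (hN : N = MulAction.stabilizer G inf)
    (V : Subgroup G) (hV : V = U) :
    MulAction.IsMultiplyPretransitive G (G ⧸ N) 2 ∧
    ∀ x y : G ⧸ N, x ≠ (QuotientGroup.mk 1) → y ≠ (QuotientGroup.mk 1) →
      ∃! s : V, (s : G) • x = y := by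
  subst hN
  subst hV
  have hψ := MulAction.injective_ofQuotientStabilizer G inf
  have hsm := MulAction.ofQuotientStabilizer_smul G inf
  have h1 : MulAction.ofQuotientStabilizer G inf (QuotientGroup.mk 1) = inf := by
    rw [MulAction.ofQuotientStabilizer_mk, one_smul]
  constructor
  · rw [MulAction.is_two_pretransitive_iff]
    intro a b c d hab hcd
    obtain ⟨g, hg1, hg2⟩ := rankone_two_trans inf V hfix hreg
      (fun h => hab (hψ h)) (fun h => hcd (hψ h))
    refine ⟨g, ?_, ?_⟩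
    · apply hψ; rw [hsm, hg1]
    · apply hψ; rw [hsm, hg2]
  · intro x y hx hy
    have hx' : MulAction.ofQuotientStabilizer G inf x ≠ inf :=
      fun h => hx (hψ (h.trans h1.symm))
    have hy' : MulAction.ofQuotientStabilizer G inf y ≠ inf :=
      fun h => hy (hψ (h.trans h1.symm))
    obtain ⟨u, hu, huniq⟩ := hreg _ _ hx' hy'
    refine ⟨u, ?_, ?_⟩
    · apply hψ; rw [hsm]; exact hu
    · intro s hs
      apply huniq
      show (s : G) • MulAction.ofQuotientStabilizer G inf x = _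
      rw [← hsm, hs]

end aux

theorem rankone_sylow {G Ω : Type*} [Group G] [Finite G] [MulAction G Ω]
    [MulAction.IsPretransitive G Ω] (q : ℕ) (hq : Even q) (hq0 : 0 < q)
    (inf : Ω) (U : Subgroup G)
    (hΩ : Nat.card Ω = q ^ 2 + 1)
    (hU : Nat.card U = q ^ 2) (hU2 : IsPGroup 2 U)
    (hfix : ∀ u ∈ U, u • inf = inf)
    (hreg : ∀ x y : Ω, x ≠ inf → y ≠ inf → ∃! u : U, (u : G) • x = y)
    (hN : Subgroup.normalizer (U : Set G) = MulAction.stabilizer G inf)
    (hB : Nat.card (MulAction.stabilizer G inf) = q ^ 2 * (q - 1)) :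
    Nat.card G = q ^ 2 * (q - 1) * (q ^ 2 + 1) ∧
    ∃ S : Sylow 2 G,
      Nat.card (Subgroup.normalizer ((S : Subgroup G) : Set G)) = q ^ 2 * (q - 1) ∧
      (Subgroup.normalizer ((S : Subgroup G) : Set G)).index = q ^ 2 + 1 ∧
      MulAction.IsMultiplyPretransitive G (G ⧸ Subgroup.normalizer ((S : Subgroup G) : Set G)) 2 ∧
      ∀ x y : G ⧸ Subgroup.normalizer ((S : Subgroup G) : Set G),
        x ≠ (QuotientGroup.mk 1) → y ≠ (QuotientGroup.mk 1) →
          ∃! s : ↥(S : Subgroup G), (s : G) • x = y := by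
  have hidx : (MulAction.stabilizer G inf).index = q ^ 2 + 1 := by
    rw [MulAction.index_stabilizer_of_transitive, hΩ]
  have hG : Nat.card G = q ^ 2 * (q - 1) * (q ^ 2 + 1) := by
    rw [← Subgroup.index_mul_card (MulAction.stabilizer G inf), hidx, hB]; ring
  refine ⟨hG, ?_⟩
  have hUidx : U.index = (q - 1) * (q ^ 2 + 1) := by
    have h1 := Subgroup.card_mul_index U
    rw [hU, hG] at h1
    have hpos : 0 < q ^ 2 := by positivity
    apply Nat.eq_of_mul_eq_mul_left hpos
    rw [h1]; ring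
  have hodd : ¬ 2 ∣ U.index := by
    rw [hUidx]
    obtain ⟨j, hj⟩ := hq
    intro h
    rcases (Nat.Prime.dvd_mul Nat.prime_two).mp h with h | h
    · omega
    · rw [hj] at h
      have : (j + j) ^ 2 + 1 = 2 * (2 * j * j) + 1 := by ring
      rw [this] at h
      omega
  let S : Sylow 2 G := hU2.toSylow hodd
  have hS : (S : Subgroup G) = U := IsPGroup.toSylow_coe _ _
  have hNS : Subgroup.normalizer ((S : Subgroup G) : Set G) = MulAction.stabilizer G inf := by
    rw [hS, hN]
  refine ⟨S, ?_, ?_, ?_⟩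
  · rw [hNS, hB]
  · rw [hNS, hidx]
  · exact rankone_aux inf U hfix hreg _ hNS _ hS

/-- transport of the hypotheses of `rankone_sylow` along an isomorphism -/
theorem rankone_sylow_equiv {Γ H Ω : Type*} [Group Γ] [Group H] [Finite H] [MulAction Γ Ω]
    [MulAction.IsPretransitive Γ Ω] (e : Γ ≃* H) (q : ℕ) (hq : Even q) (hq0 : 0 < q)
    (inf : Ω) (U : Subgroup Γ)
    (hΩ : Nat.card Ω = q ^ 2 + 1)
    (hU : Nat.card U = q ^ 2) (hU2 : IsPGroup 2 U)
    (hfix : ∀ u ∈ U, u • inf = inf)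
    (hreg : ∀ x y : Ω, x ≠ inf → y ≠ inf → ∃! u : U, (u : Γ) • x = y)
    (hN : Subgroup.normalizer (U : Set Γ) = MulAction.stabilizer Γ inf)
    (hB : Nat.card (MulAction.stabilizer Γ inf) = q ^ 2 * (q - 1)) :
    Nat.card H = q ^ 2 * (q - 1) * (q ^ 2 + 1) ∧
    ∃ S : Sylow 2 H,
      Nat.card (Subgroup.normalizer ((S : Subgroup H) : Set H)) = q ^ 2 * (q - 1) ∧
      (Subgroup.normalizer ((S : Subgroup H) : Set H)).index = q ^ 2 + 1 ∧
      MulAction.IsMultiplyPretransitive H (H ⧸ Subgroup.normalizer ((S : Subgroup H) : Set H)) 2 ∧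
      ∀ x y : H ⧸ Subgroup.normalizer ((S : Subgroup H) : Set H),
        x ≠ (QuotientGroup.mk 1) → y ≠ (QuotientGroup.mk 1) →
          ∃! s : ↥(S : Subgroup H), (s : H) • x = y := by
  let _ : MulAction H Ω := MulAction.compHom Ω e.symm.toMonoidHom
  have hsm : ∀ (h : H) (x : Ω), h • x = e.symm h • x := fun _ _ => rfl
  have : MulAction.IsPretransitive H Ω := by
    constructor
    intro x y
    obtain ⟨g, hg⟩ := MulAction.exists_smul_eq Γ x y
    exact ⟨e g, by rw [hsm, e.symm_apply_apply, hg]⟩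
  have hstab : MulAction.stabilizer H inf = (MulAction.stabilizer Γ inf).map e.toMonoidHom := by
    ext h
    rw [Subgroup.mem_map_equiv, MulAction.mem_stabilizer_iff, MulAction.mem_stabilizer_iff, hsm]
  refine rankone_sylow q hq hq0 inf (U.map e.toMonoidHom) hΩ ?_ (hU2.map _) ?_ ?_ ?_ ?_
  · rw [Subgroup.card_map_of_injective e.injective, hU]
  · rintro _ ⟨u, hu, rfl⟩
    rw [hsm]
    simp only [MulEquiv.coe_toMonoidHom, MulEquiv.symm_apply_apply]
    exact hfix u hu
  · intro x y hx hy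
    obtain ⟨u, hu, huniq⟩ := hreg x y hx hy
    refine ⟨⟨e u, Subgroup.mem_map_of_mem _ u.2⟩, ?_, ?_⟩
    · show e (u : Γ) • x = y
      rw [hsm, e.symm_apply_apply]; exact hu
    · rintro ⟨_, u', hu', rfl⟩ h
      have h' : e.symm (e u') • x = y := h
      rw [e.symm_apply_apply] at h'
      have := huniq ⟨u', hu'⟩ h'
      apply Subtype.ext
      show e u' = e u
      rw [← this]
  · rw [hstab, ← hN, Subgroup.map_equiv_normalizer_eq]
  · rw [hstab, Subgroup.card_map_of_injective e.injective, hB]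

end Cfsg.Agent.Lib.Helper3.Sz
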