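import Mathlib
import Cfsg.Agent.Lib.Helper3.Sz21
import Cfsg.Agent.Lib.Helper3.Sz22

set_option autoImplicit false
set_option linter.unusedSectionVars false

/-!
Suzuki groups, part 23: the order and the doubly transitive action of the matrix group `Lie.Sz`.
-/

namespace Cfsg.Agent.Lib.Helper3.Sz

open Matrix
open scoped Pointwise

variable {F : Type*} [Field F] [CharP F 2] (T : Tits F)

local notation "SL4" => Matrix.SpecialLinearGroup (Fin 4) F
local notation "GL4" => GL (Fin 4) F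
local notation "PP" => Projectivization F (Fin 4 → F)

/-- `U` is regular on the affine points -/
theorem Usub_regular (x y : ovoid T) (hx : x ≠ oInf T) (hy : y ≠ oInf T) :
    ∃! u : Usub T, (u : Gam T) • x = y := by
  obtain ⟨x1, x2, rfl⟩ := (ne_oInf_iff T).mp hx
  obtain ⟨y1, y2, rfl⟩ := (ne_oInf_iff T).mp hy
  obtain ⟨a, b, hab⟩ := exists_uG_smul T x1 x2 y1 y2
  refine ⟨uU T a b, hab, ?_⟩
  intro u hu
  obtain ⟨c, d, rfl⟩ := uU_surj T u
  have h1 : (uU T a b)⁻¹ * uU T c d = 1 := by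
    rw [uU_inv, uU_mul, uU_eq_one_iff]
    have h2 : uG T (a + c) (b + a * T.θ a + d + T.θ a * c) • oPt T x1 x2 = oPt T x1 x2 := by
      have : uG T (a + c) (b + a * T.θ a + d + T.θ a * c) = (uG T a b)⁻¹ * uG T c d := by
        rw [uG_inv, uG_mul]
      rw [this, mul_smul]
      have hu' : uG T c d • oPt T x1 x2 = oPt T y1 y2 := hu
      rw [hu', ← hab, inv_smul_smul]
    exact uG_fix T h2 (oPt_ne_oInf T x1 x2)
  rw [inv_mul_eq_one] at h1
  exact h1.symm

theorem rankone_GamGL [Fintype F] (hT : T.IsPow) (K : Subgroup GL4) (hK : K = GamGL T) :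
    Nat.card K = Nat.card F ^ 2 * (Nat.card F - 1) * (Nat.card F ^ 2 + 1) ∧
    ∃ S : Sylow 2 K,
      Nat.card (Subgroup.normalizer ((S : Subgroup K) : Set K)) = Nat.card F ^ 2 * (Nat.card F - 1) ∧
      (Subgroup.normalizer ((S : Subgroup K) : Set K)).index = Nat.card F ^ 2 + 1 ∧
      MulAction.IsMultiplyPretransitive K (K ⧸ Subgroup.normalizer ((S : Subgroup K) : Set K)) 2 ∧
      ∀ x y : K ⧸ Subgroup.normalizer ((S : Subgroup K) : Set K),
        x ≠ (QuotientGroup.mk 1) → y ≠ (QuotientGroup.mk 1) →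
          ∃! s : ↥(S : Subgroup K), (s : K) • x = y := by
  subst hK
  have hpos : 0 < Nat.card F := Nat.card_pos
  refine rankone_sylow_equiv (gamEquiv T) (Nat.card F) even_card hpos (oInf T) (Usub T)
    (card_ovoid T) (card_Usub T) (isPGroup_Usub T) ?_ (Usub_regular T) (normalizer_Usub T hT)
    (card_Borel T hT)
  rintro _ ⟨a, b, rfl⟩
  exact uG_smul_oInf T a b

end Cfsg.Agent.Lib.Helper3.Sz
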