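import Mathlib
import Cfsg.Agent.Lib.Lead.CoprimeAction
import Cfsg.Agent.Lib.Helper1.PPGA

set_option autoImplicit false
set_option linter.unusedVariables false
set_option linter.unusedSectionVars false

/-! Shared definitions for Gross's theorem (S3795: fixed-point-free automorphism of order `2 ^ n` on
a solvable group): the internal setting `PPS2` (the `p = 2` analogue of `Helper4.PP.PPS`), its
elementary consequences (copies of package G-A of S3793), and the interface statements of the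
three-layer module theorem `MT3Statement` and of the key theorem `KT2Statement`. -/

namespace Cfsg.Agent.Lib.Helper3.GR2

open Cfsg.Agent.Lib.Helper1.PPGA

universe u

section setting

variable {Γ : Type u} [Group Γ]

/-- the internal setting: `G ⊴ Γ` solvable, `x` a `2`-element of `Γ` with no non-identity fixed
point on `G`. -/
structure PPS2 (G : Subgroup Γ) (x : Γ) : Prop where
  hGn : G.Normal
  hsolv : Group.IsSolvable G
  hxp : ∃ N : ℕ, x ^ (2 ^ N) = 1
  hfpf : ∀ g ∈ G, x * g = g * x → g = 1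

end setting

/-- the three-layer module theorem: `A` acts on the elementary abelian `ℓ`-group `M`, `x` is a
`2`-element without fixed points on `M`, on the `q`-subgroup `P` and on the `s`-subgroup `S`
(`q ≠ ℓ`, `q ≠ s`, all odd; `s = ℓ` is allowed), `x` and `S` normalise `P`, `x` normalises `S`,
and `x ^ (2 ^ (n + 1))` is trivial on `M`.  Then `[S, τ]` (`τ = x ^ (2 ^ n)`) commutes with `P` on
`M`. -/
def MT3Statement : Prop :=
  ∀ {A : Type u} [Group A] [Finite A] {M : Type u} [AddCommGroup M] [Finite M]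
    [DistribMulAction A M] (ℓ q s n : ℕ), ℓ.Prime → q.Prime → s.Prime → ℓ ≠ 2 → q ≠ 2 → s ≠ 2 →
    q ≠ ℓ → q ≠ s → (∀ m : M, ℓ • m = 0) →
    ∀ x : A, (∃ N : ℕ, x ^ (2 ^ N) = 1) → (∀ m : M, x ^ (2 ^ (n + 1)) • m = m) →
    (∀ m : M, x • m = m → m = 0) →
    ∀ P S : Subgroup A, IsPGroup q P → IsPGroup s S →
    (∀ u ∈ P, x * u * x⁻¹ ∈ P) → (∀ a ∈ S, x * a * x⁻¹ ∈ S) →
    (∀ a ∈ S, ∀ u ∈ P, a * u * a⁻¹ ∈ P) →
    (∀ u ∈ P, x * u = u * x → u = 1) → (∀ a ∈ S, x * a = a * x → a = 1) →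
    ∀ a ∈ S, ∀ u ∈ P, ∀ m : M,
      (a⁻¹ * x ^ (2 ^ n) * a * (x ^ (2 ^ n))⁻¹) • u • m =
        u • (a⁻¹ * x ^ (2 ^ n) * a * (x ^ (2 ^ n))⁻¹) • m

/-- the key theorem for `p = 2`: `τ = x ^ (2 ^ n)` centralises `G` modulo a normal subgroup `D₂`
of Fitting height at most two. -/
def KT2Statement : Prop :=
  ∀ {Γ : Type u} [Group Γ] [Finite Γ] (G : Subgroup Γ) (x : Γ) (n : ℕ), PPS2 G x →
    (∀ g ∈ G, x ^ (2 ^ (n + 1)) * g = g * x ^ (2 ^ (n + 1))) →
    ∃ D₁ D₂ : Subgroup Γ, D₁ ≤ D₂ ∧ D₂ ≤ G ∧ D₁.Normal ∧ D₂.Normal ∧ Group.IsNilpotent D₁ ∧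
      (∃ k : ℕ, D₂.lowerCentralSeries k ≤ D₁) ∧
      ∀ g ∈ G, g⁻¹ * x ^ (2 ^ n) * g * (x ^ (2 ^ n))⁻¹ ∈ D₂

section GA

variable {Γ : Type u} [Group Γ] [Finite Γ] {G : Subgroup Γ} {x : Γ}

theorem PPS2.isPGroup_zpowers (h : PPS2 G x) : IsPGroup 2 (Subgroup.zpowers x) := by
  obtain ⟨N, hN⟩ := h.hxp
  rintro ⟨g, hg⟩
  obtain ⟨m, rfl⟩ := Subgroup.mem_zpowers_iff.mp hg
  refine ⟨N, ?_⟩
  apply Subtype.ext
  rw [Subgroup.coe_pow, Subgroup.coe_one]
  show (x ^ m) ^ 2 ^ N = 1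
  rw [← zpow_natCast, ← zpow_mul, mul_comm, zpow_mul, zpow_natCast, hN, one_zpow]

theorem PPS2.not_dvd (h : PPS2 G x) : ¬ 2 ∣ Nat.card G := by
  have hGn := h.hGn
  have hP := PPS2.isPGroup_zpowers h
  haveI : Fact (Nat.Prime 2) := ⟨Nat.prime_two⟩
  letI : MulAction (Subgroup.zpowers x) G :=
    MulAction.compHom G ((MulAut.conjNormal (H := G)).comp (Subgroup.zpowers x).subtype)
  have hsmul : ∀ (a : Subgroup.zpowers x) (g : G), ((a • g : G) : Γ) = (a : Γ) * g * (a : Γ)⁻¹ := by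
    intro a g
    rfl
  have hmod := hP.card_modEq_card_fixedPoints (α := G)
  have hfix : MulAction.fixedPoints (Subgroup.zpowers x) G = {1} := by
    ext g
    simp only [MulAction.mem_fixedPoints, Set.mem_singleton_iff]
    constructor
    · intro hg
      have h1 := hg ⟨x, Subgroup.mem_zpowers x⟩
      have h2 : x * (g : Γ) * x⁻¹ = g := by
        have := congrArg (fun t : G => (t : Γ)) h1
        simpa [hsmul] using this
      have h3 : x * (g : Γ) = g * x := by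
        calc x * (g : Γ) = (x * (g : Γ) * x⁻¹) * x := by group
          _ = g * x := by rw [h2]
      exact Subtype.ext (h.hfpf g g.2 h3)
    · rintro rfl a
      apply Subtype.ext
      rw [hsmul]
      simp
  rw [hfix] at hmod
  have h1 : Nat.card ({1} : Set G) = 1 := by simp
  rw [h1] at hmod
  intro hdvd
  have h2 : Nat.card G ≡ 0 [MOD 2] := (Nat.modEq_zero_iff_dvd).mpr hdvd
  have h3 : 1 ≡ 0 [MOD 2] := hmod.symm.trans h2
  have h4 : 2 ∣ 1 := (Nat.modEq_zero_iff_dvd).mp h3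
  exact absurd (Nat.dvd_one.mp h4) (by norm_num)

theorem PPS2.odd_card (h : PPS2 G x) : Odd (Nat.card G) := by
  rw [← Nat.not_even_iff_odd, even_iff_two_dvd]
  exact PPS2.not_dvd h

theorem PPS2.coprime_pow (h : PPS2 G x) (k : ℕ) :
    (Nat.card (Subgroup.zpowers (x ^ k))).Coprime (Nat.card G) := by
  have hle : Subgroup.zpowers (x ^ k) ≤ Subgroup.zpowers x :=
    Subgroup.zpowers_le.mpr (Subgroup.pow_mem _ (Subgroup.mem_zpowers x) k)
  have hP : IsPGroup 2 (Subgroup.zpowers (x ^ k)) :=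
    (PPS2.isPGroup_zpowers h).to_le hle
  haveI : Fact (Nat.Prime 2) := ⟨Nat.prime_two⟩
  obtain ⟨m, hm⟩ := IsPGroup.iff_card.mp hP
  rw [hm]
  apply Nat.Coprime.pow_left
  exact (Nat.Prime.coprime_iff_not_dvd Nat.prime_two).mpr (PPS2.not_dvd h)

/-- no fixed points on `x`-invariant sections of `G`. -/
theorem PPS2.mem_of_comm_mem (h : PPS2 G x) (K N : Subgroup Γ) (hKG : K ≤ G) (hNK : N ≤ K)
    (hKN : K ≤ Subgroup.normalizer (N : Set Γ)) (hxK : ∀ k ∈ K, x * k * x⁻¹ ∈ K)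
    (hxN : ∀ k ∈ N, x * k * x⁻¹ ∈ N)
    (k : Γ) (hk : k ∈ K) (hfix : x * k * x⁻¹ * k⁻¹ ∈ N) : k ∈ N := by
  have hxnK : x ∈ Subgroup.normalizer (K : Set Γ) := mem_normalizer_of_conj_mem K x hxK
  have hxnN : x ∈ Subgroup.normalizer (N : Set Γ) := mem_normalizer_of_conj_mem N x hxN
  have hcop : (Nat.card (Subgroup.zpowers x)).Coprime (Nat.card K) := by
    have h1 := PPS2.coprime_pow h 1
    rw [pow_one] at h1
    exact Nat.Coprime.coprime_dvd_right (Subgroup.card_dvd_of_le hKG) h1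
  have hsolv : Group.IsSolvable (Subgroup.zpowers x) ∨ Group.IsSolvable K := by
    left
    haveI : IsCyclic (Subgroup.zpowers x) := inferInstance
    letI : CommGroup (Subgroup.zpowers x) := IsCyclic.commGroup
    infer_instance
  obtain ⟨c, hc, hcN⟩ := Cfsg.Agent.Lib.Lead.coprime_fixed_coset (Subgroup.zpowers x) K
    (Subgroup.zpowers_le.mpr hxnK) hcop hsolv N hNK hKN (Subgroup.zpowers_le.mpr hxnN) k hk
    (zpowers_comm_mem N x k hxnN hfix)
  have hcK : c ∈ K := hc.1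
  have hcx : x * c = c * x := by
    have := Subgroup.mem_centralizer_iff.mp hc.2 x (Subgroup.mem_zpowers x)
    exact this
  have hc1 : c = 1 := h.hfpf c (hKG hcK) hcx
  rw [hc1, mul_one] at hcN
  exact (Subgroup.inv_mem_iff N).mp hcN

theorem PPS2.quot (h : PPS2 G x) (N : Subgroup Γ) [N.Normal] (hNG : N ≤ G) :
    PPS2 (G.map (QuotientGroup.mk' N)) (QuotientGroup.mk' N x) := by
  have hGn := h.hGn
  refine ⟨?_, ?_, ?_, ?_⟩
  · exact Subgroup.Normal.map hGn _ (QuotientGroup.mk'_surjective N)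
  · haveI := h.hsolv
    have hsurj : Function.Surjective ((QuotientGroup.mk' N).subgroupMap G) :=
      MonoidHom.subgroupMap_surjective _ _
    exact Group.isSolvable_of_surjective hsurj
  · obtain ⟨M, hM⟩ := h.hxp
    exact ⟨M, by rw [← map_pow, hM, map_one]⟩
  · rintro _ ⟨g, hg, rfl⟩ hcomm
    have h1 : (QuotientGroup.mk' N) (x * g) = (QuotientGroup.mk' N) (g * x) := by
      rw [map_mul, map_mul]; exact hcomm
    have h2 : (g * x)⁻¹ * (x * g) ∈ N := by
      have := (QuotientGroup.eq (s := N)).mp h1.symm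
      exact this
    have h3 : x * g * x⁻¹ * g⁻¹ ∈ N := by
      have hN : N.Normal := inferInstance
      have := hN.conj_mem _ h2 (g * x)
      have h4 : g * x * ((g * x)⁻¹ * (x * g)) * (g * x)⁻¹ = x * g * x⁻¹ * g⁻¹ := by group
      rw [h4] at this
      exact this
    have hN : N.Normal := inferInstance
    have hgN : g ∈ N := PPS2.mem_of_comm_mem h G N le_rfl hNG
      (by rw [Subgroup.normalizer_eq_top]; exact le_top)
      (fun k hk => hGn.conj_mem k hk x) (fun k hk => hN.conj_mem k hk x) g hg h3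
    exact (QuotientGroup.eq_one_iff g).mpr hgN

theorem PPS2.sub (h : PPS2 G x) (H : Subgroup Γ) [hHn : H.Normal] (hHG : H ≤ G) : PPS2 H x := by
  refine ⟨hHn, ?_, h.hxp, fun g hg => h.hfpf g (hHG hg)⟩
  haveI := h.hsolv
  exact Cfsg.Agent.Lib.Lead.isSolvable_of_le hHG

/-- `G = C_G(x^k)·H` when `x^k` centralises `G/H`. -/
theorem PPS2.exists_mul_comm (h : PPS2 G x) (k : ℕ) (H : Subgroup Γ) [hHn : H.Normal] (hHG : H ≤ G)
    (hτ : ∀ g ∈ G, g⁻¹ * x ^ k * g * (x ^ k)⁻¹ ∈ H) :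
    ∀ g ∈ G, ∃ c ∈ G, ∃ h' ∈ H, x ^ k * c = c * x ^ k ∧ g = c * h' := by
  have hGn := h.hGn
  intro g hg
  have hnG : Subgroup.zpowers (x ^ k) ≤ Subgroup.normalizer (G : Set Γ) := by
    rw [Subgroup.normalizer_eq_top]; exact le_top
  have hnH : Subgroup.zpowers (x ^ k) ≤ Subgroup.normalizer (H : Set Γ) := by
    rw [Subgroup.normalizer_eq_top]; exact le_top
  have hsolv : Group.IsSolvable (Subgroup.zpowers (x ^ k)) ∨ Group.IsSolvable G := Or.inr h.hsolv
  have h1 : x ^ k * g * (x ^ k)⁻¹ * g⁻¹ ∈ H := by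
    have := H.inv_mem (hτ g⁻¹ (G.inv_mem hg))
    have h2 : (g⁻¹⁻¹ * x ^ k * g⁻¹ * (x ^ k)⁻¹)⁻¹ = x ^ k * g * (x ^ k)⁻¹ * g⁻¹ := by group
    rw [h2] at this
    exact this
  obtain ⟨c, hc, hcN⟩ := Cfsg.Agent.Lib.Lead.coprime_fixed_coset (Subgroup.zpowers (x ^ k)) G
    hnG (PPS2.coprime_pow h k) hsolv H hHG (by rw [Subgroup.normalizer_eq_top]; exact le_top) hnH
    g hg (zpowers_comm_mem H (x ^ k) g (hnH (Subgroup.mem_zpowers _)) h1)
  refine ⟨c, hc.1, c⁻¹ * g, ?_, ?_, by group⟩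
  · have := H.inv_mem hcN
    have h2 : (g⁻¹ * c)⁻¹ = c⁻¹ * g := by group
    rw [h2] at this
    exact this
  · exact Subgroup.mem_centralizer_iff.mp hc.2 (x ^ k) (Subgroup.mem_zpowers _)

end GA

end Cfsg.Agent.Lib.Helper3.GR2
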