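import Mathlib
import Cfsg.Agent.Lib.Helper2.GR2M3Defs

set_option autoImplicit false
set_option linter.unusedVariables false
set_option linter.unusedSectionVars false
set_option linter.style.haveILetI false

/-! S3795 (Gross, `p = 2`), package M3-S2: the lower pair of the three-layer argument
(`m3_low`). -/

namespace Cfsg.Agent.Lib.Helper3.GR2M3S2

open Cfsg.Agent.Lib.Helper2.GR2M

open scoped commutatorElement

universe u

section aux

variable {A : Type u} [Group A]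

/-- conjugation-invariance under `x` extends to powers of `x`. -/
theorem conj_pow_mem (K : Subgroup A) (x : A) (hK : ∀ u ∈ K, x * u * x⁻¹ ∈ K) (k : ℕ) :
    ∀ u ∈ K, x ^ k * u * (x ^ k)⁻¹ ∈ K := by
  induction k with
  | zero => intro u hu; simpa using hu
  | succ k ih =>
    intro u hu
    have h2 := hK _ (ih u hu)
    have e : x ^ (k + 1) * u * (x ^ (k + 1))⁻¹ = x * (x ^ k * u * (x ^ k)⁻¹) * x⁻¹ := by
      rw [pow_succ']; group
    rw [e]; exact h2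

/-- ... and to inverse powers when `x` has finite order. -/
theorem conj_pow_inv_mem (K : Subgroup A) (x : A) (hK : ∀ u ∈ K, x * u * x⁻¹ ∈ K) (N : ℕ)
    (hN : 0 < N) (hx : x ^ N = 1) (k : ℕ) : ∀ u ∈ K, (x ^ k)⁻¹ * u * x ^ k ∈ K := by
  intro u hu
  have h1 : (x ^ k)⁻¹ = x ^ (k * (N - 1)) := by
    rw [inv_eq_iff_mul_eq_one, ← pow_add]
    have : k + k * (N - 1) = N * k := by
      obtain ⟨N', rfl⟩ : ∃ N', N = N' + 1 := ⟨N - 1, by omega⟩
      simp; ring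
    rw [this, pow_mul, hx, one_pow]
  have h2 := conj_pow_mem K x hK (k * (N - 1)) u hu
  rw [← h1, inv_inv] at h2
  exact h2

/-- an element of a `q`-group (`q` odd) of order at most two is trivial. -/
theorem eq_one_of_sq {q : ℕ} (hq : q.Prime) (hq2 : q ≠ 2) (P : Subgroup A) (hP : IsPGroup q P)
    (c : A) (hc : c ∈ P) (h2 : c * c = 1) : c = 1 := by
  obtain ⟨j, hj⟩ := hP ⟨c, hc⟩
  have hj' : c ^ (q ^ j) = 1 := by
    have := congrArg Subtype.val hj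
    simpa using this
  have h3 : orderOf c ∣ 2 := orderOf_dvd_of_pow_eq_one (by rw [pow_two]; exact h2)
  have h4 : orderOf c ∣ q ^ j := orderOf_dvd_of_pow_eq_one hj'
  have hcop : Nat.Coprime 2 (q ^ j) := by
    apply Nat.Coprime.pow_right
    exact (Nat.coprime_primes Nat.prime_two hq).mpr (Ne.symm hq2)
  have h5 : orderOf c = 1 := Nat.eq_one_of_dvd_coprimes hcop h3 h4
  exact orderOf_eq_one_iff.mp h5

/-- an element of a `q`-group with trivial `ℓ`-th power (`ℓ ≠ q` prime) is trivial. -/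
theorem eq_one_of_pow_prime {q ℓ : ℕ} (hq : q.Prime) (hℓ : ℓ.Prime) (hqℓ : q ≠ ℓ) (P : Subgroup A)
    (hP : IsPGroup q P) (c : A) (hc : c ∈ P) (h2 : c ^ ℓ = 1) : c = 1 := by
  obtain ⟨j, hj⟩ := hP ⟨c, hc⟩
  have hj' : c ^ (q ^ j) = 1 := by
    have := congrArg Subtype.val hj
    simpa using this
  have h3 : orderOf c ∣ ℓ := orderOf_dvd_of_pow_eq_one h2
  have h4 : orderOf c ∣ q ^ j := orderOf_dvd_of_pow_eq_one hj'
  have hcop : Nat.Coprime ℓ (q ^ j) := by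
    apply Nat.Coprime.pow_right
    exact (Nat.coprime_primes hℓ hq).mpr (Ne.symm hqℓ)
  have h5 : orderOf c = 1 := Nat.eq_one_of_dvd_coprimes hcop h3 h4
  exact orderOf_eq_one_iff.mp h5

variable {M : Type*} [AddCommGroup M] [DistribMulAction A M]

/-- a unipotent operator of square zero has trivial `ℓ`-th power on a module of exponent `ℓ`. -/
theorem pow_smul_of_sq_zero (z : A) (hz : ∀ m : M, z • (z • m - m) = z • m - m) (k : ℕ) (m : M) :
    z ^ k • m = m + k • (z • m - m) := by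
  induction k with
  | zero => simp
  | succ k ih =>
    rw [pow_succ', mul_smul, ih, smul_add, smul_comm z k, hz, succ_nsmul]
    abel

/-- multiplying the left entry of a commutator by an element commuting with both entries. -/
theorem comm_left {G : Type*} [Group G] (z a b : G) (hza : Commute z a) (hzb : Commute z b) :
    ⁅z * a, b⁆ = ⁅a, b⁆ := by
  have h1 : Commute z (a * b * a⁻¹ * b⁻¹) :=
    ((hza.mul_right hzb).mul_right hza.inv_right).mul_right hzb.inv_right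
  rw [commutatorElement_def, commutatorElement_def]
  calc z * a * b * (z * a)⁻¹ * b⁻¹ = z * (a * b * a⁻¹) * (z⁻¹ * b⁻¹) := by group
    _ = z * (a * b * a⁻¹) * (b⁻¹ * z⁻¹) := by rw [(hzb.inv_inv).eq]
    _ = z * (a * b * a⁻¹ * b⁻¹) * z⁻¹ := by group
    _ = a * b * a⁻¹ * b⁻¹ := by rw [h1.eq]; group

theorem comm_right {G : Type*} [Group G] (z a b : G) (hza : Commute z a) (hzb : Commute z b) :
    ⁅a, z * b⁆ = ⁅a, b⁆ := by
  rw [← commutatorElement_inv, comm_left z b a hzb hza, commutatorElement_inv]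

end aux

section main

variable {A : Type u} [Group A] [Finite A] {M : Type u} [AddCommGroup M] [Finite M]
  [DistribMulAction A M] (ℓ q s n : ℕ) (x : A) (P S : Subgroup A) (Z : Subgroup A)

theorem m3_low (hAB : ABStatement.{u}) (hLOW : LOWStatement.{u})
    (h : M3Min M ℓ q s n x P S Z) (hn : 1 ≤ n) :
    ∀ u ∈ P, x ^ (2 ^ n) * u * (x ^ (2 ^ n))⁻¹ * u⁻¹ ∈ Z →
      x ^ (2 ^ (n - 1)) * u * (x ^ (2 ^ (n - 1)))⁻¹ * u⁻¹ ∈ Z := by
  classical
  intro u hu huZ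
  have hxN : x ^ (2 ^ (n + 1)) = 1 := h.hxn
  have hNpos : 0 < 2 ^ (n + 1) := pow_pos (by norm_num) _
  set τ := x ^ (2 ^ n) with hτ
  set ι := x ^ (2 ^ (n - 1)) with hι
  have hττ : τ * τ = 1 := by
    rw [hτ, ← pow_add, ← two_mul, ← pow_succ', hxN]
  have hτinv : τ⁻¹ = τ := inv_eq_of_mul_eq_one_right hττ
  have hxτ : x * τ = τ * x := ((Commute.refl x).pow_right _).eq
  -- faithfulness
  have hfa : ∀ a b : A, (∀ m : M, a • b • m = b • a • m) → a * b = b * a := by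
    intro a b hab
    have h1 : (b * a)⁻¹ * (a * b) = 1 := by
      apply h.hfaith
      intro m
      rw [mul_smul, mul_smul, hab, ← mul_smul b a, inv_smul_smul]
    exact (inv_mul_eq_one.mp h1).symm
  -- Step 1: a minimal `x`-invariant subgroup `P₀` of `P` not centralised by `τ`
  obtain ⟨P₀, hP₀min⟩ := exists_minimal_of_wellFoundedLT
    (fun Q : Subgroup A => Q ≤ P ∧ (∀ w ∈ Q, x * w * x⁻¹ ∈ Q) ∧ ∃ w ∈ Q, τ * w ≠ w * τ)
    ⟨P, le_rfl, h.hxP, h.hτP⟩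
  obtain ⟨⟨hP₀P, hxP₀, w₀, hw₀, hw₀τ⟩, hmin'⟩ := hP₀min
  have hmin : ∀ Q₁ : Subgroup A, Q₁ ≤ P₀ → Q₁ ≠ P₀ → (∀ w ∈ Q₁, x * w * x⁻¹ ∈ Q₁) →
      ∀ w ∈ Q₁, τ * w = w * τ := by
    intro Q₁ hQ₁ hne hxQ₁ w hw
    by_contra hcon
    have := hmin' (y := Q₁) ⟨hQ₁.trans hP₀P, hxQ₁, w, hw, hcon⟩ hQ₁
    exact hne (le_antisymm hQ₁ this)
  have hP₀q : IsPGroup q P₀ := h.hP.to_le hP₀P
  have hτP₀ : ∀ w ∈ P₀, τ * w * τ⁻¹ ∈ P₀ := conj_pow_mem P₀ x hxP₀ _
  -- Step 2: `P₀` is not commutative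
  have hnab : ∃ v ∈ P₀, ∃ w ∈ P₀, v * w ≠ w * v := by
    by_contra hcon
    push Not at hcon
    haveI : Fact q.Prime := ⟨h.hq⟩
    have hcop : (Nat.card P₀).Coprime ℓ := by
      obtain ⟨k, hk⟩ := hP₀q.exists_card_eq
      rw [hk]
      apply Nat.Coprime.pow_left
      exact (Nat.coprime_primes h.hq h.hℓ).mpr h.hqℓ
    have h1 := hAB (A := A) (M := M) ℓ n h.hℓ h.hℓ2 h.htor x ⟨n + 1, hxN⟩
      (fun m => by rw [hxN, one_smul]) h.hfM P₀ hcon hcop hxP₀ w₀ hw₀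
    exact hw₀τ (hfa _ _ h1)
  -- Step 3: `P₀ = [P₀, τ]`
  set K : Subgroup A := Subgroup.closure {c | ∃ w ∈ P₀, c = w⁻¹ * (τ * w * τ⁻¹)} with hK
  have hKP₀ : K ≤ P₀ := by
    rw [hK, Subgroup.closure_le]
    rintro c ⟨w, hw, rfl⟩
    exact P₀.mul_mem (P₀.inv_mem hw) (hτP₀ w hw)
  have hxK : ∀ c ∈ K, x * c * x⁻¹ ∈ K := by
    intro c hc
    induction hc using Subgroup.closure_induction with
    | mem c hc =>
      obtain ⟨w, hw, rfl⟩ := hc
      apply Subgroup.subset_closure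
      refine ⟨x * w * x⁻¹, hxP₀ w hw, ?_⟩
      have e1 : x * (w⁻¹ * (τ * w * τ⁻¹)) * x⁻¹ =
          (x * w * x⁻¹)⁻¹ * ((x * τ) * w * (x * τ)⁻¹) := by group
      have e2 : τ * (x * w * x⁻¹) * τ⁻¹ = (τ * x) * w * (τ * x)⁻¹ := by group
      rw [e1, e2, hxτ]
    | one => simp
    | mul a b _ _ ha hb =>
      have e : x * (a * b) * x⁻¹ = (x * a * x⁻¹) * (x * b * x⁻¹) := by group
      rw [e]; exact K.mul_mem ha hb
    | inv a _ ha =>
      have e : x * a⁻¹ * x⁻¹ = (x * a * x⁻¹)⁻¹ := by group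
      rw [e]; exact K.inv_mem ha
  have hKeq : K = P₀ := by
    by_contra hne
    have hcen := hmin K hKP₀ hne hxK
    apply hw₀τ
    -- every commutator is trivial
    have hc : ∀ w ∈ P₀, τ * w = w * τ := by
      intro w hw
      set c := w⁻¹ * (τ * w * τ⁻¹) with hc
      have hcK : c ∈ K := Subgroup.subset_closure ⟨w, hw, rfl⟩
      have hcτ := hcen c hcK
      have h1 : τ * w * τ⁻¹ = w * c := by rw [hc]; group
      have h2 : τ * (τ * w * τ⁻¹) * τ⁻¹ = w := by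
        have : τ * (τ * w * τ⁻¹) * τ⁻¹ = (τ * τ) * w * (τ * τ)⁻¹ := by group
        rw [this, hττ]; group
      have h3 : τ * (w * c) * τ⁻¹ = w * c * c := by
        have : τ * (w * c) * τ⁻¹ = (τ * w * τ⁻¹) * (τ * c) * τ⁻¹ := by group
        rw [this, hcτ, h1]; group
      rw [h1, h3] at h2
      have h4 : c * c = 1 := by
        have : w * c * c = w * (c * c) := by group
        rw [this] at h2
        exact mul_left_cancel (a := w) (by rw [h2, mul_one])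
      have h5 : c = 1 := eq_one_of_sq h.hq h.hq2 P h.hP c (hP₀P (hKP₀ hcK)) h4
      rw [h5, mul_one] at h1
      calc τ * w = (τ * w * τ⁻¹) * τ := by group
        _ = w * τ := by rw [h1]
    exact hc w₀ hw₀
  -- Step 4: `u` commutes with `P₀`
  have hτu : τ * u * τ⁻¹ = (τ * u * τ⁻¹ * u⁻¹) * u := by group
  have hucen : ∀ w ∈ P₀, u * w = w * u := by
    have hle : K ≤ Subgroup.centralizer ({u} : Set A) := by
      rw [hK, Subgroup.closure_le]
      rintro c ⟨w, hw, rfl⟩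
      rw [SetLike.mem_coe, Subgroup.mem_centralizer_iff]
      intro y hy
      rw [Set.mem_singleton_iff] at hy
      rw [hy]
      -- `z = ⁅u, w⁆`
      set z := u * w * u⁻¹ * w⁻¹ with hz
      have hzZ : z ∈ Z := by
        have := h.hder u hu w (hP₀P hw)
        rwa [commutatorElement_def] at this
      set z₀ := τ * u * τ⁻¹ * u⁻¹ with hz₀
      have h1 : u * w * u⁻¹ = z * w := by rw [hz]; group
      have hzτ : τ * z * τ⁻¹ = z := by
        have h0 : τ * z = z * τ := h.hZτ z hzZ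
        rw [h0]; group
      have hwP : w ∈ P := hP₀P hw
      -- `u (τ w τ⁻¹) u⁻¹ = z (τ w τ⁻¹)`
      have h2 : u * (τ * w * τ⁻¹) * u⁻¹ = z * (τ * w * τ⁻¹) := by
        have e1 : u * (τ * w * τ⁻¹) * u⁻¹ =
            τ * ((τ⁻¹ * u * τ) * w * (τ⁻¹ * u * τ)⁻¹) * τ⁻¹ := by group
        have e2 : τ⁻¹ * u * τ = z₀ * u := by
          rw [hτinv, hz₀, hτinv]; group
        have e3 : (z₀ * u) * w * (z₀ * u)⁻¹ = u * w * u⁻¹ := by
          have hc1 := h.hZc z₀ huZ (u * w * u⁻¹) (P.mul_mem (P.mul_mem hu hwP) (P.inv_mem hu))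
          have : (z₀ * u) * w * (z₀ * u)⁻¹ = z₀ * (u * w * u⁻¹) * z₀⁻¹ := by group
          rw [this, ← hc1]; group
        rw [e1, e2, e3, h1]
        have : τ * (z * w) * τ⁻¹ = (τ * z * τ⁻¹) * (τ * w * τ⁻¹) := by group
        rw [this, hzτ]
      -- conclusion
      have h3 : u * (w⁻¹ * (τ * w * τ⁻¹)) * u⁻¹ = w⁻¹ * (τ * w * τ⁻¹) := by
        have : u * (w⁻¹ * (τ * w * τ⁻¹)) * u⁻¹ =
            (u * w * u⁻¹)⁻¹ * (u * (τ * w * τ⁻¹) * u⁻¹) := by group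
        rw [this, h1, h2]; group
      calc u * (w⁻¹ * (τ * w * τ⁻¹)) = (u * (w⁻¹ * (τ * w * τ⁻¹)) * u⁻¹) * u := by group
        _ = w⁻¹ * (τ * w * τ⁻¹) * u := by rw [h3]
    intro w hw
    rw [← hKeq] at hw
    have := Subgroup.mem_centralizer_iff.mp (hle hw) u rfl
    exact this
  -- Step 5: the lower two-layer theorem
  have hexw : ∃ w ∈ P₀, ∃ m : M, τ • w • m ≠ w • τ • m := by
    refine ⟨w₀, hw₀, ?_⟩
    by_contra hcon
    push Not at hcon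
    exact hw₀τ (hfa _ _ hcon)
  have hminM : ∀ Q₁ : Subgroup A, Q₁ ≤ P₀ → Q₁ ≠ P₀ → (∀ w ∈ Q₁, x * w * x⁻¹ ∈ Q₁) →
      ∀ w ∈ Q₁, ∀ m : M, τ • w • m = w • τ • m := by
    intro Q₁ h1 h2 h3 w hw m
    rw [← mul_smul, ← mul_smul, hmin Q₁ h1 h2 h3 w hw]
  have hL := hLOW (A := A) (M := M) ℓ q n h.hℓ h.hq h.hℓ2 h.hq2 h.hqℓ h.htor x ⟨n + 1, hxN⟩
    (fun m => by rw [hxN, one_smul]) h.hfM P₀ hP₀q hxP₀ (fun w hw => h.hfP w (hP₀P hw)) hminM hexw u
    (fun w hw m => by rw [← mul_smul, ← mul_smul, hucen w hw])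
  -- Step 6: the subgroup `𝒱` of `M`
  set 𝒱 : AddSubgroup M :=
    AddSubgroup.closure {y | ∃ v ∈ P₀, ∃ w ∈ P₀, ∃ m : M, y = ⁅v, w⁆ • m - m} with h𝒱
  have hLV : ∀ y ∈ 𝒱, ι • u • y = u • ι • y := by
    intro y hy
    induction hy using AddSubgroup.closure_induction with
    | mem y hy =>
      obtain ⟨v, hv, w, hw, m, rfl⟩ := hy
      exact hL v hv w hw m
    | zero => simp only [smul_zero]
    | add a b _ _ ha hb => rw [smul_add, smul_add, ha, hb, smul_add, smul_add]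
    | neg a _ ha => rw [smul_neg, smul_neg, ha, smul_neg, smul_neg]
  have hstab : ∀ g : A,
      (∀ v ∈ P₀, ∀ w ∈ P₀, ∃ v' ∈ P₀, ∃ w' ∈ P₀, g * ⁅v, w⁆ = ⁅v', w'⁆ * g) →
      ∀ y ∈ 𝒱, g • y ∈ 𝒱 := by
    intro g hg y hy
    induction hy using AddSubgroup.closure_induction with
    | mem y hy =>
      obtain ⟨v, hv, w, hw, m, rfl⟩ := hy
      obtain ⟨v', hv', w', hw', e⟩ := hg v hv w hw
      apply AddSubgroup.subset_closure
      refine ⟨v', hv', w', hw', g • m, ?_⟩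
      rw [smul_sub, ← mul_smul, e, mul_smul]
    | zero => rw [smul_zero]; exact 𝒱.zero_mem
    | add a b _ _ ha hb => rw [smul_add]; exact 𝒱.add_mem ha hb
    | neg a _ ha => rw [smul_neg]; exact 𝒱.neg_mem ha
  have hcomZ : ∀ v ∈ P₀, ∀ w ∈ P₀, ⁅v, w⁆ ∈ Z := fun v hv w hw =>
    h.hder v (hP₀P hv) w (hP₀P hw)
  have hstabP : ∀ g ∈ P, ∀ y ∈ 𝒱, g • y ∈ 𝒱 := by
    intro g hg
    apply hstab
    intro v hv w hw
    exact ⟨v, hv, w, hw, h.hZc _ (hcomZ v hv w hw) g hg⟩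
  have hstabS : ∀ g ∈ S, ∀ y ∈ 𝒱, g • y ∈ 𝒱 := by
    intro g hg
    apply hstab
    intro v hv w hw
    exact ⟨v, hv, w, hw, h.hZS _ (hcomZ v hv w hw) g hg⟩
  have hstabx' : ∀ y ∈ 𝒱, x⁻¹ • y ∈ 𝒱 := by
    apply hstab
    intro v hv w hw
    have h1 := conj_pow_inv_mem P₀ x hxP₀ (2 ^ (n + 1)) hNpos hxN 1 v hv
    have h2 := conj_pow_inv_mem P₀ x hxP₀ (2 ^ (n + 1)) hNpos hxN 1 w hw
    rw [pow_one] at h1 h2
    refine ⟨x⁻¹ * v * x, h1, x⁻¹ * w * x, h2, ?_⟩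
    rw [commutatorElement_def, commutatorElement_def]
    group
  let N₂ : Subgroup A :=
    { carrier := {a | ∀ y ∈ 𝒱, a • y = y}
      mul_mem' := fun {a b} ha hb y hy => by rw [mul_smul, hb y hy, ha y hy]
      one_mem' := fun y _ => one_smul _ y
      inv_mem' := fun {a} ha y hy => by rw [inv_smul_eq_iff, ha y hy] }
  have hN₂mem : ∀ a : A, a ∈ N₂ ↔ ∀ y ∈ 𝒱, a • y = y := fun a => Iff.rfl
  have hN₂conj : ∀ g : A, (∀ y ∈ 𝒱, g⁻¹ • y ∈ 𝒱) → ∀ a ∈ N₂, g * a * g⁻¹ ∈ N₂ := by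
    intro g hg a ha
    rw [hN₂mem]
    intro y hy
    rw [mul_smul, mul_smul, (hN₂mem a).mp ha _ (hg y hy), smul_inv_smul]
  let P₁ : Subgroup A :=
    { carrier := {p | p ∈ P ∧ ∃ z ∈ Z, p * z ∈ N₂}
      mul_mem' := by
        rintro a b ⟨ha, z₁, hz₁, h1⟩ ⟨hb, z₂, hz₂, h2⟩
        refine ⟨P.mul_mem ha hb, z₁ * z₂, Z.mul_mem hz₁ hz₂, ?_⟩
        have e : a * b * (z₁ * z₂) = (a * z₁) * (b * z₂) := by
          have := h.hZc z₁ hz₁ b hb
          calc a * b * (z₁ * z₂) = a * (b * z₁) * z₂ := by group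
            _ = a * (z₁ * b) * z₂ := by rw [this]
            _ = (a * z₁) * (b * z₂) := by group
        rw [e]; exact N₂.mul_mem h1 h2
      one_mem' := ⟨P.one_mem, 1, Z.one_mem, by rw [mul_one]; exact N₂.one_mem⟩
      inv_mem' := by
        rintro a ⟨ha, z, hz, h1⟩
        refine ⟨P.inv_mem ha, z⁻¹, Z.inv_mem hz, ?_⟩
        have e : a⁻¹ * z⁻¹ = (a * z)⁻¹ := by
          have := h.hZc z hz a ha
          rw [this]; group
        rw [e]; exact N₂.inv_mem h1 }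
  have hP₁mem : ∀ p : A, p ∈ P₁ ↔ p ∈ P ∧ ∃ z ∈ Z, p * z ∈ N₂ := fun p => Iff.rfl
  have hZP₁ : Z ≤ P₁ := by
    intro z hz
    rw [hP₁mem]
    exact ⟨h.hZP hz, z⁻¹, Z.inv_mem hz, by rw [mul_inv_cancel]; exact N₂.one_mem⟩
  have hP₁P : P₁ ≤ P := fun p hp => ((hP₁mem p).mp hp).1
  have hxP₁ : ∀ p ∈ P₁, x * p * x⁻¹ ∈ P₁ := by
    intro p hp
    obtain ⟨hpP, z, hz, h1⟩ := (hP₁mem p).mp hp
    rw [hP₁mem]
    refine ⟨h.hxP p hpP, x * z * x⁻¹, h.hZx z hz, ?_⟩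
    have e : x * p * x⁻¹ * (x * z * x⁻¹) = x * (p * z) * x⁻¹ := by group
    rw [e]
    exact hN₂conj x hstabx' _ h1
  have hSP₁ : ∀ a ∈ S, ∀ p ∈ P₁, a * p * a⁻¹ ∈ P₁ := by
    intro a ha p hp
    obtain ⟨hpP, z, hz, h1⟩ := (hP₁mem p).mp hp
    rw [hP₁mem]
    refine ⟨h.hSP a ha p hpP, z, hz, ?_⟩
    have hz' : a * z = z * a := h.hZS z hz a ha
    have e : a * p * a⁻¹ * z = a * (p * z) * a⁻¹ := by
      have : a⁻¹ * z = z * a⁻¹ := by
        calc a⁻¹ * z = a⁻¹ * (z * a) * a⁻¹ := by group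
          _ = a⁻¹ * (a * z) * a⁻¹ := by rw [hz']
          _ = z * a⁻¹ := by group
      calc a * p * a⁻¹ * z = a * p * (a⁻¹ * z) := by group
        _ = a * p * (z * a⁻¹) := by rw [this]
        _ = a * (p * z) * a⁻¹ := by group
    rw [e]
    exact hN₂conj a (hstabS a⁻¹ (S.inv_mem ha)) _ h1
  rcases h.hirr P₁ hZP₁ hP₁P hxP₁ hSP₁ with hcase | hcase
  · -- `P₁ = Z`: the commutator `k` lies in `Z`
    set k := u⁻¹ * ι⁻¹ * u * ι with hk
    have hkP : k ∈ P := by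
      have h1 := conj_pow_inv_mem P x h.hxP (2 ^ (n + 1)) hNpos hxN (2 ^ (n - 1)) u hu
      have e : k = u⁻¹ * (ι⁻¹ * u * ι) := by rw [hk]; group
      rw [e]
      exact P.mul_mem (P.inv_mem hu) h1
    have hkN : k ∈ N₂ := by
      rw [hN₂mem]
      intro y hy
      rw [hk, mul_smul, mul_smul, mul_smul, ← hLV y hy, inv_smul_smul, inv_smul_smul]
    have hkP₁ : k ∈ P₁ := by
      rw [hP₁mem]
      exact ⟨hkP, 1, Z.one_mem, by rw [mul_one]; exact hkN⟩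
    have hkZ : k ∈ Z := hcase ▸ hkP₁
    have h1 : ι * k * ι⁻¹ ∈ Z := conj_pow_mem Z x h.hZx _ k hkZ
    set g := ι * u * ι⁻¹ * u⁻¹ with hg
    have h2 : u⁻¹ * g * u ∈ Z := by
      have e : u⁻¹ * g * u = (ι * k * ι⁻¹)⁻¹ := by rw [hg, hk]; group
      rw [e]; exact Z.inv_mem h1
    have h3 := h.hZc _ h2 u hu
    have e : g = u * (u⁻¹ * g * u) * u⁻¹ := by group
    rw [e, h3]
    have e2 : u⁻¹ * g * u * u * u⁻¹ = u⁻¹ * g * u := by group
    rw [e2]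
    exact h2
  · -- `P₁ = P`: then `P₀` would be commutative
    exfalso
    obtain ⟨v, hv, w, hw, hvw⟩ := hnab
    have hvP₁ : v ∈ P₁ := hcase ▸ hP₀P hv
    have hwP₁ : w ∈ P₁ := hcase ▸ hP₀P hw
    obtain ⟨hvP, z₁, hz₁, h1⟩ := (hP₁mem v).mp hvP₁
    obtain ⟨hwP, z₂, hz₂, h2⟩ := (hP₁mem w).mp hwP₁
    have c1v : Commute z₁ v := (h.hZc z₁ hz₁ v hvP).symm
    have c1w : Commute z₁ w := (h.hZc z₁ hz₁ w hwP).symm
    have c2v : Commute z₂ v := (h.hZc z₂ hz₂ v hvP).symm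
    have c2w : Commute z₂ w := (h.hZc z₂ hz₂ w hwP).symm
    have c12 : Commute z₁ z₂ := (h.hZc z₁ hz₁ z₂ (h.hZP hz₂)).symm
    have hz₀N : ⁅v, w⁆ ∈ N₂ := by
      have h3 : ⁅v * z₁, w * z₂⁆ ∈ N₂ := by
        rw [commutatorElement_def]
        exact N₂.mul_mem (N₂.mul_mem (N₂.mul_mem h1 h2) (N₂.inv_mem h1)) (N₂.inv_mem h2)
      have e : ⁅v * z₁, w * z₂⁆ = ⁅v, w⁆ := by
        rw [← c1v.eq, ← c2w.eq, comm_left z₁ v (z₂ * w) c1v (c12.mul_right c1w),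
          comm_right z₂ v w c2v c2w]
      rwa [e] at h3
    have hsq : ∀ m : M, ⁅v, w⁆ • (⁅v, w⁆ • m - m) = ⁅v, w⁆ • m - m := by
      intro m
      apply (hN₂mem _).mp hz₀N
      exact AddSubgroup.subset_closure ⟨v, hv, w, hw, m, rfl⟩
    have hpow : ⁅v, w⁆ ^ ℓ = 1 := by
      apply h.hfaith
      intro m
      rw [pow_smul_of_sq_zero _ hsq ℓ m, h.htor, add_zero]
    have hone : ⁅v, w⁆ = 1 :=
      eq_one_of_pow_prime h.hq h.hℓ h.hqℓ P h.hP _ (h.hZP (hcomZ v hv w hw)) hpow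
    exact hvw (commutatorElement_eq_one_iff_mul_comm.mp hone)

end main

end Cfsg.Agent.Lib.Helper3.GR2M3S2
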