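import Mathlib
import Cfsg.Agent.Lib.Helper3.GR2Defs
import Cfsg.Agent.Lib.Helper1.PPGE
import Cfsg.Agent.Lib.Helper7.CoprimeHall2

set_option autoImplicit false
set_option linter.unusedVariables false
set_option linter.unusedSectionVars false

/-!
# S3795 (Gross, `p = 2`), package G2-D: the key theorem `kt2` by induction on `|G|`

`kt2_of` proves `KT2Statement` from the statement of the two-layer step `kt2_step` (package G2-C),
taken as a hypothesis.  Copy of `Helper8.PPGD.kt_of`.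
-/

namespace Cfsg.Agent.Lib.Helper3.GR2

open Cfsg.Agent.Lib.Helper1.PPGE

universe u

/-- the statement of package G2-C (`kt2_step`) without the module theorem. -/
def KT2StepStatement : Prop :=
  ∀ {Γ : Type u} [Group Γ] [Finite Γ] {G : Subgroup Γ} {x : Γ}, PPS2 G x → ∀ (n : ℕ),
    (∀ g ∈ G, x ^ (2 ^ (n + 1)) * g = g * x ^ (2 ^ (n + 1))) →
    ∀ (H₁ H M : Subgroup Γ) [H₁.Normal] [H.Normal] [M.Normal], H ≤ G → H₁ ≤ H → M ≤ H₁ →
    ∀ r : ℕ, r.Prime → IsPGroup r M →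
    Group.IsNilpotent (H₁.map (QuotientGroup.mk' M)) →
    (∃ k : ℕ, H.lowerCentralSeries k ≤ H₁) →
    ∃ D₁ D₂ : Subgroup Γ, D₁ ≤ D₂ ∧ D₂ ≤ H ∧ D₁.Normal ∧ D₂.Normal ∧ Group.IsNilpotent D₁ ∧
      (∃ k : ℕ, D₂.lowerCentralSeries k ≤ D₁) ∧
      ∀ g ∈ H, g⁻¹ * x ^ (2 ^ n) * g * (x ^ (2 ^ n))⁻¹ ∈ D₂

theorem kt2_of (hstep : KT2StepStatement.{u}) : KT2Statement.{u} := by
  suffices key : ∀ N : ℕ, ∀ {Γ : Type u} [Group Γ] [Finite Γ] (G : Subgroup Γ) (x : Γ) (n : ℕ),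
      Nat.card G = N → PPS2 G x →
      (∀ g ∈ G, x ^ (2 ^ (n + 1)) * g = g * x ^ (2 ^ (n + 1))) →
      ∃ D₁ D₂ : Subgroup Γ, D₁ ≤ D₂ ∧ D₂ ≤ G ∧ D₁.Normal ∧ D₂.Normal ∧ Group.IsNilpotent D₁ ∧
        (∃ k : ℕ, D₂.lowerCentralSeries k ≤ D₁) ∧
        ∀ g ∈ G, g⁻¹ * x ^ (2 ^ n) * g * (x ^ (2 ^ n))⁻¹ ∈ D₂ by
    intro Γ _ _ G x n h hx
    exact key _ G x n rfl h hx
  intro N
  induction N using Nat.strong_induction_on with
  | _ N ih =>
  intro Γ _ _ G x n hN h hx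
  by_cases hG : G = ⊥
  · refine ⟨⊥, ⊥, le_rfl, bot_le, inferInstance, inferInstance, inferInstance, ⟨0, le_rfl⟩, ?_⟩
    intro g hg
    rw [hG, Subgroup.mem_bot] at hg
    subst hg
    simp
  · have hGn := h.hGn
    obtain ⟨M, hMn, hM1, hMG, r, d, hr, hMc⟩ :=
      Cfsg.Agent.Lib.Helper7.exists_normal_prime_pow_le G h.hsolv hG
    set π := QuotientGroup.mk' M with hπ
    have hπs : Function.Surjective π := QuotientGroup.mk'_surjective M
    have hker : π.ker = M := QuotientGroup.ker_mk' M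
    have hq : PPS2 (G.map π) (π x) := PPS2.quot h M hMG
    have hxq : ∀ g ∈ G.map π, (π x) ^ (2 ^ (n + 1)) * g = g * (π x) ^ (2 ^ (n + 1)) := by
      rintro _ ⟨g, hg, rfl⟩
      rw [← map_pow, ← map_mul, ← map_mul, hx g hg]
    have hcard : Nat.card (G.map π) < N := by
      have h1 : Nat.card M * M.relIndex G = Nat.card G := by
        have := Subgroup.relIndex_mul_relIndex (⊥ : Subgroup Γ) M G bot_le hMG
        rwa [Subgroup.relIndex_bot_left, Subgroup.relIndex_bot_left] at this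
      have h2 : Nat.card (G.map π) = M.relIndex G := by
        rw [← Subgroup.relIndex_ker, hker]
      have h3 : 1 < Nat.card M := by
        rw [Subgroup.one_lt_card_iff_ne_bot]; exact hM1
      have h4 : 0 < M.relIndex G := by
        rcases Nat.eq_zero_or_pos (M.relIndex G) with h0 | h0
        · rw [h0, mul_zero] at h1
          exact absurd h1.symm Nat.card_pos.ne'
        · exact h0
      rw [h2, ← hN, ← h1]
      nlinarith
    obtain ⟨Db₁, Db₂, hDb12, hDb2G, hDb1n, hDb2n, hDb1nil, ⟨kb, hkb⟩, hDb⟩ :=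
      ih _ hcard (G.map π) (π x) n rfl hq hxq
    set H₁ : Subgroup Γ := Db₁.comap π with hH₁
    set H : Subgroup Γ := Db₂.comap π with hH
    have hH₁n : H₁.Normal := hDb1n.comap π
    have hHn : H.Normal := hDb2n.comap π
    have h1H : H₁ ≤ H := Subgroup.comap_mono hDb12
    have hMH₁ : M ≤ H₁ := by
      rw [← hker]; exact Subgroup.ker_le_comap π Db₁
    have hHG : H ≤ G := by
      intro g hg
      have h1 : π g ∈ G.map π := hDb2G hg
      obtain ⟨g', hg', he⟩ := h1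
      have h2 : g'⁻¹ * g ∈ M := by
        rw [← hker, MonoidHom.mem_ker, map_mul, map_inv, he, inv_mul_cancel]
      have : g = g' * (g'⁻¹ * g) := by group
      rw [this]
      exact G.mul_mem hg' (hMG h2)
    have hmap₁ : H₁.map π = Db₁ := Subgroup.map_comap_eq_self_of_surjective hπs Db₁
    have hMp : IsPGroup r M := IsPGroup.of_card hMc
    have hlcs : ∃ k : ℕ, H.lowerCentralSeries k ≤ H₁ := ⟨kb, lcs_comap_le π Db₂ Db₁ kb hkb⟩
    obtain ⟨D₁, D₂, hD12, hD2H, hD1n, hD2n, hD1nil, hDk, hD⟩ :=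
      hstep h n hx H₁ H M hHG h1H hMH₁ r hr hMp (by rw [hmap₁]; exact hDb1nil) hlcs
    refine ⟨D₁, D₂, hD12, hD2H.trans hHG, hD1n, hD2n, hD1nil, hDk, ?_⟩
    have hτH : ∀ g ∈ G, g⁻¹ * x ^ (2 ^ n) * g * (x ^ (2 ^ n))⁻¹ ∈ H := by
      intro g hg
      rw [hH, Subgroup.mem_comap]
      have := hDb (π g) (Subgroup.mem_map_of_mem π hg)
      simpa only [map_mul, map_inv, map_pow] using this
    intro g hg
    obtain ⟨c, hcG, h', hh', hcomm, rfl⟩ := PPS2.exists_mul_comm h (2 ^ n) H hHG hτH g hg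
    have e : (c * h')⁻¹ * x ^ (2 ^ n) * (c * h') * (x ^ (2 ^ n))⁻¹ =
        h'⁻¹ * x ^ (2 ^ n) * h' * (x ^ (2 ^ n))⁻¹ := by
      have : (c * h')⁻¹ * x ^ (2 ^ n) * (c * h') * (x ^ (2 ^ n))⁻¹ =
          h'⁻¹ * c⁻¹ * (x ^ (2 ^ n) * c) * h' * (x ^ (2 ^ n))⁻¹ := by group
      rw [this, hcomm]
      group
    rw [e]
    exact hD h' hh'

end Cfsg.Agent.Lib.Helper3.GR2
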