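import Mathlib
import Cfsg.Agent.Lib.Helper3.GR2Defs
import Cfsg.Agent.Lib.Helper1.PPGE
import Cfsg.Agent.S3794

set_option autoImplicit false
set_option linter.unusedVariables false
set_option linter.unusedSectionVars false

/-! Gross's theorem (S3795), package G-E2: from the key theorem `KT2Statement` to the chain of
length `2 n - 2` (two steps per level, base `|x| = 4` by S3794), and the semidirect-product wrapper
giving the statement for an automorphism. -/

namespace Cfsg.Agent.Lib.Helper3.GR2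

open Cfsg.Agent.Lib.Helper1.PPGE

universe u

section chain

variable {Γ : Type u} [Group Γ]

/-- a chain of `L` steps of normal subgroups of `Γ` from `⊥` to `G` with nilpotent factors
(indexed by `ℕ`). -/
def HasChain (G : Subgroup Γ) (L : ℕ) : Prop :=
  ∃ F : ℕ → Subgroup Γ, F 0 = ⊥ ∧ F L = G ∧ Monotone F ∧ (∀ i, (F i).Normal) ∧
    ∀ i, i < L → ∃ k : ℕ, (F (i + 1)).lowerCentralSeries k ≤ F i

theorem HasChain.two {D₁ D₂ : Subgroup Γ} [h1n : D₁.Normal] [h2n : D₂.Normal] (h12 : D₁ ≤ D₂)
    (hnil : Group.IsNilpotent D₁) (hk : ∃ k : ℕ, D₂.lowerCentralSeries k ≤ D₁) :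
    HasChain D₂ 2 := by
  refine ⟨fun i => if i = 0 then ⊥ else if i = 1 then D₁ else D₂, ?_, ?_, ?_, ?_, ?_⟩
  · simp
  · simp
  · intro a b hab
    dsimp only
    by_cases ha : a = 0
    · rw [if_pos ha]; exact bot_le
    · have hb : b ≠ 0 := by omega
      rw [if_neg ha, if_neg hb]
      by_cases ha1 : a = 1
      · rw [if_pos ha1]
        by_cases hb1 : b = 1
        · rw [if_pos hb1]
        · rw [if_neg hb1]; exact h12
      · have hb1 : b ≠ 1 := by omega
        rw [if_neg ha1, if_neg hb1]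
  · intro i
    dsimp only
    by_cases hi : i = 0
    · rw [if_pos hi]; infer_instance
    · rw [if_neg hi]
      by_cases hi1 : i = 1
      · rw [if_pos hi1]; exact h1n
      · rw [if_neg hi1]; exact h2n
  · intro i hi
    dsimp only
    have hi' : i = 0 ∨ i = 1 := by omega
    rcases hi' with rfl | rfl
    · obtain ⟨k, hk'⟩ := (Subgroup.isNilpotent_iff_lowerCentralSeries D₁).mp hnil
      refine ⟨k, ?_⟩
      simp only [zero_add, if_true, one_ne_zero, if_false]
      exact hk'.le
    · obtain ⟨k, hk'⟩ := hk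
      refine ⟨k, ?_⟩
      simpa using hk'

theorem HasChain.pull {G D : Subgroup Γ} [hDn : D.Normal] (hDG : D ≤ G) {j L : ℕ}
    (h1 : HasChain D j) (h2 : HasChain (G.map (QuotientGroup.mk' D)) L) :
    HasChain G (j + L) := by
  obtain ⟨F₁, h10, h1l, h1m, h1n, h1k⟩ := h1
  obtain ⟨F₂, h20, h2l, h2m, h2n, h2k⟩ := h2
  have hc0 : (F₂ 0).comap (QuotientGroup.mk' D) = D := by
    rw [h20, MonoidHom.comap_bot, QuotientGroup.ker_mk']
  refine ⟨fun i => if i < j then F₁ i else (F₂ (i - j)).comap (QuotientGroup.mk' D),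
    ?_, ?_, ?_, ?_, ?_⟩
  · dsimp only
    by_cases hj : 0 < j
    · rw [if_pos hj, h10]
    · have hj0 : j = 0 := by omega
      rw [if_neg hj, hj0, Nat.sub_zero, hc0, ← h1l, hj0, h10]
  · dsimp only
    by_cases hL : j + L < j
    · omega
    · rw [if_neg hL, Nat.add_sub_cancel_left, h2l, Subgroup.comap_map_eq, QuotientGroup.ker_mk']
      exact sup_eq_left.mpr hDG
  · intro a b hab
    dsimp only
    by_cases hb : b < j
    · have ha : a < j := by omega
      rw [if_pos ha, if_pos hb]
      exact h1m hab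
    · rw [if_neg hb]
      by_cases ha : a < j
      · rw [if_pos ha]
        have e1 : F₁ a ≤ D := by
          rw [← h1l]; exact h1m (by omega)
        have e2 : D ≤ (F₂ (b - j)).comap (QuotientGroup.mk' D) :=
          hc0.symm.le.trans (Subgroup.comap_mono (h2m (Nat.zero_le _)))
        exact e1.trans e2
      · rw [if_neg ha]
        exact Subgroup.comap_mono (h2m (by omega))
  · intro i
    dsimp only
    by_cases hi : i < j
    · rw [if_pos hi]; exact h1n i
    · rw [if_neg hi]
      haveI := h2n (i - j)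
      infer_instance
  · intro i hi
    dsimp only
    by_cases h1 : i + 1 < j
    · have h2 : i < j := by omega
      rw [if_pos h1, if_pos h2]
      exact h1k i h2
    · rw [if_neg h1]
      by_cases h2 : i < j
      · rw [if_pos h2]
        have hij : i + 1 = j := by omega
        have e : i + 1 - j = 0 := by omega
        rw [e, hc0, ← h1l, ← hij]
        exact h1k i h2
      · rw [if_neg h2]
        have e : i + 1 - j = (i - j) + 1 := by omega
        rw [e]
        obtain ⟨k, hk⟩ := h2k (i - j) (by omega)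
        exact ⟨k, lcs_comap_le _ _ _ k hk⟩

theorem HasChain.toFin {G : Subgroup Γ} {L : ℕ} (h : HasChain G L) :
    ∃ F : Fin (L + 1) → Subgroup Γ, F 0 = ⊥ ∧ F (Fin.last L) = G ∧ Monotone F ∧
      (∀ i, (F i).Normal) ∧
      ∀ i : Fin L, ∃ k : ℕ, (F i.succ).lowerCentralSeries k ≤ F i.castSucc := by
  obtain ⟨F, h0, hl, hm, hn, hk⟩ := h
  refine ⟨fun i => F i.val, ?_, ?_, ?_, ?_, ?_⟩
  · simpa using h0
  · simpa using hl
  · intro a b hab
    exact hm hab
  · intro i; exact hn i.val
  · intro i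
    obtain ⟨k, hk'⟩ := hk i.val i.isLt
    refine ⟨k, ?_⟩
    simpa using hk'

end chain

section base

variable {Γ : Type u} [Group Γ] [Finite Γ]

/-- the base of the chain: `x ^ 4` central on `G` gives a chain of length two (S3794). -/
theorem base_four (G : Subgroup Γ) (x : Γ) (h : PPS2 G x)
    (hc : ∀ g ∈ G, x ^ 4 * g = g * x ^ 4) : HasChain G 2 := by
  have hGn := h.hGn
  let σ : MulAut G := MulAut.conjNormal x
  have hσa : ∀ (y : Γ) (g : G), ((MulAut.conjNormal y : MulAut G) g : Γ) = y * g * y⁻¹ :=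
    fun y g => MulAut.conjNormal_apply y g
  have hσ : σ ^ 4 = 1 := by
    ext g
    show (((MulAut.conjNormal x : MulAut G) ^ 4) g : Γ) = g
    rw [← map_pow, hσa, hc g g.2]
    group
  have hfpf : ∀ g : G, σ g = g → g = 1 := by
    intro g hg
    have h1 : x * (g : Γ) * x⁻¹ = g := by
      have := congrArg (fun t : G => (t : Γ)) hg
      simpa [σ, hσa] using this
    have h2 : x * (g : Γ) = g * x := by
      calc x * (g : Γ) = (x * (g : Γ) * x⁻¹) * x := by group
        _ = g * x := by rw [h1]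
    exact Subtype.ext (h.hfpf g g.2 h2)
  have hnil : Group.IsNilpotent (commutator G) := Cfsg.Agent.S3794.result h.hsolv σ hσ hfpf
  have hmap : (commutator G).map G.subtype = ⁅G, G⁆ := by
    rw [commutator_def, Subgroup.map_commutator, ← MonoidHom.range_eq_map, Subgroup.range_subtype]
  have hnil' : Group.IsNilpotent ↥(⁅G, G⁆ : Subgroup Γ) := by
    rw [← hmap]
    haveI := hnil
    exact Group.nilpotent_of_surjective (G.subtype.subgroupMap (commutator G))
      (MonoidHom.subgroupMap_surjective _ _)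
  haveI : (⁅G, G⁆ : Subgroup Γ).Normal := inferInstance
  exact HasChain.two (Subgroup.commutator_le_left G G) hnil' ⟨1, le_of_eq rfl⟩

end base

theorem chain_of_kt2 (hKT : KT2Statement.{u}) (m : ℕ) :
    ∀ {Γ : Type u} [Group Γ] [Finite Γ] (G : Subgroup Γ) (x : Γ), PPS2 G x →
    (∀ g ∈ G, x ^ (2 ^ (m + 2)) * g = g * x ^ (2 ^ (m + 2))) → HasChain G (2 * m + 2) := by
  induction m with
  | zero =>
    intro Γ _ _ G x h hc
    exact base_four G x h (by simpa using hc)
  | succ m ih =>
    intro Γ _ _ G x h hc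
    obtain ⟨D₁, D₂, h12, h2G, h1n, h2n, h1nil, hk, hD⟩ := hKT G x (m + 2) h hc
    have hq := PPS2.quot h D₂ h2G
    have hc' : ∀ g ∈ G.map (QuotientGroup.mk' D₂),
        (QuotientGroup.mk' D₂ x) ^ (2 ^ (m + 2)) * g =
          g * (QuotientGroup.mk' D₂ x) ^ (2 ^ (m + 2)) := by
      rintro _ ⟨g, hg, rfl⟩
      have h1 := hD g hg
      have h2 : (QuotientGroup.mk' D₂) (g⁻¹ * x ^ (2 ^ (m + 2)) * g * (x ^ (2 ^ (m + 2)))⁻¹) = 1 :=
        (QuotientGroup.eq_one_iff _).mpr h1
      rw [map_mul, map_mul, map_mul, map_inv, map_inv, map_pow] at h2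
      have h3 : (QuotientGroup.mk' D₂ g)⁻¹ * (QuotientGroup.mk' D₂ x) ^ (2 ^ (m + 2)) *
          (QuotientGroup.mk' D₂ g) = (QuotientGroup.mk' D₂ x) ^ (2 ^ (m + 2)) := by
        rw [← mul_inv_eq_one]; exact h2
      generalize (QuotientGroup.mk' D₂ g) = a at h3 ⊢
      generalize (QuotientGroup.mk' D₂ x) ^ (2 ^ (m + 2)) = b at h3 ⊢
      calc b * a = a * (a⁻¹ * b * a) := by group
        _ = a * b := by rw [h3]
    have hch := ih (G.map (QuotientGroup.mk' D₂)) (QuotientGroup.mk' D₂ x) hq hc'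
    have h2ch : HasChain D₂ 2 := HasChain.two h12 h1nil hk
    have := HasChain.pull h2G h2ch hch
    have e : 2 * (m + 1) + 2 = 2 + (2 * m + 2) := by omega
    rw [e]
    exact this

theorem result_of (hKT : KT2Statement.{u}) {G : Type u} [Group G] [Finite G]
    (hG : Group.IsSolvable G) (σ : MulAut G) (n : ℕ) (hn : 1 < n) (hσ : orderOf σ = 2 ^ n)
    (hfpf : ∀ g : G, σ g = g → g = 1) :
    ∃ F : Fin ((2 * n - 2) + 1) → Subgroup G, F 0 = ⊥ ∧ F (Fin.last (2 * n - 2)) = ⊤ ∧
      Monotone F ∧ (∀ i, (F i).Normal) ∧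
      ∀ i : Fin (2 * n - 2), ∃ k : ℕ, (F i.succ).lowerCentralSeries k ≤ F i.castSucc := by
  classical
  have hσfin : IsOfFinOrder σ := by
    rw [← orderOf_pos_iff, hσ]
    exact pow_pos (by norm_num) n
  have hAfin : Finite ↥(Subgroup.zpowers σ) := by
    apply Nat.finite_of_card_ne_zero
    rw [Nat.card_zpowers, hσ]
    exact (pow_pos (by norm_num) n).ne'
  let A : Subgroup (MulAut G) := Subgroup.zpowers σ
  have hΓfin : Finite (G ⋊[A.subtype] ↥A) :=
    Finite.of_equiv _ (SemidirectProduct.equivProd (φ := A.subtype)).symm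
  have hinl : Function.Injective (SemidirectProduct.inl : G →* G ⋊[A.subtype] ↥A) :=
    SemidirectProduct.inl_injective
  let s : ↥A := ⟨σ, Subgroup.mem_zpowers σ⟩
  have hs : s ^ (2 ^ n) = 1 := by
    apply Subtype.ext
    rw [Subgroup.coe_pow, Subgroup.coe_one]
    show σ ^ (2 ^ n) = 1
    rw [← hσ]; exact pow_orderOf_eq_one σ
  have hx : (SemidirectProduct.inr s : G ⋊[A.subtype] ↥A) ^ (2 ^ n) = 1 := by
    rw [← map_pow, hs, map_one]
  have hS : PPS2 (SemidirectProduct.inl : G →* G ⋊[A.subtype] ↥A).range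
      (SemidirectProduct.inr s : G ⋊[A.subtype] ↥A) := by
    refine ⟨?_, ?_, ⟨n, hx⟩, ?_⟩
    · rw [SemidirectProduct.range_inl_eq_ker_rightHom]
      infer_instance
    · exact Group.isSolvable_of_surjective
        (MonoidHom.rangeRestrict_surjective (SemidirectProduct.inl : G →* G ⋊[A.subtype] ↥A))
    · rintro _ ⟨g, rfl⟩ hfix
      have hg : g = 1 := by
        apply hfpf g
        have h2 : (SemidirectProduct.inl ((A.subtype s) g) : G ⋊[A.subtype] ↥A) =
            SemidirectProduct.inl g := by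
          rw [SemidirectProduct.inl_aut, hfix]
          rw [mul_assoc, ← map_mul, mul_inv_cancel, map_one, mul_one]
        exact hinl h2
      rw [hg, map_one]
  obtain ⟨m, rfl⟩ : ∃ m, n = m + 2 := ⟨n - 2, by omega⟩
  have hch := chain_of_kt2 hKT m
    (SemidirectProduct.inl : G →* G ⋊[A.subtype] ↥A).range
    (SemidirectProduct.inr s : G ⋊[A.subtype] ↥A) hS
    (fun g _ => by rw [hx, one_mul, mul_one])
  have hL : 2 * m + 2 = 2 * (m + 2) - 2 := by omega
  rw [hL] at hch
  obtain ⟨F', hF0, hFl, hFm, hFn, hFk⟩ := hch.toFin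
  refine ⟨fun i => (F' i).comap SemidirectProduct.inl, ?_, ?_, ?_, ?_, ?_⟩
  · show (F' 0).comap SemidirectProduct.inl = ⊥
    rw [hF0, MonoidHom.comap_bot, (MonoidHom.ker_eq_bot_iff _).mpr hinl]
  · show (F' (Fin.last _)).comap SemidirectProduct.inl = ⊤
    rw [hFl]
    exact eq_top_iff.mpr (fun g _ => ⟨g, rfl⟩)
  · intro i j hij
    exact Subgroup.comap_mono (hFm hij)
  · intro i
    haveI := hFn i
    show ((F' i).comap SemidirectProduct.inl).Normal
    infer_instance
  · intro i
    obtain ⟨k, hk⟩ := hFk i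
    exact ⟨k, lcs_comap_le _ _ _ k hk⟩

end Cfsg.Agent.Lib.Helper3.GR2
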