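import Mathlib
import Cfsg.Agent.Lib.Helper3.GR2Defs
import Cfsg.Agent.Lib.Helper4.SecMod
import Cfsg.Agent.Lib.Helper5.PPGB

set_option autoImplicit false
set_option linter.unusedVariables false
set_option linter.unusedSectionVars false
set_option linter.style.haveILetI false

/-!
# S3795 (Gross, `p = 2`), package G2-GB

The three-layer module theorem applied to the Frattini quotient `R/Φ(R)` of a normal `r`-subgroup,
as a module for the quotient group `Γ ⧸ D` (`D` acting trivially on `R/Φ(R)`): every lift of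
`[[a, τ̃], u]` acts trivially on `R/Φ(R)`.
-/

namespace Cfsg.Agent.Lib.Helper3.GR2GB

open Cfsg.Agent.Lib.Helper3.GR2 Cfsg.Agent.Lib.Helper4.SecMod Cfsg.Agent.Lib.Helper5.PPGB

universe u

section quotAction

variable {Γ : Type u} [Group Γ] {R Φ : Subgroup Γ} (hsec : Sec R Φ (⊤ : Subgroup Γ))

/-- the action of `g : Γ` on the section module. -/
noncomputable def tsmul (g : Γ) (m : hsec.M) : hsec.M :=
  (⟨g, Subgroup.mem_top g⟩ : ↥(⊤ : Subgroup Γ)) • m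

theorem tsmul_one (m : hsec.M) : tsmul hsec 1 m = m := one_smul ↥(⊤ : Subgroup Γ) m

theorem tsmul_mul (g g' : Γ) (m : hsec.M) :
    tsmul hsec (g * g') m = tsmul hsec g (tsmul hsec g' m) :=
  mul_smul (⟨g, Subgroup.mem_top g⟩ : ↥(⊤ : Subgroup Γ)) ⟨g', Subgroup.mem_top g'⟩ m

theorem tsmul_cls_eq_iff (g : Γ) {v : Γ} (hv : v ∈ R) :
    tsmul hsec g (hsec.cls v hv) = hsec.cls v hv ↔ g * v * g⁻¹ * v⁻¹ ∈ Φ :=
  hsec.smul_cls_eq_iff (Subgroup.mem_top g) hv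

variable (D : Subgroup Γ) [D.Normal] (hD : ∀ d ∈ D, ∀ v ∈ R, d * v * d⁻¹ * v⁻¹ ∈ Φ)

include hD in
theorem tsmul_of_mem {d : Γ} (hd : d ∈ D) (m : hsec.M) : tsmul hsec d m = m := by
  obtain ⟨v, hv, rfl⟩ := hsec.cls_surj m
  rw [tsmul_cls_eq_iff]
  exact hD d hd v hv

include hD in
theorem tsmul_congr {g g' : Γ} (hgg : (QuotientGroup.mk' D) g = (QuotientGroup.mk' D) g')
    (m : hsec.M) : tsmul hsec g m = tsmul hsec g' m := by
  have h1 : g'⁻¹ * g ∈ D := by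
    rw [← QuotientGroup.eq_one_iff, ← QuotientGroup.mk'_apply, map_mul, map_inv, hgg,
      inv_mul_cancel]
  have h2 : g = g' * (g'⁻¹ * g) := by group
  rw [h2, tsmul_mul, tsmul_of_mem hsec D hD h1]

/-- the action of `Γ ⧸ D` on the section module, when `D` acts trivially. -/
noncomputable def quotAction : DistribMulAction (Γ ⧸ D) hsec.M where
  smul a m := tsmul hsec (Quotient.out a) m
  one_smul m := by
    show tsmul hsec (Quotient.out (1 : Γ ⧸ D)) m = m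
    rw [tsmul_congr hsec D hD (g' := 1) (by simp), tsmul_one]
  mul_smul a b m := by
    show tsmul hsec (Quotient.out (a * b)) m =
      tsmul hsec (Quotient.out a) (tsmul hsec (Quotient.out b) m)
    rw [← tsmul_mul]
    apply tsmul_congr hsec D hD
    simp
  smul_zero a := smul_zero (⟨Quotient.out a, Subgroup.mem_top _⟩ : ↥(⊤ : Subgroup Γ))
  smul_add a m m' := smul_add (⟨Quotient.out a, Subgroup.mem_top _⟩ : ↥(⊤ : Subgroup Γ)) m m'

theorem quot_smul (g : Γ) (m : hsec.M) :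
    letI := quotAction hsec D hD
    ((QuotientGroup.mk' D) g) • m = tsmul hsec g m := by
  letI := quotAction hsec D hD
  show tsmul hsec (Quotient.out ((QuotientGroup.mk' D) g)) m = tsmul hsec g m
  apply tsmul_congr hsec D hD
  simp

end quotAction

section

variable {Γ : Type u} [Group Γ] [Finite Γ] {G : Subgroup Γ} {x : Γ}

/-- a nontrivial element of a `q`-subgroup of `G` forces `q ≠ 2`. -/
theorem prime_ne_two (h : PPS2 G x) (Q : Subgroup Γ) (hQG : Q ≤ G) (q : ℕ) (hq : q.Prime)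
    (hQ : IsPGroup q Q) (u : Γ) (hu : u ∈ Q) (hu1 : u ≠ 1) : q ≠ 2 := by
  rintro rfl
  haveI : Fact (Nat.Prime 2) := ⟨hq⟩
  apply PPS2.not_dvd h
  rcases hQ.card_eq_or_dvd with h1 | h1
  · exfalso
    apply hu1
    have h2 : Q = ⊥ := Subgroup.card_eq_one.1 h1
    rw [h2, Subgroup.mem_bot] at hu
    exact hu
  · exact h1.trans (Subgroup.card_dvd_of_le hQG)

theorem cen_of_mt3 (hMT : MT3Statement.{u}) (h : PPS2 G x) (n : ℕ)
    (hx : ∀ g ∈ G, x ^ (2 ^ (n + 1)) * g = g * x ^ (2 ^ (n + 1)))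
    (R : Subgroup Γ) [R.Normal] (hRG : R ≤ G) (r : ℕ) (hr : r.Prime) (hR : IsPGroup r R)
    (D : Subgroup Γ) [D.Normal] (hDG : D ≤ G)
    (hDR : ∀ d ∈ D, ∀ v ∈ R, d * v * d⁻¹ * v⁻¹ ∈ (frattini ↥R).map R.subtype)
    (q t : ℕ) (hq : q.Prime) (ht : t.Prime) (hqr : q ≠ r) (hqt : q ≠ t)
    (P T : Subgroup (Γ ⧸ D)) (hPG : P ≤ G.map (QuotientGroup.mk' D))
    (hTG : T ≤ G.map (QuotientGroup.mk' D)) (hP : IsPGroup q P) (hT : IsPGroup t T)
    (hxP : ∀ u ∈ P, (QuotientGroup.mk' D x) * u * (QuotientGroup.mk' D x)⁻¹ ∈ P)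
    (hxT : ∀ a ∈ T, (QuotientGroup.mk' D x) * a * (QuotientGroup.mk' D x)⁻¹ ∈ T)
    (hTP : ∀ a ∈ T, ∀ u ∈ P, a * u * a⁻¹ ∈ P) :
    ∀ a ∈ T, ∀ u ∈ P, ∀ w : Γ,
      QuotientGroup.mk' D w =
        (a⁻¹ * (QuotientGroup.mk' D x) ^ (2 ^ n) * a * ((QuotientGroup.mk' D x) ^ (2 ^ n))⁻¹) * u *
          (a⁻¹ * (QuotientGroup.mk' D x) ^ (2 ^ n) * a * ((QuotientGroup.mk' D x) ^ (2 ^ n))⁻¹)⁻¹ *
            u⁻¹ →
      ∀ v ∈ R, w * v * w⁻¹ * v⁻¹ ∈ (frattini ↥R).map R.subtype := by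
  intro a ha u hu w hw v hv
  haveI : Fact r.Prime := ⟨hr⟩
  set Φ : Subgroup Γ := (frattini ↥R).map R.subtype with hΦ
  set π := QuotientGroup.mk' D with hπ
  -- degenerate cases
  by_cases ha1 : a = 1
  · have h1 : π w = 1 := by
      rw [hw, ha1]; group
    exact hDR w ((QuotientGroup.eq_one_iff w).mp h1) v hv
  by_cases hu1 : u = 1
  · have h1 : π w = 1 := by
      rw [hw, hu1]; group
    exact hDR w ((QuotientGroup.eq_one_iff w).mp h1) v hv
  by_cases hv1 : v = 1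
  · subst hv1
    have e : w * 1 * w⁻¹ * (1 : Γ)⁻¹ = 1 := by group
    rw [e]; exact Φ.one_mem
  -- the quotient setting
  have hq' : PPS2 (G.map π) (π x) := PPS2.quot h D hDG
  have hq2 : q ≠ 2 := prime_ne_two hq' P hPG q hq hP u hu hu1
  have ht2 : t ≠ 2 := prime_ne_two hq' T hTG t ht hT a ha ha1
  have hr2 : r ≠ 2 := prime_ne_two h R hRG r hr hR v hv hv1
  have hsec : Sec R Φ (⊤ : Subgroup Γ) := ppgb_sec R r hR
  have hΦR : Φ ≤ R := hsec.le
  letI := quotAction hsec D hDR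
  have hqs : ∀ (g : Γ) (m : hsec.M), (π g) • m = tsmul hsec g m := quot_smul hsec D hDR
  -- exponent `r`
  have hexp : ∀ m : hsec.M, r • m = 0 := by
    apply hsec.nsmul_eq_zero
    intro b hb
    refine ⟨(⟨b, hb⟩ : R) ^ r, Cfsg.Agent.Lib.Lead.pow_mem_frattini_of_isPGroup hR _, ?_⟩
    simp
  have hx'p : ∃ N : ℕ, (π x) ^ (2 ^ N) = 1 := hq'.hxp
  have hx'triv : ∀ m : hsec.M, (π x) ^ (2 ^ (n + 1)) • m = m := by
    intro m
    obtain ⟨b, hb, rfl⟩ := hsec.cls_surj m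
    rw [← map_pow, hqs, tsmul_cls_eq_iff, hx b (hRG hb)]
    have e : b * x ^ 2 ^ (n + 1) * (x ^ 2 ^ (n + 1))⁻¹ * b⁻¹ = 1 := by group
    rw [e]
    exact Φ.one_mem
  have hnormΦ : ∀ g : Γ, ∀ b ∈ Φ, g * b * g⁻¹ ∈ Φ := fun g b hb =>
    hsec.normU g (Subgroup.mem_top g) b hb
  have hx'fpf : ∀ m : hsec.M, (π x) • m = m → m = 0 := by
    intro m
    obtain ⟨b, hb, rfl⟩ := hsec.cls_surj m
    intro hm
    rw [hqs, tsmul_cls_eq_iff] at hm
    rw [hsec.cls_eq_zero]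
    refine PPS2.mem_of_comm_mem h R Φ hRG hΦR ?_ (fun k hk => ‹R.Normal›.conj_mem k hk x)
      (fun k hk => hnormΦ x k hk) b hb hm
    intro g _
    rw [Subgroup.mem_normalizer_iff]
    intro b'
    constructor
    · exact hnormΦ g b'
    · intro h1
      have h2 := hnormΦ g⁻¹ _ h1
      have e : g⁻¹ * (g * b' * g⁻¹) * g⁻¹⁻¹ = b' := by group
      rwa [e] at h2
  have hfpfP : ∀ u' ∈ P, (π x) * u' = u' * (π x) → u' = 1 := fun u' hu' hc =>
    hq'.hfpf u' (hPG hu') hc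
  have hfpfT : ∀ a' ∈ T, (π x) * a' = a' * (π x) → a' = 1 := fun a' ha' hc =>
    hq'.hfpf a' (hTG ha') hc
  have key := hMT (A := Γ ⧸ D) (M := hsec.M) r q t n hr hq ht hr2 hq2 ht2 hqr hqt hexp (π x) hx'p
    hx'triv hx'fpf P T hP hT hxP hxT hTP hfpfP hfpfT a ha u hu
  -- the double commutator acts trivially
  set c : Γ ⧸ D := a⁻¹ * (π x) ^ (2 ^ n) * a * ((π x) ^ (2 ^ n))⁻¹ with hc
  have hfix : ∀ m : hsec.M, (c * u * c⁻¹ * u⁻¹) • m = m := by
    intro m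
    have h1 := key (c⁻¹ • u⁻¹ • m)
    rw [smul_inv_smul, smul_inv_smul] at h1
    rw [mul_smul, mul_smul, mul_smul]
    exact h1
  have h2 := hfix (hsec.cls v hv)
  rw [← hw, hqs, tsmul_cls_eq_iff] at h2
  exact h2

end

end Cfsg.Agent.Lib.Helper3.GR2GB
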