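import Mathlib
import Cfsg.Agent.Lib.Helper8.Fitting
import Cfsg.Agent.Lib.Helper8.WardG

set_option autoImplicit false
set_option linter.unusedVariables false
set_option linter.unusedSectionVars false
set_option linter.style.haveILetI false

/-!
# S3795 (Gross, `p = 2`), package G2-FIT

`H₁ ≤ H` normal in the finite group `Γ`, `H₁` nilpotent, `H/H₁` nilpotent.  A `t`-element `c` of `H`
commuting with every `q`-subgroup (`q ≠ t`) of `H₁` that is normal in `Γ` lies in the Fitting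
subgroup of `Γ`.
-/

namespace Cfsg.Agent.Lib.Helper3.GR2FIT

open Cfsg.Agent.Lib.Helper8

universe u

section

variable {Γ : Type u} [Group Γ] [Finite Γ]

/-- the cyclic group generated by a `t`-element is a `t`-group. -/
theorem isPGroup_zpowers_of_pow {t : ℕ} (g : Γ) (h : ∃ j : ℕ, g ^ (t ^ j) = 1) :
    IsPGroup t (Subgroup.zpowers g) := by
  obtain ⟨N, hN⟩ := h
  rintro ⟨y, hy⟩
  obtain ⟨m, rfl⟩ := Subgroup.mem_zpowers_iff.mp hy
  refine ⟨N, ?_⟩
  apply Subtype.ext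
  rw [Subgroup.coe_pow, Subgroup.coe_one]
  show (g ^ m) ^ t ^ N = 1
  rw [← zpow_natCast, ← zpow_mul, mul_comm, zpow_mul, zpow_natCast, hN, one_zpow]

/-- a `t`-element of `N` lies in a normal `t`-subgroup of `N` of full `t`-power order. -/
theorem mem_of_normal_sylow {t : ℕ} (ht : t.Prime) (N Q : Subgroup Γ) (hQN : Q ≤ N) [Q.Normal]
    (hQ : IsPGroup t Q) (hQc : Nat.card Q = t ^ (Nat.card N).factorization t)
    (g : Γ) (hgN : g ∈ N) (hg : ∃ j : ℕ, g ^ (t ^ j) = 1) : g ∈ Q := by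
  haveI : Fact t.Prime := ⟨ht⟩
  have hZ : IsPGroup t (Subgroup.zpowers g) := isPGroup_zpowers_of_pow g hg
  have hsup : IsPGroup t (Subgroup.zpowers g ⊔ Q : Subgroup Γ) := hZ.to_sup_of_normal_right hQ
  obtain ⟨m, hm⟩ := hsup.exists_card_eq
  have hle : (Subgroup.zpowers g ⊔ Q : Subgroup Γ) ≤ N :=
    sup_le (Subgroup.zpowers_le.mpr hgN) hQN
  have hdvd : t ^ m ∣ Nat.card N := hm ▸ Subgroup.card_dvd_of_le hle
  have hm' : m ≤ (Nat.card N).factorization t :=
    (ht.pow_dvd_iff_le_factorization Nat.card_pos.ne').mp hdvd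
  have hcard : Nat.card (Subgroup.zpowers g ⊔ Q : Subgroup Γ) ≤ Nat.card Q := by
    rw [hm, hQc]
    exact Nat.pow_le_pow_right ht.pos hm'
  have heq : Q = Subgroup.zpowers g ⊔ Q := Subgroup.eq_of_le_of_card_ge le_sup_right hcard
  rw [heq]
  exact le_sup_left (a := Subgroup.zpowers g) (Subgroup.mem_zpowers g)

theorem mem_fitting_of_centralizes (H₁ H : Subgroup Γ) [H₁.Normal] [H.Normal] (h1H : H₁ ≤ H)
    (hnil : Group.IsNilpotent H₁) (hk : ∃ k : ℕ, H.lowerCentralSeries k ≤ H₁)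
    (t : ℕ) (ht : t.Prime) (c : Γ) (hcH : c ∈ H) (hct : ∃ j : ℕ, c ^ (t ^ j) = 1)
    (hcen : ∀ q : ℕ, q.Prime → q ≠ t → ∀ P : Subgroup Γ, P.Normal → P ≤ H₁ → IsPGroup q P →
      ∀ u ∈ P, c * u = u * c) :
    c ∈ Cfsg.fittingSubgroup Γ := by
  classical
  haveI : Fact t.Prime := ⟨ht⟩
  -- the `t'`-part `E` of `H₁`
  set S : Set (Subgroup Γ) :=
    {P | P.Normal ∧ P ≤ H₁ ∧ ∃ q : ℕ, q.Prime ∧ q ≠ t ∧ IsPGroup q P} with hS
  set E : Subgroup Γ := sSup S with hE
  have hEn : E.Normal := Subgroup.sSup_normal S (fun P hP => hP.1)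
  have hEH₁ : E ≤ H₁ := sSup_le (fun P hP => hP.2.1)
  have hcE : E ≤ Subgroup.centralizer ({c} : Set Γ) := by
    apply sSup_le
    rintro P ⟨hPn, hPH, q, hq, hqt, hPq⟩ u hu
    rw [Subgroup.mem_centralizer_iff]
    intro y hy
    rw [Set.mem_singleton_iff] at hy
    subst hy
    exact hcen q hq hqt P hPn hPH hPq u hu
  -- the preimage `L` of the normal Sylow `t`-subgroup of `H/H₁`
  set π := QuotientGroup.mk' H₁ with hπ
  have hπs : Function.Surjective π := QuotientGroup.mk'_surjective H₁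
  have hker : π.ker = H₁ := QuotientGroup.ker_mk' H₁
  have hHbn : (H.map π).Normal := Subgroup.Normal.map inferInstance π hπs
  obtain ⟨k, hk⟩ := hk
  have hlcs : (H.map π).lowerCentralSeries k = ⊥ := by
    rw [← Subgroup.map_lowerCentralSeries, eq_bot_iff, Subgroup.map_le_iff_le_comap,
      MonoidHom.comap_bot, hker]
    exact hk
  obtain ⟨Tb, hTbH, hTbn, hTbp, hTbc⟩ :=
    Cfsg.Agent.Lib.Helper8.Ward.exists_normal_sylow_of_nilpotent (H.map π) hlcs t
  set L : Subgroup Γ := Tb.comap π with hL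
  have hLn : L.Normal := hTbn.comap π
  have hcL : c ∈ L := by
    rw [hL, Subgroup.mem_comap]
    refine mem_of_normal_sylow ht (H.map π) Tb hTbH hTbp hTbc (π c)
      (Subgroup.mem_map_of_mem π hcH) ?_
    obtain ⟨j, hj⟩ := hct
    exact ⟨j, by rw [← map_pow, hj, map_one]⟩
  -- `X = C_L(E)`
  set X : Subgroup Γ := L ⊓ Subgroup.centralizer (E : Set Γ) with hX
  have hXn : X.Normal := by
    have := hLn; have := hEn
    infer_instance
  have hcX : c ∈ X := by
    rw [hX, Subgroup.mem_inf]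
    refine ⟨hcL, ?_⟩
    rw [Subgroup.mem_centralizer_iff]
    intro e he
    have := Subgroup.mem_centralizer_iff.mp (hcE he) c rfl
    exact this.symm
  -- every element of `L` has a `t`-power in `H₁`
  have hL1 : ∀ g ∈ L, ∃ i : ℕ, g ^ (t ^ i) ∈ H₁ := by
    intro g hg
    rw [hL, Subgroup.mem_comap] at hg
    obtain ⟨i, hi⟩ := hTbp ⟨π g, hg⟩
    refine ⟨i, ?_⟩
    have h1 : (π g) ^ (t ^ i) = 1 := by
      have := congrArg Subtype.val hi
      simpa using this
    rw [← map_pow] at h1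
    exact (QuotientGroup.eq_one_iff _).mp h1
  -- every element of `H₁` has a `t`-power in `E`
  obtain ⟨k₁, hk₁⟩ := (Subgroup.isNilpotent_iff_lowerCentralSeries H₁).mp hnil
  obtain ⟨Pt, hPtH, hPtn, hPtp, hPtc⟩ :=
    Cfsg.Agent.Lib.Helper8.Ward.exists_normal_sylow_of_nilpotent H₁ hk₁ t
  have hH₁le : H₁ ≤ Pt ⊔ E := by
    apply Cfsg.Agent.Lib.Helper8.Ward.le_of_sylows_le
    intro l hl
    by_cases hlt : l = t
    · subst hlt
      exact ⟨Pt, hPtH, le_sup_left, hPtc⟩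
    · haveI : Fact l.Prime := ⟨hl⟩
      obtain ⟨Pl, hPlH, hPln, hPlp, hPlc⟩ :=
        Cfsg.Agent.Lib.Helper8.Ward.exists_normal_sylow_of_nilpotent H₁ hk₁ l
      refine ⟨Pl, hPlH, ?_, hPlc⟩
      have h1 : Pl ≤ E := le_sSup ⟨hPln, hPlH, l, hl, hlt, hPlp⟩
      exact h1.trans le_sup_right
  have hH1E : ∀ g ∈ H₁, ∃ j : ℕ, g ^ (t ^ j) ∈ E := by
    intro g hg
    have h1 : (QuotientGroup.mk' E) g ∈ (Pt ⊔ E).map (QuotientGroup.mk' E) :=
      Subgroup.mem_map_of_mem _ (hH₁le hg)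
    rw [Subgroup.map_sup, QuotientGroup.map_mk'_self, sup_bot_eq] at h1
    obtain ⟨p, hp, hpe⟩ := h1
    obtain ⟨j, hj⟩ := hPtp ⟨p, hp⟩
    refine ⟨j, ?_⟩
    have h2 : p ^ (t ^ j) = 1 := by
      have := congrArg Subtype.val hj
      simpa using this
    have h3 : (QuotientGroup.mk' E) (g ^ (t ^ j)) = 1 := by
      rw [map_pow, ← hpe, ← map_pow, h2, map_one]
    exact (QuotientGroup.eq_one_iff _).mp h3
  have hXE : ∀ g ∈ X, ∃ j : ℕ, g ^ (t ^ j) ∈ E := by
    intro g hg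
    obtain ⟨i, hi⟩ := hL1 g hg.1
    obtain ⟨j, hj⟩ := hH1E _ hi
    refine ⟨i + j, ?_⟩
    rw [pow_add, pow_mul]
    exact hj
  -- `X` is nilpotent
  have hXnil : Group.IsNilpotent X := by
    have hP : IsPGroup t (↥X ⧸ Subgroup.center ↥X) := by
      intro y
      obtain ⟨g, rfl⟩ := QuotientGroup.mk_surjective y
      obtain ⟨j, hj⟩ := hXE g g.2
      refine ⟨j, ?_⟩
      rw [← QuotientGroup.mk_pow, QuotientGroup.eq_one_iff, Subgroup.mem_center_iff]
      intro y'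
      apply Subtype.ext
      have h1 : (y' : Γ) ∈ Subgroup.centralizer (E : Set Γ) := y'.2.2
      have h2 := Subgroup.mem_centralizer_iff.mp h1 _ hj
      simpa using h2.symm
    haveI : Group.IsNilpotent (↥X ⧸ Subgroup.center ↥X) := hP.isNilpotent
    exact Group.of_quotient_center_nilpotent inferInstance
  exact le_fittingSubgroup X hXnil hcX

end

end Cfsg.Agent.Lib.Helper3.GR2FIT
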