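import Mathlib
import Cfsg.Agent.Lib.Helper3.GR2Defs
import Cfsg.Agent.Lib.Helper3.GR2FIT
import Cfsg.Agent.Lib.Lead.CoprimeSylow3
import Cfsg.Agent.Lib.Helper8.Fitting
import Cfsg.Agent.Lib.Helper8.WardG

set_option autoImplicit false
set_option linter.unusedVariables false
set_option linter.unusedSectionVars false
set_option linter.style.haveILetI false

/-!
# S3795 (Gross, `p = 2`), package G2-NN: the nilpotent-by-nilpotent step (absolute form)

`H₁ ≤ H ≤ G` normal in `Γ`, `H₁` nilpotent, `H/H₁` nilpotent; if `[T, τ]` commutes with the normal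
`q`-subgroups of `Γ` inside `H₁` for every `x`-invariant `t`-subgroup `T` of `H` (`q ≠ t`), then
`[H, τ]` lies in the nilpotent normal subgroup `H ⊓ F(Γ)`.
-/

namespace Cfsg.Agent.Lib.Helper3.GR2NN

open Cfsg.Agent.Lib.Helper3.GR2 Cfsg.Agent.Lib.Helper3.GR2FIT Cfsg.Agent.Lib.Helper8

universe u

section

variable {Γ : Type u} [Group Γ] [Finite Γ]

theorem nn_step {G : Subgroup Γ} {x : Γ} (h : PPS2 G x) (τ : Γ) (hτ : τ ∈ Subgroup.zpowers x)
    (H₁ H : Subgroup Γ) [H₁.Normal] [hHn : H.Normal] (hHG : H ≤ G) (h1H : H₁ ≤ H)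
    (hnil : Group.IsNilpotent H₁) (hk : ∃ k : ℕ, H.lowerCentralSeries k ≤ H₁)
    (hcen : ∀ t q : ℕ, t.Prime → q.Prime → q ≠ t →
      ∀ T : Subgroup Γ, T ≤ H → IsPGroup t T → (∀ a ∈ T, x * a * x⁻¹ ∈ T) →
      ∀ P : Subgroup Γ, P.Normal → P ≤ H₁ → IsPGroup q P →
      ∀ a ∈ T, ∀ u ∈ P, (a⁻¹ * τ * a * τ⁻¹) * u = u * (a⁻¹ * τ * a * τ⁻¹)) :
    ∃ D : Subgroup Γ, D ≤ H ∧ D.Normal ∧ Group.IsNilpotent D ∧
      ∀ g ∈ H, g⁻¹ * τ * g * τ⁻¹ ∈ D := by
  classical
  have hFn : (Cfsg.fittingSubgroup Γ).Normal := inferInstance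
  have hFnil : Group.IsNilpotent (Cfsg.fittingSubgroup Γ) :=
    (fittingSubgroup_normal_nilpotent Γ).2
  set D : Subgroup Γ := H ⊓ Cfsg.fittingSubgroup Γ with hD
  have hDn : D.Normal := by
    have := hHn; have := hFn
    infer_instance
  have hDnil : Group.IsNilpotent D := by
    rw [Subgroup.isNilpotent_iff_lowerCentralSeries] at hFnil ⊢
    obtain ⟨c, hc⟩ := hFnil
    refine ⟨c, ?_⟩
    rw [eq_bot_iff, ← hc]
    exact Subgroup.lowerCentralSeries_mono c inf_le_right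
  refine ⟨D, inf_le_left, hDn, hDnil, ?_⟩
  -- the subgroup `S` of good elements
  set πD := QuotientGroup.mk' D with hπD
  set S : Subgroup Γ := H ⊓ (Subgroup.centralizer ({πD τ} : Set (Γ ⧸ D))).comap πD with hS
  have hSmem : ∀ g, g ∈ S ↔ g ∈ H ∧ g⁻¹ * τ * g * τ⁻¹ ∈ D := by
    intro g
    rw [hS, Subgroup.mem_inf, Subgroup.mem_comap, Subgroup.mem_centralizer_iff]
    refine and_congr Iff.rfl ?_
    rw [← QuotientGroup.eq_one_iff (N := D)]
    constructor
    · intro h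
      have h1 := h (πD τ) rfl
      change πD (g⁻¹ * τ * g * τ⁻¹) = 1
      simp only [map_mul, map_inv]
      rw [mul_assoc (πD g)⁻¹, h1]
      group
    · intro h x' hx'
      rw [Set.mem_singleton_iff] at hx'
      subst hx'
      change πD (g⁻¹ * τ * g * τ⁻¹) = 1 at h
      simp only [map_mul, map_inv] at h
      have : πD τ * πD g = πD g * ((πD g)⁻¹ * πD τ * πD g * (πD τ)⁻¹) * πD τ := by group
      rw [this, h, mul_one]
  have hcop : (Nat.card (Subgroup.zpowers x)).Coprime (Nat.card G) := by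
    have := PPS2.coprime_pow h 1
    rwa [pow_one] at this
  have hHS : H ≤ S := by
    apply Cfsg.Agent.Lib.Helper8.Ward.le_of_sylows_le
    intro l hl
    have : Fact l.Prime := ⟨hl⟩
    have hAK : Subgroup.zpowers x ≤ Subgroup.normalizer (H : Set Γ) := by
      rw [Subgroup.normalizer_eq_top]; exact le_top
    have hcop' : (Nat.card (Subgroup.zpowers x)).Coprime (Nat.card H) :=
      Nat.Coprime.coprime_dvd_right (Subgroup.card_dvd_of_le hHG) hcop
    obtain ⟨P, hP⟩ := Cfsg.Agent.Lib.Lead.coprime_invariant_sylow_exists (Subgroup.zpowers x) H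
      hAK hcop' (Or.inl inferInstance) l
    set Q : Subgroup Γ := (P : Subgroup H).map H.subtype with hQ
    have hQH : Q ≤ H := Subgroup.map_subtype_le _
    have hQp : IsPGroup l Q := P.2.map _
    have hxQ : ∀ u ∈ Q, x * u * x⁻¹ ∈ Q := by
      intro u hu
      have hx : x ∈ Subgroup.normalizer (Q : Set Γ) := hP (Subgroup.mem_zpowers x)
      exact (Subgroup.mem_normalizer_iff.mp hx u).mp hu
    have hτQ : ∀ u ∈ Q, τ * u * τ⁻¹ ∈ Q := by
      intro u hu
      have hτn : τ ∈ Subgroup.normalizer (Q : Set Γ) := hP hτ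
      exact (Subgroup.mem_normalizer_iff.mp hτn u).mp hu
    refine ⟨Q, hQH, ?_, (Cfsg.Agent.Lib.Lead.sylow_card_facts H l P).1⟩
    intro u hu
    rw [hSmem]
    refine ⟨hQH hu, ?_⟩
    have hcQ : u⁻¹ * τ * u * τ⁻¹ ∈ Q := by
      have h2 : u⁻¹ * τ * u * τ⁻¹ = u⁻¹ * (τ * u * τ⁻¹) := by group
      rw [h2]
      exact Q.mul_mem (Q.inv_mem hu) (hτQ u hu)
    rw [hD, Subgroup.mem_inf]
    refine ⟨hQH hcQ, ?_⟩
    apply mem_fitting_of_centralizes H₁ H h1H hnil hk l hl _ (hQH hcQ)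
    · obtain ⟨j, hj⟩ := hQp ⟨_, hcQ⟩
      refine ⟨j, ?_⟩
      have := congrArg Subtype.val hj
      simpa using this
    · intro q hq hql P' hPn hPH hPq u' hu'
      exact hcen l q hl hq hql Q hQH hQp hxQ P' hPn hPH hPq u hu u' hu'
  intro g hg
  exact ((hSmem g).mp (hHS hg)).2

end

end Cfsg.Agent.Lib.Helper3.GR2NN
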