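import Mathlib

set_option autoImplicit false

/-! # Fixed-point-free automorphisms of order three: generalities -/

namespace Cfsg.Agent.Lib.Helper3.S64

open scoped commutatorElement

variable {T : Type*} [Group T]

/-- an automorphism of order dividing three without nontrivial fixed points -/
structure Fpf3 (ρ : MulAut T) : Prop where
  cube : ∀ y : T, ρ (ρ (ρ y)) = y
  fpf : ∀ y : T, ρ y = y → y = 1

namespace Fpf3

variable {ρ : MulAut T}

theorem inj_twist (h : Fpf3 ρ) {a b : T} (hab : a⁻¹ * ρ a = b⁻¹ * ρ b) : a = b := by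
  have h1 : ρ (b * a⁻¹) = b * a⁻¹ := by
    rw [map_mul, map_inv]
    have h2 : ρ a = a * (b⁻¹ * ρ b) := by rw [← hab]; group
    have h3 : ρ b * (ρ a)⁻¹ = b * a⁻¹ := by rw [h2]; group
    exact h3
  have h2 := h.fpf _ h1
  have h3 : b = a := by
    calc b = b * a⁻¹ * a := by group
      _ = a := by rw [h2, one_mul]
  exact h3.symm

/-- on an invariant subgroup the twisted map is onto -/
theorem surj_twist_on [Finite T] (h : Fpf3 ρ) (N : Subgroup T) (hN : ∀ n ∈ N, ρ n ∈ N)
    (g : T) (hg : g ∈ N) : ∃ y ∈ N, g = y⁻¹ * ρ y := by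
  let f : N → N := fun y => ⟨(y : T)⁻¹ * ρ y, N.mul_mem (N.inv_mem y.2) (hN _ y.2)⟩
  have hf : Function.Injective f := by
    intro a b hab
    have := congrArg Subtype.val hab
    exact Subtype.ext (h.inj_twist this)
  have hs : Function.Surjective f := Finite.surjective_of_injective hf
  obtain ⟨y, hy⟩ := hs ⟨g, hg⟩
  exact ⟨y, y.2, (congrArg Subtype.val hy).symm⟩

theorem surj_twist [Finite T] (h : Fpf3 ρ) (g : T) : ∃ y, g = y⁻¹ * ρ y := by
  obtain ⟨y, -, hy⟩ := h.surj_twist_on ⊤ (fun _ _ => Subgroup.mem_top _) g (Subgroup.mem_top _)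
  exact ⟨y, hy⟩

theorem prod3 [Finite T] (h : Fpf3 ρ) (g : T) : g * ρ g * ρ (ρ g) = 1 := by
  obtain ⟨y, rfl⟩ := h.surj_twist g
  simp only [map_mul, map_inv, h.cube]
  group

theorem prod3' [Finite T] (h : Fpf3 ρ) (g : T) : ρ (ρ g) * ρ g * g = 1 := by
  have h1 := h.prod3 g⁻¹
  simp only [map_inv] at h1
  have h2 : (ρ (ρ g) * ρ g * g)⁻¹ = 1 := by
    rw [← h1]; group
  exact inv_eq_one.mp h2

theorem rho_sq_eq [Finite T] (h : Fpf3 ρ) (g : T) : ρ (ρ g) = (g * ρ g)⁻¹ := by
  have := h.prod3 g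
  exact eq_inv_of_mul_eq_one_right this

theorem rho_sq_eq' [Finite T] (h : Fpf3 ρ) (g : T) : ρ (ρ g) = (ρ g * g)⁻¹ := by
  have := h.prod3' g
  rw [mul_assoc] at this
  exact eq_inv_of_mul_eq_one_left this

/-- every element commutes with its image -/
theorem comm [Finite T] (h : Fpf3 ρ) (g : T) : g * ρ g = ρ g * g := by
  have h1 := h.rho_sq_eq g
  rw [h.rho_sq_eq' g] at h1
  exact (inv_injective h1).symm

theorem comm_sq [Finite T] (h : Fpf3 ρ) (g : T) : g * ρ (ρ g) = ρ (ρ g) * g := by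
  rw [h.rho_sq_eq g]
  have := h.comm g
  calc g * (g * ρ g)⁻¹ = g * (ρ g * g)⁻¹ := by rw [this]
    _ = (ρ g)⁻¹ := by group
    _ = (g * ρ g)⁻¹ * g := by group

/-- membership of the twist in an invariant subgroup forces membership -/
theorem mem_of_twist_mem [Finite T] (h : Fpf3 ρ) (N : Subgroup T) (hN : ∀ n ∈ N, ρ n ∈ N)
    (a : T) (ha : a⁻¹ * ρ a ∈ N) : a ∈ N := by
  obtain ⟨y, hy, hya⟩ := h.surj_twist_on N hN _ ha
  rw [h.inj_twist hya]
  exact hy

/-- invariant subgroups have order congruent to one modulo three -/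
theorem card_mod [Finite T] (h : Fpf3 ρ) (N : Subgroup T) (hN : ∀ n ∈ N, ρ n ∈ N) :
    Nat.card N % 3 = 1 := by
  classical
  have : Fintype N := Fintype.ofFinite N
  have : Fact (Nat.Prime 3) := ⟨Nat.prime_three⟩
  let f : Function.End N := fun y => ⟨ρ y, hN _ y.2⟩
  have hf : f ^ 3 ^ 1 = 1 := by
    funext y
    apply Subtype.ext
    show ρ (ρ (ρ (y : T))) = y
    exact h.cube _
  have h1 := Equiv.Perm.card_fixedPoints_modEq (p := 3) (n := 1) (f := f) hf
  have h2 : Fintype.card (Function.fixedPoints f) = 1 := by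
    rw [Fintype.card_eq_one_iff]
    refine ⟨⟨1, ?_⟩, ?_⟩
    · show f 1 = 1
      apply Subtype.ext
      show ρ ((1 : N) : T) = ((1 : N) : T)
      simp
    · rintro ⟨y, hy⟩
      apply Subtype.ext
      apply Subtype.ext
      have : ρ (y : T) = y := congrArg Subtype.val hy
      exact h.fpf _ this
  rw [h2, ← Nat.card_eq_fintype_card] at h1
  exact h1

end Fpf3

end Cfsg.Agent.Lib.Helper3.S64
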