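import Mathlib
import Cfsg.Agent.Lib.Helper2.OmMin.Defs

set_option autoImplicit false
set_option linter.unusedSectionVars false
set_option linter.unusedVariables false

/-!
# S2346, package PK-COUNT: counting in `HQ` coordinates
-/

namespace Cfsg.Agent.Lib.Helper2.OmMin

open Matrix Cfsg Cfsg.Agent.Lib.Helper2.HypExt Cfsg.Agent.Lib.Helper2.Siegel
open scoped ComplexConjugate

universe u

section PKCOUNT
variable {F : Type u} [Field F] [Fintype F] [DecidableEq F] {κ : Type} [Fintype κ] [DecidableEq κ]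

namespace PkCOUNT

/-- coordinates `(x₀, x₁, tail)` -/
def e3 : (Fin 2 ⊕ κ → F) ≃ F × F × (κ → F) where
  toFun v := (v (Sum.inl 0), v (Sum.inl 1), tl v)
  invFun p := mk3 p.1 p.2.1 p.2.2
  left_inv v := mk3_eta v
  right_inv p := rfl

theorem sum_mk3 {M : Type*} [AddCommMonoid M] (f : (Fin 2 ⊕ κ → F) → M) :
    ∑ v, f v = ∑ a : F, ∑ b : F, ∑ t : κ → F, f (mk3 a b t) := by
  rw [← Equiv.sum_comp (e3 (F := F) (κ := κ)).symm f, Fintype.sum_prod_type]
  refine Finset.sum_congr rfl (fun a _ => ?_)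
  rw [Fintype.sum_prod_type]
  rfl

theorem card_erase_zero : (Finset.univ.erase (0 : F)).card = Fintype.card F - 1 := by
  rw [Finset.card_erase_of_mem (Finset.mem_univ _), Finset.card_univ]

/-- `#{a | a * b = s} = 1` for `b ≠ 0` -/
theorem sum_lin {b : F} (hb : b ≠ 0) (s : F) : ∑ a : F, (if a * b = s then 1 else 0 : ℕ) = 1 := by
  have e : ∀ a : F, (a * b = s) ↔ (a = s * b⁻¹) := by
    intro a
    constructor
    · intro h
      rw [← h, mul_assoc, mul_inv_cancel₀ hb, mul_one]
    · intro h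
      rw [h, mul_assoc, inv_mul_cancel₀ hb, mul_one]
  simp only [e]
  rw [Finset.sum_ite_eq' Finset.univ (s * b⁻¹)]
  simp

/-- `#{(a,b) | a * b = s} = (q - 1) + [s = 0] q` -/
theorem sum_mul_eq (s : F) :
    ∑ a : F, ∑ b : F, (if a * b = s then 1 else 0 : ℕ) =
      (Fintype.card F - 1) + if s = 0 then Fintype.card F else 0 := by
  rw [Finset.sum_comm]
  have h : ∀ b : F, ∑ a : F, (if a * b = s then 1 else 0 : ℕ) =
      if b = 0 then (if s = 0 then Fintype.card F else 0) else 1 := by
    intro b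
    by_cases hb : b = 0
    · rw [if_pos hb]
      subst hb
      simp only [mul_zero]
      by_cases hs : s = 0
      · subst hs
        simp
      · rw [if_neg hs]
        simp [Ne.symm hs]
    · rw [if_neg hb]
      exact sum_lin hb s
  rw [Finset.sum_congr rfl (fun b _ => h b), ← Finset.add_sum_erase Finset.univ _ (Finset.mem_univ (0 : F)),
    if_pos rfl, add_comm]
  congr 1
  rw [Finset.sum_congr rfl (fun b hb => if_neg (Finset.ne_of_mem_erase hb)), Finset.sum_const, card_erase_zero,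
    smul_eq_mul, mul_one]

/-- the full level sets (zero vector included) -/
theorem card_level {ι : Type} [Fintype ι] [DecidableEq ι] (Q : QuadraticForm F (ι → F)) (c : F) :
    (Finset.univ.filter fun v : ι → F => Q v = c).card = nrm Q c + if c = 0 then 1 else 0 := by
  have h1 : nrm Q c = (Finset.univ.filter fun v : ι → F => v ≠ 0 ∧ Q v = c).card := by
    unfold nrm
    rw [Nat.card_eq_fintype_card, Fintype.card_subtype]
  rw [h1, ← Finset.card_filter_add_card_filter_not (s := Finset.univ.filter fun v : ι → F => Q v = c)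
    (fun v : ι → F => v ≠ 0), Finset.filter_filter, Finset.filter_filter]
  congr 1
  · congr 1
    apply Finset.filter_congr
    intro v _
    exact and_comm
  · by_cases hc : c = 0
    · rw [if_pos hc]
      subst hc
      rw [Finset.card_eq_one]
      refine ⟨0, ?_⟩
      ext v
      simp only [Finset.mem_filter, Finset.mem_univ, true_and, not_not, Finset.mem_singleton]
      constructor
      · exact fun h => h.2
      · intro h
        subst h
        exact ⟨map_zero _, rfl⟩
    · rw [if_neg hc, Finset.card_eq_zero, Finset.filter_eq_empty_iff]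
      intro v _ h
      rw [not_not] at h
      apply hc
      rw [← h.1, h.2, map_zero]

/-- the level sets of `HQ W` -/
theorem card_level_HQ (W : QuadraticForm F (κ → F)) (c : F) :
    (Finset.univ.filter fun v : Fin 2 ⊕ κ → F => HQ W v = c).card =
      (Fintype.card F - 1) * Fintype.card F ^ Fintype.card κ +
        Fintype.card F * (Finset.univ.filter fun t : κ → F => W t = c).card := by
  rw [Finset.card_filter, sum_mk3 (M := ℕ)]
  have h1 : ∀ a b : F, ∀ t : κ → F, (if HQ W (mk3 a b t) = c then 1 else 0 : ℕ) =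
      if a * b = c - W t then 1 else 0 := by
    intro a b t
    rw [HQ_apply, mk3_zero, mk3_one, tl_mk3]
    congr 1
    exact propext eq_sub_iff_add_eq.symm
  simp only [h1]
  have h2 : ∑ a : F, ∑ b : F, ∑ t : κ → F, (if a * b = c - W t then 1 else 0 : ℕ) =
      ∑ t : κ → F, ∑ a : F, ∑ b : F, (if a * b = c - W t then 1 else 0 : ℕ) := by
    have h2' : ∀ a : F, ∑ b : F, ∑ t : κ → F, (if a * b = c - W t then 1 else 0 : ℕ) =
        ∑ t : κ → F, ∑ b : F, (if a * b = c - W t then 1 else 0 : ℕ) := fun a => Finset.sum_comm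
    rw [Finset.sum_congr rfl (fun a _ => h2' a), Finset.sum_comm]
  rw [h2]
  simp only [sum_mul_eq]
  rw [Finset.sum_add_distrib, Finset.sum_const, Finset.card_univ, Fintype.card_fun, smul_eq_mul, mul_comm]
  congr 1
  rw [Finset.card_filter, Finset.mul_sum]
  refine Finset.sum_congr rfl (fun t _ => ?_)
  by_cases h : W t = c
  · rw [if_pos h, if_pos (by rw [h, sub_self]), mul_one]
  · rw [if_neg h, if_neg (fun h' => h (sub_eq_zero.mp h').symm), mul_zero]

end PkCOUNT

open PkCOUNT

/-- C3: the norm-class sizes of `HQ W` -/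
theorem nrm_HQ (W : QuadraticForm F (κ → F)) (c : F) :
    nrm (HQ W) c = (Fintype.card F - 1) * Fintype.card F ^ Fintype.card κ +
      Fintype.card F * nrm W c + (if c = 0 then Fintype.card F - 1 else 0) := by
  have h1 := card_level (HQ W) c
  have h2 := card_level W c
  have h3 := card_level_HQ W c
  rw [h1, h2] at h3
  have hq : 1 ≤ Fintype.card F := Fintype.card_pos
  by_cases hc : c = 0
  · rw [if_pos hc] at h3 ⊢
    rw [mul_add, mul_one] at h3
    omega
  · rw [if_neg hc] at h3 ⊢
    rw [add_zero] at h3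
    rw [add_zero] at h3
    rw [add_zero]
    exact h3

/-- C1: the level formula.  `h = mk3 1 0 0` is the first hyperbolic vector of `HQ W₂`;
`f(u, h) = u (inl 1)`. -/
theorem sum_level (W₂ : QuadraticForm F (κ → F)) (ψ0 : AddChar F ℂ) (hψ0 : ψ0 ≠ 1) (c : F) :
    ∑ u ∈ (Finset.univ.filter fun u : Fin 2 ⊕ κ → F => u ≠ 0 ∧ HQ W₂ u = c),
        (1 - ψ0 (u (Sum.inl 1))) = (Fintype.card F : ℂ) ^ (Fintype.card κ + 1) := by
  -- drop the condition `u ≠ 0`
  have h0 : ∑ u ∈ (Finset.univ.filter fun u : Fin 2 ⊕ κ → F => u ≠ 0 ∧ HQ W₂ u = c),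
      (1 - ψ0 (u (Sum.inl 1))) =
      ∑ u : Fin 2 ⊕ κ → F, if HQ W₂ u = c then (1 - ψ0 (u (Sum.inl 1))) else 0 := by
    rw [Finset.sum_filter]
    refine Finset.sum_congr rfl (fun u _ => ?_)
    by_cases hu : u = 0
    · subst hu
      simp
    · simp [hu]
  rw [h0, sum_mk3]
  have h1 : ∀ a b : F, ∀ t : κ → F,
      (if HQ W₂ (mk3 a b t) = c then (1 - ψ0 ((mk3 a b t : Fin 2 ⊕ κ → F) (Sum.inl 1))) else 0 : ℂ) =
      (1 - ψ0 b) * ((if a * b = c - W₂ t then 1 else 0 : ℕ) : ℂ) := by
    intro a b t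
    rw [HQ_apply, mk3_zero, mk3_one, tl_mk3]
    by_cases h : a * b + W₂ t = c
    · rw [if_pos h, if_pos (eq_sub_iff_add_eq.mpr h), Nat.cast_one, mul_one]
    · rw [if_neg h, if_neg (fun h' => h (eq_sub_iff_add_eq.mp h')), Nat.cast_zero, mul_zero]
  simp only [h1]
  rw [Finset.sum_comm]
  have h2 : ∀ b : F, ∑ a : F, ∑ t : κ → F, (1 - ψ0 b) * ((if a * b = c - W₂ t then 1 else 0 : ℕ) : ℂ) =
      (1 - ψ0 b) * (Fintype.card F : ℂ) ^ Fintype.card κ := by
    intro b
    by_cases hb : b = 0
    · subst hb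
      simp
    · rw [Finset.sum_comm]
      simp only [← Finset.mul_sum, ← Nat.cast_sum, sum_lin hb]
      rw [Finset.sum_const, Finset.card_univ, Fintype.card_fun, smul_eq_mul, mul_one, Nat.cast_pow]
  rw [Finset.sum_congr rfl (fun b _ => h2 b), ← Finset.sum_mul, Finset.sum_sub_distrib, Finset.sum_const,
    Finset.card_univ, AddChar.sum_eq_zero_iff_ne_zero.mpr hψ0, sub_zero, nsmul_eq_mul, mul_one, pow_succ, mul_comm]

/-- C2: the vectors of norm `c` fixed by the long root element `E_{h,h₂}` of `HQ (HQ W₄)` are those with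
`u (inl 1) = 0` and `tl u (inl 1) = 0`; the others number `(q²-1) q^(|κ|+1)` -/
theorem card_not_fix (W₄ : QuadraticForm F (κ → F)) (c : F) :
    (Finset.univ.filter fun u : Fin 2 ⊕ (Fin 2 ⊕ κ) → F =>
        (u ≠ 0 ∧ HQ (HQ W₄) u = c) ∧ ¬ (u (Sum.inl 1) = 0 ∧ tl u (Sum.inl 1) = 0)).card =
      (Fintype.card F ^ 2 - 1) * Fintype.card F ^ (Fintype.card κ + 1) := by
  rw [Finset.card_filter, sum_mk3 (M := ℕ)]
  simp only [sum_mk3 (κ := κ) (M := ℕ)]
  have h1 : ∀ (a b a' b' : F) (t : κ → F),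
      (if ((mk3 a b (mk3 a' b' t) : Fin 2 ⊕ (Fin 2 ⊕ κ) → F) ≠ 0 ∧
        HQ (HQ W₄) (mk3 a b (mk3 a' b' t)) = c) ∧
        ¬ ((mk3 a b (mk3 a' b' t) : Fin 2 ⊕ (Fin 2 ⊕ κ) → F) (Sum.inl 1) = 0 ∧
          tl (mk3 a b (mk3 a' b' t)) (Sum.inl 1) = 0) then 1 else 0 : ℕ) =
      if (b, b') ≠ (0, 0) then (if a * b + a' * b' = c - W₄ t then 1 else 0) else 0 := by
    intro a b a' b' t
    rw [HQ_apply, HQ_apply]
    simp only [mk3_zero, mk3_one, tl_mk3, ne_eq, Prod.mk.injEq]
    by_cases hbb : b = 0 ∧ b' = 0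
    · simp [hbb]
    · rw [if_pos hbb]
      have hne : ¬ ((mk3 a b (mk3 a' b' t) : Fin 2 ⊕ (Fin 2 ⊕ κ) → F) = 0) := by
        intro h
        apply hbb
        constructor
        · have := congrFun h (Sum.inl 1)
          simpa using this
        · have := congrFun h (Sum.inr (Sum.inl 1))
          simpa using this
      have e : (a * b + (a' * b' + W₄ t) = c) ↔ (a * b + a' * b' = c - W₄ t) := by
        rw [eq_sub_iff_add_eq, add_assoc]
      simp only [hne, not_false_eq_true, true_and, hbb, and_true, e]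
  simp only [h1]
  -- reorder: `b, b', t` outside, `a, a'` inside
  have h2 : ∀ b b' : F, ∀ t : κ → F, (b, b') ≠ (0, 0) →
      ∑ a : F, ∑ a' : F, (if a * b + a' * b' = c - W₄ t then 1 else 0 : ℕ) = Fintype.card F := by
    intro b b' t hbb
    by_cases hb : b = 0
    · have hb' : b' ≠ 0 := fun h => hbb (by rw [hb, h])
      subst hb
      simp only [mul_zero, zero_add, sum_lin hb', Finset.sum_const, Finset.card_univ, smul_eq_mul, mul_one]
    · rw [Finset.sum_comm]
      have e : ∀ a a' : F, (a * b + a' * b' = c - W₄ t) ↔ (a * b = c - W₄ t - a' * b') := fun a a' =>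
        eq_sub_iff_add_eq.symm
      simp only [e, sum_lin hb, Finset.sum_const, Finset.card_univ, smul_eq_mul, mul_one]
  have h3 : ∑ a : F, ∑ b : F, ∑ a' : F, ∑ b' : F, ∑ t : κ → F,
      (if (b, b') ≠ (0, 0) then (if a * b + a' * b' = c - W₄ t then 1 else 0) else 0 : ℕ) =
      ∑ p : F × F, ∑ t : κ → F, if p ≠ (0, 0) then Fintype.card F else 0 := by
    rw [Fintype.sum_prod_type]
    rw [Finset.sum_comm]
    refine Finset.sum_congr rfl (fun b _ => ?_)
    have : ∀ a : F, ∑ a' : F, ∑ b' : F, ∑ t : κ → F,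
        (if (b, b') ≠ (0, 0) then (if a * b + a' * b' = c - W₄ t then 1 else 0) else 0 : ℕ) =
        ∑ b' : F, ∑ t : κ → F, ∑ a' : F,
        (if (b, b') ≠ (0, 0) then (if a * b + a' * b' = c - W₄ t then 1 else 0) else 0 : ℕ) := by
      intro a
      rw [Finset.sum_comm]
      refine Finset.sum_congr rfl (fun b' _ => ?_)
      rw [Finset.sum_comm]
    rw [Finset.sum_congr rfl (fun a _ => this a), Finset.sum_comm]
    refine Finset.sum_congr rfl (fun b' _ => ?_)
    rw [Finset.sum_comm]
    refine Finset.sum_congr rfl (fun t _ => ?_)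
    by_cases hbb : (b, b') ≠ (0, 0)
    · simp only [if_pos hbb]
      exact h2 b b' t hbb
    · simp only [if_neg hbb, Finset.sum_const_zero]
  rw [h3]
  simp only [Finset.sum_const, Finset.card_univ, Fintype.card_fun, smul_eq_mul]
  rw [← Finset.add_sum_erase Finset.univ _ (Finset.mem_univ ((0, 0) : F × F)), if_neg (by simp), mul_zero, zero_add,
    Finset.sum_congr rfl (fun p hp => by rw [if_pos (Finset.ne_of_mem_erase hp)]), Finset.sum_const,
    Finset.card_erase_of_mem (Finset.mem_univ _), Finset.card_univ, Fintype.card_prod, smul_eq_mul, sq,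
    pow_succ]

end PKCOUNT

end Cfsg.Agent.Lib.Helper2.OmMin
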