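import Mathlib
import Cfsg.Prelude.Def_Characters
import Cfsg.Agent.Lib.Helper2.OmMin.Defs
import Cfsg.Agent.Lib.Helper4.Characters
import Cfsg.Agent.Lib.Helper3.SLMin_A

set_option autoImplicit false
set_option linter.unusedSectionVars false

/-!
# S2346, package PK-ABS2: module-level lemmas for the averaging operators `avgOp`
-/

namespace Cfsg.Agent.Lib.Helper2.OmMin

open Matrix Cfsg Cfsg.Agent.Lib.Helper2.HypExt Cfsg.Agent.Lib.Helper2.Siegel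
open Cfsg.Agent.Lib.Helper2.LongRoot Cfsg.Agent.Lib.Helper1.SUMin Cfsg.Agent.Lib.Helper4.SLMin
open Cfsg.Agent.Lib.Helper4.SLMin.PkA
open scoped ComplexConjugate

universe u

section ABS2
variable {G : Type u} [Group G] [Fintype G] {A : Type u} [AddCommGroup A] [Fintype A]
variable {k : ℕ} (ρ : Representation ℂ G (Fin k → ℂ))

namespace PkABS2

theorem zeta_zero (ζ : A → G) (hζ : ∀ a b, ζ (a + b) = ζ a * ζ b) : ζ 0 = 1 := by
  have h := hζ 0 0
  rw [add_zero] at h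
  exact (mul_eq_left.mp h.symm)

theorem conj_mul_self (ψ : AddChar A ℂ) (a : A) : conj (ψ a) * ψ a = 1 := by
  rw [← AddChar.map_neg_eq_conj, ← AddChar.map_add_eq_mul, neg_add_cancel, AddChar.map_zero_eq_one]

theorem avgOp_apply (ζ : A → G) (ψ : AddChar A ℂ) (x : Fin k → ℂ) :
    avgOp ρ ζ ψ x = (Fintype.card A : ℂ)⁻¹ • ∑ a : A, conj (ψ a) • ρ (ζ a) x := by
  unfold avgOp
  rw [LinearMap.smul_apply, LinearMap.sum_apply]
  rfl

/-- the trace of the projection is the multiplicity -/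
theorem trace_avgOp (ζ : A → G) (ψ : AddChar A ℂ) :
    LinearMap.trace ℂ (Fin k → ℂ) (avgOp ρ ζ ψ) = isoAvg ζ ψ ρ.character 1 := by
  have := trace_avgOp_mul ρ ζ ψ 1
  rwa [map_one, mul_one] at this

/-- the rank of the projection is the multiplicity -/
theorem finrank_range_avgOp (ζ : A → G) (hζ : ∀ a b, ζ (a + b) = ζ a * ζ b) (ψ : AddChar A ℂ) :
    (Module.finrank ℂ (LinearMap.range (avgOp ρ ζ ψ)) : ℂ) = isoAvg ζ ψ ρ.character 1 := by
  have hidem : IsIdempotentElem (avgOp ρ ζ ψ) := avgOp_mul_self ρ ζ hζ ψ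
  have hproj := LinearMap.IsIdempotentElem.isProj_range (avgOp ρ ζ ψ) hidem
  rw [← hproj.trace, trace_avgOp]

end PkABS2

open PkABS2

theorem avgOp_sum (ζ : A → G) (hζ : ∀ a b, ζ (a + b) = ζ a * ζ b) :
    ∑ ψ : AddChar A ℂ, avgOp ρ ζ ψ = 1 := by
  classical
  unfold avgOp
  rw [← Finset.smul_sum, Finset.sum_comm]
  have h1 : ∀ a : A, ∑ ψ : AddChar A ℂ, conj (ψ a) • ρ (ζ a) =
      (if a = 0 then (Fintype.card A : ℂ) else 0) • ρ (ζ a) := by
    intro a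
    rw [← Finset.sum_smul]
    congr 1
    have e : ∀ ψ : AddChar A ℂ, conj (ψ a) = ψ (-a) := fun ψ => (AddChar.map_neg_eq_conj ψ a).symm
    rw [Finset.sum_congr rfl (fun ψ _ => e ψ), AddChar.sum_apply_eq_ite]
    simp only [neg_eq_zero]
  rw [Finset.sum_congr rfl (fun a _ => h1 a)]
  rw [Finset.sum_eq_single 0]
  · rw [if_pos rfl, smul_smul, inv_mul_cancel₀ card_ne_zero, one_smul, zeta_zero ζ hζ, map_one]
  · intro b _ hb
    rw [if_neg hb, zero_smul]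
  · intro h
    exact absurd (Finset.mem_univ _) h

theorem avgOp_eigen (ζ : A → G) (hζ : ∀ a b, ζ (a + b) = ζ a * ζ b) (ψ : AddChar A ℂ) (a : A)
    (x : Fin k → ℂ) : ρ (ζ a) (avgOp ρ ζ ψ x) = ψ a • avgOp ρ ζ ψ x := by
  rw [avgOp_apply, map_smul, map_sum, smul_comm]
  congr 1
  rw [Finset.smul_sum]
  rw [← Fintype.sum_equiv (Equiv.addLeft a) (fun b => ρ (ζ a) (conj (ψ b) • ρ (ζ b) x))
    (fun c => ψ a • conj (ψ c) • ρ (ζ c) x)]
  intro b
  rw [Equiv.coe_addLeft, map_smul, hζ, map_mul, smul_smul, AddChar.map_add_eq_mul, map_mul, ← mul_assoc,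
    mul_comm (ψ a), conj_mul_self, one_mul]
  rfl

theorem avgOp_of_eigen (ζ : A → G) (ψ : AddChar A ℂ) (x : Fin k → ℂ)
    (hx : ∀ a, ρ (ζ a) x = ψ a • x) : avgOp ρ ζ ψ x = x := by
  rw [avgOp_apply]
  have h1 : ∀ a : A, conj (ψ a) • ρ (ζ a) x = x := by
    intro a
    rw [hx, smul_smul, conj_mul_self, one_smul]
  rw [Finset.sum_congr rfl (fun a _ => h1 a), Finset.sum_const, Finset.card_univ,
    ← Nat.cast_smul_eq_nsmul ℂ, smul_smul, inv_mul_cancel₀ card_ne_zero, one_smul]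

theorem avgOp_conj (ζ ζ' : A → G) (n : G) (σ : A ≃+ A) (hn : ∀ a, n * ζ a * n⁻¹ = ζ' (σ a))
    (ψ ψ' : AddChar A ℂ) (hψ : ∀ a, ψ' (σ a) = ψ a) :
    ρ n * avgOp ρ ζ ψ = avgOp ρ ζ' ψ' * ρ n := by
  unfold avgOp
  rw [mul_smul_comm, smul_mul_assoc, Finset.mul_sum, Finset.sum_mul]
  congr 1
  rw [← Fintype.sum_equiv σ.toEquiv (fun a => ρ n * (conj (ψ a) • ρ (ζ a)))
    (fun a => (conj (ψ' a) • ρ (ζ' a)) * ρ n)]
  intro a
  have e : n * ζ a = ζ' (σ a) * n := by rw [← hn a]; group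
  rw [AddEquiv.toEquiv_eq_coe, AddEquiv.coe_toEquiv, mul_smul_comm, smul_mul_assoc, ← map_mul, ← map_mul, e, hψ]

/-- if `ψ` has multiplicity one and `tr (ρ s P) = 1` for an element `s` of the stabiliser, then `s`
acts trivially on the eigenline -/
theorem avgOp_line (ζ : A → G) (hζ : ∀ a b, ζ (a + b) = ζ a * ζ b) (ψ : AddChar A ℂ)
    (h1 : isoAvg ζ ψ ρ.character 1 = 1) {s : G} (hs : s ∈ invStab ζ ψ)
    (hs1 : isoAvg ζ ψ ρ.character s = 1) : ρ s * avgOp ρ ζ ψ = avgOp ρ ζ ψ := by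
  have hfr : Module.finrank ℂ (LinearMap.range (avgOp ρ ζ ψ)) = 1 := by
    have := finrank_range_avgOp ρ ζ hζ ψ
    rw [h1] at this
    exact_mod_cast this
  obtain ⟨⟨v, hv⟩, -, hspan⟩ := finrank_eq_one_iff'.mp hfr
  have hcomm := avgOp_comm ρ ζ ψ hs
  have hPP := avgOp_mul_self ρ ζ hζ ψ
  -- `ρ s v` lies in the range
  have hsv : ρ s v ∈ LinearMap.range (avgOp ρ ζ ψ) := by
    obtain ⟨x, rfl⟩ := hv
    refine ⟨ρ s x, ?_⟩
    have := congrArg (fun f : Module.End ℂ (Fin k → ℂ) => f x) hcomm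
    exact this.symm
  obtain ⟨μ, hμ⟩ := hspan ⟨ρ s v, hsv⟩
  have hμ' : μ • v = ρ s v := congrArg Subtype.val hμ
  -- `ρ s * P = μ • P`
  have hmul : ρ s * avgOp ρ ζ ψ = μ • avgOp ρ ζ ψ := by
    apply LinearMap.ext
    intro x
    obtain ⟨c, hc⟩ := hspan ⟨avgOp ρ ζ ψ x, ⟨x, rfl⟩⟩
    have hc' : c • v = avgOp ρ ζ ψ x := congrArg Subtype.val hc
    show ρ s (avgOp ρ ζ ψ x) = μ • avgOp ρ ζ ψ x
    rw [← hc', map_smul, ← hμ', smul_comm]
  have htr : LinearMap.trace ℂ (Fin k → ℂ) (ρ s * avgOp ρ ζ ψ) = 1 := by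
    rw [hcomm, trace_avgOp_mul, hs1]
  rw [hmul, map_smul, trace_avgOp, h1, smul_eq_mul, mul_one] at htr
  rw [hmul, htr, one_smul]

/-- the dimension of the fixed space is the multiplicity of the trivial character -/
theorem finrank_fixed (ζ : A → G) (hζ : ∀ a b, ζ (a + b) = ζ a * ζ b)
    (X₀ : Submodule ℂ (Fin k → ℂ)) (hX₀ : ∀ x, x ∈ X₀ ↔ ∀ a, ρ (ζ a) x = x) :
    (Module.finrank ℂ X₀ : ℂ) = isoAvg ζ 1 ρ.character 1 := by
  have hX : X₀ = LinearMap.range (avgOp ρ ζ (1 : AddChar A ℂ)) := by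
    ext x
    rw [hX₀]
    constructor
    · intro hx
      refine ⟨x, avgOp_of_eigen ρ ζ 1 x (fun a => ?_)⟩
      rw [hx a, AddChar.one_apply, one_smul]
    · rintro ⟨y, rfl⟩ a
      rw [avgOp_eigen ρ ζ hζ, AddChar.one_apply, one_smul]
  rw [hX, finrank_range_avgOp ρ ζ hζ]
  rfl

/-- an element of the normaliser with `χ₀ g ≠ χ₀ 1` moves some fixed vector -/
theorem exists_moved (ζ : A → G) (hζ : ∀ a b, ζ (a + b) = ζ a * ζ b) (g : G)
    (hg : isoAvg ζ 1 ρ.character g ≠ isoAvg ζ 1 ρ.character 1) :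
    ∃ x : Fin k → ℂ, (∀ a, ρ (ζ a) x = x) ∧ ρ g x ≠ x := by
  by_contra hcon
  push Not at hcon
  apply hg
  have hmul : ρ g * avgOp ρ ζ (1 : AddChar A ℂ) = avgOp ρ ζ (1 : AddChar A ℂ) := by
    apply LinearMap.ext
    intro x
    show ρ g (avgOp ρ ζ 1 x) = avgOp ρ ζ 1 x
    apply hcon
    intro a
    rw [avgOp_eigen ρ ζ hζ, AddChar.one_apply, one_smul]
  have e1 : isoAvg ζ 1 ρ.character g = isoAvg ζ ((1 : AddChar A ℂ) : A → ℂ) ρ.character g := rfl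
  have e2 : isoAvg ζ 1 ρ.character 1 = isoAvg ζ ((1 : AddChar A ℂ) : A → ℂ) ρ.character 1 := rfl
  rw [e1, e2, ← trace_avgOp_mul, LinearMap.trace_mul_comm, hmul, trace_avgOp]

end ABS2

end Cfsg.Agent.Lib.Helper2.OmMin
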