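import Mathlib
import Cfsg.Prelude.Def_Characters
import Cfsg.Agent.Lib.Helper2.OmMin.Defs
import Cfsg.Agent.Lib.Helper4.Characters
import Cfsg.Agent.Lib.Helper3.SLMin_A
import Cfsg.Agent.Lib.Helper3.OmMin_ABS2

set_option autoImplicit false
set_option linter.unusedSectionVars false
set_option linter.unusedVariables false

/-!
# S2346, package PK-OPP: the opposite-radical argument
-/

namespace Cfsg.Agent.Lib.Helper2.OmMin

open Matrix Cfsg Cfsg.Agent.Lib.Helper2.HypExt Cfsg.Agent.Lib.Helper2.Siegel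
open Cfsg.Agent.Lib.Helper2.LongRoot Cfsg.Agent.Lib.Helper1.SUMin Cfsg.Agent.Lib.Helper4.SLMin
open Cfsg.Agent.Lib.Helper4.SLMin.PkA
open scoped ComplexConjugate

universe u

section OPP
variable {G : Type u} [Group G] [Fintype G] {A : Type u} [AddCommGroup A] [Fintype A]
variable {k : ℕ} (ρ : Representation ℂ G (Fin k → ℂ))

open PkABS2

/-- `Y` is a nonzero `L`-stable subspace of the fixed space of `ζ A`; no nonzero vector is fixed by both
`ζ A` and `ζ' A`; every nontrivial character of `ζ' A` occurring in `ρ` is `L`-conjugate to `lam`; `lam`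
has multiplicity one; the parametrised subgroup `η B ≤ L` stabilises `lam` and acts trivially on its
eigenline.  Then `Y` contains a nonzero vector fixed by `η B`. -/
theorem opp_fixed (ζ ζ' : A → G) (hζ : ∀ a b, ζ (a + b) = ζ a * ζ b)
    (hζ' : ∀ a b, ζ' (a + b) = ζ' a * ζ' b)
    (hgen : ∀ x : Fin k → ℂ, (∀ a, ρ (ζ a) x = x) → (∀ a, ρ (ζ' a) x = x) → x = 0)
    (L : Subgroup G) (Y : Submodule ℂ (Fin k → ℂ)) (hY0 : Y ≠ ⊥)
    (hYfix : ∀ y ∈ Y, ∀ a, ρ (ζ a) y = y) (hYL : ∀ l ∈ L, ∀ y ∈ Y, ρ l y ∈ Y)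
    (lam : AddChar A ℂ)
    (horb : ∀ ψ : AddChar A ℂ, ψ ≠ 1 → isoAvg ζ' ψ ρ.character 1 ≠ 0 →
      ∃ l ∈ L, ∃ τ : A ≃+ A, (∀ a, l * ζ' a * l⁻¹ = ζ' (τ a)) ∧ ∀ a, lam (τ a) = ψ a)
    (h1 : isoAvg ζ' lam ρ.character 1 = 1)
    {B : Type u} [AddCommGroup B] [Fintype B] (η : B → G) (hη : ∀ a b, η (a + b) = η a * η b)
    (hηL : ∀ b, η b ∈ L) (hηstab : ∀ b, η b ∈ invStab ζ' lam)
    (hη1 : ∀ b, isoAvg ζ' lam ρ.character (η b) = 1) :
    ∃ y ∈ Y, y ≠ 0 ∧ ∀ b, ρ (η b) y = y := by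
  classical
  obtain ⟨y, hyY, hy0⟩ := (Submodule.ne_bot_iff Y).mp hY0
  -- some nontrivial character of `ζ' A` has a nonzero component in `y`
  have hex : ∃ ψ : AddChar A ℂ, ψ ≠ 1 ∧ avgOp ρ ζ' ψ y ≠ 0 := by
    by_contra hcon
    push Not at hcon
    apply hy0
    apply hgen y (hYfix y hyY)
    have hsum : y = avgOp ρ ζ' 1 y := by
      have h := congrArg (fun f : Module.End ℂ (Fin k → ℂ) => f y) (avgOp_sum ρ ζ' hζ')
      simp only [LinearMap.sum_apply] at h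
      rw [Finset.sum_eq_single (1 : AddChar A ℂ)] at h
      · exact h.symm
      · intro ψ _ hψ
        exact hcon ψ hψ
      · intro h'
        exact absurd (Finset.mem_univ _) h'
    intro a
    rw [hsum, avgOp_eigen ρ ζ' hζ', AddChar.one_apply, one_smul]
  obtain ⟨ψ, hψ1, hψy⟩ := hex
  -- `ψ` occurs in `ρ`
  have hocc : isoAvg ζ' ψ ρ.character 1 ≠ 0 := by
    intro h0
    apply hψy
    have hfr : Module.finrank ℂ (LinearMap.range (avgOp ρ ζ' ψ)) = 0 := by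
      have := finrank_range_avgOp ρ ζ' hζ' ψ
      rw [h0] at this
      exact_mod_cast this
    have hbot : LinearMap.range (avgOp ρ ζ' ψ) = ⊥ := Submodule.finrank_eq_zero.mp hfr
    have hz : avgOp ρ ζ' ψ = 0 := LinearMap.range_eq_bot.mp hbot
    rw [hz]
    rfl
  obtain ⟨l, hlL, τ, hlτ, hlam⟩ := horb ψ hψ1 hocc
  have hconj := avgOp_conj ρ ζ' ζ' l τ hlτ ψ lam hlam
  -- `y₁ = ρ l y` has a nonzero `lam`-component
  have hy1 : avgOp ρ ζ' lam (ρ l y) ≠ 0 := by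
    have h := congrArg (fun f : Module.End ℂ (Fin k → ℂ) => f y) hconj
    have h' : ρ l (avgOp ρ ζ' ψ y) = avgOp ρ ζ' lam (ρ l y) := h
    rw [← h']
    intro h0
    apply hψy
    have h2 : ρ l⁻¹ (ρ l (avgOp ρ ζ' ψ y)) = avgOp ρ ζ' ψ y := by
      rw [← Module.End.mul_apply, ← map_mul, inv_mul_cancel, map_one]
      rfl
    rw [← h2, h0, map_zero]
  have hy1Y : ρ l y ∈ Y := hYL l hlL y hyY
  refine ⟨∑ b : B, ρ (η b) (ρ l y), Submodule.sum_mem _ (fun b _ => hYL _ (hηL b) _ hy1Y), ?_, ?_⟩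
  · intro h0
    have h2 : avgOp ρ ζ' lam (∑ b : B, ρ (η b) (ρ l y)) = (Fintype.card B : ℂ) • avgOp ρ ζ' lam (ρ l y) := by
      rw [map_sum]
      have h3 : ∀ b : B, avgOp ρ ζ' lam (ρ (η b) (ρ l y)) = avgOp ρ ζ' lam (ρ l y) := by
        intro b
        have hc := congrArg (fun f : Module.End ℂ (Fin k → ℂ) => f (ρ l y)) (avgOp_comm ρ ζ' lam (hηstab b))
        have hc' : ρ (η b) (avgOp ρ ζ' lam (ρ l y)) = avgOp ρ ζ' lam (ρ (η b) (ρ l y)) := hc
        have hl := congrArg (fun f : Module.End ℂ (Fin k → ℂ) => f (ρ l y))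
          (avgOp_line ρ ζ' hζ' lam h1 (hηstab b) (hη1 b))
        have hl' : ρ (η b) (avgOp ρ ζ' lam (ρ l y)) = avgOp ρ ζ' lam (ρ l y) := hl
        rw [← hc', hl']
      rw [Finset.sum_congr rfl (fun b _ => h3 b), Finset.sum_const, Finset.card_univ,
        ← Nat.cast_smul_eq_nsmul ℂ]
    rw [h0, map_zero] at h2
    have hB : (Fintype.card B : ℂ) ≠ 0 := card_ne_zero
    exact hy1 ((smul_eq_zero.mp h2.symm).resolve_left hB)
  · intro b'
    rw [map_sum]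
    rw [← Fintype.sum_equiv (Equiv.addLeft b') (fun b => ρ (η b') (ρ (η b) (ρ l y)))
      (fun c => ρ (η c) (ρ l y))]
    intro b
    rw [Equiv.coe_addLeft, hη, map_mul]
    rfl

end OPP

end Cfsg.Agent.Lib.Helper2.OmMin
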