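import Mathlib
import Cfsg.Prelude.Def_Characters
import Cfsg.Agent.Lib.Helper2.OmMin.Defs
import Cfsg.Agent.Lib.Helper4.Characters
import Cfsg.Agent.Lib.Helper3.SLMin_A

set_option autoImplicit false
set_option linter.unusedSectionVars false

/-!
# S2346, package PK-ABS3: multiplicity one / multiplicity zero for `isoAvg`
-/

namespace Cfsg.Agent.Lib.Helper2.OmMin

open Matrix Cfsg Cfsg.Agent.Lib.Helper2.HypExt Cfsg.Agent.Lib.Helper2.Siegel
open Cfsg.Agent.Lib.Helper2.LongRoot Cfsg.Agent.Lib.Helper1.SUMin Cfsg.Agent.Lib.Helper4.SLMin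
open Cfsg.Agent.Lib.Helper4.SLMin.PkA
open scoped ComplexConjugate

universe u

section ABS3
variable {G : Type u} [Group G] [Fintype G] {A : Type u} [AddCommGroup A] [Fintype A]

theorem isoAvg_mul_of_mult_one {χ : G → ℂ} (hχ : IsCharacter G χ) (ζ : A → G)
    (hζ : ∀ a b, ζ (a + b) = ζ a * ζ b) (lam : AddChar A ℂ) (h1 : isoAvg ζ lam χ 1 = 1)
    {a b : G} (ha : a ∈ invStab ζ lam) (hb : b ∈ invStab ζ lam) :
    isoAvg ζ lam χ (a * b) = isoAvg ζ lam χ a * isoAvg ζ lam χ b := by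
  obtain ⟨n, σ, hσ⟩ := isCharacter_isoAvg_invStab hχ ζ hζ lam
  have hn : n = 1 := by
    have h := congrFun hσ 1
    rw [Representation.char_one] at h
    have h' : ((Module.finrank ℂ (Fin n → ℂ) : ℕ) : ℂ) = 1 := h.trans h1
    rw [Module.finrank_fin_fun] at h'
    exact_mod_cast h'
  subst hn
  have h := Cfsg.Agent.Lib.Helper1.character_mul_of_dim_one σ (⟨a, ha⟩ : invStab ζ lam) ⟨b, hb⟩
  rw [hσ] at h
  exact h

/-- multiplicity zero: the isotypic part vanishes identically -/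
theorem isoAvg_eq_zero_of_mult_zero {χ : G → ℂ} (hχ : IsCharacter G χ) (ζ : A → G)
    (hζ : ∀ a b, ζ (a + b) = ζ a * ζ b) (lam : AddChar A ℂ) (h0 : isoAvg ζ lam χ 1 = 0) (g : G) :
    isoAvg ζ lam χ g = 0 := by
  obtain ⟨n, ρ, rfl⟩ := hχ
  have hPP := avgOp_mul_self ρ ζ hζ lam
  have hidem : IsIdempotentElem (avgOp ρ ζ lam) := hPP
  have hproj := LinearMap.IsIdempotentElem.isProj_range (avgOp ρ ζ lam) hidem
  have htr := hproj.trace
  have h0' : LinearMap.trace ℂ (Fin n → ℂ) (avgOp ρ ζ lam) = 0 := by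
    have := trace_avgOp_mul ρ ζ lam 1
    rw [map_one, mul_one] at this
    rw [this, h0]
  rw [h0'] at htr
  have hfr : Module.finrank ℂ (LinearMap.range (avgOp ρ ζ lam)) = 0 := by
    exact_mod_cast htr.symm
  have hbot : LinearMap.range (avgOp ρ ζ lam) = ⊥ := Submodule.finrank_eq_zero.mp hfr
  have hz : avgOp ρ ζ lam = 0 := LinearMap.range_eq_bot.mp hbot
  rw [← trace_avgOp_mul, hz, zero_mul, map_zero]

end ABS3

end Cfsg.Agent.Lib.Helper2.OmMin
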