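import Mathlib
import Cfsg.Prelude.Def_Characters
import Cfsg.Agent.Lib.Helper2.OmMin.Defs
import Cfsg.Agent.Lib.Helper4.Characters
import Cfsg.Agent.Lib.Helper3.SLMin_A
import Cfsg.Agent.Lib.Helper3.OmMin_ABS3
import Cfsg.Agent.Lib.Helper3.OmMin_CHAR
import Cfsg.Agent.Lib.Helper3.OmMin_COUNT
import Cfsg.Agent.Lib.Helper6.OmMin_H
import Cfsg.Agent.Lib.Helper1.OmMin_CONJ2
import Cfsg.Agent.Lib.Lead.OmMin_ABS1

set_option autoImplicit false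
set_option linter.unusedSectionVars false
set_option linter.unusedVariables false

/-!
# S2346, package PK-S2: the fixed-space character at the long root element (`fixed_char_lr`)
-/

namespace Cfsg.Agent.Lib.Helper2.OmMin

open Matrix Cfsg Cfsg.Agent.Lib.Helper2.HypExt Cfsg.Agent.Lib.Helper2.Siegel
open Cfsg.Agent.Lib.Helper2.LongRoot Cfsg.Agent.Lib.Helper1.SUMin Cfsg.Agent.Lib.Helper4.SLMin
open Cfsg.Agent.Lib.Helper4.SLMin.PkA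
open scoped ComplexConjugate

universe u

namespace PkS2

section gen
variable {F : Type u} [Field F] {ι : Type} [Fintype ι] [DecidableEq ι]
variable {Q : QuadraticForm F (ι → F)}

theorem one_mulVec' (x : ι → F) :
    (((1 : ↥(Cfsg.isometryGroup F ⇑Q)) : Matrix.GeneralLinearGroup ι F) : Matrix ι ι F) *ᵥ x = x := by
  show (1 : Matrix ι ι F) *ᵥ x = x
  exact Matrix.one_mulVec x

/-- the additive equivalence given by an isometry -/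
noncomputable def isoEquiv (g : ↥(Cfsg.isometryGroup F ⇑Q)) : (ι → F) ≃+ (ι → F) where
  toFun a := ((g : Matrix.GeneralLinearGroup ι F) : Matrix ι ι F) *ᵥ a
  invFun a := (((g⁻¹ : ↥(Cfsg.isometryGroup F ⇑Q)) : Matrix.GeneralLinearGroup ι F) : Matrix ι ι F) *ᵥ a
  left_inv a := by
    show (((g⁻¹ : ↥(Cfsg.isometryGroup F ⇑Q)) : Matrix.GeneralLinearGroup ι F) : Matrix ι ι F) *ᵥ
      (((g : Matrix.GeneralLinearGroup ι F) : Matrix ι ι F) *ᵥ a) = a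
    rw [← Cfsg.Agent.Lib.Helper2.CDG.mul_mulVec, inv_mul_cancel, one_mulVec']
  right_inv a := by
    show ((g : Matrix.GeneralLinearGroup ι F) : Matrix ι ι F) *ᵥ
      ((((g⁻¹ : ↥(Cfsg.isometryGroup F ⇑Q)) : Matrix.GeneralLinearGroup ι F) : Matrix ι ι F) *ᵥ a) = a
    rw [← Cfsg.Agent.Lib.Helper2.CDG.mul_mulVec, mul_inv_cancel, one_mulVec']
  map_add' a b := Matrix.mulVec_add _ a b

theorem isoEquiv_apply (g : ↥(Cfsg.isometryGroup F ⇑Q)) (a : ι → F) :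
    isoEquiv g a = ((g : Matrix.GeneralLinearGroup ι F) : Matrix ι ι F) *ᵥ a := rfl

/-- an isometry moving `u` moves the character `psiU u` -/
theorem psiU_moved [Fintype F] [DecidableEq F] (hQ : (QuadraticMap.polarBilin Q).Nondegenerate)
    (ψ0 : AddChar F ℂ) (hψ0 : ψ0 ≠ 1) (g : ↥(Cfsg.isometryGroup F ⇑Q)) (u : ι → F)
    (hgu : ((g : Matrix.GeneralLinearGroup ι F) : Matrix ι ι F) *ᵥ u ≠ u) :
    ∃ b : ι → F, psiU ψ0 Q u (((g : Matrix.GeneralLinearGroup ι F) : Matrix ι ι F) *ᵥ b) ≠ psiU ψ0 Q u b := by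
  by_contra hcon
  push Not at hcon
  apply hgu
  have heq : psiU ψ0 Q
      ((((g⁻¹ : ↥(Cfsg.isometryGroup F ⇑Q)) : Matrix.GeneralLinearGroup ι F) : Matrix ι ι F) *ᵥ u) =
      psiU ψ0 Q u := by
    apply DFunLike.ext
    intro b
    rw [← psiU_iso ψ0 g, ← Cfsg.Agent.Lib.Helper2.CDG.mul_mulVec, mul_inv_cancel, one_mulVec']
    exact hcon b
  have h := (psiU_bijective hQ ψ0 hψ0).1 heq
  have h2 : ((g : Matrix.GeneralLinearGroup ι F) : Matrix ι ι F) *ᵥ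
      ((((g⁻¹ : ↥(Cfsg.isometryGroup F ⇑Q)) : Matrix.GeneralLinearGroup ι F) : Matrix ι ι F) *ᵥ u) = u := by
    rw [← Cfsg.Agent.Lib.Helper2.CDG.mul_mulVec, mul_inv_cancel, one_mulVec']
  rw [h] at h2
  exact h2

end gen

section lr
variable {F : Type u} [Field F] [Fintype F] {κ : Type} [Fintype κ] [DecidableEq κ]
variable {W₄ : QuadraticForm F (κ → F)} (hW₄ : (QuadraticMap.polarBilin W₄).Nondegenerate)

/-- a vector fixed by the long root element `E_{h,h₂}` is orthogonal to `h` and `h₂` -/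
theorem lr_fixed (h1 : 1 ≤ Fintype.card κ) (u : Fin 2 ⊕ (Fin 2 ⊕ κ) → F)
    (h : ((((lrΩ hW₄ : ↥(Cfsg.Omega F ⇑(HQ (HQ W₄)))) : ↥(Cfsg.isometryGroup F ⇑(HQ (HQ W₄)))) :
      Matrix.GeneralLinearGroup (Fin 2 ⊕ (Fin 2 ⊕ κ)) F) : Matrix _ _ F) *ᵥ u = u) :
    u (Sum.inl 1) = 0 ∧ tl u (Sum.inl 1) = 0 := by
  have hc3 : 3 ≤ Fintype.card (Fin 2 ⊕ κ) := by
    rw [Fintype.card_sum, Fintype.card_fin]; omega
  have e : ((lrΩ hW₄ : ↥(Cfsg.Omega F ⇑(HQ (HQ W₄)))) : ↥(Cfsg.isometryGroup F ⇑(HQ (HQ W₄)))) =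
      qe (HQ_nondeg W₄ hW₄) (mk3 1 0 0) := qeΩ_coe (HQ_nondeg W₄ hW₄) hc3 (mk3 1 0 0)
  rw [e, qe_mulVec] at h
  have k0 := congrFun h (Sum.inl 0)
  have k1 := congrFun h (Sum.inr (Sum.inl 0))
  rw [mk3_zero, PkH.polar_e_x, PkH.HQ_e_sing, zero_mul, sub_zero] at k0
  rw [mk3_inr] at k1
  have k1' : tl u (Sum.inl 0) + u (Sum.inl 1) * 1 = tl u (Sum.inl 0) := k1
  constructor
  · linear_combination k1'
  · linear_combination (-1 : F) * k0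

end lr

end PkS2

section S
variable {F : Type u} [Field F] [Fintype F] [DecidableEq F] {κ : Type} [Fintype κ] [DecidableEq κ]
variable {W₄ : QuadraticForm F (κ → F)} (hW₄ : (QuadraticMap.polarBilin W₄).Nondegenerate)

open PkS2 in
/-- PK-S2: the value of the fixed-space character at the long root element of `Ω(W)`, in the level-one
situation (class `c₀`): `χ₀(z') = χ(z) - nrm W c₀ + (q²-1) q^(|κ|+1)`. -/
theorem fixed_char_lr (h1 : 1 ≤ Fintype.card κ) (ψ0 : AddChar F ℂ) (hψ0 : ψ0 ≠ 1)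
    {χ : ↥(Cfsg.Omega F ⇑(HQ (HQ (HQ W₄)))) → ℂ}
    (hχ : IsCharacter ↥(Cfsg.Omega F ⇑(HQ (HQ (HQ W₄)))) χ) (c₀ : F)
    (hm1 : ∀ u : Fin 2 ⊕ (Fin 2 ⊕ κ) → F, u ≠ 0 → HQ (HQ W₄) u = c₀ →
      isoAvg (qeΩ (HQ_nondeg _ (HQ_nondeg W₄ hW₄))) (psiU ψ0 (HQ (HQ W₄)) u) χ 1 = 1)
    (hm0 : ∀ u : Fin 2 ⊕ (Fin 2 ⊕ κ) → F, u ≠ 0 → HQ (HQ W₄) u ≠ c₀ →
      isoAvg (qeΩ (HQ_nondeg _ (HQ_nondeg W₄ hW₄))) (psiU ψ0 (HQ (HQ W₄)) u) χ 1 = 0)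
    (hcomm : ∀ u : Fin 2 ⊕ (Fin 2 ⊕ κ) → F, u ≠ 0 → u (Sum.inl 1) = 0 → tl u (Sum.inl 1) = 0 →
      HQ (HQ W₄) u = c₀ →
      ∃ a b : ↥(Cfsg.Omega F ⇑(HQ (HQ (HQ W₄)))),
        a ∈ invStab (qeΩ (HQ_nondeg _ (HQ_nondeg W₄ hW₄))) (psiU ψ0 (HQ (HQ W₄)) u) ∧
        b ∈ invStab (qeΩ (HQ_nondeg _ (HQ_nondeg W₄ hW₄))) (psiU ψ0 (HQ (HQ W₄)) u) ∧
        a * b * a⁻¹ * b⁻¹ = jΩ (HQ (HQ W₄)) (lrΩ hW₄)) :
    isoAvg (qeΩ (HQ_nondeg _ (HQ_nondeg W₄ hW₄))) (1 : AddChar _ ℂ) χ (jΩ (HQ (HQ W₄)) (lrΩ hW₄)) =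
      χ (lrΩ (HQ_nondeg W₄ hW₄)) - (nrm (HQ (HQ W₄)) c₀ : ℂ) +
        ((Fintype.card F : ℂ) ^ 2 - 1) * (Fintype.card F : ℂ) ^ (Fintype.card κ + 1) := by
  have : Fintype ↥(Cfsg.Omega F ⇑(HQ (HQ (HQ W₄)))) := Fintype.ofFinite _
  have hc3' : 3 ≤ Fintype.card (Fin 2 ⊕ (Fin 2 ⊕ κ)) := by
    rw [Fintype.card_sum, Fintype.card_sum, Fintype.card_fin]; omega
  have hζ := qeΩ_add (HQ_nondeg _ (HQ_nondeg W₄ hW₄)) hc3'
  have hcf := Cfsg.Agent.Lib.Helper4.isClassFunction_of_isCharacter hχ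
  -- `χ z' = χ z`
  obtain ⟨g, hg⟩ := exists_conj_lr hW₄ h1
  have hz : χ (jΩ (HQ (HQ W₄)) (lrΩ hW₄)) = χ (lrΩ (HQ_nondeg W₄ hW₄)) := by
    rw [← hg]
    exact hcf _ _
  -- the Fourier expansion at `z'`
  have hsum := isoAvg_sum_all χ (qeΩ (HQ_nondeg _ (HQ_nondeg W₄ hW₄))) hζ (jΩ (HQ (HQ W₄)) (lrΩ hW₄))
  rw [← (psiU_bijective (HQ_nondeg _ (HQ_nondeg W₄ hW₄)) ψ0 hψ0).sum_comp
    (fun ψ => isoAvg (qeΩ (HQ_nondeg _ (HQ_nondeg W₄ hW₄))) ψ χ (jΩ (HQ (HQ W₄)) (lrΩ hW₄))), hz] at hsum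
  -- the terms
  have hterm : ∀ u : Fin 2 ⊕ (Fin 2 ⊕ κ) → F, u ≠ 0 →
      isoAvg (qeΩ (HQ_nondeg _ (HQ_nondeg W₄ hW₄))) (psiU ψ0 (HQ (HQ W₄)) u) χ
        (jΩ (HQ (HQ W₄)) (lrΩ hW₄)) =
      if ((u ≠ 0 ∧ HQ (HQ W₄) u = c₀) ∧ (u (Sum.inl 1) = 0 ∧ tl u (Sum.inl 1) = 0)) then 1 else 0 := by
    intro u hu
    by_cases hc : HQ (HQ W₄) u = c₀
    · by_cases hfix : u (Sum.inl 1) = 0 ∧ tl u (Sum.inl 1) = 0
      · rw [if_pos ⟨⟨hu, hc⟩, hfix⟩]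
        obtain ⟨a, b, ha, hb, hab⟩ := hcomm u hu hfix.1 hfix.2 hc
        rw [← hab]
        exact isoAvg_commutator_eq_one hχ _ hζ _ (hm1 u hu hc) ha hb
      · rw [if_neg (fun h => hfix h.2)]
        have hmv : ((((lrΩ hW₄ : ↥(Cfsg.Omega F ⇑(HQ (HQ W₄)))) : ↥(Cfsg.isometryGroup F ⇑(HQ (HQ W₄)))) :
            Matrix.GeneralLinearGroup (Fin 2 ⊕ (Fin 2 ⊕ κ)) F) : Matrix _ _ F) *ᵥ u ≠ u :=
          fun h => hfix (lr_fixed hW₄ h1 u h)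
        obtain ⟨b, hb⟩ := psiU_moved (HQ_nondeg _ (HQ_nondeg W₄ hW₄)) ψ0 hψ0 _ u hmv
        refine isoAvg_eq_zero_of_moved hcf _ hζ _ _
          (isoEquiv ((lrΩ hW₄ : ↥(Cfsg.Omega F ⇑(HQ (HQ W₄)))) : ↥(Cfsg.isometryGroup F ⇑(HQ (HQ W₄)))))
          (fun a => ?_) b hb
        exact conj_qeΩ (HQ_nondeg _ (HQ_nondeg W₄ hW₄)) hc3' _ _ (jΩ_coe _ _) a
    · rw [if_neg (fun h => hc h.1.2)]
      exact isoAvg_eq_zero_of_mult_zero hχ _ hζ _ (hm0 u hu hc) _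
  -- split off `u = 0`
  rw [← Finset.add_sum_erase Finset.univ _ (Finset.mem_univ (0 : Fin 2 ⊕ (Fin 2 ⊕ κ) → F)), psiU_zero,
    Finset.sum_congr rfl (fun u hu => hterm u (Finset.ne_of_mem_erase hu)),
    Finset.sum_erase Finset.univ (by rw [if_neg (fun h => h.1.1 rfl)]), Finset.sum_boole] at hsum
  -- counting
  have hcount := Finset.card_filter_add_card_filter_not
    (s := Finset.univ.filter fun u : Fin 2 ⊕ (Fin 2 ⊕ κ) → F => u ≠ 0 ∧ HQ (HQ W₄) u = c₀)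
    (fun u : Fin 2 ⊕ (Fin 2 ⊕ κ) → F => u (Sum.inl 1) = 0 ∧ tl u (Sum.inl 1) = 0)
  rw [Finset.filter_filter, Finset.filter_filter, card_not_fix W₄ c₀] at hcount
  have hn : nrm (HQ (HQ W₄)) c₀ =
      (Finset.univ.filter fun u : Fin 2 ⊕ (Fin 2 ⊕ κ) → F => u ≠ 0 ∧ HQ (HQ W₄) u = c₀).card := by
    unfold nrm
    rw [Nat.card_eq_fintype_card, Fintype.card_subtype]
  rw [← hn] at hcount
  have hq : 1 ≤ Fintype.card F ^ 2 := Nat.one_le_pow _ _ Fintype.card_pos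
  have hcountC := congrArg (fun k : ℕ => (k : ℂ)) hcount
  simp only [Nat.cast_add, Nat.cast_mul, Nat.cast_pow, Nat.cast_sub hq, Nat.cast_one] at hcountC
  linear_combination hsum - hcountC

end S

end Cfsg.Agent.Lib.Helper2.OmMin
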