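import Mathlib

set_option autoImplicit false

/-!
# Products of two regular unipotent maps (S2522): definitions

`RU n L`: `L` is regular unipotent on an `n`-dimensional space (one Jordan block).
`Good n A c0 r0`: `A = L * U` with `L`, `U` regular unipotent and two side conditions
that make the inductive extension step work.
-/

namespace Cfsg.Agent.Lib.Helper3.RUProd

variable {K : Type*} [Field K] {V : Type*} [AddCommGroup V] [Module K V]

/-- regular unipotent on an `n`-dimensional space -/
def RU (n : ℕ) (L : Module.End K V) : Prop := (L - 1) ^ n = 0 ∧ (L - 1) ^ (n - 1) ≠ 0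

/-- `A` is a product of two regular unipotents `L * U`, with `c0` outside the hyperplane
`range (U - 1)` and `r0` not vanishing on the fixed line of `L` -/
def Good (n : ℕ) (A : Module.End K V) (c0 : V) (r0 : Module.Dual K V) : Prop :=
  ∃ L U : Module.End K V, A = L * U ∧ RU n L ∧ RU n U ∧ ((U - 1) ^ (n - 1)) c0 ≠ 0 ∧
    r0 ∘ₗ ((L - 1) ^ (n - 1)) ≠ 0

/-- admissible: not a scalar, and `A - 1` has rank at least two -/
def Adm (A : Module.End K V) : Prop :=
  (¬ ∃ c : K, A = c • (1 : Module.End K V)) ∧
    2 ≤ Module.finrank K (LinearMap.range (A - 1))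

/-- the affine family of functionals `η` with `η z = 1`, `η (A z - z) = 0` -/
def Aff (A : Module.End K V) (z : V) : Set (Module.Dual K V) :=
  {η | η z = 1 ∧ η (A z - z) = 0}

/-- the operator on `V` which kills `z` and is `A' - 1` on `ker η`, `A'` the compression of `A`
to `ker η` along `A z` -/
def Ntil (A : Module.End K V) (z : V) (η : Module.Dual K V) : Module.End K V :=
  (A - 1) - η.smulRight (A z - z) - (η ∘ₗ (A - 1)).smulRight (A z)

theorem Ntil_apply (A : Module.End K V) (z : V) (η : Module.Dual K V) (v : V) :
    Ntil A z η v = (A v - v) - η v • (A z - z) - η (A v - v) • A z := by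
  simp [Ntil, LinearMap.smulRight_apply]

/-- the compression is a scalar -/
def ScalarAt (A : Module.End K V) (z : V) (η : Module.Dual K V) : Prop :=
  ∃ c : K, ∀ w, η w = 0 → Ntil A z η w = c • w

/-- admissibility of the compression, expressed on `V` -/
def AdmC (A : Module.End K V) (z : V) (η : Module.Dual K V) : Prop :=
  ¬ ScalarAt A z η ∧ 2 ≤ Module.finrank K (LinearMap.range (Ntil A z η))

/-- `A'` is the compression of `A` to `ker η` along `A z` -/
def IsCmpr (A : Module.End K V) (z : V) (η : Module.Dual K V)
    (A' : Module.End K (LinearMap.ker η)) : Prop :=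
  ∀ w : LinearMap.ker η, ((A' w : LinearMap.ker η) : V) = A w - η (A w) • A z

/-- the conditions on the vector `z` -/
def ZOk (A : Module.End K V) (c0 : V) (r0 : Module.Dual K V) (z : V) : Prop :=
  LinearIndependent K ![z, A z - z] ∧ r0 (A z) ≠ 0 ∧ c0 ∉ Submodule.span K {A z - z} ∧
    (LinearMap.ker (A - 1) ≠ ⊥ → z ∉ LinearMap.range (A - 1)) ∧
    (LinearMap.ker (A - 1) ≠ ⊥ → ¬ LinearMap.ker (A - 1) ≤ Submodule.span K {A z - z})

end Cfsg.Agent.Lib.Helper3.RUProd
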