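import Mathlib
import Cfsg.Prelude.Def_Steinberg
import Cfsg.Agent.Lib.Helper3.StB13
set_option autoImplicit false
open Cfsg Cfsg.Lie

/-! Homomorphisms between the groups presented by Steinberg's relators that come from embeddings of root systems
compatible with the structure constants. -/

namespace Cfsg.Agent.Lib.Helper3.StEmb

open StB

/-- The map `ι` of root indices has values in range, has the left inverse `κ`, and commutes with `-`. -/
def embOK (D D' : ChevalleyDatum) (ι κ : ℕ → ℕ) (r : ℕ) : Bool :=
  decide (ι r < D'.nroots) && decide (κ (ι r) = r) && decide (ι (D.neg r) = D'.neg (ι r)) &&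
    decide (D.neg r < D.nroots)

/-- The map `ι` of root indices carries the terms of the commutator formula to the terms of the commutator
formula. -/
def embCommOK (D D' : ChevalleyDatum) (ι : ℕ → ℕ) (r s : ℕ) : Bool :=
  decide (D'.commTerms (ι r) (ι s) = (D.commTerms r s).map fun c => (ι c.1, c.2)) &&
    (D.commTerms r s).all fun c => decide (c.1 < D.nroots)

section
variable {K : Type*} [Field K] (D D' : ChevalleyDatum) (ι κ : ℕ → ℕ)

/-- A map of root indices compatible with `-` and with the terms of the commutator formula gives a homomorphism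
between the groups presented by Steinberg's relators. -/
theorem exists_embHom (h1 : ∀ r < D.nroots, embOK D D' ι κ r = true)
    (h2 : ∀ r < D.nroots, ∀ s < D.nroots, embCommOK D D' ι r s = true) :
    ∃ ρ : D.SteinbergGroup K →* D'.SteinbergGroup K,
      (∀ r < D.nroots, ∀ t : K, ρ (D.stGen K r t) = D'.stGen K (ι r) t) ∧
      (∀ r < D.nroots, ∀ t : K, ρ (PresentedGroup.mk (D.steinbergRels K) (D.stH r t)) =
        PresentedGroup.mk (D'.steinbergRels K) (D'.stH (ι r) t)) := by
  have hlt : ∀ r < D.nroots, ι r < D'.nroots := by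
    intro r hr
    have := h1 r hr
    simp only [embOK, Bool.and_eq_true, decide_eq_true_eq] at this
    exact this.1.1.1
  have hκ : ∀ r < D.nroots, κ (ι r) = r := by
    intro r hr
    have := h1 r hr
    simp only [embOK, Bool.and_eq_true, decide_eq_true_eq] at this
    exact this.1.1.2
  have hneg : ∀ r < D.nroots, ι (D.neg r) = D'.neg (ι r) := by
    intro r hr
    have := h1 r hr
    simp only [embOK, Bool.and_eq_true, decide_eq_true_eq] at this
    exact this.1.2
  have hneglt : ∀ r < D.nroots, D.neg r < D.nroots := by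
    intro r hr
    have := h1 r hr
    simp only [embOK, Bool.and_eq_true, decide_eq_true_eq] at this
    exact this.2
  set g : Fin D.nroots × K → D'.SteinbergGroup K := fun p => D'.stGen K (ι p.1.val) p.2 with hg
  have hX : ∀ r < D.nroots, ∀ t : K, FreeGroup.lift g (D.stX r t) = D'.stGen K (ι r) t := by
    intro r hr t
    rw [stX_of_lt _ r hr, FreeGroup.lift_apply_of]
  have hW : ∀ w : List (ℕ × K), (∀ p ∈ w, p.1 < D.nroots) →
      FreeGroup.lift g (D.stWord w) =
        PresentedGroup.mk (D'.steinbergRels K) (D'.stWord (w.map fun p => (ι p.1, p.2))) := by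
    intro w
    induction w with
    | nil => intro _; simp [ChevalleyDatum.stWord]
    | cons p w ih =>
      intro hp
      have e1 : D.stWord (p :: w) = D.stX p.1 p.2 * D.stWord w := by
        simp [ChevalleyDatum.stWord]
      have e2 : D'.stWord ((p :: w).map fun p => (ι p.1, p.2)) =
          D'.stX (ι p.1) p.2 * D'.stWord (w.map fun p => (ι p.1, p.2)) := by
        simp [ChevalleyDatum.stWord]
      rw [e1, e2, map_mul, map_mul, hX _ (hp p (List.mem_cons_self ..)),
        ih fun q hq => hp q (List.mem_cons_of_mem _ hq)]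
      rfl
  have hH : ∀ r < D.nroots, ∀ t : K, FreeGroup.lift g (D.stH r t) =
      PresentedGroup.mk (D'.steinbergRels K) (D'.stH (ι r) t) := by
    intro r hr t
    unfold ChevalleyDatum.stH
    rw [hW]
    · congr 2
      simp [ChevalleyDatum.hWord, ChevalleyDatum.nWord, hneg r hr]
    · intro p hp
      simp only [ChevalleyDatum.hWord, ChevalleyDatum.nWord, List.cons_append, List.nil_append, List.mem_cons,
        List.not_mem_nil, or_false] at hp
      rcases hp with rfl | rfl | rfl | rfl | rfl | rfl
      · exact hr
      · exact hneglt r hr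
      · exact hr
      · exact hr
      · exact hneglt r hr
      · exact hr
  have hrel : ∀ w ∈ D.steinbergRels K, FreeGroup.lift g w = 1 := by
    rintro w ((⟨r, a, b, hr, rfl⟩ | ⟨r, s, t, u, hr, hs, hsr, hsn, rfl⟩) | ⟨r, a, b, hr, ha, hb, rfl⟩)
    · rw [map_mul, map_mul, map_inv, hX r hr, hX r hr, hX r hr]
      have hmem : D'.stX (ι r) a * D'.stX (ι r) b * (D'.stX (ι r) (a + b))⁻¹ ∈ D'.steinbergRels K :=
        Or.inl (Or.inl ⟨ι r, a, b, hlt r hr, rfl⟩)
      have := PresentedGroup.one_of_mem hmem
      rw [map_mul, map_mul, map_inv] at this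
      exact this
    · have hc := h2 r hr s hs
      simp only [embCommOK, Bool.and_eq_true, decide_eq_true_eq, List.all_eq_true] at hc
      have hsr' : ι s ≠ ι r := by
        intro h
        apply hsr
        rw [← hκ s hs, ← hκ r hr, h]
      have hsn' : ι s ≠ D'.neg (ι r) := by
        intro h
        apply hsn
        rw [← hneg r hr] at h
        rw [← hκ s hs, ← hκ _ (hneglt r hr), h]
      have hmem : (D'.stX (ι s) u)⁻¹ * (D'.stX (ι r) t)⁻¹ * D'.stX (ι s) u * D'.stX (ι r) t *
          (D'.stWord (D'.commWord K (ι r) (ι s) t u))⁻¹ ∈ D'.steinbergRels K :=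
        Or.inl (Or.inr ⟨ι r, ι s, t, u, hlt r hr, hlt s hs, hsr', hsn', rfl⟩)
      have h3 := PresentedGroup.one_of_mem hmem
      rw [map_mul, map_mul, map_mul, map_mul, map_inv, map_inv, map_inv] at h3
      rw [map_mul, map_mul, map_mul, map_mul, map_inv, map_inv, map_inv, hX r hr, hX s hs, hW]
      · refine Eq.trans ?_ h3
        congr 3
        unfold ChevalleyDatum.commWord
        rw [hc.1, List.map_map, List.map_map]
        rfl
      · intro p hp
        unfold ChevalleyDatum.commWord at hp
        obtain ⟨c, hc1, rfl⟩ := List.mem_map.mp hp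
        exact hc.2 c hc1
    · rw [map_mul, map_mul, map_inv, hH r hr, hH r hr, hH r hr]
      have hmem : D'.stH (ι r) a * D'.stH (ι r) b * (D'.stH (ι r) (a * b))⁻¹ ∈ D'.steinbergRels K :=
        Or.inr ⟨ι r, a, b, hlt r hr, ha, hb, rfl⟩
      have := PresentedGroup.one_of_mem hmem
      rw [map_mul, map_mul, map_inv] at this
      exact this
  refine ⟨PresentedGroup.toGroup hrel, fun r hr t => ?_, fun r hr t => ?_⟩
  · show FreeGroup.lift g (D.stX r t) = _
    exact hX r hr t
  · show FreeGroup.lift g (D.stH r t) = _
    exact hH r hr t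

end

end Cfsg.Agent.Lib.Helper3.StEmb
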