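import Mathlib
import Cfsg.Agent.Lib.Helper3.StEmb1
import Cfsg.Agent.Lib.Helper3.StB15
import Cfsg.Agent.Lib.Helper3.ChevH2
set_option autoImplicit false
set_option linter.unusedSectionVars false
open Cfsg Cfsg.Lie

/-! The order of the centre of the group presented by Steinberg's relators, for a root system embedded into a root
system with unimodular Cartan matrix. -/

namespace Cfsg.Agent.Lib.Helper3.StEmb

open ChevM ChevU ChevT ChevH StB

section
variable {F : Type*} [Field F]

/-- A tuple of units as a sequence of elements of the field. -/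
def ext (n : ℕ) (c : Fin n → Fˣ) (i : ℕ) : F := if hi : i < n then (c ⟨i, hi⟩ : F) else 1

theorem ext_ne_zero (n : ℕ) (c : Fin n → Fˣ) (i : ℕ) : ext n c i ≠ 0 := by
  unfold ext
  split_ifs
  · exact Units.ne_zero _
  · exact one_ne_zero

theorem ext_of_lt (n : ℕ) (c : Fin n → Fˣ) (i : ℕ) (hi : i < n) : ext n c i = (c ⟨i, hi⟩ : F) := dif_pos hi

theorem ext_of_not_lt (n : ℕ) (c : Fin n → Fˣ) (i : ℕ) (hi : ¬ i < n) : ext n c i = 1 := dif_neg hi

theorem diagU_one (D : ChevalleyDatum) : diagU D F 1 = 1 := by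
  apply Units.ext
  show Matrix.diagonal _ = (1 : Matrix D.Idx D.Idx F)
  rw [← Matrix.diagonal_one]
  congr 1
  funext j
  rcases j with j | s <;> simp

end

section
variable {C : CDatum} {R : RelData C} {F : Type*} [Field F] {Γ : Type*} [Group Γ] (S : StData C R F Γ)

theorem phi_hProd_ext (c : Fin C.D.rank → Fˣ) :
    S.φ (S.hProd (ext C.D.rank c) C.D.rank) = diagU C.D F (rootChar C.D F c) := by
  apply Units.ext
  rw [S.phi_hProd _ (ext_ne_zero _ c)]
  show Matrix.diagonal _ = Matrix.diagonal _
  congr 1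
  funext j
  rcases j with j | s
  · rw [R.torusExp_inl]; rfl
  · rw [R.torusExp_inr, list_range_prod_eq]
    show _ = ((∏ i, c i ^ C.D.cartan i.val s.val : Fˣ) : F)
    rw [Units.coe_prod]
    apply Finset.prod_congr rfl
    intro i _
    rw [ext_of_lt _ c i.val i.isLt, Units.val_zpow_eq_zpow_val]

end

section
variable {F : Type*} [Field F] [Fintype F] {C C' : CDatum}

/-- The centre of the group presented by Steinberg's relators has as many elements as the kernel of the Cartan
matrix on the tuples of units, when the root system is embedded, compatibly with the structure constants, into a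
root system with unimodular Cartan matrix. -/
theorem card_center_of_emb (R : RelData C) (K : CommData C R) (Y : StHyp C R)
    (hcore : ((C.D.borelSubgroup F).subgroupOf (C.D.group F)).normalCore = ⊥)
    (R' : RelData C') (K' : CommData C' R')
    (ι κ : ℕ → ℕ) (h1 : ∀ r < C.D.nroots, embOK C.D C'.D ι κ r = true)
    (h2 : ∀ r < C.D.nroots, ∀ s < C.D.nroots, embCommOK C.D C'.D ι r s = true)
    (hsimple : ∀ i < C.D.rank, ι (C.D.simple i) = C'.D.simple i) (hrank : C.D.rank ≤ C'.D.rank)
    (B : Matrix (Fin C'.D.rank) (Fin C'.D.rank) ℤ) (hB : cartanMat C'.D * B = 1)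
    (vec : ℕ → ℕ → ℤ) (hvec : ∀ i < C.D.rank, ∀ s < C.D.nroots, vecCheck C.D vec i s = true)
    (P Q P' Q' : Matrix (Fin C.D.rank) (Fin C.D.rank) ℤ) (d : Fin C.D.rank → ℕ)
    (h : P * cartanMat C.D * Q = Matrix.diagonal fun k => (d k : ℤ)) (hP : P * P' = 1) (hP' : P' * P = 1)
    (hQ : Q * Q' = 1) :
    Nat.card (Subgroup.center (C.D.SteinbergGroup F)) = ∏ k, Nat.gcd (Fintype.card F - 1) (d k) := by
  classical
  -- the first group
  have hAB : C.D.steinbergRelsAB F ⊆ C.D.steinbergRels F := fun g hg => Or.inl hg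
  have hrel := stLift_rels R (F := F) K
  set θ := presHom R (C.D.steinbergRels F) hrel with hθdef
  have hθ : ∀ r < C.D.nroots, ∀ t : F,
      ((θ (PresentedGroup.mk (C.D.steinbergRels F) (C.D.stX r t)) : GL C.D.Idx F) :
        Matrix C.D.Idx C.D.Idx F) = C.D.x F r t := by
    intro r hr t
    rw [hθdef, presHom_mk, stLift_stX, R.xU_val]
  have hsurj := presHom_surjective R (C.D.steinbergRels F) hrel
  have hker := pres_ker_eq_center R K Y hcore _ hAB θ hsurj hθ
  have hφ : ∀ r < C.D.nroots, ∀ t : F,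
      ((C.D.group F).subtype.comp θ) (PresentedGroup.mk (C.D.steinbergRels F) (C.D.stX r t)) = R.xU r t := by
    intro r hr t
    apply Units.ext
    rw [R.xU_val, ← hθ r hr t]
    rfl
  set S := presData R (C.D.steinbergRels F) hAB _ hφ with hS
  have hmul : ∀ i < C.D.rank, ∀ a b : F, a ≠ 0 → b ≠ 0 →
      S.hS (C.D.simple i) a * S.hS (C.D.simple i) b = S.hS (C.D.simple i) (a * b) := by
    intro i hi a b ha hb
    have hrel3 : C.D.stH (C.D.simple i) a * C.D.stH (C.D.simple i) b * (C.D.stH (C.D.simple i) (a * b))⁻¹ ∈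
        C.D.steinbergRels F := Or.inr ⟨C.D.simple i, a, b, R.simple_lt i hi, ha, hb, rfl⟩
    have h1 := PresentedGroup.one_of_mem hrel3
    rw [map_mul, map_mul, map_inv, mul_inv_eq_one] at h1
    rw [hS, presData_hS, presData_hS, presData_hS]
    exact h1
  -- the second group
  have hAB' : C'.D.steinbergRelsAB F ⊆ C'.D.steinbergRels F := fun g hg => Or.inl hg
  have hrel' := stLift_rels R' (F := F) K'
  set θ' := presHom R' (C'.D.steinbergRels F) hrel' with hθdef'
  have hφ' : ∀ r < C'.D.nroots, ∀ t : F,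
      ((C'.D.group F).subtype.comp θ') (PresentedGroup.mk (C'.D.steinbergRels F) (C'.D.stX r t)) = R'.xU r t := by
    intro r hr t
    show ((presHom R' (C'.D.steinbergRels F) hrel' (PresentedGroup.mk (C'.D.steinbergRels F) (C'.D.stX r t)) :
      ↥(C'.D.group F)) : GL C'.D.Idx F) = _
    rw [presHom_mk, stLift_stX]
  set S' := presData R' (C'.D.steinbergRels F) hAB' _ hφ' with hS'
  -- the homomorphism
  obtain ⟨ρ, -, hρH⟩ := exists_embHom (K := F) C.D C'.D ι κ h1 h2
  have hρS : ∀ i < C.D.rank, ∀ t : F, ρ (S.hS (C.D.simple i) t) = S'.hS (C'.D.simple i) t := by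
    intro i hi t
    rw [hS, presData_hS, hS', presData_hS, hρH _ (R.simple_lt i hi), hsimple i hi]
  have hρP : ∀ (e : ℕ → F) (n : ℕ), n ≤ C.D.rank → ρ (S.hProd e n) = S'.hProd e n := by
    intro e n
    induction n with
    | zero => intro _; rw [S.hProd_zero, S'.hProd_zero, map_one]
    | succ n ih =>
      intro hn
      rw [S.hProd_succ, S'.hProd_succ, map_mul, ih (Nat.le_of_succ_le hn), hρS n hn]
  have hextP : ∀ (e : ℕ → F), (∀ i, C.D.rank ≤ i → e i = 1) → ∀ n, C.D.rank ≤ n →
      S'.hProd e n = S'.hProd e C.D.rank := by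
    intro e he n hn
    induction n, hn using Nat.le_induction with
    | base => rfl
    | succ n hn ih => rw [S'.hProd_succ, ih, he n hn, S'.hS_one, mul_one]
  -- the map from the kernel of the characters of the roots to the centre
  have hmem : ∀ c : (rootChar C.D F).ker, S.hProd (ext C.D.rank c.1) C.D.rank ∈
      Subgroup.center (C.D.SteinbergGroup F) := by
    intro c
    rw [← hker, MonoidHom.mem_ker]
    apply Subtype.ext
    have e := phi_hProd_ext S c.1
    rw [MonoidHom.mem_ker.mp c.2, diagU_one] at e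
    exact e
  let f : (rootChar C.D F).ker → Subgroup.center (C.D.SteinbergGroup F) := fun c =>
    ⟨S.hProd (ext C.D.rank c.1) C.D.rank, hmem c⟩
  have hfsurj : Function.Surjective f := by
    rintro ⟨z, hz⟩
    rw [← hker] at hz
    have hz' : ((C.D.group F).subtype.comp θ) z = 1 := by
      rw [MonoidHom.comp_apply, MonoidHom.mem_ker.mp hz]; rfl
    have hzH : z ∈ S.Hbar := S.ker_le_Hbar Y (presData_gen R _ hAB _ hφ) (MonoidHom.mem_ker.mpr hz')
    obtain ⟨c, hc, rfl⟩ := S.exists_hProd Y hmul z hzH
    let cu : Fin C.D.rank → Fˣ := fun i => Units.mk0 (c i.val) (hc i.val)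
    have e1 : S.hProd c C.D.rank = S.hProd (ext C.D.rank cu) C.D.rank := by
      apply S.hProd_congr
      intro i hi
      rw [ext_of_lt _ cu i hi]
      rfl
    have e2 := phi_hProd_ext S cu
    rw [← e1] at e2
    have e3 : S.φ (S.hProd c C.D.rank) = 1 := hz'
    rw [e3, ← diagU_one (F := F) C.D] at e2
    have e4 : rootChar C.D F cu = 1 := (diagU_injective C.D F e2).symm
    refine ⟨⟨cu, MonoidHom.mem_ker.mpr e4⟩, ?_⟩
    apply Subtype.ext
    exact e1.symm
  have hfinj : Function.Injective f := by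
    intro c d hcd
    have e0 : S.hProd (ext C.D.rank c.1) C.D.rank = S.hProd (ext C.D.rank d.1) C.D.rank :=
      congrArg Subtype.val hcd
    have e1 := congrArg ρ e0
    rw [hρP _ _ le_rfl, hρP _ _ le_rfl] at e1
    let up : (Fin C.D.rank → Fˣ) → (Fin C'.D.rank → Fˣ) := fun c i =>
      if hi : i.val < C.D.rank then c ⟨i.val, hi⟩ else 1
    have hup : ∀ c : Fin C.D.rank → Fˣ, ext C'.D.rank (up c) = ext C.D.rank c := by
      intro c
      funext i
      by_cases hi : i < C.D.rank
      · have hi' : i < C'.D.rank := lt_of_lt_of_le hi hrank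
        rw [ext_of_lt _ _ i hi', ext_of_lt _ _ i hi]
        simp only [up, hi, dif_pos]
      · rw [ext_of_not_lt _ _ i hi]
        by_cases hi' : i < C'.D.rank
        · rw [ext_of_lt _ _ i hi']
          simp only [up, hi, dif_neg, not_false_eq_true, Units.val_one]
        · rw [ext_of_not_lt _ _ i hi']
    have hone : ∀ c : Fin C.D.rank → Fˣ, ∀ i, C.D.rank ≤ i → ext C.D.rank c i = 1 := by
      intro c i hi
      exact ext_of_not_lt _ _ i (not_lt.mpr hi)
    have e2 : S'.hProd (ext C'.D.rank (up c.1)) C'.D.rank = S'.hProd (ext C'.D.rank (up d.1)) C'.D.rank := by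
      rw [hup, hup, hextP _ (hone c.1) _ hrank, hextP _ (hone d.1) _ hrank]
      exact e1
    have e3 := congrArg S'.φ e2
    rw [phi_hProd_ext S' (up c.1), phi_hProd_ext S' (up d.1)] at e3
    have e4 : rootChar C'.D F (up c.1) = rootChar C'.D F (up d.1) := diagU_injective C'.D F e3
    have e5 : pw (cartanMat C'.D) (up c.1) = pw (cartanMat C'.D) (up d.1) := by
      funext j
      have := congrFun e4 ⟨C'.D.simple j.val, R'.simple_lt j.val j.isLt⟩
      simpa [rootChar, cartanMat] using this
    have e6 : up c.1 = up d.1 := by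
      have h3 := pw_mul (cartanMat C'.D) B (up c.1)
      have h4 := pw_mul (cartanMat C'.D) B (up d.1)
      rw [hB, pw_one] at h3 h4
      rw [h3, h4, e5]
    apply Subtype.ext
    funext i
    have := congrFun e6 ⟨i.val, lt_of_lt_of_le i.isLt hrank⟩
    simpa [up] using this
  have hcardU : Nat.card Fˣ = Fintype.card F - 1 := by
    rw [Nat.card_eq_fintype_card, Fintype.card_units]
  rw [← Nat.card_congr (Equiv.ofBijective f ⟨hfinj, hfsurj⟩), R.ker_rootChar vec hvec,
    card_ker_pw P (cartanMat C.D) Q P' Q' d h hP hP' hQ]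
  apply Finset.prod_congr rfl
  intro k _
  rw [IsCyclic.card_powMonoidHom_ker, hcardU]

end

end Cfsg.Agent.Lib.Helper3.StEmb
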