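import Mathlib
import Cfsg.Agent.Lib.Helper9.VLChain
import Cfsg.Agent.Lib.Helper8.VLStep5

set_option autoImplicit false

/-! S3777 (Vaughan-Lee), piece "dimW": the class-2 count.  If `Z` is a central subgroup of `Q`
containing `Q'` and all `p`-th powers, then `⟨Z, S⟩' ` has order at most `p ^ C(|S|, 2)`; applied
in `G ⧸ ⁅Φ, ⊤⁆` this gives `|G'| ≤ |⁅Φ, ⊤⁆| * p ^ C(d - 1, 2)` when `G' ≤ M' ⁅Φ, ⊤⁆`. -/

namespace Cfsg.Agent.Lib.Helper3.VLW

open Subgroup
open scoped commutatorElement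

universe u

section core

variable {Q : Type*} [Group Q]

theorem comm_mem_center_of_le (hc : commutator Q ≤ center Q) (x y : Q) : ⁅x, y⁆ ∈ center Q := by
  apply hc
  rw [commutator_def]
  exact Subgroup.commutator_mem_commutator (Subgroup.mem_top x) (Subgroup.mem_top y)

/-- in a group of class at most two, `x ↦ ⁅x, t⁆` is a homomorphism -/
noncomputable def commHomC2 (hc : commutator Q ≤ center Q) (t : Q) : Q →* Q where
  toFun x := ⁅x, t⁆
  map_one' := by simp
  map_mul' a b := by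
    have hb : ⁅b, t⁆ ∈ center Q := comm_mem_center_of_le hc b t
    have h1 : ∀ g : Q, g * ⁅b, t⁆ = ⁅b, t⁆ * g := fun g => (Subgroup.mem_center_iff.mp hb g)
    calc ⁅a * b, t⁆ = a * ⁅b, t⁆ * (t * a⁻¹ * t⁻¹) := by
          rw [commutatorElement_def, commutatorElement_def]; group
      _ = ⁅b, t⁆ * a * (t * a⁻¹ * t⁻¹) := by rw [h1 a]
      _ = ⁅b, t⁆ * ⁅a, t⁆ := by rw [commutatorElement_def a t]; group
      _ = ⁅a, t⁆ * ⁅b, t⁆ := (h1 _).symm

theorem commHomC2_apply (hc : commutator Q ≤ center Q) (t x : Q) :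
    commHomC2 hc t x = ⁅x, t⁆ := rfl

theorem normal_of_le_center (K : Subgroup Q) (hK : K ≤ center Q) : K.Normal := by
  refine ⟨fun n hn g => ?_⟩
  have h1 : g * n = n * g := (Subgroup.mem_center_iff.mp (hK hn) g)
  have h2 : g * n * g⁻¹ = n := by rw [h1]; group
  rw [h2]; exact hn

/-- the commutator subgroup of `H ⊔ ⟨t⟩` in a class-two group -/
theorem commutator_sup_zpowers_le (hc : commutator Q ≤ center Q) (H : Subgroup Q) (t : Q) :
    ⁅H ⊔ zpowers t, H ⊔ zpowers t⁆ ≤ ⁅H, H⁆ ⊔ H.map (commHomC2 hc t) := by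
  set N : Subgroup Q := ⁅H, H⁆ ⊔ H.map (commHomC2 hc t) with hN
  -- `C y := {x | ⁅x, y⁆ ∈ N}` is a subgroup
  have hmemC : ∀ x y : Q, x ∈ N.comap (commHomC2 hc y) ↔ ⁅x, y⁆ ∈ N := fun x y => Iff.rfl
  have hsymm : ∀ x y : Q, ⁅x, y⁆ ∈ N → ⁅y, x⁆ ∈ N := by
    intro x y h
    rw [← commutatorElement_inv]
    exact N.inv_mem h
  have hHH : ∀ x ∈ H, ∀ y ∈ H, ⁅x, y⁆ ∈ N := fun x hx y hy =>
    (le_sup_left : ⁅H, H⁆ ≤ N) (Subgroup.commutator_mem_commutator hx hy)
  have hHt : ∀ x ∈ H, ⁅x, t⁆ ∈ N := fun x hx =>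
    (le_sup_right : H.map (commHomC2 hc t) ≤ N) (Subgroup.mem_map_of_mem _ hx)
  have htt : ⁅t, t⁆ ∈ N := by
    rw [commutatorElement_self]; exact N.one_mem
  -- step 1: every `u ∈ H ∪ {t}` commutes mod `N` with all of `H ⊔ ⟨t⟩`
  have hstep1 : ∀ u : Q, (u ∈ H ∨ u = t) → H ⊔ zpowers t ≤ N.comap (commHomC2 hc u) := by
    intro u hu
    rw [sup_le_iff, Subgroup.zpowers_le]
    rcases hu with hu | rfl
    · refine ⟨fun x hx => (hmemC x u).mpr (hHH x hx u hu), ?_⟩
      exact (hmemC t u).mpr (hsymm _ _ (hHt u hu))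
    · exact ⟨fun x hx => (hmemC x u).mpr (hHt x hx), (hmemC u u).mpr htt⟩
  -- step 2
  have hstep2 : ∀ y ∈ H ⊔ zpowers t, H ⊔ zpowers t ≤ N.comap (commHomC2 hc y) := by
    intro y hy
    rw [sup_le_iff, Subgroup.zpowers_le]
    refine ⟨fun x hx => ?_, ?_⟩
    · exact (hmemC x y).mpr (hsymm _ _ ((hmemC y x).mp (hstep1 x (Or.inl hx) hy)))
    · exact (hmemC t y).mpr (hsymm _ _ ((hmemC y t).mp (hstep1 t (Or.inr rfl) hy)))
  rw [Subgroup.commutator_le]
  intro x hx y hy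
  exact (hmemC x y).mp (hstep2 y hy hx)

/-- **Core class-2 count.** -/
theorem card_commutator_sup_closure_le [Finite Q] {p : ℕ} [hp : Fact p.Prime] (Z : Subgroup Q)
    (hZ : Z ≤ center Q) (hcomm : commutator Q ≤ Z) (hpow : ∀ x : Q, x ^ p ∈ Z) (S : Finset Q) :
    Nat.card (⁅Z ⊔ closure (S : Set Q), Z ⊔ closure (S : Set Q)⁆ : Subgroup Q) ≤
      p ^ (S.card * (S.card - 1) / 2) := by
  classical
  have hc : commutator Q ≤ center Q := hcomm.trans hZ
  induction S using Finset.induction_on with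
  | empty =>
    rw [Finset.coe_empty, Subgroup.closure_empty, sup_bot_eq]
    have h1 : ⁅Z, Z⁆ = ⊥ := by
      rw [Subgroup.commutator_eq_bot_iff_le_centralizer]
      exact hZ.trans (Subgroup.center_le_centralizer _)
    rw [h1, Subgroup.card_bot]
    exact Nat.one_le_pow _ _ hp.out.pos
  | insert t S htS ih =>
    set H := Z ⊔ closure (S : Set Q) with hH
    have hZH : Z ≤ H := le_sup_left
    rw [Cfsg.Agent.Lib.Helper9.VL.coe_insert_closure, Finset.card_insert_of_notMem htS]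
    have e1 : Z ⊔ (zpowers t ⊔ closure (S : Set Q)) = H ⊔ zpowers t := by
      rw [hH, sup_assoc, sup_comm (zpowers t)]
    rw [e1, Nat.triangle_succ, pow_add]
    have h1 := commutator_sup_zpowers_le hc H t
    have hmapc : H.map (commHomC2 hc t) ≤ center Q := by
      rintro _ ⟨x, _, rfl⟩
      exact comm_mem_center_of_le hc x t
    have hmapn : (H.map (commHomC2 hc t)).Normal := normal_of_le_center _ hmapc
    have h2 := Cfsg.Helper8.VL5.card_sup_le_mul ⁅H, H⁆ (H.map (commHomC2 hc t))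
    have h3 : Nat.card (H.map (commHomC2 hc t)) ≤ p ^ S.card := by
      rw [← Subgroup.relIndex_ker]
      have hZker : Z ≤ (commHomC2 hc t).ker := by
        intro z hz
        rw [MonoidHom.mem_ker, commHomC2_apply, commutatorElement_eq_one_iff_mul_comm]
        exact (Subgroup.mem_center_iff.mp (hZ hz) t).symm
      have hpos : 0 < Z.relIndex H := by
        have h5 := Subgroup.relIndex_dvd_card Z H
        exact Nat.pos_of_dvd_of_pos h5 Nat.card_pos
      have h4 : (commHomC2 hc t).ker.relIndex H ≤ Z.relIndex H :=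
        Nat.le_of_dvd hpos (Subgroup.relIndex_dvd_of_le_left H hZker)
      exact h4.trans (Cfsg.Agent.Lib.Helper9.VL.relIndex_sup_closure_le Z hcomm hpow S)
    calc Nat.card (⁅H ⊔ zpowers t, H ⊔ zpowers t⁆ : Subgroup Q)
        ≤ Nat.card (⁅H, H⁆ ⊔ H.map (commHomC2 hc t) : Subgroup Q) := Subgroup.card_le_of_le h1
      _ ≤ Nat.card (⁅H, H⁆ : Subgroup Q) * Nat.card (H.map (commHomC2 hc t)) := h2
      _ ≤ p ^ (S.card * (S.card - 1) / 2) * p ^ S.card := Nat.mul_le_mul ih h3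

end core

/-- class-2 count (general): `Z ≤ Z(Q)`, `Q' ≤ Z`, `Q^p ≤ Z`, `|Q : Z| = p^r` give
`|Q'| ≤ p ^ C(r, 2)`. -/
theorem card_commutator_le_of_central_elementary {p : ℕ} [hp : Fact p.Prime] :
    ∀ (r : ℕ) (Q : Type u) [Group Q] [Finite Q], IsPGroup p Q → ∀ Z : Subgroup Q,
      Z ≤ center Q → commutator Q ≤ Z → (∀ x : Q, x ^ p ∈ Z) → Z.index = p ^ r →
      Nat.card (commutator Q) ≤ p ^ (r * (r - 1) / 2) := by
  intro r Q _ _ _ Z hZ hcomm hpow hr
  obtain ⟨S, hScard, -, -, hS⟩ :=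
    Cfsg.Agent.Lib.Helper9.VL.exists_finset_generating_top Z hcomm hpow r hr Set.univ (by
      rw [Subgroup.closure_univ, sup_top_eq])
  have h1 := card_commutator_sup_closure_le Z hZ hcomm hpow S
  rw [hS, hScard, ← commutator_def] at h1
  exact h1

/-- **dimW**: `|G'| ≤ |⁅Φ, ⊤⁆| * p ^ C(d - 1, 2)` when `G' ≤ M' ⁅Φ, ⊤⁆`, `|G : Φ| = p ^ d`. -/
theorem card_commutator_le_card_gam_mul {p : ℕ} {G : Type u} [Group G] [hp : Fact p.Prime]
    [Finite G] (_hG : IsPGroup p G) (Φ : Subgroup G) [Φ.Normal] (hcomm : commutator G ≤ Φ)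
    (hpow : ∀ g : G, g ^ p ∈ Φ) (M : Subgroup G) (hM : M.index = p) (hΦM : Φ ≤ M)
    (hT : commutator G ≤ ⁅M, M⁆ ⊔ ⁅Φ, (⊤ : Subgroup G)⁆) (d : ℕ) (hd : Φ.index = p ^ d) :
    Nat.card (commutator G) ≤
      Nat.card (⁅Φ, (⊤ : Subgroup G)⁆ : Subgroup G) * p ^ ((d - 1) * (d - 1 - 1) / 2) := by
  classical
  set Γ : Subgroup G := ⁅Φ, (⊤ : Subgroup G)⁆ with hΓ
  have hΓn : Γ.Normal := Subgroup.commutator_normal Φ ⊤
  set π := QuotientGroup.mk' Γ with hπ
  have hπs : Function.Surjective π := QuotientGroup.mk'_surjective Γ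
  set Z : Subgroup (G ⧸ Γ) := Φ.map π with hZdef
  -- `Z` is central
  have hZ : Z ≤ center (G ⧸ Γ) := by
    rintro _ ⟨f, hf, rfl⟩
    rw [Subgroup.mem_center_iff]
    intro q
    obtain ⟨g, rfl⟩ := hπs q
    have h1 : ⁅f, g⁆ ∈ Γ := Subgroup.commutator_mem_commutator hf (Subgroup.mem_top g)
    have h2 : π ⁅f, g⁆ = 1 := (QuotientGroup.eq_one_iff _).mpr h1
    rw [map_commutatorElement, commutatorElement_eq_one_iff_mul_comm] at h2
    exact h2.symm
  have hmapcomm : (commutator G).map π = commutator (G ⧸ Γ) := by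
    rw [commutator_def, commutator_def, Subgroup.map_commutator,
      Subgroup.map_top_of_surjective π hπs]
  have hcommQ : commutator (G ⧸ Γ) ≤ Z := by
    rw [← hmapcomm]; exact Subgroup.map_mono hcomm
  have hpowQ : ∀ q : G ⧸ Γ, q ^ p ∈ Z := by
    intro q
    obtain ⟨g, rfl⟩ := hπs q
    rw [← map_pow]
    exact Subgroup.mem_map_of_mem _ (hpow g)
  -- generators of `M` over `Φ`
  have hrel : Φ.relIndex M * p = p ^ d := by
    have h1 := Subgroup.relIndex_mul_index hΦM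
    rw [hM, hd] at h1
    exact h1
  have hd1 : 1 ≤ d := by
    rcases Nat.eq_zero_or_pos d with h0 | h0
    · exfalso
      rw [h0, pow_zero] at hrel
      have : p ∣ 1 := Dvd.intro_left _ hrel
      exact hp.out.one_lt.ne' (Nat.dvd_one.mp this)
    · exact h0
  have hrel' : Φ.relIndex M = p ^ (d - 1) := by
    have h1 : p ^ d = p ^ (d - 1) * p := by
      rw [← pow_succ]; congr 1; omega
    rw [h1] at hrel
    exact Nat.eq_of_mul_eq_mul_right hp.out.pos hrel
  obtain ⟨S, hScard, -, -, hS⟩ :=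
    Cfsg.Agent.Lib.Helper9.VL.exists_finset_generating Φ hcomm hpow M hΦM (d - 1) hrel'
  have hSbar : Z ⊔ closure ((S.image π : Finset (G ⧸ Γ)) : Set (G ⧸ Γ)) = M.map π := by
    rw [Finset.coe_image, ← MonoidHom.map_closure, hZdef, ← Subgroup.map_sup, hS]
  have hcore := card_commutator_sup_closure_le Z hZ hcommQ hpowQ (S.image π)
  rw [hSbar] at hcore
  have hk : (S.image π).card ≤ d - 1 := by
    rw [← hScard]; exact Finset.card_image_le
  have hexp : (S.image π).card * ((S.image π).card - 1) / 2 ≤ (d - 1) * (d - 1 - 1) / 2 :=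
    Nat.div_le_div_right (Nat.mul_le_mul hk (Nat.sub_le_sub_right hk 1))
  have hcore' : Nat.card (⁅M.map π, M.map π⁆ : Subgroup (G ⧸ Γ)) ≤
      p ^ ((d - 1) * (d - 1 - 1) / 2) :=
    hcore.trans (Nat.pow_le_pow_right hp.out.pos hexp)
  -- the image of `G'` is the image of `M'`
  have himg : (commutator G).map π ≤ ⁅M.map π, M.map π⁆ := by
    rw [← Subgroup.map_commutator]
    refine (Subgroup.map_mono hT).trans ?_
    rw [Subgroup.map_sup, hπ, QuotientGroup.map_mk'_self, sup_bot_eq]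
  calc Nat.card (commutator G)
      ≤ Nat.card Γ * Nat.card ((commutator G).map π) :=
        Cfsg.Helper8.VL5.card_le_card_mul_card_map Γ (commutator G)
    _ ≤ Nat.card Γ * p ^ ((d - 1) * (d - 1 - 1) / 2) :=
        Nat.mul_le_mul_left _ ((Subgroup.card_le_of_le himg).trans hcore')

end Cfsg.Agent.Lib.Helper3.VLW
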