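import Mathlib
import Cfsg.Agent.Lib.Lead.WeilW5

/-!
# S2524 PK-C, part 1: a projective representation preserving `V = Vp ⊕ Vm` with
`dim Vp = dim Vm + 1` gives an honest representation on all of `V`, with an explicit scalar.
-/

namespace Cfsg.Agent.Lib.Helper3.WGC

open Module Cfsg.Agent.Lib.Lead.Weil

set_option linter.unusedSectionVars false

section

variable {V : Type*} [AddCommGroup V] [Module ℂ V] [FiniteDimensional ℂ V] (Vp Vm : Submodule ℂ V)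

/-- the normalising scalar `det (T|Vm) / det (T|Vp)` -/
noncomputable def dnorm (T : V →ₗ[ℂ] V) (a : ∀ x ∈ Vp, T x ∈ Vp) (b : ∀ x ∈ Vm, T x ∈ Vm) : ℂ :=
  LinearMap.det (T.restrict b) * (LinearMap.det (T.restrict a))⁻¹

/-- the normalised operator `(det (T|Vm) / det (T|Vp)) • T` on all of `V` -/
noncomputable def tnrm (T : V →ₗ[ℂ] V) (a : ∀ x ∈ Vp, T x ∈ Vp) (b : ∀ x ∈ Vm, T x ∈ Vm) :
    V →ₗ[ℂ] V :=
  dnorm Vp Vm T a b • T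

theorem dnorm_comp (T T' : V →ₗ[ℂ] V) (a : ∀ x ∈ Vp, T x ∈ Vp) (b : ∀ x ∈ Vm, T x ∈ Vm)
    (a' : ∀ x ∈ Vp, T' x ∈ Vp) (b' : ∀ x ∈ Vm, T' x ∈ Vm)
    (a'' : ∀ x ∈ Vp, (T ∘ₗ T') x ∈ Vp) (b'' : ∀ x ∈ Vm, (T ∘ₗ T') x ∈ Vm) :
    dnorm Vp Vm (T ∘ₗ T') a'' b'' = dnorm Vp Vm T a b * dnorm Vp Vm T' a' b' := by
  unfold dnorm
  rw [restrict_comp' T T' a a' a'', restrict_comp' T T' b b' b'', map_mul, map_mul, mul_inv]
  ring

theorem tnrm_comp (T T' : V →ₗ[ℂ] V) (a : ∀ x ∈ Vp, T x ∈ Vp) (b : ∀ x ∈ Vm, T x ∈ Vm)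
    (a' : ∀ x ∈ Vp, T' x ∈ Vp) (b' : ∀ x ∈ Vm, T' x ∈ Vm)
    (a'' : ∀ x ∈ Vp, (T ∘ₗ T') x ∈ Vp) (b'' : ∀ x ∈ Vm, (T ∘ₗ T') x ∈ Vm) :
    tnrm Vp Vm (T ∘ₗ T') a'' b'' = tnrm Vp Vm T a b * tnrm Vp Vm T' a' b' := by
  unfold tnrm
  rw [dnorm_comp Vp Vm T T' a b a' b' a'' b'', smul_mul_smul_comm]
  rfl

theorem tnrm_smul (hdim : finrank ℂ Vp = finrank ℂ Vm + 1) (z : ℂ) (hz : z ≠ 0) (T : V →ₗ[ℂ] V)
    (a : ∀ x ∈ Vp, T x ∈ Vp) (b : ∀ x ∈ Vm, T x ∈ Vm)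
    (a'' : ∀ x ∈ Vp, (z • T) x ∈ Vp) (b'' : ∀ x ∈ Vm, (z • T) x ∈ Vm) :
    tnrm Vp Vm (z • T) a'' b'' = tnrm Vp Vm T a b := by
  unfold tnrm dnorm
  rw [restrict_smul' z T a a'', restrict_smul' z T b b'', LinearMap.det_smul, LinearMap.det_smul,
    hdim, smul_smul]
  congr 1
  have hzk : z ^ finrank ℂ Vm ≠ 0 := pow_ne_zero _ hz
  rw [pow_succ, mul_inv, mul_inv]
  field_simp

theorem tnrm_id (a : ∀ x ∈ Vp, (LinearMap.id : V →ₗ[ℂ] V) x ∈ Vp)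
    (b : ∀ x ∈ Vm, (LinearMap.id : V →ₗ[ℂ] V) x ∈ Vm) :
    tnrm Vp Vm LinearMap.id a b = 1 := by
  unfold tnrm dnorm
  have h1 : (LinearMap.id : V →ₗ[ℂ] V).restrict a = 1 := by
    ext x; simp [LinearMap.restrict_apply]
  have h2 : (LinearMap.id : V →ₗ[ℂ] V).restrict b = 1 := by
    ext x; simp [LinearMap.restrict_apply]
  rw [h1, h2, map_one, map_one]
  simp
  rfl

theorem dnorm_ne_zero (T : V →ₗ[ℂ] V) (hT : Function.Injective T)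
    (a : ∀ x ∈ Vp, T x ∈ Vp) (b : ∀ x ∈ Vm, T x ∈ Vm) : dnorm Vp Vm T a b ≠ 0 := by
  unfold dnorm
  exact mul_ne_zero (det_restrict_ne_zero T hT _) (inv_ne_zero (det_restrict_ne_zero T hT _))

end

/-- the total representation attached to a projective representation -/
theorem exists_total_rep {G : Type*} [Group G] {V : Type*} [AddCommGroup V] [Module ℂ V]
    [FiniteDimensional ℂ V] (Vp Vm : Submodule ℂ V)
    (hdim : Module.finrank ℂ Vp = Module.finrank ℂ Vm + 1)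
    (I : G → (V →ₗ[ℂ] V) → Prop)
    (hex : ∀ g, ∃ T, I g T)
    (hone : I 1 LinearMap.id)
    (hmul : ∀ g h T T', I g T → I h T' → I (g * h) (T ∘ₗ T'))
    (huniq : ∀ g T T', I g T → I g T' → ∃ z : ℂ, z ≠ 0 ∧ T' = z • T)
    (hp : ∀ g T, I g T → ∀ x ∈ Vp, T x ∈ Vp) (hm : ∀ g T, I g T → ∀ x ∈ Vm, T x ∈ Vm) :
    ∃ ω : Representation ℂ G V, ∀ g T (h : I g T),
      ω g = dnorm Vp Vm T (hp g T h) (hm g T h) • T := by
  classical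
  choose τ hτ using hex
  have key : ∀ g T (hT : I g T),
      tnrm Vp Vm T (hp g T hT) (hm g T hT) = tnrm Vp Vm (τ g) (hp g _ (hτ g)) (hm g _ (hτ g)) := by
    intro g T hT
    obtain ⟨z, hz, hzT⟩ := huniq g (τ g) T (hτ g) hT
    subst hzT
    exact tnrm_smul Vp Vm hdim z hz (τ g) (hp g _ (hτ g)) (hm g _ (hτ g)) _ _
  let ρf : G → (V →ₗ[ℂ] V) := fun g => tnrm Vp Vm (τ g) (hp g _ (hτ g)) (hm g _ (hτ g))
  have hρ1 : ρf 1 = 1 := by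
    show tnrm Vp Vm (τ 1) _ _ = 1
    rw [← key 1 LinearMap.id hone]
    exact tnrm_id Vp Vm _ _
  have hρmul : ∀ g h, ρf (g * h) = ρf g * ρf h := by
    intro g h
    show tnrm Vp Vm (τ (g * h)) _ _ = tnrm Vp Vm (τ g) _ _ * tnrm Vp Vm (τ h) _ _
    have hgh : I (g * h) (τ g ∘ₗ τ h) := hmul g h _ _ (hτ g) (hτ h)
    rw [← key (g * h) _ hgh]
    exact tnrm_comp Vp Vm (τ g) (τ h) _ _ _ _ _ _
  refine ⟨{ toFun := ρf, map_one' := hρ1, map_mul' := hρmul }, ?_⟩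
  intro g T hT
  show ρf g = _
  have : ρf g = tnrm Vp Vm T (hp g T hT) (hm g T hT) := (key g T hT).symm
  rw [this]
  rfl

end Cfsg.Agent.Lib.Helper3.WGC
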