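import Mathlib
import Cfsg.Agent.Lib.Lead.WeilDefs

set_option autoImplicit false
set_option linter.unusedSectionVars false
set_option linter.unusedSimpArgs false

/-!
# S2347 existence half, PK-W1: Weyl relations, parity, traces
-/

namespace Cfsg.Agent.Lib.Lead.Weil

open Matrix

variable {F : Type*} [Field F] [Fintype F] [DecidableEq F] {n : ℕ} (ψ : AddChar F ℂ)

section W1

theorem weyl_mul (h2 : (2 : F) ≠ 0) (x y x' y' : Fin n → F) :
    weyl ψ x y ∘ₗ weyl ψ x' y' = ψ (2⁻¹ * (x ⬝ᵥ y' - x' ⬝ᵥ y)) • weyl ψ (x + x') (y + y') := by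
  apply LinearMap.ext
  intro f
  funext t
  simp only [LinearMap.comp_apply, weyl_apply, LinearMap.smul_apply, Pi.smul_apply, smul_eq_mul]
  rw [← mul_assoc, ← mul_assoc, ← AddChar.map_add_eq_mul, ← AddChar.map_add_eq_mul, add_assoc t x x']
  congr 2
  simp only [dotProduct_add, add_dotProduct]
  rw [dotProduct_comm y' x, dotProduct_comm x' y]
  field_simp
  ring

theorem altB_eq (u v : Fin n ⊕ Fin n → F) :
    altB u v = (u ∘ Sum.inl) ⬝ᵥ (v ∘ Sum.inr) - (v ∘ Sum.inl) ⬝ᵥ (u ∘ Sum.inr) := rfl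

theorem W_mul (h2 : (2 : F) ≠ 0) (u v : Fin n ⊕ Fin n → F) :
    W ψ u ∘ₗ W ψ v = ψ (2⁻¹ * altB u v) • W ψ (u + v) := by
  unfold W
  rw [weyl_mul ψ h2]
  rfl

theorem W_zero : W ψ (0 : Fin n ⊕ Fin n → F) = LinearMap.id := by
  apply LinearMap.ext
  intro f
  funext t
  simp only [W, weyl_apply, LinearMap.id_apply]
  have h0 : ((0 : Fin n ⊕ Fin n → F) ∘ Sum.inl) = 0 := rfl
  have h1 : ((0 : Fin n ⊕ Fin n → F) ∘ Sum.inr) = 0 := rfl
  rw [h0, h1]
  simp

theorem altB_neg_self (v : Fin n ⊕ Fin n → F) : altB (-v) v = 0 := by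
  rw [altB_eq]
  have h0 : ((-v) ∘ Sum.inl) = -(v ∘ Sum.inl) := rfl
  have h1 : ((-v) ∘ Sum.inr) = -(v ∘ Sum.inr) := rfl
  rw [h0, h1]
  simp only [neg_dotProduct, dotProduct_neg]
  ring

theorem altB_self_neg (v : Fin n ⊕ Fin n → F) : altB v (-v) = 0 := by
  rw [altB_eq]
  have h0 : ((-v) ∘ Sum.inl) = -(v ∘ Sum.inl) := rfl
  have h1 : ((-v) ∘ Sum.inr) = -(v ∘ Sum.inr) := rfl
  rw [h0, h1]
  simp only [neg_dotProduct, dotProduct_neg]
  ring

theorem W_neg_comp (h2 : (2 : F) ≠ 0) (v : Fin n ⊕ Fin n → F) :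
    W ψ (-v) ∘ₗ W ψ v = LinearMap.id := by
  rw [W_mul ψ h2, altB_neg_self, neg_add_cancel, W_zero, mul_zero, AddChar.map_zero_eq_one, one_smul]

theorem W_comp_neg (h2 : (2 : F) ≠ 0) (v : Fin n ⊕ Fin n → F) :
    W ψ v ∘ₗ W ψ (-v) = LinearMap.id := by
  rw [W_mul ψ h2, altB_self_neg, add_neg_cancel, W_zero, mul_zero, AddChar.map_zero_eq_one, one_smul]

theorem par_comp_W (v : Fin n ⊕ Fin n → F) :
    par ∘ₗ W ψ v = W ψ (-v) ∘ₗ par := by
  apply LinearMap.ext
  intro f
  funext t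
  simp only [LinearMap.comp_apply, par_apply, W, weyl_apply]
  have h0 : ((-v) ∘ Sum.inl) = -(v ∘ Sum.inl) := rfl
  have h1 : ((-v) ∘ Sum.inr) = -(v ∘ Sum.inr) := rfl
  rw [h0, h1]
  simp only [neg_dotProduct, dotProduct_neg, neg_neg, neg_add]

theorem par_comp_par : (par : Hsp n F →ₗ[ℂ] Hsp n F) ∘ₗ par = LinearMap.id := by
  apply LinearMap.ext
  intro f
  funext t
  simp only [LinearMap.comp_apply, par_apply, neg_neg, LinearMap.id_apply]

/-- the trace of an operator on the function space as the sum of its diagonal matrix entries -/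
theorem trace_eq_sum (T : Hsp n F →ₗ[ℂ] Hsp n F) :
    LinearMap.trace ℂ (Hsp n F) T = ∑ t : Fin n → F, T (Pi.single t 1) t := by
  rw [LinearMap.trace_eq_matrix_trace ℂ (Pi.basisFun ℂ (Fin n → F)), LinearMap.toMatrix_eq_toMatrix',
    Matrix.trace]
  apply Finset.sum_congr rfl
  intro t _
  rw [Matrix.diag_apply, LinearMap.toMatrix'_apply]

/-- orthogonality: a non-trivial character of `F^n` sums to zero -/
theorem sum_char_dot (hψ : ψ ≠ 1) (y : Fin n → F) (hy : y ≠ 0) :
    ∑ t : Fin n → F, ψ (y ⬝ᵥ t) = 0 := by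
  classical
  let φ : (Fin n → F) →+ F :=
    { toFun := fun t => y ⬝ᵥ t
      map_zero' := dotProduct_zero y
      map_add' := fun a b => dotProduct_add y a b }
  have hne : ψ.compAddMonoidHom φ ≠ 1 := by
    intro h
    apply hψ
    obtain ⟨i, hi⟩ : ∃ i, y i ≠ 0 := by
      by_contra hcon
      push Not at hcon
      exact hy (funext hcon)
    rw [DFunLike.ext_iff]
    intro a
    have h1 := DFunLike.congr_fun h (Pi.single i (a / y i))
    rw [AddChar.compAddMonoidHom_apply] at h1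
    have h2 : φ (Pi.single i (a / y i)) = a := by
      show y ⬝ᵥ Pi.single i (a / y i) = a
      rw [dotProduct_single]
      field_simp
    rw [h2] at h1
    exact h1
  have := AddChar.sum_eq_zero_of_ne_one hne
  simpa [AddChar.compAddMonoidHom_apply, φ] using this

/-- `tr W(v) = q^n` if `v = 0`, else `0`.  (x ≠ 0: zero diagonal; x = 0, y ≠ 0: character sum.) -/
theorem trace_W (hψ : ψ ≠ 1) (v : Fin n ⊕ Fin n → F) :
    LinearMap.trace ℂ (Hsp n F) (W ψ v) = if v = 0 then (Fintype.card F : ℂ) ^ n else 0 := by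
  rw [trace_eq_sum]
  simp only [W, weyl_apply]
  by_cases hx : v ∘ Sum.inl = 0
  · rw [hx]
    simp only [zero_dotProduct, mul_zero, add_zero, Pi.single_eq_same, mul_one]
    by_cases hy : v ∘ Sum.inr = 0
    · have hv : v = 0 := by
        funext i
        rcases i with i | i
        · exact congrFun hx i
        · exact congrFun hy i
      rw [if_pos hv, hy]
      simp only [zero_dotProduct, AddChar.map_zero_eq_one, Finset.sum_const, Finset.card_univ,
        nsmul_eq_mul, mul_one]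
      rw [Fintype.card_pi]
      simp
    · have hv : v ≠ 0 := by
        intro h
        apply hy
        rw [h]; rfl
      rw [if_neg hv]
      exact sum_char_dot ψ hψ _ hy
  · have hv : v ≠ 0 := by
      intro h
      apply hx
      rw [h]; rfl
    rw [if_neg hv]
    apply Finset.sum_eq_zero
    intro t _
    rw [Pi.single_eq_of_ne, mul_zero]
    intro h
    apply hx
    have : v ∘ Sum.inl = t + v ∘ Sum.inl - t := by abel
    rw [this, h, sub_self]

/-- `tr par = 1` (only `t = 0` is fixed by `t ↦ -t`, as `2 ≠ 0`). -/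
theorem trace_par (h2 : (2 : F) ≠ 0) :
    LinearMap.trace ℂ (Hsp n F) (par : Hsp n F →ₗ[ℂ] Hsp n F) = 1 := by
  rw [trace_eq_sum]
  simp only [par_apply]
  rw [Finset.sum_eq_single (0 : Fin n → F)]
  · simp
  · intro b _ hb
    rw [Pi.single_eq_of_ne]
    intro h
    apply hb
    funext i
    have hi : - b i = b i := congrFun h i
    have : (2 : F) * b i = 0 := by linear_combination -hi
    rcases mul_eq_zero.mp this with h' | h'
    · exact absurd h' h2
    · exact h'
  · intro h; exact absurd (Finset.mem_univ _) h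

theorem altB_eq_neg_J (u v : Fin n ⊕ Fin n → F) :
    altB u v = -(u ⬝ᵥ (Matrix.J (Fin n) F *ᵥ v)) := by
  rw [altB_eq]
  unfold Matrix.J
  simp only [dotProduct, Matrix.mulVec, Fintype.sum_sum_type, Matrix.fromBlocks_apply₁₁,
    Matrix.fromBlocks_apply₁₂, Matrix.fromBlocks_apply₂₁, Matrix.fromBlocks_apply₂₂,
    Matrix.zero_apply, Matrix.neg_apply, Matrix.one_apply, zero_mul, Finset.sum_const_zero,
    zero_add, add_zero, Function.comp_apply]
  simp only [neg_mul, ite_mul, one_mul, zero_mul, Finset.sum_neg_distrib, Finset.sum_ite_eq,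
    Finset.mem_univ, if_true, mul_neg]
  rw [← Finset.sum_sub_distrib]
  have hc : ∑ x : Fin n, v (Sum.inl x) * u (Sum.inr x) = ∑ x : Fin n, u (Sum.inr x) * v (Sum.inl x) :=
    Finset.sum_congr rfl (fun x _ => mul_comm _ _)
  rw [Finset.sum_sub_distrib, hc]
  ring

/-- symplectic matrices preserve `altB` (`altB u v = -(u ⬝ᵥ J *ᵥ v)`, `gᵀ J g = J` by `SymplecticGroup.mem_iff'`). -/
theorem altB_mulVec {g : Matrix (Fin n ⊕ Fin n) (Fin n ⊕ Fin n) F} (hg : g ∈ symplecticGroup (Fin n) F)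
    (u v : Fin n ⊕ Fin n → F) : altB (g *ᵥ u) (g *ᵥ v) = altB u v := by
  rw [altB_eq_neg_J, altB_eq_neg_J]
  congr 1
  have h := SymplecticGroup.mem_iff'.mp hg
  rw [Matrix.mulVec_mulVec, ← Matrix.vecMul_transpose, ← Matrix.dotProduct_mulVec,
    Matrix.mulVec_mulVec, ← Matrix.mul_assoc, h]

end W1

end Cfsg.Agent.Lib.Lead.Weil
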