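import Mathlib
import Cfsg.Agent.Lib.Lead.WeilDefs
import Cfsg.Agent.Lib.Helper3.WeilW1
import Cfsg.Agent.Lib.Lead.WeilW2

set_option autoImplicit false
set_option linter.unusedSectionVars false
set_option linter.unusedSimpArgs false

/-!
# S2347 existence half, PK-W3: every symplectic matrix has a bijective implementer
-/

namespace Cfsg.Agent.Lib.Lead.Weil

open Matrix

variable {F : Type*} [Field F] [Fintype F] [DecidableEq F] {n : ℕ} (ψ : AddChar F ℂ)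

section W3

theorem altB_add_left (u u' v : Fin n ⊕ Fin n → F) : altB (u + u') v = altB u v + altB u' v := by
  rw [altB_eq, altB_eq, altB_eq]
  have h0 : ((u + u') ∘ Sum.inl) = u ∘ Sum.inl + u' ∘ Sum.inl := rfl
  have h1 : ((u + u') ∘ Sum.inr) = u ∘ Sum.inr + u' ∘ Sum.inr := rfl
  rw [h0, h1]
  simp only [add_dotProduct, dotProduct_add]
  ring

theorem altB_neg_left (u v : Fin n ⊕ Fin n → F) : altB (-u) v = - altB u v := by
  rw [altB_eq, altB_eq]
  have h0 : ((-u) ∘ Sum.inl) = -(u ∘ Sum.inl) := rfl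
  have h1 : ((-u) ∘ Sum.inr) = -(u ∘ Sum.inr) := rfl
  rw [h0, h1]
  simp only [neg_dotProduct, dotProduct_neg]
  ring

theorem altB_self (u : Fin n ⊕ Fin n → F) : altB u u = 0 := by
  rw [altB_eq]
  ring

theorem altB_swap (u v : Fin n ⊕ Fin n → F) : altB u v = - altB v u := by
  rw [altB_eq, altB_eq]
  ring

/-- the averaging operator `Φ A = ∑ v, W (g v) ∘ A ∘ W (-v)` -/
noncomputable def avgOp (g : Matrix (Fin n ⊕ Fin n) (Fin n ⊕ Fin n) F)
    (A : Hsp n F →ₗ[ℂ] Hsp n F) : Hsp n F →ₗ[ℂ] Hsp n F :=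
  ∑ v : Fin n ⊕ Fin n → F, W ψ (g *ᵥ v) ∘ₗ A ∘ₗ W ψ (-v)

theorem avgOp_term (h2 : (2 : F) ≠ 0)
    {g : Matrix (Fin n ⊕ Fin n) (Fin n ⊕ Fin n) F} (hg : g ∈ symplecticGroup (Fin n) F)
    (A : Hsp n F →ₗ[ℂ] Hsp n F) (u w : Fin n ⊕ Fin n → F) :
    (W ψ (g *ᵥ (u + w)) ∘ₗ A ∘ₗ W ψ (-(u + w))) ∘ₗ W ψ w =
      W ψ (g *ᵥ w) ∘ₗ (W ψ (g *ᵥ u) ∘ₗ A ∘ₗ W ψ (-u)) := by
  have ha : W ψ (-(u + w)) ∘ₗ W ψ w = ψ (2⁻¹ * altB w u) • W ψ (-u) := by
    rw [W_mul ψ h2]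
    have e1 : altB (-(u + w)) w = altB w u := by
      rw [altB_neg_left, altB_add_left, altB_self, add_zero, ← altB_swap]
    have e2 : -(u + w) + w = -u := by abel
    rw [e1, e2]
  have hb : W ψ (g *ᵥ w) ∘ₗ W ψ (g *ᵥ u) = ψ (2⁻¹ * altB w u) • W ψ (g *ᵥ (u + w)) := by
    rw [W_mul ψ h2, altB_mulVec hg, Matrix.mulVec_add, add_comm (g *ᵥ u)]
  apply LinearMap.ext
  intro f
  have ha' := LinearMap.congr_fun ha f
  have hb' := LinearMap.congr_fun hb (A (W ψ (-u) f))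
  simp only [LinearMap.comp_apply, LinearMap.smul_apply] at ha' hb' ⊢
  rw [ha', map_smul, map_smul, hb']

theorem avgOp_implements (h2 : (2 : F) ≠ 0)
    {g : Matrix (Fin n ⊕ Fin n) (Fin n ⊕ Fin n) F} (hg : g ∈ symplecticGroup (Fin n) F)
    (A : Hsp n F →ₗ[ℂ] Hsp n F) : Implements ψ g (avgOp ψ g A) := by
  intro w
  have hre : avgOp ψ g A =
      ∑ u : Fin n ⊕ Fin n → F, W ψ (g *ᵥ (u + w)) ∘ₗ A ∘ₗ W ψ (-(u + w)) := by
    unfold avgOp
    exact (Equiv.sum_comp (Equiv.addRight w)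
      (fun v : Fin n ⊕ Fin n → F => W ψ (g *ᵥ v) ∘ₗ A ∘ₗ W ψ (-v))).symm
  apply LinearMap.ext
  intro f
  rw [LinearMap.comp_apply, LinearMap.comp_apply]
  conv_lhs => rw [hre]
  unfold avgOp
  rw [LinearMap.sum_apply, LinearMap.sum_apply, map_sum]
  apply Finset.sum_congr rfl
  intro u _
  exact LinearMap.congr_fun (avgOp_term ψ h2 hg A u w) f

/-- the rank-one operator `E_{ij} : f ↦ f j • δ_i` -/
noncomputable def unitOp (i j : Fin n → F) : Hsp n F →ₗ[ℂ] Hsp n F :=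
  (LinearMap.proj j : Hsp n F →ₗ[ℂ] ℂ).smulRight (Pi.single i (1 : ℂ))

theorem unitOp_apply (i j : Fin n → F) (f : Hsp n F) :
    unitOp i j f = f j • (Pi.single i (1 : ℂ) : Hsp n F) := rfl

theorem exists_avgOp_ne_zero (hψ : ψ ≠ 1)
    (g : Matrix (Fin n ⊕ Fin n) (Fin n ⊕ Fin n) F) :
    ∃ A : Hsp n F →ₗ[ℂ] Hsp n F, avgOp ψ g A ≠ 0 := by
  by_contra hcon
  push Not at hcon
  have key : ∑ i : Fin n → F, ∑ j : Fin n → F,
      (avgOp ψ g (unitOp i j) (Pi.single j (1 : ℂ))) i = 0 := by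
    apply Finset.sum_eq_zero; intro i _
    apply Finset.sum_eq_zero; intro j _
    rw [hcon]; rfl
  have hterm : ∀ i j : Fin n → F, (avgOp ψ g (unitOp i j) (Pi.single j (1 : ℂ))) i =
      ∑ v : Fin n ⊕ Fin n → F, (W ψ (-v) (Pi.single j (1 : ℂ))) j *
        (W ψ (g *ᵥ v) (Pi.single i (1 : ℂ))) i := by
    intro i j
    unfold avgOp
    rw [LinearMap.sum_apply, Finset.sum_apply]
    apply Finset.sum_congr rfl
    intro v _
    rw [LinearMap.comp_apply, LinearMap.comp_apply, unitOp_apply, map_smul, Pi.smul_apply,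
      smul_eq_mul]
  simp only [hterm] at key
  have key2 : ∑ v : Fin n ⊕ Fin n → F,
      LinearMap.trace ℂ (Hsp n F) (W ψ (-v)) * LinearMap.trace ℂ (Hsp n F) (W ψ (g *ᵥ v)) = 0 := by
    calc ∑ v : Fin n ⊕ Fin n → F,
          LinearMap.trace ℂ (Hsp n F) (W ψ (-v)) * LinearMap.trace ℂ (Hsp n F) (W ψ (g *ᵥ v))
        = ∑ v : Fin n ⊕ Fin n → F, ∑ i : Fin n → F, ∑ j : Fin n → F,
            (W ψ (-v) (Pi.single j (1 : ℂ))) j * (W ψ (g *ᵥ v) (Pi.single i (1 : ℂ))) i := by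
          apply Finset.sum_congr rfl
          intro v _
          rw [trace_eq_sum, trace_eq_sum, Finset.sum_mul_sum, Finset.sum_comm]
      _ = ∑ i : Fin n → F, ∑ v : Fin n ⊕ Fin n → F, ∑ j : Fin n → F,
            (W ψ (-v) (Pi.single j (1 : ℂ))) j * (W ψ (g *ᵥ v) (Pi.single i (1 : ℂ))) i :=
          Finset.sum_comm
      _ = ∑ i : Fin n → F, ∑ j : Fin n → F, ∑ v : Fin n ⊕ Fin n → F,
            (W ψ (-v) (Pi.single j (1 : ℂ))) j * (W ψ (g *ᵥ v) (Pi.single i (1 : ℂ))) i := by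
          apply Finset.sum_congr rfl
          intro i _
          exact Finset.sum_comm
      _ = 0 := key
  rw [Finset.sum_eq_single (0 : Fin n ⊕ Fin n → F)] at key2
  · rw [neg_zero, Matrix.mulVec_zero, trace_W ψ hψ, if_pos rfl] at key2
    have hq : ((Fintype.card F : ℂ)) ^ n ≠ 0 := by
      apply pow_ne_zero
      exact_mod_cast Fintype.card_ne_zero
    exact hq (mul_self_eq_zero.mp key2)
  · intro v _ hv
    rw [trace_W ψ hψ, if_neg (by simpa using hv), zero_mul]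
  · intro h; exact absurd (Finset.mem_univ _) h

theorem exists_implements (hψ : ψ ≠ 1) (h2 : (2 : F) ≠ 0)
    {g : Matrix (Fin n ⊕ Fin n) (Fin n ⊕ Fin n) F} (hg : g ∈ symplecticGroup (Fin n) F) :
    ∃ T : Hsp n F →ₗ[ℂ] Hsp n F, Function.Bijective T ∧ Implements ψ g T := by
  obtain ⟨A, hA⟩ := exists_avgOp_ne_zero ψ hψ g
  have himp := avgOp_implements ψ h2 hg A
  refine ⟨avgOp ψ g A, ?_, himp⟩
  have hker : LinearMap.ker (avgOp ψ g A) = ⊥ ∨ LinearMap.ker (avgOp ψ g A) = ⊤ := by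
    apply invariant_W_bot_or_top ψ hψ
    intro w f hf
    rw [LinearMap.mem_ker] at hf ⊢
    have := LinearMap.congr_fun (himp w) f
    rw [LinearMap.comp_apply, LinearMap.comp_apply, hf, map_zero] at this
    exact this
  rcases hker with hk | hk
  · have hinj : Function.Injective (avgOp ψ g A) := LinearMap.ker_eq_bot.mp hk
    exact ⟨hinj, LinearMap.injective_iff_surjective.mp hinj⟩
  · exact absurd (LinearMap.ker_eq_top.mp hk) hA

end W3

end Cfsg.Agent.Lib.Lead.Weil
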