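import Mathlib
import Cfsg.Agent.Lib.Lead.WeilDefs
import Cfsg.Agent.Lib.Helper3.WeilW1
import Cfsg.Agent.Lib.Lead.WeilW2

set_option autoImplicit false
set_option linter.unusedSectionVars false
set_option linter.unusedSimpArgs false

/-!
# S2347 existence half, PK-W4: formal properties of `Implements`
-/

namespace Cfsg.Agent.Lib.Lead.Weil

open Matrix

variable {F : Type*} [Field F] [Fintype F] [DecidableEq F] {n : ℕ} (ψ : AddChar F ℂ)

section W4

theorem implements_one : Implements ψ (1 : Matrix (Fin n ⊕ Fin n) (Fin n ⊕ Fin n) F) LinearMap.id := by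
  intro v
  rw [Matrix.one_mulVec, LinearMap.id_comp, LinearMap.comp_id]

theorem implements_mul {g h : Matrix (Fin n ⊕ Fin n) (Fin n ⊕ Fin n) F} {T T' : Hsp n F →ₗ[ℂ] Hsp n F}
    (hT : Implements ψ g T) (hT' : Implements ψ h T') : Implements ψ (g * h) (T ∘ₗ T') := by
  intro v
  rw [LinearMap.comp_assoc, hT' v, ← LinearMap.comp_assoc, hT (h *ᵥ v), LinearMap.comp_assoc,
    Matrix.mulVec_mulVec]

/-- implementers of the same map (any map of the index set) differ by a scalar -/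
theorem implements_unique_aux (hψ : ψ ≠ 1) (A : (Fin n ⊕ Fin n → F) → (Fin n ⊕ Fin n → F))
    {T T' : Hsp n F →ₗ[ℂ] Hsp n F} (hb : Function.Bijective T)
    (hT : ∀ v, T ∘ₗ W ψ v = W ψ (A v) ∘ₗ T) (hT' : ∀ v, T' ∘ₗ W ψ v = W ψ (A v) ∘ₗ T') :
    ∃ z : ℂ, T' = z • T := by
  let e : Hsp n F ≃ₗ[ℂ] Hsp n F := LinearEquiv.ofBijective T hb
  have he : ∀ f, e f = T f := fun f => rfl
  obtain ⟨Z, hZ⟩ : ∃ Z : Hsp n F →ₗ[ℂ] Hsp n F, ∀ f, T (Z f) = T' f := by
    refine ⟨(e.symm : Hsp n F →ₗ[ℂ] Hsp n F) ∘ₗ T', ?_⟩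
    intro f
    show T (e.symm (T' f)) = T' f
    rw [← he, LinearEquiv.apply_symm_apply]
  have hcomm : ∀ v, Z ∘ₗ W ψ v = W ψ v ∘ₗ Z := by
    intro v
    apply LinearMap.ext
    intro f
    apply hb.1
    rw [LinearMap.comp_apply, LinearMap.comp_apply, hZ]
    have h1 : T' (W ψ v f) = W ψ (A v) (T' f) := LinearMap.congr_fun (hT' v) f
    have h2 : T (W ψ v (Z f)) = W ψ (A v) (T (Z f)) := LinearMap.congr_fun (hT v) (Z f)
    rw [h1, h2, hZ]
  obtain ⟨c, hc⟩ := scalar_of_commute_W ψ hψ Z hcomm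
  refine ⟨c, ?_⟩
  apply LinearMap.ext
  intro f
  rw [← hZ f, hc]
  simp

theorem implements_unique (hψ : ψ ≠ 1) {g : Matrix (Fin n ⊕ Fin n) (Fin n ⊕ Fin n) F}
    {T T' : Hsp n F →ₗ[ℂ] Hsp n F} (hb : Function.Bijective T) (hb' : Function.Bijective T')
    (hT : Implements ψ g T) (hT' : Implements ψ g T') : ∃ z : ℂ, z ≠ 0 ∧ T' = z • T := by
  obtain ⟨z, hz⟩ := implements_unique_aux ψ hψ (fun v => g *ᵥ v) hb hT hT'
  refine ⟨z, ?_, hz⟩
  intro h0
  rw [h0, zero_smul] at hz
  -- `T' = 0` is not injective on the non-trivial function space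
  have h1 : T' (fun _ => (1 : ℂ)) = T' 0 := by rw [hz]; rfl
  have h2 := hb'.1 h1
  have h3 := congrFun h2 (0 : Fin n → F)
  simp at h3

theorem implements_comm_par (hψ : ψ ≠ 1) (h2 : (2 : F) ≠ 0) {g : Matrix (Fin n ⊕ Fin n) (Fin n ⊕ Fin n) F}
    {T : Hsp n F →ₗ[ℂ] Hsp n F} (hb : Function.Bijective T) (hT : Implements ψ g T) :
    T ∘ₗ par = par ∘ₗ T := by
  -- `T' := par ∘ T ∘ par` implements `g` as well
  have hpp : ∀ f : Hsp n F, par (par f) = f := fun f => LinearMap.congr_fun par_comp_par f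
  have hT' : Implements ψ g (par ∘ₗ T ∘ₗ par) := by
    intro v
    apply LinearMap.ext
    intro f
    simp only [LinearMap.comp_apply]
    have h1 : par (W ψ v f) = W ψ (-v) (par f) := LinearMap.congr_fun (par_comp_W ψ v) f
    have h2' : T (W ψ (-v) (par f)) = W ψ (g *ᵥ (-v)) (T (par f)) :=
      LinearMap.congr_fun (hT (-v)) (par f)
    have h3 : par (W ψ (-(g *ᵥ v)) (T (par f))) = W ψ (- -(g *ᵥ v)) (par (T (par f))) :=
      LinearMap.congr_fun (par_comp_W ψ (-(g *ᵥ v))) (T (par f))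
    rw [h1, h2', Matrix.mulVec_neg, h3, neg_neg]
  obtain ⟨z, hz⟩ := implements_unique_aux ψ hψ (fun v => g *ᵥ v) hb hT hT'
  -- traces: `tr (T⁻¹ ∘ par ∘ T) = tr par`
  let e : Hsp n F ≃ₗ[ℂ] Hsp n F := LinearEquiv.ofBijective T hb
  have he : ∀ f, e f = T f := fun f => rfl
  -- from `par ∘ T ∘ par = z • T`: `T ∘ par = z • par ∘ T`
  have h4 : T ∘ₗ par = z • (par ∘ₗ T) := by
    apply LinearMap.ext
    intro f
    have := LinearMap.congr_fun hz (par f)
    simp only [LinearMap.comp_apply, LinearMap.smul_apply, hpp] at this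
    -- this : par (T f) = z • T (par f)
    simp only [LinearMap.comp_apply, LinearMap.smul_apply]
    have h5 := congrArg par this
    rw [hpp, map_smul] at h5
    -- h5 : T f = z • par (T (par f))
    have h6 := LinearMap.congr_fun hz f
    simp only [LinearMap.comp_apply, LinearMap.smul_apply] at h6
    -- h6 : par (T (par f)) = z • T f
    have h7 := congrArg par h6
    rw [hpp, map_smul] at h7
    exact h7
  -- conjugate: `e.symm ∘ T ∘ par ∘ e.symm.symm ...`; use trace of `e.symm.conj`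
  have h8 : (e.symm.conj (T ∘ₗ par ∘ₗ (e.symm : Hsp n F →ₗ[ℂ] Hsp n F))) = par := by
    apply LinearMap.ext
    intro f
    rw [LinearEquiv.conj_apply]
    simp only [LinearMap.comp_apply, LinearEquiv.coe_coe, LinearEquiv.symm_symm]
    rw [LinearEquiv.symm_apply_apply]
    show e.symm (T (par f)) = par f
    rw [← he, LinearEquiv.symm_apply_apply]
  have h9 : T ∘ₗ par ∘ₗ (e.symm : Hsp n F →ₗ[ℂ] Hsp n F) = z • par := by
    apply LinearMap.ext
    intro f
    have := LinearMap.congr_fun h4 (e.symm f)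
    simp only [LinearMap.comp_apply, LinearMap.smul_apply] at this
    simp only [LinearMap.comp_apply, LinearMap.smul_apply, LinearEquiv.coe_coe]
    rw [this, ← he, LinearEquiv.apply_symm_apply]
  have h10 : LinearMap.trace ℂ (Hsp n F) par = z * LinearMap.trace ℂ (Hsp n F) par := by
    conv_lhs => rw [← h8, LinearMap.trace_conj', h9, map_smul, smul_eq_mul]
  rw [trace_par h2, mul_one] at h10
  rw [h4, ← h10, one_smul]

theorem implements_map_oddS (hψ : ψ ≠ 1) (h2 : (2 : F) ≠ 0) {g : Matrix (Fin n ⊕ Fin n) (Fin n ⊕ Fin n) F}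
    {T : Hsp n F →ₗ[ℂ] Hsp n F} (hb : Function.Bijective T) (hT : Implements ψ g T) :
    ∀ f ∈ oddS n F, T f ∈ oddS n F := by
  intro f hf
  have hc := implements_comm_par ψ hψ h2 hb hT
  have hpf : par f = -f := by
    funext t
    rw [par_apply, Pi.neg_apply]
    exact hf t
  intro t
  have h1 : par (T f) = T (par f) := (LinearMap.congr_fun hc f).symm
  have h3 := congrFun h1 t
  rw [par_apply, hpf, map_neg] at h3
  exact h3

theorem implements_map_evenS (hψ : ψ ≠ 1) (h2 : (2 : F) ≠ 0) {g : Matrix (Fin n ⊕ Fin n) (Fin n ⊕ Fin n) F}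
    {T : Hsp n F →ₗ[ℂ] Hsp n F} (hb : Function.Bijective T) (hT : Implements ψ g T) :
    ∀ f ∈ evenS n F, T f ∈ evenS n F := by
  intro f hf
  have hc := implements_comm_par ψ hψ h2 hb hT
  have hpf : par f = f := by
    funext t
    rw [par_apply]
    exact hf t
  intro t
  have h1 : par (T f) = T (par f) := (LinearMap.congr_fun hc f).symm
  have h3 := congrFun h1 t
  rw [par_apply, hpf] at h3
  exact h3

end W4

end Cfsg.Agent.Lib.Lead.Weil
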