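import Mathlib
import Cfsg.Agent.Lib.Lead.WeilDefs
import Cfsg.Agent.Lib.Helper3.WeilW1

set_option autoImplicit false
set_option linter.unusedSectionVars false
set_option linter.unusedSimpArgs false

/-!
# S2347 existence half, PK-W8: dimensions of the odd and even functions
-/

namespace Cfsg.Agent.Lib.Lead.Weil

open Matrix

variable {F : Type*} [Field F] [Fintype F] [DecidableEq F] {n : ℕ}

section W8

theorem isCompl_even_odd (h2 : (2 : F) ≠ 0) : IsCompl (evenS n F) (oddS n F) := by
  rw [isCompl_iff]
  constructor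
  · rw [Submodule.disjoint_def]
    intro f he ho
    funext t
    have h1 := he t
    have h2' := ho t
    rw [h1] at h2'
    have : (2 : ℂ) * f t = 0 := by linear_combination h2'
    rcases mul_eq_zero.mp this with h | h
    · norm_num at h
    · exact h
  · rw [Submodule.codisjoint_iff_exists_add_eq]
    intro f
    have hE : (fun t => (f t + f (-t)) / 2 : Hsp n F) ∈ evenS n F := by
      intro t
      simp only [neg_neg]
      ring
    have hO : (fun t => (f t - f (-t)) / 2 : Hsp n F) ∈ oddS n F := by
      intro t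
      simp only [neg_neg]
      ring
    refine ⟨_, _, hE, hO, ?_⟩
    funext t
    simp only [Pi.add_apply]
    ring

/-- the projection onto the odd functions -/
noncomputable def oddProj : Hsp n F →ₗ[ℂ] Hsp n F :=
  (2⁻¹ : ℂ) • (LinearMap.id - par)

theorem oddProj_apply (f : Hsp n F) (t : Fin n → F) : oddProj f t = 2⁻¹ * (f t - f (-t)) := rfl

theorem isProj_oddProj : LinearMap.IsProj (oddS n F) (oddProj : Hsp n F →ₗ[ℂ] Hsp n F) := by
  constructor
  · intro f t
    rw [oddProj_apply, oddProj_apply, neg_neg]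
    ring
  · intro f hf
    funext t
    rw [oddProj_apply, hf t]
    ring

theorem finrank_Hsp : Module.finrank ℂ (Hsp n F) = Fintype.card F ^ n := by
  show Module.finrank ℂ ((Fin n → F) → ℂ) = Fintype.card F ^ n
  rw [Module.finrank_fintype_fun_eq_card, Fintype.card_pi]
  simp

theorem finrank_oddS (h2 : (2 : F) ≠ 0) :
    2 * Module.finrank ℂ (oddS n F) + 1 = Fintype.card F ^ n := by
  have h1 : LinearMap.trace ℂ (Hsp n F) (oddProj : Hsp n F →ₗ[ℂ] Hsp n F) =
      (Module.finrank ℂ (oddS n F) : ℂ) := isProj_oddProj.trace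
  have h3 : LinearMap.trace ℂ (Hsp n F) (oddProj : Hsp n F →ₗ[ℂ] Hsp n F) =
      2⁻¹ * ((Fintype.card F ^ n : ℕ) - 1) := by
    unfold oddProj
    rw [map_smul, map_sub, trace_par h2, LinearMap.trace_id, finrank_Hsp, smul_eq_mul]
  rw [h1] at h3
  have h4 : ((2 * Module.finrank ℂ (oddS n F) + 1 : ℕ) : ℂ) = ((Fintype.card F ^ n : ℕ) : ℂ) := by
    push_cast
    rw [h3]
    push_cast
    ring
  exact_mod_cast h4

theorem finrank_evenS (h2 : (2 : F) ≠ 0) :
    Module.finrank ℂ (evenS n F) = Module.finrank ℂ (oddS n F) + 1 := by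
  have h1 := Submodule.finrank_add_eq_of_isCompl (isCompl_even_odd (n := n) h2)
  rw [finrank_Hsp] at h1
  have h3 := finrank_oddS (n := n) h2
  omega

end W8

end Cfsg.Agent.Lib.Lead.Weil
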