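import Mathlib
import Cfsg.Agent.Lib.Lead.WeilW9

/-!
# S2524 PK-C, part 2: the Fourier operator implements `J`; every implementer of a symplectic
matrix is proportional to a bijective one.
-/

namespace Cfsg.Agent.Lib.Helper3.WGC

open Matrix Module Cfsg.Agent.Lib.Lead.Weil

set_option linter.unusedSectionVars false

variable {F : Type*} [Field F] [Fintype F] [DecidableEq F] {n : ℕ} (ψ : AddChar F ℂ)

/-- the Fourier operator `(four ψ f) t = ∑ u, ψ (-(t ⬝ u)) * f u` -/
noncomputable def four : Hsp n F →ₗ[ℂ] Hsp n F where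
  toFun f := fun t => ∑ u : Fin n → F, ψ (-(t ⬝ᵥ u)) * f u
  map_add' f g := by
    funext t
    simp only [Pi.add_apply, mul_add, Finset.sum_add_distrib]
  map_smul' c f := by
    funext t
    simp only [Pi.smul_apply, smul_eq_mul, RingHom.id_apply, Finset.mul_sum]
    exact Finset.sum_congr rfl fun u _ => by ring

theorem four_apply (f : Hsp n F) (t : Fin n → F) :
    four ψ f t = ∑ u : Fin n → F, ψ (-(t ⬝ᵥ u)) * f u := rfl

theorem four_implements (h2 : (2 : F) ≠ 0) : Implements ψ (Matrix.J (Fin n) F) (four ψ) := by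
  intro v
  refine LinearMap.ext fun f => funext fun t => ?_
  have hx : (Matrix.J (Fin n) F *ᵥ v) ∘ Sum.inl = -(v ∘ Sum.inr) := by
    unfold Matrix.J
    rw [fromBlocks_mulVec]; funext i; simp [neg_mulVec]
  have hy : (Matrix.J (Fin n) F *ᵥ v) ∘ Sum.inr = v ∘ Sum.inl := by
    unfold Matrix.J
    rw [fromBlocks_mulVec]; funext i; simp
  simp only [LinearMap.comp_apply, W, hx, hy, four_apply, weyl_apply]
  set x := v ∘ Sum.inl with hxdef
  set y := v ∘ Sum.inr with hydef
  rw [Finset.mul_sum]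
  refine Fintype.sum_equiv (Equiv.addRight x) _ _ (fun u => ?_)
  show _ = ψ (x ⬝ᵥ t + 2⁻¹ * (-y ⬝ᵥ x)) * (ψ (-((t + -y) ⬝ᵥ (u + x))) * f (u + x))
  rw [← mul_assoc, ← mul_assoc, ← AddChar.map_add_eq_mul, ← AddChar.map_add_eq_mul]
  congr 2
  simp only [add_dotProduct, dotProduct_add, neg_dotProduct]
  rw [dotProduct_comm x t, dotProduct_comm y x]
  have h22 : (2 : F)⁻¹ * 2 = 1 := inv_mul_cancel₀ h2
  linear_combination (x ⬝ᵥ y) * h22

theorem four_delta_zero : four ψ (Pi.single (0 : Fin n → F) (1 : ℂ)) = fun _ => 1 := by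
  funext t
  rw [four_apply, Finset.sum_eq_single (0 : Fin n → F)]
  · simp
  · intro u _ hu
    rw [Pi.single_apply, if_neg hu, mul_zero]
  · intro h
    exact absurd (Finset.mem_univ _) h

theorem four_ne_zero : (four ψ : Hsp n F →ₗ[ℂ] Hsp n F) ≠ 0 := by
  intro h
  have h1 := four_delta_zero (n := n) ψ
  rw [h] at h1
  have h2 := congrFun h1 0
  simp at h2

/-- any (not necessarily bijective) implementer of a symplectic matrix is a multiple of a given
bijective one -/
theorem implements_smul (hψ : ψ ≠ 1) {g : Matrix (Fin n ⊕ Fin n) (Fin n ⊕ Fin n) F}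
    {T T' : Hsp n F →ₗ[ℂ] Hsp n F} (hb : Function.Bijective T)
    (hT : Implements ψ g T) (hT' : Implements ψ g T') : ∃ z : ℂ, T' = z • T :=
  implements_unique_aux ψ hψ (fun v => g *ᵥ v) hb hT hT'

end Cfsg.Agent.Lib.Helper3.WGC
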