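import Mathlib
import Cfsg.Agent.Lib.Lead.WeilW9
import Cfsg.Agent.Lib.Helper3.WG_C1

/-!
# S2524 PK-C, part 3: the normalising scalar of the quadratic multipliers is `1`, the one of the
parity operator is a sign.
-/

namespace Cfsg.Agent.Lib.Helper3.WGC

open Matrix Module Cfsg.Agent.Lib.Lead.Weil

set_option linter.unusedSectionVars false

variable {F : Type*} [Field F] [Fintype F] [DecidableEq F] {n : ℕ}

/-- an odd sign function on `F^n` -/
noncomputable def sgnV (t : Fin n → F) : ℂ :=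
  if Fintype.equivFin (Fin n → F) t < Fintype.equivFin (Fin n → F) (-t) then -1
  else if Fintype.equivFin (Fin n → F) (-t) < Fintype.equivFin (Fin n → F) t then 1 else 0

theorem sgnV_neg (t : Fin n → F) : sgnV (-t) = - sgnV t := by
  unfold sgnV
  rw [neg_neg]
  rcases lt_trichotomy (Fintype.equivFin (Fin n → F) t) (Fintype.equivFin (Fin n → F) (-t))
    with h | h | h
  · rw [if_pos h, if_neg (not_lt.2 h.le), if_pos h]
    simp
  · rw [h]
    simp
  · rw [if_pos h, if_neg (not_lt.2 h.le), if_pos h]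

theorem neg_ne_self (h2 : (2 : F) ≠ 0) {t : Fin n → F} (ht : t ≠ 0) : -t ≠ t := by
  intro h
  apply ht
  funext i
  have h1 : -t i = t i := congrFun h i
  have h3 : (2 : F) * t i = 0 := by linear_combination -h1
  rcases mul_eq_zero.1 h3 with h4 | h4
  · exact absurd h4 h2
  · exact h4

theorem sgnV_mul_self (h2 : (2 : F) ≠ 0) {t : Fin n → F} (ht : t ≠ 0) : sgnV t * sgnV t = 1 := by
  unfold sgnV
  have hne : Fintype.equivFin (Fin n → F) (-t) ≠ Fintype.equivFin (Fin n → F) t := by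
    intro h
    exact neg_ne_self h2 ht ((Fintype.equivFin (Fin n → F)).injective h)
  rcases lt_trichotomy (Fintype.equivFin (Fin n → F) t) (Fintype.equivFin (Fin n → F) (-t))
    with h | h | h
  · rw [if_pos h]; norm_num
  · exact absurd h.symm hne
  · rw [if_neg (not_lt.2 h.le), if_pos h]; norm_num

theorem sgnV_zero : sgnV (0 : Fin n → F) = 0 := by
  have h := sgnV_neg (0 : Fin n → F)
  rw [neg_zero] at h
  have h3 : (2 : ℂ) * sgnV (0 : Fin n → F) = 0 := by linear_combination h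
  rcases mul_eq_zero.1 h3 with h4 | h4
  · norm_num at h4
  · exact h4

theorem odd_apply_zero {f : Hsp n F} (hf : f ∈ oddS n F) : f 0 = 0 := by
  have h := hf 0
  rw [neg_zero] at h
  have h3 : (2 : ℂ) * f 0 = 0 := by linear_combination h
  rcases mul_eq_zero.1 h3 with h4 | h4
  · norm_num at h4
  · exact h4

/-- the forward map of the comparison isomorphism `oddS × ℂ ≃ evenS` -/
noncomputable def cmpFun : (oddS n F × ℂ) →ₗ[ℂ] evenS n F where
  toFun p := ⟨fun t => sgnV t * (p.1 : Hsp n F) t + (if t = 0 then p.2 else 0), by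
    intro t
    show sgnV (-t) * (p.1 : Hsp n F) (-t) + (if -t = 0 then p.2 else 0) =
      sgnV t * (p.1 : Hsp n F) t + (if t = 0 then p.2 else 0)
    rw [sgnV_neg, p.1.2 t]
    simp only [neg_eq_zero]
    ring⟩
  map_add' p p' := by
    apply Subtype.ext
    funext t
    show sgnV t * ((p.1 : Hsp n F) t + (p'.1 : Hsp n F) t) + (if t = 0 then p.2 + p'.2 else 0) =
      (sgnV t * (p.1 : Hsp n F) t + (if t = 0 then p.2 else 0)) +
        (sgnV t * (p'.1 : Hsp n F) t + (if t = 0 then p'.2 else 0))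
    split_ifs <;> ring
  map_smul' c p := by
    apply Subtype.ext
    funext t
    show sgnV t * (c * (p.1 : Hsp n F) t) + (if t = 0 then c * p.2 else 0) =
      c * (sgnV t * (p.1 : Hsp n F) t + (if t = 0 then p.2 else 0))
    split_ifs <;> ring

theorem cmpFun_apply (p : oddS n F × ℂ) (t : Fin n → F) :
    ((cmpFun p : evenS n F) : Hsp n F) t =
      sgnV t * (p.1 : Hsp n F) t + (if t = 0 then p.2 else 0) := rfl

/-- the backward map of the comparison isomorphism -/
noncomputable def cmpInv : evenS n F →ₗ[ℂ] (oddS n F × ℂ) where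
  toFun g := (⟨fun t => sgnV t * (g : Hsp n F) t, by
    intro t
    show sgnV (-t) * (g : Hsp n F) (-t) = -(sgnV t * (g : Hsp n F) t)
    rw [sgnV_neg, g.2 t]
    ring⟩, (g : Hsp n F) 0)
  map_add' g g' := by
    refine Prod.ext (Subtype.ext (funext fun t => ?_)) rfl
    show sgnV t * ((g : Hsp n F) t + (g' : Hsp n F) t) =
      sgnV t * (g : Hsp n F) t + sgnV t * (g' : Hsp n F) t
    ring
  map_smul' c g := by
    refine Prod.ext (Subtype.ext (funext fun t => ?_)) rfl
    show sgnV t * (c * (g : Hsp n F) t) = c * (sgnV t * (g : Hsp n F) t)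
    ring

theorem cmpInv_fst_apply (g : evenS n F) (t : Fin n → F) :
    (((cmpInv g).1 : oddS n F) : Hsp n F) t = sgnV t * (g : Hsp n F) t := rfl

theorem cmpInv_snd (g : evenS n F) : (cmpInv g).2 = (g : Hsp n F) 0 := rfl

/-- the comparison isomorphism `oddS × ℂ ≃ evenS` -/
noncomputable def cmpEquiv (h2 : (2 : F) ≠ 0) : (oddS n F × ℂ) ≃ₗ[ℂ] evenS n F :=
  LinearEquiv.ofLinear cmpFun cmpInv
    (by
      refine LinearMap.ext fun g => Subtype.ext (funext fun t => ?_)
      show ((cmpFun (cmpInv g) : evenS n F) : Hsp n F) t = (g : Hsp n F) t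
      rw [cmpFun_apply, cmpInv_fst_apply, cmpInv_snd]
      by_cases ht : t = 0
      · subst ht
        rw [sgnV_zero]
        simp
      · rw [if_neg ht, ← mul_assoc, sgnV_mul_self h2 ht]
        ring)
    (by
      refine LinearMap.ext fun p => Prod.ext (Subtype.ext (funext fun t => ?_)) ?_
      · show (((cmpInv (cmpFun p)).1 : oddS n F) : Hsp n F) t = (p.1 : Hsp n F) t
        rw [cmpInv_fst_apply, cmpFun_apply]
        by_cases ht : t = 0
        · subst ht
          rw [sgnV_zero, odd_apply_zero p.1.2]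
          simp
        · rw [if_neg ht, mul_add, ← mul_assoc, sgnV_mul_self h2 ht]
          ring
      · show (cmpInv (cmpFun p)).2 = p.2
        rw [cmpInv_snd, cmpFun_apply, sgnV_zero]
        simp)

theorem cmpEquiv_apply (h2 : (2 : F) ≠ 0) (p : oddS n F × ℂ) : cmpEquiv h2 p = cmpFun p := rfl

/-- pointwise multiplication by an even function with value `1` at `0`: the restriction to the even
functions is conjugate to the restriction to the odd functions plus a trivial summand -/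
theorem restrict_even_conj (h2 : (2 : F) ≠ 0) (T : Hsp n F →ₗ[ℂ] Hsp n F)
    (lam : (Fin n → F) → ℂ) (hT : ∀ f t, T f t = lam t * f t) (hl0 : lam 0 = 1)
    (a : ∀ x ∈ evenS n F, T x ∈ evenS n F) (b : ∀ x ∈ oddS n F, T x ∈ oddS n F) :
    T.restrict a = ((cmpEquiv h2 : (oddS n F × ℂ) ≃ₗ[ℂ] evenS n F) : _ →ₗ[ℂ] _) ∘ₗ
      (LinearMap.prodMap (T.restrict b) (LinearMap.id : ℂ →ₗ[ℂ] ℂ)) ∘ₗ
      (((cmpEquiv h2 : (oddS n F × ℂ) ≃ₗ[ℂ] evenS n F).symm : _ ≃ₗ[ℂ] _) : _ →ₗ[ℂ] _) := by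
  refine LinearMap.ext fun g => ?_
  obtain ⟨p, rfl⟩ := (cmpEquiv h2 : (oddS n F × ℂ) ≃ₗ[ℂ] evenS n F).surjective g
  simp only [LinearMap.comp_apply, LinearEquiv.coe_coe, LinearEquiv.symm_apply_apply]
  apply Subtype.ext
  funext t
  rw [LinearMap.restrict_coe_apply, hT, cmpEquiv_apply, cmpEquiv_apply, cmpFun_apply, cmpFun_apply]
  show _ = sgnV t * ((T.restrict b p.1 : oddS n F) : Hsp n F) t + (if t = 0 then p.2 else 0)
  rw [LinearMap.restrict_coe_apply, hT]
  by_cases ht : t = 0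
  · subst ht
    rw [hl0, sgnV_zero]
    simp
  · simp only [if_neg ht]
    ring

/-- pointwise multiplication by an even function with value `1` at `0` has the same determinant
on the even and on the odd functions -/
theorem det_restrict_even_eq_odd (h2 : (2 : F) ≠ 0) (T : Hsp n F →ₗ[ℂ] Hsp n F)
    (lam : (Fin n → F) → ℂ) (hT : ∀ f t, T f t = lam t * f t) (hl0 : lam 0 = 1)
    (a : ∀ x ∈ evenS n F, T x ∈ evenS n F) (b : ∀ x ∈ oddS n F, T x ∈ oddS n F) :
    LinearMap.det (T.restrict a) = LinearMap.det (T.restrict b) := by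
  rw [restrict_even_conj h2 T lam hT hl0 a b, LinearMap.det_conj, LinearMap.det_prodMap]
  simp

/-- pointwise multiplication by an even function with value `1` at `0`: the trace on the even
functions is one more than the trace on the odd functions -/
theorem trace_restrict_even_eq_odd (h2 : (2 : F) ≠ 0) (T : Hsp n F →ₗ[ℂ] Hsp n F)
    (lam : (Fin n → F) → ℂ) (hT : ∀ f t, T f t = lam t * f t) (hl0 : lam 0 = 1)
    (a : ∀ x ∈ evenS n F, T x ∈ evenS n F) (b : ∀ x ∈ oddS n F, T x ∈ oddS n F) :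
    LinearMap.trace ℂ _ (T.restrict a) = LinearMap.trace ℂ _ (T.restrict b) + 1 := by
  rw [restrict_even_conj h2 T lam hT hl0 a b]
  have : ((cmpEquiv h2 : (oddS n F × ℂ) ≃ₗ[ℂ] evenS n F) : _ →ₗ[ℂ] _) ∘ₗ
      (LinearMap.prodMap (T.restrict b) (LinearMap.id : ℂ →ₗ[ℂ] ℂ)) ∘ₗ
      (((cmpEquiv h2 : (oddS n F × ℂ) ≃ₗ[ℂ] evenS n F).symm : _ ≃ₗ[ℂ] _) : _ →ₗ[ℂ] _) =
      (cmpEquiv h2 : (oddS n F × ℂ) ≃ₗ[ℂ] evenS n F).conj
        (LinearMap.prodMap (T.restrict b) (LinearMap.id : ℂ →ₗ[ℂ] ℂ)) := rfl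
  rw [this, LinearMap.trace_conj', LinearMap.trace_prodMap']
  simp

theorem dnorm_mulQ (h2 : (2 : F) ≠ 0) (ψ : AddChar F ℂ) (C : Matrix (Fin n) (Fin n) F)
    (a : ∀ x ∈ evenS n F, mulQ ψ C x ∈ evenS n F) (b : ∀ x ∈ oddS n F, mulQ ψ C x ∈ oddS n F) :
    dnorm (evenS n F) (oddS n F) (mulQ ψ C) a b = 1 := by
  unfold dnorm
  rw [det_restrict_even_eq_odd h2 (mulQ ψ C) (fun t => ψ (-(2⁻¹ * (t ⬝ᵥ C *ᵥ t))))
    (fun f t => rfl) (by simp) a b]
  exact mul_inv_cancel₀ (det_restrict_ne_zero _ (mulQ_bijective ψ C).1 b)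

/-- the normalising scalar of the parity operator -/
theorem dnorm_par (a : ∀ x ∈ evenS n F, (par : Hsp n F →ₗ[ℂ] Hsp n F) x ∈ evenS n F)
    (b : ∀ x ∈ oddS n F, (par : Hsp n F →ₗ[ℂ] Hsp n F) x ∈ oddS n F) :
    dnorm (evenS n F) (oddS n F) (par : Hsp n F →ₗ[ℂ] Hsp n F) a b =
      (-1 : ℂ) ^ finrank ℂ (oddS n F) := by
  unfold dnorm
  have h1 : (par : Hsp n F →ₗ[ℂ] Hsp n F).restrict a = 1 := by
    refine LinearMap.ext fun g => Subtype.ext (funext fun t => ?_)
    rw [LinearMap.restrict_coe_apply, par_apply]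
    exact g.2 t
  have h3 : (par : Hsp n F →ₗ[ℂ] Hsp n F).restrict b = (-1 : ℂ) • (1 : Module.End ℂ (oddS n F)) := by
    refine LinearMap.ext fun g => Subtype.ext (funext fun t => ?_)
    rw [LinearMap.restrict_coe_apply, par_apply]
    show (g : Hsp n F) (-t) = (-1 : ℂ) * (g : Hsp n F) t
    rw [g.2 t]
    ring
  rw [h1, h3, LinearMap.det_smul, map_one, map_one]
  simp

end Cfsg.Agent.Lib.Helper3.WGC
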