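import Mathlib
import Cfsg.Agent.Lib.Lead.WeilW9
import Cfsg.Agent.Lib.Helper3.WG_C2

/-!
# S2524 PK-C, part 4: the even functions are irreducible under the quadratic multipliers, the
dilations and the Fourier operator.
-/

namespace Cfsg.Agent.Lib.Helper3.WGC

open Matrix Module Cfsg.Agent.Lib.Lead.Weil

set_option linter.unusedSectionVars false

variable {F : Type*} [Field F] [Fintype F] [DecidableEq F] {n : ℕ} (ψ : AddChar F ℂ)

/-- the even delta function `δ_s + δ_{-s}` -/
noncomputable def evenDelta (s : Fin n → F) : Hsp n F := Pi.single s 1 + Pi.single (-s) 1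

theorem evenDelta_apply (s u : Fin n → F) :
    evenDelta s u = (if u = s then 1 else 0) + (if u = -s then 1 else 0) := by
  unfold evenDelta
  rw [Pi.add_apply, Pi.single_apply, Pi.single_apply]

theorem dilA_evenDelta (A : Matrix (Fin n) (Fin n) F) (hA : IsUnit A.det) (s : Fin n → F) :
    dilA A (evenDelta s) = evenDelta (A *ᵥ s) := by
  funext u
  rw [dilA_apply, evenDelta_apply, evenDelta_apply]
  have e1 : A⁻¹ *ᵥ u = s ↔ u = A *ᵥ s := by
    constructor
    · intro h; rw [← h, mulVec_mulVec, Matrix.mul_nonsing_inv A hA, one_mulVec]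
    · intro h; rw [h, mulVec_mulVec, Matrix.nonsing_inv_mul A hA, one_mulVec]
  have e2 : A⁻¹ *ᵥ u = -s ↔ u = -(A *ᵥ s) := by
    constructor
    · intro h; rw [← mulVec_neg, ← h, mulVec_mulVec, Matrix.mul_nonsing_inv A hA, one_mulVec]
    · intro h; rw [h, mulVec_neg, mulVec_mulVec, Matrix.nonsing_inv_mul A hA, one_mulVec]
  simp only [e1, e2]

/-- an even function is a combination of even delta functions -/
theorem even_eq_sum {g : Hsp n F} (hg : g ∈ evenS n F) :
    g = (2 : ℂ)⁻¹ • ∑ t : Fin n → F, g t • evenDelta t := by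
  have hgev : ∀ t, g (-t) = g t := hg
  funext u
  rw [Pi.smul_apply, Finset.sum_apply]
  have hterm : ∀ t : Fin n → F, (g t • evenDelta t) u
      = (if t = u then g t else 0) + (if t = -u then g t else 0) := by
    intro t
    rw [Pi.smul_apply, evenDelta_apply, smul_eq_mul, mul_add]
    congr 1
    · by_cases h : t = u
      · rw [if_pos h, if_pos h.symm, mul_one]
      · rw [if_neg h, if_neg (Ne.symm h), mul_zero]
    · by_cases h : t = -u
      · rw [if_pos h, if_pos (by rw [h, neg_neg]), mul_one]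
      · rw [if_neg h, if_neg (by intro h'; apply h; rw [h', neg_neg]), mul_zero]
  rw [Finset.sum_congr rfl (fun t _ => hterm t), Finset.sum_add_distrib,
    Finset.sum_ite_eq' Finset.univ u, Finset.sum_ite_eq' Finset.univ (-u)]
  simp only [Finset.mem_univ, if_true]
  rw [hgev u, smul_eq_mul]
  ring

theorem four_evenDelta_zero (s : Fin n → F) :
    four ψ (evenDelta s) 0 = 2 := by
  rw [four_apply]
  have : ∀ u : Fin n → F, ψ (-((0 : Fin n → F) ⬝ᵥ u)) * evenDelta s u
      = (if u = s then 1 else 0) + (if u = -s then 1 else 0) := by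
    intro u
    rw [zero_dotProduct, neg_zero, AddChar.map_zero_eq_one, one_mul, evenDelta_apply]
  rw [Finset.sum_congr rfl (fun u _ => this u), Finset.sum_add_distrib,
    Finset.sum_ite_eq' Finset.univ s, Finset.sum_ite_eq' Finset.univ (-s)]
  simp only [Finset.mem_univ, if_true]
  norm_num

theorem even_irreducible_core (hψ : ψ ≠ 1) (h2 : (2 : F) ≠ 0) (hn : 1 ≤ n)
    (M : Submodule ℂ (Hsp n F)) (hM : M ≤ evenS n F)
    (h1 : ∀ C : Matrix (Fin n) (Fin n) F, C.IsSymm → ∀ f ∈ M, mulQ ψ C f ∈ M)
    (h3 : ∀ A : Matrix (Fin n) (Fin n) F, IsUnit A.det → ∀ f ∈ M, dilA A f ∈ M)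
    (h4 : ∀ f ∈ M, four ψ f ∈ M) :
    M = ⊥ ∨ M = evenS n F := by
  classical
  by_cases hbot : M = ⊥
  · left; exact hbot
  right
  obtain ⟨f, hfM, hf0⟩ := (Submodule.ne_bot_iff M).mp hbot
  have hne : ∀ s : Fin n → F, s ≠ 0 → s ≠ -s := by
    intro s hs h
    have h4' : (2 : F) • s = 0 := by rw [two_smul]; nth_rewrite 1 [h]; simp
    rcases smul_eq_zero.mp h4' with h5 | h5
    · exact h2 h5
    · exact hs h5
  -- from a function in `M` which does not vanish at some `s ≠ 0` we get `evenDelta s`
  have step : ∀ (g : Hsp n F), g ∈ M → ∀ s : Fin n → F, s ≠ 0 → g s ≠ 0 → evenDelta s ∈ M := by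
    intro g hgM s hs hgs
    have hgev : ∀ t, g (-t) = g t := hM hgM
    have hr := restrict_mem ψ hψ h2 M h1 hgM hs
    have : evenDelta s = (g s)⁻¹ • (fun t => if t = s ∨ t = -s then g t else 0) := by
      funext u
      rw [evenDelta_apply, Pi.smul_apply, smul_eq_mul]
      by_cases hus : u = s
      · subst hus
        rw [if_pos rfl, if_neg (hne u hs), if_pos (Or.inl rfl), inv_mul_cancel₀ hgs, add_zero]
      · by_cases hus' : u = -s
        · subst hus'
          rw [if_neg hus, if_pos rfl, if_pos (Or.inr rfl), hgev s, inv_mul_cancel₀ hgs, zero_add]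
        · rw [if_neg hus, if_neg hus', if_neg (by tauto), mul_zero, add_zero]
    rw [this]
    exact M.smul_mem _ hr
  -- some `evenDelta s`, `s ≠ 0`, lies in `M`
  obtain ⟨s, hs, hδs⟩ : ∃ s : Fin n → F, s ≠ 0 ∧ evenDelta s ∈ M := by
    by_cases hex : ∃ s : Fin n → F, s ≠ 0 ∧ f s ≠ 0
    · obtain ⟨s, hs, hfs⟩ := hex
      exact ⟨s, hs, step f hfM s hs hfs⟩
    · have hex : ∀ s : Fin n → F, s ≠ 0 → f s = 0 := by
        intro s hs
        by_contra hfs
        exact hex ⟨s, hs, hfs⟩
      have hf00 : f 0 ≠ 0 := by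
        intro h0
        apply hf0
        funext t
        by_cases ht : t = 0
        · rw [ht]; exact h0
        · exact hex t ht
      have hfd : f = f 0 • (Pi.single (0 : Fin n → F) (1 : ℂ) : Hsp n F) := by
        funext t
        rw [Pi.smul_apply, Pi.single_apply, smul_eq_mul]
        by_cases ht : t = 0
        · rw [if_pos ht, ht, mul_one]
        · rw [if_neg ht, mul_zero]; exact hex t ht
      have hconst : (fun _ => (1 : ℂ) : Hsp n F) ∈ M := by
        have h5 := h4 f hfM
        rw [hfd, map_smul, four_delta_zero] at h5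
        have h6 := M.smul_mem (f 0)⁻¹ h5
        rwa [smul_smul, inv_mul_cancel₀ hf00, one_smul] at h6
      let s : Fin n → F := fun _ => 1
      have hs : s ≠ 0 := by
        intro h
        have := congrFun h ⟨0, hn⟩
        exact one_ne_zero this
      exact ⟨s, hs, step _ hconst s hs one_ne_zero⟩
  -- all even deltas at nonzero points
  have hδ : ∀ t : Fin n → F, t ≠ 0 → evenDelta t ∈ M := by
    intro t ht
    obtain ⟨A, hA, hAs⟩ := exists_gl_map hs ht
    rw [← hAs, ← dilA_evenDelta A hA s]
    exact h3 A hA _ hδs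
  -- the even delta at `0`
  have hδ0 : evenDelta (0 : Fin n → F) ∈ M := by
    set h := four ψ (evenDelta s) with hh
    have hhM : h ∈ M := h4 _ hδs
    have hh0 : h 0 = 2 := four_evenDelta_zero ψ s
    have hdec := even_eq_sum (hM hhM)
    rw [← Finset.add_sum_erase Finset.univ _ (Finset.mem_univ (0 : Fin n → F)), hh0] at hdec
    have hrest : (∑ t ∈ Finset.univ.erase (0 : Fin n → F), h t • evenDelta t) ∈ M :=
      Submodule.sum_mem _ fun t ht => M.smul_mem _ (hδ t (Finset.ne_of_mem_erase ht))
    have : evenDelta (0 : Fin n → F) =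
        h - (2 : ℂ)⁻¹ • ∑ t ∈ Finset.univ.erase (0 : Fin n → F), h t • evenDelta t := by
      rw [eq_sub_iff_add_eq]
      nth_rewrite 2 [hdec]
      rw [smul_add, smul_smul]
      norm_num
    rw [this]
    exact M.sub_mem hhM (M.smul_mem _ hrest)
  refine le_antisymm hM ?_
  intro g hg
  rw [even_eq_sum hg]
  refine M.smul_mem _ (Submodule.sum_mem _ fun t _ => M.smul_mem _ ?_)
  by_cases ht : t = 0
  · rw [ht]; exact hδ0
  · exact hδ t ht

end Cfsg.Agent.Lib.Helper3.WGC
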