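import Mathlib
import Cfsg.Prelude
import Cfsg.Agent.Lib.Lead.WeilW9

/-!
# S2524 PK-C, part 5: general facts: an irreducible invariant subspace of a representation gives
an irreducible character; traces on complementary invariant subspaces add up.
-/

namespace Cfsg.Agent.Lib.Helper3.WGC

open Module Cfsg Cfsg.Agent.Lib.Lead.Weil

universe u

/-- a representation on any finite dimensional space all of whose invariant subspaces are trivial
gives an irreducible character -/
theorem isIrrCharacter_of_forall {G : Type u} [Group G] {V : Type*} [AddCommGroup V] [Module ℂ V]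
    [FiniteDimensional ℂ V] (ρ : Representation ℂ G V) (hV : Nontrivial V)
    (h : ∀ M : Submodule ℂ V, (∀ g, ∀ x ∈ M, ρ g x ∈ M) → M = ⊥ ∨ M = ⊤) :
    IsIrrCharacter G (fun g => LinearMap.trace ℂ V (ρ g)) := by
  classical
  have hk' : finrank ℂ V = finrank ℂ (Fin (finrank ℂ V) → ℂ) := by
    rw [Module.finrank_fin_fun]
  let e : V ≃ₗ[ℂ] (Fin (finrank ℂ V) → ℂ) := LinearEquiv.ofFinrankEq _ _ hk'
  let ρ' : Representation ℂ G (Fin (finrank ℂ V) → ℂ) := ((e.conjAlgEquiv ℂ : _ →* _)).comp ρ
  have hρ' : ∀ g x, ρ' g (e x) = e (ρ g x) := by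
    intro g x
    show (e.conjAlgEquiv ℂ (ρ g)) (e x) = e (ρ g x)
    simp [LinearEquiv.conjAlgEquiv_apply_apply]
  have hnt : Nontrivial (Fin (finrank ℂ V) → ℂ) := e.injective.nontrivial
  refine ⟨finrank ℂ V, ρ', isIrreducible_of_forall ρ' hnt ?_, ?_⟩
  · intro M hM
    rcases h (M.comap e.toLinearMap) (fun g x hx => by
        show e (ρ g x) ∈ M
        rw [← hρ']
        exact hM g _ hx) with h0 | h1
    · left
      rw [eq_bot_iff]
      intro y hy
      obtain ⟨x, rfl⟩ := e.surjective y
      have hx : x ∈ M.comap e.toLinearMap := hy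
      rw [h0, Submodule.mem_bot] at hx
      rw [hx, map_zero]
      exact Submodule.zero_mem _
    · right
      rw [eq_top_iff]
      intro y _
      obtain ⟨x, rfl⟩ := e.surjective y
      have hx : x ∈ M.comap e.toLinearMap := by rw [h1]; exact Submodule.mem_top
      exact hx
  · funext g
    show LinearMap.trace ℂ _ (e.conjAlgEquiv ℂ (ρ g)) = LinearMap.trace ℂ V (ρ g)
    have : (e.conjAlgEquiv ℂ (ρ g)) = e.conj (ρ g) := rfl
    rw [this, LinearMap.trace_conj']

/-- an invariant subspace all of whose invariant subspaces are trivial gives an irreducible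
character -/
theorem isIrrCharacter_restrict {G : Type u} [Group G] {V : Type*} [AddCommGroup V] [Module ℂ V]
    [FiniteDimensional ℂ V] (ω : Representation ℂ G V) (W : Submodule ℂ V)
    (hW : ∀ g, ∀ x ∈ W, ω g x ∈ W) (hnt : W ≠ ⊥)
    (hirr : ∀ M : Submodule ℂ V, M ≤ W → (∀ g, ∀ x ∈ M, ω g x ∈ M) → M = ⊥ ∨ M = W) :
    IsIrrCharacter G (fun g => LinearMap.trace ℂ W ((ω g).restrict (hW g))) := by
  let ρ : Representation ℂ G W :=
    { toFun := fun g => (ω g).restrict (hW g)
      map_one' := by
        refine LinearMap.ext fun x => Subtype.ext ?_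
        rw [LinearMap.restrict_coe_apply, map_one]
        rfl
      map_mul' := by
        intro g g'
        refine LinearMap.ext fun x => Subtype.ext ?_
        rw [LinearMap.restrict_coe_apply, map_mul]
        rfl }
  have hρ : ∀ g (x : W), ((ρ g x : W) : V) = ω g x := fun g x => rfl
  refine isIrrCharacter_of_forall ρ ?_ ?_
  · obtain ⟨x, hx, hx0⟩ := (Submodule.ne_bot_iff W).mp hnt
    exact ⟨⟨⟨x, hx⟩, 0, fun h => hx0 (congrArg Subtype.val h)⟩⟩
  · intro M hM
    have hmem : ∀ x : W, (x : V) ∈ M.map W.subtype ↔ x ∈ M := by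
      intro x
      constructor
      · rintro ⟨y, hy, hyx⟩
        have : y = x := Subtype.ext hyx
        subst this
        exact hy
      · intro hx
        exact ⟨x, hx, rfl⟩
    rcases hirr (M.map W.subtype) (by rintro f ⟨x, -, rfl⟩; exact x.2) (by
        rintro g f ⟨x, hx, rfl⟩
        have := (hmem (ρ g x)).mpr (hM g x hx)
        rwa [hρ] at this) with h0 | h1
    · left
      rw [eq_bot_iff]
      intro x hx
      have := (hmem x).mpr hx
      rw [h0, Submodule.mem_bot] at this
      rw [Submodule.mem_bot]
      exact Subtype.ext this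
    · right
      rw [eq_top_iff]
      intro x _
      have : (x : V) ∈ M.map W.subtype := by rw [h1]; exact x.2
      exact (hmem x).mp this

/-- traces on complementary invariant subspaces add up -/
theorem trace_eq_add_of_isCompl {V : Type*} [AddCommGroup V] [Module ℂ V] [FiniteDimensional ℂ V]
    {A B : Submodule ℂ V} (h : IsCompl A B) (T : V →ₗ[ℂ] V)
    (a : ∀ x ∈ A, T x ∈ A) (b : ∀ x ∈ B, T x ∈ B) :
    LinearMap.trace ℂ V T =
      LinearMap.trace ℂ A (T.restrict a) + LinearMap.trace ℂ B (T.restrict b) := by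
  classical
  let N : Bool → Submodule ℂ V := fun i => cond i A B
  have hint : DirectSum.IsInternal N := by
    rw [DirectSum.isInternal_submodule_iff_isCompl N (i := true) (j := false) (by decide)
      (by ext i; cases i <;> simp)]
    exact h
  have hf : ∀ i, Set.MapsTo T (N i) (N i) := by
    intro i
    cases i
    · exact fun x hx => b x hx
    · exact fun x hx => a x hx
  have := LinearMap.trace_eq_sum_trace_restrict hint hf
  rw [Fintype.sum_bool] at this
  exact this

end Cfsg.Agent.Lib.Helper3.WGC
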