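import Mathlib
import Cfsg.Prelude
import Cfsg.Agent.Lib.Lead.WeilW9
import Cfsg.Agent.Lib.Helper3.WG_C1
import Cfsg.Agent.Lib.Helper3.WG_C2
import Cfsg.Agent.Lib.Helper3.WG_C3
import Cfsg.Agent.Lib.Helper3.WG_C4
import Cfsg.Agent.Lib.Helper3.WG_C5

/-!
# S2524 PK-C, part 6: the total Weil representation of `Sp_{2n}(F)` on all functions on `F^n`,
its even and odd parts, their values on the lower unitriangular elements and on `-g`.
-/

namespace Cfsg.Agent.Lib.Helper3.WGC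

open Matrix Module Cfsg Cfsg.Agent.Lib.Lead.Weil

set_option linter.unusedSectionVars false

variable {F : Type*} [Field F] [Fintype F] [DecidableEq F] {n : ℕ} (ψ : AddChar F ℂ)

/-- `ω` is the determinant-normalised lift of the projective Weil representation -/
def IsWeilTotal (ω : Representation ℂ (symplecticGroup (Fin n) F) (Hsp n F)) : Prop :=
  ∀ (g : symplecticGroup (Fin n) F) (T : Hsp n F →ₗ[ℂ] Hsp n F), Function.Bijective T →
    Implements ψ (g : Matrix (Fin n ⊕ Fin n) (Fin n ⊕ Fin n) F) T →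
    ∀ (a : ∀ x ∈ evenS n F, T x ∈ evenS n F) (b : ∀ x ∈ oddS n F, T x ∈ oddS n F),
      ω g = dnorm (evenS n F) (oddS n F) T a b • T

theorem exists_weilTotal (hψ : ψ ≠ 1) (h2 : (2 : F) ≠ 0) :
    ∃ ω : Representation ℂ (symplecticGroup (Fin n) F) (Hsp n F), IsWeilTotal ψ ω := by
  classical
  let I : symplecticGroup (Fin n) F → (Hsp n F →ₗ[ℂ] Hsp n F) → Prop :=
    fun g T => Function.Bijective T ∧ Implements ψ (g : Matrix (Fin n ⊕ Fin n) (Fin n ⊕ Fin n) F) T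
  obtain ⟨ω, hω⟩ := exists_total_rep (G := symplecticGroup (Fin n) F) (evenS n F) (oddS n F)
    (finrank_evenS h2) I
    (fun g => exists_implements ψ hψ h2 g.2)
    ⟨Function.bijective_id, implements_one ψ⟩
    (fun g h T T' hT hT' => ⟨hT.1.comp hT'.1, implements_mul ψ hT.2 hT'.2⟩)
    (fun g T T' hT hT' => implements_unique ψ hψ hT.1 hT'.1 hT.2 hT'.2)
    (fun g T hT => implements_map_evenS ψ hψ h2 hT.1 hT.2)
    (fun g T hT => implements_map_oddS ψ hψ h2 hT.1 hT.2)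
  exact ⟨ω, fun g T hb hT a b => hω g T ⟨hb, hT⟩⟩

section props

variable {ψ} {ω : Representation ℂ (symplecticGroup (Fin n) F) (Hsp n F)}

/-- `ω g` is a nonzero multiple of any bijective implementer -/
theorem IsWeilTotal.eq_smul (hω : IsWeilTotal ψ ω) (hψ : ψ ≠ 1) (h2 : (2 : F) ≠ 0)
    (g : symplecticGroup (Fin n) F) (T : Hsp n F →ₗ[ℂ] Hsp n F) (hb : Function.Bijective T)
    (hT : Implements ψ (g : Matrix (Fin n ⊕ Fin n) (Fin n ⊕ Fin n) F) T) :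
    ∃ d : ℂ, d ≠ 0 ∧ ω g = d • T :=
  ⟨_, dnorm_ne_zero _ _ T hb.1 _ _, hω g T hb hT (implements_map_evenS ψ hψ h2 hb hT)
    (implements_map_oddS ψ hψ h2 hb hT)⟩

theorem IsWeilTotal.map_even (hω : IsWeilTotal ψ ω) (hψ : ψ ≠ 1) (h2 : (2 : F) ≠ 0)
    (g : symplecticGroup (Fin n) F) : ∀ x ∈ evenS n F, ω g x ∈ evenS n F := by
  intro x hx
  obtain ⟨T, hb, hT⟩ := exists_implements ψ hψ h2 g.2
  obtain ⟨d, -, hd⟩ := hω.eq_smul hψ h2 g T hb hT
  rw [hd, LinearMap.smul_apply]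
  exact (evenS n F).smul_mem _ (implements_map_evenS ψ hψ h2 hb hT x hx)

theorem IsWeilTotal.map_odd (hω : IsWeilTotal ψ ω) (hψ : ψ ≠ 1) (h2 : (2 : F) ≠ 0)
    (g : symplecticGroup (Fin n) F) : ∀ x ∈ oddS n F, ω g x ∈ oddS n F := by
  intro x hx
  obtain ⟨T, hb, hT⟩ := exists_implements ψ hψ h2 g.2
  obtain ⟨d, -, hd⟩ := hω.eq_smul hψ h2 g T hb hT
  rw [hd, LinearMap.smul_apply]
  exact (oddS n F).smul_mem _ (implements_map_oddS ψ hψ h2 hb hT x hx)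

/-- any implementer (bijective or not) is a multiple of `ω g` -/
theorem IsWeilTotal.impl_smul (hω : IsWeilTotal ψ ω) (hψ : ψ ≠ 1) (h2 : (2 : F) ≠ 0)
    (g : symplecticGroup (Fin n) F) (T' : Hsp n F →ₗ[ℂ] Hsp n F)
    (hT' : Implements ψ (g : Matrix (Fin n ⊕ Fin n) (Fin n ⊕ Fin n) F) T') :
    ∃ z : ℂ, T' = z • ω g := by
  obtain ⟨T, hb, hT⟩ := exists_implements ψ hψ h2 g.2
  obtain ⟨d, hd0, hd⟩ := hω.eq_smul hψ h2 g T hb hT
  obtain ⟨z, hz⟩ := implements_smul ψ hψ hb hT hT'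
  refine ⟨z * d⁻¹, ?_⟩
  rw [hz, hd, smul_smul, mul_assoc, inv_mul_cancel₀ hd0, mul_one]

/-- a subspace invariant under `ω` is invariant under every implementer -/
theorem IsWeilTotal.impl_mem (hω : IsWeilTotal ψ ω) (hψ : ψ ≠ 1) (h2 : (2 : F) ≠ 0)
    (M : Submodule ℂ (Hsp n F)) (hM : ∀ g, ∀ x ∈ M, ω g x ∈ M)
    {g : Matrix (Fin n ⊕ Fin n) (Fin n ⊕ Fin n) F} (hg : g ∈ symplecticGroup (Fin n) F)
    (T' : Hsp n F →ₗ[ℂ] Hsp n F) (hT' : Implements ψ g T') : ∀ f ∈ M, T' f ∈ M := by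
  intro f hf
  obtain ⟨z, hz⟩ := hω.impl_smul hψ h2 ⟨g, hg⟩ T' hT'
  rw [hz, LinearMap.smul_apply]
  exact M.smul_mem _ (hM _ _ hf)

/-- the even part is irreducible -/
theorem IsWeilTotal.irr_even (hω : IsWeilTotal ψ ω) (hψ : ψ ≠ 1) (h2 : (2 : F) ≠ 0) (hn : 1 ≤ n)
    (M : Submodule ℂ (Hsp n F)) (hle : M ≤ evenS n F) (hM : ∀ g, ∀ x ∈ M, ω g x ∈ M) :
    M = ⊥ ∨ M = evenS n F :=
  even_irreducible_core ψ hψ h2 hn M hle
    (fun C hC => hω.impl_mem hψ h2 M hM (uC_mem C hC) _ (mulQ_implements ψ h2 C hC))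
    (fun A hA => hω.impl_mem hψ h2 M hM (mA_mem A hA) _ (dilA_implements ψ A hA))
    (hω.impl_mem hψ h2 M hM (SymplecticGroup.J_mem _ _) _ (four_implements ψ h2))

/-- the odd part is irreducible -/
theorem IsWeilTotal.irr_odd (hω : IsWeilTotal ψ ω) (hψ : ψ ≠ 1) (h2 : (2 : F) ≠ 0)
    (M : Submodule ℂ (Hsp n F)) (hle : M ≤ oddS n F) (hM : ∀ g, ∀ x ∈ M, ω g x ∈ M) :
    M = ⊥ ∨ M = oddS n F :=
  odd_irreducible_core ψ hψ h2 M hle
    (fun C hC => hω.impl_mem hψ h2 M hM (uC_mem C hC) _ (mulQ_implements ψ h2 C hC))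
    (fun A hA => hω.impl_mem hψ h2 M hM (mA_mem A hA) _ (dilA_implements ψ A hA))

/-- the value on the lower unitriangular elements -/
theorem IsWeilTotal.lower (hω : IsWeilTotal ψ ω) (hψ : ψ ≠ 1) (h2 : (2 : F) ≠ 0)
    (C : Matrix (Fin n) (Fin n) F) (hC : C.IsSymm) :
    ω ⟨fromBlocks 1 0 C 1, uC_mem C hC⟩ = mulQ ψ C := by
  have hb := mulQ_bijective ψ C
  have hT := mulQ_implements ψ h2 C hC
  rw [hω ⟨fromBlocks 1 0 C 1, uC_mem C hC⟩ (mulQ ψ C) hb hT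
    (implements_map_evenS ψ hψ h2 hb hT) (implements_map_oddS ψ hψ h2 hb hT),
    dnorm_mulQ h2, one_smul]

theorem par_bijective : Function.Bijective (par : Hsp n F →ₗ[ℂ] Hsp n F) := by
  rw [Function.bijective_iff_has_inverse]
  refine ⟨par, ?_, ?_⟩ <;>
  · intro f
    funext t
    rw [par_apply, par_apply, neg_neg]

theorem par_implements : Implements ψ (-1 : Matrix (Fin n ⊕ Fin n) (Fin n ⊕ Fin n) F) par := by
  intro v
  rw [neg_mulVec, one_mulVec]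
  exact par_comp_W ψ v

/-- the value on the central element `-1` -/
theorem IsWeilTotal.neg_one (hω : IsWeilTotal ψ ω) (hψ : ψ ≠ 1) (h2 : (2 : F) ≠ 0) :
    ω ⟨-1, SymplecticGroup.neg_mem (one_mem _)⟩ =
      ((-1 : ℂ) ^ finrank ℂ (oddS n F)) • (par : Hsp n F →ₗ[ℂ] Hsp n F) := by
  have hb := par_bijective (n := n) (F := F)
  have hT := par_implements (n := n) (ψ := ψ)
  rw [hω ⟨-1, SymplecticGroup.neg_mem (one_mem _)⟩ par hb hT
    (implements_map_evenS ψ hψ h2 hb hT) (implements_map_oddS ψ hψ h2 hb hT), dnorm_par]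

/-- the value on `-g` -/
theorem IsWeilTotal.neg (hω : IsWeilTotal ψ ω) (hψ : ψ ≠ 1) (h2 : (2 : F) ≠ 0)
    (g : symplecticGroup (Fin n) F) :
    ω ⟨-g.1, SymplecticGroup.neg_mem g.2⟩ =
      ((-1 : ℂ) ^ finrank ℂ (oddS n F)) • ((par : Hsp n F →ₗ[ℂ] Hsp n F) ∘ₗ ω g) := by
  have hg : (⟨-g.1, SymplecticGroup.neg_mem g.2⟩ : symplecticGroup (Fin n) F) =
      ⟨-1, SymplecticGroup.neg_mem (one_mem _)⟩ * g := by
    apply Subtype.ext
    show -g.1 = (-1 : Matrix _ _ F) * g.1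
    rw [neg_mul, one_mul]
  rw [hg, map_mul, hω.neg_one hψ h2]
  rfl

end props

end Cfsg.Agent.Lib.Helper3.WGC
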