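import Mathlib
import Cfsg.Prelude
import Cfsg.Agent.Lib.Helper3.WG_C6

/-!
# S2524 PK-C, part 7: the two Weil characters attached to a nontrivial additive character: they
are irreducible, their degrees, their behaviour under `g ↦ -g`, and their values on the lower
unitriangular elements.
-/

namespace Cfsg.Agent.Lib.Helper3.WGC

open Matrix Module Cfsg Cfsg.Agent.Lib.Lead.Weil

set_option linter.unusedSectionVars false

universe u

theorem trace_restrict_congr {V : Type*} [AddCommGroup V] [Module ℂ V] {W : Submodule ℂ V}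
    {T T' : V →ₗ[ℂ] V} (h : T = T') (a : ∀ x ∈ W, T x ∈ W) (a' : ∀ x ∈ W, T' x ∈ W) :
    LinearMap.trace ℂ W (T.restrict a) = LinearMap.trace ℂ W (T'.restrict a') := by
  subst h
  rfl

theorem trace_restrict_smul_of {V : Type*} [AddCommGroup V] [Module ℂ V] {W : Submodule ℂ V}
    {T T' : V →ₗ[ℂ] V} (c : ℂ) (h : ∀ x ∈ W, T' x = c • T x) (a : ∀ x ∈ W, T x ∈ W)
    (a' : ∀ x ∈ W, T' x ∈ W) :
    LinearMap.trace ℂ W (T'.restrict a') = c * LinearMap.trace ℂ W (T.restrict a) := by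
  have : T'.restrict a' = c • T.restrict a := by
    refine LinearMap.ext fun x => Subtype.ext ?_
    rw [LinearMap.restrict_coe_apply, h x x.2]
    rfl
  rw [this, map_smul, smul_eq_mul]

variable {F : Type u} [Field F] [Fintype F] [DecidableEq F] {n : ℕ} (ψ : AddChar F ℂ)

theorem trace_mulQ (C : Matrix (Fin n) (Fin n) F) :
    LinearMap.trace ℂ (Hsp n F) (mulQ ψ C) = ∑ t : Fin n → F, ψ (-(2⁻¹ * (t ⬝ᵥ C *ᵥ t))) := by
  rw [trace_eq_sum]
  refine Finset.sum_congr rfl fun t _ => ?_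
  rw [mulQ_apply, Pi.single_eq_same, mul_one]

/-- the two Weil characters attached to `ψ` -/
theorem exists_weilChars (hψ : ψ ≠ 1) (h2 : (2 : F) ≠ 0) (hn : 1 ≤ n) :
    ∃ (E O : symplecticGroup (Fin n) F → ℂ) (ε : ℂ),
      IsIrrCharacter (symplecticGroup (Fin n) F) E ∧
      IsIrrCharacter (symplecticGroup (Fin n) F) O ∧
      (ε = 1 ∨ ε = -1) ∧
      (∀ g : symplecticGroup (Fin n) F, E ⟨-g.1, SymplecticGroup.neg_mem g.2⟩ = ε * E g) ∧
      (∀ g : symplecticGroup (Fin n) F, O ⟨-g.1, SymplecticGroup.neg_mem g.2⟩ = -ε * O g) ∧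
      E 1 = (((Fintype.card F) ^ n + 1 : ℕ) : ℂ) / 2 ∧
      O 1 = (((Fintype.card F) ^ n - 1 : ℕ) : ℂ) / 2 ∧
      (∀ (C : Matrix (Fin n) (Fin n) F) (hC : C.IsSymm),
        E ⟨fromBlocks 1 0 C 1, uC_mem C hC⟩ =
          ((∑ t : Fin n → F, ψ (-(2⁻¹ * (t ⬝ᵥ C *ᵥ t)))) + 1) / 2) ∧
      (∀ (C : Matrix (Fin n) (Fin n) F) (hC : C.IsSymm),
        O ⟨fromBlocks 1 0 C 1, uC_mem C hC⟩ =
          ((∑ t : Fin n → F, ψ (-(2⁻¹ * (t ⬝ᵥ C *ᵥ t)))) - 1) / 2) := by
  classical
  obtain ⟨ω, hω⟩ := exists_weilTotal (n := n) ψ hψ h2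
  have hE := hω.map_even hψ h2
  have hO := hω.map_odd hψ h2
  -- dimensions
  have hdo := finrank_oddS (n := n) (F := F) h2
  have hde := finrank_evenS (n := n) (F := F) h2
  have h3 : 3 ≤ Fintype.card F := by
    have h1 : 1 < Fintype.card F := Fintype.one_lt_card
    have h2' : Fintype.card F ≠ 2 := by
      intro h
      apply h2
      have : ((Fintype.card F : ℕ) : F) = 0 := Nat.cast_card_eq_zero F
      rw [h] at this
      exact_mod_cast this
    omega
  have h3n : 3 ≤ Fintype.card F ^ n := le_trans h3 (Nat.le_self_pow (by omega) _)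
  have hevne : evenS n F ≠ ⊥ := by
    intro h
    rw [h, finrank_bot] at hde
    omega
  have hodne : oddS n F ≠ ⊥ := by
    intro h
    rw [h, finrank_bot] at hdo
    omega
  refine ⟨fun g => LinearMap.trace ℂ (evenS n F) ((ω g).restrict (hE g)),
    fun g => LinearMap.trace ℂ (oddS n F) ((ω g).restrict (hO g)),
    (-1 : ℂ) ^ finrank ℂ (oddS n F), ?_, ?_, ?_, ?_, ?_, ?_, ?_, ?_, ?_⟩
  · exact isIrrCharacter_restrict ω (evenS n F) hE hevne (hω.irr_even hψ h2 hn)
  · exact isIrrCharacter_restrict ω (oddS n F) hO hodne (hω.irr_odd hψ h2)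
  · exact neg_one_pow_eq_or ℂ _
  · intro g
    show LinearMap.trace ℂ (evenS n F) ((ω ⟨-g.1, SymplecticGroup.neg_mem g.2⟩).restrict (hE _)) = _
    refine trace_restrict_smul_of _ ?_ (hE g) (hE _)
    intro x hx
    rw [hω.neg hψ h2 g, LinearMap.smul_apply, LinearMap.comp_apply]
    congr 1
    funext t
    rw [par_apply]
    exact hE g x hx t
  · intro g
    show LinearMap.trace ℂ (oddS n F) ((ω ⟨-g.1, SymplecticGroup.neg_mem g.2⟩).restrict (hO _)) = _
    refine trace_restrict_smul_of _ ?_ (hO g) (hO _)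
    intro x hx
    rw [hω.neg hψ h2 g, LinearMap.smul_apply, LinearMap.comp_apply, neg_smul, ← smul_neg]
    congr 1
    funext t
    rw [par_apply]
    exact hO g x hx t
  · show LinearMap.trace ℂ (evenS n F) ((ω 1).restrict (hE 1)) = _
    have h1 : (ω 1).restrict (hE 1) = 1 := by
      refine LinearMap.ext fun x => Subtype.ext ?_
      rw [LinearMap.restrict_coe_apply, map_one]
      rfl
    rw [h1, LinearMap.trace_one]
    have : (2 : ℂ) * (finrank ℂ (evenS n F) : ℂ) = ((Fintype.card F ^ n + 1 : ℕ) : ℂ) := by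
      have : 2 * finrank ℂ (evenS n F) = Fintype.card F ^ n + 1 := by omega
      exact_mod_cast this
    rw [← this]
    ring
  · show LinearMap.trace ℂ (oddS n F) ((ω 1).restrict (hO 1)) = _
    have h1 : (ω 1).restrict (hO 1) = 1 := by
      refine LinearMap.ext fun x => Subtype.ext ?_
      rw [LinearMap.restrict_coe_apply, map_one]
      rfl
    rw [h1, LinearMap.trace_one]
    have : (2 : ℂ) * (finrank ℂ (oddS n F) : ℂ) = ((Fintype.card F ^ n - 1 : ℕ) : ℂ) := by
      have : 2 * finrank ℂ (oddS n F) = Fintype.card F ^ n - 1 := by omega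
      exact_mod_cast this
    rw [← this]
    ring
  · intro C hC
    show LinearMap.trace ℂ (evenS n F) ((ω ⟨fromBlocks 1 0 C 1, uC_mem C hC⟩).restrict (hE _)) = _
    have hb := mulQ_bijective ψ C
    have hT := mulQ_implements ψ h2 C hC
    have a := implements_map_evenS ψ hψ h2 hb hT
    have b := implements_map_oddS ψ hψ h2 hb hT
    rw [trace_restrict_congr (hω.lower hψ h2 C hC) (hE _) a]
    have e1 := trace_restrict_even_eq_odd h2 (mulQ ψ C) (fun t => ψ (-(2⁻¹ * (t ⬝ᵥ C *ᵥ t))))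
      (fun f t => rfl) (by simp) a b
    have e2 := trace_eq_add_of_isCompl (isCompl_even_odd (n := n) (F := F) h2) (mulQ ψ C) a b
    rw [trace_mulQ] at e2
    rw [e2, e1]
    ring
  · intro C hC
    show LinearMap.trace ℂ (oddS n F) ((ω ⟨fromBlocks 1 0 C 1, uC_mem C hC⟩).restrict (hO _)) = _
    have hb := mulQ_bijective ψ C
    have hT := mulQ_implements ψ h2 C hC
    have a := implements_map_evenS ψ hψ h2 hb hT
    have b := implements_map_oddS ψ hψ h2 hb hT
    rw [trace_restrict_congr (hω.lower hψ h2 C hC) (hO _) b]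
    have e1 := trace_restrict_even_eq_odd h2 (mulQ ψ C) (fun t => ψ (-(2⁻¹ * (t ⬝ᵥ C *ᵥ t))))
      (fun f t => rfl) (by simp) a b
    have e2 := trace_eq_add_of_isCompl (isCompl_even_odd (n := n) (F := F) h2) (mulQ ψ C) a b
    rw [trace_mulQ] at e2
    rw [e2, e1]
    ring

end Cfsg.Agent.Lib.Helper3.WGC
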