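import Mathlib
import Cfsg.Prelude
import Cfsg.Agent.Lib.Helper2.WG.Defs2
import Cfsg.Agent.Lib.Lead.SUMinA3
import Cfsg.Agent.Lib.Helper3.WG_C7

/-!
# S2524 PK-C, part 8: existence of a Weil pair of every class `c ≠ 0`.
-/

namespace Cfsg.Agent.Lib.Helper2.WG

open Matrix Cfsg Cfsg.Agent.H9SpF Cfsg.Agent.Lib.Helper6.Siegel Cfsg.Agent.Lib.Helper1.SUMin
open Cfsg.Agent.Lib.Lead.Weil
open scoped ComplexConjugate

universe u

variable {F : Type u} [Field F] [Fintype F]

namespace PkC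

set_option linter.unusedSectionVars false

variable {n : ℕ} [DecidableEq F]

theorem trChar_rank_one (ψ : AddChar F ℂ) (c : F) (t : Fin n → F) (S : symAdd n F) :
    trChar ψ (c • vecMulVec t t) S = ψ (c * (t ⬝ᵥ S.1 *ᵥ t)) := by
  rw [trChar_apply, trPair_apply, Matrix.smul_mul, Matrix.trace_smul, vecMulVec_mul,
    Matrix.trace_vecMulVec, dotProduct_comm, ← dotProduct_mulVec, smul_eq_mul]

theorem rank_one_isSymm (c : F) (t : Fin n → F) : (c • vecMulVec t t).IsSymm := by
  rw [Matrix.IsSymm, Matrix.transpose_smul]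
  congr 1
  ext i j
  rw [Matrix.transpose_apply, vecMulVec_apply, vecMulVec_apply, mul_comm]

/-- Fourier coefficients of a function given on the Siegel radical by a combination of
characters -/
theorem qmult_of_formula (h2 : (2 : F) ≠ 0) (ψ : AddChar F ℂ) (hψ : ψ ≠ 1) (c : F) (s : ℂ)
    (χ : Sp n F → ℂ)
    (hχ : ∀ S : symAdd n F, χ (siegHom S) =
      ((∑ t : Fin n → F, trChar ψ (c • vecMulVec t t) S) + s) / 2)
    (M : Matrix (Fin n) (Fin n) F) (hM : M.IsSymm) :
    qmult ψ χ M = ((∑ t : Fin n → F, if c • vecMulVec t t = M then (1 : ℂ) else 0) +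
      s * (if M = 0 then 1 else 0)) / 2 := by
  classical
  rw [qmult_def]
  have hsym : ∀ t : Fin n → F, (c • vecMulVec t t).IsSymm := rank_one_isSymm c
  have h1 : ∀ S : symAdd n F, conj (trChar ψ M S) * χ (siegHom S) =
      ((∑ t : Fin n → F, conj (trChar ψ M S) * trChar ψ (c • vecMulVec t t) S) +
        s * (conj (trChar ψ M S) * (1 : AddChar (symAdd n F) ℂ) S)) / 2 := by
    intro S
    rw [hχ S, ← Finset.mul_sum]
    simp only [AddChar.one_apply]
    ring
  rw [Finset.sum_congr rfl (fun S _ => h1 S), ← Finset.sum_div, Finset.sum_add_distrib,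
    Finset.sum_comm, ← Finset.mul_sum, ← mul_div_assoc, mul_add, Finset.mul_sum]
  have h3 : ∀ t : Fin n → F, (Fintype.card (symAdd n F) : ℂ)⁻¹ *
      ∑ S : symAdd n F, conj (trChar ψ M S) * trChar ψ (c • vecMulVec t t) S =
      if c • vecMulVec t t = M then (1 : ℂ) else 0 := by
    intro t
    rw [a3_ortho (trChar (n := n) ψ M) (trChar (n := n) ψ (c • vecMulVec t t))]
    by_cases h : c • vecMulVec t t = M
    · rw [if_pos h, if_pos (by rw [h])]
    · rw [if_neg h, if_neg (fun h' => h (trChar_injOn h2 ψ hψ (hsym t) hM h'))]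
  have h4 : (Fintype.card (symAdd n F) : ℂ)⁻¹ *
      (s * ∑ S : symAdd n F, conj (trChar ψ M S) * (1 : AddChar (symAdd n F) ℂ) S) =
      s * (if M = 0 then 1 else 0) := by
    rw [mul_left_comm, a3_ortho (trChar (n := n) ψ M) (1 : AddChar (symAdd n F) ℂ)]
    by_cases h : M = 0
    · rw [if_pos h, if_pos (by rw [h, trChar_zero])]
    · rw [if_neg h, if_neg]
      intro h'
      rw [← trChar_zero (n := n) ψ] at h'
      exact h (trChar_injOn h2 ψ hψ Matrix.isSymm_zero hM h').symm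
  rw [Finset.sum_congr rfl (fun t _ => h3 t), h4]

theorem rank_one_eq_iff (h2 : (2 : F) ≠ 0) {c : F} (hc : c ≠ 0) {w : Fin n → F} (hw : w ≠ 0)
    (t : Fin n → F) : c • vecMulVec t t = c • vecMulVec w w ↔ t = w ∨ t = -w := by
  classical
  constructor
  · intro h
    have h' : vecMulVec t t = vecMulVec w w := by
      have := congrArg (fun X => c⁻¹ • X) h
      simpa [smul_smul, inv_mul_cancel₀ hc] using this
    apply eq_or_eq_neg_of_prod h2 hw
    intro i j
    have := congrFun (congrFun h' i) j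
    rw [vecMulVec_apply, vecMulVec_apply] at this
    exact this.symm
  · rintro (rfl | rfl)
    · rfl
    · congr 1
      ext i j
      rw [vecMulVec_apply, vecMulVec_apply, Pi.neg_apply, Pi.neg_apply, neg_mul_neg]

theorem rank_one_ne_zero {c : F} (hc : c ≠ 0) {w : Fin n → F} (hw : w ≠ 0) :
    c • vecMulVec w w ≠ 0 := by
  intro h
  apply hw
  funext i
  have := congrFun (congrFun h i) i
  rw [Matrix.smul_apply, vecMulVec_apply, smul_eq_mul, Matrix.zero_apply] at this
  rcases mul_eq_zero.1 this with h1 | h1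
  · exact absurd h1 hc
  · exact mul_self_eq_zero.1 h1

theorem count_rank_one (h2 : (2 : F) ≠ 0) {c : F} (hc : c ≠ 0) {w : Fin n → F} (hw : w ≠ 0) :
    (∑ t : Fin n → F, if c • vecMulVec t t = c • vecMulVec w w then (1 : ℂ) else 0) = 2 := by
  classical
  have hne : w ≠ -w := by
    intro h
    have h4 : (2 : F) • w = 0 := by rw [two_smul]; nth_rewrite 1 [h]; simp
    rcases smul_eq_zero.mp h4 with h5 | h5
    · exact h2 h5
    · exact hw h5
  have : ∀ t : Fin n → F, (if c • vecMulVec t t = c • vecMulVec w w then (1 : ℂ) else 0) =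
      (if t = w then 1 else 0) + (if t = -w then 1 else 0) := by
    intro t
    by_cases h1 : t = w
    · rw [if_pos ((rank_one_eq_iff h2 hc hw t).2 (Or.inl h1)), if_pos h1,
        if_neg (fun h => hne (h1.symm.trans h)), add_zero]
    · by_cases h3 : t = -w
      · rw [if_pos ((rank_one_eq_iff h2 hc hw t).2 (Or.inr h3)), if_neg h1, if_pos h3, zero_add]
      · rw [if_neg (fun h => by rcases (rank_one_eq_iff h2 hc hw t).1 h with h | h <;> tauto),
          if_neg h1, if_neg h3, add_zero]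
  rw [Finset.sum_congr rfl (fun t _ => this t), Finset.sum_add_distrib,
    Finset.sum_ite_eq' Finset.univ w, Finset.sum_ite_eq' Finset.univ (-w)]
  simp only [Finset.mem_univ, if_true]
  norm_num

theorem count_zero {c : F} (hc : c ≠ 0) :
    (∑ t : Fin n → F, if c • vecMulVec t t = (0 : Matrix (Fin n) (Fin n) F) then (1 : ℂ) else 0)
      = 1 := by
  classical
  have : ∀ t : Fin n → F, (if c • vecMulVec t t = (0 : Matrix (Fin n) (Fin n) F) then (1 : ℂ)
      else 0) = if t = 0 then 1 else 0 := by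
    intro t
    by_cases h : t = 0
    · rw [if_pos h, if_pos]
      rw [h]
      ext i j
      simp
    · rw [if_neg h, if_neg (rank_one_ne_zero hc h)]
  rw [Finset.sum_congr rfl (fun t _ => this t), Finset.sum_ite_eq' Finset.univ (0 : Fin n → F)]
  simp

/-- conjugating the Siegel radical to the lower unitriangular elements by `J` -/
theorem symJ_mul_siegHom (S : symAdd n F) :
    SymplecticGroup.symJ (Fin n) F * siegHom S * (SymplecticGroup.symJ (Fin n) F)⁻¹ =
      ⟨fromBlocks 1 0 (-S.1) 1, uC_mem (-S.1) (Matrix.IsSymm.neg (mem_symAdd.1 S.2))⟩ := by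
  rw [mul_inv_eq_iff_eq_mul]
  apply Subtype.ext
  show Matrix.J (Fin n) F * siegM S.1 = fromBlocks 1 0 (-S.1) 1 * Matrix.J (Fin n) F
  unfold Matrix.J siegM
  rw [fromBlocks_multiply, fromBlocks_multiply]
  simp

/-- from the values on the lower unitriangular elements to the values on the Siegel radical -/
theorem siegHom_formula (h2 : (2 : F) ≠ 0) (ψ : AddChar F ℂ) (c : F) (ψs : AddChar F ℂ)
    (hψs : ∀ x, ψs x = ψ (2 * c * x)) (s : ℂ) (χ : Sp n F → ℂ)
    (hχ : IsIrrCharacter (Sp n F) χ)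
    (hl : ∀ (C : Matrix (Fin n) (Fin n) F) (hC : C.IsSymm),
      χ ⟨fromBlocks 1 0 C 1, uC_mem C hC⟩ =
        ((∑ t : Fin n → F, ψs (-(2⁻¹ * (t ⬝ᵥ C *ᵥ t)))) + s) / 2)
    (S : symAdd n F) :
    χ (siegHom S) = ((∑ t : Fin n → F, trChar ψ (c • vecMulVec t t) S) + s) / 2 := by
  obtain ⟨k, ρ, -, hρ⟩ := hχ
  have h1 : χ (siegHom S) = χ ⟨fromBlocks 1 0 (-S.1) 1,
      uC_mem (-S.1) (Matrix.IsSymm.neg (mem_symAdd.1 S.2))⟩ := by
    rw [← symJ_mul_siegHom S, ← hρ]
    exact (ρ.char_conj (siegHom S) (SymplecticGroup.symJ (Fin n) F)).symm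
  rw [h1, hl _ (Matrix.IsSymm.neg (mem_symAdd.1 S.2))]
  congr 2
  refine Finset.sum_congr rfl fun t _ => ?_
  rw [trChar_rank_one, hψs]
  congr 1
  have h22 : (2 : F) * 2⁻¹ = 1 := mul_inv_cancel₀ h2
  rw [neg_mulVec, dotProduct_neg]
  linear_combination (c * (t ⬝ᵥ S.1 *ᵥ t)) * h22

end PkC

section C

/-- PK-C: a Weil pair of every class exists -/
theorem exists_weilPair (hodd : Odd (Fintype.card F)) (ψ : AddChar F ℂ) (hψ : ψ ≠ 1) (n : ℕ)
    (hn : 1 ≤ n) (c : F) (hc : c ≠ 0) : ∃ (E O : Sp n F → ℂ) (ε : ℂ), IsWeilPair ψ c E O ε := by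
  classical
  have h2 : (2 : F) ≠ 0 := two_ne_zero_of_odd hodd
  let ψs : AddChar F ℂ := ψ.compAddMonoidHom (AddMonoidHom.mulLeft (2 * c))
  have hψs_apply : ∀ x, ψs x = ψ (2 * c * x) := fun x => rfl
  have hψs : ψs ≠ 1 := by
    intro h
    apply hψ
    ext x
    have := DFunLike.congr_fun h ((2 * c)⁻¹ * x)
    rw [hψs_apply, ← mul_assoc, mul_inv_cancel₀ (mul_ne_zero h2 hc), one_mul] at this
    rw [this]
    rfl
  obtain ⟨E, O, ε, hE, hO, hε, hnE, hnO, hdE, hdO, hlE, hlO⟩ :=
    Cfsg.Agent.Lib.Helper3.WGC.exists_weilChars (n := n) ψs hψs h2 hn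
  have hlO' : ∀ (C : Matrix (Fin n) (Fin n) F) (hC : C.IsSymm),
      O ⟨fromBlocks 1 0 C 1, uC_mem C hC⟩ =
        ((∑ t : Fin n → F, ψs (-(2⁻¹ * (t ⬝ᵥ C *ᵥ t)))) + (-1)) / 2 := by
    intro C hC
    rw [hlO C hC, sub_eq_add_neg]
  have hfE := PkC.siegHom_formula h2 ψ c ψs hψs_apply 1 E hE hlE
  have hfO := PkC.siegHom_formula h2 ψ c ψs hψs_apply (-1) O hO hlO'
  have hqE := PkC.qmult_of_formula h2 ψ hψ c 1 E hfE
  have hqO := PkC.qmult_of_formula h2 ψ hψ c (-1) O hfO
  have hzero : c • vecMulVec (0 : Fin n → F) (0 : Fin n → F) = (0 : Matrix (Fin n) (Fin n) F) := by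
    ext i j
    simp
  have hnotform : ∀ M : Matrix (Fin n) (Fin n) F, (¬ ∃ w : Fin n → F, M = c • vecMulVec w w) →
      (∑ t : Fin n → F, if c • vecMulVec t t = M then (1 : ℂ) else 0) = 0 ∧ M ≠ 0 := by
    intro M hM
    constructor
    · apply Finset.sum_eq_zero
      intro t _
      rw [if_neg]
      intro h
      exact hM ⟨t, h.symm⟩
    · intro h
      exact hM ⟨0, by rw [h, hzero]⟩
  refine ⟨E, O, ε, ?_⟩
  refine
    { irrE := hE
      irrO := hO
      qE_one := ?_
      qE_zero := ?_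
      qO_one := ?_
      qO_origin := ?_
      qO_zero := ?_
      sign := hε
      negE := fun g => hnE g
      negO := fun g => hnO g
      degE := hdE
      degO := hdO }
  · intro w
    rw [hqE _ (PkC.rank_one_isSymm c w)]
    by_cases hw : w = 0
    · rw [hw, hzero, PkC.count_zero hc, if_pos rfl]
      norm_num
    · rw [PkC.count_rank_one h2 hc hw, if_neg (PkC.rank_one_ne_zero hc hw)]
      norm_num
  · intro M hM hnot
    obtain ⟨h0, hne⟩ := hnotform M hnot
    rw [hqE M hM, h0, if_neg hne]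
    norm_num
  · intro w hw
    rw [hqO _ (PkC.rank_one_isSymm c w), PkC.count_rank_one h2 hc hw,
      if_neg (PkC.rank_one_ne_zero hc hw)]
    norm_num
  · rw [hqO 0 Matrix.isSymm_zero, PkC.count_zero hc, if_pos rfl]
    norm_num
  · intro M hM hnot
    obtain ⟨h0, hne⟩ := hnotform M hnot
    rw [hqO M hM, h0, if_neg hne]
    norm_num

end C

end Cfsg.Agent.Lib.Helper2.WG
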