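import Mathlib
import Cfsg.Agent.Lib.Helper3.Homocyclic

set_option autoImplicit false

namespace Cfsg.Agent.Lib.Helper3

/-- The element `2^(n-1)` of `ZMod (2^n)`. -/
def z2half (n : ℕ) : ZMod (2 ^ n) := ((2 ^ (n - 1) : ℕ) : ZMod (2 ^ n))

theorem z2_two_mul_half (n : ℕ) (hn : 1 ≤ n) : 2 * z2half n = 0 :=
  (zmod_two_mul_eq_zero n hn _).mpr (Or.inr rfl)

theorem z2_half_add_half (n : ℕ) (hn : 1 ≤ n) : z2half n + z2half n = 0 := by
  rw [← two_mul]; exact z2_two_mul_half n hn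

theorem z2_half_ne_zero (n : ℕ) (hn : 1 ≤ n) : z2half n ≠ 0 := zmod_half_ne_zero n hn

theorem z2_neg_half (n : ℕ) (hn : 1 ≤ n) : - z2half n = z2half n :=
  neg_eq_of_add_eq_zero_left (z2_half_add_half n hn)

theorem z2_two_mul_eq_zero (n : ℕ) (hn : 1 ≤ n) (a : ZMod (2 ^ n)) :
    2 * a = 0 ↔ a = 0 ∨ a = z2half n := zmod_two_mul_eq_zero n hn a

theorem z2_parity (n : ℕ) (i : ZMod (2 ^ n)) : ∃ j : ZMod (2 ^ n), i = 2 * j ∨ i = 2 * j + 1 := by
  have hNZ : NeZero (2 ^ n) := ⟨by positivity⟩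
  rcases Nat.even_or_odd' i.val with ⟨m, hm | hm⟩
  · refine ⟨(m : ZMod (2 ^ n)), Or.inl ?_⟩
    rw [← ZMod.natCast_zmod_val i, hm]; push_cast; ring
  · refine ⟨(m : ZMod (2 ^ n)), Or.inr ?_⟩
    rw [← ZMod.natCast_zmod_val i, hm]; push_cast; ring

theorem z2_even_ne_odd (n : ℕ) (hn : 1 ≤ n) (j j' : ZMod (2 ^ n)) : 2 * j ≠ 2 * j' + 1 := by
  intro h
  have hd : 2 ∣ 2 ^ n := dvd_pow_self 2 (by omega)
  have := congrArg (ZMod.castHom hd (ZMod 2)) h
  rw [map_mul, map_add, map_mul, map_one] at this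
  have h2 : (ZMod.castHom hd (ZMod 2)) 2 = 0 := by
    rw [map_ofNat]; rfl
  rw [h2, zero_mul, zero_mul, zero_add] at this
  exact absurd this (by decide)

theorem z2_half_mul_even (n : ℕ) (hn : 1 ≤ n) (j : ZMod (2 ^ n)) : z2half n * (2 * j) = 0 := by
  rw [← mul_assoc, mul_comm (z2half n) 2, z2_two_mul_half n hn, zero_mul]

theorem z2_half_mul_odd (n : ℕ) (hn : 1 ≤ n) (j : ZMod (2 ^ n)) :
    z2half n * (2 * j + 1) = z2half n := by
  rw [mul_add, z2_half_mul_even n hn, zero_add, mul_one]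

/-- The element `2^(n-2)` of `ZMod (2^n)`. -/
def z2quarter (n : ℕ) : ZMod (2 ^ n) := ((2 ^ (n - 2) : ℕ) : ZMod (2 ^ n))

theorem z2_two_mul_quarter (n : ℕ) (hn : 2 ≤ n) : 2 * z2quarter n = z2half n := by
  unfold z2quarter z2half
  have : 2 ^ (n - 1) = 2 * 2 ^ (n - 2) := by
    rw [← pow_succ']; congr 1; omega
  rw [this]; push_cast; ring

/-- The element `2^(n-3)` of `ZMod (2^n)`. -/
def z2eighth (n : ℕ) : ZMod (2 ^ n) := ((2 ^ (n - 3) : ℕ) : ZMod (2 ^ n))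

theorem z2_two_mul_eighth (n : ℕ) (hn : 3 ≤ n) : 2 * z2eighth n = z2quarter n := by
  unfold z2quarter z2eighth
  have : 2 ^ (n - 2) = 2 * 2 ^ (n - 3) := by
    rw [← pow_succ']; congr 1; omega
  rw [this]; push_cast; ring

theorem z2_two_mul_eq_half (n : ℕ) (hn : 2 ≤ n) (a : ZMod (2 ^ n)) :
    2 * a = z2half n ↔ a = z2quarter n ∨ a = z2quarter n + z2half n := by
  have h1 : 2 * a = z2half n ↔ 2 * (a - z2quarter n) = 0 := by
    rw [mul_sub, z2_two_mul_quarter n hn, sub_eq_zero]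
  rw [h1, z2_two_mul_eq_zero n (by omega), sub_eq_zero, sub_eq_iff_eq_add, add_comm]

theorem z2_half_mul_half (n : ℕ) (hn : 2 ≤ n) : z2half n * z2half n = 0 := by
  have := z2_half_mul_even n (by omega) (z2quarter n)
  rwa [z2_two_mul_quarter n hn] at this

theorem z2_quarter_ne_zero (n : ℕ) (hn : 2 ≤ n) : z2quarter n ≠ 0 := by
  intro h
  have := z2_two_mul_quarter n hn
  rw [h, mul_zero] at this
  exact z2_half_ne_zero n (by omega) this.symm

theorem z2_half_ne_quarter (n : ℕ) (hn : 2 ≤ n) : z2half n ≠ z2quarter n := by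
  intro h
  have := z2_two_mul_quarter n hn
  rw [← h, z2_two_mul_half n (by omega)] at this
  exact z2_half_ne_zero n (by omega) this.symm

/-- Odd elements are units. -/
theorem z2_odd_isUnit (n : ℕ) (j : ZMod (2 ^ n)) : IsUnit (2 * j + 1) := by
  have hNZ : NeZero (2 ^ n) := ⟨by positivity⟩
  have h1 : (2 * j + 1) = (((2 * j.val + 1 : ℕ)) : ZMod (2 ^ n)) := by
    push_cast; rw [ZMod.natCast_zmod_val]
  rw [h1, ZMod.isUnit_iff_coprime]
  apply Nat.Coprime.pow_right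
  rw [Nat.coprime_comm, Nat.Prime.coprime_iff_not_dvd Nat.prime_two]
  omega

end Cfsg.Agent.Lib.Helper3
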