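import Mathlib
import Cfsg.Prelude.Def_CaseTheorems
import Cfsg.Agent.Lib.Helper3.Zmod2
import Cfsg.Agent.Lib.Lead.QuatRecog

set_option autoImplicit false

namespace Cfsg.Agent.Lib.Helper3
open Cfsg.Agent.Lib.Lead

/-- The data of a quasi-dihedral group. -/
structure QDData (S : Type*) [Group S] where
  n : ℕ
  hn : 3 ≤ n
  card : Nat.card S = 2 ^ (n + 1)
  x : S
  y : S
  hx : orderOf x = 2 ^ n
  hy : orderOf y = 2
  hxy : y * x * y⁻¹ = x ^ (2 ^ (n - 1) - 1)

theorem isQuasiDihedral_iff (S : Type*) [Group S] : Cfsg.IsQuasiDihedral S ↔ Nonempty (QDData S) := by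
  constructor
  · rintro ⟨n, hn, hc, x, y, hx, hy, hxy⟩
    exact ⟨⟨n, hn, hc, x, y, hx, hy, hxy⟩⟩
  · rintro ⟨⟨n, hn, hc, x, y, hx, hy, hxy⟩⟩
    exact ⟨n, hn, hc, x, y, hx, hy, hxy⟩

namespace QDData

variable {S : Type*} [Group S] (d : QDData S)

theorem x_pow : d.x ^ (2 ^ d.n) = 1 := by
  rw [← d.hx]; exact pow_orderOf_eq_one d.x

theorem y_sq : d.y * d.y = 1 := by
  have := pow_orderOf_eq_one d.y
  rwa [d.hy, pow_two] at this

theorem y_inv : d.y⁻¹ = d.y := inv_eq_of_mul_eq_one_left d.y_sq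

theorem y_ne_one : d.y ≠ 1 := by
  intro h
  have := d.hy
  rw [h, orderOf_one] at this
  omega

/-- `x ^ i` for `i : ZMod (2 ^ n)`. -/
noncomputable def a (i : ZMod (2 ^ d.n)) : S := (zmodPow (2 ^ d.n) d.x d.x_pow i).toMul

/-- `x ^ i * y`. -/
noncomputable def b (i : ZMod (2 ^ d.n)) : S := d.a i * d.y

/-- The multiplier `2^(n-1) - 1`. -/
def kk : ZMod (2 ^ d.n) := z2half d.n - 1

theorem a_intCast (m : ℤ) : d.a (m : ZMod (2 ^ d.n)) = d.x ^ m := zmodPow_intCast _ _ _ m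

theorem a_natCast (m : ℕ) : d.a (m : ZMod (2 ^ d.n)) = d.x ^ m := zmodPow_natCast _ _ _ m

theorem a_add (i j : ZMod (2 ^ d.n)) : d.a (i + j) = d.a i * d.a j := zmodPow_add _ _ _ i j

theorem a_neg (i : ZMod (2 ^ d.n)) : d.a (-i) = (d.a i)⁻¹ := zmodPow_neg _ _ _ i

theorem a_zero : d.a 0 = 1 := by
  have := d.a_natCast 0
  simpa using this

theorem a_one : d.a 1 = d.x := by
  have := d.a_natCast 1
  simpa using this

theorem a_sub (i j : ZMod (2 ^ d.n)) : d.a (i - j) = d.a i * (d.a j)⁻¹ := by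
  rw [sub_eq_add_neg, a_add, a_neg]

theorem a_eq_one_iff (i : ZMod (2 ^ d.n)) : d.a i = 1 ↔ i = 0 := by
  constructor
  · intro h
    exact zmodPow_eq_one (2 ^ d.n) d.x d.x_pow d.hx i h
  · rintro rfl; exact d.a_zero

theorem a_inj (i j : ZMod (2 ^ d.n)) : d.a i = d.a j ↔ i = j := by
  constructor
  · intro h
    have : d.a (i - j) = 1 := by rw [a_sub, h, mul_inv_cancel]
    rw [a_eq_one_iff, sub_eq_zero] at this
    exact this
  · rintro rfl; rfl

theorem a_comm (i j : ZMod (2 ^ d.n)) : d.a i * d.a j = d.a j * d.a i := by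
  rw [← a_add, ← a_add, add_comm]

theorem kk_eq : d.kk = ((2 ^ (d.n - 1) - 1 : ℕ) : ZMod (2 ^ d.n)) := by
  unfold kk z2half
  rw [Nat.cast_sub (Nat.one_le_two_pow), Nat.cast_one]

theorem a_mem_zpowers (i : ZMod (2 ^ d.n)) : d.a i ∈ Subgroup.zpowers d.x :=
  zmodPow_mem_zpowers _ _ _ i

theorem mem_zpowers_iff (g : S) : g ∈ Subgroup.zpowers d.x ↔ ∃ i, g = d.a i := by
  constructor
  · rintro ⟨m, rfl⟩
    exact ⟨(m : ZMod (2 ^ d.n)), (d.a_intCast m).symm⟩
  · rintro ⟨i, rfl⟩; exact d.a_mem_zpowers i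

theorem y_conj_a (i : ZMod (2 ^ d.n)) : d.y * d.a i * d.y⁻¹ = d.a (d.kk * i) := by
  obtain ⟨m, rfl⟩ := ZMod.intCast_surjective i
  rw [a_intCast]
  have h1 : d.y * d.x ^ m * d.y⁻¹ = (d.y * d.x * d.y⁻¹) ^ m := by
    have := map_zpow (MulAut.conj d.y) d.x m
    simpa [MulAut.conj_apply] using this
  rw [h1, d.hxy, kk_eq]
  have h2 : ((2 ^ (d.n - 1) - 1 : ℕ) : ZMod (2 ^ d.n)) * (m : ZMod (2 ^ d.n)) =
      (((2 ^ (d.n - 1) - 1 : ℕ) : ℤ) * m : ℤ) := by push_cast; ring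
  rw [h2, a_intCast, zpow_mul, zpow_natCast]

theorem y_mul_a (i : ZMod (2 ^ d.n)) : d.y * d.a i = d.a (d.kk * i) * d.y := by
  rw [← d.y_conj_a i]; group

theorem kk_mul_kk : d.kk * d.kk = 1 := by
  have h1 := d.hn
  unfold kk
  have := z2_half_mul_half d.n (by omega)
  have h2 := z2_half_add_half d.n (by omega)
  calc (z2half d.n - 1) * (z2half d.n - 1)
      = z2half d.n * z2half d.n - (z2half d.n + z2half d.n) + 1 := by ring
    _ = 1 := by rw [this, h2]; ring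

theorem kk_add_one : d.kk + 1 = z2half d.n := by unfold kk; ring

theorem a_mul_a (i j : ZMod (2 ^ d.n)) : d.a i * d.a j = d.a (i + j) := (d.a_add i j).symm

theorem a_mul_b (i j : ZMod (2 ^ d.n)) : d.a i * d.b j = d.b (i + j) := by
  unfold b; rw [a_add, mul_assoc]

theorem b_mul_a (i j : ZMod (2 ^ d.n)) : d.b i * d.a j = d.b (i + d.kk * j) := by
  unfold b; rw [mul_assoc, y_mul_a, a_add, mul_assoc]

theorem b_mul_b (i j : ZMod (2 ^ d.n)) : d.b i * d.b j = d.a (i + d.kk * j) := by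
  unfold b
  calc d.a i * d.y * (d.a j * d.y) = d.a i * (d.y * d.a j) * d.y := by group
    _ = d.a i * (d.a (d.kk * j) * d.y) * d.y := by rw [y_mul_a]
    _ = d.a i * d.a (d.kk * j) * (d.y * d.y) := by group
    _ = d.a (i + d.kk * j) := by rw [d.y_sq, mul_one, a_add]

theorem b_zero : d.b 0 = d.y := by unfold b; rw [a_zero, one_mul]

theorem y_not_mem : d.y ∉ Subgroup.zpowers d.x := by
  intro h
  obtain ⟨i, hi⟩ := (d.mem_zpowers_iff d.y).mp h
  -- `y` commutes with `x`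
  have h1 : d.y * d.a 1 * d.y⁻¹ = d.a 1 := by
    rw [hi, ← a_neg, a_mul_a, a_mul_a]; congr 1; ring
  rw [y_conj_a, a_inj, mul_one] at h1
  -- `kk = 1` means `half = 2`
  have h2 : z2half d.n = 2 := by
    have := d.kk_add_one
    rw [h1] at this
    rw [← this]; norm_num
  have hn := d.hn
  have h3 : (2 : ZMod (2 ^ d.n)) * 2 = 0 := by
    have := z2_two_mul_half d.n (by omega)
    rwa [h2] at this
  have h4 : ((4 : ℕ) : ZMod (2 ^ d.n)) = 0 := by
    push_cast; rw [← h3]; norm_num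
  rw [ZMod.natCast_eq_zero_iff] at h4
  have h5 : 2 ^ 3 ≤ 2 ^ d.n := Nat.pow_le_pow_right (by norm_num) hn
  have := Nat.le_of_dvd (by norm_num) h4
  omega

theorem a_ne_b (i j : ZMod (2 ^ d.n)) : d.a i ≠ d.b j := by
  intro h
  apply d.y_not_mem
  have : d.y = (d.a j)⁻¹ * d.a i := by rw [h]; unfold b; group
  rw [this, ← a_neg, a_mul_a]
  exact d.a_mem_zpowers _

theorem b_inj (i j : ZMod (2 ^ d.n)) : d.b i = d.b j ↔ i = j := by
  unfold b
  rw [mul_left_inj, a_inj]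

theorem card_zpowers : Nat.card (Subgroup.zpowers d.x) = 2 ^ d.n := by
  rw [Nat.card_zpowers, d.hx]

theorem index_zpowers : (Subgroup.zpowers d.x).index = 2 := by
  have h := (Subgroup.zpowers d.x).card_mul_index
  rw [d.card_zpowers, d.card, pow_succ] at h
  exact Nat.eq_of_mul_eq_mul_left (by positivity) h

theorem cases (g : S) : (∃ i, g = d.a i) ∨ (∃ i, g = d.b i) := by
  by_cases hg : g ∈ Subgroup.zpowers d.x
  · left; exact (d.mem_zpowers_iff g).mp hg
  · right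
    have h2 := d.index_zpowers
    have := (Subgroup.mul_mem_iff_of_index_two h2 (a := g) (b := d.y)).not
    have h3 : g * d.y ∈ Subgroup.zpowers d.x := by
      by_contra hcon
      have h4 := (Subgroup.mul_mem_iff_of_index_two h2 (a := g) (b := d.y))
      have : (g ∈ Subgroup.zpowers d.x ↔ d.y ∈ Subgroup.zpowers d.x) := by
        constructor
        · intro h; exact absurd h hg
        · intro h; exact absurd h d.y_not_mem
      exact hcon (h4.mpr this)
    obtain ⟨i, hi⟩ := (d.mem_zpowers_iff _).mp h3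
    refine ⟨i, ?_⟩
    unfold b
    rw [← hi, mul_assoc, d.y_sq, mul_one]

theorem a_inv (i : ZMod (2 ^ d.n)) : (d.a i)⁻¹ = d.a (-i) := (d.a_neg i).symm

theorem b_inv (i : ZMod (2 ^ d.n)) : (d.b i)⁻¹ = d.b (-(d.kk * i)) := by
  apply inv_eq_of_mul_eq_one_right
  rw [b_mul_b, mul_neg, ← mul_assoc, kk_mul_kk, one_mul, add_neg_cancel, a_zero]

end QDData

end Cfsg.Agent.Lib.Helper3
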