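import Mathlib
import Cfsg.Agent.Lib.Helper3.QD1

set_option autoImplicit false

namespace Cfsg.Agent.Lib.Helper3
open Cfsg.Agent.Lib.Lead

theorem orderOf_eq_four_of_sq {S : Type*} [Group S] (g z : S) (h : g * g = z) (hz1 : z ≠ 1)
    (hz2 : z * z = 1) : orderOf g = 4 := by
  have hh := orderOf_eq_prime_pow (x := g) (p := 2) (n := 1)
    (by rw [pow_one, pow_two, h]; exact hz1)
    (by
      have : g ^ (2 : ℕ) ^ (1 + 1) = (g * g) * (g * g) := by
        have : (2 : ℕ) ^ (1 + 1) = 4 := by norm_num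
        rw [this, pow_succ, pow_succ, pow_succ, pow_one, mul_assoc]
      rw [this, h, hz2])
  simpa using hh

namespace QDData

variable {S : Type*} [Group S] (d : QDData S)

theorem n_pos : 1 ≤ d.n := le_trans (by norm_num) d.hn

theorem kk_mul (i : ZMod (2 ^ d.n)) : d.kk * i = z2half d.n * i - i := by
  unfold kk; ring

theorem kk_mul_even (j : ZMod (2 ^ d.n)) : d.kk * (2 * j) = -(2 * j) := by
  rw [kk_mul, z2_half_mul_even d.n d.n_pos, zero_sub]

theorem kk_mul_odd (j : ZMod (2 ^ d.n)) : d.kk * (2 * j + 1) = z2half d.n - (2 * j + 1) := by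
  rw [kk_mul, z2_half_mul_odd d.n d.n_pos]

theorem kk_mul_half : d.kk * z2half d.n = z2half d.n := by
  have hn := d.hn
  rw [kk_mul, z2_half_mul_half d.n (by omega), zero_sub, z2_neg_half d.n d.n_pos]

theorem one_sub_kk : 1 - d.kk = 2 - z2half d.n := by unfold kk; ring

/-- The central involution. -/
noncomputable def zz : S := d.a (z2half d.n)

theorem zz_ne_one : d.zz ≠ 1 := by
  unfold zz
  rw [Ne, a_eq_one_iff]
  exact z2_half_ne_zero d.n d.n_pos

theorem zz_mul_zz : d.zz * d.zz = 1 := by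
  unfold zz
  rw [a_mul_a, z2_half_add_half d.n d.n_pos, a_zero]

theorem orderOf_zz : orderOf d.zz = 2 := by
  apply orderOf_eq_prime
  · rw [pow_two]; exact d.zz_mul_zz
  · exact d.zz_ne_one

theorem zz_mul_a (i : ZMod (2 ^ d.n)) : d.zz * d.a i = d.a i * d.zz := a_comm d _ _

theorem zz_mul_b (i : ZMod (2 ^ d.n)) : d.zz * d.b i = d.b i * d.zz := by
  unfold zz
  rw [a_mul_b, b_mul_a, kk_mul_half, add_comm]

theorem zz_central (g : S) : d.zz * g = g * d.zz := by
  rcases d.cases g with ⟨i, rfl⟩ | ⟨i, rfl⟩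
  · exact d.zz_mul_a i
  · exact d.zz_mul_b i

theorem b_sq (i : ZMod (2 ^ d.n)) : d.b i * d.b i = d.a (z2half d.n * i) := by
  rw [b_mul_b]; congr 1
  rw [kk_mul]; ring

theorem b_even_sq (j : ZMod (2 ^ d.n)) : d.b (2 * j) * d.b (2 * j) = 1 := by
  rw [b_sq, z2_half_mul_even d.n d.n_pos, a_zero]

theorem b_odd_sq (j : ZMod (2 ^ d.n)) : d.b (2 * j + 1) * d.b (2 * j + 1) = d.zz := by
  rw [b_sq, z2_half_mul_odd d.n d.n_pos]; rfl

theorem b_ne_one (i : ZMod (2 ^ d.n)) : d.b i ≠ 1 := by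
  rw [← d.a_zero]; exact (d.a_ne_b 0 i).symm

theorem orderOf_b_even (j : ZMod (2 ^ d.n)) : orderOf (d.b (2 * j)) = 2 := by
  apply orderOf_eq_prime
  · rw [pow_two]; exact d.b_even_sq j
  · exact d.b_ne_one _

theorem orderOf_b_odd (j : ZMod (2 ^ d.n)) : orderOf (d.b (2 * j + 1)) = 4 := by
  exact orderOf_eq_four_of_sq _ _ (d.b_odd_sq j) d.zz_ne_one d.zz_mul_zz

/-- conjugating `b i` by `a j` -/
theorem a_conj_b (j i : ZMod (2 ^ d.n)) : d.a j * d.b i * (d.a j)⁻¹ = d.b (i + (1 - d.kk) * j) := by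
  rw [a_inv, a_mul_b, b_mul_a]; congr 1; ring

theorem b_conj_a (j i : ZMod (2 ^ d.n)) : d.b j * d.a i * (d.b j)⁻¹ = d.a (d.kk * i) := by
  rw [b_inv, b_mul_a, b_mul_b]; congr 1
  rw [mul_neg, ← mul_assoc, kk_mul_kk]; ring

theorem b_conj_b (j i : ZMod (2 ^ d.n)) :
    d.b j * d.b i * (d.b j)⁻¹ = d.b (d.kk * i + (1 - d.kk) * j) := by
  rw [b_inv, b_mul_b, a_mul_b]; congr 1
  ring

theorem a_conj_a (j i : ZMod (2 ^ d.n)) : d.a j * d.a i * (d.a j)⁻¹ = d.a i := by
  rw [a_comm, mul_assoc, mul_inv_cancel, mul_one]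

/-- conjugating `b i` by `a j` with `j` even -/
theorem a_even_conj_b (j i : ZMod (2 ^ d.n)) :
    d.a (2 * j) * d.b i * (d.a (2 * j))⁻¹ = d.b (i + 2 * (2 * j)) := by
  rw [a_conj_b, one_sub_kk]; congr 1
  rw [sub_mul, z2_half_mul_even d.n d.n_pos, sub_zero]

/-- conjugating `b i` by `a j` with `j` odd -/
theorem a_odd_conj_b (j i : ZMod (2 ^ d.n)) :
    d.a (2 * j + 1) * d.b i * (d.a (2 * j + 1))⁻¹ = d.b (i + 2 * (2 * j + 1) + z2half d.n) := by
  rw [a_conj_b, one_sub_kk]; congr 1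
  rw [sub_mul, z2_half_mul_odd d.n d.n_pos, sub_eq_add_neg, z2_neg_half d.n d.n_pos]; ring

/-- every `b` with even index is conjugate to `b 0` -/
theorem exists_conj_b_even (i j : ZMod (2 ^ d.n)) : ∃ g : S, g * d.b i * g⁻¹ = d.b (i + 2 * j) := by
  have hn := d.hn
  obtain ⟨m, hm | hm⟩ := z2_parity d.n j
  · exact ⟨d.a j, by rw [hm, a_even_conj_b]⟩
  · refine ⟨d.a (2 * (m + z2eighth d.n) + 1), ?_⟩
    rw [a_odd_conj_b]; congr 1
    rw [hm]
    have h1 : 2 * (2 * (m + z2eighth d.n) + 1) = 2 * (2 * m + 1) + z2half d.n := by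
      rw [← z2_two_mul_quarter d.n (by omega), ← z2_two_mul_eighth d.n hn]; ring
    rw [h1, add_assoc, add_assoc, z2_half_add_half d.n d.n_pos, add_zero]

/-- elements of order two -/
theorem orderOf_eq_two_iff (g : S) : orderOf g = 2 ↔ g = d.zz ∨ ∃ j, g = d.b (2 * j) := by
  constructor
  · intro h
    have hg2 : g * g = 1 := by
      have := pow_orderOf_eq_one g
      rwa [h, pow_two] at this
    have hg1 : g ≠ 1 := by
      rintro rfl
      rw [orderOf_one] at h; omega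
    rcases d.cases g with ⟨i, rfl⟩ | ⟨i, rfl⟩
    · left
      rw [a_mul_a, a_eq_one_iff, ← two_mul, z2_two_mul_eq_zero d.n d.n_pos] at hg2
      rcases hg2 with rfl | rfl
      · exact absurd d.a_zero hg1
      · rfl
    · right
      obtain ⟨j, hj | hj⟩ := z2_parity d.n i
      · exact ⟨j, by rw [hj]⟩
      · exfalso
        rw [hj, b_odd_sq] at hg2
        exact d.zz_ne_one hg2
  · rintro (rfl | ⟨j, rfl⟩)
    · exact d.orderOf_zz
    · exact d.orderOf_b_even j

/-- the two elements of order four in the cyclic subgroup -/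
noncomputable def qq : S := d.a (z2quarter d.n)

theorem n_two : 2 ≤ d.n := le_trans (by norm_num) d.hn

theorem qq_mul_qq : d.qq * d.qq = d.zz := by
  unfold qq zz
  rw [a_mul_a, ← two_mul, z2_two_mul_quarter d.n d.n_two]

theorem orderOf_a_eq_four_iff (i : ZMod (2 ^ d.n)) :
    orderOf (d.a i) = 4 ↔ i = z2quarter d.n ∨ i = z2quarter d.n + z2half d.n := by
  rw [← z2_two_mul_eq_half d.n d.n_two]
  constructor
  · intro h
    have h4 : d.a i ^ 4 = 1 := by rw [← h]; exact pow_orderOf_eq_one _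
    have h2 : d.a i ^ 2 ≠ 1 := by
      intro h2
      have := orderOf_dvd_of_pow_eq_one h2
      rw [h] at this
      omega
    have e4 : d.a i ^ 4 = d.a (2 * (2 * i)) := by
      have : (4 : ℕ) = 2 * 2 := by norm_num
      rw [this, pow_mul, pow_two, pow_two, a_mul_a, a_mul_a]; congr 1; ring
    have e2 : d.a i ^ 2 = d.a (2 * i) := by
      rw [pow_two, a_mul_a]; congr 1; ring
    rw [e4, a_eq_one_iff, z2_two_mul_eq_zero d.n d.n_pos] at h4
    rw [e2, Ne, a_eq_one_iff] at h2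
    rcases h4 with h4 | h4
    · exact absurd h4 h2
    · exact h4
  · intro h
    have e2 : d.a i * d.a i = d.zz := by
      rw [a_mul_a, ← two_mul, h]; rfl
    exact orderOf_eq_four_of_sq _ _ e2 d.zz_ne_one d.zz_mul_zz

theorem orderOf_eq_four_iff (g : S) : orderOf g = 4 ↔
    g = d.qq ∨ g = d.qq * d.zz ∨ ∃ j, g = d.b (2 * j + 1) := by
  constructor
  · intro h
    rcases d.cases g with ⟨i, rfl⟩ | ⟨i, rfl⟩
    · rw [orderOf_a_eq_four_iff] at h
      rcases h with rfl | rfl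
      · left; rfl
      · right; left; unfold qq zz; rw [a_mul_a]
    · right; right
      obtain ⟨j, hj | hj⟩ := z2_parity d.n i
      · exfalso
        rw [hj, orderOf_b_even] at h; omega
      · exact ⟨j, by rw [hj]⟩
  · rintro (rfl | rfl | ⟨j, rfl⟩)
    · exact (d.orderOf_a_eq_four_iff _).mpr (Or.inl rfl)
    · unfold qq zz; rw [a_mul_a]
      exact (d.orderOf_a_eq_four_iff _).mpr (Or.inr rfl)
    · exact d.orderOf_b_odd j

end QDData

end Cfsg.Agent.Lib.Helper3
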