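import Mathlib
import Cfsg.Agent.Lib.Helper3.QD2

set_option autoImplicit false

namespace Cfsg.Agent.Lib.Helper3
namespace QDData
variable {S : Type*} [Group S] (d : QDData S)

/-- conjugates of elements of the cyclic subgroup stay in it -/
theorem conj_a (c : S) (i : ZMod (2 ^ d.n)) : ∃ i', c * d.a i * c⁻¹ = d.a i' := by
  rcases d.cases c with ⟨j, rfl⟩ | ⟨j, rfl⟩
  · exact ⟨i, d.a_conj_a j i⟩
  · exact ⟨d.kk * i, d.b_conj_a j i⟩

theorem neg_quarter : - z2quarter d.n = z2quarter d.n + z2half d.n := by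
  rw [neg_eq_iff_add_eq_zero, ← z2_two_mul_quarter d.n d.n_two]
  have := z2_two_mul_half d.n d.n_pos
  rw [← z2_two_mul_quarter d.n d.n_two] at this
  rw [← this]; ring

theorem y_conj_qq : d.b 0 * d.qq * (d.b 0)⁻¹ = d.qq * d.zz := by
  unfold qq zz
  rw [b_conj_a, a_mul_a, ← z2_two_mul_eighth d.n d.hn, kk_mul_even, z2_two_mul_eighth d.n d.hn,
    neg_quarter]

end QDData
end Cfsg.Agent.Lib.Helper3
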