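import Mathlib
import Cfsg.Agent.Lib.Helper3.QD3

set_option autoImplicit false

namespace Cfsg.Agent.Lib.Helper3

theorem klein_mem_sq {S : Type*} [Group S] (T : Subgroup S) (hT : IsKleinFour T) {t : S} (ht : t ∈ T) :
    t * t = 1 := by
  have h := Monoid.pow_exponent_eq_one (⟨t, ht⟩ : T)
  rw [hT.exponent_two] at h
  have := congrArg Subtype.val h
  simpa [pow_two] using this

theorem klein_orderOf {S : Type*} [Group S] (T : Subgroup S) (hT : IsKleinFour T) {t : S} (ht : t ∈ T)
    (ht1 : t ≠ 1) : orderOf t = 2 := by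
  apply orderOf_eq_prime
  · rw [pow_two]; exact klein_mem_sq T hT ht
  · exact ht1

/-- a Klein four-group is not contained in a subgroup generated by an involution -/
theorem klein_exists_not_mem_zpowers {S : Type*} [Group S] (T : Subgroup S) (hT : IsKleinFour T) (t : S)
    (ht : t * t = 1) : ∃ u ∈ T, u ≠ 1 ∧ u ≠ t := by
  by_contra hcon
  push Not at hcon
  have hle : T ≤ Subgroup.zpowers t := by
    intro u hu
    by_cases h1 : u = 1
    · rw [h1]; exact Subgroup.one_mem _
    · rw [hcon u hu h1]; exact Subgroup.mem_zpowers t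
  have hfin : Finite T := Nat.finite_of_card_ne_zero (by rw [hT.card_four]; norm_num)
  have h2 : Nat.card (Subgroup.zpowers t) ≤ 2 := by
    rw [Nat.card_zpowers]
    apply Nat.le_of_dvd (by norm_num)
    apply orderOf_dvd_of_pow_eq_one
    rw [pow_two]; exact ht
  have hfin2 : Finite (Subgroup.zpowers t) := by
    apply Nat.finite_of_card_ne_zero
    rw [Nat.card_zpowers]
    have : orderOf t ∣ 2 := by
      apply orderOf_dvd_of_pow_eq_one
      rw [pow_two]; exact ht
    intro h0
    rw [h0] at this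
    omega
  have h3 := Subgroup.card_le_of_le hle
  rw [hT.card_four] at h3
  omega

namespace QDData
variable {S : Type*} [Group S] (d : QDData S)

/-- the involutions of the cyclic subgroup -/
theorem a_sq_eq_one_iff (i : ZMod (2 ^ d.n)) : d.a i * d.a i = 1 ↔ i = 0 ∨ i = z2half d.n := by
  rw [a_mul_a, a_eq_one_iff, ← two_mul, z2_two_mul_eq_zero d.n d.n_pos]

/-- structure of Klein four-subgroups: they contain the central involution and some `b (2j)` -/
theorem klein_struct (T : Subgroup S) (hT : IsKleinFour T) :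
    ∃ j, d.zz ∈ T ∧ d.b (2 * j) ∈ T := by
  obtain ⟨t, htT, ht1, htz⟩ := klein_exists_not_mem_zpowers T hT d.zz d.zz_mul_zz
  have hto := klein_orderOf T hT htT ht1
  rw [d.orderOf_eq_two_iff] at hto
  rcases hto with h | ⟨j, rfl⟩
  · exact absurd h htz
  refine ⟨j, ?_, htT⟩
  obtain ⟨u, huT, hu1, hut⟩ := klein_exists_not_mem_zpowers T hT (d.b (2 * j)) (d.b_even_sq j)
  have huo := klein_orderOf T hT huT hu1
  rw [d.orderOf_eq_two_iff] at huo
  rcases huo with rfl | ⟨j', rfl⟩
  · exact huT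
  · have hprod : d.b (2 * j) * d.b (2 * j') ∈ T := T.mul_mem htT huT
    rw [b_mul_b] at hprod
    have hsq := klein_mem_sq T hT hprod
    rw [a_sq_eq_one_iff] at hsq
    rcases hsq with h0 | hh
    · exfalso
      apply hut
      rw [kk_mul_even] at h0
      have : 2 * j' = 2 * j := by
        have := h0
        rw [← sub_eq_add_neg, sub_eq_zero] at this
        exact this.symm
      rw [this]
    · rw [hh] at hprod
      exact hprod

/-- elements of a Klein four-subgroup -/
theorem klein_mem (T : Subgroup S) (hT : IsKleinFour T) (j : ZMod (2 ^ d.n))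
    (hb : d.b (2 * j) ∈ T) (g : S) (hg : g ∈ T) :
    g = 1 ∨ g = d.zz ∨ g = d.b (2 * j) ∨ g = d.b (2 * j + z2half d.n) := by
  by_cases hg1 : g = 1
  · left; exact hg1
  right
  have hgo := klein_orderOf T hT hg hg1
  rw [d.orderOf_eq_two_iff] at hgo
  rcases hgo with rfl | ⟨j', rfl⟩
  · left; rfl
  · right
    have hprod : d.b (2 * j) * d.b (2 * j') ∈ T := T.mul_mem hb hg
    rw [b_mul_b] at hprod
    have hsq := klein_mem_sq T hT hprod
    rw [a_sq_eq_one_iff, kk_mul_even, ← sub_eq_add_neg] at hsq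
    rcases hsq with h0 | hh
    · left
      rw [sub_eq_zero] at h0
      rw [h0]
    · right
      congr 1
      have : 2 * j' = 2 * j - z2half d.n := by rw [← hh]; ring
      rw [this, sub_eq_add_neg, z2_neg_half d.n d.n_pos]

/-- centralizer of `b (2j)` -/
theorem comm_b_even (j : ZMod (2 ^ d.n)) (g : S) (hg : g * d.b (2 * j) = d.b (2 * j) * g) :
    g = 1 ∨ g = d.zz ∨ g = d.b (2 * j) ∨ g = d.b (2 * j + z2half d.n) := by
  have hn := d.hn
  have hhalf : z2half d.n = 2 * (2 * z2eighth d.n) := by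
    rw [z2_two_mul_eighth d.n hn, z2_two_mul_quarter d.n d.n_two]
  rcases d.cases g with ⟨i, rfl⟩ | ⟨i, rfl⟩
  · rw [a_mul_b, b_mul_a, b_inj] at hg
    -- `i = kk * i`
    have h1 : (2 - z2half d.n) * i = 0 := by
      rw [← one_sub_kk]
      have : i + 2 * j - (2 * j + d.kk * i) = 0 := by rw [hg]; ring
      rw [← this]; ring
    obtain ⟨m, hm | hm⟩ := z2_parity d.n i
    · rw [hm, sub_mul, z2_half_mul_even d.n d.n_pos, sub_zero, z2_two_mul_eq_zero d.n d.n_pos, ← hm] at h1
      rcases h1 with rfl | rfl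
      · left; exact d.a_zero
      · right; left; rfl
    · exfalso
      rw [hm, sub_mul, z2_half_mul_odd d.n d.n_pos, sub_eq_zero] at h1
      have h2 : 2 * (2 * m + 1 - 2 * z2eighth d.n) = 0 := by
        rw [mul_sub, h1, hhalf]; ring
      rw [z2_two_mul_eq_zero d.n d.n_pos] at h2
      rcases h2 with h2 | h2
      · have : 2 * z2eighth d.n = 2 * m + 1 := by
          rw [sub_eq_zero] at h2; exact h2.symm
        exact z2_even_ne_odd d.n d.n_pos _ _ this
      · have : 2 * (z2eighth d.n + 2 * z2eighth d.n) = 2 * m + 1 := by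
          rw [hhalf] at h2
          have : 2 * m + 1 = 2 * (2 * z2eighth d.n) + 2 * z2eighth d.n := by
            rw [← h2]; ring
          rw [this]; ring
        exact z2_even_ne_odd d.n d.n_pos _ _ this
  · right; right
    rw [b_mul_b, b_mul_b, a_inj, kk_mul_even] at hg
    have h1 : (2 - z2half d.n) * i = 2 * (2 * j) := by
      rw [← one_sub_kk]
      have : i + -(2 * j) - (2 * j + d.kk * i) = 0 := by rw [hg]; ring
      have h2 : (1 - d.kk) * i - 2 * (2 * j) = i + -(2 * j) - (2 * j + d.kk * i) := by ring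
      rw [← sub_eq_zero, h2, this]
    obtain ⟨m, hm | hm⟩ := z2_parity d.n i
    · rw [hm, sub_mul, z2_half_mul_even d.n d.n_pos, sub_zero] at h1
      have h2 : 2 * (2 * m - 2 * j) = 0 := by rw [mul_sub, h1]; ring
      rw [z2_two_mul_eq_zero d.n d.n_pos] at h2
      rcases h2 with h2 | h2
      · left
        rw [sub_eq_zero] at h2
        rw [hm, h2]
      · right
        rw [hm]
        congr 1
        rw [← h2]; ring
    · exfalso
      rw [hm, sub_mul, z2_half_mul_odd d.n d.n_pos] at h1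
      have h2 : 2 * (2 * m + 1 - 2 * z2eighth d.n - 2 * j) = 0 := by
        have : 2 * (2 * m + 1 - 2 * z2eighth d.n - 2 * j) =
          (2 * (2 * m + 1) - z2half d.n) - 2 * (2 * j) := by rw [hhalf]; ring
        rw [this, h1]; ring
      rw [z2_two_mul_eq_zero d.n d.n_pos] at h2
      rcases h2 with h2 | h2
      · have : 2 * (z2eighth d.n + j) = 2 * m + 1 := by
          have : 2 * m + 1 = 2 * z2eighth d.n + 2 * j := by
            rw [sub_eq_zero] at h2
            rw [← h2]; ring
          rw [this]; ring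
        exact z2_even_ne_odd d.n d.n_pos _ _ this
      · have : 2 * (z2eighth d.n + j + 2 * z2eighth d.n) = 2 * m + 1 := by
          rw [hhalf] at h2
          have : 2 * m + 1 = 2 * (2 * z2eighth d.n) + 2 * z2eighth d.n + 2 * j := by
            rw [← h2]; ring
          rw [this]; ring
        exact z2_even_ne_odd d.n d.n_pos _ _ this

end QDData


theorem klein_comm {S : Type*} [Group S] (T : Subgroup S) (hT : IsKleinFour T) (g t : S) (hg : g ∈ T) (ht : t ∈ T) :
    g * t = t * g := by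
  have h1 := klein_mem_sq T hT hg
  have h2 := klein_mem_sq T hT ht
  have h3 := klein_mem_sq T hT (T.mul_mem hg ht)
  calc g * t = g * ((g * t) * (g * t)) * t := by rw [h3, mul_one]
    _ = (g * g) * t * g * (t * t) := by group
    _ = t * g := by rw [h1, h2, one_mul, mul_one]

namespace QDData
variable {S : Type*} [Group S] (d : QDData S)

theorem zz_mul_b' (i : ZMod (2 ^ d.n)) : d.zz * d.b i = d.b (i + z2half d.n) := by
  unfold zz; rw [a_mul_b, add_comm]

theorem zz_conj (g : S) : g * d.zz * g⁻¹ = d.zz := by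
  rw [← d.zz_central g, mul_assoc, mul_inv_cancel, mul_one]

theorem b_ne_zz (i : ZMod (2 ^ d.n)) : d.b i ≠ d.zz := (d.a_ne_b _ i).symm

theorem zz_mul_b_ne (i : ZMod (2 ^ d.n)) : d.zz * d.b i ≠ d.b i := by
  intro h
  have : d.zz = 1 := by
    have := mul_right_cancel (b := d.b i) (a := d.zz) (c := 1) (by rw [h, one_mul])
    exact this
  exact d.zz_ne_one this

theorem qq_conj_b_even (i : ZMod (2 ^ d.n)) : d.qq * d.b i * d.qq⁻¹ = d.zz * d.b i := by
  unfold qq
  rw [← z2_two_mul_eighth d.n d.hn, a_even_conj_b, z2_two_mul_eighth d.n d.hn,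
    z2_two_mul_quarter d.n d.n_two, zz_mul_b']

theorem klein_conj_mem (T : Subgroup S) (hT : IsKleinFour T) (j : ZMod (2 ^ d.n))
    (hz : d.zz ∈ T) (hb : d.b (2 * j) ∈ T) (g : S)
    (hg : g * d.b (2 * j) * g⁻¹ = d.b (2 * j) ∨ g * d.b (2 * j) * g⁻¹ = d.zz * d.b (2 * j)) :
    ∀ t ∈ T, g * t * g⁻¹ ∈ T := by
  have hgb : g * d.b (2 * j) * g⁻¹ ∈ T := by
    rcases hg with h | h
    · rw [h]; exact hb
    · rw [h]; exact T.mul_mem hz hb
  intro t ht
  rcases d.klein_mem T hT j hb t ht with rfl | rfl | rfl | rfl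
  · simp
  · rw [d.zz_conj]; exact hz
  · exact hgb
  · rw [← zz_mul_b']
    have : g * (d.zz * d.b (2 * j)) * g⁻¹ = (g * d.zz * g⁻¹) * (g * d.b (2 * j) * g⁻¹) := by group
    rw [this, d.zz_conj]
    exact T.mul_mem hz hgb

theorem klein_mem_normalizer (T : Subgroup S) (hT : IsKleinFour T) (j : ZMod (2 ^ d.n))
    (hz : d.zz ∈ T) (hb : d.b (2 * j) ∈ T) (g : S)
    (hg : g * d.b (2 * j) * g⁻¹ = d.b (2 * j) ∨ g * d.b (2 * j) * g⁻¹ = d.zz * d.b (2 * j)) :
    g ∈ Subgroup.normalizer (T : Set S) := by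
  have hg' : g⁻¹ * d.b (2 * j) * g⁻¹⁻¹ = d.b (2 * j) ∨
      g⁻¹ * d.b (2 * j) * g⁻¹⁻¹ = d.zz * d.b (2 * j) := by
    rcases hg with h | h
    · left
      calc g⁻¹ * d.b (2 * j) * g⁻¹⁻¹ = g⁻¹ * (g * d.b (2 * j) * g⁻¹) * g := by rw [h, inv_inv]
        _ = d.b (2 * j) := by group
    · right
      have h2 : d.b (2 * j) = d.zz * (g * d.b (2 * j) * g⁻¹) := by
        rw [h, ← mul_assoc, d.zz_mul_zz, one_mul]
      calc g⁻¹ * d.b (2 * j) * g⁻¹⁻¹ = g⁻¹ * (d.zz * (g * d.b (2 * j) * g⁻¹)) * g := by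
            rw [← h2, inv_inv]
        _ = (g⁻¹ * d.zz * g⁻¹⁻¹) * d.b (2 * j) := by group
        _ = d.zz * d.b (2 * j) := by rw [d.zz_conj]
  rw [Subgroup.mem_normalizer_iff]
  intro t
  constructor
  · exact d.klein_conj_mem T hT j hz hb g hg t
  · intro h
    have := d.klein_conj_mem T hT j hz hb g⁻¹ hg' _ h
    have e : g⁻¹ * (g * t * g⁻¹) * g⁻¹⁻¹ = t := by group
    rwa [e] at this

theorem klein_of_mem_normalizer (T : Subgroup S) (hT : IsKleinFour T) (j : ZMod (2 ^ d.n))
    (hb : d.b (2 * j) ∈ T) (g : S)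
    (hg : g ∈ Subgroup.normalizer (T : Set S)) :
    g * d.b (2 * j) * g⁻¹ = d.b (2 * j) ∨ g * d.b (2 * j) * g⁻¹ = d.zz * d.b (2 * j) := by
  have h1 : g * d.b (2 * j) * g⁻¹ ∈ T := (Subgroup.mem_normalizer_iff.mp hg _).mp hb
  rcases d.klein_mem T hT j hb _ h1 with h | h | h | h
  · exfalso
    have : d.b (2 * j) = 1 := by
      have e : d.b (2 * j) = g⁻¹ * (g * d.b (2 * j) * g⁻¹) * g := by group
      rw [e, h]; group
    exact d.b_ne_one _ this
  · exfalso
    have : d.b (2 * j) = d.zz := by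
      have e : d.b (2 * j) = g⁻¹ * (g * d.b (2 * j) * g⁻¹) * g⁻¹⁻¹ := by group
      rw [e, h, d.zz_conj]
    exact d.b_ne_zz _ this
  · left; exact h
  · right; rw [h, zz_mul_b']

end QDData
end Cfsg.Agent.Lib.Helper3
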