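import Mathlib
import Cfsg.Agent.Lib.Helper3.QD4
import Cfsg.Agent.Lib.Helper3.Quat8

set_option autoImplicit false

namespace Cfsg.Agent.Lib.Helper3

theorem q8_gens : (QuaternionGroup.a 1 : QuaternionGroup 2) ^ 2 ≠ 1 ∧
    (QuaternionGroup.xa 0 : QuaternionGroup 2) ^ 2 ≠ 1 ∧
    (QuaternionGroup.a 1 : QuaternionGroup 2) * QuaternionGroup.xa 0 ≠
      QuaternionGroup.xa 0 * QuaternionGroup.a 1 ∧
    ((QuaternionGroup.a 1 : QuaternionGroup 2) * QuaternionGroup.xa 0) ^ 2 ≠ 1 := by decide +kernel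

/-- two noncommuting elements of order four with product of order four in a quaternion subgroup -/
theorem q8_sub_gens {G : Type*} [Group G] (Q : Subgroup G) (e : ↥Q ≃* QuaternionGroup 2) :
    ∃ u v : G, u ∈ Q ∧ v ∈ Q ∧ u * u ≠ 1 ∧ v * v ≠ 1 ∧ u * v ≠ v * u ∧ (u * v) * (u * v) ≠ 1 := by
  obtain ⟨h1, h2, h3, h4⟩ := q8_gens
  refine ⟨(e.symm (QuaternionGroup.a 1) : ↥Q), (e.symm (QuaternionGroup.xa 0) : ↥Q),
    (e.symm _).2, (e.symm _).2, ?_, ?_, ?_, ?_⟩
  · intro h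
    apply h1
    have : (e.symm (QuaternionGroup.a 1)) * (e.symm (QuaternionGroup.a 1)) = 1 := Subtype.ext h
    rw [← map_mul, ← map_one e.symm] at this
    rw [pow_two]
    exact e.symm.injective this
  · intro h
    apply h2
    have : (e.symm (QuaternionGroup.xa 0)) * (e.symm (QuaternionGroup.xa 0)) = 1 := Subtype.ext h
    rw [← map_mul, ← map_one e.symm] at this
    rw [pow_two]
    exact e.symm.injective this
  · intro h
    apply h3
    have : (e.symm (QuaternionGroup.a 1)) * (e.symm (QuaternionGroup.xa 0)) =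
        (e.symm (QuaternionGroup.xa 0)) * (e.symm (QuaternionGroup.a 1)) := Subtype.ext h
    rw [← map_mul, ← map_mul] at this
    exact e.symm.injective this
  · intro h
    apply h4
    have : ((e.symm (QuaternionGroup.a 1)) * (e.symm (QuaternionGroup.xa 0))) *
        ((e.symm (QuaternionGroup.a 1)) * (e.symm (QuaternionGroup.xa 0))) = 1 := Subtype.ext h
    rw [← map_mul, ← map_mul, ← map_one e.symm] at this
    rw [pow_two]
    exact e.symm.injective this

theorem q8_sub_card {G : Type*} [Group G] (Q : Subgroup G) (e : ↥Q ≃* QuaternionGroup 2) :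
    Nat.card Q = 8 := by
  rw [Nat.card_congr e.toEquiv, Nat.card_eq_fintype_card, QuaternionGroup.card]

/-- the predicate `4 i = 0` -/
def z2R4 (n : ℕ) (i : ZMod (2 ^ n)) : Prop := 2 * (2 * i) = 0

theorem z2R4_iff (n : ℕ) (hn : 2 ≤ n) (i : ZMod (2 ^ n)) : z2R4 n i ↔
    i = 0 ∨ i = z2half n ∨ i = z2quarter n ∨ i = z2quarter n + z2half n := by
  unfold z2R4
  rw [z2_two_mul_eq_zero n (by omega), z2_two_mul_eq_zero n (by omega), z2_two_mul_eq_half n hn]
  tauto

theorem z2R4_add (n : ℕ) (i j : ZMod (2 ^ n)) (hi : z2R4 n i) (hj : z2R4 n j) : z2R4 n (i + j) := by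
  unfold z2R4 at *
  have : 2 * (2 * (i + j)) = 2 * (2 * i) + 2 * (2 * j) := by ring
  rw [this, hi, hj, add_zero]

theorem z2R4_neg (n : ℕ) (i : ZMod (2 ^ n)) (hi : z2R4 n i) : z2R4 n (-i) := by
  unfold z2R4 at *
  have : 2 * (2 * (-i)) = -(2 * (2 * i)) := by ring
  rw [this, hi, neg_zero]

theorem z2R4_mul (n : ℕ) (k i : ZMod (2 ^ n)) (hi : z2R4 n i) : z2R4 n (k * i) := by
  unfold z2R4 at *
  have : 2 * (2 * (k * i)) = k * (2 * (2 * i)) := by ring
  rw [this, hi, mul_zero]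

theorem z2R4_sub (n : ℕ) (i j : ZMod (2 ^ n)) (hi : z2R4 n i) (hj : z2R4 n j) : z2R4 n (i - j) := by
  rw [sub_eq_add_neg]; exact z2R4_add n _ _ hi (z2R4_neg n _ hj)

namespace QDData
variable {S : Type*} [Group S] (d : QDData S)

theorem qq_inv : (d.qq)⁻¹ = d.qq * d.zz := by
  unfold qq zz
  rw [a_inv, a_mul_a, neg_quarter]

theorem a_comm_b_iff (i c : ZMod (2 ^ d.n)) : d.a i * d.b c = d.b c * d.a i ↔ i = 0 ∨ i = z2half d.n := by
  have hn := d.hn
  have hhalf : z2half d.n = 2 * (2 * z2eighth d.n) := by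
    rw [z2_two_mul_eighth d.n hn, z2_two_mul_quarter d.n d.n_two]
  rw [a_mul_b, b_mul_a, b_inj]
  constructor
  · intro hg
    have h1 : (2 - z2half d.n) * i = 0 := by
      rw [← one_sub_kk]
      have : i + c - (c + d.kk * i) = 0 := by rw [hg]; ring
      rw [← this]; ring
    obtain ⟨m, hm | hm⟩ := z2_parity d.n i
    · rw [hm, sub_mul, z2_half_mul_even d.n d.n_pos, sub_zero, z2_two_mul_eq_zero d.n d.n_pos, ← hm] at h1
      exact h1
    · exfalso
      rw [hm, sub_mul, z2_half_mul_odd d.n d.n_pos, sub_eq_zero] at h1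
      have h2 : 2 * (2 * m + 1 - 2 * z2eighth d.n) = 0 := by
        rw [mul_sub, h1, hhalf]; ring
      rw [z2_two_mul_eq_zero d.n d.n_pos] at h2
      rcases h2 with h2 | h2
      · have : 2 * z2eighth d.n = 2 * m + 1 := by
          rw [sub_eq_zero] at h2; exact h2.symm
        exact z2_even_ne_odd d.n d.n_pos _ _ this
      · have : 2 * (z2eighth d.n + 2 * z2eighth d.n) = 2 * m + 1 := by
          rw [hhalf] at h2
          have : 2 * m + 1 = 2 * (2 * z2eighth d.n) + 2 * z2eighth d.n := by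
            rw [← h2]; ring
          rw [this]; ring
        exact z2_even_ne_odd d.n d.n_pos _ _ this
  · rintro (rfl | rfl)
    · ring
    · rw [kk_mul_half, add_comm]

/-- the structure of quaternion subgroups of order eight -/
theorem q8_struct (Q : Subgroup S) (e : ↥Q ≃* QuaternionGroup 2) :
    ∃ m : ZMod (2 ^ d.n), (∀ i, d.a i ∈ Q ↔ z2R4 d.n i) ∧
      (∀ i, d.b i ∈ Q ↔ z2R4 d.n (i - (2 * m + 1))) := by
  obtain ⟨u, v, huQ, hvQ, hu2, hv2, huv, huv2⟩ := q8_sub_gens Q e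
  -- an element of order four of `Q` in the cyclic subgroup, and an odd `b` in `Q`
  have key : ∃ i₀ c, d.a i₀ ∈ Q ∧ d.a i₀ * d.a i₀ ≠ 1 ∧ d.b c ∈ Q ∧ d.b c * d.b c ≠ 1 := by
    rcases d.cases u with ⟨i, rfl⟩ | ⟨i, rfl⟩ <;> rcases d.cases v with ⟨i', rfl⟩ | ⟨i', rfl⟩
    · exact absurd (d.a_comm i i') huv
    · exact ⟨i, i', huQ, hu2, hvQ, hv2⟩
    · exact ⟨i', i, hvQ, hv2, huQ, hu2⟩
    · refine ⟨i + d.kk * i', i, ?_, ?_, huQ, hu2⟩
      · rw [← b_mul_b]; exact Q.mul_mem huQ hvQ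
      · rw [← b_mul_b]; exact huv2
  obtain ⟨i₀, c, hi₀Q, hi₀2, hcQ, hc2⟩ := key
  -- `c` is odd
  obtain ⟨m, hm | hm⟩ := z2_parity d.n c
  · exfalso
    rw [hm, b_even_sq] at hc2
    exact hc2 rfl
  -- `a i₀` has order four
  have h4 : d.a i₀ ^ 4 = 1 := q8_sub_pow_four Q e _ hi₀Q
  have hord : orderOf (d.a i₀) = 4 := by
    have hz : (d.a i₀ * d.a i₀) * (d.a i₀ * d.a i₀) = 1 := by
      rw [← h4, pow_succ, pow_succ, pow_succ, pow_one]; group
    exact orderOf_eq_four_of_sq _ _ rfl hi₀2 hz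
  rw [orderOf_a_eq_four_iff] at hord
  have hqQ : d.qq ∈ Q := by
    rcases hord with h | h
    · rw [h] at hi₀Q; exact hi₀Q
    · have h1 : d.qq = (d.a i₀)⁻¹ := by
        rw [h, ← a_mul_a]
        have := d.qq_inv
        unfold qq zz at this
        unfold qq
        rw [← this, inv_inv]
      rw [h1]; exact Q.inv_mem hi₀Q
  have hzQ : d.zz ∈ Q := by rw [← d.qq_mul_qq]; exact Q.mul_mem hqQ hqQ
  have hA : ∀ i, d.a i ∈ Q ↔ z2R4 d.n i := by
    intro i
    constructor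
    · intro h
      have h4 : d.a i ^ 4 = 1 := q8_sub_pow_four Q e _ h
      have e4 : d.a i ^ 4 = d.a (2 * (2 * i)) := by
        rw [pow_succ, pow_succ, pow_succ, pow_one, a_mul_a, a_mul_a, a_mul_a]; congr 1; ring
      rw [e4, a_eq_one_iff] at h4
      exact h4
    · intro h
      rw [z2R4_iff d.n d.n_two] at h
      rcases h with rfl | rfl | rfl | rfl
      · rw [a_zero]; exact Q.one_mem
      · exact hzQ
      · exact hqQ
      · rw [← a_mul_a]; exact Q.mul_mem hqQ hzQ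
  refine ⟨m, hA, ?_⟩
  intro i
  rw [← hm, ← hA]
  have e1 : d.b i * (d.b c)⁻¹ = d.a (i - c) := by
    rw [b_inv, b_mul_b]; congr 1
    rw [mul_neg, ← mul_assoc, kk_mul_kk]; ring
  rw [← e1]
  constructor
  · intro h; exact Q.mul_mem h (Q.inv_mem hcQ)
  · intro h
    have : d.b i = (d.b i * (d.b c)⁻¹) * d.b c := by group
    rw [this]; exact Q.mul_mem h hcQ

end QDData

namespace QDData
variable {S : Type*} [Group S] (d : QDData S)

theorem conj_a' (c : S) (i : ZMod (2 ^ d.n)) :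
    ∃ i', c * d.a i * c⁻¹ = d.a i' ∧ (i' = i ∨ i' = d.kk * i) := by
  rcases d.cases c with ⟨j, rfl⟩ | ⟨j, rfl⟩
  · exact ⟨i, d.a_conj_a j i, Or.inl rfl⟩
  · exact ⟨d.kk * i, d.b_conj_a j i, Or.inr rfl⟩

theorem z2R4_half : z2R4 d.n (z2half d.n) := by
  unfold z2R4; rw [z2_two_mul_half d.n d.n_pos, mul_zero]

theorem z2R4_quarter : z2R4 d.n (z2quarter d.n) := by
  unfold z2R4; rw [z2_two_mul_quarter d.n d.n_two, z2_two_mul_half d.n d.n_pos]

theorem four_half : 2 * (2 * z2half d.n) = 0 := d.z2R4_half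

theorem four_eighth : 2 * (2 * z2eighth d.n) = z2half d.n := by
  rw [z2_two_mul_eighth d.n d.hn, z2_two_mul_quarter d.n d.n_two]

theorem z2R4_delta : z2R4 d.n ((1 - d.kk) * z2eighth d.n) := by
  rw [one_sub_kk, sub_mul, z2_two_mul_eighth d.n d.hn]
  apply z2R4_sub
  · exact d.z2R4_quarter
  · rw [mul_comm]; exact z2R4_mul d.n _ _ d.z2R4_half

end QDData
end Cfsg.Agent.Lib.Helper3
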