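import Mathlib
import Cfsg.Agent.Lib.Helper3.QD5

set_option autoImplicit false

namespace Cfsg.Agent.Lib.Helper3
namespace QDData
variable {S : Type*} [Group S] (d : QDData S)

theorem a_mul_natCast (i : ZMod (2 ^ d.n)) (m : ℕ) : d.a (i * (m : ZMod (2 ^ d.n))) = d.a i ^ m := by
  induction m with
  | zero => simp [a_zero]
  | succ k ih =>
    rw [Nat.cast_succ, mul_add, mul_one, ← a_mul_a, ih, pow_succ]

theorem a_mul_mem (K : Subgroup S) (i : ZMod (2 ^ d.n)) (h : d.a i ∈ K) (j : ZMod (2 ^ d.n)) :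
    d.a (i * j) ∈ K := by
  have hNZ : NeZero (2 ^ d.n) := ⟨by positivity⟩
  rw [← ZMod.natCast_zmod_val j, a_mul_natCast]
  exact K.pow_mem h _

/-- a subgroup containing an odd power of `x` contains all powers -/
theorem all_a_of_odd (K : Subgroup S) (j : ZMod (2 ^ d.n)) (h : d.a (2 * j + 1) ∈ K) (i : ZMod (2 ^ d.n)) :
    d.a i ∈ K := by
  obtain ⟨u, hu⟩ := z2_odd_isUnit d.n j
  have : i = (2 * j + 1) * (↑u⁻¹ * i) := by
    rw [← mul_assoc, ← hu, Units.mul_inv, one_mul]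
  rw [this]
  exact d.a_mul_mem K _ h _

/-- a subgroup containing an `a (2 * odd)` contains all `a (2 j)` -/
theorem all_even_of_two_odd (K : Subgroup S) (j : ZMod (2 ^ d.n)) (h : d.a (2 * (2 * j + 1)) ∈ K)
    (i : ZMod (2 ^ d.n)) : d.a (2 * i) ∈ K := by
  obtain ⟨u, hu⟩ := z2_odd_isUnit d.n j
  have : 2 * i = (2 * (2 * j + 1)) * (↑u⁻¹ * i) := by
    have h1 : (2 * j + 1) * (↑u⁻¹ * i) = i := by
      rw [← mul_assoc, ← hu, Units.mul_inv, one_mul]
    rw [mul_assoc, h1]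
  rw [this]
  exact d.a_mul_mem K _ h _

theorem eq_top_of (K : Subgroup S) (hA : ∀ i, d.a i ∈ K) (i : ZMod (2 ^ d.n)) (hb : d.b i ∈ K) :
    K = ⊤ := by
  have hy : d.y ∈ K := by
    have : d.y = (d.a i)⁻¹ * d.b i := by unfold b; group
    rw [this]; exact K.mul_mem (K.inv_mem (hA i)) hb
  rw [eq_top_iff]
  intro g _
  rcases d.cases g with ⟨i, rfl⟩ | ⟨i, rfl⟩
  · exact hA i
  · exact K.mul_mem (hA i) hy

theorem half_sub_two : z2half d.n - 2 = 2 * (2 * (z2eighth d.n - 1) + 1) := by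
  have := d.four_eighth
  rw [← this]; ring

open scoped commutatorElement in
theorem a_even_mem_commutator (j : ZMod (2 ^ d.n)) : d.a (2 * j) ∈ commutator S := by
  have h1 : ⁅d.y, d.x⁆ ∈ commutator S := by
    rw [commutator_def]
    exact Subgroup.commutator_mem_commutator (Subgroup.mem_top _) (Subgroup.mem_top _)
  have h2 : ⁅d.y, d.x⁆ = d.a (z2half d.n - 2) := by
    rw [commutatorElement_def, ← d.a_one, y_conj_a, a_inv, a_mul_a]; congr 1
    unfold kk; ring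
  rw [h2, half_sub_two] at h1
  exact d.all_even_of_two_odd _ _ h1 j

/-- a normal subgroup containing some `b i` contains all even powers of `x` -/
theorem normal_contains_even (N : Subgroup S) [hN : N.Normal] (i : ZMod (2 ^ d.n)) (hb : d.b i ∈ N)
    (j : ZMod (2 ^ d.n)) : d.a (2 * j) ∈ N := by
  have h1 : d.a 1 * d.b i * (d.a 1)⁻¹ ∈ N := hN.conj_mem _ hb _
  have h2 : d.a 1 * d.b i * (d.a 1)⁻¹ * (d.b i)⁻¹ ∈ N := N.mul_mem h1 (N.inv_mem hb)
  have h3 : d.a 1 * d.b i * (d.a 1)⁻¹ * (d.b i)⁻¹ = d.a (2 - z2half d.n) := by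
    rw [a_conj_b, b_inv, b_mul_b]; congr 1
    rw [mul_neg, ← mul_assoc, kk_mul_kk, one_sub_kk]; ring
  rw [h3] at h2
  have h4 : d.a (z2half d.n - 2) ∈ N := by
    have : z2half d.n - 2 = -(2 - z2half d.n) := by ring
    rw [this, ← a_inv]; exact N.inv_mem h2
  rw [half_sub_two] at h4
  exact d.all_even_of_two_odd _ _ h4 j

theorem b_add_even_mem (K : Subgroup S) (hev : ∀ j, d.a (2 * j) ∈ K) (i : ZMod (2 ^ d.n))
    (hb : d.b i ∈ K) (j : ZMod (2 ^ d.n)) : d.b (i + 2 * j) ∈ K := by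
  have : d.b (i + 2 * j) = d.a (2 * j) * d.b i := by rw [a_mul_b, add_comm]
  rw [this]; exact K.mul_mem (hev j) hb

end QDData
end Cfsg.Agent.Lib.Helper3
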