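import Mathlib
import Cfsg.Agent.Lib.Helper3.QD6

set_option autoImplicit false

namespace Cfsg.Agent.Lib.Helper3

theorem zmod2_cases (t : ZMod 2) : t = 0 ∨ t = 1 := by
  revert t; decide

/-- a subgroup of index two is maximal -/
theorem isCoatom_of_index_two {G : Type*} [Group G] (H : Subgroup G) (h : H.index = 2) : IsCoatom H := by
  constructor
  · intro htop
    rw [htop, Subgroup.index_top] at h
    omega
  · intro K hK
    have h1 := Subgroup.relIndex_mul_index hK.le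
    rw [h] at h1
    have h2 : K.index ∣ 2 := Dvd.intro_left _ h1
    have h3 : K.index = 1 ∨ K.index = 2 := by
      have := Nat.le_of_dvd (by norm_num) h2
      have hpos : K.index ≠ 0 := fun h0 => by rw [h0, mul_zero] at h1; omega
      interval_cases K.index
      · omega
      · left; rfl
      · right; rfl
    rcases h3 with h3 | h3
    · exact Subgroup.index_eq_one.mp h3
    · exfalso
      rw [h3] at h1
      have h4 : H.relIndex K = 1 := by omega
      have := Subgroup.relIndex_eq_one.mp h4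
      exact (lt_irrefl _ (lt_of_lt_of_le hK this))

namespace QDData
variable {S : Type*} [Group S] (d : QDData S)

/-- parity of an element of `ZMod (2^n)` -/
def par : ZMod (2 ^ d.n) →+* ZMod 2 :=
  ZMod.castHom (dvd_pow_self 2 (by have := d.hn; omega)) (ZMod 2)

theorem par_two : d.par 2 = 0 := by
  unfold par; rw [map_ofNat]; rfl

theorem par_even (j : ZMod (2 ^ d.n)) : d.par (2 * j) = 0 := by
  rw [map_mul, par_two, zero_mul]

theorem par_odd (j : ZMod (2 ^ d.n)) : d.par (2 * j + 1) = 1 := by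
  rw [map_add, par_even, map_one, zero_add]

theorem par_eq_zero_iff (i : ZMod (2 ^ d.n)) : d.par i = 0 ↔ ∃ j, i = 2 * j := by
  constructor
  · intro h
    obtain ⟨j, rfl | rfl⟩ := z2_parity d.n i
    · exact ⟨j, rfl⟩
    · rw [par_odd] at h; exact absurd h (by decide)
  · rintro ⟨j, rfl⟩; exact d.par_even j

theorem par_eq_one_iff (i : ZMod (2 ^ d.n)) : d.par i = 1 ↔ ∃ j, i = 2 * j + 1 := by
  constructor
  · intro h
    obtain ⟨j, rfl | rfl⟩ := z2_parity d.n i
    · rw [par_even] at h; exact absurd h (by decide)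
    · exact ⟨j, rfl⟩
  · rintro ⟨j, rfl⟩; exact d.par_odd j

theorem par_half : d.par (z2half d.n) = 0 := by
  rw [← z2_two_mul_quarter d.n d.n_two, par_even]

theorem par_kk : d.par d.kk = 1 := by
  unfold kk
  rw [map_sub, par_half, map_one]; decide

/-- the dihedral maximal subgroup -/
def subD : Subgroup S where
  carrier := {g | ∃ i, (g = d.a i ∨ g = d.b i) ∧ d.par i = 0}
  one_mem' := ⟨0, Or.inl d.a_zero.symm, map_zero _⟩
  mul_mem' := by
    rintro g h ⟨i, hi, hpi⟩ ⟨j, hj, hpj⟩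
    rcases hi with rfl | rfl <;> rcases hj with rfl | rfl
    · exact ⟨i + j, Or.inl (d.a_mul_a i j), by rw [map_add, hpi, hpj, add_zero]⟩
    · exact ⟨i + j, Or.inr (d.a_mul_b i j), by rw [map_add, hpi, hpj, add_zero]⟩
    · exact ⟨i + d.kk * j, Or.inr (d.b_mul_a i j), by rw [map_add, map_mul, hpi, hpj, mul_zero, add_zero]⟩
    · exact ⟨i + d.kk * j, Or.inl (d.b_mul_b i j), by rw [map_add, map_mul, hpi, hpj, mul_zero, add_zero]⟩
  inv_mem' := by
    rintro g ⟨i, hi, hpi⟩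
    rcases hi with rfl | rfl
    · exact ⟨-i, Or.inl (d.a_inv i), by rw [map_neg, hpi, neg_zero]⟩
    · exact ⟨-(d.kk * i), Or.inr (d.b_inv i), by rw [map_neg, map_mul, hpi, mul_zero, neg_zero]⟩

/-- the generalized quaternion maximal subgroup -/
def subQ : Subgroup S where
  carrier := {g | ∃ i, (g = d.a i ∧ d.par i = 0) ∨ (g = d.b i ∧ d.par i = 1)}
  one_mem' := ⟨0, Or.inl ⟨d.a_zero.symm, map_zero _⟩⟩
  mul_mem' := by
    rintro g h ⟨i, hi⟩ ⟨j, hj⟩
    rcases hi with ⟨rfl, hpi⟩ | ⟨rfl, hpi⟩ <;> rcases hj with ⟨rfl, hpj⟩ | ⟨rfl, hpj⟩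
    · exact ⟨i + j, Or.inl ⟨d.a_mul_a i j, by rw [map_add, hpi, hpj, add_zero]⟩⟩
    · exact ⟨i + j, Or.inr ⟨d.a_mul_b i j, by rw [map_add, hpi, hpj, zero_add]⟩⟩
    · exact ⟨i + d.kk * j, Or.inr ⟨d.b_mul_a i j, by
        rw [map_add, map_mul, hpi, hpj, mul_zero, add_zero]⟩⟩
    · exact ⟨i + d.kk * j, Or.inl ⟨d.b_mul_b i j, by
        rw [map_add, map_mul, hpi, hpj, par_kk]; decide⟩⟩
  inv_mem' := by
    rintro g ⟨i, hi⟩
    rcases hi with ⟨rfl, hpi⟩ | ⟨rfl, hpi⟩
    · exact ⟨-i, Or.inl ⟨d.a_inv i, by rw [map_neg, hpi, neg_zero]⟩⟩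
    · exact ⟨-(d.kk * i), Or.inr ⟨d.b_inv i, by rw [map_neg, map_mul, hpi, par_kk]; decide⟩⟩

theorem a_mem_subD_iff (i : ZMod (2 ^ d.n)) : d.a i ∈ d.subD ↔ d.par i = 0 := by
  constructor
  · rintro ⟨j, hj | hj, hp⟩
    · rw [a_inj] at hj; rw [hj]; exact hp
    · exact absurd hj (d.a_ne_b _ _)
  · intro h; exact ⟨i, Or.inl rfl, h⟩

theorem b_mem_subD_iff (i : ZMod (2 ^ d.n)) : d.b i ∈ d.subD ↔ d.par i = 0 := by
  constructor
  · rintro ⟨j, hj | hj, hp⟩
    · exact absurd hj.symm (d.a_ne_b _ _)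
    · rw [b_inj] at hj; rw [hj]; exact hp
  · intro h; exact ⟨i, Or.inr rfl, h⟩

theorem a_mem_subQ_iff (i : ZMod (2 ^ d.n)) : d.a i ∈ d.subQ ↔ d.par i = 0 := by
  constructor
  · rintro ⟨j, ⟨hj, hp⟩ | ⟨hj, hp⟩⟩
    · rw [a_inj] at hj; rw [hj]; exact hp
    · exact absurd hj (d.a_ne_b _ _)
  · intro h; exact ⟨i, Or.inl ⟨rfl, h⟩⟩

theorem b_mem_subQ_iff (i : ZMod (2 ^ d.n)) : d.b i ∈ d.subQ ↔ d.par i = 1 := by
  constructor
  · rintro ⟨j, ⟨hj, hp⟩ | ⟨hj, hp⟩⟩
    · exact absurd hj.symm (d.a_ne_b _ _)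
    · rw [b_inj] at hj; rw [hj]; exact hp
  · intro h; exact ⟨i, Or.inr ⟨rfl, h⟩⟩

theorem index_subD : d.subD.index = 2 := by
  rw [Subgroup.index_eq_two_iff]
  refine ⟨d.a 1, ?_⟩
  intro g
  rcases d.cases g with ⟨i, rfl⟩ | ⟨i, rfl⟩
  · rw [a_mul_a, a_mem_subD_iff, a_mem_subD_iff, map_add, map_one]
    rcases zmod2_cases (d.par i) with h | h <;> rw [h] <;> decide
  · rw [b_mul_a, b_mem_subD_iff, b_mem_subD_iff, map_add, map_mul, map_one, mul_one, par_kk]
    rcases zmod2_cases (d.par i) with h | h <;> rw [h] <;> decide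

theorem index_subQ : d.subQ.index = 2 := by
  rw [Subgroup.index_eq_two_iff]
  refine ⟨d.a 1, ?_⟩
  intro g
  rcases d.cases g with ⟨i, rfl⟩ | ⟨i, rfl⟩
  · rw [a_mul_a, a_mem_subQ_iff, a_mem_subQ_iff, map_add, map_one]
    rcases zmod2_cases (d.par i) with h | h <;> rw [h] <;> decide
  · rw [b_mul_a, b_mem_subQ_iff, b_mem_subQ_iff, map_add, map_mul, map_one, mul_one, par_kk]
    rcases zmod2_cases (d.par i) with h | h <;> rw [h] <;> decide

theorem card_subD : Nat.card d.subD = 2 ^ d.n := by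
  have h := d.subD.card_mul_index
  rw [d.index_subD, d.card, pow_succ] at h
  exact Nat.eq_of_mul_eq_mul_right (by norm_num) h

theorem card_subQ : Nat.card d.subQ = 2 ^ d.n := by
  have h := d.subQ.card_mul_index
  rw [d.index_subQ, d.card, pow_succ] at h
  exact Nat.eq_of_mul_eq_mul_right (by norm_num) h

end QDData
end Cfsg.Agent.Lib.Helper3
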