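import Mathlib
import Cfsg.Agent.Lib.Helper3.QD7
import Cfsg.Agent.Lib.Helper1.DihedralIso

set_option autoImplicit false

namespace Cfsg.Agent.Lib.Helper3
namespace QDData
variable {S : Type*} [Group S] (d : QDData S)

theorem n_eq (n : ℕ) (hn : Nat.card S = 2 ^ (n + 1)) : d.n = n := by
  have h := d.card
  rw [hn] at h
  have := Nat.pow_right_injective (le_refl 2) h
  omega

theorem a_two : d.a 2 = d.x ^ 2 := by
  have := d.a_natCast 2
  simpa using this

theorem orderOf_a_two : orderOf (d.a 2) = 2 ^ (d.n - 1) := by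
  rw [a_two, orderOf_pow_of_dvd (by norm_num) (by rw [d.hx]; exact dvd_pow_self 2 (by have := d.hn; omega)),
    d.hx]
  have : d.n = (d.n - 1) + 1 := by have := d.hn; omega
  conv_lhs => rw [this, pow_succ]
  simp

theorem a_two_pow_quarter : d.a 2 ^ (2 ^ (d.n - 2)) = d.zz := by
  rw [← a_mul_natCast]
  unfold zz
  congr 1
  exact z2_two_mul_quarter d.n d.n_two

theorem isCoatom_zpowers : IsCoatom (Subgroup.zpowers d.x) :=
  isCoatom_of_index_two _ d.index_zpowers

theorem a_one_not_mem_subQ : d.a 1 ∉ d.subQ := by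
  rw [a_mem_subQ_iff, map_one]; decide

theorem a_one_not_mem_subD : d.a 1 ∉ d.subD := by
  rw [a_mem_subD_iff, map_one]; decide

theorem b_zero_mem_subD : d.b 0 ∈ d.subD := by
  rw [b_mem_subD_iff, map_zero]

theorem b_zero_not_mem_subQ : d.b 0 ∉ d.subQ := by
  rw [b_mem_subQ_iff, map_zero]; decide

/-- classification of maximal subgroups -/
theorem coatom_cases [Finite S] (M : Subgroup S) (hM : IsCoatom M) :
    M = Subgroup.zpowers d.x ∨ M = d.subQ ∨ M = d.subD := by
  have hp : IsPGroup 2 S := IsPGroup.of_card d.card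
  haveI : Fact (Nat.Prime 2) := ⟨Nat.prime_two⟩
  haveI : Group.IsNilpotent S := hp.isNilpotent
  haveI hMn : M.Normal := Subgroup.NormalizerCondition.normal_of_coatom M Group.normalizerCondition_of_isNilpotent hM
  by_cases hMC : M ≤ Subgroup.zpowers d.x
  · left
    by_contra hne
    have hlt : M < Subgroup.zpowers d.x := lt_of_le_of_ne hMC hne
    exact d.isCoatom_zpowers.1 (hM.2 _ hlt)
  · right
    obtain ⟨g, hgM, hgC⟩ := SetLike.not_le_iff_exists.mp hMC
    rcases d.cases g with ⟨i, rfl⟩ | ⟨i₀, rfl⟩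
    · exact absurd (d.a_mem_zpowers i) hgC
    have hev := d.normal_contains_even M i₀ hgM
    have hbM : ∀ i, d.par i = d.par i₀ → d.b i ∈ M := by
      intro i hi
      have h0 : d.par (i - i₀) = 0 := by rw [map_sub, hi, sub_self]
      rw [par_eq_zero_iff] at h0
      obtain ⟨j, hj⟩ := h0
      have : i = i₀ + 2 * j := by rw [← hj]; ring
      rw [this]
      exact d.b_add_even_mem M hev i₀ hgM j
    rcases zmod2_cases (d.par i₀) with h0 | h1
    · right
      have hle : d.subD ≤ M := by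
        rintro g ⟨i, hi | hi, hp⟩
        · rw [par_eq_zero_iff] at hp
          obtain ⟨j, rfl⟩ := hp
          rw [hi]; exact hev j
        · rw [hi]; exact hbM i (by rw [hp, h0])
      by_contra hne
      have hlt : d.subD < M := lt_of_le_of_ne hle (Ne.symm hne)
      exact hM.1 ((isCoatom_of_index_two _ d.index_subD).2 _ hlt)
    · left
      have hle : d.subQ ≤ M := by
        rintro g ⟨i, ⟨hi, hp⟩ | ⟨hi, hp⟩⟩
        · rw [par_eq_zero_iff] at hp
          obtain ⟨j, rfl⟩ := hp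
          rw [hi]; exact hev j
        · rw [hi]; exact hbM i (by rw [hp, h1])
      by_contra hne
      have hlt : d.subQ < M := lt_of_le_of_ne hle (Ne.symm hne)
      exact hM.1 ((isCoatom_of_index_two _ d.index_subQ).2 _ hlt)

theorem subQ_equiv [Finite S] : Nonempty (d.subQ ≃* QuaternionGroup (2 ^ (d.n - 2))) := by
  have ha2 : d.a 2 ∈ d.subQ := by rw [a_mem_subQ_iff, par_two]
  have hb1 : d.b 1 ∈ d.subQ := by rw [b_mem_subQ_iff, map_one]
  have hpow : 2 * 2 ^ (d.n - 2) = 2 ^ (d.n - 1) := by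
    rw [← pow_succ']; congr 1; have := d.hn; omega
  apply Cfsg.Agent.Lib.Lead.quaternion_recognition (2 ^ (d.n - 2)) (⟨d.a 2, ha2⟩ : d.subQ) ⟨d.b 1, hb1⟩
  · rw [Subgroup.orderOf_mk, orderOf_a_two, hpow]
  · apply Subtype.ext
    show d.b 1 ^ 2 = d.a 2 ^ (2 ^ (d.n - 2))
    rw [a_two_pow_quarter, pow_two]
    have := d.b_odd_sq 0
    rwa [mul_zero, zero_add] at this
  · apply Subtype.ext
    show d.b 1 * d.a 2 * (d.b 1)⁻¹ = (d.a 2)⁻¹
    rw [b_conj_a, a_inv]
    have := d.kk_mul_even 1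
    rw [mul_one] at this
    rw [this]
  · intro h
    obtain ⟨k, hk⟩ := h
    have h1 := congrArg Subtype.val hk
    have h2 : (d.a 2) ^ k = d.b 1 := by
      simpa using h1
    have h3 : (d.a 2) ^ k ∈ Subgroup.zpowers d.x := by
      apply Subgroup.zpow_mem
      exact d.a_mem_zpowers 2
    rw [h2] at h3
    obtain ⟨i, hi⟩ := (d.mem_zpowers_iff _).mp h3
    exact d.a_ne_b _ _ hi.symm
  · rw [d.card_subQ]
    have : 4 * 2 ^ (d.n - 2) = 2 * (2 * 2 ^ (d.n - 2)) := by ring
    rw [this, hpow, ← pow_succ']; congr 1; have := d.hn; omega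

theorem closure_b_eq_subD [Finite S] :
    Subgroup.closure ({d.b 2, d.b 0} : Set S) = d.subD ∧
    Nonempty (↥(Subgroup.closure ({d.b 2, d.b 0} : Set S)) ≃* DihedralGroup (2 ^ (d.n - 1))) := by
  have hb2 : orderOf (d.b 2) = 2 := by
    have := d.orderOf_b_even 1
    rwa [mul_one] at this
  have hb0 : orderOf (d.b 0) = 2 := by
    have := d.orderOf_b_even 0
    rwa [mul_zero] at this
  have hprod : d.b 2 * d.b 0 = d.a 2 := by
    rw [b_mul_b, mul_zero, add_zero]
  have hord : orderOf (d.b 2 * d.b 0) = 2 ^ (d.n - 1) := by rw [hprod, orderOf_a_two]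
  obtain ⟨e⟩ := Cfsg.Agent.Lib.Helper1.DihedralIso.closure_equiv_dihedral (d.b 2) (d.b 0) hb2 hb0
    (by rw [hord]; positivity)
  rw [hord] at e
  refine ⟨?_, ⟨e⟩⟩
  apply Subgroup.eq_of_le_of_card_ge
  · rw [Subgroup.closure_le]
    rintro g (rfl | rfl)
    · rw [SetLike.mem_coe, b_mem_subD_iff, par_two]
    · exact d.b_zero_mem_subD
  · rw [Nat.card_congr e.toEquiv, DihedralGroup.nat_card, d.card_subD, ← pow_succ']
    apply le_of_eq; congr 1; have := d.hn; omega

end QDData
end Cfsg.Agent.Lib.Helper3
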