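import Mathlib
import Cfsg.Agent.Lib.Helper3.QD8

set_option autoImplicit false

namespace Cfsg.Agent.Lib.Helper3
namespace QDData
variable {S : Type*} [Group S] (d : QDData S)

theorem mem_zpowers_a_two_iff (g : S) : g ∈ Subgroup.zpowers (d.a 2) ↔ ∃ j, g = d.a (2 * j) := by
  constructor
  · rintro ⟨k, rfl⟩
    have h1 : d.a 2 ^ k ∈ Subgroup.zpowers d.x := Subgroup.zpow_mem _ (d.a_mem_zpowers 2) k
    have h2 : d.a 2 ^ k ∈ d.subD := Subgroup.zpow_mem _ ((d.a_mem_subD_iff 2).mpr d.par_two) k
    obtain ⟨i, hi⟩ := (d.mem_zpowers_iff _).mp h1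
    show ∃ j, d.a 2 ^ k = d.a (2 * j)
    rw [hi] at h2 ⊢
    rw [a_mem_subD_iff, par_eq_zero_iff] at h2
    obtain ⟨j, rfl⟩ := h2
    exact ⟨j, rfl⟩
  · rintro ⟨j, rfl⟩
    exact d.a_mul_mem _ 2 (Subgroup.mem_zpowers _) j

open scoped commutatorElement in
theorem commutator_eq : commutator S = Subgroup.zpowers (d.a 2) := by
  apply le_antisymm
  · rw [commutator_def, Subgroup.commutator_le]
    intro g _ h _
    rw [mem_zpowers_a_two_iff, commutatorElement_def]
    have hkey : ∀ t, ∃ j, (1 - d.kk) * t = 2 * j := by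
      intro t
      exact ⟨(1 - z2quarter d.n) * t, by
        rw [one_sub_kk, ← z2_two_mul_quarter d.n d.n_two]; ring⟩
    rcases d.cases g with ⟨i, rfl⟩ | ⟨i, rfl⟩ <;> rcases d.cases h with ⟨j, rfl⟩ | ⟨j, rfl⟩
    · refine ⟨0, ?_⟩
      rw [a_conj_a, mul_inv_cancel, mul_zero, a_zero]
    · obtain ⟨t, ht⟩ := hkey i
      refine ⟨t, ?_⟩
      rw [a_conj_b, b_inv, b_mul_b, ← ht]; congr 1
      rw [mul_neg, ← mul_assoc, kk_mul_kk]; ring
    · obtain ⟨t, ht⟩ := hkey (-j)
      refine ⟨t, ?_⟩
      rw [b_conj_a, a_inv, a_mul_a, ← ht]; congr 1; ring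
    · obtain ⟨t, ht⟩ := hkey (i - j)
      refine ⟨t, ?_⟩
      rw [b_conj_b, b_inv, b_mul_b, ← ht]; congr 1
      rw [mul_neg, ← mul_assoc, kk_mul_kk]; ring
  · rw [Subgroup.zpowers_le]
    have := d.a_even_mem_commutator 1
    rwa [mul_one] at this

theorem frattini_eq [Finite S] : frattini S = Subgroup.zpowers (d.a 2) := by
  apply le_antisymm
  · intro g hg
    have h1 : g ∈ Subgroup.zpowers d.x := frattini_le_coatom d.isCoatom_zpowers hg
    have h2 : g ∈ d.subD := frattini_le_coatom (isCoatom_of_index_two _ d.index_subD) hg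
    obtain ⟨i, rfl⟩ := (d.mem_zpowers_iff _).mp h1
    rw [a_mem_subD_iff, par_eq_zero_iff] at h2
    obtain ⟨j, rfl⟩ := h2
    exact (d.mem_zpowers_a_two_iff _).mpr ⟨j, rfl⟩
  · unfold frattini Order.radical
    apply le_iInf₂
    intro M hM
    intro g hg
    obtain ⟨j, rfl⟩ := (d.mem_zpowers_a_two_iff g).mp hg
    rcases d.coatom_cases M hM with rfl | rfl | rfl
    · exact d.a_mem_zpowers _
    · rw [a_mem_subQ_iff, par_even]
    · rw [a_mem_subD_iff, par_even]

theorem one_ne_zero' : (1 : ZMod (2 ^ d.n)) ≠ 0 := by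
  intro h
  have := congrArg d.par h
  rw [map_one, map_zero] at this
  exact absurd this (by decide)

theorem one_ne_half : (1 : ZMod (2 ^ d.n)) ≠ z2half d.n := by
  intro h
  have := congrArg d.par h
  rw [map_one, par_half] at this
  exact absurd this (by decide)

theorem center_eq : Subgroup.center S = Subgroup.zpowers d.zz := by
  apply le_antisymm
  · intro g hg
    rw [Subgroup.mem_center_iff] at hg
    have h0 : g * d.b (2 * 0) = d.b (2 * 0) * g := (hg _).symm
    have hz : ∀ i, d.b i ∉ Subgroup.center S := by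
      intro i hi
      rw [Subgroup.mem_center_iff] at hi
      have := hi (d.a 1)
      rw [a_comm_b_iff] at this
      rcases this with h | h
      · exact d.one_ne_zero' h
      · exact d.one_ne_half h
    rcases d.comm_b_even 0 g h0 with rfl | rfl | rfl | rfl
    · exact Subgroup.one_mem _
    · exact Subgroup.mem_zpowers _
    · exact absurd (Subgroup.mem_center_iff.mpr hg) (hz _)
    · exact absurd (Subgroup.mem_center_iff.mpr hg) (hz _)
  · rw [Subgroup.zpowers_le, Subgroup.mem_center_iff]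
    intro g
    exact (d.zz_central g).symm

theorem closure_involutions_eq [Finite S] :
    Subgroup.closure {x : S | orderOf x = 2} = Subgroup.closure ({d.b 2, d.b 0} : Set S) := by
  apply le_antisymm
  · rw [Subgroup.closure_le]
    intro g hg
    rw [Set.mem_ofPred_eq, d.orderOf_eq_two_iff] at hg
    rw [d.closure_b_eq_subD.1]
    rcases hg with rfl | ⟨j, rfl⟩
    · unfold zz
      rw [SetLike.mem_coe, a_mem_subD_iff, par_half]
    · rw [SetLike.mem_coe, b_mem_subD_iff, par_even]
  · apply Subgroup.closure_mono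
    rintro g (rfl | rfl)
    · have := d.orderOf_b_even 1
      rwa [mul_one] at this
    · have := d.orderOf_b_even 0
      rwa [mul_zero] at this

end QDData
end Cfsg.Agent.Lib.Helper3
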