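import Mathlib
import Cfsg.Agent.Lib.Helper3.QD9

set_option autoImplicit false

namespace Cfsg.Agent.Lib.Helper3

theorem index_ker_two_or_six {N A : Type*} [Group N] [Group A] [Finite A] (hA : Nat.card A ∣ 6)
    (φ : N →* A) (n₀ : N) (h1 : n₀ ∉ φ.ker) (h2 : n₀ * n₀ ∈ φ.ker) :
    φ.ker.index = 2 ∨ φ.ker.index = 6 := by
  rw [Subgroup.index_ker]
  have hd : Nat.card φ.range ∣ 6 := (Subgroup.card_subgroup_dvd_card _).trans hA
  have ho : orderOf (φ n₀) = 2 := by
    apply orderOf_eq_prime
    · rw [pow_two, ← map_mul]; exact h2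
    · exact h1
  have h2d : 2 ∣ Nat.card φ.range := by
    have := orderOf_dvd_natCard (⟨φ n₀, n₀, rfl⟩ : φ.range)
    rwa [← Subgroup.orderOf_coe, ho] at this
  have hle : Nat.card φ.range ≤ 6 := Nat.le_of_dvd (by norm_num) hd
  interval_cases (Nat.card φ.range) <;> omega

/-- restriction of automorphisms to the non-identity elements -/
def mulAutToPerm (T : Type*) [Group T] : MulAut T →* Equiv.Perm {t : T // t ≠ 1} where
  toFun φ := Equiv.subtypeEquiv φ.toEquiv (fun t => by
    show t ≠ 1 ↔ φ t ≠ 1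
    rw [Ne, Ne, map_eq_one_iff φ φ.injective])
  map_one' := by ext t; rfl
  map_mul' φ ψ := by ext t; rfl

theorem mulAutToPerm_injective (T : Type*) [Group T] : Function.Injective (mulAutToPerm T) := by
  intro φ ψ h
  ext t
  by_cases ht : t = 1
  · rw [ht, map_one, map_one]
  · have := congrArg (fun σ => (σ ⟨t, ht⟩ : T)) h
    exact this

theorem klein_card_mulAut_dvd (T : Type*) [Group T] [hT : IsKleinFour T] : Nat.card (MulAut T) ∣ 6 := by
  haveI : Finite T := Nat.finite_of_card_ne_zero (by rw [hT.card_four]; norm_num)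
  have h1 := Subgroup.card_dvd_of_injective (mulAutToPerm T) (mulAutToPerm_injective T)
  have h2 : Nat.card (Equiv.Perm {t : T // t ≠ 1}) = 6 := by
    classical
    have := Fintype.ofFinite T
    rw [Nat.card_eq_fintype_card, Fintype.card_perm, Fintype.card_subtype_compl,
      Fintype.card_subtype_eq, ← Nat.card_eq_fintype_card, hT.card_four]
    rfl
  rwa [h2] at h1

theorem isKleinFour_of_equiv {A B : Type*} [Group A] [Group B] (e : A ≃* B) (h : IsKleinFour A) :
    IsKleinFour B where
  card_four := by rw [← Nat.card_congr e.toEquiv, h.card_four]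
  exponent_two := by rw [← Monoid.exponent_eq_of_mulEquiv e, h.exponent_two]



theorem qd_klein_index {G : Type*} [Group G] [Finite G] (S : Subgroup G) (d : QDData ↥S)
    (T : Subgroup G) (hT : IsKleinFour T) (hTS : T ≤ S) :
    (Subgroup.centralizer (T : Set G)).relIndex (Subgroup.normalizer (T : Set G)) = 2 ∨
    (Subgroup.centralizer (T : Set G)).relIndex (Subgroup.normalizer (T : Set G)) = 6 := by
  set T' : Subgroup ↥S := T.subgroupOf S with hT'def
  have hT' : IsKleinFour T' := isKleinFour_of_equiv (Subgroup.subgroupOfEquivOfLe hTS).symm hT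
  obtain ⟨j, hz, hb⟩ := d.klein_struct T' hT'
  have hqN' : d.qq ∈ Subgroup.normalizer (T' : Set ↥S) :=
    d.klein_mem_normalizer T' hT' j hz hb _ (Or.inr (d.qq_conj_b_even _))
  have hgN : ((d.qq : ↥S) : G) ∈ Subgroup.normalizer (T : Set G) := by
    rw [hT'def, ← Subgroup.subgroupOf_normalizer_eq hTS, Subgroup.mem_subgroupOf] at hqN'
    exact hqN'
  have hbT : ((d.b (2 * j) : ↥S) : G) ∈ T := by
    rw [hT'def, Subgroup.mem_subgroupOf] at hb; exact hb
  have hzT : ((d.zz : ↥S) : G) ∈ T := by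
    rw [hT'def, Subgroup.mem_subgroupOf] at hz; exact hz
  have hTC : T ≤ Subgroup.centralizer (T : Set G) := by
    intro g hg t ht
    exact klein_comm T hT t g ht hg
  have hker := T.normalizerMonoidHom_ker
  have hidx : (Subgroup.centralizer (T : Set G)).relIndex (Subgroup.normalizer (T : Set G)) =
      T.normalizerMonoidHom.ker.index := by
    rw [hker]; rfl
  rw [hidx]
  haveI : IsKleinFour ↥T := hT
  haveI : Finite (MulAut ↥T) := by
    haveI : Finite ↥T := inferInstance
    exact Finite.of_injective (fun φ : MulAut ↥T => (φ : ↥T → ↥T)) (fun φ ψ h => by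
      ext t; exact congrArg Subtype.val (congrFun h t))
  apply index_ker_two_or_six (klein_card_mulAut_dvd ↥T) T.normalizerMonoidHom ⟨_, hgN⟩
  · rw [hker, Subgroup.mem_subgroupOf]
    intro hc
    have h1 : ((d.b (2 * j) : ↥S) : G) * ((d.qq : ↥S) : G) =
        ((d.qq : ↥S) : G) * ((d.b (2 * j) : ↥S) : G) := hc _ hbT
    have h2 : d.b (2 * j) * d.qq = d.qq * d.b (2 * j) := Subtype.ext h1
    have h3 : d.qq * d.b (2 * j) * d.qq⁻¹ = d.b (2 * j) := by rw [← h2]; group
    rw [d.qq_conj_b_even] at h3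
    exact d.zz_mul_b_ne _ h3
  · rw [hker, Subgroup.mem_subgroupOf]
    apply hTC
    have : ((d.qq : ↥S) : G) * ((d.qq : ↥S) : G) = ((d.zz : ↥S) : G) := by
      rw [← d.qq_mul_qq]; rfl
    show ((d.qq : ↥S) : G) * ((d.qq : ↥S) : G) ∈ T
    rw [this]; exact hzT

end Cfsg.Agent.Lib.Helper3
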