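import Mathlib
import Cfsg.Agent.Lib.Helper3.QDLocal1
import Cfsg.Agent.Lib.Helper3.ExtLayer2
import Cfsg.Agent.Lib.Lead.HallTools

set_option autoImplicit false

namespace Cfsg.Agent.Lib.Helper3

theorem q8_words : ∀ q : QuaternionGroup 2, ∃ i : Fin 4, ∃ j : Fin 2,
    q = (QuaternionGroup.a 1) ^ (i : ℕ) * (QuaternionGroup.xa 0) ^ (j : ℕ) := by decide +kernel

/-- generators of a quaternion subgroup of order eight -/
theorem q8_sub_gens' {G : Type*} [Group G] (Q : Subgroup G) (e : ↥Q ≃* QuaternionGroup 2) :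
    ∃ u v : G, u ∈ Q ∧ v ∈ Q ∧ u * u ≠ 1 ∧ v * v ≠ 1 ∧ u * v ≠ v * u ∧ (u * v) * (u * v) ≠ 1 ∧
      ∀ q ∈ Q, ∃ i j : ℕ, q = u ^ i * v ^ j := by
  obtain ⟨h1, h2, h3, h4⟩ := q8_gens
  refine ⟨(e.symm (QuaternionGroup.a 1) : ↥Q), (e.symm (QuaternionGroup.xa 0) : ↥Q),
    (e.symm _).2, (e.symm _).2, ?_, ?_, ?_, ?_, ?_⟩
  · intro h
    apply h1
    have : (e.symm (QuaternionGroup.a 1)) * (e.symm (QuaternionGroup.a 1)) = 1 := Subtype.ext h
    rw [← map_mul, ← map_one e.symm] at this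
    rw [pow_two]
    exact e.symm.injective this
  · intro h
    apply h2
    have : (e.symm (QuaternionGroup.xa 0)) * (e.symm (QuaternionGroup.xa 0)) = 1 := Subtype.ext h
    rw [← map_mul, ← map_one e.symm] at this
    rw [pow_two]
    exact e.symm.injective this
  · intro h
    apply h3
    have : (e.symm (QuaternionGroup.a 1)) * (e.symm (QuaternionGroup.xa 0)) =
        (e.symm (QuaternionGroup.xa 0)) * (e.symm (QuaternionGroup.a 1)) := Subtype.ext h
    rw [← map_mul, ← map_mul] at this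
    exact e.symm.injective this
  · intro h
    apply h4
    have : ((e.symm (QuaternionGroup.a 1)) * (e.symm (QuaternionGroup.xa 0))) *
        ((e.symm (QuaternionGroup.a 1)) * (e.symm (QuaternionGroup.xa 0))) = 1 := Subtype.ext h
    rw [← map_mul, ← map_mul, ← map_one e.symm] at this
    rw [pow_two]
    exact e.symm.injective this
  · intro q hq
    obtain ⟨i, j, hij⟩ := q8_words (e ⟨q, hq⟩)
    refine ⟨i, j, ?_⟩
    have h5 : (⟨q, hq⟩ : ↥Q) = e.symm (QuaternionGroup.a 1) ^ (i : ℕ) *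
        e.symm (QuaternionGroup.xa 0) ^ (j : ℕ) := by
      apply e.injective
      rw [map_mul, map_pow, map_pow, e.apply_symm_apply, e.apply_symm_apply]
      exact hij
    have := congrArg Subtype.val h5
    simpa using this

theorem q8_sub_conj {G : Type*} [Group G] (Q : Subgroup G) (e : ↥Q ≃* QuaternionGroup 2)
    (d y : G) (hd : d ∈ Q) (hy : y ∈ Q) : y * d * y⁻¹ = d ∨ y * d * y⁻¹ = d⁻¹ := by
  rcases q8_conj (e ⟨d, hd⟩) (e ⟨y, hy⟩) with h | h
  · left
    rw [← map_inv, ← map_mul, ← map_mul] at h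
    exact congrArg Subtype.val (e.injective h)
  · right
    rw [← map_inv, ← map_mul, ← map_mul, ← map_inv] at h
    exact congrArg Subtype.val (e.injective h)

/-- an element normalizing a cyclic group of order four fixes or inverts the generator -/
theorem conj_generator_order_four {G : Type*} [Group G] (u n : G) (h4 : u ^ 4 = 1) (h2 : u * u ≠ 1)
    (h : n * u * n⁻¹ ∈ Subgroup.zpowers u) : n * u * n⁻¹ = u ∨ n * u * n⁻¹ = u⁻¹ := by
  obtain ⟨k, hk⟩ := h
  have hk0 : u ^ k = n * u * n⁻¹ := hk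
  have hk' : u ^ (k % 4) = n * u * n⁻¹ := by
    rw [← hk0]
    have h4' : u ^ (4 : ℤ) = 1 := by exact_mod_cast h4
    conv_rhs => rw [← Int.emod_add_mul_ediv k 4, zpow_add, zpow_mul, h4', one_zpow, mul_one]
  have hu1 : u ≠ 1 := by
    rintro rfl; exact h2 (by simp)
  have hlt : 0 ≤ k % 4 ∧ k % 4 < 4 := ⟨Int.emod_nonneg _ (by norm_num), Int.emod_lt_of_pos _ (by norm_num)⟩
  have hcases : k % 4 = 0 ∨ k % 4 = 1 ∨ k % 4 = 2 ∨ k % 4 = 3 := by omega
  rcases hcases with h0 | h0 | h0 | h0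
  · exfalso
    rw [h0, zpow_zero] at hk'
    apply hu1
    have : u = n⁻¹ * (n * u * n⁻¹) * n := by group
    rw [this, ← hk']; group
  · left
    rw [← hk', h0, zpow_one]
  · exfalso
    rw [h0] at hk'
    have h5 : (n * u * n⁻¹) * (n * u * n⁻¹) = 1 := by
      rw [← hk']
      have : u ^ (2 : ℤ) * u ^ (2 : ℤ) = u ^ (4 : ℤ) := by rw [← zpow_add]; norm_num
      rw [this]; exact_mod_cast h4
    apply h2
    have : u * u = n⁻¹ * ((n * u * n⁻¹) * (n * u * n⁻¹)) * n := by group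
    rw [this, h5]; group
  · right
    rw [← hk', h0]
    have h4' : u ^ (4 : ℤ) = 1 := by exact_mod_cast h4
    rw [eq_inv_iff_mul_eq_one]
    have : u ^ (3 : ℤ) * u = u ^ (4 : ℤ) := by
      conv_lhs => rw [← zpow_one u, ← zpow_mul, ← zpow_add]
      norm_num
    rw [this, h4']



namespace QDData
variable {S : Type*} [Group S] (d : QDData S)

theorem q8_qq_mem (Q : Subgroup S) (e : ↥Q ≃* QuaternionGroup 2) : d.qq ∈ Q := by
  obtain ⟨m, hA, hB⟩ := d.q8_struct Q e
  exact (hA _).mpr d.z2R4_quarter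

include d in
theorem q8_centralizer_le (Q : Subgroup S) (e : ↥Q ≃* QuaternionGroup 2) :
    Subgroup.centralizer (Q : Set S) ≤ Q := by
  obtain ⟨m, hA, hB⟩ := d.q8_struct Q e
  have hcQ : d.b (2 * m + 1) ∈ Q := by
    rw [hB, sub_self]; unfold z2R4; ring
  have hqQ : d.qq ∈ Q := (hA _).mpr d.z2R4_quarter
  intro g hg
  rcases d.cases g with ⟨i, rfl⟩ | ⟨i, rfl⟩
  · have h1 : d.a i * d.b (2 * m + 1) = d.b (2 * m + 1) * d.a i := (hg _ hcQ).symm
    rw [a_comm_b_iff] at h1
    rw [hA, z2R4_iff d.n d.n_two]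
    rcases h1 with h | h
    · left; exact h
    · right; left; exact h
  · exfalso
    have h1 : d.a (z2quarter d.n) * d.b i = d.b i * d.a (z2quarter d.n) := hg _ hqQ
    rw [a_comm_b_iff] at h1
    rcases h1 with h | h
    · exact z2_quarter_ne_zero d.n d.n_two h
    · exact z2_half_ne_quarter d.n d.n_two h.symm

theorem q8_eighth_mem_normalizer (Q : Subgroup S) (e : ↥Q ≃* QuaternionGroup 2) :
    d.a (z2eighth d.n) ∈ Subgroup.normalizer (Q : Set S) := by
  obtain ⟨m, hA, hB⟩ := d.q8_struct Q e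
  rw [Subgroup.mem_normalizer_iff]
  intro h
  rcases d.cases h with ⟨i, rfl⟩ | ⟨i, rfl⟩
  · rw [a_conj_a]
  · rw [a_conj_b, hB, hB]
    constructor
    · intro h1
      have : i + (1 - d.kk) * z2eighth d.n - (2 * m + 1) =
          (i - (2 * m + 1)) + (1 - d.kk) * z2eighth d.n := by ring
      rw [this]
      exact z2R4_add d.n _ _ h1 d.z2R4_delta
    · intro h1
      have : i - (2 * m + 1) =
          (i + (1 - d.kk) * z2eighth d.n - (2 * m + 1)) - (1 - d.kk) * z2eighth d.n := by ring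
      rw [this]
      exact z2R4_sub d.n _ _ h1 d.z2R4_delta

theorem q8_eighth_not_mem (Q : Subgroup S) (e : ↥Q ≃* QuaternionGroup 2) :
    d.a (z2eighth d.n) ∉ Q := by
  obtain ⟨m, hA, hB⟩ := d.q8_struct Q e
  rw [hA]
  unfold z2R4
  rw [d.four_eighth]
  exact z2_half_ne_zero d.n d.n_pos

theorem eighth_mul_eighth : d.a (z2eighth d.n) * d.a (z2eighth d.n) = d.qq := by
  unfold qq
  rw [a_mul_a, ← two_mul, z2_two_mul_eighth d.n d.hn]

end QDData

section OrdFour
variable {G : Type*} [Group G] (Q : Subgroup G)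

/-- subgroups of order four of `Q` -/
def OrdFour : Type _ := {A : Subgroup G // A ≤ Q ∧ Nat.card A = 4}

instance : MulAction ↥(Subgroup.normalizer (Q : Set G)) (OrdFour Q) where
  smul n A := ⟨A.1.map (MulAut.conj (n : G)).toMonoidHom, by
    rintro _ ⟨a, ha, rfl⟩
    exact (Subgroup.mem_normalizer_iff.mp n.2 a).mp (A.2.1 ha), by
    rw [Subgroup.card_map_of_injective (MulAut.conj (n : G)).injective]; exact A.2.2⟩
  one_smul A := by
    apply Subtype.ext
    show A.1.map (MulAut.conj ((1 : ↥(Subgroup.normalizer (Q : Set G))) : G)).toMonoidHom = A.1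
    rw [Subgroup.coe_one, map_one]
    exact Subgroup.map_id _
  mul_smul m n A := by
    apply Subtype.ext
    show A.1.map (MulAut.conj ((m * n : ↥(Subgroup.normalizer (Q : Set G))) : G)).toMonoidHom =
      (A.1.map (MulAut.conj (n : G)).toMonoidHom).map (MulAut.conj (m : G)).toMonoidHom
    rw [Subgroup.coe_mul]
    exact map_conj_mul _ _ _

theorem ordFour_smul_val (n : ↥(Subgroup.normalizer (Q : Set G))) (A : OrdFour Q) :
    (n • A).1 = A.1.map (MulAut.conj (n : G)).toMonoidHom := rfl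

theorem mem_ker_ordFour_iff (n : ↥(Subgroup.normalizer (Q : Set G))) :
    n ∈ (MulAction.toPermHom ↥(Subgroup.normalizer (Q : Set G)) (OrdFour Q)).ker ↔
      ∀ A : Subgroup G, A ≤ Q → Nat.card A = 4 → A.map (MulAut.conj (n : G)).toMonoidHom = A := by
  rw [MonoidHom.mem_ker]
  constructor
  · intro h A hA h4
    have := congrArg (fun σ => (σ ⟨A, hA, h4⟩ : OrdFour Q).1) h
    exact this
  · intro h
    ext A
    apply Subtype.ext
    exact h A.1 A.2.1 A.2.2

end OrdFour



section Q8Fix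
variable {G : Type*} [Group G] (Q : Subgroup G) (e : ↥Q ≃* QuaternionGroup 2)

include e in
/-- an element normalizing every subgroup of order four of `Q` acts on `Q` as an inner
automorphism -/
theorem q8_fix_all (n : G)
    (hfix : ∀ A : Subgroup G, A ≤ Q → Nat.card A = 4 → A.map (MulAut.conj n).toMonoidHom = A) :
    ∃ q ∈ Q, q⁻¹ * n ∈ Subgroup.centralizer (Q : Set G) := by
  obtain ⟨u, v, huQ, hvQ, hu2, hv2, huv, -, hgen⟩ := q8_sub_gens' Q e
  have hu4 : u ^ 4 = 1 := q8_sub_pow_four Q e u huQ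
  have hv4 : v ^ 4 = 1 := q8_sub_pow_four Q e v hvQ
  have hord : ∀ w : G, w ^ 4 = 1 → w * w ≠ 1 → Nat.card (Subgroup.zpowers w) = 4 := by
    intro w hw4 hw2
    rw [Nat.card_zpowers]
    apply orderOf_eq_four_of_sq w (w * w) rfl hw2
    rw [← hw4, pow_succ, pow_succ, pow_succ, pow_one]; group
  have hconj : ∀ w : G, w ∈ Q → w ^ 4 = 1 → w * w ≠ 1 → n * w * n⁻¹ = w ∨ n * w * n⁻¹ = w⁻¹ := by
    intro w hwQ hw4 hw2
    apply conj_generator_order_four w n hw4 hw2
    have h1 := hfix (Subgroup.zpowers w) (by rw [Subgroup.zpowers_le]; exact hwQ) (hord w hw4 hw2)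
    rw [← h1]
    exact ⟨w, Subgroup.mem_zpowers w, rfl⟩
  have hvu : v * u * v⁻¹ = u⁻¹ := by
    rcases q8_sub_conj Q e u v huQ hvQ with h | h
    · exfalso; apply huv
      calc u * v = (v * u * v⁻¹) * v := by rw [h]
        _ = v * u := by group
    · exact h
  have huv' : u * v * u⁻¹ = v⁻¹ := by
    rcases q8_sub_conj Q e v u hvQ huQ with h | h
    · exfalso; apply huv
      calc u * v = (u * v * u⁻¹) * u := by group
        _ = v * u := by rw [h]
    · exact h
  -- it suffices to find `q` with `q⁻¹ n` commuting with `u` and `v`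
  have hsuff : ∀ q ∈ Q, (q⁻¹ * n) * u = u * (q⁻¹ * n) → (q⁻¹ * n) * v = v * (q⁻¹ * n) →
      ∃ q ∈ Q, q⁻¹ * n ∈ Subgroup.centralizer (Q : Set G) := by
    intro q hq h1 h2
    refine ⟨q, hq, ?_⟩
    intro t ht
    obtain ⟨i, j, rfl⟩ := hgen t ht
    have c1 : Commute (q⁻¹ * n) u := h1
    have c2 : Commute (q⁻¹ * n) v := h2
    exact ((c1.pow_right i).mul_right (c2.pow_right j)).eq.symm
  rcases hconj u huQ hu4 hu2 with hnu | hnu <;> rcases hconj v hvQ hv4 hv2 with hnv | hnv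
  · apply hsuff 1 Q.one_mem
    · calc (1⁻¹ * n) * u = (n * u * n⁻¹) * n := by group
        _ = u * (1⁻¹ * n) := by rw [hnu]; group
    · calc (1⁻¹ * n) * v = (n * v * n⁻¹) * n := by group
        _ = v * (1⁻¹ * n) := by rw [hnv]; group
  · apply hsuff u huQ
    · calc (u⁻¹ * n) * u = u⁻¹ * (n * u * n⁻¹) * n := by group
        _ = u * (u⁻¹ * n) := by rw [hnu]; group
    · calc (u⁻¹ * n) * v = u⁻¹ * (n * v * n⁻¹) * n := by group
        _ = u⁻¹ * (u * v * u⁻¹) * n := by rw [hnv, huv']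
        _ = v * (u⁻¹ * n) := by group
  · apply hsuff v hvQ
    · calc (v⁻¹ * n) * u = v⁻¹ * (n * u * n⁻¹) * n := by group
        _ = v⁻¹ * (v * u * v⁻¹) * n := by rw [hnu, hvu]
        _ = u * (v⁻¹ * n) := by group
    · calc (v⁻¹ * n) * v = v⁻¹ * (n * v * n⁻¹) * n := by group
        _ = v * (v⁻¹ * n) := by rw [hnv]; group
  · have h5 : v⁻¹ * u⁻¹ * v = u := by
      calc v⁻¹ * u⁻¹ * v = v⁻¹ * (v * u * v⁻¹) * v := by rw [hvu]
        _ = u := by group
    have h6 : u⁻¹ * v⁻¹ * u = v := by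
      calc u⁻¹ * v⁻¹ * u = u⁻¹ * (u * v * u⁻¹) * u := by rw [huv']
        _ = v := by group
    apply hsuff (u * v) (Q.mul_mem huQ hvQ)
    · calc ((u * v)⁻¹ * n) * u = v⁻¹ * u⁻¹ * (n * u * n⁻¹) * n := by group
        _ = v⁻¹ * u⁻¹ * u⁻¹ * n := by rw [hnu]
        _ = (v⁻¹ * u⁻¹ * v) * v⁻¹ * u⁻¹ * n := by group
        _ = u * v⁻¹ * u⁻¹ * n := by rw [h5]
        _ = u * ((u * v)⁻¹ * n) := by group
    · calc ((u * v)⁻¹ * n) * v = v⁻¹ * u⁻¹ * (n * v * n⁻¹) * n := by group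
        _ = v⁻¹ * u⁻¹ * v⁻¹ * n := by rw [hnv]
        _ = v⁻¹ * (u⁻¹ * v⁻¹ * u) * u⁻¹ * n := by group
        _ = v⁻¹ * v * u⁻¹ * n := by rw [h6]
        _ = v * ((u * v)⁻¹ * n) := by group

end Q8Fix



section Q8Fix2
variable {G : Type*} [Group G] (Q : Subgroup G) (e : ↥Q ≃* QuaternionGroup 2)

include e in
theorem q8_mem_fix (q : G) (hq : q ∈ Q) (A : Subgroup G) (hA : A ≤ Q) (h4 : Nat.card A = 4) :
    A.map (MulAut.conj q).toMonoidHom = A := by
  haveI : Finite ↥Q := Finite.of_equiv _ e.symm.toEquiv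
  have h8 := q8_sub_card Q e
  have hidx : (A.subgroupOf Q).index = 2 := by
    have h1 := (A.subgroupOf Q).card_mul_index
    rw [Cfsg.Agent.Lib.Lead.card_subgroupOf_of_le hA, h4, h8] at h1
    omega
  have hnorm : (A.subgroupOf Q).Normal := Subgroup.normal_of_index_eq_two hidx
  have hle : Q ≤ Subgroup.normalizer (A : Set G) :=
    (Subgroup.normal_subgroupOf_iff_le_normalizer hA).mp hnorm
  exact map_conj_eq_of_mem_normalizer (hle hq)

theorem centralizer_mem_fix (c : G) (hc : c ∈ Subgroup.centralizer (Q : Set G)) (A : Subgroup G)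
    (hA : A ≤ Q) : A.map (MulAut.conj c).toMonoidHom = A := by
  apply map_conj_eq_of_mem_normalizer
  apply Subgroup.centralizer_le_normalizer
  exact Subgroup.centralizer_le (by exact_mod_cast hA) hc

include e in
theorem q8_sub_three (x y w b : G) (hx : x ∈ Q) (hy : y ∈ Q) (hw : w ∈ Q) (hb : b ∈ Q)
    (hx2 : x ^ 2 ≠ 1) (hy2 : y ^ 2 ≠ 1) (hw2 : w ^ 2 ≠ 1) (hb2 : b ^ 2 ≠ 1)
    (h1 : y ≠ x) (h2 : y ≠ x⁻¹) (h3 : w ≠ x) (h4 : w ≠ x⁻¹) (h5 : w ≠ y) (h6 : w ≠ y⁻¹) :
    b = x ∨ b = x⁻¹ ∨ b = y ∨ b = y⁻¹ ∨ b = w ∨ b = w⁻¹ := by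
  have key := q8_three (e ⟨x, hx⟩) (e ⟨y, hy⟩) (e ⟨w, hw⟩) (e ⟨b, hb⟩)
  have hsq : ∀ (t : G) (ht : t ∈ Q), t ^ 2 ≠ 1 → (e ⟨t, ht⟩) ^ 2 ≠ 1 := by
    intro t ht h hc
    apply h
    rw [← map_pow, ← map_one e] at hc
    have := e.injective hc
    exact congrArg Subtype.val this
  have hne : ∀ (s t : G) (hs : s ∈ Q) (ht : t ∈ Q), s ≠ t → e ⟨s, hs⟩ ≠ e ⟨t, ht⟩ := by
    intro s t hs ht h hc
    apply h
    exact congrArg Subtype.val (e.injective hc)
  have hne' : ∀ (s t : G) (hs : s ∈ Q) (ht : t ∈ Q), s ≠ t⁻¹ → e ⟨s, hs⟩ ≠ (e ⟨t, ht⟩)⁻¹ := by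
    intro s t hs ht h hc
    apply h
    rw [← map_inv] at hc
    exact congrArg Subtype.val (e.injective hc)
  have := key ⟨hsq x hx hx2, hsq y hy hy2, hsq w hw hw2, hsq b hb hb2, hne y x hy hx h1,
    hne' y x hy hx h2, hne w x hw hx h3, hne' w x hw hx h4, hne w y hw hy h5, hne' w y hw hy h6⟩
  have conv1 : ∀ (s t : G) (hs : s ∈ Q) (ht : t ∈ Q), e ⟨s, hs⟩ = e ⟨t, ht⟩ → s = t := by
    intro s t hs ht h
    exact congrArg Subtype.val (e.injective h)
  have conv2 : ∀ (s t : G) (hs : s ∈ Q) (ht : t ∈ Q), e ⟨s, hs⟩ = (e ⟨t, ht⟩)⁻¹ → s = t⁻¹ := by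
    intro s t hs ht h
    rw [← map_inv] at h
    exact congrArg Subtype.val (e.injective h)
  rcases this with h | h | h | h | h | h
  · left; exact conv1 _ _ _ _ h
  · right; left; exact conv2 _ _ _ _ h
  · right; right; left; exact conv1 _ _ _ _ h
  · right; right; right; left; exact conv2 _ _ _ _ h
  · right; right; right; right; left; exact conv1 _ _ _ _ h
  · right; right; right; right; right; exact conv2 _ _ _ _ h

include e in
theorem card_ordFour_le [Finite G] : Nat.card (OrdFour Q) ≤ 3 := by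
  obtain ⟨u, v, huQ, hvQ, hu2, hv2, huv, huv2, -⟩ := q8_sub_gens' Q e
  have hu4 : u ^ 4 = 1 := q8_sub_pow_four Q e u huQ
  have hv4 : v ^ 4 = 1 := q8_sub_pow_four Q e v hvQ
  have huvQ : u * v ∈ Q := Q.mul_mem huQ hvQ
  have huv4 : (u * v) ^ 4 = 1 := q8_sub_pow_four Q e _ huvQ
  have hord : ∀ w : G, w ^ 4 = 1 → w * w ≠ 1 → Nat.card (Subgroup.zpowers w) = 4 := by
    intro w hw4 hw2
    rw [Nat.card_zpowers]
    apply orderOf_eq_four_of_sq w (w * w) rfl hw2
    rw [← hw4, pow_succ, pow_succ, pow_succ, pow_one]; group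
  let X : Fin 3 → OrdFour Q := fun i =>
    match i with
    | 0 => ⟨Subgroup.zpowers u, by rw [Subgroup.zpowers_le]; exact huQ, hord u hu4 hu2⟩
    | 1 => ⟨Subgroup.zpowers v, by rw [Subgroup.zpowers_le]; exact hvQ, hord v hv4 hv2⟩
    | 2 => ⟨Subgroup.zpowers (u * v), by rw [Subgroup.zpowers_le]; exact huvQ, hord _ huv4 huv2⟩
  have hsurj : Function.Surjective X := by
    rintro ⟨A, hA, h4⟩
    obtain ⟨a, haA, ha2, hza⟩ := q8_sub_exists_generator Q e A hA h4
    have h1 : v ≠ u := by rintro rfl; exact huv rfl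
    have h2 : v ≠ u⁻¹ := by rintro rfl; exact huv (by group)
    have h3 : u * v ≠ u := by
      intro h
      have : v = 1 := by
        have := mul_left_cancel (a := u) (b := v) (c := 1) (by rw [h, mul_one])
        exact this
      rw [this] at huv; exact huv (by group)
    have h4' : u * v ≠ u⁻¹ := by
      intro h
      have : v = u⁻¹ * u⁻¹ := by
        calc v = u⁻¹ * (u * v) := by group
          _ = u⁻¹ * u⁻¹ := by rw [h]
      rw [this] at huv; exact huv (by group)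
    have h5 : u * v ≠ v := by
      intro h
      have : u = 1 := by
        have := mul_right_cancel (a := u) (b := v) (c := 1) (by rw [h, one_mul])
        exact this
      rw [this] at huv; exact huv (by group)
    have h6 : u * v ≠ v⁻¹ := by
      intro h
      have : u = v⁻¹ * v⁻¹ := by
        calc u = (u * v) * v⁻¹ := by group
          _ = v⁻¹ * v⁻¹ := by rw [h]
      rw [this] at huv; exact huv (by group)
    have key := q8_sub_three Q e u v (u * v) a huQ hvQ huvQ (hA haA)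
      (by rw [pow_two]; exact hu2) (by rw [pow_two]; exact hv2) (by rw [pow_two]; exact huv2) ha2
      h1 h2 h3 h4' h5 h6
    rcases key with h | h | h | h | h | h
    · exact ⟨0, Subtype.ext (by show Subgroup.zpowers u = A; rw [← hza, h])⟩
    · exact ⟨0, Subtype.ext (by show Subgroup.zpowers u = A; rw [← hza, h, Subgroup.zpowers_inv])⟩
    · exact ⟨1, Subtype.ext (by show Subgroup.zpowers v = A; rw [← hza, h])⟩
    · exact ⟨1, Subtype.ext (by show Subgroup.zpowers v = A; rw [← hza, h, Subgroup.zpowers_inv])⟩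
    · exact ⟨2, Subtype.ext (by show Subgroup.zpowers (u * v) = A; rw [← hza, h])⟩
    · exact ⟨2, Subtype.ext (by show Subgroup.zpowers (u * v) = A; rw [← hza, h, Subgroup.zpowers_inv])⟩
  haveI : Finite (OrdFour Q) := Finite.of_surjective X hsurj
  have := Nat.card_le_card_of_surjective X hsurj
  simpa using this

end Q8Fix2



theorem qd_q8_index {G : Type*} [Group G] [Finite G] (S : Subgroup G) (d : QDData ↥S)
    (Q : Subgroup G) (hQS : Q ≤ S) (eQ : ↥Q ≃* QuaternionGroup 2) :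
    (Q ⊔ Subgroup.centralizer (Q : Set G)).relIndex (Subgroup.normalizer (Q : Set G)) = 2 ∨
    (Q ⊔ Subgroup.centralizer (Q : Set G)).relIndex (Subgroup.normalizer (Q : Set G)) = 6 := by
  classical
  set Q' : Subgroup ↥S := Q.subgroupOf S with hQ'def
  let e' : ↥Q' ≃* QuaternionGroup 2 := (Subgroup.subgroupOfEquivOfLe hQS).trans eQ
  set φ := MulAction.toPermHom ↥(Subgroup.normalizer (Q : Set G)) (OrdFour Q) with hφ
  have hker : φ.ker = (Q ⊔ Subgroup.centralizer (Q : Set G)).subgroupOf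
      (Subgroup.normalizer (Q : Set G)) := by
    ext n
    rw [hφ, mem_ker_ordFour_iff, Subgroup.mem_subgroupOf]
    constructor
    · intro hfix
      obtain ⟨q, hq, hc⟩ := q8_fix_all Q eQ n hfix
      have : (n : G) = q * (q⁻¹ * n) := by group
      rw [this]
      exact Subgroup.mul_mem _ (Subgroup.mem_sup_left hq) (Subgroup.mem_sup_right hc)
    · intro hn A hA h4
      apply map_conj_eq_of_mem_normalizer
      have hle : Q ⊔ Subgroup.centralizer (Q : Set G) ≤ Subgroup.normalizer (A : Set G) := by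
        apply sup_le
        · intro q hq
          rw [Subgroup.mem_normalizer_iff_map_conj_eq]
          exact q8_mem_fix Q eQ q hq A hA h4
        · intro c hc
          rw [Subgroup.mem_normalizer_iff_map_conj_eq]
          exact centralizer_mem_fix Q c hc A hA
      exact hle hn
  have hidx : (Q ⊔ Subgroup.centralizer (Q : Set G)).relIndex (Subgroup.normalizer (Q : Set G)) =
      φ.ker.index := by
    rw [hker]; rfl
  rw [hidx]
  haveI : Finite (OrdFour Q) := by
    unfold OrdFour; infer_instance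
  have hcard : Nat.card (Equiv.Perm (OrdFour Q)) ∣ 6 := by
    rw [Nat.card_perm]
    have h3 := card_ordFour_le Q eQ
    have : (6 : ℕ) = Nat.factorial 3 := rfl
    rw [this]
    exact Nat.factorial_dvd_factorial h3
  -- the element `a (eighth)`
  have hwN' := d.q8_eighth_mem_normalizer Q' e'
  have hwN : ((d.a (z2eighth d.n) : ↥S) : G) ∈ Subgroup.normalizer (Q : Set G) := by
    rw [hQ'def, ← Subgroup.subgroupOf_normalizer_eq hQS, Subgroup.mem_subgroupOf] at hwN'
    exact hwN'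
  apply index_ker_two_or_six hcard φ ⟨_, hwN⟩
  · intro hmem
    rw [hφ, mem_ker_ordFour_iff] at hmem
    obtain ⟨q, hq, hc⟩ := q8_fix_all Q eQ _ hmem
    have hcS : q⁻¹ * ((d.a (z2eighth d.n) : ↥S) : G) ∈ S :=
      S.mul_mem (S.inv_mem (hQS hq)) (d.a (z2eighth d.n)).2
    have hc' : (⟨_, hcS⟩ : ↥S) ∈ Subgroup.centralizer (Q' : Set ↥S) := by
      intro t ht
      apply Subtype.ext
      have htQ : (t : G) ∈ Q := by
        rw [hQ'def] at ht; exact Subgroup.mem_subgroupOf.mp ht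
      exact hc _ htQ
    have hcQ' := d.q8_centralizer_le Q' e' hc'
    have hcQ : q⁻¹ * ((d.a (z2eighth d.n) : ↥S) : G) ∈ Q := by
      rw [hQ'def] at hcQ'; exact Subgroup.mem_subgroupOf.mp hcQ'
    have hwQ : ((d.a (z2eighth d.n) : ↥S) : G) ∈ Q := by
      have : ((d.a (z2eighth d.n) : ↥S) : G) = q * (q⁻¹ * ((d.a (z2eighth d.n) : ↥S) : G)) := by
        group
      rw [this]; exact Q.mul_mem hq hcQ
    apply d.q8_eighth_not_mem Q' e'
    rw [hQ'def]; exact Subgroup.mem_subgroupOf.mpr hwQ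
  · rw [hker, Subgroup.mem_subgroupOf]
    apply Subgroup.mem_sup_left
    have hqQ' := d.q8_qq_mem Q' e'
    have hqQ : ((d.qq : ↥S) : G) ∈ Q := by
      rw [hQ'def] at hqQ'; exact Subgroup.mem_subgroupOf.mp hqQ'
    have : ((d.a (z2eighth d.n) : ↥S) : G) * ((d.a (z2eighth d.n) : ↥S) : G) = ((d.qq : ↥S) : G) := by
      rw [← d.eighth_mul_eighth]; rfl
    show ((d.a (z2eighth d.n) : ↥S) : G) * ((d.a (z2eighth d.n) : ↥S) : G) ∈ Q
    rw [this]; exact hqQ

end Cfsg.Agent.Lib.Helper3
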