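import Mathlib

set_option autoImplicit false

namespace Cfsg.Agent.Lib.Helper3.AO

open MulAction

section weight

variable {A X : Type*} [Group A] [MulAction A X] [Fintype X]

/-- **Weight lemma** (natural number form): if `N ≤ w x * |orbit x|` for all `x`, then
`N * #orbits ≤ ∑ x, w x`. -/
theorem weight (N : ℕ) (w : X → ℕ)
    (h : ∀ x, N ≤ w x * (orbit A x).ncard) :
    N * Nat.card (orbitRel.Quotient A X) ≤ ∑ x, w x := by
  classical
  have : Fintype (orbitRel.Quotient A X) := Fintype.ofFinite _
  let π : X → orbitRel.Quotient A X := Quotient.mk''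
  have hfib : ∑ x, w x = ∑ q : orbitRel.Quotient A X, ∑ x ∈ Finset.univ.filter (fun x => π x = q), w x := by
    rw [Finset.sum_fiberwise]
  rw [hfib, Nat.card_eq_fintype_card, ← Finset.card_univ, mul_comm, ← smul_eq_mul]
  apply Finset.card_nsmul_le_sum
  intro q _
  obtain ⟨x₀, rfl⟩ := Quotient.exists_rep q
  set S := Finset.univ.filter (fun x => π x = π x₀) with hS
  have hmem : ∀ x, x ∈ S ↔ x ∈ orbit A x₀ := by
    intro x
    rw [hS, Finset.mem_filter]
    simp only [Finset.mem_univ, true_and]
    show (Quotient.mk'' x : orbitRel.Quotient A X) = Quotient.mk'' x₀ ↔ _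
    rw [Quotient.eq'']
    exact orbitRel_apply
  have hSne : S.Nonempty := ⟨x₀, (hmem x₀).2 (mem_orbit_self x₀)⟩
  obtain ⟨x₁, hx₁, hmin⟩ := Finset.exists_min_image S w hSne
  have hcard : (orbit A x₁).ncard = S.card := by
    have : orbit A x₁ = (S : Set X) := by
      ext y
      rw [Finset.mem_coe, hmem, orbit_eq_iff.2 ((hmem x₁).1 hx₁)]
    rw [this, Set.ncard_coe_finset]
  calc N ≤ w x₁ * (orbit A x₁).ncard := h x₁
    _ = S.card • w x₁ := by rw [hcard, smul_eq_mul, mul_comm]
    _ ≤ ∑ x ∈ S, w x := Finset.card_nsmul_le_sum _ _ _ hmin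

end weight

section conj

variable {G : Type*} [Group G] [Finite G]

/-- The number of automorphism orbits is at most the number of conjugacy classes. -/
theorem card_orbits_le_card_conjClasses :
    Nat.card (orbitRel.Quotient (MulAut G) G) ≤ Nat.card (ConjClasses G) := by
  let f : ConjClasses G → orbitRel.Quotient (MulAut G) G :=
    Quotient.map' id (by
      intro a b hab
      obtain ⟨c, hc⟩ := isConj_iff.1 hab
      show orbitRel (MulAut G) G a b
      rw [orbitRel_apply]
      refine ⟨(MulAut.conj c)⁻¹, ?_⟩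
      show (MulAut.conj c)⁻¹ b = a
      rw [← hc, MulAut.conj_inv_apply]
      group)
  apply Nat.card_le_card_of_surjective f
  intro q
  obtain ⟨x, rfl⟩ := Quotient.exists_rep q
  exact ⟨ConjClasses.mk x, rfl⟩

end conj

end Cfsg.Agent.Lib.Helper3.AO
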