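import Mathlib
import Cfsg.Agent.Lib.Helper4.TE1
import Cfsg.Agent.Lib.Helper4.TD7
import Cfsg.Agent.Lib.Helper2.ThompsonDeg
import Cfsg.Agent.Lib.Helper8.Sub17
import Cfsg.Agent.Lib.Helper8.Deflation
import Cfsg.Agent.Lib.Helper1.CharFound4

set_option autoImplicit false

namespace Cfsg.Agent.Lib.Helper3.AO

open Cfsg
open scoped commutatorElement

universe u

section chars

variable {G : Type u} [Group G] [Finite G]

/-- Counting: `|G| ≥ |G:G'| + p² (k - |G:G'|)` in the multiplied-out form, where `p` is the least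
prime divisor of `|G|` and `k` is the class number. -/
theorem card_ge_of_minFac :
    (commutator G).index + (Nat.card G).minFac ^ 2 * Nat.card (ConjClasses G) ≤
      Nat.card G + (Nat.card G).minFac ^ 2 * (commutator G).index := by
  classical
  have : Fintype G := Fintype.ofFinite G
  have : Fintype (IrrCharacter G) := Fintype.ofFinite _
  set p := (Nat.card G).minFac with hp
  have h1 := Cfsg.Agent.Lib.Helper2.ThompsonDeg.sum_degree_mul_apply (G := G) 1
  rw [if_pos rfl] at h1
  have h2 := Cfsg.Agent.Lib.Helper8.sum_sq_degree_of_trivial_on (commutator G)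
  -- degrees
  let d : IrrCharacter G → ℕ := fun χ => Cfsg.charDegree (χ : G → ℂ)
  have hd : ∀ χ : IrrCharacter G, (χ : G → ℂ) 1 = (d χ : ℂ) := fun χ =>
    (Cfsg.Agent.Lib.Helper8.irr_apply_one_eq_charDegree χ.2).1
  have hdpos : ∀ χ : IrrCharacter G, 0 < d χ := fun χ =>
    (Cfsg.Agent.Lib.Helper8.irr_apply_one_eq_charDegree χ.2).2
  have hddvd : ∀ χ : IrrCharacter G, d χ ∣ Nat.card G := fun χ =>
    Cfsg.Agent.Lib.Helper8.charDegree_dvd_card χ.2
  have htriv : ∀ χ : IrrCharacter G,
      (∀ n ∈ commutator G, (χ : G → ℂ) n = (χ : G → ℂ) 1) ↔ d χ = 1 := by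
    intro χ
    constructor
    · intro h
      have := Cfsg.Agent.Lib.Helper4.TE.linear_of_trivial_on_commutator χ.2 h
      rw [hd] at this
      exact_mod_cast this
    · intro h n hn
      have h1 : (χ : G → ℂ) 1 = 1 := by rw [hd, h]; simp
      rw [Cfsg.Agent.Lib.Helper4.TD.linear_commutator χ.2 h1 n hn, h1]
  have hn : ∑ χ : IrrCharacter G, d χ * d χ = Nat.card G := by
    have : ((∑ χ : IrrCharacter G, d χ * d χ : ℕ) : ℂ) = (Nat.card G : ℂ) := by
      rw [← h1]
      push_cast
      exact Finset.sum_congr rfl fun χ _ => by rw [hd]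
    exact_mod_cast this
  have hL : ∑ χ : IrrCharacter G, (if d χ = 1 then 1 else 0) = (commutator G).index := by
    have : ((∑ χ : IrrCharacter G, (if d χ = 1 then 1 else 0) : ℕ) : ℂ)
        = ((commutator G).index : ℂ) := by
      rw [← h2]
      push_cast
      refine Finset.sum_congr rfl fun χ _ => ?_
      by_cases h : d χ = 1
      · rw [if_pos h, if_pos ((htriv χ).2 h), hd, h]; simp
      · rw [if_neg h, if_neg (fun h' => h ((htriv χ).1 h'))]; simp
    exact_mod_cast this
  have hk : ∑ _χ : IrrCharacter G, 1 = Nat.card (ConjClasses G) := by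
    rw [← Cfsg.Agent.Lib.Helper1.card_irr_eq_card_conjClasses, Nat.card_eq_fintype_card]
    simp
  have key : ∀ χ : IrrCharacter G,
      (if d χ = 1 then 1 else 0) + p ^ 2 * 1 ≤ d χ * d χ + p ^ 2 * (if d χ = 1 then 1 else 0) := by
    intro χ
    by_cases h : d χ = 1
    · rw [if_pos h, h]
    · rw [if_neg h]
      have : p ≤ d χ := Nat.minFac_le_of_dvd (by have := hdpos χ; omega) (hddvd χ)
      nlinarith
  calc (commutator G).index + p ^ 2 * Nat.card (ConjClasses G)
      = ∑ χ : IrrCharacter G, ((if d χ = 1 then 1 else 0) + p ^ 2 * 1) := by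
        rw [Finset.sum_add_distrib, hL, ← Finset.mul_sum, hk]
    _ ≤ ∑ χ : IrrCharacter G, (d χ * d χ + p ^ 2 * (if d χ = 1 then 1 else 0)) :=
        Finset.sum_le_sum fun χ _ => key χ
    _ = Nat.card G + p ^ 2 * (commutator G).index := by
        rw [Finset.sum_add_distrib, hn, ← Finset.mul_sum, hL]

/-- If the class number `k` satisfies `k * p > |G|` for the least prime divisor `p` of `|G|` and
`G` is not abelian, then `|G'| = p`. -/
theorem card_commutator_eq_minFac (hna : ¬ IsMulCommutative G)
    (hk : Nat.card G < Nat.card (ConjClasses G) * (Nat.card G).minFac) :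
    Nat.card (commutator G) = (Nat.card G).minFac := by
  have h := card_ge_of_minFac (G := G)
  set p := (Nat.card G).minFac with hp
  set n := Nat.card G with hn
  set k := Nat.card (ConjClasses G) with hk'
  set L := (commutator G).index with hL
  set c := Nat.card (commutator G) with hc
  have hcL : c * L = n := (commutator G).card_mul_index
  have hnpos : 0 < n := Nat.card_pos
  have hn1 : n ≠ 1 := by
    intro h1
    apply hna
    have : Subsingleton G := (Nat.card_eq_one_iff_unique.1 h1).1
    exact ⟨⟨fun a b => Subsingleton.elim _ _⟩⟩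
  have hpp : p.Prime := Nat.minFac_prime hn1
  have hLpos : 0 < L := by
    rcases Nat.eq_zero_or_pos L with h0 | h0
    · rw [h0, mul_zero] at hcL; omega
    · exact h0
  have hcpos : 0 < c := by
    rcases Nat.eq_zero_or_pos c with h0 | h0
    · rw [h0, zero_mul] at hcL; omega
    · exact h0
  have hc1 : c ≠ 1 := by
    intro h1
    apply hna
    have hbot : commutator G = ⊥ := Subgroup.card_eq_one.1 h1
    refine ⟨⟨fun a b => ?_⟩⟩
    have : ⁅a, b⁆ ∈ commutator G := Subgroup.commutator_mem_commutator (Subgroup.mem_top a) (Subgroup.mem_top b)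
    rw [hbot, Subgroup.mem_bot, commutatorElement_eq_one_iff_mul_comm] at this
    exact this
  have hcdvd : c ∣ n := ⟨L, hcL.symm⟩
  have hpc : p ≤ c := by
    have h1 : c.minFac ∣ n := (Nat.minFac_dvd c).trans hcdvd
    have h2 : p ≤ c.minFac := Nat.minFac_le_of_dvd (Nat.minFac_prime hc1).two_le h1
    exact h2.trans (Nat.minFac_le hcpos)
  -- c ≤ p
  have hcp : c ≤ p := by
    by_contra hlt
    rw [not_le] at hlt
    have h3 : (p + 1) * L ≤ c * L := Nat.mul_le_mul_right _ hlt
    rw [hcL] at h3
    have hp2 : 2 ≤ p := hpp.two_le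
    nlinarith
  omega

end chars

end Cfsg.Agent.Lib.Helper3.AO
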