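import Mathlib

set_option autoImplicit false

namespace Cfsg.Agent.Lib.Helper3.AO

open scoped commutatorElement

/-- Coordinates on a group whose commutator subgroup is central of prime order `p`:
`U` identifies `ZMod p` with the commutator subgroup and `β` is the commutator pairing. -/
structure CData (G : Type*) [Group G] (p : ℕ) where
  /-- the parametrisation of the commutator subgroup -/
  U : ZMod p → G
  /-- the commutator pairing -/
  β : G → G → ZMod p
  U_add : ∀ a b, U (a + b) = U a * U b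
  U_comm : ∀ a g, U a * g = g * U a
  U_inj : Function.Injective U
  U_mem : ∀ a, U a ∈ commutator G
  comm_eq : ∀ a b : G, a * b = b * a * U (β a b)

namespace CData

variable {G : Type*} [Group G] {p : ℕ} (D : CData G p)

theorem U_zero : D.U 0 = 1 := by
  have h := D.U_add 0 0
  rw [add_zero] at h
  exact (left_eq_mul.1 h)

theorem U_neg (a : ZMod p) : D.U (-a) = (D.U a)⁻¹ := by
  have h := D.U_add a (-a)
  rw [add_neg_cancel, D.U_zero] at h
  exact (inv_eq_of_mul_eq_one_right h.symm).symm

theorem U_sub (a b : ZMod p) : D.U (a - b) = D.U a * (D.U b)⁻¹ := by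
  rw [sub_eq_add_neg, D.U_add, D.U_neg]

theorem U_nsmul (m : ℕ) (a : ZMod p) : D.U ((m : ZMod p) * a) = D.U a ^ m := by
  induction m with
  | zero => simp [D.U_zero]
  | succ k ih =>
    rw [Nat.cast_succ, add_mul, one_mul, D.U_add, ih, pow_succ]

theorem U_pow_p (a : ZMod p) : D.U a ^ p = 1 := by
  rw [← D.U_nsmul, ZMod.natCast_self, zero_mul, D.U_zero]

theorem U_eq_one_iff (a : ZMod p) : D.U a = 1 ↔ a = 0 := by
  rw [← D.U_zero]
  exact D.U_inj.eq_iff

theorem U_mem_center (a : ZMod p) : D.U a ∈ Subgroup.center G :=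
  Subgroup.mem_center_iff.2 fun g => (D.U_comm a g).symm

theorem β_mul_left (a b c : G) : D.β (a * b) c = D.β a c + D.β b c := by
  apply D.U_inj
  have h1 := D.comm_eq (a * b) c
  have h2 : a * b * c = c * (a * b) * (D.U (D.β a c) * D.U (D.β b c)) := by
    calc a * b * c = a * (b * c) := mul_assoc _ _ _
      _ = a * (c * b * D.U (D.β b c)) := by rw [D.comm_eq b c]
      _ = (a * c) * b * D.U (D.β b c) := by simp only [mul_assoc]
      _ = (c * a * D.U (D.β a c)) * b * D.U (D.β b c) := by rw [D.comm_eq a c]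
      _ = c * a * (D.U (D.β a c) * b) * D.U (D.β b c) := by simp only [mul_assoc]
      _ = c * a * (b * D.U (D.β a c)) * D.U (D.β b c) := by rw [D.U_comm]
      _ = c * (a * b) * (D.U (D.β a c) * D.U (D.β b c)) := by simp only [mul_assoc]
  rw [h1] at h2
  rw [D.U_add]
  exact mul_left_cancel h2

theorem β_mul_right (a b c : G) : D.β a (b * c) = D.β a b + D.β a c := by
  apply D.U_inj
  have h1 := D.comm_eq a (b * c)
  have h2 : a * (b * c) = b * c * a * (D.U (D.β a b) * D.U (D.β a c)) := by
    calc a * (b * c) = (a * b) * c := (mul_assoc _ _ _).symm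
      _ = (b * a * D.U (D.β a b)) * c := by rw [D.comm_eq a b]
      _ = b * a * (D.U (D.β a b) * c) := by simp only [mul_assoc]
      _ = b * a * (c * D.U (D.β a b)) := by rw [D.U_comm]
      _ = b * (a * c) * D.U (D.β a b) := by simp only [mul_assoc]
      _ = b * (c * a * D.U (D.β a c)) * D.U (D.β a b) := by rw [D.comm_eq a c]
      _ = b * c * a * (D.U (D.β a c) * D.U (D.β a b)) := by simp only [mul_assoc]
      _ = b * c * a * (D.U (D.β a b) * D.U (D.β a c)) := by rw [D.U_comm]
  rw [h1] at h2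
  rw [D.U_add]
  exact mul_left_cancel h2

theorem β_eq_zero_iff (a b : G) : D.β a b = 0 ↔ a * b = b * a := by
  constructor
  · intro h
    have := D.comm_eq a b
    rwa [h, D.U_zero, mul_one] at this
  · intro h
    have h1 := D.comm_eq a b
    rw [h] at h1
    have : D.U (D.β a b) = 1 := (left_eq_mul.1 h1)
    exact (D.U_eq_one_iff _).1 this

theorem β_self (a : G) : D.β a a = 0 := (D.β_eq_zero_iff a a).2 rfl

theorem β_one_left (b : G) : D.β 1 b = 0 := (D.β_eq_zero_iff 1 b).2 (by simp)

theorem β_one_right (a : G) : D.β a 1 = 0 := (D.β_eq_zero_iff a 1).2 (by simp)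

theorem β_swap (a b : G) : D.β a b = - D.β b a := by
  have h : D.β (a * b) (a * b) = 0 := D.β_self _
  rw [D.β_mul_left, D.β_mul_right, D.β_mul_right, D.β_self, D.β_self, zero_add, add_zero] at h
  exact eq_neg_of_add_eq_zero_left h

theorem β_inv_left (a b : G) : D.β a⁻¹ b = - D.β a b := by
  have h := D.β_mul_left a⁻¹ a b
  rw [inv_mul_cancel, D.β_one_left] at h
  exact eq_neg_of_add_eq_zero_left h.symm

theorem β_inv_right (a b : G) : D.β a b⁻¹ = - D.β a b := by
  have h := D.β_mul_right a b⁻¹ b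
  rw [inv_mul_cancel, D.β_one_right] at h
  exact eq_neg_of_add_eq_zero_left h.symm

theorem β_pow_left (a b : G) (m : ℕ) : D.β (a ^ m) b = (m : ZMod p) * D.β a b := by
  induction m with
  | zero => simp [D.β_one_left]
  | succ k ih => rw [pow_succ, D.β_mul_left, ih, Nat.cast_succ, add_mul, one_mul]

theorem β_pow_right (a b : G) (m : ℕ) : D.β a (b ^ m) = (m : ZMod p) * D.β a b := by
  induction m with
  | zero => simp [D.β_one_right]
  | succ k ih => rw [pow_succ, D.β_mul_right, ih, Nat.cast_succ, add_mul, one_mul]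

theorem β_central_left {z : G} (hz : z ∈ Subgroup.center G) (g : G) : D.β z g = 0 :=
  (D.β_eq_zero_iff z g).2 (Subgroup.mem_center_iff.1 hz g).symm

theorem β_central_right {z : G} (hz : z ∈ Subgroup.center G) (g : G) : D.β g z = 0 :=
  (D.β_eq_zero_iff g z).2 (Subgroup.mem_center_iff.1 hz g)

theorem β_U_left (a : ZMod p) (g : G) : D.β (D.U a) g = 0 := D.β_central_left (D.U_mem_center a) g

theorem β_U_right (a : ZMod p) (g : G) : D.β g (D.U a) = 0 := D.β_central_right (D.U_mem_center a) g

theorem mem_center_iff (g : G) : g ∈ Subgroup.center G ↔ ∀ y, D.β y g = 0 := by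
  constructor
  · intro h y
    exact D.β_central_right h y
  · intro h
    exact Subgroup.mem_center_iff.2 fun y => (D.β_eq_zero_iff y g).1 (h y)

theorem exists_β_ne_zero {g : G} (hg : g ∉ Subgroup.center G) : ∃ y, D.β y g ≠ 0 := by
  by_contra h
  exact hg ((D.mem_center_iff g).2 fun y => not_not.1 fun hy => h ⟨y, hy⟩)

/-- Conjugation in terms of the pairing. -/
theorem conj_eq (y x : G) : y * x * y⁻¹ = x * D.U (D.β y x) := by
  rw [D.comm_eq y x]
  calc x * y * D.U (D.β y x) * y⁻¹ = x * (y * (D.U (D.β y x) * y⁻¹)) := by simp only [mul_assoc]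
    _ = x * (y * (y⁻¹ * D.U (D.β y x))) := by rw [D.U_comm]
    _ = x * D.U (D.β y x) := by simp

theorem commutator_eq (a b : G) : ⁅a, b⁆ = D.U (D.β a b) := by
  rw [commutatorElement_def, D.comm_eq a b]
  calc b * a * D.U (D.β a b) * a⁻¹ * b⁻¹ = b * a * (D.U (D.β a b) * (a⁻¹ * b⁻¹)) := by
        simp only [mul_assoc]
    _ = b * a * ((a⁻¹ * b⁻¹) * D.U (D.β a b)) := by rw [D.U_comm]
    _ = D.U (D.β a b) := by simp [mul_assoc]

theorem mem_commutator_iff (c : G) : c ∈ commutator G ↔ ∃ a, D.U a = c := by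
  constructor
  · intro hc
    rw [commutator_eq_closure] at hc
    induction hc using Subgroup.closure_induction with
    | mem x hx =>
      obtain ⟨a, b, rfl⟩ := hx
      exact ⟨_, (D.commutator_eq a b).symm⟩
    | one => exact ⟨0, D.U_zero⟩
    | mul x y _ _ hx hy =>
      obtain ⟨a, rfl⟩ := hx
      obtain ⟨b, rfl⟩ := hy
      exact ⟨a + b, D.U_add a b⟩
    | inv x _ hx =>
      obtain ⟨a, rfl⟩ := hx
      exact ⟨-a, D.U_neg a⟩
  · rintro ⟨a, rfl⟩
    exact D.U_mem a

section prime

variable [Fact p.Prime]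

/-- The pairing against a noncentral element is onto. -/
theorem exists_β_eq {x y : G} (h : D.β y x ≠ 0) (c : ZMod p) : ∃ y', D.β y' x = c := by
  refine ⟨y ^ (c / D.β y x).val, ?_⟩
  rw [D.β_pow_left, ZMod.natCast_zmod_val, div_mul_cancel₀ _ h]

theorem exists_β_eq_of_not_mem_center {x : G} (hx : x ∉ Subgroup.center G) (c : ZMod p) :
    ∃ y', D.β y' x = c := by
  obtain ⟨y, hy⟩ := D.exists_β_ne_zero hx
  exact D.exists_β_eq hy c

include D in
/-- A power `t ^ m`, `0 < m < p`, of a noncentral element is not central. -/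
theorem pow_not_mem_center {t : G} (ht : t ∉ Subgroup.center G) {m : ℕ} (hm0 : 0 < m) (hmp : m < p) :
    t ^ m ∉ Subgroup.center G := by
  intro h
  obtain ⟨y, hy⟩ := D.exists_β_ne_zero ht
  have h1 := D.β_central_right h y
  rw [D.β_pow_right] at h1
  rcases mul_eq_zero.1 h1 with h2 | h2
  · rw [ZMod.natCast_eq_zero_iff] at h2
    exact absurd (Nat.le_of_dvd hm0 h2) (not_le.2 hmp)
  · exact hy h2

end prime

end CData

end Cfsg.Agent.Lib.Helper3.AO
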