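import Mathlib
import Cfsg.Agent.Lib.Helper3.AO3

set_option autoImplicit false

namespace Cfsg.Agent.Lib.Helper3.AO

open scoped commutatorElement

section struct

variable {G : Type*} [Group G] [Finite G]

/-- If `|G'|` is the least prime divisor of `|G|` then `G'` is central. -/
theorem commutator_le_center (hc : Nat.card (commutator G) = (Nat.card G).minFac) :
    commutator G ≤ Subgroup.center G := by
  classical
  intro c hcm
  by_cases hc1 : c = 1
  · rw [hc1]; exact one_mem _
  set p := (Nat.card G).minFac with hp
  have hsub : MulAction.orbit (ConjAct G) c ⊆ ((commutator G : Set G) \ {1}) := by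
    rintro _ ⟨g, rfl⟩
    refine ⟨?_, ?_⟩
    · show g • c ∈ commutator G
      rw [ConjAct.smul_def]
      exact (inferInstance : (commutator G).Normal).conj_mem c hcm _
    · intro h
      rw [Set.mem_singleton_iff] at h
      apply hc1
      have h' : g • c = 1 := h
      have : g • c = g • (1 : G) := by rw [h', smul_one]
      exact smul_left_cancel g this
  have hle : (MulAction.orbit (ConjAct G) c).ncard < p := by
    have h1 : (MulAction.orbit (ConjAct G) c).ncard ≤ ((commutator G : Set G) \ {1}).ncard :=
      Set.ncard_le_ncard hsub (Set.toFinite _)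
    have h2 : ((commutator G : Set G) \ {1}).ncard = (commutator G : Set G).ncard - 1 := by
      rw [Set.ncard_sdiff_singleton_of_mem (one_mem _)]
    have h3 : (commutator G : Set G).ncard = p := by
      rw [← hc]
      rfl
    have hppos : 0 < p := Nat.minFac_pos _
    omega
  have : Finite (ConjAct G) := inferInstanceAs (Finite G)
  have hidx := MulAction.index_stabilizer (ConjAct G) c
  have hdvd : (MulAction.stabilizer (ConjAct G) c).index ∣ Nat.card G := by
    have := Subgroup.index_dvd_card (MulAction.stabilizer (ConjAct G) c)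
    rwa [show Nat.card (ConjAct G) = Nat.card G from rfl] at this
  have hone : (MulAction.stabilizer (ConjAct G) c).index = 1 := by
    by_contra hne
    have hpos : 0 < (MulAction.stabilizer (ConjAct G) c).index :=
      Nat.pos_of_ne_zero Subgroup.index_ne_zero_of_finite
    have h2 : 2 ≤ (MulAction.stabilizer (ConjAct G) c).index := by omega
    have := Nat.minFac_le_of_dvd h2 hdvd
    omega
  rw [Subgroup.index_eq_one] at hone
  rw [Subgroup.mem_center_iff]
  intro g
  have hg : ConjAct.toConjAct g ∈ MulAction.stabilizer (ConjAct G) c := by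
    rw [hone]; exact Subgroup.mem_top _
  rw [MulAction.mem_stabilizer_iff, ConjAct.smul_def, ConjAct.ofConjAct_toConjAct] at hg
  calc g * c = g * c * g⁻¹ * g := by group
    _ = c * g := by rw [hg]

/-- For a nonabelian group, `p² |Z(G)| ≤ |G|` where `p` is the least prime divisor of `|G|`. -/
theorem sq_mul_card_center_le (hna : ¬ IsMulCommutative G) :
    (Nat.card G).minFac ^ 2 * Nat.card (Subgroup.center G) ≤ Nat.card G := by
  set p := (Nat.card G).minFac with hp
  set m := (Subgroup.center G).index with hm
  have hmul : Nat.card (Subgroup.center G) * m = Nat.card G := (Subgroup.center G).card_mul_index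
  have hmdvd : m ∣ Nat.card G := ⟨_, by rw [← hmul, mul_comm]⟩
  have hmpos : 0 < m := Nat.pos_of_ne_zero Subgroup.index_ne_zero_of_finite
  have hnc : ¬ IsCyclic (G ⧸ Subgroup.center G) := by
    intro h
    exact hna (isMulCommutative_of_isCyclic_quotient_center_self G)
  have hcardq : Nat.card (G ⧸ Subgroup.center G) = m := rfl
  have hm1 : m ≠ 1 := by
    intro h1
    apply hnc
    have : Subsingleton (G ⧸ Subgroup.center G) := by
      rw [← Finite.card_le_one_iff_subsingleton, hcardq, h1]
    exact isCyclic_of_subsingleton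
  -- m is not prime
  have hmnp : ¬ m.Prime := by
    intro hpr
    have : Fact m.Prime := ⟨hpr⟩
    exact hnc (isCyclic_of_prime_card hcardq)
  -- so m = q * m' with q = minFac m ≥ p and m' ≥ p
  have hq : m.minFac.Prime := Nat.minFac_prime hm1
  obtain ⟨m', hm'⟩ := Nat.minFac_dvd m
  have hm'1 : m' ≠ 1 := by
    intro h
    rw [h, mul_one] at hm'
    rw [hm'] at hmnp
    exact hmnp hq
  have hm'pos : 0 < m' := by
    rcases Nat.eq_zero_or_pos m' with h0 | h0
    · rw [h0, mul_zero] at hm'; omega
    · exact h0
  have h1 : p ≤ m.minFac := Nat.minFac_le_of_dvd hq.two_le ((Nat.minFac_dvd m).trans hmdvd)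
  have h2 : p ≤ m' := Nat.minFac_le_of_dvd (by omega) ((Dvd.intro_left _ hm'.symm).trans hmdvd)
  have h3 : p ^ 2 ≤ m := by
    rw [hm', pow_two]
    exact Nat.mul_le_mul h1 h2
  calc p ^ 2 * Nat.card (Subgroup.center G) ≤ m * Nat.card (Subgroup.center G) :=
        Nat.mul_le_mul_right _ h3
    _ = Nat.card G := by rw [mul_comm, hmul]

/-- A proper subgroup has index at least the least prime divisor of `|G|`. -/
theorem minFac_mul_card_le_of_ne_top (H : Subgroup G) (hH : H ≠ ⊤) :
    (Nat.card G).minFac * Nat.card H ≤ Nat.card G := by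
  have hmul : Nat.card H * H.index = Nat.card G := H.card_mul_index
  have hidx1 : H.index ≠ 1 := fun h => hH (Subgroup.index_eq_one.1 h)
  have hpos : 0 < H.index := Nat.pos_of_ne_zero Subgroup.index_ne_zero_of_finite
  have h1 : (Nat.card G).minFac ≤ H.index :=
    Nat.minFac_le_of_dvd (by omega) (H.index_dvd_card)
  calc (Nat.card G).minFac * Nat.card H ≤ H.index * Nat.card H := Nat.mul_le_mul_right _ h1
    _ = Nat.card G := by rw [mul_comm, hmul]

omit [Finite G] in
/-- Existence of coordinates. -/
theorem exists_cdata {p : ℕ} [Fact p.Prime] (hc : Nat.card (commutator G) = p)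
    (hz : commutator G ≤ Subgroup.center G) : Nonempty (CData G p) := by
  have hZ : Nat.card (Multiplicative (ZMod p)) = p := by
    rw [Nat.card_congr Multiplicative.toAdd, Nat.card_zmod]
  let κ : commutator G ≃* Multiplicative (ZMod p) := mulEquivOfPrimeCardEq hc hZ
  have hcomm : ∀ a b : G, ⁅a, b⁆ ∈ commutator G := fun a b =>
    Subgroup.commutator_mem_commutator (Subgroup.mem_top a) (Subgroup.mem_top b)
  refine ⟨{
    U := fun a => (κ.symm (Multiplicative.ofAdd a) : G)
    β := fun a b => Multiplicative.toAdd (κ ⟨⁅a, b⁆, hcomm a b⟩)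
    U_add := ?_
    U_comm := ?_
    U_inj := ?_
    U_mem := ?_
    comm_eq := ?_ }⟩
  · intro a b
    rw [ofAdd_add, map_mul]
    rfl
  · intro a g
    exact (Subgroup.mem_center_iff.1 (hz (κ.symm (Multiplicative.ofAdd a)).2) g).symm
  · intro a b h
    have h1 : κ.symm (Multiplicative.ofAdd a) = κ.symm (Multiplicative.ofAdd b) := Subtype.ext h
    exact Multiplicative.ofAdd.injective (κ.symm.injective h1)
  · intro a
    exact (κ.symm (Multiplicative.ofAdd a)).2
  · intro a b
    show a * b = b * a * ((κ.symm (Multiplicative.ofAdd (Multiplicative.toAdd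
      (κ ⟨⁅a, b⁆, hcomm a b⟩))) : commutator G) : G)
    rw [ofAdd_toAdd, MulEquiv.symm_apply_apply]
    show a * b = b * a * ⁅a, b⁆
    have hcen := Subgroup.mem_center_iff.1 (hz (hcomm a b))
    rw [mul_assoc, hcen a, ← mul_assoc, hcen b, commutatorElement_def]
    group

end struct

end Cfsg.Agent.Lib.Helper3.AO
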