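import Mathlib
import Cfsg.Agent.Lib.Helper3.AO3

set_option autoImplicit false

namespace Cfsg.Agent.Lib.Helper3.AO

open scoped commutatorElement
open MulAction

section orbit

variable {G : Type*} [Group G] {p : ℕ}

/-- Automorphisms preserve the centre. -/
theorem aut_mem_center_iff (σ : MulAut G) (x : G) :
    σ x ∈ Subgroup.center G ↔ x ∈ Subgroup.center G := by
  constructor
  · intro h
    rw [Subgroup.mem_center_iff] at h ⊢
    intro g
    apply σ.injective
    rw [map_mul, map_mul]
    exact h (σ g)
  · intro h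
    rw [Subgroup.mem_center_iff] at h ⊢
    intro g
    obtain ⟨g', rfl⟩ := σ.surjective g
    rw [← map_mul, ← map_mul, h g']

/-- Powers with exponents taken through `ZMod p` are additive on elements of order dividing `p`. -/
theorem pow_val_add [NeZero p] {t : G} (ht : t ^ p = 1) (a b : ZMod p) :
    t ^ (a + b).val = t ^ a.val * t ^ b.val := by
  rw [ZMod.val_add, ← pow_add, ← pow_eq_pow_mod _ ht]

/-- An injective endomorphism of a finite group, as an automorphism. -/
noncomputable def autOfInj [Finite G] (φ : G →* G) (h : ∀ g, φ g = 1 → g = 1) : MulAut G :=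
  MulEquiv.ofBijective φ (Finite.injective_iff_bijective.1 ((injective_iff_map_eq_one φ).2 h))

theorem autOfInj_apply [Finite G] (φ : G →* G) (h : ∀ g, φ g = 1 → g = 1) (g : G) :
    autOfInj φ h g = φ g := rfl

variable [Fact p.Prime] (D : CData G p)

/-- The orbit of a noncentral element is closed under multiplication by the commutator
subgroup. -/
theorem mul_U_mem_orbit {x x' : G} (hx : x ∉ Subgroup.center G)
    (hx' : x' ∈ orbit (MulAut G) x) (b : ZMod p) : x' * D.U b ∈ orbit (MulAut G) x := by
  obtain ⟨σ, rfl⟩ := hx'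
  have hσx : σ x ∉ Subgroup.center G := fun h => hx ((aut_mem_center_iff σ x).1 h)
  obtain ⟨y, hy⟩ := D.exists_β_eq_of_not_mem_center hσx b
  refine ⟨MulAut.conj y * σ, ?_⟩
  show (MulAut.conj y * σ) x = σ x * D.U b
  rw [MulAut.mul_apply, MulAut.conj_apply, D.conj_eq, hy]

/-- Lower bound `p²` for an orbit containing the elements `x t^m c`. -/
theorem sq_le_ncard_orbit [Finite G] {x t : G} (hx : x ∉ Subgroup.center G)
    (ht : ∀ m, 0 < m → m < p → t ^ m ∉ commutator G)
    (h : ∀ m, m < p → ∃ b, x * t ^ m * D.U b ∈ orbit (MulAut G) x) :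
    p ^ 2 ≤ (orbit (MulAut G) x).ncard := by
  classical
  have hp : p.Prime := Fact.out
  let F : Fin p × ZMod p → G := fun q => x * t ^ (q.1 : ℕ) * D.U q.2
  have hmem : Set.range F ⊆ orbit (MulAut G) x := by
    rintro _ ⟨⟨m, b⟩, rfl⟩
    obtain ⟨b₀, hb₀⟩ := h m m.2
    have := mul_U_mem_orbit D hx hb₀ (b - b₀)
    have e : x * t ^ (m : ℕ) * D.U b₀ * D.U (b - b₀) = x * t ^ (m : ℕ) * D.U b := by
      rw [mul_assoc, ← D.U_add, add_sub_cancel]
    rw [e] at this
    exact this
  have key : ∀ (m m' : ℕ) (b b' : ZMod p), m ≤ m' → m' < p →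
      x * t ^ m * D.U b = x * t ^ m' * D.U b' → m = m' ∧ b = b' := by
    intro m m' b b' hle hlt heq
    obtain ⟨k, rfl⟩ := Nat.exists_eq_add_of_le hle
    rw [pow_add, mul_assoc, mul_assoc, mul_assoc] at heq
    have h1 := mul_left_cancel (mul_left_cancel heq)
    -- U b = t^k * U b'
    have h2 : t ^ k = D.U (b - b') := by
      rw [D.U_sub, h1, mul_inv_cancel_right]
    have hk : k = 0 := by
      by_contra hk0
      exact ht k (Nat.pos_of_ne_zero hk0) (by omega) (h2 ▸ D.U_mem _)
    subst hk
    refine ⟨rfl, ?_⟩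
    rw [pow_zero, one_mul] at h1
    exact D.U_inj h1
  have hinj : Function.Injective F := by
    rintro ⟨m, b⟩ ⟨m', b'⟩ heq
    rcases le_total (m : ℕ) (m' : ℕ) with hle | hle
    · obtain ⟨h1, h2⟩ := key m m' b b' hle m'.2 heq
      exact Prod.ext (Fin.ext h1) h2
    · obtain ⟨h1, h2⟩ := key m' m b' b hle m.2 heq.symm
      exact Prod.ext (Fin.ext h1.symm) h2.symm
  calc p ^ 2 = Nat.card (Fin p × ZMod p) := by
        rw [Nat.card_prod, Nat.card_fin, Nat.card_zmod, pow_two]
    _ = (Set.range F).ncard := by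
        rw [← Set.image_univ, Set.ncard_image_of_injective _ hinj, Set.ncard_univ]
    _ ≤ (orbit (MulAut G) x).ncard := Set.ncard_le_ncard hmem (Set.toFinite _)

include D in
/-- **Case A**: a central element `w` of order `p` outside `G'` makes all noncentral orbits
large. -/
theorem caseA [Finite G] {w : G} (hwZ : w ∈ Subgroup.center G) (hwp : w ^ p = 1)
    (hwc : w ∉ commutator G) {x : G} (hx : x ∉ Subgroup.center G) :
    p ^ 2 ≤ (orbit (MulAut G) x).ncard := by
  have hp : p.Prime := Fact.out
  apply sq_le_ncard_orbit D hx (t := w)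
  · intro m hm0 hmp hmem
    apply hwc
    have hmne : (m : ZMod p) ≠ 0 := by
      rw [Ne, ZMod.natCast_eq_zero_iff]
      intro hdvd
      exact absurd (Nat.le_of_dvd hm0 hdvd) (not_le.2 hmp)
    set i := ((m : ZMod p)⁻¹).val with hi
    have h1 : ((m * i : ℕ) : ZMod p) = 1 := by
      rw [Nat.cast_mul, hi, ZMod.natCast_zmod_val, mul_inv_cancel₀ hmne]
    have h2 : (m * i) % p = 1 := by
      have := congrArg ZMod.val h1
      rw [ZMod.val_natCast, ZMod.val_one] at this
      exact this
    have h3 : w = (w ^ m) ^ i := by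
      rw [← pow_mul, pow_eq_pow_mod _ hwp, h2, pow_one]
    rw [h3]
    exact Subgroup.pow_mem _ hmem _
  · intro m hmp
    obtain ⟨y, hy⟩ := D.exists_β_ne_zero hx
    have hy' : D.β x y ≠ 0 := by
      rw [D.β_swap]
      exact neg_ne_zero.2 hy
    set i : ZMod p := (m : ZMod p) / D.β x y with hi
    have hwcomm : ∀ (k : ℕ) (g : G), w ^ k * g = g * w ^ k := by
      intro k g
      exact (Subgroup.mem_center_iff.1 (Subgroup.pow_mem _ hwZ k) g).symm
    let φ : G →* G :=
      { toFun := fun g => g * w ^ (i * D.β g y).val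
        map_one' := by
          simp [D.β_one_left]
        map_mul' := by
          intro g h
          show g * h * w ^ (i * D.β (g * h) y).val
            = g * w ^ (i * D.β g y).val * (h * w ^ (i * D.β h y).val)
          rw [D.β_mul_left, mul_add, pow_val_add hwp]
          calc g * h * (w ^ (i * D.β g y).val * w ^ (i * D.β h y).val)
              = g * (h * w ^ (i * D.β g y).val) * w ^ (i * D.β h y).val := by
                simp only [mul_assoc]
            _ = g * (w ^ (i * D.β g y).val * h) * w ^ (i * D.β h y).val := by rw [hwcomm]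
            _ = g * w ^ (i * D.β g y).val * (h * w ^ (i * D.β h y).val) := by
                simp only [mul_assoc] }
    have hφ : ∀ g, φ g = g * w ^ (i * D.β g y).val := fun g => rfl
    have hinj : ∀ g, φ g = 1 → g = 1 := by
      intro g hg
      rw [hφ] at hg
      have hgz : g ∈ Subgroup.center G := by
        have : g = (w ^ (i * D.β g y).val)⁻¹ := eq_inv_of_mul_eq_one_left hg
        rw [this]
        exact Subgroup.inv_mem _ (Subgroup.pow_mem _ hwZ _)
      rw [D.β_central_left hgz, mul_zero, ZMod.val_zero, pow_zero, mul_one] at hg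
      exact hg
    refine ⟨0, autOfInj φ hinj, ?_⟩
    show autOfInj φ hinj x = x * w ^ m * D.U 0
    rw [autOfInj_apply, hφ, D.U_zero, mul_one, hi, div_mul_cancel₀ _ hy',
      ZMod.val_natCast_of_lt hmp]

end orbit

end Cfsg.Agent.Lib.Helper3.AO
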