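import Mathlib
import Cfsg.Agent.Lib.Helper3.AO5

set_option autoImplicit false

namespace Cfsg.Agent.Lib.Helper3.AO

open scoped commutatorElement
open MulAction

section twist

variable {G : Type*} [Group G] {p : ℕ} (D : CData G p)

/-- The twisted map `g ↦ g θ(f g)` is multiplicative. -/
theorem twist_mul (θ : ZMod p → G) (f : G → ZMod p) (j : ZMod p)
    (hf : ∀ g h, f (g * h) = f g + f h)
    (h1 : ∀ a g, θ a * g = g * θ a * D.U (-(j * a * f g)))
    (h2 : ∀ a b, θ a * θ b = θ (a + b) * D.U (j * a * b)) (g h : G) :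
    (g * h) * θ (f (g * h)) = (g * θ (f g)) * (h * θ (f h)) := by
  symm
  calc (g * θ (f g)) * (h * θ (f h)) = g * (θ (f g) * h) * θ (f h) := by simp only [mul_assoc]
    _ = g * (h * θ (f g) * D.U (-(j * f g * f h))) * θ (f h) := by rw [h1]
    _ = g * h * θ (f g) * (D.U (-(j * f g * f h)) * θ (f h)) := by simp only [mul_assoc]
    _ = g * h * θ (f g) * (θ (f h) * D.U (-(j * f g * f h))) := by rw [D.U_comm]
    _ = g * h * (θ (f g) * θ (f h)) * D.U (-(j * f g * f h)) := by simp only [mul_assoc]
    _ = g * h * (θ (f g + f h) * D.U (j * f g * f h)) * D.U (-(j * f g * f h)) := by rw [h2]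
    _ = g * h * θ (f g + f h) * (D.U (j * f g * f h) * D.U (-(j * f g * f h))) := by
        simp only [mul_assoc]
    _ = g * h * θ (f (g * h)) := by
        rw [← D.U_add, add_neg_cancel, D.U_zero, mul_one, hf]

/-- The twisted map as an automorphism. -/
theorem exists_twist_aut [Finite G] (θ : ZMod p → G) (f : G → ZMod p) (j : ZMod p)
    (hf : ∀ g h, f (g * h) = f g + f h)
    (h1 : ∀ a g, θ a * g = g * θ a * D.U (-(j * a * f g)))
    (h2 : ∀ a b, θ a * θ b = θ (a + b) * D.U (j * a * b))
    (h3 : ∀ a, f (θ a) = 0) :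
    ∃ σ : MulAut G, ∀ g, σ g = g * θ (f g) := by
  have hθ0 : θ 0 = 1 := by
    have := h2 0 0
    rw [add_zero, mul_zero, D.U_zero, mul_one] at this
    exact mul_eq_left.1 this
  have hf1 : f 1 = 0 := by
    have := hf 1 1
    rw [mul_one] at this
    exact left_eq_add.1 this
  let φ : G →* G :=
    { toFun := fun g => g * θ (f g)
      map_one' := by rw [hf1, hθ0, mul_one]
      map_mul' := fun g h => twist_mul D θ f j hf h1 h2 g h }
  have hinj : ∀ g, φ g = 1 → g = 1 := by
    intro g hg
    have hg' : g * θ (f g) = 1 := hg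
    have h4 : f (g * θ (f g)) = 0 := by rw [hg', hf1]
    rw [hf, h3, add_zero] at h4
    rw [h4, hθ0, mul_one] at hg'
    exact hg'
  exact ⟨autOfInj φ hinj, fun g => rfl⟩

end twist

section power

variable {G : Type*} [Group G] {p : ℕ} (D : CData G p)

/-- The power formula in class 2. -/
theorem mul_pow_eq (x y : G) (m : ℕ) :
    (x * y) ^ m = x ^ m * y ^ m * D.U ((m.choose 2 : ZMod p) * D.β y x) := by
  induction m with
  | zero => simp [D.U_zero]
  | succ k ih =>
    have hyx : y ^ k * x = x * y ^ k * D.U ((k : ZMod p) * D.β y x) := by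
      rw [D.comm_eq (y ^ k) x, D.β_pow_left]
    have hch : ((k + 1).choose 2 : ZMod p) = (k : ZMod p) + (k.choose 2 : ZMod p) := by
      rw [Nat.choose_succ_succ' k 1, Nat.choose_one_right, Nat.cast_add]
    rw [pow_succ, ih, hch, add_mul, D.U_add]
    calc x ^ k * y ^ k * D.U ((k.choose 2 : ZMod p) * D.β y x) * (x * y)
        = x ^ k * y ^ k * (D.U ((k.choose 2 : ZMod p) * D.β y x) * (x * y)) := by
          simp only [mul_assoc]
      _ = x ^ k * y ^ k * ((x * y) * D.U ((k.choose 2 : ZMod p) * D.β y x)) := by rw [D.U_comm]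
      _ = x ^ k * (y ^ k * x) * y * D.U ((k.choose 2 : ZMod p) * D.β y x) := by
          simp only [mul_assoc]
      _ = x ^ k * (x * y ^ k * D.U ((k : ZMod p) * D.β y x)) * y
            * D.U ((k.choose 2 : ZMod p) * D.β y x) := by rw [hyx]
      _ = x ^ k * x * y ^ k * (D.U ((k : ZMod p) * D.β y x) * y)
            * D.U ((k.choose 2 : ZMod p) * D.β y x) := by simp only [mul_assoc]
      _ = x ^ k * x * y ^ k * (y * D.U ((k : ZMod p) * D.β y x))
            * D.U ((k.choose 2 : ZMod p) * D.β y x) := by rw [D.U_comm]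
      _ = x ^ (k + 1) * y ^ (k + 1) * (D.U ((k : ZMod p) * D.β y x)
            * D.U ((k.choose 2 : ZMod p) * D.β y x)) := by
          simp only [mul_assoc, pow_succ]

include D in
/-- `p`-th powers are central. -/
theorem pow_p_mem_center (x : G) : x ^ p ∈ Subgroup.center G := by
  rw [D.mem_center_iff]
  intro y
  rw [D.β_pow_right, ZMod.natCast_self, zero_mul]

include D in
/-- For odd `p`, the `p`-th power map is multiplicative. -/
theorem mul_pow_p [Fact p.Prime] (hp2 : p ≠ 2) (x y : G) : (x * y) ^ p = x ^ p * y ^ p := by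
  have hp : p.Prime := Fact.out
  have hdvd : p ∣ p.choose 2 :=
    hp.dvd_choose_self (by norm_num) (lt_of_le_of_ne hp.two_le (Ne.symm hp2))
  rw [mul_pow_eq D, (ZMod.natCast_eq_zero_iff _ _).2 hdvd, zero_mul, D.U_zero, mul_one]

end power

end Cfsg.Agent.Lib.Helper3.AO
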