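import Mathlib
import Cfsg.Agent.Lib.Helper3.AO6

set_option autoImplicit false

namespace Cfsg.Agent.Lib.Helper3.AO

open scoped commutatorElement
open MulAction

section caseB

variable {G : Type*} [Group G] [Finite G] {p : ℕ} [Fact p.Prime] (D : CData G p)

include D in
/-- Case B: existence of a noncentral element of order `p`. -/
theorem exists_noncentral_order_p (hp2 : p ≠ 2)
    (hz : p ^ 2 * Nat.card (Subgroup.center G) ≤ Nat.card G)
    (hc : Nat.card (commutator G) = p)
    (hW : ∀ w ∈ Subgroup.center G, w ^ p = 1 → w ∈ commutator G) :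
    ∃ v, v ∉ Subgroup.center G ∧ v ^ p = 1 := by
  have hp : p.Prime := Fact.out
  by_contra hcon
  have hall : ∀ v : G, v ^ p = 1 → v ∈ Subgroup.center G := by
    intro v hv
    by_contra hvz
    exact hcon ⟨v, hvz, hv⟩
  let P : G →* G :=
    { toFun := fun x => x ^ p
      map_one' := one_pow p
      map_mul' := mul_pow_p D hp2 }
  have hker : P.ker ≤ commutator G := by
    intro x hx
    have hx' : x ^ p = 1 := hx
    exact hW x (hall x hx') hx'
  have hrange : P.range ≤ Subgroup.center G := by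
    rintro _ ⟨x, rfl⟩
    exact pow_p_mem_center D x
  have h1 : Nat.card P.ker ≤ p := hc ▸ Subgroup.card_le_of_le hker
  have h2 : P.ker.index ≤ Nat.card (Subgroup.center G) := by
    rw [Subgroup.index_ker]
    exact Subgroup.card_le_of_le hrange
  have h3 : Nat.card P.ker * P.ker.index = Nat.card G := P.ker.card_mul_index
  have hzpos : 0 < Nat.card (Subgroup.center G) := Nat.card_pos
  have h4 : Nat.card G ≤ p * Nat.card (Subgroup.center G) := by
    rw [← h3]
    exact Nat.mul_le_mul h1 h2
  have h5 : p ^ 2 * Nat.card (Subgroup.center G) ≤ p * Nat.card (Subgroup.center G) := hz.trans h4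
  have h6 : p ^ 2 ≤ p := Nat.le_of_mul_le_mul_right h5 hzpos
  have := hp.two_le
  nlinarith

include D in
/-- Case B: orbits of elements not commuting with a noncentral `v` of order `p` are large. -/
theorem caseB (hp2 : p ≠ 2) {v : G} (hv : v ∉ Subgroup.center G) (hvp : v ^ p = 1) {x : G}
    (hx : ¬ Commute x v) : p ^ 2 ≤ (orbit (MulAut G) x).ncard := by
  have hp : p.Prime := Fact.out
  have h2ne : (2 : ZMod p) ≠ 0 := by
    intro h
    have h' : ((2 : ℕ) : ZMod p) = 0 := by exact_mod_cast h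
    rw [ZMod.natCast_eq_zero_iff] at h'
    have := Nat.le_of_dvd (by norm_num) h'
    have := hp.two_le
    omega
  have hxz : x ∉ Subgroup.center G := by
    intro h
    exact hx (Subgroup.mem_center_iff.1 h v).symm
  have hfx : D.β x v ≠ 0 := by
    intro h
    exact hx ((D.β_eq_zero_iff x v).1 h)
  apply sq_le_ncard_orbit D hxz (t := v)
  · intro m hm0 hmp hmem
    obtain ⟨a, ha⟩ := (D.mem_commutator_iff _).1 hmem
    exact D.pow_not_mem_center hv hm0 hmp (ha ▸ D.U_mem_center a)
  · intro m hmp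
    set j : ZMod p := (m : ZMod p) / D.β x v with hj
    let f : G → ZMod p := fun g => D.β g v
    let θ : ZMod p → G := fun a => v ^ (j * a).val * D.U (-(j * a ^ 2 / 2))
    have hf : ∀ g h, f (g * h) = f g + f h := fun g h => D.β_mul_left g h v
    have h1 : ∀ a g, θ a * g = g * θ a * D.U (-(j * a * f g)) := by
      intro a g
      show v ^ (j * a).val * D.U (-(j * a ^ 2 / 2)) * g
        = g * (v ^ (j * a).val * D.U (-(j * a ^ 2 / 2))) * D.U (-(j * a * D.β g v))
      have e : v ^ (j * a).val * g = g * v ^ (j * a).val * D.U (-(j * a * D.β g v)) := by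
        rw [D.comm_eq (v ^ (j * a).val) g, D.β_pow_left, ZMod.natCast_zmod_val, D.β_swap v g,
          mul_neg]
      calc v ^ (j * a).val * D.U (-(j * a ^ 2 / 2)) * g
          = v ^ (j * a).val * (D.U (-(j * a ^ 2 / 2)) * g) := by simp only [mul_assoc]
        _ = v ^ (j * a).val * (g * D.U (-(j * a ^ 2 / 2))) := by rw [D.U_comm]
        _ = (v ^ (j * a).val * g) * D.U (-(j * a ^ 2 / 2)) := by simp only [mul_assoc]
        _ = g * v ^ (j * a).val * D.U (-(j * a * D.β g v)) * D.U (-(j * a ^ 2 / 2)) := by rw [e]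
        _ = g * v ^ (j * a).val * (D.U (-(j * a * D.β g v)) * D.U (-(j * a ^ 2 / 2))) := by
            simp only [mul_assoc]
        _ = g * v ^ (j * a).val * (D.U (-(j * a ^ 2 / 2)) * D.U (-(j * a * D.β g v))) := by
            rw [D.U_comm]
        _ = g * (v ^ (j * a).val * D.U (-(j * a ^ 2 / 2))) * D.U (-(j * a * D.β g v)) := by
            simp only [mul_assoc]
    have h2 : ∀ a b, θ a * θ b = θ (a + b) * D.U (j * a * b) := by
      intro a b
      show v ^ (j * a).val * D.U (-(j * a ^ 2 / 2)) * (v ^ (j * b).val * D.U (-(j * b ^ 2 / 2)))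
        = v ^ (j * (a + b)).val * D.U (-(j * (a + b) ^ 2 / 2)) * D.U (j * a * b)
      have e : -(j * a ^ 2 / 2) + -(j * b ^ 2 / 2) = -(j * (a + b) ^ 2 / 2) + j * a * b := by
        field_simp
        ring
      calc v ^ (j * a).val * D.U (-(j * a ^ 2 / 2)) * (v ^ (j * b).val * D.U (-(j * b ^ 2 / 2)))
          = v ^ (j * a).val * (D.U (-(j * a ^ 2 / 2)) * v ^ (j * b).val)
              * D.U (-(j * b ^ 2 / 2)) := by simp only [mul_assoc]
        _ = v ^ (j * a).val * (v ^ (j * b).val * D.U (-(j * a ^ 2 / 2)))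
              * D.U (-(j * b ^ 2 / 2)) := by rw [D.U_comm]
        _ = (v ^ (j * a).val * v ^ (j * b).val) * (D.U (-(j * a ^ 2 / 2))
              * D.U (-(j * b ^ 2 / 2))) := by simp only [mul_assoc]
        _ = v ^ (j * (a + b)).val * D.U (-(j * (a + b) ^ 2 / 2) + j * a * b) := by
            rw [← pow_val_add hvp, ← D.U_add, e, mul_add]
        _ = v ^ (j * (a + b)).val * D.U (-(j * (a + b) ^ 2 / 2)) * D.U (j * a * b) := by
            rw [D.U_add, ← mul_assoc]
    have h3 : ∀ a, f (θ a) = 0 := by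
      intro a
      show D.β (v ^ (j * a).val * D.U (-(j * a ^ 2 / 2))) v = 0
      rw [D.β_mul_left, D.β_pow_left, D.β_self, mul_zero, D.β_U_left, add_zero]
    obtain ⟨σ, hσ⟩ := exists_twist_aut D θ f j hf h1 h2 h3
    refine ⟨-(j * (f x) ^ 2 / 2), σ, ?_⟩
    show σ x = x * v ^ m * D.U (-(j * (f x) ^ 2 / 2))
    rw [hσ]
    show x * (v ^ (j * D.β x v).val * D.U (-(j * (D.β x v) ^ 2 / 2)))
      = x * v ^ m * D.U (-(j * (D.β x v) ^ 2 / 2))
    rw [hj, div_mul_cancel₀ _ hfx, ZMod.val_natCast_of_lt hmp, mul_assoc]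

end caseB

end Cfsg.Agent.Lib.Helper3.AO
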