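import Mathlib
import Cfsg.Agent.Lib.Helper3.AO6

set_option autoImplicit false

namespace Cfsg.Agent.Lib.Helper3.AO

open scoped commutatorElement
open MulAction

section caseC

variable {G : Type*} [Group G] [Finite G] (D : CData G 2)

theorem zmod_two_cases (a : ZMod 2) : a = 0 ∨ a = 1 := by
  revert a; decide

omit [Finite G] in
theorem center_commute (a b : Subgroup.center G) : Commute a b :=
  Subtype.ext (Subgroup.mem_center_iff.1 b.2 a)

/-- Squaring on the centre. -/
def sqHom (G : Type*) [Group G] : Subgroup.center G →* Subgroup.center G where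
  toFun w := w ^ 2
  map_one' := one_pow 2
  map_mul' a b := (center_commute a b).mul_pow 2

omit [Finite G] in
theorem sqHom_apply (w : Subgroup.center G) : sqHom G w = w ^ 2 := rfl

include D in
/-- Case C: the image of squaring on the centre has index two. -/
theorem index_range_sq (hc : Nat.card (commutator G) = 2)
    (hW : ∀ w ∈ Subgroup.center G, w ^ 2 = 1 → w ∈ commutator G) :
    ((sqHom G).range).index = 2 := by
  set sq : Subgroup.center G →* Subgroup.center G := sqHom G with hsq
  have hle : commutator G ≤ Subgroup.center G := by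
    intro c hcm
    obtain ⟨a, rfl⟩ := (D.mem_commutator_iff c).1 hcm
    exact D.U_mem_center a
  have hker : sq.ker = (commutator G).subgroupOf (Subgroup.center G) := by
    ext w
    rw [MonoidHom.mem_ker, Subgroup.mem_subgroupOf]
    constructor
    · intro h
      have h' : (w : G) ^ 2 = 1 := by
        have := congrArg (Subtype.val) h
        simpa [hsq, sqHom_apply] using this
      exact hW w w.2 h'
    · intro h
      obtain ⟨a, ha⟩ := (D.mem_commutator_iff _).1 h
      apply Subtype.ext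
      show ((w ^ 2 : Subgroup.center G) : G) = 1
      rw [Subgroup.coe_pow, ← ha]
      exact D.U_pow_p a
  have hcardker : Nat.card sq.ker = 2 := by
    rw [hker, Nat.card_congr (Subgroup.subgroupOfEquivOfLe hle).toEquiv, hc]
  have h1 : Nat.card sq.ker * sq.ker.index = Nat.card (Subgroup.center G) := sq.ker.card_mul_index
  have h2 : Nat.card sq.range * sq.range.index = Nat.card (Subgroup.center G) :=
    sq.range.card_mul_index
  rw [Subgroup.index_ker, hcardker] at h1
  have hpos : 0 < Nat.card sq.range := Nat.card_pos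
  rw [← h1, mul_comm] at h2
  exact Nat.eq_of_mul_eq_mul_right hpos h2

include D in
/-- Case C: existence of a noncentral element whose square generates `G'`. -/
theorem exists_noncentral_sq (hna : ∃ x y : G, D.β x y ≠ 0)
    (hc : Nat.card (commutator G) = 2)
    (hW : ∀ w ∈ Subgroup.center G, w ^ 2 = 1 → w ∈ commutator G) :
    ∃ v, v ∉ Subgroup.center G ∧ v ^ 2 = D.U 1 := by
  obtain ⟨x, y, hxy⟩ := hna
  have hxy1 : D.β x y = 1 := (zmod_two_cases _).resolve_left hxy
  have hyx1 : D.β y x = 1 := by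
    rw [D.β_swap, hxy1]; decide
  have hidx := index_range_sq D hc hW
  set H := (sqHom G).range with hH
  -- the key claim
  have hU2 : D.U 1 * D.U 1 = 1 := by
    rw [← D.U_add]
    have : (1 + 1 : ZMod 2) = 0 := by decide
    rw [this, D.U_zero]
  have key : ∀ s : G, (⟨D.U 1, D.U_mem_center 1⟩ * ⟨s ^ 2, pow_p_mem_center D s⟩ :
      Subgroup.center G) ∈ H → ∃ t ∈ Subgroup.center G, s ^ 2 = D.U 1 * t ^ 2 := by
    intro s hs
    obtain ⟨t, ht⟩ := hs
    refine ⟨t, t.2, ?_⟩
    have ht' : (t : G) ^ 2 = D.U 1 * s ^ 2 := by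
      have := congrArg Subtype.val ht
      simpa [sqHom_apply] using this
    rw [ht', ← mul_assoc, hU2, one_mul]
  have hsome : ∃ s : G, s ∉ Subgroup.center G ∧ ∃ t ∈ Subgroup.center G, s ^ 2 = D.U 1 * t ^ 2 := by
    have hxz : x ∉ Subgroup.center G := fun h => hxy (D.β_central_left h y)
    have hyz : y ∉ Subgroup.center G := fun h => hxy (D.β_central_right h x)
    have hxyz : x * y ∉ Subgroup.center G := by
      intro h
      have := D.β_central_left h y
      rw [D.β_mul_left, D.β_self, add_zero] at this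
      exact hxy this
    by_cases hx : (⟨D.U 1, D.U_mem_center 1⟩ * ⟨x ^ 2, pow_p_mem_center D x⟩ :
        Subgroup.center G) ∈ H
    · exact ⟨x, hxz, key x hx⟩
    by_cases hy : (⟨D.U 1, D.U_mem_center 1⟩ * ⟨y ^ 2, pow_p_mem_center D y⟩ :
        Subgroup.center G) ∈ H
    · exact ⟨y, hyz, key y hy⟩
    refine ⟨x * y, hxyz, key (x * y) ?_⟩
    have hprod := (Subgroup.mul_mem_iff_of_index_two hidx
      (a := (⟨D.U 1, D.U_mem_center 1⟩ * ⟨x ^ 2, pow_p_mem_center D x⟩ : Subgroup.center G))
      (b := (⟨D.U 1, D.U_mem_center 1⟩ * ⟨y ^ 2, pow_p_mem_center D y⟩ : Subgroup.center G))).2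
      (iff_of_false hx hy)
    have heq : (⟨D.U 1, D.U_mem_center 1⟩ * ⟨(x * y) ^ 2, pow_p_mem_center D (x * y)⟩ :
        Subgroup.center G) =
        (⟨D.U 1, D.U_mem_center 1⟩ * ⟨x ^ 2, pow_p_mem_center D x⟩) *
          (⟨D.U 1, D.U_mem_center 1⟩ * ⟨y ^ 2, pow_p_mem_center D y⟩) := by
      apply Subtype.ext
      show D.U 1 * (x * y) ^ 2 = D.U 1 * x ^ 2 * (D.U 1 * y ^ 2)
      rw [mul_pow_eq D x y 2, hyx1]
      have : ((Nat.choose 2 2 : ℕ) : ZMod 2) * 1 = 1 := by decide
      rw [this]
      calc D.U 1 * (x ^ 2 * y ^ 2 * D.U 1) = D.U 1 * x ^ 2 * (y ^ 2 * D.U 1) := by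
            simp only [mul_assoc]
        _ = D.U 1 * x ^ 2 * (D.U 1 * y ^ 2) := by rw [D.U_comm 1 (y ^ 2)]
    rw [heq]
    exact hprod
  obtain ⟨s, hsz, t, htz, hst⟩ := hsome
  refine ⟨s * t⁻¹, ?_, ?_⟩
  · intro h
    apply hsz
    have : s = s * t⁻¹ * t := by group
    rw [this]
    exact Subgroup.mul_mem _ h htz
  · have htc : ∀ g : G, t⁻¹ * g = g * t⁻¹ := fun g =>
      (Subgroup.mem_center_iff.1 (Subgroup.inv_mem _ htz) g).symm
    calc (s * t⁻¹) ^ 2 = s * (t⁻¹ * s) * t⁻¹ := by rw [pow_two]; simp only [mul_assoc]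
      _ = s * (s * t⁻¹) * t⁻¹ := by rw [htc]
      _ = s ^ 2 * (t ^ 2)⁻¹ := by rw [pow_two, pow_two, mul_inv_rev]; simp only [mul_assoc]
      _ = D.U 1 := by rw [hst, mul_inv_cancel_right]

include D in
/-- Case C: orbits of elements not commuting with `v` are large. -/
theorem caseC {v : G} (hv : v ∉ Subgroup.center G) (hv2 : v ^ 2 = D.U 1) {x : G}
    (hx : ¬ Commute x v) : 2 ^ 2 ≤ (orbit (MulAut G) x).ncard := by
  have hxz : x ∉ Subgroup.center G := by
    intro h
    exact hx (Subgroup.mem_center_iff.1 h v).symm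
  have hfx : D.β x v ≠ 0 := by
    intro h
    exact hx ((D.β_eq_zero_iff x v).1 h)
  have hfx1 : D.β x v = 1 := (zmod_two_cases _).resolve_left hfx
  apply sq_le_ncard_orbit D hxz (t := v)
  · intro m hm0 hmp hmem
    obtain ⟨a, ha⟩ := (D.mem_commutator_iff _).1 hmem
    exact D.pow_not_mem_center hv hm0 hmp (ha ▸ D.U_mem_center a)
  · intro m hmp
    have hm : m = 0 ∨ m = 1 := by omega
    rcases hm with rfl | rfl
    · refine ⟨0, ?_⟩
      rw [pow_zero, mul_one, D.U_zero, mul_one]
      exact mem_orbit_self x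
    let f : G → ZMod 2 := fun g => D.β g v
    let θ : ZMod 2 → G := fun a => v ^ a.val
    have hf : ∀ g h, f (g * h) = f g + f h := fun g h => D.β_mul_left g h v
    have h1 : ∀ a g, θ a * g = g * θ a * D.U (-(1 * a * f g)) := by
      intro a g
      show v ^ a.val * g = g * v ^ a.val * D.U (-(1 * a * D.β g v))
      rw [D.comm_eq (v ^ a.val) g, D.β_pow_left, ZMod.natCast_zmod_val, D.β_swap v g,
        mul_neg, one_mul]
    have h2 : ∀ a b, θ a * θ b = θ (a + b) * D.U (1 * a * b) := by
      intro a b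
      show v ^ a.val * v ^ b.val = v ^ (a + b).val * D.U (1 * a * b)
      rcases zmod_two_cases a with rfl | rfl <;> rcases zmod_two_cases b with rfl | rfl
      · simp [D.U_zero]
      · simp [D.U_zero]
      · simp [D.U_zero]
      · have e1 : ((1 : ZMod 2) + 1).val = 0 := by decide
        have e2 : (1 : ZMod 2).val = 1 := by decide
        rw [e1, e2, pow_one, pow_zero, one_mul, mul_one, mul_one, ← hv2, pow_two]
    have h3 : ∀ a, f (θ a) = 0 := by
      intro a
      show D.β (v ^ a.val) v = 0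
      rw [D.β_pow_left, D.β_self, mul_zero]
    obtain ⟨σ, hσ⟩ := exists_twist_aut D θ f 1 hf h1 h2 h3
    refine ⟨0, σ, ?_⟩
    show σ x = x * v ^ 1 * D.U 0
    rw [hσ]
    show x * v ^ (D.β x v).val = x * v ^ 1 * D.U 0
    rw [hfx1, D.U_zero, mul_one]
    have e2 : (1 : ZMod 2).val = 1 := by decide
    rw [e2]

end caseC

end Cfsg.Agent.Lib.Helper3.AO
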