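import Mathlib
import Cfsg.Agent.Lib.Helper3.AO1
import Cfsg.Agent.Lib.Helper3.AO4
import Cfsg.Agent.Lib.Helper3.AO5

set_option autoImplicit false

namespace Cfsg.Agent.Lib.Helper3.AO

open scoped commutatorElement
open MulAction

section final

variable {G : Type*} [Group G] [Finite G]

/-- The orbit of a noncentral element contains its coset of the commutator subgroup. -/
theorem le_ncard_orbit {p : ℕ} [Fact p.Prime] (D : CData G p) {x : G}
    (hx : x ∉ Subgroup.center G) : p ≤ (orbit (MulAut G) x).ncard := by
  let F : ZMod p → G := fun b => x * D.U b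
  have hmem : Set.range F ⊆ orbit (MulAut G) x := by
    rintro _ ⟨b, rfl⟩
    exact mul_U_mem_orbit D hx (mem_orbit_self x) b
  have hinj : Function.Injective F := by
    intro b b' h
    exact D.U_inj (mul_left_cancel h)
  calc p = Nat.card (ZMod p) := (Nat.card_zmod p).symm
    _ = (Set.range F).ncard := by
        rw [← Set.image_univ, Set.ncard_image_of_injective _ hinj, Set.ncard_univ]
    _ ≤ (orbit (MulAut G) x).ncard := Set.ncard_le_ncard hmem (Set.toFinite _)

/-- The final count. -/
theorem final_count {p : ℕ} (hp : p = (Nat.card G).minFac) (hp1 : 1 ≤ p)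
    (hz : p ^ 2 * Nat.card (Subgroup.center G) ≤ Nat.card G)
    (v : G) (hv : v ∉ Subgroup.center G)
    (hcen : ∀ x, x ∉ Subgroup.center G → p ≤ (orbit (MulAut G) x).ncard)
    (hlarge : ∀ x, ¬ Commute x v → p ^ 2 ≤ (orbit (MulAut G) x).ncard) :
    Nat.card (orbitRel.Quotient (MulAut G) G) ≤ Nat.card G / p := by
  classical
  have : Fintype G := Fintype.ofFinite G
  obtain ⟨q, rfl⟩ : ∃ q, p = q + 1 := ⟨p - 1, by omega⟩
  set C := Subgroup.centralizer ({v} : Set G) with hC
  have hCtop : C ≠ ⊤ := by
    intro h
    apply hv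
    rw [Subgroup.mem_center_iff]
    intro g
    have hg : g ∈ C := by rw [h]; exact Subgroup.mem_top g
    exact (Subgroup.mem_centralizer_iff.1 hg v rfl).symm
  have hc : (q + 1) * Nat.card C ≤ Nat.card G := by
    rw [hp]
    exact minFac_mul_card_le_of_ne_top C hCtop
  have hZC : ∀ x, x ∈ Subgroup.center G → x ∈ C := by
    intro x hx
    rw [hC, Subgroup.mem_centralizer_iff]
    intro y hy
    rw [Set.mem_singleton_iff] at hy
    subst hy
    exact (Subgroup.mem_center_iff.1 hx y)
  let w : G → ℕ := fun x => 1 + q * (if x ∈ C then 1 else 0)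
    + q * (q + 1) * (if x ∈ Subgroup.center G then 1 else 0)
  have hw : ∀ x, (q + 1) ^ 2 ≤ w x * (orbit (MulAut G) x).ncard := by
    intro x
    have hpos : 1 ≤ (orbit (MulAut G) x).ncard := by
      have : 0 < (orbit (MulAut G) x).ncard :=
        (Set.ncard_pos (Set.toFinite _)).2 ⟨x, mem_orbit_self x⟩
      exact this
    by_cases hxZ : x ∈ Subgroup.center G
    · have : w x = (q + 1) ^ 2 := by
        show 1 + q * (if x ∈ C then 1 else 0)
          + q * (q + 1) * (if x ∈ Subgroup.center G then 1 else 0) = _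
        rw [if_pos (hZC x hxZ), if_pos hxZ]
        ring
      rw [this]
      exact Nat.le_mul_of_pos_right _ hpos
    · by_cases hxC : x ∈ C
      · have : w x = q + 1 := by
          show 1 + q * (if x ∈ C then 1 else 0)
            + q * (q + 1) * (if x ∈ Subgroup.center G then 1 else 0) = _
          rw [if_pos hxC, if_neg hxZ]
          ring
        rw [this, pow_two]
        exact Nat.mul_le_mul_left _ (hcen x hxZ)
      · have : w x = 1 := by
          show 1 + q * (if x ∈ C then 1 else 0)
            + q * (q + 1) * (if x ∈ Subgroup.center G then 1 else 0) = _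
          rw [if_neg hxC, if_neg hxZ, mul_zero, mul_zero, add_zero, add_zero]
        rw [this, one_mul]
        apply hlarge
        intro hcomm
        apply hxC
        rw [hC, Subgroup.mem_centralizer_iff]
        intro y hy
        rw [Set.mem_singleton_iff] at hy
        subst hy
        exact hcomm.eq.symm
  have hweight := weight (A := MulAut G) (X := G) ((q + 1) ^ 2) w hw
  have hsum : ∑ x, w x = Nat.card G + q * Nat.card C
      + q * (q + 1) * Nat.card (Subgroup.center G) := by
    show ∑ x, (1 + q * (if x ∈ C then 1 else 0)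
      + q * (q + 1) * (if x ∈ Subgroup.center G then 1 else 0)) = _
    rw [Finset.sum_add_distrib, Finset.sum_add_distrib, ← Finset.mul_sum, ← Finset.mul_sum,
      Finset.sum_boole, Finset.sum_boole]
    simp only [Finset.sum_const, Finset.card_univ, smul_eq_mul, mul_one, Nat.cast_id]
    rw [Nat.card_eq_fintype_card, Nat.card_eq_fintype_card, Nat.card_eq_fintype_card,
      Fintype.card_subtype, Fintype.card_subtype]
  rw [hsum] at hweight
  set ω := Nat.card (orbitRel.Quotient (MulAut G) G) with hω
  set n := Nat.card G with hn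
  set c := Nat.card C with hc'
  set z := Nat.card (Subgroup.center G) with hz'
  rw [Nat.le_div_iff_mul_le (by omega)]
  have e1 : (q + 1) * ((q + 1) ^ 2 * ω) ≤ (q + 1) * (n + q * c + q * (q + 1) * z) :=
    Nat.mul_le_mul_left _ hweight
  have e2 : (q + 1) * (n + q * c + q * (q + 1) * z)
      = (q + 1) * n + q * ((q + 1) * c) + q * ((q + 1) ^ 2 * z) := by ring
  have e3 : (q + 1) * n + q * ((q + 1) * c) + q * ((q + 1) ^ 2 * z)
      ≤ (q + 1) * n + q * n + q * n :=
    Nat.add_le_add (Nat.add_le_add_left (Nat.mul_le_mul_left _ hc) _) (Nat.mul_le_mul_left _ hz)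
  have e4 : (q + 1) * n + q * n + q * n ≤ (q + 1) ^ 2 * n := by
    have : q * n ≤ q * q * n := Nat.mul_le_mul_right n (Nat.le_mul_self q)
    nlinarith
  have e5 : (q + 1) ^ 2 * (ω * (q + 1)) ≤ (q + 1) ^ 2 * n := by
    calc (q + 1) ^ 2 * (ω * (q + 1)) = (q + 1) * ((q + 1) ^ 2 * ω) := by ring
      _ ≤ (q + 1) ^ 2 * n := (e1.trans (e2 ▸ e3)).trans e4
  exact Nat.le_of_mul_le_mul_left e5 (by positivity)

end final

end Cfsg.Agent.Lib.Helper3.AO
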