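import Mathlib
import Cfsg.Prelude.Def_Local
import Cfsg.Agent.Lib.Helper3.Components1

set_option autoImplicit false
set_option linter.unusedSectionVars false
set_option linter.style.haveILetI false

/-!
Pointwise stabilizers in alternating groups: centralizers, normalizers.
-/

namespace Cfsg.Agent.Lib.Helper3.AltStd

open Equiv Equiv.Perm
open scoped commutatorElement

theorem app_inv {α : Type*} (f : Perm α) (x : α) : f (f⁻¹ x) = x := f.apply_symm_apply x

theorem inv_app {α : Type*} (f : Perm α) (x : α) : f⁻¹ (f x) = x := f.symm_apply_apply x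

/-- a non-abelian simple group is quasisimple -/
theorem isQuasisimple_of_isSimpleGroup {X : Type*} [Group X] [IsSimpleGroup X]
    (h : ∃ a b : X, a * b ≠ b * a) : Cfsg.IsQuasisimple X := by
  obtain ⟨a, b, hab⟩ := h
  have hc : commutator X = ⊤ := by
    rcases (inferInstance : (commutator X).Normal).eq_bot_or_eq_top with h1 | h1
    · exfalso
      apply hab
      have h2 : ⁅a, b⁆ ∈ commutator X := Subgroup.commutator_mem_commutator (Subgroup.mem_top a)
        (Subgroup.mem_top b)
      rw [h1, Subgroup.mem_bot, commutatorElement_eq_one_iff_mul_comm] at h2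
      exact h2
    · exact h1
  have hz : Subgroup.center X = ⊥ := by
    rcases (inferInstance : (Subgroup.center X).Normal).eq_bot_or_eq_top with h1 | h1
    · exact h1
    · exfalso
      apply hab
      have : a ∈ Subgroup.center X := by rw [h1]; exact Subgroup.mem_top a
      exact ((Subgroup.mem_center_iff.mp this) b).symm
  refine ⟨⟨hc⟩, ?_⟩
  have e : X ⧸ Subgroup.center X ≃* X :=
    (QuotientGroup.quotientMulEquivOfEq hz).trans QuotientGroup.quotientBot
  exact e.isSimpleGroup

variable {α : Type*} [Fintype α] [DecidableEq α]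

/-- the elements of the alternating group fixing every point of `P` -/
def fixA (P : Set α) : Subgroup (alternatingGroup α) where
  carrier := {g | ∀ j ∈ P, (g : Perm α) j = j}
  one_mem' := fun j _ => rfl
  mul_mem' := by
    intro a b ha hb j hj
    show (a : Perm α) ((b : Perm α) j) = j
    rw [hb j hj, ha j hj]
  inv_mem' := by
    intro a ha j hj
    show ((a : Perm α))⁻¹ j = j
    rw [Perm.inv_eq_iff_eq, ha j hj]

theorem mem_fixA {P : Set α} {g : alternatingGroup α} :
    g ∈ fixA P ↔ ∀ j ∈ P, (g : Perm α) j = j := Iff.rfl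

/-- the three-cycle `a ↦ b ↦ c ↦ a` -/
def cyc3 (a b c : α) (hab : a ≠ b) (hbc : b ≠ c) : alternatingGroup α :=
  ⟨swap a b * swap b c, by
    rw [mem_alternatingGroup, Perm.sign_mul, sign_swap hab, sign_swap hbc]
    rfl⟩

theorem cyc3_val (a b c : α) (hab : a ≠ b) (hbc : b ≠ c) :
    ((cyc3 a b c hab hbc : alternatingGroup α) : Perm α) = swap a b * swap b c := rfl

theorem cyc3_apply_left (a b c : α) (hab : a ≠ b) (hbc : b ≠ c) (hac : a ≠ c) :
    ((cyc3 a b c hab hbc : alternatingGroup α) : Perm α) a = b := by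
  rw [cyc3_val, Perm.mul_apply, swap_apply_of_ne_of_ne hab hac, swap_apply_left]

theorem cyc3_apply_of_ne (a b c : α) (hab : a ≠ b) (hbc : b ≠ c) {x : α} (hxa : x ≠ a)
    (hxb : x ≠ b) (hxc : x ≠ c) :
    ((cyc3 a b c hab hbc : alternatingGroup α) : Perm α) x = x := by
  rw [cyc3_val, Perm.mul_apply, swap_apply_of_ne_of_ne hxb hxc, swap_apply_of_ne_of_ne hxa hxb]

theorem cyc3_mem_fixA {P : Set α} (a b c : α) (hab : a ≠ b) (hbc : b ≠ c) (ha : a ∉ P)
    (hb : b ∉ P) (hc : c ∉ P) : cyc3 a b c hab hbc ∈ fixA P := by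
  intro j hj
  apply cyc3_apply_of_ne
  · rintro rfl; exact ha hj
  · rintro rfl; exact hb hj
  · rintro rfl; exact hc hj

/-- elements with disjoint supports commute -/
theorem fixA_compl_le_centralizer (P : Set α) :
    fixA Pᶜ ≤ Subgroup.centralizer ((fixA P : Subgroup (alternatingGroup α)) : Set _) := by
  intro g hg
  rw [Subgroup.mem_centralizer_iff]
  intro l hl
  apply Subtype.ext
  show (l : Perm α) * (g : Perm α) = (g : Perm α) * (l : Perm α)
  have hd : Perm.Disjoint (l : Perm α) (g : Perm α) := by
    intro x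
    by_cases hx : x ∈ P
    · left; exact hl x hx
    · right; exact hg x hx
  exact hd.commute.eq

/-- an element commuting with the pointwise stabilizer of `P` fixes the complement of `P` pointwise,
when the complement has at least four points -/
theorem centralizer_fixA_le (P : Set α) (T : Finset α) (hT : ∀ x ∈ T, x ∉ P) (h4 : 4 ≤ T.card) :
    Subgroup.centralizer ((fixA P : Subgroup (alternatingGroup α)) : Set _) ≤ fixA Pᶜ := by
  classical
  intro g hg j hj
  rw [Subgroup.mem_centralizer_iff] at hg
  by_contra hne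
  -- `k = g j ≠ j`; choose `a, b` outside `P`, distinct from `j, k`
  obtain ⟨a, ha, ha'⟩ := Finset.exists_mem_notMem_of_card_lt_card
    (s := ({j, (g : Perm α) j} : Finset α)) (t := T) (by
      have : ({j, (g : Perm α) j} : Finset α).card ≤ 2 := Finset.card_le_two
      omega)
  obtain ⟨b, hb, hb'⟩ := Finset.exists_mem_notMem_of_card_lt_card
    (s := ({j, (g : Perm α) j, a} : Finset α)) (t := T) (by
      have : ({j, (g : Perm α) j, a} : Finset α).card ≤ 3 := Finset.card_le_three
      omega)
  replace ha := hT a ha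
  replace hb := hT b hb
  simp only [Finset.mem_insert, Finset.mem_singleton, not_or] at ha' hb'
  obtain ⟨haj, hak⟩ := ha'
  obtain ⟨hbj, hbk, hba⟩ := hb'
  have hja : j ≠ a := fun h => haj h.symm
  have hab : a ≠ b := fun h => hba h.symm
  have hjb : j ≠ b := fun h => hbj h.symm
  have hc := hg (cyc3 j a b hja hab) (cyc3_mem_fixA j a b hja hab hj ha hb)
  have hc' := congrArg (fun x : alternatingGroup α => (x : Perm α) j) hc
  simp only [Subgroup.coe_mul, Perm.mul_apply] at hc'
  rw [cyc3_apply_left j a b hja hab hjb,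
    cyc3_apply_of_ne j a b hja hab hne (fun h => hak h.symm) (fun h => hbk h.symm)] at hc'
  exact hja ((g : Perm α).injective hc')

theorem centralizer_fixA (P : Set α) (T : Finset α) (hT : ∀ x ∈ T, x ∉ P) (h4 : 4 ≤ T.card) :
    Subgroup.centralizer ((fixA P : Subgroup (alternatingGroup α)) : Set _) = fixA Pᶜ :=
  le_antisymm (centralizer_fixA_le P T hT h4) (fixA_compl_le_centralizer P)

/-- the normalizer of a subgroup normalizes its centralizer -/
theorem normalizer_le_normalizer_centralizer {G : Type*} [Group G] (L : Subgroup G) :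
    Subgroup.normalizer (L : Set G) ≤
      Subgroup.normalizer ((Subgroup.centralizer (L : Set G) : Subgroup G) : Set G) := by
  intro g hg
  have key : ∀ g : G, g ∈ Subgroup.normalizer (L : Set G) → ∀ c,
      c ∈ Subgroup.centralizer (L : Set G) → g * c * g⁻¹ ∈ Subgroup.centralizer (L : Set G) := by
    intro g hg c hc
    rw [Subgroup.mem_centralizer_iff] at hc ⊢
    intro l hl
    have h1 : g⁻¹ * l * g ∈ L := by
      have := (Subgroup.mem_normalizer_iff.mp hg (g⁻¹ * l * g))
      rw [this]
      have e : g * (g⁻¹ * l * g) * g⁻¹ = l := by group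
      rw [e]; exact hl
    have h2 := hc _ h1
    calc l * (g * c * g⁻¹) = g * ((g⁻¹ * l * g) * c) * g⁻¹ := by group
      _ = g * (c * (g⁻¹ * l * g)) * g⁻¹ := by rw [h2]
      _ = g * c * g⁻¹ * l := by group
  rw [Subgroup.mem_normalizer_iff]
  intro c
  constructor
  · exact key g hg c
  · intro h
    have := key g⁻¹ (Subgroup.inv_mem _ hg) _ h
    have e : g⁻¹ * (g * c * g⁻¹) * g⁻¹⁻¹ = c := by group
    rwa [e] at this

/-- an element of the alternating group preserving `P` normalizes the pointwise stabilizer of `P` -/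
theorem mem_normalizer_fixA (P : Set α) (g : alternatingGroup α)
    (hg : ∀ x, (g : Perm α) x ∈ P ↔ x ∈ P) :
    g ∈ Subgroup.normalizer ((fixA P : Subgroup (alternatingGroup α)) : Set _) := by
  have key : ∀ g : alternatingGroup α, (∀ x, (g : Perm α) x ∈ P ↔ x ∈ P) →
      ∀ l ∈ fixA P, g * l * g⁻¹ ∈ fixA P := by
    intro g hg l hl j hj
    show (g : Perm α) ((l : Perm α) (((g : Perm α))⁻¹ j)) = j
    have h1 : ((g : Perm α))⁻¹ j ∈ P := by
      rw [← hg, app_inv]; exact hj
    rw [hl _ h1, app_inv]
  rw [Subgroup.mem_normalizer_iff]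
  intro l
  constructor
  · exact key g hg l
  · intro h
    have hg' : ∀ x, ((g⁻¹ : alternatingGroup α) : Perm α) x ∈ P ↔ x ∈ P := by
      intro x
      have := hg (((g : Perm α))⁻¹ x)
      rw [app_inv] at this
      exact this.symm
    have := key g⁻¹ hg' _ h
    have e : g⁻¹ * (g * l * g⁻¹) * g⁻¹⁻¹ = l := by group
    rwa [e] at this

end Cfsg.Agent.Lib.Helper3.AltStd
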