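import Mathlib
import Cfsg.Prelude.Def_Local
import Cfsg.Agent.Lib.Helper3.Components1
import Cfsg.Agent.Lib.Helper3.AltStd1

set_option autoImplicit false
set_option linter.unusedSectionVars false
set_option linter.style.haveILetI false

/-!
Pointwise stabilizers in alternating groups are standard subgroups.
-/

namespace Cfsg.Agent.Lib.Helper3.AltStd

open Equiv Equiv.Perm
open scoped commutatorElement

variable {α : Type*} [Fintype α] [DecidableEq α]

section emb

variable (p : α → Prop) [DecidablePred p]

/-- the alternating group on a subtype, inside the alternating group -/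
def embA : alternatingGroup (Subtype p) →* alternatingGroup α where
  toFun σ := ⟨Perm.ofSubtype (σ : Perm (Subtype p)), by
    rw [mem_alternatingGroup, Perm.sign_ofSubtype]
    exact mem_alternatingGroup.mp σ.2⟩
  map_one' := by
    apply Subtype.ext
    simp
  map_mul' a b := by
    apply Subtype.ext
    simp

theorem embA_val (σ : alternatingGroup (Subtype p)) :
    ((embA p σ : alternatingGroup α) : Perm α) = Perm.ofSubtype (σ : Perm (Subtype p)) := rfl

theorem embA_injective : Function.Injective (embA p) := by
  intro a b hab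
  have h1 : ((embA p a : alternatingGroup α) : Perm α) = (embA p b : alternatingGroup α) := by
    rw [hab]
  rw [embA_val, embA_val] at h1
  exact Subtype.ext (Perm.ofSubtype_injective h1)

theorem range_embA : (embA p).range = fixA {x | ¬ p x} := by
  ext g
  constructor
  · rintro ⟨σ, rfl⟩ j hj
    rw [embA_val]
    exact Perm.ofSubtype_apply_of_not_mem _ hj
  · intro hg
    have hfix : ∀ x, (g : Perm α) x ≠ x → p x := by
      intro x hx
      by_contra hpx
      exact hx (hg x hpx)
    have hpres : ∀ x, p ((g : Perm α) x) ↔ p x := by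
      intro x
      constructor
      · intro h
        by_contra hpx
        rw [hg x hpx] at h
        exact hpx h
      · intro h
        by_contra hpx
        have h1 : (g : Perm α) ((g : Perm α) x) = (g : Perm α) x := hg _ hpx
        have h2 := (g : Perm α).injective h1
        rw [h2] at hpx
        exact hpx h
    refine ⟨⟨Perm.subtypePerm (g : Perm α) hpres, ?_⟩, ?_⟩
    · rw [mem_alternatingGroup, Perm.sign_subtypePerm _ hpres hfix]
      exact mem_alternatingGroup.mp g.2
    · apply Subtype.ext
      rw [embA_val]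
      exact Perm.ofSubtype_subtypePerm hpres hfix

/-- the pointwise stabilizer of the complement is an alternating group -/
noncomputable def fixAEquiv : alternatingGroup (Subtype p) ≃* fixA {x : α | ¬ p x} :=
  (MonoidHom.ofInjective (embA_injective p)).trans (MulEquiv.subgroupCongr (range_embA p))

end emb

theorem isQuasisimple_alternatingGroup {β : Type*} [Fintype β] [DecidableEq β]
    (h5 : 5 ≤ Fintype.card β) : Cfsg.IsQuasisimple (alternatingGroup β) := by
  have h5' : 5 ≤ Nat.card β := by rw [Nat.card_eq_fintype_card]; exact h5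
  haveI := alternatingGroup.isSimpleGroup h5'
  apply isQuasisimple_of_isSimpleGroup
  by_contra hcon
  have hcon' : ∀ a b : alternatingGroup β, a * b = b * a := by
    intro a b
    by_contra h
    exact hcon ⟨a, b, h⟩
  have hz : Subgroup.center (alternatingGroup β) = ⊤ := by
    rw [eq_top_iff]
    intro a _
    rw [Subgroup.mem_center_iff]
    intro b
    exact hcon' b a
  rw [alternatingGroup.center_eq_bot (by omega)] at hz
  haveI : Nontrivial (alternatingGroup β) := IsSimpleGroup.toNontrivial
  exact bot_ne_top hz

theorem isQuasisimple_fixA (P : Set α) (T : Finset α) (hT : ∀ x, x ∈ T ↔ x ∉ P)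
    (h5 : 5 ≤ T.card) : Cfsg.IsQuasisimple (fixA P) := by
  have hP : P = {x : α | ¬ (x ∈ T)} := by
    ext x
    show x ∈ P ↔ ¬ (x ∈ T)
    rw [hT, not_not]
  rw [hP]
  apply isQuasisimple_of_mulEquiv (fixAEquiv (fun x => x ∈ T))
  refine @isQuasisimple_alternatingGroup _ (Subtype.fintype _) _ ?_
  have := @Fintype.card_of_subtype α (fun x => x ∈ T) T (fun x => Iff.rfl) (Subtype.fintype _)
  rw [this]
  exact h5

/-- an even involution moving at most four points moves exactly four points -/
theorem support_eq_of_involution (t : Perm α) (S : Finset α) (hS4 : S.card = 4)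
    (ht2 : t * t = 1) (ht1 : t ≠ 1) (hs : Perm.sign t = 1) (hsupp : t.support ⊆ S) :
    t.support = S := by
  have hall : ∀ m ∈ t.cycleType, m = 2 := by
    intro m hm
    have h1 := Perm.dvd_of_mem_cycleType hm
    have h2 := Perm.two_le_of_mem_cycleType hm
    have h3 : orderOf t ∣ 2 := orderOf_dvd_of_pow_eq_one (by rw [pow_two]; exact ht2)
    have h4 := Nat.le_of_dvd (by norm_num) (h1.trans h3)
    omega
  have hrep := Multiset.eq_replicate_card.mpr hall
  have hsum : t.cycleType.sum = 2 * Multiset.card t.cycleType := by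
    conv_lhs => rw [hrep]
    rw [Multiset.sum_replicate, smul_eq_mul, mul_comm]
  have hk0 : Multiset.card t.cycleType ≠ 0 := by
    intro h0
    rw [Multiset.card_eq_zero, Perm.cycleType_eq_zero] at h0
    exact ht1 h0
  have hsgn := Perm.sign_of_cycleType t
  rw [hs, hsum] at hsgn
  have hev : Even (2 * Multiset.card t.cycleType + Multiset.card t.cycleType) := by
    by_contra hodd
    rw [Nat.not_even_iff_odd] at hodd
    rw [hodd.neg_one_pow] at hsgn
    exact absurd hsgn (by decide)
  have hev' : Even (Multiset.card t.cycleType) := by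
    rcases hev with ⟨r, hr⟩
    exact ⟨r - Multiset.card t.cycleType, by omega⟩
  have hcard : t.support.card = 2 * Multiset.card t.cycleType := by
    rw [← Perm.sum_cycleType, hsum]
  have hle : t.support.card ≤ 4 := hS4 ▸ Finset.card_le_card hsupp
  apply Finset.eq_of_subset_of_card_le hsupp
  rcases hev' with ⟨r, hr⟩
  omega

/-- a pointwise stabilizer moving four points has even order -/
theorem even_card_fixA (P : Set α) (a b c d : α) (hab : a ≠ b) (hcd : c ≠ d) (hac : a ≠ c)
    (had : a ≠ d) (hbc : b ≠ c) (hbd : b ≠ d) (ha : a ∉ P) (hb : b ∉ P) (hc : c ∉ P)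
    (hd : d ∉ P) : Even (Nat.card (fixA P : Subgroup (alternatingGroup α))) := by
  have hsgn : swap a b * swap c d ∈ alternatingGroup α := by
    rw [mem_alternatingGroup, Perm.sign_mul, sign_swap hab, sign_swap hcd]
    rfl
  have hmem : (⟨swap a b * swap c d, hsgn⟩ : alternatingGroup α) ∈ fixA P := by
    intro j hj
    show (swap a b * swap c d) j = j
    have hja : j ≠ a := by rintro rfl; exact ha hj
    have hjb : j ≠ b := by rintro rfl; exact hb hj
    have hjc : j ≠ c := by rintro rfl; exact hc hj
    have hjd : j ≠ d := by rintro rfl; exact hd hj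
    rw [Perm.mul_apply, swap_apply_of_ne_of_ne hjc hjd, swap_apply_of_ne_of_ne hja hjb]
  let t : fixA P := ⟨⟨swap a b * swap c d, hsgn⟩, hmem⟩
  have ht1 : t ≠ 1 := by
    intro h
    have h1 : (swap a b * swap c d) a = a := by
      have := congrArg (fun x : fixA P => ((x : alternatingGroup α) : Perm α) a) h
      exact this
    rw [Perm.mul_apply, swap_apply_of_ne_of_ne hac had, swap_apply_left] at h1
    exact hab h1.symm
  have hcomm : swap a b * swap c d = swap c d * swap a b := by
    have hd : Perm.Disjoint (swap a b) (swap c d) := by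
      intro x
      by_cases hxa : x = a
      · right
        rw [hxa]
        exact swap_apply_of_ne_of_ne hac had
      · by_cases hxb : x = b
        · right
          rw [hxb]
          exact swap_apply_of_ne_of_ne hbc hbd
        · left
          exact swap_apply_of_ne_of_ne hxa hxb
    exact hd.commute.eq
  have ht2 : t ^ 2 = 1 := by
    apply Subtype.ext
    apply Subtype.ext
    show (swap a b * swap c d) ^ 2 = 1
    rw [pow_two]
    calc swap a b * swap c d * (swap a b * swap c d)
        = swap a b * swap c d * (swap c d * swap a b) := by rw [← hcomm]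
      _ = swap a b * (swap c d * swap c d) * swap a b := by group
      _ = 1 := by rw [swap_mul_self, mul_one, swap_mul_self]
  haveI : Fact (Nat.Prime 2) := ⟨Nat.prime_two⟩
  have ho : orderOf t = 2 := orderOf_eq_prime ht2 ht1
  have hdvd := orderOf_dvd_natCard t
  rw [ho] at hdvd
  exact even_iff_two_dvd.mpr hdvd

/-- the tight embedding property of a pointwise stabilizer moving only four points -/
theorem odd_card_inf_conj (P : Set α) (S : Finset α) (hS : ∀ x, x ∈ S ↔ x ∉ P)
    (hS4 : S.card = 4) (g : alternatingGroup α)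
    (hg : g ∉ Subgroup.normalizer ((fixA P : Subgroup (alternatingGroup α)) : Set _)) :
    Odd (Nat.card ↥((fixA P : Subgroup (alternatingGroup α)) ⊓
      (fixA P).map (MulAut.conj g).toMonoidHom)) := by
  by_contra hodd
  rw [Nat.not_odd_iff_even, even_iff_two_dvd] at hodd
  haveI : Fact (Nat.Prime 2) := ⟨Nat.prime_two⟩
  obtain ⟨t, ht⟩ := exists_prime_orderOf_dvd_card' 2 hodd
  -- general facts about involutions of `fixA P`
  have key : ∀ s : alternatingGroup α, s ∈ fixA P → orderOf s = 2 →
      (s : Perm α).support = S := by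
    intro s hs ho
    have ho' : orderOf (s : Perm α) = 2 := by rw [Subgroup.orderOf_coe]; exact ho
    apply support_eq_of_involution _ S hS4
    · rw [← pow_two, ← ho']
      exact pow_orderOf_eq_one _
    · intro h1
      rw [h1, orderOf_one] at ho'
      exact absurd ho' (by norm_num)
    · exact mem_alternatingGroup.mp s.2
    · intro x hx
      rw [Perm.mem_support] at hx
      rw [hS]
      intro hxP
      exact hx (hs x hxP)
  have hmem := t.2
  rw [Subgroup.mem_inf] at hmem
  obtain ⟨h1, h2⟩ := hmem
  have hot : orderOf (t : alternatingGroup α) = 2 := by rw [Subgroup.orderOf_coe]; exact ht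
  obtain ⟨s, hs, hst⟩ := Subgroup.mem_map.mp h2
  have hst' : g * s * g⁻¹ = (t : alternatingGroup α) := hst
  have hos : orderOf s = 2 := by
    rw [← hot, ← hst']
    have := MulEquiv.orderOf_eq (MulAut.conj g) s
    rw [← this]
    rfl
  have e1 := key _ h1 hot
  have e2 := key s hs hos
  have e3 : ((t : alternatingGroup α) : Perm α) = (g : Perm α) * (s : Perm α) * (g : Perm α)⁻¹ := by
    rw [← hst']
    rfl
  rw [e3, Perm.support_conj, e2] at e1
  apply hg
  apply mem_normalizer_fixA
  intro x
  have hiff : (g : Perm α) x ∈ S ↔ x ∈ S := by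
    constructor
    · intro h
      rw [← e1, Finset.mem_map] at h
      obtain ⟨y, hy, hyx⟩ := h
      have : y = x := (g : Perm α).injective hyx
      rw [← this]
      exact hy
    · intro h
      rw [← e1, Finset.mem_map]
      exact ⟨x, h, rfl⟩
  rw [hS, hS] at hiff
  exact not_iff_not.mp hiff

/-- conjugation by an element of the normalizer -/
theorem map_conj_eq_of_mem_normalizer {G : Type*} [Group G] (L : Subgroup G) (g : G)
    (hg : g ∈ Subgroup.normalizer (L : Set G)) : L.map (MulAut.conj g).toMonoidHom = L := by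
  ext x
  rw [Subgroup.mem_map]
  constructor
  · rintro ⟨l, hl, rfl⟩
    exact (Subgroup.mem_normalizer_iff.mp hg l).mp hl
  · intro hx
    refine ⟨g⁻¹ * x * g, ?_, ?_⟩
    · rw [Subgroup.mem_normalizer_iff.mp hg]
      have e : g * (g⁻¹ * x * g) * g⁻¹ = x := by group
      rw [e]
      exact hx
    · show g * (g⁻¹ * x * g) * g⁻¹ = x
      group

/-- a pointwise stabilizer moving more than half of the points does not commute with its other
conjugates -/
theorem commutator_conj_ne_bot (P : Set α) (T : Finset α) (hT : ∀ x, x ∈ T ↔ x ∉ P)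
    (h3 : 3 ≤ T.card) (hlt : Fintype.card α < 2 * T.card) (g : alternatingGroup α)
    (hg : (fixA P : Subgroup (alternatingGroup α)).map (MulAut.conj g).toMonoidHom ≠ fixA P) :
    ⁅(fixA P : Subgroup (alternatingGroup α)), (fixA P).map (MulAut.conj g).toMonoidHom⁆ ≠ ⊥ := by
  have hnp : ¬ ∀ x, (g : Perm α) x ∈ T ↔ x ∈ T := by
    intro h
    apply hg
    apply map_conj_eq_of_mem_normalizer
    apply mem_normalizer_fixA
    intro x
    have := h x
    rw [hT, hT] at this
    exact not_iff_not.mp this
  set T' : Finset α := T.map (g : Perm α).toEmbedding with hT'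
  have hcT' : T'.card = T.card := Finset.card_map _
  -- a common point
  have hinter : 0 < (T ∩ T').card := by
    have h1 := Finset.card_union_add_card_inter T T'
    have h2 : (T ∪ T').card ≤ Fintype.card α := Finset.card_le_univ _
    omega
  obtain ⟨p, hp⟩ := Finset.card_pos.mp hinter
  rw [Finset.mem_inter] at hp
  obtain ⟨hpT, hpT'⟩ := hp
  -- a point of `T'` outside `T`
  have hns : ¬ T' ⊆ T := by
    intro hsub
    have heq : T' = T := Finset.eq_of_subset_of_card_le hsub (by omega)
    apply hnp
    intro x
    constructor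
    · intro h
      rw [← heq, hT', Finset.mem_map] at h
      obtain ⟨y, hy, hyx⟩ := h
      have : y = x := (g : Perm α).injective hyx
      rw [← this]
      exact hy
    · intro h
      rw [← heq, hT', Finset.mem_map]
      exact ⟨x, h, rfl⟩
  obtain ⟨x', hx'T', hx'T⟩ := Finset.not_subset.mp hns
  obtain ⟨y', hy'T', hy'⟩ := Finset.exists_mem_notMem_of_card_lt_card
    (s := ({p, x'} : Finset α)) (t := T') (by
      have : ({p, x'} : Finset α).card ≤ 2 := Finset.card_le_two
      omega)
  obtain ⟨x, hxT, hx⟩ := Finset.exists_mem_notMem_of_card_lt_card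
    (s := ({p, y'} : Finset α)) (t := T) (by
      have : ({p, y'} : Finset α).card ≤ 2 := Finset.card_le_two
      omega)
  obtain ⟨y, hyT, hy⟩ := Finset.exists_mem_notMem_of_card_lt_card
    (s := ({p, x} : Finset α)) (t := T) (by
      have : ({p, x} : Finset α).card ≤ 2 := Finset.card_le_two
      omega)
  simp only [Finset.mem_insert, Finset.mem_singleton, not_or] at hy' hx hy
  obtain ⟨hy'p, hy'x'⟩ := hy'
  obtain ⟨hxp, hxy'⟩ := hx
  obtain ⟨hyp, hyx⟩ := hy
  have hpx : p ≠ x := fun h => hxp h.symm
  have hxy : x ≠ y := fun h => hyx h.symm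
  have hpy : p ≠ y := fun h => hyp h.symm
  have hpx' : p ≠ x' := by rintro rfl; exact hx'T hpT
  have hx'y' : x' ≠ y' := fun h => hy'x' h.symm
  have hpy' : p ≠ y' := fun h => hy'p h.symm
  have hxx' : x ≠ x' := by rintro rfl; exact hx'T hxT
  have hyx' : y ≠ x' := by rintro rfl; exact hx'T hyT
  -- the two three-cycles
  have hc1 : cyc3 p x y hpx hxy ∈ (fixA P : Subgroup (alternatingGroup α)) :=
    cyc3_mem_fixA p x y hpx hxy ((hT p).mp hpT) ((hT x).mp hxT) ((hT y).mp hyT)
  have hout : ∀ z ∈ T', ∀ j ∈ P, (g : Perm α) j ≠ z := by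
    intro z hz j hj hjz
    rw [hT', Finset.mem_map] at hz
    obtain ⟨w, hw, hwz⟩ := hz
    have : w = j := (g : Perm α).injective (hwz.trans hjz.symm)
    rw [this] at hw
    exact (hT j).mp hw hj
  have hc2 : cyc3 p x' y' hpx' hx'y' ∈
      (fixA P : Subgroup (alternatingGroup α)).map (MulAut.conj g).toMonoidHom := by
    rw [Subgroup.mem_map]
    refine ⟨g⁻¹ * cyc3 p x' y' hpx' hx'y' * g, ?_, ?_⟩
    · intro j hj
      show (g : Perm α)⁻¹ (((cyc3 p x' y' hpx' hx'y' : alternatingGroup α) : Perm α)
        ((g : Perm α) j)) = j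
      rw [cyc3_apply_of_ne p x' y' hpx' hx'y' (hout p hpT' j hj) (hout x' hx'T' j hj)
        (hout y' hy'T' j hj), inv_app]
    · show g * (g⁻¹ * cyc3 p x' y' hpx' hx'y' * g) * g⁻¹ = cyc3 p x' y' hpx' hx'y'
      group
  intro hbot
  have hcomm : ⁅cyc3 p x y hpx hxy, cyc3 p x' y' hpx' hx'y'⁆ ∈
      ⁅(fixA P : Subgroup (alternatingGroup α)), (fixA P).map (MulAut.conj g).toMonoidHom⁆ :=
    Subgroup.commutator_mem_commutator hc1 hc2
  rw [hbot, Subgroup.mem_bot, commutatorElement_eq_one_iff_mul_comm] at hcomm
  have hcomm' := congrArg (fun z : alternatingGroup α => (z : Perm α) p) hcomm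
  simp only [Subgroup.coe_mul, Perm.mul_apply] at hcomm'
  rw [cyc3_apply_left p x' y' hpx' hx'y' hpy', cyc3_apply_left p x y hpx hxy hpy,
    cyc3_apply_of_ne p x y hpx hxy hpx'.symm hxx'.symm hyx'.symm,
    cyc3_apply_of_ne p x' y' hpx' hx'y' hxp hxx' hxy'] at hcomm'
  exact hxx' hcomm'.symm

/-- **Standard subgroups of alternating groups**: the pointwise stabilizer of four points, moving at
least five points and more than half of all points, is a standard subgroup. -/
theorem isStandardSubgroup_fixA (P : Set α) (T : Finset α) (hT : ∀ x, x ∈ T ↔ x ∉ P)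
    (a b c d : α) (hab : a ≠ b) (hcd : c ≠ d) (hac : a ≠ c)
    (had : a ≠ d) (hbc : b ≠ c) (hbd : b ≠ d) (hP : ∀ x, x ∈ P ↔ x = a ∨ x = b ∨ x = c ∨ x = d)
    (h5 : 5 ≤ T.card) (hlt : Fintype.card α < 2 * T.card) :
    Cfsg.IsStandardSubgroup (fixA P : Subgroup (alternatingGroup α)) := by
  classical
  have hS : ∀ x, x ∈ ({a, b, c, d} : Finset α) ↔ x ∈ P := by
    intro x
    rw [hP]
    simp only [Finset.mem_insert, Finset.mem_singleton]
  have hS4 : ({a, b, c, d} : Finset α).card = 4 := by
    rw [Finset.card_insert_of_notMem, Finset.card_insert_of_notMem, Finset.card_insert_of_notMem,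
      Finset.card_singleton]
    · simpa using hcd
    · simp only [Finset.mem_insert, Finset.mem_singleton, not_or]
      exact ⟨hbc, hbd⟩
    · simp only [Finset.mem_insert, Finset.mem_singleton, not_or]
      exact ⟨hab, hac, had⟩
  have hcen : Subgroup.centralizer ((fixA P : Subgroup (alternatingGroup α)) : Set _) = fixA Pᶜ :=
    centralizer_fixA P T (fun x hx => (hT x).mp hx) (by omega)
  have hcen2 : Subgroup.centralizer ((fixA Pᶜ : Subgroup (alternatingGroup α)) : Set _) = fixA P := by
    have := centralizer_fixA Pᶜ ({a, b, c, d} : Finset α)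
      (fun x hx => by
        rw [Set.mem_compl_iff, not_not]
        exact (hS x).mp hx) (by omega)
    rw [this, compl_compl]
  refine ⟨isQuasisimple_fixA P T hT h5, ?_, ?_, ?_⟩
  · rw [hcen]
    refine ⟨even_card_fixA Pᶜ a b c d hab hcd hac had hbc hbd ?_ ?_ ?_ ?_, ?_⟩
    · rw [Set.mem_compl_iff, not_not, hP]; exact Or.inl rfl
    · rw [Set.mem_compl_iff, not_not, hP]; exact Or.inr (Or.inl rfl)
    · rw [Set.mem_compl_iff, not_not, hP]; exact Or.inr (Or.inr (Or.inl rfl))
    · rw [Set.mem_compl_iff, not_not, hP]; exact Or.inr (Or.inr (Or.inr rfl))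
    · intro g hg
      exact odd_card_inf_conj Pᶜ ({a, b, c, d} : Finset α)
        (fun x => by rw [Set.mem_compl_iff, not_not]; exact hS x) hS4 g hg
  · intro g hg
    exact commutator_conj_ne_bot P T hT (by omega) hlt g hg
  · apply le_antisymm
    · exact normalizer_le_normalizer_centralizer _
    · have := normalizer_le_normalizer_centralizer
        (Subgroup.centralizer ((fixA P : Subgroup (alternatingGroup α)) : Set (alternatingGroup α)))
      rw [hcen, hcen2] at this
      rw [hcen]
      exact this

end Cfsg.Agent.Lib.Helper3.AltStd
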