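import Mathlib
import Cfsg.Prelude.Def_ChevB2

set_option autoImplicit false

namespace Cfsg.Agent.Lib.Helper3.B2S6
open Cfsg.Lie Equiv

instance factTwo : Fact (Nat.Prime 2) := ⟨Nat.prime_two⟩

def omA : Fin 6 → Fin 2 → ZMod 2 := ![![0,1],![0,1],![0,1],![0,1],![0,1],![0,1]]
def omB : Fin 6 → Fin 8 → ZMod 2 :=
  ![![0,0,0,1,1,0,0,1], ![0,0,0,1,1,0,0,0], ![1,0,0,1,1,0,0,0], ![1,0,0,0,1,0,0,1],
    ![1,0,0,0,0,0,0,1], ![1,0,0,1,0,0,0,1]]

/-- Six row vectors permuted by `B₂(2)` in the dual of the adjoint module. -/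
def om (i : Fin 6) : chevB2.Idx → ZMod 2 := Sum.elim (omA i) (omB i)

def piTab : Fin 8 → Fin 6 → Fin 6 :=
  ![![1,0,2,3,4,5], ![1,0,5,4,3,2], ![1,0,3,2,5,4], ![0,1,2,4,3,5], ![0,1,2,3,5,4], ![5,2,1,4,3,0],
    ![3,2,1,0,5,4], ![0,2,1,3,4,5]]

theorem om_act : ∀ r : Fin 8, ∀ i : Fin 6,
    Matrix.vecMul (om i) (chevB2.xMat (ZMod 2) r 1) = om (piTab r i) := by
  decide +kernel

theorem om_injective : ∀ i j : Fin 6, om i = om j → i = j := by
  decide +kernel

theorem piTab_invol : ∀ r : Fin 8, ∀ i : Fin 6, piTab r (piTab r i) = i := by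
  decide +kernel

theorem xMat_zero : ∀ r : Fin 8, chevB2.xMat (ZMod 2) r 0 = 1 := by
  decide +kernel

def piPerm (r : Fin 8) : Perm (Fin 6) :=
  ⟨piTab r, piTab r, piTab_invol r, piTab_invol r⟩

/-- The subgroup of `GL` permuting the six vectors (acting on the right). -/
def permSub : Subgroup (GL chevB2.Idx (ZMod 2)) where
  carrier := {g | ∃ σ : Perm (Fin 6), ∀ i,
    Matrix.vecMul (om i) (g : Matrix chevB2.Idx chevB2.Idx (ZMod 2)) = om (σ i)}
  one_mem' := ⟨1, fun i => by simp⟩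
  mul_mem' := by
    rintro g h ⟨σ, hσ⟩ ⟨τ, hτ⟩
    refine ⟨τ * σ, fun i => ?_⟩
    rw [Units.val_mul, ← Matrix.vecMul_vecMul, hσ, hτ]
    rfl
  inv_mem' := by
    rintro g ⟨σ, hσ⟩
    refine ⟨σ⁻¹, fun i => ?_⟩
    have h := hσ (σ⁻¹ i)
    have e : σ (σ⁻¹ i) = i := by simp
    rw [e] at h
    rw [← h, Matrix.vecMul_vecMul, ← Units.val_mul, mul_inv_cancel, Units.val_one, Matrix.vecMul_one]

theorem mem_permSub (g : GL chevB2.Idx (ZMod 2)) :
    g ∈ permSub ↔ ∃ σ : Perm (Fin 6), ∀ i,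
      Matrix.vecMul (om i) (g : Matrix chevB2.Idx chevB2.Idx (ZMod 2)) = om (σ i) := Iff.rfl

theorem zmod_two_cases (t : ZMod 2) : t = 0 ∨ t = 1 := by
  revert t; decide

theorem group_le_permSub : chevB2.group (ZMod 2) ≤ permSub := by
  unfold ChevalleyDatum.group
  rw [Subgroup.closure_le]
  rintro g ⟨r, t, hg⟩
  rw [SetLike.mem_coe, mem_permSub, hg]
  rcases zmod_two_cases t with rfl | rfl
  · refine ⟨1, fun i => ?_⟩
    rw [xMat_zero r]
    simp
  · exact ⟨piPerm r, fun i => om_act r i⟩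

noncomputable def sig (g : permSub) : Perm (Fin 6) := Classical.choose g.2

theorem sig_spec (g : permSub) (i : Fin 6) :
    Matrix.vecMul (om i) ((g : GL chevB2.Idx (ZMod 2)) : Matrix chevB2.Idx chevB2.Idx (ZMod 2)) =
      om (sig g i) :=
  Classical.choose_spec g.2 i

theorem sig_unique (g : permSub) (σ : Perm (Fin 6))
    (h : ∀ i, Matrix.vecMul (om i)
      ((g : GL chevB2.Idx (ZMod 2)) : Matrix chevB2.Idx chevB2.Idx (ZMod 2)) = om (σ i)) :
    sig g = σ := by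
  ext i
  apply congrArg Fin.val
  apply om_injective
  rw [← sig_spec, h]

/-- The permutation representation on the six vectors. -/
noncomputable def phi : permSub →* Perm (Fin 6) where
  toFun g := (sig g)⁻¹
  map_one' := by
    rw [sig_unique 1 1 (fun i => by simp)]
    simp
  map_mul' g h := by
    rw [sig_unique (g * h) (sig h * sig g), mul_inv_rev]
    intro i
    rw [Subgroup.coe_mul, Units.val_mul, ← Matrix.vecMul_vecMul, sig_spec, sig_spec]
    rfl

theorem phi_eq (g : permSub) (σ : Perm (Fin 6))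
    (h : ∀ i, Matrix.vecMul (om i)
      ((g : GL chevB2.Idx (ZMod 2)) : Matrix chevB2.Idx chevB2.Idx (ZMod 2)) = om (σ i)) :
    phi g = σ⁻¹ := by
  show (sig g)⁻¹ = σ⁻¹
  rw [sig_unique g σ h]

/-- The root elements `x_r(1)` as elements of `B₂(2)`. -/
noncomputable def xg (r : Fin 8) : ↥(chevB2.group (ZMod 2)) :=
  ⟨⟨chevB2.xMat (ZMod 2) r 1, chevB2.xMat (ZMod 2) r 1, by
      revert r; decide +kernel, by revert r; decide +kernel⟩,
    Subgroup.subset_closure ⟨r, 1, rfl⟩⟩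

noncomputable def psi : ↥(chevB2.group (ZMod 2)) →* Perm (Fin 6) :=
  phi.comp (Subgroup.inclusion group_le_permSub)

theorem psi_xg (r : Fin 8) : psi (xg r) = piPerm r := by
  have h : psi (xg r) = (piPerm r)⁻¹ := by
    apply phi_eq
    intro i
    exact om_act r i
  rw [h]
  ext i
  apply congrArg Fin.val
  show piTab r i = piTab r i
  rfl

end Cfsg.Agent.Lib.Helper3.B2S6
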