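import Cfsg.Agent.Lib.Helper3.B2S6

set_option autoImplicit false
open Cfsg.Lie Equiv

namespace Cfsg.Agent.Lib.Helper3.B2S6

theorem swap_eq : ∀ i : Fin 5, swap i.castSucc i.succ =
    ![piPerm 0, piPerm 7, piPerm 6 * piPerm 0 * piPerm 6, piPerm 3, piPerm 4] i := by
  decide

theorem psi_surjective : Function.Surjective psi := by
  rw [← MonoidHom.range_eq_top]
  have h : (⊤ : Submonoid (Perm (Fin 6))) ≤ (psi.range).toSubmonoid := by
    rw [← Equiv.Perm.mclosure_swap_castSucc_succ 5, Submonoid.closure_le]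
    rintro _ ⟨i, rfl⟩
    show swap i.castSucc i.succ ∈ psi.range
    rw [swap_eq i]
    fin_cases i
    · exact ⟨xg 0, psi_xg 0⟩
    · exact ⟨xg 7, psi_xg 7⟩
    · exact ⟨xg 6 * xg 0 * xg 6, by rw [map_mul, map_mul, psi_xg, psi_xg]; rfl⟩
    · exact ⟨xg 3, psi_xg 3⟩
    · exact ⟨xg 4, psi_xg 4⟩
  apply top_unique
  intro x _
  exact h (Submonoid.mem_top x)

end Cfsg.Agent.Lib.Helper3.B2S6
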