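import Cfsg.Agent.Lib.Helper3.DS1
import Cfsg.Agent.Lib.Helper3.StU1

/-!
# Central extensions of a group with Steinberg data of type `D`: lifting the data
-/

set_option linter.unusedSectionVars false
set_option linter.unusedVariables false
set_option linter.unusedSimpArgs false

namespace Cfsg.Agent.Lib.Helper3.DS

open Cfsg.Agent.Lib.Helper3.DN Cfsg.Agent.Lib.Helper3.StU
open scoped commutatorElement

/-- four indices, and their opposites, can always be avoided -/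
def Fresh {J : Type*} (ν : J → J) : Prop :=
  ∀ a b c d : J, ∃ h, h ≠ a ∧ h ≠ b ∧ h ≠ c ∧ h ≠ d ∧ h ≠ ν a ∧ h ≠ ν b ∧ h ≠ ν c ∧ h ≠ ν d

section grp
variable {E : Type*} [Group E]

theorem commute_of_central {z x : E} (hz : z ∈ Subgroup.center E) : Commute x z :=
  (Subgroup.mem_center_iff.1 hz x)

/-- an element commuting with `y`, `y'` modulo the centre commutes with `⁅y, y'⁆` -/
theorem commute_comm {w y y' : E} (h1 : ⁅w, y⁆ ∈ Subgroup.center E)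
    (h2 : ⁅w, y'⁆ ∈ Subgroup.center E) : Commute w ⁅y, y'⁆ := by
  have e1 : w * y * w⁻¹ = y * ⁅w, y⁆ := by
    rw [(commute_of_central h1 (x := y)).eq, commutatorElement_def]; group
  have e2 : w * y' * w⁻¹ = y' * ⁅w, y'⁆ := by
    rw [(commute_of_central h2 (x := y')).eq, commutatorElement_def]; group
  have e3 : w * ⁅y, y'⁆ * w⁻¹ = ⁅y, y'⁆ := by
    rw [conj_comm, e1, e2, comm_mul_central_left h1, comm_mul_central_right h2]
  show w * ⁅y, y'⁆ = ⁅y, y'⁆ * w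
  calc w * ⁅y, y'⁆ = w * ⁅y, y'⁆ * w⁻¹ * w := by group
    _ = ⁅y, y'⁆ * w := by rw [e3]

/-- the Hall–Witt type identity used for the independence of the auxiliary index -/
theorem hw_aux {a b c : E} (hac : Commute a c) (h1 : Commute ⁅a, b⁆ ⁅b, c⁆)
    (h2 : Commute ⁅b, c⁆ c) : ⁅a, ⁅b, c⁆⁆ = ⁅⁅a, b⁆, c⁆ := by
  have e0 : c⁻¹ * a⁻¹ = a⁻¹ * c⁻¹ := (hac.inv_inv).eq.symm
  have e1 : a * ⁅b, c⁆ * a⁻¹ = ⁅a, b⁆ * ⁅b, c⁆ * (c * (⁅a, b⁆)⁻¹ * c⁻¹) := by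
    have l : a * ⁅b, c⁆ * a⁻¹ = a * b * c * b⁻¹ * (c⁻¹ * a⁻¹) := by
      rw [commutatorElement_def]; group
    have r : ⁅a, b⁆ * ⁅b, c⁆ * (c * (⁅a, b⁆)⁻¹ * c⁻¹) =
        a * b * (a⁻¹ * (c * a)) * b⁻¹ * (a⁻¹ * c⁻¹) := by
      simp only [commutatorElement_def]; group
    rw [l, r, e0, ← hac.eq]
    group
  calc ⁅a, ⁅b, c⁆⁆ = a * ⁅b, c⁆ * a⁻¹ * (⁅b, c⁆)⁻¹ := by rw [commutatorElement_def]
    _ = ⁅a, b⁆ * ⁅b, c⁆ * (c * (⁅a, b⁆)⁻¹ * c⁻¹) * (⁅b, c⁆)⁻¹ := by rw [e1]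
    _ = ⁅a, b⁆ * (⁅b, c⁆ * c) * (⁅a, b⁆)⁻¹ * c⁻¹ * (⁅b, c⁆)⁻¹ := by group
    _ = ⁅a, b⁆ * (c * ⁅b, c⁆) * (⁅a, b⁆)⁻¹ * c⁻¹ * (⁅b, c⁆)⁻¹ := by rw [h2.eq]
    _ = ⁅a, b⁆ * c * (⁅b, c⁆ * (⁅a, b⁆)⁻¹) * c⁻¹ * (⁅b, c⁆)⁻¹ := by group
    _ = ⁅a, b⁆ * c * ((⁅a, b⁆)⁻¹ * ⁅b, c⁆) * c⁻¹ * (⁅b, c⁆)⁻¹ := by
        rw [(h1.inv_left).eq]
    _ = ⁅a, b⁆ * c * (⁅a, b⁆)⁻¹ * (⁅b, c⁆ * c⁻¹) * (⁅b, c⁆)⁻¹ := by group
    _ = ⁅a, b⁆ * c * (⁅a, b⁆)⁻¹ * (c⁻¹ * ⁅b, c⁆) * (⁅b, c⁆)⁻¹ := by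
        rw [(h2.inv_right).eq]
    _ = ⁅⁅a, b⁆, c⁆ := by rw [commutatorElement_def ⁅a, b⁆ c]; group

/-- the fork relation is a consequence of the others -/
theorem fork_aux {a b A B P F F' g : E} (hF : F = ⁅a, b⁆) (hFc : ∀ x, F * x = x * F)
    (hF' : F' = ⁅A, B⁆) (hF'c : ∀ x, F' * x = x * F')
    (h3 : ⁅a, B⁆ = P⁻¹) (h4 : ⁅A, b⁆ = P)
    (hPA : Commute P A) (hPB : Commute P B) (hPa : Commute P a) (hPb : Commute P b)
    (hga : g * a * g⁻¹ = A * a) (hgb : g * b * g⁻¹ = B * b) : F' = 1 := by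
  have e1 : a * b = F * b * a := by rw [hF, commutatorElement_def]; group
  have e2 : A * B = F' * B * A := by rw [hF', commutatorElement_def]; group
  have e3 : a * B = P⁻¹ * B * a := by rw [← h3, commutatorElement_def]; group
  have e4 : A * b = P * b * A := by rw [← h4, commutatorElement_def]; group
  have hP'A : P⁻¹ * A = A * P⁻¹ := (hPA.inv_left).eq
  have hP'B : P⁻¹ * B = B * P⁻¹ := (hPB.inv_left).eq
  have k1 : (A * a) * (B * b) = F * F' * ((B * b) * (A * a)) := by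
    calc (A * a) * (B * b) = A * (a * B) * b := by group
      _ = A * (P⁻¹ * B * a) * b := by rw [e3]
      _ = (A * P⁻¹) * B * (a * b) := by group
      _ = (P⁻¹ * A) * B * (a * b) := by rw [hP'A]
      _ = P⁻¹ * (A * B) * (a * b) := by group
      _ = P⁻¹ * (F' * B * A) * (F * b * a) := by rw [e1, e2]
      _ = P⁻¹ * (F' * B * (A * F) * b * a) := by group
      _ = P⁻¹ * (F' * B * (F * A) * b * a) := by rw [hFc A]
      _ = P⁻¹ * (F' * (B * F) * (A * b) * a) := by group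
      _ = P⁻¹ * (F' * (F * B) * (P * b * A) * a) := by rw [hFc B, e4]
      _ = (P⁻¹ * F') * F * (B * P) * b * A * a := by group
      _ = (F' * P⁻¹) * F * (P * B) * b * A * a := by rw [hF'c P⁻¹, hPB.eq]
      _ = F' * (P⁻¹ * F) * P * B * b * A * a := by group
      _ = F' * (F * P⁻¹) * P * B * b * A * a := by rw [hFc P⁻¹]
      _ = (F' * F) * (B * b * (A * a)) := by group
      _ = F * F' * ((B * b) * (A * a)) := by rw [hF'c F]
  have k2 : ⁅A * a, B * b⁆ = F := by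
    rw [← hga, ← hgb, ← conj_comm, ← hF, ← hFc g]
    group
  have k3 : ⁅A * a, B * b⁆ = F * F' := by
    rw [commutatorElement_def, k1]
    group
  rw [k2] at k3
  exact (mul_eq_left.1 k3.symm)

end grp

/-- a central extension of a group with Steinberg data of type `D` -/
structure CExt {J K Γ : Type*} [Field K] [Group Γ] {ν : J → J} (D : DData J K Γ ν)
    (E : Type*) [Group E] where
  π : E →* Γ
  surj : Function.Surjective π
  central : π.ker ≤ Subgroup.center E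
  fresh : Fresh ν

section cext
variable {J K Γ E : Type*} [Field K] [Group Γ] [Group E] {ν : J → J} {D : DData J K Γ ν}
  (T : CExt D E)

theorem tri_of_fresh (D : DData J K Γ ν) {i j k m h : J}
    (hh : h ≠ i ∧ h ≠ j ∧ h ≠ k ∧ h ≠ m ∧ h ≠ ν i ∧ h ≠ ν j ∧ h ≠ ν k ∧ h ≠ ν m)
    (hkm : k ≠ m) (hkm' : k ≠ ν m) : Tri ν k h m :=
  ⟨hh.2.2.1.symm, hkm, hh.2.2.2.1, D.ne_nu_symm hh.2.2.2.2.2.2.1, hkm', hh.2.2.2.2.2.2.2⟩

namespace CExt

/-- a chosen preimage -/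
noncomputable def lift (g : Γ) : E := Function.surjInv T.surj g

theorem π_lift (g : Γ) : T.π (T.lift g) = g := Function.surjInv_eq T.surj g

theorem mem_center_of_π_eq_one {e : E} (h : T.π e = 1) : e ∈ Subgroup.center E :=
  T.central (MonoidHom.mem_ker.2 h)

theorem comm_central {a b : E} (h : Commute (T.π a) (T.π b)) : ⁅a, b⁆ ∈ Subgroup.center E :=
  T.central (comm_mem_ker T.π h)

theorem commute_of_π_eq {w g e : E} (h : Commute w g) (he : T.π e = T.π g) : Commute w e := by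
  have hz : g⁻¹ * e ∈ Subgroup.center E :=
    T.mem_center_of_π_eq_one (by rw [map_mul, map_inv, he, inv_mul_cancel])
  have e1 : e = g * (g⁻¹ * e) := by group
  rw [e1]
  exact h.mul_right (commute_of_central hz)

include T in
theorem exists_tri {k l : J} (h1 : k ≠ l) (h2 : k ≠ ν l) : ∃ h, Tri ν k h l := by
  obtain ⟨h, hh⟩ := T.fresh k l k l
  exact ⟨h, tri_of_fresh D hh h1 h2⟩

/-- Step 1: lifts of commuting root elements commute -/
theorem commute_of_lifts {k l p m : J} {t u : K} {e₁ e₂ : E} (h1 : l ≠ p) (h2 : k ≠ m)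
    (h3 : k ≠ ν p) (h4 : l ≠ ν m) (he₁ : T.π e₁ = D.y k l t) (he₂ : T.π e₂ = D.y p m u) :
    Commute e₁ e₂ := by
  by_cases hpm : p = m
  · subst hpm
    rw [D.y_self] at he₂
    exact commute_of_central (T.mem_center_of_π_eq_one he₂)
  by_cases hpm' : p = ν m
  · subst hpm'
    rw [D.y_opp'] at he₂
    exact commute_of_central (T.mem_center_of_π_eq_one he₂)
  obtain ⟨h, hh⟩ := T.fresh k l p m
  have hT : Tri ν p h m := tri_of_fresh D hh hpm hpm'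
  have hrel := D.y_rel p h m u 1 hT.ab hT.bc hT.ac hT.ab' hT.bc' hT.ac'
  rw [mul_one] at hrel
  set b := T.lift (D.y p h u) with hb
  set c := T.lift (D.y h m 1) with hc
  have hπb : T.π b = D.y p h u := T.π_lift _
  have hπc : T.π c = D.y h m 1 := T.π_lift _
  have c1 : ⁅e₁, b⁆ ∈ Subgroup.center E := by
    apply T.comm_central
    rw [he₁, hπb]
    exact D.y_comm k l p h t u h1 hh.1.symm h3 (D.ne_nu_symm hh.2.2.2.2.2.1)
  have c2 : ⁅e₁, c⁆ ∈ Subgroup.center E := by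
    apply T.comm_central
    rw [he₁, hπc]
    exact D.y_comm k l h m t 1 hh.2.1.symm h2 (D.ne_nu_symm hh.2.2.2.2.1) h4
  have c3 : Commute e₁ ⁅b, c⁆ := commute_comm c1 c2
  apply T.commute_of_π_eq c3
  rw [he₂, map_commutatorElement, hπb, hπc, commutatorElement_def, hrel]

/-- the bracket of lifts -/
noncomputable def M (h i j : J) (t u : K) : E := ⁅T.lift (D.y i h t), T.lift (D.y h j u)⁆

theorem M_eq {h i j : J} {t u : K} {a b : E} (ha : T.π a = D.y i h t) (hb : T.π b = D.y h j u) :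
    ⁅a, b⁆ = T.M h i j t u :=
  comm_congr T.π T.central (ha.trans (T.π_lift _).symm) (hb.trans (T.π_lift _).symm)

theorem π_M {h i j : J} (hT : Tri ν i h j) (t u : K) : T.π (T.M h i j t u) = D.y i j (t * u) := by
  unfold M
  rw [map_commutatorElement, T.π_lift, T.π_lift, commutatorElement_def]
  exact D.y_rel i h j t u hT.ab hT.bc hT.ac hT.ab' hT.bc' hT.ac'

theorem M_comm_M {i j h h' : J} (hT : Tri ν i h j) (hT' : Tri ν i h' j) (t u t' u' : K) :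
    Commute (T.M h i j t u) (T.M h' i j t' u') :=
  T.commute_of_lifts hT.ac.symm hT.ac (D.ne_nu i) (D.ne_nu j) (T.π_M hT t u) (T.π_M hT' t' u')

theorem M_add_left {h i j : J} (hT : Tri ν i h j) (t t' u : K) :
    T.M h i j (t + t') u = T.M h i j t u * T.M h i j t' u := by
  set a := T.lift (D.y i h t) with ha
  set a' := T.lift (D.y i h t') with ha'
  set b := T.lift (D.y h j u) with hb
  have e1 : T.π (a * a') = D.y i h (t + t') := by
    rw [map_mul, T.π_lift, T.π_lift, D.y_add]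
  rw [← T.M_eq e1 (T.π_lift _), comm_mul_left_eq]
  have e2 : ⁅a', b⁆ = T.M h i j t' u := rfl
  have e3 : ⁅a, b⁆ = T.M h i j t u := rfl
  have c1 : Commute a ⁅a', b⁆ := by
    rw [e2]
    exact T.commute_of_lifts hT.ab.symm hT.ac (D.ne_nu i) hT.bc' (T.π_lift _) (T.π_M hT t' u)
  have e4 : a * ⁅a', b⁆ * a⁻¹ * ⁅a, b⁆ = ⁅a', b⁆ * ⁅a, b⁆ := by rw [c1.eq]; group
  rw [e4, e2, e3, (T.M_comm_M hT hT t' u t u).eq]

theorem M_add_right {h i j : J} (hT : Tri ν i h j) (t u u' : K) :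
    T.M h i j t (u + u') = T.M h i j t u * T.M h i j t u' := by
  set a := T.lift (D.y i h t) with ha
  set b := T.lift (D.y h j u) with hb
  set b' := T.lift (D.y h j u') with hb'
  have e1 : T.π (b * b') = D.y h j (u + u') := by
    rw [map_mul, T.π_lift, T.π_lift, D.y_add]
  rw [← T.M_eq (T.π_lift _) e1, comm_mul_right_eq]
  have e2 : ⁅a, b'⁆ = T.M h i j t u' := rfl
  have e3 : ⁅a, b⁆ = T.M h i j t u := rfl
  have c1 : Commute b ⁅a, b'⁆ := by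
    rw [e2]
    exact T.commute_of_lifts hT.ac.symm hT.bc (D.ne_nu_symm hT.ab') (D.ne_nu j) (T.π_lift _)
      (T.π_M hT t u')
  have e4 : b * ⁅a, b'⁆ * b⁻¹ = ⁅a, b'⁆ := by rw [c1.eq]; group
  rw [e4, e2, e3]

/-- the associativity relation between the brackets -/
theorem M_assoc {i h k j : J} (h1 : Tri ν i h k) (h2 : Tri ν i h j) (h3 : Tri ν i k j)
    (h4 : Tri ν h k j) (t s u : K) : T.M h i j t (s * u) = T.M k i j (t * s) u := by
  set a := T.lift (D.y i h t) with ha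
  set b := T.lift (D.y h k s) with hb
  set c := T.lift (D.y k j u) with hc
  have hx : T.π ⁅a, b⁆ = D.y i k (t * s) := T.π_M h1 t s
  have hy : T.π ⁅b, c⁆ = D.y h j (s * u) := T.π_M h4 s u
  have hac : Commute a c :=
    T.commute_of_lifts h1.bc h2.ac h1.ac' h2.bc' (T.π_lift _) (T.π_lift _)
  have hxy : Commute ⁅a, b⁆ ⁅b, c⁆ :=
    T.commute_of_lifts h1.bc.symm h2.ac h1.ab' h3.bc' hx hy
  have hyc : Commute ⁅b, c⁆ c :=
    T.commute_of_lifts h3.bc.symm h4.ac h4.ab' (D.ne_nu j) hy (T.π_lift _)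
  rw [← T.M_eq (T.π_lift _) hy, ← T.M_eq hx (T.π_lift _)]
  exact hw_aux hac hxy hyc

theorem M_indep {i j h k : J} (hT : Tri ν i h j) (hT' : Tri ν i k j) (t u : K) :
    T.M h i j t u = T.M k i j t u := by
  obtain ⟨p, hp⟩ := T.fresh i j h k
  have q1 : Tri ν i h p :=
    ⟨hT.ab, hp.1.symm, hp.2.2.1.symm, hT.ab', D.ne_nu_symm hp.2.2.2.2.1,
      D.ne_nu_symm hp.2.2.2.2.2.2.1⟩
  have q2 : Tri ν i p j :=
    ⟨hp.1.symm, hT.ac, hp.2.1, D.ne_nu_symm hp.2.2.2.2.1, hT.ac', hp.2.2.2.2.2.1⟩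
  have q3 : Tri ν h p j :=
    ⟨hp.2.2.1.symm, hT.bc, hp.2.1, D.ne_nu_symm hp.2.2.2.2.2.2.1, hT.bc', hp.2.2.2.2.2.1⟩
  have q4 : Tri ν i k p :=
    ⟨hT'.ab, hp.1.symm, hp.2.2.2.1.symm, hT'.ab', D.ne_nu_symm hp.2.2.2.2.1,
      D.ne_nu_symm hp.2.2.2.2.2.2.2⟩
  have q5 : Tri ν k p j :=
    ⟨hp.2.2.2.1.symm, hT'.bc, hp.2.1, D.ne_nu_symm hp.2.2.2.2.2.2.2, hT'.bc', hp.2.2.2.2.2.1⟩
  have e1 := T.M_assoc q1 hT q2 q3 t 1 u
  have e2 := T.M_assoc q4 hT' q2 q5 t 1 u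
  rw [one_mul, mul_one] at e1 e2
  rw [e1, e2]

theorem M_mul {i j h : J} (hT : Tri ν i h j) (t s u : K) :
    T.M h i j t (s * u) = T.M h i j (t * s) u := by
  obtain ⟨p, hp⟩ := T.fresh i j h h
  have q1 : Tri ν i h p :=
    ⟨hT.ab, hp.1.symm, hp.2.2.1.symm, hT.ab', D.ne_nu_symm hp.2.2.2.2.1,
      D.ne_nu_symm hp.2.2.2.2.2.2.1⟩
  have q2 : Tri ν i p j :=
    ⟨hp.1.symm, hT.ac, hp.2.1, D.ne_nu_symm hp.2.2.2.2.1, hT.ac', hp.2.2.2.2.2.1⟩
  have q3 : Tri ν h p j :=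
    ⟨hp.2.2.1.symm, hT.bc, hp.2.1, D.ne_nu_symm hp.2.2.2.2.2.2.1, hT.bc', hp.2.2.2.2.2.1⟩
  rw [T.M_assoc q1 hT q2 q3 t s u, T.M_indep q2 hT]

end CExt

end cext

end Cfsg.Agent.Lib.Helper3.DS
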