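import Cfsg.Agent.Lib.Helper3.BL3

/-!
# Central extensions of groups with Steinberg data of type `B`: the short root elements
-/

set_option linter.unusedSectionVars false
set_option linter.unusedVariables false
set_option linter.unusedSimpArgs false

namespace Cfsg.Agent.Lib.Helper3.BL

open Cfsg.Agent.Lib.Helper3.DN Cfsg.Agent.Lib.Helper3.DS Cfsg.Agent.Lib.Helper3.BN
  Cfsg.Agent.Lib.Helper3.StU
open scoped commutatorElement

section bext
variable {J K Γ E : Type*} [Field K] [Group Γ] [Group E] {ν : J → J} {B : BData J K Γ ν}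
  (T : BExt B E)

namespace BExt

/-- the candidate for the lift of the short root element `Y k (s * w)` -/
noncomputable def Z (l k : J) (s w : K) : E :=
  ⁅T.lift (B.D.y k l s), T.lift (B.Y l w)⁆ * (T.xh k (ν l) (s * w ^ 2))⁻¹

theorem Z_eq {l k : J} {s w : K} {e₁ e₂ : E} (he₁ : T.π e₁ = B.D.y k l s)
    (he₂ : T.π e₂ = B.Y l w) : ⁅e₁, e₂⁆ = T.Z l k s w * T.xh k (ν l) (s * w ^ 2) := by
  unfold Z
  rw [T.comm_eq (he₁.trans (T.π_lift _).symm) (he₂.trans (T.π_lift _).symm)]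
  group

theorem π_Z {l k : J} (h1 : k ≠ l) (h2 : k ≠ ν l) (s w : K) :
    T.π (T.Z l k s w) = B.Y k (s * w) := by
  unfold Z
  rw [map_mul, map_inv, map_commutatorElement, T.π_lift, T.π_lift, T.π_xh, commutatorElement_def,
    B.XY_rel k l s w h1 h2]
  group

/-- the Hall–Witt type computation for the candidates -/
theorem Z_HW {k l p : J} (hT : Tri ν k l p) (s t u : K) :
    T.Z l k s (t * u) = T.Z p k (s * t) u := by
  have hνν := B.D.nu_nu
  have hkl := hT.ab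
  have hkp := hT.ac
  have hlp := hT.bc
  have hkl' := hT.ab'
  have hkp' := hT.ac'
  have hlp' := hT.bc'
  have hlk' : l ≠ ν k := fun h => hkl' (by rw [h, hνν])
  have hpk' : p ≠ ν k := fun h => hkp' (by rw [h, hνν])
  have hpl' : p ≠ ν l := fun h => hlp' (by rw [h, hνν])
  set a := T.lift (B.D.y k l s) with ha
  set b := T.lift (B.D.y l p t) with hb
  set c := T.lift (B.Y p u) with hc
  set d := T.xh l (ν p) (t * u ^ 2) with hd
  set Zl := T.Z p l t u with hZl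
  set ZZ := T.Z p k (s * t) u with hZZ
  set y := ⁅b, c⁆ with hy
  have πa : T.π a = B.D.y k l s := T.π_lift _
  have πb : T.π b = B.D.y l p t := T.π_lift _
  have πc : T.π c = B.Y p u := T.π_lift _
  have πZl : T.π Zl = B.Y l (t * u) := T.π_Z hlp hlp' t u
  have πZZ : T.π ZZ = B.Y k (s * t * u) := T.π_Z hkp hkp' (s * t) u
  have hyd : y = Zl * d := T.Z_eq πb πc
  -- the left hand side
  have lhs : ⁅a, y * d⁻¹⁆ = T.Z l k s (t * u) * T.xh k (ν l) (s * (t * u) ^ 2) := by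
    apply T.Z_eq πa
    rw [hyd, mul_inv_cancel_right, πZl]
  -- (i)
  have T1 : Tri ν k l (ν p) :=
    ⟨hkl, hkp', hlp', hkl', by rw [hνν]; exact hkp, by rw [hνν]; exact hlp⟩
  have i1 : ⁅a, d⁻¹⁆ = T.xh k (ν p) (-(s * t * u ^ 2)) := by
    have e1 : T.π d⁻¹ = B.D.y l (ν p) (-(t * u ^ 2)) := by
      rw [map_inv, T.π_xh, B.D.y_neg]
    rw [T.xh_rel T1 s (-(t * u ^ 2)) πa e1]
    congr 1
    ring
  -- (iii)
  set x := ⁅a, b⁆ with hx
  have hxe : x = T.xh k p (s * t) := T.xh_rel hT s t πa πb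
  have πx : T.π x = B.D.y k p (s * t) := by rw [hxe, T.π_xh]
  have hac : Commute a c := T.XY_lift (Ne.symm hlp) hpk' πa πc
  have e1 : a * b * a⁻¹ = x * b := by rw [hx, commutatorElement_def]; group
  have e2 : a * c * a⁻¹ = c := by rw [hac.eq]; group
  set X₃ := T.xh k (ν p) (s * t * u ^ 2) with hX₃
  have e3 : ⁅x, c⁆ = ZZ * X₃ := T.Z_eq (l := p) (k := k) (s := s * t) (w := u) πx πc
  set W₁ := T.xh k (ν l) (-(s * t ^ 2 * u ^ 2)) with hW₁
  have T2 : Tri ν k p (ν l) :=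
    ⟨hkp, hkl', hpl', hkp', by rw [hνν]; exact hkl, by rw [hνν]; exact Ne.symm hlp⟩
  have e4 : ⁅x, d⁆ = W₁ := by
    have q : T.π d = B.D.y p (ν l) (-(t * u ^ 2)) := by
      rw [hd, T.π_xh, B.D.y_flip, hνν]
    rw [T.xh_rel T2 (s * t) (-(t * u ^ 2)) πx q, hW₁]
    congr 1
    ring
  have hxZl : Commute x Zl := T.XY_lift hlp hlk' πx πZl
  have hW₁Zl : Commute W₁ Zl :=
    T.XY_lift (B.D.ne_nu l) hlk' (T.π_xh _ _ _) πZl
  have e5 : x * y * x⁻¹ = W₁ * y := by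
    rw [hyd]
    have q : x * Zl * x⁻¹ = Zl := by rw [hxZl.eq]; group
    calc x * (Zl * d) * x⁻¹ = (x * Zl * x⁻¹) * (x * d * x⁻¹ * d⁻¹) * d := by group
      _ = Zl * ⁅x, d⁆ * d := by rw [q, commutatorElement_def]
      _ = Zl * W₁ * d := by rw [e4]
      _ = W₁ * (Zl * d) := by rw [← hW₁Zl.eq]; group
  have e6 : a * y * a⁻¹ = W₁ * y * (ZZ * X₃) := by
    have q : a * ⁅b, c⁆ * a⁻¹ = x * ⁅b, c⁆ * x⁻¹ * ⁅x, c⁆ := by
      rw [conj_comm, e1, e2, comm_mul_left_eq]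
    rw [← hy] at q
    rw [q, e5, e3]
  have i1' : ⁅a, d⁻¹⁆ = X₃⁻¹ := by rw [i1, hX₃, ← T.xh_neg]
  have e7 : ⁅a, y * d⁻¹⁆ = W₁ * (y * ZZ * y⁻¹) := by
    rw [comm_mul_right_eq, i1', commutatorElement_def a y, e6]
    group
  have hdZZ : Commute d ZZ := T.XY_lift hkp' hkl' (T.π_xh _ _ _) πZZ
  set W₂ := T.xh k (ν l) (2 * s * t ^ 2 * u ^ 2) with hW₂
  have e8 : ⁅Zl, ZZ⁆ = W₂ := by
    have q : ⁅Zl, ZZ⁆ = T.N l (ν k) (t * u) (-(s * t * u)) := by
      apply T.N_eq πZl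
      rw [hνν, neg_neg]
      exact πZZ
    rw [q, T.N_eq_xh hlk' (by rw [hνν]; exact Ne.symm hkl), T.xh_flip, hνν, hW₂]
    congr 1
    ring
  have e9 : y * ZZ * y⁻¹ = W₂ * ZZ := by
    rw [hyd]
    have q : d * ZZ * d⁻¹ = ZZ := by rw [hdZZ.eq]; group
    calc Zl * d * ZZ * (Zl * d)⁻¹ = Zl * (d * ZZ * d⁻¹) * Zl⁻¹ := by group
      _ = Zl * ZZ * Zl⁻¹ * ZZ⁻¹ * ZZ := by rw [q]; group
      _ = W₂ * ZZ := by rw [← e8, commutatorElement_def]
  set V := T.xh k (ν l) (s * (t * u) ^ 2) with hV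
  have e10 : W₁ * W₂ = V := by
    rw [hW₁, hW₂, ← T.xh_add, hV]
    congr 1
    ring
  have hVZZ : Commute V ZZ := T.XY_lift hkl' (B.D.ne_nu k) (T.π_xh _ _ _) πZZ
  rw [e7, e9, ← mul_assoc, e10, hVZZ.eq] at lhs
  exact (mul_right_cancel lhs).symm

/-- the choice of an auxiliary index -/
noncomputable def aux (k : J) : J := Classical.choose (T.third k k)

theorem aux_ne (k : J) : k ≠ T.aux k := (Classical.choose_spec (T.third k k)).1.symm

theorem aux_ne' (k : J) : k ≠ ν (T.aux k) := by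
  intro h
  have h1 : T.aux k ≠ ν k := (Classical.choose_spec (T.third k k)).2.2.1
  apply h1
  calc T.aux k = ν (ν (T.aux k)) := (B.D.nu_nu _).symm
    _ = ν k := by rw [← h]

/-- the canonical lifts of the short root elements -/
noncomputable def yh (k : J) (x : K) : E := T.Z (T.aux k) k x 1

theorem Z_eq_Z {k l l' : J} (hl : k ≠ l) (hl' : k ≠ ν l) (hm : k ≠ l') (hm' : k ≠ ν l')
    (s w : K) : T.Z l k s w = T.Z l' k (s * w) 1 := by
  have hνν := B.D.nu_nu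
  by_cases h : l' ≠ l ∧ l' ≠ ν l
  · have hT : Tri ν k l l' :=
      ⟨hl, hm, Ne.symm h.1, hl', hm', fun e => h.2 (by rw [e, hνν])⟩
    have := T.Z_HW hT s w 1
    rwa [mul_one] at this
  · obtain ⟨p, hp1, hp2, hp3, hp4⟩ := T.third k l
    have hT : Tri ν k l p :=
      ⟨hl, Ne.symm hp1, Ne.symm hp2, hl', fun e => hp3 (by rw [e, hνν]),
        fun e => hp4 (by rw [e, hνν])⟩
    have e1 := T.Z_HW hT s w 1
    rw [mul_one] at e1
    have hT' : Tri ν k l' p := by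
      by_cases h1 : l' = l
      · rw [h1]; exact hT
      · have h2 : l' = ν l := by
          by_contra h'
          exact h ⟨h1, h'⟩
        rw [h2]
        exact ⟨hl', Ne.symm hp1, Ne.symm hp4, by rw [hνν]; exact hl,
          fun e => hp3 (by rw [e, hνν]), fun e => hp2 (B.D.nu_inj e).symm⟩
    have e2 := T.Z_HW hT' (s * w) 1 1
    rw [mul_one, mul_one] at e2
    rw [e1, e2]

theorem Z_eq_yh {k l : J} (hl : k ≠ l) (hl' : k ≠ ν l) (s w : K) :
    T.Z l k s w = T.yh k (s * w) :=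
  T.Z_eq_Z hl hl' (T.aux_ne k) (T.aux_ne' k) s w

theorem π_yh (k : J) (x : K) : T.π (T.yh k x) = B.Y k x := by
  unfold yh
  rw [T.π_Z (T.aux_ne k) (T.aux_ne' k), mul_one]

end BExt

end bext

end Cfsg.Agent.Lib.Helper3.BL
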