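import Cfsg.Agent.Lib.Helper3.DS14
import Cfsg.Agent.Lib.Helper3.DN15

/-!
# Type `D`: central elements lie in the torus; combinatorics of `Fin n ⊕ Fin n`;
the Steinberg group is perfect
-/

set_option linter.unusedSectionVars false
set_option linter.unusedVariables false
set_option linter.unusedSimpArgs false

namespace Cfsg.Agent.Lib.Helper3.DN

open Cfsg.Agent.Lib.Helper5.Stb Cfsg.Agent.Lib.Helper3.AN Cfsg.Agent.Lib.Helper3.DS Matrix

section scalar
variable {J K G : Type*} [Field K] [Group G] [Fintype J] [DecidableEq J] {ν : J → J}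
  {D : DData J K G ν} {φ : G →* Matrix J J K} (hφ : IsRepD D φ)
  (hc : ∀ a b : J, ∃ c, c ≠ a ∧ c ≠ b ∧ c ≠ ν a ∧ c ≠ ν b)
include hφ hc

/-- a matrix commuting with all root elements is a scalar -/
theorem scalar_of_comm (M : Matrix J J K)
    (hM : ∀ k l t, k ≠ l → l ≠ ν k → M * φ (D.y k l t) = φ (D.y k l t) * M) :
    ∃ c : K, M = c • (1 : Matrix J J K) := by
  have col : ∀ l : J, M *ᵥ (ev l : J → K) = fun a => M a l := by
    intro l
    rw [show (ev l : J → K) = Pi.single l 1 from rfl, Matrix.mulVec_single_one]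
    ext a
    rw [Matrix.col_apply]
  -- step 1
  have s1 : ∀ k l, k ≠ l → l ≠ ν k → ∀ a, M a k =
      M l l * (ev k : J → K) a - M (ν k) l * (ev (ν l) : J → K) a := by
    intro k l hkl hkl' a
    have h1 := congrArg (fun N : Matrix J J K => N *ᵥ (ev l : J → K)) (hM k l 1 hkl hkl')
    simp only [← Matrix.mulVec_mulVec] at h1
    rw [rep_ev_l hφ hkl hkl', hφ k l 1 hkl hkl', Matrix.mulVec_add, Matrix.mulVec_smul, col,
      col] at h1
    have h2 := congrFun h1 a
    simp only [Pi.add_apply, Pi.sub_apply, Pi.smul_apply, smul_eq_mul, one_mul] at h2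
    linear_combination h2
  -- step 2
  have s2 : ∀ a k, a ≠ k → M a k = 0 := by
    intro a k hak
    obtain ⟨l, l1, l2, l3, l4⟩ := hc k (ν a)
    rw [D.nu_nu] at l4
    have hl : a ≠ ν l := fun h => l2 (by rw [h, D.nu_nu])
    rw [s1 k l l1.symm l3 a]
    simp [ev, hak, hl]
  -- step 3
  have s3 : ∀ k l, k ≠ l → l ≠ ν k → M k k = M l l := by
    intro k l hkl hkl'
    have hk : k ≠ ν l := fun h => hkl' (by rw [h, D.nu_nu])
    rw [s1 k l hkl hkl' k]
    simp [ev, hk]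
  have s4 : ∀ k l, M k k = M l l := by
    intro k l
    by_cases h1 : k = l
    · rw [h1]
    by_cases h2 : l = ν k
    · obtain ⟨c, c1, c2, c3, c4⟩ := hc k l
      rw [s3 k c c1.symm c3, h2]
      rw [h2] at c2 c4
      rw [D.nu_nu] at c4
      exact (s3 (ν k) c c2.symm (by rw [D.nu_nu]; exact c1)).symm
    · exact s3 k l h1 h2
  by_cases hJ : Nonempty J
  · obtain ⟨k₀⟩ := hJ
    refine ⟨M k₀ k₀, ?_⟩
    ext a b
    rw [Matrix.smul_apply, Matrix.one_apply, smul_eq_mul]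
    by_cases hab : a = b
    · rw [hab, if_pos rfl, mul_one]
      exact s4 b k₀
    · rw [if_neg hab, mul_zero]
      exact s2 a b hab
  · refine ⟨0, ?_⟩
    ext a
    exact (hJ ⟨a⟩).elim

/-- central elements act as scalars -/
theorem center_scalar {g : G} (hg : g ∈ Subgroup.center G) :
    ∃ c : K, φ g = c • (1 : Matrix J J K) := by
  apply scalar_of_comm hφ hc
  intro k l t _ _
  rw [← map_mul, ← map_mul, (Subgroup.mem_center_iff.1 hg (D.y k l t)).symm]

end scalar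

section combi
variable {n : ℕ}

/-- the index of an element of `Fin n ⊕ Fin n` -/
def idx : Fin n ⊕ Fin n → Fin n := Sum.elim id id

theorem inl_ne_of_idx {i : Fin n} {a : Fin n ⊕ Fin n} (h : i ≠ idx a) :
    (Sum.inl i : Fin n ⊕ Fin n) ≠ a ∧ (Sum.inl i : Fin n ⊕ Fin n) ≠ Sum.swap a := by
  rcases a with j | j
  · exact ⟨fun e => h (Sum.inl.inj e), by simp⟩
  · exact ⟨by simp, fun e => h (Sum.inl.inj e)⟩

theorem exists_notMem_fin (s : Finset (Fin n)) (h : s.card < n) : ∃ i, i ∉ s := by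
  have h' : s.card < (Finset.univ : Finset (Fin n)).card := by
    rw [Finset.card_univ, Fintype.card_fin]; exact h
  obtain ⟨e, -, he⟩ := Finset.exists_mem_notMem_of_card_lt_card h'
  exact ⟨e, he⟩

theorem hc_sum (hn : 3 ≤ n) (a b : Fin n ⊕ Fin n) :
    ∃ c, c ≠ a ∧ c ≠ b ∧ c ≠ Sum.swap a ∧ c ≠ Sum.swap b := by
  obtain ⟨i, hi⟩ := exists_notMem_fin ({idx a, idx b} : Finset (Fin n))
    (lt_of_le_of_lt (Finset.card_le_two) (by omega))
  rw [Finset.mem_insert, Finset.mem_singleton, not_or] at hi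
  obtain ⟨h1, h2⟩ := inl_ne_of_idx hi.1
  obtain ⟨h3, h4⟩ := inl_ne_of_idx hi.2
  exact ⟨Sum.inl i, h1, h3, h2, h4⟩

theorem fresh_sum (hn : 5 ≤ n) : Fresh (Sum.swap : Fin n ⊕ Fin n → Fin n ⊕ Fin n) := by
  intro a b c d
  obtain ⟨i, hi⟩ := exists_notMem_fin ({idx a, idx b, idx c, idx d} : Finset (Fin n))
    (lt_of_le_of_lt (Finset.card_le_four) (by omega))
  simp only [Finset.mem_insert, Finset.mem_singleton, not_or] at hi
  obtain ⟨h1, h2⟩ := inl_ne_of_idx hi.1
  obtain ⟨h3, h4⟩ := inl_ne_of_idx hi.2.1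
  obtain ⟨h5, h6⟩ := inl_ne_of_idx hi.2.2.1
  obtain ⟨h7, h8⟩ := inl_ne_of_idx hi.2.2.2
  exact ⟨Sum.inl i, h1, h3, h5, h7, h2, h4, h6, h8⟩

end combi

section perfect
variable {J K : Type*} [Field K] {ν : J → J}

theorem stD_perfect (hν1 : ∀ k, ν (ν k) = k) (hν2 : ∀ k, ν k ≠ k)
    (hc : ∀ a b : J, ∃ c, c ≠ a ∧ c ≠ b ∧ c ≠ ν a ∧ c ≠ ν b) :
    commutator (StD J K ν) = ⊤ := by
  have hgen := stdD_gen (K := K) hν1 hν2
  unfold DData.Gen at hgen
  rw [eq_top_iff, ← hgen, Subgroup.closure_le]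
  rintro g ⟨k, l, t, rfl⟩
  show sy k l t ∈ commutator (StD J K ν)
  by_cases h1 : k = l
  · rw [h1, sy_self]; exact one_mem _
  by_cases h2 : k = ν l
  · have := (stdD (K := K) hν1 hν2).y_opp' l t
    rw [h2]
    show (stdD (K := K) hν1 hν2).y (ν l) l t ∈ _
    rw [this]
    exact one_mem _
  obtain ⟨c, c1, c2, c3, c4⟩ := hc k l
  have h3 : k ≠ ν c := fun h => c3 (by rw [h, hν1])
  have e := sy_rel (K := K) (ν := ν) k c l t 1 c1.symm c2 h1 h3 c4 h2
  rw [mul_one] at e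
  rw [← e, commutator_def]
  exact Subgroup.commutator_mem_commutator (Subgroup.mem_top _) (Subgroup.mem_top _)

end perfect

end Cfsg.Agent.Lib.Helper3.DN
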