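import Cfsg.Agent.Lib.Helper3.BN9
import Cfsg.Agent.Lib.Helper3.DS15

/-!
# The Steinberg group of type `B`: the group presented by the relations of `BData`
-/

set_option linter.unusedSectionVars false
set_option linter.unusedVariables false
set_option linter.unusedSimpArgs false

namespace Cfsg.Agent.Lib.Helper3.BS

open Cfsg.Agent.Lib.Helper3.DN Cfsg.Agent.Lib.Helper3.DS Cfsg.Agent.Lib.Helper3.BN

section maps
variable {J K G H : Type*} [Field K] [Group G] [Group H] {ν : J → J}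

/-- the image of Steinberg data of type `D` under a homomorphism -/
def mapD (D : DData J K G ν) (f : G →* H) : DData J K H ν where
  nu_nu := D.nu_nu
  nu_ne := D.nu_ne
  y := fun k l t => f (D.y k l t)
  y_self := fun k t => by rw [D.y_self, map_one]
  y_opp := fun k t => by rw [D.y_opp, map_one]
  y_flip := fun k l t => by rw [D.y_flip]
  y_add := fun k l t u => by rw [D.y_add, map_mul]
  y_comm := fun k l p m t u h1 h2 h3 h4 => by
    rw [← map_mul, ← map_mul, D.y_comm k l p m t u h1 h2 h3 h4]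
  y_comm' := fun k l t u => by rw [← map_mul, ← map_mul, D.y_comm']
  y_rel := fun k l m t u h1 h2 h3 h4 h5 h6 => by
    rw [← map_inv, ← map_inv, ← map_mul, ← map_mul, ← map_mul, D.y_rel k l m t u h1 h2 h3 h4 h5 h6]

theorem mapD_y (D : DData J K G ν) (f : G →* H) (k l : J) (t : K) :
    (mapD D f).y k l t = f (D.y k l t) := rfl

/-- the image of Steinberg data of type `B` under a homomorphism -/
def mapB (B : BData J K G ν) (f : G →* H) : BData J K H ν where
  D := mapD B.D f
  Y := fun k t => f (B.Y k t)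
  Y_add := fun k t u => by rw [B.Y_add, map_mul]
  XY_comm := fun k l p t u h1 h2 => by
    show f _ * f _ = f _ * f _
    rw [← map_mul, ← map_mul, B.XY_comm k l p t u h1 h2]
  XY_rel := fun k l s t h1 h2 => by
    show f _ * f _ * (f _)⁻¹ * (f _)⁻¹ = f _ * f _
    rw [← map_inv, ← map_inv, ← map_mul, ← map_mul, ← map_mul, ← map_mul, B.XY_rel k l s t h1 h2]
  YY_rel := fun k l s t h1 h2 => by
    show f _ * f _ * (f _)⁻¹ * (f _)⁻¹ = f _
    rw [← map_inv, ← map_inv, ← map_mul, ← map_mul, ← map_mul, B.YY_rel k l s t h1 h2]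

theorem mapB_y (B : BData J K G ν) (f : G →* H) (k l : J) (t : K) :
    (mapB B f).D.y k l t = f (B.D.y k l t) := rfl

theorem mapB_Y (B : BData J K G ν) (f : G →* H) (k : J) (t : K) :
    (mapB B f).Y k t = f (B.Y k t) := rfl

end maps

section pres
variable (J K : Type*) [Field K] (ν : J → J)

/-- the generators of the Steinberg group of type `B` -/
abbrev GenB := (J × J × K) ⊕ (J × K)

variable {J K}

/-- the long generators in the free group -/
def fX (k l : J) (t : K) : FreeGroup (GenB J K) := FreeGroup.of (Sum.inl (k, l, t))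

/-- the short generators in the free group -/
def fY (k : J) (t : K) : FreeGroup (GenB J K) := FreeGroup.of (Sum.inr (k, t))

variable (J K)

/-- the relators of the Steinberg group of type `B` -/
def relsB : Set (FreeGroup (GenB J K)) :=
  (FreeGroup.map (Sum.inl : J × J × K → GenB J K) '' relsD J K ν) ∪
  {g | ∃ k t u, g = fY k t * fY k u * (fY k (t + u))⁻¹} ∪
  {g | ∃ k l p t u, p ≠ l ∧ p ≠ ν k ∧
      g = fX k l t * fY p u * (fX k l t)⁻¹ * (fY p u)⁻¹} ∪
  {g | ∃ k l s t, k ≠ l ∧ k ≠ ν l ∧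
      g = fX k l s * fY l t * (fX k l s)⁻¹ * (fY l t)⁻¹ *
        (fY k (s * t) * fX k (ν l) (s * t ^ 2))⁻¹} ∪
  {g | ∃ k l s t, l ≠ k ∧ l ≠ ν k ∧
      g = fY k s * fY l t * (fY k s)⁻¹ * (fY l t)⁻¹ * (fX k (ν l) (-(2 * s * t)))⁻¹}

/-- the Steinberg group of type `B` -/
abbrev StB := PresentedGroup (relsB J K ν)

variable {J K ν}

/-- the long generators -/
def sX (k l : J) (t : K) : StB J K ν := PresentedGroup.of (Sum.inl (k, l, t))

/-- the short generators -/
def sY (k : J) (t : K) : StB J K ν := PresentedGroup.of (Sum.inr (k, t))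

theorem mk_fX (k l : J) (t : K) :
    (QuotientGroup.mk (fX k l t) : StB J K ν) = sX k l t := rfl

theorem mk_fY (k : J) (t : K) :
    (QuotientGroup.mk (fY k t) : StB J K ν) = sY k t := rfl

theorem relsD_liftB : ∀ r ∈ relsD J K ν,
    FreeGroup.lift (fun p : J × J × K => (sX p.1 p.2.1 p.2.2 : StB J K ν)) r = 1 := by
  intro r hr
  have h1 : FreeGroup.map (Sum.inl : J × J × K → GenB J K) r ∈ relsB J K ν :=
    Or.inl (Or.inl (Or.inl (Or.inl ⟨r, hr, rfl⟩)))
  have h2 := PresentedGroup.one_of_mem h1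
  have h3 : ∀ x : FreeGroup (J × J × K),
      FreeGroup.lift (fun p : J × J × K => (sX p.1 p.2.1 p.2.2 : StB J K ν)) x =
        PresentedGroup.mk (relsB J K ν) (FreeGroup.map (Sum.inl : J × J × K → GenB J K) x) := by
    intro x
    have : FreeGroup.lift (fun p : J × J × K => (sX p.1 p.2.1 p.2.2 : StB J K ν)) =
        (PresentedGroup.mk (relsB J K ν)).comp
          (FreeGroup.map (Sum.inl : J × J × K → GenB J K)) := by
      ext p
      simp only [FreeGroup.lift_apply_of, MonoidHom.comp_apply, FreeGroup.map.of]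
      rfl
    rw [this]
    rfl
  rw [h3]
  exact h2

/-- the homomorphism from the Steinberg group of type `D` -/
def jD : StD J K ν →* StB J K ν := PresentedGroup.toGroup relsD_liftB

theorem jD_sy (k l : J) (t : K) : jD (sy k l t : StD J K ν) = sX k l t :=
  PresentedGroup.toGroup.of relsD_liftB

theorem sY_add (k : J) (t u : K) : (sY k (t + u) : StB J K ν) = sY k t * sY k u := by
  have h : fY k t * fY k u * (fY k (t + u))⁻¹ ∈ relsB J K ν :=
    Or.inl (Or.inl (Or.inl (Or.inr ⟨k, t, u, rfl⟩)))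
  have h1 := PresentedGroup.one_of_mem h
  rw [map_mul, map_mul, map_inv] at h1
  exact (mul_inv_eq_one.mp h1).symm

theorem sXY_comm (k l p : J) (t u : K) (h1 : p ≠ l) (h2 : p ≠ ν k) :
    (sX k l t : StB J K ν) * sY p u = sY p u * sX k l t := by
  have h : fX k l t * fY p u * (fX k l t)⁻¹ * (fY p u)⁻¹ ∈ relsB J K ν :=
    Or.inl (Or.inl (Or.inr ⟨k, l, p, t, u, h1, h2, rfl⟩))
  have h5 := PresentedGroup.one_of_mem h
  rw [map_mul, map_mul, map_mul, map_inv, map_inv] at h5
  have h6 := mul_inv_eq_one.mp h5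
  exact mul_inv_eq_iff_eq_mul.mp h6

theorem sXY_rel (k l : J) (s t : K) (h1 : k ≠ l) (h2 : k ≠ ν l) :
    (sX k l s : StB J K ν) * sY l t * (sX k l s)⁻¹ * (sY l t)⁻¹ =
      sY k (s * t) * sX k (ν l) (s * t ^ 2) := by
  have h : fX k l s * fY l t * (fX k l s)⁻¹ * (fY l t)⁻¹ *
      (fY k (s * t) * fX k (ν l) (s * t ^ 2))⁻¹ ∈ relsB J K ν :=
    Or.inl (Or.inr ⟨k, l, s, t, h1, h2, rfl⟩)
  have h7 := PresentedGroup.one_of_mem h
  rw [map_mul, map_mul, map_mul, map_mul, map_inv, map_inv, map_inv, map_mul] at h7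
  exact mul_inv_eq_one.mp h7

theorem sYY_rel (k l : J) (s t : K) (h1 : l ≠ k) (h2 : l ≠ ν k) :
    (sY k s : StB J K ν) * sY l t * (sY k s)⁻¹ * (sY l t)⁻¹ = sX k (ν l) (-(2 * s * t)) := by
  have h : fY k s * fY l t * (fY k s)⁻¹ * (fY l t)⁻¹ * (fX k (ν l) (-(2 * s * t)))⁻¹ ∈
      relsB J K ν :=
    Or.inr ⟨k, l, s, t, h1, h2, rfl⟩
  have h7 := PresentedGroup.one_of_mem h
  rw [map_mul, map_mul, map_mul, map_mul, map_inv, map_inv, map_inv] at h7
  exact mul_inv_eq_one.mp h7

/-- the tautological Steinberg data -/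
def stdB (hν1 : ∀ k, ν (ν k) = k) (hν2 : ∀ k, ν k ≠ k) : BData J K (StB J K ν) ν where
  D := mapD (stdD hν1 hν2) jD
  Y := sY
  Y_add := sY_add
  XY_comm := fun k l p t u h1 h2 => by
    show jD (sy k l t) * _ = _ * jD (sy k l t)
    rw [jD_sy]
    exact sXY_comm k l p t u h1 h2
  XY_rel := fun k l s t h1 h2 => by
    show jD (sy k l s) * _ * (jD (sy k l s))⁻¹ * _ = _ * jD (sy k (ν l) (s * t ^ 2))
    rw [jD_sy, jD_sy]
    exact sXY_rel k l s t h1 h2
  YY_rel := fun k l s t h1 h2 => by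
    show _ = jD (sy k (ν l) (-(2 * s * t)))
    rw [jD_sy]
    exact sYY_rel k l s t h1 h2

theorem stdB_y (hν1 : ∀ k, ν (ν k) = k) (hν2 : ∀ k, ν k ≠ k) (k l : J) (t : K) :
    (stdB (K := K) hν1 hν2).D.y k l t = sX k l t := jD_sy k l t

theorem stdB_Y (hν1 : ∀ k, ν (ν k) = k) (hν2 : ∀ k, ν k ≠ k) (k : J) (t : K) :
    (stdB (K := K) hν1 hν2).Y k t = sY k t := rfl

theorem stdB_gen (hν1 : ∀ k, ν (ν k) = k) (hν2 : ∀ k, ν k ≠ k) :
    (stdB (K := K) hν1 hν2).Gen := by
  unfold BData.Gen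
  rw [eq_top_iff, ← PresentedGroup.closure_range_of (relsB J K ν)]
  apply Subgroup.closure_mono
  rintro _ ⟨(⟨k, l, t⟩ | ⟨k, t⟩), rfl⟩
  · exact Or.inl ⟨k, l, t, (stdB_y hν1 hν2 k l t).symm⟩
  · exact Or.inr ⟨k, t, rfl⟩

section lift
variable {G : Type*} [Group G] (B : BData J K G ν)

/-- the images of the generators -/
def genMapB : GenB J K → G
  | Sum.inl p => B.D.y p.1 p.2.1 p.2.2
  | Sum.inr p => B.Y p.1 p.2

theorem lift_fX (k l : J) (t : K) : FreeGroup.lift (genMapB B) (fX k l t) = B.D.y k l t := by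
  unfold fX
  rw [FreeGroup.lift_apply_of]
  rfl

theorem lift_fY (k : J) (t : K) : FreeGroup.lift (genMapB B) (fY k t) = B.Y k t := by
  unfold fY
  rw [FreeGroup.lift_apply_of]
  rfl

theorem relsB_lift : ∀ r ∈ relsB J K ν, FreeGroup.lift (genMapB B) r = 1 := by
  rintro r ((((⟨r, hr, rfl⟩ | ⟨k, t, u, rfl⟩) | ⟨k, l, p, t, u, h1, h2, rfl⟩) |
    ⟨k, l, s, t, h1, h2, rfl⟩) | ⟨k, l, s, t, h1, h2, rfl⟩)
  · have h1 := relsD_lift B.D r hr
    have h2 : ∀ x : FreeGroup (J × J × K),
        FreeGroup.lift (genMapB B) (FreeGroup.map (Sum.inl : J × J × K → GenB J K) x) =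
          FreeGroup.lift (fun p : J × J × K => B.D.y p.1 p.2.1 p.2.2) x := by
      intro x
      have : (FreeGroup.lift (genMapB B)).comp (FreeGroup.map (Sum.inl : J × J × K → GenB J K)) =
          FreeGroup.lift (fun p : J × J × K => B.D.y p.1 p.2.1 p.2.2) := by
        ext p
        simp only [FreeGroup.lift_apply_of, MonoidHom.comp_apply, FreeGroup.map.of]
        rfl
      rw [← this]
      rfl
    rw [h2]
    exact h1
  · simp only [map_mul, map_inv, lift_fY]
    rw [← B.Y_add, mul_inv_cancel]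
  · simp only [map_mul, map_inv, lift_fX, lift_fY]
    rw [B.XY_comm k l p t u h1 h2]
    group
  · simp only [map_mul, map_inv, lift_fX, lift_fY]
    rw [B.XY_rel k l s t h1 h2, mul_inv_cancel]
  · simp only [map_mul, map_inv, lift_fX, lift_fY]
    rw [B.YY_rel k l s t h1 h2, mul_inv_cancel]

/-- the universal property of the Steinberg group -/
def liftB : StB J K ν →* G := PresentedGroup.toGroup (relsB_lift B)

theorem liftB_sX (k l : J) (t : K) : liftB B (sX k l t) = B.D.y k l t :=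
  PresentedGroup.toGroup.of (relsB_lift B)

theorem liftB_sY (k : J) (t : K) : liftB B (sY k t) = B.Y k t :=
  PresentedGroup.toGroup.of (relsB_lift B)

theorem liftB_surjective (hgen : B.Gen) : Function.Surjective (liftB B) := by
  rw [← MonoidHom.range_eq_top, eq_top_iff, ← hgen, Subgroup.closure_le]
  rintro g (⟨k, l, t, rfl⟩ | ⟨k, t, rfl⟩)
  · exact ⟨sX k l t, liftB_sX B k l t⟩
  · exact ⟨sY k t, liftB_sY B k t⟩

theorem hom_ext_B {f g : StB J K ν →* G} (h : ∀ k l t, f (sX k l t) = g (sX k l t))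
    (h' : ∀ k t, f (sY k t) = g (sY k t)) : f = g := by
  apply PresentedGroup.ext
  rintro (⟨k, l, t⟩ | ⟨k, t⟩)
  · exact h k l t
  · exact h' k t

end lift

end pres

section perfect
variable {J K : Type*} [Field K] {ν : J → J}

theorem stB_perfect (hν1 : ∀ k, ν (ν k) = k) (hν2 : ∀ k, ν k ≠ k)
    (hc : ∀ a b : J, ∃ c, c ≠ a ∧ c ≠ b ∧ c ≠ ν a ∧ c ≠ ν b) :
    commutator (StB J K ν) = ⊤ := by
  have hX : ∀ k l t, (sX k l t : StB J K ν) ∈ commutator (StB J K ν) := by
    intro k l t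
    rw [← jD_sy]
    have h1 : (sy k l t : StD J K ν) ∈ commutator (StD J K ν) := by
      rw [stD_perfect hν1 hν2 hc]; trivial
    have h2 := Subgroup.mem_map_of_mem (jD : StD J K ν →* StB J K ν) h1
    have h3 : (commutator (StD J K ν)).map (jD : StD J K ν →* StB J K ν) ≤
        commutator (StB J K ν) := by
      rw [commutator_def, Subgroup.map_commutator, commutator_def]
      exact Subgroup.commutator_mono le_top le_top
    exact h3 h2
  have hY : ∀ k t, (sY k t : StB J K ν) ∈ commutator (StB J K ν) := by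
    intro k t
    obtain ⟨l, h1, -, h3, -⟩ := hc k k
    have hkl : k ≠ l := h1.symm
    have hkl' : k ≠ ν l := fun h => h3 (by rw [h, hν1])
    have h := sXY_rel (K := K) (ν := ν) k l t 1 hkl hkl'
    have e : (sY k t : StB J K ν) =
        (sX k l t * sY l 1 * (sX k l t)⁻¹ * (sY l 1)⁻¹) * (sX k (ν l) t)⁻¹ := by
      rw [h]
      simp
    rw [e]
    refine mul_mem ?_ (inv_mem (hX _ _ _))
    exact Subgroup.commutator_mem_commutator (Subgroup.mem_top _) (Subgroup.mem_top _)
  rw [eq_top_iff, ← stdB_gen (K := K) hν1 hν2, Subgroup.closure_le]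
  rintro g (⟨k, l, t, rfl⟩ | ⟨k, t, rfl⟩)
  · rw [stdB_y]; exact hX k l t
  · exact hY k t

end perfect

end Cfsg.Agent.Lib.Helper3.BS
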