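import Cfsg.Agent.Lib.Helper3.BL4
import Cfsg.Agent.Lib.Helper3.BS1

/-!
# Central extensions of the Steinberg group of type `B` split
-/

set_option linter.unusedSectionVars false
set_option linter.unusedVariables false
set_option linter.unusedSimpArgs false

namespace Cfsg.Agent.Lib.Helper3.BL

open Cfsg.Agent.Lib.Helper3.DN Cfsg.Agent.Lib.Helper3.DS Cfsg.Agent.Lib.Helper3.BN
  Cfsg.Agent.Lib.Helper3.StU Cfsg.Agent.Lib.Helper3.BS
open scoped commutatorElement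

section bext
variable {J K Γ E : Type*} [Field K] [Group Γ] [Group E] {ν : J → J} {B : BData J K Γ ν}
  (T : BExt B E)

namespace BExt

theorem Z_add {l k : J} (h1 : k ≠ l) (h2 : k ≠ ν l) (s s' w : K) :
    T.Z l k (s + s') w = T.Z l k s w * T.Z l k s' w := by
  set a := T.lift (B.D.y k l s) with ha
  set a' := T.lift (B.D.y k l s') with ha'
  set c := T.lift (B.Y l w) with hc
  have πa : T.π a = B.D.y k l s := T.π_lift _
  have πa' : T.π a' = B.D.y k l s' := T.π_lift _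
  have πc : T.π c = B.Y l w := T.π_lift _
  have e1 : T.π (a * a') = B.D.y k l (s + s') := by
    rw [map_mul, πa, πa', B.D.y_add]
  set Z₀ := T.Z l k s w with hZ₀
  set Z' := T.Z l k s' w with hZ'
  set V₀ := T.xh k (ν l) (s * w ^ 2) with hV₀
  set V' := T.xh k (ν l) (s' * w ^ 2) with hV'
  have πZ₀ : T.π Z₀ = B.Y k (s * w) := T.π_Z h1 h2 s w
  have πZ' : T.π Z' = B.Y k (s' * w) := T.π_Z h1 h2 s' w
  have q1 := T.Z_eq e1 πc
  have q2 : ⁅a, c⁆ = Z₀ * V₀ := T.Z_eq πa πc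
  have q3 : ⁅a', c⁆ = Z' * V' := T.Z_eq πa' πc
  have c1 : Commute a Z' := T.XY_lift h1 (B.D.ne_nu k) πa πZ'
  have c2 : Commute a V' := T.XX'_lift πa (T.π_xh _ _ _)
  have c3 : Commute V' Z₀ := T.XY_lift h2 (B.D.ne_nu k) (T.π_xh _ _ _) πZ₀
  have c4 : Commute Z' Z₀ := T.YY_lift πZ' πZ₀
  have c5 : Commute V' V₀ := T.xh_comm k (ν l) k (ν l) _ _ (fun h => h2 h.symm) h2 (B.D.ne_nu k)
    (B.D.ne_nu _)
  have e2 : a * ⁅a', c⁆ * a⁻¹ = Z' * V' := by
    rw [q3]
    have : a * (Z' * V') = Z' * V' * a := (c1.mul_right c2).eq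
    rw [this]
    group
  have e3 : T.xh k (ν l) ((s + s') * w ^ 2) = V₀ * V' := by
    rw [hV₀, hV', ← T.xh_add]
    congr 1
    ring
  rw [comm_mul_left_eq, e2, q2, e3] at q1
  have e4 : Z' * V' * (Z₀ * V₀) = Z₀ * Z' * (V₀ * V') := by
    calc Z' * V' * (Z₀ * V₀) = Z' * (V' * Z₀) * V₀ := by group
      _ = Z' * (Z₀ * V') * V₀ := by rw [c3.eq]
      _ = (Z' * Z₀) * (V' * V₀) := by group
      _ = Z₀ * Z' * (V₀ * V') := by rw [c4.eq, c5.eq]
  rw [e4] at q1
  exact (mul_right_cancel q1).symm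

theorem yh_add (k : J) (x y : K) : T.yh k (x + y) = T.yh k x * T.yh k y :=
  T.Z_add (T.aux_ne k) (T.aux_ne' k) x y 1

/-- the Steinberg data of type `B` of the canonical lifts -/
noncomputable def liftBD : BData J K E ν where
  D := T.liftDD
  Y := T.yh
  Y_add := T.yh_add
  XY_comm := fun k l p t u h1 h2 => (T.XY_lift h1 h2 (T.π_xh k l t) (T.π_yh p u)).eq
  XY_rel := fun k l s t h1 h2 => by
    show T.xh k l s * T.yh l t * (T.xh k l s)⁻¹ * (T.yh l t)⁻¹ =
      T.yh k (s * t) * T.xh k (ν l) (s * t ^ 2)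
    rw [← commutatorElement_def, T.Z_eq (T.π_xh k l s) (T.π_yh l t), T.Z_eq_yh h1 h2]
  YY_rel := fun k l s t h1 h2 => by
    show T.yh k s * T.yh l t * (T.yh k s)⁻¹ * (T.yh l t)⁻¹ = T.xh k (ν l) (-(2 * s * t))
    rw [← commutatorElement_def]
    have hkl' : k ≠ ν l := fun h => h2 (by rw [h, B.D.nu_nu])
    have q : ⁅T.yh k s, T.yh l t⁆ = T.N k (ν l) s (-t) := by
      apply T.N_eq (T.π_yh k s)
      rw [B.D.nu_nu, neg_neg]
      exact T.π_yh l t
    rw [q, T.N_eq_xh hkl' (by rw [B.D.nu_nu]; exact Ne.symm h1)]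
    congr 1
    ring

theorem π_liftBD_y (k l : J) (t : K) : T.π (T.liftBD.D.y k l t) = B.D.y k l t := T.π_xh k l t

theorem π_liftBD_Y (k : J) (t : K) : T.π (T.liftBD.Y k t) = B.Y k t := T.π_yh k t

end BExt

end bext

section split
variable {J : Type*} {K : Type*} [Field K] {ν : J → J}

/-- every central extension of the Steinberg group of type `B` splits, provided the lifts of a
long and a short root element attached to orthogonal roots commute -/
theorem stB_split_of_hLS (hν1 : ∀ k, ν (ν k) = k) (hν2 : ∀ k, ν k ≠ k) (h2 : (2 : K) ≠ 0)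
    (third : ∀ a b : J, ∃ c, c ≠ a ∧ c ≠ b ∧ c ≠ ν a ∧ c ≠ ν b)
    {E : Type*} [Group E] (ψ : E →* StB J K ν) (hs : Function.Surjective ψ)
    (hc : ψ.ker ≤ Subgroup.center E)
    (hLS : ∀ (a b p : J) (t u : K) (e₁ e₂ : E), p ≠ a → p ≠ b → p ≠ ν a → p ≠ ν b →
      ψ e₁ = (stdB (K := K) hν1 hν2).D.y a b t → ψ e₂ = (stdB (K := K) hν1 hν2).Y p u →
      Commute e₁ e₂) :
    ∃ s : StB J K ν →* E, ψ.comp s = MonoidHom.id _ := by
  let T : BExt (stdB (K := K) hν1 hν2) E := ⟨ψ, hs, hc, h2, third, hLS⟩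
  refine ⟨liftB T.liftBD, ?_⟩
  apply hom_ext_B
  · intro k l t
    rw [MonoidHom.comp_apply, liftB_sX, MonoidHom.id_apply, ← stdB_y hν1 hν2]
    exact T.π_liftBD_y k l t
  · intro k t
    rw [MonoidHom.comp_apply, liftB_sY, MonoidHom.id_apply]
    exact T.π_liftBD_Y k t

end split

end Cfsg.Agent.Lib.Helper3.BL
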