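import Cfsg.Agent.Lib.Helper3.BL5

/-!
# Lifts of a long and a short root element attached to orthogonal roots commute
-/

set_option linter.unusedSectionVars false
set_option linter.unusedVariables false
set_option linter.unusedSimpArgs false

namespace Cfsg.Agent.Lib.Helper3.BL

open Cfsg.Agent.Lib.Helper3.DN Cfsg.Agent.Lib.Helper3.DS Cfsg.Agent.Lib.Helper3.BN
  Cfsg.Agent.Lib.Helper3.StU Cfsg.Agent.Lib.Helper3.BS
open scoped commutatorElement

section hLS
variable {J K Γ E : Type*} [Field K] [Group Γ] [Group E] {ν : J → J} {B : BData J K Γ ν}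
  (π : E →* Γ) (hs : Function.Surjective π) (hc : π.ker ≤ Subgroup.center E)
include hs hc

theorem central_of_π_one {e : E} (h : π e = 1) : e ∈ Subgroup.center E :=
  hc (MonoidHom.mem_ker.2 h)

theorem comm_central0 {a b : E} (h : Commute (π a) (π b)) : ⁅a, b⁆ ∈ Subgroup.center E :=
  hc (comm_mem_ker π h)

theorem commute_of_π_eq0 {w g e : E} (h : Commute w g) (he : π e = π g) : Commute w e := by
  have hz : g⁻¹ * e ∈ Subgroup.center E :=
    central_of_π_one π hs hc (by rw [map_mul, map_inv, he, inv_mul_cancel])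
  have e1 : e = g * (g⁻¹ * e) := by group
  rw [e1]
  exact h.mul_right (commute_of_central hz)

/-- lifts of long root elements which commute for generic reasons commute -/
theorem XX_lift0 (h2 : (2 : K) ≠ 0) {a b p m : J} {t u : K} {e₁ e₂ : E} (h1 : b ≠ p)
    (h2' : a ≠ m) (h3 : a ≠ ν p) (h4 : b ≠ ν m) (he₁ : π e₁ = B.D.y a b t)
    (he₂ : π e₂ = B.D.y p m u) : Commute e₁ e₂ := by
  by_cases hpm : p = m
  · subst hpm
    rw [B.D.y_self] at he₂
    exact commute_of_central (central_of_π_one π hs hc he₂)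
  by_cases hpm' : p = ν m
  · subst hpm'
    rw [B.D.y_opp'] at he₂
    exact commute_of_central (central_of_π_one π hs hc he₂)
  set y₁ := Function.surjInv hs (B.Y p (u / 2)) with hy₁
  set y₂ := Function.surjInv hs (B.Y (ν m) (-1)) with hy₂
  have πy₁ : π y₁ = B.Y p (u / 2) := Function.surjInv_eq hs _
  have πy₂ : π y₂ = B.Y (ν m) (-1) := Function.surjInv_eq hs _
  have c1 : ⁅e₁, y₁⁆ ∈ Subgroup.center E := by
    apply comm_central0 π hs hc
    rw [he₁, πy₁]
    exact B.XY_comm a b p t _ (Ne.symm h1) (fun h => h3 (by rw [h, B.D.nu_nu]))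
  have c2 : ⁅e₁, y₂⁆ ∈ Subgroup.center E := by
    apply comm_central0 π hs hc
    rw [he₁, πy₂]
    exact B.XY_comm a b (ν m) t _ (Ne.symm h4) (fun h => h2' (B.D.nu_inj h).symm)
  have c3 : Commute e₁ ⁅y₁, y₂⁆ := commute_comm c1 c2
  apply commute_of_π_eq0 π hs hc c3
  rw [he₂, map_commutatorElement, πy₁, πy₂, BExt.X_eq_comm_YY hpm hpm', mul_one]
  congr 1
  field_simp

/-- the commutation of lifts in the presence of a fresh index -/
theorem hLS_of_fresh (h2 : (2 : K) ≠ 0)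
    (fresh : ∀ a b p : J, ∃ c, c ≠ a ∧ c ≠ b ∧ c ≠ ν a ∧ c ≠ ν b ∧ c ≠ p ∧ c ≠ ν p)
    (a b p : J) (t u : K) (e₁ e₂ : E) (hpa : p ≠ a) (hpb : p ≠ b) (hpa' : p ≠ ν a)
    (hpb' : p ≠ ν b) (he₁ : π e₁ = B.D.y a b t) (he₂ : π e₂ = B.Y p u) : Commute e₁ e₂ := by
  have hνν := B.D.nu_nu
  obtain ⟨c, hc1, hc2, hc3, hc4, hc5, hc6⟩ := fresh a b p
  have hpc' : p ≠ ν c := fun h => hc6 (by rw [h, hνν])
  set x₁ := Function.surjInv hs (B.D.y p c u) with hx₁
  set y := Function.surjInv hs (B.Y c 1) with hy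
  set x₂ := Function.surjInv hs (B.D.y p (ν c) u) with hx₂
  have πx₁ : π x₁ = B.D.y p c u := Function.surjInv_eq hs _
  have πy : π y = B.Y c 1 := Function.surjInv_eq hs _
  have πx₂ : π x₂ = B.D.y p (ν c) u := Function.surjInv_eq hs _
  have a1 : Commute e₁ x₁ :=
    XX_lift0 π hs hc h2 (Ne.symm hpb) (Ne.symm hc1) (fun h => hpa' (by rw [h, hνν]))
      (fun h => hc4 (by rw [h, hνν])) he₁ πx₁
  have a3 : Commute e₁ x₂ :=
    XX_lift0 π hs hc h2 (Ne.symm hpb) (fun h => hc3 (by rw [h, hνν]))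
      (fun h => hpa' (by rw [h, hνν])) (by rw [hνν]; exact Ne.symm hc2) he₁ πx₂
  have c1 : ⁅e₁, x₁⁆ ∈ Subgroup.center E := by
    rw [commutatorElement_eq_one_iff_commute.2 a1]
    exact one_mem _
  have c2 : ⁅e₁, y⁆ ∈ Subgroup.center E := by
    apply comm_central0 π hs hc
    rw [he₁, πy]
    exact B.XY_comm a b c t 1 hc2 hc3
  have a4 : Commute e₁ ⁅x₁, y⁆ := commute_comm c1 c2
  have a5 : Commute e₁ (⁅x₁, y⁆ * x₂⁻¹) := a4.mul_right a3.inv_right
  apply commute_of_π_eq0 π hs hc a5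
  rw [he₂, map_mul, map_inv, map_commutatorElement, πx₁, πy, πx₂]
  exact BExt.Y_eq_comm_XY (Ne.symm hc5) hpc' u

/-- the commutation of lifts in the presence of a suitable torus element -/
theorem hLS_of_torus (third : ∀ a b : J, ∃ c, c ≠ a ∧ c ≠ b ∧ c ≠ ν a ∧ c ≠ ν b)
    (μ : K) (hμ : μ ≠ 0) (hμ2 : μ ^ 2 ≠ 1)
    (a b p : J) (t u : K) (e₁ e₂ : E) (hpa : p ≠ a) (hpb : p ≠ b) (hpa' : p ≠ ν a)
    (hpb' : p ≠ ν b) (he₁ : π e₁ = B.D.y a b t) (he₂ : π e₂ = B.Y p u) : Commute e₁ e₂ := by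
  have hνν := B.D.nu_nu
  obtain ⟨l, hl1, -, hl3, -⟩ := third p p
  have hap' : a ≠ ν p := fun h => hpa' (by rw [h, hνν])
  have hbp' : b ≠ ν p := fun h => hpb' (by rw [h, hνν])
  -- the torus element
  set h := B.wS p μ * B.wS p (-1) with hh
  have hX : MulAut.conj h (B.D.y a b t) = B.D.y a b t := by
    rw [hh, map_mul, MulAut.mul_apply, B.cjwS_comm (Ne.symm hpa) hap' (Ne.symm hpb) hbp',
      B.cjwS_comm (Ne.symm hpa) hap' (Ne.symm hpb) hbp']
  have hY : ∀ v : K, MulAut.conj h (B.Y p v) = B.Y p (μ ^ 2 * v) := by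
    intro v
    rw [hh, map_mul, MulAut.mul_apply, B.cjwS_Ya hl1 hl3 (neg_ne_zero.mpr one_ne_zero),
      B.cjwS_Yna hl1 hl3 hμ]
    congr 1
    rw [inv_neg, inv_one]
    ring
  set ht := Function.surjInv hs h with hht
  have πht : π ht = h := Function.surjInv_eq hs _
  -- the central bracket
  let C : K → E := fun v => ⁅e₁, Function.surjInv hs (B.Y p v)⁆
  have πl : ∀ v, π (Function.surjInv hs (B.Y p v)) = B.Y p v := fun v => Function.surjInv_eq hs _
  have Ccen : ∀ v, C v ∈ Subgroup.center E := by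
    intro v
    apply comm_central0 π hs hc
    rw [he₁, πl]
    exact B.XY_comm a b p t v hpb hpa'
  have Ceq : ∀ (v : K) (e : E), π e = B.Y p v → ⁅e₁, e⁆ = C v := by
    intro v e he
    exact comm_congr π hc rfl (he.trans (πl v).symm)
  have Cadd : ∀ v v', C (v + v') = C v * C v' := by
    intro v v'
    have e1 : π (Function.surjInv hs (B.Y p v) * Function.surjInv hs (B.Y p v')) =
        B.Y p (v + v') := by
      rw [map_mul, πl, πl, B.Y_add]
    rw [← Ceq (v + v') _ e1, comm_mul_right_of_central (Ccen v')]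
  have Cinv : ∀ v, C (μ ^ 2 * v) = C v := by
    intro v
    have e1 : ht * C v * ht⁻¹ = C v := by
      rw [(Subgroup.mem_center_iff.1 (Ccen v) ht)]
      group
    have e2 : ht * C v * ht⁻¹ = C (μ ^ 2 * v) := by
      show ht * ⁅e₁, Function.surjInv hs (B.Y p v)⁆ * ht⁻¹ = _
      rw [conj_comm]
      have q1 : π (ht * e₁ * ht⁻¹) = π e₁ := by
        rw [map_mul, map_mul, map_inv, πht, he₁, ← MulAut.conj_apply, hX]
      have q2 : π (ht * Function.surjInv hs (B.Y p v) * ht⁻¹) = B.Y p (μ ^ 2 * v) := by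
        rw [map_mul, map_mul, map_inv, πht, πl, ← MulAut.conj_apply, hY]
      rw [comm_congr π hc q1 (rfl : π (ht * Function.surjInv hs (B.Y p v) * ht⁻¹) = _)]
      exact Ceq _ _ q2
    rw [← e2, e1]
  have C0 : C 0 = 1 := by
    have := Cadd 0 0
    rw [add_zero] at this
    exact (mul_eq_left.1 this.symm)
  have Cz : ∀ v, C ((μ ^ 2 - 1) * v) = 1 := by
    intro v
    have : (μ ^ 2 - 1) * v = μ ^ 2 * v + (-v) := by ring
    rw [this, Cadd, Cinv, ← Cadd, add_neg_cancel, C0]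
  have hne : μ ^ 2 - 1 ≠ 0 := sub_ne_zero.2 hμ2
  have Call : ∀ v, C v = 1 := by
    intro v
    have := Cz (v / (μ ^ 2 - 1))
    rwa [mul_div_cancel₀ v hne] at this
  have := Ceq u e₂ he₂
  rw [Call u] at this
  exact commutatorElement_eq_one_iff_commute.1 this

end hLS

end Cfsg.Agent.Lib.Helper3.BL
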