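import Cfsg.Agent.Lib.Helper3.DS6

/-!
# Steinberg data of type `B`: long root elements (data of type `D`) and short root elements
-/

set_option linter.unusedSectionVars false
set_option linter.unusedVariables false

namespace Cfsg.Agent.Lib.Helper3.BN

open Cfsg.Agent.Lib.Helper5.Stb Cfsg.Agent.Lib.Helper3.AN Cfsg.Agent.Lib.Helper3.DN

/-- Steinberg data of type `B`: the long root elements `D.y k l t` (root `e_k - e_l`) form data of
type `D`, and `Y k t` is the root element of the short root `e_k`. -/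
structure BData (J K G : Type*) [Field K] [Group G] (ν : J → J) where
  D : DData J K G ν
  Y : J → K → G
  Y_add : ∀ k t u, Y k (t + u) = Y k t * Y k u
  XY_comm : ∀ k l p t u, p ≠ l → p ≠ ν k → D.y k l t * Y p u = Y p u * D.y k l t
  XY_rel : ∀ k l s t, k ≠ l → k ≠ ν l →
    D.y k l s * Y l t * (D.y k l s)⁻¹ * (Y l t)⁻¹ = Y k (s * t) * D.y k (ν l) (s * t ^ 2)
  YY_rel : ∀ k l s t, l ≠ k → l ≠ ν k →
    Y k s * Y l t * (Y k s)⁻¹ * (Y l t)⁻¹ = D.y k (ν l) (-(2 * s * t))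

section grp
variable {G : Type*} [Group G]

theorem conj_of_commute {a g : G} (h : Commute a g) : MulAut.conj a g = g := by
  rw [MulAut.conj_apply, h.eq, mul_inv_cancel_right]

theorem conj_mul3 (a b c x : G) :
    MulAut.conj (a * b * c) x = MulAut.conj a (MulAut.conj b (MulAut.conj c x)) := by
  rw [map_mul, map_mul, MulAut.mul_apply, MulAut.mul_apply]

/-- the pattern of the computation of the action of a long Weyl element on a short root element -/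
theorem sandwich_aux {a A y z : G} (h1 : Commute A y) (h2 : Commute A a)
    (h3 : a * y * a⁻¹ = z * y) (h4 : A * A * z = 1) : a * A * y * A * a⁻¹ = y := by
  calc a * A * y * A * a⁻¹ = a * (A * y) * A * a⁻¹ := by group
    _ = a * (y * A) * A * a⁻¹ := by rw [h1.eq]
    _ = (a * y * a⁻¹) * (a * A) * A * a⁻¹ := by group
    _ = (a * y * a⁻¹) * (A * a) * A * a⁻¹ := by rw [h2.eq]
    _ = z * y * A * (a * A) * a⁻¹ := by rw [h3]; group
    _ = z * y * A * (A * a) * a⁻¹ := by rw [h2.eq]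
    _ = z * (y * A) * A := by group
    _ = z * (A * y) * A := by rw [h1.eq]
    _ = z * A * (y * A) := by group
    _ = z * A * (A * y) := by rw [h1.eq]
    _ = (z * (A * A)) * y := by group
    _ = y := by
      have : z * (A * A) = 1 := by
        have h5 : z = (A * A)⁻¹ := by
          rw [eq_inv_iff_mul_eq_one]
          have : z * (A * A) = (A * A)⁻¹ * ((A * A) * z) * (A * A) := by group
          rw [this, h4]; group
        rw [h5]; group
      rw [this, one_mul]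

end grp

variable {J K G : Type*} [Field K] [Group G] {ν : J → J} (B : BData J K G ν)

namespace BData

theorem Y_zero (k : J) : B.Y k 0 = 1 := by
  have h := B.Y_add k 0 0
  rw [add_zero] at h
  exact (mul_eq_left.1 h.symm)

theorem Y_neg (k : J) (t : K) : B.Y k (-t) = (B.Y k t)⁻¹ := by
  rw [eq_inv_iff_mul_eq_one, ← B.Y_add, neg_add_cancel, B.Y_zero]

theorem Y_comm_self (k : J) (t u : K) : Commute (B.Y k t) (B.Y k u) := by
  show B.Y k t * B.Y k u = B.Y k u * B.Y k t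
  rw [← B.Y_add, ← B.Y_add, add_comm]

theorem XY_commute {k l p : J} (h1 : p ≠ l) (h2 : p ≠ ν k) (t u : K) :
    Commute (B.D.y k l t) (B.Y p u) := B.XY_comm k l p t u h1 h2

theorem cjXY_comm {k l p : J} (h1 : p ≠ l) (h2 : p ≠ ν k) (t u : K) :
    MulAut.conj (B.D.y k l t) (B.Y p u) = B.Y p u :=
  conj_of_commute (B.XY_commute h1 h2 t u)

theorem cjYX_comm {k l p : J} (h1 : p ≠ l) (h2 : p ≠ ν k) (t u : K) :
    MulAut.conj (B.Y p u) (B.D.y k l t) = B.D.y k l t :=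
  conj_of_commute (B.XY_commute h1 h2 t u).symm

theorem cjXY {k l : J} (hkl : k ≠ l) (hkl' : k ≠ ν l) (s t : K) :
    MulAut.conj (B.D.y k l s) (B.Y l t) =
      B.Y k (s * t) * B.D.y k (ν l) (s * t ^ 2) * B.Y l t := by
  rw [MulAut.conj_apply, ← B.XY_rel k l s t hkl hkl']
  group

theorem cjYX {k l : J} (hkl : k ≠ l) (hkl' : k ≠ ν l) (s t : K) :
    MulAut.conj (B.Y l t) (B.D.y k l s) =
      B.D.y k l s * B.Y k (-(s * t)) * B.D.y k (ν l) (-(s * t ^ 2)) := by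
  have h := B.XY_rel k l (-s) t hkl hkl'
  rw [B.D.y_neg, neg_mul, neg_mul] at h
  rw [MulAut.conj_apply, mul_assoc (B.D.y k l s), ← h]
  group

theorem cjYY {k l : J} (hlk : l ≠ k) (hlk' : l ≠ ν k) (s t : K) :
    MulAut.conj (B.Y k s) (B.Y l t) = B.D.y k (ν l) (-(2 * s * t)) * B.Y l t := by
  rw [MulAut.conj_apply, ← B.YY_rel k l s t hlk hlk']
  group

/-- the short root element `Y k` commutes with the long root element of `e_k - e_l` -/
theorem XY_commute_fst {k l : J} (hkl : k ≠ l) (t u : K) :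
    Commute (B.D.y k l t) (B.Y k u) := B.XY_commute hkl (B.D.ne_nu k) t u

/-- the short root element `Y l` commutes with the long root element of `e_k + e_l` -/
theorem XY_commute_snd {k l : J} (hkl : k ≠ ν l) (t u : K) :
    Commute (B.D.y k (ν l) t) (B.Y l u) :=
  B.XY_commute (B.D.ne_nu l) (B.D.ne_nu_symm hkl) t u

/-- the short Weyl elements -/
def wS (k : J) (u : K) : G := B.Y k u * B.Y (ν k) u⁻¹ * B.Y k u

theorem wS_inv (k : J) (u : K) : (B.wS k u)⁻¹ = B.wS k (-u) := by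
  unfold wS
  rw [mul_inv_rev, mul_inv_rev, ← B.Y_neg, ← B.Y_neg, inv_neg, mul_assoc]

/-! ### The action of the long Weyl elements on the short root elements -/

theorem cjwL_Yl {k l : J} (hkl : k ≠ l) (hkl' : k ≠ ν l) {u : K} (hu : u ≠ 0) (t : K) :
    MulAut.conj (B.D.w k l u) (B.Y l t) = B.Y k (u * t) := by
  have hlk' : l ≠ ν k := B.D.ne_nu_symm hkl'
  have s2 : MulAut.conj (B.D.y l k (-u⁻¹))
      (B.Y k (u * t) * B.D.y k (ν l) (u * t ^ 2) * B.Y l t) = B.Y k (u * t) := by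
    rw [map_mul, map_mul, B.cjXY hkl.symm hlk', conj_of_commute (B.D.comm3 l k _ _),
      B.cjXY_comm (k := l) (l := k) (p := l) hkl.symm (B.D.ne_nu l)]
    have e1 : B.Y l (-u⁻¹ * (u * t)) = B.Y l (-t) := by
      congr 1; field_simp
    have e2 : B.D.y l (ν k) (-u⁻¹ * (u * t) ^ 2) = B.D.y k (ν l) (u * t ^ 2) := by
      rw [B.D.y_flip l (ν k), B.D.nu_nu]; congr 1; field_simp
    have e3 : B.Y l t = (B.Y l (-t))⁻¹ := by rw [B.Y_neg, inv_inv]
    rw [e1, e2, e3]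
    apply sandwich_aux (z := B.D.y k (ν l) (-(2 * (u * t ^ 2))))
    · exact B.XY_commute_fst hkl' _ _
    · exact B.XY_commute_snd hkl' _ _
    · have := B.cjYY (k := l) (l := k) hkl hkl' (-t) (u * t)
      rw [MulAut.conj_apply, B.D.y_flip l (ν k), B.D.nu_nu] at this
      rw [this]
      congr 2
      ring
    · rw [← B.D.y_add, ← B.D.y_add]
      have : u * t ^ 2 + u * t ^ 2 + -(2 * (u * t ^ 2)) = 0 := by ring
      rw [this, B.D.y_zero]
  unfold DData.w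
  rw [conj_mul3, B.cjXY hkl hkl', s2]
  exact B.cjXY_comm hkl (B.D.ne_nu k) _ _

theorem cjwL_Yk {k l c : J} (h : Tri ν k l c) {u : K} (hu : u ≠ 0) (t : K) :
    MulAut.conj (B.D.w k l u) (B.Y k t) = B.Y l (-u⁻¹ * t) := by
  rw [B.D.w_swap h hu]
  exact B.cjwL_Yl h.ab.symm (B.D.ne_nu_symm h.ab') (neg_ne_zero.mpr (inv_ne_zero hu)) t

theorem cjwL_Ynk {k l : J} (hkl : k ≠ l) (hkl' : k ≠ ν l) {u : K} (hu : u ≠ 0) (t : K) :
    MulAut.conj (B.D.w k l u) (B.Y (ν k) t) = B.Y (ν l) (-u * t) := by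
  rw [B.D.w_flip k l u]
  apply B.cjwL_Yl (fun h => hkl (B.D.nu_inj h).symm) _ (neg_ne_zero.mpr hu)
  rw [B.D.nu_nu]
  exact hkl'.symm

theorem cjwL_Ynl {k l c : J} (h : Tri ν k l c) {u : K} (hu : u ≠ 0) (t : K) :
    MulAut.conj (B.D.w k l u) (B.Y (ν l) t) = B.Y (ν k) (u⁻¹ * t) := by
  rw [B.D.w_flip k l u]
  have hT : Tri ν (ν l) (ν k) c :=
    ⟨fun e => h.ab (B.D.nu_inj e).symm, fun e' => h.bc' (by rw [← e', B.D.nu_nu]),
      fun e' => h.ac' (by rw [← e', B.D.nu_nu]),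
      by rw [B.D.nu_nu]; exact h.ab'.symm,
      fun e' => h.bc (B.D.nu_inj e'), fun e' => h.ac (B.D.nu_inj e')⟩
  rw [B.cjwL_Yk hT (neg_ne_zero.mpr hu)]
  congr 1
  rw [inv_neg, neg_neg]

theorem cjwL_Yne [DecidableEq J] {k l p : J} (h1 : p ≠ k) (h2 : p ≠ l) (h3 : p ≠ ν k)
    (h4 : p ≠ ν l) (u t : K) : MulAut.conj (B.D.w k l u) (B.Y p t) = B.Y p t :=
  B.D.cj_w_of_comm (fun s => B.XY_commute h2 h3 s t) (fun s => B.XY_commute h1 h4 s t)

/-! ### The action of the short Weyl elements -/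

theorem cjwS_Xa {a l : J} (hla : l ≠ a) (hla' : l ≠ ν a) {u : K} (hu : u ≠ 0) (t : K) :
    MulAut.conj (B.wS a u) (B.D.y a l t) = B.D.y (ν a) l (-(u⁻¹) ^ 2 * t) := by
  have nn : ∀ x : J, ν (ν x) = x := B.D.nu_nu
  have h1 : ν l ≠ ν a := fun e => hla (B.D.nu_inj e)
  have h2 : ν l ≠ a := fun e => hla' (by rw [← e, nn])
  -- the three commuting families
  have cAY : ∀ s s', Commute (B.D.y a l s) (B.Y (ν l) s') := fun s s' =>
    B.XY_commute (k := a) (l := l) (p := ν l) (B.D.nu_ne l) h1 s s'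
  have cAZ : ∀ s s', Commute (B.D.y a l s) (B.D.y (ν l) a s') := fun s s' => by
    have := B.D.comm4 a l s s'
    exact this
  have cYZ : ∀ s s', Commute (B.Y (ν l) s) (B.D.y (ν l) a s') := fun s s' =>
    (B.XY_commute_fst h2 s' s).symm
  have s1 : MulAut.conj (B.Y a u) (B.D.y a l t) = B.D.y a l t :=
    conj_of_commute (B.XY_commute_fst hla.symm t u).symm
  have s2 : MulAut.conj (B.Y (ν a) u⁻¹) (B.D.y a l t) =
      B.D.y a l t * B.Y (ν l) (t * u⁻¹) * B.D.y (ν l) a (t * (u⁻¹) ^ 2) := by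
    have := B.cjYX (k := ν l) (l := ν a) h1 (by rw [nn]; exact h2) (-t) u⁻¹
    rw [← B.D.y_flip a l t, nn] at this
    rw [this]
    congr 2
    · congr 1; ring
    · ring
  have s3a : MulAut.conj (B.Y a u) (B.Y (ν l) (t * u⁻¹)) =
      B.D.y a l (-(2 * t)) * B.Y (ν l) (t * u⁻¹) := by
    rw [B.cjYY h2 h1, nn]
    congr 2
    field_simp
  have s3b : MulAut.conj (B.Y a u) (B.D.y (ν l) a (t * (u⁻¹) ^ 2)) =
      B.D.y (ν l) a (t * (u⁻¹) ^ 2) * B.Y (ν l) (-(t * u⁻¹)) * B.D.y a l t := by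
    rw [B.cjYX h2 h1, B.D.y_flip (ν l) (ν a), nn, nn]
    congr 2
    · congr 1; field_simp
    · field_simp
  unfold wS
  rw [conj_mul3, s1, s2, map_mul, map_mul, s1, s3a, s3b]
  have e0 : B.D.y (ν a) l (-(u⁻¹) ^ 2 * t) = B.D.y (ν l) a (t * (u⁻¹) ^ 2) := by
    rw [B.D.y_flip (ν a) l, nn]; congr 1; ring
  rw [e0]
  set A := fun s => B.D.y a l s with hA
  set Yn := fun s => B.Y (ν l) s with hYn
  set Z := B.D.y (ν l) a (t * (u⁻¹) ^ 2) with hZ
  have a1 : A t * A (-(2 * t)) * A t = 1 := by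
    simp only [hA]
    rw [← B.D.y_add, ← B.D.y_add]
    have : t + -(2 * t) + t = 0 := by ring
    rw [this, B.D.y_zero]
  have a2 : Yn (t * u⁻¹) * Yn (-(t * u⁻¹)) = 1 := by
    simp only [hYn]
    rw [← B.Y_add, add_neg_cancel, B.Y_zero]
  show A t * (A (-(2 * t)) * Yn (t * u⁻¹)) * (Z * Yn (-(t * u⁻¹)) * A t) = Z
  calc A t * (A (-(2 * t)) * Yn (t * u⁻¹)) * (Z * Yn (-(t * u⁻¹)) * A t)
      = A t * A (-(2 * t)) * (Yn (t * u⁻¹) * Z) * Yn (-(t * u⁻¹)) * A t := by group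
    _ = A t * A (-(2 * t)) * (Z * Yn (t * u⁻¹)) * Yn (-(t * u⁻¹)) * A t := by
        rw [(cYZ (t * u⁻¹) _).eq]
    _ = A t * A (-(2 * t)) * Z * (Yn (t * u⁻¹) * Yn (-(t * u⁻¹))) * A t := by group
    _ = A t * A (-(2 * t)) * (Z * A t) := by rw [a2]; group
    _ = A t * A (-(2 * t)) * (A t * Z) := by rw [(cAZ t _).eq]
    _ = (A t * A (-(2 * t)) * A t) * Z := by group
    _ = Z := by rw [a1, one_mul]

theorem cjwS_Xna {a l : J} (hla : l ≠ a) (hla' : l ≠ ν a) {u : K} (hu : u ≠ 0) (t : K) :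
    MulAut.conj (B.wS a u) (B.D.y (ν a) l t) = B.D.y a l (-u ^ 2 * t) := by
  have h := B.cjwS_Xa hla hla' (neg_ne_zero.mpr hu) (-u ^ 2 * t)
  have e : -((-u)⁻¹) ^ 2 * (-u ^ 2 * t) = t := by field_simp
  rw [e, ← B.wS_inv, map_inv, MulAut.inv_apply, MulEquiv.symm_apply_eq] at h
  exact h.symm

theorem cjwS_Yne {a p : J} (hpa : p ≠ a) (hpa' : p ≠ ν a) {u : K} (hu : u ≠ 0) (t : K) :
    MulAut.conj (B.wS a u) (B.Y p t) = B.Y p (-t) := by
  have nn : ∀ x : J, ν (ν x) = x := B.D.nu_nu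
  have s1 : ∀ t', MulAut.conj (B.Y a u) (B.Y p t') = B.D.y p (ν a) (2 * u * t') * B.Y p t' := by
    intro t'
    rw [B.cjYY hpa hpa', B.D.y_flip a (ν p), nn, neg_neg]
  have s2a : MulAut.conj (B.Y (ν a) u⁻¹) (B.D.y p (ν a) (2 * u * t)) =
      B.D.y p (ν a) (2 * u * t) * B.Y p (-(2 * t)) * B.D.y p a (-(2 * t * u⁻¹)) := by
    rw [B.cjYX hpa' (by rw [nn]; exact hpa), nn]
    congr 2
    · congr 1; field_simp
    · field_simp
  have s2b : MulAut.conj (B.Y (ν a) u⁻¹) (B.Y p t) = B.D.y p a (2 * t * u⁻¹) * B.Y p t := by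
    rw [B.cjYY hpa' (by rw [nn]; exact hpa), B.D.y_flip (ν a) (ν p), nn, nn, neg_neg]
    congr 2
    ring
  have s3 : MulAut.conj (B.Y a u) (B.D.y p (ν a) (2 * u * t)) = B.D.y p (ν a) (2 * u * t) :=
    conj_of_commute (B.XY_commute_snd hpa' _ _).symm
  unfold wS
  rw [conj_mul3, s1 t, map_mul, s2a, s2b]
  have e1 : B.D.y p (ν a) (2 * u * t) * B.Y p (-(2 * t)) * B.D.y p a (-(2 * t * u⁻¹)) *
      (B.D.y p a (2 * t * u⁻¹) * B.Y p t) = B.D.y p (ν a) (2 * u * t) * B.Y p (-t) := by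
    have e2 : B.D.y p a (-(2 * t * u⁻¹)) * B.D.y p a (2 * t * u⁻¹) = 1 := by
      rw [← B.D.y_add, neg_add_cancel, B.D.y_zero]
    have e3 : B.Y p (-(2 * t)) * B.Y p t = B.Y p (-t) := by
      rw [← B.Y_add]; congr 1; ring
    calc B.D.y p (ν a) (2 * u * t) * B.Y p (-(2 * t)) * B.D.y p a (-(2 * t * u⁻¹)) *
          (B.D.y p a (2 * t * u⁻¹) * B.Y p t)
        = B.D.y p (ν a) (2 * u * t) * B.Y p (-(2 * t)) *
          (B.D.y p a (-(2 * t * u⁻¹)) * B.D.y p a (2 * t * u⁻¹)) * B.Y p t := by group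
      _ = B.D.y p (ν a) (2 * u * t) * (B.Y p (-(2 * t)) * B.Y p t) := by rw [e2]; group
      _ = _ := by rw [e3]
  rw [e1, map_mul, s3, s1 (-t), ← mul_assoc, ← B.D.y_add]
  have : 2 * u * t + 2 * u * -t = 0 := by ring
  rw [this, B.D.y_zero, one_mul]

theorem cjwS_Ya {a l : J} (hla : l ≠ a) (hla' : l ≠ ν a) {u : K} (hu : u ≠ 0) (t : K) :
    MulAut.conj (B.wS a u) (B.Y a t) = B.Y (ν a) ((u⁻¹) ^ 2 * t) := by
  have nn : ∀ x : J, ν (ν x) = x := B.D.nu_nu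
  have h1 : ν l ≠ a := fun e => hla' (by rw [← e, nn])
  have h2 : ν l ≠ ν a := fun e => hla (B.D.nu_inj e)
  have hrel := B.XY_rel a l t 1 hla.symm (B.D.ne_nu_symm hla')
  rw [mul_one, one_pow, mul_one] at hrel
  have e1 : B.Y a t = B.D.y a l t * B.Y l 1 * (B.D.y a l t)⁻¹ * (B.Y l 1)⁻¹ *
      (B.D.y a (ν l) t)⁻¹ := by rw [hrel]; group
  rw [e1]
  simp only [map_mul, map_inv]
  rw [B.cjwS_Xa hla hla' hu, B.cjwS_Yne hla hla' hu, B.cjwS_Xa h1 h2 hu]
  have hla'' : ν a ≠ ν l := fun e => hla (B.D.nu_inj e).symm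
  have hrel2 := B.XY_rel (ν a) l (-(u⁻¹) ^ 2 * t) (-1) (Ne.symm hla') hla''
  rw [hrel2]
  have e2 : -(u⁻¹) ^ 2 * t * (-1) ^ 2 = -(u⁻¹) ^ 2 * t := by ring
  have e3 : -(u⁻¹) ^ 2 * t * -1 = (u⁻¹) ^ 2 * t := by ring
  rw [e2, e3, mul_inv_cancel_right]

theorem cjwS_Yna {a l : J} (hla : l ≠ a) (hla' : l ≠ ν a) {u : K} (hu : u ≠ 0) (t : K) :
    MulAut.conj (B.wS a u) (B.Y (ν a) t) = B.Y a (u ^ 2 * t) := by
  have h := B.cjwS_Ya hla hla' (neg_ne_zero.mpr hu) (u ^ 2 * t)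
  have e : ((-u)⁻¹) ^ 2 * (u ^ 2 * t) = t := by field_simp
  rw [e, ← B.wS_inv, map_inv, MulAut.inv_apply, MulEquiv.symm_apply_eq] at h
  exact h.symm

theorem cjwS_comm {a k l : J} (h1 : k ≠ a) (h2 : k ≠ ν a) (h3 : l ≠ a) (h4 : l ≠ ν a)
    (u t : K) : MulAut.conj (B.wS a u) (B.D.y k l t) = B.D.y k l t := by
  have nn : ∀ x : J, ν (ν x) = x := B.D.nu_nu
  have c1 : ∀ s, Commute (B.Y a s) (B.D.y k l t) := fun s =>
    (B.XY_commute h3.symm (fun e => h2 (by rw [e, nn])) t s).symm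
  have c2 : ∀ s, Commute (B.Y (ν a) s) (B.D.y k l t) := fun s =>
    (B.XY_commute h4.symm (fun e => h1 (B.D.nu_inj e).symm) t s).symm
  unfold wS
  rw [conj_mul3, conj_of_commute (c1 u), conj_of_commute (c2 _), conj_of_commute (c1 u)]

/-- the rank one relation for the short roots -/
theorem Yn_eq_ywy (a : J) {b : K} (hb : b ≠ 0) :
    B.Y (ν a) b = B.Y a (-b⁻¹) * B.wS a b⁻¹ * B.Y a (-b⁻¹) := by
  unfold wS
  rw [inv_inv, B.Y_neg]
  group

end BData

end Cfsg.Agent.Lib.Helper3.BN
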