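import Cfsg.Agent.Lib.Helper3.BN1

/-!
# Type `B`: the Weyl elements act monomially
-/

set_option linter.unusedSectionVars false
set_option linter.unusedVariables false

namespace Cfsg.Agent.Lib.Helper3.BN

open Cfsg.Agent.Lib.Helper5.Stb Cfsg.Agent.Lib.Helper3.AN Cfsg.Agent.Lib.Helper3.DN

variable {J K G : Type*} [Field K] [Group G] {ν : J → J} (B : BData J K G ν) [DecidableEq J]

/-- `g` acts monomially on the long and on the short root elements -/
structure RawMonB (B : BData J K G ν) (g : G) (π : Equiv.Perm J) (v : J → K) (ε : K) : Prop where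
  raw : RawMon B.D.y g π v
  nu : ∀ k, π (ν k) = ν (π k)
  eps : ε * ε = 1
  short : ∀ k t, MulAut.conj g (B.Y k t) = B.Y (π k) (v k * ε * t)

namespace RawMonB

variable {B}

theorem one : RawMonB B 1 1 (fun _ => 1) 1 :=
  ⟨RawMon.one _, fun _ => rfl, one_mul 1, fun k t => by simp⟩

theorem mul {g g' : G} {π π' : Equiv.Perm J} {v v' : J → K} {ε ε' : K}
    (h : RawMonB B g π v ε) (h' : RawMonB B g' π' v' ε') :
    RawMonB B (g * g') (π * π') (fun k => v' k * v (π' k)) (ε * ε') := by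
  refine ⟨h.raw.mul h'.raw, fun k => ?_, ?_, fun k t => ?_⟩
  · rw [Equiv.Perm.mul_apply, Equiv.Perm.mul_apply, h'.nu, h.nu]
  · calc ε * ε' * (ε * ε') = (ε * ε) * (ε' * ε') := by ring
      _ = 1 := by rw [h.eps, h'.eps, one_mul]
  · rw [map_mul, MulAut.mul_apply, h'.short, h.short, Equiv.Perm.mul_apply]
    congr 1
    ring

theorem eps_ne_zero {g : G} {π : Equiv.Perm J} {v : J → K} {ε : K} (h : RawMonB B g π v ε) :
    ε ≠ 0 := by
  intro e
  have := h.eps
  rw [e, mul_zero] at this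
  exact zero_ne_one this

theorem inv {g : G} {π : Equiv.Perm J} {v : J → K} {ε : K} (h : RawMonB B g π v ε) :
    RawMonB B g⁻¹ π⁻¹ (fun k => (v (π⁻¹ k))⁻¹) ε := by
  refine ⟨h.raw.inv, fun k => ?_, h.eps, fun k t => ?_⟩
  · apply π.injective
    rw [h.nu]
    simp
  · obtain ⟨a, rfl⟩ : ∃ a, π a = k := ⟨π⁻¹ k, by simp⟩
    rw [map_inv, MulAut.inv_apply, MulEquiv.symm_apply_eq]
    have e1 : π⁻¹ (π a) = a := by simp
    simp only [e1]
    rw [h.short]
    congr 1
    have h1 := h.raw.1 a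
    have h2 := h.eps
    field_simp
    calc t = t * 1 := by ring
      _ = t * (ε * ε) := by rw [h2]
      _ = _ := by ring

theorem congr {g : G} {π π' : Equiv.Perm J} {v v' : J → K} {ε ε' : K} (h : RawMonB B g π v ε)
    (hπ : π = π') (hvec : ∀ k, v k = v' k) (hε : ε = ε') : RawMonB B g π' v' ε' := by
  have : v = v' := funext hvec
  subst this; subst hπ; subst hε; exact h

/-- moving a short root element through a monomial element -/
theorem moveS {g : G} {π : Equiv.Perm J} {v : J → K} {ε : K} (h : RawMonB B g π v ε) (k : J)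
    (t : K) : ∃ t', B.Y (π k) t * g = g * B.Y k t' := by
  refine ⟨(v k)⁻¹ * ε * t, ?_⟩
  have h1 := h.short k ((v k)⁻¹ * ε * t)
  have h2 : v k * ε * ((v k)⁻¹ * ε * t) = t := by
    have := h.raw.1 k
    have h3 := h.eps
    field_simp
    calc ε ^ 2 * t = (ε * ε) * t := by ring
      _ = t := by rw [h3, one_mul]
  rw [h2, MulAut.conj_apply] at h1
  rw [← h1]; group

end RawMonB

/-- the monomial entries of the short Weyl element `wS a u` -/
def vS (ν : J → J) (a : J) (u : K) : J → K := fun k =>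
  if k = a then -(u⁻¹) ^ 2 else if k = ν a then -u ^ 2 else 1

omit [Group G] in
theorem vS_a (a : J) (u : K) : vS ν a u a = -(u⁻¹) ^ 2 := by simp [vS]

omit [Group G] in
theorem vS_of_ne {a k : J} (u : K) (h1 : k ≠ a) (h2 : k ≠ ν a) : vS ν a u k = 1 := by
  simp [vS, h1, h2]

namespace BData

include B in
theorem vS_na (a : J) (u : K) : vS ν a u (ν a) = -u ^ 2 := by
  simp [vS, B.D.nu_ne a]

omit [Group G] in
theorem vS_ne_zero {a : J} {u : K} (hu : u ≠ 0) (k : J) : vS ν a u k ≠ 0 := by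
  unfold vS
  split_ifs
  · exact neg_ne_zero.mpr (pow_ne_zero 2 (inv_ne_zero hu))
  · exact neg_ne_zero.mpr (pow_ne_zero 2 hu)
  · exact one_ne_zero

include B in
theorem swap_nu (a k : J) : Equiv.swap a (ν a) (ν k) = ν (Equiv.swap a (ν a) k) := by
  by_cases h1 : k = a
  · subst h1
    rw [Equiv.swap_apply_right, Equiv.swap_apply_left, B.D.nu_nu]
  by_cases h2 : k = ν a
  · subst h2
    rw [B.D.nu_nu, Equiv.swap_apply_left, Equiv.swap_apply_right]
  · rw [Equiv.swap_apply_of_ne_of_ne h1 h2, Equiv.swap_apply_of_ne_of_ne]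
    · intro e; apply h2; rw [← e, B.D.nu_nu]
    · intro e; exact h1 (B.D.nu_inj e)

include B in
theorem vS_nu {a : J} {u : K} (hu : u ≠ 0) (k : J) : vS ν a u (ν k) = (vS ν a u k)⁻¹ := by
  by_cases h1 : k = a
  · subst h1
    rw [B.vS_na, vS_a]
    field_simp
  by_cases h2 : k = ν a
  · subst h2
    rw [B.D.nu_nu, B.vS_na, vS_a]
    field_simp
  · rw [vS_of_ne u h1 h2, vS_of_ne u, inv_one]
    · intro e; apply h2; rw [← e, B.D.nu_nu]
    · intro e; exact h1 (B.D.nu_inj e)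

/-- the monomial action of `wS a u` on the long root elements of the root `(k, l)` -/
def PS (B : BData J K G ν) (a : J) (u : K) (k l : J) : Prop :=
  ∀ t, MulAut.conj (B.wS a u) (B.D.y k l t) =
    B.D.y (Equiv.swap a (ν a) k) (Equiv.swap a (ν a) l) (vS ν a u k * t * (vS ν a u l)⁻¹)

theorem PS_flip {a : J} {u : K} (hu : u ≠ 0) {k l : J} (h : PS B a u (ν l) (ν k)) :
    PS B a u k l := by
  intro t
  rw [B.D.y_flip k l t, h (-t), B.swap_nu, B.swap_nu,
    B.D.y_flip (ν (Equiv.swap a (ν a) l)) (ν (Equiv.swap a (ν a) k)), B.D.nu_nu, B.D.nu_nu,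
    B.vS_nu hu, B.vS_nu hu]
  congr 1
  rw [inv_inv]
  ring

theorem PS_a {a l : J} (hla : l ≠ a) (hla' : l ≠ ν a) {u : K} (hu : u ≠ 0) : PS B a u a l := by
  intro t
  rw [B.cjwS_Xa hla hla' hu, Equiv.swap_apply_left, Equiv.swap_apply_of_ne_of_ne hla hla', vS_a,
    vS_of_ne u hla hla', inv_one, mul_one]

theorem PS_na {a l : J} (hla : l ≠ a) (hla' : l ≠ ν a) {u : K} (hu : u ≠ 0) :
    PS B a u (ν a) l := by
  intro t
  rw [B.cjwS_Xna hla hla' hu, Equiv.swap_apply_right, Equiv.swap_apply_of_ne_of_ne hla hla',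
    B.vS_na, vS_of_ne u hla hla', inv_one, mul_one]

theorem PS_ne {a k l : J} (h1 : k ≠ a) (h2 : k ≠ ν a) (h3 : l ≠ a) (h4 : l ≠ ν a) (u : K) :
    PS B a u k l := by
  intro t
  rw [B.cjwS_comm h1 h2 h3 h4, Equiv.swap_apply_of_ne_of_ne h1 h2,
    Equiv.swap_apply_of_ne_of_ne h3 h4, vS_of_ne u h1 h2, vS_of_ne u h3 h4, inv_one, mul_one,
    one_mul]

/-- the short Weyl elements act monomially -/
theorem rawMonB_wS {a c : J} (hca : c ≠ a) (hca' : c ≠ ν a) {u : K} (hu : u ≠ 0) :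
    RawMonB B (B.wS a u) (Equiv.swap a (ν a)) (vS ν a u) (-1) := by
  have nn : ∀ x : J, ν (ν x) = x := B.D.nu_nu
  refine ⟨⟨vS_ne_zero hu, fun k l => ?_⟩, B.swap_nu a, by ring, fun k t => ?_⟩
  · change PS B a u k l
    by_cases hkl : k = l
    · subst hkl
      intro t
      rw [B.D.y_self, B.D.y_self, map_one]
    by_cases hkl' : l = ν k
    · subst hkl'
      intro t
      rw [B.D.y_opp, B.swap_nu, B.D.y_opp, map_one]
    by_cases hka : k = a
    · subst hka
      exact B.PS_a (l := l) (Ne.symm hkl) hkl' hu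
    by_cases hka' : k = ν a
    · subst hka'
      refine B.PS_na (fun e => hkl' (by rw [e, nn])) (Ne.symm hkl) hu
    by_cases hla : l = a
    · subst hla
      apply B.PS_flip hu
      exact B.PS_na (l := ν k) (fun e => hkl' e.symm) (fun e => hkl (B.D.nu_inj e)) hu
    by_cases hla' : l = ν a
    · subst hla'
      apply B.PS_flip hu
      rw [nn]
      refine B.PS_a (fun e => hka' (by rw [← e, nn])) (fun e => hka (B.D.nu_inj e)) hu
    · exact B.PS_ne hka hka' hla hla' u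
  · by_cases hka : k = a
    · subst hka
      rw [B.cjwS_Ya hca hca' hu, Equiv.swap_apply_left, vS_a]
      congr 1; ring
    by_cases hka' : k = ν a
    · subst hka'
      rw [B.cjwS_Yna hca hca' hu, Equiv.swap_apply_right, B.vS_na]
      congr 1; ring
    · rw [B.cjwS_Yne hka hka' hu, Equiv.swap_apply_of_ne_of_ne hka hka', vS_of_ne u hka hka']
      congr 1; ring

/-- the long Weyl elements act monomially -/
theorem rawMonB_w (hc : ∀ a b : J, ∃ c, c ≠ a ∧ c ≠ b ∧ c ≠ ν a ∧ c ≠ ν b) {i j : J}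
    (hij : i ≠ j) (hij' : i ≠ ν j) {u : K} (hu : u ≠ 0) :
    RawMonB B (B.D.w i j u) (sig ν i j) (wvecD ν i j u) 1 := by
  obtain ⟨c, hc1, hc2, hc3, hc4⟩ := hc i j
  have hT : Tri ν i j c :=
    ⟨hij, hc1.symm, hc2.symm, hij', B.D.ne_nu_symm hc3, B.D.ne_nu_symm hc4⟩
  refine ⟨B.D.rawMon_w hc hij hij' hu, sig_nu B.D hij hij', one_mul 1, fun k t => ?_⟩
  rw [mul_one]
  by_cases h1 : k = j
  · subst h1
    rw [B.cjwL_Yl hij hij' hu, sig_j B.D hij hij', wv_j B.D hij hij']
  by_cases h2 : k = i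
  · subst h2
    rw [B.cjwL_Yk hT hu, sig_i B.D hij hij', wv_i B.D hij hij']
  by_cases h3 : k = ν j
  · subst h3
    rw [B.cjwL_Ynl hT hu, sig_nj B.D hij hij', wv_nj B.D hij hij']
  by_cases h4 : k = ν i
  · subst h4
    rw [B.cjwL_Ynk hij hij' hu, sig_ni B.D hij hij', wv_ni B.D hij hij']
  · rw [B.cjwL_Yne h2 h1 h4 h3, sig_of_ne h2 h1 h4 h3, wv_of_ne u h2 h1 h4 h3, one_mul]

end BData

end Cfsg.Agent.Lib.Helper3.BN
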