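import Cfsg.Agent.Lib.Helper3.BN3

/-!
# Type `B`: the Bruhat decomposition
-/

set_option linter.unusedSectionVars false
set_option linter.unusedVariables false

namespace Cfsg.Agent.Lib.Helper3.BN

open Cfsg.Agent.Lib.Helper5.Stb Cfsg.Agent.Lib.Helper3.AN Cfsg.Agent.Lib.Helper3.DN

section grp
variable {G : Type*} [Group G]

/-- separating the two factors of the commutator of a long and a short root element -/
theorem split_two {K : Type*} [Field K] (h2 : (2 : K) ≠ 0) (S : Subgroup G) (X Y : K → G)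
    (hX : ∀ a b, X (a + b) = X a * X b) (hY : ∀ a b, Y (a + b) = Y a * Y b)
    (hXY : ∀ a b, Commute (X a) (Y b)) (h : ∀ s t : K, Y (s * t) * X (s * t ^ 2) ∈ S) (r : K) :
    X r ∈ S ∧ Y r ∈ S := by
  have hX0 : X 0 = 1 := by
    have := hX 0 0
    rw [add_zero] at this
    exact (mul_eq_left.1 this.symm)
  have hY0 : Y 0 = 1 := by
    have := hY 0 0
    rw [add_zero] at this
    exact (mul_eq_left.1 this.symm)
  have hXn : ∀ a, X (-a) = (X a)⁻¹ := fun a => by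
    rw [eq_inv_iff_mul_eq_one, ← hX, neg_add_cancel, hX0]
  have hYn : ∀ a, Y (-a) = (Y a)⁻¹ := fun a => by
    rw [eq_inv_iff_mul_eq_one, ← hY, neg_add_cancel, hY0]
  have h1 : ∀ s, X (2 * s) ∈ S := by
    intro s
    have e1 := h s 1
    have e2 := h (-s) (-1)
    have e3 : Y (s * 1) * X (s * 1 ^ 2) * (Y (-s * -1) * X (-s * (-1) ^ 2))⁻¹ = X (2 * s) := by
      have a1 : s * 1 = s := mul_one s
      have a2 : s * (1 : K) ^ 2 = s := by ring
      have a3 : -s * -1 = s := by ring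
      have a4 : -s * (-1 : K) ^ 2 = -s := by ring
      rw [a1, a2, a3, a4, hXn, mul_inv_rev, inv_inv, two_mul, hX]
      calc Y s * X s * (X s * (Y s)⁻¹) = Y s * (X s * X s) * (Y s)⁻¹ := by group
        _ = (X s * X s) * Y s * (Y s)⁻¹ := by
            rw [← hX, ((hXY (s + s) s).symm).eq]
        _ = X s * X s := by group
    rw [← e3]
    exact mul_mem e1 (inv_mem e2)
  have hXr : ∀ r, X r ∈ S := by
    intro r
    have := h1 (r / 2)
    rwa [mul_div_cancel₀ r h2] at this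
  refine ⟨hXr r, ?_⟩
  have e1 := h r 1
  have a1 : r * 1 = r := mul_one r
  have a2 : r * (1 : K) ^ 2 = r := by ring
  rw [a1, a2] at e1
  have : Y r = Y r * X r * (X r)⁻¹ := by group
  rw [this]
  exact mul_mem e1 (inv_mem (hXr r))

end grp

variable {n : ℕ} {K G : Type*} [Field K] [Group G] (B : BData (Fin (n + n)) K G Fin.rev)

namespace BData

/-- the root elements generate -/
def Gen {J : Type*} {ν : J → J} (B : BData J K G ν) : Prop :=
  Subgroup.closure ({g : G | ∃ k l t, g = B.D.y k l t} ∪ {g : G | ∃ k t, g = B.Y k t}) = ⊤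

/-- the generators of the monomial subgroup -/
def genN : Set G :=
  {g | ∃ i j u, i ≠ j ∧ i ≠ Fin.rev j ∧ u ≠ 0 ∧ g = B.D.w i j u} ∪
    {g | ∃ (k : Fin (n + n)) (u : K), u ≠ 0 ∧ g = B.wS k u}

/-- the monomial subgroup -/
def NwB : Subgroup G := Subgroup.closure B.genN

theorem w_mem_NwB {i j : Fin (n + n)} (hij : i ≠ j) (hij' : i ≠ Fin.rev j) {u : K} (hu : u ≠ 0) :
    B.D.w i j u ∈ B.NwB := Subgroup.subset_closure (Or.inl ⟨i, j, u, hij, hij', hu, rfl⟩)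

theorem wS_mem_NwB (k : Fin (n + n)) {u : K} (hu : u ≠ 0) : B.wS k u ∈ B.NwB :=
  Subgroup.subset_closure (Or.inr ⟨k, u, hu, rfl⟩)

/-- the big union of Bruhat cells -/
def OmB : Set G := {g | ∃ u₁ ∈ B.UposB, ∃ m ∈ B.NwB, ∃ u₂ ∈ B.UposB, g = u₁ * m * u₂}

theorem OmB_mul_left {u g : G} (hu : u ∈ B.UposB) (hg : g ∈ B.OmB) : u * g ∈ B.OmB := by
  obtain ⟨u₁, hu₁, m, hm, u₂, hu₂, rfl⟩ := hg
  exact ⟨u * u₁, mul_mem hu hu₁, m, hm, u₂, hu₂, by group⟩

theorem OmB_mul_right {u g : G} (hu : u ∈ B.UposB) (hg : g ∈ B.OmB) : g * u ∈ B.OmB := by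
  obtain ⟨u₁, hu₁, m, hm, u₂, hu₂, rfl⟩ := hg
  exact ⟨u₁, hu₁, m, hm, u₂ * u, mul_mem hu₂ hu, by group⟩

theorem mem_OmB_of_NwB {m : G} (hm : m ∈ B.NwB) : m ∈ B.OmB :=
  ⟨1, one_mem _, m, hm, 1, one_mem _, by group⟩

/-- the stabiliser of `OmB` under left multiplication -/
def StabB : Subgroup G where
  carrier := {g | ∀ y ∈ B.OmB, g * y ∈ B.OmB ∧ g⁻¹ * y ∈ B.OmB}
  mul_mem' := by
    intro a b ha hb y hy
    refine ⟨?_, ?_⟩
    · rw [mul_assoc]; exact (ha _ (hb y hy).1).1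
    · rw [_root_.mul_inv_rev, mul_assoc]; exact (hb _ (ha y hy).2).2
  one_mem' := by
    intro y hy
    simpa using hy
  inv_mem' := by
    intro a ha y hy
    refine ⟨(ha y hy).2, ?_⟩
    rw [inv_inv]; exact (ha y hy).1

theorem UposB_le_StabB : B.UposB ≤ B.StabB := by
  intro u hu y hy
  exact ⟨B.OmB_mul_left hu hy, B.OmB_mul_left (inv_mem hu) hy⟩

section
variable (hc : ∀ a b : Fin (n + n), ∃ c, c ≠ a ∧ c ≠ b ∧ c ≠ Fin.rev a ∧ c ≠ Fin.rev b)
include hc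

theorem NwB_rawMonB {g : G} (hg : g ∈ B.NwB) : ∃ π v ε, RawMonB B g π v ε := by
  unfold NwB at hg
  induction hg using Subgroup.closure_induction with
  | mem y hy =>
    rcases hy with ⟨i, j, u, hij, hij', hu, rfl⟩ | ⟨k, u, hu, rfl⟩
    · exact ⟨_, _, _, B.rawMonB_w hc hij hij' hu⟩
    · obtain ⟨c, hc1, -, hc3, -⟩ := hc k k
      exact ⟨_, _, _, B.rawMonB_wS hc1 hc3 hu⟩
  | one => exact ⟨_, _, _, RawMonB.one⟩
  | mul a b _ _ ha hb =>
    obtain ⟨π, v, ε, h1⟩ := ha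
    obtain ⟨π', v', ε', h2⟩ := hb
    exact ⟨_, _, _, h1.mul h2⟩
  | inv a _ ha =>
    obtain ⟨π, v, ε, h1⟩ := ha
    exact ⟨_, _, _, h1.inv⟩

theorem coreL {a b : Fin (n + n)} (hab : a < b) (hab' : b ≠ Fin.rev a) {c : K} (hc0 : c ≠ 0)
    (t : K) {m : G} (hm : m ∈ B.NwB) : B.D.w a b c * B.D.y a b t * m ∈ B.OmB := by
  have habne : a ≠ b := ne_of_lt hab
  have hab'' : a ≠ Fin.rev b := B.D.ne_nu_symm hab'
  obtain ⟨π, v, ε, hmonB⟩ := B.NwB_rawMonB hc hm
  have hmon := hmonB.raw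
  have hs : B.D.w a b c ∈ B.NwB := B.w_mem_NwB habne hab'' hc0
  set k := π⁻¹ a with hk
  set l := π⁻¹ b with hl
  have hπk : π k = a := by simp [hk]
  have hπl : π l = b := by simp [hl]
  have hkl : k ≠ l := by
    intro h; apply habne; rw [← hπk, ← hπl, h]
  rcases lt_or_gt_of_ne hkl with hlt | hgt
  · obtain ⟨t', ht'⟩ := hmon.move k l t
    rw [hπk, hπl] at ht'
    rw [mul_assoc, ht', ← mul_assoc]
    exact B.OmB_mul_right (B.y_mem_UposB hlt t') (B.mem_OmB_of_NwB (mul_mem hs hm))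
  · by_cases ht : t = 0
    · subst ht
      rw [B.D.y_zero, mul_one]
      exact B.mem_OmB_of_NwB (mul_mem hs hm)
    have hsmon := B.D.rawMon_w hc habne hab'' hc0
    have e1 := hsmon.2 a b t
    rw [sig_i B.D habne hab'', sig_j B.D habne hab'', MulAut.conj_apply] at e1
    set b' := wvecD Fin.rev a b c a * t * (wvecD Fin.rev a b c b)⁻¹ with hb'
    have hb'0 : b' ≠ 0 := mul_ne_zero (mul_ne_zero (hsmon.1 a) ht) (inv_ne_zero (hsmon.1 b))
    have e2 : B.D.w a b c * B.D.y a b t = B.D.y b a b' * B.D.w a b c := by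
      rw [← e1]; group
    obtain ⟨c', hc1, hc2, hc3, hc4⟩ := hc a b
    have hT : Tri Fin.rev b a c' :=
      ⟨habne.symm, hc2.symm, hc1.symm, hab', B.D.ne_nu_symm hc4, B.D.ne_nu_symm hc3⟩
    have e3 := B.D.y_eq_ywy hT hb'0
    have hmon₁ := hsmon.mul hmon
    obtain ⟨t₁, ht₁⟩ := hmon₁.move l k b'⁻¹
    rw [Equiv.Perm.mul_apply, Equiv.Perm.mul_apply, hπk, hπl, sig_i B.D habne hab'',
      sig_j B.D habne hab''] at ht₁
    have e4 : B.D.w a b c * B.D.y a b t * m =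
        B.D.y a b b'⁻¹ * (B.D.w b a b' * (B.D.w a b c * m)) * B.D.y l k t₁ := by
      rw [e2, e3]
      calc B.D.y a b b'⁻¹ * B.D.w b a b' * B.D.y a b b'⁻¹ * B.D.w a b c * m
          = B.D.y a b b'⁻¹ * B.D.w b a b' * (B.D.y a b b'⁻¹ * (B.D.w a b c * m)) := by group
        _ = _ := by rw [ht₁]; group
    rw [e4]
    exact ⟨_, B.y_mem_UposB hab _, _,
      mul_mem (B.w_mem_NwB habne.symm hab' hb'0) (mul_mem hs hm), _, B.y_mem_UposB hgt _, rfl⟩

theorem coreS {a₀ : Fin (n + n)} (ha : a₀.val + 1 = n) {c : K} (hc0 : c ≠ 0) (t : K) {m : G}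
    (hm : m ∈ B.NwB) : B.wS a₀ c * B.Y a₀ t * m ∈ B.OmB := by
  obtain ⟨π, v, ε, hmon⟩ := B.NwB_rawMonB hc hm
  have hs : B.wS a₀ c ∈ B.NwB := B.wS_mem_NwB a₀ hc0
  set k := π⁻¹ a₀ with hk
  have hπk : π k = a₀ := by simp [hk]
  by_cases hkn : k.val < n
  · obtain ⟨t', ht'⟩ := hmon.moveS k t
    rw [hπk] at ht'
    rw [mul_assoc, ht', ← mul_assoc]
    exact B.OmB_mul_right (B.Y_mem_UposB hkn t') (B.mem_OmB_of_NwB (mul_mem hs hm))
  · by_cases ht : t = 0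
    · subst ht
      rw [B.Y_zero, mul_one]
      exact B.mem_OmB_of_NwB (mul_mem hs hm)
    obtain ⟨c', hc1, -, hc3, -⟩ := hc a₀ a₀
    have hsmon := B.rawMonB_wS hc1 hc3 hc0
    have e1 := hsmon.short a₀ t
    rw [Equiv.swap_apply_left, MulAut.conj_apply] at e1
    set b' := vS Fin.rev a₀ c a₀ * -1 * t with hb'
    have hb'0 : b' ≠ 0 :=
      mul_ne_zero (mul_ne_zero (vS_ne_zero hc0 a₀) (neg_ne_zero.mpr one_ne_zero)) ht
    have e2 : B.wS a₀ c * B.Y a₀ t = B.Y (Fin.rev a₀) b' * B.wS a₀ c := by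
      rw [← e1]; group
    have e3 := B.Yn_eq_ywy a₀ hb'0
    have hmon₁ := hsmon.mul hmon
    obtain ⟨t₁, ht₁⟩ := hmon₁.moveS (Fin.rev k) (-b'⁻¹)
    rw [Equiv.Perm.mul_apply, hmon.nu, hπk, Equiv.swap_apply_right] at ht₁
    have e4 : B.wS a₀ c * B.Y a₀ t * m =
        B.Y a₀ (-b'⁻¹) * (B.wS a₀ b'⁻¹ * (B.wS a₀ c * m)) * B.Y (Fin.rev k) t₁ := by
      rw [e2, e3]
      calc B.Y a₀ (-b'⁻¹) * B.wS a₀ b'⁻¹ * B.Y a₀ (-b'⁻¹) * B.wS a₀ c * m
          = B.Y a₀ (-b'⁻¹) * B.wS a₀ b'⁻¹ * (B.Y a₀ (-b'⁻¹) * (B.wS a₀ c * m)) := by group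
        _ = _ := by rw [ht₁]; group
    rw [e4]
    have hrk : (Fin.rev k).val < n := by
      have := Fin.val_rev k
      have := k.isLt
      omega
    exact ⟨_, B.Y_mem_UposB (by omega) _, _,
      mul_mem (B.wS_mem_NwB a₀ (inv_ne_zero hb'0)) (mul_mem hs hm), _, B.Y_mem_UposB hrk _, rfl⟩

theorem OmB_w_mul {a b : Fin (n + n)} (hs : IsSimpL a b) {c : K} (hc0 : c ≠ 0) {g : G}
    (hg : g ∈ B.OmB) : B.D.w a b c * g ∈ B.OmB := by
  have hlt : a < b := simp_lt hs.isSimp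
  have hab' : b ≠ Fin.rev a := simp_ne_rev hs.isSimp
  obtain ⟨u₁, hu₁, m, hm, u₂, hu₂, rfl⟩ := hg
  obtain ⟨u', hu', t, rfl⟩ := B.UposB_decomp_L hlt hs.2 hu₁
  have h1 := B.UaL_conj_w hc hs hc0 hu'
  have e : B.D.w a b c * (u' * B.D.y a b t * m * u₂) =
      MulAut.conj (B.D.w a b c) u' * (B.D.w a b c * B.D.y a b t * m) * u₂ := by
    rw [MulAut.conj_apply]; group
  rw [e]
  exact B.OmB_mul_right hu₂ (B.OmB_mul_left (B.UaL_le_UposB a b h1)
    (B.coreL hc hlt hab' hc0 t hm))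

theorem OmB_wS_mul (hn : 2 ≤ n) {a₀ : Fin (n + n)} (ha : a₀.val + 1 = n) {c : K} (hc0 : c ≠ 0)
    {g : G} (hg : g ∈ B.OmB) : B.wS a₀ c * g ∈ B.OmB := by
  obtain ⟨u₁, hu₁, m, hm, u₂, hu₂, rfl⟩ := hg
  obtain ⟨u', hu', t, rfl⟩ := B.UposB_decomp_S ha hu₁
  have h1 := B.UaS_conj_w ha hn hc0 hu'
  have e : B.wS a₀ c * (u' * B.Y a₀ t * m * u₂) =
      MulAut.conj (B.wS a₀ c) u' * (B.wS a₀ c * B.Y a₀ t * m) * u₂ := by
    rw [MulAut.conj_apply]; group
  rw [e]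
  exact B.OmB_mul_right hu₂ (B.OmB_mul_left (B.UaS_le_UposB h1) (B.coreS hc ha hc0 t hm))

theorem w_mem_StabB {a b : Fin (n + n)} (hs : IsSimpL a b) {c : K} (hc0 : c ≠ 0) :
    B.D.w a b c ∈ B.StabB := by
  intro y hy
  refine ⟨B.OmB_w_mul hc hs hc0 hy, ?_⟩
  rw [B.D.w_inv]
  exact B.OmB_w_mul hc hs (neg_ne_zero.mpr hc0) hy

theorem wS_mem_StabB (hn : 2 ≤ n) {a₀ : Fin (n + n)} (ha : a₀.val + 1 = n) {c : K}
    (hc0 : c ≠ 0) : B.wS a₀ c ∈ B.StabB := by
  intro y hy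
  refine ⟨B.OmB_wS_mul hc hn ha hc0 hy, ?_⟩
  rw [B.wS_inv]
  exact B.OmB_wS_mul hc hn ha (neg_ne_zero.mpr hc0) hy

theorem neg_simpleL_mem_StabB {a b : Fin (n + n)} (hs : IsSimpL a b) (t : K) :
    B.D.y b a t ∈ B.StabB := by
  have hlt : a < b := simp_lt hs.isSimp
  have habne : a ≠ b := ne_of_lt hlt
  have hab'' : a ≠ Fin.rev b := B.D.ne_nu_symm (simp_ne_rev hs.isSimp)
  have hmon := B.D.rawMon_w hc habne hab'' (one_ne_zero (α := K))
  have e1 := hmon.2 a b (-t)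
  rw [sig_i B.D habne hab'', sig_j B.D habne hab'', wv_i B.D habne hab'', wv_j B.D habne hab'',
    MulAut.conj_apply] at e1
  have e2 : -(1 : K)⁻¹ * -t * (1 : K)⁻¹ = t := by simp
  rw [e2] at e1
  rw [← e1]
  have hw := B.w_mem_StabB hc hs (one_ne_zero (α := K))
  exact mul_mem (mul_mem hw (B.UposB_le_StabB (B.y_mem_UposB hlt _))) (inv_mem hw)

theorem neg_simpleS_mem_StabB (hn : 2 ≤ n) {a₀ : Fin (n + n)} (ha : a₀.val + 1 = n) (t : K) :
    B.Y (Fin.rev a₀) t ∈ B.StabB := by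
  obtain ⟨c', hc1, -, hc3, -⟩ := hc a₀ a₀
  have hmon := B.rawMonB_wS hc1 hc3 (one_ne_zero (α := K))
  have e1 := hmon.short a₀ t
  rw [Equiv.swap_apply_left, vS_a, MulAut.conj_apply] at e1
  have e2 : -((1 : K)⁻¹) ^ 2 * -1 * t = t := by simp
  rw [e2] at e1
  rw [← e1]
  have hw := B.wS_mem_StabB hc hn ha (one_ne_zero (α := K))
  exact mul_mem (mul_mem hw (B.UposB_le_StabB (B.Y_mem_UposB (by omega) _))) (inv_mem hw)

/-- the negative root elements of type `A` -/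
theorem negA_mem_StabB : ∀ d : ℕ, ∀ k l : Fin (n + n), k.val < n → l.val + d + 1 = k.val →
    ∀ t : K, B.D.y k l t ∈ B.StabB := by
  intro d
  induction d with
  | zero =>
    intro k l hk hd t
    exact B.neg_simpleL_mem_StabB hc ⟨by omega, hk⟩ t
  | succ d ih =>
    intro k l hk hd t
    let m : Fin (n + n) := ⟨l.val + 1, by omega⟩
    have hmv : m.val = l.val + 1 := rfl
    have rk := Fin.val_rev k
    have rl := Fin.val_rev l
    have rm := Fin.val_rev m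
    have hT : Tri Fin.rev k m l := by
      refine ⟨?_, ?_, ?_, ?_, ?_, ?_⟩ <;> intro e <;> have := congrArg Fin.val e <;> omega
    have e := B.D.y_rel k m l t 1 hT.ab hT.bc hT.ac hT.ab' hT.bc' hT.ac'
    rw [mul_one] at e
    rw [← e]
    have m1 : B.D.y k m t ∈ B.StabB := ih k m hk (by omega) t
    have m2 : B.D.y m l 1 ∈ B.StabB := B.neg_simpleL_mem_StabB hc ⟨by omega, by omega⟩ 1
    exact mul_mem (mul_mem (mul_mem m1 m2) (inv_mem m1)) (inv_mem m2)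

/-- the negative short root elements -/
theorem negS_mem_StabB (h2 : (2 : K) ≠ 0) (hn : 2 ≤ n) : ∀ j : ℕ, ∀ k : Fin (n + n),
    k.val + j + 1 = n → ∀ t : K, B.Y (Fin.rev k) t ∈ B.StabB := by
  intro j
  induction j with
  | zero =>
    intro k hk t
    exact B.neg_simpleS_mem_StabB hc hn (by omega) t
  | succ j ih =>
    intro k hk t
    let k' : Fin (n + n) := ⟨k.val + 1, by omega⟩
    have hk'v : k'.val = k.val + 1 := rfl
    have rk := Fin.val_rev k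
    have rk' := Fin.val_rev k'
    have h1 : Fin.rev k ≠ Fin.rev k' := by
      intro e; have := congrArg Fin.val e; omega
    have h2' : Fin.rev k ≠ Fin.rev (Fin.rev k') := by
      intro e; have := congrArg Fin.val e; rw [Fin.rev_rev] at this; omega
    have hmem : ∀ s t : K, B.Y (Fin.rev k) (s * t) * B.D.y (Fin.rev k) (Fin.rev (Fin.rev k'))
        (s * t ^ 2) ∈ B.StabB := by
      intro s t
      rw [← B.XY_rel (Fin.rev k) (Fin.rev k') s t h1 h2']
      have m1 : B.D.y (Fin.rev k) (Fin.rev k') s ∈ B.StabB := by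
        rw [B.D.y_flip, Fin.rev_rev, Fin.rev_rev]
        exact B.negA_mem_StabB hc 0 k' k (by omega) (by omega) _
      have m2 : B.Y (Fin.rev k') t ∈ B.StabB := ih k' (by omega) t
      exact mul_mem (mul_mem (mul_mem m1 m2) (inv_mem m1)) (inv_mem m2)
    exact (split_two h2 B.StabB (fun r => B.D.y (Fin.rev k) (Fin.rev (Fin.rev k')) r)
      (fun r => B.Y (Fin.rev k) r) (fun a b => B.D.y_add _ _ a b) (fun a b => B.Y_add _ a b)
      (fun a b => B.XY_commute_fst h2' a b) hmem t).2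

/-- the root elements of the roots `- e_i - e_j` -/
theorem negPair_mem_StabB (h2 : (2 : K) ≠ 0) (hn : 2 ≤ n) {i j : Fin (n + n)} (hi : i.val < n)
    (hj : j.val < n) (hij : i ≠ j) (t : K) : B.D.y (Fin.rev i) j t ∈ B.StabB := by
  have ri := Fin.val_rev i
  have rj := Fin.val_rev j
  have h1 : Fin.rev j ≠ Fin.rev i := fun e => hij (Fin.rev_injective e).symm
  have h3 : Fin.rev j ≠ Fin.rev (Fin.rev i) := by
    intro e; have := congrArg Fin.val e; rw [Fin.rev_rev] at this; omega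
  have e := B.YY_rel (Fin.rev i) (Fin.rev j) (-(t / 2)) 1 h1 h3
  have e' : -(2 * -(t / 2) * 1) = t := by field_simp
  rw [Fin.rev_rev, e'] at e
  rw [← e]
  have m1 : B.Y (Fin.rev i) (-(t / 2)) ∈ B.StabB :=
    B.negS_mem_StabB hc h2 hn (n - 1 - i.val) i (by omega) _
  have m2 : B.Y (Fin.rev j) 1 ∈ B.StabB :=
    B.negS_mem_StabB hc h2 hn (n - 1 - j.val) j (by omega) _
  exact mul_mem (mul_mem (mul_mem m1 m2) (inv_mem m1)) (inv_mem m2)

theorem y_mem_StabB (h2 : (2 : K) ≠ 0) (hn : 2 ≤ n) (k l : Fin (n + n)) (t : K) :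
    B.D.y k l t ∈ B.StabB := by
  have rk := Fin.val_rev k
  have rl := Fin.val_rev l
  have hkn := k.isLt
  have hln := l.isLt
  rcases lt_trichotomy k l with h | h | h
  · exact B.UposB_le_StabB (B.y_mem_UposB h t)
  · subst h; rw [B.D.y_self]; exact one_mem _
  · rw [Fin.lt_def] at h
    by_cases h0 : l = Fin.rev k
    · rw [h0, B.D.y_opp]; exact one_mem _
    by_cases hk : k.val < n
    · exact B.negA_mem_StabB hc (k.val - l.val - 1) k l hk (by omega) t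
    by_cases hl : l.val < n
    · have := B.negPair_mem_StabB hc h2 hn (i := Fin.rev k) (j := l) (by omega) hl
        (fun e => h0 e.symm) t
      rwa [Fin.rev_rev] at this
    · rw [B.D.y_flip k l t]
      have rrk := Fin.val_rev (Fin.rev k)
      exact B.negA_mem_StabB hc ((Fin.rev l).val - (Fin.rev k).val - 1) (Fin.rev l) (Fin.rev k)
        (by omega) (by omega) _

theorem Y_mem_StabB (h2 : (2 : K) ≠ 0) (hn : 2 ≤ n) (k : Fin (n + n)) (t : K) :
    B.Y k t ∈ B.StabB := by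
  have rk := Fin.val_rev k
  have hkn := k.isLt
  by_cases hk : k.val < n
  · exact B.UposB_le_StabB (B.Y_mem_UposB hk t)
  · have := B.negS_mem_StabB hc h2 hn (n - 1 - (Fin.rev k).val) (Fin.rev k) (by omega) t
    rwa [Fin.rev_rev] at this

/-- the Bruhat decomposition -/
theorem bruhatB (h2 : (2 : K) ≠ 0) (hn : 2 ≤ n) (hgen : B.Gen) (g : G) : g ∈ B.OmB := by
  have h1 : B.StabB = ⊤ := by
    rw [eq_top_iff, ← hgen, Subgroup.closure_le]
    rintro y (⟨k, l, t, rfl⟩ | ⟨k, t, rfl⟩)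
    · exact B.y_mem_StabB hc h2 hn k l t
    · exact B.Y_mem_StabB hc h2 hn k t
  have h3 : g ∈ B.StabB := by rw [h1]; trivial
  have := (h3 1 (B.mem_OmB_of_NwB (one_mem _))).1
  rwa [mul_one] at this

end

end BData

end Cfsg.Agent.Lib.Helper3.BN
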