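import Cfsg.Agent.Lib.Helper3.BN4

/-!
# Type `B`: the natural representation
-/

set_option linter.unusedSectionVars false
set_option linter.unusedVariables false
set_option linter.unusedSimpArgs false

namespace Cfsg.Agent.Lib.Helper3.BN

open Cfsg.Agent.Lib.Helper5.Stb Cfsg.Agent.Lib.Helper3.AN Cfsg.Agent.Lib.Helper3.DN Matrix

section generic
variable {J K G : Type*} [Field K] [Group G] [Fintype J] [DecidableEq J] {ν : J → J}

/-- the basis vector of the anisotropic line -/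
abbrev e0 : Unit ⊕ J → K := Pi.single (Sum.inl ()) 1

/-- the basis vectors of the hyperbolic part -/
abbrev eJ (k : J) : Unit ⊕ J → K := Pi.single (Sum.inr k) 1

/-- `φ` sends the root elements to the standard root elements of the odd orthogonal group -/
structure IsRepB (B : BData J K G ν) (φ : G →* Matrix (Unit ⊕ J) (Unit ⊕ J) K) : Prop where
  long : ∀ k l t, k ≠ l → l ≠ ν k → ∀ x : Unit ⊕ J → K,
    φ (B.D.y k l t) *ᵥ x = x + (t * x (Sum.inr l)) • (eJ k : Unit ⊕ J → K) -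
      (t * x (Sum.inr (ν k))) • (eJ (ν l) : Unit ⊕ J → K)
  short : ∀ k t, ∀ x : Unit ⊕ J → K,
    φ (B.Y k t) *ᵥ x = x + (2 * t * x (Sum.inl ())) • (eJ k : Unit ⊕ J → K) -
      (t * x (Sum.inr (ν k))) • (e0 : Unit ⊕ J → K) -
      (t ^ 2 * x (Sum.inr (ν k))) • (eJ k : Unit ⊕ J → K)

variable {B : BData J K G ν} {φ : G →* Matrix (Unit ⊕ J) (Unit ⊕ J) K} (hφ : IsRepB B φ)
include hφ

theorem repX_l {k l : J} (hkl : k ≠ l) (hkl' : l ≠ ν k) (t : K) :
    φ (B.D.y k l t) *ᵥ (eJ l : Unit ⊕ J → K) = eJ l + t • eJ k := by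
  rw [hφ.long k l t hkl hkl']
  have h1 : (eJ l : Unit ⊕ J → K) (Sum.inr l) = 1 := by simp
  have h2 : (eJ l : Unit ⊕ J → K) (Sum.inr (ν k)) = 0 := by simp [Ne.symm hkl']
  rw [h1, h2, mul_one, mul_zero, zero_smul, sub_zero]

theorem repX_rk {k l : J} (hkl : k ≠ l) (hkl' : l ≠ ν k) (t : K) :
    φ (B.D.y k l t) *ᵥ (eJ (ν k) : Unit ⊕ J → K) = eJ (ν k) - t • eJ (ν l) := by
  rw [hφ.long k l t hkl hkl']
  have h1 : (eJ (ν k) : Unit ⊕ J → K) (Sum.inr (ν k)) = 1 := by simp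
  have h2 : (eJ (ν k) : Unit ⊕ J → K) (Sum.inr l) = 0 := by simp [hkl']
  rw [h1, h2, mul_one, mul_zero, zero_smul, add_zero]

theorem repX_ne {k l m : J} (hkl : k ≠ l) (hkl' : l ≠ ν k) (h1 : m ≠ l) (h2 : m ≠ ν k) (t : K) :
    φ (B.D.y k l t) *ᵥ (eJ m : Unit ⊕ J → K) = eJ m := by
  rw [hφ.long k l t hkl hkl']
  have h3 : (eJ m : Unit ⊕ J → K) (Sum.inr l) = 0 := by simp [Ne.symm h1]
  have h4 : (eJ m : Unit ⊕ J → K) (Sum.inr (ν k)) = 0 := by simp [Ne.symm h2]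
  simp only [h3, h4, mul_zero, zero_smul, add_zero, sub_zero]

theorem repX_0 (k l : J) (t : K) :
    φ (B.D.y k l t) *ᵥ (e0 : Unit ⊕ J → K) = e0 := by
  by_cases hkl : k = l
  · rw [hkl, B.D.y_self, map_one, Matrix.one_mulVec]
  by_cases hkl' : l = ν k
  · rw [hkl', B.D.y_opp, map_one, Matrix.one_mulVec]
  rw [hφ.long k l t hkl hkl']
  have h3 : (e0 : Unit ⊕ J → K) (Sum.inr l) = 0 := by simp
  have h4 : (e0 : Unit ⊕ J → K) (Sum.inr (ν k)) = 0 := by simp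
  simp only [h3, h4, mul_zero, zero_smul, add_zero, sub_zero]

theorem repY_0 (k : J) (t : K) :
    φ (B.Y k t) *ᵥ (e0 : Unit ⊕ J → K) = e0 + (2 * t) • eJ k := by
  rw [hφ.short k t]
  have h1 : (e0 : Unit ⊕ J → K) (Sum.inl ()) = 1 := by simp
  have h2 : (e0 : Unit ⊕ J → K) (Sum.inr (ν k)) = 0 := by simp
  rw [h1, h2, mul_one, mul_zero, mul_zero, zero_smul, zero_smul, sub_zero, sub_zero]

theorem repY_nk (k : J) (t : K) :
    φ (B.Y k t) *ᵥ (eJ (ν k) : Unit ⊕ J → K) = eJ (ν k) - t • e0 - t ^ 2 • eJ k := by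
  rw [hφ.short k t]
  have h1 : (eJ (ν k) : Unit ⊕ J → K) (Sum.inl ()) = 0 := by simp
  have h2 : (eJ (ν k) : Unit ⊕ J → K) (Sum.inr (ν k)) = 1 := by simp
  rw [h1, h2, mul_one, mul_zero, mul_one, zero_smul, add_zero]

theorem repY_ne {k m : J} (h : m ≠ ν k) (t : K) :
    φ (B.Y k t) *ᵥ (eJ m : Unit ⊕ J → K) = eJ m := by
  rw [hφ.short k t]
  have h1 : (eJ m : Unit ⊕ J → K) (Sum.inl ()) = 0 := by simp
  have h2 : (eJ m : Unit ⊕ J → K) (Sum.inr (ν k)) = 0 := by simp [Ne.symm h]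
  rw [h1, h2, mul_zero, mul_zero, mul_zero, zero_smul, zero_smul, add_zero, sub_zero, sub_zero]

omit hφ in
theorem vecB1 {u : K} (hu : u ≠ 0) (p q : Unit ⊕ J → K) : p + u • (q + (-u⁻¹) • p) = u • q := by
  ext m
  simp only [Pi.add_apply, Pi.smul_apply, smul_eq_mul]
  field_simp
  ring

omit hφ in
theorem vecB2 {u : K} (hu : u ≠ 0) (p q : Unit ⊕ J → K) :
    p + (-u⁻¹) • (q + u • p) = (-u⁻¹) • q := by
  ext m
  simp only [Pi.add_apply, Pi.smul_apply, smul_eq_mul]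
  field_simp
  ring

omit hφ in
theorem vecB3 {u : K} (hu : u ≠ 0) (p q : Unit ⊕ J → K) :
    p - (-u⁻¹) • (q - u • p) = u⁻¹ • q := by
  ext m
  simp only [Pi.sub_apply, Pi.smul_apply, smul_eq_mul]
  field_simp
  ring

omit hφ in
theorem vecB4 {u : K} (hu : u ≠ 0) (p q : Unit ⊕ J → K) :
    p - u • (q - (-u⁻¹) • p) = (-u) • q := by
  ext m
  simp only [Pi.sub_apply, Pi.smul_apply, smul_eq_mul]
  field_simp
  ring

/-- the long Weyl elements are represented by monomial matrices -/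
theorem rep_w_eJ {i j : J} (hij : i ≠ j) (hij' : i ≠ ν j) {u : K} (hu : u ≠ 0) (l : J) :
    φ (B.D.w i j u) *ᵥ (eJ l : Unit ⊕ J → K) = wvecD ν i j u l • eJ (sig ν i j l) := by
  have f1 : j ≠ ν i := B.D.ne_nu_symm hij'
  have f4 : ν i ≠ ν j := fun h => hij (B.D.nu_inj h)
  have n1 := B.D.ne_nu i
  have n2 := B.D.ne_nu j
  unfold DData.w
  rw [map_mul, map_mul, ← Matrix.mulVec_mulVec, ← Matrix.mulVec_mulVec]
  by_cases h1 : l = j
  · subst h1
    rw [repX_l hφ hij f1, Matrix.mulVec_add, Matrix.mulVec_smul,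
      repX_ne hφ hij.symm hij' hij.symm n2, repX_l hφ hij.symm hij', vecB1 hu,
      Matrix.mulVec_smul, repX_ne hφ hij f1 hij n1, sig_j B.D hij hij', wv_j B.D hij hij']
  by_cases h2 : l = i
  · subst h2
    rw [repX_ne hφ hij f1 hij n1, repX_l hφ hij.symm hij', Matrix.mulVec_add,
      Matrix.mulVec_smul, repX_ne hφ hij f1 hij n1, repX_l hφ hij f1, vecB2 hu,
      sig_i B.D hij hij', wv_i B.D hij hij']
  by_cases h3 : l = ν j
  · subst h3
    rw [repX_ne hφ hij f1 n2.symm f4.symm, repX_rk hφ hij.symm hij', Matrix.mulVec_sub,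
      Matrix.mulVec_smul, repX_ne hφ hij f1 n2.symm f4.symm, repX_rk hφ hij f1, vecB3 hu,
      sig_nj B.D hij hij', wv_nj B.D hij hij']
  by_cases h4 : l = ν i
  · subst h4
    rw [repX_rk hφ hij f1, Matrix.mulVec_sub, Matrix.mulVec_smul,
      repX_ne hφ hij.symm hij' n1.symm f4, repX_rk hφ hij.symm hij', vecB4 hu,
      Matrix.mulVec_smul, repX_ne hφ hij f1 n2.symm f4.symm, sig_ni B.D hij hij',
      wv_ni B.D hij hij']
  · rw [repX_ne hφ hij f1 h1 h4, repX_ne hφ hij.symm hij' h2 h3, repX_ne hφ hij f1 h1 h4,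
      sig_of_ne h2 h1 h4 h3, wv_of_ne u h2 h1 h4 h3, one_smul]

theorem rep_w_0 (i j : J) (u : K) : φ (B.D.w i j u) *ᵥ (e0 : Unit ⊕ J → K) = e0 := by
  unfold DData.w
  rw [map_mul, map_mul, ← Matrix.mulVec_mulVec, ← Matrix.mulVec_mulVec, repX_0 hφ, repX_0 hφ,
    repX_0 hφ]

/-- the short Weyl elements are represented by monomial matrices -/
theorem rep_wS_eJ (a : J) {u : K} (hu : u ≠ 0) (l : J) :
    φ (B.wS a u) *ᵥ (eJ l : Unit ⊕ J → K) = vS ν a u l • eJ (Equiv.swap a (ν a) l) := by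
  have n1 := B.D.ne_nu a
  have nn : ν (ν a) = a := B.D.nu_nu a
  have s1 : φ (B.Y a u) *ᵥ (eJ (ν a) : Unit ⊕ J → K) = eJ (ν a) - u • e0 - u ^ 2 • eJ a :=
    repY_nk hφ a u
  have s2 : φ (B.Y (ν a) u⁻¹) *ᵥ (eJ (ν a) : Unit ⊕ J → K) = eJ (ν a) := by
    apply repY_ne hφ _ u⁻¹
    rw [nn]; exact n1.symm
  have s3 : φ (B.Y (ν a) u⁻¹) *ᵥ (eJ a : Unit ⊕ J → K) =
      eJ a - u⁻¹ • e0 - (u⁻¹) ^ 2 • eJ (ν a) := by
    have := repY_nk hφ (ν a) u⁻¹
    rwa [nn] at this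
  have s4 : φ (B.Y a u) *ᵥ (eJ a : Unit ⊕ J → K) = eJ a := repY_ne hφ n1 u
  have s5 : φ (B.Y a u) *ᵥ (e0 : Unit ⊕ J → K) = e0 + (2 * u) • eJ a := repY_0 hφ a u
  have s6 : φ (B.Y (ν a) u⁻¹) *ᵥ (e0 : Unit ⊕ J → K) = e0 + (2 * u⁻¹) • eJ (ν a) :=
    repY_0 hφ (ν a) u⁻¹
  unfold BData.wS
  rw [map_mul, map_mul, ← Matrix.mulVec_mulVec, ← Matrix.mulVec_mulVec]
  by_cases h1 : l = a
  · subst h1
    simp only [Matrix.mulVec_sub, Matrix.mulVec_add, Matrix.mulVec_smul, s1, s2, s3, s4, s5, s6]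
    rw [Equiv.swap_apply_left, vS_a]
    ext m
    simp only [Pi.sub_apply, Pi.add_apply, Pi.smul_apply, smul_eq_mul]
    field_simp
    ring
  by_cases h2 : l = ν a
  · subst h2
    simp only [Matrix.mulVec_sub, Matrix.mulVec_add, Matrix.mulVec_smul, s1, s2, s3, s4, s5, s6]
    rw [Equiv.swap_apply_right, B.vS_na]
    ext m
    simp only [Pi.sub_apply, Pi.add_apply, Pi.smul_apply, smul_eq_mul]
    field_simp
    ring
  · have h3 : l ≠ ν (ν a) := by rw [nn]; exact h1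
    rw [repY_ne hφ h2, repY_ne hφ h3, repY_ne hφ h2, Equiv.swap_apply_of_ne_of_ne h1 h2,
      vS_of_ne u h1 h2, one_smul]

theorem rep_wS_0 (a : J) {u : K} (hu : u ≠ 0) :
    φ (B.wS a u) *ᵥ (e0 : Unit ⊕ J → K) = (-1 : K) • e0 := by
  have n1 := B.D.ne_nu a
  have nn : ν (ν a) = a := B.D.nu_nu a
  have s1 : φ (B.Y a u) *ᵥ (eJ (ν a) : Unit ⊕ J → K) = eJ (ν a) - u • e0 - u ^ 2 • eJ a :=
    repY_nk hφ a u
  have s3 : φ (B.Y (ν a) u⁻¹) *ᵥ (eJ a : Unit ⊕ J → K) =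
      eJ a - u⁻¹ • e0 - (u⁻¹) ^ 2 • eJ (ν a) := by
    have := repY_nk hφ (ν a) u⁻¹
    rwa [nn] at this
  have s4 : φ (B.Y a u) *ᵥ (eJ a : Unit ⊕ J → K) = eJ a := repY_ne hφ n1 u
  have s5 : φ (B.Y a u) *ᵥ (e0 : Unit ⊕ J → K) = e0 + (2 * u) • eJ a := repY_0 hφ a u
  have s6 : φ (B.Y (ν a) u⁻¹) *ᵥ (e0 : Unit ⊕ J → K) = e0 + (2 * u⁻¹) • eJ (ν a) :=
    repY_0 hφ (ν a) u⁻¹
  unfold BData.wS
  rw [map_mul, map_mul, ← Matrix.mulVec_mulVec, ← Matrix.mulVec_mulVec]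
  simp only [Matrix.mulVec_sub, Matrix.mulVec_add, Matrix.mulVec_smul, s1, s3, s4, s5, s6]
  ext m
  simp only [Pi.sub_apply, Pi.add_apply, Pi.smul_apply, smul_eq_mul]
  field_simp
  ring


/-- `g` acts monomially on the root elements and on the natural module -/
structure MonB (B : BData J K G ν) (φ : G →* Matrix (Unit ⊕ J) (Unit ⊕ J) K) (g : G)
    (π : Equiv.Perm J) (v : J → K) (ε : K) : Prop where
  raw : RawMonB B g π v ε
  mono : ∀ l, φ g *ᵥ (eJ l : Unit ⊕ J → K) = v l • eJ (π l)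
  mono0 : φ g *ᵥ (e0 : Unit ⊕ J → K) = ε • e0

omit hφ in
theorem MonB.one : MonB B φ 1 1 (fun _ => 1) 1 :=
  ⟨RawMonB.one, fun l => by rw [map_one, Matrix.one_mulVec, one_smul]; rfl,
    by rw [map_one, Matrix.one_mulVec, one_smul]⟩

omit hφ in
theorem MonB.mul {g g' : G} {π π' : Equiv.Perm J} {v v' : J → K} {ε ε' : K}
    (h : MonB B φ g π v ε) (h' : MonB B φ g' π' v' ε') :
    MonB B φ (g * g') (π * π') (fun k => v' k * v (π' k)) (ε * ε') := by
  refine ⟨h.raw.mul h'.raw, fun l => ?_, ?_⟩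
  · rw [map_mul, ← Matrix.mulVec_mulVec, h'.mono, Matrix.mulVec_smul, h.mono, smul_smul,
      Equiv.Perm.mul_apply]
  · rw [map_mul, ← Matrix.mulVec_mulVec, h'.mono0, Matrix.mulVec_smul, h.mono0, smul_smul,
      mul_comm]

omit hφ in
theorem MonB.inv {g : G} {π : Equiv.Perm J} {v : J → K} {ε : K} (h : MonB B φ g π v ε) :
    MonB B φ g⁻¹ π⁻¹ (fun k => (v (π⁻¹ k))⁻¹) ε := by
  refine ⟨h.raw.inv, fun l => ?_, ?_⟩
  · obtain ⟨a, rfl⟩ : ∃ a, π a = l := ⟨π⁻¹ l, by simp⟩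
    have e1 : π⁻¹ (π a) = a := by simp
    simp only [e1]
    have h1 := h.mono a
    have h2 : (eJ (π a) : Unit ⊕ J → K) = (v a)⁻¹ • (φ g *ᵥ (eJ a : Unit ⊕ J → K)) := by
      rw [h1, smul_smul, inv_mul_cancel₀ (h.raw.raw.1 a), one_smul]
    rw [h2, Matrix.mulVec_smul, Matrix.mulVec_mulVec, ← map_mul, inv_mul_cancel, map_one,
      Matrix.one_mulVec]
  · have h1 := h.mono0
    have hε := h.raw.eps
    have h2 : (e0 : Unit ⊕ J → K) = ε • (φ g *ᵥ (e0 : Unit ⊕ J → K)) := by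
      rw [h1, smul_smul, hε, one_smul]
    conv_lhs => rw [h2]
    rw [Matrix.mulVec_smul, Matrix.mulVec_mulVec, ← map_mul, inv_mul_cancel, map_one,
      Matrix.one_mulVec]

theorem monB_w (hc : ∀ a b : J, ∃ c, c ≠ a ∧ c ≠ b ∧ c ≠ ν a ∧ c ≠ ν b) {i j : J} (hij : i ≠ j)
    (hij' : i ≠ ν j) {u : K} (hu : u ≠ 0) :
    MonB B φ (B.D.w i j u) (sig ν i j) (wvecD ν i j u) 1 :=
  ⟨B.rawMonB_w hc hij hij' hu, rep_w_eJ hφ hij hij' hu, by rw [rep_w_0 hφ, one_smul]⟩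

theorem monB_wS {a c : J} (hca : c ≠ a) (hca' : c ≠ ν a) {u : K} (hu : u ≠ 0) :
    MonB B φ (B.wS a u) (Equiv.swap a (ν a)) (vS ν a u) (-1) :=
  ⟨B.rawMonB_wS hca hca' hu, rep_wS_eJ hφ a hu, rep_wS_0 hφ a hu⟩

end generic

section fin
variable {n : ℕ} {K G : Type*} [Field K] [Group G] (B : BData (Fin (n + n)) K G Fin.rev)
  {φ : G →* Matrix (Unit ⊕ Fin (n + n)) (Unit ⊕ Fin (n + n)) K} (hφ : IsRepB B φ)

/-- the position of a basis vector in the ordered basis -/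
def posB {n : ℕ} : Unit ⊕ Fin (n + n) → ℕ
  | Sum.inl _ => n
  | Sum.inr k => if k.val < n then k.val else k.val + 1

/-- vectors with a leading one at `x₀` -/
def UTB (x₀ : Unit ⊕ Fin (n + n)) (x : Unit ⊕ Fin (n + n) → K) : Prop :=
  x x₀ = 1 ∧ ∀ y, posB x₀ < posB y → x y = 0

theorem posB_lt {a b : Fin (n + n)} (h : a < b) :
    posB (Sum.inr a : Unit ⊕ Fin (n + n)) < posB (Sum.inr b : Unit ⊕ Fin (n + n)) := by
  rw [Fin.lt_def] at h
  simp only [posB]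
  split_ifs <;> omega

include hφ

namespace BData

theorem UposB_UTB {g : G} (hg : g ∈ B.UposB) (x₀ : Unit ⊕ Fin (n + n)) :
    ∀ x : Unit ⊕ Fin (n + n) → K, UTB x₀ x → UTB x₀ (φ g *ᵥ x) := by
  have keyL : ∀ a b : Fin (n + n), a < b → ∀ t : K, ∀ x : Unit ⊕ Fin (n + n) → K, UTB x₀ x →
      UTB x₀ (φ (B.D.y a b t) *ᵥ x) := by
    intro a b hab t x hx
    by_cases hab' : b = Fin.rev a
    · rw [hab', B.D.y_opp, map_one, Matrix.one_mulVec]
      exact hx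
    have hm : ∀ m, posB x₀ ≤ posB m → (φ (B.D.y a b t) *ᵥ x) m = x m := by
      intro m hlm
      rw [hφ.long a b t (ne_of_lt hab) hab']
      simp only [Pi.add_apply, Pi.sub_apply, Pi.smul_apply, smul_eq_mul, Pi.single_apply]
      have e1 : (t * x (Sum.inr b)) * (if m = Sum.inr a then (1 : K) else 0) = 0 := by
        split_ifs with h
        · have : posB x₀ < posB (Sum.inr b : Unit ⊕ Fin (n + n)) :=
            lt_of_le_of_lt (h ▸ hlm) (posB_lt hab)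
          rw [hx.2 _ this]; ring
        · ring
      have e2 : (t * x (Sum.inr (Fin.rev a))) * (if m = Sum.inr (Fin.rev b) then (1 : K) else 0)
          = 0 := by
        split_ifs with h
        · have : posB x₀ < posB (Sum.inr (Fin.rev a) : Unit ⊕ Fin (n + n)) :=
            lt_of_le_of_lt (h ▸ hlm) (posB_lt (Fin.rev_lt_rev.2 hab))
          rw [hx.2 _ this]; ring
        · ring
      linear_combination e1 - e2
    refine ⟨?_, fun k hk => ?_⟩
    · rw [hm x₀ le_rfl]; exact hx.1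
    · rw [hm k (le_of_lt hk)]; exact hx.2 k hk
  have keyS : ∀ k : Fin (n + n), k.val < n → ∀ t : K, ∀ x : Unit ⊕ Fin (n + n) → K, UTB x₀ x →
      UTB x₀ (φ (B.Y k t) *ᵥ x) := by
    intro k hk t x hx
    have rk := Fin.val_rev k
    have hm : ∀ m, posB x₀ ≤ posB m → (φ (B.Y k t) *ᵥ x) m = x m := by
      intro m hlm
      rw [hφ.short k t]
      simp only [Pi.add_apply, Pi.sub_apply, Pi.smul_apply, smul_eq_mul, Pi.single_apply]
      have p1 : posB (Sum.inr k : Unit ⊕ Fin (n + n)) = k.val := by simp [posB, hk]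
      have p2 : posB (Sum.inr (Fin.rev k) : Unit ⊕ Fin (n + n)) = (Fin.rev k).val + 1 := by
        have : ¬ (Fin.rev k).val < n := by omega
        simp only [posB, this, if_false]
      have p3 : posB (Sum.inl () : Unit ⊕ Fin (n + n)) = n := rfl
      have e1 : (2 * t * x (Sum.inl ())) * (if m = Sum.inr k then (1 : K) else 0) = 0 := by
        split_ifs with h
        · have : posB x₀ < posB (Sum.inl () : Unit ⊕ Fin (n + n)) := by
            rw [h, p1] at hlm; rw [p3]; omega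
          rw [hx.2 _ this]; ring
        · ring
      have e2 : (t * x (Sum.inr (Fin.rev k))) * (if m = Sum.inl () then (1 : K) else 0) = 0 := by
        split_ifs with h
        · have : posB x₀ < posB (Sum.inr (Fin.rev k) : Unit ⊕ Fin (n + n)) := by
            rw [h, p3] at hlm; rw [p2]; omega
          rw [hx.2 _ this]; ring
        · ring
      have e3 : (t ^ 2 * x (Sum.inr (Fin.rev k))) * (if m = Sum.inr k then (1 : K) else 0)
          = 0 := by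
        split_ifs with h
        · have : posB x₀ < posB (Sum.inr (Fin.rev k) : Unit ⊕ Fin (n + n)) := by
            rw [h, p1] at hlm; rw [p2]; omega
          rw [hx.2 _ this]; ring
        · ring
      linear_combination e1 - e2 - e3
    refine ⟨?_, fun k hk => ?_⟩
    · rw [hm x₀ le_rfl]; exact hx.1
    · rw [hm k (le_of_lt hk)]; exact hx.2 k hk
  unfold UposB at hg
  induction hg using Subgroup.closure_induction'' with
  | mem y hy =>
    rcases hy with ⟨a, b, t, hab, rfl⟩ | ⟨k, t, hk, rfl⟩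
    · exact keyL a b hab t
    · exact keyS k hk t
  | inv_mem y hy =>
    rcases hy with ⟨a, b, t, hab, rfl⟩ | ⟨k, t, hk, rfl⟩
    · rw [← B.D.y_neg]
      exact keyL a b hab (-t)
    · rw [← B.Y_neg]
      exact keyS k hk (-t)
  | one => intro x hx; rwa [map_one, Matrix.one_mulVec]
  | mul x y _ _ hx hy =>
    intro v hv
    rw [map_mul, ← Matrix.mulVec_mulVec]
    exact hx _ (hy v hv)

theorem NwB_monB (hc : ∀ a b : Fin (n + n), ∃ c, c ≠ a ∧ c ≠ b ∧ c ≠ Fin.rev a ∧ c ≠ Fin.rev b)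
    {g : G} (hg : g ∈ B.NwB) : ∃ π v ε, MonB B φ g π v ε := by
  unfold NwB at hg
  induction hg using Subgroup.closure_induction with
  | mem y hy =>
    rcases hy with ⟨i, j, u, hij, hij', hu, rfl⟩ | ⟨k, u, hu, rfl⟩
    · exact ⟨_, _, _, monB_w hφ hc hij hij' hu⟩
    · obtain ⟨c, hc1, -, hc3, -⟩ := hc k k
      exact ⟨_, _, _, monB_wS hφ hc1 hc3 hu⟩
  | one => exact ⟨_, _, _, MonB.one⟩
  | mul a b _ _ ha hb =>
    obtain ⟨π, v, ε, h1⟩ := ha
    obtain ⟨π', v', ε', h2⟩ := hb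
    exact ⟨_, _, _, h1.mul h2⟩
  | inv a _ ha =>
    obtain ⟨π, v, ε, h1⟩ := ha
    exact ⟨_, _, _, h1.inv⟩

end BData

end fin

end Cfsg.Agent.Lib.Helper3.BN
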