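import Cfsg.Agent.Lib.Helper3.BN6

/-!
# Type `B`: the kernel of the natural representation is central and monomial
-/

set_option linter.unusedSectionVars false
set_option linter.unusedVariables false
set_option linter.unusedSimpArgs false

namespace Cfsg.Agent.Lib.Helper3.BN

open Cfsg.Agent.Lib.Helper5.Stb Cfsg.Agent.Lib.Helper3.AN Cfsg.Agent.Lib.Helper3.DN Matrix

variable {n : ℕ} {K G : Type*} [Field K] [Group G] (B : BData (Fin (n + n)) K G Fin.rev)
  {φ : G →* Matrix (Unit ⊕ Fin (n + n)) (Unit ⊕ Fin (n + n)) K} (hφ : IsRepB B φ)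

namespace BData

include hφ

/-- the kernel of the natural representation lies in the monomial subgroup and is central -/
theorem ker_centralB (h2 : (2 : K) ≠ 0) (hn : 3 ≤ n) (hgen : B.Gen) (g : G) (hg : φ g = 1) :
    g ∈ B.NwB ∧ ∀ x : G, g * x = x * g := by
  have hc := hc_fin hn
  obtain ⟨u₁, hu₁, m, hm, u₂, hu₂, rfl⟩ := B.bruhatB hc h2 (by omega) hgen g
  have e1 : φ m = φ (u₁⁻¹ * u₂⁻¹) := by
    have h1 : m = u₁⁻¹ * (u₁ * m * u₂) * u₂⁻¹ := by group
    rw [h1, map_mul, map_mul, hg, mul_one, ← map_mul]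
  have hu : u₁⁻¹ * u₂⁻¹ ∈ B.UposB := mul_mem (inv_mem hu₁) (inv_mem hu₂)
  obtain ⟨π, v, ε, hmon⟩ := B.NwB_monB hφ hc hm
  have e2 : ∀ l, π l = l ∧ v l = 1 := by
    intro l
    have h1 := B.UposB_UTB hφ hu (Sum.inr l) (eJ l)
      ⟨by simp, fun y hy => by
        have : y ≠ Sum.inr l := fun h => by rw [h] at hy; exact lt_irrefl _ hy
        simp [this]⟩
    rw [← e1, hmon.mono l] at h1
    have h2 := h1.1
    have hπ : π l = l := by
      by_contra hne
      simp [Ne.symm hne] at h2
    rw [hπ] at h2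
    exact ⟨hπ, by simpa using h2⟩
  have e2' : ε = 1 := by
    have h1 := B.UposB_UTB hφ hu (Sum.inl ()) e0
      ⟨by simp, fun y hy => by
        have : y ≠ Sum.inl () := fun h => by rw [h] at hy; exact lt_irrefl _ hy
        simp [this]⟩
    rw [← e1, hmon.mono0] at h1
    simpa using h1.1
  have e3 : φ m = 1 := by
    apply mat_eq_one_of_fix
    rintro (⟨⟩ | l)
    · have := hmon.mono0
      rw [e2', one_smul] at this
      exact this
    · have := hmon.mono l
      rw [(e2 l).1, (e2 l).2, one_smul] at this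
      exact this
  -- `m` is central
  have hcm : ∀ z : G, m * z = z * m := by
    intro z
    have hz : z ∈ Subgroup.closure ({g : G | ∃ k l t, g = B.D.y k l t} ∪
        {g : G | ∃ k t, g = B.Y k t}) := by
      rw [hgen]; trivial
    induction hz using Subgroup.closure_induction with
    | mem y hy =>
      rcases hy with ⟨k, l, t, rfl⟩ | ⟨k, t, rfl⟩
      · have h1 := hmon.raw.raw.2 k l t
        rw [(e2 k).1, (e2 l).1, (e2 k).2, (e2 l).2, one_mul, inv_one, mul_one,
          MulAut.conj_apply] at h1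
        calc m * B.D.y k l t = m * B.D.y k l t * m⁻¹ * m := by group
          _ = B.D.y k l t * m := by rw [h1]
      · have h1 := hmon.raw.short k t
        rw [(e2 k).1, (e2 k).2, e2', one_mul, one_mul, MulAut.conj_apply] at h1
        calc m * B.Y k t = m * B.Y k t * m⁻¹ * m := by group
          _ = B.Y k t * m := by rw [h1]
    | one => rw [mul_one, one_mul]
    | mul a b _ _ ha hb => rw [← mul_assoc, ha, mul_assoc, hb, mul_assoc]
    | inv a _ ha =>
      calc m * a⁻¹ = a⁻¹ * (a * m) * a⁻¹ := by group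
        _ = a⁻¹ * (m * a) * a⁻¹ := by rw [ha]
        _ = a⁻¹ * m := by group
  have e4 : u₁ * u₂ = 1 := by
    apply B.UposB_inj hφ _ (mul_mem hu₁ hu₂)
    have h1 : u₁ * m * u₂ = m * (u₁ * u₂) := by
      rw [← hcm u₁]; group
    rw [h1, map_mul, e3, one_mul] at hg
    exact hg
  have e5 : u₁ * m * u₂ = m := by
    rw [← hcm u₁, mul_assoc, e4, mul_one]
  rw [e5]
  exact ⟨hm, hcm⟩

end BData

end Cfsg.Agent.Lib.Helper3.BN
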