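import Cfsg.Agent.Lib.Helper3.DS4

/-!
# Type `D`: the torus elements and monomial elements
-/

set_option linter.unusedSectionVars false
set_option linter.unusedVariables false
set_option linter.unusedSimpArgs false

namespace Cfsg.Agent.Lib.Helper3.DN

open Cfsg.Agent.Lib.Helper5.Stb Cfsg.Agent.Lib.Helper3.AN Cfsg.Agent.Lib.Helper3.DS Matrix

variable {J K G : Type*} [Field K] [Group G] {ν : J → J} (D : DData J K G ν)

namespace DData

/-- the torus elements -/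
def hh (k l : J) (u : K) : G := D.w k l u * D.w k l (-1)

theorem w_one_mul_neg (k l : J) : D.w k l 1 * D.w k l (-1) = 1 := by
  rw [← D.w_inv, mul_inv_cancel]

theorem w_neg_mul_one (k l : J) : D.w k l (-1) * D.w k l 1 = 1 := by
  rw [← D.w_inv, inv_mul_cancel]

theorem hh_one (k l : J) : D.hh k l 1 = 1 := D.w_one_mul_neg k l

theorem w_eq_hh_mul (k l : J) (u : K) : D.w k l u = D.hh k l u * D.w k l 1 := by
  unfold hh
  rw [mul_assoc, D.w_neg_mul_one, mul_one]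

theorem w_mul_w (k l : J) (a b : K) :
    D.w k l a * D.w k l b = D.hh k l a * (D.hh k l (-b))⁻¹ := by
  unfold hh
  rw [_root_.mul_inv_rev, D.w_inv, D.w_inv, neg_neg, neg_neg, mul_assoc, ← mul_assoc (D.w k l (-1)),
    D.w_neg_mul_one, one_mul]

section tri
variable [Finite K] {i j l : J} (h : Tri ν i j l)
include h

theorem hh_mul_tri {u v : K} (hu : u ≠ 0) (hv : v ≠ 0) :
    D.hh i j (u * v) = D.hh i j u * D.hh i j v :=
  hA_mul (D.tri i j l h) h3_fin3 (i := 0) (k := 1) (by decide) hu hv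

theorem hh_inv_tri {u : K} (hu : u ≠ 0) : D.hh i j u⁻¹ = (D.hh i j u)⁻¹ :=
  hA_inv (D.tri i j l h) h3_fin3 (i := 0) (k := 1) (by decide) hu

theorem hh_swap_tri {u : K} (hu : u ≠ 0) : D.hh j i u = (D.hh i j u)⁻¹ :=
  hA_swap (D.tri i j l h) h3_fin3 (i := 0) (k := 1) (by decide) hu

theorem hh_triple {u : K} (hu : u ≠ 0) : D.hh i l u = D.hh i j u * D.hh j l u :=
  hA_triple (D.tri i j l h) h3_fin3 (i := 0) (j := 1) (k := 2) (by decide) (by decide)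
    (by decide) hu

end tri

section hc
variable [Finite K] (hc : ∀ a b : J, ∃ c, c ≠ a ∧ c ≠ b ∧ c ≠ ν a ∧ c ≠ ν b)
include hc

include D in
theorem exists_tri3 {i j : J} (hij : i ≠ j) (hij' : i ≠ ν j) : ∃ l, Tri ν i j l := by
  obtain ⟨c, h1, h2, h3, h4⟩ := hc i j
  exact ⟨c, ⟨hij, h1.symm, h2.symm, hij', fun h => h3 (by rw [h, D.nu_nu]),
    fun h => h4 (by rw [h, D.nu_nu])⟩⟩

theorem hh_mul {k l : J} (hkl : k ≠ l) (hkl' : k ≠ ν l) {u v : K} (hu : u ≠ 0) (hv : v ≠ 0) :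
    D.hh k l (u * v) = D.hh k l u * D.hh k l v := by
  obtain ⟨c, hT⟩ := D.exists_tri3 hc hkl hkl'
  exact D.hh_mul_tri hT hu hv

theorem hh_inv {k l : J} (hkl : k ≠ l) (hkl' : k ≠ ν l) {u : K} (hu : u ≠ 0) :
    D.hh k l u⁻¹ = (D.hh k l u)⁻¹ := by
  obtain ⟨c, hT⟩ := D.exists_tri3 hc hkl hkl'
  exact D.hh_inv_tri hT hu

theorem hh_swap {k l : J} (hkl : k ≠ l) (hkl' : k ≠ ν l) {u : K} (hu : u ≠ 0) :
    D.hh l k u = (D.hh k l u)⁻¹ := by
  obtain ⟨c, hT⟩ := D.exists_tri3 hc hkl hkl'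
  exact D.hh_swap_tri hT hu

theorem hh_mul_inv {k l : J} (hkl : k ≠ l) (hkl' : k ≠ ν l) {d v : K} (hd : d ≠ 0)
    (hv : v ≠ 0) : D.hh k l (d * v) * (D.hh k l d)⁻¹ = D.hh k l v := by
  rw [mul_comm d v, D.hh_mul hc hkl hkl' hv hd, mul_inv_cancel_right]

theorem hh_flip {k l : J} (hkl : k ≠ l) (hkl' : k ≠ ν l) {u : K} (hu : u ≠ 0) :
    D.hh k l u = D.hh (ν l) (ν k) u := by
  have hm1 : (-1 : K) ≠ 0 := by simp
  have h1 : ν l ≠ ν k := fun h => hkl (D.nu_inj h).symm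
  have h2 : ν l ≠ ν (ν k) := by
    rw [D.nu_nu]
    exact hkl'.symm
  have e1 : D.hh k l u = D.w k l u * D.w k l (-1) := rfl
  rw [e1, D.w_flip k l u, D.w_flip k l (-1), neg_neg, D.w_mul_w]
  have e2 : -u = (-1) * u := by ring
  rw [e2]
  exact D.hh_mul_inv hc h1 h2 hm1 hu

end hc

/-- conjugation of a Weyl element by a monomial element -/
theorem cj_w_of_rawMon {g : G} {π : Equiv.Perm J} {v : J → K} (hm : RawMon D.y g π v) (k l : J)
    {u : K} (hu : u ≠ 0) :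
    MulAut.conj g (D.w k l u) = D.w (π k) (π l) (v k * u * (v l)⁻¹) := by
  have hk := hm.1 k
  have hl := hm.1 l
  have e : v l * (-u⁻¹) * (v k)⁻¹ = -(v k * u * (v l)⁻¹)⁻¹ := by field_simp
  unfold w
  rw [map_mul, map_mul, hm.2, hm.2, e]

theorem move_w {g : G} {π : Equiv.Perm J} {v : J → K} (hm : RawMon D.y g π v) (k l : J)
    {u : K} (hu : u ≠ 0) : ∃ c : K, c ≠ 0 ∧ g * D.w k l u = D.w (π k) (π l) c * g := by
  refine ⟨v k * u * (v l)⁻¹, mul_ne_zero (mul_ne_zero (hm.1 k) hu) (inv_ne_zero (hm.1 l)), ?_⟩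
  have := D.cj_w_of_rawMon hm k l hu
  rw [MulAut.conj_apply] at this
  exact mul_inv_eq_iff_eq_mul.mp this

theorem move_w' {g : G} {π : Equiv.Perm J} {v : J → K} (hm : RawMon D.y g π v) (k l : J)
    {u : K} (hu : u ≠ 0) :
    ∃ c : K, c ≠ 0 ∧ D.w k l u * g = g * D.w (π⁻¹ k) (π⁻¹ l) c := by
  have hk := hm.1 (π⁻¹ k)
  have hl := hm.1 (π⁻¹ l)
  refine ⟨(v (π⁻¹ k))⁻¹ * u * v (π⁻¹ l),
    mul_ne_zero (mul_ne_zero (inv_ne_zero hk) hu) hl, ?_⟩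
  have := D.cj_w_of_rawMon hm (π⁻¹ k) (π⁻¹ l)
    (mul_ne_zero (mul_ne_zero (inv_ne_zero hk) hu) hl)
  have e3 : π (π⁻¹ k) = k := by simp
  have e4 : π (π⁻¹ l) = l := by simp
  rw [MulAut.conj_apply, e3, e4] at this
  have e : v (π⁻¹ k) * ((v (π⁻¹ k))⁻¹ * u * v (π⁻¹ l)) * (v (π⁻¹ l))⁻¹ = u := by
    field_simp
  rw [e] at this
  rw [← this]
  group

theorem cj_hh_of_rawMon [Finite K] (hc : ∀ a b : J, ∃ c, c ≠ a ∧ c ≠ b ∧ c ≠ ν a ∧ c ≠ ν b)
    {g : G} {π : Equiv.Perm J} {v : J → K} (hm : RawMon D.y g π v)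
    (hν : ∀ k, π (ν k) = ν (π k)) {k l : J} (hkl : k ≠ l) (hkl' : k ≠ ν l) {u : K}
    (hu : u ≠ 0) : MulAut.conj g (D.hh k l u) = D.hh (π k) (π l) u := by
  have hk := hm.1 k
  have hl := hm.1 l
  have hm1 : (-1 : K) ≠ 0 := by simp
  have h1 : π k ≠ π l := π.injective.ne hkl
  have h2 : π k ≠ ν (π l) := by
    rw [← hν]
    exact π.injective.ne hkl'
  have e0 : D.hh k l u = D.w k l u * D.w k l (-1) := rfl
  rw [e0, map_mul, D.cj_w_of_rawMon hm k l hu, D.cj_w_of_rawMon hm k l hm1, D.w_mul_w]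
  have e1 : v k * u * (v l)⁻¹ = (v k * (v l)⁻¹) * u := by ring
  have e2 : -(v k * -1 * (v l)⁻¹) = v k * (v l)⁻¹ := by ring
  rw [e1, e2]
  exact D.hh_mul_inv hc h1 h2 (mul_ne_zero hk (inv_ne_zero hl)) hu

end DData

end Cfsg.Agent.Lib.Helper3.DN
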