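import Cfsg.Agent.Lib.Helper3.BN7
import Cfsg.Agent.Lib.Helper3.DS5

/-!
# Type `B`: the monomial subgroup is the union of two cosets of the long monomial subgroup
-/

set_option linter.unusedSectionVars false
set_option linter.unusedVariables false
set_option linter.unusedSimpArgs false

namespace Cfsg.Agent.Lib.Helper3.BN

open Cfsg.Agent.Lib.Helper5.Stb Cfsg.Agent.Lib.Helper3.AN Cfsg.Agent.Lib.Helper3.DN Matrix

section generic
variable {J K G : Type*} [Field K] [Group G] {ν : J → J} (B : BData J K G ν) [DecidableEq J]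

namespace BData

/-- the generators of the long monomial subgroup -/
def genN0 : Set G := {g | ∃ i j u, i ≠ j ∧ i ≠ ν j ∧ u ≠ 0 ∧ g = B.D.w i j u}

/-- the long monomial subgroup -/
def N0 : Subgroup G := Subgroup.closure B.genN0

theorem w_mem_N0 {i j : J} (hij : i ≠ j) (hij' : i ≠ ν j) {u : K} (hu : u ≠ 0) :
    B.D.w i j u ∈ B.N0 := Subgroup.subset_closure ⟨i, j, u, hij, hij', hu, rfl⟩

theorem hh_mem_N0 {i j : J} (hij : i ≠ j) (hij' : i ≠ ν j) {u : K} (hu : u ≠ 0) :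
    B.D.hh i j u ∈ B.N0 :=
  mul_mem (B.w_mem_N0 hij hij' hu) (B.w_mem_N0 hij hij' (neg_ne_zero.mpr one_ne_zero))

/-- the long subgroup -/
def longSub : Subgroup G := Subgroup.closure {g : G | ∃ k l t, g = B.D.y k l t}

theorem y_mem_longSub (k l : J) (t : K) : B.D.y k l t ∈ B.longSub :=
  Subgroup.subset_closure ⟨k, l, t, rfl⟩

theorem N0_le_longSub : B.N0 ≤ B.longSub := by
  unfold N0
  rw [Subgroup.closure_le]
  rintro g ⟨i, j, u, -, -, -, rfl⟩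
  exact mul_mem (mul_mem (B.y_mem_longSub _ _ _) (B.y_mem_longSub _ _ _)) (B.y_mem_longSub _ _ _)

section hc
variable (hc : ∀ a b : J, ∃ c, c ≠ a ∧ c ≠ b ∧ c ≠ ν a ∧ c ≠ ν b)
include hc

include B in
theorem tri_of {i j : J} (hij : i ≠ j) (hij' : i ≠ ν j) : ∃ l, Tri ν i j l := by
  obtain ⟨c, h1, h2, h3, h4⟩ := hc i j
  exact ⟨c, ⟨hij, h1.symm, h2.symm, hij', fun h => h3 (by rw [h, B.D.nu_nu]),
    fun h => h4 (by rw [h, B.D.nu_nu])⟩⟩

theorem cj_hh_Ya {a l : J} (hal : a ≠ l) (hal' : a ≠ ν l) {c : K} (hc0 : c ≠ 0) (s : K) :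
    MulAut.conj (B.D.hh a l c) (B.Y a s) = B.Y a (c * s) := by
  obtain ⟨p, hT⟩ := B.tri_of hc hal hal'
  unfold DData.hh
  rw [map_mul, MulAut.mul_apply, B.cjwL_Yk hT (neg_ne_zero.mpr one_ne_zero),
    B.cjwL_Yl hal hal' hc0]
  congr 1
  rw [inv_neg, inv_one, neg_neg, one_mul]

theorem cj_hh_Yna {a l : J} (hal : a ≠ l) (hal' : a ≠ ν l) {c : K} (hc0 : c ≠ 0) (s : K) :
    MulAut.conj (B.D.hh a l c) (B.Y (ν a) s) = B.Y (ν a) (c⁻¹ * s) := by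
  obtain ⟨p, hT⟩ := B.tri_of hc hal hal'
  unfold DData.hh
  rw [map_mul, MulAut.mul_apply, B.cjwL_Ynk hal hal' (neg_ne_zero.mpr one_ne_zero),
    B.cjwL_Ynl hT hc0]
  congr 1
  rw [neg_neg, one_mul]

theorem cj_hh_wS {a l : J} (hal : a ≠ l) (hal' : a ≠ ν l) {c : K} (hc0 : c ≠ 0) :
    MulAut.conj (B.D.hh a l c) (B.wS a 1) = B.wS a c := by
  unfold wS
  rw [map_mul, map_mul, B.cj_hh_Ya hc hal hal' hc0, B.cj_hh_Yna hc hal hal' hc0, mul_one, inv_one,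
    mul_one]

theorem w_swapS {a : J} {u : K} (hu : u ≠ 0) : B.wS a u = B.wS (ν a) u⁻¹ := by
  obtain ⟨l, h1, -, h3, -⟩ := hc a a
  have h := B.cjwS_Ya h1 h3 hu u
  rw [MulAut.conj_apply] at h
  have e1 : (u⁻¹) ^ 2 * u = u⁻¹ := by field_simp
  rw [e1] at h
  have h' : B.wS a u * B.Y a u = B.Y (ν a) u⁻¹ * B.wS a u := by
    rw [← h]; group
  unfold wS at h' ⊢
  rw [B.D.nu_nu, inv_inv]
  have h'' : B.Y a u * B.Y (ν a) u⁻¹ * B.Y a u * B.Y a u =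
      B.Y (ν a) u⁻¹ * B.Y a u * B.Y (ν a) u⁻¹ * B.Y a u := by
    rw [h']; group
  exact mul_right_cancel h''

theorem cj_w_wS {k a : J} (hka : k ≠ a) (hka' : k ≠ ν a) (u : K) :
    MulAut.conj (B.D.w k a 1) (B.wS a u) = B.wS k u := by
  obtain ⟨p, hT⟩ := B.tri_of hc hka hka'
  unfold wS
  rw [map_mul, map_mul, B.cjwL_Yl hka hka' one_ne_zero, B.cjwL_Ynl hT one_ne_zero, one_mul,
    inv_one, one_mul]

/-- the short Weyl elements normalize the long monomial subgroup -/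
theorem N0_conj_wS (a : J) {u : K} (hu : u ≠ 0) {g : G} (hg : g ∈ B.N0) :
    B.wS a u * g * (B.wS a u)⁻¹ ∈ B.N0 := by
  obtain ⟨c, hca, -, hca', -⟩ := hc a a
  have hm := B.rawMonB_wS hca hca' hu
  unfold N0 at hg
  induction hg using Subgroup.closure_induction with
  | mem y hy =>
    obtain ⟨i, j, t, hij, hij', ht, rfl⟩ := hy
    have h1 := B.D.cj_w_of_rawMon hm.raw i j ht
    rw [MulAut.conj_apply] at h1
    rw [h1]
    refine B.w_mem_N0 ((Equiv.swap a (ν a)).injective.ne hij) ?_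
      (mul_ne_zero (mul_ne_zero (vS_ne_zero hu i) ht) (inv_ne_zero (vS_ne_zero hu j)))
    rw [← B.swap_nu]
    exact (Equiv.swap a (ν a)).injective.ne hij'
  | one => simp [one_mem]
  | mul x y _ _ hx hy =>
    have : B.wS a u * (x * y) * (B.wS a u)⁻¹ =
        (B.wS a u * x * (B.wS a u)⁻¹) * (B.wS a u * y * (B.wS a u)⁻¹) := by group
    rw [this]
    exact mul_mem hx hy
  | inv x _ hx =>
    have : B.wS a u * x⁻¹ * (B.wS a u)⁻¹ = (B.wS a u * x * (B.wS a u)⁻¹)⁻¹ := by group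
    rw [this]
    exact inv_mem hx

theorem N0_conj_wS' (a : J) {u : K} (hu : u ≠ 0) {g : G} (hg : g ∈ B.N0) :
    (B.wS a u)⁻¹ * g * B.wS a u ∈ B.N0 := by
  have h := B.N0_conj_wS hc a (neg_ne_zero.mpr hu) hg
  rwa [← B.wS_inv, inv_inv] at h

theorem wS_div_one (k : J) {u : K} (hu : u ≠ 0) : B.wS k u * (B.wS k 1)⁻¹ ∈ B.N0 := by
  obtain ⟨l, h1, -, h3, -⟩ := hc k k
  have h := B.cj_hh_wS hc h1.symm (B.D.ne_nu_symm h3) hu
  rw [MulAut.conj_apply] at h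
  have e : B.wS k u * (B.wS k 1)⁻¹ =
      B.D.hh k l u * (B.wS k 1 * (B.D.hh k l u)⁻¹ * (B.wS k 1)⁻¹) := by
    rw [← h]; group
  rw [e]
  exact mul_mem (B.hh_mem_N0 h1.symm (B.D.ne_nu_symm h3) hu)
    (B.N0_conj_wS hc k one_ne_zero (inv_mem (B.hh_mem_N0 h1.symm (B.D.ne_nu_symm h3) hu)))

theorem wS_one_div (a₀ k : J) : B.wS k 1 * (B.wS a₀ 1)⁻¹ ∈ B.N0 := by
  by_cases h1 : k = a₀
  · subst h1
    rw [mul_inv_cancel]
    exact one_mem _
  by_cases h2 : k = ν a₀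
  · subst h2
    have := B.w_swapS hc (a := a₀) (u := 1) one_ne_zero
    rw [inv_one] at this
    rw [← this, mul_inv_cancel]
    exact one_mem _
  · have h := B.cj_w_wS hc h1 h2 1
    rw [MulAut.conj_apply] at h
    have e : B.wS k 1 * (B.wS a₀ 1)⁻¹ =
        B.D.w k a₀ 1 * (B.wS a₀ 1 * (B.D.w k a₀ 1)⁻¹ * (B.wS a₀ 1)⁻¹) := by
      rw [← h]; group
    rw [e]
    exact mul_mem (B.w_mem_N0 h1 h2 one_ne_zero)
      (B.N0_conj_wS hc a₀ one_ne_zero (inv_mem (B.w_mem_N0 h1 h2 one_ne_zero)))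

theorem wS_div (a₀ k : J) {u : K} (hu : u ≠ 0) : B.wS k u * (B.wS a₀ 1)⁻¹ ∈ B.N0 := by
  have e : B.wS k u * (B.wS a₀ 1)⁻¹ =
      (B.wS k u * (B.wS k 1)⁻¹) * (B.wS k 1 * (B.wS a₀ 1)⁻¹) := by group
  rw [e]
  exact mul_mem (B.wS_div_one hc k hu) (B.wS_one_div hc a₀ k)

theorem wS_inv_sq (a₀ : J) : (B.wS a₀ 1)⁻¹ * (B.wS a₀ 1)⁻¹ ∈ B.N0 := by
  have h := B.wS_div_one hc a₀ (u := -1) (neg_ne_zero.mpr one_ne_zero)
  rwa [← B.wS_inv] at h

theorem wS_sq (a₀ : J) : B.wS a₀ 1 * B.wS a₀ 1 ∈ B.N0 := by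
  have h := inv_mem (B.wS_inv_sq hc a₀)
  rwa [_root_.mul_inv_rev, inv_inv] at h

/-- the generators of the full monomial subgroup -/
def genNB : Set G := B.genN0 ∪ {g | ∃ (k : J) (u : K), u ≠ 0 ∧ g = B.wS k u}

/-- the union of the two cosets -/
def twoCosets (a₀ : J) : Subgroup G where
  carrier := {g | g ∈ B.N0 ∨ g * (B.wS a₀ 1)⁻¹ ∈ B.N0}
  one_mem' := Or.inl (one_mem _)
  mul_mem' := by
    rintro x y (hx | hx) (hy | hy)
    · exact Or.inl (mul_mem hx hy)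
    · right
      rw [mul_assoc]
      exact mul_mem hx hy
    · right
      have e : x * y * (B.wS a₀ 1)⁻¹ =
          (x * (B.wS a₀ 1)⁻¹) * (B.wS a₀ 1 * y * (B.wS a₀ 1)⁻¹) := by group
      rw [e]
      exact mul_mem hx (B.N0_conj_wS hc a₀ one_ne_zero hy)
    · left
      have e : x * y = (x * (B.wS a₀ 1)⁻¹) *
          (B.wS a₀ 1 * (y * (B.wS a₀ 1)⁻¹) * (B.wS a₀ 1)⁻¹) * (B.wS a₀ 1 * B.wS a₀ 1) := by group
      rw [e]
      exact mul_mem (mul_mem hx (B.N0_conj_wS hc a₀ one_ne_zero hy)) (B.wS_sq hc a₀)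
  inv_mem' := by
    rintro x (hx | hx)
    · exact Or.inl (inv_mem hx)
    · right
      have e : x⁻¹ * (B.wS a₀ 1)⁻¹ =
          ((B.wS a₀ 1)⁻¹ * (x * (B.wS a₀ 1)⁻¹)⁻¹ * B.wS a₀ 1) *
            ((B.wS a₀ 1)⁻¹ * (B.wS a₀ 1)⁻¹) := by group
      rw [e]
      exact mul_mem (B.N0_conj_wS' hc a₀ one_ne_zero (inv_mem hx)) (B.wS_inv_sq hc a₀)

theorem closure_genNB_le (a₀ : J) : Subgroup.closure B.genNB ≤ B.twoCosets hc a₀ := by
  rw [Subgroup.closure_le]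
  rintro g (hg | ⟨k, u, hu, rfl⟩)
  · exact Or.inl (Subgroup.subset_closure hg)
  · exact Or.inr (B.wS_div hc a₀ k hu)

end hc

end BData

end generic

end Cfsg.Agent.Lib.Helper3.BN
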