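import Cfsg.Agent.Lib.Helper3.DN12

/-!
# Steinberg data of type `D` attached to a hyperbolic family of a quadratic space
-/

set_option linter.unusedSectionVars false
set_option linter.unusedVariables false
set_option linter.unusedSimpArgs false

namespace Cfsg.Agent.Lib.Helper3.BQ

open Matrix Cfsg.Agent.Lib.Helper2 Cfsg.Agent.Lib.Helper2.LongRoot Cfsg.Agent.Lib.Helper2.CDG
  Cfsg.Agent.Lib.Helper2.Siegel Cfsg.Agent.Lib.Helper2.ReflGen Cfsg.Agent.Lib.Helper3.DN

variable {F : Type*} [Field F] {ι : Type} [Fintype ι] [DecidableEq ι]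
  {Q : QuadraticForm F (ι → F)}

/-- a family of hyperbolic pairs together with a vector of norm one orthogonal to it -/
structure HFam (Q : QuadraticForm F (ι → F)) (J : Type*) (ν : J → J) where
  nd : (QuadraticMap.polarBilin Q).Nondegenerate
  b : J → ι → F
  b0 : ι → F
  nu_nu : ∀ k, ν (ν k) = k
  nu_ne : ∀ k, ν k ≠ k
  Q_b : ∀ k, Q (b k) = 0
  polar_nu : ∀ k, QuadraticMap.polar (⇑Q) (b k) (b (ν k)) = 1
  polar_ne : ∀ k l, l ≠ ν k → QuadraticMap.polar (⇑Q) (b k) (b l) = 0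
  Q_b0 : Q b0 = 1
  polar_b0 : ∀ k, QuadraticMap.polar (⇑Q) (b k) b0 = 0

namespace HFam

variable {J : Type*} {ν : J → J} (H : HFam Q J ν)

include H in
theorem nu_inj {a b : J} (h : ν a = ν b) : a = b := by
  have := congrArg ν h
  rwa [H.nu_nu, H.nu_nu] at this

include H in
theorem ne_nu_symm {a b : J} (h : a ≠ ν b) : b ≠ ν a := by
  intro e
  apply h
  rw [e, H.nu_nu]

/-- the root element attached to the singular vectors `b a`, `b c` -/
noncomputable def Ehat (a c : J) (h : c ≠ ν a) (t : F) : ↥(Cfsg.isometryGroup F ⇑Q) :=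
  LR H.nd (H.b a) (H.b c) (H.Q_b a) (H.Q_b c) (H.polar_ne a c h) t

theorem Ehat_mulVec (a c : J) (h : c ≠ ν a) (t : F) (x : ι → F) :
    ((H.Ehat a c h t : Matrix.GeneralLinearGroup ι F) : Matrix ι ι F) *ᵥ x =
      x + t • (QuadraticMap.polar (⇑Q) (H.b a) x • H.b c -
        QuadraticMap.polar (⇑Q) (H.b c) x • H.b a) := by
  unfold Ehat
  rw [LR_mulVec]

theorem Ehat_swap (a c : J) (h : c ≠ ν a) (h' : a ≠ ν c) (t : F) :
    H.Ehat a c h t = H.Ehat c a h' (-t) := by
  unfold Ehat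
  exact LR_swap _ _ _ _ _ _ _ t

theorem Ehat_congr {a a' c c' : J} (ha : a = a') (hc : c = c')
    (h : c ≠ ν a) (h' : c' ≠ ν a') (t : F) : H.Ehat a c h t = H.Ehat a' c' h' t := by
  subst ha; subst hc; rfl

variable [DecidableEq J]

/-- the long root elements -/
noncomputable def yhat (k l : J) (t : F) : ↥(Cfsg.isometryGroup F ⇑Q) :=
  if h : k ≠ l ∧ l ≠ ν k then
    H.Ehat (ν l) k (by rw [H.nu_nu]; exact h.1) t
  else 1

theorem yhat_root {k l : J} (h1 : k ≠ l) (h2 : l ≠ ν k) (t : F) :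
    H.yhat k l t = H.Ehat (ν l) k (by rw [H.nu_nu]; exact h1) t := by
  unfold yhat
  rw [dif_pos ⟨h1, h2⟩]

theorem yhat_not_root {k l : J} (h : ¬ (k ≠ l ∧ l ≠ ν k)) (t : F) : H.yhat k l t = 1 := by
  unfold yhat
  rw [dif_neg h]

theorem yhat_mulVec {k l : J} (h1 : k ≠ l) (h2 : l ≠ ν k) (t : F) (x : ι → F) :
    ((H.yhat k l t : Matrix.GeneralLinearGroup ι F) : Matrix ι ι F) *ᵥ x =
      x + t • (QuadraticMap.polar (⇑Q) (H.b (ν l)) x • H.b k -
        QuadraticMap.polar (⇑Q) (H.b k) x • H.b (ν l)) := by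
  rw [H.yhat_root h1 h2, Ehat_mulVec]

/-- the Steinberg data of type `D` attached to a hyperbolic family -/
noncomputable def dD : DData J F ↥(Cfsg.isometryGroup F ⇑Q) ν where
  nu_nu := H.nu_nu
  nu_ne := H.nu_ne
  y := H.yhat
  y_self := fun k t => H.yhat_not_root (fun h => h.1 rfl) t
  y_opp := fun k t => H.yhat_not_root (fun h => h.2 rfl) t
  y_flip := by
    intro k l t
    by_cases h : k ≠ l ∧ l ≠ ν k
    · have h1 : ν l ≠ ν k := fun e => h.1 (H.nu_inj e).symm
      have h2 : ν k ≠ ν (ν l) := by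
        rw [H.nu_nu]; exact Ne.symm h.2
      rw [H.yhat_root h.1 h.2, H.yhat_root h1 h2,
        H.Ehat_swap (ν l) k _ h1 t]
      exact H.Ehat_congr (H.nu_nu k).symm rfl _ _ _
    · rw [H.yhat_not_root h, H.yhat_not_root]
      rintro ⟨h1, h2⟩
      apply h
      refine ⟨fun e => h1 (by rw [e]), fun e => h2 ?_⟩
      rw [H.nu_nu]
      exact e.symm
  y_add := by
    intro k l t u
    by_cases h : k ≠ l ∧ l ≠ ν k
    · rw [H.yhat_root h.1 h.2, H.yhat_root h.1 h.2, H.yhat_root h.1 h.2]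
      unfold Ehat
      exact LR_add' _ _ _ _ _ _ _ _
    · rw [H.yhat_not_root h, H.yhat_not_root h, H.yhat_not_root h, one_mul]
  y_comm := by
    intro k l p m t u h1 h2 h3 h4
    by_cases r1 : k ≠ l ∧ l ≠ ν k
    · by_cases r2 : p ≠ m ∧ m ≠ ν p
      · rw [H.yhat_root r1.1 r1.2, H.yhat_root r2.1 r2.2]
        unfold Ehat
        apply LR_comm_orth
        · apply H.polar_ne
          rw [H.nu_nu]
          exact Ne.symm h4
        · apply H.polar_ne
          rw [H.nu_nu]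
          exact Ne.symm h1
        · apply H.polar_ne
          exact fun e => h2 (H.nu_inj e).symm
        · apply H.polar_ne
          exact H.ne_nu_symm h3
      · rw [H.yhat_not_root r2, mul_one, one_mul]
    · rw [H.yhat_not_root r1, mul_one, one_mul]
  y_comm' := by
    intro k l t u
    by_cases r1 : k ≠ l ∧ l ≠ ν k
    · have h1 : k ≠ ν l := H.ne_nu_symm r1.2
      have h2 : ν l ≠ ν k := fun e => r1.1 (H.nu_inj e).symm
      have h3 : ν l ≠ ν k := h2
      rw [H.yhat_root r1.1 r1.2, H.yhat_root h1 h2,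
        H.Ehat_swap (ν l) k _ h2 t,
        H.Ehat_swap (ν (ν l)) k _ (by rw [H.nu_nu]; exact r1.2) u]
      unfold Ehat
      exact LR_comm_same _ _ _ _ _ _ _ _ _ _ _
    · rw [H.yhat_not_root r1, mul_one, one_mul]
  y_rel := by
    intro k l m t u h1 h2 h3 h4 h5 h6
    have hl : l ≠ ν k := H.ne_nu_symm h4
    have hm : m ≠ ν l := H.ne_nu_symm h5
    have hm' : m ≠ ν k := H.ne_nu_symm h6
    have a1 : ν l ≠ ν k := fun e => h1 (H.nu_inj e).symm
    have a2 : ν m ≠ ν l := fun e => h2 (H.nu_inj e).symm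
    have a3 : ν m ≠ ν k := fun e => h3 (H.nu_inj e).symm
    have key := chevalley H.nd (H.b k) (H.b (ν m)) (H.b l)
      (H.b (ν l)) (H.Q_b _) (H.Q_b _) (H.Q_b _) (H.Q_b _) (H.polar_ne _ _ a3) (H.polar_ne _ _ hl)
      (H.polar_ne _ _ a1) (H.polar_ne _ _ a2)
      (H.polar_ne _ _ (by rw [H.nu_nu]; exact Ne.symm hm))
      (H.polar_nu l) (-t) (-u)
    have e : -(-t * -u) = -(t * u) := by ring
    rw [e] at key
    rw [H.yhat_root h1 hl, H.yhat_root h2 hm, H.yhat_root h3 hm',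
      H.Ehat_swap (ν l) k _ a1 t, H.Ehat_swap (ν m) l _ a2 u,
      H.Ehat_swap (ν m) k _ a3 (t * u)]
    unfold Ehat
    rw [key]
    group

theorem dD_y (k l : J) (t : F) : H.dD.y k l t = H.yhat k l t := rfl

theorem yhat_mem_T (k l : J) (t : F) : H.yhat k l t ∈ T Q := by
  by_cases h : k ≠ l ∧ l ≠ ν k
  · rw [H.yhat_root h.1 h.2]
    unfold Ehat
    exact LR_mem_T _ _ _ _ _ _ _
  · rw [H.yhat_not_root h]
    exact one_mem _

end HFam

end Cfsg.Agent.Lib.Helper3.BQ
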