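import Cfsg.Agent.Lib.Helper3.BQ1
import Cfsg.Agent.Lib.Helper5.OBN.Eich

/-!
# Identities between Eichler transformations and long root elements
-/

set_option linter.unusedSectionVars false
set_option linter.unusedVariables false
set_option linter.unusedSimpArgs false

namespace Cfsg.Agent.Lib.Helper3.BQ

open Matrix Cfsg.Agent.Lib.Helper2 Cfsg.Agent.Lib.Helper2.LongRoot Cfsg.Agent.Lib.Helper3.DN
  Cfsg.Agent.H9Sieg Cfsg.Agent.Lib.Helper5.OBN

variable {F : Type*} [Field F] {ι : Type} [Fintype ι] [DecidableEq ι]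
  {Q : QuadraticForm F (ι → F)}

theorem polar_eq_bp (u v : ι → F) : QuadraticMap.polar (⇑Q) u v = bp Q u v := rfl

theorem LR_mulVec_bp (hQ : (QuadraticMap.polarBilin Q).Nondegenerate) (u v : ι → F)
    (hu : Q u = 0) (hv : Q v = 0) (huv : QuadraticMap.polar (⇑Q) u v = 0) (c : F) (x : ι → F) :
    mat (LR hQ u v hu hv huv c) *ᵥ x = x + c • (bp Q x u • v - bp Q x v • u) := by
  rw [LR_mulVec, polar_eq_bp, polar_eq_bp, bp_comm u x, bp_comm v x]

/-- an Eichler transformation with singular second vector is a long root element -/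
theorem eich_eq_LR (hQ : (QuadraticMap.polarBilin Q).Nondegenerate) (u u' : ι → F)
    (hu : Q u = 0) (hu' : Q u' = 0) (huu' : QuadraticMap.polar (⇑Q) u u' = 0) (c : F) :
    eich Q u (c • u') = LR hQ u u' hu hu' huu' c := by
  have h : EPair Q u (c • u') := ⟨hu, by rw [map_smul, ← polar_eq_bp, huu', smul_zero]⟩
  apply iso_ext
  intro x
  rw [eich_mulVec h, LR_mulVec_bp, Q_smul, hu']
  simp only [map_smul, smul_eq_mul]
  module

/-- a long root element commutes with an Eichler transformation orthogonal to it -/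
theorem LR_comm_eich (hQ : (QuadraticMap.polarBilin Q).Nondegenerate) (u₁ u₂ u v : ι → F)
    (hu₁ : Q u₁ = 0) (hu₂ : Q u₂ = 0) (h12 : QuadraticMap.polar (⇑Q) u₁ u₂ = 0)
    (h : EPair Q u v) (h1 : bp Q u u₁ = 0) (h2 : bp Q u u₂ = 0) (h3 : bp Q v u₁ = 0)
    (h4 : bp Q v u₂ = 0) (c : F) :
    LR hQ u₁ u₂ hu₁ hu₂ h12 c * eich Q u v = eich Q u v * LR hQ u₁ u₂ hu₁ hu₂ h12 c := by
  have e1 : mat (LR hQ u₁ u₂ hu₁ hu₂ h12 c) *ᵥ u = u := by
    rw [LR_mulVec_bp, h1, h2]
    module
  have e2 : mat (LR hQ u₁ u₂ hu₁ hu₂ h12 c) *ᵥ v = v := by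
    rw [LR_mulVec_bp, h3, h4]
    module
  have := eich_conj h (LR hQ u₁ u₂ hu₁ hu₂ h12 c)
  rw [e1, e2] at this
  exact mul_inv_eq_iff_eq_mul.mp this

/-- the decomposition of an Eichler transformation along a sum of two orthogonal singular
vectors -/
theorem eich_add_left (hQ : (QuadraticMap.polarBilin Q).Nondegenerate) (u u' v : ι → F)
    (h : EPair Q u v) (h' : EPair Q u' v) (huu' : QuadraticMap.polar (⇑Q) u u' = 0) (s : F) :
    eich Q (u + s • u') v =
      eich Q u' (s • v) * LR hQ u u' h.hu h'.hu huu' (s * Q v) * eich Q u v := by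
  have b1 : bp Q u u' = 0 := huu'
  have b2 : bp Q u' u = 0 := by rw [bp_comm]; exact b1
  have b3 : bp Q u u = 0 := h.huu
  have b4 : bp Q u' u' = 0 := h'.huu
  have b5 : bp Q u v = 0 := h.huv
  have b6 : bp Q v u = 0 := h.hvu
  have b7 : bp Q u' v = 0 := h'.huv
  have b8 : bp Q v u' = 0 := h'.hvu
  have b9 : bp Q v v = 2 * Q v := bp_self v
  have hs : EPair Q (u + s • u') v := by
    refine ⟨?_, ?_⟩
    · rw [Q_add, Q_smul, h.hu, h'.hu, map_smul, b1]
      simp
    · rw [map_add, LinearMap.add_apply, map_smul, LinearMap.smul_apply, b5, b7]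
      simp
  apply iso_ext
  intro x
  rw [coe_mul_mulVec, coe_mul_mulVec, eich_mulVec hs, eich_mulVec h, LR_mulVec_bp,
    eich_mulVec (h'.smul s), Q_smul]
  simp only [map_add, map_sub, map_smul, LinearMap.add_apply, LinearMap.sub_apply,
    LinearMap.smul_apply, smul_eq_mul, b1, b2, b3, b4, b5, b6, b7, b8, b9, mul_zero, add_zero,
    sub_zero, zero_mul]
  module

end Cfsg.Agent.Lib.Helper3.BQ
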