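import Cfsg.Agent.Lib.Helper3.BQ2
import Cfsg.Agent.Lib.Helper3.BN1

/-!
# Steinberg data of type `B` attached to a hyperbolic family of a quadratic space
-/

set_option linter.unusedSectionVars false
set_option linter.unusedVariables false
set_option linter.unusedSimpArgs false

namespace Cfsg.Agent.Lib.Helper3.BQ

open Matrix Cfsg.Agent.Lib.Helper2 Cfsg.Agent.Lib.Helper2.LongRoot Cfsg.Agent.Lib.Helper3.DN
  Cfsg.Agent.H9Sieg Cfsg.Agent.Lib.Helper5.OBN Cfsg.Agent.Lib.Helper3.BN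

variable {F : Type*} [Field F] {ι : Type} [Fintype ι] [DecidableEq ι]
  {Q : QuadraticForm F (ι → F)}

namespace HFam

variable {J : Type*} {ν : J → J} (H : HFam Q J ν)

theorem bp_nu (k : J) : bp Q (H.b k) (H.b (ν k)) = 1 := H.polar_nu k

theorem bp_nu' (k : J) : bp Q (H.b (ν k)) (H.b k) = 1 := by
  rw [bp_comm]; exact H.polar_nu k

theorem bp_ne {k l : J} (h : l ≠ ν k) : bp Q (H.b k) (H.b l) = 0 := H.polar_ne k l h

theorem bp_b0 (k : J) : bp Q (H.b k) H.b0 = 0 := H.polar_b0 k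

theorem bp_b0' (k : J) : bp Q H.b0 (H.b k) = 0 := by
  rw [bp_comm]; exact H.polar_b0 k

theorem bp_b0_self : bp Q H.b0 H.b0 = 2 := by
  rw [bp_self, H.Q_b0, mul_one]

theorem epair_b0 (k : J) (c : F) : EPair Q (H.b k) (c • H.b0) :=
  ⟨H.Q_b k, by rw [map_smul, H.bp_b0, smul_zero]⟩

theorem epair_b {k l : J} (h : l ≠ ν k) (c : F) : EPair Q (H.b k) (c • H.b l) :=
  ⟨H.Q_b k, by rw [map_smul, H.bp_ne h, smul_zero]⟩

/-- the short root elements -/
noncomputable def Yhat (k : J) (t : F) : ↥(Cfsg.isometryGroup F ⇑Q) :=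
  eich Q (H.b k) ((-t) • H.b0)

theorem Yhat_mulVec (k : J) (t : F) (x : ι → F) :
    mat (H.Yhat k t) *ᵥ x = x + (t * bp Q x H.b0) • H.b k - (t * bp Q x (H.b k)) • H.b0 -
      (t ^ 2 * bp Q x (H.b k)) • H.b k := by
  unfold Yhat
  rw [eich_mulVec (H.epair_b0 k (-t)), Q_smul, H.Q_b0]
  simp only [map_smul, smul_eq_mul]
  module

theorem Yhat_add (k : J) (t u : F) : H.Yhat k (t + u) = H.Yhat k t * H.Yhat k u := by
  unfold Yhat
  rw [eich_mul (H.epair_b0 k (-u)) (H.epair_b0 k (-t))]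
  congr 1
  module

theorem Yhat_inv (k : J) (t : F) : (H.Yhat k t)⁻¹ = H.Yhat k (-t) := by
  unfold Yhat
  rw [eich_inv (H.epair_b0 k (-t))]
  congr 1
  module

variable [DecidableEq J]

theorem yhat_mulVec_bp {k l : J} (h1 : k ≠ l) (h2 : l ≠ ν k) (t : F) (x : ι → F) :
    mat (H.yhat k l t) *ᵥ x =
      x + t • (bp Q x (H.b (ν l)) • H.b k - bp Q x (H.b k) • H.b (ν l)) := by
  rw [H.yhat_root h1 h2]
  unfold Ehat
  rw [LR_mulVec_bp]

theorem yhat_eq_LR {k l : J} (h1 : k ≠ l) (h2 : k ≠ ν l) (t : F) :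
    H.yhat k (ν l) t = LR H.nd (H.b l) (H.b k) (H.Q_b l) (H.Q_b k) (H.polar_ne l k h2) t := by
  have h3 : ν l ≠ ν k := fun e => h1 (H.nu_inj e).symm
  rw [H.yhat_root h2 h3]
  show _ = H.Ehat l k h2 t
  exact H.Ehat_congr (H.nu_nu l) rfl _ _ _

/-- the Steinberg data of type `B` attached to a hyperbolic family -/
noncomputable def bD : BData J F ↥(Cfsg.isometryGroup F ⇑Q) ν where
  D := H.dD
  Y := H.Yhat
  Y_add := H.Yhat_add
  XY_comm := by
    intro k l p t u h1 h2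
    show H.yhat k l t * H.Yhat p u = H.Yhat p u * H.yhat k l t
    by_cases r : k ≠ l ∧ l ≠ ν k
    · rw [H.yhat_root r.1 r.2]
      unfold Ehat Yhat
      apply LR_comm_eich
      · exact H.epair_b0 p (-u)
      · apply H.bp_ne
        exact fun e => h1 (H.nu_inj e).symm
      · apply H.bp_ne
        exact H.ne_nu_symm h2
      · rw [map_smul, LinearMap.smul_apply, H.bp_b0', smul_zero]
      · rw [map_smul, LinearMap.smul_apply, H.bp_b0', smul_zero]
    · rw [H.yhat_not_root r, mul_one, one_mul]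
  XY_rel := by
    intro k l s t h1 h2
    show H.yhat k l s * H.Yhat l t * (H.yhat k l s)⁻¹ * (H.Yhat l t)⁻¹ =
      H.Yhat k (s * t) * H.yhat k (ν l) (s * t ^ 2)
    have h3 : l ≠ ν k := H.ne_nu_symm h2
    have e1 : mat (H.yhat k l s) *ᵥ H.b l = H.b l + s • H.b k := by
      rw [H.yhat_mulVec_bp h1 h3, H.bp_nu, H.bp_ne h2]
      module
    have e2 : mat (H.yhat k l s) *ᵥ ((-t) • H.b0) = (-t) • H.b0 := by
      rw [H.yhat_mulVec_bp h1 h3]
      simp only [map_smul, LinearMap.smul_apply, H.bp_b0']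
      module
    have e3 := eich_conj (H.epair_b0 l (-t)) (H.yhat k l s)
    rw [e1, e2] at e3
    have e4 := eich_add_left H.nd (H.b l) (H.b k) ((-t) • H.b0) (H.epair_b0 l (-t))
      (H.epair_b0 k (-t)) (H.polar_ne l k h2) s
    rw [Q_smul, H.Q_b0] at e4
    have e5 : s • -t • H.b0 = (-(s * t)) • H.b0 := by module
    have e6 : s * (-t * -t * 1) = s * t ^ 2 := by ring
    rw [e5, e6, ← H.yhat_eq_LR h1 h2] at e4
    show H.yhat k l s * eich Q (H.b l) ((-t) • H.b0) * (H.yhat k l s)⁻¹ * (H.Yhat l t)⁻¹ = _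
    rw [e3, e4]
    unfold Yhat
    group
  YY_rel := by
    intro k l s t h1 h2
    show H.Yhat k s * H.Yhat l t * (H.Yhat k s)⁻¹ * (H.Yhat l t)⁻¹ = H.yhat k (ν l) (-(2 * s * t))
    have h3 : k ≠ ν l := H.ne_nu_symm h2
    have e1 : mat (H.Yhat k s) *ᵥ H.b l = H.b l := by
      rw [H.Yhat_mulVec, bp_comm (H.b l) (H.b k), H.bp_ne h2, H.bp_b0]
      module
    have e2 : mat (H.Yhat k s) *ᵥ ((-t) • H.b0) = (-t) • H.b0 + (-(2 * s * t)) • H.b k := by
      rw [H.Yhat_mulVec]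
      simp only [map_smul, LinearMap.smul_apply, H.bp_b0', H.bp_b0_self, smul_eq_mul]
      module
    have e3 := eich_conj (H.epair_b0 l (-t)) (H.Yhat k s)
    rw [e1, e2] at e3
    rw [← eich_mul (H.epair_b0 l (-t)) (H.epair_b h3 (-(2 * s * t))),
      eich_eq_LR H.nd (H.b l) (H.b k) (H.Q_b l) (H.Q_b k) (H.polar_ne l k h3),
      ← H.yhat_eq_LR h1.symm h3] at e3
    show H.Yhat k s * eich Q (H.b l) ((-t) • H.b0) * (H.Yhat k s)⁻¹ * (H.Yhat l t)⁻¹ = _
    rw [e3]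
    unfold Yhat
    group

theorem bD_y (k l : J) (t : F) : H.bD.D.y k l t = H.yhat k l t := rfl

theorem bD_Y (k : J) (t : F) : H.bD.Y k t = H.Yhat k t := rfl

end HFam

end Cfsg.Agent.Lib.Helper3.BQ
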