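import Cfsg.Agent.Lib.Helper3.BQ3
import Cfsg.Agent.Lib.Helper3.BN5
import Cfsg.Agent.Lib.Helper5.QuadOdd

/-!
# The Steinberg data of type `B` in the odd-dimensional orthogonal group
-/

set_option linter.unusedSectionVars false
set_option linter.unusedVariables false
set_option linter.unusedSimpArgs false

namespace Cfsg.Agent.Lib.Helper3.BQ

open Matrix Cfsg.Agent.Lib.Helper2 Cfsg.Agent.Lib.Helper2.LongRoot Cfsg.Agent.Lib.Helper3.DN
  Cfsg.Agent.H9Sieg Cfsg.Agent.Lib.Helper5.OBN Cfsg.Agent.Lib.Helper3.BN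
  Cfsg.Agent.Lib.Helper5.QuadOdd

variable {F : Type*} [Field F] {m : ℕ}

theorem QO_eJ (k : Fin m ⊕ Fin m) :
    QO m F (eJ k : Unit ⊕ (Fin m ⊕ Fin m) → F) = 0 := by
  rw [QO_apply]
  unfold Cfsg.quadFormOdd
  have h0 : (eJ k : Unit ⊕ (Fin m ⊕ Fin m) → F) (Sum.inl ()) = 0 := by simp
  rw [h0]
  have : ∀ i : Fin m, (eJ k : Unit ⊕ (Fin m ⊕ Fin m) → F) (Sum.inr (Sum.inl i)) *
      (eJ k : Unit ⊕ (Fin m ⊕ Fin m) → F) (Sum.inr (Sum.inr i)) = 0 := by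
    intro i
    rcases k with a | a <;> simp [Pi.single_apply]
  simp only [this, Finset.sum_const_zero]
  ring

theorem QO_e0 : QO m F (e0 : Unit ⊕ (Fin m ⊕ Fin m) → F) = 1 := by
  rw [QO_apply]
  unfold Cfsg.quadFormOdd
  simp

theorem polar_eJ (k : Fin m ⊕ Fin m) (x : Unit ⊕ (Fin m ⊕ Fin m) → F) :
    QuadraticMap.polar (⇑(QO m F)) (eJ k : Unit ⊕ (Fin m ⊕ Fin m) → F) x =
      x (Sum.inr (Sum.swap k)) := by
  rw [polar_odd]
  rcases k with a | a <;> simp [Pi.single_apply]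

theorem polar_e0 (x : Unit ⊕ (Fin m ⊕ Fin m) → F) :
    QuadraticMap.polar (⇑(QO m F)) (e0 : Unit ⊕ (Fin m ⊕ Fin m) → F) x = 2 * x (Sum.inl ()) := by
  rw [polar_odd]
  simp

/-- the standard hyperbolic family of the odd-dimensional quadratic space -/
noncomputable def hOdd (h2 : (2 : F) ≠ 0) (m : ℕ) : HFam (QO m F) (Fin m ⊕ Fin m) Sum.swap where
  nd := QO_nondeg h2 m
  b := fun k => eJ k
  b0 := e0
  nu_nu := Sum.swap_swap
  nu_ne := swap_ne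
  Q_b := QO_eJ
  polar_nu := fun k => by
    rw [polar_eJ]
    simp
  polar_ne := fun k l h => by
    rw [polar_eJ]
    simp [Pi.single_apply, Ne.symm h]
  Q_b0 := QO_e0
  polar_b0 := fun k => by
    rw [polar_eJ]
    simp

variable (h2 : (2 : F) ≠ 0)

/-- the matrix coercion -/
noncomputable def matHom (m : ℕ) (F : Type*) [Field F] : ↥(Cfsg.isometryGroup F ⇑(QO m F)) →*
    Matrix (Unit ⊕ (Fin m ⊕ Fin m)) (Unit ⊕ (Fin m ⊕ Fin m)) F :=
  (Units.coeHom _).comp (Subgroup.subtype _)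

theorem matHom_apply (g : ↥(Cfsg.isometryGroup F ⇑(QO m F))) : matHom m F g = mat g := rfl

theorem bp_eJ (k : Fin m ⊕ Fin m) (x : Unit ⊕ (Fin m ⊕ Fin m) → F) :
    bp (QO m F) x (eJ k : Unit ⊕ (Fin m ⊕ Fin m) → F) = x (Sum.inr (Sum.swap k)) := by
  rw [bp_comm]
  exact polar_eJ k x

theorem bp_e0 (x : Unit ⊕ (Fin m ⊕ Fin m) → F) :
    bp (QO m F) x (e0 : Unit ⊕ (Fin m ⊕ Fin m) → F) = 2 * x (Sum.inl ()) := by
  rw [bp_comm]
  exact polar_e0 x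

theorem hOdd_rep : IsRepB (hOdd h2 m).bD (matHom m F) := by
  constructor
  · intro k l t hkl hkl' x
    rw [matHom_apply]
    have := (hOdd h2 m).yhat_mulVec_bp hkl hkl' t x
    rw [HFam.bD_y, this]
    show x + t • (bp (QO m F) x (eJ (Sum.swap l)) • (eJ k : Unit ⊕ (Fin m ⊕ Fin m) → F) -
      bp (QO m F) x (eJ k) • (eJ (Sum.swap l) : Unit ⊕ (Fin m ⊕ Fin m) → F)) = _
    rw [bp_eJ, bp_eJ, Sum.swap_swap]
    module
  · intro k t x
    rw [matHom_apply, HFam.bD_Y, HFam.Yhat_mulVec]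
    show x + (t * bp (QO m F) x e0) • (eJ k : Unit ⊕ (Fin m ⊕ Fin m) → F) -
      (t * bp (QO m F) x (eJ k)) • (e0 : Unit ⊕ (Fin m ⊕ Fin m) → F) -
      (t ^ 2 * bp (QO m F) x (eJ k)) • (eJ k : Unit ⊕ (Fin m ⊕ Fin m) → F) = _
    rw [bp_eJ, bp_e0]
    module

end Cfsg.Agent.Lib.Helper3.BQ
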