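import Cfsg.Agent.Lib.Helper3.BQ4

/-!
# Clearing the coordinates of singular vectors in the odd-dimensional quadratic space
-/

set_option linter.unusedSectionVars false
set_option linter.unusedVariables false
set_option linter.unusedSimpArgs false

namespace Cfsg.Agent.Lib.Helper3.BQ

open Matrix Cfsg.Agent.Lib.Helper2 Cfsg.Agent.Lib.Helper2.LongRoot Cfsg.Agent.Lib.Helper3.DN
  Cfsg.Agent.H9Sieg Cfsg.Agent.Lib.Helper5.OBN Cfsg.Agent.Lib.Helper3.BN
  Cfsg.Agent.Lib.Helper5.QuadOdd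

variable {F : Type*} [Field F] {m : ℕ} (h2 : (2 : F) ≠ 0)

theorem yB_mulVec {k l : Fin m ⊕ Fin m} (hkl : k ≠ l) (hkl' : l ≠ Sum.swap k) (t : F)
    (x : Unit ⊕ (Fin m ⊕ Fin m) → F) :
    mat ((hOdd h2 m).yhat k l t) *ᵥ x =
      x + (t * x (Sum.inr l)) • (eJ k : Unit ⊕ (Fin m ⊕ Fin m) → F) -
        (t * x (Sum.inr (Sum.swap k))) • (eJ (Sum.swap l) : Unit ⊕ (Fin m ⊕ Fin m) → F) :=
  (hOdd_rep h2).long k l t hkl hkl' x

theorem YB_mulVec (k : Fin m ⊕ Fin m) (t : F) (x : Unit ⊕ (Fin m ⊕ Fin m) → F) :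
    mat ((hOdd h2 m).Yhat k t) *ᵥ x =
      x + (2 * t * x (Sum.inl ())) • (eJ k : Unit ⊕ (Fin m ⊕ Fin m) → F) -
        (t * x (Sum.inr (Sum.swap k))) • (e0 : Unit ⊕ (Fin m ⊕ Fin m) → F) -
        (t ^ 2 * x (Sum.inr (Sum.swap k))) • (eJ k : Unit ⊕ (Fin m ⊕ Fin m) → F) :=
  (hOdd_rep h2).short k t x

/-- the subgroup generated by the long root elements with indices in `P` -/
noncomputable def YPB (P : Fin m ⊕ Fin m → Prop) : Subgroup ↥(Cfsg.isometryGroup F ⇑(QO m F)) :=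
  Subgroup.closure {g | ∃ k l t, P k ∧ P l ∧ g = (hOdd h2 m).yhat k l t}

/-- the subgroup generated by all root elements -/
noncomputable def RB : Subgroup ↥(Cfsg.isometryGroup F ⇑(QO m F)) :=
  Subgroup.closure ({g | ∃ k l t, g = (hOdd h2 m).yhat k l t} ∪
    {g | ∃ k t, g = (hOdd h2 m).Yhat k t})

theorem YPB_le_RB (P : Fin m ⊕ Fin m → Prop) : YPB h2 P ≤ RB h2 := by
  unfold YPB RB
  apply Subgroup.closure_mono
  rintro g ⟨k, l, t, -, -, rfl⟩
  exact Or.inl ⟨k, l, t, rfl⟩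

theorem yhat_mem_RB (k l : Fin m ⊕ Fin m) (t : F) : (hOdd h2 m).yhat k l t ∈ RB h2 :=
  Subgroup.subset_closure (Or.inl ⟨k, l, t, rfl⟩)

theorem Yhat_mem_RB (k : Fin m ⊕ Fin m) (t : F) : (hOdd h2 m).Yhat k t ∈ RB h2 :=
  Subgroup.subset_closure (Or.inr ⟨k, t, rfl⟩)

theorem inv_mulVec_of_fixB {g : ↥(Cfsg.isometryGroup F ⇑(QO m F))}
    {x : Unit ⊕ (Fin m ⊕ Fin m) → F} (h : mat g *ᵥ x = x) : mat g⁻¹ *ᵥ x = x := by
  have h1 := inv_mulVec_mulVec g x
  rwa [h] at h1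

theorem YPB_fix {P : Fin m ⊕ Fin m → Prop} {e : Fin m ⊕ Fin m}
    (hP : ∀ k, P k → k ≠ e ∧ k ≠ Sum.swap e) {g : ↥(Cfsg.isometryGroup F ⇑(QO m F))}
    (hg : g ∈ YPB h2 P) : mat g *ᵥ (eJ e : Unit ⊕ (Fin m ⊕ Fin m) → F) = eJ e := by
  unfold YPB at hg
  induction hg using Subgroup.closure_induction with
  | mem y hy =>
    obtain ⟨k, l, t, hk, hl, rfl⟩ := hy
    by_cases h : k ≠ l ∧ l ≠ Sum.swap k
    · rw [yB_mulVec h2 h.1 h.2]
      have h1 : (eJ e : Unit ⊕ (Fin m ⊕ Fin m) → F) (Sum.inr l) = 0 := by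
        simp [(hP l hl).1]
      have h3 : (eJ e : Unit ⊕ (Fin m ⊕ Fin m) → F) (Sum.inr (Sum.swap k)) = 0 := by
        have : Sum.swap k ≠ e := fun h' => (hP k hk).2 (by rw [← h', Sum.swap_swap])
        simp [this]
      rw [h1, h3, mul_zero, zero_smul, zero_smul, add_zero, sub_zero]
    · rw [(hOdd h2 m).yhat_not_root h, coe_one_mulVec]
  | one => exact coe_one_mulVec _
  | mul a b _ _ ha hb => rw [coe_mul_mulVec, hb, ha]
  | inv a _ ha => exact inv_mulVec_of_fixB ha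

theorem QB_pair {x : Unit ⊕ (Fin m ⊕ Fin m) → F} {l : Fin m ⊕ Fin m} (h0 : x (Sum.inl ()) = 0)
    (hx : ∀ k, k ≠ l → k ≠ Sum.swap l → x (Sum.inr k) = 0) :
    QO m F x = x (Sum.inr l) * x (Sum.inr (Sum.swap l)) := by
  rw [QO_apply]
  unfold Cfsg.quadFormOdd
  rw [h0]
  rcases l with j | j
  · rw [Finset.sum_eq_single j]
    · simp
    · intro i _ hij
      rw [hx (Sum.inl i) (by simpa using hij) (by simp), zero_mul]
    · intro h; exact absurd (Finset.mem_univ j) h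
  · rw [Finset.sum_eq_single j]
    · simp [mul_comm]
    · intro i _ hij
      rw [hx (Sum.inr i) (by simpa using hij) (by simp), mul_zero]
    · intro h; exact absurd (Finset.mem_univ j) h

/-- clearing the coordinates of a singular vector of the hyperbolic part -/
theorem TRB (P : Fin m ⊕ Fin m → Prop) (hP : ∀ k, P k → P (Sum.swap k)) :
    ∀ (s : Finset (Fin m ⊕ Fin m)) (x : Unit ⊕ (Fin m ⊕ Fin m) → F) (l : Fin m ⊕ Fin m), P l →
      x (Sum.inr l) ≠ 0 → QO m F x = 0 → x (Sum.inl ()) = 0 → (∀ k, x (Sum.inr k) ≠ 0 → P k) →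
      (∀ k, k ≠ l → k ≠ Sum.swap l → x (Sum.inr k) ≠ 0 → k ∈ s) →
      ∃ g ∈ YPB h2 P, mat g *ᵥ x = x (Sum.inr l) • (eJ l : Unit ⊕ (Fin m ⊕ Fin m) → F) := by
  intro s
  induction s using Finset.induction_on with
  | empty =>
    intro x l hPl hxl hQ0 hx0 hsupp hs
    have hx : ∀ k, k ≠ l → k ≠ Sum.swap l → x (Sum.inr k) = 0 := by
      intro k h1 h3
      by_contra h
      exact absurd (hs k h1 h3 h) (Finset.notMem_empty k)
    have h1 := QB_pair hx0 hx
    rw [hQ0] at h1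
    have h3 : x (Sum.inr (Sum.swap l)) = 0 := by
      rcases mul_eq_zero.1 h1.symm with h | h
      · exact absurd h hxl
      · exact h
    refine ⟨1, one_mem _, ?_⟩
    rw [coe_one_mulVec]
    ext k
    rcases k with ⟨⟩ | k
    · rw [hx0]; simp
    by_cases hkl : k = l
    · subst hkl
      simp
    · by_cases hkl' : k = Sum.swap l
      · rw [hkl', h3]
        simp [swap_ne l]
      · rw [hx k hkl hkl']
        simp [hkl]
  | insert k₀ s hk₀ ih =>
    intro x l hPl hxl hQ0 hx0 hsupp hs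
    by_cases hk : k₀ ≠ l ∧ k₀ ≠ Sum.swap l ∧ x (Sum.inr k₀) ≠ 0
    · obtain ⟨hk1, hk2, hk3⟩ := hk
      have hroot : l ≠ Sum.swap k₀ := ne_swap_symm hk2
      set t : F := -(x (Sum.inr k₀) / x (Sum.inr l)) with ht
      set g₀ := (hOdd h2 m).yhat k₀ l t with hg₀
      set x' := mat g₀ *ᵥ x with hx'
      have hx'eq : x' = x + (t * x (Sum.inr l)) • (eJ k₀ : Unit ⊕ (Fin m ⊕ Fin m) → F) -
          (t * x (Sum.inr (Sum.swap k₀))) • (eJ (Sum.swap l) : Unit ⊕ (Fin m ⊕ Fin m) → F) :=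
        yB_mulVec h2 hk1 hroot t x
      have c0 : x' (Sum.inl ()) = 0 := by
        rw [hx'eq]
        simp [hx0]
      have c1 : x' (Sum.inr l) = x (Sum.inr l) := by
        rw [hx'eq]
        simp [Ne.symm hk1, Ne.symm (swap_ne l)]
      have c2 : x' (Sum.inr k₀) = 0 := by
        rw [hx'eq]
        simp only [Pi.add_apply, Pi.sub_apply, Pi.smul_apply, Pi.single_eq_same,
          Pi.single_eq_of_ne (show (Sum.inr k₀ : Unit ⊕ (Fin m ⊕ Fin m)) ≠ Sum.inr (Sum.swap l)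
            from fun h => hk2 (Sum.inr_injective h)), smul_eq_mul, mul_one, mul_zero, sub_zero, ht]
        field_simp
        ring
      have c3 : ∀ k, k ≠ k₀ → k ≠ Sum.swap l → x' (Sum.inr k) = x (Sum.inr k) := by
        intro k h1 h3
        rw [hx'eq]
        simp [h1, h3]
      have hQ' : QO m F x' = 0 := by rw [hx', Q_mulVec]; exact hQ0
      have hg₀mem : g₀ ∈ YPB h2 P :=
        Subgroup.subset_closure ⟨k₀, l, t, hsupp k₀ hk3, hPl, rfl⟩
      obtain ⟨g', hg', hg'x⟩ := ih x' l hPl (by rw [c1]; exact hxl) hQ' c0 (by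
          intro k hk
          by_cases h1 : k = Sum.swap l
          · rw [h1]; exact hP l hPl
          by_cases h3 : k = k₀
          · rw [h3] at hk; exact absurd c2 hk
          · rw [c3 k h3 h1] at hk; exact hsupp k hk) (by
          intro k h1 h3 hk
          have h4 : k ≠ k₀ := by
            intro h; rw [h] at hk; exact hk c2
          rw [c3 k h4 h3] at hk
          rcases Finset.mem_insert.1 (hs k h1 h3 hk) with h | h
          · exact absurd h h4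
          · exact h)
      refine ⟨g' * g₀, mul_mem hg' hg₀mem, ?_⟩
      rw [coe_mul_mulVec, ← hx', hg'x, c1]
    · apply ih x l hPl hxl hQ0 hx0 hsupp
      intro k h1 h3 hk'
      rcases Finset.mem_insert.1 (hs k h1 h3 hk') with h | h
      · exfalso
        apply hk
        rw [← h]
        exact ⟨h1, h3, hk'⟩
      · exact h

/-- a singular vector with non-zero anisotropic coordinate has a non-zero hyperbolic pair -/
theorem exists_pair_ne_zero {x : Unit ⊕ (Fin m ⊕ Fin m) → F} (hQ : QO m F x = 0)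
    (h0 : x (Sum.inl ()) ≠ 0) :
    ∃ i : Fin m, x (Sum.inr (Sum.inl i)) ≠ 0 ∧ x (Sum.inr (Sum.inr i)) ≠ 0 := by
  by_contra hcon
  have h : ∀ i : Fin m, x (Sum.inr (Sum.inl i)) * x (Sum.inr (Sum.inr i)) = 0 := by
    intro i
    by_contra hi
    exact hcon ⟨i, left_ne_zero_of_mul hi, right_ne_zero_of_mul hi⟩
  rw [QO_apply] at hQ
  unfold Cfsg.quadFormOdd at hQ
  simp only [h, Finset.sum_const_zero, add_zero] at hQ
  exact h0 (pow_eq_zero_iff (two_ne_zero) |>.1 hQ)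

/-- killing the anisotropic coordinate by a short root element -/
theorem kill0 (p : Fin m ⊕ Fin m) (x : Unit ⊕ (Fin m ⊕ Fin m) → F)
    (hp : x (Sum.inr (Sum.swap p)) ≠ 0) :
    (mat ((hOdd h2 m).Yhat p (x (Sum.inl ()) / x (Sum.inr (Sum.swap p)))) *ᵥ x) (Sum.inl ())
      = 0 := by
  rw [YB_mulVec]
  simp only [Pi.add_apply, Pi.sub_apply, Pi.smul_apply, Pi.single_eq_same, smul_eq_mul, mul_one,
    Pi.single_eq_of_ne (show (Sum.inl () : Unit ⊕ (Fin m ⊕ Fin m)) ≠ Sum.inr p from Sum.inl_ne_inr),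
    mul_zero, add_zero, sub_zero]
  field_simp
  ring

theorem Yhat_fix {p e : Fin m ⊕ Fin m} (h : e ≠ Sum.swap p) (t : F) :
    mat ((hOdd h2 m).Yhat p t) *ᵥ (eJ e : Unit ⊕ (Fin m ⊕ Fin m) → F) = eJ e := by
  rw [YB_mulVec]
  have h1 : (eJ e : Unit ⊕ (Fin m ⊕ Fin m) → F) (Sum.inl ()) = 0 := by simp
  have h3 : (eJ e : Unit ⊕ (Fin m ⊕ Fin m) → F) (Sum.inr (Sum.swap p)) = 0 := by
    simp [Ne.symm h]
  rw [h1, h3]
  simp

theorem Yhat_coord {p k : Fin m ⊕ Fin m} (h : k ≠ p) (t : F)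
    (x : Unit ⊕ (Fin m ⊕ Fin m) → F) :
    (mat ((hOdd h2 m).Yhat p t) *ᵥ x) (Sum.inr k) = x (Sum.inr k) := by
  rw [YB_mulVec]
  simp [h]

end Cfsg.Agent.Lib.Helper3.BQ
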