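import Cfsg.Agent.Lib.Helper3.BQ5

/-!
# The root elements generate `Ω` in odd dimension
-/

set_option linter.unusedSectionVars false
set_option linter.unusedVariables false
set_option linter.unusedSimpArgs false

namespace Cfsg.Agent.Lib.Helper3.BQ

open Matrix Cfsg.Agent.Lib.Helper2 Cfsg.Agent.Lib.Helper2.LongRoot Cfsg.Agent.Lib.Helper3.DN
  Cfsg.Agent.H9Sieg Cfsg.Agent.Lib.Helper5.OBN Cfsg.Agent.Lib.Helper3.BN
  Cfsg.Agent.Lib.Helper5.QuadOdd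

variable {F : Type*} [Field F] {m : ℕ} (h2 : (2 : F) ≠ 0)

theorem LR_mem_of_conj {g : ↥(Cfsg.isometryGroup F ⇑(QO m F))} (hg : g ∈ RB h2)
    (u v : Unit ⊕ (Fin m ⊕ Fin m) → F) (hu : QO m F u = 0) (hv : QO m F v = 0)
    (huv : QuadraticMap.polar (⇑(QO m F)) u v = 0) (c : F)
    (hu' : QO m F (mat g *ᵥ u) = 0) (hv' : QO m F (mat g *ᵥ v) = 0)
    (huv' : QuadraticMap.polar (⇑(QO m F)) (mat g *ᵥ u) (mat g *ᵥ v) = 0)
    (h : LR (QO_nondeg h2 m) (mat g *ᵥ u) (mat g *ᵥ v) hu' hv' huv' c ∈ RB h2) :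
    LR (QO_nondeg h2 m) u v hu hv huv c ∈ RB h2 := by
  have e1 : g * LR (QO_nondeg h2 m) u v hu hv huv c * g⁻¹ =
      LR (QO_nondeg h2 m) (mat g *ᵥ u) (mat g *ᵥ v) hu' hv' huv' c :=
    conj_LR _ g u v hu hv huv c
  have e2 : LR (QO_nondeg h2 m) u v hu hv huv c =
      g⁻¹ * LR (QO_nondeg h2 m) (mat g *ᵥ u) (mat g *ᵥ v) hu' hv' huv' c * g := by
    rw [← e1]; group
  rw [e2]
  exact mul_mem (mul_mem (inv_mem hg) h) hg

theorem LR_mem_RB_aux1 {l₁ l₂ : Fin m ⊕ Fin m} (h1 : l₂ ≠ l₁) (h3 : l₂ ≠ Sum.swap l₁)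
    (a b α : F) (u v : Unit ⊕ (Fin m ⊕ Fin m) → F)
    (hue : u = a • (eJ l₁ : Unit ⊕ (Fin m ⊕ Fin m) → F))
    (hve : v = b • (eJ l₂ : Unit ⊕ (Fin m ⊕ Fin m) → F) + α • eJ l₁)
    (hu : QO m F u = 0) (hv : QO m F v = 0)
    (huv : QuadraticMap.polar (⇑(QO m F)) u v = 0) (c : F) :
    LR (QO_nondeg h2 m) u v hu hv huv c ∈ RB h2 := by
  have hr2 : Sum.swap l₁ ≠ Sum.swap l₂ := fun h => h1 (swap_inj h).symm
  have e3 : LR (QO_nondeg h2 m) u v hu hv huv c =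
      (hOdd h2 m).yhat l₂ (Sum.swap l₁) (a * b * c) := by
    apply iso_ext
    intro x
    rw [LR_mulVec, yB_mulVec h2 h3 hr2, hue, hve, QuadraticMap.polar_smul_left,
      QuadraticMap.polar_add_left, QuadraticMap.polar_smul_left, QuadraticMap.polar_smul_left,
      polar_eJ, polar_eJ, Sum.swap_swap]
    simp only [smul_eq_mul]
    module
  rw [e3]
  exact yhat_mem_RB h2 _ _ _

theorem LR_mem_RB_aux2 (l₁ : Fin m ⊕ Fin m) (a : F) (ha : a ≠ 0)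
    (u v : Unit ⊕ (Fin m ⊕ Fin m) → F)
    (hue : u = a • (eJ l₁ : Unit ⊕ (Fin m ⊕ Fin m) → F))
    (hu : QO m F u = 0) (hv : QO m F v = 0)
    (huv : QuadraticMap.polar (⇑(QO m F)) u v = 0) (c : F) :
    LR (QO_nondeg h2 m) u v hu hv huv c ∈ RB h2 := by
  have hvsw : v (Sum.inr (Sum.swap l₁)) = 0 := by
    have h := huv
    rw [hue, QuadraticMap.polar_smul_left, smul_eq_mul, polar_eJ] at h
    exact (mul_eq_zero.1 h).resolve_left ha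
  set α := v (Sum.inr l₁) with hα
  set v'' : Unit ⊕ (Fin m ⊕ Fin m) → F := v - α • (eJ l₁ : Unit ⊕ (Fin m ⊕ Fin m) → F) with hv''
  have hveq : v = v'' + α • (eJ l₁ : Unit ⊕ (Fin m ⊕ Fin m) → F) := by rw [hv'']; abel
  have c1 : v'' (Sum.inr l₁) = 0 := by simp [hv'', hα]
  have c2 : v'' (Sum.inr (Sum.swap l₁)) = 0 := by simp [hv'', hvsw, swap_ne l₁]
  have hQ'' : QO m F v'' = 0 := by
    have h1 : v'' = v + (-α) • (eJ l₁ : Unit ⊕ (Fin m ⊕ Fin m) → F) := by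
      rw [hv'', neg_smul, sub_eq_add_neg]
    rw [h1, QuadraticMap.map_add (⇑(QO m F)) v ((-α) • (eJ l₁ : Unit ⊕ (Fin m ⊕ Fin m) → F)),
      QuadraticMap.map_smul, QO_eJ, QuadraticMap.polar_smul_right, QuadraticMap.polar_comm,
      polar_eJ, hvsw, hv]
    simp
  -- kill the anisotropic coordinate of `v''`
  obtain ⟨g₂, hg₂, hg₂0, hg₂fix, hg₂c1, hg₂c2⟩ : ∃ g₂ ∈ RB h2,
      (mat g₂ *ᵥ v'') (Sum.inl ()) = 0 ∧
      mat g₂ *ᵥ (eJ l₁ : Unit ⊕ (Fin m ⊕ Fin m) → F) = eJ l₁ ∧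
      (mat g₂ *ᵥ v'') (Sum.inr l₁) = 0 ∧ (mat g₂ *ᵥ v'') (Sum.inr (Sum.swap l₁)) = 0 := by
    by_cases h0 : v'' (Sum.inl ()) = 0
    · refine ⟨1, one_mem _, ?_, coe_one_mulVec _, ?_, ?_⟩
      · rw [coe_one_mulVec]; exact h0
      · rw [coe_one_mulVec]; exact c1
      · rw [coe_one_mulVec]; exact c2
    · obtain ⟨i, hi1, hi2⟩ := exists_pair_ne_zero hQ'' h0
      have hp1 : (Sum.inl i : Fin m ⊕ Fin m) ≠ l₁ := fun h => hi1 (by rw [h]; exact c1)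
      have hp2 : (Sum.inl i : Fin m ⊕ Fin m) ≠ Sum.swap l₁ := fun h => hi1 (by rw [h]; exact c2)
      refine ⟨(hOdd h2 m).Yhat (Sum.inl i) (v'' (Sum.inl ()) / v'' (Sum.inr (Sum.swap (Sum.inl i)))),
        Yhat_mem_RB h2 _ _, kill0 h2 (Sum.inl i) v'' hi2, ?_, ?_, ?_⟩
      · exact Yhat_fix h2 (ne_swap_symm hp2) _
      · rw [Yhat_coord h2 (Ne.symm hp1)]; exact c1
      · rw [Yhat_coord h2 (Ne.symm hp2)]; exact c2
  set v₃ := mat g₂ *ᵥ v'' with hv₃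
  have hQ₃ : QO m F v₃ = 0 := by rw [hv₃, Q_mulVec]; exact hQ''
  by_cases hv0 : v₃ = 0
  · -- then `v` is a multiple of `u`
    have hv''0 : v'' = 0 := by
      have := inv_mulVec_mulVec g₂ v''
      rw [← hv₃, hv0, Matrix.mulVec_zero] at this
      exact this.symm
    have hve : v = α • (eJ l₁ : Unit ⊕ (Fin m ⊕ Fin m) → F) := by
      rw [hveq, hv''0, zero_add]
    have h1 : LR (QO_nondeg h2 m) u v hu hv huv c = 1 := by
      apply LR_trivial _ u v hu hv huv c α (-a)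
      · rw [hue, hve, smul_smul, smul_smul, ← add_smul]
        have : α * a + -a * α = 0 := by ring
        rw [this, zero_smul]
      · intro h
        exact ha (neg_eq_zero.1 h.2)
    rw [h1]
    exact one_mem _
  obtain ⟨l₂, hl₂⟩ : ∃ l, v₃ (Sum.inr l) ≠ 0 := by
    by_contra h
    simp only [not_exists, not_not] at h
    apply hv0
    ext k
    rcases k with ⟨⟩ | k
    · exact hg₂0
    · exact h k
  have hl₂1 : l₂ ≠ l₁ := fun h => hl₂ (by rw [h]; exact hg₂c1)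
  have hl₂2 : l₂ ≠ Sum.swap l₁ := fun h => hl₂ (by rw [h]; exact hg₂c2)
  have hPsw : ∀ k : Fin m ⊕ Fin m, (k ≠ l₁ ∧ k ≠ Sum.swap l₁) →
      (Sum.swap k ≠ l₁ ∧ Sum.swap k ≠ Sum.swap l₁) := by
    rintro k ⟨h1, h3⟩
    refine ⟨fun h => h3 ?_, fun h => h1 (swap_inj h)⟩
    rw [← h, Sum.swap_swap]
  obtain ⟨g₃, hg₃, hg₃v⟩ := TRB h2 (fun k => k ≠ l₁ ∧ k ≠ Sum.swap l₁) hPsw Finset.univ v₃ l₂
    ⟨hl₂1, hl₂2⟩ hl₂ hQ₃ hg₂0 (by
      intro k hk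
      exact ⟨fun h => hk (by rw [h]; exact hg₂c1), fun h => hk (by rw [h]; exact hg₂c2)⟩)
    (fun k _ _ _ => Finset.mem_univ k)
  have hfix : mat g₃ *ᵥ (eJ l₁ : Unit ⊕ (Fin m ⊕ Fin m) → F) = eJ l₁ :=
    YPB_fix h2 (fun k hk => hk) hg₃
  set b := v₃ (Sum.inr l₂) with hb
  have hgv : mat (g₃ * g₂) *ᵥ v = b • (eJ l₂ : Unit ⊕ (Fin m ⊕ Fin m) → F) + α • eJ l₁ := by
    rw [coe_mul_mulVec, hveq, Matrix.mulVec_add, Matrix.mulVec_smul, hg₂fix, ← hv₃,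
      Matrix.mulVec_add, Matrix.mulVec_smul, hg₃v, hfix]
  have hgu : mat (g₃ * g₂) *ᵥ u = a • (eJ l₁ : Unit ⊕ (Fin m ⊕ Fin m) → F) := by
    rw [coe_mul_mulVec, hue, Matrix.mulVec_smul, hg₂fix, Matrix.mulVec_smul, hfix]
  have hgmem : g₃ * g₂ ∈ RB h2 := mul_mem (YPB_le_RB h2 _ hg₃) hg₂
  apply LR_mem_of_conj h2 hgmem u v hu hv huv c (by rw [Q_mulVec]; exact hu)
    (by rw [Q_mulVec]; exact hv) (by rw [polar_eq_bp, bp_mulVec]; exact huv)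
  exact LR_mem_RB_aux1 h2 hl₂1 hl₂2 a b α _ _ hgu hgv _ _ _ c

/-- every long root element is a product of the standard root elements -/
theorem LR_mem_RB (u v : Unit ⊕ (Fin m ⊕ Fin m) → F) (hu : QO m F u = 0) (hv : QO m F v = 0)
    (huv : QuadraticMap.polar (⇑(QO m F)) u v = 0) (c : F) :
    LR (QO_nondeg h2 m) u v hu hv huv c ∈ RB h2 := by
  by_cases hu0 : u = 0
  · have h1 : LR (QO_nondeg h2 m) u v hu hv huv c = 1 :=
      LR_trivial _ u v hu hv huv c 1 0 (by rw [hu0]; simp) (by simp)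
    rw [h1]
    exact one_mem _
  -- kill the anisotropic coordinate of `u`
  obtain ⟨g₀, hg₀, hg₀0⟩ : ∃ g₀ ∈ RB h2, (mat g₀ *ᵥ u) (Sum.inl ()) = 0 := by
    by_cases h0 : u (Sum.inl ()) = 0
    · exact ⟨1, one_mem _, by rw [coe_one_mulVec]; exact h0⟩
    · obtain ⟨i, hi1, hi2⟩ := exists_pair_ne_zero hu h0
      exact ⟨(hOdd h2 m).Yhat (Sum.inl i) (u (Sum.inl ()) / u (Sum.inr (Sum.swap (Sum.inl i)))),
        Yhat_mem_RB h2 _ _, kill0 h2 (Sum.inl i) u hi2⟩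
  set u₁ := mat g₀ *ᵥ u with hu₁
  have hu₁Q : QO m F u₁ = 0 := by rw [hu₁, Q_mulVec]; exact hu
  have hu₁0 : u₁ ≠ 0 := by
    intro h
    apply hu0
    have := inv_mulVec_mulVec g₀ u
    rw [← hu₁, h, Matrix.mulVec_zero] at this
    exact this.symm
  obtain ⟨l₁, hl₁⟩ : ∃ l, u₁ (Sum.inr l) ≠ 0 := by
    by_contra h
    simp only [not_exists, not_not] at h
    apply hu₁0
    ext k
    rcases k with ⟨⟩ | k
    · exact hg₀0
    · exact h k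
  obtain ⟨g₁, hg₁, hg₁u⟩ := TRB h2 (fun _ => True) (fun _ _ => trivial) Finset.univ u₁ l₁
    trivial hl₁ hu₁Q hg₀0 (fun _ _ => trivial) (fun k _ _ _ => Finset.mem_univ k)
  have hgu : mat (g₁ * g₀) *ᵥ u = u₁ (Sum.inr l₁) • (eJ l₁ : Unit ⊕ (Fin m ⊕ Fin m) → F) := by
    rw [coe_mul_mulVec, ← hu₁, hg₁u]
  have hgmem : g₁ * g₀ ∈ RB h2 := mul_mem (YPB_le_RB h2 _ hg₁) hg₀
  apply LR_mem_of_conj h2 hgmem u v hu hv huv c (by rw [Q_mulVec]; exact hu)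
    (by rw [Q_mulVec]; exact hv) (by rw [polar_eq_bp, bp_mulVec]; exact huv)
  exact LR_mem_RB_aux2 h2 l₁ _ hl₁ _ _ hgu _ _ _ c

/-- the long root subgroup lies in the subgroup generated by the root elements -/
theorem T_le_RB : T (QO m F) ≤ RB h2 := by
  unfold T
  rw [Subgroup.closure_le]
  rintro g ⟨u, v, c, hu, hv, huv, hgc⟩
  have := eq_LR_of_coe (QO_nondeg h2 m) g u v hu hv huv c hgc
  rw [this]
  exact LR_mem_RB h2 u v hu hv huv c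

end Cfsg.Agent.Lib.Helper3.BQ
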