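import Cfsg.Agent.Lib.Helper3.DS17

/-!
# The kernel of the natural representation of the Steinberg group of type `D_n`, `n ≥ 3`
-/

set_option linter.unusedSectionVars false
set_option linter.unusedVariables false
set_option linter.unusedSimpArgs false

namespace Cfsg.Agent.Lib.Helper3.DS

open Matrix Cfsg.Agent.Lib.Helper5.QuadGlue Cfsg.Agent.Lib.Helper5.Stb Cfsg.Agent.Lib.Helper3.DN

universe u

section ker
variable {F : Type u} [Field F] [Fintype F] {n : ℕ} (hn : 3 ≤ n) (o p : Fin n) (hop : o ≠ p)

/-- the spin element -/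
noncomputable def zD : StD (Fin n ⊕ Fin n) F Sum.swap :=
  (sD n F).chiZ (hc_sum hn) o p hop (-1)

theorem zD_eq : zD (F := F) hn o p hop =
    (sD n F).hh (Sum.inl p) (Sum.inr o) (-1) * ((sD n F).hh (Sum.inl p) (Sum.inl o) (-1))⁻¹ := by
  unfold zD
  rw [DData.chiZ_apply]
  simp

theorem eta_single (u : Fˣ) :
    (sD n F).eta (hc_sum hn) o p hop (Pi.mulSingle o u) = (sD n F).chiZ (hc_sum hn) o p hop u := by
  unfold DData.eta
  rw [MonoidHom.noncommPiCoprod_mulSingle, DData.chi_o]

theorem phiD_zD : phiD n F (zD (F := F) hn o p hop) = 1 := by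
  apply mat_eq_one_of_fix
  intro x
  unfold zD
  rw [← eta_single hn o p hop (-1), (sD n F).rep_eta (hc_sum hn) o p hop phiD_rep]
  have h : DData.eig o (Pi.mulSingle o (-1 : Fˣ)) x = 1 := by
    have hl : ∀ j, DData.eig o (Pi.mulSingle o (-1 : Fˣ)) (Sum.inl j) = 1 := by
      intro j
      by_cases hj : j = o
      · subst hj
        rw [eig_inl_o]
        apply Finset.prod_eq_one
        intro i _
        by_cases hi : i = j
        · simp [hi]
        · simp [hi]
      · rw [eig_inl o _ hj]
        simp [hj]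
    rcases x with j | j
    · exact hl j
    · rw [eig_inr, hl j, inv_one]
  rw [h, one_smul]

/-- the kernel of the natural representation has at most two elements -/
theorem phiD_ker (g : StD (Fin n ⊕ Fin n) F Sum.swap) (hg : phiD n F g = 1) :
    g = 1 ∨ g = zD (F := F) hn o p hop := by
  have hg1 : phiD n F g = (1 : F) • (1 : Matrix (Fin n ⊕ Fin n) (Fin n ⊕ Fin n) F) := by
    rw [hg, one_smul]
  have hgH : g ∈ (sD n F).HJ :=
    scalar_mem_HJ_of_equiv (sD n F) (eD n) (eD_rev n) hn sD_gen (phiD n F) phiD_rep g 1 hg1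
  obtain ⟨t, rfl⟩ := (sD n F).exists_eta_of_mem_HJ (hc_sum hn) o p hop hgH
  have heig : ∀ x, DData.eig o t x = 1 := by
    intro x
    have h1 := (sD n F).rep_eta (hc_sum hn) o p hop phiD_rep t x
    rw [hg, Matrix.one_mulVec] at h1
    have h3 := congrFun h1 x
    simp only [Pi.smul_apply, ev, Pi.single_eq_same, smul_eq_mul, mul_one] at h3
    exact h3.symm
  have ht : ∀ j, j ≠ o → t j = 1 := by
    intro j hj
    have := heig (Sum.inl j)
    rw [eig_inl o t hj] at this
    exact Units.ext this
  have hto : (t o : F) ^ 2 = 1 := by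
    have := heig (Sum.inl o)
    rw [eig_inl_o, Finset.prod_eq_single o] at this
    · simpa using this
    · intro i _ hi
      rw [if_neg hi, ht i hi]
      simp
    · intro h
      exact absurd (Finset.mem_univ o) h
  have hts : t = Pi.mulSingle o (t o) := by
    funext j
    by_cases hj : j = o
    · subst hj
      simp
    · rw [Pi.mulSingle_eq_of_ne hj, ht j hj]
  rw [hts, eta_single hn]
  have h3 : ((t o : F) - 1) * ((t o : F) + 1) = 0 := by
    have : ((t o : F) - 1) * ((t o : F) + 1) = (t o : F) ^ 2 - 1 := by ring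
    rw [this, hto, sub_self]
  rcases mul_eq_zero.1 h3 with h | h
  · left
    have : t o = 1 := Units.ext (by rw [Units.val_one]; exact sub_eq_zero.1 h)
    rw [this, map_one]
  · right
    have : t o = -1 := Units.ext (by
      rw [Units.val_neg, Units.val_one]; exact eq_neg_of_add_eq_zero_left h)
    rw [this]
    rfl

end ker

end Cfsg.Agent.Lib.Helper3.DS
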