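import Cfsg.Agent.Lib.Helper3.BS1
import Cfsg.Agent.Lib.Helper3.BQ6
import Cfsg.Agent.Lib.Helper3.DS22

/-!
# The Steinberg group of type `B_m` covers `PΩ_{2m+1}`
-/

set_option linter.unusedSectionVars false
set_option linter.unusedVariables false
set_option linter.unusedSimpArgs false

namespace Cfsg.Agent.Lib.Helper3.BS

open Matrix Cfsg.Agent.Lib.Helper2 Cfsg.Agent.Lib.Helper2.LongRoot Cfsg.Agent.Lib.Helper3.DN
  Cfsg.Agent.H9Sieg Cfsg.Agent.Lib.Helper3.BN Cfsg.Agent.Lib.Helper5.QuadOdd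
  Cfsg.Agent.Lib.Helper3.BQ Cfsg.Agent.Lib.Helper3.DS Cfsg.Agent.Lib.Helper3.StU
  Cfsg.Agent.Lib.Helper5.Stb

universe u

section scalar
variable {J K G : Type*} [Field K] [Group G] [Fintype J] [DecidableEq J] {ν : J → J}
  {B : BData J K G ν} {φ : G →* Matrix (Unit ⊕ J) (Unit ⊕ J) K} (hφ : IsRepB B φ)
include hφ

/-- a matrix commuting with the short root elements is a scalar -/
theorem scalar_of_commB (h2 : (2 : K) ≠ 0) (M : Matrix (Unit ⊕ J) (Unit ⊕ J) K)
    (hM : ∀ k, M * φ (B.Y k 1) = φ (B.Y k 1) * M) :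
    ∃ c : K, M = c • (1 : Matrix (Unit ⊕ J) (Unit ⊕ J) K) := by
  have hν1 := B.D.nu_nu
  have hcomm : ∀ k (x : Unit ⊕ J → K), M *ᵥ (φ (B.Y k 1) *ᵥ x) = φ (B.Y k 1) *ᵥ (M *ᵥ x) := by
    intro k x
    rw [Matrix.mulVec_mulVec, Matrix.mulVec_mulVec, hM k]
  -- the images of the hyperbolic basis vectors
  have key : ∀ k p : J, p ≠ ν k → (M *ᵥ (eJ k : Unit ⊕ J → K)) (Sum.inr (ν p)) = 0 ∧
      (M *ᵥ (eJ k : Unit ⊕ J → K)) (Sum.inl ()) = 0 := by
    intro k p hp
    have h1 := hcomm p (eJ k)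
    rw [repY_ne hφ (fun h => hp (by rw [h, hν1])) 1, hφ.short p 1] at h1
    have e0c := congrFun h1 (Sum.inl ())
    have epc := congrFun h1 (Sum.inr p)
    simp only [Pi.add_apply, Pi.sub_apply, Pi.smul_apply, Pi.single_eq_same, smul_eq_mul,
      mul_one, Pi.single_eq_of_ne (show (Sum.inl () : Unit ⊕ J) ≠ Sum.inr p from Sum.inl_ne_inr),
      Pi.single_eq_of_ne (show (Sum.inr p : Unit ⊕ J) ≠ Sum.inl () from Sum.inr_ne_inl),
      mul_zero, add_zero, sub_zero, one_mul, one_pow] at e0c epc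
    have a1 : (M *ᵥ (eJ k : Unit ⊕ J → K)) (Sum.inr (ν p)) = 0 := by linear_combination e0c
    refine ⟨a1, ?_⟩
    rw [a1] at epc
    have : 2 * (M *ᵥ (eJ k : Unit ⊕ J → K)) (Sum.inl ()) = 0 := by linear_combination -epc
    exact (mul_eq_zero.1 this).resolve_left h2
  have hdiag : ∀ k : J, M *ᵥ (eJ k : Unit ⊕ J → K) =
      (M *ᵥ (eJ k : Unit ⊕ J → K)) (Sum.inr k) • (eJ k : Unit ⊕ J → K) := by
    intro k
    ext a
    rcases a with ⟨⟩ | a
    · rw [(key k k (B.D.ne_nu k)).2]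
      simp
    · by_cases hak : a = k
      · subst hak
        simp
      · have := (key k (ν a) (fun h => hak (B.D.nu_inj h))).1
        rw [hν1] at this
        rw [this]
        simp [hak]
  set z := M *ᵥ (e0 : Unit ⊕ J → K) with hz
  have key2 : ∀ k : J, z (Sum.inr (ν k)) = 0 ∧
      (M *ᵥ (eJ k : Unit ⊕ J → K)) (Sum.inr k) = z (Sum.inl ()) := by
    intro k
    have h1 := hcomm k e0
    rw [repY_0 hφ k 1, Matrix.mulVec_add, Matrix.mulVec_smul, hdiag k, ← hz, hφ.short k 1] at h1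
    have e0c := congrFun h1 (Sum.inl ())
    have ekc := congrFun h1 (Sum.inr k)
    simp only [Pi.add_apply, Pi.sub_apply, Pi.smul_apply, Pi.single_eq_same, smul_eq_mul,
      mul_one, Pi.single_eq_of_ne (show (Sum.inl () : Unit ⊕ J) ≠ Sum.inr k from Sum.inl_ne_inr),
      Pi.single_eq_of_ne (show (Sum.inr k : Unit ⊕ J) ≠ Sum.inl () from Sum.inr_ne_inl),
      mul_zero, add_zero, sub_zero, one_mul, one_pow] at e0c ekc
    have a1 : z (Sum.inr (ν k)) = 0 := by linear_combination e0c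
    refine ⟨a1, ?_⟩
    rw [a1] at ekc
    have : 2 * ((M *ᵥ (eJ k : Unit ⊕ J → K)) (Sum.inr k) - z (Sum.inl ())) = 0 := by
      linear_combination ekc
    have := (mul_eq_zero.1 this).resolve_left h2
    exact sub_eq_zero.1 this
  refine ⟨z (Sum.inl ()), ?_⟩
  apply mat_eq_smul_of_cols
  rintro (⟨⟩ | k)
  · show M *ᵥ (e0 : Unit ⊕ J → K) = _
    rw [← hz]
    ext a
    rcases a with ⟨⟩ | a
    · simp [ev]
    · have := (key2 (ν a)).1
      rw [hν1] at this
      rw [this]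
      simp [ev]
  · show M *ᵥ (eJ k : Unit ⊕ J → K) = _
    rw [hdiag k, (key2 k).2]

end scalar

section cover
variable {F : Type u} [Field F] [Fintype F] {m : ℕ} (h2 : (2 : F) ≠ 0)

/-- the tautological Steinberg data -/
noncomputable abbrev sB (m : ℕ) (F : Type u) [Field F] :
    BData (Fin m ⊕ Fin m) F (StB (Fin m ⊕ Fin m) F Sum.swap) Sum.swap :=
  stdB Sum.swap_swap swap_ne

/-- the homomorphism from the Steinberg group to the isometry group -/
noncomputable def thetaB0 : StB (Fin m ⊕ Fin m) F Sum.swap →* ↥(Cfsg.isometryGroup F ⇑(QO m F)) :=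
  liftB (hOdd h2 m).bD

theorem thetaB0_sX (k l : Fin m ⊕ Fin m) (t : F) :
    thetaB0 h2 (sX k l t) = (hOdd h2 m).yhat k l t := by
  rw [thetaB0, liftB_sX, HFam.bD_y]

theorem thetaB0_sY (k : Fin m ⊕ Fin m) (t : F) :
    thetaB0 h2 (sY k t) = (hOdd h2 m).Yhat k t := by
  rw [thetaB0, liftB_sY, HFam.bD_Y]

/-- the natural representation of the Steinberg group -/
noncomputable def phiB : StB (Fin m ⊕ Fin m) F Sum.swap →*
    Matrix (Unit ⊕ (Fin m ⊕ Fin m)) (Unit ⊕ (Fin m ⊕ Fin m)) F :=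
  (matHom m F).comp (thetaB0 h2)

theorem phiB_apply (g : StB (Fin m ⊕ Fin m) F Sum.swap) : phiB h2 g = mat (thetaB0 h2 g) := rfl

theorem phiB_rep : IsRepB (sB m F) (phiB h2) := by
  constructor
  · intro k l t hkl hkl' x
    rw [stdB_y, phiB_apply, thetaB0_sX]
    exact yB_mulVec h2 hkl hkl' t x
  · intro k t x
    rw [stdB_Y, phiB_apply, thetaB0_sY]
    exact YB_mulVec h2 k t x

theorem sB_gen : (sB m F).Gen := stdB_gen Sum.swap_swap swap_ne

theorem sB_perfect (hm : 3 ≤ m) : commutator (StB (Fin m ⊕ Fin m) F Sum.swap) = ⊤ :=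
  stB_perfect Sum.swap_swap swap_ne (hc_sum hm)

theorem thetaB0_range_eq : (thetaB0 h2).range = RB (m := m) h2 := by
  apply le_antisymm
  · rintro _ ⟨s, rfl⟩
    have hs : s ∈ Subgroup.closure ({g | ∃ k l t, g = (sB m F).D.y k l t} ∪
        {g | ∃ k t, g = (sB m F).Y k t}) := by
      rw [show Subgroup.closure ({g | ∃ k l t, g = (sB m F).D.y k l t} ∪
        {g | ∃ k t, g = (sB m F).Y k t}) = ⊤ from sB_gen]
      trivial
    induction hs using Subgroup.closure_induction with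
    | mem y hy =>
      rcases hy with ⟨k, l, t, rfl⟩ | ⟨k, t, rfl⟩
      · rw [stdB_y, thetaB0_sX]
        exact yhat_mem_RB h2 k l t
      · rw [stdB_Y, thetaB0_sY]
        exact Yhat_mem_RB h2 k t
    | one => rw [map_one]; exact one_mem _
    | mul a b _ _ ha hb => rw [map_mul]; exact mul_mem ha hb
    | inv a _ ha => rw [map_inv]; exact inv_mem ha
  · unfold RB
    rw [Subgroup.closure_le]
    rintro g (⟨k, l, t, rfl⟩ | ⟨k, t, rfl⟩)
    · exact ⟨sX k l t, thetaB0_sX h2 k l t⟩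
    · exact ⟨sY k t, thetaB0_sY h2 k t⟩

theorem thetaB0_range (hm : 3 ≤ m) : (thetaB0 h2).range = Cfsg.Omega F ⇑(QO m F) := by
  have hcard : 7 ≤ Fintype.card (Unit ⊕ (Fin m ⊕ Fin m)) := by
    rw [Fintype.card_sum, Fintype.card_sum, Fintype.card_fin, Fintype.card_unit]; omega
  apply le_antisymm
  · -- the Steinberg group is perfect
    rintro _ ⟨s, rfl⟩
    have hs : s ∈ commutator (StB (Fin m ⊕ Fin m) F Sum.swap) := by
      rw [sB_perfect hm]; trivial
    have h3 : (commutator (StB (Fin m ⊕ Fin m) F Sum.swap)).map (thetaB0 h2) ≤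
        commutator ↥(Cfsg.isometryGroup F ⇑(QO m F)) := by
      rw [commutator_def, Subgroup.map_commutator, commutator_def]
      exact Subgroup.commutator_mono le_top le_top
    exact h3 (Subgroup.mem_map_of_mem _ hs)
  · rw [← T_eq_Omega (QO_nondeg h2 m) hcard, thetaB0_range_eq]
    exact T_le_RB h2

/-- the homomorphism onto `Ω` -/
noncomputable def thetaB1 (hm : 3 ≤ m) :
    StB (Fin m ⊕ Fin m) F Sum.swap →* ↥(Cfsg.Omega F ⇑(QO m F)) :=
  (thetaB0 h2).codRestrict _ (fun s => by rw [← thetaB0_range h2 hm]; exact ⟨s, rfl⟩)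

theorem thetaB1_surj (hm : 3 ≤ m) : Function.Surjective (thetaB1 (F := F) h2 hm) := by
  rintro ⟨w, hw⟩
  rw [← thetaB0_range h2 hm] at hw
  obtain ⟨s, rfl⟩ := hw
  exact ⟨s, rfl⟩

theorem phiB_thetaB1 (hm : 3 ≤ m) (g : StB (Fin m ⊕ Fin m) F Sum.swap) :
    phiB h2 g = mat ((thetaB1 (F := F) h2 hm g : ↥(Cfsg.Omega F ⇑(QO m F))) :
      ↥(Cfsg.isometryGroup F ⇑(QO m F))) := rfl

/-- the homomorphism onto `PΩ` -/
noncomputable def thetaB (hm : 3 ≤ m) : StB (Fin m ⊕ Fin m) F Sum.swap →*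
    ↥(Cfsg.Omega F ⇑(QO m F)) ⧸ Subgroup.center ↥(Cfsg.Omega F ⇑(QO m F)) :=
  (QuotientGroup.mk' (Subgroup.center ↥(Cfsg.Omega F ⇑(QO m F)))).comp (thetaB1 h2 hm)

theorem thetaB_surj (hm : 3 ≤ m) : Function.Surjective (thetaB (F := F) h2 hm) :=
  (QuotientGroup.mk'_surjective _).comp (thetaB1_surj h2 hm)

theorem phiB_ker_mem (hm : 3 ≤ m) (g : StB (Fin m ⊕ Fin m) F Sum.swap) (hg : phiB h2 g = 1) :
    g ∈ (sB m F).longSub ∧ ∀ x, g * x = x * g :=
  kerB_of_equiv (sB m F) (eD m) (eD_rev m) h2 hm sB_gen (phiB h2) (phiB_rep h2) g hg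

theorem thetaB1_ker_le (hm : 3 ≤ m) :
    (thetaB1 (F := F) h2 hm).ker ≤ Subgroup.center (StB (Fin m ⊕ Fin m) F Sum.swap) := by
  intro g hg
  rw [Subgroup.mem_center_iff]
  intro x
  have h1 : phiB h2 g = 1 := by
    rw [phiB_thetaB1 h2 hm, MonoidHom.mem_ker.1 hg]
    rfl
  exact ((phiB_ker_mem h2 hm g h1).2 x).symm

theorem thetaB_ker_le (hm : 3 ≤ m) :
    (thetaB (F := F) h2 hm).ker ≤ Subgroup.center (StB (Fin m ⊕ Fin m) F Sum.swap) := by
  apply ker_comp_le_center (thetaB1 h2 hm) _ (sB_perfect hm) (thetaB1_ker_le h2 hm)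
  rw [QuotientGroup.ker_mk']

end cover

end Cfsg.Agent.Lib.Helper3.BS
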