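import Cfsg.Agent.Lib.Helper3.BS2

/-!
# The kernel of the covering of `PΩ_{2m+1}` by the Steinberg group of type `B_m`
-/

set_option linter.unusedSectionVars false
set_option linter.unusedVariables false
set_option linter.unusedSimpArgs false

namespace Cfsg.Agent.Lib.Helper3.BS

open Matrix Cfsg.Agent.Lib.Helper2 Cfsg.Agent.Lib.Helper2.LongRoot Cfsg.Agent.Lib.Helper3.DN
  Cfsg.Agent.H9Sieg Cfsg.Agent.Lib.Helper3.BN Cfsg.Agent.Lib.Helper5.QuadOdd
  Cfsg.Agent.Lib.Helper3.BQ Cfsg.Agent.Lib.Helper3.DS Cfsg.Agent.Lib.Helper3.StU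
  Cfsg.Agent.Lib.Helper5.Stb

universe u

section kernel
variable {F : Type u} [Field F] [Fintype F] {m : ℕ} (h2 : (2 : F) ≠ 0)

/-- the determinant on the isometry group -/
noncomputable def detHom (m : ℕ) (F : Type u) [Field F] :
    ↥(Cfsg.isometryGroup F ⇑(QO m F)) →* Fˣ :=
  Matrix.GeneralLinearGroup.det.comp (Subgroup.subtype _)

theorem detHom_val (w : ↥(Cfsg.isometryGroup F ⇑(QO m F))) :
    ((detHom m F w : Fˣ) : F) = (mat w).det := rfl

theorem det_phiB (hm : 3 ≤ m) (g : StB (Fin m ⊕ Fin m) F Sum.swap) : (phiB h2 g).det = 1 := by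
  have h1 : g ∈ ((detHom m F).comp (thetaB0 h2)).ker := by
    apply Abelianization.commutator_subset_ker
    rw [sB_perfect hm]; trivial
  rw [MonoidHom.mem_ker, MonoidHom.comp_apply] at h1
  have h3 := detHom_val (thetaB0 h2 g)
  rw [h1, Units.val_one] at h3
  rw [phiB_apply]
  exact h3.symm

/-- the kernel of the covering is the kernel of the natural representation -/
theorem mem_thetaB_ker (hm : 3 ≤ m) (g : StB (Fin m ⊕ Fin m) F Sum.swap) :
    g ∈ (thetaB (F := F) h2 hm).ker ↔ phiB h2 g = 1 := by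
  constructor
  · intro hg
    have hcen := thetaB_ker_le h2 hm hg
    obtain ⟨c, hc⟩ := scalar_of_commB (phiB_rep h2) h2 (phiB h2 g) (fun k => by
      rw [← map_mul, ← map_mul, (Subgroup.mem_center_iff.1 hcen ((sB m F).Y k 1)).symm])
    -- `c * c = 1`
    have hcc : c * c = 1 := by
      have h1 := Q_mulVec (thetaB0 h2 g) (e0 : Unit ⊕ (Fin m ⊕ Fin m) → F)
      rw [← phiB_apply, hc, Matrix.smul_mulVec, Matrix.one_mulVec, Q_smul, QO_e0, mul_one] at h1
      exact h1
    have hdet := det_phiB h2 hm g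
    rw [hc, Matrix.det_smul, Matrix.det_one, mul_one, Fintype.card_sum, Fintype.card_sum,
      Fintype.card_fin, Fintype.card_unit] at hdet
    have h3 : (c - 1) * (c + 1) = 0 := by
      have : (c - 1) * (c + 1) = c * c - 1 := by ring
      rw [this, hcc, sub_self]
    rcases mul_eq_zero.1 h3 with h | h
    · rw [hc, sub_eq_zero.1 h, one_smul]
    · exfalso
      have hc1 : c = -1 := eq_neg_of_add_eq_zero_left h
      rw [hc1, Odd.neg_one_pow (by
        refine ⟨m, by ring⟩)] at hdet
      apply h2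
      have : (2 : F) = 1 - (-1) := by ring
      rw [this, hdet, sub_self]
  · intro hg
    rw [MonoidHom.mem_ker]
    show QuotientGroup.mk' _ (thetaB1 h2 hm g) = 1
    have : thetaB1 h2 hm g = 1 := by
      apply Subtype.ext
      apply Subtype.ext
      apply Units.ext
      exact hg
    rw [this, map_one]

/-- the natural representation of the Steinberg group of type `D`, extended by the identity -/
noncomputable def psiD (m : ℕ) (F : Type u) [Field F] : StD (Fin m ⊕ Fin m) F Sum.swap →*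
    Matrix (Unit ⊕ (Fin m ⊕ Fin m)) (Unit ⊕ (Fin m ⊕ Fin m)) F where
  toFun n := Matrix.fromBlocks 1 0 0 (phiD m F n)
  map_one' := by rw [map_one, Matrix.fromBlocks_one]
  map_mul' a b := by
    rw [map_mul, Matrix.fromBlocks_multiply]
    simp

theorem psiD_apply (n : StD (Fin m ⊕ Fin m) F Sum.swap) :
    psiD m F n = Matrix.fromBlocks 1 0 0 (phiD m F n) := rfl

theorem phiB_jD_sy (k l : Fin m ⊕ Fin m) (t : F) :
    phiB h2 (jD (sy k l t)) = psiD m F (sy k l t) := by
  rw [jD_sy, psiD_apply, phiB_apply, thetaB0_sX]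
  by_cases h : k ≠ l ∧ l ≠ Sum.swap k
  · apply Cfsg.Agent.H9SLRoot.ext_mulVec
    intro x
    rw [yB_mulVec h2 h.1 h.2, Matrix.fromBlocks_mulVec]
    have hD : phiD m F (sy k l t) *ᵥ (x ∘ Sum.inr) = _ := phiD_rep k l t h.1 h.2 (x ∘ Sum.inr)
    rw [hD]
    ext a
    rcases a with ⟨⟩ | a
    · simp
    · simp [ev, Pi.single_apply]
  · have h1 : (sy k l t : StD (Fin m ⊕ Fin m) F Sum.swap) = 1 := by
      by_cases hkl : k = l
      · rw [hkl]; exact sy_self l t
      · have : l = Sum.swap k := by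
          by_contra h'
          exact h ⟨hkl, h'⟩
        rw [this]; exact sy_opp k t
    rw [(hOdd h2 m).yhat_not_root h, h1, map_one, Matrix.fromBlocks_one]
    rfl

theorem phiB_jD (n : StD (Fin m ⊕ Fin m) F Sum.swap) : phiB h2 (jD n) = psiD m F n := by
  have hn : n ∈ Subgroup.closure {g | ∃ k l t, g = (sD m F).y k l t} := by
    rw [show Subgroup.closure {g | ∃ k l t, g = (sD m F).y k l t} = ⊤ from sD_gen]
    trivial
  induction hn using Subgroup.closure_induction with
  | mem y hy =>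
    obtain ⟨k, l, t, rfl⟩ := hy
    exact phiB_jD_sy h2 k l t
  | one => rw [map_one, map_one, map_one]
  | mul a b _ _ ha hb => rw [map_mul, map_mul, map_mul, ha, hb]
  | inv a _ ha =>
    have e1 : phiB h2 (jD a⁻¹) * phiB h2 (jD a) = 1 := by
      rw [← map_mul, ← map_mul, inv_mul_cancel, map_one, map_one]
    have e2 : phiB h2 (jD a) * psiD m F a⁻¹ = 1 := by
      rw [ha, ← map_mul, mul_inv_cancel, map_one]
    exact left_inv_eq_right_inv e1 e2

theorem longSub_eq_range :
    (sB m F).longSub = (jD : StD (Fin m ⊕ Fin m) F Sum.swap →* _).range := by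
  apply le_antisymm
  · unfold BData.longSub
    rw [Subgroup.closure_le]
    rintro g ⟨k, l, t, rfl⟩
    exact ⟨sy k l t, rfl⟩
  · rintro _ ⟨n, rfl⟩
    have hn : n ∈ Subgroup.closure {g | ∃ k l t, g = (sD m F).y k l t} := by
      rw [show Subgroup.closure {g | ∃ k l t, g = (sD m F).y k l t} = ⊤ from sD_gen]
      trivial
    induction hn using Subgroup.closure_induction with
    | mem y hy =>
      obtain ⟨k, l, t, rfl⟩ := hy
      exact (sB m F).y_mem_longSub k l t
    | one => rw [map_one]; exact one_mem _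
    | mul a b _ _ ha hb => rw [map_mul]; exact mul_mem ha hb
    | inv a _ ha => rw [map_inv]; exact inv_mem ha

variable (hm : 3 ≤ m) (o p : Fin m) (hop : o ≠ p)

/-- the non-trivial element of the kernel -/
noncomputable def zB : StB (Fin m ⊕ Fin m) F Sum.swap := jD (zD (F := F) hm o p hop)

theorem phiB_zB : phiB h2 (zB (F := F) hm o p hop) = 1 := by
  unfold zB
  rw [phiB_jD, psiD_apply, phiD_zD, Matrix.fromBlocks_one]

theorem phiB_ker (g : StB (Fin m ⊕ Fin m) F Sum.swap) (hg : phiB h2 g = 1) :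
    g = 1 ∨ g = zB (F := F) hm o p hop := by
  obtain ⟨h1, -⟩ := phiB_ker_mem h2 hm g hg
  rw [longSub_eq_range] at h1
  obtain ⟨n, rfl⟩ := h1
  rw [phiB_jD, psiD_apply, ← Matrix.fromBlocks_one, Matrix.fromBlocks_inj] at hg
  rcases phiD_ker hm o p hop n hg.2.2.2 with h | h
  · left; rw [h, map_one]
  · right; rw [h]; rfl

theorem thetaB_ker_eq (g : StB (Fin m ⊕ Fin m) F Sum.swap) :
    g ∈ (thetaB (F := F) h2 hm).ker ↔ g = 1 ∨ g = zB (F := F) hm o p hop := by
  rw [mem_thetaB_ker]
  constructor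
  · exact phiB_ker h2 hm o p hop g
  · rintro (h | h)
    · rw [h, map_one]
    · rw [h]; exact phiB_zB h2 hm o p hop

end kernel

end Cfsg.Agent.Lib.Helper3.BS
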