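import Cfsg.Agent.Lib.Helper3.BS3

/-!
# Folding: Steinberg data of type `B_m` inside Steinberg data of type `D_{m+1}`
-/

set_option linter.unusedSectionVars false
set_option linter.unusedVariables false
set_option linter.unusedSimpArgs false

namespace Cfsg.Agent.Lib.Helper3.BS

open Cfsg.Agent.Lib.Helper3.DN Cfsg.Agent.Lib.Helper3.DS Cfsg.Agent.Lib.Helper3.BN

section fold
variable {J J' K G : Type*} [Field K] [Group G] {ν : J → J} {ν' : J' → J'}
  (D' : DData J' K G ν') (emb : J → J') (hinj : Function.Injective emb)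
  (he : ∀ k, emb (ν k) = ν' (emb k))

/-- restriction of Steinberg data of type `D` along an injection of index sets -/
def restrictD : DData J K G ν where
  nu_nu := fun k => hinj (by rw [he, he, D'.nu_nu])
  nu_ne := fun k h => D'.nu_ne (emb k) (by rw [← he, h])
  y := fun a b t => D'.y (emb a) (emb b) t
  y_self := fun k t => D'.y_self _ _
  y_opp := fun k t => by rw [he]; exact D'.y_opp _ _
  y_flip := fun k l t => by rw [he, he]; exact D'.y_flip _ _ _
  y_add := fun k l t u => D'.y_add _ _ _ _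
  y_comm := fun k l p m t u h1 h2 h3 h4 =>
    D'.y_comm _ _ _ _ t u (hinj.ne h1) (hinj.ne h2)
      (by rw [← he]; exact hinj.ne h3) (by rw [← he]; exact hinj.ne h4)
  y_comm' := fun k l t u => by rw [he]; exact D'.y_comm' _ _ _ _
  y_rel := fun k l m t u h1 h2 h3 h4 h5 h6 =>
    D'.y_rel _ _ _ t u (hinj.ne h1) (hinj.ne h2) (hinj.ne h3)
      (by rw [← he]; exact hinj.ne h4) (by rw [← he]; exact hinj.ne h5)
      (by rw [← he]; exact hinj.ne h6)

theorem restrictD_y (k l : J) (t : K) :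
    (restrictD D' emb hinj he).y k l t = D'.y (emb k) (emb l) t := rfl

theorem restrictD_hh (k l : J) (u : K) :
    (restrictD D' emb hinj he).hh k l u = D'.hh (emb k) (emb l) u := rfl

variable (o : J') (ho : ∀ k, emb k ≠ o) (ho' : ∀ k, emb k ≠ ν' o)

include hinj he ho ho' in
theorem tri_end {x y : J} (hxy : x ≠ y) (hxy' : x ≠ ν y) : Tri ν' (emb x) (emb y) o :=
  ⟨hinj.ne hxy, ho x, ho y, by rw [← he]; exact hinj.ne hxy', ho' x, ho' y⟩

include D' hinj he ho ho' in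
theorem tri_end' {x y : J} (hxy : x ≠ y) (hxy' : x ≠ ν y) : Tri ν' (emb x) (emb y) (ν' o) :=
  ⟨hinj.ne hxy, ho' x, ho' y, by rw [← he]; exact hinj.ne hxy',
    by rw [D'.nu_nu]; exact ho x, by rw [D'.nu_nu]; exact ho y⟩

include hinj he ho ho' in
theorem tri_mid {x z : J} (hxz : x ≠ z) (hxz' : x ≠ ν z) : Tri ν' (emb x) o (emb z) :=
  ⟨ho x, hinj.ne hxz, (ho z).symm, ho' x, by rw [← he]; exact hinj.ne hxz',
    by rw [← he]; exact (ho _).symm⟩

include D' hinj he ho ho' in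
theorem tri_mid' {x z : J} (hxz : x ≠ z) (hxz' : x ≠ ν z) : Tri ν' (emb x) (ν' o) (emb z) :=
  ⟨ho' x, hinj.ne hxz, (ho' z).symm, by rw [D'.nu_nu]; exact ho x,
    by rw [← he]; exact hinj.ne hxz', by rw [← he]; exact (ho' _).symm⟩

/-- the short root elements of the folded data -/
def foldY (k : J) (t : K) : G := D'.y (emb k) o t * D'.y (emb k) (ν' o) t

include he in
theorem flip_o (k : J) (c : K) : D'.y (emb k) (ν' o) c = D'.y o (emb (ν k)) (-c) := by
  rw [D'.y_flip, D'.nu_nu, he]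

include he in
theorem flip_o' (k : J) (c : K) : D'.y (emb k) o c = D'.y (ν' o) (emb (ν k)) (-c) := by
  rw [D'.y_flip, he]

include hinj ho ho' in
/-- folding Steinberg data of type `D` gives Steinberg data of type `B` -/
def foldB : BData J K G ν where
  D := restrictD D' emb hinj he
  Y := foldY D' emb o
  Y_add := fun k t u => by
    unfold foldY
    rw [D'.y_add, D'.y_add]
    exact (D'.comm1 (emb k) o u t).mul_mul_mul_comm _ _
  XY_comm := fun k l p t u h1 h2 => by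
    show Commute (D'.y (emb k) (emb l) t) (D'.y (emb p) o u * D'.y (emb p) (ν' o) u)
    apply Commute.mul_right
    · exact D'.y_comm _ _ _ _ t u (hinj.ne h1.symm) (ho k)
        (by rw [← he]; exact hinj.ne (fun h => h2 (by rw [h, (restrictD D' emb hinj he).nu_nu])))
        (ho' l)
    · exact D'.y_comm _ _ _ _ t u (hinj.ne h1.symm) (ho' k)
        (by rw [← he]; exact hinj.ne (fun h => h2 (by rw [h, (restrictD D' emb hinj he).nu_nu])))
        (by rw [D'.nu_nu]; exact ho l)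
  XY_rel := fun k l s t h1 h2 => by
    have hνν := (restrictD D' emb hinj he).nu_nu
    have h3 : l ≠ ν k := fun h => h2 (by rw [h, hνν])
    show D'.y (emb k) (emb l) s * (D'.y (emb l) o t * D'.y (emb l) (ν' o) t) *
      (D'.y (emb k) (emb l) s)⁻¹ * (D'.y (emb l) o t * D'.y (emb l) (ν' o) t)⁻¹ =
      D'.y (emb k) o (s * t) * D'.y (emb k) (ν' o) (s * t) * D'.y (emb k) (emb (ν l)) (s * t ^ 2)
    have e1 := D'.cj_rel (tri_end emb hinj he o ho ho' h1 h2) s t
    have e2 := D'.cj_rel (tri_end' D' emb hinj he o ho ho' h1 h2) s t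
    have e3 := D'.cj_rel (tri_mid emb hinj he o ho ho' (x := l) (z := ν k) h3
      (by rw [hνν]; exact Ne.symm h1)) t (-(s * t))
    rw [← flip_o D' emb he o k (s * t), D'.y_flip (emb l) (emb (ν k)), ← he, ← he, hνν,
      show -(t * -(s * t)) = s * t ^ 2 by ring] at e3
    rw [MulAut.conj_apply] at e1 e2 e3
    have e4 : Commute (D'.y (emb k) (emb (ν l)) (s * t ^ 2)) (D'.y (emb k) (ν' o) (s * t)) :=
      D'.y_comm _ _ _ _ _ _ (hinj.ne (fun h => h2 h.symm)) (ho' k)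
        (D'.ne_nu _) (by rw [D'.nu_nu]; exact ho _)
    set A := D'.y (emb k) (emb l) s
    set P := D'.y (emb l) o t
    set Q := D'.y (emb l) (ν' o) t
    set R := D'.y (emb k) o (s * t)
    set S := D'.y (emb k) (ν' o) (s * t)
    set Z := D'.y (emb k) (emb (ν l)) (s * t ^ 2)
    calc A * (P * Q) * A⁻¹ * (P * Q)⁻¹
        = (A * P * A⁻¹) * (A * Q * A⁻¹) * Q⁻¹ * P⁻¹ := by group
      _ = R * P * (S * Q) * Q⁻¹ * P⁻¹ := by rw [e1, e2]
      _ = R * (P * S * P⁻¹) := by group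
      _ = R * (Z * S) := by rw [e3]
      _ = R * S * Z := by rw [e4.eq, mul_assoc]
  YY_rel := fun k l s t h1 h2 => by
    have hνν := (restrictD D' emb hinj he).nu_nu
    have h3 : k ≠ ν l := fun h => h2 (by rw [h, hνν])
    have h4 : k ≠ ν (ν l) := by rw [hνν]; exact Ne.symm h1
    show D'.y (emb k) o s * D'.y (emb k) (ν' o) s * (D'.y (emb l) o t * D'.y (emb l) (ν' o) t) *
      (D'.y (emb k) o s * D'.y (emb k) (ν' o) s)⁻¹ *
      (D'.y (emb l) o t * D'.y (emb l) (ν' o) t)⁻¹ = D'.y (emb k) (emb (ν l)) (-(2 * s * t))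
    have e1 := D'.cj_rel (tri_mid' D' emb hinj he o ho ho' h3 h4) s (-t)
    rw [← flip_o' D' emb he o l t] at e1
    have e4 := D'.cj_rel (tri_mid emb hinj he o ho ho' h3 h4) s (-t)
    rw [← flip_o D' emb he o l t] at e4
    rw [MulAut.conj_apply] at e1 e4
    have e2 : Commute (D'.y (emb k) (ν' o) s) (D'.y (emb l) (ν' o) t) :=
      D'.y_comm _ _ _ _ _ _ (ho' l).symm (ho' k)
        (by rw [← he]; exact hinj.ne h3) (D'.ne_nu _)
    have e3 : Commute (D'.y (emb k) o s) (D'.y (emb l) o t) :=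
      D'.y_comm _ _ _ _ _ _ (ho l).symm (ho k)
        (by rw [← he]; exact hinj.ne h3) (D'.ne_nu _)
    have c1 : Commute (D'.y (emb k) o s) (D'.y (emb k) (emb (ν l)) (s * -t)) :=
      D'.y_comm _ _ _ _ _ _ (ho k).symm (hinj.ne h3) (D'.ne_nu _)
        (by rw [← he, hνν]; exact (ho l).symm)
    have c2 : Commute (D'.y (emb l) o t) (D'.y (emb k) (emb (ν l)) (s * -t)) :=
      D'.y_comm _ _ _ _ _ _ (ho k).symm (hinj.ne ((restrictD D' emb hinj he).ne_nu l))
        (by rw [← he]; exact hinj.ne h2) (by rw [← he, hνν]; exact (ho l).symm)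
    set P₁ := D'.y (emb k) o s
    set P₂ := D'.y (emb k) (ν' o) s
    set Q₁ := D'.y (emb l) o t
    set Q₂ := D'.y (emb l) (ν' o) t
    set W := D'.y (emb k) (emb (ν l)) (s * -t) with hW
    have e2' : P₂ * Q₂ * P₂⁻¹ = Q₂ := by rw [e2.eq]; group
    have e3' : P₁ * Q₁ * P₁⁻¹ = Q₁ := by rw [e3.eq]; group
    have c1' : P₁ * W * P₁⁻¹ = W := by rw [c1.eq]; group
    have c2' : Q₁ * W * Q₁⁻¹ = W := by rw [c2.eq]; group
    calc P₁ * P₂ * (Q₁ * Q₂) * (P₁ * P₂)⁻¹ * (Q₁ * Q₂)⁻¹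
        = P₁ * ((P₂ * Q₁ * P₂⁻¹) * (P₂ * Q₂ * P₂⁻¹)) * P₁⁻¹ * Q₂⁻¹ * Q₁⁻¹ := by group
      _ = P₁ * (W * Q₁ * Q₂) * P₁⁻¹ * Q₂⁻¹ * Q₁⁻¹ := by rw [e1, e2']
      _ = (P₁ * W * P₁⁻¹) * (P₁ * Q₁ * P₁⁻¹) * (P₁ * Q₂ * P₁⁻¹) * Q₂⁻¹ * Q₁⁻¹ := by group
      _ = W * Q₁ * (W * Q₂) * Q₂⁻¹ * Q₁⁻¹ := by rw [c1', e3', e4]
      _ = W * (Q₁ * W * Q₁⁻¹) := by group
      _ = W * W := by rw [c2']
      _ = D'.y (emb k) (emb (ν l)) (-(2 * s * t)) := by
        rw [hW, ← D'.y_add]
        congr 1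
        ring

theorem foldB_y (k l : J) (t : K) :
    (foldB D' emb hinj he o ho ho').D.y k l t = D'.y (emb k) (emb l) t := rfl

end fold

end Cfsg.Agent.Lib.Helper3.BS
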