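import Cfsg.Agent.Lib.Helper3.BS4

/-!
# The non-trivial kernel element of the covering of `PΩ_{2m+1}`
-/

set_option linter.unusedSectionVars false
set_option linter.unusedVariables false
set_option linter.unusedSimpArgs false

namespace Cfsg.Agent.Lib.Helper3.BS

open Cfsg.Agent.Lib.Helper3.DN Cfsg.Agent.Lib.Helper3.DS Cfsg.Agent.Lib.Helper3.BN

universe u

section spin
variable {F : Type u} [Field F] [Fintype F] {m : ℕ}

/-- the embedding of the index sets -/
def embF (m : ℕ) : Fin m ⊕ Fin m → Fin (m + 1) ⊕ Fin (m + 1) :=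
  Sum.map Fin.castSucc Fin.castSucc

theorem embF_inj : Function.Injective (embF m) := by
  rintro (a | a) (b | b) h <;> simp [embF] at h ⊢ <;> exact h

theorem embF_swap (k : Fin m ⊕ Fin m) : embF m (Sum.swap k) = Sum.swap (embF m k) := by
  rcases k with a | a <;> rfl

theorem embF_ne_o (k : Fin m ⊕ Fin m) : embF m k ≠ Sum.inl (Fin.last m) := by
  rcases k with a | a
  · intro h
    have := Sum.inl.inj h
    exact (Fin.castSucc_lt_last a).ne this
  · simp [embF]

theorem embF_ne_o' (k : Fin m ⊕ Fin m) : embF m k ≠ Sum.swap (Sum.inl (Fin.last m)) := by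
  rcases k with a | a
  · simp [embF]
  · intro h
    have := Sum.inr.inj h
    exact (Fin.castSucc_lt_last a).ne this

/-- the folded Steinberg data inside the Steinberg group of type `D_{m+1}` -/
noncomputable def foldS (m : ℕ) (F : Type u) [Field F] :
    BData (Fin m ⊕ Fin m) F (StD (Fin (m + 1) ⊕ Fin (m + 1)) F Sum.swap) Sum.swap :=
  foldB (sD (m + 1) F) (embF m) embF_inj embF_swap (Sum.inl (Fin.last m)) embF_ne_o embF_ne_o'

/-- the folding homomorphism -/
noncomputable def foldHom (m : ℕ) (F : Type u) [Field F] :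
    StB (Fin m ⊕ Fin m) F Sum.swap →* StD (Fin (m + 1) ⊕ Fin (m + 1)) F Sum.swap :=
  liftB (foldS m F)

theorem foldHom_jD (k l : Fin m ⊕ Fin m) (t : F) :
    (foldHom m F).comp jD ((sD m F).y k l t) = (sD (m + 1) F).y (embF m k) (embF m l) t := by
  show foldHom m F (jD (sy k l t)) = _
  rw [jD_sy, foldHom, liftB_sX]
  rfl

theorem zB_ne_one (h2 : (2 : F) ≠ 0) (hm : 3 ≤ m) (o p : Fin m) (hop : o ≠ p) :
    zB (F := F) hm o p hop ≠ 1 := by
  intro h
  have h1 := congrArg (foldHom m F) h
  rw [map_one] at h1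
  unfold zB at h1
  rw [zD_eq] at h1
  have hf : ∀ k l t, (foldHom m F).comp jD ((sD m F).y k l t) =
      (restrictD (sD (m + 1) F) (embF m) embF_inj embF_swap).y k l t := foldHom_jD
  have h3 := map_hh (sD m F) (restrictD (sD (m + 1) F) (embF m) embF_inj embF_swap)
    ((foldHom m F).comp jD) hf
  have h4 : foldHom m F (jD ((sD m F).hh (Sum.inl p) (Sum.inr o) (-1) *
      ((sD m F).hh (Sum.inl p) (Sum.inl o) (-1))⁻¹)) =
      (sD (m + 1) F).hh (Sum.inl p.castSucc) (Sum.inr o.castSucc) (-1) *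
        ((sD (m + 1) F).hh (Sum.inl p.castSucc) (Sum.inl o.castSucc) (-1))⁻¹ := by
    rw [map_mul, map_mul, map_inv, map_inv]
    have a1 := h3 (Sum.inl p) (Sum.inr o) (-1)
    have a2 := h3 (Sum.inl p) (Sum.inl o) (-1)
    rw [MonoidHom.comp_apply] at a1 a2
    rw [a1, a2]
    rfl
  rw [h4] at h1
  exact spin_ne_one h2 (fun e => hop (Fin.castSucc_injective m e).symm) h1

end spin

end Cfsg.Agent.Lib.Helper3.BS
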