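import Cfsg.Agent.Lib.Helper3.BS5
import Cfsg.Agent.Lib.Helper3.BL6
import Cfsg.Agent.Lib.Helper3.StS5

/-!
# The Schur multiplier of `PΩ_{2m+1}(q)`, `q` odd
-/

set_option linter.unusedSectionVars false
set_option linter.unusedVariables false
set_option linter.unusedSimpArgs false

namespace Cfsg.Agent.Lib.Helper3.BS

open Matrix Cfsg.Agent.Lib.Helper3.DN Cfsg.Agent.Lib.Helper3.DS Cfsg.Agent.Lib.Helper3.BN
  Cfsg.Agent.Lib.Helper3.BL Cfsg.Agent.Lib.Helper3.StU Cfsg.Agent.Lib.Helper5.QuadOdd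

universe u

section final
variable {F : Type u} [Field F] [Fintype F] {m : ℕ}

theorem fresh_sum4 (hm : 4 ≤ m) (a b p : Fin m ⊕ Fin m) :
    ∃ c, c ≠ a ∧ c ≠ b ∧ c ≠ Sum.swap a ∧ c ≠ Sum.swap b ∧ c ≠ p ∧ c ≠ Sum.swap p := by
  obtain ⟨i, hi⟩ := exists_notMem_fin ({idx a, idx b, idx p} : Finset (Fin m))
    (lt_of_le_of_lt (Finset.card_le_three) (by omega))
  simp only [Finset.mem_insert, Finset.mem_singleton, not_or] at hi
  obtain ⟨h1, h2⟩ := inl_ne_of_idx hi.1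
  obtain ⟨h3, h4⟩ := inl_ne_of_idx hi.2.1
  obtain ⟨h5, h6⟩ := inl_ne_of_idx hi.2.2
  exact ⟨Sum.inl i, h1, h3, h2, h4, h5, h6⟩

theorem exists_torus_scalar (hcard : 4 ≤ Fintype.card F) : ∃ μ : F, μ ≠ 0 ∧ μ ^ 2 ≠ 1 := by
  classical
  have h' : ({0, 1, -1} : Finset F).card < (Finset.univ : Finset F).card := by
    rw [Finset.card_univ]
    exact lt_of_le_of_lt Finset.card_le_three (by omega)
  obtain ⟨μ, -, hμ⟩ := Finset.exists_mem_notMem_of_card_lt_card h'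
  simp only [Finset.mem_insert, Finset.mem_singleton, not_or] at hμ
  refine ⟨μ, hμ.1, fun h => ?_⟩
  have h3 : (μ - 1) * (μ + 1) = 0 := by
    have : (μ - 1) * (μ + 1) = μ ^ 2 - 1 := by ring
    rw [this, h, sub_self]
  rcases mul_eq_zero.1 h3 with h4 | h4
  · exact hμ.2.1 (sub_eq_zero.1 h4)
  · exact hμ.2.2 (eq_neg_of_add_eq_zero_left h4)

/-- every central extension of the Steinberg group of type `B_m` splits -/
theorem stB_split_fin (h2 : (2 : F) ≠ 0) (hm : 3 ≤ m)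
    (hexc : 4 ≤ m ∨ 4 ≤ Fintype.card F) {E : Type*} [Group E]
    (ψ : E →* StB (Fin m ⊕ Fin m) F Sum.swap) (hs : Function.Surjective ψ)
    (hc : ψ.ker ≤ Subgroup.center E) :
    ∃ s : StB (Fin m ⊕ Fin m) F Sum.swap →* E, ψ.comp s = MonoidHom.id _ := by
  apply stB_split_of_hLS Sum.swap_swap swap_ne h2 (hc_sum hm) ψ hs hc
  rcases hexc with h4 | h4
  · exact hLS_of_fresh ψ hs hc h2 (fresh_sum4 h4)
  · obtain ⟨μ, hμ, hμ2⟩ := exists_torus_scalar (F := F) h4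
    exact hLS_of_torus ψ hs hc (hc_sum hm) μ hμ hμ2

theorem thetaB_ker_card (h2 : (2 : F) ≠ 0) (hm : 3 ≤ m) :
    IsCyclic ↥(thetaB (F := F) h2 hm).ker ∧ Nat.card ↥(thetaB (F := F) h2 hm).ker = 2 := by
  obtain ⟨o, p, hop⟩ : ∃ o p : Fin m, o ≠ p :=
    ⟨⟨0, by omega⟩, ⟨1, by omega⟩, by simp [Fin.ext_iff]⟩
  have hz : zB (F := F) hm o p hop ∈ (thetaB (F := F) h2 hm).ker :=
    (thetaB_ker_eq h2 hm o p hop _).2 (Or.inr rfl)
  have hne := zB_ne_one (F := F) h2 hm o p hop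
  let z : ↥(thetaB (F := F) h2 hm).ker := ⟨zB (F := F) hm o p hop, hz⟩
  have hz1 : z ≠ 1 := fun h => hne (congrArg Subtype.val h)
  have hall : ∀ x : ↥(thetaB (F := F) h2 hm).ker, x = 1 ∨ x = z := by
    rintro ⟨x, hx⟩
    rcases (thetaB_ker_eq h2 hm o p hop x).1 hx with h | h
    · left; exact Subtype.ext h
    · right; exact Subtype.ext h
  constructor
  · refine ⟨⟨z, fun x => ?_⟩⟩
    rcases hall x with h | h
    · rw [h]; exact (Subgroup.zpowers z).one_mem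
    · rw [h]; exact Subgroup.mem_zpowers z
  · rw [Nat.card_eq_two_iff]
    refine ⟨1, z, Ne.symm hz1, ?_⟩
    ext x
    simp only [Set.mem_insert_iff, Set.mem_singleton_iff, Set.mem_univ, iff_true]
    exact hall x

/-- the Schur multiplier of `PΩ_{2m+1}(q)`, `q` odd -/
theorem multiplier_B (h2 : (2 : F) ≠ 0) (hm : 3 ≤ m) (hexc : 4 ≤ m ∨ 4 ≤ Fintype.card F) :
    Cfsg.HasCyclicSchurMultiplier
      (↥(Cfsg.Omega F ⇑(QO m F)) ⧸ Subgroup.center ↥(Cfsg.Omega F ⇑(QO m F))) 2 := by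
  obtain ⟨hcyc, hcard⟩ := thetaB_ker_card (F := F) h2 hm
  have : Finite ↥(thetaB (F := F) h2 hm).ker := by
    apply Nat.finite_of_card_ne_zero
    rw [hcard]; norm_num
  have : Finite (StB (Fin m ⊕ Fin m) F Sum.swap) := StS.finite_of_ker_finite (thetaB h2 hm)
  refine StS.hasCyclicSchurMultiplier_of_cover (thetaB h2 hm) (thetaB_surj h2 hm)
    (thetaB_ker_le h2 hm) (sB_perfect hm) _ hcyc hcard ?_
  intro Γ _ _ σ hσ
  obtain ⟨τ, hτ, -⟩ := existsUnique_lift (sB_perfect (F := F) hm)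
    (fun E' _ ψ' hs hc => stB_split_fin h2 hm hexc ψ' hs hc)
    σ hσ.1 hσ.2.1 (thetaB h2 hm)
  exact ⟨τ, hτ⟩

end final

end Cfsg.Agent.Lib.Helper3.BS
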