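import Mathlib
set_option autoImplicit false
set_option linter.unusedSectionVars false

/-! Real-valued levels of the entries of matrices, graded matrices and admissible level vectors: the tools for the
theorem of Borel and Tits. -/

namespace Cfsg.Agent.Lib.Helper3.BT

open Matrix
open scoped RealInnerProductSpace

section rshift
variable {ι : Type*} [Fintype ι] [DecidableEq ι] {R : Type*} [CommRing R]

/-- `A i j = 0` unless `pos j + t ≤ pos i`: the matrix raises the real-valued levels `pos` by at least `t`. -/
def RShift (pos : ι → ℝ) (t : ℝ) (A : Matrix ι ι R) : Prop := ∀ i j, pos i < pos j + t → A i j = 0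

/-- `A i j = 0` unless `pos j < pos i`: the matrix raises the levels strictly. -/
def SShift (pos : ι → ℝ) (A : Matrix ι ι R) : Prop := ∀ i j, pos i ≤ pos j → A i j = 0

variable {pos : ι → ℝ}

theorem RShift.mono {t t' : ℝ} {A : Matrix ι ι R} (h : RShift pos t' A) (ht : t ≤ t') : RShift pos t A :=
  fun i j hij => h i j (by linarith)

theorem RShift.add {t : ℝ} {A B : Matrix ι ι R} (hA : RShift pos t A) (hB : RShift pos t B) : RShift pos t (A + B) :=
  fun i j hij => by rw [Matrix.add_apply, hA i j hij, hB i j hij, add_zero]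

theorem RShift.neg {t : ℝ} {A : Matrix ι ι R} (hA : RShift pos t A) : RShift pos t (-A) :=
  fun i j hij => by rw [Matrix.neg_apply, hA i j hij, neg_zero]

theorem RShift.sub {t : ℝ} {A B : Matrix ι ι R} (hA : RShift pos t A) (hB : RShift pos t B) : RShift pos t (A - B) :=
  fun i j hij => by rw [Matrix.sub_apply, hA i j hij, hB i j hij, sub_zero]

theorem RShift.mul {a b : ℝ} {A B : Matrix ι ι R} (hA : RShift pos a A) (hB : RShift pos b B) :
    RShift pos (a + b) (A * B) := by
  intro i j hij
  rw [Matrix.mul_apply]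
  apply Finset.sum_eq_zero
  intro m _
  by_cases h : pos i < pos m + a
  · rw [hA i m h, zero_mul]
  · rw [hB m j (by linarith), mul_zero]

theorem rshift_zero_one : RShift pos 0 (1 : Matrix ι ι R) := by
  intro i j hij
  rw [Matrix.one_apply_ne]
  rintro rfl
  linarith

theorem rshift_zero_diagonal (d : ι → R) : RShift pos 0 (Matrix.diagonal d) := by
  intro i j hij
  rw [Matrix.diagonal_apply_ne]
  rintro rfl
  linarith

theorem rshift_zero_iff (A : Matrix ι ι R) :
    RShift pos 0 A ↔ A.BlockTriangular (OrderDual.toDual ∘ pos) := by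
  constructor
  · intro h i j hij
    exact h i j (by simpa using hij)
  · intro h i j hij
    exact h (by simpa using hij)

theorem RShift.inv {g : GL ι R} (hg : RShift pos 0 (g : Matrix ι ι R)) :
    RShift pos 0 ((g⁻¹ : GL ι R) : Matrix ι ι R) := by
  rw [rshift_zero_iff] at hg ⊢
  rw [Matrix.coe_units_inv]
  have : Invertible (g : Matrix ι ι R) := Units.invertible g
  exact Matrix.blockTriangular_inv_of_blockTriangular hg

theorem RShift.sshift {t : ℝ} (ht : 0 < t) {A : Matrix ι ι R} (hA : RShift pos t A) : SShift pos A :=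
  fun i j hij => hA i j (by linarith)

theorem SShift.rshift {A : Matrix ι ι R} (hA : SShift pos A) : RShift pos 0 A :=
  fun i j hij => hA i j (by linarith)

theorem SShift.add {A B : Matrix ι ι R} (hA : SShift pos A) (hB : SShift pos B) : SShift pos (A + B) :=
  fun i j hij => by rw [Matrix.add_apply, hA i j hij, hB i j hij, add_zero]

theorem SShift.neg {A : Matrix ι ι R} (hA : SShift pos A) : SShift pos (-A) :=
  fun i j hij => by rw [Matrix.neg_apply, hA i j hij, neg_zero]

theorem RShift.mul_sshift {A B : Matrix ι ι R} (hA : RShift pos 0 A) (hB : SShift pos B) : SShift pos (A * B) := by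
  intro i j hij
  rw [Matrix.mul_apply]
  apply Finset.sum_eq_zero
  intro m _
  by_cases h : pos i < pos m + 0
  · rw [hA i m h, zero_mul]
  · rw [hB m j (by linarith), mul_zero]

theorem SShift.mul {A B : Matrix ι ι R} (hA : SShift pos A) (hB : SShift pos B) : SShift pos (A * B) :=
  hA.rshift.mul_sshift hB

/-- The invertible matrices `g` with `g - 1` raising the levels by at least `t`. -/
def rutSubgroup (pos : ι → ℝ) (R : Type*) [CommRing R] (t : ℝ) (ht : 0 ≤ t) : Subgroup (GL ι R) where
  carrier := {g | RShift pos t ((g : Matrix ι ι R) - 1)}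
  mul_mem' := by
    intro a b ha hb
    simp only [Set.mem_ofPred_eq, Units.val_mul] at *
    have : (a : Matrix ι ι R) * b - 1 = ((a : Matrix ι ι R) - 1) * ((b : Matrix ι ι R) - 1) +
        ((a : Matrix ι ι R) - 1) + ((b : Matrix ι ι R) - 1) := by noncomm_ring
    rw [this]
    exact (((ha.mul hb).mono (by linarith)).add ha).add hb
  one_mem' := by
    simp only [Set.mem_ofPred_eq, Units.val_one, sub_self]
    intro i j _; rfl
  inv_mem' := by
    intro a ha
    simp only [Set.mem_ofPred_eq] at *
    have h0 : RShift pos 0 (a : Matrix ι ι R) := by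
      have := (ha.mono ht).add (rshift_zero_one (pos := pos) (R := R))
      simpa using this
    have h1 := RShift.inv h0
    have e : ((a⁻¹ : GL ι R) : Matrix ι ι R) - 1 = -(((a⁻¹ : GL ι R) : Matrix ι ι R) * ((a : Matrix ι ι R) - 1)) := by
      rw [mul_sub, mul_one, ← Units.val_mul, inv_mul_cancel, Units.val_one]
      abel
    rw [e]
    have := (h1.mul ha).neg
    rwa [zero_add] at this

theorem mem_rutSubgroup {t : ℝ} {ht : 0 ≤ t} (g : GL ι R) :
    g ∈ rutSubgroup pos R t ht ↔ RShift pos t ((g : Matrix ι ι R) - 1) := Iff.rfl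

/-- The invertible matrices `g` with `g - 1` raising the levels strictly. -/
def sutSubgroup (pos : ι → ℝ) (R : Type*) [CommRing R] : Subgroup (GL ι R) where
  carrier := {g | SShift pos ((g : Matrix ι ι R) - 1)}
  mul_mem' := by
    intro a b ha hb
    simp only [Set.mem_ofPred_eq, Units.val_mul] at *
    have : (a : Matrix ι ι R) * b - 1 = ((a : Matrix ι ι R) - 1) * ((b : Matrix ι ι R) - 1) +
        ((a : Matrix ι ι R) - 1) + ((b : Matrix ι ι R) - 1) := by noncomm_ring
    rw [this]
    exact ((ha.mul hb).add ha).add hb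
  one_mem' := by
    simp only [Set.mem_ofPred_eq, Units.val_one, sub_self]
    intro i j _; rfl
  inv_mem' := by
    intro a ha
    simp only [Set.mem_ofPred_eq] at *
    have h0 : RShift pos 0 (a : Matrix ι ι R) := by
      have := ha.rshift.add (rshift_zero_one (pos := pos) (R := R))
      simpa using this
    have h1 := RShift.inv h0
    have e : ((a⁻¹ : GL ι R) : Matrix ι ι R) - 1 = -(((a⁻¹ : GL ι R) : Matrix ι ι R) * ((a : Matrix ι ι R) - 1)) := by
      rw [mul_sub, mul_one, ← Units.val_mul, inv_mul_cancel, Units.val_one]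
      abel
    rw [e]
    exact (h1.mul_sshift ha).neg

theorem mem_sutSubgroup (g : GL ι R) :
    g ∈ sutSubgroup pos R ↔ SShift pos ((g : Matrix ι ι R) - 1) := Iff.rfl

/-- The invertible matrices preserving the levels. -/
def gr0Subgroup (pos : ι → ℝ) (R : Type*) [CommRing R] : Subgroup (GL ι R) where
  carrier := {g | RShift pos 0 (g : Matrix ι ι R) ∧ RShift (fun i => -pos i) 0 (g : Matrix ι ι R)}
  mul_mem' := by
    intro a b ha hb
    simp only [Set.mem_ofPred_eq, Units.val_mul] at *
    refine ⟨?_, ?_⟩
    · have := ha.1.mul hb.1; rwa [zero_add] at this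
    · have := ha.2.mul hb.2; rwa [zero_add] at this
  one_mem' := by
    simp only [Set.mem_ofPred_eq, Units.val_one]
    exact ⟨rshift_zero_one, rshift_zero_one⟩
  inv_mem' := by
    intro a ha
    simp only [Set.mem_ofPred_eq] at *
    exact ⟨RShift.inv ha.1, RShift.inv ha.2⟩

theorem mem_gr0Subgroup_iff (g : GL ι R) :
    g ∈ gr0Subgroup pos R ↔ ∀ i j, pos i ≠ pos j → (g : Matrix ι ι R) i j = 0 := by
  constructor
  · rintro ⟨h1, h2⟩ i j hij
    rcases lt_or_gt_of_ne hij with h | h
    · exact h1 i j (by linarith)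
    · exact h2 i j (by linarith)
  · intro h
    refine ⟨fun i j hij => h i j (by intro e; linarith), fun i j hij => h i j (by intro e; linarith)⟩

/-- A matrix that preserves the levels and is unipotent with respect to them is the identity. -/
theorem eq_one_of_gr0_of_sut (g : GL ι R) (h1 : g ∈ gr0Subgroup pos R) (h2 : g ∈ sutSubgroup pos R) : g = 1 := by
  rw [mem_gr0Subgroup_iff] at h1
  rw [mem_sutSubgroup] at h2
  apply Units.ext
  ext i j
  rw [Units.val_one]
  by_cases hij : pos i = pos j
  · have := h2 i j (le_of_eq hij)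
    rw [Matrix.sub_apply, sub_eq_zero] at this
    exact this
  · rw [h1 i j hij, Matrix.one_apply, if_neg]
    rintro rfl
    exact hij rfl

end rshift

section graded
variable {ι : Type*} [Fintype ι] [DecidableEq ι] {R : Type*} [CommRing R]
  {E : Type*} [NormedAddCommGroup E] [InnerProductSpace ℝ E]

/-- The level of a coordinate of weight `wt i` with respect to the vector `y`. -/
def posE (wt : ι → E) (y : E) (i : ι) : ℝ := ⟪wt i, y⟫

/-- The matrix `n` maps the coordinates of weight `v` to coordinates of weight `w v`. -/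
def Graded (wt : ι → E) (w : E → E) (n : Matrix ι ι R) : Prop := ∀ i j, n i j ≠ 0 → wt i = w (wt j)

variable {wt : ι → E}

theorem Graded.mul {w w' : E → E} {n n' : Matrix ι ι R} (h : Graded wt w n) (h' : Graded wt w' n') :
    Graded wt (w ∘ w') (n * n') := by
  intro i j hij
  rw [Matrix.mul_apply] at hij
  obtain ⟨m, -, hm⟩ := Finset.exists_ne_zero_of_sum_ne_zero hij
  have h1 : n i m ≠ 0 := left_ne_zero_of_mul hm
  have h2 : n' m j ≠ 0 := right_ne_zero_of_mul hm
  rw [h i m h1, h' m j h2]
  rfl

theorem graded_diagonal (d : ι → R) : Graded wt id (Matrix.diagonal d) := by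
  intro i j hij
  by_cases e : i = j
  · subst e; rfl
  · exact absurd (Matrix.diagonal_apply_ne d e) hij

theorem graded_one : Graded wt id (1 : Matrix ι ι R) := by
  rw [← Matrix.diagonal_one]
  exact graded_diagonal _

/-- Conjugation by a graded matrix transports the levels. -/
theorem RShift.conj_graded (w : E ≃ₗᵢ[ℝ] E) {n n' A : Matrix ι ι R} (hn : Graded wt w n)
    (hn' : Graded wt w.symm n') {y : E} {t : ℝ} (hA : RShift (posE wt y) t A) :
    RShift (posE wt (w y)) t (n * A * n') := by
  intro i j hij
  by_contra hne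
  rw [Matrix.mul_apply] at hne
  obtain ⟨l, -, hl⟩ := Finset.exists_ne_zero_of_sum_ne_zero hne
  have h1 : (n * A) i l ≠ 0 := left_ne_zero_of_mul hl
  have h2 : n' l j ≠ 0 := right_ne_zero_of_mul hl
  rw [Matrix.mul_apply] at h1
  obtain ⟨k, -, hk⟩ := Finset.exists_ne_zero_of_sum_ne_zero h1
  have h3 : n i k ≠ 0 := left_ne_zero_of_mul hk
  have h4 : A k l ≠ 0 := right_ne_zero_of_mul hk
  have e1 : wt i = w (wt k) := hn i k h3
  have e2 : wt l = w.symm (wt j) := hn' l j h2
  have e3 : wt j = w (wt l) := by rw [e2, LinearIsometryEquiv.apply_symm_apply]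
  apply h4
  apply hA k l
  unfold posE at hij ⊢
  rw [e1, e3, LinearIsometryEquiv.inner_map_map, LinearIsometryEquiv.inner_map_map] at hij
  exact hij

/-- The level vectors for which all the elements of `S` raise the levels by at least one. -/
def adm (wt : ι → E) (S : Set (GL ι R)) : Set E :=
  {y | ∀ g ∈ S, RShift (posE wt y) 1 ((g : Matrix ι ι R) - 1)}

theorem adm_convex (S : Set (GL ι R)) : Convex ℝ (adm wt S) := by
  intro y hy z hz a b ha hb hab g hg i j hij
  by_contra hne
  have h1 : ¬ posE wt y i < posE wt y j + 1 := fun h => hne (hy g hg i j h)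
  have h2 : ¬ posE wt z i < posE wt z j + 1 := fun h => hne (hz g hg i j h)
  push Not at h1 h2
  have e : ∀ k, posE wt (a • y + b • z) k = a * posE wt y k + b * posE wt z k := by
    intro k
    unfold posE
    rw [inner_add_right, inner_smul_right, inner_smul_right]
  rw [e, e] at hij
  have h3 := mul_le_mul_of_nonneg_left h1 ha
  have h4 := mul_le_mul_of_nonneg_left h2 hb
  have h5 : a * (posE wt y j + 1) + b * (posE wt z j + 1) = a * posE wt y j + b * posE wt z j + 1 := by
    have : a * (posE wt y j + 1) + b * (posE wt z j + 1) = a * posE wt y j + b * posE wt z j + (a + b) := by ring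
    rw [this, hab]
  linarith

theorem adm_isClosed (S : Set (GL ι R)) : IsClosed (adm wt S) := by
  have e : adm wt S = ⋂ g ∈ S, ⋂ i, ⋂ j,
      {y : E | ((g : Matrix ι ι R) - 1) i j ≠ 0 → posE wt y j + 1 ≤ posE wt y i} := by
    ext y
    simp only [adm, RShift, Set.mem_ofPred_eq, Set.mem_iInter]
    constructor
    · intro h g hg i j hne
      by_contra hlt
      push Not at hlt
      exact hne (h g hg i j hlt)
    · intro h g hg i j hlt
      by_contra hne
      have := h g hg i j hne
      linarith
  rw [e]
  refine isClosed_biInter fun g _ => isClosed_iInter fun i => isClosed_iInter fun j => ?_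
  by_cases h0 : ((g : Matrix ι ι R) - 1) i j = 0
  · have : {y : E | ((g : Matrix ι ι R) - 1) i j ≠ 0 → posE wt y j + 1 ≤ posE wt y i} = Set.univ := by
      ext y
      constructor
      · intro _; trivial
      · intro _ hne; exact absurd h0 hne
    rw [this]; exact isClosed_univ
  · have : {y : E | ((g : Matrix ι ι R) - 1) i j ≠ 0 → posE wt y j + 1 ≤ posE wt y i} =
        {y : E | posE wt y j + 1 ≤ posE wt y i} := by
      ext y
      constructor
      · intro h; exact h h0
      · intro h _; exact h
    rw [this]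
    unfold posE
    exact isClosed_le ((continuous_const.inner continuous_id).add continuous_const)
      (continuous_const.inner continuous_id)

theorem adm_anti {S T : Set (GL ι R)} (h : S ⊆ T) : adm wt T ⊆ adm wt S :=
  fun _ hy g hg => hy g (h hg)

/-- Conjugation of a set of invertible matrices. -/
def cj (g : GL ι R) (S : Set (GL ι R)) : Set (GL ι R) := (fun v => g * v * g⁻¹) '' S

theorem cj_cj (g h : GL ι R) (S : Set (GL ι R)) : cj g (cj h S) = cj (g * h) S := by
  unfold cj
  rw [Set.image_image]
  congr 1
  funext v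
  group

theorem cj_one (S : Set (GL ι R)) : cj 1 S = S := by
  unfold cj
  simp

theorem val_conj_sub_one (b v : GL ι R) :
    ((b * v * b⁻¹ : GL ι R) : Matrix ι ι R) - 1 =
      (b : Matrix ι ι R) * ((v : Matrix ι ι R) - 1) * ((b⁻¹ : GL ι R) : Matrix ι ι R) := by
  rw [Units.val_mul, Units.val_mul, mul_sub, sub_mul, mul_one]
  congr 1
  rw [← Units.val_mul, mul_inv_cancel, Units.val_one]

/-- Conjugation by a matrix preserving the levels preserves admissibility. -/
theorem adm_cj_of_rshift {S : Set (GL ι R)} {y : E} (b : GL ι R) (hb : RShift (posE wt y) 0 (b : Matrix ι ι R))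
    (hy : y ∈ adm wt S) : y ∈ adm wt (cj b S) := by
  rintro g ⟨v, hv, rfl⟩
  show RShift (posE wt y) 1 (((b * v * b⁻¹ : GL ι R) : Matrix ι ι R) - 1)
  rw [val_conj_sub_one]
  have := (hb.mul (hy v hv)).mul (RShift.inv hb)
  rwa [zero_add, add_zero] at this

/-- Conjugation by a graded matrix transports admissibility. -/
theorem adm_cj_graded {S : Set (GL ι R)} {y : E} (w : E ≃ₗᵢ[ℝ] E) (n : GL ι R)
    (hn : Graded wt w (n : Matrix ι ι R)) (hn' : Graded wt w.symm ((n⁻¹ : GL ι R) : Matrix ι ι R))
    (hy : y ∈ adm wt S) : w y ∈ adm wt (cj n S) := by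
  rintro g ⟨v, hv, rfl⟩
  show RShift (posE wt (w y)) 1 (((n * v * n⁻¹ : GL ι R) : Matrix ι ι R) - 1)
  rw [val_conj_sub_one]
  exact RShift.conj_graded w hn hn' (hy v hv)

/-- A graded matrix whose isometry fixes `y` preserves the levels of `y`. -/
theorem rshift_of_graded_fix (w : E ≃ₗᵢ[ℝ] E) {n : Matrix ι ι R} (hn : Graded wt w n) {y : E} (hy : w y = y) :
    RShift (posE wt y) 0 n := by
  intro i j hij
  by_contra hne
  have e := hn i j hne
  unfold posE at hij
  rw [e] at hij
  nth_rewrite 1 [← hy] at hij
  rw [LinearIsometryEquiv.inner_map_map] at hij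
  linarith

end graded

end Cfsg.Agent.Lib.Helper3.BT
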