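import Mathlib
import Cfsg.Agent.Lib.Helper3.BT1
set_option autoImplicit false
set_option linter.unusedSectionVars false

/-! The optimal level vector of a set of unipotent matrices (after Kempf and Rousseau), in an abstract setting with a
Bruhat decomposition: the normalizer preserves the filtration of the optimal vector. -/

namespace Cfsg.Agent.Lib.Helper3.BT

open Matrix
open scoped RealInnerProductSpace

section
variable {E : Type*} [NormedAddCommGroup E] [InnerProductSpace ℝ E]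

/-- A point of minimal norm of a convex set is unique. -/
theorem min_norm_unique {C : Set E} (hC : Convex ℝ C) {y z : E} (hy : y ∈ C) (hz : z ∈ C)
    (hmin : ∀ x ∈ C, ‖y‖ ≤ ‖x‖) (hn : ‖z‖ = ‖y‖) : z = y := by
  have hm : (1 / 2 : ℝ) • y + (1 / 2 : ℝ) • z ∈ C := hC hy hz (by norm_num) (by norm_num) (by norm_num)
  have h1 := hmin _ hm
  have e : (1 / 2 : ℝ) • y + (1 / 2 : ℝ) • z = (1 / 2 : ℝ) • (y + z) := by rw [smul_add]
  rw [e, norm_smul] at h1
  have h2 : ‖(1 / 2 : ℝ)‖ = 1 / 2 := by rw [Real.norm_eq_abs]; norm_num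
  rw [h2] at h1
  have h3 := parallelogram_law_with_norm ℝ y z
  rw [hn] at h3
  have h4 : 0 ≤ ‖y‖ := norm_nonneg _
  have h5 : 0 ≤ ‖y + z‖ := norm_nonneg _
  have h6 : 0 ≤ ‖y - z‖ := norm_nonneg _
  have h7 : ‖y - z‖ * ‖y - z‖ ≤ 0 := by nlinarith
  have h8 : ‖y - z‖ = 0 := by nlinarith
  rw [norm_eq_zero, sub_eq_zero] at h8
  exact h8.symm

end

section
variable {ι : Type*} [Fintype ι] [DecidableEq ι] {F : Type*} [CommRing F]
  {E : Type*} [NormedAddCommGroup E] [InnerProductSpace ℝ E] [CompleteSpace E]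

/-- The abstract setting: a group of matrices with a Bruhat decomposition `G = B N B`, where `B` preserves the levels
of the dominant vectors and `N` permutes the weights of the coordinates through isometries. -/
structure KHyp (G : Subgroup (GL ι F)) (wt : ι → E) where
  B : Subgroup (GL ι F)
  N : Subgroup (GL ι F)
  hBG : B ≤ G
  hNG : N ≤ G
  r : ℕ
  a : Fin r → E
  ρ : E
  c : Fin r → ℝ
  σ : Fin r → (E ≃ₗᵢ[ℝ] E)
  nS : Fin r → GL ι F
  hσ : ∀ i y, σ i y = y - (c i * ⟪a i, y⟫) • a i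
  hc : ∀ i, 0 < c i
  hρ : ∀ i, 0 < ⟪a i, ρ⟫
  hnS : ∀ i, nS i ∈ N ∧ Graded wt (σ i) (nS i : Matrix ι ι F) ∧
    Graded wt (σ i).symm (((nS i)⁻¹ : GL ι F) : Matrix ι ι F)
  hB : ∀ b ∈ B, ∀ y, (∀ i, 0 ≤ ⟪a i, y⟫) → RShift (posE wt y) 0 (b : Matrix ι ι F)
  hN : ∀ n ∈ N, ∃ w : E ≃ₗᵢ[ℝ] E, Graded wt w (n : Matrix ι ι F) ∧
    Graded wt w.symm ((n⁻¹ : GL ι F) : Matrix ι ι F)
  bruhat : ∀ g ∈ G, ∃ b ∈ B, ∃ n ∈ N, ∃ u ∈ B, g = b * n * u

variable {G : Subgroup (GL ι F)} {wt : ι → E}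

theorem cj_inv_mul3 (b n u : GL ι F) (S : Set (GL ι F)) : cj b⁻¹ (cj (b * n * u) S) = cj n (cj u S) := by
  rw [cj_cj, cj_cj]
  congr 1
  group

/-- The optimal level vector: there are a conjugate of `V` and a dominant vector `y`, admissible for the conjugate,
such that every element of `G` normalizing the conjugate preserves the levels of `y`. -/
theorem kempf (H : KHyp G wt) (hfin : (G : Set (GL ι F)).Finite) (V : Set (GL ι F))
    (h0 : ∃ g ∈ G, (adm wt (cj g V)).Nonempty) :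
    ∃ g ∈ G, ∃ y : E, (∀ i, 0 ≤ ⟪H.a i, y⟫) ∧ y ∈ adm wt (cj g V) ∧
      ∀ x ∈ G, cj x (cj g V) = cj g V → RShift (posE wt y) 0 (x : Matrix ι ι F) := by
  classical
  -- minimal points of the single sets
  have step1 : ∀ g : GL ι F, (adm wt (cj g V)).Nonempty →
      ∃ y ∈ adm wt (cj g V), ∀ z ∈ adm wt (cj g V), ‖y‖ ≤ ‖z‖ := by
    intro g hne
    obtain ⟨v, hv, hmin⟩ := exists_norm_eq_iInf_of_complete_convex hne (adm_isClosed _).isComplete
      (adm_convex _) (0 : E)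
    refine ⟨v, hv, fun z hz => ?_⟩
    have h1 : ‖(0 : E) - v‖ ≤ ‖(0 : E) - z‖ := by
      rw [hmin]
      exact ciInf_le ⟨0, by rintro _ ⟨w, rfl⟩; exact norm_nonneg _⟩ (⟨z, hz⟩ : adm wt (cj g V))
    simpa using h1
  -- a global minimum
  let GM : E → Prop := fun y => ∀ g ∈ G, ∀ z ∈ adm wt (cj g V), ‖y‖ ≤ ‖z‖
  have step2 : ∃ g ∈ G, ∃ y ∈ adm wt (cj g V), GM y := by
    let T : Set (GL ι F) := {g | g ∈ G ∧ (adm wt (cj g V)).Nonempty}
    have hTfin : T.Finite := hfin.subset fun g hg => hg.1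
    have hTne : T.Nonempty := by
      obtain ⟨g, hg, hne⟩ := h0
      exact ⟨g, hg, hne⟩
    let f : GL ι F → ℝ := fun g =>
      if h : (adm wt (cj g V)).Nonempty then ‖Classical.choose (step1 g h)‖ else 0
    obtain ⟨g, hgT, hgmin⟩ := Set.exists_min_image T f hTfin hTne
    have hsp := Classical.choose_spec (step1 g hgT.2)
    refine ⟨g, hgT.1, Classical.choose (step1 g hgT.2), hsp.1, ?_⟩
    intro g' hg' z hz
    have hg'T : g' ∈ T := ⟨hg', ⟨z, hz⟩⟩
    have h1 := hgmin g' hg'T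
    have e1 : f g = ‖Classical.choose (step1 g hgT.2)‖ := dif_pos hgT.2
    have e2 : f g' = ‖Classical.choose (step1 g' hg'T.2)‖ := dif_pos hg'T.2
    have h2 := (Classical.choose_spec (step1 g' hg'T.2)).2 z hz
    rw [e1, e2] at h1
    exact h1.trans h2
  -- the set of all optimal vectors
  let Y : Set E := {y | ∃ g ∈ G, y ∈ adm wt (cj g V) ∧ GM y}
  have hYne : Y.Nonempty := by
    obtain ⟨g, hg, y, hy, hgm⟩ := step2
    exact ⟨y, g, hg, hy, hgm⟩
  have hYfin : Y.Finite := by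
    have hsub : Y ⊆ ⋃ g ∈ (G : Set (GL ι F)), {y | y ∈ adm wt (cj g V) ∧ GM y} := by
      rintro y ⟨g, hg, hy, hgm⟩
      simp only [Set.mem_iUnion]
      exact ⟨g, hg, hy, hgm⟩
    refine (Set.Finite.biUnion hfin fun g hg => ?_).subset hsub
    apply Set.Subsingleton.finite
    rintro y ⟨hy, hgy⟩ z ⟨hz, hgz⟩
    have h1 := hgy g hg z hz
    have h2 := hgz g hg y hy
    exact (min_norm_unique (adm_convex _) hy hz (fun x hx => hgy g hg x hx) (le_antisymm h2 h1)).symm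
  have hYσ : ∀ i, ∀ y ∈ Y, H.σ i y ∈ Y := by
    rintro i y ⟨g, hg, hy, hgm⟩
    refine ⟨H.nS i * g, G.mul_mem (H.hNG (H.hnS i).1) hg, ?_, ?_⟩
    · rw [← cj_cj]
      exact adm_cj_graded (H.σ i) (H.nS i) (H.hnS i).2.1 (H.hnS i).2.2 hy
    · intro g' hg' z hz
      rw [LinearIsometryEquiv.norm_map]
      exact hgm g' hg' z hz
  -- a dominant optimal vector
  obtain ⟨y, hyY, hymax⟩ := Set.exists_max_image Y (fun y => ⟪y, H.ρ⟫) hYfin hYne
  have hdom : ∀ i, 0 ≤ ⟪H.a i, y⟫ := by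
    intro i
    by_contra hneg
    push Not at hneg
    have h1 : ⟪H.σ i y, H.ρ⟫ ≤ ⟪y, H.ρ⟫ := hymax _ (hYσ i y hyY)
    rw [H.hσ, inner_sub_left, real_inner_smul_left] at h1
    have h2 := mul_pos (H.hc i) (H.hρ i)
    nlinarith
  obtain ⟨g, hg, hy, hgm⟩ := hyY
  refine ⟨g, hg, y, hdom, hy, ?_⟩
  intro x hx hnorm
  obtain ⟨b, hb, n, hn, u, hu, rfl⟩ := H.bruhat x hx
  obtain ⟨w, hw, hw'⟩ := H.hN n hn
  have hBy : ∀ b ∈ H.B, RShift (posE wt y) 0 (b : Matrix ι ι F) := fun b hb => H.hB b hb y hdom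
  -- `y` is admissible for `S = u V' u⁻¹`
  have hyS : y ∈ adm wt (cj u (cj g V)) := adm_cj_of_rshift u (hBy u hu) hy
  -- and for `n S n⁻¹ = b⁻¹ V' b`
  have hynS : y ∈ adm wt (cj n (cj u (cj g V))) := by
    have e : cj n (cj u (cj g V)) = cj b⁻¹ (cj g V) := by
      rw [← cj_inv_mul3 b n u (cj g V), hnorm]
    rw [e]
    exact adm_cj_of_rshift b⁻¹ (hBy b⁻¹ (H.B.inv_mem hb)) hy
  -- hence `w⁻¹ y` is admissible for `S`
  have hwy : w.symm y ∈ adm wt (cj u (cj g V)) := by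
    have h1 := adm_cj_graded w.symm n⁻¹ hw' (by simpa using hw) hynS
    rwa [cj_cj, inv_mul_cancel, cj_one] at h1
  have hfix : w.symm y = y := by
    have hug : u * g ∈ G := G.mul_mem (H.hBG hu) hg
    rw [cj_cj] at hyS hwy
    exact min_norm_unique (adm_convex _) hyS hwy (fun z hz => hgm _ hug z hz) (LinearIsometryEquiv.norm_map _ _)
  have hfix' : w y = y := by
    have := congrArg w hfix
    rw [LinearIsometryEquiv.apply_symm_apply] at this
    exact this.symm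
  have hnr : RShift (posE wt y) 0 (n : Matrix ι ι F) := rshift_of_graded_fix w hw hfix'
  have := ((hBy b hb).mul hnr).mul (hBy u hu)
  rw [Units.val_mul, Units.val_mul]
  simpa using this

end

end Cfsg.Agent.Lib.Helper3.BT
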