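import Mathlib
import Cfsg.Prelude.Def_ChevStructure
import Cfsg.Agent.Lib.Helper3.ChevG6
import Cfsg.Agent.Lib.Helper3.ChevN1
set_option autoImplicit false
open Cfsg Cfsg.Lie

/-! Gradings of the coordinates attached to a set of fundamental roots; `U_J ⊓ L_J = ⊥`. -/

namespace Cfsg.Agent.Lib.Helper3.ChevM

open ChevT

section grading
variable {ι : Type*} [Fintype ι] [DecidableEq ι] {F : Type*} [Field F]

/-- The invertible matrices which respect a grading of the coordinates. -/
def gradSubgroup (lev : ι → ℤ) (F : Type*) [Field F] : Subgroup (GL ι F) where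
  carrier := {g | Matrix.BlockTriangular (g : Matrix ι ι F) lev ∧
    Matrix.BlockTriangular (g : Matrix ι ι F) (fun i => -lev i)}
  mul_mem' := by
    intro a b ha hb
    simp only [Set.mem_ofPred_eq, Units.val_mul] at *
    exact ⟨ha.1.mul hb.1, ha.2.mul hb.2⟩
  one_mem' := by
    simp only [Set.mem_ofPred_eq, Units.val_one]
    exact ⟨Matrix.blockTriangular_one, Matrix.blockTriangular_one⟩
  inv_mem' := by
    intro a ha
    simp only [Set.mem_ofPred_eq] at *
    rw [Matrix.coe_units_inv]
    have : Invertible (a : Matrix ι ι F) := Units.invertible a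
    exact ⟨Matrix.blockTriangular_inv_of_blockTriangular ha.1, Matrix.blockTriangular_inv_of_blockTriangular ha.2⟩

theorem mem_gradSubgroup_iff (lev : ι → ℤ) (g : GL ι F) :
    g ∈ gradSubgroup lev F ↔ ∀ i j, lev i ≠ lev j → (g : Matrix ι ι F) i j = 0 := by
  constructor
  · rintro ⟨h1, h2⟩ i j hij
    rcases lt_or_gt_of_ne hij with h | h
    · exact h2 (by simpa using h)
    · exact h1 h
  · intro h
    refine ⟨fun i j hij => h i j (ne_of_gt hij), fun i j hij => h i j ?_⟩
    have : lev i < lev j := by simpa using hij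
    exact ne_of_lt this

/-- The natural-number position attached to an integer level. -/
noncomputable def posOfLev (lev : ι → ℤ) (j : ι) : ℕ :=
  (lev j + Finset.univ.sup (fun i => (lev i).natAbs)).toNat

theorem posOfLev_spec (lev : ι → ℤ) (j : ι) :
    (posOfLev lev j : ℤ) = lev j + ((Finset.univ.sup (fun i => (lev i).natAbs) : ℕ) : ℤ) := by
  unfold posOfLev
  have h : (lev j).natAbs ≤ Finset.univ.sup (fun i => (lev i).natAbs) :=
    Finset.le_sup (f := fun i => (lev i).natAbs) (Finset.mem_univ j)
  have h3 : -(lev j) ≤ ((lev j).natAbs : ℤ) := by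
    rw [Int.natCast_natAbs]; exact neg_le_abs _
  rw [Int.toNat_of_nonneg]
  omega

/-- A matrix that respects the grading and is unipotent with respect to it is the identity. -/
theorem eq_one_of_grad_of_ut (lev : ι → ℤ) (g : GL ι F) (h1 : g ∈ gradSubgroup lev F)
    (h2 : g ∈ utSubgroup (posOfLev lev) F 0) : g = 1 := by
  rw [mem_gradSubgroup_iff] at h1
  rw [mem_utSubgroup] at h2
  apply Units.ext
  ext i j
  rw [Units.val_one]
  by_cases hij : lev i = lev j
  · have := h2 i j (by
      have e1 := posOfLev_spec lev i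
      have e2 := posOfLev_spec lev j
      omega)
    rw [Matrix.sub_apply, sub_eq_zero] at this
    exact this
  · rw [h1 i j hij, Matrix.one_apply, if_neg]
    rintro rfl
    exact hij rfl

end grading

/-- The coefficients of the weight of a coordinate code. -/
def vecI (D : ChevalleyDatum) (vec : ℕ → ℕ → ℤ) (c a : ℕ) : ℤ := if c < D.rank then 0 else vec (c - D.rank) a

/-- The entries of `x_r` raise the weight by multiples of `r`. -/
def wtCheck (C : CDatum) (vec : ℕ → ℕ → ℤ) (r : ℕ) : Bool :=
  (List.range C.N).all fun c => (C.cols r c).all fun e => decide (1 ≤ e.deg) && decide (e.row < C.N) &&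
    (List.range C.D.rank).all fun a => decide (vecI C.D vec e.row a = vecI C.D vec c a + e.deg * vec r a)

/-- The coefficients of a root and of its coroot have the same signs. -/
def vecSignCheck (D : ChevalleyDatum) (vec : ℕ → ℕ → ℤ) (r : ℕ) : Bool :=
  decide ((D.coroot.getD r #[]).size = D.rank) &&
  (List.range D.rank).all fun a =>
    (decide (0 < (D.coroot.getD r #[]).getD a 0) == decide (0 < vec r a)) &&
    (decide ((D.coroot.getD r #[]).getD a 0 < 0) == decide (vec r a < 0)) &&
    decide (vec (D.neg r) a = -vec r a)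

section
variable (D : ChevalleyDatum) (vec : ℕ → ℕ → ℤ) (J : Set ℕ)

open Classical in
/-- The level of a coordinate code with respect to `J`: the sum of the coefficients outside `J`. -/
noncomputable def levC (c : ℕ) : ℤ :=
  (((List.range D.rank).filter fun a => a ∉ J).map fun a => vecI D vec c a).sum

/-- The level of a coordinate. -/
noncomputable def levIdx (j : D.Idx) : ℤ := levC D vec J (code D j)

open Classical in
/-- The level of a root. -/
noncomputable def levR (r : ℕ) : ℤ := (((List.range D.rank).filter fun a => a ∉ J).map fun a => vec r a).sum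

theorem levC_root (r : ℕ) : levC D vec J (D.rank + r) = levR D vec J r := by
  unfold levC levR vecI
  congr 1
  apply List.map_congr_left
  intro a _
  rw [if_neg (by omega), Nat.add_sub_cancel_left]

variable {D vec}

theorem coroot_getD_nonneg {r : ℕ} (hv : vecSignCheck D vec r = true) (hpos : D.IsPosRoot r) (a : ℕ) (ha : a < D.rank) :
    0 ≤ (D.coroot.getD r #[]).getD a 0 := by
  simp only [vecSignCheck, Bool.and_eq_true, decide_eq_true_eq] at hv
  have hsize := hv.1
  have hp := hpos.2
  generalize D.coroot.getD r #[] = arr at hsize hp ⊢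
  have ha' : a < arr.size := by omega
  have e : arr.getD a 0 = arr[a] := by
    rw [Array.getD_eq_getD_getElem?, Array.getElem?_eq_getElem ha']
    rfl
  rw [e]
  exact hp _ (Array.getElem_mem_toList ha')

theorem vec_spec {r : ℕ} (hv : vecSignCheck D vec r = true) (a : ℕ) (ha : a < D.rank) :
    (0 < (D.coroot.getD r #[]).getD a 0 ↔ 0 < vec r a) ∧ ((D.coroot.getD r #[]).getD a 0 < 0 ↔ vec r a < 0) ∧
      vec (D.neg r) a = -vec r a := by
  simp only [vecSignCheck, Bool.and_eq_true, decide_eq_true_eq, List.all_eq_true, List.mem_range, beq_iff_eq,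
    decide_eq_decide] at hv
  obtain ⟨⟨h1, h2⟩, h3⟩ := hv.2 a ha
  exact ⟨h1, h2, h3⟩

/-- Roots in the subsystem of `J` have level zero. -/
theorem levR_eq_zero {r : ℕ} (hv : vecSignCheck D vec r = true) (hr : D.InRootSub J r) : levR D vec J r = 0 := by
  classical
  unfold levR
  apply List.sum_eq_zero
  intro x hx
  simp only [List.mem_map, List.mem_filter, List.mem_range, decide_eq_true_eq] at hx
  obtain ⟨a, ⟨ha, haJ⟩, rfl⟩ := hx
  have h0 := hr.2 a ha haJ
  obtain ⟨h1, h2, -⟩ := vec_spec hv a ha
  rw [h0] at h1 h2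
  have : ¬ 0 < vec r a := fun h => absurd (h1.mpr h) (lt_irrefl _)
  have : ¬ vec r a < 0 := fun h => absurd (h2.mpr h) (lt_irrefl _)
  omega

/-- Positive roots have non-negative level. -/
theorem levR_nonneg {r : ℕ} (hv : vecSignCheck D vec r = true) (hpos : D.IsPosRoot r) : 0 ≤ levR D vec J r := by
  classical
  unfold levR
  apply List.sum_nonneg
  intro x hx
  simp only [List.mem_map, List.mem_filter, List.mem_range, decide_eq_true_eq] at hx
  obtain ⟨a, ⟨ha, -⟩, rfl⟩ := hx
  obtain ⟨-, h2, -⟩ := vec_spec hv a ha
  have := coroot_getD_nonneg hv hpos a ha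
  by_contra hneg
  have := h2.mpr (by omega)
  omega

/-- Positive roots outside the subsystem of `J` have positive level. -/
theorem levR_pos {r : ℕ} (hv : vecSignCheck D vec r = true) (hpos : D.IsPosRoot r) (hr : ¬ D.InRootSub J r) :
    1 ≤ levR D vec J r := by
  classical
  have hex : ∃ a < D.rank, a ∉ J ∧ (D.coroot.getD r #[]).getD a 0 ≠ 0 := by
    by_contra hne
    push Not at hne
    exact hr ⟨hpos.1, fun i hi hiJ => hne i hi hiJ⟩
  obtain ⟨a, ha, haJ, hne⟩ := hex
  have hnn := coroot_getD_nonneg hv hpos a ha
  obtain ⟨h1, -, -⟩ := vec_spec hv a ha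
  have hva : 1 ≤ vec r a := by
    have := h1.mp (by omega)
    omega
  unfold levR
  have hmem : a ∈ (List.range D.rank).filter fun a => a ∉ J := by
    simp only [List.mem_filter, List.mem_range, decide_eq_true_eq]
    exact ⟨ha, haJ⟩
  have hle := List.single_le_sum (l := ((List.range D.rank).filter fun a => a ∉ J).map fun a => vec r a) (by
    intro x hx
    simp only [List.mem_map, List.mem_filter, List.mem_range, decide_eq_true_eq] at hx
    obtain ⟨b, ⟨hb, -⟩, rfl⟩ := hx
    obtain ⟨-, h2, -⟩ := vec_spec hv b hb
    have := coroot_getD_nonneg hv hpos b hb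
    by_contra hneg
    have := h2.mpr (by omega)
    omega) (vec r a) (List.mem_map.mpr ⟨a, hmem, rfl⟩)
  omega

theorem levR_neg {r : ℕ} (hv : vecSignCheck D vec r = true) : levR D vec J (D.neg r) = -levR D vec J r := by
  classical
  unfold levR
  have key : ∀ l : List ℕ, (∀ a ∈ l, a < D.rank) → (l.map fun a => vec (D.neg r) a).sum = -(l.map fun a => vec r a).sum := by
    intro l
    induction l with
    | nil => simp
    | cons a l ih =>
      intro hl
      rw [List.map_cons, List.map_cons, List.sum_cons, List.sum_cons,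
        ih (fun b hb => hl b (List.mem_cons_of_mem _ hb)), (vec_spec hv a (hl a List.mem_cons_self)).2.2]
      ring
  apply key
  intro a ha
  simp only [List.mem_filter, List.mem_range] at ha
  exact ha.1

end

section
variable {C : CDatum} {vec : ℕ → ℕ → ℤ} (J : Set ℕ)

/-- The entries of `x_r` raise the level by multiples of the level of `r`. -/
theorem levC_entry {r : ℕ} (hw : wtCheck C vec r = true) (c : ℕ) (hc : c < C.N) (e : CEnt) (he : e ∈ C.cols r c) :
    1 ≤ e.deg ∧ levC C.D vec J e.row = levC C.D vec J c + e.deg * levR C.D vec J r := by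
  classical
  simp only [wtCheck, List.all_eq_true, List.mem_range, Bool.and_eq_true, decide_eq_true_eq] at hw
  obtain ⟨⟨h1, -⟩, h3⟩ := hw c hc e he
  refine ⟨h1, ?_⟩
  unfold levC levR
  rw [← List.sum_map_mul_left, ← List.sum_map_add]
  congr 1
  apply List.map_congr_left
  intro a ha
  simp only [List.mem_filter, List.mem_range] at ha
  exact h3 a ha.1

variable {F : Type*} [Field F]

/-- The entries of `x_r(t) - 1` relate levels differing by a positive multiple of the level of `r`. -/
theorem x_entry_lev {r : ℕ} (hr : r < C.D.nroots) (hw : wtCheck C vec r = true) (t : F) (i j : C.D.Idx)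
    (hne : (C.D.x F r t - 1) i j ≠ 0) :
    ∃ d : ℕ, 1 ≤ d ∧ levIdx C.D vec J i = levIdx C.D vec J j + d * levR C.D vec J r := by
  unfold ChevalleyDatum.x at hne
  rw [dif_pos hr, Matrix.sub_apply, xMat_entry, Matrix.one_apply, add_sub_cancel_left] at hne
  unfold colSum at hne
  have : ∃ e ∈ C.cols r (code C.D j), e.row = code C.D i := by
    by_contra hcon
    push Not at hcon
    apply hne
    apply List.sum_eq_zero
    intro x hx
    simp only [List.mem_map, List.mem_filter, decide_eq_true_eq] at hx
    obtain ⟨e, ⟨he, hrow⟩, rfl⟩ := hx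
    rw [← C.ok r hr _ (code_lt C.D j)] at he
    exact absurd hrow (hcon e he)
  obtain ⟨e, he, hrow⟩ := this
  obtain ⟨h1, h2⟩ := levC_entry J hw _ (code_lt C.D j) e he
  exact ⟨e.deg, h1, by unfold levIdx; rw [← hrow, h2]⟩

end

end Cfsg.Agent.Lib.Helper3.ChevM
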