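import Mathlib
import Cfsg.Prelude.Def_ChevStructure
import Cfsg.Agent.Lib.Helper3.ChevL1
set_option autoImplicit false
open Cfsg Cfsg.Lie

/-! The Levi decomposition of the parabolic subgroups of a Chevalley group. -/

namespace Cfsg.Agent.Lib.Helper3.ChevM

open ChevT

/-- The roots in the commutator formula of `r` and `s` are the combinations `i r + j s`. -/
def commVecCheck (D : ChevalleyDatum) (vec : ℕ → ℕ → ℤ) (r s : ℕ) : Bool :=
  (D.commTerms r s).all fun c => decide (c.1 < D.nroots) && decide (1 ≤ c.2.2.1) && decide (1 ≤ c.2.2.2) &&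
    (List.range D.rank).all fun a => decide (vec c.1 a = c.2.2.1 * vec r a + c.2.2.2 * vec s a)

/-- The table checks for the Levi decomposition. -/
structure LeviHyp (C : CDatum) (R : RelData C) where
  vec : ℕ → ℕ → ℤ
  wt : ∀ r < C.D.nroots, wtCheck C vec r = true
  vs : ∀ r < C.D.nroots, vecSignCheck C.D vec r = true
  cv : ∀ r < C.D.nroots, ∀ s < C.D.nroots, commVecCheck C.D vec r s = true
  sc : ∀ j < C.D.rank, simpleCorootCheck C.D j = true
  rw : ℕ → List ℕ × ℕ
  hrw : ∀ r < C.D.nroots, suppWordCheck C.D R.refl rw r = true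
  sign : ∀ r < C.D.nroots, signCheck C.D r = true
  dec : ∀ r < C.D.nroots, ∀ s < C.D.nroots, hdecCheck C.D R.pair r s = true

section
variable {F : Type*} [Field F] {C : CDatum} {R : RelData C} (L : LeviHyp C R) (K : CommData C R) (J : Set ℕ)

/-- The level of a root of the commutator formula. -/
theorem LeviHyp.levR_comm (r s : ℕ) (hr : r < C.D.nroots) (hs : s < C.D.nroots) (c : ℕ × ℤ × ℕ × ℕ)
    (hc : c ∈ C.D.commTerms r s) :
    c.1 < C.D.nroots ∧ 1 ≤ c.2.2.1 ∧ 1 ≤ c.2.2.2 ∧
      levR C.D L.vec J c.1 = c.2.2.1 * levR C.D L.vec J r + c.2.2.2 * levR C.D L.vec J s := by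
  classical
  have := L.cv r hr s hs
  simp only [commVecCheck, List.all_eq_true, Bool.and_eq_true, decide_eq_true_eq, List.mem_range] at this
  obtain ⟨⟨⟨h1, h2⟩, h3⟩, h4⟩ := this c hc
  refine ⟨h1, h2, h3, ?_⟩
  unfold levR
  rw [← List.sum_map_mul_left, ← List.sum_map_mul_left, ← List.sum_map_add]
  congr 1
  apply List.map_congr_left
  intro a ha
  simp only [List.mem_filter, List.mem_range] at ha
  exact h4 a ha.1

/-- A root of positive level is a positive root outside the subsystem. -/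
theorem LeviHyp.pos_of_levR_pos (k : ℕ) (hk : k < C.D.nroots) (h : 1 ≤ levR C.D L.vec J k) :
    C.D.IsPosRoot k ∧ ¬ C.D.InRootSub J k := by
  constructor
  · by_contra hneg
    obtain ⟨s1, s2, s3⟩ := signCheck_spec (L.sign k hk)
    have hp : C.D.IsPosRoot (C.D.neg k) := by
      by_contra h2
      exact hneg (s1.mpr h2)
    have h1 := levR_nonneg J (L.vs _ (R.neg_lt k hk)) hp
    rw [levR_neg J (L.vs k hk)] at h1
    omega
  · intro hin
    have := levR_eq_zero J (L.vs k hk) hin
    omega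

/-- `U_J` is unipotent with respect to the grading of `J`. -/
theorem LeviHyp.unipotentRadical_le_ut :
    C.D.unipotentRadical F J ≤ utSubgroup (posOfLev (levIdx C.D L.vec J)) F 0 := by
  unfold ChevalleyDatum.unipotentRadical
  rw [Subgroup.closure_le]
  rintro g ⟨r, t, hpos, hnot, hg⟩
  have hr := hpos.1
  show Shift _ (0 + 1) ((g : Matrix C.D.Idx C.D.Idx F) - 1)
  rw [hg]
  intro i j hij
  by_contra hne
  obtain ⟨d, hd, hlev⟩ := x_entry_lev J hr (L.wt r hr) t i j hne
  have h1 := levR_pos J (L.vs r hr) hpos hnot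
  have e1 := posOfLev_spec (levIdx C.D L.vec J) i
  have e2 := posOfLev_spec (levIdx C.D L.vec J) j
  have : (1 : ℤ) ≤ d * levR C.D L.vec J r := by
    have : (1 : ℤ) ≤ d := by exact_mod_cast hd
    nlinarith
  omega

/-- `L_J` respects the grading of `J`. -/
theorem LeviHyp.levi_le_grad : C.D.leviSubgroup F J ≤ gradSubgroup (levIdx C.D L.vec J) F := by
  unfold ChevalleyDatum.leviSubgroup
  refine sup_le ?_ ?_
  · intro h hh
    obtain ⟨c, -, hd⟩ := R.diagonalSubgroup_le_torus L.dec hh
    rw [mem_gradSubgroup_iff]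
    intro i j hij
    rw [hd, Matrix.diagonal_apply_ne]
    rintro rfl
    exact hij rfl
  · rw [Subgroup.closure_le]
    rintro g ⟨r, t, hin, hg⟩
    have hr := hin.1
    show g ∈ gradSubgroup _ F
    rw [mem_gradSubgroup_iff]
    intro i j hij
    by_contra hne
    have hij' : i ≠ j := by
      rintro rfl
      exact hij rfl
    have hne' : (C.D.x F r t - 1) i j ≠ 0 := by
      rw [Matrix.sub_apply, Matrix.one_apply_ne hij', sub_zero, ← hg]
      exact hne
    obtain ⟨d, -, hlev⟩ := x_entry_lev J hr (L.wt r hr) t i j hne'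
    rw [levR_eq_zero J (L.vs r hr) hin, mul_zero, add_zero] at hlev
    exact hij hlev

include L in
/-- `U_J ⊓ L_J = ⊥`. -/
theorem LeviHyp.inf_eq_bot : C.D.unipotentRadical F J ⊓ C.D.leviSubgroup F J = ⊥ := by
  rw [eq_bot_iff]
  rintro g ⟨h1, h2⟩
  rw [Subgroup.mem_bot]
  exact eq_one_of_grad_of_ut _ g (L.levi_le_grad J h2) (L.unipotentRadical_le_ut J h1)

include K in
/-- A root element of a root of non-negative level conjugates the generators of `U_J` into `U_J`. -/
theorem LeviHyp.conj_gen_mem (r : ℕ) (hr : r < C.D.nroots) (hlr : 0 ≤ levR C.D L.vec J r) (t : F)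
    (s : ℕ) (hs : C.D.IsPosRoot s) (hsJ : ¬ C.D.InRootSub J s) (u : F) :
    (R.xU r t)⁻¹ * R.xU s u * R.xU r t ∈ C.D.unipotentRadical F J := by
  have hsl := hs.1
  have hls := levR_pos J (L.vs s hsl) hs hsJ
  have hxs : R.xU s u ∈ C.D.unipotentRadical F J :=
    Subgroup.subset_closure ⟨s, u, hs, hsJ, R.xU_val s u⟩
  by_cases hrs : s = r
  · subst hrs
    have : (R.xU s t)⁻¹ * R.xU s u * R.xU s t = R.xU s u := by
      rw [R.xU_inv, R.xU_add, R.xU_add]
      congr 1
      ring
    rw [this]; exact hxs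
  have hneg : s ≠ C.D.neg r := by
    intro e
    have h1 : levR C.D L.vec J s = -levR C.D L.vec J r := by rw [e, levR_neg J (L.vs r hr)]
    omega
  have hcomm := K.commF (F := F) r s hr hsl hrs hneg t u
  have e : (R.xU r t)⁻¹ * R.xU s u * R.xU r t = R.xU s u * R.wordU (C.D.commWord F r s t u) := by
    have e1 : R.xU s u * R.xU r t = R.xU r t * R.xU s u * R.wordU (C.D.commWord F r s t u) := by
      apply Units.ext
      rw [Units.val_mul, Units.val_mul, Units.val_mul, R.xU_val, R.xU_val, R.wordU_val]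
      exact hcomm
    rw [mul_assoc, e1]; group
  rw [e]
  refine Subgroup.mul_mem _ hxs ?_
  unfold ChevalleyDatum.commWord
  unfold RelData.wordU
  apply Subgroup.list_prod_mem
  intro x hx
  simp only [List.mem_map] at hx
  obtain ⟨_, ⟨c, hc, rfl⟩, rfl⟩ := hx
  obtain ⟨h1, h2, h3, h4⟩ := L.levR_comm J r s hr hsl c hc
  have hlev : 1 ≤ levR C.D L.vec J c.1 := by
    rw [h4]
    have a1 : (1 : ℤ) ≤ c.2.2.1 := by exact_mod_cast h2
    have a2 : (1 : ℤ) ≤ c.2.2.2 := by exact_mod_cast h3
    nlinarith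
  obtain ⟨hp, hn⟩ := L.pos_of_levR_pos J c.1 h1 hlev
  exact Subgroup.subset_closure ⟨c.1, _, hp, hn, R.xU_val _ _⟩

include K in
theorem LeviHyp.conj_mem (r : ℕ) (hr : r < C.D.nroots) (hlr : 0 ≤ levR C.D L.vec J r) (t : F)
    (g : GL C.D.Idx F) (hg : g ∈ C.D.unipotentRadical F J) :
    (R.xU r t)⁻¹ * g * R.xU r t ∈ C.D.unipotentRadical F J := by
  unfold ChevalleyDatum.unipotentRadical at hg
  induction hg using Subgroup.closure_induction with
  | mem x hx =>
    obtain ⟨s, u, hs, hsJ, hx⟩ := hx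
    have e : x = R.xU s u := Units.ext (by rw [hx, R.xU_val])
    rw [e]
    exact L.conj_gen_mem K J r hr hlr t s hs hsJ u
  | one => simpa using Subgroup.one_mem _
  | mul x y _ _ hx hy =>
    have : (R.xU r t)⁻¹ * (x * y) * R.xU r t = ((R.xU r t)⁻¹ * x * R.xU r t) * ((R.xU r t)⁻¹ * y * R.xU r t) := by
      group
    rw [this]; exact Subgroup.mul_mem _ hx hy
  | inv x _ hx =>
    have : (R.xU r t)⁻¹ * x⁻¹ * R.xU r t = ((R.xU r t)⁻¹ * x * R.xU r t)⁻¹ := by group
    rw [this]; exact Subgroup.inv_mem _ hx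

include L K in
/-- `P_J` normalizes `U_J`. -/
theorem LeviHyp.parabolic_le_normalizer :
    C.D.parabolicSubgroup F J ≤ Subgroup.normalizer (C.D.unipotentRadical F J : Set (GL C.D.Idx F)) := by
  rw [R.parabolic_eq L.sc L.rw L.hrw J]
  refine sup_le ?_ ?_
  · have hset : {g : GL C.D.Idx F | ∃ (s : ℕ) (t : F), (C.D.IsPosRoot s ∧ ¬ C.D.InRootSub J s) ∧
        (g : Matrix C.D.Idx C.D.Idx F) = C.D.x F s t} =
        {g : GL C.D.Idx F | ∃ (r : ℕ) (t : F), C.D.IsPosRoot r ∧ ¬ C.D.InRootSub J r ∧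
        (g : Matrix C.D.Idx C.D.Idx F) = C.D.x F r t} := by
      ext g
      constructor
      · rintro ⟨s, t, ⟨h1, h2⟩, h3⟩; exact ⟨s, t, h1, h2, h3⟩
      · rintro ⟨s, t, h1, h2, h3⟩; exact ⟨s, t, ⟨h1, h2⟩, h3⟩
    have := R.diagonal_le_normalizer_closure (F := F) L.dec
      (fun s => C.D.IsPosRoot s ∧ ¬ C.D.InRootSub J s) (fun s hs => hs.1.1)
    rw [hset] at this
    exact this
  · rw [Subgroup.closure_le]
    rintro g ⟨r, t, hr, hg⟩
    have hrl : r < C.D.nroots := by
      rcases hr with h | h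
      · exact h.1
      · exact h.1
    have hlr : 0 ≤ levR C.D L.vec J r := by
      rcases hr with h | h
      · exact levR_nonneg J (L.vs r hrl) h
      · rw [levR_eq_zero J (L.vs r hrl) h]
    have e : g = R.xU r t := Units.ext (by rw [hg, R.xU_val])
    show g ∈ Subgroup.normalizer _
    rw [e, Subgroup.mem_normalizer_iff]
    intro x
    constructor
    · intro hx
      have := L.conj_mem K J r hrl hlr (-t) x hx
      rwa [← R.xU_inv, inv_inv] at this
    · intro hx
      have := L.conj_mem K J r hrl hlr t _ hx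
      have e2 : (R.xU r t)⁻¹ * (R.xU r t * x * (R.xU r t)⁻¹) * R.xU r t = x := by group
      rwa [e2] at this

include L in
/-- `U_J L_J = P_J`. -/
theorem LeviHyp.sup_eq_parabolic :
    C.D.unipotentRadical F J ⊔ C.D.leviSubgroup F J = C.D.parabolicSubgroup F J := by
  rw [R.parabolic_eq L.sc L.rw L.hrw J]
  apply le_antisymm
  · refine sup_le ?_ (sup_le le_sup_left ?_)
    · refine le_sup_of_le_right ?_
      apply Subgroup.closure_mono
      rintro g ⟨r, t, h1, -, h3⟩
      exact ⟨r, t, Or.inl h1, h3⟩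
    · refine le_sup_of_le_right ?_
      apply Subgroup.closure_mono
      rintro g ⟨r, t, h1, h3⟩
      exact ⟨r, t, Or.inr h1, h3⟩
  · refine sup_le ?_ ?_
    · exact le_sup_of_le_right le_sup_left
    · rw [Subgroup.closure_le]
      rintro g ⟨r, t, hr, hg⟩
      by_cases hin : C.D.InRootSub J r
      · exact Subgroup.mem_sup_right (Subgroup.mem_sup_right (Subgroup.subset_closure ⟨r, t, hin, hg⟩))
      · rcases hr with h | h
        · exact Subgroup.mem_sup_left (Subgroup.subset_closure ⟨r, t, h, hin, hg⟩)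
        · exact absurd h hin

end

end Cfsg.Agent.Lib.Helper3.ChevM
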