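import Mathlib
import Cfsg.Prelude.Def_ChevStructure
import Cfsg.Agent.Lib.Helper3.ChevL2
import Cfsg.Agent.Lib.Helper3.ChevB3
import Cfsg.Agent.S0308
set_option autoImplicit false
open Cfsg Cfsg.Lie

/-! The normalizer of the unipotent radical of a parabolic subgroup. -/

namespace Cfsg.Agent.Lib.Helper3.ChevM

open ChevT DoubleCoset

/-- A fundamental reflection changes only one coefficient of a root. -/
def reflVecCheck (D : ChevalleyDatum) (refl : ℕ → ℕ → ℕ) (vec : ℕ → ℕ → ℤ) (i s : ℕ) : Bool :=
  (List.range D.rank).all fun a => decide (a = i) || decide (vec (refl i s) a = vec s a)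

section
variable {F : Type*} [Field F] {C : CDatum} {R : RelData C} (L : LeviHyp C R) (K : CommData C R) (Hy : BNHyp C R)
  (hrv : ∀ i < C.D.rank, ∀ s < C.D.nroots, reflVecCheck C.D R.refl L.vec i s = true)
  (hinj : ∀ r < C.D.nroots, injCheck C r = true)
  (J : Set ℕ)

include hrv in
/-- A fundamental reflection in `J` preserves the levels. -/
theorem LeviHyp.levR_refl (i : ℕ) (hi : i < C.D.rank) (hiJ : i ∈ J) (s : ℕ) (hs : s < C.D.nroots) :
    levR C.D L.vec J (R.refl i s) = levR C.D L.vec J s := by
  classical
  unfold levR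
  congr 1
  apply List.map_congr_left
  intro a ha
  simp only [List.mem_filter, List.mem_range, decide_eq_true_eq] at ha
  have := hrv i hi s hs
  simp only [reflVecCheck, List.all_eq_true, List.mem_range, Bool.or_eq_true, decide_eq_true_eq] at this
  rcases this a ha.1 with h | h
  · subst h; exact absurd hiJ ha.2
  · exact h

include hinj in
/-- A non-trivial root element in `U_J` belongs to a root of positive level. -/
theorem LeviHyp.levR_pos_of_mem (s : ℕ) (hs : s < C.D.nroots) (c : F) (hc : c ≠ 0)
    (hmem : R.xU s c ∈ C.D.unipotentRadical F J) : 1 ≤ levR C.D L.vec J s := by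
  have h1 := L.unipotentRadical_le_ut J hmem
  rw [mem_utSubgroup] at h1
  have hn := R.neg_lt s hs
  have hent := x_entry_neg (F := F) C s hs hn (hinj s hs) c
  by_contra hlt
  have hz := h1 (Sum.inr ⟨s, hs⟩) (Sum.inr ⟨C.D.neg s, hn⟩) (by
    have e1 := posOfLev_spec (levIdx C.D L.vec J) (Sum.inr ⟨s, hs⟩)
    have e2 := posOfLev_spec (levIdx C.D L.vec J) (Sum.inr ⟨C.D.neg s, hn⟩)
    have a1 : levIdx C.D L.vec J (Sum.inr ⟨s, hs⟩) = levR C.D L.vec J s := levC_root C.D L.vec J s
    have a2 : levIdx C.D L.vec J (Sum.inr ⟨C.D.neg s, hn⟩) = -levR C.D L.vec J s := by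
      rw [← levR_neg J (L.vs s hs)]
      exact levC_root C.D L.vec J (C.D.neg s)
    omega)
  have hne : (Sum.inr ⟨s, hs⟩ : C.D.Idx) ≠ Sum.inr ⟨C.D.neg s, hn⟩ := by
    intro e
    simp only [Sum.inr.injEq, Fin.mk.injEq] at e
    have := hinj s hs
    simp only [injCheck, Bool.and_eq_true, decide_eq_true_eq] at this
    exact this.1 e.symm
  rw [R.xU_val, Matrix.sub_apply, hent, Matrix.one_apply_ne hne, sub_zero, neg_eq_zero] at hz
  exact hc (pow_eq_zero_iff (by norm_num) |>.mp hz)

include hrv in
/-- A word preserving the roots of positive level induces the same permutation as a word in `J`. -/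
theorem LeviHyp.exists_word_in (M : MonoHyp C R) :
    ∀ (k : ℕ) (l : List ℕ), l.length = k → (∀ i ∈ l, i < C.D.rank) →
      (∀ s < C.D.nroots, 1 ≤ levR C.D L.vec J s → 1 ≤ levR C.D L.vec J (reflW R.refl l s)) →
      ∃ l' : List ℕ, (∀ i ∈ l', i < C.D.rank ∧ i ∈ J) ∧ ∀ s < C.D.nroots, reflW R.refl l s = reflW R.refl l' s := by
  intro k
  induction k using Nat.strong_induction_on with
  | _ k ih =>
    intro l hk hl hpres
    rcases List.eq_nil_or_concat l with rfl | ⟨l₀, i, hcat⟩
    · exact ⟨[], by simp, fun s _ => rfl⟩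
    rw [List.concat_eq_append] at hcat
    subst hcat
    have hi : i < C.D.rank := hl i (by simp)
    have hl₀ : ∀ j ∈ l₀, j < C.D.rank := fun j hj => hl j (by simp [hj])
    have hlen : l₀.length + 1 = k := by rw [← hk]; simp
    set p := C.D.simple i with hp
    have hpl : p < C.D.nroots := R.simple_lt i hi
    have hinvol : ∀ s < C.D.nroots, R.refl i (R.refl i s) = s := by
      intro s hs
      have := M.inv i hi s hs
      simpa [reflInvCheck] using this
    have hrl : ∀ s < C.D.nroots, R.refl i s < C.D.nroots := fun s hs => R.reflW_lt [i] (by simpa using hi) s hs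
    by_cases hiJ : i ∈ J
    · -- drop the last letter
      have hpres₀ : ∀ s < C.D.nroots, 1 ≤ levR C.D L.vec J s → 1 ≤ levR C.D L.vec J (reflW R.refl l₀ s) := by
        intro s hs h1
        have h2 := hpres (R.refl i s) (hrl s hs) (by rw [L.levR_refl hrv J i hi hiJ s hs]; exact h1)
        rw [reflW_append] at h2
        have : reflW R.refl [i] (R.refl i s) = s := hinvol s hs
        rwa [this] at h2
      obtain ⟨l', hl', he⟩ := ih l₀.length (by omega) l₀ rfl hl₀ hpres₀
      refine ⟨l' ++ [i], ?_, ?_⟩
      · intro j hj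
        rcases List.mem_append.mp hj with h | h
        · exact hl' j h
        · rw [List.mem_singleton.mp h]; exact ⟨hi, hiJ⟩
      · intro s hs
        rw [reflW_append, reflW_append]
        exact he _ (hrl s hs)
    · -- the fundamental root `p_i` has positive level, so its image is positive
      have hns := M.ns i hi
      simp only [negSimpleCheck, Bool.and_eq_true, Bool.not_eq_true', decide_eq_false_iff_not,
        decide_eq_true_eq] at hns
      have hpJ : ¬ C.D.InRootSub J p := by
        intro hin
        have hc := L.sc i hi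
        simp only [simpleCorootCheck, Bool.and_eq_true, decide_eq_true_eq, List.all_eq_true, List.mem_range,
          Bool.or_eq_true] at hc
        -- all the coefficients of the coroot vanish
        have hall : ∀ a < C.D.rank, (C.D.coroot.getD p #[]).getD a 0 = 0 := by
          intro a ha
          rcases hc.2 a ha with h | h
          · subst h; exact hin.2 a ha hiJ
          · exact h.1
        have hlev : levR C.D L.vec J p = 0 := levR_eq_zero J (L.vs p hpl) hin
        have hlev' : 1 ≤ levR C.D L.vec (∅ : Set ℕ) p := by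
          apply levR_pos (∅ : Set ℕ) (L.vs p hpl) hns.2
          intro hin'
          -- `p` would be in the empty subsystem, hence also negative
          have hneg : C.D.IsNegRoot p := by
            refine ⟨hpl, ?_⟩
            have hv := L.vs p hpl
            simp only [vecSignCheck, Bool.and_eq_true, decide_eq_true_eq] at hv
            have hsize := hv.1
            intro c hcm
            generalize C.D.coroot.getD p #[] = arr at hsize hall hcm
            obtain ⟨a, ha, rfl⟩ := List.mem_iff_getElem.mp hcm
            have ha' : a < arr.size := by simpa using ha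
            have := hall a (by omega)
            rw [Array.getD_eq_getD_getElem?, Array.getElem?_eq_getElem ha'] at this
            have e : arr.toList[a] = arr[a] := by simp
            rw [e]
            exact le_of_eq this
          obtain ⟨s1, s2, -⟩ := signCheck_spec (L.sign p hpl)
          exact (s1.mp hns.2) (s2.mp hneg)
        -- but the level with respect to the empty set vanishes too
        have : levR C.D L.vec (∅ : Set ℕ) p = 0 := by
          apply levR_eq_zero (∅ : Set ℕ) (L.vs p hpl)
          exact ⟨hpl, fun a ha _ => hall a ha⟩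
        omega
      have hlevp : 1 ≤ levR C.D L.vec J p := levR_pos J (L.vs p hpl) hns.2 hpJ
      have himg := hpres p hpl hlevp
      have hreflp : R.refl i p = C.D.neg p := by
        rw [R.refl_eq i hi _ hpl]
        simp only [ChevalleyDatum.reflectRoot, ← hp, if_true]
      have h1 : reflW R.refl (l₀ ++ [i]) p = C.D.neg (reflW R.refl l₀ p) := by
        rw [reflW_append]
        show reflW R.refl l₀ (R.refl i p) = _
        rw [hreflp]
        exact (R.negCompat_word M.nr l₀ hl₀ p hpl).1
      rw [h1] at himg
      have hlt := R.reflW_lt l₀ hl₀ p hpl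
      have hnotpos : ¬ C.D.IsPosRoot (reflW R.refl l₀ p) := by
        intro hpos
        have := levR_nonneg J (L.vs _ hlt) hpos
        rw [levR_neg J (L.vs _ hlt)] at himg
        omega
      obtain ⟨l1, j, l2, e, h3⟩ := exists_simple_of_walk C.D R.refl M.wp l₀ hl₀ p hns.2 hnotpos
      subst e
      have hl1 : ∀ a ∈ l1, a < C.D.rank := fun a ha => hl₀ a (by simp [ha])
      have hl2 : ∀ a ∈ l2, a < C.D.rank := fun a ha => hl₀ a (by simp [ha])
      have hj : j < C.D.rank := hl₀ j (by simp)
      have hdel := M.reflW_deletion L.dec l1 l2 i j hl1 hl2 hi hj h3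
      have hl12 : ∀ a ∈ l1 ++ l2, a < C.D.rank := by
        intro a ha
        rcases List.mem_append.mp ha with h | h
        · exact hl1 a h
        · exact hl2 a h
      have hlt12 : (l1 ++ l2).length < k := by
        rw [← hk]; simp
      obtain ⟨l', hl', he⟩ := ih _ hlt12 (l1 ++ l2) rfl hl12 (by
        intro s hs h1
        rw [← hdel s hs]
        exact hpres s hs h1)
      exact ⟨l', hl', fun s hs => by rw [hdel s hs]; exact he s hs⟩

include K Hy hrv hinj in
/-- S1049 -/
theorem LeviHyp.normalizer_inf_group (_hJ : ∀ j ∈ J, j < C.D.rank) :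
    Subgroup.normalizer (C.D.unipotentRadical F J : Set (GL C.D.Idx F)) ⊓ C.D.group F =
      C.D.parabolicSubgroup F J := by
  classical
  have hBG : C.D.borelSubgroup F ≤ C.D.group F := (R.borel_sup_monomial Hy.root Hy.nc).1
  have hNG : C.D.monomialSubgroup F ≤ C.D.group F := (R.borel_sup_monomial Hy.root Hy.nc).2.1
  have hBP : C.D.borelSubgroup F ≤ C.D.parabolicSubgroup F J := le_sup_left
  have hHP : C.D.diagonalSubgroup F ≤ C.D.parabolicSubgroup F J := le_sup_right.trans hBP
  have hPN := L.parabolic_le_normalizer (F := F) K J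
  apply le_antisymm
  · rintro g ⟨hgN, hgG⟩
    set P := K.bnPair (F := F) Hy with hP
    have hPB : P.B = (C.D.borelSubgroup F).subgroupOf (C.D.group F) := rfl
    have hPNn : P.N = (C.D.monomialSubgroup F).subgroupOf (C.D.group F) := rfl
    obtain ⟨nG, hnG, hmem⟩ := Cfsg.Agent.S0308.result P ⟨g, hgG⟩
    obtain ⟨b₁, hb₁, b₂, hb₂, e⟩ := mem_doubleCoset.mp hmem
    rw [SetLike.mem_coe, hPB, Subgroup.mem_subgroupOf] at hb₁ hb₂
    rw [hPNn, Subgroup.mem_subgroupOf] at hnG
    have e' : g = (b₁ : GL C.D.Idx F) * (nG : GL C.D.Idx F) * (b₂ : GL C.D.Idx F) := by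
      have := congrArg Subtype.val e
      simpa using this
    -- `n` normalizes `U_J`
    have hnN : (nG : GL C.D.Idx F) ∈ Subgroup.normalizer (C.D.unipotentRadical F J : Set (GL C.D.Idx F)) := by
      have e2 : (nG : GL C.D.Idx F) = (b₁ : GL C.D.Idx F)⁻¹ * g * (b₂ : GL C.D.Idx F)⁻¹ := by rw [e']; group
      rw [e2]
      exact Subgroup.mul_mem _ (Subgroup.mul_mem _ (Subgroup.inv_mem _ (hPN (hBP hb₁))) hgN)
        (Subgroup.inv_mem _ (hPN (hBP hb₂)))
    obtain ⟨h, hh, l, hl, en⟩ := Hy.mono.monomial_decomp (nG : GL C.D.Idx F) hnG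
    obtain ⟨d, hd⟩ := Hy.mono.conj_word_xU (F := F) Hy.dec h hh l hl
    have hpres : ∀ s < C.D.nroots, 1 ≤ levR C.D L.vec J s → 1 ≤ levR C.D L.vec J (reflW R.refl l s) := by
      intro s hs h1
      obtain ⟨hpos, hnot⟩ := L.pos_of_levR_pos J s hs h1
      have hx : R.xU s (1 : F) ∈ C.D.unipotentRadical F J :=
        Subgroup.subset_closure ⟨s, 1, hpos, hnot, R.xU_val s 1⟩
      have hconj := (Subgroup.mem_normalizer_iff.mp hnN (R.xU s 1)).mp hx
      rw [en, (hd s hs).2 1, mul_one] at hconj
      exact L.levR_pos_of_mem hinj J _ (R.reflW_lt l hl s hs) _ (hd s hs).1 hconj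
    obtain ⟨l', hl', he⟩ := L.exists_word_in hrv J Hy.mono _ l rfl hl hpres
    obtain ⟨h', hh', e3⟩ := Hy.mono.coset_of_reflW_eq (F := F) Hy.dec l l' hl (fun i hi => (hl' i hi).1) he
    have hl'P : R.nWordU (F := F) l' ∈ C.D.parabolicSubgroup F J := by
      unfold RelData.nWordU
      apply Subgroup.list_prod_mem
      intro x hx
      obtain ⟨i, hi, rfl⟩ := List.mem_map.mp hx
      apply Subgroup.mem_sup_right
      apply Subgroup.subset_closure
      exact ⟨i, (hl' i hi).2, (hl' i hi).1, R.nU_val _ _⟩
    have hnP : (nG : GL C.D.Idx F) ∈ C.D.parabolicSubgroup F J := by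
      rw [en, e3]
      exact Subgroup.mul_mem _ (hHP hh) (Subgroup.mul_mem _ (hHP hh') hl'P)
    rw [e']
    exact Subgroup.mul_mem _ (Subgroup.mul_mem _ (hBP hb₁) hnP) (hBP hb₂)
  · refine le_inf hPN ?_
    unfold ChevalleyDatum.parabolicSubgroup
    refine sup_le hBG ?_
    rw [Subgroup.closure_le]
    rintro g ⟨j, -, hj, hg⟩
    have e : g = R.nU (C.D.simple j) (1 : F) := Units.ext (by rw [hg, R.nU_val])
    rw [e]
    exact hNG (R.nU_simple_mem j hj)

end

end Cfsg.Agent.Lib.Helper3.ChevM
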