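import Mathlib
import Cfsg.Prelude.Def_ChevStructure
import Cfsg.Agent.Lib.Helper3.BT2
import Cfsg.Agent.Lib.Helper3.ChevL3
import Cfsg.Agent.Lib.Helper3.ChevH2
set_option autoImplicit false
set_option linter.unusedSectionVars false
open Cfsg Cfsg.Lie

/-! The weights of the coordinates of a Chevalley group in a Euclidean space, and the levels of the root elements, of
the diagonal subgroup and of the monomial subgroup. -/

namespace Cfsg.Agent.Lib.Helper3.BT

open Cfsg.Agent.Lib.Helper3.ChevM Cfsg.Agent.Lib.Helper3 ChevT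
open scoped RealInnerProductSpace

section weights
variable {E : Type*} [NormedAddCommGroup E] [InnerProductSpace ℝ E]

/-- The vector of a root, from its coordinates on the fundamental roots. -/
def wtV (D : ChevalleyDatum) (vec : ℕ → ℕ → ℤ) (av : Fin D.rank → E) (s : ℕ) : E :=
  ∑ a : Fin D.rank, (vec s a.val : ℝ) • av a

/-- The vector of a coordinate code. -/
def wtC (D : ChevalleyDatum) (vec : ℕ → ℕ → ℤ) (av : Fin D.rank → E) (c : ℕ) : E :=
  ∑ a : Fin D.rank, (vecI D vec c a.val : ℝ) • av a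

/-- The weight of a coordinate. -/
def wtI (D : ChevalleyDatum) (vec : ℕ → ℕ → ℤ) (av : Fin D.rank → E) (j : D.Idx) : E := wtC D vec av (code D j)

variable (D : ChevalleyDatum) (vec : ℕ → ℕ → ℤ) (av : Fin D.rank → E)

theorem wtI_inl (i : Fin D.rank) : wtI D vec av (Sum.inl i) = 0 := by
  unfold wtI wtC
  apply Finset.sum_eq_zero
  intro a _
  have : vecI D vec (code D (Sum.inl i)) a.val = 0 := by
    unfold vecI
    rw [if_pos]
    exact i.isLt
  rw [this]
  simp

theorem wtI_inr (s : Fin D.nroots) : wtI D vec av (Sum.inr s) = wtV D vec av s.val := by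
  unfold wtI wtC wtV
  apply Finset.sum_congr rfl
  intro a _
  have : vecI D vec (code D (Sum.inr s)) a.val = vec s.val a.val := by
    unfold vecI
    have h1 : ¬ code D (Sum.inr s) < D.rank := by simp [code]
    rw [if_neg h1]
    simp [code]
  rw [this]

theorem inner_wtV (s : ℕ) (y : E) : ⟪wtV D vec av s, y⟫ = ∑ a : Fin D.rank, (vec s a.val : ℝ) * ⟪av a, y⟫ := by
  unfold wtV
  rw [sum_inner]
  apply Finset.sum_congr rfl
  intro a _
  rw [real_inner_smul_left]

end weights

section entries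
variable {E : Type*} [NormedAddCommGroup E] [InnerProductSpace ℝ E]
variable {F : Type*} [Field F] {C : CDatum} {vec : ℕ → ℕ → ℤ} (av : Fin C.D.rank → E)

/-- The entries of `x_r(t) - 1` relate weights differing by a positive multiple of `r`. -/
theorem x_entry_vec {r : ℕ} (hr : r < C.D.nroots) (hw : wtCheck C vec r = true) (t : F) (i j : C.D.Idx)
    (hne : (C.D.x F r t - 1) i j ≠ 0) :
    ∃ d : ℕ, 1 ≤ d ∧ ∀ a < C.D.rank,
      vecI C.D vec (code C.D i) a = vecI C.D vec (code C.D j) a + d * vec r a := by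
  unfold ChevalleyDatum.x at hne
  rw [dif_pos hr, Matrix.sub_apply, xMat_entry, Matrix.one_apply, add_sub_cancel_left] at hne
  unfold colSum at hne
  have : ∃ e ∈ C.cols r (code C.D j), e.row = code C.D i := by
    by_contra hcon
    push Not at hcon
    apply hne
    apply List.sum_eq_zero
    intro x hx
    simp only [List.mem_map, List.mem_filter, decide_eq_true_eq] at hx
    obtain ⟨e, ⟨he, hrow⟩, rfl⟩ := hx
    rw [← C.ok r hr _ (code_lt C.D j)] at he
    exact absurd hrow (hcon e he)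
  obtain ⟨e, he, hrow⟩ := this
  simp only [wtCheck, List.all_eq_true, List.mem_range, Bool.and_eq_true, decide_eq_true_eq] at hw
  obtain ⟨⟨h1, -⟩, h3⟩ := hw _ (code_lt C.D j) e he
  refine ⟨e.deg, h1, fun a ha => ?_⟩
  rw [← hrow]
  exact h3 a ha

theorem x_entry_wt {r : ℕ} (hr : r < C.D.nroots) (hw : wtCheck C vec r = true) (t : F) (i j : C.D.Idx)
    (hne : (C.D.x F r t - 1) i j ≠ 0) :
    ∃ d : ℕ, 1 ≤ d ∧ wtI C.D vec av i = wtI C.D vec av j + (d : ℝ) • wtV C.D vec av r := by
  obtain ⟨d, hd, h⟩ := x_entry_vec hr hw t i j hne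
  refine ⟨d, hd, ?_⟩
  unfold wtI wtC wtV
  rw [Finset.smul_sum, ← Finset.sum_add_distrib]
  apply Finset.sum_congr rfl
  intro a _
  rw [h a.val a.isLt]
  push_cast
  rw [add_smul, mul_smul]

/-- The levels of the entries of `x_r(t) - 1`. -/
theorem x_entry_pos {r : ℕ} (hr : r < C.D.nroots) (hw : wtCheck C vec r = true) (t : F) (i j : C.D.Idx)
    (hne : (C.D.x F r t - 1) i j ≠ 0) (y : E) :
    ∃ d : ℕ, 1 ≤ d ∧ posE (wtI C.D vec av) y i = posE (wtI C.D vec av) y j + (d : ℝ) * ⟪wtV C.D vec av r, y⟫ := by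
  obtain ⟨d, hd, h⟩ := x_entry_wt av hr hw t i j hne
  refine ⟨d, hd, ?_⟩
  unfold posE
  rw [h, inner_add_left, real_inner_smul_left]

/-- Root elements of non-negative level raise the levels. -/
theorem rshift_x {r : ℕ} (hr : r < C.D.nroots) (hw : wtCheck C vec r = true) (t : F) (y : E)
    (h0 : 0 ≤ ⟪wtV C.D vec av r, y⟫) :
    RShift (posE (wtI C.D vec av) y) ⟪wtV C.D vec av r, y⟫ (C.D.x F r t - 1) := by
  intro i j hij
  by_contra hne
  obtain ⟨d, hd, h⟩ := x_entry_pos av hr hw t i j hne y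
  have : (1 : ℝ) ≤ d := by exact_mod_cast hd
  nlinarith

end entries

section groups
variable {E : Type*} [NormedAddCommGroup E] [InnerProductSpace ℝ E]
variable {F : Type*} [Field F] {C : CDatum} {R : RelData C} (L : LeviHyp C R) (av : Fin C.D.rank → E)
include L

/-- The coordinates of a positive root are non-negative. -/
theorem vec_nonneg {r : ℕ} (hpos : C.D.IsPosRoot r) (a : ℕ) (ha : a < C.D.rank) : 0 ≤ L.vec r a := by
  have hv := L.vs r hpos.1
  obtain ⟨-, h2, -⟩ := vec_spec hv a ha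
  have := coroot_getD_nonneg hv hpos a ha
  by_contra hneg
  have := h2.mpr (by omega)
  omega

/-- The level of a positive root with respect to a dominant vector is non-negative. -/
theorem inner_wtV_nonneg {r : ℕ} (hpos : C.D.IsPosRoot r) (y : E) (hy : ∀ i, 0 ≤ ⟪av i, y⟫) :
    0 ≤ ⟪wtV C.D L.vec av r, y⟫ := by
  rw [inner_wtV]
  apply Finset.sum_nonneg
  intro a _
  exact mul_nonneg (by exact_mod_cast vec_nonneg L hpos a.val a.isLt) (hy a)

/-- The level of a positive root outside the subsystem of the walls of a dominant vector is positive. -/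
theorem inner_wtV_pos {r : ℕ} (hpos : C.D.IsPosRoot r) (y : E) (hy : ∀ i, 0 ≤ ⟪av i, y⟫)
    (J : Set ℕ) (hJ : ∀ i : Fin C.D.rank, i.val ∉ J → 0 < ⟪av i, y⟫) (hr : ¬ C.D.InRootSub J r) :
    0 < ⟪wtV C.D L.vec av r, y⟫ := by
  have hex : ∃ a < C.D.rank, a ∉ J ∧ (C.D.coroot.getD r #[]).getD a 0 ≠ 0 := by
    by_contra hne
    push Not at hne
    exact hr ⟨hpos.1, fun i hi hiJ => hne i hi hiJ⟩
  obtain ⟨a, ha, haJ, hne⟩ := hex
  have hv := L.vs r hpos.1
  have hnn := coroot_getD_nonneg hv hpos a ha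
  obtain ⟨h1, -, -⟩ := vec_spec hv a ha
  have hva : 1 ≤ L.vec r a := by
    have := h1.mp (by omega)
    omega
  rw [inner_wtV]
  have hle : (L.vec r a : ℝ) * ⟪av ⟨a, ha⟩, y⟫ ≤ ∑ b : Fin C.D.rank, (L.vec r b.val : ℝ) * ⟪av b, y⟫ :=
    Finset.single_le_sum (f := fun b : Fin C.D.rank => (L.vec r b.val : ℝ) * ⟪av b, y⟫)
      (fun b _ => mul_nonneg (by exact_mod_cast vec_nonneg L hpos b.val b.isLt) (hy b)) (Finset.mem_univ ⟨a, ha⟩)
  have h2 : 0 < ⟪av ⟨a, ha⟩, y⟫ := hJ ⟨a, ha⟩ haJ
  have h3 : (1 : ℝ) ≤ L.vec r a := by exact_mod_cast hva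
  nlinarith

/-- The level of a root of the subsystem of the walls of a vector vanishes. -/
theorem inner_wtV_eq_zero {r : ℕ} (y : E) (J : Set ℕ) (hJ : ∀ i : Fin C.D.rank, i.val ∈ J → ⟪av i, y⟫ = 0)
    (hr : C.D.InRootSub J r) : ⟪wtV C.D L.vec av r, y⟫ = 0 := by
  rw [inner_wtV]
  apply Finset.sum_eq_zero
  intro a _
  by_cases haJ : a.val ∈ J
  · rw [hJ a haJ, mul_zero]
  · have h0 := hr.2 a.val a.isLt haJ
    obtain ⟨h1, h2, -⟩ := vec_spec (L.vs r hr.1) a.val a.isLt
    rw [h0] at h1 h2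
    have : L.vec r a.val = 0 := by
      have : ¬ 0 < L.vec r a.val := fun h => absurd (h1.mpr h) (lt_irrefl _)
      have : ¬ L.vec r a.val < 0 := fun h => absurd (h2.mpr h) (lt_irrefl _)
      omega
    rw [this]
    simp

/-- The diagonal subgroup preserves the levels of every vector. -/
theorem diagonal_le_gr0 (y : E) :
    C.D.diagonalSubgroup F ≤ gr0Subgroup (posE (wtI C.D L.vec av) y) F := by
  intro h hh
  obtain ⟨c, -, hd⟩ := R.diagonalSubgroup_le_torus L.dec hh
  rw [mem_gr0Subgroup_iff]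
  intro i j hij
  rw [hd, Matrix.diagonal_apply_ne]
  rintro rfl
  exact hij rfl

/-- The elements of the diagonal subgroup preserve the weights. -/
theorem diagonal_graded (h : GL C.D.Idx F) (hh : h ∈ C.D.diagonalSubgroup F) :
    Graded (wtI C.D L.vec av) id (h : Matrix C.D.Idx C.D.Idx F) := by
  intro i j hij
  obtain ⟨c, -, hd⟩ := R.diagonalSubgroup_le_torus L.dec hh
  by_cases e : i = j
  · subst e; rfl
  · rw [hd, Matrix.diagonal_apply_ne _ e] at hij
    exact absurd rfl hij

/-- The subgroup `U` raises the levels of a dominant vector. -/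
theorem posUnipotent_le_rut (y : E) (hy : ∀ i, 0 ≤ ⟪av i, y⟫) :
    C.D.posUnipotent F ≤ rutSubgroup (posE (wtI C.D L.vec av) y) F 0 le_rfl := by
  unfold ChevalleyDatum.posUnipotent
  rw [Subgroup.closure_le]
  rintro g ⟨r, t, hpos, hg⟩
  show RShift _ 0 ((g : Matrix C.D.Idx C.D.Idx F) - 1)
  rw [hg]
  exact (rshift_x av hpos.1 (L.wt r hpos.1) t y (inner_wtV_nonneg L av hpos y hy)).mono
    (inner_wtV_nonneg L av hpos y hy)

/-- The subgroup `B` preserves the filtration of a dominant vector. -/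
theorem borel_rshift (y : E) (hy : ∀ i, 0 ≤ ⟪av i, y⟫) (b : GL C.D.Idx F) (hb : b ∈ C.D.borelSubgroup F) :
    RShift (posE (wtI C.D L.vec av) y) 0 (b : Matrix C.D.Idx C.D.Idx F) := by
  have hle : C.D.borelSubgroup F ≤ (rutSubgroup (posE (wtI C.D L.vec av) y) F 0 le_rfl) ⊔
      gr0Subgroup (posE (wtI C.D L.vec av) y) F :=
    sup_le_sup (posUnipotent_le_rut L av y hy) (diagonal_le_gr0 L av y)
  have hT : (rutSubgroup (posE (wtI C.D L.vec av) y) F 0 le_rfl) ⊔ gr0Subgroup (posE (wtI C.D L.vec av) y) F ≤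
      { carrier := {g | RShift (posE (wtI C.D L.vec av) y) 0 (g : Matrix C.D.Idx C.D.Idx F)}
        mul_mem' := by
          intro a b ha hb
          simp only [Set.mem_ofPred_eq, Units.val_mul] at *
          have := ha.mul hb
          rwa [zero_add] at this
        one_mem' := by
          simp only [Set.mem_ofPred_eq, Units.val_one]
          exact rshift_zero_one
        inv_mem' := by
          intro a ha
          exact RShift.inv ha : Subgroup (GL C.D.Idx F) } := by
    refine sup_le ?_ ?_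
    · intro g hg
      have h1 : RShift _ 0 ((g : Matrix C.D.Idx C.D.Idx F) - 1) := hg
      have := h1.add (rshift_zero_one (pos := posE (wtI C.D L.vec av) y) (R := F))
      simpa using this
    · intro g hg
      exact hg.1
  exact hT (hle hb)

end groups

end Cfsg.Agent.Lib.Helper3.BT
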