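import Mathlib
import Cfsg.Prelude.Def_ChevStructure
import Cfsg.Agent.Lib.Helper3.BT3
set_option autoImplicit false
set_option linter.unusedSectionVars false
open Cfsg Cfsg.Lie

/-! The monomial subgroup of a Chevalley group permutes the weights of the coordinates through the reflections of a
Euclidean realization of the root system. -/

namespace Cfsg.Agent.Lib.Helper3.BT

open Cfsg.Agent.Lib.Helper3.ChevM Cfsg.Agent.Lib.Helper3 ChevT ChevH
open scoped RealInnerProductSpace

theorem refl_formula {E : Type*} [NormedAddCommGroup E] [InnerProductSpace ℝ E] (u v : E) :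
    (ℝ ∙ u)ᗮ.reflection v = v - (2 / ⟪u, u⟫ * ⟪u, v⟫) • u := by
  rw [Submodule.reflection_orthogonal_apply, Submodule.reflection_singleton_apply]
  simp only [RCLike.ofReal_real_eq_id, id_eq]
  rw [real_inner_self_eq_norm_sq]
  rw [neg_sub, two_nsmul, ← add_smul]
  congr 2
  ring

/-- A fundamental reflection subtracts the Cartan integer from one coordinate of a root. -/
def reflVecCheck2 (D : ChevalleyDatum) (refl : ℕ → ℕ → ℕ) (vec : ℕ → ℕ → ℤ) (i s : ℕ) : Bool :=
  (List.range D.rank).all fun a => decide (vec (refl i s) a = vec s a - (if a = i then D.cartan i s else 0))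

/-- The coordinates of a positive root have a positive sum. -/
def htCheck (D : ChevalleyDatum) (vec : ℕ → ℕ → ℤ) (r : ℕ) : Bool :=
  !decide (D.IsPosRoot r) || decide (1 ≤ ((List.range D.rank).map fun a => vec r a).sum)

/-- A Euclidean realization of the root system of a datum. -/
structure EucHyp {C : CDatum} {R : RelData C} (L : LeviHyp C R) (E : Type*) [NormedAddCommGroup E]
    [InnerProductSpace ℝ E] where
  av : Fin C.D.rank → E
  ρ : E
  hpos : ∀ i, 0 < ⟪av i, av i⟫
  hcart : ∀ i j : Fin C.D.rank, 2 * ⟪av i, av j⟫ = (C.D.cartan i.val (C.D.simple j.val) : ℝ) * ⟪av i, av i⟫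
  hρ : ∀ i, 1 ≤ ⟪av i, ρ⟫
  hvec : ∀ i < C.D.rank, ∀ s < C.D.nroots, vecCheck C.D L.vec i s = true
  hrv : ∀ i < C.D.rank, ∀ s < C.D.nroots, reflVecCheck2 C.D R.refl L.vec i s = true
  hsimple : ∀ i < C.D.rank, ∀ j < C.D.rank, L.vec (C.D.simple i) j = if j = i then 1 else 0
  hht : ∀ r < C.D.nroots, htCheck C.D L.vec r = true

section
variable {E : Type*} [NormedAddCommGroup E] [InnerProductSpace ℝ E]
variable {F : Type*} [Field F] {C : CDatum} {R : RelData C} {L : LeviHyp C R} (X : EucHyp L E)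

/-- The level of a positive root with respect to `ρ` is at least one. -/
theorem EucHyp.one_le_inner_rho {r : ℕ} (hpos : C.D.IsPosRoot r) : 1 ≤ ⟪wtV C.D L.vec X.av r, X.ρ⟫ := by
  have h1 := X.hht r hpos.1
  simp only [htCheck, Bool.or_eq_true, Bool.not_eq_true', decide_eq_false_iff_not, decide_eq_true_eq] at h1
  rcases h1 with h1 | h1
  · exact absurd hpos h1
  rw [list_range_sum_eq] at h1
  rw [inner_wtV]
  have h2 : ∑ a : Fin C.D.rank, ((L.vec r a.val : ℤ) : ℝ) * 1 ≤
      ∑ a : Fin C.D.rank, ((L.vec r a.val : ℤ) : ℝ) * ⟪X.av a, X.ρ⟫ :=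
    Finset.sum_le_sum fun a _ =>
      mul_le_mul_of_nonneg_left (X.hρ a) (by exact_mod_cast vec_nonneg L hpos a.val a.isLt)
  have h3 : (1 : ℝ) ≤ ((∑ a : Fin C.D.rank, L.vec r a.val : ℤ) : ℝ) := by exact_mod_cast h1
  push_cast at h3
  simp only [mul_one] at h2
  linarith

/-- The vector of a fundamental root. -/
theorem EucHyp.wtV_simple (i : Fin C.D.rank) : wtV C.D L.vec X.av (C.D.simple i.val) = X.av i := by
  unfold wtV
  rw [Finset.sum_eq_single i]
  · rw [X.hsimple i.val i.isLt i.val i.isLt, if_pos rfl]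
    simp
  · intro a _ hai
    have : a.val ≠ i.val := fun h => hai (Fin.ext h)
    rw [X.hsimple i.val i.isLt a.val a.isLt, if_neg this]
    simp
  · intro h; exact absurd (Finset.mem_univ i) h

/-- The vector of the negative of a root. -/
theorem EucHyp.wtV_neg (r : ℕ) (hr : r < C.D.nroots) :
    wtV C.D L.vec X.av (C.D.neg r) = -wtV C.D L.vec X.av r := by
  unfold wtV
  rw [← Finset.sum_neg_distrib]
  apply Finset.sum_congr rfl
  intro a _
  rw [(vec_spec (L.vs r hr) a.val a.isLt).2.2]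
  push_cast
  rw [neg_smul]

/-- The Cartan integer as a normalized inner product. -/
theorem EucHyp.cartan_eq (i : Fin C.D.rank) (s : ℕ) (hs : s < C.D.nroots) :
    2 / ⟪X.av i, X.av i⟫ * ⟪X.av i, wtV C.D L.vec X.av s⟫ = (C.D.cartan i.val s : ℝ) := by
  have h1 := X.hvec i.val i.isLt s hs
  simp only [vecCheck, decide_eq_true_eq] at h1
  rw [list_range_sum_eq] at h1
  rw [h1]
  push_cast
  unfold wtV
  rw [inner_sum, Finset.mul_sum]
  apply Finset.sum_congr rfl
  intro a _
  rw [real_inner_smul_right]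
  have h2 := X.hcart i a
  have h3 := X.hpos i
  field_simp
  have h4 : 2 * ((L.vec s a.val : ℤ) : ℝ) * ⟪X.av i, X.av a⟫ =
      ((L.vec s a.val : ℤ) : ℝ) * (2 * ⟪X.av i, X.av a⟫) := by ring
  rw [h4, h2]
  ring

/-- The reflection in a fundamental root acts on the vectors of the roots as on the indices. -/
theorem EucHyp.sigma_wtV (i : Fin C.D.rank) (s : ℕ) (hs : s < C.D.nroots) :
    (ℝ ∙ X.av i)ᗮ.reflection (wtV C.D L.vec X.av s) = wtV C.D L.vec X.av (R.refl i.val s) := by
  rw [refl_formula, X.cartan_eq i s hs]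
  have h1 := X.hrv i.val i.isLt s hs
  simp only [reflVecCheck2, List.all_eq_true, List.mem_range, decide_eq_true_eq] at h1
  unfold wtV
  have e : ∀ a : Fin C.D.rank, ((L.vec (R.refl i.val s) a.val : ℤ) : ℝ) • X.av a =
      ((L.vec s a.val : ℤ) : ℝ) • X.av a - (if a = i then (C.D.cartan i.val s : ℝ) • X.av i else 0) := by
    intro a
    rw [h1 a.val a.isLt]
    by_cases hai : a = i
    · subst hai
      rw [if_pos rfl, if_pos rfl]
      push_cast
      rw [sub_smul]
    · have : a.val ≠ i.val := fun h => hai (Fin.ext h)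
      rw [if_neg this, if_neg hai]
      simp
  rw [Finset.sum_congr rfl (fun a _ => e a), Finset.sum_sub_distrib, Finset.sum_ite_eq' Finset.univ i]
  simp

/-- The matrix of `n_i` permutes the weights through the reflection in the `i`-th fundamental root. -/
theorem EucHyp.graded_nU (i : Fin C.D.rank) :
    Graded (wtI C.D L.vec X.av) (ℝ ∙ X.av i)ᗮ.reflection
      ((R.nU (C.D.simple i.val) (1 : F) : GL C.D.Idx F) : Matrix C.D.Idx C.D.Idx F) := by
  rw [R.nU_val, R.nMat_simple i.val i.isLt]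
  intro row col hne
  rcases row with j' | s' <;> rcases col with j | s
  · rw [wtI_inl, wtI_inl, map_zero]
  · exfalso; apply hne; simp [nMatrix]
  · exfalso; apply hne; simp [nMatrix]
  · rw [wtI_inr, wtI_inr]
    have : (s' : ℕ) = C.D.reflectRoot i.val s.val := by
      by_contra h
      apply hne
      simp [nMatrix, h]
    rw [X.sigma_wtV i s.val s.isLt, R.refl_eq i.val i.isLt s.val s.isLt, this]

theorem EucHyp.graded_nU_inv (i : Fin C.D.rank) :
    Graded (wtI C.D L.vec X.av) (ℝ ∙ X.av i)ᗮ.reflection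
      (((R.nU (C.D.simple i.val) (1 : F))⁻¹ : GL C.D.Idx F) : Matrix C.D.Idx C.D.Idx F) := by
  have hk : (R.nU (C.D.simple i.val) (1 : F) * R.nU (C.D.simple i.val) (1 : F))⁻¹ ∈ C.D.diagonalSubgroup F :=
    Subgroup.inv_mem _ (R.nU_sq_mem _ (R.simple_lt i.val i.isLt))
  have e : (R.nU (C.D.simple i.val) (1 : F))⁻¹ =
      (R.nU (C.D.simple i.val) (1 : F) * R.nU (C.D.simple i.val) (1 : F))⁻¹ * R.nU (C.D.simple i.val) (1 : F) := by
    group
  rw [e, Units.val_mul]
  exact (diagonal_graded L X.av _ hk).mul (X.graded_nU i)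

/-- Words in the `n_i` permute the weights through isometries. -/
theorem EucHyp.graded_nWordU (l : List ℕ) (hl : ∀ i ∈ l, i < C.D.rank) :
    ∃ w : E ≃ₗᵢ[ℝ] E, Graded (wtI C.D L.vec X.av) w ((R.nWordU (F := F) l : GL C.D.Idx F) : Matrix C.D.Idx C.D.Idx F) ∧
      Graded (wtI C.D L.vec X.av) w.symm (((R.nWordU (F := F) l)⁻¹ : GL C.D.Idx F) : Matrix C.D.Idx C.D.Idx F) := by
  induction l with
  | nil =>
    refine ⟨LinearIsometryEquiv.refl ℝ E, ?_, ?_⟩
    · rw [R.nWordU_nil, Units.val_one]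
      exact graded_one
    · rw [R.nWordU_nil, inv_one, Units.val_one]
      exact graded_one
  | cons i l ih =>
    have hi := hl i List.mem_cons_self
    obtain ⟨w, hw, hw'⟩ := ih (fun j hj => hl j (List.mem_cons_of_mem _ hj))
    refine ⟨w.trans (ℝ ∙ X.av ⟨i, hi⟩)ᗮ.reflection, ?_, ?_⟩
    · rw [R.nWordU_cons, Units.val_mul, LinearIsometryEquiv.coe_trans]
      exact (X.graded_nU ⟨i, hi⟩).mul hw
    · rw [R.nWordU_cons, mul_inv_rev, Units.val_mul, LinearIsometryEquiv.symm_trans, LinearIsometryEquiv.coe_trans,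
        Submodule.reflection_symm]
      exact hw'.mul (X.graded_nU_inv ⟨i, hi⟩)

/-- The elements of the monomial subgroup permute the weights through isometries. -/
theorem EucHyp.graded_monomial (M : MonoHyp C R) (n : GL C.D.Idx F) (hn : n ∈ C.D.monomialSubgroup F) :
    ∃ w : E ≃ₗᵢ[ℝ] E, Graded (wtI C.D L.vec X.av) w (n : Matrix C.D.Idx C.D.Idx F) ∧
      Graded (wtI C.D L.vec X.av) w.symm ((n⁻¹ : GL C.D.Idx F) : Matrix C.D.Idx C.D.Idx F) := by
  obtain ⟨h, hh, l, hl, rfl⟩ := M.monomial_decomp n hn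
  obtain ⟨w, hw, hw'⟩ := X.graded_nWordU (F := F) l hl
  refine ⟨w, ?_, ?_⟩
  · rw [Units.val_mul]
    exact (diagonal_graded L X.av _ hh).mul hw
  · rw [mul_inv_rev, Units.val_mul]
    exact hw'.mul (diagonal_graded L X.av _ (Subgroup.inv_mem _ hh))

end

end Cfsg.Agent.Lib.Helper3.BT
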