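import Mathlib
set_option autoImplicit false
set_option linter.unusedSectionVars false

/-!
Automorphisms of a subgroup `Γ` of a group, extended to functions on the ambient group
(identity outside `Γ`), and the subgroups they preserve.
-/

namespace Cfsg.Agent.Lib.Helper3.ChevAut

section
variable {G₀ : Type*} [Group G₀] {Γ : Subgroup G₀}

open Classical in
/-- The automorphism as a function on the ambient group (identity outside `Γ`). -/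
noncomputable def ex (θ : ↥Γ ≃* ↥Γ) (g : G₀) : G₀ :=
  if h : g ∈ Γ then ((θ ⟨g, h⟩ : ↥Γ) : G₀) else g

theorem ex_of_mem (θ : ↥Γ ≃* ↥Γ) {g : G₀} (h : g ∈ Γ) : ex θ g = ((θ ⟨g, h⟩ : ↥Γ) : G₀) := by
  unfold ex
  rw [dif_pos h]

theorem ex_coe (θ : ↥Γ ≃* ↥Γ) (g : ↥Γ) : ex θ (g : G₀) = ((θ g : ↥Γ) : G₀) := by
  rw [ex_of_mem θ g.2]

theorem ex_mem (θ : ↥Γ ≃* ↥Γ) {g : G₀} (h : g ∈ Γ) : ex θ g ∈ Γ := by
  rw [ex_of_mem θ h]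
  exact (θ ⟨g, h⟩).2

theorem ex_mul (θ : ↥Γ ≃* ↥Γ) {g h : G₀} (hg : g ∈ Γ) (hh : h ∈ Γ) :
    ex θ (g * h) = ex θ g * ex θ h := by
  rw [ex_of_mem θ hg, ex_of_mem θ hh, ex_of_mem θ (Subgroup.mul_mem _ hg hh)]
  have : (⟨g * h, Subgroup.mul_mem _ hg hh⟩ : ↥Γ) = ⟨g, hg⟩ * ⟨h, hh⟩ := rfl
  rw [this, map_mul]
  rfl

theorem ex_one (θ : ↥Γ ≃* ↥Γ) : ex θ (1 : G₀) = 1 := by
  rw [ex_of_mem θ (Subgroup.one_mem _)]
  have : (⟨1, Subgroup.one_mem _⟩ : ↥Γ) = 1 := rfl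
  rw [this, map_one]
  rfl

theorem ex_inv (θ : ↥Γ ≃* ↥Γ) {g : G₀} (hg : g ∈ Γ) : ex θ g⁻¹ = (ex θ g)⁻¹ := by
  rw [ex_of_mem θ hg, ex_of_mem θ (Subgroup.inv_mem _ hg)]
  have : (⟨g⁻¹, Subgroup.inv_mem _ hg⟩ : ↥Γ) = (⟨g, hg⟩ : ↥Γ)⁻¹ := rfl
  rw [this, map_inv]
  rfl

theorem ex_conj_mul (θ : ↥Γ ≃* ↥Γ) {g h : G₀} (hg : g ∈ Γ) (hh : h ∈ Γ) :
    ex θ (g * h * g⁻¹) = ex θ g * ex θ h * (ex θ g)⁻¹ := by
  rw [ex_mul θ (Subgroup.mul_mem _ hg hh) (Subgroup.inv_mem _ hg), ex_mul θ hg hh, ex_inv θ hg]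

theorem ex_injOn (θ : ↥Γ ≃* ↥Γ) {g h : G₀} (hg : g ∈ Γ) (hh : h ∈ Γ)
    (e : ex θ g = ex θ h) : g = h := by
  rw [ex_of_mem θ hg, ex_of_mem θ hh] at e
  have := θ.injective (Subtype.ext e)
  exact congrArg Subtype.val this

theorem ex_eq_one (θ : ↥Γ ≃* ↥Γ) {g : G₀} (hg : g ∈ Γ) (e : ex θ g = 1) : g = 1 := by
  apply ex_injOn θ hg (Subgroup.one_mem _)
  rw [e, ex_one]

theorem ex_symm_ex (θ : ↥Γ ≃* ↥Γ) {g : G₀} (hg : g ∈ Γ) : ex θ.symm (ex θ g) = g := by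
  rw [ex_of_mem θ hg, ex_coe, MulEquiv.symm_apply_apply]

theorem ex_ex_symm (θ : ↥Γ ≃* ↥Γ) {g : G₀} (hg : g ∈ Γ) : ex θ (ex θ.symm g) = g := by
  rw [ex_of_mem θ.symm hg, ex_coe, MulEquiv.apply_symm_apply]

theorem exists_ex_eq (θ : ↥Γ ≃* ↥Γ) {g : G₀} (hg : g ∈ Γ) : ∃ g' ∈ Γ, ex θ g' = g :=
  ⟨ex θ.symm g, ex_mem _ hg, ex_ex_symm θ hg⟩

theorem ex_mul_aut (θ φ : MulAut ↥Γ) {g : G₀} (hg : g ∈ Γ) : ex (θ * φ) g = ex θ (ex φ g) := by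
  rw [ex_of_mem _ hg, ex_of_mem φ hg, ex_coe]
  rfl

theorem ex_conj (a : ↥Γ) {g : G₀} (hg : g ∈ Γ) :
    ex (MulAut.conj a) g = (a : G₀) * g * (a : G₀)⁻¹ := by
  rw [ex_of_mem _ hg, MulAut.conj_apply]
  rfl

theorem ex_one_aut {g : G₀} : ex (1 : MulAut ↥Γ) g = g := by
  by_cases hg : g ∈ Γ
  · rw [ex_of_mem _ hg]; rfl
  · unfold ex; rw [dif_neg hg]

/-- Transport of a membership statement through generators. -/
theorem ex_mem_of_closure (θ : ↥Γ ≃* ↥Γ) (S : Set G₀) (hS : S ⊆ (Γ : Set G₀))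
    (T : Subgroup G₀) (hST : ∀ x ∈ S, ex θ x ∈ T) {g : G₀}
    (hg : g ∈ Subgroup.closure S) : ex θ g ∈ T := by
  have hle : Subgroup.closure S ≤ Γ := (Subgroup.closure_le _).mpr hS
  have key : ∀ x (hx : x ∈ Subgroup.closure S), ex θ x ∈ T := by
    intro x hx
    induction hx using Subgroup.closure_induction with
    | mem x hx => exact hST x hx
    | one => rw [ex_one]; exact Subgroup.one_mem _
    | mul x y hx hy ihx ihy =>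
      rw [ex_mul θ (hle hx) (hle hy)]
      exact Subgroup.mul_mem _ ihx ihy
    | inv x hx ihx =>
      rw [ex_inv θ (hle hx)]
      exact Subgroup.inv_mem _ ihx
  exact key g hg

/-- `θ` maps the subgroup `X` of `Γ` into itself. -/
def Pres (θ : ↥Γ ≃* ↥Γ) (X : Subgroup G₀) : Prop := ∀ g ∈ X, ex θ g ∈ X

theorem Pres.surj [Finite G₀] {θ : ↥Γ ≃* ↥Γ} {X : Subgroup G₀} (h : Pres θ X) (hX : X ≤ Γ)
    {y : G₀} (hy : y ∈ X) : ∃ g ∈ X, ex θ g = y := by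
  let f : ↥X → ↥X := fun g => ⟨ex θ g, h g g.2⟩
  have hinj : Function.Injective f := by
    intro a b e
    have e' : ex θ (a : G₀) = ex θ (b : G₀) := congrArg Subtype.val e
    exact Subtype.ext (ex_injOn θ (hX a.2) (hX b.2) e')
  obtain ⟨g, hg⟩ := Finite.surjective_of_injective hinj ⟨y, hy⟩
  exact ⟨g, g.2, congrArg Subtype.val hg⟩

theorem Pres.symm [Finite G₀] {θ : ↥Γ ≃* ↥Γ} {X : Subgroup G₀} (h : Pres θ X) (hX : X ≤ Γ) :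
    Pres θ.symm X := by
  intro y hy
  obtain ⟨g, hg, rfl⟩ := h.surj hX hy
  rw [ex_symm_ex θ (hX hg)]
  exact hg

theorem Pres.mem_iff [Finite G₀] {θ : ↥Γ ≃* ↥Γ} {X : Subgroup G₀} (h : Pres θ X) (hX : X ≤ Γ)
    {g : G₀} (hg : g ∈ Γ) : ex θ g ∈ X ↔ g ∈ X := by
  constructor
  · intro h1
    have := h.symm hX _ h1
    rwa [ex_symm_ex θ hg] at this
  · exact h g

theorem Pres.inf {θ : ↥Γ ≃* ↥Γ} {X Y : Subgroup G₀} (hX : Pres θ X) (hY : Pres θ Y) : Pres θ (X ⊓ Y) :=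
  fun g hg => ⟨hX g hg.1, hY g hg.2⟩

theorem Pres.sup {θ : ↥Γ ≃* ↥Γ} {X Y : Subgroup G₀} (hX : Pres θ X) (hY : Pres θ Y)
    (hXΓ : X ≤ Γ) (hYΓ : Y ≤ Γ) : Pres θ (X ⊔ Y) := by
  intro g hg
  rw [← Subgroup.closure_eq X, ← Subgroup.closure_eq Y, ← Subgroup.closure_union] at hg
  refine ex_mem_of_closure θ _ ?_ _ ?_ hg
  · rintro x (hx | hx)
    · exact hXΓ hx
    · exact hYΓ hx
  · rintro x (hx | hx)
    · exact Subgroup.mem_sup_left (hX x hx)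
    · exact Subgroup.mem_sup_right (hY x hx)

end

end Cfsg.Agent.Lib.Helper3.ChevAut
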