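import Mathlib
import Cfsg.Prelude.Def_ChevStructure
import Cfsg.Agent.Lib.Helper3.ChevU4
import Cfsg.Agent.Lib.Helper3.ChevN1
set_option autoImplicit false
open Cfsg Cfsg.Lie

/-! The subgroups generated by two conjugates of the root subgroup of the highest root. -/

namespace Cfsg.Agent.Lib.Helper3.ChevM

open ChevT ChevU

section
variable {F : Type*} [Field F] {C : CDatum} {R : RelData C}

theorem RelData.xU_mem_rootSubgroup (R : RelData C) (r : ℕ) (t : F) : R.xU r t ∈ C.D.rootSubgroup F r :=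
  Subgroup.subset_closure ⟨t, rfl⟩

theorem map_conj_map_conj {G : Type*} [Group G] (X : Subgroup G) (a b : G) :
    (X.map (MulAut.conj a).toMonoidHom).map (MulAut.conj b).toMonoidHom = X.map (MulAut.conj (b * a)).toMonoidHom := by
  rw [Subgroup.map_map]
  congr 1
  ext x
  simp [mul_assoc]

theorem map_conj_one {G : Type*} [Group G] (X : Subgroup G) :
    X.map (MulAut.conj (1 : G)).toMonoidHom = X := by
  ext x
  simp

/-- An element which conjugates the root elements of `k` to those of `s` maps `X_k` onto `X_s`. -/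
theorem RelData.map_conj_rootSubgroup (R : RelData C) (n : GL C.D.Idx F) (k s : ℕ) (d : F) (hd : d ≠ 0)
    (h : ∀ c : F, n * R.xU k c * n⁻¹ = R.xU s (d * c)) :
    (C.D.rootSubgroup F k).map (MulAut.conj n).toMonoidHom = C.D.rootSubgroup F s := by
  ext y
  constructor
  · rintro ⟨x, hx, rfl⟩
    obtain ⟨t, rfl⟩ := R.mem_rootSubgroup k x hx
    change MulAut.conj n (R.xU k t) ∈ _
    rw [MulAut.conj_apply, h]
    exact R.xU_mem_rootSubgroup s _
  · intro hy
    obtain ⟨t, rfl⟩ := R.mem_rootSubgroup s y hy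
    refine ⟨R.xU k (d⁻¹ * t), R.xU_mem_rootSubgroup k _, ?_⟩
    change MulAut.conj n (R.xU k (d⁻¹ * t)) = _
    rw [MulAut.conj_apply, h, ← mul_assoc, mul_inv_cancel₀ hd, one_mul]

theorem map_conj_eq_of_mem_normalizer {G : Type*} [Group G] (X : Subgroup G) (b : G)
    (hb : b ∈ Subgroup.normalizer (X : Set G)) : X.map (MulAut.conj b).toMonoidHom = X := by
  ext y
  constructor
  · rintro ⟨x, hx, rfl⟩
    exact (Subgroup.mem_normalizer_iff.mp hb x).mp hx
  · intro hy
    refine ⟨b⁻¹ * y * b, ?_, ?_⟩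
    · have := (Subgroup.mem_normalizer_iff.mp (Subgroup.inv_mem _ hb) y).mp hy
      simpa using this
    · change MulAut.conj b (b⁻¹ * y * b) = y
      rw [MulAut.conj_apply]; group

theorem rootSubgroup_le_posUnipotent (D : ChevalleyDatum) (r : ℕ) (hr : D.IsPosRoot r) :
    D.rootSubgroup F r ≤ D.posUnipotent F := by
  unfold ChevalleyDatum.rootSubgroup ChevalleyDatum.posUnipotent
  apply Subgroup.closure_mono
  rintro x ⟨t, hx⟩
  exact ⟨r, t, hr, hx⟩

variable (Uh : UHyp C R) (Hy : BNHyp C R)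
include Uh Hy

/-- The Borel subgroup normalizes the root subgroup of a root `r₀` such that `r₀ + s` is never a root for
positive `s`. -/
theorem UHyp.borel_le_normalizer_root (r₀ : ℕ) (hr₀ : r₀ < C.D.nroots)
    (hposneg : ¬ C.D.IsPosRoot (C.D.neg r₀))
    (hcomm : ∀ s < C.D.nroots, C.D.IsPosRoot s → s ≠ r₀ → C.D.commTerms r₀ s = []) :
    C.D.borelSubgroup F ≤ Subgroup.normalizer (C.D.rootSubgroup F r₀ : Set (GL C.D.Idx F)) := by
  unfold ChevalleyDatum.borelSubgroup
  refine sup_le ?_ ?_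
  · unfold ChevalleyDatum.posUnipotent
    rw [Subgroup.closure_le]
    rintro x ⟨s, u, hs, hx⟩
    have hx' : x = R.xU s u := Units.ext hx
    subst hx'
    by_cases hsr : s = r₀
    · subst hsr
      exact Subgroup.le_normalizer (R.xU_mem_rootSubgroup s u)
    · have hne : s ≠ C.D.neg r₀ := by
        rintro rfl
        exact hposneg hs
      have key : ∀ t : F, R.xU s u * R.xU r₀ t = R.xU r₀ t * R.xU s u := by
        intro t
        apply Units.ext
        have := Uh.K.commF (F := F) r₀ s hr₀ hs.1 hsr hne t u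
        rw [ChevalleyDatum.commWord, hcomm s hs.1 hs hsr] at this
        simpa [ChevalleyDatum.wordMat] using this
      rw [SetLike.mem_coe, Subgroup.mem_normalizer_iff]
      intro y
      have hconj : ∀ y ∈ C.D.rootSubgroup F r₀, R.xU s u * y * (R.xU s u)⁻¹ = y := by
        intro y hy
        obtain ⟨t, rfl⟩ := R.mem_rootSubgroup r₀ y hy
        rw [key t]; group
      constructor
      · intro hy
        rw [hconj y hy]; exact hy
      · intro hy
        have := hconj _ hy
        have e : y = R.xU s u * y * (R.xU s u)⁻¹ := by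
          have h2 : (R.xU s u)⁻¹ * (R.xU s u * (R.xU s u * y * (R.xU s u)⁻¹) * (R.xU s u)⁻¹) * R.xU s u =
              (R.xU s u)⁻¹ * (R.xU s u * y * (R.xU s u)⁻¹) * R.xU s u := by rw [this]
          have h3 : (R.xU s u)⁻¹ * (R.xU s u * (R.xU s u * y * (R.xU s u)⁻¹) * (R.xU s u)⁻¹) * R.xU s u =
              R.xU s u * y * (R.xU s u)⁻¹ := by group
          have h4 : (R.xU s u)⁻¹ * (R.xU s u * y * (R.xU s u)⁻¹) * R.xU s u = y := by group
          rw [h3, h4] at h2
          exact h2.symm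
        rw [e]; exact hy
  · intro h hh
    obtain ⟨d, hd⟩ := Hy.mono.conj_word_xU (F := F) Hy.dec h hh [] (by simp)
    obtain ⟨hd0, hdc⟩ := hd r₀ hr₀
    have hmap := R.map_conj_rootSubgroup (h * R.nWordU []) r₀ (reflW R.refl [] r₀) (d r₀) hd0 hdc
    rw [R.nWordU_nil, mul_one] at hmap
    change (C.D.rootSubgroup F r₀).map (MulAut.conj h).toMonoidHom = C.D.rootSubgroup F r₀ at hmap
    rw [Subgroup.mem_normalizer_iff]
    intro y
    constructor
    · intro hy
      rw [← hmap]
      exact ⟨y, hy, rfl⟩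
    · intro hy
      rw [← hmap] at hy
      obtain ⟨x, hx, e⟩ := hy
      change MulAut.conj h x = _ at e
      rw [MulAut.conj_apply] at e
      have : x = y := by
        have := congrArg (fun z => h⁻¹ * z * h) e
        simpa [mul_assoc] using this
      rw [← this]; exact hx

/-- The subgroup generated by the root subgroup of `r₀` and a conjugate of it. -/
theorem UHyp.highest_root_pairs [Fintype F] [CharP F 2]
    (hntri : ∀ r < C.D.nroots, negTri C r = true)
    (hsign : ∀ r < C.D.nroots, C.D.IsPosRoot r ∨ C.D.IsNegRoot r)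
    (hlen : C.D.posRoots.length = C.D.nroots / 2)
    (r₀ : ℕ) (hr₀ : r₀ < C.D.nroots)
    (hposneg : ¬ C.D.IsPosRoot (C.D.neg r₀))
    (hcomm : ∀ s < C.D.nroots, C.D.IsPosRoot s → s ≠ r₀ → C.D.commTerms r₀ s = [])
    (orb : ℕ → Bool) (horb0 : orb r₀ = true)
    (horb : ∀ i < C.D.rank, ∀ s < C.D.nroots, orb s = true → orb (R.refl i s) = true)
    (pw : ℕ → List ℕ)
    (hpw : ∀ s < C.D.nroots, orb s = true → s ≠ C.D.neg r₀ → (∀ i ∈ pw s, i < C.D.rank) ∧
       C.D.IsPosRoot (reflW R.refl (pw s) r₀) ∧ C.D.IsPosRoot (reflW R.refl (pw s) s))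
    (g : GL C.D.Idx F) (hg : g ∈ C.D.group F) :
    IsPGroup 2 ↥(C.D.rootSubgroup F r₀ ⊔ (C.D.rootSubgroup F r₀).map (MulAut.conj g).toMonoidHom) ∨
    ∃ h ∈ C.D.group F, (C.D.rootSubgroup F r₀ ⊔
      (C.D.rootSubgroup F r₀).map (MulAut.conj g).toMonoidHom).map (MulAut.conj h).toMonoidHom =
        C.D.rootSubgroup F r₀ ⊔ C.D.rootSubgroup F (C.D.neg r₀) := by
  classical
  have hBG : C.D.borelSubgroup F ≤ C.D.group F := (R.borel_sup_monomial Hy.root Hy.nc).1
  have hBN := Uh.borel_le_normalizer_root (F := F) Hy r₀ hr₀ hposneg hcomm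
  have horbW : ∀ l : List ℕ, (∀ i ∈ l, i < C.D.rank) → orb (reflW R.refl l r₀) = true := by
    intro l
    induction l with
    | nil => intro _; exact horb0
    | cons i l ih =>
      intro hl
      have hl' : ∀ j ∈ l, j < C.D.rank := fun j hj => hl j (List.mem_cons_of_mem _ hj)
      exact horb i (hl i List.mem_cons_self) _ (R.reflW_lt l hl' r₀ hr₀) (ih hl')
  obtain ⟨b, hb, n, hn, u, hu, rfl⟩ := (Uh.bruhat_normal_form (F := F) Hy hntri hsign).1 g hg
  have huB : u ∈ C.D.borelSubgroup F := Subgroup.mem_sup_left (uMinus_le_posUnipotent C.D n hu)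
  obtain ⟨h, hh, l, hl, rfl⟩ := Hy.mono.monomial_decomp n hn
  obtain ⟨d, hd⟩ := Hy.mono.conj_word_xU (F := F) Hy.dec h hh l hl
  obtain ⟨hd0, hdc⟩ := hd r₀ hr₀
  set s := reflW R.refl l r₀ with hs
  have hmapn := R.map_conj_rootSubgroup (h * R.nWordU l) r₀ s (d r₀) hd0 hdc
  have hsorb : orb s = true := horbW l hl
  have hslt : s < C.D.nroots := R.reflW_lt l hl r₀ hr₀
  set X := C.D.rootSubgroup F r₀ with hX
  have e1 : X.map (MulAut.conj (b * (h * R.nWordU l) * u)).toMonoidHom =
      (C.D.rootSubgroup F s).map (MulAut.conj b).toMonoidHom := by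
    rw [← map_conj_map_conj, ← map_conj_map_conj, map_conj_eq_of_mem_normalizer X u (hBN huB), hmapn]
  have e2 : X ⊔ X.map (MulAut.conj (b * (h * R.nWordU l) * u)).toMonoidHom =
      (X ⊔ C.D.rootSubgroup F s).map (MulAut.conj b).toMonoidHom := by
    rw [e1, Subgroup.map_sup, map_conj_eq_of_mem_normalizer X b (hBN hb)]
  rw [e2]
  by_cases hsneg : s = C.D.neg r₀
  · right
    refine ⟨b⁻¹, Subgroup.inv_mem _ (hBG hb), ?_⟩
    rw [map_conj_map_conj, inv_mul_cancel, map_conj_one, hsneg]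
  · left
    obtain ⟨hpl, hp1, hp2⟩ := hpw s hslt hsorb hsneg
    obtain ⟨d', hd'⟩ := Hy.mono.conj_word_xU (F := F) Hy.dec 1 (Subgroup.one_mem _) (pw s) hpl
    have m1 := R.map_conj_rootSubgroup (1 * R.nWordU (pw s)) r₀ _ (d' r₀) (hd' r₀ hr₀).1 (hd' r₀ hr₀).2
    have m2 := R.map_conj_rootSubgroup (1 * R.nWordU (pw s)) s _ (d' s) (hd' s hslt).1 (hd' s hslt).2
    set n' : GL C.D.Idx F := 1 * R.nWordU (pw s) with hn'
    have hle : (X ⊔ C.D.rootSubgroup F s).map (MulAut.conj n').toMonoidHom ≤ C.D.posUnipotent F := by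
      rw [Subgroup.map_sup, m1, m2]
      exact sup_le (rootSubgroup_le_posUnipotent C.D _ hp1) (rootSubgroup_le_posUnipotent C.D _ hp2)
    have hle2 : (X ⊔ C.D.rootSubgroup F s).map (MulAut.conj b).toMonoidHom ≤
        (C.D.posUnipotent F).map (MulAut.conj (b * n'⁻¹)).toMonoidHom := by
      have : (X ⊔ C.D.rootSubgroup F s).map (MulAut.conj b).toMonoidHom =
          ((X ⊔ C.D.rootSubgroup F s).map (MulAut.conj n').toMonoidHom).map (MulAut.conj (b * n'⁻¹)).toMonoidHom := by
        rw [map_conj_map_conj, mul_assoc, inv_mul_cancel, mul_one]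
      rw [this]
      exact Subgroup.map_mono hle
    have hU : IsPGroup 2 (C.D.posUnipotent F) := by
      obtain ⟨k, hk⟩ := FiniteField.card F 2
      have hc := Uh.card_posUnipotent (F := F) hlen
      rw [hk.2, ← pow_mul] at hc
      exact IsPGroup.of_card hc
    exact (hU.map _).to_le hle2

end

end Cfsg.Agent.Lib.Helper3.ChevM
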