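import Mathlib
import Cfsg.Prelude.Def_ChevStructure
import Cfsg.Agent.Lib.Helper3.HiRoot1
set_option autoImplicit false
open Cfsg Cfsg.Lie

/-! Root elements: commuting criteria in characteristic `p` and distinctness. -/

namespace Cfsg.Agent.Lib.Helper3.ChevM

open ChevT ChevU

/-- All the coefficients of the commutator of `x_r` and `x_s` are divisible by `p`. -/
def commVanish (D : ChevalleyDatum) (p r s : ℕ) : Bool :=
  (D.commTerms r s).all fun c => decide ((p : ℤ) ∣ c.2.1)

section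
variable {F : Type*} [Field F] {C : CDatum} {R : RelData C}

theorem wordMat_commWord_of_vanish (D : ChevalleyDatum) (p : ℕ) [CharP F p] (r s : ℕ)
    (h : commVanish D p r s = true) (t u : F) : D.wordMat F (D.commWord F r s t u) = 1 := by
  unfold ChevalleyDatum.wordMat ChevalleyDatum.commWord
  rw [List.map_map]
  apply List.prod_eq_one
  intro x hx
  obtain ⟨c, hc, rfl⟩ := List.mem_map.mp hx
  simp only [commVanish, List.all_eq_true, decide_eq_true_eq] at h
  have h0 : ((c.2.1 : ℤ) : F) = 0 := (CharP.intCast_eq_zero_iff F p _).mpr (h c hc)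
  simp only [Function.comp_apply, h0, zero_mul]
  exact CDatum.x_zero D c.1

variable (Uh : UHyp C R)
include Uh

theorem UHyp.xU_comm_of_vanish (p : ℕ) [CharP F p] (r s : ℕ) (hr : r < C.D.nroots) (hs : s < C.D.nroots)
    (hrs : s ≠ r) (hneg : s ≠ C.D.neg r) (h : commVanish C.D p r s = true) (t u : F) :
    R.xU s u * R.xU r t = R.xU r t * R.xU s u := by
  apply Units.ext
  have := Uh.K.commF (F := F) r s hr hs hrs hneg t u
  rw [wordMat_commWord_of_vanish C.D p r s h, mul_one] at this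
  simpa using this

theorem UHyp.xU_inj_pos' (r : ℕ) (hr : C.D.IsPosRoot r) (a b : F) (h : R.xU r a = R.xU r b) : a = b := by
  have h1 : R.xU r (a - b) = 1 := by
    rw [sub_eq_add_neg, ← R.xU_add, ← R.xU_inv, h, mul_inv_cancel]
  have := R.eq_zero_of_mem_ut Uh.hf Uh.fr Uh.wj Uh.wi r hr (Uh.wit r hr.1) (a - b)
    (by rw [h1]; exact Subgroup.one_mem _)
  exact sub_eq_zero.mp this

theorem UHyp.xU_eq_xU_lt (r s : ℕ) (hr : C.D.IsPosRoot r) (hs : C.D.IsPosRoot s) (hlt : r < s) (c d : F)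
    (h : R.xU r c = R.xU s d) : c = 0 ∧ d = 0 := by
  have hfr : Uh.fr r < Uh.fr s := by
    have := Uh.frm r hr.1
    simp only [frCheck, hr, decide_true, Bool.not_true, Bool.false_or, List.all_eq_true, Bool.or_eq_true,
      Bool.not_eq_true', decide_eq_false_iff_not, decide_eq_true_eq] at this
    rcases this s ((mem_posRoots C.D s).mpr hs) with h1 | h1
    · exact absurd hlt h1
    · exact h1
  have h1 := R.xU_mem_ut (F := F) Uh.hf Uh.fr s hs (Uh.lev s hs.1) d
  have h2 : R.xU r c ∈ utSubgroup (hfIdx C.D Uh.hf) F (Uh.fr r) := by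
    rw [h]
    exact utSubgroup_anti _ (by omega) h1
  have hc := R.eq_zero_of_mem_ut Uh.hf Uh.fr Uh.wj Uh.wi r hr (Uh.wit r hr.1) c h2
  refine ⟨hc, ?_⟩
  rw [hc, R.xU_zero, ← R.xU_zero s] at h
  exact (Uh.xU_inj_pos' s hs _ _ h).symm

/-- Root elements of distinct positive roots are distinct. -/
theorem UHyp.xU_eq_xU_pos (r s : ℕ) (hr : C.D.IsPosRoot r) (hs : C.D.IsPosRoot s) (hne : r ≠ s) (c d : F)
    (h : R.xU r c = R.xU s d) : c = 0 ∧ d = 0 := by
  rcases lt_or_gt_of_ne hne with hlt | hlt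
  · exact Uh.xU_eq_xU_lt r s hr hs hlt c d h
  · exact (Uh.xU_eq_xU_lt s r hs hr hlt d c h.symm).symm

end

end Cfsg.Agent.Lib.Helper3.ChevM
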