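import Mathlib
import Cfsg.Prelude.Def_ChevStructure
import Cfsg.Agent.Lib.Helper3.HiRoot2
import Cfsg.Agent.Lib.Helper1.BNPar
set_option autoImplicit false
open Cfsg Cfsg.Lie

/-! The centralizer of a root element `x_{r₀}(1)` for a root `r₀` which is a multiple of a fundamental weight. -/

namespace Cfsg.Agent.Lib.Helper3.ChevM

open ChevT ChevU

theorem le_normalizer_of_conj_mem {G : Type*} [Group G] (H K : Subgroup G)
    (h : ∀ a ∈ H, ∀ k ∈ K, a * k * a⁻¹ ∈ K) : H ≤ Subgroup.normalizer (K : Set G) := by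
  intro a ha
  rw [Subgroup.mem_normalizer_iff]
  intro k
  constructor
  · exact h a ha k
  · intro hk
    have := h a⁻¹ (Subgroup.inv_mem _ ha) _ hk
    have e : a⁻¹ * (a * k * a⁻¹) * a⁻¹⁻¹ = k := by group
    rwa [e] at this

theorem mem_normalizer_of_map_conj_eq {G : Type*} [Group G] (X : Subgroup G) (n : G)
    (h : X.map (MulAut.conj n).toMonoidHom = X) : n ∈ Subgroup.normalizer (X : Set G) := by
  rw [Subgroup.mem_normalizer_iff]
  intro x
  constructor
  · intro hx
    rw [← h]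
    exact ⟨x, hx, rfl⟩
  · intro hx
    rw [← h] at hx
    obtain ⟨y, hy, e⟩ := hx
    change MulAut.conj n y = _ at e
    rw [MulAut.conj_apply] at e
    have : y = x := by
      have := congrArg (fun z => n⁻¹ * z * n) e
      simpa [mul_assoc] using this
    rw [← this]; exact hy

/-- The subgroup generated by `U` and the root subgroups of the negatives of the fundamental roots in `J`. -/
def rootCentK (D : ChevalleyDatum) (F : Type*) [Field F] (J : ℕ → Bool) : Subgroup (GL D.Idx F) :=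
  D.posUnipotent F ⊔ Subgroup.closure {g | ∃ i < D.rank, J i = true ∧
    ∃ c : F, (g : Matrix D.Idx D.Idx F) = D.x F (D.neg (D.simple i)) c}

section
variable {F : Type*} [Field F] {C : CDatum} {R : RelData C}
variable (Uh : UHyp C R) (Hy : BNHyp C R)
include Uh Hy

/-- If `h n_w` conjugates `x_{r₀}(1)` into `X_{r₀}` then `w r₀ = r₀`. -/
theorem UHyp.reflW_eq_of_conj_mem
    (hntri : ∀ r < C.D.nroots, negTri C r = true)
    (hsign : ∀ r < C.D.nroots, C.D.IsPosRoot r ∨ C.D.IsNegRoot r)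
    (r₀ : ℕ) (hr₀ : C.D.IsPosRoot r₀) (h : GL C.D.Idx F) (hh : h ∈ C.D.diagonalSubgroup F)
    (l : List ℕ) (hl : ∀ i ∈ l, i < C.D.rank)
    (hmem : (h * R.nWordU l) * R.xU r₀ 1 * (h * R.nWordU l)⁻¹ ∈ C.D.rootSubgroup F r₀) :
    reflW R.refl l r₀ = r₀ := by
  obtain ⟨d, hd⟩ := Hy.mono.conj_word_xU (F := F) Hy.dec h hh l hl
  obtain ⟨hd0, hdc⟩ := hd r₀ hr₀.1
  set s := reflW R.refl l r₀ with hs
  have hslt : s < C.D.nroots := R.reflW_lt l hl r₀ hr₀.1
  obtain ⟨c, hc⟩ := R.mem_rootSubgroup r₀ _ hmem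
  rw [hdc 1, mul_one] at hc
  have h10 : R.xU r₀ (1 : F) ≠ 1 := by
    intro e
    rw [← R.xU_zero r₀] at e
    exact one_ne_zero (Uh.xU_inj_pos' r₀ hr₀ _ _ e)
  have hc0 : c ≠ 0 := by
    rintro rfl
    rw [R.xU_zero] at hc
    have h1 := hdc 1
    rw [mul_one, hc] at h1
    exact h10 (conj_eq_one_iff.mp h1)
  rcases hsign s hslt with hpos | hneg
  · by_contra hne
    exact hc0 (Uh.xU_eq_xU_pos s r₀ hpos hr₀ hne _ _ hc).2
  · exfalso
    have h1 : R.xU r₀ c ∈ C.D.borelSubgroup F ⊓ C.D.negUnipotent F := by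
      refine ⟨Subgroup.mem_sup_left (Subgroup.subset_closure ⟨r₀, c, hr₀, R.xU_val _ _⟩), ?_⟩
      rw [← hc]
      exact Subgroup.subset_closure ⟨s, d r₀, hneg, R.xU_val _ _⟩
    rw [(R.borel_inf_neg (F := F) Hy.dec Hy.mono.tri hntri).1, Subgroup.mem_bot, ← R.xU_zero r₀] at h1
    exact hc0 (Uh.xU_inj_pos' r₀ hr₀ _ _ h1)

/-- A subgroup of the group normalizing `X_{r₀}` and containing `B` lies in the parabolic subgroup of the
fundamental reflections fixing `r₀`. -/
theorem UHyp.normalizer_root_le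
    (hntri : ∀ r < C.D.nroots, negTri C r = true)
    (hsign : ∀ r < C.D.nroots, C.D.IsPosRoot r ∨ C.D.IsNegRoot r)
    (r₀ : ℕ) (hr₀ : C.D.IsPosRoot r₀)
    (hBN : C.D.borelSubgroup F ≤ Subgroup.normalizer (C.D.rootSubgroup F r₀ : Set (GL C.D.Idx F)))
    (J : ℕ → Bool) (hJ : ∀ i < C.D.rank, R.refl i r₀ = r₀ → J i = true) :
    Subgroup.normalizer (C.D.rootSubgroup F r₀ : Set (GL C.D.Idx F)) ⊓ C.D.group F ≤
      C.D.parabolicSubgroup F {i | J i = true} := by
  rintro g ⟨hgN, hgG⟩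
  set P := Uh.K.bnPair (F := F) Hy with hP
  have hPB : P.B = (C.D.borelSubgroup F).subgroupOf (C.D.group F) := rfl
  set M : Subgroup ↥(C.D.group F) :=
    (Subgroup.normalizer (C.D.rootSubgroup F r₀ : Set (GL C.D.Idx F))).subgroupOf (C.D.group F) with hM
  have hBM : P.B ≤ M := by
    intro x hx
    rw [hPB, Subgroup.mem_subgroupOf] at hx
    rw [hM, Subgroup.mem_subgroupOf]
    exact hBN hx
  have eq := Cfsg.Agent.Lib.Helper1.eq_parabolic_of_le P M hBM
  have hgM : (⟨g, hgG⟩ : ↥(C.D.group F)) ∈ M := by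
    rw [hM, Subgroup.mem_subgroupOf]; exact hgN
  rw [eq] at hgM
  have hle : P.parabolic {s | s ∈ P.S ∧ s ∈ M} ≤
      (C.D.parabolicSubgroup F {i | J i = true}).subgroupOf (C.D.group F) := by
    unfold BNPair.parabolic
    refine sup_le ?_ ?_
    · intro x hx
      rw [hPB, Subgroup.mem_subgroupOf] at hx
      rw [Subgroup.mem_subgroupOf]
      exact (le_sup_left : C.D.borelSubgroup F ≤ C.D.parabolicSubgroup F _) hx
    · rw [Subgroup.closure_le]
      rintro x ⟨hxS, hxM⟩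
      obtain ⟨i, hi, hxv⟩ := hxS
      rw [hM, Subgroup.mem_subgroupOf] at hxM
      have hxe : (x : GL C.D.Idx F) = 1 * R.nWordU [i] := by
        rw [one_mul, R.nWordU_cons, R.nWordU_nil, mul_one]
        exact Units.ext (by rw [hxv, R.nU_val])
      have hconj := (Subgroup.mem_normalizer_iff.mp hxM (R.xU r₀ 1)).mp (R.xU_mem_rootSubgroup r₀ 1)
      rw [hxe] at hconj
      have hfix := Uh.reflW_eq_of_conj_mem Hy hntri hsign r₀ hr₀ 1 (Subgroup.one_mem _) [i]
        (by simpa using hi) hconj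
      have hJi : J i = true := hJ i hi hfix
      rw [SetLike.mem_coe, Subgroup.mem_subgroupOf]
      apply Subgroup.mem_sup_right
      apply Subgroup.subset_closure
      exact ⟨i, hJi, hi, hxv⟩
  have := hle hgM
  rwa [Subgroup.mem_subgroupOf] at this

end

end Cfsg.Agent.Lib.Helper3.ChevM
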