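import Mathlib
import Cfsg.Prelude.Def_ChevStructure
import Cfsg.Agent.Lib.Helper3.HiRoot3
set_option autoImplicit false
set_option linter.unusedSectionVars false
open Cfsg Cfsg.Lie

/-! The centralizer of a root element `x_{r₀}(1)` for a root `r₀` which is a multiple of a fundamental weight. -/

namespace Cfsg.Agent.Lib.Helper3.ChevM

open ChevT ChevU

section
variable {F : Type*} [Field F] {C : CDatum} {R : RelData C}
variable (Uh : UHyp C R) (Hy : BNHyp C R)
include Uh Hy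

theorem UHyp.diagonal_conj_xU (a : GL C.D.Idx F) (ha : a ∈ C.D.diagonalSubgroup F) :
    ∃ d : ℕ → F, ∀ s < C.D.nroots, d s ≠ 0 ∧ ∀ c : F, a * R.xU s c * a⁻¹ = R.xU s (d s * c) := by
  obtain ⟨d, hd⟩ := Hy.mono.conj_word_xU (F := F) Hy.dec a ha [] (by simp)
  refine ⟨d, fun s hs => ⟨(hd s hs).1, fun c => ?_⟩⟩
  have := (hd s hs).2 c
  rw [R.nWordU_nil, mul_one] at this
  exact this

theorem UHyp.xU_neg_simple_mem_rootCentK (J : ℕ → Bool) (i : ℕ) (hi : i < C.D.rank) (hJi : J i = true) (c : F) :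
    R.xU (C.D.neg (C.D.simple i)) c ∈ rootCentK C.D F J :=
  Subgroup.mem_sup_right (Subgroup.subset_closure ⟨i, hi, hJi, c, R.xU_val _ _⟩)

theorem UHyp.diagonal_le_normalizer_rootCentK (J : ℕ → Bool) :
    C.D.diagonalSubgroup F ≤ Subgroup.normalizer (rootCentK C.D F J : Set (GL C.D.Idx F)) := by
  apply le_normalizer_of_conj_mem
  intro a ha
  obtain ⟨hHU, -⟩ := R.diagonal_normalizes (F := F) Hy.dec Hy.mono.tri
  obtain ⟨d, hd⟩ := Uh.diagonal_conj_xU Hy a ha
  have hle : rootCentK C.D F J ≤ (rootCentK C.D F J).comap (MulAut.conj a).toMonoidHom := by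
    unfold rootCentK
    refine sup_le ?_ ?_
    · intro u hu
      rw [Subgroup.mem_comap]
      change MulAut.conj a u ∈ _
      rw [MulAut.conj_apply]
      exact Subgroup.mem_sup_left ((Subgroup.mem_normalizer_iff.mp (hHU ha) u).mp hu)
    · rw [Subgroup.closure_le]
      rintro g ⟨i, hi, hJi, c, hg⟩
      have hg' : g = R.xU (C.D.neg (C.D.simple i)) c := Units.ext hg
      rw [SetLike.mem_coe, Subgroup.mem_comap]
      change MulAut.conj a g ∈ _
      rw [MulAut.conj_apply, hg', (hd _ (R.neg_lt _ (R.simple_lt i hi))).2 c]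
      exact Uh.xU_neg_simple_mem_rootCentK Hy J i hi hJi _
  intro k hk
  have := hle hk
  rw [Subgroup.mem_comap] at this
  change MulAut.conj a k ∈ _ at this
  rwa [MulAut.conj_apply] at this

theorem UHyp.nU_simple_mem_rootCentK (J : ℕ → Bool) (i : ℕ) (hi : i < C.D.rank) (hJi : J i = true) (c : F) :
    R.nU (C.D.simple i) c ∈ rootCentK C.D F J := by
  have hns := Hy.mono.ns i hi
  simp only [negSimpleCheck, Bool.and_eq_true, Bool.not_eq_true', decide_eq_false_iff_not, decide_eq_true_eq] at hns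
  have hx : ∀ t : F, R.xU (C.D.simple i) t ∈ rootCentK C.D F J := fun t =>
    Subgroup.mem_sup_left (Subgroup.subset_closure ⟨_, t, hns.2, R.xU_val _ _⟩)
  rw [R.nU_eq]
  exact Subgroup.mul_mem _ (Subgroup.mul_mem _ (hx c) (Uh.xU_neg_simple_mem_rootCentK Hy J i hi hJi _)) (hx c)

theorem UHyp.parabolic_le_rootCentK_sup (J : ℕ → Bool) :
    C.D.parabolicSubgroup F {i | J i = true} ≤ rootCentK C.D F J ⊔ C.D.diagonalSubgroup F := by
  unfold ChevalleyDatum.parabolicSubgroup ChevalleyDatum.borelSubgroup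
  refine sup_le (sup_le ?_ le_sup_right) ?_
  · exact le_trans (le_sup_left : C.D.posUnipotent F ≤ rootCentK C.D F J) le_sup_left
  · rw [Subgroup.closure_le]
    rintro g ⟨j, hj, hjr, hg⟩
    have hg' : g = R.nU (C.D.simple j) (1 : F) := Units.ext (by rw [hg, R.nU_val])
    rw [hg']
    exact Subgroup.mem_sup_left (Uh.nU_simple_mem_rootCentK Hy J j hjr hj 1)

/-- `K₀` lies in the group and centralizes `x_{r₀}(t)`. -/
theorem UHyp.rootCentK_le (p : ℕ) [CharP F p] (r₀ : ℕ) (hr₀ : C.D.IsPosRoot r₀)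
    (hposneg : ¬ C.D.IsPosRoot (C.D.neg r₀))
    (hcU : ∀ s < C.D.nroots, C.D.IsPosRoot s → s ≠ r₀ → commVanish C.D p r₀ s = true)
    (J : ℕ → Bool)
    (hJc : ∀ i < C.D.rank, J i = true → C.D.neg (C.D.simple i) ≠ r₀ ∧ C.D.neg (C.D.simple i) ≠ C.D.neg r₀ ∧
      commVanish C.D p r₀ (C.D.neg (C.D.simple i)) = true) (t : F) :
    rootCentK C.D F J ≤ C.D.group F ⊓ Subgroup.centralizer {R.xU r₀ t} := by
  unfold rootCentK
  refine sup_le ?_ ?_
  · refine le_inf R.posUnipotent_le_group ?_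
    unfold ChevalleyDatum.posUnipotent
    rw [Subgroup.closure_le]
    rintro g ⟨s, u, hs, hg⟩
    have hg' : g = R.xU s u := Units.ext hg
    rw [SetLike.mem_coe, Subgroup.mem_centralizer_iff]
    rintro _ rfl
    rw [hg']
    by_cases hsr : s = r₀
    · subst hsr
      rw [R.xU_add, R.xU_add, add_comm]
    · have hne : s ≠ C.D.neg r₀ := by
        rintro rfl
        exact hposneg hs
      exact (Uh.xU_comm_of_vanish p r₀ s hr₀.1 hs.1 hsr hne (hcU s hs.1 hs hsr) t u).symm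
  · rw [Subgroup.closure_le]
    rintro g ⟨i, hi, hJi, c, hg⟩
    have hg' : g = R.xU (C.D.neg (C.D.simple i)) c := Units.ext hg
    have hlt := R.neg_lt _ (R.simple_lt i hi)
    obtain ⟨h1, h2, h3⟩ := hJc i hi hJi
    refine ⟨?_, ?_⟩
    · rw [hg']; exact R.xU_mem_group _ hlt c
    · show g ∈ Subgroup.centralizer _
      rw [Subgroup.mem_centralizer_iff]
      rintro _ rfl
      rw [hg']
      exact (Uh.xU_comm_of_vanish p r₀ _ hr₀.1 hlt h1 h2 h3 t c).symm

/-- The Borel subgroup normalizes `X_{r₀}`. -/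
theorem UHyp.borel_le_normalizer_root' (p : ℕ) [CharP F p] (r₀ : ℕ) (hr₀ : C.D.IsPosRoot r₀)
    (hposneg : ¬ C.D.IsPosRoot (C.D.neg r₀))
    (hcU : ∀ s < C.D.nroots, C.D.IsPosRoot s → s ≠ r₀ → commVanish C.D p r₀ s = true) :
    C.D.borelSubgroup F ≤ Subgroup.normalizer (C.D.rootSubgroup F r₀ : Set (GL C.D.Idx F)) := by
  unfold ChevalleyDatum.borelSubgroup
  refine sup_le ?_ ?_
  · apply le_normalizer_of_conj_mem
    intro a ha y hy
    obtain ⟨t, rfl⟩ := R.mem_rootSubgroup r₀ y hy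
    have := Uh.rootCentK_le Hy p r₀ hr₀ hposneg hcU (fun _ => false) (by simp) t
      (Subgroup.mem_sup_left ha)
    have h2 := Subgroup.mem_centralizer_iff.mp this.2 _ rfl
    have e : a * R.xU r₀ t * a⁻¹ = R.xU r₀ t := by rw [← h2]; group
    rw [e]; exact R.xU_mem_rootSubgroup r₀ t
  · apply le_normalizer_of_conj_mem
    intro a ha y hy
    obtain ⟨t, rfl⟩ := R.mem_rootSubgroup r₀ y hy
    obtain ⟨d, hd⟩ := Uh.diagonal_conj_xU Hy a ha
    rw [(hd r₀ hr₀.1).2 t]
    exact R.xU_mem_rootSubgroup r₀ _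

end

end Cfsg.Agent.Lib.Helper3.ChevM
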