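import Mathlib
import Cfsg.Prelude.Def_ChevStructure
import Cfsg.Agent.Lib.Helper3.HiRoot4
set_option autoImplicit false
set_option linter.unusedSectionVars false
open Cfsg Cfsg.Lie

/-! The centralizer of a root element `x_{r₀}(1)` for a root `r₀` which is a multiple of a fundamental weight. -/

namespace Cfsg.Agent.Lib.Helper3.ChevM

open ChevT ChevU

section
variable {F : Type*} [Field F] {C : CDatum} {R : RelData C}
variable (Uh : UHyp C R) (Hy : BNHyp C R)
include Uh Hy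

/-- An element of `H` centralizing `x_{r₀}(1)` lies in `K₀`. -/
theorem UHyp.diagonal_mem_rootCentK (r₀ : ℕ) (hr₀ : C.D.IsPosRoot r₀) (J : ℕ → Bool)
    (i₀ : ℕ) (hi₀ : i₀ < C.D.rank)
    (hcart : ∀ i < C.D.rank, C.D.cartan i r₀ = if i = i₀ then 1 else 0)
    (hJ' : ∀ i < C.D.rank, i ≠ i₀ → J i = true)
    (a : GL C.D.Idx F) (ha : a ∈ C.D.diagonalSubgroup F) (hcomm : R.xU r₀ 1 * a = a * R.xU r₀ 1) :
    a ∈ rootCentK C.D F J := by
  classical
  obtain ⟨c, hc, hdiag, key⟩ := R.diagonal_mul_x Hy.dec a ha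
  have hχ : ((List.range C.D.rank).map fun i => c i ^ C.D.cartan i r₀).prod = c i₀ := by
    have e : (List.range C.D.rank).map (fun i => c i ^ C.D.cartan i r₀) =
        (List.range C.D.rank).map (fun i => if i = i₀ then c i₀ else 1) := by
      apply List.map_congr_left
      intro i hi
      rw [hcart i (List.mem_range.mp hi)]
      split_ifs with h
      · rw [h, zpow_one]
      · rw [zpow_zero]
    rw [e, List.prod_map_eq_pow_single i₀]
    · rw [if_pos rfl, List.count_eq_one_of_mem (List.nodup_range) (List.mem_range.mpr hi₀), pow_one]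
    · intro i hi _
      rw [if_neg hi]
  have h1 := key r₀ hr₀.1 1
  rw [hχ, mul_one] at h1
  have h2 : R.xU r₀ (c i₀) * a = R.xU r₀ 1 * a := by
    rw [hcomm]
    apply Units.ext
    rw [Units.val_mul, Units.val_mul, R.xU_val, R.xU_val, h1]
  have h3 := Uh.xU_inj_pos' r₀ hr₀ _ _ (mul_right_cancel h2)
  have hprod : a = ((List.range C.D.rank).map fun i => R.hU (C.D.simple i) (c i)).prod := by
    apply Units.ext
    rw [hdiag, ← R.hProd_eq_diag c hc]
    have := map_list_prod (Units.coeHom (Matrix C.D.Idx C.D.Idx F))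
      ((List.range C.D.rank).map fun i => R.hU (C.D.simple i) (c i))
    rw [Units.coeHom_apply] at this
    rw [this, List.map_map]
    apply congrArg
    apply List.map_congr_left
    intro i _
    simp [R.hU_val]
  rw [hprod]
  apply Subgroup.list_prod_mem
  intro x hx
  obtain ⟨i, hi, rfl⟩ := List.mem_map.mp hx
  rw [List.mem_range] at hi
  rw [R.hU_eq]
  by_cases hii : i = i₀
  · rw [hii, h3, R.nU_mul_neg]
    exact Subgroup.one_mem _
  · exact Subgroup.mul_mem _ (Uh.nU_simple_mem_rootCentK Hy J i hi (hJ' i hi hii) _)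
      (Uh.nU_simple_mem_rootCentK Hy J i hi (hJ' i hi hii) _)

/-- The centralizer of `x_{r₀}(1)`. -/
theorem UHyp.root_centralizer (p : ℕ) [CharP F p]
    (hntri : ∀ r < C.D.nroots, negTri C r = true)
    (hsign : ∀ r < C.D.nroots, C.D.IsPosRoot r ∨ C.D.IsNegRoot r)
    (r₀ : ℕ) (hr₀ : C.D.IsPosRoot r₀)
    (hposneg : ¬ C.D.IsPosRoot (C.D.neg r₀))
    (hcU : ∀ s < C.D.nroots, C.D.IsPosRoot s → s ≠ r₀ → commVanish C.D p r₀ s = true)
    (J : ℕ → Bool) (hJ : ∀ i < C.D.rank, R.refl i r₀ = r₀ → J i = true)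
    (hJc : ∀ i < C.D.rank, J i = true → C.D.neg (C.D.simple i) ≠ r₀ ∧ C.D.neg (C.D.simple i) ≠ C.D.neg r₀ ∧
      commVanish C.D p r₀ (C.D.neg (C.D.simple i)) = true)
    (i₀ : ℕ) (hi₀ : i₀ < C.D.rank)
    (hcart : ∀ i < C.D.rank, C.D.cartan i r₀ = if i = i₀ then 1 else 0)
    (hJ' : ∀ i < C.D.rank, i ≠ i₀ → J i = true) :
    C.D.group F ⊓ Subgroup.centralizer {R.xU r₀ (1 : F)} = rootCentK C.D F J := by
  have hK := Uh.rootCentK_le Hy p r₀ hr₀ hposneg hcU J hJc (1 : F)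
  refine le_antisymm ?_ hK
  rintro g ⟨hgG, hgC⟩
  have hBN := Uh.borel_le_normalizer_root' (F := F) Hy p r₀ hr₀ hposneg hcU
  have hNG : C.D.monomialSubgroup F ≤ C.D.group F := (R.borel_sup_monomial Hy.root Hy.nc).2.1
  set t := R.xU r₀ (1 : F) with ht
  have hgC' : g ∈ Subgroup.centralizer {t} := hgC
  have hgt : g * t * g⁻¹ = t := by
    have := Subgroup.mem_centralizer_iff.mp hgC' t rfl
    rw [← this]; group
  obtain ⟨b, hb, n, hn, u, hu, rfl⟩ := (Uh.bruhat_normal_form (F := F) Hy hntri hsign).1 g hgG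
  have huU := uMinus_le_posUnipotent C.D n hu
  have huK : u ∈ rootCentK C.D F J := (le_sup_left : C.D.posUnipotent F ≤ rootCentK C.D F J) huU
  have hut : u * t * u⁻¹ = t := by
    have := Subgroup.mem_centralizer_iff.mp (hK huK).2 t rfl
    rw [← this]; group
  obtain ⟨h, hh, l, hl, rfl⟩ := Hy.mono.monomial_decomp n hn
  have e1 : (b * (h * R.nWordU l) * u) * t * (b * (h * R.nWordU l) * u)⁻¹ =
      b * ((h * R.nWordU l) * (u * t * u⁻¹) * (h * R.nWordU l)⁻¹) * b⁻¹ := by group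
  rw [hut, hgt] at e1
  have hnt : (h * R.nWordU l) * t * (h * R.nWordU l)⁻¹ = b⁻¹ * t * b⁻¹⁻¹ := by
    have e2 : (h * R.nWordU l) * t * (h * R.nWordU l)⁻¹ =
        b⁻¹ * (b * ((h * R.nWordU l) * t * (h * R.nWordU l)⁻¹) * b⁻¹) * b⁻¹⁻¹ := by group
    rw [e2, ← e1]
  have hmem : (h * R.nWordU l) * t * (h * R.nWordU l)⁻¹ ∈ C.D.rootSubgroup F r₀ := by
    rw [hnt]
    exact (Subgroup.mem_normalizer_iff.mp (hBN (Subgroup.inv_mem _ hb)) t).mp (R.xU_mem_rootSubgroup r₀ 1)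
  have hfix := Uh.reflW_eq_of_conj_mem Hy hntri hsign r₀ hr₀ h hh l hl hmem
  obtain ⟨d, hd⟩ := Hy.mono.conj_word_xU (F := F) Hy.dec h hh l hl
  have hmap := R.map_conj_rootSubgroup (h * R.nWordU l) r₀ _ (d r₀) (hd r₀ hr₀.1).1 (hd r₀ hr₀.1).2
  rw [hfix] at hmap
  have hnN := mem_normalizer_of_map_conj_eq _ _ hmap
  have hnP := Uh.normalizer_root_le Hy hntri hsign r₀ hr₀ hBN J hJ ⟨hnN, hNG hn⟩
  have hBP : C.D.borelSubgroup F ≤ C.D.parabolicSubgroup F {i | J i = true} := le_sup_left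
  have hgP : b * (h * R.nWordU l) * u ∈ C.D.parabolicSubgroup F {i | J i = true} :=
    Subgroup.mul_mem _ (Subgroup.mul_mem _ (hBP hb) hnP) (hBP (Subgroup.mem_sup_left huU))
  have hgKH := Uh.parabolic_le_rootCentK_sup Hy J hgP
  rw [← SetLike.mem_coe, Subgroup.coe_mul_of_right_le_normalizer_left _ _
    (Uh.diagonal_le_normalizer_rootCentK Hy J)] at hgKH
  obtain ⟨k, hk, a, ha, e⟩ := Set.mem_mul.mp hgKH
  rw [← e]
  refine Subgroup.mul_mem _ hk ?_
  apply Uh.diagonal_mem_rootCentK Hy r₀ hr₀ J i₀ hi₀ hcart hJ' a ha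
  have hac : a ∈ Subgroup.centralizer {t} := by
    have : a = k⁻¹ * (b * (h * R.nWordU l) * u) := by rw [← e]; group
    rw [this]
    exact Subgroup.mul_mem _ (Subgroup.inv_mem _ (hK hk).2) hgC'
  exact Subgroup.mem_centralizer_iff.mp hac t rfl

end

end Cfsg.Agent.Lib.Helper3.ChevM
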