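import Mathlib
import Cfsg.Prelude.Def_ChevStructure
import Cfsg.Agent.Lib.Helper3.ChevAut1
import Cfsg.Agent.Lib.Helper3.ChevAt4
import Cfsg.Agent.Lib.Helper3.HiRoot5
set_option autoImplicit false
set_option linter.unusedSectionVars false
set_option linter.style.haveILetI false
open Cfsg Cfsg.Lie

/-!
Automorphisms of Chevalley groups, part 2: conjugates of `U` by monomial elements, the normalizers
of `U` and `V`.
-/

namespace Cfsg.Agent.Lib.Helper3.ChevAut

open Cfsg.Agent.Lib.Helper3.ChevM Cfsg.Agent.Lib.Helper3.ChevSp Cfsg.Agent.Lib.Helper3 ChevU ChevT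
open Cfsg.Agent.Lib.Helper3.ChevAt

section
variable {K : Type*} [Field K] {C : CDatum} {R : RelData C} (H : AtHyp C R)
include H

theorem pos_or_neg (r : ℕ) (hr : r < C.D.nroots) : C.D.IsPosRoot r ∨ C.D.IsNegRoot r :=
  signCheck_or (H.sign r hr)

theorem not_pos_of_neg (r : ℕ) (hr : C.D.IsNegRoot r) : ¬ C.D.IsPosRoot r := by
  intro hp
  have h1 := signCheck_spec (H.sign r hr.1)
  exact (h1.1.mp hp) (h1.2.1.mp hr)

theorem neg_pos_of_neg (r : ℕ) (hr : C.D.IsNegRoot r) : C.D.IsPosRoot (C.D.neg r) :=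
  (signCheck_spec (H.sign r hr.1)).2.1.mp hr

theorem xU_one_ne_one (r : ℕ) (hr : C.D.IsPosRoot r) : R.xU r (1 : K) ≠ 1 := by
  intro e
  rw [← R.xU_zero r] at e
  exact one_ne_zero (H.U.xU_inj_pos' r hr _ _ e)

theorem xU_mem_pos (r : ℕ) (hr : C.D.IsPosRoot r) (c : K) : R.xU r c ∈ C.D.posUnipotent K :=
  Subgroup.subset_closure ⟨r, c, hr, R.xU_val _ _⟩

theorem xU_mem_neg (r : ℕ) (hr : C.D.IsNegRoot r) (c : K) : R.xU r c ∈ C.D.negUnipotent K :=
  Subgroup.subset_closure ⟨r, c, hr, R.xU_val _ _⟩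

/-- If `n U n⁻¹` meets `U` trivially then `w` maps every positive root to a negative root. -/
theorem neg_of_conj_inf (h : GL C.D.Idx K) (hh : h ∈ C.D.diagonalSubgroup K) (l : List ℕ)
    (hl : ∀ i ∈ l, i < C.D.rank)
    (hinf : ∀ g ∈ C.D.posUnipotent K, (h * R.nWordU l) * g * (h * R.nWordU l)⁻¹ ∈ C.D.posUnipotent K → g = 1)
    (r : ℕ) (hr : C.D.IsPosRoot r) : C.D.IsNegRoot (reflW R.refl l r) := by
  obtain ⟨d, hd⟩ := H.B.mono.conj_word_xU (F := K) H.B.dec h hh l hl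
  rcases pos_or_neg H _ (R.reflW_lt l hl r hr.1) with hp | hn
  · exfalso
    have h1 := hinf (R.xU r 1) (xU_mem_pos H r hr 1) (by
      rw [(hd r hr.1).2 1]
      exact xU_mem_pos H _ hp _)
    exact xU_one_ne_one H r hr h1
  · exact hn

/-- If `w` maps every positive root to a negative root then `n U n⁻¹ = V`. -/
theorem map_conj_pos_eq_neg (h : GL C.D.Idx K) (hh : h ∈ C.D.diagonalSubgroup K) (l : List ℕ)
    (hl : ∀ i ∈ l, i < C.D.rank)
    (hneg : ∀ r, C.D.IsPosRoot r → C.D.IsNegRoot (reflW R.refl l r)) :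
    (C.D.posUnipotent K).map (MulAut.conj (h * R.nWordU l)).toMonoidHom = C.D.negUnipotent K := by
  obtain ⟨d, hd⟩ := H.B.mono.conj_word_xU (F := K) H.B.dec h hh l hl
  apply le_antisymm
  · unfold ChevalleyDatum.posUnipotent
    rw [MonoidHom.map_closure, Subgroup.closure_le]
    rintro _ ⟨g, ⟨r, t, hr, hg⟩, rfl⟩
    have hg' : g = R.xU r t := Units.ext hg
    show MulAut.conj (h * R.nWordU l) g ∈ _
    rw [MulAut.conj_apply, hg', (hd r hr.1).2 t]
    exact xU_mem_neg H _ (hneg r hr) _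
  · unfold ChevalleyDatum.negUnipotent
    rw [Subgroup.closure_le]
    rintro g ⟨s, t, hs, hg⟩
    have hg' : g = R.xU s t := Units.ext hg
    set r := reflW R.refl l.reverse s with hr
    have hrev : ∀ i ∈ l.reverse, i < C.D.rank := fun i hi => hl i (List.mem_reverse.mp hi)
    have hrlt : r < C.D.nroots := R.reflW_lt _ hrev s hs.1
    have hrs : reflW R.refl l r = s := by
      have := R.reflW_reverse H.B.mono.inv l.reverse hrev s hs.1
      rwa [List.reverse_reverse] at this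
    have hrpos : C.D.IsPosRoot r := by
      rcases pos_or_neg H r hrlt with hp | hn
      · exact hp
      · exfalso
        have h1 := hneg _ (neg_pos_of_neg H r hn)
        rw [H.B.mono.reflW_neg l hl r hrlt, hrs] at h1
        exact not_pos_of_neg H _ h1 (neg_pos_of_neg H s hs)
    refine ⟨R.xU r ((d r)⁻¹ * t), xU_mem_pos H r hrpos _, ?_⟩
    show MulAut.conj (h * R.nWordU l) _ = g
    rw [MulAut.conj_apply, (hd r hrlt).2, hrs, hg', ← mul_assoc, mul_inv_cancel₀ (hd r hrlt).1, one_mul]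

/-- An element of the group normalizing `U` lies in `B`. -/
theorem mem_borel_of_conj_pos (g : GL C.D.Idx K) (hg : g ∈ C.D.group K)
    (hN : ∀ u ∈ C.D.posUnipotent K, g * u * g⁻¹ ∈ C.D.posUnipotent K) : g ∈ C.D.borelSubgroup K := by
  obtain ⟨bru1, -⟩ := H.U.bruhat_normal_form (F := K) H.B H.ntri (fun r hr => signCheck_or (H.sign r hr))
  obtain ⟨b, hb, n, hn, u, hu, rfl⟩ := bru1 g hg
  have huU := uMinus_le_posUnipotent C.D n hu
  obtain ⟨h₀, hh₀, l, hl, rfl⟩ := H.B.mono.monomial_decomp n hn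
  obtain ⟨hHU, -⟩ := R.diagonal_normalizes (F := K) H.B.dec H.B.mono.tri
  have hBN : C.D.borelSubgroup K ≤ Subgroup.normalizer (C.D.posUnipotent K : Set (GL C.D.Idx K)) :=
    sup_le Subgroup.le_normalizer hHU
  obtain ⟨d, hd⟩ := H.B.mono.conj_word_xU (F := K) H.B.dec h₀ hh₀ l hl
  -- `n` normalizes `U`
  have hnN : ∀ x ∈ C.D.posUnipotent K, (h₀ * R.nWordU l) * x * (h₀ * R.nWordU l)⁻¹ ∈ C.D.posUnipotent K := by
    intro x hx
    have h1 := hN (u⁻¹ * x * u) (Subgroup.mul_mem _ (Subgroup.mul_mem _ (Subgroup.inv_mem _ huU) hx) huU)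
    have h2 := (Subgroup.mem_normalizer_iff.mp (hBN (Subgroup.inv_mem _ hb)) _).mp h1
    have e : b⁻¹ * (b * (h₀ * R.nWordU l) * u * (u⁻¹ * x * u) * (b * (h₀ * R.nWordU l) * u)⁻¹) * b⁻¹⁻¹ =
        (h₀ * R.nWordU l) * x * (h₀ * R.nWordU l)⁻¹ := by group
    rwa [e] at h2
  -- hence `w` preserves the positive roots
  have hpos : ∀ s, C.D.IsPosRoot s → C.D.IsPosRoot (reflW R.refl l s) := by
    intro s hs
    rcases pos_or_neg H _ (R.reflW_lt l hl s hs.1) with hp | hn'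
    · exact hp
    · exfalso
      have h1 := hnN _ (xU_mem_pos H s hs 1)
      rw [(hd s hs.1).2 1] at h1
      have h2 : R.xU (reflW R.refl l s) (d s * 1) ∈ C.D.posUnipotent K ⊓ C.D.negUnipotent K :=
        ⟨h1, xU_mem_neg H _ hn' _⟩
      rw [pos_inf_neg H, Subgroup.mem_bot] at h2
      rw [← (hd s hs.1).2 1] at h2
      exact xU_one_ne_one H s hs (conj_eq_one_iff.mp h2)
  have hfix := H.B.mono.reflW_eq_self_of_pos H.B.dec H.sign _ l rfl hl hpos
  have hwH := H.B.mono.nWordU_mem_diagonal_of_fix (F := K) H.B.dec _ l rfl hl hfix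
  have hHB : C.D.diagonalSubgroup K ≤ C.D.borelSubgroup K := le_sup_right
  have hUB : C.D.posUnipotent K ≤ C.D.borelSubgroup K := le_sup_left
  exact Subgroup.mul_mem _ (Subgroup.mul_mem _ hb (hHB (Subgroup.mul_mem _ hh₀ hwH))) (hUB huU)

end

end Cfsg.Agent.Lib.Helper3.ChevAut
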