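import Mathlib
import Cfsg.Prelude.Def_ChevStructure
import Cfsg.Agent.Lib.Helper3.ChevAut2
set_option autoImplicit false
set_option linter.unusedSectionVars false
set_option linter.style.haveILetI false
open Cfsg Cfsg.Lie

/-!
Automorphisms of Chevalley groups, part 3: normalizing an automorphism so that it preserves `U` and `V`.
-/

namespace Cfsg.Agent.Lib.Helper3.ChevAut

open Cfsg.Agent.Lib.Helper3.ChevM Cfsg.Agent.Lib.Helper3.ChevSp Cfsg.Agent.Lib.Helper3 ChevU ChevT
open Cfsg.Agent.Lib.Helper3.ChevAt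

section
variable {K : Type*} [Field K] {C : CDatum} {R : RelData C} (H : AtHyp C R)
include H

/-- The opposite Borel subgroup `V H`. -/
def negBorel (D : ChevalleyDatum) (K : Type*) [Field K] : Subgroup (GL D.Idx K) :=
  D.negUnipotent K ⊔ D.diagonalSubgroup K

theorem negUnipotent_le_group : C.D.negUnipotent K ≤ C.D.group K := by
  unfold ChevalleyDatum.negUnipotent
  rw [Subgroup.closure_le]
  rintro g ⟨r, t, hr, hg⟩
  have hg' : g = R.xU r t := Units.ext hg
  rw [hg']
  exact R.xU_mem_group r hr.1 t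

theorem negBorel_le_group : negBorel C.D K ≤ C.D.group K :=
  sup_le (negUnipotent_le_group H) R.diagonalSubgroup_le_group

theorem borel_le_group : C.D.borelSubgroup K ≤ C.D.group K :=
  sup_le R.posUnipotent_le_group R.diagonalSubgroup_le_group

/-- `n₀ U n₀⁻¹ = V` for a word `w₀` mapping all positive roots to negative roots. -/
theorem map_conj_w0 (w0 : List ℕ) (hw0l : ∀ i ∈ w0, i < C.D.rank)
    (hw0 : ∀ r, C.D.IsPosRoot r → C.D.IsNegRoot (reflW R.refl w0 r)) :
    (C.D.posUnipotent K).map (MulAut.conj (R.nWordU w0)).toMonoidHom = C.D.negUnipotent K := by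
  have := map_conj_pos_eq_neg (K := K) H 1 (Subgroup.one_mem _) w0 hw0l hw0
  rwa [one_mul] at this

/-- An element of the group normalizing `V` lies in `V H`. -/
theorem mem_negBorel_of_conj_neg (w0 : List ℕ) (hw0l : ∀ i ∈ w0, i < C.D.rank)
    (hw0 : ∀ r, C.D.IsPosRoot r → C.D.IsNegRoot (reflW R.refl w0 r))
    (g : GL C.D.Idx K) (hg : g ∈ C.D.group K)
    (hN : ∀ v ∈ C.D.negUnipotent K, g * v * g⁻¹ ∈ C.D.negUnipotent K) : g ∈ negBorel C.D K := by
  have hmap := map_conj_w0 (K := K) H w0 hw0l hw0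
  set n₀ : GL C.D.Idx K := R.nWordU w0 with hn₀
  have hn₀N : n₀ ∈ C.D.monomialSubgroup K := R.nWordU_mem w0 hw0l
  have hn₀G : n₀ ∈ C.D.group K := R.monomialSubgroup_le_group hn₀N
  have hg' : n₀⁻¹ * g * n₀ ∈ C.D.borelSubgroup K := by
    apply mem_borel_of_conj_pos H
    · exact Subgroup.mul_mem _ (Subgroup.mul_mem _ (Subgroup.inv_mem _ hn₀G) hg) hn₀G
    · intro u hu
      have h1 : n₀ * u * n₀⁻¹ ∈ C.D.negUnipotent K := by
        rw [← hmap]; exact ⟨u, hu, rfl⟩
      have h2 := hN _ h1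
      rw [← hmap] at h2
      obtain ⟨u', hu', e⟩ := h2
      change n₀ * u' * n₀⁻¹ = _ at e
      have e2 : n₀⁻¹ * g * n₀ * u * (n₀⁻¹ * g * n₀)⁻¹ = n₀⁻¹ * (g * (n₀ * u * n₀⁻¹) * g⁻¹) * n₀ := by group
      rw [e2, ← e]
      have e3 : n₀⁻¹ * (n₀ * u' * n₀⁻¹) * n₀ = u' := by group
      rw [e3]; exact hu'
  have e : g = MulAut.conj n₀ (n₀⁻¹ * g * n₀) := by
    rw [MulAut.conj_apply]; group
  rw [e]
  have hle : (C.D.borelSubgroup K).map (MulAut.conj n₀).toMonoidHom ≤ negBorel C.D K := by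
    unfold ChevalleyDatum.borelSubgroup negBorel
    rw [Subgroup.map_sup, hmap]
    apply sup_le_sup_left
    rintro _ ⟨x, hx, rfl⟩
    show MulAut.conj n₀ x ∈ _
    rw [MulAut.conj_apply]
    exact H.B.mono.conj_mem n₀ hn₀N x hx
  exact hle ⟨_, hg', rfl⟩

theorem borel_le_normalizer_pos :
    C.D.borelSubgroup K ≤ Subgroup.normalizer (C.D.posUnipotent K : Set (GL C.D.Idx K)) := by
  obtain ⟨hHU, -⟩ := R.diagonal_normalizes (F := K) H.B.dec H.B.mono.tri
  exact sup_le Subgroup.le_normalizer hHU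

theorem negBorel_le_normalizer_neg :
    negBorel C.D K ≤ Subgroup.normalizer (C.D.negUnipotent K : Set (GL C.D.Idx K)) :=
  sup_le Subgroup.le_normalizer (diagonal_le_normalizer_neg H)

theorem borel_inf_negBorel : C.D.borelSubgroup K ⊓ negBorel C.D K = C.D.diagonalSubgroup K :=
  (R.borel_inf_neg (F := K) H.B.dec H.B.mono.tri H.ntri).2

variable [Finite K]

/-- An automorphism preserving `U` preserves `B`. -/
theorem pres_borel (θ : ↥(C.D.group K) ≃* ↥(C.D.group K)) (hU : Pres θ (C.D.posUnipotent K)) :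
    Pres θ (C.D.borelSubgroup K) := by
  intro b hb
  have hbG := borel_le_group H hb
  apply mem_borel_of_conj_pos H _ (ex_mem θ hbG)
  intro u hu
  obtain ⟨u', hu', rfl⟩ := hU.surj R.posUnipotent_le_group hu
  rw [← ex_conj_mul θ hbG (R.posUnipotent_le_group hu')]
  exact hU _ ((Subgroup.mem_normalizer_iff.mp (borel_le_normalizer_pos H hb) u').mp hu')

/-- An automorphism preserving `V` preserves `V H`. -/
theorem pres_negBorel (w0 : List ℕ) (hw0l : ∀ i ∈ w0, i < C.D.rank)
    (hw0 : ∀ r, C.D.IsPosRoot r → C.D.IsNegRoot (reflW R.refl w0 r))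
    (θ : ↥(C.D.group K) ≃* ↥(C.D.group K)) (hV : Pres θ (C.D.negUnipotent K)) :
    Pres θ (negBorel C.D K) := by
  intro b hb
  have hbG := negBorel_le_group H hb
  apply mem_negBorel_of_conj_neg H w0 hw0l hw0 _ (ex_mem θ hbG)
  intro u hu
  obtain ⟨u', hu', rfl⟩ := hV.surj (negUnipotent_le_group H) hu
  rw [← ex_conj_mul θ hbG (negUnipotent_le_group H hu')]
  exact hV _ ((Subgroup.mem_normalizer_iff.mp (negBorel_le_normalizer_neg H hb) u').mp hu')

/-- An automorphism preserving `U` and `V` preserves `H`. -/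
theorem pres_diagonal (w0 : List ℕ) (hw0l : ∀ i ∈ w0, i < C.D.rank)
    (hw0 : ∀ r, C.D.IsPosRoot r → C.D.IsNegRoot (reflW R.refl w0 r))
    (θ : ↥(C.D.group K) ≃* ↥(C.D.group K)) (hU : Pres θ (C.D.posUnipotent K))
    (hV : Pres θ (C.D.negUnipotent K)) : Pres θ (C.D.diagonalSubgroup K) := by
  rw [← borel_inf_negBorel H]
  exact (pres_borel H θ hU).inf (pres_negBorel H w0 hw0l hw0 θ hV)

end

end Cfsg.Agent.Lib.Helper3.ChevAut
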