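import Mathlib
import Cfsg.Prelude.Def_ChevStructure
import Cfsg.Agent.Lib.Helper3.ChevAut3
set_option autoImplicit false
set_option linter.unusedSectionVars false
set_option linter.style.haveILetI false
open Cfsg Cfsg.Lie

/-!
Automorphisms of Chevalley groups, part 4: every automorphism is, up to an inner automorphism, one
which preserves `U` and `V`.
-/

namespace Cfsg.Agent.Lib.Helper3.ChevAut

open Cfsg.Agent.Lib.Helper3.ChevM Cfsg.Agent.Lib.Helper3.ChevSp Cfsg.Agent.Lib.Helper3 ChevU ChevT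
open Cfsg.Agent.Lib.Helper3.ChevAt
open scoped Pointwise

section
variable {K : Type*} [Field K] [Finite K] {C : CDatum} {R : RelData C} (H : AtHyp C R)
include H

/-- Up to an inner automorphism, an automorphism preserves the Sylow subgroup `U`. -/
theorem exists_conj_pres_pos (p : ℕ) [Fact p.Prime]
    (hS : ∃ S : Sylow p ↥(C.D.group K),
      (S : Subgroup ↥(C.D.group K)) = (C.D.posUnipotent K).subgroupOf (C.D.group K))
    (θ : MulAut ↥(C.D.group K)) :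
    ∃ a : ↥(C.D.group K), Pres (MulAut.conj a * θ) (C.D.posUnipotent K) := by
  obtain ⟨S, hS⟩ := hS
  obtain ⟨a, ha⟩ := MulAction.exists_smul_eq ↥(C.D.group K) (θ • S) S
  refine ⟨a, ?_⟩
  intro g hg
  have hgG : g ∈ C.D.group K := R.posUnipotent_le_group hg
  have hx : (⟨g, hgG⟩ : ↥(C.D.group K)) ∈ (S : Subgroup ↥(C.D.group K)) := by
    rw [hS, Subgroup.mem_subgroupOf]; exact hg
  have h1 : θ • (⟨g, hgG⟩ : ↥(C.D.group K)) ∈ ((θ • S : Sylow p ↥(C.D.group K)) : Subgroup ↥(C.D.group K)) := by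
    rw [Sylow.pointwise_smul_def]
    exact Subgroup.smul_mem_pointwise_smul _ _ _ hx
  have h2 : MulAut.conj a • (θ • (⟨g, hgG⟩ : ↥(C.D.group K))) ∈
      ((a • (θ • S) : Sylow p ↥(C.D.group K)) : Subgroup ↥(C.D.group K)) := by
    rw [Sylow.smul_def, Sylow.pointwise_smul_def]
    exact Subgroup.smul_mem_pointwise_smul _ _ _ h1
  rw [ha, hS, Subgroup.mem_subgroupOf] at h2
  rw [ex_of_mem _ hgG]
  exact h2

/-- An automorphism preserving `U` maps `V` to a conjugate of `V` under `U`. -/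
theorem exists_conj_pres_neg (w0 : List ℕ) (hw0l : ∀ i ∈ w0, i < C.D.rank)
    (hw0 : ∀ r, C.D.IsPosRoot r → C.D.IsNegRoot (reflW R.refl w0 r))
    (θ : MulAut ↥(C.D.group K)) (hU : Pres θ (C.D.posUnipotent K)) :
    ∃ a : ↥(C.D.group K), (a : GL C.D.Idx K) ∈ C.D.posUnipotent K ∧
      Pres (MulAut.conj a * θ) (C.D.negUnipotent K) := by
  have hUG : C.D.posUnipotent K ≤ C.D.group K := R.posUnipotent_le_group
  have hVG : C.D.negUnipotent K ≤ C.D.group K := negUnipotent_le_group H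
  have hHG : C.D.diagonalSubgroup K ≤ C.D.group K := R.diagonalSubgroup_le_group
  have hNG : C.D.monomialSubgroup K ≤ C.D.group K := R.monomialSubgroup_le_group
  have hmap := map_conj_w0 (K := K) H w0 hw0l hw0
  set n₀ : GL C.D.Idx K := R.nWordU w0 with hn₀
  have hn₀N : n₀ ∈ C.D.monomialSubgroup K := R.nWordU_mem w0 hw0l
  have hn₀G : n₀ ∈ C.D.group K := hNG hn₀N
  obtain ⟨bru1, -⟩ := H.U.bruhat_normal_form (F := K) H.B H.ntri (fun r hr => signCheck_or (H.sign r hr))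
  obtain ⟨b, hb, n, hn, u, hu, hg⟩ := bru1 (ex θ n₀) (ex_mem θ hn₀G)
  have huU := uMinus_le_posUnipotent C.D n hu
  obtain ⟨h₀, hh₀, l, hl, rfl⟩ := H.B.mono.monomial_decomp n hn
  obtain ⟨hHU, -⟩ := R.diagonal_normalizes (F := K) H.B.dec H.B.mono.tri
  have hset := Subgroup.coe_mul_of_right_le_normalizer_left (C.D.posUnipotent K) (C.D.diagonalSubgroup K) hHU
  have hb' : b ∈ ((C.D.posUnipotent K ⊔ C.D.diagonalSubgroup K : Subgroup (GL C.D.Idx K)) : Set (GL C.D.Idx K)) := hb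
  rw [hset] at hb'
  obtain ⟨u₁, hu₁, h₁, hh₁, rfl⟩ := Set.mem_mul.mp hb'
  have hhH : h₁ * h₀ ∈ C.D.diagonalSubgroup K := Subgroup.mul_mem _ hh₁ hh₀
  set n' : GL C.D.Idx K := (h₁ * h₀) * R.nWordU l with hn'
  have hgn : ex θ n₀ = u₁ * n' * u := by rw [hg, hn']; group
  -- the image of an element of `V`
  have himg : ∀ x ∈ C.D.posUnipotent K, ex θ (n₀ * x * n₀⁻¹) = u₁ * (n' * (u * ex θ x * u⁻¹) * n'⁻¹) * u₁⁻¹ := by
    intro x hx
    rw [ex_conj_mul θ hn₀G (hUG hx), hgn]; group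
  -- `n' U n'⁻¹` meets `U` trivially
  have hinf : ∀ y ∈ C.D.posUnipotent K, n' * y * n'⁻¹ ∈ C.D.posUnipotent K → y = 1 := by
    intro y hy hz
    obtain ⟨x', hx', hx'e⟩ := hU.surj hUG (Subgroup.mul_mem _ (Subgroup.mul_mem _ (Subgroup.inv_mem _ huU) hy) huU)
    have h1 := himg x' hx'
    rw [hx'e] at h1
    have e : u * (u⁻¹ * y * u) * u⁻¹ = y := by group
    rw [e] at h1
    have h2 : ex θ (n₀ * x' * n₀⁻¹) ∈ C.D.posUnipotent K := by
      rw [h1]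
      exact Subgroup.mul_mem _ (Subgroup.mul_mem _ hu₁ hz) (Subgroup.inv_mem _ hu₁)
    have hvV : n₀ * x' * n₀⁻¹ ∈ C.D.negUnipotent K := by
      rw [← hmap]; exact ⟨x', hx', rfl⟩
    have h3 := (hU.mem_iff hUG (hVG hvV)).mp h2
    have h4 : n₀ * x' * n₀⁻¹ ∈ C.D.posUnipotent K ⊓ C.D.negUnipotent K := ⟨h3, hvV⟩
    rw [pos_inf_neg H, Subgroup.mem_bot] at h4
    have h5 : x' = 1 := conj_eq_one_iff.mp h4
    rw [h5, ex_one] at hx'e
    have : y = u * (u⁻¹ * y * u) * u⁻¹ := by group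
    rw [this, ← hx'e]; group
  have hneg := neg_of_conj_inf H (h₁ * h₀) hhH l hl hinf
  have hmap' := map_conj_pos_eq_neg (K := K) H (h₁ * h₀) hhH l hl hneg
  refine ⟨⟨u₁⁻¹, hUG (Subgroup.inv_mem _ hu₁)⟩, Subgroup.inv_mem _ hu₁, ?_⟩
  intro v hv
  have hvG := hVG hv
  rw [ex_mul_aut _ _ hvG, ex_conj _ (ex_mem θ hvG)]
  rw [← hmap] at hv
  obtain ⟨x, hx, rfl⟩ := hv
  change ((u₁⁻¹ : GL C.D.Idx K)) * ex θ (n₀ * x * n₀⁻¹) * (u₁⁻¹ : GL C.D.Idx K)⁻¹ ∈ _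
  rw [himg x hx]
  have e : u₁⁻¹ * (u₁ * (n' * (u * ex θ x * u⁻¹) * n'⁻¹) * u₁⁻¹) * u₁⁻¹⁻¹ = n' * (u * ex θ x * u⁻¹) * n'⁻¹ := by group
  rw [e, ← hmap']
  exact ⟨_, Subgroup.mul_mem _ (Subgroup.mul_mem _ huU (hU x hx)) (Subgroup.inv_mem _ huU), rfl⟩

/-- Conjugation by an element of `U` preserves `U`. -/
theorem pres_conj_mul (X : Subgroup (GL C.D.Idx K)) (hX : X ≤ C.D.group K) (θ : MulAut ↥(C.D.group K))
    (hθ : Pres θ X) (a : ↥(C.D.group K)) (ha : (a : GL C.D.Idx K) ∈ X) : Pres (MulAut.conj a * θ) X := by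
  intro g hg
  rw [ex_mul_aut _ _ (hX hg), ex_conj _ (ex_mem θ (hX hg))]
  exact Subgroup.mul_mem _ (Subgroup.mul_mem _ ha (hθ g hg)) (Subgroup.inv_mem _ ha)

/-- Up to an inner automorphism, an automorphism preserves `U` and `V`. -/
theorem exists_conj_pres (p : ℕ) [Fact p.Prime]
    (hS : ∃ S : Sylow p ↥(C.D.group K),
      (S : Subgroup ↥(C.D.group K)) = (C.D.posUnipotent K).subgroupOf (C.D.group K))
    (w0 : List ℕ) (hw0l : ∀ i ∈ w0, i < C.D.rank)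
    (hw0 : ∀ r, C.D.IsPosRoot r → C.D.IsNegRoot (reflW R.refl w0 r))
    (θ : MulAut ↥(C.D.group K)) :
    ∃ a : ↥(C.D.group K), Pres (MulAut.conj a * θ) (C.D.posUnipotent K) ∧
      Pres (MulAut.conj a * θ) (C.D.negUnipotent K) := by
  obtain ⟨a₁, h1⟩ := exists_conj_pres_pos H p hS θ
  obtain ⟨a₂, ha₂, h2⟩ := exists_conj_pres_neg H w0 hw0l hw0 _ h1
  refine ⟨a₂ * a₁, ?_, ?_⟩
  · rw [map_mul, mul_assoc]
    exact pres_conj_mul H _ R.posUnipotent_le_group _ h1 a₂ ha₂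
  · rw [map_mul, mul_assoc]
    exact h2

end

end Cfsg.Agent.Lib.Helper3.ChevAut
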