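import Mathlib
import Cfsg.Agent.Lib.Helper1.BNPar
set_option autoImplicit false
set_option linter.unusedSectionVars false

/-!
Automorphisms of groups with a (B,N)-pair preserving `B`: they permute the minimal parabolic subgroups.
-/

namespace Cfsg.Agent.Lib.Helper3.ChevAut

open DoubleCoset Cfsg.Agent.Lib.Helper1

section
variable {G : Type*} [Group G] (P : Cfsg.BNPair G)

/-- A distinguished representative does not lie in `B`. -/
theorem not_mem_B_of_mem_S {s : G} (hs : s ∈ P.S) : s ∉ P.B := by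
  intro hsB
  apply P.conj_ne s hs
  ext x
  constructor
  · rintro ⟨b, hb, rfl⟩
    exact P.B.mul_mem (P.B.mul_mem hsB hb) hsB
  · intro hx
    refine ⟨s⁻¹ * x * s⁻¹, P.B.mul_mem (P.B.mul_mem (P.B.inv_mem hsB) hx) (P.B.inv_mem hsB), ?_⟩
    show s * (s⁻¹ * x * s⁻¹) * s = x
    group

/-- The elements of the group generated by one distinguished representative. -/
theorem closure_singleton_cases {s : G} (hs : s ∈ P.S) (n : G) (hn : n ∈ Subgroup.closure {s}) :
    n ∈ P.N ∧ (n ∈ P.B ∨ s⁻¹ * n ∈ P.B) := by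
  have hsN : s ∈ P.N := P.subset hs
  have hsq : s * s ∈ P.B := P.sq_mem s hs
  induction hn using Subgroup.closure_induction with
  | mem x hx =>
    rw [Set.mem_singleton_iff] at hx
    subst hx
    exact ⟨hsN, Or.inr (by rw [inv_mul_cancel]; exact P.B.one_mem)⟩
  | one => exact ⟨P.N.one_mem, Or.inl P.B.one_mem⟩
  | mul x y _ _ ihx ihy =>
    obtain ⟨hxN, hx⟩ := ihx
    obtain ⟨hyN, hy⟩ := ihy
    refine ⟨P.N.mul_mem hxN hyN, ?_⟩
    rcases hx with hx | hx <;> rcases hy with hy | hy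
    · exact Or.inl (P.B.mul_mem hx hy)
    · right
      have h1 := P.conj_mem s⁻¹ (P.N.inv_mem hsN) x ⟨hx, hxN⟩
      rw [inv_inv] at h1
      have e : s⁻¹ * (x * y) = (s⁻¹ * x * s) * (s⁻¹ * y) := by group
      rw [e]
      exact P.B.mul_mem h1 hy
    · right
      have e : s⁻¹ * (x * y) = (s⁻¹ * x) * y := by group
      rw [e]
      exact P.B.mul_mem hx hy
    · left
      have h1 := P.conj_mem s hsN (s⁻¹ * x) ⟨hx, P.N.mul_mem (P.N.inv_mem hsN) hxN⟩
      have e : x * y = (s * (s⁻¹ * x) * s⁻¹) * (s * s) * (s⁻¹ * y) := by group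
      rw [e]
      exact P.B.mul_mem (P.B.mul_mem h1 hsq) hy
  | inv x _ ihx =>
    obtain ⟨hxN, hx⟩ := ihx
    refine ⟨P.N.inv_mem hxN, ?_⟩
    rcases hx with hx | hx
    · exact Or.inl (P.B.inv_mem hx)
    · right
      have h1 := P.conj_mem s⁻¹ (P.N.inv_mem hsN) (s⁻¹ * x)⁻¹
        ⟨P.B.inv_mem hx, P.N.inv_mem (P.N.mul_mem (P.N.inv_mem hsN) hxN)⟩
      rw [inv_inv] at h1
      have e : s⁻¹ * x⁻¹ = (s⁻¹ * (s⁻¹ * x)⁻¹ * s) * (s * s)⁻¹ := by group
      rw [e]
      exact P.B.mul_mem h1 (P.B.inv_mem hsq)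

/-- A minimal parabolic subgroup is `B ∪ B s B`. -/
theorem mem_parabolic_singleton {s : G} (hs : s ∈ P.S) (g : G) (hg : g ∈ P.parabolic {s}) :
    g ∈ P.B ∨ g ∈ doubleCoset s (P.B : Set G) P.B := by
  obtain ⟨n, hn, hgn⟩ := (mem_parabolic_iff P (Set.singleton_subset_iff.mpr hs) g).mp hg
  obtain ⟨b₁, hb₁, b₂, hb₂, rfl⟩ := mem_doubleCoset.mp hgn
  obtain ⟨-, h | h⟩ := closure_singleton_cases P hs n hn
  · exact Or.inl (P.B.mul_mem (P.B.mul_mem hb₁ h) hb₂)
  · right
    rw [mem_doubleCoset]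
    refine ⟨b₁, hb₁, s⁻¹ * n * b₂, P.B.mul_mem h hb₂, ?_⟩
    group

theorem mem_parabolic_of_mem_S {s : G} (_hs : s ∈ P.S) : s ∈ P.parabolic {s} :=
  Subgroup.mem_sup_right (Subgroup.subset_closure rfl)

theorem parabolic_singleton_le {s : G} (M : Subgroup G) (hB : P.B ≤ M) (hs : s ∈ M) : P.parabolic {s} ≤ M :=
  sup_le hB ((Subgroup.closure_le _).mpr (Set.singleton_subset_iff.mpr hs))

/-- A subgroup strictly containing `B` contains a distinguished representative. -/
theorem exists_mem_S_of_lt (M : Subgroup G) (hB : P.B ≤ M) (hne : M ≠ P.B) : ∃ t ∈ P.S, t ∈ M := by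
  by_contra hcon
  push Not at hcon
  apply hne
  have h1 := eq_parabolic_of_le P M hB
  have h2 : {s | s ∈ P.S ∧ s ∈ M} = (∅ : Set G) := by
    ext s
    simp only [Set.mem_ofPred_eq, Set.mem_empty_iff_false, iff_false, not_and]
    exact hcon s
  rw [h2] at h1
  rw [h1]
  unfold Cfsg.BNPair.parabolic
  rw [Subgroup.closure_empty, sup_bot_eq]

/-- An automorphism preserving `B` permutes the minimal parabolic subgroups. -/
theorem exists_map_parabolic_singleton (θ : G ≃* G) (hθ : P.B.map θ.toMonoidHom = P.B)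
    {s : G} (hs : s ∈ P.S) :
    ∃ t ∈ P.S, (P.parabolic {s}).map θ.toMonoidHom = P.parabolic {t} := by
  have hθ' : P.B.map θ.symm.toMonoidHom = P.B := by
    conv_lhs => rw [← hθ]
    rw [Subgroup.map_map]
    have : θ.symm.toMonoidHom.comp θ.toMonoidHom = MonoidHom.id G := by
      ext x; simp
    rw [this, Subgroup.map_id]
  set M := (P.parabolic {s}).map θ.toMonoidHom with hM
  have hBM : P.B ≤ M := by
    rw [← hθ]
    exact Subgroup.map_mono (B_le_parabolic P _)
  have hMne : M ≠ P.B := by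
    intro e
    have h1 : θ s ∈ M := ⟨s, mem_parabolic_of_mem_S P hs, rfl⟩
    rw [e, ← hθ] at h1
    obtain ⟨b, hb, hbe⟩ := h1
    have : b = s := θ.injective hbe
    rw [this] at hb
    exact not_mem_B_of_mem_S P hs hb
  obtain ⟨t, ht, htM⟩ := exists_mem_S_of_lt P M hBM hMne
  refine ⟨t, ht, ?_⟩
  have hle : P.parabolic {t} ≤ M := parabolic_singleton_le P M hBM htM
  set M' := (P.parabolic {t}).map θ.symm.toMonoidHom with hM'
  have hM's : M' ≤ P.parabolic {s} := by
    have h1 : M' ≤ M.map θ.symm.toMonoidHom := Subgroup.map_mono hle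
    rw [hM, Subgroup.map_map] at h1
    have : θ.symm.toMonoidHom.comp θ.toMonoidHom = MonoidHom.id G := by
      ext x; simp
    rwa [this, Subgroup.map_id] at h1
  have hBM' : P.B ≤ M' := by
    rw [← hθ']
    exact Subgroup.map_mono (B_le_parabolic P _)
  have hM'ne : M' ≠ P.B := by
    intro e
    have h1 : θ.symm t ∈ M' := ⟨t, mem_parabolic_of_mem_S P ht, rfl⟩
    rw [e, ← hθ'] at h1
    obtain ⟨b, hb, hbe⟩ := h1
    have : b = t := θ.symm.injective hbe
    rw [this] at hb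
    exact not_mem_B_of_mem_S P ht hb
  obtain ⟨t', ht', ht'M⟩ := exists_mem_S_of_lt P M' hBM' hM'ne
  have h2 : t' ∈ ({s} : Set G) :=
    mem_of_mem_parabolic P (Set.singleton_subset_iff.mpr hs) ht' (hM's ht'M)
  rw [Set.mem_singleton_iff] at h2
  subst h2
  have h3 : P.parabolic {t'} ≤ M' := parabolic_singleton_le P M' hBM' ht'M
  have h4 : M ≤ P.parabolic {t} := by
    have h5 : M ≤ M'.map θ.toMonoidHom := Subgroup.map_mono h3
    rw [hM', Subgroup.map_map] at h5
    have : θ.toMonoidHom.comp θ.symm.toMonoidHom = MonoidHom.id G := by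
      ext x; simp
    rwa [this, Subgroup.map_id] at h5
  exact le_antisymm h4 hle

end

end Cfsg.Agent.Lib.Helper3.ChevAut
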