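import Mathlib
import Cfsg.Prelude.Def_ChevStructure
import Cfsg.Agent.Lib.Helper3.ChevAut4
import Cfsg.Agent.Lib.Helper3.ChevAut5
set_option autoImplicit false
set_option linter.unusedSectionVars false
set_option linter.style.haveILetI false
open Cfsg Cfsg.Lie

/-!
Automorphisms of Chevalley groups, part 6: an automorphism preserving `B` permutes the minimal parabolic
subgroups.
-/

namespace Cfsg.Agent.Lib.Helper3.ChevAut

open Cfsg.Agent.Lib.Helper3.ChevM Cfsg.Agent.Lib.Helper3.ChevSp Cfsg.Agent.Lib.Helper3 ChevU ChevT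
open Cfsg.Agent.Lib.Helper3.ChevAt Cfsg.Agent.Lib.Helper1
open DoubleCoset

section
variable {K : Type*} [Field K] {C : CDatum} {R : RelData C} (H : AtHyp C R)
include H

/-- The representative `n_i` as an element of the group. -/
def sI (R : RelData C) (K : Type*) [Field K] (i : ℕ) (hi : i < C.D.rank) : ↥(C.D.group K) :=
  ⟨R.nU (C.D.simple i) (1 : K), R.monomialSubgroup_le_group (R.nU_simple_mem i hi)⟩

theorem sI_mem_S (i : ℕ) (hi : i < C.D.rank) : sI R K i hi ∈ (H.U.K.bnPair (F := K) H.B).S := by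
  show ((sI R K i hi : ↥(C.D.group K)) : GL C.D.Idx K) ∈ simpleReps C.D K
  rw [R.mem_simpleReps]
  exact ⟨i, hi, rfl⟩

theorem exists_sI_of_mem_S (t : ↥(C.D.group K)) (ht : t ∈ (H.U.K.bnPair (F := K) H.B).S) :
    ∃ j, ∃ hj : j < C.D.rank, t = sI R K j hj := by
  have h1 : (t : GL C.D.Idx K) ∈ simpleReps C.D K := ht
  rw [R.mem_simpleReps] at h1
  obtain ⟨j, hj, e⟩ := h1
  exact ⟨j, hj, Subtype.ext e⟩

/-- The minimal parabolic subgroups in the two languages. -/
theorem mem_parabolic_sI_iff (i : ℕ) (hi : i < C.D.rank) (g : ↥(C.D.group K)) :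
    g ∈ (H.U.K.bnPair (F := K) H.B).parabolic {sI R K i hi} ↔
      (g : GL C.D.Idx K) ∈ C.D.parabolicSubgroup K {i} := by
  set P := H.U.K.bnPair (F := K) H.B with hP
  have hPB : P.B = (C.D.borelSubgroup K).subgroupOf (C.D.group K) := rfl
  constructor
  · intro hg
    have hle : P.parabolic {sI R K i hi} ≤
        (C.D.parabolicSubgroup K {i}).subgroupOf (C.D.group K) := by
      unfold BNPair.parabolic
      refine sup_le ?_ ?_
      · intro x hx
        rw [hPB, Subgroup.mem_subgroupOf] at hx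
        rw [Subgroup.mem_subgroupOf]
        exact (le_sup_left : C.D.borelSubgroup K ≤ C.D.parabolicSubgroup K _) hx
      · rw [Subgroup.closure_le]
        intro x hx
        rw [Set.mem_singleton_iff] at hx
        subst hx
        rw [SetLike.mem_coe, Subgroup.mem_subgroupOf]
        apply Subgroup.mem_sup_right
        apply Subgroup.subset_closure
        exact ⟨i, rfl, hi, R.nU_val _ _⟩
    have := hle hg
    rwa [Subgroup.mem_subgroupOf] at this
  · intro hg
    have hle : C.D.parabolicSubgroup K {i} ≤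
        (P.parabolic {sI R K i hi}).map (C.D.group K).subtype := by
      unfold ChevalleyDatum.parabolicSubgroup
      refine sup_le ?_ ?_
      · intro b hb
        refine ⟨⟨b, borel_le_group H hb⟩, ?_, rfl⟩
        apply Subgroup.mem_sup_left
        rw [hPB, Subgroup.mem_subgroupOf]
        exact hb
      · rw [Subgroup.closure_le]
        rintro x ⟨j, hj, -, hx⟩
        rw [Set.mem_singleton_iff] at hj
        subst hj
        have e : x = R.nU (C.D.simple j) (1 : K) := Units.ext (by rw [hx, R.nU_val])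
        refine ⟨sI R K j hi, ?_, e.symm⟩
        exact Subgroup.mem_sup_right (Subgroup.subset_closure rfl)
    obtain ⟨y, hy, e⟩ := hle hg
    have : y = g := Subtype.ext e
    rwa [this] at hy

variable [Finite K]

/-- An automorphism preserving `B` maps `B` onto `B`. -/
theorem map_B_eq (θ : ↥(C.D.group K) ≃* ↥(C.D.group K)) (hB : Pres θ (C.D.borelSubgroup K)) :
    (H.U.K.bnPair (F := K) H.B).B.map θ.toMonoidHom = (H.U.K.bnPair (F := K) H.B).B := by
  set P := H.U.K.bnPair (F := K) H.B with hP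
  have hPB : P.B = (C.D.borelSubgroup K).subgroupOf (C.D.group K) := rfl
  ext x
  constructor
  · rintro ⟨b, hb, rfl⟩
    rw [SetLike.mem_coe, hPB, Subgroup.mem_subgroupOf] at hb
    rw [hPB, Subgroup.mem_subgroupOf]
    have := hB _ hb
    rwa [ex_coe] at this
  · intro hx
    rw [hPB, Subgroup.mem_subgroupOf] at hx
    obtain ⟨b, hb, e⟩ := hB.surj (borel_le_group H) hx
    refine ⟨⟨b, borel_le_group H hb⟩, ?_, ?_⟩
    · rw [SetLike.mem_coe, hPB, Subgroup.mem_subgroupOf]; exact hb
    · apply Subtype.ext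
      rw [← e, ex_of_mem θ (borel_le_group H hb)]
      rfl

/-- An automorphism preserving `B` permutes the minimal parabolic subgroups. -/
theorem exists_parabolic_perm (θ : ↥(C.D.group K) ≃* ↥(C.D.group K)) (hB : Pres θ (C.D.borelSubgroup K))
    (i : ℕ) (hi : i < C.D.rank) :
    ∃ j < C.D.rank, ∀ g ∈ C.D.group K,
      (g ∈ C.D.parabolicSubgroup K {i} ↔ ex θ g ∈ C.D.parabolicSubgroup K {j}) := by
  set P := H.U.K.bnPair (F := K) H.B with hP
  obtain ⟨t, ht, hmap⟩ := exists_map_parabolic_singleton P θ (map_B_eq H θ hB) (sI_mem_S (K := K) H i hi)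
  obtain ⟨j, hj, rfl⟩ := exists_sI_of_mem_S H t ht
  refine ⟨j, hj, ?_⟩
  intro g hg
  rw [ex_of_mem θ hg, ← mem_parabolic_sI_iff H j hj, ← mem_parabolic_sI_iff H i hi ⟨g, hg⟩, ← hmap]
  constructor
  · intro h
    exact ⟨_, h, rfl⟩
  · rintro ⟨y, hy, e⟩
    have : y = ⟨g, hg⟩ := θ.injective e
    rwa [this] at hy

end

end Cfsg.Agent.Lib.Helper3.ChevAut
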