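import Mathlib
import Cfsg.Prelude.Def_ChevStructure
import Cfsg.Agent.Lib.Helper3.ChevAut6
import Cfsg.Agent.Lib.Helper3.ChevO1
set_option autoImplicit false
set_option linter.unusedSectionVars false
set_option linter.style.haveILetI false
open Cfsg Cfsg.Lie

/-!
Automorphisms of Chevalley groups, part 7: the intersection of `V` with a minimal parabolic subgroup is
the root subgroup of the negative of a fundamental root.
-/

namespace Cfsg.Agent.Lib.Helper3.ChevAut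

open Cfsg.Agent.Lib.Helper3.ChevM Cfsg.Agent.Lib.Helper3.ChevSp Cfsg.Agent.Lib.Helper3 ChevU ChevT
open Cfsg.Agent.Lib.Helper3.ChevAt Cfsg.Agent.Lib.Helper1
open DoubleCoset

section
variable {K : Type*} [Field K] {C : CDatum} {R : RelData C} (H : AtHyp C R)
include H

theorem simple_pos (i : ℕ) (hi : i < C.D.rank) : C.D.IsPosRoot (C.D.simple i) := by
  have hns := H.B.mono.ns i hi
  simp only [negSimpleCheck, Bool.and_eq_true, Bool.not_eq_true', decide_eq_false_iff_not, decide_eq_true_eq] at hns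
  exact hns.2

theorem neg_simple_neg (i : ℕ) (hi : i < C.D.rank) : C.D.IsNegRoot (C.D.neg (C.D.simple i)) := by
  have h1 := signCheck_spec (H.sign _ (R.neg_lt _ (R.simple_lt i hi)))
  have h2 := signCheck_spec (H.sign _ (R.simple_lt i hi))
  rw [h1.2.1, h2.2.2]
  exact simple_pos H i hi

/-- `U_{w_i}⁻` is the root subgroup of the fundamental root `p_i`. -/
theorem uMinus_simple_le (h : GL C.D.Idx K) (hh : h ∈ C.D.diagonalSubgroup K) (i : ℕ) (hi : i < C.D.rank)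
    (u : GL C.D.Idx K) (hu : u ∈ uMinus C.D K (h * R.nWordU [i])) : ∃ t : K, u = R.xU (C.D.simple i) t := by
  have hu' : u ∈ (uMinus C.D K (h * R.nWordU [i]) : Set (GL C.D.Idx K)) := hu
  rw [H.U.uMinus_eq (F := K) H.B H.ntri H.sign h hh [i] (by simpa using hi)] at hu'
  obtain ⟨t, rfl⟩ := hu'
  apply R.mem_rootSubgroup
  unfold RootSys.lprod
  apply Subgroup.list_prod_mem
  intro x hx
  obtain ⟨r, hr, rfl⟩ := List.mem_map.mp hx
  rw [mem_negSet] at hr
  obtain ⟨hpos, hneg⟩ := hr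
  have hwp := H.B.mono.wp i hi r hpos.1
  simp only [wpCheck, Bool.or_eq_true, Bool.not_eq_true', Bool.and_eq_true, decide_eq_true_eq,
    Bool.and_eq_false_iff, decide_eq_false_iff_not, ne_eq, not_not] at hwp
  have hrs : r = C.D.simple i := by
    rcases hwp with (h1 | h1) | h1
    · exact absurd hpos h1
    · exact h1
    · exfalso
      exact not_pos_of_neg H _ hneg h1.1
  rw [hrs]
  exact R.xU_mem_rootSubgroup _ _

/-- The elements of a minimal parabolic subgroup. -/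
theorem parabolic_cases (i : ℕ) (hi : i < C.D.rank) (g : GL C.D.Idx K) (hg : g ∈ C.D.group K)
    (hgP : g ∈ C.D.parabolicSubgroup K {i}) :
    g ∈ C.D.borelSubgroup K ∨ ∃ b ∈ C.D.borelSubgroup K, ∃ h ∈ C.D.diagonalSubgroup K, ∃ t : K,
      g = b * (h * R.nWordU [i]) * R.xU (C.D.simple i) t := by
  set P := H.U.K.bnPair (F := K) H.B with hP
  have hPB : P.B = (C.D.borelSubgroup K).subgroupOf (C.D.group K) := rfl
  have hPN : P.N = (C.D.monomialSubgroup K).subgroupOf (C.D.group K) := rfl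
  have hNG : C.D.monomialSubgroup K ≤ C.D.group K := R.monomialSubgroup_le_group
  have hBG : C.D.borelSubgroup K ≤ C.D.group K := borel_le_group H
  have hUB : C.D.posUnipotent K ≤ C.D.borelSubgroup K := le_sup_left
  have h1 := (mem_parabolic_sI_iff H i hi ⟨g, hg⟩).mpr hgP
  rcases mem_parabolic_singleton P (sI_mem_S (K := K) H i hi) _ h1 with h2 | h2
  · left
    rw [hPB, Subgroup.mem_subgroupOf] at h2
    exact h2
  · right
    obtain ⟨bru1, -⟩ := H.U.bruhat_normal_form (F := K) H.B H.ntri (fun r hr => signCheck_or (H.sign r hr))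
    obtain ⟨b, hb, n, hn, u, hu, rfl⟩ := bru1 g hg
    have huU := uMinus_le_posUnipotent C.D n hu
    -- the double cosets of `n` and `n_i` coincide
    have h3 : (⟨b * n * u, hg⟩ : ↥(C.D.group K)) ∈
        doubleCoset (⟨n, hNG hn⟩ : ↥(C.D.group K)) (P.B : Set ↥(C.D.group K)) P.B := by
      rw [mem_doubleCoset]
      refine ⟨⟨b, hBG hb⟩, ?_, ⟨u, hBG (hUB huU)⟩, ?_, rfl⟩
      · rw [SetLike.mem_coe, hPB, Subgroup.mem_subgroupOf]; exact hb
      · rw [SetLike.mem_coe, hPB, Subgroup.mem_subgroupOf]; exact hUB huU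
    have heq : doubleCoset (sI R K i hi) (P.B : Set ↥(C.D.group K)) P.B =
        doubleCoset (⟨n, hNG hn⟩ : ↥(C.D.group K)) (P.B : Set ↥(C.D.group K)) P.B := by
      rw [← doubleCoset_eq_of_mem h2, ← doubleCoset_eq_of_mem h3]
    have hsN : sI R K i hi ∈ P.N := P.subset (sI_mem_S (K := K) H i hi)
    have hnP : (⟨n, hNG hn⟩ : ↥(C.D.group K)) ∈ P.N := by
      rw [hPN, Subgroup.mem_subgroupOf]; exact hn
    have h4 := (Cfsg.Agent.S0309.result P hsN hnP).mp heq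
    rw [hPB, Subgroup.mem_subgroupOf] at h4
    have h4' : (R.nU (C.D.simple i) (1 : K))⁻¹ * n ∈ C.D.borelSubgroup K := h4
    have hniN : R.nU (C.D.simple i) (1 : K) ∈ C.D.monomialSubgroup K := R.nU_simple_mem i hi
    have h5 : (R.nU (C.D.simple i) (1 : K))⁻¹ * n ∈ C.D.diagonalSubgroup K := by
      rw [← H.B.mono.borel_inf_monomial]
      exact ⟨h4', Subgroup.mul_mem _ (Subgroup.inv_mem _ hniN) hn⟩
    set n_i := R.nU (C.D.simple i) (1 : K) with hni
    have h6 : n_i * (n_i⁻¹ * n) * n_i⁻¹ ∈ C.D.diagonalSubgroup K := H.B.mono.conj_mem n_i hniN _ h5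
    have hword : R.nWordU (F := K) [i] = n_i := by
      rw [R.nWordU_cons, R.nWordU_nil, mul_one]
    have en : n = (n_i * (n_i⁻¹ * n) * n_i⁻¹) * R.nWordU [i] := by
      rw [hword]; group
    rw [en] at hu
    obtain ⟨t, ht⟩ := uMinus_simple_le H _ h6 i hi u hu
    refine ⟨b, hb, _, h6, t, ?_⟩
    rw [← en, ht]

/-- A monomial element in the big cell `V B` lies in `H`. -/
theorem mem_diagonal_of_neg_mul_borel (w0 : List ℕ) (hw0l : ∀ i ∈ w0, i < C.D.rank)
    (hw0 : ∀ r, C.D.IsPosRoot r → C.D.IsNegRoot (reflW R.refl w0 r))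
    (n v b : GL C.D.Idx K) (hn : n ∈ C.D.monomialSubgroup K) (hv : v ∈ C.D.negUnipotent K)
    (hb : b ∈ C.D.borelSubgroup K) (e : n = v * b) : n ∈ C.D.diagonalSubgroup K := by
  set P := H.U.K.bnPair (F := K) H.B with hP
  have hPB : P.B = (C.D.borelSubgroup K).subgroupOf (C.D.group K) := rfl
  have hPN : P.N = (C.D.monomialSubgroup K).subgroupOf (C.D.group K) := rfl
  have hNG : C.D.monomialSubgroup K ≤ C.D.group K := R.monomialSubgroup_le_group
  have hBG : C.D.borelSubgroup K ≤ C.D.group K := borel_le_group H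
  have hUB : C.D.posUnipotent K ≤ C.D.borelSubgroup K := le_sup_left
  have hmap := map_conj_w0 (K := K) H w0 hw0l hw0
  set n₀ : GL C.D.Idx K := R.nWordU w0 with hn₀
  have hn₀N : n₀ ∈ C.D.monomialSubgroup K := R.nWordU_mem w0 hw0l
  rw [← hmap] at hv
  obtain ⟨x, hx, rfl⟩ := hv
  change n = n₀ * x * n₀⁻¹ * b at e
  have hm1 : n₀⁻¹ * n ∈ C.D.monomialSubgroup K := Subgroup.mul_mem _ (Subgroup.inv_mem _ hn₀N) hn
  have hm2 : n₀⁻¹ ∈ C.D.monomialSubgroup K := Subgroup.inv_mem _ hn₀N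
  have h3 : (⟨n₀⁻¹ * n, hNG hm1⟩ : ↥(C.D.group K)) ∈
      doubleCoset (⟨n₀⁻¹, hNG hm2⟩ : ↥(C.D.group K)) (P.B : Set ↥(C.D.group K)) P.B := by
    rw [mem_doubleCoset]
    refine ⟨⟨x, hBG (hUB hx)⟩, ?_, ⟨b, hBG hb⟩, ?_, ?_⟩
    · rw [SetLike.mem_coe, hPB, Subgroup.mem_subgroupOf]; exact hUB hx
    · rw [SetLike.mem_coe, hPB, Subgroup.mem_subgroupOf]; exact hb
    · apply Subtype.ext
      show n₀⁻¹ * n = x * n₀⁻¹ * b
      rw [e]; group
  have heq := doubleCoset_eq_of_mem h3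
  have hP1 : (⟨n₀⁻¹ * n, hNG hm1⟩ : ↥(C.D.group K)) ∈ P.N := by
    rw [hPN, Subgroup.mem_subgroupOf]; exact hm1
  have hP2 : (⟨n₀⁻¹, hNG hm2⟩ : ↥(C.D.group K)) ∈ P.N := by
    rw [hPN, Subgroup.mem_subgroupOf]; exact hm2
  have h4 := (Cfsg.Agent.S0309.result P hP1 hP2).mp heq
  rw [hPB, Subgroup.mem_subgroupOf] at h4
  have h4' : (n₀⁻¹ * n)⁻¹ * n₀⁻¹ ∈ C.D.borelSubgroup K := h4
  have e2 : (n₀⁻¹ * n)⁻¹ * n₀⁻¹ = n⁻¹ := by group
  rw [e2] at h4'
  rw [← H.B.mono.borel_inf_monomial]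
  exact ⟨by simpa using Subgroup.inv_mem _ h4', hn⟩

theorem nU_simple_not_mem_borel (i : ℕ) (hi : i < C.D.rank) :
    R.nU (C.D.simple i) (1 : K) ∉ C.D.borelSubgroup K := by
  set P := H.U.K.bnPair (F := K) H.B with hP
  have hPB : P.B = (C.D.borelSubgroup K).subgroupOf (C.D.group K) := rfl
  intro hmem
  apply not_mem_B_of_mem_S P (sI_mem_S (K := K) H i hi)
  rw [hPB, Subgroup.mem_subgroupOf]
  exact hmem

/-- The intersection of `V` with the minimal parabolic subgroup `P_i` lies in `X_{-p_i}`. -/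
theorem neg_inf_parabolic (w0 : List ℕ) (hw0l : ∀ i ∈ w0, i < C.D.rank)
    (hw0 : ∀ r, C.D.IsPosRoot r → C.D.IsNegRoot (reflW R.refl w0 r))
    (i : ℕ) (hi : i < C.D.rank) (v : GL C.D.Idx K) (hv : v ∈ C.D.negUnipotent K)
    (hvP : v ∈ C.D.parabolicSubgroup K {i}) : ∃ c : K, v = R.xU (C.D.neg (C.D.simple i)) c := by
  have hVG := negUnipotent_le_group (K := K) H
  have hbn := (R.borel_inf_neg (F := K) H.B.dec H.B.mono.tri H.ntri).1
  have hHB : C.D.diagonalSubgroup K ≤ C.D.borelSubgroup K := le_sup_right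
  have hUB : C.D.posUnipotent K ≤ C.D.borelSubgroup K := le_sup_left
  set α := C.D.simple i with hα
  have hαpos : C.D.IsPosRoot α := simple_pos H i hi
  rcases parabolic_cases H i hi v⁻¹ (Subgroup.inv_mem _ (hVG hv)) (Subgroup.inv_mem _ hvP) with h1 | h1
  · refine ⟨0, ?_⟩
    have : v⁻¹ ∈ C.D.borelSubgroup K ⊓ C.D.negUnipotent K := ⟨h1, Subgroup.inv_mem _ hv⟩
    rw [hbn, Subgroup.mem_bot, inv_eq_one] at this
    rw [this, R.xU_zero]
  · obtain ⟨b, hb, h, hh, t, e⟩ := h1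
    have hword : R.nWordU (F := K) [i] = R.nU α 1 := by
      rw [R.nWordU_cons, R.nWordU_nil, mul_one]
    rw [hword, ← hα] at e
    have ev : v = R.xU α (-t) * (R.nU α 1)⁻¹ * (h⁻¹ * b⁻¹) := by
      have : v = (v⁻¹)⁻¹ := by group
      rw [this, e, ← R.xU_inv]; group
    have hb' : h⁻¹ * b⁻¹ ∈ C.D.borelSubgroup K :=
      Subgroup.mul_mem _ (Subgroup.inv_mem _ (hHB hh)) (Subgroup.inv_mem _ hb)
    by_cases ht : t = 0
    · exfalso
      rw [ht, neg_zero, R.xU_zero, one_mul] at ev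
      have e2 : (R.nU α (1 : K))⁻¹ = v * (h⁻¹ * b⁻¹)⁻¹ := by rw [ev]; group
      have hniN : R.nU α (1 : K) ∈ C.D.monomialSubgroup K := R.nU_simple_mem i hi
      have := mem_diagonal_of_neg_mul_borel H w0 hw0l hw0 _ v _ (Subgroup.inv_mem _ hniN) hv
        (Subgroup.inv_mem _ hb') e2
      apply nU_simple_not_mem_borel (K := K) H i hi
      have h3 := hHB (Subgroup.inv_mem _ this)
      rwa [inv_inv] at h3
    · refine ⟨-t⁻¹, ?_⟩
      have hid : R.xU (C.D.neg α) t⁻¹ * R.xU α (-t) = R.xU α t * R.nU α (-t) := by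
        rw [R.nU_eq α (-t), neg_inv, neg_neg, ← mul_assoc, ← mul_assoc, R.xU_add, add_neg_cancel, R.xU_zero,
          one_mul]
      have hw : (R.xU (C.D.neg α) (-t⁻¹))⁻¹ * v = R.xU α t * R.hU α (-t) * (h⁻¹ * b⁻¹) := by
        rw [R.xU_inv, neg_neg, ev, R.hU_eq, R.nU_inv α 1]
        calc R.xU (C.D.neg α) t⁻¹ * (R.xU α (-t) * R.nU α (-1) * (h⁻¹ * b⁻¹))
            = (R.xU (C.D.neg α) t⁻¹ * R.xU α (-t)) * R.nU α (-1) * (h⁻¹ * b⁻¹) := by group
          _ = R.xU α t * (R.nU α (-t) * R.nU α (-1)) * (h⁻¹ * b⁻¹) := by rw [hid]; group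
      have hwB : (R.xU (C.D.neg α) (-t⁻¹))⁻¹ * v ∈ C.D.borelSubgroup K := by
        rw [hw]
        refine Subgroup.mul_mem _ (Subgroup.mul_mem _ (hUB (xU_mem_pos H α hαpos t)) (hHB ?_)) hb'
        exact R.hU_mem α hαpos.1 _ (neg_ne_zero.mpr ht)
      have hwV : (R.xU (C.D.neg α) (-t⁻¹))⁻¹ * v ∈ C.D.negUnipotent K :=
        Subgroup.mul_mem _ (Subgroup.inv_mem _ (xU_mem_neg H _ (neg_simple_neg H i hi) _)) hv
      have : (R.xU (C.D.neg α) (-t⁻¹))⁻¹ * v ∈ C.D.borelSubgroup K ⊓ C.D.negUnipotent K := ⟨hwB, hwV⟩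
      rw [hbn, Subgroup.mem_bot, inv_mul_eq_one] at this
      exact this.symm

/-- The root elements of the negative of a fundamental root lie in the minimal parabolic subgroup. -/
theorem xU_neg_simple_mem_parabolic (i : ℕ) (hi : i < C.D.rank) (c : K) :
    R.xU (C.D.neg (C.D.simple i)) c ∈ C.D.parabolicSubgroup K {i} := by
  set α := C.D.simple i with hα
  have hαpos : C.D.IsPosRoot α := simple_pos H i hi
  have hBP : C.D.borelSubgroup K ≤ C.D.parabolicSubgroup K {i} := le_sup_left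
  have hHB : C.D.diagonalSubgroup K ≤ C.D.borelSubgroup K := le_sup_right
  have hUB : C.D.posUnipotent K ≤ C.D.borelSubgroup K := le_sup_left
  have hni : R.nU α (1 : K) ∈ C.D.parabolicSubgroup K {i} := by
    apply Subgroup.mem_sup_right
    apply Subgroup.subset_closure
    exact ⟨i, rfl, hi, R.nU_val _ _⟩
  by_cases hc : c = 0
  · rw [hc, R.xU_zero]; exact Subgroup.one_mem _
  · have ha0 : -c⁻¹ ≠ 0 := neg_ne_zero.mpr (inv_ne_zero hc)
    have hna : R.nU α (-c⁻¹) ∈ C.D.parabolicSubgroup K {i} := by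
      have e : R.nU α (-c⁻¹) = R.hU α (-c⁻¹) * R.nU α 1 := by
        rw [R.hU_eq, mul_assoc, ← R.nU_inv α 1, inv_mul_cancel, mul_one]
      rw [e]
      exact Subgroup.mul_mem _ (hBP (hHB (R.hU_mem α hαpos.1 _ ha0))) hni
    have hpar : -(-c⁻¹)⁻¹ = c := by rw [inv_neg, inv_inv, neg_neg]
    have key : R.nU α (-c⁻¹) = R.xU α (-c⁻¹) * R.xU (C.D.neg α) c * R.xU α (-c⁻¹) := by
      rw [R.nU_eq, hpar]
    have h1 : R.xU α c⁻¹ * R.xU α (-c⁻¹) = 1 := by rw [R.xU_add, add_neg_cancel, R.xU_zero]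
    have h2 : R.xU α (-c⁻¹) * R.xU α c⁻¹ = 1 := by rw [R.xU_add, neg_add_cancel, R.xU_zero]
    have e2 : R.xU (C.D.neg α) c = R.xU α c⁻¹ * R.nU α (-c⁻¹) * R.xU α c⁻¹ := by
      rw [key]
      calc R.xU (C.D.neg α) c = (R.xU α c⁻¹ * R.xU α (-c⁻¹)) * R.xU (C.D.neg α) c *
            (R.xU α (-c⁻¹) * R.xU α c⁻¹) := by rw [h1, h2, one_mul, mul_one]
        _ = _ := by group
    rw [e2]
    exact Subgroup.mul_mem _ (Subgroup.mul_mem _ (hBP (hUB (xU_mem_pos H α hαpos _))) hna)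
      (hBP (hUB (xU_mem_pos H α hαpos _)))

end

end Cfsg.Agent.Lib.Helper3.ChevAut
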