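import Mathlib
import Cfsg.Prelude.Def_ChevStructure
import Cfsg.Agent.Lib.Helper3.ChevAut7
set_option autoImplicit false
set_option linter.unusedSectionVars false
set_option linter.style.haveILetI false
open Cfsg Cfsg.Lie

/-!
Automorphisms of Chevalley groups, part 8: an automorphism preserving `U` and `V` permutes the root
subgroups of the fundamental roots and of their negatives.
-/

namespace Cfsg.Agent.Lib.Helper3.ChevAut

open Cfsg.Agent.Lib.Helper3.ChevM Cfsg.Agent.Lib.Helper3.ChevSp Cfsg.Agent.Lib.Helper3 ChevU ChevT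
open Cfsg.Agent.Lib.Helper3.ChevAt Cfsg.Agent.Lib.Helper1

section
variable {K : Type*} [Field K] {C : CDatum} {R : RelData C} (H : AtHyp C R)
include H

theorem pos_of_neg_neg (r : ℕ) (hr : r < C.D.nroots) (h : C.D.IsNegRoot (C.D.neg r)) : C.D.IsPosRoot r := by
  have h1 := signCheck_spec (H.sign _ h.1)
  have h2 := signCheck_spec (H.sign r hr)
  have := h1.2.1.mp h
  rwa [h2.2.2] at this

/-- If `w` maps every positive root to a negative root then `n V n⁻¹ = U`. -/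
theorem map_conj_neg_eq_pos (h : GL C.D.Idx K) (hh : h ∈ C.D.diagonalSubgroup K) (l : List ℕ)
    (hl : ∀ i ∈ l, i < C.D.rank)
    (hneg : ∀ r, C.D.IsPosRoot r → C.D.IsNegRoot (reflW R.refl l r)) :
    (C.D.negUnipotent K).map (MulAut.conj (h * R.nWordU l)).toMonoidHom = C.D.posUnipotent K := by
  obtain ⟨d, hd⟩ := H.B.mono.conj_word_xU (F := K) H.B.dec h hh l hl
  apply le_antisymm
  · unfold ChevalleyDatum.negUnipotent
    rw [MonoidHom.map_closure, Subgroup.closure_le]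
    rintro _ ⟨g, ⟨s, t, hs, hg⟩, rfl⟩
    have hg' : g = R.xU s t := Units.ext hg
    show MulAut.conj (h * R.nWordU l) g ∈ _
    rw [MulAut.conj_apply, hg', (hd s hs.1).2 t]
    apply xU_mem_pos H
    apply pos_of_neg_neg H _ (R.reflW_lt l hl s hs.1)
    rw [← H.B.mono.reflW_neg l hl s hs.1]
    exact hneg _ (neg_pos_of_neg H s hs)
  · unfold ChevalleyDatum.posUnipotent
    rw [Subgroup.closure_le]
    rintro g ⟨r, t, hr, hg⟩
    have hg' : g = R.xU r t := Units.ext hg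
    set s := reflW R.refl l.reverse r with hs
    have hrev : ∀ i ∈ l.reverse, i < C.D.rank := fun i hi => hl i (List.mem_reverse.mp hi)
    have hslt : s < C.D.nroots := R.reflW_lt _ hrev r hr.1
    have hsr : reflW R.refl l s = r := by
      have := R.reflW_reverse H.B.mono.inv l.reverse hrev r hr.1
      rwa [List.reverse_reverse] at this
    have hsneg : C.D.IsNegRoot s := by
      rcases pos_or_neg H s hslt with hp | hn
      · exfalso
        have h1 := hneg s hp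
        rw [hsr] at h1
        exact not_pos_of_neg H _ h1 hr
      · exact hn
    refine ⟨R.xU s ((d s)⁻¹ * t), xU_mem_neg H s hsneg _, ?_⟩
    show MulAut.conj (h * R.nWordU l) _ = g
    rw [MulAut.conj_apply, (hd s hslt).2, hsr, hg', ← mul_assoc, mul_inv_cancel₀ (hd s hslt).1, one_mul]

theorem xU_mem_group' (r : ℕ) (hr : r < C.D.nroots) (c : K) : R.xU r c ∈ C.D.group K :=
  R.xU_mem_group r hr c

variable [Finite K]

/-- An automorphism preserving `U` and `V` permutes the root subgroups of the negatives of the fundamental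
roots. -/
theorem pres_neg_simple (w0 : List ℕ) (hw0l : ∀ i ∈ w0, i < C.D.rank)
    (hw0 : ∀ r, C.D.IsPosRoot r → C.D.IsNegRoot (reflW R.refl w0 r))
    (θ : ↥(C.D.group K) ≃* ↥(C.D.group K)) (hU : Pres θ (C.D.posUnipotent K))
    (hV : Pres θ (C.D.negUnipotent K)) (i : ℕ) (hi : i < C.D.rank) :
    ∃ j < C.D.rank, ∀ c : K, ∃ c' : K,
      ex θ (R.xU (C.D.neg (C.D.simple i)) c) = R.xU (C.D.neg (C.D.simple j)) c' := by
  have hB := pres_borel H θ hU
  obtain ⟨j, hj, hiff⟩ := exists_parabolic_perm H θ hB i hi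
  refine ⟨j, hj, fun c => ?_⟩
  have hneg := neg_simple_neg H i hi
  have hxV : R.xU (C.D.neg (C.D.simple i)) c ∈ C.D.negUnipotent K := xU_mem_neg H _ hneg c
  have hxG : R.xU (C.D.neg (C.D.simple i)) c ∈ C.D.group K := R.xU_mem_group _ hneg.1 c
  have h1 := (hiff _ hxG).mp (xU_neg_simple_mem_parabolic H i hi c)
  exact neg_inf_parabolic H w0 hw0l hw0 j hj _ (hV _ hxV) h1

/-- An automorphism preserving `U` and `V` permutes the root subgroups of the fundamental roots. -/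
theorem pres_pos_simple (w0 : List ℕ) (hw0l : ∀ i ∈ w0, i < C.D.rank)
    (hw0 : ∀ r, C.D.IsPosRoot r → C.D.IsNegRoot (reflW R.refl w0 r))
    (opp : ℕ → ℕ) (hopp : ∀ i < C.D.rank, opp i < C.D.rank ∧
      reflW R.refl w0 (C.D.neg (C.D.simple i)) = C.D.simple (opp i) ∧ opp (opp i) = i)
    (θ : MulAut ↥(C.D.group K)) (hU : Pres θ (C.D.posUnipotent K))
    (hV : Pres θ (C.D.negUnipotent K)) (k : ℕ) (hk : k < C.D.rank) :
    ∃ k' < C.D.rank, ∀ c : K, ∃ c' : K, ex θ (R.xU (C.D.simple k) c) = R.xU (C.D.simple k') c' := by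
  have hUG : C.D.posUnipotent K ≤ C.D.group K := R.posUnipotent_le_group
  have hVG : C.D.negUnipotent K ≤ C.D.group K := negUnipotent_le_group H
  have hmap := map_conj_w0 (K := K) H w0 hw0l hw0
  have hmap' := map_conj_neg_eq_pos (K := K) H 1 (Subgroup.one_mem _) w0 hw0l hw0
  rw [one_mul] at hmap'
  set n₀ : GL C.D.Idx K := R.nWordU w0 with hn₀
  have hn₀N : n₀ ∈ C.D.monomialSubgroup K := R.nWordU_mem w0 hw0l
  have hn₀G : n₀ ∈ C.D.group K := R.monomialSubgroup_le_group hn₀N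
  set a₀ : ↥(C.D.group K) := ⟨n₀, hn₀G⟩ with ha₀
  set θ' : MulAut ↥(C.D.group K) := MulAut.conj a₀⁻¹ * (θ * MulAut.conj a₀) with hθ'
  have hθ'ex : ∀ g ∈ C.D.group K, ex θ' g = n₀⁻¹ * ex θ (n₀ * g * n₀⁻¹) * n₀ := by
    intro g hg
    have h1 : n₀ * g * n₀⁻¹ ∈ C.D.group K :=
      Subgroup.mul_mem _ (Subgroup.mul_mem _ hn₀G hg) (Subgroup.inv_mem _ hn₀G)
    rw [hθ', ex_mul_aut _ _ hg, ex_mul_aut _ _ hg, ex_conj _ hg, ex_conj _ (ex_mem θ h1)]
    simp [ha₀]
  have hU' : Pres θ' (C.D.posUnipotent K) := by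
    intro u hu
    rw [hθ'ex u (hUG hu)]
    have h1 : n₀ * u * n₀⁻¹ ∈ C.D.negUnipotent K := by rw [← hmap]; exact ⟨u, hu, rfl⟩
    have h2 := hV _ h1
    rw [← hmap] at h2
    obtain ⟨x, hx, e⟩ := h2
    change n₀ * x * n₀⁻¹ = _ at e
    rw [← e]
    have : n₀⁻¹ * (n₀ * x * n₀⁻¹) * n₀ = x := by group
    rw [this]; exact hx
  have hV' : Pres θ' (C.D.negUnipotent K) := by
    intro v hv
    rw [hθ'ex v (hVG hv)]
    have h1 : n₀ * v * n₀⁻¹ ∈ C.D.posUnipotent K := by rw [← hmap']; exact ⟨v, hv, rfl⟩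
    have h2 := hU _ h1
    rw [← hmap'] at h2
    obtain ⟨x, hx, e⟩ := h2
    change n₀ * x * n₀⁻¹ = _ at e
    rw [← e]
    have : n₀⁻¹ * (n₀ * x * n₀⁻¹) * n₀ = x := by group
    rw [this]; exact hx
  obtain ⟨hk1, hk2, hk3⟩ := hopp k hk
  obtain ⟨j, hj, hjc⟩ := pres_neg_simple H w0 hw0l hw0 θ' hU' hV' (opp k) hk1
  obtain ⟨hj1, hj2, hj3⟩ := hopp j hj
  obtain ⟨d, hd⟩ := H.B.mono.conj_word_xU (F := K) H.B.dec 1 (Subgroup.one_mem _) w0 hw0l
  simp only [one_mul] at hd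
  obtain ⟨hok1, hok2, hok3⟩ := hopp (opp k) hk1
  rw [hk3] at hok2
  have hlt1 := R.neg_lt _ (R.simple_lt (opp k) hk1)
  have hlt2 := R.neg_lt _ (R.simple_lt j hj)
  refine ⟨opp j, hj1, fun c => ?_⟩
  -- `x_{p_k}(c) = n₀ x_{-p_{opp k}}(c₁) n₀⁻¹`
  set c₁ : K := (d (C.D.neg (C.D.simple (opp k))))⁻¹ * c with hc₁
  have e1 : R.xU (C.D.simple k) c = n₀ * R.xU (C.D.neg (C.D.simple (opp k))) c₁ * n₀⁻¹ := by
    rw [(hd _ hlt1).2, hok2, hc₁, ← mul_assoc, mul_inv_cancel₀ (hd _ hlt1).1, one_mul]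
  obtain ⟨c', hc'⟩ := hjc c₁
  rw [hθ'ex _ (R.xU_mem_group _ hlt1 _), ← e1] at hc'
  have e2 : ex θ (R.xU (C.D.simple k) c) = n₀ * R.xU (C.D.neg (C.D.simple j)) c' * n₀⁻¹ := by
    rw [← hc']; group
  rw [e2, (hd _ hlt2).2, hj2]
  exact ⟨_, rfl⟩

end

end Cfsg.Agent.Lib.Helper3.ChevAut
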