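import Mathlib
import Cfsg.Prelude.Def_ChevStructure
import Cfsg.Agent.Lib.Helper3.ChevAut8
set_option autoImplicit false
set_option linter.unusedSectionVars false
set_option linter.style.haveILetI false
open Cfsg Cfsg.Lie

/-!
Automorphisms of Chevalley groups, part 9: commutation of the root elements of the fundamental roots and
their negatives; the permutation of the fundamental roots induced by an automorphism preserving `U` and `V`.
-/

namespace Cfsg.Agent.Lib.Helper3.ChevAut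

open Cfsg.Agent.Lib.Helper3.ChevM Cfsg.Agent.Lib.Helper3.ChevSp Cfsg.Agent.Lib.Helper3 ChevU ChevT
open Cfsg.Agent.Lib.Helper3.ChevAt Cfsg.Agent.Lib.Helper1

section
variable {K : Type*} [Field K] {C : CDatum} {R : RelData C} (H : AtHyp C R)
include H

/-- `x_{-α}(c) = x_α(c⁻¹) n_α(-c⁻¹) x_α(c⁻¹)`. -/
theorem xU_neg_eq (α : ℕ) (c : K) (_hc : c ≠ 0) :
    R.xU (C.D.neg α) c = R.xU α c⁻¹ * R.nU α (-c⁻¹) * R.xU α c⁻¹ := by
  have hpar : -(-c⁻¹)⁻¹ = c := by rw [inv_neg, inv_inv, neg_neg]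
  have key : R.nU α (-c⁻¹) = R.xU α (-c⁻¹) * R.xU (C.D.neg α) c * R.xU α (-c⁻¹) := by
    rw [R.nU_eq, hpar]
  have h1 : R.xU α c⁻¹ * R.xU α (-c⁻¹) = 1 := by rw [R.xU_add, add_neg_cancel, R.xU_zero]
  have h2 : R.xU α (-c⁻¹) * R.xU α c⁻¹ = 1 := by rw [R.xU_add, neg_add_cancel, R.xU_zero]
  rw [key]
  calc R.xU (C.D.neg α) c = (R.xU α c⁻¹ * R.xU α (-c⁻¹)) * R.xU (C.D.neg α) c *
        (R.xU α (-c⁻¹) * R.xU α c⁻¹) := by rw [h1, h2, one_mul, mul_one]
    _ = _ := by group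

/-- `n_α(b)` conjugates `x_α(a)` to a root element of `-α`, for a fundamental root `α`. -/
theorem conj_nU_simple (i : ℕ) (hi : i < C.D.rank) (b : K) (hb : b ≠ 0) :
    ∃ d : K, d ≠ 0 ∧ ∀ a : K, R.nU (C.D.simple i) b * R.xU (C.D.simple i) a * (R.nU (C.D.simple i) b)⁻¹ =
      R.xU (C.D.neg (C.D.simple i)) (d * a) := by
  set α := C.D.simple i with hα
  have hαlt : α < C.D.nroots := R.simple_lt i hi
  have e : R.nU α b = R.hU α b * R.nU α 1 := by
    rw [R.hU_eq, mul_assoc, ← R.nU_inv α 1, inv_mul_cancel, mul_one]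
  obtain ⟨d, hd⟩ := H.U.diagonal_conj_xU (F := K) H.B (R.hU α b) (R.hU_mem α hαlt b hb)
  refine ⟨-(d (C.D.neg α)), neg_ne_zero.mpr (hd _ (R.neg_lt α hαlt)).1, fun a => ?_⟩
  have h1 := H.B.mono.conj_simple_self (F := K) i hi a
  rw [← hα] at h1
  have e2 : R.nU α b * R.xU α a * (R.nU α b)⁻¹ =
      R.hU α b * (R.nU α 1 * R.xU α a * (R.nU α 1)⁻¹) * (R.hU α b)⁻¹ := by
    rw [e]; group
  rw [e2, h1, (hd _ (R.neg_lt α hαlt)).2]
  congr 1
  ring

/-- A root element of a fundamental root and a root element of its negative do not commute. -/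
theorem not_comm_simple (i : ℕ) (hi : i < C.D.rank) (a c : K) (ha : a ≠ 0)
    (hcomm : R.xU (C.D.simple i) a * R.xU (C.D.neg (C.D.simple i)) c =
      R.xU (C.D.neg (C.D.simple i)) c * R.xU (C.D.simple i) a) : c = 0 := by
  by_contra hc
  set α := C.D.simple i with hα
  have hαpos : C.D.IsPosRoot α := simple_pos H i hi
  obtain ⟨d, hd0, hd⟩ := conj_nU_simple (K := K) H i hi (-c⁻¹) (neg_ne_zero.mpr (inv_ne_zero hc))
  rw [← hα] at hd
  have e := xU_neg_eq (K := K) H α c hc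
  have hn : R.nU α (-c⁻¹) = R.xU α (-c⁻¹) * R.xU (C.D.neg α) c * R.xU α (-c⁻¹) := by
    rw [e]
    have h1 : R.xU α (-c⁻¹) * R.xU α c⁻¹ = 1 := by rw [R.xU_add, neg_add_cancel, R.xU_zero]
    have h2 : R.xU α c⁻¹ * R.xU α (-c⁻¹) = 1 := by rw [R.xU_add, add_neg_cancel, R.xU_zero]
    calc R.nU α (-c⁻¹) = (R.xU α (-c⁻¹) * R.xU α c⁻¹) * R.nU α (-c⁻¹) * (R.xU α c⁻¹ * R.xU α (-c⁻¹)) := by
          rw [h1, h2, one_mul, mul_one]
      _ = _ := by group
  have hcx : ∀ t : K, R.xU α t * R.xU α a = R.xU α a * R.xU α t := by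
    intro t; rw [R.xU_add, R.xU_add, add_comm]
  have hnc : R.nU α (-c⁻¹) * R.xU α a = R.xU α a * R.nU α (-c⁻¹) := by
    rw [hn]
    calc R.xU α (-c⁻¹) * R.xU (C.D.neg α) c * R.xU α (-c⁻¹) * R.xU α a
        = R.xU α (-c⁻¹) * R.xU (C.D.neg α) c * (R.xU α (-c⁻¹) * R.xU α a) := by group
      _ = R.xU α (-c⁻¹) * (R.xU (C.D.neg α) c * R.xU α a) * R.xU α (-c⁻¹) := by rw [hcx]; group
      _ = (R.xU α (-c⁻¹) * R.xU α a) * R.xU (C.D.neg α) c * R.xU α (-c⁻¹) := by rw [← hcomm]; group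
      _ = _ := by rw [hcx]; group
  have h3 : R.nU α (-c⁻¹) * R.xU α a * (R.nU α (-c⁻¹))⁻¹ = R.xU α a := by rw [hnc]; group
  rw [hd a] at h3
  have h4 : R.xU α a ∈ C.D.posUnipotent K ⊓ C.D.negUnipotent K := by
    refine ⟨xU_mem_pos H α hαpos a, ?_⟩
    rw [← h3]
    exact xU_mem_neg H _ (neg_simple_neg H i hi) _
  rw [pos_inf_neg H, Subgroup.mem_bot, ← R.xU_zero α] at h4
  exact ha (H.U.xU_inj_pos' α hαpos _ _ h4)

/-- Root elements with empty commutator formula commute. -/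
theorem comm_of_commTerms_nil (r s : ℕ) (hr : r < C.D.nroots) (hs : s < C.D.nroots) (hrs : s ≠ r)
    (hneg : s ≠ C.D.neg r) (hct : C.D.commTerms r s = []) (t u : K) :
    R.xU s u * R.xU r t = R.xU r t * R.xU s u := by
  apply Units.ext
  have := H.U.K.commF (F := K) r s hr hs hrs hneg t u
  rw [show C.D.commWord K r s t u = [] by unfold ChevalleyDatum.commWord; rw [hct]; rfl] at this
  simpa [ChevalleyDatum.wordMat] using this

/-- Root elements whose commutator formula has a single term with coefficient `±1` do not commute. -/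
theorem not_comm_of_commTerms_single (r s k : ℕ) (c : ℤ) (hr : r < C.D.nroots) (hs : s < C.D.nroots) (hrs : s ≠ r)
    (hneg : s ≠ C.D.neg r) (hk : C.D.IsPosRoot k) (hc : c = 1 ∨ c = -1)
    (hct : C.D.commTerms r s = [(k, c, 1, 1)]) (t u : K)
    (hcomm : R.xU s u * R.xU r t = R.xU r t * R.xU s u) : t = 0 ∨ u = 0 := by
  have h1 := H.U.K.commF (F := K) r s hr hs hrs hneg t u
  have h2 : C.D.commWord K r s t u = [(k, (c : K) * (-t) ^ 1 * u ^ 1)] := by
    unfold ChevalleyDatum.commWord; rw [hct]; rfl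
  rw [h2] at h1
  have h3 : C.D.wordMat K [(k, (c : K) * (-t) ^ 1 * u ^ 1)] = ((R.xU k ((c : K) * (-t) ^ 1 * u ^ 1) : GL C.D.Idx K) : Matrix _ _ K) := by
    simp [ChevalleyDatum.wordMat]
  rw [h3] at h1
  have h4 : R.xU s u * R.xU r t = R.xU r t * R.xU s u * R.xU k ((c : K) * (-t) ^ 1 * u ^ 1) := by
    apply Units.ext
    simpa [R.xU_val] using h1
  rw [hcomm] at h4
  have h5 : R.xU k ((c : K) * (-t) ^ 1 * u ^ 1) = 1 := by
    have h4' : R.xU r t * R.xU s u * 1 = R.xU r t * R.xU s u * R.xU k ((c : K) * (-t) ^ 1 * u ^ 1) := by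
      rw [mul_one]; exact h4
    exact (mul_left_cancel h4').symm
  rw [← R.xU_zero k] at h5
  have h6 := H.U.xU_inj_pos' k hk _ _ h5
  have hc0 : (c : K) ≠ 0 := by
    rcases hc with rfl | rfl <;> simp
  simp only [pow_one] at h6
  rcases mul_eq_zero.mp h6 with h7 | h7
  · rcases mul_eq_zero.mp h7 with h8 | h8
    · exact absurd h8 hc0
    · left; simpa using h8
  · right; exact h7

/-- Root elements of a negative root are parametrized injectively. -/
theorem xU_inj_neg (w0 : List ℕ) (hw0l : ∀ i ∈ w0, i < C.D.rank)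
    (hw0 : ∀ r, C.D.IsPosRoot r → C.D.IsNegRoot (reflW R.refl w0 r))
    (s : ℕ) (hs : C.D.IsNegRoot s) (a b : K) (h : R.xU s a = R.xU s b) : a = b := by
  obtain ⟨d, hd⟩ := H.B.mono.conj_word_xU (F := K) H.B.dec 1 (Subgroup.one_mem _) w0 hw0l
  have h1 := (hd s hs.1).2 a
  have h2 := (hd s hs.1).2 b
  rw [h] at h1
  have hpos : C.D.IsPosRoot (reflW R.refl w0 s) := by
    apply pos_of_neg_neg H _ (R.reflW_lt w0 hw0l s hs.1)
    rw [← H.B.mono.reflW_neg w0 hw0l s hs.1]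
    exact hw0 _ (neg_pos_of_neg H s hs)
  have h3 := H.U.xU_inj_pos' _ hpos _ _ (h1.symm.trans h2)
  exact mul_left_cancel₀ (hd s hs.1).1 h3.symm |>.symm

end

end Cfsg.Agent.Lib.Helper3.ChevAut
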