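import Mathlib
import Cfsg.Prelude.Def_ChevStructure
import Cfsg.Agent.Lib.Helper3.ChevAut9
set_option autoImplicit false
set_option linter.unusedSectionVars false
set_option linter.style.haveILetI false
open Cfsg Cfsg.Lie

/-!
Automorphisms of Chevalley groups, part 10: the action of an automorphism preserving `U` and `V` on the
root subgroups of the fundamental roots and their negatives.
-/

namespace Cfsg.Agent.Lib.Helper3.ChevAut

open Cfsg.Agent.Lib.Helper3.ChevM Cfsg.Agent.Lib.Helper3.ChevSp Cfsg.Agent.Lib.Helper3 ChevU ChevT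
open Cfsg.Agent.Lib.Helper3.ChevAt Cfsg.Agent.Lib.Helper1

/-- The table checks used for the automorphisms of a Chevalley group. -/
structure AutHyp (C : CDatum) (R : RelData C) where
  A : AtHyp C R
  w0 : List ℕ
  w0l : ∀ i ∈ w0, i < C.D.rank
  w0neg : ∀ r < C.D.nroots, C.D.IsPosRoot r → C.D.IsNegRoot (reflW R.refl w0 r)
  opp : ℕ → ℕ
  hopp : ∀ i < C.D.rank, opp i < C.D.rank ∧
    reflW R.refl w0 (C.D.neg (C.D.simple i)) = C.D.simple (opp i) ∧ opp (opp i) = i
  simp_inj : ∀ i < C.D.rank, ∀ j < C.D.rank, C.D.simple i = C.D.simple j → i = j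
  ct_neg : ∀ i < C.D.rank, ∀ j < C.D.rank, i ≠ j →
    C.D.commTerms (C.D.simple i) (C.D.neg (C.D.simple j)) = []

theorem AutHyp.w0neg' {C : CDatum} {R : RelData C} (Y : AutHyp C R) :
    ∀ r, C.D.IsPosRoot r → C.D.IsNegRoot (reflW R.refl Y.w0 r) :=
  fun r hr => Y.w0neg r hr.1 hr

/-- The action of an automorphism on the root elements of the fundamental roots and their negatives. -/
structure RootAct {C : CDatum} (R : RelData C) (K : Type*) [Field K] (θ : MulAut ↥(C.D.group K)) where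
  p : ℕ → ℕ
  f : ℕ → K → K
  g : ℕ → K → K
  p_lt : ∀ i < C.D.rank, p i < C.D.rank
  pos : ∀ i < C.D.rank, ∀ c : K, ex θ (R.xU (C.D.simple i) c) = R.xU (C.D.simple (p i)) (f i c)
  neg : ∀ i < C.D.rank, ∀ c : K,
    ex θ (R.xU (C.D.neg (C.D.simple i)) c) = R.xU (C.D.neg (C.D.simple (p i))) (g i c)

section
variable {K : Type*} [Field K] {C : CDatum} {R : RelData C} (Y : AutHyp C R)
include Y

/-- Root elements of a fundamental root and of the negative of another fundamental root commute. -/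
theorem comm_simple_neg (i j : ℕ) (hi : i < C.D.rank) (hj : j < C.D.rank) (hij : i ≠ j) (a c : K) :
    R.xU (C.D.simple i) a * R.xU (C.D.neg (C.D.simple j)) c =
      R.xU (C.D.neg (C.D.simple j)) c * R.xU (C.D.simple i) a := by
  have hil := R.simple_lt i hi
  have hjl := R.simple_lt j hj
  have h1 : C.D.neg (C.D.simple j) ≠ C.D.simple i := by
    intro e
    have := neg_simple_neg Y.A j hj
    rw [e] at this
    exact not_pos_of_neg Y.A _ this (simple_pos Y.A i hi)
  have h2 : C.D.neg (C.D.simple j) ≠ C.D.neg (C.D.simple i) := by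
    intro e
    have e1 := (signCheck_spec (Y.A.sign _ hil)).2.2
    have e2 := (signCheck_spec (Y.A.sign _ hjl)).2.2
    have : C.D.simple j = C.D.simple i := by rw [← e2, e, e1]
    exact hij (Y.simp_inj j hj i hi this).symm
  exact (comm_of_commTerms_nil (K := K) Y.A _ _ hil (R.neg_lt _ hjl) h1 h2 (Y.ct_neg i hi j hj hij) a c).symm

variable [Finite K]

/-- The action on the fundamental root subgroups of an automorphism preserving `U` and `V`. -/
theorem exists_rootAct (θ : MulAut ↥(C.D.group K)) (hU : Pres θ (C.D.posUnipotent K))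
    (hV : Pres θ (C.D.negUnipotent K)) : Nonempty (RootAct R K θ) := by
  classical
  have h1 := pres_pos_simple Y.A Y.w0 Y.w0l Y.w0neg' Y.opp Y.hopp θ hU hV
  have h2 := pres_neg_simple Y.A Y.w0 Y.w0l Y.w0neg' θ hU hV
  choose! p hp f hf using h1
  choose! q hq g hg using h2
  have hpq : ∀ i < C.D.rank, p i = q i := by
    intro i hi
    by_contra hne
    have e1 := hf i hi 1
    have e2 := hg i hi 1
    have hc := comm_simple_neg (K := K) Y (p i) (q i) (hp i hi) (hq i hi) hne (f i 1) (g i 1)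
    rw [← e1, ← e2] at hc
    have hG1 : R.xU (C.D.simple i) (1 : K) ∈ C.D.group K := R.xU_mem_group _ (R.simple_lt i hi) _
    have hG2 : R.xU (C.D.neg (C.D.simple i)) (1 : K) ∈ C.D.group K :=
      R.xU_mem_group _ (R.neg_lt _ (R.simple_lt i hi)) _
    rw [← ex_mul θ hG1 hG2, ← ex_mul θ hG2 hG1] at hc
    have hc' := ex_injOn θ (Subgroup.mul_mem _ hG1 hG2) (Subgroup.mul_mem _ hG2 hG1) hc
    exact one_ne_zero (not_comm_simple Y.A i hi 1 1 one_ne_zero hc')
  refine ⟨⟨p, f, g, hp, hf, ?_⟩⟩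
  intro i hi c
  rw [hpq i hi]
  exact hg i hi c

variable {θ : MulAut ↥(C.D.group K)} (T : RootAct R K θ)

theorem RootAct.f_add (i : ℕ) (hi : i < C.D.rank) (a b : K) : T.f i (a + b) = T.f i a + T.f i b := by
  have hl := R.simple_lt i hi
  have h1 := T.pos i hi (a + b)
  rw [← R.xU_add, ex_mul θ (R.xU_mem_group _ hl a) (R.xU_mem_group _ hl b), T.pos i hi a, T.pos i hi b,
    R.xU_add] at h1
  exact (Y.A.U.xU_inj_pos' _ (simple_pos Y.A _ (T.p_lt i hi)) _ _ h1).symm

theorem RootAct.g_add (i : ℕ) (hi : i < C.D.rank) (a b : K) : T.g i (a + b) = T.g i a + T.g i b := by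
  have hl := R.neg_lt _ (R.simple_lt i hi)
  have h1 := T.neg i hi (a + b)
  rw [← R.xU_add, ex_mul θ (R.xU_mem_group _ hl a) (R.xU_mem_group _ hl b), T.neg i hi a, T.neg i hi b,
    R.xU_add] at h1
  exact (xU_inj_neg Y.A Y.w0 Y.w0l Y.w0neg' _ (neg_simple_neg Y.A _ (T.p_lt i hi)) _ _ h1).symm

theorem RootAct.f_inj (i : ℕ) (hi : i < C.D.rank) : Function.Injective (T.f i) := by
  intro a b e
  have hl := R.simple_lt i hi
  have h1 : ex θ (R.xU (C.D.simple i) a) = ex θ (R.xU (C.D.simple i) b) := by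
    rw [T.pos i hi, T.pos i hi, e]
  exact Y.A.U.xU_inj_pos' _ (simple_pos Y.A i hi) _ _
    (ex_injOn θ (R.xU_mem_group _ hl a) (R.xU_mem_group _ hl b) h1)

theorem RootAct.g_inj (i : ℕ) (hi : i < C.D.rank) : Function.Injective (T.g i) := by
  intro a b e
  have hl := R.neg_lt _ (R.simple_lt i hi)
  have h1 : ex θ (R.xU (C.D.neg (C.D.simple i)) a) = ex θ (R.xU (C.D.neg (C.D.simple i)) b) := by
    rw [T.neg i hi, T.neg i hi, e]
  exact xU_inj_neg Y.A Y.w0 Y.w0l Y.w0neg' _ (neg_simple_neg Y.A i hi) _ _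
    (ex_injOn θ (R.xU_mem_group _ hl a) (R.xU_mem_group _ hl b) h1)

theorem RootAct.f_surj (i : ℕ) (hi : i < C.D.rank) : Function.Surjective (T.f i) :=
  Finite.surjective_of_injective (T.f_inj Y i hi)

theorem RootAct.g_surj (i : ℕ) (hi : i < C.D.rank) : Function.Surjective (T.g i) :=
  Finite.surjective_of_injective (T.g_inj Y i hi)

theorem RootAct.f_zero (i : ℕ) (hi : i < C.D.rank) : T.f i 0 = 0 := by
  have := T.f_add Y i hi 0 0
  rw [add_zero] at this
  exact left_eq_add.mp this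

theorem RootAct.g_zero (i : ℕ) (hi : i < C.D.rank) : T.g i 0 = 0 := by
  have := T.g_add Y i hi 0 0
  rw [add_zero] at this
  exact left_eq_add.mp this

theorem RootAct.f_ne_zero (i : ℕ) (hi : i < C.D.rank) (a : K) (ha : a ≠ 0) : T.f i a ≠ 0 := by
  intro e
  rw [← T.f_zero Y i hi] at e
  exact ha (T.f_inj Y i hi e)

theorem RootAct.g_ne_zero (i : ℕ) (hi : i < C.D.rank) (a : K) (ha : a ≠ 0) : T.g i a ≠ 0 := by
  intro e
  rw [← T.g_zero Y i hi] at e
  exact ha (T.g_inj Y i hi e)

theorem RootAct.f_neg (i : ℕ) (hi : i < C.D.rank) (a : K) : T.f i (-a) = -T.f i a := by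
  have := T.f_add Y i hi a (-a)
  rw [add_neg_cancel, T.f_zero Y i hi] at this
  exact eq_neg_of_add_eq_zero_right this.symm

/-- The permutation of the fundamental roots is injective. -/
theorem RootAct.p_inj (i j : ℕ) (hi : i < C.D.rank) (hj : j < C.D.rank) (e : T.p i = T.p j) : i = j := by
  by_contra hne
  have hc := comm_simple_neg (K := K) Y i j hi hj hne 1 1
  have hG1 : R.xU (C.D.simple i) (1 : K) ∈ C.D.group K := R.xU_mem_group _ (R.simple_lt i hi) _
  have hG2 : R.xU (C.D.neg (C.D.simple j)) (1 : K) ∈ C.D.group K :=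
    R.xU_mem_group _ (R.neg_lt _ (R.simple_lt j hj)) _
  have h1 := congrArg (ex θ) hc
  rw [ex_mul θ hG1 hG2, ex_mul θ hG2 hG1, T.pos i hi, T.neg j hj, ← e] at h1
  have := not_comm_simple Y.A (T.p i) (T.p_lt i hi) _ _ (T.f_ne_zero Y i hi 1 one_ne_zero) h1
  exact T.g_ne_zero Y j hj 1 one_ne_zero this

end

end Cfsg.Agent.Lib.Helper3.ChevAut
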