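import Mathlib
import Cfsg.Agent.Lib.Helper1.Tits2

set_option autoImplicit false
set_option linter.unusedSectionVars false
set_option linter.unusedVariables false

/-!
Steinberg character, part 1: combinatorics of a group `W` generated by a set `S` of involutions
satisfying the exchange condition: strictness of the length function, reduced subwords, elements of
minimal length in the double cosets of two standard parabolic subgroups.
-/

namespace Cfsg.Agent.Lib.Helper3.StCh

open Cfsg.Agent.Lib.Helper1

variable {W : Type*} [Group W]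

/-- An exchange system: a group generated by a set of involutions satisfying the exchange
condition with respect to the word length. -/
structure ExW (S : Set W) : Prop where
  invol : IsInvolSet S
  gen : Subgroup.closure S = ⊤
  exch : ∀ l : List W, IsWord S l → wlen S l.prod = l.length → ∀ s ∈ S,
    wlen S (s * l.prod) ≤ l.length →
    ∃ i, ∃ hi : i < l.length, s * (l.take i).prod = (l.take i).prod * l[i]

theorem exW_of_tits {G : Type*} [Group G] (D : TitsData G W) : ExW D.S :=
  ⟨D.S_invol, D.S_gen, fun _ hl hred _ hs hle => D.exchange hl hred hs hle⟩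

theorem isWord_sublist {K : Set W} {l l' : List W} (h : l'.Sublist l) (hl : IsWord K l) :
    IsWord K l' := fun x hx => hl x (h.subset hx)

theorem prod_mem_closure {K : Set W} {l : List W} (hl : IsWord K l) :
    l.prod ∈ Subgroup.closure K :=
  Subgroup.list_prod_mem _ fun x hx => Subgroup.subset_closure (hl x hx)

theorem prod_split (l : List W) (i : ℕ) (hi : i < l.length) :
    l.prod = (l.take i).prod * l[i] * (l.drop (i + 1)).prod := by
  conv_lhs => rw [← List.take_append_drop (i + 1) l]
  rw [List.prod_append, ← List.take_append_getElem hi, List.prod_append, List.prod_singleton]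

theorem prod_eraseIdx (l : List W) (i : ℕ) :
    (l.eraseIdx i).prod = (l.take i).prod * (l.drop (i + 1)).prod := by
  rw [List.eraseIdx_eq_take_drop_succ, List.prod_append]

namespace ExW

variable {S : Set W} (E : ExW S)
include E

theorem mem_closure (w : W) : w ∈ Subgroup.closure S := by
  rw [E.gen]; exact Subgroup.mem_top w

/-- The exchange condition in the deletion form. -/
theorem exch_erase {l : List W} (hl : IsWord S l) (hred : wlen S l.prod = l.length) {s : W}
    (hs : s ∈ S) (hle : wlen S (s * l.prod) ≤ l.length) :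
    ∃ i, i < l.length ∧ s * l.prod = (l.eraseIdx i).prod := by
  obtain ⟨i, hi, hex⟩ := E.exch l hl hred s hs hle
  refine ⟨i, hi, ?_⟩
  have hti : l[i] ∈ S := hl _ (List.getElem_mem hi)
  rw [prod_eraseIdx, prod_split l i hi, ← mul_assoc, ← mul_assoc, hex, mul_assoc _ l[i] l[i],
    E.invol _ hti, mul_one]

theorem len_succ_of_le {s w : W} (hs : s ∈ S) (h : wlen S (s * w) ≤ wlen S w) :
    wlen S (s * w) + 1 = wlen S w := by
  obtain ⟨l, hl, hlen, rfl⟩ := exists_reduced_word E.invol (E.mem_closure w)
  have hred : wlen S l.prod = l.length := hlen.symm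
  obtain ⟨i, hi, he⟩ := E.exch_erase hl hred hs (by rw [← hred]; exact h)
  have h1 : wlen S (s * l.prod) ≤ l.length - 1 := by
    rw [he]
    have := wlen_le_of_word (S := S) (l := l.eraseIdx i)
      (isWord_sublist (List.eraseIdx_sublist l i) hl)
    rwa [List.length_eraseIdx_of_lt hi] at this
  have h2 := wlen_le_mul_left E.invol hs (E.mem_closure l.prod)
  omega

theorem len_mul_left {s : W} (hs : s ∈ S) (w : W) :
    wlen S (s * w) = wlen S w + 1 ∨ wlen S (s * w) + 1 = wlen S w := by
  by_cases h : wlen S (s * w) ≤ wlen S w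
  · right; exact E.len_succ_of_le hs h
  · left
    have := wlen_mul_left_le E.invol hs (E.mem_closure w)
    omega

theorem len_mul_right {t : W} (ht : t ∈ S) (w : W) :
    wlen S (w * t) = wlen S w + 1 ∨ wlen S (w * t) + 1 = wlen S w := by
  have h1 : wlen S (w * t) = wlen S (t * w⁻¹) := by
    rw [← wlen_inv E.invol (E.mem_closure (w * t)), mul_inv_rev, E.invol.inv_eq ht]
  have h2 : wlen S w = wlen S w⁻¹ := (wlen_inv E.invol (E.mem_closure w)).symm
  rw [h1, h2]
  exact E.len_mul_left ht w⁻¹

theorem wlen_gen {s : W} (hs : s ∈ S) : wlen S s = 1 := by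
  have := E.len_mul_left hs 1
  rw [mul_one, wlen_one] at this
  omega

/-- Every word has a reduced subword with the same product. -/
theorem exists_reduced_sublist : ∀ l : List W, IsWord S l →
    ∃ l' : List W, l'.Sublist l ∧ l'.prod = l.prod ∧ wlen S l'.prod = l'.length := by
  intro l
  induction l with
  | nil =>
    intro _
    exact ⟨[], List.Sublist.refl _, rfl, by simp [wlen_one]⟩
  | cons t l ih =>
    intro hl
    obtain ⟨ht, hl0⟩ := isWord_of_cons hl
    obtain ⟨l', hsub, hprod, hred⟩ := ih hl0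
    have hl'w : IsWord S l' := isWord_sublist hsub hl0
    by_cases h : wlen S (t * l'.prod) ≤ l'.length
    · obtain ⟨i, hi, he⟩ := E.exch_erase hl'w hred ht h
      refine ⟨l'.eraseIdx i, ((List.eraseIdx_sublist l' i).trans hsub).trans
        (List.sublist_cons_self t l), ?_, ?_⟩
      · rw [← he, List.prod_cons, hprod]
      · have h1 : wlen S (l'.eraseIdx i).prod ≤ l'.length - 1 := by
          have := wlen_le_of_word (S := S) (l := l'.eraseIdx i)
            (isWord_sublist (List.eraseIdx_sublist l' i) hl'w)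
          rwa [List.length_eraseIdx_of_lt hi] at this
        have h2 := wlen_le_mul_left E.invol ht (E.mem_closure l'.prod)
        rw [he] at h2
        rw [List.length_eraseIdx_of_lt hi]
        omega
    · refine ⟨t :: l', hsub.cons_cons t, by rw [List.prod_cons, List.prod_cons, hprod], ?_⟩
      have h1 := wlen_le_of_word (S := S) (l := t :: l') (isWord_cons ht hl'w)
      rw [List.prod_cons, List.length_cons] at h1 ⊢
      omega

theorem exists_reduced_word_in {K : Set W} (hK : K ⊆ S) {w : W} (hw : w ∈ Subgroup.closure K) :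
    ∃ l : List W, IsWord K l ∧ l.length = wlen S w ∧ l.prod = w := by
  have hKi : IsInvolSet K := fun s hs => E.invol s (hK hs)
  obtain ⟨l, hl, rfl⟩ := (mem_closure_iff_exists_word hKi w).1 hw
  obtain ⟨l', hsub, hprod, hred⟩ := E.exists_reduced_sublist l (isWord_mono hK hl)
  exact ⟨l', isWord_sublist hsub hl, by rw [← hprod, hred], hprod⟩

theorem exists_left_descent_in {K : Set W} (hK : K ⊆ S) {w : W} (hw : w ∈ Subgroup.closure K)
    {m : ℕ} (hm : wlen S w = m + 1) :
    ∃ s ∈ K, ∃ w' : W, w' ∈ Subgroup.closure K ∧ w = s * w' ∧ wlen S w' = m := by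
  obtain ⟨l, hl, hlen, hprod⟩ := E.exists_reduced_word_in hK hw
  rw [hm] at hlen
  match l, hl, hlen, hprod with
  | [], _, hlen, _ => simp at hlen
  | s :: l', hl, hlen, hprod =>
    obtain ⟨hs, hl'⟩ := isWord_of_cons hl
    refine ⟨s, hs, l'.prod, prod_mem_closure hl', by rw [← hprod, List.prod_cons], ?_⟩
    have h1 : wlen S l'.prod ≤ m := by
      have := wlen_le_of_word (isWord_mono hK hl')
      simp only [List.length_cons] at hlen
      omega
    have h2 : wlen S w ≤ wlen S l'.prod + 1 := by
      rw [← hprod, List.prod_cons]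
      exact wlen_mul_left_le E.invol (hK hs) (E.mem_closure _)
    omega

theorem exists_right_descent_in {K : Set W} (hK : K ⊆ S) {w : W} (hw : w ∈ Subgroup.closure K)
    {m : ℕ} (hm : wlen S w = m + 1) :
    ∃ t ∈ K, ∃ w' : W, w' ∈ Subgroup.closure K ∧ w = w' * t ∧ wlen S w' = m := by
  have hw' := Subgroup.inv_mem _ hw
  have hm' : wlen S w⁻¹ = m + 1 := by rw [wlen_inv E.invol (E.mem_closure w), hm]
  obtain ⟨s, hs, v, hv, hwv, hvm⟩ := E.exists_left_descent_in hK hw' hm'
  refine ⟨s, hs, v⁻¹, Subgroup.inv_mem _ hv, ?_, by rw [wlen_inv E.invol (E.mem_closure v), hvm]⟩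
  have : w = (s * v)⁻¹ := by rw [← hwv, inv_inv]
  rw [this, mul_inv_rev, E.invol.inv_eq (hK hs)]

end ExW

/-- No generator in `K` shortens `w` on the left. -/
def LRed (S K : Set W) (w : W) : Prop := ∀ s ∈ K, wlen S w < wlen S (s * w)

/-- No generator in `J` shortens `w` on the right. -/
def RRed (S J : Set W) (w : W) : Prop := ∀ t ∈ J, wlen S w < wlen S (w * t)

/-- `d` has minimal length in its double coset. -/
def IsMin (S K J : Set W) (d : W) : Prop :=
  ∀ a ∈ Subgroup.closure K, ∀ b ∈ Subgroup.closure J, wlen S d ≤ wlen S (a * d * b)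

namespace ExW

variable {S : Set W} (E : ExW S)
include E

theorem exists_min (K J : Set W) (w : W) :
    ∃ a ∈ Subgroup.closure K, ∃ b ∈ Subgroup.closure J, IsMin S K J (a * w * b) := by
  classical
  let Q : ℕ → Prop := fun n => ∃ a ∈ Subgroup.closure K, ∃ b ∈ Subgroup.closure J,
    wlen S (a * w * b) = n
  have hQ : ∃ n, Q n := ⟨wlen S (1 * w * 1), 1, Subgroup.one_mem _, 1, Subgroup.one_mem _, rfl⟩
  obtain ⟨a, ha, b, hb, hab⟩ := Nat.find_spec hQ
  refine ⟨a, ha, b, hb, ?_⟩
  intro a' ha' b' hb'
  rw [hab]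
  apply Nat.find_min' hQ
  refine ⟨a' * a, Subgroup.mul_mem _ ha' ha, b * b', Subgroup.mul_mem _ hb hb', ?_⟩
  congr 1
  group

/-- The decomposition of the elements of the double coset of an element of minimal length. -/
theorem min_decomp {K J : Set W} (hK : K ⊆ S) (hJ : J ⊆ S) {d : W} (hd : IsMin S K J d)
    {a b : W} (ha : a ∈ Subgroup.closure K) (hb : b ∈ Subgroup.closure J) :
    ∃ a' ∈ Subgroup.closure K, ∃ b' ∈ Subgroup.closure J, a * d * b = a' * d * b' ∧
      wlen S (a * d * b) = wlen S a' + wlen S d + wlen S b' := by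
  have hKi : IsInvolSet K := fun s hs => E.invol s (hK hs)
  have hJi : IsInvolSet J := fun s hs => E.invol s (hJ hs)
  obtain ⟨la, hla, rfl⟩ := (mem_closure_iff_exists_word hKi a).1 ha
  obtain ⟨lb, hlb, rfl⟩ := (mem_closure_iff_exists_word hJi b).1 hb
  obtain ⟨ld, hld, hldlen, rfl⟩ := exists_reduced_word E.invol (E.mem_closure d)
  have hL : IsWord S (la ++ (ld ++ lb)) :=
    isWord_append (isWord_mono hK hla) (isWord_append hld (isWord_mono hJ hlb))
  obtain ⟨L', hsub, hprod, hred⟩ := E.exists_reduced_sublist _ hL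
  obtain ⟨la', r, rfl, hsa, hsr⟩ := List.sublist_append_iff.1 hsub
  obtain ⟨ld', lb', rfl, hsd, hsb⟩ := List.sublist_append_iff.1 hsr
  have hla' : IsWord K la' := isWord_sublist hsa hla
  have hlb' : IsWord J lb' := isWord_sublist hsb hlb
  have hld' : IsWord S ld' := isWord_sublist hsd hld
  have ha' := prod_mem_closure hla'
  have hb' := prod_mem_closure hlb'
  simp only [List.prod_append, List.length_append] at hprod hred
  have hd' : ld'.prod = (la'.prod⁻¹ * la.prod) * ld.prod * (lb.prod * lb'.prod⁻¹) := by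
    have h0 : ld'.prod = la'.prod⁻¹ * (la'.prod * (ld'.prod * lb'.prod)) * lb'.prod⁻¹ := by group
    rw [h0, hprod]; group
  have h1 : wlen S ld.prod ≤ wlen S ld'.prod := by
    rw [hd']
    exact hd _ (Subgroup.mul_mem _ (Subgroup.inv_mem _ ha') ha) _
      (Subgroup.mul_mem _ hb (Subgroup.inv_mem _ hb'))
  have h2 : wlen S ld'.prod ≤ ld'.length := wlen_le_of_word hld'
  have h3 : ld'.length ≤ ld.length := hsd.length_le
  have h4 : ld' = ld := hsd.eq_of_length (by omega)
  subst h4
  refine ⟨la'.prod, ha', lb'.prod, hb', ?_, ?_⟩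
  · rw [mul_assoc, mul_assoc, hprod]
  · have e : la.prod * ld'.prod * lb.prod = la'.prod * (ld'.prod * lb'.prod) := by
      rw [mul_assoc, hprod]
    rw [e, hred]
    have k1 := wlen_le_of_word (isWord_mono hK hla')
    have k2 := wlen_le_of_word (isWord_mono hJ hlb')
    have k3 := wlen_mul_le_add E.invol (E.mem_closure la'.prod)
      (E.mem_closure (ld'.prod * lb'.prod))
    have k4 := wlen_mul_le_add E.invol (E.mem_closure ld'.prod) (E.mem_closure lb'.prod)
    omega

theorem min_lred {K J : Set W} (hK : K ⊆ S) {d : W} (hd : IsMin S K J d) : LRed S K d := by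
  intro s hs
  have h := hd s (Subgroup.subset_closure hs) 1 (Subgroup.one_mem _)
  rw [mul_one] at h
  rcases E.len_mul_left (hK hs) d with h1 | h1 <;> omega

theorem min_rred {K J : Set W} (hJ : J ⊆ S) {d : W} (hd : IsMin S K J d) : RRed S J d := by
  intro t ht
  have h := hd 1 (Subgroup.one_mem _) t (Subgroup.subset_closure ht)
  rw [one_mul] at h
  rcases E.len_mul_right (hJ ht) d with h1 | h1 <;> omega

/-- A reduced element of the double coset of an element of minimal length is that element. -/
theorem eq_of_red {K J : Set W} (hK : K ⊆ S) (hJ : J ⊆ S) {d : W} (hd : IsMin S K J d)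
    {a b : W} (ha : a ∈ Subgroup.closure K) (hb : b ∈ Subgroup.closure J)
    (hl : LRed S K (a * d * b)) (hr : RRed S J (a * d * b)) : a * d * b = d := by
  obtain ⟨a', ha', b', hb', he, hlen⟩ := E.min_decomp hK hJ hd ha hb
  have hcl : ∀ w : W, w ∈ Subgroup.closure S := E.mem_closure
  have ha0 : wlen S a' = 0 := by
    by_contra hne
    obtain ⟨m, hm⟩ : ∃ m, wlen S a' = m + 1 := ⟨wlen S a' - 1, by omega⟩
    obtain ⟨s, hs, a'', ha'', hsa, hma⟩ := E.exists_left_descent_in hK ha' hm
    have h1 := hl s hs
    have e : s * (a * d * b) = a'' * d * b' := by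
      rw [he, hsa]
      simp only [← mul_assoc]
      rw [E.invol s (hK hs), one_mul]
    rw [e] at h1
    have k3 := wlen_mul_le_add E.invol (hcl (a'' * d)) (hcl b')
    have k4 := wlen_mul_le_add E.invol (hcl a'') (hcl d)
    omega
  have hb0 : wlen S b' = 0 := by
    by_contra hne
    obtain ⟨m, hm⟩ : ∃ m, wlen S b' = m + 1 := ⟨wlen S b' - 1, by omega⟩
    obtain ⟨t, ht, b'', hb'', htb, hmb⟩ := E.exists_right_descent_in hJ hb' hm
    have h1 := hr t ht
    have e : a * d * b * t = a' * d * b'' := by
      rw [he, htb]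
      simp only [mul_assoc]
      rw [E.invol t (hJ ht), mul_one]
    rw [e] at h1
    have k3 := wlen_mul_le_add E.invol (hcl (a' * d)) (hcl b'')
    have k4 := wlen_mul_le_add E.invol (hcl a') (hcl d)
    omega
  rw [he, (wlen_eq_zero_iff E.invol (hcl a')).1 ha0, (wlen_eq_zero_iff E.invol (hcl b')).1 hb0,
    one_mul, mul_one]

/-- Two reduced elements of the same double coset coincide. -/
theorem red_unique {K J : Set W} (hK : K ⊆ S) (hJ : J ⊆ S) {d d' : W}
    (h1 : LRed S K d) (h1' : RRed S J d) (h2 : LRed S K d') (h2' : RRed S J d')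
    {a b : W} (ha : a ∈ Subgroup.closure K) (hb : b ∈ Subgroup.closure J) (h : d' = a * d * b) :
    d' = d := by
  obtain ⟨a₀, ha₀, b₀, hb₀, hmin⟩ := E.exists_min K J d
  set m := a₀ * d * b₀ with hm
  have e1 : d = a₀⁻¹ * m * b₀⁻¹ := by rw [hm]; group
  have e2 : d' = (a * a₀⁻¹) * m * (b₀⁻¹ * b) := by rw [h, hm]; group
  have hd : a₀⁻¹ * m * b₀⁻¹ = m := by
    apply E.eq_of_red hK hJ hmin (Subgroup.inv_mem _ ha₀) (Subgroup.inv_mem _ hb₀)
    · rw [← e1]; exact h1
    · rw [← e1]; exact h1'
  have hd' : (a * a₀⁻¹) * m * (b₀⁻¹ * b) = m := by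
    apply E.eq_of_red hK hJ hmin (Subgroup.mul_mem _ ha (Subgroup.inv_mem _ ha₀))
      (Subgroup.mul_mem _ (Subgroup.inv_mem _ hb₀) hb)
    · rw [← e2]; exact h2
    · rw [← e2]; exact h2'
  rw [e2, hd', e1, hd]

theorem lred_empty (w : W) : LRed S ∅ w := fun _ hs => absurd hs (Set.notMem_empty _)

theorem rred_empty (w : W) : RRed S ∅ w := fun _ hs => absurd hs (Set.notMem_empty _)

theorem mem_closure_empty {x : W} (hx : x ∈ Subgroup.closure (∅ : Set W)) : x = 1 := by
  rw [Subgroup.closure_empty] at hx
  exact Subgroup.mem_bot.1 hx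

/-- The decomposition of an element with respect to a standard parabolic subgroup on the left. -/
theorem exists_ldecomp {K : Set W} (hK : K ⊆ S) (u : W) :
    ∃ b ∈ Subgroup.closure K, ∃ d : W, u = b * d ∧ LRed S K d ∧
      ∀ b' ∈ Subgroup.closure K, wlen S (b' * d) = wlen S b' + wlen S d := by
  obtain ⟨a, ha, b₀, hb₀, hmin⟩ := E.exists_min K ∅ u
  have hb1 : b₀ = 1 := E.mem_closure_empty hb₀
  subst hb1
  rw [mul_one] at hmin
  refine ⟨a⁻¹, Subgroup.inv_mem _ ha, a * u, by group, E.min_lred hK hmin, ?_⟩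
  intro b' hb'
  obtain ⟨a', ha', b'', hb'', he, hlen⟩ :=
    E.min_decomp hK (Set.empty_subset S) hmin hb' (Subgroup.one_mem _)
  have hb1 : b'' = 1 := E.mem_closure_empty hb''
  subst hb1
  rw [mul_one, mul_one] at he
  have : b' = a' := mul_right_cancel he
  subst this
  rw [mul_one, wlen_one, add_zero] at hlen
  exact hlen

/-- The decomposition of an element with respect to a standard parabolic subgroup on the right. -/
theorem exists_rdecomp {J : Set W} (hJ : J ⊆ S) (u : W) :
    ∃ d : W, ∃ b ∈ Subgroup.closure J, u = d * b ∧ RRed S J d ∧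
      ∀ b' ∈ Subgroup.closure J, wlen S (d * b') = wlen S d + wlen S b' := by
  obtain ⟨a₀, ha₀, b, hb, hmin⟩ := E.exists_min ∅ J u
  have ha1 : a₀ = 1 := E.mem_closure_empty ha₀
  subst ha1
  rw [one_mul] at hmin
  refine ⟨u * b, b⁻¹, Subgroup.inv_mem _ hb, by group, E.min_rred hJ hmin, ?_⟩
  intro b' hb'
  obtain ⟨a', ha', b'', hb'', he, hlen⟩ :=
    E.min_decomp (Set.empty_subset S) hJ hmin (Subgroup.one_mem _) hb'
  have ha1 : a' = 1 := E.mem_closure_empty ha'
  subst ha1
  simp only [one_mul] at he hlen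
  have : b' = b'' := mul_left_cancel he
  subst this
  rw [wlen_one, zero_add] at hlen
  exact hlen

/-- The lengths add for a right reduced element and an element of the parabolic subgroup. -/
theorem rred_add {J : Set W} (hJ : J ⊆ S) {w : W} (hw : RRed S J w) {v : W}
    (hv : v ∈ Subgroup.closure J) : wlen S (w * v) = wlen S w + wlen S v := by
  obtain ⟨d, b, hb, hwd, hdr, hadd⟩ := E.exists_rdecomp hJ w
  have : w = d := by
    apply E.red_unique (Set.empty_subset S) hJ (E.lred_empty d) hdr (E.lred_empty w) hw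
      (Subgroup.one_mem _) hb
    rw [one_mul]; exact hwd
  subst this
  exact hadd v hv

theorem lred_add {K : Set W} (hK : K ⊆ S) {w : W} (hw : LRed S K w) {v : W}
    (hv : v ∈ Subgroup.closure K) : wlen S (v * w) = wlen S v + wlen S w := by
  obtain ⟨b, hb, d, hwd, hdl, hadd⟩ := E.exists_ldecomp hK w
  have : w = d := by
    apply E.red_unique hK (Set.empty_subset S) hdl (E.rred_empty d) hw (E.rred_empty w)
      hb (Subgroup.one_mem _)
    rw [mul_one]; exact hwd
  subst this
  exact hadd v hv

end ExW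

end Cfsg.Agent.Lib.Helper3.StCh
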