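import Mathlib
import Cfsg.Agent.Lib.Helper3.StCh1

set_option autoImplicit false
set_option linter.unusedSectionVars false
set_option linter.unusedVariables false

/-!
Steinberg character, part 2: in a finite exchange system there is exactly one element all of whose
left (right) multiples by generators are shorter: the longest element.
-/

namespace Cfsg.Agent.Lib.Helper3.StCh

open Cfsg.Agent.Lib.Helper1

variable {W : Type*} [Group W]

theorem pair_pigeon {s t k k' k'' : W} (hk : k ∈ ({s, t} : Set W)) (hk' : k' ∈ ({s, t} : Set W))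
    (hk'' : k'' ∈ ({s, t} : Set W)) (h1 : k ≠ k') (h2 : k'' ≠ k') (h3 : k'' ≠ k) : False := by
  simp only [Set.mem_insert_iff, Set.mem_singleton_iff] at hk hk' hk''
  rcases hk with hk | hk <;> rcases hk' with hk' | hk' <;> rcases hk'' with hk'' | hk'' <;>
    simp_all

theorem pair_subset {S : Set W} {s t : W} (hs : s ∈ S) (ht : t ∈ S) : ({s, t} : Set W) ⊆ S := by
  intro k hk
  simp only [Set.mem_insert_iff, Set.mem_singleton_iff] at hk
  rcases hk with rfl | rfl
  · exact hs
  · exact ht

namespace ExW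

variable {S : Set W} (E : ExW S)
include E

/-- In a dihedral parabolic subgroup, every element is a prefix of an element all of whose left and
right multiples by the two generators are shorter. -/
theorem dih_prefix {s t : W} (hs : s ∈ S) (ht : t ∈ S) {bs : W}
    (hbs : bs ∈ Subgroup.closure ({s, t} : Set W))
    (hL : ∀ k ∈ ({s, t} : Set W), wlen S (k * bs) < wlen S bs)
    (hR : ∀ k ∈ ({s, t} : Set W), wlen S (bs * k) < wlen S bs) :
    ∀ n : ℕ, ∀ x ∈ Subgroup.closure ({s, t} : Set W), wlen S x = n →
      wlen S (x⁻¹ * bs) + n = wlen S bs := by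
  have hK : ({s, t} : Set W) ⊆ S := pair_subset hs ht
  intro n
  induction n using Nat.strong_induction_on with
  | _ n ih =>
  intro x hx hn
  rcases Nat.eq_zero_or_pos n with h0 | hpos
  · subst h0
    rw [(wlen_eq_zero_iff E.invol (E.mem_closure x)).1 hn]; simp
  · obtain ⟨m, rfl⟩ : ∃ m, n = m + 1 := ⟨n - 1, by omega⟩
    obtain ⟨k, hk, x', hx', hxx', hm⟩ := E.exists_right_descent_in hK hx hn
    have ih1 := ih m (by omega) x' hx' hm
    set r := x'⁻¹ * bs with hr
    have hxr : x⁻¹ * bs = k * r := by
      rw [hxx', mul_inv_rev, E.invol.inv_eq (hK hk), hr, mul_assoc]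
    rw [hxr]
    rcases E.len_mul_left (hK hk) r with hlong | hshort
    · exfalso
      rcases Nat.eq_zero_or_pos m with hm0 | hmpos
      · have hx1 : x' = 1 := (wlen_eq_zero_iff E.invol (E.mem_closure x')).1 (by rw [hm, hm0])
        have hrb : r = bs := by rw [hr, hx1]; simp
        rw [hrb] at hlong
        have := hL k hk
        omega
      · obtain ⟨m', rfl⟩ : ∃ m', m = m' + 1 := ⟨m - 1, by omega⟩
        obtain ⟨k', hk', x'', hx'', hxx'', hm'⟩ := E.exists_right_descent_in hK hx' hm
        have ih2 := ih m' (by omega) x'' hx'' hm'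
        have hkk' : k ≠ k' := by
          intro hkk
          have : x = x'' := by
            rw [hxx', hxx'', hkk, mul_assoc, E.invol k' (hK hk'), mul_one]
          rw [this, hm'] at hn
          omega
        have hk'r : k' * r = x''⁻¹ * bs := by
          rw [hr, hxx'', mul_inv_rev, E.invol.inv_eq (hK hk'), ← mul_assoc, ← mul_assoc,
            E.invol k' (hK hk'), one_mul]
        have hrK : r ∈ Subgroup.closure ({s, t} : Set W) :=
          Subgroup.mul_mem _ (Subgroup.inv_mem _ hx') hbs
        rcases Nat.eq_zero_or_pos (wlen S r) with hr0 | hrpos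
        · have hr1 : r = 1 := (wlen_eq_zero_iff E.invol (E.mem_closure r)).1 hr0
          have hbx : bs = x' := by
            have : x' * r = bs := by rw [hr]; group
            rw [← this, hr1, mul_one]
          have := hR k hk
          rw [hbx, ← hxx', hn, hm] at this
          omega
        · obtain ⟨j, hj⟩ : ∃ j, wlen S r = j + 1 := ⟨wlen S r - 1, by omega⟩
          obtain ⟨k'', hk'', r', hr', hrr', hj'⟩ := E.exists_left_descent_in hK hrK hj
          have hk''r : wlen S (k'' * r) = j := by
            rw [hrr', ← mul_assoc, E.invol k'' (hK hk''), one_mul, hj']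
          apply pair_pigeon hk hk' hk'' hkk'
          · intro hkk
            rw [hkk, hk'r] at hk''r
            omega
          · intro hkk
            rw [hkk] at hk''r
            omega
    · omega

/-- An element shortened by two generators on the left begins with every element of the dihedral
subgroup they generate. -/
theorem dihedral [Finite W] {s t : W} (hs : s ∈ S) (ht : t ∈ S) {u : W}
    (hsu : wlen S (s * u) < wlen S u) (htu : wlen S (t * u) < wlen S u) {a : W}
    (ha : a ∈ Subgroup.closure ({s, t} : Set W)) : wlen S (a⁻¹ * u) + wlen S a = wlen S u := by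
  classical
  have hK : ({s, t} : Set W) ⊆ S := pair_subset hs ht
  have hKu : ∀ k ∈ ({s, t} : Set W), wlen S (k * u) < wlen S u := by
    intro k hk
    simp only [Set.mem_insert_iff, Set.mem_singleton_iff] at hk
    rcases hk with rfl | rfl
    · exact hsu
    · exact htu
  obtain ⟨b, hb, d, hud, hdl, hadd⟩ := E.exists_ldecomp hK u
  have hbL : ∀ k ∈ ({s, t} : Set W), wlen S (k * b) < wlen S b := by
    intro k hk
    have h1 := hadd (k * b) (Subgroup.mul_mem _ (Subgroup.subset_closure hk) hb)
    have h2 := hadd b hb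
    have h3 := hKu k hk
    rw [hud, ← mul_assoc] at h3
    omega
  let Y : Set W := {y | y ∈ Subgroup.closure ({s, t} : Set W) ∧
    ∀ k ∈ ({s, t} : Set W), wlen S (k * y) < wlen S y}
  have hbY : b ∈ Y := ⟨hb, hbL⟩
  have : Nonempty Y := ⟨⟨b, hbY⟩⟩
  obtain ⟨⟨bs, hbsK, hbsL⟩, hmax⟩ := Finite.exists_max (fun y : Y => wlen S (y : W))
  have hbsR : ∀ k ∈ ({s, t} : Set W), wlen S (bs * k) < wlen S bs := by
    intro k hk
    rcases E.len_mul_right (hK hk) bs with h1 | h1
    · exfalso
      have hY : bs * k ∈ Y := by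
        refine ⟨Subgroup.mul_mem _ hbsK (Subgroup.subset_closure hk), ?_⟩
        intro k₁ hk₁
        have h2 := hbsL k₁ hk₁
        have h3 := wlen_mul_right_le E.invol (hK hk) (E.mem_closure (k₁ * bs))
        rw [← mul_assoc]
        omega
      have h4 : wlen S (bs * k) ≤ wlen S bs := hmax ⟨bs * k, hY⟩
      omega
    · omega
  have hpre := E.dih_prefix hs ht hbsK hbsL hbsR
  have hpre' : ∀ y ∈ Subgroup.closure ({s, t} : Set W), wlen S (y * bs) + wlen S y = wlen S bs := by
    intro y hy
    have := hpre (wlen S y⁻¹) y⁻¹ (Subgroup.inv_mem _ hy) rfl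
    rwa [inv_inv, wlen_inv E.invol (E.mem_closure y)] at this
  have hbbs : b = bs := by
    have hxK : b * bs⁻¹ ∈ Subgroup.closure ({s, t} : Set W) :=
      Subgroup.mul_mem _ hb (Subgroup.inv_mem _ hbsK)
    have hbx : b = b * bs⁻¹ * bs := by group
    by_contra hne
    have hx0 : wlen S (b * bs⁻¹) ≠ 0 := by
      intro h0
      apply hne
      rw [hbx, (wlen_eq_zero_iff E.invol (E.mem_closure _)).1 h0, one_mul]
    obtain ⟨j, hj⟩ : ∃ j, wlen S (b * bs⁻¹) = j + 1 := ⟨wlen S (b * bs⁻¹) - 1, by omega⟩
    obtain ⟨k, hk, x₁, hx₁, hxx₁, hj₁⟩ := E.exists_left_descent_in hK hxK hj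
    have h1 := hpre' _ hxK
    have h2 := hpre' x₁ hx₁
    have h3 := hbL k hk
    have e : k * b = x₁ * bs := by
      have : k * b = k * (b * bs⁻¹) * bs := by group
      rw [this, hxx₁, ← mul_assoc, E.invol k (hK hk), one_mul]
    rw [e] at h3
    rw [← hbx] at h1
    omega
  subst hbbs
  have h1 := hpre (wlen S a) a ha rfl
  have h2 := hadd (a⁻¹ * b) (Subgroup.mul_mem _ (Subgroup.inv_mem _ ha) hb)
  have h3 := hadd b hb
  rw [hud, ← mul_assoc]
  omega

/-- An element shortened by every generator on the left begins with every element. -/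
theorem longest_prefix [Finite W] {z : W} (hz : ∀ s ∈ S, wlen S (s * z) < wlen S z) :
    ∀ n : ℕ, ∀ x : W, wlen S x = n → wlen S (x⁻¹ * z) + n = wlen S z := by
  intro n
  induction n using Nat.strong_induction_on with
  | _ n ih =>
  intro x hn
  have hcl := E.mem_closure
  rcases Nat.eq_zero_or_pos n with h0 | hpos
  · subst h0
    rw [(wlen_eq_zero_iff E.invol (hcl x)).1 hn]; simp
  · obtain ⟨m, rfl⟩ : ∃ m, n = m + 1 := ⟨n - 1, by omega⟩
    obtain ⟨k, hk, x₁, -, hxx₁, hm⟩ := exists_right_descent E.invol (hcl x) hn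
    rcases Nat.eq_zero_or_pos m with hm0 | hmpos
    · have hx1 : x₁ = 1 := (wlen_eq_zero_iff E.invol (hcl x₁)).1 (by rw [hm, hm0])
      rw [hxx₁, hx1, one_mul, E.invol.inv_eq hk, hm0]
      have h1 := hz k hk
      have h2 := E.len_succ_of_le hk h1.le
      omega
    · obtain ⟨m', rfl⟩ : ∃ m', m = m' + 1 := ⟨m - 1, by omega⟩
      obtain ⟨k', hk', x₂, -, hxx₂, hm'⟩ := exists_right_descent E.invol (hcl x₁) hm
      have hK : ({k, k'} : Set W) ⊆ S := pair_subset hk hk'
      have hkK : k ∈ ({k, k'} : Set W) := Set.mem_insert _ _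
      have hk'K : k' ∈ ({k, k'} : Set W) := Set.mem_insert_of_mem _ rfl
      obtain ⟨c, a, ha, hxca, hcr, hadd⟩ := E.exists_rdecomp hK x
      have hx₂ : x₂ = c * (a * k * k') := by
        have e1 : x₂ = x * k * k' := by
          rw [hxx₁, hxx₂, mul_assoc (x₂ * k') k k, E.invol k hk, mul_one, mul_assoc,
            E.invol k' hk', mul_one]
        rw [e1, hxca]; simp only [mul_assoc]
      have hakk : a * k * k' ∈ Subgroup.closure ({k, k'} : Set W) :=
        Subgroup.mul_mem _ (Subgroup.mul_mem _ ha (Subgroup.subset_closure hkK))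
          (Subgroup.subset_closure hk'K)
      have h1 := hadd _ hakk
      rw [← hx₂, hm'] at h1
      have h2 := hadd a ha
      rw [← hxca, hn] at h2
      have ihc := ih (wlen S c) (by omega) c rfl
      have hck : wlen S (c * k) = wlen S c + 1 := by
        rw [hadd k (Subgroup.subset_closure hkK), E.wlen_gen hk]
      have hck' : wlen S (c * k') = wlen S c + 1 := by
        rw [hadd k' (Subgroup.subset_closure hk'K), E.wlen_gen hk']
      have ihk := ih (wlen S c + 1) (by omega) (c * k) hck
      have ihk' := ih (wlen S c + 1) (by omega) (c * k') hck'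
      rw [mul_inv_rev, E.invol.inv_eq hk, mul_assoc] at ihk
      rw [mul_inv_rev, E.invol.inv_eq hk', mul_assoc] at ihk'
      have hd := E.dihedral hk hk' (u := c⁻¹ * z) (by omega) (by omega) ha
      rw [hxca, mul_inv_rev, mul_assoc]
      omega

theorem longest_unique [Finite W] {z z' : W} (hz : ∀ s ∈ S, wlen S (s * z) < wlen S z)
    (hz' : ∀ s ∈ S, wlen S (s * z') < wlen S z') : z = z' := by
  have h1 := E.longest_prefix hz (wlen S z') z' rfl
  have h2 := E.longest_prefix hz' (wlen S z) z rfl
  have h3 : wlen S (z'⁻¹ * z) = 0 := by omega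
  have := (wlen_eq_zero_iff E.invol (E.mem_closure _)).1 h3
  exact (inv_mul_eq_one.1 this).symm

/-- The longest element. -/
theorem exists_longest [Finite W] : ∃ w₀ : W,
    (∀ z : W, (∀ s ∈ S, wlen S (s * z) < wlen S z) ↔ z = w₀) ∧
    (∀ z : W, (∀ s ∈ S, wlen S (z * s) < wlen S z) ↔ z = w₀) := by
  obtain ⟨w₀, hmax⟩ := Finite.exists_max (fun w : W => wlen S w)
  have hL : ∀ s ∈ S, wlen S (s * w₀) < wlen S w₀ := by
    intro s hs
    have h1 : wlen S (s * w₀) ≤ wlen S w₀ := hmax (s * w₀)
    rcases E.len_mul_left hs w₀ with h | h <;> omega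
  have hR : ∀ s ∈ S, wlen S (w₀ * s) < wlen S w₀ := by
    intro s hs
    have h1 : wlen S (w₀ * s) ≤ wlen S w₀ := hmax (w₀ * s)
    rcases E.len_mul_right hs w₀ with h | h <;> omega
  have hinvL : ∀ z : W, (∀ s ∈ S, wlen S (z * s) < wlen S z) →
      ∀ s ∈ S, wlen S (s * z⁻¹) < wlen S z⁻¹ := by
    intro z hz s hs
    have h1 : wlen S (s * z⁻¹) = wlen S (z * s) := by
      rw [← wlen_inv E.invol (E.mem_closure (z * s)), mul_inv_rev, E.invol.inv_eq hs]
    rw [h1, wlen_inv E.invol (E.mem_closure z)]
    exact hz s hs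
  have hw₀inv : w₀⁻¹ = w₀ := E.longest_unique (hinvL w₀ hR) hL
  refine ⟨w₀, fun z => ⟨fun hz => E.longest_unique hz hL, fun h => by rw [h]; exact hL⟩,
    fun z => ⟨fun hz => ?_, fun h => by rw [h]; exact hR⟩⟩
  have := E.longest_unique (hinvL z hz) hL
  rw [← inv_inv z, this, hw₀inv]

end ExW

end Cfsg.Agent.Lib.Helper3.StCh
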