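import Mathlib
import Cfsg.Agent.Lib.Helper3.StCh2

set_option autoImplicit false
set_option linter.unusedSectionVars false
set_option linter.unusedVariables false

/-!
Steinberg character, part 3: in a Tits system, the double cosets of two standard parabolic subgroups
correspond to the reduced elements of the Weyl group, and the fixed points of an element of `B` on the
cosets of a standard parabolic subgroup correspond to its fixed cosets of `B` of reduced type.
-/

namespace Cfsg.Agent.Lib.Helper3.StCh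

open Cfsg.Agent.Lib.Helper1 DoubleCoset

variable {G W : Type*} [Group G] [Group W] (D : TitsData G W)

/-- The product of two double cosets whose lengths add is a double coset. -/
theorem C_mul_of_add : ∀ n : ℕ, ∀ w v : W, wlen D.S w = n →
    wlen D.S (w * v) = wlen D.S w + wlen D.S v → ∀ x ∈ D.C w, ∀ y ∈ D.C v, x * y ∈ D.C (w * v) := by
  intro n
  induction n with
  | zero =>
    intro w v hw _ x hx y hy
    have hw1 : w = 1 := (wlen_eq_zero_iff D.S_invol (D.mem_closure w)).1 hw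
    subst hw1
    rw [one_mul]
    rw [D.mem_C_one] at hx
    exact D.left_mul_mem_C hy hx
  | succ m ih =>
    intro w v hw hadd x hx y hy
    obtain ⟨s, hs, w', -, hww', hm⟩ := exists_left_descent D.S_invol (D.mem_closure w) hw
    subst hww'
    obtain ⟨x₁, hx₁, x₂, hx₂, rfl⟩ := D.exists_mul_of_mem hx
    have h1 := wlen_mul_left_le D.S_invol hs (D.mem_closure (w' * v))
    have h2 := wlen_mul_le_add D.S_invol (D.mem_closure w') (D.mem_closure v)
    rw [mul_assoc] at hadd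
    have hadd' : wlen D.S (w' * v) = wlen D.S w' + wlen D.S v := by omega
    have h3 := ih w' v hm hadd' x₂ hx₂ y hy
    rw [mul_assoc, mul_assoc]
    exact D.mul_sub_of_le hs (by omega) hx₁ h3

theorem mul_left_coset {K : Set W} (hK : K ⊆ D.S) : ∀ l : List W, IsWord K l →
    ∀ x ∈ D.C l.prod, ∀ w : W, ∀ y ∈ D.C w, ∃ a ∈ Subgroup.closure K, x * y ∈ D.C (a * w) := by
  intro l
  induction l with
  | nil =>
    intro _ x hx w y hy
    rw [List.prod_nil, D.mem_C_one] at hx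
    exact ⟨1, Subgroup.one_mem _, by rw [one_mul]; exact D.left_mul_mem_C hy hx⟩
  | cons t l ih =>
    intro hl x hx w y hy
    obtain ⟨htK, hlK⟩ := isWord_of_cons hl
    rw [List.prod_cons] at hx
    obtain ⟨x₁, hx₁, x₂, hx₂, rfl⟩ := D.exists_mul_of_mem hx
    obtain ⟨a, ha, h⟩ := ih hlK x₂ hx₂ w y hy
    rw [mul_assoc]
    rcases D.mul_sub t (hK htK) (a * w) x₁ hx₁ (x₂ * y) h with h1 | h1
    · exact ⟨t * a, Subgroup.mul_mem _ (Subgroup.subset_closure htK) ha, by rwa [mul_assoc]⟩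
    · exact ⟨a, ha, h1⟩

theorem mul_left_coset' {K : Set W} (hK : K ⊆ D.S) {a w : W} {x y : G}
    (ha : a ∈ Subgroup.closure K) (hx : x ∈ D.C a) (hy : y ∈ D.C w) :
    ∃ a' ∈ Subgroup.closure K, x * y ∈ D.C (a' * w) := by
  have hKi : IsInvolSet K := fun s hs => D.S_invol s (hK hs)
  obtain ⟨l, hl, rfl⟩ := (mem_closure_iff_exists_word hKi a).1 ha
  exact mul_left_coset D hK l hl x hx w y hy

theorem mul_right_coset' {J : Set W} (hJ : J ⊆ D.S) {b w : W} {x y : G}
    (hb : b ∈ Subgroup.closure J) (hy : y ∈ D.C w) (hx : x ∈ D.C b) :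
    ∃ b' ∈ Subgroup.closure J, y * x ∈ D.C (w * b') := by
  obtain ⟨a', ha', h⟩ := mul_left_coset' D hJ (Subgroup.inv_mem _ hb) (D.C_inv b x hx)
    (D.C_inv w y hy)
  refine ⟨a'⁻¹, Subgroup.inv_mem _ ha', ?_⟩
  have := D.C_inv _ _ h
  simpa [mul_inv_rev] using this

/-- A representative of a double coset. -/
noncomputable def rep (w : W) : G := (D.C_nonempty w).some

theorem rep_mem (w : W) : rep D w ∈ D.C w := (D.C_nonempty w).some_mem

/-- The number of double cosets of two standard parabolic subgroups. -/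
theorem card_doubleCoset {K J : Set W} (hK : K ⊆ D.S) (hJ : J ⊆ D.S) :
    Nat.card (DoubleCoset.Quotient (D.par K hK : Set G) (D.par J hJ)) =
      Nat.card {d : W // LRed D.S K d ∧ RRed D.S J d} := by
  have E := exW_of_tits D
  symm
  apply Nat.card_eq_of_bijective (fun d : {d : W // LRed D.S K d ∧ RRed D.S J d} =>
    DoubleCoset.mk (D.par K hK) (D.par J hJ) (rep D d.1))
  constructor
  · rintro ⟨d, hdl, hdr⟩ ⟨d', hdl', hdr'⟩ h
    simp only at h
    rw [DoubleCoset.eq] at h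
    obtain ⟨p, hp, p', hp', he⟩ := h
    obtain ⟨a, ha, hpa⟩ := hp
    obtain ⟨b, hb, hpb⟩ := hp'
    obtain ⟨a', ha', h1⟩ := mul_left_coset' D hK ha hpa (rep_mem D d)
    obtain ⟨b', hb', h2⟩ := mul_right_coset' D hJ hb h1 hpb
    rw [← he] at h2
    have h3 : d' = a' * d * b' := D.eq_of_mem_of_mem (rep_mem D d') h2
    have h4 := E.red_unique hK hJ hdl hdr hdl' hdr' ha' hb' h3
    exact Subtype.ext h4.symm
  · intro q
    rw [← DoubleCoset.out_eq' _ _ q]
    set g := q.out with hg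
    obtain ⟨w, hw⟩ := D.cover g
    obtain ⟨a, ha, b, hb, hmin⟩ := E.exists_min K J w
    refine ⟨⟨a * w * b, E.min_lred hK hmin, E.min_rred hJ hmin⟩, ?_⟩
    simp only
    have hw' : g ∈ D.C (a⁻¹ * (a * w * b) * b⁻¹) := by
      have e : a⁻¹ * (a * w * b) * b⁻¹ = w := by group
      rw [e]; exact hw
    obtain ⟨xy, hxy, z, hz, hgz⟩ := D.exists_mul_of_mem hw'
    obtain ⟨x, hx, y, hy, rfl⟩ := D.exists_mul_of_mem hxy
    obtain ⟨β, hβ, β', hβ', hyrep⟩ := D.exists_eq_mul (rep_mem D (a * w * b)) hy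
    rw [DoubleCoset.eq]
    refine ⟨x * β, ?_, β' * z, ?_, ?_⟩
    · exact Subgroup.mul_mem _ (D.C_subset_par hK (Subgroup.inv_mem _ ha) hx) (D.B_le_par hK hβ)
    · exact Subgroup.mul_mem _ (D.B_le_par hJ hβ') (D.C_subset_par hJ (Subgroup.inv_mem _ hb) hz)
    · rw [hgz, hyrep]; group

/-- The type of an element: the index of its double coset. -/
noncomputable def typ (g : G) : W := Classical.choose (D.cover g)

theorem mem_typ (g : G) : g ∈ D.C (typ D g) := Classical.choose_spec (D.cover g)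

theorem typ_eq {g : G} {w : W} (h : g ∈ D.C w) : typ D g = w :=
  D.eq_of_mem_of_mem (mem_typ D g) h

theorem typ_mul_right (g : G) {b : G} (hb : b ∈ D.B) : typ D (g * b) = typ D g :=
  typ_eq D (D.right_mul_mem_C (mem_typ D g) hb)

theorem typ_mul_left (g : G) {b : G} (hb : b ∈ D.B) : typ D (b * g) = typ D g :=
  typ_eq D (D.left_mul_mem_C (mem_typ D g) hb)

theorem typ_out (g : G) : typ D ((g : G ⧸ D.B)).out = typ D g := by
  obtain ⟨h, hh⟩ := QuotientGroup.mk_out_eq_mul D.B g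
  rw [hh]
  exact typ_mul_right D g h.2

/-- Two elements of right reduced type in the same coset of a standard parabolic subgroup lie in
the same coset of `B`. -/
theorem coset_eq_of_rred {J : Set W} (hJ : J ⊆ D.S) {g g' : G} (hg : RRed D.S J (typ D g))
    (hg' : RRed D.S J (typ D g')) (h : g⁻¹ * g' ∈ D.par J hJ) : g⁻¹ * g' ∈ D.B := by
  have E := exW_of_tits D
  obtain ⟨v, hv, hpv⟩ := h
  have h1 : g * (g⁻¹ * g') ∈ D.C (typ D g * v) :=
    C_mul_of_add D _ _ _ rfl (E.rred_add hJ hg hv) _ (mem_typ D g) _ hpv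
  rw [mul_inv_cancel_left] at h1
  have h2 : typ D g' = typ D g * v := typ_eq D h1
  have h3 : typ D g' = typ D g :=
    E.red_unique (Set.empty_subset _) hJ (E.lred_empty _) hg (E.lred_empty _) hg'
      (Subgroup.one_mem _) hv (by rw [one_mul]; exact h2)
  have hv1 : v = 1 := by
    rw [h3] at h2
    exact (left_eq_mul.1 h2)
  rw [hv1, D.mem_C_one] at hpv
  exact hpv

/-- The fixed points of an element of `B` on the cosets of a standard parabolic subgroup. -/
theorem card_fixedBy_par {J : Set W} (hJ : J ⊆ D.S) {b : G} (hb : b ∈ D.B) :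
    Nat.card (MulAction.fixedBy (G ⧸ D.par J hJ) b) =
      Nat.card {q : G ⧸ D.B // b • q = q ∧ RRed D.S J (typ D q.out)} := by
  have E := exW_of_tits D
  symm
  let ψ : G ⧸ D.B → G ⧸ D.par J hJ := Subgroup.quotientMapOfLE (D.B_le_par hJ)
  have hψmk : ∀ g : G, ψ (g : G ⧸ D.B) = (g : G ⧸ D.par J hJ) := fun g => rfl
  have hψ : ∀ (g : G) (q : G ⧸ D.B), ψ (g • q) = g • ψ q := by
    intro g q
    obtain ⟨x, rfl⟩ := QuotientGroup.mk_surjective q
    rfl
  apply Nat.card_eq_of_bijective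
    (fun q : {q : G ⧸ D.B // b • q = q ∧ RRed D.S J (typ D q.out)} =>
      (⟨ψ q.1, by rw [MulAction.mem_fixedBy, ← hψ, q.2.1]⟩ :
        MulAction.fixedBy (G ⧸ D.par J hJ) b))
  constructor
  · rintro ⟨q, hq1, hq2⟩ ⟨q', hq1', hq2'⟩ h
    obtain ⟨g, rfl⟩ := QuotientGroup.mk_surjective q
    obtain ⟨g', rfl⟩ := QuotientGroup.mk_surjective q'
    rw [typ_out] at hq2 hq2'
    have h' : ψ (g : G ⧸ D.B) = ψ (g' : G ⧸ D.B) := congrArg Subtype.val h
    rw [hψmk, hψmk, QuotientGroup.eq] at h'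
    apply Subtype.ext
    show (g : G ⧸ D.B) = (g' : G ⧸ D.B)
    rw [QuotientGroup.eq]
    exact coset_eq_of_rred D hJ hq2 hq2' h'
  · rintro ⟨r, hr⟩
    obtain ⟨x, rfl⟩ := QuotientGroup.mk_surjective r
    rw [MulAction.mem_fixedBy] at hr
    obtain ⟨d, v, hv, hwd, hdr, hadd⟩ := E.exists_rdecomp hJ (typ D x)
    have hx : x ∈ D.C (d * v) := by rw [← hwd]; exact mem_typ D x
    obtain ⟨g, hg, p, hp, rfl⟩ := D.exists_mul_of_mem hx
    have htg : typ D g = d := typ_eq D hg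
    have hpP : p ∈ D.par J hJ := ⟨v, hv, hp⟩
    have hgx : ((g : G) : G ⧸ D.par J hJ) = ((g * p : G) : G ⧸ D.par J hJ) := by
      rw [QuotientGroup.eq]; simpa using hpP
    have hfix : b • (g : G ⧸ D.B) = (g : G ⧸ D.B) := by
      show ((b * g : G) : G ⧸ D.B) = (g : G ⧸ D.B)
      rw [eq_comm, QuotientGroup.eq]
      apply coset_eq_of_rred D hJ (g := g) (g' := b * g)
      · rw [htg]; exact hdr
      · rw [typ_mul_left D g hb, htg]; exact hdr
      · rw [← QuotientGroup.eq, hgx]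
        have e : ((b * g : G) : G ⧸ D.par J hJ) = ((b * (g * p) : G) : G ⧸ D.par J hJ) := by
          rw [QuotientGroup.eq]; simpa [mul_assoc] using hpP
        rw [e]
        exact hr.symm
    refine ⟨⟨(g : G ⧸ D.B), hfix, by rw [typ_out, htg]; exact hdr⟩, ?_⟩
    apply Subtype.ext
    show ψ (g : G ⧸ D.B) = ((g * p : G) : G ⧸ D.par J hJ)
    rw [hψmk, hgx]

/-- The fixed points of an element of `B` on the cosets of `B` in a given double coset. -/
theorem card_fixed_cell {n₀ : G} {w₀ : W} (hn₀ : n₀ ∈ D.C w₀) {b : G} (hb : b ∈ D.B)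
    (T : Subgroup D.B) (hT : ∀ β : D.B, β ∈ T ↔ n₀⁻¹ * (β : G) * n₀ ∈ D.B) :
    Nat.card {q : G ⧸ D.B // b • q = q ∧ typ D q.out = w₀} =
      Nat.card (MulAction.fixedBy (D.B ⧸ T) (⟨b, hb⟩ : D.B)) := by
  symm
  let χ : D.B ⧸ T → G ⧸ D.B := fun c => Quotient.liftOn' c
    (fun β : D.B => (((β : G) * n₀ : G) : G ⧸ D.B)) (by
      intro β β' h
      have h' : β⁻¹ * β' ∈ T := QuotientGroup.leftRel_apply.1 h
      rw [hT] at h'
      show (((β : G) * n₀ : G) : G ⧸ D.B) = (((β' : G) * n₀ : G) : G ⧸ D.B)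
      rw [QuotientGroup.eq]
      have e : ((β : G) * n₀)⁻¹ * ((β' : G) * n₀) = n₀⁻¹ * ((β⁻¹ * β' : D.B) : G) * n₀ := by
        simp only [Subgroup.coe_mul, Subgroup.coe_inv]; group
      rw [e]; exact h')
  have hχmk : ∀ β : D.B, χ (β : D.B ⧸ T) = (((β : G) * n₀ : G) : G ⧸ D.B) := fun β => rfl
  have hχinj : Function.Injective χ := by
    intro c c' h
    obtain ⟨β, rfl⟩ := QuotientGroup.mk_surjective c
    obtain ⟨β', rfl⟩ := QuotientGroup.mk_surjective c'
    rw [hχmk, hχmk, QuotientGroup.eq] at h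
    rw [QuotientGroup.eq, hT]
    have e : ((β : G) * n₀)⁻¹ * ((β' : G) * n₀) = n₀⁻¹ * ((β⁻¹ * β' : D.B) : G) * n₀ := by
      simp only [Subgroup.coe_mul, Subgroup.coe_inv]; group
    rw [← e]; exact h
  have hχeq : ∀ c : D.B ⧸ T, χ ((⟨b, hb⟩ : D.B) • c) = b • χ c := by
    intro c
    obtain ⟨β, rfl⟩ := QuotientGroup.mk_surjective c
    show χ (((⟨b, hb⟩ * β : D.B)) : D.B ⧸ T) = ((b * ((β : G) * n₀) : G) : G ⧸ D.B)
    rw [hχmk]
    simp only [Subgroup.coe_mul, mul_assoc]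
  have hχtyp : ∀ c : D.B ⧸ T, typ D (χ c).out = w₀ := by
    intro c
    obtain ⟨β, rfl⟩ := QuotientGroup.mk_surjective c
    rw [hχmk, typ_out]
    exact typ_eq D (D.left_mul_mem_C hn₀ β.2)
  apply Nat.card_eq_of_bijective
    (fun c : MulAction.fixedBy (D.B ⧸ T) (⟨b, hb⟩ : D.B) =>
      (⟨χ c.1, by rw [← hχeq, MulAction.mem_fixedBy.1 c.2], hχtyp c.1⟩ :
        {q : G ⧸ D.B // b • q = q ∧ typ D q.out = w₀}))
  constructor
  · rintro ⟨c, hc⟩ ⟨c', hc'⟩ h
    have h' : χ c = χ c' := congrArg Subtype.val h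
    exact Subtype.ext (hχinj h')
  · rintro ⟨q, hq1, hq2⟩
    obtain ⟨g, rfl⟩ := QuotientGroup.mk_surjective q
    rw [typ_out] at hq2
    have hg : g ∈ D.C w₀ := by rw [← hq2]; exact mem_typ D g
    obtain ⟨β, hβ, β', hβ', rfl⟩ := D.exists_eq_mul hn₀ hg
    have hmk : χ ((⟨β, hβ⟩ : D.B) : D.B ⧸ T) = ((β * n₀ * β' : G) : G ⧸ D.B) := by
      rw [hχmk, QuotientGroup.eq]
      have e : (β * n₀)⁻¹ * (β * n₀ * β') = β' := by group
      show (β * n₀)⁻¹ * (β * n₀ * β') ∈ D.B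
      rw [e]; exact hβ'
    refine ⟨⟨((⟨β, hβ⟩ : D.B) : D.B ⧸ T), ?_⟩, Subtype.ext hmk⟩
    rw [MulAction.mem_fixedBy]
    apply hχinj
    rw [hχeq, hmk]
    exact hq1

end Cfsg.Agent.Lib.Helper3.StCh
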