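import Mathlib
import Cfsg.Agent.Lib.Helper3.StCh3

set_option autoImplicit false
set_option linter.unusedSectionVars false
set_option linter.unusedVariables false

/-!
Steinberg character, part 4: the alternating sums over the standard parabolic subgroups of a finite
Tits system: of the numbers of double cosets, and of the numbers of fixed points of an element of `B`.
-/

namespace Cfsg.Agent.Lib.Helper3.StCh

open Cfsg.Agent.Lib.Helper1 DoubleCoset

theorem sum_powerset_subset {ι : Type*} [DecidableEq ι] (I A : Finset ι) (hA : A ⊆ I) :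
    ∑ K ∈ I.powerset, (-1 : ℤ) ^ K.card * (if K ⊆ A then 1 else 0) = if A = ∅ then 1 else 0 := by
  rw [← Finset.sum_powerset_neg_one_pow_card (x := A)]
  simp only [mul_ite, mul_one, mul_zero]
  rw [← Finset.sum_filter]
  apply Finset.sum_congr _ (fun _ _ => rfl)
  ext K
  simp only [Finset.mem_filter, Finset.mem_powerset]
  exact ⟨fun h => h.2, fun h => ⟨h.trans hA, h⟩⟩

section
variable {G W : Type*} [Group G] [Group W] (D : TitsData G W) {ι : Type*} [DecidableEq ι]
  (I : Finset ι) (σ : ι → W)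

/-- The generators indexed by a finite set. -/
def gens (J : Finset ι) : Set W := σ '' (J : Set ι) ∩ D.S

theorem gens_subset (J : Finset ι) : gens D σ J ⊆ D.S := Set.inter_subset_right

/-- The standard parabolic subgroup indexed by a finite set. -/
def parJ (J : Finset ι) : Subgroup G := D.par (gens D σ J) (gens_subset D σ J)

open Classical in
/-- The indices of the generators lengthening `d` on the left. -/
noncomputable def ascL (d : W) : Finset ι := I.filter fun i => wlen D.S d < wlen D.S (σ i * d)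

open Classical in
/-- The indices of the generators lengthening `d` on the right. -/
noncomputable def ascR (d : W) : Finset ι := I.filter fun i => wlen D.S d < wlen D.S (d * σ i)

theorem ascL_subset (d : W) : ascL D I σ d ⊆ I := Finset.filter_subset _ _

theorem ascR_subset (d : W) : ascR D I σ d ⊆ I := Finset.filter_subset _ _

variable {I σ}

theorem lred_gens_iff (hσ : ∀ i ∈ I, σ i ∈ D.S) {K : Finset ι} (hK : K ⊆ I) (d : W) :
    LRed D.S (gens D σ K) d ↔ K ⊆ ascL D I σ d := by
  constructor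
  · intro h i hi
    rw [ascL, Finset.mem_filter]
    exact ⟨hK hi, h (σ i) ⟨⟨i, hi, rfl⟩, hσ i (hK hi)⟩⟩
  · rintro h s ⟨⟨i, hi, rfl⟩, -⟩
    have := h hi
    rw [ascL, Finset.mem_filter] at this
    exact this.2

theorem rred_gens_iff (hσ : ∀ i ∈ I, σ i ∈ D.S) {K : Finset ι} (hK : K ⊆ I) (d : W) :
    RRed D.S (gens D σ K) d ↔ K ⊆ ascR D I σ d := by
  constructor
  · intro h i hi
    rw [ascR, Finset.mem_filter]
    exact ⟨hK hi, h (σ i) ⟨⟨i, hi, rfl⟩, hσ i (hK hi)⟩⟩
  · rintro h s ⟨⟨i, hi, rfl⟩, -⟩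
    have := h hi
    rw [ascR, Finset.mem_filter] at this
    exact this.2

theorem ascL_eq_empty_iff (hσ : ∀ i ∈ I, σ i ∈ D.S) (hσs : ∀ s ∈ D.S, ∃ i ∈ I, σ i = s) (d : W) :
    ascL D I σ d = ∅ ↔ ∀ s ∈ D.S, wlen D.S (s * d) < wlen D.S d := by
  have E := exW_of_tits D
  rw [ascL, Finset.filter_eq_empty_iff]
  constructor
  · intro h s hs
    obtain ⟨i, hi, rfl⟩ := hσs s hs
    have := h hi
    rcases E.len_mul_left hs d with h1 | h1 <;> omega
  · intro h i hi
    have := h (σ i) (hσ i hi)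
    omega

theorem ascR_eq_empty_iff (hσ : ∀ i ∈ I, σ i ∈ D.S) (hσs : ∀ s ∈ D.S, ∃ i ∈ I, σ i = s) (d : W) :
    ascR D I σ d = ∅ ↔ ∀ s ∈ D.S, wlen D.S (d * s) < wlen D.S d := by
  have E := exW_of_tits D
  rw [ascR, Finset.filter_eq_empty_iff]
  constructor
  · intro h s hs
    obtain ⟨i, hi, rfl⟩ := hσs s hs
    have := h hi
    rcases E.len_mul_right hs d with h1 | h1 <;> omega
  · intro h i hi
    have := h (σ i) (hσ i hi)
    omega

/-- The alternating sum of the numbers of double cosets of the standard parabolic subgroups. -/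
theorem sum_doubleCoset [Finite W] (hσ : ∀ i ∈ I, σ i ∈ D.S)
    (hσs : ∀ s ∈ D.S, ∃ i ∈ I, σ i = s) :
    ∑ K ∈ I.powerset, ∑ J ∈ I.powerset, (-1 : ℤ) ^ K.card * (-1) ^ J.card *
      (Nat.card (DoubleCoset.Quotient (parJ D σ K : Set G) (parJ D σ J)) : ℤ) = 1 := by
  classical
  have : Fintype W := Fintype.ofFinite W
  have E := exW_of_tits D
  obtain ⟨w₀, hw₀L, hw₀R⟩ := E.exists_longest
  have hcard : ∀ K ∈ I.powerset, ∀ J ∈ I.powerset,
      (Nat.card (DoubleCoset.Quotient (parJ D σ K : Set G) (parJ D σ J)) : ℤ) =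
        ∑ d : W, (if K ⊆ ascL D I σ d then (1 : ℤ) else 0) *
          (if J ⊆ ascR D I σ d then 1 else 0) := by
    intro K hK J hJ
    rw [Finset.mem_powerset] at hK hJ
    unfold parJ
    rw [card_doubleCoset D (gens_subset D σ K) (gens_subset D σ J), Nat.card_eq_fintype_card,
      Fintype.card_subtype, Finset.card_filter]
    push_cast
    apply Finset.sum_congr rfl
    intro d _
    rw [lred_gens_iff D hσ hK, rred_gens_iff D hσ hJ]
    by_cases h1 : K ⊆ ascL D I σ d <;> by_cases h2 : J ⊆ ascR D I σ d <;> simp [h1, h2]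
  have h1 : ∑ K ∈ I.powerset, ∑ J ∈ I.powerset, (-1 : ℤ) ^ K.card * (-1) ^ J.card *
      (Nat.card (DoubleCoset.Quotient (parJ D σ K : Set G) (parJ D σ J)) : ℤ) =
      ∑ K ∈ I.powerset, ∑ J ∈ I.powerset, ∑ d : W,
        ((-1 : ℤ) ^ K.card * (if K ⊆ ascL D I σ d then (1 : ℤ) else 0)) *
          ((-1) ^ J.card * (if J ⊆ ascR D I σ d then 1 else 0)) := by
    apply Finset.sum_congr rfl
    intro K hK
    apply Finset.sum_congr rfl
    intro J hJ
    rw [hcard K hK J hJ, Finset.mul_sum]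
    apply Finset.sum_congr rfl
    intro d _
    ring
  rw [h1, Finset.sum_congr rfl (fun K _ => Finset.sum_comm), Finset.sum_comm]
  have h2 : ∀ d : W, ∑ K ∈ I.powerset, ∑ J ∈ I.powerset,
      ((-1 : ℤ) ^ K.card * (if K ⊆ ascL D I σ d then (1 : ℤ) else 0)) *
        ((-1) ^ J.card * (if J ⊆ ascR D I σ d then 1 else 0)) = if d = w₀ then 1 else 0 := by
    intro d
    rw [← Finset.sum_mul_sum, sum_powerset_subset I _ (ascL_subset D I σ d),
      sum_powerset_subset I _ (ascR_subset D I σ d)]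
    have hA : ascL D I σ d = ∅ ↔ d = w₀ := by rw [ascL_eq_empty_iff D hσ hσs, hw₀L]
    have hB : ascR D I σ d = ∅ ↔ d = w₀ := by rw [ascR_eq_empty_iff D hσ hσs, hw₀R]
    simp only [hA, hB]
    by_cases hd : d = w₀
    · simp [hd]
    · simp [hd]
  rw [Finset.sum_congr rfl (fun d _ => h2 d), Finset.sum_ite_eq' Finset.univ w₀]
  simp

/-- The alternating sum of the numbers of fixed points of an element of `B` on the cosets of the
standard parabolic subgroups. -/
theorem sum_fixed [Finite G] [Finite W] (hσ : ∀ i ∈ I, σ i ∈ D.S)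
    (hσs : ∀ s ∈ D.S, ∃ i ∈ I, σ i = s) {w₀ : W}
    (hw₀ : ∀ s ∈ D.S, wlen D.S (w₀ * s) < wlen D.S w₀) {b : G} (hb : b ∈ D.B) :
    ∑ J ∈ I.powerset, (-1 : ℤ) ^ J.card *
      (Nat.card (MulAction.fixedBy (G ⧸ parJ D σ J) b) : ℤ) =
      (Nat.card {q : G ⧸ D.B // b • q = q ∧ typ D q.out = w₀} : ℤ) := by
  classical
  have : Fintype (G ⧸ D.B) := Fintype.ofFinite _
  have E := exW_of_tits D
  obtain ⟨w, hwL, hwR⟩ := E.exists_longest
  have hww : w₀ = w := (hwR w₀).1 hw₀
  subst hww
  have hcard : ∀ J ∈ I.powerset,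
      (Nat.card (MulAction.fixedBy (G ⧸ parJ D σ J) b) : ℤ) =
        ∑ q : G ⧸ D.B, (if b • q = q then (1 : ℤ) else 0) *
          (if J ⊆ ascR D I σ (typ D q.out) then 1 else 0) := by
    intro J hJ
    rw [Finset.mem_powerset] at hJ
    unfold parJ
    rw [card_fixedBy_par D (gens_subset D σ J) hb, Nat.card_eq_fintype_card,
      Fintype.card_subtype, Finset.card_filter]
    push_cast
    apply Finset.sum_congr rfl
    intro q _
    rw [rred_gens_iff D hσ hJ]
    by_cases h1 : b • q = q <;> by_cases h2 : J ⊆ ascR D I σ (typ D q.out) <;> simp [h1, h2]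
  have h1 : ∑ J ∈ I.powerset, (-1 : ℤ) ^ J.card *
      (Nat.card (MulAction.fixedBy (G ⧸ parJ D σ J) b) : ℤ) =
      ∑ J ∈ I.powerset, ∑ q : G ⧸ D.B, (if b • q = q then (1 : ℤ) else 0) *
        ((-1) ^ J.card * (if J ⊆ ascR D I σ (typ D q.out) then 1 else 0)) := by
    apply Finset.sum_congr rfl
    intro J hJ
    rw [hcard J hJ, Finset.mul_sum]
    apply Finset.sum_congr rfl
    intro q _
    ring
  rw [h1, Finset.sum_comm]
  have h2 : ∀ q : G ⧸ D.B, ∑ J ∈ I.powerset, (if b • q = q then (1 : ℤ) else 0) *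
      ((-1) ^ J.card * (if J ⊆ ascR D I σ (typ D q.out) then 1 else 0)) =
      if b • q = q ∧ typ D q.out = w₀ then 1 else 0 := by
    intro q
    rw [← Finset.mul_sum, sum_powerset_subset I _ (ascR_subset D I σ _)]
    have hA : ascR D I σ (typ D q.out) = ∅ ↔ typ D q.out = w₀ := by
      rw [ascR_eq_empty_iff D hσ hσs, hwR]
    simp only [hA]
    by_cases hq : b • q = q <;> by_cases ht : typ D q.out = w₀ <;> simp [hq, ht]
  rw [Finset.sum_congr rfl (fun q _ => h2 q), Nat.card_eq_fintype_card, Fintype.card_subtype,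
    Finset.card_filter]
  push_cast
  rfl

end

end Cfsg.Agent.Lib.Helper3.StCh
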