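import Mathlib
import Cfsg.Prelude.Def_ParabolicCharacters
import Cfsg.Agent.Lib.Helper1.BNPar
import Cfsg.Agent.Lib.Helper5.PermChar
import Cfsg.Agent.Lib.Helper4.VirtualChar
import Cfsg.Agent.Lib.Helper3.StCh4

set_option autoImplicit false
set_option linter.unusedSectionVars false
set_option linter.unusedVariables false

/-!
Steinberg character, part 5: the alternating sum of the permutation characters on the standard
parabolic subgroups of a finite group with a (B,N)-pair has norm one, and its restriction to `B` is a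
permutation character.
-/

namespace Cfsg.Agent.Lib.Helper3.StCh

open Cfsg.Agent.Lib.Helper1 Cfsg.Agent.Lib.Helper4 Cfsg.Agent.Lib.Helper5 DoubleCoset
open scoped ComplexConjugate

theorem par_congr {G W : Type*} [Group G] [Group W] (D : TitsData G W) {J J' : Set W} (h : J = J')
    (hJ : J ⊆ D.S) (hJ' : J' ⊆ D.S) : D.par J hJ = D.par J' hJ' := by
  subst h; rfl

section BN

variable {G : Type*} [Group G] (P : Cfsg.BNPair G) (r : ℕ) (nrep : ℕ → G)

/-- The representatives indexed by a finite set. -/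
def repSet (J : Finset ℕ) : Set G := {n | ∃ j ∈ J, j < r ∧ n = nrep j}

/-- The generators of the Weyl group by their indices. -/
noncomputable def sig (hn : ∀ j < r, nrep j ∈ P.S) (j : ℕ) : bnW P :=
  if h : j < r then bnπ P ⟨nrep j, P.subset (hn j h)⟩ else 1

/-- The alternating sum of the permutation characters on the standard parabolic subgroups. -/
noncomputable def stFun : G → ℂ := fun g => ∑ J ∈ (Finset.range r).powerset,
  (-1 : ℂ) ^ J.card * Cfsg.fixedPointCharacter (P.parabolic (repSet r nrep J)) g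

variable (hn : ∀ j < r, nrep j ∈ P.S) (hS : ∀ s ∈ P.S, ∃ j < r, nrep j = s)

include hn in
theorem repSet_subset (J : Finset ℕ) : repSet r nrep J ⊆ P.S := by
  rintro n ⟨j, _, hj, rfl⟩
  exact hn j hj

theorem sig_mem (j : ℕ) (hj : j ∈ Finset.range r) : sig P r nrep hn j ∈ (bnData P).S := by
  rw [Finset.mem_range] at hj
  rw [sig, dif_pos hj]
  exact (mem_bnS P).2 ⟨nrep j, hn j hj, rfl⟩

include hS in
theorem sig_surj : ∀ s ∈ (bnData P).S, ∃ i ∈ Finset.range r, sig P r nrep hn i = s := by
  intro s hs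
  obtain ⟨t, ht, rfl⟩ := (mem_bnS P).1 hs
  obtain ⟨j, hj, rfl⟩ := hS t ht
  exact ⟨j, Finset.mem_range.2 hj, by rw [sig, dif_pos hj]⟩

theorem parabolic_eq_parJ (J : Finset ℕ) :
    P.parabolic (repSet r nrep J) = parJ (bnData P) (sig P r nrep hn) J := by
  rw [parabolic_eq_par P (repSet_subset P r nrep hn J)]
  unfold parJ
  apply par_congr
  ext w
  constructor
  · rintro ⟨s, ⟨j, hjJ, hj, rfl⟩, hs, rfl⟩
    exact ⟨⟨j, hjJ, by rw [sig, dif_pos hj]⟩, (mem_bnS P).2 ⟨nrep j, hs, rfl⟩⟩
  · rintro ⟨⟨j, hjJ, rfl⟩, hw⟩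
    by_cases hj : j < r
    · rw [sig, dif_pos hj]
      exact ⟨nrep j, ⟨j, hjJ, hj, rfl⟩, hn j hj, rfl⟩
    · exfalso
      rw [sig, dif_neg hj] at hw
      exact (bnData P).ne_one_of_mem_S hw rfl

theorem stFun_eq_sum : stFun P r nrep = ∑ J ∈ (Finset.range r).powerset,
    ((-1 : ℂ) ^ J.card) • Cfsg.fixedPointCharacter (P.parabolic (repSet r nrep J)) := by
  funext g
  rw [Finset.sum_apply]
  rfl

include hn hS in
/-- The alternating sum has norm one. -/
theorem classInner_stFun [Fintype G] :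
    Cfsg.classInner (stFun P r nrep) (stFun P r nrep) = 1 := by
  classical
  rw [stFun_eq_sum, classInner_sum_left]
  have key := sum_doubleCoset (bnData P) (I := Finset.range r) (σ := sig P r nrep hn)
    (sig_mem P r nrep hn) (sig_surj P r nrep hn hS)
  have key' := congrArg (Int.cast : ℤ → ℂ) key
  push_cast at key'
  refine Eq.trans ?_ key'
  apply Finset.sum_congr rfl
  intro K _
  rw [classInner_sum_right]
  apply Finset.sum_congr rfl
  intro J _
  rw [classInner_smul_left, classInner_smul_right, PermChar.classInner_fixedPointCharacter,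
    parabolic_eq_parJ P r nrep hn K, parabolic_eq_parJ P r nrep hn J]
  have hc : conj ((-1 : ℂ) ^ J.card) = (-1) ^ J.card := by simp
  rw [hc]
  ring

theorem isGenChar_stFun [Fintype G] : Cfsg.IsGeneralizedCharacter G (stFun P r nrep) := by
  rw [stFun_eq_sum]
  apply isGenChar_sum
  intro J _
  rcases neg_one_pow_eq_or ℂ J.card with h | h
  · rw [h, one_smul]
    exact isGenChar_of_isCharacter (PermChar.isCharacter_fixedPointCharacter _)
  · rw [h, neg_one_smul]
    exact isGenChar_neg (isGenChar_of_isCharacter (PermChar.isCharacter_fixedPointCharacter _))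

include hn hS in
/-- The value of the alternating sum on `B`. -/
theorem stFun_apply_B [Finite G] {n₀ : G}
    (hn₀ : ∀ j < r, ∃ x ∈ doubleCoset (nrep j) (P.B : Set G) P.B, n₀⁻¹ * x * n₀ ∈ P.B)
    {b : G} (hb : b ∈ P.B) (T : Subgroup P.B)
    (hT : ∀ β : P.B, β ∈ T ↔ n₀⁻¹ * (β : G) * n₀ ∈ P.B) :
    stFun P r nrep b = Cfsg.fixedPointCharacter T (⟨b, hb⟩ : P.B) := by
  have E := exW_of_tits (bnData P)
  have hL : ∀ s ∈ (bnData P).S,
      wlen (bnData P).S (s * typ (bnData P) n₀) < wlen (bnData P).S (typ (bnData P) n₀) := by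
    intro s hs
    obtain ⟨t, ht, rfl⟩ := (mem_bnS P).1 hs
    obtain ⟨j, hj, rfl⟩ := hS t ht
    obtain ⟨x, hx, hxn⟩ := hn₀ j hj
    by_contra hnot
    have hle : wlen (bnData P).S (typ (bnData P) n₀) ≤
        wlen (bnData P).S (bnπ P ⟨nrep j, P.subset ht⟩ * typ (bnData P) n₀) := by omega
    have hxC : x ∈ (bnData P).C (bnπ P ⟨nrep j, P.subset ht⟩) := by
      show x ∈ bnC P (bnπ P ⟨nrep j, P.subset ht⟩)
      rw [bnC_π]; exact hx
    have h1 := (bnData P).mul_sub_of_le hs hle hxC (mem_typ (bnData P) n₀)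
    have h2 : x * n₀ ∈ (bnData P).C (typ (bnData P) n₀) := by
      have e : x * n₀ = n₀ * (n₀⁻¹ * x * n₀) := by group
      rw [e]
      exact (bnData P).right_mul_mem_C (mem_typ (bnData P) n₀) hxn
    have h3 := (bnData P).eq_of_mem_of_mem h1 h2
    exact (bnData P).ne_one_of_mem_S hs (mul_eq_right.1 h3)
  obtain ⟨w, hwL, hwR⟩ := E.exists_longest
  have hw : typ (bnData P) n₀ = w := (hwL _).1 hL
  have hR : ∀ s ∈ (bnData P).S,
      wlen (bnData P).S (typ (bnData P) n₀ * s) < wlen (bnData P).S (typ (bnData P) n₀) := by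
    rw [hw]; exact (hwR w).2 rfl
  have key := sum_fixed (bnData P) (I := Finset.range r) (σ := sig P r nrep hn)
    (sig_mem P r nrep hn) (sig_surj P r nrep hn hS) hR (b := b) hb
  rw [card_fixed_cell (bnData P) (mem_typ (bnData P) n₀) hb T hT] at key
  have key' := congrArg (Int.cast : ℤ → ℂ) key
  push_cast at key'
  unfold stFun Cfsg.fixedPointCharacter
  refine Eq.trans ?_ key'
  apply Finset.sum_congr rfl
  intro J _
  rw [parabolic_eq_parJ P r nrep hn J]

end BN

end Cfsg.Agent.Lib.Helper3.StCh
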