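import Mathlib
import Cfsg.Prelude.Def_ChevStructure
import Cfsg.Prelude.Def_ParabolicCharacters
import Cfsg.Agent.Lib.Helper3.ChevAut10
import Cfsg.Agent.Lib.Helper3.StCh5
set_option autoImplicit false
set_option linter.unusedSectionVars false
set_option linter.unusedVariables false
set_option linter.style.haveILetI false
open Cfsg Cfsg.Lie

/-!
Steinberg character, part 6: the Steinberg character of a Chevalley group as the alternating sum
attached to its (B,N)-pair; its norm and its values on `B`.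
-/

namespace Cfsg.Agent.Lib.Helper3.StCh

open Cfsg.Agent.Lib.Helper3.ChevM Cfsg.Agent.Lib.Helper3.ChevSp Cfsg.Agent.Lib.Helper3 ChevU ChevT
open Cfsg.Agent.Lib.Helper3.ChevAt Cfsg.Agent.Lib.Helper3.ChevAut Cfsg.Agent.Lib.Helper1
open DoubleCoset

theorem closure_subgroupOf {Γ : Type*} [Group Γ] (H : Subgroup Γ) (X : Set Γ) (hX : X ⊆ H) :
    (Subgroup.closure X).subgroupOf H = Subgroup.closure (H.subtype ⁻¹' X) := by
  have h1 : H.subtype '' (H.subtype ⁻¹' X) = X := by
    apply Set.image_preimage_eq_of_subset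
    intro x hx
    exact ⟨⟨x, hX hx⟩, rfl⟩
  have h2 : Subgroup.closure X = (Subgroup.closure (H.subtype ⁻¹' X)).map H.subtype := by
    rw [MonoidHom.map_closure, h1]
  rw [h2]
  exact Subgroup.comap_map_eq_self_of_injective H.subtype_injective _

section
variable {K : Type*} [Field K] {C : CDatum} {R : RelData C} (Y : AutHyp C R)

/-- The representatives of the fundamental reflections. -/
noncomputable def nrep (R : RelData C) (K : Type*) [Field K] (j : ℕ) : ↥(C.D.group K) :=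
  if h : j < C.D.rank then sI R K j h else 1

/-- The (B,N)-pair. -/
noncomputable abbrev bnP : Cfsg.BNPair ↥(C.D.group K) := Y.A.U.K.bnPair (F := K) Y.A.B

theorem nrep_mem (j : ℕ) (hj : j < C.D.rank) : nrep R K j ∈ (bnP (K := K) Y).S := by
  rw [nrep, dif_pos hj]
  exact sI_mem_S Y.A j hj

theorem nrep_surj (s : ↥(C.D.group K)) (hs : s ∈ (bnP (K := K) Y).S) :
    ∃ j < C.D.rank, nrep R K j = s := by
  obtain ⟨j, hj, rfl⟩ := exists_sI_of_mem_S Y.A s hs
  exact ⟨j, hj, by rw [nrep, dif_pos hj]⟩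

theorem parabolicIn_eq (J : Finset ℕ) :
    C.D.parabolicIn K J = (bnP (K := K) Y).parabolic (repSet C.D.rank (nrep R K) J) := by
  have hBG : C.D.borelSubgroup K ≤ C.D.group K := borel_le_group Y.A
  have hNG : C.D.monomialSubgroup K ≤ C.D.group K := R.monomialSubgroup_le_group
  have hX : {g : GL C.D.Idx K | ∃ j ∈ (↑J : Set ℕ), j < C.D.rank ∧
      (g : Matrix C.D.Idx C.D.Idx K) = C.D.nMat K (C.D.simple j) 1} ⊆ C.D.group K := by
    rintro g ⟨j, -, hj, hg⟩
    have : g = R.nU (C.D.simple j) 1 := Units.ext (by rw [hg, R.nU_val])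
    rw [this]
    exact hNG (R.nU_simple_mem j hj)
  unfold ChevalleyDatum.parabolicIn ChevalleyDatum.parabolicSubgroup BNPair.parabolic
  rw [Subgroup.subgroupOf_sup hBG ((Subgroup.closure_le _).2 hX), closure_subgroupOf _ _ hX]
  congr 1
  congr 1
  ext n
  constructor
  · rintro ⟨j, hjJ, hj, hn⟩
    refine ⟨j, hjJ, hj, ?_⟩
    rw [nrep, dif_pos hj]
    apply Subtype.ext
    apply Units.ext
    exact hn.trans (R.nU_val _ _).symm
  · rintro ⟨j, hjJ, hj, rfl⟩
    refine ⟨j, hjJ, hj, ?_⟩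
    rw [nrep, dif_pos hj]
    exact R.nU_val _ _

theorem steinberg_eq_stFun :
    C.D.steinbergCharacter K = stFun (bnP (K := K) Y) C.D.rank (nrep R K) := by
  funext g
  unfold ChevalleyDatum.steinbergCharacter stFun
  apply Finset.sum_congr rfl
  intro J _
  rw [parabolicIn_eq Y J]

include Y in
/-- The Steinberg character has norm one. -/
theorem classInner_steinberg [Fintype ↥(C.D.group K)] :
    Cfsg.classInner (C.D.steinbergCharacter K) (C.D.steinbergCharacter K) = 1 := by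
  rw [steinberg_eq_stFun Y]
  exact classInner_stFun _ _ _ (nrep_mem Y) (nrep_surj Y)

include Y in
theorem isGenChar_steinberg [Fintype ↥(C.D.group K)] :
    Cfsg.IsGeneralizedCharacter ↥(C.D.group K) (C.D.steinbergCharacter K) := by
  rw [steinberg_eq_stFun Y]
  exact isGenChar_stFun _ _ _

/-- The element `n₀` representing the longest element of the Weyl group. -/
noncomputable def n0 : ↥(C.D.group K) :=
  ⟨R.nWordU Y.w0, R.monomialSubgroup_le_group (R.nWordU_mem Y.w0 Y.w0l)⟩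

theorem n0_desc (j : ℕ) (hj : j < C.D.rank) :
    ∃ x ∈ doubleCoset (nrep R K j) ((bnP (K := K) Y).B : Set ↥(C.D.group K)) (bnP (K := K) Y).B,
      (n0 (K := K) Y)⁻¹ * x * n0 Y ∈ (bnP (K := K) Y).B := by
  have hPB : (bnP (K := K) Y).B = (C.D.borelSubgroup K).subgroupOf (C.D.group K) := rfl
  have hBG : C.D.borelSubgroup K ≤ C.D.group K := borel_le_group Y.A
  have hUB : C.D.posUnipotent K ≤ C.D.borelSubgroup K := le_sup_left
  have hHB : C.D.diagonalSubgroup K ≤ C.D.borelSubgroup K := le_sup_right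
  have hVG := negUnipotent_le_group (K := K) Y.A
  set α := C.D.simple j with hα
  have hαpos : C.D.IsPosRoot α := simple_pos Y.A j hj
  have hxV : R.xU (C.D.neg α) (1 : K) ∈ C.D.negUnipotent K :=
    xU_mem_neg Y.A _ (neg_simple_neg Y.A j hj) _
  have hxU : R.xU α (1 : K) ∈ C.D.posUnipotent K := xU_mem_pos Y.A α hαpos 1
  have hsq : R.nU α (1 : K) * R.nU α 1 ∈ C.D.diagonalSubgroup K := R.nU_sq_mem _ hαpos.1
  have hb2 : (R.nU α (1 : K) * R.nU α 1)⁻¹ * R.xU α 1 ∈ C.D.borelSubgroup K :=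
    Subgroup.mul_mem _ (hHB (Subgroup.inv_mem _ hsq)) (hUB hxU)
  have hid : R.xU (C.D.neg α) (1 : K) =
      R.xU α 1 * R.nU α 1 * ((R.nU α (1 : K) * R.nU α 1)⁻¹ * R.xU α 1) := by
    have h1 := R.nU_eq (F := K) α (-1)
    have e1 : -(-1 : K)⁻¹ = 1 := by rw [inv_neg, inv_one, neg_neg]
    rw [e1] at h1
    have h2 : R.xU (C.D.neg α) (1 : K) = (R.xU α (-1))⁻¹ * R.nU α (-1) * (R.xU α (-1))⁻¹ := by
      rw [h1]; group
    rw [h2, R.xU_inv, neg_neg, ← R.nU_inv α 1]
    group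
  refine ⟨⟨R.xU (C.D.neg α) 1, hVG hxV⟩, ?_, ?_⟩
  · rw [mem_doubleCoset]
    refine ⟨⟨R.xU α 1, hBG (hUB hxU)⟩, ?_, ⟨_, hBG hb2⟩, ?_, ?_⟩
    · rw [SetLike.mem_coe, hPB, Subgroup.mem_subgroupOf]; exact hUB hxU
    · rw [SetLike.mem_coe, hPB, Subgroup.mem_subgroupOf]; exact hb2
    · apply Subtype.ext
      rw [nrep, dif_pos hj]
      exact hid
  · rw [hPB, Subgroup.mem_subgroupOf]
    have hmap := map_conj_w0 (K := K) Y.A Y.w0 Y.w0l Y.w0neg'
    rw [← hmap] at hxV
    obtain ⟨u, hu, e⟩ := hxV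
    change R.nWordU Y.w0 * u * (R.nWordU Y.w0)⁻¹ = _ at e
    have e2 : (((n0 (K := K) Y)⁻¹ * ⟨R.xU (C.D.neg α) 1, hVG (by rw [← hmap]; exact ⟨u, hu, e⟩)⟩ *
        n0 Y : ↥(C.D.group K)) : GL C.D.Idx K) = u := by
      show (R.nWordU Y.w0)⁻¹ * R.xU (C.D.neg α) 1 * R.nWordU Y.w0 = u
      rw [← e]; group
    rw [e2]
    exact hUB hu

theorem n0_T (β : ↥((C.D.borelSubgroup K).subgroupOf (C.D.group K))) :
    β ∈ ((C.D.diagonalSubgroup K).subgroupOf (C.D.group K)).subgroupOf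
        ((C.D.borelSubgroup K).subgroupOf (C.D.group K)) ↔
      (n0 (K := K) Y)⁻¹ * (β : ↥(C.D.group K)) * n0 Y ∈
        (C.D.borelSubgroup K).subgroupOf (C.D.group K) := by
  have hHB : C.D.diagonalSubgroup K ≤ C.D.borelSubgroup K := le_sup_right
  have hn₀N : R.nWordU (F := K) Y.w0 ∈ C.D.monomialSubgroup K := R.nWordU_mem Y.w0 Y.w0l
  have hmap := map_conj_w0 (K := K) Y.A Y.w0 Y.w0l Y.w0neg'
  rw [Subgroup.mem_subgroupOf, Subgroup.mem_subgroupOf, Subgroup.mem_subgroupOf]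
  show ((β : ↥(C.D.group K)) : GL C.D.Idx K) ∈ C.D.diagonalSubgroup K ↔
    (R.nWordU Y.w0)⁻¹ * ((β : ↥(C.D.group K)) : GL C.D.Idx K) * R.nWordU Y.w0 ∈ C.D.borelSubgroup K
  set b : GL C.D.Idx K := ((β : ↥(C.D.group K)) : GL C.D.Idx K) with hb
  have hbB : b ∈ C.D.borelSubgroup K := β.2
  constructor
  · intro h
    have := Y.A.B.mono.conj_mem (R.nWordU Y.w0)⁻¹ (Subgroup.inv_mem _ hn₀N) b h
    rw [inv_inv] at this
    exact hHB this
  · intro h
    rw [← borel_inf_negBorel Y.A]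
    refine ⟨hbB, ?_⟩
    have hle : (C.D.borelSubgroup K).map (MulAut.conj (R.nWordU Y.w0)).toMonoidHom ≤
        negBorel C.D K := by
      unfold ChevalleyDatum.borelSubgroup negBorel
      rw [Subgroup.map_sup, hmap]
      apply sup_le_sup_left
      rintro _ ⟨x, hx, rfl⟩
      show MulAut.conj (R.nWordU Y.w0) x ∈ _
      rw [MulAut.conj_apply]
      exact Y.A.B.mono.conj_mem _ hn₀N x hx
    apply hle
    refine ⟨_, h, ?_⟩
    show MulAut.conj (R.nWordU Y.w0) _ = b
    rw [MulAut.conj_apply]; group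

include Y in
/-- The restriction of the Steinberg character to `B`. -/
theorem steinberg_apply_B [Finite K]
    (b : ↥((C.D.borelSubgroup K).subgroupOf (C.D.group K))) :
    C.D.steinbergCharacter K (((C.D.borelSubgroup K).subgroupOf (C.D.group K)).subtype b) =
      Cfsg.fixedPointCharacter (((C.D.diagonalSubgroup K).subgroupOf (C.D.group K)).subgroupOf
        ((C.D.borelSubgroup K).subgroupOf (C.D.group K))) b := by
  have : Finite ↥(C.D.group K) := inferInstance
  rw [steinberg_eq_stFun Y]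
  exact stFun_apply_B (bnP (K := K) Y) C.D.rank (nrep R K) (nrep_mem Y) (nrep_surj Y)
    (n₀ := n0 Y) (n0_desc Y) (b := (b : ↥(C.D.group K))) b.2 _ (n0_T Y)

end

end Cfsg.Agent.Lib.Helper3.StCh
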