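import Mathlib
import Cfsg.Prelude.Def_ChevStructure
import Cfsg.Agent.Lib.Helper3.ChevAut10
import Cfsg.Agent.Lib.Helper3.ChevL3
import Cfsg.Agent.Lib.Helper3.ChevH2
import Cfsg.Agent.Lib.Helper3.StCh6
import Cfsg.Agent.Lib.Helper3.CharP4
import Cfsg.Agent.Lib.Helper1.BNPar
set_option autoImplicit false
set_option linter.unusedSectionVars false
set_option linter.unusedVariables false
open Cfsg Cfsg.Lie

/-!
The generalized Fitting subgroup of a proper standard parabolic subgroup of a Chevalley group, part 1: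
the abstract criterion, the filtration of `U` by the matrices of the root elements, and the characters
of the diagonal subgroup.
-/

namespace Cfsg.Agent.Lib.Helper3.PJFit

open Cfsg.Agent.Lib.Helper3.ChevM Cfsg.Agent.Lib.Helper3 ChevU ChevT ChevH
open Cfsg.Agent.Lib.Lead

section abstract

variable {N : Type*} [Group N] [Finite N] {p : ℕ} [hp : Fact p.Prime]

/-- If a normal `p`-subgroup `Q` has a centralizer that is a `p`-group, then `F*(N)` is a `p`-group. -/
theorem isPGroup_genFit_of_centralizer (Q : Subgroup N) [Q.Normal] (hQ : IsPGroup p Q)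
    (hC : IsPGroup p (Subgroup.centralizer (Q : Set N))) :
    IsPGroup p (Cfsg.generalizedFittingSubgroup N) := by
  have h1 : Q ≤ Cfsg.pCore p N := le_pCore inferInstance hQ
  have hY : Subgroup.centralizer (Cfsg.pCore p N : Set N) ≤ Subgroup.centralizer (Q : Set N) :=
    Subgroup.centralizer_le h1
  have hF : IsPGroup p (Cfsg.generalizedFittingSubgroup (Subgroup.centralizer (Q : Set N))) :=
    hC.to_subgroup _
  rw [generalizedFittingSubgroup_eq_pCore_of_centralizer_le _ hY hF]
  exact pCore_isPGroup p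

/-- A group mapping injectively into a `p`-subgroup is a `p`-group. -/
theorem isPGroup_of_map_mem {G : Type*} [Group G] (U : Subgroup G) (hU : IsPGroup p U) {A : Type*} [Group A]
    (f : A →* G) (hf : Function.Injective f) (h : ∀ a, f a ∈ U) : IsPGroup p A := by
  intro a
  obtain ⟨k, hk⟩ := hU ⟨f a, h a⟩
  refine ⟨k, hf ?_⟩
  rw [map_pow, map_one]
  have := congrArg Subtype.val hk
  simpa using this

end abstract

section filtration

variable {K : Type*} [Field K] {C : CDatum} {R : RelData C} (U : UHyp C R)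
include U

theorem fr_pos (r : ℕ) (hr : C.D.IsPosRoot r) : 0 < U.fr r := by
  have h := U.lev r hr.1
  simp only [levelCheck, hr, decide_true, Bool.not_true, Bool.false_or, Bool.and_eq_true, decide_eq_true_eq] at h
  exact h.1

theorem fr_lt (r s : ℕ) (hr : C.D.IsPosRoot r) (hs : C.D.IsPosRoot s) (h : r < s) : U.fr r < U.fr s := by
  have := U.frm r hr.1
  simp only [frCheck, hr, decide_true, Bool.not_true, Bool.false_or, List.all_eq_true, Bool.or_eq_true,
    Bool.not_eq_true', decide_eq_false_iff_not, decide_eq_true_eq] at this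
  rcases this s ((mem_posRoots C.D s).mpr hs) with h1 | h1
  · exact absurd h h1
  · exact h1

theorem posUnipotent_le_ut0 : C.D.posUnipotent K ≤ utSubgroup (hfIdx C.D U.hf) K 0 := by
  unfold ChevalleyDatum.posUnipotent
  rw [Subgroup.closure_le]
  rintro g ⟨r, t, hr, hg⟩
  have e : g = R.xU r t := Units.ext (by rw [hg, R.xU_val])
  rw [e]
  exact utSubgroup_anti _ (Nat.zero_le _) (R.xU_mem_ut U.hf U.fr r hr (U.lev r hr.1) t)

/-- Conjugation by an element of `U` does not change the coefficient of a root element. -/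
theorem conj_same (u : GL C.D.Idx K) (hu : u ∈ C.D.posUnipotent K) (r : ℕ) (hr : C.D.IsPosRoot r) (a b : K)
    (h : u * R.xU r a * u⁻¹ = R.xU r b) : a = b := by
  have h1 := commutator_mem_utSubgroup (posUnipotent_le_ut0 U hu) (R.xU_mem_ut U.hf U.fr r hr (U.lev r hr.1) a)
  rw [h, R.xU_inv, R.xU_add] at h1
  have h0 := fr_pos U r hr
  have e : 0 + (U.fr r - 1) + 1 = U.fr r := by omega
  rw [e] at h1
  have := R.eq_zero_of_mem_ut U.hf U.fr U.wj U.wi r hr (U.wit r hr.1) _ h1
  linear_combination -this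

/-- A root element is not conjugate under `U` to a root element of a higher root. -/
theorem conj_lt (u : GL C.D.Idx K) (hu : u ∈ C.D.posUnipotent K) (r r' : ℕ) (hr : C.D.IsPosRoot r)
    (hr' : C.D.IsPosRoot r') (hlt : r < r') (a η : K)
    (h : u * R.xU r a * u⁻¹ = R.xU r' η) : a = 0 := by
  have h1 := commutator_mem_utSubgroup (posUnipotent_le_ut0 U hu) (R.xU_mem_ut U.hf U.fr r hr (U.lev r hr.1) a)
  have h0 := fr_pos U r hr
  have e : 0 + (U.fr r - 1) + 1 = U.fr r := by omega
  rw [e, h] at h1
  have h2 : R.xU r' η ∈ utSubgroup (hfIdx C.D U.hf) K (U.fr r) :=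
    utSubgroup_anti _ (by have := fr_lt U r r' hr hr' hlt; omega)
      (R.xU_mem_ut U.hf U.fr r' hr' (U.lev r' hr'.1) η)
  have h3 : R.xU r a ∈ utSubgroup (hfIdx C.D U.hf) K (U.fr r) := by
    have e2 : R.xU r a = (R.xU r' η * (R.xU r a)⁻¹)⁻¹ * R.xU r' η := by group
    rw [e2]
    exact Subgroup.mul_mem _ (Subgroup.inv_mem _ h1) h2
  exact R.eq_zero_of_mem_ut U.hf U.fr U.wj U.wi r hr (U.wit r hr.1) _ h3

/-- Root elements of distinct positive roots with non-zero coefficients are not conjugate under `U`. -/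
theorem conj_ne (u : GL C.D.Idx K) (hu : u ∈ C.D.posUnipotent K) (r r' : ℕ) (hr : C.D.IsPosRoot r)
    (hr' : C.D.IsPosRoot r') (hne : r ≠ r') (a η : K) (ha : a ≠ 0) (hη : η ≠ 0)
    (h : u * R.xU r a * u⁻¹ = R.xU r' η) : False := by
  rcases Nat.lt_or_gt_of_ne hne with hlt | hlt
  · exact ha (conj_lt U u hu r r' hr hr' hlt a η h)
  · have h' : u⁻¹ * R.xU r' η * (u⁻¹)⁻¹ = R.xU r a := by rw [← h]; group
    exact hη (conj_lt U u⁻¹ (Subgroup.inv_mem _ hu) r' r hr' hr hlt η a h')

end filtration

section chars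

variable {K : Type*} [Field K] {C : CDatum} (R : RelData C)

/-- The value at the root `s` of the character of `∏ h_{p_i}(c_i)`. -/
def chi (D : ChevalleyDatum) (c : ℕ → K) (s : ℕ) : K := ((List.range D.rank).map fun i => c i ^ D.cartan i s).prod

theorem chi_ne_zero (D : ChevalleyDatum) (c : ℕ → K) (hc : ∀ i < D.rank, c i ≠ 0) (s : ℕ) : chi D c s ≠ 0 := by
  unfold chi
  apply List.prod_ne_zero
  simp only [List.mem_map, List.mem_range, not_exists, not_and]
  intro i hi h0
  exact zpow_ne_zero _ (hc i hi) h0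

theorem chi_add (D : ChevalleyDatum) (c : ℕ → K) (hc : ∀ i < D.rank, c i ≠ 0) (r s t : ℕ)
    (h : ∀ a < D.rank, D.cartan a t = D.cartan a r + D.cartan a s) : chi D c t = chi D c r * chi D c s := by
  unfold chi
  rw [← List.prod_map_mul]
  congr 1
  apply List.map_congr_left
  intro a ha
  rw [List.mem_range] at ha
  rw [h a ha, zpow_add₀ (hc a ha)]

include R in
/-- A character trivial on the fundamental roots is trivial. -/
theorem chi_all (vec : ℕ → ℕ → ℤ) (hvec : ∀ i < C.D.rank, ∀ s < C.D.nroots, vecCheck C.D vec i s = true)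
    (c : ℕ → K) (hc : ∀ i < C.D.rank, c i ≠ 0)
    (hs : ∀ j < C.D.rank, chi C.D c (C.D.simple j) = 1) : ∀ s < C.D.nroots, chi C.D c s = 1 := by
  intro s hsl
  let c' : Fin C.D.rank → Kˣ := fun i => Units.mk0 (c i.val) (hc i.val i.isLt)
  have hk : c' ∈ (pw (cartanMat C.D) : (Fin C.D.rank → Kˣ) →* (Fin C.D.rank → Kˣ)).ker := by
    rw [MonoidHom.mem_ker]
    funext j
    rw [pw_apply]
    apply Units.ext
    rw [Units.coe_prod]
    have := hs j.val j.isLt
    unfold chi at this
    rw [list_range_prod_eq] at this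
    simp only [cartanMat, Matrix.of_apply, Units.val_zpow_eq_zpow_val, c', Units.val_mk0, Pi.one_apply, Units.val_one]
    exact this
  rw [← R.ker_rootChar vec hvec, MonoidHom.mem_ker] at hk
  have h1 := congrFun hk ⟨s, hsl⟩
  have h2 := congrArg Units.val h1
  unfold chi
  rw [list_range_prod_eq]
  simpa [rootChar, Units.coe_prod, c'] using h2

end chars

end Cfsg.Agent.Lib.Helper3.PJFit
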