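import Mathlib
import Cfsg.Prelude.Def_ChevStructure
import Cfsg.Agent.Lib.Helper3.PJFit1
set_option autoImplicit false
set_option linter.unusedSectionVars false
set_option linter.unusedVariables false
set_option linter.style.haveILetI false
open Cfsg Cfsg.Lie

/-!
The generalized Fitting subgroup of a proper standard parabolic subgroup of a Chevalley group, part 2:
the centralizer of `U_J` in `P_J` lies in `U`.
-/

namespace Cfsg.Agent.Lib.Helper3.PJFit

open Cfsg.Agent.Lib.Helper3.ChevM Cfsg.Agent.Lib.Helper3.ChevSp Cfsg.Agent.Lib.Helper3 ChevU ChevT ChevH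
open Cfsg.Agent.Lib.Helper3.ChevAt Cfsg.Agent.Lib.Helper3.ChevAut Cfsg.Agent.Lib.Helper3.StCh
open Cfsg.Agent.Lib.Helper1 DoubleCoset

/-- For `j ≠ i`: a positive root involving `p_i` that the reflection in `p_j` moves to another positive root. -/
def moveCheck (D : ChevalleyDatum) (refl : ℕ → ℕ → ℕ) (j i : ℕ) : Bool :=
  decide (j = i) || (List.range D.nroots).any fun r =>
    decide (D.IsPosRoot r) && decide ((D.coroot.getD r #[]).getD i 0 ≠ 0) &&
    decide (refl j r ≠ r) && decide (D.IsPosRoot (refl j r))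

/-- For `j ≠ i`: positive roots `r` and `r + p_j` involving `p_i`. -/
def addCheck (D : ChevalleyDatum) (j i : ℕ) : Bool :=
  decide (j = i) || (List.range D.nroots).any fun r =>
    decide (D.IsPosRoot r) && decide ((D.coroot.getD r #[]).getD i 0 ≠ 0) &&
    match D.chainRoot (D.simple j) r 1 with
    | none => false
    | some r' => decide (D.IsPosRoot r') && decide ((D.coroot.getD r' #[]).getD i 0 ≠ 0) &&
        (List.range D.rank).all fun a => decide (D.cartan a r' = D.cartan a r + D.cartan a (D.simple j))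

/-- The fundamental root `p_j` is positive and involves itself. -/
def nzCheck (D : ChevalleyDatum) (j : ℕ) : Bool :=
  decide (D.IsPosRoot (D.simple j)) && decide ((D.coroot.getD (D.simple j) #[]).getD j 0 ≠ 0)

theorem moveCheck_spec {D : ChevalleyDatum} {refl : ℕ → ℕ → ℕ} {j i : ℕ} (h : moveCheck D refl j i = true)
    (hji : j ≠ i) :
    ∃ r, D.IsPosRoot r ∧ (D.coroot.getD r #[]).getD i 0 ≠ 0 ∧ refl j r ≠ r ∧ D.IsPosRoot (refl j r) := by
  simp only [moveCheck, Bool.or_eq_true, decide_eq_true_eq, List.any_eq_true, List.mem_range,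
    Bool.and_eq_true] at h
  rcases h with h | ⟨r, -, ⟨⟨h1, h2⟩, h3⟩, h4⟩
  · exact absurd h hji
  · exact ⟨r, h1, h2, h3, h4⟩

theorem addCheck_spec {D : ChevalleyDatum} {j i : ℕ} (h : addCheck D j i = true) (hji : j ≠ i) :
    ∃ r r', D.IsPosRoot r ∧ (D.coroot.getD r #[]).getD i 0 ≠ 0 ∧ D.IsPosRoot r' ∧
      (D.coroot.getD r' #[]).getD i 0 ≠ 0 ∧
      ∀ a < D.rank, D.cartan a r' = D.cartan a r + D.cartan a (D.simple j) := by
  simp only [addCheck, Bool.or_eq_true, decide_eq_true_eq, List.any_eq_true, List.mem_range,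
    Bool.and_eq_true] at h
  rcases h with h | ⟨r, -, ⟨h1, h2⟩, h3⟩
  · exact absurd h hji
  · cases hc : D.chainRoot (D.simple j) r 1 with
    | none => rw [hc] at h3; exact absurd h3 (by simp)
    | some r' =>
      rw [hc] at h3
      simp only [Bool.and_eq_true, decide_eq_true_eq, List.all_eq_true, List.mem_range] at h3
      exact ⟨r, r', h1, h2, h3.1.1, h3.1.2, h3.2⟩

section abstract

variable {G : Type*} [Group G] (P Q B : Subgroup G)

theorem conj_mem_cent (hPN : P ≤ Subgroup.normalizer (Q : Set G)) (b x : G) (hb : b ∈ P)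
    (hx : x ∈ P ⊓ Subgroup.centralizer (Q : Set G)) :
    b * x * b⁻¹ ∈ P ⊓ Subgroup.centralizer (Q : Set G) := by
  refine ⟨P.mul_mem (P.mul_mem hb hx.1) (P.inv_mem hb), ?_⟩
  show b * x * b⁻¹ ∈ Subgroup.centralizer (Q : Set G)
  rw [Subgroup.mem_centralizer_iff]
  intro q hq
  have hq' : b⁻¹ * q * b ∈ Q := by
    have := hPN (P.inv_mem hb)
    rw [Subgroup.mem_normalizer_iff] at this
    have h2 := (this q).mp hq
    rwa [inv_inv] at h2
  have h3 := (Subgroup.mem_centralizer_iff.mp hx.2) _ hq'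
  have e1 : q * (b * x * b⁻¹) = b * ((b⁻¹ * q * b) * x) * b⁻¹ := by group
  have e2 : b * x * b⁻¹ * q = b * (x * (b⁻¹ * q * b)) * b⁻¹ := by group
  rw [e1, e2, h3]

theorem mem_mul_of_mem_sup (hPN : P ≤ Subgroup.normalizer (Q : Set G)) (hBP : B ≤ P) (n : G)
    (hn : n ∈ (P ⊓ Subgroup.centralizer (Q : Set G)) ⊔ B) :
    ∃ c ∈ P ⊓ Subgroup.centralizer (Q : Set G), ∃ b ∈ B, c * b = n := by
  have hBC : B ≤ Subgroup.normalizer ((P ⊓ Subgroup.centralizer (Q : Set G) : Subgroup G) : Set G) := by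
    intro b hb
    rw [Subgroup.mem_normalizer_iff]
    intro x
    constructor
    · intro hx
      exact conj_mem_cent P Q hPN b x (hBP hb) hx
    · intro hx
      have := conj_mem_cent P Q hPN b⁻¹ _ (P.inv_mem (hBP hb)) hx
      have e : b⁻¹ * (b * x * b⁻¹) * b⁻¹⁻¹ = x := by group
      rwa [e] at this
  have hset := Subgroup.coe_mul_of_right_le_normalizer_left (P ⊓ Subgroup.centralizer (Q : Set G)) B hBC
  have hn' : n ∈ (((P ⊓ Subgroup.centralizer (Q : Set G)) ⊔ B : Subgroup G) : Set G) := hn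
  rw [hset, Set.mem_mul] at hn'
  obtain ⟨c, hc, b, hb, e⟩ := hn'
  exact ⟨c, hc, b, hb, e⟩

end abstract

section main

variable {K : Type*} [Field K] {C : CDatum} {R : RelData C}

theorem not_inRootSub (J : Set ℕ) {r i : ℕ} (hi : i < C.D.rank) (hiJ : i ∉ J)
    (h : (C.D.coroot.getD r #[]).getD i 0 ≠ 0) : ¬ C.D.InRootSub J r :=
  fun hin => h (hin.2 i hi hiJ)

theorem unipotentRadical_le_posUnipotent (J : Set ℕ) : C.D.unipotentRadical K J ≤ C.D.posUnipotent K := by
  apply Subgroup.closure_mono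
  rintro g ⟨r, t, h1, -, h3⟩
  exact ⟨r, t, h1, h3⟩

theorem borel_le_parabolic (J : Set ℕ) : C.D.borelSubgroup K ≤ C.D.parabolicSubgroup K J := le_sup_left

theorem posUnipotent_le_parabolic (J : Set ℕ) : C.D.posUnipotent K ≤ C.D.parabolicSubgroup K J :=
  le_sup_of_le_left le_sup_left

include R in
theorem diag_conj (hdec : ∀ r < C.D.nroots, ∀ s < C.D.nroots, hdecCheck C.D R.pair r s = true)
    (h : GL C.D.Idx K) (hh : h ∈ C.D.diagonalSubgroup K) :
    ∃ c : ℕ → K, (∀ i < C.D.rank, c i ≠ 0) ∧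
      (h : Matrix C.D.Idx C.D.Idx K) = Matrix.diagonal (R.torusExp c) ∧
      ∀ s < C.D.nroots, ∀ t : K, h * R.xU s t * h⁻¹ = R.xU s (chi C.D c s * t) := by
  obtain ⟨c, hc, hd, key⟩ := R.diagonal_mul_x hdec h hh
  refine ⟨c, hc, hd, fun s hs t => ?_⟩
  apply Units.ext
  rw [Units.val_mul, Units.val_mul, R.xU_val, R.xU_val, key s hs t, mul_assoc, ← Units.val_mul, mul_inv_cancel,
    Units.val_one, mul_one]
  rfl

include R in
theorem borel_mem (hdec : ∀ r < C.D.nroots, ∀ s < C.D.nroots, hdecCheck C.D R.pair r s = true)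
    (b : GL C.D.Idx K) (hb : b ∈ C.D.borelSubgroup K) :
    ∃ u ∈ C.D.posUnipotent K, ∃ h ∈ C.D.diagonalSubgroup K, b = u * h := by
  have hHU : C.D.diagonalSubgroup K ≤ Subgroup.normalizer (C.D.posUnipotent K : Set (GL C.D.Idx K)) :=
    R.diagonal_le_normalizer_closure hdec (fun s => C.D.IsPosRoot s) (fun s hs => hs.1)
  have hBset := Subgroup.coe_mul_of_right_le_normalizer_left (C.D.posUnipotent K) (C.D.diagonalSubgroup K) hHU
  have hb' : b ∈ ((C.D.posUnipotent K ⊔ C.D.diagonalSubgroup K : Subgroup (GL C.D.Idx K)) :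
      Set (GL C.D.Idx K)) := hb
  rw [hBset, Set.mem_mul] at hb'
  obtain ⟨u, hu, h, hh, e⟩ := hb'
  exact ⟨u, hu, h, hh, e.symm⟩

variable (Y : AutHyp C R) (L : LeviHyp C R) (J : Set ℕ)
include Y L

/-- The representative of a fundamental reflection in `J` is not in `C_{P_J}(U_J) B`. -/
theorem nU_not_mem (hmove : ∀ j < C.D.rank, ∀ i < C.D.rank, moveCheck C.D R.refl j i = true)
    (hJ : ∃ i, i < C.D.rank ∧ i ∉ J) (j : ℕ) (hj : j < C.D.rank) (hjJ : j ∈ J) :
    R.nU (C.D.simple j) (1 : K) ∉ (C.D.parabolicSubgroup K J ⊓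
      Subgroup.centralizer (C.D.unipotentRadical K J : Set (GL C.D.Idx K))) ⊔ C.D.borelSubgroup K := by
  intro hn
  have hPN : C.D.parabolicSubgroup K J ≤ Subgroup.normalizer (C.D.unipotentRadical K J : Set (GL C.D.Idx K)) :=
    L.parabolic_le_normalizer Y.A.U.K J
  have hBP : C.D.borelSubgroup K ≤ C.D.parabolicSubgroup K J := le_sup_left
  obtain ⟨i, hi, hiJ⟩ := hJ
  have hji : j ≠ i := fun e => hiJ (e ▸ hjJ)
  obtain ⟨r, hr, hri, hne, hr'⟩ := moveCheck_spec (hmove j hj i hi) hji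
  have hrQ : ∀ t : K, R.xU r t ∈ C.D.unipotentRadical K J := fun t =>
    Subgroup.subset_closure ⟨r, t, hr, not_inRootSub J hi hiJ hri, R.xU_val r t⟩
  obtain ⟨c, hc, b, hb, hcb⟩ := mem_mul_of_mem_sup _ _ _ hPN hBP _ hn
  obtain ⟨u, hu, h, hh, rfl⟩ := borel_mem (R := R) Y.A.B.dec b hb
  obtain ⟨cc, hcc, -, hconj⟩ := diag_conj (R := R) Y.A.B.dec h hh
  have hy : (u * h) * R.xU r 1 * (u * h)⁻¹ ∈ C.D.unipotentRadical K J := by
    have := hPN (hBP hb)
    rw [Subgroup.mem_normalizer_iff] at this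
    exact (this _).mp (hrQ 1)
  have e1 := (Subgroup.mem_centralizer_iff.mp hc.2) _ hy
  have ec : c = R.nU (C.D.simple j) 1 * (u * h)⁻¹ := by rw [← hcb]; group
  have e2 : R.nU (C.D.simple j) (1 : K) * R.xU r 1 * (R.nU (C.D.simple j) (1 : K))⁻¹ =
      (u * h) * R.xU r 1 * (u * h)⁻¹ := by
    rw [ec] at e1
    have e3 : R.nU (C.D.simple j) (1 : K) * R.xU r 1 * (R.nU (C.D.simple j) (1 : K))⁻¹ =
        (R.nU (C.D.simple j) (1 : K) * (u * h)⁻¹ * ((u * h) * R.xU r 1 * (u * h)⁻¹)) * (u * h) *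
          (R.nU (C.D.simple j) (1 : K))⁻¹ := by group
    rw [e3, ← e1]
    group
  rw [R.conj_units (R.conjRel (F := K) j hj) _ (R.nU_val _ _) r hr.1 1] at e2
  have e4 : (u * h) * R.xU r 1 * (u * h)⁻¹ = u * (h * R.xU r 1 * h⁻¹) * u⁻¹ := by group
  rw [e4, hconj r hr.1 1] at e2
  have hη : ((R.eta j r : ℤ) : K) * 1 ≠ 0 := by
    rcases R.eta_sign j hj r hr.1 with h1 | h1 <;> rw [h1] <;> simp
  exact conj_ne Y.A.U u hu r (R.refl j r) hr hr' (Ne.symm hne) _ _
    (mul_ne_zero (chi_ne_zero _ _ hcc _) one_ne_zero) hη e2.symm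

end main

end Cfsg.Agent.Lib.Helper3.PJFit
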