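import Mathlib
import Cfsg.Prelude.Def_ChevStructure
import Cfsg.Agent.Lib.Helper3.PJFit2
set_option autoImplicit false
set_option linter.unusedSectionVars false
set_option linter.unusedVariables false
set_option linter.style.haveILetI false
open Cfsg Cfsg.Lie

/-!
The generalized Fitting subgroup of a proper standard parabolic subgroup of a Chevalley group, part 3:
`C_{P_J}(U_J) ≤ U`, and the generalized Fitting subgroup of `P_J` is a `p`-group.
-/

namespace Cfsg.Agent.Lib.Helper3.PJFit

open Cfsg.Agent.Lib.Helper3.ChevM Cfsg.Agent.Lib.Helper3.ChevSp Cfsg.Agent.Lib.Helper3 ChevU ChevT ChevH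
open Cfsg.Agent.Lib.Helper3.ChevAt Cfsg.Agent.Lib.Helper3.ChevAut Cfsg.Agent.Lib.Helper3.StCh
open Cfsg.Agent.Lib.Helper1 DoubleCoset

section main

variable {K : Type*} [Field K] {C : CDatum} {R : RelData C}

/-- The representatives indexed by a set. -/
def repS (R : RelData C) (K : Type*) [Field K] (J : Set ℕ) : Set ↥(C.D.group K) :=
  {n | ∃ j ∈ J, j < C.D.rank ∧ n = nrep R K j}

variable (Y : AutHyp C R) (L : LeviHyp C R) (J : Set ℕ)

theorem repS_subset : repS R K J ⊆ (bnP (K := K) Y).S := by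
  rintro n ⟨j, -, hj, rfl⟩
  exact nrep_mem Y j hj

include Y in
theorem parabolic_le_group : C.D.parabolicSubgroup K J ≤ C.D.group K := by
  have hBG : C.D.borelSubgroup K ≤ C.D.group K := borel_le_group Y.A
  refine sup_le hBG ?_
  rw [Subgroup.closure_le]
  rintro g ⟨j, -, hj, hg⟩
  have : g = R.nU (C.D.simple j) 1 := Units.ext (by rw [hg, R.nU_val])
  rw [this]
  exact R.monomialSubgroup_le_group (R.nU_simple_mem j hj)

theorem parabolic_subgroupOf_eq :
    (C.D.parabolicSubgroup K J).subgroupOf (C.D.group K) = (bnP (K := K) Y).parabolic (repS R K J) := by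
  have hBG : C.D.borelSubgroup K ≤ C.D.group K := borel_le_group Y.A
  have hNG : C.D.monomialSubgroup K ≤ C.D.group K := R.monomialSubgroup_le_group
  have hX : {g : GL C.D.Idx K | ∃ j ∈ J, j < C.D.rank ∧
      (g : Matrix C.D.Idx C.D.Idx K) = C.D.nMat K (C.D.simple j) 1} ⊆ C.D.group K := by
    rintro g ⟨j, -, hj, hg⟩
    have : g = R.nU (C.D.simple j) 1 := Units.ext (by rw [hg, R.nU_val])
    rw [this]
    exact hNG (R.nU_simple_mem j hj)
  unfold ChevalleyDatum.parabolicSubgroup BNPair.parabolic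
  rw [Subgroup.subgroupOf_sup hBG ((Subgroup.closure_le _).2 hX), closure_subgroupOf _ _ hX]
  congr 1
  congr 1
  ext n
  constructor
  · rintro ⟨j, hjJ, hj, hn⟩
    refine ⟨j, hjJ, hj, ?_⟩
    rw [nrep, dif_pos hj]
    apply Subtype.ext
    apply Units.ext
    exact hn.trans (R.nU_val _ _).symm
  · rintro ⟨j, hjJ, hj, rfl⟩
    refine ⟨j, hjJ, hj, ?_⟩
    rw [nrep, dif_pos hj]
    exact R.nU_val _ _

include Y L in
/-- `C_{P_J}(U_J) ≤ B`. -/
theorem cent_le_borel (hmove : ∀ j < C.D.rank, ∀ i < C.D.rank, moveCheck C.D R.refl j i = true)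
    (hJ : ∃ i, i < C.D.rank ∧ i ∉ J) :
    C.D.parabolicSubgroup K J ⊓ Subgroup.centralizer (C.D.unipotentRadical K J : Set (GL C.D.Idx K)) ≤
      C.D.borelSubgroup K := by
  have hBP : C.D.borelSubgroup K ≤ C.D.parabolicSubgroup K J := le_sup_left
  have hPG := parabolic_le_group (K := K) Y J
  have hMP : (C.D.parabolicSubgroup K J ⊓
      Subgroup.centralizer (C.D.unipotentRadical K J : Set (GL C.D.Idx K))) ⊔ C.D.borelSubgroup K ≤
        C.D.parabolicSubgroup K J := sup_le inf_le_left hBP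
  have hM' : (bnP (K := K) Y).B ≤ ((C.D.parabolicSubgroup K J ⊓
      Subgroup.centralizer (C.D.unipotentRadical K J : Set (GL C.D.Idx K))) ⊔
        C.D.borelSubgroup K).subgroupOf (C.D.group K) := by
    show (C.D.borelSubgroup K).subgroupOf (C.D.group K) ≤ _
    exact Subgroup.comap_mono le_sup_right
  have h1 := eq_parabolic_of_le (bnP (K := K) Y) _ hM'
  have hempty : {s | s ∈ (bnP (K := K) Y).S ∧ s ∈ ((C.D.parabolicSubgroup K J ⊓
      Subgroup.centralizer (C.D.unipotentRadical K J : Set (GL C.D.Idx K))) ⊔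
        C.D.borelSubgroup K).subgroupOf (C.D.group K)} = ∅ := by
    rw [Set.eq_empty_iff_forall_notMem]
    rintro s ⟨hs, hsM⟩
    have hsP : s ∈ (bnP (K := K) Y).parabolic (repS R K J) := by
      rw [← parabolic_subgroupOf_eq Y J]
      exact Subgroup.mem_subgroupOf.mpr (hMP (Subgroup.mem_subgroupOf.mp hsM))
    obtain ⟨j, hjJ, hj, rfl⟩ := mem_of_mem_parabolic (bnP (K := K) Y) (repS_subset Y J) hs hsP
    have hmem := Subgroup.mem_subgroupOf.mp hsM
    rw [nrep, dif_pos hj] at hmem
    exact nU_not_mem Y L J hmove hJ j hj hjJ hmem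
  rw [hempty] at h1
  have h2 : ((C.D.parabolicSubgroup K J ⊓
      Subgroup.centralizer (C.D.unipotentRadical K J : Set (GL C.D.Idx K))) ⊔
        C.D.borelSubgroup K).subgroupOf (C.D.group K) = (C.D.borelSubgroup K).subgroupOf (C.D.group K) := by
    rw [h1]
    unfold BNPair.parabolic
    rw [Subgroup.closure_empty, sup_bot_eq]
    rfl
  intro c hc
  have hcM : c ∈ (C.D.parabolicSubgroup K J ⊓
      Subgroup.centralizer (C.D.unipotentRadical K J : Set (GL C.D.Idx K))) ⊔ C.D.borelSubgroup K :=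
    Subgroup.mem_sup_left hc
  have hcG : c ∈ C.D.group K := hPG (hMP hcM)
  have h3 : (⟨c, hcG⟩ : ↥(C.D.group K)) ∈ ((C.D.parabolicSubgroup K J ⊓
      Subgroup.centralizer (C.D.unipotentRadical K J : Set (GL C.D.Idx K))) ⊔
        C.D.borelSubgroup K).subgroupOf (C.D.group K) := Subgroup.mem_subgroupOf.mpr hcM
  rw [h2] at h3
  exact Subgroup.mem_subgroupOf.mp h3

include Y L in
/-- `C_{P_J}(U_J) ≤ U`. -/
theorem cent_le_posUnipotent (hmove : ∀ j < C.D.rank, ∀ i < C.D.rank, moveCheck C.D R.refl j i = true)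
    (hadd : ∀ j < C.D.rank, ∀ i < C.D.rank, addCheck C.D j i = true)
    (hnz : ∀ j < C.D.rank, nzCheck C.D j = true)
    (vec : ℕ → ℕ → ℤ) (hvec : ∀ i < C.D.rank, ∀ s < C.D.nroots, vecCheck C.D vec i s = true)
    (hJ : ∃ i, i < C.D.rank ∧ i ∉ J) :
    C.D.parabolicSubgroup K J ⊓ Subgroup.centralizer (C.D.unipotentRadical K J : Set (GL C.D.Idx K)) ≤
      C.D.posUnipotent K := by
  intro c hc
  have hcB := cent_le_borel Y L J hmove hJ hc
  obtain ⟨u, hu, h, hh, rfl⟩ := borel_mem (R := R) Y.A.B.dec c hcB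
  obtain ⟨cc, hcc, hdiag, hconj⟩ := diag_conj (R := R) Y.A.B.dec h hh
  -- the character is trivial on the roots outside the subsystem
  have hout : ∀ r, C.D.IsPosRoot r → ¬ C.D.InRootSub J r → chi C.D cc r = 1 := by
    intro r hr hnot
    have hx : R.xU r (1 : K) ∈ C.D.unipotentRadical K J :=
      Subgroup.subset_closure ⟨r, 1, hr, hnot, R.xU_val r 1⟩
    have e1 := (Subgroup.mem_centralizer_iff.mp hc.2) _ hx
    have e2 : u * (h * R.xU r 1 * h⁻¹) * u⁻¹ = R.xU r 1 := by
      have e3 : u * (h * R.xU r 1 * h⁻¹) * u⁻¹ = (u * h * R.xU r 1) * (u * h)⁻¹ := by group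
      rw [e3, ← e1]
      group
    rw [hconj r hr.1 1] at e2
    have := conj_same Y.A.U u hu r hr _ _ e2
    rwa [mul_one] at this
  obtain ⟨i, hi, hiJ⟩ := hJ
  have hsimple : ∀ j < C.D.rank, chi C.D cc (C.D.simple j) = 1 := by
    intro j hj
    by_cases hjJ : j ∈ J
    · have hji : j ≠ i := fun e => hiJ (e ▸ hjJ)
      obtain ⟨r, r', hr, hri, hr', hri', hcart⟩ := addCheck_spec (hadd j hj i hi) hji
      have h1 := hout r hr (not_inRootSub J hi hiJ hri)
      have h2 := hout r' hr' (not_inRootSub J hi hiJ hri')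
      have h3 := chi_add C.D cc hcc r (C.D.simple j) r' hcart
      rw [h1, h2, one_mul] at h3
      exact h3.symm
    · have := hnz j hj
      simp only [nzCheck, Bool.and_eq_true, decide_eq_true_eq] at this
      exact hout _ this.1 (not_inRootSub J hj hjJ this.2)
  have hall := chi_all R vec hvec cc hcc hsimple
  have hone : h = 1 := by
    apply Units.ext
    rw [hdiag, Units.val_one, ← Matrix.diagonal_one]
    congr 1
    funext k
    rcases k with k | s
    · rw [R.torusExp_inl]
    · rw [R.torusExp_inr]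
      exact hall s.val s.isLt
  rw [hone, mul_one]
  exact hu

end main

section final

variable {K : Type*} [Field K] [Fintype K] {C : CDatum} {R : RelData C}

theorem genFit_isPGroup (Y : AutHyp C R) (L : LeviHyp C R) (p : ℕ) [Fact p.Prime] [CharP K p]
    (hcard : Nat.card (C.D.posUnipotent K) = Fintype.card K ^ (C.D.nroots / 2))
    (hmove : ∀ j < C.D.rank, ∀ i < C.D.rank, moveCheck C.D R.refl j i = true)
    (hadd : ∀ j < C.D.rank, ∀ i < C.D.rank, addCheck C.D j i = true)
    (hnz : ∀ j < C.D.rank, nzCheck C.D j = true)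
    (vec : ℕ → ℕ → ℤ) (hvec : ∀ i < C.D.rank, ∀ s < C.D.nroots, vecCheck C.D vec i s = true)
    (J : Set ℕ) (hJ : ∃ i, i < C.D.rank ∧ i ∉ J) :
    IsPGroup p ↥(Cfsg.generalizedFittingSubgroup ↥(C.D.parabolicSubgroup K J)) := by
  classical
  have hU : IsPGroup p (C.D.posUnipotent K) := by
    obtain ⟨n, -, hn⟩ := FiniteField.card K p
    apply IsPGroup.of_card (n := (n : ℕ) * (C.D.nroots / 2))
    rw [hcard, hn, pow_mul]
  have hPN : C.D.parabolicSubgroup K J ≤ Subgroup.normalizer (C.D.unipotentRadical K J : Set (GL C.D.Idx K)) :=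
    L.parabolic_le_normalizer Y.A.U.K J
  have hQP : C.D.unipotentRadical K J ≤ C.D.parabolicSubgroup K J :=
    (unipotentRadical_le_posUnipotent J).trans (posUnipotent_le_parabolic J)
  haveI : ((C.D.unipotentRadical K J).subgroupOf (C.D.parabolicSubgroup K J)).Normal :=
    (Subgroup.normal_subgroupOf_iff_le_normalizer hQP).mpr hPN
  have hcent := cent_le_posUnipotent (K := K) Y L J hmove hadd hnz vec hvec hJ
  apply isPGroup_genFit_of_centralizer ((C.D.unipotentRadical K J).subgroupOf (C.D.parabolicSubgroup K J))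
  · apply isPGroup_of_map_mem (C.D.posUnipotent K) hU
      ((C.D.parabolicSubgroup K J).subtype.comp
        ((C.D.unipotentRadical K J).subgroupOf (C.D.parabolicSubgroup K J)).subtype)
    · intro a b hab
      exact Subtype.ext (Subtype.ext hab)
    · intro a
      exact unipotentRadical_le_posUnipotent J (Subgroup.mem_subgroupOf.mp a.2)
  · apply isPGroup_of_map_mem (C.D.posUnipotent K) hU
      ((C.D.parabolicSubgroup K J).subtype.comp
        (Subgroup.centralizer (((C.D.unipotentRadical K J).subgroupOf (C.D.parabolicSubgroup K J) :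
          Subgroup ↥(C.D.parabolicSubgroup K J)) : Set ↥(C.D.parabolicSubgroup K J))).subtype)
    · intro a b hab
      exact Subtype.ext (Subtype.ext hab)
    · intro a
      apply hcent
      refine ⟨a.1.2, ?_⟩
      show ((a : ↥(C.D.parabolicSubgroup K J)) : GL C.D.Idx K) ∈ Subgroup.centralizer _
      rw [Subgroup.mem_centralizer_iff]
      intro q hq
      have h1 := (Subgroup.mem_centralizer_iff.mp a.2) ⟨q, hQP hq⟩ (Subgroup.mem_subgroupOf.mpr hq)
      exact congrArg Subtype.val h1

end final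

end Cfsg.Agent.Lib.Helper3.PJFit
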