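import Mathlib
import Cfsg.Prelude.Def_ChevStructure
import Cfsg.Agent.Lib.Helper3.BT4
import Cfsg.Agent.Lib.Helper3.PJFit3
import Cfsg.Agent.Lib.Helper1.BNPar
set_option autoImplicit false
set_option linter.unusedSectionVars false
open Cfsg Cfsg.Lie

/-! The theorem of Borel and Tits for the Chevalley groups: the normalizer of a non-trivial `p`-subgroup lies in a
proper parabolic subgroup whose unipotent radical contains the subgroup. -/

namespace Cfsg.Agent.Lib.Helper3.BT

open Cfsg.Agent.Lib.Helper3.ChevM Cfsg.Agent.Lib.Helper3 ChevT ChevH ChevU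
open Cfsg.Agent.Lib.Helper3.ChevAut Cfsg.Agent.Lib.Helper3.ChevAt Cfsg.Agent.Lib.Helper3.StCh
open Cfsg.Agent.Lib.Helper3.PJFit Cfsg.Agent.Lib.Helper1
open scoped RealInnerProductSpace

section
variable {K : Type*} [Field K] {C : CDatum} {R : RelData C} (Y : AutHyp C R) {L : LeviHyp C R}
  {E : Type*} [NormedAddCommGroup E] [InnerProductSpace ℝ E] [CompleteSpace E] (X : EucHyp L E)

/-- The abstract setting of the optimal level vector for a Chevalley group. -/
noncomputable def kHyp : KHyp (C.D.group K) (wtI C.D L.vec X.av) where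
  B := C.D.borelSubgroup K
  N := C.D.monomialSubgroup K
  hBG := borel_le_group Y.A
  hNG := R.monomialSubgroup_le_group
  r := C.D.rank
  a := X.av
  ρ := X.ρ
  c := fun i => 2 / ⟪X.av i, X.av i⟫
  σ := fun i => (ℝ ∙ X.av i)ᗮ.reflection
  nS := fun i => R.nU (C.D.simple i.val) 1
  hσ := fun i y => refl_formula _ _
  hc := fun i => div_pos two_pos (X.hpos i)
  hρ := fun i => lt_of_lt_of_le one_pos (X.hρ i)
  hnS := fun i => ⟨R.nU_simple_mem i.val i.isLt, X.graded_nU i, by
    rw [Submodule.reflection_symm]; exact X.graded_nU_inv i⟩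
  hB := fun b hb y hy => borel_rshift L X.av y hy b hb
  hN := fun n hn => X.graded_monomial Y.A.B.mono n hn
  bruhat := by
    intro g hg
    obtain ⟨b, hb, n, hn, u, hu, e⟩ :=
      (Y.A.U.bruhat_normal_form (F := K) Y.A.B Y.A.ntri (fun r hr => signCheck_or (Y.A.sign r hr))).1 g hg
    exact ⟨b, hb, n, hn, u, le_sup_left (a := C.D.posUnipotent K) (uMinus_le_posUnipotent C.D n hu), e⟩

end

open scoped Pointwise in
/-- A `p`-subgroup is conjugate to a subgroup of a given Sylow `p`-subgroup. -/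
theorem exists_conj_le_of_sylow {G₀ : Type*} [Group G₀] (G U V : Subgroup G₀) [Finite G] (p : ℕ) [Fact p.Prime]
    (hsyl : ∃ P : Sylow p ↥G, (P : Subgroup ↥G) = U.subgroupOf G) (hVG : V ≤ G) (hV : IsPGroup p ↥V) :
    ∃ g ∈ G, ∀ v ∈ V, g * v * g⁻¹ ∈ U := by
  obtain ⟨P, hP⟩ := hsyl
  have hH : IsPGroup p ↥(V.subgroupOf G) := hV.comap_of_injective G.subtype G.subtype_injective
  obtain ⟨Q, hQ⟩ := hH.exists_le_sylow
  obtain ⟨x, hx⟩ := MulAction.exists_smul_eq ↥G Q P
  refine ⟨x.val, x.2, fun v hv => ?_⟩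
  have h1 : (⟨v, hVG hv⟩ : ↥G) ∈ (Q : Subgroup ↥G) := hQ (Subgroup.mem_subgroupOf.mpr hv)
  have h2 : MulAut.conj x • (⟨v, hVG hv⟩ : ↥G) ∈ MulAut.conj x • (Q : Subgroup ↥G) :=
    Subgroup.smul_mem_pointwise_smul _ _ _ h1
  have h3 : MulAut.conj x • (Q : Subgroup ↥G) = ((x • Q : Sylow p ↥G) : Subgroup ↥G) := by
    rw [Sylow.smul_def, Sylow.pointwise_smul_def]
  rw [h3, hx, hP, Subgroup.mem_subgroupOf] at h2
  simpa [MulAut.smul_def] using h2

section main
variable {K : Type*} [Field K] {C : CDatum} {R : RelData C} (Y : AutHyp C R) {L : LeviHyp C R}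
  {E : Type*} [NormedAddCommGroup E] [InnerProductSpace ℝ E] (X : EucHyp L E)

/-- The subgroup `U` raises the levels of `ρ` by at least one. -/
theorem posUnipotent_le_rut_rho :
    C.D.posUnipotent K ≤ rutSubgroup (posE (wtI C.D L.vec X.av) X.ρ) K 1 zero_le_one := by
  unfold ChevalleyDatum.posUnipotent
  rw [Subgroup.closure_le]
  rintro g ⟨r, t, hpos, hg⟩
  show RShift _ 1 ((g : Matrix C.D.Idx C.D.Idx K) - 1)
  rw [hg]
  have h1 := X.one_le_inner_rho hpos
  exact (rshift_x X.av hpos.1 (L.wt r hpos.1) t X.ρ (by linarith)).mono h1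

/-- The unipotent radical attached to the walls of a dominant vector raises its levels strictly. -/
theorem unipotentRadical_le_sut (y : E) (hy : ∀ i, 0 ≤ ⟪X.av i, y⟫) (J : Set ℕ)
    (hJ : ∀ i : Fin C.D.rank, i.val ∉ J → 0 < ⟪X.av i, y⟫) :
    C.D.unipotentRadical K J ≤ sutSubgroup (posE (wtI C.D L.vec X.av) y) K := by
  unfold ChevalleyDatum.unipotentRadical
  rw [Subgroup.closure_le]
  rintro g ⟨r, t, hpos, hnot, hg⟩
  show SShift _ ((g : Matrix C.D.Idx C.D.Idx K) - 1)
  rw [hg]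
  have h1 := inner_wtV_pos L X.av hpos y hy J hJ hnot
  exact (rshift_x X.av hpos.1 (L.wt r hpos.1) t y (le_of_lt h1)).sshift h1

/-- The Levi subgroup attached to the walls of a vector preserves its levels. -/
theorem levi_le_gr0 (y : E) (J : Set ℕ) (hJ : ∀ i : Fin C.D.rank, i.val ∈ J → ⟪X.av i, y⟫ = 0) :
    C.D.leviSubgroup K J ≤ gr0Subgroup (posE (wtI C.D L.vec X.av) y) K := by
  unfold ChevalleyDatum.leviSubgroup
  refine sup_le (diagonal_le_gr0 L X.av y) ?_
  rw [Subgroup.closure_le]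
  rintro g ⟨r, t, hin, hg⟩
  show g ∈ gr0Subgroup _ K
  rw [mem_gr0Subgroup_iff]
  intro i j hij
  by_contra hne
  have hij' : i ≠ j := by
    rintro rfl
    exact hij rfl
  have hne' : (C.D.x K r t - 1) i j ≠ 0 := by
    rw [Matrix.sub_apply, Matrix.one_apply_ne hij', sub_zero, ← hg]
    exact hne
  obtain ⟨d, -, h⟩ := x_entry_pos X.av hin.1 (L.wt r hin.1) t i j hne' y
  rw [inner_wtV_eq_zero L X.av y J hJ hin, mul_zero, add_zero] at h
  exact hij h

theorem cj_normalizer {G₀ : Type*} [Group G₀] (V : Subgroup G₀) (x : G₀)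
    (hx : x ∈ Subgroup.normalizer (V : Set G₀)) : (fun v => x * v * x⁻¹) '' (V : Set G₀) = (V : Set G₀) := by
  ext v
  constructor
  · rintro ⟨w, hw, rfl⟩
    exact (Subgroup.mem_normalizer_iff.mp hx w).mp hw
  · intro hv
    refine ⟨x⁻¹ * v * x, ?_, by group⟩
    apply (Subgroup.mem_normalizer_iff.mp hx _).mpr
    have : x * (x⁻¹ * v * x) * x⁻¹ = v := by group
    rw [this]
    exact hv

end main

end Cfsg.Agent.Lib.Helper3.BT
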