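import Mathlib
import Cfsg.Prelude.Def_ChevStructure
import Cfsg.Agent.Lib.Helper3.BT5
set_option autoImplicit false
set_option linter.unusedSectionVars false
open Cfsg Cfsg.Lie

/-! The theorem of Borel and Tits for the Chevalley groups (generic part). -/

namespace Cfsg.Agent.Lib.Helper3.BT

open Cfsg.Agent.Lib.Helper3.ChevM Cfsg.Agent.Lib.Helper3 ChevT ChevH ChevU
open Cfsg.Agent.Lib.Helper3.ChevAut Cfsg.Agent.Lib.Helper3.ChevAt Cfsg.Agent.Lib.Helper3.StCh
open Cfsg.Agent.Lib.Helper3.PJFit Cfsg.Agent.Lib.Helper1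
open scoped RealInnerProductSpace

section main
variable {K : Type*} [Field K] [Fintype K] {C : CDatum} {R : RelData C} (Y : AutHyp C R) {L : LeviHyp C R}
  {E : Type*} [NormedAddCommGroup E] [InnerProductSpace ℝ E] [CompleteSpace E] (X : EucHyp L E)

include Y in
/-- The elements of the group preserving the filtration of a dominant vector form the parabolic subgroup of its
walls. -/
theorem stab_eq_parabolic (y : E) (hdom : ∀ i, 0 ≤ ⟪X.av i, y⟫) (x : GL C.D.Idx K) (hx : x ∈ C.D.group K)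
    (hxs : RShift (posE (wtI C.D L.vec X.av) y) 0 (x : Matrix C.D.Idx C.D.Idx K)) :
    x ∈ C.D.parabolicSubgroup K {j | ∃ h : j < C.D.rank, ⟪X.av ⟨j, h⟩, y⟫ = 0} := by
  classical
  set wt := wtI C.D L.vec X.av with hwt
  set J : Set ℕ := {j | ∃ h : j < C.D.rank, ⟪X.av ⟨j, h⟩, y⟫ = 0} with hJ
  let P' : Subgroup ↥(C.D.group K) :=
    { carrier := {x | RShift (posE wt y) 0 ((x : GL C.D.Idx K) : Matrix C.D.Idx C.D.Idx K)}
      mul_mem' := by
        intro a b ha hb
        simp only [Set.mem_ofPred_eq, Subgroup.coe_mul, Units.val_mul] at *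
        have := ha.mul hb
        rwa [zero_add] at this
      one_mem' := by
        simp only [Set.mem_ofPred_eq, Subgroup.coe_one, Units.val_one]
        exact rshift_zero_one
      inv_mem' := by
        intro a ha
        simp only [Set.mem_ofPred_eq, Subgroup.coe_inv] at *
        exact RShift.inv ha }
  have hBP : (bnP (K := K) Y).B ≤ P' := by
    intro b hb
    have hb' : (b : GL C.D.Idx K) ∈ C.D.borelSubgroup K := Subgroup.mem_subgroupOf.mp hb
    exact borel_rshift L X.av y hdom b.val hb'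
  have hP'eq := eq_parabolic_of_le (bnP (K := K) Y) P' hBP
  have hset : {s | s ∈ (bnP (K := K) Y).S ∧ s ∈ P'} = repS R K J := by
    ext s
    constructor
    · rintro ⟨hsS, hsP⟩
      obtain ⟨j, hj, rfl⟩ := exists_sI_of_mem_S Y.A s hsS
      refine ⟨j, ⟨hj, ?_⟩, hj, by rw [nrep, dif_pos hj]⟩
      have hsP' : RShift (posE wt y) 0 (C.D.nMat K (C.D.simple j) 1) := by
        have : RShift (posE wt y) 0 (((sI R K j hj : ↥(C.D.group K)) : GL C.D.Idx K) : Matrix C.D.Idx C.D.Idx K) := hsP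
        rwa [show ((sI R K j hj : ↥(C.D.group K)) : GL C.D.Idx K) = R.nU (C.D.simple j) 1 from rfl, R.nU_val] at this
      rw [R.nMat_simple j hj] at hsP'
      have hs := R.simple_lt j hj
      have hn := R.neg_lt _ hs
      by_contra hne0
      have hpos : 0 < ⟪X.av ⟨j, hj⟩, y⟫ := lt_of_le_of_ne (hdom ⟨j, hj⟩) (Ne.symm hne0)
      have hlt : posE wt y (Sum.inr ⟨C.D.neg (C.D.simple j), hn⟩) < posE wt y (Sum.inr ⟨C.D.simple j, hs⟩) + 0 := by
        unfold posE
        rw [hwt, wtI_inr, wtI_inr, X.wtV_neg _ hs, X.wtV_simple ⟨j, hj⟩, inner_neg_left]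
        linarith
      have hz := hsP' _ _ hlt
      have hrefl : C.D.reflectRoot j (C.D.simple j) = C.D.neg (C.D.simple j) := by
        unfold ChevalleyDatum.reflectRoot
        simp
      simp only [nMatrix, Matrix.of_apply, Sum.elim_inr, hrefl, if_true, (R.etaSimple j hj).1] at hz
      simp at hz
    · rintro ⟨j, ⟨hj', hjJ⟩, hj, rfl⟩
      refine ⟨nrep_mem Y j hj, ?_⟩
      rw [nrep, dif_pos hj]
      show RShift (posE wt y) 0 (((sI R K j hj : ↥(C.D.group K)) : GL C.D.Idx K) : Matrix C.D.Idx C.D.Idx K)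
      rw [show ((sI R K j hj : ↥(C.D.group K)) : GL C.D.Idx K) = R.nU (C.D.simple j) 1 from rfl]
      apply rshift_of_graded_fix (ℝ ∙ X.av ⟨j, hj⟩)ᗮ.reflection (X.graded_nU ⟨j, hj⟩)
      rw [refl_formula, hjJ]
      simp
  have hPJ : P' = (C.D.parabolicSubgroup K J).subgroupOf (C.D.group K) := by
    rw [hP'eq, hset, parabolic_subgroupOf_eq Y J]
  have hxP : (⟨x, hx⟩ : ↥(C.D.group K)) ∈ P' := hxs
  rw [hPJ, Subgroup.mem_subgroupOf] at hxP
  exact hxP

include Y X in
/-- The theorem of Borel and Tits. -/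
theorem borel_tits (p : ℕ) [Fact p.Prime]
    (hsyl : ∃ P : Sylow p ↥(C.D.group K),
      (P : Subgroup ↥(C.D.group K)) = (C.D.posUnipotent K).subgroupOf (C.D.group K))
    (V : Subgroup (GL C.D.Idx K)) (hVG : V ≤ C.D.group K) (hV : IsPGroup p ↥V) (hne : V ≠ ⊥) :
    ∃ g ∈ C.D.group K, ∃ J : Set ℕ, (∃ i, i < C.D.rank ∧ i ∉ J) ∧
      Subgroup.normalizer (V : Set (GL C.D.Idx K)) ⊓ C.D.group K ≤
        (C.D.parabolicSubgroup K J).map (MulAut.conj g).toMonoidHom ∧
      V ≤ (C.D.unipotentRadical K J).map (MulAut.conj g).toMonoidHom := by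
  classical
  have hfin : ((C.D.group K : Subgroup (GL C.D.Idx K)) : Set (GL C.D.Idx K)).Finite := Set.toFinite _
  -- a conjugate of `V` in `U` is admissible for `ρ`
  obtain ⟨g₀, hg₀, hg₀U⟩ := exists_conj_le_of_sylow (C.D.group K) (C.D.posUnipotent K) V p hsyl hVG hV
  have h0 : ∃ g ∈ C.D.group K, (adm (wtI C.D L.vec X.av) (cj g (V : Set (GL C.D.Idx K)))).Nonempty := by
    refine ⟨g₀, hg₀, X.ρ, ?_⟩
    rintro g ⟨v, hv, rfl⟩
    exact posUnipotent_le_rut_rho X (hg₀U v hv)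
  obtain ⟨g, hg, y, hdom, hadm, hnorm⟩ := kempf (kHyp (K := K) Y X) hfin (V : Set (GL C.D.Idx K)) h0
  have hdom' : ∀ i, 0 ≤ ⟪X.av i, y⟫ := hdom
  set J : Set ℕ := {j | ∃ h : j < C.D.rank, ⟪X.av ⟨j, h⟩, y⟫ = 0} with hJ
  have hJ0 : ∀ i : Fin C.D.rank, i.val ∈ J → ⟪X.av i, y⟫ = 0 := by
    rintro i ⟨h, e⟩
    exact e
  have hJpos : ∀ i : Fin C.D.rank, i.val ∉ J → 0 < ⟪X.av i, y⟫ := by
    intro i hi
    refine lt_of_le_of_ne (hdom' i) (fun e => hi ⟨i.isLt, e.symm⟩)
  refine ⟨g⁻¹, (C.D.group K).inv_mem hg, J, ?_, ?_, ?_⟩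
  · -- the set of walls is proper
    by_contra hcon
    push Not at hcon
    have hzero : ∀ i : Fin C.D.rank, ⟪X.av i, y⟫ = 0 := fun i => hJ0 i (hcon i.val i.isLt)
    have hpos0 : ∀ j, posE (wtI C.D L.vec X.av) y j = 0 := by
      intro j
      show ⟪wtI C.D L.vec X.av j, y⟫ = 0
      unfold wtI wtC
      rw [sum_inner]
      apply Finset.sum_eq_zero
      intro a _
      rw [real_inner_smul_left, hzero a, mul_zero]
    apply hne
    rw [eq_bot_iff]
    intro v hv
    rw [Subgroup.mem_bot]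
    have h1 := hadm (g * v * g⁻¹) ⟨v, hv, rfl⟩
    have h2 : ((g * v * g⁻¹ : GL C.D.Idx K) : Matrix C.D.Idx C.D.Idx K) - 1 = 0 := by
      ext i j
      exact h1 i j (by rw [hpos0 i, hpos0 j]; norm_num)
    have h3 : g * v * g⁻¹ = 1 := Units.ext (by rw [Units.val_one]; exact sub_eq_zero.mp h2)
    have h4 : v = g⁻¹ * (g * v * g⁻¹) * g := by group
    rw [h4, h3]
    group
  · -- the normalizer
    rintro x₀ ⟨hx₀N, hx₀G⟩
    have hxG : g * x₀ * g⁻¹ ∈ C.D.group K :=
      (C.D.group K).mul_mem ((C.D.group K).mul_mem hg hx₀G) ((C.D.group K).inv_mem hg)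
    have hcj : cj (g * x₀ * g⁻¹) (cj g (V : Set (GL C.D.Idx K))) = cj g (V : Set (GL C.D.Idx K)) := by
      rw [cj_cj]
      have e : g * x₀ * g⁻¹ * g = g * x₀ := by group
      rw [e, ← cj_cj]
      congr 1
      exact cj_normalizer V x₀ hx₀N
    have hxs := hnorm _ hxG hcj
    have hxP := stab_eq_parabolic Y X y hdom' _ hxG hxs
    rw [Subgroup.mem_map]
    refine ⟨g * x₀ * g⁻¹, hxP, ?_⟩
    simp only [MulEquiv.coe_toMonoidHom, MulAut.conj_apply]
    group
  · -- the subgroup lies in the unipotent radical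
    intro v hv
    have hvG : g * v * g⁻¹ ∈ C.D.group K :=
      (C.D.group K).mul_mem ((C.D.group K).mul_mem hg (hVG hv)) ((C.D.group K).inv_mem hg)
    have h1 : RShift (posE (wtI C.D L.vec X.av) y) 1
        (((g * v * g⁻¹ : GL C.D.Idx K) : Matrix C.D.Idx C.D.Idx K) - 1) := hadm (g * v * g⁻¹) ⟨v, hv, rfl⟩
    have h0 : RShift (posE (wtI C.D L.vec X.av) y) 0 ((g * v * g⁻¹ : GL C.D.Idx K) : Matrix C.D.Idx C.D.Idx K) := by
      have := (h1.mono zero_le_one).add
        (rshift_zero_one (pos := posE (wtI C.D L.vec X.av) y) (R := K))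
      simpa using this
    have hP := stab_eq_parabolic Y X y hdom' _ hvG h0
    rw [← L.sup_eq_parabolic (F := K) J] at hP
    have hLN : C.D.leviSubgroup K J ≤
        Subgroup.normalizer (C.D.unipotentRadical K J : Set (GL C.D.Idx K)) := by
      refine le_trans ?_ (L.parabolic_le_normalizer (F := K) Y.A.U.K J)
      rw [← L.sup_eq_parabolic (F := K) J]
      exact le_sup_right
    rw [← SetLike.mem_coe, Subgroup.coe_mul_of_right_le_normalizer_left _ _ hLN] at hP
    obtain ⟨u, hu, l, hl, e⟩ := Set.mem_mul.mp hP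
    have hus := unipotentRadical_le_sut X y hdom' J hJpos hu
    have hvs : g * v * g⁻¹ ∈ sutSubgroup (posE (wtI C.D L.vec X.av) y) K := h1.sshift one_pos
    have hls : l ∈ sutSubgroup (posE (wtI C.D L.vec X.av) y) K := by
      have : l = u⁻¹ * (g * v * g⁻¹) := by rw [← e]; group
      rw [this]
      exact Subgroup.mul_mem _ (Subgroup.inv_mem _ hus) hvs
    have hl1 : l = 1 := eq_one_of_gr0_of_sut l (levi_le_gr0 X y J hJ0 hl) hls
    rw [hl1, mul_one] at e
    rw [Subgroup.mem_map]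
    refine ⟨g * v * g⁻¹, by rw [← e]; exact hu, ?_⟩
    simp only [MulEquiv.coe_toMonoidHom, MulAut.conj_apply]
    group

end main

end Cfsg.Agent.Lib.Helper3.BT
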