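import Mathlib
import Cfsg.Prelude.Def_ChevStructure
import Cfsg.Agent.Lib.Helper3.BT6
set_option autoImplicit false
set_option linter.unusedSectionVars false
open Cfsg Cfsg.Lie

/-! Euclidean realizations of root systems from integer coordinates. -/

namespace Cfsg.Agent.Lib.Helper3.BT

open Cfsg.Agent.Lib.Helper3.ChevM Cfsg.Agent.Lib.Helper3 ChevT ChevH
open scoped RealInnerProductSpace

/-- The integral inner product of two integer vectors of length `n`. -/
def ipZ (n : ℕ) (u v : ℕ → ℤ) : ℤ := ((List.range n).map fun k => u k * v k).sum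

/-- An integer vector as an element of Euclidean space. -/
noncomputable def iv (n : ℕ) (u : ℕ → ℤ) : EuclideanSpace ℝ (Fin n) := WithLp.toLp 2 fun k => (u k.val : ℝ)

theorem inner_iv (n : ℕ) (u v : ℕ → ℤ) : ⟪iv n u, iv n v⟫ = ((ipZ n u v : ℤ) : ℝ) := by
  rw [ipZ, list_range_sum_eq]
  simp only [iv, PiLp.inner_apply, RCLike.inner_apply, conj_trivial, Int.cast_sum, Int.cast_mul]
  exact Finset.sum_congr rfl fun k _ => mul_comm _ _

/-- Kernel-checkable form of the metric hypotheses of a Euclidean realization. -/
def eucCheck (D : ChevalleyDatum) (n : ℕ) (A : ℕ → ℕ → ℤ) (ρ : ℕ → ℤ) : Bool :=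
  (List.range D.rank).all fun i => decide (0 < ipZ n (A i) (A i)) && decide (1 ≤ ipZ n (A i) ρ) &&
    (List.range D.rank).all fun j =>
      decide (2 * ipZ n (A i) (A j) = D.cartan i (D.simple j) * ipZ n (A i) (A i))

/-- Kernel-checkable form of the statement that the fundamental roots have the standard coordinates. -/
def simpleCheck (D : ChevalleyDatum) (vec : ℕ → ℕ → ℤ) : Bool :=
  (List.range D.rank).all fun i => (List.range D.rank).all fun j =>
    decide (vec (D.simple i) j = if j = i then 1 else 0)

/-- A Euclidean realization from integer coordinates. -/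
noncomputable def eucOfInt {C : CDatum} {R : RelData C} (L : LeviHyp C R) (n : ℕ) (A : ℕ → ℕ → ℤ) (ρ : ℕ → ℤ)
    (h : eucCheck C.D n A ρ = true)
    (hvec : ∀ i < C.D.rank, ∀ s < C.D.nroots, vecCheck C.D L.vec i s = true)
    (hrv : ∀ i < C.D.rank, ∀ s < C.D.nroots, reflVecCheck2 C.D R.refl L.vec i s = true)
    (hsimple : simpleCheck C.D L.vec = true)
    (hht : ∀ r < C.D.nroots, htCheck C.D L.vec r = true) : EucHyp L (EuclideanSpace ℝ (Fin n)) where
  av := fun i => iv n (A i.val)
  ρ := iv n ρ
  hpos := by
    intro i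
    simp only [eucCheck, List.all_eq_true, List.mem_range, Bool.and_eq_true, decide_eq_true_eq] at h
    rw [inner_iv]
    exact_mod_cast (h i.val i.isLt).1.1
  hcart := by
    intro i j
    simp only [eucCheck, List.all_eq_true, List.mem_range, Bool.and_eq_true, decide_eq_true_eq] at h
    rw [inner_iv, inner_iv]
    exact_mod_cast (h i.val i.isLt).2 j.val j.isLt
  hρ := by
    intro i
    simp only [eucCheck, List.all_eq_true, List.mem_range, Bool.and_eq_true, decide_eq_true_eq] at h
    rw [inner_iv]
    exact_mod_cast (h i.val i.isLt).1.2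
  hvec := hvec
  hrv := hrv
  hsimple := by
    intro i hi j hj
    simp only [simpleCheck, List.all_eq_true, List.mem_range, decide_eq_true_eq] at hsimple
    exact hsimple i hi j hj
  hht := hht

end Cfsg.Agent.Lib.Helper3.BT
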