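import Mathlib
import Cfsg.Prelude.Def_ChevStructure
import Cfsg.Agent.Lib.Helper3.ChevAut10
import Cfsg.Agent.Lib.Helper3.ChevSL2
set_option autoImplicit false
set_option linter.unusedSectionVars false
set_option linter.style.haveILetI false
open Cfsg Cfsg.Lie

/-!
Automorphisms of Chevalley groups, part 11: rank one computations; the images of the elements `n_α(t)`
and `h_α(t)` of the fundamental roots under an automorphism preserving `U` and `V`.
-/

namespace Cfsg.Agent.Lib.Helper3.ChevAut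

open Cfsg.Agent.Lib.Helper3.ChevM Cfsg.Agent.Lib.Helper3.ChevSp Cfsg.Agent.Lib.Helper3 ChevU ChevT
open Cfsg.Agent.Lib.Helper3.ChevAt Cfsg.Agent.Lib.Helper1 Cfsg.Agent.Lib.Helper3.SL2P

section
variable {K : Type*} [Field K]

/-- The diagonal matrix of `SL₂`. -/
def dE (a : K) (ha : a ≠ 0) : Matrix.SpecialLinearGroup (Fin 2) K :=
  ⟨!![a, 0; 0, a⁻¹], by rw [Matrix.det_fin_two_of]; simp [ha]⟩

theorem dE_mul_nE (a : K) (ha : a ≠ 0) : dE a ha * nE xE yE (1 : K) = nE xE yE a := by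
  apply Subtype.ext
  show (dE a ha).1 * ((xE (1 : K)).1 * (yE (-(1 : K)⁻¹)).1 * (xE (1 : K)).1) =
    (xE a).1 * (yE (-a⁻¹)).1 * (xE a).1
  ext i j
  fin_cases i <;> fin_cases j <;>
    simp [dE, xE, yE, Matrix.mul_apply, Fin.sum_univ_two, ha]

theorem xE_mul_yE (u v : K) (h : 1 + u * v ≠ 0) :
    xE u * yE v = yE (v / (1 + u * v)) * dE (1 + u * v) h * xE (u / (1 + u * v)) := by
  apply Subtype.ext
  show (xE u).1 * (yE v).1 = (yE (v / (1 + u * v))).1 * (dE (1 + u * v) h).1 * (xE (u / (1 + u * v))).1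
  ext i j
  fin_cases i <;> fin_cases j
  · simp [dE, xE, yE, Matrix.mul_apply, Fin.sum_univ_two]
  · simp [dE, xE, yE, Matrix.mul_apply, Fin.sum_univ_two]
    field_simp
  · simp [dE, xE, yE, Matrix.mul_apply, Fin.sum_univ_two]
    rw [div_mul_cancel₀ _ h]
  · simp [dE, xE, yE, Matrix.mul_apply, Fin.sum_univ_two]
    have h' : 1 + v * u ≠ 0 := by rwa [mul_comm]
    field_simp
    ring

end

section
variable {K : Type*} [Field K] {C : CDatum} {R : RelData C} (M : MonoHyp C R)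
  (hcs : ∀ j < C.D.rank, C.D.cartan j (C.D.neg (C.D.simple j)) = -2)
include M hcs

/-- The rank one identity `x_r(u) x_{-r}(v) = x_{-r}(v/(1+uv)) h_r(1+uv) x_r(u/(1+uv))`. -/
theorem xU_mul_xU_neg (r : ℕ) (hr : r < C.D.nroots) (u v : K) (h : 1 + u * v ≠ 0) :
    R.xU r u * R.xU (C.D.neg r) v =
      R.xU (C.D.neg r) (v / (1 + u * v)) * R.hU r (1 + u * v) * R.xU r (u / (1 + u * v)) := by
  have hR := M.sl2_rel (F := K) hcs r hr
  have e1 := congrArg (phi hR) (xE_mul_yE u v h)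
  have e2 := congrArg (phi hR) (dE_mul_nE (1 + u * v) h)
  have hn : ∀ w : K, phi hR (nE xE yE w) = R.nU r w := by
    intro w
    unfold nE
    rw [map_mul, map_mul, phi_xE, phi_yE, R.nU_eq]
  rw [map_mul, hn, hn] at e2
  have e3 : phi hR (dE (1 + u * v) h) = R.hU r (1 + u * v) := by
    rw [R.hU_eq, ← R.nU_inv r 1, ← e2]
    group
  rw [map_mul, map_mul, map_mul, phi_xE, phi_yE, phi_yE, phi_xE, e3] at e1
  exact e1

end

section
variable {K : Type*} [Field K] {C : CDatum} {R : RelData C} (Y : AutHyp C R)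
  (hcs : ∀ j < C.D.rank, C.D.cartan j (C.D.neg (C.D.simple j)) = -2)
include Y hcs

/-- If `x_β(u) x_{-β}(v) x_β(u)` conjugates a nontrivial element of `X_β` into `V` then `1 + uv = 0`. -/
theorem rank_one_key (i : ℕ) (hi : i < C.D.rank) (u v t : K) (ht : t ≠ 0)
    (hm : (R.xU (C.D.simple i) u * R.xU (C.D.neg (C.D.simple i)) v * R.xU (C.D.simple i) u) *
      R.xU (C.D.simple i) t *
      (R.xU (C.D.simple i) u * R.xU (C.D.neg (C.D.simple i)) v * R.xU (C.D.simple i) u)⁻¹ ∈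
        C.D.negUnipotent K) : 1 + u * v = 0 := by
  by_contra h
  set β := C.D.simple i with hβ
  have hβl : β < C.D.nroots := R.simple_lt i hi
  have hβpos : C.D.IsPosRoot β := simple_pos Y.A i hi
  have e := xU_mul_xU_neg (K := K) Y.A.B.mono hcs β hβl u v h
  obtain ⟨d, hd⟩ := Y.A.U.diagonal_conj_xU (F := K) Y.A.B (R.hU β (1 + u * v)) (R.hU_mem β hβl _ h)
  have hcx : ∀ a b : K, R.xU β a * R.xU β b * (R.xU β a)⁻¹ = R.xU β b := by
    intro a b
    rw [R.xU_add, R.xU_inv, R.xU_add]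
    congr 1; ring
  set v' := v / (1 + u * v)
  set u' := u / (1 + u * v)
  have e2 : (R.xU β u * R.xU (C.D.neg β) v * R.xU β u) * R.xU β t *
      (R.xU β u * R.xU (C.D.neg β) v * R.xU β u)⁻¹ =
      R.xU (C.D.neg β) v' * R.xU β (d β * t) * (R.xU (C.D.neg β) v')⁻¹ := by
    rw [e, ← (hd β hβl).2 t]
    have := hcx u t
    have h2 := hcx u' t
    calc R.xU (C.D.neg β) v' * R.hU β (1 + u * v) * R.xU β u' * R.xU β u * R.xU β t *
          (R.xU (C.D.neg β) v' * R.hU β (1 + u * v) * R.xU β u' * R.xU β u)⁻¹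
        = R.xU (C.D.neg β) v' * R.hU β (1 + u * v) * (R.xU β u' * (R.xU β u * R.xU β t * (R.xU β u)⁻¹) *
            (R.xU β u')⁻¹) * (R.hU β (1 + u * v))⁻¹ * (R.xU (C.D.neg β) v')⁻¹ := by group
      _ = _ := by rw [this, h2]; group
  rw [e2] at hm
  have hv' : R.xU (C.D.neg β) v' ∈ C.D.negUnipotent K := xU_mem_neg Y.A _ (neg_simple_neg Y.A i hi) _
  have h3 : R.xU β (d β * t) ∈ C.D.negUnipotent K := by
    have := Subgroup.mul_mem _ (Subgroup.mul_mem _ (Subgroup.inv_mem _ hv') hm) hv'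
    have e3 : (R.xU (C.D.neg β) v')⁻¹ * (R.xU (C.D.neg β) v' * R.xU β (d β * t) * (R.xU (C.D.neg β) v')⁻¹) *
        R.xU (C.D.neg β) v' = R.xU β (d β * t) := by group
    rwa [e3] at this
  have h4 : R.xU β (d β * t) ∈ C.D.posUnipotent K ⊓ C.D.negUnipotent K := ⟨xU_mem_pos Y.A β hβpos _, h3⟩
  rw [pos_inf_neg Y.A, Subgroup.mem_bot, ← R.xU_zero β] at h4
  have h5 := Y.A.U.xU_inj_pos' β hβpos _ _ h4
  exact (mul_ne_zero (hd β hβl).1 ht) h5

variable [Finite K] {θ : MulAut ↥(C.D.group K)} (T : RootAct R K θ)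

/-- The action on the negatives of the fundamental root subgroups is determined by that on the positives. -/
theorem RootAct.g_eq (i : ℕ) (hi : i < C.D.rank) (a : K) (ha : a ≠ 0) :
    T.g i (-a⁻¹) = -(T.f i a)⁻¹ := by
  set α := C.D.simple i with hα
  have hαl : α < C.D.nroots := R.simple_lt i hi
  have hnl : C.D.neg α < C.D.nroots := R.neg_lt _ hαl
  have hpi := T.p_lt i hi
  obtain ⟨d, hd0, hd⟩ := conj_nU_simple (K := K) Y.A i hi a ha
  rw [← hα] at hd
  have h1 := hd 1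
  have hG1 : R.xU α a ∈ C.D.group K := R.xU_mem_group _ hαl _
  have hG2 : R.xU (C.D.neg α) (-a⁻¹) ∈ C.D.group K := R.xU_mem_group _ hnl _
  have hGn : R.nU α a ∈ C.D.group K := by
    rw [R.nU_eq]
    exact Subgroup.mul_mem _ (Subgroup.mul_mem _ hG1 hG2) hG1
  have h2 := congrArg (ex θ) h1
  rw [ex_conj_mul θ hGn (R.xU_mem_group _ hαl _), T.neg i hi, T.pos i hi] at h2
  have h3 : ex θ (R.nU α a) = R.xU (C.D.simple (T.p i)) (T.f i a) *
      R.xU (C.D.neg (C.D.simple (T.p i))) (T.g i (-a⁻¹)) * R.xU (C.D.simple (T.p i)) (T.f i a) := by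
    rw [R.nU_eq, ex_mul θ (Subgroup.mul_mem _ hG1 hG2) hG1, ex_mul θ hG1 hG2, T.pos i hi, T.neg i hi]
  rw [h3] at h2
  have hmem : R.xU (C.D.neg (C.D.simple (T.p i))) (T.g i (d * 1)) ∈ C.D.negUnipotent K :=
    xU_mem_neg Y.A _ (neg_simple_neg Y.A _ hpi) _
  rw [← h2] at hmem
  have h4 := rank_one_key (K := K) Y hcs (T.p i) hpi _ _ _ (T.f_ne_zero Y i hi 1 one_ne_zero) hmem
  have hfa := T.f_ne_zero Y i hi a ha
  rw [eq_neg_iff_add_eq_zero, ← mul_right_inj' hfa, mul_add, mul_inv_cancel₀ hfa, mul_zero]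
  linear_combination h4

/-- The image of `n_α(a)`. -/
theorem RootAct.ex_nU (i : ℕ) (hi : i < C.D.rank) (a : K) (ha : a ≠ 0) :
    ex θ (R.nU (C.D.simple i) a) = R.nU (C.D.simple (T.p i)) (T.f i a) := by
  set α := C.D.simple i with hα
  have hαl : α < C.D.nroots := R.simple_lt i hi
  have hnl : C.D.neg α < C.D.nroots := R.neg_lt _ hαl
  have hG1 : R.xU α a ∈ C.D.group K := R.xU_mem_group _ hαl _
  have hG2 : R.xU (C.D.neg α) (-a⁻¹) ∈ C.D.group K := R.xU_mem_group _ hnl _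
  rw [R.nU_eq, ex_mul θ (Subgroup.mul_mem _ hG1 hG2) hG1, ex_mul θ hG1 hG2, T.pos i hi, T.neg i hi,
    T.g_eq Y hcs i hi a ha, R.nU_eq]

theorem nU_mem_group (r : ℕ) (hr : r < C.D.nroots) (a : K) : R.nU r a ∈ C.D.group K := by
  rw [R.nU_eq]
  exact Subgroup.mul_mem _ (Subgroup.mul_mem _ (R.xU_mem_group _ hr _) (R.xU_mem_group _ (R.neg_lt _ hr) _))
    (R.xU_mem_group _ hr _)

/-- The image of `h_α(a)`. -/
theorem RootAct.ex_hU (i : ℕ) (hi : i < C.D.rank) (a : K) (ha : a ≠ 0) :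
    ex θ (R.hU (C.D.simple i) a) =
      R.hU (C.D.simple (T.p i)) (T.f i a) * (R.hU (C.D.simple (T.p i)) (T.f i 1))⁻¹ := by
  set α := C.D.simple i with hα
  have hαl : α < C.D.nroots := R.simple_lt i hi
  rw [R.hU_eq, ex_mul θ (nU_mem_group Y hcs α hαl _) (nU_mem_group Y hcs α hαl _),
    T.ex_nU Y hcs i hi a ha, T.ex_nU Y hcs i hi (-1) (by simp), T.f_neg Y i hi,
    R.nU_eq_hU_mul _ (T.f i a), ← R.nU_inv, R.nU_eq_hU_mul _ (T.f i 1)]
  group

/-- The compatibility of the action on the fundamental root subgroups with the Cartan integers. -/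
theorem RootAct.f_cartan (i j : ℕ) (hi : i < C.D.rank) (hj : j < C.D.rank) (t u : K) (ht : t ≠ 0) :
    T.f j (t ^ (C.D.cartan i (C.D.simple j)) * u) =
      (T.f i t) ^ (C.D.cartan (T.p i) (C.D.simple (T.p j))) *
        ((T.f i 1) ^ (C.D.cartan (T.p i) (C.D.simple (T.p j))))⁻¹ * T.f j u := by
  have hαl : C.D.simple i < C.D.nroots := R.simple_lt i hi
  have hjl : C.D.simple j < C.D.nroots := R.simple_lt j hj
  have hpi := T.p_lt i hi
  have hpj := T.p_lt j hj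
  have hpjl : C.D.simple (T.p j) < C.D.nroots := R.simple_lt _ hpj
  have h1 := R.hU_conj_xU (F := K) i (C.D.simple j) hi hjl t ht u
  have hGh : R.hU (C.D.simple i) t ∈ C.D.group K := by
    rw [R.hU_eq]
    exact Subgroup.mul_mem _ (nU_mem_group Y hcs _ hαl _) (nU_mem_group Y hcs _ hαl _)
  have h2 := congrArg (ex θ) h1
  rw [ex_conj_mul θ hGh (R.xU_mem_group _ hjl _), T.pos j hj, T.pos j hj, T.ex_hU Y hcs i hi t ht] at h2
  have hft := T.f_ne_zero Y i hi t ht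
  have hf1 := T.f_ne_zero Y i hi 1 one_ne_zero
  have c1 := R.hU_conj_xU (F := K) (T.p i) (C.D.simple (T.p j)) hpi hpjl (T.f i t) hft
  have c2 : ∀ w : K, (R.hU (C.D.simple (T.p i)) (T.f i 1))⁻¹ * R.xU (C.D.simple (T.p j)) w *
      R.hU (C.D.simple (T.p i)) (T.f i 1) =
      R.xU (C.D.simple (T.p j)) (((T.f i 1) ^ (C.D.cartan (T.p i) (C.D.simple (T.p j))))⁻¹ * w) := by
    intro w
    have := R.hU_conj_xU (F := K) (T.p i) (C.D.simple (T.p j)) hpi hpjl (T.f i 1) hf1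
      (((T.f i 1) ^ (C.D.cartan (T.p i) (C.D.simple (T.p j))))⁻¹ * w)
    rw [← mul_assoc, mul_inv_cancel₀ (zpow_ne_zero _ hf1), one_mul] at this
    rw [← this]
    group
  have e3 : R.hU (C.D.simple (T.p i)) (T.f i t) * (R.hU (C.D.simple (T.p i)) (T.f i 1))⁻¹ *
      R.xU (C.D.simple (T.p j)) (T.f j u) *
      (R.hU (C.D.simple (T.p i)) (T.f i t) * (R.hU (C.D.simple (T.p i)) (T.f i 1))⁻¹)⁻¹ =
      R.hU (C.D.simple (T.p i)) (T.f i t) * ((R.hU (C.D.simple (T.p i)) (T.f i 1))⁻¹ *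
      R.xU (C.D.simple (T.p j)) (T.f j u) * R.hU (C.D.simple (T.p i)) (T.f i 1)) *
      (R.hU (C.D.simple (T.p i)) (T.f i t))⁻¹ := by group
  rw [e3, c2, c1] at h2
  have h4 := Y.A.U.xU_inj_pos' _ (simple_pos Y.A _ hpj) _ _ h2
  rw [← h4]
  ring

end

end Cfsg.Agent.Lib.Helper3.ChevAut
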