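import Mathlib
import Cfsg.Prelude.Def_ChevStructure
import Cfsg.Agent.Lib.Helper3.ChevAut11
set_option autoImplicit false
set_option linter.unusedSectionVars false
set_option linter.style.haveILetI false
open Cfsg Cfsg.Lie

/-!
Automorphisms of Chevalley groups, part 12: for a simply laced diagram without symmetries, an
automorphism preserving `U` and `V` acts on the fundamental root subgroups through a single field
automorphism, up to scalars.
-/

namespace Cfsg.Agent.Lib.Helper3.ChevAut

open Cfsg.Agent.Lib.Helper3.ChevM Cfsg.Agent.Lib.Helper3.ChevSp Cfsg.Agent.Lib.Helper3 ChevU ChevT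
open Cfsg.Agent.Lib.Helper3.ChevAt Cfsg.Agent.Lib.Helper1

/-- Distinct nodes are not joined or joined by a simple bond. -/
def adjCheck (D : ChevalleyDatum) (i j : ℕ) : Bool :=
  match D.commTerms (D.simple i) (D.simple j) with
  | [] => true
  | [(k, c, a, b)] =>
    decide (D.IsPosRoot k) && (decide (c = 1) || decide (c = -1)) && decide (a = 1) && decide (b = 1)
  | _ => false

theorem adjCheck_spec (D : ChevalleyDatum) (i j : ℕ) (h : adjCheck D i j = true) :
    D.commTerms (D.simple i) (D.simple j) = [] ∨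
      ∃ k c, D.IsPosRoot k ∧ (c = 1 ∨ c = -1) ∧ D.commTerms (D.simple i) (D.simple j) = [(k, c, 1, 1)] := by
  unfold adjCheck at h
  split at h
  · left; assumption
  · rename_i k c a b heq
    right
    simp only [Bool.and_eq_true, Bool.or_eq_true, decide_eq_true_eq] at h
    obtain ⟨⟨⟨h1, h2⟩, h3⟩, h4⟩ := h
    subst h3 h4
    exact ⟨k, c, h1, h2, heq⟩
  · exact absurd h (by simp)

/-- The nodes `i` and `j` are not joined. -/
def nadj (D : ChevalleyDatum) (i j : ℕ) : Bool := decide (D.commTerms (D.simple i) (D.simple j) = [])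

/-- The entry of a table of booleans. -/
def tabB (M : List (List Bool)) (i j : ℕ) : Bool := (M.getD i []).getD j false

/-- The node `a` may be the image of the next node, the images of the earlier nodes being `acc`. -/
def rigOk (M : List (List Bool)) (acc : List ℕ) (a : ℕ) : Bool :=
  !acc.contains a && (List.range acc.length).all fun m => !tabB M m acc.length || tabB M (acc.getD m 0) a

/-- Every injective map of the `n` nodes preserving the relation `M` and extending `acc` by `k` more nodes is
in `L`. -/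
def rigExt (n : ℕ) (M : List (List Bool)) (L : List (List ℕ)) : ℕ → List ℕ → Bool
  | 0, acc => L.contains acc
  | k + 1, acc => (List.range n).all fun a => !rigOk M acc a || rigExt n M L k (acc ++ [a])

theorem rigExt_sound (n : ℕ) (M : List (List Bool)) (L : List (List ℕ)) (p : ℕ → ℕ)
    (hp1 : ∀ i < n, p i < n) (hp2 : ∀ i < n, ∀ j < n, i ≠ j → p i ≠ p j)
    (hp3 : ∀ i < n, ∀ j < n, i ≠ j → tabB M i j = true → tabB M (p i) (p j) = true) :
    ∀ k m, k + m = n → rigExt n M L k ((List.range m).map p) = true → (List.range n).map p ∈ L := by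
  intro k
  induction k with
  | zero =>
    intro m hm h
    rw [zero_add] at hm
    subst hm
    simpa [rigExt] using h
  | succ k ih =>
    intro m hm h
    have hmr : m < n := by omega
    rw [rigExt, List.all_eq_true] at h
    have h1 := h (p m) (List.mem_range.mpr (hp1 m hmr))
    have hok : rigOk M ((List.range m).map p) (p m) = true := by
      simp only [rigOk, Bool.and_eq_true, Bool.not_eq_true', List.all_eq_true, List.mem_range,
        List.length_map, List.length_range, Bool.or_eq_true]
      constructor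
      · rw [← Bool.not_eq_true, List.contains_iff_mem, List.mem_map]
        rintro ⟨i, hi, hpi⟩
        have him : i < m := List.mem_range.mp hi
        exact hp2 i (by omega) m hmr (by omega) hpi
      · intro i hi
        have : ((List.range m).map p).getD i 0 = p i := by
          rw [List.getD_eq_getElem _ _ (by simpa using hi)]
          simp
        rw [this]
        by_cases hn : tabB M i m = true
        · right; exact hp3 i (by omega) m hmr (by omega) hn
        · left; simpa using hn
    rw [hok] at h1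
    simp only [Bool.not_true, Bool.false_or] at h1
    have e : (List.range m).map p ++ [p m] = (List.range (m + 1)).map p := by
      rw [List.range_succ, List.map_append]; rfl
    rw [e] at h1
    exact ih (m + 1) (by omega) h1

/-- The table checks for a simply laced diagram without symmetries. -/
structure SLHyp (C : CDatum) (R : RelData C) where
  Y : AutHyp C R
  hcs : ∀ j < C.D.rank, C.D.cartan j (C.D.neg (C.D.simple j)) = -2
  adj : ∀ i < C.D.rank, ∀ j < C.D.rank, i ≠ j → adjCheck C.D i j = true
  par : ℕ → ℕ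
  dep : ℕ → ℕ
  root : ℕ
  hroot : root < C.D.rank
  tree : ∀ i < C.D.rank, i = root ∨ (par i < C.D.rank ∧ dep (par i) < dep i ∧
    C.D.cartan (par i) (C.D.simple i) = -1 ∧ C.D.cartan i (C.D.simple (par i)) = -1)
  nb : ∀ i < C.D.rank, ∃ j < C.D.rank, C.D.cartan j (C.D.simple i) = -1

section
variable {K : Type*} [Field K] [Finite K] {C : CDatum} {R : RelData C} (S : SLHyp C R)
  {θ : MulAut ↥(C.D.group K)} (T : RootAct R K θ)
include S

/-- The permutation of the nodes preserves non-adjacency. -/
theorem RootAct.nadj (i j : ℕ) (hi : i < C.D.rank) (hj : j < C.D.rank) (hij : i ≠ j)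
    (h : nadj C.D i j = true) : nadj C.D (T.p i) (T.p j) = true := by
  unfold ChevAut.nadj at h ⊢
  rw [decide_eq_true_eq] at h ⊢
  have Y := S.Y
  have hil := R.simple_lt i hi
  have hjl := R.simple_lt j hj
  have hpi := T.p_lt i hi
  have hpj := T.p_lt j hj
  have hpil := R.simple_lt _ hpi
  have hpjl := R.simple_lt _ hpj
  have hne : ∀ a b : ℕ, a < C.D.rank → b < C.D.rank → a ≠ b →
      C.D.simple b ≠ C.D.simple a ∧ C.D.simple b ≠ C.D.neg (C.D.simple a) := by
    intro a b ha hb hab
    constructor
    · intro e; exact hab (Y.simp_inj b hb a ha e).symm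
    · intro e
      have := neg_simple_neg Y.A a ha
      rw [← e] at this
      exact not_pos_of_neg Y.A _ this (simple_pos Y.A b hb)
  have hc := comm_of_commTerms_nil (K := K) Y.A _ _ hil hjl (hne i j hi hj hij).1 (hne i j hi hj hij).2 h 1 1
  have hG1 : R.xU (C.D.simple i) (1 : K) ∈ C.D.group K := R.xU_mem_group _ hil _
  have hG2 : R.xU (C.D.simple j) (1 : K) ∈ C.D.group K := R.xU_mem_group _ hjl _
  have hc' := congrArg (ex θ) hc
  rw [ex_mul θ hG2 hG1, ex_mul θ hG1 hG2, T.pos i hi, T.pos j hj] at hc'
  have hpij : T.p i ≠ T.p j := fun e => hij (T.p_inj Y i j hi hj e)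
  rcases adjCheck_spec C.D _ _ (S.adj _ hpi _ hpj hpij) with h1 | ⟨k, c, hk, hc1, h1⟩
  · exact h1
  · exfalso
    rcases not_comm_of_commTerms_single (K := K) Y.A _ _ k c hpil hpjl (hne _ _ hpi hpj hpij).1
      (hne _ _ hpi hpj hpij).2 hk hc1 h1 _ _ hc' with h2 | h2
    · exact T.f_ne_zero Y i hi 1 one_ne_zero h2
    · exact T.f_ne_zero Y j hj 1 one_ne_zero h2

/-- For a diagram without symmetries, the permutation of the nodes is trivial. -/
theorem RootAct.p_eq (M : List (List Bool))
    (hM : ∀ i < C.D.rank, ∀ j < C.D.rank, tabB M i j = ChevAut.nadj C.D i j)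
    (hrig : rigExt C.D.rank M [List.range C.D.rank] C.D.rank [] = true)
    (i : ℕ) (hi : i < C.D.rank) : T.p i = i := by
  have h := rigExt_sound C.D.rank M [List.range C.D.rank] T.p T.p_lt
    (fun a ha b hb hab e => hab (T.p_inj S.Y a b ha hb e))
    (fun a ha b hb hab hn => by
      rw [hM _ (T.p_lt a ha) _ (T.p_lt b hb)]
      rw [hM a ha b hb] at hn
      exact T.nadj S a b ha hb hab hn) C.D.rank 0 (by simp)
    (by simpa using hrig)
  rw [List.mem_singleton] at h
  have h2 := congrArg (fun l => l.getD i 0) h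
  rw [List.getD_eq_getElem _ _ (by simpa using hi), List.getD_eq_getElem _ _ (by simpa using hi)] at h2
  simpa using h2

variable (hp : ∀ i < C.D.rank, T.p i = i)
include hp

theorem RootAct.f_adj (i j : ℕ) (hi : i < C.D.rank) (hj : j < C.D.rank)
    (hA : C.D.cartan i (C.D.simple j) = -1) (t u : K) (ht : t ≠ 0) :
    T.f j (t⁻¹ * u) = (T.f i t)⁻¹ * T.f i 1 * T.f j u := by
  have := T.f_cartan S.Y S.hcs i j hi hj t u ht
  rw [hp i hi, hp j hj, hA, zpow_neg_one, zpow_neg_one, zpow_neg_one, inv_inv] at this
  exact this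

/-- The normalised action on the fundamental root subgroups. -/
noncomputable def RootAct.phi (i : ℕ) (t : K) : K := T.f i t / T.f i 1

omit hp in
theorem RootAct.phi_one (i : ℕ) (hi : i < C.D.rank) : T.phi i 1 = 1 := by
  unfold RootAct.phi
  exact div_self (T.f_ne_zero S.Y i hi 1 one_ne_zero)

omit hp in
theorem RootAct.phi_zero (i : ℕ) (hi : i < C.D.rank) : T.phi i 0 = 0 := by
  unfold RootAct.phi
  rw [T.f_zero S.Y i hi, zero_div]

omit hp in
theorem RootAct.phi_add (i : ℕ) (hi : i < C.D.rank) (a b : K) : T.phi i (a + b) = T.phi i a + T.phi i b := by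
  unfold RootAct.phi
  rw [T.f_add S.Y i hi, add_div]

theorem RootAct.phi_adj (i j : ℕ) (hi : i < C.D.rank) (hj : j < C.D.rank)
    (hA : C.D.cartan i (C.D.simple j) = -1) (t u : K) (ht : t ≠ 0) :
    T.phi j (t⁻¹ * u) = (T.phi i t)⁻¹ * T.phi j u := by
  unfold RootAct.phi
  rw [T.f_adj S hp i j hi hj hA t u ht]
  have h1 := T.f_ne_zero S.Y i hi 1 one_ne_zero
  have h2 := T.f_ne_zero S.Y j hj 1 one_ne_zero
  have h3 := T.f_ne_zero S.Y i hi t ht
  field_simp

theorem RootAct.phi_inv (i j : ℕ) (hi : i < C.D.rank) (hj : j < C.D.rank)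
    (hA : C.D.cartan i (C.D.simple j) = -1) (t : K) (ht : t ≠ 0) :
    T.phi j t⁻¹ = (T.phi i t)⁻¹ := by
  have := T.phi_adj S hp i j hi hj hA t 1 ht
  rwa [mul_one, T.phi_one S j hj, mul_one] at this

theorem RootAct.phi_mul (j : ℕ) (hj : j < C.D.rank) (s u : K) : T.phi j (s * u) = T.phi j s * T.phi j u := by
  obtain ⟨i, hi, hA⟩ := S.nb j hj
  by_cases hs : s = 0
  · rw [hs, zero_mul, T.phi_zero S j hj, zero_mul]
  · have h1 := T.phi_adj S hp i j hi hj hA s⁻¹ u (inv_ne_zero hs)
    have h2 := T.phi_inv S hp i j hi hj hA s⁻¹ (inv_ne_zero hs)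
    rw [inv_inv] at h1 h2
    rw [h1, h2]

omit hp in
theorem RootAct.phi_inj (j : ℕ) (hj : j < C.D.rank) : Function.Injective (T.phi j) := by
  intro a b e
  unfold RootAct.phi at e
  have h1 := T.f_ne_zero S.Y j hj 1 one_ne_zero
  rw [div_left_inj' h1] at e
  exact T.f_inj S.Y j hj e

/-- The normalised action as a field automorphism. -/
noncomputable def RootAct.sigma (j : ℕ) (hj : j < C.D.rank) : K ≃+* K :=
  RingEquiv.ofBijective
    ({ toFun := T.phi j
       map_one' := T.phi_one S j hj
       map_mul' := T.phi_mul S hp j hj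
       map_zero' := T.phi_zero S j hj
       map_add' := T.phi_add S j hj } : K →+* K)
    ⟨T.phi_inj S j hj, Finite.surjective_of_injective (T.phi_inj S j hj)⟩

theorem RootAct.sigma_apply (j : ℕ) (hj : j < C.D.rank) (t : K) : T.sigma S hp j hj t = T.phi j t := rfl

theorem RootAct.phi_eq_of_adj (i j : ℕ) (hi : i < C.D.rank) (hj : j < C.D.rank)
    (hA : C.D.cartan i (C.D.simple j) = -1) (t : K) : T.phi i t = T.phi j t := by
  by_cases ht : t = 0
  · rw [ht, T.phi_zero S i hi, T.phi_zero S j hj]
  · have h1 := T.phi_inv S hp i j hi hj hA t ht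
    rw [← T.sigma_apply S hp j hj, map_inv₀, T.sigma_apply S hp j hj] at h1
    exact (inv_injective h1).symm

theorem RootAct.phi_eq_root (n : ℕ) : ∀ i < C.D.rank, S.dep i ≤ n → ∀ t, T.phi i t = T.phi S.root t := by
  induction n with
  | zero =>
    intro i hi hd t
    rcases S.tree i hi with h | ⟨_, h2, _, _⟩
    · rw [h]
    · omega
  | succ n ih =>
    intro i hi hd t
    rcases S.tree i hi with h | ⟨h1, h2, h3, h4⟩
    · rw [h]
    · rw [← ih (S.par i) h1 (by omega) t]
      exact (T.phi_eq_of_adj S hp (S.par i) i h1 hi h3 t).symm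

/-- The action on the fundamental root subgroups and their negatives is given by a field automorphism and
scalars. -/
theorem RootAct.exists_sigma : ∃ (σ : K ≃+* K) (c : ℕ → K), (∀ i < C.D.rank, c i ≠ 0) ∧
    ∀ i < C.D.rank, ∀ t : K, ex θ (R.xU (C.D.simple i) t) = R.xU (C.D.simple i) (c i * σ t) ∧
      ex θ (R.xU (C.D.neg (C.D.simple i)) t) = R.xU (C.D.neg (C.D.simple i)) ((c i)⁻¹ * σ t) := by
  refine ⟨T.sigma S hp S.root S.hroot, fun i => T.f i 1, fun i hi => T.f_ne_zero S.Y i hi 1 one_ne_zero, ?_⟩
  intro i hi t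
  have h1 := T.f_ne_zero S.Y i hi 1 one_ne_zero
  have hf : ∀ s : K, T.f i s = T.f i 1 * T.sigma S hp S.root S.hroot s := by
    intro s
    rw [T.sigma_apply, ← T.phi_eq_root S hp (S.dep i) i hi le_rfl s]
    unfold RootAct.phi
    field_simp
  constructor
  · have := T.pos i hi t
    rw [hp i hi] at this
    rw [this, hf]
  · have := T.neg i hi t
    rw [hp i hi] at this
    rw [this]
    congr 1
    by_cases ht : t = 0
    · rw [ht, T.g_zero S.Y i hi, map_zero, mul_zero]
    · have h2 := T.g_eq S.Y S.hcs i hi (-t⁻¹) (neg_ne_zero.mpr (inv_ne_zero ht))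
      rw [inv_neg, inv_inv, neg_neg] at h2
      rw [h2, hf, map_neg, map_inv₀]
      have h3 : (T.sigma S hp S.root S.hroot) t ≠ 0 := by
        rw [Ne, map_eq_zero_iff _ (T.sigma S hp S.root S.hroot).injective]; exact ht
      field_simp

end

end Cfsg.Agent.Lib.Helper3.ChevAut
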