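import Mathlib
import Cfsg.Prelude.Def_ChevStructure
import Cfsg.Agent.Lib.Helper3.ChevW2
import Cfsg.Agent.Lib.Helper3.ChevG5
import Cfsg.Agent.Lib.Helper3.ChevB1
set_option autoImplicit false
open Cfsg Cfsg.Lie

/-! Applying a homomorphism of fields to the entries of the elements of a Chevalley group. -/

namespace Cfsg.Agent.Lib.Helper3.ChevM

section
variable {K L : Type*} [Field K] [Field L] (ι : K →+* L)

theorem colSum_ringHom' (T : K) (l : List CEnt) (k : ℕ) : ι (colSum T l k) = colSum (ι T) l k := by
  unfold colSum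
  rw [map_list_sum, List.map_map]
  congr 1
  apply List.map_congr_left
  intro e _
  simp

/-- Applying a ring homomorphism to the entries of a root element. -/
theorem x_map' (D : ChevalleyDatum) (r : ℕ) (t : K) : (D.x K r t).map ι = D.x L r (ι t) := by
  unfold ChevalleyDatum.x
  split_ifs with h
  · ext j col
    rw [Matrix.map_apply, xMat_entry, xMat_entry, map_add, colSum_ringHom']
    congr 1
    split_ifs <;> simp
  · exact Matrix.map_one ι (map_zero ι) (map_one ι)

variable {C : CDatum} (R : RelData C)

theorem RelData.map_xU' (r : ℕ) (t : K) : Matrix.GeneralLinearGroup.map ι (R.xU r t) = R.xU r (ι t) := by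
  apply Units.ext
  rw [R.xU_val, ← x_map' ι C.D r t]
  rfl

theorem GLmap_injective' {n : Type*} [Fintype n] [DecidableEq n] :
    Function.Injective (Matrix.GeneralLinearGroup.map (n := n) ι) := by
  intro a b h
  apply Units.ext
  ext i j
  have := congrArg (fun g : GL n L => (g : Matrix n n L) i j) h
  simp only [Matrix.GeneralLinearGroup.map_apply] at this
  exact ι.injective this

theorem RelData.map_nU' (r : ℕ) (c : K) : Matrix.GeneralLinearGroup.map ι (R.nU r c) = R.nU r (ι c) := by
  rw [R.nU_eq, R.nU_eq, map_mul, map_mul, R.map_xU', R.map_xU', map_neg, map_inv₀]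

theorem RelData.map_hU' (r : ℕ) (c : K) : Matrix.GeneralLinearGroup.map ι (R.hU r c) = R.hU r (ι c) := by
  rw [R.hU_eq, R.hU_eq, map_mul, R.map_nU', R.map_nU', map_neg, map_one]

theorem RelData.map_nWordU' (l : List ℕ) :
    Matrix.GeneralLinearGroup.map ι (R.nWordU (F := K) l) = R.nWordU (F := L) l := by
  induction l with
  | nil => simp [RelData.nWordU_nil]
  | cons i l ih => rw [R.nWordU_cons, R.nWordU_cons, map_mul, ih, R.map_nU', map_one]

/-- The subgroup generated by the root elements with parameters in the image of `ι`. -/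
def subfieldGroup (D : ChevalleyDatum) : Subgroup (GL D.Idx L) :=
  Subgroup.closure {g | ∃ (s : ℕ) (t : K), s < D.nroots ∧ (g : Matrix D.Idx D.Idx L) = D.x L s (ι t)}

include R in
theorem RelData.map_group : (C.D.group K).map (Matrix.GeneralLinearGroup.map ι) = subfieldGroup ι C.D := by
  unfold ChevalleyDatum.group subfieldGroup
  rw [MonoidHom.map_closure]
  congr 1
  ext g
  constructor
  · rintro ⟨y, ⟨s, t, hy⟩, rfl⟩
    have hy' : y = R.xU s.val t := by
      apply Units.ext
      rw [hy, R.xU_val]
      simp [ChevalleyDatum.x, s.isLt]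
    refine ⟨s.val, t, s.isLt, ?_⟩
    rw [hy', R.map_xU', R.xU_val]
  · rintro ⟨s, t, hs, hg⟩
    refine ⟨R.xU s t, ⟨⟨s, hs⟩, t, ?_⟩, ?_⟩
    · rw [R.xU_val]; simp [ChevalleyDatum.x, hs]
    · apply Units.ext
      rw [R.map_xU', R.xU_val, hg]

end

end Cfsg.Agent.Lib.Helper3.ChevM
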