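import Mathlib
import Cfsg.Prelude.Def_ChevStructure
import Cfsg.Agent.Lib.Helper3.ChevTw14
import Cfsg.Agent.Lib.Helper3.ChevP1
set_option autoImplicit false
open Cfsg Cfsg.Lie

/-! The diagonal elements of the classes of fundamental roots lie in the twisted group. -/

namespace Cfsg.Agent.Lib.Helper3.ChevM

open ChevU

section
variable {K : Type*} [Field K] {C : CDatum} (R : RelData C) (φ : K →+* K)

/-- The product of the `n_{p}(φ^k μ)` over a class. -/
def RelData.nT (J : List ℕ) (μ : K) : GL C.D.Idx K :=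
  (J.zipIdx.map fun p => R.nU (C.D.simple p.1) (φ^[p.2] μ)).prod

/-- The product of the `h_{p}(φ^k μ)` over a class. -/
def RelData.hT (J : List ℕ) (μ : K) : GL C.D.Idx K :=
  (J.zipIdx.map fun p => R.hU (C.D.simple p.1) (φ^[p.2] μ)).prod

theorem RelData.nT_one (a : ℕ) (μ : K) : R.nT φ [a] μ = R.nU (C.D.simple a) μ := by
  simp [RelData.nT, List.zipIdx]

theorem RelData.nT_two (a b : ℕ) (μ : K) :
    R.nT φ [a, b] μ = R.nU (C.D.simple a) μ * R.nU (C.D.simple b) (φ μ) := by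
  simp [RelData.nT, List.zipIdx]

theorem RelData.nT_three (a b c : ℕ) (μ : K) :
    R.nT φ [a, b, c] μ = R.nU (C.D.simple a) μ * R.nU (C.D.simple b) (φ μ) * R.nU (C.D.simple c) (φ (φ μ)) := by
  simp [RelData.nT, List.zipIdx, mul_assoc]

theorem RelData.hT_one (a : ℕ) (μ : K) : R.hT φ [a] μ = R.hU (C.D.simple a) μ := by
  simp [RelData.hT, List.zipIdx]

theorem RelData.hT_two (a b : ℕ) (μ : K) :
    R.hT φ [a, b] μ = R.hU (C.D.simple a) μ * R.hU (C.D.simple b) (φ μ) := by
  simp [RelData.hT, List.zipIdx]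

theorem RelData.hT_three (a b c : ℕ) (μ : K) :
    R.hT φ [a, b, c] μ = R.hU (C.D.simple a) μ * R.hU (C.D.simple b) (φ μ) * R.hU (C.D.simple c) (φ (φ μ)) := by
  simp [RelData.hT, List.zipIdx, mul_assoc]

end

section
variable {K : Type*} [Field K] {C : CDatum} {R : RelData C} (Kd : CommData C R) (G : GraphData C) (φ : K →+* K)

include Kd in
theorem CommData.nU_comm_sgn (a b : ℕ) (ha : a < C.D.rank) (hb : b < C.D.rank)
    (h : ((commEmptyCheck C.D (C.D.simple a) (C.D.simple b) = true ∧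
      commEmptyCheck C.D (C.D.simple a) (C.D.neg (C.D.simple b)) = true) ∧
      commEmptyCheck C.D (C.D.neg (C.D.simple a)) (C.D.simple b) = true) ∧
      commEmptyCheck C.D (C.D.neg (C.D.simple a)) (C.D.neg (C.D.simple b)) = true) (x y : K) :
    Commute (R.nU (C.D.simple a) x) (R.nU (C.D.simple b) y) := by
  have cs : ∀ (n1 n2 : Bool) (u v : K), Commute (R.xU (sgnRoot C.D n1 a) u) (R.xU (sgnRoot C.D n2 b) v) :=
    fun n1 n2 u v => Kd.xU_comm_sgn n1 n2 a b ha hb h u v
  have c1 : ∀ (n1 : Bool) (u : K), Commute (R.xU (sgnRoot C.D n1 a) u) (R.nU (C.D.simple b) y) := by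
    intro n1 u
    rw [R.nU_eq]
    have h1 := cs n1 false u y
    have h2 := cs n1 true u (-y⁻¹)
    simp only [sgnRoot, Bool.false_eq_true, if_false, if_true] at h1 h2
    exact (h1.mul_right h2).mul_right h1
  rw [R.nU_eq (C.D.simple a)]
  have h1 := c1 false x
  have h2 := c1 true (-x⁻¹)
  simp only [sgnRoot, Bool.false_eq_true, if_false, if_true] at h1 h2
  exact (h1.mul_left h2).mul_left h1

include Kd in
/-- The product of the `n_p(φ^k μ)` over a class as a product of generators of the twisted group. -/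
theorem CommData.nT_eq (J : List ℕ) (hJ : clsShapeCheck C.D G.p G.eps J = true) (μ : K) :
    R.nT φ J μ = R.wordU (clsWord C.D φ J false μ) * R.wordU (clsWord C.D φ J true (-μ⁻¹)) *
      R.wordU (clsWord C.D φ J false μ) := by
  simp only [clsShapeCheck, Bool.and_eq_true, List.all_eq_true, decide_eq_true_eq, Bool.or_eq_true] at hJ
  obtain ⟨hall, hshape⟩ := hJ
  match J, hall, hshape with
  | [a], hall, hshape =>
    rw [wordU_clsWord_one, wordU_clsWord_one, R.nT_one, R.nU_eq]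
    simp only [sgnRoot, Bool.false_eq_true, if_false, if_true]
  | [a, b], hall, hshape =>
    simp only [Bool.and_eq_true, decide_eq_true_eq] at hshape
    obtain ⟨⟨h1, h2⟩, h3⟩ := hshape
    obtain ⟨⟨ha, -⟩, hca⟩ := hall a (by simp)
    obtain ⟨⟨hb, -⟩, -⟩ := hall b (by simp)
    have hab := (hca b (by simp)).resolve_left h3
    rw [wordU_clsWord_two, wordU_clsWord_two, R.nT_two, R.nU_eq, R.nU_eq, map_neg, map_inv₀]
    have e := interleave3 (R.xU (sgnRoot C.D false a) μ) (R.xU (sgnRoot C.D true a) (-μ⁻¹))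
      (R.xU (sgnRoot C.D false a) μ) (R.xU (sgnRoot C.D false b) (φ μ)) (R.xU (sgnRoot C.D true b) (-(φ μ)⁻¹))
      (R.xU (sgnRoot C.D false b) (φ μ)) (Kd.xU_comm_sgn _ _ a b ha hb hab _ _) (Kd.xU_comm_sgn _ _ a b ha hb hab _ _)
      (Kd.xU_comm_sgn _ _ a b ha hb hab _ _)
    simpa only [sgnRoot, Bool.false_eq_true, if_false, if_true] using e
  | [a, b, c], hall, hshape =>
    simp only [Bool.and_eq_true, decide_eq_true_eq] at hshape
    obtain ⟨⟨⟨⟨⟨h1, h2⟩, h3⟩, h4⟩, h5⟩, h6⟩ := hshape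
    obtain ⟨⟨ha, -⟩, hca⟩ := hall a (by simp)
    obtain ⟨⟨hb, -⟩, hcb⟩ := hall b (by simp)
    obtain ⟨⟨hc, -⟩, -⟩ := hall c (by simp)
    have hab := (hca b (by simp)).resolve_left h4
    have hac := (hca c (by simp)).resolve_left h6
    have hbc := (hcb c (by simp)).resolve_left h5
    rw [wordU_clsWord_three, wordU_clsWord_three, R.nT_three, R.nU_eq, R.nU_eq, R.nU_eq]
    simp only [map_neg, map_inv₀]
    have cab : ∀ (n1 n2 : Bool) (x y : K), Commute (R.xU (sgnRoot C.D n1 a) x) (R.xU (sgnRoot C.D n2 b) y) :=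
      fun n1 n2 x y => Kd.xU_comm_sgn n1 n2 a b ha hb hab x y
    have cac : ∀ (n1 n2 : Bool) (x y : K), Commute (R.xU (sgnRoot C.D n1 a) x) (R.xU (sgnRoot C.D n2 c) y) :=
      fun n1 n2 x y => Kd.xU_comm_sgn n1 n2 a c ha hc hac x y
    have cbc : ∀ (n1 n2 : Bool) (x y : K), Commute (R.xU (sgnRoot C.D n1 b) x) (R.xU (sgnRoot C.D n2 c) y) :=
      fun n1 n2 x y => Kd.xU_comm_sgn n1 n2 b c hb hc hbc x y
    have e1 := interleave3 (R.xU (sgnRoot C.D false a) μ) (R.xU (sgnRoot C.D true a) (-μ⁻¹))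
      (R.xU (sgnRoot C.D false a) μ) (R.xU (sgnRoot C.D false b) (φ μ)) (R.xU (sgnRoot C.D true b) (-(φ μ)⁻¹))
      (R.xU (sgnRoot C.D false b) (φ μ)) (cab _ _ _ _) (cab _ _ _ _) (cab _ _ _ _)
    have e2 := interleave3 (R.xU (sgnRoot C.D false a) μ * R.xU (sgnRoot C.D false b) (φ μ))
      (R.xU (sgnRoot C.D true a) (-μ⁻¹) * R.xU (sgnRoot C.D true b) (-(φ μ)⁻¹))
      (R.xU (sgnRoot C.D false a) μ * R.xU (sgnRoot C.D false b) (φ μ))
      (R.xU (sgnRoot C.D false c) (φ (φ μ))) (R.xU (sgnRoot C.D true c) (-(φ (φ μ))⁻¹))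
      (R.xU (sgnRoot C.D false c) (φ (φ μ)))
      ((cac _ _ _ _).mul_left (cbc _ _ _ _)) ((cac _ _ _ _).mul_left (cbc _ _ _ _))
      ((cac _ _ _ _).mul_left (cbc _ _ _ _))
    simp only [sgnRoot, Bool.false_eq_true, if_false, if_true] at e1 e2 ⊢
    rw [e1, e2]
  | [], _, hshape => simp at hshape
  | _ :: _ :: _ :: _ :: _, _, hshape => simp at hshape

include Kd in
/-- The product of the `h_p(φ^k μ)` over a class in terms of the products of the `n_p`. -/
theorem CommData.hT_eq (J : List ℕ) (hJ : clsShapeCheck C.D G.p G.eps J = true) (μ : K) :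
    R.hT φ J μ = R.nT φ J μ * R.nT φ J (-1) := by
  simp only [clsShapeCheck, Bool.and_eq_true, List.all_eq_true, decide_eq_true_eq, Bool.or_eq_true] at hJ
  obtain ⟨hall, hshape⟩ := hJ
  match J, hall, hshape with
  | [a], hall, hshape =>
    rw [R.hT_one, R.nT_one, R.nT_one, R.hU_eq]
  | [a, b], hall, hshape =>
    simp only [Bool.and_eq_true, decide_eq_true_eq] at hshape
    obtain ⟨⟨h1, h2⟩, h3⟩ := hshape
    obtain ⟨⟨ha, -⟩, hca⟩ := hall a (by simp)
    obtain ⟨⟨hb, -⟩, -⟩ := hall b (by simp)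
    have hab := (hca b (by simp)).resolve_left h3
    rw [R.hT_two, R.nT_two, R.nT_two, R.hU_eq, R.hU_eq, map_neg, map_one]
    have c1 := Kd.nU_comm_sgn (K := K) a b ha hb hab (-1) (φ μ)
    calc R.nU (C.D.simple a) μ * R.nU (C.D.simple a) (-1) * (R.nU (C.D.simple b) (φ μ) * R.nU (C.D.simple b) (-1))
        = R.nU (C.D.simple a) μ * (R.nU (C.D.simple a) (-1) * R.nU (C.D.simple b) (φ μ)) *
            R.nU (C.D.simple b) (-1) := by group
      _ = R.nU (C.D.simple a) μ * (R.nU (C.D.simple b) (φ μ) * R.nU (C.D.simple a) (-1)) *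
            R.nU (C.D.simple b) (-1) := by rw [c1.eq]
      _ = _ := by group
  | [a, b, c], hall, hshape =>
    simp only [Bool.and_eq_true, decide_eq_true_eq] at hshape
    obtain ⟨⟨⟨⟨⟨h1, h2⟩, h3⟩, h4⟩, h5⟩, h6⟩ := hshape
    obtain ⟨⟨ha, -⟩, hca⟩ := hall a (by simp)
    obtain ⟨⟨hb, -⟩, hcb⟩ := hall b (by simp)
    obtain ⟨⟨hc, -⟩, -⟩ := hall c (by simp)
    have hab := (hca b (by simp)).resolve_left h4
    have hac := (hca c (by simp)).resolve_left h6
    have hbc := (hcb c (by simp)).resolve_left h5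
    rw [R.hT_three, R.nT_three, R.nT_three, R.hU_eq, R.hU_eq, R.hU_eq]
    simp only [map_neg, map_one]
    have cab := fun x y => (Kd.nU_comm_sgn (K := K) a b ha hb hab x y).eq
    have cac := fun x y => (Kd.nU_comm_sgn (K := K) a c ha hc hac x y).eq
    have cbc := fun x y => (Kd.nU_comm_sgn (K := K) b c hb hc hbc x y).eq
    set A := R.nU (C.D.simple a) μ
    set A' := R.nU (C.D.simple a) (-1 : K)
    set B := R.nU (C.D.simple b) (φ μ)
    set B' := R.nU (C.D.simple b) (-1 : K)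
    set D := R.nU (C.D.simple c) (φ (φ μ))
    set D' := R.nU (C.D.simple c) (-1 : K)
    have e1 : A' * B = B * A' := cab _ _
    have e2 : A' * D = D * A' := cac _ _
    have e3 : B' * D = D * B' := cbc _ _
    calc A * A' * (B * B') * (D * D') = A * (A' * B) * (B' * D) * D' := by group
      _ = A * (B * A') * (D * B') * D' := by rw [e1, e3]
      _ = A * B * (A' * D) * B' * D' := by group
      _ = A * B * (D * A') * B' * D' := by rw [e2]
      _ = _ := by group
  | [], _, hshape => simp at hshape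
  | _ :: _ :: _ :: _ :: _, _, hshape => simp at hshape

end

section
variable {K : Type*} [Field K] {C : CDatum} {R : RelData C} (H : TwHyp C R) (φ : K →+* K)

theorem iterate_neg_inv (n : ℕ) (μ : K) (hμ : φ^[n] μ = μ) : φ^[n] (-μ⁻¹) = -μ⁻¹ := by
  have e : ∀ x : K, φ^[n] x = (φ ^ n) x := fun x => by rw [RingHom.coe_pow]
  rw [e, map_neg, map_inv₀, ← e, hμ]

/-- The product of the `n_p(φ^k μ)` over a class lies in the twisted group. -/
theorem TwHyp.nT_mem (J : List ℕ) (hJ : J ∈ H.cls) (μ : K) (hμ : φ^[J.length] μ = μ) : R.nT φ J μ ∈ H.grp φ := by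
  rw [H.U.K.nT_eq H.G φ J (H.shape J hJ) μ]
  have h1 : R.wordU (clsWord C.D φ J false μ) ∈ H.grp φ := Subgroup.subset_closure ⟨J, hJ, false, μ, hμ, rfl⟩
  have h2 : R.wordU (clsWord C.D φ J true (-μ⁻¹)) ∈ H.grp φ :=
    Subgroup.subset_closure ⟨J, hJ, true, -μ⁻¹, iterate_neg_inv φ _ μ hμ, rfl⟩
  exact Subgroup.mul_mem _ (Subgroup.mul_mem _ h1 h2) h1

/-- The product of the `h_p(φ^k μ)` over a class lies in the twisted group. -/
theorem TwHyp.hT_mem (J : List ℕ) (hJ : J ∈ H.cls) (μ : K) (hμ : φ^[J.length] μ = μ) : R.hT φ J μ ∈ H.grp φ := by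
  rw [H.U.K.hT_eq H.G φ J (H.shape J hJ) μ]
  refine Subgroup.mul_mem _ (H.nT_mem φ J hJ μ hμ) (H.nT_mem φ J hJ (-1) ?_)
  apply Function.iterate_fixed
  rw [map_neg, map_one]

/-- For coordinates compatible with the symmetry, the diagonal element of a class lies in the twisted group. -/
theorem TwHyp.hListU_cls_mem (c : ℕ → K) (hc : ∀ i < C.D.rank, c (H.G.p i) = φ (c i)) (J : List ℕ)
    (hJ : J ∈ H.cls) : R.hListU J c ∈ H.grp φ := by
  have hlt := ((twClsCheck_spec (R := R) H.G H.cls H.clsOk).2 J hJ).1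
  rcases clsShape_cases H.G (H.shape J hJ) with ⟨a, rfl, h1⟩ | ⟨a, b, rfl, h1, h2⟩ | ⟨a, b, d, rfl, h1, h2, h3⟩
  · have ha := hlt a (by simp)
    have e : R.hListU [a] c = R.hT φ [a] (c a) := by
      rw [R.hT_one]; simp [RelData.hListU]
    rw [e]
    refine H.hT_mem φ _ hJ _ ?_
    show φ (c a) = c a
    rw [← hc a ha, h1]
  · have ha := hlt a (by simp)
    have hb := hlt b (by simp)
    have e : R.hListU [a, b] c = R.hT φ [a, b] (c a) := by
      rw [R.hT_two, ← hc a ha, h1]; simp [RelData.hListU]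
    rw [e]
    refine H.hT_mem φ _ hJ _ ?_
    show φ (φ (c a)) = c a
    rw [← hc a ha, h1, ← hc b hb, h2]
  · have ha := hlt a (by simp)
    have hb := hlt b (by simp)
    have hd := hlt d (by simp)
    have e : R.hListU [a, b, d] c = R.hT φ [a, b, d] (c a) := by
      rw [R.hT_three, ← hc a ha, h1, ← hc b hb, h2]; simp [RelData.hListU, mul_assoc]
    rw [e]
    refine H.hT_mem φ _ hJ _ ?_
    show φ (φ (φ (c a))) = c a
    rw [← hc a ha, h1, ← hc b hb, h2, ← hc d hd, h3]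

end

end Cfsg.Agent.Lib.Helper3.ChevM
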