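import Mathlib
import Cfsg.Prelude.Def_ChevStructure
import Cfsg.Agent.Lib.Helper3.ChevTw15
set_option autoImplicit false
open Cfsg Cfsg.Lie
open scoped commutatorElement

/-! A twisted group is perfect. -/

namespace Cfsg.Agent.Lib.Helper3.ChevM

open ChevU

/-- Products over a list with positions, for a list without repetitions. -/
theorem zipIdx_map_eq {α β : Type*} [DecidableEq α] (L : List α) (hnd : L.Nodup) (f : α → ℕ → β) (n : ℕ) :
    (L.zipIdx n).map (fun p => f p.1 p.2) = L.map (fun a => f a (n + L.idxOf a)) := by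
  induction L generalizing n with
  | nil => rfl
  | cons a L ih =>
    rw [List.nodup_cons] at hnd
    rw [List.zipIdx_cons, List.map_cons, List.map_cons, ih hnd.2]
    congr 1
    · simp
    · apply List.map_congr_left
      intro b hb
      have hba : b ≠ a := fun e => hnd.1 (e ▸ hb)
      rw [List.idxOf_cons_ne _ (Ne.symm hba)]
      congr 1
      omega

theorem idxOf_map_of_nodup {α β : Type*} [DecidableEq α] [DecidableEq β] (J : List α) (f : α → β)
    (hnd : (J.map f).Nodup) (a : α) (ha : a ∈ J) : (J.map f).idxOf (f a) = J.idxOf a := by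
  induction J with
  | nil => exact absurd ha List.not_mem_nil
  | cons b J ih =>
    rw [List.map_cons, List.nodup_cons] at hnd
    by_cases hab : a = b
    · subst hab; simp
    · have ha' : a ∈ J := (List.mem_cons.mp ha).resolve_left hab
      have hne : f b ≠ f a := fun e => hnd.1 (e ▸ List.mem_map_of_mem ha')
      rw [List.map_cons, List.idxOf_cons_ne _ hne, List.idxOf_cons_ne _ (Ne.symm hab), ih hnd.2 ha']

theorem list_prod_map_single {M : Type*} [CommMonoid M] (J : List ℕ) (hnd : J.Nodup) (j : ℕ) (hj : j ∈ J)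
    (g : ℕ → M) (h : ∀ i ∈ J, i ≠ j → g i = 1) : (J.map g).prod = g j := by
  induction J with
  | nil => exact absurd hj List.not_mem_nil
  | cons b J ih =>
    rw [List.nodup_cons] at hnd
    rw [List.map_cons, List.prod_cons]
    by_cases hjb : j = b
    · subst hjb
      have : (J.map g).prod = 1 := by
        apply List.prod_eq_one
        intro x hx
        obtain ⟨i, hi, rfl⟩ := List.mem_map.mp hx
        exact h i (List.mem_cons_of_mem _ hi) (fun e => hnd.1 (e ▸ hi))
      rw [this, mul_one]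
    · have hj' : j ∈ J := (List.mem_cons.mp hj).resolve_left hjb
      rw [h b List.mem_cons_self (Ne.symm hjb), one_mul]
      exact ih hnd.2 hj' fun i hi hne => h i (List.mem_cons_of_mem _ hi) hne

/-- The diagonal elements of the classes act on the root subgroups of the classes by squares. -/
def twTorCheck (D : ChevalleyDatum) (cls : List (List ℕ)) : Bool :=
  cls.all fun J => [false, true].all fun neg => decide ((J.map (sgnRoot D neg)).Nodup) &&
    J.all fun i => J.all fun j =>
      decide (D.cartan i (sgnRoot D neg j) = if i = j then (if neg then -2 else 2) else 0)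

theorem twTorCheck_spec {D : ChevalleyDatum} {cls : List (List ℕ)} (h : twTorCheck D cls = true)
    (J : List ℕ) (hJ : J ∈ cls) (neg : Bool) :
    (J.map (sgnRoot D neg)).Nodup ∧ ∀ i ∈ J, ∀ j ∈ J,
      D.cartan i (sgnRoot D neg j) = if i = j then (if neg then -2 else 2) else 0 := by
  simp only [twTorCheck, List.all_eq_true, Bool.and_eq_true, decide_eq_true_eq] at h
  have := h J hJ neg (by cases neg <;> simp)
  exact this

/-- The fixed fundamental roots are sums of two fixed roots. -/
def twPerfCheck (D : ChevalleyDatum) (rho : ℕ → ℕ) (eps : ℕ → ℤ) (d : ℕ) (cls : List (List ℕ)) (fs fs' : ℕ → ℕ) : Bool :=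
  cls.all fun J => decide (J.length = d) || (decide (J.length = 1) &&
    J.all fun a => [false, true].all fun neg =>
      pairOK D (sgnRoot D neg a) (fs (sgnRoot D neg a)) (fs' (sgnRoot D neg a)) 1 &&
      decide (rho (fs (sgnRoot D neg a)) = fs (sgnRoot D neg a)) && decide (eps (fs (sgnRoot D neg a)) = 1) &&
      decide (rho (fs' (sgnRoot D neg a)) = fs' (sgnRoot D neg a)) && decide (eps (fs' (sgnRoot D neg a)) = 1))

/-- The data for the perfectness of a twisted group. -/
structure TwHyp4 (C : CDatum) (R : RelData C) extends TwHyp3 C R where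
  tor : twTorCheck C.D cls = true
  fs : ℕ → ℕ
  fs' : ℕ → ℕ
  perf : twPerfCheck C.D G.rho G.eps d cls fs fs' = true

section
variable {F : Type*} [Field F] {C : CDatum} {R : RelData C} (K : CommData C R)

include K in
theorem CommData.xU_eq_comm_of_pair (r s s' : ℕ) (c : ℤ) (hc : (c : F) ≠ 0) (hs : s < C.D.nroots)
    (hs' : s' < C.D.nroots) (h1 : s' ≠ s) (h2 : s' ≠ C.D.neg s) (hterms : C.D.commTerms s s' = [(r, c, 1, 1)])
    (t : F) : R.xU r t = ⁅(R.xU s' (1 : F))⁻¹, (R.xU s (-t / c))⁻¹⁆ := by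
  set t1 : F := -t / c with ht1
  have hcomm := K.commF (F := F) s s' hs hs' h1 h2 t1 1
  have hw : C.D.wordMat F (C.D.commWord F s s' t1 1) = C.D.x F r t := by
    unfold ChevalleyDatum.commWord
    rw [hterms]
    simp only [List.map_cons, List.map_nil, ChevalleyDatum.wordMat, List.prod_cons, List.prod_nil, mul_one, pow_one]
    congr 1
    rw [ht1]; field_simp
  rw [hw] at hcomm
  have : R.xU s' (1 : F) * R.xU s t1 = R.xU s t1 * R.xU s' (1 : F) * R.xU r t := Units.ext (by simpa using hcomm)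
  rw [commutatorElement_def, inv_inv, inv_inv]
  have h3 : R.xU r t = (R.xU s t1 * R.xU s' (1 : F))⁻¹ * (R.xU s' (1 : F) * R.xU s t1) := by
    rw [this]; group
  rw [h3]; group

end

section
variable {K : Type*} [Field K] [Fintype K] {C : CDatum} {R : RelData C} (H : TwHyp4 C R) (φ : K →+* K)

/-- The fixed points on `V` lie in the twisted group. -/
theorem TwHyp4.negUnipotent_inf_fix_le : C.D.negUnipotent K ⊓ fixG (H.sig φ) ≤ H.grp φ := by
  rintro v ⟨hv, hvfix⟩
  obtain ⟨⟨-, hn0G⟩, hmap⟩ := H.toTwHyp3.w0_spec φ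
  rw [← hmap] at hv
  obtain ⟨u, hu, rfl⟩ := hv
  have hσn : H.sig φ (R.nCls K H.w0) = R.nCls K H.w0 := (mem_fixG _ _).mp (H.toTwHyp.grp_le_fix φ hn0G)
  have hufix : H.sig φ u = u := by
    have h1 : H.sig φ (R.nCls K H.w0 * u * (R.nCls K H.w0)⁻¹) = R.nCls K H.w0 * u * (R.nCls K H.w0)⁻¹ :=
      (mem_fixG _ _).mp hvfix
    rw [map_mul, map_mul, map_inv, hσn] at h1
    exact mul_left_cancel (mul_right_cancel h1)
  have huG : u ∈ H.grp φ := by
    have : u ∈ C.D.posUnipotent K ⊓ fixG (H.sig φ) := ⟨hu, (mem_fixG _ _).mpr hufix⟩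
    rw [← H.toTwHyp.posUnipotent_inf_grp φ] at this
    exact this.2
  exact Subgroup.mul_mem _ (Subgroup.mul_mem _ hn0G huG) (Subgroup.inv_mem _ hn0G)

/-- The root elements of the fixed roots with fixed parameters lie in the twisted group. -/
theorem TwHyp4.xU_fixed_mem (s : ℕ) (hs : s < C.D.nroots) (hρ : H.G.rho s = s) (hε : H.G.eps s = 1) (t : K)
    (ht : φ t = t) : R.xU s t ∈ H.grp φ := by
  have hfix : H.sig φ (R.xU s t) = R.xU s t := by
    rw [H.G.sig_xU φ R s hs, hρ, hε, Int.cast_one, one_mul, ht]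
  rcases signCheck_or (H.sign s hs) with hpos | hneg
  · have : R.xU s t ∈ C.D.posUnipotent K ⊓ fixG (H.sig φ) :=
      ⟨Subgroup.subset_closure ⟨s, t, hpos, R.xU_val _ _⟩, (mem_fixG _ _).mpr hfix⟩
    rw [← H.toTwHyp.posUnipotent_inf_grp φ] at this
    exact this.2
  · exact H.negUnipotent_inf_fix_le φ
      ⟨Subgroup.subset_closure ⟨s, t, hneg, R.xU_val _ _⟩, (mem_fixG _ _).mpr hfix⟩

/-- The coordinates of a generator of the twisted group. -/
def clsCoord (D : ChevalleyDatum) (φ : K →+* K) (J : List ℕ) (neg : Bool) (t : K) : ℕ → K :=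
  fun r => φ^[(J.map (sgnRoot D neg)).idxOf r] t

omit [Fintype K] in
theorem clsWord_eq_lp (J : List ℕ) (neg : Bool) (t : K) (hnd : (J.map (sgnRoot C.D neg)).Nodup) :
    R.wordU (clsWord C.D φ J neg t) = R.lp (J.map (sgnRoot C.D neg)) (clsCoord C.D φ J neg t) := by
  have h1 : R.wordU (clsWord C.D φ J neg t) =
      (((J.map (sgnRoot C.D neg)).zipIdx).map fun q => R.xU q.1 (φ^[q.2] t)).prod := by
    rw [List.zipIdx_map]
    simp only [clsWord, RelData.wordU, List.map_map]
    rfl
  rw [h1, zipIdx_map_eq _ hnd (fun a k => R.xU a (φ^[k] t)) 0]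
  simp only [zero_add]
  rfl

omit [Fintype K] in
theorem clsCoord_add (J : List ℕ) (neg : Bool) (t t' : K) (r : ℕ) :
    clsCoord C.D φ J neg t r + clsCoord C.D φ J neg t' r = clsCoord C.D φ J neg (t + t') r := by
  unfold clsCoord
  rw [iterate_map_add]

omit [Fintype K] in
/-- The root subgroups of a class and a sign commute. -/
theorem TwHyp4.cls_comm_sgn (J : List ℕ) (hJ : J ∈ H.cls) (neg : Bool) :
    ∀ r ∈ J.map (sgnRoot C.D neg), ∀ s ∈ J.map (sgnRoot C.D neg), ∀ x y : K,
      R.xU r x * R.xU s y = R.xU s y * R.xU r x := by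
  have hJs := H.shape J hJ
  simp only [clsShapeCheck, Bool.and_eq_true, List.all_eq_true, decide_eq_true_eq, Bool.or_eq_true] at hJs
  obtain ⟨hall, -⟩ := hJs
  intro r hr s hs x y
  obtain ⟨a, ha, rfl⟩ := List.mem_map.mp hr
  obtain ⟨b, hb, rfl⟩ := List.mem_map.mp hs
  by_cases hab : a = b
  · subst hab; rw [R.xU_add, R.xU_add, add_comm]
  · exact (H.U.K.xU_comm_sgn (K := K) neg neg a b (hall a ha).1.1 (hall b hb).1.1
      (((hall a ha).2 b hb).resolve_left hab) x y).eq

omit [Fintype K] in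
/-- The generators of a class for which the whole field is allowed are commutators. -/
theorem TwHyp4.gen_mem_comm_of_torus (J : List ℕ) (hJ : J ∈ H.cls) (hall : ∀ x : K, φ^[J.length] x = x)
    (lam : K) (hl0 : lam ≠ 0) (hl1 : lam ^ 2 ≠ 1) (neg : Bool) (t : K) :
    R.wordU (clsWord C.D φ J neg t) ∈ ⁅H.grp φ, H.grp φ⁆ := by
  obtain ⟨hndL, hcart⟩ := twTorCheck_spec H.tor J hJ neg
  have hJlt := H.toTwHyp2.cls_lt J hJ
  have hndJ : J.Nodup := List.Nodup.of_map _ hndL
  set L := J.map (sgnRoot C.D neg) with hL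
  have hLlt : ∀ r ∈ L, r < C.D.nroots := by
    intro r hr
    obtain ⟨a, ha, rfl⟩ := List.mem_map.mp hr
    have := R.simple_lt a (hJlt a ha)
    cases neg
    · simpa [sgnRoot] using this
    · simpa [sgnRoot] using R.neg_lt _ this
  have hcomm := H.cls_comm_sgn (K := K) J hJ neg
  set e : ℤ := if neg then -2 else 2 with he
  -- the diagonal element
  set c : ℕ → K := fun i => φ^[J.idxOf i] lam with hc
  have hc0 : ∀ i ∈ J, c i ≠ 0 := by
    intro i _
    have e1 : ∀ (k : ℕ) (x : K), φ^[k] x = (φ ^ k) x := fun k x => by rw [RingHom.coe_pow]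
    show φ^[J.idxOf i] lam ≠ 0
    rw [e1]
    exact (map_ne_zero _).mpr hl0
  set h := R.hListU J c with hh
  have hhT : h = R.hT φ J lam := by
    rw [hh]
    unfold RelData.hT RelData.hListU
    rw [zipIdx_map_eq J hndJ (fun a k => R.hU (C.D.simple a) (φ^[k] lam)) 0]
    simp only [zero_add]
    rfl
  have hhG : h ∈ H.grp φ := by rw [hhT]; exact H.toTwHyp.hT_mem φ J hJ lam (hall lam)
  have key := fun s hs u => R.hList_mul_x (F := K) J hJlt c hc0 s hs u
  simp only [← R.hListU_val] at key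
  set χ : ℕ → K := fun s => (J.map fun i => c i ^ C.D.cartan i s).prod with hχ
  have hχL : ∀ j ∈ J, χ (sgnRoot C.D neg j) = (φ^[J.idxOf j] lam) ^ e := by
    intro j hj
    have := list_prod_map_single J hndJ j hj (fun i => c i ^ C.D.cartan i (sgnRoot C.D neg j)) (by
      intro i hi hij
      show c i ^ C.D.cartan i (sgnRoot C.D neg j) = 1
      rw [hcart i hi j hj, if_neg hij, zpow_zero])
    rw [hχ]
    show (J.map fun i => c i ^ C.D.cartan i (sgnRoot C.D neg j)).prod = _
    rw [this]
    show c j ^ C.D.cartan j (sgnRoot C.D neg j) = _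
    rw [hcart j hj j hj, if_pos rfl]
  -- conjugation of the generators
  have hconj : ∀ u : K, h * R.lp L (clsCoord C.D φ J neg u) * h⁻¹ = R.lp L (clsCoord C.D φ J neg (lam ^ e * u)) := by
    intro u
    have h5 := R.diag_mul_lp (F := K) h χ key L hLlt (clsCoord C.D φ J neg u)
    rw [h5, mul_inv_cancel_right]
    apply R.lp_congr
    intro r hr
    obtain ⟨j, hj, rfl⟩ := List.mem_map.mp hr
    rw [hχL j hj]
    unfold clsCoord
    rw [← hL, idxOf_map_of_nodup J _ hndL j hj]
    have e1 : ∀ (k : ℕ) (x : K), φ^[k] x = (φ ^ k) x := fun k x => by rw [RingHom.coe_pow]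
    rw [e1, e1, e1, map_mul, map_zpow₀]
  -- the inverse of a generator
  have hinv : ∀ u : K, (R.lp L (clsCoord C.D φ J neg u))⁻¹ = R.lp L (clsCoord C.D φ J neg (-u)) := by
    intro u
    rw [inv_eq_iff_mul_eq_one, R.lp_add L hcomm]
    have : (fun r => clsCoord C.D φ J neg u r + clsCoord C.D φ J neg (-u) r) = fun _ => (0 : K) := by
      funext r
      rw [clsCoord_add, add_neg_cancel]
      unfold clsCoord
      exact Function.iterate_fixed (map_zero φ) _
    rw [this, R.lp_zero]
  have hle : lam ^ e ≠ 1 := by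
    rw [he]
    cases neg
    · simpa using hl1
    · simp only [if_true]
      intro h1
      apply hl1
      have : (lam ^ (2 : ℕ))⁻¹ = 1 := by
        rw [← h1]; simp [zpow_neg]
      exact inv_eq_one.mp this
  have hne : lam ^ e - 1 ≠ 0 := sub_ne_zero.mpr hle
  set t' : K := t / (lam ^ e - 1) with ht'
  have hgen : ∀ u : K, R.lp L (clsCoord C.D φ J neg u) ∈ H.grp φ := by
    intro u
    rw [← clsWord_eq_lp φ J neg u hndL]
    exact Subgroup.subset_closure ⟨J, hJ, neg, u, hall u, rfl⟩
  have hcomm2 : R.lp L (clsCoord C.D φ J neg t) = ⁅h, R.lp L (clsCoord C.D φ J neg t')⁆ := by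
    rw [commutatorElement_def, hconj, hinv, R.lp_add L hcomm]
    apply R.lp_congr
    intro r _
    rw [clsCoord_add]
    congr 1
    rw [ht']; field_simp; ring
  rw [clsWord_eq_lp φ J neg t hndL, hcomm2]
  exact Subgroup.commutator_mem_commutator hhG (hgen t')

/-- The generators of the classes of fixed roots are commutators. -/
theorem TwHyp4.gen_mem_comm_of_pair (a : ℕ)
    (hp : ∀ neg : Bool,
      (((pairOK C.D (sgnRoot C.D neg a) (H.fs (sgnRoot C.D neg a)) (H.fs' (sgnRoot C.D neg a)) 1 = true ∧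
      H.G.rho (H.fs (sgnRoot C.D neg a)) = H.fs (sgnRoot C.D neg a)) ∧ H.G.eps (H.fs (sgnRoot C.D neg a)) = 1) ∧
      H.G.rho (H.fs' (sgnRoot C.D neg a)) = H.fs' (sgnRoot C.D neg a)) ∧ H.G.eps (H.fs' (sgnRoot C.D neg a)) = 1)
    (neg : Bool) (t : K) (ht : φ t = t) :
    R.wordU (clsWord C.D φ [a] neg t) ∈ ⁅H.grp φ, H.grp φ⁆ := by
  rw [wordU_clsWord_one]
  obtain ⟨⟨⟨⟨hpair, hρ1⟩, hε1⟩, hρ2⟩, hε2⟩ := hp neg
  set r := sgnRoot C.D neg a with hr
  simp only [pairOK, Bool.and_eq_true, Bool.or_eq_true, decide_eq_true_eq] at hpair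
  obtain ⟨⟨⟨⟨h1, h2⟩, h3⟩, h4⟩, h5⟩ := hpair
  have hmem : ∀ c : ℤ, (c = 1 ∨ c = -1) → C.D.commTerms (H.fs r) (H.fs' r) = [(r, c, 1, 1)] →
      R.xU r t ∈ ⁅H.grp φ, H.grp φ⁆ := by
    intro c hc hterms
    have hc0 : (c : K) ≠ 0 := by rcases hc with rfl | rfl <;> simp
    rw [H.U.K.xU_eq_comm_of_pair (F := K) r _ _ c hc0 h1 h2 h3 h4 hterms t]
    refine Subgroup.commutator_mem_commutator (Subgroup.inv_mem _ ?_) (Subgroup.inv_mem _ ?_)
    · exact H.xU_fixed_mem φ _ h2 hρ2 hε2 1 (map_one φ)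
    · refine H.xU_fixed_mem φ _ h1 hρ1 hε1 _ ?_
      rw [map_div₀, map_neg, ht, map_intCast]
  rcases h5 with h5 | h5
  · exact hmem 1 (Or.inl rfl) h5
  · exact hmem (-1) (Or.inr rfl) h5

/-- A twisted group is perfect. -/
theorem TwHyp4.perfect (hφd : ∀ x : K, φ^[H.d] x = x) (hK : 3 < Fintype.card K) :
    commutator ↥(H.grp φ) = ⊤ := by
  classical
  -- an element whose square is not one
  obtain ⟨lam, hl0, hl1⟩ : ∃ lam : K, lam ≠ 0 ∧ lam ^ 2 ≠ 1 := by
    by_contra hcon
    push Not at hcon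
    have hsub : (Finset.univ : Finset K) ⊆ {0, 1, -1} := by
      intro x _
      by_cases hx : x = 0
      · simp [hx]
      · have h2 := hcon x hx
        have : (x - 1) * (x + 1) = 0 := by ring_nf; rw [h2]; ring
        rcases mul_eq_zero.mp this with h | h
        · simp [sub_eq_zero.mp h]
        · simp [eq_neg_of_add_eq_zero_left h]
    have := Finset.card_le_card hsub
    rw [Finset.card_univ] at this
    have h3 : ({0, 1, -1} : Finset K).card ≤ 3 := Finset.card_le_three
    omega
  have key : H.grp φ ≤ ⁅H.grp φ, H.grp φ⁆ := by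
    conv_lhs => unfold TwHyp.grp RelData.twGroup
    rw [Subgroup.closure_le]
    rintro g ⟨J, hJ, neg, t, ht, rfl⟩
    have hperf := H.perf
    simp only [twPerfCheck, List.all_eq_true, Bool.or_eq_true, Bool.and_eq_true, decide_eq_true_eq] at hperf
    rcases hperf J hJ with hd | ⟨h1, hpairs⟩
    · exact H.gen_mem_comm_of_torus φ J hJ (by rw [hd]; exact hφd) lam hl0 hl1 neg t
    · obtain ⟨a, rfl⟩ := List.length_eq_one_iff.mp h1
      refine H.gen_mem_comm_of_pair φ a ?_ neg t ht
      intro neg'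
      exact hpairs a (by simp) neg' (by cases neg' <;> simp)
  rw [eq_top_iff]
  intro g _
  have hg := key g.2
  rw [← Subgroup.map_subtype_commutator] at hg
  obtain ⟨g', hg', e⟩ := hg
  have : g' = g := Subtype.ext e
  rwa [this] at hg'

end

end Cfsg.Agent.Lib.Helper3.ChevM
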