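import Mathlib
import Cfsg.Prelude.Def_ChevStructure
import Cfsg.Agent.Lib.Helper3.ChevO1
set_option autoImplicit false
open Cfsg Cfsg.Lie

/-! Elements of `H` conjugate in the group are conjugate under `N`. -/

namespace Cfsg.Agent.Lib.Helper3.ChevM

open ChevT ChevU

section
variable {F : Type*} [Field F] {C : CDatum} {R : RelData C}

theorem RelData.diagonal_comm (R : RelData C)
    (hdec : ∀ r < C.D.nroots, ∀ s < C.D.nroots, hdecCheck C.D R.pair r s = true)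
    (a b : GL C.D.Idx F) (ha : a ∈ C.D.diagonalSubgroup F) (hb : b ∈ C.D.diagonalSubgroup F) : a * b = b * a := by
  obtain ⟨c, -, hc⟩ := R.diagonalSubgroup_le_torus hdec ha
  obtain ⟨c', -, hc'⟩ := R.diagonalSubgroup_le_torus hdec hb
  apply Units.ext
  rw [Units.val_mul, Units.val_mul, hc, hc', Matrix.diagonal_mul_diagonal, Matrix.diagonal_mul_diagonal]
  congr 1
  funext j
  exact mul_comm _ _

variable (Uh : UHyp C R) (Hy : BNHyp C R)
include Uh Hy

/-- `H` normalises `U_w⁻`. -/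
theorem UHyp.diagonal_conj_uMinus (n h u : GL C.D.Idx F) (hh : h ∈ C.D.diagonalSubgroup F)
    (hu : u ∈ uMinus C.D F n) : h * u * h⁻¹ ∈ uMinus C.D F n := by
  have : uMinus C.D F n ≤ (uMinus C.D F n).comap (MulAut.conj h).toMonoidHom := by
    unfold uMinus
    rw [Subgroup.closure_le]
    rintro x ⟨r, t, hr, hle, hx⟩
    have hx' : x = R.xU r t := Units.ext hx
    subst hx'
    obtain ⟨c', hc', -, key⟩ := R.diagonal_mul_x Hy.dec h hh
    show h * R.xU r t * h⁻¹ ∈ uMinus C.D F n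
    have e : h * R.xU r t * h⁻¹ =
        R.xU r (((List.range C.D.rank).map fun i => c' i ^ C.D.cartan i r).prod * t) := by
      apply Units.ext
      rw [Units.val_mul, Units.val_mul, R.xU_val, R.xU_val, key r hr.1, mul_assoc, ← Units.val_mul, mul_inv_cancel,
        Units.val_one, mul_one]
    rw [e]
    exact Subgroup.subset_closure ⟨r, _, hr, hle, R.xU_val _ _⟩
  have := this hu
  unfold uMinus at this ⊢
  simpa using this

/-- S1046 -/
theorem UHyp.diagonal_conj_in_monomial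
    (hntri : ∀ r < C.D.nroots, negTri C r = true)
    (hsign : ∀ r < C.D.nroots, C.D.IsPosRoot r ∨ C.D.IsNegRoot r)
    (h₁ h₂ g : GL C.D.Idx F) (h1 : h₁ ∈ C.D.diagonalSubgroup F) (h2 : h₂ ∈ C.D.diagonalSubgroup F)
    (hg : g ∈ C.D.group F) (hc : g * h₁ * g⁻¹ = h₂) :
    ∃ n ∈ C.D.monomialSubgroup F, n * h₁ * n⁻¹ = h₂ := by
  obtain ⟨bru1, bru2⟩ := Uh.bruhat_normal_form (F := F) Hy hntri hsign
  obtain ⟨hHU, hUH⟩ := R.diagonal_normalizes (F := F) Hy.dec Hy.mono.tri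
  have hHB : C.D.diagonalSubgroup F ≤ C.D.borelSubgroup F := le_sup_right
  obtain ⟨b, hb, n, hn, u, hu, rfl⟩ := bru1 g hg
  refine ⟨n, hn, ?_⟩
  set k := n * h₁ * n⁻¹ with hk
  have hkH : k ∈ C.D.diagonalSubgroup F := Hy.mono.conj_mem n hn h₁ h1
  -- compare the canonical forms of `g h₁ = h₂ g`
  have e1 : b * n * u * h₁ = h₂ * (b * n * u) := by
    rw [← hc]; group
  have e2 : (b * k) * n * (h₁⁻¹ * u * h₁) = (h₂ * b) * n * u := by
    rw [hk]
    have : b * (n * h₁ * n⁻¹) * n * (h₁⁻¹ * u * h₁) = b * n * u * h₁ := by group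
    rw [this, e1]; group
  have hu' : h₁⁻¹ * u * h₁ ∈ uMinus C.D F n := by
    have := Uh.diagonal_conj_uMinus Hy n h₁⁻¹ u (Subgroup.inv_mem _ h1) hu
    rwa [inv_inv] at this
  obtain ⟨-, h3⟩ := bru2 (b * k) (h₂ * b) n n (h₁⁻¹ * u * h₁) u (Subgroup.mul_mem _ hb (hHB hkH))
    (Subgroup.mul_mem _ (hHB h2) hb) hn hn hu' hu e2
  obtain ⟨h4, -⟩ := h3 rfl
  -- `b k = h₂ b` with `b = u' h`
  have hset := Subgroup.coe_mul_of_right_le_normalizer_left (C.D.posUnipotent F) (C.D.diagonalSubgroup F) hHU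
  have hb' : b ∈ ((C.D.posUnipotent F ⊔ C.D.diagonalSubgroup F : Subgroup _) : Set _) := hb
  rw [hset] at hb'
  obtain ⟨u', hu'U, h, hh, rfl⟩ := Set.mem_mul.mp hb'
  have hkh : h * k = k * h := R.diagonal_comm Hy.dec h k hh hkH
  have e3 : u' * k = h₂ * u' := by
    have : u' * k = (u' * h * k) * h⁻¹ := by
      rw [mul_assoc u' h k, hkh]; group
    rw [this, h4]; group
  -- `h₂ k⁻¹ ∈ U ∩ H`
  have e4 : h₂⁻¹ * k = u' * (k⁻¹ * u'⁻¹ * k) := by
    have : k = u'⁻¹ * (h₂ * u') := by rw [← e3]; group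
    calc h₂⁻¹ * k = h₂⁻¹ * (u' * k * u'⁻¹) * u' * (k⁻¹ * u'⁻¹ * k) := by group
      _ = u' * (k⁻¹ * u'⁻¹ * k) := by rw [e3]; group
  have h5 : k⁻¹ * u'⁻¹ * k ∈ C.D.posUnipotent F := by
    have := hHU (Subgroup.inv_mem _ hkH)
    rw [Subgroup.mem_normalizer_iff] at this
    have := (this u'⁻¹).mp (Subgroup.inv_mem _ hu'U)
    rwa [inv_inv] at this
  have h6 : h₂⁻¹ * k ∈ C.D.posUnipotent F ⊓ C.D.diagonalSubgroup F :=
    ⟨e4 ▸ Subgroup.mul_mem _ hu'U h5, Subgroup.mul_mem _ (Subgroup.inv_mem _ h2) hkH⟩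
  rw [hUH, Subgroup.mem_bot] at h6
  exact (inv_mul_eq_one.mp h6).symm

end

end Cfsg.Agent.Lib.Helper3.ChevM
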