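import Mathlib
import Cfsg.Prelude.Def_ChevStructure
import Cfsg.Agent.Lib.Helper3.ChevTw16
import Cfsg.Agent.Lib.Helper3.ChevU5
set_option autoImplicit false
open Cfsg Cfsg.Lie

/-! The torus of a Chevalley group and the action of the twisting automorphism on it. -/

namespace Cfsg.Agent.Lib.Helper3.ChevM

open ChevU ChevT ChevH

section
variable {K : Type*} [Field K] {C : CDatum} (R : RelData C)

/-- Coordinates indexed by the natural numbers. -/
def cN (c : Fin C.D.rank → Kˣ) : ℕ → K := fun i => if h : i < C.D.rank then (c ⟨i, h⟩ : K) else 1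

theorem cN_ne_zero (c : Fin C.D.rank → Kˣ) (i : ℕ) : cN c i ≠ 0 := by
  unfold cN
  split_ifs
  · exact Units.ne_zero _
  · exact one_ne_zero

theorem cN_lt (c : Fin C.D.rank → Kˣ) (i : ℕ) (hi : i < C.D.rank) : cN c i = (c ⟨i, hi⟩ : K) := by
  unfold cN
  rw [dif_pos hi]

/-- The element `∏ h_{p_i}(c_i)` of the torus. -/
def RelData.tor (c : Fin C.D.rank → Kˣ) : GL C.D.Idx K := R.hListU (List.range C.D.rank) (cN c)

theorem RelData.tor_eq_diagU (c : Fin C.D.rank → Kˣ) : R.tor c = diagU C.D K (rootChar C.D K c) := by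
  apply Units.ext
  have hc : ∀ i < C.D.rank, cN c i ≠ 0 := fun i _ => cN_ne_zero c i
  unfold RelData.tor
  rw [R.hListU_val, R.hProd_eq_diag (cN c) hc]
  show _ = Matrix.diagonal _
  congr 1
  funext j
  rcases j with j | s
  · rw [R.torusExp_inl]; rfl
  · rw [R.torusExp_inr, list_range_prod_eq]
    show _ = ((∏ i, c i ^ C.D.cartan i.val s.val : Kˣ) : K)
    rw [Units.coe_prod]
    apply Finset.prod_congr rfl
    intro i _
    rw [cN_lt c i.val i.isLt, Units.val_zpow_eq_zpow_val]

theorem RelData.tor_mul (c c' : Fin C.D.rank → Kˣ) : R.tor (c * c') = R.tor c * R.tor c' := by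
  rw [R.tor_eq_diagU, R.tor_eq_diagU, R.tor_eq_diagU, map_mul]
  apply Units.ext
  rw [Units.val_mul]
  simp only [diagU]
  rw [Matrix.diagonal_mul_diagonal]
  congr 1
  funext j
  rcases j with j | s <;> simp

theorem RelData.tor_one : R.tor (K := K) (1 : Fin C.D.rank → Kˣ) = 1 := by
  rw [R.tor_eq_diagU, map_one]
  apply Units.ext
  simp only [diagU]
  rw [Units.val_one, ← Matrix.diagonal_one]
  congr 1
  funext j
  rcases j with j | s <;> simp

/-- The torus as a homomorphism. -/
def RelData.torHom : (Fin C.D.rank → Kˣ) →* GL C.D.Idx K where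
  toFun := R.tor
  map_one' := R.tor_one
  map_mul' := R.tor_mul

theorem RelData.tor_mem (c : Fin C.D.rank → Kˣ) : R.tor c ∈ C.D.diagonalSubgroup K :=
  R.hListU_mem _ (fun i hi => List.mem_range.mp hi) _ (fun i _ => cN_ne_zero c i)

theorem RelData.exists_tor (hdec : ∀ r < C.D.nroots, ∀ s < C.D.nroots, hdecCheck C.D R.pair r s = true)
    (h : GL C.D.Idx K) (hh : h ∈ C.D.diagonalSubgroup K) : ∃ c : Fin C.D.rank → Kˣ, R.tor c = h := by
  have := R.image_diagU (F := K) hdec
  have hh' : h ∈ (C.D.diagonalSubgroup K : Set (GL C.D.Idx K)) := hh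
  rw [← this] at hh'
  obtain ⟨χ, ⟨c, rfl⟩, rfl⟩ := hh'
  exact ⟨c, R.tor_eq_diagU c⟩

theorem RelData.tor_eq_one_iff (c : Fin C.D.rank → Kˣ) : R.tor c = 1 ↔ rootChar C.D K c = 1 := by
  rw [← R.tor_one (K := K), R.tor_eq_diagU, R.tor_eq_diagU, map_one]
  exact (diagU_injective C.D K).eq_iff

/-- Products of commuting diagonal elements along permuted lists. -/
theorem RelData.hListU_perm (hdec : ∀ r < C.D.nroots, ∀ s < C.D.nroots, hdecCheck C.D R.pair r s = true)
    (l l' : List ℕ) (hp : l.Perm l') (hl : ∀ i ∈ l, i < C.D.rank) (c : ℕ → K) (hc : ∀ i ∈ l, c i ≠ 0) :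
    R.hListU l c = R.hListU l' c := by
  unfold RelData.hListU
  apply List.Perm.prod_eq' (hp.map _)
  apply List.pairwise_of_forall_mem_list
  intro x hx y hy
  obtain ⟨i, hi, rfl⟩ := List.mem_map.mp hx
  obtain ⟨j, hj, rfl⟩ := List.mem_map.mp hy
  exact R.diagonal_comm hdec _ _ (R.hU_mem _ (R.simple_lt i (hl i hi)) _ (hc i hi))
    (R.hU_mem _ (R.simple_lt j (hl j hj)) _ (hc j hj))

theorem RelData.hListU_append (l l' : List ℕ) (c : ℕ → K) :
    R.hListU (l ++ l') c = R.hListU l c * R.hListU l' c := by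
  unfold RelData.hListU
  rw [List.map_append, List.prod_append]

theorem RelData.hListU_flatten (L : List (List ℕ)) (c : ℕ → K) :
    R.hListU L.flatten c = (L.map fun J => R.hListU J c).prod := by
  induction L with
  | nil => rfl
  | cons J L ih => rw [List.flatten_cons, R.hListU_append, ih, List.map_cons, List.prod_cons]

end

section
variable {K : Type*} [Field K] {C : CDatum} {R : RelData C} (G : GraphData C) (φ : K →+* K)
  (htw : twTabCheck C.D G.rho G.eps = true)
  (hrf : twReflCheck C.D R.refl G.p G.rho = true)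

include htw hrf in
/-- The twisting automorphism on the `h_p(t)` for fundamental roots `p`. -/
theorem GraphData.sig_hU_simple (i : ℕ) (hi : i < C.D.rank) (hε : G.eps (C.D.simple i) = 1) (t : K) :
    G.sig φ (R.hU (C.D.simple i) t) = R.hU (C.D.simple (G.p i)) (φ t) := by
  obtain ⟨-, h2, -⟩ := twReflCheck_spec (R := R) G hrf i hi
  rw [R.hU_eq, R.hU_eq, map_mul, G.sig_nU φ R htw _ (R.simple_lt i hi), G.sig_nU φ R htw _ (R.simple_lt i hi), h2, hε,
    Int.cast_one, one_mul, one_mul, map_neg, map_one]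

include htw hrf in
theorem GraphData.sig_hListU (l : List ℕ) (hl : ∀ i ∈ l, i < C.D.rank) (hε : ∀ i < C.D.rank, G.eps (C.D.simple i) = 1)
    (c : ℕ → K) :
    G.sig φ (R.hListU l c) = R.hListU (l.map G.p) (fun j => φ (c (G.pInv j))) := by
  unfold RelData.hListU
  rw [map_list_prod, List.map_map, List.map_map]
  congr 1
  apply List.map_congr_left
  intro i hi
  have hi' := hl i hi
  show G.sig φ (R.hU (C.D.simple i) (c i)) = R.hU (C.D.simple (G.p i)) (φ (c (G.pInv (G.p i))))
  rw [G.sig_hU_simple (R := R) φ htw hrf i hi' (hε i hi'), (G.p_spec i hi').2.2.1]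

end

section
variable {K : Type*} [Field K] {C : CDatum} (G : GraphData C) (φ : K →+* K)

/-- The inverse of the symmetry of the diagram on the indices. -/
def GraphData.pInvF (j : Fin C.D.rank) : Fin C.D.rank := ⟨G.pInv j.val, (G.p_spec j.val j.isLt).2.1⟩

/-- The action of the twisting automorphism on the coordinates of the torus. -/
def GraphData.sigT : (Fin C.D.rank → Kˣ) →* (Fin C.D.rank → Kˣ) where
  toFun c := fun j => Units.map φ.toMonoidHom (c (G.pInvF j))
  map_one' := by funext j; simp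
  map_mul' c c' := by funext j; simp

theorem GraphData.cN_sigT (c : Fin C.D.rank → Kˣ) (j : ℕ) (hj : j < C.D.rank) :
    cN (G.sigT φ c) j = φ (cN c (G.pInv j)) := by
  rw [cN_lt _ j hj, cN_lt _ _ (G.p_spec j hj).2.1]
  rfl

theorem GraphData.range_map_p_perm : ((List.range C.D.rank).map G.p).Perm (List.range C.D.rank) := by
  apply (List.perm_ext_iff_of_nodup ?_ List.nodup_range).mpr
  · intro a
    rw [List.mem_map, List.mem_range]
    constructor
    · rintro ⟨i, hi, rfl⟩
      exact (G.p_spec i (List.mem_range.mp hi)).1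
    · intro ha
      exact ⟨G.pInv a, List.mem_range.mpr (G.p_spec a ha).2.1, (G.p_spec a ha).2.2.2⟩
  · apply List.Nodup.map_on _ List.nodup_range
    intro x hx y hy hxy
    have h1 := (G.p_spec x (List.mem_range.mp hx)).2.2.1
    have h2 := (G.p_spec y (List.mem_range.mp hy)).2.2.1
    rw [← h1, ← h2, hxy]

end

section
variable {K : Type*} [Field K] {C : CDatum} {R : RelData C} (H : TwHyp C R) (φ : K →+* K)

/-- The twisting automorphism on the torus. -/
theorem TwHyp.sig_tor (c : Fin C.D.rank → Kˣ) : H.sig φ (R.tor c) = R.tor (H.G.sigT φ c) := by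
  unfold RelData.tor
  rw [H.G.sig_hListU (R := R) φ H.tab H.rf _ (fun i hi => List.mem_range.mp hi) H.eps_simple]
  have hperm := H.G.range_map_p_perm
  rw [R.hListU_perm H.B.dec _ _ hperm]
  · unfold RelData.hListU
    congr 1
    apply List.map_congr_left
    intro j hj
    rw [H.G.cN_sigT φ c j (List.mem_range.mp hj)]
  · intro i hi
    exact List.mem_range.mp (hperm.subset hi)
  · intro i _
    exact (map_ne_zero φ).mpr (cN_ne_zero c _)

end

end Cfsg.Agent.Lib.Helper3.ChevM
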