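import Mathlib
import Cfsg.Prelude.Def_ChevStructure
import Cfsg.Agent.Lib.Helper3.ChevFld1
import Cfsg.Agent.Lib.Helper3.ChevO1
import Cfsg.Agent.Lib.Helper3.ChevTw18
set_option autoImplicit false
set_option linter.unusedSectionVars false
open Cfsg Cfsg.Lie

/-! The elements of a Chevalley group fixed by a field endomorphism applied to the entries. -/

namespace Cfsg.Agent.Lib.Helper3.ChevM

open ChevU ChevT ChevH

section
variable {F : Type*} [Field F] (σ : F →+* F) {C : CDatum} {R : RelData C}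

/-- The subgroup generated by the root elements with parameters fixed by `σ`. -/
def fixL (D : ChevalleyDatum) : Subgroup (GL D.Idx F) :=
  Subgroup.closure {g | ∃ (s : ℕ) (t : F), s < D.nroots ∧ σ t = t ∧ (g : Matrix D.Idx D.Idx F) = D.x F s t}

theorem RelData.xU_mem_fixL (R : RelData C) (s : ℕ) (hs : s < C.D.nroots) (t : F) (ht : σ t = t) :
    R.xU s t ∈ fixL σ C.D :=
  Subgroup.subset_closure ⟨s, t, hs, ht, R.xU_val s t⟩

theorem RelData.nU_mem_fixL (R : RelData C) (s : ℕ) (hs : s < C.D.nroots) (t : F) (ht : σ t = t) :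
    R.nU s t ∈ fixL σ C.D := by
  rw [R.nU_eq]
  refine Subgroup.mul_mem _ (Subgroup.mul_mem _ (R.xU_mem_fixL σ s hs t ht) ?_) (R.xU_mem_fixL σ s hs t ht)
  apply R.xU_mem_fixL σ _ (R.neg_lt s hs)
  rw [map_neg, map_inv₀, ht]

theorem RelData.hU_mem_fixL (R : RelData C) (s : ℕ) (hs : s < C.D.nroots) (t : F) (ht : σ t = t) :
    R.hU s t ∈ fixL σ C.D := by
  rw [R.hU_eq]
  refine Subgroup.mul_mem _ (R.nU_mem_fixL σ s hs t ht) (R.nU_mem_fixL σ s hs _ ?_)
  rw [map_neg, map_one]

theorem RelData.nWordU_mem_fixL (R : RelData C) (l : List ℕ) (hl : ∀ i ∈ l, i < C.D.rank) :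
    R.nWordU (F := F) l ∈ fixL σ C.D := by
  unfold RelData.nWordU
  apply Subgroup.list_prod_mem
  intro x hx
  obtain ⟨i, hi, rfl⟩ := List.mem_map.mp hx
  exact R.nU_mem_fixL σ _ (R.simple_lt i (hl i hi)) 1 (map_one σ)

theorem RelData.lprod_map (R : RelData C) (L : List ℕ) (t : ℕ → F) :
    Matrix.GeneralLinearGroup.map σ (RootSys.lprod (fun r (t : F) => R.xU r t) L t) =
      RootSys.lprod (fun r (t : F) => R.xU r t) L (fun r => σ (t r)) := by
  unfold RootSys.lprod
  rw [map_list_prod, List.map_map]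
  congr 1
  apply List.map_congr_left
  intro r _
  simp only [Function.comp_apply]
  exact R.map_xU' σ r (t r)

theorem fixL_le_fix (R : RelData C) (g : GL C.D.Idx F) (hg : g ∈ fixL σ C.D) :
    Matrix.GeneralLinearGroup.map σ g = g := by
  unfold fixL at hg
  induction hg using Subgroup.closure_induction with
  | mem x hx =>
    obtain ⟨s, t, hs, ht, hx⟩ := hx
    have : x = R.xU s t := Units.ext hx
    rw [this, R.map_xU', ht]
  | one => exact map_one _
  | mul x y _ _ hx hy => rw [map_mul, hx, hy]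
  | inv x _ hx => rw [map_inv, hx]

theorem fixL_le_group (R : RelData C) : fixL σ C.D ≤ C.D.group F := by
  unfold fixL
  rw [Subgroup.closure_le]
  rintro g ⟨s, t, hs, -, hg⟩
  have : g = R.xU s t := Units.ext hg
  rw [this]
  exact R.xU_mem_group s hs t

variable (Uh : UHyp C R) (Hy : BNHyp C R)
include Uh Hy

/-- A product of positive root elements in increasing order which is fixed has fixed parameters. -/
theorem UHyp.lprod_fixed_mem (L : List ℕ) (hL : L.Pairwise (· < ·)) (hpos : ∀ r ∈ L, C.D.IsPosRoot r)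
    (t : ℕ → F)
    (hfix : Matrix.GeneralLinearGroup.map σ (RootSys.lprod (fun r (t : F) => R.xU r t) L t) =
      RootSys.lprod (fun r (t : F) => R.xU r t) L t) :
    RootSys.lprod (fun r (t : F) => R.xU r t) L t ∈ fixL σ C.D := by
  rw [R.lprod_map σ L t] at hfix
  have := R.lprod_inj Uh.hf Uh.fr Uh.wj Uh.wi Uh.lev Uh.frm Uh.wit L hL hpos _ _ hfix
  unfold RootSys.lprod
  apply Subgroup.list_prod_mem
  intro x hx
  obtain ⟨r, hr, rfl⟩ := List.mem_map.mp hx
  exact R.xU_mem_fixL σ r (hpos r hr).1 _ (this r hr)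

theorem UHyp.posUnipotent_fixed_mem (u : GL C.D.Idx F) (hu : u ∈ C.D.posUnipotent F)
    (hfix : Matrix.GeneralLinearGroup.map σ u = u) : u ∈ fixL σ C.D := by
  obtain ⟨t, -, rfl⟩ := Uh.K.exists_word (F := F) Uh.col Uh.inj C.D.posRoots (nodup_posRoots C.D)
    (mem_posRoots C.D) u hu
  exact Uh.lprod_fixed_mem σ Hy _ (pairwise_posRoots C.D) (fun r hr => (mem_posRoots C.D r).mp hr) t hfix

theorem UHyp.map_mem_posUnipotent (u : GL C.D.Idx F) (hu : u ∈ C.D.posUnipotent F) :
    Matrix.GeneralLinearGroup.map σ u ∈ C.D.posUnipotent F := by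
  have : C.D.posUnipotent F ≤ (C.D.posUnipotent F).comap (Matrix.GeneralLinearGroup.map σ) := by
    conv_lhs => unfold ChevalleyDatum.posUnipotent
    rw [Subgroup.closure_le]
    rintro x ⟨r, t, hr, hx⟩
    have : x = R.xU r t := Units.ext hx
    rw [SetLike.mem_coe, Subgroup.mem_comap, this, R.map_xU']
    exact Subgroup.subset_closure ⟨r, _, hr, R.xU_val _ _⟩
  exact this hu

theorem UHyp.map_mem_diagonal (h : GL C.D.Idx F) (hh : h ∈ C.D.diagonalSubgroup F) :
    Matrix.GeneralLinearGroup.map σ h ∈ C.D.diagonalSubgroup F := by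
  have : C.D.diagonalSubgroup F ≤ (C.D.diagonalSubgroup F).comap (Matrix.GeneralLinearGroup.map σ) := by
    conv_lhs => unfold ChevalleyDatum.diagonalSubgroup
    rw [Subgroup.closure_le]
    rintro x ⟨r, t, hr, ht, hx⟩
    have : x = R.hU r t := Units.ext (by rw [hx, R.hU_val])
    rw [SetLike.mem_coe, Subgroup.mem_comap, this, R.map_hU']
    exact R.hU_mem r hr _ (by rwa [ne_eq, map_eq_zero])
  exact this hh

end

end Cfsg.Agent.Lib.Helper3.ChevM
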