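import Mathlib
import Cfsg.Prelude.Def_ChevStructure
import Cfsg.Agent.Lib.Helper3.ChevFld2
set_option autoImplicit false
set_option linter.unusedSectionVars false
open Cfsg Cfsg.Lie

/-! The elements of a Chevalley group fixed by a field endomorphism applied to the entries: the torus and the
main theorem. -/

namespace Cfsg.Agent.Lib.Helper3.ChevM

open ChevU ChevT ChevH

section
variable {F : Type*} [Field F] (σ : F →+* F) {C : CDatum} {R : RelData C}

theorem map_diagU (D : ChevalleyDatum) (χ : Fin D.nroots → Fˣ) :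
    Matrix.GeneralLinearGroup.map σ (diagU D F χ) = diagU D F (fun s => Units.map (σ : F →* F) (χ s)) := by
  apply Units.ext
  ext i j
  simp only [Matrix.GeneralLinearGroup.map_apply, diagU]
  by_cases hij : i = j
  · subst hij
    rw [Matrix.diagonal_apply_eq, Matrix.diagonal_apply_eq]
    rcases i with i | s <;> simp
  · rw [Matrix.diagonal_apply_ne _ hij, Matrix.diagonal_apply_ne _ hij, map_zero]

theorem rootChar_map (D : ChevalleyDatum) (c : Fin D.rank → Fˣ) :
    rootChar D F (fun i => Units.map (σ : F →* F) (c i)) = fun s => Units.map (σ : F →* F) (rootChar D F c s) := by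
  funext s
  show ∏ i, (Units.map (σ : F →* F) (c i)) ^ D.cartan i.val s.val = Units.map (σ : F →* F) (∏ i, c i ^ D.cartan i.val s.val)
  rw [map_prod]
  apply Finset.prod_congr rfl
  intro i _
  rw [map_zpow]

theorem pw_cartanMat (D : ChevalleyDatum) (hs : ∀ i < D.rank, D.simple i < D.nroots) (c : Fin D.rank → Fˣ)
    (j : Fin D.rank) : pw (cartanMat D) c j = rootChar D F c ⟨D.simple j.val, hs j.val j.isLt⟩ := by
  simp [pw_apply, cartanMat, rootChar]

variable (Uh : UHyp C R) (Hy : BNHyp C R)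
include Uh Hy

/-- An element of the torus fixed by `σ` lies in the subfield subgroup, when the Cartan matrix is unimodular. -/
theorem UHyp.diagonal_fixed_mem (Binv : Matrix (Fin C.D.rank) (Fin C.D.rank) ℤ) (hB : cartanMat C.D * Binv = 1)
    (h : GL C.D.Idx F) (hh : h ∈ C.D.diagonalSubgroup F)
    (hfix : Matrix.GeneralLinearGroup.map σ h = h) : h ∈ fixL σ C.D := by
  obtain ⟨c, rfl⟩ := R.exists_tor Hy.dec h hh
  rw [R.tor_eq_diagU, map_diagU, ← rootChar_map] at hfix
  have h1 := diagU_injective C.D F hfix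
  have h2 : pw (cartanMat C.D) (fun i => Units.map (σ : F →* F) (c i)) = pw (cartanMat C.D) c := by
    funext j
    rw [pw_cartanMat C.D R.simple_lt, pw_cartanMat C.D R.simple_lt, h1]
  have h3 : (fun i => Units.map (σ : F →* F) (c i)) = c := by
    have := congrArg (pw Binv : (Fin C.D.rank → Fˣ) →* (Fin C.D.rank → Fˣ)) h2
    rwa [← pw_mul, ← pw_mul, hB, pw_one, pw_one] at this
  have hc : ∀ i : Fin C.D.rank, σ (c i : F) = (c i : F) := by
    intro i
    have := congrArg (fun u : Fˣ => (u : F)) (congrFun h3 i)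
    simpa using this
  unfold RelData.tor RelData.hListU
  apply Subgroup.list_prod_mem
  intro x hx
  obtain ⟨i, hi, rfl⟩ := List.mem_map.mp hx
  rw [List.mem_range] at hi
  apply R.hU_mem_fixL σ _ (R.simple_lt i hi)
  rw [cN_lt c i hi]
  exact hc ⟨i, hi⟩

/-- The elements of the group fixed by `σ` lie in the subgroup generated by the root elements with fixed
parameters. -/
theorem UHyp.group_fixed_mem
    (hntri : ∀ r < C.D.nroots, negTri C r = true)
    (hsign : ∀ r < C.D.nroots, signCheck C.D r = true)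
    (Binv : Matrix (Fin C.D.rank) (Fin C.D.rank) ℤ) (hB : cartanMat C.D * Binv = 1)
    (g : GL C.D.Idx F) (hg : g ∈ C.D.group F)
    (hfix : Matrix.GeneralLinearGroup.map σ g = g) : g ∈ fixL σ C.D := by
  classical
  obtain ⟨bru1, bru2⟩ := Uh.bruhat_normal_form (F := F) Hy hntri (fun r hr => signCheck_or (hsign r hr))
  obtain ⟨b, hb, n, hn, u, hu, rfl⟩ := bru1 g hg
  obtain ⟨h₀, hh₀, l, hl, rfl⟩ := Hy.mono.monomial_decomp n hn
  set nl := R.nWordU (F := F) l with hnl
  have hnlN : nl ∈ C.D.monomialSubgroup F := R.nWordU_mem l hl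
  -- `u` lies in `U_w⁻` for the representative `n_l`
  have hUm : (uMinus C.D F (h₀ * nl) : Set (GL C.D.Idx F)) = uMinus C.D F (1 * nl) := by
    rw [Uh.uMinus_eq (F := F) Hy hntri hsign h₀ hh₀ l hl,
      Uh.uMinus_eq (F := F) Hy hntri hsign 1 (Subgroup.one_mem _) l hl]
  rw [one_mul] at hUm
  have hu' : u ∈ uMinus C.D F nl := by
    have : u ∈ (uMinus C.D F nl : Set (GL C.D.Idx F)) := by rw [← hUm]; exact hu
    exact this
  have hset := Uh.uMinus_eq (F := F) Hy hntri hsign 1 (Subgroup.one_mem _) l hl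
  rw [one_mul] at hset
  obtain ⟨t, ht⟩ : u ∈ lprodSet R F (negSet C.D R.refl l) := by rw [← hset]; exact hu'
  have hσu : Matrix.GeneralLinearGroup.map σ u ∈ uMinus C.D F nl := by
    have : Matrix.GeneralLinearGroup.map σ u ∈ lprodSet R F (negSet C.D R.refl l) := by
      rw [ht, R.lprod_map]
      exact ⟨_, rfl⟩
    rw [← hset] at this
    exact this
  set b' := b * h₀ with hb'
  have hb'B : b' ∈ C.D.borelSubgroup F := Subgroup.mul_mem _ hb (Subgroup.mem_sup_right hh₀)
  have hg2 : b * (h₀ * nl) * u = b' * nl * u := by rw [hb']; group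
  rw [hg2] at hfix ⊢
  -- split `b'`
  obtain ⟨hHU, hdisj⟩ := R.diagonal_normalizes (F := F) Hy.dec Hy.mono.tri
  have hsetB := Subgroup.coe_mul_of_right_le_normalizer_left (C.D.posUnipotent F) (C.D.diagonalSubgroup F) hHU
  have hb'' : b' ∈ ((C.D.posUnipotent F ⊔ C.D.diagonalSubgroup F : Subgroup _) : Set _) := hb'B
  rw [hsetB] at hb''
  obtain ⟨u₁, hu₁, h₂, hh₂, e₂⟩ := Set.mem_mul.mp hb''
  have hσu₁ := Uh.map_mem_posUnipotent σ Hy u₁ hu₁
  have hσh₂ := Uh.map_mem_diagonal σ Hy h₂ hh₂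
  have hσb' : Matrix.GeneralLinearGroup.map σ b' ∈ C.D.borelSubgroup F := by
    rw [← e₂, map_mul]
    exact Subgroup.mul_mem _ (Subgroup.mem_sup_left hσu₁) (Subgroup.mem_sup_right hσh₂)
  have hσnl : Matrix.GeneralLinearGroup.map σ nl = nl := R.map_nWordU' σ l
  have hfix2 : b' * nl * u = Matrix.GeneralLinearGroup.map σ b' * nl * Matrix.GeneralLinearGroup.map σ u := by
    conv_lhs => rw [← hfix]
    rw [map_mul, map_mul, hσnl]
  obtain ⟨-, huniq⟩ := bru2 _ _ _ _ _ _ hb'B hσb' hnlN hnlN hu' hσu hfix2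
  obtain ⟨hbfix, hufix⟩ := huniq rfl
  have hsplit : u₁⁻¹ * Matrix.GeneralLinearGroup.map σ u₁ = h₂ * (Matrix.GeneralLinearGroup.map σ h₂)⁻¹ := by
    have : u₁ * h₂ = Matrix.GeneralLinearGroup.map σ u₁ * Matrix.GeneralLinearGroup.map σ h₂ := by
      rw [← map_mul, e₂, ← hbfix]
    rw [eq_mul_inv_iff_mul_eq, mul_assoc, ← this]; group
  have hmem : u₁⁻¹ * Matrix.GeneralLinearGroup.map σ u₁ ∈ C.D.posUnipotent F ⊓ C.D.diagonalSubgroup F := by
    refine Subgroup.mem_inf.mpr ⟨Subgroup.mul_mem _ (Subgroup.inv_mem _ hu₁) hσu₁, ?_⟩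
    rw [hsplit]
    exact Subgroup.mul_mem _ hh₂ (Subgroup.inv_mem _ hσh₂)
  rw [hdisj, Subgroup.mem_bot] at hmem
  have hu₁fix : Matrix.GeneralLinearGroup.map σ u₁ = u₁ := by
    have := congrArg (fun x => u₁ * x) hmem
    simpa using this
  have hh₂fix : Matrix.GeneralLinearGroup.map σ h₂ = h₂ := by
    rw [hmem] at hsplit
    have := eq_mul_inv_iff_mul_eq.mp hsplit
    rw [one_mul] at this
    exact this
  have m1 := Uh.posUnipotent_fixed_mem σ Hy u₁ hu₁ hu₁fix
  have m2 := Uh.diagonal_fixed_mem σ Hy Binv hB h₂ hh₂ hh₂fix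
  have m3 := R.nWordU_mem_fixL σ l hl
  have m4 := Uh.posUnipotent_fixed_mem σ Hy u (uMinus_le_posUnipotent C.D nl hu') hufix.symm
  rw [← e₂]
  exact Subgroup.mul_mem _ (Subgroup.mul_mem _ (Subgroup.mul_mem _ m1 m2) m3) m4

end

end Cfsg.Agent.Lib.Helper3.ChevM
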