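import Cfsg.Agent.Lib.Helper3.ChevN1
import Cfsg.Agent.Lib.Helper3.ChevM9
set_option autoImplicit false

open Cfsg Cfsg.Lie

namespace Cfsg.Agent.Lib.Helper3.ChevM

section
variable {F : Type*} [Field F] {C : CDatum} {R : RelData C}

/-- All root elements of the root `r` lie in the subgroup `T`. -/
def RelData.Good (R : RelData C) (T : Subgroup (GL C.D.Idx F)) (r : ℕ) : Prop := ∀ c : F, R.xU r c ∈ T

theorem RelData.good_of_rootSubgroup_le (R : RelData C) (T : Subgroup (GL C.D.Idx F)) (r : ℕ)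
    (h : C.D.rootSubgroup F r ≤ T) : R.Good T r := by
  intro c
  apply h
  apply Subgroup.subset_closure
  exact ⟨c, rfl⟩

theorem MonoHyp.good_reflW (M : MonoHyp C R)
    (hdec : ∀ r < C.D.nroots, ∀ s < C.D.nroots, hdecCheck C.D R.pair r s = true)
    (T : Subgroup (GL C.D.Idx F)) (hN : C.D.monomialSubgroup F ≤ T)
    (l : List ℕ) (hl : ∀ i ∈ l, i < C.D.rank) (k : ℕ) (hk : k < C.D.nroots) (h : R.Good T k) :
    R.Good T (reflW R.refl l k) := by
  obtain ⟨d, hd⟩ := M.conj_word_xU (F := F) hdec 1 (Subgroup.one_mem _) l hl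
  obtain ⟨hd0, hdc⟩ := hd k hk
  intro c
  have e := hdc (c / d k)
  rw [mul_div_cancel₀ c hd0, one_mul] at e
  rw [← e]
  have hn : R.nWordU (F := F) l ∈ T := hN (R.nWordU_mem l hl)
  exact Subgroup.mul_mem _ (Subgroup.mul_mem _ hn (h _)) (Subgroup.inv_mem _ hn)

theorem RelData.group_le_of_good (R : RelData C) (T : Subgroup (GL C.D.Idx F))
    (h : ∀ r < C.D.nroots, R.Good T r) : C.D.group F ≤ T := by
  unfold ChevalleyDatum.group
  rw [Subgroup.closure_le]
  rintro g ⟨r, t, hg⟩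
  have : g = R.xU r.val t := by
    apply Units.ext
    rw [hg, RelData.xU_val]
    simp [ChevalleyDatum.x, r.isLt]
  rw [this]
  exact h r.val r.isLt t

theorem CommData.good_comm (K : CommData C R) (T : Subgroup (GL C.D.Idx F)) (a b c : ℕ) (m : ℤ)
    (ha : a < C.D.nroots) (hb : b < C.D.nroots) (hab : b ≠ a) (hab' : b ≠ C.D.neg a)
    (hterms : C.D.commTerms a b = [(c, m, 1, 1)]) (hm : (m : F) ≠ 0)
    (hga : R.Good T a) (hgb : R.Good T b) : R.Good T c := by
  intro v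
  have e := K.commF (F := F) a b ha hb hab hab' (-1) (v / m)
  have hw : C.D.commWord F a b (-1) (v / m) = [(c, v)] := by
    unfold ChevalleyDatum.commWord
    rw [hterms]
    simp only [List.map_cons, List.map_nil, neg_neg, pow_one, mul_one]
    rw [mul_div_cancel₀ v hm]
  rw [hw] at e
  have e2 : R.xU b (v / m) * R.xU a (-1) = R.xU a (-1) * R.xU b (v / m) * R.xU c v := by
    apply Units.ext
    simp only [Units.val_mul, RelData.xU_val]
    rw [e]
    simp [ChevalleyDatum.wordMat]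
  have e3 : R.xU c v = (R.xU a (-1) * R.xU b (v / m))⁻¹ * (R.xU b (v / m) * R.xU a (-1)) := by
    rw [e2]; group
  rw [e3]
  exact Subgroup.mul_mem _ (Subgroup.inv_mem _ (Subgroup.mul_mem _ (hga _) (hgb _)))
    (Subgroup.mul_mem _ (hgb _) (hga _))

/-- The root `r` is the image of a root of the list `S` under a word of fundamental reflections. -/
def genCheck (D : ChevalleyDatum) (refl : ℕ → ℕ → ℕ) (S : List ℕ) (wt : ℕ → List ℕ × ℕ) (r : ℕ) : Bool :=
  ((wt r).1.all fun i => decide (i < D.rank)) && S.contains (wt r).2 && decide ((wt r).2 < D.nroots) &&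
    decide (reflW refl (wt r).1 (wt r).2 = r)

theorem MonoHyp.group_le_of_genCheck (M : MonoHyp C R)
    (hdec : ∀ r < C.D.nroots, ∀ s < C.D.nroots, hdecCheck C.D R.pair r s = true)
    (T : Subgroup (GL C.D.Idx F)) (hN : C.D.monomialSubgroup F ≤ T)
    (S : List ℕ) (hS : ∀ k ∈ S, R.Good T k) (wt : ℕ → List ℕ × ℕ)
    (hwt : ∀ r < C.D.nroots, genCheck C.D R.refl S wt r = true) : C.D.group F ≤ T := by
  apply R.group_le_of_good
  intro r hr
  have h := hwt r hr
  simp only [genCheck, Bool.and_eq_true, List.all_eq_true, decide_eq_true_eq, List.contains_iff_mem] at h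
  obtain ⟨⟨⟨h1, h2⟩, h3⟩, h4⟩ := h
  rw [← h4]
  exact M.good_reflW hdec T hN _ h1 _ h3 (hS _ h2)

/-- The root `r` is the image of `p0` under the word `wt0 r`. -/
def gen1Check (D : ChevalleyDatum) (refl : ℕ → ℕ → ℕ) (p0 : ℕ) (wt0 : ℕ → List ℕ) (r : ℕ) : Bool :=
  ((wt0 r).all fun i => decide (i < D.rank)) && decide (reflW refl (wt0 r) p0 = r)

/-- The root `r` is an image of `p0`, or a commutator of two such roots with the constant `± mm`. -/
def gen2Check (D : ChevalleyDatum) (refl : ℕ → ℕ → ℕ) (p0 mm : ℕ) (wt0 : ℕ → List ℕ) (ab : ℕ → ℕ × ℕ × ℤ)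
    (r : ℕ) : Bool :=
  gen1Check D refl p0 wt0 r ||
    (decide ((ab r).1 < D.nroots) && decide ((ab r).2.1 < D.nroots) && gen1Check D refl p0 wt0 (ab r).1 &&
      gen1Check D refl p0 wt0 (ab r).2.1 && decide ((ab r).2.1 ≠ (ab r).1) && decide ((ab r).2.1 ≠ D.neg (ab r).1) &&
      decide (D.commTerms (ab r).1 (ab r).2.1 = [(r, (ab r).2.2, 1, 1)]) &&
      (decide ((ab r).2.2 = (mm : ℤ)) || decide ((ab r).2.2 = -(mm : ℤ))))

theorem MonoHyp.good_of_gen1Check (M : MonoHyp C R)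
    (hdec : ∀ r < C.D.nroots, ∀ s < C.D.nroots, hdecCheck C.D R.pair r s = true)
    (T : Subgroup (GL C.D.Idx F)) (hN : C.D.monomialSubgroup F ≤ T)
    (p0 : ℕ) (hp0 : p0 < C.D.nroots) (hg : R.Good T p0) (wt0 : ℕ → List ℕ) (r : ℕ)
    (h : gen1Check C.D R.refl p0 wt0 r = true) : R.Good T r := by
  simp only [gen1Check, Bool.and_eq_true, List.all_eq_true, decide_eq_true_eq] at h
  rw [← h.2]
  exact M.good_reflW hdec T hN _ h.1 _ hp0 hg

theorem MonoHyp.group_le_of_gen2Check (M : MonoHyp C R) (K : CommData C R)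
    (hdec : ∀ r < C.D.nroots, ∀ s < C.D.nroots, hdecCheck C.D R.pair r s = true)
    (T : Subgroup (GL C.D.Idx F)) (hN : C.D.monomialSubgroup F ≤ T)
    (p0 : ℕ) (hp0 : p0 < C.D.nroots) (hg : R.Good T p0) (mm : ℕ) (hmm : ((mm : ℕ) : F) ≠ 0)
    (wt0 : ℕ → List ℕ) (ab : ℕ → ℕ × ℕ × ℤ)
    (hchk : ∀ r < C.D.nroots, gen2Check C.D R.refl p0 mm wt0 ab r = true) : C.D.group F ≤ T := by
  apply R.group_le_of_good
  intro r hr
  have h := hchk r hr
  simp only [gen2Check, Bool.or_eq_true, Bool.and_eq_true, decide_eq_true_eq] at h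
  rcases h with h | ⟨⟨⟨⟨⟨⟨⟨h1, h2⟩, h3⟩, h4⟩, h5⟩, h6⟩, h7⟩, h8⟩
  · exact M.good_of_gen1Check hdec T hN p0 hp0 hg wt0 r h
  · have ga := M.good_of_gen1Check hdec T hN p0 hp0 hg wt0 _ h3
    have gb := M.good_of_gen1Check hdec T hN p0 hp0 hg wt0 _ h4
    refine K.good_comm T _ _ r _ h1 h2 h5 h6 h7 ?_ ga gb
    rcases h8 with h8 | h8
    · rw [h8]; exact_mod_cast hmm
    · rw [h8]; push_cast; exact neg_ne_zero.mpr hmm

end

end Cfsg.Agent.Lib.Helper3.ChevM
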