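import Mathlib
import Cfsg.Prelude.Def_ChevStructure
import Cfsg.Agent.Lib.Helper3.ChevAut12
import Cfsg.Agent.Lib.Helper3.Chev2
import Cfsg.Agent.Lib.Helper3.ChevTw18
import Cfsg.Agent.Lib.Helper3.ChevFld3
import Cfsg.Agent.Lib.Helper3.ChevGen1
set_option autoImplicit false
set_option linter.unusedSectionVars false
set_option linter.style.haveILetI false
open Cfsg Cfsg.Lie

/-!
Automorphisms of Chevalley groups, part 13: field automorphisms, the normalisation by a diagonal element,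
generation by the fundamental root subgroups and their negatives.
-/

namespace Cfsg.Agent.Lib.Helper3.ChevAut

open Cfsg.Agent.Lib.Helper3.ChevM Cfsg.Agent.Lib.Helper3.ChevSp Cfsg.Agent.Lib.Helper3 ChevU ChevT ChevH
open Cfsg.Agent.Lib.Helper3.ChevAt Cfsg.Agent.Lib.Helper1

section
variable {K : Type*} [Field K]

/-- The field automorphism of a Chevalley group. -/
noncomputable def fAut (D : ChevalleyDatum) (f : K ≃+* K) : MulAut ↥(D.group K) :=
  ((glMapEquiv (n := D.Idx) f).subgroupMap (D.group K)).trans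
    (MulEquiv.subgroupCongr (group_map_eq D f))

theorem fAut_coe (D : ChevalleyDatum) (f : K ≃+* K) (g : ↥(D.group K)) :
    ((fAut D f g : ↥(D.group K)) : GL D.Idx K) = glMapEquiv f (g : GL D.Idx K) := rfl

theorem fAut_mul (D : ChevalleyDatum) (f g : K ≃+* K) : fAut D (f * g) = fAut D f * fAut D g := by
  apply MulEquiv.ext
  intro x
  apply Subtype.ext
  rw [MulAut.mul_apply, fAut_coe, fAut_coe, fAut_coe]
  apply Units.ext
  rw [glMapEquiv_coe, glMapEquiv_coe, glMapEquiv_coe]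
  ext i j
  simp [Matrix.map_apply]

theorem fAut_one (D : ChevalleyDatum) : fAut D (1 : K ≃+* K) = 1 := by
  apply MulEquiv.ext
  intro x
  apply Subtype.ext
  rw [fAut_coe]
  apply Units.ext
  rw [glMapEquiv_coe]
  ext i j
  simp [Matrix.map_apply]

/-- The field automorphisms as a homomorphism. -/
noncomputable def fAutHom (D : ChevalleyDatum) : (K ≃+* K) →* MulAut ↥(D.group K) where
  toFun := fAut D
  map_one' := fAut_one D
  map_mul' := fAut_mul D

variable {C : CDatum} (R : RelData C)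

theorem ex_fAut_xU (f : K ≃+* K) (r : ℕ) (hr : r < C.D.nroots) (t : K) :
    ex (fAut C.D f) (R.xU r t) = R.xU r (f t) := by
  rw [ex_of_mem _ (R.xU_mem_group r hr t), fAut_coe]
  apply Units.ext
  rw [glMapEquiv_coe, R.xU_val, R.xU_val]
  exact Cfsg.Agent.Lib.Helper3.x_map C.D f r t

/-- Conjugation of the root elements by an element of the torus. -/
theorem tor_conj_xU (z : Fin C.D.rank → Kˣ) (s : ℕ) (hs : s < C.D.nroots) (t : K) :
    R.tor z * R.xU s t * (R.tor z)⁻¹ = R.xU s ((rootChar C.D K z ⟨s, hs⟩ : K) * t) := by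
  have hlr : ∀ i ∈ List.range C.D.rank, i < C.D.rank := fun i hi => List.mem_range.mp hi
  have hc : ∀ i ∈ List.range C.D.rank, cN z i ≠ 0 := fun i _ => cN_ne_zero z i
  have key := R.hList_mul_x (List.range C.D.rank) hlr (cN z) hc s hs t
  have hP : ((List.range C.D.rank).map fun i => cN z i ^ C.D.cartan i s).prod =
      (rootChar C.D K z ⟨s, hs⟩ : K) := by
    rw [list_range_prod_eq]
    show _ = ((∏ i, z i ^ C.D.cartan i.val s : Kˣ) : K)
    rw [Units.coe_prod]
    apply Finset.prod_congr rfl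
    intro i _
    rw [cN_lt z i.val i.isLt, Units.val_zpow_eq_zpow_val]
  rw [hP, ← R.hListU_val] at key
  apply Units.ext
  rw [Units.val_mul, Units.val_mul, R.xU_val, R.xU_val]
  unfold RelData.tor
  rw [key, mul_assoc, ← Units.val_mul, mul_inv_cancel, Units.val_one, mul_one]

/-- A diagonal element acting on the fundamental root subgroups by given scalars, when the Cartan matrix is
unimodular. -/
theorem exists_diag (Binv : Matrix (Fin C.D.rank) (Fin C.D.rank) ℤ) (hB : Binv * cartanMat C.D = 1)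
    (cneg : ∀ i < C.D.rank, ∀ j < C.D.rank, C.D.cartan i (C.D.neg (C.D.simple j)) = -C.D.cartan i (C.D.simple j))
    (c : ℕ → K) (hc : ∀ i < C.D.rank, c i ≠ 0) :
    ∃ h ∈ C.D.diagonalSubgroup K, ∀ i < C.D.rank, ∀ t : K,
      h * R.xU (C.D.simple i) t * h⁻¹ = R.xU (C.D.simple i) (c i * t) ∧
      h * R.xU (C.D.neg (C.D.simple i)) t * h⁻¹ = R.xU (C.D.neg (C.D.simple i)) ((c i)⁻¹ * t) := by
  set cu : Fin C.D.rank → Kˣ := fun i => Units.mk0 (c i.val) (hc i.val i.isLt) with hcu
  set z : Fin C.D.rank → Kˣ := pw Binv cu with hz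
  have hzc : pw (cartanMat C.D) z = cu := by
    rw [hz, ← pw_mul, hB, pw_one]
  refine ⟨R.tor z, R.tor_mem z, fun i hi t => ?_⟩
  have hsl := R.simple_lt i hi
  have h1 : rootChar C.D K z ⟨C.D.simple i, hsl⟩ = cu ⟨i, hi⟩ := by
    rw [← pw_cartanMat C.D R.simple_lt z ⟨i, hi⟩, hzc]
  have h2 : rootChar C.D K z ⟨C.D.neg (C.D.simple i), R.neg_lt _ hsl⟩ = (cu ⟨i, hi⟩)⁻¹ := by
    rw [← h1]
    show ∏ k, z k ^ C.D.cartan k.val (C.D.neg (C.D.simple i)) = (∏ k, z k ^ C.D.cartan k.val (C.D.simple i))⁻¹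
    rw [← Finset.prod_inv_distrib]
    apply Finset.prod_congr rfl
    intro k _
    rw [cneg k.val k.isLt i hi, zpow_neg]
  constructor
  · rw [tor_conj_xU R z _ hsl, h1]
    simp [hcu]
  · rw [tor_conj_xU R z _ (R.neg_lt _ hsl), h2]
    simp [hcu]

end

section
variable {K : Type*} [Field K] {C : CDatum} {R : RelData C} (Y : AutHyp C R)
include Y

/-- The group is generated by the root elements of the fundamental roots and their negatives. -/
theorem group_le_closure_simple : C.D.group K ≤ Subgroup.closure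
    {g : GL C.D.Idx K | ∃ i < C.D.rank, ∃ t : K, g = R.xU (C.D.simple i) t ∨ g = R.xU (C.D.neg (C.D.simple i)) t} := by
  set T := Subgroup.closure
    {g : GL C.D.Idx K | ∃ i < C.D.rank, ∃ t : K, g = R.xU (C.D.simple i) t ∨ g = R.xU (C.D.neg (C.D.simple i)) t}
    with hT
  have M := Y.A.B.mono
  have h1 : ∀ i < C.D.rank, ∀ t : K, R.xU (C.D.simple i) t ∈ T :=
    fun i hi t => Subgroup.subset_closure ⟨i, hi, t, Or.inl rfl⟩
  have h2 : ∀ i < C.D.rank, ∀ t : K, R.xU (C.D.neg (C.D.simple i)) t ∈ T :=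
    fun i hi t => Subgroup.subset_closure ⟨i, hi, t, Or.inr rfl⟩
  have h3 : ∀ i < C.D.rank, R.nU (C.D.simple i) (1 : K) ∈ T := by
    intro i hi
    rw [R.nU_eq]
    exact Subgroup.mul_mem _ (Subgroup.mul_mem _ (h1 i hi _) (h2 i hi _)) (h1 i hi _)
  have h4 : ∀ l : List ℕ, (∀ i ∈ l, i < C.D.rank) → R.nWordU (F := K) l ∈ T := by
    intro l hl
    unfold RelData.nWordU
    apply Subgroup.list_prod_mem
    intro x hx
    obtain ⟨i, hi, rfl⟩ := List.mem_map.mp hx
    exact h3 i (hl i hi)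
  apply R.group_le_of_good
  intro r hr
  have h := M.rwc r hr
  simp only [rootWordCheck, Bool.and_eq_true, List.all_eq_true, decide_eq_true_eq] at h
  obtain ⟨⟨hl, hj⟩, hr'⟩ := h
  obtain ⟨d, hd⟩ := M.conj_word_xU (F := K) Y.A.B.dec 1 (Subgroup.one_mem _) _ hl
  obtain ⟨hd0, hdc⟩ := hd _ (R.simple_lt _ hj)
  intro c
  have e := hdc (c / d (C.D.simple (M.rw r).2))
  rw [mul_div_cancel₀ c hd0, one_mul, hr'] at e
  rw [← e]
  exact Subgroup.mul_mem _ (Subgroup.mul_mem _ (h4 _ hl) (h1 _ hj _)) (Subgroup.inv_mem _ (h4 _ hl))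

/-- Automorphisms agreeing on the root elements of the fundamental roots and their negatives are equal. -/
theorem aut_eq_of_simple (θ φ : MulAut ↥(C.D.group K))
    (h : ∀ i < C.D.rank, ∀ t : K, ex θ (R.xU (C.D.simple i) t) = ex φ (R.xU (C.D.simple i) t) ∧
      ex θ (R.xU (C.D.neg (C.D.simple i)) t) = ex φ (R.xU (C.D.neg (C.D.simple i)) t)) : θ = φ := by
  apply MulEquiv.ext
  intro g
  have key : ∀ x (hx : x ∈ Subgroup.closure
      {g : GL C.D.Idx K | ∃ i < C.D.rank, ∃ t : K, g = R.xU (C.D.simple i) t ∨ g = R.xU (C.D.neg (C.D.simple i)) t}),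
      x ∈ C.D.group K ∧ ex θ x = ex φ x := by
    intro x hx
    induction hx using Subgroup.closure_induction with
    | mem x hx =>
      obtain ⟨i, hi, t, rfl | rfl⟩ := hx
      · exact ⟨R.xU_mem_group _ (R.simple_lt i hi) _, (h i hi t).1⟩
      · exact ⟨R.xU_mem_group _ (R.neg_lt _ (R.simple_lt i hi)) _, (h i hi t).2⟩
    | one => exact ⟨Subgroup.one_mem _, by rw [ex_one, ex_one]⟩
    | mul x y hx hy ihx ihy =>
      exact ⟨Subgroup.mul_mem _ ihx.1 ihy.1, by rw [ex_mul θ ihx.1 ihy.1, ex_mul φ ihx.1 ihy.1, ihx.2, ihy.2]⟩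
    | inv x hx ihx =>
      exact ⟨Subgroup.inv_mem _ ihx.1, by rw [ex_inv θ ihx.1, ex_inv φ ihx.1, ihx.2]⟩
  have := (key g.1 (group_le_closure_simple Y g.2)).2
  rw [ex_coe, ex_coe] at this
  exact Subtype.ext this

end

/-- The table checks for the automorphisms of a Chevalley group with simply laced diagram without symmetries
and unimodular Cartan matrix. -/
structure UniHyp (C : CDatum) (R : RelData C) where
  S : SLHyp C R
  adjM : List (List Bool)
  hadjM : ∀ i < C.D.rank, ∀ j < C.D.rank, tabB adjM i j = nadj C.D i j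
  rig : rigExt C.D.rank adjM [List.range C.D.rank] C.D.rank [] = true
  Binv : Matrix (Fin C.D.rank) (Fin C.D.rank) ℤ
  hB : Binv * cartanMat C.D = 1
  cneg : ∀ i < C.D.rank, ∀ j < C.D.rank, C.D.cartan i (C.D.neg (C.D.simple j)) = -C.D.cartan i (C.D.simple j)

section
variable {K : Type*} [Field K] [Finite K] {C : CDatum} {R : RelData C} (W : UniHyp C R)
include W

/-- An automorphism preserving `U` and `V` is the product of the conjugation by a diagonal element and a field
automorphism. -/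
theorem exists_diag_field (θ : MulAut ↥(C.D.group K)) (hU : Pres θ (C.D.posUnipotent K))
    (hV : Pres θ (C.D.negUnipotent K)) :
    ∃ (a : ↥(C.D.group K)) (σ : K ≃+* K), θ = MulAut.conj a * fAut C.D σ := by
  obtain ⟨T⟩ := exists_rootAct (K := K) W.S.Y θ hU hV
  have hp := T.p_eq W.S W.adjM W.hadjM W.rig
  obtain ⟨σ, c, hc, hσ⟩ := T.exists_sigma W.S hp
  obtain ⟨h, hh, hconj⟩ := exists_diag (K := K) R W.Binv W.hB W.cneg c hc
  have hG : h ∈ C.D.group K := R.diagonalSubgroup_le_group hh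
  refine ⟨⟨h, hG⟩, σ, ?_⟩
  apply aut_eq_of_simple W.S.Y
  intro i hi t
  have hl := R.simple_lt i hi
  have hnl := R.neg_lt _ hl
  constructor
  · rw [(hσ i hi t).1, ex_mul_aut _ _ (R.xU_mem_group _ hl _), ex_fAut_xU R σ _ hl,
      ex_conj _ (R.xU_mem_group _ hl _)]
    exact ((hconj i hi _).1).symm
  · rw [(hσ i hi t).2, ex_mul_aut _ _ (R.xU_mem_group _ hnl _), ex_fAut_xU R σ _ hnl,
      ex_conj _ (R.xU_mem_group _ hnl _)]
    exact ((hconj i hi _).2).symm

/-- Steinberg's theorem: every automorphism is the product of an inner automorphism and a field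
automorphism. -/
theorem exists_inner_field (p : ℕ) [Fact p.Prime]
    (hS : ∃ S : Sylow p ↥(C.D.group K),
      (S : Subgroup ↥(C.D.group K)) = (C.D.posUnipotent K).subgroupOf (C.D.group K))
    (θ : MulAut ↥(C.D.group K)) :
    ∃ (a : ↥(C.D.group K)) (σ : K ≃+* K), θ = MulAut.conj a * fAut C.D σ := by
  obtain ⟨a, hU, hV⟩ := exists_conj_pres W.S.Y.A p hS W.S.Y.w0 W.S.Y.w0l W.S.Y.w0neg' θ
  obtain ⟨b, σ, e⟩ := exists_diag_field W _ hU hV
  refine ⟨a⁻¹ * b, σ, ?_⟩
  rw [map_mul, mul_assoc, ← e, map_inv, inv_mul_cancel_left]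

end

end Cfsg.Agent.Lib.Helper3.ChevAut
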