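import Mathlib
import Cfsg.Prelude.Def_ChevStructure
import Cfsg.Prelude.Def_KGroupFacts
import Cfsg.Agent.Lib.Helper3.ChevAut13
set_option autoImplicit false
set_option linter.unusedSectionVars false
set_option linter.style.haveILetI false
open Cfsg Cfsg.Lie

/-!
Automorphisms of Chevalley groups, part 14: field automorphisms are not inner; the order of the outer
automorphism group for a simply laced diagram without symmetries and unimodular Cartan matrix.
-/

namespace Cfsg.Agent.Lib.Helper3.ChevAut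

open Cfsg.Agent.Lib.Helper3.ChevM Cfsg.Agent.Lib.Helper3.ChevSp Cfsg.Agent.Lib.Helper3 ChevU ChevT ChevH
open Cfsg.Agent.Lib.Helper3.ChevAt Cfsg.Agent.Lib.Helper1

/-- The number of automorphisms of a finite field. -/
theorem card_ringAut_prime {F : Type*} [Field F] [Fintype F] (p : ℕ) [Fact p.Prime] [CharP F p] {n : ℕ}
    (hF : Nat.card F = p ^ n) : Nat.card (F ≃+* F) = n := by
  letI : Algebra (ZMod p) F := ZMod.algebra F p
  let e : (F ≃+* F) ≃ (F ≃ₐ[ZMod p] F) :=
    { toFun := fun σ => AlgEquiv.ofRingEquiv (f := σ) (by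
        intro x
        have : (σ : F →+* F).comp (algebraMap (ZMod p) F) = algebraMap (ZMod p) F :=
          Subsingleton.elim _ _
        exact congrFun (congrArg DFunLike.coe this) x)
      invFun := fun τ => τ.toRingEquiv
      left_inv := fun σ => by ext x; rfl
      right_inv := fun τ => by ext x; rfl }
  rw [Nat.card_congr e]
  have h1 := FiniteField.bijective_frobeniusAlgEquivOfAlgebraic_pow (ZMod p) F
  rw [← Nat.card_congr (Equiv.ofBijective _ h1), Nat.card_eq_fintype_card, Fintype.card_fin]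
  have h2 := Module.card_eq_pow_finrank (K := ZMod p) (V := F)
  rw [ZMod.card, ← Nat.card_eq_fintype_card, hF] at h2
  exact (Nat.pow_right_injective (Fact.out : p.Prime).two_le h2).symm

section
variable {K : Type*} [Field K] {C : CDatum} {R : RelData C} (Y : AutHyp C R)
include Y

theorem pres_fAut_pos (σ : K ≃+* K) : Pres (fAut C.D σ) (C.D.posUnipotent K) := by
  intro g hg
  unfold ChevalleyDatum.posUnipotent at hg
  refine ex_mem_of_closure _ _ ?_ _ ?_ hg
  · rintro x ⟨r, t, hr, hx⟩
    have : x = R.xU r t := Units.ext (by rw [hx, R.xU_val])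
    rw [this]
    exact R.xU_mem_group r hr.1 t
  · rintro x ⟨r, t, hr, hx⟩
    have : x = R.xU r t := Units.ext (by rw [hx, R.xU_val])
    rw [this, ex_fAut_xU R σ r hr.1]
    exact xU_mem_pos Y.A r hr _

theorem pres_fAut_neg (σ : K ≃+* K) : Pres (fAut C.D σ) (C.D.negUnipotent K) := by
  intro g hg
  unfold ChevalleyDatum.negUnipotent at hg
  refine ex_mem_of_closure _ _ ?_ _ ?_ hg
  · rintro x ⟨r, t, hr, hx⟩
    have : x = R.xU r t := Units.ext (by rw [hx, R.xU_val])
    rw [this]
    exact R.xU_mem_group r hr.1 t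
  · rintro x ⟨r, t, hr, hx⟩
    have : x = R.xU r t := Units.ext (by rw [hx, R.xU_val])
    rw [this, ex_fAut_xU R σ r hr.1]
    exact xU_mem_neg Y.A r hr _

/-- An inner field automorphism is trivial. -/
theorem fAut_inner (hrk : 0 < C.D.rank) (σ : K ≃+* K) (a : ↥(C.D.group K))
    (h : fAut C.D σ = MulAut.conj a) : σ = 1 := by
  have hposG : C.D.posUnipotent K ≤ C.D.group K := R.posUnipotent_le_group
  have hnegG : C.D.negUnipotent K ≤ C.D.group K := negUnipotent_le_group Y.A
  have h1 : (a : GL C.D.Idx K) ∈ C.D.borelSubgroup K := by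
    apply mem_borel_of_conj_pos Y.A _ a.2
    intro u hu
    have := pres_fAut_pos Y σ u hu
    rwa [h, ex_conj a (hposG hu)] at this
  have h2 : (a : GL C.D.Idx K) ∈ negBorel C.D K := by
    apply mem_negBorel_of_conj_neg Y.A Y.w0 Y.w0l Y.w0neg' _ a.2
    intro u hu
    have := pres_fAut_neg Y σ u hu
    rwa [h, ex_conj a (hnegG hu)] at this
  have h3 : (a : GL C.D.Idx K) ∈ C.D.diagonalSubgroup K := by
    rw [← borel_inf_negBorel Y.A]
    exact ⟨h1, h2⟩
  obtain ⟨d, hd⟩ := Y.A.U.diagonal_conj_xU (F := K) Y.A.B _ h3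
  have hl := R.simple_lt 0 hrk
  have hpos := simple_pos Y.A 0 hrk
  have key : ∀ t : K, σ t = d (C.D.simple 0) * t := by
    intro t
    have e1 := ex_fAut_xU R σ _ hl t
    rw [h, ex_conj a (R.xU_mem_group _ hl t), (hd _ hl).2 t] at e1
    exact (Y.A.U.xU_inj_pos' _ hpos _ _ e1).symm
  have hd1 : d (C.D.simple 0) = 1 := by
    have := key 1
    rw [map_one, mul_one] at this
    exact this.symm
  apply RingEquiv.ext
  intro t
  rw [key t, hd1, one_mul]
  rfl

end

section
variable {K : Type*} [Field K] [Finite K] {C : CDatum} {R : RelData C} (W : UniHyp C R)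
include W

/-- The outer automorphism group is the group of field automorphisms. -/
theorem card_out_eq (p : ℕ) [Fact p.Prime]
    (hS : ∃ S : Sylow p ↥(C.D.group K),
      (S : Subgroup ↥(C.D.group K)) = (C.D.posUnipotent K).subgroupOf (C.D.group K)) :
    Nat.card (Cfsg.Out ↥(C.D.group K)) = Nat.card (K ≃+* K) := by
  symm
  let Ψ : (K ≃+* K) →* Cfsg.Out ↥(C.D.group K) :=
    (QuotientGroup.mk' (Cfsg.Inn ↥(C.D.group K))).comp (fAutHom C.D)
  apply Nat.card_congr
  apply Equiv.ofBijective Ψ
  constructor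
  · rw [injective_iff_map_eq_one]
    intro σ hσ
    have h1 : fAut C.D σ ∈ Cfsg.Inn ↥(C.D.group K) := (QuotientGroup.eq_one_iff _).mp hσ
    obtain ⟨y, hy⟩ := h1
    exact fAut_inner W.S.Y (lt_of_le_of_lt (Nat.zero_le _) W.S.hroot) σ y hy.symm
  · intro x
    obtain ⟨α, rfl⟩ := QuotientGroup.mk_surjective x
    obtain ⟨g, σ, rfl⟩ := exists_inner_field W p hS α
    refine ⟨σ, ?_⟩
    show (QuotientGroup.mk (fAut C.D σ) : Cfsg.Out ↥(C.D.group K)) = _
    rw [QuotientGroup.mk_mul]
    have : (QuotientGroup.mk (MulAut.conj g) : Cfsg.Out ↥(C.D.group K)) = 1 :=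
      (QuotientGroup.eq_one_iff _).mpr ⟨g, rfl⟩
    rw [this, one_mul]

end

end Cfsg.Agent.Lib.Helper3.ChevAut
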