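import Mathlib
import Cfsg.Prelude.Def_ChevStructure
import Cfsg.Agent.Lib.Helper3.ChevAut14
set_option autoImplicit false
set_option linter.unusedSectionVars false
set_option linter.style.haveILetI false
open Cfsg Cfsg.Lie

/-!
Automorphisms of Chevalley groups, part 15: diagonal automorphisms, given by the characters of the root lattice.
-/

namespace Cfsg.Agent.Lib.Helper3.ChevAut

open Cfsg.Agent.Lib.Helper3.ChevM Cfsg.Agent.Lib.Helper3.ChevSp Cfsg.Agent.Lib.Helper3 ChevU ChevT ChevH
open Cfsg.Agent.Lib.Helper3.ChevAt Cfsg.Agent.Lib.Helper1

/-- The coordinates of the roots on the fundamental roots are additive along the chains of the datum. -/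
def chainVecCheck (D : ChevalleyDatum) (vec : ℕ → ℕ → ℤ) (r : ℕ) : Bool :=
  (D.chain.getD r #[]).toList.all fun e => (e.2.toList.zipIdx).all fun q =>
    (List.range D.rank).all fun i => decide (vec q.1.1 i = vec e.1 i + ((q.2 + 1 : ℕ) : ℤ) * vec r i)

theorem chainVecCheck_spec (D : ChevalleyDatum) (vec : ℕ → ℕ → ℤ) (r : ℕ) (h : chainVecCheck D vec r = true)
    (s u k : ℕ) (m : ℤ) (hm : (k, m) ∈ D.chainCoeff r s u) :
    ∀ i < D.rank, vec u i = vec s i + (k : ℤ) * vec r i := by
  unfold ChevalleyDatum.chainCoeff at hm
  rw [List.mem_flatMap] at hm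
  obtain ⟨e, he, hq⟩ := hm
  rw [List.mem_filter] at he
  rw [List.mem_map] at hq
  obtain ⟨q, hq1, hq2⟩ := hq
  rw [List.mem_filter] at hq1
  simp only [chainVecCheck, List.all_eq_true, decide_eq_true_eq, List.mem_range] at h
  have h1 := h e he.1 q hq1.1
  have e1 : e.1 = s := by simpa using he.2
  have e2 : q.1.1 = u := by simpa using hq1.2
  have e3 : q.2 + 1 = k := by
    have := congrArg Prod.fst hq2
    simpa using this
  intro i hi
  have := h1 i hi
  rw [e1, e2, e3] at this
  exact this

section
variable {K : Type*} [Field K] (D : ChevalleyDatum)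

/-- Conjugation of a root element by a diagonal matrix given by a character of the root lattice. -/
theorem diagU_mul_xMat (χ : ℕ → Kˣ) (r : Fin D.nroots) (hneg : χ (D.neg r.val) = (χ r.val)⁻¹)
    (hch : ∀ s u k : ℕ, ∀ m : ℤ, (k, m) ∈ D.chainCoeff r.val s u → χ u = χ s * χ r.val ^ k) (t : K) :
    ((diagU D K fun s => χ s.val : GL D.Idx K) : Matrix D.Idx D.Idx K) * D.xMat K r t =
      D.xMat K r ((χ r.val : K) * t) * ((diagU D K fun s => χ s.val : GL D.Idx K) : Matrix D.Idx D.Idx K) := by
  have hχ0 : ∀ s : ℕ, (χ s : K) ≠ 0 := fun s => Units.ne_zero _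
  ext row col
  show ((Matrix.diagonal (Sum.elim (fun _ => (1 : K)) fun s : Fin D.nroots => (χ s.val : K)) : Matrix D.Idx D.Idx K) *
      D.xMat K r t) row col =
    (D.xMat K r ((χ r.val : K) * t) *
      (Matrix.diagonal (Sum.elim (fun _ => (1 : K)) fun s : Fin D.nroots => (χ s.val : K)) :
        Matrix D.Idx D.Idx K)) row col
  rw [Matrix.diagonal_mul, Matrix.mul_diagonal]
  unfold ChevalleyDatum.xMat
  rw [Matrix.of_apply, Matrix.of_apply]
  rcases col with i | s
  · rcases row with i' | u
    · simp
    · simp only [Sum.elim_inr, Sum.elim_inl, mul_one]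
      by_cases hu : u = r
      · subst hu
        simp only [if_true]
        ring
      · simp [hu]
  · by_cases hsr : s = r
    · subst hsr
      rcases row with i' | u
      · simp
      · simp only [Sum.elim_inr, if_true]
        by_cases hu : u = s
        · subst hu; simp [mul_comm]
        · simp [hu]
    · by_cases hsn : s.val = D.negIdx.getD r.val 0
      · have hs : (χ s.val : K) = (χ r.val : K)⁻¹ := by
          have : s.val = D.neg r.val := hsn
          rw [this, hneg]
          simp
        have hr0 := hχ0 r.val
        rcases row with i' | u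
        · dsimp only
          rw [if_neg hsr, if_pos hsn, if_neg hsr, if_pos hsn]
          simp only [Sum.elim_inl, Sum.elim_inr, one_mul]
          rw [hs]
          field_simp
        · dsimp only
          rw [if_neg hsr, if_pos hsn, if_neg hsr, if_pos hsn]
          simp only [Sum.elim_inr]
          by_cases hus : u = s
          · subst hus
            rw [if_pos rfl, if_pos rfl, mul_comm]
          · rw [if_neg hus, if_neg hus]
            by_cases hur : u = r
            · subst hur
              rw [if_pos rfl, if_pos rfl, hs]
              field_simp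
            · rw [if_neg hur, if_neg hur, mul_zero, zero_mul]
      · rcases row with i' | u
        · dsimp only
          rw [if_neg hsr, if_neg hsn, if_neg hsr, if_neg hsn]
          simp
        · dsimp only
          rw [if_neg hsr, if_neg hsn, if_neg hsr, if_neg hsn]
          simp only [Sum.elim_inr]
          rw [mul_add, add_mul]
          congr 1
          · by_cases hus : u = s
            · subst hus
              rw [if_pos rfl, mul_comm]
            · rw [if_neg hus, mul_zero, zero_mul]
          · rw [← List.sum_map_mul_left, ← List.sum_map_mul_right]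
            congr 1
            apply List.map_congr_left
            intro km hkm
            have h1 := hch s.val u.val km.1 km.2 hkm
            have h2 : (χ u.val : K) = (χ s.val : K) * (χ r.val : K) ^ km.1 := by
              rw [h1]; simp
            rw [h2]
            ring

end

end Cfsg.Agent.Lib.Helper3.ChevAut
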