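import Mathlib
import Cfsg.Prelude.Def_ChevStructure
import Cfsg.Agent.Lib.Helper3.ChevAut15
set_option autoImplicit false
set_option linter.unusedSectionVars false
set_option linter.style.haveILetI false
open Cfsg Cfsg.Lie

/-!
Automorphisms of Chevalley groups, part 16: the group of diagonal automorphisms.
-/

namespace Cfsg.Agent.Lib.Helper3.ChevAut

open Cfsg.Agent.Lib.Helper3.ChevM Cfsg.Agent.Lib.Helper3.ChevSp Cfsg.Agent.Lib.Helper3 ChevU ChevT ChevH
open Cfsg.Agent.Lib.Helper3.ChevAt Cfsg.Agent.Lib.Helper1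

/-- Conjugation by an element normalizing a subgroup, as an automorphism of the subgroup. -/
def conjAut {G₀ : Type*} [Group G₀] (Γ : Subgroup G₀) (d : G₀) (h1 : ∀ g ∈ Γ, d * g * d⁻¹ ∈ Γ)
    (h2 : ∀ g ∈ Γ, d⁻¹ * g * d ∈ Γ) : MulAut ↥Γ where
  toFun g := ⟨d * g * d⁻¹, h1 g g.2⟩
  invFun g := ⟨d⁻¹ * g * d, h2 g g.2⟩
  left_inv g := by apply Subtype.ext; simp [mul_assoc]
  right_inv g := by apply Subtype.ext; simp [mul_assoc]
  map_mul' a b := by apply Subtype.ext; simp [mul_assoc]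

theorem ex_conjAut {G₀ : Type*} [Group G₀] (Γ : Subgroup G₀) (d : G₀) (h1 : ∀ g ∈ Γ, d * g * d⁻¹ ∈ Γ)
    (h2 : ∀ g ∈ Γ, d⁻¹ * g * d ∈ Γ) {g : G₀} (hg : g ∈ Γ) : ex (conjAut Γ d h1 h2) g = d * g * d⁻¹ := by
  rw [ex_of_mem _ hg]
  rfl

/-- The coordinates of the roots on the fundamental roots. -/
structure VecHyp (C : CDatum) where
  vec : ℕ → ℕ → ℤ
  chain : ∀ r < C.D.nroots, chainVecCheck C.D vec r = true
  neg : ∀ r < C.D.nroots, ∀ i < C.D.rank, vec (C.D.neg r) i = -vec r i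
  simple : ∀ i < C.D.rank, ∀ j < C.D.rank, vec (C.D.simple i) j = if j = i then 1 else 0

section
variable {K : Type*} [Field K] {C : CDatum} (V : VecHyp C)

/-- The character of the root lattice with given values on the fundamental roots. -/
def wtC (c : Fin C.D.rank → Kˣ) (s : ℕ) : Kˣ := ∏ i : Fin C.D.rank, c i ^ V.vec s i.val

theorem wtC_mul (c c' : Fin C.D.rank → Kˣ) (s : ℕ) : wtC V (c * c') s = wtC V c s * wtC V c' s := by
  unfold wtC
  rw [← Finset.prod_mul_distrib]
  apply Finset.prod_congr rfl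
  intro i _
  rw [Pi.mul_apply, mul_zpow]

theorem wtC_one (s : ℕ) : wtC V (1 : Fin C.D.rank → Kˣ) s = 1 := by
  unfold wtC
  apply Finset.prod_eq_one
  intro i _
  rw [Pi.one_apply, one_zpow]

theorem wtC_simple (c : Fin C.D.rank → Kˣ) (i : ℕ) (hi : i < C.D.rank) :
    wtC V c (C.D.simple i) = c ⟨i, hi⟩ := by
  unfold wtC
  rw [Finset.prod_eq_single ⟨i, hi⟩]
  · rw [V.simple i hi i hi, if_pos rfl, zpow_one]
  · intro j _ hj
    have : j.val ≠ i := fun e => hj (Fin.ext e)
    rw [V.simple i hi j.val j.isLt, if_neg this, zpow_zero]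
  · intro h; exact absurd (Finset.mem_univ _) h

theorem wtC_neg (c : Fin C.D.rank → Kˣ) (r : ℕ) (hr : r < C.D.nroots) :
    wtC V c (C.D.neg r) = (wtC V c r)⁻¹ := by
  unfold wtC
  rw [← Finset.prod_inv_distrib]
  apply Finset.prod_congr rfl
  intro i _
  rw [V.neg r hr i.val i.isLt, zpow_neg]

theorem wtC_chain (c : Fin C.D.rank → Kˣ) (r : ℕ) (hr : r < C.D.nroots) (s u k : ℕ) (m : ℤ)
    (hm : (k, m) ∈ C.D.chainCoeff r s u) : wtC V c u = wtC V c s * wtC V c r ^ k := by
  have h := chainVecCheck_spec C.D V.vec r (V.chain r hr) s u k m hm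
  unfold wtC
  rw [← Finset.prod_pow, ← Finset.prod_mul_distrib]
  apply Finset.prod_congr rfl
  intro i _
  rw [h i.val i.isLt, zpow_add]
  congr 1
  rw [mul_comm, zpow_mul, zpow_natCast]

/-- The diagonal matrix of a character of the root lattice. -/
def dMat (c : Fin C.D.rank → Kˣ) : GL C.D.Idx K := diagU C.D K fun s => wtC V c s.val

theorem dMat_mul (c c' : Fin C.D.rank → Kˣ) : dMat V (c * c') = dMat V c * dMat V c' := by
  apply Units.ext
  rw [Units.val_mul]
  simp only [dMat, diagU]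
  rw [Matrix.diagonal_mul_diagonal]
  congr 1
  funext j
  rcases j with j | s
  · simp
  · simp [wtC_mul]

theorem dMat_one : dMat V (1 : Fin C.D.rank → Kˣ) = 1 := by
  apply Units.ext
  simp only [dMat, diagU]
  rw [Units.val_one, ← Matrix.diagonal_one]
  congr 1
  funext j
  rcases j with j | s
  · simp
  · simp [wtC_one]

theorem dMat_inv (c : Fin C.D.rank → Kˣ) : dMat V c⁻¹ = (dMat V c)⁻¹ := by
  rw [eq_inv_iff_mul_eq_one, ← dMat_mul, inv_mul_cancel, dMat_one]

variable (R : RelData C)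
include R

/-- Conjugation of the root elements by the diagonal matrix of a character of the root lattice. -/
theorem dMat_conj_xU (c : Fin C.D.rank → Kˣ) (r : ℕ) (hr : r < C.D.nroots) (t : K) :
    dMat V c * R.xU r t * (dMat V c)⁻¹ = R.xU r ((wtC V c r : K) * t) := by
  rw [mul_inv_eq_iff_eq_mul]
  apply Units.ext
  rw [Units.val_mul, Units.val_mul, R.xU_val, R.xU_val]
  unfold ChevalleyDatum.x
  rw [dif_pos hr, dif_pos hr]
  exact diagU_mul_xMat C.D (fun s => wtC V c s) ⟨r, hr⟩ (wtC_neg V c r hr)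
    (fun s u k m hm => wtC_chain V c r hr s u k m hm) t

theorem dMat_conj_mem (c : Fin C.D.rank → Kˣ) (g : GL C.D.Idx K) (hg : g ∈ C.D.group K) :
    dMat V c * g * (dMat V c)⁻¹ ∈ C.D.group K := by
  have h : C.D.group K ≤ (C.D.group K).comap (MulAut.conj (dMat V c)).toMonoidHom := by
    apply R.group_le_of_good
    intro r hr t
    rw [Subgroup.mem_comap]
    show dMat V c * R.xU r t * (dMat V c)⁻¹ ∈ C.D.group K
    rw [dMat_conj_xU V R c r hr t]
    exact R.xU_mem_group r hr _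
  exact h hg

theorem dMat_conj_mem' (c : Fin C.D.rank → Kˣ) (g : GL C.D.Idx K) (hg : g ∈ C.D.group K) :
    (dMat V c)⁻¹ * g * dMat V c ∈ C.D.group K := by
  have := dMat_conj_mem V R c⁻¹ g hg
  rwa [dMat_inv, inv_inv] at this

/-- The diagonal automorphism of a character of the root lattice. -/
def dAut (c : Fin C.D.rank → Kˣ) : MulAut ↥(C.D.group K) :=
  conjAut (C.D.group K) (dMat V c) (dMat_conj_mem V R c) (dMat_conj_mem' V R c)

theorem ex_dAut_xU (c : Fin C.D.rank → Kˣ) (r : ℕ) (hr : r < C.D.nroots) (t : K) :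
    ex (dAut V R c) (R.xU r t) = R.xU r ((wtC V c r : K) * t) := by
  unfold dAut
  rw [ex_conjAut _ _ _ _ (R.xU_mem_group r hr t), dMat_conj_xU V R c r hr t]

theorem dAut_mul (c c' : Fin C.D.rank → Kˣ) : dAut V R (c * c') = dAut V R c * dAut V R c' := by
  apply MulEquiv.ext
  intro g
  apply Subtype.ext
  show dMat V (c * c') * (g : GL C.D.Idx K) * (dMat V (c * c'))⁻¹ =
    dMat V c * (dMat V c' * (g : GL C.D.Idx K) * (dMat V c')⁻¹) * (dMat V c)⁻¹
  rw [dMat_mul]
  group

theorem dAut_one : dAut V R (1 : Fin C.D.rank → Kˣ) = 1 := by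
  apply MulEquiv.ext
  intro g
  apply Subtype.ext
  show dMat V (1 : Fin C.D.rank → Kˣ) * (g : GL C.D.Idx K) * (dMat V (1 : Fin C.D.rank → Kˣ))⁻¹ = g
  rw [dMat_one]
  group

/-- The diagonal automorphisms as a homomorphism. -/
def dAutHom : (Fin C.D.rank → Kˣ) →* MulAut ↥(C.D.group K) where
  toFun := dAut V R
  map_one' := dAut_one V R
  map_mul' := dAut_mul V R

end

end Cfsg.Agent.Lib.Helper3.ChevAut
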