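import Mathlib
import Cfsg.Prelude.Def_ChevStructure
import Cfsg.Prelude.Def_KGroupFacts
import Cfsg.Agent.Lib.Helper3.ChevAut16
set_option autoImplicit false
set_option linter.unusedSectionVars false
set_option linter.style.haveILetI false
open Cfsg Cfsg.Lie

/-!
Automorphisms of Chevalley groups, part 17: for a simply laced diagram without symmetries, the outer
automorphism group is an extension of the group of field automorphisms by the group of diagonal automorphisms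
modulo the inner ones.
-/

namespace Cfsg.Agent.Lib.Helper3.ChevAut

open Cfsg.Agent.Lib.Helper3.ChevM Cfsg.Agent.Lib.Helper3.ChevSp Cfsg.Agent.Lib.Helper3 ChevU ChevT ChevH
open Cfsg.Agent.Lib.Helper3.ChevAt Cfsg.Agent.Lib.Helper1

/-- The table checks for the automorphisms of a Chevalley group with simply laced diagram without symmetries. -/
structure DiagHyp (C : CDatum) (R : RelData C) where
  S : SLHyp C R
  adjM : List (List Bool)
  hadjM : ∀ i < C.D.rank, ∀ j < C.D.rank, tabB adjM i j = nadj C.D i j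
  rig : rigExt C.D.rank adjM [List.range C.D.rank] C.D.rank [] = true
  V : VecHyp C
  cneg : ∀ i < C.D.rank, ∀ j < C.D.rank, C.D.cartan i (C.D.neg (C.D.simple j)) = -C.D.cartan i (C.D.simple j)

theorem conj_mul_aut {G : Type*} [Group G] (φ : MulAut G) (h : G) :
    φ * MulAut.conj h = MulAut.conj (φ h) * φ := by
  apply MulEquiv.ext
  intro g
  simp [MulAut.mul_apply, MulAut.conj_apply]

section
variable {K : Type*} [Field K] {C : CDatum} {R : RelData C} (W : DiagHyp C R)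
include W

theorem pres_dAut_pos (c : Fin C.D.rank → Kˣ) : Pres (dAut W.V R c) (C.D.posUnipotent K) := by
  intro g hg
  unfold ChevalleyDatum.posUnipotent at hg
  refine ex_mem_of_closure _ _ ?_ _ ?_ hg
  · rintro x ⟨r, t, hr, hx⟩
    have : x = R.xU r t := Units.ext (by rw [hx, R.xU_val])
    rw [this]
    exact R.xU_mem_group r hr.1 t
  · rintro x ⟨r, t, hr, hx⟩
    have : x = R.xU r t := Units.ext (by rw [hx, R.xU_val])
    rw [this, ex_dAut_xU W.V R c r hr.1]
    exact xU_mem_pos W.S.Y.A r hr _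

theorem pres_dAut_neg (c : Fin C.D.rank → Kˣ) : Pres (dAut W.V R c) (C.D.negUnipotent K) := by
  intro g hg
  unfold ChevalleyDatum.negUnipotent at hg
  refine ex_mem_of_closure _ _ ?_ _ ?_ hg
  · rintro x ⟨r, t, hr, hx⟩
    have : x = R.xU r t := Units.ext (by rw [hx, R.xU_val])
    rw [this]
    exact R.xU_mem_group r hr.1 t
  · rintro x ⟨r, t, hr, hx⟩
    have : x = R.xU r t := Units.ext (by rw [hx, R.xU_val])
    rw [this, ex_dAut_xU W.V R c r hr.1]
    exact xU_mem_neg W.S.Y.A r hr _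

/-- The diagonal automorphism of a character which extends to the weight lattice is inner. -/
theorem dAut_pw (z : Fin C.D.rank → Kˣ) :
    dAut W.V R (pw (cartanMat C.D) z) = MulAut.conj ⟨R.tor z, R.diagonalSubgroup_le_group (R.tor_mem z)⟩ := by
  apply aut_eq_of_simple W.S.Y
  intro i hi t
  have hl := R.simple_lt i hi
  have hnl := R.neg_lt _ hl
  have h1 : rootChar C.D K z ⟨C.D.simple i, hl⟩ = pw (cartanMat C.D) z ⟨i, hi⟩ :=
    (pw_cartanMat C.D R.simple_lt z ⟨i, hi⟩).symm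
  have h2 : rootChar C.D K z ⟨C.D.neg (C.D.simple i), hnl⟩ = (pw (cartanMat C.D) z ⟨i, hi⟩)⁻¹ := by
    rw [← h1]
    show ∏ k, z k ^ C.D.cartan k.val (C.D.neg (C.D.simple i)) = (∏ k, z k ^ C.D.cartan k.val (C.D.simple i))⁻¹
    rw [← Finset.prod_inv_distrib]
    apply Finset.prod_congr rfl
    intro k _
    rw [W.cneg k.val k.isLt i hi, zpow_neg]
  constructor
  · rw [ex_dAut_xU W.V R _ _ hl, ex_conj _ (R.xU_mem_group _ hl _), wtC_simple W.V _ i hi]
    show _ = R.tor z * _ * (R.tor z)⁻¹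
    rw [tor_conj_xU R z _ hl, h1]
  · rw [ex_dAut_xU W.V R _ _ hnl, ex_conj _ (R.xU_mem_group _ hnl _), wtC_neg W.V _ _ hl,
      wtC_simple W.V _ i hi]
    show _ = R.tor z * _ * (R.tor z)⁻¹
    rw [tor_conj_xU R z _ hnl, h2]

/-- If the product of an inner and a diagonal automorphism is a field automorphism, then the field automorphism
is trivial and the diagonal automorphism is inner. -/
theorem field_eq_inner_diag (τ : K ≃+* K) (a : ↥(C.D.group K)) (e : Fin C.D.rank → Kˣ)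
    (h : fAut C.D τ = MulAut.conj a * dAut W.V R e) :
    τ = 1 ∧ e ∈ (pw (cartanMat C.D) : (Fin C.D.rank → Kˣ) →* (Fin C.D.rank → Kˣ)).range := by
  have Y := W.S.Y
  have hc : MulAut.conj a = fAut C.D τ * dAut W.V R e⁻¹ := by
    rw [h, mul_assoc, ← dAut_mul, mul_inv_cancel, dAut_one, mul_one]
  have hposG : C.D.posUnipotent K ≤ C.D.group K := R.posUnipotent_le_group
  have hnegG : C.D.negUnipotent K ≤ C.D.group K := negUnipotent_le_group Y.A
  have h1 : (a : GL C.D.Idx K) ∈ C.D.borelSubgroup K := by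
    apply mem_borel_of_conj_pos Y.A _ a.2
    intro u hu
    rw [← ex_conj a (hposG hu), hc, ex_mul_aut _ _ (hposG hu)]
    exact pres_fAut_pos Y τ _ (pres_dAut_pos W e⁻¹ u hu)
  have h2 : (a : GL C.D.Idx K) ∈ negBorel C.D K := by
    apply mem_negBorel_of_conj_neg Y.A Y.w0 Y.w0l Y.w0neg' _ a.2
    intro u hu
    rw [← ex_conj a (hnegG hu), hc, ex_mul_aut _ _ (hnegG hu)]
    exact pres_fAut_neg Y τ _ (pres_dAut_neg W e⁻¹ u hu)
  have h3 : (a : GL C.D.Idx K) ∈ C.D.diagonalSubgroup K := by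
    rw [← borel_inf_negBorel Y.A]
    exact ⟨h1, h2⟩
  obtain ⟨z, hz⟩ := R.exists_tor Y.A.B.dec _ h3
  have key : ∀ i (hi : i < C.D.rank) (t : K),
      ((pw (cartanMat C.D) z ⟨i, hi⟩ : Kˣ) : K) * t = τ (((e⁻¹ ⟨i, hi⟩ : Kˣ) : K) * t) := by
    intro i hi t
    have hl := R.simple_lt i hi
    have e1 : ex (MulAut.conj a) (R.xU (C.D.simple i) t) =
        R.xU (C.D.simple i) (((pw (cartanMat C.D) z ⟨i, hi⟩ : Kˣ) : K) * t) := by
      rw [ex_conj a (R.xU_mem_group _ hl t), ← hz, tor_conj_xU R z _ hl, pw_cartanMat C.D R.simple_lt z ⟨i, hi⟩]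
    rw [hc, ex_mul_aut _ _ (R.xU_mem_group _ hl t), ex_dAut_xU W.V R _ _ hl, ex_fAut_xU R τ _ hl,
      wtC_simple W.V _ i hi] at e1
    exact (Y.A.U.xU_inj_pos' _ (simple_pos Y.A i hi) _ _ e1).symm
  have hτ : τ = 1 := by
    have hrk : 0 < C.D.rank := lt_of_le_of_lt (Nat.zero_le _) W.S.hroot
    apply RingEquiv.ext
    intro t
    have k1 := key 0 hrk 1
    have kt := key 0 hrk t
    rw [mul_one, mul_one] at k1
    rw [map_mul, ← k1] at kt
    have hne : ((pw (cartanMat C.D) z ⟨0, hrk⟩ : Kˣ) : K) ≠ 0 := Units.ne_zero _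
    exact (mul_left_cancel₀ hne kt).symm
  refine ⟨hτ, ⟨z⁻¹, ?_⟩⟩
  rw [map_inv, inv_eq_iff_eq_inv]
  funext i
  have k1 := key i.val i.isLt 1
  rw [mul_one, mul_one, hτ] at k1
  apply Units.ext
  exact k1

variable [Finite K]

/-- An automorphism preserving `U` and `V` is the product of a diagonal automorphism and a field automorphism. -/
theorem exists_dAut_field (θ : MulAut ↥(C.D.group K)) (hU : Pres θ (C.D.posUnipotent K))
    (hV : Pres θ (C.D.negUnipotent K)) :
    ∃ (c : Fin C.D.rank → Kˣ) (σ : K ≃+* K), θ = dAut W.V R c * fAut C.D σ := by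
  obtain ⟨T⟩ := exists_rootAct (K := K) W.S.Y θ hU hV
  have hp := T.p_eq W.S W.adjM W.hadjM W.rig
  obtain ⟨σ, c, hc, hσ⟩ := T.exists_sigma W.S hp
  refine ⟨fun i => Units.mk0 (c i.val) (hc i.val i.isLt), σ, ?_⟩
  apply aut_eq_of_simple W.S.Y
  intro i hi t
  have hl := R.simple_lt i hi
  have hnl := R.neg_lt _ hl
  constructor
  · rw [(hσ i hi t).1, ex_mul_aut _ _ (R.xU_mem_group _ hl _), ex_fAut_xU R σ _ hl,
      ex_dAut_xU W.V R _ _ hl, wtC_simple W.V _ i hi]
    rfl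
  · rw [(hσ i hi t).2, ex_mul_aut _ _ (R.xU_mem_group _ hnl _), ex_fAut_xU R σ _ hnl,
      ex_dAut_xU W.V R _ _ hnl, wtC_neg W.V _ _ hl, wtC_simple W.V _ i hi]
    simp

/-- Steinberg's theorem: every automorphism is the product of an inner, a diagonal and a field automorphism. -/
theorem exists_inner_diag_field (p : ℕ) [Fact p.Prime]
    (hS : ∃ S : Sylow p ↥(C.D.group K),
      (S : Subgroup ↥(C.D.group K)) = (C.D.posUnipotent K).subgroupOf (C.D.group K))
    (θ : MulAut ↥(C.D.group K)) :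
    ∃ (a : ↥(C.D.group K)) (c : Fin C.D.rank → Kˣ) (σ : K ≃+* K),
      θ = MulAut.conj a * dAut W.V R c * fAut C.D σ := by
  obtain ⟨a, hU, hV⟩ := exists_conj_pres W.S.Y.A p hS W.S.Y.w0 W.S.Y.w0l W.S.Y.w0neg' θ
  obtain ⟨c, σ, e⟩ := exists_dAut_field W _ hU hV
  refine ⟨a⁻¹, c, σ, ?_⟩
  rw [mul_assoc, ← e, map_inv, inv_mul_cancel_left]

/-- The order of the outer automorphism group. -/
theorem card_out_diag (p : ℕ) [Fact p.Prime]
    (hS : ∃ S : Sylow p ↥(C.D.group K),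
      (S : Subgroup ↥(C.D.group K)) = (C.D.posUnipotent K).subgroupOf (C.D.group K)) :
    Nat.card (Cfsg.Out ↥(C.D.group K)) =
      (pw (cartanMat C.D) : (Fin C.D.rank → Kˣ) →* (Fin C.D.rank → Kˣ)).range.index * Nat.card (K ≃+* K) := by
  set Rg := (pw (cartanMat C.D) : (Fin C.D.rank → Kˣ) →* (Fin C.D.rank → Kˣ)).range with hRg
  let δ₀ : (Fin C.D.rank → Kˣ) →* Cfsg.Out ↥(C.D.group K) :=
    (QuotientGroup.mk' (Cfsg.Inn ↥(C.D.group K))).comp (dAutHom W.V R)
  have hδ₀ : ∀ c ∈ Rg, δ₀ c = 1 := by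
    rintro c ⟨z, rfl⟩
    show (QuotientGroup.mk (dAut W.V R (pw (cartanMat C.D) z)) : Cfsg.Out ↥(C.D.group K)) = 1
    rw [dAut_pw W z]
    exact (QuotientGroup.eq_one_iff _).mpr ⟨_, rfl⟩
  let δ : (Fin C.D.rank → Kˣ) ⧸ Rg →* Cfsg.Out ↥(C.D.group K) := QuotientGroup.lift Rg δ₀ hδ₀
  let φ : (K ≃+* K) →* Cfsg.Out ↥(C.D.group K) :=
    (QuotientGroup.mk' (Cfsg.Inn ↥(C.D.group K))).comp (fAutHom C.D)
  let Ξ : ((Fin C.D.rank → Kˣ) ⧸ Rg) × (K ≃+* K) → Cfsg.Out ↥(C.D.group K) := fun x => δ x.1 * φ x.2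
  have hΞ : Function.Bijective Ξ := by
    constructor
    · rintro ⟨x, σ⟩ ⟨x', σ'⟩ hx
      obtain ⟨c, rfl⟩ := QuotientGroup.mk_surjective x
      obtain ⟨c', rfl⟩ := QuotientGroup.mk_surjective x'
      have h1 : (QuotientGroup.mk (dAut W.V R c * fAut C.D σ) : Cfsg.Out ↥(C.D.group K)) =
          QuotientGroup.mk (dAut W.V R c' * fAut C.D σ') := hx
      rw [QuotientGroup.eq] at h1
      obtain ⟨a, ha⟩ := h1
      have e1 : dAut W.V R c * fAut C.D σ * MulAut.conj a = dAut W.V R c' * fAut C.D σ' := by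
        rw [ha]; group
      have e2 : fAut C.D σ * MulAut.conj a = MulAut.conj (fAut C.D σ a) * fAut C.D σ := conj_mul_aut _ _
      have hdi : dAut W.V R c⁻¹ = (dAut W.V R c)⁻¹ := map_inv (dAutHom W.V R) c
      have hfi : fAut C.D σ'⁻¹ = (fAut C.D σ')⁻¹ := map_inv (fAutHom C.D) σ'
      have e3 : fAut C.D (σ * σ'⁻¹) = MulAut.conj (fAut C.D σ a)⁻¹ * dAut W.V R (c⁻¹ * c') := by
        rw [fAut_mul, dAut_mul, hdi, hfi, map_inv]
        rw [mul_assoc, e2] at e1
        have e4 : fAut C.D σ = (MulAut.conj (fAut C.D σ a))⁻¹ * (dAut W.V R c)⁻¹ *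
            (dAut W.V R c' * fAut C.D σ') := by
          rw [← e1]; group
        conv_lhs => rw [e4]
        group
      obtain ⟨h3, h4⟩ := field_eq_inner_diag W _ _ _ e3
      have h5 : σ = σ' := by
        have := congrArg (fun x => x * σ') h3
        simpa using this
      have h6 : (QuotientGroup.mk c : (Fin C.D.rank → Kˣ) ⧸ Rg) = QuotientGroup.mk c' := by
        rw [QuotientGroup.eq]
        exact h4
      rw [h5, h6]
    · intro x
      obtain ⟨θ, rfl⟩ := QuotientGroup.mk_surjective x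
      obtain ⟨a, c, σ, rfl⟩ := exists_inner_diag_field W p hS θ
      refine ⟨⟨QuotientGroup.mk c, σ⟩, ?_⟩
      show (QuotientGroup.mk (dAut W.V R c) : Cfsg.Out ↥(C.D.group K)) * QuotientGroup.mk (fAut C.D σ) = _
      rw [QuotientGroup.mk_mul, QuotientGroup.mk_mul]
      have : (QuotientGroup.mk (MulAut.conj a) : Cfsg.Out ↥(C.D.group K)) = 1 :=
        (QuotientGroup.eq_one_iff _).mpr ⟨a, rfl⟩
      rw [this, one_mul]
  rw [← Nat.card_congr (Equiv.ofBijective Ξ hΞ), Nat.card_prod]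
  rfl

end

end Cfsg.Agent.Lib.Helper3.ChevAut
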