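import Mathlib
import Cfsg.Prelude.Def_ChevStructure
import Cfsg.Agent.Lib.Helper3.ChevAut17
set_option autoImplicit false
set_option linter.unusedSectionVars false
set_option linter.style.haveILetI false
open Cfsg Cfsg.Lie

/-!
Automorphisms of Chevalley groups, part 19: for an arbitrary diagram, an automorphism preserving `U` and `V`
and each fundamental root subgroup is the product of a diagonal and a field automorphism.
-/

namespace Cfsg.Agent.Lib.Helper3.ChevAut

open Cfsg.Agent.Lib.Helper3.ChevM Cfsg.Agent.Lib.Helper3.ChevSp Cfsg.Agent.Lib.Helper3 ChevU ChevT ChevH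
open Cfsg.Agent.Lib.Helper3.ChevAt Cfsg.Agent.Lib.Helper1

/-- An additive map of a finite field which is multiplicative with respect to squares is multiplicative. -/
theorem mul_of_sq {K : Type*} [Field K] [Finite K] (φ : K → K) (hadd : ∀ a b, φ (a + b) = φ a + φ b)
    (hsq : ∀ t u, φ (t ^ 2 * u) = φ t ^ 2 * φ u) (h1 : φ 1 = 1) : ∀ s u, φ (s * u) = φ s * φ u := by
  have h0 : φ 0 = 0 := by
    have := hadd 0 0
    rw [add_zero] at this
    exact left_eq_add.mp this
  have hneg : ∀ a, φ (-a) = -φ a := by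
    intro a
    have := hadd a (-a)
    rw [add_neg_cancel, h0] at this
    exact eq_neg_of_add_eq_zero_right this.symm
  have hsub : ∀ a b, φ (a - b) = φ a - φ b := by
    intro a b
    rw [sub_eq_add_neg, hadd, hneg, ← sub_eq_add_neg]
  have hsq1 : ∀ t, φ (t ^ 2) = φ t ^ 2 := by
    intro t
    have := hsq t 1
    rwa [mul_one, h1, mul_one] at this
  intro s u
  by_cases h2 : (2 : K) = 0
  · have hinj : Function.Injective (fun t : K => t ^ 2) := by
      intro a b hab
      have hab' : a ^ 2 = b ^ 2 := hab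
      have : (a - b) ^ 2 = 0 := by
        have e : (a - b) ^ 2 = a ^ 2 + b ^ 2 - 2 * (a * b) := by ring
        rw [e, h2, zero_mul, sub_zero, hab']
        have : b ^ 2 + b ^ 2 = 2 * b ^ 2 := by ring
        rw [this, h2, zero_mul]
      exact sub_eq_zero.mp (pow_eq_zero_iff (two_ne_zero) |>.mp this)
    obtain ⟨t, ht⟩ := Finite.surjective_of_injective hinj s
    have ht' : t ^ 2 = s := ht
    rw [← ht', hsq, hsq1]
  · have e : s = ((s + 1) / 2) ^ 2 - ((s - 1) / 2) ^ 2 := by
      field_simp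
      ring
    have e2 : s * u = ((s + 1) / 2) ^ 2 * u - ((s - 1) / 2) ^ 2 * u := by
      rw [← sub_mul, ← e]
    rw [e2, hsub, hsq, hsq, ← sub_mul, ← hsq1, ← hsq1, ← hsub, ← e]

/-- The table checks for the automorphisms preserving the fundamental root subgroups, for an arbitrary diagram. -/
structure GenHyp (C : CDatum) (R : RelData C) where
  Y : AutHyp C R
  hcs : ∀ j < C.D.rank, C.D.cartan j (C.D.neg (C.D.simple j)) = -2
  c2 : ∀ i < C.D.rank, C.D.cartan i (C.D.simple i) = 2
  par : ℕ → ℕ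
  dep : ℕ → ℕ
  root : ℕ
  hroot : root < C.D.rank
  tree : ∀ i < C.D.rank, i = root ∨ (par i < C.D.rank ∧ dep (par i) < dep i ∧
    (C.D.cartan (par i) (C.D.simple i) = -1 ∨ C.D.cartan i (C.D.simple (par i)) = -1))
  V : VecHyp C
  cneg : ∀ i < C.D.rank, ∀ j < C.D.rank, C.D.cartan i (C.D.neg (C.D.simple j)) = -C.D.cartan i (C.D.simple j)

section
variable {K : Type*} [Field K] [Finite K] {C : CDatum} {R : RelData C} (Z : GenHyp C R)
  {θ : MulAut ↥(C.D.group K)} (T : RootAct R K θ)
include Z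

theorem RootAct.phiG_one (i : ℕ) (hi : i < C.D.rank) : T.phi i 1 = 1 := by
  unfold RootAct.phi
  exact div_self (T.f_ne_zero Z.Y i hi 1 one_ne_zero)

theorem RootAct.phiG_zero (i : ℕ) (hi : i < C.D.rank) : T.phi i 0 = 0 := by
  unfold RootAct.phi
  rw [T.f_zero Z.Y i hi, zero_div]

theorem RootAct.phiG_add (i : ℕ) (hi : i < C.D.rank) (a b : K) : T.phi i (a + b) = T.phi i a + T.phi i b := by
  unfold RootAct.phi
  rw [T.f_add Z.Y i hi, add_div]

theorem RootAct.phiG_inj (j : ℕ) (hj : j < C.D.rank) : Function.Injective (T.phi j) := by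
  intro a b e
  unfold RootAct.phi at e
  have h1 := T.f_ne_zero Z.Y j hj 1 one_ne_zero
  rw [div_left_inj' h1] at e
  exact T.f_inj Z.Y j hj e

theorem RootAct.phiG_sq (i : ℕ) (hi : i < C.D.rank) (t u : K) :
    T.phi i (t ^ 2 * u) = T.phi i t ^ 2 * T.phi i u := by
  by_cases ht : t = 0
  · rw [ht, T.phiG_zero Z i hi]
    simp [T.phiG_zero Z i hi]
  · have := T.f_cartan Z.Y Z.hcs i i hi hi t u ht
    rw [Z.c2 i hi, Z.c2 _ (T.p_lt i hi)] at this
    have e2 : ∀ x : K, x ^ (2 : ℤ) = x ^ 2 := fun x => zpow_ofNat x 2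
    rw [e2, e2, e2] at this
    unfold RootAct.phi
    rw [this]
    have h1 := T.f_ne_zero Z.Y i hi 1 one_ne_zero
    field_simp

theorem RootAct.phiG_mul (i : ℕ) (hi : i < C.D.rank) (s u : K) : T.phi i (s * u) = T.phi i s * T.phi i u :=
  mul_of_sq (T.phi i) (T.phiG_add Z i hi) (T.phiG_sq Z i hi) (T.phiG_one Z i hi) s u

/-- The normalised action on a fundamental root subgroup, as a field automorphism. -/
noncomputable def RootAct.sig (j : ℕ) (hj : j < C.D.rank) : K ≃+* K :=
  RingEquiv.ofBijective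
    ({ toFun := T.phi j
       map_one' := T.phiG_one Z j hj
       map_mul' := T.phiG_mul Z j hj
       map_zero' := T.phiG_zero Z j hj
       map_add' := T.phiG_add Z j hj } : K →+* K)
    ⟨T.phiG_inj Z j hj, Finite.surjective_of_injective (T.phiG_inj Z j hj)⟩

theorem RootAct.sig_apply (j : ℕ) (hj : j < C.D.rank) (t : K) : T.sig Z j hj t = T.phi j t := rfl

theorem RootAct.phiG_inv (j : ℕ) (hj : j < C.D.rank) (t : K) : T.phi j t⁻¹ = (T.phi j t)⁻¹ := by
  rw [← T.sig_apply Z j hj, map_inv₀, T.sig_apply Z j hj]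

variable (hp : ∀ i < C.D.rank, T.p i = i)
include hp

theorem RootAct.phiG_eq_of_bond (i j : ℕ) (hi : i < C.D.rank) (hj : j < C.D.rank)
    (hA : C.D.cartan i (C.D.simple j) = -1) (t : K) : T.phi j t = T.phi i t := by
  by_cases ht : t = 0
  · rw [ht, T.phiG_zero Z i hi, T.phiG_zero Z j hj]
  · have := T.f_cartan Z.Y Z.hcs i j hi hj t 1 ht
    rw [hp i hi, hp j hj, hA, zpow_neg_one, zpow_neg_one, zpow_neg_one, inv_inv, mul_one] at this
    have h1 := T.f_ne_zero Z.Y i hi 1 one_ne_zero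
    have h2 := T.f_ne_zero Z.Y j hj 1 one_ne_zero
    have h3 := T.f_ne_zero Z.Y i hi t ht
    have e1 : T.phi j t⁻¹ = (T.phi i t)⁻¹ := by
      unfold RootAct.phi
      rw [this]
      field_simp
    rw [T.phiG_inv Z j hj] at e1
    exact inv_injective e1

theorem RootAct.phiG_eq_root (n : ℕ) : ∀ i < C.D.rank, Z.dep i ≤ n → ∀ t, T.phi i t = T.phi Z.root t := by
  induction n with
  | zero =>
    intro i hi hd t
    rcases Z.tree i hi with h | ⟨_, h2, _⟩
    · rw [h]
    · omega
  | succ n ih =>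
    intro i hi hd t
    rcases Z.tree i hi with h | ⟨h1, h2, h3⟩
    · rw [h]
    · rw [← ih (Z.par i) h1 (by omega) t]
      rcases h3 with h3 | h3
      · exact T.phiG_eq_of_bond Z hp (Z.par i) i h1 hi h3 t
      · exact (T.phiG_eq_of_bond Z hp i (Z.par i) hi h1 h3 t).symm

/-- The action on the fundamental root subgroups and their negatives is given by a field automorphism and
scalars. -/
theorem RootAct.exists_sigmaG : ∃ (σ : K ≃+* K) (c : ℕ → K), (∀ i < C.D.rank, c i ≠ 0) ∧
    ∀ i < C.D.rank, ∀ t : K, ex θ (R.xU (C.D.simple i) t) = R.xU (C.D.simple i) (c i * σ t) ∧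
      ex θ (R.xU (C.D.neg (C.D.simple i)) t) = R.xU (C.D.neg (C.D.simple i)) ((c i)⁻¹ * σ t) := by
  refine ⟨T.sig Z Z.root Z.hroot, fun i => T.f i 1, fun i hi => T.f_ne_zero Z.Y i hi 1 one_ne_zero, ?_⟩
  intro i hi t
  have h1 := T.f_ne_zero Z.Y i hi 1 one_ne_zero
  have hf : ∀ s : K, T.f i s = T.f i 1 * T.sig Z Z.root Z.hroot s := by
    intro s
    rw [T.sig_apply, ← T.phiG_eq_root Z hp (Z.dep i) i hi le_rfl s]
    unfold RootAct.phi
    field_simp
  constructor
  · have := T.pos i hi t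
    rw [hp i hi] at this
    rw [this, hf]
  · have := T.neg i hi t
    rw [hp i hi] at this
    rw [this]
    congr 1
    by_cases ht : t = 0
    · rw [ht, T.g_zero Z.Y i hi, map_zero, mul_zero]
    · have h2 := T.g_eq Z.Y Z.hcs i hi (-t⁻¹) (neg_ne_zero.mpr (inv_ne_zero ht))
      rw [inv_neg, inv_inv, neg_neg] at h2
      rw [h2, hf, map_neg, map_inv₀]
      have h3 : (T.sig Z Z.root Z.hroot) t ≠ 0 := by
        rw [Ne, map_eq_zero_iff _ (T.sig Z Z.root Z.hroot).injective]; exact ht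
      field_simp

/-- An automorphism preserving `U`, `V` and the fundamental root subgroups is the product of a diagonal and a
field automorphism. -/
theorem RootAct.eq_dAut_field :
    ∃ (c : Fin C.D.rank → Kˣ) (σ : K ≃+* K), θ = dAut Z.V R c * fAut C.D σ := by
  obtain ⟨σ, c, hc, hσ⟩ := T.exists_sigmaG Z hp
  refine ⟨fun i => Units.mk0 (c i.val) (hc i.val i.isLt), σ, ?_⟩
  apply aut_eq_of_simple Z.Y
  intro i hi t
  have hl := R.simple_lt i hi
  have hnl := R.neg_lt _ hl
  constructor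
  · rw [(hσ i hi t).1, ex_mul_aut _ _ (R.xU_mem_group _ hl _), ex_fAut_xU R σ _ hl,
      ex_dAut_xU Z.V R _ _ hl, wtC_simple Z.V _ i hi]
    rfl
  · rw [(hσ i hi t).2, ex_mul_aut _ _ (R.xU_mem_group _ hnl _), ex_fAut_xU R σ _ hnl,
      ex_dAut_xU Z.V R _ _ hnl, wtC_neg Z.V _ _ hl, wtC_simple Z.V _ i hi]
    simp

end

end Cfsg.Agent.Lib.Helper3.ChevAut
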