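import Mathlib
import Cfsg.Prelude.Def_ChevStructure
import Cfsg.Agent.Lib.Helper3.ChevAut19
set_option autoImplicit false
set_option linter.unusedSectionVars false
set_option linter.style.haveILetI false
open Cfsg Cfsg.Lie

/-!
Automorphisms of Chevalley groups, part 20: root elements of joined fundamental roots do not commute (any
bond); the permutation of the nodes induced by an automorphism preserving `U` and `V` lies in a list of
candidates found by a search.
-/

namespace Cfsg.Agent.Lib.Helper3.ChevAut

open Cfsg.Agent.Lib.Helper3.ChevM Cfsg.Agent.Lib.Helper3.ChevSp Cfsg.Agent.Lib.Helper3 ChevU ChevT ChevH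
open Cfsg.Agent.Lib.Helper3.ChevAt Cfsg.Agent.Lib.Helper1

section
variable {K : Type*} [Field K] {G : Type*} [Group G]

/-- A product of elements indexed by a word without repetitions, as a product over the list of indices. -/
theorem lprod_lookup (x : ℕ → K → G) (w : List (ℕ × K)) (hnd : (w.map Prod.fst).Nodup) :
    RootSys.lprod x (w.map Prod.fst) (fun k => (w.lookup k).getD 0) = (w.map fun p => x p.1 p.2).prod := by
  induction w with
  | nil => rfl
  | cons a w ih =>
    obtain ⟨a1, a2⟩ := a
    rw [List.map_cons, List.nodup_cons] at hnd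
    rw [List.map_cons, RootSys.lprod_cons, List.map_cons, List.prod_cons]
    congr 1
    · have : List.lookup a1 ((a1, a2) :: w) = some a2 := by
        rw [List.lookup_cons]; simp
      simp only [this, Option.getD_some]
    · rw [← ih hnd.2]
      unfold RootSys.lprod
      congr 1
      apply List.map_congr_left
      intro k hk
      have hne : k ≠ a1 := fun e => hnd.1 (e ▸ hk)
      have : List.lookup k ((a1, a2) :: w) = List.lookup k w := by
        rw [List.lookup_cons]
        have hb : (k == a1) = false := by simpa using hne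
        rw [hb]
      show x k ((List.lookup k ((a1, a2) :: w)).getD 0) = x k ((List.lookup k w).getD 0)
      rw [this]

end

/-- The commutator formula of the roots `r`, `s` starts with a term `x_k(± t u)` and the roots of its terms are
positive and increasing. -/
def bondCheck (D : ChevalleyDatum) (r s : ℕ) : Bool :=
  match D.commTerms r s with
  | [] => true
  | (_, c, a, b) :: _ =>
    (decide (c = 1) || decide (c = -1)) && decide (a = 1) && decide (b = 1) &&
      decide (((D.commTerms r s).map Prod.fst).Pairwise (· < ·)) &&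
      ((D.commTerms r s).map Prod.fst).all fun k => decide (D.IsPosRoot k)

section
variable {K : Type*} [Field K] {C : CDatum} {R : RelData C} (H : AtHyp C R)
include H

/-- Root elements whose commutator formula is not empty, starts with a term `x_k(± t u)` and runs over increasing
positive roots do not commute. -/
theorem not_comm_of_bondCheck (r s : ℕ) (hr : r < C.D.nroots) (hs : s < C.D.nroots) (hrs : s ≠ r)
    (hneg : s ≠ C.D.neg r) (hb : bondCheck C.D r s = true) (hne : C.D.commTerms r s ≠ []) (t u : K)
    (hcomm : R.xU s u * R.xU r t = R.xU r t * R.xU s u) : t = 0 ∨ u = 0 := by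
  have h1 := H.U.K.commF (F := K) r s hr hs hrs hneg t u
  have h2 : C.D.wordMat K (C.D.commWord K r s t u) = 1 := by
    have e : ((R.xU s u * R.xU r t : GL C.D.Idx K) : Matrix C.D.Idx C.D.Idx K) =
        ((R.xU r t * R.xU s u : GL C.D.Idx K) : Matrix C.D.Idx C.D.Idx K) * C.D.wordMat K (C.D.commWord K r s t u) := by
      simpa [R.xU_val] using h1
    rw [hcomm] at e
    have e2 : ((R.xU r t * R.xU s u : GL C.D.Idx K)⁻¹ : GL C.D.Idx K).val *
        ((R.xU r t * R.xU s u : GL C.D.Idx K) : Matrix C.D.Idx C.D.Idx K) = 1 := by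
      rw [← Units.val_mul, inv_mul_cancel, Units.val_one]
    calc C.D.wordMat K (C.D.commWord K r s t u)
        = ((R.xU r t * R.xU s u : GL C.D.Idx K)⁻¹ : GL C.D.Idx K).val *
          (((R.xU r t * R.xU s u : GL C.D.Idx K) : Matrix C.D.Idx C.D.Idx K) *
            C.D.wordMat K (C.D.commWord K r s t u)) := by rw [← mul_assoc, e2, one_mul]
      _ = 1 := by rw [← e, e2]
  unfold bondCheck at hb
  obtain ⟨⟨k, c, a, b⟩, rest, hct⟩ : ∃ x rest, C.D.commTerms r s = x :: rest := by
    cases hl : C.D.commTerms r s with
    | nil => exact absurd hl hne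
    | cons x rest => exact ⟨x, rest, rfl⟩
  rw [hct] at hb
  simp only [Bool.and_eq_true, Bool.or_eq_true, decide_eq_true_eq, List.all_eq_true] at hb
  obtain ⟨⟨⟨⟨hc, ha⟩, hb1⟩, hsorted⟩, hpos⟩ := hb
  rw [← hct] at hsorted hpos
  set w := C.D.commWord K r s t u with hw
  have hwfst : w.map Prod.fst = (C.D.commTerms r s).map Prod.fst := by
    rw [hw]
    unfold ChevalleyDatum.commWord
    rw [List.map_map]
    rfl
  have hnd : (w.map Prod.fst).Nodup := by
    rw [hwfst]
    exact hsorted.imp (fun h => Nat.ne_of_lt h)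
  have h3 := lprod_lookup (fun r (t : K) => R.xU r t) w hnd
  have h4 : (w.map fun p => R.xU p.1 p.2).prod = (1 : GL C.D.Idx K) := by
    apply Units.ext
    have : (((w.map fun p => R.xU p.1 p.2).prod : GL C.D.Idx K) : Matrix C.D.Idx C.D.Idx K) = C.D.wordMat K w := by
      have := R.wordU_val (F := K) w
      exact this
    rw [this, h2, Units.val_one]
  rw [h4] at h3
  have h5 : RootSys.lprod (fun r (t : K) => R.xU r t) (w.map Prod.fst) (fun _ => (0 : K)) = 1 :=
    R.lp_zero (K := K) (w.map Prod.fst)
  have h6 := R.lprod_inj H.U.hf H.U.fr H.U.wj H.U.wi H.U.lev H.U.frm H.U.wit (w.map Prod.fst)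
    (by rw [hwfst]; exact hsorted) (by rw [hwfst]; intro k hk; simpa using hpos k hk) _ _ (h3.trans h5.symm)
  have hk : k ∈ w.map Prod.fst := by
    rw [hwfst, hct]
    simp
  have h7 := h6 k hk
  have h8 : (w.lookup k).getD 0 = (c : K) * (-t) ^ a * u ^ b := by
    rw [hw]
    unfold ChevalleyDatum.commWord
    rw [hct]
    simp
  simp only [h8] at h7
  subst ha hb1
  have hc0 : (c : K) ≠ 0 := by
    rcases hc with rfl | rfl <;> simp
  simp only [pow_one] at h7
  rcases mul_eq_zero.mp h7 with h9 | h9
  · rcases mul_eq_zero.mp h9 with h10 | h10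
    · exact absurd h10 hc0
    · left; simpa using h10
  · right; exact h9

end

/-- The table checks on the bonds of the diagram. -/
structure BondHyp (C : CDatum) (R : RelData C) where
  Z : GenHyp C R
  bond : ∀ i < C.D.rank, ∀ j < C.D.rank, i ≠ j → bondCheck C.D (C.D.simple i) (C.D.simple j) = true
  adjM : List (List Bool)
  hadjM : ∀ i < C.D.rank, ∀ j < C.D.rank, tabB adjM i j = nadj C.D i j
  L : List (List ℕ)
  rig : rigExt C.D.rank adjM L C.D.rank [] = true

section
variable {K : Type*} [Field K] [Finite K] {C : CDatum} {R : RelData C} (B : BondHyp C R)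
  {θ : MulAut ↥(C.D.group K)} (T : RootAct R K θ)
include B

/-- The permutation of the nodes preserves non-adjacency. -/
theorem RootAct.nadjG (i j : ℕ) (hi : i < C.D.rank) (hj : j < C.D.rank) (hij : i ≠ j)
    (h : ChevAut.nadj C.D i j = true) : ChevAut.nadj C.D (T.p i) (T.p j) = true := by
  unfold ChevAut.nadj at h ⊢
  rw [decide_eq_true_eq] at h ⊢
  have Y := B.Z.Y
  have hil := R.simple_lt i hi
  have hjl := R.simple_lt j hj
  have hpi := T.p_lt i hi
  have hpj := T.p_lt j hj
  have hpil := R.simple_lt _ hpi
  have hpjl := R.simple_lt _ hpj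
  have hne : ∀ a b : ℕ, a < C.D.rank → b < C.D.rank → a ≠ b →
      C.D.simple b ≠ C.D.simple a ∧ C.D.simple b ≠ C.D.neg (C.D.simple a) := by
    intro a b ha hb hab
    constructor
    · intro e; exact hab (Y.simp_inj b hb a ha e).symm
    · intro e
      have := neg_simple_neg Y.A a ha
      rw [← e] at this
      exact not_pos_of_neg Y.A _ this (simple_pos Y.A b hb)
  have hc := comm_of_commTerms_nil (K := K) Y.A _ _ hil hjl (hne i j hi hj hij).1 (hne i j hi hj hij).2 h 1 1
  have hG1 : R.xU (C.D.simple i) (1 : K) ∈ C.D.group K := R.xU_mem_group _ hil _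
  have hG2 : R.xU (C.D.simple j) (1 : K) ∈ C.D.group K := R.xU_mem_group _ hjl _
  have hc' := congrArg (ex θ) hc
  rw [ex_mul θ hG2 hG1, ex_mul θ hG1 hG2, T.pos i hi, T.pos j hj] at hc'
  have hpij : T.p i ≠ T.p j := fun e => hij (T.p_inj Y i j hi hj e)
  by_contra hne'
  rcases not_comm_of_bondCheck (K := K) Y.A _ _ hpil hpjl (hne _ _ hpi hpj hpij).1
    (hne _ _ hpi hpj hpij).2 (B.bond _ hpi _ hpj hpij) hne' _ _ hc' with h2 | h2
  · exact T.f_ne_zero Y i hi 1 one_ne_zero h2
  · exact T.f_ne_zero Y j hj 1 one_ne_zero h2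

/-- The permutation of the nodes is in the list of candidates. -/
theorem RootAct.p_mem : (List.range C.D.rank).map T.p ∈ B.L :=
  rigExt_sound C.D.rank B.adjM B.L T.p T.p_lt
    (fun a ha b hb hab e => hab (T.p_inj B.Z.Y a b ha hb e))
    (fun a ha b hb hab hn => by
      rw [B.hadjM _ (T.p_lt a ha) _ (T.p_lt b hb)]
      rw [B.hadjM a ha b hb] at hn
      exact T.nadjG B a b ha hb hab hn) C.D.rank 0 (by simp)
    (by simpa using B.rig)

end

end Cfsg.Agent.Lib.Helper3.ChevAut
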