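import Mathlib
import Cfsg.Prelude.Def_ChevStructure
import Cfsg.Agent.Lib.Helper3.ChevAut20
set_option autoImplicit false
set_option linter.unusedSectionVars false
set_option linter.style.haveILetI false
open Cfsg Cfsg.Lie

/-!
Automorphisms of Chevalley groups, part 21: the action of an automorphism preserving `U` and `V` on all root
subgroups; transfer of commutation; the characteristic when root lengths are exchanged.
-/

namespace Cfsg.Agent.Lib.Helper3.ChevAut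

open Cfsg.Agent.Lib.Helper3.ChevM Cfsg.Agent.Lib.Helper3.ChevSp Cfsg.Agent.Lib.Helper3 ChevU ChevT ChevH
open Cfsg.Agent.Lib.Helper3.ChevAt Cfsg.Agent.Lib.Helper1

section
variable {K : Type*} [Field K] {C : CDatum} {R : RelData C} (H : AtHyp C R)
include H

/-- Commuting root elements whose commutator formula has a single term `x_k(c t u)`. -/
theorem single_comm_zero (r s k : ℕ) (c : ℤ) (hr : r < C.D.nroots) (hs : s < C.D.nroots) (hrs : s ≠ r)
    (hneg : s ≠ C.D.neg r) (hk : C.D.IsPosRoot k)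
    (hct : C.D.commTerms r s = [(k, c, 1, 1)]) (t u : K)
    (hcomm : R.xU s u * R.xU r t = R.xU r t * R.xU s u) : (c : K) * t * u = 0 := by
  have h1 := H.U.K.commF (F := K) r s hr hs hrs hneg t u
  have h2 : C.D.commWord K r s t u = [(k, (c : K) * (-t) ^ 1 * u ^ 1)] := by
    unfold ChevalleyDatum.commWord; rw [hct]; rfl
  rw [h2] at h1
  have h3 : C.D.wordMat K [(k, (c : K) * (-t) ^ 1 * u ^ 1)] =
      ((R.xU k ((c : K) * (-t) ^ 1 * u ^ 1) : GL C.D.Idx K) : Matrix _ _ K) := by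
    simp [ChevalleyDatum.wordMat]
  rw [h3] at h1
  have h4 : R.xU s u * R.xU r t = R.xU r t * R.xU s u * R.xU k ((c : K) * (-t) ^ 1 * u ^ 1) := by
    apply Units.ext
    simpa [R.xU_val] using h1
  rw [hcomm] at h4
  have h5 : R.xU k ((c : K) * (-t) ^ 1 * u ^ 1) = 1 := by
    have h4' : R.xU r t * R.xU s u * 1 = R.xU r t * R.xU s u * R.xU k ((c : K) * (-t) ^ 1 * u ^ 1) := by
      rw [mul_one]; exact h4
    exact (mul_left_cancel h4').symm
  rw [← R.xU_zero k] at h5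
  have h6 := H.U.xU_inj_pos' k hk _ _ h5
  simp only [pow_one] at h6
  have : (c : K) * t * u = -((c : K) * -t * u) := by ring
  rw [this, h6, neg_zero]

end

section
variable {K : Type*} [Field K] [Finite K] {C : CDatum} {R : RelData C} (Z : GenHyp C R)
  {θ : MulAut ↥(C.D.group K)} (T : RootAct R K θ)
include Z

/-- The image of a product of the `n_{p_i}`. -/
theorem RootAct.ex_nWordU (l : List ℕ) (hl : ∀ i ∈ l, i < C.D.rank) :
    ∃ h ∈ C.D.diagonalSubgroup K, ex θ (R.nWordU l) = h * R.nWordU (l.map T.p) := by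
  induction l with
  | nil =>
    refine ⟨1, Subgroup.one_mem _, ?_⟩
    rw [List.map_nil, R.nWordU_nil, ex_one, one_mul]
  | cons i l ih =>
    have hi := hl i List.mem_cons_self
    have hl' : ∀ j ∈ l, j < C.D.rank := fun j hj => hl j (List.mem_cons_of_mem _ hj)
    obtain ⟨h, hh, e⟩ := ih hl'
    have hil := R.simple_lt i hi
    have hpi := T.p_lt i hi
    have hpil := R.simple_lt _ hpi
    have hnG : R.nU (C.D.simple i) (1 : K) ∈ C.D.group K := nU_mem_group Z.Y Z.hcs _ hil _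
    have hwG : R.nWordU (F := K) l ∈ C.D.group K := R.monomialSubgroup_le_group (R.nWordU_mem l hl')
    set n := R.nU (C.D.simple (T.p i)) (1 : K) with hn
    have hnN : n ∈ C.D.monomialSubgroup K := R.nU_simple_mem _ hpi
    have hf1 := T.f_ne_zero Z.Y i hi 1 one_ne_zero
    refine ⟨R.hU (C.D.simple (T.p i)) (T.f i 1) * (n * h * n⁻¹),
      Subgroup.mul_mem _ (R.hU_mem _ hpil _ hf1) (Z.Y.A.B.mono.conj_mem n hnN h hh), ?_⟩
    rw [R.nWordU_cons, ex_mul θ hnG hwG, T.ex_nU Z.Y Z.hcs i hi 1 one_ne_zero, e, List.map_cons,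
      R.nWordU_cons, R.nU_eq_hU_mul _ (T.f i 1), ← hn]
    group

/-- The image of a root element of an arbitrary root. -/
theorem RootAct.ex_root (l : List ℕ) (hl : ∀ i ∈ l, i < C.D.rank) (j : ℕ) (hj : j < C.D.rank) :
    ∃ e : K → K, (∀ t, t ≠ 0 → e t ≠ 0) ∧ ∀ t : K,
      ex θ (R.xU (reflW R.refl l (C.D.simple j)) t) =
        R.xU (reflW R.refl (l.map T.p) (C.D.simple (T.p j))) (e t) := by
  have M := Z.Y.A.B.mono
  have hjl := R.simple_lt j hj
  have hpj := T.p_lt j hj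
  have hpjl := R.simple_lt _ hpj
  have hl' : ∀ i ∈ l.map T.p, i < C.D.rank := by
    intro i hi
    obtain ⟨k, hk, rfl⟩ := List.mem_map.mp hi
    exact T.p_lt k (hl k hk)
  obtain ⟨d, hd⟩ := M.conj_word_xU (F := K) Z.Y.A.B.dec 1 (Subgroup.one_mem _) l hl
  obtain ⟨hd0, hdc⟩ := hd _ hjl
  obtain ⟨h, hh, eh⟩ := T.ex_nWordU Z l hl
  obtain ⟨d', hd'⟩ := M.conj_word_xU (F := K) Z.Y.A.B.dec h hh (l.map T.p) hl'
  obtain ⟨hd0', hdc'⟩ := hd' _ hpjl
  refine ⟨fun t => d' (C.D.simple (T.p j)) * T.f j (t / d (C.D.simple j)), ?_, ?_⟩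
  · intro t ht
    exact mul_ne_zero hd0' (T.f_ne_zero Z.Y j hj _ (div_ne_zero ht hd0))
  · intro t
    have e1 := hdc (t / d (C.D.simple j))
    rw [mul_div_cancel₀ t hd0, one_mul] at e1
    have hwG : R.nWordU (F := K) l ∈ C.D.group K := R.monomialSubgroup_le_group (R.nWordU_mem l hl)
    rw [← e1, ex_conj_mul θ hwG (R.xU_mem_group _ hjl _), T.pos j hj, eh]
    exact hdc' _

/-- Transfer of commutation from the images to the root elements. -/
theorem RootAct.comm_transfer (l₁ l₂ : List ℕ) (hl₁ : ∀ i ∈ l₁, i < C.D.rank) (hl₂ : ∀ i ∈ l₂, i < C.D.rank)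
    (j₁ j₂ : ℕ) (hj₁ : j₁ < C.D.rank) (hj₂ : j₂ < C.D.rank)
    (hne : reflW R.refl (l₂.map T.p) (C.D.simple (T.p j₂)) ≠ reflW R.refl (l₁.map T.p) (C.D.simple (T.p j₁)))
    (hneg : reflW R.refl (l₂.map T.p) (C.D.simple (T.p j₂)) ≠
      C.D.neg (reflW R.refl (l₁.map T.p) (C.D.simple (T.p j₁))))
    (hct : C.D.commTerms (reflW R.refl (l₁.map T.p) (C.D.simple (T.p j₁)))
      (reflW R.refl (l₂.map T.p) (C.D.simple (T.p j₂))) = []) (t u : K) :
    R.xU (reflW R.refl l₂ (C.D.simple j₂)) u * R.xU (reflW R.refl l₁ (C.D.simple j₁)) t =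
      R.xU (reflW R.refl l₁ (C.D.simple j₁)) t * R.xU (reflW R.refl l₂ (C.D.simple j₂)) u := by
  have hl₁' : ∀ i ∈ l₁.map T.p, i < C.D.rank := by
    intro i hi
    obtain ⟨k, hk, rfl⟩ := List.mem_map.mp hi
    exact T.p_lt k (hl₁ k hk)
  have hl₂' : ∀ i ∈ l₂.map T.p, i < C.D.rank := by
    intro i hi
    obtain ⟨k, hk, rfl⟩ := List.mem_map.mp hi
    exact T.p_lt k (hl₂ k hk)
  have hr := R.reflW_lt l₁ hl₁ _ (R.simple_lt j₁ hj₁)
  have hs := R.reflW_lt l₂ hl₂ _ (R.simple_lt j₂ hj₂)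
  have hr' := R.reflW_lt _ hl₁' _ (R.simple_lt _ (T.p_lt j₁ hj₁))
  have hs' := R.reflW_lt _ hl₂' _ (R.simple_lt _ (T.p_lt j₂ hj₂))
  obtain ⟨e₁, -, he₁⟩ := T.ex_root Z l₁ hl₁ j₁ hj₁
  obtain ⟨e₂, -, he₂⟩ := T.ex_root Z l₂ hl₂ j₂ hj₂
  have hc := comm_of_commTerms_nil (K := K) Z.Y.A _ _ hr' hs' hne hneg hct (e₁ t) (e₂ u)
  have hG1 := R.xU_mem_group (F := K) _ hr t
  have hG2 := R.xU_mem_group (F := K) _ hs u
  apply ex_injOn θ (Subgroup.mul_mem _ hG2 hG1) (Subgroup.mul_mem _ hG1 hG2)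
  rw [ex_mul θ hG2 hG1, ex_mul θ hG1 hG2, he₁, he₂]
  exact hc

/-- If the images of two root subgroups commute while the commutator formula of the roots has a single term
`x_k(c t u)`, then `c` vanishes in the field. -/
theorem RootAct.coeff_eq_zero (π : ℕ → ℕ) (hπ : ∀ i < C.D.rank, T.p i = π i)
    (l₁ l₂ : List ℕ) (hl₁ : ∀ i ∈ l₁, i < C.D.rank) (hl₂ : ∀ i ∈ l₂, i < C.D.rank)
    (j₁ j₂ : ℕ) (hj₁ : j₁ < C.D.rank) (hj₂ : j₂ < C.D.rank)
    (hne : reflW R.refl (l₂.map π) (C.D.simple (π j₂)) ≠ reflW R.refl (l₁.map π) (C.D.simple (π j₁)))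
    (hneg : reflW R.refl (l₂.map π) (C.D.simple (π j₂)) ≠
      C.D.neg (reflW R.refl (l₁.map π) (C.D.simple (π j₁))))
    (hct : C.D.commTerms (reflW R.refl (l₁.map π) (C.D.simple (π j₁)))
      (reflW R.refl (l₂.map π) (C.D.simple (π j₂))) = [])
    (k : ℕ) (c : ℤ) (hk : C.D.IsPosRoot k)
    (hne' : reflW R.refl l₂ (C.D.simple j₂) ≠ reflW R.refl l₁ (C.D.simple j₁))
    (hneg' : reflW R.refl l₂ (C.D.simple j₂) ≠ C.D.neg (reflW R.refl l₁ (C.D.simple j₁)))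
    (hct' : C.D.commTerms (reflW R.refl l₁ (C.D.simple j₁)) (reflW R.refl l₂ (C.D.simple j₂)) = [(k, c, 1, 1)]) :
    (c : K) = 0 := by
  have e1 : l₁.map T.p = l₁.map π := List.map_congr_left (fun i hi => hπ i (hl₁ i hi))
  have e2 : l₂.map T.p = l₂.map π := List.map_congr_left (fun i hi => hπ i (hl₂ i hi))
  have hc := T.comm_transfer Z l₁ l₂ hl₁ hl₂ j₁ j₂ hj₁ hj₂
    (by rw [e1, e2, hπ j₁ hj₁, hπ j₂ hj₂]; exact hne)
    (by rw [e1, e2, hπ j₁ hj₁, hπ j₂ hj₂]; exact hneg)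
    (by rw [e1, e2, hπ j₁ hj₁, hπ j₂ hj₂]; exact hct) 1 1
  have hr := R.reflW_lt l₁ hl₁ _ (R.simple_lt j₁ hj₁)
  have hs := R.reflW_lt l₂ hl₂ _ (R.simple_lt j₂ hj₂)
  have := single_comm_zero (K := K) Z.Y.A _ _ k c hr hs hne' hneg' hk hct' 1 1 hc
  simpa using this

end

end Cfsg.Agent.Lib.Helper3.ChevAut
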