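import Mathlib
import Cfsg.Prelude.Def_ChevStructure
import Cfsg.Agent.Lib.Helper3.ChevAut21
import Cfsg.Agent.Lib.Helper3.HiRoot2
set_option autoImplicit false
set_option linter.unusedSectionVars false
set_option linter.style.haveILetI false
open Cfsg Cfsg.Lie

/-!
Automorphisms of Chevalley groups, part 22: Steinberg's theorem. Every automorphism is the product of an inner
automorphism, an automorphism permuting the fundamental root subgroups, a diagonal and a field automorphism.
-/

namespace Cfsg.Agent.Lib.Helper3.ChevAut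

open Cfsg.Agent.Lib.Helper3.ChevM Cfsg.Agent.Lib.Helper3.ChevSp Cfsg.Agent.Lib.Helper3 ChevU ChevT ChevH
open Cfsg.Agent.Lib.Helper3.ChevAt Cfsg.Agent.Lib.Helper1

/-- An automorphism preserving `U` and `V` and mapping the fundamental root elements and their negatives along a
map of the nodes, with power maps on the parameters. -/
structure GraphLike {C : CDatum} (R : RelData C) (K : Type*) [Field K] (γ : MulAut ↥(C.D.group K))
    (π : ℕ → ℕ) where
  presU : Pres γ (C.D.posUnipotent K)
  presV : Pres γ (C.D.negUnipotent K)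
  e : ℕ → ℕ
  pos : ∀ i < C.D.rank, ∀ t : K, ex γ (R.xU (C.D.simple i) t) = R.xU (C.D.simple (π i)) (t ^ e i)
  neg : ∀ i < C.D.rank, ∀ t : K,
    ex γ (R.xU (C.D.neg (C.D.simple i)) t) = R.xU (C.D.neg (C.D.simple (π i))) (t ^ e i)

/-- The identity as an automorphism along the identity of the nodes. -/
def graphLikeOne {C : CDatum} (R : RelData C) (K : Type*) [Field K] :
    GraphLike R K (1 : MulAut ↥(C.D.group K)) (fun i => i) where
  presU := fun g hg => by rw [ex_one_aut]; exact hg
  presV := fun g hg => by rw [ex_one_aut]; exact hg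
  e := fun _ => 1
  pos := fun i _ t => by rw [ex_one_aut, pow_one]
  neg := fun i _ t => by rw [ex_one_aut, pow_one]

/-- The identity as an automorphism along a list of nodes which is the identity. -/
def graphLikeOfId {C : CDatum} (R : RelData C) (K : Type*) [Field K] (l : List ℕ)
    (hl : ∀ i < C.D.rank, l.getD i 0 = i) :
    GraphLike R K (1 : MulAut ↥(C.D.group K)) (fun i => l.getD i 0) where
  presU := fun g hg => by rw [ex_one_aut]; exact hg
  presV := fun g hg => by rw [ex_one_aut]; exact hg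
  e := fun _ => 1
  pos := fun i hi t => by rw [ex_one_aut, pow_one, hl i hi]
  neg := fun i hi t => by rw [ex_one_aut, pow_one, hl i hi]

/-- An automorphism mapping every root element to a root element along a map of the roots preserving the signs of
the roots, with power maps on the parameters, is an automorphism along a map of the nodes. -/
def graphLikeOfRoots {C : CDatum} {R : RelData C} {K : Type*} [Field K] (H : AtHyp C R)
    (γ : MulAut ↥(C.D.group K)) (ρ lam : ℕ → ℕ)
    (hγ : ∀ r < C.D.nroots, ∀ t : K, ex γ (R.xU r t) = R.xU (ρ r) (t ^ lam r))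
    (hpos : ∀ r, C.D.IsPosRoot r → C.D.IsPosRoot (ρ r))
    (hneg : ∀ r, C.D.IsNegRoot r → C.D.IsNegRoot (ρ r))
    (π : ℕ → ℕ)
    (hπ : ∀ i < C.D.rank, ρ (C.D.simple i) = C.D.simple (π i) ∧
      ρ (C.D.neg (C.D.simple i)) = C.D.neg (C.D.simple (π i)) ∧
      lam (C.D.neg (C.D.simple i)) = lam (C.D.simple i)) :
    GraphLike R K γ π where
  presU := by
    intro g hg
    unfold ChevalleyDatum.posUnipotent at hg
    refine ex_mem_of_closure _ _ ?_ _ ?_ hg
    · rintro x ⟨r, t, hr, hx⟩
      have : x = R.xU r t := Units.ext (by rw [hx, R.xU_val])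
      rw [this]
      exact R.xU_mem_group r hr.1 t
    · rintro x ⟨r, t, hr, hx⟩
      have : x = R.xU r t := Units.ext (by rw [hx, R.xU_val])
      rw [this, hγ r hr.1]
      exact xU_mem_pos H _ (hpos r hr) _
  presV := by
    intro g hg
    unfold ChevalleyDatum.negUnipotent at hg
    refine ex_mem_of_closure _ _ ?_ _ ?_ hg
    · rintro x ⟨r, t, hr, hx⟩
      have : x = R.xU r t := Units.ext (by rw [hx, R.xU_val])
      rw [this]
      exact R.xU_mem_group r hr.1 t
    · rintro x ⟨r, t, hr, hx⟩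
      have : x = R.xU r t := Units.ext (by rw [hx, R.xU_val])
      rw [this, hγ r hr.1]
      exact xU_mem_neg H _ (hneg r hr) _
  e := fun i => lam (C.D.simple i)
  pos := fun i hi t => by rw [hγ _ (R.simple_lt i hi), (hπ i hi).1]
  neg := fun i hi t => by
    rw [hγ _ (R.neg_lt _ (R.simple_lt i hi)), (hπ i hi).2.1, (hπ i hi).2.2]

section
variable {K : Type*} [Field K] [Finite K] {C : CDatum} {R : RelData C} (Z : GenHyp C R)
include Z

/-- An automorphism preserving `U` and `V` which permutes the fundamental root subgroups as an automorphism `γ`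
does is the product of `γ`, a diagonal and a field automorphism. -/
theorem eq_graph_dAut_field (θ : MulAut ↥(C.D.group K)) (hU : Pres θ (C.D.posUnipotent K))
    (hV : Pres θ (C.D.negUnipotent K)) (T : RootAct R K θ) (γ : MulAut ↥(C.D.group K)) (π : ℕ → ℕ)
    (Gl : GraphLike R K γ π) (hπ : ∀ i < C.D.rank, T.p i = π i) :
    ∃ (c : Fin C.D.rank → Kˣ) (σ : K ≃+* K), θ = γ * dAut Z.V R c * fAut C.D σ := by
  have Y := Z.Y
  have hUG : C.D.posUnipotent K ≤ C.D.group K := R.posUnipotent_le_group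
  have hVG : C.D.negUnipotent K ≤ C.D.group K := negUnipotent_le_group Y.A
  have hU' : Pres (γ⁻¹ * θ) (C.D.posUnipotent K) := by
    intro g hg
    rw [ex_mul_aut _ _ (hUG hg)]
    exact (Gl.presU.symm hUG) _ (hU g hg)
  have hV' : Pres (γ⁻¹ * θ) (C.D.negUnipotent K) := by
    intro g hg
    rw [ex_mul_aut _ _ (hVG hg)]
    exact (Gl.presV.symm hVG) _ (hV g hg)
  obtain ⟨T'⟩ := exists_rootAct (K := K) Y (γ⁻¹ * θ) hU' hV'
  have hp' : ∀ i < C.D.rank, T'.p i = i := by
    intro i hi
    have hl := R.simple_lt i hi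
    have hp'i := T'.p_lt i hi
    have h1 := T'.pos i hi 1
    have hG1 : R.xU (C.D.simple i) (1 : K) ∈ C.D.group K := R.xU_mem_group _ hl _
    have h2 : ex γ (ex (γ⁻¹ * θ) (R.xU (C.D.simple i) (1 : K))) = ex θ (R.xU (C.D.simple i) (1 : K)) := by
      rw [← ex_mul_aut _ _ hG1, mul_inv_cancel_left]
    rw [h1, Gl.pos _ hp'i, T.pos i hi, hπ i hi] at h2
    have hne1 : (T'.f i 1) ^ Gl.e (T'.p i) ≠ 0 := pow_ne_zero _ (T'.f_ne_zero Y i hi 1 one_ne_zero)
    have hne2 : T.f i 1 ≠ 0 := T.f_ne_zero Y i hi 1 one_ne_zero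
    have hπlt : ∀ k < C.D.rank, π k < C.D.rank := fun k hk => by rw [← hπ k hk]; exact T.p_lt k hk
    have h3 : C.D.simple (π (T'.p i)) = C.D.simple (π i) := by
      by_contra hne
      have := Y.A.U.xU_eq_xU_pos (F := K) _ _ (simple_pos Y.A _ (hπlt _ hp'i)) (simple_pos Y.A _ (hπlt _ hi))
        hne _ _ h2
      exact hne1 this.1
    have h4 := Y.simp_inj _ (hπlt _ hp'i) _ (hπlt _ hi) h3
    rw [← hπ _ hp'i, ← hπ i hi] at h4
    exact T.p_inj Y _ _ hp'i hi h4
  obtain ⟨c, σ, e⟩ := T'.eq_dAut_field Z hp'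
  refine ⟨c, σ, ?_⟩
  rw [mul_assoc, ← e, mul_inv_cancel_left]

end

section
variable {K : Type*} [Field K] [Finite K] {C : CDatum} {R : RelData C} (B : BondHyp C R)
include B

/-- Steinberg's theorem on the automorphisms of a finite Chevalley group. -/
theorem aut_decomp (p : ℕ) [Fact p.Prime]
    (hS : ∃ S : Sylow p ↥(C.D.group K),
      (S : Subgroup ↥(C.D.group K)) = (C.D.posUnipotent K).subgroupOf (C.D.group K))
    (hreal : ∀ l ∈ B.L, (∃ γ : MulAut ↥(C.D.group K), Nonempty (GraphLike R K γ (fun i => l.getD i 0))) ∨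
      (∀ (θ : MulAut ↥(C.D.group K)) (T : RootAct R K θ), ¬ ∀ i < C.D.rank, T.p i = l.getD i 0))
    (θ : MulAut ↥(C.D.group K)) :
    ∃ (a : ↥(C.D.group K)) (γ : MulAut ↥(C.D.group K)) (l : List ℕ) (c : Fin C.D.rank → Kˣ) (σ : K ≃+* K),
      l ∈ B.L ∧ Nonempty (GraphLike R K γ (fun i => l.getD i 0)) ∧
        θ = MulAut.conj a * γ * dAut B.Z.V R c * fAut C.D σ := by
  have Y := B.Z.Y
  obtain ⟨a, hU, hV⟩ := exists_conj_pres Y.A p hS Y.w0 Y.w0l Y.w0neg' θ
  obtain ⟨T⟩ := exists_rootAct (K := K) Y _ hU hV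
  have hl := T.p_mem B
  have hget : ∀ i < C.D.rank, T.p i = ((List.range C.D.rank).map T.p).getD i 0 := by
    intro i hi
    rw [List.getD_eq_getElem _ _ (by simpa using hi)]
    simp
  rcases hreal _ hl with ⟨γ, ⟨Gl⟩⟩ | hex
  · obtain ⟨c, σ, e⟩ := eq_graph_dAut_field B.Z _ hU hV T γ _ Gl hget
    refine ⟨a⁻¹, γ, _, c, σ, hl, ⟨Gl⟩, ?_⟩
    rw [mul_assoc, mul_assoc, ← mul_assoc γ, ← e, map_inv, inv_mul_cancel_left]
  · exact absurd hget (hex _ T)

end

end Cfsg.Agent.Lib.Helper3.ChevAut
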