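import Mathlib
import Cfsg.Prelude.Def_ChevStructure
import Cfsg.Agent.Lib.Helper3.ChevSp5
import Cfsg.Agent.Lib.Helper3.ChevData.B2Simple
set_option autoImplicit false
set_option linter.unusedSectionVars false
set_option linter.style.haveILetI false
open Cfsg Cfsg.Lie

/-!
The graph automorphism of `B2` in characteristic 2.
-/

namespace Cfsg.Agent.Lib.Helper3.ChevSp

open Cfsg.Agent.Lib.Helper3.ChevM

/-- the short part of the adjoint module -/
def b2sI : Fin 5 → cdB2.D.Idx :=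
  ![Sum.inl ⟨0, by decide⟩, Sum.inr ⟨1, by decide⟩, Sum.inr ⟨2, by decide⟩, Sum.inr ⟨5, by decide⟩, Sum.inr ⟨6, by decide⟩]

/-- the long part of the adjoint module -/
def b2lI : Fin 5 → cdB2.D.Idx :=
  ![Sum.inl ⟨1, by decide⟩, Sum.inr ⟨0, by decide⟩, Sum.inr ⟨3, by decide⟩, Sum.inr ⟨4, by decide⟩, Sum.inr ⟨7, by decide⟩]

def b2sC (i : ℕ) : ℕ := (#[0, 3, 4, 7, 8] : Array ℕ).getD i 0

def b2lC (i : ℕ) : ℕ := (#[1, 2, 5, 6, 9] : Array ℕ).getD i 0

/-- the symmetry of the root system exchanging long and short roots -/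
def b2rho (r : ℕ) : ℕ := (#[1, 0, 3, 2, 5, 4, 7, 6] : Array ℕ).getD r 0

/-- the exponent: 2 on short roots, 1 on long roots -/
def b2lam (r : ℕ) : ℕ := (#[1, 2, 2, 1, 1, 2, 2, 1] : Array ℕ).getD r 1

theorem b2_bij : Function.Bijective (Sum.elim b2sI b2lI) := by decide +kernel

theorem b2_sC : ∀ i : Fin 5, code cdB2.D (b2sI i) = b2sC i.val := by decide +kernel

theorem b2_lC : ∀ i : Fin 5, code cdB2.D (b2lI i) = b2lC i.val := by decide +kernel

theorem b2_zeroBlkCheck : ∀ r < cdB2.D.nroots, zeroBlkCheck cdB2.D 2 5 b2sC b2lC r = true := by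
  decide +kernel

theorem b2_relCheck : ∀ r < cdB2.D.nroots, relCheck cdB2.D 2 5 b2sC b2lC b2rho b2lam r = true := by
  decide +kernel

theorem b2rho_lt : ∀ r < cdB2.D.nroots, b2rho r < cdB2.D.nroots := by decide +kernel

theorem b2rho_rho : ∀ r < cdB2.D.nroots, b2rho (b2rho r) = r := by decide +kernel

theorem b2lam_cases : ∀ r < cdB2.D.nroots, b2lam r = 1 ∨ b2lam r = 2 := by decide +kernel

section
variable {K : Type*} [Field K] [CharP K 2]

/-- the graph automorphism of `B2` in characteristic 2 over a perfect field -/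
theorem b2_exists_graph_aut (hperf : ∀ x : K, ∃ y : K, y ^ 2 = x) :
    ∃ σ : ↥(cdB2.D.group K) ≃* ↥(cdB2.D.group K), ∀ (r : ℕ) (hr : r < cdB2.D.nroots) (t : K),
      σ (xG relB2 r hr t) = xG relB2 (b2rho r) (b2rho_lt r hr) (t ^ b2lam r) := by
  refine exists_special_isogeny_of_checks commB2 simpleB2 2 b2sI b2lI b2_bij b2sC b2lC b2_sC b2_lC
    b2_zeroBlkCheck b2rho b2lam b2rho_lt b2rho_rho b2_relCheck ?_
    0 1 (by decide) (by decide) ⟨2, by decide⟩ ⟨3, by decide⟩ ⟨2, by decide⟩ ⟨3, by decide⟩ rfl rfl rfl rfl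
  intro r hr u
  rcases b2lam_cases r hr with h | h
  · exact ⟨u, by rw [h, pow_one]⟩
  · rw [h]
    exact hperf u

end

end Cfsg.Agent.Lib.Helper3.ChevSp
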