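import Mathlib
import Cfsg.Prelude.Def_ChevStructure
import Cfsg.Prelude.Def_ChevB2
import Cfsg.Agent.Lib.Helper3.ChevAut22
import Cfsg.Agent.Lib.Helper3.ChevData.B2UHyp
import Cfsg.Agent.Lib.Helper3.ChevData.B2Bn
import Cfsg.Agent.Lib.Helper3.ChevData.B2NegTri
import Cfsg.Agent.Lib.Helper3.ChevData.B2Sign
import Cfsg.Agent.Lib.Helper3.ChevData.B2Vec
import Cfsg.Agent.Lib.Helper3.ChevData.B2Poin
import Cfsg.Agent.Lib.Helper3.ChevData.B2Opp
import Cfsg.Agent.Lib.Helper3.ChevData.B2Irr
import Cfsg.Agent.Lib.Helper3.ChevSyl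
import Cfsg.Agent.Lib.Helper3.ChevSpB2
set_option autoImplicit false
set_option linter.unusedSectionVars false
set_option linter.style.haveILetI false
set_option maxRecDepth 1000000
open Cfsg Cfsg.Lie

/-!
Automorphisms of Chevalley groups: the table checks for type `B₂`.
-/

namespace Cfsg.Agent.Lib.Helper3.ChevAut

open Cfsg.Agent.Lib.Helper3.ChevM Cfsg.Agent.Lib.Helper3.ChevSp Cfsg.Agent.Lib.Helper3 ChevU ChevT ChevH
open Cfsg.Agent.Lib.Helper3.ChevAt Cfsg.Agent.Lib.Helper1

theorem b2_sylow {F : Type*} [Field F] [Fintype F] (p : ℕ) [Fact p.Prime] [CharP F p] :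
    ∃ P : Sylow p ↥(cdB2.D.group F),
      (P : Subgroup ↥(cdB2.D.group F)) = (cdB2.D.posUnipotent F).subgroupOf (cdB2.D.group F) := by
  refine uhypB2.exists_sylow (F := F) bnB2 p b2NegTri b2Sign (by decide +kernel) vecB2
    (of_pairRange (m := 2) (n := 8) b2Vec) smPB2 smQB2 smPiB2 smQiB2 smDB2
    (by decide +kernel) (by decide +kernel) (by decide +kernel) (by decide +kernel) ?_
  rw [b2Poin]
  refine mul_add_one_mul _ _ _ ?_ (sum_pow_eq_mul_add_one _ _ (by decide +kernel))
  exact sum_pow_eq_mul_add_one _ _ (by decide +kernel)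

/-- The table checks for the automorphisms of `B₂`. -/
def autHypB2 : AutHyp cdB2 relB2 where
  A := ⟨uhypB2, bnB2, b2NegTri, b2Sign⟩
  w0 := w0B2
  w0l := w0B2_lt
  w0neg := by
    intro r hr hpos
    have h := b2Opp r hr
    simp only [oppCheck, Bool.and_eq_true, Bool.or_eq_true, Bool.not_eq_true', decide_eq_false_iff_not,
      decide_eq_true_eq] at h
    rcases h.1 with h1 | h1
    · exact absurd hpos h1
    · exact h1
  opp := fun i => i
  hopp := by decide +kernel
  simp_inj := by decide +kernel
  ct_neg := by decide +kernel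

theorem b2ChainVec : ∀ r < cdB2.D.nroots, chainVecCheck cdB2.D vecB2 r = true := by decide +kernel

theorem b2VecNeg : ∀ r < cdB2.D.nroots, ∀ i < cdB2.D.rank, vecB2 (cdB2.D.neg r) i = -vecB2 r i := by
  decide +kernel

/-- The coordinates of the roots of `B₂`. -/
def vecHypB2 : VecHyp cdB2 where
  vec := vecB2
  chain := b2ChainVec
  neg := b2VecNeg
  simple := by decide +kernel

/-- The table checks for the automorphisms of `B₂` preserving the fundamental root subgroups. -/
def genHypB2 : GenHyp cdB2 relB2 where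
  Y := autHypB2
  hcs := by decide +kernel
  c2 := by decide +kernel
  par := parB2
  dep := depB2
  root := 0
  hroot := by decide +kernel
  tree := by decide +kernel
  V := vecHypB2
  cneg := by decide +kernel

/-- The pairs of nodes of the diagram of `B₂` which are not joined. -/
def adjMB2 : List (List Bool) :=
  [[true, false], [false, true]]

/-- The table checks on the bonds of the diagram of `B₂`. -/
def bondHypB2 : BondHyp cdB2 relB2 where
  Z := genHypB2
  bond := by decide +kernel
  adjM := adjMB2
  hadjM := by decide +kernel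
  L := [[0, 1], [1, 0]]
  rig := by decide +kernel

end Cfsg.Agent.Lib.Helper3.ChevAut
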