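import Mathlib
import Cfsg.Prelude.Def_ChevStructure
import Cfsg.Agent.Lib.Helper3.BT7
import Cfsg.Agent.Lib.Helper3.ChevAutB2
import Cfsg.Agent.Lib.Helper3.ChevData.B2Levi
set_option autoImplicit false
set_option maxRecDepth 1000000
open Cfsg Cfsg.Lie

/-! The theorem of Borel and Tits for the Chevalley groups of type B2. -/

namespace Cfsg.Agent.Lib.Helper3.BT

open Cfsg.Agent.Lib.Helper3.ChevM Cfsg.Agent.Lib.Helper3.ChevAut

/-- Integer coordinates of the fundamental roots of type B2. -/
def avB2 : ℕ → ℕ → ℤ := fun i k => ((([[0,1],[1,-1]] : List (List ℤ)).getD i []).getD k 0)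

/-- A vector that has a positive inner product with every fundamental root of type B2. -/
def rhoB2 : ℕ → ℤ := fun k => ([3,1] : List ℤ).getD k 0

theorem b2Euc : eucCheck chevB2 2 avB2 rhoB2 = true := by decide +kernel

theorem b2Simple : simpleCheck chevB2 vecB2 = true := by decide +kernel

theorem b2Ht : allRange 0 8 (fun r => htCheck chevB2 vecB2 r) = true := by decide +kernel

theorem b2Rv_0 : allRange 0 16 (fun k => reflVecCheck2 chevB2 reflB2 vecB2 (k / 8) (k % 8)) = true := by
  decide +kernel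

theorem b2Rv : ∀ k < 2 * 8, (fun i s => reflVecCheck2 chevB2 reflB2 vecB2 i s) (k / 8) (k % 8) = true := by
  intro k hk
  exact allRange_spec b2Rv_0 k (by omega) (by omega)

/-- The Euclidean realization of the root system of type B2. -/
noncomputable def eucB2 : EucHyp leviB2 (EuclideanSpace ℝ (Fin 2)) :=
  eucOfInt leviB2 2 avB2 rhoB2 b2Euc (of_pairRange (m := 2) (n := 8) b2Vec)
    (of_pairRange (m := 2) (n := 8) b2Rv) b2Simple
    (fun r hr => allRange_spec b2Ht r (Nat.zero_le _) hr)

theorem borelTitsB2 {F : Type*} [Field F] [Fintype F] (p : ℕ) [Fact p.Prime] [CharP F p]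
    (V : Subgroup (GL chevB2.Idx F)) (hVG : V ≤ chevB2.group F) (hV : IsPGroup p ↥V) (hne : V ≠ ⊥) :
    ∃ g ∈ chevB2.group F, ∃ J : Set ℕ, (∃ i, i < chevB2.rank ∧ i ∉ J) ∧
      Subgroup.normalizer (V : Set (GL chevB2.Idx F)) ⊓ chevB2.group F ≤
        (chevB2.parabolicSubgroup F J).map (MulAut.conj g).toMonoidHom ∧
      V ≤ (chevB2.unipotentRadical F J).map (MulAut.conj g).toMonoidHom :=
  borel_tits autHypB2 eucB2 p (b2_sylow p) V hVG hV hne

end Cfsg.Agent.Lib.Helper3.BT
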