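import Mathlib
import Cfsg.Prelude.Def_ChevStructure
import Cfsg.Prelude.Def_ChevD4
import Cfsg.Agent.Lib.Helper3.ChevAut22
import Cfsg.Agent.Lib.Helper3.ChevData.D4UHyp
import Cfsg.Agent.Lib.Helper3.ChevData.D4Bn
import Cfsg.Agent.Lib.Helper3.ChevData.D4NegTri
import Cfsg.Agent.Lib.Helper3.ChevData.D4Sign
import Cfsg.Agent.Lib.Helper3.ChevData.D4Vec
import Cfsg.Agent.Lib.Helper3.ChevData.D4Poin
import Cfsg.Agent.Lib.Helper3.ChevData.D4Opp
import Cfsg.Agent.Lib.Helper3.ChevData.D4Irr
import Cfsg.Agent.Lib.Helper3.ChevSyl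
set_option autoImplicit false
set_option linter.unusedSectionVars false
set_option linter.style.haveILetI false
set_option maxRecDepth 1000000
open Cfsg Cfsg.Lie

/-!
Automorphisms of Chevalley groups: the table checks for type `D₄`.
-/

namespace Cfsg.Agent.Lib.Helper3.ChevAut

open Cfsg.Agent.Lib.Helper3.ChevM Cfsg.Agent.Lib.Helper3.ChevSp Cfsg.Agent.Lib.Helper3 ChevU ChevT ChevH
open Cfsg.Agent.Lib.Helper3.ChevAt Cfsg.Agent.Lib.Helper1

theorem d4_sylow {F : Type*} [Field F] [Fintype F] (p : ℕ) [Fact p.Prime] [CharP F p] :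
    ∃ P : Sylow p ↥(cdD4.D.group F),
      (P : Subgroup ↥(cdD4.D.group F)) = (cdD4.D.posUnipotent F).subgroupOf (cdD4.D.group F) := by
  refine uhypD4.exists_sylow (F := F) bnD4 p d4NegTri d4Sign (by decide +kernel) vecD4
    (of_pairRange (m := 4) (n := 24) d4Vec) smPD4 smQD4 smPiD4 smQiD4 smDD4
    (by decide +kernel) (by decide +kernel) (by decide +kernel) (by decide +kernel) ?_
  rw [d4Poin]
  refine mul_add_one_mul _ _ _ ?_ (sum_pow_eq_mul_add_one _ _ (by decide +kernel))
  refine mul_add_one_mul _ _ _ ?_ (sum_pow_eq_mul_add_one _ _ (by decide +kernel))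
  refine mul_add_one_mul _ _ _ ?_ (sum_pow_eq_mul_add_one _ _ (by decide +kernel))
  exact sum_pow_eq_mul_add_one _ _ (by decide +kernel)

/-- The table checks for the automorphisms of `D₄`. -/
def autHypD4 : AutHyp cdD4 relD4 where
  A := ⟨uhypD4, bnD4, d4NegTri, d4Sign⟩
  w0 := w0D4
  w0l := w0D4_lt
  w0neg := by
    intro r hr hpos
    have h := d4Opp r hr
    simp only [oppCheck, Bool.and_eq_true, Bool.or_eq_true, Bool.not_eq_true', decide_eq_false_iff_not,
      decide_eq_true_eq] at h
    rcases h.1 with h1 | h1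
    · exact absurd hpos h1
    · exact h1
  opp := fun i => i
  hopp := by decide +kernel
  simp_inj := by decide +kernel
  ct_neg := by decide +kernel

theorem d4ChainVec : ∀ r < cdD4.D.nroots, chainVecCheck cdD4.D vecD4 r = true := by decide +kernel

theorem d4VecNeg : ∀ r < cdD4.D.nroots, ∀ i < cdD4.D.rank, vecD4 (cdD4.D.neg r) i = -vecD4 r i := by
  decide +kernel

/-- The coordinates of the roots of `D₄`. -/
def vecHypD4 : VecHyp cdD4 where
  vec := vecD4
  chain := d4ChainVec
  neg := d4VecNeg
  simple := by decide +kernel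

/-- The table checks for the automorphisms of `D₄` preserving the fundamental root subgroups. -/
def genHypD4 : GenHyp cdD4 relD4 where
  Y := autHypD4
  hcs := by decide +kernel
  c2 := by decide +kernel
  par := parD4
  dep := depD4
  root := 0
  hroot := by decide +kernel
  tree := by decide +kernel
  V := vecHypD4
  cneg := by decide +kernel

/-- The pairs of nodes of the diagram of `D₄` which are not joined. -/
def adjMD4 : List (List Bool) :=
  [[true, false, true, true], [false, true, false, false], [true, false, true, true], [true, false, true, true]]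

/-- The table checks on the bonds of the diagram of `D₄`. -/
def bondHypD4 : BondHyp cdD4 relD4 where
  Z := genHypD4
  bond := by decide +kernel
  adjM := adjMD4
  hadjM := by decide +kernel
  L := [[0, 1, 2, 3], [0, 1, 3, 2], [2, 1, 0, 3], [2, 1, 3, 0], [3, 1, 0, 2], [3, 1, 2, 0]]
  rig := by decide +kernel

end Cfsg.Agent.Lib.Helper3.ChevAut
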