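import Mathlib
import Cfsg.Prelude.Def_ChevStructure
import Cfsg.Agent.Lib.Helper3.BT7
import Cfsg.Agent.Lib.Helper3.ChevAutD4
import Cfsg.Agent.Lib.Helper3.ChevData.D4Levi
set_option autoImplicit false
set_option maxRecDepth 1000000
open Cfsg Cfsg.Lie

/-! The theorem of Borel and Tits for the Chevalley groups of type D4. -/

namespace Cfsg.Agent.Lib.Helper3.BT

open Cfsg.Agent.Lib.Helper3.ChevM Cfsg.Agent.Lib.Helper3.ChevAut

/-- Integer coordinates of the fundamental roots of type D4. -/
def avD4 : ℕ → ℕ → ℤ := fun i k => ((([[1,-1,0,0],[0,1,-1,0],[0,0,1,-1],[0,0,1,1]] : List (List ℤ)).getD i []).getD k 0)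

/-- A vector that has a positive inner product with every fundamental root of type D4. -/
def rhoD4 : ℕ → ℤ := fun k => ([6,4,2,0] : List ℤ).getD k 0

theorem d4Euc : eucCheck chevD4 4 avD4 rhoD4 = true := by decide +kernel

theorem d4Simple : simpleCheck chevD4 vecD4 = true := by decide +kernel

theorem d4Ht : allRange 0 24 (fun r => htCheck chevD4 vecD4 r) = true := by decide +kernel

theorem d4Rv_0 : allRange 0 96 (fun k => reflVecCheck2 chevD4 reflD4 vecD4 (k / 24) (k % 24)) = true := by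
  decide +kernel

theorem d4Rv : ∀ k < 4 * 24, (fun i s => reflVecCheck2 chevD4 reflD4 vecD4 i s) (k / 24) (k % 24) = true := by
  intro k hk
  exact allRange_spec d4Rv_0 k (by omega) (by omega)

/-- The Euclidean realization of the root system of type D4. -/
noncomputable def eucD4 : EucHyp leviD4 (EuclideanSpace ℝ (Fin 4)) :=
  eucOfInt leviD4 4 avD4 rhoD4 d4Euc (of_pairRange (m := 4) (n := 24) d4Vec)
    (of_pairRange (m := 4) (n := 24) d4Rv) d4Simple
    (fun r hr => allRange_spec d4Ht r (Nat.zero_le _) hr)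

theorem borelTitsD4 {F : Type*} [Field F] [Fintype F] (p : ℕ) [Fact p.Prime] [CharP F p]
    (V : Subgroup (GL chevD4.Idx F)) (hVG : V ≤ chevD4.group F) (hV : IsPGroup p ↥V) (hne : V ≠ ⊥) :
    ∃ g ∈ chevD4.group F, ∃ J : Set ℕ, (∃ i, i < chevD4.rank ∧ i ∉ J) ∧
      Subgroup.normalizer (V : Set (GL chevD4.Idx F)) ⊓ chevD4.group F ≤
        (chevD4.parabolicSubgroup F J).map (MulAut.conj g).toMonoidHom ∧
      V ≤ (chevD4.unipotentRadical F J).map (MulAut.conj g).toMonoidHom :=
  borel_tits autHypD4 eucD4 p (d4_sylow p) V hVG hV hne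

end Cfsg.Agent.Lib.Helper3.BT
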