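import Mathlib
import Cfsg.Prelude.Def_ChevStructure
import Cfsg.Prelude.Def_ChevE6
import Cfsg.Agent.Lib.Helper3.ChevAut22
import Cfsg.Agent.Lib.Helper3.ChevData.E6UHyp
import Cfsg.Agent.Lib.Helper3.ChevData.E6Bn
import Cfsg.Agent.Lib.Helper3.ChevData.E6NegTri
import Cfsg.Agent.Lib.Helper3.ChevData.E6Sign
import Cfsg.Agent.Lib.Helper3.ChevData.E6Vec
import Cfsg.Agent.Lib.Helper3.ChevData.E6Poin
import Cfsg.Agent.Lib.Helper3.ChevData.E6Opp
import Cfsg.Agent.Lib.Helper3.ChevData.E6Irr
import Cfsg.Agent.Lib.Helper3.ChevSyl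
set_option autoImplicit false
set_option linter.unusedSectionVars false
set_option linter.style.haveILetI false
set_option maxRecDepth 1000000
open Cfsg Cfsg.Lie

/-!
Automorphisms of Chevalley groups: the table checks for type `E₆`.
-/

namespace Cfsg.Agent.Lib.Helper3.ChevAut

open Cfsg.Agent.Lib.Helper3.ChevM Cfsg.Agent.Lib.Helper3.ChevSp Cfsg.Agent.Lib.Helper3 ChevU ChevT ChevH
open Cfsg.Agent.Lib.Helper3.ChevAt Cfsg.Agent.Lib.Helper1

theorem e6_sylow {F : Type*} [Field F] [Fintype F] (p : ℕ) [Fact p.Prime] [CharP F p] :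
    ∃ P : Sylow p ↥(cdE6.D.group F),
      (P : Subgroup ↥(cdE6.D.group F)) = (cdE6.D.posUnipotent F).subgroupOf (cdE6.D.group F) := by
  refine uhypE6.exists_sylow (F := F) bnE6 p e6NegTri e6Sign (by decide +kernel) vecE6
    (of_pairRange (m := 6) (n := 72) e6Vec) smPE6 smQE6 smPiE6 smQiE6 smDE6
    (by decide +kernel) (by decide +kernel) (by decide +kernel) (by decide +kernel) ?_
  rw [e6Poin]
  refine mul_add_one_mul _ _ _ ?_ (sum_pow_eq_mul_add_one _ _ (by decide +kernel))
  refine mul_add_one_mul _ _ _ ?_ (sum_pow_eq_mul_add_one _ _ (by decide +kernel))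
  refine mul_add_one_mul _ _ _ ?_ (sum_pow_eq_mul_add_one _ _ (by decide +kernel))
  refine mul_add_one_mul _ _ _ ?_ (sum_pow_eq_mul_add_one _ _ (by decide +kernel))
  refine mul_add_one_mul _ _ _ ?_ (sum_pow_eq_mul_add_one _ _ (by decide +kernel))
  exact sum_pow_eq_mul_add_one _ _ (by decide +kernel)

/-- The table checks for the automorphisms of `E₆`. -/
def autHypE6 : AutHyp cdE6 relE6 where
  A := ⟨uhypE6, bnE6, e6NegTri, e6Sign⟩
  w0 := w0E6
  w0l := w0E6_lt
  w0neg := by
    intro r hr hpos
    have h := e6Opp r hr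
    simp only [oppCheck, Bool.and_eq_true, Bool.or_eq_true, Bool.not_eq_true', decide_eq_false_iff_not,
      decide_eq_true_eq] at h
    rcases h.1 with h1 | h1
    · exact absurd hpos h1
    · exact h1
  opp := fun i => [5, 1, 4, 3, 2, 0].getD i 0
  hopp := by decide +kernel
  simp_inj := by decide +kernel
  ct_neg := by decide +kernel

theorem e6ChainVec : ∀ r < cdE6.D.nroots, chainVecCheck cdE6.D vecE6 r = true := by decide +kernel

theorem e6VecNeg : ∀ r < cdE6.D.nroots, ∀ i < cdE6.D.rank, vecE6 (cdE6.D.neg r) i = -vecE6 r i := by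
  decide +kernel

/-- The coordinates of the roots of `E₆`. -/
def vecHypE6 : VecHyp cdE6 where
  vec := vecE6
  chain := e6ChainVec
  neg := e6VecNeg
  simple := by decide +kernel

/-- The table checks for the automorphisms of `E₆` preserving the fundamental root subgroups. -/
def genHypE6 : GenHyp cdE6 relE6 where
  Y := autHypE6
  hcs := by decide +kernel
  c2 := by decide +kernel
  par := parE6
  dep := depE6
  root := 0
  hroot := by decide +kernel
  tree := by decide +kernel
  V := vecHypE6
  cneg := by decide +kernel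

/-- The pairs of nodes of the diagram of `E₆` which are not joined. -/
def adjME6 : List (List Bool) :=
  [[true, true, false, true, true, true], [true, true, true, false, true, true], [false, true, true, false, true, true],
   [true, false, false, true, false, true], [true, true, true, false, true, false],
   [true, true, true, true, false, true]]

/-- The table checks on the bonds of the diagram of `E₆`. -/
def bondHypE6 : BondHyp cdE6 relE6 where
  Z := genHypE6
  bond := by decide +kernel
  adjM := adjME6
  hadjM := by decide +kernel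
  L := [[0, 1, 2, 3, 4, 5], [5, 1, 4, 3, 2, 0]]
  rig := by decide +kernel

end Cfsg.Agent.Lib.Helper3.ChevAut
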