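import Mathlib
import Cfsg.Prelude.Def_ChevStructure
import Cfsg.Agent.Lib.Helper3.BT7
import Cfsg.Agent.Lib.Helper3.ChevAutE6
import Cfsg.Agent.Lib.Helper3.ChevData.E6Levi
set_option autoImplicit false
set_option maxRecDepth 1000000
open Cfsg Cfsg.Lie

/-! The theorem of Borel and Tits for the Chevalley groups of type E6. -/

namespace Cfsg.Agent.Lib.Helper3.BT

open Cfsg.Agent.Lib.Helper3.ChevM Cfsg.Agent.Lib.Helper3.ChevAut

/-- Integer coordinates of the fundamental roots of type E6. -/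
def avE6 : ℕ → ℕ → ℤ := fun i k => ((([[1,-1,-1,-1,-1,-1,-1,1],[2,2,0,0,0,0,0,0],[-2,2,0,0,0,0,0,0],[0,-2,2,0,0,0,0,0],[0,0,-2,2,0,0,0,0],[0,0,0,-2,2,0,0,0]] : List (List ℤ)).getD i []).getD k 0)

/-- A vector that has a positive inner product with every fundamental root of type E6. -/
def rhoE6 : ℕ → ℤ := fun k => ([0,4,8,12,16,-16,-16,16] : List ℤ).getD k 0

theorem e6Euc : eucCheck chevE6 8 avE6 rhoE6 = true := by decide +kernel

theorem e6Simple : simpleCheck chevE6 vecE6 = true := by decide +kernel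

theorem e6Ht : allRange 0 72 (fun r => htCheck chevE6 vecE6 r) = true := by decide +kernel

theorem e6Rv_0 : allRange 0 432 (fun k => reflVecCheck2 chevE6 reflE6 vecE6 (k / 72) (k % 72)) = true := by
  decide +kernel

theorem e6Rv : ∀ k < 6 * 72, (fun i s => reflVecCheck2 chevE6 reflE6 vecE6 i s) (k / 72) (k % 72) = true := by
  intro k hk
  exact allRange_spec e6Rv_0 k (by omega) (by omega)

/-- The Euclidean realization of the root system of type E6. -/
noncomputable def eucE6 : EucHyp leviE6 (EuclideanSpace ℝ (Fin 8)) :=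
  eucOfInt leviE6 8 avE6 rhoE6 e6Euc (of_pairRange (m := 6) (n := 72) e6Vec)
    (of_pairRange (m := 6) (n := 72) e6Rv) e6Simple
    (fun r hr => allRange_spec e6Ht r (Nat.zero_le _) hr)

theorem borelTitsE6 {F : Type*} [Field F] [Fintype F] (p : ℕ) [Fact p.Prime] [CharP F p]
    (V : Subgroup (GL chevE6.Idx F)) (hVG : V ≤ chevE6.group F) (hV : IsPGroup p ↥V) (hne : V ≠ ⊥) :
    ∃ g ∈ chevE6.group F, ∃ J : Set ℕ, (∃ i, i < chevE6.rank ∧ i ∉ J) ∧
      Subgroup.normalizer (V : Set (GL chevE6.Idx F)) ⊓ chevE6.group F ≤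
        (chevE6.parabolicSubgroup F J).map (MulAut.conj g).toMonoidHom ∧
      V ≤ (chevE6.unipotentRadical F J).map (MulAut.conj g).toMonoidHom :=
  borel_tits autHypE6 eucE6 p (e6_sylow p) V hVG hV hne

end Cfsg.Agent.Lib.Helper3.BT
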