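import Cfsg.Agent.Lib.Helper3.ChevO3
set_option autoImplicit false

open Cfsg Cfsg.Lie

namespace Cfsg.Agent.Lib.Helper3.ChevM

/-- A list of exponents consisting of `0` followed by positive numbers. -/
def poinListOk (l : List ℕ) : Bool :=
  match l with
  | [] => false
  | a :: t => (a == 0) && t.all (fun e => decide (1 ≤ e))

theorem sum_pow_eq_mul_add_one (q : ℕ) (l : List ℕ) (h : poinListOk l = true) :
    ∃ k, (l.map fun e => q ^ e).sum = q * k + 1 := by
  match l, h with
  | a :: t, h =>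
    simp only [poinListOk, Bool.and_eq_true, beq_iff_eq, List.all_eq_true, decide_eq_true_eq] at h
    obtain ⟨rfl, ht⟩ := h
    have : ∃ k, (t.map fun e => q ^ e).sum = q * k := by
      clear h
      induction t with
      | nil => exact ⟨0, by simp⟩
      | cons b t ih =>
        obtain ⟨k, hk⟩ := ih (fun e he => ht e (List.mem_cons_of_mem _ he))
        have hb : 1 ≤ b := ht b (by simp)
        refine ⟨q ^ (b - 1) + k, ?_⟩
        rw [List.map_cons, List.sum_cons, hk, mul_add, ← pow_succ']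
        congr 2
        omega
    obtain ⟨k, hk⟩ := this
    exact ⟨k, by rw [List.map_cons, List.sum_cons, hk, pow_zero, add_comm]⟩

theorem mul_add_one_mul (q a b : ℕ) (ha : ∃ k, a = q * k + 1) (hb : ∃ k, b = q * k + 1) :
    ∃ k, a * b = q * k + 1 := by
  obtain ⟨k, rfl⟩ := ha
  obtain ⟨k', rfl⟩ := hb
  exact ⟨q * k * k' + k + k', by ring⟩

section
variable {F : Type*} [Field F] [Fintype F] {C : CDatum} {R : RelData C} (Uh : UHyp C R) (Hy : BNHyp C R)
include Uh Hy

/-- `U` is a Sylow `p`-subgroup of the Chevalley group over a finite field of characteristic `p`. -/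
theorem UHyp.exists_sylow (p : ℕ) [Fact p.Prime] [CharP F p]
    (hntri : ∀ r < C.D.nroots, negTri C r = true)
    (hsign : ∀ r < C.D.nroots, signCheck C.D r = true)
    (hlen : C.D.posRoots.length = C.D.nroots / 2)
    (vec : ℕ → ℕ → ℤ) (hvec : ∀ i < C.D.rank, ∀ s < C.D.nroots, vecCheck C.D vec i s = true)
    (P Q P' Q' : Matrix (Fin C.D.rank) (Fin C.D.rank) ℤ) (d : Fin C.D.rank → ℕ)
    (h : P * cartanMat C.D * Q = Matrix.diagonal fun k => (d k : ℤ)) (hP : P * P' = 1) (hP' : P' * P = 1)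
    (hQ : Q * Q' = 1)
    (hpoin : ∃ k, poin C.D R.refl Set.univ (Fintype.card F) = Fintype.card F * k + 1) :
    ∃ S : Sylow p ↥(C.D.group F),
      (S : Subgroup ↥(C.D.group F)) = (C.D.posUnipotent F).subgroupOf (C.D.group F) := by
  classical
  have hp : p.Prime := Fact.out
  have key := Uh.card_group_formula (F := F) Hy hntri hsign hlen vec hvec P Q P' Q' d h hP hP' hQ
  have hdiag := R.card_diagonal (F := F) Hy.dec vec hvec P Q P' Q' d h hP hP' hQ
  have hU := Uh.card_posUnipotent (F := F) hlen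
  have hUG : C.D.posUnipotent F ≤ C.D.group F :=
    le_trans le_sup_left (R.borel_sup_monomial Hy.root Hy.nc).1
  obtain ⟨n, -, hn⟩ := FiniteField.card F p
  set q := Fintype.card F with hq
  set g := ∏ k, Nat.gcd (q - 1) (d k) with hg
  set G := C.D.group F
  -- p does not divide q - 1
  have hq1 : ¬ p ∣ q - 1 := by
    intro hdvd
    have h1 : p ∣ q := by rw [hn]; exact dvd_pow_self p n.ne_zero
    have h2 : 1 ≤ q := Fintype.card_pos
    have : p ∣ q - (q - 1) := Nat.dvd_sub h1 hdvd
    rw [show q - (q - 1) = 1 by omega] at this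
    exact hp.one_lt.ne' (Nat.dvd_one.mp this)
  have hq1l : ¬ p ∣ (q - 1) ^ C.D.rank := fun hd => hq1 (hp.dvd_of_dvd_pow hd)
  have hgp : ¬ p ∣ g := fun hd => hq1l (hdiag ▸ Dvd.dvd.mul_right hd _)
  obtain ⟨k, hk⟩ := hpoin
  have hpoinp : ¬ p ∣ poin C.D R.refl Set.univ q := by
    rw [hk]
    intro hd
    have h1 : p ∣ q * k := Dvd.dvd.mul_right (by rw [hn]; exact dvd_pow_self p n.ne_zero) k
    exact hp.one_lt.ne' (Nat.dvd_one.mp ((Nat.dvd_add_right h1).mp hd))
  have hGpos : Nat.card G ≠ 0 := Nat.card_pos.ne'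
  have hg0 : g ≠ 0 := fun h0 => hgp (h0 ▸ dvd_zero p)
  -- the p-adic valuation of |G|
  have hval : (Nat.card G).factorization p = (n : ℕ) * (C.D.nroots / 2) := by
    have h1 : (g * Nat.card G).factorization p = (Nat.card G).factorization p := by
      rw [Nat.factorization_mul hg0 hGpos, Finsupp.add_apply, Nat.factorization_eq_zero_of_not_dvd hgp, zero_add]
    have hX1 : (q - 1) ^ C.D.rank ≠ 0 := fun h0 => hq1l (h0 ▸ dvd_zero p)
    have hX2 : poin C.D R.refl Set.univ q ≠ 0 := fun h0 => hpoinp (h0 ▸ dvd_zero p)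
    have hqN : q ^ (C.D.nroots / 2) ≠ 0 := pow_ne_zero _ Fintype.card_ne_zero
    rw [← h1, key, Nat.factorization_mul (mul_ne_zero hqN hX1) hX2, Nat.factorization_mul hqN hX1,
      Finsupp.add_apply, Finsupp.add_apply, Nat.factorization_eq_zero_of_not_dvd hq1l,
      Nat.factorization_eq_zero_of_not_dvd hpoinp, add_zero, add_zero, hn, ← pow_mul,
      hp.factorization_pow, Finsupp.single_eq_same]
  set U' := (C.D.posUnipotent F).subgroupOf G with hU'
  have hcardU' : Nat.card U' = p ^ ((n : ℕ) * (C.D.nroots / 2)) := by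
    rw [hU', Nat.card_congr (Subgroup.subgroupOfEquivOfLe hUG).toEquiv, hU, hn, ← pow_mul]
  have hpg : IsPGroup p U' := IsPGroup.of_card hcardU'
  obtain ⟨S, hS⟩ := hpg.exists_le_sylow
  refine ⟨S, ?_⟩
  symm
  apply Subgroup.eq_of_le_of_card_ge hS
  rw [hcardU', Sylow.card_eq_multiplicity, hval]

end

end Cfsg.Agent.Lib.Helper3.ChevM
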