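import Mathlib
import Cfsg.Prelude.Def_ChevStructure
import Cfsg.Prelude.Def_ChevE7
import Cfsg.Agent.Lib.Helper3.ChevAut17
import Cfsg.Agent.Lib.Helper3.ChevData.E7UHyp
import Cfsg.Agent.Lib.Helper3.ChevData.E7Bn
import Cfsg.Agent.Lib.Helper3.ChevData.E7NegTri
import Cfsg.Agent.Lib.Helper3.ChevData.E7Sign
import Cfsg.Agent.Lib.Helper3.ChevData.E7Vec
import Cfsg.Agent.Lib.Helper3.ChevData.E7Poin
import Cfsg.Agent.Lib.Helper3.ChevData.E7Opp
import Cfsg.Agent.Lib.Helper3.ChevData.E7Irr
import Cfsg.Agent.Lib.Helper3.ChevSyl
set_option autoImplicit false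
set_option linter.unusedSectionVars false
set_option linter.style.haveILetI false
set_option maxRecDepth 1000000
open Cfsg Cfsg.Lie

/-!
Automorphisms of Chevalley groups: the table checks for type `E₇`.
-/

namespace Cfsg.Agent.Lib.Helper3.ChevAut

open Cfsg.Agent.Lib.Helper3.ChevM Cfsg.Agent.Lib.Helper3.ChevSp Cfsg.Agent.Lib.Helper3 ChevU ChevT ChevH
open Cfsg.Agent.Lib.Helper3.ChevAt Cfsg.Agent.Lib.Helper1

theorem e7_sylow {F : Type*} [Field F] [Fintype F] (p : ℕ) [Fact p.Prime] [CharP F p] :
    ∃ P : Sylow p ↥(cdE7.D.group F),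
      (P : Subgroup ↥(cdE7.D.group F)) = (cdE7.D.posUnipotent F).subgroupOf (cdE7.D.group F) := by
  refine uhypE7.exists_sylow (F := F) bnE7 p e7NegTri e7Sign (by decide +kernel) vecE7
    (of_pairRange (m := 7) (n := 126) e7Vec) smPE7 smQE7 smPiE7 smQiE7 smDE7
    (by decide +kernel) (by decide +kernel) (by decide +kernel) (by decide +kernel) ?_
  rw [e7Poin]
  refine mul_add_one_mul _ _ _ ?_ (sum_pow_eq_mul_add_one _ _ (by decide +kernel))
  refine mul_add_one_mul _ _ _ ?_ (sum_pow_eq_mul_add_one _ _ (by decide +kernel))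
  refine mul_add_one_mul _ _ _ ?_ (sum_pow_eq_mul_add_one _ _ (by decide +kernel))
  refine mul_add_one_mul _ _ _ ?_ (sum_pow_eq_mul_add_one _ _ (by decide +kernel))
  refine mul_add_one_mul _ _ _ ?_ (sum_pow_eq_mul_add_one _ _ (by decide +kernel))
  refine mul_add_one_mul _ _ _ ?_ (sum_pow_eq_mul_add_one _ _ (by decide +kernel))
  exact sum_pow_eq_mul_add_one _ _ (by decide +kernel)

/-- The table checks for the automorphisms of `E₇`. -/
def autHypE7 : AutHyp cdE7 relE7 where
  A := ⟨uhypE7, bnE7, e7NegTri, e7Sign⟩
  w0 := w0E7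
  w0l := w0E7_lt
  w0neg := by
    intro r hr hpos
    have h := e7Opp r hr
    simp only [oppCheck, Bool.and_eq_true, Bool.or_eq_true, Bool.not_eq_true', decide_eq_false_iff_not,
      decide_eq_true_eq] at h
    rcases h.1 with h1 | h1
    · exact absurd hpos h1
    · exact h1
  opp := fun i => i
  hopp := by decide +kernel
  simp_inj := by decide +kernel
  ct_neg := by decide +kernel

/-- The table checks for the simply laced diagram of `E₇`. -/
def slHypE7 : SLHyp cdE7 relE7 where
  Y := autHypE7
  hcs := by decide +kernel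
  adj := by decide +kernel
  par := parE7
  dep := depE7
  root := 0
  hroot := by decide +kernel
  tree := by decide +kernel
  nb := by decide +kernel

/-- The pairs of nodes of the diagram of `E₇` which are not joined. -/
def adjME7 : List (List Bool) :=
  [[true, true, false, true, true, true, true], [true, true, true, false, true, true, true],
   [false, true, true, false, true, true, true], [true, false, false, true, false, true, true],
   [true, true, true, false, true, false, true], [true, true, true, true, false, true, false],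
   [true, true, true, true, true, false, true]]

theorem e7ChainVec : ∀ r < cdE7.D.nroots, chainVecCheck cdE7.D vecE7 r = true := by decide +kernel

theorem e7VecNeg : ∀ r < cdE7.D.nroots, ∀ i < cdE7.D.rank, vecE7 (cdE7.D.neg r) i = -vecE7 r i := by
  decide +kernel

/-- The coordinates of the roots of `E₇`. -/
def vecHypE7 : VecHyp cdE7 where
  vec := vecE7
  chain := e7ChainVec
  neg := e7VecNeg
  simple := by decide +kernel

/-- The table checks for the automorphisms of `E₇`. -/
def diagHypE7 : DiagHyp cdE7 relE7 where
  S := slHypE7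
  adjM := adjME7
  hadjM := by decide +kernel
  rig := by decide +kernel
  V := vecHypE7
  cneg := by decide +kernel

end Cfsg.Agent.Lib.Helper3.ChevAut
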