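import Mathlib
import Cfsg.Prelude.Def_ChevStructure
import Cfsg.Agent.Lib.Helper3.BT7
import Cfsg.Agent.Lib.Helper3.ChevAutE7
import Cfsg.Agent.Lib.Helper3.ChevData.E7Levi
set_option autoImplicit false
set_option maxRecDepth 1000000
open Cfsg Cfsg.Lie

/-! The theorem of Borel and Tits for the Chevalley groups of type E7. -/

namespace Cfsg.Agent.Lib.Helper3.BT

open Cfsg.Agent.Lib.Helper3.ChevM Cfsg.Agent.Lib.Helper3.ChevAut

/-- Integer coordinates of the fundamental roots of type E7. -/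
def avE7 : ℕ → ℕ → ℤ := fun i k => ((([[1,-1,-1,-1,-1,-1,-1,1],[2,2,0,0,0,0,0,0],[-2,2,0,0,0,0,0,0],[0,-2,2,0,0,0,0,0],[0,0,-2,2,0,0,0,0],[0,0,0,-2,2,0,0,0],[0,0,0,0,-2,2,0,0]] : List (List ℤ)).getD i []).getD k 0)

/-- A vector that has a positive inner product with every fundamental root of type E7. -/
def rhoE7 : ℕ → ℤ := fun k => ([0,4,8,12,16,20,-34,34] : List ℤ).getD k 0

theorem e7Euc : eucCheck chevE7 8 avE7 rhoE7 = true := by decide +kernel

theorem e7Simple : simpleCheck chevE7 vecE7 = true := by decide +kernel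

theorem e7Ht : allRange 0 126 (fun r => htCheck chevE7 vecE7 r) = true := by decide +kernel

theorem e7Rv_0 : allRange 0 480 (fun k => reflVecCheck2 chevE7 reflE7 vecE7 (k / 126) (k % 126)) = true := by
  decide +kernel

theorem e7Rv_480 : allRange 480 882 (fun k => reflVecCheck2 chevE7 reflE7 vecE7 (k / 126) (k % 126)) = true := by
  decide +kernel

theorem e7Rv : ∀ k < 7 * 126, (fun i s => reflVecCheck2 chevE7 reflE7 vecE7 i s) (k / 126) (k % 126) = true := by
  intro k hk
  by_cases c0 : k < 480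
  · exact allRange_spec e7Rv_0 k (by omega) c0
  exact allRange_spec e7Rv_480 k (by omega) (by omega)

/-- The Euclidean realization of the root system of type E7. -/
noncomputable def eucE7 : EucHyp leviE7 (EuclideanSpace ℝ (Fin 8)) :=
  eucOfInt leviE7 8 avE7 rhoE7 e7Euc (of_pairRange (m := 7) (n := 126) e7Vec)
    (of_pairRange (m := 7) (n := 126) e7Rv) e7Simple
    (fun r hr => allRange_spec e7Ht r (Nat.zero_le _) hr)

theorem borelTitsE7 {F : Type*} [Field F] [Fintype F] (p : ℕ) [Fact p.Prime] [CharP F p]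
    (V : Subgroup (GL chevE7.Idx F)) (hVG : V ≤ chevE7.group F) (hV : IsPGroup p ↥V) (hne : V ≠ ⊥) :
    ∃ g ∈ chevE7.group F, ∃ J : Set ℕ, (∃ i, i < chevE7.rank ∧ i ∉ J) ∧
      Subgroup.normalizer (V : Set (GL chevE7.Idx F)) ⊓ chevE7.group F ≤
        (chevE7.parabolicSubgroup F J).map (MulAut.conj g).toMonoidHom ∧
      V ≤ (chevE7.unipotentRadical F J).map (MulAut.conj g).toMonoidHom :=
  borel_tits autHypE7 eucE7 p (e7_sylow p) V hVG hV hne

end Cfsg.Agent.Lib.Helper3.BT
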