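import Mathlib
set_option autoImplicit false

namespace Cfsg.Agent.Lib.Helper3.ChevM

/-- A map over a list is determined index by index. -/
theorem list_map_eq_of_getD {α β : Type*} (l : List α) (l' : List β) (f : α → β) (da : α) (db : β)
    (hlen : l.length = l'.length) (h : ∀ a < l.length, f (l.getD a da) = l'.getD a db) : l.map f = l' := by
  apply List.ext_getElem
  · rw [List.length_map, hlen]
  · intro i h1 h2
    rw [List.length_map] at h1
    have := h i h1
    rw [List.getD_eq_getElem _ _ h1, List.getD_eq_getElem _ _ (by omega)] at this
    rw [List.getElem_map]
    exact this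

end Cfsg.Agent.Lib.Helper3.ChevM
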