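import Mathlib
import Cfsg.Prelude.Def_ChevStructure
import Cfsg.Prelude.Def_ChevE8
import Cfsg.Agent.Lib.Helper3.ChevAut14
import Cfsg.Agent.Lib.Helper3.ChevData.E8UHyp
import Cfsg.Agent.Lib.Helper3.ChevData.E8Bn
import Cfsg.Agent.Lib.Helper3.ChevData.E8NegTri
import Cfsg.Agent.Lib.Helper3.ChevData.E8Sign
import Cfsg.Agent.Lib.Helper3.ChevData.E8Vec
import Cfsg.Agent.Lib.Helper3.ChevData.E8Poin
import Cfsg.Agent.Lib.Helper3.ChevData.E8Opp
import Cfsg.Agent.Lib.Helper3.ChevData.E8Irr
import Cfsg.Agent.Lib.Helper3.ChevSyl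
set_option autoImplicit false
set_option linter.unusedSectionVars false
set_option linter.style.haveILetI false
set_option maxRecDepth 1000000
open Cfsg Cfsg.Lie

/-!
Automorphisms of Chevalley groups: the table checks for type `E₈`.
-/

namespace Cfsg.Agent.Lib.Helper3.ChevAut

open Cfsg.Agent.Lib.Helper3.ChevM Cfsg.Agent.Lib.Helper3.ChevSp Cfsg.Agent.Lib.Helper3 ChevU ChevT ChevH
open Cfsg.Agent.Lib.Helper3.ChevAt Cfsg.Agent.Lib.Helper1

theorem e8_sylow {F : Type*} [Field F] [Fintype F] (p : ℕ) [Fact p.Prime] [CharP F p] :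
    ∃ P : Sylow p ↥(cdE8.D.group F),
      (P : Subgroup ↥(cdE8.D.group F)) = (cdE8.D.posUnipotent F).subgroupOf (cdE8.D.group F) := by
  refine uhypE8.exists_sylow (F := F) bnE8 p e8NegTri e8Sign (by decide +kernel) vecE8
    (of_pairRange (m := 8) (n := 240) e8Vec) smPE8 smQE8 smPiE8 smQiE8 smDE8
    (by decide +kernel) (by decide +kernel) (by decide +kernel) (by decide +kernel) ?_
  rw [e8Poin]
  refine mul_add_one_mul _ _ _ ?_ (sum_pow_eq_mul_add_one _ _ (by decide +kernel))
  refine mul_add_one_mul _ _ _ ?_ (sum_pow_eq_mul_add_one _ _ (by decide +kernel))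
  refine mul_add_one_mul _ _ _ ?_ (sum_pow_eq_mul_add_one _ _ (by decide +kernel))
  refine mul_add_one_mul _ _ _ ?_ (sum_pow_eq_mul_add_one _ _ (by decide +kernel))
  refine mul_add_one_mul _ _ _ ?_ (sum_pow_eq_mul_add_one _ _ (by decide +kernel))
  refine mul_add_one_mul _ _ _ ?_ (sum_pow_eq_mul_add_one _ _ (by decide +kernel))
  refine mul_add_one_mul _ _ _ ?_ (sum_pow_eq_mul_add_one _ _ (by decide +kernel))
  exact sum_pow_eq_mul_add_one _ _ (by decide +kernel)

/-- The table checks for the automorphisms of `E₈`. -/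
def autHypE8 : AutHyp cdE8 relE8 where
  A := ⟨uhypE8, bnE8, e8NegTri, e8Sign⟩
  w0 := w0E8
  w0l := w0E8_lt
  w0neg := by
    intro r hr hpos
    have h := e8Opp r hr
    simp only [oppCheck, Bool.and_eq_true, Bool.or_eq_true, Bool.not_eq_true', decide_eq_false_iff_not,
      decide_eq_true_eq] at h
    rcases h.1 with h1 | h1
    · exact absurd hpos h1
    · exact h1
  opp := fun i => i
  hopp := by decide +kernel
  simp_inj := by decide +kernel
  ct_neg := by decide +kernel

/-- The table checks for the simply laced diagram of `E₈`. -/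
def slHypE8 : SLHyp cdE8 relE8 where
  Y := autHypE8
  hcs := by decide +kernel
  adj := by decide +kernel
  par := parE8
  dep := depE8
  root := 0
  hroot := by decide +kernel
  tree := by decide +kernel
  nb := by decide +kernel

/-- The inverse of the Cartan matrix of `E₈`. -/
def binvE8 : Matrix (Fin cdE8.D.rank) (Fin cdE8.D.rank) ℤ :=
  Matrix.of ![![4, 5, 7, 10, 8, 6, 4, 2], ![5, 8, 10, 15, 12, 9, 6, 3], ![7, 10, 14, 20, 16, 12, 8, 4],
    ![10, 15, 20, 30, 24, 18, 12, 6], ![8, 12, 16, 24, 20, 15, 10, 5], ![6, 9, 12, 18, 15, 12, 8, 4],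
    ![4, 6, 8, 12, 10, 8, 6, 3], ![2, 3, 4, 6, 5, 4, 3, 2]]

/-- The pairs of nodes of the diagram of `E₈` which are not joined. -/
def adjME8 : List (List Bool) :=
  [[true, true, false, true, true, true, true, true], [true, true, true, false, true, true, true, true],
   [false, true, true, false, true, true, true, true], [true, false, false, true, false, true, true, true],
   [true, true, true, false, true, false, true, true], [true, true, true, true, false, true, false, true],
   [true, true, true, true, true, false, true, false], [true, true, true, true, true, true, false, true]]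

/-- The table checks for the automorphisms of `E₈`. -/
def uniHypE8 : UniHyp cdE8 relE8 where
  S := slHypE8
  adjM := adjME8
  hadjM := by decide +kernel
  rig := by decide +kernel
  Binv := binvE8
  hB := by decide +kernel
  cneg := by decide +kernel

end Cfsg.Agent.Lib.Helper3.ChevAut
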