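import Mathlib
import Cfsg.Prelude.Def_ChevStructure
import Cfsg.Agent.Lib.Helper3.BT7
import Cfsg.Agent.Lib.Helper3.ChevAutE8
import Cfsg.Agent.Lib.Helper3.ChevData.E8Levi
set_option autoImplicit false
set_option maxRecDepth 1000000
open Cfsg Cfsg.Lie

/-! The theorem of Borel and Tits for the Chevalley groups of type E8. -/

namespace Cfsg.Agent.Lib.Helper3.BT

open Cfsg.Agent.Lib.Helper3.ChevM Cfsg.Agent.Lib.Helper3.ChevAut

/-- Integer coordinates of the fundamental roots of type E8. -/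
def avE8 : ℕ → ℕ → ℤ := fun i k => ((([[1,-1,-1,-1,-1,-1,-1,1],[2,2,0,0,0,0,0,0],[-2,2,0,0,0,0,0,0],[0,-2,2,0,0,0,0,0],[0,0,-2,2,0,0,0,0],[0,0,0,-2,2,0,0,0],[0,0,0,0,-2,2,0,0],[0,0,0,0,0,-2,2,0]] : List (List ℤ)).getD i []).getD k 0)

/-- A vector that has a positive inner product with every fundamental root of type E8. -/
def rhoE8 : ℕ → ℤ := fun k => ([0,4,8,12,16,20,24,92] : List ℤ).getD k 0

theorem e8Euc : eucCheck chevE8 8 avE8 rhoE8 = true := by decide +kernel

theorem e8Simple : simpleCheck chevE8 vecE8 = true := by decide +kernel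

theorem e8Ht : allRange 0 240 (fun r => htCheck chevE8 vecE8 r) = true := by decide +kernel

theorem e8Rv_0 : allRange 0 480 (fun k => reflVecCheck2 chevE8 reflE8 vecE8 (k / 240) (k % 240)) = true := by
  decide +kernel

theorem e8Rv_480 : allRange 480 960 (fun k => reflVecCheck2 chevE8 reflE8 vecE8 (k / 240) (k % 240)) = true := by
  decide +kernel

theorem e8Rv_960 : allRange 960 1440 (fun k => reflVecCheck2 chevE8 reflE8 vecE8 (k / 240) (k % 240)) = true := by
  decide +kernel

theorem e8Rv_1440 : allRange 1440 1920 (fun k => reflVecCheck2 chevE8 reflE8 vecE8 (k / 240) (k % 240)) = true := by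
  decide +kernel

theorem e8Rv : ∀ k < 8 * 240, (fun i s => reflVecCheck2 chevE8 reflE8 vecE8 i s) (k / 240) (k % 240) = true := by
  intro k hk
  by_cases c0 : k < 480
  · exact allRange_spec e8Rv_0 k (by omega) c0
  by_cases c480 : k < 960
  · exact allRange_spec e8Rv_480 k (by omega) c480
  by_cases c960 : k < 1440
  · exact allRange_spec e8Rv_960 k (by omega) c960
  exact allRange_spec e8Rv_1440 k (by omega) (by omega)

/-- The Euclidean realization of the root system of type E8. -/
noncomputable def eucE8 : EucHyp leviE8 (EuclideanSpace ℝ (Fin 8)) :=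
  eucOfInt leviE8 8 avE8 rhoE8 e8Euc (of_pairRange (m := 8) (n := 240) e8Vec)
    (of_pairRange (m := 8) (n := 240) e8Rv) e8Simple
    (fun r hr => allRange_spec e8Ht r (Nat.zero_le _) hr)

theorem borelTitsE8 {F : Type*} [Field F] [Fintype F] (p : ℕ) [Fact p.Prime] [CharP F p]
    (V : Subgroup (GL chevE8.Idx F)) (hVG : V ≤ chevE8.group F) (hV : IsPGroup p ↥V) (hne : V ≠ ⊥) :
    ∃ g ∈ chevE8.group F, ∃ J : Set ℕ, (∃ i, i < chevE8.rank ∧ i ∉ J) ∧
      Subgroup.normalizer (V : Set (GL chevE8.Idx F)) ⊓ chevE8.group F ≤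
        (chevE8.parabolicSubgroup F J).map (MulAut.conj g).toMonoidHom ∧
      V ≤ (chevE8.unipotentRadical F J).map (MulAut.conj g).toMonoidHom :=
  borel_tits autHypE8 eucE8 p (e8_sylow p) V hVG hV hne

end Cfsg.Agent.Lib.Helper3.BT
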