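import Mathlib
import Cfsg.Prelude.Def_ChevStructure
import Cfsg.Prelude.Def_ChevF4
import Cfsg.Agent.Lib.Helper3.ChevAut22
import Cfsg.Agent.Lib.Helper3.ChevData.F4UHyp
import Cfsg.Agent.Lib.Helper3.ChevData.F4Bn
import Cfsg.Agent.Lib.Helper3.ChevData.F4NegTri
import Cfsg.Agent.Lib.Helper3.ChevData.F4Sign
import Cfsg.Agent.Lib.Helper3.ChevData.F4Vec
import Cfsg.Agent.Lib.Helper3.ChevData.F4Poin
import Cfsg.Agent.Lib.Helper3.ChevData.F4Opp
import Cfsg.Agent.Lib.Helper3.ChevData.F4Irr
import Cfsg.Agent.Lib.Helper3.ChevSyl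
import Cfsg.Agent.Lib.Helper3.ChevSpF4
set_option autoImplicit false
set_option linter.unusedSectionVars false
set_option linter.style.haveILetI false
set_option maxRecDepth 1000000
open Cfsg Cfsg.Lie

/-!
Automorphisms of Chevalley groups: the table checks for type `F₄`.
-/

namespace Cfsg.Agent.Lib.Helper3.ChevAut

open Cfsg.Agent.Lib.Helper3.ChevM Cfsg.Agent.Lib.Helper3.ChevSp Cfsg.Agent.Lib.Helper3 ChevU ChevT ChevH
open Cfsg.Agent.Lib.Helper3.ChevAt Cfsg.Agent.Lib.Helper1

theorem f4_sylow {F : Type*} [Field F] [Fintype F] (p : ℕ) [Fact p.Prime] [CharP F p] :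
    ∃ P : Sylow p ↥(cdF4.D.group F),
      (P : Subgroup ↥(cdF4.D.group F)) = (cdF4.D.posUnipotent F).subgroupOf (cdF4.D.group F) := by
  refine uhypF4.exists_sylow (F := F) bnF4 p f4NegTri f4Sign (by decide +kernel) vecF4
    (of_pairRange (m := 4) (n := 48) f4Vec) smPF4 smQF4 smPiF4 smQiF4 smDF4
    (by decide +kernel) (by decide +kernel) (by decide +kernel) (by decide +kernel) ?_
  rw [f4Poin]
  refine mul_add_one_mul _ _ _ ?_ (sum_pow_eq_mul_add_one _ _ (by decide +kernel))
  refine mul_add_one_mul _ _ _ ?_ (sum_pow_eq_mul_add_one _ _ (by decide +kernel))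
  refine mul_add_one_mul _ _ _ ?_ (sum_pow_eq_mul_add_one _ _ (by decide +kernel))
  exact sum_pow_eq_mul_add_one _ _ (by decide +kernel)

/-- The table checks for the automorphisms of `F₄`. -/
def autHypF4 : AutHyp cdF4 relF4 where
  A := ⟨uhypF4, bnF4, f4NegTri, f4Sign⟩
  w0 := w0F4
  w0l := w0F4_lt
  w0neg := by
    intro r hr hpos
    have h := f4Opp r hr
    simp only [oppCheck, Bool.and_eq_true, Bool.or_eq_true, Bool.not_eq_true', decide_eq_false_iff_not,
      decide_eq_true_eq] at h
    rcases h.1 with h1 | h1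
    · exact absurd hpos h1
    · exact h1
  opp := fun i => i
  hopp := by decide +kernel
  simp_inj := by decide +kernel
  ct_neg := by decide +kernel

theorem f4ChainVec : ∀ r < cdF4.D.nroots, chainVecCheck cdF4.D vecF4 r = true := by decide +kernel

theorem f4VecNeg : ∀ r < cdF4.D.nroots, ∀ i < cdF4.D.rank, vecF4 (cdF4.D.neg r) i = -vecF4 r i := by
  decide +kernel

/-- The coordinates of the roots of `F₄`. -/
def vecHypF4 : VecHyp cdF4 where
  vec := vecF4
  chain := f4ChainVec
  neg := f4VecNeg
  simple := by decide +kernel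

/-- The table checks for the automorphisms of `F₄` preserving the fundamental root subgroups. -/
def genHypF4 : GenHyp cdF4 relF4 where
  Y := autHypF4
  hcs := by decide +kernel
  c2 := by decide +kernel
  par := parF4
  dep := depF4
  root := 0
  hroot := by decide +kernel
  tree := by decide +kernel
  V := vecHypF4
  cneg := by decide +kernel

/-- The pairs of nodes of the diagram of `F₄` which are not joined. -/
def adjMF4 : List (List Bool) :=
  [[true, false, true, true], [false, true, false, true], [true, false, true, false], [true, true, false, true]]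

/-- The table checks on the bonds of the diagram of `F₄`. -/
def bondHypF4 : BondHyp cdF4 relF4 where
  Z := genHypF4
  bond := by decide +kernel
  adjM := adjMF4
  hadjM := by decide +kernel
  L := [[0, 1, 2, 3], [3, 2, 1, 0]]
  rig := by decide +kernel

end Cfsg.Agent.Lib.Helper3.ChevAut
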