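import Mathlib
import Cfsg.Prelude.Def_ChevStructure
import Cfsg.Agent.Lib.Helper3.BT7
import Cfsg.Agent.Lib.Helper3.ChevAutF4
import Cfsg.Agent.Lib.Helper3.ChevData.F4Levi
set_option autoImplicit false
set_option maxRecDepth 1000000
open Cfsg Cfsg.Lie

/-! The theorem of Borel and Tits for the Chevalley groups of type F4. -/

namespace Cfsg.Agent.Lib.Helper3.BT

open Cfsg.Agent.Lib.Helper3.ChevM Cfsg.Agent.Lib.Helper3.ChevAut

/-- Integer coordinates of the fundamental roots of type F4. -/
def avF4 : ℕ → ℕ → ℤ := fun i k => ((([[1,-1,-1,-1],[0,0,0,2],[0,0,2,-2],[0,2,-2,0]] : List (List ℤ)).getD i []).getD k 0)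

/-- A vector that has a positive inner product with every fundamental root of type F4. -/
def rhoF4 : ℕ → ℤ := fun k => ([22,10,6,2] : List ℤ).getD k 0

theorem f4Euc : eucCheck chevF4 4 avF4 rhoF4 = true := by decide +kernel

theorem f4Simple : simpleCheck chevF4 vecF4 = true := by decide +kernel

theorem f4Ht : allRange 0 48 (fun r => htCheck chevF4 vecF4 r) = true := by decide +kernel

theorem f4Rv_0 : allRange 0 192 (fun k => reflVecCheck2 chevF4 reflF4 vecF4 (k / 48) (k % 48)) = true := by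
  decide +kernel

theorem f4Rv : ∀ k < 4 * 48, (fun i s => reflVecCheck2 chevF4 reflF4 vecF4 i s) (k / 48) (k % 48) = true := by
  intro k hk
  exact allRange_spec f4Rv_0 k (by omega) (by omega)

/-- The Euclidean realization of the root system of type F4. -/
noncomputable def eucF4 : EucHyp leviF4 (EuclideanSpace ℝ (Fin 4)) :=
  eucOfInt leviF4 4 avF4 rhoF4 f4Euc (of_pairRange (m := 4) (n := 48) f4Vec)
    (of_pairRange (m := 4) (n := 48) f4Rv) f4Simple
    (fun r hr => allRange_spec f4Ht r (Nat.zero_le _) hr)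

theorem borelTitsF4 {F : Type*} [Field F] [Fintype F] (p : ℕ) [Fact p.Prime] [CharP F p]
    (V : Subgroup (GL chevF4.Idx F)) (hVG : V ≤ chevF4.group F) (hV : IsPGroup p ↥V) (hne : V ≠ ⊥) :
    ∃ g ∈ chevF4.group F, ∃ J : Set ℕ, (∃ i, i < chevF4.rank ∧ i ∉ J) ∧
      Subgroup.normalizer (V : Set (GL chevF4.Idx F)) ⊓ chevF4.group F ≤
        (chevF4.parabolicSubgroup F J).map (MulAut.conj g).toMonoidHom ∧
      V ≤ (chevF4.unipotentRadical F J).map (MulAut.conj g).toMonoidHom :=
  borel_tits autHypF4 eucF4 p (f4_sylow p) V hVG hV hne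

end Cfsg.Agent.Lib.Helper3.BT
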