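import Mathlib
import Cfsg.Prelude.Def_ChevStructure
import Cfsg.Prelude.Def_ChevG2
import Cfsg.Agent.Lib.Helper3.ChevAut22
import Cfsg.Agent.Lib.Helper3.ChevData.G2UHyp
import Cfsg.Agent.Lib.Helper3.ChevData.G2Bn
import Cfsg.Agent.Lib.Helper3.ChevData.G2NegTri
import Cfsg.Agent.Lib.Helper3.ChevData.G2Sign
import Cfsg.Agent.Lib.Helper3.ChevData.G2Vec
import Cfsg.Agent.Lib.Helper3.ChevData.G2Poin
import Cfsg.Agent.Lib.Helper3.ChevData.G2Opp
import Cfsg.Agent.Lib.Helper3.ChevData.G2Irr
import Cfsg.Agent.Lib.Helper3.ChevSyl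
import Cfsg.Agent.Lib.Helper3.ChevSpG2
set_option autoImplicit false
set_option linter.unusedSectionVars false
set_option linter.style.haveILetI false
set_option maxRecDepth 1000000
open Cfsg Cfsg.Lie

/-!
Automorphisms of Chevalley groups: the table checks for type `G₂`.
-/

namespace Cfsg.Agent.Lib.Helper3.ChevAut

open Cfsg.Agent.Lib.Helper3.ChevM Cfsg.Agent.Lib.Helper3.ChevSp Cfsg.Agent.Lib.Helper3 ChevU ChevT ChevH
open Cfsg.Agent.Lib.Helper3.ChevAt Cfsg.Agent.Lib.Helper1

theorem g2_sylow {F : Type*} [Field F] [Fintype F] (p : ℕ) [Fact p.Prime] [CharP F p] :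
    ∃ P : Sylow p ↥(cdG2.D.group F),
      (P : Subgroup ↥(cdG2.D.group F)) = (cdG2.D.posUnipotent F).subgroupOf (cdG2.D.group F) := by
  refine uhypG2.exists_sylow (F := F) bnG2 p g2NegTri g2Sign (by decide +kernel) vecG2
    (of_pairRange (m := 2) (n := 12) g2Vec) smPG2 smQG2 smPiG2 smQiG2 smDG2
    (by decide +kernel) (by decide +kernel) (by decide +kernel) (by decide +kernel) ?_
  rw [g2Poin]
  refine mul_add_one_mul _ _ _ ?_ (sum_pow_eq_mul_add_one _ _ (by decide +kernel))
  exact sum_pow_eq_mul_add_one _ _ (by decide +kernel)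

/-- The table checks for the automorphisms of `G₂`. -/
def autHypG2 : AutHyp cdG2 relG2 where
  A := ⟨uhypG2, bnG2, g2NegTri, g2Sign⟩
  w0 := w0G2
  w0l := w0G2_lt
  w0neg := by
    intro r hr hpos
    have h := g2Opp r hr
    simp only [oppCheck, Bool.and_eq_true, Bool.or_eq_true, Bool.not_eq_true', decide_eq_false_iff_not,
      decide_eq_true_eq] at h
    rcases h.1 with h1 | h1
    · exact absurd hpos h1
    · exact h1
  opp := fun i => i
  hopp := by decide +kernel
  simp_inj := by decide +kernel
  ct_neg := by decide +kernel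

theorem g2ChainVec : ∀ r < cdG2.D.nroots, chainVecCheck cdG2.D vecG2 r = true := by decide +kernel

theorem g2VecNeg : ∀ r < cdG2.D.nroots, ∀ i < cdG2.D.rank, vecG2 (cdG2.D.neg r) i = -vecG2 r i := by
  decide +kernel

/-- The coordinates of the roots of `G₂`. -/
def vecHypG2 : VecHyp cdG2 where
  vec := vecG2
  chain := g2ChainVec
  neg := g2VecNeg
  simple := by decide +kernel

/-- The table checks for the automorphisms of `G₂` preserving the fundamental root subgroups. -/
def genHypG2 : GenHyp cdG2 relG2 where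
  Y := autHypG2
  hcs := by decide +kernel
  c2 := by decide +kernel
  par := parG2
  dep := depG2
  root := 0
  hroot := by decide +kernel
  tree := by decide +kernel
  V := vecHypG2
  cneg := by decide +kernel

/-- The pairs of nodes of the diagram of `G₂` which are not joined. -/
def adjMG2 : List (List Bool) :=
  [[true, false], [false, true]]

/-- The table checks on the bonds of the diagram of `G₂`. -/
def bondHypG2 : BondHyp cdG2 relG2 where
  Z := genHypG2
  bond := by decide +kernel
  adjM := adjMG2
  hadjM := by decide +kernel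
  L := [[0, 1], [1, 0]]
  rig := by decide +kernel

end Cfsg.Agent.Lib.Helper3.ChevAut
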