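import Mathlib
import Cfsg.Prelude.Def_ChevStructure
import Cfsg.Agent.Lib.Helper3.BT7
import Cfsg.Agent.Lib.Helper3.ChevAutG2
import Cfsg.Agent.Lib.Helper3.ChevData.G2Levi
set_option autoImplicit false
set_option maxRecDepth 1000000
open Cfsg Cfsg.Lie

/-! The theorem of Borel and Tits for the Chevalley groups of type G2. -/

namespace Cfsg.Agent.Lib.Helper3.BT

open Cfsg.Agent.Lib.Helper3.ChevM Cfsg.Agent.Lib.Helper3.ChevAut

/-- Integer coordinates of the fundamental roots of type G2. -/
def avG2 : ℕ → ℕ → ℤ := fun i k => ((([[1,-1,0],[-2,1,1]] : List (List ℤ)).getD i []).getD k 0)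

/-- A vector that has a positive inner product with every fundamental root of type G2. -/
def rhoG2 : ℕ → ℤ := fun k => ([-2,-4,6] : List ℤ).getD k 0

theorem g2Euc : eucCheck chevG2 3 avG2 rhoG2 = true := by decide +kernel

theorem g2Simple : simpleCheck chevG2 vecG2 = true := by decide +kernel

theorem g2Ht : allRange 0 12 (fun r => htCheck chevG2 vecG2 r) = true := by decide +kernel

theorem g2Rv_0 : allRange 0 24 (fun k => reflVecCheck2 chevG2 reflG2 vecG2 (k / 12) (k % 12)) = true := by
  decide +kernel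

theorem g2Rv : ∀ k < 2 * 12, (fun i s => reflVecCheck2 chevG2 reflG2 vecG2 i s) (k / 12) (k % 12) = true := by
  intro k hk
  exact allRange_spec g2Rv_0 k (by omega) (by omega)

/-- The Euclidean realization of the root system of type G2. -/
noncomputable def eucG2 : EucHyp leviG2 (EuclideanSpace ℝ (Fin 3)) :=
  eucOfInt leviG2 3 avG2 rhoG2 g2Euc (of_pairRange (m := 2) (n := 12) g2Vec)
    (of_pairRange (m := 2) (n := 12) g2Rv) g2Simple
    (fun r hr => allRange_spec g2Ht r (Nat.zero_le _) hr)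

theorem borelTitsG2 {F : Type*} [Field F] [Fintype F] (p : ℕ) [Fact p.Prime] [CharP F p]
    (V : Subgroup (GL chevG2.Idx F)) (hVG : V ≤ chevG2.group F) (hV : IsPGroup p ↥V) (hne : V ≠ ⊥) :
    ∃ g ∈ chevG2.group F, ∃ J : Set ℕ, (∃ i, i < chevG2.rank ∧ i ∉ J) ∧
      Subgroup.normalizer (V : Set (GL chevG2.Idx F)) ⊓ chevG2.group F ≤
        (chevG2.parabolicSubgroup F J).map (MulAut.conj g).toMonoidHom ∧
      V ≤ (chevG2.unipotentRadical F J).map (MulAut.conj g).toMonoidHom :=
  borel_tits autHypG2 eucG2 p (g2_sylow p) V hVG hV hne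

end Cfsg.Agent.Lib.Helper3.BT
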