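import Mathlib
import Cfsg.Agent.Lib.Lead.CoprimeAction
import Cfsg.Agent.Lib.Lead.CoprimeTools

set_option autoImplicit false

namespace Cfsg.Agent.Lib.Helper3.BW

open Cfsg.Agent.Lib.Lead

section
variable {H : Type*} [Group H]

/-- the elements of `H` normalising `M` and `N` and acting trivially on the section `N / M` -/
def sectCent (M N : Subgroup H) : Subgroup H where
  carrier := {x | x ∈ Subgroup.normalizer (M : Set H) ∧ x ∈ Subgroup.normalizer (N : Set H) ∧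
    ∀ n ∈ N, x * n * x⁻¹ * n⁻¹ ∈ M}
  one_mem' := by
    refine ⟨Subgroup.one_mem _, Subgroup.one_mem _, fun n _ => ?_⟩
    have : (1 : H) * n * 1⁻¹ * n⁻¹ = 1 := by group
    rw [this]; exact Subgroup.one_mem _
  mul_mem' := by
    rintro x y ⟨hxM, hxN, hx⟩ ⟨hyM, hyN, hy⟩
    refine ⟨Subgroup.mul_mem _ hxM hyM, Subgroup.mul_mem _ hxN hyN, fun n hn => ?_⟩
    have h1 : x * y * n * (x * y)⁻¹ * n⁻¹ =
        (x * (y * n * y⁻¹ * n⁻¹) * x⁻¹) * (x * n * x⁻¹ * n⁻¹) := by group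
    rw [h1]
    exact M.mul_mem ((Subgroup.mem_normalizer_iff.mp hxM _).mp (hy n hn)) (hx n hn)
  inv_mem' := by
    rintro x ⟨hxM, hxN, hx⟩
    refine ⟨Subgroup.inv_mem _ hxM, Subgroup.inv_mem _ hxN, fun n hn => ?_⟩
    have hn' : x⁻¹ * n * x ∈ N := by
      have := (Subgroup.mem_normalizer_iff.mp (Subgroup.inv_mem _ hxN) n).mp hn
      simpa using this
    have h1 := hx _ hn'
    have h2 : x⁻¹ * n * x⁻¹⁻¹ * n⁻¹ = (x * (x⁻¹ * n * x) * x⁻¹ * (x⁻¹ * n * x)⁻¹)⁻¹ := by group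
    rw [h2]
    exact M.inv_mem h1

theorem mem_sectCent {M N : Subgroup H} {x : H} :
    x ∈ sectCent M N ↔ x ∈ Subgroup.normalizer (M : Set H) ∧ x ∈ Subgroup.normalizer (N : Set H) ∧
      ∀ n ∈ N, x * n * x⁻¹ * n⁻¹ ∈ M := Iff.rfl

/-- the elements of `N` on which `D` acts trivially modulo `M` -/
def modCent (D M N : Subgroup H) (hN : N ≤ Subgroup.normalizer (M : Set H)) : Subgroup H where
  carrier := {n | n ∈ N ∧ ∀ d ∈ D, d * n * d⁻¹ * n⁻¹ ∈ M}
  one_mem' := by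
    refine ⟨Subgroup.one_mem _, fun d _ => ?_⟩
    have : d * 1 * d⁻¹ * (1 : H)⁻¹ = 1 := by group
    rw [this]; exact Subgroup.one_mem _
  mul_mem' := by
    rintro n n' ⟨hn, h1⟩ ⟨hn', h2⟩
    refine ⟨N.mul_mem hn hn', fun d hd => ?_⟩
    have h3 : d * (n * n') * d⁻¹ * (n * n')⁻¹ =
        (d * n * d⁻¹ * n⁻¹) * (n * (d * n' * d⁻¹ * n'⁻¹) * n⁻¹) := by group
    rw [h3]
    exact M.mul_mem (h1 d hd) ((Subgroup.mem_normalizer_iff.mp (hN hn) _).mp (h2 d hd))
  inv_mem' := by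
    rintro n ⟨hn, h1⟩
    refine ⟨N.inv_mem hn, fun d hd => ?_⟩
    have h3 : d * n⁻¹ * d⁻¹ * n⁻¹⁻¹ = n⁻¹ * (d * n * d⁻¹ * n⁻¹)⁻¹ * n⁻¹⁻¹ := by group
    rw [h3]
    exact (Subgroup.mem_normalizer_iff.mp (hN (N.inv_mem hn)) _).mp (M.inv_mem (h1 d hd))

theorem centralizer_zpowers_eq (a : H) :
    Subgroup.centralizer ((Subgroup.zpowers a : Subgroup H) : Set H) =
      Subgroup.centralizer ({a} : Set H) := by
  apply le_antisymm
  · exact Subgroup.centralizer_le (by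
      intro x hx
      rw [Set.mem_singleton_iff] at hx
      rw [hx]; exact Subgroup.mem_zpowers a)
  · intro g hg
    rw [Subgroup.mem_centralizer_singleton_iff] at hg
    rw [Subgroup.mem_centralizer_iff]
    intro y hy
    rw [SetLike.mem_coe] at hy
    obtain ⟨k, rfl⟩ := hy
    have : Commute g a := hg
    exact (this.zpow_right k).eq.symm

/-- if `N = C_N(D) M` then `D` acts trivially on `N / M` -/
theorem le_sectCent_of_sup_eq {D M N : Subgroup H} (hDM : D ≤ Subgroup.normalizer (M : Set H))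
    (hDN : D ≤ Subgroup.normalizer (N : Set H)) (hNM : N ≤ Subgroup.normalizer (M : Set H))
    (hMN : M ≤ N) (h : N ≤ (N ⊓ Subgroup.centralizer (D : Set H)) ⊔ M) : D ≤ sectCent M N := by
  have hle : (N ⊓ Subgroup.centralizer (D : Set H)) ⊔ M ≤ modCent D M N hNM := by
    apply sup_le
    · rintro c ⟨hcN, hcD⟩
      refine ⟨hcN, fun d hd => ?_⟩
      have h1 : d * c = c * d := (Subgroup.mem_centralizer_iff.mp hcD d hd)
      have h2 : d * c * d⁻¹ * c⁻¹ = 1 := by rw [h1]; group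
      rw [h2]; exact Subgroup.one_mem _
    · intro m hm
      refine ⟨hMN hm, fun d hd => ?_⟩
      exact M.mul_mem ((Subgroup.mem_normalizer_iff.mp (hDM hd) m).mp hm) (M.inv_mem hm)
  intro d hd
  refine ⟨hDM hd, hDN hd, fun n hn => ?_⟩
  exact (hle (h hn)).2 d hd

end

section
variable {H : Type*} [Group H] [Finite H]

/-- if `D` acts trivially on `N / M` (coprime action) then `N = C_N(D) M` -/
theorem le_sup_of_le_sectCent {D M N : Subgroup H} (hcop : (Nat.card D).Coprime (Nat.card N))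
    (hsolv : Group.IsSolvable D) (hMN : M ≤ N) (h : D ≤ sectCent M N)
    (hNM : N ≤ Subgroup.normalizer (M : Set H)) :
    N ≤ (N ⊓ Subgroup.centralizer (D : Set H)) ⊔ M := by
  intro k hk
  obtain ⟨c, hc, hkc⟩ := coprime_fixed_coset D N (fun d hd => (h hd).2.1) hcop (Or.inl hsolv) M hMN hNM
    (fun d hd => (h hd).1) k hk (fun d hd => (h hd).2.2 k hk)
  have h1 : k = c * (k⁻¹ * c)⁻¹ := by group
  rw [h1]
  exact Subgroup.mul_mem _ (Subgroup.mem_sup_left hc) (Subgroup.mem_sup_right (M.inv_mem hkc))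

end

end Cfsg.Agent.Lib.Helper3.BW
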