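import Mathlib
import Cfsg.Agent.Lib.Helper3.BW1
import Cfsg.Agent.Lib.Helper3.Gen2
import Cfsg.Prelude.Def_Transfer

set_option autoImplicit false

namespace Cfsg.Agent.Lib.Helper3.BW

open Cfsg.Agent.Lib.Lead Cfsg.Agent.Lib.Helper3.Gen

section
variable {H : Type*} [Group H]

theorem mem_normalizer_sup {X Y : Subgroup H} {g : H} (hX : g ∈ Subgroup.normalizer (X : Set H))
    (hY : g ∈ Subgroup.normalizer (Y : Set H)) : g ∈ Subgroup.normalizer ((X ⊔ Y : Subgroup H) : Set H) := by
  rw [mem_normalizer_iff_conj_smul] at hX hY ⊢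
  rw [Subgroup.smul_sup, hX, hY]

theorem comm_of_ea {p : ℕ} {E : Subgroup H} (hE : Cfsg.IsElementaryAbelian p E)
    {a b : H} (ha : a ∈ E) (hb : b ∈ E) : a * b = b * a := by
  have h1 := hE.1.is_comm.comm (⟨a, ha⟩ : E) ⟨b, hb⟩
  exact congrArg Subtype.val h1

theorem le_centralizer_of_ea {p : ℕ} {E D : Subgroup H} (hE : Cfsg.IsElementaryAbelian p E)
    (hD : D ≤ E) : E ≤ Subgroup.centralizer (D : Set H) := by
  intro e he
  rw [Subgroup.mem_centralizer_iff]
  intro d hd
  exact comm_of_ea hE (hD hd) he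

theorem isSolvable_of_le_ea {p : ℕ} {E D : Subgroup H} (hE : Cfsg.IsElementaryAbelian p E)
    (hD : D ≤ E) : Group.IsSolvable D := by
  apply Group.isSolvable_of_comm
  intro a b
  apply Subtype.ext
  exact comm_of_ea hE (hD a.2) (hD b.2)

end

section
variable {H : Type*} [Group H] [Finite H] {p : ℕ} [hp : Fact p.Prime]

omit [Finite H] in
theorem coprime_of_le_ea {E D N : Subgroup H} (hEcard : Nat.card E = p ^ 2) (hD : D ≤ E)
    (hN : ¬ p ∣ Nat.card N) : (Nat.card D).Coprime (Nat.card N) := by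
  have h1 : (p ^ 2).Coprime (Nat.card N) :=
    Nat.Coprime.pow_left 2 ((Nat.Prime.coprime_iff_not_dvd hp.out).mpr hN)
  rw [← hEcard] at h1
  exact Nat.Coprime.coprime_dvd_left (Subgroup.card_dvd_of_le hD) h1

/-- the hypotheses on an irreducible section `N / M` -/
structure IrrSection (p : ℕ) (E M N : Subgroup H) : Prop where
  le : M ≤ N
  ne : M ≠ N
  normal : N ≤ Subgroup.normalizer (M : Set H)
  invM : E ≤ Subgroup.normalizer (M : Set H)
  invN : E ≤ Subgroup.normalizer (N : Set H)
  cop : ¬ p ∣ Nat.card N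
  irr : ∀ L : Subgroup H, M ≤ L → L ≤ N → E ≤ Subgroup.normalizer (L : Set H) → L = M ∨ L = N

variable {E M N : Subgroup H}

omit [Finite H] hp in
theorem IrrSection.inv_sup (hE : Cfsg.IsElementaryAbelian p E) (h : IrrSection p E M N)
    {D : Subgroup H} (hD : D ≤ E) :
    E ≤ Subgroup.normalizer (((N ⊓ Subgroup.centralizer (D : Set H)) ⊔ M : Subgroup H) : Set H) := by
  intro e he
  apply mem_normalizer_sup _ (h.invM he)
  apply Subgroup.inf_normalizer_le_normalizer_inf
  exact ⟨h.invN he, Subgroup.le_normalizer (le_centralizer_of_ea hE hD he)⟩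

/-- if `D` acts trivially on the section, the centraliser counts are proportional -/
theorem IrrSection.card_of_le (hE : Cfsg.IsElementaryAbelian p E) (hEcard : Nat.card E = p ^ 2)
    (h : IrrSection p E M N) {D : Subgroup H} (hD : D ≤ E) (hDT : D ≤ sectCent M N) :
    Nat.card ↥(N ⊓ Subgroup.centralizer (D : Set H)) * Nat.card M =
      Nat.card N * Nat.card ↥(M ⊓ Subgroup.centralizer (D : Set H)) := by
  have h1 := le_sup_of_le_sectCent (coprime_of_le_ea hEcard hD h.cop) (isSolvable_of_le_ea hE hD)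
    h.le hDT h.normal
  have h2 : (N ⊓ Subgroup.centralizer (D : Set H)) ⊔ M = N :=
    le_antisymm (sup_le inf_le_left h.le) h1
  have h3 := card_sup_mul_card_inf (N ⊓ Subgroup.centralizer (D : Set H)) M
    (inf_le_left.trans h.normal)
  have h4 : (N ⊓ Subgroup.centralizer (D : Set H)) ⊓ M = M ⊓ Subgroup.centralizer (D : Set H) := by
    rw [inf_right_comm, inf_eq_right.mpr h.le]
  rw [h2, h4] at h3
  exact h3.symm

omit [Finite H] hp in
/-- otherwise the centraliser counts agree -/
theorem IrrSection.card_of_not_le (hE : Cfsg.IsElementaryAbelian p E)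
    (h : IrrSection p E M N) {D : Subgroup H} (hD : D ≤ E) (hDT : ¬ D ≤ sectCent M N) :
    N ⊓ Subgroup.centralizer (D : Set H) = M ⊓ Subgroup.centralizer (D : Set H) := by
  have h1 : (N ⊓ Subgroup.centralizer (D : Set H)) ⊔ M ≠ N := by
    intro heq
    apply hDT
    exact le_sectCent_of_sup_eq (hD.trans h.invM) (hD.trans h.invN) h.normal h.le heq.ge
  have h2 : (N ⊓ Subgroup.centralizer (D : Set H)) ⊔ M = M := by
    rcases h.irr _ le_sup_right (sup_le inf_le_left h.le) (h.inv_sup hE hD) with h3 | h3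
    · exact h3
    · exact absurd h3 h1
  have h3 : N ⊓ Subgroup.centralizer (D : Set H) ≤ M := by
    rw [← h2]; exact le_sup_left
  apply le_antisymm
  · exact le_inf h3 inf_le_right
  · exact inf_le_inf_right _ h.le

/-- some non-identity element of `E` acts trivially on the section -/
theorem IrrSection.exists_mem (hE : Cfsg.IsElementaryAbelian p E) (hEcard : Nat.card E = p ^ 2)
    (h : IrrSection p E M N) : ∃ a ∈ E, a ≠ 1 ∧ a ∈ sectCent M N := by
  by_contra hcon
  push Not at hcon
  apply h.ne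
  apply le_antisymm h.le
  have h1 := le_fixJoin hE hEcard (Nat.card N) N le_rfl h.cop h.invN
  refine h1.trans ?_
  unfold fixJoin
  apply iSup_le
  rintro ⟨d, hdE, hd1⟩
  have hD : Subgroup.zpowers d ≤ E := by rw [Subgroup.zpowers_le]; exact hdE
  have hDT : ¬ Subgroup.zpowers d ≤ sectCent M N := by
    rw [Subgroup.zpowers_le]; exact hcon d hdE hd1
  have h2 := h.card_of_not_le hE hD hDT
  rw [centralizer_zpowers_eq] at h2
  show N ⊓ Subgroup.centralizer {d} ≤ M
  rw [h2]; exact inf_le_left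


/-- the product of the orders of the centralisers in `X` of the elements of `E` -/
noncomputable def fE (E X : Subgroup H) : ℕ :=
  ∏ a ∈ elems E, Nat.card ↥(X ⊓ Subgroup.centralizer ({a} : Set H))

/-- the right-hand side of the Brauer–Wielandt formula -/
noncomputable def gE (p : ℕ) (E X : Subgroup H) : ℕ :=
  Nat.card X ^ p * Nat.card ↥(X ⊓ Subgroup.centralizer (E : Set H)) ^ (p ^ 2 - p)

omit hp in
theorem gE_pos (E X : Subgroup H) : 0 < gE p E X := by
  unfold gE
  exact Nat.mul_pos (pow_pos Nat.card_pos _) (pow_pos Nat.card_pos _)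

open Classical in
omit hp in
theorem prod_ite_mem (E T : Subgroup H) (x : ℕ) :
    ∏ a ∈ elems E, (if a ∈ T then x else 1) = x ^ Nat.card ↥(E ⊓ T) := by
  rw [Finset.prod_ite, Finset.prod_const_one, mul_one, Finset.prod_const, ← card_elems (E ⊓ T)]
  congr 2
  ext a
  simp [mem_elems]

/-- the key proportionality for an irreducible section -/
theorem IrrSection.fE_mul_gE (hE : Cfsg.IsElementaryAbelian p E) (hEcard : Nat.card E = p ^ 2)
    (h : IrrSection p E M N) : fE E N * gE p E M = gE p E N * fE E M := by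
  classical
  set T := sectCent M N with hT
  have hp1 := hp.out.one_lt
  -- the pointwise relation
  have hpt : ∀ a ∈ elems E, Nat.card ↥(N ⊓ Subgroup.centralizer ({a} : Set H)) *
      (if a ∈ T then Nat.card M else 1) =
      (if a ∈ T then Nat.card N else 1) * Nat.card ↥(M ⊓ Subgroup.centralizer ({a} : Set H)) := by
    intro a ha
    rw [mem_elems] at ha
    have hD : Subgroup.zpowers a ≤ E := by rw [Subgroup.zpowers_le]; exact ha
    by_cases haT : a ∈ T
    · rw [if_pos haT, if_pos haT]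
      have := h.card_of_le hE hEcard hD (by rw [Subgroup.zpowers_le]; exact haT)
      rw [centralizer_zpowers_eq] at this
      exact this
    · rw [if_neg haT, if_neg haT, mul_one, one_mul]
      have := h.card_of_not_le hE hD (by rw [Subgroup.zpowers_le]; exact haT)
      rw [centralizer_zpowers_eq] at this
      rw [this]
  have hprod : fE E N * Nat.card M ^ Nat.card ↥(E ⊓ T) =
      Nat.card N ^ Nat.card ↥(E ⊓ T) * fE E M := by
    unfold fE
    rw [← prod_ite_mem E T (Nat.card M), ← prod_ite_mem E T (Nat.card N), ← Finset.prod_mul_distrib,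
      ← Finset.prod_mul_distrib]
    exact Finset.prod_congr rfl hpt
  set q := p ^ 2 - p with hq
  have hpq : p + q = p ^ 2 := by
    have : p ≤ p ^ 2 := by rw [sq]; nlinarith
    omega
  set s₁ := Nat.card M with hs₁
  set s₂ := Nat.card N with hs₂
  set cM := Nat.card ↥(M ⊓ Subgroup.centralizer (E : Set H)) with hcM
  set cN := Nat.card ↥(N ⊓ Subgroup.centralizer (E : Set H)) with hcN
  have hs₁pos : 0 < s₁ := Nat.card_pos
  show fE E N * (s₁ ^ p * cM ^ q) = (s₂ ^ p * cN ^ q) * fE E M
  by_cases hET : E ≤ T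
  · have hk : Nat.card ↥(E ⊓ T) = p ^ 2 := by rw [inf_eq_left.mpr hET, hEcard]
    rw [hk, ← hpq, pow_add, pow_add] at hprod
    have h2 : cN * s₁ = s₂ * cM := h.card_of_le hE hEcard le_rfl hET
    apply Nat.eq_of_mul_eq_mul_right (pow_pos hs₁pos q)
    calc fE E N * (s₁ ^ p * cM ^ q) * s₁ ^ q = (fE E N * (s₁ ^ p * s₁ ^ q)) * cM ^ q := by ring
      _ = (s₂ ^ p * s₂ ^ q * fE E M) * cM ^ q := by rw [hprod]
      _ = s₂ ^ p * fE E M * (s₂ * cM) ^ q := by ring
      _ = s₂ ^ p * fE E M * (cN * s₁) ^ q := by rw [h2]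
      _ = s₂ ^ p * cN ^ q * fE E M * s₁ ^ q := by ring
  · have hcNM : cN = cM := by
      rw [hcN, hcM, h.card_of_not_le hE le_rfl hET]
    have hk : Nat.card ↥(E ⊓ T) = p := by
      have hdvd : Nat.card ↥(E ⊓ T) ∣ p ^ 2 := by
        rw [← hEcard]; exact Subgroup.card_dvd_of_le inf_le_left
      obtain ⟨j, hj2, hj⟩ := (Nat.dvd_prime_pow hp.out).mp hdvd
      have hj0 : j ≠ 0 := by
        rintro rfl
        rw [pow_zero] at hj
        obtain ⟨a, haE, ha1, haT⟩ := h.exists_mem hE hEcard
        have h3 : E ⊓ T = ⊥ := Subgroup.card_eq_one.mp hj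
        have h4 : a ∈ E ⊓ T := ⟨haE, haT⟩
        rw [h3, Subgroup.mem_bot] at h4
        exact ha1 h4
      have hj2' : j ≠ 2 := by
        rintro rfl
        apply hET
        have h3 : E ⊓ T = E := Subgroup.eq_of_le_of_card_ge inf_le_left (by rw [hj, hEcard])
        exact inf_eq_left.mp h3
      have hj1 : j = 1 := by omega
      rw [hj, hj1, pow_one]
    rw [hk] at hprod
    rw [hcNM]
    calc fE E N * (s₁ ^ p * cM ^ q) = (fE E N * s₁ ^ p) * cM ^ q := by ring
      _ = (s₂ ^ p * fE E M) * cM ^ q := by rw [hprod]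
      _ = s₂ ^ p * cM ^ q * fE E M := by ring

end

end Cfsg.Agent.Lib.Helper3.BW
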