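import Mathlib
import Cfsg.Agent.Lib.Helper3.BW2
import Cfsg.Agent.Lib.Lead.CoprimeSylow5

set_option autoImplicit false

namespace Cfsg.Agent.Lib.Helper3.BW

open Cfsg.Agent.Lib.Lead Cfsg.Agent.Lib.Helper3.Gen
open scoped Pointwise

universe u

section
variable {H : Type u} [Group H] [Finite H]

/-- **Fixed points of an invariant Sylow subgroup**: if `D` acts coprimely on `K` and `R` is a
`D`-invariant Sylow `r`-subgroup of `K`, then `C_R(D)` is a Sylow `r`-subgroup of `C_K(D)`. -/
theorem card_sylow_inf_centralizer (D K : Subgroup H) (hDK : D ≤ Subgroup.normalizer (K : Set H))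
    (hcop : (Nat.card D).Coprime (Nat.card K)) (hsolv : Group.IsSolvable D)
    (r : ℕ) [hr : Fact r.Prime] (R : Subgroup H) (hRK : R ≤ K)
    (hRcard : Nat.card R = r ^ (Nat.card K).factorization r)
    (hDR : D ≤ Subgroup.normalizer (R : Set H)) :
    Nat.card ↥(R ⊓ Subgroup.centralizer (D : Set H)) =
      r ^ (Nat.card ↥(K ⊓ Subgroup.centralizer (D : Set H))).factorization r := by
  classical
  set C := K ⊓ Subgroup.centralizer (D : Set H) with hC
  obtain ⟨S₀⟩ : Nonempty (Sylow r C) := inferInstance
  obtain ⟨hScard, -, -⟩ := sylow_card_facts C r S₀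
  set S := (S₀ : Subgroup C).map C.subtype with hS
  have hSC : S ≤ C := Subgroup.map_subtype_le _
  have hSK : S ≤ K := hSC.trans inf_le_left
  have hSD : S ≤ Subgroup.centralizer (D : Set H) := hSC.trans inf_le_right
  have hSr : IsPGroup r S := IsPGroup.of_card hScard
  have hDS : D ≤ Subgroup.normalizer (S : Set H) :=
    (Subgroup.le_centralizer_iff.mp hSD).trans (Subgroup.centralizer_le_normalizer _)
  obtain ⟨P, hPK, hSP, hPcard, hDP⟩ :=
    coprime_invariant_pgroup_le_sylow_aux D K hDK hcop (Or.inl hsolv) r _ S hSK hSr hDS rfl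
  have hKfac : Nat.card K = r ^ (Nat.card K).factorization r *
      (Nat.card K / r ^ (Nat.card K).factorization r) :=
    (Nat.ordProj_mul_ordCompl_eq_self (Nat.card K) r).symm
  have hKnd : ¬ r ∣ (Nat.card K / r ^ (Nat.card K).factorization r) :=
    Nat.not_dvd_ordCompl hr.out Nat.card_pos.ne'
  obtain ⟨c, ⟨hcK, hcD⟩, hc⟩ := coprime_invariant_sylow_conj_aux D K hDK hcop (Or.inl hsolv) r _ _
    P R hPK hRK hPcard hRcard hKfac hKnd hDP hDR
  have h1 : MulAut.conj c • S ≤ R ⊓ Subgroup.centralizer (D : Set H) := by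
    apply le_inf
    · rw [← hc]
      exact Subgroup.pointwise_smul_le_pointwise_smul_iff.mpr hSP
    · rintro _ ⟨s, hs, rfl⟩
      simp only [MulDistribMulAction.toMonoidEnd_apply, MulDistribMulAction.toMonoidHom_apply,
        MulAut.smul_def, MulAut.conj_apply]
      exact Subgroup.mul_mem _ (Subgroup.mul_mem _ hcD (hSD hs)) (Subgroup.inv_mem _ hcD)
  have h2 : r ^ (Nat.card C).factorization r ≤ Nat.card ↥(R ⊓ Subgroup.centralizer (D : Set H)) := by
    rw [← hScard, ← card_conj_smul c S]
    exact Subgroup.card_le_of_le h1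
  have hRr : IsPGroup r R := IsPGroup.of_card hRcard
  obtain ⟨j, hj⟩ := IsPGroup.iff_card.mp (hRr.to_le (inf_le_left : R ⊓ Subgroup.centralizer (D : Set H) ≤ R))
  have h3 : r ^ j ∣ Nat.card C := by
    rw [← hj]
    exact Subgroup.card_dvd_of_le (inf_le_inf_right _ hRK)
  have h4 : j ≤ (Nat.card C).factorization r :=
    (Nat.Prime.pow_dvd_iff_le_factorization hr.out Nat.card_pos.ne').mp h3
  apply le_antisymm
  · rw [hj]; exact Nat.pow_le_pow_right hr.out.pos h4
  · exact h2


variable {p : ℕ} [hp : Fact p.Prime] {E : Subgroup H}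

theorem fE_bot (E : Subgroup H) : fE E ⊥ = 1 := by
  unfold fE
  apply Finset.prod_eq_one
  intro a _
  rw [bot_inf_eq, Subgroup.card_bot]

omit [Finite H] hp in
theorem gE_bot (E : Subgroup H) : gE p E ⊥ = 1 := by
  unfold gE
  rw [bot_inf_eq, Subgroup.card_bot, one_pow, one_pow, mul_one]

/-- the Brauer–Wielandt formula for invariant subgroups of prime power order -/
theorem bw_pgroup (hE : Cfsg.IsElementaryAbelian p E) (hEcard : Nat.card E = p ^ 2)
    (r : ℕ) [hr : Fact r.Prime] :
    ∀ n : ℕ, ∀ N : Subgroup H, Nat.card N ≤ n → IsPGroup r N →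
      E ≤ Subgroup.normalizer (N : Set H) → ¬ p ∣ Nat.card N → fE E N = gE p E N := by
  intro n
  induction n with
  | zero =>
    intro N hN
    have : 0 < Nat.card N := Nat.card_pos
    omega
  | succ n ih =>
    intro N hNcard hNr hEN hNp
    by_cases hN1 : N = ⊥
    · rw [hN1, fE_bot, gE_bot]
    -- a maximal invariant proper subgroup
    let 𝒮 := {M : Subgroup H // M < N ∧ E ≤ Subgroup.normalizer (M : Set H)}
    have hne : Nonempty 𝒮 := ⟨⟨⊥, bot_lt_iff_ne_bot.mpr hN1, by
      intro e _
      rw [mem_normalizer_iff_conj_smul, Subgroup.smul_bot]⟩⟩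
    obtain ⟨⟨M, hMN, hEM⟩, hmax⟩ := Finite.exists_max (fun M : 𝒮 => Nat.card M.1)
    have hirr : ∀ L : Subgroup H, M ≤ L → L ≤ N → E ≤ Subgroup.normalizer (L : Set H) →
        L = M ∨ L = N := by
      intro L hML hLN hEL
      by_cases hLN' : L = N
      · exact Or.inr hLN'
      · left
        have h1 := hmax ⟨L, lt_of_le_of_ne hLN hLN', hEL⟩
        exact (Subgroup.eq_of_le_of_card_ge hML h1).symm
    have hnormal : N ≤ Subgroup.normalizer (M : Set H) := by
      have h1 := pgroup_normalizer_grows r N M hNr hMN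
      have h2 : E ≤ Subgroup.normalizer ((N ⊓ Subgroup.normalizer (M : Set H) : Subgroup H) : Set H) := by
        intro e he
        apply Subgroup.inf_normalizer_le_normalizer_inf
        exact ⟨hEN he, Subgroup.le_normalizer (hEM he)⟩
      rcases hirr _ h1.le inf_le_left h2 with h3 | h3
      · exact absurd h3 h1.ne'
      · exact inf_eq_left.mp h3
    have hsec : IrrSection p E M N :=
      ⟨hMN.le, hMN.ne, hnormal, hEM, hEN, hNp, hirr⟩
    have hMcard : Nat.card M ≤ n := by
      have h1 : Nat.card M < Nat.card N := by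
        rcases lt_or_eq_of_le (Subgroup.card_le_of_le hMN.le) with h | h
        · exact h
        · exact absurd (Subgroup.eq_of_le_of_card_ge hMN.le h.ge) hMN.ne
      omega
    have hIH := ih M hMcard (hNr.to_le hMN.le) hEM
      (fun h => hNp (h.trans (Subgroup.card_dvd_of_le hMN.le)))
    have h1 := hsec.fE_mul_gE hE hEcard
    rw [hIH] at h1
    exact Nat.eq_of_mul_eq_mul_right (gE_pos (p := p) E M) h1


theorem factorization_prime_pow_self (r k : ℕ) (hr : r.Prime) : (r ^ k).factorization r = k := by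
  rw [Nat.Prime.factorization_pow hr, Finsupp.single_eq_same]

/-- **The Brauer–Wielandt formula** for an elementary abelian group `E` of order `p ^ 2` acting on a
`p'`-group `K`, in the elementwise form
`∏_{a ∈ E} |C_K(a)| = |K| ^ p * |C_K(E)| ^ (p ^ 2 - p)`. -/
theorem bw (hE : Cfsg.IsElementaryAbelian p E) (hEcard : Nat.card E = p ^ 2) (K : Subgroup H)
    (hEK : E ≤ Subgroup.normalizer (K : Set H)) (hKp : ¬ p ∣ Nat.card K) :
    fE E K = gE p E K := by
  classical
  have hfpos : fE E K ≠ 0 := (Finset.prod_pos fun a _ => Nat.card_pos).ne'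
  have hgpos : gE p E K ≠ 0 := (gE_pos E K).ne'
  apply Nat.eq_of_factorization_eq hfpos hgpos
  intro r
  by_cases hr : r.Prime
  · have : Fact r.Prime := ⟨hr⟩
    have hcopE : (Nat.card E).Coprime (Nat.card K) := coprime_of_le_ea hEcard le_rfl hKp
    have hsolvE : Group.IsSolvable E := isSolvable_of_le_ea hE le_rfl
    obtain ⟨R₀, hR₀⟩ := coprime_invariant_sylow_exists E K hEK hcopE (Or.inl hsolvE) r
    obtain ⟨hRcard, -, -⟩ := sylow_card_facts K r R₀
    set R := (R₀ : Subgroup K).map K.subtype with hR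
    have hRK : R ≤ K := Subgroup.map_subtype_le _
    have hRr : IsPGroup r R := IsPGroup.of_card hRcard
    have hRp : ¬ p ∣ Nat.card R := fun h => hKp (h.trans (Subgroup.card_dvd_of_le hRK))
    have hbwR := bw_pgroup hE hEcard r (Nat.card R) R le_rfl hRr hR₀ hRp
    have hcnt : ∀ D : Subgroup H, D ≤ E → Nat.card ↥(R ⊓ Subgroup.centralizer (D : Set H)) =
        r ^ (Nat.card ↥(K ⊓ Subgroup.centralizer (D : Set H))).factorization r := fun D hD =>
      card_sylow_inf_centralizer D K (hD.trans hEK) (coprime_of_le_ea hEcard hD hKp)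
        (isSolvable_of_le_ea hE hD) r R hRK hRcard (hD.trans hR₀)
    have h1 : (fE E K).factorization r = (fE E R).factorization r := by
      unfold fE
      rw [Nat.factorization_prod (fun a _ => Nat.card_pos.ne'),
        Nat.factorization_prod (fun a _ => Nat.card_pos.ne'), Finsupp.finsetSum_apply,
        Finsupp.finsetSum_apply]
      apply Finset.sum_congr rfl
      intro a ha
      rw [mem_elems] at ha
      have := hcnt (Subgroup.zpowers a) (by rw [Subgroup.zpowers_le]; exact ha)
      rw [centralizer_zpowers_eq] at this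
      rw [this, factorization_prime_pow_self _ _ hr]
    have h2 : (gE p E K).factorization r = (gE p E R).factorization r := by
      unfold gE
      rw [Nat.factorization_mul (pow_ne_zero _ Nat.card_pos.ne') (pow_ne_zero _ Nat.card_pos.ne'),
        Nat.factorization_mul (pow_ne_zero _ Nat.card_pos.ne') (pow_ne_zero _ Nat.card_pos.ne'),
        Nat.factorization_pow, Nat.factorization_pow, Nat.factorization_pow, Nat.factorization_pow]
      simp only [Finsupp.add_apply, Finsupp.smul_apply, smul_eq_mul]
      rw [hcnt E le_rfl, hRcard, factorization_prime_pow_self _ _ hr,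
        factorization_prime_pow_self _ _ hr]
    rw [h1, h2, hbwR]
  · rw [Nat.factorization_eq_zero_of_not_prime _ hr, Nat.factorization_eq_zero_of_not_prime _ hr]

end

end Cfsg.Agent.Lib.Helper3.BW
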