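import Mathlib
import Cfsg.Agent.Lib.Helper3.BW3
import Cfsg.Agent.Lib.Helper3.Count

set_option autoImplicit false

namespace Cfsg.Agent.Lib.Helper3.BW

open Cfsg.Agent.Lib.Lead Cfsg.Agent.Lib.Helper3.Gen
open scoped Pointwise

section
variable {H : Type*} [Group H] [Finite H]

/-- the product formula `|ST| |S ∩ T| = |S| |T|` for the product set of two subgroups -/
theorem card_mul_set (S T : Subgroup H) :
    Nat.card ↥((S : Set H) * (T : Set H)) * Nat.card ↥(S ⊓ T) = Nat.card S * Nat.card T := by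
  classical
  let f : S × T → ↥((S : Set H) * (T : Set H)) :=
    fun x => ⟨x.1.1 * x.2.1, Set.mul_mem_mul x.1.2 x.2.2⟩
  have hprod : Nat.card (S × T) = Nat.card S * Nat.card T := Nat.card_prod _ _
  rw [← hprod, Cfsg.Agent.Lib.Helper3.card_eq_mul_of_fibres f (Nat.card ↥(S ⊓ T))]
  rintro ⟨y, hy⟩
  obtain ⟨s₀, hs₀, t₀, ht₀, hst⟩ := Set.mem_mul.mp hy
  apply Nat.card_congr
  refine
    { toFun := fun x => ⟨s₀⁻¹ * x.1.1.1, ?_⟩
      invFun := fun u => ⟨(⟨s₀ * u.1, S.mul_mem hs₀ u.2.1⟩, ⟨u.1⁻¹ * t₀, T.mul_mem (T.inv_mem u.2.2) ht₀⟩), ?_⟩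
      left_inv := ?_
      right_inv := ?_ }
  · have hx : x.1.1.1 * x.1.2.1 = y := congrArg Subtype.val x.2
    refine ⟨S.mul_mem (S.inv_mem hs₀) x.1.1.2, ?_⟩
    have h1 : s₀⁻¹ * x.1.1.1 = t₀ * (x.1.2.1)⁻¹ := by
      have h2 : x.1.1.1 * x.1.2.1 = s₀ * t₀ := by rw [hx, hst]
      calc s₀⁻¹ * x.1.1.1 = s₀⁻¹ * (x.1.1.1 * x.1.2.1) * (x.1.2.1)⁻¹ := by group
        _ = s₀⁻¹ * (s₀ * t₀) * (x.1.2.1)⁻¹ := by rw [h2]
        _ = t₀ * (x.1.2.1)⁻¹ := by group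
    rw [h1]
    exact T.mul_mem ht₀ (T.inv_mem x.1.2.2)
  · apply Subtype.ext
    show s₀ * u.1 * (u.1⁻¹ * t₀) = y
    rw [← hst]; group
  · rintro ⟨⟨⟨s, hs⟩, ⟨t, ht⟩⟩, hx⟩
    have hx' : s * t = y := congrArg Subtype.val hx
    apply Subtype.ext
    apply Prod.ext
    · apply Subtype.ext
      show s₀ * (s₀⁻¹ * s) = s
      group
    · apply Subtype.ext
      show (s₀⁻¹ * s)⁻¹ * t₀ = t
      have h2 : s * t = s₀ * t₀ := by rw [hx', hst]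
      calc (s₀⁻¹ * s)⁻¹ * t₀ = s⁻¹ * (s₀ * t₀) := by group
        _ = s⁻¹ * (s * t) := by rw [h2]
        _ = t := by group
  · rintro ⟨u, hu⟩
    apply Subtype.ext
    show s₀⁻¹ * (s₀ * u) = u
    group

end

end Cfsg.Agent.Lib.Helper3.BW
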