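import Mathlib
import Cfsg.Prelude.Def_ChevStructure
import Cfsg.Agent.Lib.Helper3.ChevM3
set_option autoImplicit false
set_option linter.unusedSectionVars false
set_option linter.unusedVariables false
set_option linter.unusedSimpArgs false
open Cfsg Cfsg.Lie

/-!
Vectors and matrices with entries zero and one over a field of characteristic two as bit masks: the root elements with
parameter one, products of them applied to vectors, and bounds for the rank of such a product minus one from lists
of vectors in echelon form.
-/

namespace Cfsg.Agent.Lib.Helper3.SLInv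

open Cfsg.Agent.Lib.Helper3.ChevM

section
variable (F : Type*) [Field F]

/-- the bit `k` of `v` as an element of the field -/
def bitF (v k : ℕ) : F := if v.testBit k then 1 else 0

theorem bitF_zero (k : ℕ) : bitF F 0 k = 0 := by simp [bitF]

/-- the bits of the odd entries of a column list, added to an accumulator -/
def bitsOf (l : List CEnt) (acc : ℕ) : ℕ :=
  l.foldl (fun (a : ℕ) (e : CEnt) => if e.coef % 2 = 0 then a else a ^^^ (1 <<< e.row)) acc

/-- the column `c` of the root element of `r` with parameter one modulo two -/
def colBits (D : ChevalleyDatum) (r c : ℕ) : ℕ := bitsOf (colList D r c) (1 <<< c)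

/-- the vector of a bit mask -/
def bvec (D : ChevalleyDatum) (v : ℕ) : D.Idx → F := fun j => bitF F v (code D j)

/-- a matrix of bit masks of columns applied to a bit mask -/
def applyB : List ℕ → ℕ → ℕ → ℕ
  | [], _, acc => acc
  | c :: cs, v, acc => applyB cs (v / 2) (if v % 2 = 1 then acc ^^^ c else acc)

/-- a product of matrices applied to a bit mask -/
def applyW : List (List ℕ) → ℕ → ℕ
  | [], v => v
  | t :: ts, v => applyB t (applyW ts v) 0

variable [CharP F 2]

theorem bitF_xor (v w k : ℕ) : bitF F (v ^^^ w) k = bitF F v k + bitF F w k := by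
  unfold bitF
  rw [Nat.testBit_xor]
  cases v.testBit k <;> cases w.testBit k <;> simp [CharTwo.add_self_eq_zero]

theorem intCast_char_two (n : ℤ) : (n : F) = if n % 2 = 0 then 0 else 1 := by
  have h2 : (2 : F) = 0 := by
    have := CharTwo.add_self_eq_zero (1 : F)
    rw [← this]; norm_num
  have h := Int.emod_add_mul_ediv n 2
  rcases Int.emod_two_eq_zero_or_one n with h0 | h1
  · rw [if_pos h0]
    rw [h0, zero_add] at h
    rw [← h]; push_cast; rw [h2, zero_mul]
  · rw [if_neg (by omega)]
    rw [h1] at h
    rw [← h]; push_cast; rw [h2, zero_mul, add_zero]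

theorem bitF_shift (r k : ℕ) : bitF F (1 <<< r) k = if r = k then 1 else 0 := by
  unfold bitF
  rw [Nat.one_shiftLeft, Nat.testBit_two_pow]
  by_cases h : r = k <;> simp [h]

theorem bitF_bitsOf (l : List CEnt) : ∀ (acc k : ℕ),
    bitF F (bitsOf l acc) k = bitF F acc k + colSum (1 : F) l k := by
  induction l with
  | nil => intro acc k; simp [bitsOf]
  | cons e l ih =>
    intro acc k
    have : bitsOf (e :: l) acc = bitsOf l (if e.coef % 2 = 0 then acc else acc ^^^ (1 <<< e.row)) := rfl
    rw [this, ih, colSum_cons, one_pow, mul_one, intCast_char_two F e.coef]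
    by_cases h : e.coef % 2 = 0
    · rw [if_pos h, if_pos h]; simp
    · rw [if_neg h, if_neg h, bitF_xor, bitF_shift]
      ring

theorem x_entry (D : ChevalleyDatum) (r : ℕ) (hr : r < D.nroots) (j col : D.Idx) :
    D.x F r 1 j col = bitF F (colBits D r (code D col)) (code D j) := by
  unfold ChevalleyDatum.x
  rw [dif_pos hr, xMat_entry, colBits, bitF_bitsOf, bitF_shift]
  congr 1
  by_cases h : j = col
  · rw [if_pos h, if_pos (by rw [h])]
  · rw [if_neg h, if_neg (fun e => h (code_injective D e).symm)]

theorem bitF_applyB (cols : List ℕ) : ∀ (v acc k : ℕ),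
    bitF F (applyB cols v acc) k = bitF F acc k +
      ((List.range cols.length).map fun c => if v.testBit c then bitF F (cols.getD c 0) k else 0).sum := by
  induction cols with
  | nil => intro v acc k; simp [applyB]
  | cons c cs ih =>
    intro v acc k
    rw [applyB, ih, List.length_cons, List.range_succ_eq_map, List.map_cons, List.sum_cons, List.map_map]
    have e1 : ((fun c_1 => if v.testBit c_1 = true then bitF F ((c :: cs).getD c_1 0) k else 0) ∘ Nat.succ) =
        fun c_1 => if (v / 2).testBit c_1 = true then bitF F (cs.getD c_1 0) k else 0 := by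
      funext i
      simp only [Function.comp, Nat.succ_eq_add_one, Nat.testBit_add_one, List.getD_cons_succ]
    rw [e1, ← add_assoc]
    congr 1
    rw [Nat.testBit_zero]
    by_cases h : v % 2 = 1
    · rw [if_pos h, bitF_xor]; simp [h]
    · rw [if_neg h]; simp [h]

theorem sum_finF_eq (n : ℕ) (f : ℕ → F) : ∑ i : Fin n, f i.val = ((List.range n).map f).sum := by
  induction n with
  | zero => simp
  | succ n ih =>
    rw [Fin.sum_univ_castSucc, List.range_succ, List.map_append, List.sum_append]
    simp only [Fin.val_castSucc, Fin.val_last, List.map_cons, List.map_nil, List.sum_cons, List.sum_nil, add_zero]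
    rw [ih]

theorem sum_idx_eq (D : ChevalleyDatum) (f : ℕ → F) :
    ∑ col : D.Idx, f (code D col) = ((List.range (D.rank + D.nroots)).map f).sum := by
  rw [Fintype.sum_sum_type, List.range_add, List.map_append, List.sum_append, List.map_map]
  congr 1
  · exact sum_finF_eq F D.rank f
  · exact sum_finF_eq F D.nroots (f ∘ fun x => D.rank + x)

/-- the table of the columns of the root element of `r` with parameter one -/
def tabOf (D : ChevalleyDatum) (r : ℕ) : List ℕ := (List.range (D.rank + D.nroots)).map (colBits D r)

/-- a matrix acts on the vectors of bit masks as a table of columns -/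
def ActsAs (D : ChevalleyDatum) (M : Matrix D.Idx D.Idx F) (tab : List ℕ) : Prop :=
  ∀ v : ℕ, M.mulVec (bvec F D v) = bvec F D (applyB tab v 0)

theorem bvec_xor (D : ChevalleyDatum) (v w : ℕ) : bvec F D (v ^^^ w) = bvec F D v + bvec F D w := by
  funext j
  exact bitF_xor F v w _

theorem actsAs_x (D : ChevalleyDatum) (r : ℕ) (hr : r < D.nroots) (tab : List ℕ) (htab : tab = tabOf D r) :
    ActsAs F D (D.x F r 1) tab := by
  intro v
  funext j
  rw [Matrix.mulVec, dotProduct]
  simp only [x_entry F D r hr, bvec]
  rw [sum_idx_eq F D (fun c => bitF F (colBits D r c) (code D j) * bitF F v c), bitF_applyB, bitF_zero, zero_add]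
  have hlen : tab.length = D.rank + D.nroots := by rw [htab, tabOf, List.length_map, List.length_range]
  rw [hlen]
  congr 1
  apply List.map_congr_left
  intro c hc
  have hc' : c < D.rank + D.nroots := List.mem_range.mp hc
  have hget : tab.getD c 0 = colBits D r c := by
    rw [List.getD_eq_getElem _ _ (by rw [hlen]; exact hc')]
    simp [htab, tabOf]
  rw [hget]
  unfold bitF
  by_cases h : v.testBit c = true
  · simp [h]
  · simp [h]

theorem actsAs_word (D : ChevalleyDatum) : ∀ (tabs : List (List ℕ)) (Ms : List (Matrix D.Idx D.Idx F)),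
    List.Forall₂ (fun t M => ActsAs F D M t) tabs Ms →
    ∀ v : ℕ, Ms.prod.mulVec (bvec F D v) = bvec F D (applyW tabs v) := by
  intro tabs Ms h
  induction h with
  | nil => intro v; simp [applyW]
  | cons h1 _ ih =>
    intro v
    rw [List.prod_cons, ← Matrix.mulVec_mulVec, ih, h1]
    rfl

/-- the mask of a list of positions -/
def maskOf : List ℕ → ℕ
  | [] => 0
  | p :: ps => maskOf ps ||| (1 <<< p)

theorem testBit_maskOf {q : ℕ} : ∀ {ps : List ℕ}, q ∈ ps → (maskOf ps).testBit q = true := by
  intro ps
  induction ps with
  | nil => intro h; simp at h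
  | cons p ps ih =>
    intro h
    rw [maskOf, Nat.testBit_or, Nat.one_shiftLeft, Nat.testBit_two_pow]
    rcases List.mem_cons.mp h with rfl | h
    · simp
    · simp [ih h]

/-- a strictly increasing list -/
def incr : List ℕ → Bool
  | [] => true
  | [_] => true
  | p :: q :: r => decide (p < q) && incr (q :: r)

theorem incr_spec : ∀ {ps : List ℕ}, incr ps = true → ps.Pairwise (· < ·) := by
  intro ps
  induction ps with
  | nil => intro _; exact List.Pairwise.nil
  | cons p ps ih =>
    intro h
    cases ps with
    | nil => exact List.pairwise_singleton _ _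
    | cons q r =>
      simp only [incr, Bool.and_eq_true, decide_eq_true_eq] at h
      have h2 := ih h.2
      refine List.pairwise_cons.mpr ⟨?_, h2⟩
      intro a ha
      rcases List.mem_cons.mp ha with rfl | ha
      · exact h.1
      · exact lt_trans h.1 ((List.pairwise_cons.mp h2).1 a ha)

/-- the pivot check along the lists of pivots and of masks: the part of `vs[i]` at the pivots is the bit `ps[i]` -/
def pivGo (P : ℕ) : List ℕ → List ℕ → Bool
  | [], [] => true
  | p :: ps, v :: vs => (v &&& P == 1 <<< p) && pivGo P ps vs
  | _, _ => false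

theorem pivGo_spec (P : ℕ) : ∀ (ps vs : List ℕ), pivGo P ps vs = true →
    ps.length = vs.length ∧ ∀ (i : ℕ) (hi : i < ps.length) (hi' : i < vs.length),
      vs[i] &&& P = 2 ^ ps[i] := by
  intro ps
  induction ps with
  | nil =>
    intro vs h
    cases vs with
    | nil => exact ⟨rfl, fun i hi => by simp at hi⟩
    | cons v vs => simp [pivGo] at h
  | cons p ps ih =>
    intro vs h
    cases vs with
    | nil => simp [pivGo] at h
    | cons v vs =>
      simp only [pivGo, Bool.and_eq_true, beq_iff_eq, Nat.one_shiftLeft] at h
      obtain ⟨h1, h3⟩ := h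
      obtain ⟨hl, hr⟩ := ih vs h3
      refine ⟨by simp [hl], ?_⟩
      intro i hi hi'
      cases i with
      | zero => exact h1
      | succ i => simpa using hr i (by simpa using hi) (by simpa using hi')

/-- the pivot check: the bit `ps[i]` of `vs[j]` is set exactly for `i = j`; the pivots increase -/
def pivCheck (N : ℕ) (vs ps : List ℕ) : Bool :=
  ps.all (fun p => decide (p < N)) && incr ps && pivGo (maskOf ps) ps vs

theorem indep_of_pivCheck (D : ChevalleyDatum) (vs ps : List ℕ)
    (h : pivCheck (D.rank + D.nroots) vs ps = true) :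
    LinearIndependent F (fun i : Fin vs.length => bvec F D (vs.get i)) := by
  simp only [pivCheck, Bool.and_eq_true, decide_eq_true_eq, List.all_eq_true] at h
  obtain ⟨⟨hlt, hincr⟩, hgo⟩ := h
  obtain ⟨hlen, hpiv⟩ := pivGo_spec _ ps vs hgo
  have hnd : ps.Nodup := (incr_spec hincr).imp (fun h => ne_of_lt h)
  rw [Fintype.linearIndependent_iff]
  intro g hg i
  have hi : i.val < ps.length := by rw [hlen]; exact i.isLt
  obtain ⟨j0, hj0⟩ := exists_code D ps[i.val] (hlt _ (List.getElem_mem hi))
  have e := congr_fun hg j0
  rw [Finset.sum_apply] at e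
  simp only [Pi.smul_apply, smul_eq_mul, Pi.zero_apply] at e
  have e2 : ∀ j : Fin vs.length, g j * bvec F D (vs.get j) j0 = if i = j then g i else 0 := by
    intro j
    have hj : j.val < ps.length := by rw [hlen]; exact j.isLt
    have h1 : (vs.get j).testBit ps[i.val] = decide (i = j) := by
      have h2 := hpiv j.val hj j.isLt
      have h3 : (vs[j.val] &&& maskOf ps).testBit ps[i.val] = vs[j.val].testBit ps[i.val] := by
        rw [Nat.testBit_and, testBit_maskOf (List.getElem_mem hi), Bool.and_true]
      rw [List.get_eq_getElem, ← h3, h2, Nat.testBit_two_pow]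
      by_cases hij : i = j
      · subst hij; simp
      · have : ¬ ps[j.val] = ps[i.val] := by
          intro e
          apply hij
          apply Fin.ext
          exact ((hnd.getElem_inj_iff).mp e).symm
        simp [hij, this]
    unfold bvec bitF
    rw [hj0, h1]
    by_cases hij : i = j
    · subst hij; simp
    · simp [hij]
  simp only [e2] at e
  simpa using e

theorem le_rank_of_indep {n : Type*} [Fintype n] [DecidableEq n] (A : Matrix n n F) {k : ℕ} (u : Fin k → n → F)
    (h : LinearIndependent F fun i => A.mulVec (u i)) : k ≤ A.rank := by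
  unfold Matrix.rank
  have h2 : LinearIndependent F (fun i : Fin k =>
      (⟨A.mulVecLin (u i), LinearMap.mem_range_self _ _⟩ : LinearMap.range A.mulVecLin)) := by
    apply LinearIndependent.of_comp (LinearMap.range A.mulVecLin).subtype
    exact h
  simpa using h2.fintype_card_le_finrank

theorem rank_add_le_of_indep {n : Type*} [Fintype n] [DecidableEq n] (A : Matrix n n F) {k : ℕ} (v : Fin k → n → F)
    (h : LinearIndependent F v) (h0 : ∀ i, A.mulVec (v i) = 0) : A.rank + k ≤ Fintype.card n := by
  unfold Matrix.rank
  have h2 : LinearIndependent F (fun i : Fin k =>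
      (⟨v i, by rw [LinearMap.mem_ker]; exact h0 i⟩ : LinearMap.ker A.mulVecLin)) := by
    apply LinearIndependent.of_comp (LinearMap.ker A.mulVecLin).subtype
    exact h
  have h3 : k ≤ Module.finrank F (LinearMap.ker A.mulVecLin) := by simpa using h2.fintype_card_le_finrank
  have h4 := LinearMap.finrank_range_add_finrank_ker A.mulVecLin
  rw [Module.finrank_fintype_fun_eq_card] at h4
  omega

/-- a value with a tag; the tag does not change the value, it only makes the terms of different values differ in
their low bits during the evaluation -/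
def tagV (v t : ℕ) : ℕ := v + t - t

theorem tagV_eq (v t : ℕ) : tagV v t = v := by unfold tagV; omega

/-- the check of the images minus the vectors -/
def imgCheck (tabs : List (List ℕ)) : List ℕ → List ℕ → List ℕ → Bool
  | [], [], [] => true
  | u :: us, b :: bs, p :: ps => (applyW tabs (tagV u p) ^^^ u == b) && imgCheck tabs us bs ps
  | _, _, _ => false

theorem imgCheck_spec (tabs : List (List ℕ)) : ∀ (us bs ps : List ℕ), imgCheck tabs us bs ps = true →
    bs = us.map fun u => applyW tabs u ^^^ u := by
  intro us
  induction us with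
  | nil =>
    intro bs ps h
    cases bs with
    | nil => rfl
    | cons b bs => cases ps <;> simp [imgCheck] at h
  | cons u us ih =>
    intro bs ps h
    cases bs with
    | nil => cases ps <;> simp [imgCheck] at h
    | cons b bs =>
      cases ps with
      | nil => simp [imgCheck] at h
      | cons p ps =>
        simp only [imgCheck, Bool.and_eq_true, beq_iff_eq, tagV_eq] at h
        rw [List.map_cons, ← ih bs ps h.2, h.1]

/-- the check of the fixed vectors -/
def fixCheck (tabs : List (List ℕ)) : List ℕ → List ℕ → Bool
  | [], [] => true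
  | v :: vs, p :: ps => (applyW tabs (tagV v p) == v) && fixCheck tabs vs ps
  | _, _ => false

theorem fixCheck_spec (tabs : List (List ℕ)) : ∀ (vs ps : List ℕ), fixCheck tabs vs ps = true →
    ∀ v ∈ vs, applyW tabs v = v := by
  intro vs
  induction vs with
  | nil => intro ps _ v hv; simp at hv
  | cons v vs ih =>
    intro ps h
    cases ps with
    | nil => simp [fixCheck] at h
    | cons p ps =>
      simp only [fixCheck, Bool.and_eq_true, beq_iff_eq, tagV_eq] at h
      intro w hw
      rcases List.mem_cons.mp hw with rfl | hw
      · exact h.1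
      · exact ih ps h.2 w hw

/-- the check of a lower bound for the rank -/
def lowerCheck (N : ℕ) (tabs : List (List ℕ)) (us bs ps : List ℕ) : Bool :=
  imgCheck tabs us bs ps && pivCheck N bs ps

/-- the check of an upper bound for the rank -/
def upperCheck (N : ℕ) (tabs : List (List ℕ)) (vs ps : List ℕ) : Bool :=
  fixCheck tabs vs ps && pivCheck N vs ps

theorem sub_one_mulVec (D : ChevalleyDatum) (M : Matrix D.Idx D.Idx F) (tabs : List (List ℕ))
    (hM : ∀ v : ℕ, M.mulVec (bvec F D v) = bvec F D (applyW tabs v)) (u : ℕ) :
    (M - 1).mulVec (bvec F D u) = bvec F D (applyW tabs u ^^^ u) := by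
  rw [Matrix.sub_mulVec, Matrix.one_mulVec, hM, bvec_xor]
  funext j
  simp only [Pi.sub_apply, Pi.add_apply]
  rw [CharTwo.sub_eq_add]

theorem rank_lower (D : ChevalleyDatum) (M : Matrix D.Idx D.Idx F) (tabs : List (List ℕ))
    (hM : ∀ v : ℕ, M.mulVec (bvec F D v) = bvec F D (applyW tabs v)) (us bs ps : List ℕ)
    (h : lowerCheck (D.rank + D.nroots) tabs us bs ps = true) : us.length ≤ (M - 1).rank := by
  simp only [lowerCheck, Bool.and_eq_true] at h
  obtain ⟨himg, h⟩ := h
  rw [imgCheck_spec tabs us bs ps himg] at h
  have hind := indep_of_pivCheck F D _ _ h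
  have hl : (us.map fun u => applyW tabs u ^^^ u).length = us.length := List.length_map _
  have := le_rank_of_indep F (M - 1)
    (fun i : Fin (us.map fun u => applyW tabs u ^^^ u).length => bvec F D (us.get (i.cast hl))) (by
      convert hind using 2 with i
      rw [sub_one_mulVec F D M tabs hM]
      simp)
  rwa [hl] at this

theorem rank_upper (D : ChevalleyDatum) (M : Matrix D.Idx D.Idx F) (tabs : List (List ℕ))
    (hM : ∀ v : ℕ, M.mulVec (bvec F D v) = bvec F D (applyW tabs v)) (vs ps : List ℕ)
    (h : upperCheck (D.rank + D.nroots) tabs vs ps = true) : (M - 1).rank + vs.length ≤ D.rank + D.nroots := by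
  simp only [upperCheck, Bool.and_eq_true] at h
  obtain ⟨hfix, hpiv⟩ := h
  have hfix := fixCheck_spec tabs vs ps hfix
  have hind := indep_of_pivCheck F D _ _ hpiv
  have := rank_add_le_of_indep F (M - 1) _ hind (by
    intro i
    rw [sub_one_mulVec F D M tabs hM, hfix _ (List.get_mem _ _), Nat.xor_self]
    funext j
    exact bitF_zero F _)
  simpa using this

end

end Cfsg.Agent.Lib.Helper3.SLInv
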