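import Mathlib
import Cfsg.Agent.Lib.Helper3.SLRank1
set_option autoImplicit false
set_option linter.unusedSectionVars false
open Cfsg Cfsg.Lie

/-!
Products of root elements with parameter one over a field of characteristic two, acting on bit masks:
evaluation in the kernel with forced arguments, equality of products and products that are not the identity.
-/

namespace Cfsg.Agent.Lib.Helper3.BitW

open Cfsg.Agent.Lib.Helper3.ChevM Cfsg.Agent.Lib.Helper3.SLInv

/-- evaluate the argument first -/
def forceN {α : Sort*} (n : ℕ) (f : ℕ → α) : α :=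
  match n with
  | 0 => f 0
  | k + 1 => f (k + 1)

theorem forceN_eq {α : Sort*} (n : ℕ) (f : ℕ → α) : forceN n f = f n := by
  cases n <;> rfl

/-- `applyB` with forced arguments -/
def applyBs : List ℕ → ℕ → ℕ → ℕ
  | [], _, acc => acc
  | c :: cs, v, acc =>
    forceN (v / 2) fun v' => forceN (if v % 2 = 1 then acc ^^^ c else acc) fun acc' => applyBs cs v' acc'

theorem applyBs_eq : ∀ (cs : List ℕ) (v acc : ℕ), applyBs cs v acc = applyB cs v acc
  | [], _, _ => rfl
  | c :: cs, v, acc => by
    unfold applyBs applyB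
    rw [forceN_eq, forceN_eq]
    exact applyBs_eq cs _ _

/-- `applyW` with forced arguments -/
def applyWs : List (List ℕ) → ℕ → ℕ
  | [], v => v
  | t :: ts, v => forceN (applyWs ts v) fun v' => applyBs t v' 0

theorem applyWs_eq : ∀ (ts : List (List ℕ)) (v : ℕ), applyWs ts v = applyW ts v
  | [], _ => rfl
  | t :: ts, v => by
    unfold applyWs applyW
    rw [forceN_eq, applyBs_eq, applyWs_eq ts v]

theorem applyW_append : ∀ (t t' : List (List ℕ)) (v : ℕ), applyW (t ++ t') v = applyW t (applyW t' v)
  | [], _, _ => rfl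
  | a :: t, t', v => by
    show applyB a (applyW (t ++ t') v) 0 = applyB a (applyW t (applyW t' v)) 0
    rw [applyW_append t t' v]

section
variable (F : Type*) [Field F] [CharP F 2] (D : ChevalleyDatum)

/-- a matrix acts on the vectors of bit masks as a word of tables -/
def HasTab (M : Matrix D.Idx D.Idx F) (tabs : List (List ℕ)) : Prop :=
  ∀ v : ℕ, M.mulVec (bvec F D v) = bvec F D (applyW tabs v)

theorem hasTab_one : HasTab F D 1 [] := by
  intro v
  rw [Matrix.one_mulVec]
  rfl

variable {F D}

theorem HasTab.mul {M M' : Matrix D.Idx D.Idx F} {t t' : List (List ℕ)} (h : HasTab F D M t)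
    (h' : HasTab F D M' t') : HasTab F D (M * M') (t ++ t') := by
  intro v
  rw [← Matrix.mulVec_mulVec, h' v, h, applyW_append]

variable (F D)

theorem hasTab_x (r : ℕ) (hr : r < D.nroots) (tab : List ℕ) (htab : tab = tabOf D r) :
    HasTab F D (D.x F r 1) [tab] := by
  intro v
  rw [actsAs_x F D r hr tab htab v]
  rfl

theorem mulVec_bvec_shift (M : Matrix D.Idx D.Idx F) (col j : D.Idx) :
    (M.mulVec (bvec F D (1 <<< code D col))) j = M j col := by
  rw [Matrix.mulVec, dotProduct]
  simp only [bvec, bitF_shift]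
  rw [Finset.sum_eq_single col]
  · simp
  · intro b _ hb
    have : code D col ≠ code D b := fun e => hb ((code_injective D e).symm)
    simp [this]
  · intro h
    exact absurd (Finset.mem_univ col) h

variable {F D}

theorem HasTab.eq_of_cols {M M' : Matrix D.Idx D.Idx F} {t t' : List (List ℕ)} (h : HasTab F D M t)
    (h' : HasTab F D M' t')
    (hc : ∀ c < D.rank + D.nroots, applyW t (1 <<< c) = applyW t' (1 <<< c)) : M = M' := by
  ext j col
  rw [← mulVec_bvec_shift F D M col j, ← mulVec_bvec_shift F D M' col j, h, h', hc _ (code_lt D col)]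

theorem HasTab.compress {M : Matrix D.Idx D.Idx F} {tabs : List (List ℕ)} (h : HasTab F D M tabs)
    (tab : List ℕ) (hlen : tab.length = D.rank + D.nroots)
    (hc : ∀ c < D.rank + D.nroots, tab.getD c 0 = applyW tabs (1 <<< c)) : HasTab F D M [tab] := by
  intro v
  funext j
  show (M.mulVec (bvec F D v)) j = bvec F D (applyB tab v 0) j
  have e1 : ∀ col : D.Idx, M j col = bitF F (applyW tabs (1 <<< code D col)) (code D j) := by
    intro col
    rw [← mulVec_bvec_shift F D M col j, h]
    rfl
  rw [Matrix.mulVec, dotProduct]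
  simp only [e1, bvec]
  rw [sum_idx_eq F D (fun c => bitF F (applyW tabs (1 <<< c)) (code D j) * bitF F v c), bitF_applyB, bitF_zero,
    zero_add, hlen]
  congr 1
  apply List.map_congr_left
  intro c hc'
  have hc'' : c < D.rank + D.nroots := List.mem_range.mp hc'
  rw [hc c hc'']
  unfold bitF
  by_cases hv : v.testBit c = true
  · simp [hv]
  · simp [hv]

theorem HasTab.ne_one {M : Matrix D.Idx D.Idx F} {tabs : List (List ℕ)} (h : HasTab F D M tabs) (v k : ℕ)
    (hk : k < D.rank + D.nroots) (hne : (applyW tabs v).testBit k ≠ v.testBit k) : M ≠ 1 := by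
  intro e
  subst e
  have h1 := h v
  rw [Matrix.one_mulVec] at h1
  obtain ⟨j0, hj0⟩ := exists_code D k hk
  have h2 := congr_fun h1 j0
  unfold bvec bitF at h2
  rw [hj0] at h2
  apply hne
  by_cases ha : (applyW tabs v).testBit k = true <;> by_cases hb : v.testBit k = true
  · rw [ha, hb]
  · simp [ha, hb] at h2
  · simp [ha, hb] at h2
  · simp only [Bool.not_eq_true] at ha hb
    rw [ha, hb]

theorem HasTab.ne_one_of_mod {M : Matrix D.Idx D.Idx F} {tabs : List (List ℕ)} (h : HasTab F D M tabs) (v : ℕ)
    (hne : applyW tabs v % 2 ^ (D.rank + D.nroots) ≠ v % 2 ^ (D.rank + D.nroots)) : M ≠ 1 := by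
  intro e
  apply hne
  apply Nat.eq_of_testBit_eq
  intro i
  rw [Nat.testBit_mod_two_pow, Nat.testBit_mod_two_pow]
  by_cases hi : i < D.rank + D.nroots
  · by_contra hcon
    have : (applyW tabs v).testBit i ≠ v.testBit i := by
      intro e2
      apply hcon
      rw [e2]
    exact h.ne_one v i hi this e
  · simp [hi]

end

end Cfsg.Agent.Lib.Helper3.BitW
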