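import Mathlib
import Cfsg.Prelude.Def_Blocks
import Cfsg.Agent.Lib.Helper8.BlockLocal
import Cfsg.Agent.Lib.Helper8.PIdem1
import Cfsg.Agent.Lib.Lead.BrandtDefs
import Cfsg.Agent.Lib.Lead.Brandt_B1

/-!
# S4607 (Brandt), package B5: lifting idempotents from `kG` to `OG`
(`notes/S4607_PROOF_lead.md`, Step 1, B5)
-/

set_option autoImplicit false

open Cfsg Cfsg.Agent.Lib.Helper8 Polynomial

namespace Cfsg.Agent.Lib.Lead.Brandt

/-- evaluating `X * q` at an idempotent -/
theorem aeval_X_mul_of_idem_B5 {k A : Type*} [CommRing k] [Ring A] [Algebra k A] {e : A}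
    (he : IsIdempotentElem e) (q : k[X]) : aeval e (X * q) = (q.eval 1) • e := by
  induction q using Polynomial.induction_on' with
  | add p q hp hq => rw [mul_add, map_add, hp, hq, eval_add, add_smul]
  | monomial n a =>
    rw [map_mul, aeval_X, aeval_monomial, eval_monomial, one_pow, mul_one]
    rw [← Algebra.smul_def, mul_smul_comm, ← pow_succ', he.pow_succ_eq]

/-- abstract core: an element annihilated by a product of linear factors gives an idempotent `g(a)`
with `X ∣ g` and `g(1) = 1` -/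
theorem exists_poly_idem_B5 {O : Type*} [CommRing O] (I : Ideal O) (hI : ∀ x : O, x ∉ I → IsUnit x)
    (h1I : (1 : O) ∉ I) {A : Type*} [Ring A] [Algebra O A] (a : A) (P : O[X])
    (S : Finset O) (d : ℕ) (hd : 1 ≤ d) (h0 : (0 : O) ∈ S) (h1 : (1 : O) ∈ S)
    (hP : P ∣ ∏ s ∈ S, (X - C s) ^ d) (hPa : aeval a P = 0) :
    ∃ g₁ : O[X], (X * g₁).eval 1 = 1 ∧ IsIdempotentElem (aeval a (X * g₁)) := by
  obtain ⟨g, ⟨g₁, hg₁⟩, hg1, hgdvd⟩ := PIdem.exists_poly I hI h1I S d hd h0 h1
  refine ⟨g₁, by rw [← hg₁]; exact hg1, ?_⟩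
  rw [← hg₁]
  obtain ⟨q, hq⟩ := hP.trans hgdvd
  have h2 : aeval a (g * g - g) = 0 := by
    rw [hq, map_mul, hPa, zero_mul]
  rw [map_sub, map_mul, sub_eq_zero] at h2
  exact h2

section B
variable {M : Ideal AlgInt} {G : Type*} [Group G] [Fintype G]

/-- a monic polynomial over the local ring splits into linear factors over the local ring -/
theorem monic_dvd_prod_B5 (hMp : M.IsPrime) (P : (↥(localRing M hMp))[X]) (hP : P.Monic) :
    ∃ S : Finset ↥(localRing M hMp), (0 : ↥(localRing M hMp)) ∈ S ∧ (1 : ↥(localRing M hMp)) ∈ S ∧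
      P ∣ ∏ s ∈ S, (X - C s) ^ (P.natDegree + 1) := by
  classical
  set φ : ↥(localRing M hMp) →+* ℂ := (localRing M hMp).subtype with hφ
  have hφinj : Function.Injective φ := Subtype.val_injective
  set χ : ℂ[X] := P.map φ with hχ
  have hχm : χ.Monic := hP.map φ
  have hχ0 : χ ≠ 0 := hχm.ne_zero
  set d := P.natDegree + 1 with hd
  have hdeg : χ.natDegree = P.natDegree := hP.natDegree_map φ
  have hcard : Multiset.card χ.roots ≤ d := (Polynomial.card_roots' χ).trans (by omega)
  have hrootO : ∀ μ ∈ χ.roots, MemLocalRing M μ := by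
    intro μ hμ
    apply memLocalRing_of_isIntegral_localRing hMp
    refine ⟨P, hP, ?_⟩
    have h1 : χ.eval μ = 0 := (mem_roots hχ0).1 hμ
    rw [hχ, eval_map] at h1
    exact h1
  set Sℂ : Finset ℂ := insert 0 (insert 1 χ.roots.toFinset) with hSℂ
  have hSO : ∀ μ ∈ Sℂ, μ ∈ localRing M hMp := by
    intro μ hμ
    rw [hSℂ, Finset.mem_insert, Finset.mem_insert] at hμ
    rcases hμ with rfl | rfl | hμ
    · exact memLocalRing_zero hMp.ne_top
    · exact memLocalRing_one hMp.ne_top
    · exact hrootO μ (Multiset.mem_toFinset.1 hμ)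
  set S : Finset (localRing M hMp) := Sℂ.subtype (· ∈ localRing M hMp) with hS
  have hSmap : S.map (Function.Embedding.subtype _) = Sℂ := Finset.subtype_map_of_mem hSO
  have h0S : (0 : localRing M hMp) ∈ S := by
    rw [hS, Finset.mem_subtype]
    simp [hSℂ]
  have h1S : (1 : localRing M hMp) ∈ S := by
    rw [hS, Finset.mem_subtype]
    simp [hSℂ]
  refine ⟨S, h0S, h1S, ?_⟩
  have hprod : (∏ a ∈ S, (X - C a) ^ d : (localRing M hMp)[X]).map φ = ∏ μ ∈ Sℂ, (X - C μ) ^ d := by
    rw [Polynomial.map_prod, ← hSmap, Finset.prod_map]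
    refine Finset.prod_congr rfl fun a _ => ?_
    simp [hφ]
  have hχdvd : χ ∣ ∏ μ ∈ Sℂ, (X - C μ) ^ d := by
    have h1 : χ = ∏ μ ∈ χ.roots.toFinset, (X - C μ) ^ (Multiset.count μ χ.roots) := by
      conv_lhs => rw [(IsAlgClosed.splits χ).eq_prod_roots_of_monic hχm]
      exact Finset.prod_multiset_map_count χ.roots (fun x => X - C x)
    have h2 : (∏ μ ∈ χ.roots.toFinset, (X - C μ) ^ (Multiset.count μ χ.roots))
        ∣ ∏ μ ∈ χ.roots.toFinset, (X - C μ) ^ d :=
      Finset.prod_dvd_prod_of_dvd _ _ fun μ _ =>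
        pow_dvd_pow _ ((Multiset.count_le_card μ χ.roots).trans hcard)
    have h3 : (∏ μ ∈ χ.roots.toFinset, (X - C μ) ^ d) ∣ ∏ μ ∈ Sℂ, (X - C μ) ^ d :=
      Finset.prod_dvd_prod_of_subset _ _ _
        ((Finset.subset_insert _ _).trans (Finset.subset_insert _ _))
    rw [← h1] at h2
    exact h2.trans h3
  rw [← hprod] at hχdvd
  exact (Polynomial.map_dvd_map φ hφinj hP).1 hχdvd

/-- B5: idempotents lift from `kG` to `OG` (below a given central idempotent `E`) -/
theorem exists_lift_idem {p : ℕ} (hM : IsPModular p M) {k : Type*} [Field k]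
    (res : ↥(localRing M (isPModular_isPrime hM)) →+* k)
    (hres : Function.Surjective res) (_hker : ∀ z, res z = 0 ↔ MemLocalIdeal M (z : ℂ))
    (E : MonoidAlgebra ↥(localRing M (isPModular_isPrime hM)) G)
    (hE : IsIdempotentElem E) (hEc : ∀ x, E * x = x * E)
    (e : MonoidAlgebra k G) (he : IsIdempotentElem e)
    (heE : e * MonoidAlgebra.mapRingHom G res E = e) :
    ∃ ê : MonoidAlgebra ↥(localRing M (isPModular_isPrime hM)) G,
      IsIdempotentElem ê ∧ MonoidAlgebra.mapRingHom G res ê = e ∧ ê * E = ê := by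
  classical
  have hMp := isPModular_isPrime hM
  -- a lift of `e`
  let s : k → ↥(localRing M hMp) := Function.surjInv hres
  have hs : ∀ c, res (s c) = c := Function.surjInv_eq hres
  let a₀ : MonoidAlgebra ↥(localRing M hMp) G :=
    MonoidAlgebra.ofCoeff (Finsupp.equivFunOnFinite.symm fun g => s (e.coeff g))
  have ha₀ : MonoidAlgebra.mapRingHom G res a₀ = e := by
    rw [← MonoidAlgebra.coeff_inj]
    ext g
    rw [MonoidAlgebra.coeff_mapRingHom]
    change res (s (e.coeff g)) = e.coeff g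
    exact hs _
  set a := a₀ * E with ha
  have hared : MonoidAlgebra.mapRingHom G res a = e := by
    rw [ha, map_mul, ha₀, heE]
  -- a monic annihilating polynomial
  obtain ⟨P, hPm, hPa⟩ := (Algebra.IsIntegral.isIntegral a : IsIntegral ↥(localRing M hMp) a)
  have hPa' : aeval a P = 0 := by rw [aeval_def]; exact hPa
  obtain ⟨S, h0S, h1S, hPdvd⟩ := monic_dvd_prod_B5 hMp P hPm
  have hI : ∀ x : localRing M hMp, x ∉ localIdeal M hMp → IsUnit x := by
    intro x hx
    have hx' : ¬ MemLocalIdeal M (x : ℂ) := fun h => hx ((mem_localIdeal_iff hMp x).2 h)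
    have hx0 : (x : ℂ) ≠ 0 := by
      intro h0
      apply hx'
      rw [h0]
      exact memLocalIdeal_zero hMp.ne_top
    rw [isUnit_iff_exists_inv]
    refine ⟨⟨(x : ℂ)⁻¹, memLocalRing_inv x.2 hx'⟩, ?_⟩
    apply Subtype.ext
    simp only [Subring.coe_mul, Subring.coe_one]
    exact mul_inv_cancel₀ hx0
  have h1I : (1 : localRing M hMp) ∉ localIdeal M hMp := by
    intro h
    exact not_memLocalIdeal_one hMp ((mem_localIdeal_iff hMp 1).1 h)
  obtain ⟨g₁, hg1, hidem⟩ := exists_poly_idem_B5 (localIdeal M hMp) hI h1I a P S (P.natDegree + 1)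
    (by omega) h0S h1S hPdvd hPa'
  refine ⟨aeval a (X * g₁), hidem, ?_, ?_⟩
  · -- reduction
    have h1 : MonoidAlgebra.mapRingHom G res (aeval a (X * g₁)) =
        aeval e ((X * g₁).map res) := by
      rw [aeval_def, hom_eval₂, MonoidAlgebra.mapRingHom_comp_algebraMap, hared, aeval_def,
        eval₂_map]
    rw [h1, Polynomial.map_mul, Polynomial.map_X, aeval_X_mul_of_idem_B5 he]
    have h2 : (g₁.map res).eval 1 = 1 := by
      have h3 := eval_one_map res (X * g₁)
      rw [hg1, map_one, Polynomial.map_mul, Polynomial.map_X, eval_mul, eval_X, one_mul] at h3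
      exact h3
    rw [h2, one_smul]
  · rw [map_mul, aeval_X, ha]
    have hc := hEc (aeval (a₀ * E) g₁)
    calc a₀ * E * aeval (a₀ * E) g₁ * E = a₀ * E * (aeval (a₀ * E) g₁ * E) := by
          rw [mul_assoc]
      _ = a₀ * E * (E * aeval (a₀ * E) g₁) := by rw [hc]
      _ = a₀ * (E * E) * aeval (a₀ * E) g₁ := by simp only [mul_assoc]
      _ = a₀ * E * aeval (a₀ * E) g₁ := by rw [hE.eq]

end B

end Cfsg.Agent.Lib.Lead.Brandt
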