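import Mathlib
import Cfsg.Agent.Lib.Helper6.C2Max.Defs

set_option autoImplicit false

/-!
# S5634 PK-D1: the Levi projection of the stabiliser of a coordinate line is a subgroup of
`GL_{n-1}` containing all monomial matrices.
-/

namespace Cfsg.Agent.Lib.Helper6.C2Max

open Matrix

variable {F : Type*} [Field F] [Fintype F] {ι : Type*} [Fintype ι] [DecidableEq ι]

/-- the Levi projection of the stabiliser in `K` of the line `⟨e_j⟩` -/
def leviSet (K : Subgroup (SpecialLinearGroup ι F)) (j : ι) : Set (GL {i : ι // i ≠ j} F) :=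
  {A | ∃ g ∈ K, (∀ r, r ≠ j → g.1 r j = 0) ∧
    ∀ r c : {i : ι // i ≠ j}, (A : Matrix {i : ι // i ≠ j} {i : ι // i ≠ j} F) r c = g.1 r c}

namespace PkD

set_option linter.unusedSectionVars false

/-- the lower right block of a matrix with respect to the index `j` -/
def leviM (j : ι) (g : Matrix ι ι F) : Matrix {i : ι // i ≠ j} {i : ι // i ≠ j} F :=
  fun r c => g r.1 c.1

theorem leviM_apply (j : ι) (g : Matrix ι ι F) (r c : {i : ι // i ≠ j}) :
    leviM j g r c = g r.1 c.1 := rfl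

theorem leviM_one (j : ι) : leviM j (1 : Matrix ι ι F) = 1 := by
  ext r c
  rw [leviM_apply, Matrix.one_apply, Matrix.one_apply]
  by_cases h : r = c
  · rw [if_pos h, if_pos (congrArg Subtype.val h)]
  · rw [if_neg h, if_neg (fun h' => h (Subtype.ext h'))]

/-- the Levi block is multiplicative on matrices whose column `j` is in `⟨e_j⟩` -/
theorem leviM_mul (j : ι) (g g' : Matrix ι ι F) (hg : ∀ r, r ≠ j → g r j = 0) :
    leviM j (g * g') = leviM j g * leviM j g' := by
  ext r c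
  rw [leviM_apply, Matrix.mul_apply, Matrix.mul_apply, Fintype.sum_eq_add_sum_subtype_ne _ j,
    hg r.1 r.2, zero_mul, zero_add]
  rfl

theorem col_mul (j : ι) (g g' : Matrix ι ι F) (hg : ∀ r, r ≠ j → g r j = 0)
    (hg' : ∀ r, r ≠ j → g' r j = 0) : ∀ r, r ≠ j → (g * g') r j = 0 := by
  intro r hr
  rw [Matrix.mul_apply]
  apply Finset.sum_eq_zero
  intro k _
  by_cases hk : k = j
  · rw [hk, hg r hr, zero_mul]
  · rw [hg' k hk, mul_zero]

theorem corner_mul (j : ι) (g g' : Matrix ι ι F) (hg' : ∀ r, r ≠ j → g' r j = 0) :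
    (g * g') j j = g j j * g' j j := by
  rw [Matrix.mul_apply, Finset.sum_eq_single j]
  · intro k _ hk
    rw [hg' k hk, mul_zero]
  · intro h
    exact absurd (Finset.mem_univ j) h

/-- if `g * g' = 1` and the column `j` of `g` is in `⟨e_j⟩`, so is the column `j` of `g'` -/
theorem col_inv (j : ι) (g g' : Matrix ι ι F) (hgg : g' * g = 1) (hg : ∀ r, r ≠ j → g r j = 0) :
    g j j ≠ 0 ∧ ∀ r, r ≠ j → g' r j = 0 := by
  have h1 : ∀ r, g' r j * g j j = (1 : Matrix ι ι F) r j := by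
    intro r
    rw [← hgg, Matrix.mul_apply, Finset.sum_eq_single j]
    · intro k _ hk
      rw [hg k hk, mul_zero]
    · intro h
      exact absurd (Finset.mem_univ j) h
  have h2 : g j j ≠ 0 := by
    intro h0
    have := h1 j
    rw [h0, mul_zero, Matrix.one_apply_eq] at this
    exact zero_ne_one this
  refine ⟨h2, fun r hr => ?_⟩
  have := h1 r
  rw [Matrix.one_apply_ne hr] at this
  rcases mul_eq_zero.1 this with h | h
  · exact h
  · exact absurd h h2

/-- determinant of a matrix whose column `j` is in `⟨e_j⟩` -/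
theorem det_eq_corner_mul (j : ι) (g : Matrix ι ι F) (hg : ∀ r, r ≠ j → g r j = 0) :
    g.det = g j j * (leviM j g).det := by
  rw [Matrix.twoBlockTriangular_det g (fun i => i = j) (fun i hi k hk => by
    rw [hk]; exact hg i hi)]
  congr 1
  have hsub : Subsingleton {a : ι // a = j} := ⟨fun x y => Subtype.ext (x.2.trans y.2.symm)⟩
  convert Matrix.det_eq_elem_of_subsingleton (g.toSquareBlockProp fun i => i = j)
    (⟨j, rfl⟩ : {a : ι // a = j})
  rfl

/-- the matrix `[[a, 0], [0, A]]` -/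
def blockM (j : ι) (a : F) (A : Matrix {i : ι // i ≠ j} {i : ι // i ≠ j} F) : Matrix ι ι F :=
  fun r c => if hr : r = j then (if c = j then a else 0)
    else (if hc : c = j then 0 else A ⟨r, hr⟩ ⟨c, hc⟩)

theorem blockM_corner (j : ι) (a : F) (A : Matrix {i : ι // i ≠ j} {i : ι // i ≠ j} F) :
    blockM j a A j j = a := by
  unfold blockM
  rw [dif_pos rfl, if_pos rfl]

theorem blockM_col (j : ι) (a : F) (A : Matrix {i : ι // i ≠ j} {i : ι // i ≠ j} F) :
    ∀ r, r ≠ j → blockM j a A r j = 0 := by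
  intro r hr
  unfold blockM
  rw [dif_neg hr, dif_pos rfl]

theorem blockM_row (j : ι) (a : F) (A : Matrix {i : ι // i ≠ j} {i : ι // i ≠ j} F) :
    ∀ c, c ≠ j → blockM j a A j c = 0 := by
  intro c hc
  unfold blockM
  rw [dif_pos rfl, if_neg hc]

theorem blockM_levi (j : ι) (a : F) (A : Matrix {i : ι // i ≠ j} {i : ι // i ≠ j} F)
    (r c : {i : ι // i ≠ j}) : blockM j a A r.1 c.1 = A r c := by
  unfold blockM
  rw [dif_neg r.2, dif_neg c.2]

theorem leviM_blockM (j : ι) (a : F) (A : Matrix {i : ι // i ≠ j} {i : ι // i ≠ j} F) :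
    leviM j (blockM j a A) = A := by
  ext r c
  rw [leviM_apply, blockM_levi]

theorem det_blockM (j : ι) (a : F) (A : Matrix {i : ι // i ≠ j} {i : ι // i ≠ j} F) :
    (blockM j a A).det = a * A.det := by
  rw [det_eq_corner_mul j _ (blockM_col j a A), blockM_corner, leviM_blockM]

theorem isMono_blockM (j : ι) (a : F) (A : Matrix {i : ι // i ≠ j} {i : ι // i ≠ j} F)
    (hA : IsMono A) : IsMono (blockM j a A) := by
  obtain ⟨σ, hσ⟩ := hA
  refine ⟨Equiv.Perm.ofSubtype σ, fun r c h => ?_⟩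
  by_cases hr : r = j
  · by_cases hc : c = j
    · rw [hr, hc, Equiv.Perm.ofSubtype_apply_of_not_mem]
      simp
    · rw [hr, blockM_row j a A c hc] at h
      exact absurd rfl h
  · by_cases hc : c = j
    · rw [hc, blockM_col j a A r hr] at h
      exact absurd rfl h
    · have h' : A ⟨r, hr⟩ ⟨c, hc⟩ ≠ 0 := by
        rw [← blockM_levi j a A ⟨r, hr⟩ ⟨c, hc⟩]
        exact h
      have := hσ _ _ h'
      rw [Equiv.Perm.ofSubtype_apply_of_mem σ hc, ← this]

end PkD

open PkD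

/-- PK-D1 -/
theorem exists_levi (K : Subgroup (SpecialLinearGroup ι F)) (j : ι) :
    ∃ L : Subgroup (GL {i : ι // i ≠ j} F), (L : Set (GL {i : ι // i ≠ j} F)) = leviSet K j := by
  have hmem : ∀ A : GL {i : ι // i ≠ j} F, A ∈ leviSet K j ↔
      ∃ g ∈ K, (∀ r, r ≠ j → g.1 r j = 0) ∧
        (A : Matrix {i : ι // i ≠ j} {i : ι // i ≠ j} F) = leviM j g.1 := by
    intro A
    constructor
    · rintro ⟨g, hg, hcol, hA⟩
      exact ⟨g, hg, hcol, by ext r c; exact hA r c⟩
    · rintro ⟨g, hg, hcol, hA⟩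
      exact ⟨g, hg, hcol, fun r c => by rw [hA]; rfl⟩
  refine ⟨{ carrier := leviSet K j, mul_mem' := ?_, one_mem' := ?_, inv_mem' := ?_ }, rfl⟩
  · intro A A' hA hA'
    rw [hmem] at hA hA' ⊢
    obtain ⟨g, hg, hcol, hAg⟩ := hA
    obtain ⟨g', hg', hcol', hAg'⟩ := hA'
    refine ⟨g * g', K.mul_mem hg hg', col_mul j g.1 g'.1 hcol hcol', ?_⟩
    show (A : Matrix _ _ F) * (A' : Matrix _ _ F) = leviM j (g.1 * g'.1)
    rw [leviM_mul j g.1 g'.1 hcol, hAg, hAg']
  · rw [hmem]
    refine ⟨1, K.one_mem, fun r hr => Matrix.one_apply_ne hr, ?_⟩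
    show (1 : Matrix _ _ F) = leviM j (1 : Matrix ι ι F)
    rw [leviM_one]
  · intro A hA
    rw [hmem] at hA ⊢
    obtain ⟨g, hg, hcol, hAg⟩ := hA
    have hgg : (g⁻¹).1 * g.1 = 1 := by
      have : g⁻¹ * g = 1 := inv_mul_cancel g
      exact congrArg Subtype.val this
    have hgg' : g.1 * (g⁻¹).1 = 1 := by
      have : g * g⁻¹ = 1 := mul_inv_cancel g
      exact congrArg Subtype.val this
    obtain ⟨-, hcol'⟩ := col_inv j g.1 (g⁻¹).1 hgg hcol
    refine ⟨g⁻¹, K.inv_mem hg, hcol', ?_⟩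
    rw [Matrix.coe_units_inv]
    apply Matrix.inv_eq_right_inv
    rw [hAg, ← leviM_mul j g.1 (g⁻¹).1 hcol, hgg', leviM_one]

/-- PK-D1 -/
theorem levi_over {K : Subgroup (SpecialLinearGroup ι F)} (hK : Over K) (j : ι)
    (A : GL {i : ι // i ≠ j} F) (hA : IsMono (A : Matrix {i : ι // i ≠ j} {i : ι // i ≠ j} F)) :
    A ∈ leviSet K j := by
  have hdet : (A : Matrix {i : ι // i ≠ j} {i : ι // i ≠ j} F).det ≠ 0 := by
    have := (Matrix.isUnit_iff_isUnit_det _).1 A.isUnit
    exact this.ne_zero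
  let G : Matrix ι ι F := blockM j ((A : Matrix {i : ι // i ≠ j} {i : ι // i ≠ j} F).det)⁻¹
    (A : Matrix {i : ι // i ≠ j} {i : ι // i ≠ j} F)
  have hG : G.det = 1 := by
    show (blockM j _ _).det = 1
    rw [det_blockM, inv_mul_cancel₀ hdet]
  refine ⟨⟨G, hG⟩, hK _ (isMono_blockM j _ _ hA), blockM_col j _ _, fun r c => ?_⟩
  exact (blockM_levi j _ _ r c).symm

end Cfsg.Agent.Lib.Helper6.C2Max
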