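import Mathlib
import Cfsg.Agent.Lib.Helper6.C2Max.Defs
import Cfsg.Agent.Lib.Helper6.C2Max.Basic
import Cfsg.Agent.Lib.Helper5.C2Max_T1
import Cfsg.Agent.Lib.Helper3.C2Max_D1

set_option autoImplicit false

/-!
# S5634 PK-D2: an elementary transvection in the Levi projection of the stabiliser of a coordinate
line lifts to an elementary transvection of `K`.
-/

namespace Cfsg.Agent.Lib.Helper6.C2Max

open Matrix

variable {F : Type*} [Field F] [Fintype F] {ι : Type*} [Fintype ι] [DecidableEq ι]

namespace PkD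

set_option linter.unusedSectionVars false

/-- if `x * g = g'`, `g` is invertible with column `j` in `⟨e_j⟩`, and `g'` agrees with `g` outside
the row `j` and at `(j, j)`, then `x` is the identity outside the row `j` and `x j j = 1` -/
theorem rows_of_mul (j : ι) (x g g' ginv : Matrix ι ι F) (hx : x * g = g') (hinv : g * ginv = 1)
    (hinv' : ginv * g = 1)
    (hcol : ∀ r, r ≠ j → g r j = 0) (hrows : ∀ r, r ≠ j → ∀ c, g' r c = g r c)
    (hjj : g' j j = g j j) :
    (∀ r, r ≠ j → ∀ c, x r c = (1 : Matrix ι ι F) r c) ∧ x j j = 1 := by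
  obtain ⟨hne, -⟩ := col_inv j g ginv hinv' hcol
  constructor
  · intro r hr c
    have h1 : x - 1 = (g' - g) * ginv := by
      rw [← hx, Matrix.sub_mul, Matrix.mul_assoc, hinv, Matrix.mul_one]
    have h2 : (x - 1) r c = 0 := by
      rw [h1, Matrix.mul_apply]
      apply Finset.sum_eq_zero
      intro k _
      rw [Matrix.sub_apply, hrows r hr k, sub_self, zero_mul]
    rw [Matrix.sub_apply, sub_eq_zero] at h2
    exact h2
  · have h1 : (x * g) j j = x j j * g j j := corner_mul j x g hcol
    rw [hx, hjj] at h1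
    have h2 : (x j j - 1) * g j j = 0 := by rw [sub_mul, one_mul, ← h1, sub_self]
    rcases mul_eq_zero.1 h2 with h | h
    · exact sub_eq_zero.1 h
    · exact absurd h hne

/-- a nontrivial element of `K` which is the identity outside the row `j` and has `(j,j)` entry `1`
gives an elementary transvection -/
theorem hasTv_of_row (h5 : 5 ≤ Fintype.card ι) (hq : 3 ≤ Fintype.card F)
    {K : Subgroup (SpecialLinearGroup ι F)} (hK : Over K) (j : ι) (x : SpecialLinearGroup ι F)
    (hx : x ∈ K) (hne : x ≠ 1) (hrows : ∀ r, r ≠ j → ∀ c, x.1 r c = (1 : Matrix ι ι F) r c)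
    (hjj : x.1 j j = 1) : HasTv K := by
  refine hasTv_of_rect h5 hq hK {j} (Finset.univ.erase j) ?_ x hx hne ?_ ?_
  · rw [Finset.disjoint_singleton_left]
    exact Finset.notMem_erase j _
  · intro r
    by_cases hr : r = j
    · rw [hr]; exact hjj
    · rw [hrows r hr r, Matrix.one_apply_eq]
  · intro r c hrc h
    have hr : r = j := by
      by_contra hr
      rw [hrows r hr c, Matrix.one_apply_ne hrc] at h
      exact h rfl
    refine ⟨by rw [hr]; exact Finset.mem_singleton_self j, ?_⟩
    rw [Finset.mem_erase]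
    exact ⟨fun h' => hrc (hr.trans h'.symm), Finset.mem_univ c⟩

theorem exists_ne_zero_one (hq : 3 ≤ Fintype.card F) : ∃ l : F, l ≠ 0 ∧ l ≠ 1 := by
  classical
  by_contra h
  push Not at h
  have hsub : (Finset.univ : Finset F) ⊆ {0, 1} := by
    intro x _
    by_cases h1 : x = 0
    · simp [h1]
    · simp [h x h1]
  have h1 := Finset.card_le_card hsub
  have h3 : ({0, 1} : Finset F).card ≤ 2 := Finset.card_le_two
  rw [Finset.card_univ] at h1
  omega

theorem exists_fourth (h5 : 5 ≤ Fintype.card ι) (i j k : ι) : ∃ s : ι, s ≠ i ∧ s ≠ j ∧ s ≠ k := by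
  classical
  by_contra h
  push Not at h
  have hsub : (Finset.univ : Finset ι) ⊆ {i, j, k} := by
    intro x _
    by_cases h1 : x = i
    · simp [h1]
    by_cases h2 : x = j
    · simp [h2]
    have := h x h1 h2
    simp [this]
  have h1 := Finset.card_le_card hsub
  have h3 : ({i, j, k} : Finset ι).card ≤ 3 := Finset.card_le_three
  rw [Finset.card_univ] at h1
  omega

end PkD

open PkD

/-- PK-D2 : an elementary transvection of the Levi projection lifts -/
theorem hasTv_of_levi (h5 : 5 ≤ Fintype.card ι) (hq : 3 ≤ Fintype.card F)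
    {K : Subgroup (SpecialLinearGroup ι F)} (hK : Over K) (j : ι)
    (A : GL {i : ι // i ≠ j} F) (hA : A ∈ leviSet K j) (a b : {i : ι // i ≠ j}) (hab : a ≠ b)
    (c : F) (hc : c ≠ 0)
    (hAm : (A : Matrix {i : ι // i ≠ j} {i : ι // i ≠ j} F) = 1 + Matrix.single a b c) :
    HasTv K := by
  classical
  obtain ⟨g, hg, hcol0, hAg⟩ := hA
  obtain ⟨G, hG⟩ : ∃ G : Matrix ι ι F, G = g.1 := ⟨_, rfl⟩
  have hcol : ∀ r, r ≠ j → G r j = 0 := by rw [hG]; exact hcol0
  have hdet : G.det = 1 := by rw [hG]; exact g.2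
  have hab' : a.1 ≠ b.1 := fun h => hab (Subtype.ext h)
  -- the Levi block of `g`
  have hlev : ∀ r c' : {i : ι // i ≠ j}, G r.1 c'.1 =
      (1 + Matrix.single a b c : Matrix {i : ι // i ≠ j} {i : ι // i ≠ j} F) r c' := by
    intro r c'
    rw [← hAm, hAg, hG]
  have hlevM : leviM j G = 1 + Matrix.single a b c := by
    ext r c'
    rw [leviM_apply, hlev]
  have hdiagG : ∀ r, r ≠ j → G r r = 1 := by
    intro r hr
    have := hlev ⟨r, hr⟩ ⟨r, hr⟩
    rw [Matrix.add_apply, Matrix.one_apply_eq, Matrix.single_apply_of_ne _ _ _ _ _ (by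
      rintro ⟨h1, h2⟩
      exact hab (h1.trans h2.symm)), add_zero] at this
    exact this
  have hGab : G a.1 b.1 = c := by
    have := hlev a b
    rw [Matrix.add_apply, Matrix.one_apply_ne hab, Matrix.single_apply_same, zero_add] at this
    exact this
  have hoffG : ∀ r c', r ≠ j → c' ≠ j → r ≠ c' → G r c' ≠ 0 → r = a.1 ∧ c' = b.1 := by
    intro r c' hr hc' hrc h
    have h1 := hlev ⟨r, hr⟩ ⟨c', hc'⟩
    have hne' : (⟨r, hr⟩ : {i : ι // i ≠ j}) ≠ ⟨c', hc'⟩ := fun h' => hrc (congrArg Subtype.val h')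
    rw [Matrix.add_apply, Matrix.one_apply_ne hne', zero_add] at h1
    have h2 : a = ⟨r, hr⟩ ∧ b = ⟨c', hc'⟩ := by
      by_contra h2
      rw [Matrix.single_apply_of_ne _ _ _ _ _ h2] at h1
      exact h h1
    exact ⟨by rw [h2.1], by rw [h2.2]⟩
  -- the corner is `1`
  have hjj : G j j = 1 := by
    have h1 := det_eq_corner_mul j G hcol
    rw [hdet, hlevM] at h1
    have h2 : (1 + Matrix.single a b c : Matrix {i : ι // i ≠ j} {i : ι // i ≠ j} F).det = 1 :=
      Matrix.det_transvection_of_ne a b hab c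
    rw [h2, mul_one] at h1
    exact h1.symm
  by_cases hja : G j a.1 = 0
  · -- `g` itself is a rectangle
    refine hasTv_of_rect h5 hq hK {j, a.1} (Finset.univ \ {j, a.1}) ?_ g hg ?_ ?_ ?_
    · exact Finset.disjoint_sdiff
    · intro h1
      have h3 : G = 1 := by rw [hG, h1]; rfl
      rw [h3, Matrix.one_apply_ne hab'] at hGab
      exact hc hGab.symm
    · intro r
      rw [← hG]
      by_cases hr : r = j
      · rw [hr]; exact hjj
      · exact hdiagG r hr
    · intro r c' hrc h
      rw [← hG] at h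
      by_cases hr : r = j
      · subst hr
        refine ⟨by simp, ?_⟩
        rw [Finset.mem_sdiff]
        refine ⟨Finset.mem_univ _, ?_⟩
        simp only [Finset.mem_insert, Finset.mem_singleton, not_or]
        refine ⟨fun h' => hrc h'.symm, fun h' => ?_⟩
        rw [h'] at h
        exact h hja
      · have hc' : c' ≠ j := by
          intro h'
          rw [h', hcol r hr] at h
          exact h rfl
        obtain ⟨hra, hcb⟩ := hoffG r c' hr hc' hrc h
        refine ⟨by rw [hra]; simp, ?_⟩
        rw [Finset.mem_sdiff]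
        refine ⟨Finset.mem_univ _, ?_⟩
        simp only [Finset.mem_insert, Finset.mem_singleton, not_or]
        exact ⟨hc', fun h' => hab' (hcb.symm.trans h').symm⟩
  · -- commutator with a torus element
    obtain ⟨l, hl0, hl1⟩ := exists_ne_zero_one (F := F) hq
    obtain ⟨s, hsj, hsa, hsb⟩ := exists_fourth h5 j a.1 b.1
    let t : ι → F := fun i => if i = j then l else if i = s then l⁻¹ else 1
    have htj : t j = l := by simp [t]
    have hts : t s = l⁻¹ := by simp [t, hsj]
    have hta : t a.1 = 1 := by simp [t, a.2, Ne.symm hsa]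
    have htb : t b.1 = 1 := by simp [t, b.2, Ne.symm hsb]
    have ht0 : ∀ i, t i ≠ 0 := by
      intro i
      simp only [t]
      split_ifs
      · exact hl0
      · exact inv_ne_zero hl0
      · exact one_ne_zero
    have hprod : ∏ i, t i = 1 := by
      rw [Fintype.prod_eq_mul j s (Ne.symm hsj) (fun x hx => by simp [t, hx.1, hx.2]), htj, hts,
        mul_inv_cancel₀ hl0]
    have hprod' : ∏ i, (t i)⁻¹ = 1 := by
      rw [Finset.prod_inv_distrib, hprod, inv_one]
    have hd : diagSL t hprod ∈ K := diagSL_mem hK t hprod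
    have hdinv : diagSL (fun i => (t i)⁻¹) hprod' ∈ K := diagSL_mem hK _ hprod'
    obtain ⟨x, hxdef⟩ : ∃ x : SpecialLinearGroup ι F,
        x = diagSL t hprod * g * diagSL (fun i => (t i)⁻¹) hprod' * g⁻¹ := ⟨_, rfl⟩
    have hxK : x ∈ K := by
      rw [hxdef]
      exact K.mul_mem (K.mul_mem (K.mul_mem hd hg) hdinv) (K.inv_mem hg)
    obtain ⟨X, hX⟩ : ∃ X : Matrix ι ι F, X = x.1 := ⟨_, rfl⟩
    have hxg : X * G = Matrix.diagonal t * G * Matrix.diagonal (fun i => (t i)⁻¹) := by
      have h1 : x * g = diagSL t hprod * g * diagSL (fun i => (t i)⁻¹) hprod' := by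
        rw [hxdef, inv_mul_cancel_right]
      have h' := congrArg Subtype.val h1
      rw [hX, hG]
      exact h'
    have hg' : ∀ r c', (Matrix.diagonal t * G * Matrix.diagonal (fun i => (t i)⁻¹)) r c' =
        t r * G r c' * (t c')⁻¹ := by
      intro r c'
      rw [Matrix.mul_diagonal, Matrix.diagonal_mul]
    have hginv : G * (g⁻¹).1 = 1 := by
      have : g * g⁻¹ = 1 := mul_inv_cancel g
      rw [hG]
      exact congrArg Subtype.val this
    have hginv' : (g⁻¹).1 * G = 1 := by
      have : g⁻¹ * g = 1 := inv_mul_cancel g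
      rw [hG]
      exact congrArg Subtype.val this
    obtain ⟨hrows, hxjj⟩ := rows_of_mul j X G _ (g⁻¹).1 hxg hginv hginv' hcol (by
        intro r hr c'
        rw [hg']
        by_cases hc' : c' = j
        · rw [hc', hcol r hr, mul_zero, zero_mul]
        · by_cases hrc : r = c'
          · rw [← hrc, mul_right_comm, mul_inv_cancel₀ (ht0 r), one_mul]
          · by_cases h0 : G r c' = 0
            · rw [h0, mul_zero, zero_mul]
            · obtain ⟨hra, hcb⟩ := hoffG r c' hr hc' hrc h0
              rw [hra, hcb, hta, htb, one_mul, inv_one, mul_one]) (by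
        rw [hg', mul_right_comm, mul_inv_cancel₀ (ht0 j), one_mul])
    refine hasTv_of_row h5 hq hK j x hxK ?_ (by rw [← hX]; exact hrows) (by rw [← hX]; exact hxjj)
    intro hx1
    have h1 : X * G = G := by
      rw [hX, hx1]
      exact Matrix.one_mul G
    rw [hxg] at h1
    have h2 := congrFun (congrFun h1 j) a.1
    rw [hg', htj, hta, inv_one, mul_one] at h2
    have h3 : (l - 1) * G j a.1 = 0 := by rw [sub_mul, one_mul, h2, sub_self]
    rcases mul_eq_zero.1 h3 with h | h
    · exact hl1 (sub_eq_zero.1 h)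
    · exact hja h

end Cfsg.Agent.Lib.Helper6.C2Max
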