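import Mathlib
import Cfsg.Agent.Lib.Helper6.C2Max.Defs
import Cfsg.Agent.Lib.Helper6.C2Max.Basic
import Cfsg.Agent.Lib.Helper5.C2Max_T1
import Cfsg.Agent.Lib.Helper3.C2Max_D1
import Cfsg.Agent.Lib.Helper3.C2Max_D2

set_option autoImplicit false

/-!
# S5634 PK-D3, hypothesis form: in an overgroup of the monomial group without elementary
transvections, every element with a monomial column is monomial -- with Theorem G (PK-G) for the
Levi projections as a hypothesis.
-/

namespace Cfsg.Agent.Lib.Helper6.C2Max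

open Matrix

variable {F : Type*} [Field F] [Fintype F] {ι : Type*} [Fintype ι] [DecidableEq ι]

namespace PkD

set_option linter.unusedSectionVars false

/-- the case of a column in `⟨e_j⟩` -/
theorem mono_of_col_self (h13 : 13 ≤ Fintype.card ι) (hq : 5 ≤ Fintype.card F)
    {K : Subgroup (SpecialLinearGroup ι F)} (hK : Over K) (hT : ¬ HasTv K)
    (g : SpecialLinearGroup ι F) (hg : g ∈ K) (j : ι) (hcol0 : ∀ r, r ≠ j → g.1 r j = 0)
    (hthmG : ∀ L : Subgroup (GL {i : ι // i ≠ j} F),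
      (∀ B : GL {i : ι // i ≠ j} F,
        IsMono (B : Matrix {i : ι // i ≠ j} {i : ι // i ≠ j} F) → B ∈ L) →
      (∀ B ∈ L, IsMono (B : Matrix {i : ι // i ≠ j} {i : ι // i ≠ j} F)) ∨ HasTvGL L) :
    IsMono g.1 := by
  classical
  have h5 : 5 ≤ Fintype.card ι := by omega
  have hq3 : 3 ≤ Fintype.card F := by omega
  obtain ⟨G, hG⟩ : ∃ G : Matrix ι ι F, G = g.1 := ⟨_, rfl⟩
  have hcol : ∀ r, r ≠ j → G r j = 0 := by rw [hG]; exact hcol0
  have hdet : G.det = 1 := by rw [hG]; exact g.2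
  have hdet' : G j j * (leviM j G).det = 1 := by rw [← det_eq_corner_mul j G hcol, hdet]
  have hAdet : (leviM j G).det ≠ 0 := by
    intro h
    rw [h, mul_zero] at hdet'
    exact zero_ne_one hdet'
  -- the Levi block as an element of `GL`
  let A : GL {i : ι // i ≠ j} F := Matrix.GeneralLinearGroup.mkOfDetNeZero (leviM j G) hAdet
  have hAval : (A : Matrix {i : ι // i ≠ j} {i : ι // i ≠ j} F) = leviM j G := rfl
  have hAmem : A ∈ leviSet K j := by
    refine ⟨g, hg, hcol0, fun r c => ?_⟩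
    rw [hAval, leviM_apply, hG]
  obtain ⟨L, hL⟩ := exists_levi K j
  have hLmem : ∀ B : GL {i : ι // i ≠ j} F, B ∈ L ↔ B ∈ leviSet K j := by
    intro B
    rw [← hL]
    rfl
  have hAmono : IsMono (leviM j G) := by
    rcases hthmG L (fun B hB => (hLmem B).2 (levi_over hK j B hB)) with h | h
    · exact h A ((hLmem A).2 hAmem)
    · exfalso
      obtain ⟨a, b, hab, c, hc, B, hB, hBm⟩ := h
      exact hT (hasTv_of_levi h5 hq3 hK j B ((hLmem B).1 hB) a b hab c hc hBm)
  -- the monomial matrix `diag (g j j, A)`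
  have hMdet : (blockM j (G j j) (leviM j G)).det = 1 := by rw [det_blockM, hdet']
  have hMmono : IsMono (blockM j (G j j) (leviM j G)) := isMono_blockM j _ _ hAmono
  obtain ⟨m, hm⟩ : ∃ m : SpecialLinearGroup ι F, m = ⟨blockM j (G j j) (leviM j G), hMdet⟩ :=
    ⟨_, rfl⟩
  have hmval : m.1 = blockM j (G j j) (leviM j G) := by rw [hm]
  have hmK : m ∈ K := hK m (by rw [hmval]; exact hMmono)
  obtain ⟨x, hxdef⟩ : ∃ x : SpecialLinearGroup ι F, x = g * m⁻¹ := ⟨_, rfl⟩
  have hxK : x ∈ K := by rw [hxdef]; exact K.mul_mem hg (K.inv_mem hmK)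
  have hxm : x.1 * m.1 = G := by
    have h1 : x * m = g := by rw [hxdef, inv_mul_cancel_right]
    rw [hG]
    exact congrArg Subtype.val h1
  have hminv : m.1 * (m⁻¹).1 = 1 := by
    have : m * m⁻¹ = 1 := mul_inv_cancel m
    exact congrArg Subtype.val this
  have hminv' : (m⁻¹).1 * m.1 = 1 := by
    have : m⁻¹ * m = 1 := inv_mul_cancel m
    exact congrArg Subtype.val this
  obtain ⟨hrows, hxjj⟩ := rows_of_mul j x.1 m.1 G (m⁻¹).1 hxm hminv hminv' (by
      intro r hr
      rw [hmval]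
      exact blockM_col j _ _ r hr) (by
      intro r hr c
      rw [hmval]
      by_cases hc : c = j
      · rw [hc, hcol r hr, blockM_col j _ _ r hr]
      · have := blockM_levi j (G j j) (leviM j G) ⟨r, hr⟩ ⟨c, hc⟩
        rw [leviM_apply] at this
        exact this.symm) (by
      rw [hmval, blockM_corner])
  have hx1 : x = 1 := by
    by_contra hne
    exact hT (hasTv_of_row h5 hq3 hK j x hxK hne hrows hxjj)
  have hgm : g = m := by
    have : g * m⁻¹ = 1 := by rw [← hxdef, hx1]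
    exact mul_inv_eq_one.1 this
  rw [hgm, hmval]
  exact hMmono

/-- PK-D3 with Theorem G as a hypothesis -/
theorem mono_of_col_core (h13 : 13 ≤ Fintype.card ι) (hq : 5 ≤ Fintype.card F)
    {K : Subgroup (SpecialLinearGroup ι F)} (hK : Over K) (hT : ¬ HasTv K)
    (g : SpecialLinearGroup ι F) (hg : g ∈ K) (j j' : ι) (hcol : ∀ r, r ≠ j' → g.1 r j = 0)
    (hthmG : ∀ L : Subgroup (GL {i : ι // i ≠ j} F),
      (∀ B : GL {i : ι // i ≠ j} F,
        IsMono (B : Matrix {i : ι // i ≠ j} {i : ι // i ≠ j} F) → B ∈ L) →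
      (∀ B ∈ L, IsMono (B : Matrix {i : ι // i ≠ j} {i : ι // i ≠ j} F)) ∨ HasTvGL L) :
    IsMono g.1 := by
  classical
  -- move the row `j'` to the row `j` by a monomial matrix
  obtain ⟨d, hd0, hdet⟩ := exists_signs (F := F) (Equiv.swap j j')
  have hpK : monoSL (Equiv.swap j j') d hdet ∈ K := monoSL_mem hK _ d hdet
  obtain ⟨p, hp⟩ : ∃ p : SpecialLinearGroup ι F, p = monoSL (Equiv.swap j j') d hdet := ⟨_, rfl⟩
  have hpg : ∀ r c, (p * g).1 r c =
      d ((Equiv.swap j j').symm r) * g.1 ((Equiv.swap j j').symm r) c := by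
    intro r c
    rw [hp]
    exact monoMat_mul_apply g.1 (Equiv.swap j j') d r c
  have h1 : IsMono (p * g).1 := by
    refine mono_of_col_self h13 hq hK hT (p * g) (K.mul_mem (by rw [hp]; exact hpK) hg) j ?_ hthmG
    intro r hr
    rw [hpg, hcol, mul_zero]
    intro h
    apply hr
    have h' := congrArg (Equiv.swap j j') h
    rw [Equiv.apply_symm_apply, Equiv.swap_apply_right] at h'
    exact h'
  obtain ⟨σ, hσ⟩ := h1
  refine ⟨σ.trans (Equiv.swap j j'), fun r c h => ?_⟩
  have h2 : (p * g).1 (Equiv.swap j j' r) c ≠ 0 := by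
    rw [hpg, Equiv.symm_apply_apply]
    exact mul_ne_zero (hd0 r) h
  have h3 := hσ _ _ h2
  rw [Equiv.trans_apply, ← h3, Equiv.swap_apply_self]

end PkD

end Cfsg.Agent.Lib.Helper6.C2Max
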