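import Mathlib
import Cfsg.Agent.Lib.Helper3.StU1
set_option autoImplicit false
set_option linter.unusedSectionVars false

/-!
Central extensions and one-parameter subgroups normalized by a torus: invariant pairings, commuting lifts, canonical
lifts.
-/

namespace Cfsg.Agent.Lib.Helper3.CExt

open Cfsg.Agent.Lib.Helper3.StU
open scoped commutatorElement

section
variable {F : Type*} [Field F] {A : Type*} [Group A]

/-- the set of pairs of weights `T` contains a triple `p₁`, `p₂`, `p₃` with `p₁.1 + p₂.1 = p₃.1` and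
`1 / p₁.2 + 1 / p₂.2 ≠ 1 / p₃.2` -/
def Trip (T : Set (F × F)) : Prop :=
  ∃ p₁ p₂ p₃ : F × F, p₁ ∈ T ∧ p₂ ∈ T ∧ p₃ ∈ T ∧ p₁.1 + p₂.1 = p₃.1 ∧ p₁.2 ≠ 0 ∧ p₂.2 ≠ 0 ∧ p₃.2 ≠ 0 ∧
    p₁.2⁻¹ + p₂.2⁻¹ ≠ p₃.2⁻¹

/-- A biadditive pairing with `c (κ a) (ω b) = c a b` for all pairs `(κ, ω)` of a set `T` vanishes, if `T` contains a
suitable triple. -/
theorem pairing_eq_one_of_pairs (c : F → F → A)
    (hl : ∀ a a' b, c (a + a') b = c a b * c a' b) (hr : ∀ a b b', c a (b + b') = c a b * c a b')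
    (T : Set (F × F)) (hinv : ∀ p ∈ T, ∀ a b, c (p.1 * a) (p.2 * b) = c a b) (hT : Trip T) :
    ∀ a b, c a b = 1 := by
  obtain ⟨p₁, p₂, p₃, m1, m2, m3, hsum, h1, h2, h3, hne⟩ := hT
  have hmove : ∀ p ∈ T, p.2 ≠ 0 → ∀ a b, c (p.1 * a) b = c a (p.2⁻¹ * b) := by
    intro p hp hp0 a b
    have := hinv p hp a (p.2⁻¹ * b)
    rw [← mul_assoc, mul_inv_cancel₀ hp0, one_mul] at this
    exact this
  have hrsub : ∀ a x y, c a (x - y) = c a x * (c a y)⁻¹ := by
    intro a x y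
    have := hr a (x - y) y
    rw [sub_add_cancel] at this
    rw [this, mul_inv_cancel_right]
  set δ := p₁.2⁻¹ + p₂.2⁻¹ - p₃.2⁻¹ with hδ
  have hδ0 : δ ≠ 0 := sub_ne_zero.mpr hne
  have key : ∀ a b, c a (δ * b) = 1 := by
    intro a b
    have e1 : c (p₃.1 * a) b = c a (p₃.2⁻¹ * b) := hmove _ m3 h3 a b
    have e2 : c (p₃.1 * a) b = c a ((p₁.2⁻¹ + p₂.2⁻¹) * b) := by
      rw [← hsum, add_mul, hl, hmove p₁ m1 h1, hmove p₂ m2 h2, ← hr, ← add_mul]
    rw [hδ, sub_mul, hrsub, ← e2, e1, mul_inv_cancel]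
  intro a b
  have := key a (δ⁻¹ * b)
  rwa [← mul_assoc, mul_inv_cancel₀ hδ0, one_mul] at this

/-- the version with the roles of the two arguments interchanged -/
theorem pairing_eq_one_of_pairs' (c : F → F → A)
    (hl : ∀ a a' b, c (a + a') b = c a b * c a' b) (hr : ∀ a b b', c a (b + b') = c a b * c a b')
    (T : Set (F × F)) (hinv : ∀ p ∈ T, ∀ a b, c (p.2 * a) (p.1 * b) = c a b) (hT : Trip T) :
    ∀ a b, c a b = 1 := by
  intro a b
  exact pairing_eq_one_of_pairs (fun x y => c y x) (fun x x' y => hr y x x') (fun x y y' => hl y y' x) T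
    (fun p hp x y => hinv p hp y x) hT b a

end

/-- a central extension -/
structure CE (Γ G : Type*) [Group Γ] [Group G] where
  /-- the projection -/
  σ : Γ →* G
  /-- it is onto -/
  surj : Function.Surjective σ
  /-- its kernel is central -/
  cen : σ.ker ≤ Subgroup.center Γ

section
variable {Γ G : Type*} [Group Γ] [Group G] (E : CE Γ G)

/-- a chosen lift -/
noncomputable def CE.lift (d : G) : Γ := Function.surjInv E.surj d

theorem CE.sig_lift (d : G) : E.σ (E.lift d) = d := Function.surjInv_eq E.surj d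

theorem CE.comm_congr' {a a' b b' : Γ} (ha : E.σ a = E.σ a') (hb : E.σ b = E.σ b') : ⁅a, b⁆ = ⁅a', b'⁆ :=
  comm_congr E.σ E.cen ha hb

theorem CE.comm_mem_center {a b : Γ} (h : Commute (E.σ a) (E.σ b)) : ⁅a, b⁆ ∈ Subgroup.center Γ :=
  E.cen (comm_mem_ker E.σ h)

theorem CE.exists_ker_mul {x y : Γ} (h : E.σ x = E.σ y) : ∃ k ∈ E.σ.ker, x = y * k := by
  refine ⟨y⁻¹ * x, ?_, by group⟩
  rw [MonoidHom.mem_ker, map_mul, map_inv, h, inv_mul_cancel]

theorem CE.ker_comm {k : Γ} (hk : k ∈ E.σ.ker) (g : Γ) : g * k = k * g :=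
  Subgroup.mem_center_iff.mp (E.cen hk) g

/-- commuting is a property of the images modulo the kernel -/
theorem CE.commute_congr {x x' y y' : Γ} (hx : E.σ x = E.σ x') (hy : E.σ y = E.σ y') (h : x' * y' = y' * x') :
    x * y = y * x := by
  have := E.comm_congr' hx hy
  rw [commutatorElement_eq_one_iff_mul_comm.mpr h] at this
  exact commutatorElement_eq_one_iff_mul_comm.mp this

end

section
variable {Γ : Type*} [Group Γ]

theorem conj_central {z : Γ} (hz : z ∈ Subgroup.center Γ) (g : Γ) : g * z * g⁻¹ = z := by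
  rw [Subgroup.mem_center_iff.mp hz g, mul_inv_cancel_right]

theorem comm_mul_commute_left {a z b : Γ} (h : z * b = b * z) : ⁅a * z, b⁆ = ⁅a, b⁆ := by
  rw [commutatorElement_def, commutatorElement_def, mul_inv_rev]
  calc a * z * b * (z⁻¹ * a⁻¹) * b⁻¹ = a * (z * b) * z⁻¹ * a⁻¹ * b⁻¹ := by group
    _ = a * (b * z) * z⁻¹ * a⁻¹ * b⁻¹ := by rw [h]
    _ = a * b * a⁻¹ * b⁻¹ := by group

theorem comm_mul_commute_right {a b z : Γ} (h : z * a = a * z) : ⁅a, b * z⁆ = ⁅a, b⁆ := by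
  have h' : z * a⁻¹ = a⁻¹ * z := by
    have := congrArg (fun x => a⁻¹ * x * a⁻¹) h
    simp only [mul_assoc, mul_inv_cancel, mul_one, inv_mul_cancel_left] at this
    exact this.symm
  rw [commutatorElement_def, commutatorElement_def, mul_inv_rev]
  calc a * (b * z) * a⁻¹ * (z⁻¹ * b⁻¹) = a * b * (z * a⁻¹) * z⁻¹ * b⁻¹ := by group
    _ = a * b * (a⁻¹ * z) * z⁻¹ * b⁻¹ := by rw [h']
    _ = a * b * a⁻¹ * b⁻¹ := by group

end

section
variable {Γ G : Type*} [Group Γ] [Group G] (E : CE Γ G) {F : Type*} [Field F]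

/-- Lifts of `X a` and `Y b` commute, if `X` is additive modulo a subgroup `R` whose lifts commute with the lifts of
`Y`, `Y` is additive, and a torus acts on both with a suitable set of pairs of weights. -/
theorem lifts_commute_pairs (X Y : F → G) (R : Subgroup G)
    (hR : ∀ {r y : Γ} {b : F}, E.σ r ∈ R → E.σ y = Y b → r * y = y * r)
    (haddX : ∀ a a', ∃ r ∈ R, X a * X a' = X (a + a') * r)
    (haddY : ∀ b b', Y (b + b') = Y b * Y b')
    (hXY : ∀ a b, Commute (X a) (Y b))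
    (T : Set (F × F))
    (hT : ∀ p ∈ T, ∃ g : G, (∀ a, ∃ r ∈ R, g * X a * g⁻¹ = X (p.1 * a) * r) ∧ (∀ b, g * Y b * g⁻¹ = Y (p.2 * b)))
    (htrip : Trip T ∨ Trip (Prod.swap '' T))
    {x y : Γ} {a b : F} (hx : E.σ x = X a) (hy : E.σ y = Y b) : x * y = y * x := by
  let c : F → F → Γ := fun a b => ⁅E.lift (X a), E.lift (Y b)⁆
  have c_eq' : ∀ {x y : Γ} {a b : F} {r : G}, r ∈ R → E.σ x = X a * r → E.σ y = Y b → ⁅x, y⁆ = c a b := by
    intro x y a b r hr hx hy
    have h1 : E.σ x = E.σ (E.lift (X a) * E.lift r) := by rw [map_mul, E.sig_lift, E.sig_lift, hx]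
    have h2 : E.σ y = E.σ (E.lift (Y b)) := by rw [E.sig_lift, hy]
    rw [E.comm_congr' h1 h2]
    exact comm_mul_commute_left (hR (by rw [E.sig_lift]; exact hr) (E.sig_lift _))
  have c_eq : ∀ {x y : Γ} {a b : F}, E.σ x = X a → E.σ y = Y b → ⁅x, y⁆ = c a b := by
    intro x y a b hx hy
    exact c_eq' R.one_mem (by rw [hx, mul_one]) hy
  have c_cen : ∀ a b, c a b ∈ Subgroup.center Γ := by
    intro a b
    apply E.comm_mem_center
    rw [E.sig_lift, E.sig_lift]
    exact hXY a b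
  have hl : ∀ a a' b, c (a + a') b = c a b * c a' b := by
    intro a a' b
    obtain ⟨r, hr, hrr⟩ := haddX a a'
    have h : E.σ (E.lift (X a) * E.lift (X a')) = X (a + a') * r := by
      rw [map_mul, E.sig_lift, E.sig_lift, hrr]
    rw [← c_eq' hr h (E.sig_lift _), comm_mul_left_of_central (c_cen a' b)]
  have hr : ∀ a b b', c a (b + b') = c a b * c a b' := by
    intro a b b'
    have h : E.σ (E.lift (Y b) * E.lift (Y b')) = Y (b + b') := by rw [map_mul, E.sig_lift, E.sig_lift, haddY]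
    rw [← c_eq (E.sig_lift _) h, comm_mul_right_of_central (c_cen a b')]
  have hinv : ∀ p ∈ T, ∀ a b, c (p.1 * a) (p.2 * b) = c a b := by
    intro p hp a b
    obtain ⟨g, hg1, hg2⟩ := hT p hp
    obtain ⟨r, hr, hrr⟩ := hg1 a
    have e1 : E.σ (E.lift g * E.lift (X a) * (E.lift g)⁻¹) = X (p.1 * a) * r := by
      rw [map_mul, map_mul, map_inv, E.sig_lift, E.sig_lift, hrr]
    have e2 : E.σ (E.lift g * E.lift (Y b) * (E.lift g)⁻¹) = Y (p.2 * b) := by
      rw [map_mul, map_mul, map_inv, E.sig_lift, E.sig_lift, hg2]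
    rw [← c_eq' hr e1 e2, ← conj_comm]
    exact conj_central (c_cen a b) _
  have h1 : c a b = 1 := by
    rcases htrip with ht | ht
    · exact pairing_eq_one_of_pairs c hl hr T hinv ht a b
    · refine pairing_eq_one_of_pairs' c hl hr (Prod.swap '' T) ?_ ht a b
      rintro _ ⟨p, hp, rfl⟩ a b
      exact hinv p hp a b
  rw [← c_eq hx hy] at h1
  exact commutatorElement_eq_one_iff_mul_comm.mp h1

end

end Cfsg.Agent.Lib.Helper3.CExt
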