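import Mathlib
import Cfsg.Agent.Lib.Helper3.CExt1
set_option autoImplicit false
set_option linter.unusedSectionVars false

/-!
Canonical lifts of an additive one-parameter subgroup to a central extension, defined by an element of a torus.
-/

namespace Cfsg.Agent.Lib.Helper3.CExt

open Cfsg.Agent.Lib.Helper3.StU
open scoped commutatorElement

section
variable {Γ G : Type*} [Group Γ] [Group G] {F : Type*} [Field F]

/-- data for the canonical lift of an additive one-parameter subgroup -/
structure CanData (E : CE Γ G) (X : F → G) where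
  /-- additivity -/
  add : ∀ a b, X (a + b) = X a * X b
  /-- the element of the torus -/
  g₀ : G
  /-- its weight -/
  ν₀ : F
  /-- the weight is not one -/
  hν : ν₀ ≠ 1
  /-- the action -/
  conj₀ : ∀ a, g₀ * X a * g₀⁻¹ = X (ν₀ * a)
  /-- lifts commute -/
  comm : ∀ {x y : Γ} {a b : F}, E.σ x = X a → E.σ y = X b → x * y = y * x

namespace CanData

variable {E : CE Γ G} {X : F → G} (D : CanData E X)

/-- the canonical lift -/
noncomputable def L (b : F) : Γ := ⁅E.lift D.g₀, E.lift (X (b / (D.ν₀ - 1)))⁆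

include D in
theorem X_zero : X 0 = 1 := by
  have := D.add 0 0
  rw [add_zero] at this
  exact (mul_eq_left.mp this.symm)

include D in
theorem X_neg (a : F) : X (-a) = (X a)⁻¹ := by
  apply eq_inv_of_mul_eq_one_left
  rw [← D.add, neg_add_cancel, D.X_zero]

theorem sig_L (b : F) : E.σ (D.L b) = X b := by
  unfold L
  have h : D.ν₀ - 1 ≠ 0 := sub_ne_zero.mpr D.hν
  rw [map_commutatorElement, E.sig_lift, E.sig_lift, commutatorElement_def, D.conj₀, ← D.X_neg, ← D.add]
  congr 1
  field_simp
  ring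

theorem L_add (b b' : F) : D.L (b + b') = D.L b * D.L b' := by
  have h1 : D.L (b + b') = ⁅E.lift D.g₀,
      E.lift (X (b / (D.ν₀ - 1))) * E.lift (X (b' / (D.ν₀ - 1)))⁆ := by
    apply E.comm_congr' rfl
    rw [map_mul, E.sig_lift, E.sig_lift, E.sig_lift, ← D.add, add_div]
  rw [h1, comm_mul_right_eq]
  have h2 : E.lift (X (b / (D.ν₀ - 1))) * D.L b' = D.L b' * E.lift (X (b / (D.ν₀ - 1))) :=
    D.comm (E.sig_lift _) (D.sig_L b')
  show D.L b * (E.lift (X (b / (D.ν₀ - 1))) * D.L b' * (E.lift (X (b / (D.ν₀ - 1))))⁻¹) = _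
  rw [h2, mul_inv_cancel_right]

theorem L_zero : D.L 0 = 1 := by
  have := D.L_add 0 0
  rw [add_zero] at this
  exact (mul_eq_left.mp this.symm)

theorem L_neg (b : F) : D.L (-b) = (D.L b)⁻¹ := by
  apply eq_inv_of_mul_eq_one_left
  rw [← D.L_add, neg_add_cancel, D.L_zero]

theorem L_comm (b b' : F) : D.L b * D.L b' = D.L b' * D.L b := by
  rw [← D.L_add, ← D.L_add, add_comm]

/-- the canonical lifts are permuted by the lifts of the elements of the torus -/
theorem L_conj {g : Γ} {k : F} (hc : Commute (E.σ g) D.g₀) (hk : ∀ a, E.σ g * X a * (E.σ g)⁻¹ = X (k * a)) (b : F) :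
    g * D.L b * g⁻¹ = D.L (k * b) := by
  unfold L
  rw [conj_comm]
  apply E.comm_congr'
  · rw [map_mul, map_mul, map_inv, E.sig_lift, hc.eq, mul_inv_cancel_right]
  · rw [map_mul, map_mul, map_inv, E.sig_lift, E.sig_lift, hk, mul_div_assoc]

theorem eq_L_mul {x : Γ} {b : F} (hx : E.σ x = X b) : ∃ k ∈ E.σ.ker, x = D.L b * k :=
  E.exists_ker_mul (by rw [hx, D.sig_L])

end CanData

end

end Cfsg.Agent.Lib.Helper3.CExt
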