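import Mathlib
import Cfsg.Agent.Lib.Helper3.CExt2
set_option autoImplicit false
set_option linter.unusedSectionVars false

/-!
Unipotent groups with three layers normalized by a torus: in a central extension, the lifts of the two deepest layers
commute, and the lifts of the deepest layer are central in the preimage of the unipotent group.
-/

namespace Cfsg.Agent.Lib.Helper3.CExt

open Cfsg.Agent.Lib.Helper3.StU
open scoped commutatorElement

/-- a unipotent group with three layers, normalized by a torus -/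
structure U3Data (F G : Type*) [Field F] [Group G] where
  /-- the first layer -/
  X1 : F → G
  /-- the second layer -/
  X2 : F → G
  /-- the third layer -/
  X3 : F → G
  a2 : ∀ a b, X2 (a + b) = X2 a * X2 b
  a3 : ∀ a b, X3 (a + b) = X3 a * X3 b
  c23 : ∀ a b, X2 a * X3 b = X3 b * X2 a
  c13 : ∀ a b, X1 a * X3 b = X3 b * X1 a
  c12 : ∀ a b, ∃ c, X1 a * X2 b * (X1 a)⁻¹ = X2 b * X3 c
  m11 : ∀ a a', ∃ b c, X1 a * X1 a' = X1 (a + a') * (X2 b * X3 c)
  inj : ∀ b c, X2 b * X3 c = 1 → b = 0 ∧ c = 0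
  /-- the elements of the torus, with their three weights -/
  Tor : Set (G × F × F × F)
  tor1 : ∀ t ∈ Tor, ∀ a, t.1 * X1 a * t.1⁻¹ = X1 (t.2.1 * a)
  tor2 : ∀ t ∈ Tor, ∀ a, t.1 * X2 a * t.1⁻¹ = X2 (t.2.2.1 * a)
  tor3 : ∀ t ∈ Tor, ∀ a, t.1 * X3 a * t.1⁻¹ = X3 (t.2.2.2 * a)
  torc : ∀ t ∈ Tor, ∀ t' ∈ Tor, Commute t.1 t'.1

section
variable {F G : Type*} [Field F] [Group G] (D : U3Data F G)

/-- pairs of weights -/
def U3Data.W11 : Set (F × F) := {p | ∃ t ∈ D.Tor, p = (t.2.1, t.2.1)}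
/-- pairs of weights -/
def U3Data.W22 : Set (F × F) := {p | ∃ t ∈ D.Tor, p = (t.2.2.1, t.2.2.1)}
/-- pairs of weights -/
def U3Data.W33 : Set (F × F) := {p | ∃ t ∈ D.Tor, p = (t.2.2.2, t.2.2.2)}
/-- pairs of weights -/
def U3Data.W12 : Set (F × F) := {p | ∃ t ∈ D.Tor, p = (t.2.1, t.2.2.1)}
/-- pairs of weights -/
def U3Data.W13 : Set (F × F) := {p | ∃ t ∈ D.Tor, p = (t.2.1, t.2.2.2)}
/-- pairs of weights -/
def U3Data.W23 : Set (F × F) := {p | ∃ t ∈ D.Tor, p = (t.2.2.1, t.2.2.2)}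

/-- the hypotheses on the weights -/
structure U3Data.Hyp : Prop where
  h33 : Trip D.W33
  h22 : Trip D.W22
  h11 : Trip D.W11
  h23 : Trip D.W23 ∨ Trip (Prod.swap '' D.W23)
  h13 : Trip D.W13 ∨ Trip (Prod.swap '' D.W13)
  h12 : Trip D.W12 ∨ Trip (Prod.swap '' D.W12)
  t2 : ∃ t ∈ D.Tor, t.2.2.1 ≠ 1
  t3 : ∃ t ∈ D.Tor, t.2.2.2 ≠ 1

theorem U3Data.X2_zero : D.X2 0 = 1 := by
  have := D.a2 0 0
  rw [add_zero] at this
  exact (mul_eq_left.mp this.symm)

theorem U3Data.X3_zero : D.X3 0 = 1 := by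
  have := D.a3 0 0
  rw [add_zero] at this
  exact (mul_eq_left.mp this.symm)

theorem U3Data.X2_neg (a : F) : D.X2 (-a) = (D.X2 a)⁻¹ := by
  apply eq_inv_of_mul_eq_one_left
  rw [← D.a2, neg_add_cancel, D.X2_zero]

theorem U3Data.X3_neg (a : F) : D.X3 (-a) = (D.X3 a)⁻¹ := by
  apply eq_inv_of_mul_eq_one_left
  rw [← D.a3, neg_add_cancel, D.X3_zero]

theorem U3Data.c22 (a b : F) : D.X2 a * D.X2 b = D.X2 b * D.X2 a := by
  rw [← D.a2, ← D.a2, add_comm]

theorem U3Data.c33 (a b : F) : D.X3 a * D.X3 b = D.X3 b * D.X3 a := by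
  rw [← D.a3, ← D.a3, add_comm]

theorem U3Data.mul23 (b c b' c' : F) :
    (D.X2 b * D.X3 c) * (D.X2 b' * D.X3 c') = D.X2 (b + b') * D.X3 (c + c') := by
  rw [D.a2, D.a3]
  calc D.X2 b * D.X3 c * (D.X2 b' * D.X3 c') = D.X2 b * (D.X3 c * D.X2 b') * D.X3 c' := by group
    _ = D.X2 b * (D.X2 b' * D.X3 c) * D.X3 c' := by rw [D.c23 b' c]
    _ = D.X2 b * D.X2 b' * (D.X3 c * D.X3 c') := by group

theorem U3Data.inv23 (b c : F) : (D.X2 b * D.X3 c)⁻¹ = D.X2 (-b) * D.X3 (-c) := by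
  apply inv_eq_of_mul_eq_one_right
  rw [D.mul23, add_neg_cancel, add_neg_cancel, D.X2_zero, D.X3_zero, one_mul]

theorem U3Data.inj23 {b c b' c' : F} (h : D.X2 b * D.X3 c = D.X2 b' * D.X3 c') : b = b' ∧ c = c' := by
  have h1 : (D.X2 b * D.X3 c) * (D.X2 b' * D.X3 c')⁻¹ = 1 := by rw [h, mul_inv_cancel]
  rw [D.inv23, D.mul23] at h1
  obtain ⟨h2, h3⟩ := D.inj _ _ h1
  exact ⟨by linear_combination h2, by linear_combination h3⟩

/-- the product of the two deepest layers -/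
def U3Data.U2 : Subgroup G where
  carrier := {g | ∃ b c, g = D.X2 b * D.X3 c}
  mul_mem' := by
    rintro _ _ ⟨b, c, rfl⟩ ⟨b', c', rfl⟩
    exact ⟨_, _, D.mul23 b c b' c'⟩
  one_mem' := ⟨0, 0, by rw [D.X2_zero, D.X3_zero, one_mul]⟩
  inv_mem' := by
    rintro _ ⟨b, c, rfl⟩
    exact ⟨_, _, D.inv23 b c⟩

theorem U3Data.mem_U2 {g : G} : g ∈ D.U2 ↔ ∃ b c, g = D.X2 b * D.X3 c := Iff.rfl

end

section
variable {F G Γ : Type*} [Field F] [Group G] [Group Γ] (D : U3Data F G) (E : CE Γ G) (H : D.Hyp)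

include H

/-- lifts of the third layer commute -/
theorem U3Data.comm33 {x y : Γ} {a b : F} (hx : E.σ x = D.X3 a) (hy : E.σ y = D.X3 b) : x * y = y * x := by
  refine lifts_commute_pairs E D.X3 D.X3 ⊥ ?_ ?_ D.a3 (fun a b => D.c33 a b) D.W33 ?_ (Or.inl H.h33) hx hy
  · intro r y b hr _
    rw [Subgroup.mem_bot] at hr
    exact (E.ker_comm (MonoidHom.mem_ker.mpr hr) y).symm
  · intro a a'
    exact ⟨1, Subgroup.one_mem _, by rw [mul_one, D.a3]⟩
  · rintro _ ⟨t, ht, rfl⟩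
    exact ⟨t.1, fun a => ⟨1, Subgroup.one_mem _, by rw [mul_one]; exact D.tor3 t ht a⟩, D.tor3 t ht⟩

/-- lifts of the second layer commute -/
theorem U3Data.comm22 {x y : Γ} {a b : F} (hx : E.σ x = D.X2 a) (hy : E.σ y = D.X2 b) : x * y = y * x := by
  refine lifts_commute_pairs E D.X2 D.X2 ⊥ ?_ ?_ D.a2 (fun a b => D.c22 a b) D.W22 ?_ (Or.inl H.h22) hx hy
  · intro r y b hr _
    rw [Subgroup.mem_bot] at hr
    exact (E.ker_comm (MonoidHom.mem_ker.mpr hr) y).symm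
  · intro a a'
    exact ⟨1, Subgroup.one_mem _, by rw [mul_one, D.a2]⟩
  · rintro _ ⟨t, ht, rfl⟩
    exact ⟨t.1, fun a => ⟨1, Subgroup.one_mem _, by rw [mul_one]; exact D.tor2 t ht a⟩, D.tor2 t ht⟩

/-- lifts of the second and the third layer commute -/
theorem U3Data.comm23 {x y : Γ} {a b : F} (hx : E.σ x = D.X2 a) (hy : E.σ y = D.X3 b) : x * y = y * x := by
  refine lifts_commute_pairs E D.X2 D.X3 ⊥ ?_ ?_ D.a3 (fun a b => D.c23 a b) D.W23 ?_ H.h23 hx hy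
  · intro r y b hr _
    rw [Subgroup.mem_bot] at hr
    exact (E.ker_comm (MonoidHom.mem_ker.mpr hr) y).symm
  · intro a a'
    exact ⟨1, Subgroup.one_mem _, by rw [mul_one, D.a2]⟩
  · rintro _ ⟨t, ht, rfl⟩
    exact ⟨t.1, fun a => ⟨1, Subgroup.one_mem _, by rw [mul_one]; exact D.tor2 t ht a⟩, D.tor3 t ht⟩

/-- lifts of elements of the two deepest layers commute with the lifts of the third layer -/
theorem U3Data.commU2_3 {r y : Γ} {b : F} (hr : E.σ r ∈ D.U2) (hy : E.σ y = D.X3 b) : r * y = y * r := by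
  obtain ⟨b', c', hbc⟩ := hr
  have h1 : E.σ r = E.σ (E.lift (D.X2 b') * E.lift (D.X3 c')) := by
    rw [map_mul, E.sig_lift, E.sig_lift, hbc]
  apply E.commute_congr h1 rfl
  have e1 := D.comm23 E H (E.sig_lift (D.X2 b')) hy
  have e2 := D.comm33 E H (E.sig_lift (D.X3 c')) hy
  rw [mul_assoc, e2, ← mul_assoc, e1, mul_assoc]

/-- lifts of the first and the third layer commute -/
theorem U3Data.comm13 {x y : Γ} {a b : F} (hx : E.σ x = D.X1 a) (hy : E.σ y = D.X3 b) : x * y = y * x := by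
  refine lifts_commute_pairs E D.X1 D.X3 D.U2 ?_ ?_ D.a3 (fun a b => D.c13 a b) D.W13 ?_ H.h13 hx hy
  · intro r y b hr hy
    exact D.commU2_3 E H hr hy
  · intro a a'
    obtain ⟨b, c, h⟩ := D.m11 a a'
    exact ⟨_, ⟨b, c, rfl⟩, h⟩
  · rintro _ ⟨t, ht, rfl⟩
    exact ⟨t.1, fun a => ⟨1, Subgroup.one_mem _, by rw [mul_one]; exact D.tor1 t ht a⟩, D.tor3 t ht⟩

/-- the preimage of the two deepest layers is commutative -/
theorem U3Data.commU2 {y y' : Γ} (hy : E.σ y ∈ D.U2) (hy' : E.σ y' ∈ D.U2) : y * y' = y' * y := by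
  obtain ⟨b, c, hbc⟩ := hy
  obtain ⟨b', c', hbc'⟩ := hy'
  have h1 : E.σ y = E.σ (E.lift (D.X2 b) * E.lift (D.X3 c)) := by
    rw [map_mul, E.sig_lift, E.sig_lift, hbc]
  have h2 : E.σ y' = E.σ (E.lift (D.X2 b') * E.lift (D.X3 c')) := by
    rw [map_mul, E.sig_lift, E.sig_lift, hbc']
  apply E.commute_congr h1 h2
  have e22 : Commute (E.lift (D.X2 b)) (E.lift (D.X2 b')) := D.comm22 E H (E.sig_lift _) (E.sig_lift _)
  have e23 : Commute (E.lift (D.X2 b)) (E.lift (D.X3 c')) := D.comm23 E H (E.sig_lift _) (E.sig_lift _)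
  have e32 : Commute (E.lift (D.X3 c)) (E.lift (D.X2 b')) := (D.comm23 E H (E.sig_lift _) (E.sig_lift _)).symm
  have e33 : Commute (E.lift (D.X3 c)) (E.lift (D.X3 c')) := D.comm33 E H (E.sig_lift _) (E.sig_lift _)
  exact ((e22.mul_right e23).mul_left (e32.mul_right e33)).eq

end

end Cfsg.Agent.Lib.Helper3.CExt
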