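import Mathlib
import Cfsg.Agent.Lib.Helper3.CExt3
set_option autoImplicit false
set_option linter.unusedSectionVars false

/-!
Unipotent groups with three layers normalized by a torus: the canonical lifts of the two deepest layers, and the
projection of the preimage of these layers onto the kernel of a central extension.
-/

namespace Cfsg.Agent.Lib.Helper3.CExt

open Cfsg.Agent.Lib.Helper3.StU
open scoped commutatorElement

section
variable {F G Γ : Type*} [Field F] [Group G] [Group Γ] (D : U3Data F G) (E : CE Γ G) (H : D.Hyp)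

/-- the data for the canonical lifts of the second layer -/
noncomputable def U3Data.can2 : CanData E D.X2 where
  add := D.a2
  g₀ := (Classical.choose H.t2).1
  ν₀ := (Classical.choose H.t2).2.2.1
  hν := (Classical.choose_spec H.t2).2
  conj₀ := D.tor2 _ (Classical.choose_spec H.t2).1
  comm := fun hx hy => D.comm22 E H hx hy

/-- the data for the canonical lifts of the third layer -/
noncomputable def U3Data.can3 : CanData E D.X3 where
  add := D.a3
  g₀ := (Classical.choose H.t3).1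
  ν₀ := (Classical.choose H.t3).2.2.2
  hν := (Classical.choose_spec H.t3).2
  conj₀ := D.tor3 _ (Classical.choose_spec H.t3).1
  comm := fun hx hy => D.comm33 E H hx hy

/-- the canonical lifts of the second layer -/
noncomputable def U3Data.L2 (b : F) : Γ := (D.can2 E H).L b

/-- the canonical lifts of the third layer -/
noncomputable def U3Data.L3 (c : F) : Γ := (D.can3 E H).L c

/-- the canonical lifts of the product of the two deepest layers -/
noncomputable def U3Data.Lc (b c : F) : Γ := D.L2 E H b * D.L3 E H c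

theorem U3Data.sig_L2 (b : F) : E.σ (D.L2 E H b) = D.X2 b := (D.can2 E H).sig_L b

theorem U3Data.sig_L3 (c : F) : E.σ (D.L3 E H c) = D.X3 c := (D.can3 E H).sig_L c

theorem U3Data.sig_Lc (b c : F) : E.σ (D.Lc E H b c) = D.X2 b * D.X3 c := by
  unfold U3Data.Lc
  rw [map_mul, D.sig_L2, D.sig_L3]

theorem U3Data.sig_Lc_mem (b c : F) : E.σ (D.Lc E H b c) ∈ D.U2 := ⟨b, c, D.sig_Lc E H b c⟩

theorem U3Data.L2_add (b b' : F) : D.L2 E H (b + b') = D.L2 E H b * D.L2 E H b' := (D.can2 E H).L_add b b'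

theorem U3Data.L3_add (c c' : F) : D.L3 E H (c + c') = D.L3 E H c * D.L3 E H c' := (D.can3 E H).L_add c c'

theorem U3Data.L2_zero : D.L2 E H 0 = 1 := (D.can2 E H).L_zero

theorem U3Data.L3_zero : D.L3 E H 0 = 1 := (D.can3 E H).L_zero

theorem U3Data.L23_comm (b c : F) : D.L2 E H b * D.L3 E H c = D.L3 E H c * D.L2 E H b :=
  D.comm23 E H (D.sig_L2 E H b) (D.sig_L3 E H c)

theorem U3Data.Lc_mul (b c b' c' : F) : D.Lc E H b c * D.Lc E H b' c' = D.Lc E H (b + b') (c + c') := by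
  unfold U3Data.Lc
  rw [D.L2_add, D.L3_add]
  calc D.L2 E H b * D.L3 E H c * (D.L2 E H b' * D.L3 E H c')
      = D.L2 E H b * (D.L3 E H c * D.L2 E H b') * D.L3 E H c' := by group
    _ = D.L2 E H b * (D.L2 E H b' * D.L3 E H c) * D.L3 E H c' := by rw [D.L23_comm E H b' c]
    _ = D.L2 E H b * D.L2 E H b' * (D.L3 E H c * D.L3 E H c') := by group

theorem U3Data.Lc_zero : D.Lc E H 0 0 = 1 := by
  unfold U3Data.Lc
  rw [D.L2_zero, D.L3_zero, one_mul]

theorem U3Data.Lc_inv (b c : F) : (D.Lc E H b c)⁻¹ = D.Lc E H (-b) (-c) := by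
  apply inv_eq_of_mul_eq_one_right
  rw [D.Lc_mul, add_neg_cancel, add_neg_cancel, D.Lc_zero]

theorem U3Data.Lc_zero_left (c : F) : D.Lc E H 0 c = D.L3 E H c := by
  unfold U3Data.Lc
  rw [D.L2_zero, one_mul]

theorem U3Data.Lc_zero_right (b : F) : D.Lc E H b 0 = D.L2 E H b := by
  unfold U3Data.Lc
  rw [D.L3_zero, mul_one]

/-- the canonical lifts are permuted by the lifts of the elements of the torus -/
theorem U3Data.Lc_conj_tor {t : G × F × F × F} (ht : t ∈ D.Tor) {g : Γ} (hg : E.σ g = t.1) (b c : F) :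
    g * D.Lc E H b c * g⁻¹ = D.Lc E H (t.2.2.1 * b) (t.2.2.2 * c) := by
  have e2 : g * D.L2 E H b * g⁻¹ = D.L2 E H (t.2.2.1 * b) := by
    apply (D.can2 E H).L_conj
    · rw [hg]
      exact D.torc t ht _ (Classical.choose_spec H.t2).1
    · intro a
      rw [hg]
      exact D.tor2 t ht a
  have e3 : g * D.L3 E H c * g⁻¹ = D.L3 E H (t.2.2.2 * c) := by
    apply (D.can3 E H).L_conj
    · rw [hg]
      exact D.torc t ht _ (Classical.choose_spec H.t3).1
    · intro a
      rw [hg]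
      exact D.tor3 t ht a
  unfold U3Data.Lc
  rw [← e2, ← e3]
  group

theorem U3Data.Lc_eq_zero {b c : F} (h : D.Lc E H b c ∈ E.σ.ker) : b = 0 ∧ c = 0 := by
  rw [MonoidHom.mem_ker, D.sig_Lc] at h
  exact D.inj b c h

/-- the coordinates on the product of the two deepest layers -/
noncomputable def U3Data.co (g : G) : F × F := by
  classical
  exact if h : ∃ p : F × F, g = D.X2 p.1 * D.X3 p.2 then Classical.choose h else (0, 0)

theorem U3Data.co_spec (b c : F) : D.co (D.X2 b * D.X3 c) = (b, c) := by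
  classical
  have h : ∃ p : F × F, D.X2 b * D.X3 c = D.X2 p.1 * D.X3 p.2 := ⟨(b, c), rfl⟩
  unfold U3Data.co
  rw [dif_pos h]
  have := D.inj23 (Classical.choose_spec h)
  exact Prod.ext this.1.symm this.2.symm

/-- the projection onto the kernel -/
noncomputable def U3Data.kc (w : Γ) : Γ := (D.Lc E H (D.co (E.σ w)).1 (D.co (E.σ w)).2)⁻¹ * w

theorem U3Data.kc_eq {w : Γ} {b c : F} (hw : E.σ w = D.X2 b * D.X3 c) : D.kc E H w = (D.Lc E H b c)⁻¹ * w := by
  unfold U3Data.kc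
  rw [hw, D.co_spec]

theorem U3Data.kc_mem_ker {w : Γ} (hw : E.σ w ∈ D.U2) : D.kc E H w ∈ E.σ.ker := by
  obtain ⟨b, c, hbc⟩ := hw
  rw [D.kc_eq E H hbc, MonoidHom.mem_ker, map_mul, map_inv, D.sig_Lc, hbc, inv_mul_cancel]

theorem U3Data.eq_Lc_mul_kc {w : Γ} {b c : F} (hw : E.σ w = D.X2 b * D.X3 c) :
    w = D.Lc E H b c * D.kc E H w := by
  rw [D.kc_eq E H hw, mul_inv_cancel_left]

theorem U3Data.kc_Lc_mul (b c : F) {k : Γ} (hk : k ∈ E.σ.ker) : D.kc E H (D.Lc E H b c * k) = k := by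
  have h : E.σ (D.Lc E H b c * k) = D.X2 b * D.X3 c := by
    rw [map_mul, D.sig_Lc, MonoidHom.mem_ker.mp hk, mul_one]
  rw [D.kc_eq E H h, inv_mul_cancel_left]

theorem U3Data.kc_Lc (b c : F) : D.kc E H (D.Lc E H b c) = 1 := by
  have := D.kc_Lc_mul E H b c (Subgroup.one_mem _)
  rwa [mul_one] at this

theorem U3Data.kc_mul {w w' : Γ} (hw : E.σ w ∈ D.U2) (hw' : E.σ w' ∈ D.U2) :
    D.kc E H (w * w') = D.kc E H w * D.kc E H w' := by
  obtain ⟨b, c, hbc⟩ := hw
  obtain ⟨b', c', hbc'⟩ := hw'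
  have h1 := D.eq_Lc_mul_kc E H hbc
  have h2 := D.eq_Lc_mul_kc E H hbc'
  have hk : D.kc E H w ∈ E.σ.ker := D.kc_mem_ker E H ⟨b, c, hbc⟩
  have hk' : D.kc E H w' ∈ E.σ.ker := D.kc_mem_ker E H ⟨b', c', hbc'⟩
  have h3 : w * w' = D.Lc E H (b + b') (c + c') * (D.kc E H w * D.kc E H w') := by
    rw [← D.Lc_mul]
    nth_rewrite 1 [h1, h2]
    have := E.ker_comm hk (D.Lc E H b' c')
    calc D.Lc E H b c * D.kc E H w * (D.Lc E H b' c' * D.kc E H w')
        = D.Lc E H b c * (D.kc E H w * D.Lc E H b' c') * D.kc E H w' := by group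
      _ = D.Lc E H b c * (D.Lc E H b' c' * D.kc E H w) * D.kc E H w' := by rw [this]
      _ = D.Lc E H b c * D.Lc E H b' c' * (D.kc E H w * D.kc E H w') := by group
  rw [h3]
  exact D.kc_Lc_mul E H _ _ (Subgroup.mul_mem _ hk hk')

theorem U3Data.kc_one : D.kc E H 1 = 1 := by
  have := D.kc_Lc E H 0 0
  rwa [D.Lc_zero] at this

theorem U3Data.kc_inv {w : Γ} (hw : E.σ w ∈ D.U2) : D.kc E H w⁻¹ = (D.kc E H w)⁻¹ := by
  have hw' : E.σ w⁻¹ ∈ D.U2 := by
    rw [map_inv]
    exact D.U2.inv_mem hw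
  have := D.kc_mul E H hw hw'
  rw [mul_inv_cancel, D.kc_one] at this
  exact eq_inv_of_mul_eq_one_right this.symm

theorem U3Data.kc_conj_tor {t : G × F × F × F} (ht : t ∈ D.Tor) {g : Γ} (hg : E.σ g = t.1) {w : Γ}
    (hw : E.σ w ∈ D.U2) : D.kc E H (g * w * g⁻¹) = D.kc E H w := by
  obtain ⟨b, c, hbc⟩ := hw
  have h1 := D.eq_Lc_mul_kc E H hbc
  have hk : D.kc E H w ∈ E.σ.ker := D.kc_mem_ker E H ⟨b, c, hbc⟩
  have h2 : g * w * g⁻¹ = D.Lc E H (t.2.2.1 * b) (t.2.2.2 * c) * D.kc E H w := by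
    nth_rewrite 1 [h1]
    rw [← D.Lc_conj_tor E H ht hg]
    have := E.ker_comm hk g
    calc g * (D.Lc E H b c * D.kc E H w) * g⁻¹ = g * D.Lc E H b c * (D.kc E H w * g⁻¹) := by group
      _ = g * D.Lc E H b c * (g⁻¹ * D.kc E H w) := by rw [← E.ker_comm hk g⁻¹]
      _ = g * D.Lc E H b c * g⁻¹ * D.kc E H w := by group
  rw [h2]
  exact D.kc_Lc_mul E H _ _ hk

theorem U3Data.eq_Lc_of_kc {w : Γ} (hw : E.σ w ∈ D.U2) (h : D.kc E H w = 1) : ∃ b c, w = D.Lc E H b c := by
  obtain ⟨b, c, hbc⟩ := hw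
  refine ⟨b, c, ?_⟩
  have := D.eq_Lc_mul_kc E H hbc
  rwa [h, mul_one] at this

end

end Cfsg.Agent.Lib.Helper3.CExt
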