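import Mathlib
import Cfsg.Agent.Lib.Helper3.CExt4
set_option autoImplicit false
set_option linter.unusedSectionVars false

/-!
Unipotent groups with three layers normalized by a torus: the commutators of the lifts of the first layer with the
canonical lifts of the second layer are canonical lifts of the third layer.
-/

namespace Cfsg.Agent.Lib.Helper3.CExt

open Cfsg.Agent.Lib.Helper3.StU
open scoped commutatorElement

section
variable {F G Γ : Type*} [Field F] [Group G] [Group Γ] (D : U3Data F G) (E : CE Γ G) (H : D.Hyp)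

/-- the commutator of a lift of an element of the first layer and a canonical lift of the second layer -/
noncomputable def U3Data.phi (a b : F) : Γ := ⁅E.lift (D.X1 a), D.L2 E H b⁆

theorem U3Data.comm_X1_X2 (a b : F) : ∃ c, ⁅D.X1 a, D.X2 b⁆ = D.X3 c := by
  obtain ⟨c, hc⟩ := D.c12 a b
  refine ⟨c, ?_⟩
  rw [commutatorElement_def, hc, D.c23, mul_inv_cancel_right]

theorem U3Data.sig_phi (a b : F) : ∃ c, E.σ (D.phi E H a b) = D.X3 c := by
  obtain ⟨c, hc⟩ := D.comm_X1_X2 a b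
  refine ⟨c, ?_⟩
  unfold U3Data.phi
  rw [map_commutatorElement, E.sig_lift, D.sig_L2, hc]

theorem U3Data.X3_mem_U2 (c : F) : D.X3 c ∈ D.U2 := ⟨0, c, by rw [D.X2_zero, one_mul]⟩

theorem U3Data.X2_mem_U2 (b : F) : D.X2 b ∈ D.U2 := ⟨b, 0, by rw [D.X3_zero, mul_one]⟩

theorem U3Data.sig_phi_mem (a b : F) : E.σ (D.phi E H a b) ∈ D.U2 := by
  obtain ⟨c, hc⟩ := D.sig_phi E H a b
  rw [hc]
  exact D.X3_mem_U2 c

theorem U3Data.phi_eq {x : Γ} {a : F} {u : G} (hu : u ∈ D.U2) (hx : E.σ x = D.X1 a * u) (b : F) :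
    ⁅x, D.L2 E H b⁆ = D.phi E H a b := by
  have h1 : E.σ x = E.σ (E.lift (D.X1 a) * E.lift u) := by rw [map_mul, E.sig_lift, E.sig_lift, hx]
  rw [E.comm_congr' h1 rfl]
  apply comm_mul_commute_left
  apply D.commU2 E H
  · rw [E.sig_lift]; exact hu
  · rw [D.sig_L2]; exact D.X2_mem_U2 b

theorem U3Data.phi_add_left (a a' b : F) : D.phi E H (a + a') b = D.phi E H a b * D.phi E H a' b := by
  obtain ⟨b₀, c₀, h⟩ := D.m11 a a'
  have h1 : E.σ (E.lift (D.X1 a) * E.lift (D.X1 a')) = D.X1 (a + a') * (D.X2 b₀ * D.X3 c₀) := by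
    rw [map_mul, E.sig_lift, E.sig_lift, h]
  rw [← D.phi_eq E H ⟨b₀, c₀, rfl⟩ h1 b, comm_mul_left_eq]
  obtain ⟨c, hc⟩ := D.sig_phi E H a' b
  have h2 : E.lift (D.X1 a) * D.phi E H a' b = D.phi E H a' b * E.lift (D.X1 a) :=
    D.comm13 E H (E.sig_lift _) hc
  show E.lift (D.X1 a) * D.phi E H a' b * (E.lift (D.X1 a))⁻¹ * D.phi E H a b = _
  rw [h2, mul_inv_cancel_right]
  exact D.commU2 E H (D.sig_phi_mem E H a' b) (D.sig_phi_mem E H a b)

theorem U3Data.phi_add_right (a b b' : F) : D.phi E H a (b + b') = D.phi E H a b * D.phi E H a b' := by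
  unfold U3Data.phi
  rw [D.L2_add, comm_mul_right_eq]
  have h2 : D.L2 E H b * D.phi E H a b' = D.phi E H a b' * D.L2 E H b := by
    apply D.commU2 E H
    · rw [D.sig_L2]; exact D.X2_mem_U2 b
    · exact D.sig_phi_mem E H a b'
  show D.phi E H a b * (D.L2 E H b * D.phi E H a b' * (D.L2 E H b)⁻¹) = _
  rw [h2, mul_inv_cancel_right]
  rfl

theorem U3Data.phi_tor {t : G × F × F × F} (ht : t ∈ D.Tor) {g : Γ} (hg : E.σ g = t.1) (a b : F) :
    g * D.phi E H a b * g⁻¹ = D.phi E H (t.2.1 * a) (t.2.2.1 * b) := by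
  have h1 : E.σ (g * E.lift (D.X1 a) * g⁻¹) = D.X1 (t.2.1 * a) * 1 := by
    rw [map_mul, map_mul, map_inv, E.sig_lift, hg, D.tor1 t ht, mul_one]
  have h2 := D.Lc_conj_tor E H ht hg b 0
  rw [mul_zero, D.Lc_zero_right, D.Lc_zero_right] at h2
  unfold U3Data.phi
  rw [conj_comm, h2]
  exact D.phi_eq E H (Subgroup.one_mem _) h1 _

/-- the commutators of the lifts of the first layer with the canonical lifts of the second layer are canonical
lifts -/
theorem U3Data.kc_phi (a b : F) : D.kc E H (D.phi E H a b) = 1 := by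
  have hl : ∀ a a' b, D.kc E H (D.phi E H (a + a') b) = D.kc E H (D.phi E H a b) * D.kc E H (D.phi E H a' b) := by
    intro a a' b
    rw [D.phi_add_left, D.kc_mul E H (D.sig_phi_mem E H a b) (D.sig_phi_mem E H a' b)]
  have hr : ∀ a b b', D.kc E H (D.phi E H a (b + b')) = D.kc E H (D.phi E H a b) * D.kc E H (D.phi E H a b') := by
    intro a b b'
    rw [D.phi_add_right, D.kc_mul E H (D.sig_phi_mem E H a b) (D.sig_phi_mem E H a b')]
  have hinv : ∀ p ∈ D.W12, ∀ a b, D.kc E H (D.phi E H (p.1 * a) (p.2 * b)) = D.kc E H (D.phi E H a b) := by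
    rintro _ ⟨t, ht, rfl⟩ a b
    rw [← D.phi_tor E H ht (E.sig_lift t.1), D.kc_conj_tor E H ht (E.sig_lift t.1) (D.sig_phi_mem E H a b)]
  rcases H.h12 with ht | ht
  · exact pairing_eq_one_of_pairs (fun a b => D.kc E H (D.phi E H a b)) hl hr D.W12 hinv ht a b
  · refine pairing_eq_one_of_pairs' (fun a b => D.kc E H (D.phi E H a b)) hl hr (Prod.swap '' D.W12) ?_ ht a b
    rintro _ ⟨p, hp, rfl⟩ a b
    exact hinv p hp a b

theorem U3Data.phi_eq_L3 (a b : F) : ∃ c, D.phi E H a b = D.L3 E H c := by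
  obtain ⟨c, hc⟩ := D.sig_phi E H a b
  have hc' : E.σ (D.phi E H a b) = D.X2 0 * D.X3 c := by rw [hc, D.X2_zero, one_mul]
  have := D.eq_Lc_mul_kc E H hc'
  rw [D.kc_phi, mul_one, D.Lc_zero_left] at this
  exact ⟨c, this⟩

/-- the canonical lifts are permuted by the lifts of the elements of the unipotent group -/
theorem U3Data.conj_Lc {x : Γ} {a : F} {u : G} (hu : u ∈ D.U2) (hx : E.σ x = D.X1 a * u) (b c : F) :
    ∃ c', x * D.Lc E H b c * x⁻¹ = D.Lc E H b c' := by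
  obtain ⟨c₀, hc₀⟩ := D.phi_eq_L3 E H a b
  refine ⟨c₀ + c, ?_⟩
  have h1 : x * D.L2 E H b * x⁻¹ = D.L3 E H c₀ * D.L2 E H b := by
    have := D.phi_eq E H hu hx b
    rw [hc₀, commutatorElement_def] at this
    rw [← this]
    group
  have h2 : x * D.L3 E H c * x⁻¹ = D.L3 E H c := by
    have hxU : ∃ k ∈ E.σ.ker, x = E.lift (D.X1 a) * E.lift u * k :=
      E.exists_ker_mul (by rw [map_mul, E.sig_lift, E.sig_lift, hx])
    obtain ⟨k, hk, rfl⟩ := hxU
    have e1 : E.lift (D.X1 a) * D.L3 E H c = D.L3 E H c * E.lift (D.X1 a) :=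
      D.comm13 E H (E.sig_lift _) (D.sig_L3 E H c)
    have e2 : E.lift u * D.L3 E H c = D.L3 E H c * E.lift u :=
      D.commU2_3 E H (by rw [E.sig_lift]; exact hu) (D.sig_L3 E H c)
    have e3 : k * D.L3 E H c = D.L3 E H c * k := (E.ker_comm hk _).symm
    have e4 : (E.lift (D.X1 a) * E.lift u * k) * D.L3 E H c = D.L3 E H c * (E.lift (D.X1 a) * E.lift u * k) := by
      calc (E.lift (D.X1 a) * E.lift u * k) * D.L3 E H c
          = E.lift (D.X1 a) * E.lift u * (k * D.L3 E H c) := by group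
        _ = E.lift (D.X1 a) * E.lift u * (D.L3 E H c * k) := by rw [e3]
        _ = E.lift (D.X1 a) * (E.lift u * D.L3 E H c) * k := by group
        _ = E.lift (D.X1 a) * (D.L3 E H c * E.lift u) * k := by rw [e2]
        _ = (E.lift (D.X1 a) * D.L3 E H c) * E.lift u * k := by group
        _ = (D.L3 E H c * E.lift (D.X1 a)) * E.lift u * k := by rw [e1]
        _ = D.L3 E H c * (E.lift (D.X1 a) * E.lift u * k) := by group
    rw [e4, mul_inv_cancel_right]
  have h3 : x * D.Lc E H b c * x⁻¹ = (x * D.L2 E H b * x⁻¹) * (x * D.L3 E H c * x⁻¹) := by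
    unfold U3Data.Lc
    group
  rw [h3, h1, h2]
  unfold U3Data.Lc
  rw [D.L3_add, ← mul_assoc, D.L23_comm E H b c₀]

theorem U3Data.kc_conj {x : Γ} {a : F} {u : G} (hu : u ∈ D.U2) (hx : E.σ x = D.X1 a * u) {w : Γ}
    (hw : E.σ w ∈ D.U2) : D.kc E H (x * w * x⁻¹) = D.kc E H w := by
  obtain ⟨b, c, hbc⟩ := hw
  have h1 := D.eq_Lc_mul_kc E H hbc
  have hk : D.kc E H w ∈ E.σ.ker := D.kc_mem_ker E H ⟨b, c, hbc⟩
  obtain ⟨c', hc'⟩ := D.conj_Lc E H hu hx b c
  have h2 : x * w * x⁻¹ = D.Lc E H b c' * D.kc E H w := by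
    nth_rewrite 1 [h1]
    rw [← hc']
    calc x * (D.Lc E H b c * D.kc E H w) * x⁻¹ = x * D.Lc E H b c * (D.kc E H w * x⁻¹) := by group
      _ = x * D.Lc E H b c * (x⁻¹ * D.kc E H w) := by rw [← E.ker_comm hk x⁻¹]
      _ = x * D.Lc E H b c * x⁻¹ * D.kc E H w := by group
  rw [h2]
  exact D.kc_Lc_mul E H _ _ hk

end

end Cfsg.Agent.Lib.Helper3.CExt
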