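import Mathlib
import Cfsg.Agent.Lib.Helper3.CExt5
set_option autoImplicit false
set_option linter.unusedSectionVars false

/-!
Unipotent groups with three layers normalized by a torus: in a central extension, the derived subgroup of the preimage
of the unipotent group meets the kernel trivially.
-/

namespace Cfsg.Agent.Lib.Helper3.CExt

open Cfsg.Agent.Lib.Helper3.StU
open scoped commutatorElement

/-- the subgroup `U` is the unipotent group with the three layers of `D` -/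
structure U3Data.IsUnip {F G : Type*} [Field F] [Group G] (D : U3Data F G) (U : Subgroup G) : Prop where
  mem : ∀ g ∈ U, ∃ a, ∃ u ∈ D.U2, g = D.X1 a * u
  X1_mem : ∀ a, D.X1 a ∈ U
  U2_le : D.U2 ≤ U
  comm : ∀ g ∈ U, ∀ g' ∈ U, ⁅g, g'⁆ ∈ D.U2

section
variable {F G Γ : Type*} [Field F] [Group G] [Group Γ] (D : U3Data F G) (E : CE Γ G) (H : D.Hyp)
  {U : Subgroup G} (hU : D.IsUnip U)

/-- the projection of the commutator onto the kernel -/
noncomputable def U3Data.Psi (x x' : Γ) : Γ := D.kc E H ⁅x, x'⁆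

include hU

theorem U3Data.sig_comm_mem {x x' : Γ} (hx : E.σ x ∈ U) (hx' : E.σ x' ∈ U) : E.σ ⁅x, x'⁆ ∈ D.U2 := by
  rw [map_commutatorElement]
  exact hU.comm _ hx _ hx'

theorem U3Data.sig_conj_mem {x w : Γ} (hx : E.σ x ∈ U) (hw : E.σ w ∈ D.U2) : E.σ (x * w * x⁻¹) ∈ D.U2 := by
  have h1 := hU.comm _ hx _ (hU.U2_le hw)
  have h2 : E.σ (x * w * x⁻¹) = ⁅E.σ x, E.σ w⁆ * E.σ w := by
    rw [map_mul, map_mul, map_inv, commutatorElement_def]
    group
  rw [h2]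
  exact D.U2.mul_mem h1 hw

theorem U3Data.Psi_mul_left {x y z : Γ} (hx : E.σ x ∈ U) (hy : E.σ y ∈ U) (hz : E.σ z ∈ U) :
    D.Psi E H (x * y) z = D.Psi E H y z * D.Psi E H x z := by
  obtain ⟨a, u, hu, hxa⟩ := hU.mem _ hx
  unfold U3Data.Psi
  rw [comm_mul_left_eq, D.kc_mul E H (D.sig_conj_mem E hU hx (D.sig_comm_mem E hU hy hz)) (D.sig_comm_mem E hU hx hz),
    D.kc_conj E H hu hxa (D.sig_comm_mem E hU hy hz)]

theorem U3Data.Psi_U2_left {y z : Γ} (hy : E.σ y ∈ D.U2) (hz : E.σ z ∈ U) : D.Psi E H y z = 1 := by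
  obtain ⟨a, u, hu, hza⟩ := hU.mem _ hz
  have hy' : E.σ y⁻¹ ∈ D.U2 := by
    rw [map_inv]
    exact D.U2.inv_mem hy
  have e : ⁅y, z⁆ = y * (z * y⁻¹ * z⁻¹) := by
    rw [commutatorElement_def]
    group
  unfold U3Data.Psi
  rw [e, D.kc_mul E H hy (D.sig_conj_mem E hU hz hy'), D.kc_conj E H hu hza hy', D.kc_inv E H hy, mul_inv_cancel]

theorem U3Data.Psi_symm {x z : Γ} (hx : E.σ x ∈ U) (hz : E.σ z ∈ U) : D.Psi E H x z = (D.Psi E H z x)⁻¹ := by
  unfold U3Data.Psi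
  rw [← D.kc_inv E H (D.sig_comm_mem E hU hz hx), commutatorElement_inv]

omit hU in
theorem U3Data.Psi_congr {x x' z z' : Γ} (h : E.σ x = E.σ x') (h' : E.σ z = E.σ z') :
    D.Psi E H x z = D.Psi E H x' z' := by
  unfold U3Data.Psi
  rw [E.comm_congr' h h']

/-- the pairing on the first layer -/
noncomputable def U3Data.psi (a a' : F) : Γ := D.Psi E H (E.lift (D.X1 a)) (E.lift (D.X1 a'))

theorem U3Data.lift_X1_mem (a : F) : E.σ (E.lift (D.X1 a)) ∈ U := by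
  rw [E.sig_lift]
  exact hU.X1_mem a

theorem U3Data.Psi_eq_psi_left {x z : Γ} {a : F} {u : G} (hu : u ∈ D.U2) (hx : E.σ x = D.X1 a * u)
    (hz : E.σ z ∈ U) : D.Psi E H x z = D.Psi E H (E.lift (D.X1 a)) z := by
  have h1 : E.σ x = E.σ (E.lift (D.X1 a) * E.lift u) := by rw [map_mul, E.sig_lift, E.sig_lift, hx]
  have hu' : E.σ (E.lift u) ∈ D.U2 := by rw [E.sig_lift]; exact hu
  rw [D.Psi_congr E H h1 rfl, D.Psi_mul_left E H hU (D.lift_X1_mem E hU a) (hU.U2_le hu') hz,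
    D.Psi_U2_left E H hU hu' hz, one_mul]

theorem U3Data.Psi_eq_psi {x x' : Γ} {a a' : F} {u u' : G} (hu : u ∈ D.U2) (hx : E.σ x = D.X1 a * u)
    (hu' : u' ∈ D.U2) (hx' : E.σ x' = D.X1 a' * u') : D.Psi E H x x' = D.psi E H a a' := by
  have hxU : E.σ x ∈ U := by
    rw [hx]
    exact U.mul_mem (hU.X1_mem a) (hU.U2_le hu)
  have hxU' : E.σ x' ∈ U := by
    rw [hx']
    exact U.mul_mem (hU.X1_mem a') (hU.U2_le hu')
  rw [D.Psi_eq_psi_left E H hU hu hx hxU', D.Psi_symm E H hU (D.lift_X1_mem E hU a) hxU',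
    D.Psi_eq_psi_left E H hU hu' hx' (D.lift_X1_mem E hU a), ← D.Psi_symm E H hU (D.lift_X1_mem E hU a)
      (D.lift_X1_mem E hU a')]
  rfl

theorem U3Data.psi_mem_ker (a a' : F) : D.psi E H a a' ∈ E.σ.ker :=
  D.kc_mem_ker E H (D.sig_comm_mem E hU (D.lift_X1_mem E hU a) (D.lift_X1_mem E hU a'))

theorem U3Data.psi_symm (a a' : F) : D.psi E H a a' = (D.psi E H a' a)⁻¹ :=
  D.Psi_symm E H hU (D.lift_X1_mem E hU a) (D.lift_X1_mem E hU a')

theorem U3Data.psi_add_left (a a' a'' : F) :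
    D.psi E H (a + a') a'' = D.psi E H a a'' * D.psi E H a' a'' := by
  obtain ⟨b₀, c₀, h⟩ := D.m11 a a'
  have h1 : E.σ (E.lift (D.X1 a) * E.lift (D.X1 a')) = D.X1 (a + a') * (D.X2 b₀ * D.X3 c₀) := by
    rw [map_mul, E.sig_lift, E.sig_lift, h]
  have h2 : E.σ (E.lift (D.X1 a'')) = D.X1 a'' * 1 := by rw [E.sig_lift, mul_one]
  rw [← D.Psi_eq_psi E H hU ⟨b₀, c₀, rfl⟩ h1 (Subgroup.one_mem _) h2,
    D.Psi_mul_left E H hU (D.lift_X1_mem E hU a) (D.lift_X1_mem E hU a') (D.lift_X1_mem E hU a'')]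
  exact E.ker_comm (D.psi_mem_ker E H hU a a'') _

theorem U3Data.psi_add_right (a a' a'' : F) :
    D.psi E H a (a' + a'') = D.psi E H a a' * D.psi E H a a'' := by
  rw [D.psi_symm E H hU a (a' + a''), D.psi_add_left E H hU, mul_inv_rev, ← D.psi_symm E H hU, ← D.psi_symm E H hU]
  exact E.ker_comm (D.psi_mem_ker E H hU a a') _

theorem U3Data.psi_tor {t : G × F × F × F} (ht : t ∈ D.Tor) (a a' : F) :
    D.psi E H (t.2.1 * a) (t.2.1 * a') = D.psi E H a a' := by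
  set g := E.lift t.1 with hg
  have hg' : E.σ g = t.1 := E.sig_lift _
  have h1 : E.σ (g * E.lift (D.X1 a) * g⁻¹) = D.X1 (t.2.1 * a) * 1 := by
    rw [map_mul, map_mul, map_inv, hg', E.sig_lift, D.tor1 t ht, mul_one]
  have h2 : E.σ (g * E.lift (D.X1 a') * g⁻¹) = D.X1 (t.2.1 * a') * 1 := by
    rw [map_mul, map_mul, map_inv, hg', E.sig_lift, D.tor1 t ht, mul_one]
  rw [← D.Psi_eq_psi E H hU (Subgroup.one_mem _) h1 (Subgroup.one_mem _) h2]
  unfold U3Data.psi U3Data.Psi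
  rw [← conj_comm, D.kc_conj_tor E H ht hg' (D.sig_comm_mem E hU (D.lift_X1_mem E hU a) (D.lift_X1_mem E hU a'))]

theorem U3Data.psi_eq_one (a a' : F) : D.psi E H a a' = 1 := by
  refine pairing_eq_one_of_pairs (D.psi E H) (D.psi_add_left E H hU) (D.psi_add_right E H hU) D.W11 ?_ H.h11 a a'
  rintro _ ⟨t, ht, rfl⟩ a a'
  exact D.psi_tor E H hU ht a a'

/-- the commutator of two lifts of elements of the unipotent group is a canonical lift -/
theorem U3Data.comm_eq_Lc {x x' : Γ} (hx : E.σ x ∈ U) (hx' : E.σ x' ∈ U) : ∃ b c, ⁅x, x'⁆ = D.Lc E H b c := by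
  obtain ⟨a, u, hu, hxa⟩ := hU.mem _ hx
  obtain ⟨a', u', hu', hxa'⟩ := hU.mem _ hx'
  apply D.eq_Lc_of_kc E H (D.sig_comm_mem E hU hx hx')
  have := D.Psi_eq_psi E H hU hu hxa hu' hxa'
  rw [D.psi_eq_one E H hU] at this
  exact this

include H in
/-- The derived subgroup of the preimage of the unipotent group meets the kernel trivially. -/
theorem U3Data.eq_one_of_mem_commutator {z : Γ} (hz : z ∈ E.σ.ker)
    (hz' : z ∈ ⁅U.comap E.σ, U.comap E.σ⁆) : z = 1 := by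
  let M : Subgroup Γ :=
    { carrier := {x | ∃ b c, x = D.Lc E H b c}
      mul_mem' := by
        rintro _ _ ⟨b, c, rfl⟩ ⟨b', c', rfl⟩
        exact ⟨_, _, D.Lc_mul E H b c b' c'⟩
      one_mem' := ⟨0, 0, (D.Lc_zero E H).symm⟩
      inv_mem' := by
        rintro _ ⟨b, c, rfl⟩
        exact ⟨_, _, D.Lc_inv E H b c⟩ }
  have hle : ⁅U.comap E.σ, U.comap E.σ⁆ ≤ M := by
    rw [Subgroup.commutator_le]
    intro x hx x' hx'
    exact D.comm_eq_Lc E H hU hx hx'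
  obtain ⟨b, c, rfl⟩ := hle hz'
  obtain ⟨hb, hc⟩ := D.Lc_eq_zero E H hz
  rw [hb, hc, D.Lc_zero]

end

end Cfsg.Agent.Lib.Helper3.CExt
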