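import Mathlib
import Cfsg.Agent.Lib.Helper3.CExt1
set_option autoImplicit false
set_option linter.unusedSectionVars false

/-!
Central extensions: the preimage of an elementary abelian group of order `8` that is normalized by an element of order
`7` acting without fixed points is commutative.
-/

namespace Cfsg.Agent.Lib.Helper3.CExt

open Cfsg.Agent.Lib.Helper3.StU
open scoped commutatorElement

theorem zmod7_cases (j : ZMod 7) : j = 0 ∨ j = 1 ∨ j = 2 ∨ j = 3 ∨ j = 4 ∨ j = 5 ∨ j = 6 := by
  revert j; decide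

theorem eq_of_mul_eq_one_of_sq {A : Type*} [Group A] {a b : A} (hb : b * b = 1) (h : a * b = 1) : a = b := by
  calc a = a * (b * b) := by rw [hb, mul_one]
    _ = (a * b) * b := by rw [mul_assoc]
    _ = b := by rw [h, one_mul]

/-- a function on the integers modulo `7` with values of order two that satisfies the relations of the Fano plane is
trivial -/
theorem fano_eq_one {A : Type*} [Group A] (e : ZMod 7 → A) (h2 : ∀ d, e d * e d = 1) (h0 : e 0 = 1)
    (hneg : ∀ d, e (-d) = e d) (j : ZMod 7) (hj0 : j ≠ 0) (hj1 : j ≠ 1)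
    (R : ∀ k, e (j - k) = e k * e (k - 1)) : ∀ d, e d = 1 := by
  have e4 : e 4 = e 3 := hneg 3
  have e5 : e 5 = e 2 := hneg 2
  have e6 : e 6 = e 1 := hneg 1
  have key : e 1 = 1 ∧ e 2 = 1 ∧ e 3 = 1 := by
    rcases zmod7_cases j with rfl | rfl | rfl | rfl | rfl | rfl | rfl
    · exact absurd rfl hj0
    · exact absurd rfl hj1
    · have r2 : e 0 = e 2 * e 1 := R 2
      have r3 : e 6 = e 3 * e 2 := R 3
      have r4 : e 5 = e 4 * e 3 := R 4
      rw [h0] at r2
      have h21 : e 2 = e 1 := eq_of_mul_eq_one_of_sq (h2 1) r2.symm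
      rw [e6, h21] at r3
      have h3 : e 3 = 1 := by simpa using r3
      rw [e5, e4, h3, mul_one] at r4
      rw [r4] at h21
      exact ⟨h21.symm, r4, h3⟩
    · have r1 : e 2 = e 1 * e 0 := R 1
      have r2 : e 1 = e 2 * e 1 := R 2
      have r3 : e 0 = e 3 * e 2 := R 3
      rw [h0, mul_one] at r1
      have h2' : e 2 = 1 := by simpa using r2
      rw [h2'] at r1
      rw [h0, h2', mul_one] at r3
      exact ⟨r1.symm, h2', r3.symm⟩
    · have r1 : e 3 = e 1 * e 0 := R 1
      have r2 : e 2 = e 2 * e 1 := R 2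
      have r3 : e 1 = e 3 * e 2 := R 3
      rw [h0, mul_one] at r1
      have h1 : e 1 = 1 := by simpa using r2
      rw [h1] at r1
      rw [h1, r1, one_mul] at r3
      exact ⟨h1, r3.symm, r1⟩
    · have r1 : e 4 = e 1 * e 0 := R 1
      have r2 : e 3 = e 2 * e 1 := R 2
      have r3 : e 2 = e 3 * e 2 := R 3
      rw [h0, mul_one, e4] at r1
      have h3 : e 3 = 1 := by simpa using r3
      rw [h3] at r1
      rw [h3, ← r1, mul_one] at r2
      exact ⟨r1.symm, r2.symm, h3⟩
    · have r1 : e 5 = e 1 * e 0 := R 1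
      have r2 : e 4 = e 2 * e 1 := R 2
      have r3 : e 3 = e 3 * e 2 := R 3
      rw [h0, mul_one, e5] at r1
      have h2' : e 2 = 1 := by simpa using r3
      rw [h2'] at r1
      rw [e4, h2', ← r1, mul_one] at r2
      exact ⟨r1.symm, h2', r2⟩
  obtain ⟨h1, h2', h3⟩ := key
  intro d
  rcases zmod7_cases d with rfl | rfl | rfl | rfl | rfl | rfl | rfl
  · exact h0
  · exact h1
  · exact h2'
  · exact h3
  · rw [e4, h3]
  · rw [e5, h2']
  · rw [e6, h1]

section
variable {Γ G : Type*} [Group Γ] [Group G] (E : CE Γ G)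

/-- the commutator pairing of lifts -/
noncomputable def CE.C (a b : G) : Γ := ⁅E.lift a, E.lift b⁆

theorem CE.comm_eq_C (x y : Γ) : ⁅x, y⁆ = E.C (E.σ x) (E.σ y) :=
  E.comm_congr' (E.sig_lift _).symm (E.sig_lift _).symm

theorem CE.C_mem_center {a b : G} (h : Commute a b) : E.C a b ∈ Subgroup.center Γ := by
  apply E.comm_mem_center
  rw [E.sig_lift, E.sig_lift]
  exact h

theorem CE.C_mul_left {a a' b : G} (h : Commute a' b) : E.C (a * a') b = E.C a b * E.C a' b := by
  have h1 : E.σ (E.lift a * E.lift a') = E.σ (E.lift (a * a')) := by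
    rw [map_mul, E.sig_lift, E.sig_lift, E.sig_lift]
  unfold CE.C
  rw [← E.comm_congr' h1 rfl, comm_mul_left_of_central (E.C_mem_center h)]

theorem CE.C_mul_right {a b b' : G} (h : Commute a b') : E.C a (b * b') = E.C a b * E.C a b' := by
  have h1 : E.σ (E.lift b * E.lift b') = E.σ (E.lift (b * b')) := by
    rw [map_mul, E.sig_lift, E.sig_lift, E.sig_lift]
  unfold CE.C
  rw [← E.comm_congr' rfl h1, comm_mul_right_of_central (E.C_mem_center h)]

theorem CE.C_self (a : G) : E.C a a = 1 := commutatorElement_self _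

theorem CE.C_one_right (a : G) : E.C a 1 = 1 := by
  have h1 : E.σ (E.lift (1 : G)) = E.σ (1 : Γ) := by rw [E.sig_lift, map_one]
  unfold CE.C
  rw [E.comm_congr' rfl h1, comm_one_right]

theorem CE.C_symm (a b : G) : E.C a b = (E.C b a)⁻¹ := (commutatorElement_inv _ _).symm

theorem CE.C_conj (g : G) {a b : G} (h : Commute a b) : E.C (g * a * g⁻¹) (g * b * g⁻¹) = E.C a b := by
  have h1 : E.σ (E.lift (g * a * g⁻¹)) = E.σ (E.lift g * E.lift a * (E.lift g)⁻¹) := by
    rw [map_mul, map_mul, map_inv, E.sig_lift, E.sig_lift, E.sig_lift]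
  have h2 : E.σ (E.lift (g * b * g⁻¹)) = E.σ (E.lift g * E.lift b * (E.lift g)⁻¹) := by
    rw [map_mul, map_mul, map_inv, E.sig_lift, E.sig_lift, E.sig_lift]
  unfold CE.C
  rw [E.comm_congr' h1 h2, ← conj_comm]
  exact conj_central (E.C_mem_center h) _

/-- The preimage of an elementary abelian group of order `8`, normalized by an element of order `7` that does not
centralize it, is commutative. -/
theorem CE.e8_lifts_commute (S : Subgroup G) (hS2 : ∀ x ∈ S, x * x = 1) (hcard : Nat.card S = 8) (g : G)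
    (hg7 : g ^ 7 = 1) (hgS : ∀ x ∈ S, g * x * g⁻¹ ∈ S) (t₀ : G) (ht₀ : t₀ ∈ S) (hne : g * t₀ * g⁻¹ ≠ t₀)
    {x y : Γ} (hx : E.σ x ∈ S) (hy : E.σ y ∈ S) : x * y = y * x := by
  classical
  -- `S` is commutative
  have hcomm : ∀ a ∈ S, ∀ b ∈ S, Commute a b := by
    intro a ha b hb
    have h1 := hS2 a ha
    have h2 := hS2 b hb
    have h3 := hS2 (a * b) (S.mul_mem ha hb)
    show a * b = b * a
    calc a * b = (b * b) * (a * b) * (a * a) := by rw [h1, h2, one_mul, mul_one]
      _ = b * (b * a) * ((b * a) * a) := by group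
      _ = b * ((b * a) * (b * a)) * a := by group
      _ = b * a := by rw [hS2 (b * a) (S.mul_mem hb ha), mul_one]
  have hinv : ∀ a ∈ S, a⁻¹ = a := fun a ha => inv_eq_of_mul_eq_one_left (hS2 a ha)
  -- the orbit of `t₀`
  let tn : ℕ → G := fun n => g ^ n * t₀ * (g ^ n)⁻¹
  have tn_succ : ∀ n, tn (n + 1) = g * tn n * g⁻¹ := by
    intro n
    show g ^ (n + 1) * t₀ * (g ^ (n + 1))⁻¹ = g * (g ^ n * t₀ * (g ^ n)⁻¹) * g⁻¹
    rw [pow_succ']
    group
  have tn_mod : ∀ n, tn n = tn (n % 7) := by
    intro n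
    show g ^ n * t₀ * (g ^ n)⁻¹ = g ^ (n % 7) * t₀ * (g ^ (n % 7))⁻¹
    rw [pow_eq_pow_mod n hg7]
  let t : ZMod 7 → G := fun i => tn i.val
  have t_succ : ∀ i, t (i + 1) = g * t i * g⁻¹ := by
    intro i
    have : Fact (1 < 7) := ⟨by norm_num⟩
    show tn (i + 1).val = g * tn i.val * g⁻¹
    rw [← tn_succ, ZMod.val_add, ZMod.val_one, ← tn_mod]
  have t_zero : t 0 = t₀ := by
    show g ^ (0 : ZMod 7).val * t₀ * (g ^ (0 : ZMod 7).val)⁻¹ = t₀
    rw [ZMod.val_zero, pow_zero, one_mul, inv_one, mul_one]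
  have t_add : ∀ (n : ℕ) (i : ZMod 7), t (i + n) = g ^ n * t i * (g ^ n)⁻¹ := by
    intro n
    induction n with
    | zero => intro i; simp
    | succ n ih =>
      intro i
      rw [Nat.cast_succ, ← add_assoc, t_succ, ih, pow_succ']
      group
  have t_mem : ∀ i, t i ∈ S := by
    have : ∀ n, tn n ∈ S := by
      intro n
      induction n with
      | zero =>
        show g ^ 0 * t₀ * (g ^ 0)⁻¹ ∈ S
        rw [pow_zero, one_mul, inv_one, mul_one]
        exact ht₀
      | succ n ih =>
        rw [tn_succ]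
        exact hgS _ ih
    intro i
    exact this _
  have hconj_inj : ∀ (n : ℕ) (a b : G), g ^ n * a * (g ^ n)⁻¹ = g ^ n * b * (g ^ n)⁻¹ → a = b := by
    intro n a b h
    exact mul_left_cancel (mul_right_cancel h)
  -- injectivity
  have t_inj : Function.Injective t := by
    intro i k hik
    by_contra hne'
    have h1 : t (i - k) = t₀ := by
      have e1 : t ((i - k) + (k.val : ℕ)) = t (0 + (k.val : ℕ)) := by
        rw [ZMod.natCast_zmod_val, sub_add_cancel, zero_add]
        exact hik
      rw [t_add, t_add] at e1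
      rw [← t_zero]
      exact hconj_inj _ _ _ e1
    set d := (i - k).val with hd
    have hd0 : d ≠ 0 := by
      rw [hd, Ne, ZMod.val_eq_zero, sub_eq_zero]
      exact hne'
    have hd7 : d < 7 := ZMod.val_lt _
    have hcop : Nat.Coprime d 7 := by
      rw [Nat.coprime_comm, Nat.Prime.coprime_iff_not_dvd (by norm_num)]
      intro hdvd
      exact hd0 (Nat.eq_zero_of_dvd_of_lt hdvd hd7)
    obtain ⟨m, -, hm⟩ := Nat.exists_mul_mod_eq_one_of_coprime hcop (by norm_num)
    have h2 : g ^ d * t₀ = t₀ * g ^ d := by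
      have : g ^ d * t₀ * (g ^ d)⁻¹ = t₀ := h1
      calc g ^ d * t₀ = (g ^ d * t₀ * (g ^ d)⁻¹) * g ^ d := by group
        _ = t₀ * g ^ d := by rw [this]
    have h3 : g = (g ^ d) ^ m := by
      rw [← pow_mul, pow_eq_pow_mod (d * m) hg7, hm, pow_one]
    have h4 : Commute ((g ^ d) ^ m) t₀ := (Commute.pow_left (show Commute (g ^ d) t₀ from h2) m)
    rw [← h3] at h4
    apply hne
    rw [h4.eq, mul_inv_cancel_right]
  have t₀_ne : t₀ ≠ 1 := by
    rintro rfl
    apply hne
    group
  have t_ne_one : ∀ i, t i ≠ 1 := by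
    intro i hi
    have e1 : t (0 + (i.val : ℕ)) = 1 := by
      rw [ZMod.natCast_zmod_val, zero_add]
      exact hi
    rw [t_add, t_zero] at e1
    apply t₀_ne
    have : g ^ i.val * t₀ * (g ^ i.val)⁻¹ = g ^ i.val * 1 * (g ^ i.val)⁻¹ := by
      rw [e1]
      group
    exact hconj_inj _ _ _ this
  -- the orbit exhausts the nontrivial elements
  have hfin : Finite S := Nat.finite_of_card_ne_zero (by rw [hcard]; norm_num)
  let f : Option (ZMod 7) → S := fun o => o.elim 1 (fun i => ⟨t i, t_mem i⟩)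
  have f_inj : Function.Injective f := by
    intro o o' h
    cases o with
    | none =>
      cases o' with
      | none => rfl
      | some k =>
        exfalso
        have : (1 : G) = t k := congrArg Subtype.val h
        exact t_ne_one k this.symm
    | some i =>
      cases o' with
      | none =>
        exfalso
        have : t i = (1 : G) := congrArg Subtype.val h
        exact t_ne_one i this
      | some k =>
        have : t i = t k := congrArg Subtype.val h
        rw [t_inj this]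
  have f_bij : Function.Bijective f := by
    apply f_inj.bijective_of_nat_card_le
    rw [hcard, Nat.card_eq_fintype_card, Fintype.card_option, ZMod.card]
  have hsurj : ∀ a ∈ S, a = 1 ∨ ∃ i, a = t i := by
    intro a ha
    obtain ⟨o, ho⟩ := f_bij.2 ⟨a, ha⟩
    cases o with
    | none =>
      left
      exact (congrArg Subtype.val ho).symm
    | some i =>
      right
      exact ⟨i, (congrArg Subtype.val ho).symm⟩
  -- the pairing
  have C_shift : ∀ (n : ℕ) (i k : ZMod 7), E.C (t (i + n)) (t (k + n)) = E.C (t i) (t k) := by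
    intro n i k
    rw [t_add, t_add]
    exact E.C_conj _ (hcomm _ (t_mem i) _ (t_mem k))
  have C_sq : ∀ a ∈ S, ∀ b ∈ S, E.C a b * E.C a b = 1 := by
    intro a ha b hb
    rw [← E.C_mul_right (hcomm a ha b hb), hS2 b hb, E.C_one_right]
  have C_comm : ∀ a ∈ S, ∀ b ∈ S, E.C a b = E.C b a := by
    intro a ha b hb
    rw [E.C_symm a b]
    exact inv_eq_of_mul_eq_one_left (C_sq b hb a ha)
  have C_eq : ∀ i k : ZMod 7, E.C (t i) (t k) = E.C (t 0) (t (k - i)) := by
    intro i k
    have := C_shift i.val 0 (k - i)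
    rw [ZMod.natCast_zmod_val, zero_add, sub_add_cancel] at this
    exact this
  let e : ZMod 7 → Subgroup.center Γ := fun d => ⟨E.C (t 0) (t d), E.C_mem_center (hcomm _ (t_mem 0) _ (t_mem d))⟩
  have e_val : ∀ d, (e d : Γ) = E.C (t 0) (t d) := fun d => rfl
  have he2 : ∀ d, e d * e d = 1 := by
    intro d
    apply Subtype.ext
    exact C_sq _ (t_mem 0) _ (t_mem d)
  have he0 : e 0 = 1 := by
    apply Subtype.ext
    exact E.C_self _
  have heneg : ∀ d, e (-d) = e d := by
    intro d
    apply Subtype.ext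
    show E.C (t 0) (t (-d)) = E.C (t 0) (t d)
    rw [C_comm _ (t_mem 0) _ (t_mem d), C_eq d 0, zero_sub]
  -- the relation
  have h01 : t 0 * t 1 ∈ S := S.mul_mem (t_mem 0) (t_mem 1)
  have h01ne : t 0 * t 1 ≠ 1 := by
    intro h
    have : t 0 = t 1 := by
      rw [← hinv _ (t_mem 1)]
      exact eq_inv_of_mul_eq_one_left h
    exact absurd (t_inj this) (by decide)
  obtain ⟨j, hj⟩ : ∃ j, t 0 * t 1 = t j := by
    rcases hsurj _ h01 with h | h
    · exact absurd h h01ne
    · exact h
  have hj0 : j ≠ 0 := by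
    rintro rfl
    exact t_ne_one 1 (mul_eq_left.mp hj)
  have hj1 : j ≠ 1 := by
    rintro rfl
    exact t_ne_one 0 (mul_eq_right.mp hj)
  have hR : ∀ k, e (j - k) = e k * e (k - 1) := by
    intro k
    apply Subtype.ext
    show E.C (t 0) (t (j - k)) = E.C (t 0) (t k) * E.C (t 0) (t (k - 1))
    rw [← C_eq k j, ← hj, E.C_mul_right (hcomm _ (t_mem k) _ (t_mem 1)), C_eq k 0, C_eq k 1, zero_sub]
    have h1 := congrArg Subtype.val (heneg k)
    have h2 := congrArg Subtype.val (heneg (k - 1))
    rw [e_val, e_val] at h1 h2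
    rw [h1, ← h2, neg_sub]
  have hall := fano_eq_one e he2 he0 heneg j hj0 hj1 hR
  have C_all : ∀ i k, E.C (t i) (t k) = 1 := by
    intro i k
    rw [C_eq]
    exact congrArg Subtype.val (hall (k - i))
  -- conclusion
  apply commutatorElement_eq_one_iff_mul_comm.mp
  rw [E.comm_eq_C]
  rcases hsurj _ hx with h | ⟨i, hi⟩
  · rw [h, E.C_symm, E.C_one_right, inv_one]
  · rcases hsurj _ hy with h' | ⟨k, hk⟩
    · rw [h', E.C_one_right]
    · rw [hi, hk, C_all]

end

end Cfsg.Agent.Lib.Helper3.CExt
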