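import Mathlib
import Cfsg.Agent.Lib.Helper9.LagDefs
import Cfsg.Agent.Lib.Helper2.SpIsom

/-!
# S5963 package L1 (helper3): `Sp_{2d}(F)` is transitive on pairs of complementary Lagrangians
Statement verbatim from `notes/S5963_skeleton.lean.txt`.
-/

set_option autoImplicit false

namespace Cfsg.Agent.Lib.Carve

open Cfsg.Agent.Lib.Helper9.Lag

universe u

variable {F : Type u} [Field F]

namespace L1

open Cfsg.Agent.Lib.Helper2.SpIsom Cfsg.Agent.Lib.Helper2.Symp

/-- the form as a bilinear form, with the standard symplectic form as values -/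
theorem l1_bilin_apply (d : ℕ) (u v : Fin d ⊕ Fin d → F) :
    sympBilin d F u v = Cfsg.sympForm d F u v := sympBilin_apply u v

/-- a vector of `W` orthogonal to a basis of `U` is zero -/
theorem l1_eq_zero_of_orth {d k : ℕ} (U W : Submodule F (Fin d ⊕ Fin d → F))
    (hc : IsCompl U W)
    (hW : ∀ u ∈ W, ∀ v ∈ W, Cfsg.sympForm d F u v = 0)
    (b : Module.Basis (Fin k) F U) (w : Fin d ⊕ Fin d → F) (hw : w ∈ W)
    (h : ∀ i, Cfsg.sympForm d F (b i : Fin d ⊕ Fin d → F) w = 0) : w = 0 := by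
  -- the functional `u ↦ B(u, w)` vanishes on `U`
  have hU : ∀ u : U, Cfsg.sympForm d F (u : Fin d ⊕ Fin d → F) w = 0 := by
    intro u
    have hu : (u : Fin d ⊕ Fin d → F) = ∑ i, (b.repr u i) • (b i : Fin d ⊕ Fin d → F) := by
      calc (u : Fin d ⊕ Fin d → F)
          = ((∑ i, (b.repr u i) • b i : U) : Fin d ⊕ Fin d → F) := by rw [b.sum_repr u]
        _ = ∑ i, (b.repr u i) • (b i : Fin d ⊕ Fin d → F) := by
            rw [Submodule.coe_sum]
            rfl
    rw [hu, ← l1_bilin_apply, map_sum, LinearMap.sum_apply]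
    apply Finset.sum_eq_zero
    intro i _
    rw [map_smul, LinearMap.smul_apply, l1_bilin_apply, h i, smul_zero]
  apply sympForm_nondeg w
  intro y
  rw [sympForm_swap, neg_eq_zero]
  have hy : y ∈ U ⊔ W := by
    rw [hc.sup_eq_top]
    exact Submodule.mem_top
  obtain ⟨u, hu, w', hw', rfl⟩ := Submodule.mem_sup.1 hy
  have h1 : Cfsg.sympForm d F (u + w') w =
      Cfsg.sympForm d F u w + Cfsg.sympForm d F w' w := by
    rw [← l1_bilin_apply, ← l1_bilin_apply, ← l1_bilin_apply, map_add, LinearMap.add_apply]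
  rw [h1, hU ⟨u, hu⟩, hW w' hw' w hw, add_zero]

/-- the pairing map `W → F^k` attached to a basis of `U` -/
noncomputable def l1Phi {d k : ℕ} (U W : Submodule F (Fin d ⊕ Fin d → F))
    (b : Module.Basis (Fin k) F U) : W →ₗ[F] (Fin k → F) :=
  LinearMap.pi (fun i => ((sympBilin d F) (b i : Fin d ⊕ Fin d → F)).comp W.subtype)

theorem l1Phi_apply {d k : ℕ} (U W : Submodule F (Fin d ⊕ Fin d → F))
    (b : Module.Basis (Fin k) F U) (w : W) (i : Fin k) :
    l1Phi U W b w i = Cfsg.sympForm d F (b i : Fin d ⊕ Fin d → F) (w : Fin d ⊕ Fin d → F) := by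
  unfold l1Phi
  simp only [LinearMap.pi_apply, LinearMap.comp_apply, Submodule.subtype_apply]
  exact l1_bilin_apply d _ _

theorem l1Phi_injective {d k : ℕ} (U W : Submodule F (Fin d ⊕ Fin d → F))
    (hc : IsCompl U W)
    (hW : ∀ u ∈ W, ∀ v ∈ W, Cfsg.sympForm d F u v = 0)
    (b : Module.Basis (Fin k) F U) : Function.Injective (l1Phi U W b) := by
  rw [← LinearMap.ker_eq_bot, LinearMap.ker_eq_bot']
  intro w hw0
  apply Subtype.ext
  rw [Submodule.coe_zero]
  apply l1_eq_zero_of_orth U W hc hW b (w : Fin d ⊕ Fin d → F) w.2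
  intro i
  rw [← l1Phi_apply, hw0]
  rfl

theorem l1_finrank_le {d : ℕ} (U W : Submodule F (Fin d ⊕ Fin d → F))
    (hc : IsCompl U W)
    (hW : ∀ u ∈ W, ∀ v ∈ W, Cfsg.sympForm d F u v = 0) :
    Module.finrank F W ≤ Module.finrank F U := by
  have h := LinearMap.finrank_le_finrank_of_injective
    (l1Phi_injective U W hc hW (Module.finBasis F U))
  rwa [Module.finrank_fin_fun] at h

theorem l1_finrank {d : ℕ} (U W : Submodule F (Fin d ⊕ Fin d → F))
    (h : IsLagPair d F U W) : Module.finrank F U = d ∧ Module.finrank F W = d := by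
  obtain ⟨hc, hU, hW⟩ := h
  have h1 := l1_finrank_le U W hc hW
  have h2 := l1_finrank_le W U hc.symm hU
  have h3 := Submodule.finrank_add_eq_of_isCompl hc
  rw [Module.finrank_pi, Fintype.card_sum, Fintype.card_fin] at h3
  omega

/-- the matrix with prescribed columns -/
def l1Mat {d : ℕ} (col : Fin d ⊕ Fin d → (Fin d ⊕ Fin d → F)) :
    Matrix (Fin d ⊕ Fin d) (Fin d ⊕ Fin d) F :=
  Matrix.of (fun a b => col b a)

theorem l1Mat_mulVec {d : ℕ} (col : Fin d ⊕ Fin d → (Fin d ⊕ Fin d → F))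
    (x : Fin d ⊕ Fin d → F) : (l1Mat col).mulVec x = ∑ b, x b • col b := by
  funext a
  simp only [Matrix.mulVec, dotProduct, l1Mat, Matrix.of_apply, Finset.sum_apply, Pi.smul_apply,
    smul_eq_mul]
  exact Finset.sum_congr rfl fun b _ => mul_comm _ _

theorem l1Mat_gram {d : ℕ} (col : Fin d ⊕ Fin d → (Fin d ⊕ Fin d → F)) (a b : Fin d ⊕ Fin d) :
    ((l1Mat col).transpose * Matrix.J (Fin d) F * l1Mat col) a b =
      Cfsg.sympForm d F (col a) (col b) := by
  rw [Matrix.mul_assoc]
  rfl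

theorem transitive (d : ℕ) (U W : Submodule F (Fin d ⊕ Fin d → F)) (h : IsLagPair d F U W) :
    ∃ g : Matrix.symplecticGroup (Fin d) F,
      (stdU d F).map (Matrix.toLin' (g : Matrix (Fin d ⊕ Fin d) (Fin d ⊕ Fin d) F)) = U ∧
      (stdW d F).map (Matrix.toLin' (g : Matrix (Fin d ⊕ Fin d) (Fin d ⊕ Fin d) F)) = W := by
  classical
  obtain ⟨hdU, hdW⟩ := l1_finrank U W h
  obtain ⟨hc, hU, hW⟩ := h
  -- a basis of `U` and the dual basis of `W`
  set bU : Module.Basis (Fin d) F U := Module.finBasisOfFinrankEq F U hdU with hbU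
  have hdim : Module.finrank F W = Module.finrank F (Fin d → F) := by
    rw [hdW, Module.finrank_fin_fun]
  set e : W ≃ₗ[F] (Fin d → F) :=
    LinearMap.linearEquivOfInjective (l1Phi U W bU) (l1Phi_injective U W hc hW bU) hdim with he
  have he_apply : ∀ w : W, e w = l1Phi U W bU w := fun w => rfl
  set wv : Fin d → W := fun j => e.symm (-(Pi.single j (1 : F))) with hwv
  have hpair : ∀ i j, Cfsg.sympForm d F (bU i : Fin d ⊕ Fin d → F)
      (wv j : Fin d ⊕ Fin d → F) = -(if i = j then (1 : F) else 0) := by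
    intro i j
    rw [← l1Phi_apply, ← he_apply, hwv]
    simp only [LinearEquiv.apply_symm_apply, Pi.neg_apply, Pi.single_apply]
  -- the columns
  set col : Fin d ⊕ Fin d → (Fin d ⊕ Fin d → F) :=
    Sum.elim (fun i => (bU i : Fin d ⊕ Fin d → F)) (fun j => (wv j : Fin d ⊕ Fin d → F))
    with hcol
  have hsymp : l1Mat col ∈ Matrix.symplecticGroup (Fin d) F := by
    rw [SymplecticGroup.mem_iff']
    ext a b
    rw [l1Mat_gram]
    rcases a with i | i <;> rcases b with j | j
    · simp only [hcol, Sum.elim_inl]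
      rw [hU _ (bU i).2 _ (bU j).2]
      simp [Matrix.J]
    · simp only [hcol, Sum.elim_inl, Sum.elim_inr]
      rw [hpair]
      simp [Matrix.J, Matrix.one_apply]
    · simp only [hcol, Sum.elim_inl, Sum.elim_inr]
      rw [sympForm_swap, hpair]
      simp [Matrix.J, Matrix.one_apply, eq_comm]
    · simp only [hcol, Sum.elim_inr]
      rw [hW _ (wv i).2 _ (wv j).2]
      simp [Matrix.J]
  have hmul : ∀ x : Fin d ⊕ Fin d → F, Matrix.toLin' (l1Mat col) x =
      ∑ i, x (Sum.inl i) • (bU i : Fin d ⊕ Fin d → F) +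
        ∑ j, x (Sum.inr j) • (wv j : Fin d ⊕ Fin d → F) := by
    intro x
    rw [Matrix.toLin'_apply, l1Mat_mulVec, Fintype.sum_sum_type]
    rfl
  -- `wv` spans `W`
  have hWspan : ∀ w : W, (w : Fin d ⊕ Fin d → F) =
      ∑ j, (-(e w j)) • (wv j : Fin d ⊕ Fin d → F) := by
    intro w
    have h1 : w = ∑ j, (-(e w j)) • wv j := by
      apply e.injective
      rw [map_sum]
      funext i
      simp only [Finset.sum_apply, map_smul, hwv, LinearEquiv.apply_symm_apply, Pi.smul_apply,
        Pi.neg_apply, Pi.single_apply, smul_eq_mul]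
      rw [Finset.sum_eq_single i]
      · simp
      · intro j _ hji
        simp [hji.symm]
      · intro hi
        exact absurd (Finset.mem_univ i) hi
    have h2 := congrArg (Subtype.val) h1
    rw [h2]
    simp
  have hUspan : ∀ u : U, (u : Fin d ⊕ Fin d → F) =
      ∑ i, (bU.repr u i) • (bU i : Fin d ⊕ Fin d → F) := by
    intro u
    calc (u : Fin d ⊕ Fin d → F)
        = ((∑ i, (bU.repr u i) • bU i : U) : Fin d ⊕ Fin d → F) := by rw [bU.sum_repr u]
      _ = ∑ i, (bU.repr u i) • (bU i : Fin d ⊕ Fin d → F) := by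
          rw [Submodule.coe_sum]
          rfl
  refine ⟨⟨l1Mat col, hsymp⟩, ?_, ?_⟩
  · apply le_antisymm
    · rintro _ ⟨x, hx, rfl⟩
      show Matrix.toLin' (l1Mat col) x ∈ U
      rw [hmul]
      have h0 : ∑ j, x (Sum.inr j) • (wv j : Fin d ⊕ Fin d → F) = 0 := by
        apply Finset.sum_eq_zero
        intro j _
        rw [hx j, zero_smul]
      rw [h0, add_zero]
      exact Submodule.sum_mem _ fun i _ => Submodule.smul_mem _ _ (bU i).2
    · intro u hu
      refine ⟨Sum.elim (fun i => bU.repr ⟨u, hu⟩ i) (fun _ => 0), ?_, ?_⟩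
      · intro j
        rfl
      · show Matrix.toLin' (l1Mat col) _ = u
        rw [hmul]
        simp only [Sum.elim_inl, Sum.elim_inr, zero_smul, Finset.sum_const_zero, add_zero]
        exact (hUspan ⟨u, hu⟩).symm
  · apply le_antisymm
    · rintro _ ⟨x, hx, rfl⟩
      show Matrix.toLin' (l1Mat col) x ∈ W
      rw [hmul]
      have h0 : ∑ i, x (Sum.inl i) • (bU i : Fin d ⊕ Fin d → F) = 0 := by
        apply Finset.sum_eq_zero
        intro i _
        rw [hx i, zero_smul]
      rw [h0, zero_add]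
      exact Submodule.sum_mem _ fun j _ => Submodule.smul_mem _ _ (wv j).2
    · intro w hw
      refine ⟨Sum.elim (fun _ => 0) (fun j => -(e ⟨w, hw⟩ j)), ?_, ?_⟩
      · intro i
        rfl
      · show Matrix.toLin' (l1Mat col) _ = w
        rw [hmul]
        simp only [Sum.elim_inl, Sum.elim_inr, zero_smul, Finset.sum_const_zero, zero_add]
        exact (hWspan ⟨w, hw⟩).symm

end L1

end Cfsg.Agent.Lib.Carve
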