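import Mathlib
import Cfsg.Agent.Lib.Helper9.CubeUDefs
import Cfsg.Agent.Lib.Helper5.SSOrderU2
import Cfsg.Agent.Lib.Helper5.SSOrder3

/-!
# Carve-out (U5a) for S2511: the minimal polynomial of an orthogonally indecomposable unitary matrix
-/

set_option autoImplicit false

namespace Cfsg.Agent.Lib.Helper3.U5a

open Polynomial Cfsg.Agent.S0278 Cfsg.Agent.Lib.Helper5.Wall Cfsg.Agent.Lib.Helper5.SUConj
  Cfsg.Agent.Lib.Helper5.SSOrder Cfsg.Agent.Lib.Helper5.Pal

universe u

variable {F : Type u} [Field F] [Fintype F] {q : ℕ}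

/-- evaluating at the inverse: `h(g⁻¹) g^d = (reverse h)(g)` -/
theorem aeval_inv_mul_pow {n : ℕ} (g g' : Matrix (Fin n) (Fin n) F) (h1 : g' * g = 1)
    (h : F[X]) : aeval g' h * g ^ h.natDegree = aeval g h.reverse := by
  have h2 : g * g' = 1 := mul_eq_one_comm.1 h1
  have hcomm : Commute g' g := by
    show g' * g = g * g'
    rw [h1, h2]
  have hpow : ∀ i, g' ^ i * g ^ i = 1 := by
    intro i
    rw [← hcomm.mul_pow, h1, one_pow]
  rw [aeval_eq_sum_range, aeval_eq_sum_range' (Nat.lt_succ_of_le (reverse_natDegree_le h)),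
    Finset.sum_mul]
  rw [← Finset.sum_range_reflect]
  apply Finset.sum_congr rfl
  intro i hi
  have hi' : i ≤ h.natDegree := by
    have := Finset.mem_range.1 hi
    omega
  have e1 : h.natDegree + 1 - 1 - i = h.natDegree - i := by omega
  rw [e1, coeff_reverse, revAt_le hi', smul_mul_assoc]
  congr 1
  have e2 : g ^ h.natDegree = g ^ (h.natDegree - i) * g ^ i := by
    rw [← pow_add, Nat.sub_add_cancel hi']
  rw [e2, ← mul_assoc, hpow, one_mul]

/-- the adjoint of a polynomial in a unitary matrix -/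
theorem ct_aeval_mul_pow (hF : Fintype.card F = q ^ 2) {n : ℕ} (g : Matrix (Fin n) (Fin n) F)
    (hg : ct hF g * g = 1) (h : F[X]) (h0 : h.coeff 0 ≠ 0) :
    ct hF (aeval g h) * g ^ (h.map (powQ hF)).natDegree =
      ((h.map (powQ hF)).coeff 0) • aeval g (dag hF h) := by
  have hc : (h.map (powQ hF)).coeff 0 ≠ 0 := by
    rw [coeff_map]
    exact (map_ne_zero (powQ hF)).2 h0
  rw [ct_aeval, aeval_inv_mul_pow g (ct hF g) hg]
  unfold dag rc
  rw [map_mul, aeval_C, ← smul_eq_mul ((algebraMap F (Matrix (Fin n) (Fin n) F)) _),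
    Algebra.algebraMap_eq_smul_one, smul_assoc, one_smul, smul_smul, mul_inv_cancel₀ hc,
    one_smul]

/-- nondegeneracy of the standard hermitian form -/
theorem herm_left_zero (hF : Fintype.card F = q ^ 2) {n : ℕ} (x : Fin n → F)
    (h : ∀ y, Cfsg.hermForm n F q x y = 0) : x = 0 := by
  classical
  have hq : q ≠ 0 := by
    intro h0
    rw [h0] at hF
    have := Fintype.one_lt_card (α := F)
    omega
  funext i
  have h1 := h (Pi.single i 1)
  unfold Cfsg.hermForm at h1
  rw [Finset.sum_eq_single i] at h1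
  · simpa using h1
  · intro j _ hj
    rw [Pi.single_apply, if_neg hj, zero_pow hq, mul_zero]
  · intro hi
    exact absurd (Finset.mem_univ i) hi

/-- the Fitting decomposition of a self-adjoint matrix commuting with `g` is orthogonal -/
theorem fitting_orth (hF : Fintype.card F = q ^ 2) {n : ℕ} (T : Matrix (Fin n) (Fin n) F)
    (hT : ct hF T = T) (N : ℕ)
    (hc : IsCompl (LinearMap.ker (Matrix.toLin' (T ^ N))) (LinearMap.range (Matrix.toLin' (T ^ N)))) :
    LinearMap.ker (Matrix.toLin' (T ^ N)) ⊓ orthL q (LinearMap.ker (Matrix.toLin' (T ^ N))) = ⊥ := by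
  rw [eq_bot_iff]
  rintro x ⟨hxK, hxO⟩
  rw [Submodule.mem_bot]
  apply herm_left_zero hF
  intro y
  have hy : y ∈ LinearMap.ker (Matrix.toLin' (T ^ N)) ⊔ LinearMap.range (Matrix.toLin' (T ^ N)) := by
    rw [hc.sup_eq_top]
    trivial
  obtain ⟨k, hk, r, hr, rfl⟩ := Submodule.mem_sup.1 hy
  rw [Cfsg.Agent.Lib.Helper2.Herm.herm_add_right hF, (mem_orthL.1 hxO) k hk, zero_add]
  obtain ⟨z, rfl⟩ := hr
  rw [Matrix.toLin'_apply]
  have h1 := herm_adj hF (T ^ N) x z
  rw [Cfsg.Agent.Lib.Helper5.SSOrder.ct_pow, hT] at h1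
  rw [← h1]
  have h2 : (T ^ N).mulVec x = 0 := by
    have := LinearMap.mem_ker.1 hxK
    rwa [Matrix.toLin'_apply] at this
  rw [h2]
  unfold Cfsg.hermForm
  simp

/-- the kernel of the Fitting decomposition: `μ ∣ (f * f†) ^ N` -/
theorem minpoly_dvd_pow (hF : Fintype.card F = q ^ 2) {n : ℕ} (_hn : 1 ≤ n)
    (g : Matrix (Fin n) (Fin n) F) (hg : ct hF g * g = 1)
    (hind : ∀ U : Submodule F (Fin n → F), (∀ x ∈ U, g.mulVec x ∈ U) →
      U ⊓ orthL q U = ⊥ → U = ⊥ ∨ U = ⊤)
    (f : F[X]) (_hfm : f.Monic) (hfirr : Irreducible f) (hfμ : f ∣ minpoly F g)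
    (hf0 : f.coeff 0 ≠ 0) :
    ∃ N : ℕ, minpoly F g ∣ (f * dag hF f) ^ N := by
  classical
  have hg2 : g * ct hF g = 1 := mul_eq_one_comm.1 hg
  have hcomm : Commute (ct hF g) g := by
    show ct hF g * g = g * ct hF g
    rw [hg, hg2]
  set S := aeval g f with hS
  set S' := ct hF S with hS'
  have hS'eq : S' = aeval (ct hF g) (f.map (powQ hF)) := ct_aeval hF g f
  have hgS : Commute g S := commute_aeval g g (Commute.refl g) f
  have hgS' : Commute g S' := by
    rw [hS'eq]
    exact commute_aeval g (ct hF g) hcomm.symm _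
  have hSS' : Commute S' S := commute_aeval S' g hgS'.symm f
  set T := S * S' with hT
  have hTg : Commute T g := (hgS.symm.mul_left hgS'.symm)
  have hTct : ct hF T = T := by
    rw [hT, ct_mul, hS', ct_ct]
  -- the Fitting decomposition
  obtain ⟨N, hN1, hNc⟩ := ((Filter.eventually_ge_atTop 1).and
    (LinearMap.eventually_isCompl_ker_pow_range_pow (Matrix.toLin' T))).exists
  rw [← Matrix.toLin'_pow] at hNc
  set K := LinearMap.ker (Matrix.toLin' (T ^ N)) with hK
  have hKinv : ∀ x ∈ K, g.mulVec x ∈ K := by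
    intro x hx
    rw [hK, LinearMap.mem_ker, Matrix.toLin'_apply] at hx ⊢
    rw [Matrix.mulVec_mulVec, (hTg.pow_left N).eq, ← Matrix.mulVec_mulVec, hx,
      Matrix.mulVec_zero]
  have hKorth : K ⊓ orthL q K = ⊥ := fitting_orth hF T hTct N hNc
  -- `f(g)` is singular
  have hdetS : S.det = 0 := by
    by_contra hne
    obtain ⟨ν, hν⟩ := hfμ
    have h1 : aeval g (minpoly F g) = 0 := minpoly.aeval F g
    rw [hν, map_mul] at h1
    have hunit : IsUnit S := (Matrix.isUnit_iff_isUnit_det S).2 (IsUnit.mk0 _ hne)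
    have h2 : aeval g ν = 0 := by
      apply hunit.mul_right_injective
      simp only [mul_zero]
      exact h1
    have h3 : minpoly F g ∣ ν := minpoly.dvd F g h2
    have hμne : minpoly F g ≠ 0 := minpoly.ne_zero (Matrix.isIntegral g)
    have hνne : ν ≠ 0 := by
      intro h0
      rw [h0, mul_zero] at hν
      exact hμne hν
    have h4 := natDegree_le_of_dvd h3 hνne
    rw [hν, natDegree_mul hfirr.ne_zero hνne] at h4
    have h5 : 0 < f.natDegree := hfirr.natDegree_pos
    omega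
  obtain ⟨v, hv0, hv⟩ := Matrix.exists_mulVec_eq_zero_iff.2 hdetS
  have hKne : K ≠ ⊥ := by
    intro h
    have hvK : v ∈ K := by
      rw [hK, LinearMap.mem_ker, Matrix.toLin'_apply]
      obtain ⟨M, rfl⟩ : ∃ M, N = M + 1 := ⟨N - 1, by omega⟩
      rw [pow_succ, hT, ← hSS'.eq, ← Matrix.mulVec_mulVec, ← Matrix.mulVec_mulVec, hv,
        Matrix.mulVec_zero, Matrix.mulVec_zero]
    rw [h, Submodule.mem_bot] at hvK
    exact hv0 hvK
  have hKtop : K = ⊤ := (hind K hKinv hKorth).resolve_left hKne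
  have hTN : T ^ N = 0 := by
    have h1 : Matrix.toLin' (T ^ N) = 0 := LinearMap.ker_eq_top.1 hKtop
    have h2 : Matrix.toLin' (T ^ N) = Matrix.toLin' 0 := by rw [h1, map_zero]
    exact Matrix.toLin'.injective h2
  -- back to polynomials
  refine ⟨N, ?_⟩
  apply minpoly.dvd F g
  have hL1 := ct_aeval_mul_pow hF g hg f hf0
  set c := (f.map (powQ hF)).coeff 0 with hc
  set d := (f.map (powQ hF)).natDegree with hd
  have hc0 : c ≠ 0 := by
    rw [hc, coeff_map]
    exact (map_ne_zero (powQ hF)).2 hf0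
  have h1 : c • aeval g (f * dag hF f) = T * g ^ d := by
    rw [map_mul, ← hS, hT, mul_assoc, hL1, mul_smul_comm]
  have h2 : (c • aeval g (f * dag hF f)) ^ N = 0 := by
    rw [h1, (hTg.pow_right d).mul_pow, hTN, zero_mul]
  rw [_root_.smul_pow, ← map_pow] at h2
  rcases smul_eq_zero.1 h2 with h3 | h3
  · exact absurd (pow_eq_zero_iff (n := N) (by omega) |>.1 h3) hc0
  · exact h3

theorem dag_pow (hF : Fintype.card F = q ^ 2) (f : F[X]) (k : ℕ) :
    dag hF (f ^ k) = dag hF f ^ k := by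
  induction k with
  | zero => rw [pow_zero, pow_zero, dag_one]
  | succ k ih => rw [pow_succ, pow_succ, dag_mul, ih]

end Cfsg.Agent.Lib.Helper3.U5a

namespace Cfsg.Agent.Lib.Carve

open Polynomial Cfsg.Agent.S0278 Cfsg.Agent.Lib.Helper5.Wall Cfsg.Agent.Lib.Helper5.SUConj
  Cfsg.Agent.Lib.Helper5.SSOrder Cfsg.Agent.Lib.Helper9.CubeU Cfsg.Agent.Lib.Helper5.Pal
  Cfsg.Agent.Lib.Helper3.U5a

universe u

variable {F : Type u} [Field F] [Fintype F] {q : ℕ}

namespace U5

/-- (U5a) the minimal polynomial is a power of `f` (`f = f†`) or of `f f†` (`f ≠ f†`) -/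
theorem minpoly_shape (hF : Fintype.card F = q ^ 2) {n : ℕ} (hn : 1 ≤ n)
    (g : Matrix (Fin n) (Fin n) F) (hg : ct hF g * g = 1)
    (hind : ∀ U : Submodule F (Fin n → F), (∀ x ∈ U, g.mulVec x ∈ U) →
      U ⊓ orthL q U = ⊥ → U = ⊥ ∨ U = ⊤) :
    ∃ (f : F[X]) (e : ℕ), f.Monic ∧ Irreducible f ∧ f.coeff 0 ≠ 0 ∧ 1 ≤ e ∧
      ((dag hF f = f ∧ minpoly F g = f ^ e) ∨
        (dag hF f ≠ f ∧ minpoly F g = (f * dag hF f) ^ e)) := by
  classical
  have hne : Nonempty (Fin n) := ⟨⟨0, hn⟩⟩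
  have hμmonic : (minpoly F g).Monic := minpoly.monic (Matrix.isIntegral g)
  have hμunit : ¬ IsUnit (minpoly F g) := minpoly.not_isUnit F g
  obtain ⟨f, hfm, hfirr, hfμ⟩ := exists_monic_irreducible_factor (minpoly F g) hμunit
  have hdet : g.det ≠ 0 := by
    intro h
    have := congrArg Matrix.det hg
    rw [Matrix.det_mul, h, mul_zero, Matrix.det_one] at this
    exact zero_ne_one this
  have hf0 : f.coeff 0 ≠ 0 := by
    intro h0
    have h1 : f ∣ g.charpoly := hfμ.trans (Matrix.minpoly_dvd_charpoly g)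
    have h2 : g.charpoly.eval 0 = 0 :=
      eval_eq_zero_of_dvd_of_eval_eq_zero h1 (by rw [← coeff_zero_eq_eval_zero]; exact h0)
    have h3 := Matrix.det_eq_sign_charpoly_coeff g
    rw [coeff_zero_eq_eval_zero, h2, mul_zero] at h3
    exact hdet h3
  obtain ⟨N, hN⟩ := minpoly_dvd_pow hF hn g hg hind f hfm hfirr hfμ hf0
  have hfσ0 : (f.map (powQ hF)).coeff 0 ≠ 0 := by
    rw [coeff_map]
    exact (map_ne_zero (powQ hF)).2 hf0
  have hfd_irr : Irreducible (dag hF f) := irreducible_rc (irreducible_map_powQ hF hfirr) hfσ0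
  have hfd_monic : (dag hF f).Monic := rc_monic hfσ0
  have hfd0 : (dag hF f).coeff 0 ≠ 0 := by
    intro h0
    have h1 : X ∣ dag hF f := X_dvd_iff.2 h0
    have h2 : Associated X (dag hF f) := irreducible_X.associated_of_dvd hfd_irr h1
    have h3 : (X : F[X]) = dag hF f := eq_of_monic_of_associated monic_X hfd_monic h2
    have h4 := dag_dag hF hfm hf0
    rw [← h3] at h4
    -- `dag X = ?`; avoid computing it: `f` would have `f.coeff 0 = 0`
    have h5 : (dag hF (X : F[X])).coeff 0 ≠ 0 := by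
      rw [h4]; exact hf0
    apply h5
    unfold dag rc
    rw [Polynomial.map_X, coeff_X_zero, inv_zero, C_0, zero_mul, coeff_zero]
  have hone : ¬ (minpoly F g = 1) := fun h => hμunit (h ▸ isUnit_one)
  by_cases hdag : dag hF f = f
  · rw [hdag, ← pow_two, ← pow_mul] at hN
    obtain ⟨e, he, hassoc⟩ := (dvd_prime_pow hfirr.prime _).1 hN
    have hμe : minpoly F g = f ^ e := eq_of_monic_of_associated hμmonic (hfm.pow e) hassoc
    have he1 : 1 ≤ e := by
      by_contra hlt
      have : e = 0 := by omega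
      rw [this, pow_zero] at hμe
      exact hone hμe
    exact ⟨f, e, hfm, hfirr, hf0, he1, Or.inl ⟨hdag, hμe⟩⟩
  · have hndvd : ¬ f ∣ dag hF f := by
      intro h
      have h2 : Associated f (dag hF f) := hfirr.associated_of_dvd hfd_irr h
      exact hdag (eq_of_monic_of_associated hfm hfd_monic h2).symm
    have hcop : IsCoprime f (dag hF f) := (hfirr.coprime_iff_not_dvd).2 hndvd
    rw [mul_pow] at hN
    obtain ⟨μ1, μ2, h1, h2, hμ12⟩ := exists_dvd_and_dvd_of_dvd_mul hN
    obtain ⟨a, ha, hassoc1⟩ := (dvd_prime_pow hfirr.prime _).1 h1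
    obtain ⟨b, hb, hassoc2⟩ := (dvd_prime_pow hfd_irr.prime _).1 h2
    have hμab : minpoly F g = f ^ a * dag hF f ^ b :=
      eq_of_monic_of_associated hμmonic ((hfm.pow a).mul (hfd_monic.pow b))
        (by rw [hμ12]; exact hassoc1.mul_mul hassoc2)
    -- the adjoint of `μ(g) = 0`
    have hμ0 : (minpoly F g).coeff 0 ≠ 0 := by
      rw [hμab, coeff_zero_eq_eval_zero, eval_mul, eval_pow, eval_pow,
        ← coeff_zero_eq_eval_zero, ← coeff_zero_eq_eval_zero]
      exact mul_ne_zero (pow_ne_zero _ hf0) (pow_ne_zero _ hfd0)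
    have hL1 := ct_aeval_mul_pow hF g hg (minpoly F g) hμ0
    rw [minpoly.aeval F g] at hL1
    have hct0 : ct hF (0 : Matrix (Fin n) (Fin n) F) = 0 := by
      have := ct_smul hF (0 : F) (1 : Matrix (Fin n) (Fin n) F)
      rwa [zero_smul, zero_pow (by
        intro h0
        rw [h0] at hF
        have := Fintype.one_lt_card (α := F)
        omega), zero_smul] at this
    rw [hct0, zero_mul] at hL1
    have hc0 : ((minpoly F g).map (powQ hF)).coeff 0 ≠ 0 := by
      rw [coeff_map]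
      exact (map_ne_zero (powQ hF)).2 hμ0
    have hdagμ : aeval g (dag hF (minpoly F g)) = 0 := by
      rcases smul_eq_zero.1 hL1.symm with h | h
      · exact absurd h hc0
      · exact h
    have hdvd : minpoly F g ∣ dag hF (minpoly F g) := minpoly.dvd F g hdagμ
    have hdagμ' : dag hF (minpoly F g) = dag hF f ^ a * f ^ b := by
      rw [hμab, dag_mul, dag_pow, dag_pow, dag_dag hF hfm hf0]
    rw [hdagμ'] at hdvd
    nth_rewrite 1 [hμab] at hdvd
    have hfne : f ≠ 0 := hfirr.ne_zero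
    have hfdne : dag hF f ≠ 0 := hfd_irr.ne_zero
    have hab : a ≤ b := by
      have h3 : f ^ a ∣ dag hF f ^ a * f ^ b := (dvd_mul_right _ _).trans hdvd
      have h4 : f ^ a ∣ f ^ b := (hcop.pow (m := a) (n := a)).dvd_of_dvd_mul_left h3
      exact (pow_dvd_pow_iff hfne hfirr.not_isUnit).1 h4
    have hba : b ≤ a := by
      have h3 : dag hF f ^ b ∣ dag hF f ^ a * f ^ b := (dvd_mul_left _ _).trans hdvd
      have h4 : dag hF f ^ b ∣ dag hF f ^ a :=
        (hcop.symm.pow (m := b) (n := b)).dvd_of_dvd_mul_right h3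
      exact (pow_dvd_pow_iff hfdne hfd_irr.not_isUnit).1 h4
    have heq : a = b := le_antisymm hab hba
    have hμe : minpoly F g = (f * dag hF f) ^ a := by
      rw [mul_pow, hμab, heq]
    have he1 : 1 ≤ a := by
      by_contra hlt
      have : a = 0 := by omega
      rw [this, pow_zero] at hμe
      exact hone hμe
    exact ⟨f, a, hfm, hfirr, hf0, he1, Or.inr ⟨hdag, hμe⟩⟩

end U5

end Cfsg.Agent.Lib.Carve
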