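import Mathlib
import Cfsg.Prelude.Def_ChevStructure
import Cfsg.Agent.Lib.Helper3.ChevAut17
set_option autoImplicit false
set_option linter.unusedSectionVars false
set_option linter.style.haveILetI false
open Cfsg Cfsg.Lie

/-!
Automorphisms of Chevalley groups, part 18: the index of the inner diagonal automorphisms from a diagonal form of
the Cartan matrix.
-/

namespace Cfsg.Agent.Lib.Helper3.ChevAut

open Cfsg.Agent.Lib.Helper3.ChevM Cfsg.Agent.Lib.Helper3 ChevH

theorem index_range_pw {K : Type*} [Field K] [Fintype K] {l : ℕ}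
    (P A Q P' Q' : Matrix (Fin l) (Fin l) ℤ) (d : Fin l → ℕ)
    (h : P * A * Q = Matrix.diagonal fun k => (d k : ℤ)) (hP : P * P' = 1) (hP' : P' * P = 1) (hQ : Q * Q' = 1) :
    (pw A : (Fin l → Kˣ) →* (Fin l → Kˣ)).range.index = ∏ k, Nat.gcd (Fintype.card K - 1) (d k) := by
  classical
  rw [Subgroup.index_range, card_ker_pw P A Q P' Q' d h hP hP' hQ]
  apply Finset.prod_congr rfl
  intro k _
  rw [IsCyclic.card_powMonoidHom_ker, Nat.card_eq_fintype_card, Fintype.card_units]

end Cfsg.Agent.Lib.Helper3.ChevAut
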