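import Mathlib
import Cfsg.Prelude.Def_ChevStructure
import Cfsg.Prelude.Def_KGroupFacts
import Cfsg.Agent.Lib.Helper3.ChevAut22
set_option autoImplicit false
set_option linter.unusedSectionVars false
set_option linter.style.haveILetI false
open Cfsg Cfsg.Lie

/-!
Automorphisms of Chevalley groups, part 23: the order of the outer automorphism group, for an arbitrary diagram.
-/

namespace Cfsg.Agent.Lib.Helper3.ChevAut

open Cfsg.Agent.Lib.Helper3.ChevM Cfsg.Agent.Lib.Helper3.ChevSp Cfsg.Agent.Lib.Helper3 ChevU ChevT ChevH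
open Cfsg.Agent.Lib.Helper3.ChevAt Cfsg.Agent.Lib.Helper1

section
variable {K : Type*} [Field K] {C : CDatum} {R : RelData C} (Z : GenHyp C R)
include Z

theorem pres_dAutG_pos (c : Fin C.D.rank → Kˣ) : Pres (dAut Z.V R c) (C.D.posUnipotent K) := by
  intro g hg
  unfold ChevalleyDatum.posUnipotent at hg
  refine ex_mem_of_closure _ _ ?_ _ ?_ hg
  · rintro x ⟨r, t, hr, hx⟩
    have : x = R.xU r t := Units.ext (by rw [hx, R.xU_val])
    rw [this]
    exact R.xU_mem_group r hr.1 t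
  · rintro x ⟨r, t, hr, hx⟩
    have : x = R.xU r t := Units.ext (by rw [hx, R.xU_val])
    rw [this, ex_dAut_xU Z.V R c r hr.1]
    exact xU_mem_pos Z.Y.A r hr _

theorem pres_dAutG_neg (c : Fin C.D.rank → Kˣ) : Pres (dAut Z.V R c) (C.D.negUnipotent K) := by
  intro g hg
  unfold ChevalleyDatum.negUnipotent at hg
  refine ex_mem_of_closure _ _ ?_ _ ?_ hg
  · rintro x ⟨r, t, hr, hx⟩
    have : x = R.xU r t := Units.ext (by rw [hx, R.xU_val])
    rw [this]
    exact R.xU_mem_group r hr.1 t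
  · rintro x ⟨r, t, hr, hx⟩
    have : x = R.xU r t := Units.ext (by rw [hx, R.xU_val])
    rw [this, ex_dAut_xU Z.V R c r hr.1]
    exact xU_mem_neg Z.Y.A r hr _

/-- The diagonal automorphism of a character which extends to the weight lattice is inner. -/
theorem dAutG_pw (z : Fin C.D.rank → Kˣ) :
    dAut Z.V R (pw (cartanMat C.D) z) = MulAut.conj ⟨R.tor z, R.diagonalSubgroup_le_group (R.tor_mem z)⟩ := by
  apply aut_eq_of_simple Z.Y
  intro i hi t
  have hl := R.simple_lt i hi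
  have hnl := R.neg_lt _ hl
  have h1 : rootChar C.D K z ⟨C.D.simple i, hl⟩ = pw (cartanMat C.D) z ⟨i, hi⟩ :=
    (pw_cartanMat C.D R.simple_lt z ⟨i, hi⟩).symm
  have h2 : rootChar C.D K z ⟨C.D.neg (C.D.simple i), hnl⟩ = (pw (cartanMat C.D) z ⟨i, hi⟩)⁻¹ := by
    rw [← h1]
    show ∏ k, z k ^ C.D.cartan k.val (C.D.neg (C.D.simple i)) = (∏ k, z k ^ C.D.cartan k.val (C.D.simple i))⁻¹
    rw [← Finset.prod_inv_distrib]
    apply Finset.prod_congr rfl
    intro k _
    rw [Z.cneg k.val k.isLt i hi, zpow_neg]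
  constructor
  · rw [ex_dAut_xU Z.V R _ _ hl, ex_conj _ (R.xU_mem_group _ hl _), wtC_simple Z.V _ i hi]
    show _ = R.tor z * _ * (R.tor z)⁻¹
    rw [tor_conj_xU R z _ hl, h1]
  · rw [ex_dAut_xU Z.V R _ _ hnl, ex_conj _ (R.xU_mem_group _ hnl _), wtC_neg Z.V _ _ hl,
      wtC_simple Z.V _ i hi]
    show _ = R.tor z * _ * (R.tor z)⁻¹
    rw [tor_conj_xU R z _ hnl, h2]

/-- An element whose inner automorphism preserves `U` and `V` is diagonal. -/
theorem exists_tor_of_pres (a : ↥(C.D.group K)) (hU : Pres (MulAut.conj a) (C.D.posUnipotent K))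
    (hV : Pres (MulAut.conj a) (C.D.negUnipotent K)) : ∃ z : Fin C.D.rank → Kˣ, R.tor z = (a : GL C.D.Idx K) := by
  have Y := Z.Y
  have hposG : C.D.posUnipotent K ≤ C.D.group K := R.posUnipotent_le_group
  have hnegG : C.D.negUnipotent K ≤ C.D.group K := negUnipotent_le_group Y.A
  have h1 : (a : GL C.D.Idx K) ∈ C.D.borelSubgroup K := by
    apply mem_borel_of_conj_pos Y.A _ a.2
    intro u hu
    rw [← ex_conj a (hposG hu)]
    exact hU u hu
  have h2 : (a : GL C.D.Idx K) ∈ negBorel C.D K := by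
    apply mem_negBorel_of_conj_neg Y.A Y.w0 Y.w0l Y.w0neg' _ a.2
    intro u hu
    rw [← ex_conj a (hnegG hu)]
    exact hV u hu
  have h3 : (a : GL C.D.Idx K) ∈ C.D.diagonalSubgroup K := by
    rw [← borel_inf_negBorel Y.A]
    exact ⟨h1, h2⟩
  exact R.exists_tor Y.A.B.dec _ h3

/-- If the product of an inner and a diagonal automorphism is a field automorphism, then the field automorphism
is trivial and the diagonal automorphism is inner. -/
theorem field_eq_inner_diagG (τ : K ≃+* K) (a : ↥(C.D.group K)) (e : Fin C.D.rank → Kˣ)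
    (h : fAut C.D τ = MulAut.conj a * dAut Z.V R e) :
    τ = 1 ∧ e ∈ (pw (cartanMat C.D) : (Fin C.D.rank → Kˣ) →* (Fin C.D.rank → Kˣ)).range := by
  have Y := Z.Y
  have hc : MulAut.conj a = fAut C.D τ * dAut Z.V R e⁻¹ := by
    rw [h, mul_assoc, ← dAut_mul, mul_inv_cancel, dAut_one, mul_one]
  have hposG : C.D.posUnipotent K ≤ C.D.group K := R.posUnipotent_le_group
  have hnegG : C.D.negUnipotent K ≤ C.D.group K := negUnipotent_le_group Y.A
  obtain ⟨z, hz⟩ := exists_tor_of_pres Z a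
    (by
      intro u hu
      rw [hc, ex_mul_aut _ _ (hposG hu)]
      exact pres_fAut_pos Y τ _ (pres_dAutG_pos Z e⁻¹ u hu))
    (by
      intro u hu
      rw [hc, ex_mul_aut _ _ (hnegG hu)]
      exact pres_fAut_neg Y τ _ (pres_dAutG_neg Z e⁻¹ u hu))
  have key : ∀ i (hi : i < C.D.rank) (t : K),
      ((pw (cartanMat C.D) z ⟨i, hi⟩ : Kˣ) : K) * t = τ (((e⁻¹ ⟨i, hi⟩ : Kˣ) : K) * t) := by
    intro i hi t
    have hl := R.simple_lt i hi
    have e1 : ex (MulAut.conj a) (R.xU (C.D.simple i) t) =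
        R.xU (C.D.simple i) (((pw (cartanMat C.D) z ⟨i, hi⟩ : Kˣ) : K) * t) := by
      rw [ex_conj a (R.xU_mem_group _ hl t), ← hz, tor_conj_xU R z _ hl, pw_cartanMat C.D R.simple_lt z ⟨i, hi⟩]
    rw [hc, ex_mul_aut _ _ (R.xU_mem_group _ hl t), ex_dAut_xU Z.V R _ _ hl, ex_fAut_xU R τ _ hl,
      wtC_simple Z.V _ i hi] at e1
    exact (Y.A.U.xU_inj_pos' _ (simple_pos Y.A i hi) _ _ e1).symm
  have hτ : τ = 1 := by
    have hrk : 0 < C.D.rank := lt_of_le_of_lt (Nat.zero_le _) Z.hroot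
    apply RingEquiv.ext
    intro t
    have k1 := key 0 hrk 1
    have kt := key 0 hrk t
    rw [mul_one, mul_one] at k1
    rw [map_mul, ← k1] at kt
    have hne : ((pw (cartanMat C.D) z ⟨0, hrk⟩ : Kˣ) : K) ≠ 0 := Units.ne_zero _
    exact (mul_left_cancel₀ hne kt).symm
  refine ⟨hτ, ⟨z⁻¹, ?_⟩⟩
  rw [map_inv, inv_eq_iff_eq_inv]
  funext i
  have k1 := key i.val i.isLt 1
  rw [mul_one, mul_one, hτ] at k1
  apply Units.ext
  exact k1

end

end Cfsg.Agent.Lib.Helper3.ChevAut
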