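import Mathlib
import Cfsg.Prelude.Def_ChevStructure
import Cfsg.Prelude.Def_KGroupFacts
import Cfsg.Agent.Lib.Helper3.ChevAut23
set_option autoImplicit false
set_option linter.unusedSectionVars false
set_option linter.style.haveILetI false
open Cfsg Cfsg.Lie

/-!
Automorphisms of Chevalley groups, part 24: the order of the outer automorphism group is the product of the number
of realizable symmetries of the nodes, the index of the inner diagonal automorphisms and the order of the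
automorphism group of the field.
-/

namespace Cfsg.Agent.Lib.Helper3.ChevAut

open Cfsg.Agent.Lib.Helper3.ChevM Cfsg.Agent.Lib.Helper3.ChevSp Cfsg.Agent.Lib.Helper3 ChevU ChevT ChevH
open Cfsg.Agent.Lib.Helper3.ChevAt Cfsg.Agent.Lib.Helper1

theorem Pres.mul {G₀ : Type*} [Group G₀] {Γ : Subgroup G₀} {θ φ : MulAut ↥Γ} {X : Subgroup G₀}
    (hθ : Pres θ X) (hφ : Pres φ X) (hX : X ≤ Γ) : Pres (θ * φ) X := by
  intro g hg
  rw [ex_mul_aut _ _ (hX hg)]
  exact hθ _ (hφ g hg)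

theorem Pres.inv {G₀ : Type*} [Group G₀] [Finite G₀] {Γ : Subgroup G₀} {θ : MulAut ↥Γ} {X : Subgroup G₀}
    (hθ : Pres θ X) (hX : X ≤ Γ) : Pres θ⁻¹ X := hθ.symm hX

section
variable {K : Type*} [Field K] [Finite K] {C : CDatum} {R : RelData C} (Z : GenHyp C R)
include Z

theorem GraphLike.ex_gdf {γ : MulAut ↥(C.D.group K)} {π : ℕ → ℕ} (Gl : GraphLike R K γ π)
    (c : Fin C.D.rank → Kˣ) (σ : K ≃+* K) (i : ℕ) (hi : i < C.D.rank) (t : K) :
    ex (γ * dAut Z.V R c * fAut C.D σ) (R.xU (C.D.simple i) t) =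
      R.xU (C.D.simple (π i)) ((((c ⟨i, hi⟩ : Kˣ) : K) * σ t) ^ Gl.e i) := by
  have hl := R.simple_lt i hi
  rw [ex_mul_aut _ _ (R.xU_mem_group _ hl _), ex_fAut_xU R σ _ hl, ex_mul_aut _ _ (R.xU_mem_group _ hl _),
    ex_dAut_xU Z.V R _ _ hl, wtC_simple Z.V _ i hi, Gl.pos i hi]

theorem GraphLike.pres_gdf_pos {γ : MulAut ↥(C.D.group K)} {π : ℕ → ℕ} (Gl : GraphLike R K γ π)
    (c : Fin C.D.rank → Kˣ) (σ : K ≃+* K) : Pres (γ * dAut Z.V R c * fAut C.D σ) (C.D.posUnipotent K) :=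
  have hUG : C.D.posUnipotent K ≤ C.D.group K := R.posUnipotent_le_group
  ((Gl.presU.mul (pres_dAutG_pos Z c) hUG).mul (pres_fAut_pos Z.Y σ) hUG)

theorem GraphLike.pres_gdf_neg {γ : MulAut ↥(C.D.group K)} {π : ℕ → ℕ} (Gl : GraphLike R K γ π)
    (c : Fin C.D.rank → Kˣ) (σ : K ≃+* K) : Pres (γ * dAut Z.V R c * fAut C.D σ) (C.D.negUnipotent K) :=
  have hVG : C.D.negUnipotent K ≤ C.D.group K := negUnipotent_le_group Z.Y.A
  ((Gl.presV.mul (pres_dAutG_neg Z c) hVG).mul (pres_fAut_neg Z.Y σ) hVG)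

/-- Two products of automorphisms along maps of the nodes with diagonal and field automorphisms which differ by
an inner automorphism are along the same map of the nodes. -/
theorem GraphLike.nodes_eq {γ γ' : MulAut ↥(C.D.group K)} {π π' : ℕ → ℕ} (Gl : GraphLike R K γ π)
    (Gl' : GraphLike R K γ' π') (hπ : ∀ i < C.D.rank, π i < C.D.rank) (hπ' : ∀ i < C.D.rank, π' i < C.D.rank)
    (c c' : Fin C.D.rank → Kˣ) (σ σ' : K ≃+* K) (a : ↥(C.D.group K))
    (h : MulAut.conj a = (γ * dAut Z.V R c * fAut C.D σ)⁻¹ * (γ' * dAut Z.V R c' * fAut C.D σ')) :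
    ∀ i < C.D.rank, π i = π' i := by
  have Y := Z.Y
  have hUG : C.D.posUnipotent K ≤ C.D.group K := R.posUnipotent_le_group
  have hVG : C.D.negUnipotent K ≤ C.D.group K := negUnipotent_le_group Y.A
  obtain ⟨z, hz⟩ := exists_tor_of_pres Z a
    (by rw [h]; exact ((Gl.pres_gdf_pos Z c σ).inv hUG).mul (Gl'.pres_gdf_pos Z c' σ') hUG)
    (by rw [h]; exact ((Gl.pres_gdf_neg Z c σ).inv hVG).mul (Gl'.pres_gdf_neg Z c' σ') hVG)
  intro i hi
  have hl := R.simple_lt i hi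
  have h2 : (γ * dAut Z.V R c * fAut C.D σ) * MulAut.conj a = γ' * dAut Z.V R c' * fAut C.D σ' := by
    rw [h, mul_inv_cancel_left]
  have h3 := congrArg (fun θ => ex θ (R.xU (C.D.simple i) (1 : K))) h2
  rw [ex_mul_aut _ _ (R.xU_mem_group _ hl _), ex_conj a (R.xU_mem_group _ hl _), ← hz, tor_conj_xU R z _ hl,
    Gl.ex_gdf Z c σ i hi, Gl'.ex_gdf Z c' σ' i hi] at h3
  by_contra hne
  have hne' : C.D.simple (π i) ≠ C.D.simple (π' i) := fun e => hne (Y.simp_inj _ (hπ i hi) _ (hπ' i hi) e)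
  have := Y.A.U.xU_eq_xU_pos (F := K) _ _ (simple_pos Y.A _ (hπ i hi)) (simple_pos Y.A _ (hπ' i hi)) hne' _ _ h3
  have h4 := this.2
  rw [map_one, mul_one] at h4
  exact pow_ne_zero _ (Units.ne_zero _) h4

end

section
variable {K : Type*} [Field K] [Finite K] {C : CDatum} {R : RelData C} (B : BondHyp C R)
include B

/-- The order of the outer automorphism group. -/
theorem card_out_graph (p : ℕ) [Fact p.Prime]
    (hS : ∃ S : Sylow p ↥(C.D.group K),
      (S : Subgroup ↥(C.D.group K)) = (C.D.posUnipotent K).subgroupOf (C.D.group K))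
    (Lr : List (List ℕ)) (hnd : Lr.Nodup)
    (hLr : ∀ l ∈ Lr, l.length = C.D.rank ∧ (∀ x ∈ l, x < C.D.rank) ∧
      ∃ γ : MulAut ↥(C.D.group K), Nonempty (GraphLike R K γ (fun i => l.getD i 0)))
    (hnon : ∀ l ∈ B.L, l ∉ Lr → ∀ (θ : MulAut ↥(C.D.group K)) (T : RootAct R K θ),
      ¬ ∀ i < C.D.rank, T.p i = l.getD i 0) :
    Nat.card (Cfsg.Out ↥(C.D.group K)) = Lr.length *
      (pw (cartanMat C.D) : (Fin C.D.rank → Kˣ) →* (Fin C.D.rank → Kˣ)).range.index * Nat.card (K ≃+* K) := by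
  have Z := B.Z
  have Y := B.Z.Y
  set Rg := (pw (cartanMat C.D) : (Fin C.D.rank → Kˣ) →* (Fin C.D.rank → Kˣ)).range with hRg
  have hγ : ∀ l : {l // l ∈ Lr}, ∃ γ : MulAut ↥(C.D.group K),
      Nonempty (GraphLike R K γ (fun i => l.1.getD i 0)) := fun l => (hLr l.1 l.2).2.2
  choose γ hGl using hγ
  have hlt : ∀ l : {l // l ∈ Lr}, ∀ i < C.D.rank, l.1.getD i 0 < C.D.rank := by
    intro l i hi
    have h1 := (hLr l.1 l.2).1
    rw [List.getD_eq_getElem _ _ (by rw [h1]; exact hi)]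
    exact (hLr l.1 l.2).2.1 _ (List.getElem_mem _)
  let δ₀ : (Fin C.D.rank → Kˣ) →* Cfsg.Out ↥(C.D.group K) :=
    (QuotientGroup.mk' (Cfsg.Inn ↥(C.D.group K))).comp (dAutHom B.Z.V R)
  have hδ₀ : ∀ c ∈ Rg, δ₀ c = 1 := by
    rintro c ⟨z, rfl⟩
    show (QuotientGroup.mk (dAut B.Z.V R (pw (cartanMat C.D) z)) : Cfsg.Out ↥(C.D.group K)) = 1
    rw [dAutG_pw B.Z z]
    exact (QuotientGroup.eq_one_iff _).mpr ⟨_, rfl⟩
  let δ : (Fin C.D.rank → Kˣ) ⧸ Rg →* Cfsg.Out ↥(C.D.group K) := QuotientGroup.lift Rg δ₀ hδ₀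
  let φ : (K ≃+* K) →* Cfsg.Out ↥(C.D.group K) :=
    (QuotientGroup.mk' (Cfsg.Inn ↥(C.D.group K))).comp (fAutHom C.D)
  let Ξ : {l // l ∈ Lr} × ((Fin C.D.rank → Kˣ) ⧸ Rg) × (K ≃+* K) → Cfsg.Out ↥(C.D.group K) :=
    fun x => QuotientGroup.mk (γ x.1) * δ x.2.1 * φ x.2.2
  have hΞ : Function.Bijective Ξ := by
    constructor
    · rintro ⟨l, x, σ⟩ ⟨l', x', σ'⟩ hx
      obtain ⟨c, rfl⟩ := QuotientGroup.mk_surjective x
      obtain ⟨c', rfl⟩ := QuotientGroup.mk_surjective x'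
      have h1 : (QuotientGroup.mk (γ l * dAut B.Z.V R c * fAut C.D σ) : Cfsg.Out ↥(C.D.group K)) =
          QuotientGroup.mk (γ l' * dAut B.Z.V R c' * fAut C.D σ') := hx
      rw [QuotientGroup.eq] at h1
      obtain ⟨a, ha⟩ := h1
      obtain ⟨Gl⟩ := hGl l
      obtain ⟨Gl'⟩ := hGl l'
      have hnodes := Gl.nodes_eq B.Z Gl' (hlt l) (hlt l') c c' σ σ' a ha
      have hll : l = l' := by
        apply Subtype.ext
        apply List.ext_getElem
        · rw [(hLr l.1 l.2).1, (hLr l'.1 l'.2).1]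
        · intro i h1 h2
          have hi : i < C.D.rank := by rw [← (hLr l.1 l.2).1]; exact h1
          have := hnodes i hi
          rwa [List.getD_eq_getElem _ _ h1, List.getD_eq_getElem _ _ h2] at this
      subst hll
      have e1 : dAut B.Z.V R c * fAut C.D σ * MulAut.conj a = dAut B.Z.V R c' * fAut C.D σ' := by
        rw [ha]; group
      have e2 : fAut C.D σ * MulAut.conj a = MulAut.conj (fAut C.D σ a) * fAut C.D σ := conj_mul_aut _ _
      have hdi : dAut B.Z.V R c⁻¹ = (dAut B.Z.V R c)⁻¹ := map_inv (dAutHom B.Z.V R) c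
      have hfi : fAut C.D σ'⁻¹ = (fAut C.D σ')⁻¹ := map_inv (fAutHom C.D) σ'
      have e3 : fAut C.D (σ * σ'⁻¹) = MulAut.conj (fAut C.D σ a)⁻¹ * dAut B.Z.V R (c⁻¹ * c') := by
        rw [fAut_mul, dAut_mul, hdi, hfi, map_inv]
        rw [mul_assoc, e2] at e1
        have e4 : fAut C.D σ = (MulAut.conj (fAut C.D σ a))⁻¹ * (dAut B.Z.V R c)⁻¹ *
            (dAut B.Z.V R c' * fAut C.D σ') := by
          rw [← e1]; group
        conv_lhs => rw [e4]
        group
      obtain ⟨h3, h4⟩ := field_eq_inner_diagG B.Z _ _ _ e3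
      have h5 : σ = σ' := by
        have := congrArg (fun x => x * σ') h3
        simpa using this
      have h6 : (QuotientGroup.mk c : (Fin C.D.rank → Kˣ) ⧸ Rg) = QuotientGroup.mk c' := by
        rw [QuotientGroup.eq]
        exact h4
      rw [h5, h6]
    · intro x
      obtain ⟨θ, rfl⟩ := QuotientGroup.mk_surjective x
      obtain ⟨a, hU, hV⟩ := exists_conj_pres Y.A p hS Y.w0 Y.w0l Y.w0neg' θ
      obtain ⟨T⟩ := exists_rootAct (K := K) Y _ hU hV
      have hl := T.p_mem B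
      have hget : ∀ i < C.D.rank, T.p i = ((List.range C.D.rank).map T.p).getD i 0 := by
        intro i hi
        rw [List.getD_eq_getElem _ _ (by simpa using hi)]
        simp
      have hlr : (List.range C.D.rank).map T.p ∈ Lr := by
        by_contra hn
        exact hnon _ hl hn _ T hget
      obtain ⟨Gl⟩ := hGl ⟨_, hlr⟩
      obtain ⟨c, σ, e⟩ := eq_graph_dAut_field B.Z _ hU hV T (γ ⟨_, hlr⟩) _ Gl hget
      refine ⟨⟨⟨_, hlr⟩, QuotientGroup.mk c, σ⟩, ?_⟩
      show (QuotientGroup.mk (γ ⟨_, hlr⟩) : Cfsg.Out ↥(C.D.group K)) * QuotientGroup.mk (dAut B.Z.V R c) *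
        QuotientGroup.mk (fAut C.D σ) = _
      rw [← QuotientGroup.mk_mul, ← QuotientGroup.mk_mul, ← e, QuotientGroup.mk_mul]
      have : (QuotientGroup.mk (MulAut.conj a) : Cfsg.Out ↥(C.D.group K)) = 1 :=
        (QuotientGroup.eq_one_iff _).mpr ⟨a, rfl⟩
      rw [this, one_mul]
  rw [← Nat.card_congr (Equiv.ofBijective Ξ hΞ), Nat.card_prod, Nat.card_prod, mul_assoc]
  congr 1
  rw [Nat.card_eq_fintype_card, Fintype.card_of_subtype Lr.toFinset (by simp), List.toFinset_card_of_nodup hnd]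

end

end Cfsg.Agent.Lib.Helper3.ChevAut
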