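import Mathlib
import Cfsg.Prelude.Def_ChevStructure
import Cfsg.Prelude.Def_ChevB2
import Cfsg.Agent.Lib.Helper3.ChevAutB2
import Cfsg.Agent.Lib.Helper3.ChevAut24
set_option autoImplicit false
set_option linter.unusedSectionVars false
set_option linter.style.haveILetI false
set_option maxRecDepth 1000000
open Cfsg Cfsg.Lie

/-!
Automorphisms of Chevalley groups: the symmetry of the diagram of `B₂` is realized exactly in characteristic 2.
-/

namespace Cfsg.Agent.Lib.Helper3.ChevAut

open Cfsg.Agent.Lib.Helper3.ChevM Cfsg.Agent.Lib.Helper3.ChevSp Cfsg.Agent.Lib.Helper3 ChevU ChevT ChevH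
open Cfsg.Agent.Lib.Helper3.ChevAt Cfsg.Agent.Lib.Helper1

/-- A finite field of characteristic `p` is perfect. -/
theorem exists_pow_char_eq {K : Type*} [Field K] [Finite K] (p : ℕ) [Fact p.Prime] [CharP K p] (x : K) :
    ∃ y : K, y ^ p = x :=
  Finite.surjective_of_injective (frobenius_inj K p) x

theorem b2rho_pos : ∀ r < cdB2.D.nroots, cdB2.D.IsPosRoot r → cdB2.D.IsPosRoot (b2rho r) := by decide +kernel

theorem b2rho_neg : ∀ r < cdB2.D.nroots, cdB2.D.IsNegRoot r → cdB2.D.IsNegRoot (b2rho r) := by decide +kernel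

theorem b2rho_simple : ∀ i < cdB2.D.rank, b2rho (cdB2.D.simple i) = cdB2.D.simple ([1, 0].getD i 0) ∧
    b2rho (cdB2.D.neg (cdB2.D.simple i)) = cdB2.D.neg (cdB2.D.simple ([1, 0].getD i 0)) ∧
    b2lam (cdB2.D.neg (cdB2.D.simple i)) = b2lam (cdB2.D.simple i) := by decide +kernel

/-- The exceptional automorphism of `B₂` in characteristic 2 and its action on the root elements. -/
theorem b2_graph_ex {K : Type*} [Field K] [Finite K] [CharP K 2] :
    ∃ γ : MulAut ↥(cdB2.D.group K), ∀ r < cdB2.D.nroots, ∀ t : K,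
      ex γ (relB2.xU r t) = relB2.xU (b2rho r) (t ^ b2lam r) := by
  haveI : Fact (Nat.Prime 2) := ⟨Nat.prime_two⟩
  obtain ⟨σ, hσ⟩ := b2_exists_graph_aut (K := K) (exists_pow_char_eq 2)
  refine ⟨σ, ?_⟩
  intro r hr t
  rw [ex_of_mem _ (relB2.xU_mem_group r hr t)]
  have := hσ r hr t
  exact congrArg Subtype.val this

/-- Outside characteristic 2 no automorphism realizes the symmetry of the diagram of `B₂`. -/
theorem b2_no_rev {K : Type*} [Field K] [Finite K] (h2 : (2 : K) ≠ 0) (θ : MulAut ↥(cdB2.D.group K))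
    (T : RootAct relB2 K θ) : ¬ ∀ i < cdB2.D.rank, T.p i = [1, 0].getD i 0 := by
  intro hπ
  have := T.coeff_eq_zero genHypB2 (fun i => [1, 0].getD i 0) hπ [] [1] (by decide) (by decide) 0 0
    (by decide) (by decide) (by decide +kernel) (by decide +kernel) (by decide +kernel) 7 2
    (by decide +kernel) (by decide +kernel) (by decide +kernel) (by decide +kernel)
  exact h2 (by exact_mod_cast this)

end Cfsg.Agent.Lib.Helper3.ChevAut
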