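import Mathlib
import Cfsg.Prelude.Def_ChevStructure
import Cfsg.Prelude.Def_ChevE7
import Cfsg.Agent.Lib.Helper3.ChevAutE7
import Cfsg.Agent.Lib.Helper3.ChevAut22
import Cfsg.Agent.Lib.Helper3.ChevData.E7Tree
set_option autoImplicit false
set_option linter.unusedSectionVars false
set_option linter.style.haveILetI false
set_option maxRecDepth 1000000
open Cfsg Cfsg.Lie

/-!
Automorphisms of Chevalley groups: the table checks for type `E₇`, in the form for arbitrary diagrams.
-/

namespace Cfsg.Agent.Lib.Helper3.ChevAut

open Cfsg.Agent.Lib.Helper3.ChevM Cfsg.Agent.Lib.Helper3.ChevSp Cfsg.Agent.Lib.Helper3 ChevU ChevT ChevH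
open Cfsg.Agent.Lib.Helper3.ChevAt Cfsg.Agent.Lib.Helper1

/-- The table checks for the automorphisms of `E₇` preserving the fundamental root subgroups. -/
def genHypE7 : GenHyp cdE7 relE7 where
  Y := autHypE7
  hcs := by decide +kernel
  c2 := by decide +kernel
  par := parE7
  dep := depE7
  root := 0
  hroot := by decide +kernel
  tree := by decide +kernel
  V := vecHypE7
  cneg := by decide +kernel

/-- The table checks on the bonds of the diagram of `E₇`. -/
def bondHypE7 : BondHyp cdE7 relE7 where
  Z := genHypE7
  bond := by decide +kernel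
  adjM := adjME7
  hadjM := by decide +kernel
  L := [[0, 1, 2, 3, 4, 5, 6]]
  rig := by decide +kernel

end Cfsg.Agent.Lib.Helper3.ChevAut
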