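import Mathlib
import Cfsg.Prelude.Def_ChevStructure
import Cfsg.Prelude.Def_ChevF4
import Cfsg.Agent.Lib.Helper3.ChevAutF4
import Cfsg.Agent.Lib.Helper3.ChevAut24
import Cfsg.Agent.Lib.Helper3.ChevAut18
set_option autoImplicit false
set_option linter.unusedSectionVars false
set_option linter.style.haveILetI false
set_option maxRecDepth 1000000
open Cfsg Cfsg.Lie

/-!
Automorphisms of Chevalley groups: the symmetry of the diagram of `F₄` is realized exactly in characteristic 2.
-/

namespace Cfsg.Agent.Lib.Helper3.ChevAut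

open Cfsg.Agent.Lib.Helper3.ChevM Cfsg.Agent.Lib.Helper3.ChevSp Cfsg.Agent.Lib.Helper3 ChevU ChevT ChevH
open Cfsg.Agent.Lib.Helper3.ChevAt Cfsg.Agent.Lib.Helper1

theorem f4rho_pos : ∀ r < cdF4.D.nroots, cdF4.D.IsPosRoot r → cdF4.D.IsPosRoot (f4rho r) := by decide +kernel

theorem f4rho_neg : ∀ r < cdF4.D.nroots, cdF4.D.IsNegRoot r → cdF4.D.IsNegRoot (f4rho r) := by decide +kernel

theorem f4rho_simple : ∀ i < cdF4.D.rank, f4rho (cdF4.D.simple i) = cdF4.D.simple ([3, 2, 1, 0].getD i 0) ∧
    f4rho (cdF4.D.neg (cdF4.D.simple i)) = cdF4.D.neg (cdF4.D.simple ([3, 2, 1, 0].getD i 0)) ∧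
    f4lam (cdF4.D.neg (cdF4.D.simple i)) = f4lam (cdF4.D.simple i) := by decide +kernel

/-- In characteristic 2 the symmetry of the diagram of `F₄` is realized by an automorphism. -/
theorem f4_graphLike {K : Type*} [Field K] [Finite K] [CharP K 2] :
    ∃ γ : MulAut ↥(cdF4.D.group K), Nonempty (GraphLike relF4 K γ (fun i => [3, 2, 1, 0].getD i 0)) := by
  have hinj : Function.Injective (fun t : K => t ^ 2) := by
    intro a b hab
    have hab' : a ^ 2 = b ^ 2 := hab
    have h2 : (2 : K) = 0 := by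
      have := CharP.cast_eq_zero K 2
      exact_mod_cast this
    have : (a - b) ^ 2 = 0 := by
      have e : (a - b) ^ 2 = a ^ 2 + b ^ 2 - 2 * (a * b) := by ring
      rw [e, h2, zero_mul, sub_zero, hab']
      have : b ^ 2 + b ^ 2 = 2 * b ^ 2 := by ring
      rw [this, h2, zero_mul]
    exact sub_eq_zero.mp (pow_eq_zero_iff (two_ne_zero) |>.mp this)
  have hperf : ∀ x : K, ∃ y : K, y ^ 2 = x := fun x => Finite.surjective_of_injective hinj x
  obtain ⟨σ, hσ⟩ := f4_exists_graph_aut (K := K) hperf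
  refine ⟨σ, ⟨graphLikeOfRoots autHypF4.A σ f4rho f4lam ?_ (fun r hr => f4rho_pos r hr.1 hr)
    (fun r hr => f4rho_neg r hr.1 hr) _ f4rho_simple⟩⟩
  intro r hr t
  rw [ex_of_mem _ (relF4.xU_mem_group r hr t)]
  have := hσ r hr t
  exact congrArg Subtype.val this

/-- Outside characteristic 2 no automorphism realizes the symmetry of the diagram of `F₄`. -/
theorem f4_no_rev {K : Type*} [Field K] [Finite K] (h2 : (2 : K) ≠ 0) (θ : MulAut ↥(cdF4.D.group K))
    (T : RootAct relF4 K θ) : ¬ ∀ i < cdF4.D.rank, T.p i = [3, 2, 1, 0].getD i 0 := by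
  intro hπ
  have := T.coeff_eq_zero genHypF4 (fun i => [3, 2, 1, 0].getD i 0) hπ [] [2] (by decide) (by decide) 1 1
    (by decide) (by decide) (by decide +kernel) (by decide +kernel) (by decide +kernel) 30 2
    (by decide +kernel) (by decide +kernel) (by decide +kernel) (by decide +kernel)
  exact h2 (by exact_mod_cast this)

/-- The order of the outer automorphism group of `F₄(q)`. -/
theorem f4_card_out {F : Type*} [Field F] [Fintype F] (p f : ℕ) [Fact p.Prime] [CharP F p]
    (hF : Fintype.card F = p ^ f) : Nat.card (Cfsg.Out ↥(cdF4.D.group F)) = Nat.gcd 2 p * f := by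
  have h2 : Nat.card F = p ^ f := by rw [Nat.card_eq_fintype_card]; exact hF
  have h3 := card_ringAut_prime (F := F) p h2
  have h4 := index_range_pw (K := F) (l := cdF4.D.rank) smPF4 (cartanMat cdF4.D) smQF4 smPiF4 smQiF4 smDF4
    (by decide +kernel) (by decide +kernel) (by decide +kernel) (by decide +kernel)
  have h5 : ∏ k : Fin cdF4.D.rank, (Fintype.card F - 1).gcd (smDF4 k) = 1 := by
    show ∏ k : Fin 4, (Fintype.card F - 1).gcd (smDF4 k) = 1
    rw [Fin.prod_univ_four]
    have e : ∀ k : Fin 4, smDF4 k = 1 := by decide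
    simp only [e]
    simp
  by_cases hp : p = 2
  · subst hp
    have h1 := card_out_graph (K := F) bondHypF4 2 (f4_sylow (F := F) 2) [[0, 1, 2, 3], [3, 2, 1, 0]]
      (by decide) ?_ ?_
    · rw [h1, h3, h4, h5]
      rfl
    · intro l hl
      simp only [List.mem_cons, List.not_mem_nil, or_false] at hl
      rcases hl with rfl | rfl
      · exact ⟨rfl, by decide, 1, ⟨graphLikeOfId relF4 F _ (by decide)⟩⟩
      · exact ⟨rfl, by decide, f4_graphLike⟩
    · intro l hl hn
      exact absurd hl hn
  · have hp2 : (2 : F) ≠ 0 := by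
      intro h
      have h' : ((2 : ℕ) : F) = 0 := by exact_mod_cast h
      rw [CharP.cast_eq_zero_iff F p] at h'
      have := (Nat.prime_dvd_prime_iff_eq (Fact.out : p.Prime) Nat.prime_two).mp h'
      exact hp this
    have h1 := card_out_graph (K := F) bondHypF4 p (f4_sylow (F := F) p) [[0, 1, 2, 3]]
      (by decide) ?_ ?_
    · rw [h1, h3, h4, h5]
      have : Nat.gcd 2 p = 1 := by
        rw [Nat.coprime_primes Nat.prime_two (Fact.out : p.Prime) |>.mpr (Ne.symm hp)]
      rw [this]
      rfl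
    · intro l hl
      simp only [List.mem_cons, List.not_mem_nil, or_false] at hl
      subst hl
      exact ⟨rfl, by decide, 1, ⟨graphLikeOfId relF4 F _ (by decide)⟩⟩
    · intro l hl hn
      have hl' : l = [0, 1, 2, 3] ∨ l = [3, 2, 1, 0] := by
        simpa [bondHypF4] using hl
      rcases hl' with rfl | rfl
      · exact absurd (by simp) hn
      · exact f4_no_rev hp2

end Cfsg.Agent.Lib.Helper3.ChevAut
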