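import Mathlib
import Cfsg.Prelude.Def_ChevStructure
import Cfsg.Prelude.Def_ChevG2
import Cfsg.Agent.Lib.Helper3.ChevAutG2
import Cfsg.Agent.Lib.Helper3.ChevAut24
import Cfsg.Agent.Lib.Helper3.ChevAut18
set_option autoImplicit false
set_option linter.unusedSectionVars false
set_option linter.style.haveILetI false
set_option maxRecDepth 1000000
open Cfsg Cfsg.Lie

/-!
Automorphisms of Chevalley groups: the symmetry of the diagram of `G₂` is realized exactly in characteristic 3.
-/

namespace Cfsg.Agent.Lib.Helper3.ChevAut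

open Cfsg.Agent.Lib.Helper3.ChevM Cfsg.Agent.Lib.Helper3.ChevSp Cfsg.Agent.Lib.Helper3 ChevU ChevT ChevH
open Cfsg.Agent.Lib.Helper3.ChevAt Cfsg.Agent.Lib.Helper1

theorem g2rho_pos : ∀ r < cdG2.D.nroots, cdG2.D.IsPosRoot r → cdG2.D.IsPosRoot (g2rho r) := by decide +kernel

theorem g2rho_neg : ∀ r < cdG2.D.nroots, cdG2.D.IsNegRoot r → cdG2.D.IsNegRoot (g2rho r) := by decide +kernel

theorem g2rho_simple : ∀ i < cdG2.D.rank, g2rho (cdG2.D.simple i) = cdG2.D.simple ([1, 0].getD i 0) ∧
    g2rho (cdG2.D.neg (cdG2.D.simple i)) = cdG2.D.neg (cdG2.D.simple ([1, 0].getD i 0)) ∧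
    g2lam (cdG2.D.neg (cdG2.D.simple i)) = g2lam (cdG2.D.simple i) := by decide +kernel

/-- In characteristic 3 the symmetry of the diagram of `G₂` is realized by an automorphism. -/
theorem g2_graphLike {K : Type*} [Field K] [Finite K] [CharP K 3] :
    ∃ γ : MulAut ↥(cdG2.D.group K), Nonempty (GraphLike relG2 K γ (fun i => [1, 0].getD i 0)) := by
  have hinj : Function.Injective (fun t : K => t ^ 3) := by
    intro a b hab
    have hab' : a ^ 3 = b ^ 3 := hab
    have h3 : (3 : K) = 0 := by
      have := CharP.cast_eq_zero K 3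
      exact_mod_cast this
    have : (a - b) ^ 3 = 0 := by
      have e : (a - b) ^ 3 = a ^ 3 - b ^ 3 - 3 * (a * b * (a - b)) := by ring
      rw [e, h3, zero_mul, sub_zero, hab', sub_self]
    exact sub_eq_zero.mp (pow_eq_zero_iff (by norm_num) |>.mp this)
  have hperf : ∀ x : K, ∃ y : K, y ^ 3 = x := fun x => Finite.surjective_of_injective hinj x
  obtain ⟨σ, hσ⟩ := g2_exists_graph_aut (K := K) hperf
  refine ⟨σ, ⟨graphLikeOfRoots autHypG2.A σ g2rho g2lam ?_ (fun r hr => g2rho_pos r hr.1 hr)
    (fun r hr => g2rho_neg r hr.1 hr) _ g2rho_simple⟩⟩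
  intro r hr t
  rw [ex_of_mem _ (relG2.xU_mem_group r hr t)]
  have := hσ r hr t
  exact congrArg Subtype.val this

/-- Outside characteristic 3 no automorphism realizes the symmetry of the diagram of `G₂`. -/
theorem g2_no_rev {K : Type*} [Field K] [Finite K] (h3 : (3 : K) ≠ 0) (θ : MulAut ↥(cdG2.D.group K))
    (T : RootAct relG2 K θ) : ¬ ∀ i < cdG2.D.rank, T.p i = [1, 0].getD i 0 := by
  intro hπ
  have := T.coeff_eq_zero genHypG2 (fun i => [1, 0].getD i 0) hπ [] [0, 1] (by decide) (by decide) 0 0
    (by decide) (by decide) (by decide +kernel) (by decide +kernel) (by decide +kernel) 10 3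
    (by decide +kernel) (by decide +kernel) (by decide +kernel) (by decide +kernel)
  exact h3 (by exact_mod_cast this)

/-- The order of the outer automorphism group of `G₂(q)`. -/
theorem g2_card_out {F : Type*} [Field F] [Fintype F] (p f : ℕ) [Fact p.Prime] [CharP F p]
    (hF : Fintype.card F = p ^ f) :
    Nat.card (Cfsg.Out ↥(cdG2.D.group F)) = (if p = 3 then 2 * f else f) := by
  have h2 : Nat.card F = p ^ f := by rw [Nat.card_eq_fintype_card]; exact hF
  have h3 := card_ringAut_prime (F := F) p h2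
  have h4 := index_range_pw (K := F) (l := cdG2.D.rank) smPG2 (cartanMat cdG2.D) smQG2 smPiG2 smQiG2 smDG2
    (by decide +kernel) (by decide +kernel) (by decide +kernel) (by decide +kernel)
  have h5 : ∏ k : Fin cdG2.D.rank, (Fintype.card F - 1).gcd (smDG2 k) = 1 := by
    show ∏ k : Fin 2, (Fintype.card F - 1).gcd (smDG2 k) = 1
    rw [Fin.prod_univ_two]
    have e : ∀ k : Fin 2, smDG2 k = 1 := by decide
    simp only [e]
    simp
  by_cases hp : p = 3
  · subst hp
    have h1 := card_out_graph (K := F) bondHypG2 3 (g2_sylow (F := F) 3) [[0, 1], [1, 0]]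
      (by decide) ?_ ?_
    · rw [h1, h3, h4, h5, if_pos rfl]
      rfl
    · intro l hl
      simp only [List.mem_cons, List.not_mem_nil, or_false] at hl
      rcases hl with rfl | rfl
      · exact ⟨rfl, by decide, 1, ⟨graphLikeOfId relG2 F _ (by decide)⟩⟩
      · exact ⟨rfl, by decide, g2_graphLike⟩
    · intro l hl hn
      exact absurd hl hn
  · have hp3 : (3 : F) ≠ 0 := by
      intro h
      have h' : ((3 : ℕ) : F) = 0 := by exact_mod_cast h
      rw [CharP.cast_eq_zero_iff F p] at h'
      have := (Nat.prime_dvd_prime_iff_eq (Fact.out : p.Prime) Nat.prime_three).mp h'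
      exact hp this
    have h1 := card_out_graph (K := F) bondHypG2 p (g2_sylow (F := F) p) [[0, 1]]
      (by decide) ?_ ?_
    · rw [h1, h3, h4, h5, if_neg hp]
      simp
    · intro l hl
      simp only [List.mem_cons, List.not_mem_nil, or_false] at hl
      subst hl
      exact ⟨rfl, by decide, 1, ⟨graphLikeOfId relG2 F _ (by decide)⟩⟩
    · intro l hl hn
      have hl' : l = [0, 1] ∨ l = [1, 0] := by
        simpa [bondHypG2] using hl
      rcases hl' with rfl | rfl
      · exact absurd (by simp) hn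
      · exact g2_no_rev hp3

end Cfsg.Agent.Lib.Helper3.ChevAut
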