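import Mathlib
import Cfsg.Prelude.Def_ChevStructure
import Cfsg.Prelude.Def_ChevAutomorphisms
import Cfsg.Agent.Lib.Helper3.ChevAut28
import Cfsg.Agent.Lib.Helper3.ChevAutB2b
import Cfsg.Agent.Lib.Helper3.ChevAutF4b
import Cfsg.Agent.Lib.Helper3.ChevAutG2b
import Cfsg.Agent.Lib.Helper3.ChevAutE6b
import Cfsg.Agent.Lib.Helper3.ChevAutD4
import Cfsg.Agent.Lib.Helper3.ChevAutE7g
import Cfsg.Agent.Lib.Helper3.ChevAutE8
import Cfsg.Agent.Lib.Helper3.ChevData.D4GraphA
import Cfsg.Agent.Lib.Helper3.ChevData.D4GraphB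
import Cfsg.Agent.Lib.Helper3.ChevData.D4GraphC
import Cfsg.Agent.Lib.Helper3.ChevData.D4GraphD
import Cfsg.Agent.Lib.Helper3.ChevData.D4GraphE
set_option autoImplicit false
set_option linter.unusedSectionVars false
set_option linter.style.haveILetI false
set_option maxRecDepth 1000000
open Cfsg Cfsg.Lie

/-!
Automorphisms of Chevalley groups, part 29: the decomposition of an automorphism into an inner, a diagonal, a
graph and a field automorphism for the types `G₂`, `B₂`, `D₄`, `F₄`, `E₆`, `E₇`, `E₈`.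
-/

namespace Cfsg.Agent.Lib.Helper3.ChevAut

open Cfsg.Agent.Lib.Helper3.ChevM Cfsg.Agent.Lib.Helper3.ChevSp Cfsg.Agent.Lib.Helper3 ChevU ChevT ChevH
open Cfsg.Agent.Lib.Helper3.ChevAt Cfsg.Agent.Lib.Helper1

theorem exists_prime_char (K : Type*) [Field K] [Finite K] : ∃ p : ℕ, p.Prime ∧ CharP K p := by
  obtain ⟨p, hp⟩ := CharP.exists K
  haveI := hp
  exact ⟨p, CharP.char_is_prime K p, hp⟩

theorem natCast_ne_zero_of_char {K : Type*} [Field K] (p q : ℕ) [CharP K p] (hp : p.Prime) (hq : q.Prime)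
    (h : p ≠ q) : ((q : ℕ) : K) ≠ 0 := by
  intro h'
  rw [CharP.cast_eq_zero_iff K p] at h'
  exact h ((Nat.prime_dvd_prime_iff_eq hp hq).mp h')

/-- The exceptional automorphism of `F₄` in characteristic 2 and its action on the root elements. -/
theorem f4_graph_ex {K : Type*} [Field K] [Finite K] [CharP K 2] :
    ∃ γ : MulAut ↥(cdF4.D.group K), ∀ r < cdF4.D.nroots, ∀ t : K,
      ex γ (relF4.xU r t) = relF4.xU (f4rho r) (t ^ f4lam r) := by
  haveI : Fact (Nat.Prime 2) := ⟨Nat.prime_two⟩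
  obtain ⟨σ, hσ⟩ := f4_exists_graph_aut (K := K) (exists_pow_char_eq 2)
  refine ⟨σ, ?_⟩
  intro r hr t
  rw [ex_of_mem _ (relF4.xU_mem_group r hr t)]
  have := hσ r hr t
  exact congrArg Subtype.val this

/-- The exceptional automorphism of `G₂` in characteristic 3 and its action on the root elements. -/
theorem g2_graph_ex {K : Type*} [Field K] [Finite K] [CharP K 3] :
    ∃ γ : MulAut ↥(cdG2.D.group K), ∀ r < cdG2.D.nroots, ∀ t : K,
      ex γ (relG2.xU r t) = relG2.xU (g2rho r) (t ^ g2lam r) := by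
  haveI : Fact (Nat.Prime 3) := ⟨Nat.prime_three⟩
  obtain ⟨σ, hσ⟩ := g2_exists_graph_aut (K := K) (exists_pow_char_eq 3)
  refine ⟨σ, ?_⟩
  intro r hr t
  rw [ex_of_mem _ (relG2.xU_mem_group r hr t)]
  have := hσ r hr t
  exact congrArg Subtype.val this

section
variable {K : Type*} [Field K] [Finite K]

/-- The identity is a diagonal automorphism. -/
theorem isDiagonalAut_one (D : ChevalleyDatum) : D.IsDiagonalAut (1 : MulAut ↥(D.group K)) := by
  refine ⟨fun _ => 1, ⟨fun _ _ => by simp, fun _ _ _ _ _ _ => by simp⟩, ?_⟩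
  intro g
  have h1 : D.charDiag K (fun _ => (1 : Kˣ)) = 1 := by
    unfold ChevalleyDatum.charDiag
    rw [← Matrix.diagonal_one]
    congr 1
    funext j
    rcases j with j | j <;> simp
  have h2 : D.charDiag K (fun _ => ((1 : Kˣ))⁻¹) = 1 := by
    unfold ChevalleyDatum.charDiag
    rw [← Matrix.diagonal_one]
    congr 1
    funext j
    rcases j with j | j <;> simp
  rw [h1, h2, one_mul, mul_one]
  rfl

/-- The identity is a graph automorphism. -/
theorem isGraphAut_one (D : ChevalleyDatum) : D.IsGraphAut (1 : MulAut ↥(D.group K)) := by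
  refine ⟨1, fun _ _ _ => rfl, ?_⟩
  intro g i t
  rw [Equiv.Perm.coe_one, id, graphExp_self, pow_one]
  exact ⟨fun h => h, fun h => h⟩

theorem e8_decomp (θ : ↥(cdE8.D.group K) ≃* ↥(cdE8.D.group K)) :
    ∃ (x : ↥(cdE8.D.group K)) (d g f : ↥(cdE8.D.group K) ≃* ↥(cdE8.D.group K)),
      cdE8.D.IsDiagonalAut d ∧ cdE8.D.IsGraphAut g ∧ cdE8.D.IsFieldAut f ∧
        ∀ y : ↥(cdE8.D.group K), θ y = x * d (g (f y)) * x⁻¹ := by
  obtain ⟨p, hp, hc⟩ := exists_prime_char K
  haveI := Fact.mk hp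
  haveI := hc
  haveI := Fintype.ofFinite K
  obtain ⟨a, σ, e⟩ := exists_inner_field uniHypE8 p (e8_sylow (F := K) p) θ
  refine ⟨a, 1, 1, fAut cdE8.D σ, isDiagonalAut_one _, isGraphAut_one _, isFieldAut_fAut relE8 σ, ?_⟩
  intro y
  have : θ = MulAut.conj a * fAut cdE8.D σ := e
  rw [this]
  rfl

theorem e7_decomp (θ : ↥(cdE7.D.group K) ≃* ↥(cdE7.D.group K)) :
    ∃ (x : ↥(cdE7.D.group K)) (d g f : ↥(cdE7.D.group K) ≃* ↥(cdE7.D.group K)),
      cdE7.D.IsDiagonalAut d ∧ cdE7.D.IsGraphAut g ∧ cdE7.D.IsFieldAut f ∧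
        ∀ y : ↥(cdE7.D.group K), θ y = x * d (g (f y)) * x⁻¹ := by
  obtain ⟨p, hp, hc⟩ := exists_prime_char K
  haveI := Fact.mk hp
  haveI := hc
  haveI := Fintype.ofFinite K
  refine exists_diag_graph_field bondHypE7 p (e7_sylow (F := K) p) ?_ θ
  intro l hl
  have hl' : l = [0, 1, 2, 3, 4, 5, 6] := by simpa [bondHypE7] using hl
  subst hl'
  exact Or.inl (real_id relE7 _ (by decide))

theorem e6_notLong : ∀ j < cdE6.D.rank, cdE6.D.isLong (cdE6.D.simple j) = false := by decide +kernel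

theorem e6_decomp (θ : ↥(cdE6.D.group K) ≃* ↥(cdE6.D.group K)) :
    ∃ (x : ↥(cdE6.D.group K)) (d g f : ↥(cdE6.D.group K) ≃* ↥(cdE6.D.group K)),
      cdE6.D.IsDiagonalAut d ∧ cdE6.D.IsGraphAut g ∧ cdE6.D.IsFieldAut f ∧
        ∀ y : ↥(cdE6.D.group K), θ y = x * d (g (f y)) * x⁻¹ := by
  obtain ⟨p, hp, hc⟩ := exists_prime_char K
  haveI := Fact.mk hp
  haveI := hc
  haveI := Fintype.ofFinite K
  refine exists_diag_graph_field bondHypE6 p (e6_sylow (F := K) p) ?_ θ
  intro l hl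
  have hl' : l = [0, 1, 2, 3, 4, 5] ∨ l = [5, 1, 4, 3, 2, 0] := by simpa [bondHypE6] using hl
  rcases hl' with rfl | rfl
  · exact Or.inl (real_id relE6 _ (by decide))
  · exact Or.inl (real_data relE6 autHypE6.A graphE6A e6_graphSimple e6rho_pos e6rho_neg [5, 1, 4, 3, 2, 0]
      [5, 1, 4, 3, 2, 0] (by decide +kernel) (by decide +kernel) (by decide +kernel) e6_notLong)

theorem d4_notLong : ∀ j < cdD4.D.rank, cdD4.D.isLong (cdD4.D.simple j) = false := by decide +kernel

theorem d4_decomp (θ : ↥(cdD4.D.group K) ≃* ↥(cdD4.D.group K)) :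
    ∃ (x : ↥(cdD4.D.group K)) (d g f : ↥(cdD4.D.group K) ≃* ↥(cdD4.D.group K)),
      cdD4.D.IsDiagonalAut d ∧ cdD4.D.IsGraphAut g ∧ cdD4.D.IsFieldAut f ∧
        ∀ y : ↥(cdD4.D.group K), θ y = x * d (g (f y)) * x⁻¹ := by
  obtain ⟨p, hp, hc⟩ := exists_prime_char K
  haveI := Fact.mk hp
  haveI := hc
  haveI := Fintype.ofFinite K
  refine exists_diag_graph_field bondHypD4 p (d4_sylow (F := K) p) ?_ θ
  intro l hl
  have hl' : l = [0, 1, 2, 3] ∨ l = [0, 1, 3, 2] ∨ l = [2, 1, 0, 3] ∨ l = [2, 1, 3, 0] ∨ l = [3, 1, 0, 2] ∨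
      l = [3, 1, 2, 0] := by simpa [bondHypD4] using hl
  rcases hl' with rfl | rfl | rfl | rfl | rfl | rfl
  · exact Or.inl (real_id relD4 _ (by decide))
  · exact Or.inl (real_data relD4 autHypD4.A graphD4C (by decide +kernel) (by decide +kernel) (by decide +kernel)
      [0, 1, 3, 2] [0, 1, 3, 2] (by decide +kernel) (by decide +kernel) (by decide +kernel) d4_notLong)
  · exact Or.inl (real_data relD4 autHypD4.A graphD4D (by decide +kernel) (by decide +kernel) (by decide +kernel)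
      [2, 1, 0, 3] [2, 1, 0, 3] (by decide +kernel) (by decide +kernel) (by decide +kernel) d4_notLong)
  · exact Or.inl (real_data relD4 autHypD4.A graphD4A (by decide +kernel) (by decide +kernel) (by decide +kernel)
      [2, 1, 3, 0] [3, 1, 0, 2] (by decide +kernel) (by decide +kernel) (by decide +kernel) d4_notLong)
  · exact Or.inl (real_data relD4 autHypD4.A graphD4B (by decide +kernel) (by decide +kernel) (by decide +kernel)
      [3, 1, 0, 2] [2, 1, 3, 0] (by decide +kernel) (by decide +kernel) (by decide +kernel) d4_notLong)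
  · exact Or.inl (real_data relD4 autHypD4.A graphD4E (by decide +kernel) (by decide +kernel) (by decide +kernel)
      [3, 1, 2, 0] [3, 1, 2, 0] (by decide +kernel) (by decide +kernel) (by decide +kernel) d4_notLong)

theorem f4_decomp (θ : ↥(cdF4.D.group K) ≃* ↥(cdF4.D.group K)) :
    ∃ (x : ↥(cdF4.D.group K)) (d g f : ↥(cdF4.D.group K) ≃* ↥(cdF4.D.group K)),
      cdF4.D.IsDiagonalAut d ∧ cdF4.D.IsGraphAut g ∧ cdF4.D.IsFieldAut f ∧
        ∀ y : ↥(cdF4.D.group K), θ y = x * d (g (f y)) * x⁻¹ := by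
  obtain ⟨p, hp, hc⟩ := exists_prime_char K
  haveI := Fact.mk hp
  haveI := hc
  haveI := Fintype.ofFinite K
  refine exists_diag_graph_field bondHypF4 p (f4_sylow (F := K) p) ?_ θ
  intro l hl
  have hl' : l = [0, 1, 2, 3] ∨ l = [3, 2, 1, 0] := by simpa [bondHypF4] using hl
  rcases hl' with rfl | rfl
  · exact Or.inl (real_id relF4 _ (by decide))
  · by_cases h2 : p = 2
    · subst h2
      obtain ⟨γ, hγ⟩ := f4_graph_ex (K := K)
      exact Or.inl (real_roots relF4 autHypF4.A 2 (ringChar.eq K 2) γ f4rho f4lam hγ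
        (fun r hr => f4rho_pos r hr.1 hr) (fun r hr => f4rho_neg r hr.1 hr) [3, 2, 1, 0] [3, 2, 1, 0]
        f4rho_simple (by decide +kernel) (by decide +kernel) (by decide +kernel))
    · refine Or.inr (f4_no_rev ?_)
      have := natCast_ne_zero_of_char (K := K) p 2 hp Nat.prime_two h2
      exact_mod_cast this

theorem b2_decomp (θ : ↥(cdB2.D.group K) ≃* ↥(cdB2.D.group K)) :
    ∃ (x : ↥(cdB2.D.group K)) (d g f : ↥(cdB2.D.group K) ≃* ↥(cdB2.D.group K)),
      cdB2.D.IsDiagonalAut d ∧ cdB2.D.IsGraphAut g ∧ cdB2.D.IsFieldAut f ∧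
        ∀ y : ↥(cdB2.D.group K), θ y = x * d (g (f y)) * x⁻¹ := by
  obtain ⟨p, hp, hc⟩ := exists_prime_char K
  haveI := Fact.mk hp
  haveI := hc
  haveI := Fintype.ofFinite K
  refine exists_diag_graph_field bondHypB2 p (b2_sylow (F := K) p) ?_ θ
  intro l hl
  have hl' : l = [0, 1] ∨ l = [1, 0] := by simpa [bondHypB2] using hl
  rcases hl' with rfl | rfl
  · exact Or.inl (real_id relB2 _ (by decide))
  · by_cases h2 : p = 2
    · subst h2
      obtain ⟨γ, hγ⟩ := b2_graph_ex (K := K)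
      exact Or.inl (real_roots relB2 autHypB2.A 2 (ringChar.eq K 2) γ b2rho b2lam hγ
        (fun r hr => b2rho_pos r hr.1 hr) (fun r hr => b2rho_neg r hr.1 hr) [1, 0] [1, 0]
        b2rho_simple (by decide +kernel) (by decide +kernel) (by decide +kernel))
    · refine Or.inr (b2_no_rev ?_)
      have := natCast_ne_zero_of_char (K := K) p 2 hp Nat.prime_two h2
      exact_mod_cast this

theorem g2_decomp (θ : ↥(cdG2.D.group K) ≃* ↥(cdG2.D.group K)) :
    ∃ (x : ↥(cdG2.D.group K)) (d g f : ↥(cdG2.D.group K) ≃* ↥(cdG2.D.group K)),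
      cdG2.D.IsDiagonalAut d ∧ cdG2.D.IsGraphAut g ∧ cdG2.D.IsFieldAut f ∧
        ∀ y : ↥(cdG2.D.group K), θ y = x * d (g (f y)) * x⁻¹ := by
  obtain ⟨p, hp, hc⟩ := exists_prime_char K
  haveI := Fact.mk hp
  haveI := hc
  haveI := Fintype.ofFinite K
  refine exists_diag_graph_field bondHypG2 p (g2_sylow (F := K) p) ?_ θ
  intro l hl
  have hl' : l = [0, 1] ∨ l = [1, 0] := by simpa [bondHypG2] using hl
  rcases hl' with rfl | rfl
  · exact Or.inl (real_id relG2 _ (by decide))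
  · by_cases h3 : p = 3
    · subst h3
      obtain ⟨γ, hγ⟩ := g2_graph_ex (K := K)
      exact Or.inl (real_roots relG2 autHypG2.A 3 (ringChar.eq K 3) γ g2rho g2lam hγ
        (fun r hr => g2rho_pos r hr.1 hr) (fun r hr => g2rho_neg r hr.1 hr) [1, 0] [1, 0]
        g2rho_simple (by decide +kernel) (by decide +kernel) (by decide +kernel))
    · refine Or.inr (g2_no_rev ?_)
      have := natCast_ne_zero_of_char (K := K) p 3 hp Nat.prime_three h3
      exact_mod_cast this

end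

end Cfsg.Agent.Lib.Helper3.ChevAut
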