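import Mathlib
import Cfsg.Prelude.Def_ChevStructure
import Cfsg.Prelude.Def_ChevAutomorphisms
import Cfsg.Agent.Lib.Helper3.ChevAut28
set_option autoImplicit false
set_option linter.unusedSectionVars false
set_option linter.style.haveILetI false
open Cfsg Cfsg.Lie

/-!
Automorphisms of Chevalley groups, part 30: the diagonal and field automorphisms in the sense of the definitions
are exactly the diagonal and field automorphisms constructed so far.
-/

namespace Cfsg.Agent.Lib.Helper3.ChevAut

open Cfsg.Agent.Lib.Helper3.ChevM Cfsg.Agent.Lib.Helper3.ChevSp Cfsg.Agent.Lib.Helper3 ChevU ChevT ChevH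
open Cfsg.Agent.Lib.Helper3.ChevAt Cfsg.Agent.Lib.Helper1

/-- The automorphism group of a finite field is cyclic. -/
theorem isCyclic_ringAut (F : Type*) [Field F] [Finite F] : IsCyclic (F ≃+* F) := by
  obtain ⟨p, hp⟩ := CharP.exists F
  haveI := hp
  haveI : Fact p.Prime := ⟨CharP.char_is_prime F p⟩
  letI : Algebra (ZMod p) F := ZMod.algebra F p
  let e : (F ≃ₐ[ZMod p] F) →* (F ≃+* F) :=
    { toFun := fun τ => τ.toRingEquiv
      map_one' := rfl
      map_mul' := fun _ _ => rfl }
  have he : Function.Surjective e := by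
    intro σ
    refine ⟨AlgEquiv.ofRingEquiv (f := σ) ?_, ?_⟩
    · intro x
      have : (σ : F →+* F).comp (algebraMap (ZMod p) F) = algebraMap (ZMod p) F :=
        Subsingleton.elim _ _
      exact congrFun (congrArg DFunLike.coe this) x
    · ext x; rfl
  exact isCyclic_of_surjective e he

/-- The sums `r + prev`, `2r + prev`, … along a chain are recorded as sums of two roots. -/
def chainCharAux (D : ChevalleyDatum) (r : ℕ) : ℕ → List (ℕ × ℤ) → Bool
  | _, [] => true
  | prev, x :: rest =>
    decide (x.1 < D.nroots) && decide (D.chainRoot r prev 1 = some x.1) && chainCharAux D r x.1 rest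

/-- The table check that the chains through the root `r` are recorded as sums of two roots. -/
def chainCharCheck (D : ChevalleyDatum) (r : ℕ) : Bool :=
  (D.chain.getD r #[]).toList.all fun e => decide (e.1 < D.nroots) && chainCharAux D r e.1 e.2.toList

theorem chainCharAux_spec (D : ChevalleyDatum) {K : Type*} [Field K] (χ : ℕ → Kˣ) (hχ : D.IsRootCharacter χ)
    (r : ℕ) (hr : r < D.nroots) :
    ∀ (l : List (ℕ × ℤ)) (prev : ℕ), prev < D.nroots → chainCharAux D r prev l = true →
      ∀ (k : ℕ) (x : ℕ × ℤ), l[k]? = some x → χ x.1 = χ prev * χ r ^ (k + 1) := by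
  intro l
  induction l with
  | nil => intro prev _ _ k x hx; simp at hx
  | cons y rest ih =>
    intro prev hprev h k x hx
    simp only [chainCharAux, Bool.and_eq_true, decide_eq_true_eq] at h
    obtain ⟨⟨h1, h2⟩, h3⟩ := h
    have hy : χ y.1 = χ r * χ prev := hχ.2 r prev y.1 hr hprev h2
    cases k with
    | zero =>
      simp only [List.getElem?_cons_zero, Option.some.injEq] at hx
      subst hx
      rw [hy, zero_add, pow_one, mul_comm]
    | succ k =>
      simp only [List.getElem?_cons_succ] at hx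
      rw [ih y.1 h1 h3 k x hx, hy, pow_succ (χ r) (k + 1)]
      rw [mul_comm (χ r) (χ prev), mul_assoc, mul_comm (χ r)]

theorem chainCharCheck_spec (D : ChevalleyDatum) {K : Type*} [Field K] (χ : ℕ → Kˣ) (hχ : D.IsRootCharacter χ)
    (r : ℕ) (hr : r < D.nroots) (h : chainCharCheck D r = true) (s u k : ℕ) (m : ℤ)
    (hm : (k, m) ∈ D.chainCoeff r s u) : χ u = χ s * χ r ^ k := by
  unfold ChevalleyDatum.chainCoeff at hm
  rw [List.mem_flatMap] at hm
  obtain ⟨e, he, hq⟩ := hm
  rw [List.mem_filter] at he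
  rw [List.mem_map] at hq
  obtain ⟨q, hq1, hq2⟩ := hq
  rw [List.mem_filter] at hq1
  simp only [chainCharCheck, List.all_eq_true, Bool.and_eq_true, decide_eq_true_eq] at h
  obtain ⟨h1, h2⟩ := h e he.1
  have e1 : e.1 = s := by simpa using he.2
  have e2 : q.1.1 = u := by simpa using hq1.2
  have e3 : q.2 + 1 = k := by
    have := congrArg Prod.fst hq2
    simpa using this
  have hq3 : e.2.toList[q.2]? = some q.1 := List.mem_zipIdx_iff_getElem?.mp hq1.1
  have := chainCharAux_spec D χ hχ r hr e.2.toList e.1 h1 h2 q.2 q.1 hq3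
  rw [e1, e2, e3] at this
  exact this

section
variable {K : Type*} [Field K] {C : CDatum} {R : RelData C} (Y : AutHyp C R) (V : VecHyp C)
include Y

/-- A field automorphism in the sense of the definitions is one of the field automorphisms. -/
theorem eq_fAut_of_isFieldAut (φ : MulAut ↥(C.D.group K)) (h : C.D.IsFieldAut φ) : ∃ σ : K ≃+* K, φ = fAut C.D σ := by
  obtain ⟨σ, hσ⟩ := h
  refine ⟨σ, ?_⟩
  have key : ∀ r < C.D.nroots, ∀ t : K, ex φ (R.xU r t) = ex (fAut C.D σ) (R.xU r t) := by
    intro r hr t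
    rw [ex_fAut_xU R σ r hr, ex_of_mem _ (R.xU_mem_group r hr t)]
    apply Units.ext
    rw [hσ ⟨R.xU r t, R.xU_mem_group r hr t⟩ r t hr (R.xU_val r t), R.xU_val]
  apply aut_eq_of_simple Y
  intro i hi t
  exact ⟨key _ (R.simple_lt i hi) t, key _ (R.neg_lt _ (R.simple_lt i hi)) t⟩

/-- A diagonal automorphism in the sense of the definitions is one of the diagonal automorphisms. -/
theorem eq_dAut_of_isDiagonalAut
    (hcc : ∀ i < C.D.rank, chainCharCheck C.D (C.D.simple i) = true ∧
      chainCharCheck C.D (C.D.neg (C.D.simple i)) = true)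
    (φ : MulAut ↥(C.D.group K)) (h : C.D.IsDiagonalAut φ) : ∃ c : Fin C.D.rank → Kˣ, φ = dAut V R c := by
  obtain ⟨χ, hχ, hφ⟩ := h
  refine ⟨fun i => χ (C.D.simple i.val), ?_⟩
  have key : ∀ r < C.D.nroots, chainCharCheck C.D r = true → ∀ t : K,
      ex φ (R.xU r t) = R.xU r ((χ r : K) * t) := by
    intro r hr hck t
    rw [ex_of_mem _ (R.xU_mem_group r hr t)]
    apply Units.ext
    rw [hφ ⟨R.xU r t, R.xU_mem_group r hr t⟩]
    show C.D.charDiag K χ * ((R.xU r t : GL C.D.Idx K) : Matrix C.D.Idx C.D.Idx K) *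
      C.D.charDiag K (fun r => (χ r)⁻¹) = _
    rw [R.xU_val, R.xU_val]
    have e1 : C.D.charDiag K χ = ((diagU C.D K fun s => χ s.val : GL C.D.Idx K) : Matrix C.D.Idx C.D.Idx K) := rfl
    have e2 : C.D.charDiag K (fun r => (χ r)⁻¹) =
        (((diagU C.D K fun s => χ s.val : GL C.D.Idx K)⁻¹ : GL C.D.Idx K) : Matrix C.D.Idx C.D.Idx K) := rfl
    rw [e1, e2]
    unfold ChevalleyDatum.x
    rw [dif_pos hr, dif_pos hr]
    rw [diagU_mul_xMat C.D χ ⟨r, hr⟩ (hχ.1 r hr) (fun s u k m hm => chainCharCheck_spec C.D χ hχ r hr hck s u k m hm) t,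
      mul_assoc, ← Units.val_mul, mul_inv_cancel, Units.val_one, mul_one]
  apply aut_eq_of_simple Y
  intro i hi t
  have hl := R.simple_lt i hi
  have hnl := R.neg_lt _ hl
  constructor
  · rw [key _ hl (hcc i hi).1, ex_dAut_xU V R _ _ hl, wtC_simple V _ i hi]
  · rw [key _ hnl (hcc i hi).2, ex_dAut_xU V R _ _ hnl, wtC_neg V _ _ hl, wtC_simple V _ i hi, hχ.1 _ hl]

/-- The subgroup generated by the field automorphisms. -/
theorem closure_isFieldAut :
    Subgroup.closure {φ : MulAut ↥(C.D.group K) | C.D.IsFieldAut φ} = (fAutHom (K := K) C.D).range := by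
  apply le_antisymm
  · rw [Subgroup.closure_le]
    intro φ hφ
    obtain ⟨σ, rfl⟩ := eq_fAut_of_isFieldAut Y φ hφ
    exact ⟨σ, rfl⟩
  · rintro _ ⟨σ, rfl⟩
    exact Subgroup.subset_closure (isFieldAut_fAut R σ)

/-- The subgroup generated by the diagonal automorphisms. -/
theorem closure_isDiagonalAut
    (hcc : ∀ i < C.D.rank, chainCharCheck C.D (C.D.simple i) = true ∧
      chainCharCheck C.D (C.D.neg (C.D.simple i)) = true) :
    Subgroup.closure {φ : MulAut ↥(C.D.group K) | C.D.IsDiagonalAut φ} = (dAutHom (K := K) V R).range := by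
  apply le_antisymm
  · rw [Subgroup.closure_le]
    intro φ hφ
    obtain ⟨c, rfl⟩ := eq_dAut_of_isDiagonalAut Y V hcc φ hφ
    exact ⟨c, rfl⟩
  · rintro _ ⟨c, rfl⟩
    exact Subgroup.subset_closure (isDiagonalAut_dAut V R c)

end

end Cfsg.Agent.Lib.Helper3.ChevAut
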