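import Mathlib
set_option autoImplicit false
set_option linter.unusedSectionVars false
set_option linter.style.haveILetI false

/-!
Automorphisms of Chevalley groups, part 31: the group theory behind the structure of the outer automorphism group.
A group `A` with a normal subgroup `I`, homomorphisms `δ` (from a commutative group) and `φ` and a family `γ` of
elements such that `φ` and `γ` normalize `δ`, `γ` commutes with `φ` and every element is in `I δ γ φ`.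
-/

namespace Cfsg.Agent.Lib.Helper3.ChevAut

namespace OutStruct

open scoped commutatorElement

variable {A : Type*} [Group A] (I : Subgroup A) [hI : I.Normal] {X Y ι : Type*} [CommGroup X] [Group Y]
  (δ : X →* A) (φ : Y →* A) (γ : ι → A)

/-- The hypotheses. -/
structure Hyp : Prop where
  h1 : ∀ y x, ∃ x', φ y * δ x = δ x' * φ y
  h2 : ∀ l x, ∃ x', γ l * δ x = δ x' * γ l
  h3 : ∀ l y, γ l * φ y = φ y * γ l
  h4 : ∀ a : A, ∃ i ∈ I, ∃ x l y, a = i * δ x * γ l * φ y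

/-- The subgroup `I δ`. -/
def P : Subgroup A where
  carrier := {a | ∃ i ∈ I, ∃ x, a = i * δ x}
  one_mem' := ⟨1, I.one_mem, 1, by simp⟩
  mul_mem' := by
    rintro a b ⟨i, hi, x, rfl⟩ ⟨i', hi', x', rfl⟩
    refine ⟨i * (δ x * i' * (δ x)⁻¹), I.mul_mem hi (hI.conj_mem _ hi' _), x * x', ?_⟩
    rw [map_mul]; group
  inv_mem' := by
    rintro a ⟨i, hi, x, rfl⟩
    refine ⟨(δ x)⁻¹ * i⁻¹ * ((δ x)⁻¹)⁻¹, hI.conj_mem _ (I.inv_mem hi) _, x⁻¹, ?_⟩
    rw [map_inv]; group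

theorem mem_P {a : A} : a ∈ P I δ ↔ ∃ i ∈ I, ∃ x, a = i * δ x := Iff.rfl

theorem le_P : I ≤ P I δ := fun i hi => ⟨i, hi, 1, by simp⟩

theorem δ_mem_P (x : X) : δ x ∈ P I δ := ⟨1, I.one_mem, x, by simp⟩

variable {I δ φ γ}

/-- Conjugation by `g` preserves `I δ`. -/
def NzP (I : Subgroup A) [I.Normal] (δ : X →* A) (g : A) : Prop := ∀ x, ∃ i ∈ I, ∃ x', g * δ x * g⁻¹ = i * δ x'

theorem NzP.conj_mem {g : A} (h : NzP I δ g) {p : A} (hp : p ∈ P I δ) : g * p * g⁻¹ ∈ P I δ := by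
  obtain ⟨i, hi, x, rfl⟩ := hp
  obtain ⟨i', hi', x', e⟩ := h x
  have : g * (i * δ x) * g⁻¹ = (g * i * g⁻¹) * (g * δ x * g⁻¹) := by group
  rw [this, e]
  exact (P I δ).mul_mem (le_P I δ (hI.conj_mem _ hi _)) ⟨i', hi', x', rfl⟩

theorem NzP.mul {g g' : A} (h : NzP I δ g) (h' : NzP I δ g') : NzP I δ (g * g') := by
  intro x
  obtain ⟨i', hi', x', e'⟩ := h' x
  obtain ⟨i, hi, x'', e⟩ := h x'
  refine ⟨g * i' * g⁻¹ * i, I.mul_mem (hI.conj_mem _ hi' _) hi, x'', ?_⟩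
  have : g * g' * δ x * (g * g')⁻¹ = g * (g' * δ x * g'⁻¹) * g⁻¹ := by group
  rw [this, e']
  have : g * (i' * δ x') * g⁻¹ = (g * i' * g⁻¹) * (g * δ x' * g⁻¹) := by group
  rw [this, e]
  group

theorem nzP_of_mem {i : A} (hi : i ∈ I) : NzP I δ i := by
  intro x
  refine ⟨i * (δ x * i⁻¹ * (δ x)⁻¹), I.mul_mem hi (hI.conj_mem _ (I.inv_mem hi) _), x, ?_⟩
  group

theorem nzP_δ (x₀ : X) : NzP I δ (δ x₀) := by
  intro x
  refine ⟨1, I.one_mem, x, ?_⟩
  rw [one_mul, ← map_mul, ← map_inv, ← map_mul, mul_comm x₀ x, mul_inv_cancel_right]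

theorem nzP_of_comm {g : A} (h : ∀ x, ∃ x', g * δ x = δ x' * g) : NzP I δ g := by
  intro x
  obtain ⟨x', e⟩ := h x
  refine ⟨1, I.one_mem, x', ?_⟩
  rw [e, one_mul, mul_inv_cancel_right]

variable (H : Hyp I δ φ γ)
include H

theorem nzP_all (a : A) : NzP I δ a := by
  obtain ⟨i, hi, x, l, y, rfl⟩ := H.h4 a
  exact (((nzP_of_mem hi).mul (nzP_δ x)).mul (nzP_of_comm (H.h2 l))).mul (nzP_of_comm (H.h1 y))

/-- `I δ` is normal. -/
theorem normal_P : (P I δ).Normal := ⟨fun _ hp g => (nzP_all H g).conj_mem hp⟩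

/-- The subgroup `I δ φ`. -/
def S : Subgroup A where
  carrier := {a | ∃ p ∈ P I δ, ∃ y, a = p * φ y}
  one_mem' := ⟨1, (P I δ).one_mem, 1, by simp⟩
  mul_mem' := by
    rintro a b ⟨p, hp, y, rfl⟩ ⟨p', hp', y', rfl⟩
    refine ⟨p * (φ y * p' * (φ y)⁻¹), (P I δ).mul_mem hp ((normal_P H).conj_mem _ hp' _), y * y', ?_⟩
    rw [map_mul]; group
  inv_mem' := by
    rintro a ⟨p, hp, y, rfl⟩
    refine ⟨(φ y)⁻¹ * p⁻¹ * ((φ y)⁻¹)⁻¹, (normal_P H).conj_mem _ ((P I δ).inv_mem hp) _, y⁻¹, ?_⟩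
    rw [map_inv]; group

theorem mem_S {a : A} : a ∈ S H ↔ ∃ p ∈ P I δ, ∃ y, a = p * φ y := Iff.rfl

theorem P_le_S : P I δ ≤ S H := fun p hp => ⟨p, hp, 1, by simp⟩

theorem φ_mem_S (y : Y) : φ y ∈ S H := ⟨1, (P I δ).one_mem, y, by simp⟩

theorem le_S : I ≤ S H := (le_P I δ).trans (P_le_S H)

/-- An element of `I δ φ` written out. -/
theorem mem_S' {a : A} (ha : a ∈ S H) : ∃ i ∈ I, ∃ x y, a = i * δ x * φ y := by
  obtain ⟨p, ⟨i, hi, x, rfl⟩, y, rfl⟩ := ha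
  exact ⟨i, hi, x, y, rfl⟩

/-- `I δ φ` is normal. -/
theorem normal_S : (S H).Normal := by
  have hP := normal_P H
  -- conjugation by each kind of generator maps `φ y` into `S`
  have key : ∀ g : A, (∀ y, g * φ y * g⁻¹ ∈ S H) → ∀ s ∈ S H, g * s * g⁻¹ ∈ S H := by
    intro g hg s hs
    obtain ⟨p, hp, y, rfl⟩ := hs
    have : g * (p * φ y) * g⁻¹ = (g * p * g⁻¹) * (g * φ y * g⁻¹) := by group
    rw [this]
    exact (S H).mul_mem (P_le_S H (hP.conj_mem _ hp _)) (hg y)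
  have kmul : ∀ g g' : A, (∀ s ∈ S H, g * s * g⁻¹ ∈ S H) → (∀ s ∈ S H, g' * s * g'⁻¹ ∈ S H) →
      ∀ s ∈ S H, (g * g') * s * (g * g')⁻¹ ∈ S H := by
    intro g g' h h' s hs
    have : (g * g') * s * (g * g')⁻¹ = g * (g' * s * g'⁻¹) * g⁻¹ := by group
    rw [this]
    exact h _ (h' s hs)
  have k1 : ∀ i ∈ I, ∀ s ∈ S H, i * s * i⁻¹ ∈ S H := by
    intro i hi
    apply key
    intro y
    have : i * φ y * i⁻¹ = (i * (φ y * i⁻¹ * (φ y)⁻¹)) * φ y := by group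
    rw [this]
    exact ⟨_, le_P I δ (I.mul_mem hi (hI.conj_mem _ (I.inv_mem hi) _)), y, rfl⟩
  have k2 : ∀ x, ∀ s ∈ S H, δ x * s * (δ x)⁻¹ ∈ S H := by
    intro x
    apply key
    intro y
    obtain ⟨x', e⟩ := H.h1 y x⁻¹
    have : δ x * φ y * (δ x)⁻¹ = δ x * (φ y * δ x⁻¹) := by rw [map_inv]; group
    rw [this, e, ← mul_assoc]
    exact ⟨_, (P I δ).mul_mem (δ_mem_P I δ x) (δ_mem_P I δ x'), y, rfl⟩
  have k3 : ∀ l, ∀ s ∈ S H, γ l * s * (γ l)⁻¹ ∈ S H := by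
    intro l
    apply key
    intro y
    rw [H.h3 l y, mul_inv_cancel_right]
    exact φ_mem_S H y
  have k4 : ∀ y₀, ∀ s ∈ S H, φ y₀ * s * (φ y₀)⁻¹ ∈ S H := by
    intro y₀
    apply key
    intro y
    rw [← map_mul, ← map_inv, ← map_mul]
    exact φ_mem_S H _
  refine ⟨fun s hs g => ?_⟩
  obtain ⟨i, hi, x, l, y, rfl⟩ := H.h4 g
  exact kmul _ _ (kmul _ _ (kmul _ _ (k1 i hi) (k2 x)) (k3 l)) (k4 y) s hs

/-- The image of `δ` modulo `I` is the image of `I δ`. -/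
theorem map_range_δ : δ.range.map (QuotientGroup.mk' I) = (P I δ).map (QuotientGroup.mk' I) := by
  apply le_antisymm
  · apply Subgroup.map_mono
    rintro _ ⟨x, rfl⟩
    exact δ_mem_P I δ x
  · rintro _ ⟨p, ⟨i, hi, x, rfl⟩, rfl⟩
    refine ⟨δ x, ⟨x, rfl⟩, ?_⟩
    rw [map_mul]
    have : (QuotientGroup.mk' I) i = 1 := (QuotientGroup.eq_one_iff i).mpr hi
    rw [this, one_mul]

/-- The images of `δ` and `φ` modulo `I` generate the image of `I δ φ`. -/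
theorem map_sup_range :
    δ.range.map (QuotientGroup.mk' I) ⊔ φ.range.map (QuotientGroup.mk' I) = (S H).map (QuotientGroup.mk' I) := by
  apply le_antisymm
  · apply sup_le
    · rw [map_range_δ H]
      exact Subgroup.map_mono (P_le_S H)
    · apply Subgroup.map_mono
      rintro _ ⟨y, rfl⟩
      exact φ_mem_S H y
  · rintro _ ⟨s, hs, rfl⟩
    obtain ⟨i, hi, x, y, rfl⟩ := mem_S' H hs
    rw [map_mul, map_mul]
    have : (QuotientGroup.mk' I) i = 1 := (QuotientGroup.eq_one_iff i).mpr hi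
    rw [this, one_mul]
    exact Subgroup.mul_mem _ (Subgroup.mem_sup_left ⟨δ x, ⟨x, rfl⟩, rfl⟩)
      (Subgroup.mem_sup_right ⟨φ y, ⟨y, rfl⟩, rfl⟩)

/-- The image of `δ` modulo `I` is normal. -/
theorem normal_map_δ : (δ.range.map (QuotientGroup.mk' I)).Normal := by
  rw [map_range_δ H]
  exact (normal_P H).map _ (QuotientGroup.mk'_surjective I)

/-- The subgroup generated by the images of `δ` and `φ` modulo `I` is normal. -/
theorem normal_map_sup : (δ.range.map (QuotientGroup.mk' I) ⊔ φ.range.map (QuotientGroup.mk' I)).Normal := by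
  rw [map_sup_range H]
  exact (normal_S H).map _ (QuotientGroup.mk'_surjective I)

/-- The index of the subgroup generated by the images of `δ` and `φ` modulo `I`. -/
theorem index_map_sup [Finite ι] (h5 : ∀ l l', (γ l)⁻¹ * γ l' ∈ S H → l = l') :
    (δ.range.map (QuotientGroup.mk' I) ⊔ φ.range.map (QuotientGroup.mk' I)).index = Nat.card ι := by
  rw [map_sup_range H, Subgroup.index_map_eq _ (QuotientGroup.mk'_surjective I)
    (by rw [QuotientGroup.ker_mk']; exact le_S H)]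
  haveI := normal_S H
  unfold Subgroup.index
  symm
  apply Nat.card_congr
  refine Equiv.ofBijective (fun l => (QuotientGroup.mk (γ l) : A ⧸ S H)) ⟨?_, ?_⟩
  · intro l l' e
    exact h5 l l' (QuotientGroup.eq.mp e)
  · intro o
    obtain ⟨a, rfl⟩ := QuotientGroup.mk_surjective o
    obtain ⟨i, hi, x, l, y, rfl⟩ := H.h4 a
    refine ⟨l, ?_⟩
    show (QuotientGroup.mk (γ l) : A ⧸ S H) = QuotientGroup.mk (i * δ x * γ l * φ y)
    rw [QuotientGroup.eq]
    have : (γ l)⁻¹ * (i * δ x * γ l * φ y) = ((γ l)⁻¹ * (i * δ x) * ((γ l)⁻¹)⁻¹) * φ y := by group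
    rw [this]
    exact (S H).mul_mem ((normal_S H).conj_mem _ (P_le_S H ⟨i, hi, x, rfl⟩) _) (φ_mem_S H y)

/-- The quotient by the subgroup generated by the images of `δ` and `φ` modulo `I` is not commutative if two of the
`γ` do not commute modulo `I δ φ`. -/
theorem not_commutator_le (l₁ l₂ : ι) (h6 : γ l₁ * γ l₂ * (γ l₁)⁻¹ * (γ l₂)⁻¹ ∉ S H) :
    ¬ commutator (A ⧸ I) ≤ δ.range.map (QuotientGroup.mk' I) ⊔ φ.range.map (QuotientGroup.mk' I) := by
  intro hle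
  rw [map_sup_range H] at hle
  have h1 : ⁅(QuotientGroup.mk' I) (γ l₁), (QuotientGroup.mk' I) (γ l₂)⁆ ∈ commutator (A ⧸ I) :=
    Subgroup.commutator_mem_commutator (Subgroup.mem_top _) (Subgroup.mem_top _)
  have h2 := hle h1
  rw [← map_commutatorElement] at h2
  obtain ⟨s, hs, e⟩ := h2
  have h3 : s⁻¹ * ⁅γ l₁, γ l₂⁆ ∈ I := by
    rw [← QuotientGroup.eq]
    exact e
  have h4 : ⁅γ l₁, γ l₂⁆ ∈ S H := by
    have : ⁅γ l₁, γ l₂⁆ = s * (s⁻¹ * ⁅γ l₁, γ l₂⁆) := by group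
    rw [this]
    exact (S H).mul_mem hs (le_S H h3)
  exact h6 h4

end OutStruct

end Cfsg.Agent.Lib.Helper3.ChevAut
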