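import Mathlib
import Cfsg.Prelude.Def_ChevStructure
import Cfsg.Prelude.Def_ChevAutomorphisms
import Cfsg.Agent.Lib.Helper3.ChevAut30
set_option autoImplicit false
set_option linter.unusedSectionVars false
set_option linter.style.haveILetI false
open Cfsg Cfsg.Lie

/-!
Automorphisms of Chevalley groups, part 32: relations between the diagonal, field and graph automorphisms.
-/

namespace Cfsg.Agent.Lib.Helper3.ChevAut

open Cfsg.Agent.Lib.Helper3.ChevM Cfsg.Agent.Lib.Helper3.ChevSp Cfsg.Agent.Lib.Helper3 ChevU ChevT ChevH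
open Cfsg.Agent.Lib.Helper3.ChevAt Cfsg.Agent.Lib.Helper1

section
variable {K : Type*} [Field K] [Finite K] {C : CDatum} {R : RelData C} (Z : GenHyp C R)
include Z

/-- Field automorphisms normalize the group of diagonal automorphisms. -/
theorem fAut_mul_dAut (σ : K ≃+* K) (c : Fin C.D.rank → Kˣ) :
    fAut C.D σ * dAut Z.V R c = dAut Z.V R (fun i => Units.map (σ : K →* K) (c i)) * fAut C.D σ := by
  apply aut_eq_of_simple Z.Y
  intro i hi t
  have hl := R.simple_lt i hi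
  have hnl := R.neg_lt _ hl
  constructor
  · rw [ex_mul_aut _ _ (R.xU_mem_group _ hl _), ex_mul_aut _ _ (R.xU_mem_group _ hl _), ex_dAut_xU Z.V R _ _ hl,
      ex_fAut_xU R σ _ hl, ex_fAut_xU R σ _ hl, ex_dAut_xU Z.V R _ _ hl, wtC_simple Z.V _ i hi,
      wtC_simple Z.V _ i hi, map_mul]
    rfl
  · rw [ex_mul_aut _ _ (R.xU_mem_group _ hnl _), ex_mul_aut _ _ (R.xU_mem_group _ hnl _), ex_dAut_xU Z.V R _ _ hnl,
      ex_fAut_xU R σ _ hnl, ex_fAut_xU R σ _ hnl, ex_dAut_xU Z.V R _ _ hnl, wtC_neg Z.V _ _ hl, wtC_neg Z.V _ _ hl,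
      wtC_simple Z.V _ i hi, wtC_simple Z.V _ i hi, map_mul]
    congr 2

/-- Automorphisms along bijective maps of the nodes normalize the group of diagonal automorphisms. -/
theorem GraphLike.mul_dAut {γ : MulAut ↥(C.D.group K)} {π : ℕ → ℕ} (Gl : GraphLike R K γ π)
    (hπ : ∀ i < C.D.rank, π i < C.D.rank) (πinv : ℕ → ℕ) (hinv : ∀ i < C.D.rank, πinv i < C.D.rank)
    (hπinv : ∀ i < C.D.rank, πinv (π i) = i) (c : Fin C.D.rank → Kˣ) :
    ∃ c' : Fin C.D.rank → Kˣ, γ * dAut Z.V R c = dAut Z.V R c' * γ := by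
  refine ⟨fun j => c ⟨πinv j.val, hinv j.val j.isLt⟩ ^ Gl.e (πinv j.val), ?_⟩
  apply aut_eq_of_simple Z.Y
  intro i hi t
  have hl := R.simple_lt i hi
  have hnl := R.neg_lt _ hl
  have hl' := R.simple_lt _ (hπ i hi)
  have hnl' := R.neg_lt _ hl'
  have hc : ((c ⟨πinv (π i), hinv (π i) (hπ i hi)⟩ ^ Gl.e (πinv (π i)) : Kˣ) : K) = ((c ⟨i, hi⟩ : Kˣ) : K) ^ Gl.e i := by
    have e : (⟨πinv (π i), hinv (π i) (hπ i hi)⟩ : Fin C.D.rank) = ⟨i, hi⟩ := Fin.ext (hπinv i hi)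
    rw [e, hπinv i hi, Units.val_pow_eq_pow_val]
  constructor
  · rw [ex_mul_aut _ _ (R.xU_mem_group _ hl _), ex_mul_aut _ _ (R.xU_mem_group _ hl _), ex_dAut_xU Z.V R _ _ hl,
      Gl.pos i hi, Gl.pos i hi, ex_dAut_xU Z.V R _ _ hl', wtC_simple Z.V _ i hi, wtC_simple Z.V _ _ (hπ i hi),
      mul_pow]
    congr 2
    exact hc.symm
  · rw [ex_mul_aut _ _ (R.xU_mem_group _ hnl _), ex_mul_aut _ _ (R.xU_mem_group _ hnl _), ex_dAut_xU Z.V R _ _ hnl,
      Gl.neg i hi, Gl.neg i hi, ex_dAut_xU Z.V R _ _ hnl', wtC_neg Z.V _ _ hl, wtC_neg Z.V _ _ hl',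
      wtC_simple Z.V _ i hi, wtC_simple Z.V _ _ (hπ i hi), mul_pow]
    congr 2
    rw [Units.val_inv_eq_inv_val, Units.val_inv_eq_inv_val, inv_pow, hc]

/-- Composition of automorphisms along maps of the nodes. -/
def GraphLike.comp {γ₁ γ₂ : MulAut ↥(C.D.group K)} {π₁ π₂ : ℕ → ℕ} (Gl₁ : GraphLike R K γ₁ π₁)
    (Gl₂ : GraphLike R K γ₂ π₂) (hπ₂ : ∀ i < C.D.rank, π₂ i < C.D.rank) :
    GraphLike R K (γ₁ * γ₂) (fun i => π₁ (π₂ i)) where
  presU := Gl₁.presU.mul Gl₂.presU R.posUnipotent_le_group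
  presV := Gl₁.presV.mul Gl₂.presV (negUnipotent_le_group Z.Y.A)
  e := fun i => Gl₂.e i * Gl₁.e (π₂ i)
  pos := fun i hi t => by
    rw [ex_mul_aut _ _ (R.xU_mem_group _ (R.simple_lt i hi) _), Gl₂.pos i hi, Gl₁.pos _ (hπ₂ i hi), pow_mul]
  neg := fun i hi t => by
    rw [ex_mul_aut _ _ (R.xU_mem_group _ (R.neg_lt _ (R.simple_lt i hi)) _), Gl₂.neg i hi, Gl₁.neg _ (hπ₂ i hi),
      pow_mul]

/-- Two automorphisms along maps of the nodes which differ by an inner, a diagonal and a field automorphism are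
along the same map of the nodes. -/
theorem GraphLike.nodes_eq' {γ γ' : MulAut ↥(C.D.group K)} {π π' : ℕ → ℕ} (Gl : GraphLike R K γ π)
    (Gl' : GraphLike R K γ' π') (hπ : ∀ i < C.D.rank, π i < C.D.rank) (hπ' : ∀ i < C.D.rank, π' i < C.D.rank)
    (c : Fin C.D.rank → Kˣ) (σ : K ≃+* K) (a : ↥(C.D.group K))
    (h : γ⁻¹ * γ' = MulAut.conj a * dAut Z.V R c * fAut C.D σ) :
    ∀ i < C.D.rank, π i = π' i := by
  have Y := Z.Y
  have hUG : C.D.posUnipotent K ≤ C.D.group K := R.posUnipotent_le_group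
  have hVG : C.D.negUnipotent K ≤ C.D.group K := negUnipotent_le_group Y.A
  have ha : MulAut.conj a = γ⁻¹ * γ' * (dAut Z.V R c * fAut C.D σ)⁻¹ := by
    rw [h]; group
  obtain ⟨z, hz⟩ := exists_tor_of_pres Z a
    (by
      rw [ha]
      exact ((Gl.presU.inv hUG).mul Gl'.presU hUG).mul
        (((pres_dAutG_pos Z c).mul (pres_fAut_pos Y σ) hUG).inv hUG) hUG)
    (by
      rw [ha]
      exact ((Gl.presV.inv hVG).mul Gl'.presV hVG).mul
        (((pres_dAutG_neg Z c).mul (pres_fAut_neg Y σ) hVG).inv hVG) hVG)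
  intro i hi
  have hl := R.simple_lt i hi
  have h2 : γ' = γ * (MulAut.conj a * dAut Z.V R c * fAut C.D σ) := by
    rw [← h, mul_inv_cancel_left]
  have h3 := congrArg (fun θ => ex θ (R.xU (C.D.simple i) (1 : K))) h2
  have hG1 : ∀ u : K, R.xU (C.D.simple i) u ∈ C.D.group K := fun u => R.xU_mem_group _ hl _
  rw [Gl'.pos i hi, ex_mul_aut _ _ (hG1 _), ex_mul_aut _ _ (hG1 _), ex_fAut_xU R σ _ hl,
    ex_mul_aut _ _ (hG1 _), ex_dAut_xU Z.V R _ _ hl, ex_conj a (hG1 _), ← hz, tor_conj_xU R z _ hl,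
    Gl.pos i hi] at h3
  by_contra hne
  have hne' : C.D.simple (π' i) ≠ C.D.simple (π i) := fun e => hne (Y.simp_inj _ (hπ' i hi) _ (hπ i hi) e).symm
  have := Y.A.U.xU_eq_xU_pos (F := K) _ _ (simple_pos Y.A _ (hπ' i hi)) (simple_pos Y.A _ (hπ i hi)) hne' _ _ h3
  have h4 := this.1
  rw [one_pow] at h4
  exact one_ne_zero h4

end

end Cfsg.Agent.Lib.Helper3.ChevAut
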