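import Mathlib
import Cfsg.Prelude.Def_ChevStructure
import Cfsg.Prelude.Def_ChevAutomorphisms
import Cfsg.Prelude.Def_KGroupFacts
import Cfsg.Agent.Lib.Helper3.ChevAut31
import Cfsg.Agent.Lib.Helper3.ChevAut32
set_option autoImplicit false
set_option linter.unusedSectionVars false
set_option linter.style.haveILetI false
open Cfsg Cfsg.Lie

/-!
Automorphisms of Chevalley groups, part 33: the structure of the outer automorphism group.
-/

namespace Cfsg.Agent.Lib.Helper3.ChevAut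

open Cfsg.Agent.Lib.Helper3.ChevM Cfsg.Agent.Lib.Helper3.ChevSp Cfsg.Agent.Lib.Helper3 ChevU ChevT ChevH
open Cfsg.Agent.Lib.Helper3.ChevAt Cfsg.Agent.Lib.Helper1

/-- A list of `n` distinct numbers below `n` has an inverse. -/
theorem exists_inv_of_nodup (n : ℕ) (l : List ℕ) (hlen : l.length = n) (hnd : l.Nodup) :
    ∃ πinv : ℕ → ℕ, (∀ i < n, πinv i < n) ∧ ∀ i < n, πinv (l.getD i 0) = i := by
  refine ⟨fun j => if l.idxOf j < n then l.idxOf j else 0, ?_, ?_⟩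
  · intro i hi
    show (if l.idxOf i < n then l.idxOf i else 0) < n
    split_ifs with h
    · exact h
    · exact lt_of_le_of_lt (Nat.zero_le _) hi
  · intro i hi
    have h1 : l.getD i 0 = l[i]'(by rw [hlen]; exact hi) := List.getD_eq_getElem _ _ (by rw [hlen]; exact hi)
    have h2 : l.idxOf (l.getD i 0) = i := by
      rw [h1]
      exact hnd.idxOf_getElem i (by rw [hlen]; exact hi)
    show (if l.idxOf (l.getD i 0) < n then l.idxOf (l.getD i 0) else 0) = i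
    rw [h2, if_pos hi]

section
variable {K : Type*} [Field K] [Finite K] {C : CDatum} {R : RelData C} (B : BondHyp C R)
include B

open scoped commutatorElement in
/-- The structure of the outer automorphism group. -/
theorem out_structure (p : ℕ) [Fact p.Prime]
    (hS : ∃ S : Sylow p ↥(C.D.group K),
      (S : Subgroup ↥(C.D.group K)) = (C.D.posUnipotent K).subgroupOf (C.D.group K))
    (hcc : ∀ i < C.D.rank, chainCharCheck C.D (C.D.simple i) = true ∧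
      chainCharCheck C.D (C.D.neg (C.D.simple i)) = true)
    (Lr : List (List ℕ)) (hnd : Lr.Nodup)
    (hLr : ∀ l ∈ Lr, l.length = C.D.rank ∧ (∀ x ∈ l, x < C.D.rank) ∧ l.Nodup ∧
      ∃ γ : MulAut ↥(C.D.group K), Nonempty (GraphLike R K γ (fun i => l.getD i 0)))
    (hnon : ∀ l ∈ B.L, l ∉ Lr → ∀ (θ : MulAut ↥(C.D.group K)) (T : RootAct R K θ),
      ¬ ∀ i < C.D.rank, T.p i = l.getD i 0)
    (Dbar Fbar : Subgroup (Cfsg.Out ↥(C.D.group K)))
    (hDbar : Dbar = (Subgroup.closure {φ : MulAut ↥(C.D.group K) | C.D.IsDiagonalAut φ}).map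
      (QuotientGroup.mk' (Cfsg.Inn ↥(C.D.group K))))
    (hFbar : Fbar = (Subgroup.closure {φ : MulAut ↥(C.D.group K) | C.D.IsFieldAut φ}).map
      (QuotientGroup.mk' (Cfsg.Inn ↥(C.D.group K)))) :
    Dbar.Normal ∧ IsMulCommutative ↥Dbar ∧ IsCyclic ↥Fbar ∧ (Dbar ⊔ Fbar).Normal ∧
      (Dbar ⊔ Fbar).index = Lr.length ∧
      ((∃ l₁ ∈ Lr, ∃ l₂ ∈ Lr, ∃ i < C.D.rank, l₂.getD (l₁.getD i 0) 0 ≠ l₁.getD (l₂.getD i 0) 0) →
        ¬ commutator (Cfsg.Out ↥(C.D.group K)) ≤ Dbar ⊔ Fbar) := by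
  have Z := B.Z
  have Y := B.Z.Y
  rw [closure_isDiagonalAut Y B.Z.V hcc] at hDbar
  rw [closure_isFieldAut Y] at hFbar
  have hγ : ∀ l : {l // l ∈ Lr}, ∃ γ : MulAut ↥(C.D.group K),
      Nonempty (GraphLike R K γ (fun i => l.1.getD i 0)) := fun l => (hLr l.1 l.2).2.2.2
  choose γ hGl using hγ
  have hlt : ∀ l : {l // l ∈ Lr}, ∀ i < C.D.rank, l.1.getD i 0 < C.D.rank := by
    intro l i hi
    have h1 := (hLr l.1 l.2).1
    rw [List.getD_eq_getElem _ _ (by rw [h1]; exact hi)]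
    exact (hLr l.1 l.2).2.1 _ (List.getElem_mem _)
  have H : OutStruct.Hyp (Cfsg.Inn ↥(C.D.group K)) (dAutHom B.Z.V R) (fAutHom (K := K) C.D) γ := by
    refine ⟨?_, ?_, ?_, ?_⟩
    · intro σ c
      exact ⟨_, fAut_mul_dAut B.Z σ c⟩
    · intro l c
      obtain ⟨Gl⟩ := hGl l
      obtain ⟨πinv, h1, h2⟩ := exists_inv_of_nodup C.D.rank l.1 (hLr l.1 l.2).1 (hLr l.1 l.2).2.2.1
      exact Gl.mul_dAut B.Z (hlt l) πinv h1 h2 c
    · intro l σ
      obtain ⟨Gl⟩ := hGl l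
      exact (Gl.fAut_comm B.Z (hlt l) σ).symm
    · intro θ
      obtain ⟨a, hU, hV⟩ := exists_conj_pres Y.A p hS Y.w0 Y.w0l Y.w0neg' θ
      obtain ⟨T⟩ := exists_rootAct (K := K) Y _ hU hV
      have hl := T.p_mem B
      have hget : ∀ i < C.D.rank, T.p i = ((List.range C.D.rank).map T.p).getD i 0 := by
        intro i hi
        rw [List.getD_eq_getElem _ _ (by simpa using hi)]
        simp
      have hlr : (List.range C.D.rank).map T.p ∈ Lr := by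
        by_contra hn
        exact hnon _ hl hn _ T hget
      obtain ⟨Gl⟩ := hGl ⟨_, hlr⟩
      obtain ⟨c, σ, e⟩ := eq_dAut_graph_field B.Z _ hU hV T (γ ⟨_, hlr⟩) _ Gl hget
      refine ⟨MulAut.conj a⁻¹, ⟨a⁻¹, rfl⟩, c, ⟨_, hlr⟩, σ, ?_⟩
      show θ = MulAut.conj a⁻¹ * dAut B.Z.V R c * γ ⟨_, hlr⟩ * fAut C.D σ
      rw [mul_assoc, mul_assoc, ← mul_assoc (dAut B.Z.V R c), ← e, map_inv, inv_mul_cancel_left]
  have h5 : ∀ l l' : {l // l ∈ Lr}, (γ l)⁻¹ * γ l' ∈ OutStruct.S H → l = l' := by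
    intro l l' hs
    obtain ⟨i, ⟨a, rfl⟩, c, σ, e⟩ := OutStruct.mem_S' H hs
    obtain ⟨Gl⟩ := hGl l
    obtain ⟨Gl'⟩ := hGl l'
    have hnodes := Gl.nodes_eq' B.Z Gl' (hlt l) (hlt l') c σ a e
    apply Subtype.ext
    apply List.ext_getElem
    · rw [(hLr l.1 l.2).1, (hLr l'.1 l'.2).1]
    · intro i h1 h2
      have hi : i < C.D.rank := by rw [← (hLr l.1 l.2).1]; exact h1
      have := hnodes i hi
      rwa [List.getD_eq_getElem _ _ h1, List.getD_eq_getElem _ _ h2] at this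
  subst hDbar hFbar
  refine ⟨OutStruct.normal_map_δ H, inferInstance, ?_, OutStruct.normal_map_sup H, ?_, ?_⟩
  · rw [← MonoidHom.range_comp]
    haveI := isCyclic_ringAut K
    exact isCyclic_of_surjective ((QuotientGroup.mk' (Cfsg.Inn ↥(C.D.group K))).comp (fAutHom C.D)).rangeRestrict
      (MonoidHom.rangeRestrict_surjective _)
  · rw [OutStruct.index_map_sup H h5, Nat.card_eq_fintype_card, Fintype.card_of_subtype Lr.toFinset (by simp),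
      List.toFinset_card_of_nodup hnd]
  · rintro ⟨l₁, hl₁, l₂, hl₂, i, hi, hne⟩
    apply OutStruct.not_commutator_le H ⟨l₁, hl₁⟩ ⟨l₂, hl₂⟩
    intro hs
    set γ₁ := γ ⟨l₁, hl₁⟩ with hγ₁
    set γ₂ := γ ⟨l₂, hl₂⟩ with hγ₂
    have hs' : (γ₂ * γ₁)⁻¹ * (γ₁ * γ₂) ∈ OutStruct.S H := by
      have := (OutStruct.normal_S H).conj_mem _ hs (γ₂ * γ₁)⁻¹
      have e : (γ₂ * γ₁)⁻¹ * (γ₁ * γ₂ * γ₁⁻¹ * γ₂⁻¹) * ((γ₂ * γ₁)⁻¹)⁻¹ = (γ₂ * γ₁)⁻¹ * (γ₁ * γ₂) := by group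
      rwa [e] at this
    obtain ⟨_, ⟨a, rfl⟩, c, σ, e⟩ := OutStruct.mem_S' H hs'
    obtain ⟨Gl₁⟩ := hGl ⟨l₁, hl₁⟩
    obtain ⟨Gl₂⟩ := hGl ⟨l₂, hl₂⟩
    have hnodes := (Gl₂.comp B.Z Gl₁ (hlt ⟨l₁, hl₁⟩)).nodes_eq' B.Z (Gl₁.comp B.Z Gl₂ (hlt ⟨l₂, hl₂⟩))
      (fun i hi => hlt ⟨l₂, hl₂⟩ _ (hlt ⟨l₁, hl₁⟩ i hi)) (fun i hi => hlt ⟨l₁, hl₁⟩ _ (hlt ⟨l₂, hl₂⟩ i hi))
      c σ a e
    exact hne (hnodes i hi)

end

end Cfsg.Agent.Lib.Helper3.ChevAut
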