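import Mathlib
import Cfsg.Prelude.Def_ChevStructure
import Cfsg.Prelude.Def_ChevAutomorphisms
import Cfsg.Prelude.Def_KGroupFacts
import Cfsg.Agent.Lib.Helper3.ChevAut33
import Cfsg.Agent.Lib.Helper3.ChevAut29
set_option autoImplicit false
set_option linter.unusedSectionVars false
set_option linter.style.haveILetI false
set_option maxRecDepth 1000000
open Cfsg Cfsg.Lie

/-!
Automorphisms of Chevalley groups, part 34: the structure of the outer automorphism group for the types `G₂`,
`B₂`, `D₄`, `F₄`, `E₆`, `E₇`, `E₈`.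
-/

namespace Cfsg.Agent.Lib.Helper3.ChevAut

open Cfsg.Agent.Lib.Helper3.ChevM Cfsg.Agent.Lib.Helper3.ChevSp Cfsg.Agent.Lib.Helper3 ChevU ChevT ChevH
open Cfsg.Agent.Lib.Helper3.ChevAt Cfsg.Agent.Lib.Helper1

/-- The shape of the statement on the structure of the outer automorphism group. -/
def OutShape (D : ChevalleyDatum) (K : Type*) [Field K] : Prop :=
  ∀ (Dbar Fbar : Subgroup (Cfsg.Out ↥(D.group K))),
    Dbar = (Subgroup.closure {φ : MulAut ↥(D.group K) | D.IsDiagonalAut φ}).map
      (QuotientGroup.mk' (Cfsg.Inn ↥(D.group K))) →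
    Fbar = (Subgroup.closure {φ : MulAut ↥(D.group K) | D.IsFieldAut φ}).map
      (QuotientGroup.mk' (Cfsg.Inn ↥(D.group K))) →
    Dbar.Normal ∧ IsMulCommutative ↥Dbar ∧ IsCyclic ↥Fbar ∧ (Dbar ⊔ Fbar).Normal ∧
      ((Dbar ⊔ Fbar).index = 1 ∨ (Dbar ⊔ Fbar).index = 2 ∨
        ((Dbar ⊔ Fbar).index = 6 ∧ ¬ commutator (Cfsg.Out ↥(D.group K)) ≤ Dbar ⊔ Fbar))

section
variable {K : Type*} [Field K] [Finite K]

/-- If every automorphism is the product of an inner and a field automorphism, the outer automorphism group is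
cyclic, generated by the field automorphisms. -/
theorem outShape_of_inner_field {C : CDatum} {R : RelData C}
    (h : ∀ θ : MulAut ↥(C.D.group K), ∃ (a : ↥(C.D.group K)) (σ : K ≃+* K), θ = MulAut.conj a * fAut C.D σ) :
    OutShape C.D K := by
  intro Dbar Fbar hDbar hFbar
  let q := QuotientGroup.mk' (Cfsg.Inn ↥(C.D.group K))
  have hsurj : Function.Surjective (q.comp (fAutHom (K := K) C.D)) := by
    intro o
    obtain ⟨θ, rfl⟩ := QuotientGroup.mk_surjective o
    obtain ⟨a, σ, rfl⟩ := h θ
    refine ⟨σ, ?_⟩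
    show q (fAut C.D σ) = q (MulAut.conj a * fAut C.D σ)
    rw [map_mul]
    have : q (MulAut.conj a) = 1 := (QuotientGroup.eq_one_iff _).mpr ⟨a, rfl⟩
    rw [this, one_mul]
  haveI := isCyclic_ringAut K
  haveI hcyc : IsCyclic (Cfsg.Out ↥(C.D.group K)) := isCyclic_of_surjective _ hsurj
  have hcomm : ∀ x y : Cfsg.Out ↥(C.D.group K), x * y = y * x := by
    letI := IsCyclic.commGroup (α := Cfsg.Out ↥(C.D.group K))
    intro x y
    exact mul_comm x y
  have hnormal : ∀ N : Subgroup (Cfsg.Out ↥(C.D.group K)), N.Normal := by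
    intro N
    refine ⟨fun n hn g => ?_⟩
    rw [hcomm g n, mul_inv_cancel_right]
    exact hn
  have hF : Fbar = ⊤ := by
    rw [eq_top_iff]
    intro o _
    obtain ⟨σ, rfl⟩ := hsurj o
    rw [hFbar]
    exact ⟨fAut C.D σ, Subgroup.subset_closure (isFieldAut_fAut R σ), rfl⟩
  refine ⟨hnormal _, ⟨⟨fun a b => Subtype.ext (hcomm a.1 b.1)⟩⟩, inferInstance, hnormal _, Or.inl ?_⟩
  rw [hF, sup_top_eq, Subgroup.index_top]

theorem e8_outShape : OutShape cdE8.D K := by
  obtain ⟨p, hp, hc⟩ := exists_prime_char K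
  haveI := Fact.mk hp
  haveI := hc
  haveI := Fintype.ofFinite K
  exact outShape_of_inner_field (R := relE8) (exists_inner_field uniHypE8 p (e8_sylow (F := K) p))

/-- The shape of the statement from the general structure theorem. -/
theorem outShape_of_structure {C : CDatum} {R : RelData C} (B : BondHyp C R) (p : ℕ) [Fact p.Prime]
    (hS : ∃ S : Sylow p ↥(C.D.group K),
      (S : Subgroup ↥(C.D.group K)) = (C.D.posUnipotent K).subgroupOf (C.D.group K))
    (hcc : ∀ i < C.D.rank, chainCharCheck C.D (C.D.simple i) = true ∧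
      chainCharCheck C.D (C.D.neg (C.D.simple i)) = true)
    (Lr : List (List ℕ)) (hnd : Lr.Nodup)
    (hLr : ∀ l ∈ Lr, l.length = C.D.rank ∧ (∀ x ∈ l, x < C.D.rank) ∧ l.Nodup ∧
      ∃ γ : MulAut ↥(C.D.group K), Nonempty (GraphLike R K γ (fun i => l.getD i 0)))
    (hnon : ∀ l ∈ B.L, l ∉ Lr → ∀ (θ : MulAut ↥(C.D.group K)) (T : RootAct R K θ),
      ¬ ∀ i < C.D.rank, T.p i = l.getD i 0)
    (hlen : Lr.length = 1 ∨ Lr.length = 2 ∨ (Lr.length = 6 ∧
      ∃ l₁ ∈ Lr, ∃ l₂ ∈ Lr, ∃ i < C.D.rank, l₂.getD (l₁.getD i 0) 0 ≠ l₁.getD (l₂.getD i 0) 0)) :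
    OutShape C.D K := by
  intro Dbar Fbar hDbar hFbar
  obtain ⟨h1, h2, h3, h4, h5, h6⟩ := out_structure B p hS hcc Lr hnd hLr hnon Dbar Fbar hDbar hFbar
  refine ⟨h1, h2, h3, h4, ?_⟩
  rw [h5]
  rcases hlen with h | h | ⟨h, hex⟩
  · exact Or.inl h
  · exact Or.inr (Or.inl h)
  · exact Or.inr (Or.inr ⟨h, h6 hex⟩)

theorem e7_outShape : OutShape cdE7.D K := by
  obtain ⟨p, hp, hc⟩ := exists_prime_char K
  haveI := Fact.mk hp
  haveI := hc
  haveI := Fintype.ofFinite K
  refine outShape_of_structure bondHypE7 p (e7_sylow (F := K) p) (by decide +kernel)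
    [[0, 1, 2, 3, 4, 5, 6]] (by decide) ?_ ?_ (Or.inl rfl)
  · intro l hl
    simp only [List.mem_cons, List.not_mem_nil, or_false] at hl
    subst hl
    exact ⟨rfl, by decide, by decide, 1, ⟨graphLikeOfId relE7 K _ (by decide)⟩⟩
  · intro l hl hn
    exact absurd hl hn

theorem e6_outShape : OutShape cdE6.D K := by
  obtain ⟨p, hp, hc⟩ := exists_prime_char K
  haveI := Fact.mk hp
  haveI := hc
  haveI := Fintype.ofFinite K
  refine outShape_of_structure bondHypE6 p (e6_sylow (F := K) p) (by decide +kernel)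
    [[0, 1, 2, 3, 4, 5], [5, 1, 4, 3, 2, 0]] (by decide) ?_ ?_ (Or.inr (Or.inl rfl))
  · intro l hl
    simp only [List.mem_cons, List.not_mem_nil, or_false] at hl
    rcases hl with rfl | rfl
    · exact ⟨rfl, by decide, by decide, 1, ⟨graphLikeOfId relE6 K _ (by decide)⟩⟩
    · exact ⟨rfl, by decide, by decide, e6_graphLike⟩
  · intro l hl hn
    exact absurd hl hn

theorem d4_graphLike (G : GraphData cdD4) (l : List ℕ)
    (hs : graphSimpleCheck cdD4.D G.p G.rho G.eps = true)
    (hpos : ∀ r < cdD4.D.nroots, cdD4.D.IsPosRoot r → cdD4.D.IsPosRoot (G.rho r))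
    (hneg : ∀ r < cdD4.D.nroots, cdD4.D.IsNegRoot r → cdD4.D.IsNegRoot (G.rho r))
    (hl : ∀ i < cdD4.D.rank, G.p i = l.getD i 0) :
    ∃ γ : MulAut ↥(cdD4.D.group K), Nonempty (GraphLike relD4 K γ (fun i => l.getD i 0)) :=
  ⟨_, ⟨(graphLikeOfData autHypD4.A G hs hpos hneg).congr hl⟩⟩

theorem d4_outShape : OutShape cdD4.D K := by
  obtain ⟨p, hp, hc⟩ := exists_prime_char K
  haveI := Fact.mk hp
  haveI := hc
  haveI := Fintype.ofFinite K
  refine outShape_of_structure bondHypD4 p (d4_sylow (F := K) p) (by decide +kernel)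
    [[0, 1, 2, 3], [0, 1, 3, 2], [2, 1, 0, 3], [2, 1, 3, 0], [3, 1, 0, 2], [3, 1, 2, 0]] (by decide) ?_ ?_
    (Or.inr (Or.inr ⟨rfl, [2, 1, 3, 0], by simp, [0, 1, 3, 2], by simp, 0, by decide, by decide⟩))
  · intro l hl
    simp only [List.mem_cons, List.not_mem_nil, or_false] at hl
    rcases hl with rfl | rfl | rfl | rfl | rfl | rfl
    · exact ⟨rfl, by decide, by decide, 1, ⟨graphLikeOfId relD4 K _ (by decide)⟩⟩
    · exact ⟨rfl, by decide, by decide, d4_graphLike graphD4C _ (by decide +kernel) (by decide +kernel)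
        (by decide +kernel) (by decide +kernel)⟩
    · exact ⟨rfl, by decide, by decide, d4_graphLike graphD4D _ (by decide +kernel) (by decide +kernel)
        (by decide +kernel) (by decide +kernel)⟩
    · exact ⟨rfl, by decide, by decide, d4_graphLike graphD4A _ (by decide +kernel) (by decide +kernel)
        (by decide +kernel) (by decide +kernel)⟩
    · exact ⟨rfl, by decide, by decide, d4_graphLike graphD4B _ (by decide +kernel) (by decide +kernel)
        (by decide +kernel) (by decide +kernel)⟩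
    · exact ⟨rfl, by decide, by decide, d4_graphLike graphD4E _ (by decide +kernel) (by decide +kernel)
        (by decide +kernel) (by decide +kernel)⟩
  · intro l hl hn
    exact absurd hl hn

theorem f4_outShape : OutShape cdF4.D K := by
  obtain ⟨p, hp, hc⟩ := exists_prime_char K
  haveI := Fact.mk hp
  haveI := hc
  haveI := Fintype.ofFinite K
  by_cases h2 : p = 2
  · subst h2
    refine outShape_of_structure bondHypF4 2 (f4_sylow (F := K) 2) (by decide +kernel)
      [[0, 1, 2, 3], [3, 2, 1, 0]] (by decide) ?_ ?_ (Or.inr (Or.inl rfl))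
    · intro l hl
      simp only [List.mem_cons, List.not_mem_nil, or_false] at hl
      rcases hl with rfl | rfl
      · exact ⟨rfl, by decide, by decide, 1, ⟨graphLikeOfId relF4 K _ (by decide)⟩⟩
      · exact ⟨rfl, by decide, by decide, f4_graphLike⟩
    · intro l hl hn
      exact absurd hl hn
  · refine outShape_of_structure bondHypF4 p (f4_sylow (F := K) p) (by decide +kernel)
      [[0, 1, 2, 3]] (by decide) ?_ ?_ (Or.inl rfl)
    · intro l hl
      simp only [List.mem_cons, List.not_mem_nil, or_false] at hl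
      subst hl
      exact ⟨rfl, by decide, by decide, 1, ⟨graphLikeOfId relF4 K _ (by decide)⟩⟩
    · intro l hl hn
      have hl' : l = [0, 1, 2, 3] ∨ l = [3, 2, 1, 0] := by simpa [bondHypF4] using hl
      rcases hl' with rfl | rfl
      · exact absurd (by simp) hn
      · refine f4_no_rev ?_
        have := natCast_ne_zero_of_char (K := K) p 2 hp Nat.prime_two h2
        exact_mod_cast this

theorem b2_graphLike [CharP K 2] :
    ∃ γ : MulAut ↥(cdB2.D.group K), Nonempty (GraphLike relB2 K γ (fun i => [1, 0].getD i 0)) := by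
  obtain ⟨γ, hγ⟩ := b2_graph_ex (K := K)
  exact ⟨γ, ⟨graphLikeOfRoots autHypB2.A γ b2rho b2lam hγ (fun r hr => b2rho_pos r hr.1 hr)
    (fun r hr => b2rho_neg r hr.1 hr) _ b2rho_simple⟩⟩

theorem b2_outShape : OutShape cdB2.D K := by
  obtain ⟨p, hp, hc⟩ := exists_prime_char K
  haveI := Fact.mk hp
  haveI := hc
  haveI := Fintype.ofFinite K
  by_cases h2 : p = 2
  · subst h2
    refine outShape_of_structure bondHypB2 2 (b2_sylow (F := K) 2) (by decide +kernel)
      [[0, 1], [1, 0]] (by decide) ?_ ?_ (Or.inr (Or.inl rfl))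
    · intro l hl
      simp only [List.mem_cons, List.not_mem_nil, or_false] at hl
      rcases hl with rfl | rfl
      · exact ⟨rfl, by decide, by decide, 1, ⟨graphLikeOfId relB2 K _ (by decide)⟩⟩
      · exact ⟨rfl, by decide, by decide, b2_graphLike⟩
    · intro l hl hn
      exact absurd hl hn
  · refine outShape_of_structure bondHypB2 p (b2_sylow (F := K) p) (by decide +kernel)
      [[0, 1]] (by decide) ?_ ?_ (Or.inl rfl)
    · intro l hl
      simp only [List.mem_cons, List.not_mem_nil, or_false] at hl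
      subst hl
      exact ⟨rfl, by decide, by decide, 1, ⟨graphLikeOfId relB2 K _ (by decide)⟩⟩
    · intro l hl hn
      have hl' : l = [0, 1] ∨ l = [1, 0] := by simpa [bondHypB2] using hl
      rcases hl' with rfl | rfl
      · exact absurd (by simp) hn
      · refine b2_no_rev ?_
        have := natCast_ne_zero_of_char (K := K) p 2 hp Nat.prime_two h2
        exact_mod_cast this

theorem g2_outShape : OutShape cdG2.D K := by
  obtain ⟨p, hp, hc⟩ := exists_prime_char K
  haveI := Fact.mk hp
  haveI := hc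
  haveI := Fintype.ofFinite K
  by_cases h3 : p = 3
  · subst h3
    refine outShape_of_structure bondHypG2 3 (g2_sylow (F := K) 3) (by decide +kernel)
      [[0, 1], [1, 0]] (by decide) ?_ ?_ (Or.inr (Or.inl rfl))
    · intro l hl
      simp only [List.mem_cons, List.not_mem_nil, or_false] at hl
      rcases hl with rfl | rfl
      · exact ⟨rfl, by decide, by decide, 1, ⟨graphLikeOfId relG2 K _ (by decide)⟩⟩
      · exact ⟨rfl, by decide, by decide, g2_graphLike⟩
    · intro l hl hn
      exact absurd hl hn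
  · refine outShape_of_structure bondHypG2 p (g2_sylow (F := K) p) (by decide +kernel)
      [[0, 1]] (by decide) ?_ ?_ (Or.inl rfl)
    · intro l hl
      simp only [List.mem_cons, List.not_mem_nil, or_false] at hl
      subst hl
      exact ⟨rfl, by decide, by decide, 1, ⟨graphLikeOfId relG2 K _ (by decide)⟩⟩
    · intro l hl hn
      have hl' : l = [0, 1] ∨ l = [1, 0] := by simpa [bondHypG2] using hl
      rcases hl' with rfl | rfl
      · exact absurd (by simp) hn
      · refine g2_no_rev ?_
        have := natCast_ne_zero_of_char (K := K) p 3 hp Nat.prime_three h3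
        exact_mod_cast this

end

end Cfsg.Agent.Lib.Helper3.ChevAut
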