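import Mathlib
import Cfsg.Prelude.Def_ChevStructure
import Cfsg.Agent.Lib.Helper3.ChevTw16
import Cfsg.Agent.Lib.Helper3.ChevB4
import Cfsg.Agent.S0319
set_option autoImplicit false
open Cfsg Cfsg.Lie

/-! A twisted group is simple. -/

namespace Cfsg.Agent.Lib.Helper3.ChevM

open ChevU ChevT DoubleCoset

/-- Certificate of connectedness of the diagram of the classes: a rooted tree on the classes in which the reflection of
each class does not commute with the reflection of its parent. -/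
def twIrrCheck (D : ChevalleyDatum) (refl : ℕ → ℕ → ℕ) (cls : List (List ℕ)) (par dep : ℕ → ℕ) (root : ℕ) : Bool :=
  (List.range cls.length).all fun k => decide (k = root) ||
    (decide (par k < cls.length) && decide (dep (par k) < dep k) &&
      ((List.range D.nroots).any fun s => !decide (reflW refl
        (cls.getD k [] ++ cls.getD (par k) [] ++ cls.getD k [] ++ cls.getD (par k) []) s = s)) &&
      ((List.range D.nroots).any fun s => !decide (reflW refl
        (cls.getD (par k) [] ++ cls.getD k [] ++ cls.getD (par k) [] ++ cls.getD k []) s = s)))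

/-- The data for the simplicity of a twisted group. -/
structure TwHyp5 (C : CDatum) (R : RelData C) extends TwHyp4 C R where
  par : ℕ → ℕ
  dep : ℕ → ℕ
  root : ℕ
  hroot : root < cls.length
  irr : twIrrCheck C.D R.refl cls par dep root = true

section
variable {K : Type*} [Field K] [Fintype K] {C : CDatum} {R : RelData C} (H : TwHyp2 C R) (φ : K →+* K)

omit [Fintype K] in
theorem TwHyp2.reps_sq_diag (J : List ℕ) (hJ : J ∈ H.cls) :
    R.nWordU (F := K) J * R.nWordU J ∈ C.D.diagonalSubgroup K := by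
  have hJlt := H.cls_lt J hJ
  have hJJ : ∀ i ∈ J ++ J, i < C.D.rank := by
    intro i hi
    rcases List.mem_append.mp hi with h | h <;> exact hJlt i h
  obtain ⟨-, -, -, -, -, hsq⟩ := (twClsCheck_spec (R := R) H.G H.cls H.clsOk).2 J hJ
  obtain ⟨h', hh', e⟩ := H.B.mono.coset_of_reflW_eq (F := K) H.B.dec (J ++ J) [] hJJ (by simp)
    (fun s hs => by rw [hsq s hs]; rfl)
  rw [← R.nWordU_append, e, R.nWordU_nil, mul_one]
  exact hh'

omit [Fintype K] in
/-- If the commutator of `n_J` and `n_{J'}` lies in `B`, the word `J J' J J'` fixes all roots. -/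
theorem TwHyp2.reflW_of_comm_mem (J J' : List ℕ) (hJ : J ∈ H.cls) (hJ' : J' ∈ H.cls)
    (h : R.nWordU (F := K) J * R.nWordU J' * (R.nWordU (F := K) J)⁻¹ * (R.nWordU (F := K) J')⁻¹ ∈
      C.D.borelSubgroup K) : ∀ s < C.D.nroots, reflW R.refl (J ++ J' ++ J ++ J') s = s := by
  set s := R.nWordU (F := K) J with hs
  set s' := R.nWordU (F := K) J' with hs'
  have M := H.B.mono
  have hHB : C.D.diagonalSubgroup K ≤ C.D.borelSubgroup K := le_sup_right
  have hJlt := H.cls_lt J hJ
  have hJ'lt := H.cls_lt J' hJ'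
  have hl : ∀ i ∈ J ++ J' ++ J ++ J', i < C.D.rank := by
    intro i hi
    simp only [List.mem_append] at hi
    rcases hi with ((hi | hi) | hi) | hi
    · exact hJlt i hi
    · exact hJ'lt i hi
    · exact hJlt i hi
    · exact hJ'lt i hi
  have hword : R.nWordU (F := K) (J ++ J' ++ J ++ J') = s * s' * s * s' := by
    rw [R.nWordU_append, R.nWordU_append, R.nWordU_append]
  have hsN : s ∈ C.D.monomialSubgroup K := R.nWordU_mem J hJlt
  have hs'N : s' ∈ C.D.monomialSubgroup K := R.nWordU_mem J' hJ'lt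
  have hsq : s * s ∈ C.D.diagonalSubgroup K := H.reps_sq_diag J hJ
  have hsq' : s' * s' ∈ C.D.diagonalSubgroup K := H.reps_sq_diag J' hJ'
  have hc := M.conj_mem s' hs'N _ hsq
  have hB : s * s' * s * s' ∈ C.D.borelSubgroup K := by
    have e : s * s' * s * s' = (s * s' * s⁻¹ * s'⁻¹) * ((s' * (s * s) * s'⁻¹) * (s' * s')) := by group
    rw [e]
    exact Subgroup.mul_mem _ h (hHB (Subgroup.mul_mem _ hc hsq'))
  have hH : s * s' * s * s' ∈ C.D.diagonalSubgroup K := by
    rw [← M.borel_inf_monomial]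
    exact ⟨hB, Subgroup.mul_mem _ (Subgroup.mul_mem _ (Subgroup.mul_mem _ hsN hs'N) hsN) hs'N⟩
  intro r hr
  exact R.reflW_eq_of_coset (F := K) H.B.dec _ [] hl (by simp) _ hH
    (by rw [hword, R.nWordU_nil, mul_one]) r hr

omit [Fintype K] in
/-- The generators with parameter one are not trivial. -/
theorem TwHyp2.gen_ne_one (J : List ℕ) (hJ : J ∈ H.cls) : R.wordU (clsWord C.D φ J false (1 : K)) ≠ 1 := by
  intro hb1
  have hblp := clsWord_one_eq_lp (R := R) φ J
  obtain ⟨hnd, hposL⟩ := H.cls_pos J hJ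
  have hinj := H.U.lp_inj_comm (K := K) (J.map C.D.simple) hnd hposL (H.cls_comm J hJ) (fun _ => 1) (fun _ => 0)
    (by rw [← hblp, hb1, R.lp_zero])
  obtain ⟨a, ha⟩ := H.cls_ne_nil J hJ
  have := hinj (C.D.simple a) (List.mem_map_of_mem ha)
  exact one_ne_zero this

end

section
variable {K : Type*} [Field K] [Fintype K] {C : CDatum} {R : RelData C} (H : TwHyp5 C R) (φ : K →+* K)

/-- The (B,N)-pair of a twisted group is irreducible. -/
theorem TwHyp5.bnPair_irreducible : (H.toTwHyp2.bnPair φ).Irreducible := by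
  intro J hJ hJne hJc
  set P := H.toTwHyp2.bnPair φ with hP
  have hS : ∀ x : ↥(H.grp φ), x ∈ P.S ↔ ∃ k < H.cls.length, (x : GL C.D.Idx K) = R.nWordU (H.cls.getD k []) := by
    intro x
    show (x : GL C.D.Idx K) ∈ H.toTwHyp2.reps K ↔ _
    constructor
    · rintro ⟨L, hL, e⟩
      obtain ⟨k, hk, rfl⟩ := List.mem_iff_getElem.mp hL
      refine ⟨k, hk, ?_⟩
      rw [e, List.getD_eq_getElem _ _ hk]
    · rintro ⟨k, hk, e⟩
      refine ⟨H.cls.getD k [], ?_, e⟩
      rw [List.getD_eq_getElem _ _ hk]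
      exact List.getElem_mem hk
  have hmemcls : ∀ k < H.cls.length, H.cls.getD k [] ∈ H.cls := by
    intro k hk
    rw [List.getD_eq_getElem _ _ hk]
    exact List.getElem_mem hk
  let rep : (k : ℕ) → k < H.cls.length → ↥(H.grp φ) := fun k hk =>
    ⟨R.nWordU (F := K) (H.cls.getD k []), (H.toTwHyp2.reps_mem φ _ ⟨_, hmemcls k hk, rfl⟩).2⟩
  have hrepS : ∀ k (hk : k < H.cls.length), rep k hk ∈ P.S := fun k hk => (hS _).mpr ⟨k, hk, rfl⟩
  have hirr := H.irr
  simp only [twIrrCheck, List.all_eq_true, List.mem_range, Bool.or_eq_true, Bool.and_eq_true, decide_eq_true_eq,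
    List.any_eq_true, Bool.not_eq_true', decide_eq_false_iff_not] at hirr
  have hpair : ∃ (a b : ℕ) (ha : a < H.cls.length) (hb : b < H.cls.length), rep a ha ∈ J ∧ rep b hb ∉ J ∧
      ∃ s < C.D.nroots, reflW R.refl (H.cls.getD a [] ++ H.cls.getD b [] ++ H.cls.getD a [] ++ H.cls.getD b []) s ≠ s := by
    by_cases hr : rep H.root H.hroot ∈ J
    · have key : ∀ m : ℕ, ∀ b (hb : b < H.cls.length), H.dep b = m → rep b hb ∉ J →
          ∃ (a b : ℕ) (ha : a < H.cls.length) (hb : b < H.cls.length), rep a ha ∈ J ∧ rep b hb ∉ J ∧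
            ∃ s < C.D.nroots,
              reflW R.refl (H.cls.getD a [] ++ H.cls.getD b [] ++ H.cls.getD a [] ++ H.cls.getD b []) s ≠ s := by
        intro m
        induction m using Nat.strong_induction_on with
        | _ m ih =>
          intro b hb hm hbJ
          rcases hirr b hb with hc | ⟨⟨⟨h1, h2⟩, h3⟩, h4⟩
          · subst hc; exact absurd hr hbJ
          · by_cases hp : rep (H.par b) h1 ∈ J
            · obtain ⟨s, hs, hne⟩ := h4
              exact ⟨H.par b, b, h1, hb, hp, hbJ, s, hs, hne⟩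
            · exact ih _ (hm ▸ h2) (H.par b) h1 rfl hp
      obtain ⟨x, hxS, hxJ⟩ := hJc
      obtain ⟨b, hb, hxb⟩ := (hS x).mp hxS
      have : x = rep b hb := Subtype.ext hxb
      exact key _ b hb rfl (this ▸ hxJ)
    · have key : ∀ m : ℕ, ∀ a (ha : a < H.cls.length), H.dep a = m → rep a ha ∈ J →
          ∃ (a b : ℕ) (ha : a < H.cls.length) (hb : b < H.cls.length), rep a ha ∈ J ∧ rep b hb ∉ J ∧
            ∃ s < C.D.nroots,
              reflW R.refl (H.cls.getD a [] ++ H.cls.getD b [] ++ H.cls.getD a [] ++ H.cls.getD b []) s ≠ s := by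
        intro m
        induction m using Nat.strong_induction_on with
        | _ m ih =>
          intro a ha hm haJ
          rcases hirr a ha with hc | ⟨⟨⟨h1, h2⟩, h3⟩, h4⟩
          · subst hc; exact absurd haJ hr
          · by_cases hp : rep (H.par a) h1 ∈ J
            · exact ih _ (hm ▸ h2) (H.par a) h1 rfl hp
            · obtain ⟨s, hs, hne⟩ := h3
              exact ⟨a, H.par a, ha, h1, haJ, hp, s, hs, hne⟩
      obtain ⟨x, hxJ⟩ := hJne
      obtain ⟨a, ha, hxa⟩ := (hS x).mp (hJ hxJ)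
      have : x = rep a ha := Subtype.ext hxa
      exact key _ a ha rfl (this ▸ hxJ)
  obtain ⟨a, b, ha, hb, haJ, hbJ, s, hs, hne⟩ := hpair
  refine ⟨rep a ha, haJ, rep b hb, ⟨hrepS b hb, hbJ⟩, ?_⟩
  intro hmem
  have hmem' : ((rep a ha * rep b hb * (rep a ha)⁻¹ * (rep b hb)⁻¹ : ↥(H.grp φ)) : GL C.D.Idx K) ∈
      C.D.borelSubgroup K ⊓ H.grp φ := Subgroup.mem_subgroupOf.mp hmem
  exact hne (H.toTwHyp2.reflW_of_comm_mem _ _ (hmemcls a ha) (hmemcls b hb) hmem'.1 s hs)

/-- A twisted group is simple. -/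
theorem TwHyp5.simple (hφd : ∀ x : K, φ^[H.d] x = x) (hK : 3 < Fintype.card K) :
    IsSimpleGroup ↥(H.grp φ) ∧ ¬ IsMulCommutative ↥(H.grp φ) := by
  have M := H.B.mono
  have hne : H.cls.getD H.root [] ∈ H.cls := by
    rw [List.getD_eq_getElem _ _ H.hroot]
    exact List.getElem_mem H.hroot
  set J := H.cls.getD H.root [] with hJ
  have hx1 := H.toTwHyp2.gen_ne_one (K := K) φ J hne
  have hxG : R.wordU (clsWord C.D φ J false (1 : K)) ∈ H.grp φ :=
    Subgroup.subset_closure ⟨J, hne, false, 1, Function.iterate_fixed (map_one φ) _, rfl⟩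
  have : Nontrivial ↥(H.grp φ) := ⟨⟨⟨_, hxG⟩, 1, fun h => hx1 (congrArg Subtype.val h)⟩⟩
  have hsolv : Group.IsSolvable ↥((H.toTwHyp2.bnPair φ).B) := by
    have := borel_solvable (F := K) R M.tri
    let f : ↥((H.toTwHyp2.bnPair φ).B) →* ↥(C.D.borelSubgroup K) :=
      { toFun := fun x => ⟨((x : ↥(H.grp φ)) : GL C.D.Idx K), (Subgroup.mem_subgroupOf.mp x.2).1⟩
        map_one' := rfl
        map_mul' := fun _ _ => rfl }
    refine Group.isSolvable_of_isSolvable_injective (f := f) ?_
    intro x y hxy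
    apply Subtype.ext
    apply Subtype.ext
    show ((x : ↥(H.grp φ)) : GL C.D.Idx K) = ((y : ↥(H.grp φ)) : GL C.D.Idx K)
    have h2 : ((f x : ↥(C.D.borelSubgroup K)) : GL C.D.Idx K) = ((f y : ↥(C.D.borelSubgroup K)) : GL C.D.Idx K) := by
      rw [hxy]
    exact h2
  have hperf := H.toTwHyp4.perfect φ hφd hK
  have hcore : (H.toTwHyp2.bnPair φ).B.normalCore = ⊥ := H.toTwHyp3.core_trivial φ
  have hirr := H.bnPair_irreducible φ
  refine ⟨Cfsg.Agent.S0319.result (H.toTwHyp2.bnPair φ) hirr hsolv hperf hcore, ?_⟩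
  intro hcomm
  have h1 : commutator ↥(H.grp φ) = ⊥ := by
    rw [commutator_def, Subgroup.commutator_eq_bot_iff_le_centralizer]
    intro x _
    rw [Subgroup.mem_centralizer_iff]
    intro y _
    exact hcomm.is_comm.comm y x
  rw [hperf] at h1
  exact top_ne_bot h1

end

end Cfsg.Agent.Lib.Helper3.ChevM
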