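import Mathlib
import Cfsg.Prelude.Def_ChevStructure
import Cfsg.Agent.Lib.Helper3.ChevTw18
import Cfsg.Agent.Lib.Helper3.ChevTw17
set_option autoImplicit false
open Cfsg Cfsg.Lie

/-! The diagonal subgroup of a twisted group: the fixed points of the twisting automorphism on `H`. -/

namespace Cfsg.Agent.Lib.Helper3.ChevM

open ChevU ChevT ChevH

/-- Hilbert's Theorem 90 for a finite module of order prime to the order of the cyclic group acting. -/
theorem hilbert90_coprime {A : Type*} [CommGroup A] (Z : Subgroup A) [Finite Z] (σ : A →* A) (d : ℕ)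
    (hσZ : ∀ z ∈ Z, σ z ∈ Z) (hcop : (Nat.card Z).Coprime d)
    (z : A) (hz : z ∈ Z) (hN : ∏ i ∈ Finset.range d, σ^[i] z = 1) :
    ∃ y ∈ Z, z = y * (σ y)⁻¹ := by
  have hiter : ∀ i : ℕ, σ^[i] z ∈ Z := by
    intro i
    induction i with
    | zero => exact hz
    | succ i ih => rw [Function.iterate_succ_apply']; exact hσZ _ ih
  set y : ℕ → A := fun i => ∏ j ∈ Finset.range i, σ^[j] z with hy
  have hyZ : ∀ i, y i ∈ Z := fun i => Subgroup.prod_mem _ fun j _ => hiter j
  have tele : ∀ i, y i * (σ (y i))⁻¹ = z * (σ^[i] z)⁻¹ := by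
    intro i
    induction i with
    | zero => simp [hy]
    | succ i ih =>
      have e1 : y (i + 1) = y i * σ^[i] z := Finset.prod_range_succ _ _
      rw [e1, map_mul, ← Function.iterate_succ_apply' σ i z, mul_inv]
      calc y i * σ^[i] z * ((σ (y i))⁻¹ * (σ^[i + 1] z)⁻¹)
          = (y i * (σ (y i))⁻¹) * (σ^[i] z * (σ^[i + 1] z)⁻¹) := by
            rw [mul_mul_mul_comm]
        _ = z * (σ^[i + 1] z)⁻¹ := by rw [ih]; simp [mul_assoc]
  set Y : A := ∏ i ∈ Finset.range d, y i with hY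
  have hYZ : Y ∈ Z := Subgroup.prod_mem _ fun i _ => hyZ i
  have hYq : Y * (σ Y)⁻¹ = z ^ d := by
    rw [hY, map_prod, ← Finset.prod_inv_distrib, ← Finset.prod_mul_distrib]
    rw [Finset.prod_congr rfl (fun i _ => tele i), Finset.prod_mul_distrib, Finset.prod_const, Finset.card_range,
      Finset.prod_inv_distrib, hN, inv_one, mul_one]
  have hzm : z ^ (Nat.card Z) = 1 := by
    have := pow_card_eq_one' (G := Z) (x := ⟨z, hz⟩)
    exact congrArg Subtype.val this
  -- Bezout
  have hb := Nat.gcd_eq_gcd_ab (Nat.card Z) d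
  rw [Nat.Coprime.gcd_eq_one hcop] at hb
  set v : ℤ := Nat.gcdB (Nat.card Z) d with hv
  set u : ℤ := Nat.gcdA (Nat.card Z) d with hu
  refine ⟨Y ^ v, Subgroup.zpow_mem _ hYZ v, ?_⟩
  rw [map_zpow, ← inv_zpow, ← mul_zpow, hYq]
  have : z = z ^ (1 : ℤ) := (zpow_one z).symm
  conv_lhs => rw [this]
  have e : ((1 : ℕ) : ℤ) = (Nat.card Z : ℤ) * u + (d : ℤ) * v := hb
  rw [show (1 : ℤ) = ((1 : ℕ) : ℤ) from rfl, e, zpow_add, zpow_mul, zpow_mul, zpow_natCast, zpow_natCast, hzm, one_zpow,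
    one_mul]

/-- The data for the diagonal subgroup of a twisted group. -/
structure TwHyp6 (C : CDatum) (R : RelData C) extends TwHyp5 C R where
  flat : cls.flatten.Perm (List.range C.D.rank)
  pd : ∀ i < C.D.rank, G.pInv^[d] i = i
  smP : Matrix (Fin C.D.rank) (Fin C.D.rank) ℤ
  smQ : Matrix (Fin C.D.rank) (Fin C.D.rank) ℤ
  smP' : Matrix (Fin C.D.rank) (Fin C.D.rank) ℤ
  smQ' : Matrix (Fin C.D.rank) (Fin C.D.rank) ℤ
  smD : Fin C.D.rank → ℕ
  hsm : smP * cartanMat C.D * smQ = Matrix.diagonal fun k => (smD k : ℤ)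
  hP : smP * smP' = 1
  hP' : smP' * smP = 1
  hQ : smQ * smQ' = 1
  cop : Nat.Coprime (∏ k, smD k) d

section
variable {K : Type*} [Field K] [Fintype K] {C : CDatum} {R : RelData C} (H : TwHyp6 C R) (φ : K →+* K)

omit [Fintype K] in
/-- The iterates of the action on the coordinates. -/
theorem TwHyp6.sigT_iterate (k : ℕ) (c : Fin C.D.rank → Kˣ) (j : Fin C.D.rank) :
    ((H.G.sigT φ)^[k] c j : K) = φ^[k] (cN c (H.G.pInv^[k] j.val)) ∧ H.G.pInv^[k] j.val < C.D.rank := by
  induction k generalizing j with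
  | zero => exact ⟨(cN_lt c j.val j.isLt).symm, j.isLt⟩
  | succ k ih =>
    have h1 := (H.G.p_spec j.val j.isLt).2.1
    obtain ⟨e, hlt⟩ := ih (H.G.pInvF j)
    refine ⟨?_, ?_⟩
    · rw [Function.iterate_succ_apply', Function.iterate_succ_apply', Function.iterate_succ_apply]
      show φ (((H.G.sigT φ)^[k] c (H.G.pInvF j) : Kˣ) : K) = _
      rw [e]
      rfl
    · rw [Function.iterate_succ_apply]
      exact hlt

omit [Fintype K] in
theorem TwHyp6.sigT_iterate_d (hφd : ∀ x : K, φ^[H.d] x = x) (c : Fin C.D.rank → Kˣ) :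
    (H.G.sigT φ)^[H.d] c = c := by
  funext j
  apply Units.ext
  rw [(H.sigT_iterate φ H.d c j).1, hφd, H.pd j.val j.isLt, cN_lt c j.val j.isLt]

omit [Fintype K] in
/-- Coordinates fixed by the action define an element of the twisted group. -/
theorem TwHyp6.tor_mem_grp (c : Fin C.D.rank → Kˣ) (hc : H.G.sigT φ c = c) : R.tor c ∈ H.grp φ := by
  have hstab : ∀ i < C.D.rank, cN c (H.G.p i) = φ (cN c i) := by
    intro i hi
    have hpi := (H.G.p_spec i hi).1
    have := H.G.cN_sigT φ c (H.G.p i) hpi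
    rw [hc, (H.G.p_spec i hi).2.2.1] at this
    exact this
  unfold RelData.tor
  rw [R.hListU_perm H.B.dec _ _ H.flat.symm (fun i hi => List.mem_range.mp hi) _ (fun i _ => cN_ne_zero c i),
    R.hListU_flatten]
  apply Subgroup.list_prod_mem
  intro g hg
  obtain ⟨J, hJ, rfl⟩ := List.mem_map.mp hg
  exact H.toTwHyp.hListU_cls_mem φ (cN c) hstab J hJ

/-- The kernel of the torus is finite of order prime to the order of the twist. -/
theorem TwHyp6.card_ker_coprime :
    (Nat.card (R.torHom (K := K)).ker).Coprime H.d := by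
  have e1 : (R.torHom (K := K)).ker = (rootChar C.D K).ker := by
    ext c
    rw [MonoidHom.mem_ker, MonoidHom.mem_ker]
    exact R.tor_eq_one_iff c
  rw [e1, R.ker_rootChar H.vec H.hvec, card_ker_pw H.smP (cartanMat C.D) H.smQ H.smP' H.smQ' H.smD H.hsm H.hP H.hP' H.hQ]
  apply Nat.Coprime.coprime_dvd_left _ H.cop
  apply Finset.prod_dvd_prod_of_dvd
  intro k _
  rw [IsCyclic.card_powMonoidHom_ker]
  exact Nat.gcd_dvd_right _ _

/-- The diagonal subgroup of a twisted group consists of the elements of the torus with coordinates fixed by the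
action. -/
theorem TwHyp6.diagonal_inf_grp (hφd : ∀ x : K, φ^[H.d] x = x) :
    C.D.diagonalSubgroup K ⊓ H.grp φ =
      (MonoidHom.eqLocus (H.G.sigT φ) (MonoidHom.id _)).map (R.torHom (K := K)) := by
  apply le_antisymm
  · rintro h ⟨hh, hG⟩
    have hfix : H.sig φ h = h := (mem_fixG _ _).mp (H.toTwHyp.grp_le_fix φ hG)
    obtain ⟨c, rfl⟩ := R.exists_tor H.B.dec h hh
    set Z := (R.torHom (K := K)).ker with hZ
    set σ := H.G.sigT (C := C) φ with hσ
    have hσZ : ∀ z ∈ Z, σ z ∈ Z := by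
      intro z hz
      rw [hZ, MonoidHom.mem_ker] at hz ⊢
      show R.tor (σ z) = 1
      rw [← H.toTwHyp.sig_tor φ z]
      have : R.tor z = 1 := hz
      rw [this, map_one]
    set z := σ c * c⁻¹ with hz
    have hzZ : z ∈ Z := by
      rw [hZ, MonoidHom.mem_ker]
      show R.tor (σ c * c⁻¹) = 1
      rw [R.tor_mul, ← H.toTwHyp.sig_tor φ c, hfix, ← R.tor_mul, mul_inv_cancel, R.tor_one]
    have hiter : ∀ i : ℕ, σ^[i] z = σ^[i + 1] c * (σ^[i] c)⁻¹ := by
      intro i
      rw [hz, iterate_map_mul, iterate_map_inv, ← Function.iterate_succ_apply]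
    have hN : ∏ i ∈ Finset.range H.d, σ^[i] z = 1 := by
      rw [Finset.prod_congr rfl (fun i _ => hiter i)]
      simp only [← div_eq_mul_inv]
      rw [Finset.prod_range_div (fun i => σ^[i] c), H.sigT_iterate_d φ hφd c]
      simp
    obtain ⟨y, hyZ, hzy⟩ := hilbert90_coprime Z σ H.d hσZ (H.card_ker_coprime) z hzZ hN
    refine ⟨c * y, ?_, ?_⟩
    · show σ (c * y) = c * y
      have e1 : σ c = z * c := by rw [hz]; simp
      rw [map_mul, e1, hzy]
      simp [mul_comm, mul_left_comm]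
    · show R.tor (c * y) = R.tor c
      rw [R.tor_mul]
      have : R.tor y = 1 := hyZ
      rw [this, mul_one]
  · rintro h ⟨c, hc, rfl⟩
    exact ⟨R.tor_mem c, H.tor_mem_grp φ c hc⟩

end

end Cfsg.Agent.Lib.Helper3.ChevM
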