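import Mathlib
import Cfsg.Prelude.Def_ChevStructure
import Cfsg.Agent.Lib.Helper3.ChevTw19
set_option autoImplicit false
open Cfsg Cfsg.Lie

/-! The order of the diagonal subgroup of a twisted group. -/

namespace Cfsg.Agent.Lib.Helper3.ChevM

open ChevU ChevT ChevH

/-- Tables locating each fundamental index in its class. -/
def clsIdxCheck (D : ChevalleyDatum) (p : ℕ → ℕ) (cls : List (List ℕ)) (clsOf posOf : ℕ → ℕ) : Bool :=
  ((List.range D.rank).all fun i => decide (clsOf i < cls.length) &&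
    decide ((cls.getD (clsOf i) []).getD (posOf i) D.rank = i)) &&
  ((List.range cls.length).all fun k => decide (0 < (cls.getD k []).length) &&
    (List.range (cls.getD k []).length).all fun m =>
      decide ((cls.getD k []).getD m 0 < D.rank) && decide (clsOf ((cls.getD k []).getD m 0) = k) &&
      decide (posOf ((cls.getD k []).getD m 0) = m) &&
      decide (p ((cls.getD k []).getD m 0) = (cls.getD k []).getD ((m + 1) % (cls.getD k []).length) 0))

/-- The data for the order of the diagonal subgroup of a twisted group. -/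
structure TwHyp7 (C : CDatum) (R : RelData C) extends TwHyp6 C R where
  clsOf : ℕ → ℕ
  posOf : ℕ → ℕ
  idx : clsIdxCheck C.D G.p cls clsOf posOf = true
  lens : ∀ J ∈ cls, J.length = 1 ∨ J.length = d

section
variable {K : Type*} [Field K] [Fintype K] (φ : K →+* K)

omit [Fintype K] in
theorem units_map_iterate (m : ℕ) (x : Kˣ) : (((Units.map φ.toMonoidHom)^[m] x : Kˣ) : K) = φ^[m] (x : K) := by
  induction m with
  | zero => rfl
  | succ m ih =>
    rw [Function.iterate_succ_apply', Function.iterate_succ_apply', ← ih]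
    rfl

omit [Fintype K] in
/-- The number of units fixed by a power of the field automorphism. -/
theorem card_fixed_units (q d m : ℕ) (hφ1 : Nat.card {x : K // φ x = x} = q) (hφd : ∀ x : K, φ^[d] x = x)
    (hK : Nat.card K = q ^ d) (hm : m = 1 ∨ m = d) :
    Nat.card {x : Kˣ // (Units.map φ.toMonoidHom)^[m] x = x} = q ^ m - 1 := by
  classical
  set S : Set K := {x | φ^[m] x = x} with hS
  have hScard : S.ncard = q ^ m := by
    rcases hm with rfl | rfl
    · rw [pow_one, ← hφ1]
      rfl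
    · have : S = Set.univ := by
        ext x
        simp [hS, hφd x]
      rw [this, Set.ncard_univ, hK]
  have h0 : (0 : K) ∈ S := by
    show φ^[m] 0 = 0
    exact Function.iterate_fixed (map_zero φ) m
  have e : {x : Kˣ // (Units.map φ.toMonoidHom)^[m] x = x} ≃ ↥(S \ {0}) :=
    { toFun := fun x => ⟨(x.1 : K), by
        refine ⟨?_, by simp⟩
        show φ^[m] (x.1 : K) = x.1
        rw [← units_map_iterate, x.2]⟩
      invFun := fun y => ⟨Units.mk0 y.1 (by simpa using y.2.2), by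
        apply Units.ext
        rw [units_map_iterate]
        exact y.2.1⟩
      left_inv := by
        intro x
        apply Subtype.ext
        apply Units.ext
        rfl
      right_inv := by
        intro y
        apply Subtype.ext
        rfl }
  rw [Nat.card_congr e, Nat.card_coe_set_eq, Set.ncard_sdiff_singleton_of_mem h0, hScard]

end

section
variable {K : Type*} [Field K] [Fintype K] {C : CDatum} {R : RelData C} (H : TwHyp7 C R) (φ : K →+* K)

/-- The subgroup of the coordinates fixed by the action. -/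
def TwHyp7.torFix : Subgroup (Fin C.D.rank → Kˣ) := MonoidHom.eqLocus (H.G.sigT φ) (MonoidHom.id _)

/-- The coordinates fixed by the action and defining the trivial element. -/
def TwHyp7.kerFix : Subgroup (Fin C.D.rank → Kˣ) := H.torFix φ ⊓ (R.torHom (K := K)).ker

omit [Fintype K] in
theorem TwHyp7.idx_spec1 (i : ℕ) (hi : i < C.D.rank) :
    H.clsOf i < H.cls.length ∧ H.posOf i < (H.cls.getD (H.clsOf i) []).length ∧
      (H.cls.getD (H.clsOf i) []).getD (H.posOf i) 0 = i := by
  have h := H.idx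
  simp only [clsIdxCheck, Bool.and_eq_true, List.all_eq_true, List.mem_range, decide_eq_true_eq] at h
  obtain ⟨h1, h2⟩ := h.1 i hi
  have hlt : H.posOf i < (H.cls.getD (H.clsOf i) []).length := by
    by_contra hge
    rw [List.getD_eq_default _ _ (not_lt.mp hge)] at h2
    omega
  refine ⟨h1, hlt, ?_⟩
  rw [List.getD_eq_getElem _ _ hlt] at h2 ⊢
  exact h2

omit [Fintype K] in
theorem TwHyp7.idx_spec2 (k : ℕ) (hk : k < H.cls.length) :
    0 < (H.cls.getD k []).length ∧ ∀ m < (H.cls.getD k []).length,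
      (H.cls.getD k []).getD m 0 < C.D.rank ∧ H.clsOf ((H.cls.getD k []).getD m 0) = k ∧
      H.posOf ((H.cls.getD k []).getD m 0) = m ∧
      H.G.p ((H.cls.getD k []).getD m 0) = (H.cls.getD k []).getD ((m + 1) % (H.cls.getD k []).length) 0 := by
  have h := H.idx
  simp only [clsIdxCheck, Bool.and_eq_true, List.all_eq_true, List.mem_range, decide_eq_true_eq] at h
  obtain ⟨h1, h2⟩ := h.2 k hk
  refine ⟨h1, fun m hm => ?_⟩
  obtain ⟨⟨⟨a, b⟩, c⟩, d⟩ := h2 m hm
  exact ⟨a, b, c, d⟩

omit [Fintype K] in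
/-- The coordinates fixed by the action, in terms of the indices. -/
theorem TwHyp7.mem_torFix (c : Fin C.D.rank → Kˣ) :
    c ∈ H.torFix φ ↔ ∀ i (hi : i < C.D.rank),
      c ⟨H.G.p i, (H.G.p_spec i hi).1⟩ = Units.map φ.toMonoidHom (c ⟨i, hi⟩) := by
  have hiff : c ∈ H.torFix φ ↔ H.G.sigT φ c = c := Iff.rfl
  rw [hiff]
  constructor
  · intro h i hi
    have := congrFun h ⟨H.G.p i, (H.G.p_spec i hi).1⟩
    rw [← this]
    show Units.map φ.toMonoidHom (c (H.G.pInvF ⟨H.G.p i, _⟩)) = _
    have e : H.G.pInvF ⟨H.G.p i, (H.G.p_spec i hi).1⟩ = ⟨i, hi⟩ := Fin.ext (H.G.p_spec i hi).2.2.1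
    rw [e]
  · intro h
    funext j
    have hj := (H.G.p_spec j.val j.isLt)
    have := h (H.G.pInv j.val) hj.2.1
    show Units.map φ.toMonoidHom (c (H.G.pInvF j)) = c j
    have e : (⟨H.G.p (H.G.pInv j.val), (H.G.p_spec _ hj.2.1).1⟩ : Fin C.D.rank) = j := Fin.ext hj.2.2.2
    rw [e] at this
    rw [this]
    rfl

omit [Fintype K] in
/-- The iterates of the symmetry along a class. -/
theorem TwHyp7.p_iterate (k : ℕ) (hk : k < H.cls.length) (m : ℕ) (hm : m < (H.cls.getD k []).length) :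
    H.G.p^[m] ((H.cls.getD k []).getD 0 0) = (H.cls.getD k []).getD m 0 := by
  obtain ⟨h0, hall⟩ := H.idx_spec2 k hk
  induction m with
  | zero => rfl
  | succ m ih =>
    have hm' : m < (H.cls.getD k []).length := by omega
    rw [Function.iterate_succ_apply', ih hm', (hall m hm').2.2.2, Nat.mod_eq_of_lt hm]

omit [Fintype K] in
/-- Fixed coordinates along a class. -/
theorem TwHyp7.torFix_iterate (c : Fin C.D.rank → Kˣ) (hc : c ∈ H.torFix φ) (i : ℕ) (hi : i < C.D.rank) (m : ℕ) :
    ∃ h : H.G.p^[m] i < C.D.rank, c ⟨H.G.p^[m] i, h⟩ = (Units.map φ.toMonoidHom)^[m] (c ⟨i, hi⟩) := by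
  induction m with
  | zero => exact ⟨hi, rfl⟩
  | succ m ih =>
    obtain ⟨h, e⟩ := ih
    have h' : H.G.p^[m + 1] i < C.D.rank := by
      rw [Function.iterate_succ_apply']; exact (H.G.p_spec _ h).1
    refine ⟨h', ?_⟩
    have := (H.mem_torFix φ c).mp hc _ h
    have e2 : (⟨H.G.p^[m + 1] i, h'⟩ : Fin C.D.rank) = ⟨H.G.p (H.G.p^[m] i), (H.G.p_spec _ h).1⟩ :=
      Fin.ext (Function.iterate_succ_apply' _ _ _)
    rw [e2, this, e, ← Function.iterate_succ_apply' (Units.map φ.toMonoidHom)]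

omit [Fintype K] in
/-- The number of coordinates fixed by the action. -/
theorem TwHyp7.card_torFix (q : ℕ) (hφ1 : Nat.card {x : K // φ x = x} = q) (hφd : ∀ x : K, φ^[H.d] x = x)
    (hK : Nat.card K = q ^ H.d) :
    Nat.card (H.torFix φ) = ∏ k : Fin H.cls.length, (q ^ (H.cls.getD k.val []).length - 1) := by
  classical
  set ψ := Units.map (φ.toMonoidHom : K →* K) with hψ
  let A : Fin H.cls.length → Type _ := fun k => {x : Kˣ // ψ^[(H.cls.getD k.val []).length] x = x}
  have hcardA : ∀ k, Nat.card (A k) = q ^ (H.cls.getD k.val []).length - 1 := by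
    intro k
    have hmem : H.cls.getD k.val [] ∈ H.cls := by
      rw [List.getD_eq_getElem _ _ k.isLt]; exact List.getElem_mem k.isLt
    exact card_fixed_units φ q H.d _ hφ1 hφd hK (H.lens _ hmem)
  -- the head of a class
  have hhd : ∀ k : Fin H.cls.length, (H.cls.getD k.val []).getD 0 0 < C.D.rank := fun k =>
    ((H.idx_spec2 k.val k.isLt).2 0 (H.idx_spec2 k.val k.isLt).1).1
  let hd : Fin H.cls.length → Fin C.D.rank := fun k => ⟨(H.cls.getD k.val []).getD 0 0, hhd k⟩
  have hclsOf : ∀ i : Fin C.D.rank, H.clsOf i.val < H.cls.length := fun i => (H.idx_spec1 i.val i.isLt).1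
  -- the forward map
  have hfwd : ∀ (c : H.torFix φ) (k : Fin H.cls.length), ψ^[(H.cls.getD k.val []).length] (c.1 (hd k)) = c.1 (hd k) := by
    intro c k
    obtain ⟨h0, hall⟩ := H.idx_spec2 k.val k.isLt
    set n := (H.cls.getD k.val []).length with hn
    obtain ⟨h1, e1⟩ := H.torFix_iterate φ c.1 c.2 _ (hhd k) n
    have e3 : H.G.p^[n] ((H.cls.getD k.val []).getD 0 0) = (H.cls.getD k.val []).getD 0 0 := by
      have hn1 : n - 1 < n := by omega
      have e2 : n = (n - 1) + 1 := by omega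
      rw [e2, Function.iterate_succ_apply', H.p_iterate k.val k.isLt (n - 1) hn1, (hall (n - 1) hn1).2.2.2, ← e2,
        Nat.mod_self]
    have e4 : (⟨H.G.p^[n] ((H.cls.getD k.val []).getD 0 0), h1⟩ : Fin C.D.rank) = hd k := Fin.ext e3
    show ψ^[n] (c.1 ⟨_, hhd k⟩) = c.1 (hd k)
    rw [← e1]
    exact congrArg c.1 e4
  let F : H.torFix φ → ((k : Fin H.cls.length) → A k) := fun c k => ⟨c.1 (hd k), hfwd c k⟩
  -- the backward map
  let Bk : ((k : Fin H.cls.length) → A k) → (Fin C.D.rank → Kˣ) := fun a i =>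
    ψ^[H.posOf i.val] (a ⟨H.clsOf i.val, hclsOf i⟩).1
  have hBk : ∀ a, Bk a ∈ H.torFix φ := by
    intro a
    rw [H.mem_torFix]
    intro i hi
    obtain ⟨h1, h2, h3⟩ := H.idx_spec1 i hi
    obtain ⟨h0, hall⟩ := H.idx_spec2 (H.clsOf i) h1
    obtain ⟨g1, g2, g3, g4⟩ := hall (H.posOf i) h2
    rw [h3] at g4
    set n := (H.cls.getD (H.clsOf i) []).length with hn
    have hlt : (H.posOf i + 1) % n < n := Nat.mod_lt _ h0
    obtain ⟨f1, f2, f3, -⟩ := hall ((H.posOf i + 1) % n) hlt
    rw [← g4] at f2 f3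
    show ψ^[H.posOf (H.G.p i)] (a ⟨H.clsOf (H.G.p i), _⟩).1 = ψ (ψ^[H.posOf i] (a ⟨H.clsOf i, _⟩).1)
    have e1 : (⟨H.clsOf (H.G.p i), hclsOf ⟨H.G.p i, (H.G.p_spec i hi).1⟩⟩ : Fin H.cls.length) = ⟨H.clsOf i, h1⟩ :=
      Fin.ext f2
    rw [e1, f3, ← Function.iterate_succ_apply' ψ]
    by_cases hlast : H.posOf i + 1 < n
    · rw [Nat.mod_eq_of_lt hlast]
    · have hthis : H.posOf i + 1 = n := by omega
      have hsucc : (H.posOf i).succ = n := hthis
      rw [hthis, Nat.mod_self, Function.iterate_zero, id, hsucc]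
      exact ((a ⟨H.clsOf i, h1⟩).2).symm
  have hleft : ∀ c : H.torFix φ, (⟨Bk (F c), hBk _⟩ : H.torFix φ) = c := by
    intro c
    apply Subtype.ext
    funext i
    obtain ⟨h1, h2, h3⟩ := H.idx_spec1 i.val i.isLt
    show ψ^[H.posOf i.val] (c.1 (hd ⟨H.clsOf i.val, h1⟩)) = c.1 i
    obtain ⟨g1, e1⟩ := H.torFix_iterate φ c.1 c.2 _ (hhd ⟨H.clsOf i.val, h1⟩) (H.posOf i.val)
    show ψ^[H.posOf i.val] (c.1 ⟨_, hhd ⟨H.clsOf i.val, h1⟩⟩) = c.1 i
    rw [← e1]
    apply congrArg c.1
    apply Fin.ext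
    show H.G.p^[H.posOf i.val] ((H.cls.getD (H.clsOf i.val) []).getD 0 0) = i.val
    rw [H.p_iterate _ h1 _ h2, h3]
  have hright : ∀ a, F ⟨Bk a, hBk a⟩ = a := by
    intro a
    funext k
    apply Subtype.ext
    obtain ⟨h0, hall⟩ := H.idx_spec2 k.val k.isLt
    obtain ⟨g1, g2, g3, -⟩ := hall 0 h0
    show ψ^[H.posOf (hd k).val] (a ⟨H.clsOf (hd k).val, _⟩).1 = (a k).1
    have e1 : (⟨H.clsOf (hd k).val, hclsOf (hd k)⟩ : Fin H.cls.length) = k := Fin.ext g2
    rw [e1]
    have e2 : H.posOf (hd k).val = 0 := g3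
    rw [e2]
    rfl
  have e : H.torFix φ ≃ ((k : Fin H.cls.length) → A k) :=
    { toFun := F
      invFun := fun a => ⟨Bk a, hBk a⟩
      left_inv := hleft
      right_inv := hright }
  rw [Nat.card_congr e, Nat.card_pi]
  exact Finset.prod_congr rfl fun k _ => hcardA k

/-- The order of the diagonal subgroup of a twisted group. -/
theorem TwHyp7.card_diagonal_inf (q : ℕ) (hφ1 : Nat.card {x : K // φ x = x} = q) (hφd : ∀ x : K, φ^[H.d] x = x)
    (hK : Nat.card K = q ^ H.d) :
    Nat.card (H.kerFix φ) * Nat.card ↥(C.D.diagonalSubgroup K ⊓ H.grp φ) =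
      ∏ k : Fin H.cls.length, (q ^ (H.cls.getD k.val []).length - 1) := by
  rw [← H.card_torFix φ q hφ1 hφd hK, H.toTwHyp6.diagonal_inf_grp φ hφd]
  let f : H.torFix φ →* GL C.D.Idx K := (R.torHom (K := K)).comp (H.torFix φ).subtype
  have h1 : Nat.card f.ker * Nat.card f.range = Nat.card (H.torFix φ) := by
    rw [← Subgroup.index_ker, Subgroup.card_mul_index]
  have h2 : f.range = (H.torFix φ).map (R.torHom (K := K)) := by
    rw [MonoidHom.range_comp, Subgroup.range_subtype]
  have h3 : Nat.card f.ker = Nat.card (H.kerFix φ) := by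
    apply Nat.card_congr
    exact
      { toFun := fun x => ⟨x.1.1, ⟨x.1.2, x.2⟩⟩
        invFun := fun y => ⟨⟨y.1, y.2.1⟩, y.2.2⟩
        left_inv := fun x => rfl
        right_inv := fun y => rfl }
  rw [← h1, h2, h3]
  rfl

omit [Fintype K] in
/-- The coordinates fixed by the action and defining the trivial element, in terms of equations. -/
theorem TwHyp7.mem_kerFix (c : Fin C.D.rank → Kˣ) :
    c ∈ H.kerFix φ ↔ (∀ j, Units.map φ.toMonoidHom (c (H.G.pInvF j)) = c j) ∧
      ∀ j, ∏ i, c i ^ cartanMat C.D i j = 1 := by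
  have h1 : c ∈ H.kerFix φ ↔ H.G.sigT φ c = c ∧ R.tor c = 1 := Iff.rfl
  rw [h1, R.tor_eq_one_iff, ← MonoidHom.mem_ker, R.ker_rootChar H.vec H.hvec, MonoidHom.mem_ker]
  constructor
  · rintro ⟨h2, h3⟩
    exact ⟨fun j => congrFun h2 j, fun j => congrFun h3 j⟩
  · rintro ⟨h2, h3⟩
    exact ⟨funext h2, funext h3⟩

theorem prod_fin_getD {α : Type*} (l : List α) (a : α) (f : α → ℕ) :
    ∏ k : Fin l.length, f (l.getD k.val a) = (l.map f).prod := by
  rw [← List.prod_ofFn]
  congr 1
  apply List.ext_getElem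
  · simp
  · intro i h1 h2
    simp only [List.getElem_ofFn, List.getElem_map]
    rw [List.getD_eq_getElem]

/-- The order of the diagonal subgroup of a twisted group, as a product along the list of classes. -/
theorem TwHyp7.card_diagonal_inf' (q : ℕ) (hφ1 : Nat.card {x : K // φ x = x} = q) (hφd : ∀ x : K, φ^[H.d] x = x)
    (hK : Nat.card K = q ^ H.d) :
    Nat.card (H.kerFix φ) * Nat.card ↥(C.D.diagonalSubgroup K ⊓ H.grp φ) =
      (H.cls.map fun J => q ^ J.length - 1).prod := by
  rw [H.card_diagonal_inf φ q hφ1 hφd hK]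
  exact prod_fin_getD H.cls [] fun J => q ^ J.length - 1

end

end Cfsg.Agent.Lib.Helper3.ChevM
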