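import Cfsg.Agent.Lib.Helper3.TwGen4
set_option autoImplicit false
open Cfsg Cfsg.Lie

/-!
Two generators for the twisted groups, part 5: the table of the orbits of a twisted Coxeter element, and the fixed
field of the Frobenius map as the powers of a norm.
-/

namespace Cfsg.Agent.Lib.Helper3.ChevM

open ChevU ChevT ChevH Cfsg.Agent.Lib.Helper3.ChevAut Cfsg.Agent.Lib.Helper3.ChevGen2

/-- Every class of fundamental roots, with either sign, lies in the image of one of the two given lists of roots under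
a power of the Weyl group element of the word `l`. -/
def twOrbCheck (D : ChevalleyDatum) (refl : ℕ → ℕ → ℕ) (cls : List (List ℕ)) (l L0 : List ℕ) (s1 bound : ℕ) : Bool :=
  cls.all fun J => [false, true].all fun neg =>
    (List.range bound).any fun k => [L0, [s1]].any fun src =>
      (J.map (sgnRoot D neg)).all fun s => (src.map (reflW refl l)^[k]).contains s

theorem twOrbCheck_spec {D : ChevalleyDatum} {refl : ℕ → ℕ → ℕ} {cls : List (List ℕ)} {l L0 : List ℕ} {s1 bound : ℕ}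
    (h : twOrbCheck D refl cls l L0 s1 bound = true) (J : List ℕ) (hJ : J ∈ cls) (neg : Bool) :
    ∃ k : ℕ, ∃ src : List ℕ, (src = L0 ∨ src = [s1]) ∧
      ∀ s ∈ J.map (sgnRoot D neg), s ∈ src.map (reflW refl l)^[k] := by
  simp only [twOrbCheck, List.all_eq_true, List.any_eq_true, List.mem_range, List.contains_iff_mem] at h
  obtain ⟨k, -, src, hsrc, hall⟩ := h J hJ neg (by cases neg <;> simp)
  refine ⟨k, src, ?_, hall⟩
  simpa using hsrc

section
variable {K : Type*} [Field K] [Fintype K]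

theorem orderOf_generator (ζ : Kˣ) (hζ : ∀ x : Kˣ, x ∈ Subgroup.zpowers ζ) : orderOf ζ = Fintype.card K - 1 := by
  rw [orderOf_eq_card_of_forall_mem_zpowers hζ, Nat.card_units, Nat.card_eq_fintype_card]

/-- The nonzero fixed points of the Frobenius map `t ↦ t ^ q` of a field with `q ^ d` elements are the powers of the
norm of a generator of the multiplicative group. -/
theorem exists_zpow_of_fixed (ζ : Kˣ) (hζ : ∀ x : Kˣ, x ∈ Subgroup.zpowers ζ) (q d : ℕ) (hq : 2 ≤ q)
    (hK : Fintype.card K = q ^ d) (x : K) (hx0 : x ≠ 0) (hx : x ^ q = x) :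
    ∃ k : ℤ, (((ζ ^ (∑ i ∈ Finset.range d, q ^ i)) ^ k : Kˣ) : K) = x := by
  obtain ⟨j, hj⟩ := Subgroup.mem_zpowers_iff.mp (hζ (Units.mk0 x hx0))
  have hord := orderOf_generator ζ hζ
  rw [hK] at hord
  have h1 : (Units.mk0 x hx0) ^ q = Units.mk0 x hx0 := Units.ext (by simpa using hx)
  rw [← hj] at h1
  have h2 : ζ ^ (j * ((q : ℤ) - 1)) = 1 := by
    rw [mul_sub, mul_one, zpow_sub, zpow_mul, zpow_natCast, h1, mul_inv_cancel]
  have h3 := (orderOf_dvd_iff_zpow_eq_one).mpr h2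
  rw [hord] at h3
  have hq1 : 1 ≤ q ^ d := Nat.one_le_pow _ _ (by omega)
  have hgeom : ((q ^ d - 1 : ℕ) : ℤ) = (∑ i ∈ Finset.range d, (q : ℤ) ^ i) * ((q : ℤ) - 1) := by
    rw [geom_sum_mul]
    push_cast [hq1]
    ring
  rw [hgeom] at h3
  have hq0 : ((q : ℤ) - 1) ≠ 0 := by
    have : (2 : ℤ) ≤ q := by exact_mod_cast hq
    omega
  have h4 : (∑ i ∈ Finset.range d, (q : ℤ) ^ i) ∣ j := Int.dvd_of_mul_dvd_mul_right hq0 h3
  obtain ⟨k, hk⟩ := h4
  refine ⟨k, ?_⟩
  have e : ((∑ i ∈ Finset.range d, q ^ i : ℕ) : ℤ) = ∑ i ∈ Finset.range d, (q : ℤ) ^ i := by push_cast; rfl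
  rw [← zpow_natCast, ← zpow_mul, e, ← hk, hj]
  rfl

end

end Cfsg.Agent.Lib.Helper3.ChevM
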