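import Mathlib
import Cfsg.Prelude.Def_ChevStructure
import Cfsg.Agent.Lib.Helper3.ChevTw12
set_option autoImplicit false
open Cfsg Cfsg.Lie

/-! The number of elements of `U_w⁻` fixed by the twisting automorphism. -/

namespace Cfsg.Agent.Lib.Helper3.ChevM

open ChevU ChevT

/-- The number of positive roots with a given representative is the length of its class. -/
def twFiberCheck (D : ChevalleyDatum) (isRep : ℕ → Bool) (mlen rep : ℕ → ℕ) : Bool :=
  (List.range D.nroots).all fun r => !(decide (D.IsPosRoot r) && isRep r) ||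
    decide ((D.posRoots.filter fun s => decide (rep s = r)).length = mlen r)

section
variable {K : Type*} [Field K] {C : CDatum} {R : RelData C} (H : TwHyp C R)

/-- Class words are invariant under the symmetry. -/
theorem TwHyp.cls_word_map_p (Ω : List (List ℕ)) (hΩ : ∀ J ∈ Ω, J ∈ H.cls) :
    ∀ s < C.D.nroots, reflW R.refl (Ω.flatten.map H.G.p) s = reflW R.refl Ω.flatten s := by
  obtain ⟨-, hJs⟩ := twClsCheck_spec (R := R) H.G H.cls H.clsOk
  induction Ω with
  | nil => intro s _; rfl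
  | cons J Ω ih =>
    intro s hs
    have hΩ' : ∀ J' ∈ Ω, J' ∈ H.cls := fun J' hJ' => hΩ J' (List.mem_cons_of_mem _ hJ')
    have hlt : ∀ i ∈ Ω.flatten, i < C.D.rank := H.flatten_lt Ω hΩ'
    rw [List.flatten_cons, List.map_append, reflW_append, reflW_append, ih hΩ' s hs]
    exact (hJs J (hΩ J List.mem_cons_self)).2.2.2.2.1 _ (R.reflW_lt _ hlt s hs)

/-- Class words commute with the symmetry of the roots. -/
theorem TwHyp.cls_word_rho (Ω : List (List ℕ)) (hΩ : ∀ J ∈ Ω, J ∈ H.cls) (s : ℕ) (hs : s < C.D.nroots) :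
    reflW R.refl Ω.flatten (H.G.rho s) = H.G.rho (reflW R.refl Ω.flatten s) := by
  rw [← H.cls_word_map_p Ω hΩ _ (H.G.rho_spec s hs).1]
  exact reflW_map_p H.G H.rf _ (H.flatten_lt Ω hΩ) s hs

/-- The set of positive roots made negative by a class word is stable under the symmetry. -/
theorem TwHyp.negSet_rhoInv (Ω : List (List ℕ)) (hΩ : ∀ J ∈ Ω, J ∈ H.cls) (s : ℕ) (hs : C.D.IsPosRoot s)
    (hs' : C.D.IsPosRoot (H.G.rhoInv s)) :
    s ∈ negSet C.D R.refl Ω.flatten ↔ H.G.rhoInv s ∈ negSet C.D R.refl Ω.flatten := by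
  obtain ⟨-, h2, -, h4, -⟩ := H.G.rho_spec s hs.1
  have hlt := H.flatten_lt Ω hΩ
  have hw := R.reflW_lt _ hlt _ h2
  have e : reflW R.refl Ω.flatten s = H.G.rho (reflW R.refl Ω.flatten (H.G.rhoInv s)) := by
    rw [← H.cls_word_rho Ω hΩ _ h2, h4]
  rw [mem_negSet, mem_negSet, e]
  constructor
  · rintro ⟨-, h⟩
    refine ⟨hs', ?_⟩
    by_contra hn
    have hp : C.D.IsPosRoot (reflW R.refl Ω.flatten (H.G.rhoInv s)) := by
      by_contra hp
      exact hn ((neg_iff_not_pos H.sign _ hw).mpr hp)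
    have := (twTabCheck_spec H.tab _ hw).2.2.1 hp
    exact (neg_iff_not_pos H.sign _ (H.G.rho_spec _ hw).1).mp h this
  · rintro ⟨-, h⟩
    exact ⟨hs, (twTabCheck_spec H.tab _ hw).2.2.2 h⟩

/-- The set of positive roots made negative by a class word is a union of classes. -/
theorem TwHyp.negSet_rep (Ω : List (List ℕ)) (hΩ : ∀ J ∈ Ω, J ∈ H.cls) :
    ∀ (k : ℕ) (s : ℕ), C.D.IsPosRoot s → H.T.kk s = k →
      (s ∈ negSet C.D R.refl Ω.flatten ↔ H.T.rep s ∈ negSet C.D R.refl Ω.flatten) := by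
  intro k
  induction k with
  | zero =>
    intro s hs hk
    obtain ⟨-, -, -, -, -, h0, -, -⟩ := H.T.spec s hs
    rw [(h0 hk).1]
  | succ k ih =>
    intro s hs hk
    obtain ⟨-, -, -, hpos', -, -, h1, -⟩ := H.T.spec s hs
    obtain ⟨a1, a2, -⟩ := h1 (by omega)
    rw [H.negSet_rhoInv Ω hΩ s hs hpos', ih _ hpos' (by omega), a1]

end

section
variable {K : Type*} [Field K] [Fintype K] {C : CDatum} {R : RelData C} (H : TwHyp2 C R) (φ : K →+* K)

/-- The elements of `U_w⁻` in coordinates with respect to the enumeration of the positive roots by classes. -/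
theorem TwHyp2.uMinus_eq_coords (Ω : List (List ℕ)) (hΩ : ∀ J ∈ Ω, J ∈ H.cls) :
    (uMinus C.D K (R.nCls K Ω) : Set (GL C.D.Idx K)) =
      {g | ∃ t : ℕ → K, (∀ s, s ∉ negSet C.D R.refl Ω.flatten → t s = 0) ∧ g = R.lp H.CL.flatten t} := by
  classical
  obtain ⟨hnd, hmem, -⟩ := twPosClsCheck_spec H.clOk
  have hlt := H.toTwHyp.flatten_lt Ω hΩ
  set Ψ := negSet C.D R.refl Ω.flatten with hΨ
  set M := H.CL.flatten with hM
  have hΨnd : Ψ.Nodup := (pairwise_negSet C.D R.refl Ω.flatten).imp (fun h => ne_of_lt h)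
  have hΨpos : ∀ r ∈ Ψ, C.D.IsPosRoot r := fun r hr => ((mem_negSet _ _ _ r).mp hr).1
  have hUm : (uMinus C.D K (R.nCls K Ω) : Set (GL C.D.Idx K)) = lprodSet R K Ψ := by
    have := H.U.uMinus_eq (F := K) H.B H.ntri H.sign 1 (Subgroup.one_mem _) Ω.flatten hlt
    rwa [one_mul] at this
  have hgen : ∀ s ∈ Ψ, ∀ a : K, R.xU s a ∈ uMinus C.D K (R.nCls K Ω) := by
    intro s hs a
    have : R.xU s a ∈ (uMinus C.D K (R.nCls K Ω) : Set (GL C.D.Idx K)) := by
      rw [hUm]
      exact ⟨fun r => if r = s then a else 0, (R.lp_single Ψ hΨnd s hs a).symm⟩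
    exact this
  set S : Set (GL C.D.Idx K) := {g | ∃ t : ℕ → K, (∀ s, s ∉ Ψ → t s = 0) ∧ g = R.lp M t} with hS
  have hsub : S ⊆ (uMinus C.D K (R.nCls K Ω) : Set (GL C.D.Idx K)) := by
    rintro g ⟨t, ht, rfl⟩
    show RootSys.lprod (fun r (t : K) => R.xU r t) M t ∈ uMinus C.D K (R.nCls K Ω)
    unfold RootSys.lprod
    apply Subgroup.list_prod_mem
    intro x hx
    obtain ⟨r, -, rfl⟩ := List.mem_map.mp hx
    by_cases hr : r ∈ Ψ
    · exact hgen r hr (t r)
    · show R.xU r (t r) ∈ _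
      rw [ht r hr, R.xU_zero]
      exact Subgroup.one_mem _
  set n := Ψ.length with hn
  let ext : (Fin n → K) → ℕ → K := fun τ r => if h : Ψ.idxOf r < n then τ ⟨Ψ.idxOf r, h⟩ else 0
  have hext : ∀ (τ : Fin n → K) (i : Fin n), ext τ (Ψ[i.val]) = τ i := by
    intro τ i
    have : Ψ.idxOf (Ψ[i.val]) = i.val := hΨnd.idxOf_getElem _ _
    simp only [ext, this, i.isLt, dif_pos]
  have hext0 : ∀ (τ : Fin n → K) (r : ℕ), r ∉ Ψ → ext τ r = 0 := by
    intro τ r hr
    have : ¬ Ψ.idxOf r < n := by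
      rw [hn, List.idxOf_lt_length_iff]; exact hr
    simp only [ext, this, dif_neg, not_false_eq_true]
  let f : (Fin n → K) → S := fun τ => ⟨R.lp M (ext τ), ext τ, hext0 τ, rfl⟩
  have hinj : Function.Injective f := by
    intro τ τ' h
    have h' : R.lp M (ext τ) = R.lp M (ext τ') := congrArg Subtype.val h
    have h2 := H.U.lp_inj_of_fintype H.len M hnd hmem _ _ h'
    funext i
    have := h2 (Ψ[i.val]) ((hmem _).mpr (hΨpos _ (List.getElem_mem _)))
    rwa [hext, hext] at this
  have hfin : (uMinus C.D K (R.nCls K Ω) : Set (GL C.D.Idx K)).Finite := Set.toFinite _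
  have hc1 : Nat.card (Fin n → K) ≤ Nat.card S := Nat.card_le_card_of_injective f hinj
  have hc2 : Nat.card (uMinus C.D K (R.nCls K Ω)) = Fintype.card K ^ n := by
    have e : Nat.card (uMinus C.D K (R.nCls K Ω)) =
        Nat.card ((uMinus C.D K (R.nCls K Ω) : Set (GL C.D.Idx K))) := rfl
    rw [e, hUm, H.U.card_lprodSet _ (pairwise_negSet _ _ _) hΨpos]
  have hc3 : Nat.card (Fin n → K) = Fintype.card K ^ n := by
    rw [Nat.card_eq_fintype_card, Fintype.card_fun, Fintype.card_fin]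
  symm
  apply Set.eq_of_subset_of_ncard_le hsub _ hfin
  rw [← Nat.card_coe_set_eq, ← Nat.card_coe_set_eq]
  calc Nat.card ((uMinus C.D K (R.nCls K Ω) : Set (GL C.D.Idx K))) = Fintype.card K ^ n := hc2
    _ = Nat.card (Fin n → K) := hc3.symm
    _ ≤ Nat.card S := hc1

end

section
variable {K : Type*} [Field K] [Fintype K] {C : CDatum} {R : RelData C} (H : TwHyp2 C R) (φ : K →+* K)

omit [Fintype K] in
/-- The number of positive roots made negative by a class word, counted by classes. -/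
theorem TwHyp2.sum_expo_negSet (hfib : twFiberCheck C.D H.T.isRep H.T.mlen H.T.rep = true)
    (Ω : List (List ℕ)) (hΩ : ∀ J ∈ Ω, J ∈ H.cls) :
    ∑ r ∈ Finset.range C.D.nroots,
      (if C.D.IsPosRoot r ∧ H.T.isRep r = true ∧ r ∈ negSet C.D R.refl Ω.flatten then H.T.mlen r else 0) =
      (negSet C.D R.refl Ω.flatten).length := by
  classical
  set Ψ := negSet C.D R.refl Ω.flatten with hΨ
  have hΨnd : Ψ.Nodup := (pairwise_negSet C.D R.refl Ω.flatten).imp (fun h => ne_of_lt h)
  have hΨpos : ∀ r ∈ Ψ, C.D.IsPosRoot r := fun r hr => ((mem_negSet _ _ _ r).mp hr).1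
  rw [← List.toFinset_card_of_nodup hΨnd]
  rw [Finset.card_eq_sum_card_fiberwise (f := H.T.rep) (t := Finset.range C.D.nroots)
    (fun x hx => by
      rw [Finset.mem_coe, Finset.mem_range]
      exact (H.T.spec x (hΨpos x (List.mem_toFinset.mp hx))).1)]
  apply Finset.sum_congr rfl
  intro b hb
  rw [Finset.mem_range] at hb
  by_cases hcond : C.D.IsPosRoot b ∧ H.T.isRep b = true ∧ b ∈ Ψ
  · rw [if_pos hcond]
    have hf := hfib
    simp only [twFiberCheck, List.all_eq_true, List.mem_range, Bool.or_eq_true, Bool.not_eq_true',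
      Bool.and_eq_false_iff, decide_eq_false_iff_not, decide_eq_true_eq] at hf
    have h1 := hf b hb
    have h2 : (C.D.posRoots.filter fun s => decide (H.T.rep s = b)).length = H.T.mlen b := by
      rcases h1 with (h | h) | h
      · exact absurd hcond.1 h
      · rw [hcond.2.1] at h; exact absurd h (by simp)
      · exact h
    rw [← h2, ← List.toFinset_card_of_nodup ((nodup_posRoots C.D).filter _)]
    congr 1
    ext s
    simp only [Finset.mem_filter, List.mem_toFinset, List.mem_filter, decide_eq_true_eq, mem_posRoots]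
    constructor
    · rintro ⟨h3, h4⟩
      refine ⟨?_, h4⟩
      rw [H.toTwHyp.negSet_rep Ω hΩ _ s h3 rfl, h4]
      exact hcond.2.2
    · rintro ⟨h3, h4⟩
      exact ⟨hΨpos s h3, h4⟩
  · rw [if_neg hcond]
    symm
    rw [Finset.card_eq_zero, Finset.filter_eq_empty_iff]
    intro s hs hrep
    apply hcond
    have hs' := List.mem_toFinset.mp hs
    have hpos := hΨpos s hs'
    obtain ⟨-, h2, h3, -⟩ := H.T.spec s hpos
    rw [hrep] at h2 h3
    refine ⟨h3, h2, ?_⟩
    rw [← hrep, ← H.toTwHyp.negSet_rep Ω hΩ _ s hpos rfl]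
    exact hs'

/-- The number of elements of `U_w⁻` fixed by the twisting automorphism. -/
theorem TwHyp2.card_uMinus_fix (hfib : twFiberCheck C.D H.T.isRep H.T.mlen H.T.rep = true) (q : ℕ)
    (hφ1 : Nat.card {x : K // φ x = x} = q) (hφd : ∀ x : K, φ^[H.d] x = x) (hK : Nat.card K = q ^ H.d)
    (Ω : List (List ℕ)) (hΩ : ∀ J ∈ Ω, J ∈ H.cls) :
    Nat.card ↥(uMinus C.D K (R.nCls K Ω) ⊓ fixG (H.sig φ)) = q ^ (negSet C.D R.refl Ω.flatten).length := by
  classical
  obtain ⟨hnd, hmem, -⟩ := twPosClsCheck_spec H.clOk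
  set M := H.CL.flatten with hM
  set Ψ := negSet C.D R.refl Ω.flatten with hΨ
  have hΨpos : ∀ r ∈ Ψ, C.D.IsPosRoot r := fun r hr => ((mem_negSet _ _ _ r).mp hr).1
  have hcoords := H.uMinus_eq_coords (K := K) Ω hΩ
  let P : ℕ → K → Prop := fun r x =>
    if C.D.IsPosRoot r ∧ H.T.isRep r = true ∧ r ∈ Ψ then φ^[H.T.mlen r] x = x else x = 0
  let A := ∀ r : Fin C.D.nroots, {x : K // P r.val x}
  let aval : A → ℕ → K := fun a r => if h : r < C.D.nroots then (a ⟨r, h⟩).val else 0
  have haval0 : ∀ (a : A) (r : ℕ), ¬ (C.D.IsPosRoot r ∧ H.T.isRep r = true ∧ r ∈ Ψ) → aval a r = 0 := by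
    intro a r hr
    by_cases hlt : r < C.D.nroots
    · have hp := (a ⟨r, hlt⟩).property
      simp only [P, hr, if_false] at hp
      simp only [aval, dif_pos hlt]
      exact hp
    · simp only [aval, dif_neg hlt]
  have haval : ∀ (a : A) (r : ℕ), C.D.IsPosRoot r → H.T.isRep r = true →
      φ^[H.T.mlen r] (aval a r) = aval a r := by
    intro a r hr hrep
    by_cases hrΨ : r ∈ Ψ
    · have hp := (a ⟨r, hr.1⟩).property
      simp only [P, hr, hrep, hrΨ, and_self, if_true] at hp
      simp only [aval, dif_pos hr.1]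
      exact hp
    · rw [haval0 a r (fun h => hrΨ h.2.2)]
      exact Function.iterate_fixed (map_zero φ) _
  have hfixed : ∀ a : A, ∀ s ∈ M, H.G.tw φ (H.T.coord H.G φ H.d (aval a)) s = H.T.coord H.G φ H.d (aval a) s :=
    fun a s hs => H.T.coord_fixed H.G φ H.d (aval a) (haval a) s ((hmem s).mp hs)
  have hsupp : ∀ (a : A) (s : ℕ), s ∉ Ψ → H.T.coord H.G φ H.d (aval a) s = 0 := by
    intro a s hs
    unfold TwRep.coord
    by_cases hpos : C.D.IsPosRoot s
    · rw [if_pos hpos]
      have hrep : H.T.rep s ∉ Ψ := by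
        rw [← H.toTwHyp.negSet_rep Ω hΩ _ s hpos rfl]; exact hs
      rw [haval0 a _ (fun h => hrep h.2.2), Function.iterate_fixed (map_zero φ), mul_zero]
    · rw [if_neg hpos]
  let f : A → ↥(uMinus C.D K (R.nCls K Ω) ⊓ fixG (H.sig φ)) := fun a =>
    ⟨R.lp M (H.T.coord H.G φ H.d (aval a)),
      ⟨by
        have : R.lp M (H.T.coord H.G φ H.d (aval a)) ∈ (uMinus C.D K (R.nCls K Ω) : Set (GL C.D.Idx K)) := by
          rw [hcoords]
          exact ⟨_, hsupp a, rfl⟩
        exact this,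
       (H.U.fix_iff H.G φ H.CL H.clOk H.len _).mpr (hfixed a)⟩⟩
  have hcoord_rep : ∀ (a : ℕ → K) (r : ℕ), C.D.IsPosRoot r → H.T.isRep r = true →
      H.T.coord H.G φ H.d a r = a r := by
    intro a r hr hrep
    obtain ⟨-, -, -, -, -, h0, -, h7⟩ := H.T.spec r hr
    have hk := h7 hrep
    obtain ⟨a1, a2, -, -, -⟩ := h0 hk
    unfold TwRep.coord
    rw [if_pos hr, hk, a1, a2]
    simp
  have hinj : Function.Injective f := by
    intro a a' h
    have h1 : R.lp M (H.T.coord H.G φ H.d (aval a)) = R.lp M (H.T.coord H.G φ H.d (aval a')) :=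
      congrArg Subtype.val h
    have h2 := H.U.lp_inj_of_fintype H.len M hnd hmem _ _ h1
    funext r
    apply Subtype.ext
    by_cases hr : C.D.IsPosRoot r.val ∧ H.T.isRep r.val = true ∧ r.val ∈ Ψ
    · have h3 := h2 r.val ((hmem _).mpr hr.1)
      rw [hcoord_rep _ _ hr.1 hr.2.1, hcoord_rep _ _ hr.1 hr.2.1] at h3
      simpa only [aval, dif_pos r.isLt] using h3
    · have hp := (a r).property
      have hp' := (a' r).property
      simp only [P, hr, if_false] at hp hp'
      rw [hp, hp']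
  have hsurj : Function.Surjective f := by
    rintro ⟨g, hgU, hgfix⟩
    have hgU' : g ∈ (uMinus C.D K (R.nCls K Ω) : Set (GL C.D.Idx K)) := hgU
    rw [hcoords] at hgU'
    obtain ⟨t, ht0, rfl⟩ := hgU'
    have htw := (H.U.fix_iff H.G φ H.CL H.clOk H.len t).mp ((mem_fixG _ _).mp hgfix)
    have htw' : ∀ s, C.D.IsPosRoot s → H.G.tw φ t s = t s := fun s hs => htw s ((hmem s).mpr hs)
    let a : A := fun r => ⟨if C.D.IsPosRoot r.val ∧ H.T.isRep r.val = true ∧ r.val ∈ Ψ then t r.val else 0, by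
      by_cases hr : C.D.IsPosRoot r.val ∧ H.T.isRep r.val = true ∧ r.val ∈ Ψ
      · simp only [P, hr, and_self, if_true]
        obtain ⟨-, -, -, -, -, -, -, h7⟩ := H.T.spec r.val hr.1
        exact H.T.closing H.G φ H.d t htw' r.val hr.1 (h7 hr.2.1)
      · simp only [P, hr, if_false]⟩
    refine ⟨a, Subtype.ext ?_⟩
    show R.lp M (H.T.coord H.G φ H.d (aval a)) = R.lp M t
    apply R.lp_congr
    intro s hs
    have hspos := (hmem s).mp hs
    by_cases hsΨ : s ∈ Ψ
    · obtain ⟨h1, h2, h3, -, -, -, -, -⟩ := H.T.spec s hspos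
      have hrΨ : H.T.rep s ∈ Ψ := by
        rw [← H.toTwHyp.negSet_rep Ω hΩ _ s hspos rfl]; exact hsΨ
      have e : aval a (H.T.rep s) = t (H.T.rep s) := by
        simp only [aval, dif_pos h1, a, h3, h2, hrΨ, and_self, if_true]
      unfold TwRep.coord
      rw [if_pos hspos, e]
      exact (H.T.eq_coord H.G φ H.d t htw' _ s hspos rfl).symm
    · rw [hsupp a s hsΨ, ht0 s hsΨ]
  have hcardA : Nat.card A = q ^ Ψ.length := by
    rw [Nat.card_pi]
    have hfac : ∀ r : Fin C.D.nroots, Nat.card {x : K // P r.val x} =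
        q ^ (if C.D.IsPosRoot r.val ∧ H.T.isRep r.val = true ∧ r.val ∈ Ψ then H.T.mlen r.val else 0) := by
      intro r
      by_cases hr : C.D.IsPosRoot r.val ∧ H.T.isRep r.val = true ∧ r.val ∈ Ψ
      · rw [if_pos hr]
        obtain ⟨-, -, -, -, h5, h0, -, h7⟩ := H.T.spec r.val hr.1
        obtain ⟨a1, -, -, -, -⟩ := h0 (h7 hr.2.1)
        rw [a1] at h5
        rcases h5 with h5 | h5
        · rw [h5, pow_one, ← hφ1]
          apply Nat.card_congr
          apply Equiv.subtypeEquivRight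
          intro x
          simp only [P, hr, and_self, if_true, h5, Function.iterate_one]
        · rw [h5, ← hK]
          apply Nat.card_congr
          refine (Equiv.subtypeEquivRight (q := fun _ => True) ?_).trans (Equiv.subtypeUnivEquiv fun _ => trivial)
          intro x
          simp only [P, hr, and_self, if_true, h5, hφd x]
      · rw [if_neg hr, pow_zero]
        have : Unique {x : K // P r.val x} :=
          { default := ⟨0, by simp only [P, hr, if_false]⟩
            uniq := by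
              rintro ⟨x, hx⟩
              apply Subtype.ext
              simpa only [P, hr, if_false] using hx }
        exact Nat.card_unique
    rw [Finset.prod_congr rfl (fun r _ => hfac r), Finset.prod_pow_eq_pow_sum,
      Fin.sum_univ_eq_sum_range (fun r =>
        if C.D.IsPosRoot r ∧ H.T.isRep r = true ∧ r ∈ Ψ then H.T.mlen r else 0),
      H.sum_expo_negSet hfib Ω hΩ]
  rw [← hcardA]
  exact (Nat.card_eq_of_bijective f ⟨hinj, hsurj⟩).symm

end

end Cfsg.Agent.Lib.Helper3.ChevM
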