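import Mathlib
import Cfsg.Prelude.Def_ChevStructure
import Cfsg.Agent.Lib.Helper3.ChevTw21
set_option autoImplicit false
open Cfsg Cfsg.Lie

/-! The order of a twisted group as a sum over the elements of the Weyl group commuting with the symmetry. -/

namespace Cfsg.Agent.Lib.Helper3.ChevM

open ChevU ChevT

/-- The permutations of the roots induced by the class words. -/
def WsetC (D : ChevalleyDatum) (refl : ℕ → ℕ → ℕ) (cls : List (List ℕ)) : Set (Fin D.nroots → Fin D.nroots) :=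
  {f | ∃ Ω : List (List ℕ), (∀ J ∈ Ω, J ∈ cls) ∧ f = wperm D refl Ω.flatten}

open Classical in
/-- The Poincaré sum of the group generated by the class reflections. -/
noncomputable def poinC (D : ChevalleyDatum) (refl : ℕ → ℕ → ℕ) (cls : List (List ℕ)) (q : ℕ) : ℕ :=
  ∑ f ∈ Finset.univ.filter (fun f => f ∈ WsetC D refl cls), q ^ Nf D f

section
variable {K : Type*} [Field K] [Fintype K] {C : CDatum} {R : RelData C} (H : TwHyp2 C R) (φ : K →+* K)

/-- The order of a twisted group. -/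
theorem TwHyp2.card_grp (hfib : twFiberCheck C.D H.T.isRep H.T.mlen H.T.rep = true) (q : ℕ)
    (hφ1 : Nat.card {x : K // φ x = x} = q) (hφd : ∀ x : K, φ^[H.d] x = x) (hK : Nat.card K = q ^ H.d) :
    Nat.card (H.grp φ) =
      Nat.card ↥(C.D.posUnipotent K ⊓ H.grp φ) * Nat.card ↥(C.D.diagonalSubgroup K ⊓ H.grp φ) *
        poinC C.D R.refl H.cls q := by
  classical
  have M := H.B.mono
  have hUB : C.D.posUnipotent K ≤ C.D.borelSubgroup K := le_sup_left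
  have hHB : C.D.diagonalSubgroup K ≤ C.D.borelSubgroup K := le_sup_right
  obtain ⟨hHU, hdisj⟩ := R.diagonal_normalizes (F := K) H.B.dec M.tri
  obtain ⟨-, bru2⟩ := H.U.bruhat_normal_form (F := K) H.B H.ntri (fun r hr => signCheck_or (H.sign r hr))
  let W := {f : Fin C.D.nroots → Fin C.D.nroots // f ∈ WsetC C.D R.refl H.cls}
  have hword : ∀ f : W, ∃ Ω : List (List ℕ), (∀ J ∈ Ω, J ∈ H.cls) ∧ f.1 = wperm C.D R.refl Ω.flatten := fun f => f.2
  choose Ωd hΩd hΩd' using hword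
  let nf : W → GL C.D.Idx K := fun f => R.nCls K (Ωd f)
  have hnfN : ∀ f, nf f ∈ C.D.monomialSubgroup K := fun f => H.toTwHyp.nCls_mem_monomial (Ωd f) (hΩd f)
  have hnfG : ∀ f, nf f ∈ H.grp φ := fun f => H.toTwHyp.nCls_mem φ (Ωd f) (hΩd f)
  have hlt : ∀ f, ∀ i ∈ (Ωd f).flatten, i < C.D.rank := fun f => H.toTwHyp.flatten_lt (Ωd f) (hΩd f)
  have hfixG : ∀ f (u : GL C.D.Idx K), u ∈ uMinus C.D K (nf f) ⊓ fixG (H.sig φ) → u ∈ H.grp φ := by
    intro f u hu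
    have : u ∈ C.D.posUnipotent K ⊓ fixG (H.sig φ) := ⟨uMinus_le_posUnipotent C.D _ hu.1, hu.2⟩
    rw [← H.toTwHyp.posUnipotent_inf_grp φ] at this
    exact this.2
  let Φ : (Σ f : W, (↥(C.D.posUnipotent K ⊓ H.grp φ) × ↥(C.D.diagonalSubgroup K ⊓ H.grp φ)) ×
      ↥(uMinus C.D K (nf f) ⊓ fixG (H.sig φ))) → H.grp φ := fun x =>
    ⟨x.2.1.1.1 * x.2.1.2.1 * nf x.1 * x.2.2.1,
      Subgroup.mul_mem _ (Subgroup.mul_mem _ (Subgroup.mul_mem _ x.2.1.1.2.2 x.2.1.2.2.2) (hnfG x.1))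
        (hfixG x.1 _ x.2.2.2)⟩
  have hinj : Function.Injective Φ := by
    rintro ⟨f, ⟨u₁, h⟩, u⟩ ⟨f', ⟨u₁', h'⟩, u'⟩ hx
    have e : u₁.1 * h.1 * nf f * u.1 = u₁'.1 * h'.1 * nf f' * u'.1 := congrArg Subtype.val hx
    have hb : u₁.1 * h.1 ∈ C.D.borelSubgroup K := Subgroup.mul_mem _ (hUB u₁.2.1) (hHB h.2.1)
    have hb' : u₁'.1 * h'.1 ∈ C.D.borelSubgroup K := Subgroup.mul_mem _ (hUB u₁'.2.1) (hHB h'.2.1)
    obtain ⟨h1, h2⟩ := bru2 _ _ (nf f) (nf f') u.1 u'.1 hb hb' (hnfN f) (hnfN f') u.2.1 u'.2.1 e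
    have hff : f = f' := by
      have e1 : R.nWordU (F := K) (Ωd f').flatten =
          (nf f * ((nf f)⁻¹ * nf f') * (nf f)⁻¹) * R.nWordU (Ωd f).flatten := by
        show nf f' = _ * nf f
        group
      have := R.reflW_eq_of_coset (F := K) H.B.dec (Ωd f').flatten (Ωd f).flatten (hlt f') (hlt f) _
        (M.conj_mem _ (hnfN f) _ h1) e1
      apply Subtype.ext
      rw [hΩd' f, hΩd' f', R.wperm_eq_iff _ _ (hlt f) (hlt f')]
      intro s hs
      exact (this s hs).symm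
    subst hff
    obtain ⟨h3, h4⟩ := h2 rfl
    have hu : u = u' := Subtype.ext h4
    have hmem : u₁'.1⁻¹ * u₁.1 ∈ C.D.posUnipotent K ⊓ C.D.diagonalSubgroup K := by
      refine ⟨Subgroup.mul_mem _ (Subgroup.inv_mem _ u₁'.2.1) u₁.2.1, ?_⟩
      have : u₁'.1⁻¹ * u₁.1 = h'.1 * h.1⁻¹ := by
        rw [inv_mul_eq_iff_eq_mul, ← mul_assoc, ← h3]; group
      rw [this]
      exact Subgroup.mul_mem _ h'.2.1 (Subgroup.inv_mem _ h.2.1)
    rw [hdisj, Subgroup.mem_bot] at hmem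
    have hu₁ : u₁ = u₁' := by
      apply Subtype.ext
      have := inv_mul_eq_one.mp hmem
      exact this.symm
    have hh : h = h' := by
      apply Subtype.ext
      have h5 : u₁.1 * h.1 = u₁.1 * h'.1 := by
        rw [h3, hu₁]
      exact mul_left_cancel h5
    rw [hu, hu₁, hh]
  have hsurj : Function.Surjective Φ := by
    rintro ⟨g, hg⟩
    obtain ⟨u₁, hu₁, h, hh, Ω, hΩ, u, hu, rfl⟩ := H.grp_normal_form φ g hg
    let f : W := ⟨wperm C.D R.refl Ω.flatten, Ω, hΩ, rfl⟩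
    have hΩlt := H.toTwHyp.flatten_lt Ω hΩ
    have hperm : ∀ s < C.D.nroots, reflW R.refl Ω.flatten s = reflW R.refl (Ωd f).flatten s := by
      rw [← R.wperm_eq_iff _ _ hΩlt (hlt f)]
      exact hΩd' f
    obtain ⟨h', hh', e'⟩ := M.coset_of_reflW_eq (F := K) H.B.dec Ω.flatten (Ωd f).flatten hΩlt (hlt f) hperm
    have e'' : R.nCls K Ω = h' * nf f := e'
    have hh'G : h' ∈ H.grp φ := by
      have : h' = R.nCls K Ω * (nf f)⁻¹ := by rw [e'']; group
      rw [this]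
      exact Subgroup.mul_mem _ (H.toTwHyp.nCls_mem φ Ω hΩ) (Subgroup.inv_mem _ (hnfG f))
    have hu' : u ∈ uMinus C.D K (nf f) := by
      have h1 : u ∈ (uMinus C.D K (R.nCls K Ω) : Set (GL C.D.Idx K)) := hu.1
      have e2 : negSet C.D R.refl Ω.flatten = negSet C.D R.refl (Ωd f).flatten := by
        unfold negSet
        apply List.filter_congr
        intro r hr
        rw [hperm r ((mem_posRoots C.D r).mp hr).1]
      rw [H.uMinus_eq_coords Ω hΩ, e2, ← H.uMinus_eq_coords (Ωd f) (hΩd f)] at h1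
      exact h1
    refine ⟨⟨f, (⟨u₁, hu₁⟩, ⟨h * h', ⟨Subgroup.mul_mem _ hh.1 hh', Subgroup.mul_mem _ hh.2 hh'G⟩⟩),
      ⟨u, ⟨hu', H.toTwHyp.grp_le_fix φ hu.2⟩⟩⟩, ?_⟩
    apply Subtype.ext
    show u₁ * (h * h') * nf f * u = u₁ * h * R.nCls K Ω * u
    rw [e'']
    group
  have hcardU : ∀ f : W, Nat.card ↥(uMinus C.D K (nf f) ⊓ fixG (H.sig φ)) = q ^ Nf C.D f.1 := by
    intro f
    rw [H.card_uMinus_fix φ hfib q hφ1 hφd hK (Ωd f) (hΩd f), hΩd' f, R.Nf_wperm _ (hlt f)]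
    rfl
  letI : Fintype W := Subtype.fintype _
  rw [← Nat.card_congr (Equiv.ofBijective Φ ⟨hinj, hsurj⟩), Nat.card_sigma]
  simp only [Nat.card_prod, hcardU]
  rw [← Finset.mul_sum]
  congr 1
  unfold poinC
  rw [Finset.sum_subtype (p := fun f => f ∈ WsetC C.D R.refl H.cls)
    (Finset.univ.filter fun f => f ∈ WsetC C.D R.refl H.cls) (by simp)
    (fun f => q ^ Nf C.D f)]

end

end Cfsg.Agent.Lib.Helper3.ChevM
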