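import Mathlib
import Cfsg.Prelude.Def_ChevStructure
import Cfsg.Agent.Lib.Helper3.ChevTw22
import Cfsg.Agent.Lib.Helper3.ChevO2
set_option autoImplicit false
set_option linter.unusedSectionVars false
open Cfsg Cfsg.Lie

/-! Factorisation of the Poincaré sum of the group generated by the class reflections along a chain of parabolic
subgroups. -/

namespace Cfsg.Agent.Lib.Helper3.ChevM

/-- The root `r` is a combination of the fundamental roots with indices in `L`. -/
def suppIn (D : ChevalleyDatum) (L : List ℕ) (r : ℕ) : Bool :=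
  (List.range D.rank).all fun j => decide (j ∈ L) || decide ((D.coroot.getD r #[]).getD j 0 = 0)

/-- The checks on the sub-root-system spanned by the fundamental roots with indices in `L`. -/
def suppCheckL (D : ChevalleyDatum) (refl : ℕ → ℕ → ℕ) (L : List ℕ) (r : ℕ) : Bool :=
  (suppIn D L (D.neg r) == suppIn D L r) &&
    L.all fun j => (suppIn D L (refl j r) == suppIn D L r) && suppIn D L (D.simple j)

/-- The representative `DL[a]` is a word in the classes `cs'` mapping the positive roots of the subsystem to positive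
roots. -/
def repCheckC (D : ChevalleyDatum) (refl : ℕ → ℕ → ℕ) (L : List ℕ) (cs' : List (List ℕ))
    (DL : List (List (List ℕ))) (a : ℕ) : Bool :=
  ((DL.getD a []).all fun J => decide (J ∈ cs')) &&
    D.posRoots.all fun r => !suppIn D L r || decide (D.IsPosRoot (reflW refl (DL.getD a []).flatten r))

/-- Left multiplication of the representative `DL[a]` by the class reflection `i`. -/
def stepCheckC (D : ChevalleyDatum) (refl : ℕ → ℕ → ℕ) (cs : List (List ℕ)) (J : List ℕ)
    (DL : List (List (List ℕ))) (nxt : ℕ → ℕ → ℕ) (a i : ℕ) : Bool :=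
  if nxt a i < DL.length then
    (List.range D.nroots).all fun s =>
      reflW refl ((J :: cs).getD i []) (reflW refl (DL.getD a []).flatten s) ==
        reflW refl (DL.getD (nxt a i) []).flatten s
  else
    decide (nxt a i - DL.length < cs.length) &&
      (List.range D.nroots).all fun s =>
        reflW refl ((J :: cs).getD i []) (reflW refl (DL.getD a []).flatten s) ==
          reflW refl (DL.getD a []).flatten (reflW refl (cs.getD (nxt a i - DL.length) []) s)

/-- The representatives induce distinct permutations. -/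
def distinctCheckC (D : ChevalleyDatum) (refl : ℕ → ℕ → ℕ) (DL : List (List (List ℕ))) : Bool :=
  decide ((DL.map fun d => (List.range D.nroots).map (reflW refl d.flatten)).Nodup)

section
variable {C : CDatum} {R : RelData C} (M : MonoHyp C R)
  (hsign : ∀ r < C.D.nroots, signCheck C.D r = true) (L : List ℕ) (hL : ∀ j ∈ L, j < C.D.rank)
  (hsupp : ∀ r < C.D.nroots, suppCheckL C.D R.refl L r = true)
include M hsign hL hsupp

omit M hsign hL in
theorem suppCheckL_spec (r : ℕ) (hr : r < C.D.nroots) :
    suppIn C.D L (C.D.neg r) = suppIn C.D L r ∧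
      ∀ j ∈ L, suppIn C.D L (R.refl j r) = suppIn C.D L r ∧ suppIn C.D L (C.D.simple j) = true := by
  have := hsupp r hr
  simp only [suppCheckL, Bool.and_eq_true, beq_iff_eq, List.all_eq_true] at this
  exact this

omit hsign in
theorem MonoHyp.suppIn_reflW (w : List ℕ) (hw : ∀ i ∈ w, i ∈ L) (s : ℕ) (hs : s < C.D.nroots) :
    suppIn C.D L (reflW R.refl w s) = suppIn C.D L s := by
  induction w with
  | nil => rfl
  | cons i w ih =>
    have hw' : ∀ j ∈ w, j ∈ L := fun j hj => hw j (List.mem_cons_of_mem _ hj)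
    have hlt := R.reflW_lt w (fun j hj => hL j (hw' j hj)) s hs
    show suppIn C.D L (R.refl i (reflW R.refl w s)) = _
    rw [((suppCheckL_spec L hsupp _ hlt).2 i (hw i List.mem_cons_self)).1, ih hw']

omit hsign in
theorem MonoHyp.pos_reflW_of_not_suppIn (w : List ℕ) (hw : ∀ i ∈ w, i ∈ L) (s : ℕ)
    (hs : C.D.IsPosRoot s) (hns : suppIn C.D L s = false) : C.D.IsPosRoot (reflW R.refl w s) := by
  induction w with
  | nil => exact hs
  | cons i w ih =>
    have hw' : ∀ j ∈ w, j ∈ L := fun j hj => hw j (List.mem_cons_of_mem _ hj)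
    have hlt := R.reflW_lt w (fun j hj => hL j (hw' j hj)) s hs.1
    have hi := hw i List.mem_cons_self
    have h1 := ih hw'
    have h2 : suppIn C.D L (reflW R.refl w s) = false := by
      rw [M.suppIn_reflW L hL hsupp w hw' s hs.1]; exact hns
    have hne : reflW R.refl w s ≠ C.D.simple i := by
      intro e
      rw [e, ((suppCheckL_spec L hsupp _ hlt).2 i hi).2] at h2
      exact Bool.noConfusion h2
    have hc := M.wp i (hL i hi) _ hlt
    simp only [wpCheck, Bool.or_eq_true, Bool.and_eq_true, Bool.not_eq_true', decide_eq_true_eq,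
      Bool.and_eq_false_imp, decide_eq_false_iff_not] at hc
    rcases hc with hc | hc
    · exact absurd (hc h1) (by simpa using hne)
    · exact hc.1

variable (cs' : List (List ℕ)) (hcs' : ∀ J ∈ cs', ∀ j ∈ J, j < C.D.rank)
  (DL : List (List (List ℕ))) (hrep : ∀ a < DL.length, repCheckC C.D R.refl L cs' DL a = true)
include hcs' hrep

omit M hsign hL hsupp in
theorem rep_classesC (a : ℕ) (ha : a < DL.length) : ∀ J ∈ DL.getD a [], J ∈ cs' := by
  have := hrep a ha
  simp only [repCheckC, Bool.and_eq_true, List.all_eq_true, decide_eq_true_eq] at this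
  exact this.1

omit M hsign hL hsupp in
theorem rep_lettersC (a : ℕ) (ha : a < DL.length) : ∀ i ∈ (DL.getD a []).flatten, i < C.D.rank := by
  intro i hi
  obtain ⟨J, hJ, hiJ⟩ := List.mem_flatten.mp hi
  exact hcs' J (rep_classesC L cs' hcs' DL hrep a ha J hJ) i hiJ

omit M hsign hL hsupp in
theorem rep_posC (a : ℕ) (ha : a < DL.length) (r : ℕ) (hr : C.D.IsPosRoot r) (hs : suppIn C.D L r = true) :
    C.D.IsPosRoot (reflW R.refl (DL.getD a []).flatten r) := by
  have := hrep a ha
  simp only [repCheckC, Bool.and_eq_true, List.all_eq_true, decide_eq_true_eq, Bool.or_eq_true,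
    Bool.not_eq_true'] at this
  rcases this.2 r ((mem_posRoots C.D r).mpr hr) with h | h
  · rw [hs] at h; exact Bool.noConfusion h
  · exact h

/-- Additivity of the number of positive roots made negative. -/
theorem MonoHyp.Nf_compC (a : ℕ) (ha : a < DL.length) (w : List ℕ) (hw : ∀ i ∈ w, i ∈ L) :
    Nf C.D (fun s => wperm C.D R.refl (DL.getD a []).flatten (wperm C.D R.refl w s)) =
      Nf C.D (wperm C.D R.refl (DL.getD a []).flatten) + Nf C.D (wperm C.D R.refl w) := by
  classical
  set d := (DL.getD a []).flatten with hd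
  have hdl := rep_lettersC L cs' hcs' DL hrep a ha
  have hwl : ∀ i ∈ w, i < C.D.rank := fun i hi => hL i (hw i hi)
  have hrl : ∀ i ∈ w.reverse, i < C.D.rank := fun i hi => hwl i (List.mem_reverse.mp hi)
  have hrk : ∀ i ∈ w.reverse, i ∈ L := fun i hi => hw i (List.mem_reverse.mp hi)
  set πd := wperm C.D R.refl d with hπd
  set v := wperm C.D R.refl w with hv
  have hvval : ∀ s, (v s).val = reflW R.refl w s.val := fun s => R.wperm_val w hwl s
  have hdval : ∀ s, (πd s).val = reflW R.refl d s.val := fun s => R.wperm_val d hdl s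
  -- splitting
  have hsplit : ∀ f : Fin C.D.nroots → Fin C.D.nroots, Nf C.D f =
      (Finset.univ.filter fun s : Fin C.D.nroots =>
        (C.D.IsPosRoot s.val ∧ suppIn C.D L s.val = true) ∧ C.D.IsNegRoot (f s).val).card +
      (Finset.univ.filter fun s : Fin C.D.nroots =>
        (C.D.IsPosRoot s.val ∧ suppIn C.D L s.val = false) ∧ C.D.IsNegRoot (f s).val).card := by
    intro f
    unfold Nf
    rw [← Finset.card_union_of_disjoint]
    · congr 1
      ext s
      simp only [Finset.mem_filter, Finset.mem_univ, true_and, Finset.mem_union]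
      constructor
      · rintro ⟨h1, h2⟩
        by_cases h3 : suppIn C.D L s.val = true
        · exact Or.inl ⟨⟨h1, h3⟩, h2⟩
        · exact Or.inr ⟨⟨h1, by simpa using h3⟩, h2⟩
      · rintro (⟨⟨h1, -⟩, h2⟩ | ⟨⟨h1, -⟩, h2⟩) <;> exact ⟨h1, h2⟩
    · rw [Finset.disjoint_filter]
      rintro s - ⟨⟨-, h1⟩, -⟩ ⟨⟨-, h2⟩, -⟩
      rw [h1] at h2
      exact Bool.noConfusion h2
  rw [hsplit, hsplit πd, hsplit v]
  -- the four pieces
  have e1 : (Finset.univ.filter fun s : Fin C.D.nroots =>
        (C.D.IsPosRoot s.val ∧ suppIn C.D L s.val = true) ∧ C.D.IsNegRoot (πd (v s)).val) =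
      (Finset.univ.filter fun s : Fin C.D.nroots =>
        (C.D.IsPosRoot s.val ∧ suppIn C.D L s.val = true) ∧ C.D.IsNegRoot (v s).val) := by
    apply Finset.filter_congr
    intro s _
    apply and_congr_right
    rintro ⟨hp, hs⟩
    have hvs : suppIn C.D L (v s).val = true := by
      rw [hvval, M.suppIn_reflW L hL hsupp w hw s.val s.isLt, hs]
    rw [neg_iff_not_pos hsign _ (πd (v s)).isLt, neg_iff_not_pos hsign _ (v s).isLt]
    constructor
    · intro h1 h2
      apply h1
      rw [hdval]
      exact rep_posC L cs' hcs' DL hrep a ha _ h2 hvs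
    · intro h1 h2
      obtain ⟨s1, s2, s3⟩ := signCheck_spec (hsign _ (v s).isLt)
      have hnegpos : C.D.IsPosRoot (C.D.neg (v s).val) := by
        by_contra h3
        exact h1 (s1.mpr h3)
      have hsn : suppIn C.D L (C.D.neg (v s).val) = true := by
        rw [(suppCheckL_spec L hsupp _ (v s).isLt).1, hvs]
      have h4 := rep_posC L cs' hcs' DL hrep a ha _ hnegpos hsn
      rw [← hd, M.reflW_neg d hdl _ (v s).isLt, ← hdval] at h4
      obtain ⟨t1, -, -⟩ := signCheck_spec (hsign _ (πd (v s)).isLt)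
      exact (t1.mp h2) h4
  have e2 : (Finset.univ.filter fun s : Fin C.D.nroots =>
        (C.D.IsPosRoot s.val ∧ suppIn C.D L s.val = false) ∧ C.D.IsNegRoot (v s).val) = ∅ := by
    rw [Finset.filter_eq_empty_iff]
    rintro s - ⟨⟨hp, hs⟩, hn⟩
    rw [neg_iff_not_pos hsign _ (v s).isLt, hvval] at hn
    exact hn (M.pos_reflW_of_not_suppIn L hL hsupp w hw s.val hp hs)
  have e3 : (Finset.univ.filter fun s : Fin C.D.nroots =>
        (C.D.IsPosRoot s.val ∧ suppIn C.D L s.val = true) ∧ C.D.IsNegRoot (πd s).val) = ∅ := by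
    rw [Finset.filter_eq_empty_iff]
    rintro s - ⟨⟨hp, hs⟩, hn⟩
    rw [neg_iff_not_pos hsign _ (πd s).isLt, hdval] at hn
    exact hn (rep_posC L cs' hcs' DL hrep a ha _ hp hs)
  have e4 : (Finset.univ.filter fun s : Fin C.D.nroots =>
        (C.D.IsPosRoot s.val ∧ suppIn C.D L s.val = false) ∧ C.D.IsNegRoot (πd (v s)).val).card =
      (Finset.univ.filter fun s : Fin C.D.nroots =>
        (C.D.IsPosRoot s.val ∧ suppIn C.D L s.val = false) ∧ C.D.IsNegRoot (πd s).val).card := by
    apply Finset.card_bij (fun s _ => v s)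
    · intro s hs
      simp only [Finset.mem_filter, Finset.mem_univ, true_and] at hs ⊢
      obtain ⟨⟨hp, hs'⟩, hn⟩ := hs
      refine ⟨⟨?_, ?_⟩, hn⟩
      · rw [hvval]; exact M.pos_reflW_of_not_suppIn L hL hsupp w hw s.val hp hs'
      · rw [hvval, M.suppIn_reflW L hL hsupp w hw s.val s.isLt, hs']
    · intro s _ s' _ h
      exact M.wperm_injective w hwl h
    · intro s' hs'
      simp only [Finset.mem_filter, Finset.mem_univ, true_and] at hs'
      obtain ⟨⟨hp, hs''⟩, hn⟩ := hs'
      refine ⟨wperm C.D R.refl w.reverse s', ?_, M.wperm_reverse' w hwl s'⟩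
      simp only [Finset.mem_filter, Finset.mem_univ, true_and]
      have hback : v (wperm C.D R.refl w.reverse s') = s' := M.wperm_reverse' w hwl s'
      refine ⟨⟨?_, ?_⟩, by rw [hback]; exact hn⟩
      · rw [R.wperm_val _ hrl]
        exact M.pos_reflW_of_not_suppIn L hL hsupp w.reverse hrk s'.val hp hs''
      · rw [R.wperm_val _ hrl, M.suppIn_reflW L hL hsupp w.reverse hrk s'.val s'.isLt, hs'']
  rw [e1, e2, e3, e4]
  simp only [Finset.card_empty, add_zero, zero_add]
  exact Nat.add_comm _ _

end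

section
variable {C : CDatum} {R : RelData C} (M : MonoHyp C R)
  (hdec : ∀ r < C.D.nroots, ∀ s < C.D.nroots, hdecCheck C.D R.pair r s = true)
  (hsign : ∀ r < C.D.nroots, signCheck C.D r = true)
  (cs : List (List ℕ)) (J : List ℕ) (hcs' : ∀ J' ∈ J :: cs, ∀ j ∈ J', j < C.D.rank)
  (hsupp : ∀ r < C.D.nroots, suppCheckL C.D R.refl cs.flatten r = true)
  (DL : List (List (List ℕ))) (hrep : ∀ a < DL.length, repCheckC C.D R.refl cs.flatten (J :: cs) DL a = true)
  (nxt : ℕ → ℕ → ℕ) (hhead : DL.head? = some [])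
  (hstep : ∀ a < DL.length, ∀ i < cs.length + 1, stepCheckC C.D R.refl cs J DL nxt a i = true)
  (hdist : distinctCheckC C.D R.refl DL = true)
include M hdec hsign hcs' hsupp hrep hhead hstep hdist

omit hdec hsign hsupp hdist in
/-- Every word in the classes `J :: cs` is a representative followed by a word in the classes `cs`. -/
theorem MonoHyp.exists_repC (Ω : List (List ℕ)) (hΩ : ∀ J' ∈ Ω, J' ∈ J :: cs) :
    ∃ a < DL.length, ∃ Ω' : List (List ℕ), (∀ J' ∈ Ω', J' ∈ cs) ∧
      ∀ s < C.D.nroots, reflW R.refl Ω.flatten s =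
        reflW R.refl (DL.getD a []).flatten (reflW R.refl Ω'.flatten s) := by
  have hcs : ∀ J' ∈ cs, ∀ j ∈ J', j < C.D.rank := fun J' hJ' => hcs' J' (List.mem_cons_of_mem _ hJ')
  induction Ω with
  | nil =>
    have hpos : 0 < DL.length := by
      rcases DL with _ | ⟨d, DL⟩
      · simp at hhead
      · simp
    refine ⟨0, hpos, [], fun i hi => absurd hi List.not_mem_nil, fun s _ => ?_⟩
    have : DL.getD 0 [] = [] := by
      rcases DL with _ | ⟨d, DL⟩
      · rfl
      · simp only [List.head?_cons, Option.some.injEq] at hhead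
        simp [hhead]
    rw [this]
    rfl
  | cons c Ω ih =>
    have hΩ' : ∀ J' ∈ Ω, J' ∈ J :: cs := fun J' hJ' => hΩ J' (List.mem_cons_of_mem _ hJ')
    obtain ⟨a, ha, Ω', hΩ'k, e⟩ := ih hΩ'
    have hc := hΩ c List.mem_cons_self
    obtain ⟨i, hi, hci⟩ := List.mem_iff_getElem.mp hc
    have hci' : (J :: cs).getD i [] = c := by rw [List.getD_eq_getElem _ _ hi]; exact hci
    have hi' : i < cs.length + 1 := by simpa using hi
    have hwl : ∀ j ∈ Ω'.flatten, j < C.D.rank := by
      intro j hj
      obtain ⟨J', hJ', hjJ⟩ := List.mem_flatten.mp hj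
      exact hcs J' (hΩ'k J' hJ') j hjJ
    have hst := hstep a ha i hi'
    unfold stepCheckC at hst
    rw [hci'] at hst
    split_ifs at hst with hlt
    · simp only [List.all_eq_true, List.mem_range, beq_iff_eq] at hst
      refine ⟨nxt a i, hlt, Ω', hΩ'k, fun s hs => ?_⟩
      rw [List.flatten_cons, reflW_append, e s hs, hst _ (R.reflW_lt _ hwl s hs)]
    · simp only [Bool.and_eq_true, decide_eq_true_eq, List.all_eq_true, List.mem_range, beq_iff_eq] at hst
      obtain ⟨hj, hst⟩ := hst
      refine ⟨a, ha, cs.getD (nxt a i - DL.length) [] :: Ω', ?_, fun s hs => ?_⟩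
      · intro J' hJ'
        rcases List.mem_cons.mp hJ' with rfl | h
        · rw [List.getD_eq_getElem _ _ hj]
          exact List.getElem_mem _
        · exact hΩ'k J' h
      · rw [List.flatten_cons, reflW_append, e s hs, hst _ (R.reflW_lt _ hwl s hs), List.flatten_cons,
          reflW_append]

omit hhead hstep in
/-- Uniqueness of the decomposition into a representative and an element of the parabolic subgroup. -/
theorem MonoHyp.rep_uniqueC (a a' : ℕ) (ha : a < DL.length) (ha' : a' < DL.length)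
    (w w' : List ℕ) (hw : ∀ i ∈ w, i ∈ cs.flatten) (hw' : ∀ i ∈ w', i ∈ cs.flatten)
    (h : ∀ s : Fin C.D.nroots, wperm C.D R.refl (DL.getD a []).flatten (wperm C.D R.refl w s) =
      wperm C.D R.refl (DL.getD a' []).flatten (wperm C.D R.refl w' s)) :
    a = a' ∧ wperm C.D R.refl w = wperm C.D R.refl w' := by
  classical
  have hL : ∀ j ∈ cs.flatten, j < C.D.rank := by
    intro j hj
    obtain ⟨J', hJ', hjJ⟩ := List.mem_flatten.mp hj
    exact hcs' J' (List.mem_cons_of_mem _ hJ') j hjJ
  have hwl : ∀ i ∈ w, i < C.D.rank := fun i hi => hL i (hw i hi)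
  have hwl' : ∀ i ∈ w', i < C.D.rank := fun i hi => hL i (hw' i hi)
  have hdl := rep_lettersC cs.flatten (J :: cs) hcs' DL hrep a ha
  have hdl' := rep_lettersC cs.flatten (J :: cs) hcs' DL hrep a' ha'
  set u := w' ++ w.reverse with hu
  set u' := w ++ w'.reverse with hu'
  have huk : ∀ i ∈ u, i ∈ cs.flatten := by
    intro i hi
    rcases List.mem_append.mp hi with h1 | h1
    · exact hw' i h1
    · exact hw i (List.mem_reverse.mp h1)
  have huk' : ∀ i ∈ u', i ∈ cs.flatten := by
    intro i hi
    rcases List.mem_append.mp hi with h1 | h1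
    · exact hw i h1
    · exact hw' i (List.mem_reverse.mp h1)
  have hul : ∀ i ∈ u, i < C.D.rank := fun i hi => hL i (huk i hi)
  have hul' : ∀ i ∈ u', i < C.D.rank := fun i hi => hL i (huk' i hi)
  have hrl : ∀ i ∈ w.reverse, i < C.D.rank := fun i hi => hwl i (List.mem_reverse.mp hi)
  have hrl' : ∀ i ∈ w'.reverse, i < C.D.rank := fun i hi => hwl' i (List.mem_reverse.mp hi)
  have e1 : wperm C.D R.refl (DL.getD a []).flatten =
      fun s => wperm C.D R.refl (DL.getD a' []).flatten (wperm C.D R.refl u s) := by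
    funext s
    rw [hu, M.wperm_append _ _ hwl' hrl, ← h, M.wperm_reverse' w hwl]
  have e2 : wperm C.D R.refl (DL.getD a' []).flatten =
      fun s => wperm C.D R.refl (DL.getD a []).flatten (wperm C.D R.refl u' s) := by
    funext s
    rw [hu', M.wperm_append _ _ hwl hrl', h, M.wperm_reverse' w' hwl']
  have n1 := M.Nf_compC hsign cs.flatten hL hsupp (J :: cs) hcs' DL hrep a' ha' u huk
  have n2 := M.Nf_compC hsign cs.flatten hL hsupp (J :: cs) hcs' DL hrep a ha u' huk'
  rw [← e1] at n1
  rw [← e2] at n2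
  have hzero : Nf C.D (wperm C.D R.refl u) = 0 := by omega
  have hpos : ∀ s, C.D.IsPosRoot s → C.D.IsPosRoot (reflW R.refl u s) := by
    intro s hs
    unfold Nf at hzero
    rw [Finset.card_eq_zero, Finset.filter_eq_empty_iff] at hzero
    have := hzero (Finset.mem_univ ⟨s, hs.1⟩)
    rw [not_and, R.wperm_val u hul, neg_iff_not_pos hsign _ (R.reflW_lt u hul s hs.1), not_not] at this
    exact this hs
  have hfix := M.reflW_eq_self_of_pos hdec hsign _ u rfl hul hpos
  have hid : ∀ s, wperm C.D R.refl u s = s := by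
    intro s
    apply Fin.ext
    rw [R.wperm_val u hul]
    exact hfix s.val s.isLt
  have hperm : wperm C.D R.refl (DL.getD a []).flatten = wperm C.D R.refl (DL.getD a' []).flatten := by
    rw [e1]
    funext s
    rw [hid]
  constructor
  · simp only [distinctCheckC, decide_eq_true_eq] at hdist
    have h3 : (List.range C.D.nroots).map (reflW R.refl (DL.getD a []).flatten) =
        (List.range C.D.nroots).map (reflW R.refl (DL.getD a' []).flatten) := by
      apply List.map_congr_left
      intro s hs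
      rw [List.mem_range] at hs
      exact (R.wperm_eq_iff _ _ hdl hdl').mp hperm s hs
    have hlen : (DL.map fun d => (List.range C.D.nroots).map (reflW R.refl d.flatten)).length = DL.length :=
      List.length_map _
    have := (List.Nodup.getElem_inj_iff hdist (i := a) (hi := by rw [hlen]; exact ha) (j := a')
      (hj := by rw [hlen]; exact ha')).mp (by
        rw [List.getElem_map, List.getElem_map]
        rw [List.getD_eq_getElem _ _ ha, List.getD_eq_getElem _ _ ha'] at h3
        exact h3)
    exact this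
  · funext s
    have := hid (wperm C.D R.refl w s)
    rw [hu, M.wperm_append _ _ hwl' hrl, M.wperm_reverse w hwl] at this
    exact this.symm

/-- The Poincaré sum of the classes `J :: cs` in terms of that of the classes `cs`. -/
theorem MonoHyp.poin_stepC (q : ℕ) :
    poinC C.D R.refl (J :: cs) q =
      (DL.map fun d => q ^ Nw C.D R.refl d.flatten).sum * poinC C.D R.refl cs q := by
  classical
  have hcs : ∀ J' ∈ cs, ∀ j ∈ J', j < C.D.rank := fun J' hJ' => hcs' J' (List.mem_cons_of_mem _ hJ')
  have hL : ∀ j ∈ cs.flatten, j < C.D.rank := by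
    intro j hj
    obtain ⟨J', hJ', hjJ⟩ := List.mem_flatten.mp hj
    exact hcs J' hJ' j hjJ
  have hflat : ∀ Ω : List (List ℕ), (∀ J' ∈ Ω, J' ∈ cs) → ∀ i ∈ Ω.flatten, i ∈ cs.flatten := by
    intro Ω hΩ i hi
    obtain ⟨J', hJ', hiJ⟩ := List.mem_flatten.mp hi
    exact List.mem_flatten.mpr ⟨J', hΩ J' hJ', hiJ⟩
  unfold poinC
  set WJ' := Finset.univ.filter (fun f => f ∈ WsetC C.D R.refl cs) with hWJ'
  let e' : Fin DL.length × (Fin C.D.nroots → Fin C.D.nroots) → (Fin C.D.nroots → Fin C.D.nroots) :=
    fun x => fun s => wperm C.D R.refl (DL.getD x.1.val []).flatten (x.2 s)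
  have hA : Finset.univ.filter (fun f => f ∈ WsetC C.D R.refl (J :: cs)) =
      (Finset.univ ×ˢ WJ').image e' := by
    ext f
    simp only [Finset.mem_filter, Finset.mem_univ, true_and, Finset.mem_image, Finset.mem_product, hWJ']
    constructor
    · rintro ⟨Ω, hΩ, rfl⟩
      have hwl : ∀ i ∈ Ω.flatten, i < C.D.rank := by
        intro i hi
        obtain ⟨J', hJ', hiJ⟩ := List.mem_flatten.mp hi
        exact hcs' J' (hΩ J' hJ') i hiJ
      obtain ⟨a, ha, Ω', hΩ', e⟩ := M.exists_repC cs J hcs' DL hrep nxt hhead hstep Ω hΩ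
      have hwl' : ∀ i ∈ Ω'.flatten, i < C.D.rank := fun i hi => hL i (hflat Ω' hΩ' i hi)
      refine ⟨(⟨a, ha⟩, wperm C.D R.refl Ω'.flatten), ⟨Ω', hΩ', rfl⟩, ?_⟩
      funext s
      apply Fin.ext
      show (wperm C.D R.refl (DL.getD a []).flatten (wperm C.D R.refl Ω'.flatten s)).val = _
      rw [R.wperm_val _ (rep_lettersC cs.flatten (J :: cs) hcs' DL hrep a ha), R.wperm_val _ hwl',
        R.wperm_val _ hwl, e s.val s.isLt]
    · rintro ⟨⟨a, v⟩, ⟨Ω', hΩ', rfl⟩, rfl⟩
      have hwl' : ∀ i ∈ Ω'.flatten, i < C.D.rank := fun i hi => hL i (hflat Ω' hΩ' i hi)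
      have hdl := rep_lettersC cs.flatten (J :: cs) hcs' DL hrep a.val a.isLt
      refine ⟨DL.getD a.val [] ++ Ω', ?_, ?_⟩
      · intro J' hJ'
        rcases List.mem_append.mp hJ' with h | h
        · exact rep_classesC cs.flatten (J :: cs) hcs' DL hrep a.val a.isLt J' h
        · exact List.mem_cons_of_mem _ (hΩ' J' h)
      · funext s
        show wperm C.D R.refl (DL.getD a.val []).flatten (wperm C.D R.refl Ω'.flatten s) = _
        rw [List.flatten_append, M.wperm_append _ _ hdl hwl']
  have hB : Set.InjOn e' (((Finset.univ : Finset (Fin DL.length)) ×ˢ WJ' :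
      Finset (Fin DL.length × (Fin C.D.nroots → Fin C.D.nroots))) :
      Set (Fin DL.length × (Fin C.D.nroots → Fin C.D.nroots))) := by
    rintro ⟨a, v⟩ hx ⟨a', v'⟩ hx' h
    simp only [Finset.coe_product, Set.mem_prod, Finset.mem_coe, hWJ', Finset.mem_filter, Finset.mem_univ,
      true_and] at hx hx'
    obtain ⟨Ω, hΩ, rfl⟩ := hx
    obtain ⟨Ω', hΩ', rfl⟩ := hx'
    obtain ⟨h1, h2⟩ := M.rep_uniqueC hdec hsign cs J hcs' hsupp DL hrep hdist a.val a'.val a.isLt a'.isLt
      Ω.flatten Ω'.flatten (hflat Ω hΩ) (hflat Ω' hΩ') (fun s => congrFun h s)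
    have : a = a' := Fin.ext h1
    rw [this, h2]
  rw [hA, Finset.sum_image hB, Finset.sum_product]
  have hterm : ∀ a : Fin DL.length, ∀ v ∈ WJ', q ^ Nf C.D (e' (a, v)) =
      q ^ Nw C.D R.refl (DL.getD a.val []).flatten * q ^ Nf C.D v := by
    intro a v hv
    simp only [hWJ', Finset.mem_filter, Finset.mem_univ, true_and] at hv
    obtain ⟨Ω, hΩ, rfl⟩ := hv
    show q ^ Nf C.D (fun s => wperm C.D R.refl (DL.getD a.val []).flatten (wperm C.D R.refl Ω.flatten s)) = _
    rw [M.Nf_compC hsign cs.flatten hL hsupp (J :: cs) hcs' DL hrep a.val a.isLt Ω.flatten (hflat Ω hΩ), pow_add,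
      R.Nf_wperm _ (rep_lettersC cs.flatten (J :: cs) hcs' DL hrep a.val a.isLt)]
    rfl
  rw [Finset.sum_congr rfl (fun a _ => Finset.sum_congr rfl (hterm a))]
  simp only [← Finset.mul_sum]
  rw [← Finset.sum_mul, list_map_sum_eq_fin DL _ []]

end

/-- The Poincaré sum of the empty list of classes. -/
theorem poinC_nil (D : ChevalleyDatum) (refl : ℕ → ℕ → ℕ) (hsign : ∀ r < D.nroots, signCheck D r = true) (q : ℕ) :
    poinC D refl [] q = 1 := by
  classical
  unfold poinC
  have h : Finset.univ.filter (fun f => f ∈ WsetC D refl []) = {wperm D refl []} := by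
    ext f
    simp only [Finset.mem_filter, Finset.mem_univ, true_and, Finset.mem_singleton, WsetC, Set.mem_setOf_eq]
    constructor
    · rintro ⟨Ω, hΩ, rfl⟩
      have : Ω = [] := by
        rcases Ω with _ | ⟨J, Ω⟩
        · rfl
        · exact absurd (hΩ J List.mem_cons_self) List.not_mem_nil
      rw [this]
      rfl
    · rintro rfl
      exact ⟨[], fun J hJ => absurd hJ List.not_mem_nil, rfl⟩
  rw [h, Finset.sum_singleton]
  have : Nf D (wperm D refl []) = 0 := by
    unfold Nf
    rw [Finset.card_eq_zero, Finset.filter_eq_empty_iff]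
    rintro s - ⟨hp, hn⟩
    have : (wperm D refl [] s) = s := by
      unfold wperm
      simp [reflW]
    rw [this] at hn
    obtain ⟨s1, s2, -⟩ := signCheck_spec (hsign _ s.isLt)
    exact (s1.mp hp) (s2.mp hn)
  rw [this, pow_zero]

/-- The Poincaré sum depends only on the set of classes. -/
theorem poinC_congr (D : ChevalleyDatum) (refl : ℕ → ℕ → ℕ) (cs cs' : List (List ℕ))
    (h : ∀ J, J ∈ cs ↔ J ∈ cs') (q : ℕ) : poinC D refl cs q = poinC D refl cs' q := by
  classical
  unfold poinC
  have : WsetC D refl cs = WsetC D refl cs' := by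
    ext f
    simp only [WsetC, Set.mem_setOf_eq]
    constructor
    · rintro ⟨Ω, hΩ, rfl⟩
      exact ⟨Ω, fun J hJ => (h J).mp (hΩ J hJ), rfl⟩
    · rintro ⟨Ω, hΩ, rfl⟩
      exact ⟨Ω, fun J hJ => (h J).mpr (hΩ J hJ), rfl⟩
  rw [this]

end Cfsg.Agent.Lib.Helper3.ChevM
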