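import Mathlib
import Cfsg.Prelude.Def_ChevStructure
import Cfsg.Agent.Lib.Helper3.ChevTw22
import Cfsg.Agent.Lib.Helper3.Cox3
set_option autoImplicit false
open Cfsg Cfsg.Lie

/-! The Weyl group of a twisted group as a Coxeter group, by counting. -/

namespace Cfsg.Agent.Lib.Helper3.ChevM

open ChevU ChevT Cox

section
variable {F : Type*} [Field F] {C : CDatum} {R : RelData C} (M : MonoHyp C R)

/-- The image of the product of a word under a homomorphism with prescribed values on the generators. -/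
theorem MonoHyp.weylHom_nWordU (φ : ↥(C.D.monomialSubgroup F) →* M.weyl)
    (h3 : ∀ (i : Fin C.D.rank) (g : ↥(C.D.monomialSubgroup F)),
        ((g : GL C.D.Idx F) : Matrix C.D.Idx C.D.Idx F) = C.D.nMat F (C.D.simple i.val) 1 → φ g = M.sW i)
    (ω : List (Fin C.D.rank)) :
    φ ⟨R.nWordU (lw ω), R.nWordU_mem _ (lw_lt ω)⟩ = Cox.wp M.sW ω := by
  induction ω with
  | nil =>
    have : (⟨R.nWordU (F := F) (lw ([] : List (Fin C.D.rank))), R.nWordU_mem _ (lw_lt [])⟩ :
        ↥(C.D.monomialSubgroup F)) = 1 := Subtype.ext rfl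
    rw [this, map_one]
    rfl
  | cons i ω ih =>
    have hi : R.nU (C.D.simple i.val) (1 : F) ∈ C.D.monomialSubgroup F := by
      have := R.nWordU_mem (F := F) [i.val] (by intro j hj; rw [List.mem_singleton.mp hj]; exact i.isLt)
      rwa [R.nWordU_cons, R.nWordU_nil, mul_one] at this
    have e : (⟨R.nWordU (F := F) (lw (i :: ω)), R.nWordU_mem _ (lw_lt (i :: ω))⟩ : ↥(C.D.monomialSubgroup F)) =
        ⟨R.nU (C.D.simple i.val) 1, hi⟩ * ⟨R.nWordU (lw ω), R.nWordU_mem _ (lw_lt ω)⟩ := by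
      apply Subtype.ext
      show R.nWordU (i.val :: lw ω) = _
      rw [R.nWordU_cons]
      rfl
    rw [e, map_mul, ih, Cox.wp_cons, h3 i ⟨_, hi⟩ (R.nU_val _ _)]

end

section
variable {K : Type*} [Field K] [Fintype K] {C : CDatum} {R : RelData C} (H : TwHyp2 C R) (φ : K →+* K)

/-- The homomorphism from `N ∩ G¹` onto the Coxeter group of the class reflections, with kernel `H ∩ G¹`. -/
theorem TwHyp2.exists_weylHom_tw {n : ℕ} (X : CoxeterMatrix (Fin n)) (cs : Fin n → List (Fin C.D.rank))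
    (hcs : ∀ k, lw (cs k) ∈ H.cls) (hcs' : ∀ J ∈ H.cls, ∃ k, lw (cs k) = J)
    (hX : ∀ i j : Fin n, wordOrdCheck C.D R.refl (lw (cs i ++ cs j)) (X i j) = true)
    (hcard : Nat.card X.Group = poinC C.D R.refl H.cls 1) :
    ∃ f : ↥(C.D.monomialSubgroup K ⊓ H.grp φ) →* X.Group, Function.Surjective f ∧
      f.ker = (C.D.diagonalSubgroup K ⊓ H.grp φ).subgroupOf (C.D.monomialSubgroup K ⊓ H.grp φ) := by
  classical
  have M := H.B.mono
  obtain ⟨φ₀, -, hker₀, h3⟩ := M.exists_weylHom (F := K) H.B.dec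
  have hφ₀ := M.weylHom_nWordU (F := K) φ₀ h3
  -- the class reflections
  let c : Fin n → M.weyl := fun k => Cox.wp M.sW (cs k)
  have hlift : X.IsLiftable c := by
    intro i j
    have h1 : c i * c j = Cox.wp M.sW (cs i ++ cs j) := (Cox.wp_append _ _ _).symm
    rw [h1, ← M.orderOf_wp _ _ (hX i j)]
    exact pow_orderOf_eq_one _
  let ψ : X.Group →* M.weyl := X.toCoxeterSystem.lift ⟨c, hlift⟩
  have hψs : ∀ k, ψ (X.simple k) = c k := by
    intro k
    have := X.toCoxeterSystem.lift_apply_simple (f := c) hlift k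
    rwa [CoxeterMatrix.toCoxeterSystem_simple] at this
  -- words of classes
  let Ωof : List (Fin n) → List (List ℕ) := fun ks => ks.map fun k => lw (cs k)
  let ωof : List (Fin n) → List (Fin C.D.rank) := fun ks => (ks.map cs).flatten
  have hΩof : ∀ ks, ∀ J ∈ Ωof ks, J ∈ H.cls := by
    intro ks J hJ
    obtain ⟨k, -, rfl⟩ := List.mem_map.mp hJ
    exact hcs k
  have hlw : ∀ ks, lw (ωof ks) = (Ωof ks).flatten := by
    intro ks
    induction ks with
    | nil => rfl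
    | cons k ks ih =>
      show lw (cs k ++ ωof ks) = lw (cs k) ++ (Ωof ks).flatten
      rw [lw_append, ih]
  have hψw : ∀ ks, ψ (X.toCoxeterSystem.wordProd ks) = Cox.wp M.sW (ωof ks) := by
    intro ks
    induction ks with
    | nil => simp [ωof, Cox.wp]
    | cons k ks ih =>
      rw [CoxeterSystem.wordProd_cons, map_mul, ih, CoxeterMatrix.toCoxeterSystem_simple, hψs]
      show Cox.wp M.sW (cs k) * _ = Cox.wp M.sW (cs k ++ ωof ks)
      rw [Cox.wp_append]
  have hexΩ : ∀ Ω : List (List ℕ), (∀ J ∈ Ω, J ∈ H.cls) → ∃ ks, Ωof ks = Ω := by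
    intro Ω
    induction Ω with
    | nil => intro _; exact ⟨[], rfl⟩
    | cons J Ω ih =>
      intro hΩ
      obtain ⟨ks, hks⟩ := ih (fun J' hJ' => hΩ J' (List.mem_cons_of_mem _ hJ'))
      obtain ⟨k, hk⟩ := hcs' J (hΩ J List.mem_cons_self)
      refine ⟨k :: ks, ?_⟩
      show lw (cs k) :: Ωof ks = J :: Ω
      rw [hk, hks]
  -- the restriction of the homomorphism
  let φ₁ : ↥(C.D.monomialSubgroup K ⊓ H.grp φ) →* M.weyl :=
    φ₀.comp (Subgroup.inclusion inf_le_left)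
  have hnCls : ∀ ks, R.nCls K (Ωof ks) = R.nWordU (lw (ωof ks)) := by
    intro ks
    show R.nWordU (Ωof ks).flatten = _
    rw [hlw]
  have hmemN : ∀ ks, R.nWordU (F := K) (lw (ωof ks)) ∈ C.D.monomialSubgroup K ⊓ H.grp φ := by
    intro ks
    rw [← hnCls]
    exact ⟨H.toTwHyp.nCls_mem_monomial _ (hΩof ks), H.toTwHyp.nCls_mem φ _ (hΩof ks)⟩
  have hφ₁w : ∀ ks, φ₁ ⟨R.nWordU (lw (ωof ks)), hmemN ks⟩ = Cox.wp M.sW (ωof ks) := fun ks => hφ₀ (ωof ks)
  have hφ₁H : ∀ x : ↥(C.D.monomialSubgroup K ⊓ H.grp φ), φ₁ x = 1 ↔ x.1 ∈ C.D.diagonalSubgroup K := by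
    intro x
    show φ₀ (Subgroup.inclusion inf_le_left x) = 1 ↔ _
    rw [← MonoidHom.mem_ker, hker₀, Subgroup.mem_subgroupOf]
    rfl
  -- (a) the image of the restriction lies in the range of `ψ`
  have hA : ∀ x, φ₁ x ∈ ψ.range := by
    intro x
    obtain ⟨Ω, hΩ, h, hh, e⟩ := H.monomial_decomp φ x.1 x.2
    obtain ⟨ks, rfl⟩ := hexΩ Ω hΩ
    have hhN : h ∈ C.D.monomialSubgroup K ⊓ H.grp φ := ⟨(le_sup_left : C.D.diagonalSubgroup K ≤ _) hh.1, hh.2⟩
    have ex : x = ⟨R.nWordU (lw (ωof ks)), hmemN ks⟩ * ⟨h, hhN⟩ := by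
      apply Subtype.ext
      show x.1 = R.nWordU (lw (ωof ks)) * h
      rw [e, hnCls]
    rw [ex, map_mul, hφ₁w, (hφ₁H ⟨h, hhN⟩).mpr hh.1, mul_one, ← hψw]
    exact ⟨_, rfl⟩
  -- (b) the range of `ψ` lies in the image of the restriction
  have hB : ∀ y, ∃ x, φ₁ x = ψ y := by
    intro y
    obtain ⟨ks, rfl⟩ := X.toCoxeterSystem.wordProd_surjective y
    exact ⟨⟨_, hmemN ks⟩, by rw [hφ₁w, hψw]⟩
  -- counting
  let WC := {f : Fin C.D.nroots → Fin C.D.nroots // f ∈ WsetC C.D R.refl H.cls}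
  have hcardW : poinC C.D R.refl H.cls 1 = Nat.card WC := by
    unfold poinC
    simp only [one_pow, Finset.sum_const, smul_eq_mul, mul_one]
    rw [← Fintype.card_subtype, ← Nat.card_eq_fintype_card]
  let g : ψ.range → WC := fun w => ⟨⇑w.1.val, by
    obtain ⟨y, hy⟩ := w.2
    obtain ⟨ks, rfl⟩ := X.toCoxeterSystem.wordProd_surjective y
    refine ⟨Ωof ks, hΩof ks, ?_⟩
    funext s
    rw [← hy, hψw, M.coe_wp_sW, M.wp_sigma, hlw]⟩
  have hgsurj : Function.Surjective g := by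
    rintro ⟨f, Ω, hΩ, rfl⟩
    obtain ⟨ks, rfl⟩ := hexΩ Ω hΩ
    refine ⟨⟨ψ (X.toCoxeterSystem.wordProd ks), ⟨_, rfl⟩⟩, ?_⟩
    apply Subtype.ext
    funext s
    show (ψ (X.toCoxeterSystem.wordProd ks)).val s = _
    rw [hψw, M.coe_wp_sW, M.wp_sigma, hlw]
  have hfinX : Finite X.Group := by
    apply Nat.finite_of_card_ne_zero
    rw [hcard, hcardW]
    have : Nonempty WC := ⟨⟨wperm C.D R.refl [], [], fun J hJ => absurd hJ List.not_mem_nil, rfl⟩⟩
    exact Nat.card_pos.ne'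
  have hle : Nat.card X.Group ≤ Nat.card ψ.range := by
    rw [hcard, hcardW]
    exact Nat.card_le_card_of_surjective g hgsurj
  have hbij : Function.Bijective ψ.rangeRestrict :=
    (MonoidHom.rangeRestrict_surjective ψ).bijective_of_nat_card_le hle
  have hψinj : Function.Injective ψ := by
    intro a b hab
    apply hbij.1
    exact Subtype.ext hab
  let e : X.Group ≃* ψ.range := MonoidHom.ofInjective hψinj
  let f : ↥(C.D.monomialSubgroup K ⊓ H.grp φ) →* X.Group :=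
    e.symm.toMonoidHom.comp (φ₁.codRestrict ψ.range hA)
  refine ⟨f, ?_, ?_⟩
  · intro y
    obtain ⟨x, hx⟩ := hB y
    refine ⟨x, ?_⟩
    show e.symm (φ₁.codRestrict ψ.range hA x) = y
    rw [MulEquiv.symm_apply_eq]
    apply Subtype.ext
    show φ₁ x = ψ y
    exact hx
  · ext x
    rw [MonoidHom.mem_ker, Subgroup.mem_subgroupOf]
    show e.symm (φ₁.codRestrict ψ.range hA x) = 1 ↔ _
    rw [MulEquiv.map_eq_one_iff]
    constructor
    · intro h1
      have h2 : φ₁ x = 1 := congrArg Subtype.val h1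
      exact ⟨(hφ₁H x).mp h2, x.2.2⟩
    · intro h1
      apply Subtype.ext
      show φ₁ x = 1
      exact (hφ₁H x).mpr h1.1

end

end Cfsg.Agent.Lib.Helper3.ChevM
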