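import Mathlib
import Cfsg.Prelude.Def_ChevStructure
import Cfsg.Agent.Lib.Helper3.StB1
import Cfsg.Agent.Lib.Helper3.StU1
set_option autoImplicit false
set_option linter.unusedSectionVars false
open Cfsg Cfsg.Lie

/-! Brackets `a⁻¹ b⁻¹ a b`, and groups with symbols `X r t` satisfying the additivity and commutator relations of a
simply laced root system, the terms of the commutator formula being read off a compiled table. -/

namespace Cfsg.Agent.Lib.Helper3.StS

open StB StU
open scoped commutatorElement

section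
variable {G : Type*} [Group G]

/-- The bracket `a⁻¹ b⁻¹ a b`. -/
def br (a b : G) : G := a⁻¹ * b⁻¹ * a * b

theorem br_inv (a b : G) : (br a b)⁻¹ = br b a := by
  unfold br; group

theorem br_eq_comm (a b : G) : br a b = ⁅a⁻¹, b⁻¹⁆ := by
  unfold br; rw [commutatorElement_def]; group

theorem br_eq_one_of_commute {a b : G} (h : Commute a b) : br a b = 1 := by
  unfold br
  have e : a⁻¹ * b⁻¹ * a * b = a⁻¹ * b⁻¹ * (a * b) := by group
  rw [e, h.eq]; group

theorem commute_of_br_eq_one {a b : G} (h : br a b = 1) : Commute a b := by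
  unfold br at h
  have : a * b = b * a * (a⁻¹ * b⁻¹ * a * b) := by group
  rw [h, mul_one] at this
  exact this

theorem br_mul_left {a a' b : G} (h : Commute (br a b) a') : br (a * a') b = br a b * br a' b := by
  have e : br (a * a') b = a'⁻¹ * br a b * a' * br a' b := by unfold br; group
  rw [e]
  have e2 : a'⁻¹ * br a b * a' = br a b := by
    have := h.eq
    calc a'⁻¹ * br a b * a' = a'⁻¹ * (br a b * a') := by group
      _ = a'⁻¹ * (a' * br a b) := by rw [this]
      _ = br a b := by group
  rw [e2]

theorem br_mul_right {a b b' : G} (h : Commute (br a b) b') : br a (b * b') = br a b' * br a b := by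
  have e : br a (b * b') = br a b' * (b'⁻¹ * br a b * b') := by unfold br; group
  rw [e]
  have e2 : b'⁻¹ * br a b * b' = br a b := by
    have := h.eq
    calc b'⁻¹ * br a b * b' = b'⁻¹ * (br a b * b') := by group
      _ = b'⁻¹ * (b' * br a b) := by rw [this]
      _ = br a b := by group
  rw [e2]

theorem br_conj (w a b : G) : w * br a b * w⁻¹ = br (w * a * w⁻¹) (w * b * w⁻¹) := by
  unfold br; group

theorem br_one_left (b : G) : br 1 b = 1 := by unfold br; group

theorem br_one_right (a : G) : br a 1 = 1 := by unfold br; group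

/-- If `u` commutes with `w`, the brackets `[u,v]`, `[v,w]` commute, and `[u,[v,w]]` commutes with `[u,v]`, then
`[u,[v,w]] = [[u,v],w]`. -/
theorem br_br_eq {u v w : G} (h1 : Commute u w) (h2 : Commute (br u v) (br v w))
    (h3 : Commute (br u (br v w)) (br u v)) : br u (br v w) = br (br u v) w := by
  set q := br u v with hq
  set p := br v w with hp
  -- conjugating `u` by `v * w` in two ways
  have e1 : (v * w)⁻¹ * u * (v * w) = u * (q * br q w) := by
    have a1 : v⁻¹ * u * v = u * q := by rw [hq]; unfold br; group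
    have a2 : w⁻¹ * u * w = u := by
      calc w⁻¹ * u * w = w⁻¹ * (u * w) := by group
        _ = w⁻¹ * (w * u) := by rw [h1.eq]
        _ = u := by group
    have a3 : w⁻¹ * q * w = q * br q w := by unfold br; group
    calc (v * w)⁻¹ * u * (v * w) = w⁻¹ * (v⁻¹ * u * v) * w := by group
      _ = w⁻¹ * (u * q) * w := by rw [a1]
      _ = (w⁻¹ * u * w) * (w⁻¹ * q * w) := by group
      _ = u * (q * br q w) := by rw [a2, a3]
  have e2 : (v * w)⁻¹ * u * (v * w) = u * (br u p * q) := by
    have b0 : v * w = w * v * p := by rw [hp]; unfold br; group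
    have a1 : v⁻¹ * u * v = u * q := by rw [hq]; unfold br; group
    have a2 : w⁻¹ * u * w = u := by
      calc w⁻¹ * u * w = w⁻¹ * (u * w) := by group
        _ = w⁻¹ * (w * u) := by rw [h1.eq]
        _ = u := by group
    have a3 : p⁻¹ * u * p = u * br u p := by unfold br; group
    have a4 : p⁻¹ * q * p = q := by
      calc p⁻¹ * q * p = p⁻¹ * (q * p) := by group
        _ = p⁻¹ * (p * q) := by rw [h2.eq]
        _ = q := by group
    calc (v * w)⁻¹ * u * (v * w) = (w * v * p)⁻¹ * u * (w * v * p) := by rw [b0]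
      _ = p⁻¹ * (v⁻¹ * (w⁻¹ * u * w) * v) * p := by group
      _ = p⁻¹ * (v⁻¹ * u * v) * p := by rw [a2]
      _ = p⁻¹ * (u * q) * p := by rw [a1]
      _ = (p⁻¹ * u * p) * (p⁻¹ * q * p) := by group
      _ = u * (br u p * q) := by rw [a3, a4]; group
  have e3 : q * br q w = br u p * q := mul_left_cancel (e1.symm.trans e2)
  have e4 : br u p * q = q * br u p := h3.eq
  rw [e4] at e3
  exact (mul_left_cancel e3).symm

end

/-- A group with symbols `X r t` satisfying the additivity and commutator relations. -/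
structure Sys (D : ChevalleyDatum) (F : Type*) [Field F] (Δ : Type*) [Group Δ] where
  X : ℕ → F → Δ
  add : ∀ r (a b : F), X r (a + b) = X r a * X r b
  comm : ∀ r < D.nroots, ∀ s < D.nroots, s ≠ r → s ≠ D.neg r → ∀ t u : F,
    (X s u)⁻¹ * (X r t)⁻¹ * X s u * X r t = wordS X (D.commWord F r s t u)

/-- The compiled table agrees with the terms of the commutator formula, for the pair `(r, s)`. -/
def ctOK (D : ChevalleyDatum) (ct : ℕ → ℕ → ℕ × ℤ) (r s : ℕ) : Bool :=
  decide (D.commTerms r s = if (ct r s).1 < D.nroots then [((ct r s).1, (ct r s).2, 1, 1)] else [])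

/-- The root elements for `r` and `s` commute by the relations. -/
def cmB (D : ChevalleyDatum) (ct : ℕ → ℕ → ℕ × ℤ) (r s : ℕ) : Bool :=
  decide (r < D.nroots) && decide (s < D.nroots) &&
    (decide (s = r) || (decide (s ≠ D.neg r) && !decide ((ct r s).1 < D.nroots)))

/-- The sum of the roots `a` and `b` is a root, with structure constant `±1`. -/
def smB (D : ChevalleyDatum) (ct : ℕ → ℕ → ℕ × ℤ) (a b : ℕ) : Bool :=
  decide (a < D.nroots) && decide (b < D.nroots) && decide (b ≠ a) && decide (b ≠ D.neg a) &&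
    decide ((ct a b).1 < D.nroots) && (decide ((ct a b).2 = 1) || decide ((ct a b).2 = -1))

section
variable {D : ChevalleyDatum} {F : Type*} [Field F] {Δ : Type*} [Group Δ] (S : Sys D F Δ)
  {ct : ℕ → ℕ → ℕ × ℤ} (hct : ∀ r < D.nroots, ∀ s < D.nroots, ctOK D ct r s = true)

theorem Sys.X_zero (r : ℕ) : S.X r 0 = 1 := by
  have := S.add r 0 0
  rw [add_zero] at this
  exact (mul_eq_left.mp this.symm)

theorem Sys.X_neg (r : ℕ) (a : F) : S.X r (-a) = (S.X r a)⁻¹ := by
  have := S.add r (-a) a
  rw [neg_add_cancel, S.X_zero] at this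
  exact eq_inv_of_mul_eq_one_left this.symm

include hct in
theorem Sys.commute_of_cmB {r s : ℕ} (h : cmB D ct r s = true) (t u : F) : Commute (S.X r t) (S.X s u) := by
  simp only [cmB, Bool.and_eq_true, Bool.or_eq_true, decide_eq_true_eq, Bool.not_eq_true', decide_eq_false_iff_not] at h
  obtain ⟨⟨hr, hs⟩, h⟩ := h
  rcases h with rfl | ⟨hneg, hnone⟩
  · show S.X s t * S.X s u = S.X s u * S.X s t
    rw [← S.add, ← S.add, add_comm]
  · by_cases hsr : s = r
    · subst hsr
      show S.X s t * S.X s u = S.X s u * S.X s t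
      rw [← S.add, ← S.add, add_comm]
    · have hc := S.comm r hr s hs hsr hneg t u
      have h1 := hct r hr s hs
      simp only [ctOK, decide_eq_true_eq] at h1
      rw [if_neg hnone] at h1
      have h2 : D.commWord F r s t u = [] := by
        unfold ChevalleyDatum.commWord
        rw [h1]; rfl
      rw [h2, wordS_nil] at hc
      have : br (S.X s u) (S.X r t) = 1 := hc
      exact (commute_of_br_eq_one this).symm

include hct in
theorem Sys.br_of_smB {a b : ℕ} (h : smB D ct a b = true) (t u : F) :
    br (S.X b u) (S.X a t) = S.X (ct a b).1 (((ct a b).2 : F) * (-t) * u) := by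
  simp only [smB, Bool.and_eq_true, Bool.or_eq_true, decide_eq_true_eq] at h
  obtain ⟨⟨⟨⟨⟨ha, hb⟩, hba⟩, hneg⟩, hq⟩, -⟩ := h
  have hc := S.comm a ha b hb hba hneg t u
  have h1 := hct a ha b hb
  simp only [ctOK, decide_eq_true_eq] at h1
  rw [if_pos hq] at h1
  have h2 : D.commWord F a b t u = [((ct a b).1, ((ct a b).2 : F) * (-t) ^ 1 * u ^ 1)] := by
    unfold ChevalleyDatum.commWord
    rw [h1]; rfl
  rw [h2, wordS_cons, wordS_nil, mul_one, pow_one, pow_one] at hc
  exact hc

theorem smB_lt {a b : ℕ} (h : smB D ct a b = true) : a < D.nroots ∧ b < D.nroots ∧ (ct a b).1 < D.nroots := by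
  simp only [smB, Bool.and_eq_true, Bool.or_eq_true, decide_eq_true_eq] at h
  exact ⟨h.1.1.1.1.1, h.1.1.1.1.2, h.1.2⟩

theorem smB_sq {a b : ℕ} (h : smB D ct a b = true) : ((ct a b).2 : F) * ((ct a b).2 : F) = 1 := by
  simp only [smB, Bool.and_eq_true, Bool.or_eq_true, decide_eq_true_eq] at h
  rcases h.2 with h1 | h1 <;> rw [h1] <;> simp

theorem cmB_lt {r s : ℕ} (h : cmB D ct r s = true) : r < D.nroots ∧ s < D.nroots := by
  simp only [cmB, Bool.and_eq_true, decide_eq_true_eq] at h
  exact h.1

end

end Cfsg.Agent.Lib.Helper3.StS
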