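import Mathlib
import Cfsg.Agent.Lib.Helper3.StS1
set_option autoImplicit false
set_option linter.unusedSectionVars false
open Cfsg Cfsg.Lie

/-! Central extensions of a group with the relations of a simply laced root system: brackets of lifts of root
elements. -/

namespace Cfsg.Agent.Lib.Helper3.StS

open StB StU

/-- A central extension of a group with symbols satisfying the relations. -/
structure SExt {D : ChevalleyDatum} {F : Type*} [Field F] {Δ : Type*} [Group Δ] (S : Sys D F Δ)
    (E : Type*) [Group E] where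
  ψ : E →* Δ
  surj : Function.Surjective ψ
  central : ψ.ker ≤ Subgroup.center E

/-- Lemma A: witnesses `(a, b)` with `a + b = r` whose root elements commute with those of `s`. -/
def lemAOK (D : ChevalleyDatum) (ct : ℕ → ℕ → ℕ × ℤ) (wa : ℕ → ℕ → ℕ × ℕ) (r s : ℕ) : Bool :=
  !cmB D ct r s || (smB D ct (wa r s).1 (wa r s).2 && decide ((ct (wa r s).1 (wa r s).2).1 = r) &&
    cmB D ct (wa r s).1 s && cmB D ct (wa r s).2 s)

section
variable {D : ChevalleyDatum} {F : Type*} [Field F] {Δ : Type*} [Group Δ] {S : Sys D F Δ}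
  {E : Type*} [Group E] (T : SExt S E)
  {ct : ℕ → ℕ → ℕ × ℤ} (hct : ∀ r < D.nroots, ∀ s < D.nroots, ctOK D ct r s = true)
  {wa : ℕ → ℕ → ℕ × ℕ} (hA : ∀ r < D.nroots, ∀ s < D.nroots, lemAOK D ct wa r s = true)

/-- A chosen preimage. -/
noncomputable def SExt.lift (d : Δ) : E := Function.surjInv T.surj d

theorem SExt.psi_lift (d : Δ) : T.ψ (T.lift d) = d := Function.surjInv_eq T.surj d

/-- A chosen lift of a root element. -/
noncomputable def SExt.xl (r : ℕ) (t : F) : E := T.lift (S.X r t)

theorem SExt.psi_xl (r : ℕ) (t : F) : T.ψ (T.xl r t) = S.X r t := T.psi_lift _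

theorem SExt.br_congr {a a' b b' : E} (ha : T.ψ a = T.ψ a') (hb : T.ψ b = T.ψ b') : br a b = br a' b' := by
  rw [br_eq_comm, br_eq_comm]
  exact comm_congr T.ψ T.central (by rw [map_inv, map_inv, ha]) (by rw [map_inv, map_inv, hb])

theorem SExt.psi_br (a b : E) : T.ψ (br a b) = br (T.ψ a) (T.ψ b) := by
  unfold br
  rw [map_mul, map_mul, map_mul, map_inv, map_inv]

/-- An element commutes with the bracket of two elements with which it commutes modulo the kernel. -/
theorem SExt.commute_br {w y y' : E} (h1 : Commute (T.ψ w) (T.ψ y)) (h2 : Commute (T.ψ w) (T.ψ y')) :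
    Commute w (br y y') := by
  have e : w * br y y' * w⁻¹ = br y y' := by
    rw [br_conj]
    apply T.br_congr
    · rw [map_mul, map_mul, map_inv, h1.eq, mul_inv_cancel_right]
    · rw [map_mul, map_mul, map_inv, h2.eq, mul_inv_cancel_right]
  show w * br y y' = br y y' * w
  calc w * br y y' = w * br y y' * w⁻¹ * w := by group
    _ = br y y' * w := by rw [e]

theorem SExt.commute_of_psi_eq {w g e : E} (h : Commute w g) (he : T.ψ e = T.ψ g) : Commute w e := by
  have hz : g⁻¹ * e ∈ Subgroup.center E := T.central (by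
    rw [MonoidHom.mem_ker, map_mul, map_inv, he, inv_mul_cancel])
  have hz' := Subgroup.mem_center_iff.mp hz
  have e1 : e = g * (g⁻¹ * e) := by group
  show w * e = e * w
  rw [e1]
  calc w * (g * (g⁻¹ * e)) = (w * g) * (g⁻¹ * e) := by group
    _ = (g * w) * (g⁻¹ * e) := by rw [h.eq]
    _ = g * (w * (g⁻¹ * e)) := by group
    _ = g * ((g⁻¹ * e) * w) := by rw [hz' w]
    _ = g * (g⁻¹ * e) * w := by group

include hct hA in
/-- Lemma A: lifts of commuting root elements commute. -/
theorem SExt.lemmaA {r s : ℕ} (h : cmB D ct r s = true) {t u : F} {e₁ e₂ : E}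
    (h1 : T.ψ e₁ = S.X r t) (h2 : T.ψ e₂ = S.X s u) : Commute e₁ e₂ := by
  obtain ⟨hr, hs⟩ := cmB_lt h
  have hw := hA r hr s hs
  simp only [lemAOK, h, Bool.not_true, Bool.false_or, Bool.and_eq_true, decide_eq_true_eq] at hw
  obtain ⟨⟨⟨hsm, hsum⟩, hca⟩, hcb⟩ := hw
  set a := (wa r s).1 with ha
  set b := (wa r s).2 with hb
  set c : F := ((ct a b).2 : F) with hc
  set y := T.xl b 1 with hy
  set y' := T.xl a (-(c * t)) with hy'
  have hg : T.ψ (br y y') = S.X r t := by
    rw [T.psi_br, hy, hy', T.psi_xl, T.psi_xl, S.br_of_smB hct hsm, hsum]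
    congr 1
    have := smB_sq (F := F) hsm
    rw [← hc] at this
    calc c * - -(c * t) * 1 = (c * c) * t := by ring
      _ = t := by rw [this, one_mul]
  have hcomm : Commute e₂ (br y y') := by
    apply T.commute_br
    · rw [h2, hy, T.psi_xl]
      exact (S.commute_of_cmB hct hcb 1 u).symm
    · rw [h2, hy', T.psi_xl]
      exact (S.commute_of_cmB hct hca _ u).symm
  exact (T.commute_of_psi_eq hcomm (h1.trans hg.symm)).symm

end

end Cfsg.Agent.Lib.Helper3.StS
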