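import Mathlib
import Cfsg.Agent.Lib.Helper3.StS2
set_option autoImplicit false
set_option linter.unusedSectionVars false
open Cfsg Cfsg.Lie

/-! Central extensions of a group with the relations of a simply laced root system: the brackets of lifts of root
elements depend only on the product of the parameters and on the sum of the roots. -/

namespace Cfsg.Agent.Lib.Helper3.StS

open StB StU

/-- The decompositions `α + β` and `α' + β'` of a root are linked by the root `c`: `c + α' = α`, `β + c = β'`. -/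
def adjOK (D : ChevalleyDatum) (ct : ℕ → ℕ → ℕ × ℤ) (α β α' β' c : ℕ) : Bool :=
  smB D ct α β && smB D ct α' β' && decide ((ct α' β').1 = (ct α β).1) &&
  smB D ct α' c && decide ((ct α' c).1 = α) && smB D ct c β && decide ((ct c β).1 = β') &&
  cmB D ct β α' && cmB D ct β' α && cmB D ct (ct α β).1 β' &&
  decide ((ct α β).2 * (ct α' c).2 = (ct α' β').2 * (ct c β).2)

/-- The checks for the decomposition `α + β`. -/
def decOK (D : ChevalleyDatum) (ct : ℕ → ℕ → ℕ × ℤ) (nb : ℕ → ℕ → ℕ × ℕ × ℕ) (α β : ℕ) : Bool :=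
  !smB D ct α β ||
   (cmB D ct (ct α β).1 α && cmB D ct (ct α β).1 β &&
    smB D ct β α && decide ((ct β α).1 = (ct α β).1) && decide ((ct β α).2 = -(ct α β).2) &&
    adjOK D ct α β (nb α β).1 (nb α β).2.1 (nb α β).2.2)

/-- The decomposition `α + β` is the base decomposition, or leads to a decomposition nearer to it. -/
def hopOK (D : ChevalleyDatum) (ct : ℕ → ℕ → ℕ × ℤ) (nb : ℕ → ℕ → ℕ × ℕ × ℕ) (base : ℕ → ℕ × ℕ)
    (hs : ℕ → ℕ → Bool) (dist : ℕ → ℕ → ℕ) (α β : ℕ) : Bool :=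
  !smB D ct α β || (decide ((α, β) = base (ct α β).1) ||
     (if hs α β then decide (dist β α < dist α β) else decide (dist (nb α β).1 (nb α β).2.1 < dist α β)))

/-- The base decomposition of the root `r`. -/
def baseOK (D : ChevalleyDatum) (ct : ℕ → ℕ → ℕ × ℤ) (base : ℕ → ℕ × ℕ) (r : ℕ) : Bool :=
  smB D ct (base r).1 (base r).2 && decide ((ct (base r).1 (base r).2).1 = r)

/-- Two roots are equal, opposite, have no sum, or have a sum with structure constant `±1`. -/
def shapeOK (D : ChevalleyDatum) (ct : ℕ → ℕ → ℕ × ℤ) (r s : ℕ) : Bool :=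
  decide (s = r) || decide (s = D.neg r) || !decide ((ct r s).1 < D.nroots) || smB D ct r s

/-- The table checks for a simply laced root system of rank at least 5. -/
structure SLHyp (D : ChevalleyDatum) where
  ct : ℕ → ℕ → ℕ × ℤ
  wa : ℕ → ℕ → ℕ × ℕ
  nb : ℕ → ℕ → ℕ × ℕ × ℕ
  base : ℕ → ℕ × ℕ
  hs : ℕ → ℕ → Bool
  dist : ℕ → ℕ → ℕ
  hct : ∀ r < D.nroots, ∀ s < D.nroots, ctOK D ct r s = true
  hA : ∀ r < D.nroots, ∀ s < D.nroots, lemAOK D ct wa r s = true
  hdec : ∀ r < D.nroots, ∀ s < D.nroots, decOK D ct nb r s = true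
  hhop : ∀ r < D.nroots, ∀ s < D.nroots, hopOK D ct nb base hs dist r s = true
  hbase : ∀ r < D.nroots, baseOK D ct base r = true
  hshape : ∀ r < D.nroots, ∀ s < D.nroots, shapeOK D ct r s = true

section
variable {D : ChevalleyDatum} {F : Type*} [Field F] {Δ : Type*} [Group Δ] {S : Sys D F Δ}
  {E : Type*} [Group E] (T : SExt S E) (H : SLHyp D)

/-- The bracket of the chosen lifts of `x_b(u)` and `x_a(t)`. -/
noncomputable def SExt.M (a b : ℕ) (t u : F) : E := br (T.xl b u) (T.xl a t)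

theorem SExt.M_eq (a b : ℕ) {t u : F} {e₁ e₂ : E} (h1 : T.ψ e₁ = S.X b u) (h2 : T.ψ e₂ = S.X a t) :
    br e₁ e₂ = T.M a b t u :=
  T.br_congr (h1.trans (T.psi_xl b u).symm) (h2.trans (T.psi_xl a t).symm)

theorem SExt.psi_M {a b : ℕ} (h : smB D H.ct a b = true) (t u : F) :
    T.ψ (T.M a b t u) = S.X (H.ct a b).1 (((H.ct a b).2 : F) * (-t) * u) := by
  unfold SExt.M
  rw [T.psi_br, T.psi_xl, T.psi_xl, S.br_of_smB H.hct h]

theorem decOK_spec {a b : ℕ} (h : smB D H.ct a b = true) :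
    cmB D H.ct (H.ct a b).1 a = true ∧ cmB D H.ct (H.ct a b).1 b = true ∧ smB D H.ct b a = true ∧
      (H.ct b a).1 = (H.ct a b).1 ∧ (H.ct b a).2 = -(H.ct a b).2 ∧
      adjOK D H.ct a b (H.nb a b).1 (H.nb a b).2.1 (H.nb a b).2.2 = true := by
  obtain ⟨ha, hb, -⟩ := smB_lt h
  have := H.hdec a ha b hb
  simp only [decOK, h, Bool.not_true, Bool.false_or, Bool.and_eq_true, decide_eq_true_eq] at this
  obtain ⟨⟨⟨⟨⟨h1, h2⟩, h3⟩, h4⟩, h5⟩, h6⟩ := this
  exact ⟨h1, h2, h3, h4, h5, h6⟩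

theorem SExt.M_add_left {a b : ℕ} (h : smB D H.ct a b = true) (t t' u : F) :
    T.M a b (t + t') u = T.M a b t u * T.M a b t' u := by
  obtain ⟨h1, h2, -⟩ := decOK_spec H h
  have hc : Commute (br (T.xl b u) (T.xl a t)) (T.xl a t') :=
    T.lemmaA H.hct H.hA h1 (T.psi_M H h t u) (T.psi_xl a t')
  have hc2 : Commute (T.M a b t' u) (T.M a b t u) := by
    have hrr : cmB D H.ct (H.ct a b).1 (H.ct a b).1 = true := by
      obtain ⟨hr, -⟩ := cmB_lt h1
      simp [cmB, hr]
    exact T.lemmaA H.hct H.hA hrr (T.psi_M H h t' u) (T.psi_M H h t u)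
  have e : T.M a b (t + t') u = br (T.xl b u) (T.xl a t * T.xl a t') := by
    symm
    apply T.M_eq
    · exact T.psi_xl b u
    · rw [map_mul, T.psi_xl, T.psi_xl, S.add]
  rw [e, br_mul_right hc]
  exact hc2.eq

theorem SExt.M_add_right {a b : ℕ} (h : smB D H.ct a b = true) (t u u' : F) :
    T.M a b t (u + u') = T.M a b t u * T.M a b t u' := by
  obtain ⟨h1, h2, -⟩ := decOK_spec H h
  have hc : Commute (br (T.xl b u) (T.xl a t)) (T.xl b u') :=
    T.lemmaA H.hct H.hA h2 (T.psi_M H h t u) (T.psi_xl b u')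
  have e : T.M a b t (u + u') = br (T.xl b u * T.xl b u') (T.xl a t) := by
    symm
    apply T.M_eq
    · rw [map_mul, T.psi_xl, T.psi_xl, S.add]
    · exact T.psi_xl a t
  rw [e, br_mul_left hc]
  rfl

theorem SExt.M_zero_left {a b : ℕ} (h : smB D H.ct a b = true) (u : F) : T.M a b 0 u = 1 := by
  have := T.M_add_left H h 0 0 u
  rw [add_zero] at this
  exact (mul_eq_left.mp this.symm)

theorem SExt.M_zero_right {a b : ℕ} (h : smB D H.ct a b = true) (t : F) : T.M a b t 0 = 1 := by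
  have := T.M_add_right H h t 0 0
  rw [add_zero] at this
  exact (mul_eq_left.mp this.symm)

theorem SExt.M_neg_left {a b : ℕ} (h : smB D H.ct a b = true) (t u : F) : T.M a b (-t) u = (T.M a b t u)⁻¹ := by
  have := T.M_add_left H h (-t) t u
  rw [neg_add_cancel, T.M_zero_left H h] at this
  exact eq_inv_of_mul_eq_one_left this.symm

theorem SExt.M_neg_right {a b : ℕ} (h : smB D H.ct a b = true) (t u : F) : T.M a b t (-u) = (T.M a b t u)⁻¹ := by
  have := T.M_add_right H h t (-u) u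
  rw [neg_add_cancel, T.M_zero_right H h] at this
  exact eq_inv_of_mul_eq_one_left this.symm

/-- Moving a sign from one argument to the other. -/
theorem SExt.M_sign {a b : ℕ} (h : smB D H.ct a b = true) (ε : ℤ) (hε : ε = 1 ∨ ε = -1) (t u : F) :
    T.M a b ((ε : F) * t) u = T.M a b t ((ε : F) * u) := by
  rcases hε with rfl | rfl
  · simp
  · simp only [Int.reduceNeg, Int.cast_neg, Int.cast_one, neg_mul, one_mul]
    rw [T.M_neg_left H h, T.M_neg_right H h]

/-- The normalised bracket, lying over `x_{a+b}(t u)`. -/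
noncomputable def SExt.Mh (a b : ℕ) (t u : F) : E := T.M a b (-(((H.ct a b).2 : F) * t)) u

theorem SExt.psi_Mh {a b : ℕ} (h : smB D H.ct a b = true) (t u : F) :
    T.ψ (T.Mh H a b t u) = S.X (H.ct a b).1 (t * u) := by
  unfold SExt.Mh
  rw [T.psi_M H h]
  congr 1
  have := smB_sq (F := F) h
  calc ((H.ct a b).2 : F) * - -(((H.ct a b).2 : F) * t) * u
      = (((H.ct a b).2 : F) * ((H.ct a b).2 : F)) * t * u := by ring
    _ = t * u := by rw [this, one_mul]

theorem sgn_cases {a b : ℕ} (h : smB D H.ct a b = true) : (H.ct a b).2 = 1 ∨ (H.ct a b).2 = -1 := by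
  simp only [smB, Bool.and_eq_true, Bool.or_eq_true, decide_eq_true_eq] at h
  exact h.2

theorem SExt.M_eq_Mh {a b : ℕ} (h : smB D H.ct a b = true) (t u : F) :
    T.M a b t u = T.Mh H a b (-(((H.ct a b).2 : F) * t)) u := by
  unfold SExt.Mh
  congr 1
  have := smB_sq (F := F) h
  calc t = (((H.ct a b).2 : F) * ((H.ct a b).2 : F)) * t := by rw [this, one_mul]
    _ = -(((H.ct a b).2 : F) * -(((H.ct a b).2 : F) * t)) := by ring

theorem SExt.Mh_add_left {a b : ℕ} (h : smB D H.ct a b = true) (t t' u : F) :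
    T.Mh H a b (t + t') u = T.Mh H a b t u * T.Mh H a b t' u := by
  unfold SExt.Mh
  rw [← T.M_add_left H h]
  congr 1
  ring

theorem SExt.Mh_sign {a b : ℕ} (h : smB D H.ct a b = true) (ε : ℤ) (hε : ε = 1 ∨ ε = -1) (t u : F) :
    T.Mh H a b ((ε : F) * t) u = T.Mh H a b t ((ε : F) * u) := by
  unfold SExt.Mh
  rw [← T.M_sign H h ε hε]
  congr 1
  ring

/-- Exchanging the two roots. -/
theorem SExt.Mh_swap {a b : ℕ} (h : smB D H.ct a b = true) (t u : F) :
    T.Mh H b a u t = T.Mh H a b t u := by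
  obtain ⟨-, -, h3, h4, h5, -⟩ := decOK_spec H h
  have hε : -(H.ct a b).2 = 1 ∨ -(H.ct a b).2 = -1 := by
    rcases sgn_cases H h with h1 | h1 <;> rw [h1] <;> simp
  calc T.Mh H b a u t = T.M b a (-(((H.ct b a).2 : F) * u)) t := rfl
    _ = (T.M a b t (-(((H.ct b a).2 : F) * u)))⁻¹ := by unfold SExt.M; rw [br_inv]
    _ = T.M a b t (((H.ct b a).2 : F) * u) := by rw [T.M_neg_right H h, inv_inv]
    _ = T.M a b t (((-(H.ct a b).2 : ℤ) : F) * u) := by rw [h5]
    _ = T.M a b (((-(H.ct a b).2 : ℤ) : F) * t) u := (T.M_sign H h _ hε t u).symm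
    _ = T.M a b (-(((H.ct a b).2 : F) * t)) u := by
        congr 1
        push_cast; ring
    _ = T.Mh H a b t u := rfl

/-- The basic identity between the brackets for two linked decompositions of a root. -/
theorem SExt.M_adj {α β α' β' c : ℕ} (h : adjOK D H.ct α β α' β' c = true) (p s t : F) :
    T.M α β (((H.ct α' c).2 : F) * (-p) * s) t = T.M α' β' p (((H.ct c β).2 : F) * (-s) * t) := by
  simp only [adjOK, Bool.and_eq_true, decide_eq_true_eq] at h
  obtain ⟨⟨⟨⟨⟨⟨⟨⟨⟨⟨hd, hd'⟩, hr⟩, h1⟩, h1s⟩, h2⟩, h2s⟩, hcm1⟩, hcm2⟩, hcm3⟩, hsign⟩ := h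
  set u₀ := T.xl β t with hu₀
  set v := T.xl c s with hv
  set w := T.xl α' p with hw
  have e1 : T.ψ (br u₀ v) = S.X β' (((H.ct c β).2 : F) * (-s) * t) := by
    rw [T.psi_br, hu₀, hv, T.psi_xl, T.psi_xl, S.br_of_smB H.hct h2, h2s]
  have e2 : T.ψ (br v w) = S.X α (((H.ct α' c).2 : F) * (-p) * s) := by
    rw [T.psi_br, hv, hw, T.psi_xl, T.psi_xl, S.br_of_smB H.hct h1, h1s]
  have e3 : T.ψ (br u₀ (br v w)) =
      S.X (H.ct α β).1 (((H.ct α β).2 : F) * (-(((H.ct α' c).2 : F) * (-p) * s)) * t) := by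
    rw [T.psi_br, e2, hu₀, T.psi_xl, S.br_of_smB H.hct hd]
  have c1 : Commute u₀ w := T.lemmaA H.hct H.hA hcm1 (T.psi_xl β t) (T.psi_xl α' p)
  have c2 : Commute (br u₀ v) (br v w) := T.lemmaA H.hct H.hA hcm2 e1 e2
  have c3 : Commute (br u₀ (br v w)) (br u₀ v) := T.lemmaA H.hct H.hA hcm3 e3 e1
  have key := br_br_eq c1 c2 c3
  rw [T.M_eq α β (T.psi_xl β t) e2, T.M_eq α' β' e1 (T.psi_xl α' p)] at key
  exact key

/-- Linked decompositions of a root: moving a factor from one parameter to the other. -/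
theorem SExt.Mh_adj {α β α' β' c : ℕ} (h : adjOK D H.ct α β α' β' c = true) (p s t : F) :
    T.Mh H α β (p * s) t = T.Mh H α' β' p (s * t) := by
  have key := T.M_adj H h
  simp only [adjOK, Bool.and_eq_true, decide_eq_true_eq] at h
  obtain ⟨⟨⟨⟨⟨⟨⟨⟨⟨⟨hd, hd'⟩, hr⟩, h1⟩, h1s⟩, h2⟩, h2s⟩, hcm1⟩, hcm2⟩, hcm3⟩, hsign⟩ := h
  have hA2 := smB_sq (F := F) hd
  have hA'2 := smB_sq (F := F) hd'
  have hB'2 := smB_sq (F := F) h1
  have hB2 := smB_sq (F := F) h2
  have hsF : ((H.ct α β).2 : F) * ((H.ct α' c).2 : F) = ((H.ct α' β').2 : F) * ((H.ct c β).2 : F) := by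
    have := congrArg (fun z : ℤ => (z : F)) hsign
    simpa only [Int.cast_mul] using this
  set A : F := ((H.ct α β).2 : F) with hA
  set A' : F := ((H.ct α' β').2 : F) with hA'
  set B' : F := ((H.ct α' c).2 : F) with hB'
  set B : F := ((H.ct c β).2 : F) with hB
  have hε : -(H.ct c β).2 = 1 ∨ -(H.ct c β).2 = -1 := by
    rcases sgn_cases H h2 with h3 | h3 <;> rw [h3] <;> simp
  have k := key (A * B' * p) s t
  have l1 : B' * -(A * B' * p) * s = -(A * (p * s)) := by
    linear_combination (-(A * p * s)) * hB'2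
  rw [l1] at k
  have l2 : B * -s * t = ((-(H.ct c β).2 : ℤ) : F) * (s * t) := by
    push_cast; ring
  rw [l2, ← T.M_sign H hd' _ hε] at k
  have l3 : ((-(H.ct c β).2 : ℤ) : F) * (A * B' * p) = -(A' * p) := by
    push_cast
    rw [← hB]
    linear_combination (-(B * p)) * hsF + (-(A' * p)) * hB2
  rw [l3] at k
  exact k

/-- The brackets for a decomposition depend only on the product of the parameters. -/
theorem SExt.Mh_nb {a b : ℕ} (h : smB D H.ct a b = true) (t u : F) :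
    T.Mh H a b t u = T.Mh H (H.nb a b).1 (H.nb a b).2.1 t u := by
  obtain ⟨-, -, -, -, -, h6⟩ := decOK_spec H h
  have := T.Mh_adj H h6 t 1 u
  rwa [mul_one, one_mul] at this

theorem SExt.Mh_prod {a b : ℕ} (h : smB D H.ct a b = true) (t u : F) :
    T.Mh H a b t u = T.Mh H a b (t * u) 1 := by
  obtain ⟨-, -, -, -, -, h6⟩ := decOK_spec H h
  have e1 := T.Mh_adj H h6 t u 1
  rw [mul_one] at e1
  rw [e1, ← T.Mh_nb H h]

/-- The canonical lift of `x_r(x)`. -/
noncomputable def SExt.Lr (r : ℕ) (x : F) : E := T.Mh H (H.base r).1 (H.base r).2 x 1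

/-- All decompositions of a root give the same brackets. -/
theorem SExt.Mh_eq_Lr (k : ℕ) : ∀ a b : ℕ, smB D H.ct a b = true → H.dist a b = k → ∀ t u : F,
    T.Mh H a b t u = T.Lr H (H.ct a b).1 (t * u) := by
  induction k using Nat.strong_induction_on with
  | _ k ih =>
    intro a b h hk t u
    obtain ⟨ha, hb, -⟩ := smB_lt h
    have hh := H.hhop a ha b hb
    simp only [hopOK, h, Bool.not_true, Bool.false_or, Bool.or_eq_true, decide_eq_true_eq] at hh
    obtain ⟨-, -, h3, h4, h5, h6⟩ := decOK_spec H h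
    rcases hh with hbase | hh
    · rw [T.Mh_prod H h]
      unfold SExt.Lr
      rw [← hbase]
    · by_cases hsw : H.hs a b = true
      · rw [if_pos hsw, decide_eq_true_eq] at hh
        rw [← T.Mh_swap H h, ih _ (hk ▸ hh) b a h3 rfl u t, h4, mul_comm]
      · rw [if_neg hsw, decide_eq_true_eq] at hh
        have hd' : smB D H.ct (H.nb a b).1 (H.nb a b).2.1 = true := by
          simp only [adjOK, Bool.and_eq_true, decide_eq_true_eq] at h6
          exact h6.1.1.1.1.1.1.1.1.1.2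
        have hr' : (H.ct (H.nb a b).1 (H.nb a b).2.1).1 = (H.ct a b).1 := by
          simp only [adjOK, Bool.and_eq_true, decide_eq_true_eq] at h6
          exact h6.1.1.1.1.1.1.1.1.2
        rw [T.Mh_nb H h, ih _ (hk ▸ hh) _ _ hd' rfl t u, hr']

end

end Cfsg.Agent.Lib.Helper3.StS
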