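import Mathlib
import Cfsg.Prelude.Def_ChevStructure
import Cfsg.Agent.Lib.Helper3.ChevU4
set_option autoImplicit false
open Cfsg Cfsg.Lie

/-! A diagonal matrix lying in a Chevalley group lies in its diagonal subgroup. -/

namespace Cfsg.Agent.Lib.Helper3.ChevM

open ChevT ChevU

section
variable {F : Type*} [Field F] {C : CDatum} {R : RelData C}

/-- A product of the `n_{p_i}` which is upper triangular lies in `H`. -/
theorem MonoHyp.nWordU_mem_diagonal_of_tri (M : MonoHyp C R) :
    ∀ (k : ℕ) (l : List ℕ), l.length = k → (∀ i ∈ l, i < C.D.rank) →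
      R.nWordU (F := F) l ∈ triSubgroup (posIdx C.D) F → R.nWordU (F := F) l ∈ C.D.diagonalSubgroup F := by
  intro k
  induction k using Nat.strong_induction_on with
  | _ k ih =>
    intro l hk hl hB
    rcases List.eq_nil_or_concat l with rfl | ⟨l', i, hcat⟩
    · exact Subgroup.one_mem _
    rw [List.concat_eq_append] at hcat
    subst hcat
    have hi : i < C.D.rank := hl i (by simp)
    have hl' : ∀ j ∈ l', j < C.D.rank := fun j hj => hl j (by simp [hj])
    set p := C.D.simple i with hp
    have hpl : p < C.D.nroots := R.simple_lt i hi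
    have htri : Shift (posIdx C.D) 0 (nWordMat C.D F (l' ++ [i])) := by
      rw [← R.nWordU_val]
      exact hB
    have hfix := R.reflW_eq_self_of_tri M.inv (l' ++ [i]) hl htri
    have hreflneg : R.refl i (C.D.neg p) = p := by
      rw [R.refl_eq i hi _ (R.neg_lt p hpl)]
      simp only [ChevalleyDatum.reflectRoot, ← hp]
      split_ifs with h1 <;> simp_all
    have h1 : reflW R.refl l' p = C.D.neg p := by
      have h2 := hfix (C.D.neg p) (R.neg_lt p hpl)
      rw [reflW_append] at h2
      have h3 : reflW R.refl [i] (C.D.neg p) = p := hreflneg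
      rw [h3] at h2
      exact h2
    have hns := M.ns i hi
    simp only [negSimpleCheck, Bool.and_eq_true, Bool.not_eq_true', decide_eq_false_iff_not, decide_eq_true_eq] at hns
    obtain ⟨l1, j, l2, e, h2⟩ := exists_simple_of_walk C.D R.refl M.wp l' hl' p hns.2 (by rw [h1]; exact hns.1)
    subst e
    have hl1 : ∀ a ∈ l1, a < C.D.rank := fun a ha => hl' a (by simp [ha])
    have hl2 : ∀ a ∈ l2, a < C.D.rank := fun a ha => hl' a (by simp [ha])
    have hj : j < C.D.rank := hl' j (by simp)
    set W1 := R.nWordU (F := F) l1 with hW1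
    set W2 := R.nWordU (F := F) l2 with hW2
    set nj := R.nU (C.D.simple j) (1 : F) with hnj
    set ni := R.nU p (1 : F) with hni
    have hword : R.nWordU (F := F) ((l1 ++ j :: l2) ++ [i]) = W1 * (nj * W2) * ni := by
      rw [R.nWordU_append, R.nWordU_append, R.nWordU_cons, R.nWordU_cons, R.nWordU_nil, mul_one]
    have hrel := R.conjRel_word (F := F) l2 hl2
    have hnc := R.negCompat_word M.nr l2 hl2
    have hc := R.conj_nU hrel hnc W2 (R.nWordU_val l2) p hpl (1 : F)
    rw [h2, ← hni] at hc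
    set η : F := ((etaW R.refl R.eta l2 p : ℤ) : F) * 1 with hη
    have hη0 : η ≠ 0 := by
      rw [hη, mul_one]
      rcases hrel.sign p hpl with h | h <;> rw [h] <;> simp
    have hsj := R.simple_lt j hj
    have h0 : nj * R.nU (C.D.simple j) η ∈ C.D.diagonalSubgroup F := by
      rw [hnj, R.nU_mul_nU]
      exact Subgroup.mul_mem _ (R.hU_mem _ hsj _ one_ne_zero)
        (Subgroup.inv_mem _ (R.hU_mem _ hsj _ (neg_ne_zero.mpr hη0)))
    have hW1N : W1 ∈ C.D.monomialSubgroup F := R.nWordU_mem l1 hl1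
    have h1' := M.conj_mem W1 hW1N _ h0
    have e2 : W1 * (nj * W2) * ni = (W1 * (nj * R.nU (C.D.simple j) η) * W1⁻¹) * (W1 * W2) := by
      rw [← hc]; group
    have hshort : R.nWordU (F := F) (l1 ++ l2) ∈ triSubgroup (posIdx C.D) F := by
      have : R.nWordU (F := F) (l1 ++ l2) =
          (W1 * (nj * R.nU (C.D.simple j) η) * W1⁻¹)⁻¹ * R.nWordU (F := F) ((l1 ++ j :: l2) ++ [i]) := by
        rw [hword, e2, R.nWordU_append, ← hW1, ← hW2]; group
      rw [this]
      exact Subgroup.mul_mem _ (Subgroup.inv_mem _ (diagonalSubgroup_le_tri R h1')) hB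
    have hlen : (l1 ++ l2).length < k := by
      rw [← hk]; simp
    have := ih _ hlen (l1 ++ l2) rfl (fun a ha => by
      rcases List.mem_append.mp ha with h | h
      · exact hl1 a h
      · exact hl2 a h) hshort
    rw [hword, e2, ← R.nWordU_append]
    exact Subgroup.mul_mem _ h1' this

/-- An upper triangular element of `N` lies in `H`. -/
theorem MonoHyp.mem_diagonal_of_monomial_of_tri (M : MonoHyp C R) (g : GL C.D.Idx F)
    (hgN : g ∈ C.D.monomialSubgroup F) (hgT : g ∈ triSubgroup (posIdx C.D) F) : g ∈ C.D.diagonalSubgroup F := by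
  obtain ⟨h, hh, l, hl, rfl⟩ := M.monomial_decomp g hgN
  have hW : R.nWordU (F := F) l ∈ triSubgroup (posIdx C.D) F := by
    have : R.nWordU (F := F) l = h⁻¹ * (h * R.nWordU l) := by group
    rw [this]
    exact Subgroup.mul_mem _ (Subgroup.inv_mem _ (diagonalSubgroup_le_tri R hh)) hgT
  exact Subgroup.mul_mem _ hh (M.nWordU_mem_diagonal_of_tri _ l rfl hl hW)

variable (Uh : UHyp C R) (Hy : BNHyp C R)
include Uh Hy

/-- An upper triangular element of the group lies in `B`. -/
theorem UHyp.mem_borel_of_tri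
    (hntri : ∀ r < C.D.nroots, negTri C r = true)
    (hsign : ∀ r < C.D.nroots, C.D.IsPosRoot r ∨ C.D.IsNegRoot r)
    (g : GL C.D.Idx F) (hg : g ∈ C.D.group F) (hgT : g ∈ triSubgroup (posIdx C.D) F) :
    g ∈ C.D.borelSubgroup F := by
  obtain ⟨b, hb, n, hn, u, hu, rfl⟩ := (Uh.bruhat_normal_form (F := F) Hy hntri hsign).1 g hg
  have hbT := Hy.mono.borel_le_tri hb
  have huB : u ∈ C.D.borelSubgroup F := Subgroup.mem_sup_left (uMinus_le_posUnipotent C.D n hu)
  have huT := Hy.mono.borel_le_tri huB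
  have hnT : n ∈ triSubgroup (posIdx C.D) F := by
    have : n = b⁻¹ * (b * n * u) * u⁻¹ := by group
    rw [this]
    exact Subgroup.mul_mem _ (Subgroup.mul_mem _ (Subgroup.inv_mem _ hbT) hgT) (Subgroup.inv_mem _ huT)
  have hnH := Hy.mono.mem_diagonal_of_monomial_of_tri n hn hnT
  exact Subgroup.mul_mem _ (Subgroup.mul_mem _ hb (Subgroup.mem_sup_right hnH)) huB

/-- A diagonal matrix in the group lies in `H`. -/
theorem UHyp.mem_diagonal_of_diagonal
    (hntri : ∀ r < C.D.nroots, negTri C r = true)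
    (hsign : ∀ r < C.D.nroots, C.D.IsPosRoot r ∨ C.D.IsNegRoot r)
    (g : GL C.D.Idx F) (hg : g ∈ C.D.group F) (v : C.D.Idx → F)
    (hgv : (g : Matrix C.D.Idx C.D.Idx F) = Matrix.diagonal v) : g ∈ C.D.diagonalSubgroup F := by
  have hgT : g ∈ triSubgroup (posIdx C.D) F := by
    rw [mem_triSubgroup, hgv]
    exact shift_zero_diagonal _
  have hgB := Uh.mem_borel_of_tri Hy hntri hsign g hg hgT
  have hHU := (R.diagonal_normalizes (F := F) Hy.dec Hy.mono.tri).1
  have hBset := Subgroup.coe_mul_of_right_le_normalizer_left (C.D.posUnipotent F) (C.D.diagonalSubgroup F) hHU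
  have hgB' : g ∈ ((C.D.posUnipotent F ⊔ C.D.diagonalSubgroup F : Subgroup (GL C.D.Idx F)) : Set (GL C.D.Idx F)) := hgB
  rw [hBset, Set.mem_mul] at hgB'
  obtain ⟨u, hu, h, hh, rfl⟩ := hgB'
  -- u is diagonal and unitriangular
  obtain ⟨c, _, hh'⟩ := R.diagonalSubgroup_le_torus Hy.dec (Subgroup.inv_mem _ hh)
  have hu1 := posUnipotent_le_ut C Hy.mono.tri hu
  rw [mem_utSubgroup, zero_add] at hu1
  have hud : (u : Matrix C.D.Idx C.D.Idx F) = Matrix.diagonal v * Matrix.diagonal (R.torusExp c) := by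
    rw [← hgv, ← hh', ← Units.val_mul]
    congr 1
    group
  rw [Matrix.diagonal_mul_diagonal] at hud
  have hu_one : u = 1 := by
    apply Units.ext
    rw [Units.val_one]
    ext a b
    by_cases hab : a = b
    · subst hab
      have := hu1 a a (by omega)
      rw [Matrix.sub_apply, sub_eq_zero] at this
      exact this
    · rw [hud, Matrix.diagonal_apply_ne _ hab, Matrix.one_apply_ne hab]
  rw [hu_one, one_mul]
  exact hh

end

end Cfsg.Agent.Lib.Helper3.ChevM
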