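import Mathlib
set_option autoImplicit false

/-!
Two generators for the Chevalley groups, part 1: a subgroup of the additive group of a finite field which
contains a nonzero element and is stable under the multiplication by a generator of the multiplicative
group, or by its square, is the whole field.
-/

namespace Cfsg.Agent.Lib.Helper3.ChevGen2

section
variable {F : Type*} [Field F] [Finite F]

theorem exists_sq_sub_sq (y : F) : ∃ u v : F, y = u ^ 2 - v ^ 2 := by
  by_cases h2 : ringChar F = 2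
  · obtain ⟨u, hu⟩ := FiniteField.isSquare_of_char_two h2 y
    exact ⟨u, 0, by rw [hu]; ring⟩
  · have h2' : (2 : F) ≠ 0 := Ring.two_ne_zero h2
    refine ⟨(y + 1) / 2, (y - 1) / 2, ?_⟩
    field_simp
    ring

/-- The subgroup `S` is stable under the multiplication by all integral powers of `μ`. -/
theorem smul_zpow_mem (S : AddSubgroup F) (μ : Fˣ) (hμ : ∀ c ∈ S, (μ : F) * c ∈ S) (k : ℤ) :
    ∀ c ∈ S, ((μ ^ k : Fˣ) : F) * c ∈ S := by
  have hnat : ∀ (j : ℕ), ∀ c ∈ S, ((μ ^ j : Fˣ) : F) * c ∈ S := by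
    intro j
    induction j with
    | zero => intro c hc; simpa using hc
    | succ j ih =>
      intro c hc
      rw [pow_succ, Units.val_mul, mul_assoc]
      exact ih _ (hμ c hc)
  intro c hc
  have hk : μ ^ k = μ ^ (k % (orderOf μ : ℤ)).toNat := by
    have hpos : (0 : ℤ) < orderOf μ := by exact_mod_cast orderOf_pos μ
    have h1 : (0 : ℤ) ≤ k % (orderOf μ : ℤ) := Int.emod_nonneg _ hpos.ne'
    rw [← zpow_natCast, Int.toNat_of_nonneg h1, zpow_mod_orderOf]
  rw [hk]
  exact hnat _ c hc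

/-- A subgroup of the additive group of a finite field containing a nonzero element and stable under the
multiplication by `ζ ^ e`, with `ζ` a generator of the multiplicative group and `e ∈ {1, -1, 2, -2}`, is everything. -/
theorem addSubgroup_eq_top (S : AddSubgroup F) (ζ : Fˣ) (hζ : ∀ x : Fˣ, x ∈ Subgroup.zpowers ζ) (e : ℤ)
    (he : e = 1 ∨ e = -1 ∨ e = 2 ∨ e = -2) (hS : ∀ c ∈ S, ((ζ ^ e : Fˣ) : F) * c ∈ S)
    (c0 : F) (hc0 : c0 ≠ 0) (hc0S : c0 ∈ S) (x : F) : x ∈ S := by
  -- stability under the even powers of ζ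
  have h2 : ∀ k : ℤ, ∀ c ∈ S, ((ζ ^ (2 * k) : Fˣ) : F) * c ∈ S := by
    intro k c hc
    rcases he with rfl | rfl | rfl | rfl
    · have := smul_zpow_mem S (ζ ^ (1 : ℤ)) hS (2 * k) c hc
      rwa [← zpow_mul, one_mul] at this
    · have := smul_zpow_mem S (ζ ^ (-1 : ℤ)) hS (-(2 * k)) c hc
      rwa [← zpow_mul, neg_mul_neg, one_mul] at this
    · have := smul_zpow_mem S (ζ ^ (2 : ℤ)) hS k c hc
      rwa [← zpow_mul] at this
    · have := smul_zpow_mem S (ζ ^ (-2 : ℤ)) hS (-k) c hc
      rwa [← zpow_mul, neg_mul_neg] at this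
  have hsq : ∀ u : F, c0 * u ^ 2 ∈ S := by
    intro u
    by_cases hu : u = 0
    · rw [hu]; simp
    · obtain ⟨k, hk⟩ := Subgroup.mem_zpowers_iff.mp (hζ (Units.mk0 u hu))
      have := h2 k c0 hc0S
      have e1 : ((ζ ^ (2 * k) : Fˣ) : F) = u ^ 2 := by
        rw [mul_comm, zpow_mul, hk]
        simp
      rw [e1, mul_comm] at this
      exact this
  obtain ⟨u, v, huv⟩ := exists_sq_sub_sq (x / c0)
  have : x = c0 * u ^ 2 - c0 * v ^ 2 := by
    rw [← mul_sub, ← huv, mul_div_cancel₀ x hc0]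
  rw [this]
  exact S.sub_mem (hsq u) (hsq v)

end

end Cfsg.Agent.Lib.Helper3.ChevGen2
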