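import Cfsg.Agent.Lib.Helper3.ChevGen1
import Cfsg.Agent.Lib.Helper3.ChevAut13
import Cfsg.Agent.Lib.Helper3.ChevGen2a
set_option autoImplicit false
set_option linter.unusedSectionVars false
open Cfsg Cfsg.Lie

/-!
Two generators for the Chevalley groups, part 2: derivations showing that a subgroup `T` containing
`n_w x_s(t₀)`, a torus element and some root elements contains all the root subgroups. A derivation is a
list of steps, checked by a computable function; the state of a derivation consists of a list of roots with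
some nontrivial root element in `T`, a list of roots whose whole root subgroup lies in `T`, and a flag
telling whether `n_w` is known to lie in `T`.
-/

namespace Cfsg.Agent.Lib.Helper3.ChevM

open ChevU ChevT ChevH Cfsg.Agent.Lib.Helper3.ChevAut Cfsg.Agent.Lib.Helper3.ChevGen2

/-- The steps of a derivation. -/
inductive TGStep
  | tor (g : ℕ)
  | orb (g : ℕ)
  | orbInv (g : ℕ)
  | orb2 (g d : ℕ) (m : ℤ)
  | orbInv2 (g d : ℕ) (m : ℤ)
  | sum (a b c : ℕ) (m : ℤ)
  | unlock
  | split (a b : ℕ)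

/-- The state of a derivation. -/
structure TGState where
  W : List ℕ
  G : List ℕ
  plain : Bool

/-- The parameters of a derivation: the word `l` of `w`, the root `s`, the cocharacter `lam` of the torus
element, the pairs of roots with a product of root elements in `T`, and whether `t₀ ≠ 0`. -/
structure TGParams where
  l : List ℕ
  s : ℕ
  lam : ℕ → ℤ
  P : List (ℕ × ℕ)
  two : Bool

/-- The exponent of the character of the root `g` on the torus element. -/
def tgExpo (D : ChevalleyDatum) (lam : ℕ → ℤ) (g : ℕ) : ℤ :=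
  ((List.range D.rank).map fun i => lam i * D.cartan i g).sum

/-- The root elements of `a` and `b` commute by the commutator formula. -/
def tgComm (D : ChevalleyDatum) (a b : ℕ) : Bool :=
  decide (b = a) || (decide (b ≠ D.neg a) && decide (a ≠ D.neg b) &&
    (decide (D.commTerms a b = []) || decide (D.commTerms b a = [])))

def TGState.has (st : TGState) (g : ℕ) : Bool := st.W.contains g || st.G.contains g

/-- Add the root `k` with the status of the root `g`. -/
def TGState.addLike (st : TGState) (g k : ℕ) : Option TGState :=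
  if st.G.contains g then some { st with G := k :: st.G }
  else if st.W.contains g then some { st with W := k :: st.W }
  else none

def tgPm (m : ℤ) : Bool := decide (m = 1) || decide (m = -1)

/-- One step of a derivation. -/
def tgStep (D : ChevalleyDatum) (refl : ℕ → ℕ → ℕ) (p : TGParams) (st : TGState) : TGStep → Option TGState
  | .tor g =>
    if st.W.contains g && (decide (tgExpo D p.lam g = 1) || decide (tgExpo D p.lam g = -1) ||
        decide (tgExpo D p.lam g = 2) || decide (tgExpo D p.lam g = -2))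
    then some { st with G := g :: st.G } else none
  | .orb g =>
    if st.plain || tgComm D p.s g then st.addLike g (reflW refl p.l g) else none
  | .orbInv g =>
    if (st.plain || tgComm D p.s g) && decide (g < D.nroots) then st.addLike (reflW refl p.l g) g else none
  | .orb2 g d m =>
    if p.two && decide (p.s ≠ g) && decide (p.s ≠ D.neg g) && decide (D.commTerms g p.s = [(d, m, 1, 1)]) &&
        tgPm m && tgComm D p.s d && st.G.contains (reflW refl p.l g) && decide (d < D.nroots)
    then st.addLike g (reflW refl p.l d) else none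
  | .orbInv2 g d m =>
    if p.two && decide (p.s ≠ g) && decide (p.s ≠ D.neg g) && decide (D.commTerms g p.s = [(d, m, 1, 1)]) &&
        tgPm m && tgComm D p.s d && st.G.contains g && decide (d < D.nroots) && decide (g < D.nroots)
    then st.addLike (reflW refl p.l g) d else none
  | .sum a b c m =>
    if st.has a && st.G.contains b && decide (b ≠ a) && decide (b ≠ D.neg a) &&
        decide (D.commTerms a b = [(c, m, 1, 1)]) && tgPm m && decide (c < D.nroots)
    then some { st with G := c :: st.G } else none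
  | .unlock => if st.G.contains p.s then some { st with plain := true } else none
  | .split a b => if p.P.contains (a, b) && st.G.contains a then some { st with W := b :: st.W } else none

/-- Run a derivation. -/
def tgRun (D : ChevalleyDatum) (refl : ℕ → ℕ → ℕ) (p : TGParams) : List TGStep → TGState → Option TGState
  | [], st => some st
  | x :: xs, st => (tgStep D refl p st x).bind (tgRun D refl p xs)

/-- The derivation succeeds and ends with all the root subgroups. -/
def tgOK (D : ChevalleyDatum) (refl : ℕ → ℕ → ℕ) (p : TGParams) (steps : List TGStep) (st : TGState) : Bool :=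
  match tgRun D refl p steps st with
  | some st' => (List.range D.nroots).all fun r => st'.G.contains r
  | none => false

section
variable {F : Type*} [Field F] {C : CDatum} {R : RelData C}

/-- Some nontrivial root element of the root `r` lies in the subgroup `T`. -/
def RelData.Weak (R : RelData C) (T : Subgroup (GL C.D.Idx F)) (r : ℕ) : Prop := ∃ c : F, c ≠ 0 ∧ R.xU r c ∈ T

theorem RelData.Good.weak {T : Subgroup (GL C.D.Idx F)} {r : ℕ} (h : R.Good T r) : R.Weak T r :=
  ⟨1, one_ne_zero, h 1⟩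

/-- The invariant of a derivation. -/
structure TGInv (R : RelData C) (T : Subgroup (GL C.D.Idx F)) (p : TGParams) (st : TGState) : Prop where
  w : ∀ g ∈ st.W, g < C.D.nroots ∧ R.Weak T g
  g : ∀ g ∈ st.G, g < C.D.nroots ∧ R.Good T g
  n : st.plain = true → R.nWordU (F := F) p.l ∈ T

/-- The hypotheses on the subgroup `T`. -/
structure TGHyp (R : RelData C) (T : Subgroup (GL C.D.Idx F)) (p : TGParams) (ζ : Fˣ) (t0 : F) : Prop where
  hl : ∀ i ∈ p.l, i < C.D.rank
  hs : p.s < C.D.nroots
  ht0 : p.two = true → t0 ≠ 0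
  hb : R.nWordU (F := F) p.l * R.xU p.s t0 ∈ T
  htor : R.tor (fun i : Fin C.D.rank => ζ ^ p.lam i.val) ∈ T
  hζ : ∀ x : Fˣ, x ∈ Subgroup.zpowers ζ
  hP : ∀ ab ∈ p.P, ab.1 < C.D.nroots ∧ ab.2 < C.D.nroots ∧ ∃ c d : F, d ≠ 0 ∧ R.xU ab.1 c * R.xU ab.2 d ∈ T

theorem CommData.xU_rel (K : CommData C R) (r s : ℕ) (hr : r < C.D.nroots) (hs : s < C.D.nroots) (hsr : s ≠ r)
    (hsn : s ≠ C.D.neg r) (t u : F) :
    R.xU s u * R.xU r t = R.xU r t * R.xU s u * R.wordU (C.D.commWord F r s t u) := by
  apply Units.ext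
  simp only [Units.val_mul, RelData.xU_val, RelData.wordU_val]
  exact K.commF r s hr hs hsr hsn t u

theorem CommData.xU_commute_of_tgComm (K : CommData C R) (a b : ℕ) (ha : a < C.D.nroots) (hb : b < C.D.nroots)
    (h : tgComm C.D a b = true) (t u : F) : R.xU a t * R.xU b u = R.xU b u * R.xU a t := by
  by_cases hba : b = a
  · subst hba
    rw [R.xU_add, R.xU_add, add_comm]
  simp only [tgComm, Bool.or_eq_true, Bool.and_eq_true, decide_eq_true_eq, hba, false_or] at h
  obtain ⟨⟨h1, h2⟩, h3 | h3⟩ := h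
  · have e := K.xU_rel a b ha hb hba h1 t u
    unfold ChevalleyDatum.commWord at e
    rw [h3] at e
    simp only [List.map_nil, RelData.wordU, List.prod_nil, mul_one] at e
    exact e.symm
  · have e := K.xU_rel b a hb ha (Ne.symm hba) h2 u t
    unfold ChevalleyDatum.commWord at e
    rw [h3] at e
    simp only [List.map_nil, RelData.wordU, List.prod_nil, mul_one] at e
    exact e

/-- The single term commutator formula. -/
theorem CommData.xU_rel_single (K : CommData C R) (r s d : ℕ) (m : ℤ) (hr : r < C.D.nroots) (hs : s < C.D.nroots)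
    (hsr : s ≠ r) (hsn : s ≠ C.D.neg r) (hterms : C.D.commTerms r s = [(d, m, 1, 1)]) (t u : F) :
    R.xU s u * R.xU r t = R.xU r t * R.xU s u * R.xU d ((m : F) * (-t) * u) := by
  have e := K.xU_rel r s hr hs hsr hsn t u
  unfold ChevalleyDatum.commWord at e
  rw [hterms] at e
  simpa [RelData.wordU] using e

theorem tgPm_ne_zero {m : ℤ} (h : tgPm m = true) : (m : F) ≠ 0 := by
  simp only [tgPm, Bool.or_eq_true, decide_eq_true_eq] at h
  rcases h with rfl | rfl <;> simp

theorem TGInv.addG {T : Subgroup (GL C.D.Idx F)} {p : TGParams} {st : TGState} (hinv : TGInv R T p st) (k : ℕ)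
    (hk : k < C.D.nroots) (hgood : R.Good T k) : TGInv R T p { st with G := k :: st.G } where
  w := hinv.w
  g := by
    intro g hg
    rcases List.mem_cons.mp hg with rfl | hg
    · exact ⟨hk, hgood⟩
    · exact hinv.g g hg
  n := hinv.n

theorem TGInv.addW {T : Subgroup (GL C.D.Idx F)} {p : TGParams} {st : TGState} (hinv : TGInv R T p st) (k : ℕ)
    (hk : k < C.D.nroots) (hweak : R.Weak T k) : TGInv R T p { st with W := k :: st.W } where
  w := by
    intro g hg
    rcases List.mem_cons.mp hg with rfl | hg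
    · exact ⟨hk, hweak⟩
    · exact hinv.w g hg
  g := hinv.g
  n := hinv.n

theorem TGInv.has {T : Subgroup (GL C.D.Idx F)} {p : TGParams} {st : TGState} (hinv : TGInv R T p st) {g : ℕ}
    (h : st.has g = true) : g < C.D.nroots ∧ R.Weak T g := by
  simp only [TGState.has, Bool.or_eq_true, List.contains_iff_mem] at h
  rcases h with h | h
  · exact hinv.w g h
  · exact ⟨(hinv.g g h).1, (hinv.g g h).2.weak⟩

theorem TGInv.addLike {T : Subgroup (GL C.D.Idx F)} {p : TGParams} {st st' : TGState} (hinv : TGInv R T p st)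
    {g k : ℕ} (h : st.addLike g k = some st') (hk : g < C.D.nroots → k < C.D.nroots)
    (hG : g < C.D.nroots → R.Good T g → R.Good T k) (hW : g < C.D.nroots → R.Weak T g → R.Weak T k) :
    TGInv R T p st' := by
  unfold TGState.addLike at h
  split_ifs at h with h1 h2
  · have := hinv.g g (List.contains_iff_mem.mp h1)
    cases h
    exact hinv.addG k (hk this.1) (hG this.1 this.2)
  · have := hinv.w g (List.contains_iff_mem.mp h2)
    cases h
    exact hinv.addW k (hk this.1) (hW this.1 this.2)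

theorem MonoHyp.tg_conj (M : MonoHyp C R)
    (hdec : ∀ r < C.D.nroots, ∀ s < C.D.nroots, hdecCheck C.D R.pair r s = true)
    (l : List ℕ) (hl : ∀ i ∈ l, i < C.D.rank) :
    ∃ d : ℕ → F, ∀ k < C.D.nroots, d k ≠ 0 ∧
      ∀ c : F, R.nWordU l * R.xU k c * (R.nWordU l)⁻¹ = R.xU (reflW R.refl l k) (d k * c) := by
  obtain ⟨d, hd⟩ := M.conj_word_xU (F := F) hdec 1 (Subgroup.one_mem _) l hl
  refine ⟨d, fun k hk => ⟨(hd k hk).1, fun c => ?_⟩⟩
  have := (hd k hk).2 c
  rwa [one_mul] at this

section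
variable {T : Subgroup (GL C.D.Idx F)} {p : TGParams} {ζ : Fˣ} {t0 : F} (H : TGHyp R T p ζ t0)
  (M : MonoHyp C R) (K : CommData C R)
  (hdec : ∀ r < C.D.nroots, ∀ s < C.D.nroots, hdecCheck C.D R.pair r s = true)
include H M K hdec

/-- An element of `T` acting on the root elements of `g` as `n_w`. -/
theorem TGHyp.exists_beta {st : TGState} (hinv : TGInv R T p st) (g : ℕ) (hg : g < C.D.nroots)
    (hc : (st.plain || tgComm C.D p.s g) = true) :
    ∃ β ∈ T, ∃ d : F, d ≠ 0 ∧ ∀ c : F, β * R.xU g c * β⁻¹ = R.xU (reflW R.refl p.l g) (d * c) := by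
  obtain ⟨d, hd⟩ := M.tg_conj (F := F) hdec p.l H.hl
  rcases Bool.or_eq_true_iff.mp hc with h | h
  · exact ⟨_, hinv.n h, d g, (hd g hg).1, (hd g hg).2⟩
  · refine ⟨_, H.hb, d g, (hd g hg).1, fun c => ?_⟩
    have e := K.xU_commute_of_tgComm p.s g H.hs hg h t0 c
    rw [← (hd g hg).2 c, mul_inv_rev, mul_assoc (R.nWordU p.l), e]
    group

theorem TGHyp.orb_good {st : TGState} (hinv : TGInv R T p st) (g : ℕ) (hg : g < C.D.nroots)
    (hc : (st.plain || tgComm C.D p.s g) = true) (h : R.Good T g) : R.Good T (reflW R.refl p.l g) := by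
  obtain ⟨β, hβ, d, hd, e⟩ := H.exists_beta M K hdec hinv g hg hc
  intro c
  have := e (c / d)
  rw [mul_div_cancel₀ c hd] at this
  rw [← this]
  exact T.mul_mem (T.mul_mem hβ (h _)) (T.inv_mem hβ)

theorem TGHyp.orb_weak {st : TGState} (hinv : TGInv R T p st) (g : ℕ) (hg : g < C.D.nroots)
    (hc : (st.plain || tgComm C.D p.s g) = true) (h : R.Weak T g) : R.Weak T (reflW R.refl p.l g) := by
  obtain ⟨β, hβ, d, hd, e⟩ := H.exists_beta M K hdec hinv g hg hc
  obtain ⟨c, hc0, hcT⟩ := h
  refine ⟨d * c, mul_ne_zero hd hc0, ?_⟩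
  rw [← e c]
  exact T.mul_mem (T.mul_mem hβ hcT) (T.inv_mem hβ)

theorem TGHyp.orbInv_good {st : TGState} (hinv : TGInv R T p st) (g : ℕ) (hg : g < C.D.nroots)
    (hc : (st.plain || tgComm C.D p.s g) = true) (h : R.Good T (reflW R.refl p.l g)) : R.Good T g := by
  obtain ⟨β, hβ, d, hd, e⟩ := H.exists_beta M K hdec hinv g hg hc
  intro c
  have : R.xU g c = β⁻¹ * R.xU (reflW R.refl p.l g) (d * c) * β := by
    rw [← e c]; group
  rw [this]
  exact T.mul_mem (T.mul_mem (T.inv_mem hβ) (h _)) hβ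

theorem TGHyp.orbInv_weak {st : TGState} (hinv : TGInv R T p st) (g : ℕ) (hg : g < C.D.nroots)
    (hc : (st.plain || tgComm C.D p.s g) = true) (h : R.Weak T (reflW R.refl p.l g)) : R.Weak T g := by
  obtain ⟨β, hβ, d, hd, e⟩ := H.exists_beta M K hdec hinv g hg hc
  obtain ⟨c, hc0, hcT⟩ := h
  refine ⟨c / d, div_ne_zero hc0 hd, ?_⟩
  have : R.xU g (c / d) = β⁻¹ * R.xU (reflW R.refl p.l g) c * β := by
    have := e (c / d)
    rw [mul_div_cancel₀ c hd] at this
    rw [← this]; group
  rw [this]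
  exact T.mul_mem (T.mul_mem (T.inv_mem hβ) hcT) hβ

end

section
variable {T : Subgroup (GL C.D.Idx F)} {p : TGParams} {ζ : Fˣ} {t0 : F} (H : TGHyp R T p ζ t0)
  (M : MonoHyp C R) (K : CommData C R)
  (hdec : ∀ r < C.D.nroots, ∀ s < C.D.nroots, hdecCheck C.D R.pair r s = true)
include H M K hdec

theorem TGHyp.orb2_key (g d : ℕ) (m : ℤ) (hg : g < C.D.nroots) (hd : d < C.D.nroots) (hsg : p.s ≠ g)
    (hsn : p.s ≠ C.D.neg g) (hterms : C.D.commTerms g p.s = [(d, m, 1, 1)]) (hcomm : tgComm C.D p.s d = true) :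
    ∃ e1 e2 : F, e2 ≠ 0 ∧ ∀ c : F, (R.nWordU p.l * R.xU p.s t0) * R.xU g c * (R.nWordU p.l * R.xU p.s t0)⁻¹ =
      R.xU (reflW R.refl p.l g) (e1 * c) * R.xU (reflW R.refl p.l d) (e2 * ((m : F) * (-c) * t0)) := by
  obtain ⟨dd, hdd⟩ := M.tg_conj (F := F) hdec p.l H.hl
  refine ⟨dd g, dd d, (hdd d hd).1, fun c => ?_⟩
  set n := R.nWordU (F := F) p.l
  set x := R.xU p.s t0
  set v : F := (m : F) * (-c) * t0
  have h1 : x * R.xU g c = R.xU g c * x * R.xU d v := K.xU_rel_single g p.s d m hg H.hs hsg hsn hterms c t0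
  have h2 : x * R.xU d v = R.xU d v * x := K.xU_commute_of_tgComm p.s d H.hs hd hcomm t0 v
  rw [← (hdd g hg).2 c, ← (hdd d hd).2 v]
  calc n * x * R.xU g c * (n * x)⁻¹ = n * (x * R.xU g c) * x⁻¹ * n⁻¹ := by group
    _ = n * (R.xU g c * x * R.xU d v) * x⁻¹ * n⁻¹ := by rw [h1]
    _ = n * R.xU g c * (x * R.xU d v) * x⁻¹ * n⁻¹ := by group
    _ = n * R.xU g c * (R.xU d v * x) * x⁻¹ * n⁻¹ := by rw [h2]
    _ = (n * R.xU g c * n⁻¹) * (n * R.xU d v * n⁻¹) := by group

theorem TGHyp.orbInv2_key (g d : ℕ) (m : ℤ) (hg : g < C.D.nroots) (hd : d < C.D.nroots) (hsg : p.s ≠ g)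
    (hsn : p.s ≠ C.D.neg g) (hterms : C.D.commTerms g p.s = [(d, m, 1, 1)]) (hcomm : tgComm C.D p.s d = true) :
    ∃ e1 : F, e1 ≠ 0 ∧ ∀ c : F, (R.nWordU p.l * R.xU p.s t0)⁻¹ * R.xU (reflW R.refl p.l g) (e1 * c) *
      (R.nWordU p.l * R.xU p.s t0) = R.xU g c * R.xU d ((m : F) * (-c) * (-t0)) := by
  obtain ⟨dd, hdd⟩ := M.tg_conj (F := F) hdec p.l H.hl
  refine ⟨dd g, (hdd g hg).1, fun c => ?_⟩
  set n := R.nWordU (F := F) p.l
  set x := R.xU p.s t0
  set v : F := (m : F) * (-c) * (-t0)
  have hx : x⁻¹ = R.xU p.s (-t0) := R.xU_inv _ _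
  have h1 : x⁻¹ * R.xU g c = R.xU g c * x⁻¹ * R.xU d v := by
    rw [hx]
    exact K.xU_rel_single g p.s d m hg H.hs hsg hsn hterms c (-t0)
  have h2 : x * R.xU d v = R.xU d v * x := K.xU_commute_of_tgComm p.s d H.hs hd hcomm t0 v
  rw [← (hdd g hg).2 c]
  calc (n * x)⁻¹ * (n * R.xU g c * n⁻¹) * (n * x) = (x⁻¹ * R.xU g c) * x := by group
    _ = R.xU g c * x⁻¹ * R.xU d v * x := by rw [h1]
    _ = R.xU g c * x⁻¹ * (R.xU d v * x) := by group
    _ = R.xU g c * x⁻¹ * (x * R.xU d v) := by rw [h2]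
    _ = R.xU g c * R.xU d v := by group

end

theorem list_prod_zpow_map {A : Type*} [CommGroup A] (ζ : A) (f : ℕ → ℤ) (l : List ℕ) :
    (l.map fun i => ζ ^ f i).prod = ζ ^ (l.map f).sum := by
  induction l with
  | nil => simp
  | cons a l ih => rw [List.map_cons, List.prod_cons, ih, List.map_cons, List.sum_cons, zpow_add]

theorem rootChar_zpow (D : ChevalleyDatum) (ζ : Fˣ) (lam : ℕ → ℤ) (g : ℕ) (hg : g < D.nroots) :
    rootChar D F (fun i : Fin D.rank => ζ ^ lam i.val) ⟨g, hg⟩ = ζ ^ tgExpo D lam g := by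
  show ∏ i : Fin D.rank, (ζ ^ lam i.val) ^ D.cartan i.val g = _
  rw [← list_range_prod_eq (fun i => (ζ ^ lam i) ^ D.cartan i g)]
  unfold tgExpo
  rw [← list_prod_zpow_map]
  congr 1
  apply List.map_congr_left
  intro i _
  rw [zpow_mul]

section
variable [Finite F] {T : Subgroup (GL C.D.Idx F)} {p : TGParams} {ζ : Fˣ} {t0 : F} (H : TGHyp R T p ζ t0)
include H

/-- A root with a nontrivial root element in `T` on which the torus element acts by `ζ ^ e`, `e ∈ {±1, ±2}`,
has its whole root subgroup in `T`. -/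
theorem TGHyp.tor_good (g : ℕ) (hg : g < C.D.nroots)
    (he : tgExpo C.D p.lam g = 1 ∨ tgExpo C.D p.lam g = -1 ∨ tgExpo C.D p.lam g = 2 ∨ tgExpo C.D p.lam g = -2)
    (h : R.Weak T g) : R.Good T g := by
  obtain ⟨c0, hc0, hc0T⟩ := h
  let S : AddSubgroup F :=
    { carrier := {c | R.xU g c ∈ T}
      zero_mem' := by
        show R.xU g 0 ∈ T
        rw [R.xU_zero]; exact T.one_mem
      add_mem' := by
        intro a b ha hb
        show R.xU g (a + b) ∈ T
        rw [← R.xU_add]; exact T.mul_mem ha hb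
      neg_mem' := by
        intro a ha
        show R.xU g (-a) ∈ T
        rw [← R.xU_inv]; exact T.inv_mem ha }
  intro x
  have key : x ∈ S := by
    refine addSubgroup_eq_top S ζ H.hζ (tgExpo C.D p.lam g) he ?_ c0 hc0 hc0T x
    intro c hc
    show R.xU g _ ∈ T
    have e := tor_conj_xU R (fun i : Fin C.D.rank => ζ ^ p.lam i.val) g hg c
    rw [rootChar_zpow] at e
    rw [← e]
    exact T.mul_mem (T.mul_mem H.htor hc) (T.inv_mem H.htor)
  exact key

end

theorem CommData.sum_good (K : CommData C R) (T : Subgroup (GL C.D.Idx F)) (a b c : ℕ) (m : ℤ)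
    (ha : a < C.D.nroots) (hb : b < C.D.nroots) (hab : b ≠ a) (hab' : b ≠ C.D.neg a)
    (hterms : C.D.commTerms a b = [(c, m, 1, 1)]) (hm : (m : F) ≠ 0)
    (hwa : R.Weak T a) (hgb : R.Good T b) : R.Good T c := by
  obtain ⟨c0, hc0, hc0T⟩ := hwa
  intro v
  have e := K.xU_rel_single a b c m ha hb hab hab' hterms c0 (v / ((m : F) * (-c0)))
  have hne : (m : F) * (-c0) ≠ 0 := mul_ne_zero hm (neg_ne_zero.mpr hc0)
  rw [mul_div_cancel₀ v hne] at e
  have e3 : R.xU c v = (R.xU a c0 * R.xU b (v / ((m : F) * (-c0))))⁻¹ * (R.xU b (v / ((m : F) * (-c0))) * R.xU a c0) := by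
    rw [e]; group
  rw [e3]
  exact T.mul_mem (T.inv_mem (T.mul_mem hc0T (hgb _))) (T.mul_mem (hgb _) hc0T)

section
variable [Finite F] {T : Subgroup (GL C.D.Idx F)} {p : TGParams} {ζ : Fˣ} {t0 : F} (H : TGHyp R T p ζ t0)
  (M : MonoHyp C R) (K : CommData C R)
  (hdec : ∀ r < C.D.nroots, ∀ s < C.D.nroots, hdecCheck C.D R.pair r s = true)
include H M K hdec

theorem TGHyp.step_sound {st st' : TGState} (x : TGStep) (h : tgStep C.D R.refl p st x = some st')
    (hinv : TGInv R T p st) : TGInv R T p st' := by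
  cases x with
  | tor g =>
    simp only [tgStep, Bool.and_eq_true, Bool.or_eq_true, decide_eq_true_eq, List.contains_iff_mem,
      Option.ite_none_right_eq_some, Option.some.injEq] at h
    obtain ⟨⟨hgW, he⟩, rfl⟩ := h
    have hg := hinv.w g hgW
    refine hinv.addG g hg.1 (H.tor_good g hg.1 ?_ hg.2)
    tauto
  | orb g =>
    simp only [tgStep, Option.ite_none_right_eq_some] at h
    obtain ⟨hc, h⟩ := h
    exact hinv.addLike h (fun hg => R.reflW_lt p.l H.hl g hg)
      (fun hg hG => H.orb_good M K hdec hinv g hg hc hG) (fun hg hW => H.orb_weak M K hdec hinv g hg hc hW)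
  | orbInv g =>
    simp only [tgStep, Bool.and_eq_true, decide_eq_true_eq, Option.ite_none_right_eq_some] at h
    obtain ⟨⟨hc, hg⟩, h⟩ := h
    exact hinv.addLike h (fun _ => hg)
      (fun _ hG => H.orbInv_good M K hdec hinv g hg hc hG) (fun _ hW => H.orbInv_weak M K hdec hinv g hg hc hW)
  | orb2 g d m =>
    simp only [tgStep, Bool.and_eq_true, decide_eq_true_eq, List.contains_iff_mem,
      Option.ite_none_right_eq_some] at h
    obtain ⟨⟨⟨⟨⟨⟨⟨⟨h2, hsg⟩, hsn⟩, hterms⟩, hm⟩, hcomm⟩, hGw⟩, hd⟩, h⟩ := h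
    have hGw' := (hinv.g _ hGw).2
    have ht0 := H.ht0 h2
    have hm' : (m : F) ≠ 0 := tgPm_ne_zero hm
    refine hinv.addLike h (fun _ => R.reflW_lt p.l H.hl d hd) ?_ ?_
    · intro hg hG y
      obtain ⟨e1, e2, he2, key⟩ := H.orb2_key M K hdec g d m hg hd hsg hsn hterms hcomm
      have hne : e2 * (m : F) * t0 ≠ 0 := mul_ne_zero (mul_ne_zero he2 hm') ht0
      have e := key (-(y / (e2 * (m : F) * t0)))
      have hy : e2 * ((m : F) * (- -(y / (e2 * (m : F) * t0))) * t0) = y := by
        field_simp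
      rw [hy] at e
      have : R.xU (reflW R.refl p.l d) y = (R.xU (reflW R.refl p.l g) (e1 * -(y / (e2 * (m : F) * t0))))⁻¹ *
          ((R.nWordU p.l * R.xU p.s t0) * R.xU g (-(y / (e2 * (m : F) * t0))) * (R.nWordU p.l * R.xU p.s t0)⁻¹) := by
        rw [e]; group
      rw [this]
      exact T.mul_mem (T.inv_mem (hGw' _)) (T.mul_mem (T.mul_mem H.hb (hG _)) (T.inv_mem H.hb))
    · intro hg hW
      obtain ⟨c, hc0, hcT⟩ := hW
      obtain ⟨e1, e2, he2, key⟩ := H.orb2_key M K hdec g d m hg hd hsg hsn hterms hcomm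
      refine ⟨e2 * ((m : F) * (-c) * t0), mul_ne_zero he2 (mul_ne_zero (mul_ne_zero hm' (neg_ne_zero.mpr hc0)) ht0), ?_⟩
      have e := key c
      have : R.xU (reflW R.refl p.l d) (e2 * ((m : F) * (-c) * t0)) = (R.xU (reflW R.refl p.l g) (e1 * c))⁻¹ *
          ((R.nWordU p.l * R.xU p.s t0) * R.xU g c * (R.nWordU p.l * R.xU p.s t0)⁻¹) := by
        rw [e]; group
      rw [this]
      exact T.mul_mem (T.inv_mem (hGw' _)) (T.mul_mem (T.mul_mem H.hb hcT) (T.inv_mem H.hb))
  | orbInv2 g d m =>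
    simp only [tgStep, Bool.and_eq_true, decide_eq_true_eq, List.contains_iff_mem,
      Option.ite_none_right_eq_some] at h
    obtain ⟨⟨⟨⟨⟨⟨⟨⟨⟨h2, hsg⟩, hsn⟩, hterms⟩, hm⟩, hcomm⟩, hGg⟩, hd⟩, hg⟩, h⟩ := h
    have hGg' := (hinv.g _ hGg).2
    have ht0 := H.ht0 h2
    have hm' : (m : F) ≠ 0 := tgPm_ne_zero hm
    obtain ⟨e1, he1, key⟩ := H.orbInv2_key M K hdec g d m hg hd hsg hsn hterms hcomm
    refine hinv.addLike h (fun _ => hd) ?_ ?_
    · intro _ hG y
      have hne : (m : F) * t0 ≠ 0 := mul_ne_zero hm' ht0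
      have e := key (y / ((m : F) * t0))
      have hy : (m : F) * (-(y / ((m : F) * t0))) * (-t0) = y := by
        field_simp
      rw [hy] at e
      have : R.xU d y = (R.xU g (y / ((m : F) * t0)))⁻¹ * ((R.nWordU p.l * R.xU p.s t0)⁻¹ *
          R.xU (reflW R.refl p.l g) (e1 * (y / ((m : F) * t0))) * (R.nWordU p.l * R.xU p.s t0)) := by
        rw [e]; group
      rw [this]
      exact T.mul_mem (T.inv_mem (hGg' _)) (T.mul_mem (T.mul_mem (T.inv_mem H.hb) (hG _)) H.hb)
    · intro _ hW
      obtain ⟨c, hc0, hcT⟩ := hW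
      have e := key (c / e1)
      rw [mul_div_cancel₀ c he1] at e
      refine ⟨(m : F) * (-(c / e1)) * (-t0), mul_ne_zero (mul_ne_zero hm' (neg_ne_zero.mpr (div_ne_zero hc0 he1)))
        (neg_ne_zero.mpr ht0), ?_⟩
      have : R.xU d ((m : F) * (-(c / e1)) * (-t0)) = (R.xU g (c / e1))⁻¹ * ((R.nWordU p.l * R.xU p.s t0)⁻¹ *
          R.xU (reflW R.refl p.l g) c * (R.nWordU p.l * R.xU p.s t0)) := by
        rw [e]; group
      rw [this]
      exact T.mul_mem (T.inv_mem (hGg' _)) (T.mul_mem (T.mul_mem (T.inv_mem H.hb) hcT) H.hb)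
  | sum a b c m =>
    simp only [tgStep, Bool.and_eq_true, decide_eq_true_eq, List.contains_iff_mem,
      Option.ite_none_right_eq_some, Option.some.injEq] at h
    obtain ⟨⟨⟨⟨⟨⟨⟨ha, hb⟩, hba⟩, hbn⟩, hterms⟩, hm⟩, hc⟩, rfl⟩ := h
    have ha' := hinv.has ha
    have hb' := hinv.g b hb
    exact hinv.addG c hc (K.sum_good T a b c m ha'.1 hb'.1 hba hbn hterms (tgPm_ne_zero hm) ha'.2 hb'.2)
  | unlock =>
    simp only [tgStep, List.contains_iff_mem, Option.ite_none_right_eq_some, Option.some.injEq] at h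
    obtain ⟨hs, rfl⟩ := h
    refine ⟨hinv.w, hinv.g, fun _ => ?_⟩
    have : R.nWordU (F := F) p.l = (R.nWordU p.l * R.xU p.s t0) * (R.xU p.s t0)⁻¹ := by group
    rw [this]
    exact T.mul_mem H.hb (T.inv_mem ((hinv.g _ hs).2 t0))
  | split a b =>
    simp only [tgStep, Bool.and_eq_true, List.contains_iff_mem, Option.ite_none_right_eq_some,
      Option.some.injEq] at h
    obtain ⟨⟨hP, ha⟩, rfl⟩ := h
    obtain ⟨-, hb, c, d, hd, hcd⟩ := H.hP (a, b) hP
    refine hinv.addW b hb ⟨d, hd, ?_⟩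
    have : R.xU b d = (R.xU a c)⁻¹ * (R.xU a c * R.xU b d) := by group
    rw [this]
    exact T.mul_mem (T.inv_mem ((hinv.g a ha).2 c)) hcd

theorem TGHyp.run_sound (steps : List TGStep) : ∀ {st st' : TGState}, tgRun C.D R.refl p steps st = some st' →
    TGInv R T p st → TGInv R T p st' := by
  induction steps with
  | nil =>
    intro st st' h hinv
    simp only [tgRun, Option.some.injEq] at h
    subst h
    exact hinv
  | cons x xs ih =>
    intro st st' h hinv
    simp only [tgRun, Option.bind_eq_some_iff] at h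
    obtain ⟨st1, h1, h2⟩ := h
    exact ih h2 (H.step_sound M K hdec x h1 hinv)

/-- A successful derivation shows that `T` contains the Chevalley group. -/
theorem TGHyp.group_le (steps : List TGStep) (st : TGState) (hok : tgOK C.D R.refl p steps st = true)
    (hinv : TGInv R T p st) : C.D.group F ≤ T := by
  unfold tgOK at hok
  split at hok
  · rename_i st' hrun
    have hinv' := H.run_sound M K hdec steps hrun hinv
    apply R.group_le_of_good
    intro r hr
    rw [List.all_eq_true] at hok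
    have := hok r (List.mem_range.mpr hr)
    exact (hinv'.g r (List.contains_iff_mem.mp this)).2
  · exact absurd hok (by simp)

end

end

end Cfsg.Agent.Lib.Helper3.ChevM
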