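import Cfsg.Agent.Lib.Helper3.ChevGen2b
set_option autoImplicit false
set_option linter.unusedSectionVars false
set_option linter.style.haveILetI false
open Cfsg Cfsg.Lie

/-!
Two generators for the Chevalley groups, part 3: the two elements and the beginning of the derivations.
-/

namespace Cfsg.Agent.Lib.Helper3.ChevM

open ChevU ChevT ChevH Cfsg.Agent.Lib.Helper3.ChevAut Cfsg.Agent.Lib.Helper3.ChevGen2

section
variable {F : Type*} [Field F] {C : CDatum} {R : RelData C}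

theorem RelData.xU_pow (R : RelData C) (r : ℕ) (t : F) (k : ℕ) : (R.xU r t) ^ k = R.xU r ((k : F) * t) := by
  induction k with
  | zero => simp [R.xU_zero]
  | succ k ih =>
    rw [pow_succ, ih, R.xU_add]
    congr 1
    push_cast
    ring

theorem card_units_cast [Finite F] : ((Nat.card Fˣ : ℕ) : F) = -1 := by
  have h1 : Nat.card Fˣ + 1 = Nat.card F := by
    rw [Nat.card_units]
    have : 0 < Nat.card F := Nat.card_pos
    omega
  have h2 : ((Nat.card F : ℕ) : F) = 0 := by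
    haveI := Fintype.ofFinite F
    rw [Nat.card_eq_fintype_card]
    exact FiniteField.cast_card_eq_zero F
  rw [← h1] at h2
  push_cast at h2
  linear_combination h2

theorem RelData.tor_pow_card [Finite F] (R : RelData C) (z : Fin C.D.rank → Fˣ) : (R.tor z) ^ Nat.card Fˣ = 1 := by
  have : (R.tor z) ^ Nat.card Fˣ = R.torHom (z ^ Nat.card Fˣ) := by
    rw [map_pow]; rfl
  rw [this]
  have hz : z ^ Nat.card Fˣ = 1 := by
    funext i
    exact pow_card_eq_one'
  rw [hz, map_one]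

/-- The torus element commutes with the root elements on which its character is trivial. -/
theorem tor_commute_xU (R : RelData C) (z : Fin C.D.rank → Fˣ) (r : ℕ) (hr : r < C.D.nroots)
    (hz : rootChar C.D F z ⟨r, hr⟩ = 1) (t : F) : Commute (R.tor z) (R.xU r t) := by
  have e := tor_conj_xU R z r hr t
  rw [hz, Units.val_one, one_mul] at e
  show R.tor z * R.xU r t = R.xU r t * R.tor z
  have e2 : R.xU r t * R.tor z = R.tor z * R.xU r t * (R.tor z)⁻¹ * R.tor z := by rw [e]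
  rw [e2]
  group

/-- From `h x_r(1)` with commuting factors one recovers `x_r(1)` and `h`. -/
theorem init_A [Finite F] (T : Subgroup (GL C.D.Idx F)) (z : Fin C.D.rank → Fˣ) (r : ℕ) (hr : r < C.D.nroots)
    (hz : rootChar C.D F z ⟨r, hr⟩ = 1) (ha : R.tor z * R.xU r 1 ∈ T) : R.xU r (1 : F) ∈ T ∧ R.tor z ∈ T := by
  have hcomm := tor_commute_xU R z r hr hz 1
  have hpow := T.pow_mem ha (Nat.card Fˣ)
  rw [hcomm.mul_pow, R.tor_pow_card, one_mul, R.xU_pow, card_units_cast, mul_one] at hpow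
  have h1 : R.xU r (1 : F) ∈ T := by
    have := T.inv_mem hpow
    rwa [R.xU_inv, neg_neg] at this
  refine ⟨h1, ?_⟩
  have : R.tor z = R.tor z * R.xU r 1 * (R.xU r 1)⁻¹ := by group
  rw [this]
  exact T.mul_mem ha (T.inv_mem h1)

/-- From `h x_r(1) x_s(1)` with commuting factors one recovers `x_r(1) x_s(1)` and `h`. -/
theorem init_B [Finite F] (K : CommData C R) (T : Subgroup (GL C.D.Idx F)) (z : Fin C.D.rank → Fˣ) (r s : ℕ)
    (hr : r < C.D.nroots) (hs : s < C.D.nroots)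
    (hzr : rootChar C.D F z ⟨r, hr⟩ = 1) (hzs : rootChar C.D F z ⟨s, hs⟩ = 1) (hrs : tgComm C.D r s = true)
    (ha : R.tor z * (R.xU r 1 * R.xU s 1) ∈ T) : R.xU r (1 : F) * R.xU s 1 ∈ T ∧ R.tor z ∈ T := by
  have hc1 := tor_commute_xU R z r hr hzr 1
  have hc2 := tor_commute_xU R z s hs hzs 1
  have hc3 : Commute (R.xU r (1 : F)) (R.xU s 1) := K.xU_commute_of_tgComm r s hr hs hrs 1 1
  have hcomm : Commute (R.tor z) (R.xU r 1 * R.xU s 1) := hc1.mul_right hc2
  have hpow := T.pow_mem ha (Nat.card Fˣ)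
  rw [hcomm.mul_pow, R.tor_pow_card, one_mul, hc3.mul_pow, R.xU_pow, R.xU_pow, card_units_cast, mul_one] at hpow
  have h1 : R.xU r (1 : F) * R.xU s 1 ∈ T := by
    have := T.inv_mem hpow
    rw [mul_inv_rev, R.xU_inv, R.xU_inv, neg_neg] at this
    rw [hc3.eq]
    exact this
  refine ⟨h1, ?_⟩
  have : R.tor z = R.tor z * (R.xU r 1 * R.xU s 1) * (R.xU r 1 * R.xU s 1)⁻¹ := by group
  rw [this]
  exact T.mul_mem ha (T.inv_mem h1)

/-- Two elements of the subgroup `X` generating a subgroup which contains `X` give generators of `X`. -/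
theorem two_gen_of_le {G : Type*} [Group G] (X : Subgroup G) (a b : G) (ha : a ∈ X) (hb : b ∈ X)
    (h : X ≤ Subgroup.closure {a, b}) : ∃ a' b' : ↥X, Subgroup.closure ({a', b'} : Set ↥X) = ⊤ := by
  refine ⟨⟨a, ha⟩, ⟨b, hb⟩, ?_⟩
  rw [eq_top_iff]
  intro g _
  have hg := h g.2
  have hmap : (Subgroup.closure ({⟨a, ha⟩, ⟨b, hb⟩} : Set ↥X)).map X.subtype = Subgroup.closure {a, b} := by
    rw [MonoidHom.map_closure]
    congr 1
    ext x
    simp only [Set.mem_image, Set.mem_insert_iff, Set.mem_singleton_iff]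
    constructor
    · rintro ⟨y, rfl | rfl, rfl⟩
      · left; rfl
      · right; rfl
    · rintro (rfl | rfl)
      · exact ⟨⟨x, ha⟩, Or.inl rfl, rfl⟩
      · exact ⟨⟨x, hb⟩, Or.inr rfl, rfl⟩
  rw [← hmap] at hg
  obtain ⟨y, hy, hyg⟩ := hg
  have : y = g := Subtype.ext hyg
  rw [← this]
  exact hy

theorem grp_pair_comm {G : Type*} [Group G] (X1 X2 Y1 Y2 Z : G) (h1 : Commute Y2 X1)
    (h2 : Y1 * X1 = X1 * Y1 * Z) (h3 : Commute X2 Y1) (h4 : Commute X2 Y2) (h5 : Commute X2 Z)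
    (h6 : Commute Y2 Z) : (Y1 * Y2) * (X1 * X2) = (X1 * X2) * (Y1 * Y2) * Z := by
  calc (Y1 * Y2) * (X1 * X2) = Y1 * (Y2 * X1) * X2 := by group
    _ = Y1 * (X1 * Y2) * X2 := by rw [h1.eq]
    _ = (Y1 * X1) * Y2 * X2 := by group
    _ = (X1 * Y1 * Z) * Y2 * X2 := by rw [h2]
    _ = X1 * Y1 * (Z * Y2) * X2 := by group
    _ = X1 * Y1 * (Y2 * Z) * X2 := by rw [h6.eq]
    _ = X1 * Y1 * Y2 * (Z * X2) := by group
    _ = X1 * Y1 * Y2 * (X2 * Z) := by rw [h5.eq]
    _ = X1 * Y1 * (Y2 * X2) * Z := by group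
    _ = X1 * Y1 * (X2 * Y2) * Z := by rw [h4.eq]
    _ = X1 * (Y1 * X2) * Y2 * Z := by group
    _ = X1 * (X2 * Y1) * Y2 * Z := by rw [h3.eq]
    _ = (X1 * X2) * (Y1 * Y2) * Z := by group

/-- The commutator of two products of two root elements, when only one pair of factors does not commute. -/
theorem CommData.weak_of_pair_comm (K : CommData C R) (T : Subgroup (GL C.D.Idx F)) (a1 a2 b1 b2 γ : ℕ) (m : ℤ)
    (ha1 : a1 < C.D.nroots) (ha2 : a2 < C.D.nroots) (hb1 : b1 < C.D.nroots) (hb2 : b2 < C.D.nroots)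
    (hγ : γ < C.D.nroots) (c1 c2 d1 d2 : F) (hc1 : c1 ≠ 0) (hd1 : d1 ≠ 0)
    (hA : R.xU a1 c1 * R.xU a2 c2 ∈ T) (hB : R.xU b1 d1 * R.xU b2 d2 ∈ T)
    (h1 : tgComm C.D b2 a1 = true) (h3 : tgComm C.D a2 b1 = true) (h4 : tgComm C.D a2 b2 = true)
    (h5 : tgComm C.D a2 γ = true) (h6 : tgComm C.D b2 γ = true)
    (hne : b1 ≠ a1) (hneg : b1 ≠ C.D.neg a1) (hterms : C.D.commTerms a1 b1 = [(γ, m, 1, 1)])
    (hm : tgPm m = true) : R.Weak T γ := by
  refine ⟨(m : F) * (-c1) * d1, mul_ne_zero (mul_ne_zero (tgPm_ne_zero hm) (neg_ne_zero.mpr hc1)) hd1, ?_⟩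
  have e := grp_pair_comm (R.xU a1 c1) (R.xU a2 c2) (R.xU b1 d1) (R.xU b2 d2) (R.xU γ ((m : F) * (-c1) * d1))
    (K.xU_commute_of_tgComm b2 a1 hb2 ha1 h1 d2 c1)
    (K.xU_rel_single a1 b1 γ m ha1 hb1 hne hneg hterms c1 d1)
    (K.xU_commute_of_tgComm a2 b1 ha2 hb1 h3 c2 d1)
    (K.xU_commute_of_tgComm a2 b2 ha2 hb2 h4 c2 d2)
    (K.xU_commute_of_tgComm a2 γ ha2 hγ h5 c2 _)
    (K.xU_commute_of_tgComm b2 γ hb2 hγ h6 d2 _)
  have : R.xU γ ((m : F) * (-c1) * d1) =
      ((R.xU a1 c1 * R.xU a2 c2) * (R.xU b1 d1 * R.xU b2 d2))⁻¹ * ((R.xU b1 d1 * R.xU b2 d2) * (R.xU a1 c1 * R.xU a2 c2)) := by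
    rw [e]; group
  rw [this]
  exact T.mul_mem (T.inv_mem (T.mul_mem hA hB)) (T.mul_mem hB hA)

theorem RelData.nWordU_replicate (R : RelData C) (l : List ℕ) (j : ℕ) :
    R.nWordU (F := F) (List.replicate j l).flatten = (R.nWordU l) ^ j := by
  induction j with
  | zero => simp [RelData.nWordU]
  | succ j ih => rw [List.replicate_succ, List.flatten_cons, R.nWordU_append, ih, pow_succ']

/-- If the torus element acts nontrivially on `x_s` and on `x_{w s}`, then from `h` and `n_w x_s(1)` one gets a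
nontrivial element of the root subgroup of `s`. -/
theorem MonoHyp.weak_of_trick (M : MonoHyp C R)
    (hdec : ∀ r < C.D.nroots, ∀ s < C.D.nroots, hdecCheck C.D R.pair r s = true)
    (T : Subgroup (GL C.D.Idx F)) (l : List ℕ) (hl : ∀ i ∈ l, i < C.D.rank) (s : ℕ) (hs : s < C.D.nroots)
    (z : Fin C.D.rank → Fˣ) (hT : R.tor z ∈ T) (hb : R.nWordU l * R.xU s 1 ∈ T)
    (hμ : rootChar C.D F z ⟨s, hs⟩ ≠ 1)
    (hν : rootChar C.D F z ⟨reflW R.refl l s, R.reflW_lt l hl s hs⟩ ≠ 1) : R.Weak T s := by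
  obtain ⟨dd, hdd⟩ := M.tg_conj (F := F) hdec l hl
  set n := R.nWordU (F := F) l with hn
  set x := R.xU s (1 : F) with hx
  set h := R.tor z with hh
  set μ : F := ((rootChar C.D F z ⟨s, hs⟩ : Fˣ) : F) with hμdef
  set ν : F := ((rootChar C.D F z ⟨reflW R.refl l s, R.reflW_lt l hl s hs⟩ : Fˣ) : F) with hνdef
  have hμ1 : μ ≠ 1 := fun e => hμ (Units.ext e)
  have hν1 : ν ≠ 1 := fun e => hν (Units.ext e)
  have F1 : ∀ t : F, h * R.xU s t * h⁻¹ = R.xU s (μ * t) := fun t => tor_conj_xU R z s hs t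
  set h1 := n⁻¹ * h * n with hh1
  have hds := (hdd s hs).1
  have F2 : ∀ t : F, h1 * R.xU s t * h1⁻¹ = R.xU s (ν * t) := by
    intro t
    have e1 : h1 * R.xU s t * h1⁻¹ = n⁻¹ * (h * (n * R.xU s t * n⁻¹) * h⁻¹) * n := by
      rw [hh1]; group
    have e2 := tor_conj_xU R z (reflW R.refl l s) (R.reflW_lt l hl s hs) (dd s * t)
    have e3 := (hdd s hs).2 (ν * t)
    rw [e1, (hdd s hs).2 t, e2]
    have : ν * (dd s * t) = dd s * (ν * t) := by ring
    rw [← hνdef, this, ← e3]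
    group
  have hh1H : h1 ∈ C.D.diagonalSubgroup F := by
    have := M.conj_mem n⁻¹ (Subgroup.inv_mem _ (R.nWordU_mem l hl)) h (R.tor_mem z)
    rwa [inv_inv] at this
  have F3 : h * h1 = h1 * h := R.diagonal_comm hdec _ _ (R.tor_mem z) hh1H
  have F3' : h * h1 * h⁻¹ = h1 := by rw [F3]; group
  have hxinv : x⁻¹ = R.xU s (-1) := R.xU_inv _ _
  set g := (n * x)⁻¹ * h * (n * x) with hg
  have hgT : g ∈ T := T.mul_mem (T.mul_mem (T.inv_mem hb) hT) hb
  have hk : h * g * h⁻¹ * g⁻¹ = R.xU s ((ν - 1) * (μ - 1)) := by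
    calc h * g * h⁻¹ * g⁻¹ = (h * x⁻¹ * h⁻¹) * (h * h1 * h⁻¹) * (h * x * h⁻¹) * x⁻¹ * h1⁻¹ * x := by
          rw [hg, hh1]; group
      _ = R.xU s (μ * -1) * h1 * R.xU s (μ * 1) * R.xU s (-1) * h1⁻¹ * x := by
          rw [F3', hxinv, F1, hx, F1]
      _ = R.xU s (μ * -1) * (h1 * (R.xU s (μ * 1) * R.xU s (-1)) * h1⁻¹) * x := by group
      _ = R.xU s (μ * -1) * R.xU s (ν * (μ * 1 + -1)) * x := by rw [R.xU_add, F2]
      _ = R.xU s ((ν - 1) * (μ - 1)) := by
          rw [hx, R.xU_add, R.xU_add]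
          congr 1
          ring
  refine ⟨(ν - 1) * (μ - 1), mul_ne_zero (sub_ne_zero.mpr hν1) (sub_ne_zero.mpr hμ1), ?_⟩
  rw [← hk]
  exact T.mul_mem (T.mul_mem (T.mul_mem hT hgT) (T.inv_mem hT)) (T.inv_mem hgT)

section
variable [Finite F] (M : MonoHyp C R) (K : CommData C R)
  (hdec : ∀ r < C.D.nroots, ∀ s < C.D.nroots, hdecCheck C.D R.pair r s = true)
include M K hdec

/-- Generation by `h x_r(1)` and `n_w`. -/
theorem two_gen_A (p : TGParams) (r : ℕ) (hr : r < C.D.nroots) (hl : ∀ i ∈ p.l, i < C.D.rank)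
    (hs : p.s < C.D.nroots) (he : tgExpo C.D p.lam r = 0) (h2 : p.two = false) (hP : p.P = [])
    (steps : List TGStep) (hok : tgOK C.D R.refl p steps ⟨[r], [], true⟩ = true) :
    ∃ a b : ↥(C.D.group F), Subgroup.closure ({a, b} : Set ↥(C.D.group F)) = ⊤ := by
  obtain ⟨ζ, hζ⟩ := IsCyclic.exists_generator (α := Fˣ)
  set z : Fin C.D.rank → Fˣ := fun i => ζ ^ p.lam i.val with hz
  have ha : R.tor z * R.xU r 1 ∈ C.D.group F :=
    Subgroup.mul_mem _ (R.diagonalSubgroup_le_group (R.tor_mem z)) (R.xU_mem_group r hr 1)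
  have hb : R.nWordU (F := F) p.l ∈ C.D.group F := R.monomialSubgroup_le_group (R.nWordU_mem p.l hl)
  apply two_gen_of_le _ _ _ ha hb
  set T := Subgroup.closure ({R.tor z * R.xU r 1, R.nWordU (F := F) p.l} : Set (GL C.D.Idx F)) with hT
  have haT : R.tor z * R.xU r 1 ∈ T := Subgroup.subset_closure (by simp)
  have hbT : R.nWordU (F := F) p.l ∈ T := Subgroup.subset_closure (by simp)
  have hzr : rootChar C.D F z ⟨r, hr⟩ = 1 := by rw [hz, rootChar_zpow, he, zpow_zero]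
  obtain ⟨hx, ht⟩ := init_A T z r hr hzr haT
  have H : TGHyp R T p ζ 0 :=
    { hl := hl
      hs := hs
      ht0 := by simp [h2]
      hb := by rw [R.xU_zero, mul_one]; exact hbT
      htor := ht
      hζ := hζ
      hP := by simp [hP] }
  refine H.group_le M K hdec steps _ hok ⟨?_, by simp, fun _ => hbT⟩
  intro g hg
  rw [List.mem_singleton] at hg
  subst hg
  exact ⟨hr, 1, one_ne_zero, hx⟩

/-- Generation by `h x_r(1)` and `n_w x_s(1)`. -/
theorem two_gen_N (p : TGParams) (r : ℕ) (hr : r < C.D.nroots) (hl : ∀ i ∈ p.l, i < C.D.rank)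
    (hs : p.s < C.D.nroots) (he : tgExpo C.D p.lam r = 0) (hP : p.P = [])
    (steps : List TGStep) (hok : tgOK C.D R.refl p steps ⟨[r], [], false⟩ = true) :
    ∃ a b : ↥(C.D.group F), Subgroup.closure ({a, b} : Set ↥(C.D.group F)) = ⊤ := by
  obtain ⟨ζ, hζ⟩ := IsCyclic.exists_generator (α := Fˣ)
  set z : Fin C.D.rank → Fˣ := fun i => ζ ^ p.lam i.val with hz
  have ha : R.tor z * R.xU r 1 ∈ C.D.group F :=
    Subgroup.mul_mem _ (R.diagonalSubgroup_le_group (R.tor_mem z)) (R.xU_mem_group r hr 1)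
  have hb : R.nWordU (F := F) p.l * R.xU p.s 1 ∈ C.D.group F :=
    Subgroup.mul_mem _ (R.monomialSubgroup_le_group (R.nWordU_mem p.l hl)) (R.xU_mem_group p.s hs 1)
  apply two_gen_of_le _ _ _ ha hb
  set T := Subgroup.closure ({R.tor z * R.xU r 1, R.nWordU (F := F) p.l * R.xU p.s 1} : Set (GL C.D.Idx F)) with hT
  have haT : R.tor z * R.xU r 1 ∈ T := Subgroup.subset_closure (by simp)
  have hbT : R.nWordU (F := F) p.l * R.xU p.s 1 ∈ T := Subgroup.subset_closure (by simp)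
  have hzr : rootChar C.D F z ⟨r, hr⟩ = 1 := by rw [hz, rootChar_zpow, he, zpow_zero]
  obtain ⟨hx, ht⟩ := init_A T z r hr hzr haT
  have H : TGHyp R T p ζ 1 :=
    { hl := hl
      hs := hs
      ht0 := fun _ => one_ne_zero
      hb := hbT
      htor := ht
      hζ := hζ
      hP := by simp [hP] }
  refine H.group_le M K hdec steps _ hok ⟨?_, by simp, by simp⟩
  intro g hg
  rw [List.mem_singleton] at hg
  subst hg
  exact ⟨hr, 1, one_ne_zero, hx⟩

/-- Generation by `h x_r(1)` and `n_w x_s(1)`, over a field with more than two elements. -/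
theorem two_gen_C (hF : ∃ x : F, x ≠ 0 ∧ x ≠ 1) (p : TGParams) (r : ℕ) (hr : r < C.D.nroots)
    (hl : ∀ i ∈ p.l, i < C.D.rank)
    (hs : p.s < C.D.nroots) (he : tgExpo C.D p.lam r = 0) (hP : p.P = [])
    (hes : tgExpo C.D p.lam p.s = 1 ∨ tgExpo C.D p.lam p.s = -1)
    (hews : tgExpo C.D p.lam (reflW R.refl p.l p.s) = 1 ∨ tgExpo C.D p.lam (reflW R.refl p.l p.s) = -1)
    (steps : List TGStep) (hok : tgOK C.D R.refl p steps ⟨[r, p.s], [], false⟩ = true) :
    ∃ a b : ↥(C.D.group F), Subgroup.closure ({a, b} : Set ↥(C.D.group F)) = ⊤ := by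
  obtain ⟨ζ, hζ⟩ := IsCyclic.exists_generator (α := Fˣ)
  have hζ1 : ζ ≠ 1 := by
    obtain ⟨x, hx0, hx1⟩ := hF
    intro h1
    have := hζ (Units.mk0 x hx0)
    rw [h1, Subgroup.zpowers_one_eq_bot, Subgroup.mem_bot] at this
    exact hx1 (by simpa using congrArg Units.val this)
  have hpm : ∀ e : ℤ, (e = 1 ∨ e = -1) → ζ ^ e ≠ 1 := by
    intro e he
    rcases he with rfl | rfl
    · simpa using hζ1
    · simpa using hζ1
  set z : Fin C.D.rank → Fˣ := fun i => ζ ^ p.lam i.val with hz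
  have ha : R.tor z * R.xU r 1 ∈ C.D.group F :=
    Subgroup.mul_mem _ (R.diagonalSubgroup_le_group (R.tor_mem z)) (R.xU_mem_group r hr 1)
  have hb : R.nWordU (F := F) p.l * R.xU p.s 1 ∈ C.D.group F :=
    Subgroup.mul_mem _ (R.monomialSubgroup_le_group (R.nWordU_mem p.l hl)) (R.xU_mem_group p.s hs 1)
  apply two_gen_of_le _ _ _ ha hb
  set T := Subgroup.closure ({R.tor z * R.xU r 1, R.nWordU (F := F) p.l * R.xU p.s 1} : Set (GL C.D.Idx F)) with hT
  have haT : R.tor z * R.xU r 1 ∈ T := Subgroup.subset_closure (by simp)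
  have hbT : R.nWordU (F := F) p.l * R.xU p.s 1 ∈ T := Subgroup.subset_closure (by simp)
  have hzr : rootChar C.D F z ⟨r, hr⟩ = 1 := by rw [hz, rootChar_zpow, he, zpow_zero]
  obtain ⟨hx, ht⟩ := init_A T z r hr hzr haT
  have hws : R.Weak T p.s := by
    refine M.weak_of_trick hdec T p.l hl p.s hs z ht hbT ?_ ?_
    · rw [hz, rootChar_zpow]; exact hpm _ hes
    · rw [hz, rootChar_zpow]; exact hpm _ hews
  have H : TGHyp R T p ζ 1 :=
    { hl := hl
      hs := hs
      ht0 := fun _ => one_ne_zero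
      hb := hbT
      htor := ht
      hζ := hζ
      hP := by simp [hP] }
  refine H.group_le M K hdec steps _ hok ⟨?_, by simp, by simp⟩
  intro g hg
  simp only [List.mem_cons, List.not_mem_nil, or_false] at hg
  rcases hg with rfl | rfl
  · exact ⟨hr, 1, one_ne_zero, hx⟩
  · exact ⟨hs, hws⟩

end

/-- The conditions for the commutator of `x_r x_s` and its conjugate by `n_w ^ j` to be a root element of `γ`. -/
def tgPairCheck (D : ChevalleyDatum) (refl : ℕ → ℕ → ℕ) (l : List ℕ) (j r s γ : ℕ) (m : ℤ) : Bool :=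
  let b1 := reflW refl (List.replicate j l).flatten r
  let b2 := reflW refl (List.replicate j l).flatten s
  tgComm D b2 r && tgComm D s b1 && tgComm D s b2 && tgComm D s γ && tgComm D b2 γ && decide (b1 ≠ r) &&
    decide (b1 ≠ D.neg r) && decide (D.commTerms r b1 = [(γ, m, 1, 1)]) && tgPm m && decide (γ < D.nroots)

section
variable [Finite F] (M : MonoHyp C R) (K : CommData C R)
  (hdec : ∀ r < C.D.nroots, ∀ s < C.D.nroots, hdecCheck C.D R.pair r s = true)
include M K hdec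

/-- Generation by `h x_r(1) x_s(1)` and `n_w`. -/
theorem two_gen_B (p : TGParams) (r s γ j : ℕ) (m : ℤ) (hr : r < C.D.nroots) (hs : s < C.D.nroots)
    (hl : ∀ i ∈ p.l, i < C.D.rank) (hps : p.s < C.D.nroots)
    (her : tgExpo C.D p.lam r = 0) (hes : tgExpo C.D p.lam s = 0) (hrs : tgComm C.D r s = true)
    (h2 : p.two = false) (hP : p.P = [(r, s)])
    (hchk : tgPairCheck C.D R.refl p.l j r s γ m = true)
    (steps : List TGStep) (hok : tgOK C.D R.refl p steps ⟨[γ], [], true⟩ = true) :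
    ∃ a b : ↥(C.D.group F), Subgroup.closure ({a, b} : Set ↥(C.D.group F)) = ⊤ := by
  obtain ⟨ζ, hζ⟩ := IsCyclic.exists_generator (α := Fˣ)
  set z : Fin C.D.rank → Fˣ := fun i => ζ ^ p.lam i.val with hz
  have ha : R.tor z * (R.xU r 1 * R.xU s 1) ∈ C.D.group F :=
    Subgroup.mul_mem _ (R.diagonalSubgroup_le_group (R.tor_mem z))
      (Subgroup.mul_mem _ (R.xU_mem_group r hr 1) (R.xU_mem_group s hs 1))
  have hb : R.nWordU (F := F) p.l ∈ C.D.group F := R.monomialSubgroup_le_group (R.nWordU_mem p.l hl)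
  apply two_gen_of_le _ _ _ ha hb
  set T := Subgroup.closure ({R.tor z * (R.xU r 1 * R.xU s 1), R.nWordU (F := F) p.l} : Set (GL C.D.Idx F)) with hT
  have haT : R.tor z * (R.xU r 1 * R.xU s 1) ∈ T := Subgroup.subset_closure (by simp)
  have hbT : R.nWordU (F := F) p.l ∈ T := Subgroup.subset_closure (by simp)
  have hzr : rootChar C.D F z ⟨r, hr⟩ = 1 := by rw [hz, rootChar_zpow, her, zpow_zero]
  have hzs : rootChar C.D F z ⟨s, hs⟩ = 1 := by rw [hz, rootChar_zpow, hes, zpow_zero]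
  obtain ⟨hu, ht⟩ := init_B K T z r s hr hs hzr hzs hrs haT
  -- the conjugate by `n_w ^ j`
  set lj := (List.replicate j p.l).flatten with hlj
  have hljr : ∀ i ∈ lj, i < C.D.rank := by
    intro i hi
    rw [hlj, List.mem_flatten] at hi
    obtain ⟨l', hl', hi'⟩ := hi
    rw [List.eq_of_mem_replicate hl'] at hi'
    exact hl i hi'
  have hnj : R.nWordU (F := F) lj ∈ T := by
    rw [hlj, R.nWordU_replicate]
    exact T.pow_mem hbT j
  obtain ⟨dd, hdd⟩ := M.tg_conj (F := F) hdec lj hljr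
  simp only [tgPairCheck, Bool.and_eq_true, decide_eq_true_eq] at hchk
  obtain ⟨⟨⟨⟨⟨⟨⟨⟨⟨h1, h3⟩, h4⟩, h5⟩, h6⟩, hne⟩, hneg⟩, hterms⟩, hm⟩, hγ⟩ := hchk
  have hB : R.xU (reflW R.refl lj r) (dd r * 1) * R.xU (reflW R.refl lj s) (dd s * 1) ∈ T := by
    rw [← (hdd r hr).2 1, ← (hdd s hs).2 1]
    have : R.nWordU lj * R.xU r 1 * (R.nWordU lj)⁻¹ * (R.nWordU lj * R.xU s 1 * (R.nWordU lj)⁻¹) =
        R.nWordU lj * (R.xU r 1 * R.xU s 1) * (R.nWordU (F := F) lj)⁻¹ := by group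
    rw [this]
    exact T.mul_mem (T.mul_mem hnj hu) (T.inv_mem hnj)
  have hwγ : R.Weak T γ :=
    K.weak_of_pair_comm T r s (reflW R.refl lj r) (reflW R.refl lj s) γ m hr hs (R.reflW_lt lj hljr r hr)
      (R.reflW_lt lj hljr s hs) hγ 1 1 (dd r * 1) (dd s * 1) one_ne_zero
      (mul_ne_zero (hdd r hr).1 one_ne_zero) hu hB h1 h3 h4 h5 h6 hne hneg hterms hm
  have H : TGHyp R T p ζ 0 :=
    { hl := hl
      hs := hps
      ht0 := by simp [h2]
      hb := by rw [R.xU_zero, mul_one]; exact hbT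
      htor := ht
      hζ := hζ
      hP := by
        intro ab hab
        rw [hP, List.mem_singleton] at hab
        subst hab
        exact ⟨hr, hs, 1, 1, one_ne_zero, hu⟩ }
  refine H.group_le M K hdec steps _ hok ⟨?_, by simp, fun _ => hbT⟩
  intro g hg
  rw [List.mem_singleton] at hg
  subst hg
  exact ⟨hγ, hwγ⟩

end

end

end Cfsg.Agent.Lib.Helper3.ChevM
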