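import Cfsg.Prelude.Def_ChevAutomorphisms
import Cfsg.Agent.Lib.Helper3.ChevN1
import Cfsg.Agent.Lib.Helper3.ChevW2
set_option autoImplicit false

open Cfsg Cfsg.Lie

/-! Automorphisms permuting the fundamental root subgroups along a symmetry of the Dynkin diagram. -/

namespace Cfsg.Agent.Lib.Helper3.ChevM

/-- `permRoot` for a map of the nodes given on natural numbers. -/
def permRootN (D : ChevalleyDatum) (p : ℕ → ℕ) (r : ℕ) : ℕ :=
  ((List.range D.nroots).find? fun s => (List.finRange D.rank).all fun i =>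
      (D.coroot.getD s #[]).getD (p i.val) 0 == (D.coroot.getD r #[]).getD i.val 0).getD r

theorem permRootN_congr (D : ChevalleyDatum) (p q : ℕ → ℕ) (h : ∀ i < D.rank, p i = q i) (r : ℕ) :
    permRootN D p r = permRootN D q r := by
  unfold permRootN
  congr 2
  funext s
  apply List.all_congr rfl
  intro i
  rw [h i.val i.isLt]

/-- The map of the nodes on natural numbers given by a permutation. -/
def permFun (D : ChevalleyDatum) (π : Equiv.Perm (Fin D.rank)) : ℕ → ℕ :=
  fun i => if h : i < D.rank then (π ⟨i, h⟩).val else 0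

theorem permFun_val (D : ChevalleyDatum) (π : Equiv.Perm (Fin D.rank)) (i : Fin D.rank) :
    permFun D π i.val = (π i).val := by
  unfold permFun
  rw [dif_pos i.isLt]

theorem permRoot_eq (D : ChevalleyDatum) (π : Equiv.Perm (Fin D.rank)) (r : ℕ) :
    D.permRoot π r = permRootN D (permFun D π) r := by
  unfold ChevalleyDatum.permRoot permRootN
  congr 2
  funext s
  apply List.all_congr rfl
  intro i
  rw [permFun_val]

/-- The node `a` may be the image of the next node, the images of the earlier nodes being `acc`. -/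
def symOk (D : ChevalleyDatum) (acc : List ℕ) (a : ℕ) : Bool :=
  !acc.contains a && (List.range acc.length).all fun m => decide (D.bonds (acc.getD m 0) a = D.bonds m acc.length)

/-- Every symmetry of the diagram extending `acc` by `k` more nodes is in the list `L`. -/
def symExt (D : ChevalleyDatum) (L : List (List ℕ)) : ℕ → List ℕ → Bool
  | 0, acc => L.contains acc
  | k + 1, acc => (List.range D.rank).all fun a => !symOk D acc a || symExt D L k (acc ++ [a])

theorem symExt_sound (D : ChevalleyDatum) (L : List (List ℕ)) (p : ℕ → ℕ)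
    (hp1 : ∀ i < D.rank, p i < D.rank) (hp2 : ∀ i < D.rank, ∀ j < D.rank, i ≠ j → p i ≠ p j)
    (hp3 : ∀ i < D.rank, ∀ j < D.rank, i ≠ j → D.bonds (p i) (p j) = D.bonds i j) :
    ∀ k m, k + m = D.rank → symExt D L k ((List.range m).map p) = true → (List.range D.rank).map p ∈ L := by
  intro k
  induction k with
  | zero =>
    intro m hm h
    rw [zero_add] at hm
    subst hm
    simpa [symExt] using h
  | succ k ih =>
    intro m hm h
    have hmr : m < D.rank := by omega
    rw [symExt, List.all_eq_true] at h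
    have h1 := h (p m) (List.mem_range.mpr (hp1 m hmr))
    have hok : symOk D ((List.range m).map p) (p m) = true := by
      simp only [symOk, Bool.and_eq_true, Bool.not_eq_true', List.all_eq_true, List.mem_range,
        decide_eq_true_eq, List.length_map, List.length_range]
      constructor
      · rw [← Bool.not_eq_true, List.contains_iff_mem, List.mem_map]
        rintro ⟨i, hi, hpi⟩
        have him : i < m := List.mem_range.mp hi
        exact hp2 i (by omega) m hmr (by omega) hpi
      · intro i hi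
        have : ((List.range m).map p).getD i 0 = p i := by
          rw [List.getD_eq_getElem _ _ (by simpa using hi)]
          simp
        rw [this]
        exact hp3 i (by omega) m hmr (by omega)
    rw [hok] at h1
    simp only [Bool.not_true, Bool.false_or] at h1
    have e : (List.range m).map p ++ [p m] = (List.range (m + 1)).map p := by
      rw [List.range_succ, List.map_append]; rfl
    rw [e] at h1
    exact ih (m + 1) (by omega) h1

theorem exists_mem_of_isDiagramSymmetry (D : ChevalleyDatum) (L : List (List ℕ))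
    (h : symExt D L D.rank [] = true) (π : Equiv.Perm (Fin D.rank)) (hπ : D.IsDiagramSymmetry π) :
    ∃ l ∈ L, ∀ i < D.rank, permFun D π i = l.getD i 0 := by
  have hp1 : ∀ i < D.rank, permFun D π i < D.rank := by
    intro i hi
    have := permFun_val D π ⟨i, hi⟩
    simp only at this
    rw [this]
    exact (π ⟨i, hi⟩).isLt
  have hp2 : ∀ i < D.rank, ∀ j < D.rank, i ≠ j → permFun D π i ≠ permFun D π j := by
    intro i hi j hj hij heq
    have e1 := permFun_val D π ⟨i, hi⟩
    have e2 := permFun_val D π ⟨j, hj⟩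
    simp only at e1 e2
    rw [e1, e2] at heq
    have := π.injective (Fin.ext heq)
    exact hij (Fin.mk.inj_iff.mp this)
  have hp3 : ∀ i < D.rank, ∀ j < D.rank, i ≠ j → D.bonds (permFun D π i) (permFun D π j) = D.bonds i j := by
    intro i hi j hj hij
    have e1 := permFun_val D π ⟨i, hi⟩
    have e2 := permFun_val D π ⟨j, hj⟩
    simp only at e1 e2
    rw [e1, e2]
    exact hπ ⟨i, hi⟩ ⟨j, hj⟩ (by intro h; exact hij (Fin.mk.inj_iff.mp h))
  have := symExt_sound D L (permFun D π) hp1 hp2 hp3 D.rank 0 (by simp) (by simpa using h)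
  refine ⟨_, this, ?_⟩
  intro i hi
  rw [List.getD_eq_getElem _ _ (by simpa using hi)]
  simp

/-- The root permutation of a map of the nodes is compatible with the fundamental reflections. -/
def graphCheck (D : ChevalleyDatum) (refl : ℕ → ℕ → ℕ) (p : ℕ → ℕ) : Bool :=
  ((List.range D.rank).all fun j => decide (p j < D.rank) && decide (permRootN D p (D.simple j) = D.simple (p j))) &&
    (List.range D.rank).all fun i => (List.range D.nroots).all fun s =>
      decide (permRootN D p (refl i s) = refl (p i) (permRootN D p s))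

section
variable {F : Type*} [Field F] {C : CDatum} {R : RelData C}

theorem reflW_map_perm (R : RelData C) (p : ℕ → ℕ) (hG : graphCheck C.D R.refl p = true)
    (l : List ℕ) (hl : ∀ i ∈ l, i < C.D.rank) (j : ℕ) (hj : j < C.D.rank) :
    reflW R.refl (l.map p) (C.D.simple (p j)) = permRootN C.D p (reflW R.refl l (C.D.simple j)) := by
  simp only [graphCheck, Bool.and_eq_true, List.all_eq_true, List.mem_range, decide_eq_true_eq] at hG
  obtain ⟨h1, h2⟩ := hG
  induction l with
  | nil => exact ((h1 j hj).2).symm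
  | cons i l ih =>
    have hl' : ∀ k ∈ l, k < C.D.rank := fun k hk => hl k (List.mem_cons_of_mem _ hk)
    show R.refl (p i) (reflW R.refl (l.map p) (C.D.simple (p j))) = permRootN C.D p (R.refl i (reflW R.refl l (C.D.simple j)))
    rw [ih hl', h2 i (hl i List.mem_cons_self) _ (R.reflW_lt l hl' _ (R.simple_lt j hj))]

/-- An automorphism mapping the fundamental root elements (and their negatives) along a map `p` of the nodes maps
every root element to a root element, up to sign. -/
theorem MonoHyp.graph_aut_root (M : MonoHyp C R) (p : ℕ → ℕ) (hG : graphCheck C.D R.refl p = true)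
    (φ : ↥(C.D.group F) ≃* ↥(C.D.group F))
    (hφ : ∀ (g : ↥(C.D.group F)) (i : ℕ) (_ : i < C.D.rank) (t : F),
      (((g : GL C.D.Idx F) : Matrix C.D.Idx C.D.Idx F) = C.D.x F (C.D.simple i) t →
        ((φ g : GL C.D.Idx F) : Matrix C.D.Idx C.D.Idx F) = C.D.x F (C.D.simple (p i)) t) ∧
      (((g : GL C.D.Idx F) : Matrix C.D.Idx C.D.Idx F) = C.D.x F (C.D.neg (C.D.simple i)) t →
        ((φ g : GL C.D.Idx F) : Matrix C.D.Idx C.D.Idx F) = C.D.x F (C.D.neg (C.D.simple (p i))) t))
    (r : ℕ) (hr : r < C.D.nroots) :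
    ∃ ε : F, (ε = 1 ∨ ε = -1) ∧ ∀ (g : ↥(C.D.group F)) (t : F),
      ((g : GL C.D.Idx F) : Matrix C.D.Idx C.D.Idx F) = C.D.x F r t →
        ((φ g : GL C.D.Idx F) : Matrix C.D.Idx C.D.Idx F) = C.D.x F (permRootN C.D p r) (ε * t) := by
  have hG' := hG
  simp only [graphCheck, Bool.and_eq_true, List.all_eq_true, List.mem_range, decide_eq_true_eq] at hG'
  obtain ⟨hp1, -⟩ := hG'
  -- the root elements as elements of the group
  let xg : ∀ k, k < C.D.nroots → F → ↥(C.D.group F) := fun k hk t => ⟨R.xU k t, R.xU_mem_group k hk t⟩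
  have hxg : ∀ (g : ↥(C.D.group F)) k (hk : k < C.D.nroots) t,
      ((g : GL C.D.Idx F) : Matrix C.D.Idx C.D.Idx F) = C.D.x F k t → g = xg k hk t := by
    intro g k hk t h
    apply Subtype.ext
    apply Units.ext
    exact h
  have hφ1 : ∀ i (hi : i < C.D.rank) t, φ (xg _ (R.simple_lt i hi) t) = xg _ (R.simple_lt (p i) (hp1 i hi).1) t := by
    intro i hi t
    exact hxg _ _ (R.simple_lt (p i) (hp1 i hi).1) _ ((hφ (xg _ (R.simple_lt i hi) t) i hi t).1 rfl)
  have hφ2 : ∀ i (hi : i < C.D.rank) t, φ (xg _ (R.neg_lt _ (R.simple_lt i hi)) t) =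
      xg _ (R.neg_lt _ (R.simple_lt (p i) (hp1 i hi).1)) t := by
    intro i hi t
    exact hxg _ _ (R.neg_lt _ (R.simple_lt (p i) (hp1 i hi).1)) _ ((hφ (xg _ (R.neg_lt _ (R.simple_lt i hi)) t) i hi t).2 rfl)
  -- the elements n_i
  have hnmem : ∀ l : List ℕ, (∀ i ∈ l, i < C.D.rank) → R.nWordU (F := F) l ∈ C.D.group F := by
    intro l hl
    unfold RelData.nWordU
    apply Subgroup.list_prod_mem
    intro x hx
    obtain ⟨i, hi, rfl⟩ := List.mem_map.mp hx
    have hil := hl i hi
    rw [R.nU_eq]
    exact Subgroup.mul_mem _ (Subgroup.mul_mem _ (R.xU_mem_group _ (R.simple_lt i hil) _)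
      (R.xU_mem_group _ (R.neg_lt _ (R.simple_lt i hil)) _)) (R.xU_mem_group _ (R.simple_lt i hil) _)
  have hφn : ∀ (l : List ℕ) (hl : ∀ i ∈ l, i < C.D.rank) (hl' : ∀ i ∈ l.map p, i < C.D.rank),
      φ ⟨R.nWordU l, hnmem l hl⟩ = ⟨R.nWordU (l.map p), hnmem _ hl'⟩ := by
    intro l
    induction l with
    | nil =>
      intro _ _
      have : (⟨R.nWordU (F := F) [], hnmem [] (by simp)⟩ : ↥(C.D.group F)) = 1 := rfl
      rw [this, map_one]
      rfl
    | cons i l ih =>
      intro hl hl'
      have hi : i < C.D.rank := hl i List.mem_cons_self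
      have hlt : ∀ k ∈ l, k < C.D.rank := fun k hk => hl k (List.mem_cons_of_mem _ hk)
      have hlt' : ∀ k ∈ l.map p, k < C.D.rank := fun k hk => hl' k (by rw [List.map_cons]; exact List.mem_cons_of_mem _ hk)
      have e1 : (⟨R.nWordU (F := F) (i :: l), hnmem _ hl⟩ : ↥(C.D.group F)) =
          xg _ (R.simple_lt i hi) 1 * xg _ (R.neg_lt _ (R.simple_lt i hi)) (-1⁻¹) * xg _ (R.simple_lt i hi) 1 *
            ⟨R.nWordU l, hnmem l hlt⟩ := by
        apply Subtype.ext
        show R.nWordU (F := F) (i :: l) = _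
        rw [R.nWordU_cons, R.nU_eq]
        rfl
      have e2 : (⟨R.nWordU (F := F) ((i :: l).map p), hnmem _ hl'⟩ : ↥(C.D.group F)) =
          xg _ (R.simple_lt (p i) (hp1 i hi).1) 1 * xg _ (R.neg_lt _ (R.simple_lt (p i) (hp1 i hi).1)) (-1⁻¹) *
            xg _ (R.simple_lt (p i) (hp1 i hi).1) 1 * ⟨R.nWordU (l.map p), hnmem _ hlt'⟩ := by
        apply Subtype.ext
        show R.nWordU (F := F) ((i :: l).map p) = _
        rw [List.map_cons, R.nWordU_cons, R.nU_eq]
        rfl
      rw [e1, e2, map_mul, map_mul, map_mul, hφ1 i hi, hφ2 i hi, ih hlt hlt']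
  -- the root r as an image of a fundamental root
  have hrw := M.rwc r hr
  simp only [rootWordCheck, Bool.and_eq_true, List.all_eq_true, decide_eq_true_eq] at hrw
  obtain ⟨⟨hl, hj⟩, hrj⟩ := hrw
  set l := (M.rw r).1 with hldef
  set j := (M.rw r).2 with hjdef
  have hl' : ∀ i ∈ l.map p, i < C.D.rank := by
    intro i hi
    obtain ⟨k, hk, rfl⟩ := List.mem_map.mp hi
    exact (hp1 k (hl k hk)).1
  have hpj := R.simple_lt j hj
  have hppj := R.simple_lt (p j) (hp1 j hj).1
  have c1 := (R.conjRel_word (F := F) l hl).conj _ hpj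
  have c2 := (R.conjRel_word (F := F) (l.map p) hl').conj _ hppj
  have s1 := (R.conjRel_word (F := F) l hl).sign _ hpj
  have s2 := (R.conjRel_word (F := F) (l.map p) hl').sign _ hppj
  rw [hrj] at c1
  rw [reflW_map_perm R p hG l hl j hj, hrj] at c2
  set e1 : ℤ := etaW R.refl R.eta l (C.D.simple j) with he1
  set e2 : ℤ := etaW R.refl R.eta (l.map p) (C.D.simple (p j)) with he2
  have hr' : permRootN C.D p r < C.D.nroots := by
    have := R.reflW_lt (l.map p) hl' _ hppj
    rwa [reflW_map_perm R p hG l hl j hj, hrj] at this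
  -- group versions
  have g1 : ∀ t : F, xg r hr ((e1 : F) * t) = ⟨R.nWordU l, hnmem l hl⟩ * xg _ hpj t * (⟨R.nWordU l, hnmem l hl⟩)⁻¹ := by
    intro t
    rw [eq_mul_inv_iff_mul_eq]
    apply Subtype.ext
    apply Units.ext
    show C.D.x F r ((e1 : F) * t) * ((R.nWordU (F := F) l : GL C.D.Idx F) : Matrix C.D.Idx C.D.Idx F) =
      ((R.nWordU (F := F) l : GL C.D.Idx F) : Matrix C.D.Idx C.D.Idx F) * C.D.x F (C.D.simple j) t
    rw [R.nWordU_val]
    exact (c1 t).symm
  have g2 : ∀ t : F, xg _ hr' ((e2 : F) * t) = ⟨R.nWordU (l.map p), hnmem _ hl'⟩ * xg _ hppj t *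
      (⟨R.nWordU (l.map p), hnmem _ hl'⟩)⁻¹ := by
    intro t
    rw [eq_mul_inv_iff_mul_eq]
    apply Subtype.ext
    apply Units.ext
    show C.D.x F (permRootN C.D p r) ((e2 : F) * t) * ((R.nWordU (F := F) (l.map p) : GL C.D.Idx F) : Matrix C.D.Idx C.D.Idx F) =
      ((R.nWordU (F := F) (l.map p) : GL C.D.Idx F) : Matrix C.D.Idx C.D.Idx F) * C.D.x F (C.D.simple (p j)) t
    rw [R.nWordU_val]
    exact (c2 t).symm
  have key : ∀ t : F, φ (xg r hr ((e1 : F) * t)) = xg _ hr' ((e2 : F) * t) := by
    intro t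
    rw [g1, g2, map_mul, map_mul, map_inv, hφn l hl hl', hφ1 j hj]
  have he1sq : (e1 : F) * (e1 : F) = 1 := by
    rcases s1 with h | h <;> rw [h] <;> simp
  refine ⟨(e2 : F) * (e1 : F), ?_, ?_⟩
  · rcases s1 with h | h <;> rcases s2 with h' | h' <;> rw [h, h'] <;> simp
  · intro g t hg
    rw [hxg g r hr t hg]
    have := key ((e1 : F) * t)
    rw [← mul_assoc, he1sq, one_mul] at this
    rw [this]
    show C.D.x F (permRootN C.D p r) ((e2 : F) * ((e1 : F) * t)) = _
    rw [mul_assoc]

end

end Cfsg.Agent.Lib.Helper3.ChevM
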