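import Cfsg.Agent.Lib.Helper3.ChevGraph1
set_option autoImplicit false

open Cfsg Cfsg.Lie

namespace Cfsg.Agent.Lib.Helper3.ChevM

section
variable {F : Type*} [Field F] {C : CDatum} {R : RelData C}

/-- An automorphism mapping the fundamental root elements (and their negatives) along a symmetry of the Dynkin
diagram maps every root element to a root element, up to sign. -/
theorem MonoHyp.graph_aut_root' (M : MonoHyp C R) (L : List (List ℕ))
    (hL : symExt C.D L C.D.rank [] = true)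
    (hGL : L.all (fun l => graphCheck C.D R.refl (fun i => l.getD i 0)) = true)
    (π : Equiv.Perm (Fin C.D.rank)) (hπ : C.D.IsDiagramSymmetry π)
    (φ : ↥(C.D.group F) ≃* ↥(C.D.group F))
    (hφ : ∀ (g : ↥(C.D.group F)) (i : Fin C.D.rank) (t : F),
      (((g : GL C.D.Idx F) : Matrix C.D.Idx C.D.Idx F) = C.D.x F (C.D.simple i) t →
        ((φ g : GL C.D.Idx F) : Matrix C.D.Idx C.D.Idx F) = C.D.x F (C.D.simple (π i)) t) ∧
      (((g : GL C.D.Idx F) : Matrix C.D.Idx C.D.Idx F) = C.D.x F (C.D.neg (C.D.simple i)) t →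
        ((φ g : GL C.D.Idx F) : Matrix C.D.Idx C.D.Idx F) = C.D.x F (C.D.neg (C.D.simple (π i))) t))
    (r : ℕ) (hr : r < C.D.nroots) :
    ∃ ε : F, (ε = 1 ∨ ε = -1) ∧ ∀ (g : ↥(C.D.group F)) (t : F),
      ((g : GL C.D.Idx F) : Matrix C.D.Idx C.D.Idx F) = C.D.x F r t →
        ((φ g : GL C.D.Idx F) : Matrix C.D.Idx C.D.Idx F) = C.D.x F (C.D.permRoot π r) (ε * t) := by
  obtain ⟨l, hl, hpl⟩ := exists_mem_of_isDiagramSymmetry C.D L hL π hπ
  have hG : graphCheck C.D R.refl (fun i => l.getD i 0) = true := (List.all_eq_true.mp hGL) l hl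
  have hφ' : ∀ (g : ↥(C.D.group F)) (i : ℕ) (_ : i < C.D.rank) (t : F),
      (((g : GL C.D.Idx F) : Matrix C.D.Idx C.D.Idx F) = C.D.x F (C.D.simple i) t →
        ((φ g : GL C.D.Idx F) : Matrix C.D.Idx C.D.Idx F) = C.D.x F (C.D.simple (l.getD i 0)) t) ∧
      (((g : GL C.D.Idx F) : Matrix C.D.Idx C.D.Idx F) = C.D.x F (C.D.neg (C.D.simple i)) t →
        ((φ g : GL C.D.Idx F) : Matrix C.D.Idx C.D.Idx F) = C.D.x F (C.D.neg (C.D.simple (l.getD i 0))) t) := by
    intro g i hi t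
    have h1 := hφ g ⟨i, hi⟩ t
    have e : ((π ⟨i, hi⟩ : Fin C.D.rank) : ℕ) = l.getD i 0 := by
      rw [← hpl i hi]
      exact (permFun_val C.D π ⟨i, hi⟩).symm
    rw [e] at h1
    exact h1
  obtain ⟨ε, hε, h⟩ := M.graph_aut_root (fun i => l.getD i 0) hG φ hφ' r hr
  refine ⟨ε, hε, ?_⟩
  intro g t hg
  rw [permRoot_eq, permRootN_congr C.D _ _ hpl r]
  exact h g t hg

end

end Cfsg.Agent.Lib.Helper3.ChevM
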