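import Mathlib
import Cfsg.Prelude.Def_ChevStructure
import Cfsg.Agent.Lib.Helper3.ChevSub1
set_option autoImplicit false
set_option linter.unusedSectionVars false
open Cfsg Cfsg.Lie

/-!
Subfield subgroups of Chevalley groups, part 2: the centralizer of the subgroup generated by the root elements with
parameters fixed by a field endomorphism is trivial, and the normalizer of a subgroup between it and the group of
fixed points is the group of fixed points.
-/

namespace Cfsg.Agent.Lib.Helper3.ChevSub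

open Cfsg.Agent.Lib.Helper3.ChevM Cfsg.Agent.Lib.Helper3.ChevAut ChevU ChevT ChevH

section
variable {F : Type*} [Field F] {C : CDatum} {R : RelData C} (Y : AutHyp C R)
include Y

/-- An element of the group commuting with the root elements `x_p(1)` of the fundamental roots lies in `B`. -/
theorem mem_borel_of_comm (c : GL C.D.Idx F) (hc : c ∈ C.D.group F)
    (hcomm : ∀ i < C.D.rank, c * R.xU (C.D.simple i) 1 = R.xU (C.D.simple i) 1 * c) :
    c ∈ C.D.borelSubgroup F := by
  classical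
  have Uh := Y.A.U
  have Hy := Y.A.B
  have M := Hy.mono
  obtain ⟨bru1, bru2⟩ := Uh.bruhat_normal_form (F := F) Hy Y.A.ntri (fun r hr => signCheck_or (Y.A.sign r hr))
  obtain ⟨b, hb, n, hn, u, hu, rfl⟩ := bru1 c hc
  obtain ⟨h₀, hh₀, l, hl, rfl⟩ := M.monomial_decomp n hn
  have hUB : C.D.posUnipotent F ≤ C.D.borelSubgroup F := le_sup_left
  have hHB : C.D.diagonalSubgroup F ≤ C.D.borelSubgroup F := le_sup_right
  -- all the fundamental roots stay positive
  have hpos : ∀ i < C.D.rank, C.D.IsPosRoot (reflW R.refl l (C.D.simple i)) := by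
    intro i hi
    by_contra hneg
    have hsl := R.simple_lt i hi
    have hlt := R.reflW_lt l hl _ hsl
    have hneg' : C.D.IsNegRoot (reflW R.refl l (C.D.simple i)) :=
      (signCheck_or (Y.A.sign _ hlt)).resolve_left hneg
    obtain ⟨d, hd⟩ := M.conj_word_xU (F := F) Hy.dec h₀ hh₀ l hl
    set x := R.xU (C.D.simple i) (1 : F) with hxdef
    have hxU : x ∈ C.D.posUnipotent F := xU_mem_pos Y.A _ (simple_pos Y.A i hi) 1
    have hx : x ∈ uMinus C.D F (h₀ * R.nWordU l) := by
      apply Subgroup.subset_closure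
      refine ⟨C.D.simple i, 1, simple_pos Y.A i hi, ?_, R.xU_val _ _⟩
      unfold ChevalleyDatum.rootSubgroup
      rw [MonoidHom.map_closure, Subgroup.closure_le]
      rintro _ ⟨y, ⟨c', hy⟩, rfl⟩
      have hy' : y = R.xU (C.D.simple i) c' := Units.ext hy
      subst hy'
      show (h₀ * R.nWordU l) * R.xU (C.D.simple i) c' * (h₀ * R.nWordU l)⁻¹ ∈ _
      rw [(hd _ hsl).2 c']
      exact xU_mem_neg Y.A _ hneg' _
    have e := hcomm i hi
    have e' : (x * b) * (h₀ * R.nWordU l) * u = b * (h₀ * R.nWordU l) * (u * x) := by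
      rw [← hxdef] at e
      calc (x * b) * (h₀ * R.nWordU l) * u = x * (b * (h₀ * R.nWordU l) * u) := by group
        _ = b * (h₀ * R.nWordU l) * u * x := e.symm
        _ = b * (h₀ * R.nWordU l) * (u * x) := by group
    obtain ⟨-, huniq⟩ := bru2 (x * b) b _ _ u (u * x) (Subgroup.mul_mem _ (hUB hxU) hb) hb hn hn hu
      (Subgroup.mul_mem _ hu hx) e'
    obtain ⟨h1, -⟩ := huniq rfl
    have h2 : x = 1 := by
      have := congrArg (fun g => g * b⁻¹) h1
      simpa using this
    exact xU_one_ne_one Y.A _ (simple_pos Y.A i hi) h2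
  have hid := M.reflW_eq_self_of_simple_pos Hy.dec Y.A.sign l.length l rfl hl hpos
  obtain ⟨h', hh', e⟩ := M.coset_of_reflW_eq (F := F) Hy.dec l [] hl (by simp) (fun s hs => by rw [hid s hs]; rfl)
  have e2 : R.nWordU (F := F) [] = 1 := by simp [RelData.nWordU]
  rw [e2, mul_one] at e
  rw [e]
  exact Subgroup.mul_mem _ (Subgroup.mul_mem _ hb (hHB (Subgroup.mul_mem _ hh₀ hh')))
    (hUB (uMinus_le_posUnipotent C.D _ hu))

/-- An element of the group commuting with the root elements with parameters fixed by `σ` is trivial. -/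
theorem eq_one_of_comm (σ : F →+* F) (c : GL C.D.Idx F) (hc : c ∈ C.D.group F)
    (hcomm : ∀ x ∈ fixL σ C.D, c * x = x * c) : c = 1 := by
  classical
  have Uh := Y.A.U
  have Hy := Y.A.B
  have M := Hy.mono
  have hx1 : ∀ s < C.D.nroots, R.xU s (1 : F) ∈ fixL σ C.D := fun s hs => R.xU_mem_fixL σ s hs 1 (map_one σ)
  have h1 : c ∈ C.D.borelSubgroup F :=
    mem_borel_of_comm Y c hc (fun i hi => hcomm _ (hx1 _ (R.simple_lt i hi)))
  set n0 := R.nWordU (F := F) Y.w0 with hn0
  have hn0N : n0 ∈ C.D.monomialSubgroup F := R.nWordU_mem Y.w0 Y.w0l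
  have hn0L : n0 ∈ fixL σ C.D := R.nWordU_mem_fixL σ Y.w0 Y.w0l
  have hNG : C.D.monomialSubgroup F ≤ C.D.group F := (R.borel_sup_monomial Hy.root Hy.nc).2.1
  obtain ⟨d, hd⟩ := M.conj_word_xU (F := F) Hy.dec 1 (Subgroup.one_mem _) Y.w0 Y.w0l
  rw [one_mul, ← hn0] at hd
  -- the conjugate by the longest element also commutes
  have h2 : n0⁻¹ * c * n0 ∈ C.D.borelSubgroup F := by
    apply mem_borel_of_comm Y
    · exact Subgroup.mul_mem _ (Subgroup.mul_mem _ (Subgroup.inv_mem _ (hNG hn0N)) hc) (hNG hn0N)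
    · intro i hi
      have hy := hx1 _ (R.simple_lt i hi)
      have hy' : n0 * R.xU (C.D.simple i) 1 * n0⁻¹ ∈ fixL σ C.D :=
        Subgroup.mul_mem _ (Subgroup.mul_mem _ hn0L hy) (Subgroup.inv_mem _ hn0L)
      have e := hcomm _ hy'
      calc n0⁻¹ * c * n0 * R.xU (C.D.simple i) 1
          = n0⁻¹ * (c * (n0 * R.xU (C.D.simple i) 1 * n0⁻¹)) * n0 := by group
        _ = n0⁻¹ * ((n0 * R.xU (C.D.simple i) 1 * n0⁻¹) * c) * n0 := by rw [e]
        _ = R.xU (C.D.simple i) 1 * (n0⁻¹ * c * n0) := by group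
  -- hence the element lies in the torus
  obtain ⟨hHU, hdisj⟩ := R.diagonal_normalizes (F := F) Hy.dec M.tri
  have hBset := Subgroup.coe_mul_of_right_le_normalizer_left (C.D.posUnipotent F) (C.D.diagonalSubgroup F) hHU
  have hBV := (R.borel_inf_neg (F := F) Hy.dec M.tri Y.A.ntri).2
  have hcH : c ∈ C.D.diagonalSubgroup F := by
    rw [← hBV]
    refine ⟨h1, ?_⟩
    have hz' : n0⁻¹ * c * n0 ∈
        ((C.D.posUnipotent F ⊔ C.D.diagonalSubgroup F : Subgroup (GL C.D.Idx F)) : Set (GL C.D.Idx F)) := h2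
    rw [hBset, Set.mem_mul] at hz'
    obtain ⟨u, hu, h, hh, huh⟩ := hz'
    have e : c = (n0 * u * n0⁻¹) * (n0 * h * n0⁻¹) := by
      have : n0 * u * n0⁻¹ * (n0 * h * n0⁻¹) = n0 * (u * h) * n0⁻¹ := by group
      rw [this, huh]; group
    rw [e]
    apply Subgroup.mul_mem
    · apply Subgroup.mem_sup_left
      have hle : C.D.posUnipotent F ≤ (C.D.negUnipotent F).comap (MulAut.conj n0).toMonoidHom := by
        conv_lhs => unfold ChevalleyDatum.posUnipotent
        rw [Subgroup.closure_le]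
        rintro x ⟨r, t, hr, hx⟩
        have hx' : x = R.xU r t := Units.ext hx
        subst hx'
        rw [SetLike.mem_coe, Subgroup.mem_comap]
        show n0 * R.xU r t * n0⁻¹ ∈ _
        rw [(hd r hr.1).2 t]
        exact xU_mem_neg Y.A _ (Y.w0neg' r hr) _
      exact hle hu
    · apply Subgroup.mem_sup_right
      exact M.conj_mem n0 hn0N h hh
  obtain ⟨z, rfl⟩ := R.exists_tor Hy.dec c hcH
  rw [R.tor_eq_one_iff]
  funext s
  apply Units.ext
  have hs := s.isLt
  have e1 := tor_conj_xU R z s.val hs (1 : F)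
  have e2 : R.tor z * R.xU s.val 1 * (R.tor z)⁻¹ = R.xU s.val (1 : F) := by
    rw [hcomm _ (hx1 _ hs)]; group
  rw [e2, mul_one] at e1
  have : (1 : F) = (rootChar C.D F z ⟨s.val, hs⟩ : F) := by
    rcases pos_or_neg Y.A s.val hs with hp | hn
    · exact Y.A.U.xU_inj_pos' _ hp _ _ e1
    · exact xU_inj_neg Y.A Y.w0 Y.w0l Y.w0neg' _ hn _ _ e1
  exact this.symm

end

end Cfsg.Agent.Lib.Helper3.ChevSub
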