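import Mathlib
import Cfsg.Prelude.Def_ChevStructure
import Cfsg.Agent.Lib.Helper3.ChevSub2
set_option autoImplicit false
set_option linter.unusedSectionVars false
open Cfsg Cfsg.Lie

/-!
Subfield subgroups of Chevalley groups, part 3: the centralizer and the normalizer of a subgroup between the group
generated by the root elements with fixed parameters and the group of fixed points.
-/

namespace Cfsg.Agent.Lib.Helper3.ChevSub

open Cfsg.Agent.Lib.Helper3.ChevM Cfsg.Agent.Lib.Helper3.ChevAut ChevU ChevT ChevH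

section
variable {F : Type*} [Field F] {C : CDatum} {R : RelData C} (Y : AutHyp C R) (σ : F →+* F)
include Y

/-- The group is stable under the field endomorphism. -/
theorem map_mem_group (g : GL C.D.Idx F) (hg : g ∈ C.D.group F) :
    Matrix.GeneralLinearGroup.map σ g ∈ C.D.group F := by
  have hle : C.D.group F ≤ (C.D.group F).comap (Matrix.GeneralLinearGroup.map σ) := by
    apply R.group_le_of_good
    intro r hr t
    rw [Subgroup.mem_comap, R.map_xU']
    exact R.xU_mem_group r hr _
  exact hle hg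

/-- An element of the torus fixed by `σ` normalizes the subgroup generated by the root elements with fixed
parameters. -/
theorem torus_conj_fixL (h : GL C.D.Idx F) (hh : h ∈ C.D.diagonalSubgroup F)
    (hfix : Matrix.GeneralLinearGroup.map σ h = h) (x : GL C.D.Idx F) (hx : x ∈ fixL σ C.D) :
    h * x * h⁻¹ ∈ fixL σ C.D := by
  obtain ⟨z, rfl⟩ := R.exists_tor Y.A.B.dec h hh
  have hle : fixL σ C.D ≤ (fixL σ C.D).comap (MulAut.conj (R.tor z)).toMonoidHom := by
    conv_lhs => unfold fixL
    rw [Subgroup.closure_le]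
    rintro y ⟨s, t, hs, ht, hy⟩
    have hy' : y = R.xU s t := Units.ext hy
    subst hy'
    rw [SetLike.mem_coe, Subgroup.mem_comap]
    show R.tor z * R.xU s t * (R.tor z)⁻¹ ∈ _
    rw [tor_conj_xU R z s hs t]
    apply R.xU_mem_fixL σ s hs
    rw [map_mul, ht]
    congr 1
    -- the character value is an entry of the matrix
    have e := congrArg (fun g : GL C.D.Idx F => (g : Matrix C.D.Idx C.D.Idx F) (Sum.inr ⟨s, hs⟩) (Sum.inr ⟨s, hs⟩)) hfix
    simp only [Matrix.GeneralLinearGroup.map_apply] at e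
    rw [R.tor_eq_diagU] at e
    simpa [diagU] using e
  exact hle hx

variable (K : Subgroup (GL C.D.Idx F)) (hKG : K ≤ C.D.group F) (hLK : fixL σ C.D ≤ K)
  (hKfix : ∀ g ∈ K, Matrix.GeneralLinearGroup.map σ g = g)
include hKG hLK hKfix

/-- An element of the torus fixed by `σ` normalizes an intermediate subgroup. -/
theorem torus_conj_mem (h : GL C.D.Idx F) (hh : h ∈ C.D.diagonalSubgroup F)
    (hfix : Matrix.GeneralLinearGroup.map σ h = h) (y : GL C.D.Idx F) (hy : y ∈ K) : h * y * h⁻¹ ∈ K := by
  obtain ⟨a, ha, h', hh', -, b, hb, rfl⟩ := group_fixed_decomp σ Y.A.U Y.A.B Y.A.ntri Y.A.sign y (hKG hy) (hKfix y hy)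
  have hh'K : h' ∈ K := by
    have : h' = a⁻¹ * (a * h' * b) * b⁻¹ := by group
    rw [this]
    exact Subgroup.mul_mem _ (Subgroup.mul_mem _ (Subgroup.inv_mem _ (hLK ha)) hy) (Subgroup.inv_mem _ (hLK hb))
  have hcomm : h * h' = h' * h := R.diagonal_comm Y.A.B.dec h h' hh hh'
  have e : h * (a * h' * b) * h⁻¹ = (h * a * h⁻¹) * h' * (h * b * h⁻¹) := by
    calc h * (a * h' * b) * h⁻¹ = (h * a * h⁻¹) * (h * h') * b * h⁻¹ := by group
      _ = (h * a * h⁻¹) * (h' * h) * b * h⁻¹ := by rw [hcomm]
      _ = (h * a * h⁻¹) * h' * (h * b * h⁻¹) := by group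
  rw [e]
  exact Subgroup.mul_mem _ (Subgroup.mul_mem _ (hLK (torus_conj_fixL Y σ h hh hfix a ha)) hh'K)
    (hLK (torus_conj_fixL Y σ h hh hfix b hb))

/-- The centralizer of an intermediate subgroup is trivial and its normalizer is the group of fixed points. -/
theorem centralizer_normalizer :
    C.D.group F ⊓ Subgroup.centralizer (K : Set (GL C.D.Idx F)) = ⊥ ∧
    ∀ g ∈ C.D.group F, (g ∈ Subgroup.normalizer (K : Set (GL C.D.Idx F)) ↔
      Matrix.GeneralLinearGroup.map σ g = g) := by
  have hcent : ∀ c ∈ C.D.group F, (∀ x ∈ K, c * x = x * c) → c = 1 :=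
    fun c hc hcomm => eq_one_of_comm Y σ c hc (fun x hx => hcomm x (hLK hx))
  constructor
  · rw [eq_bot_iff]
    rintro c ⟨hc, hcc⟩
    rw [Subgroup.mem_bot]
    apply hcent c hc
    intro x hx
    exact (Subgroup.mem_centralizer_iff.mp hcc x hx).symm
  · intro g hg
    constructor
    · intro hgN
      set g' := Matrix.GeneralLinearGroup.map σ g with hg'
      have hg'G : g' ∈ C.D.group F := map_mem_group Y σ g hg
      have h1 : g⁻¹ * g' = 1 := by
        apply hcent _ (Subgroup.mul_mem _ (Subgroup.inv_mem _ hg) hg'G)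
        intro x hx
        have hx' : g * x * g⁻¹ ∈ K := (Subgroup.mem_normalizer_iff.mp hgN x).mp hx
        have e := hKfix _ hx'
        rw [map_mul, map_mul, map_inv, hKfix x hx, ← hg'] at e
        -- `g' x g'⁻¹ = g x g⁻¹`
        calc g⁻¹ * g' * x = g⁻¹ * (g' * x * g'⁻¹) * g' := by group
          _ = g⁻¹ * (g * x * g⁻¹) * g' := by rw [e]
          _ = x * (g⁻¹ * g') := by group
      have := congrArg (fun y => g * y) h1
      simpa using this
    · intro hfix
      obtain ⟨a, ha, h, hh, hhfix, b, hb, rfl⟩ := group_fixed_decomp σ Y.A.U Y.A.B Y.A.ntri Y.A.sign g hg hfix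
      have haN : a ∈ Subgroup.normalizer (K : Set (GL C.D.Idx F)) := Subgroup.le_normalizer (hLK ha)
      have hbN : b ∈ Subgroup.normalizer (K : Set (GL C.D.Idx F)) := Subgroup.le_normalizer (hLK hb)
      have hhN : h ∈ Subgroup.normalizer (K : Set (GL C.D.Idx F)) := by
        rw [Subgroup.mem_normalizer_iff]
        intro y
        constructor
        · intro hy
          exact torus_conj_mem Y σ K hKG hLK hKfix h hh hhfix y hy
        · intro hy
          have hinv : Matrix.GeneralLinearGroup.map σ h⁻¹ = h⁻¹ := by rw [map_inv, hhfix]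
          have := torus_conj_mem Y σ K hKG hLK hKfix h⁻¹ (Subgroup.inv_mem _ hh) hinv _ hy
          have e : h⁻¹ * (h * y * h⁻¹) * h⁻¹⁻¹ = y := by group
          rwa [e] at this
      exact Subgroup.mul_mem _ (Subgroup.mul_mem _ haN hhN) hbN

end

end Cfsg.Agent.Lib.Helper3.ChevSub
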