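import Mathlib
import Cfsg.Prelude.Def_ChevStructure
import Cfsg.Agent.Lib.Helper3.ChevSub3
set_option autoImplicit false
set_option linter.unusedSectionVars false
open Cfsg Cfsg.Lie

/-!
Subfield subgroups of Chevalley groups, part 4: the statement for the power maps of the characteristic.
-/

namespace Cfsg.Agent.Lib.Helper3.ChevSub

open Cfsg.Agent.Lib.Helper3.ChevM Cfsg.Agent.Lib.Helper3.ChevAut ChevU ChevT ChevH

section
variable {F : Type*} [Field F] {C : CDatum} {R : RelData C} (Y : AutHyp C R)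

theorem map_eq_iff_entries {ι : Type*} [Fintype ι] [DecidableEq ι] (σ : F →+* F) (q : ℕ) (hσ : ∀ x, σ x = x ^ q)
    (g : GL ι F) :
    Matrix.GeneralLinearGroup.map σ g = g ↔
      ∀ i j : ι, ((g : Matrix ι ι F) i j) ^ q = (g : Matrix ι ι F) i j := by
  constructor
  · intro h i j
    have := congrArg (fun x : GL ι F => (x : Matrix ι ι F) i j) h
    simp only [Matrix.GeneralLinearGroup.map_apply] at this
    rw [← hσ]
    exact this
  · intro h
    apply Units.ext
    ext i j
    rw [Matrix.GeneralLinearGroup.map_apply, hσ]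
    exact h i j

include Y in
/-- The centralizer and the normalizer of a subgroup between the group over the field with `p ^ a` elements and the
group of the matrices with entries in that field. -/
theorem subfield_centralizer_normalizer (p : ℕ) [Fact p.Prime] [CharP F p] (a : ℕ)
    (K : Subgroup (GL C.D.Idx F)) (hKG : K ≤ C.D.group F)
    (hLK : Subgroup.closure {g : GL C.D.Idx F | ∃ (s : ℕ) (t : F), t ^ (p ^ a) = t ∧
      (g : Matrix C.D.Idx C.D.Idx F) = C.D.x F s t} ≤ K)
    (hKfix : ∀ g ∈ K, ∀ i j : C.D.Idx, ((g : Matrix C.D.Idx C.D.Idx F) i j) ^ (p ^ a) =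
      (g : Matrix C.D.Idx C.D.Idx F) i j) :
    C.D.group F ⊓ Subgroup.centralizer (K : Set (GL C.D.Idx F)) = ⊥ ∧
    ∀ g : GL C.D.Idx F, g ∈ C.D.group F → (g ∈ Subgroup.normalizer (K : Set (GL C.D.Idx F)) ↔
      ∀ i j : C.D.Idx, ((g : Matrix C.D.Idx C.D.Idx F) i j) ^ (p ^ a) = (g : Matrix C.D.Idx C.D.Idx F) i j) := by
  have : ExpChar F p := ExpChar.prime Fact.out
  set σ : F →+* F := iterateFrobenius F p a with hσdef
  have hσ : ∀ x, σ x = x ^ (p ^ a) := fun x => iterateFrobenius_def p a x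
  have hL : fixL σ C.D ≤ K := by
    refine le_trans ?_ hLK
    unfold fixL
    apply Subgroup.closure_mono
    rintro g ⟨s, t, -, ht, hg⟩
    exact ⟨s, t, by rw [← hσ]; exact ht, hg⟩
  have hK : ∀ g ∈ K, Matrix.GeneralLinearGroup.map σ g = g :=
    fun g hg => (map_eq_iff_entries σ _ hσ g).mpr (hKfix g hg)
  obtain ⟨h1, h2⟩ := centralizer_normalizer Y σ K hKG hL hK
  refine ⟨h1, fun g hg => ?_⟩
  rw [h2 g hg, map_eq_iff_entries σ _ hσ g]

end

end Cfsg.Agent.Lib.Helper3.ChevSub
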