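import Mathlib
import Cfsg.Agent.Lib.Helper8.Chr8Defs

set_option autoImplicit false

/-! S4751, package K4c: an involution on the dual group of an elementary abelian 2-group with at
most two fixed points forces order at most four. -/

namespace Cfsg.Agent.Lib.Helper8.Chr8

open Cfsg Cfsg.Agent.Lib.Helper8.RDG

universe u

variable {G : Type u} [Group G] [Finite G]

omit [Finite G] in
/-- the dual group is finite. -/
theorem k4c_dual_finite {χ : G → ℂ} (P : Subgroup G) [P.Normal]
    {L : Finset (↥P →* ℂˣ)} (hS : Spec χ P L) : Finite (↥P →* ℂˣ) := by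
  classical
  have h : (Set.univ : Set (↥P →* ℂˣ)) ⊆
      ((insert 1 L : Finset (↥P →* ℂˣ)) : Set (↥P →* ℂˣ)) := by
    intro l _
    by_cases hl : l = 1
    · simp [hl]
    · simp [hS.all_mem l hl]
  exact Set.finite_univ_iff.1 ((Finset.finite_toSet _).subset h)

omit [Finite G] in
/-- the dual group has order `L.card + 1`. -/
theorem k4c_dual_card {χ : G → ℂ} (P : Subgroup G) [P.Normal]
    {L : Finset (↥P →* ℂˣ)} (hS : Spec χ P L) : Nat.card (↥P →* ℂˣ) = L.card + 1 := by
  classical
  have := k4c_dual_finite P hS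
  have : Fintype (↥P →* ℂˣ) := Fintype.ofFinite _
  have h : (Finset.univ : Finset (↥P →* ℂˣ)) = insert 1 L := by
    ext l
    by_cases hl : l = 1
    · simp [hl]
    · simp [hS.all_mem l hl]
  rw [Nat.card_eq_fintype_card, ← Finset.card_univ, h,
    Finset.card_insert_of_notMem hS.one_notMem]

theorem card_le_four {χ : G → ℂ} (P : Subgroup G) [P.Normal]
    {L : Finset (↥P →* ℂˣ)} (hS : Spec χ P L) (hexp : ∀ x ∈ P, x ^ 2 = 1) (g : G) (hg2 : g * g ∈ P)
    (hfix : (fixSet P L g).card ≤ 1) : Nat.card P ≤ 4 := by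
  classical
  have := k4c_dual_finite P hS
  -- exponent two in the dual group
  have hsq : ∀ l : ↥P →* ℂˣ, l * l = 1 := by
    intro l
    ext x
    have hx : x * x = 1 := by
      have h := hexp x x.2
      apply Subtype.ext
      simpa [pow_two] using h
    have h1 : (l * l) x = l (x * x) := by rw [map_mul]; rfl
    rw [h1, hx, map_one]
    rfl
  -- the action of `g` on the dual is an involution
  have hσσ : ∀ l : ↥P →* ℂˣ, conjHom P (conjHom P l g) g = l := by
    intro l
    rw [conjHom_mul']
    ext x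
    rw [conjHom_apply]
    have hx : (⟨g * g * (x : G) * (g * g)⁻¹, ‹P.Normal›.conj_mem x x.2 (g * g)⟩ : P) = x := by
      apply Subtype.ext
      have h := congrArg Subtype.val (hS.comm ⟨g * g, hg2⟩ x)
      have h' : g * g * (x : G) = (x : G) * (g * g) := h
      show g * g * (x : G) * (g * g)⁻¹ = x
      rw [h', mul_inv_cancel_right]
    rw [hx]
  -- the norm map
  let N : (↥P →* ℂˣ) →* (↥P →* ℂˣ) :=
    { toFun := fun l => l * conjHom P l g
      map_one' := by rw [conjHom_one_hom, one_mul]
      map_mul' := fun a b => by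
        rw [conjHom_mul_hom]
        exact mul_mul_mul_comm a b _ _ }
  have hN : ∀ l, N l = l * conjHom P l g := fun _ => rfl
  -- the fixed subgroup
  let F : Subgroup (↥P →* ℂˣ) :=
    { carrier := {l | conjHom P l g = l}
      mul_mem' := by
        intro a b ha hb
        simp only [Set.mem_ofPred_eq] at *
        rw [conjHom_mul_hom, ha, hb]
      one_mem' := conjHom_one_hom P g
      inv_mem' := by
        intro a ha
        simp only [Set.mem_ofPred_eq] at *
        rw [conjHom_inv_hom, ha] }
  have hFmem : ∀ l, l ∈ F ↔ conjHom P l g = l := fun _ => Iff.rfl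
  have hker : N.ker ≤ F := by
    intro l hl
    rw [MonoidHom.mem_ker, hN] at hl
    rw [hFmem]
    exact mul_left_cancel (hl.trans (hsq l).symm)
  have hrange : N.range ≤ F := by
    rintro m ⟨l, rfl⟩
    rw [hFmem, hN, conjHom_mul_hom, hσσ]
    exact mul_comm (conjHom P l g) l
  have hF : Nat.card F ≤ 2 := by
    have hsub : (F : Set (↥P →* ℂˣ)) ⊆
        ((insert 1 (fixSet P L g) : Finset (↥P →* ℂˣ)) : Set (↥P →* ℂˣ)) := by
      intro l hl
      have hl' : conjHom P l g = l := hl
      by_cases h1 : l = 1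
      · simp [h1]
      · have : l ∈ fixSet P L g := (mem_fixSet P L g l).2 ⟨hS.all_mem l h1, hl'⟩
        simp [this]
    calc Nat.card F = Nat.card (F : Set (↥P →* ℂˣ)) := rfl
      _ ≤ Nat.card ((insert 1 (fixSet P L g) : Finset (↥P →* ℂˣ)) : Set (↥P →* ℂˣ)) :=
          Nat.card_mono (Finset.finite_toSet _) hsub
      _ = (insert 1 (fixSet P L g)).card := by
          rw [Nat.card_coe_set_eq, Set.ncard_coe_finset]
      _ ≤ (fixSet P L g).card + 1 := Finset.card_insert_le _ _
      _ ≤ 2 := by omega
  have h1 : Nat.card N.ker ≤ 2 := le_trans (Subgroup.card_le_of_le hker) hF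
  have h2 : Nat.card N.range ≤ 2 := le_trans (Subgroup.card_le_of_le hrange) hF
  have h3 : Nat.card N.ker * Nat.card N.range = Nat.card (↥P →* ℂˣ) := by
    rw [← Subgroup.index_ker]
    exact Subgroup.card_mul_index _
  have h4 : Nat.card (↥P →* ℂˣ) = Nat.card P := by
    rw [k4c_dual_card P hS, hS.card]
  rw [← h4, ← h3]
  calc Nat.card N.ker * Nat.card N.range ≤ 2 * 2 := Nat.mul_le_mul h1 h2
    _ = 4 := rfl

end Cfsg.Agent.Lib.Helper8.Chr8
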