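import Mathlib
import Cfsg.Agent.Lib.Helper8.Chr8Defs

set_option autoImplicit false

/-! S4751, package K4d: an element of the Sylow 2-subgroup outside `P` when `P` has index two in
it, and the divisibility `6 ∣ |G : C_G(P)|` in the exceptional case `|P| = 4`. -/

namespace Cfsg.Agent.Lib.Helper8.Chr8

open Cfsg Cfsg.Agent.Lib.Helper1 Cfsg.Agent.Lib.Helper8.RDG

universe u

variable {G : Type u} [Group G] [Finite G]

theorem exists_outer (P : Subgroup G) (Q : Sylow 2 G) (hPQ : P ≤ Q)
    (hcard : Nat.card Q = 2 * Nat.card P) :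
    ∃ g : G, g ∉ P ∧ g * g ∈ P ∧ ∀ x : P, 2 ∣ orderOf ((x : G) * g) := by
  classical
  have hcardP : Nat.card (P.subgroupOf (Q : Subgroup G)) = Nat.card P :=
    Nat.card_congr (Subgroup.subgroupOfEquivOfLe hPQ).toEquiv
  have hidx : (P.subgroupOf (Q : Subgroup G)).index = 2 := by
    have h := Subgroup.card_mul_index (P.subgroupOf (Q : Subgroup G))
    rw [hcardP] at h
    have hpos : 0 < Nat.card P := Nat.card_pos
    have h' : Nat.card P * (P.subgroupOf (Q : Subgroup G)).index = Nat.card P * 2 := by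
      rw [h, mul_comm]
      exact hcard
    exact Nat.eq_of_mul_eq_mul_left hpos h'
  have hne : (P.subgroupOf (Q : Subgroup G)) ≠ ⊤ := by
    intro h
    rw [h, Subgroup.index_top] at hidx
    omega
  obtain ⟨q, hq⟩ : ∃ q : (Q : Subgroup G), q ∉ P.subgroupOf (Q : Subgroup G) := by
    by_contra hcon
    exact hne (eq_top_iff.2 fun q _ => by
      by_contra hq
      exact hcon ⟨q, hq⟩)
  refine ⟨(q : G), ?_, ?_, ?_⟩
  · intro h
    exact hq (Subgroup.mem_subgroupOf.2 h)
  · have h := Subgroup.mul_self_mem_of_index_two hidx q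
    exact Subgroup.mem_subgroupOf.1 h
  · intro x
    have hxq : (x : G) * q ∈ (Q : Subgroup G) := (Q : Subgroup G).mul_mem (hPQ x.2) q.2
    have hne1 : (x : G) * q ≠ 1 := by
      intro h
      apply hq
      rw [Subgroup.mem_subgroupOf]
      have h' : (q : G) = (x : G)⁻¹ := eq_inv_of_mul_eq_one_right h
      rw [h']
      exact P.inv_mem x.2
    obtain ⟨k, hk⟩ := Q.isPGroup' ⟨(x : G) * q, hxq⟩
    have hk' : ((x : G) * q) ^ 2 ^ k = 1 := by
      have h := congrArg Subtype.val hk
      simpa using h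
    have hdvd : orderOf ((x : G) * q) ∣ 2 ^ k := orderOf_dvd_of_pow_eq_one hk'
    obtain ⟨j, _, hjeq⟩ := (Nat.dvd_prime_pow Nat.prime_two).1 hdvd
    rcases Nat.eq_zero_or_pos j with h0 | hpos
    · exfalso
      rw [h0, pow_zero, orderOf_eq_one_iff] at hjeq
      exact hne1 hjeq
    · rw [hjeq]
      exact dvd_pow_self 2 hpos.ne'

theorem six_dvd_index {χ : G → ℂ} (P : Subgroup G) [P.Normal]
    {L : Finset (↥P →* ℂˣ)} (hS : Spec χ P L) (hP4 : Nat.card P = 4) (g : G) (hg2 : g * g ∈ P)
    (hfix : (fixSet P L g).card ≤ 1) : 6 ∣ (Subgroup.centralizer (P : Set G)).index := by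
  classical
  have hL3 : L.card = 3 := by
    have := hS.card
    omega
  -- the centralizer fixes every linear character
  have hCfix : ∀ c ∈ Subgroup.centralizer (P : Set G), ∀ l : ↥P →* ℂˣ, conjHom P l c = l := by
    intro c hc l
    ext x
    rw [conjHom_apply]
    have hx : (⟨c * (x : G) * c⁻¹, ‹P.Normal›.conj_mem x x.2 c⟩ : P) = x := by
      apply Subtype.ext
      show c * (x : G) * c⁻¹ = x
      have h := (Subgroup.mem_centralizer_iff.1 hc) x x.2
      rw [← h, mul_inv_cancel_right]
    rw [hx]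
  -- `3` divides the index
  obtain ⟨l₀, hl₀⟩ : L.Nonempty := Finset.card_pos.1 (by omega)
  have hl₀ne : l₀ ≠ 1 := fun h => hS.one_notMem (h ▸ hl₀)
  have horb : orbitFinset P (lin P l₀) = L.image (lin P) := by
    ext ψ
    rw [mem_orbitFinset, Finset.mem_image]
    constructor
    · rintro ⟨a, rfl⟩
      refine ⟨conjHom P l₀ a, ?_, (conjFun_lin P l₀ a).symm⟩
      apply hS.all_mem
      intro h
      apply hl₀ne
      have h' := congrArg (fun m => conjHom P m a⁻¹) h
      simp only [conjHom_mul', mul_inv_cancel, conjHom_one, conjHom_one_hom] at h'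
      exact h'
    · rintro ⟨m, hm, rfl⟩
      obtain ⟨a, ha⟩ := hS.trans l₀ hl₀ m hm
      exact ⟨a, by rw [conjFun_lin, ha]⟩
  have hidx : (inertia P (lin P l₀)).index = 3 := by
    rw [← card_orbitFinset, horb, Finset.card_image_of_injective _ (lin_injective P), hL3]
  have hCT : Subgroup.centralizer (P : Set G) ≤ inertia P (lin P l₀) := by
    intro c hc
    rw [mem_inertia, conjFun_lin, hCfix c hc]
  have h3 : 3 ∣ (Subgroup.centralizer (P : Set G)).index := by
    rw [← hidx]
    exact Subgroup.index_dvd_of_le hCT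
  -- `2` divides the index
  have hgC : g ∉ Subgroup.centralizer (P : Set G) := by
    intro hg
    have h : fixSet P L g = L := by
      ext l
      rw [mem_fixSet]
      exact ⟨fun h => h.1, fun h => ⟨h, hCfix g hg l⟩⟩
    rw [h] at hfix
    omega
  have hPC : P ≤ Subgroup.centralizer (P : Set G) := by
    intro y hy
    rw [Subgroup.mem_centralizer_iff]
    intro x hx
    exact congrArg Subtype.val (hS.comm ⟨x, hx⟩ ⟨y, hy⟩)
  have h2 : 2 ∣ (Subgroup.centralizer (P : Set G)).index := by
    have ho : orderOf (QuotientGroup.mk g : G ⧸ Subgroup.centralizer (P : Set G)) = 2 := by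
      apply orderOf_eq_prime
      · rw [pow_two, ← QuotientGroup.mk_mul, QuotientGroup.eq_one_iff]
        exact hPC hg2
      · rw [Ne, QuotientGroup.eq_one_iff]
        exact hgC
    rw [Subgroup.index_eq_card, ← ho]
    exact orderOf_dvd_natCard _
  exact Nat.Coprime.mul_dvd_of_dvd_of_dvd (by norm_num) h2 h3

end Cfsg.Agent.Lib.Helper8.Chr8
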