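import Mathlib
import Cfsg.Agent.Lib.Helper3.Gen1

set_option autoImplicit false

namespace Cfsg.Agent.Lib.Helper3.ConstStab
open Cfsg.Agent.Lib.Helper3.Gen MulAction

variable {P E : Type*} [Group P] [AddCommGroup E] [DistribMulAction P E]

/-- the fixed points of a subgroup -/
def fixedBy (B : Subgroup P) : AddSubgroup E where
  carrier := {e | ∀ x ∈ B, x • e = e}
  zero_mem' := fun x _ => smul_zero x
  add_mem' := fun ha hb x hx => by rw [smul_add, ha x hx, hb x hx]
  neg_mem' := fun ha x hx => by rw [smul_neg, ha x hx]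

theorem mem_fixedBy {B : Subgroup P} {e : E} : e ∈ fixedBy B ↔ ∀ x ∈ B, x • e = e := Iff.rfl

theorem fixedBy_anti {B C : Subgroup P} (h : B ≤ C) : (fixedBy C : AddSubgroup E) ≤ fixedBy B :=
  fun _ he x hx => he x (h hx)

/-- a vector fixed by two subgroups is fixed by their join -/
theorem mem_fixedBy_sup {B C : Subgroup P} {e : E} (hB : e ∈ fixedBy B) (hC : e ∈ fixedBy C) :
    e ∈ fixedBy (B ⊔ C) := by
  intro x hx
  have h1 : B ⊔ C ≤ stabilizer P e := by
    apply sup_le
    · intro y hy; exact mem_stabilizer_iff.mpr (hB y hy)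
    · intro y hy; exact mem_stabilizer_iff.mpr (hC y hy)
  exact mem_stabilizer_iff.mp (h1 hx)

theorem smul_mem_fixedBy_map (g : P) {B : Subgroup P} {e : E} (he : e ∈ fixedBy B) :
    g • e ∈ fixedBy (B.map (MulAut.conj g).toMonoidHom) := by
  rintro _ ⟨x, hx, rfl⟩
  simp only [MulEquiv.coe_toMonoidHom, MulAut.conj_apply]
  rw [mul_smul, mul_smul, inv_smul_smul, he x hx]

variable [Finite P]

/-- the trace over a subgroup -/
noncomputable def sig (B : Subgroup P) : E →+ E :=
  ∑ x ∈ elems B, DistribSMul.toAddMonoidHom E x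

theorem sig_apply (B : Subgroup P) (e : E) : sig B e = ∑ x ∈ elems B, x • e := by
  simp [sig]

theorem smul_sig (g : P) (B : Subgroup P) (e : E) :
    g • sig B e = sig (B.map (MulAut.conj g).toMonoidHom) (g • e) := by
  rw [sig_apply, sig_apply, Finset.smul_sum]
  apply Finset.sum_nbij' (fun x => g * x * g⁻¹) (fun y => g⁻¹ * y * g)
  · intro x hx
    rw [mem_elems] at hx ⊢
    exact ⟨x, hx, rfl⟩
  · intro y hy
    rw [mem_elems] at hy ⊢
    obtain ⟨x, hx, rfl⟩ := hy
    simp only [MulEquiv.coe_toMonoidHom, MulAut.conj_apply]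
    have : g⁻¹ * (g * x * g⁻¹) * g = x := by group
    rw [this]; exact hx
  · intro x _; group
  · intro y _; group
  · intro x _
    rw [mul_smul, mul_smul, inv_smul_smul]

theorem smul_sig_of_mem (B : Subgroup P) {g : P} (hg : g ∈ B) (e : E) : g • sig B e = sig B e := by
  rw [sig_apply, Finset.smul_sum]
  apply Finset.sum_nbij' (fun x => g * x) (fun y => g⁻¹ * y)
  · intro x hx; rw [mem_elems] at hx ⊢; exact B.mul_mem hg hx
  · intro y hy; rw [mem_elems] at hy ⊢; exact B.mul_mem (B.inv_mem hg) hy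
  · intro x _; group
  · intro y _; group
  · intro x _; rw [mul_smul]

theorem sig_mem_fixedBy (B : Subgroup P) (e : E) : sig B e ∈ fixedBy B :=
  fun _ hx => smul_sig_of_mem B hx e

theorem sig_of_mem_fixedBy {B : Subgroup P} {e : E} (he : e ∈ fixedBy B) :
    sig B e = Nat.card B • e := by
  rw [sig_apply, Finset.sum_congr rfl (fun x hx => he x (mem_elems.mp hx)), Finset.sum_const,
    card_elems]

open Classical in
theorem sig_eq_add (B : Subgroup P) (e : E) :
    sig B e = e + ∑ x ∈ (elems B).erase 1, x • e := by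
  rw [sig_apply, ← Finset.add_sum_erase (elems B) _ (mem_elems.mpr B.one_mem), one_smul]

/-- a normalizing element commutes with the trace -/
theorem smul_sig_of_normalizes (B : Subgroup P) {g : P}
    (hg : B.map (MulAut.conj g).toMonoidHom = B) (e : E) : g • sig B e = sig B (g • e) := by
  rw [smul_sig, hg]


open Cfsg.Agent.Lib.Helper3.Gen MulAction

variable {P E : Type*} [Group P] [AddCommGroup E] [DistribMulAction P E]

/-- multiplication by a number prime to the exponent is invertible -/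
theorem eq_zero_of_nsmul_eq_zero {q : ℕ} (hE : ∀ e : E, q • e = 0) {n : ℕ} (hn : n.Coprime q)
    {e : E} (h : n • e = 0) : e = 0 := by
  have h1 : ((n : ℤ) * Nat.gcdA n q + (q : ℤ) * Nat.gcdB n q) • e = e := by
    rw [← Nat.gcd_eq_gcd_ab, hn]
    simp
  rw [add_smul, mul_comm (n : ℤ), mul_comm (q : ℤ), mul_smul, mul_smul, natCast_zsmul, natCast_zsmul,
    h, hE, smul_zero, smul_zero, add_zero] at h1
  exact h1.symm

variable [Finite P]

open Classical in
/-- the counting identity for the traces of the subgroups of order `p` -/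
theorem sum_sig_lines {p : ℕ} [hp : Fact p.Prime] {A : Subgroup P}
    (hA : ∀ a ∈ A, a ^ p = 1) (hcard : Nat.card A = p ^ 2) (e : E) :
    ∑ D ∈ linesOf p A, sig D e = p • e + sig A e := by
  have h1 : ∀ D ∈ linesOf p A, sig D e = e + ∑ d ∈ (elems D).erase 1, d • e :=
    fun D _ => sig_eq_add D e
  rw [Finset.sum_congr rfl h1, Finset.sum_add_distrib, Finset.sum_const, card_linesOf hA hcard,
    ← Finset.sum_biUnion (lines_disjoint A), ← erase_elems_eq_biUnion hA, sig_eq_add A e,
    succ_nsmul, add_assoc]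

/-- if all the subgroups of order `p` of `A` and `A` itself have no nonzero fixed points, then
the module is trivial -/
theorem eq_zero_of_fixedBy_lines {p q : ℕ} [hp : Fact p.Prime] (hE : ∀ e : E, q • e = 0)
    (hpq : p.Coprime q) {A : Subgroup P} (hA : ∀ a ∈ A, a ^ p = 1) (hcard : Nat.card A = p ^ 2)
    (hA0 : (fixedBy A : AddSubgroup E) = ⊥)
    (S : AddSubgroup E) (hS : ∀ D ∈ linesOf p A, (fixedBy D : AddSubgroup E) ≤ S) (e : E) :
    e ∈ S := by
  have h1 := sum_sig_lines hA hcard e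
  have h2 : sig A e = 0 := by
    have := sig_mem_fixedBy A e
    rwa [hA0, AddSubgroup.mem_bot] at this
  rw [h2, add_zero] at h1
  have h3 : p • e ∈ S := by
    rw [← h1]
    exact S.sum_mem (fun D hD => hS D hD (sig_mem_fixedBy D e))
  -- invert `p`
  have h4 : ((p : ℤ) * Nat.gcdA p q + (q : ℤ) * Nat.gcdB p q) • e = e := by
    rw [← Nat.gcd_eq_gcd_ab, hpq]
    simp
  rw [add_smul, mul_comm (p : ℤ), mul_comm (q : ℤ), mul_smul, mul_smul, natCast_zsmul,
    natCast_zsmul, hE, smul_zero, add_zero] at h4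
  rw [← h4]
  exact S.zsmul_mem h3 _


open Cfsg.Agent.Lib.Helper3.Gen MulAction

variable {P E : Type*} [Group P] [AddCommGroup E] [DistribMulAction P E] [Finite P]

theorem stabilizer_eq_of_le
    (hconst : ∀ a b : E, a ≠ 0 → b ≠ 0 → Nat.card (stabilizer P a) = Nat.card (stabilizer P b))
    {a c : E} (ha : a ≠ 0) (hc : c ≠ 0) (h : stabilizer P c ≤ stabilizer P a) :
    stabilizer P c = stabilizer P a :=
  Subgroup.eq_of_le_of_card_ge h (hconst a c ha hc).le

omit [Finite P] in
/-- a subgroup fixing every vector is trivial -/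
theorem eq_bot_of_forall_smul_eq [FaithfulSMul P E] {N : Subgroup P}
    (h : ∀ g ∈ N, ∀ e : E, g • e = e) : N = ⊥ := by
  rw [eq_bot_iff]
  intro g hg
  rw [Subgroup.mem_bot]
  apply FaithfulSMul.eq_of_smul_eq_smul (α := E)
  intro e
  rw [h g hg e, one_smul]

/-- if the module is the direct sum of two nonzero invariant subgroups then all stabilizers of
nonzero vectors are trivial -/
theorem stabilizer_eq_bot_of_decomp [FaithfulSMul P E]
    (hconst : ∀ a b : E, a ≠ 0 → b ≠ 0 → Nat.card (stabilizer P a) = Nat.card (stabilizer P b))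
    (E₀ E₁ : AddSubgroup E)
    (h0 : ∀ g : P, ∀ e ∈ E₀, g • e ∈ E₀) (h1 : ∀ g : P, ∀ e ∈ E₁, g • e ∈ E₁)
    (hinf : E₀ ⊓ E₁ = ⊥) (hsup : E₀ ⊔ E₁ = ⊤) (hne0 : E₀ ≠ ⊥) (hne1 : E₁ ≠ ⊥) :
    ∀ c : E, c ≠ 0 → stabilizer P c = ⊥ := by
  have key : ∀ a ∈ E₀, a ≠ 0 → ∀ b ∈ E₁, b ≠ 0 → stabilizer P a = stabilizer P b := by
    intro a ha ha0 b hb hb0
    have hab : a + b ≠ 0 := by
      intro h
      have h2 : a = -b := eq_neg_of_add_eq_zero_left h
      have h3 : a ∈ E₀ ⊓ E₁ := ⟨ha, by rw [h2]; exact E₁.neg_mem hb⟩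
      rw [hinf, AddSubgroup.mem_bot] at h3
      exact ha0 h3
    have hsub : ∀ g ∈ stabilizer P (a + b), g • a = a ∧ g • b = b := by
      intro g hg
      rw [mem_stabilizer_iff, smul_add] at hg
      have h2 : g • a - a = b - g • b := by
        rw [sub_eq_sub_iff_add_eq_add, hg, add_comm]
      have h3 : g • a - a ∈ E₀ ⊓ E₁ :=
        ⟨E₀.sub_mem (h0 g a ha) ha, by rw [h2]; exact E₁.sub_mem hb (h1 g b hb)⟩
      rw [hinf, AddSubgroup.mem_bot] at h3
      refine ⟨sub_eq_zero.mp h3, ?_⟩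
      rw [h3] at h2
      exact (sub_eq_zero.mp h2.symm).symm
    have e1 := stabilizer_eq_of_le hconst ha0 hab
      (fun g hg => mem_stabilizer_iff.mpr (hsub g hg).1)
    have e2 := stabilizer_eq_of_le hconst hb0 hab
      (fun g hg => mem_stabilizer_iff.mpr (hsub g hg).2)
    rw [← e1, e2]
  obtain ⟨⟨a₀, ha₀⟩, ha₀0⟩ := (AddSubgroup.ne_bot_iff_exists_ne_zero).mp hne0
  obtain ⟨⟨b₀, hb₀⟩, hb₀0⟩ := (AddSubgroup.ne_bot_iff_exists_ne_zero).mp hne1
  have ha₀0' : a₀ ≠ 0 := fun h => ha₀0 (Subtype.ext h)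
  have hb₀0' : b₀ ≠ 0 := fun h => hb₀0 (Subtype.ext h)
  have hN : stabilizer P a₀ = ⊥ := by
    apply eq_bot_of_forall_smul_eq (E := E)
    intro g hg e
    have he : e ∈ E₀ ⊔ E₁ := by rw [hsup]; trivial
    obtain ⟨x, hx, y, hy, rfl⟩ := AddSubgroup.mem_sup.mp he
    have hgx : g • x = x := by
      by_cases hx0 : x = 0
      · rw [hx0, smul_zero]
      · have : stabilizer P x = stabilizer P a₀ := by
          rw [key x hx hx0 b₀ hb₀ hb₀0', ← key a₀ ha₀ ha₀0' b₀ hb₀ hb₀0']
        rw [← this] at hg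
        exact mem_stabilizer_iff.mp hg
    have hgy : g • y = y := by
      by_cases hy0 : y = 0
      · rw [hy0, smul_zero]
      · have : stabilizer P y = stabilizer P a₀ := (key a₀ ha₀ ha₀0' y hy hy0).symm
        rw [← this] at hg
        exact mem_stabilizer_iff.mp hg
    rw [smul_add, hgx, hgy]
  intro c hc
  have := hconst c a₀ hc ha₀0'
  rw [hN, Subgroup.card_bot] at this
  exact Subgroup.card_eq_one.mp this


open Cfsg.Agent.Lib.Helper3.Gen MulAction

variable {P E : Type*} [Group P] [AddCommGroup E] [DistribMulAction P E]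

theorem exists_zsmul_inv {q : ℕ} (hE : ∀ e : E, q • e = 0) {n : ℕ} (hn : n.Coprime q) :
    ∃ u : ℤ, ∀ e : E, (u * (n : ℤ)) • e = e := by
  refine ⟨Nat.gcdA n q, fun e => ?_⟩
  have h1 : ((n : ℤ) * Nat.gcdA n q + (q : ℤ) * Nat.gcdB n q) • e = e := by
    rw [← Nat.gcd_eq_gcd_ab, hn]
    simp
  rw [add_smul, mul_comm (q : ℤ), mul_smul _ (q : ℤ), natCast_zsmul, hE, smul_zero, add_zero,
    mul_comm] at h1
  exact h1

variable [Finite P]

/-- if some nonzero vector has a nontrivial stabilizer, then a nontrivial normal subgroup of order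
prime to `q` has no nonzero fixed points -/
theorem fixedBy_eq_bot_of_normal [FaithfulSMul P E]
    (hconst : ∀ a b : E, a ≠ 0 → b ≠ 0 → Nat.card (stabilizer P a) = Nat.card (stabilizer P b))
    {q : ℕ} (hE : ∀ e : E, q • e = 0) (B : Subgroup P) [hBn : B.Normal]
    (hB : (Nat.card B).Coprime q) (hB1 : B ≠ ⊥)
    (hns : ∃ c : E, c ≠ 0 ∧ stabilizer P c ≠ ⊥) : (fixedBy B : AddSubgroup E) = ⊥ := by
  by_contra h0
  obtain ⟨c, hc0, hc⟩ := hns
  apply hc
  have hconj : ∀ g : P, B.map (MulAut.conj g).toMonoidHom = B := fun g => Subgroup.Normal.conj_smul_eq_self g B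
  obtain ⟨u, hu⟩ := exists_zsmul_inv hE hB
  have hinf : (fixedBy B : AddSubgroup E) ⊓ (sig B : E →+ E).ker = ⊥ := by
    rw [eq_bot_iff]
    rintro e ⟨he1, he2⟩
    rw [AddSubgroup.mem_bot]
    have he2' : sig B e = 0 := he2
    rw [sig_of_mem_fixedBy he1] at he2'
    exact eq_zero_of_nsmul_eq_zero hE hB he2'
  have hsup : (fixedBy B : AddSubgroup E) ⊔ (sig B : E →+ E).ker = ⊤ := by
    rw [eq_top_iff]
    intro e _
    have h1 : u • sig B e ∈ (fixedBy B : AddSubgroup E) :=
      AddSubgroup.zsmul_mem _ (sig_mem_fixedBy B e) u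
    have h2 : e - u • sig B e ∈ (sig B : E →+ E).ker := by
      show sig B (e - u • sig B e) = 0
      rw [map_sub, map_zsmul, sig_of_mem_fixedBy (sig_mem_fixedBy B e), ← natCast_zsmul,
        ← mul_smul, hu, sub_self]
    have h3 : e = u • sig B e + (e - u • sig B e) := by abel
    rw [h3]
    exact AddSubgroup.add_mem _ (AddSubgroup.mem_sup_left h1) (AddSubgroup.mem_sup_right h2)
  have hne1 : (sig B : E →+ E).ker ≠ ⊥ := by
    intro h
    rw [h, sup_bot_eq] at hsup
    apply hB1
    apply eq_bot_of_forall_smul_eq (E := E)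
    intro g hg e
    have : e ∈ (fixedBy B : AddSubgroup E) := by rw [hsup]; trivial
    exact this g hg
  exact stabilizer_eq_bot_of_decomp hconst (fixedBy B) (sig B : E →+ E).ker
    (fun g e he => by
      have := smul_mem_fixedBy_map g he
      rwa [hconj g] at this)
    (fun g e he => by
      show sig B (g • e) = 0
      rw [← smul_sig_of_normalizes B (hconj g), show sig B e = 0 from he, smul_zero])
    hinf hsup h0 hne1 c hc0

end Cfsg.Agent.Lib.Helper3.ConstStab
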