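import Mathlib
import Cfsg.Agent.Lib.Helper3.ConstStab1
import Cfsg.Agent.Lib.Helper3.OddOrder

set_option autoImplicit false

namespace Cfsg.Agent.Lib.Helper3.ConstStab
open Cfsg.Agent.Lib.Helper3.Gen MulAction Cfsg.Agent.Lib.Helper3

variable {P E : Type*} [Group P] [AddCommGroup E] [DistribMulAction P E] [Finite P]

/-- two distinct subgroups of order `p` of a group of order `p ^ 2` generate it -/
theorem sup_lines_eq {p : ℕ} [hp : Fact p.Prime] {A D₁ D₂ : Subgroup P}
    (hcard : Nat.card A = p ^ 2) (h1 : D₁ ∈ linesOf p A) (h2 : D₂ ∈ linesOf p A) (hne : D₁ ≠ D₂) :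
    D₁ ⊔ D₂ = A := by
  obtain ⟨h1A, h1c⟩ := mem_linesOf.mp h1
  obtain ⟨h2A, h2c⟩ := mem_linesOf.mp h2
  have hle : D₁ ⊔ D₂ ≤ A := sup_le h1A h2A
  have hdvd : Nat.card ↥(D₁ ⊔ D₂) ∣ p ^ 2 := by rw [← hcard]; exact Subgroup.card_dvd_of_le hle
  obtain ⟨i, hi, hci⟩ := (Nat.dvd_prime_pow hp.out).mp hdvd
  have hp1 : p ∣ Nat.card ↥(D₁ ⊔ D₂) := by
    rw [← h1c]; exact Subgroup.card_dvd_of_le le_sup_left
  interval_cases i
  · rw [hci, pow_zero] at hp1
    exact absurd (Nat.le_of_dvd one_pos hp1) (by have := hp.out.two_le; omega)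
  · exfalso
    apply hne
    have e1 : D₁ = D₁ ⊔ D₂ := Subgroup.eq_of_le_of_card_ge le_sup_left (by rw [hci, h1c, pow_one])
    have e2 : D₂ = D₁ ⊔ D₂ := Subgroup.eq_of_le_of_card_ge le_sup_right (by rw [hci, h2c, pow_one])
    rw [e1]; exact e2.symm
  · exact Subgroup.eq_of_le_of_card_ge hle (by rw [hci, hcard])

omit [Finite P] in
/-- in an abelian group conjugation fixes every subgroup -/
theorem map_conj_eq_of_comm {A D : Subgroup P} (hA : IsMulCommutative A) (hD : D ≤ A) {y : P}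
    (hy : y ∈ A) : D.map (MulAut.conj y).toMonoidHom = D := by
  have hc : ∀ x ∈ D, y * x * y⁻¹ = x := by
    intro x hx
    have h1 : (⟨y, hy⟩ : A) * ⟨x, hD hx⟩ = ⟨x, hD hx⟩ * ⟨y, hy⟩ := hA.is_comm.comm _ _
    have h2 : y * x = x * y := congrArg Subtype.val h1
    rw [h2]; group
  ext z
  constructor
  · rintro ⟨x, hx, rfl⟩
    simp only [MulEquiv.coe_toMonoidHom, MulAut.conj_apply]
    rw [hc x hx]; exact hx
  · intro hz
    exact ⟨z, hz, by simp only [MulEquiv.coe_toMonoidHom, MulAut.conj_apply]; exact hc z hz⟩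

/-- the trace over a line kills the fixed points of a different line -/
theorem sig_eq_zero_of_ne {p : ℕ} [hp : Fact p.Prime] {A D₁ D₂ : Subgroup P}
    (hA : IsMulCommutative A) (hcard : Nat.card A = p ^ 2)
    (hA0 : (fixedBy A : AddSubgroup E) = ⊥)
    (h1 : D₁ ∈ linesOf p A) (h2 : D₂ ∈ linesOf p A) (hne : D₁ ≠ D₂) {c : E}
    (hc : c ∈ fixedBy D₂) : sig D₁ c = 0 := by
  have h3 : sig D₁ c ∈ fixedBy D₁ := sig_mem_fixedBy D₁ c
  have h4 : sig D₁ c ∈ fixedBy D₂ := by
    intro y hy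
    rw [smul_sig_of_normalizes D₁ (map_conj_eq_of_comm hA (mem_linesOf.mp h1).1
      ((mem_linesOf.mp h2).1 hy)), hc y hy]
  have h5 := mem_fixedBy_sup h3 h4
  rw [sup_lines_eq hcard h1 h2 hne, hA0, AddSubgroup.mem_bot] at h5
  exact h5

/-- the fixed points of two different lines meet trivially -/
theorem fixedBy_inf_eq_bot {p : ℕ} [hp : Fact p.Prime] {A D₁ D₂ : Subgroup P}
    (hcard : Nat.card A = p ^ 2) (hA0 : (fixedBy A : AddSubgroup E) = ⊥)
    (h1 : D₁ ∈ linesOf p A) (h2 : D₂ ∈ linesOf p A) (hne : D₁ ≠ D₂) {c : E}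
    (hc1 : c ∈ fixedBy D₁) (hc2 : c ∈ fixedBy D₂) : c = 0 := by
  have h5 := mem_fixedBy_sup hc1 hc2
  rw [sup_lines_eq hcard h1 h2 hne, hA0, AddSubgroup.mem_bot] at h5
  exact h5

omit [Finite P] in
/-- an element of odd order whose square fixes a vector fixes it -/
theorem smul_eq_of_sq_smul_eq {g : P} (hg : Odd (orderOf g)) {a : E} (h : (g * g) • a = a) :
    g • a = a := by
  obtain ⟨n, hn⟩ := exists_pow_sq_eq_of_odd_order g hg
  have h1 : g = (g * g) ^ n := by
    conv_lhs => rw [← hn]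
    rw [← pow_two, ← pow_two, ← pow_mul, ← pow_mul, mul_comm]
  have h2 : (g * g) ^ n ∈ stabilizer P a := Subgroup.pow_mem _ (mem_stabilizer_iff.mpr h) n
  rw [← h1] at h2
  exact mem_stabilizer_iff.mp h2

/-- lines are permuted by conjugation when `A` is normal -/
theorem map_conj_mem_linesOf {p : ℕ} {A D : Subgroup P} [hAn : A.Normal] (h : D ∈ linesOf p A)
    (g : P) : D.map (MulAut.conj g).toMonoidHom ∈ linesOf p A := by
  obtain ⟨hDA, hDc⟩ := mem_linesOf.mp h
  rw [mem_linesOf]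
  constructor
  · have := Subgroup.map_mono (f := (MulAut.conj g).toMonoidHom) hDA
    have h2 : A.map (MulAut.conj g).toMonoidHom = A := Subgroup.Normal.conj_smul_eq_self g A
    rwa [h2] at this
  · rw [Subgroup.card_map_of_injective (MulAut.conj g).injective, hDc]


open Cfsg.Agent.Lib.Helper3.Gen MulAction Cfsg.Agent.Lib.Helper3

variable {P E : Type*} [Group P] [AddCommGroup E] [DistribMulAction P E] [Finite P]

/-- the key step: an element fixing `a + b` with `a`, `b` fixed by different lines fixes `a` -/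
theorem smul_eq_of_smul_add_eq {p q : ℕ} [hp : Fact p.Prime] (hE : ∀ e : E, q • e = 0)
    (hpq : p.Coprime q) {A D₁ D₂ : Subgroup P} [hAn : A.Normal]
    (hA : IsMulCommutative A) (hcard : Nat.card A = p ^ 2)
    (hA0 : (fixedBy A : AddSubgroup E) = ⊥)
    (h1 : D₁ ∈ linesOf p A) (h2 : D₂ ∈ linesOf p A) (hne : D₁ ≠ D₂) {a b : E}
    (ha : a ∈ fixedBy D₁) (hb : b ∈ fixedBy D₂) {g : P} (hgo : Odd (orderOf g))
    (hg : g • (a + b) = a + b) : g • a = a := by
  have hD₁c : Nat.card D₁ = p := (mem_linesOf.mp h1).2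
  set D₁' := D₁.map (MulAut.conj g).toMonoidHom with hD₁'
  set D₂' := D₂.map (MulAut.conj g).toMonoidHom with hD₂'
  have h1' : D₁' ∈ linesOf p A := map_conj_mem_linesOf h1 g
  have h2' : D₂' ∈ linesOf p A := map_conj_mem_linesOf h2 g
  have hne' : D₁' ≠ D₂' := fun h => hne (Subgroup.map_injective (MulAut.conj g).injective h)
  have hga : g • a ∈ fixedBy D₁' := smul_mem_fixedBy_map g ha
  have hgb : g • b ∈ fixedBy D₂' := smul_mem_fixedBy_map g hb
  rw [smul_add] at hg
  have hsum : sig D₁ (g • a) + sig D₁ (g • b) = p • a := by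
    rw [← map_add, hg, map_add, sig_of_mem_fixedBy ha, hD₁c,
      sig_eq_zero_of_ne hA hcard hA0 h1 h2 hne hb, add_zero]
  by_cases hcase : D₁' = D₁
  · -- `g` normalizes `D₁`
    have hga' : g • a ∈ fixedBy D₁ := by rw [← hcase]; exact hga
    have h3 : sig D₁ (g • b) = 0 := by
      apply sig_eq_zero_of_ne hA hcard hA0 h1 h2' _ hgb
      intro h; apply hne'; rw [hcase]; exact h
    rw [h3, add_zero, sig_of_mem_fixedBy hga', hD₁c] at hsum
    have h4 : p • (g • a - a) = 0 := by rw [smul_sub, hsum, sub_self]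
    exact sub_eq_zero.mp (eq_zero_of_nsmul_eq_zero hE hpq h4)
  · -- `g` moves `D₁`
    have h3 : sig D₁ (g • a) = 0 :=
      sig_eq_zero_of_ne hA hcard hA0 h1 h1' (fun h => hcase h.symm) hga
    rw [h3, zero_add] at hsum
    by_cases ha0 : a = 0
    · rw [ha0, smul_zero]
    have hcase2 : D₂' = D₁ := by
      by_contra hc2
      have h4 := sig_eq_zero_of_ne hA hcard hA0 h1 h2' (fun h => hc2 h.symm) hgb
      rw [h4] at hsum
      exact ha0 (eq_zero_of_nsmul_eq_zero hE hpq hsum.symm)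
    have hgb' : g • b ∈ fixedBy D₁ := by rw [← hcase2]; exact hgb
    rw [sig_of_mem_fixedBy hgb', hD₁c] at hsum
    have h4 : p • (g • b - a) = 0 := by rw [smul_sub, hsum, sub_self]
    have hgba : g • b = a := sub_eq_zero.mp (eq_zero_of_nsmul_eq_zero hE hpq h4)
    have hgab : g • a = b := by
      rw [hgba] at hg
      exact add_right_cancel (hg.trans (add_comm a b))
    apply smul_eq_of_sq_smul_eq hgo
    rw [mul_smul, hgab, hgba]

/-- nonzero vectors fixed by different lines have the same stabilizer -/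
theorem stabilizer_eq_of_lines {p q : ℕ} [hp : Fact p.Prime] (hp2 : p ≠ 2) (hP : IsPGroup p P)
    (hconst : ∀ a b : E, a ≠ 0 → b ≠ 0 → Nat.card (stabilizer P a) = Nat.card (stabilizer P b))
    (hE : ∀ e : E, q • e = 0)
    (hpq : p.Coprime q) {A D₁ D₂ : Subgroup P} [hAn : A.Normal]
    (hA : IsMulCommutative A) (hcard : Nat.card A = p ^ 2)
    (hA0 : (fixedBy A : AddSubgroup E) = ⊥)
    (h1 : D₁ ∈ linesOf p A) (h2 : D₂ ∈ linesOf p A) (hne : D₁ ≠ D₂) {a b : E}
    (ha : a ∈ fixedBy D₁) (hb : b ∈ fixedBy D₂) (ha0 : a ≠ 0) (hb0 : b ≠ 0) :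
    stabilizer P a = stabilizer P b := by
  have hodd : ∀ g : P, Odd (orderOf g) := by
    intro g
    obtain ⟨k, hk⟩ := (IsPGroup.iff_orderOf.mp hP) g
    rw [hk]
    exact Odd.pow (hp.out.eq_two_or_odd'.resolve_left hp2)
  have hab : a + b ≠ 0 := by
    intro h
    have h3 : a = -b := eq_neg_of_add_eq_zero_left h
    have h4 : a ∈ fixedBy D₂ := by rw [h3]; exact AddSubgroup.neg_mem _ hb
    exact ha0 (fixedBy_inf_eq_bot hcard hA0 h1 h2 hne ha h4)
  have e1 := stabilizer_eq_of_le hconst ha0 hab (fun g hg => mem_stabilizer_iff.mpr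
    (smul_eq_of_smul_add_eq hE hpq hA hcard hA0 h1 h2 hne ha hb (hodd g) (mem_stabilizer_iff.mp hg)))
  have e2 := stabilizer_eq_of_le hconst hb0 hab (fun g hg => mem_stabilizer_iff.mpr
    (smul_eq_of_smul_add_eq hE hpq hA hcard hA0 h2 h1 hne.symm hb ha (hodd g)
      (by rw [add_comm]; exact mem_stabilizer_iff.mp hg)))
  rw [← e1, e2]

end Cfsg.Agent.Lib.Helper3.ConstStab
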