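import Mathlib
import Cfsg.Agent.Lib.Helper3.ConstStab2
import Cfsg.Agent.Lib.Lead.NormalRankTwo

set_option autoImplicit false

namespace Cfsg.Agent.Lib.Helper3.ConstStab
open Cfsg.Agent.Lib.Helper3.Gen MulAction Cfsg.Agent.Lib.Helper3

variable {P E : Type*} [Group P] [AddCommGroup E] [DistribMulAction P E] [Finite P]

theorem coprime_card_subgroup {p q : ℕ} [hp : Fact p.Prime] (hP : IsPGroup p P) (hq : q.Prime)
    (hpq : p ≠ q) (B : Subgroup P) : (Nat.card B).Coprime q := by
  obtain ⟨k, hk⟩ := IsPGroup.iff_card.mp (hP.to_subgroup B)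
  rw [hk]
  exact Nat.Coprime.pow_left k ((Nat.coprime_primes hp.out hq).mpr hpq)

/-- in the coprime case the action is semiregular -/
theorem semiregular [FaithfulSMul P E] {p q : ℕ} [hp : Fact p.Prime] (hp2 : p ≠ 2)
    (hP : IsPGroup p P) (hq : q.Prime) (hE : ∀ e : E, q • e = 0)
    (hconst : ∀ a b : E, a ≠ 0 → b ≠ 0 → Nat.card (stabilizer P a) = Nat.card (stabilizer P b))
    (hpq : p ≠ q) : ∀ c : E, c ≠ 0 → stabilizer P c = ⊥ := by
  by_contra hcon
  push Not at hcon
  obtain ⟨c, hc0, hc⟩ := hcon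
  have hns : ∃ c : E, c ≠ 0 ∧ stabilizer P c ≠ ⊥ := ⟨c, hc0, hc⟩
  have hcop : p.Coprime q := (Nat.coprime_primes hp.out hq).mpr hpq
  by_cases hcyc : IsCyclic P
  · -- every subgroup is normal
    have hN : (stabilizer P c).Normal := by
      refine ⟨fun n hn g => ?_⟩
      have : g * n * g⁻¹ = n := by
        have h1 : g * n = n * g := IsCyclic.isMulCommutative.is_comm.comm g n
        rw [h1]; group
      rw [this]; exact hn
    have h0 := fixedBy_eq_bot_of_normal hconst hE (stabilizer P c)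
      (coprime_card_subgroup hP hq hpq _) hc hns
    have h1 : c ∈ (fixedBy (stabilizer P c) : AddSubgroup E) :=
      fun x hx => mem_stabilizer_iff.mp hx
    rw [h0, AddSubgroup.mem_bot] at h1
    exact hc0 h1
  · obtain ⟨A, hAn, hAc, hAexp, hAcard⟩ := Cfsg.Agent.Lib.Lead.exists_normal_elementary_sq hp2 hP hcyc
    have hA1 : A ≠ ⊥ := by
      intro h
      rw [h, Subgroup.card_bot] at hAcard
      have := hp.out.two_le
      have h4 : 4 ≤ p ^ 2 := by nlinarith
      omega
    have hA0 : (fixedBy A : AddSubgroup E) = ⊥ :=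
      fixedBy_eq_bot_of_normal hconst hE A (coprime_card_subgroup hP hq hpq _) hA1 hns
    -- a line with nonzero fixed points
    obtain ⟨D, hD, hD0⟩ : ∃ D ∈ linesOf p A, (fixedBy D : AddSubgroup E) ≠ ⊥ := by
      by_contra hno
      push Not at hno
      have := eq_zero_of_fixedBy_lines hE hcop hAexp hAcard hA0 ⊥
        (fun D hD => by rw [hno D hD]) c
      exact hc0 ((AddSubgroup.mem_bot).mp this)
    have hD1 : D ≠ ⊥ := by
      intro h
      have := (mem_linesOf.mp hD).2
      rw [h, Subgroup.card_bot] at this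
      exact hp.out.one_lt.ne this
    obtain ⟨g, hg⟩ : ∃ g : P, D.map (MulAut.conj g).toMonoidHom ≠ D := by
      by_contra hno
      push Not at hno
      have hDn : D.Normal := by
        refine ⟨fun n hn g => ?_⟩
        have : g * n * g⁻¹ ∈ D.map (MulAut.conj g).toMonoidHom := ⟨n, hn, rfl⟩
        rwa [hno g] at this
      exact hD0 (fixedBy_eq_bot_of_normal hconst hE D (coprime_card_subgroup hP hq hpq _) hD1 hns)
    obtain ⟨⟨a₁, ha₁⟩, ha₁0⟩ := (AddSubgroup.ne_bot_iff_exists_ne_zero).mp hD0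
    have ha₁0' : a₁ ≠ 0 := fun h => ha₁0 (Subtype.ext h)
    set D' := D.map (MulAut.conj g).toMonoidHom with hD'
    have hD'l : D' ∈ linesOf p A := map_conj_mem_linesOf hD g
    have hb₁ : g • a₁ ∈ (fixedBy D' : AddSubgroup E) := smul_mem_fixedBy_map g ha₁
    have hb₁0 : g • a₁ ≠ 0 := by
      intro h
      apply ha₁0'
      have := congrArg (fun e => g⁻¹ • e) h
      simpa using this
    have hN := stabilizer_eq_of_lines hp2 hP hconst hE hcop hAc hAcard hA0 hD hD'l
      (fun h => hg h.symm) ha₁ hb₁ ha₁0' hb₁0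
    -- the stabilizer of `a₁` fixes everything
    have hall : ∀ e : E, e ∈ (fixedBy (stabilizer P a₁) : AddSubgroup E) := by
      apply eq_zero_of_fixedBy_lines hE hcop hAexp hAcard hA0
      intro D'' hD'' c' hc'
      by_cases hc'0 : c' = 0
      · rw [hc'0]; exact AddSubgroup.zero_mem _
      have hst : stabilizer P c' = stabilizer P a₁ := by
        by_cases hDD : D'' = D
        · rw [hN]
          exact stabilizer_eq_of_lines hp2 hP hconst hE hcop hAc hAcard hA0 hD'' hD'l
            (fun h => hg (by rw [← hDD, h])) hc' hb₁ hc'0 hb₁0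
        · exact stabilizer_eq_of_lines hp2 hP hconst hE hcop hAc hAcard hA0 hD'' hD hDD hc' ha₁
            hc'0 ha₁0'
      intro x hx
      rw [← hst] at hx
      exact mem_stabilizer_iff.mp hx
    have hbot : stabilizer P a₁ = ⊥ :=
      eq_bot_of_forall_smul_eq (E := E) (fun x hx e => hall e x hx)
    have := hconst c a₁ hc0 ha₁0'
    rw [hbot, Subgroup.card_bot] at this
    exact hc (Subgroup.card_eq_one.mp this)


open Cfsg.Agent.Lib.Helper3.Gen MulAction Cfsg.Agent.Lib.Helper3

variable {P E : Type*} [Group P] [AddCommGroup E] [DistribMulAction P E] [Finite P]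

/-- the case `p = q`: the group is trivial -/
theorem subsingleton_of_eq [Finite E] [FaithfulSMul P E] {p : ℕ} [hp : Fact p.Prime]
    (hP : IsPGroup p P) (hE : ∀ e : E, p • e = 0)
    (hconst : ∀ a b : E, a ≠ 0 → b ≠ 0 → Nat.card (stabilizer P a) = Nat.card (stabilizer P b)) :
    Subsingleton P := by
  have htop : (⊤ : Subgroup P) = ⊥ := by
    apply eq_bot_of_forall_smul_eq (E := E)
    intro g _ e
    by_cases he : e = 0
    · rw [he, smul_zero]
    -- `p` divides the order of `E`
    have hpE : p ∣ Nat.card E := by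
      have h1 : addOrderOf e ∣ p := addOrderOf_dvd_of_nsmul_eq_zero (hE e)
      rcases (Nat.dvd_prime hp.out).mp h1 with h2 | h2
      · exact absurd (AddMonoid.addOrderOf_eq_one_iff.mp h2) he
      · rw [← h2]; exact addOrderOf_dvd_natCard e
    have h0 : (0 : E) ∈ fixedPoints P E := fun x => smul_zero x
    obtain ⟨b, hb, hb0⟩ := hP.exists_fixed_point_of_prime_dvd_card_of_fixed_point E hpE h0
    have hstab : stabilizer P b = ⊤ := by
      rw [eq_top_iff]; intro x _; exact mem_stabilizer_iff.mpr (hb x)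
    have h3 := hconst e b he (Ne.symm hb0)
    rw [hstab, Subgroup.card_top] at h3
    have h4 : stabilizer P e = ⊤ := (Subgroup.card_eq_iff_eq_top _).mp h3
    have : g ∈ stabilizer P e := by rw [h4]; trivial
    exact mem_stabilizer_iff.mp this
  refine ⟨fun x y => ?_⟩
  have hx : x ∈ (⊤ : Subgroup P) := trivial
  have hy : y ∈ (⊤ : Subgroup P) := trivial
  rw [htop, Subgroup.mem_bot] at hx hy
  rw [hx, hy]

/-- the main theorem -/
theorem main [Finite E] [FaithfulSMul P E] {p q : ℕ} [hp : Fact p.Prime] (hp2 : p ≠ 2)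
    (hP : IsPGroup p P) (hq : q.Prime) (hE : ∀ e : E, q • e = 0)
    (hconst : ∀ a b : E, a ≠ 0 → b ≠ 0 → Nat.card (stabilizer P a) = Nat.card (stabilizer P b)) :
    IsCyclic P ∧ ∀ g : P, g ≠ 1 → ∀ a : E, g • a = a → a = 0 := by
  by_cases hpq : p = q
  · subst hpq
    have := subsingleton_of_eq hP hE hconst
    exact ⟨isCyclic_of_subsingleton, fun g hg => absurd (Subsingleton.elim g 1) hg⟩
  have hsemi := semiregular hp2 hP hq hE hconst hpq
  have hsr : ∀ g : P, g ≠ 1 → ∀ a : E, g • a = a → a = 0 := by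
    intro g hg a hga
    by_contra ha
    have : g ∈ stabilizer P a := mem_stabilizer_iff.mpr hga
    rw [hsemi a ha, Subgroup.mem_bot] at this
    exact hg this
  refine ⟨?_, hsr⟩
  by_contra hcyc
  have hcop : p.Coprime q := (Nat.coprime_primes hp.out hq).mpr hpq
  obtain ⟨A, hAn, hAc, hAexp, hAcard⟩ := Cfsg.Agent.Lib.Lead.exists_normal_elementary_sq hp2 hP hcyc
  have hfix : ∀ B : Subgroup P, B ≠ ⊥ → (fixedBy B : AddSubgroup E) = ⊥ := by
    intro B hB
    obtain ⟨⟨x, hx⟩, hx1⟩ := (Subgroup.ne_bot_iff_exists_ne_one).mp hB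
    have hx1' : x ≠ 1 := fun h => hx1 (Subtype.ext h)
    rw [eq_bot_iff]
    intro e he
    exact (AddSubgroup.mem_bot).mpr (hsr x hx1' e (he x hx))
  have hA1 : A ≠ ⊥ := by
    intro h
    rw [h, Subgroup.card_bot] at hAcard
    have := hp.out.two_le
    have h4 : 4 ≤ p ^ 2 := by nlinarith
    omega
  have hall : ∀ e : E, e ∈ (⊥ : AddSubgroup E) := by
    apply eq_zero_of_fixedBy_lines hE hcop hAexp hAcard (hfix A hA1)
    intro D hD
    have hD1 : D ≠ ⊥ := by
      intro h
      have := (mem_linesOf.mp hD).2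
      rw [h, Subgroup.card_bot] at this
      exact hp.out.one_lt.ne this
    rw [hfix D hD1]
  have htop : (⊤ : Subgroup P) = ⊥ := by
    apply eq_bot_of_forall_smul_eq (E := E)
    intro g _ e
    rw [(AddSubgroup.mem_bot).mp (hall e), smul_zero]
  apply hcyc
  have : Subsingleton P := by
    refine ⟨fun x y => ?_⟩
    have hx : x ∈ (⊤ : Subgroup P) := trivial
    have hy : y ∈ (⊤ : Subgroup P) := trivial
    rw [htop, Subgroup.mem_bot] at hx hy
    rw [hx, hy]
  exact isCyclic_of_subsingleton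

end Cfsg.Agent.Lib.Helper3.ConstStab
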