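import Mathlib
import Cfsg.Agent.Lib.Helper3.Cox1
import Cfsg.Agent.Lib.Helper3.StCh1
import Cfsg.Agent.Lib.Helper1.BNInst

set_option autoImplicit false
set_option linter.unusedSectionVars false
set_option linter.unusedVariables false

/-!
The Weyl group of a (B,N)-pair is a Coxeter group: from the exchange condition of a Tits system to the
Coxeter presentation.
-/

namespace Cfsg.Agent.Lib.Helper3.CoxBN

open Cfsg.Agent.Lib.Helper1 Cfsg.Agent.Lib.Helper3.StCh Cfsg.Agent.Lib.Helper3.Cox

variable {W : Type*} [Group W] {B : Type*}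

theorem isWord_map (s : B → W) (ω : List B) : IsWord (Set.range s) (ω.map s) := by
  intro x hx
  obtain ⟨i, _, rfl⟩ := List.mem_map.1 hx
  exact ⟨i, rfl⟩

theorem exists_map_of_isWord (s : B → W) {l : List W} (hl : IsWord (Set.range s) l) :
    ∃ ω : List B, ω.map s = l := by
  induction l with
  | nil => exact ⟨[], rfl⟩
  | cons a l ih =>
    obtain ⟨ha, hl'⟩ := isWord_of_cons hl
    obtain ⟨i, rfl⟩ := ha
    obtain ⟨ω, rfl⟩ := ih hl'
    exact ⟨i :: ω, rfl⟩

theorem red_iff (s : B → W) (ω : List B) :
    Red s ω ↔ wlen (Set.range s) (wp s ω) = ω.length := by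
  constructor
  · intro h
    apply le_antisymm
    · have := wlen_le_of_word (isWord_map s ω)
      rwa [List.length_map] at this
    · have hne : {k | ∃ l : List W, IsWord (Set.range s) l ∧ l.length = k ∧
          l.prod = wp s ω}.Nonempty := ⟨_, ω.map s, isWord_map s ω, rfl, rfl⟩
      obtain ⟨l, hl, hlen, hprod⟩ := Nat.sInf_mem hne
      obtain ⟨ω', rfl⟩ := exists_map_of_isWord s hl
      have h1 := h ω' hprod
      rw [List.length_map] at hlen
      unfold wlen
      omega
  · intro h ω' hω'
    have h1 := wlen_le_of_word (isWord_map s ω')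
    rw [List.length_map] at h1
    have e : (ω'.map s).prod = wp s ω := hω'
    rw [e, h] at h1
    exact h1

/-- An exchange system on the range of a family of generators is an exchange system for the
family. -/
theorem exSys_of_exW {s : B → W} (E : ExW (Set.range s)) : Cox.ExSys s where
  inv := fun i => E.invol (s i) ⟨i, rfl⟩
  exch := by
    intro i ω hR hnR
    rw [red_iff] at hR hnR
    have h1 := wlen_le_of_word (isWord_map s (i :: ω))
    rw [List.length_map, List.length_cons] at h1
    have h2 : wp s (i :: ω) = s i * (ω.map s).prod := by rw [wp_cons]; rfl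
    have h3 : (List.map s (i :: ω)).prod = wp s (i :: ω) := rfl
    rw [h3] at h1
    rw [List.length_cons] at hnR
    have hle : wlen (Set.range s) (s i * (ω.map s).prod) ≤ (ω.map s).length := by
      rw [← h2, List.length_map]
      omega
    obtain ⟨k, hk, he⟩ := E.exch_erase (isWord_map s ω)
      (by rw [List.length_map]; exact hR) ⟨i, rfl⟩ hle
    refine ⟨k, by rwa [List.length_map] at hk, ?_⟩
    show s i * (ω.map s).prod = ((ω.eraseIdx k).map s).prod
    rw [he, List.eraseIdx_map]

end Cfsg.Agent.Lib.Helper3.CoxBN
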