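import Mathlib
import Cfsg.Agent.Lib.Helper4.ThreeStep4

/-! S5280 package K4: the preimage of `Z(J(T/Z))` in `C` is invariant under every element normalizing
`C`, `T` and `Z`. -/

set_option autoImplicit false

namespace Cfsg.Agent.Lib.Helper3.CstrK4

open Cfsg

universe u

/-- conjugation by `n` as an endomorphism of the subgroup `C` it normalizes -/
def conjEnd {Y : Type u} [Group Y] (C : Subgroup Y) (n : Y) (hnC : ∀ c ∈ C, n * c * n⁻¹ ∈ C) :
    ↥C →* ↥C where
  toFun c := ⟨n * c * n⁻¹, hnC c c.2⟩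
  map_one' := by
    apply Subtype.ext
    simp
  map_mul' a b := by
    apply Subtype.ext
    simp only [Subgroup.coe_mul]
    group

theorem conjEnd_injective {Y : Type u} [Group Y] (C : Subgroup Y) (n : Y)
    (hnC : ∀ c ∈ C, n * c * n⁻¹ ∈ C) : Function.Injective (conjEnd C n hnC) := by
  intro a b hab
  have h : n * (a : Y) * n⁻¹ = n * (b : Y) * n⁻¹ := congrArg Subtype.val hab
  exact Subtype.ext (mul_left_cancel (mul_right_cancel h))

/-- an injective endomorphism of a finite group mapping a subgroup into itself reflects membership -/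
theorem mem_of_map_mem {C : Type u} [Group C] [Finite C] (ν : C →* C) (hν : Function.Injective ν)
    (Z : Subgroup C) (hZ : ∀ z ∈ Z, ν z ∈ Z) (c : C) (hc : ν c ∈ Z) : c ∈ Z := by
  let f : ↥Z → ↥Z := fun z => ⟨ν z, hZ z z.2⟩
  have hf : Function.Injective f := by
    intro a b hab
    have : ν (a : C) = ν (b : C) := congrArg Subtype.val hab
    exact Subtype.ext (hν this)
  have hs : Function.Surjective f := Finite.injective_iff_surjective.mp hf
  obtain ⟨z, hz⟩ := hs ⟨ν c, hc⟩
  have : ν (z : C) = ν c := congrArg Subtype.val hz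
  rw [← hν this]
  exact z.2

/-- an injective endomorphism of a finite group mapping a subgroup into itself maps it onto itself -/
theorem map_eq_of_map_le {C : Type u} [Group C] [Finite C] (ν : C →* C) (hν : Function.Injective ν)
    (T : Subgroup C) (hT : ∀ t ∈ T, ν t ∈ T) : T.map ν = T := by
  apply le_antisymm
  · rintro _ ⟨t, ht, rfl⟩
    exact hT t ht
  · intro t ht
    let f : ↥T → ↥T := fun z => ⟨ν z, hT z z.2⟩
    have hf : Function.Injective f := by
      intro a b hab
      have : ν (a : C) = ν (b : C) := congrArg Subtype.val hab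
      exact Subtype.ext (hν this)
    have hs : Function.Surjective f := Finite.injective_iff_surjective.mp hf
    obtain ⟨z, hz⟩ := hs ⟨t, ht⟩
    exact ⟨z, z.2, congrArg Subtype.val hz⟩

/-- general form: an injective endomorphism `ν` of a finite group `C` with `ν Z ≤ Z`, `ν T ≤ T` maps the
preimage of `Z(J(T/Z))` into itself -/
theorem map_mem_comap_zj {C : Type u} [Group C] [Finite C] (Z T : Subgroup C) [Z.Normal]
    (ν : C →* C) (hν : Function.Injective ν) (hZ : ∀ z ∈ Z, ν z ∈ Z) (hT : ∀ t ∈ T, ν t ∈ T)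
    (c : C) (hc : c ∈ (Cfsg.centerThompsonAOf (T.map (QuotientGroup.mk' Z))).comap
      (QuotientGroup.mk' Z)) :
    ν c ∈ (Cfsg.centerThompsonAOf (T.map (QuotientGroup.mk' Z))).comap (QuotientGroup.mk' Z) := by
  have hle : Z ≤ Z.comap ν := fun z hz => hZ z hz
  set νb : C ⧸ Z →* C ⧸ Z := QuotientGroup.map Z Z ν hle with hνb
  have hνb_mk : ∀ x : C, νb (QuotientGroup.mk' Z x) = QuotientGroup.mk' Z (ν x) := fun x => rfl
  have hinj : Function.Injective νb := by
    rw [injective_iff_map_eq_one]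
    intro y hy
    obtain ⟨x, rfl⟩ := QuotientGroup.mk'_surjective Z y
    rw [hνb_mk] at hy
    have h1 : ν x ∈ Z := by
      have := (QuotientGroup.eq_one_iff (N := Z) (ν x)).mp hy
      exact this
    have h2 : x ∈ Z := mem_of_map_mem ν hν Z hZ x h1
    exact (QuotientGroup.eq_one_iff (N := Z) x).mpr h2
  have hTb : ∀ t ∈ T.map (QuotientGroup.mk' Z), νb t ∈ T.map (QuotientGroup.mk' Z) := by
    rintro _ ⟨t, ht, rfl⟩
    rw [hνb_mk]
    exact ⟨ν t, hT t ht, rfl⟩
  have hmapT : (T.map (QuotientGroup.mk' Z)).map νb = T.map (QuotientGroup.mk' Z) :=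
    map_eq_of_map_le νb hinj _ hTb
  have hzj := Cfsg.Agent.Lib.Helper4.ThreeStep.centerThompsonAOf_map νb hinj
    (T.map (QuotientGroup.mk' Z))
  rw [hmapT] at hzj
  rw [Subgroup.mem_comap] at hc ⊢
  rw [← hνb_mk, hzj]
  exact ⟨_, hc, rfl⟩

/-- **K4**: the preimage of `Z(J(T/Z))` is invariant under everything normalizing `C`, `T`, `Z` -/
theorem conj_mem_comap_zj {Y : Type*} [Group Y] [Finite Y] (C : Subgroup Y) (Z T : Subgroup ↥C)
    [Z.Normal] (n : Y) (hnC : ∀ c ∈ C, n * c * n⁻¹ ∈ C)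
    (hnZ : ∀ (c : ↥C), c ∈ Z → (⟨n * c * n⁻¹, hnC c c.2⟩ : ↥C) ∈ Z)
    (hnT : ∀ (c : ↥C), c ∈ T → (⟨n * c * n⁻¹, hnC c c.2⟩ : ↥C) ∈ T)
    (c : ↥C) (hc : c ∈ (Cfsg.centerThompsonAOf (T.map (QuotientGroup.mk' Z))).comap
      (QuotientGroup.mk' Z)) :
    (⟨n * c * n⁻¹, hnC c c.2⟩ : ↥C) ∈
      (Cfsg.centerThompsonAOf (T.map (QuotientGroup.mk' Z))).comap (QuotientGroup.mk' Z) :=
  map_mem_comap_zj Z T (conjEnd C n hnC) (conjEnd_injective C n hnC) hnZ hnT c hc

end Cfsg.Agent.Lib.Helper3.CstrK4
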