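import Mathlib
import Cfsg.Agent.Lib.Lead.SCF1
import Cfsg.Agent.S5076

/-! S5280 package K6: from "some `Q ≤ S` whose normalizer controls strong fusion in the Sylow subgroup `S`
and with `C_S(Q) ≤ Q`" to "the fusion system of the group on `S` is constrained". -/

set_option autoImplicit false

namespace Cfsg.Agent.Lib.Helper3.CstrK6

open Cfsg Cfsg.Agent.Lib.Lead Cfsg.Agent.Lib.Lead.SCF Cfsg.Agent.Lib.Helper4

variable {p : ℕ} [Fact p.Prime]

/-- the target: some `Q ≤ S`, normal in `S`, whose normalizer controls strong fusion in `S` and with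
`C_S(Q) ≤ Q` -/
def HasCtlCentric {Y : Type*} [Group Y] (S : Subgroup Y) : Prop :=
  ∃ Q : Subgroup Y, Q ≤ S ∧ S ≤ Subgroup.normalizer (Q : Set Y) ∧ Ctl Q S ∧
    S ⊓ Subgroup.centralizer (Q : Set Y) ≤ Q

/-- a subgroup whose normalizer controls strong fusion in `P` is normal in the fusion system of the
group on `P` -/
theorem isNormal_of_ctl {Ω : Type*} [Group Ω] (P W : Subgroup Ω) (hWP : W ≤ P) (hctl : Ctl W P) :
    (Cfsg.groupFusionSystem P).IsNormal W := by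
  refine ⟨hWP, ?_⟩
  rintro R φ ⟨hRP, hφP, g, hg⟩
  have hA : ((R : Subgroup Ω) : Set Ω) ⊆ ((P : Subgroup Ω) : Set Ω) := by exact_mod_cast hRP
  have hgA : lc g ((R : Subgroup Ω) : Set Ω) ⊆ ((P : Subgroup Ω) : Set Ω) := by
    rintro _ ⟨a, ha, rfl⟩
    have := hφP ⟨a, ha⟩
    rw [hg ⟨a, ha⟩] at this
    exact this
  obtain ⟨x, hx, hxeq⟩ := hctl _ g hA hgA
  have hRW : R ⊔ W ≤ P := sup_le hRP hWP
  have hxW : ∀ w ∈ W, x * w * x⁻¹ ∈ W := fun w hw =>
    (Subgroup.mem_normalizer_iff.mp hx w).mp hw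
  have hxRW : ∀ y ∈ R ⊔ W, x * y * x⁻¹ ∈ P := by
    intro y hy
    have : R ⊔ W ≤ P.comap (MulAut.conj x).toMonoidHom := by
      apply sup_le
      · intro r hr
        change x * r * x⁻¹ ∈ P
        rw [hxeq r hr]
        exact hgA ⟨r, hr, rfl⟩
      · intro w hw
        change x * w * x⁻¹ ∈ P
        exact hWP (hxW w hw)
    exact this hy
  let ψ : ↥(R ⊔ W) →* Ω := (MulAut.conj x).toMonoidHom.comp (R ⊔ W).subtype
  have hψ : ∀ y : ↥(R ⊔ W), ψ y = x * (y : Ω) * x⁻¹ := fun y => rfl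
  refine ⟨ψ, ⟨hRW, fun y => ?_, x, fun y => hψ y⟩, ?_, ?_⟩
  · rw [hψ]; exact hxRW y y.2
  · intro r
    rw [hψ, hg r]
    exact hxeq r r.2
  · ext w
    constructor
    · rintro ⟨y, hy, rfl⟩
      rw [hψ]
      exact hxW _ (Subgroup.mem_subgroupOf.mp hy)
    · intro hw
      have h1 : x⁻¹ * w * x ∈ W := by
        have := (Subgroup.mem_normalizer_iff.mp (Subgroup.inv_mem _ hx) w).mp hw
        simpa using this
      refine ⟨⟨x⁻¹ * w * x, Subgroup.mem_sup_right h1⟩, Subgroup.mem_subgroupOf.mpr h1, ?_⟩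
      rw [hψ]
      simp only []
      group

/-- such a subgroup is only conjugate to itself in the fusion system -/
theorem eq_of_isConj_of_ctl {Ω : Type*} [Group Ω] (P W : Subgroup Ω) (hWP : W ≤ P) (hctl : Ctl W P)
    (Q' : Subgroup Ω) (h : (Cfsg.groupFusionSystem P).IsConj W Q') : Q' = W := by
  obtain ⟨φ, ⟨-, hφP, g, hg⟩, rfl⟩ := h
  have hA : ((W : Subgroup Ω) : Set Ω) ⊆ ((P : Subgroup Ω) : Set Ω) := by exact_mod_cast hWP
  have hgA : lc g ((W : Subgroup Ω) : Set Ω) ⊆ ((P : Subgroup Ω) : Set Ω) := by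
    rintro _ ⟨a, ha, rfl⟩
    have := hφP ⟨a, ha⟩
    rw [hg ⟨a, ha⟩] at this
    exact this
  obtain ⟨x, hx, hxeq⟩ := hctl _ g hA hgA
  ext w
  constructor
  · rintro ⟨y, rfl⟩
    rw [hg y, ← hxeq y y.2]
    exact (Subgroup.mem_normalizer_iff.mp hx y).mp y.2
  · intro hw
    have h1 : x⁻¹ * w * x ∈ W := by
      have := (Subgroup.mem_normalizer_iff.mp (Subgroup.inv_mem _ hx) w).mp hw
      simpa using this
    refine ⟨⟨x⁻¹ * w * x, h1⟩, ?_⟩
    rw [hg, ← hxeq _ h1]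
    group

/-- unfolded form of K6 -/
theorem isConstrained_of_ctl {Ω : Type*} [Group Ω] [Finite Ω] (P : Sylow p Ω) (Q : Subgroup Ω)
    (hQP : Q ≤ (P : Subgroup Ω)) (hc : Ctl Q (P : Subgroup Ω))
    (hcen : (P : Subgroup Ω) ⊓ Subgroup.centralizer (Q : Set Ω) ≤ Q) :
    (Cfsg.groupFusionSystem (P : Subgroup Ω)).IsConstrained p := by
  refine ⟨Cfsg.Agent.S5076.result p P, Q, isNormal_of_ctl _ Q hQP hc, hQP, ?_⟩
  intro Q' hQ'
  rw [eq_of_isConj_of_ctl _ Q hQP hc Q' hQ']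
  exact hcen

/-- **K6**: translation to fusion systems -/
theorem isConstrained_of_hasCtlCentric {Ω : Type*} [Group Ω] [Finite Ω] (P : Sylow p Ω)
    (h : HasCtlCentric (P : Subgroup Ω)) :
    (Cfsg.groupFusionSystem (P : Subgroup Ω)).IsConstrained p := by
  obtain ⟨Q, hQP, -, hc, hcen⟩ := h
  exact isConstrained_of_ctl P Q hQP hc hcen

end Cfsg.Agent.Lib.Helper3.CstrK6
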