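import Mathlib
import Cfsg.Agent.Lib.Helper3.ChevData.D4TwB
set_option autoImplicit false
set_option linter.unusedSectionVars false
set_option linter.unusedVariables false
open Cfsg Cfsg.Lie Cfsg.Agent.Lib.Helper3.ChevM

/-!
Root elements of the Chevalley group of type `D₄` in characteristic two: the rules for sorting a product of
positive root elements into the order `12, 13, 18, 14, 15, 16, 19, 17, 20, 21, 22, 23`.
-/

namespace Cfsg.Agent.Lib.Helper3.D4Inv

variable {K : Type*} [Field K] [CharP K 2]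

/-- The table check for a non-commuting pair of roots of `D₄`. -/
def swapCheck (r s k : ℕ) : Bool :=
  decide (r < 24) && decide (s < 24) && decide (s ≠ r) && decide (s ≠ cdD4.D.neg r) &&
    (decide (cdD4.D.commTerms r s = [(k, 1, 1, 1)]) || decide (cdD4.D.commTerms r s = [(k, -1, 1, 1)]))

theorem x_swap (r s k : ℕ) (h : swapCheck r s k = true) (t u : K) :
    relD4.xU s u * relD4.xU r t = relD4.xU r t * relD4.xU s u * relD4.xU k (t * u) := by
  simp only [swapCheck, Bool.and_eq_true, Bool.or_eq_true, decide_eq_true_eq] at h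
  obtain ⟨⟨⟨⟨hr, hs⟩, h1⟩, h2⟩, h3⟩ := h
  have := commD4.commF (F := K) r s hr hs h1 h2 t u
  rw [CDatum.wordMat_commWord] at this
  apply Units.ext
  rw [Units.val_mul, Units.val_mul, Units.val_mul, relD4.xU_val, relD4.xU_val, relD4.xU_val, this]
  congr 1
  rcases h3 with h3 | h3
  · rw [h3]
    simp [CharTwo.neg_eq]
  · rw [h3]
    simp [CharTwo.neg_eq]

theorem x_inv2 (r : ℕ) (t : K) : (relD4.xU r t)⁻¹ = relD4.xU r t := by
  rw [relD4.xU_inv, CharTwo.neg_eq]

/-- The root element `x_r(t)`. -/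
abbrev X (r : ℕ) (t : K) : GL cdD4.D.Idx K := relD4.xU r t

theorem X_add (r : ℕ) (t u : K) : X r t * X r u = X r (t + u) := relD4.xU_add r t u

theorem X_add' (r : ℕ) (t u : K) (g : GL cdD4.D.Idx K) : X r t * (X r u * g) = X r (t + u) * g := by
  rw [← mul_assoc, X_add]

theorem X_zero (r : ℕ) : X r (0 : K) = 1 := relD4.xU_zero r

theorem X_inv (r : ℕ) (t : K) : (X r t)⁻¹ = X r t := x_inv2 r t

theorem X_sq (r : ℕ) (t : K) : X r t * X r t = 1 := by
  rw [X_add, CharTwo.add_self_eq_zero, X_zero]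

theorem sw_13_12 (t u : K) : X 13 u * X 12 t = X 12 t * X 13 u :=
  (commD4.xU_comm 12 13 (by decide) (by decide) (by decide) t u).symm
theorem sw'_13_12 (t u : K) (g : GL cdD4.D.Idx K) : X 13 u * (X 12 t * g) = X 12 t * (X 13 u * g) := by
  rw [← mul_assoc, sw_13_12, mul_assoc]
theorem sw_18_12 (t u : K) : X 18 u * X 12 t = X 12 t * X 18 u :=
  (commD4.xU_comm 12 18 (by decide) (by decide) (by decide) t u).symm
theorem sw'_18_12 (t u : K) (g : GL cdD4.D.Idx K) : X 18 u * (X 12 t * g) = X 12 t * (X 18 u * g) := by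
  rw [← mul_assoc, sw_18_12, mul_assoc]
theorem sw_14_12 (t u : K) : X 14 u * X 12 t = X 12 t * (X 14 u * X 15 (t * u)) := by
  rw [x_swap 12 14 15 (by decide) t u, mul_assoc]
theorem sw'_14_12 (t u : K) (g : GL cdD4.D.Idx K) : X 14 u * (X 12 t * g) = X 12 t * (X 14 u * (X 15 (t * u) * g)) := by
  rw [← mul_assoc, sw_14_12]; simp only [mul_assoc]
theorem sw_15_12 (t u : K) : X 15 u * X 12 t = X 12 t * X 15 u :=
  (commD4.xU_comm 12 15 (by decide) (by decide) (by decide) t u).symm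
theorem sw'_15_12 (t u : K) (g : GL cdD4.D.Idx K) : X 15 u * (X 12 t * g) = X 12 t * (X 15 u * g) := by
  rw [← mul_assoc, sw_15_12, mul_assoc]
theorem sw_16_12 (t u : K) : X 16 u * X 12 t = X 12 t * (X 16 u * X 17 (t * u)) := by
  rw [x_swap 12 16 17 (by decide) t u, mul_assoc]
theorem sw'_16_12 (t u : K) (g : GL cdD4.D.Idx K) : X 16 u * (X 12 t * g) = X 12 t * (X 16 u * (X 17 (t * u) * g)) := by
  rw [← mul_assoc, sw_16_12]; simp only [mul_assoc]
theorem sw_19_12 (t u : K) : X 19 u * X 12 t = X 12 t * (X 19 u * X 20 (t * u)) := by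
  rw [x_swap 12 19 20 (by decide) t u, mul_assoc]
theorem sw'_19_12 (t u : K) (g : GL cdD4.D.Idx K) : X 19 u * (X 12 t * g) = X 12 t * (X 19 u * (X 20 (t * u) * g)) := by
  rw [← mul_assoc, sw_19_12]; simp only [mul_assoc]
theorem sw_17_12 (t u : K) : X 17 u * X 12 t = X 12 t * X 17 u :=
  (commD4.xU_comm 12 17 (by decide) (by decide) (by decide) t u).symm
theorem sw'_17_12 (t u : K) (g : GL cdD4.D.Idx K) : X 17 u * (X 12 t * g) = X 12 t * (X 17 u * g) := by
  rw [← mul_assoc, sw_17_12, mul_assoc]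
theorem sw_20_12 (t u : K) : X 20 u * X 12 t = X 12 t * X 20 u :=
  (commD4.xU_comm 12 20 (by decide) (by decide) (by decide) t u).symm
theorem sw'_20_12 (t u : K) (g : GL cdD4.D.Idx K) : X 20 u * (X 12 t * g) = X 12 t * (X 20 u * g) := by
  rw [← mul_assoc, sw_20_12, mul_assoc]
theorem sw_21_12 (t u : K) : X 21 u * X 12 t = X 12 t * (X 21 u * X 22 (t * u)) := by
  rw [x_swap 12 21 22 (by decide) t u, mul_assoc]
theorem sw'_21_12 (t u : K) (g : GL cdD4.D.Idx K) : X 21 u * (X 12 t * g) = X 12 t * (X 21 u * (X 22 (t * u) * g)) := by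
  rw [← mul_assoc, sw_21_12]; simp only [mul_assoc]
theorem sw_22_12 (t u : K) : X 22 u * X 12 t = X 12 t * X 22 u :=
  (commD4.xU_comm 12 22 (by decide) (by decide) (by decide) t u).symm
theorem sw'_22_12 (t u : K) (g : GL cdD4.D.Idx K) : X 22 u * (X 12 t * g) = X 12 t * (X 22 u * g) := by
  rw [← mul_assoc, sw_22_12, mul_assoc]
theorem sw_23_12 (t u : K) : X 23 u * X 12 t = X 12 t * X 23 u :=
  (commD4.xU_comm 12 23 (by decide) (by decide) (by decide) t u).symm
theorem sw'_23_12 (t u : K) (g : GL cdD4.D.Idx K) : X 23 u * (X 12 t * g) = X 12 t * (X 23 u * g) := by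
  rw [← mul_assoc, sw_23_12, mul_assoc]
theorem sw_18_13 (t u : K) : X 18 u * X 13 t = X 13 t * X 18 u :=
  (commD4.xU_comm 13 18 (by decide) (by decide) (by decide) t u).symm
theorem sw'_18_13 (t u : K) (g : GL cdD4.D.Idx K) : X 18 u * (X 13 t * g) = X 13 t * (X 18 u * g) := by
  rw [← mul_assoc, sw_18_13, mul_assoc]
theorem sw_14_13 (t u : K) : X 14 u * X 13 t = X 13 t * (X 14 u * X 16 (t * u)) := by
  rw [x_swap 13 14 16 (by decide) t u, mul_assoc]
theorem sw'_14_13 (t u : K) (g : GL cdD4.D.Idx K) : X 14 u * (X 13 t * g) = X 13 t * (X 14 u * (X 16 (t * u) * g)) := by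
  rw [← mul_assoc, sw_14_13]; simp only [mul_assoc]
theorem sw_15_13 (t u : K) : X 15 u * X 13 t = X 13 t * (X 15 u * X 17 (t * u)) := by
  rw [x_swap 13 15 17 (by decide) t u, mul_assoc]
theorem sw'_15_13 (t u : K) (g : GL cdD4.D.Idx K) : X 15 u * (X 13 t * g) = X 13 t * (X 15 u * (X 17 (t * u) * g)) := by
  rw [← mul_assoc, sw_15_13]; simp only [mul_assoc]
theorem sw_16_13 (t u : K) : X 16 u * X 13 t = X 13 t * X 16 u :=
  (commD4.xU_comm 13 16 (by decide) (by decide) (by decide) t u).symm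
theorem sw'_16_13 (t u : K) (g : GL cdD4.D.Idx K) : X 16 u * (X 13 t * g) = X 13 t * (X 16 u * g) := by
  rw [← mul_assoc, sw_16_13, mul_assoc]
theorem sw_19_13 (t u : K) : X 19 u * X 13 t = X 13 t * (X 19 u * X 21 (t * u)) := by
  rw [x_swap 13 19 21 (by decide) t u, mul_assoc]
theorem sw'_19_13 (t u : K) (g : GL cdD4.D.Idx K) : X 19 u * (X 13 t * g) = X 13 t * (X 19 u * (X 21 (t * u) * g)) := by
  rw [← mul_assoc, sw_19_13]; simp only [mul_assoc]
theorem sw_17_13 (t u : K) : X 17 u * X 13 t = X 13 t * X 17 u :=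
  (commD4.xU_comm 13 17 (by decide) (by decide) (by decide) t u).symm
theorem sw'_17_13 (t u : K) (g : GL cdD4.D.Idx K) : X 17 u * (X 13 t * g) = X 13 t * (X 17 u * g) := by
  rw [← mul_assoc, sw_17_13, mul_assoc]
theorem sw_20_13 (t u : K) : X 20 u * X 13 t = X 13 t * (X 20 u * X 22 (t * u)) := by
  rw [x_swap 13 20 22 (by decide) t u, mul_assoc]
theorem sw'_20_13 (t u : K) (g : GL cdD4.D.Idx K) : X 20 u * (X 13 t * g) = X 13 t * (X 20 u * (X 22 (t * u) * g)) := by
  rw [← mul_assoc, sw_20_13]; simp only [mul_assoc]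
theorem sw_21_13 (t u : K) : X 21 u * X 13 t = X 13 t * X 21 u :=
  (commD4.xU_comm 13 21 (by decide) (by decide) (by decide) t u).symm
theorem sw'_21_13 (t u : K) (g : GL cdD4.D.Idx K) : X 21 u * (X 13 t * g) = X 13 t * (X 21 u * g) := by
  rw [← mul_assoc, sw_21_13, mul_assoc]
theorem sw_22_13 (t u : K) : X 22 u * X 13 t = X 13 t * X 22 u :=
  (commD4.xU_comm 13 22 (by decide) (by decide) (by decide) t u).symm
theorem sw'_22_13 (t u : K) (g : GL cdD4.D.Idx K) : X 22 u * (X 13 t * g) = X 13 t * (X 22 u * g) := by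
  rw [← mul_assoc, sw_22_13, mul_assoc]
theorem sw_23_13 (t u : K) : X 23 u * X 13 t = X 13 t * X 23 u :=
  (commD4.xU_comm 13 23 (by decide) (by decide) (by decide) t u).symm
theorem sw'_23_13 (t u : K) (g : GL cdD4.D.Idx K) : X 23 u * (X 13 t * g) = X 13 t * (X 23 u * g) := by
  rw [← mul_assoc, sw_23_13, mul_assoc]
theorem sw_14_18 (t u : K) : X 14 u * X 18 t = X 18 t * (X 14 u * X 19 (t * u)) := by
  rw [x_swap 18 14 19 (by decide) t u, mul_assoc]
theorem sw'_14_18 (t u : K) (g : GL cdD4.D.Idx K) : X 14 u * (X 18 t * g) = X 18 t * (X 14 u * (X 19 (t * u) * g)) := by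
  rw [← mul_assoc, sw_14_18]; simp only [mul_assoc]
theorem sw_15_18 (t u : K) : X 15 u * X 18 t = X 18 t * (X 15 u * X 20 (t * u)) := by
  rw [x_swap 18 15 20 (by decide) t u, mul_assoc]
theorem sw'_15_18 (t u : K) (g : GL cdD4.D.Idx K) : X 15 u * (X 18 t * g) = X 18 t * (X 15 u * (X 20 (t * u) * g)) := by
  rw [← mul_assoc, sw_15_18]; simp only [mul_assoc]
theorem sw_16_18 (t u : K) : X 16 u * X 18 t = X 18 t * (X 16 u * X 21 (t * u)) := by
  rw [x_swap 18 16 21 (by decide) t u, mul_assoc]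
theorem sw'_16_18 (t u : K) (g : GL cdD4.D.Idx K) : X 16 u * (X 18 t * g) = X 18 t * (X 16 u * (X 21 (t * u) * g)) := by
  rw [← mul_assoc, sw_16_18]; simp only [mul_assoc]
theorem sw_19_18 (t u : K) : X 19 u * X 18 t = X 18 t * X 19 u :=
  (commD4.xU_comm 18 19 (by decide) (by decide) (by decide) t u).symm
theorem sw'_19_18 (t u : K) (g : GL cdD4.D.Idx K) : X 19 u * (X 18 t * g) = X 18 t * (X 19 u * g) := by
  rw [← mul_assoc, sw_19_18, mul_assoc]
theorem sw_17_18 (t u : K) : X 17 u * X 18 t = X 18 t * (X 17 u * X 22 (t * u)) := by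
  rw [x_swap 18 17 22 (by decide) t u, mul_assoc]
theorem sw'_17_18 (t u : K) (g : GL cdD4.D.Idx K) : X 17 u * (X 18 t * g) = X 18 t * (X 17 u * (X 22 (t * u) * g)) := by
  rw [← mul_assoc, sw_17_18]; simp only [mul_assoc]
theorem sw_20_18 (t u : K) : X 20 u * X 18 t = X 18 t * X 20 u :=
  (commD4.xU_comm 18 20 (by decide) (by decide) (by decide) t u).symm
theorem sw'_20_18 (t u : K) (g : GL cdD4.D.Idx K) : X 20 u * (X 18 t * g) = X 18 t * (X 20 u * g) := by
  rw [← mul_assoc, sw_20_18, mul_assoc]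
theorem sw_21_18 (t u : K) : X 21 u * X 18 t = X 18 t * X 21 u :=
  (commD4.xU_comm 18 21 (by decide) (by decide) (by decide) t u).symm
theorem sw'_21_18 (t u : K) (g : GL cdD4.D.Idx K) : X 21 u * (X 18 t * g) = X 18 t * (X 21 u * g) := by
  rw [← mul_assoc, sw_21_18, mul_assoc]
theorem sw_22_18 (t u : K) : X 22 u * X 18 t = X 18 t * X 22 u :=
  (commD4.xU_comm 18 22 (by decide) (by decide) (by decide) t u).symm
theorem sw'_22_18 (t u : K) (g : GL cdD4.D.Idx K) : X 22 u * (X 18 t * g) = X 18 t * (X 22 u * g) := by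
  rw [← mul_assoc, sw_22_18, mul_assoc]
theorem sw_23_18 (t u : K) : X 23 u * X 18 t = X 18 t * X 23 u :=
  (commD4.xU_comm 18 23 (by decide) (by decide) (by decide) t u).symm
theorem sw'_23_18 (t u : K) (g : GL cdD4.D.Idx K) : X 23 u * (X 18 t * g) = X 18 t * (X 23 u * g) := by
  rw [← mul_assoc, sw_23_18, mul_assoc]
theorem sw_15_14 (t u : K) : X 15 u * X 14 t = X 14 t * X 15 u :=
  (commD4.xU_comm 14 15 (by decide) (by decide) (by decide) t u).symm
theorem sw'_15_14 (t u : K) (g : GL cdD4.D.Idx K) : X 15 u * (X 14 t * g) = X 14 t * (X 15 u * g) := by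
  rw [← mul_assoc, sw_15_14, mul_assoc]
theorem sw_16_14 (t u : K) : X 16 u * X 14 t = X 14 t * X 16 u :=
  (commD4.xU_comm 14 16 (by decide) (by decide) (by decide) t u).symm
theorem sw'_16_14 (t u : K) (g : GL cdD4.D.Idx K) : X 16 u * (X 14 t * g) = X 14 t * (X 16 u * g) := by
  rw [← mul_assoc, sw_16_14, mul_assoc]
theorem sw_19_14 (t u : K) : X 19 u * X 14 t = X 14 t * X 19 u :=
  (commD4.xU_comm 14 19 (by decide) (by decide) (by decide) t u).symm
theorem sw'_19_14 (t u : K) (g : GL cdD4.D.Idx K) : X 19 u * (X 14 t * g) = X 14 t * (X 19 u * g) := by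
  rw [← mul_assoc, sw_19_14, mul_assoc]
theorem sw_17_14 (t u : K) : X 17 u * X 14 t = X 14 t * X 17 u :=
  (commD4.xU_comm 14 17 (by decide) (by decide) (by decide) t u).symm
theorem sw'_17_14 (t u : K) (g : GL cdD4.D.Idx K) : X 17 u * (X 14 t * g) = X 14 t * (X 17 u * g) := by
  rw [← mul_assoc, sw_17_14, mul_assoc]
theorem sw_20_14 (t u : K) : X 20 u * X 14 t = X 14 t * X 20 u :=
  (commD4.xU_comm 14 20 (by decide) (by decide) (by decide) t u).symm
theorem sw'_20_14 (t u : K) (g : GL cdD4.D.Idx K) : X 20 u * (X 14 t * g) = X 14 t * (X 20 u * g) := by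
  rw [← mul_assoc, sw_20_14, mul_assoc]
theorem sw_21_14 (t u : K) : X 21 u * X 14 t = X 14 t * X 21 u :=
  (commD4.xU_comm 14 21 (by decide) (by decide) (by decide) t u).symm
theorem sw'_21_14 (t u : K) (g : GL cdD4.D.Idx K) : X 21 u * (X 14 t * g) = X 14 t * (X 21 u * g) := by
  rw [← mul_assoc, sw_21_14, mul_assoc]
theorem sw_22_14 (t u : K) : X 22 u * X 14 t = X 14 t * (X 22 u * X 23 (t * u)) := by
  rw [x_swap 14 22 23 (by decide) t u, mul_assoc]
theorem sw'_22_14 (t u : K) (g : GL cdD4.D.Idx K) : X 22 u * (X 14 t * g) = X 14 t * (X 22 u * (X 23 (t * u) * g)) := by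
  rw [← mul_assoc, sw_22_14]; simp only [mul_assoc]
theorem sw_23_14 (t u : K) : X 23 u * X 14 t = X 14 t * X 23 u :=
  (commD4.xU_comm 14 23 (by decide) (by decide) (by decide) t u).symm
theorem sw'_23_14 (t u : K) (g : GL cdD4.D.Idx K) : X 23 u * (X 14 t * g) = X 14 t * (X 23 u * g) := by
  rw [← mul_assoc, sw_23_14, mul_assoc]
theorem sw_16_15 (t u : K) : X 16 u * X 15 t = X 15 t * X 16 u :=
  (commD4.xU_comm 15 16 (by decide) (by decide) (by decide) t u).symm
theorem sw'_16_15 (t u : K) (g : GL cdD4.D.Idx K) : X 16 u * (X 15 t * g) = X 15 t * (X 16 u * g) := by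
  rw [← mul_assoc, sw_16_15, mul_assoc]
theorem sw_19_15 (t u : K) : X 19 u * X 15 t = X 15 t * X 19 u :=
  (commD4.xU_comm 15 19 (by decide) (by decide) (by decide) t u).symm
theorem sw'_19_15 (t u : K) (g : GL cdD4.D.Idx K) : X 19 u * (X 15 t * g) = X 15 t * (X 19 u * g) := by
  rw [← mul_assoc, sw_19_15, mul_assoc]
theorem sw_17_15 (t u : K) : X 17 u * X 15 t = X 15 t * X 17 u :=
  (commD4.xU_comm 15 17 (by decide) (by decide) (by decide) t u).symm
theorem sw'_17_15 (t u : K) (g : GL cdD4.D.Idx K) : X 17 u * (X 15 t * g) = X 15 t * (X 17 u * g) := by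
  rw [← mul_assoc, sw_17_15, mul_assoc]
theorem sw_20_15 (t u : K) : X 20 u * X 15 t = X 15 t * X 20 u :=
  (commD4.xU_comm 15 20 (by decide) (by decide) (by decide) t u).symm
theorem sw'_20_15 (t u : K) (g : GL cdD4.D.Idx K) : X 20 u * (X 15 t * g) = X 15 t * (X 20 u * g) := by
  rw [← mul_assoc, sw_20_15, mul_assoc]
theorem sw_21_15 (t u : K) : X 21 u * X 15 t = X 15 t * (X 21 u * X 23 (t * u)) := by
  rw [x_swap 15 21 23 (by decide) t u, mul_assoc]
theorem sw'_21_15 (t u : K) (g : GL cdD4.D.Idx K) : X 21 u * (X 15 t * g) = X 15 t * (X 21 u * (X 23 (t * u) * g)) := by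
  rw [← mul_assoc, sw_21_15]; simp only [mul_assoc]
theorem sw_22_15 (t u : K) : X 22 u * X 15 t = X 15 t * X 22 u :=
  (commD4.xU_comm 15 22 (by decide) (by decide) (by decide) t u).symm
theorem sw'_22_15 (t u : K) (g : GL cdD4.D.Idx K) : X 22 u * (X 15 t * g) = X 15 t * (X 22 u * g) := by
  rw [← mul_assoc, sw_22_15, mul_assoc]
theorem sw_23_15 (t u : K) : X 23 u * X 15 t = X 15 t * X 23 u :=
  (commD4.xU_comm 15 23 (by decide) (by decide) (by decide) t u).symm
theorem sw'_23_15 (t u : K) (g : GL cdD4.D.Idx K) : X 23 u * (X 15 t * g) = X 15 t * (X 23 u * g) := by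
  rw [← mul_assoc, sw_23_15, mul_assoc]
theorem sw_19_16 (t u : K) : X 19 u * X 16 t = X 16 t * X 19 u :=
  (commD4.xU_comm 16 19 (by decide) (by decide) (by decide) t u).symm
theorem sw'_19_16 (t u : K) (g : GL cdD4.D.Idx K) : X 19 u * (X 16 t * g) = X 16 t * (X 19 u * g) := by
  rw [← mul_assoc, sw_19_16, mul_assoc]
theorem sw_17_16 (t u : K) : X 17 u * X 16 t = X 16 t * X 17 u :=
  (commD4.xU_comm 16 17 (by decide) (by decide) (by decide) t u).symm
theorem sw'_17_16 (t u : K) (g : GL cdD4.D.Idx K) : X 17 u * (X 16 t * g) = X 16 t * (X 17 u * g) := by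
  rw [← mul_assoc, sw_17_16, mul_assoc]
theorem sw_20_16 (t u : K) : X 20 u * X 16 t = X 16 t * (X 20 u * X 23 (t * u)) := by
  rw [x_swap 16 20 23 (by decide) t u, mul_assoc]
theorem sw'_20_16 (t u : K) (g : GL cdD4.D.Idx K) : X 20 u * (X 16 t * g) = X 16 t * (X 20 u * (X 23 (t * u) * g)) := by
  rw [← mul_assoc, sw_20_16]; simp only [mul_assoc]
theorem sw_21_16 (t u : K) : X 21 u * X 16 t = X 16 t * X 21 u :=
  (commD4.xU_comm 16 21 (by decide) (by decide) (by decide) t u).symm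
theorem sw'_21_16 (t u : K) (g : GL cdD4.D.Idx K) : X 21 u * (X 16 t * g) = X 16 t * (X 21 u * g) := by
  rw [← mul_assoc, sw_21_16, mul_assoc]
theorem sw_22_16 (t u : K) : X 22 u * X 16 t = X 16 t * X 22 u :=
  (commD4.xU_comm 16 22 (by decide) (by decide) (by decide) t u).symm
theorem sw'_22_16 (t u : K) (g : GL cdD4.D.Idx K) : X 22 u * (X 16 t * g) = X 16 t * (X 22 u * g) := by
  rw [← mul_assoc, sw_22_16, mul_assoc]
theorem sw_23_16 (t u : K) : X 23 u * X 16 t = X 16 t * X 23 u :=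
  (commD4.xU_comm 16 23 (by decide) (by decide) (by decide) t u).symm
theorem sw'_23_16 (t u : K) (g : GL cdD4.D.Idx K) : X 23 u * (X 16 t * g) = X 16 t * (X 23 u * g) := by
  rw [← mul_assoc, sw_23_16, mul_assoc]
theorem sw_17_19 (t u : K) : X 17 u * X 19 t = X 19 t * (X 17 u * X 23 (t * u)) := by
  rw [x_swap 19 17 23 (by decide) t u, mul_assoc]
theorem sw'_17_19 (t u : K) (g : GL cdD4.D.Idx K) : X 17 u * (X 19 t * g) = X 19 t * (X 17 u * (X 23 (t * u) * g)) := by
  rw [← mul_assoc, sw_17_19]; simp only [mul_assoc]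
theorem sw_20_19 (t u : K) : X 20 u * X 19 t = X 19 t * X 20 u :=
  (commD4.xU_comm 19 20 (by decide) (by decide) (by decide) t u).symm
theorem sw'_20_19 (t u : K) (g : GL cdD4.D.Idx K) : X 20 u * (X 19 t * g) = X 19 t * (X 20 u * g) := by
  rw [← mul_assoc, sw_20_19, mul_assoc]
theorem sw_21_19 (t u : K) : X 21 u * X 19 t = X 19 t * X 21 u :=
  (commD4.xU_comm 19 21 (by decide) (by decide) (by decide) t u).symm
theorem sw'_21_19 (t u : K) (g : GL cdD4.D.Idx K) : X 21 u * (X 19 t * g) = X 19 t * (X 21 u * g) := by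
  rw [← mul_assoc, sw_21_19, mul_assoc]
theorem sw_22_19 (t u : K) : X 22 u * X 19 t = X 19 t * X 22 u :=
  (commD4.xU_comm 19 22 (by decide) (by decide) (by decide) t u).symm
theorem sw'_22_19 (t u : K) (g : GL cdD4.D.Idx K) : X 22 u * (X 19 t * g) = X 19 t * (X 22 u * g) := by
  rw [← mul_assoc, sw_22_19, mul_assoc]
theorem sw_23_19 (t u : K) : X 23 u * X 19 t = X 19 t * X 23 u :=
  (commD4.xU_comm 19 23 (by decide) (by decide) (by decide) t u).symm
theorem sw'_23_19 (t u : K) (g : GL cdD4.D.Idx K) : X 23 u * (X 19 t * g) = X 19 t * (X 23 u * g) := by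
  rw [← mul_assoc, sw_23_19, mul_assoc]
theorem sw_20_17 (t u : K) : X 20 u * X 17 t = X 17 t * X 20 u :=
  (commD4.xU_comm 17 20 (by decide) (by decide) (by decide) t u).symm
theorem sw'_20_17 (t u : K) (g : GL cdD4.D.Idx K) : X 20 u * (X 17 t * g) = X 17 t * (X 20 u * g) := by
  rw [← mul_assoc, sw_20_17, mul_assoc]
theorem sw_21_17 (t u : K) : X 21 u * X 17 t = X 17 t * X 21 u :=
  (commD4.xU_comm 17 21 (by decide) (by decide) (by decide) t u).symm
theorem sw'_21_17 (t u : K) (g : GL cdD4.D.Idx K) : X 21 u * (X 17 t * g) = X 17 t * (X 21 u * g) := by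
  rw [← mul_assoc, sw_21_17, mul_assoc]
theorem sw_22_17 (t u : K) : X 22 u * X 17 t = X 17 t * X 22 u :=
  (commD4.xU_comm 17 22 (by decide) (by decide) (by decide) t u).symm
theorem sw'_22_17 (t u : K) (g : GL cdD4.D.Idx K) : X 22 u * (X 17 t * g) = X 17 t * (X 22 u * g) := by
  rw [← mul_assoc, sw_22_17, mul_assoc]
theorem sw_23_17 (t u : K) : X 23 u * X 17 t = X 17 t * X 23 u :=
  (commD4.xU_comm 17 23 (by decide) (by decide) (by decide) t u).symm
theorem sw'_23_17 (t u : K) (g : GL cdD4.D.Idx K) : X 23 u * (X 17 t * g) = X 17 t * (X 23 u * g) := by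
  rw [← mul_assoc, sw_23_17, mul_assoc]
theorem sw_21_20 (t u : K) : X 21 u * X 20 t = X 20 t * X 21 u :=
  (commD4.xU_comm 20 21 (by decide) (by decide) (by decide) t u).symm
theorem sw'_21_20 (t u : K) (g : GL cdD4.D.Idx K) : X 21 u * (X 20 t * g) = X 20 t * (X 21 u * g) := by
  rw [← mul_assoc, sw_21_20, mul_assoc]
theorem sw_22_20 (t u : K) : X 22 u * X 20 t = X 20 t * X 22 u :=
  (commD4.xU_comm 20 22 (by decide) (by decide) (by decide) t u).symm
theorem sw'_22_20 (t u : K) (g : GL cdD4.D.Idx K) : X 22 u * (X 20 t * g) = X 20 t * (X 22 u * g) := by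
  rw [← mul_assoc, sw_22_20, mul_assoc]
theorem sw_23_20 (t u : K) : X 23 u * X 20 t = X 20 t * X 23 u :=
  (commD4.xU_comm 20 23 (by decide) (by decide) (by decide) t u).symm
theorem sw'_23_20 (t u : K) (g : GL cdD4.D.Idx K) : X 23 u * (X 20 t * g) = X 20 t * (X 23 u * g) := by
  rw [← mul_assoc, sw_23_20, mul_assoc]
theorem sw_22_21 (t u : K) : X 22 u * X 21 t = X 21 t * X 22 u :=
  (commD4.xU_comm 21 22 (by decide) (by decide) (by decide) t u).symm
theorem sw'_22_21 (t u : K) (g : GL cdD4.D.Idx K) : X 22 u * (X 21 t * g) = X 21 t * (X 22 u * g) := by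
  rw [← mul_assoc, sw_22_21, mul_assoc]
theorem sw_23_21 (t u : K) : X 23 u * X 21 t = X 21 t * X 23 u :=
  (commD4.xU_comm 21 23 (by decide) (by decide) (by decide) t u).symm
theorem sw'_23_21 (t u : K) (g : GL cdD4.D.Idx K) : X 23 u * (X 21 t * g) = X 21 t * (X 23 u * g) := by
  rw [← mul_assoc, sw_23_21, mul_assoc]
theorem sw_23_22 (t u : K) : X 23 u * X 22 t = X 22 t * X 23 u :=
  (commD4.xU_comm 22 23 (by decide) (by decide) (by decide) t u).symm
theorem sw'_23_22 (t u : K) (g : GL cdD4.D.Idx K) : X 23 u * (X 22 t * g) = X 22 t * (X 23 u * g) := by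
  rw [← mul_assoc, sw_23_22, mul_assoc]


end Cfsg.Agent.Lib.Helper3.D4Inv
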