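import Mathlib
import Cfsg.Agent.Lib.Helper3.D4Inv1
set_option autoImplicit false
set_option linter.unusedSectionVars false
set_option linter.unusedVariables false
set_option linter.unusedSimpArgs false
open Cfsg Cfsg.Lie Cfsg.Agent.Lib.Helper3.ChevM

/-!
The root elements of the twisted group of type `³D₄` in characteristic two and their commutator relations.
-/

namespace Cfsg.Agent.Lib.Helper3.D4Inv

variable {K : Type*} [Field K] [CharP K 2] (φ : K →+* K)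

/-- The short root element for the class of `p₁, p₃, p₄`. -/
def eA (a : K) : GL cdD4.D.Idx K := X 12 a * (X 13 (φ (φ a)) * X 18 (φ a))
/-- The long root element for `p₂`. -/
def eB (u : K) : GL cdD4.D.Idx K := X 14 u
/-- The short root element for the class of roots of height two. -/
def eC (c : K) : GL cdD4.D.Idx K := X 15 c * (X 16 (φ (φ c)) * X 19 (φ c))
/-- The short root element for the class of roots of height three. -/
def eD (d : K) : GL cdD4.D.Idx K := X 17 d * (X 20 (φ d) * X 21 (φ (φ d)))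
/-- The long root element for the root of height four. -/
def eE (e : K) : GL cdD4.D.Idx K := X 22 e
/-- The long root element for the highest root. -/
def eF (f : K) : GL cdD4.D.Idx K := X 23 f

/-- The trace. -/
def tr (x : K) : K := x + φ x + φ (φ x)
/-- The norm. -/
def nm (x : K) : K := x * φ x * φ (φ x)

section
variable (h3 : ∀ x : K, φ (φ (φ x)) = x)
include h3

theorem tr_fix (x : K) : φ (tr φ x) = tr φ x := by
  simp only [tr, map_add, h3]; ring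

theorem nm_fix (x : K) : φ (nm φ x) = nm φ x := by
  simp only [nm, map_mul, h3]; ring

theorem relBA (a u : K) (hu : φ u = u) :
    eB u * eA φ a = eA φ a * (eB u * (eC φ (a * u) * (eD φ (a * φ (φ a) * u) *
      (eE (nm φ a * u) * eF (nm φ a * u ^ 2))))) := by
  simp only [eA, eB, eC, eD, eE, eF, nm, mul_assoc]
  simp only [sw_13_12, sw'_13_12, sw_18_12, sw'_18_12, sw_14_12, sw'_14_12, sw_15_12, sw'_15_12, sw_16_12, sw'_16_12, sw_19_12, sw'_19_12, sw_17_12, sw'_17_12, sw_20_12, sw'_20_12, sw_21_12, sw'_21_12, sw_22_12, sw'_22_12, sw_23_12, sw'_23_12, sw_18_13, sw'_18_13, sw_14_13, sw'_14_13, sw_15_13, sw'_15_13, sw_16_13, sw'_16_13, sw_19_13, sw'_19_13, sw_17_13, sw'_17_13, sw_20_13, sw'_20_13, sw_21_13, sw'_21_13, sw_22_13, sw'_22_13, sw_23_13, sw'_23_13, sw_14_18, sw'_14_18, sw_15_18, sw'_15_18, sw_16_18, sw'_16_18, sw_19_18, sw'_19_18, sw_17_18, sw'_17_18,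 sw_20_18, sw'_20_18, sw_21_18, sw'_21_18, sw_22_18, sw'_22_18, sw_23_18, sw'_23_18, sw_15_14, sw'_15_14, sw_16_14, sw'_16_14, sw_19_14, sw'_19_14, sw_17_14, sw'_17_14, sw_20_14, sw'_20_14, sw_21_14, sw'_21_14, sw_22_14, sw'_22_14, sw_23_14, sw'_23_14, sw_16_15, sw'_16_15, sw_19_15, sw'_19_15, sw_17_15, sw'_17_15, sw_20_15, sw'_20_15, sw_21_15, sw'_21_15, sw_22_15, sw'_22_15, sw_23_15, sw'_23_15, sw_19_16, sw'_19_16, sw_17_16, sw'_17_16, sw_20_16, sw'_20_16, sw_21_16, sw'_21_16, sw_22_16, sw'_22_16, sw_23_16, sw'_23_16, sw_17_19, sw'_17_19, sw_20_19, sw'_20_19, sw_21_19, sw'_21_19, sw_22_19, sw'_22_19, sw_23_19, sw'_23_19, sw_20_17, sw'_20_17, sw_21_17, sw'_21_17, sw_22_17, sw'_22_17, sw_23_17, sw'_23_17, sw_21_20, sw'_21_20, sw_22_20, sw'_22_20, sw_23_20, sw'_23_20, sw_22_21, sw'_22_21, sw_23_21, sw'_23_21, sw_23_22, sw'_23_22, X_add, X_add', X_zero, mul_one, one_mul,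 CharTwo.add_self_eq_zero, add_zero, zero_add]
  simp only [map_mul, h3, hu]
  ring_nf

theorem relCA (a c : K) :
    eC φ c * eA φ a = eA φ a * (eC φ c * (eD φ (φ (φ a) * c + a * φ (φ c)) *
      (eE (tr φ (φ a * φ (φ a) * c)) * eF (tr φ (a * φ c * φ (φ c)))))) := by
  simp only [eA, eB, eC, eD, eE, eF, tr, mul_assoc]
  simp only [sw_13_12, sw'_13_12, sw_18_12, sw'_18_12, sw_14_12, sw'_14_12, sw_15_12, sw'_15_12, sw_16_12, sw'_16_12, sw_19_12, sw'_19_12, sw_17_12, sw'_17_12, sw_20_12, sw'_20_12, sw_21_12, sw'_21_12, sw_22_12, sw'_22_12, sw_23_12, sw'_23_12, sw_18_13, sw'_18_13, sw_14_13, sw'_14_13, sw_15_13, sw'_15_13, sw_16_13, sw'_16_13, sw_19_13, sw'_19_13, sw_17_13, sw'_17_13, sw_20_13, sw'_20_13, sw_21_13, sw'_21_13, sw_22_13, sw'_22_13, sw_23_13, sw'_23_13, sw_14_18, sw'_14_18, sw_15_18, sw'_15_18, sw_16_18, sw'_16_18, sw_19_18, sw'_19_18, sw_17_18, sw'_17_18,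 sw_20_18, sw'_20_18, sw_21_18, sw'_21_18, sw_22_18, sw'_22_18, sw_23_18, sw'_23_18, sw_15_14, sw'_15_14, sw_16_14, sw'_16_14, sw_19_14, sw'_19_14, sw_17_14, sw'_17_14, sw_20_14, sw'_20_14, sw_21_14, sw'_21_14, sw_22_14, sw'_22_14, sw_23_14, sw'_23_14, sw_16_15, sw'_16_15, sw_19_15, sw'_19_15, sw_17_15, sw'_17_15, sw_20_15, sw'_20_15, sw_21_15, sw'_21_15, sw_22_15, sw'_22_15, sw_23_15, sw'_23_15, sw_19_16, sw'_19_16, sw_17_16, sw'_17_16, sw_20_16, sw'_20_16, sw_21_16, sw'_21_16, sw_22_16, sw'_22_16, sw_23_16, sw'_23_16, sw_17_19, sw'_17_19, sw_20_19, sw'_20_19, sw_21_19, sw'_21_19, sw_22_19, sw'_22_19, sw_23_19, sw'_23_19, sw_20_17, sw'_20_17, sw_21_17, sw'_21_17, sw_22_17, sw'_22_17, sw_23_17, sw'_23_17, sw_21_20, sw'_21_20, sw_22_20, sw'_22_20, sw_23_20, sw'_23_20, sw_22_21, sw'_22_21, sw_23_21, sw'_23_21, sw_23_22, sw'_23_22, X_add, X_add', X_zero, mul_one, one_mul,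 CharTwo.add_self_eq_zero, add_zero, zero_add]
  simp only [map_mul, map_add, h3]
  ring_nf

theorem relDA (a d : K) :
    eD φ d * eA φ a = eA φ a * (eD φ d * eE (tr φ (φ a * d))) := by
  simp only [eA, eB, eC, eD, eE, eF, tr, mul_assoc]
  simp only [sw_13_12, sw'_13_12, sw_18_12, sw'_18_12, sw_14_12, sw'_14_12, sw_15_12, sw'_15_12, sw_16_12, sw'_16_12, sw_19_12, sw'_19_12, sw_17_12, sw'_17_12, sw_20_12, sw'_20_12, sw_21_12, sw'_21_12, sw_22_12, sw'_22_12, sw_23_12, sw'_23_12, sw_18_13, sw'_18_13, sw_14_13, sw'_14_13, sw_15_13, sw'_15_13, sw_16_13, sw'_16_13, sw_19_13, sw'_19_13, sw_17_13, sw'_17_13, sw_20_13, sw'_20_13, sw_21_13, sw'_21_13, sw_22_13, sw'_22_13, sw_23_13, sw'_23_13, sw_14_18, sw'_14_18, sw_15_18, sw'_15_18, sw_16_18, sw'_16_18, sw_19_18, sw'_19_18, sw_17_18, sw'_17_18, sw_20_18, sw'_20_18, sw_21_18, sw'_21_18, sw_22_18, sw'_22_18, sw_23_18, sw'_23_18,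 sw_15_14, sw'_15_14, sw_16_14, sw'_16_14, sw_19_14, sw'_19_14, sw_17_14, sw'_17_14, sw_20_14, sw'_20_14, sw_21_14, sw'_21_14, sw_22_14, sw'_22_14, sw_23_14, sw'_23_14, sw_16_15, sw'_16_15, sw_19_15, sw'_19_15, sw_17_15, sw'_17_15, sw_20_15, sw'_20_15, sw_21_15, sw'_21_15, sw_22_15, sw'_22_15, sw_23_15, sw'_23_15, sw_19_16, sw'_19_16, sw_17_16, sw'_17_16, sw_20_16, sw'_20_16, sw_21_16, sw'_21_16, sw_22_16, sw'_22_16, sw_23_16, sw'_23_16, sw_17_19, sw'_17_19, sw_20_19, sw'_20_19, sw_21_19, sw'_21_19, sw_22_19, sw'_22_19, sw_23_19, sw'_23_19, sw_20_17, sw'_20_17, sw_21_17, sw'_21_17, sw_22_17, sw'_22_17, sw_23_17, sw'_23_17, sw_21_20, sw'_21_20, sw_22_20, sw'_22_20, sw_23_20, sw'_23_20, sw_22_21, sw'_22_21, sw_23_21, sw'_23_21, sw_23_22, sw'_23_22, X_add, X_add', X_zero, mul_one, one_mul, CharTwo.add_self_eq_zero, add_zero, zero_add]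
  simp only [map_mul, map_add, h3]
  ring_nf

theorem relDC (c d : K) :
    eD φ d * eC φ c = eC φ c * (eD φ d * eF (tr φ (φ c * d))) := by
  simp only [eA, eB, eC, eD, eE, eF, tr, mul_assoc]
  simp only [sw_13_12, sw'_13_12, sw_18_12, sw'_18_12, sw_14_12, sw'_14_12, sw_15_12, sw'_15_12, sw_16_12, sw'_16_12, sw_19_12, sw'_19_12, sw_17_12, sw'_17_12, sw_20_12, sw'_20_12, sw_21_12, sw'_21_12, sw_22_12, sw'_22_12, sw_23_12, sw'_23_12, sw_18_13, sw'_18_13, sw_14_13, sw'_14_13, sw_15_13, sw'_15_13, sw_16_13, sw'_16_13, sw_19_13, sw'_19_13, sw_17_13, sw'_17_13, sw_20_13, sw'_20_13, sw_21_13, sw'_21_13, sw_22_13, sw'_22_13, sw_23_13, sw'_23_13, sw_14_18, sw'_14_18, sw_15_18, sw'_15_18, sw_16_18, sw'_16_18, sw_19_18, sw'_19_18, sw_17_18, sw'_17_18, sw_20_18, sw'_20_18, sw_21_18, sw'_21_18, sw_22_18, sw'_22_18, sw_23_18, sw'_23_18, sw_15_14, sw'_15_14, sw_16_14, sw'_16_14,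 sw_19_14, sw'_19_14, sw_17_14, sw'_17_14, sw_20_14, sw'_20_14, sw_21_14, sw'_21_14, sw_22_14, sw'_22_14, sw_23_14, sw'_23_14, sw_16_15, sw'_16_15, sw_19_15, sw'_19_15, sw_17_15, sw'_17_15, sw_20_15, sw'_20_15, sw_21_15, sw'_21_15, sw_22_15, sw'_22_15, sw_23_15, sw'_23_15, sw_19_16, sw'_19_16, sw_17_16, sw'_17_16, sw_20_16, sw'_20_16, sw_21_16, sw'_21_16, sw_22_16, sw'_22_16, sw_23_16, sw'_23_16, sw_17_19, sw'_17_19, sw_20_19, sw'_20_19, sw_21_19, sw'_21_19, sw_22_19, sw'_22_19, sw_23_19, sw'_23_19, sw_20_17, sw'_20_17, sw_21_17, sw'_21_17, sw_22_17, sw'_22_17, sw_23_17, sw'_23_17, sw_21_20, sw'_21_20, sw_22_20, sw'_22_20, sw_23_20, sw'_23_20, sw_22_21, sw'_22_21, sw_23_21, sw'_23_21, sw_23_22, sw'_23_22, X_add, X_add', X_zero, mul_one, one_mul, CharTwo.add_self_eq_zero, add_zero, zero_add]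
  simp only [map_mul, map_add, h3]
  ring_nf

omit h3

theorem relEB (u v : K) : eE v * eB u = eB u * (eE v * eF (u * v)) := by
  simp only [eA, eB, eC, eD, eE, eF, tr, mul_assoc]
  simp only [sw_13_12, sw'_13_12, sw_18_12, sw'_18_12, sw_14_12, sw'_14_12, sw_15_12, sw'_15_12, sw_16_12, sw'_16_12, sw_19_12, sw'_19_12, sw_17_12, sw'_17_12, sw_20_12, sw'_20_12, sw_21_12, sw'_21_12, sw_22_12, sw'_22_12, sw_23_12, sw'_23_12, sw_18_13, sw'_18_13, sw_14_13, sw'_14_13, sw_15_13, sw'_15_13, sw_16_13, sw'_16_13, sw_19_13, sw'_19_13, sw_17_13, sw'_17_13, sw_20_13, sw'_20_13, sw_21_13, sw'_21_13, sw_22_13, sw'_22_13, sw_23_13, sw'_23_13, sw_14_18, sw'_14_18, sw_15_18, sw'_15_18, sw_16_18, sw'_16_18, sw_19_18, sw'_19_18, sw_17_18, sw'_17_18, sw_20_18, sw'_20_18, sw_21_18, sw'_21_18, sw_22_18, sw'_22_18, sw_23_18, sw'_23_18, sw_15_14, sw'_15_14, sw_16_14, sw'_16_14, sw_19_14,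 sw'_19_14, sw_17_14, sw'_17_14, sw_20_14, sw'_20_14, sw_21_14, sw'_21_14, sw_22_14, sw'_22_14, sw_23_14, sw'_23_14, sw_16_15, sw'_16_15, sw_19_15, sw'_19_15, sw_17_15, sw'_17_15, sw_20_15, sw'_20_15, sw_21_15, sw'_21_15, sw_22_15, sw'_22_15, sw_23_15, sw'_23_15, sw_19_16, sw'_19_16, sw_17_16, sw'_17_16, sw_20_16, sw'_20_16, sw_21_16, sw'_21_16, sw_22_16, sw'_22_16, sw_23_16, sw'_23_16, sw_17_19, sw'_17_19, sw_20_19, sw'_20_19, sw_21_19, sw'_21_19, sw_22_19, sw'_22_19, sw_23_19, sw'_23_19, sw_20_17, sw'_20_17, sw_21_17, sw'_21_17, sw_22_17, sw'_22_17, sw_23_17, sw'_23_17, sw_21_20, sw'_21_20, sw_22_20, sw'_22_20, sw_23_20, sw'_23_20, sw_22_21, sw'_22_21, sw_23_21, sw'_23_21, sw_23_22, sw'_23_22, X_add, X_add', X_zero, mul_one, one_mul, CharTwo.add_self_eq_zero, add_zero, zero_add]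

theorem relEA (a v : K) : eE v * eA φ a = eA φ a * eE v := by
  simp only [eA, eB, eC, eD, eE, eF, tr, mul_assoc]
  simp only [sw_13_12, sw'_13_12, sw_18_12, sw'_18_12, sw_14_12, sw'_14_12, sw_15_12, sw'_15_12, sw_16_12, sw'_16_12, sw_19_12, sw'_19_12, sw_17_12, sw'_17_12, sw_20_12, sw'_20_12, sw_21_12, sw'_21_12, sw_22_12, sw'_22_12, sw_23_12, sw'_23_12, sw_18_13, sw'_18_13, sw_14_13, sw'_14_13, sw_15_13, sw'_15_13, sw_16_13, sw'_16_13, sw_19_13, sw'_19_13, sw_17_13, sw'_17_13, sw_20_13, sw'_20_13, sw_21_13, sw'_21_13, sw_22_13, sw'_22_13, sw_23_13, sw'_23_13, sw_14_18, sw'_14_18, sw_15_18, sw'_15_18, sw_16_18, sw'_16_18, sw_19_18, sw'_19_18, sw_17_18, sw'_17_18, sw_20_18, sw'_20_18, sw_21_18, sw'_21_18, sw_22_18, sw'_22_18, sw_23_18, sw'_23_18, sw_15_14, sw'_15_14, sw_16_14, sw'_16_14, sw_19_14, sw'_19_14, sw_17_14, sw'_17_14, sw_20_14, sw'_20_14, sw_21_14, sw'_21_14,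 sw_22_14, sw'_22_14, sw_23_14, sw'_23_14, sw_16_15, sw'_16_15, sw_19_15, sw'_19_15, sw_17_15, sw'_17_15, sw_20_15, sw'_20_15, sw_21_15, sw'_21_15, sw_22_15, sw'_22_15, sw_23_15, sw'_23_15, sw_19_16, sw'_19_16, sw_17_16, sw'_17_16, sw_20_16, sw'_20_16, sw_21_16, sw'_21_16, sw_22_16, sw'_22_16, sw_23_16, sw'_23_16, sw_17_19, sw'_17_19, sw_20_19, sw'_20_19, sw_21_19, sw'_21_19, sw_22_19, sw'_22_19, sw_23_19, sw'_23_19, sw_20_17, sw'_20_17, sw_21_17, sw'_21_17, sw_22_17, sw'_22_17, sw_23_17, sw'_23_17, sw_21_20, sw'_21_20, sw_22_20, sw'_22_20, sw_23_20, sw'_23_20, sw_22_21, sw'_22_21, sw_23_21, sw'_23_21, sw_23_22, sw'_23_22, X_add, X_add', X_zero, mul_one, one_mul, CharTwo.add_self_eq_zero, add_zero, zero_add]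

theorem relFA (a w : K) : eF w * eA φ a = eA φ a * eF w := by
  simp only [eA, eB, eC, eD, eE, eF, tr, mul_assoc]
  simp only [sw_13_12, sw'_13_12, sw_18_12, sw'_18_12, sw_14_12, sw'_14_12, sw_15_12, sw'_15_12, sw_16_12, sw'_16_12, sw_19_12, sw'_19_12, sw_17_12, sw'_17_12, sw_20_12, sw'_20_12, sw_21_12, sw'_21_12, sw_22_12, sw'_22_12, sw_23_12, sw'_23_12, sw_18_13, sw'_18_13, sw_14_13, sw'_14_13, sw_15_13, sw'_15_13, sw_16_13, sw'_16_13, sw_19_13, sw'_19_13, sw_17_13, sw'_17_13, sw_20_13, sw'_20_13, sw_21_13, sw'_21_13, sw_22_13, sw'_22_13, sw_23_13, sw'_23_13, sw_14_18, sw'_14_18, sw_15_18, sw'_15_18, sw_16_18, sw'_16_18, sw_19_18, sw'_19_18, sw_17_18, sw'_17_18, sw_20_18, sw'_20_18, sw_21_18, sw'_21_18, sw_22_18, sw'_22_18, sw_23_18, sw'_23_18, sw_15_14, sw'_15_14, sw_16_14, sw'_16_14, sw_19_14, sw'_19_14, sw_17_14, sw'_17_14, sw_20_14, sw'_20_14, sw_21_14, sw'_21_14,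 sw_22_14, sw'_22_14, sw_23_14, sw'_23_14, sw_16_15, sw'_16_15, sw_19_15, sw'_19_15, sw_17_15, sw'_17_15, sw_20_15, sw'_20_15, sw_21_15, sw'_21_15, sw_22_15, sw'_22_15, sw_23_15, sw'_23_15, sw_19_16, sw'_19_16, sw_17_16, sw'_17_16, sw_20_16, sw'_20_16, sw_21_16, sw'_21_16, sw_22_16, sw'_22_16, sw_23_16, sw'_23_16, sw_17_19, sw'_17_19, sw_20_19, sw'_20_19, sw_21_19, sw'_21_19, sw_22_19, sw'_22_19, sw_23_19, sw'_23_19, sw_20_17, sw'_20_17, sw_21_17, sw'_21_17, sw_22_17, sw'_22_17, sw_23_17, sw'_23_17, sw_21_20, sw'_21_20, sw_22_20, sw'_22_20, sw_23_20, sw'_23_20, sw_22_21, sw'_22_21, sw_23_21, sw'_23_21, sw_23_22, sw'_23_22, X_add, X_add', X_zero, mul_one, one_mul, CharTwo.add_self_eq_zero, add_zero, zero_add]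

theorem relCB (c u : K) : eC φ c * eB u = eB u * eC φ c := by
  simp only [eA, eB, eC, eD, eE, eF, tr, mul_assoc]
  simp only [sw_13_12, sw'_13_12, sw_18_12, sw'_18_12, sw_14_12, sw'_14_12, sw_15_12, sw'_15_12, sw_16_12, sw'_16_12, sw_19_12, sw'_19_12, sw_17_12, sw'_17_12, sw_20_12, sw'_20_12, sw_21_12, sw'_21_12, sw_22_12, sw'_22_12, sw_23_12, sw'_23_12, sw_18_13, sw'_18_13, sw_14_13, sw'_14_13, sw_15_13, sw'_15_13, sw_16_13, sw'_16_13, sw_19_13, sw'_19_13, sw_17_13, sw'_17_13, sw_20_13, sw'_20_13, sw_21_13, sw'_21_13, sw_22_13, sw'_22_13, sw_23_13, sw'_23_13, sw_14_18, sw'_14_18, sw_15_18, sw'_15_18, sw_16_18, sw'_16_18, sw_19_18, sw'_19_18, sw_17_18, sw'_17_18, sw_20_18, sw'_20_18, sw_21_18, sw'_21_18, sw_22_18, sw'_22_18, sw_23_18, sw'_23_18, sw_15_14, sw'_15_14, sw_16_14, sw'_16_14, sw_19_14, sw'_19_14, sw_17_14, sw'_17_14, sw_20_14, sw'_20_14, sw_21_14, sw'_21_14,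 sw_22_14, sw'_22_14, sw_23_14, sw'_23_14, sw_16_15, sw'_16_15, sw_19_15, sw'_19_15, sw_17_15, sw'_17_15, sw_20_15, sw'_20_15, sw_21_15, sw'_21_15, sw_22_15, sw'_22_15, sw_23_15, sw'_23_15, sw_19_16, sw'_19_16, sw_17_16, sw'_17_16, sw_20_16, sw'_20_16, sw_21_16, sw'_21_16, sw_22_16, sw'_22_16, sw_23_16, sw'_23_16, sw_17_19, sw'_17_19, sw_20_19, sw'_20_19, sw_21_19, sw'_21_19, sw_22_19, sw'_22_19, sw_23_19, sw'_23_19, sw_20_17, sw'_20_17, sw_21_17, sw'_21_17, sw_22_17, sw'_22_17, sw_23_17, sw'_23_17, sw_21_20, sw'_21_20, sw_22_20, sw'_22_20, sw_23_20, sw'_23_20, sw_22_21, sw'_22_21, sw_23_21, sw'_23_21, sw_23_22, sw'_23_22, X_add, X_add', X_zero, mul_one, one_mul, CharTwo.add_self_eq_zero, add_zero, zero_add]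

theorem relDB (d u : K) : eD φ d * eB u = eB u * eD φ d := by
  simp only [eA, eB, eC, eD, eE, eF, tr, mul_assoc]
  simp only [sw_13_12, sw'_13_12, sw_18_12, sw'_18_12, sw_14_12, sw'_14_12, sw_15_12, sw'_15_12, sw_16_12, sw'_16_12, sw_19_12, sw'_19_12, sw_17_12, sw'_17_12, sw_20_12, sw'_20_12, sw_21_12, sw'_21_12, sw_22_12, sw'_22_12, sw_23_12, sw'_23_12, sw_18_13, sw'_18_13, sw_14_13, sw'_14_13, sw_15_13, sw'_15_13, sw_16_13, sw'_16_13, sw_19_13, sw'_19_13, sw_17_13, sw'_17_13, sw_20_13, sw'_20_13, sw_21_13, sw'_21_13, sw_22_13, sw'_22_13, sw_23_13, sw'_23_13, sw_14_18, sw'_14_18, sw_15_18, sw'_15_18, sw_16_18, sw'_16_18, sw_19_18, sw'_19_18, sw_17_18, sw'_17_18, sw_20_18, sw'_20_18, sw_21_18, sw'_21_18, sw_22_18, sw'_22_18, sw_23_18, sw'_23_18, sw_15_14, sw'_15_14, sw_16_14, sw'_16_14, sw_19_14, sw'_19_14, sw_17_14, sw'_17_14, sw_20_14, sw'_20_14, sw_21_14, sw'_21_14,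 sw_22_14, sw'_22_14, sw_23_14, sw'_23_14, sw_16_15, sw'_16_15, sw_19_15, sw'_19_15, sw_17_15, sw'_17_15, sw_20_15, sw'_20_15, sw_21_15, sw'_21_15, sw_22_15, sw'_22_15, sw_23_15, sw'_23_15, sw_19_16, sw'_19_16, sw_17_16, sw'_17_16, sw_20_16, sw'_20_16, sw_21_16, sw'_21_16, sw_22_16, sw'_22_16, sw_23_16, sw'_23_16, sw_17_19, sw'_17_19, sw_20_19, sw'_20_19, sw_21_19, sw'_21_19, sw_22_19, sw'_22_19, sw_23_19, sw'_23_19, sw_20_17, sw'_20_17, sw_21_17, sw'_21_17, sw_22_17, sw'_22_17, sw_23_17, sw'_23_17, sw_21_20, sw'_21_20, sw_22_20, sw'_22_20, sw_23_20, sw'_23_20, sw_22_21, sw'_22_21, sw_23_21, sw'_23_21, sw_23_22, sw'_23_22, X_add, X_add', X_zero, mul_one, one_mul, CharTwo.add_self_eq_zero, add_zero, zero_add]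

theorem relFB (w u : K) : eF w * eB u = eB u * eF w := by
  simp only [eA, eB, eC, eD, eE, eF, tr, mul_assoc]
  simp only [sw_13_12, sw'_13_12, sw_18_12, sw'_18_12, sw_14_12, sw'_14_12, sw_15_12, sw'_15_12, sw_16_12, sw'_16_12, sw_19_12, sw'_19_12, sw_17_12, sw'_17_12, sw_20_12, sw'_20_12, sw_21_12, sw'_21_12, sw_22_12, sw'_22_12, sw_23_12, sw'_23_12, sw_18_13, sw'_18_13, sw_14_13, sw'_14_13, sw_15_13, sw'_15_13, sw_16_13, sw'_16_13, sw_19_13, sw'_19_13, sw_17_13, sw'_17_13, sw_20_13, sw'_20_13, sw_21_13, sw'_21_13, sw_22_13, sw'_22_13, sw_23_13, sw'_23_13, sw_14_18, sw'_14_18, sw_15_18, sw'_15_18, sw_16_18, sw'_16_18, sw_19_18, sw'_19_18, sw_17_18, sw'_17_18, sw_20_18, sw'_20_18, sw_21_18, sw'_21_18, sw_22_18, sw'_22_18, sw_23_18, sw'_23_18, sw_15_14, sw'_15_14, sw_16_14, sw'_16_14, sw_19_14, sw'_19_14, sw_17_14, sw'_17_14, sw_20_14, sw'_20_14, sw_21_14, sw'_21_14,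 sw_22_14, sw'_22_14, sw_23_14, sw'_23_14, sw_16_15, sw'_16_15, sw_19_15, sw'_19_15, sw_17_15, sw'_17_15, sw_20_15, sw'_20_15, sw_21_15, sw'_21_15, sw_22_15, sw'_22_15, sw_23_15, sw'_23_15, sw_19_16, sw'_19_16, sw_17_16, sw'_17_16, sw_20_16, sw'_20_16, sw_21_16, sw'_21_16, sw_22_16, sw'_22_16, sw_23_16, sw'_23_16, sw_17_19, sw'_17_19, sw_20_19, sw'_20_19, sw_21_19, sw'_21_19, sw_22_19, sw'_22_19, sw_23_19, sw'_23_19, sw_20_17, sw'_20_17, sw_21_17, sw'_21_17, sw_22_17, sw'_22_17, sw_23_17, sw'_23_17, sw_21_20, sw'_21_20, sw_22_20, sw'_22_20, sw_23_20, sw'_23_20, sw_22_21, sw'_22_21, sw_23_21, sw'_23_21, sw_23_22, sw'_23_22, X_add, X_add', X_zero, mul_one, one_mul, CharTwo.add_self_eq_zero, add_zero, zero_add]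

theorem relEC (v c : K) : eE v * eC φ c = eC φ c * eE v := by
  simp only [eA, eB, eC, eD, eE, eF, tr, mul_assoc]
  simp only [sw_13_12, sw'_13_12, sw_18_12, sw'_18_12, sw_14_12, sw'_14_12, sw_15_12, sw'_15_12, sw_16_12, sw'_16_12, sw_19_12, sw'_19_12, sw_17_12, sw'_17_12, sw_20_12, sw'_20_12, sw_21_12, sw'_21_12, sw_22_12, sw'_22_12, sw_23_12, sw'_23_12, sw_18_13, sw'_18_13, sw_14_13, sw'_14_13, sw_15_13, sw'_15_13, sw_16_13, sw'_16_13, sw_19_13, sw'_19_13, sw_17_13, sw'_17_13, sw_20_13, sw'_20_13, sw_21_13, sw'_21_13, sw_22_13, sw'_22_13, sw_23_13, sw'_23_13, sw_14_18, sw'_14_18, sw_15_18, sw'_15_18, sw_16_18, sw'_16_18, sw_19_18, sw'_19_18, sw_17_18, sw'_17_18, sw_20_18, sw'_20_18, sw_21_18, sw'_21_18, sw_22_18, sw'_22_18, sw_23_18, sw'_23_18, sw_15_14, sw'_15_14, sw_16_14, sw'_16_14, sw_19_14, sw'_19_14, sw_17_14, sw'_17_14, sw_20_14, sw'_20_14, sw_21_14, sw'_21_14,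 sw_22_14, sw'_22_14, sw_23_14, sw'_23_14, sw_16_15, sw'_16_15, sw_19_15, sw'_19_15, sw_17_15, sw'_17_15, sw_20_15, sw'_20_15, sw_21_15, sw'_21_15, sw_22_15, sw'_22_15, sw_23_15, sw'_23_15, sw_19_16, sw'_19_16, sw_17_16, sw'_17_16, sw_20_16, sw'_20_16, sw_21_16, sw'_21_16, sw_22_16, sw'_22_16, sw_23_16, sw'_23_16, sw_17_19, sw'_17_19, sw_20_19, sw'_20_19, sw_21_19, sw'_21_19, sw_22_19, sw'_22_19, sw_23_19, sw'_23_19, sw_20_17, sw'_20_17, sw_21_17, sw'_21_17, sw_22_17, sw'_22_17, sw_23_17, sw'_23_17, sw_21_20, sw'_21_20, sw_22_20, sw'_22_20, sw_23_20, sw'_23_20, sw_22_21, sw'_22_21, sw_23_21, sw'_23_21, sw_23_22, sw'_23_22, X_add, X_add', X_zero, mul_one, one_mul, CharTwo.add_self_eq_zero, add_zero, zero_add]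

theorem relFC (w c : K) : eF w * eC φ c = eC φ c * eF w := by
  simp only [eA, eB, eC, eD, eE, eF, tr, mul_assoc]
  simp only [sw_13_12, sw'_13_12, sw_18_12, sw'_18_12, sw_14_12, sw'_14_12, sw_15_12, sw'_15_12, sw_16_12, sw'_16_12, sw_19_12, sw'_19_12, sw_17_12, sw'_17_12, sw_20_12, sw'_20_12, sw_21_12, sw'_21_12, sw_22_12, sw'_22_12, sw_23_12, sw'_23_12, sw_18_13, sw'_18_13, sw_14_13, sw'_14_13, sw_15_13, sw'_15_13, sw_16_13, sw'_16_13, sw_19_13, sw'_19_13, sw_17_13, sw'_17_13, sw_20_13, sw'_20_13, sw_21_13, sw'_21_13, sw_22_13, sw'_22_13, sw_23_13, sw'_23_13, sw_14_18, sw'_14_18, sw_15_18, sw'_15_18, sw_16_18, sw'_16_18, sw_19_18, sw'_19_18, sw_17_18, sw'_17_18, sw_20_18, sw'_20_18, sw_21_18, sw'_21_18, sw_22_18, sw'_22_18, sw_23_18, sw'_23_18, sw_15_14, sw'_15_14, sw_16_14, sw'_16_14, sw_19_14, sw'_19_14, sw_17_14, sw'_17_14, sw_20_14, sw'_20_14, sw_21_14, sw'_21_14,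 sw_22_14, sw'_22_14, sw_23_14, sw'_23_14, sw_16_15, sw'_16_15, sw_19_15, sw'_19_15, sw_17_15, sw'_17_15, sw_20_15, sw'_20_15, sw_21_15, sw'_21_15, sw_22_15, sw'_22_15, sw_23_15, sw'_23_15, sw_19_16, sw'_19_16, sw_17_16, sw'_17_16, sw_20_16, sw'_20_16, sw_21_16, sw'_21_16, sw_22_16, sw'_22_16, sw_23_16, sw'_23_16, sw_17_19, sw'_17_19, sw_20_19, sw'_20_19, sw_21_19, sw'_21_19, sw_22_19, sw'_22_19, sw_23_19, sw'_23_19, sw_20_17, sw'_20_17, sw_21_17, sw'_21_17, sw_22_17, sw'_22_17, sw_23_17, sw'_23_17, sw_21_20, sw'_21_20, sw_22_20, sw'_22_20, sw_23_20, sw'_23_20, sw_22_21, sw'_22_21, sw_23_21, sw'_23_21, sw_23_22, sw'_23_22, X_add, X_add', X_zero, mul_one, one_mul, CharTwo.add_self_eq_zero, add_zero, zero_add]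

theorem relED (v d : K) : eE v * eD φ d = eD φ d * eE v := by
  simp only [eA, eB, eC, eD, eE, eF, tr, mul_assoc]
  simp only [sw_13_12, sw'_13_12, sw_18_12, sw'_18_12, sw_14_12, sw'_14_12, sw_15_12, sw'_15_12, sw_16_12, sw'_16_12, sw_19_12, sw'_19_12, sw_17_12, sw'_17_12, sw_20_12, sw'_20_12, sw_21_12, sw'_21_12, sw_22_12, sw'_22_12, sw_23_12, sw'_23_12, sw_18_13, sw'_18_13, sw_14_13, sw'_14_13, sw_15_13, sw'_15_13, sw_16_13, sw'_16_13, sw_19_13, sw'_19_13, sw_17_13, sw'_17_13, sw_20_13, sw'_20_13, sw_21_13, sw'_21_13, sw_22_13, sw'_22_13, sw_23_13, sw'_23_13, sw_14_18, sw'_14_18, sw_15_18, sw'_15_18, sw_16_18, sw'_16_18, sw_19_18, sw'_19_18, sw_17_18, sw'_17_18, sw_20_18, sw'_20_18, sw_21_18, sw'_21_18, sw_22_18, sw'_22_18, sw_23_18, sw'_23_18, sw_15_14, sw'_15_14, sw_16_14, sw'_16_14, sw_19_14, sw'_19_14, sw_17_14, sw'_17_14, sw_20_14, sw'_20_14, sw_21_14, sw'_21_14,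 sw_22_14, sw'_22_14, sw_23_14, sw'_23_14, sw_16_15, sw'_16_15, sw_19_15, sw'_19_15, sw_17_15, sw'_17_15, sw_20_15, sw'_20_15, sw_21_15, sw'_21_15, sw_22_15, sw'_22_15, sw_23_15, sw'_23_15, sw_19_16, sw'_19_16, sw_17_16, sw'_17_16, sw_20_16, sw'_20_16, sw_21_16, sw'_21_16, sw_22_16, sw'_22_16, sw_23_16, sw'_23_16, sw_17_19, sw'_17_19, sw_20_19, sw'_20_19, sw_21_19, sw'_21_19, sw_22_19, sw'_22_19, sw_23_19, sw'_23_19, sw_20_17, sw'_20_17, sw_21_17, sw'_21_17, sw_22_17, sw'_22_17, sw_23_17, sw'_23_17, sw_21_20, sw'_21_20, sw_22_20, sw'_22_20, sw_23_20, sw'_23_20, sw_22_21, sw'_22_21, sw_23_21, sw'_23_21, sw_23_22, sw'_23_22, X_add, X_add', X_zero, mul_one, one_mul, CharTwo.add_self_eq_zero, add_zero, zero_add]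

theorem relFD (w d : K) : eF w * eD φ d = eD φ d * eF w := by
  simp only [eA, eB, eC, eD, eE, eF, tr, mul_assoc]
  simp only [sw_13_12, sw'_13_12, sw_18_12, sw'_18_12, sw_14_12, sw'_14_12, sw_15_12, sw'_15_12, sw_16_12, sw'_16_12, sw_19_12, sw'_19_12, sw_17_12, sw'_17_12, sw_20_12, sw'_20_12, sw_21_12, sw'_21_12, sw_22_12, sw'_22_12, sw_23_12, sw'_23_12, sw_18_13, sw'_18_13, sw_14_13, sw'_14_13, sw_15_13, sw'_15_13, sw_16_13, sw'_16_13, sw_19_13, sw'_19_13, sw_17_13, sw'_17_13, sw_20_13, sw'_20_13, sw_21_13, sw'_21_13, sw_22_13, sw'_22_13, sw_23_13, sw'_23_13, sw_14_18, sw'_14_18, sw_15_18, sw'_15_18, sw_16_18, sw'_16_18, sw_19_18, sw'_19_18, sw_17_18, sw'_17_18, sw_20_18, sw'_20_18, sw_21_18, sw'_21_18, sw_22_18, sw'_22_18, sw_23_18, sw'_23_18, sw_15_14, sw'_15_14, sw_16_14, sw'_16_14, sw_19_14, sw'_19_14, sw_17_14, sw'_17_14, sw_20_14, sw'_20_14, sw_21_14, sw'_21_14,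 sw_22_14, sw'_22_14, sw_23_14, sw'_23_14, sw_16_15, sw'_16_15, sw_19_15, sw'_19_15, sw_17_15, sw'_17_15, sw_20_15, sw'_20_15, sw_21_15, sw'_21_15, sw_22_15, sw'_22_15, sw_23_15, sw'_23_15, sw_19_16, sw'_19_16, sw_17_16, sw'_17_16, sw_20_16, sw'_20_16, sw_21_16, sw'_21_16, sw_22_16, sw'_22_16, sw_23_16, sw'_23_16, sw_17_19, sw'_17_19, sw_20_19, sw'_20_19, sw_21_19, sw'_21_19, sw_22_19, sw'_22_19, sw_23_19, sw'_23_19, sw_20_17, sw'_20_17, sw_21_17, sw'_21_17, sw_22_17, sw'_22_17, sw_23_17, sw'_23_17, sw_21_20, sw'_21_20, sw_22_20, sw'_22_20, sw_23_20, sw'_23_20, sw_22_21, sw'_22_21, sw_23_21, sw'_23_21, sw_23_22, sw'_23_22, X_add, X_add', X_zero, mul_one, one_mul, CharTwo.add_self_eq_zero, add_zero, zero_add]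

theorem relFE (w v : K) : eF w * eE v = eE v * eF w := by
  simp only [eA, eB, eC, eD, eE, eF, tr, mul_assoc]
  simp only [sw_13_12, sw'_13_12, sw_18_12, sw'_18_12, sw_14_12, sw'_14_12, sw_15_12, sw'_15_12, sw_16_12, sw'_16_12, sw_19_12, sw'_19_12, sw_17_12, sw'_17_12, sw_20_12, sw'_20_12, sw_21_12, sw'_21_12, sw_22_12, sw'_22_12, sw_23_12, sw'_23_12, sw_18_13, sw'_18_13, sw_14_13, sw'_14_13, sw_15_13, sw'_15_13, sw_16_13, sw'_16_13, sw_19_13, sw'_19_13, sw_17_13, sw'_17_13, sw_20_13, sw'_20_13, sw_21_13, sw'_21_13, sw_22_13, sw'_22_13, sw_23_13, sw'_23_13, sw_14_18, sw'_14_18, sw_15_18, sw'_15_18, sw_16_18, sw'_16_18, sw_19_18, sw'_19_18, sw_17_18, sw'_17_18, sw_20_18, sw'_20_18, sw_21_18, sw'_21_18, sw_22_18, sw'_22_18, sw_23_18, sw'_23_18, sw_15_14, sw'_15_14, sw_16_14, sw'_16_14, sw_19_14, sw'_19_14, sw_17_14, sw'_17_14, sw_20_14, sw'_20_14, sw_21_14, sw'_21_14,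 sw_22_14, sw'_22_14, sw_23_14, sw'_23_14, sw_16_15, sw'_16_15, sw_19_15, sw'_19_15, sw_17_15, sw'_17_15, sw_20_15, sw'_20_15, sw_21_15, sw'_21_15, sw_22_15, sw'_22_15, sw_23_15, sw'_23_15, sw_19_16, sw'_19_16, sw_17_16, sw'_17_16, sw_20_16, sw'_20_16, sw_21_16, sw'_21_16, sw_22_16, sw'_22_16, sw_23_16, sw'_23_16, sw_17_19, sw'_17_19, sw_20_19, sw'_20_19, sw_21_19, sw'_21_19, sw_22_19, sw'_22_19, sw_23_19, sw'_23_19, sw_20_17, sw'_20_17, sw_21_17, sw'_21_17, sw_22_17, sw'_22_17, sw_23_17, sw'_23_17, sw_21_20, sw'_21_20, sw_22_20, sw'_22_20, sw_23_20, sw'_23_20, sw_22_21, sw'_22_21, sw_23_21, sw'_23_21, sw_23_22, sw'_23_22, X_add, X_add', X_zero, mul_one, one_mul, CharTwo.add_self_eq_zero, add_zero, zero_add]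

theorem eA_add (s t : K) : eA φ s * eA φ t = eA φ (s + t) := by
  simp only [eA, eB, eC, eD, eE, eF, tr, mul_assoc]
  simp only [sw_13_12, sw'_13_12, sw_18_12, sw'_18_12, sw_14_12, sw'_14_12, sw_15_12, sw'_15_12, sw_16_12, sw'_16_12, sw_19_12, sw'_19_12, sw_17_12, sw'_17_12, sw_20_12, sw'_20_12, sw_21_12, sw'_21_12, sw_22_12, sw'_22_12, sw_23_12, sw'_23_12, sw_18_13, sw'_18_13, sw_14_13, sw'_14_13, sw_15_13, sw'_15_13, sw_16_13, sw'_16_13, sw_19_13, sw'_19_13, sw_17_13, sw'_17_13, sw_20_13, sw'_20_13, sw_21_13, sw'_21_13, sw_22_13, sw'_22_13, sw_23_13, sw'_23_13, sw_14_18, sw'_14_18, sw_15_18, sw'_15_18, sw_16_18, sw'_16_18, sw_19_18, sw'_19_18, sw_17_18, sw'_17_18, sw_20_18, sw'_20_18, sw_21_18, sw'_21_18, sw_22_18, sw'_22_18, sw_23_18, sw'_23_18, sw_15_14, sw'_15_14, sw_16_14, sw'_16_14, sw_19_14, sw'_19_14, sw_17_14, sw'_17_14, sw_20_14, sw'_20_14, sw_21_14,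 sw'_21_14, sw_22_14, sw'_22_14, sw_23_14, sw'_23_14, sw_16_15, sw'_16_15, sw_19_15, sw'_19_15, sw_17_15, sw'_17_15, sw_20_15, sw'_20_15, sw_21_15, sw'_21_15, sw_22_15, sw'_22_15, sw_23_15, sw'_23_15, sw_19_16, sw'_19_16, sw_17_16, sw'_17_16, sw_20_16, sw'_20_16, sw_21_16, sw'_21_16, sw_22_16, sw'_22_16, sw_23_16, sw'_23_16, sw_17_19, sw'_17_19, sw_20_19, sw'_20_19, sw_21_19, sw'_21_19, sw_22_19, sw'_22_19, sw_23_19, sw'_23_19, sw_20_17, sw'_20_17, sw_21_17, sw'_21_17, sw_22_17, sw'_22_17, sw_23_17, sw'_23_17, sw_21_20, sw'_21_20, sw_22_20, sw'_22_20, sw_23_20, sw'_23_20, sw_22_21, sw'_22_21, sw_23_21, sw'_23_21, sw_23_22, sw'_23_22, X_add, X_add', X_zero, mul_one, one_mul, CharTwo.add_self_eq_zero, add_zero, zero_add]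
  simp only [map_add]

theorem eC_add (s t : K) : eC φ s * eC φ t = eC φ (s + t) := by
  simp only [eA, eB, eC, eD, eE, eF, tr, mul_assoc]
  simp only [sw_13_12, sw'_13_12, sw_18_12, sw'_18_12, sw_14_12, sw'_14_12, sw_15_12, sw'_15_12, sw_16_12, sw'_16_12, sw_19_12, sw'_19_12, sw_17_12, sw'_17_12, sw_20_12, sw'_20_12, sw_21_12, sw'_21_12, sw_22_12, sw'_22_12, sw_23_12, sw'_23_12, sw_18_13, sw'_18_13, sw_14_13, sw'_14_13, sw_15_13, sw'_15_13, sw_16_13, sw'_16_13, sw_19_13, sw'_19_13, sw_17_13, sw'_17_13, sw_20_13, sw'_20_13, sw_21_13, sw'_21_13, sw_22_13, sw'_22_13, sw_23_13, sw'_23_13, sw_14_18, sw'_14_18, sw_15_18, sw'_15_18, sw_16_18, sw'_16_18, sw_19_18, sw'_19_18, sw_17_18, sw'_17_18, sw_20_18, sw'_20_18, sw_21_18, sw'_21_18, sw_22_18, sw'_22_18, sw_23_18, sw'_23_18, sw_15_14, sw'_15_14, sw_16_14, sw'_16_14, sw_19_14, sw'_19_14, sw_17_14, sw'_17_14, sw_20_14,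 sw'_20_14, sw_21_14, sw'_21_14, sw_22_14, sw'_22_14, sw_23_14, sw'_23_14, sw_16_15, sw'_16_15, sw_19_15, sw'_19_15, sw_17_15, sw'_17_15, sw_20_15, sw'_20_15, sw_21_15, sw'_21_15, sw_22_15, sw'_22_15, sw_23_15, sw'_23_15, sw_19_16, sw'_19_16, sw_17_16, sw'_17_16, sw_20_16, sw'_20_16, sw_21_16, sw'_21_16, sw_22_16, sw'_22_16, sw_23_16, sw'_23_16, sw_17_19, sw'_17_19, sw_20_19, sw'_20_19, sw_21_19, sw'_21_19, sw_22_19, sw'_22_19, sw_23_19, sw'_23_19, sw_20_17, sw'_20_17, sw_21_17, sw'_21_17, sw_22_17, sw'_22_17, sw_23_17, sw'_23_17, sw_21_20, sw'_21_20, sw_22_20, sw'_22_20, sw_23_20, sw'_23_20, sw_22_21, sw'_22_21, sw_23_21, sw'_23_21, sw_23_22, sw'_23_22, X_add, X_add', X_zero, mul_one, one_mul, CharTwo.add_self_eq_zero, add_zero, zero_add]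
  simp only [map_add]

theorem eD_add (s t : K) : eD φ s * eD φ t = eD φ (s + t) := by
  simp only [eA, eB, eC, eD, eE, eF, tr, mul_assoc]
  simp only [sw_13_12, sw'_13_12, sw_18_12, sw'_18_12, sw_14_12, sw'_14_12, sw_15_12, sw'_15_12, sw_16_12, sw'_16_12, sw_19_12, sw'_19_12, sw_17_12, sw'_17_12, sw_20_12, sw'_20_12, sw_21_12, sw'_21_12, sw_22_12, sw'_22_12, sw_23_12, sw'_23_12, sw_18_13, sw'_18_13, sw_14_13, sw'_14_13, sw_15_13, sw'_15_13, sw_16_13, sw'_16_13, sw_19_13, sw'_19_13, sw_17_13, sw'_17_13, sw_20_13, sw'_20_13, sw_21_13, sw'_21_13, sw_22_13, sw'_22_13, sw_23_13, sw'_23_13, sw_14_18, sw'_14_18, sw_15_18, sw'_15_18, sw_16_18, sw'_16_18, sw_19_18, sw'_19_18, sw_17_18, sw'_17_18, sw_20_18, sw'_20_18, sw_21_18, sw'_21_18, sw_22_18, sw'_22_18, sw_23_18, sw'_23_18, sw_15_14, sw'_15_14, sw_16_14, sw'_16_14, sw_19_14, sw'_19_14, sw_17_14, sw'_17_14, sw_20_14,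 sw'_20_14, sw_21_14, sw'_21_14, sw_22_14, sw'_22_14, sw_23_14, sw'_23_14, sw_16_15, sw'_16_15, sw_19_15, sw'_19_15, sw_17_15, sw'_17_15, sw_20_15, sw'_20_15, sw_21_15, sw'_21_15, sw_22_15, sw'_22_15, sw_23_15, sw'_23_15, sw_19_16, sw'_19_16, sw_17_16, sw'_17_16, sw_20_16, sw'_20_16, sw_21_16, sw'_21_16, sw_22_16, sw'_22_16, sw_23_16, sw'_23_16, sw_17_19, sw'_17_19, sw_20_19, sw'_20_19, sw_21_19, sw'_21_19, sw_22_19, sw'_22_19, sw_23_19, sw'_23_19, sw_20_17, sw'_20_17, sw_21_17, sw'_21_17, sw_22_17, sw'_22_17, sw_23_17, sw'_23_17, sw_21_20, sw'_21_20, sw_22_20, sw'_22_20, sw_23_20, sw'_23_20, sw_22_21, sw'_22_21, sw_23_21, sw'_23_21, sw_23_22, sw'_23_22, X_add, X_add', X_zero, mul_one, one_mul, CharTwo.add_self_eq_zero, add_zero, zero_add]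
  simp only [map_add]

theorem eB_add (s t : K) : eB s * eB t = eB (s + t) := X_add 14 s t

theorem eE_add (s t : K) : eE s * eE t = eE (s + t) := X_add 22 s t

theorem eF_add (s t : K) : eF s * eF t = eF (s + t) := X_add 23 s t

end

end Cfsg.Agent.Lib.Helper3.D4Inv
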