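import Mathlib
import Cfsg.Agent.Lib.Helper3.D4Inv2
import Cfsg.Agent.Lib.Helper3.ChevSL2
import Cfsg.Agent.Lib.Helper3.ChevTw15
set_option autoImplicit false
set_option linter.unusedSectionVars false
set_option linter.unusedVariables false
set_option linter.unusedSimpArgs false
open Cfsg Cfsg.Lie Cfsg.Agent.Lib.Helper3.ChevM

/-!
The action of the Weyl group representatives and of the diagonal elements on the root elements of `³D₄`.
-/

namespace Cfsg.Agent.Lib.Helper3.D4Inv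

variable {K : Type*} [Field K] [CharP K 2] (φ : K →+* K)

theorem intCast_sign (η : ℤ) (h : η = 1 ∨ η = -1) : ((η : ℤ) : K) = 1 := by
  rcases h with rfl | rfl
  · simp
  · simp [CharTwo.neg_eq]

/-- Conjugation of a root element by the representative of a word, in characteristic two. -/
theorem nw_conj (l : List ℕ) (hl : ∀ i ∈ l, i < cdD4.D.rank) (k : ℕ) (hk : k < cdD4.D.nroots) (t : K) :
    relD4.nWordU l * X k t * (relD4.nWordU l)⁻¹ = X (reflW relD4.refl l k) t := by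
  have hrel := relD4.conjRel_word (F := K) l hl
  rw [relD4.conj_units hrel (relD4.nWordU l) (relD4.nWordU_val l) k hk t, intCast_sign _ (hrel.sign k hk), one_mul]

/-- The representative of the reflection in the short fundamental root. -/
def na : GL cdD4.D.Idx K := relD4.nWordU [0, 2, 3]
/-- The representative of the reflection in the long fundamental root. -/
def nb : GL cdD4.D.Idx K := relD4.nWordU [1]

theorem conj_mul3 {G : Type*} [Group G] (n x y z : G) : n * (x * (y * z)) * n⁻¹ = (n * x * n⁻¹) * ((n * y * n⁻¹) * (n * z * n⁻¹)) := by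
  group

theorem na_B (u : K) : na * eB u * (na : GL cdD4.D.Idx K)⁻¹ = eE u := by
  unfold na eB eE
  rw [nw_conj _ (by decide) _ (by decide)]
  rfl

theorem nb_E (u : K) : nb * eE u * (nb : GL cdD4.D.Idx K)⁻¹ = eF u := by
  unfold nb eF eE
  rw [nw_conj _ (by decide) _ (by decide)]
  rfl

theorem nb_F (u : K) : nb * eF u * (nb : GL cdD4.D.Idx K)⁻¹ = eE u := by
  unfold nb eF eE
  rw [nw_conj _ (by decide) _ (by decide)]
  rfl

theorem nb_A (a : K) : nb * eA φ a * (nb : GL cdD4.D.Idx K)⁻¹ = eC φ a := by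
  unfold nb eA eC
  rw [conj_mul3, nw_conj _ (by decide) _ (by decide), nw_conj _ (by decide) _ (by decide), nw_conj _ (by decide) _ (by decide)]
  rfl

theorem nb_C (a : K) : nb * eC φ a * (nb : GL cdD4.D.Idx K)⁻¹ = eA φ a := by
  unfold nb eA eC
  rw [conj_mul3, nw_conj _ (by decide) _ (by decide), nw_conj _ (by decide) _ (by decide), nw_conj _ (by decide) _ (by decide)]
  rfl

theorem nb_D (a : K) : nb * eD φ a * (nb : GL cdD4.D.Idx K)⁻¹ = eD φ a := by
  unfold nb eD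
  rw [conj_mul3, nw_conj _ (by decide) _ (by decide), nw_conj _ (by decide) _ (by decide), nw_conj _ (by decide) _ (by decide)]
  rfl

theorem na_D (h3 : ∀ x : K, φ (φ (φ x)) = x) (d : K) : na * eD φ d * (na : GL cdD4.D.Idx K)⁻¹ = eC φ (φ (φ d)) := by
  unfold na eD eC
  rw [conj_mul3, nw_conj _ (by decide) _ (by decide), nw_conj _ (by decide) _ (by decide), nw_conj _ (by decide) _ (by decide)]
  have e1 : reflW relD4.refl [0, 2, 3] 17 = 19 := by decide
  have e2 : reflW relD4.refl [0, 2, 3] 20 = 16 := by decide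
  have e3 : reflW relD4.refl [0, 2, 3] 21 = 15 := by decide
  rw [e1, e2, e3]
  simp only [sw_13_12, sw'_13_12, sw_18_12, sw'_18_12, sw_14_12, sw'_14_12, sw_15_12, sw'_15_12, sw_16_12, sw'_16_12, sw_19_12, sw'_19_12, sw_17_12, sw'_17_12, sw_20_12, sw'_20_12, sw_21_12, sw'_21_12, sw_22_12, sw'_22_12, sw_23_12, sw'_23_12, sw_18_13, sw'_18_13, sw_14_13, sw'_14_13, sw_15_13, sw'_15_13, sw_16_13, sw'_16_13, sw_19_13, sw'_19_13, sw_17_13, sw'_17_13, sw_20_13, sw'_20_13, sw_21_13, sw'_21_13, sw_22_13, sw'_22_13, sw_23_13, sw'_23_13, sw_14_18, sw'_14_18, sw_15_18, sw'_15_18, sw_16_18, sw'_16_18, sw_19_18, sw'_19_18, sw_17_18, sw'_17_18, sw_20_18, sw'_20_18, sw_21_18, sw'_21_18, sw_22_18, sw'_22_18, sw_23_18, sw'_23_18, sw_15_14, sw'_15_14, sw_16_14, sw'_16_14, sw_19_14, sw'_19_14, sw_17_14, sw'_17_14, sw_20_14, sw'_20_14, sw_21_14, sw'_21_14, sw_22_14, sw'_22_14, sw_23_14, sw'_23_14, sw_16_15, sw'_16_15, sw_19_15, sw'_19_15,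 sw_17_15, sw'_17_15, sw_20_15, sw'_20_15, sw_21_15, sw'_21_15, sw_22_15, sw'_22_15, sw_23_15, sw'_23_15, sw_19_16, sw'_19_16, sw_17_16, sw'_17_16, sw_20_16, sw'_20_16, sw_21_16, sw'_21_16, sw_22_16, sw'_22_16, sw_23_16, sw'_23_16, sw_17_19, sw'_17_19, sw_20_19, sw'_20_19, sw_21_19, sw'_21_19, sw_22_19, sw'_22_19, sw_23_19, sw'_23_19, sw_20_17, sw'_20_17, sw_21_17, sw'_21_17, sw_22_17, sw'_22_17, sw_23_17, sw'_23_17, sw_21_20, sw'_21_20, sw_22_20, sw'_22_20, sw_23_20, sw'_23_20, sw_22_21, sw'_22_21, sw_23_21, sw'_23_21, sw_23_22, sw'_23_22, X_add, X_add', X_zero, mul_one, one_mul, CharTwo.add_self_eq_zero, add_zero, zero_add, h3]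

theorem hU_conj (i s : ℕ) (hi : i < cdD4.D.rank) (hs : s < cdD4.D.nroots) (c : K) (hc : c ≠ 0) (t : K) :
    relD4.hU (cdD4.D.simple i) c * X s t * (relD4.hU (cdD4.D.simple i) c)⁻¹ = X s (c ^ (cdD4.D.cartan i s) * t) :=
  relD4.hU_conj_xU i s hi hs c hc t

theorem hB_conj (μ : K) (hμ : μ ≠ 0) (u : K) :
    relD4.hT φ [1] μ * eB u * (relD4.hT φ [1] μ)⁻¹ = eB (μ ^ 2 * u) := by
  rw [relD4.hT_one]
  unfold eB
  have := hU_conj 1 14 (by decide) (by decide) μ hμ u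
  have e : cdD4.D.cartan 1 14 = 2 := by decide
  rw [e] at this
  rw [this]
  norm_cast

theorem hA_conj (h3 : ∀ x : K, φ (φ (φ x)) = x) (μ : K) (hμ : μ ≠ 0) (a : K) :
    relD4.hT φ [0, 2, 3] μ * eA φ a * (relD4.hT φ [0, 2, 3] μ)⁻¹ = eA φ ((φ (φ μ)) ^ 2 * a) := by
  rw [relD4.hT_three]
  have hμ1 : φ μ ≠ 0 := by simpa using hμ
  have hμ2 : φ (φ μ) ≠ 0 := by simpa using hμ1
  have key : ∀ (s : ℕ) (hs : s < cdD4.D.nroots) (t : K),
      (relD4.hU (cdD4.D.simple 0) μ * relD4.hU (cdD4.D.simple 2) (φ μ) * relD4.hU (cdD4.D.simple 3) (φ (φ μ))) * X s t *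
        (relD4.hU (cdD4.D.simple 0) μ * relD4.hU (cdD4.D.simple 2) (φ μ) * relD4.hU (cdD4.D.simple 3) (φ (φ μ)))⁻¹ =
      X s (μ ^ (cdD4.D.cartan 0 s) * ((φ μ) ^ (cdD4.D.cartan 2 s) * ((φ (φ μ)) ^ (cdD4.D.cartan 3 s) * t))) := by
    intro s hs t
    have h1 := hU_conj 3 s (by decide) hs (φ (φ μ)) hμ2 t
    have h2 := hU_conj 2 s (by decide) hs (φ μ) hμ1 ((φ (φ μ)) ^ (cdD4.D.cartan 3 s) * t)
    have h3 := hU_conj 0 s (by decide) hs μ hμ ((φ μ) ^ (cdD4.D.cartan 2 s) * ((φ (φ μ)) ^ (cdD4.D.cartan 3 s) * t))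
    rw [← h3, ← h2, ← h1]
    group
  unfold eA
  rw [conj_mul3, key 12 (by decide), key 13 (by decide), key 18 (by decide)]
  have c1 : cdD4.D.cartan 0 12 = 0 := by decide
  have c2 : cdD4.D.cartan 2 12 = 0 := by decide
  have c3 : cdD4.D.cartan 3 12 = 2 := by decide
  have c4 : cdD4.D.cartan 0 13 = 0 := by decide
  have c5 : cdD4.D.cartan 2 13 = 2 := by decide
  have c6 : cdD4.D.cartan 3 13 = 0 := by decide
  have c7 : cdD4.D.cartan 0 18 = 2 := by decide
  have c8 : cdD4.D.cartan 2 18 = 0 := by decide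
  have c9 : cdD4.D.cartan 3 18 = 0 := by decide
  rw [c1, c2, c3, c4, c5, c6, c7, c8, c9]
  simp only [zpow_zero, one_mul, map_mul, map_pow, h3]
  norm_cast

end Cfsg.Agent.Lib.Helper3.D4Inv
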