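import Mathlib
import Cfsg.Agent.Lib.Helper3.D4Inv3
set_option autoImplicit false
set_option linter.unusedSectionVars false
set_option linter.unusedVariables false
set_option linter.unusedSimpArgs false
open Cfsg Cfsg.Lie Cfsg.Agent.Lib.Helper3.ChevM

/-!
Field-theoretic facts for a cubic extension in characteristic two: trace, norm, and the twisted cross product.
-/

namespace Cfsg.Agent.Lib.Helper3.D4Inv

variable {K : Type*} [Field K] [CharP K 2] (φ : K →+* K) (h3 : ∀ x : K, φ (φ (φ x)) = x)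

/-- The fixed field of `φ`. -/
def fixF : Subfield K := φ.eqLocusField (RingHom.id K)

theorem mem_fixF {x : K} : x ∈ fixF φ ↔ φ x = x := Iff.rfl

theorem fixF_fix (x : fixF φ) : φ (x : K) = x := x.2

theorem two_eq_zero' : (2 : K) = 0 := CharTwo.two_eq_zero

theorem tr_add (x y : K) : tr φ (x + y) = tr φ x + tr φ y := by
  simp only [tr, map_add]; ring

theorem tr_zero : tr φ (0 : K) = 0 := by simp [tr]

theorem tr_smul (l x : K) (hl : φ l = l) : tr φ (l * x) = l * tr φ x := by
  simp only [tr, map_mul, hl]; ring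

theorem exists_tr_ne_zero : ∃ x : K, tr φ x ≠ 0 := by
  refine ⟨1, ?_⟩
  unfold tr
  rw [map_one, map_one]
  have h2 : (2 : K) = 0 := CharTwo.two_eq_zero
  intro h
  have h10 : (1 : K) = 0 := by linear_combination h - h2
  exact one_ne_zero h10

include h3 in
theorem exists_tr_eq (y : K) (hy : φ y = y) : ∃ x : K, tr φ x = y := by
  obtain ⟨x0, hx0⟩ := exists_tr_ne_zero φ
  have hfix : φ (tr φ x0) = tr φ x0 := tr_fix φ h3 x0
  refine ⟨y * (tr φ x0)⁻¹ * x0, ?_⟩
  rw [tr_smul φ _ _ (by rw [map_mul, map_inv₀, hfix, hy]), mul_assoc, inv_mul_cancel₀ hx0, mul_one]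

theorem nm_ne_zero (c : K) (hc : c ≠ 0) : nm φ c ≠ 0 := by
  unfold nm
  have h1 : φ c ≠ 0 := by simpa using hc
  have h2 : φ (φ c) ≠ 0 := by simpa using h1
  exact mul_ne_zero (mul_ne_zero hc h1) h2

/-- The twisted cross product. -/
def cr (a c : K) : K := φ (φ a) * c + a * φ (φ c)

include h3 in
theorem cr_ker (a c : K) (ha : a ≠ 0) (h : cr φ a c = 0) : ∃ l : K, φ l = l ∧ c = l * a := by
  have h1 : φ a ≠ 0 := by simpa using ha
  have h2 : φ (φ a) ≠ 0 := by simpa using h1
  have h20 : (2 : K) = 0 := CharTwo.two_eq_zero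
  refine ⟨c * a⁻¹, ?_, ?_⟩
  · -- `φ² l = l` implies `φ l = l`
    have e2 : φ (φ (c * a⁻¹)) = c * a⁻¹ := by
      rw [map_mul, map_mul, map_inv₀, map_inv₀, ← div_eq_mul_inv, ← div_eq_mul_inv, div_eq_div_iff h2 ha]
      unfold cr at h
      linear_combination h - φ (φ a) * c * h20
    have := congrArg φ e2
    rw [h3] at this
    exact this.symm
  · field_simp

theorem cr_self (l c : K) (hl : φ l = l) : cr φ (l * c) c = 0 := by
  unfold cr
  rw [map_mul, map_mul, hl, hl]
  have h20 : (2 : K) = 0 := CharTwo.two_eq_zero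
  linear_combination l * c * φ (φ c) * h20

include h3 in
theorem cr_surj (c d : K) (hc : c ≠ 0) (h : tr φ (φ c * d) = 0) : ∃ a : K, cr φ a c = d := by
  have h20 : (2 : K) = 0 := CharTwo.two_eq_zero
  have hc1 : φ c ≠ 0 := by simpa using hc
  have hc2 : φ (φ c) ≠ 0 := by simpa using hc1
  obtain ⟨θ, hθ⟩ := exists_tr_eq φ h3 1 (map_one φ)
  set N := nm φ c with hN
  have hN0 : N ≠ 0 := nm_ne_zero φ c hc
  have hNfix : φ N = N := nm_fix φ h3 c
  set e := d * φ c * N⁻¹ with he
  have hTe : tr φ e = 0 := by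
    have : e = N⁻¹ * (φ c * d) := by rw [he]; ring
    rw [this, tr_smul φ _ _ (by rw [map_inv₀, hNfix]), h, mul_zero]
  have hd : d = e * (c * φ (φ c)) := by
    rw [he, hN]; unfold nm; field_simp
  set b := e * φ (φ θ) + (e + φ (φ e)) * φ θ with hb
  have hbb : φ (φ b) + b = e := by
    rw [hb]
    simp only [map_add, map_mul, h3]
    unfold tr at hθ hTe
    linear_combination e * hθ + θ * hTe + (φ (φ e) * φ θ - e * θ) * h20
  refine ⟨c * b, ?_⟩
  unfold cr
  rw [map_mul, map_mul, hd]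
  linear_combination (c * φ (φ c)) * hbb

include h3 in
theorem g2_self (l c : K) (hl : φ l = l) :
    tr φ (φ (l * c) * φ (φ (l * c)) * c) = l ^ 2 * nm φ c := by
  have h20 : (2 : K) = 0 := CharTwo.two_eq_zero
  unfold tr nm
  simp only [map_mul, h3, hl]
  linear_combination l ^ 2 * c * φ c * φ (φ c) * h20

theorem sq_surj_fix [Finite K] (x : K) (hx : φ x = x) : ∃ y : K, φ y = y ∧ y ^ 2 = x := by
  have : Fintype K := Fintype.ofFinite K
  obtain ⟨y, hy⟩ := FiniteField.isSquare_of_char_two (ringChar.eq K 2) x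
  refine ⟨y, ?_, by rw [hy, sq]⟩
  have h1 : φ y * φ y = y * y := by rw [← map_mul, ← hy, hx]
  have h2 : (φ y + y) ^ 2 = 0 := by
    have h20 : (2 : K) = 0 := CharTwo.two_eq_zero
    linear_combination h1 + (φ y * y + y * y) * h20
  have h3' : φ y + y = 0 := pow_eq_zero_iff (two_ne_zero) |>.mp h2
  exact CharTwo.add_eq_zero.mp h3'

end Cfsg.Agent.Lib.Helper3.D4Inv
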