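import Mathlib
import Cfsg.Agent.Lib.Helper3.D4Inv4
set_option autoImplicit false
set_option linter.unusedSectionVars false
set_option linter.unusedVariables false
set_option linter.unusedSimpArgs false
set_option maxRecDepth 100000
open Cfsg Cfsg.Lie Cfsg.Agent.Lib.Helper3.ChevM

/-!
Normal forms of the elements of `U ∩ G¹` for the twisted group of type `³D₄` in characteristic two.
-/

namespace Cfsg.Agent.Lib.Helper3.D4Inv

variable {K : Type*} [Field K] [CharP K 2] (φ : K →+* K)

/-- The order of the positive roots used for normal forms. -/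
def posL : List ℕ := [12, 13, 18, 14, 15, 16, 19, 17, 20, 21, 22, 23]

theorem posL_eq : twD4A.CL.flatten = posL := by decide

/-- The normal form of an element of `U ∩ G¹`. -/
def nf (a u c d v w : K) : GL cdD4.D.Idx K := eA φ a * (eB u * (eC φ c * (eD φ d * (eE v * eF w))))

/-- The coordinates of a normal form. -/
def coordFn (a u c d v w : K) : ℕ → K := fun r =>
  if r = 12 then a else if r = 13 then φ (φ a) else if r = 18 then φ a else if r = 14 then u else
  if r = 15 then c else if r = 16 then φ (φ c) else if r = 19 then φ c else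
  if r = 17 then d else if r = 20 then φ d else if r = 21 then φ (φ d) else
  if r = 22 then v else if r = 23 then w else 0

theorem lp_coordFn (a u c d v w : K) : relD4.lp posL (coordFn φ a u c d v w) = nf φ a u c d v w := by
  simp [RelData.lp, ChevU.RootSys.lprod, posL, coordFn, nf, eA, eB, eC, eD, eE, eF, X, mul_assoc]


theorem rhoInv_12 : graphD4A.rhoInv 12 = 13 := by decide
theorem eps_rhoInv_12 : graphD4A.eps 13 = 1 := by decide
theorem rhoInv_13 : graphD4A.rhoInv 13 = 18 := by decide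
theorem eps_rhoInv_13 : graphD4A.eps 18 = 1 := by decide
theorem rhoInv_18 : graphD4A.rhoInv 18 = 12 := by decide
theorem eps_rhoInv_18 : graphD4A.eps 12 = 1 := by decide
theorem rhoInv_14 : graphD4A.rhoInv 14 = 14 := by decide
theorem eps_rhoInv_14 : graphD4A.eps 14 = 1 := by decide
theorem rhoInv_15 : graphD4A.rhoInv 15 = 16 := by decide
theorem eps_rhoInv_15 : graphD4A.eps 16 = 1 := by decide
theorem rhoInv_16 : graphD4A.rhoInv 16 = 19 := by decide
theorem eps_rhoInv_16 : graphD4A.eps 19 = -1 := by decide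
theorem rhoInv_19 : graphD4A.rhoInv 19 = 15 := by decide
theorem eps_rhoInv_19 : graphD4A.eps 15 = -1 := by decide
theorem rhoInv_17 : graphD4A.rhoInv 17 = 21 := by decide
theorem eps_rhoInv_17 : graphD4A.eps 21 = -1 := by decide
theorem rhoInv_20 : graphD4A.rhoInv 20 = 17 := by decide
theorem eps_rhoInv_20 : graphD4A.eps 17 = -1 := by decide
theorem rhoInv_21 : graphD4A.rhoInv 21 = 20 := by decide
theorem eps_rhoInv_21 : graphD4A.eps 20 = 1 := by decide
theorem rhoInv_22 : graphD4A.rhoInv 22 = 22 := by decide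
theorem eps_rhoInv_22 : graphD4A.eps 22 = 1 := by decide
theorem rhoInv_23 : graphD4A.rhoInv 23 = 23 := by decide
theorem eps_rhoInv_23 : graphD4A.eps 23 = 1 := by decide

variable [Fintype K]

theorem posL_nodup : posL.Nodup := by decide

theorem mem_posL (r : ℕ) : r ∈ posL ↔ cdD4.D.IsPosRoot r := by
  have := (twPosClsCheck_spec twD4A.clOk).2.1 r
  rw [posL_eq] at this
  exact this

theorem nf_inj (a u c d v w a' u' c' d' v' w' : K)
    (h : nf φ a u c d v w = nf φ a' u' c' d' v' w') :
    a = a' ∧ u = u' ∧ c = c' ∧ d = d' ∧ v = v' ∧ w = w' := by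
  rw [← lp_coordFn, ← lp_coordFn] at h
  have key := uhypD4.lp_inj_of_fintype twD4A.len posL posL_nodup mem_posL _ _ h
  refine ⟨?_, ?_, ?_, ?_, ?_, ?_⟩
  · simpa [coordFn] using key 12 (by decide)
  · simpa [coordFn] using key 14 (by decide)
  · simpa [coordFn] using key 15 (by decide)
  · simpa [coordFn] using key 17 (by decide)
  · simpa [coordFn] using key 22 (by decide)
  · simpa [coordFn] using key 23 (by decide)

theorem nf_fixed (h3 : ∀ x : K, φ (φ (φ x)) = x) (a u c d v w : K) (hu : φ u = u) (hv : φ v = v) (hw : φ w = w) :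
    twD4A.sig φ (nf φ a u c d v w) = nf φ a u c d v w := by
  rw [← lp_coordFn, ← posL_eq]
  apply (uhypD4.fix_iff graphD4A φ twD4A.CL twD4A.clOk twD4A.len _).mpr
  rw [posL_eq]
  intro s hs
  simp only [posL, List.mem_cons, List.not_mem_nil, or_false] at hs
  rcases hs with rfl | rfl | rfl | rfl | rfl | rfl | rfl | rfl | rfl | rfl | rfl | rfl <;>
    simp [GraphData.tw, coordFn, rhoInv_12, eps_rhoInv_12, rhoInv_13, eps_rhoInv_13, rhoInv_18, eps_rhoInv_18, rhoInv_14, eps_rhoInv_14, rhoInv_15, eps_rhoInv_15, rhoInv_16, eps_rhoInv_16, rhoInv_19, eps_rhoInv_19, rhoInv_17, eps_rhoInv_17, rhoInv_20, eps_rhoInv_20, rhoInv_21, eps_rhoInv_21, rhoInv_22, eps_rhoInv_22, rhoInv_23, eps_rhoInv_23, h3, hu, hv, hw, CharTwo.neg_eq]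

theorem nf_mem_pos (a u c d v w : K) : nf φ a u c d v w ∈ cdD4.D.posUnipotent K := by
  rw [← lp_coordFn]
  exact uhypD4.lp_mem posL (fun r hr => (mem_posL r).mp hr) _

theorem nf_mem_grp (h3 : ∀ x : K, φ (φ (φ x)) = x) (a u c d v w : K) (hu : φ u = u) (hv : φ v = v) (hw : φ w = w) :
    nf φ a u c d v w ∈ twD4A.grp φ := by
  have : nf φ a u c d v w ∈ cdD4.D.posUnipotent K ⊓ twD4A.grp φ := by
    rw [twD4A.posUnipotent_inf_grp φ]
    exact ⟨nf_mem_pos φ a u c d v w, nf_fixed φ h3 a u c d v w hu hv hw⟩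
  exact this.2

theorem exists_nf (h3 : ∀ x : K, φ (φ (φ x)) = x) (g : GL cdD4.D.Idx K)
    (hg : g ∈ cdD4.D.posUnipotent K ⊓ twD4A.grp φ) :
    ∃ a u c d v w : K, φ u = u ∧ φ v = v ∧ φ w = w ∧ g = nf φ a u c d v w := by
  rw [twD4A.posUnipotent_inf_grp φ] at hg
  obtain ⟨t, -, hgt, htw⟩ := uhypD4.exists_fix_coords graphD4A φ twD4A.CL twD4A.clOk twD4A.len g hg.1 hg.2
  rw [posL_eq] at hgt htw
  have e12 := htw 12 (by decide)
  have e13 := htw 13 (by decide)
  have e18 := htw 18 (by decide)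
  have e14 := htw 14 (by decide)
  have e15 := htw 15 (by decide)
  have e16 := htw 16 (by decide)
  have e19 := htw 19 (by decide)
  have e17 := htw 17 (by decide)
  have e20 := htw 20 (by decide)
  have e21 := htw 21 (by decide)
  have e22 := htw 22 (by decide)
  have e23 := htw 23 (by decide)
  simp only [GraphData.tw, rhoInv_12, eps_rhoInv_12, rhoInv_13, eps_rhoInv_13, rhoInv_18, eps_rhoInv_18, rhoInv_14, eps_rhoInv_14, rhoInv_15, eps_rhoInv_15, rhoInv_16, eps_rhoInv_16, rhoInv_19, eps_rhoInv_19, rhoInv_17, eps_rhoInv_17, rhoInv_20, eps_rhoInv_20, rhoInv_21, eps_rhoInv_21, rhoInv_22, eps_rhoInv_22, rhoInv_23, eps_rhoInv_23, Int.cast_one, Int.cast_neg, one_mul, neg_mul, CharTwo.neg_eq] at e12 e13 e18 e14 e15 e16 e19 e17 e20 e21 e22 e23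
  refine ⟨t 12, t 14, t 15, t 17, t 22, t 23, e14, e22, e23, ?_⟩
  rw [hgt, ← lp_coordFn]
  apply relD4.lp_congr
  intro r hr
  simp only [posL, List.mem_cons, List.not_mem_nil, or_false] at hr
  rcases hr with rfl | rfl | rfl | rfl | rfl | rfl | rfl | rfl | rfl | rfl | rfl | rfl
  · simp [coordFn]
  · simp only [coordFn]; norm_num; rw [e18, e13]
  · simp [coordFn]; exact e18.symm
  · simp [coordFn]
  · simp [coordFn]
  · simp only [coordFn]; norm_num; rw [e19, e16]
  · simp [coordFn]; exact e19.symm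
  · simp [coordFn]
  · simp [coordFn]; exact e20.symm
  · simp only [coordFn]; norm_num; rw [e20, e21]
  · simp [coordFn]
  · simp [coordFn]

end Cfsg.Agent.Lib.Helper3.D4Inv
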