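import Mathlib
set_option autoImplicit false
set_option linter.unusedSectionVars false
set_option linter.unusedVariables false
set_option linter.unusedSimpArgs false

/-!
An abstract description of a maximal unipotent subgroup of a group of type `G₂` (or `³D₄`) in characteristic two:
six families of root elements `A, B, C, D, E, Z` (for the roots `a, b, a + b, 2a + b, 3a + b, 3a + 2b`; the
long root elements `B, E, Z` are parametrised by a subfield `F` of the field `K` parametrising the short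
root elements), their commutator relations, two Weyl group representatives and enough diagonal elements.
The main result is that every involution which is a product of root elements in the standard order is
conjugate to `A 1` or to `B 1`.
-/

namespace Cfsg.Agent.Lib.Helper3.G2Inv

/-- The data and the relations. -/
structure Sys (G : Type*) [Group G] (K : Type*) [Field K] (F : Subfield K) where
  A : K → G
  B : F → G
  C : K → G
  D : K → G
  E : F → G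
  Z : F → G
  f1 : K → F → K
  f2 : K → F → F
  f3 : K → F → F
  cr : K → K → K
  g2 : K → K → F
  g3 : K → K → F
  T1 : K → K → F
  T : K → K → F
  N : K → F
  A_add : ∀ s t, A s * A t = A (s + t)
  B_add : ∀ s t, B s * B t = B (s + t)
  C_add : ∀ s t, C s * C t = C (s + t)
  D_add : ∀ s t, D s * D t = D (s + t)
  E_add : ∀ s t, E s * E t = E (s + t)
  Z_add : ∀ s t, Z s * Z t = Z (s + t)
  BA : ∀ u a, B u * A a = A a * (B u * (C (a * u) * (D (f1 a u) * (E (f2 a u) * Z (f3 a u)))))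
  CA : ∀ c a, C c * A a = A a * (C c * (D (cr a c) * (E (g2 a c) * Z (g3 a c))))
  DA : ∀ d a, D d * A a = A a * (D d * E (T1 a d))
  EA : ∀ v a, E v * A a = A a * E v
  ZA : ∀ w a, Z w * A a = A a * Z w
  CB : ∀ c u, C c * B u = B u * C c
  DB : ∀ d u, D d * B u = B u * D d
  EB : ∀ v u, E v * B u = B u * (E v * Z (u * v))
  ZB : ∀ w u, Z w * B u = B u * Z w
  DC : ∀ d c, D d * C c = C c * (D d * Z (T c d))
  EC : ∀ v c, E v * C c = C c * E v
  ZC : ∀ w c, Z w * C c = C c * Z w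
  ED : ∀ v d, E v * D d = D d * E v
  ZD : ∀ w d, Z w * D d = D d * Z w
  ZE : ∀ w v, Z w * E v = E v * Z w
  inj : ∀ a u c d v w a' u' c' d' v' w',
    A a * (B u * (C c * (D d * (E v * Z w)))) = A a' * (B u' * (C c' * (D d' * (E v' * Z w')))) →
      a = a' ∧ u = u' ∧ c = c' ∧ d = d' ∧ v = v' ∧ w = w'
  T_zero : ∀ d, T 0 d = 0
  T1_zero : ∀ a, T1 a 0 = 0
  T_surj_right : ∀ c, c ≠ 0 → ∀ x : F, ∃ d, T c d = x
  T_surj_left : ∀ d, d ≠ 0 → ∀ x : F, ∃ c, T c d = x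
  cr_ker : ∀ a c, a ≠ 0 → cr a c = 0 → ∃ l : F, c = l * a
  cr_surj : ∀ c d, c ≠ 0 → T c d = 0 → ∃ a, cr a c = d
  cr_self : ∀ (l : F) c, cr (l * c) c = 0
  g2_self : ∀ (l : F) c, g2 (l * c) c = l ^ 2 * N c
  N_ne : ∀ c, c ≠ 0 → N c ≠ 0
  sq_surj : ∀ x : F, ∃ y : F, y ^ 2 = x
  Γ : Subgroup G
  A_mem : ∀ a, A a ∈ Γ
  B_mem : ∀ u, B u ∈ Γ
  C_mem : ∀ c, C c ∈ Γ
  D_mem : ∀ d, D d ∈ Γ
  E_mem : ∀ v, E v ∈ Γ
  na : G
  nb : G
  na_mem : na ∈ Γ
  nb_mem : nb ∈ Γ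
  na_B : ∀ u, na * B u * na⁻¹ = E u
  na_D : ∀ d, ∃ c, (d ≠ 0 → c ≠ 0) ∧ na * D d * na⁻¹ = C c
  nb_A : ∀ a, ∃ c, (a ≠ 0 → c ≠ 0) ∧ nb * A a * nb⁻¹ = C c
  nb_C : ∀ c, ∃ a, (c ≠ 0 → a ≠ 0) ∧ nb * C c * nb⁻¹ = A a
  nb_D : ∀ d, ∃ d', (d ≠ 0 → d' ≠ 0) ∧ nb * D d * nb⁻¹ = D d'
  nb_E : ∀ v, nb * E v * nb⁻¹ = Z v
  nb_Z : ∀ w, nb * Z w * nb⁻¹ = E w
  hA : ∀ a, a ≠ 0 → ∃ h ∈ Γ, h * A a * h⁻¹ = A 1
  hB : ∀ u, u ≠ 0 → ∃ h ∈ Γ, h * B u * h⁻¹ = B 1

end Cfsg.Agent.Lib.Helper3.G2Inv
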