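import Mathlib
import Cfsg.Agent.Lib.Helper3.G2Inv1
set_option autoImplicit false
set_option linter.unusedSectionVars false
set_option linter.unusedVariables false
set_option linter.unusedSimpArgs false

/-!
Computations in the abstract unipotent group of type `G₂` in characteristic two.
-/

namespace Cfsg.Agent.Lib.Helper3.G2Inv

variable {G : Type*} [Group G] {K : Type*} [Field K] [CharP K 2] {F : Subfield K} (S : Sys G K F)

theorem F_add_self (u : F) : u + u = 0 := Subtype.ext (by simp [CharTwo.add_self_eq_zero])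

theorem F_two : (2 : F) = 0 := Subtype.ext (by simp [CharTwo.two_eq_zero])

namespace Sys

theorem A_zero : S.A 0 = 1 := by
  have := S.A_add 0 0
  rw [add_zero] at this
  exact mul_eq_left.mp this
theorem B_zero : S.B 0 = 1 := by
  have := S.B_add 0 0
  rw [add_zero] at this
  exact mul_eq_left.mp this
theorem C_zero : S.C 0 = 1 := by
  have := S.C_add 0 0
  rw [add_zero] at this
  exact mul_eq_left.mp this
theorem D_zero : S.D 0 = 1 := by
  have := S.D_add 0 0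
  rw [add_zero] at this
  exact mul_eq_left.mp this
theorem E_zero : S.E 0 = 1 := by
  have := S.E_add 0 0
  rw [add_zero] at this
  exact mul_eq_left.mp this
theorem Z_zero : S.Z 0 = 1 := by
  have := S.Z_add 0 0
  rw [add_zero] at this
  exact mul_eq_left.mp this

theorem A_sq (a : K) : S.A a * S.A a = 1 := by rw [S.A_add, CharTwo.add_self_eq_zero, S.A_zero]
theorem B_sq (a : F) : S.B a * S.B a = 1 := by rw [S.B_add, F_add_self, S.B_zero]
theorem C_sq (a : K) : S.C a * S.C a = 1 := by rw [S.C_add, CharTwo.add_self_eq_zero, S.C_zero]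
theorem D_sq (a : K) : S.D a * S.D a = 1 := by rw [S.D_add, CharTwo.add_self_eq_zero, S.D_zero]
theorem E_sq (a : F) : S.E a * S.E a = 1 := by rw [S.E_add, F_add_self, S.E_zero]
theorem Z_sq (a : F) : S.Z a * S.Z a = 1 := by rw [S.Z_add, F_add_self, S.Z_zero]

theorem A_inv (a : K) : (S.A a)⁻¹ = S.A a := inv_eq_of_mul_eq_one_left (S.A_sq a)
theorem B_inv (a : F) : (S.B a)⁻¹ = S.B a := inv_eq_of_mul_eq_one_left (S.B_sq a)
theorem C_inv (a : K) : (S.C a)⁻¹ = S.C a := inv_eq_of_mul_eq_one_left (S.C_sq a)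
theorem D_inv (a : K) : (S.D a)⁻¹ = S.D a := inv_eq_of_mul_eq_one_left (S.D_sq a)
theorem E_inv (a : F) : (S.E a)⁻¹ = S.E a := inv_eq_of_mul_eq_one_left (S.E_sq a)
theorem Z_inv (a : F) : (S.Z a)⁻¹ = S.Z a := inv_eq_of_mul_eq_one_left (S.Z_sq a)

theorem A_add' (s t : K) (g : G) : S.A s * (S.A t * g) = S.A (s + t) * g := by rw [← mul_assoc, S.A_add]
theorem B_add' (s t : F) (g : G) : S.B s * (S.B t * g) = S.B (s + t) * g := by rw [← mul_assoc, S.B_add]
theorem C_add' (s t : K) (g : G) : S.C s * (S.C t * g) = S.C (s + t) * g := by rw [← mul_assoc, S.C_add]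
theorem D_add' (s t : K) (g : G) : S.D s * (S.D t * g) = S.D (s + t) * g := by rw [← mul_assoc, S.D_add]
theorem E_add' (s t : F) (g : G) : S.E s * (S.E t * g) = S.E (s + t) * g := by rw [← mul_assoc, S.E_add]
theorem Z_add' (s t : F) (g : G) : S.Z s * (S.Z t * g) = S.Z (s + t) * g := by rw [← mul_assoc, S.Z_add]

theorem BA' (u a) (g : G) : S.B u * (S.A a * g) = S.A a * (S.B u * (S.C (a * u) * (S.D (S.f1 a u) * (S.E (S.f2 a u) * (S.Z (S.f3 a u) * g))))) := by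
  rw [← mul_assoc, S.BA]; simp only [mul_assoc]
theorem CA' (c a) (g : G) : S.C c * (S.A a * g) = S.A a * (S.C c * (S.D (S.cr a c) * (S.E (S.g2 a c) * (S.Z (S.g3 a c) * g)))) := by
  rw [← mul_assoc, S.CA]; simp only [mul_assoc]
theorem DA' (d a) (g : G) : S.D d * (S.A a * g) = S.A a * (S.D d * (S.E (S.T1 a d) * g)) := by
  rw [← mul_assoc, S.DA]; simp only [mul_assoc]
theorem EA' (v a) (g : G) : S.E v * (S.A a * g) = S.A a * (S.E v * g) := by
  rw [← mul_assoc, S.EA]; simp only [mul_assoc]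
theorem ZA' (w a) (g : G) : S.Z w * (S.A a * g) = S.A a * (S.Z w * g) := by
  rw [← mul_assoc, S.ZA]; simp only [mul_assoc]
theorem CB' (c u) (g : G) : S.C c * (S.B u * g) = S.B u * (S.C c * g) := by
  rw [← mul_assoc, S.CB]; simp only [mul_assoc]
theorem DB' (d u) (g : G) : S.D d * (S.B u * g) = S.B u * (S.D d * g) := by
  rw [← mul_assoc, S.DB]; simp only [mul_assoc]
theorem EB' (v u) (g : G) : S.E v * (S.B u * g) = S.B u * (S.E v * (S.Z (u * v) * g)) := by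
  rw [← mul_assoc, S.EB]; simp only [mul_assoc]
theorem ZB' (w u) (g : G) : S.Z w * (S.B u * g) = S.B u * (S.Z w * g) := by
  rw [← mul_assoc, S.ZB]; simp only [mul_assoc]
theorem DC' (d c) (g : G) : S.D d * (S.C c * g) = S.C c * (S.D d * (S.Z (S.T c d) * g)) := by
  rw [← mul_assoc, S.DC]; simp only [mul_assoc]
theorem EC' (v c) (g : G) : S.E v * (S.C c * g) = S.C c * (S.E v * g) := by
  rw [← mul_assoc, S.EC]; simp only [mul_assoc]
theorem ZC' (w c) (g : G) : S.Z w * (S.C c * g) = S.C c * (S.Z w * g) := by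
  rw [← mul_assoc, S.ZC]; simp only [mul_assoc]
theorem ED' (v d) (g : G) : S.E v * (S.D d * g) = S.D d * (S.E v * g) := by
  rw [← mul_assoc, S.ED]; simp only [mul_assoc]
theorem ZD' (w d) (g : G) : S.Z w * (S.D d * g) = S.D d * (S.Z w * g) := by
  rw [← mul_assoc, S.ZD]; simp only [mul_assoc]
theorem ZE' (w v) (g : G) : S.Z w * (S.E v * g) = S.E v * (S.Z w * g) := by
  rw [← mul_assoc, S.ZE]; simp only [mul_assoc]

/-- The elements of the subgroup generated by the root elements for `a + b, 2a + b, 3a + b, 3a + 2b`. -/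
def y (c d : K) (v w : F) : G := S.C c * (S.D d * (S.E v * S.Z w))

theorem y_mul (c d : K) (v w : F) (c' d' : K) (v' w' : F) :
    S.y c d v w * S.y c' d' v' w' = S.y (c + c') (d + d') (v + v') (w + w' + S.T c' d) := by
  simp only [y, mul_assoc]
  simp only [S.BA, S.BA', S.CA, S.CA', S.DA, S.DA', S.EA, S.EA', S.ZA, S.ZA', S.CB, S.CB', S.DB, S.DB', S.EB, S.EB',
    S.ZB, S.ZB', S.DC, S.DC', S.EC, S.EC', S.ZC, S.ZC', S.ED, S.ED', S.ZD, S.ZD', S.ZE, S.ZE',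
    S.A_add, S.A_add', S.B_add, S.B_add', S.C_add, S.C_add', S.D_add, S.D_add', S.E_add, S.E_add', S.Z_add, S.Z_add',
    CharTwo.add_self_eq_zero, F_add_self, S.A_zero, S.B_zero, S.C_zero, S.D_zero, S.E_zero, S.Z_zero, one_mul, mul_one, add_zero, zero_add]
  ring_nf

theorem y_zero : S.y 0 0 0 0 = 1 := by
  simp only [y, S.C_zero, S.D_zero, S.E_zero, S.Z_zero, mul_one]

theorem conjA_y (a : K) (c d : K) (v w : F) :
    S.A a * S.y c d v w * S.A a = S.y c (d + S.cr a c) (v + S.g2 a c + S.T1 a d) (w + S.g3 a c) := by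
  simp only [y, mul_assoc]
  simp only [S.BA, S.BA', S.CA, S.CA', S.DA, S.DA', S.EA, S.EA', S.ZA, S.ZA', S.CB, S.CB', S.DB, S.DB', S.EB, S.EB',
    S.ZB, S.ZB', S.DC, S.DC', S.EC, S.EC', S.ZC, S.ZC', S.ED, S.ED', S.ZD, S.ZD', S.ZE, S.ZE',
    S.A_add, S.A_add', S.B_add, S.B_add', S.C_add, S.C_add', S.D_add, S.D_add', S.E_add, S.E_add', S.Z_add, S.Z_add',
    CharTwo.add_self_eq_zero, F_add_self, S.A_zero, S.B_zero, S.C_zero, S.D_zero, S.E_zero, S.Z_zero, one_mul, mul_one, add_zero, zero_add]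
  ring_nf

theorem conjB_y (u : F) (c d : K) (v w : F) :
    S.B u * S.y c d v w * S.B u = S.y c d v (w + u * v) := by
  simp only [y, mul_assoc]
  simp only [S.BA, S.BA', S.CA, S.CA', S.DA, S.DA', S.EA, S.EA', S.ZA, S.ZA', S.CB, S.CB', S.DB, S.DB', S.EB, S.EB',
    S.ZB, S.ZB', S.DC, S.DC', S.EC, S.EC', S.ZC, S.ZC', S.ED, S.ED', S.ZD, S.ZD', S.ZE, S.ZE',
    S.A_add, S.A_add', S.B_add, S.B_add', S.C_add, S.C_add', S.D_add, S.D_add', S.E_add, S.E_add', S.Z_add, S.Z_add',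
    CharTwo.add_self_eq_zero, F_add_self, S.A_zero, S.B_zero, S.C_zero, S.D_zero, S.E_zero, S.Z_zero, one_mul, mul_one, add_zero, zero_add]
  ring_nf

theorem conjC_y (x : K) (c d : K) (v w : F) :
    S.C x * S.y c d v w * S.C x = S.y c d v (w + S.T x d) := by
  simp only [y, mul_assoc]
  simp only [S.BA, S.BA', S.CA, S.CA', S.DA, S.DA', S.EA, S.EA', S.ZA, S.ZA', S.CB, S.CB', S.DB, S.DB', S.EB, S.EB',
    S.ZB, S.ZB', S.DC, S.DC', S.EC, S.EC', S.ZC, S.ZC', S.ED, S.ED', S.ZD, S.ZD', S.ZE, S.ZE',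
    S.A_add, S.A_add', S.B_add, S.B_add', S.C_add, S.C_add', S.D_add, S.D_add', S.E_add, S.E_add', S.Z_add, S.Z_add',
    CharTwo.add_self_eq_zero, F_add_self, S.A_zero, S.B_zero, S.C_zero, S.D_zero, S.E_zero, S.Z_zero, one_mul, mul_one, add_zero, zero_add]
  ring_nf
  simp only [CharTwo.two_eq_zero, F_two, mul_zero, zero_mul, zero_add, add_zero]

theorem conjD_y (x : K) (c d : K) (v w : F) :
    S.D x * S.y c d v w * S.D x = S.y c d v (w + S.T c x) := by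
  simp only [y, mul_assoc]
  simp only [S.BA, S.BA', S.CA, S.CA', S.DA, S.DA', S.EA, S.EA', S.ZA, S.ZA', S.CB, S.CB', S.DB, S.DB', S.EB, S.EB',
    S.ZB, S.ZB', S.DC, S.DC', S.EC, S.EC', S.ZC, S.ZC', S.ED, S.ED', S.ZD, S.ZD', S.ZE, S.ZE',
    S.A_add, S.A_add', S.B_add, S.B_add', S.C_add, S.C_add', S.D_add, S.D_add', S.E_add, S.E_add', S.Z_add, S.Z_add',
    CharTwo.add_self_eq_zero, F_add_self, S.A_zero, S.B_zero, S.C_zero, S.D_zero, S.E_zero, S.Z_zero, one_mul, mul_one, add_zero, zero_add]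
  ring_nf
  simp only [CharTwo.two_eq_zero, F_two, mul_zero, zero_mul, zero_add, add_zero]

theorem conjE_y (x : F) (c d : K) (v w : F) :
    S.E x * S.y c d v w * S.E x = S.y c d v w := by
  simp only [y, mul_assoc]
  simp only [S.BA, S.BA', S.CA, S.CA', S.DA, S.DA', S.EA, S.EA', S.ZA, S.ZA', S.CB, S.CB', S.DB, S.DB', S.EB, S.EB',
    S.ZB, S.ZB', S.DC, S.DC', S.EC, S.EC', S.ZC, S.ZC', S.ED, S.ED', S.ZD, S.ZD', S.ZE, S.ZE',
    S.A_add, S.A_add', S.B_add, S.B_add', S.C_add, S.C_add', S.D_add, S.D_add', S.E_add, S.E_add', S.Z_add, S.Z_add',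
    CharTwo.add_self_eq_zero, F_add_self, S.A_zero, S.B_zero, S.C_zero, S.D_zero, S.E_zero, S.Z_zero, one_mul, mul_one, add_zero, zero_add]
  ring_nf
  simp only [CharTwo.two_eq_zero, F_two, mul_zero, zero_mul, zero_add, add_zero]

theorem conjA_B (a : K) (u : F) :
    S.A a * S.B u * S.A a = S.B u * S.y (a * u) (S.f1 a u) (S.f2 a u) (S.f3 a u) := by
  simp only [y, mul_assoc]
  simp only [S.BA, S.BA', S.CA, S.CA', S.DA, S.DA', S.EA, S.EA', S.ZA, S.ZA', S.CB, S.CB', S.DB, S.DB', S.EB, S.EB',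
    S.ZB, S.ZB', S.DC, S.DC', S.EC, S.EC', S.ZC, S.ZC', S.ED, S.ED', S.ZD, S.ZD', S.ZE, S.ZE',
    S.A_add, S.A_add', S.B_add, S.B_add', S.C_add, S.C_add', S.D_add, S.D_add', S.E_add, S.E_add', S.Z_add, S.Z_add',
    CharTwo.add_self_eq_zero, F_add_self, S.A_zero, S.B_zero, S.C_zero, S.D_zero, S.E_zero, S.Z_zero, one_mul, mul_one, add_zero, zero_add]

theorem conjB_A (a : K) (u : F) :
    S.B u * S.A a * S.B u = S.A a * S.y (a * u) (S.f1 a u) (S.f2 a u) (S.f3 a u + u * S.f2 a u) := by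
  simp only [y, mul_assoc]
  simp only [S.BA, S.BA', S.CA, S.CA', S.DA, S.DA', S.EA, S.EA', S.ZA, S.ZA', S.CB, S.CB', S.DB, S.DB', S.EB, S.EB',
    S.ZB, S.ZB', S.DC, S.DC', S.EC, S.EC', S.ZC, S.ZC', S.ED, S.ED', S.ZD, S.ZD', S.ZE, S.ZE',
    S.A_add, S.A_add', S.B_add, S.B_add', S.C_add, S.C_add', S.D_add, S.D_add', S.E_add, S.E_add', S.Z_add, S.Z_add',
    CharTwo.add_self_eq_zero, F_add_self, S.A_zero, S.B_zero, S.C_zero, S.D_zero, S.E_zero, S.Z_zero, one_mul, mul_one, add_zero, zero_add]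
  ring_nf

theorem conjE_B (x u : F) : S.E x * S.B u * S.E x = S.B u * S.Z (u * x) := by
  simp only [y, mul_assoc]
  simp only [S.BA, S.BA', S.CA, S.CA', S.DA, S.DA', S.EA, S.EA', S.ZA, S.ZA', S.CB, S.CB', S.DB, S.DB', S.EB, S.EB',
    S.ZB, S.ZB', S.DC, S.DC', S.EC, S.EC', S.ZC, S.ZC', S.ED, S.ED', S.ZD, S.ZD', S.ZE, S.ZE',
    S.A_add, S.A_add', S.B_add, S.B_add', S.C_add, S.C_add', S.D_add, S.D_add', S.E_add, S.E_add', S.Z_add, S.Z_add',
    CharTwo.add_self_eq_zero, F_add_self, S.A_zero, S.B_zero, S.C_zero, S.D_zero, S.E_zero, S.Z_zero, one_mul, mul_one, add_zero, zero_add]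

theorem sq_gen (a : K) (u : F) (c d : K) (v w : F) :
    ∃ d' v' w', (S.A a * (S.B u * S.y c d v w)) * (S.A a * (S.B u * S.y c d v w)) = S.y (a * u) d' v' w' := by
  simp only [y, mul_assoc]
  simp only [S.BA, S.BA', S.CA, S.CA', S.DA, S.DA', S.EA, S.EA', S.ZA, S.ZA', S.CB, S.CB', S.DB, S.DB', S.EB, S.EB',
    S.ZB, S.ZB', S.DC, S.DC', S.EC, S.EC', S.ZC, S.ZC', S.ED, S.ED', S.ZD, S.ZD', S.ZE, S.ZE',
    S.A_add, S.A_add', S.B_add, S.B_add', S.C_add, S.C_add', S.D_add, S.D_add', S.E_add, S.E_add', S.Z_add, S.Z_add',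
    CharTwo.add_self_eq_zero, F_add_self, S.A_zero, S.B_zero, S.C_zero, S.D_zero, S.E_zero, S.Z_zero, one_mul, mul_one, add_zero, zero_add]
  exact ⟨_, _, _, rfl⟩

theorem sq_u0 (a : K) (c d : K) (v w : F) :
    ∃ v' w', (S.A a * S.y c d v w) * (S.A a * S.y c d v w) = S.y 0 (S.cr a c) v' w' := by
  simp only [y, mul_assoc]
  simp only [S.BA, S.BA', S.CA, S.CA', S.DA, S.DA', S.EA, S.EA', S.ZA, S.ZA', S.CB, S.CB', S.DB, S.DB', S.EB, S.EB',
    S.ZB, S.ZB', S.DC, S.DC', S.EC, S.EC', S.ZC, S.ZC', S.ED, S.ED', S.ZD, S.ZD', S.ZE, S.ZE',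
    S.A_add, S.A_add', S.B_add, S.B_add', S.C_add, S.C_add', S.D_add, S.D_add', S.E_add, S.E_add', S.Z_add, S.Z_add',
    CharTwo.add_self_eq_zero, F_add_self, S.A_zero, S.B_zero, S.C_zero, S.D_zero, S.E_zero, S.Z_zero, one_mul, mul_one, add_zero, zero_add]
  exact ⟨_, _, rfl⟩

theorem sq_a0 (u : F) (c d : K) (v w : F) :
    (S.B u * S.y c d v w) * (S.B u * S.y c d v w) = S.Z (u * v + S.T c d) := by
  simp only [y, mul_assoc]
  simp only [S.BA, S.BA', S.CA, S.CA', S.DA, S.DA', S.EA, S.EA', S.ZA, S.ZA', S.CB, S.CB', S.DB, S.DB', S.EB, S.EB',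
    S.ZB, S.ZB', S.DC, S.DC', S.EC, S.EC', S.ZC, S.ZC', S.ED, S.ED', S.ZD, S.ZD', S.ZE, S.ZE',
    S.A_add, S.A_add', S.B_add, S.B_add', S.C_add, S.C_add', S.D_add, S.D_add', S.E_add, S.E_add', S.Z_add, S.Z_add',
    CharTwo.add_self_eq_zero, F_add_self, S.A_zero, S.B_zero, S.C_zero, S.D_zero, S.E_zero, S.Z_zero, one_mul, mul_one, add_zero, zero_add]
  ring_nf

theorem sq_y (c d : K) (v w : F) : S.y c d v w * S.y c d v w = S.Z (S.T c d) := by
  simp only [y, mul_assoc]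
  simp only [S.BA, S.BA', S.CA, S.CA', S.DA, S.DA', S.EA, S.EA', S.ZA, S.ZA', S.CB, S.CB', S.DB, S.DB', S.EB, S.EB',
    S.ZB, S.ZB', S.DC, S.DC', S.EC, S.EC', S.ZC, S.ZC', S.ED, S.ED', S.ZD, S.ZD', S.ZE, S.ZE',
    S.A_add, S.A_add', S.B_add, S.B_add', S.C_add, S.C_add', S.D_add, S.D_add', S.E_add, S.E_add', S.Z_add, S.Z_add',
    CharTwo.add_self_eq_zero, F_add_self, S.A_zero, S.B_zero, S.C_zero, S.D_zero, S.E_zero, S.Z_zero, one_mul, mul_one, add_zero, zero_add]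

end Sys

end Cfsg.Agent.Lib.Helper3.G2Inv
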