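import Mathlib
import Cfsg.Agent.Lib.Helper3.G2Inv2
set_option autoImplicit false
set_option linter.unusedSectionVars false
set_option linter.unusedVariables false
set_option linter.unusedSimpArgs false

/-!
Involutions in the abstract unipotent group of type `G₂` in characteristic two: each is conjugate to the short
root element `A 1` or to the long root element `B 1`.
-/

namespace Cfsg.Agent.Lib.Helper3.G2Inv

variable {G : Type*} [Group G] {K : Type*} [Field K] [CharP K 2] {F : Subfield K} (S : Sys G K F)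

namespace Sys

/-- Conjugacy under the subgroup `Γ`. -/
def Conj (g g' : G) : Prop := ∃ k ∈ S.Γ, k * g * k⁻¹ = g'

theorem Conj.trans {g g' g'' : G} (h : S.Conj g g') (h' : S.Conj g' g'') : S.Conj g g'' := by
  obtain ⟨k, hk, rfl⟩ := h
  obtain ⟨k', hk', rfl⟩ := h'
  exact ⟨k' * k, S.Γ.mul_mem hk' hk, by group⟩

/-- Conjugate to one of the two representatives. -/
def Good (g : G) : Prop := S.Conj g (S.A 1) ∨ S.Conj g (S.B 1)

theorem Good.of_conj {g : G} (k : G) (hk : k ∈ S.Γ) (h : S.Good (k * g * k⁻¹)) : S.Good g := by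
  rcases h with h | h
  · exact Or.inl (Conj.trans S ⟨k, hk, rfl⟩ h)
  · exact Or.inr (Conj.trans S ⟨k, hk, rfl⟩ h)

theorem sq_conj {g : G} (k : G) (h : g * g = 1) : (k * g * k⁻¹) * (k * g * k⁻¹) = 1 := by
  have : (k * g * k⁻¹) * (k * g * k⁻¹) = k * (g * g) * k⁻¹ := by group
  rw [this, h]; group

theorem y_inj {c d : K} {v w : F} {c' d' : K} {v' w' : F} (h : S.y c d v w = S.y c' d' v' w') :
    c = c' ∧ d = d' ∧ v = v' ∧ w = w' := by
  have := S.inj 0 0 c d v w 0 0 c' d' v' w' (by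
    simp only [S.A_zero, S.B_zero, one_mul]; exact h)
  exact this.2.2

theorem y_eq_one {c d : K} {v w : F} (h : S.y c d v w = 1) : c = 0 ∧ d = 0 ∧ v = 0 ∧ w = 0 := by
  rw [← S.y_zero] at h
  exact S.y_inj h

theorem Z_eq_y (w : F) : S.Z w = S.y 0 0 0 w := by
  simp only [y, S.C_zero, S.D_zero, S.E_zero, one_mul]

theorem T_zero_right (c : K) : S.T c 0 = 0 := by
  have h := S.DC 0 c
  rw [S.D_zero, one_mul, one_mul] at h
  have h2 : S.Z (S.T c 0) = 1 := by
    have := mul_left_cancel (a := S.C c) (b := 1) (c := S.Z (S.T c 0)) (by rw [mul_one]; exact h)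
    exact this.symm
  rw [Z_eq_y] at h2
  exact (S.y_eq_one h2).2.2.2

theorem Z_mul_y (t : F) (c d : K) (v w : F) : S.Z t * S.y c d v w = S.y c d v (w + t) := by
  rw [Z_eq_y, y_mul]
  simp only [zero_add, S.T_zero_right, add_zero]
  rw [add_comm]

theorem good_A (x : K) (hx : x ≠ 0) : S.Good (S.A x) := Or.inl (S.hA x hx)

theorem good_B (x : F) (hx : x ≠ 0) : S.Good (S.B x) := Or.inr (S.hB x hx)

theorem good_C (x : K) (hx : x ≠ 0) : S.Good (S.C x) := by
  obtain ⟨a, ha, e⟩ := S.nb_C x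
  apply Good.of_conj S S.nb S.nb_mem
  rw [e]
  exact S.good_A a (ha hx)

theorem good_D (x : K) (hx : x ≠ 0) : S.Good (S.D x) := by
  obtain ⟨c, hc, e⟩ := S.na_D x
  apply Good.of_conj S S.na S.na_mem
  rw [e]
  exact S.good_C c (hc hx)

theorem good_E (x : F) (hx : x ≠ 0) : S.Good (S.E x) := by
  apply Good.of_conj S S.na⁻¹ (S.Γ.inv_mem S.na_mem)
  have : S.na⁻¹ * S.E x * (S.na⁻¹)⁻¹ = S.B x := by
    rw [← S.na_B x]; group
  rw [this]
  exact S.good_B x hx

theorem good_Z (x : F) (hx : x ≠ 0) : S.Good (S.Z x) := by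
  apply Good.of_conj S S.nb⁻¹ (S.Γ.inv_mem S.nb_mem)
  have : S.nb⁻¹ * S.Z x * (S.nb⁻¹)⁻¹ = S.E x := by
    rw [← S.nb_E x]; group
  rw [this]
  exact S.good_E x hx

theorem good_y00 (d : K) (w : F) (h : ¬ (d = 0 ∧ w = 0)) : S.Good (S.y 0 d 0 w) := by
  by_cases hd : d = 0
  · subst hd
    have hw : w ≠ 0 := fun hw => h ⟨rfl, hw⟩
    rw [← Z_eq_y]
    exact S.good_Z w hw
  · obtain ⟨x, hx⟩ := S.T_surj_left d hd w
    apply Good.of_conj S (S.C x) (S.C_mem x)
    rw [S.C_inv, S.conjC_y, hx, F_add_self]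
    have : S.y 0 d 0 0 = S.D d := by
      simp only [y, S.C_zero, S.E_zero, S.Z_zero, one_mul, mul_one]
    rw [this]
    exact S.good_D d hd

theorem good_y0 (d : K) (v w : F) (h : S.y 0 d v w ≠ 1) : S.Good (S.y 0 d v w) := by
  by_cases hv : v = 0
  · subst hv
    apply S.good_y00
    rintro ⟨rfl, rfl⟩
    exact h S.y_zero
  · apply Good.of_conj S (S.B (w * v⁻¹)) (S.B_mem _)
    rw [S.B_inv, S.conjB_y]
    have e1 : w + w * v⁻¹ * v = 0 := by
      rw [mul_assoc, inv_mul_cancel₀ hv, mul_one, F_add_self]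
    rw [e1]
    obtain ⟨d', hd', e⟩ := S.nb_D d
    apply Good.of_conj S S.nb S.nb_mem
    have e2 : S.nb * S.y 0 d v 0 * S.nb⁻¹ = S.y 0 d' 0 v := by
      have : S.y 0 d v 0 = S.D d * S.E v := by
        simp only [y, S.C_zero, S.Z_zero, one_mul, mul_one]
      rw [this]
      have : S.nb * (S.D d * S.E v) * S.nb⁻¹ = (S.nb * S.D d * S.nb⁻¹) * (S.nb * S.E v * S.nb⁻¹) := by group
      rw [this, e, S.nb_E]
      simp only [y, S.C_zero, S.E_zero, one_mul]
    rw [e2]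
    apply S.good_y00
    rintro ⟨-, hv'⟩
    exact hv hv'

theorem good_yc (c d : K) (v w : F) (hc : c ≠ 0) (hsq : S.y c d v w * S.y c d v w = 1) :
    S.Good (S.y c d v w) := by
  have hT : S.T c d = 0 := by
    rw [S.sq_y, Z_eq_y] at hsq
    exact (S.y_eq_one hsq).2.2.2
  obtain ⟨s, hs⟩ := S.cr_surj c d hc hT
  apply Good.of_conj S (S.A s) (S.A_mem s)
  rw [S.A_inv, S.conjA_y, hs, CharTwo.add_self_eq_zero]
  generalize v + S.g2 s c + S.T1 s d = v1
  generalize w + S.g3 s c = w1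
  obtain ⟨l, hl⟩ := S.sq_surj (v1 * (S.N c)⁻¹)
  apply Good.of_conj S (S.A (l * c)) (S.A_mem _)
  rw [S.A_inv, S.conjA_y, S.cr_self, S.g2_self, S.T1_zero, hl]
  have e1 : v1 + v1 * (S.N c)⁻¹ * S.N c + 0 = 0 := by
    rw [mul_assoc, inv_mul_cancel₀ (S.N_ne c hc), mul_one, add_zero, F_add_self]
  rw [e1, add_zero]
  generalize w1 + S.g3 (↑l * c) c = w2
  obtain ⟨x, hx⟩ := S.T_surj_right c hc w2
  apply Good.of_conj S (S.D x) (S.D_mem x)
  rw [S.D_inv, S.conjD_y, hx, F_add_self]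
  have : S.y c 0 0 0 = S.C c := by
    simp only [y, S.D_zero, S.E_zero, S.Z_zero, mul_one]
  rw [this]
  exact S.good_C c hc

theorem good_By (u : F) (hu : u ≠ 0) (c d : K) (v w : F)
    (hsq : (S.B u * S.y c d v w) * (S.B u * S.y c d v w) = 1) : S.Good (S.B u * S.y c d v w) := by
  have huK : (u : K) ≠ 0 := fun h => hu (Subtype.ext h)
  set s : K := c * (u : K)⁻¹ with hs
  have e1 : S.A s * (S.B u * S.y c d v w) * (S.A s)⁻¹ =
      S.B u * S.y 0 (S.f1 s u + (d + S.cr s c)) (S.f2 s u + (v + S.g2 s c + S.T1 s d))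
        (S.f3 s u + (w + S.g3 s c) + S.T c (S.f1 s u)) := by
    have : S.A s * (S.B u * S.y c d v w) * (S.A s)⁻¹ =
        (S.A s * S.B u * S.A s) * (S.A s * S.y c d v w * S.A s) := by
      rw [S.A_inv]
      have h1 := S.A_sq s
      calc S.A s * (S.B u * S.y c d v w) * S.A s
          = S.A s * S.B u * 1 * S.y c d v w * S.A s := by group
        _ = S.A s * S.B u * (S.A s * S.A s) * S.y c d v w * S.A s := by rw [h1]
        _ = _ := by group
    rw [this, S.conjA_B, S.conjA_y, mul_assoc, S.y_mul]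
    have : s * (u : K) + c = 0 := by
      rw [hs, mul_assoc, inv_mul_cancel₀ huK, mul_one, CharTwo.add_self_eq_zero]
    rw [this]
  apply Good.of_conj S (S.A s) (S.A_mem s)
  have hsq' := sq_conj (S.A s) hsq
  rw [e1] at hsq' ⊢
  generalize S.f1 s u + (d + S.cr s c) = d2 at hsq' ⊢
  generalize S.f2 s u + (v + S.g2 s c + S.T1 s d) = v2 at hsq' ⊢
  generalize S.f3 s u + (w + S.g3 s c) + S.T c (S.f1 s u) = w2 at hsq' ⊢
  have hv2 : v2 = 0 := by
    rw [S.sq_a0, S.T_zero, add_zero, Z_eq_y] at hsq'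
    have := (S.y_eq_one hsq').2.2.2
    rcases mul_eq_zero.mp this with h | h
    · exact absurd h hu
    · exact h
  subst hv2
  apply Good.of_conj S (S.E (w2 * u⁻¹)) (S.E_mem _)
  have e2 : S.E (w2 * u⁻¹) * (S.B u * S.y 0 d2 0 w2) * (S.E (w2 * u⁻¹))⁻¹ = S.B u * S.D d2 := by
    have : S.E (w2 * u⁻¹) * (S.B u * S.y 0 d2 0 w2) * (S.E (w2 * u⁻¹))⁻¹ =
        (S.E (w2 * u⁻¹) * S.B u * S.E (w2 * u⁻¹)) * (S.E (w2 * u⁻¹) * S.y 0 d2 0 w2 * S.E (w2 * u⁻¹)) := by
      rw [S.E_inv]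
      have h1 := S.E_sq (w2 * u⁻¹)
      calc S.E (w2 * u⁻¹) * (S.B u * S.y 0 d2 0 w2) * S.E (w2 * u⁻¹)
          = S.E (w2 * u⁻¹) * S.B u * 1 * S.y 0 d2 0 w2 * S.E (w2 * u⁻¹) := by group
        _ = S.E (w2 * u⁻¹) * S.B u * (S.E (w2 * u⁻¹) * S.E (w2 * u⁻¹)) * S.y 0 d2 0 w2 * S.E (w2 * u⁻¹) := by
            rw [h1]
        _ = _ := by group
    rw [this, S.conjE_B, S.conjE_y, mul_assoc, S.Z_mul_y]
    have : w2 + u * (w2 * u⁻¹) = 0 := by
      rw [mul_comm w2, ← mul_assoc, mul_inv_cancel₀ hu, one_mul, F_add_self]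
    rw [this]
    simp only [y, S.C_zero, S.E_zero, S.Z_zero, one_mul, mul_one]
  have hsq'' := sq_conj (S.E (w2 * u⁻¹)) hsq'
  rw [e2] at hsq'' ⊢
  by_cases hd2 : d2 = 0
  · subst hd2
    rw [S.D_zero, mul_one]
    exact S.good_B u hu
  · obtain ⟨c', hc', e⟩ := S.na_D d2
    apply Good.of_conj S S.na S.na_mem
    have e3 : S.na * (S.B u * S.D d2) * S.na⁻¹ = S.y c' 0 u 0 := by
      have : S.na * (S.B u * S.D d2) * S.na⁻¹ = (S.na * S.B u * S.na⁻¹) * (S.na * S.D d2 * S.na⁻¹) := by group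
      rw [this, S.na_B, e, S.EC]
      simp only [y, S.D_zero, S.Z_zero, one_mul, mul_one]
    have hsq3 := sq_conj S.na hsq''
    rw [e3] at hsq3 ⊢
    exact S.good_yc c' 0 u 0 (hc' hd2) hsq3

theorem good_Ay (a : K) (ha : a ≠ 0) (c d : K) (v w : F)
    (hsq : (S.A a * S.y c d v w) * (S.A a * S.y c d v w) = 1) : S.Good (S.A a * S.y c d v w) := by
  obtain ⟨v', w', e⟩ := S.sq_u0 a c d v w
  rw [hsq] at e
  have hcr : S.cr a c = 0 := (S.y_eq_one e.symm).2.1
  obtain ⟨l, rfl⟩ := S.cr_ker a c ha hcr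
  have e1 : S.B l * (S.A a * S.y (l * a) d v w) * (S.B l)⁻¹ =
      S.A a * S.y 0 (S.f1 a l + d) (S.f2 a l + v) (S.f3 a l + l * S.f2 a l + (w + l * v) + S.T (l * a) (S.f1 a l)) := by
    have : S.B l * (S.A a * S.y (l * a) d v w) * (S.B l)⁻¹ =
        (S.B l * S.A a * S.B l) * (S.B l * S.y (l * a) d v w * S.B l) := by
      rw [S.B_inv]
      have h1 := S.B_sq l
      calc S.B l * (S.A a * S.y (l * a) d v w) * S.B l
          = S.B l * S.A a * 1 * S.y (l * a) d v w * S.B l := by group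
        _ = S.B l * S.A a * (S.B l * S.B l) * S.y (l * a) d v w * S.B l := by rw [h1]
        _ = _ := by group
    rw [this, S.conjB_A, S.conjB_y, mul_assoc, S.y_mul]
    have : a * (l : K) + l * a = 0 := by
      rw [mul_comm, CharTwo.add_self_eq_zero]
    rw [this]
  apply Good.of_conj S (S.B l) (S.B_mem l)
  have hsq' := sq_conj (S.B l) hsq
  rw [e1] at hsq' ⊢
  generalize S.f1 a l + d = d2 at hsq' ⊢
  generalize S.f2 a l + v = v2 at hsq' ⊢
  generalize S.f3 a l + l * S.f2 a l + (w + l * v) + S.T (l * a) (S.f1 a l) = w2 at hsq' ⊢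
  obtain ⟨c', hc', ec⟩ := S.nb_A a
  obtain ⟨d', hd', ed⟩ := S.nb_D d2
  apply Good.of_conj S S.nb S.nb_mem
  have e2 : S.nb * (S.A a * S.y 0 d2 v2 w2) * S.nb⁻¹ = S.y c' d' w2 v2 := by
    have : S.y 0 d2 v2 w2 = S.D d2 * (S.E v2 * S.Z w2) := by
      simp only [y, S.C_zero, one_mul]
    rw [this]
    have : S.nb * (S.A a * (S.D d2 * (S.E v2 * S.Z w2))) * S.nb⁻¹ =
        (S.nb * S.A a * S.nb⁻¹) * ((S.nb * S.D d2 * S.nb⁻¹) * ((S.nb * S.E v2 * S.nb⁻¹) * (S.nb * S.Z w2 * S.nb⁻¹))) := by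
      group
    rw [this, ec, ed, S.nb_E, S.nb_Z, S.ZE]
    rfl
  have hsq'' := sq_conj S.nb hsq'
  rw [e2] at hsq'' ⊢
  exact S.good_yc c' d' w2 v2 (hc' ha) hsq''

/-- Every involution in normal form is conjugate to `A 1` or to `B 1`. -/
theorem good_of_sq (a : K) (u : F) (c d : K) (v w : F)
    (hsq : (S.A a * (S.B u * S.y c d v w)) * (S.A a * (S.B u * S.y c d v w)) = 1)
    (hne : S.A a * (S.B u * S.y c d v w) ≠ 1) : S.Good (S.A a * (S.B u * S.y c d v w)) := by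
  obtain ⟨d', v', w', e⟩ := S.sq_gen a u c d v w
  rw [hsq] at e
  have hau : a * (u : K) = 0 := (S.y_eq_one e.symm).1
  by_cases ha : a = 0
  · subst ha
    rw [S.A_zero, one_mul] at hsq hne ⊢
    by_cases hu : u = 0
    · subst hu
      rw [S.B_zero, one_mul] at hsq hne ⊢
      by_cases hc : c = 0
      · subst hc
        exact S.good_y0 d v w hne
      · exact S.good_yc c d v w hc hsq
    · exact S.good_By u hu c d v w hsq
  · have hu : u = 0 := by
      rcases mul_eq_zero.mp hau with h | h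
      · exact absurd h ha
      · exact Subtype.ext h
    subst hu
    rw [S.B_zero, one_mul] at hsq hne ⊢
    exact S.good_Ay a ha c d v w hsq

end Sys

end Cfsg.Agent.Lib.Helper3.G2Inv
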