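import Mathlib
import Cfsg.Agent.Lib.Helper3.D4Inv5
import Cfsg.Agent.Lib.Helper3.G2Inv3
set_option autoImplicit false
set_option linter.unusedSectionVars false
set_option linter.unusedVariables false
set_option linter.unusedSimpArgs false
set_option maxRecDepth 100000
open Cfsg Cfsg.Lie Cfsg.Agent.Lib.Helper3.ChevM

/-!
The twisted group of type `³D₄` in characteristic two as an instance of the abstract system of type `G₂`.
-/

namespace Cfsg.Agent.Lib.Helper3.D4Inv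

variable {K : Type*} [Field K] [CharP K 2] [Fintype K] (φ : K →+* K) (h3 : ∀ x : K, φ (φ (φ x)) = x)

theorem eA_eq_nf (a : K) : eA φ a = nf φ a 0 0 0 0 0 := by
  simp [nf, eB, eC, eD, eE, eF, X_zero]

theorem eB_eq_nf (u : K) : eB u = nf φ 0 u 0 0 0 0 := by
  simp [nf, eA, eB, eC, eD, eE, eF, X_zero]

theorem eC_eq_nf (c : K) : eC φ c = nf φ 0 0 c 0 0 0 := by
  simp [nf, eA, eB, eD, eE, eF, X_zero]

theorem eD_eq_nf (d : K) : eD φ d = nf φ 0 0 0 d 0 0 := by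
  simp [nf, eA, eB, eC, eE, eF, X_zero]

theorem eE_eq_nf (v : K) : eE v = nf φ 0 0 0 0 v 0 := by
  simp [nf, eA, eB, eC, eD, eE, eF, X_zero]

theorem eF_eq_nf (w : K) : eF w = nf φ 0 0 0 0 0 w := by
  simp [nf, eA, eB, eC, eD, eE, eF, X_zero]

include h3 in
theorem na_mem : (na : GL cdD4.D.Idx K) ∈ twD4A.grp φ := by
  have := twD4A.nCls_mem (K := K) φ [[0, 2, 3]] (by decide)
  exact this

include h3 in
theorem nb_mem : (nb : GL cdD4.D.Idx K) ∈ twD4A.grp φ := by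
  have := twD4A.nCls_mem (K := K) φ [[1]] (by decide)
  exact this

/-- The system of type `G₂` attached to the twisted group of type `³D₄`. -/
noncomputable def d4Sys : G2Inv.Sys (GL cdD4.D.Idx K) K (fixF φ) where
  A := eA φ
  B u := eB (u : K)
  C := eC φ
  D := eD φ
  E v := eE (v : K)
  Z w := eF (w : K)
  f1 a u := a * φ (φ a) * u
  f2 a u := ⟨nm φ a * u, by rw [mem_fixF, map_mul, nm_fix φ h3, fixF_fix]⟩
  f3 a u := ⟨nm φ a * (u : K) ^ 2, by rw [mem_fixF, map_mul, map_pow, nm_fix φ h3, fixF_fix]⟩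
  cr := cr φ
  g2 a c := ⟨tr φ (φ a * φ (φ a) * c), tr_fix φ h3 _⟩
  g3 a c := ⟨tr φ (a * φ c * φ (φ c)), tr_fix φ h3 _⟩
  T1 a d := ⟨tr φ (φ a * d), tr_fix φ h3 _⟩
  T c d := ⟨tr φ (φ c * d), tr_fix φ h3 _⟩
  N c := ⟨nm φ c, nm_fix φ h3 _⟩
  A_add := eA_add φ
  B_add s t := eB_add _ _
  C_add := eC_add φ
  D_add := eD_add φ
  E_add s t := eE_add _ _
  Z_add s t := eF_add _ _
  BA u a := relBA φ h3 a u (fixF_fix φ u)
  CA c a := relCA φ h3 a c
  DA d a := relDA φ h3 a d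
  EA v a := relEA φ a v
  ZA w a := relFA φ a w
  CB c u := relCB φ c u
  DB d u := relDB φ d u
  EB v u := relEB (u : K) (v : K)
  ZB w u := relFB (w : K) (u : K)
  DC d c := relDC φ h3 c d
  EC v c := relEC φ v c
  ZC w c := relFC φ w c
  ED v d := relED φ v d
  ZD w d := relFD φ w d
  ZE w v := relFE (w : K) (v : K)
  inj a u c d v w a' u' c' d' v' w' h := by
    obtain ⟨h1, h2, h4, h5, h6, h7⟩ := nf_inj φ a u c d v w a' u' c' d' v' w' h
    exact ⟨h1, Subtype.ext h2, h4, h5, Subtype.ext h6, Subtype.ext h7⟩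
  T_zero d := Subtype.ext (by simp [tr])
  T1_zero a := Subtype.ext (by simp [tr])
  T_surj_right c hc x := by
    obtain ⟨y, hy⟩ := exists_tr_eq φ h3 (x : K) x.2
    have hc1 : φ c ≠ 0 := by simpa using hc
    refine ⟨(φ c)⁻¹ * y, Subtype.ext ?_⟩
    show tr φ (φ c * ((φ c)⁻¹ * y)) = x
    rw [← mul_assoc, mul_inv_cancel₀ hc1, one_mul, hy]
  T_surj_left d hd x := by
    obtain ⟨y, hy⟩ := exists_tr_eq φ h3 (x : K) x.2
    refine ⟨φ (φ (y * d⁻¹)), Subtype.ext ?_⟩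
    show tr φ (φ (φ (φ (y * d⁻¹))) * d) = x
    rw [h3, mul_assoc, inv_mul_cancel₀ hd, mul_one, hy]
  cr_ker a c ha h := by
    obtain ⟨l, hl, e⟩ := cr_ker φ h3 a c ha h
    exact ⟨⟨l, hl⟩, e⟩
  cr_surj c d hc h := cr_surj φ h3 c d hc (congrArg Subtype.val h)
  cr_self l c := cr_self φ (l : K) c (fixF_fix φ l)
  g2_self l c := Subtype.ext (g2_self φ h3 (l : K) c (fixF_fix φ l))
  N_ne c hc h := nm_ne_zero φ c hc (congrArg Subtype.val h)
  sq_surj x := by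
    obtain ⟨y, hy, e⟩ := sq_surj_fix φ (x : K) x.2
    exact ⟨⟨y, hy⟩, Subtype.ext e⟩
  Γ := twD4A.grp φ
  A_mem a := by rw [eA_eq_nf]; exact nf_mem_grp φ h3 _ _ _ _ _ _ (map_zero φ) (map_zero φ) (map_zero φ)
  B_mem u := by
    show eB (u : K) ∈ _
    rw [eB_eq_nf φ]; exact nf_mem_grp φ h3 _ _ _ _ _ _ (fixF_fix φ u) (map_zero φ) (map_zero φ)
  C_mem c := by rw [eC_eq_nf]; exact nf_mem_grp φ h3 _ _ _ _ _ _ (map_zero φ) (map_zero φ) (map_zero φ)
  D_mem d := by rw [eD_eq_nf]; exact nf_mem_grp φ h3 _ _ _ _ _ _ (map_zero φ) (map_zero φ) (map_zero φ)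
  E_mem v := by
    show eE (v : K) ∈ _
    rw [eE_eq_nf φ]; exact nf_mem_grp φ h3 _ _ _ _ _ _ (map_zero φ) (fixF_fix φ v) (map_zero φ)
  na := na
  nb := nb
  na_mem := na_mem φ h3
  nb_mem := nb_mem φ h3
  na_B u := na_B (u : K)
  na_D d := ⟨φ (φ d), fun hd => by simpa using hd, na_D φ h3 d⟩
  nb_A a := ⟨a, id, nb_A φ a⟩
  nb_C c := ⟨c, id, nb_C φ c⟩
  nb_D d := ⟨d, id, nb_D φ d⟩
  nb_E v := nb_E (v : K)
  nb_Z w := nb_F (w : K)
  hA a ha := by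
    have : Fintype K := inferInstance
    obtain ⟨ν, hν⟩ := FiniteField.isSquare_of_char_two (ringChar.eq K 2) a⁻¹
    have hν0 : ν ≠ 0 := by
      rintro rfl
      rw [mul_zero] at hν
      exact inv_ne_zero ha hν
    have hμ0 : φ ν ≠ 0 := by simpa using hν0
    refine ⟨relD4.hT φ [0, 2, 3] (φ ν), twD4A.hT_mem φ [0, 2, 3] (by decide) (φ ν) (by
      show φ (φ (φ (φ ν))) = φ ν
      rw [h3]), ?_⟩
    rw [hA_conj φ h3 (φ ν) hμ0 a, h3, sq, ← hν, inv_mul_cancel₀ ha]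
  hB u hu := by
    have huK : (u : K) ≠ 0 := fun h => hu (Subtype.ext h)
    obtain ⟨μ, hμ, e⟩ := sq_surj_fix φ ((u : K)⁻¹) (by rw [map_inv₀, fixF_fix])
    have hμ0 : μ ≠ 0 := by
      rintro rfl
      rw [zero_pow two_ne_zero] at e
      exact inv_ne_zero huK e.symm
    refine ⟨relD4.hT φ [1] μ, twD4A.hT_mem φ [1] (by decide) μ hμ, ?_⟩
    show relD4.hT φ [1] μ * eB (u : K) * (relD4.hT φ [1] μ)⁻¹ = eB ((1 : fixF φ) : K)
    rw [hB_conj φ μ hμ0 (u : K), e, inv_mul_cancel₀ huK]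
    rfl

end Cfsg.Agent.Lib.Helper3.D4Inv
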