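import Mathlib
import Cfsg.Agent.Lib.Helper3.G2Inv3
set_option autoImplicit false
set_option linter.unusedSectionVars false
set_option linter.unusedVariables false
set_option linter.unusedSimpArgs false

/-!
In the abstract unipotent group of type `G₂` in characteristic two, the short root element `A 1` is not conjugate
to an element without component in the root subgroup of `a`.
-/

namespace Cfsg.Agent.Lib.Helper3.G2Inv

variable {G : Type*} [Group G] {K : Type*} [Field K] [CharP K 2] {F : Subfield K} (S : Sys G K F)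

namespace Sys

/-- The elements of the normal subgroup generated by all positive root subgroups other than that of `a`. -/
def NoA (g : G) : Prop := ∃ u c d v w, g = S.B u * S.y c d v w

theorem y_inv (c d : K) (v w : F) : (S.y c d v w)⁻¹ = S.y c d v (w + S.T c d) := by
  apply inv_eq_of_mul_eq_one_right
  rw [S.y_mul]
  simp only [CharTwo.add_self_eq_zero, F_add_self]
  have : w + (w + S.T c d) + S.T c d = 0 := by
    have h1 := F_add_self w
    have h2 := F_add_self (S.T c d)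
    calc w + (w + S.T c d) + S.T c d = (w + w) + (S.T c d + S.T c d) := by ring
      _ = 0 := by rw [h1, h2, add_zero]
  rw [this, S.y_zero]

theorem insert_sq {x g₁ g₂ : G} (hx : x * x = 1) : x * (g₁ * g₂) * x = (x * g₁ * x) * (x * g₂ * x) := by
  calc x * (g₁ * g₂) * x = x * g₁ * 1 * g₂ * x := by group
    _ = x * g₁ * (x * x) * g₂ * x := by rw [hx]
    _ = _ := by group

theorem NoA.conj_A {g : G} (h : S.NoA g) (a : K) : S.NoA (S.A a * g * (S.A a)⁻¹) := by
  obtain ⟨u, c, d, v, w, rfl⟩ := h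
  rw [S.A_inv, insert_sq (S.A_sq a), S.conjA_B, S.conjA_y, mul_assoc, S.y_mul]
  exact ⟨_, _, _, _, _, rfl⟩

theorem NoA.conj_B {g : G} (h : S.NoA g) (x : F) : S.NoA (S.B x * g * (S.B x)⁻¹) := by
  obtain ⟨u, c, d, v, w, rfl⟩ := h
  rw [S.B_inv, insert_sq (S.B_sq x), S.conjB_y]
  have : S.B x * S.B u * S.B x = S.B u := by
    rw [S.B_add, S.B_add]
    congr 1
    have := F_add_self x
    calc x + u + x = u + (x + x) := by ring
      _ = u := by rw [this, add_zero]
  rw [this]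
  exact ⟨_, _, _, _, _, rfl⟩

theorem NoA.conj_y {g : G} (h : S.NoA g) (c₁ d₁ : K) (v₁ w₁ : F) :
    S.NoA (S.y c₁ d₁ v₁ w₁ * g * (S.y c₁ d₁ v₁ w₁)⁻¹) := by
  obtain ⟨u, c, d, v, w, rfl⟩ := h
  have e1 : S.y c₁ d₁ v₁ w₁ * S.B u = S.B u * (S.B u * S.y c₁ d₁ v₁ w₁ * S.B u) := by
    have := S.B_sq u
    calc S.y c₁ d₁ v₁ w₁ * S.B u = 1 * S.y c₁ d₁ v₁ w₁ * S.B u := by rw [one_mul]
      _ = (S.B u * S.B u) * S.y c₁ d₁ v₁ w₁ * S.B u := by rw [this]
      _ = _ := by group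
  have e2 : S.y c₁ d₁ v₁ w₁ * (S.B u * S.y c d v w) * (S.y c₁ d₁ v₁ w₁)⁻¹ =
      S.B u * ((S.B u * S.y c₁ d₁ v₁ w₁ * S.B u) * S.y c d v w * (S.y c₁ d₁ v₁ w₁)⁻¹) := by
    calc S.y c₁ d₁ v₁ w₁ * (S.B u * S.y c d v w) * (S.y c₁ d₁ v₁ w₁)⁻¹
        = (S.y c₁ d₁ v₁ w₁ * S.B u) * S.y c d v w * (S.y c₁ d₁ v₁ w₁)⁻¹ := by group
      _ = _ := by rw [e1]; group
  rw [e2, S.conjB_y, S.y_inv, S.y_mul, S.y_mul]
  exact ⟨_, _, _, _, _, rfl⟩

theorem NoA.conj_nf {g : G} (h : S.NoA g) (a : K) (u : F) (c d : K) (v w : F) :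
    S.NoA ((S.A a * (S.B u * S.y c d v w)) * g * (S.A a * (S.B u * S.y c d v w))⁻¹) := by
  have := ((h.conj_y S c d v w).conj_B S u).conj_A S a
  have e : S.A a * (S.B u * S.y c d v w) * g * (S.A a * (S.B u * S.y c d v w))⁻¹ =
      S.A a * (S.B u * (S.y c d v w * g * (S.y c d v w)⁻¹) * (S.B u)⁻¹) * (S.A a)⁻¹ := by group
  rw [e]
  exact this

theorem not_noA_A_one : ¬ S.NoA (S.A 1) := by
  rintro ⟨u, c, d, v, w, h⟩
  have h1 : S.A 1 * (S.B 0 * (S.C 0 * (S.D 0 * (S.E 0 * S.Z 0)))) =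
      S.A 0 * (S.B u * (S.C c * (S.D d * (S.E v * S.Z w)))) := by
    simp only [S.A_zero, S.B_zero, S.C_zero, S.D_zero, S.E_zero, S.Z_zero, one_mul, mul_one]
    simp only [y] at h
    exact h
  exact one_ne_zero (S.inj _ _ _ _ _ _ _ _ _ _ _ _ h1).1

theorem noA_nf (u : F) (c d : K) (v w : F) : S.NoA (S.A 0 * (S.B u * S.y c d v w)) := by
  rw [S.A_zero, one_mul]
  exact ⟨_, _, _, _, _, rfl⟩

/-- `A 1` is not conjugate, under an element in normal form, to an element in normal form with trivial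
`a`-component. -/
theorem not_conj_A_one (a : K) (u : F) (c d : K) (v w : F) (u' : F) (c' d' : K) (v' w' : F) :
    (S.A a * (S.B u * S.y c d v w)) * (S.A 0 * (S.B u' * S.y c' d' v' w')) * (S.A a * (S.B u * S.y c d v w))⁻¹ ≠
      S.A 1 := by
  intro h
  have := (S.noA_nf u' c' d' v' w').conj_nf S a u c d v w
  rw [h] at this
  exact S.not_noA_A_one this

end Sys

end Cfsg.Agent.Lib.Helper3.G2Inv
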