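import Mathlib
import Cfsg.Agent.Lib.Helper3.D4Inv6
import Cfsg.Agent.Lib.Helper3.G2Inv4
import Cfsg.Agent.Lib.Helper3.HiRoot4
import Cfsg.Agent.Lib.Helper3.ChevAt4
import Cfsg.Agent.Lib.Helper3.ChevAut2
set_option autoImplicit false
set_option linter.unusedSectionVars false
set_option linter.unusedVariables false
set_option linter.unusedSimpArgs false
set_option maxRecDepth 100000
open Cfsg Cfsg.Lie Cfsg.Agent.Lib.Helper3.ChevM

/-!
In the twisted group of type `³D₄` in characteristic two, a short root element is not conjugate to a long root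
element.
-/

namespace Cfsg.Agent.Lib.Helper3.D4Inv

open Cfsg.Agent.Lib.Helper3.ChevAt Cfsg.Agent.Lib.Helper3.ChevAut Cfsg.Agent.Lib.Helper3.ChevU

variable {K : Type*} [Field K] [CharP K 2] [Fintype K] (φ : K →+* K) (h3 : ∀ x : K, φ (φ (φ x)) = x)

/-- The table checks of type `D₄` used for the intersection of `U` and `V`. -/
def atD4 : AtHyp cdD4 relD4 := ⟨uhypD4, bnD4, d4NegTri, d4Sign⟩

theorem pos_or_neg : ∀ s < 24, cdD4.D.IsPosRoot s ∨ cdD4.D.IsNegRoot s := by decide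

theorem lp_single (s : ℕ) (δ : K) (hs : s ∈ posL) :
    relD4.lp posL (fun r => if r = s then δ else 0) = X s δ := by
  simp only [posL, List.mem_cons, List.not_mem_nil, or_false] at hs
  rcases hs with rfl | rfl | rfl | rfl | rfl | rfl | rfl | rfl | rfl | rfl | rfl | rfl <;>
    simp [RelData.lp, RootSys.lprod, posL, relD4.xU_zero]

theorem comm_23 : ∀ r < 24, cdD4.D.IsPosRoot r → commEmptyCheck cdD4.D r 23 = true := by decide

/-- The highest root element is central in `U`. -/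
theorem central_23 (g : GL cdD4.D.Idx K) (hg : g ∈ cdD4.D.posUnipotent K) (c : K) : g * X 23 c = X 23 c * g := by
  have : cdD4.D.posUnipotent K ≤ Subgroup.centralizer {X 23 c} := by
    unfold ChevalleyDatum.posUnipotent
    rw [Subgroup.closure_le]
    rintro x ⟨r, t, hr, hx⟩
    have hx' : x = relD4.xU r t := Units.ext hx
    rw [hx']
    show relD4.xU r t ∈ Subgroup.centralizer {X 23 c}
    rw [Subgroup.mem_centralizer_iff]
    intro y hy
    rw [Set.mem_singleton_iff] at hy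
    rw [hy]
    exact (commD4.xU_comm r 23 hr.1 (by decide) (comm_23 r hr.1 hr) t c).symm
  have h := this hg
  rw [Subgroup.mem_centralizer_iff] at h
  exact (h _ rfl).symm

theorem eA_one_ne_one : eA φ (1 : K) ≠ 1 := by
  intro h
  have e1 : nf φ 1 0 0 0 0 0 = nf φ 0 0 0 0 0 0 := by
    rw [← eA_eq_nf, ← eA_eq_nf, h]
    simp [eA, X_zero]
  exact one_ne_zero (nf_inj φ _ _ _ _ _ _ _ _ _ _ _ _ e1).1

include h3 in
/-- A short root element is not conjugate to the highest root element. -/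
theorem not_conj_eF (g : GL cdD4.D.Idx K) (hg : g ∈ twD4A.grp φ)
    (hconj : g * eA φ 1 * g⁻¹ = eF (1 : K)) : False := by
  obtain ⟨u₁, hu₁, h, hh, Ω, hΩ, u, hu, rfl⟩ := twD4B.grp_normal_form φ g hg
  set n := relD4.nCls K Ω with hn
  set t := eA φ (1 : K) with ht
  have hnm : n ∈ cdD4.D.monomialSubgroup K := twD4A.nCls_mem_monomial (K := K) Ω hΩ
  have hz : u₁⁻¹ * eF (1 : K) * u₁ = eF (1 : K) := by
    have := central_23 u₁ hu₁.1 (1 : K)
    unfold eF
    rw [mul_assoc, ← this, ← mul_assoc, inv_mul_cancel, one_mul]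
  have e1 : n * (u * t * u⁻¹) * n⁻¹ = h⁻¹ * eF (1 : K) * (h⁻¹)⁻¹ := by
    calc n * (u * t * u⁻¹) * n⁻¹
        = h⁻¹ * (u₁⁻¹ * ((u₁ * h * n * u) * t * (u₁ * h * n * u)⁻¹) * u₁) * (h⁻¹)⁻¹ := by group
      _ = h⁻¹ * (u₁⁻¹ * eF (1 : K) * u₁) * (h⁻¹)⁻¹ := by rw [hconj]
      _ = _ := by rw [hz]
  obtain ⟨dd, hdd⟩ := uhypD4.diagonal_conj_xU bnD4 h⁻¹ (Subgroup.inv_mem _ hh.1)
  have e2 : h⁻¹ * eF (1 : K) * (h⁻¹)⁻¹ = X 23 (dd 23 * 1) := (hdd 23 (by decide)).2 1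
  obtain ⟨σ, d', hσ⟩ := bnD4.mono.conj_xU bnD4.dec n⁻¹ (Subgroup.inv_mem _ hnm)
  obtain ⟨hs, hd0, -, hc⟩ := hσ 23 (by decide)
  have e3 : u * t * u⁻¹ = X (σ 23) (d' 23 * (dd 23 * 1)) := by
    have h5 : n⁻¹ * relD4.xU 23 (dd 23 * 1) * n⁻¹⁻¹ = relD4.xU (σ 23) (d' 23 * (dd 23 * 1)) :=
      hc (dd 23 * 1)
    have h6 : u * t * u⁻¹ = n⁻¹ * (n * (u * t * u⁻¹) * n⁻¹) * n⁻¹⁻¹ := by group
    rw [h6, e1, e2]
    exact h5
  have hδ : d' 23 * (dd 23 * 1) ≠ 0 := mul_ne_zero hd0 (mul_ne_zero (hdd 23 (by decide)).1 one_ne_zero)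
  have hu' : u ∈ cdD4.D.posUnipotent K ⊓ twD4A.grp φ := ⟨uMinus_le_posUnipotent _ _ hu.1, hu.2⟩
  have htm : t ∈ cdD4.D.posUnipotent K ⊓ twD4A.grp φ := by
    rw [ht, eA_eq_nf]
    exact ⟨nf_mem_pos φ _ _ _ _ _ _, nf_mem_grp φ h3 _ _ _ _ _ _ (map_zero φ) (map_zero φ) (map_zero φ)⟩
  have hmem : u * t * u⁻¹ ∈ cdD4.D.posUnipotent K ⊓ twD4A.grp φ :=
    Subgroup.mul_mem _ (Subgroup.mul_mem _ hu' htm) (Subgroup.inv_mem _ hu')
  rcases pos_or_neg (σ 23) hs with hp | hng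
  · obtain ⟨a0, u0, c0, d0, v0, w0, hu0, hv0, hw0, e4⟩ := exists_nf φ h3 _ hmem
    have ha0 : a0 = 0 := by
      have e5 := e4
      rw [e3, ← lp_single (σ 23) _ ((mem_posL _).mpr hp), ← lp_coordFn] at e5
      have key := uhypD4.lp_inj_of_fintype twD4A.len posL posL_nodup mem_posL _ _ e5
      have k12 := key 12 (by decide)
      have k13 := key 13 (by decide)
      simp only [coordFn] at k12 k13
      norm_num at k12 k13
      by_contra hne
      have h12 : 12 = σ 23 := by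
        by_contra hh'
        rw [if_neg hh'] at k12
        exact hne k12.symm
      have h13 : 13 = σ 23 := by
        by_contra hh'
        rw [if_neg hh'] at k13
        have : φ (φ a0) ≠ 0 := by simpa using hne
        exact this k13.symm
      omega
    subst ha0
    have hui : u⁻¹ ∈ cdD4.D.posUnipotent K ⊓ twD4A.grp φ := Subgroup.inv_mem _ hu'
    obtain ⟨a1, u1, c1, d1, v1, w1, hu1, hv1, hw1, e5⟩ := exists_nf φ h3 _ hui
    have e6 : u⁻¹ * (u * t * u⁻¹) * (u⁻¹)⁻¹ = t := by group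
    rw [e4, e5] at e6
    exact (d4Sys φ h3).not_conj_A_one a1 ⟨u1, hu1⟩ c1 d1 ⟨v1, hv1⟩ ⟨w1, hw1⟩ ⟨u0, hu0⟩ c0 d0 ⟨v0, hv0⟩ ⟨w0, hw0⟩ e6
  · have h1 : u * t * u⁻¹ ∈ cdD4.D.posUnipotent K ⊓ cdD4.D.negUnipotent K := by
      refine ⟨hmem.1, ?_⟩
      rw [e3]
      exact xU_mem_neg atD4 (σ 23) hng _
    rw [pos_inf_neg atD4, Subgroup.mem_bot] at h1
    have h2 : t = 1 := by
      have : t = u⁻¹ * (u * t * u⁻¹) * u := by group
      rw [this, h1]; group
    exact eA_one_ne_one φ h2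

include h3 in
/-- A short root element is not conjugate to a long root element. -/
theorem not_conj_eB (g : GL cdD4.D.Idx K) (hg : g ∈ twD4A.grp φ)
    (hconj : g * eA φ 1 * g⁻¹ = eB (1 : K)) : False := by
  apply not_conj_eF φ h3 (nb * (na * g)) (Subgroup.mul_mem _ (nb_mem φ h3) (Subgroup.mul_mem _ (na_mem φ h3) hg))
  have : nb * (na * g) * eA φ 1 * (nb * (na * g))⁻¹ = nb * (na * (g * eA φ 1 * g⁻¹) * na⁻¹) * nb⁻¹ := by group
  rw [this, hconj, na_B, nb_E]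

end Cfsg.Agent.Lib.Helper3.D4Inv
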