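import Mathlib
import Cfsg.Agent.Lib.Helper3.QDLocal2

set_option autoImplicit false

namespace Cfsg.Agent.Lib.Helper3

theorem surjective_of_index_ker_eq_card {N A : Type*} [Group N] [Group A] [Finite A] (φ : N →* A)
    (h : φ.ker.index = Nat.card A) : Function.Surjective φ := by
  rw [Subgroup.index_ker] at h
  have := Subgroup.eq_top_of_card_eq φ.range h
  rw [← MonoidHom.range_eq_top]
  exact this

theorem klein_card_perm (T : Type*) [Group T] [hT : IsKleinFour T] :
    Nat.card (Equiv.Perm {t : T // t ≠ 1}) = 6 := by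
  classical
  haveI : Finite T := Nat.finite_of_card_ne_zero (by rw [hT.card_four]; norm_num)
  have := Fintype.ofFinite T
  rw [Nat.card_eq_fintype_card, Fintype.card_perm, Fintype.card_subtype_compl,
    Fintype.card_subtype_eq, ← Nat.card_eq_fintype_card, hT.card_four]
  rfl

/-- if `|N(T) : C(T)| = 6` for a four-group `T`, any two involutions of `T` are conjugate in `N(T)` -/
theorem klein_conj_of_index_six {G : Type*} [Group G] (T : Subgroup G) (hT : IsKleinFour T)
    (h6 : (Subgroup.centralizer (T : Set G)).relIndex (Subgroup.normalizer (T : Set G)) = 6)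
    (t₁ t₂ : G) (h₁ : t₁ ∈ T) (h₂ : t₂ ∈ T) (h₁' : t₁ ≠ 1) (h₂' : t₂ ≠ 1) :
    ∃ n : G, n * t₁ * n⁻¹ = t₂ := by
  classical
  haveI : IsKleinFour ↥T := hT
  haveI : Finite ↥T := Nat.finite_of_card_ne_zero (by rw [hT.card_four]; norm_num)
  set ψ : ↥(Subgroup.normalizer (T : Set G)) →* Equiv.Perm {t : ↥T // t ≠ 1} :=
    (mulAutToPerm ↥T).comp T.normalizerMonoidHom with hψ
  have hker : ψ.ker = T.normalizerMonoidHom.ker := by
    ext n
    rw [MonoidHom.mem_ker, MonoidHom.mem_ker, hψ, MonoidHom.comp_apply]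
    constructor
    · intro h
      apply mulAutToPerm_injective
      rw [h, map_one]
    · intro h; rw [h, map_one]
  have hidx : ψ.ker.index = Nat.card (Equiv.Perm {t : ↥T // t ≠ 1}) := by
    rw [hker, T.normalizerMonoidHom_ker, klein_card_perm]
    exact h6
  have hsurj := surjective_of_index_ker_eq_card ψ hidx
  have hne₁ : (⟨t₁, h₁⟩ : ↥T) ≠ 1 := fun h => h₁' (congrArg Subtype.val h)
  have hne₂ : (⟨t₂, h₂⟩ : ↥T) ≠ 1 := fun h => h₂' (congrArg Subtype.val h)
  obtain ⟨n, hn⟩ := hsurj (Equiv.swap ⟨⟨t₁, h₁⟩, hne₁⟩ ⟨⟨t₂, h₂⟩, hne₂⟩)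
  refine ⟨n, ?_⟩
  have h3 := congrArg (fun σ => ((σ ⟨⟨t₁, h₁⟩, hne₁⟩ : {t : ↥T // t ≠ 1}) : G)) hn
  simp only [Equiv.swap_apply_left] at h3
  exact h3



section
variable {G : Type*} [Group G] (Q : Subgroup G) (e : ↥Q ≃* QuaternionGroup 2)

include e in
theorem q8_ker_ordFour :
    (MulAction.toPermHom ↥(Subgroup.normalizer (Q : Set G)) (OrdFour Q)).ker =
      (Q ⊔ Subgroup.centralizer (Q : Set G)).subgroupOf (Subgroup.normalizer (Q : Set G)) := by
  ext n
  rw [mem_ker_ordFour_iff, Subgroup.mem_subgroupOf]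
  constructor
  · intro hfix
    obtain ⟨q, hq, hc⟩ := q8_fix_all Q e n hfix
    have : (n : G) = q * (q⁻¹ * n) := by group
    rw [this]
    exact Subgroup.mul_mem _ (Subgroup.mem_sup_left hq) (Subgroup.mem_sup_right hc)
  · intro hn A hA h4
    apply map_conj_eq_of_mem_normalizer
    have hle : Q ⊔ Subgroup.centralizer (Q : Set G) ≤ Subgroup.normalizer (A : Set G) := by
      apply sup_le
      · intro q hq
        rw [Subgroup.mem_normalizer_iff_map_conj_eq]
        exact q8_mem_fix Q e q hq A hA h4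
      · intro c hc
        rw [Subgroup.mem_normalizer_iff_map_conj_eq]
        exact centralizer_mem_fix Q c hc A hA
    exact hle hn

include e in
theorem q8_conj_of_index_six [Finite G]
    (h6 : (Q ⊔ Subgroup.centralizer (Q : Set G)).relIndex (Subgroup.normalizer (Q : Set G)) = 6)
    (A₁ A₂ : Subgroup G) (h₁ : A₁ ≤ Q) (h₁' : Nat.card A₁ = 4) (h₂ : A₂ ≤ Q) (h₂' : Nat.card A₂ = 4) :
    ∃ n : G, n ∈ Subgroup.normalizer (Q : Set G) ∧ A₁.map (MulAut.conj n).toMonoidHom = A₂ := by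
  classical
  haveI : Finite (OrdFour Q) := by unfold OrdFour; infer_instance
  set φ := MulAction.toPermHom ↥(Subgroup.normalizer (Q : Set G)) (OrdFour Q) with hφ
  have hcard : Nat.card (Equiv.Perm (OrdFour Q)) ∣ 6 := by
    rw [Nat.card_perm]
    have h3 := card_ordFour_le Q e
    have : (6 : ℕ) = Nat.factorial 3 := rfl
    rw [this]
    exact Nat.factorial_dvd_factorial h3
  have hidx6 : φ.ker.index = 6 := by
    rw [hφ, q8_ker_ordFour Q e]; exact h6
  have hidx : φ.ker.index = Nat.card (Equiv.Perm (OrdFour Q)) := by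
    rw [hidx6]
    have h1 : Nat.card φ.range = 6 := by rw [← Subgroup.index_ker, hidx6]
    have h2 : Nat.card φ.range ∣ Nat.card (Equiv.Perm (OrdFour Q)) := Subgroup.card_subgroup_dvd_card _
    rw [h1] at h2
    exact Nat.dvd_antisymm h2 hcard
  have hsurj := surjective_of_index_ker_eq_card φ hidx
  obtain ⟨x₁, hx₁⟩ : ∃ x : OrdFour Q, x.1 = A₁ := ⟨⟨A₁, h₁, h₁'⟩, rfl⟩
  obtain ⟨x₂, hx₂⟩ : ∃ x : OrdFour Q, x.1 = A₂ := ⟨⟨A₂, h₂, h₂'⟩, rfl⟩
  obtain ⟨n, hn⟩ := hsurj (Equiv.swap x₁ x₂)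
  refine ⟨n, n.2, ?_⟩
  have h3 : φ n x₁ = x₂ := by
    rw [hn]; exact Equiv.swap_apply_left x₁ x₂
  have h4 := congrArg Subtype.val h3
  rw [← hx₁, ← hx₂]
  exact h4

end

end Cfsg.Agent.Lib.Helper3
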