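import Mathlib
import Cfsg.Agent.Lib.Helper3.QDLocal3

set_option autoImplicit false

namespace Cfsg.Agent.Lib.Helper3

/-- an element of `2`-power order is conjugate into a given Sylow `2`-subgroup -/
theorem exists_conj_mem_sylow {G : Type*} [Group G] [Finite G] {p : ℕ} [Fact p.Prime] (S : Sylow p G)
    (t : G) (k : ℕ) (ht : orderOf t = p ^ k) : ∃ g : G, g * t * g⁻¹ ∈ (S : Subgroup G) := by
  have hp : IsPGroup p ↥(Subgroup.zpowers t) := IsPGroup.of_card (n := k) (by rw [Nat.card_zpowers, ht])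
  obtain ⟨P, hP⟩ := hp.exists_le_sylow
  obtain ⟨g, hg⟩ := MulAction.exists_smul_eq G P S
  refine ⟨g, ?_⟩
  have htP : t ∈ (P : Subgroup G) := hP (Subgroup.mem_zpowers t)
  rw [← hg, Sylow.coe_subgroup_smul, Subgroup.mem_pointwise_smul_iff_inv_smul_mem]
  simpa [MulAut.smul_def, mul_assoc] using htP

theorem isConj_coe {G : Type*} [Group G] (S : Subgroup G) (s₁ s₂ g : ↥S) (h : g * s₁ * g⁻¹ = s₂) :
    IsConj (s₁ : G) (s₂ : G) := by
  rw [isConj_iff]
  exact ⟨(g : G), by rw [← h]; rfl⟩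

section
variable {G : Type*} [Group G] (S : Sylow 2 G) (d : QDData ↥(S : Subgroup G))

/-- all `b (2j)` are conjugate -/
theorem qd_isConj_b_even (j j' : ZMod (2 ^ d.n)) :
    IsConj ((d.b (2 * j) : ↥(S : Subgroup G)) : G) ((d.b (2 * j') : ↥(S : Subgroup G)) : G) := by
  obtain ⟨g, hg⟩ := d.exists_conj_b_even (2 * j) (j' - j)
  apply isConj_coe _ _ _ g
  rw [hg]; congr 1; ring

theorem qd_isConj_b_odd (j j' : ZMod (2 ^ d.n)) :
    IsConj ((d.b (2 * j + 1) : ↥(S : Subgroup G)) : G) ((d.b (2 * j' + 1) : ↥(S : Subgroup G)) : G) := by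
  obtain ⟨g, hg⟩ := d.exists_conj_b_even (2 * j + 1) (j' - j)
  apply isConj_coe _ _ _ g
  rw [hg]; congr 1; ring

theorem qd_isConj_qq_zz :
    IsConj ((d.qq : ↥(S : Subgroup G)) : G) ((d.qq * d.zz : ↥(S : Subgroup G)) : G) :=
  isConj_coe _ _ _ (d.b 0) d.y_conj_qq

/-- every involution of `G` is conjugate to `zz` or to `b 0` -/
theorem qd_involution_cases [Finite G] (t : G) (ht : orderOf t = 2) :
    IsConj t ((d.zz : ↥(S : Subgroup G)) : G) ∨ IsConj t ((d.b 0 : ↥(S : Subgroup G)) : G) := by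
  obtain ⟨g, hg⟩ := exists_conj_mem_sylow S t 1 (by rw [ht, pow_one])
  have ho : orderOf (⟨g * t * g⁻¹, hg⟩ : ↥(S : Subgroup G)) = 2 := by
    rw [← Subgroup.orderOf_coe]
    exact (MulEquiv.orderOf_eq (MulAut.conj g) t).trans ht
  have hc : IsConj t (g * t * g⁻¹) := isConj_iff.mpr ⟨g, rfl⟩
  rw [d.orderOf_eq_two_iff] at ho
  rcases ho with h | ⟨j, h⟩
  · left
    have : g * t * g⁻¹ = ((d.zz : ↥(S : Subgroup G)) : G) := congrArg Subtype.val h
    rw [← this]; exact hc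
  · right
    have : g * t * g⁻¹ = ((d.b (2 * j) : ↥(S : Subgroup G)) : G) := congrArg Subtype.val h
    rw [this] at hc
    have h2 := qd_isConj_b_even S d j 0
    rw [mul_zero] at h2
    exact hc.trans h2

/-- every element of order four of `G` is conjugate to `qq` or to `b 1` -/
theorem qd_order_four_cases [Finite G] (t : G) (ht : orderOf t = 4) :
    IsConj t ((d.qq : ↥(S : Subgroup G)) : G) ∨ IsConj t ((d.b 1 : ↥(S : Subgroup G)) : G) := by
  obtain ⟨g, hg⟩ := exists_conj_mem_sylow S t 2 (by rw [ht]; norm_num)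
  have ho : orderOf (⟨g * t * g⁻¹, hg⟩ : ↥(S : Subgroup G)) = 4 := by
    rw [← Subgroup.orderOf_coe]
    exact (MulEquiv.orderOf_eq (MulAut.conj g) t).trans ht
  have hc : IsConj t (g * t * g⁻¹) := isConj_iff.mpr ⟨g, rfl⟩
  rw [d.orderOf_eq_four_iff] at ho
  rcases ho with h | h | ⟨j, h⟩
  · left
    have : g * t * g⁻¹ = ((d.qq : ↥(S : Subgroup G)) : G) := congrArg Subtype.val h
    rw [← this]; exact hc
  · left
    have : g * t * g⁻¹ = ((d.qq * d.zz : ↥(S : Subgroup G)) : G) := congrArg Subtype.val h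
    rw [this] at hc
    exact hc.trans (qd_isConj_qq_zz S d).symm
  · right
    have : g * t * g⁻¹ = ((d.b (2 * j + 1) : ↥(S : Subgroup G)) : G) := congrArg Subtype.val h
    rw [this] at hc
    have h2 := qd_isConj_b_odd S d j 0
    rw [mul_zero, zero_add] at h2
    exact hc.trans h2

end



theorem eq_or_eq_inv_of_mem_zpowers_order_four {G : Type*} [Group G] (u w : G) (h4 : u ^ 4 = 1)
    (hw : w ∈ Subgroup.zpowers u) (hw2 : w * w ≠ 1) : w = u ∨ w = u⁻¹ := by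
  obtain ⟨k, hk⟩ := hw
  have hk0 : u ^ k = w := hk
  have h4' : u ^ (4 : ℤ) = 1 := by exact_mod_cast h4
  have hk' : u ^ (k % 4) = w := by
    rw [← hk0]
    conv_rhs => rw [← Int.emod_add_mul_ediv k 4, zpow_add, zpow_mul, h4', one_zpow, mul_one]
  have hlt : 0 ≤ k % 4 ∧ k % 4 < 4 := ⟨Int.emod_nonneg _ (by norm_num), Int.emod_lt_of_pos _ (by norm_num)⟩
  have hcases : k % 4 = 0 ∨ k % 4 = 1 ∨ k % 4 = 2 ∨ k % 4 = 3 := by omega
  rcases hcases with h0 | h0 | h0 | h0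
  · exfalso
    rw [h0, zpow_zero] at hk'
    apply hw2; rw [← hk']; simp
  · left
    rw [← hk', h0, zpow_one]
  · exfalso
    rw [h0] at hk'
    apply hw2
    rw [← hk']
    have : u ^ (2 : ℤ) * u ^ (2 : ℤ) = u ^ (4 : ℤ) := by rw [← zpow_add]; norm_num
    rw [this]; exact h4'
  · right
    rw [← hk', h0]
    rw [eq_inv_iff_mul_eq_one]
    have : u ^ (3 : ℤ) * u = u ^ (4 : ℤ) := by
      conv_lhs => rw [← zpow_one u, ← zpow_mul, ← zpow_add]
      norm_num
    rw [this, h4']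

section
variable {G : Type*} [Group G] [Finite G] (S : Sylow 2 G) (d : QDData ↥(S : Subgroup G))

theorem qd_zz_conj_b_of_six (T : Subgroup G) (hT : IsKleinFour T) (hTS : T ≤ S)
    (h6 : (Subgroup.centralizer (T : Set G)).relIndex (Subgroup.normalizer (T : Set G)) = 6) :
    IsConj ((d.zz : ↥(S : Subgroup G)) : G) ((d.b 0 : ↥(S : Subgroup G)) : G) := by
  have hT' : IsKleinFour (T.subgroupOf S) :=
    isKleinFour_of_equiv (Subgroup.subgroupOfEquivOfLe hTS).symm hT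
  obtain ⟨j, hz, hb⟩ := d.klein_struct _ hT'
  rw [Subgroup.mem_subgroupOf] at hz hb
  have hz1 : ((d.zz : ↥(S : Subgroup G)) : G) ≠ 1 := by
    intro h; exact d.zz_ne_one (Subtype.ext h)
  have hb1 : ((d.b (2 * j) : ↥(S : Subgroup G)) : G) ≠ 1 := by
    intro h; exact d.b_ne_one _ (Subtype.ext h)
  obtain ⟨n, hn⟩ := klein_conj_of_index_six T hT h6 _ _ hz hb hz1 hb1
  have h1 : IsConj ((d.zz : ↥(S : Subgroup G)) : G) ((d.b (2 * j) : ↥(S : Subgroup G)) : G) :=
    isConj_iff.mpr ⟨n, hn⟩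
  have h2 := qd_isConj_b_even S d j 0
  rw [mul_zero] at h2
  exact h1.trans h2

theorem qd_qq_conj_b_of_six (Q : Subgroup G) (hQS : Q ≤ S) (eQ : ↥Q ≃* QuaternionGroup 2)
    (h6 : (Q ⊔ Subgroup.centralizer (Q : Set G)).relIndex (Subgroup.normalizer (Q : Set G)) = 6) :
    IsConj ((d.qq : ↥(S : Subgroup G)) : G) ((d.b 1 : ↥(S : Subgroup G)) : G) := by
  let e' : ↥(Q.subgroupOf S) ≃* QuaternionGroup 2 := (Subgroup.subgroupOfEquivOfLe hQS).trans eQ
  obtain ⟨m, hA, hB⟩ := d.q8_struct _ e'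
  have hqQ : ((d.qq : ↥(S : Subgroup G)) : G) ∈ Q := by
    have := d.q8_qq_mem _ e'
    exact Subgroup.mem_subgroupOf.mp this
  have hcQ : ((d.b (2 * m + 1) : ↥(S : Subgroup G)) : G) ∈ Q := by
    have : d.b (2 * m + 1) ∈ Q.subgroupOf S := by
      rw [hB, sub_self]; unfold z2R4; ring
    exact Subgroup.mem_subgroupOf.mp this
  have ho1 : orderOf ((d.qq : ↥(S : Subgroup G)) : G) = 4 := by
    rw [Subgroup.orderOf_coe]; exact (d.orderOf_eq_four_iff _).mpr (Or.inl rfl)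
  have ho2 : orderOf ((d.b (2 * m + 1) : ↥(S : Subgroup G)) : G) = 4 := by
    rw [Subgroup.orderOf_coe]; exact d.orderOf_b_odd m
  obtain ⟨n, -, hn⟩ := q8_conj_of_index_six Q eQ h6 (Subgroup.zpowers ((d.qq : ↥(S : Subgroup G)) : G))
    (Subgroup.zpowers ((d.b (2 * m + 1) : ↥(S : Subgroup G)) : G))
    (by rw [Subgroup.zpowers_le]; exact hqQ) (by rw [Nat.card_zpowers, ho1])
    (by rw [Subgroup.zpowers_le]; exact hcQ) (by rw [Nat.card_zpowers, ho2])
  have hw : n * ((d.qq : ↥(S : Subgroup G)) : G) * n⁻¹ ∈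
      Subgroup.zpowers ((d.b (2 * m + 1) : ↥(S : Subgroup G)) : G) := by
    rw [← hn]
    exact ⟨_, Subgroup.mem_zpowers _, rfl⟩
  have hv4 : ((d.b (2 * m + 1) : ↥(S : Subgroup G)) : G) ^ 4 = 1 := by
    rw [← ho2]; exact pow_orderOf_eq_one _
  have hw2 : (n * ((d.qq : ↥(S : Subgroup G)) : G) * n⁻¹) * (n * ((d.qq : ↥(S : Subgroup G)) : G) * n⁻¹) ≠ 1 := by
    intro h
    have h1 : ((d.qq : ↥(S : Subgroup G)) : G) * ((d.qq : ↥(S : Subgroup G)) : G) = 1 := by
      have : ((d.qq : ↥(S : Subgroup G)) : G) * ((d.qq : ↥(S : Subgroup G)) : G) =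
          n⁻¹ * ((n * ((d.qq : ↥(S : Subgroup G)) : G) * n⁻¹) *
            (n * ((d.qq : ↥(S : Subgroup G)) : G) * n⁻¹)) * n := by group
      rw [this, h]; group
    have h2 : d.qq * d.qq = 1 := Subtype.ext h1
    rw [d.qq_mul_qq] at h2
    exact d.zz_ne_one h2
  have hc : IsConj ((d.qq : ↥(S : Subgroup G)) : G) (n * ((d.qq : ↥(S : Subgroup G)) : G) * n⁻¹) :=
    isConj_iff.mpr ⟨n, rfl⟩
  rcases eq_or_eq_inv_of_mem_zpowers_order_four _ _ hv4 hw hw2 with h | h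
  · rw [h] at hc
    have h2 := qd_isConj_b_odd S d m 0
    rw [mul_zero, zero_add] at h2
    exact hc.trans h2
  · rw [h] at hc
    have hinv : (((d.b (2 * m + 1) : ↥(S : Subgroup G)) : G))⁻¹ =
        ((d.b (-(d.kk * (2 * m + 1))) : ↥(S : Subgroup G)) : G) := by
      rw [← d.b_inv]; rfl
    have hpar : d.par (-(d.kk * (2 * m + 1))) = 1 := by
      rw [map_neg, map_mul, d.par_kk, d.par_odd]; decide
    obtain ⟨j, hj⟩ := (d.par_eq_one_iff _).mp hpar
    rw [hinv, hj] at hc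
    have h2 := qd_isConj_b_odd S d j 0
    rw [mul_zero, zero_add] at h2
    exact hc.trans h2

theorem qd_card_inv_classes_of_conj
    (h : IsConj ((d.zz : ↥(S : Subgroup G)) : G) ((d.b 0 : ↥(S : Subgroup G)) : G)) :
    Nat.card {C : ConjClasses G // ∃ t : G, orderOf t = 2 ∧ ConjClasses.mk t = C} = 1 := by
  have hall : ∀ t : G, orderOf t = 2 → ConjClasses.mk t = ConjClasses.mk ((d.zz : ↥(S : Subgroup G)) : G) := by
    intro t ht
    rw [ConjClasses.mk_eq_mk_iff_isConj]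
    rcases qd_involution_cases S d t ht with h1 | h1
    · exact h1
    · exact h1.trans h.symm
  rw [Nat.card_eq_one_iff_unique]
  constructor
  · constructor
    rintro ⟨C₁, t₁, h₁, rfl⟩ ⟨C₂, t₂, h₂, rfl⟩
    apply Subtype.ext
    show ConjClasses.mk t₁ = ConjClasses.mk t₂
    rw [hall t₁ h₁, hall t₂ h₂]
  · refine ⟨⟨ConjClasses.mk ((d.zz : ↥(S : Subgroup G)) : G), _, ?_, rfl⟩⟩
    rw [Subgroup.orderOf_coe]; exact d.orderOf_zz

theorem qd_card_four_classes_of_conj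
    (h : IsConj ((d.qq : ↥(S : Subgroup G)) : G) ((d.b 1 : ↥(S : Subgroup G)) : G)) :
    Nat.card {C : ConjClasses G // ∃ t : G, orderOf t = 4 ∧ ConjClasses.mk t = C} = 1 := by
  have hall : ∀ t : G, orderOf t = 4 → ConjClasses.mk t = ConjClasses.mk ((d.qq : ↥(S : Subgroup G)) : G) := by
    intro t ht
    rw [ConjClasses.mk_eq_mk_iff_isConj]
    rcases qd_order_four_cases S d t ht with h1 | h1
    · exact h1
    · exact h1.trans h.symm
  rw [Nat.card_eq_one_iff_unique]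
  constructor
  · constructor
    rintro ⟨C₁, t₁, h₁, rfl⟩ ⟨C₂, t₂, h₂, rfl⟩
    apply Subtype.ext
    show ConjClasses.mk t₁ = ConjClasses.mk t₂
    rw [hall t₁ h₁, hall t₂ h₂]
  · refine ⟨⟨ConjClasses.mk ((d.qq : ↥(S : Subgroup G)) : G), _, ?_, rfl⟩⟩
    rw [Subgroup.orderOf_coe]; exact (d.orderOf_eq_four_iff _).mpr (Or.inl rfl)

end



section
variable {G : Type*} [Group G] [Finite G] (S : Sylow 2 G) (d : QDData ↥(S : Subgroup G))

theorem qd_sylow_le_of_mem (H : Subgroup G)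
    (h0 : ((d.b 0 : ↥(S : Subgroup G)) : G) ∈ H) (h1 : ((d.b 1 : ↥(S : Subgroup G)) : G) ∈ H) :
    (S : Subgroup G) ≤ H := by
  set K : Subgroup ↥(S : Subgroup G) := H.subgroupOf S with hK
  have hb0 : d.b 0 ∈ K := Subgroup.mem_subgroupOf.mpr h0
  have hb1 : d.b 1 ∈ K := Subgroup.mem_subgroupOf.mpr h1
  have ha1 : d.a 1 ∈ K := by
    have : d.a 1 = d.b 1 * d.b 0 := by rw [QDData.b_mul_b, mul_zero, add_zero]
    rw [this]; exact K.mul_mem hb1 hb0
  have hA : ∀ i, d.a i ∈ K := by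
    intro i
    have := d.a_mul_mem K 1 ha1 i
    rwa [one_mul] at this
  have htop := d.eq_top_of K hA 0 hb0
  intro s hs
  have : (⟨s, hs⟩ : ↥(S : Subgroup G)) ∈ K := by rw [htop]; exact Subgroup.mem_top _
  exact Subgroup.mem_subgroupOf.mp this

omit [Finite G] in
theorem qd_zz_mem_of_index_two (H : Subgroup G) (h2 : H.index = 2) :
    ((d.zz : ↥(S : Subgroup G)) : G) ∈ H := by
  have h := Subgroup.mul_mem_iff_of_index_two h2 (a := ((d.qq : ↥(S : Subgroup G)) : G))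
    (b := ((d.qq : ↥(S : Subgroup G)) : G))
  have e : ((d.qq : ↥(S : Subgroup G)) : G) * ((d.qq : ↥(S : Subgroup G)) : G) =
      ((d.zz : ↥(S : Subgroup G)) : G) := by rw [← d.qq_mul_qq]; rfl
  rw [e] at h
  exact h.mpr Iff.rfl

omit [Finite G] in
theorem qd_qq_mem_of_index_two (H : Subgroup G) (h2 : H.index = 2) :
    ((d.qq : ↥(S : Subgroup G)) : G) ∈ H := by
  have h := Subgroup.mul_mem_iff_of_index_two h2 (a := ((d.a (z2eighth d.n) : ↥(S : Subgroup G)) : G))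
    (b := ((d.a (z2eighth d.n) : ↥(S : Subgroup G)) : G))
  have e : ((d.a (z2eighth d.n) : ↥(S : Subgroup G)) : G) * ((d.a (z2eighth d.n) : ↥(S : Subgroup G)) : G) =
      ((d.qq : ↥(S : Subgroup G)) : G) := by rw [← d.eighth_mul_eighth]; rfl
  rw [e] at h
  exact h.mpr Iff.rfl

theorem isConj_mem_normal {G : Type*} [Group G] (H : Subgroup G) [hH : H.Normal] (a b : G)
    (h : IsConj a b) (ha : a ∈ H) : b ∈ H := by
  obtain ⟨c, hc⟩ := isConj_iff.mp h
  rw [← hc]; exact hH.conj_mem a ha c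

theorem qd_no_index_two
    (hinv : IsConj ((d.zz : ↥(S : Subgroup G)) : G) ((d.b 0 : ↥(S : Subgroup G)) : G))
    (hfour : IsConj ((d.qq : ↥(S : Subgroup G)) : G) ((d.b 1 : ↥(S : Subgroup G)) : G))
    (H : Subgroup G) : H.index ≠ 2 := by
  intro h2
  haveI : H.Normal := Subgroup.normal_of_index_eq_two h2
  have h0 := isConj_mem_normal H _ _ hinv (qd_zz_mem_of_index_two S d H h2)
  have h1 := isConj_mem_normal H _ _ hfour (qd_qq_mem_of_index_two S d H h2)
  have hle := qd_sylow_le_of_mem S d H h0 h1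
  have hdvd := Subgroup.index_dvd_of_le hle
  rw [h2] at hdvd
  exact S.not_dvd_index hdvd

end

end Cfsg.Agent.Lib.Helper3
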