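import Mathlib
import Cfsg.Prelude.Def_ChevStructure
import Cfsg.Agent.Lib.Helper3.ChevAut14
import Cfsg.Agent.Lib.Helper3.ChevTw24
import Cfsg.Agent.Lib.Helper3.ChevTw20
set_option autoImplicit false
set_option linter.unusedSectionVars false
set_option linter.style.haveILetI false
open Cfsg Cfsg.Lie

/-!
Automorphisms of twisted groups, part 1: signs of the images of the classes of fundamental roots, the normalizer
of `U¹`, the words mapping `U¹` to a subgroup meeting `U¹` trivially.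
-/

namespace Cfsg.Agent.Lib.Helper3.TwAut

open Cfsg.Agent.Lib.Helper3.ChevM Cfsg.Agent.Lib.Helper3.ChevSp Cfsg.Agent.Lib.Helper3 ChevU ChevT
open Cfsg.Agent.Lib.Helper3.ChevAt Cfsg.Agent.Lib.Helper3.ChevAut

section
variable {K : Type*} [Field K] {C : CDatum} {R : RelData C}

/-- The hypotheses on the ambient Chevalley group. -/
def atH (H : TwHyp2 C R) : AtHyp C R := ⟨H.U, H.B, H.ntri, H.sign⟩

/-- The images under a word in the class reflections of the fundamental roots of a class have the same sign. -/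
theorem cls_sign (H : TwHyp2 C R) (Ω : List (List ℕ)) (hΩ : ∀ J ∈ Ω, J ∈ H.cls) (J : List ℕ) (hJ : J ∈ H.cls)
    (a b : ℕ) (ha : a ∈ J) (hb : b ∈ J)
    (hpos : C.D.IsPosRoot (reflW R.refl Ω.flatten (C.D.simple a))) :
    C.D.IsPosRoot (reflW R.refl Ω.flatten (C.D.simple b)) := by
  obtain ⟨hJlt, htrans, -⟩ := (twClsCheck_spec (R := R) H.G H.cls H.clsOk).2 J hJ
  obtain ⟨k, hk⟩ := htrans a ha b hb
  have hl := H.toTwHyp.flatten_lt Ω hΩ
  have key : ∀ (m : ℕ) (i : ℕ), i < C.D.rank → C.D.IsPosRoot (reflW R.refl Ω.flatten (C.D.simple i)) →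
      H.G.p^[m] i < C.D.rank ∧ C.D.IsPosRoot (reflW R.refl Ω.flatten (C.D.simple (H.G.p^[m] i))) := by
    intro m
    induction m with
    | zero => intro i hi h; exact ⟨hi, h⟩
    | succ m ih =>
      intro i hi h
      obtain ⟨h1, h2⟩ := ih i hi h
      rw [Function.iterate_succ_apply']
      obtain ⟨hp, hs, -⟩ := twReflCheck_spec (R := R) H.G H.rf _ h1
      refine ⟨hp, ?_⟩
      have hsl := R.simple_lt _ h1
      rw [← hs, H.toTwHyp.cls_word_rho Ω hΩ _ hsl]
      exact (twTabCheck_spec H.tab _ (R.reflW_lt _ hl _ hsl)).2.2.1 h2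
  rw [← hk]
  exact (key k a (hJlt a ha) hpos).2

theorem cls_sign_neg (H : TwHyp2 C R) (Ω : List (List ℕ)) (hΩ : ∀ J ∈ Ω, J ∈ H.cls) (J : List ℕ) (hJ : J ∈ H.cls)
    (a b : ℕ) (ha : a ∈ J) (hb : b ∈ J)
    (hneg : C.D.IsNegRoot (reflW R.refl Ω.flatten (C.D.simple a))) :
    C.D.IsNegRoot (reflW R.refl Ω.flatten (C.D.simple b)) := by
  have hJlt := H.cls_lt J hJ
  have hl := H.toTwHyp.flatten_lt Ω hΩ
  rcases pos_or_neg (atH H) _ (R.reflW_lt _ hl _ (R.simple_lt b (hJlt b hb))) with hp | hn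
  · exact absurd (cls_sign H Ω hΩ J hJ b a hb ha hp) (not_pos_of_neg (atH H) _ hneg)
  · exact hn

/-- Conjugating a word of root elements whose roots stay positive. -/
theorem conj_wordU_mem_pos (M : MonoHyp C R)
    (hdec : ∀ r < C.D.nroots, ∀ s < C.D.nroots, hdecCheck C.D R.pair r s = true)
    (h : GL C.D.Idx K) (hh : h ∈ C.D.diagonalSubgroup K)
    (l : List ℕ) (hl : ∀ i ∈ l, i < C.D.rank) (w : List (ℕ × K))
    (hw : ∀ p ∈ w, p.1 < C.D.nroots ∧ C.D.IsPosRoot (reflW R.refl l p.1)) :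
    (h * R.nWordU (F := K) l) * R.wordU w * (h * R.nWordU (F := K) l)⁻¹ ∈ C.D.posUnipotent K := by
  obtain ⟨d, hd⟩ := M.conj_word_xU (F := K) hdec h hh l hl
  induction w with
  | nil => rw [R.wordU_nil, mul_one, mul_inv_cancel]; exact Subgroup.one_mem _
  | cons p w ih =>
    have e : (h * R.nWordU (F := K) l) * R.wordU (p :: w) * (h * R.nWordU (F := K) l)⁻¹ =
        ((h * R.nWordU (F := K) l) * R.xU p.1 p.2 * (h * R.nWordU (F := K) l)⁻¹) *
          ((h * R.nWordU (F := K) l) * R.wordU w * (h * R.nWordU (F := K) l)⁻¹) := by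
      rw [R.wordU_cons]; group
    rw [e]
    refine Subgroup.mul_mem _ ?_ (ih fun q hq => hw q (List.mem_cons_of_mem _ hq))
    obtain ⟨hp1, hp2⟩ := hw p List.mem_cons_self
    rw [(hd p.1 hp1).2 p.2]
    exact Subgroup.subset_closure ⟨_, _, hp2, R.xU_val _ _⟩

/-- A word in root elements of positive roots lies in `U`. -/
theorem wordU_mem_pos (w : List (ℕ × K)) (hw : ∀ p ∈ w, C.D.IsPosRoot p.1) :
    R.wordU w ∈ C.D.posUnipotent K := by
  induction w with
  | nil => rw [R.wordU_nil]; exact Subgroup.one_mem _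
  | cons p w ih =>
    rw [R.wordU_cons]
    exact Subgroup.mul_mem _ (Subgroup.subset_closure ⟨_, _, hw p List.mem_cons_self, R.xU_val _ _⟩)
      (ih fun q hq => hw q (List.mem_cons_of_mem _ hq))

/-- A word in root elements of negative roots lies in `V`. -/
theorem wordU_mem_neg (w : List (ℕ × K)) (hw : ∀ p ∈ w, C.D.IsNegRoot p.1) :
    R.wordU w ∈ C.D.negUnipotent K := by
  induction w with
  | nil => rw [R.wordU_nil]; exact Subgroup.one_mem _
  | cons p w ih =>
    rw [R.wordU_cons]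
    exact Subgroup.mul_mem _ (Subgroup.subset_closure ⟨_, _, hw p List.mem_cons_self, R.xU_val _ _⟩)
      (ih fun q hq => hw q (List.mem_cons_of_mem _ hq))

theorem sgnRoot_false (D : ChevalleyDatum) (j : ℕ) : sgnRoot D false j = D.simple j := by
  simp [sgnRoot]

theorem sgnRoot_true (D : ChevalleyDatum) (j : ℕ) : sgnRoot D true j = D.neg (D.simple j) := by
  simp [sgnRoot]

/-- The generators of the twisted group lie in it. -/
theorem xJ_mem_grp (H : TwHyp C R) (φ : K →+* K) (J : List ℕ) (hJ : J ∈ H.cls) (neg : Bool) (t : K)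
    (ht : φ^[J.length] t = t) : R.wordU (clsWord C.D φ J neg t) ∈ H.grp φ :=
  Subgroup.subset_closure ⟨J, hJ, neg, t, ht, rfl⟩

/-- The positive generators lie in `U`. -/
theorem xJ_mem_pos (H : TwHyp2 C R) (φ : K →+* K) (J : List ℕ) (hJ : J ∈ H.cls) (t : K) :
    R.wordU (clsWord C.D φ J false t) ∈ C.D.posUnipotent K := by
  apply wordU_mem_pos
  intro p hp
  obtain ⟨j, hj, e⟩ := mem_clsWord φ J false t p hp
  rw [e, sgnRoot_false]
  exact simple_pos (atH H) j (H.cls_lt J hJ j hj)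

/-- The negative generators lie in `V`. -/
theorem xJ_mem_neg (H : TwHyp2 C R) (φ : K →+* K) (J : List ℕ) (hJ : J ∈ H.cls) (t : K) :
    R.wordU (clsWord C.D φ J true t) ∈ C.D.negUnipotent K := by
  apply wordU_mem_neg
  intro p hp
  obtain ⟨j, hj, e⟩ := mem_clsWord φ J true t p hp
  rw [e, sgnRoot_true]
  exact neg_simple_neg (atH H) j (H.cls_lt J hJ j hj)

end

section
variable {K : Type*} [Field K] [Fintype K] {C : CDatum} {R : RelData C}

/-- An element of the twisted group mapping `U¹` into `U` lies in `B`. -/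
theorem mem_borel_of_conj_pos_tw (H : TwHyp2 C R) (φ : K →+* K) (g : GL C.D.Idx K) (hg : g ∈ H.grp φ)
    (hN : ∀ u ∈ C.D.posUnipotent K ⊓ H.grp φ, g * u * g⁻¹ ∈ C.D.posUnipotent K) :
    g ∈ C.D.borelSubgroup K := by
  obtain ⟨u₁, hu₁, h, hh, Ω, hΩ, u, hu, rfl⟩ := H.grp_normal_form φ g hg
  have hl := H.toTwHyp.flatten_lt Ω hΩ
  have huU := uMinus_le_posUnipotent C.D _ hu.1
  obtain ⟨hHU, -⟩ := R.diagonal_normalizes (F := K) H.B.dec H.B.mono.tri
  have hBN : C.D.borelSubgroup K ≤ Subgroup.normalizer (C.D.posUnipotent K : Set (GL C.D.Idx K)) :=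
    sup_le Subgroup.le_normalizer hHU
  have hUB : C.D.posUnipotent K ≤ C.D.borelSubgroup K := le_sup_left
  have hHB : C.D.diagonalSubgroup K ≤ C.D.borelSubgroup K := le_sup_right
  have hb : u₁ * h ∈ C.D.borelSubgroup K := Subgroup.mul_mem _ (hUB hu₁.1) (hHB hh.1)
  -- `n` maps `U¹` into `U`
  have hnN : ∀ x ∈ C.D.posUnipotent K ⊓ H.grp φ,
      R.nCls K Ω * x * (R.nCls K Ω)⁻¹ ∈ C.D.posUnipotent K := by
    intro x hx
    have hx' : u⁻¹ * x * u ∈ C.D.posUnipotent K ⊓ H.grp φ :=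
      Subgroup.mul_mem _ (Subgroup.mul_mem _ (Subgroup.inv_mem _ ⟨huU, hu.2⟩) hx) ⟨huU, hu.2⟩
    have h1 := hN _ hx'
    have h2 := (Subgroup.mem_normalizer_iff.mp (hBN (Subgroup.inv_mem _ hb)) _).mp h1
    have e : (u₁ * h)⁻¹ * (u₁ * h * R.nCls K Ω * u * (u⁻¹ * x * u) * (u₁ * h * R.nCls K Ω * u)⁻¹) *
        (u₁ * h)⁻¹⁻¹ = R.nCls K Ω * x * (R.nCls K Ω)⁻¹ := by group
    rwa [e] at h2
  -- every fundamental root stays positive
  have hpos : ∀ i < C.D.rank, C.D.IsPosRoot (reflW R.refl Ω.flatten (C.D.simple i)) := by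
    intro i hi
    obtain ⟨J, hJ, hiJ⟩ := (twClsCheck_spec (R := R) H.G H.cls H.clsOk).1 i hi
    rcases pos_or_neg (atH H) _ (R.reflW_lt _ hl _ (R.simple_lt i hi)) with hp | hn'
    · exact hp
    · exfalso
      have hJlt := H.cls_lt J hJ
      have hx : R.wordU (clsWord C.D φ J false (1 : K)) ∈ C.D.posUnipotent K ⊓ H.grp φ :=
        ⟨xJ_mem_pos H φ J hJ 1, xJ_mem_grp H.toTwHyp φ J hJ false 1 (Function.iterate_fixed (map_one φ) _)⟩
      have h1 := hnN _ hx
      have h2 : R.nCls K Ω * R.wordU (clsWord C.D φ J false (1 : K)) * (R.nCls K Ω)⁻¹ ∈ C.D.negUnipotent K := by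
        apply H.B.mono.conj_wordU_mem_neg H.B.dec Ω.flatten hl
        intro p hp
        obtain ⟨j, hj, e⟩ := mem_clsWord φ J false 1 p hp
        rw [e, sgnRoot_false]
        exact ⟨R.simple_lt j (hJlt j hj), cls_sign_neg H Ω hΩ J hJ i j hiJ hj hn'⟩
      have h3 : R.nCls K Ω * R.wordU (clsWord C.D φ J false (1 : K)) * (R.nCls K Ω)⁻¹ ∈
          C.D.posUnipotent K ⊓ C.D.negUnipotent K := ⟨h1, h2⟩
      rw [pos_inf_neg (atH H), Subgroup.mem_bot] at h3
      exact H.gen_ne_one φ J hJ (conj_eq_one_iff.mp h3)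
  have hfix := H.B.mono.reflW_eq_self_of_simple_pos H.B.dec H.sign _ Ω.flatten rfl hl hpos
  have hwH := H.B.mono.nWordU_mem_diagonal_of_fix (F := K) H.B.dec _ Ω.flatten rfl hl hfix
  exact Subgroup.mul_mem _ (Subgroup.mul_mem _ hb (hHB hwH)) (hUB huU)

/-- If `n U¹ n⁻¹` meets `U` trivially then `w` maps every positive root to a negative root. -/
theorem neg_of_conj_inf_tw (H : TwHyp3 C R) (φ : K →+* K) (h : GL C.D.Idx K) (hh : h ∈ C.D.diagonalSubgroup K)
    (Ω : List (List ℕ)) (hΩ : ∀ J ∈ Ω, J ∈ H.cls)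
    (hinf : ∀ y ∈ C.D.posUnipotent K ⊓ H.grp φ,
      (h * R.nCls K Ω) * y * (h * R.nCls K Ω)⁻¹ ∈ C.D.posUnipotent K → y = 1) :
    ∀ r, C.D.IsPosRoot r → C.D.IsNegRoot (reflW R.refl Ω.flatten r) := by
  have hl := H.toTwHyp.flatten_lt Ω hΩ
  have hl0 := H.toTwHyp.flatten_lt H.w0 H.w0cls
  have hsimp : ∀ i < C.D.rank, C.D.IsNegRoot (reflW R.refl Ω.flatten (C.D.simple i)) := by
    intro i hi
    obtain ⟨J, hJ, hiJ⟩ := (twClsCheck_spec (R := R) H.G H.cls H.clsOk).1 i hi
    rcases pos_or_neg (atH H.toTwHyp2) _ (R.reflW_lt _ hl _ (R.simple_lt i hi)) with hp | hn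
    · exfalso
      have hJlt := H.toTwHyp2.cls_lt J hJ
      have hx : R.wordU (clsWord C.D φ J false (1 : K)) ∈ C.D.posUnipotent K ⊓ H.grp φ :=
        ⟨xJ_mem_pos H.toTwHyp2 φ J hJ 1,
          xJ_mem_grp H.toTwHyp φ J hJ false 1 (Function.iterate_fixed (map_one φ) _)⟩
      have h1 := conj_wordU_mem_pos (K := K) H.B.mono H.B.dec h hh Ω.flatten hl (clsWord C.D φ J false (1 : K)) (by
        intro p hp'
        obtain ⟨j, hj, e⟩ := mem_clsWord φ J false 1 p hp'
        rw [e, sgnRoot_false]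
        exact ⟨R.simple_lt j (hJlt j hj), cls_sign H.toTwHyp2 Ω hΩ J hJ i j hiJ hj hp⟩)
      exact H.toTwHyp2.gen_ne_one φ J hJ (hinf _ hx h1)
    · exact hn
  have hfix : ∀ s < C.D.nroots, reflW R.refl (H.w0.flatten ++ Ω.flatten) s = s := by
    apply H.B.mono.reflW_eq_self_of_simple_pos H.B.dec H.sign _ _ rfl
    · intro a ha
      rcases List.mem_append.mp ha with h1 | h1
      · exact hl0 a h1
      · exact hl a h1
    · intro i hi
      rw [reflW_append]
      have hn := hsimp i hi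
      have hc := H.opp _ hn.1
      simp only [oppCheck, Bool.and_eq_true, Bool.or_eq_true, Bool.not_eq_true', decide_eq_false_iff_not,
        decide_eq_true_eq] at hc
      rcases hc.2 with h1 | h1
      · exact absurd hn h1
      · exact h1.1
  intro r hr
  rcases pos_or_neg (atH H.toTwHyp2) _ (R.reflW_lt _ hl r hr.1) with hp | hn
  · exfalso
    have hc := H.opp _ hp.1
    simp only [oppCheck, Bool.and_eq_true, Bool.or_eq_true, Bool.not_eq_true', decide_eq_false_iff_not,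
      decide_eq_true_eq] at hc
    have h1 : C.D.IsNegRoot (reflW R.refl H.w0.flatten (reflW R.refl Ω.flatten r)) := by
      rcases hc.1 with h1 | h1
      · exact absurd hp h1
      · exact h1
    rw [← reflW_append, hfix r hr.1] at h1
    exact not_pos_of_neg (atH H.toTwHyp2) _ h1 hr
  · exact hn

end

end Cfsg.Agent.Lib.Helper3.TwAut
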