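import Mathlib
import Cfsg.Prelude.Def_ChevStructure
import Cfsg.Agent.Lib.Helper3.TwAut1
set_option autoImplicit false
set_option linter.unusedSectionVars false
set_option linter.style.haveILetI false
open Cfsg Cfsg.Lie

/-!
Automorphisms of twisted groups, part 2: up to an inner automorphism, an automorphism preserves `U¹` and `V¹`.
-/

namespace Cfsg.Agent.Lib.Helper3.TwAut

open Cfsg.Agent.Lib.Helper3.ChevM Cfsg.Agent.Lib.Helper3.ChevSp Cfsg.Agent.Lib.Helper3 ChevU ChevT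
open Cfsg.Agent.Lib.Helper3.ChevAt Cfsg.Agent.Lib.Helper3.ChevAut
open scoped Pointwise

section
variable {G₀ : Type*} [Group G₀] {Γ : Subgroup G₀}

/-- Up to an inner automorphism, an automorphism preserves a given Sylow subgroup. -/
theorem exists_conj_pres_sylow [Finite Γ] (p : ℕ) [Fact p.Prime] (X : Subgroup G₀) (hX : X ≤ Γ)
    (hS : ∃ S : Sylow p ↥Γ, (S : Subgroup ↥Γ) = X.subgroupOf Γ) (θ : MulAut ↥Γ) :
    ∃ a : ↥Γ, Pres (MulAut.conj a * θ) X := by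
  obtain ⟨S, hS⟩ := hS
  obtain ⟨a, ha⟩ := MulAction.exists_smul_eq ↥Γ (θ • S) S
  refine ⟨a, ?_⟩
  intro g hg
  have hgG : g ∈ Γ := hX hg
  have hx : (⟨g, hgG⟩ : ↥Γ) ∈ (S : Subgroup ↥Γ) := by
    rw [hS, Subgroup.mem_subgroupOf]; exact hg
  have h1 : θ • (⟨g, hgG⟩ : ↥Γ) ∈ ((θ • S : Sylow p ↥Γ) : Subgroup ↥Γ) := by
    rw [Sylow.pointwise_smul_def]
    exact Subgroup.smul_mem_pointwise_smul _ _ _ hx
  have h2 : MulAut.conj a • (θ • (⟨g, hgG⟩ : ↥Γ)) ∈ ((a • (θ • S) : Sylow p ↥Γ) : Subgroup ↥Γ) := by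
    rw [Sylow.smul_def, Sylow.pointwise_smul_def]
    exact Subgroup.smul_mem_pointwise_smul _ _ _ h1
  rw [ha, hS, Subgroup.mem_subgroupOf] at h2
  rw [ex_of_mem _ hgG]
  exact h2

/-- Conjugation by an element of a subgroup preserves the subgroup. -/
theorem pres_conj_mul' (X : Subgroup G₀) (hX : X ≤ Γ) (θ : MulAut ↥Γ)
    (hθ : Pres θ X) (a : ↥Γ) (ha : (a : G₀) ∈ X) : Pres (MulAut.conj a * θ) X := by
  intro g hg
  rw [ex_mul_aut _ _ (hX hg), ex_conj _ (ex_mem θ (hX hg))]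
  exact Subgroup.mul_mem _ (Subgroup.mul_mem _ ha (hθ g hg)) (Subgroup.inv_mem _ ha)

end

section
variable {K : Type*} [Field K] [Fintype K] {C : CDatum} {R : RelData C}

/-- An automorphism preserving `U¹` maps `V¹` to a conjugate of `V¹` under `U¹`. -/
theorem exists_conj_pres_neg_tw (H : TwHyp3 C R) (φ : K →+* K) (θ : MulAut ↥(H.grp φ))
    (hU : Pres θ (C.D.posUnipotent K ⊓ H.grp φ)) :
    ∃ a : ↥(H.grp φ), (a : GL C.D.Idx K) ∈ C.D.posUnipotent K ⊓ H.grp φ ∧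
      Pres (MulAut.conj a * θ) (C.D.negUnipotent K ⊓ H.grp φ) := by
  have hU1Γ : C.D.posUnipotent K ⊓ H.grp φ ≤ H.grp φ := inf_le_right
  obtain ⟨⟨hn₀N, hn₀G⟩, hmap⟩ := H.w0_spec φ
  set n₀ : GL C.D.Idx K := R.nCls K H.w0 with hn₀
  obtain ⟨u₁, hu₁, h, hh, Ω, hΩ, u, hu, hg⟩ := H.toTwHyp2.grp_normal_form φ (ex θ n₀) (ex_mem θ hn₀G)
  have huU : u ∈ C.D.posUnipotent K ⊓ H.grp φ := ⟨uMinus_le_posUnipotent C.D _ hu.1, hu.2⟩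
  set n' : GL C.D.Idx K := h * R.nCls K Ω with hn'
  have hn'Γ : n' ∈ H.grp φ := Subgroup.mul_mem _ hh.2 (H.toTwHyp.nCls_mem φ Ω hΩ)
  have hgn : ex θ n₀ = u₁ * n' * u := by rw [hg, hn']; group
  -- `n₀ U¹ n₀⁻¹ = V¹`
  have hconj1 : ∀ x ∈ C.D.posUnipotent K ⊓ H.grp φ, n₀ * x * n₀⁻¹ ∈ C.D.negUnipotent K ⊓ H.grp φ := by
    intro x hx
    refine ⟨?_, Subgroup.mul_mem _ (Subgroup.mul_mem _ hn₀G hx.2) (Subgroup.inv_mem _ hn₀G)⟩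
    rw [← hmap]; exact ⟨x, hx.1, rfl⟩
  have hconj2 : ∀ v ∈ C.D.negUnipotent K ⊓ H.grp φ,
      ∃ x ∈ C.D.posUnipotent K ⊓ H.grp φ, n₀ * x * n₀⁻¹ = v := by
    intro v hv
    have hv1 := hv.1
    rw [← hmap] at hv1
    obtain ⟨x, hx, e⟩ := hv1
    change n₀ * x * n₀⁻¹ = v at e
    refine ⟨x, ⟨hx, ?_⟩, e⟩
    have e2 : x = n₀⁻¹ * v * n₀ := by rw [← e]; group
    rw [e2]
    exact Subgroup.mul_mem _ (Subgroup.mul_mem _ (Subgroup.inv_mem _ hn₀G) hv.2) hn₀G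
  -- the image of an element of `V¹`
  have himg : ∀ x ∈ C.D.posUnipotent K ⊓ H.grp φ,
      ex θ (n₀ * x * n₀⁻¹) = u₁ * (n' * (u * ex θ x * u⁻¹) * n'⁻¹) * u₁⁻¹ := by
    intro x hx
    rw [ex_conj_mul θ hn₀G hx.2, hgn]; group
  -- `n' U¹ n'⁻¹` meets `U` trivially
  have hinf : ∀ y ∈ C.D.posUnipotent K ⊓ H.grp φ, n' * y * n'⁻¹ ∈ C.D.posUnipotent K → y = 1 := by
    intro y hy hz
    obtain ⟨x', hx', hx'e⟩ := hU.surj hU1Γ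
      (Subgroup.mul_mem _ (Subgroup.mul_mem _ (Subgroup.inv_mem _ huU) hy) huU)
    have h1 := himg x' hx'
    rw [hx'e] at h1
    have e : u * (u⁻¹ * y * u) * u⁻¹ = y := by group
    rw [e] at h1
    have hzΓ : n' * y * n'⁻¹ ∈ H.grp φ :=
      Subgroup.mul_mem _ (Subgroup.mul_mem _ hn'Γ hy.2) (Subgroup.inv_mem _ hn'Γ)
    have h2 : ex θ (n₀ * x' * n₀⁻¹) ∈ C.D.posUnipotent K ⊓ H.grp φ := by
      rw [h1]
      exact Subgroup.mul_mem _ (Subgroup.mul_mem _ hu₁ ⟨hz, hzΓ⟩) (Subgroup.inv_mem _ hu₁)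
    have hvV := hconj1 x' hx'
    have h3 := (hU.mem_iff hU1Γ hvV.2).mp h2
    have h4 : n₀ * x' * n₀⁻¹ ∈ C.D.posUnipotent K ⊓ C.D.negUnipotent K := ⟨h3.1, hvV.1⟩
    rw [pos_inf_neg (atH H.toTwHyp2), Subgroup.mem_bot] at h4
    have h5 : x' = 1 := conj_eq_one_iff.mp h4
    rw [h5, ex_one] at hx'e
    have e3 : y = u * (u⁻¹ * y * u) * u⁻¹ := by group
    rw [e3, ← hx'e]; group
  have hneg := neg_of_conj_inf_tw H φ h hh.1 Ω hΩ hinf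
  have hmap' := map_conj_pos_eq_neg (K := K) (atH H.toTwHyp2) h hh.1 Ω.flatten
    (H.toTwHyp.flatten_lt Ω hΩ) hneg
  refine ⟨⟨u₁⁻¹, Subgroup.inv_mem _ hu₁.2⟩, Subgroup.inv_mem _ hu₁, ?_⟩
  intro v hv
  have hvG := hv.2
  rw [ex_mul_aut _ _ hvG, ex_conj _ (ex_mem θ hvG)]
  obtain ⟨x, hx, rfl⟩ := hconj2 v hv
  change ((u₁⁻¹ : GL C.D.Idx K)) * ex θ (n₀ * x * n₀⁻¹) * (u₁⁻¹ : GL C.D.Idx K)⁻¹ ∈ _
  rw [himg x hx]
  have e : u₁⁻¹ * (u₁ * (n' * (u * ex θ x * u⁻¹) * n'⁻¹) * u₁⁻¹) * u₁⁻¹⁻¹ =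
      n' * (u * ex θ x * u⁻¹) * n'⁻¹ := by group
  rw [e]
  have hy : u * ex θ x * u⁻¹ ∈ C.D.posUnipotent K ⊓ H.grp φ :=
    Subgroup.mul_mem _ (Subgroup.mul_mem _ huU (hU x hx)) (Subgroup.inv_mem _ huU)
  refine ⟨?_, Subgroup.mul_mem _ (Subgroup.mul_mem _ hn'Γ hy.2) (Subgroup.inv_mem _ hn'Γ)⟩
  rw [← hmap']
  exact ⟨_, hy.1, rfl⟩

/-- Up to an inner automorphism, an automorphism preserves `U¹` and `V¹`. -/
theorem exists_conj_pres_tw (H : TwHyp3 C R) (φ : K →+* K) (p : ℕ) [Fact p.Prime]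
    (hS : ∃ S : Sylow p ↥(H.grp φ),
      (S : Subgroup ↥(H.grp φ)) = (C.D.posUnipotent K ⊓ H.grp φ).subgroupOf (H.grp φ))
    (θ : MulAut ↥(H.grp φ)) :
    ∃ a : ↥(H.grp φ), Pres (MulAut.conj a * θ) (C.D.posUnipotent K ⊓ H.grp φ) ∧
      Pres (MulAut.conj a * θ) (C.D.negUnipotent K ⊓ H.grp φ) := by
  obtain ⟨a₁, h1⟩ := exists_conj_pres_sylow p _ inf_le_right hS θ
  obtain ⟨a₂, ha₂, h2⟩ := exists_conj_pres_neg_tw H φ _ h1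
  refine ⟨a₂ * a₁, ?_, ?_⟩
  · rw [map_mul, mul_assoc]
    exact pres_conj_mul' _ inf_le_right _ h1 a₂ ha₂
  · rw [map_mul, mul_assoc]
    exact h2

/-- An automorphism preserving `U¹` preserves `B¹`. -/
theorem pres_borel_tw (H : TwHyp2 C R) (φ : K →+* K) (θ : MulAut ↥(H.grp φ))
    (hU : Pres θ (C.D.posUnipotent K ⊓ H.grp φ)) : Pres θ (C.D.borelSubgroup K ⊓ H.grp φ) := by
  intro b hb
  refine ⟨?_, ex_mem θ hb.2⟩
  apply mem_borel_of_conj_pos_tw H φ _ (ex_mem θ hb.2)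
  intro u hu
  obtain ⟨x, hx, rfl⟩ := hU.surj inf_le_right hu
  rw [← ex_conj_mul θ hb.2 hx.2]
  refine (hU _ ⟨?_, Subgroup.mul_mem _ (Subgroup.mul_mem _ hb.2 hx.2) (Subgroup.inv_mem _ hb.2)⟩).1
  exact (Subgroup.mem_normalizer_iff.mp (borel_le_normalizer_pos (atH H) hb.1) x).mp hx.1

end

end Cfsg.Agent.Lib.Helper3.TwAut
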