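import Mathlib
import Cfsg.Prelude.Def_ChevStructure
import Cfsg.Agent.Lib.Helper3.TwAut2
set_option autoImplicit false
set_option linter.unusedSectionVars false
set_option linter.style.haveILetI false
open Cfsg Cfsg.Lie

/-!
Automorphisms of twisted groups, part 3: the root subgroups of the classes of fundamental roots.
-/

namespace Cfsg.Agent.Lib.Helper3.TwAut

open Cfsg.Agent.Lib.Helper3.ChevM Cfsg.Agent.Lib.Helper3.ChevSp Cfsg.Agent.Lib.Helper3 ChevU ChevT
open Cfsg.Agent.Lib.Helper3.ChevAt Cfsg.Agent.Lib.Helper3.ChevAut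

section
variable {K : Type*} [Field K] {C : CDatum} {R : RelData C}

/-- The generators of a class are additive in the parameter. -/
theorem xJ_add (H : TwHyp4 C R) (φ : K →+* K) (J : List ℕ) (hJ : J ∈ H.cls) (neg : Bool) (t t' : K) :
    R.wordU (clsWord C.D φ J neg t) * R.wordU (clsWord C.D φ J neg t') =
      R.wordU (clsWord C.D φ J neg (t + t')) := by
  have hnd := (twTorCheck_spec H.tor J hJ neg).1
  rw [clsWord_eq_lp (R := R) φ J neg t hnd, clsWord_eq_lp (R := R) φ J neg t' hnd,
    clsWord_eq_lp (R := R) φ J neg (t + t') hnd, R.lp_add _ (H.cls_comm_sgn J hJ neg)]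
  apply R.lp_congr
  intro r _
  exact clsCoord_add (C := C) φ J neg t t' r

theorem xJ_zero (H : TwHyp4 C R) (φ : K →+* K) (J : List ℕ) (hJ : J ∈ H.cls) (neg : Bool) :
    R.wordU (clsWord C.D φ J neg (0 : K)) = 1 := by
  have h := xJ_add H φ J hJ neg 0 0
  rw [add_zero] at h
  exact mul_eq_left.mp h

theorem xJ_inv (H : TwHyp4 C R) (φ : K →+* K) (J : List ℕ) (hJ : J ∈ H.cls) (neg : Bool) (t : K) :
    (R.wordU (clsWord C.D φ J neg t))⁻¹ = R.wordU (clsWord C.D φ J neg (-t)) := by
  have h := xJ_add H φ J hJ neg t (-t)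
  rw [add_neg_cancel, xJ_zero H φ J hJ neg] at h
  exact inv_eq_of_mul_eq_one_right h

/-- The positive generators of a class are injective in the parameter. -/
theorem xJ_inj (H : TwHyp4 C R) (φ : K →+* K) (J : List ℕ) (hJ : J ∈ H.cls) (t t' : K)
    (h : R.wordU (clsWord C.D φ J false t) = R.wordU (clsWord C.D φ J false t')) : t = t' := by
  have hnd := (twTorCheck_spec H.tor J hJ false).1
  rw [clsWord_eq_lp (R := R) φ J false t hnd, clsWord_eq_lp (R := R) φ J false t' hnd] at h
  obtain ⟨a, ha⟩ := H.toTwHyp2.cls_ne_nil J hJ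
  have hposL : ∀ r ∈ J.map (sgnRoot C.D false), C.D.IsPosRoot r := by
    intro r hr
    obtain ⟨j, hj, rfl⟩ := List.mem_map.mp hr
    rw [sgnRoot_false]
    exact simple_pos (atH H.toTwHyp2) j (H.toTwHyp2.cls_lt J hJ j hj)
  have hc := H.U.lp_inj_comm (K := K) _ hnd hposL (H.cls_comm_sgn J hJ false) _ _ h
  match J, ha, hc with
  | b :: L, _, hc =>
    have := hc (sgnRoot C.D false b) (by simp)
    simpa [clsCoord] using this

end

section
variable {K : Type*} [Field K] {C : CDatum} {R : RelData C}

/-- A fixed point of the twisting automorphism in the product of the root subgroups of a class of fundamental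
roots is a generator of the twisted group, with parameter its first coordinate. -/
theorem fix_class (H : TwHyp2 C R) (φ : K →+* K) (J : List ℕ) (hJ : J ∈ H.cls) (c : ℕ → K)
    (hfix : H.G.sig φ (R.lp (J.map C.D.simple) c) = R.lp (J.map C.D.simple) c) :
    ∃ a L, J = a :: L ∧ φ^[J.length] (c (C.D.simple a)) = c (C.D.simple a) ∧
      R.lp (J.map C.D.simple) c = R.wordU (clsWord C.D φ J false (c (C.D.simple a))) := by
  have hJs := H.shape J hJ
  have hcases := clsShape_cases H.G hJs
  simp only [clsShapeCheck, Bool.and_eq_true, List.all_eq_true, decide_eq_true_eq, Bool.or_eq_true] at hJs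
  obtain ⟨hall, -⟩ := hJs
  obtain ⟨hnd, hposL⟩ := H.cls_pos J hJ
  have hsimple : ∀ a ∈ J, H.G.rho (C.D.simple a) = C.D.simple (H.G.p a) := fun a ha =>
    (twReflCheck_spec (R := R) H.G H.rf a (hall a ha).1.1).2.1
  have hcomm := H.cls_comm (K := K) J hJ
  have hlt : ∀ r ∈ J.map C.D.simple, r < C.D.nroots := by
    intro r hr
    obtain ⟨a, ha, rfl⟩ := List.mem_map.mp hr
    exact R.simple_lt a (hall a ha).1.1
  have hpermJ : (J.map H.G.p).Perm J := by
    rcases hcases with ⟨a, rfl, h1⟩ | ⟨a, b, rfl, h1, h2⟩ | ⟨a, b, c', rfl, h1, h2, h3⟩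
    · simp [h1]
    · simp only [List.map_cons, List.map_nil, h1, h2]
      exact List.Perm.swap a b []
    · simp only [List.map_cons, List.map_nil, h1, h2, h3]
      exact (List.perm_cons_append_cons a (l₁ := [b, c']) (l₂ := []) (List.Perm.refl _)).symm.trans
        (by simp)
  have hmapρ : (J.map C.D.simple).map H.G.rho = (J.map H.G.p).map C.D.simple := by
    rw [List.map_map, List.map_map]
    apply List.map_congr_left
    intro a ha
    exact hsimple a ha
  have hperm : ((J.map C.D.simple).map H.G.rho).Perm (J.map C.D.simple) := by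
    rw [hmapρ]; exact hpermJ.map _
  have hcomm' : ∀ r ∈ (J.map C.D.simple).map H.G.rho, ∀ s ∈ (J.map C.D.simple).map H.G.rho, ∀ x y : K,
      R.xU r x * R.xU s y = R.xU s y * R.xU r x :=
    fun r hr s hs => hcomm r (hperm.subset hr) s (hperm.subset hs)
  rw [H.G.sig_lp φ _ hlt c, R.lp_perm _ _ hperm _ hcomm'] at hfix
  have hc := H.U.lp_inj_comm _ hnd hposL hcomm _ _ hfix
  have hstep : ∀ a ∈ J, c (C.D.simple (H.G.p a)) = φ (c (C.D.simple a)) := by
    intro a ha
    have hpa : H.G.p a ∈ J := hpermJ.subset (List.mem_map_of_mem ha)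
    have := hc _ (List.mem_map_of_mem hpa)
    rw [← this, ← hsimple a ha, H.G.tw_rho φ c _ (R.simple_lt a (hall a ha).1.1), (hall a ha).1.2,
      Int.cast_one, one_mul]
  rcases hcases with ⟨a, rfl, h1⟩ | ⟨a, b, rfl, h1, h2⟩ | ⟨a, b, c', rfl, h1, h2, h3⟩
  · have e := hstep a (by simp)
    rw [h1] at e
    refine ⟨a, [], rfl, e.symm, ?_⟩
    rw [wordU_clsWord_one]
    simp [RelData.lp_cons, RelData.lp_nil, sgnRoot]
  · have e1 := hstep a (by simp)
    have e2 := hstep b (by simp)
    rw [h1] at e1
    rw [h2] at e2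
    refine ⟨a, [b], rfl, ?_, ?_⟩
    · show φ (φ (c (C.D.simple a))) = _
      rw [← e1, ← e2]
    · rw [wordU_clsWord_two, ← e1]
      simp [RelData.lp_cons, RelData.lp_nil, sgnRoot]
  · have e1 := hstep a (by simp)
    have e2 := hstep b (by simp)
    have e3 := hstep c' (by simp)
    rw [h1] at e1
    rw [h2] at e2
    rw [h3] at e3
    refine ⟨a, [b, c'], rfl, ?_, ?_⟩
    · show φ (φ (φ (c (C.D.simple a)))) = _
      rw [← e1, ← e2, ← e3]
    · rw [wordU_clsWord_three, ← e1, ← e2]
      simp [RelData.lp_cons, RelData.lp_nil, sgnRoot, mul_assoc]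

/-- The elements of the twisted group in the product of the root subgroups of a class. -/
theorem mem_xGrp_fix (H : TwHyp2 C R) (φ : K →+* K) (J : List ℕ) (hJ : J ∈ H.cls) (g : GL C.D.Idx K)
    (hg : g ∈ R.xGrp K (J.map C.D.simple)) (hfix : H.G.sig φ g = g) :
    ∃ t : K, φ^[J.length] t = t ∧ g = R.wordU (clsWord C.D φ J false t) := by
  obtain ⟨hnd, -⟩ := H.cls_pos J hJ
  obtain ⟨c, rfl⟩ := R.exists_lp_of_mem_xGrp _ hnd (H.cls_comm (K := K) J hJ) g hg
  obtain ⟨a, L, -, h1, h2⟩ := fix_class H φ J hJ c hfix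
  exact ⟨_, h1, h2⟩

/-- If a product of orthogonal fundamental reflections maps a root to a fundamental root orthogonal to all of
them then the root is that fundamental root. -/
theorem reflW_eq_simple (M : MonoHyp C R) (L : List ℕ) (hL : ∀ j ∈ L, j < C.D.rank) (a : ℕ)
    (horth : ∀ b ∈ L, R.refl b (C.D.simple a) = C.D.simple a) (r : ℕ) (hr : r < C.D.nroots)
    (h : reflW R.refl L r = C.D.simple a) : r = C.D.simple a := by
  induction L with
  | nil => exact h
  | cons b L ih =>
    have hb := hL b List.mem_cons_self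
    have hL' : ∀ j ∈ L, j < C.D.rank := fun j hj => hL j (List.mem_cons_of_mem _ hj)
    have h' : R.refl b (reflW R.refl L r) = C.D.simple a := h
    have hlt := R.reflW_lt L hL' r hr
    have hinv := M.inv b hb _ hlt
    simp only [reflInvCheck, decide_eq_true_eq] at hinv
    have e : reflW R.refl L r = C.D.simple a := by
      rw [← hinv, h', horth b List.mem_cons_self]
    exact ih hL' (fun x hx => horth x (List.mem_cons_of_mem _ hx)) e

/-- A product of pairwise orthogonal fundamental reflections maps the other positive roots to positive roots. -/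
theorem pos_reflW_cls (M : MonoHyp C R) (L : List ℕ) (hL : ∀ j ∈ L, j < C.D.rank) (hnd : L.Nodup)
    (horth : ∀ a ∈ L, ∀ b ∈ L, a ≠ b → R.refl a (C.D.simple b) = C.D.simple b) (r : ℕ)
    (hr : C.D.IsPosRoot r) (hnot : r ∉ L.map C.D.simple) : C.D.IsPosRoot (reflW R.refl L r) := by
  induction L with
  | nil => exact hr
  | cons a L ih =>
    rw [List.nodup_cons] at hnd
    have ha := hL a List.mem_cons_self
    have hL' : ∀ j ∈ L, j < C.D.rank := fun j hj => hL j (List.mem_cons_of_mem _ hj)
    have h1 := ih hL' hnd.2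
      (fun x hx y hy => horth x (List.mem_cons_of_mem _ hx) y (List.mem_cons_of_mem _ hy))
      (fun hm => hnot (by rw [List.map_cons]; exact List.mem_cons_of_mem _ hm))
    show C.D.IsPosRoot (R.refl a (reflW R.refl L r))
    have hwp := M.wp a ha _ h1.1
    simp only [wpCheck, Bool.or_eq_true, Bool.not_eq_true', Bool.and_eq_true, decide_eq_true_eq,
      Bool.and_eq_false_iff, decide_eq_false_iff_not, ne_eq, not_not] at hwp
    rcases hwp with (h2 | h2) | h2
    · exact absurd h1 h2
    · exfalso
      have e := reflW_eq_simple M L hL' a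
        (fun b hb => horth b (List.mem_cons_of_mem _ hb) a List.mem_cons_self
          (by rintro rfl; exact hnd.1 hb)) r hr.1 h2
      exact hnot (by rw [e, List.map_cons]; exact List.mem_cons_self)
    · exact h2.1

/-- The positive roots made negative by a class reflection are the fundamental roots of the class. -/
theorem negSet_cls (H : TwHyp2 C R) (J : List ℕ) (hJ : J ∈ H.cls) (r : ℕ)
    (hr : r ∈ negSet C.D R.refl J) : r ∈ J.map C.D.simple := by
  rw [mem_negSet] at hr
  obtain ⟨hJlt, -, horth, hnd, -⟩ := (twClsCheck_spec (R := R) H.G H.cls H.clsOk).2 J hJ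
  by_contra hnot
  exact not_pos_of_neg (atH H) _ hr.2 (pos_reflW_cls H.B.mono J hJlt hnd horth r hr.1 hnot)

end

end Cfsg.Agent.Lib.Helper3.TwAut
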