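import Mathlib
import Cfsg.Prelude.Def_ChevStructure
import Cfsg.Agent.Lib.Helper3.TwAut3
set_option autoImplicit false
set_option linter.unusedSectionVars false
set_option linter.style.haveILetI false
open Cfsg Cfsg.Lie

/-!
Automorphisms of twisted groups, part 4: the minimal parabolic subgroups of a twisted group and their
intersections with `V¹`.
-/

namespace Cfsg.Agent.Lib.Helper3.TwAut

open Cfsg.Agent.Lib.Helper3.ChevM Cfsg.Agent.Lib.Helper3.ChevSp Cfsg.Agent.Lib.Helper3 ChevU ChevT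
open Cfsg.Agent.Lib.Helper3.ChevAt Cfsg.Agent.Lib.Helper3.ChevAut Cfsg.Agent.Lib.Helper1
open DoubleCoset

section
variable {K : Type*} [Field K] {C : CDatum} {R : RelData C}

theorem iterate_ne_zero (φ : K →+* K) (k : ℕ) (μ : K) (hμ : μ ≠ 0) : φ^[k] μ ≠ 0 := by
  have e : φ^[k] μ = (φ ^ k) μ := by rw [RingHom.coe_pow]
  rw [e]
  exact (map_ne_zero _).mpr hμ

/-- The longest word maps the positive roots to negative roots. -/
theorem w0_neg (H : TwHyp3 C R) : ∀ r, C.D.IsPosRoot r → C.D.IsNegRoot (reflW R.refl H.w0.flatten r) := by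
  intro r hr
  have hc := H.opp r hr.1
  simp only [oppCheck, Bool.and_eq_true, Bool.or_eq_true, Bool.not_eq_true', decide_eq_false_iff_not,
    decide_eq_true_eq] at hc
  rcases hc.1 with h1 | h1
  · exact absurd hr h1
  · exact h1

/-- The diagonal element of a class lies in `H`. -/
theorem hT_mem_diagonal (φ : K →+* K) (J : List ℕ) (hJ : ∀ j ∈ J, j < C.D.rank) (μ : K) (hμ : μ ≠ 0) :
    R.hT φ J μ ∈ C.D.diagonalSubgroup K := by
  unfold RelData.hT
  apply Subgroup.list_prod_mem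
  intro x hx
  obtain ⟨⟨j, k⟩, hjk, rfl⟩ := List.mem_map.mp hx
  have hj : j ∈ J := (List.mem_zipIdx hjk).2.2 ▸ List.getElem_mem _
  exact R.hU_mem _ (R.simple_lt j (hJ j hj)) _ (iterate_ne_zero φ k μ hμ)

/-- `n_J(μ) = h_J(μ) n_J`. -/
theorem nT_eq_hT_mul (H : TwHyp4 C R) (φ : K →+* K) (J : List ℕ) (hJ : J ∈ H.cls) (μ : K) :
    R.nT φ J μ = R.hT φ J μ * R.nWordU (F := K) J := by
  have h1 := H.U.K.hT_eq H.G φ J (H.shape J hJ) μ
  have h2 := H.U.K.nT_eq H.G φ J (H.shape J hJ) (-1 : K)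
  have h3 := H.U.K.nWordU_cls (K := K) H.G φ J (H.shape J hJ)
  have e1 : -(-1 : K)⁻¹ = 1 := by rw [inv_neg, inv_one, neg_neg]
  rw [e1] at h2
  have h4 : R.nT φ J (-1 : K) * R.nWordU (F := K) J = 1 := by
    rw [h2, h3, ← xJ_inv H φ J hJ false 1, ← xJ_inv H φ J hJ true 1]
    group
  rw [h1, mul_assoc, h4, mul_one]

end

section
variable {K : Type*} [Field K] [Fintype K] {C : CDatum} {R : RelData C}

/-- The representative of a class reflection as an element of the twisted group. -/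
def sJ (H : TwHyp2 C R) (φ : K →+* K) (J : List ℕ) (hJ : J ∈ H.cls) : ↥(H.grp φ) :=
  ⟨R.nWordU (F := K) J, (H.reps_mem φ _ ⟨J, hJ, rfl⟩).2⟩

theorem sJ_mem_S (H : TwHyp2 C R) (φ : K →+* K) (J : List ℕ) (hJ : J ∈ H.cls) :
    sJ H φ J hJ ∈ (H.bnPair φ).S := by
  show ((sJ H φ J hJ : ↥(H.grp φ)) : GL C.D.Idx K) ∈ H.reps K
  exact ⟨J, hJ, rfl⟩

theorem exists_sJ_of_mem_S (H : TwHyp2 C R) (φ : K →+* K) (t : ↥(H.grp φ)) (ht : t ∈ (H.bnPair φ).S) :
    ∃ J, ∃ hJ : J ∈ H.cls, t = sJ H φ J hJ := by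
  have h1 : (t : GL C.D.Idx K) ∈ H.reps K := ht
  obtain ⟨J, hJ, e⟩ := h1
  exact ⟨J, hJ, Subtype.ext e⟩

/-- An automorphism preserving `B¹` maps `B¹` onto `B¹`. -/
theorem map_B_eq_tw (H : TwHyp2 C R) (φ : K →+* K) (θ : ↥(H.grp φ) ≃* ↥(H.grp φ))
    (hB : Pres θ (C.D.borelSubgroup K ⊓ H.grp φ)) :
    (H.bnPair φ).B.map θ.toMonoidHom = (H.bnPair φ).B := by
  have hPB : (H.bnPair φ).B = (C.D.borelSubgroup K ⊓ H.grp φ).subgroupOf (H.grp φ) := rfl
  ext x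
  constructor
  · rintro ⟨b, hb, rfl⟩
    rw [SetLike.mem_coe, hPB, Subgroup.mem_subgroupOf] at hb
    rw [hPB, Subgroup.mem_subgroupOf]
    have := hB _ hb
    rwa [ex_coe] at this
  · intro hx
    rw [hPB, Subgroup.mem_subgroupOf] at hx
    obtain ⟨b, hb, e⟩ := hB.surj inf_le_right hx
    refine ⟨⟨b, hb.2⟩, ?_, ?_⟩
    · rw [SetLike.mem_coe, hPB, Subgroup.mem_subgroupOf]; exact hb
    · apply Subtype.ext
      rw [← e, ex_of_mem θ hb.2]
      rfl

/-- The elements of a minimal parabolic subgroup of the twisted group. -/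
theorem parabolic_cases_tw (H : TwHyp2 C R) (φ : K →+* K) (J : List ℕ) (hJ : J ∈ H.cls) (g : ↥(H.grp φ))
    (hg : g ∈ (H.bnPair φ).parabolic {sJ H φ J hJ}) :
    (g : GL C.D.Idx K) ∈ C.D.borelSubgroup K ∨
      ∃ b ∈ C.D.borelSubgroup K ⊓ H.grp φ, ∃ h ∈ C.D.diagonalSubgroup K, ∃ t : K, φ^[J.length] t = t ∧
        (g : GL C.D.Idx K) = b * (h * R.nWordU J) * R.wordU (clsWord C.D φ J false t) := by
  have hPB : (H.bnPair φ).B = (C.D.borelSubgroup K ⊓ H.grp φ).subgroupOf (H.grp φ) := rfl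
  have hUB : C.D.posUnipotent K ≤ C.D.borelSubgroup K := le_sup_left
  have hHB : C.D.diagonalSubgroup K ≤ C.D.borelSubgroup K := le_sup_right
  rcases mem_parabolic_singleton (H.bnPair φ) (sJ_mem_S H φ J hJ) _ hg with h2 | h2
  · left
    rw [hPB, Subgroup.mem_subgroupOf] at h2
    exact h2.1
  · right
    obtain ⟨b1, hb1, b2, hb2, e⟩ := mem_doubleCoset.mp h2
    rw [SetLike.mem_coe, hPB, Subgroup.mem_subgroupOf] at hb1 hb2
    have e' : (g : GL C.D.Idx K) = (b1 : GL C.D.Idx K) * R.nWordU J * (b2 : GL C.D.Idx K) :=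
      congrArg Subtype.val e
    obtain ⟨u₁, hu₁, h, hh, Ω, hΩ, u, hu, e2⟩ := H.grp_normal_form φ g g.2
    have hJlt := H.cls_lt J hJ
    have hniN : R.nWordU (F := K) J ∈ C.D.monomialSubgroup K := R.nWordU_mem J hJlt
    have hnΩN := H.toTwHyp.nCls_mem_monomial (K := K) Ω hΩ
    have hb : u₁ * h ∈ C.D.borelSubgroup K ⊓ H.grp φ :=
      ⟨Subgroup.mul_mem _ (hUB hu₁.1) (hHB hh.1), Subgroup.mul_mem _ hu₁.2 hh.2⟩
    have key := H.U.monomial_coset_unique (F := K) H.B (b1 : GL C.D.Idx K) (b2 : GL C.D.Idx K) (u₁ * h) u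
      (R.nWordU J) (R.nCls K Ω) hb1.1 hb2.1 hb.1 (hUB (uMinus_le_posUnipotent C.D _ hu.1)) hniN hnΩN
      (by rw [← e', e2])
    have h6 : R.nWordU (F := K) J * ((R.nWordU (F := K) J)⁻¹ * R.nCls K Ω) * (R.nWordU (F := K) J)⁻¹ ∈
        C.D.diagonalSubgroup K := H.B.mono.conj_mem _ hniN _ key
    have en : R.nCls K Ω =
        (R.nWordU (F := K) J * ((R.nWordU (F := K) J)⁻¹ * R.nCls K Ω) * (R.nWordU (F := K) J)⁻¹) *
          R.nWordU J := by group
    have hu' : u ∈ (uMinus C.D K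
        ((R.nWordU (F := K) J * ((R.nWordU (F := K) J)⁻¹ * R.nCls K Ω) * (R.nWordU (F := K) J)⁻¹) *
          R.nWordU J) : Set (GL C.D.Idx K)) := by
      rw [← en]; exact hu.1
    rw [H.U.uMinus_eq (F := K) H.B H.ntri H.sign _ h6 J hJlt] at hu'
    obtain ⟨t, ht⟩ := hu'
    have hxg : u ∈ R.xGrp K (J.map C.D.simple) := by
      rw [ht]
      unfold RootSys.lprod
      apply Subgroup.list_prod_mem
      intro x hx
      obtain ⟨r, hr, rfl⟩ := List.mem_map.mp hx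
      exact R.xU_mem_xGrp _ _ (negSet_cls H J hJ r hr) _
    obtain ⟨t', ht', et⟩ := mem_xGrp_fix H φ J hJ _ hxg
      ((mem_fixG _ _).mp (H.toTwHyp.grp_le_fix φ hu.2))
    refine ⟨u₁ * h, hb, _, h6, t', ht', ?_⟩
    rw [e2, ← et, ← en]

/-- The generators of a class lie in the minimal parabolic subgroup of the class. -/
theorem xJ_neg_mem_parabolic (H : TwHyp4 C R) (φ : K →+* K) (J : List ℕ) (hJ : J ∈ H.cls) (c : K)
    (hc : φ^[J.length] c = c) :
    (⟨R.wordU (clsWord C.D φ J true c), xJ_mem_grp H.toTwHyp φ J hJ true c hc⟩ : ↥(H.grp φ)) ∈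
      (H.toTwHyp2.bnPair φ).parabolic {sJ H.toTwHyp2 φ J hJ} := by
  have hPB : (H.toTwHyp2.bnPair φ).B = (C.D.borelSubgroup K ⊓ H.grp φ).subgroupOf (H.grp φ) := rfl
  have hUB : C.D.posUnipotent K ≤ C.D.borelSubgroup K := le_sup_left
  have hHB : C.D.diagonalSubgroup K ≤ C.D.borelSubgroup K := le_sup_right
  have hJlt := H.toTwHyp2.cls_lt J hJ
  by_cases hc0 : c = 0
  · have e : (⟨R.wordU (clsWord C.D φ J true c), xJ_mem_grp H.toTwHyp φ J hJ true c hc⟩ : ↥(H.grp φ)) = 1 := by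
      apply Subtype.ext
      show R.wordU (clsWord C.D φ J true c) = 1
      rw [hc0, xJ_zero H φ J hJ true]
    rw [e]
    exact Subgroup.one_mem _
  · set μ : K := -c⁻¹ with hμ
    have hμ0 : μ ≠ 0 := neg_ne_zero.mpr (inv_ne_zero hc0)
    have hμfix : φ^[J.length] μ = μ := iterate_neg_inv φ _ c hc
    have hμ' : φ^[J.length] (-μ) = -μ := by
      have e : ∀ x : K, φ^[J.length] x = (φ ^ J.length) x := fun x => by rw [RingHom.coe_pow]
      rw [e, map_neg, ← e, hμfix]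
    have hpar : -μ⁻¹ = c := by rw [hμ, inv_neg, inv_inv, neg_neg]
    have h1 := H.U.K.nT_eq H.G φ J (H.shape J hJ) μ
    rw [hpar, nT_eq_hT_mul H φ J hJ μ] at h1
    -- the elements of the twisted group
    let a1 : ↥(H.grp φ) := ⟨R.wordU (clsWord C.D φ J false (-μ)), xJ_mem_grp H.toTwHyp φ J hJ false (-μ) hμ'⟩
    let a2 : ↥(H.grp φ) := ⟨R.hT φ J μ, H.toTwHyp.hT_mem φ J hJ μ hμfix⟩
    have ha1 : a1 ∈ (H.toTwHyp2.bnPair φ).B := by
      rw [hPB, Subgroup.mem_subgroupOf]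
      exact ⟨hUB (xJ_mem_pos H.toTwHyp2 φ J hJ _), a1.2⟩
    have ha2 : a2 ∈ (H.toTwHyp2.bnPair φ).B := by
      rw [hPB, Subgroup.mem_subgroupOf]
      exact ⟨hHB (hT_mem_diagonal φ J hJlt μ hμ0), a2.2⟩
    have e : (⟨R.wordU (clsWord C.D φ J true c), xJ_mem_grp H.toTwHyp φ J hJ true c hc⟩ : ↥(H.grp φ)) =
        a1 * a2 * sJ H.toTwHyp2 φ J hJ * a1 := by
      apply Subtype.ext
      show R.wordU (clsWord C.D φ J true c) =
        R.wordU (clsWord C.D φ J false (-μ)) * R.hT φ J μ * R.nWordU J * R.wordU (clsWord C.D φ J false (-μ))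
      rw [← xJ_inv H φ J hJ false μ, mul_assoc _ (R.hT φ J μ), h1]
      group
    rw [e]
    have hBP : (H.toTwHyp2.bnPair φ).B ≤ (H.toTwHyp2.bnPair φ).parabolic {sJ H.toTwHyp2 φ J hJ} :=
      le_sup_left
    have hsP : sJ H.toTwHyp2 φ J hJ ∈ (H.toTwHyp2.bnPair φ).parabolic {sJ H.toTwHyp2 φ J hJ} :=
      Subgroup.mem_sup_right (Subgroup.subset_closure rfl)
    exact Subgroup.mul_mem _ (Subgroup.mul_mem _ (Subgroup.mul_mem _ (hBP ha1) (hBP ha2)) hsP) (hBP ha1)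

/-- The intersection of `V¹` with the minimal parabolic subgroup of a class lies in the root subgroup of the
negatives of the class. -/
theorem neg_inf_parabolic_tw (H : TwHyp4 C R) (φ : K →+* K) (J : List ℕ) (hJ : J ∈ H.cls)
    (v : ↥(H.grp φ)) (hv : (v : GL C.D.Idx K) ∈ C.D.negUnipotent K)
    (hvP : v ∈ (H.toTwHyp2.bnPair φ).parabolic {sJ H.toTwHyp2 φ J hJ}) :
    ∃ c : K, φ^[J.length] c = c ∧ (v : GL C.D.Idx K) = R.wordU (clsWord C.D φ J true c) := by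
  have A := atH H.toTwHyp2
  have hbn := (R.borel_inf_neg (F := K) H.B.dec H.B.mono.tri H.ntri).1
  have hHB : C.D.diagonalSubgroup K ≤ C.D.borelSubgroup K := le_sup_right
  have hUB : C.D.posUnipotent K ≤ C.D.borelSubgroup K := le_sup_left
  have hJlt := H.toTwHyp2.cls_lt J hJ
  rcases parabolic_cases_tw H.toTwHyp2 φ J hJ v⁻¹ (Subgroup.inv_mem _ hvP) with h1 | h1
  · refine ⟨0, Function.iterate_fixed (map_zero φ) _, ?_⟩
    have h2 : ((v : GL C.D.Idx K))⁻¹ ∈ C.D.borelSubgroup K ⊓ C.D.negUnipotent K :=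
      ⟨h1, Subgroup.inv_mem _ hv⟩
    rw [hbn, Subgroup.mem_bot, inv_eq_one] at h2
    rw [h2, xJ_zero H φ J hJ true]
  · obtain ⟨b, hb, h, hh, t, htfix, e⟩ := h1
    have e0 : ((v⁻¹ : ↥(H.grp φ)) : GL C.D.Idx K) = ((v : GL C.D.Idx K))⁻¹ := rfl
    rw [e0] at e
    have ev : (v : GL C.D.Idx K) = R.wordU (clsWord C.D φ J false (-t)) * (R.nWordU (F := K) J)⁻¹ *
        (h⁻¹ * b⁻¹) := by
      have e3 : (v : GL C.D.Idx K) = (((v : GL C.D.Idx K))⁻¹)⁻¹ := by group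
      rw [e3, e, ← xJ_inv H φ J hJ false t]; group
    have hb' : h⁻¹ * b⁻¹ ∈ C.D.borelSubgroup K :=
      Subgroup.mul_mem _ (Subgroup.inv_mem _ (hHB hh)) (Subgroup.inv_mem _ hb.1)
    by_cases ht : t = 0
    · exfalso
      rw [ht, neg_zero, xJ_zero H φ J hJ false, one_mul] at ev
      have e2 : (R.nWordU (F := K) J)⁻¹ = (v : GL C.D.Idx K) * (h⁻¹ * b⁻¹)⁻¹ := by rw [ev]; group
      have hniN : R.nWordU (F := K) J ∈ C.D.monomialSubgroup K := R.nWordU_mem J hJlt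
      have h3 := mem_diagonal_of_neg_mul_borel (atH H.toTwHyp2) H.w0.flatten
        (H.toTwHyp.flatten_lt H.w0 H.w0cls) (w0_neg H.toTwHyp3) _ (v : GL C.D.Idx K) _
        (Subgroup.inv_mem _ hniN) hv (Subgroup.inv_mem _ hb') e2
      apply not_mem_B_of_mem_S (H.toTwHyp2.bnPair φ) (sJ_mem_S H.toTwHyp2 φ J hJ)
      show sJ H.toTwHyp2 φ J hJ ∈ (C.D.borelSubgroup K ⊓ H.grp φ).subgroupOf (H.grp φ)
      rw [Subgroup.mem_subgroupOf]
      refine ⟨?_, (sJ H.toTwHyp2 φ J hJ).2⟩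
      have h4 := hHB (Subgroup.inv_mem _ h3)
      rwa [inv_inv] at h4
    · refine ⟨-t⁻¹, iterate_neg_inv φ _ t htfix, ?_⟩
      have htneg : φ^[J.length] (-t) = -t := by
        have e : ∀ x : K, φ^[J.length] x = (φ ^ J.length) x := fun x => by rw [RingHom.coe_pow]
        rw [e, map_neg, ← e, htfix]
      -- `x_{-J}(t⁻¹) x_J(-t) = x_J(t) n_J(-t)`
      have hnT := H.U.K.nT_eq H.G φ J (H.shape J hJ) (-t)
      have hpar : -(-t)⁻¹ = t⁻¹ := by rw [inv_neg, neg_neg]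
      rw [hpar] at hnT
      have hid : R.wordU (clsWord C.D φ J true t⁻¹) * R.wordU (clsWord C.D φ J false (-t)) =
          R.wordU (clsWord C.D φ J false t) * R.nT φ J (-t) := by
        rw [hnT, ← mul_assoc, ← mul_assoc, xJ_add H φ J hJ false, add_neg_cancel, xJ_zero H φ J hJ false,
          one_mul]
      have hw : (R.wordU (clsWord C.D φ J true (-t⁻¹)))⁻¹ * (v : GL C.D.Idx K) =
          R.wordU (clsWord C.D φ J false t) * R.hT φ J (-t) * (h⁻¹ * b⁻¹) := by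
        rw [xJ_inv H φ J hJ true, neg_neg, ev]
        calc R.wordU (clsWord C.D φ J true t⁻¹) * (R.wordU (clsWord C.D φ J false (-t)) *
              (R.nWordU (F := K) J)⁻¹ * (h⁻¹ * b⁻¹))
            = (R.wordU (clsWord C.D φ J true t⁻¹) * R.wordU (clsWord C.D φ J false (-t))) *
              (R.nWordU (F := K) J)⁻¹ * (h⁻¹ * b⁻¹) := by group
          _ = R.wordU (clsWord C.D φ J false t) * R.hT φ J (-t) * (h⁻¹ * b⁻¹) := by
              rw [hid, nT_eq_hT_mul H φ J hJ (-t)]; group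
      have hwB : (R.wordU (clsWord C.D φ J true (-t⁻¹)))⁻¹ * (v : GL C.D.Idx K) ∈ C.D.borelSubgroup K := by
        rw [hw]
        refine Subgroup.mul_mem _ (Subgroup.mul_mem _ (hUB (xJ_mem_pos H.toTwHyp2 φ J hJ t)) (hHB ?_)) hb'
        exact hT_mem_diagonal φ J hJlt _ (neg_ne_zero.mpr ht)
      have hwV : (R.wordU (clsWord C.D φ J true (-t⁻¹)))⁻¹ * (v : GL C.D.Idx K) ∈ C.D.negUnipotent K :=
        Subgroup.mul_mem _ (Subgroup.inv_mem _ (xJ_mem_neg H.toTwHyp2 φ J hJ _)) hv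
      have h5 : (R.wordU (clsWord C.D φ J true (-t⁻¹)))⁻¹ * (v : GL C.D.Idx K) ∈
          C.D.borelSubgroup K ⊓ C.D.negUnipotent K := ⟨hwB, hwV⟩
      rw [hbn, Subgroup.mem_bot, inv_mul_eq_one] at h5
      exact h5.symm

end

end Cfsg.Agent.Lib.Helper3.TwAut
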