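import Mathlib
import Cfsg.Prelude.Def_ChevStructure
import Cfsg.Agent.Lib.Helper3.TwAut4
set_option autoImplicit false
set_option linter.unusedSectionVars false
set_option linter.style.haveILetI false
open Cfsg Cfsg.Lie

/-!
Automorphisms of twisted groups, part 5: an automorphism preserving `U¹` and `V¹` preserves the root subgroups of
the classes of fundamental roots and of their negatives.
-/

namespace Cfsg.Agent.Lib.Helper3.TwAut

open Cfsg.Agent.Lib.Helper3.ChevM Cfsg.Agent.Lib.Helper3.ChevSp Cfsg.Agent.Lib.Helper3 ChevU ChevT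
open Cfsg.Agent.Lib.Helper3.ChevAt Cfsg.Agent.Lib.Helper3.ChevAut Cfsg.Agent.Lib.Helper1
open DoubleCoset

/-- The additional table checks for the automorphisms of a twisted group. -/
structure TwAutHyp (C : CDatum) (R : RelData C) extends TwHyp7 C R where
  hopp : ∀ i < C.D.rank, reflW R.refl w0.flatten (C.D.neg (C.D.simple i)) = C.D.simple i
  hlen : ∀ J ∈ cls, ∀ J' ∈ cls, J.length = J'.length → J = J'

/-- The hypotheses on the field endomorphism. -/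
structure FrobHyp {K : Type*} [Field K] (φ : K →+* K) (q d : ℕ) : Prop where
  fix : Nat.card {x : K // φ x = x} = q
  iter : ∀ x : K, φ^[d] x = x
  card : Nat.card K = q ^ d
  one_lt : 1 < q

section
variable {K : Type*} [Field K] {C : CDatum} {R : RelData C}

/-- Conjugating a product of root elements term by term. -/
theorem conj_lp_map (g : GL C.D.Idx K) (J : List ℕ) (f₁ f₂ : ℕ → ℕ) (t t' : ℕ → K)
    (h : ∀ j ∈ J, g * R.xU (f₁ j) (t (f₁ j)) * g⁻¹ = R.xU (f₂ j) (t' (f₂ j))) :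
    g * R.lp (J.map f₁) t * g⁻¹ = R.lp (J.map f₂) t' := by
  induction J with
  | nil => simp [RelData.lp_nil]
  | cons a J ih =>
    rw [List.map_cons, List.map_cons, R.lp_cons, R.lp_cons]
    have e : g * (R.xU (f₁ a) (t (f₁ a)) * R.lp (J.map f₁) t) * g⁻¹ =
        (g * R.xU (f₁ a) (t (f₁ a)) * g⁻¹) * (g * R.lp (J.map f₁) t * g⁻¹) := by group
    rw [e, h a List.mem_cons_self, ih (fun j hj => h j (List.mem_cons_of_mem _ hj))]

theorem iterate_neg' (φ : K →+* K) (n : ℕ) (μ : K) (hμ : φ^[n] μ = μ) : φ^[n] (-μ) = -μ := by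
  have e : ∀ x : K, φ^[n] x = (φ ^ n) x := fun x => by rw [RingHom.coe_pow]
  rw [e, map_neg, ← e, hμ]

theorem iterate_inv' (φ : K →+* K) (n : ℕ) (μ : K) (hμ : φ^[n] μ = μ) : φ^[n] μ⁻¹ = μ⁻¹ := by
  have e : ∀ x : K, φ^[n] x = (φ ^ n) x := fun x => by rw [RingHom.coe_pow]
  rw [e, map_inv₀, ← e, hμ]

theorem iterate_mul' (φ : K →+* K) (n : ℕ) (μ ν : K) (hμ : φ^[n] μ = μ) (hν : φ^[n] ν = ν) :
    φ^[n] (μ * ν) = μ * ν := by
  have e : ∀ x : K, φ^[n] x = (φ ^ n) x := fun x => by rw [RingHom.coe_pow]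
  rw [e, map_mul, ← e, ← e, hμ, hν]

theorem iterate_add' (φ : K →+* K) (n : ℕ) (μ ν : K) (hμ : φ^[n] μ = μ) (hν : φ^[n] ν = ν) :
    φ^[n] (μ + ν) = μ + ν := by
  have e : ∀ x : K, φ^[n] x = (φ ^ n) x := fun x => by rw [RingHom.coe_pow]
  rw [e, map_add, ← e, ← e, hμ, hν]

end

section
variable {K : Type*} [Field K] [Fintype K] {C : CDatum} {R : RelData C}

/-- An automorphism preserving `B¹` permutes the minimal parabolic subgroups. -/
theorem exists_parabolic_perm_tw (H : TwHyp2 C R) (φ : K →+* K) (θ : ↥(H.grp φ) ≃* ↥(H.grp φ))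
    (hB : Pres θ (C.D.borelSubgroup K ⊓ H.grp φ)) (J : List ℕ) (hJ : J ∈ H.cls) :
    ∃ J', ∃ hJ' : J' ∈ H.cls, ((H.bnPair φ).parabolic {sJ H φ J hJ}).map θ.toMonoidHom =
      (H.bnPair φ).parabolic {sJ H φ J' hJ'} := by
  obtain ⟨t, ht, hmap⟩ := exists_map_parabolic_singleton (H.bnPair φ) θ (map_B_eq_tw H φ θ hB)
    (sJ_mem_S H φ J hJ)
  obtain ⟨J', hJ', rfl⟩ := exists_sJ_of_mem_S H φ t ht
  exact ⟨J', hJ', hmap⟩

/-- An automorphism preserving `U¹` and `V¹` permutes the root subgroups of the negatives of the classes. -/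
theorem pres_neg_class (H : TwHyp4 C R) (φ : K →+* K) (θ : MulAut ↥(H.grp φ))
    (hU : Pres θ (C.D.posUnipotent K ⊓ H.grp φ)) (hV : Pres θ (C.D.negUnipotent K ⊓ H.grp φ))
    (J : List ℕ) (hJ : J ∈ H.cls) :
    ∃ J' ∈ H.cls,
      (∀ c, φ^[J.length] c = c → ∃ c', φ^[J'.length] c' = c' ∧
        ex θ (R.wordU (clsWord C.D φ J true c)) = R.wordU (clsWord C.D φ J' true c')) ∧
      (∀ c', φ^[J'.length] c' = c' → ∃ c, φ^[J.length] c = c ∧
        ex θ (R.wordU (clsWord C.D φ J true c)) = R.wordU (clsWord C.D φ J' true c')) := by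
  have hB := pres_borel_tw H.toTwHyp2 φ θ hU
  obtain ⟨J', hJ', hmap⟩ := exists_parabolic_perm_tw H.toTwHyp2 φ θ hB J hJ
  refine ⟨J', hJ', ?_, ?_⟩
  · intro c hc
    have hxG := xJ_mem_grp H.toTwHyp φ J hJ true c hc
    have hxV : R.wordU (clsWord C.D φ J true c) ∈ C.D.negUnipotent K ⊓ H.grp φ :=
      ⟨xJ_mem_neg H.toTwHyp2 φ J hJ c, hxG⟩
    have h1 : θ ⟨_, hxG⟩ ∈ (H.toTwHyp2.bnPair φ).parabolic {sJ H.toTwHyp2 φ J' hJ'} := by
      rw [← hmap]
      exact ⟨_, xJ_neg_mem_parabolic H φ J hJ c hc, rfl⟩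
    have h2 : ((θ ⟨_, hxG⟩ : ↥(H.grp φ)) : GL C.D.Idx K) ∈ C.D.negUnipotent K := by
      have := (hV _ hxV).1
      rwa [ex_of_mem θ hxG] at this
    obtain ⟨c', hc', e⟩ := neg_inf_parabolic_tw H φ J' hJ' (θ ⟨_, hxG⟩) h2 h1
    exact ⟨c', hc', by rw [ex_of_mem θ hxG]; exact e⟩
  · intro c' hc'
    have hyG := xJ_mem_grp H.toTwHyp φ J' hJ' true c' hc'
    have hy := xJ_neg_mem_parabolic H φ J' hJ' c' hc'
    rw [← hmap] at hy
    obtain ⟨x, hx, e⟩ := hy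
    have e' : ex θ (x : GL C.D.Idx K) = R.wordU (clsWord C.D φ J' true c') := by
      rw [ex_coe]; exact congrArg Subtype.val e
    have hxV : (x : GL C.D.Idx K) ∈ C.D.negUnipotent K := by
      have h3 : ex θ (x : GL C.D.Idx K) ∈ C.D.negUnipotent K ⊓ H.grp φ := by
        rw [e']; exact ⟨xJ_mem_neg H.toTwHyp2 φ J' hJ' c', hyG⟩
      exact ((hV.mem_iff inf_le_right x.2).mp h3).1
    obtain ⟨c, hc, ex'⟩ := neg_inf_parabolic_tw H φ J hJ x hxV hx
    exact ⟨c, hc, by rw [← ex']; exact e'⟩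

/-- Conjugation by the representative of the longest word maps the root subgroup of the negatives of a class
onto the root subgroup of the class. -/
theorem conj_w0_xJ_neg (H : TwHyp4 C R) (φ : K →+* K)
    (hopp : ∀ i < C.D.rank, reflW R.refl H.w0.flatten (C.D.neg (C.D.simple i)) = C.D.simple i)
    (J : List ℕ) (hJ : J ∈ H.cls) :
    ∃ d : K, d ≠ 0 ∧ ∀ c, φ^[J.length] c = c → φ^[J.length] (d * c) = d * c ∧
      R.nCls K H.w0 * R.wordU (clsWord C.D φ J true c) * (R.nCls K H.w0)⁻¹ =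
        R.wordU (clsWord C.D φ J false (d * c)) := by
  have hl0 := H.toTwHyp.flatten_lt H.w0 H.w0cls
  obtain ⟨⟨-, hn₀G⟩, -⟩ := H.toTwHyp3.w0_spec φ
  obtain ⟨d, hd⟩ := H.B.mono.conj_word_xU (F := K) H.B.dec 1 (Subgroup.one_mem _) H.w0.flatten hl0
  simp only [one_mul] at hd
  have hJlt := H.toTwHyp2.cls_lt J hJ
  obtain ⟨a, ha⟩ := H.toTwHyp2.cls_ne_nil J hJ
  obtain ⟨a₀, L₀, hJe⟩ : ∃ a₀ L₀, J = a₀ :: L₀ := by
    cases J with
    | nil => simp at ha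
    | cons x l => exact ⟨x, l, rfl⟩
  subst hJe
  have ha₀ : a₀ < C.D.rank := hJlt a₀ List.mem_cons_self
  refine ⟨d (C.D.neg (C.D.simple a₀)), (hd _ (R.neg_lt _ (R.simple_lt a₀ ha₀))).1, ?_⟩
  intro c hc
  have hnd := (twTorCheck_spec H.tor _ hJ true).1
  have hconj : R.nCls K H.w0 * R.wordU (clsWord C.D φ (a₀ :: L₀) true c) * (R.nCls K H.w0)⁻¹ =
      R.lp ((a₀ :: L₀).map C.D.simple)
        (fun s => d (C.D.neg s) * clsCoord C.D φ (a₀ :: L₀) true c (C.D.neg s)) := by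
    rw [clsWord_eq_lp (R := R) φ _ true c hnd]
    apply conj_lp_map
    intro j hj
    rw [sgnRoot_true]
    have h1 := (hd _ (R.neg_lt _ (R.simple_lt j (hJlt j hj)))).2
      (clsCoord C.D φ (a₀ :: L₀) true c (C.D.neg (C.D.simple j)))
    rw [hopp j (hJlt j hj)] at h1
    exact h1
  have hmem : R.lp ((a₀ :: L₀).map C.D.simple)
      (fun s => d (C.D.neg s) * clsCoord C.D φ (a₀ :: L₀) true c (C.D.neg s)) ∈ H.grp φ := by
    rw [← hconj]
    exact Subgroup.mul_mem _ (Subgroup.mul_mem _ hn₀G (xJ_mem_grp H.toTwHyp φ _ hJ true c hc))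
      (Subgroup.inv_mem _ hn₀G)
  have hfix := (mem_fixG _ _).mp (H.toTwHyp.grp_le_fix φ hmem)
  obtain ⟨a, L, hJe', hfixc, hlp⟩ := fix_class H.toTwHyp2 φ _ hJ _ hfix
  have haa : a = a₀ := by
    injection hJe' with h1 _
    exact h1.symm
  subst haa
  have ht'a : d (C.D.neg (C.D.simple a)) * clsCoord C.D φ (a :: L₀) true c (C.D.neg (C.D.simple a)) =
      d (C.D.neg (C.D.simple a)) * c := by
    simp [clsCoord, sgnRoot]
  rw [ht'a] at hfixc hlp
  exact ⟨hfixc, by rw [hconj, hlp]⟩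

/-- The negative generators of a class are injective in the parameter. -/
theorem xJ_neg_inj (H : TwHyp4 C R) (φ : K →+* K)
    (hopp : ∀ i < C.D.rank, reflW R.refl H.w0.flatten (C.D.neg (C.D.simple i)) = C.D.simple i)
    (J : List ℕ) (hJ : J ∈ H.cls) (c c' : K) (hc : φ^[J.length] c = c) (hc' : φ^[J.length] c' = c')
    (h : R.wordU (clsWord C.D φ J true c) = R.wordU (clsWord C.D φ J true c')) : c = c' := by
  obtain ⟨d, hd0, hd⟩ := conj_w0_xJ_neg H φ hopp J hJ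
  have h1 := (hd c hc).2
  rw [h, (hd c' hc').2] at h1
  exact mul_left_cancel₀ hd0 (xJ_inj H φ J hJ _ _ h1).symm

end

section
variable {K : Type*} [Field K] [Fintype K] {C : CDatum} {R : RelData C}

/-- The number of the parameters of a class. -/
theorem card_fixJ {φ : K →+* K} {q d : ℕ} (F : FrobHyp φ q d) (m : ℕ) (hm : m = 1 ∨ m = d) :
    Nat.card {c : K // φ^[m] c = c} = q ^ m := by
  rcases hm with rfl | rfl
  · simp only [Function.iterate_one, pow_one]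
    exact F.fix
  · rw [← F.card]
    exact Nat.card_congr (Equiv.subtypeUnivEquiv F.iter)

/-- A relation between the parameters of two classes which is total and injective bounds the lengths. -/
theorem length_le_of_inj {φ : K →+* K} {q d : ℕ} (F : FrobHyp φ q d) (m m' : ℕ) (hm : m = 1 ∨ m = d)
    (hm' : m' = 1 ∨ m' = d) (r : K → K → Prop)
    (hr : ∀ c, φ^[m] c = c → ∃ c', φ^[m'] c' = c' ∧ r c c')
    (hinj : ∀ c₁ c₂ c', φ^[m] c₁ = c₁ → φ^[m] c₂ = c₂ → r c₁ c' → r c₂ c' → c₁ = c₂) : m ≤ m' := by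
  classical
  choose! f hf1 hf2 using hr
  let F' : {c : K // φ^[m] c = c} → {c : K // φ^[m'] c = c} := fun c => ⟨f c.1, hf1 c.1 c.2⟩
  have hF' : Function.Injective F' := by
    intro c₁ c₂ e
    have e' : f c₁.1 = f c₂.1 := congrArg Subtype.val e
    apply Subtype.ext
    apply hinj c₁.1 c₂.1 (f c₁.1) c₁.2 c₂.2 (hf2 c₁.1 c₁.2)
    rw [e']
    exact hf2 c₂.1 c₂.2
  have h1 := Nat.card_le_card_of_injective F' hF'
  rw [card_fixJ F m hm, card_fixJ F m' hm'] at h1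
  exact (Nat.pow_le_pow_iff_right F.one_lt).mp h1

/-- An automorphism preserving `U¹` and `V¹` preserves the root subgroups of the negatives of the classes. -/
theorem pres_neg_class_same (W : TwAutHyp C R) (φ : K →+* K) {q : ℕ} (F : FrobHyp φ q W.d)
    (θ : MulAut ↥(W.grp φ))
    (hU : Pres θ (C.D.posUnipotent K ⊓ W.grp φ)) (hV : Pres θ (C.D.negUnipotent K ⊓ W.grp φ))
    (J : List ℕ) (hJ : J ∈ W.cls) (c : K) (hc : φ^[J.length] c = c) :
    ∃ c', φ^[J.length] c' = c' ∧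
      ex θ (R.wordU (clsWord C.D φ J true c)) = R.wordU (clsWord C.D φ J true c') := by
  obtain ⟨J', hJ', h1, h2⟩ := pres_neg_class W.toTwHyp4 φ θ hU hV J hJ
  have hle1 : J.length ≤ J'.length := by
    apply length_le_of_inj F _ _ (W.lens J hJ) (W.lens J' hJ')
      (fun c c' => ex θ (R.wordU (clsWord C.D φ J true c)) = R.wordU (clsWord C.D φ J' true c')) h1
    intro c₁ c₂ c' hc₁ hc₂ e₁ e₂
    have e3 : ex θ (R.wordU (clsWord C.D φ J true c₁)) = ex θ (R.wordU (clsWord C.D φ J true c₂)) := by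
      rw [e₁, e₂]
    exact xJ_neg_inj W.toTwHyp4 φ W.hopp J hJ _ _ hc₁ hc₂
      (ex_injOn θ (xJ_mem_grp W.toTwHyp φ J hJ true c₁ hc₁) (xJ_mem_grp W.toTwHyp φ J hJ true c₂ hc₂) e3)
  have hle2 : J'.length ≤ J.length := by
    apply length_le_of_inj F _ _ (W.lens J' hJ') (W.lens J hJ)
      (fun c' c => ex θ (R.wordU (clsWord C.D φ J true c)) = R.wordU (clsWord C.D φ J' true c')) h2
    intro c₁ c₂ c' hc₁ hc₂ e₁ e₂
    have e3 : R.wordU (clsWord C.D φ J' true c₁) = R.wordU (clsWord C.D φ J' true c₂) := by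
      rw [← e₁, ← e₂]
    exact xJ_neg_inj W.toTwHyp4 φ W.hopp J' hJ' _ _ hc₁ hc₂ e3
  have hJJ : J = J' := W.hlen J hJ J' hJ' (le_antisymm hle1 hle2)
  subst hJJ
  exact h1 c hc

/-- An automorphism preserving `U¹` and `V¹` preserves the root subgroups of the classes. -/
theorem pres_pos_class_same (W : TwAutHyp C R) (φ : K →+* K) {q : ℕ} (F : FrobHyp φ q W.d)
    (θ : MulAut ↥(W.grp φ))
    (hU : Pres θ (C.D.posUnipotent K ⊓ W.grp φ)) (hV : Pres θ (C.D.negUnipotent K ⊓ W.grp φ))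
    (J : List ℕ) (hJ : J ∈ W.cls) (c : K) (hc : φ^[J.length] c = c) :
    ∃ c', φ^[J.length] c' = c' ∧
      ex θ (R.wordU (clsWord C.D φ J false c)) = R.wordU (clsWord C.D φ J false c') := by
  obtain ⟨⟨hn₀N, hn₀G⟩, hmap⟩ := W.toTwHyp3.w0_spec φ
  have hl0 := W.toTwHyp.flatten_lt W.w0 W.w0cls
  have hmap' := map_conj_neg_eq_pos (K := K) (atH W.toTwHyp2) 1 (Subgroup.one_mem _) W.w0.flatten hl0
    (w0_neg W.toTwHyp3)
  rw [one_mul] at hmap'
  set n₀ : GL C.D.Idx K := R.nCls K W.w0 with hn₀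
  set a₀ : ↥(W.grp φ) := ⟨n₀, hn₀G⟩ with ha₀
  set θ' : MulAut ↥(W.grp φ) := MulAut.conj a₀⁻¹ * (θ * MulAut.conj a₀) with hθ'
  have hθ'ex : ∀ g ∈ W.grp φ, ex θ' g = n₀⁻¹ * ex θ (n₀ * g * n₀⁻¹) * n₀ := by
    intro g hg
    have h1 : n₀ * g * n₀⁻¹ ∈ W.grp φ :=
      Subgroup.mul_mem _ (Subgroup.mul_mem _ hn₀G hg) (Subgroup.inv_mem _ hn₀G)
    rw [hθ', ex_mul_aut _ _ hg, ex_mul_aut _ _ hg, ex_conj _ hg, ex_conj _ (ex_mem θ h1)]
    simp [ha₀]
  have hconjG : ∀ g ∈ W.grp φ, n₀ * g * n₀⁻¹ ∈ W.grp φ := fun g hg =>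
    Subgroup.mul_mem _ (Subgroup.mul_mem _ hn₀G hg) (Subgroup.inv_mem _ hn₀G)
  have hconjG' : ∀ g ∈ W.grp φ, n₀⁻¹ * g * n₀ ∈ W.grp φ := fun g hg =>
    Subgroup.mul_mem _ (Subgroup.mul_mem _ (Subgroup.inv_mem _ hn₀G) hg) hn₀G
  have hU' : Pres θ' (C.D.posUnipotent K ⊓ W.grp φ) := by
    intro u hu
    rw [hθ'ex u hu.2]
    have h1 : n₀ * u * n₀⁻¹ ∈ C.D.negUnipotent K ⊓ W.grp φ := by
      refine ⟨?_, hconjG u hu.2⟩
      rw [← hmap]; exact ⟨u, hu.1, rfl⟩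
    have h2 := hV _ h1
    refine ⟨?_, hconjG' _ h2.2⟩
    have h3 := h2.1
    rw [← hmap] at h3
    obtain ⟨x, hx, e⟩ := h3
    change n₀ * x * n₀⁻¹ = _ at e
    rw [← e]
    have e4 : n₀⁻¹ * (n₀ * x * n₀⁻¹) * n₀ = x := by group
    rw [e4]; exact hx
  have hV' : Pres θ' (C.D.negUnipotent K ⊓ W.grp φ) := by
    intro v hv
    rw [hθ'ex v hv.2]
    have h1 : n₀ * v * n₀⁻¹ ∈ C.D.posUnipotent K ⊓ W.grp φ := by
      refine ⟨?_, hconjG v hv.2⟩
      rw [← hmap']; exact ⟨v, hv.1, rfl⟩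
    have h2 := hU _ h1
    refine ⟨?_, hconjG' _ h2.2⟩
    have h3 := h2.1
    rw [← hmap'] at h3
    obtain ⟨x, hx, e⟩ := h3
    change n₀ * x * n₀⁻¹ = _ at e
    rw [← e]
    have e4 : n₀⁻¹ * (n₀ * x * n₀⁻¹) * n₀ = x := by group
    rw [e4]; exact hx
  obtain ⟨d, hd0, hd⟩ := conj_w0_xJ_neg W.toTwHyp4 φ W.hopp J hJ
  have hdfix : φ^[J.length] d = d := by
    have := (hd 1 (Function.iterate_fixed (map_one φ) _)).1
    rwa [mul_one] at this
  set c₁ : K := d⁻¹ * c with hc₁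
  have hc₁fix : φ^[J.length] c₁ = c₁ := iterate_mul' φ _ _ _ (iterate_inv' φ _ d hdfix) hc
  have e1 : R.wordU (clsWord C.D φ J false c) = n₀ * R.wordU (clsWord C.D φ J true c₁) * n₀⁻¹ := by
    rw [(hd c₁ hc₁fix).2, hc₁, ← mul_assoc, mul_inv_cancel₀ hd0, one_mul]
  obtain ⟨c', hc', e2⟩ := pres_neg_class_same W φ F θ' hU' hV' J hJ c₁ hc₁fix
  rw [hθ'ex _ (xJ_mem_grp W.toTwHyp φ J hJ true c₁ hc₁fix), ← e1] at e2
  have e3 : ex θ (R.wordU (clsWord C.D φ J false c)) =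
      n₀ * R.wordU (clsWord C.D φ J true c') * n₀⁻¹ := by
    rw [← e2]; group
  refine ⟨d * c', (hd c' hc').1, ?_⟩
  rw [e3, (hd c' hc').2]

end

end Cfsg.Agent.Lib.Helper3.TwAut
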