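import Mathlib
import Cfsg.Prelude.Def_ChevStructure
import Cfsg.Agent.Lib.Helper3.TwAut5
import Cfsg.Agent.Lib.Helper3.SL2Pres4
set_option autoImplicit false
set_option linter.unusedSectionVars false
set_option linter.style.haveILetI false
open Cfsg Cfsg.Lie

/-!
Automorphisms of twisted groups, part 6: the relations of `SL₂` for the generators of a class, and the rank one
computation.
-/

namespace Cfsg.Agent.Lib.Helper3.TwAut

open Cfsg.Agent.Lib.Helper3.ChevM Cfsg.Agent.Lib.Helper3.ChevSp Cfsg.Agent.Lib.Helper3 ChevU ChevT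
open Cfsg.Agent.Lib.Helper3.ChevAt Cfsg.Agent.Lib.Helper3.ChevAut Cfsg.Agent.Lib.Helper1
open Cfsg.Agent.Lib.Helper3.SL2P

section
variable {K : Type*} [Field K]

theorem xE_add' (a b : K) : xE a * xE b = xE (a + b) := by
  apply Subtype.ext
  show (xE a).1 * (xE b).1 = (xE (a + b)).1
  ext i j
  fin_cases i <;> fin_cases j <;> simp [xE, Matrix.mul_apply, Fin.sum_univ_two, add_comm]

theorem dE_mul_xE (w : K) (h : w ≠ 0) (t : K) : dE w h * xE t = xE (w * w * t) * dE w h := by
  apply Subtype.ext
  show (dE w h).1 * (xE t).1 = (xE (w * w * t)).1 * (dE w h).1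
  ext i j
  fin_cases i <;> fin_cases j <;> simp [dE, xE, Matrix.mul_apply, Fin.sum_univ_two]
  field_simp

/-- The identity of `SL₂` behind the rank one computation. -/
theorem sl2_key (u v t : K) (h : 1 + u * v ≠ 0) :
    (xE u * yE v * xE u) * xE t * (xE u * yE v * xE u)⁻¹ =
      yE (v / (1 + u * v)) * xE ((1 + u * v) * (1 + u * v) * t) * (yE (v / (1 + u * v)))⁻¹ := by
  have h1 := xE_mul_yE u v h
  have h2 := dE_mul_xE (1 + u * v) h t
  have hcomm : xE (u / (1 + u * v)) * xE u * xE t * (xE (u / (1 + u * v)) * xE u)⁻¹ = xE t := by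
    rw [xE_add', xE_add', add_comm, ← xE_add']
    group
  calc (xE u * yE v * xE u) * xE t * (xE u * yE v * xE u)⁻¹
      = (yE (v / (1 + u * v)) * dE (1 + u * v) h * xE (u / (1 + u * v)) * xE u) * xE t *
          (yE (v / (1 + u * v)) * dE (1 + u * v) h * xE (u / (1 + u * v)) * xE u)⁻¹ := by rw [h1]
    _ = yE (v / (1 + u * v)) * (dE (1 + u * v) h *
          (xE (u / (1 + u * v)) * xE u * xE t * (xE (u / (1 + u * v)) * xE u)⁻¹) *
          (dE (1 + u * v) h)⁻¹) * (yE (v / (1 + u * v)))⁻¹ := by group
    _ = yE (v / (1 + u * v)) * (dE (1 + u * v) h * xE t * (dE (1 + u * v) h)⁻¹) *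
          (yE (v / (1 + u * v)))⁻¹ := by rw [hcomm]
    _ = _ := by rw [h2]; group

end

section
variable {K : Type*} [Field K] {C : CDatum} {R : RelData C}

/-- The relations of `SL₂` for the generators of a class. -/
theorem rel_class (H : TwHyp2 C R) (φ : K →+* K)
    (hcs : ∀ j < C.D.rank, C.D.cartan j (C.D.neg (C.D.simple j)) = -2) (J : List ℕ) (hJ : J ∈ H.cls) :
    Rel (fun t : K => R.wordU (clsWord C.D φ J false t)) (fun t : K => R.wordU (clsWord C.D φ J true t)) := by
  have hJs := H.shape J hJ
  have hcases := clsShape_cases H.G hJs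
  simp only [clsShapeCheck, Bool.and_eq_true, List.all_eq_true, decide_eq_true_eq, Bool.or_eq_true] at hJs
  obtain ⟨hall, hsh⟩ := hJs
  have hrel : ∀ a ∈ J, Rel (fun t : K => R.xU (C.D.simple a) t) (fun t : K => R.xU (C.D.neg (C.D.simple a)) t) :=
    fun a ha => H.B.mono.sl2_rel hcs _ (R.simple_lt a (hall a ha).1.1)
  have hcomm : ∀ a ∈ J, ∀ b ∈ J, a ≠ b → ∀ (n1 n2 : Bool) (x y : K),
      Commute (R.xU (sgnRoot C.D n1 a) x) (R.xU (sgnRoot C.D n2 b) y) := by
    intro a ha b hb hab n1 n2 x y
    exact H.U.K.xU_comm_sgn (K := K) n1 n2 a b (hall a ha).1.1 (hall b hb).1.1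
      (((hall a ha).2 b hb).resolve_left hab) x y
  rcases hcases with ⟨a, rfl, -⟩ | ⟨a, b, rfl, -, -⟩ | ⟨a, b, c, rfl, -, -, -⟩
  · have h1 := hrel a (by simp)
    simp only [wordU_clsWord_one, sgnRoot_false, sgnRoot_true]
    exact h1
  · have hab : a ≠ b := by
      simp only [Bool.and_eq_true, decide_eq_true_eq] at hsh
      exact hsh.2
    have hR := SL2P.Rel.prod (hrel b (by simp)) (hrel a (by simp)) φ
      (fun s t => by have := hcomm b (by simp) a (by simp) hab.symm false false s t; simpa [sgnRoot] using this)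
      (fun s t => by have := hcomm b (by simp) a (by simp) hab.symm false true s t; simpa [sgnRoot] using this)
      (fun s t => by have := hcomm b (by simp) a (by simp) hab.symm true false s t; simpa [sgnRoot] using this)
      (fun s t => by have := hcomm b (by simp) a (by simp) hab.symm true true s t; simpa [sgnRoot] using this)
    have e1 : (fun t : K => R.wordU (clsWord C.D φ [a, b] false t)) =
        (fun t : K => R.xU (C.D.simple b) (φ t) * R.xU (C.D.simple a) t) := by
      funext t
      rw [wordU_clsWord_two, sgnRoot_false, sgnRoot_false]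
      have := hcomm a (by simp) b (by simp) hab false false t (φ t)
      simpa [sgnRoot] using this.eq
    have e2 : (fun t : K => R.wordU (clsWord C.D φ [a, b] true t)) =
        (fun t : K => R.xU (C.D.neg (C.D.simple b)) (φ t) * R.xU (C.D.neg (C.D.simple a)) t) := by
      funext t
      rw [wordU_clsWord_two, sgnRoot_true, sgnRoot_true]
      have := hcomm a (by simp) b (by simp) hab true true t (φ t)
      simpa [sgnRoot] using this.eq
    rw [e1, e2]
    exact hR
  · simp only [Bool.and_eq_true, decide_eq_true_eq] at hsh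
    have hab : a ≠ b := hsh.1.1.2
    have hbc : b ≠ c := hsh.1.2
    have hac : a ≠ c := hsh.2
    have cm : ∀ (x y : ℕ), x ∈ [a, b, c] → y ∈ [a, b, c] → x ≠ y → ∀ (n1 n2 : Bool) (s t : K),
        Commute (R.xU (if n1 then C.D.neg (C.D.simple x) else C.D.simple x) s)
          (R.xU (if n2 then C.D.neg (C.D.simple y) else C.D.simple y) t) := by
      intro x y hx hy hxy n1 n2 s t
      exact hcomm x hx y hy hxy n1 n2 s t
    have hRab := SL2P.Rel.prod (hrel b (by simp)) (hrel a (by simp)) φ
      (fun s t => by simpa using cm b a (by simp) (by simp) hab.symm false false s t)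
      (fun s t => by simpa using cm b a (by simp) (by simp) hab.symm false true s t)
      (fun s t => by simpa using cm b a (by simp) (by simp) hab.symm true false s t)
      (fun s t => by simpa using cm b a (by simp) (by simp) hab.symm true true s t)
    have hR := SL2P.Rel.prod (hrel c (by simp)) hRab (φ.comp φ)
      (fun s t => by
        have h1 := cm c b (by simp) (by simp) hbc.symm false false s (φ t)
        have h2 := cm c a (by simp) (by simp) hac.symm false false s t
        simpa using (Commute.mul_right h1 h2))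
      (fun s t => by
        have h1 := cm c b (by simp) (by simp) hbc.symm false true s (φ t)
        have h2 := cm c a (by simp) (by simp) hac.symm false true s t
        simpa using (Commute.mul_right h1 h2))
      (fun s t => by
        have h1 := cm c b (by simp) (by simp) hbc.symm true false s (φ t)
        have h2 := cm c a (by simp) (by simp) hac.symm true false s t
        simpa using (Commute.mul_right h1 h2))
      (fun s t => by
        have h1 := cm c b (by simp) (by simp) hbc.symm true true s (φ t)
        have h2 := cm c a (by simp) (by simp) hac.symm true true s t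
        simpa using (Commute.mul_right h1 h2))
    have e1 : (fun t : K => R.wordU (clsWord C.D φ [a, b, c] false t)) =
        (fun t : K => R.xU (C.D.simple c) ((φ.comp φ) t) *
          (R.xU (C.D.simple b) (φ t) * R.xU (C.D.simple a) t)) := by
      funext t
      rw [wordU_clsWord_three, sgnRoot_false, sgnRoot_false, sgnRoot_false]
      have h1 : Commute (R.xU (C.D.simple a) t) (R.xU (C.D.simple b) (φ t)) := by
        simpa using cm a b (by simp) (by simp) hab false false t (φ t)
      have h2 : Commute (R.xU (C.D.simple a) t) (R.xU (C.D.simple c) (φ (φ t))) := by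
        simpa using cm a c (by simp) (by simp) hac false false t (φ (φ t))
      have h3 : Commute (R.xU (C.D.simple b) (φ t)) (R.xU (C.D.simple c) (φ (φ t))) := by
        simpa using cm b c (by simp) (by simp) hbc false false (φ t) (φ (φ t))
      show R.xU (C.D.simple a) t * R.xU (C.D.simple b) (φ t) * R.xU (C.D.simple c) (φ (φ t)) =
        R.xU (C.D.simple c) (φ (φ t)) * (R.xU (C.D.simple b) (φ t) * R.xU (C.D.simple a) t)
      rw [h1.eq, ((Commute.mul_left h3 h2).eq)]
    have e2 : (fun t : K => R.wordU (clsWord C.D φ [a, b, c] true t)) =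
        (fun t : K => R.xU (C.D.neg (C.D.simple c)) ((φ.comp φ) t) *
          (R.xU (C.D.neg (C.D.simple b)) (φ t) * R.xU (C.D.neg (C.D.simple a)) t)) := by
      funext t
      rw [wordU_clsWord_three, sgnRoot_true, sgnRoot_true, sgnRoot_true]
      have h1 : Commute (R.xU (C.D.neg (C.D.simple a)) t) (R.xU (C.D.neg (C.D.simple b)) (φ t)) := by
        simpa using cm a b (by simp) (by simp) hab true true t (φ t)
      have h2 : Commute (R.xU (C.D.neg (C.D.simple a)) t) (R.xU (C.D.neg (C.D.simple c)) (φ (φ t))) := by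
        simpa using cm a c (by simp) (by simp) hac true true t (φ (φ t))
      have h3 : Commute (R.xU (C.D.neg (C.D.simple b)) (φ t)) (R.xU (C.D.neg (C.D.simple c)) (φ (φ t))) := by
        simpa using cm b c (by simp) (by simp) hbc true true (φ t) (φ (φ t))
      show R.xU (C.D.neg (C.D.simple a)) t * R.xU (C.D.neg (C.D.simple b)) (φ t) *
          R.xU (C.D.neg (C.D.simple c)) (φ (φ t)) =
        R.xU (C.D.neg (C.D.simple c)) (φ (φ t)) *
          (R.xU (C.D.neg (C.D.simple b)) (φ t) * R.xU (C.D.neg (C.D.simple a)) t)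
      rw [h1.eq, ((Commute.mul_left h3 h2).eq)]
    rw [e1, e2]
    exact hR

end

section
variable {K : Type*} [Field K] {C : CDatum} {R : RelData C}

/-- If `x_J(u) x_{-J}(v) x_J(u)` conjugates a nontrivial element of `X_J` into `V` then `1 + uv = 0`. -/
theorem rank_one_key_tw (H : TwHyp4 C R) (φ : K →+* K)
    (hcs : ∀ j < C.D.rank, C.D.cartan j (C.D.neg (C.D.simple j)) = -2) (J : List ℕ) (hJ : J ∈ H.cls)
    (u v t : K) (ht : t ≠ 0)
    (hm : (R.wordU (clsWord C.D φ J false u) * R.wordU (clsWord C.D φ J true v) *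
        R.wordU (clsWord C.D φ J false u)) * R.wordU (clsWord C.D φ J false t) *
      (R.wordU (clsWord C.D φ J false u) * R.wordU (clsWord C.D φ J true v) *
        R.wordU (clsWord C.D φ J false u))⁻¹ ∈ C.D.negUnipotent K) : 1 + u * v = 0 := by
  by_contra h
  have hR := rel_class H.toTwHyp2 φ hcs J hJ
  have key := congrArg (phi hR) (sl2_key u v t h)
  simp only [map_mul, map_inv, phi_xE, phi_yE] at key
  rw [key] at hm
  have hv' := xJ_mem_neg H.toTwHyp2 φ J hJ (v / (1 + u * v))
  have h3 : R.wordU (clsWord C.D φ J false ((1 + u * v) * (1 + u * v) * t)) ∈ C.D.negUnipotent K := by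
    have h4 := Subgroup.mul_mem _ (Subgroup.mul_mem _ (Subgroup.inv_mem _ hv') hm) hv'
    have e : (R.wordU (clsWord C.D φ J true (v / (1 + u * v))))⁻¹ *
        (R.wordU (clsWord C.D φ J true (v / (1 + u * v))) *
          R.wordU (clsWord C.D φ J false ((1 + u * v) * (1 + u * v) * t)) *
          (R.wordU (clsWord C.D φ J true (v / (1 + u * v))))⁻¹) *
        R.wordU (clsWord C.D φ J true (v / (1 + u * v))) =
        R.wordU (clsWord C.D φ J false ((1 + u * v) * (1 + u * v) * t)) := by group
    rwa [e] at h4
  have h5 : R.wordU (clsWord C.D φ J false ((1 + u * v) * (1 + u * v) * t)) ∈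
      C.D.posUnipotent K ⊓ C.D.negUnipotent K := ⟨xJ_mem_pos H.toTwHyp2 φ J hJ _, h3⟩
  rw [pos_inf_neg (atH H.toTwHyp2), Subgroup.mem_bot, ← xJ_zero H φ J hJ false] at h5
  have h6 := xJ_inj H φ J hJ _ _ h5
  exact (mul_ne_zero (mul_ne_zero h h) ht) h6

end

end Cfsg.Agent.Lib.Helper3.TwAut
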