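import Mathlib
import Cfsg.Prelude.Def_ChevStructure
import Cfsg.Agent.Lib.Helper3.TwAut6
set_option autoImplicit false
set_option linter.unusedSectionVars false
set_option linter.style.haveILetI false
open Cfsg Cfsg.Lie

/-!
Automorphisms of twisted groups, part 7: the action of an automorphism preserving `U¹` and `V¹` on the
generators.
-/

namespace Cfsg.Agent.Lib.Helper3.TwAut

open Cfsg.Agent.Lib.Helper3.ChevM Cfsg.Agent.Lib.Helper3.ChevSp Cfsg.Agent.Lib.Helper3 ChevU ChevT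
open Cfsg.Agent.Lib.Helper3.ChevAt Cfsg.Agent.Lib.Helper3.ChevAut Cfsg.Agent.Lib.Helper1
open Cfsg.Agent.Lib.Helper3.SL2P

/-- An additive map of a finite field compatible with the multiplication by squares is multiplicative. -/
theorem mul_of_sq {K : Type*} [Field K] [Finite K] (f : K → K) (hadd : ∀ a b, f (a + b) = f a + f b)
    (hsq : ∀ t u, t ≠ 0 → f (t * t * u) = f t * f t * f u) (h1 : f 1 = 1) :
    ∀ s u, f (s * u) = f s * f u := by
  have h0 : f 0 = 0 := by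
    have := hadd 0 0
    rw [add_zero] at this
    exact left_eq_add.mp this
  have hneg : ∀ x, f (-x) = -f x := by
    intro x
    have := hadd x (-x)
    rw [add_neg_cancel, h0] at this
    exact eq_neg_of_add_eq_zero_right this.symm
  have hsq' : ∀ t u, f (t * t * u) = f t * f t * f u := by
    intro t u
    by_cases ht : t = 0
    · rw [ht, h0]; simp [h0]
    · exact hsq t u ht
  have hsq1 : ∀ t, f (t * t) = f t * f t := by
    intro t
    have := hsq' t 1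
    rwa [mul_one, h1, mul_one] at this
  intro s u
  by_cases h2 : (2 : K) = 0
  · haveI : CharP K 2 := CharTwo.of_one_ne_zero_of_two_eq_zero one_ne_zero h2
    obtain ⟨r, rfl⟩ := isSquare_of_charTwo' s
    rw [hsq', hsq1]
  · set p : K := (s + 1) / 2 with hp
    set m : K := (s - 1) / 2 with hm
    have e : s = p * p - m * m := by
      rw [hp, hm]; field_simp; ring
    have e1 : s * u = p * p * u + -(m * m * u) := by rw [e]; ring
    have e2 : f s = f p * f p - f m * f m := by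
      have e3 : s = p * p + -(m * m) := by rw [e]; ring
      rw [e3, hadd, hneg, hsq1, hsq1]; ring
    rw [e1, hadd, hneg, hsq', hsq', e2]
    ring

section
variable {K : Type*} [Field K] {C : CDatum} {R : RelData C}

/-- The element `n_J(t) = x_J(t) x_{-J}(-t⁻¹) x_J(t)`. -/
def nEJ (R : RelData C) (φ : K →+* K) (J : List ℕ) (t : K) : GL C.D.Idx K :=
  R.wordU (clsWord C.D φ J false t) * R.wordU (clsWord C.D φ J true (-t⁻¹)) * R.wordU (clsWord C.D φ J false t)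

/-- The element `h_J(t) = n_J(t) n_J(1)⁻¹`. -/
def hEJ (R : RelData C) (φ : K →+* K) (J : List ℕ) (t : K) : GL C.D.Idx K :=
  nEJ R φ J t * (nEJ R φ J 1)⁻¹

theorem nEJ_eq_nT (H : TwHyp2 C R) (φ : K →+* K) (J : List ℕ) (hJ : J ∈ H.cls) (t : K) :
    nEJ R φ J t = R.nT φ J t := (H.U.K.nT_eq H.G φ J (H.shape J hJ) t).symm

theorem hEJ_eq_hT (H : TwHyp2 C R) (φ : K →+* K)
    (hcs : ∀ j < C.D.rank, C.D.cartan j (C.D.neg (C.D.simple j)) = -2) (J : List ℕ) (hJ : J ∈ H.cls) (t : K) :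
    hEJ R φ J t = R.hT φ J t := by
  have hR := rel_class H φ hcs J hJ
  have h1 : (nEJ R φ J (1 : K))⁻¹ = nEJ R φ J (-1) := hR.n_inv 1
  rw [H.U.K.hT_eq H.G φ J (H.shape J hJ) t, ← nEJ_eq_nT H φ J hJ, ← nEJ_eq_nT H φ J hJ, ← h1]
  rfl

theorem hEJ_one (φ : K →+* K) (J : List ℕ) : hEJ R φ J (1 : K) = 1 := by
  unfold hEJ
  exact mul_inv_cancel _

/-- The action of `h_J(t)` on the root subgroup of the class. -/
theorem hEJ_conj (H : TwHyp2 C R) (φ : K →+* K)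
    (hcs : ∀ j < C.D.rank, C.D.cartan j (C.D.neg (C.D.simple j)) = -2) (J : List ℕ) (hJ : J ∈ H.cls)
    (t : K) (ht : t ≠ 0) (u : K) :
    hEJ R φ J t * R.wordU (clsWord C.D φ J false u) * (hEJ R φ J t)⁻¹ =
      R.wordU (clsWord C.D φ J false (t * t * u)) :=
  (rel_class H φ hcs J hJ).h_conj t ht u

theorem nEJ_mem (H : TwHyp C R) (φ : K →+* K) (J : List ℕ) (hJ : J ∈ H.cls) (t : K)
    (ht : φ^[J.length] t = t) : nEJ R φ J t ∈ H.grp φ :=
  Subgroup.mul_mem _ (Subgroup.mul_mem _ (xJ_mem_grp H φ J hJ false t ht)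
    (xJ_mem_grp H φ J hJ true _ (iterate_neg_inv φ _ t ht))) (xJ_mem_grp H φ J hJ false t ht)

theorem hEJ_mem (H : TwHyp C R) (φ : K →+* K) (J : List ℕ) (hJ : J ∈ H.cls) (t : K)
    (ht : φ^[J.length] t = t) : hEJ R φ J t ∈ H.grp φ :=
  Subgroup.mul_mem _ (nEJ_mem H φ J hJ t ht)
    (Subgroup.inv_mem _ (nEJ_mem H φ J hJ 1 (Function.iterate_fixed (map_one φ) _)))

end

section
variable {K : Type*} [Field K] [Fintype K] {C : CDatum} {R : RelData C}

/-- The action of an automorphism on the generators. -/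
structure TwRootAct (H : TwHyp2 C R) (φ : K →+* K) (θ : MulAut ↥(H.grp φ)) where
  f : List ℕ → K → K
  g : List ℕ → K → K
  f_fix : ∀ J ∈ H.cls, ∀ c, φ^[J.length] c = c → φ^[J.length] (f J c) = f J c
  g_fix : ∀ J ∈ H.cls, ∀ c, φ^[J.length] c = c → φ^[J.length] (g J c) = g J c
  pos : ∀ J ∈ H.cls, ∀ c, φ^[J.length] c = c →
    ex θ (R.wordU (clsWord C.D φ J false c)) = R.wordU (clsWord C.D φ J false (f J c))
  neg : ∀ J ∈ H.cls, ∀ c, φ^[J.length] c = c →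
    ex θ (R.wordU (clsWord C.D φ J true c)) = R.wordU (clsWord C.D φ J true (g J c))

/-- The action on the generators of an automorphism preserving `U¹` and `V¹`. -/
theorem exists_twRootAct (W : TwAutHyp C R) (φ : K →+* K) {q : ℕ} (F : FrobHyp φ q W.d)
    (θ : MulAut ↥(W.grp φ))
    (hU : Pres θ (C.D.posUnipotent K ⊓ W.grp φ)) (hV : Pres θ (C.D.negUnipotent K ⊓ W.grp φ)) :
    Nonempty (TwRootAct W.toTwHyp2 φ θ) := by
  classical
  have h1 := fun J (hJ : J ∈ W.cls) c (hc : φ^[J.length] c = c) =>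
    pres_pos_class_same W φ F θ hU hV J hJ c hc
  have h2 := fun J (hJ : J ∈ W.cls) c (hc : φ^[J.length] c = c) =>
    pres_neg_class_same W φ F θ hU hV J hJ c hc
  choose! f hf1 hf2 using h1
  choose! g hg1 hg2 using h2
  exact ⟨⟨f, g, hf1, hg1, hf2, hg2⟩⟩

variable (W : TwAutHyp C R) {φ : K →+* K} {θ : MulAut ↥(W.grp φ)} (T : TwRootAct W.toTwHyp2 φ θ)

theorem TwRootAct.f_add (J : List ℕ) (hJ : J ∈ W.cls) (a b : K) (ha : φ^[J.length] a = a)
    (hb : φ^[J.length] b = b) : T.f J (a + b) = T.f J a + T.f J b := by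
  have h1 := T.pos J hJ (a + b) (iterate_add' φ _ a b ha hb)
  rw [← xJ_add W.toTwHyp4 φ J hJ false a b,
    ex_mul θ (xJ_mem_grp W.toTwHyp φ J hJ false a ha) (xJ_mem_grp W.toTwHyp φ J hJ false b hb),
    T.pos J hJ a ha, T.pos J hJ b hb, xJ_add W.toTwHyp4 φ J hJ false] at h1
  exact (xJ_inj W.toTwHyp4 φ J hJ _ _ h1).symm

theorem TwRootAct.f_zero (J : List ℕ) (hJ : J ∈ W.cls) : T.f J 0 = 0 := by
  have h0 : φ^[J.length] (0 : K) = 0 := Function.iterate_fixed (map_zero φ) _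
  have := T.f_add W J hJ 0 0 h0 h0
  rw [add_zero] at this
  exact left_eq_add.mp this

theorem TwRootAct.f_neg (J : List ℕ) (hJ : J ∈ W.cls) (a : K) (ha : φ^[J.length] a = a) :
    T.f J (-a) = -T.f J a := by
  have := T.f_add W J hJ a (-a) ha (iterate_neg' φ _ a ha)
  rw [add_neg_cancel, T.f_zero W J hJ] at this
  exact eq_neg_of_add_eq_zero_right this.symm

theorem TwRootAct.f_inj (J : List ℕ) (hJ : J ∈ W.cls) (a b : K) (ha : φ^[J.length] a = a)
    (hb : φ^[J.length] b = b) (e : T.f J a = T.f J b) : a = b := by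
  have h1 : ex θ (R.wordU (clsWord C.D φ J false a)) = ex θ (R.wordU (clsWord C.D φ J false b)) := by
    rw [T.pos J hJ a ha, T.pos J hJ b hb, e]
  exact xJ_inj W.toTwHyp4 φ J hJ _ _
    (ex_injOn θ (xJ_mem_grp W.toTwHyp φ J hJ false a ha) (xJ_mem_grp W.toTwHyp φ J hJ false b hb) h1)

theorem TwRootAct.f_ne_zero (J : List ℕ) (hJ : J ∈ W.cls) (a : K) (ha : φ^[J.length] a = a) (ha0 : a ≠ 0) :
    T.f J a ≠ 0 := by
  intro e
  rw [← T.f_zero W J hJ] at e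
  exact ha0 (T.f_inj W J hJ a 0 ha (Function.iterate_fixed (map_zero φ) _) e)

theorem TwRootAct.g_zero (J : List ℕ) (hJ : J ∈ W.cls) : T.g J 0 = 0 := by
  have h0 : φ^[J.length] (0 : K) = 0 := Function.iterate_fixed (map_zero φ) _
  have h1 := T.neg J hJ 0 h0
  rw [xJ_zero W.toTwHyp4 φ J hJ true, ex_one] at h1
  have h2 : R.wordU (clsWord C.D φ J true (0 : K)) = R.wordU (clsWord C.D φ J true (T.g J 0)) := by
    rw [xJ_zero W.toTwHyp4 φ J hJ true]; exact h1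
  exact (xJ_neg_inj W.toTwHyp4 φ W.hopp J hJ _ _ h0 (T.g_fix J hJ 0 h0) h2).symm

variable (hcs : ∀ j < C.D.rank, C.D.cartan j (C.D.neg (C.D.simple j)) = -2)
include hcs

/-- The action on the negative generators is determined by that on the positive generators. -/
theorem TwRootAct.g_eq (J : List ℕ) (hJ : J ∈ W.cls) (a : K) (ha : φ^[J.length] a = a) (ha0 : a ≠ 0) :
    T.g J (-a⁻¹) = -(T.f J a)⁻¹ := by
  have hR := rel_class W.toTwHyp2 φ hcs J hJ
  have hc1 : (R.wordU (clsWord C.D φ J false a) * R.wordU (clsWord C.D φ J true (-a⁻¹)) *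
      R.wordU (clsWord C.D φ J false a)) * R.wordU (clsWord C.D φ J false 1) *
      (R.wordU (clsWord C.D φ J false a) * R.wordU (clsWord C.D φ J true (-a⁻¹)) *
      R.wordU (clsWord C.D φ J false a))⁻¹ = R.wordU (clsWord C.D φ J true (-(a⁻¹ * a⁻¹ * 1))) :=
    hR.conj a ha0 1
  have h1fix : φ^[J.length] (1 : K) = 1 := Function.iterate_fixed (map_one φ) _
  have hb : φ^[J.length] (-a⁻¹) = -a⁻¹ := iterate_neg_inv φ _ a ha
  have hd : φ^[J.length] (-(a⁻¹ * a⁻¹ * 1)) = -(a⁻¹ * a⁻¹ * 1) :=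
    iterate_neg' φ _ _ (iterate_mul' φ _ _ _ (iterate_mul' φ _ _ _ (iterate_inv' φ _ a ha)
      (iterate_inv' φ _ a ha)) h1fix)
  have hG1 := xJ_mem_grp W.toTwHyp φ J hJ false a ha
  have hG2 := xJ_mem_grp W.toTwHyp φ J hJ true (-a⁻¹) hb
  have hG3 := xJ_mem_grp W.toTwHyp φ J hJ false 1 h1fix
  have hGn := Subgroup.mul_mem _ (Subgroup.mul_mem _ hG1 hG2) hG1
  have h2 := congrArg (ex θ) hc1
  rw [ex_conj_mul θ hGn hG3, ex_mul θ (Subgroup.mul_mem _ hG1 hG2) hG1, ex_mul θ hG1 hG2, T.pos J hJ a ha,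
    T.neg J hJ _ hb, T.pos J hJ 1 h1fix, T.neg J hJ _ hd] at h2
  have hmem : R.wordU (clsWord C.D φ J true (T.g J (-(a⁻¹ * a⁻¹ * 1)))) ∈ C.D.negUnipotent K :=
    xJ_mem_neg W.toTwHyp2 φ J hJ _
  rw [← h2] at hmem
  have h4 := rank_one_key_tw W.toTwHyp4 φ hcs J hJ _ _ _ (T.f_ne_zero W J hJ 1 h1fix one_ne_zero) hmem
  have hfa := T.f_ne_zero W J hJ a ha ha0
  rw [eq_neg_iff_add_eq_zero, ← mul_right_inj' hfa, mul_add, mul_inv_cancel₀ hfa, mul_zero]
  linear_combination h4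

/-- The image of `n_J(a)`. -/
theorem TwRootAct.ex_nEJ (J : List ℕ) (hJ : J ∈ W.cls) (a : K) (ha : φ^[J.length] a = a) (ha0 : a ≠ 0) :
    ex θ (nEJ R φ J a) = nEJ R φ J (T.f J a) := by
  have hb : φ^[J.length] (-a⁻¹) = -a⁻¹ := iterate_neg_inv φ _ a ha
  have hG1 := xJ_mem_grp W.toTwHyp φ J hJ false a ha
  have hG2 := xJ_mem_grp W.toTwHyp φ J hJ true (-a⁻¹) hb
  unfold nEJ
  rw [ex_mul θ (Subgroup.mul_mem _ hG1 hG2) hG1, ex_mul θ hG1 hG2, T.pos J hJ a ha, T.neg J hJ _ hb,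
    T.g_eq W hcs J hJ a ha ha0]

/-- The image of `h_J(a)` under a normalized automorphism. -/
theorem TwRootAct.ex_hEJ (J : List ℕ) (hJ : J ∈ W.cls) (hf1 : T.f J 1 = 1) (a : K)
    (ha : φ^[J.length] a = a) (ha0 : a ≠ 0) : ex θ (hEJ R φ J a) = hEJ R φ J (T.f J a) := by
  have h1fix : φ^[J.length] (1 : K) = 1 := Function.iterate_fixed (map_one φ) _
  unfold hEJ
  rw [ex_mul θ (nEJ_mem W.toTwHyp φ J hJ a ha) (Subgroup.inv_mem _ (nEJ_mem W.toTwHyp φ J hJ 1 h1fix)),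
    ex_inv θ (nEJ_mem W.toTwHyp φ J hJ 1 h1fix), T.ex_nEJ W hcs J hJ a ha ha0,
    T.ex_nEJ W hcs J hJ 1 h1fix one_ne_zero, hf1]

/-- The compatibility of a normalized automorphism with the squares. -/
theorem TwRootAct.f_sq (J : List ℕ) (hJ : J ∈ W.cls) (hf1 : T.f J 1 = 1) (t u : K)
    (ht : φ^[J.length] t = t) (hu : φ^[J.length] u = u) (ht0 : t ≠ 0) :
    T.f J (t * t * u) = T.f J t * T.f J t * T.f J u := by
  have h1 := hEJ_conj W.toTwHyp2 φ hcs J hJ t ht0 u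
  have h2 := congrArg (ex θ) h1
  rw [ex_conj_mul θ (hEJ_mem W.toTwHyp φ J hJ t ht) (xJ_mem_grp W.toTwHyp φ J hJ false u hu),
    T.ex_hEJ W hcs J hJ hf1 t ht ht0, T.pos J hJ u hu,
    T.pos J hJ _ (iterate_mul' φ _ _ _ (iterate_mul' φ _ _ _ ht ht) hu),
    hEJ_conj W.toTwHyp2 φ hcs J hJ _ (T.f_ne_zero W J hJ t ht ht0)] at h2
  exact (xJ_inj W.toTwHyp4 φ J hJ _ _ h2).symm

/-- The compatibility of a normalized automorphism with the action of the diagonal elements of a class on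
another class. -/
theorem TwRootAct.f_chi (J₁ J₂ : List ℕ) (hJ₁ : J₁ ∈ W.cls) (hJ₂ : J₂ ∈ W.cls) (hf1 : T.f J₁ 1 = 1)
    (χ : K → K)
    (hχfix : ∀ t, φ^[J₁.length] t = t → t ≠ 0 → φ^[J₂.length] (χ t) = χ t)
    (hχ : ∀ t, φ^[J₁.length] t = t → t ≠ 0 → ∀ u, φ^[J₂.length] u = u →
      hEJ R φ J₁ t * R.wordU (clsWord C.D φ J₂ false u) * (hEJ R φ J₁ t)⁻¹ =
        R.wordU (clsWord C.D φ J₂ false (χ t * u)))
    (t u : K) (ht : φ^[J₁.length] t = t) (ht0 : t ≠ 0) (hu : φ^[J₂.length] u = u) :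
    T.f J₂ (χ t * u) = χ (T.f J₁ t) * T.f J₂ u := by
  have h1 := hχ t ht ht0 u hu
  have h2 := congrArg (ex θ) h1
  rw [ex_conj_mul θ (hEJ_mem W.toTwHyp φ J₁ hJ₁ t ht) (xJ_mem_grp W.toTwHyp φ J₂ hJ₂ false u hu),
    T.ex_hEJ W hcs J₁ hJ₁ hf1 t ht ht0, T.pos J₂ hJ₂ u hu,
    T.pos J₂ hJ₂ _ (iterate_mul' φ _ _ _ (hχfix t ht ht0) hu),
    hχ _ (T.f_fix J₁ hJ₁ t ht) (T.f_ne_zero W J₁ hJ₁ t ht ht0) _ (T.f_fix J₂ hJ₂ u hu)] at h2
  exact (xJ_inj W.toTwHyp4 φ J₂ hJ₂ _ _ h2).symm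

end

end Cfsg.Agent.Lib.Helper3.TwAut
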