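import Mathlib
import Cfsg.Prelude.Def_ChevStructure
import Cfsg.Agent.Lib.Helper3.TwAut7
set_option autoImplicit false
set_option linter.unusedSectionVars false
set_option linter.style.haveILetI false
open Cfsg Cfsg.Lie

/-!
Automorphisms of twisted groups, part 8: when the fixed points of the twisting automorphism on the kernel of the
torus are trivial, the diagonal subgroup of the twisted group acts on the root subgroups of the classes by arbitrary
scalars.
-/

namespace Cfsg.Agent.Lib.Helper3.TwAut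

open Cfsg.Agent.Lib.Helper3.ChevM Cfsg.Agent.Lib.Helper3.ChevSp Cfsg.Agent.Lib.Helper3 ChevU ChevT ChevH
open Cfsg.Agent.Lib.Helper3.ChevAt Cfsg.Agent.Lib.Helper3.ChevAut Cfsg.Agent.Lib.Helper1

section
variable {K : Type*} [Field K] {C : CDatum} {R : RelData C}

/-- The map of the coordinates of the torus induced by the Cartan matrix. -/
def cartanMap (C : CDatum) (K : Type*) [Field K] : (Fin C.D.rank → Kˣ) →* (Fin C.D.rank → Kˣ) where
  toFun z := fun j => ∏ i, z i ^ cartanMat C.D i j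
  map_one' := by funext j; simp
  map_mul' z z' := by funext j; simp [mul_zpow, Finset.prod_mul_distrib]

/-- Conjugation of the root elements of the fundamental roots by an element of the torus. -/
theorem tor_conj_simple (R : RelData C) (z : Fin C.D.rank → Kˣ) (j : ℕ) (hj : j < C.D.rank) (t : K) :
    R.tor z * R.xU (C.D.simple j) t * (R.tor z)⁻¹ =
      R.xU (C.D.simple j) ((cartanMap C K z ⟨j, hj⟩ : K) * t) :=
  tor_conj_xU R z (C.D.simple j) (R.simple_lt j hj) t

end

section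
variable {K : Type*} [Field K] [Fintype K] {C : CDatum} {R : RelData C}

/-- The map induced by the Cartan matrix preserves the coordinates fixed by the action. -/
theorem cartanMap_mem_torFix (W : TwHyp7 C R) (φ : K →+* K) (z : Fin C.D.rank → Kˣ) (hz : z ∈ W.torFix φ) :
    cartanMap C K z ∈ W.torFix φ := by
  rw [W.mem_torFix]
  intro i hi
  have hzfix : W.G.sigT φ z = z := hz
  have hpi := (W.G.p_spec i hi).1
  have h1 := tor_conj_simple R z i hi 1
  have h2 := congrArg (W.G.sig φ) h1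
  rw [map_mul, map_mul, map_inv] at h2
  have e1 : W.G.sig φ (R.tor z) = R.tor z := by
    have := W.toTwHyp.sig_tor φ z
    rw [hzfix] at this
    exact this
  have e2 : ∀ t : K, W.G.sig φ (R.xU (C.D.simple i) t) = R.xU (C.D.simple (W.G.p i)) (φ t) := by
    intro t
    have := W.G.sig_xU_sgn (R := R) φ W.tab W.rf false i hi (W.toTwHyp.eps_simple i hi) t
    simpa [sgnRoot] using this
  rw [e1, e2, e2, tor_conj_simple R z (W.G.p i) hpi (φ 1)] at h2
  have h3 := W.U.xU_inj_pos' _ (simple_pos (atH W.toTwHyp2) _ hpi) _ _ h2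
  rw [map_one, mul_one, mul_one] at h3
  apply Units.ext
  rw [h3]
  rfl

/-- If the fixed points on the kernel of the torus are trivial, the map induced by the Cartan matrix is onto the
coordinates fixed by the action. -/
theorem cartanMap_surj_torFix (W : TwHyp7 C R) (φ : K →+* K) (hker : W.kerFix φ = ⊥)
    (w : Fin C.D.rank → Kˣ) (hw : w ∈ W.torFix φ) : ∃ z ∈ W.torFix φ, cartanMap C K z = w := by
  let Ξ : W.torFix φ → W.torFix φ := fun z => ⟨cartanMap C K z.1, cartanMap_mem_torFix W φ z.1 z.2⟩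
  have hinj : Function.Injective Ξ := by
    intro z z' e
    have e' : cartanMap C K z.1 = cartanMap C K z'.1 := congrArg Subtype.val e
    have h1 : z.1 * z'.1⁻¹ ∈ W.kerFix φ := by
      rw [W.mem_kerFix]
      have hmem : z.1 * z'.1⁻¹ ∈ W.torFix φ := Subgroup.mul_mem _ z.2 (Subgroup.inv_mem _ z'.2)
      have hmem' : W.G.sigT φ (z.1 * z'.1⁻¹) = z.1 * z'.1⁻¹ := hmem
      refine ⟨fun j => congrFun hmem' j, fun j => ?_⟩
      have h2 : cartanMap C K (z.1 * z'.1⁻¹) = 1 := by rw [map_mul, map_inv, e', mul_inv_cancel]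
      exact congrFun h2 j
    rw [hker, Subgroup.mem_bot] at h1
    exact Subtype.ext (mul_inv_eq_one.mp h1)
  have hsurj := Finite.surjective_of_injective hinj
  obtain ⟨z, hz⟩ := hsurj ⟨w, hw⟩
  exact ⟨z.1, z.2, congrArg Subtype.val hz⟩

/-- The coordinates of the torus with given coordinates at the heads of the classes. -/
def torTarget (W : TwHyp7 C R) (φ : K →+* K) (c : List ℕ → Kˣ) : Fin C.D.rank → Kˣ :=
  fun i => (Units.map φ.toMonoidHom)^[W.posOf i.val] (c (W.cls.getD (W.clsOf i.val) []))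

theorem torTarget_mem (W : TwHyp7 C R) (φ : K →+* K) (c : List ℕ → Kˣ)
    (hc : ∀ J ∈ W.cls, (Units.map φ.toMonoidHom)^[J.length] (c J) = c J) : torTarget W φ c ∈ W.torFix φ := by
  rw [W.mem_torFix]
  intro i hi
  obtain ⟨h1, h2, h3⟩ := W.idx_spec1 i hi
  obtain ⟨h0, hall⟩ := W.idx_spec2 (W.clsOf i) h1
  obtain ⟨g1, g2, g3, g4⟩ := hall (W.posOf i) h2
  rw [h3] at g4
  have hlt : (W.posOf i + 1) % (W.cls.getD (W.clsOf i) []).length < (W.cls.getD (W.clsOf i) []).length :=
    Nat.mod_lt _ h0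
  obtain ⟨f1, f2, f3, -⟩ := hall ((W.posOf i + 1) % (W.cls.getD (W.clsOf i) []).length) hlt
  rw [← g4] at f2 f3
  show (Units.map φ.toMonoidHom)^[W.posOf (W.G.p i)] (c (W.cls.getD (W.clsOf (W.G.p i)) [])) =
    Units.map φ.toMonoidHom ((Units.map φ.toMonoidHom)^[W.posOf i] (c (W.cls.getD (W.clsOf i) [])))
  rw [f2, f3, ← Function.iterate_succ_apply' (Units.map φ.toMonoidHom)]
  by_cases hlast : W.posOf i + 1 < (W.cls.getD (W.clsOf i) []).length
  · rw [Nat.mod_eq_of_lt hlast]
  · have hthis : W.posOf i + 1 = (W.cls.getD (W.clsOf i) []).length := by omega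
    have hsucc : (W.posOf i).succ = (W.cls.getD (W.clsOf i) []).length := hthis
    rw [hthis, Nat.mod_self, Function.iterate_zero, id, hsucc]
    have hmem : W.cls.getD (W.clsOf i) [] ∈ W.cls := by
      rw [List.getD_eq_getElem _ _ h1]; exact List.getElem_mem h1
    exact (hc _ hmem).symm

/-- The value of the target coordinates at the head of a class. -/
theorem torTarget_head (W : TwHyp7 C R) (φ : K →+* K) (c : List ℕ → Kˣ) (a₀ : ℕ) (L₀ : List ℕ)
    (hJ : a₀ :: L₀ ∈ W.cls) (ha₀ : a₀ < C.D.rank) : torTarget W φ c ⟨a₀, ha₀⟩ = c (a₀ :: L₀) := by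
  obtain ⟨k, hk, e⟩ := List.mem_iff_getElem.mp hJ
  have e' : W.cls.getD k [] = a₀ :: L₀ := by rw [List.getD_eq_getElem _ _ hk]; exact e
  obtain ⟨h0, hall⟩ := W.idx_spec2 k hk
  obtain ⟨-, g2, g3, -⟩ := hall 0 h0
  rw [e'] at g2 g3
  have e0 : (a₀ :: L₀).getD 0 0 = a₀ := rfl
  rw [e0] at g2 g3
  show (Units.map φ.toMonoidHom)^[W.posOf a₀] (c (W.cls.getD (W.clsOf a₀) [])) = _
  rw [g2, g3, e']
  rfl

/-- When the fixed points of the twisting automorphism on the kernel of the torus are trivial, there is an element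
of `H¹` acting on the root subgroups of the classes by given scalars. -/
theorem exists_torus (W : TwAutHyp C R) (φ : K →+* K) (hker : W.kerFix φ = ⊥) (c : List ℕ → K)
    (hc0 : ∀ J ∈ W.cls, c J ≠ 0) (hcfix : ∀ J ∈ W.cls, φ^[J.length] (c J) = c J) :
    ∃ h ∈ C.D.diagonalSubgroup K ⊓ W.grp φ, ∀ J ∈ W.cls, ∀ u, φ^[J.length] u = u →
      h * R.wordU (clsWord C.D φ J false u) * h⁻¹ = R.wordU (clsWord C.D φ J false (c J * u)) := by
  classical
  let cU : List ℕ → Kˣ := fun J => if h : c J ≠ 0 then Units.mk0 (c J) h else 1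
  have hcU : ∀ J ∈ W.cls, ((cU J : Kˣ) : K) = c J := by
    intro J hJ
    simp [cU, hc0 J hJ]
  have hcUfix : ∀ J ∈ W.cls, (Units.map φ.toMonoidHom)^[J.length] (cU J) = cU J := by
    intro J hJ
    apply Units.ext
    rw [units_map_iterate, hcU J hJ, hcfix J hJ]
  have hw := torTarget_mem W.toTwHyp7 φ cU hcUfix
  obtain ⟨z, hz, hzw⟩ := cartanMap_surj_torFix W.toTwHyp7 φ hker _ hw
  have hzfix : W.G.sigT φ z = z := hz
  have hhΓ : R.tor z ∈ W.grp φ := W.toTwHyp6.tor_mem_grp φ z hzfix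
  refine ⟨R.tor z, ⟨R.tor_mem z, hhΓ⟩, ?_⟩
  intro J hJ u hu
  have hJlt := W.toTwHyp2.cls_lt J hJ
  obtain ⟨a, ha⟩ := W.toTwHyp2.cls_ne_nil J hJ
  obtain ⟨a₀, L₀, hJe⟩ : ∃ a₀ L₀, J = a₀ :: L₀ := by
    cases J with
    | nil => simp at ha
    | cons x l => exact ⟨x, l, rfl⟩
  subst hJe
  have ha₀ : a₀ < C.D.rank := hJlt a₀ List.mem_cons_self
  have hnd := (twTorCheck_spec W.tor _ hJ false).1
  have hconj : R.tor z * R.wordU (clsWord C.D φ (a₀ :: L₀) false u) * (R.tor z)⁻¹ =
      R.lp ((a₀ :: L₀).map C.D.simple)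
        (fun s => (if hs : s < C.D.nroots then (rootChar C.D K z ⟨s, hs⟩ : K) else 0) *
          clsCoord C.D φ (a₀ :: L₀) false u s) := by
    rw [clsWord_eq_lp (R := R) φ _ false u hnd]
    apply conj_lp_map
    intro j hj
    rw [sgnRoot_false]
    have hs := R.simple_lt j (hJlt j hj)
    rw [tor_conj_xU R z _ hs, dif_pos hs]
  have hmem : R.lp ((a₀ :: L₀).map C.D.simple)
      (fun s => (if hs : s < C.D.nroots then (rootChar C.D K z ⟨s, hs⟩ : K) else 0) *
        clsCoord C.D φ (a₀ :: L₀) false u s) ∈ W.grp φ := by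
    rw [← hconj]
    exact Subgroup.mul_mem _ (Subgroup.mul_mem _ hhΓ (xJ_mem_grp W.toTwHyp φ _ hJ false u hu))
      (Subgroup.inv_mem _ hhΓ)
  have hfix := (mem_fixG _ _).mp (W.toTwHyp.grp_le_fix φ hmem)
  obtain ⟨a', L, hJe', -, hlp⟩ := fix_class W.toTwHyp2 φ _ hJ _ hfix
  have haa : a' = a₀ := by
    injection hJe' with h1 _
    exact h1.symm
  subst haa
  have hs₀ := R.simple_lt a' ha₀
  have hval : (if hs : C.D.simple a' < C.D.nroots then (rootChar C.D K z ⟨C.D.simple a', hs⟩ : K) else 0) *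
      clsCoord C.D φ (a' :: L₀) false u (C.D.simple a') = c (a' :: L₀) * u := by
    rw [dif_pos hs₀]
    have e1 : clsCoord C.D φ (a' :: L₀) false u (C.D.simple a') = u := by
      simp [clsCoord, sgnRoot]
    have e2 : (rootChar C.D K z ⟨C.D.simple a', hs₀⟩ : Kˣ) = cartanMap C K z ⟨a', ha₀⟩ := rfl
    rw [e1, e2, hzw, torTarget_head W.toTwHyp7 φ cU a' L₀ hJ ha₀, hcU _ hJ]
  rw [hval] at hlp
  rw [hconj, hlp]

end

end Cfsg.Agent.Lib.Helper3.TwAut
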