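import Mathlib
import Cfsg.Prelude.Def_ChevStructure
import Cfsg.Prelude.Def_KGroupFacts
import Cfsg.Agent.Lib.Helper3.TwAut8
set_option autoImplicit false
set_option linter.unusedSectionVars false
set_option linter.style.haveILetI false
open Cfsg Cfsg.Lie

/-!
Automorphisms of twisted groups, part 9: the field automorphisms of a twisted group, the action of the diagonal
subgroup on the root subgroups of the classes, automorphisms agreeing on the generators.
-/

namespace Cfsg.Agent.Lib.Helper3.TwAut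

open Cfsg.Agent.Lib.Helper3.ChevM Cfsg.Agent.Lib.Helper3.ChevSp Cfsg.Agent.Lib.Helper3 ChevU ChevT ChevH
open Cfsg.Agent.Lib.Helper3.ChevAt Cfsg.Agent.Lib.Helper3.ChevAut Cfsg.Agent.Lib.Helper1

section
variable {K : Type*} [Field K] {C : CDatum} {R : RelData C}

theorem glMap_xU (ψ : K ≃+* K) (r : ℕ) (t : K) :
    glMapEquiv (n := C.D.Idx) ψ (R.xU r t) = R.xU r (ψ t) := by
  apply Units.ext
  rw [glMapEquiv_coe, R.xU_val, R.xU_val]
  exact Cfsg.Agent.Lib.Helper3.x_map C.D ψ r t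

theorem glMap_wordU (ψ : K ≃+* K) (w : List (ℕ × K)) :
    glMapEquiv (n := C.D.Idx) ψ (R.wordU w) = R.wordU (w.map fun p => (p.1, ψ p.2)) := by
  induction w with
  | nil => rw [List.map_nil, R.wordU_nil, map_one]
  | cons p w ih => rw [List.map_cons, R.wordU_cons, R.wordU_cons, map_mul, ih, glMap_xU]

theorem comm_iterate (φ : K →+* K) (ψ : K ≃+* K) (hc : ∀ t, ψ (φ t) = φ (ψ t)) (k : ℕ) (t : K) :
    ψ (φ^[k] t) = φ^[k] (ψ t) := by
  induction k generalizing t with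
  | zero => rfl
  | succ k ih => rw [Function.iterate_succ_apply, Function.iterate_succ_apply, ih, hc]

theorem clsWord_map (φ : K →+* K) (ψ : K ≃+* K) (hc : ∀ t, ψ (φ t) = φ (ψ t)) (J : List ℕ) (neg : Bool)
    (t : K) : (clsWord C.D φ J neg t).map (fun p => (p.1, ψ p.2)) = clsWord C.D φ J neg (ψ t) := by
  unfold clsWord
  rw [List.map_map]
  apply List.map_congr_left
  intro p _
  show (sgnRoot C.D neg p.1, ψ (φ^[p.2] t)) = (sgnRoot C.D neg p.1, φ^[p.2] (ψ t))
  rw [comm_iterate φ ψ hc]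

theorem glMap_xJ (φ : K →+* K) (ψ : K ≃+* K) (hc : ∀ t, ψ (φ t) = φ (ψ t)) (J : List ℕ) (neg : Bool)
    (t : K) : glMapEquiv (n := C.D.Idx) ψ (R.wordU (clsWord C.D φ J neg t)) =
      R.wordU (clsWord C.D φ J neg (ψ t)) := by
  rw [glMap_wordU, clsWord_map φ ψ hc]

theorem symm_comm (φ : K →+* K) (ψ : K ≃+* K) (hc : ∀ t, ψ (φ t) = φ (ψ t)) (t : K) :
    ψ.symm (φ t) = φ (ψ.symm t) := by
  apply ψ.injective
  rw [ψ.apply_symm_apply, hc, ψ.apply_symm_apply]

theorem twGroup_map_le (R : RelData C) (φ : K →+* K) (cls : List (List ℕ)) (ψ : K ≃+* K)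
    (hc : ∀ t, ψ (φ t) = φ (ψ t)) :
    (R.twGroup φ cls).map (glMapEquiv (n := C.D.Idx) ψ).toMonoidHom ≤ R.twGroup φ cls := by
  rw [Subgroup.map_le_iff_le_comap]
  unfold RelData.twGroup
  rw [Subgroup.closure_le]
  rintro g ⟨J, hJ, neg, t, ht, rfl⟩
  rw [SetLike.mem_coe, Subgroup.mem_comap]
  apply Subgroup.subset_closure
  refine ⟨J, hJ, neg, ψ t, ?_, ?_⟩
  · rw [← comm_iterate φ ψ hc, ht]
  · exact glMap_xJ φ ψ hc J neg t

theorem twGroup_map_eq (R : RelData C) (φ : K →+* K) (cls : List (List ℕ)) (ψ : K ≃+* K)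
    (hc : ∀ t, ψ (φ t) = φ (ψ t)) :
    (R.twGroup φ cls).map (glMapEquiv (n := C.D.Idx) ψ).toMonoidHom = R.twGroup φ cls := by
  apply le_antisymm (twGroup_map_le R φ cls ψ hc)
  intro g hg
  refine ⟨glMapEquiv ψ.symm g, ?_, ?_⟩
  · apply twGroup_map_le R φ cls ψ.symm (symm_comm φ ψ hc)
    exact ⟨g, hg, rfl⟩
  · apply Units.ext
    show ((glMapEquiv ψ (glMapEquiv ψ.symm g) : GL C.D.Idx K) : Matrix C.D.Idx C.D.Idx K) = _
    rw [glMapEquiv_coe, glMapEquiv_coe]
    ext i j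
    simp

/-- The field automorphism of a twisted group. -/
noncomputable def fAutTw (R : RelData C) (φ : K →+* K) (cls : List (List ℕ)) (ψ : K ≃+* K)
    (hc : ∀ t, ψ (φ t) = φ (ψ t)) : MulAut ↥(R.twGroup φ cls) :=
  ((glMapEquiv (n := C.D.Idx) ψ).subgroupMap (R.twGroup φ cls)).trans
    (MulEquiv.subgroupCongr (twGroup_map_eq R φ cls ψ hc))

theorem fAutTw_coe (R : RelData C) (φ : K →+* K) (cls : List (List ℕ)) (ψ : K ≃+* K)
    (hc : ∀ t, ψ (φ t) = φ (ψ t)) (g : ↥(R.twGroup φ cls)) :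
    ((fAutTw R φ cls ψ hc g : ↥(R.twGroup φ cls)) : GL C.D.Idx K) = glMapEquiv ψ (g : GL C.D.Idx K) := rfl

/-- The field automorphisms as a homomorphism. -/
noncomputable def fAutTwHom (R : RelData C) (φ : K →+* K) (cls : List (List ℕ))
    (hcomm : ∀ (ψ : K ≃+* K) (t : K), ψ (φ t) = φ (ψ t)) : (K ≃+* K) →* MulAut ↥(R.twGroup φ cls) where
  toFun ψ := fAutTw R φ cls ψ (hcomm ψ)
  map_one' := by
    apply MulEquiv.ext
    intro x
    apply Subtype.ext
    rw [fAutTw_coe]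
    apply Units.ext
    rw [glMapEquiv_coe]
    ext i j
    simp [Matrix.map_apply]
  map_mul' f g := by
    apply MulEquiv.ext
    intro x
    apply Subtype.ext
    rw [MulAut.mul_apply, fAutTw_coe, fAutTw_coe, fAutTw_coe]
    apply Units.ext
    rw [glMapEquiv_coe, glMapEquiv_coe, glMapEquiv_coe]
    ext i j
    simp [Matrix.map_apply]

theorem ex_fAutTw_xJ (R : RelData C) (φ : K →+* K) (cls : List (List ℕ)) (ψ : K ≃+* K)
    (hc : ∀ t, ψ (φ t) = φ (ψ t)) (J : List ℕ) (hJ : J ∈ cls) (neg : Bool) (t : K)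
    (ht : φ^[J.length] t = t) :
    ex (fAutTw R φ cls ψ hc) (R.wordU (clsWord C.D φ J neg t)) = R.wordU (clsWord C.D φ J neg (ψ t)) := by
  have hm : R.wordU (clsWord C.D φ J neg t) ∈ R.twGroup φ cls :=
    Subgroup.subset_closure ⟨J, hJ, neg, t, ht, rfl⟩
  rw [ex_of_mem _ hm, fAutTw_coe]
  exact glMap_xJ φ ψ hc J neg t

/-- Automorphisms agreeing on the generators are equal. -/
theorem aut_eq_of_gens (R : RelData C) (φ : K →+* K) (cls : List (List ℕ)) (θ θ' : MulAut ↥(R.twGroup φ cls))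
    (h : ∀ J ∈ cls, ∀ (neg : Bool) (t : K), φ^[J.length] t = t →
      ex θ (R.wordU (clsWord C.D φ J neg t)) = ex θ' (R.wordU (clsWord C.D φ J neg t))) : θ = θ' := by
  apply MulEquiv.ext
  intro g
  have key : ∀ x (hx : x ∈ Subgroup.closure (R.twGens φ cls)),
      x ∈ R.twGroup φ cls ∧ ex θ x = ex θ' x := by
    intro x hx
    induction hx using Subgroup.closure_induction with
    | mem x hx =>
      obtain ⟨J, hJ, neg, t, ht, rfl⟩ := hx
      exact ⟨Subgroup.subset_closure ⟨J, hJ, neg, t, ht, rfl⟩, h J hJ neg t ht⟩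
    | one => exact ⟨Subgroup.one_mem _, by rw [ex_one, ex_one]⟩
    | mul x y hx hy ihx ihy =>
      exact ⟨Subgroup.mul_mem _ ihx.1 ihy.1,
        by rw [ex_mul θ ihx.1 ihy.1, ex_mul θ' ihx.1 ihy.1, ihx.2, ihy.2]⟩
    | inv x hx ihx =>
      exact ⟨Subgroup.inv_mem _ ihx.1, by rw [ex_inv θ ihx.1, ex_inv θ' ihx.1, ihx.2]⟩
  have := (key g.1 g.2).2
  rw [ex_coe, ex_coe] at this
  exact Subtype.ext this

theorem glMap_mem_pos (A : AtHyp C R) (ψ : K ≃+* K) (g : GL C.D.Idx K) (hg : g ∈ C.D.posUnipotent K) :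
    glMapEquiv (n := C.D.Idx) ψ g ∈ C.D.posUnipotent K := by
  unfold ChevalleyDatum.posUnipotent at hg
  induction hg using Subgroup.closure_induction with
  | mem x hx =>
    obtain ⟨r, t, hr, hx⟩ := hx
    have : x = R.xU r t := Units.ext (by rw [hx, R.xU_val])
    rw [this, glMap_xU]
    exact xU_mem_pos A r hr _
  | one => rw [map_one]; exact Subgroup.one_mem _
  | mul x y _ _ ihx ihy => rw [map_mul]; exact Subgroup.mul_mem _ ihx ihy
  | inv x _ ihx => rw [map_inv]; exact Subgroup.inv_mem _ ihx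

theorem glMap_mem_neg (A : AtHyp C R) (ψ : K ≃+* K) (g : GL C.D.Idx K) (hg : g ∈ C.D.negUnipotent K) :
    glMapEquiv (n := C.D.Idx) ψ g ∈ C.D.negUnipotent K := by
  unfold ChevalleyDatum.negUnipotent at hg
  induction hg using Subgroup.closure_induction with
  | mem x hx =>
    obtain ⟨r, t, hr, hx⟩ := hx
    have : x = R.xU r t := Units.ext (by rw [hx, R.xU_val])
    rw [this, glMap_xU]
    exact xU_mem_neg A r hr _
  | one => rw [map_one]; exact Subgroup.one_mem _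
  | mul x y _ _ ihx ihy => rw [map_mul]; exact Subgroup.mul_mem _ ihx ihy
  | inv x _ ihx => rw [map_inv]; exact Subgroup.inv_mem _ ihx

end

end Cfsg.Agent.Lib.Helper3.TwAut
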