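import Mathlib
import Cfsg.Prelude.Def_ChevStructure
import Cfsg.Prelude.Def_KGroupFacts
import Cfsg.Agent.Lib.Helper3.TwAut9
set_option autoImplicit false
set_option linter.unusedSectionVars false
set_option linter.style.haveILetI false
open Cfsg Cfsg.Lie

/-!
Automorphisms of twisted groups, part 10: normalisation of an automorphism by an element of the diagonal subgroup,
inner field automorphisms are trivial, the order of the outer automorphism group when every normalised automorphism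
is a field automorphism.
-/

namespace Cfsg.Agent.Lib.Helper3.TwAut

open Cfsg.Agent.Lib.Helper3.ChevM Cfsg.Agent.Lib.Helper3.ChevSp Cfsg.Agent.Lib.Helper3 ChevU ChevT ChevH
open Cfsg.Agent.Lib.Helper3.ChevAt Cfsg.Agent.Lib.Helper3.ChevAut Cfsg.Agent.Lib.Helper1

section
variable {G₀ : Type*} [Group G₀]

/-- A subgroup of the order of the `p`-part is a Sylow subgroup. -/
theorem exists_sylow_of_card (Γ X : Subgroup G₀) [Finite Γ] (hX : X ≤ Γ) (p : ℕ) [Fact p.Prime] (n m : ℕ)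
    (hXc : Nat.card X = p ^ n) (hΓ : Nat.card Γ = p ^ n * m) (hm : ¬ p ∣ m) :
    ∃ S : Sylow p ↥Γ, (S : Subgroup ↥Γ) = X.subgroupOf Γ := by
  have hp : p.Prime := Fact.out
  set U' := X.subgroupOf Γ with hU'
  have hcardU' : Nat.card U' = p ^ n := by
    rw [hU', Nat.card_congr (Subgroup.subgroupOfEquivOfLe hX).toEquiv, hXc]
  have hpg : IsPGroup p U' := IsPGroup.of_card hcardU'
  obtain ⟨S, hS⟩ := hpg.exists_le_sylow
  refine ⟨S, ?_⟩
  symm
  apply Subgroup.eq_of_le_of_card_ge hS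
  have hm0 : m ≠ 0 := fun h0 => hm (h0 ▸ dvd_zero p)
  have hval : (Nat.card Γ).factorization p = n := by
    rw [hΓ, Nat.factorization_mul (pow_ne_zero _ hp.ne_zero) hm0, Finsupp.add_apply,
      Nat.factorization_eq_zero_of_not_dvd hm, add_zero, hp.factorization_pow, Finsupp.single_eq_same]
  rw [hcardU', Sylow.card_eq_multiplicity, hval]

end

section
variable {K : Type*} [Field K] [Fintype K] {C : CDatum} {R : RelData C}

/-- An element of the diagonal subgroup in the twisted group acts on the root subgroups of the classes by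
scalars. -/
theorem diag_conj_xJ (W : TwHyp4 C R) (φ : K →+* K) (h : GL C.D.Idx K)
    (hh : h ∈ C.D.diagonalSubgroup K ⊓ W.grp φ) (J : List ℕ) (hJ : J ∈ W.cls) :
    ∃ d : K, d ≠ 0 ∧ ∀ u, φ^[J.length] u = u →
      h * R.wordU (clsWord C.D φ J false u) * h⁻¹ = R.wordU (clsWord C.D φ J false (d * u)) := by
  obtain ⟨dd, hdd⟩ := W.U.diagonal_conj_xU (F := K) W.B h hh.1
  have hJlt := W.toTwHyp2.cls_lt J hJ
  obtain ⟨a, ha⟩ := W.toTwHyp2.cls_ne_nil J hJ
  obtain ⟨a₀, L₀, hJe⟩ : ∃ a₀ L₀, J = a₀ :: L₀ := by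
    cases J with
    | nil => simp at ha
    | cons x l => exact ⟨x, l, rfl⟩
  subst hJe
  have ha₀ : a₀ < C.D.rank := hJlt a₀ List.mem_cons_self
  have hs₀ := R.simple_lt a₀ ha₀
  refine ⟨dd (C.D.simple a₀), (hdd _ hs₀).1, ?_⟩
  intro u hu
  have hnd := (twTorCheck_spec W.tor _ hJ false).1
  have hconj : h * R.wordU (clsWord C.D φ (a₀ :: L₀) false u) * h⁻¹ =
      R.lp ((a₀ :: L₀).map C.D.simple)
        (fun s => dd s * clsCoord C.D φ (a₀ :: L₀) false u s) := by
    rw [clsWord_eq_lp (R := R) φ _ false u hnd]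
    apply conj_lp_map
    intro j hj
    rw [sgnRoot_false]
    have hs := R.simple_lt j (hJlt j hj)
    exact (hdd _ hs).2 _
  have hhΓ := hh.2
  have hmem : R.lp ((a₀ :: L₀).map C.D.simple)
      (fun s => dd s * clsCoord C.D φ (a₀ :: L₀) false u s) ∈ W.grp φ := by
    rw [← hconj]
    exact Subgroup.mul_mem _ (Subgroup.mul_mem _ hhΓ (xJ_mem_grp W.toTwHyp φ _ hJ false u hu))
      (Subgroup.inv_mem _ hhΓ)
  have hfix := (mem_fixG _ _).mp (W.toTwHyp.grp_le_fix φ hmem)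
  obtain ⟨a', L, hJe', -, hlp⟩ := fix_class W.toTwHyp2 φ _ hJ _ hfix
  have haa : a' = a₀ := by
    injection hJe' with h1 _
    exact h1.symm
  subst haa
  have hval : dd (C.D.simple a') * clsCoord C.D φ (a' :: L₀) false u (C.D.simple a') =
      dd (C.D.simple a') * u := by
    have e1 : clsCoord C.D φ (a' :: L₀) false u (C.D.simple a') = u := by
      simp [clsCoord, sgnRoot]
    rw [e1]
  rw [hval] at hlp
  rw [hconj, hlp]

/-- An element of the twisted group mapping `V¹` into `V` lies in `V H`. -/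
theorem mem_negBorel_of_conj_neg_tw (H : TwHyp3 C R) (φ : K →+* K) (g : GL C.D.Idx K) (hg : g ∈ H.grp φ)
    (hN : ∀ v ∈ C.D.negUnipotent K ⊓ H.grp φ, g * v * g⁻¹ ∈ C.D.negUnipotent K) :
    g ∈ negBorel C.D K := by
  obtain ⟨⟨hn₀N, hn₀G⟩, hmap⟩ := H.w0_spec φ
  set n₀ : GL C.D.Idx K := R.nCls K H.w0 with hn₀
  have hg' : n₀⁻¹ * g * n₀ ∈ C.D.borelSubgroup K := by
    apply mem_borel_of_conj_pos_tw H.toTwHyp2 φ
    · exact Subgroup.mul_mem _ (Subgroup.mul_mem _ (Subgroup.inv_mem _ hn₀G) hg) hn₀G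
    · rintro u ⟨hu, huG⟩
      have h1 : n₀ * u * n₀⁻¹ ∈ C.D.negUnipotent K := by
        rw [← hmap]; exact ⟨u, hu, rfl⟩
      have h1G : n₀ * u * n₀⁻¹ ∈ H.grp φ :=
        Subgroup.mul_mem _ (Subgroup.mul_mem _ hn₀G huG) (Subgroup.inv_mem _ hn₀G)
      have h2 := hN _ ⟨h1, h1G⟩
      rw [← hmap] at h2
      obtain ⟨u', hu', e⟩ := h2
      change n₀ * u' * n₀⁻¹ = _ at e
      have e2 : n₀⁻¹ * g * n₀ * u * (n₀⁻¹ * g * n₀)⁻¹ = n₀⁻¹ * (g * (n₀ * u * n₀⁻¹) * g⁻¹) * n₀ := by group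
      rw [e2, ← e]
      have e3 : n₀⁻¹ * (n₀ * u' * n₀⁻¹) * n₀ = u' := by group
      rw [e3]; exact hu'
  have e : g = MulAut.conj n₀ (n₀⁻¹ * g * n₀) := by
    rw [MulAut.conj_apply]; group
  rw [e]
  have hle : (C.D.borelSubgroup K).map (MulAut.conj n₀).toMonoidHom ≤ negBorel C.D K := by
    unfold ChevalleyDatum.borelSubgroup negBorel
    rw [Subgroup.map_sup, hmap]
    apply sup_le_sup_left
    rintro _ ⟨x, hx, rfl⟩
    show MulAut.conj n₀ x ∈ _
    rw [MulAut.conj_apply]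
    exact H.B.mono.conj_mem n₀ hn₀N x hx
  exact hle ⟨_, hg', rfl⟩

end

end Cfsg.Agent.Lib.Helper3.TwAut
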