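import Mathlib
import Cfsg.Prelude.Def_ChevStructure
import Cfsg.Prelude.Def_KGroupFacts
import Cfsg.Agent.Lib.Helper3.TwAut10
set_option autoImplicit false
set_option linter.unusedSectionVars false
set_option linter.style.haveILetI false
open Cfsg Cfsg.Lie

/-!
Automorphisms of twisted groups, part 11: normalisation of an automorphism by an element of the diagonal subgroup,
inner field automorphisms are trivial, the order of the outer automorphism group when every normalised automorphism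
is a field automorphism.
-/

namespace Cfsg.Agent.Lib.Helper3.TwAut

open Cfsg.Agent.Lib.Helper3.ChevM Cfsg.Agent.Lib.Helper3.ChevSp Cfsg.Agent.Lib.Helper3 ChevU ChevT ChevH
open Cfsg.Agent.Lib.Helper3.ChevAt Cfsg.Agent.Lib.Helper3.ChevAut Cfsg.Agent.Lib.Helper1

section
variable {K : Type*} [Field K] [Fintype K] {C : CDatum} {R : RelData C}

/-- Up to an element of the diagonal subgroup, an automorphism preserving `U¹` and `V¹` maps `x_J(1)` to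
`x_J(1)` for all classes `J`. -/
theorem exists_normalized (W : TwAutHyp C R) (φ : K →+* K) {q : ℕ} (F : FrobHyp φ q W.d)
    (hker : W.kerFix φ = ⊥) (θ : MulAut ↥(W.grp φ))
    (hU : Pres θ (C.D.posUnipotent K ⊓ W.grp φ)) (hV : Pres θ (C.D.negUnipotent K ⊓ W.grp φ)) :
    ∃ a : ↥(W.grp φ), ∃ T : TwRootAct W.toTwHyp2 φ (MulAut.conj a * θ), ∀ J ∈ W.cls, T.f J 1 = 1 := by
  classical
  obtain ⟨T⟩ := exists_twRootAct W φ F θ hU hV
  have h1fix : ∀ n, φ^[n] (1 : K) = 1 := fun n => Function.iterate_fixed (map_one φ) n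
  have hc0 : ∀ J ∈ W.cls, T.f J 1 ≠ 0 := fun J hJ => T.f_ne_zero W J hJ 1 (h1fix _) one_ne_zero
  have hcfix : ∀ J ∈ W.cls, φ^[J.length] (T.f J 1) = T.f J 1 := fun J hJ => T.f_fix J hJ 1 (h1fix _)
  obtain ⟨h, hh, hconj⟩ := exists_torus W φ hker (fun J => T.f J 1) hc0 hcfix
  have hinv : ∀ J ∈ W.cls, ∀ v, φ^[J.length] v = v →
      h⁻¹ * R.wordU (clsWord C.D φ J false v) * h⁻¹⁻¹ =
        R.wordU (clsWord C.D φ J false ((T.f J 1)⁻¹ * v)) := by
    intro J hJ v hv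
    have hfx : φ^[J.length] ((T.f J 1)⁻¹ * v) = (T.f J 1)⁻¹ * v :=
      iterate_mul' φ _ _ _ (iterate_inv' φ _ _ (hcfix J hJ)) hv
    have e := hconj J hJ _ hfx
    rw [mul_inv_cancel_left₀ (hc0 J hJ)] at e
    rw [← e]; group
  let a : ↥(W.grp φ) := ⟨h, hh.2⟩
  have hnU : h⁻¹ ∈ Subgroup.normalizer (C.D.posUnipotent K : Set (GL C.D.Idx K)) :=
    Subgroup.inv_mem _ ((R.diagonal_normalizes (F := K) W.B.dec W.B.mono.tri).1 hh.1)
  have hnV : h⁻¹ ∈ Subgroup.normalizer (C.D.negUnipotent K : Set (GL C.D.Idx K)) :=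
    Subgroup.inv_mem _ (diagonal_le_normalizer_neg (atH W.toTwHyp2) hh.1)
  have hΓ : ∀ g ∈ W.grp φ, h⁻¹ * g * h⁻¹⁻¹ ∈ W.grp φ := fun g hg =>
    Subgroup.mul_mem _ (Subgroup.mul_mem _ (Subgroup.inv_mem _ hh.2) hg)
      (Subgroup.inv_mem _ (Subgroup.inv_mem _ hh.2))
  have hU₁ : Pres (MulAut.conj a⁻¹ * θ) (C.D.posUnipotent K ⊓ W.grp φ) := by
    intro g hg
    have h1 := hU g hg
    rw [ex_mul_aut _ _ hg.2, ex_conj _ h1.2]
    exact ⟨(Subgroup.mem_normalizer_iff.mp hnU _).mp h1.1, hΓ _ h1.2⟩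
  have hV₁ : Pres (MulAut.conj a⁻¹ * θ) (C.D.negUnipotent K ⊓ W.grp φ) := by
    intro g hg
    have h1 := hV g hg
    rw [ex_mul_aut _ _ hg.2, ex_conj _ h1.2]
    exact ⟨(Subgroup.mem_normalizer_iff.mp hnV _).mp h1.1, hΓ _ h1.2⟩
  obtain ⟨T₁⟩ := exists_twRootAct W φ F (MulAut.conj a⁻¹ * θ) hU₁ hV₁
  refine ⟨a⁻¹, T₁, ?_⟩
  intro J hJ
  have hm := xJ_mem_grp W.toTwHyp φ J hJ false 1 (h1fix _)
  have hm2 := xJ_mem_grp W.toTwHyp φ J hJ false (T.f J 1) (hcfix J hJ)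
  have e1 := T₁.pos J hJ 1 (h1fix _)
  rw [ex_mul_aut _ _ hm, T.pos J hJ 1 (h1fix _), ex_conj _ hm2] at e1
  have e2 : ((a⁻¹ : ↥(W.grp φ)) : GL C.D.Idx K) = h⁻¹ := rfl
  rw [e2, hinv J hJ _ (hcfix J hJ), inv_mul_cancel₀ (hc0 J hJ)] at e1
  exact (xJ_inj W.toTwHyp4 φ J hJ _ _ e1).symm

/-- An automorphism acting on the generators as a field automorphism is the field automorphism. -/
theorem eq_fAutTw_of_f (W : TwAutHyp C R) {φ : K →+* K} {θ : MulAut ↥(W.grp φ)}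
    (T : TwRootAct W.toTwHyp2 φ θ)
    (hcs : ∀ j < C.D.rank, C.D.cartan j (C.D.neg (C.D.simple j)) = -2)
    (ψ : K ≃+* K) (hc : ∀ t, ψ (φ t) = φ (ψ t))
    (hf : ∀ J ∈ W.cls, ∀ u, φ^[J.length] u = u → T.f J u = ψ u) :
    θ = fAutTw R φ W.cls ψ hc := by
  apply aut_eq_of_gens R φ W.cls
  intro J hJ neg t ht
  rw [ex_fAutTw_xJ R φ W.cls ψ hc J hJ neg t ht]
  cases neg with
  | false => rw [T.pos J hJ t ht, hf J hJ t ht]
  | true =>
    have hg : T.g J t = ψ t := by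
      by_cases ht0 : t = 0
      · rw [ht0, T.g_zero W J hJ, map_zero]
      · have ha : φ^[J.length] (-t⁻¹) = -t⁻¹ := iterate_neg' φ _ _ (iterate_inv' φ _ _ ht)
        have ha0 : -t⁻¹ ≠ 0 := neg_ne_zero.mpr (inv_ne_zero ht0)
        have e := T.g_eq W hcs J hJ (-t⁻¹) ha ha0
        rw [hf J hJ _ ha] at e
        have e2 : -(-t⁻¹)⁻¹ = t := by rw [inv_neg, inv_inv, neg_neg]
        rw [e2] at e
        rw [e, map_neg, map_inv₀, inv_neg, inv_inv, neg_neg]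
    rw [T.neg J hJ t ht, hg]

theorem pres_conj_of_eq (W : TwAutHyp C R) (φ : K →+* K) (ψ : K ≃+* K) (hc : ∀ t, ψ (φ t) = φ (ψ t))
    (a : ↥(W.grp φ)) (h : fAutTw R φ W.cls ψ hc = MulAut.conj a) (g : GL C.D.Idx K) (hg : g ∈ W.grp φ) :
    (a : GL C.D.Idx K) * g * (a : GL C.D.Idx K)⁻¹ = glMapEquiv ψ g := by
  rw [← ex_conj a hg, ← h, ex_of_mem _ hg, fAutTw_coe]

/-- An inner field automorphism is trivial. -/
theorem fAutTw_inner (W : TwAutHyp C R) (φ : K →+* K) {q : ℕ} (F : FrobHyp φ q W.d)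
    (hJd : ∃ J ∈ W.cls, J.length = W.d) (ψ : K ≃+* K) (hc : ∀ t, ψ (φ t) = φ (ψ t))
    (a : ↥(W.grp φ)) (h : fAutTw R φ W.cls ψ hc = MulAut.conj a) : ψ = 1 := by
  have hex := pres_conj_of_eq W φ ψ hc a h
  have h1 : (a : GL C.D.Idx K) ∈ C.D.borelSubgroup K := by
    apply mem_borel_of_conj_pos_tw W.toTwHyp2 φ _ a.2
    intro u hu
    rw [hex u hu.2]
    exact glMap_mem_pos (atH W.toTwHyp2) ψ u hu.1
  have h2 : (a : GL C.D.Idx K) ∈ negBorel C.D K := by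
    apply mem_negBorel_of_conj_neg_tw W.toTwHyp3 φ _ a.2
    intro v hv
    rw [hex v hv.2]
    exact glMap_mem_neg (atH W.toTwHyp2) ψ v hv.1
  have h3 : (a : GL C.D.Idx K) ∈ C.D.diagonalSubgroup K := by
    rw [← borel_inf_negBorel (atH W.toTwHyp2)]
    exact ⟨h1, h2⟩
  obtain ⟨J, hJ, hJd⟩ := hJd
  obtain ⟨d, hd0, hd⟩ := diag_conj_xJ W.toTwHyp4 φ _ ⟨h3, a.2⟩ J hJ
  have hall : ∀ u : K, φ^[J.length] u = u := fun u => by rw [hJd]; exact F.iter u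
  have key : ∀ t : K, ψ t = d * t := by
    intro t
    have e1 := hd t (hall t)
    rw [hex _ (xJ_mem_grp W.toTwHyp φ J hJ false t (hall t)), glMap_xJ φ ψ hc] at e1
    exact xJ_inj W.toTwHyp4 φ J hJ _ _ e1
  have hd1 : d = 1 := by
    have := key 1
    rw [map_one, mul_one] at this
    exact this.symm
  apply RingEquiv.ext
  intro t
  rw [key t, hd1, one_mul]
  rfl

/-- The outer automorphism group is the group of field automorphisms, when every automorphism preserving `U¹` and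
`V¹` and mapping `x_J(1)` to `x_J(1)` for all classes `J` acts on the generators as a field automorphism. -/
theorem card_out_tw (W : TwAutHyp C R) (φ : K →+* K) {q : ℕ} (F : FrobHyp φ q W.d)
    (hker : W.kerFix φ = ⊥)
    (hcs : ∀ j < C.D.rank, C.D.cartan j (C.D.neg (C.D.simple j)) = -2)
    (hJd : ∃ J ∈ W.cls, J.length = W.d)
    (hcomm : ∀ (ψ : K ≃+* K) (t : K), ψ (φ t) = φ (ψ t))
    (p : ℕ) [Fact p.Prime]
    (hS : ∃ S : Sylow p ↥(W.grp φ),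
      (S : Subgroup ↥(W.grp φ)) = (C.D.posUnipotent K ⊓ W.grp φ).subgroupOf (W.grp φ))
    (hfield : ∀ (θ : MulAut ↥(W.grp φ)) (T : TwRootAct W.toTwHyp2 φ θ), (∀ J ∈ W.cls, T.f J 1 = 1) →
      ∃ ψ : K ≃+* K, ∀ J ∈ W.cls, ∀ u, φ^[J.length] u = u → T.f J u = ψ u) :
    Nat.card (Cfsg.Out ↥(W.grp φ)) = Nat.card (K ≃+* K) := by
  symm
  let Ψ : (K ≃+* K) →* Cfsg.Out ↥(W.grp φ) :=
    (QuotientGroup.mk' (Cfsg.Inn ↥(W.grp φ))).comp (fAutTwHom R φ W.cls hcomm)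
  apply Nat.card_congr
  apply Equiv.ofBijective Ψ
  constructor
  · rw [injective_iff_map_eq_one]
    intro σ hσ
    have h1 : fAutTw R φ W.cls σ (hcomm σ) ∈ Cfsg.Inn ↥(W.grp φ) := (QuotientGroup.eq_one_iff _).mp hσ
    obtain ⟨y, hy⟩ := h1
    exact fAutTw_inner W φ F hJd σ (hcomm σ) y hy.symm
  · intro x
    obtain ⟨α, rfl⟩ := QuotientGroup.mk_surjective x
    obtain ⟨a, hU, hV⟩ := exists_conj_pres_tw W.toTwHyp3 φ p hS α
    obtain ⟨b, T, hT⟩ := exists_normalized W φ F hker _ hU hV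
    obtain ⟨ψ, hψ⟩ := hfield _ T hT
    have e := eq_fAutTw_of_f W T hcs ψ (hcomm ψ) hψ
    refine ⟨ψ, ?_⟩
    show (QuotientGroup.mk (fAutTw R φ W.cls ψ (hcomm ψ)) : Cfsg.Out ↥(W.grp φ)) = _
    rw [← e, QuotientGroup.mk_mul, QuotientGroup.mk_mul]
    have h1 : ∀ g : ↥(W.grp φ), (QuotientGroup.mk (MulAut.conj g) : Cfsg.Out ↥(W.grp φ)) = 1 :=
      fun g => (QuotientGroup.eq_one_iff _).mpr ⟨g, rfl⟩
    rw [h1, h1, one_mul, one_mul]

end

end Cfsg.Agent.Lib.Helper3.TwAut
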