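import Mathlib
import Cfsg.Prelude.Def_ChevStructure
import Cfsg.Prelude.Def_KGroupFacts
import Cfsg.Agent.Lib.Helper3.TwAut11
import Cfsg.Agent.Lib.Helper3.ChevData.D4TwH
import Cfsg.Agent.Lib.Helper3.ChevTwF
set_option autoImplicit false
set_option linter.unusedSectionVars false
set_option linter.style.haveILetI false
set_option maxRecDepth 1000000
open Cfsg Cfsg.Lie

/-!
The outer automorphism group of the twisted groups of type D4 (triality): it is the group of the automorphisms of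
the field with `q ^ 3` elements.
-/

namespace Cfsg.Agent.Lib.Helper3.TwAut

open Cfsg.Agent.Lib.Helper3.ChevM Cfsg.Agent.Lib.Helper3.ChevSp Cfsg.Agent.Lib.Helper3 ChevU ChevT ChevH
open Cfsg.Agent.Lib.Helper3.ChevAt Cfsg.Agent.Lib.Helper3.ChevAut Cfsg.Agent.Lib.Helper1

/-- The data for the automorphisms of the twisted group of type D4. -/
def twD4W : TwAutHyp cdD4 relD4 where
  toTwHyp7 := twD4G
  hopp := by decide +kernel
  hlen := by decide

theorem d4_hcs : ∀ j < cdD4.D.rank, cdD4.D.cartan j (cdD4.D.neg (cdD4.D.simple j)) = -2 := by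
  decide +kernel

theorem d4_cartan_one : cdD4.D.cartan 1 (cdD4.D.simple 0) = -1 ∧ cdD4.D.cartan 1 (cdD4.D.simple 2) = -1 ∧
    cdD4.D.cartan 1 (cdD4.D.simple 3) = -1 := by
  decide +kernel

section
variable {K : Type*} [Field K]

/-- The action of the diagonal elements of the class of the central node on the other class. -/
theorem d4_cross (φ : K →+* K) (t : K) (ht : φ t = t) (ht0 : t ≠ 0) (u : K) :
    hEJ relD4 φ [1] t * relD4.wordU (clsWord cdD4.D φ [0, 2, 3] false u) * (hEJ relD4 φ [1] t)⁻¹ =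
      relD4.wordU (clsWord cdD4.D φ [0, 2, 3] false (t⁻¹ * u)) := by
  have hmem : ([1] : List ℕ) ∈ twD4B.cls := by decide
  rw [hEJ_eq_hT twD4B φ d4_hcs [1] hmem t, relD4.hT_one, wordU_clsWord_three, wordU_clsWord_three,
    sgnRoot_false, sgnRoot_false, sgnRoot_false]
  have h1 : (1 : ℕ) < cdD4.D.rank := by decide
  have h0 := relD4.hU_conj_xU (F := K) 1 (cdD4.D.simple 0) h1 (relD4.simple_lt 0 (by decide)) t ht0
  have h2 := relD4.hU_conj_xU (F := K) 1 (cdD4.D.simple 2) h1 (relD4.simple_lt 2 (by decide)) t ht0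
  have h3 := relD4.hU_conj_xU (F := K) 1 (cdD4.D.simple 3) h1 (relD4.simple_lt 3 (by decide)) t ht0
  rw [d4_cartan_one.1, zpow_neg_one] at h0
  rw [d4_cartan_one.2.1, zpow_neg_one] at h2
  rw [d4_cartan_one.2.2, zpow_neg_one] at h3
  have key : ∀ g x y z : GL cdD4.D.Idx K,
      g * (x * y * z) * g⁻¹ = (g * x * g⁻¹) * (g * y * g⁻¹) * (g * z * g⁻¹) := by
    intros; group
  have hti : φ t⁻¹ = t⁻¹ := by rw [map_inv₀, ht]
  rw [key, h0, h2, h3, map_mul, map_mul, hti, hti]

end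

section
variable {K : Type*} [Field K] [Fintype K]

/-- An automorphism preserving `U¹` and `V¹` and mapping `x_J(1)` to `x_J(1)` for the two classes `J` acts on the
generators as a field automorphism. -/
theorem d4_hfield (φ : K →+* K) {q : ℕ} (F : FrobHyp φ q twD4W.d) (θ : MulAut ↥(twD4W.grp φ))
    (T : TwRootAct twD4W.toTwHyp2 φ θ) (hT : ∀ J ∈ twD4W.cls, T.f J 1 = 1) :
    ∃ ψ : K ≃+* K, ∀ J ∈ twD4W.cls, ∀ u, φ^[J.length] u = u → T.f J u = ψ u := by
  have ha : ([1] : List ℕ) ∈ twD4W.cls := by decide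
  have hb : ([0, 2, 3] : List ℕ) ∈ twD4W.cls := by decide
  have hall : ∀ u : K, φ^[([0, 2, 3] : List ℕ).length] u = u := F.iter
  have hadd : ∀ x y, T.f [0, 2, 3] (x + y) = T.f [0, 2, 3] x + T.f [0, 2, 3] y :=
    fun x y => T.f_add twD4W _ hb x y (hall x) (hall y)
  have h1 : T.f [0, 2, 3] 1 = 1 := hT _ hb
  have hsq : ∀ t u, t ≠ 0 → T.f [0, 2, 3] (t * t * u) = T.f [0, 2, 3] t * T.f [0, 2, 3] t * T.f [0, 2, 3] u :=
    fun t u ht0 => T.f_sq twD4W d4_hcs _ hb h1 t u (hall t) (hall u) ht0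
  have hmul := mul_of_sq (T.f [0, 2, 3]) hadd hsq h1
  have hinj : Function.Injective (T.f [0, 2, 3]) := fun x y e => T.f_inj twD4W _ hb x y (hall x) (hall y) e
  let ψ₀ : K →+* K :=
    { toFun := T.f [0, 2, 3]
      map_one' := h1
      map_mul' := hmul
      map_zero' := T.f_zero twD4W _ hb
      map_add' := hadd }
  have hbij : Function.Bijective ψ₀ := ⟨hinj, Finite.injective_iff_surjective.mp hinj⟩
  refine ⟨RingEquiv.ofBijective ψ₀ hbij, ?_⟩
  intro J hJ u hu
  have hcases : J = [1] ∨ J = [0, 2, 3] := by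
    change J ∈ [[1], [0, 2, 3]] at hJ
    simpa using hJ
  rcases hcases with rfl | rfl
  · show T.f [1] u = T.f [0, 2, 3] u
    by_cases hu0 : u = 0
    · rw [hu0, T.f_zero twD4W _ ha, T.f_zero twD4W _ hb]
    · have hu' : φ u = u := hu
      have e := T.f_chi twD4W d4_hcs [1] [0, 2, 3] ha hb (hT _ ha) (fun t => t⁻¹)
        (fun t _ _ => hall _)
        (fun t ht ht0 v _ => d4_cross φ t ht ht0 v) u 1 hu hu0 (hall 1)
      rw [mul_one, h1, mul_one] at e
      have e2 : T.f [0, 2, 3] u⁻¹ = (T.f [0, 2, 3] u)⁻¹ := map_inv₀ ψ₀ u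
      rw [e2] at e
      exact (inv_injective e).symm
  · rfl

/-- The subgroup `U¹` is a Sylow subgroup of the twisted group of type D4. -/
theorem d4_sylow (p f q : ℕ) [Fact p.Prime] (hf : 1 ≤ f) (hq : q = p ^ f) (φ : K →+* K)
    (hφ1 : Nat.card {x : K // φ x = x} = q) (hφd : ∀ x : K, φ^[3] x = x) (hK : Fintype.card K = q ^ 3) :
    ∃ S : Sylow p ↥(twD4W.grp φ),
      (S : Subgroup ↥(twD4W.grp φ)) = (cdD4.D.posUnipotent K ⊓ twD4W.grp φ).subgroupOf (twD4W.grp φ) := by
  have hp : p.Prime := Fact.out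
  have hcard : Nat.card ↥(twD4W.grp φ) = _ := d4_tw_card φ q hφ1 hφd hK
  have hU : Nat.card ↥(cdD4.D.posUnipotent K ⊓ twD4W.grp φ) = q ^ 12 :=
    twD4A.card_posUnipotent_inf φ q hφ1 hφd (by rw [Nat.card_eq_fintype_card, hK]; rfl)
  apply exists_sylow_of_card (twD4W.grp φ) (cdD4.D.posUnipotent K ⊓ twD4W.grp φ) inf_le_right p (f * 12)
    (((q - 1) * (q ^ 3 - 1)) *
      (([0, 3, 4, 7, 8, 11].map fun e => q ^ e).sum * ([0, 1].map fun e => q ^ e).sum))
  · rw [hU, hq, ← pow_mul]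
  · rw [hcard, hq, ← pow_mul, mul_assoc]
  · have hpq : p ∣ q := by rw [hq]; exact dvd_pow_self p (by omega)
    have hq1 : 1 ≤ q := by rw [hq]; exact Nat.one_le_pow _ _ hp.pos
    have hnd : ∀ k, ¬ p ∣ q * k + 1 := fun k hd =>
      hp.one_lt.ne' (Nat.dvd_one.mp ((Nat.dvd_add_right (Dvd.dvd.mul_right hpq k)).mp hd))
    have hnd' : ∀ n, 1 ≤ n → ¬ p ∣ q ^ n - 1 := by
      intro n hn hd
      have h1 : p ∣ q ^ n := dvd_trans hpq (dvd_pow_self q (by omega))
      have h2 : 1 ≤ q ^ n := Nat.one_le_pow _ _ hq1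
      have : p ∣ q ^ n - (q ^ n - 1) := Nat.dvd_sub h1 hd
      rw [show q ^ n - (q ^ n - 1) = 1 by omega] at this
      exact hp.one_lt.ne' (Nat.dvd_one.mp this)
    intro hd
    rcases (Nat.Prime.dvd_mul hp).mp hd with h | h
    · rcases (Nat.Prime.dvd_mul hp).mp h with h | h
      · exact hnd' 1 le_rfl (by rwa [pow_one])
      · exact hnd' 3 (by norm_num) h
    · rcases (Nat.Prime.dvd_mul hp).mp h with h | h
      · have e : ([0, 3, 4, 7, 8, 11].map fun e => q ^ e).sum =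
            q * (q ^ 2 + q ^ 3 + q ^ 6 + q ^ 7 + q ^ 10) + 1 := by
          simp only [List.map_cons, List.map_nil, List.sum_cons, List.sum_nil]
          ring
        rw [e] at h
        exact hnd _ h
      · have e : ([0, 1].map fun e => q ^ e).sum = q * 1 + 1 := by
          simp only [List.map_cons, List.map_nil, List.sum_cons, List.sum_nil]
          ring
        rw [e] at h
        exact hnd _ h

/-- The order of the outer automorphism group of the twisted groups of type D4. -/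
theorem d4_card_out (p f : ℕ) [Fact p.Prime] [CharP K p] (hK : Fintype.card K = p ^ (3 * f)) (hf : 1 ≤ f) :
    Nat.card (Cfsg.Out ↥(Cfsg.Lie.twistedD4 K (p ^ f))) = 3 * f := by
  have hp : p.Prime := Fact.out
  have hq : IsPrimePow (p ^ f) := ⟨p, f, hp.prime, by omega, rfl⟩
  have hK' : Fintype.card K = (p ^ f) ^ 3 := by rw [hK, ← pow_mul, mul_comm]
  obtain ⟨φ, hφ, hφd, hφ1⟩ := exists_frob K (p ^ f) 3 hq (by norm_num) hK'
  have e : Cfsg.Lie.twistedD4 K (p ^ f) = twD4W.grp φ := twistedD4_eq'' K (p ^ f) φ hφ (fun t => hφd t)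
  rw [e]
  have F : FrobHyp φ (p ^ f) twD4W.d :=
    ⟨hφ1, hφd, by rw [Nat.card_eq_fintype_card, hK']; rfl, Nat.one_lt_pow (by omega) hp.one_lt⟩
  have key := card_out_tw twD4W φ F (d4_kerFix_eq_bot φ) d4_hcs ⟨[0, 2, 3], by decide, rfl⟩
    (fun ψ t => by rw [hφ, hφ, map_pow]) p (d4_sylow p f (p ^ f) hf rfl φ hφ1 hφd hK')
    (d4_hfield φ F)
  exact key.trans (card_ringAut_prime p (by rw [Nat.card_eq_fintype_card, hK]))

end

end Cfsg.Agent.Lib.Helper3.TwAut
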