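import Mathlib
import Cfsg.Agent.Lib.Helper3.D4Inv7
import Cfsg.Agent.Lib.Helper3.TwAutD4
import Cfsg.Agent.Lib.Helper3.QDFusion1
import Cfsg.Agent.Lib.Helper3.ChevData.D4TwGrp
set_option autoImplicit false
set_option linter.unusedSectionVars false
set_option linter.unusedVariables false
set_option linter.unusedSimpArgs false
set_option maxRecDepth 100000
open Cfsg Cfsg.Lie Cfsg.Agent.Lib.Helper3.ChevM

/-!
The twisted group of type `³D₄` in characteristic two has exactly two classes of involutions.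
-/

namespace Cfsg.Agent.Lib.Helper3.D4Inv

open Cfsg.Agent.Lib.Helper3.ChevAt Cfsg.Agent.Lib.Helper3.ChevAut Cfsg.Agent.Lib.Helper3.ChevU

section
variable {K : Type*} [Field K] [CharP K 2] [Fintype K] (φ : K →+* K) (h3 : ∀ x : K, φ (φ (φ x)) = x)

include h3 in
theorem eA_mem (a : K) : eA φ a ∈ twD4A.grp φ := (d4Sys φ h3).A_mem a

include h3 in
theorem eB_mem (u : K) (hu : φ u = u) : eB u ∈ twD4A.grp φ :=
  (d4Sys φ h3).B_mem ⟨u, (mem_fixF φ).mpr hu⟩

include φ in
theorem eB_one_ne_one : eB (1 : K) ≠ 1 := by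
  intro h
  have e1 : nf φ 0 1 0 0 0 0 = nf φ 0 0 0 0 0 0 := by
    rw [← eB_eq_nf, ← eB_eq_nf, h]
    simp [eB, X_zero]
  exact one_ne_zero (nf_inj φ _ _ _ _ _ _ _ _ _ _ _ _ e1).2.1

include h3 in
/-- An involution of `U¹` is conjugate to one of the two root elements. -/
theorem inv_conj (g : GL cdD4.D.Idx K) (hg : g ∈ cdD4.D.posUnipotent K ⊓ twD4A.grp φ)
    (hsq : g * g = 1) (hne : g ≠ 1) :
    (∃ k ∈ twD4A.grp φ, k * g * k⁻¹ = eA φ 1) ∨ (∃ k ∈ twD4A.grp φ, k * g * k⁻¹ = eB (1 : K)) := by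
  obtain ⟨a, u, c, d, v, w, hu, hv, hw, rfl⟩ := exists_nf φ h3 g hg
  exact (d4Sys φ h3).good_of_sq a ⟨u, (mem_fixF φ).mpr hu⟩ c d ⟨v, (mem_fixF φ).mpr hv⟩
    ⟨w, (mem_fixF φ).mpr hw⟩ hsq hne

end

section
variable {K : Type*} [Field K] [Fintype K] [CharP K 2]

theorem q_pow_two (q : ℕ) (hK : Fintype.card K = q ^ 3) : ∃ f : ℕ, 1 ≤ f ∧ q = 2 ^ f := by
  obtain ⟨n, hp, hn⟩ := FiniteField.card K 2
  have hdvd : q ∣ 2 ^ (n : ℕ) := by
    rw [← hn, hK]
    exact dvd_pow_self q (by norm_num)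
  obtain ⟨f, -, rfl⟩ := (Nat.dvd_prime_pow Nat.prime_two).mp hdvd
  refine ⟨f, ?_, rfl⟩
  by_contra hf
  have hf0 : f = 0 := by omega
  subst hf0
  have := Fintype.one_lt_card (α := K)
  rw [hK] at this
  norm_num at this

/-- The twisted group of type `³D₄` over a field of characteristic two has exactly two classes of involutions. -/
theorem d4_two_classes (q : ℕ) (hK : Fintype.card K = q ^ 3) :
    (ConjClasses.mk '' {g : ↥(Cfsg.Lie.twistedD4 K q) | orderOf g = 2}).ncard = 2 := by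
  obtain ⟨f, hf, hq⟩ := q_pow_two (K := K) q hK
  have hqp : IsPrimePow q := ⟨2, f, Nat.prime_two.prime, by omega, hq.symm⟩
  obtain ⟨φ, hφ, hφd, hφ1⟩ := exists_frob K q 3 hqp (by norm_num) hK
  have h3 : ∀ x : K, φ (φ (φ x)) = x := fun t => hφd t
  have : Fact (Nat.Prime 2) := ⟨Nat.prime_two⟩
  obtain ⟨S, hS⟩ := Cfsg.Agent.Lib.Helper3.TwAut.d4_sylow (p := 2) f q hf hq φ hφ1 hφd hK
  change Sylow 2 ↥(twD4A.grp φ) at S
  have hS' : ∀ x : ↥(twD4A.grp φ), x ∈ (S : Subgroup ↥(twD4A.grp φ)) →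
      (x : GL cdD4.D.Idx K) ∈ cdD4.D.posUnipotent K ⊓ twD4A.grp φ := by
    intro x hx
    rw [hS] at hx
    exact hx
  set a : ↥(twD4A.grp φ) := ⟨eA φ 1, eA_mem φ h3 1⟩ with ha
  set b : ↥(twD4A.grp φ) := ⟨eB (1 : K), eB_mem φ h3 1 (map_one φ)⟩ with hb
  have hab : ConjClasses.mk a ≠ ConjClasses.mk b := by
    intro h
    rw [ConjClasses.mk_eq_mk_iff_isConj, isConj_iff] at h
    obtain ⟨c, hc⟩ := h
    have hc' := congrArg Subtype.val hc
    exact not_conj_eB φ h3 (c : GL cdD4.D.Idx K) c.2 hc'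
  have hoa : orderOf a = 2 := by
    refine orderOf_eq_prime ?_ ?_
    · apply Subtype.ext
      rw [pow_two]
      exact (d4Sys φ h3).A_sq 1
    · intro h
      exact eA_one_ne_one φ (congrArg Subtype.val h)
  have hob : orderOf b = 2 := by
    refine orderOf_eq_prime ?_ ?_
    · apply Subtype.ext
      rw [pow_two]
      exact (d4Sys φ h3).B_sq 1
    · intro h
      exact eB_one_ne_one φ (congrArg Subtype.val h)
  have hset : ConjClasses.mk '' {g : ↥(twD4A.grp φ) | orderOf g = 2} =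
      {ConjClasses.mk a, ConjClasses.mk b} := by
    apply Set.eq_of_subset_of_subset
    · rintro _ ⟨g, hg, rfl⟩
      simp only [Set.mem_ofPred_eq] at hg
      obtain ⟨k, hk⟩ := exists_conj_mem_sylow S g 1 (by rw [hg, pow_one])
      have hmem := hS' _ hk
      have hsq : ((k * g * k⁻¹ : ↥(twD4A.grp φ)) : GL cdD4.D.Idx K) * ((k * g * k⁻¹ : ↥(twD4A.grp φ)) : GL cdD4.D.Idx K) = 1 := by
        have h1 : (k * g * k⁻¹) ^ 2 = 1 := by
          have : g ^ 2 = 1 := by rw [← hg]; exact pow_orderOf_eq_one g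
          rw [conj_pow, this]; group
        rw [pow_two] at h1
        exact congrArg Subtype.val h1
      have hne : ((k * g * k⁻¹ : ↥(twD4A.grp φ)) : GL cdD4.D.Idx K) ≠ 1 := by
        intro h
        have h1 : k * g * k⁻¹ = 1 := Subtype.ext h
        have h2 : g = 1 := by
          have : g = k⁻¹ * (k * g * k⁻¹) * k := by group
          rw [this, h1]; group
        rw [h2, orderOf_one] at hg
        norm_num at hg
      rcases inv_conj φ h3 _ hmem hsq hne with ⟨m, hm, e⟩ | ⟨m, hm, e⟩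
      · left
        rw [ConjClasses.mk_eq_mk_iff_isConj, isConj_iff]
        refine ⟨⟨m, hm⟩ * k, ?_⟩
        apply Subtype.ext
        refine Eq.trans ?_ e
        simp only [Subgroup.coe_mul, Subgroup.coe_inv, mul_inv_rev, mul_assoc]
      · right
        rw [Set.mem_singleton_iff, ConjClasses.mk_eq_mk_iff_isConj, isConj_iff]
        refine ⟨⟨m, hm⟩ * k, ?_⟩
        apply Subtype.ext
        refine Eq.trans ?_ e
        simp only [Subgroup.coe_mul, Subgroup.coe_inv, mul_inv_rev, mul_assoc]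
    · rintro x (rfl | rfl)
      · exact ⟨a, hoa, rfl⟩
      · exact ⟨b, hob, rfl⟩
  have key : (ConjClasses.mk '' {g : ↥(twD4A.grp φ) | orderOf g = 2}).ncard = 2 := by
    rw [hset]
    exact Set.ncard_pair hab
  rw [twistedD4_eq K q φ hφ h3]
  exact key

end

end Cfsg.Agent.Lib.Helper3.D4Inv
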