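import Cfsg.Agent.Lib.Helper3.DLInv12
set_option autoImplicit false
set_option linter.unusedSectionVars false
set_option linter.unusedVariables false
set_option linter.unusedSimpArgs false

/-!
Every involution of the unipotent group is conjugate to a product of root elements of pairwise orthogonal
roots, given a cascade of dominant long roots exhausting the positive roots; conjugacy of such products under
permutation of the factors and reflection of the roots.
-/

namespace Cfsg.Agent.Lib.Helper3.DLInv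

open Cfsg.Agent.Lib.Helper3.SLInv

namespace DLSys

variable {G : Type*} [Group G] {F : Type*} [Field F] {l : ℕ} (S : DLSys G F l)
variable {T : List (Vec l)} {γ : Vec l}

/-- the involutions of the unipotent group orthogonal to `T` are conjugate to orthogonal products -/
def PT (T : List (Vec l)) : Prop :=
  ∀ u ∈ S.UT T, u * u = 1 → ∃ g ∈ S.GT T, ∃ O : List (Vec l),
    (∀ o ∈ O, o ∈ S.roots ∧ S.perp T o) ∧ S.Orth O ∧ g * u * g⁻¹ = S.xs O

theorem PT_base (h : ∀ r ∈ S.roots, 0 < S.key r → ¬ S.perp T r) : S.PT T := by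
  intro u hu _
  have : S.UT T = ⊥ := by
    unfold UT
    rw [Subgroup.closure_eq_bot_iff]
    rintro g ⟨r, hr, a, hk, hp, rfl⟩
    exact absurd hp (h r hr hk)
  rw [this, Subgroup.mem_bot] at hu
  refine ⟨1, Subgroup.one_mem _, [], fun _ h => absurd h List.not_mem_nil, Orth.nil S, ?_⟩
  rw [hu, S.xs_nil]; group

theorem dom_append (D : S.Dom T γ) {O : List (Vec l)} (hO : ∀ β ∈ O, S.B β γ = 0) : S.Dom (O ++ T) γ where
  mem := D.mem
  long := D.long
  pos := D.pos
  perp := S.perp_append.mpr ⟨fun β hβ => by rw [S.B_symm]; exact hO β hβ, D.perp⟩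
  dom := fun r hr hk hp => D.dom r hr hk (S.perp_append.mp hp).2

theorem orth_append {O O' : List (Vec l)} (hO : S.Orth O) (hO' : S.Orth O') (h : ∀ a ∈ O, ∀ b ∈ O', S.B a b = 0) :
    S.Orth (O ++ O') := by
  refine ⟨?_, List.pairwise_append.mpr ⟨hO.2, hO'.2, h⟩⟩
  intro β hβ
  rcases List.mem_append.mp hβ with h1 | h1
  · exact hO.1 β h1
  · exact hO'.1 β h1

/-- the inductive step along a dominant long root -/
theorem PT_step (D : S.Dom T γ) (ih : S.PT (γ :: T)) : S.PT T := by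
  intro u hu hsq
  obtain ⟨q, hq, m, hm, rfl⟩ := S.exists_decomp D hu
  have hmsq := S.sq_decomp D hq hm hsq
  obtain ⟨g', hg', O', hO'1, hO', e'⟩ := ih m hm hmsq
  -- first conjugation
  set q1 := g' * q * g'⁻¹ with hq1
  have hq1m : q1 ∈ S.QT T γ := S.conj_QT_mem hg' hq
  have hu1 : g' * (q * m) * g'⁻¹ = q1 * S.xs O' := by rw [conj_mul_conj, e']
  -- second conjugation
  set c := S.xs (O'.map Neg.neg) with hc
  have hcm : c ∈ S.GT (γ :: T) := by
    apply S.xs_mem_GT
    intro β hβ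
    obtain ⟨b, hb, rfl⟩ := List.mem_map.mp hβ
    exact ⟨S.neg_mem b (hO'1 b hb).1, S.perp_neg (hO'1 b hb).2⟩
  set q2 := c * q1 * c⁻¹ with hq2
  have hq2m : q2 ∈ S.QT T γ := S.conj_QT_mem hcm hq1m
  have hu2 : c * (q1 * S.xs O') * c⁻¹ = q2 * S.ns O' := by rw [conj_mul_conj, S.conj_xs_neg hO']
  have hu2sq : (q2 * S.ns O') * (q2 * S.ns O') = 1 := by
    rw [← hu2, ← hu1]
    exact conj_sq (conj_sq hsq)
  -- elimination
  obtain ⟨y, hy, q3, hq3, e3⟩ := S.pair_elim D hO' (fun β hβ => (hO'1 β hβ).2) hq2m hu2sq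
  have hcomm3 : q3 * S.ns O' = S.ns O' * q3 :=
    S.GT_comm_ns hO'.1 (S.QT_le_GT _ _ hq3) O' (fun _ h => h)
  have hu3sq : (q3 * S.ns O') * (q3 * S.ns O') = 1 := by
    rw [← e3]
    exact conj_sq hu2sq
  have hq3sq : q3 * q3 = 1 := by
    have : (q3 * S.ns O') * (q3 * S.ns O') = (q3 * q3) * (S.ns O' * S.ns O') := by
      calc q3 * S.ns O' * (q3 * S.ns O') = q3 * (S.ns O' * q3) * S.ns O' := by group
        _ = q3 * q3 * (S.ns O' * S.ns O') := by rw [← hcomm3]; group
    rw [this, S.ns_mul_self hO', mul_one] at hu3sq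
    exact hu3sq
  -- the radical problem
  have D' : S.Dom (O' ++ T) γ := S.dom_append D (fun β hβ => (S.perp_cons.mp (hO'1 β hβ).2).1)
  obtain ⟨g4, hg4, O'', hO''1, hO'', e4⟩ := S.QP D' hq3 hq3sq
  have hcomm4 : g4 * S.ns O' = S.ns O' * g4 := S.GT_comm_ns hO'.1 hg4 O' (fun _ h => h)
  have hu4 : g4 * (q3 * S.ns O') * g4⁻¹ = S.xs O'' * S.ns O' := by
    rw [conj_mul_conj, e4]
    congr 1
    rw [hcomm4]; group
  -- back to root elements
  have hcO'' : c ∈ S.GT O'' := by
    apply S.xs_mem_GT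
    intro β hβ
    obtain ⟨b, hb, rfl⟩ := List.mem_map.mp hβ
    refine ⟨S.neg_mem b (hO'1 b hb).1, ?_⟩
    intro o ho
    rw [S.B_neg_left, S.B_symm, (S.perp_append.mp (hO''1 o ho).2).1 b hb, neg_zero]
  have hcomm5 : c * S.xs O'' = S.xs O'' * c := (S.perp_comm hO''.1 hcO'').2.1
  have hu5 : c⁻¹ * (S.xs O'' * S.ns O') * c = S.xs (O'' ++ O') := by
    rw [S.xs_append, ← S.conj_xs_neg hO', ← hc]
    calc c⁻¹ * (S.xs O'' * (c * S.xs O' * c⁻¹)) * c = c⁻¹ * (S.xs O'' * c) * S.xs O' := by group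
      _ = S.xs O'' * S.xs O' := by rw [← hcomm5]; group
  refine ⟨c⁻¹ * g4 * y * c * g', ?_, O'' ++ O', ?_, ?_, ?_⟩
  · have h1 : g' ∈ S.GT T := S.GT_cons_le T γ hg'
    have h2 : c ∈ S.GT T := S.GT_cons_le T γ hcm
    have h3 : y ∈ S.GT T := S.QT_le_GT _ _ hy
    have h4 : g4 ∈ S.GT T := S.GT_append_le O' T hg4
    exact Subgroup.mul_mem _ (Subgroup.mul_mem _ (Subgroup.mul_mem _ (Subgroup.mul_mem _
      (Subgroup.inv_mem _ h2) h4) h3) h2) h1
  · intro o ho
    rcases List.mem_append.mp ho with h | h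
    · exact ⟨(hO''1 o h).1, (S.perp_append.mp (hO''1 o h).2).2⟩
    · exact ⟨(hO'1 o h).1, (S.perp_cons.mp (hO'1 o h).2).2⟩
  · exact S.orth_append hO'' hO' (fun a ha b hb => (S.perp_append.mp (hO''1 a ha).2).1 b hb)
  · rw [← hu5, ← hu4, ← e3, ← hu2, ← hu1]
    group

/-- a cascade of dominant long roots exhausting the positive roots orthogonal to `T` -/
inductive Casc (S : DLSys G F l) : List (Vec l) → Prop
  | base (T : List (Vec l)) : (∀ r ∈ S.roots, 0 < S.key r → ¬ S.perp T r) → Casc S T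
  | step (T : List (Vec l)) (γ : Vec l) : S.Dom T γ → Casc S (γ :: T) → Casc S T

theorem PT_of_casc (h : S.Casc T) : S.PT T := by
  induction h with
  | base T h => exact S.PT_base h
  | step T γ D _ ih => exact S.PT_step D ih

/-- involutions of the unipotent group are conjugate to products of root elements of orthogonal roots -/
theorem involution_conj (h : S.Casc []) {u : G} (hu : u ∈ S.UPos) (hsq : u * u = 1) :
    ∃ g ∈ S.GT [], ∃ O : List (Vec l), S.Orth O ∧ g * u * g⁻¹ = S.xs O := by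
  rw [← S.UT_nil] at hu
  obtain ⟨g, hg, O, -, hO, e⟩ := S.PT_of_casc h u hu hsq
  exact ⟨g, hg, O, hO, e⟩

/-! ### conjugacy moves -/

theorem xs_perm {O O' : List (Vec l)} (hO : S.Orth O) (h : O.Perm O') : S.xs O = S.xs O' := by
  unfold xs
  apply List.Perm.prod_eq' (h.map _)
  rw [List.pairwise_map]
  have h1 : O.Pairwise fun a b => a ∈ O ∧ b ∈ O ∧ S.B a b = 0 := by
    have := hO.2
    rw [List.pairwise_iff_getElem] at this ⊢
    intro i j hi hj hij
    exact ⟨List.getElem_mem hi, List.getElem_mem hj, this i j hi hj hij⟩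
  refine h1.imp ?_
  rintro a b ⟨ha, hb, hab⟩
  exact S.x_comm a (hO.1 a ha) b (hO.1 b hb) (by omega) 1 1

theorem n_conj_xs {β : Vec l} (hβ : β ∈ S.roots) : ∀ {O : List (Vec l)}, (∀ o ∈ O, o ∈ S.roots) →
    S.n β * S.xs O * (S.n β)⁻¹ = S.xs (O.map (S.sr β)) := by
  intro O
  induction O with
  | nil => intro _; rw [List.map_nil, S.xs_nil]; group
  | cons o O ih =>
    intro hO
    rw [List.map_cons, S.xs_cons, S.xs_cons, conj_mul_conj, S.n_conj_x hβ (hO o List.mem_cons_self),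
      ih fun v hv => hO v (List.mem_cons_of_mem _ hv)]

theorem orth_map_sr {β : Vec l} (hβ : β ∈ S.roots) {O : List (Vec l)} (hO : S.Orth O) :
    S.Orth (O.map (S.sr β)) := by
  refine ⟨?_, ?_⟩
  · intro v hv
    obtain ⟨o, ho, rfl⟩ := List.mem_map.mp hv
    exact S.sr_mem hβ (hO.1 o ho)
  · rw [List.pairwise_map]
    have h1 : O.Pairwise fun a b => a ∈ O ∧ b ∈ O ∧ S.B a b = 0 := by
      have := hO.2
      rw [List.pairwise_iff_getElem] at this ⊢
      intro i j hi hj hij
      exact ⟨List.getElem_mem hi, List.getElem_mem hj, this i j hi hj hij⟩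
    refine h1.imp ?_
    rintro a b ⟨ha, hb, hab⟩
    rw [S.B_sr_sr hβ (hO.1 a ha) (hO.1 b hb), hab]

/-- conjugacy of the products of root elements of two lists under the group generated by the root elements -/
def Cj (O O' : List (Vec l)) : Prop := ∃ g ∈ S.GT [], g * S.xs O * g⁻¹ = S.xs O'

theorem Cj.rfl' (O : List (Vec l)) : S.Cj O O := ⟨1, Subgroup.one_mem _, by group⟩

theorem Cj.trans {O O' O'' : List (Vec l)} (h : S.Cj O O') (h' : S.Cj O' O'') : S.Cj O O'' := by
  obtain ⟨g, hg, e⟩ := h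
  obtain ⟨g', hg', e'⟩ := h'
  exact ⟨g' * g, Subgroup.mul_mem _ hg' hg, by rw [← conj_conj, e, e']⟩

theorem Cj.symm {O O' : List (Vec l)} (h : S.Cj O O') : S.Cj O' O := by
  obtain ⟨g, hg, e⟩ := h
  exact ⟨g⁻¹, Subgroup.inv_mem _ hg, by rw [← e]; group⟩

theorem Cj.of_perm {O O' : List (Vec l)} (hO : S.Orth O) (h : O.Perm O') : S.Cj O O' :=
  ⟨1, Subgroup.one_mem _, by rw [S.xs_perm hO h]; group⟩

theorem Cj.of_refl {β : Vec l} (hβ : β ∈ S.roots) {O : List (Vec l)} (hO : ∀ o ∈ O, o ∈ S.roots) :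
    S.Cj O (O.map (S.sr β)) :=
  ⟨S.n β, S.n_mem_GT hβ (S.perp_nil β), S.n_conj_xs hβ hO⟩

theorem orth_perm {O O' : List (Vec l)} (hO : S.Orth O) (h : O.Perm O') : S.Orth O' := by
  refine ⟨fun v hv => hO.1 v (h.symm.subset hv), ?_⟩
  have hsymm : ∀ a b : Vec l, S.B a b = 0 → S.B b a = 0 := fun a b h => by rw [S.B_symm]; exact h
  exact h.pairwise hO.2 (fun {a b} h => hsymm a b h)

/-- the product over a list of orthogonal roots is an involution or trivial -/
theorem xs_mul_self : ∀ {O : List (Vec l)}, S.Orth O → S.xs O * S.xs O = 1 := by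
  intro O
  induction O with
  | nil => intro _; simp [xs_nil]
  | cons r O ih =>
    intro hO
    have hr := hO.1 r List.mem_cons_self
    have hc : Commute (S.x r 1) (S.xs O) := by
      unfold xs
      apply Commute.list_prod_right
      intro y hy
      obtain ⟨s, hs, rfl⟩ := List.mem_map.mp hy
      have hs' := hO.1 s (List.mem_cons_of_mem _ hs)
      have hB : S.B r s = 0 := (List.pairwise_cons.mp hO.2).1 s hs
      exact S.x_comm r hr s hs' (by omega) 1 1
    rw [xs_cons]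
    calc S.x r 1 * S.xs O * (S.x r 1 * S.xs O) = S.x r 1 * (S.xs O * S.x r 1) * S.xs O := by group
      _ = S.x r 1 * (S.x r 1 * S.xs O) * S.xs O := by rw [hc.eq]
      _ = (S.x r 1 * S.x r 1) * (S.xs O * S.xs O) := by group
      _ = 1 := by rw [S.x_sq hr, ih hO.tail, one_mul]

end DLSys

end Cfsg.Agent.Lib.Helper3.DLInv
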