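import Mathlib
import Cfsg.Prelude.Def_ChevStructure
import Cfsg.Agent.Lib.Helper3.ChevAt4
import Cfsg.Agent.Lib.Helper3.ChevG4
import Cfsg.Agent.Lib.Helper3.ChevSL2
import Cfsg.Agent.Lib.Helper3.HiRoot2
import Cfsg.Agent.Lib.Helper3.SLInv12
set_option autoImplicit false
set_option linter.unusedSectionVars false
set_option linter.unusedVariables false
set_option linter.unusedSimpArgs false
open Cfsg Cfsg.Lie

/-!
The root elements of a simply laced Chevalley group over a finite field of characteristic two satisfy the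
abstract relations of `SLSys`: the table checks and the vectors, form and height.
-/

namespace Cfsg.Agent.Lib.Helper3.SLInv

open Cfsg.Agent.Lib.Helper3.ChevM Cfsg.Agent.Lib.Helper3 ChevU ChevT
open Cfsg.Agent.Lib.Helper3.ChevAt

/-- the coordinate `i` of the root `r` -/
def cz (D : ChevalleyDatum) (r i : ℕ) : ℤ := (D.coroot.getD r #[]).getD i 0

/-- the height of the root `r` for the weights `w` -/
def keyI (D : ChevalleyDatum) (w : ℕ → ℤ) (r : ℕ) : ℤ := ((List.range D.rank).map fun i => cz D r i * w i).sum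

def slCartCheck (D : ChevalleyDatum) (i s : ℕ) : Bool :=
  decide (D.cartan i s = ((List.range D.rank).map fun j => D.cartan i (D.simple j) * cz D s j).sum)

def slSymCheck (D : ChevalleyDatum) (i j : ℕ) : Bool :=
  decide (D.cartan i (D.simple j) = D.cartan j (D.simple i))

def slKeyCheck (D : ChevalleyDatum) (w : ℕ → ℤ) (r : ℕ) : Bool :=
  decide (D.IsPosRoot r ↔ 0 < keyI D w r) && decide (D.IsNegRoot r ↔ keyI D w r < 0) &&
    decide (keyI D w r ≠ 0) && (decide (D.nroots ≤ r + 1) || decide (keyI D w r < keyI D w (r + 1)))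

def slNegCheck (D : ChevalleyDatum) (r : ℕ) : Bool :=
  (List.range D.rank).all fun i => decide (cz D (D.neg r) i = - cz D r i)

def slPairCheck (D : ChevalleyDatum) (pair : ℕ → ℕ → ℤ) (r s : ℕ) : Bool :=
  if s = r then decide (pair r s = 2)
  else if s = D.neg r then true
  else
    (decide (pair r s = -1) &&
      (match D.commTerms r s with
        | [(k, c, 1, 1)] => decide (k < D.nroots) && (decide (c = 1) || decide (c = -1)) &&
            (List.range D.rank).all fun i => decide (cz D k i = cz D r i + cz D s i)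
        | _ => false)) ||
    ((decide (pair r s = 0) || decide (pair r s = 1)) && (D.commTerms r s).isEmpty)

/-- the table checks of a simply laced type -/
structure SLHyp (C : CDatum) (R : RelData C) where
  A : AtHyp C R
  hcs : ∀ j < C.D.rank, C.D.cartan j (C.D.neg (C.D.simple j)) = -2
  w : ℕ → ℤ
  cart : ∀ i < C.D.rank, ∀ s < C.D.nroots, slCartCheck C.D i s = true
  sym : ∀ i < C.D.rank, ∀ j < C.D.rank, slSymCheck C.D i j = true
  key : ∀ r < C.D.nroots, slKeyCheck C.D w r = true
  neg : ∀ r < C.D.nroots, slNegCheck C.D r = true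
  pr : ∀ r < C.D.nroots, ∀ s < C.D.nroots, slPairCheck C.D R.pair r s = true

/-- the vector of the root `r` -/
def vecZ (D : ChevalleyDatum) (r : ℕ) : Vec D.rank := fun i => cz D r i.val

/-- the form -/
def Bv (D : ChevalleyDatum) (u v : Vec D.rank) : ℤ :=
  ∑ i : Fin D.rank, ∑ j : Fin D.rank, u i * D.cartan i.val (D.simple j.val) * v j

/-- the height -/
def keyv (D : ChevalleyDatum) (w : ℕ → ℤ) (u : Vec D.rank) : ℤ := ∑ i : Fin D.rank, u i * w i.val

theorem sum_fin_eq (n : ℕ) (f : ℕ → ℤ) : ∑ i : Fin n, f i.val = ((List.range n).map f).sum := by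
  induction n with
  | zero => simp
  | succ n ih =>
    rw [Fin.sum_univ_castSucc, List.range_succ, List.map_append, List.sum_append]
    simp only [Fin.val_castSucc, Fin.val_last, List.map_cons, List.map_nil, List.sum_cons, List.sum_nil, add_zero]
    rw [ih]

theorem keyv_vecZ (D : ChevalleyDatum) (w : ℕ → ℤ) (r : ℕ) : keyv D w (vecZ D r) = keyI D w r := by
  unfold keyv keyI vecZ
  exact sum_fin_eq D.rank fun i => cz D r i * w i

theorem Bv_add_left (D : ChevalleyDatum) (u v w : Vec D.rank) : Bv D (u + v) w = Bv D u w + Bv D v w := by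
  unfold Bv
  rw [← Finset.sum_add_distrib]
  apply Finset.sum_congr rfl
  intro i _
  rw [← Finset.sum_add_distrib]
  apply Finset.sum_congr rfl
  intro j _
  simp only [Pi.add_apply]
  ring

theorem keyv_add (D : ChevalleyDatum) (w : ℕ → ℤ) (u v : Vec D.rank) : keyv D w (u + v) = keyv D w u + keyv D w v := by
  unfold keyv
  rw [← Finset.sum_add_distrib]
  apply Finset.sum_congr rfl
  intro i _
  simp only [Pi.add_apply]
  ring

section
variable {C : CDatum} {R : RelData C} (H : SLHyp C R)
include H

theorem SLHyp.Bv_symm (u v : Vec C.D.rank) : Bv C.D u v = Bv C.D v u := by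
  unfold Bv
  rw [Finset.sum_comm]
  apply Finset.sum_congr rfl
  intro i _
  apply Finset.sum_congr rfl
  intro j _
  have := H.sym i.val i.isLt j.val j.isLt
  simp only [slSymCheck, decide_eq_true_eq] at this
  rw [this]
  ring

theorem SLHyp.Bv_vecZ (r s : ℕ) (hr : r < C.D.nroots) (hs : s < C.D.nroots) :
    Bv C.D (vecZ C.D r) (vecZ C.D s) = R.pair r s := by
  have hdec := H.A.B.dec r hr s hs
  simp only [hdecCheck, decide_eq_true_eq] at hdec
  rw [hdec]
  unfold Bv
  rw [← sum_fin_eq C.D.rank fun i => (C.D.coroot.getD r #[]).getD i 0 * R.pair (C.D.simple i) s]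
  apply Finset.sum_congr rfl
  intro i _
  rw [R.pair_simple i.val i.isLt s hs]
  have hc := H.cart i.val i.isLt s hs
  simp only [slCartCheck, decide_eq_true_eq] at hc
  rw [hc, ← sum_fin_eq C.D.rank fun j => C.D.cartan i.val (C.D.simple j) * cz C.D s j, Finset.mul_sum]
  apply Finset.sum_congr rfl
  intro j _
  unfold vecZ cz
  ring

theorem SLHyp.keyI_strictMono : ∀ (k r : ℕ), r + k + 1 < C.D.nroots → keyI C.D H.w r < keyI C.D H.w (r + k + 1) := by
  intro k
  induction k with
  | zero =>
    intro r hr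
    have := H.key r (by omega)
    simp only [slKeyCheck, Bool.and_eq_true, Bool.or_eq_true, decide_eq_true_eq] at this
    rcases this.2 with h | h
    · omega
    · exact h
  | succ k ih =>
    intro r hr
    have h1 := ih r (by omega)
    have := H.key (r + k + 1) (by omega)
    simp only [slKeyCheck, Bool.and_eq_true, Bool.or_eq_true, decide_eq_true_eq] at this
    rcases this.2 with h | h
    · omega
    · have e : r + (k + 1) + 1 = r + k + 1 + 1 := by ring
      rw [e]
      omega

theorem SLHyp.keyI_inj {r s : ℕ} (hr : r < C.D.nroots) (hs : s < C.D.nroots)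
    (h : keyI C.D H.w r = keyI C.D H.w s) : r = s := by
  by_contra hne
  rcases Nat.lt_or_gt_of_ne hne with h1 | h1
  · obtain ⟨k, rfl⟩ : ∃ k, s = r + k + 1 := ⟨s - r - 1, by omega⟩
    have := H.keyI_strictMono k r hs
    omega
  · obtain ⟨k, rfl⟩ : ∃ k, r = s + k + 1 := ⟨r - s - 1, by omega⟩
    have := H.keyI_strictMono k s hr
    omega

theorem SLHyp.vecZ_inj {r s : ℕ} (hr : r < C.D.nroots) (hs : s < C.D.nroots)
    (h : vecZ C.D r = vecZ C.D s) : r = s := by
  apply H.keyI_inj hr hs
  rw [← keyv_vecZ, ← keyv_vecZ, h]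

theorem SLHyp.vecZ_neg {r : ℕ} (hr : r < C.D.nroots) : vecZ C.D (C.D.neg r) = - vecZ C.D r := by
  funext i
  have := H.neg r hr
  simp only [slNegCheck, List.all_eq_true, List.mem_range, decide_eq_true_eq] at this
  exact this i.val i.isLt

end

/-- the index of a vector -/
noncomputable def idx (D : ChevalleyDatum) (v : Vec D.rank) : ℕ :=
  open Classical in if h : ∃ r, r < D.nroots ∧ vecZ D r = v then h.choose else D.nroots

/-- the list of the vectors of the roots -/
def rootsV (D : ChevalleyDatum) : List (Vec D.rank) := (List.range D.nroots).map (vecZ D)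

theorem mem_rootsV {D : ChevalleyDatum} {v : Vec D.rank} : v ∈ rootsV D ↔ ∃ r, r < D.nroots ∧ vecZ D r = v := by
  unfold rootsV
  simp

section
variable {C : CDatum} {R : RelData C} (H : SLHyp C R)
include H

theorem SLHyp.idx_vecZ {r : ℕ} (hr : r < C.D.nroots) : idx C.D (vecZ C.D r) = r := by
  unfold idx
  have h : ∃ r', r' < C.D.nroots ∧ vecZ C.D r' = vecZ C.D r := ⟨r, hr, rfl⟩
  rw [dif_pos h]
  exact H.vecZ_inj h.choose_spec.1 hr h.choose_spec.2

theorem SLHyp.pair_cases (r s : ℕ) (hr : r < C.D.nroots) (hs : s < C.D.nroots) :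
    (s = r ∧ R.pair r s = 2) ∨ s = C.D.neg r ∨
    (s ≠ r ∧ s ≠ C.D.neg r ∧ R.pair r s = -1 ∧ ∃ k c, k < C.D.nroots ∧ (c = 1 ∨ c = -1) ∧
      C.D.commTerms r s = [(k, c, 1, 1)] ∧ vecZ C.D k = vecZ C.D r + vecZ C.D s) ∨
    (s ≠ r ∧ s ≠ C.D.neg r ∧ (R.pair r s = 0 ∨ R.pair r s = 1) ∧ C.D.commTerms r s = []) := by
  have h := H.pr r hr s hs
  unfold slPairCheck at h
  by_cases h1 : s = r
  · rw [if_pos h1] at h
    exact Or.inl ⟨h1, by simpa using h⟩
  · rw [if_neg h1] at h
    by_cases h2 : s = C.D.neg r
    · exact Or.inr (Or.inl h2)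
    · rw [if_neg h2] at h
      rcases Bool.or_eq_true _ _ |>.mp h with h3 | h3
      · right; right; left
        rw [Bool.and_eq_true] at h3
        obtain ⟨h4, h5⟩ := h3
        refine ⟨h1, h2, by simpa using h4, ?_⟩
        split at h5
        · rename_i k c heq
          simp only [Bool.and_eq_true, Bool.or_eq_true, decide_eq_true_eq, List.all_eq_true, List.mem_range] at h5
          refine ⟨k, c, h5.1.1, h5.1.2, heq, ?_⟩
          funext i
          exact h5.2 i.val i.isLt
        · exact absurd h5 (by simp)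
      · right; right; right
        rw [Bool.and_eq_true] at h3
        obtain ⟨h4, h5⟩ := h3
        refine ⟨h1, h2, by simpa using h4, by simpa using h5⟩

end

end Cfsg.Agent.Lib.Helper3.SLInv
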