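import Mathlib
import Cfsg.Prelude.Def_ChevStructure
import Cfsg.Agent.Lib.Helper3.SLBridge1
set_option autoImplicit false
set_option linter.unusedSectionVars false
set_option linter.unusedVariables false
set_option linter.unusedSimpArgs false
open Cfsg Cfsg.Lie

/-!
The system of root elements of a simply laced Chevalley group over a finite field of characteristic two.
-/

namespace Cfsg.Agent.Lib.Helper3.SLInv

open Cfsg.Agent.Lib.Helper3.ChevM Cfsg.Agent.Lib.Helper3 ChevU ChevT
open Cfsg.Agent.Lib.Helper3.ChevAt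

section
variable {C : CDatum} {R : RelData C} (H : SLHyp C R) {F : Type*} [Field F] [Fintype F] [CharP F 2]
include H

theorem two_eq_zero : (2 : F) = 0 := by
  have := CharP.cast_eq_zero F 2
  exact_mod_cast this

theorem neg_eq_self (a : F) : -a = a := by
  have h2 : (2 : F) = 0 := two_eq_zero H
  have : a + a = 0 := by rw [← two_mul, h2, zero_mul]
  exact neg_eq_of_add_eq_zero_left this

theorem intCast_sign {c : ℤ} (hc : c = 1 ∨ c = -1) : ((c : ℤ) : F) = 1 := by
  rcases hc with h | h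
  · rw [h]; simp
  · rw [h]; push_cast; exact neg_eq_self H 1

theorem SLHyp.xU_comm {r s : ℕ} (hr : r < C.D.nroots) (hs : s < C.D.nroots) (h : 0 ≤ R.pair r s) (a b : F) :
    R.xU r a * R.xU s b = R.xU s b * R.xU r a := by
  rcases H.pair_cases r s hr hs with ⟨h1, -⟩ | h1 | ⟨h1, h2, h3, -⟩ | ⟨h1, h2, h3, h4⟩
  · rw [h1, R.xU_add, R.xU_add, add_comm]
  · exfalso
    -- the form on opposite roots is `-2`
    have e1 := H.Bv_vecZ r s hr hs
    rw [h1, H.vecZ_neg hr] at e1
    have e2 := H.Bv_vecZ r r hr hr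
    have e3 : Bv C.D (vecZ C.D r) (-vecZ C.D r) = - Bv C.D (vecZ C.D r) (vecZ C.D r) := by
      unfold Bv
      rw [← Finset.sum_neg_distrib]
      apply Finset.sum_congr rfl
      intro i _
      rw [← Finset.sum_neg_distrib]
      apply Finset.sum_congr rfl
      intro j _
      simp only [Pi.neg_apply]
      ring
    rcases H.pair_cases r r hr hr with ⟨-, h5⟩ | h5 | ⟨h5, -⟩ | ⟨h5, -⟩
    · rw [e3, e2, h5, ← h1] at e1
      omega
    · have := H.vecZ_neg hr
      rw [← h5] at this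
      have h6 : vecZ C.D r = 0 := by
        funext i
        have := congrFun this i
        simp only [Pi.neg_apply, Pi.zero_apply] at this ⊢
        omega
      have h7 := H.key r hr
      simp only [slKeyCheck, Bool.and_eq_true, decide_eq_true_eq] at h7
      apply h7.1.2
      rw [← keyv_vecZ, h6]
      simp [keyv]
    · exact absurd rfl h5
    · exact absurd rfl h5
  · omega
  · apply Units.ext
    have := H.A.U.K.commF (F := F) r s hr hs h1 h2 a b
    rw [CDatum.wordMat_commWord, h4] at this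
    simpa using this.symm

theorem SLHyp.xU_comm_add {r s : ℕ} (hr : r < C.D.nroots) (hs : s < C.D.nroots) (h : R.pair r s = -1) (a b : F) :
    ∃ k, k < C.D.nroots ∧ vecZ C.D k = vecZ C.D r + vecZ C.D s ∧
      R.xU s b * R.xU r a = R.xU r a * R.xU s b * R.xU k (a * b) := by
  rcases H.pair_cases r s hr hs with ⟨-, h1⟩ | h1 | ⟨h1, h2, h3, k, c, hk, hc, h4, h5⟩ | ⟨h1, h2, h3, h4⟩
  · omega
  · exfalso
    -- as above, the form on opposite roots is not `-1`
    have e1 := H.Bv_vecZ r s hr hs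
    rw [h1, H.vecZ_neg hr] at e1
    have e2 := H.Bv_vecZ r r hr hr
    have e3 : Bv C.D (vecZ C.D r) (-vecZ C.D r) = - Bv C.D (vecZ C.D r) (vecZ C.D r) := by
      unfold Bv
      rw [← Finset.sum_neg_distrib]
      apply Finset.sum_congr rfl
      intro i _
      rw [← Finset.sum_neg_distrib]
      apply Finset.sum_congr rfl
      intro j _
      simp only [Pi.neg_apply]
      ring
    rcases H.pair_cases r r hr hr with ⟨-, h5⟩ | h5 | ⟨h5, -⟩ | ⟨h5, -⟩
    · rw [e3, e2, h5, ← h1] at e1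
      omega
    · have := H.vecZ_neg hr
      rw [← h5] at this
      have h6 : vecZ C.D r = 0 := by
        funext i
        have := congrFun this i
        simp only [Pi.neg_apply, Pi.zero_apply] at this ⊢
        omega
      have h7 := H.key r hr
      simp only [slKeyCheck, Bool.and_eq_true, decide_eq_true_eq] at h7
      apply h7.1.2
      rw [← keyv_vecZ, h6]
      simp [keyv]
    · exact absurd rfl h5
    · exact absurd rfl h5
  · refine ⟨k, hk, h5, ?_⟩
    apply Units.ext
    have := H.A.U.K.commF (F := F) r s hr hs h1 h2 a b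
    rw [CDatum.wordMat_commWord, h4] at this
    simp only [List.map_cons, List.map_nil, List.prod_cons, List.prod_nil, mul_one, pow_one] at this
    rw [intCast_sign H hc, one_mul, neg_eq_self H] at this
    simpa using this
  · omega

theorem SLHyp.pos_or_neg {r : ℕ} (hr : r < C.D.nroots) : C.D.IsPosRoot r ∨ C.D.IsNegRoot r :=
  signCheck_or (H.A.sign r hr)

theorem SLHyp.nU_one (r : ℕ) : R.nU r (1 : F) = R.xU r 1 * R.xU (C.D.neg r) 1 * R.xU r 1 := by
  rw [R.nU_eq, inv_one, neg_eq_self H]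

theorem SLHyp.n_conj {r : ℕ} (hr : r < C.D.nroots) (a : F) :
    (R.xU r 1 * R.xU (C.D.neg r) 1 * R.xU r 1) * R.xU r a * (R.xU r 1 * R.xU (C.D.neg r) 1 * R.xU r 1)⁻¹ =
      R.xU (C.D.neg r) a := by
  have := H.A.B.mono.sl2_conj (F := F) H.hcs r hr 1 one_ne_zero a
  rw [H.nU_one, inv_one, one_mul, one_mul, neg_eq_self H] at this
  exact this

theorem SLHyp.xU_inj {r : ℕ} (hr : r < C.D.nroots) (a : F) (h : R.xU r a = 1) : a = 0 := by
  rcases H.pos_or_neg hr with hp | hn
  · exact H.A.U.xU_inj_pos' r hp a 0 (by rw [h, R.xU_zero])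
  · have hp : C.D.IsPosRoot (C.D.neg r) := (signCheck_spec (H.A.sign r hr)).2.1.mp hn
    have h1 := H.n_conj (F := F) hr a
    rw [h, mul_one, mul_inv_cancel] at h1
    exact H.A.U.xU_inj_pos' _ hp a 0 (by rw [← h1, R.xU_zero])

omit H in
theorem expo_inr (pair : ℕ → ℕ → ℤ) (r s : ℕ) (hs : s < C.D.nroots) :
    C.expo pair r (code C.D (Sum.inr ⟨s, hs⟩)) = pair r s := by
  unfold CDatum.expo code
  have : Nat.blt (C.D.rank + s) C.D.rank = false := by
    rw [Bool.eq_false_iff]
    intro h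
    rw [Nat.blt_eq] at h
    omega
  simp only [this, cond_false, Nat.add_sub_cancel_left]

theorem SLHyp.hU_conj {r s : ℕ} (hr : r < C.D.nroots) (hs : s < C.D.nroots) (c : F) (hc : c ≠ 0) (a : F) :
    R.hU r c * R.xU s a * (R.hU r c)⁻¹ = R.xU s (c ^ (R.pair r s) * a) := by
  obtain ⟨c', hc', hd, key⟩ := R.diagonal_mul_x (F := F) H.A.B.dec (R.hU r c) (R.hU_mem r hr c hc)
  have e1 : c ^ (R.pair r s) = ((List.range C.D.rank).map fun i => c' i ^ C.D.cartan i s).prod := by
    have h1 := R.hMat_diag (F := F) r hr c hc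
    rw [← R.hU_val, hd] at h1
    have h2 := congrFun (Matrix.diagonal_injective h1) (Sum.inr ⟨s, hs⟩)
    rw [expo_inr] at h2
    rw [← h2]
    unfold RelData.torusExp
    congr 1
    apply List.map_congr_left
    intro i hi
    have hi' := List.mem_range.mp hi
    rw [expo_inr, R.pair_simple i hi' s hs]
  rw [mul_inv_eq_iff_eq_mul]
  apply Units.ext
  rw [Units.val_mul, Units.val_mul, R.xU_val, R.xU_val, key s hs a, e1]

theorem SLHyp.hU_mem_closure {r : ℕ} (c : F) :
    R.hU r c ∈ Subgroup.closure {g : GL C.D.Idx F | ∃ a, g = R.xU r a ∨ g = R.xU (C.D.neg r) a} := by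
  rw [R.hU_eq, R.nU_eq, R.nU_eq]
  have h1 : ∀ a : F, R.xU r a ∈ Subgroup.closure {g : GL C.D.Idx F | ∃ a, g = R.xU r a ∨ g = R.xU (C.D.neg r) a} :=
    fun a => Subgroup.subset_closure ⟨a, Or.inl rfl⟩
  have h2 : ∀ a : F, R.xU (C.D.neg r) a ∈
      Subgroup.closure {g : GL C.D.Idx F | ∃ a, g = R.xU r a ∨ g = R.xU (C.D.neg r) a} :=
    fun a => Subgroup.subset_closure ⟨a, Or.inr rfl⟩
  exact Subgroup.mul_mem _ (Subgroup.mul_mem _ (Subgroup.mul_mem _ (h1 _) (h2 _)) (h1 _))
    (Subgroup.mul_mem _ (Subgroup.mul_mem _ (h1 _) (h2 _)) (h1 _))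

theorem sq_surj_char_two (a : F) : ∃ b : F, b * b = a := by
  have hinj : Function.Injective (frobenius F 2) := frobenius_inj F 2
  have hsurj : Function.Surjective (frobenius F 2) := Finite.surjective_of_injective hinj
  obtain ⟨b, hb⟩ := hsurj a
  exact ⟨b, by rw [← hb, frobenius_def, sq]⟩

/-- the system of root elements -/
noncomputable def SLHyp.sys : SLSys (GL C.D.Idx F) F C.D.rank where
  roots := rootsV C.D
  B := Bv C.D
  key := keyv C.D H.w
  x := fun v a => R.xU (idx C.D v) a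
  h := fun v c => R.hU (idx C.D v) c
  nodup := by
    unfold rootsV
    rw [List.nodup_map_iff_inj_on (List.nodup_range)]
    intro r hr s hs h
    exact H.vecZ_inj (List.mem_range.mp hr) (List.mem_range.mp hs) h
  B_add_left := Bv_add_left C.D
  B_symm := H.Bv_symm
  key_add := keyv_add C.D H.w
  neg_mem := by
    intro v hv
    obtain ⟨r, hr, rfl⟩ := mem_rootsV.mp hv
    exact mem_rootsV.mpr ⟨C.D.neg r, R.neg_lt r hr, H.vecZ_neg hr⟩
  B_self := by
    intro v hv
    obtain ⟨r, hr, rfl⟩ := mem_rootsV.mp hv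
    rw [H.Bv_vecZ r r hr hr]
    rcases H.pair_cases r r hr hr with ⟨-, h5⟩ | h5 | ⟨h5, -⟩ | ⟨h5, -⟩
    · exact h5
    · exfalso
      have := H.vecZ_neg hr
      rw [← h5] at this
      have h6 : vecZ C.D r = 0 := by
        funext i
        have := congrFun this i
        simp only [Pi.neg_apply, Pi.zero_apply] at this ⊢
        omega
      have h7 := H.key r hr
      simp only [slKeyCheck, Bool.and_eq_true, decide_eq_true_eq] at h7
      apply h7.1.2
      rw [← keyv_vecZ, h6]
      simp [keyv]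
    · exact absurd rfl h5
    · exact absurd rfl h5
  B_cases := by
    intro v hv u hu
    obtain ⟨r, hr, rfl⟩ := mem_rootsV.mp hv
    obtain ⟨s, hs, rfl⟩ := mem_rootsV.mp hu
    rw [H.Bv_vecZ r s hr hs]
    rcases H.pair_cases r s hr hs with ⟨h1, -⟩ | h1 | ⟨-, -, h3, -⟩ | ⟨-, -, h3, -⟩
    · left; rw [h1]
    · right; left; rw [h1, H.vecZ_neg hr]
    · right; right; right; right; exact h3
    · rcases h3 with h3 | h3
      · right; right; right; left; exact h3
      · right; right; left; exact h3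
  add_mem := by
    intro v hv u hu h
    obtain ⟨r, hr, rfl⟩ := mem_rootsV.mp hv
    obtain ⟨s, hs, rfl⟩ := mem_rootsV.mp hu
    rw [H.Bv_vecZ r s hr hs] at h
    obtain ⟨k, hk, e, -⟩ := H.xU_comm_add (F := F) hr hs h 0 0
    exact mem_rootsV.mpr ⟨k, hk, e⟩
  key_ne := by
    intro v hv
    obtain ⟨r, hr, rfl⟩ := mem_rootsV.mp hv
    rw [keyv_vecZ]
    have h7 := H.key r hr
    simp only [slKeyCheck, Bool.and_eq_true, decide_eq_true_eq] at h7
    exact h7.1.2
  key_inj := by
    intro v hv u hu h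
    obtain ⟨r, hr, rfl⟩ := mem_rootsV.mp hv
    obtain ⟨s, hs, rfl⟩ := mem_rootsV.mp hu
    rw [keyv_vecZ, keyv_vecZ] at h
    rw [H.keyI_inj hr hs h]
  two := two_eq_zero H
  sq_surj := sq_surj_char_two H
  x_add := by
    intro v hv a b
    exact (R.xU_add _ a b).symm
  x_inj := by
    intro v hv a h
    obtain ⟨r, hr, rfl⟩ := mem_rootsV.mp hv
    rw [H.idx_vecZ hr] at h
    exact H.xU_inj hr a h
  x_comm := by
    intro v hv u hu h a b
    obtain ⟨r, hr, rfl⟩ := mem_rootsV.mp hv
    obtain ⟨s, hs, rfl⟩ := mem_rootsV.mp hu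
    rw [H.Bv_vecZ r s hr hs] at h
    rw [H.idx_vecZ hr, H.idx_vecZ hs]
    exact H.xU_comm hr hs h a b
  x_comm_add := by
    intro v hv u hu h a b
    obtain ⟨r, hr, rfl⟩ := mem_rootsV.mp hv
    obtain ⟨s, hs, rfl⟩ := mem_rootsV.mp hu
    rw [H.Bv_vecZ r s hr hs] at h
    obtain ⟨k, hk, e, hrel⟩ := H.xU_comm_add (F := F) hr hs h a b
    rw [H.idx_vecZ hr, H.idx_vecZ hs, ← e, H.idx_vecZ hk]
    exact hrel
  n_conj := by
    intro v hv a
    obtain ⟨r, hr, rfl⟩ := mem_rootsV.mp hv
    rw [← H.vecZ_neg hr, H.idx_vecZ hr, H.idx_vecZ (R.neg_lt r hr)]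
    exact H.n_conj hr a
  h_mem := by
    intro v hv c hc
    obtain ⟨r, hr, rfl⟩ := mem_rootsV.mp hv
    rw [← H.vecZ_neg hr]
    simp only [H.idx_vecZ hr, H.idx_vecZ (R.neg_lt r hr)]
    exact H.hU_mem_closure c
  h_conj := by
    intro v hv c hc u hu a
    obtain ⟨r, hr, rfl⟩ := mem_rootsV.mp hv
    obtain ⟨s, hs, rfl⟩ := mem_rootsV.mp hu
    rw [H.idx_vecZ hr, H.idx_vecZ hs, H.Bv_symm, H.Bv_vecZ r s hr hs]
    exact H.hU_conj hr hs c hc a
  pos_inf_neg := by
    rw [eq_bot_iff, ← pos_inf_neg (K := F) H.A]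
    apply inf_le_inf
    · apply Subgroup.closure_mono
      rintro g ⟨v, hv, a, hk, rfl⟩
      obtain ⟨r, hr, rfl⟩ := mem_rootsV.mp hv
      rw [keyv_vecZ] at hk
      have h7 := H.key r hr
      simp only [slKeyCheck, Bool.and_eq_true, decide_eq_true_eq] at h7
      rw [H.idx_vecZ hr]
      exact ⟨r, a, h7.1.1.1.mpr hk, R.xU_val r a⟩
    · apply Subgroup.closure_mono
      rintro g ⟨v, hv, a, hk, rfl⟩
      obtain ⟨r, hr, rfl⟩ := mem_rootsV.mp hv
      rw [keyv_vecZ] at hk
      have h7 := H.key r hr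
      simp only [slKeyCheck, Bool.and_eq_true, decide_eq_true_eq] at h7
      rw [H.idx_vecZ hr]
      exact ⟨r, a, h7.1.1.2.mpr hk, R.xU_val r a⟩

end

end Cfsg.Agent.Lib.Helper3.SLInv
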