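import Mathlib
import Cfsg.Prelude.Def_ChevStructure
import Cfsg.Agent.Lib.Helper3.SLBridge2
set_option autoImplicit false
set_option linter.unusedSectionVars false
set_option linter.unusedVariables false
set_option linter.unusedSimpArgs false
open Cfsg Cfsg.Lie

/-!
Involutions of a simply laced Chevalley group in characteristic two in terms of root indices: the cascade check,
conjugacy of products of root elements of orthogonal roots under reflections and under the fusion in `D₄`.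
-/

namespace Cfsg.Agent.Lib.Helper3.SLInv

open Cfsg.Agent.Lib.Helper3.ChevM Cfsg.Agent.Lib.Helper3 ChevU ChevT
open Cfsg.Agent.Lib.Helper3.ChevAt

/-- the product of the root elements with parameter one of a list of root indices -/
def xsI {C : CDatum} (R : RelData C) (F : Type*) [Field F] (O : List ℕ) : GL C.D.Idx F :=
  (O.map fun r => R.xU r (1 : F)).prod

/-- a list of indices of pairwise orthogonal roots -/
def OrthI (D : ChevalleyDatum) (pair : ℕ → ℕ → ℤ) (O : List ℕ) : Prop :=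
  (∀ r ∈ O, r < D.nroots) ∧ O.Pairwise fun r s => pair r s = 0

/-- conjugacy of the products in the Chevalley group -/
def CjI {C : CDatum} (R : RelData C) (F : Type*) [Field F] (O O' : List ℕ) : Prop :=
  ∃ g ∈ C.D.group F, g * xsI R F O * g⁻¹ = xsI R F O'

section
variable {C : CDatum} {R : RelData C} (H : SLHyp C R) (F : Type*) [Field F] [Fintype F] [CharP F 2]
include H

theorem SLHyp.xs_map (O : List ℕ) (hO : ∀ r ∈ O, r < C.D.nroots) :
    (H.sys (F := F)).xs (O.map (vecZ C.D)) = xsI R F O := by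
  induction O with
  | nil => rfl
  | cons r O ih =>
    rw [List.map_cons, SLSys.xs_cons, ih fun s hs => hO s (List.mem_cons_of_mem _ hs)]
    show R.xU (idx C.D (vecZ C.D r)) 1 * _ = _
    rw [H.idx_vecZ (hO r List.mem_cons_self)]
    simp [xsI]

theorem SLHyp.orth_map {O : List ℕ} (hO : OrthI C.D R.pair O) : (H.sys (F := F)).Orth (O.map (vecZ C.D)) := by
  refine ⟨?_, ?_⟩
  · intro v hv
    obtain ⟨r, hr, rfl⟩ := List.mem_map.mp hv
    exact mem_rootsV.mpr ⟨r, hO.1 r hr, rfl⟩
  · rw [List.pairwise_map]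
    have h1 : O.Pairwise fun a b => a ∈ O ∧ b ∈ O ∧ R.pair a b = 0 := by
      have := hO.2
      rw [List.pairwise_iff_getElem] at this ⊢
      intro i j hi hj hij
      exact ⟨List.getElem_mem hi, List.getElem_mem hj, this i j hi hj hij⟩
    refine h1.imp ?_
    rintro a b ⟨ha, hb, hab⟩
    show Bv C.D _ _ = 0
    rw [H.Bv_vecZ a b (hO.1 a ha) (hO.1 b hb), hab]

theorem SLHyp.GT_nil : (H.sys (F := F)).GT [] = C.D.group F := by
  apply le_antisymm
  · unfold SLSys.GT
    rw [Subgroup.closure_le]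
    rintro g ⟨v, hv, a, -, rfl⟩
    obtain ⟨r, hr, rfl⟩ := mem_rootsV.mp hv
    show R.xU (idx C.D (vecZ C.D r)) a ∈ _
    rw [H.idx_vecZ hr]
    exact R.xU_mem_group r hr a
  · unfold ChevalleyDatum.group
    rw [Subgroup.closure_le]
    rintro g ⟨r, t, hg⟩
    have : g = R.xU r.val t := by
      apply Units.ext
      rw [hg, R.xU_val]
      simp [ChevalleyDatum.x, r.isLt]
    rw [this]
    apply Subgroup.subset_closure
    refine ⟨vecZ C.D r.val, mem_rootsV.mpr ⟨r.val, r.isLt, rfl⟩, t, (H.sys (F := F)).perp_nil _, ?_⟩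
    show _ = R.xU (idx C.D (vecZ C.D r.val)) t
    rw [H.idx_vecZ r.isLt]

theorem SLHyp.posUnipotent_le_UPos : C.D.posUnipotent F ≤ (H.sys (F := F)).UPos := by
  unfold ChevalleyDatum.posUnipotent
  rw [Subgroup.closure_le]
  rintro g ⟨r, t, hr, hg⟩
  have : g = R.xU r t := Units.ext (by rw [hg, R.xU_val])
  rw [this]
  apply Subgroup.subset_closure
  have h7 := H.key r hr.1
  simp only [slKeyCheck, Bool.and_eq_true, decide_eq_true_eq] at h7
  refine ⟨vecZ C.D r, mem_rootsV.mpr ⟨r, hr.1, rfl⟩, t, ?_, ?_⟩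
  · show 0 < keyv C.D H.w (vecZ C.D r)
    rw [keyv_vecZ]
    exact h7.1.1.1.mp hr
  · show _ = R.xU (idx C.D (vecZ C.D r)) t
    rw [H.idx_vecZ hr.1]

theorem SLHyp.cj_iff {O O' : List ℕ} (hO : ∀ r ∈ O, r < C.D.nroots) (hO' : ∀ r ∈ O', r < C.D.nroots) :
    (H.sys (F := F)).Cj (O.map (vecZ C.D)) (O'.map (vecZ C.D)) ↔ CjI R F O O' := by
  unfold SLSys.Cj CjI
  rw [H.GT_nil, H.xs_map F O hO, H.xs_map F O' hO']

/-- every involution of the group is conjugate to a product of root elements of orthogonal roots -/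
theorem SLHyp.involution_conj (hcasc : (H.sys (F := F)).Casc [])
    (hsyl : ∃ P : Sylow 2 ↥(C.D.group F),
      (P : Subgroup ↥(C.D.group F)) = (C.D.posUnipotent F).subgroupOf (C.D.group F))
    (g : GL C.D.Idx F) (hg : g ∈ C.D.group F) (h2 : orderOf g = 2) :
    ∃ O : List ℕ, OrthI C.D R.pair O ∧ ∃ h ∈ C.D.group F, h * g * h⁻¹ = xsI R F O := by
  obtain ⟨P, hP⟩ := hsyl
  have : Finite ↥(C.D.group F) := inferInstance
  -- conjugate into the Sylow subgroup
  set t : ↥(C.D.group F) := ⟨g, hg⟩ with ht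
  have hot : orderOf t = 2 ^ 1 := by
    rw [pow_one, ← h2]
    exact Subgroup.orderOf_mk g hg
  have hp : IsPGroup 2 ↥(Subgroup.zpowers t) := IsPGroup.of_card (n := 1) (by rw [Nat.card_zpowers, hot])
  obtain ⟨Q, hQ⟩ := hp.exists_le_sylow
  obtain ⟨k, hk⟩ := MulAction.exists_smul_eq ↥(C.D.group F) Q P
  have htQ : t ∈ (Q : Subgroup ↥(C.D.group F)) := hQ (Subgroup.mem_zpowers t)
  have hktk : k * t * k⁻¹ ∈ (P : Subgroup ↥(C.D.group F)) := by
    rw [← hk, Sylow.coe_subgroup_smul, Subgroup.mem_pointwise_smul_iff_inv_smul_mem]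
    simpa [MulAut.smul_def, mul_assoc] using htQ
  rw [hP, Subgroup.mem_subgroupOf] at hktk
  have hu : ((k : GL C.D.Idx F) * g * (k : GL C.D.Idx F)⁻¹) ∈ (H.sys (F := F)).UPos :=
    H.posUnipotent_le_UPos F (by simpa using hktk)
  have hsq : ((k : GL C.D.Idx F) * g * (k : GL C.D.Idx F)⁻¹) * ((k : GL C.D.Idx F) * g * (k : GL C.D.Idx F)⁻¹) = 1 := by
    apply SLSys.conj_sq
    rw [← sq, ← h2]
    exact pow_orderOf_eq_one g
  obtain ⟨h, hh, V, hV, e⟩ := (H.sys (F := F)).involution_conj hcasc hu hsq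
  rw [H.GT_nil] at hh
  -- the indices of the vectors
  have hidx : ∀ V : List (Vec C.D.rank), (∀ v ∈ V, v ∈ rootsV C.D) →
      ∃ O : List ℕ, (∀ r ∈ O, r < C.D.nroots) ∧ O.map (vecZ C.D) = V := by
    intro V
    induction V with
    | nil => intro _; exact ⟨[], fun _ h => absurd h List.not_mem_nil, rfl⟩
    | cons v V ih =>
      intro hV
      obtain ⟨O, hO, e⟩ := ih fun u hu => hV u (List.mem_cons_of_mem _ hu)
      obtain ⟨r, hr, hrv⟩ := mem_rootsV.mp (hV v List.mem_cons_self)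
      refine ⟨r :: O, ?_, by rw [List.map_cons, e, hrv]⟩
      intro s hs
      rcases List.mem_cons.mp hs with h | h
      · rw [h]; exact hr
      · exact hO s h
  obtain ⟨O, hO, rfl⟩ := hidx V hV.1
  refine ⟨O, ⟨hO, ?_⟩, h * k, Subgroup.mul_mem _ hh k.2, ?_⟩
  · have := hV.2
    rw [List.pairwise_map] at this
    have h1 : O.Pairwise fun a b => a ∈ O ∧ b ∈ O ∧ (H.sys (F := F)).B (vecZ C.D a) (vecZ C.D b) = 0 := by
      rw [List.pairwise_iff_getElem] at this ⊢
      intro i j hi hj hij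
      exact ⟨List.getElem_mem hi, List.getElem_mem hj, this i j hi hj hij⟩
    refine h1.imp ?_
    rintro a b ⟨ha, hb, hab⟩
    rw [← H.Bv_vecZ a b (hO a ha) (hO b hb)]
    exact hab
  · rw [← H.xs_map F O hO, ← e]
    group

end

end Cfsg.Agent.Lib.Helper3.SLInv
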