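import Mathlib
import Cfsg.Prelude.Def_ChevStructure
import Cfsg.Agent.Lib.Helper3.SLBridge3
set_option autoImplicit false
set_option linter.unusedSectionVars false
set_option linter.unusedVariables false
set_option linter.unusedSimpArgs false
open Cfsg Cfsg.Lie

/-!
Reflections on root indices and the conjugacy moves on lists of indices of orthogonal roots.
-/

namespace Cfsg.Agent.Lib.Helper3.SLInv

open Cfsg.Agent.Lib.Helper3.ChevM Cfsg.Agent.Lib.Helper3 ChevU ChevT
open Cfsg.Agent.Lib.Helper3.ChevAt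

/-- the index of the sum of two roots with form value `-1` -/
def addI (D : ChevalleyDatum) (r s : ℕ) : ℕ :=
  match D.commTerms r s with
  | [(k, _, _, _)] => k
  | _ => D.nroots

/-- the reflection in the root `β` on root indices -/
def sI (D : ChevalleyDatum) (pair : ℕ → ℕ → ℤ) (β r : ℕ) : ℕ :=
  if r = β then D.neg β else if r = D.neg β then β
  else if pair r β = 0 then r else if pair r β = -1 then addI D r β else addI D r (D.neg β)

/-- the product of the reflections of a word, the last letter acting first -/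
def sIW (D : ChevalleyDatum) (pair : ℕ → ℕ → ℤ) : List ℕ → ℕ → ℕ
  | [], r => r
  | β :: w, r => sI D pair β (sIW D pair w r)

theorem sIW_append (D : ChevalleyDatum) (pair : ℕ → ℕ → ℤ) (w w' : List ℕ) (r : ℕ) :
    sIW D pair (w ++ w') r = sIW D pair w (sIW D pair w' r) := by
  induction w with
  | nil => rfl
  | cons β w ih => simp only [List.cons_append, sIW]; rw [ih]

section
variable {C : CDatum} {R : RelData C} (H : SLHyp C R)
include H

theorem SLHyp.neg_neg {r : ℕ} (hr : r < C.D.nroots) : C.D.neg (C.D.neg r) = r :=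
  (signCheck_spec (H.A.sign r hr)).2.2

theorem SLHyp.pair_neg_right {r s : ℕ} (hr : r < C.D.nroots) (hs : s < C.D.nroots) :
    R.pair r (C.D.neg s) = - R.pair r s := by
  rw [← H.Bv_vecZ r _ hr (R.neg_lt s hs), ← H.Bv_vecZ r s hr hs, H.vecZ_neg hs]
  unfold Bv
  rw [← Finset.sum_neg_distrib]
  apply Finset.sum_congr rfl
  intro i _
  rw [← Finset.sum_neg_distrib]
  apply Finset.sum_congr rfl
  intro j _
  simp only [Pi.neg_apply]
  ring

theorem SLHyp.pair_symm {r s : ℕ} (hr : r < C.D.nroots) (hs : s < C.D.nroots) : R.pair r s = R.pair s r := by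
  rw [← H.Bv_vecZ r s hr hs, ← H.Bv_vecZ s r hs hr, H.Bv_symm]

theorem SLHyp.pair_self {r : ℕ} (hr : r < C.D.nroots) : R.pair r r = 2 := by
  rcases H.pair_cases r r hr hr with ⟨-, h5⟩ | h5 | ⟨h5, -⟩ | ⟨h5, -⟩
  · exact h5
  · exfalso
    have := H.vecZ_neg hr
    rw [← h5] at this
    have h6 : vecZ C.D r = 0 := by
      funext i
      have := congrFun this i
      simp only [Pi.neg_apply, Pi.zero_apply] at this ⊢
      omega
    have h7 := H.key r hr
    simp only [slKeyCheck, Bool.and_eq_true, decide_eq_true_eq] at h7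
    apply h7.1.2
    rw [← keyv_vecZ, h6]
    simp [keyv]
  · exact absurd rfl h5
  · exact absurd rfl h5

end

section
variable {C : CDatum} {R : RelData C} (H : SLHyp C R) (F : Type*) [Field F] [Fintype F] [CharP F 2]
include H

/-- the reflection on indices represents the reflection on vectors -/
theorem SLHyp.sI_spec {β r : ℕ} (hβ : β < C.D.nroots) (hr : r < C.D.nroots) :
    sI C.D R.pair β r < C.D.nroots ∧
      vecZ C.D (sI C.D R.pair β r) = (H.sys (F := F)).sr (vecZ C.D β) (vecZ C.D r) := by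
  have hβm : vecZ C.D β ∈ (H.sys (F := F)).roots := mem_rootsV.mpr ⟨β, hβ, rfl⟩
  have hB : (H.sys (F := F)).B (vecZ C.D r) (vecZ C.D β) = R.pair r β := H.Bv_vecZ r β hr hβ
  unfold sI
  by_cases h1 : r = β
  · rw [if_pos h1, h1, (H.sys (F := F)).sr_self _ hβm]
    exact ⟨R.neg_lt β hβ, H.vecZ_neg hβ⟩
  · rw [if_neg h1]
    by_cases h2 : r = C.D.neg β
    · rw [if_pos h2, h2, H.vecZ_neg hβ, (H.sys (F := F)).sr_neg_self _ hβm]
      exact ⟨hβ, rfl⟩
    · rw [if_neg h2]
      have h3 : β ≠ r := fun e => h1 e.symm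
      have h4 : β ≠ C.D.neg r := by
        intro e
        apply h2
        rw [e, H.neg_neg hr]
      by_cases h5 : R.pair r β = 0
      · rw [if_pos h5, (H.sys (F := F)).sr_of_zero (hB.trans h5)]
        exact ⟨hr, rfl⟩
      · rw [if_neg h5]
        by_cases h6 : R.pair r β = -1
        · rw [if_pos h6, (H.sys (F := F)).sr_of_neg_one (hB.trans h6)]
          rcases H.pair_cases r β hr hβ with ⟨h7, -⟩ | h7 | ⟨-, -, -, k, c, hk, -, hct, hv⟩ | ⟨-, -, h7, -⟩
          · exact absurd h7 h3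
          · exact absurd h7 h4
          · unfold addI
            rw [hct]
            exact ⟨hk, hv⟩
          · omega
        · rw [if_neg h6]
          have hnβ := R.neg_lt β hβ
          have h7 : R.pair r β = 1 := by
            rcases H.pair_cases r β hr hβ with ⟨h7, -⟩ | h7 | ⟨-, -, h7, -⟩ | ⟨-, -, h7, -⟩
            · exact absurd h7 h3
            · exact absurd h7 h4
            · exact absurd h7 h6
            · rcases h7 with h7 | h7
              · exact absurd h7 h5
              · exact h7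
          rw [(H.sys (F := F)).sr_of_one (hB.trans h7)]
          have h8 : R.pair r (C.D.neg β) = -1 := by rw [H.pair_neg_right hr hβ, h7]
          rcases H.pair_cases r (C.D.neg β) hr hnβ with ⟨h9, -⟩ | h9 | ⟨-, -, -, k, c, hk, -, hct, hv⟩ | ⟨-, -, h9, -⟩
          · exact absurd h9.symm h2
          · exfalso
            apply h1
            have := congrArg C.D.neg h9
            rw [H.neg_neg hβ, H.neg_neg hr] at this
            exact this.symm
          · unfold addI
            rw [hct]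
            refine ⟨hk, ?_⟩
            rw [hv, H.vecZ_neg hβ, sub_eq_add_neg]
          · omega

include F in
theorem SLHyp.sI_lt {β r : ℕ} (hβ : β < C.D.nroots) (hr : r < C.D.nroots) : sI C.D R.pair β r < C.D.nroots :=
  (H.sI_spec F hβ hr).1

include F in
theorem SLHyp.pair_sI {β r s : ℕ} (hβ : β < C.D.nroots) (hr : r < C.D.nroots) (hs : s < C.D.nroots) :
    R.pair (sI C.D R.pair β r) (sI C.D R.pair β s) = R.pair r s := by
  obtain ⟨h1, h2⟩ := H.sI_spec F hβ hr
  obtain ⟨h3, h4⟩ := H.sI_spec F hβ hs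
  rw [← H.Bv_vecZ _ _ h1 h3, h2, h4, ← H.Bv_vecZ r s hr hs]
  exact (H.sys (F := F)).B_sr_sr (mem_rootsV.mpr ⟨β, hβ, rfl⟩) _ _

theorem SLHyp.sI_fix {β t : ℕ} (hβ : β < C.D.nroots) (ht : t < C.D.nroots) (h : R.pair t β = 0) :
    sI C.D R.pair β t = t := by
  unfold sI
  have h1 : t ≠ β := by
    intro e
    rw [e, H.pair_self hβ] at h
    omega
  have h2 : t ≠ C.D.neg β := by
    intro e
    have := H.pair_neg_right hβ hβ
    rw [H.pair_self hβ, H.pair_symm hβ (R.neg_lt β hβ), ← e, h] at this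
    omega
  rw [if_neg h1, if_neg h2, if_pos h]

include F in
theorem SLHyp.sIW_lt {w : List ℕ} (hw : ∀ β ∈ w, β < C.D.nroots) {r : ℕ} (hr : r < C.D.nroots) :
    sIW C.D R.pair w r < C.D.nroots := by
  induction w with
  | nil => exact hr
  | cons β w ih =>
    exact H.sI_lt F (hw β List.mem_cons_self) (ih fun b hb => hw b (List.mem_cons_of_mem _ hb))

include F in
theorem SLHyp.pair_sIW {w : List ℕ} (hw : ∀ β ∈ w, β < C.D.nroots) {r s : ℕ} (hr : r < C.D.nroots)
    (hs : s < C.D.nroots) : R.pair (sIW C.D R.pair w r) (sIW C.D R.pair w s) = R.pair r s := by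
  induction w with
  | nil => rfl
  | cons β w ih =>
    have hw' : ∀ b ∈ w, b < C.D.nroots := fun b hb => hw b (List.mem_cons_of_mem _ hb)
    show R.pair (sI C.D R.pair β _) (sI C.D R.pair β _) = _
    rw [H.pair_sI F (hw β List.mem_cons_self) (H.sIW_lt F hw' hr) (H.sIW_lt F hw' hs), ih hw']

theorem SLHyp.sIW_fix {w : List ℕ} (hw : ∀ β ∈ w, β < C.D.nroots) {t : ℕ} (ht : t < C.D.nroots)
    (h : ∀ β ∈ w, R.pair t β = 0) : sIW C.D R.pair w t = t := by
  induction w with
  | nil => rfl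
  | cons β w ih =>
    show sI C.D R.pair β (sIW C.D R.pair w t) = t
    rw [ih (fun b hb => hw b (List.mem_cons_of_mem _ hb)) (fun b hb => h b (List.mem_cons_of_mem _ hb))]
    exact H.sI_fix (hw β List.mem_cons_self) ht (h β List.mem_cons_self)

/-! ### the conjugacy moves -/

omit H [Fintype F] [CharP F 2] in
theorem CjI.rfl' (O : List ℕ) : CjI R F O O := ⟨1, Subgroup.one_mem _, by group⟩

omit H [Fintype F] [CharP F 2] in
theorem CjI.trans {O O' O'' : List ℕ} (h : CjI R F O O') (h' : CjI R F O' O'') : CjI R F O O'' := by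
  obtain ⟨g, hg, e⟩ := h
  obtain ⟨g', hg', e'⟩ := h'
  exact ⟨g' * g, Subgroup.mul_mem _ hg' hg, by rw [← SLSys.conj_conj, e, e']⟩

omit H [Fintype F] [CharP F 2] in
theorem CjI.symm {O O' : List ℕ} (h : CjI R F O O') : CjI R F O' O := by
  obtain ⟨g, hg, e⟩ := h
  exact ⟨g⁻¹, Subgroup.inv_mem _ hg, by rw [← e]; group⟩

theorem SLHyp.cjI_perm {O O' : List ℕ} (hO : OrthI C.D R.pair O) (h : O.Perm O') : CjI R F O O' := by
  rw [← H.cj_iff F hO.1 (fun r hr => hO.1 r (h.symm.subset hr))]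
  exact SLSys.Cj.of_perm _ (H.orth_map F hO) (h.map _)

theorem SLHyp.orthI_perm {O O' : List ℕ} (hO : OrthI C.D R.pair O) (h : O.Perm O') : OrthI C.D R.pair O' := by
  refine ⟨fun r hr => hO.1 r (h.symm.subset hr), ?_⟩
  have h1 : O.Pairwise fun a b => a ∈ O ∧ b ∈ O ∧ R.pair a b = 0 := by
    have := hO.2
    rw [List.pairwise_iff_getElem] at this ⊢
    intro i j hi hj hij
    exact ⟨List.getElem_mem hi, List.getElem_mem hj, this i j hi hj hij⟩
  have h2 := h.pairwise h1 (fun {a b} hab => ⟨hab.2.1, hab.1, by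
    rw [H.pair_symm (hO.1 b hab.2.1) (hO.1 a hab.1)]; exact hab.2.2⟩)
  exact h2.imp fun hab => hab.2.2

theorem SLHyp.cjI_refl {β : ℕ} (hβ : β < C.D.nroots) {O : List ℕ} (hO : ∀ r ∈ O, r < C.D.nroots) :
    CjI R F O (O.map (sI C.D R.pair β)) := by
  have hO' : ∀ r ∈ O.map (sI C.D R.pair β), r < C.D.nroots := by
    intro r hr
    obtain ⟨s, hs, rfl⟩ := List.mem_map.mp hr
    exact H.sI_lt F hβ (hO s hs)
  rw [← H.cj_iff F hO hO']
  have := SLSys.Cj.of_refl (H.sys (F := F)) (mem_rootsV.mpr ⟨β, hβ, rfl⟩) (O := O.map (vecZ C.D)) (by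
    intro v hv
    obtain ⟨r, hr, rfl⟩ := List.mem_map.mp hv
    exact mem_rootsV.mpr ⟨r, hO r hr, rfl⟩)
  rw [List.map_map] at this ⊢
  have e : (H.sys (F := F)).sr (vecZ C.D β) ∘ vecZ C.D = fun r => (H.sys (F := F)).sr (vecZ C.D β) (vecZ C.D r) := rfl
  rw [e] at this
  have e2 : O.map (vecZ C.D ∘ sI C.D R.pair β) = O.map fun r => (H.sys (F := F)).sr (vecZ C.D β) (vecZ C.D r) := by
    apply List.map_congr_left
    intro r hr
    exact (H.sI_spec F hβ (hO r hr)).2
  rw [e2]
  exact this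

include F in
theorem SLHyp.orthI_map_sI {β : ℕ} (hβ : β < C.D.nroots) {O : List ℕ} (hO : OrthI C.D R.pair O) :
    OrthI C.D R.pair (O.map (sI C.D R.pair β)) := by
  refine ⟨?_, ?_⟩
  · intro r hr
    obtain ⟨s, hs, rfl⟩ := List.mem_map.mp hr
    exact H.sI_lt F hβ (hO.1 s hs)
  · rw [List.pairwise_map]
    have h1 : O.Pairwise fun a b => a ∈ O ∧ b ∈ O ∧ R.pair a b = 0 := by
      have := hO.2
      rw [List.pairwise_iff_getElem] at this ⊢
      intro i j hi hj hij
      exact ⟨List.getElem_mem hi, List.getElem_mem hj, this i j hi hj hij⟩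
    refine h1.imp ?_
    rintro a b ⟨ha, hb, hab⟩
    rw [H.pair_sI F hβ (hO.1 a ha) (hO.1 b hb), hab]

theorem SLHyp.cjI_word {w : List ℕ} (hw : ∀ β ∈ w, β < C.D.nroots) {O : List ℕ} (hO : OrthI C.D R.pair O) :
    CjI R F O (O.map (sIW C.D R.pair w)) ∧ OrthI C.D R.pair (O.map (sIW C.D R.pair w)) := by
  induction w with
  | nil =>
    have : O.map (sIW C.D R.pair []) = O := by
      show O.map (fun r => r) = O
      simp
    rw [this]
    exact ⟨CjI.rfl' F O, hO⟩
  | cons β w ih =>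
    obtain ⟨h1, h2⟩ := ih fun b hb => hw b (List.mem_cons_of_mem _ hb)
    have e : O.map (sIW C.D R.pair (β :: w)) = (O.map (sIW C.D R.pair w)).map (sI C.D R.pair β) := by
      rw [List.map_map]; rfl
    rw [e]
    exact ⟨CjI.trans F h1 (H.cjI_refl F (hw β List.mem_cons_self) h2.1), H.orthI_map_sI F (hw β List.mem_cons_self) h2⟩

/-- the check of a quadruple in a subsystem of type `D₄` -/
def d4Check (D : ChevalleyDatum) (pair : ℕ → ℕ → ℤ) (d g a b e : ℕ) : Bool :=
  decide (d < D.nroots) && decide (pair d a = -1) && decide (pair d b = -1) && decide (pair d e = -1) &&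
    (List.range D.rank).all fun i => decide (cz D g i = 2 * cz D d i + cz D a i + cz D b i + cz D e i)

theorem SLHyp.cjI_d4 {d g a b e : ℕ} {L : List ℕ} (hO : OrthI C.D R.pair (g :: a :: b :: e :: L))
    (h : d4Check C.D R.pair d g a b e = true) :
    CjI R F (g :: a :: b :: e :: L) (a :: b :: e :: L) ∧ OrthI C.D R.pair (a :: b :: e :: L) := by
  simp only [d4Check, Bool.and_eq_true, decide_eq_true_eq, List.all_eq_true, List.mem_range] at h
  obtain ⟨⟨⟨⟨hd, hda⟩, hdb⟩, hde⟩, hvec⟩ := h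
  have hO' : OrthI C.D R.pair (a :: b :: e :: L) :=
    ⟨fun r hr => hO.1 r (List.mem_cons_of_mem _ hr), (List.pairwise_cons.mp hO.2).2⟩
  refine ⟨?_, hO'⟩
  apply CjI.symm
  rw [← H.cj_iff F hO'.1 hO.1]
  set S := H.sys (F := F) with hS
  have hg := hO.1 g List.mem_cons_self
  have ha := hO'.1 a List.mem_cons_self
  have hb := hO'.1 b (List.mem_cons_of_mem _ List.mem_cons_self)
  have he := hO'.1 e (List.mem_cons_of_mem _ (List.mem_cons_of_mem _ List.mem_cons_self))
  have hL : ∀ o ∈ L, o < C.D.nroots := fun o ho => hO'.1 o (List.mem_cons_of_mem _ (List.mem_cons_of_mem _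
    (List.mem_cons_of_mem _ ho)))
  have mem : ∀ {r : ℕ}, r < C.D.nroots → vecZ C.D r ∈ S.roots := fun hr => mem_rootsV.mpr ⟨_, hr, rfl⟩
  have hBv : ∀ {r s : ℕ}, r < C.D.nroots → s < C.D.nroots → S.B (vecZ C.D r) (vecZ C.D s) = R.pair r s :=
    fun hr hs => H.Bv_vecZ _ _ hr hs
  have hvg : vecZ C.D g = vecZ C.D d + vecZ C.D d + vecZ C.D a + vecZ C.D b + vecZ C.D e := by
    funext i
    have := hvec i.val i.isLt
    simp only [vecZ, Pi.add_apply]
    rw [this]; ring
  -- orthogonality relations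
  have p1 := List.pairwise_cons.mp hO.2
  have p2 := List.pairwise_cons.mp p1.2
  have p3 := List.pairwise_cons.mp p2.2
  have p4 := List.pairwise_cons.mp p3.2
  have hab : R.pair a b = 0 := p2.1 b List.mem_cons_self
  have hae : R.pair a e = 0 := p2.1 e (List.mem_cons_of_mem _ List.mem_cons_self)
  have hbe : R.pair b e = 0 := p3.1 e List.mem_cons_self
  have hRest : ∀ o ∈ L.map (vecZ C.D), S.B (vecZ C.D a) o = 0 ∧ S.B (vecZ C.D b) o = 0 ∧
      S.B (vecZ C.D e) o = 0 ∧ S.B (vecZ C.D d) o = 0 := by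
    intro v hv
    obtain ⟨o, ho, rfl⟩ := List.mem_map.mp hv
    have ho' := hL o ho
    have q1 : R.pair a o = 0 := p2.1 o (List.mem_cons_of_mem _ (List.mem_cons_of_mem _ ho))
    have q2 : R.pair b o = 0 := p3.1 o (List.mem_cons_of_mem _ ho)
    have q3 : R.pair e o = 0 := p4.1 o ho
    have q4 : R.pair g o = 0 := p1.1 o (List.mem_cons_of_mem _ (List.mem_cons_of_mem _ (List.mem_cons_of_mem _ ho)))
    rw [hBv ha ho', hBv hb ho', hBv he ho', hBv hd ho']
    refine ⟨q1, q2, q3, ?_⟩
    have := hBv hg ho'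
    rw [hvg, S.B_add_left, S.B_add_left, S.B_add_left, S.B_add_left, hBv hd ho', hBv ha ho', hBv hb ho',
      hBv he ho', q1, q2, q3, q4] at this
    omega
  obtain ⟨hroot, k, hk, e1⟩ := S.d4_fuse (mem ha) (mem hb) (mem he) (mem hd)
    ((hBv ha hb).trans hab) ((hBv ha he).trans hae) ((hBv hb he).trans hbe)
    ((hBv hd ha).trans hda) ((hBv hd hb).trans hdb) ((hBv hd he).trans hde) (L.map (vecZ C.D)) hRest
  have hk0 : k ∈ S.GT [] := by
    have := S.GT_append_le (L.map (vecZ C.D)) [] (by rwa [List.append_nil])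
    exact this
  have hcomm : k * S.xs (L.map (vecZ C.D)) = S.xs (L.map (vecZ C.D)) * k :=
    (S.perp_comm (fun v hv => by
      obtain ⟨o, ho, rfl⟩ := List.mem_map.mp hv
      exact mem (hL o ho)) hk).2.1
  refine ⟨k, hk0, ?_⟩
  simp only [List.map_cons, SLSys.xs_cons]
  rw [hvg]
  -- the root element of the sum commutes with the three others
  have hBg : ∀ {r : ℕ}, r < C.D.nroots → R.pair g r = 0 → 0 ≤ S.B (vecZ C.D d + vecZ C.D d + vecZ C.D a + vecZ C.D b + vecZ C.D e) (vecZ C.D r) := by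
    intro r hr h0
    rw [← hvg, hBv hg hr, h0]
  have c1 := S.x_comm _ hroot _ (mem ha) (hBg ha (p1.1 a List.mem_cons_self)) (1 : F) 1
  have c2 := S.x_comm _ hroot _ (mem hb) (hBg hb (p1.1 b (List.mem_cons_of_mem _ List.mem_cons_self))) (1 : F) 1
  have c3 := S.x_comm _ hroot _ (mem he) (hBg he (p1.1 e (List.mem_cons_of_mem _ (List.mem_cons_of_mem _ List.mem_cons_self)))) (1 : F) 1
  set A := S.x (vecZ C.D a) 1
  set B := S.x (vecZ C.D b) 1
  set E := S.x (vecZ C.D e) 1
  set Gm := S.x (vecZ C.D d + vecZ C.D d + vecZ C.D a + vecZ C.D b + vecZ C.D e) 1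
  set X := S.xs (L.map (vecZ C.D))
  calc k * (A * (B * (E * X))) * k⁻¹ = (k * (A * B * E) * k⁻¹) * (k * X) * k⁻¹ := by group
    _ = (A * B * E * Gm) * (X * k) * k⁻¹ := by rw [e1, hcomm]
    _ = A * B * (E * Gm) * X := by group
    _ = A * (B * Gm) * E * X := by rw [← c3]; group
    _ = (A * Gm) * B * E * X := by rw [← c2]; group
    _ = Gm * (A * (B * (E * X))) := by rw [← c1]; group

end

end Cfsg.Agent.Lib.Helper3.SLInv
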