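import Mathlib
import Cfsg.Prelude.Def_ChevStructure
import Cfsg.Agent.Lib.Helper3.SLBridge4
set_option autoImplicit false
set_option linter.unusedSectionVars false
set_option linter.unusedVariables false
set_option linter.unusedSimpArgs false
open Cfsg Cfsg.Lie

/-!
The cascade check on root indices, and the classification of the products of root elements of orthogonal roots
up to conjugacy from a tree of representatives of orthogonal lists.
-/

namespace Cfsg.Agent.Lib.Helper3.SLInv

open Cfsg.Agent.Lib.Helper3.ChevM Cfsg.Agent.Lib.Helper3 ChevU ChevT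
open Cfsg.Agent.Lib.Helper3.ChevAt

/-- orthogonality of the root `r` to the roots of the list -/
def perpI (pair : ℕ → ℕ → ℤ) (T : List ℕ) (r : ℕ) : Bool := T.all fun t => decide (pair r t = 0)

def domCheck (D : ChevalleyDatum) (pair : ℕ → ℕ → ℤ) (w : ℕ → ℤ) (T : List ℕ) (γ : ℕ) : Bool :=
  decide (γ < D.nroots) && decide (0 < keyI D w γ) && perpI pair T γ &&
    (List.range D.nroots).all fun r => !(decide (0 < keyI D w r) && perpI pair T r) || decide (0 ≤ pair r γ)

def cascCheck (D : ChevalleyDatum) (pair : ℕ → ℕ → ℤ) (w : ℕ → ℤ) : List ℕ → List ℕ → Bool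
  | T, [] => (List.range D.nroots).all fun r => !(decide (0 < keyI D w r) && perpI pair T r)
  | T, γ :: rest => domCheck D pair w T γ && cascCheck D pair w (γ :: T) rest

section
variable {C : CDatum} {R : RelData C} (H : SLHyp C R) (F : Type*) [Field F] [Fintype F] [CharP F 2]
include H

theorem SLHyp.perp_iff {T : List ℕ} (hT : ∀ t ∈ T, t < C.D.nroots) {r : ℕ} (hr : r < C.D.nroots) :
    (H.sys (F := F)).perp (T.map (vecZ C.D)) (vecZ C.D r) ↔ perpI R.pair T r = true := by
  unfold SLSys.perp perpI
  simp only [List.mem_map, forall_exists_index, and_imp, forall_apply_eq_imp_iff₂, List.all_eq_true,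
    decide_eq_true_eq]
  constructor
  · intro h t ht
    rw [← H.Bv_vecZ r t hr (hT t ht)]
    exact h t ht
  · intro h t ht
    show Bv C.D _ _ = 0
    rw [H.Bv_vecZ r t hr (hT t ht)]
    exact h t ht

theorem SLHyp.casc_of_check : ∀ (γs T : List ℕ), (∀ t ∈ T, t < C.D.nroots) →
    cascCheck C.D R.pair H.w T γs = true → (H.sys (F := F)).Casc (T.map (vecZ C.D)) := by
  intro γs
  induction γs with
  | nil =>
    intro T hT h
    apply SLSys.Casc.base
    intro v hv hk hp
    obtain ⟨r, hr, rfl⟩ := mem_rootsV.mp hv
    simp only [cascCheck, List.all_eq_true, List.mem_range, Bool.not_eq_true', Bool.and_eq_false_iff,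
      decide_eq_false_iff_not] at h
    rcases h r hr with h1 | h1
    · apply h1
      rw [← keyv_vecZ]
      exact hk
    · rw [(H.perp_iff F hT hr).mp hp] at h1
      exact absurd h1 (by simp)
  | cons γ γs ih =>
    intro T hT h
    simp only [cascCheck, Bool.and_eq_true] at h
    obtain ⟨hd, hrest⟩ := h
    simp only [domCheck, Bool.and_eq_true, decide_eq_true_eq, List.all_eq_true, List.mem_range, Bool.or_eq_true,
      Bool.not_eq_true', Bool.and_eq_false_iff, decide_eq_false_iff_not] at hd
    obtain ⟨⟨⟨hγ, hkγ⟩, hpγ⟩, hdom⟩ := hd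
    have hT' : ∀ t ∈ γ :: T, t < C.D.nroots := by
      intro t ht
      rcases List.mem_cons.mp ht with h | h
      · rw [h]; exact hγ
      · exact hT t h
    refine SLSys.Casc.step _ (vecZ C.D γ) ?_ (by
      have := ih (γ :: T) hT' hrest
      rwa [List.map_cons] at this)
    refine ⟨mem_rootsV.mpr ⟨γ, hγ, rfl⟩, ?_, (H.perp_iff F hT hγ).mpr hpγ, ?_⟩
    · show 0 < keyv C.D H.w (vecZ C.D γ)
      rw [keyv_vecZ]; exact hkγ
    · intro v hv hk hp
      obtain ⟨r, hr, rfl⟩ := mem_rootsV.mp hv
      show 0 ≤ Bv C.D _ _
      rw [H.Bv_vecZ r γ hr hγ]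
      rcases hdom r hr with h1 | h1
      · rcases h1 with h1 | h1
        · exfalso
          apply h1
          rw [← keyv_vecZ]
          exact hk
        · rw [(H.perp_iff F hT hr).mp hp] at h1
          exact absurd h1 (by simp)
      · exact h1

end

/-- the data of the tree of representatives -/
structure OrbData where
  nodes : List (List ℕ)
  dsc : List ℕ → ℕ → ℕ
  fuel : ℕ
  reps : List (List ℕ)
  kindA : List ℕ → List ℕ × ℕ
  kindB : List ℕ → Option (ℕ × ℕ × ℕ × ℕ × ℕ × List ℕ)

def descOK (D : ChevalleyDatum) (pair : ℕ → ℕ → ℤ) (X : OrbData) (N : List ℕ) : ℕ → ℕ → Bool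
  | 0, _ => false
  | f + 1, r =>
    if X.dsc N r = D.nroots then decide ((r :: N) ∈ X.nodes)
    else decide (X.dsc N r < D.nroots) && perpI pair N (X.dsc N r) &&
      descOK D pair X N f (sI D pair (X.dsc N r) r)

def nodeOK (D : ChevalleyDatum) (pair : ℕ → ℕ → ℤ) (X : OrbData) (N : List ℕ) : Bool :=
  match X.kindB N with
  | some (d, g, a, b, e, N') => N.isPerm (g :: a :: b :: e :: N') && d4Check D pair d g a b e
  | none => decide (N.length < 5) && (X.kindA N).1.all (fun β => decide (β < D.nroots)) &&
      (N.map (sIW D pair (X.kindA N).1)).isPerm (X.reps.getD (X.kindA N).2 []) &&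
      decide ((X.kindA N).2 < X.reps.length)

def treeOK (D : ChevalleyDatum) (pair : ℕ → ℕ → ℤ) (X : OrbData) : Bool :=
  decide ([] ∈ X.nodes) && X.nodes.all fun N =>
    nodeOK D pair X N && N.all (fun r => decide (r < D.nroots)) &&
    (decide (5 ≤ N.length) ||
      (List.range D.nroots).all fun r => !(perpI pair N r) || descOK D pair X N X.fuel r)

section
variable {C : CDatum} {R : RelData C} (H : SLHyp C R) (F : Type*) [Field F] [Fintype F] [CharP F 2]
  (X : OrbData)
include H

include F in
/-- descent to a child of a node -/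
theorem SLHyp.descent {N : List ℕ} (hN : ∀ t ∈ N, t < C.D.nroots) : ∀ (f r : ℕ), r < C.D.nroots →
    perpI R.pair N r = true → descOK C.D R.pair X N f r = true →
    ∃ w : List ℕ, (∀ β ∈ w, β < C.D.nroots ∧ perpI R.pair N β = true) ∧
      (sIW C.D R.pair w r :: N) ∈ X.nodes := by
  intro f
  induction f with
  | zero => intro r _ _ h; exact absurd h (by simp [descOK])
  | succ f ih =>
    intro r hr hp h
    unfold descOK at h
    by_cases h1 : X.dsc N r = C.D.nroots
    · rw [if_pos h1] at h
      refine ⟨[], fun _ hb => absurd hb List.not_mem_nil, ?_⟩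
      show (r :: N) ∈ X.nodes
      simpa using h
    · rw [if_neg h1] at h
      simp only [Bool.and_eq_true, decide_eq_true_eq] at h
      obtain ⟨⟨hβ, hβp⟩, hrec⟩ := h
      set β := X.dsc N r with hβdef
      have hr' : sI C.D R.pair β r < C.D.nroots := H.sI_lt F hβ hr
      have hp' : perpI R.pair N (sI C.D R.pair β r) = true := by
        unfold perpI at hp hβp ⊢
        simp only [List.all_eq_true, decide_eq_true_eq] at hp hβp ⊢
        intro t ht
        have htβ : R.pair t β = 0 := by rw [H.pair_symm (hN t ht) hβ]; exact hβp t ht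
        have := H.pair_sI F hβ hr (hN t ht)
        rw [H.sI_fix hβ (hN t ht) htβ] at this
        rw [this]
        exact hp t ht
      obtain ⟨w, hw, hmem⟩ := ih _ hr' hp' hrec
      refine ⟨w ++ [β], ?_, ?_⟩
      · intro b hb
        rcases List.mem_append.mp hb with h | h
        · exact hw b h
        · rw [List.mem_singleton.mp h]; exact ⟨hβ, hβp⟩
      · rw [sIW_append]
        exact hmem

include F in
/-- every orthogonal list of length at most five is mapped to a node by a product of reflections -/
theorem SLHyp.to_node (hX : treeOK C.D R.pair X = true) : ∀ (O : List ℕ), OrthI C.D R.pair O →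
    O.length ≤ 5 → ∃ w : List ℕ, (∀ β ∈ w, β < C.D.nroots) ∧ O.map (sIW C.D R.pair w) ∈ X.nodes := by
  simp only [treeOK, Bool.and_eq_true, decide_eq_true_eq, List.all_eq_true, Bool.or_eq_true, List.mem_range,
    Bool.not_eq_true'] at hX
  obtain ⟨hnil, hnodes⟩ := hX
  intro O
  induction O with
  | nil => intro _ _; exact ⟨[], fun _ h => absurd h List.not_mem_nil, by simpa using hnil⟩
  | cons o O ih =>
    intro hO hlen
    have hO1 : OrthI C.D R.pair O := ⟨fun r hr => hO.1 r (List.mem_cons_of_mem _ hr), (List.pairwise_cons.mp hO.2).2⟩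
    obtain ⟨w1, hw1, hN⟩ := ih hO1 (by simp at hlen; omega)
    set N := O.map (sIW C.D R.pair w1) with hNdef
    obtain ⟨⟨-, hNlt⟩, hdesc⟩ := hnodes N hN
    have hNlt' : ∀ t ∈ N, t < C.D.nroots := by
      intro t ht
      exact hNlt t ht
    have hNlen : N.length < 5 := by
      rw [hNdef, List.length_map]
      simp at hlen
      omega
    have ho := hO.1 o List.mem_cons_self
    set o1 := sIW C.D R.pair w1 o with ho1
    have ho1lt : o1 < C.D.nroots := H.sIW_lt F hw1 ho
    have hperp : perpI R.pair N o1 = true := by
      unfold perpI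
      simp only [List.all_eq_true, decide_eq_true_eq]
      intro t ht
      rw [hNdef] at ht
      obtain ⟨t0, ht0, rfl⟩ := List.mem_map.mp ht
      rw [ho1, H.pair_sIW F hw1 ho (hO1.1 t0 ht0)]
      exact (List.pairwise_cons.mp hO.2).1 t0 ht0
    rcases hdesc with h5 | hdesc
    · omega
    · rcases hdesc o1 ho1lt with h | h
      · rw [hperp] at h; exact absurd h (by simp)
      · obtain ⟨w2, hw2, hmem⟩ := H.descent F X hNlt' _ o1 ho1lt hperp h
        refine ⟨w2 ++ w1, ?_, ?_⟩
        · intro b hb
          rcases List.mem_append.mp hb with h | h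
          · exact (hw2 b h).1
          · exact hw1 b h
        · have e : (o :: O).map (sIW C.D R.pair (w2 ++ w1)) = sIW C.D R.pair w2 o1 :: N := by
            rw [List.map_cons, sIW_append]
            congr 1
            rw [hNdef]
            apply List.map_congr_left
            intro t ht
            rw [sIW_append]
            apply H.sIW_fix (fun b hb => (hw2 b hb).1) (H.sIW_lt F hw1 (hO1.1 t ht))
            intro b hb
            have := (hw2 b hb).2
            unfold perpI at this
            simp only [List.all_eq_true, decide_eq_true_eq] at this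
            have h3 := this (sIW C.D R.pair w1 t) (List.mem_map.mpr ⟨t, ht, rfl⟩)
            rw [H.pair_symm (H.sIW_lt F hw1 (hO1.1 t ht)) (hw2 b hb).1]
            exact h3
          rw [e]
          exact hmem

/-- the classification of the products over orthogonal lists up to conjugacy -/
theorem SLHyp.classify (hX : treeOK C.D R.pair X = true) : ∀ (n : ℕ) (O : List ℕ), O.length = n →
    OrthI C.D R.pair O → ∃ rep ∈ X.reps, CjI R F O rep := by
  have hX' := hX
  simp only [treeOK, Bool.and_eq_true, decide_eq_true_eq, List.all_eq_true, Bool.or_eq_true, List.mem_range,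
    Bool.not_eq_true'] at hX'
  obtain ⟨-, hnodes⟩ := hX'
  intro n
  induction n using Nat.strong_induction_on with
  | _ n ih =>
    intro O hlen hO
    have hsplit : O = O.take 5 ++ O.drop 5 := (List.take_append_drop 5 O).symm
    have hO5 : OrthI C.D R.pair (O.take 5) :=
      ⟨fun r hr => hO.1 r (List.mem_of_mem_take hr), hO.2.sublist (List.take_sublist 5 O)⟩
    obtain ⟨w, hw, hN⟩ := H.to_node F X hX (O.take 5) hO5 (by rw [List.length_take]; omega)
    obtain ⟨hcj, hL⟩ := H.cjI_word F hw hO
    set L := O.map (sIW C.D R.pair w) with hLdef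
    set N := (O.take 5).map (sIW C.D R.pair w) with hNdef
    set rest := (O.drop 5).map (sIW C.D R.pair w) with hrest
    have hLsplit : L = N ++ rest := by
      rw [hLdef, hNdef, hrest, ← List.map_append, ← hsplit]
    obtain ⟨⟨hnode, -⟩, -⟩ := hnodes N hN
    unfold nodeOK at hnode
    split at hnode
    · -- a node with a quadruple
      rename_i d g a b e N' hk
      simp only [Bool.and_eq_true, List.isPerm_iff] at hnode
      obtain ⟨hperm, hd4⟩ := hnode
      have hperm' : L.Perm (g :: a :: b :: e :: (N' ++ rest)) := by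
        rw [hLsplit]
        exact (hperm.append_right rest)
      have hL' := H.orthI_perm hL hperm'
      obtain ⟨hcj2, hL2⟩ := H.cjI_d4 F hL' hd4
      have hlen2 : (a :: b :: e :: (N' ++ rest)).length < n := by
        have := hperm'.length_eq
        rw [hLdef, List.length_map, hlen] at this
        simp only [List.length_cons] at this ⊢
        omega
      obtain ⟨rep, hrep, hcj3⟩ := ih _ hlen2 _ rfl hL2
      exact ⟨rep, hrep, CjI.trans F hcj (CjI.trans F (H.cjI_perm F hL hperm') (CjI.trans F hcj2 hcj3))⟩
    · -- a free node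
      simp only [Bool.and_eq_true, decide_eq_true_eq, List.all_eq_true, List.isPerm_iff] at hnode
      obtain ⟨⟨⟨hlt5, hw'⟩, hperm⟩, hk⟩ := hnode
      have hrest0 : rest = [] := by
        rw [hNdef, List.length_map, List.length_take] at hlt5
        have : O.length < 5 := by omega
        rw [hrest, List.drop_eq_nil_of_le (by omega)]
        rfl
      rw [hrest0, List.append_nil] at hLsplit
      rw [hLsplit] at hcj hL
      obtain ⟨hcj2, hL2⟩ := H.cjI_word F hw' hL
      refine ⟨X.reps.getD (X.kindA N).2 [], ?_, CjI.trans F hcj (CjI.trans F hcj2 (H.cjI_perm F hL2 hperm))⟩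
      rw [List.getD_eq_getElem _ _ hk]
      exact List.getElem_mem hk

end

end Cfsg.Agent.Lib.Helper3.SLInv
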