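import Mathlib
import Cfsg.Prelude.Def_ChevStructure
import Cfsg.Agent.Lib.Helper3.SLBridge5
set_option autoImplicit false
set_option linter.unusedSectionVars false
set_option linter.unusedVariables false
set_option linter.unusedSimpArgs false
open Cfsg Cfsg.Lie

/-!
The reduction of the involutions to the representatives of a tree, the square of a product over orthogonal roots, and
the rank of a conjugate minus one.
-/

namespace Cfsg.Agent.Lib.Helper3.SLInv

open Cfsg.Agent.Lib.Helper3.ChevM Cfsg.Agent.Lib.Helper3 ChevU ChevT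
open Cfsg.Agent.Lib.Helper3.ChevAt

namespace SLSys

variable {G : Type*} [Group G] {F : Type*} [Field F] {l : ℕ} (S : SLSys G F l)

/-- the product over a list of orthogonal roots is an involution or trivial -/
theorem xs_mul_self : ∀ {O : List (Vec l)}, S.Orth O → S.xs O * S.xs O = 1 := by
  intro O
  induction O with
  | nil => intro _; simp [xs_nil]
  | cons r O ih =>
    intro hO
    have hr := hO.1 r List.mem_cons_self
    have hc : Commute (S.x r 1) (S.xs O) := by
      unfold xs
      apply Commute.list_prod_right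
      intro y hy
      obtain ⟨s, hs, rfl⟩ := List.mem_map.mp hy
      have hs' := hO.1 s (List.mem_cons_of_mem _ hs)
      have hB : S.B r s = 0 := (List.pairwise_cons.mp hO.2).1 s hs
      exact S.x_comm r hr s hs' (by omega) 1 1
    rw [xs_cons]
    calc S.x r 1 * S.xs O * (S.x r 1 * S.xs O) = S.x r 1 * (S.xs O * S.x r 1) * S.xs O := by group
      _ = S.x r 1 * (S.x r 1 * S.xs O) * S.xs O := by rw [hc.eq]
      _ = (S.x r 1 * S.x r 1) * (S.xs O * S.xs O) := by group
      _ = 1 := by rw [S.x_sq hr, ih hO.tail, one_mul]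

end SLSys

section
variable {C : CDatum} {R : RelData C} (H : SLHyp C R) (F : Type*) [Field F] [Fintype F] [CharP F 2]
include H

theorem SLHyp.xsI_mul_self {O : List ℕ} (hO : OrthI C.D R.pair O) : xsI R F O * xsI R F O = 1 := by
  rw [← H.xs_map F O hO.1]
  exact (H.sys (F := F)).xs_mul_self (H.orth_map F hO)

theorem SLHyp.xsI_mem {O : List ℕ} (hO : ∀ r ∈ O, r < C.D.nroots) : xsI R F O ∈ C.D.group F := by
  unfold xsI
  apply Subgroup.list_prod_mem
  intro y hy
  obtain ⟨r, hr, rfl⟩ := List.mem_map.mp hy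
  exact R.xU_mem_group r (hO r hr) 1

/-- every involution is conjugate to the product over one of the representatives of the tree -/
theorem SLHyp.involution_rep {γs : List ℕ} (hcasc : cascCheck C.D R.pair H.w [] γs = true)
    (hsyl : ∃ P : Sylow 2 ↥(C.D.group F),
      (P : Subgroup ↥(C.D.group F)) = (C.D.posUnipotent F).subgroupOf (C.D.group F))
    (X : OrbData) (hX : treeOK C.D R.pair X = true)
    (g : GL C.D.Idx F) (hg : g ∈ C.D.group F) (h2 : orderOf g = 2) :
    ∃ rep ∈ X.reps, rep ≠ [] ∧ ∃ h ∈ C.D.group F, h * g * h⁻¹ = xsI R F rep := by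
  have hc := H.casc_of_check F γs [] (fun _ h => absurd h List.not_mem_nil) hcasc
  rw [List.map_nil] at hc
  obtain ⟨O, hO, h, hh, e⟩ := H.involution_conj F hc hsyl g hg h2
  obtain ⟨rep, hrep, k, hk, e2⟩ := H.classify F X hX O.length O rfl hO
  refine ⟨rep, hrep, ?_, k * h, Subgroup.mul_mem _ hk hh, ?_⟩
  · rintro rfl
    have h1 : xsI R F [] = 1 := rfl
    rw [h1, ← e] at e2
    have h3 : g = 1 := by
      have : k * (h * g * h⁻¹) * k⁻¹ = (k * h) * g * (k * h)⁻¹ := by group
      rw [this] at e2
      have := congrArg (fun z => (k * h)⁻¹ * z * (k * h)) e2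
      simpa [mul_assoc] using this
    rw [h3, orderOf_one] at h2
    omega
  · rw [← e2, ← e]; group

end

theorem rank_conj_sub_one {n : Type*} [Fintype n] [DecidableEq n] {F : Type*} [Field F] (g y : GL n F) :
    (((g * y * g⁻¹ : GL n F) : Matrix n n F) - 1).rank = ((y : Matrix n n F) - 1).rank := by
  have e : ((g * y * g⁻¹ : GL n F) : Matrix n n F) - 1 =
      (g : Matrix n n F) * ((y : Matrix n n F) - 1) * ((g⁻¹ : GL n F) : Matrix n n F) := by
    have h1 : (g : Matrix n n F) * ((g⁻¹ : GL n F) : Matrix n n F) = 1 := by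
      rw [← Units.val_mul, mul_inv_cancel]; rfl
    rw [Units.val_mul, Units.val_mul, mul_sub, sub_mul, mul_one, h1]
  have hg : IsUnit (g : Matrix n n F).det := (Matrix.isUnit_iff_isUnit_det _).mp g.isUnit
  have hg' : IsUnit ((g⁻¹ : GL n F) : Matrix n n F).det := (Matrix.isUnit_iff_isUnit_det _).mp (g⁻¹).isUnit
  rw [e, Matrix.rank_mul_eq_left_of_isUnit_det _ _ hg', Matrix.rank_mul_eq_right_of_isUnit_det _ _ hg]

end Cfsg.Agent.Lib.Helper3.SLInv
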