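import Mathlib
import Cfsg.Prelude.Def_ChevStructure
import Cfsg.Agent.Lib.Helper3.SLBridge6
import Cfsg.Agent.Lib.Helper3.DLInv13
set_option autoImplicit false
set_option linter.unusedSectionVars false
set_option linter.unusedVariables false
set_option linter.unusedSimpArgs false
open Cfsg Cfsg.Lie

/-!
The table checks from which the root elements of a Chevalley group with roots of two lengths over a finite field
of characteristic two satisfy the abstract relations of `DLSys`: vectors of the roots, the Gram matrix, the height.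
-/

namespace Cfsg.Agent.Lib.Helper3.DLInv

open Cfsg.Agent.Lib.Helper3.ChevM Cfsg.Agent.Lib.Helper3 ChevU ChevT
open Cfsg.Agent.Lib.Helper3.ChevAt
open Cfsg.Agent.Lib.Helper3.SLInv

/-- the vector of the root `r` -/
def dvec (vec : ℕ → ℕ → ℤ) (l r : ℕ) : Vec l := fun i => vec r i.val

/-- the form with Gram matrix `gram` -/
def dB (gram : ℕ → ℕ → ℤ) (l : ℕ) (u v : Vec l) : ℤ := ∑ i : Fin l, ∑ j : Fin l, u i * gram i.val j.val * v j

/-- the height with weights `w` -/
def dkey (w : ℕ → ℤ) (l : ℕ) (u : Vec l) : ℤ := ∑ i : Fin l, u i * w i.val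

/-- the form on root indices -/
def BI (vec gram : ℕ → ℕ → ℤ) (l r s : ℕ) : ℤ :=
  ((List.range l).map fun i => ((List.range l).map fun j => vec r i * gram i j * vec s j).sum).sum

/-- the height on root indices -/
def keyJ (vec : ℕ → ℕ → ℤ) (w : ℕ → ℤ) (l r : ℕ) : ℤ := ((List.range l).map fun i => vec r i * w i).sum

theorem dB_dvec (vec gram : ℕ → ℕ → ℤ) (l r s : ℕ) :
    dB gram l (dvec vec l r) (dvec vec l s) = BI vec gram l r s := by
  unfold dB BI dvec
  rw [← sum_fin_eq l fun i => ((List.range l).map fun j => vec r i * gram i j * vec s j).sum]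
  apply Finset.sum_congr rfl
  intro i _
  exact sum_fin_eq l fun j => vec r i.val * gram i.val j * vec s j

theorem dkey_dvec (vec : ℕ → ℕ → ℤ) (w : ℕ → ℤ) (l r : ℕ) : dkey w l (dvec vec l r) = keyJ vec w l r := by
  unfold dkey keyJ dvec
  exact sum_fin_eq l fun i => vec r i * w i

theorem dB_add_left (gram : ℕ → ℕ → ℤ) (l : ℕ) (u v w : Vec l) :
    dB gram l (u + v) w = dB gram l u w + dB gram l v w := by
  unfold dB
  rw [← Finset.sum_add_distrib]
  apply Finset.sum_congr rfl
  intro i _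
  rw [← Finset.sum_add_distrib]
  apply Finset.sum_congr rfl
  intro j _
  simp only [Pi.add_apply]
  ring

theorem dkey_add (w : ℕ → ℤ) (l : ℕ) (u v : Vec l) : dkey w l (u + v) = dkey w l u + dkey w l v := by
  unfold dkey
  rw [← Finset.sum_add_distrib]
  apply Finset.sum_congr rfl
  intro i _
  simp only [Pi.add_apply]
  ring

def dlKeyCheck (D : ChevalleyDatum) (vec : ℕ → ℕ → ℤ) (w : ℕ → ℤ) (r : ℕ) : Bool :=
  decide (D.IsPosRoot r ↔ 0 < keyJ vec w D.rank r) && decide (D.IsNegRoot r ↔ keyJ vec w D.rank r < 0) &&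
    decide (keyJ vec w D.rank r ≠ 0) &&
    (decide (D.nroots ≤ r + 1) || decide (keyJ vec w D.rank r < keyJ vec w D.rank (r + 1)))

def dlNegCheck (D : ChevalleyDatum) (vec : ℕ → ℕ → ℤ) (r : ℕ) : Bool :=
  (List.range D.rank).all fun i => decide (vec (D.neg r) i = - vec r i)

/-- the vector of `k` is the vector of `r` plus `c` times the vector of `s` -/
def vecAddCheck (D : ChevalleyDatum) (vec : ℕ → ℕ → ℤ) (k r s : ℕ) (c : ℤ) : Bool :=
  (List.range D.rank).all fun i => decide (vec k i = vec r i + c * vec s i)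

def dlNormCheck (D : ChevalleyDatum) (pair vec gram : ℕ → ℕ → ℤ) (r s : ℕ) : Bool :=
  decide (pair r s * BI vec gram D.rank r r = 2 * BI vec gram D.rank s r) &&
    (decide (BI vec gram D.rank r r = 2) || decide (BI vec gram D.rank r r = 4))

def dlCaseCheck (D : ChevalleyDatum) (vec gram : ℕ → ℕ → ℤ) (r s : ℕ) : Bool :=
  decide (s = r) || decide (s = D.neg r) ||
    (decide (BI vec gram D.rank r r = 2) && decide (BI vec gram D.rank s s = 2) &&
      (decide (BI vec gram D.rank r s = 1) || decide (BI vec gram D.rank r s = 0) ||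
        decide (BI vec gram D.rank r s = -1))) ||
    ((decide (BI vec gram D.rank r r = 4) || decide (BI vec gram D.rank s s = 4)) &&
      (decide (BI vec gram D.rank r s = 2) || decide (BI vec gram D.rank r s = 0) ||
        decide (BI vec gram D.rank r s = -2)))

def dlComm0Check (D : ChevalleyDatum) (vec gram : ℕ → ℕ → ℤ) (r s : ℕ) : Bool :=
  decide (s = r) || decide (s = D.neg r) || decide (BI vec gram D.rank r s < 0) || commVanish D 2 r s

def dlCommSCheck (D : ChevalleyDatum) (vec gram : ℕ → ℕ → ℤ) (r s : ℕ) : Bool :=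
  decide (s = D.neg r) || decide (BI vec gram D.rank r r ≠ BI vec gram D.rank s s) ||
    decide (0 ≤ BI vec gram D.rank r s) ||
    (match D.commTerms r s with
      | [(k, c, 1, 1)] => decide (k < D.nroots) && (decide (c = 1) || decide (c = -1)) && vecAddCheck D vec k r s 1
      | _ => false)

def dlCommMCheck (D : ChevalleyDatum) (vec gram : ℕ → ℕ → ℤ) (r s : ℕ) : Bool :=
  decide (BI vec gram D.rank r r ≠ 4) || decide (BI vec gram D.rank s s ≠ 2) ||
    decide (BI vec gram D.rank r s ≠ -2) ||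
    (match D.commTerms r s with
      | [(k, c, 1, 1), (k', c', 1, 2)] => decide (k < D.nroots) && decide (k' < D.nroots) &&
          (decide (c = 1) || decide (c = -1)) && (decide (c' = 1) || decide (c' = -1)) &&
          vecAddCheck D vec k r s 1 && vecAddCheck D vec k' r s 2
      | _ => false)

def dlOrthCheck (D : ChevalleyDatum) (vec gram : ℕ → ℕ → ℤ) (r s : ℕ) : Bool :=
  decide (BI vec gram D.rank r r ≠ 2) || decide (BI vec gram D.rank s s ≠ 2) ||
    decide (BI vec gram D.rank r s ≠ 0) || (List.range D.nroots).any fun k => vecAddCheck D vec k r s 1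

/-- the table checks of a type with roots of two lengths -/
structure DLHyp (C : CDatum) (R : RelData C) where
  A : AtHyp C R
  hcs : ∀ j < C.D.rank, C.D.cartan j (C.D.neg (C.D.simple j)) = -2
  w : ℕ → ℤ
  vec : ℕ → ℕ → ℤ
  gram : ℕ → ℕ → ℤ
  sym : ∀ i < C.D.rank, ∀ j < C.D.rank, gram i j = gram j i
  key : ∀ r < C.D.nroots, dlKeyCheck C.D vec w r = true
  neg : ∀ r < C.D.nroots, dlNegCheck C.D vec r = true
  nrm : ∀ r < C.D.nroots, ∀ s < C.D.nroots, dlNormCheck C.D R.pair vec gram r s = true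
  cas : ∀ r < C.D.nroots, ∀ s < C.D.nroots, dlCaseCheck C.D vec gram r s = true
  cm0 : ∀ r < C.D.nroots, ∀ s < C.D.nroots, dlComm0Check C.D vec gram r s = true
  cmS : ∀ r < C.D.nroots, ∀ s < C.D.nroots, dlCommSCheck C.D vec gram r s = true
  cmM : ∀ r < C.D.nroots, ∀ s < C.D.nroots, dlCommMCheck C.D vec gram r s = true
  ort : ∀ r < C.D.nroots, ∀ s < C.D.nroots, dlOrthCheck C.D vec gram r s = true

section
variable {C : CDatum} {R : RelData C} (H : DLHyp C R)

/-- the vector of a root -/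
def DLHyp.vz (r : ℕ) : Vec C.D.rank := dvec H.vec C.D.rank r

/-- the form -/
def DLHyp.Bz (u v : Vec C.D.rank) : ℤ := dB H.gram C.D.rank u v

/-- the height -/
def DLHyp.kz (u : Vec C.D.rank) : ℤ := dkey H.w C.D.rank u

/-- the form on indices -/
def DLHyp.bI (r s : ℕ) : ℤ := BI H.vec H.gram C.D.rank r s

/-- the height on indices -/
def DLHyp.kI (r : ℕ) : ℤ := keyJ H.vec H.w C.D.rank r

theorem DLHyp.Bz_vz (r s : ℕ) : H.Bz (H.vz r) (H.vz s) = H.bI r s := dB_dvec _ _ _ _ _

theorem DLHyp.kz_vz (r : ℕ) : H.kz (H.vz r) = H.kI r := dkey_dvec _ _ _ _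

theorem DLHyp.Bz_symm (u v : Vec C.D.rank) : H.Bz u v = H.Bz v u := by
  unfold DLHyp.Bz dB
  rw [Finset.sum_comm]
  apply Finset.sum_congr rfl
  intro i _
  apply Finset.sum_congr rfl
  intro j _
  rw [H.sym j.val j.isLt i.val i.isLt]
  ring

theorem DLHyp.bI_symm (r s : ℕ) : H.bI r s = H.bI s r := by
  rw [← H.Bz_vz, ← H.Bz_vz, H.Bz_symm]

theorem DLHyp.key_spec {r : ℕ} (hr : r < C.D.nroots) :
    (C.D.IsPosRoot r ↔ 0 < H.kI r) ∧ (C.D.IsNegRoot r ↔ H.kI r < 0) ∧ H.kI r ≠ 0 := by
  have := H.key r hr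
  simp only [dlKeyCheck, Bool.and_eq_true, decide_eq_true_eq] at this
  exact ⟨this.1.1.1, this.1.1.2, this.1.2⟩

theorem DLHyp.kI_strictMono : ∀ (k r : ℕ), r + k + 1 < C.D.nroots → H.kI r < H.kI (r + k + 1) := by
  intro k
  induction k with
  | zero =>
    intro r hr
    have := H.key r (by omega)
    simp only [dlKeyCheck, Bool.and_eq_true, Bool.or_eq_true, decide_eq_true_eq] at this
    rcases this.2 with h | h
    · omega
    · exact h
  | succ k ih =>
    intro r hr
    have h1 := ih r (by omega)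
    have := H.key (r + k + 1) (by omega)
    simp only [dlKeyCheck, Bool.and_eq_true, Bool.or_eq_true, decide_eq_true_eq] at this
    rcases this.2 with h | h
    · omega
    · have e : r + (k + 1) + 1 = r + k + 1 + 1 := by ring
      rw [e]
      exact lt_trans h1 h

theorem DLHyp.kI_inj {r s : ℕ} (hr : r < C.D.nroots) (hs : s < C.D.nroots) (h : H.kI r = H.kI s) : r = s := by
  by_contra hne
  rcases Nat.lt_or_gt_of_ne hne with h1 | h1
  · obtain ⟨k, rfl⟩ : ∃ k, s = r + k + 1 := ⟨s - r - 1, by omega⟩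
    have := H.kI_strictMono k r hs
    omega
  · obtain ⟨k, rfl⟩ : ∃ k, r = s + k + 1 := ⟨r - s - 1, by omega⟩
    have := H.kI_strictMono k s hr
    omega

theorem DLHyp.vz_inj {r s : ℕ} (hr : r < C.D.nroots) (hs : s < C.D.nroots) (h : H.vz r = H.vz s) : r = s := by
  apply H.kI_inj hr hs
  rw [← H.kz_vz, ← H.kz_vz, h]

theorem DLHyp.vz_neg {r : ℕ} (hr : r < C.D.nroots) : H.vz (C.D.neg r) = - H.vz r := by
  funext i
  have := H.neg r hr
  simp only [dlNegCheck, List.all_eq_true, List.mem_range, decide_eq_true_eq] at this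
  exact this i.val i.isLt

theorem DLHyp.vz_add_of_check {k r s : ℕ} {c : ℤ} (h : vecAddCheck C.D H.vec k r s c = true) :
    H.vz k = H.vz r + c • H.vz s := by
  funext i
  simp only [vecAddCheck, List.all_eq_true, List.mem_range, decide_eq_true_eq] at h
  have := h i.val i.isLt
  simp only [DLHyp.vz, dvec, Pi.add_apply, Pi.smul_apply, smul_eq_mul]
  exact this

theorem DLHyp.norm_spec {r : ℕ} (hr : r < C.D.nroots) : H.bI r r = 2 ∨ H.bI r r = 4 := by
  have := H.nrm r hr r hr
  simp only [dlNormCheck, Bool.and_eq_true, Bool.or_eq_true, decide_eq_true_eq] at this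
  exact this.2

theorem DLHyp.pair_spec {r s : ℕ} (hr : r < C.D.nroots) (hs : s < C.D.nroots) :
    R.pair r s * H.bI r r = 2 * H.bI s r := by
  have := H.nrm r hr s hs
  simp only [dlNormCheck, Bool.and_eq_true, Bool.or_eq_true, decide_eq_true_eq] at this
  exact this.1

theorem DLHyp.Bz_neg_right (u v : Vec C.D.rank) : H.Bz u (-v) = - H.Bz u v := by
  unfold DLHyp.Bz dB
  rw [← Finset.sum_neg_distrib]
  apply Finset.sum_congr rfl
  intro i _
  rw [← Finset.sum_neg_distrib]
  apply Finset.sum_congr rfl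
  intro j _
  simp only [Pi.neg_apply]
  ring

theorem DLHyp.bI_neg_right {r s : ℕ} (hs : s < C.D.nroots) : H.bI r (C.D.neg s) = - H.bI r s := by
  rw [← H.Bz_vz, ← H.Bz_vz, H.vz_neg hs, H.Bz_neg_right]

theorem DLHyp.bI_neg_left {r s : ℕ} (hr : r < C.D.nroots) : H.bI (C.D.neg r) s = - H.bI r s := by
  rw [H.bI_symm, H.bI_neg_right hr, H.bI_symm]

theorem DLHyp.norm_pos {r : ℕ} (hr : r < C.D.nroots) : 0 < H.bI r r := by
  rcases H.norm_spec hr with h | h <;> omega

theorem DLHyp.case_spec {r s : ℕ} (hr : r < C.D.nroots) (hs : s < C.D.nroots) :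
    s = r ∨ s = C.D.neg r ∨
      (H.bI r r = 2 ∧ H.bI s s = 2 ∧ (H.bI r s = 1 ∨ H.bI r s = 0 ∨ H.bI r s = -1)) ∨
      ((H.bI r r = 4 ∨ H.bI s s = 4) ∧ (H.bI r s = 2 ∨ H.bI r s = 0 ∨ H.bI r s = -2)) := by
  have := H.cas r hr s hs
  simp only [dlCaseCheck, Bool.and_eq_true, Bool.or_eq_true, decide_eq_true_eq] at this
  unfold DLHyp.bI
  tauto

theorem DLHyp.comm0_spec {r s : ℕ} (hr : r < C.D.nroots) (hs : s < C.D.nroots) (h1 : s ≠ r)
    (h2 : s ≠ C.D.neg r) (h : 0 ≤ H.bI r s) : commVanish C.D 2 r s = true := by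
  have := H.cm0 r hr s hs
  simp only [dlComm0Check, Bool.or_eq_true, decide_eq_true_eq] at this
  unfold DLHyp.bI at h
  rcases this with ((h3 | h3) | h3) | h3
  · exact absurd h3 h1
  · exact absurd h3 h2
  · omega
  · exact h3

theorem DLHyp.commS_spec {r s : ℕ} (hr : r < C.D.nroots) (hs : s < C.D.nroots) (h2 : s ≠ C.D.neg r)
    (hn : H.bI r r = H.bI s s) (h : H.bI r s < 0) :
    ∃ k c, k < C.D.nroots ∧ (c = 1 ∨ c = -1) ∧ C.D.commTerms r s = [(k, c, 1, 1)] ∧ H.vz k = H.vz r + H.vz s := by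
  have := H.cmS r hr s hs
  unfold dlCommSCheck at this
  unfold DLHyp.bI at h hn
  rcases Bool.or_eq_true _ _ |>.mp this with h3 | h3
  · simp only [Bool.or_eq_true, decide_eq_true_eq] at h3
    rcases h3 with (h3 | h3) | h3
    · exact absurd h3 h2
    · exact absurd hn h3
    · omega
  · split at h3
    · rename_i k c heq
      simp only [Bool.and_eq_true, Bool.or_eq_true, decide_eq_true_eq] at h3
      refine ⟨k, c, h3.1.1, h3.1.2, heq, ?_⟩
      have := H.vz_add_of_check h3.2
      rw [one_smul] at this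
      exact this
    · exact absurd h3 (by simp)

theorem DLHyp.commM_spec {r s : ℕ} (hr : r < C.D.nroots) (hs : s < C.D.nroots)
    (hl : H.bI r r = 4) (hsh : H.bI s s = 2) (h : H.bI r s = -2) :
    ∃ k c k' c', k < C.D.nroots ∧ k' < C.D.nroots ∧ (c = 1 ∨ c = -1) ∧ (c' = 1 ∨ c' = -1) ∧
      C.D.commTerms r s = [(k, c, 1, 1), (k', c', 1, 2)] ∧ H.vz k = H.vz r + H.vz s ∧
      H.vz k' = H.vz r + H.vz s + H.vz s := by
  have := H.cmM r hr s hs
  unfold dlCommMCheck at this
  unfold DLHyp.bI at h hl hsh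
  rcases Bool.or_eq_true _ _ |>.mp this with h3 | h3
  · simp only [Bool.or_eq_true, decide_eq_true_eq] at h3
    rcases h3 with (h3 | h3) | h3
    · exact absurd hl h3
    · exact absurd hsh h3
    · exact absurd h h3
  · split at h3
    · rename_i k c k' c' heq
      simp only [Bool.and_eq_true, Bool.or_eq_true, decide_eq_true_eq] at h3
      obtain ⟨⟨⟨⟨⟨hk, hk'⟩, hc⟩, hc'⟩, hv⟩, hv'⟩ := h3
      refine ⟨k, c, k', c', hk, hk', hc, hc', heq, ?_, ?_⟩
      · have := H.vz_add_of_check hv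
        rw [one_smul] at this
        exact this
      · have := H.vz_add_of_check hv'
        rw [this, two_smul, add_assoc]
    · exact absurd h3 (by simp)

theorem DLHyp.orth_spec {r s : ℕ} (hr : r < C.D.nroots) (hs : s < C.D.nroots)
    (h1 : H.bI r r = 2) (h2 : H.bI s s = 2) (h : H.bI r s = 0) :
    ∃ k, k < C.D.nroots ∧ H.vz k = H.vz r + H.vz s := by
  have := H.ort r hr s hs
  unfold DLHyp.bI at h h1 h2
  simp only [dlOrthCheck, Bool.or_eq_true, decide_eq_true_eq, List.any_eq_true, List.mem_range] at this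
  rcases this with ((h3 | h3) | h3) | ⟨k, hk, h3⟩
  · exact absurd h1 h3
  · exact absurd h2 h3
  · exact absurd h h3
  · refine ⟨k, hk, ?_⟩
    have := H.vz_add_of_check h3
    rw [one_smul] at this
    exact this

end

/-- the index of a vector -/
noncomputable def DLHyp.ix {C : CDatum} {R : RelData C} (H : DLHyp C R) (v : Vec C.D.rank) : ℕ :=
  open Classical in if h : ∃ r, r < C.D.nroots ∧ H.vz r = v then h.choose else C.D.nroots

/-- the list of the vectors of the roots -/
def DLHyp.rootsZ {C : CDatum} {R : RelData C} (H : DLHyp C R) : List (Vec C.D.rank) :=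
  (List.range C.D.nroots).map H.vz

section
variable {C : CDatum} {R : RelData C} (H : DLHyp C R)

theorem DLHyp.mem_rootsZ {v : Vec C.D.rank} : v ∈ H.rootsZ ↔ ∃ r, r < C.D.nroots ∧ H.vz r = v := by
  unfold DLHyp.rootsZ
  simp

theorem DLHyp.ix_vz {r : ℕ} (hr : r < C.D.nroots) : H.ix (H.vz r) = r := by
  unfold DLHyp.ix
  have h : ∃ r', r' < C.D.nroots ∧ H.vz r' = H.vz r := ⟨r, hr, rfl⟩
  rw [dif_pos h]
  exact H.vz_inj h.choose_spec.1 hr h.choose_spec.2

include H in
theorem DLHyp.ne_neg {r : ℕ} (hr : r < C.D.nroots) : C.D.neg r ≠ r := by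
  intro h
  have := H.bI_neg_left (s := r) hr
  rw [h] at this
  have := H.norm_pos hr
  omega

end

end Cfsg.Agent.Lib.Helper3.DLInv
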