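import Mathlib
import Cfsg.Prelude.Def_ChevStructure
import Cfsg.Agent.Lib.Helper3.DLBridge1
set_option autoImplicit false
set_option linter.unusedSectionVars false
set_option linter.unusedVariables false
set_option linter.unusedSimpArgs false
open Cfsg Cfsg.Lie

/-!
The system of root elements of a Chevalley group with roots of two lengths over a finite field of characteristic two.
-/

namespace Cfsg.Agent.Lib.Helper3.DLInv

open Cfsg.Agent.Lib.Helper3.ChevM Cfsg.Agent.Lib.Helper3 ChevU ChevT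
open Cfsg.Agent.Lib.Helper3.ChevAt
open Cfsg.Agent.Lib.Helper3.SLInv

section
variable {F : Type*} [Field F] [CharP F 2]

theorem c2_two : (2 : F) = 0 := by
  have := CharP.cast_eq_zero F 2
  exact_mod_cast this

theorem c2_neg (a : F) : -a = a := by
  have h2 : (2 : F) = 0 := c2_two
  have : a + a = 0 := by rw [← two_mul, h2, zero_mul]
  exact neg_eq_of_add_eq_zero_left this

theorem c2_sign {c : ℤ} (hc : c = 1 ∨ c = -1) : ((c : ℤ) : F) = 1 := by
  rcases hc with h | h
  · rw [h]; simp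
  · rw [h]; push_cast; exact c2_neg 1

theorem c2_sq_surj [Finite F] (a : F) : ∃ b : F, b * b = a := by
  have hinj : Function.Injective (frobenius F 2) := frobenius_inj F 2
  have hsurj : Function.Surjective (frobenius F 2) := Finite.surjective_of_injective hinj
  obtain ⟨b, hb⟩ := hsurj a
  exact ⟨b, by rw [← hb, frobenius_def, sq]⟩

end

section
variable {C : CDatum} {R : RelData C} (H : DLHyp C R) {F : Type*} [Field F] [Fintype F] [CharP F 2]
include H

theorem DLHyp.xU_comm {r s : ℕ} (hr : r < C.D.nroots) (hs : s < C.D.nroots) (h : 0 ≤ H.bI r s) (a b : F) :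
    R.xU r a * R.xU s b = R.xU s b * R.xU r a := by
  by_cases h1 : s = r
  · rw [h1, R.xU_add, R.xU_add, add_comm]
  by_cases h2 : s = C.D.neg r
  · exfalso
    rw [h2, H.bI_neg_right hr] at h
    have := H.norm_pos hr
    omega
  · apply Units.ext
    have := H.A.U.K.commF (F := F) r s hr hs h1 h2 a b
    rw [wordMat_commWord_of_vanish C.D 2 r s (H.comm0_spec hr hs h1 h2 h)] at this
    simpa using this.symm

theorem DLHyp.xU_comm_same {r s : ℕ} (hr : r < C.D.nroots) (hs : s < C.D.nroots) (h2 : s ≠ C.D.neg r)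
    (hn : H.bI r r = H.bI s s) (h : H.bI r s < 0) (a b : F) :
    ∃ k, k < C.D.nroots ∧ H.vz k = H.vz r + H.vz s ∧
      R.xU s b * R.xU r a = R.xU r a * R.xU s b * R.xU k (a * b) := by
  have h1 : s ≠ r := by
    intro e
    rw [e] at h
    have := H.norm_pos hr
    omega
  obtain ⟨k, c, hk, hc, h4, h5⟩ := H.commS_spec hr hs h2 hn h
  refine ⟨k, hk, h5, ?_⟩
  apply Units.ext
  have := H.A.U.K.commF (F := F) r s hr hs h1 h2 a b
  rw [CDatum.wordMat_commWord, h4] at this
  simp only [List.map_cons, List.map_nil, List.prod_cons, List.prod_nil, mul_one, pow_one] at this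
  rw [c2_sign hc, one_mul, c2_neg] at this
  simpa using this

theorem DLHyp.xU_comm_mixed {r s : ℕ} (hr : r < C.D.nroots) (hs : s < C.D.nroots)
    (hl : H.bI r r = 4) (hsh : H.bI s s = 2) (h : H.bI r s = -2) (a b : F) :
    ∃ k k', k < C.D.nroots ∧ k' < C.D.nroots ∧ H.vz k = H.vz r + H.vz s ∧ H.vz k' = H.vz r + H.vz s + H.vz s ∧
      R.xU s b * R.xU r a = R.xU r a * R.xU s b * R.xU k (a * b) * R.xU k' (a * b * b) := by
  have h1 : s ≠ r := by
    intro e
    rw [e] at hsh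
    omega
  have h2 : s ≠ C.D.neg r := by
    intro e
    rw [e, H.bI_neg_left hr, H.bI_neg_right hr] at hsh
    omega
  obtain ⟨k, c, k', c', hk, hk', hc, hc', h4, h5, h6⟩ := H.commM_spec hr hs hl hsh h
  refine ⟨k, k', hk, hk', h5, h6, ?_⟩
  apply Units.ext
  have := H.A.U.K.commF (F := F) r s hr hs h1 h2 a b
  rw [CDatum.wordMat_commWord, h4] at this
  simp only [List.map_cons, List.map_nil, List.prod_cons, List.prod_nil, mul_one, pow_one] at this
  rw [c2_sign hc, c2_sign hc', one_mul, c2_neg, pow_two, ← mul_assoc a b b] at this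
  simp only [Units.val_mul, R.xU_val]
  rw [this]
  simp only [mul_assoc]

theorem DLHyp.pos_or_neg {r : ℕ} (hr : r < C.D.nroots) : C.D.IsPosRoot r ∨ C.D.IsNegRoot r :=
  signCheck_or (H.A.sign r hr)

omit [Fintype F] in
theorem DLHyp.nU_one (r : ℕ) : R.nU r (1 : F) = R.xU r 1 * R.xU (C.D.neg r) 1 * R.xU r 1 := by
  rw [R.nU_eq, inv_one, c2_neg]

theorem DLHyp.n_conj {r : ℕ} (hr : r < C.D.nroots) (a : F) :
    (R.xU r 1 * R.xU (C.D.neg r) 1 * R.xU r 1) * R.xU r a * (R.xU r 1 * R.xU (C.D.neg r) 1 * R.xU r 1)⁻¹ =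
      R.xU (C.D.neg r) a := by
  have := H.A.B.mono.sl2_conj (F := F) H.hcs r hr 1 one_ne_zero a
  rw [H.nU_one, inv_one, one_mul, one_mul, c2_neg] at this
  exact this

theorem DLHyp.xU_inj {r : ℕ} (hr : r < C.D.nroots) (a : F) (h : R.xU r a = 1) : a = 0 := by
  rcases H.pos_or_neg hr with hp | hn
  · exact H.A.U.xU_inj_pos' r hp a 0 (by rw [h, R.xU_zero])
  · have hp : C.D.IsPosRoot (C.D.neg r) := (signCheck_spec (H.A.sign r hr)).2.1.mp hn
    have h1 := H.n_conj (F := F) hr a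
    rw [h, mul_one, mul_inv_cancel] at h1
    exact H.A.U.xU_inj_pos' _ hp a 0 (by rw [← h1, R.xU_zero])

theorem DLHyp.hU_conj {r s : ℕ} (hr : r < C.D.nroots) (hs : s < C.D.nroots) (c : F) (hc : c ≠ 0) (a : F) :
    R.hU r c * R.xU s a * (R.hU r c)⁻¹ = R.xU s (c ^ (R.pair r s) * a) := by
  obtain ⟨c', hc', hd, key⟩ := R.diagonal_mul_x (F := F) H.A.B.dec (R.hU r c) (R.hU_mem r hr c hc)
  have e1 : c ^ (R.pair r s) = ((List.range C.D.rank).map fun i => c' i ^ C.D.cartan i s).prod := by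
    have h1 := R.hMat_diag (F := F) r hr c hc
    rw [← R.hU_val, hd] at h1
    have h2 := congrFun (Matrix.diagonal_injective h1) (Sum.inr ⟨s, hs⟩)
    rw [expo_inr] at h2
    rw [← h2]
    unfold RelData.torusExp
    congr 1
    apply List.map_congr_left
    intro i hi
    have hi' := List.mem_range.mp hi
    rw [expo_inr, R.pair_simple i hi' s hs]
  rw [mul_inv_eq_iff_eq_mul]
  apply Units.ext
  rw [Units.val_mul, Units.val_mul, R.xU_val, R.xU_val, key s hs a, e1]

omit [Fintype F] [CharP F 2] in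
theorem DLHyp.hU_mem_closure {r : ℕ} (c : F) :
    R.hU r c ∈ Subgroup.closure {g : GL C.D.Idx F | ∃ a, g = R.xU r a ∨ g = R.xU (C.D.neg r) a} := by
  rw [R.hU_eq, R.nU_eq, R.nU_eq]
  have h1 : ∀ a : F, R.xU r a ∈ Subgroup.closure {g : GL C.D.Idx F | ∃ a, g = R.xU r a ∨ g = R.xU (C.D.neg r) a} :=
    fun a => Subgroup.subset_closure ⟨a, Or.inl rfl⟩
  have h2 : ∀ a : F, R.xU (C.D.neg r) a ∈
      Subgroup.closure {g : GL C.D.Idx F | ∃ a, g = R.xU r a ∨ g = R.xU (C.D.neg r) a} :=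
    fun a => Subgroup.subset_closure ⟨a, Or.inr rfl⟩
  exact Subgroup.mul_mem _ (Subgroup.mul_mem _ (Subgroup.mul_mem _ (h1 _) (h2 _)) (h1 _))
    (Subgroup.mul_mem _ (Subgroup.mul_mem _ (h1 _) (h2 _)) (h1 _))

/-- the list of indices of the positive roots -/
def DLHyp.posL : List ℕ := (List.range C.D.nroots).filter fun r => decide (0 < H.kI r)

omit [Fintype F] [CharP F 2] in
theorem DLHyp.prod_eq (t : Vec C.D.rank → F) :
    ((H.rootsZ.filter fun r => decide (0 < H.kz r)).map fun r => R.xU (H.ix r) (t r)).prod =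
      RootSys.lprod (fun r (t : F) => R.xU r t) H.posL (fun r => t (H.vz r)) := by
  unfold RootSys.lprod DLHyp.rootsZ DLHyp.posL
  rw [List.filter_map, List.map_map]
  have e1 : (List.range C.D.nroots).filter ((fun r => decide (0 < H.kz r)) ∘ H.vz) =
      (List.range C.D.nroots).filter fun r => decide (0 < H.kI r) := by
    apply List.filter_congr
    intro r _
    simp only [Function.comp, H.kz_vz]
  rw [e1]
  congr 1
  apply List.map_congr_left
  intro r hr
  have : r < C.D.nroots := List.mem_range.mp (List.mem_of_mem_filter hr)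
  simp only [Function.comp, H.ix_vz this]

/-- the system of root elements -/
noncomputable def DLHyp.sys : DLSys (GL C.D.Idx F) F C.D.rank where
  roots := H.rootsZ
  B := H.Bz
  key := H.kz
  x := fun v a => R.xU (H.ix v) a
  h := fun v c => R.hU (H.ix v) c
  nodup := by
    unfold DLHyp.rootsZ
    rw [List.nodup_map_iff_inj_on (List.nodup_range)]
    intro r hr s hs h
    exact H.vz_inj (List.mem_range.mp hr) (List.mem_range.mp hs) h
  B_add_left := dB_add_left H.gram C.D.rank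
  B_symm := H.Bz_symm
  key_add := dkey_add H.w C.D.rank
  neg_mem := by
    intro v hv
    obtain ⟨r, hr, rfl⟩ := H.mem_rootsZ.mp hv
    exact H.mem_rootsZ.mpr ⟨C.D.neg r, R.neg_lt r hr, H.vz_neg hr⟩
  B_self := by
    intro v hv
    obtain ⟨r, hr, rfl⟩ := H.mem_rootsZ.mp hv
    rw [H.Bz_vz]
    exact H.norm_spec hr
  B_cases := by
    intro v hv u hu
    obtain ⟨r, hr, rfl⟩ := H.mem_rootsZ.mp hv
    obtain ⟨s, hs, rfl⟩ := H.mem_rootsZ.mp hu
    simp only [H.Bz_vz]
    rcases H.case_spec hr hs with h1 | h1 | h1 | h1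
    · left; rw [h1]
    · right; left; rw [h1, H.vz_neg hr]
    · right; right; left; exact h1
    · right; right; right; exact h1
  add_same := by
    intro v hv u hu hn h hne
    obtain ⟨r, hr, rfl⟩ := H.mem_rootsZ.mp hv
    obtain ⟨s, hs, rfl⟩ := H.mem_rootsZ.mp hu
    simp only [H.Bz_vz] at hn h
    have h2 : s ≠ C.D.neg r := by
      intro e
      apply hne
      rw [e, H.vz_neg hr]
    obtain ⟨k, hk, e, -⟩ := H.xU_comm_same (F := F) hr hs h2 hn h 0 0
    exact H.mem_rootsZ.mpr ⟨k, hk, e⟩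
  add_mixed := by
    intro v hv u hu hl hsh h
    obtain ⟨r, hr, rfl⟩ := H.mem_rootsZ.mp hv
    obtain ⟨s, hs, rfl⟩ := H.mem_rootsZ.mp hu
    simp only [H.Bz_vz] at hl hsh h
    obtain ⟨k, k', hk, hk', e, e', -⟩ := H.xU_comm_mixed (F := F) hr hs hl hsh h 0 0
    exact ⟨H.mem_rootsZ.mpr ⟨k, hk, e⟩, H.mem_rootsZ.mpr ⟨k', hk', e'⟩⟩
  add_short_orth := by
    intro v hv u hu h1 h2 h
    obtain ⟨r, hr, rfl⟩ := H.mem_rootsZ.mp hv
    obtain ⟨s, hs, rfl⟩ := H.mem_rootsZ.mp hu
    simp only [H.Bz_vz] at h1 h2 h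
    obtain ⟨k, hk, e⟩ := H.orth_spec hr hs h1 h2 h
    exact H.mem_rootsZ.mpr ⟨k, hk, e⟩
  key_ne := by
    intro v hv
    obtain ⟨r, hr, rfl⟩ := H.mem_rootsZ.mp hv
    rw [H.kz_vz]
    exact (H.key_spec hr).2.2
  two := c2_two
  sq_surj := c2_sq_surj
  x_add := by
    intro v hv a b
    exact (R.xU_add _ a b).symm
  x_inj := by
    intro v hv a h
    obtain ⟨r, hr, rfl⟩ := H.mem_rootsZ.mp hv
    rw [H.ix_vz hr] at h
    exact H.xU_inj hr a h
  x_comm := by
    intro v hv u hu h a b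
    obtain ⟨r, hr, rfl⟩ := H.mem_rootsZ.mp hv
    obtain ⟨s, hs, rfl⟩ := H.mem_rootsZ.mp hu
    rw [H.Bz_vz] at h
    rw [H.ix_vz hr, H.ix_vz hs]
    exact H.xU_comm hr hs h a b
  x_comm_same := by
    intro v hv u hu hn h hne a b
    obtain ⟨r, hr, rfl⟩ := H.mem_rootsZ.mp hv
    obtain ⟨s, hs, rfl⟩ := H.mem_rootsZ.mp hu
    simp only [H.Bz_vz] at hn h
    have h2 : s ≠ C.D.neg r := by
      intro e
      apply hne
      rw [e, H.vz_neg hr]
    obtain ⟨k, hk, e, hrel⟩ := H.xU_comm_same (F := F) hr hs h2 hn h a b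
    rw [H.ix_vz hr, H.ix_vz hs, ← e, H.ix_vz hk]
    exact hrel
  x_comm_mixed := by
    intro v hv u hu hl hsh h a b
    obtain ⟨r, hr, rfl⟩ := H.mem_rootsZ.mp hv
    obtain ⟨s, hs, rfl⟩ := H.mem_rootsZ.mp hu
    simp only [H.Bz_vz] at hl hsh h
    obtain ⟨k, k', hk, hk', e, e', hrel⟩ := H.xU_comm_mixed (F := F) hr hs hl hsh h a b
    rw [H.ix_vz hr, H.ix_vz hs, ← e', ← e, H.ix_vz hk, H.ix_vz hk']
    exact hrel
  n_conj := by
    intro v hv a
    obtain ⟨r, hr, rfl⟩ := H.mem_rootsZ.mp hv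
    rw [← H.vz_neg hr, H.ix_vz hr, H.ix_vz (R.neg_lt r hr)]
    exact H.n_conj hr a
  h_mem := by
    intro v hv c hc
    obtain ⟨r, hr, rfl⟩ := H.mem_rootsZ.mp hv
    rw [← H.vz_neg hr]
    simp only [H.ix_vz hr, H.ix_vz (R.neg_lt r hr)]
    exact H.hU_mem_closure c
  h_conj := by
    intro v hv c hc u hu a
    obtain ⟨r, hr, rfl⟩ := H.mem_rootsZ.mp hv
    obtain ⟨s, hs, rfl⟩ := H.mem_rootsZ.mp hu
    rw [H.ix_vz hr, H.ix_vz hs, H.Bz_vz, H.Bz_vz]
    have e : 2 * H.bI s r / H.bI r r = R.pair r s := by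
      rw [← H.pair_spec hr hs]
      exact Int.mul_ediv_cancel _ (ne_of_gt (H.norm_pos hr))
    rw [e]
    exact H.hU_conj hr hs c hc a
  pos_inf_neg := by
    rw [eq_bot_iff, ← pos_inf_neg (K := F) H.A]
    apply inf_le_inf
    · apply Subgroup.closure_mono
      rintro g ⟨v, hv, a, hk, rfl⟩
      obtain ⟨r, hr, rfl⟩ := H.mem_rootsZ.mp hv
      rw [H.kz_vz] at hk
      rw [H.ix_vz hr]
      exact ⟨r, a, (H.key_spec hr).1.mpr hk, R.xU_val r a⟩
    · apply Subgroup.closure_mono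
      rintro g ⟨v, hv, a, hk, rfl⟩
      obtain ⟨r, hr, rfl⟩ := H.mem_rootsZ.mp hv
      rw [H.kz_vz] at hk
      rw [H.ix_vz hr]
      exact ⟨r, a, (H.key_spec hr).2.1.mpr hk, R.xU_val r a⟩
  prod_inj := by
    intro t t' h v hv hk
    obtain ⟨r, hr, rfl⟩ := H.mem_rootsZ.mp hv
    rw [H.prod_eq t, H.prod_eq t'] at h
    rw [H.kz_vz] at hk
    have hL : H.posL.Pairwise (· < ·) := List.Pairwise.filter _ List.pairwise_lt_range
    have hpos : ∀ r ∈ H.posL, C.D.IsPosRoot r := by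
      intro r hr
      unfold DLHyp.posL at hr
      rw [List.mem_filter, List.mem_range, decide_eq_true_eq] at hr
      exact (H.key_spec hr.1).1.mpr hr.2
    have hmem : r ∈ H.posL := by
      unfold DLHyp.posL
      rw [List.mem_filter, List.mem_range, decide_eq_true_eq]
      exact ⟨hr, hk⟩
    exact R.lprod_inj H.A.U.hf H.A.U.fr H.A.U.wj H.A.U.wi H.A.U.lev H.A.U.frm H.A.U.wit H.posL hL hpos _ _ h r hmem

end

end Cfsg.Agent.Lib.Helper3.DLInv
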