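import Mathlib
import Cfsg.Prelude.Def_ChevStructure
import Cfsg.Agent.Lib.Helper3.DLBridge2
set_option autoImplicit false
set_option linter.unusedSectionVars false
set_option linter.unusedVariables false
set_option linter.unusedSimpArgs false
open Cfsg Cfsg.Lie

/-!
Involutions of a Chevalley group with roots of two lengths in characteristic two in terms of root indices.
-/

namespace Cfsg.Agent.Lib.Helper3.DLInv

open Cfsg.Agent.Lib.Helper3.ChevM Cfsg.Agent.Lib.Helper3 ChevU ChevT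
open Cfsg.Agent.Lib.Helper3.ChevAt
open Cfsg.Agent.Lib.Helper3.SLInv

/-- a list of indices of pairwise orthogonal roots -/
def OrthD {C : CDatum} {R : RelData C} (H : DLHyp C R) (O : List ℕ) : Prop :=
  (∀ r ∈ O, r < C.D.nroots) ∧ O.Pairwise fun r s => H.bI r s = 0

section
variable {C : CDatum} {R : RelData C} (H : DLHyp C R) (F : Type*) [Field F] [Fintype F] [CharP F 2]

theorem DLHyp.mem_roots {r : ℕ} (hr : r < C.D.nroots) : H.vz r ∈ (H.sys (F := F)).roots :=
  H.mem_rootsZ.mpr ⟨r, hr, rfl⟩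

theorem DLHyp.xs_map (O : List ℕ) (hO : ∀ r ∈ O, r < C.D.nroots) :
    (H.sys (F := F)).xs (O.map H.vz) = xsI R F O := by
  induction O with
  | nil => rfl
  | cons r O ih =>
    rw [List.map_cons, DLSys.xs_cons, ih fun s hs => hO s (List.mem_cons_of_mem _ hs)]
    show R.xU (H.ix (H.vz r)) 1 * _ = _
    rw [H.ix_vz (hO r List.mem_cons_self)]
    simp [xsI]

theorem pairwise_mem {α : Type*} {P : α → α → Prop} {O : List α} (h : O.Pairwise P) :
    O.Pairwise fun a b => a ∈ O ∧ b ∈ O ∧ P a b := by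
  rw [List.pairwise_iff_getElem] at h ⊢
  intro i j hi hj hij
  exact ⟨List.getElem_mem hi, List.getElem_mem hj, h i j hi hj hij⟩

theorem DLHyp.orth_map {O : List ℕ} (hO : OrthD H O) : (H.sys (F := F)).Orth (O.map H.vz) := by
  refine ⟨?_, ?_⟩
  · intro v hv
    obtain ⟨r, hr, rfl⟩ := List.mem_map.mp hv
    exact H.mem_roots F (hO.1 r hr)
  · rw [List.pairwise_map]
    refine (pairwise_mem hO.2).imp ?_
    rintro a b ⟨ha, hb, hab⟩
    show H.Bz _ _ = 0
    rw [H.Bz_vz, hab]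

theorem DLHyp.orth_of_map {O : List ℕ} (hO : ∀ r ∈ O, r < C.D.nroots)
    (h : (H.sys (F := F)).Orth (O.map H.vz)) : OrthD H O := by
  refine ⟨hO, ?_⟩
  have := h.2
  rw [List.pairwise_map] at this
  refine (pairwise_mem this).imp ?_
  rintro a b ⟨ha, hb, hab⟩
  rw [← H.Bz_vz]
  exact hab

theorem DLHyp.GT_nil : (H.sys (F := F)).GT [] = C.D.group F := by
  apply le_antisymm
  · unfold DLSys.GT
    rw [Subgroup.closure_le]
    rintro g ⟨v, hv, a, -, rfl⟩
    obtain ⟨r, hr, rfl⟩ := H.mem_rootsZ.mp hv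
    show R.xU (H.ix (H.vz r)) a ∈ _
    rw [H.ix_vz hr]
    exact R.xU_mem_group r hr a
  · unfold ChevalleyDatum.group
    rw [Subgroup.closure_le]
    rintro g ⟨r, t, hg⟩
    have : g = R.xU r.val t := by
      apply Units.ext
      rw [hg, R.xU_val]
      simp [ChevalleyDatum.x, r.isLt]
    rw [this]
    apply Subgroup.subset_closure
    refine ⟨H.vz r.val, H.mem_roots F r.isLt, t, (H.sys (F := F)).perp_nil _, ?_⟩
    show _ = R.xU (H.ix (H.vz r.val)) t
    rw [H.ix_vz r.isLt]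

theorem DLHyp.posUnipotent_le_UPos : C.D.posUnipotent F ≤ (H.sys (F := F)).UPos := by
  unfold ChevalleyDatum.posUnipotent
  rw [Subgroup.closure_le]
  rintro g ⟨r, t, hr, hg⟩
  have : g = R.xU r t := Units.ext (by rw [hg, R.xU_val])
  rw [this]
  apply Subgroup.subset_closure
  refine ⟨H.vz r, H.mem_roots F hr.1, t, ?_, ?_⟩
  · show 0 < H.kz (H.vz r)
    rw [H.kz_vz]
    exact (H.key_spec hr.1).1.mp hr
  · show _ = R.xU (H.ix (H.vz r)) t
    rw [H.ix_vz hr.1]

theorem DLHyp.cj_iff {O O' : List ℕ} (hO : ∀ r ∈ O, r < C.D.nroots) (hO' : ∀ r ∈ O', r < C.D.nroots) :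
    (H.sys (F := F)).Cj (O.map H.vz) (O'.map H.vz) ↔ CjI R F O O' := by
  unfold DLSys.Cj CjI
  rw [H.GT_nil, H.xs_map F O hO, H.xs_map F O' hO']

/-- the indices of a list of root vectors -/
theorem DLHyp.exists_indices : ∀ V : List (Vec C.D.rank), (∀ v ∈ V, v ∈ H.rootsZ) →
    ∃ O : List ℕ, (∀ r ∈ O, r < C.D.nroots) ∧ O.map H.vz = V := by
  intro V
  induction V with
  | nil => intro _; exact ⟨[], fun _ h => absurd h List.not_mem_nil, rfl⟩
  | cons v V ih =>
    intro hV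
    obtain ⟨O, hO, e⟩ := ih fun u hu => hV u (List.mem_cons_of_mem _ hu)
    obtain ⟨r, hr, hrv⟩ := H.mem_rootsZ.mp (hV v List.mem_cons_self)
    refine ⟨r :: O, ?_, by rw [List.map_cons, e, hrv]⟩
    intro s hs
    rcases List.mem_cons.mp hs with h | h
    · rw [h]; exact hr
    · exact hO s h

/-- every involution of the group is conjugate to a product of root elements of orthogonal roots -/
theorem DLHyp.involution_conj (hcasc : (H.sys (F := F)).Casc [])
    (hsyl : ∃ P : Sylow 2 ↥(C.D.group F),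
      (P : Subgroup ↥(C.D.group F)) = (C.D.posUnipotent F).subgroupOf (C.D.group F))
    (g : GL C.D.Idx F) (hg : g ∈ C.D.group F) (h2 : orderOf g = 2) :
    ∃ O : List ℕ, OrthD H O ∧ ∃ h ∈ C.D.group F, h * g * h⁻¹ = xsI R F O := by
  obtain ⟨P, hP⟩ := hsyl
  have : Finite ↥(C.D.group F) := inferInstance
  set t : ↥(C.D.group F) := ⟨g, hg⟩ with ht
  have hot : orderOf t = 2 ^ 1 := by
    rw [pow_one, ← h2]
    exact Subgroup.orderOf_mk g hg
  have hp : IsPGroup 2 ↥(Subgroup.zpowers t) := IsPGroup.of_card (n := 1) (by rw [Nat.card_zpowers, hot])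
  obtain ⟨Q, hQ⟩ := hp.exists_le_sylow
  obtain ⟨k, hk⟩ := MulAction.exists_smul_eq ↥(C.D.group F) Q P
  have htQ : t ∈ (Q : Subgroup ↥(C.D.group F)) := hQ (Subgroup.mem_zpowers t)
  have hktk : k * t * k⁻¹ ∈ (P : Subgroup ↥(C.D.group F)) := by
    rw [← hk, Sylow.coe_subgroup_smul, Subgroup.mem_pointwise_smul_iff_inv_smul_mem]
    simpa [MulAut.smul_def, mul_assoc] using htQ
  rw [hP, Subgroup.mem_subgroupOf] at hktk
  have hu : ((k : GL C.D.Idx F) * g * (k : GL C.D.Idx F)⁻¹) ∈ (H.sys (F := F)).UPos :=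
    H.posUnipotent_le_UPos F (by simpa using hktk)
  have hsq : ((k : GL C.D.Idx F) * g * (k : GL C.D.Idx F)⁻¹) * ((k : GL C.D.Idx F) * g * (k : GL C.D.Idx F)⁻¹) = 1 := by
    apply SLSys.conj_sq
    rw [← sq, ← h2]
    exact pow_orderOf_eq_one g
  obtain ⟨h, hh, V, hV, e⟩ := (H.sys (F := F)).involution_conj hcasc hu hsq
  rw [H.GT_nil] at hh
  obtain ⟨O, hO, rfl⟩ := H.exists_indices V hV.1
  refine ⟨O, H.orth_of_map F hO hV, h * k, Subgroup.mul_mem _ hh k.2, ?_⟩
  rw [← H.xs_map F O hO, ← e]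
  group

end

end Cfsg.Agent.Lib.Helper3.DLInv
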