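import Mathlib
import Cfsg.Prelude.Def_ChevStructure
import Cfsg.Agent.Lib.Helper3.DLBridge3
set_option autoImplicit false
set_option linter.unusedSectionVars false
set_option linter.unusedVariables false
set_option linter.unusedSimpArgs false
open Cfsg Cfsg.Lie

/-!
Reflections on root indices and the conjugacy moves on lists of indices of orthogonal roots, roots of two lengths.
-/

namespace Cfsg.Agent.Lib.Helper3.DLInv

open Cfsg.Agent.Lib.Helper3.ChevM Cfsg.Agent.Lib.Helper3 ChevU ChevT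
open Cfsg.Agent.Lib.Helper3.ChevAt
open Cfsg.Agent.Lib.Helper3.SLInv

/-- the reflection in the root `β` on root indices, by search -/
def sJ (D : ChevalleyDatum) (pair vec : ℕ → ℕ → ℤ) (β r : ℕ) : ℕ :=
  ((List.range D.nroots).find? fun k => vecAddCheck D vec k r β (- pair β r)).getD D.nroots

/-- the product of the reflections of a word, the last letter acting first -/
def sJW (D : ChevalleyDatum) (pair vec : ℕ → ℕ → ℤ) : List ℕ → ℕ → ℕ
  | [], r => r
  | β :: w, r => sJ D pair vec β (sJW D pair vec w r)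

theorem sJW_append (D : ChevalleyDatum) (pair vec : ℕ → ℕ → ℤ) (w w' : List ℕ) (r : ℕ) :
    sJW D pair vec (w ++ w') r = sJW D pair vec w (sJW D pair vec w' r) := by
  induction w with
  | nil => rfl
  | cons β w ih => simp only [List.cons_append, sJW]; rw [ih]

section
variable {C : CDatum} {R : RelData C} (H : DLHyp C R)

theorem DLHyp.check_of_vz_add {k r s : ℕ} {c : ℤ} (h : H.vz k = H.vz r + c • H.vz s) :
    vecAddCheck C.D H.vec k r s c = true := by
  simp only [vecAddCheck, List.all_eq_true, List.mem_range, decide_eq_true_eq]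
  intro i hi
  have := congrFun h ⟨i, hi⟩
  simp only [DLHyp.vz, dvec, Pi.add_apply, Pi.smul_apply, smul_eq_mul] at this
  exact this

/-- the reflection on indices -/
def DLHyp.sj (β r : ℕ) : ℕ := sJ C.D R.pair H.vec β r

/-- the product of reflections on indices -/
def DLHyp.sjw (w : List ℕ) (r : ℕ) : ℕ := sJW C.D R.pair H.vec w r

theorem DLHyp.sjw_append (w w' : List ℕ) (r : ℕ) : H.sjw (w ++ w') r = H.sjw w (H.sjw w' r) :=
  sJW_append _ _ _ _ _ _

theorem DLHyp.sjw_cons (β : ℕ) (w : List ℕ) (r : ℕ) : H.sjw (β :: w) r = H.sj β (H.sjw w r) := rfl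

theorem DLHyp.sjw_nil (r : ℕ) : H.sjw [] r = r := rfl

end

section
variable {C : CDatum} {R : RelData C} (H : DLHyp C R) (F : Type*) [Field F] [Fintype F] [CharP F 2]

/-- the reflection on indices represents the reflection on vectors -/
theorem DLHyp.sj_spec {β r : ℕ} (hβ : β < C.D.nroots) (hr : r < C.D.nroots) :
    H.sj β r < C.D.nroots ∧ H.vz (H.sj β r) = (H.sys (F := F)).sr (H.vz β) (H.vz r) := by
  set S := H.sys (F := F) with hS
  have hβm : H.vz β ∈ S.roots := H.mem_roots F hβ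
  have hrm : H.vz r ∈ S.roots := H.mem_roots F hr
  have hsr : S.sr (H.vz β) (H.vz r) = H.vz r - R.pair β r • H.vz β := by
    apply S.sr_eq hrm hβm
    show R.pair β r * H.Bz _ _ = 2 * H.Bz _ _
    rw [H.Bz_vz, H.Bz_vz]
    exact H.pair_spec hβ hr
  obtain ⟨k, hk, hkv⟩ := H.mem_rootsZ.mp (S.sr_mem hβm hrm)
  have hex : ∃ x ∈ List.range C.D.nroots, vecAddCheck C.D H.vec x r β (- R.pair β r) = true := by
    refine ⟨k, List.mem_range.mpr hk, H.check_of_vz_add ?_⟩
    rw [hkv, hsr, neg_smul, sub_eq_add_neg]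
  have hsome := List.find?_isSome.mpr hex
  obtain ⟨k', hk'⟩ := Option.isSome_iff_exists.mp hsome
  have e : H.sj β r = k' := by
    unfold DLHyp.sj sJ
    rw [hk']
    rfl
  rw [e]
  refine ⟨List.mem_range.mp (List.mem_of_find?_eq_some hk'), ?_⟩
  have hp : vecAddCheck C.D H.vec k' r β (- R.pair β r) = true :=
    List.find?_some (p := fun x => vecAddCheck C.D H.vec x r β (- R.pair β r)) hk'
  have := H.vz_add_of_check hp
  rw [this, hsr, neg_smul, sub_eq_add_neg]

include F in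
theorem DLHyp.sj_lt {β r : ℕ} (hβ : β < C.D.nroots) (hr : r < C.D.nroots) : H.sj β r < C.D.nroots :=
  (H.sj_spec F hβ hr).1

include F in
theorem DLHyp.bI_sj {β r s : ℕ} (hβ : β < C.D.nroots) (hr : r < C.D.nroots) (hs : s < C.D.nroots) :
    H.bI (H.sj β r) (H.sj β s) = H.bI r s := by
  obtain ⟨h1, h2⟩ := H.sj_spec F hβ hr
  obtain ⟨h3, h4⟩ := H.sj_spec F hβ hs
  rw [← H.Bz_vz, h2, h4, ← H.Bz_vz]
  exact (H.sys (F := F)).B_sr_sr (H.mem_roots F hβ) (H.mem_roots F hr) (H.mem_roots F hs)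

include F in
theorem DLHyp.sj_fix {β t : ℕ} (hβ : β < C.D.nroots) (ht : t < C.D.nroots) (h : H.bI t β = 0) :
    H.sj β t = t := by
  obtain ⟨h1, h2⟩ := H.sj_spec F hβ ht
  apply H.vz_inj h1 ht
  rw [h2]
  apply (H.sys (F := F)).sr_of_zero (H.mem_roots F ht) (H.mem_roots F hβ)
  show H.Bz _ _ = 0
  rw [H.Bz_vz, h]

include F in
theorem DLHyp.sjw_lt {w : List ℕ} (hw : ∀ β ∈ w, β < C.D.nroots) {r : ℕ} (hr : r < C.D.nroots) :
    H.sjw w r < C.D.nroots := by
  induction w with
  | nil => exact hr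
  | cons β w ih =>
    exact H.sj_lt F (hw β List.mem_cons_self) (ih fun b hb => hw b (List.mem_cons_of_mem _ hb))

include F in
theorem DLHyp.bI_sjw {w : List ℕ} (hw : ∀ β ∈ w, β < C.D.nroots) {r s : ℕ} (hr : r < C.D.nroots)
    (hs : s < C.D.nroots) : H.bI (H.sjw w r) (H.sjw w s) = H.bI r s := by
  induction w with
  | nil => rfl
  | cons β w ih =>
    have hw' : ∀ b ∈ w, b < C.D.nroots := fun b hb => hw b (List.mem_cons_of_mem _ hb)
    show H.bI (H.sj β (H.sjw w r)) (H.sj β (H.sjw w s)) = _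
    rw [H.bI_sj F (hw β List.mem_cons_self) (H.sjw_lt F hw' hr) (H.sjw_lt F hw' hs), ih hw']

include F in
theorem DLHyp.sjw_fix {w : List ℕ} (hw : ∀ β ∈ w, β < C.D.nroots) {t : ℕ} (ht : t < C.D.nroots)
    (h : ∀ β ∈ w, H.bI t β = 0) : H.sjw w t = t := by
  induction w with
  | nil => rfl
  | cons β w ih =>
    show H.sj β (H.sjw w t) = t
    rw [ih (fun b hb => hw b (List.mem_cons_of_mem _ hb)) (fun b hb => h b (List.mem_cons_of_mem _ hb))]
    exact H.sj_fix F (hw β List.mem_cons_self) ht (h β List.mem_cons_self)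

/-! ### the conjugacy moves -/

theorem DLHyp.cjI_perm {O O' : List ℕ} (hO : OrthD H O) (h : O.Perm O') : CjI R F O O' := by
  rw [← H.cj_iff F hO.1 (fun r hr => hO.1 r (h.symm.subset hr))]
  exact DLSys.Cj.of_perm _ (H.orth_map F hO) (h.map _)

include F in
theorem DLHyp.orthD_perm {O O' : List ℕ} (hO : OrthD H O) (h : O.Perm O') : OrthD H O' := by
  refine ⟨fun r hr => hO.1 r (h.symm.subset hr), ?_⟩
  have h2 := h.pairwise (pairwise_mem hO.2) (fun {a b} hab => ⟨hab.2.1, hab.1, by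
    rw [H.bI_symm]; exact hab.2.2⟩)
  exact h2.imp fun hab => hab.2.2

theorem DLHyp.cjI_refl {β : ℕ} (hβ : β < C.D.nroots) {O : List ℕ} (hO : ∀ r ∈ O, r < C.D.nroots) :
    CjI R F O (O.map (H.sj β)) := by
  have hO' : ∀ r ∈ O.map (H.sj β), r < C.D.nroots := by
    intro r hr
    obtain ⟨s, hs, rfl⟩ := List.mem_map.mp hr
    exact H.sj_lt F hβ (hO s hs)
  rw [← H.cj_iff F hO hO']
  have := DLSys.Cj.of_refl (H.sys (F := F)) (H.mem_roots F hβ) (O := O.map H.vz) (by
    intro v hv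
    obtain ⟨r, hr, rfl⟩ := List.mem_map.mp hv
    exact H.mem_roots F (hO r hr))
  rw [List.map_map] at this ⊢
  have e2 : O.map (H.vz ∘ H.sj β) = O.map ((H.sys (F := F)).sr (H.vz β) ∘ H.vz) := by
    apply List.map_congr_left
    intro r hr
    exact (H.sj_spec F hβ (hO r hr)).2
  rw [e2]
  exact this

include F in
theorem DLHyp.orthD_map_sj {β : ℕ} (hβ : β < C.D.nroots) {O : List ℕ} (hO : OrthD H O) :
    OrthD H (O.map (H.sj β)) := by
  refine ⟨?_, ?_⟩
  · intro r hr
    obtain ⟨s, hs, rfl⟩ := List.mem_map.mp hr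
    exact H.sj_lt F hβ (hO.1 s hs)
  · rw [List.pairwise_map]
    refine (pairwise_mem hO.2).imp ?_
    rintro a b ⟨ha, hb, hab⟩
    rw [H.bI_sj F hβ (hO.1 a ha) (hO.1 b hb), hab]

theorem DLHyp.cjI_word {w : List ℕ} (hw : ∀ β ∈ w, β < C.D.nroots) {O : List ℕ} (hO : OrthD H O) :
    CjI R F O (O.map (H.sjw w)) ∧ OrthD H (O.map (H.sjw w)) := by
  induction w with
  | nil =>
    have : O.map (H.sjw []) = O := by
      show O.map (fun r => r) = O
      simp
    rw [this]
    exact ⟨CjI.rfl' F O, hO⟩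
  | cons β w ih =>
    obtain ⟨h1, h2⟩ := ih fun b hb => hw b (List.mem_cons_of_mem _ hb)
    have e : O.map (H.sjw (β :: w)) = (O.map (H.sjw w)).map (H.sj β) := by
      rw [List.map_map]; rfl
    rw [e]
    exact ⟨CjI.trans F h1 (H.cjI_refl F (hw β List.mem_cons_self) h2.1), H.orthD_map_sj F (hw β List.mem_cons_self) h2⟩

end

end Cfsg.Agent.Lib.Helper3.DLInv
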