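import Mathlib
import Cfsg.Prelude.Def_ChevStructure
import Cfsg.Agent.Lib.Helper3.DLBridge4
set_option autoImplicit false
set_option linter.unusedSectionVars false
set_option linter.unusedVariables false
set_option linter.unusedSimpArgs false
open Cfsg Cfsg.Lie

/-!
The cascade check on root indices, and the classification of the products of root elements of orthogonal roots
up to conjugacy from a tree of representatives of orthogonal lists, roots of two lengths.
-/

namespace Cfsg.Agent.Lib.Helper3.DLInv

open Cfsg.Agent.Lib.Helper3.ChevM Cfsg.Agent.Lib.Helper3 ChevU ChevT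
open Cfsg.Agent.Lib.Helper3.ChevAt
open Cfsg.Agent.Lib.Helper3.SLInv

section
variable {C : CDatum} {R : RelData C} (H : DLHyp C R)

/-- orthogonality of the root `r` to the roots of the list -/
def DLHyp.perpJ (T : List ℕ) (r : ℕ) : Bool := T.all fun t => decide (H.bI r t = 0)

def DLHyp.domCheck (T : List ℕ) (γ : ℕ) : Bool :=
  decide (γ < C.D.nroots) && decide (H.bI γ γ = 4) && decide (0 < H.kI γ) && H.perpJ T γ &&
    (List.range C.D.nroots).all fun r => !(decide (0 < H.kI r) && H.perpJ T r) || decide (0 ≤ H.bI r γ)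

def DLHyp.cascCheck : List ℕ → List ℕ → Bool
  | T, [] => (List.range C.D.nroots).all fun r => !(decide (0 < H.kI r) && H.perpJ T r)
  | T, γ :: rest => H.domCheck T γ && DLHyp.cascCheck (γ :: T) rest

end

section
variable {C : CDatum} {R : RelData C} (H : DLHyp C R) (F : Type*) [Field F] [Fintype F] [CharP F 2]

theorem DLHyp.perp_iff {T : List ℕ} {r : ℕ} :
    (H.sys (F := F)).perp (T.map H.vz) (H.vz r) ↔ H.perpJ T r = true := by
  unfold DLSys.perp DLHyp.perpJ
  simp only [List.mem_map, forall_exists_index, and_imp, forall_apply_eq_imp_iff₂, List.all_eq_true,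
    decide_eq_true_eq]
  constructor
  · intro h t ht
    rw [← H.Bz_vz]
    exact h t ht
  · intro h t ht
    show H.Bz _ _ = 0
    rw [H.Bz_vz]
    exact h t ht

theorem DLHyp.casc_of_check : ∀ (γs T : List ℕ),
    H.cascCheck T γs = true → (H.sys (F := F)).Casc (T.map H.vz) := by
  intro γs
  induction γs with
  | nil =>
    intro T h
    apply DLSys.Casc.base
    intro v hv hk hp
    obtain ⟨r, hr, rfl⟩ := H.mem_rootsZ.mp hv
    simp only [DLHyp.cascCheck, List.all_eq_true, List.mem_range, Bool.not_eq_true', Bool.and_eq_false_iff,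
      decide_eq_false_iff_not] at h
    rcases h r hr with h1 | h1
    · apply h1
      rw [← H.kz_vz]
      exact hk
    · rw [(H.perp_iff F).mp hp] at h1
      exact absurd h1 (by simp)
  | cons γ γs ih =>
    intro T h
    simp only [DLHyp.cascCheck, Bool.and_eq_true] at h
    obtain ⟨hd, hrest⟩ := h
    simp only [DLHyp.domCheck, Bool.and_eq_true, decide_eq_true_eq, List.all_eq_true, List.mem_range, Bool.or_eq_true,
      Bool.not_eq_true', Bool.and_eq_false_iff, decide_eq_false_iff_not] at hd
    obtain ⟨⟨⟨⟨hγ, hlong⟩, hkγ⟩, hpγ⟩, hdom⟩ := hd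
    refine DLSys.Casc.step _ (H.vz γ) ?_ (by
      have := ih (γ :: T) hrest
      rwa [List.map_cons] at this)
    refine ⟨H.mem_roots F hγ, ?_, ?_, (H.perp_iff F).mpr hpγ, ?_⟩
    · show H.Bz _ _ = 4
      rw [H.Bz_vz]; exact hlong
    · show 0 < H.kz (H.vz γ)
      rw [H.kz_vz]; exact hkγ
    · intro v hv hk hp
      obtain ⟨r, hr, rfl⟩ := H.mem_rootsZ.mp hv
      show 0 ≤ H.Bz _ _
      rw [H.Bz_vz]
      rcases hdom r hr with h1 | h1
      · rcases h1 with h1 | h1
        · exfalso
          apply h1
          rw [← H.kz_vz]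
          exact hk
        · rw [(H.perp_iff F).mp hp] at h1
          exact absurd h1 (by simp)
      · exact h1

end

/-- the data of the tree of representatives -/
structure OrbD where
  nodes : List (List ℕ)
  dsc : List ℕ → ℕ → ℕ
  fuel : ℕ
  certs : List (List ℕ)
  kind : List ℕ → List ℕ × ℕ

section
variable {C : CDatum} {R : RelData C} (H : DLHyp C R)

def DLHyp.descOK (X : OrbD) (N : List ℕ) : ℕ → ℕ → Bool
  | 0, _ => false
  | f + 1, r =>
    if X.dsc N r = C.D.nroots then decide ((r :: N) ∈ X.nodes)
    else decide (X.dsc N r < C.D.nroots) && H.perpJ N (X.dsc N r) &&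
      DLHyp.descOK X N f (H.sj (X.dsc N r) r)

def DLHyp.nodeOK (X : OrbD) (N : List ℕ) : Bool :=
  N.isEmpty || ((X.kind N).1.all (fun β => decide (β < C.D.nroots)) &&
    (N.map (H.sjw (X.kind N).1)).isPerm (X.certs.getD (X.kind N).2 []) &&
    decide ((X.kind N).2 < X.certs.length))

def DLHyp.treeOK (X : OrbD) : Bool :=
  decide ([] ∈ X.nodes) && X.nodes.all fun N =>
    H.nodeOK X N && N.all (fun r => decide (r < C.D.nroots)) &&
      (List.range C.D.nroots).all fun r => !(H.perpJ N r) || H.descOK X N X.fuel r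

end

section
variable {C : CDatum} {R : RelData C} (H : DLHyp C R) (F : Type*) [Field F] [Fintype F] [CharP F 2]
  (X : OrbD)

include F in
/-- descent to a child of a node -/
theorem DLHyp.descent {N : List ℕ} (hN : ∀ t ∈ N, t < C.D.nroots) : ∀ (f r : ℕ), r < C.D.nroots →
    H.perpJ N r = true → H.descOK X N f r = true →
    ∃ w : List ℕ, (∀ β ∈ w, β < C.D.nroots ∧ H.perpJ N β = true) ∧
      (H.sjw w r :: N) ∈ X.nodes := by
  intro f
  induction f with
  | zero => intro r _ _ h; exact absurd h (by simp [DLHyp.descOK])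
  | succ f ih =>
    intro r hr hp h
    unfold DLHyp.descOK at h
    by_cases h1 : X.dsc N r = C.D.nroots
    · rw [if_pos h1] at h
      refine ⟨[], fun _ hb => absurd hb List.not_mem_nil, ?_⟩
      show (r :: N) ∈ X.nodes
      simpa using h
    · rw [if_neg h1] at h
      simp only [Bool.and_eq_true, decide_eq_true_eq] at h
      obtain ⟨⟨hβ, hβp⟩, hrec⟩ := h
      set β := X.dsc N r with hβdef
      have hr' : H.sj β r < C.D.nroots := H.sj_lt F hβ hr
      have hp' : H.perpJ N (H.sj β r) = true := by
        unfold DLHyp.perpJ at hp hβp ⊢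
        simp only [List.all_eq_true, decide_eq_true_eq] at hp hβp ⊢
        intro t ht
        have htβ : H.bI t β = 0 := by rw [H.bI_symm]; exact hβp t ht
        have := H.bI_sj F hβ hr (hN t ht)
        rw [H.sj_fix F hβ (hN t ht) htβ] at this
        rw [this]
        exact hp t ht
      obtain ⟨w, hw, hmem⟩ := ih _ hr' hp' hrec
      refine ⟨w ++ [β], ?_, ?_⟩
      · intro b hb
        rcases List.mem_append.mp hb with h | h
        · exact hw b h
        · rw [List.mem_singleton.mp h]; exact ⟨hβ, hβp⟩
      · rw [H.sjw_append]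
        exact hmem

include F in
/-- every orthogonal list is mapped to a node by a product of reflections -/
theorem DLHyp.to_node (hX : H.treeOK X = true) : ∀ (O : List ℕ), OrthD H O →
    ∃ w : List ℕ, (∀ β ∈ w, β < C.D.nroots) ∧ O.map (H.sjw w) ∈ X.nodes := by
  simp only [DLHyp.treeOK, Bool.and_eq_true, decide_eq_true_eq, List.all_eq_true, Bool.or_eq_true, List.mem_range,
    Bool.not_eq_true'] at hX
  obtain ⟨hnil, hnodes⟩ := hX
  intro O
  induction O with
  | nil => intro _; exact ⟨[], fun _ h => absurd h List.not_mem_nil, by simpa using hnil⟩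
  | cons o O ih =>
    intro hO
    have hO1 : OrthD H O := ⟨fun r hr => hO.1 r (List.mem_cons_of_mem _ hr), (List.pairwise_cons.mp hO.2).2⟩
    obtain ⟨w1, hw1, hN⟩ := ih hO1
    set N := O.map (H.sjw w1) with hNdef
    obtain ⟨⟨-, hNlt⟩, hdesc⟩ := hnodes N hN
    have hNlt' : ∀ t ∈ N, t < C.D.nroots := by
      intro t ht
      exact hNlt t ht
    have ho := hO.1 o List.mem_cons_self
    set o1 := H.sjw w1 o with ho1
    have ho1lt : o1 < C.D.nroots := H.sjw_lt F hw1 ho
    have hperp : H.perpJ N o1 = true := by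
      unfold DLHyp.perpJ
      simp only [List.all_eq_true, decide_eq_true_eq]
      intro t ht
      rw [hNdef] at ht
      obtain ⟨t0, ht0, rfl⟩ := List.mem_map.mp ht
      rw [ho1, H.bI_sjw F hw1 ho (hO1.1 t0 ht0)]
      exact (List.pairwise_cons.mp hO.2).1 t0 ht0
    rcases hdesc o1 ho1lt with h | h
    · rw [hperp] at h; exact absurd h (by simp)
    · obtain ⟨w2, hw2, hmem⟩ := H.descent F X hNlt' _ o1 ho1lt hperp h
      refine ⟨w2 ++ w1, ?_, ?_⟩
      · intro b hb
        rcases List.mem_append.mp hb with h | h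
        · exact (hw2 b h).1
        · exact hw1 b h
      · have e : (o :: O).map (H.sjw (w2 ++ w1)) = H.sjw w2 o1 :: N := by
          rw [List.map_cons, H.sjw_append]
          congr 1
          rw [hNdef]
          apply List.map_congr_left
          intro t ht
          rw [H.sjw_append]
          apply H.sjw_fix F (fun b hb => (hw2 b hb).1) (H.sjw_lt F hw1 (hO1.1 t ht))
          intro b hb
          have := (hw2 b hb).2
          unfold DLHyp.perpJ at this
          simp only [List.all_eq_true, decide_eq_true_eq] at this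
          have h3 := this (H.sjw w1 t) (List.mem_map.mpr ⟨t, ht, rfl⟩)
          rw [H.bI_symm]
          exact h3
        rw [e]
        exact hmem

/-- the classification of the products over orthogonal lists up to conjugacy -/
theorem DLHyp.classify (hX : H.treeOK X = true) (reps : List (List ℕ))
    (hcert : ∀ L ∈ X.certs, ∃ rep ∈ reps, CjI R F L rep) (O : List ℕ) (hne : O ≠ [])
    (hO : OrthD H O) : ∃ rep ∈ reps, CjI R F O rep := by
  have hX' := hX
  simp only [DLHyp.treeOK, Bool.and_eq_true, decide_eq_true_eq, List.all_eq_true, Bool.or_eq_true, List.mem_range,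
    Bool.not_eq_true'] at hX'
  obtain ⟨-, hnodes⟩ := hX'
  obtain ⟨w, hw, hN⟩ := H.to_node F X hX O hO
  obtain ⟨hcj, hL⟩ := H.cjI_word F hw hO
  set N := O.map (H.sjw w) with hNdef
  obtain ⟨⟨hnode, -⟩, -⟩ := hnodes N hN
  unfold DLHyp.nodeOK at hnode
  have hNne : N.isEmpty = false := by
    rw [hNdef]
    cases O with
    | nil => exact absurd rfl hne
    | cons o O => rfl
  rw [hNne, Bool.false_or] at hnode
  simp only [Bool.and_eq_true, decide_eq_true_eq, List.all_eq_true, List.isPerm_iff] at hnode
  obtain ⟨⟨hw', hperm⟩, hk⟩ := hnode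
  obtain ⟨hcj2, hL2⟩ := H.cjI_word F hw' hL
  have hmem : X.certs.getD (X.kind N).2 [] ∈ X.certs := by
    rw [List.getD_eq_getElem _ _ hk]
    exact List.getElem_mem hk
  obtain ⟨rep, hrep, hcj3⟩ := hcert _ hmem
  exact ⟨rep, hrep, CjI.trans F hcj (CjI.trans F hcj2 (CjI.trans F (H.cjI_perm F hL2 hperm) hcj3))⟩

end

end Cfsg.Agent.Lib.Helper3.DLInv
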