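import Mathlib
import Cfsg.Agent.Lib.Helper3.DLInv13
set_option autoImplicit false
set_option linter.unusedSectionVars false
set_option linter.unusedVariables false
set_option linter.unusedSimpArgs false

/-!
Products of pairwise commuting root elements: the expression as an ordered product over the positive roots, the
splitting into a negative and a positive part, and the support of a conjugate of such a product under an element
permuting the root subgroups.
-/

namespace Cfsg.Agent.Lib.Helper3.DLInv

open Cfsg.Agent.Lib.Helper3.SLInv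

namespace DLSys

variable {G : Type*} [Group G] {F : Type*} [Field F] {l : ℕ} (S : DLSys G F l)

/-- the product of the root elements of a list of pairs of a root and a parameter -/
def prp (L : List (Vec l × F)) : G := (L.map fun p => S.x p.1 p.2).prod

theorem prp_nil : S.prp [] = 1 := rfl

theorem prp_cons (p : Vec l × F) (L : List (Vec l × F)) : S.prp (p :: L) = S.x p.1 p.2 * S.prp L := by
  simp [prp]

open Classical in
/-- the sum of the parameters attached to the root `r` -/
noncomputable def tau (L : List (Vec l × F)) (r : Vec l) : F :=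
  ((L.filter fun p => decide (p.1 = r)).map Prod.snd).sum

theorem tau_nil (r : Vec l) : tau (F := F) [] r = 0 := by
  simp [tau]

theorem tau_cons (p : Vec l × F) (L : List (Vec l × F)) (r : Vec l) :
    tau (p :: L) r = (if p.1 = r then p.2 else 0) + tau L r := by
  classical
  unfold tau
  by_cases h : p.1 = r
  · rw [List.filter_cons_of_pos (by simpa using h), List.map_cons, List.sum_cons, if_pos h]
  · rw [List.filter_cons_of_neg (by simpa using h), if_neg h, zero_add]

theorem exists_of_tau_ne_zero {L : List (Vec l × F)} {r : Vec l} (h : tau L r ≠ 0) : ∃ p ∈ L, p.1 = r := by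
  induction L with
  | nil => exact absurd (tau_nil r) h
  | cons p L ih =>
    rw [tau_cons] at h
    by_cases hp : p.1 = r
    · exact ⟨p, List.mem_cons_self, hp⟩
    · rw [if_neg hp, zero_add] at h
      obtain ⟨q, hq, e⟩ := ih h
      exact ⟨q, List.mem_cons_of_mem _ hq, e⟩

theorem tau_of_nodup : ∀ {L : List (Vec l × F)}, (L.map Prod.fst).Nodup → ∀ p ∈ L, tau L p.1 = p.2 := by
  intro L
  induction L with
  | nil => intro _ p hp; exact absurd hp List.not_mem_nil
  | cons q L ih =>
    intro hnd p hp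
    rw [List.map_cons, List.nodup_cons] at hnd
    rw [tau_cons]
    rcases List.mem_cons.mp hp with rfl | hp
    · rw [if_pos rfl]
      have : tau L p.1 = 0 := by
        by_contra h0
        obtain ⟨q, hq, e⟩ := exists_of_tau_ne_zero h0
        exact hnd.1 (List.mem_map.mpr ⟨q, hq, e⟩)
      rw [this, add_zero]
    · have hne : q.1 ≠ p.1 := by
        intro e
        exact hnd.1 (List.mem_map.mpr ⟨p, hp, e.symm⟩)
      rw [if_neg hne, zero_add]
      exact ih hnd.2 p hp

/-- a root element commuting with the factors is inserted in an ordered product -/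
theorem insert_pr_comm : ∀ (L : List (Vec l)), (∀ r ∈ L, r ∈ S.roots) → L.Nodup →
    ∀ s ∈ L, ∀ (b : F) (t : Vec l → F), (∀ r ∈ L, t r ≠ 0 → 0 ≤ S.B s r) →
      S.x s b * S.pr L t = S.pr L (Function.update t s (b + t s)) := by
  intro L
  induction L with
  | nil => intro _ _ s hs; exact absurd hs List.not_mem_nil
  | cons r L ih =>
    intro hL hnd s hs b t hc
    rw [List.nodup_cons] at hnd
    have hr := hL r List.mem_cons_self
    rw [S.pr_cons, S.pr_cons]
    by_cases hrs : r = s
    · subst hrs
      rw [Function.update_self, ← mul_assoc, ← S.x_add r hr]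
      congr 1
      apply S.pr_congr
      intro v hv
      have : v ≠ r := fun e => hnd.1 (e ▸ hv)
      rw [Function.update_of_ne this]
    · have hsL : s ∈ L := by
        rcases List.mem_cons.mp hs with h | h
        · exact absurd h.symm hrs
        · exact h
      have hsr := hL s hs
      rw [Function.update_of_ne hrs]
      have hcomm : S.x s b * S.x r (t r) = S.x r (t r) * S.x s b := by
        by_cases h0 : t r = 0
        · rw [h0, S.x_zero hr, mul_one, one_mul]
        · exact S.x_comm s hsr r hr (hc r List.mem_cons_self h0) b (t r)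
      rw [← mul_assoc, hcomm, mul_assoc,
        ih (fun v hv => hL v (List.mem_cons_of_mem _ hv)) hnd.2 s hsL b t
          (fun v hv h0 => hc v (List.mem_cons_of_mem _ hv) h0)]

theorem nodup_posL : S.posL.Nodup := S.nodup.filter _

/-- a product of pairwise commuting positive root elements as an ordered product -/
theorem prp_eq_pr : ∀ {L : List (Vec l × F)}, (∀ p ∈ L, p.1 ∈ S.posL) →
    L.Pairwise (fun p q => 0 ≤ S.B p.1 q.1) → S.prp L = S.pr S.posL (tau L) := by
  intro L
  induction L with
  | nil =>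
    intro _ _
    rw [prp_nil]
    have : tau (F := F) ([] : List (Vec l × F)) = fun _ => (0 : F) := funext tau_nil
    rw [this, S.pr_zero fun r hr => (S.mem_posL.mp hr).1]
  | cons p L ih =>
    intro hL hB
    rw [List.pairwise_cons] at hB
    rw [prp_cons, ih (fun q hq => hL q (List.mem_cons_of_mem _ hq)) hB.2,
      S.insert_pr_comm S.posL (fun r hr => (S.mem_posL.mp hr).1) S.nodup_posL p.1 (hL p List.mem_cons_self) p.2
        (tau L) (by
          intro r _ h0
          obtain ⟨q, hq, e⟩ := exists_of_tau_ne_zero h0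
          rw [← e]
          exact hB.1 q hq)]
    apply S.pr_congr
    intro r _
    rw [tau_cons]
    by_cases h : p.1 = r
    · rw [if_pos h, ← h, Function.update_self]
    · rw [if_neg h, zero_add, Function.update_of_ne (fun e => h e.symm)]

/-- the parameters of a product of pairwise commuting positive root elements are determined -/
theorem prp_inj {L L' : List (Vec l × F)} (hL : ∀ p ∈ L, p.1 ∈ S.posL)
    (hB : L.Pairwise (fun p q => 0 ≤ S.B p.1 q.1)) (hL' : ∀ p ∈ L', p.1 ∈ S.posL)
    (hB' : L'.Pairwise (fun p q => 0 ≤ S.B p.1 q.1)) (h : S.prp L = S.prp L') :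
    ∀ r ∈ S.posL, tau L r = tau L' r := by
  rw [S.prp_eq_pr hL hB, S.prp_eq_pr hL' hB'] at h
  intro r hr
  exact S.prod_inj (tau L) (tau L') h r (S.mem_posL.mp hr).1 (S.mem_posL.mp hr).2

theorem comm_prp {s : Vec l} (hs : s ∈ S.roots) (a : F) : ∀ {L : List (Vec l × F)}, (∀ p ∈ L, p.1 ∈ S.roots) →
    (∀ p ∈ L, 0 ≤ S.B s p.1) → S.x s a * S.prp L = S.prp L * S.x s a := by
  intro L
  induction L with
  | nil => intro _ _; rw [prp_nil, mul_one, one_mul]
  | cons p L ih =>
    intro hL hB
    rw [prp_cons, ← mul_assoc, S.x_comm s hs p.1 (hL p List.mem_cons_self) (hB p List.mem_cons_self) a p.2,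
      mul_assoc, ih (fun q hq => hL q (List.mem_cons_of_mem _ hq)) (fun q hq => hB q (List.mem_cons_of_mem _ hq)),
      mul_assoc]

/-- the splitting of a product of pairwise commuting root elements into a negative and a positive part -/
theorem prp_split : ∀ {L : List (Vec l × F)}, (∀ p ∈ L, p.1 ∈ S.roots) →
    L.Pairwise (fun p q => 0 ≤ S.B p.1 q.1) →
    S.prp L = S.prp (L.filter fun p => decide (S.key p.1 < 0)) * S.prp (L.filter fun p => decide (0 < S.key p.1)) := by
  intro L
  induction L with
  | nil => intro _ _; simp [prp_nil]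
  | cons p L ih =>
    intro hL hB
    rw [List.pairwise_cons] at hB
    have hp := hL p List.mem_cons_self
    have hL' : ∀ q ∈ L, q.1 ∈ S.roots := fun q hq => hL q (List.mem_cons_of_mem _ hq)
    rw [prp_cons, ih hL' hB.2]
    rcases lt_or_gt_of_ne (S.key_ne p.1 hp) with hk | hk
    · have h1 : ¬ 0 < S.key p.1 := by omega
      rw [List.filter_cons_of_pos (by simpa using hk), List.filter_cons_of_neg (by simpa using h1), prp_cons,
        mul_assoc]
    · have h1 : ¬ S.key p.1 < 0 := by omega
      rw [List.filter_cons_of_neg (by simpa using h1), List.filter_cons_of_pos (by simpa using hk), prp_cons,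
        ← mul_assoc, ← mul_assoc]
      congr 1
      apply S.comm_prp hp
      · intro q hq
        exact hL' q (List.mem_of_mem_filter hq)
      · intro q hq
        exact hB.1 q (List.mem_of_mem_filter hq)

theorem prp_mem_UPos {L : List (Vec l × F)} (hL : ∀ p ∈ L, p.1 ∈ S.roots ∧ 0 < S.key p.1) : S.prp L ∈ S.UPos := by
  unfold prp
  apply Subgroup.list_prod_mem
  intro y hy
  obtain ⟨p, hp, rfl⟩ := List.mem_map.mp hy
  exact Subgroup.subset_closure ⟨p.1, (hL p hp).1, p.2, (hL p hp).2, rfl⟩

theorem prp_mem_UNeg {L : List (Vec l × F)} (hL : ∀ p ∈ L, p.1 ∈ S.roots ∧ S.key p.1 < 0) : S.prp L ∈ S.UNeg := by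
  unfold prp
  apply Subgroup.list_prod_mem
  intro y hy
  obtain ⟨p, hp, rfl⟩ := List.mem_map.mp hy
  exact Subgroup.subset_closure ⟨p.1, (hL p hp).1, p.2, (hL p hp).2, rfl⟩

theorem conj_prp {m : G} {f : Vec l → Vec l} {d : Vec l → F} : ∀ {L : List (Vec l × F)},
    (∀ p ∈ L, ∀ a, m * S.x p.1 a * m⁻¹ = S.x (f p.1) (d p.1 * a)) →
    m * S.prp L * m⁻¹ = S.prp (L.map fun p => (f p.1, d p.1 * p.2)) := by
  intro L
  induction L with
  | nil => intro _; simp [prp_nil]
  | cons p L ih =>
    intro hm
    rw [prp_cons, List.map_cons, prp_cons, ← ih fun q hq => hm q (List.mem_cons_of_mem _ hq),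
      ← hm p List.mem_cons_self p.2]
    group

theorem UPos_inf_UNeg {g : G} (h1 : g ∈ S.UPos) (h2 : g ∈ S.UNeg) : g = 1 := by
  have : g ∈ S.UPos ⊓ S.UNeg := ⟨h1, h2⟩
  unfold UPos UNeg at this
  rw [S.pos_inf_neg] at this
  exact Subgroup.mem_bot.mp this

/-- the support of a conjugate of a product of pairwise commuting positive root elements -/
theorem conj_support {L L' : List (Vec l × F)} (hL : ∀ p ∈ L, p.1 ∈ S.posL)
    (hLB : L.Pairwise (fun p q => 0 ≤ S.B p.1 q.1)) (hnd : (L.map Prod.fst).Nodup)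
    (hL' : ∀ p ∈ L', p.1 ∈ S.posL) (hLB' : L'.Pairwise (fun p q => 0 ≤ S.B p.1 q.1))
    {m : G} {f : Vec l → Vec l} {d : Vec l → F}
    (hm : ∀ p ∈ L, f p.1 ∈ S.roots ∧ ∀ a, m * S.x p.1 a * m⁻¹ = S.x (f p.1) (d p.1 * a))
    (hfB : L.Pairwise (fun p q => 0 ≤ S.B (f p.1) (f q.1)))
    (hinj : ∀ p ∈ L, ∀ q ∈ L, f p.1 = f q.1 → p.1 = q.1)
    (heq : m * S.prp L * m⁻¹ = S.prp L') :
    ∀ p ∈ L, p.2 ≠ 0 → 0 < S.key (f p.1) ∧ tau L' (f p.1) = d p.1 * p.2 := by
  classical
  set g : Vec l × F → Vec l × F := fun p => (f p.1, d p.1 * p.2) with hg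
  set Lm := L.map g with hLm
  have hLm_roots : ∀ p ∈ Lm, p.1 ∈ S.roots := by
    intro p hp
    obtain ⟨q, hq, rfl⟩ := List.mem_map.mp hp
    exact (hm q hq).1
  have hLmB : Lm.Pairwise (fun p q => 0 ≤ S.B p.1 q.1) := by
    rw [hLm, List.pairwise_map]
    exact hfB
  have e1 : m * S.prp L * m⁻¹ = S.prp Lm := S.conj_prp fun p hp => (hm p hp).2
  have e2 := S.prp_split hLm_roots hLmB
  set Ln := Lm.filter fun p => decide (S.key p.1 < 0) with hLn
  set Lp := Lm.filter fun p => decide (0 < S.key p.1) with hLp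
  have hLpU : S.prp Lp ∈ S.UPos := by
    apply S.prp_mem_UPos
    intro p hp
    rw [hLp, List.mem_filter, decide_eq_true_eq] at hp
    exact ⟨hLm_roots p hp.1, hp.2⟩
  have hLnU : S.prp Ln ∈ S.UNeg := by
    apply S.prp_mem_UNeg
    intro p hp
    rw [hLn, List.mem_filter, decide_eq_true_eq] at hp
    exact ⟨hLm_roots p hp.1, hp.2⟩
  have hL'U : S.prp L' ∈ S.UPos := by
    apply S.prp_mem_UPos
    intro p hp
    exact S.mem_posL.mp (hL' p hp)
  have hn1 : S.prp Ln = 1 := by
    apply S.UPos_inf_UNeg _ hLnU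
    have : S.prp Ln = S.prp L' * (S.prp Lp)⁻¹ := by
      rw [← heq, e1, e2]; group
    rw [this]
    exact Subgroup.mul_mem _ hL'U (Subgroup.inv_mem _ hLpU)
  -- the negative part comes from a part of `L`
  set L0 := L.filter fun p => decide (S.key (f p.1) < 0) with hL0
  have hLn_eq : Ln = L0.map g := by
    rw [hLn, hLm, List.filter_map]
    rfl
  have e3 : m * S.prp L0 * m⁻¹ = S.prp Ln := by
    rw [hLn_eq]
    exact S.conj_prp fun p hp => (hm p (List.mem_of_mem_filter hp)).2
  have hL0one : S.prp L0 = S.prp [] := by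
    rw [prp_nil]
    rw [hn1] at e3
    have := congrArg (fun z => m⁻¹ * z * m) e3
    simpa [mul_assoc] using this
  have hL0pos : ∀ p ∈ L0, p.1 ∈ S.posL := fun p hp => hL p (List.mem_of_mem_filter hp)
  have hL0B : L0.Pairwise (fun p q => 0 ≤ S.B p.1 q.1) := hLB.sublist List.filter_sublist
  have hL0nd : (L0.map Prod.fst).Nodup := hnd.sublist (List.filter_sublist.map _)
  have htau0 := S.prp_inj hL0pos hL0B (fun p hp => absurd hp List.not_mem_nil) List.Pairwise.nil hL0one
  have hposf : ∀ p ∈ L, p.2 ≠ 0 → 0 < S.key (f p.1) := by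
    intro p hp h0
    by_contra hk
    have hk' : S.key (f p.1) < 0 := by
      have := S.key_ne _ (hm p hp).1
      omega
    have hp0 : p ∈ L0 := by
      rw [hL0, List.mem_filter, decide_eq_true_eq]
      exact ⟨hp, hk'⟩
    have h1 := htau0 p.1 (hL p hp)
    rw [tau_of_nodup hL0nd p hp0, tau_nil] at h1
    exact h0 h1
  intro p hp h0
  have hk := hposf p hp h0
  refine ⟨hk, ?_⟩
  -- the positive part
  have e4 : S.prp Lp = S.prp L' := by
    rw [← heq, e1, e2, hn1, one_mul]
  have hLp_pos : ∀ q ∈ Lp, q.1 ∈ S.posL := by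
    intro q hq
    rw [hLp, List.mem_filter, decide_eq_true_eq] at hq
    exact S.mem_posL.mpr ⟨hLm_roots q hq.1, hq.2⟩
  have hLpB : Lp.Pairwise (fun p q => 0 ≤ S.B p.1 q.1) := hLmB.sublist List.filter_sublist
  have htau := S.prp_inj hLp_pos hLpB hL' hLB' e4 (f p.1) (S.mem_posL.mpr ⟨(hm p hp).1, hk⟩)
  rw [← htau]
  have hLmnd : (Lm.map Prod.fst).Nodup := by
    rw [hLm, List.map_map]
    have : (Prod.fst ∘ g) = f ∘ Prod.fst := rfl
    rw [this, ← List.map_map]
    apply List.Nodup.map_on _ hnd
    intro a ha b hb hab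
    obtain ⟨pa, hpa, rfl⟩ := List.mem_map.mp ha
    obtain ⟨pb, hpb, rfl⟩ := List.mem_map.mp hb
    exact hinj pa hpa pb hpb hab
  have hLpnd : (Lp.map Prod.fst).Nodup := hLmnd.sublist (List.filter_sublist.map _)
  have hmem : g p ∈ Lp := by
    rw [hLp, List.mem_filter, decide_eq_true_eq]
    exact ⟨List.mem_map.mpr ⟨p, hp, rfl⟩, hk⟩
  exact tau_of_nodup hLpnd (g p) hmem

end DLSys

end Cfsg.Agent.Lib.Helper3.DLInv
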