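import Mathlib
import Cfsg.Agent.Lib.Helper3.DLInv14
set_option autoImplicit false
set_option linter.unusedSectionVars false
set_option linter.unusedVariables false
set_option linter.unusedSimpArgs false

/-!
Products of pairwise commuting root elements: normal forms, the conjugate under a root element, and the effect on the
parameters.
-/

namespace Cfsg.Agent.Lib.Helper3.DLInv

open Cfsg.Agent.Lib.Helper3.SLInv

namespace DLSys

variable {G : Type*} [Group G] {F : Type*} [Field F] {l : ℕ} (S : DLSys G F l)

theorem prp_append (L L' : List (Vec l × F)) : S.prp (L ++ L') = S.prp L * S.prp L' := by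
  unfold prp
  rw [List.map_append, List.prod_append]

theorem tau_append (L L' : List (Vec l × F)) (r : Vec l) : tau (L ++ L') r = tau L r + tau L' r := by
  classical
  unfold tau
  rw [List.filter_append, List.map_append, List.sum_append]

theorem tau_eq_zero_of_not_mem {L : List (Vec l × F)} {r : Vec l} (h : ∀ p ∈ L, p.1 ≠ r) : tau L r = 0 := by
  by_contra h0
  obtain ⟨p, hp, e⟩ := exists_of_tau_ne_zero h0
  exact h p hp e

theorem tau_map_of_mem {T : List (Vec l)} (hnd : T.Nodup) (t : Vec l → F) {r : Vec l} (hr : r ∈ T) :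
    tau (T.map fun s => (s, t s)) r = t r := by
  have hnd' : ((T.map fun s => (s, t s)).map Prod.fst).Nodup := by
    rw [List.map_map]
    have : (Prod.fst ∘ fun s : Vec l => (s, t s)) = id := rfl
    rw [this, List.map_id]
    exact hnd
  exact tau_of_nodup hnd' (r, t r) (List.mem_map.mpr ⟨r, hr, rfl⟩)

theorem tau_map_of_not_mem {T : List (Vec l)} (t : Vec l → F) {r : Vec l} (hr : r ∉ T) :
    tau (T.map fun s => (s, t s)) r = 0 := by
  apply tau_eq_zero_of_not_mem
  intro p hp e
  obtain ⟨s, hs, rfl⟩ := List.mem_map.mp hp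
  exact hr (e ▸ hs)

theorem tau_map_scale (d : Vec l → F) (L : List (Vec l × F)) (r : Vec l) :
    tau (L.map fun p => (p.1, d p.1 * p.2)) r = d r * tau L r := by
  induction L with
  | nil => rw [List.map_nil, tau_nil, mul_zero]
  | cons p L ih =>
    rw [List.map_cons, tau_cons, tau_cons, ih]
    by_cases h : p.1 = r
    · rw [if_pos h, if_pos h, h, mul_add]
    · rw [if_neg h, if_neg h, zero_add, zero_add]

/-- two products of pairwise commuting positive root elements with the same parameters are equal -/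
theorem prp_eq_of_tau {L L' : List (Vec l × F)} (hL : ∀ p ∈ L, p.1 ∈ S.posL)
    (hB : L.Pairwise (fun p q => 0 ≤ S.B p.1 q.1)) (hL' : ∀ p ∈ L', p.1 ∈ S.posL)
    (hB' : L'.Pairwise (fun p q => 0 ≤ S.B p.1 q.1)) (h : ∀ r ∈ S.posL, tau L r = tau L' r) :
    S.prp L = S.prp L' := by
  rw [S.prp_eq_pr hL hB, S.prp_eq_pr hL' hB']
  exact S.pr_congr h

/-- the normal form of a product of root elements of a commuting set of positive roots -/
theorem prp_normalize {T : List (Vec l)} (hT : ∀ s ∈ T, s ∈ S.posL) (hTB : ∀ s ∈ T, ∀ s' ∈ T, 0 ≤ S.B s s')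
    (hnd : T.Nodup) {L : List (Vec l × F)} (hL : ∀ p ∈ L, p.1 ∈ T) :
    S.prp L = S.prp (T.map fun s => (s, tau L s)) := by
  apply S.prp_eq_of_tau
  · exact fun p hp => hT _ (hL p hp)
  · apply List.pairwise_of_forall_mem_list
    intro p hp q hq
    exact hTB _ (hL p hp) _ (hL q hq)
  · intro p hp
    obtain ⟨s, hs, rfl⟩ := List.mem_map.mp hp
    exact hT s hs
  · apply List.pairwise_of_forall_mem_list
    intro p hp q hq
    obtain ⟨s, hs, rfl⟩ := List.mem_map.mp hp
    obtain ⟨s', hs', rfl⟩ := List.mem_map.mp hq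
    exact hTB s hs s' hs'
  · intro r _
    by_cases hr : r ∈ T
    · rw [tau_map_of_mem hnd _ hr]
    · rw [tau_map_of_not_mem _ hr]
      apply tau_eq_zero_of_not_mem
      intro p hp e
      exact hr (e ▸ hL p hp)

/-- the list of the conjugate of a product of root elements under a root element -/
def cjL (r : Vec l) (c : F) (L : List (Vec l × F)) : List (Vec l × F) :=
  L.flatMap fun p => if 0 ≤ S.B r p.1 then [p] else [p, (p.1 + r, p.2 * c)]

theorem cjL_nil (r : Vec l) (c : F) : S.cjL r c [] = [] := rfl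

theorem cjL_cons (r : Vec l) (c : F) (p : Vec l × F) (L : List (Vec l × F)) :
    S.cjL r c (p :: L) = (if 0 ≤ S.B r p.1 then [p] else [p, (p.1 + r, p.2 * c)]) ++ S.cjL r c L := by
  unfold cjL
  rw [List.flatMap_cons]

theorem mem_cjL {r : Vec l} {c : F} {L : List (Vec l × F)} {p : Vec l × F} (hp : p ∈ S.cjL r c L) :
    p ∈ L ∨ ∃ q ∈ L, S.B r q.1 < 0 ∧ p = (q.1 + r, q.2 * c) := by
  unfold cjL at hp
  rw [List.mem_flatMap] at hp
  obtain ⟨q, hq, hpq⟩ := hp
  by_cases h : 0 ≤ S.B r q.1
  · rw [if_pos h, List.mem_singleton] at hpq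
    left; rw [hpq]; exact hq
  · rw [if_neg h] at hpq
    simp only [List.mem_cons, List.not_mem_nil, or_false] at hpq
    rcases hpq with rfl | rfl
    · left; exact hq
    · right; exact ⟨q, hq, by omega, rfl⟩

/-- the conjugate of a product of root elements under a root element -/
theorem conj_x_prp {r : Vec l} (hr : r ∈ S.roots) (c : F) : ∀ {L : List (Vec l × F)},
    (∀ p ∈ L, p.1 ∈ S.roots ∧ (S.B r p.1 < 0 → S.B p.1 p.1 = S.B r r ∧ r ≠ -p.1)) →
    S.x r c * S.prp L * (S.x r c)⁻¹ = S.prp (S.cjL r c L) := by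
  intro L
  induction L with
  | nil => intro _; rw [cjL_nil, prp_nil]; group
  | cons p L ih =>
    intro hL
    obtain ⟨hp, hp2⟩ := hL p List.mem_cons_self
    have e : S.x r c * S.prp (p :: L) * (S.x r c)⁻¹ =
        (S.x r c * S.x p.1 p.2 * (S.x r c)⁻¹) * (S.x r c * S.prp L * (S.x r c)⁻¹) := by
      rw [prp_cons]; group
    rw [e, ih fun q hq => hL q (List.mem_cons_of_mem _ hq), cjL_cons, prp_append]
    congr 1
    by_cases h : 0 ≤ S.B r p.1
    · rw [if_pos h, prp_cons, prp_nil, mul_one]
      exact S.conj_comm hp hr (by rw [S.B_symm]; exact h) p.2 c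
    · rw [if_neg h, prp_cons, prp_cons, prp_nil, mul_one]
      have h' : S.B r p.1 < 0 := by omega
      obtain ⟨h1, h2⟩ := hp2 h'
      exact S.conj_same hp hr h1 (by rw [S.B_symm]; exact h') h2 p.2 c

/-- the parameters of the conjugate of a product of root elements under a root element -/
theorem tau_cjL (r : Vec l) (c : F) (L : List (Vec l × F)) (q : Vec l) :
    tau (S.cjL r c L) q = tau L q + (if S.B r (q - r) < 0 then tau L (q - r) * c else 0) := by
  induction L with
  | nil => simp [cjL_nil, tau_nil]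
  | cons p L ih =>
    rw [cjL_cons, tau_append, ih, tau_cons, tau_cons]
    have hiff : p.1 + r = q ↔ p.1 = q - r := by
      constructor
      · intro e; rw [← e]; abel
      · intro e; rw [e]; abel
    by_cases h : 0 ≤ S.B r p.1
    · rw [if_pos h, tau_cons, tau_nil, add_zero]
      by_cases hq : S.B r (q - r) < 0
      · have hne : p.1 ≠ q - r := by
          intro e; rw [← e] at hq; omega
        rw [if_pos hq, if_pos hq, if_neg hne, zero_add]
        ring
      · rw [if_neg hq, if_neg hq, add_zero, add_zero]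
    · rw [if_neg h, tau_cons, tau_cons, tau_nil, add_zero]
      have h' : S.B r p.1 < 0 := by omega
      by_cases hpq : p.1 = q - r
      · have hq : S.B r (q - r) < 0 := by rw [← hpq]; exact h'
        rw [if_pos hq, if_pos hq, if_pos hpq, if_pos (hiff.mpr hpq)]
        ring
      · rw [if_neg hpq, if_neg (fun e => hpq (hiff.mp e)), zero_add, add_zero]
        by_cases hq : S.B r (q - r) < 0
        · rw [if_pos hq]; ring
        · rw [if_neg hq]; ring

end DLSys

end Cfsg.Agent.Lib.Helper3.DLInv
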