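import Mathlib
import Cfsg.Prelude.Def_ChevStructure
import Cfsg.Agent.Lib.Helper3.DLBridge5
import Cfsg.Agent.Lib.Helper3.DLInv15
import Cfsg.Agent.Lib.Helper3.HiRoot5
import Cfsg.Agent.Lib.Helper3.ChevL3
set_option autoImplicit false
set_option linter.unusedSectionVars false
set_option linter.unusedVariables false
set_option linter.unusedSimpArgs false
open Cfsg Cfsg.Lie

/-!
Centralizers of products of two commuting root elements in characteristic two: the reduction to a parabolic subgroup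
through the Bruhat decomposition.
-/

namespace Cfsg.Agent.Lib.Helper3.DLInv

open Cfsg.Agent.Lib.Helper3.ChevM Cfsg.Agent.Lib.Helper3 ChevU ChevT
open Cfsg.Agent.Lib.Helper3.ChevAt
open Cfsg.Agent.Lib.Helper3.SLInv

section
variable {F : Type*} [Field F] {C : CDatum} {R : RelData C}

/-- A product `h n_w` of which the Weyl group element preserves the levels lies in the parabolic subgroup. -/
theorem _root_.Cfsg.Agent.Lib.Helper3.ChevM.LeviHyp.word_mem_parabolic (L : LeviHyp C R) (Hy : BNHyp C R)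
    (hrv : ∀ i < C.D.rank, ∀ s < C.D.nroots, reflVecCheck C.D R.refl L.vec i s = true) (J : Set ℕ)
    (h : GL C.D.Idx F) (hh : h ∈ C.D.diagonalSubgroup F) (l : List ℕ) (hl : ∀ i ∈ l, i < C.D.rank)
    (hpres : ∀ s < C.D.nroots, 1 ≤ levR C.D L.vec J s → 1 ≤ levR C.D L.vec J (reflW R.refl l s)) :
    h * R.nWordU l ∈ C.D.parabolicSubgroup F J := by
  have hBP : C.D.borelSubgroup F ≤ C.D.parabolicSubgroup F J := le_sup_left
  have hHP : C.D.diagonalSubgroup F ≤ C.D.parabolicSubgroup F J := le_sup_right.trans hBP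
  obtain ⟨l', hl', he⟩ := L.exists_word_in hrv J Hy.mono _ l rfl hl hpres
  obtain ⟨h', hh', e3⟩ := Hy.mono.coset_of_reflW_eq (F := F) Hy.dec l l' hl (fun i hi => (hl' i hi).1) he
  have hl'P : R.nWordU (F := F) l' ∈ C.D.parabolicSubgroup F J := by
    unfold RelData.nWordU
    apply Subgroup.list_prod_mem
    intro x hx
    obtain ⟨i, hi, rfl⟩ := List.mem_map.mp hx
    apply Subgroup.mem_sup_right
    apply Subgroup.subset_closure
    exact ⟨i, (hl' i hi).2, (hl' i hi).1, R.nU_val _ _⟩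
  rw [e3]
  exact Subgroup.mul_mem _ (hHP hh) (Subgroup.mul_mem _ (hHP hh') hl'P)

end

section
variable {C : CDatum} {R : RelData C} (H : DLHyp C R) (F : Type*) [Field F] [Fintype F] [CharP F 2]

theorem DLHyp.x_vz {r : ℕ} (hr : r < C.D.nroots) (a : F) : (H.sys (F := F)).x (H.vz r) a = R.xU r a := by
  show R.xU (H.ix (H.vz r)) a = _
  rw [H.ix_vz hr]

theorem DLHyp.vz_mem_posL {r : ℕ} (hr : C.D.IsPosRoot r) : H.vz r ∈ (H.sys (F := F)).posL := by
  rw [DLSys.mem_posL]
  refine ⟨H.mem_roots F hr.1, ?_⟩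
  show 0 < H.kz (H.vz r)
  rw [H.kz_vz]
  exact (H.key_spec hr.1).1.mp hr

theorem DLHyp.B_vz (r s : ℕ) : (H.sys (F := F)).B (H.vz r) (H.vz s) = H.bI r s := H.Bz_vz r s

/-- the reflections of the table are the reflections on the indices of the roots -/
def DLHyp.ReflOK : Prop := ∀ i < C.D.rank, ∀ r < C.D.nroots, R.refl i r = H.sj (C.D.simple i) r

variable {F}

include F in
theorem DLHyp.bI_reflW (hrefl : H.ReflOK) (l : List ℕ) (hl : ∀ i ∈ l, i < C.D.rank) {r s : ℕ}
    (hr : r < C.D.nroots) (hs : s < C.D.nroots) :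
    H.bI (reflW R.refl l r) (reflW R.refl l s) = H.bI r s := by
  induction l with
  | nil => rfl
  | cons i l ih =>
    have hi := hl i List.mem_cons_self
    have hl' : ∀ j ∈ l, j < C.D.rank := fun j hj => hl j (List.mem_cons_of_mem _ hj)
    show H.bI (R.refl i (reflW R.refl l r)) (R.refl i (reflW R.refl l s)) = _
    rw [hrefl i hi _ (R.reflW_lt l hl' r hr), hrefl i hi _ (R.reflW_lt l hl' s hs),
      H.bI_sj F (R.simple_lt i hi) (R.reflW_lt l hl' r hr) (R.reflW_lt l hl' s hs), ih hl']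

/-- the support of the conjugate of a product of commuting positive root elements under `h n_w` -/
theorem DLHyp.word_support (hrefl : H.ReflOK)
    {L L' : List (Vec C.D.rank × F)}
    (hL : ∀ p ∈ L, ∃ r, C.D.IsPosRoot r ∧ H.vz r = p.1)
    (hLB : L.Pairwise fun p q => 0 ≤ (H.sys (F := F)).B p.1 q.1) (hnd : (L.map Prod.fst).Nodup)
    (hL' : ∀ p ∈ L', ∃ r, C.D.IsPosRoot r ∧ H.vz r = p.1)
    (hLB' : L'.Pairwise fun p q => 0 ≤ (H.sys (F := F)).B p.1 q.1)
    (h : GL C.D.Idx F) (hh : h ∈ C.D.diagonalSubgroup F) (l : List ℕ) (hl : ∀ i ∈ l, i < C.D.rank)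
    (heq : (h * R.nWordU l) * (H.sys (F := F)).prp L * (h * R.nWordU l)⁻¹ = (H.sys (F := F)).prp L') :
    ∀ r < C.D.nroots, ∀ a : F, a ≠ 0 → (H.vz r, a) ∈ L → ∃ p ∈ L', p.1 = H.vz (reflW R.refl l r) := by
  set S := H.sys (F := F) with hS
  obtain ⟨d, hd⟩ := H.A.B.mono.conj_word_xU (F := F) H.A.B.dec h hh l hl
  set f : Vec C.D.rank → Vec C.D.rank := fun v => H.vz (reflW R.refl l (H.ix v)) with hf
  set dd : Vec C.D.rank → F := fun v => d (H.ix v) with hdd
  have hfv : ∀ r < C.D.nroots, f (H.vz r) = H.vz (reflW R.refl l r) := by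
    intro r hr
    show H.vz (reflW R.refl l (H.ix (H.vz r))) = _
    rw [H.ix_vz hr]
  have key := S.conj_support (L := L) (L' := L') (m := h * R.nWordU l) (f := f) (d := dd)
    (by
      intro p hp
      obtain ⟨r, hr, e⟩ := hL p hp
      rw [← e]
      exact H.vz_mem_posL F hr)
    hLB hnd
    (by
      intro p hp
      obtain ⟨r, hr, e⟩ := hL' p hp
      rw [← e]
      exact H.vz_mem_posL F hr)
    hLB'
    (by
      intro p hp
      obtain ⟨r, hr, e⟩ := hL p hp
      rw [← e, hfv r hr.1]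
      refine ⟨H.mem_roots F (R.reflW_lt l hl r hr.1), fun a => ?_⟩
      rw [H.x_vz F hr.1, H.x_vz F (R.reflW_lt l hl r hr.1)]
      show _ = R.xU _ (d (H.ix (H.vz r)) * a)
      rw [H.ix_vz hr.1]
      exact (hd r hr.1).2 a)
    (by
      refine List.Pairwise.imp_of_mem ?_ hLB
      intro p q hp hq hpq
      obtain ⟨r, hr, e⟩ := hL p hp
      obtain ⟨s, hs, e'⟩ := hL q hq
      rw [← e, ← e', hfv r hr.1, hfv s hs.1, H.B_vz F, H.bI_reflW (F := F) hrefl l hl hr.1 hs.1, ← H.B_vz F, e, e']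
      exact hpq)
    (by
      intro p hp q hq hpq
      obtain ⟨r, hr, e⟩ := hL p hp
      obtain ⟨s, hs, e'⟩ := hL q hq
      rw [← e, ← e', hfv r hr.1, hfv s hs.1] at hpq
      have h1 := H.vz_inj (R.reflW_lt l hl r hr.1) (R.reflW_lt l hl s hs.1) hpq
      have h2 := R.reflW_reverse H.A.B.mono.inv l hl r hr.1
      rw [h1, R.reflW_reverse H.A.B.mono.inv l hl s hs.1] at h2
      rw [← e, ← e', h2])
    heq
  intro r hr a ha hmem
  obtain ⟨-, h2⟩ := key (H.vz r, a) hmem ha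
  have hne : DLSys.tau L' (f (H.vz r)) ≠ 0 := by
    rw [h2]
    show d (H.ix (H.vz r)) * a ≠ 0
    rw [H.ix_vz hr]
    exact mul_ne_zero (hd r hr).1 ha
  obtain ⟨p, hp, e⟩ := DLSys.exists_of_tau_ne_zero hne
  exact ⟨p, hp, by rw [e, hfv r hr]⟩

end

end Cfsg.Agent.Lib.Helper3.DLInv
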