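import Mathlib
import Cfsg.Prelude.Def_ChevStructure
import Cfsg.Agent.Lib.Helper3.DLBridge6
set_option autoImplicit false
set_option linter.unusedSectionVars false
set_option linter.unusedVariables false
set_option linter.unusedSimpArgs false
open Cfsg Cfsg.Lie

/-!
Centralizers of products of two commuting root elements in characteristic two: the conjugates under the Borel subgroup
stay in a set of products of commuting root elements, and the centralizer lies in a parabolic subgroup.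
-/

namespace Cfsg.Agent.Lib.Helper3.DLInv

open Cfsg.Agent.Lib.Helper3.ChevM Cfsg.Agent.Lib.Helper3 ChevU ChevT
open Cfsg.Agent.Lib.Helper3.ChevAt
open Cfsg.Agent.Lib.Helper3.SLInv

section
variable {C : CDatum} {R : RelData C} (H : DLHyp C R)

/-- the sums of the root `r` with the roots of `T` not commuting with it lie in `T` and are different from the two
roots `t₁`, `t₂` -/
def DLHyp.ClosedAt (T : List ℕ) (t₁ t₂ : ℕ) (r : ℕ) : Prop :=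
  ∀ t ∈ T, 0 ≤ H.bI r t ∨
    (H.bI t t = H.bI r r ∧ r ≠ C.D.neg t ∧ ∃ k ∈ T, k ≠ t₁ ∧ k ≠ t₂ ∧ vecAddCheck C.D H.vec k t r 1 = true)

instance (T : List ℕ) (t₁ t₂ r : ℕ) : Decidable (H.ClosedAt T t₁ t₂ r) := by
  unfold DLHyp.ClosedAt; infer_instance

/-- the set of roots `T` is stable under the addition of the positive roots not commuting with it,
and the sums are different from the two roots `t₁`, `t₂` -/
def DLHyp.ClosedT (T : List ℕ) (t₁ t₂ : ℕ) : Prop :=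
  ∀ r < C.D.nroots, 0 < H.kI r → H.ClosedAt T t₁ t₂ r

instance (T : List ℕ) (t₁ t₂ : ℕ) : Decidable (H.ClosedT T t₁ t₂) := by
  unfold DLHyp.ClosedT; infer_instance

end

section
variable {C : CDatum} {R : RelData C} (H : DLHyp C R) {F : Type*} [Field F] [Fintype F] [CharP F 2]

/-- conjugation by `u` preserves the products of root elements of the roots of `T` and the parameters at `t₁`, `t₂` -/
def DLHyp.PresT (T : List ℕ) (t₁ t₂ : ℕ) (u : GL C.D.Idx F) : Prop :=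
  ∀ L : List (Vec C.D.rank × F), (∀ p ∈ L, p.1 ∈ T.map H.vz) →
    ∃ L' : List (Vec C.D.rank × F), (∀ p ∈ L', p.1 ∈ T.map H.vz) ∧
      u * (H.sys (F := F)).prp L * u⁻¹ = (H.sys (F := F)).prp L' ∧
      DLSys.tau L' (H.vz t₁) = DLSys.tau L (H.vz t₁) ∧ DLSys.tau L' (H.vz t₂) = DLSys.tau L (H.vz t₂)

theorem DLHyp.presT_one (T : List ℕ) (t₁ t₂ : ℕ) : H.PresT (F := F) T t₁ t₂ 1 := by
  intro L hL
  exact ⟨L, hL, by group, rfl, rfl⟩

theorem DLHyp.presT_mul {T : List ℕ} {t₁ t₂ : ℕ} {x y : GL C.D.Idx F} (hx : H.PresT T t₁ t₂ x)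
    (hy : H.PresT T t₁ t₂ y) : H.PresT T t₁ t₂ (x * y) := by
  intro L hL
  obtain ⟨L₁, hL₁, e₁, a₁, b₁⟩ := hy L hL
  obtain ⟨L₂, hL₂, e₂, a₂, b₂⟩ := hx L₁ hL₁
  refine ⟨L₂, hL₂, ?_, a₂.trans a₁, b₂.trans b₁⟩
  rw [← e₂, ← e₁]
  group

/-- the conjugate of a product of root elements of the roots of `T` under a root element -/
theorem DLHyp.conj_xU_prp {T : List ℕ} {t₁ t₂ : ℕ} (hT : ∀ t ∈ T, t < C.D.nroots) {r : ℕ} (hr : r < C.D.nroots)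
    (hcl : H.ClosedAt T t₁ t₂ r) (ht₁ : t₁ < C.D.nroots) (ht₂ : t₂ < C.D.nroots) (c : F)
    (L : List (Vec C.D.rank × F)) (hL : ∀ p ∈ L, p.1 ∈ T.map H.vz) :
    (∀ p ∈ (H.sys (F := F)).cjL (H.vz r) c L, p.1 ∈ T.map H.vz) ∧
      R.xU r c * (H.sys (F := F)).prp L * (R.xU r c)⁻¹ = (H.sys (F := F)).prp ((H.sys (F := F)).cjL (H.vz r) c L) ∧
      DLSys.tau ((H.sys (F := F)).cjL (H.vz r) c L) (H.vz t₁) = DLSys.tau L (H.vz t₁) ∧
      DLSys.tau ((H.sys (F := F)).cjL (H.vz r) c L) (H.vz t₂) = DLSys.tau L (H.vz t₂) := by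
  set S := H.sys (F := F) with hS
  have hcase : ∀ p ∈ L, ∃ t ∈ T, H.vz t = p.1 := fun p hp => List.mem_map.mp (hL p hp)
  have hneg : ∀ t ∈ T, S.B (H.vz r) (H.vz t) < 0 → H.bI t t = H.bI r r ∧ r ≠ C.D.neg t ∧
      ∃ k ∈ T, k ≠ t₁ ∧ k ≠ t₂ ∧ H.vz k = H.vz t + H.vz r := by
    intro t ht hlt
    rw [H.B_vz F] at hlt
    rcases hcl t ht with h0 | ⟨h1, h2, k, hk, hk1, hk2, hk3⟩
    · omega
    · refine ⟨h1, h2, k, hk, hk1, hk2, ?_⟩
      have := H.vz_add_of_check hk3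
      rwa [one_smul] at this
  have htau : ∀ t₀ < C.D.nroots, (∀ k, k ≠ t₁ → k ≠ t₂ → k ≠ t₀) →
      DLSys.tau (S.cjL (H.vz r) c L) (H.vz t₀) = DLSys.tau L (H.vz t₀) := by
    intro t₀ ht₀ hk0
    rw [S.tau_cjL]
    split_ifs with hc
    · have h0 : DLSys.tau L (H.vz t₀ - H.vz r) = 0 := by
        apply DLSys.tau_eq_zero_of_not_mem
        intro p hp e
        obtain ⟨t, ht, e'⟩ := hcase p hp
        rw [← e, ← e'] at hc
        obtain ⟨-, -, k, hk, hk1, hk2, ek⟩ := hneg t ht hc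
        rw [e', e, sub_add_cancel] at ek
        exact hk0 k hk1 hk2 (H.vz_inj (hT k hk) ht₀ ek)
      rw [h0, zero_mul, add_zero]
    · rw [add_zero]
  refine ⟨?_, ?_, htau t₁ ht₁ (fun k h1 _ => h1), htau t₂ ht₂ (fun k _ h2 => h2)⟩
  · intro p hp
    rcases S.mem_cjL hp with h | ⟨q, hq, hlt, rfl⟩
    · exact hL p h
    · obtain ⟨t, ht, e⟩ := hcase q hq
      rw [← e] at hlt
      obtain ⟨-, -, k, hk, -, -, ek⟩ := hneg t ht hlt
      show q.1 + H.vz r ∈ T.map H.vz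
      rw [← e, ← ek]
      exact List.mem_map.mpr ⟨k, hk, rfl⟩
  · rw [← H.x_vz F hr]
    apply S.conj_x_prp (H.mem_roots F hr) c
    intro p hp
    obtain ⟨t, ht, e⟩ := hcase p hp
    rw [← e]
    refine ⟨H.mem_roots F (hT t ht), fun hlt => ?_⟩
    obtain ⟨h1, h2, -⟩ := hneg t ht hlt
    refine ⟨by rw [H.B_vz F, H.B_vz F]; exact h1, fun e' => h2 ?_⟩
    rw [← H.vz_neg (hT t ht)] at e'
    exact H.vz_inj hr (R.neg_lt t (hT t ht)) e'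

theorem DLHyp.presT_xU {T : List ℕ} {t₁ t₂ : ℕ} (hT : ∀ t ∈ T, t < C.D.nroots) {r : ℕ} (hr : r < C.D.nroots)
    (hcl : H.ClosedAt T t₁ t₂ r) (ht₁ : t₁ < C.D.nroots) (ht₂ : t₂ < C.D.nroots) (c : F) :
    H.PresT T t₁ t₂ (R.xU r c) := by
  intro L hL
  exact ⟨_, H.conj_xU_prp hT hr hcl ht₁ ht₂ c L hL⟩

theorem DLHyp.T_posL {T : List ℕ} (hTpos : ∀ t ∈ T, C.D.IsPosRoot t) (L : List (Vec C.D.rank × F))
    (hL : ∀ p ∈ L, p.1 ∈ T.map H.vz) : ∀ p ∈ L, p.1 ∈ (H.sys (F := F)).posL := by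
  intro p hp
  obtain ⟨t, ht, e⟩ := List.mem_map.mp (hL p hp)
  rw [← e]
  exact H.vz_mem_posL F (hTpos t ht)

theorem DLHyp.T_pairwise {T : List ℕ} (hTB : ∀ t ∈ T, ∀ t' ∈ T, 0 ≤ H.bI t t') (L : List (Vec C.D.rank × F))
    (hL : ∀ p ∈ L, p.1 ∈ T.map H.vz) : L.Pairwise fun p q => 0 ≤ (H.sys (F := F)).B p.1 q.1 := by
  apply List.pairwise_of_forall_mem_list
  intro p hp q hq
  obtain ⟨t, ht, e⟩ := List.mem_map.mp (hL p hp)
  obtain ⟨t', ht', e'⟩ := List.mem_map.mp (hL q hq)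
  rw [← e, ← e', H.B_vz F]
  exact hTB t ht t' ht'

/-- the parameter of a factor `x_r(a)` of an element fixing a product of root elements of the roots of `T` vanishes -/
theorem DLHyp.peel {T : List ℕ} (hTpos : ∀ t ∈ T, C.D.IsPosRoot t) (hTB : ∀ t ∈ T, ∀ t' ∈ T, 0 ≤ H.bI t t')
    {r k t t₁ t₂ : ℕ} (hr : r < C.D.nroots) (hk : k ∈ T) (ht₁ : t₁ < C.D.nroots) (ht₂ : t₂ < C.D.nroots)
    (hclr : H.ClosedAt T t₁ t₂ r) (hvk : H.vz k - H.vz r = H.vz t) (hB : H.bI r t < 0)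
    {y' : GL C.D.Idx F} (hy' : H.PresT T t k y') {L₀ : List (Vec C.D.rank × F)}
    (hL₀ : ∀ p ∈ L₀, p.1 ∈ T.map H.vz) (hτ : DLSys.tau L₀ (H.vz t) = 1) (a : F)
    (hfix : (R.xU r a * y') * (H.sys (F := F)).prp L₀ * (R.xU r a * y')⁻¹ = (H.sys (F := F)).prp L₀) : a = 0 := by
  set S := H.sys (F := F) with hS
  have hT : ∀ t ∈ T, t < C.D.nroots := fun t ht => (hTpos t ht).1
  obtain ⟨L', hL', e', τt, τk⟩ := hy' L₀ hL₀
  obtain ⟨hk', ec, -, -⟩ := H.conj_xU_prp hT hr hclr ht₁ ht₂ a L' hL'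
  have heq : S.prp (S.cjL (H.vz r) a L') = S.prp L₀ := by
    have e2 : R.xU r a * (y' * S.prp L₀ * y'⁻¹) * (R.xU r a)⁻¹ =
        (R.xU r a * y') * S.prp L₀ * (R.xU r a * y')⁻¹ := by group
    rw [← ec, ← e', e2, hfix]
  have h1 := S.prp_inj (H.T_posL hTpos _ hk') (H.T_pairwise hTB _ hk') (H.T_posL hTpos _ hL₀)
    (H.T_pairwise hTB _ hL₀) heq (H.vz k) (H.vz_mem_posL F (hTpos k hk))
  rw [S.tau_cjL, hvk, if_pos (by rw [H.B_vz F]; exact hB), τk, τt, hτ] at h1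
  linear_combination h1

theorem DLHyp.presT_of_mem {T : List ℕ} {t₁ t₂ : ℕ} (hT : ∀ t ∈ T, t < C.D.nroots) (hcl : H.ClosedT T t₁ t₂)
    (ht₁ : t₁ < C.D.nroots) (ht₂ : t₂ < C.D.nroots) (u : GL C.D.Idx F) (hu : u ∈ C.D.posUnipotent F) :
    H.PresT T t₁ t₂ u := by
  have key : H.PresT T t₁ t₂ u ∧ H.PresT T t₁ t₂ u⁻¹ := by
    unfold ChevalleyDatum.posUnipotent at hu
    induction hu using Subgroup.closure_induction with
    | mem g hg =>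
      obtain ⟨r, t, hr, hg⟩ := hg
      have e : g = R.xU r t := Units.ext (by rw [hg, R.xU_val])
      rw [e, R.xU_inv]
      have hcl' := hcl r hr.1 ((H.key_spec hr.1).1.mp hr)
      exact ⟨H.presT_xU hT hr.1 hcl' ht₁ ht₂ t, H.presT_xU hT hr.1 hcl' ht₁ ht₂ (-t)⟩
    | one => rw [inv_one]; exact ⟨H.presT_one T t₁ t₂, H.presT_one T t₁ t₂⟩
    | mul x y _ _ hx hy =>
      rw [mul_inv_rev]
      exact ⟨H.presT_mul hx.1 hy.1, H.presT_mul hy.2 hx.2⟩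
    | inv x _ hx => rw [inv_inv]; exact ⟨hx.2, hx.1⟩
  exact key.1

/-- the action of an element of the diagonal subgroup on the products of root elements -/
theorem DLHyp.diag_conj_prp (a : GL C.D.Idx F) (ha : a ∈ C.D.diagonalSubgroup F) :
    ∃ d : ℕ → F, (∀ s < C.D.nroots, d s ≠ 0 ∧ ∀ c : F, a * R.xU s c * a⁻¹ = R.xU s (d s * c)) ∧
      ∀ L : List (Vec C.D.rank × F), (∀ p ∈ L, p.1 ∈ H.rootsZ) →
        a * (H.sys (F := F)).prp L * a⁻¹ = (H.sys (F := F)).prp (L.map fun p => (p.1, d (H.ix p.1) * p.2)) := by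
  obtain ⟨d, hd⟩ := H.A.U.diagonal_conj_xU H.A.B a ha
  refine ⟨d, hd, fun L hL => ?_⟩
  apply (H.sys (F := F)).conj_prp (f := fun v => v) (d := fun v => d (H.ix v))
  intro p hp c
  obtain ⟨r, hr, e⟩ := H.mem_rootsZ.mp (hL p hp)
  rw [← e, H.x_vz F hr, H.x_vz F hr, H.ix_vz hr]
  exact (hd r hr).2 c

/-- an element `b (h n_w) u` centralizing `x_{t₁}(1) x_{t₂}(1)`: the images of `t₁`, `t₂` under `w` lie in `T` -/
theorem DLHyp.cent_pair_word (hrefl : H.ReflOK) {T : List ℕ} {t₁ t₂ : ℕ} (hTpos : ∀ t ∈ T, C.D.IsPosRoot t)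
    (hTB : ∀ t ∈ T, ∀ t' ∈ T, 0 ≤ H.bI t t') (hnd : T.Nodup) (ht₁ : t₁ ∈ T) (ht₂ : t₂ ∈ T) (hne : t₁ ≠ t₂)
    (hcl : H.ClosedT T t₁ t₂)
    (b : GL C.D.Idx F) (hb : b ∈ C.D.borelSubgroup F) (h : GL C.D.Idx F) (hh : h ∈ C.D.diagonalSubgroup F)
    (l : List ℕ) (hl : ∀ i ∈ l, i < C.D.rank) (u : GL C.D.Idx F) (hu : u ∈ C.D.posUnipotent F)
    (hcent : (b * (h * R.nWordU l) * u) * (R.xU t₁ (1 : F) * R.xU t₂ 1) * (b * (h * R.nWordU l) * u)⁻¹ =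
      R.xU t₁ (1 : F) * R.xU t₂ 1) :
    reflW R.refl l t₁ ∈ T ∧ reflW R.refl l t₂ ∈ T := by
  classical
  set S := H.sys (F := F) with hS
  have hT : ∀ t ∈ T, t < C.D.nroots := fun t ht => (hTpos t ht).1
  have hlt₁ := hT t₁ ht₁
  have hlt₂ := hT t₂ ht₂
  set v : GL C.D.Idx F := R.xU t₁ (1 : F) * R.xU t₂ 1 with hv
  set L₀ : List (Vec C.D.rank × F) := [(H.vz t₁, 1), (H.vz t₂, 1)] with hL₀
  have hvL : v = S.prp L₀ := by
    rw [hL₀, DLSys.prp_cons, DLSys.prp_cons, DLSys.prp_nil, mul_one, H.x_vz F hlt₁, H.x_vz F hlt₂]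
  have hL₀T : ∀ p ∈ L₀, p.1 ∈ T.map H.vz := by
    intro p hp
    simp only [hL₀, List.mem_cons, List.not_mem_nil, or_false] at hp
    rcases hp with rfl | rfl
    · exact List.mem_map.mpr ⟨t₁, ht₁, rfl⟩
    · exact List.mem_map.mpr ⟨t₂, ht₂, rfl⟩
  have hvne : H.vz t₂ ≠ H.vz t₁ := fun e => hne (H.vz_inj hlt₂ hlt₁ e).symm
  have hτ1 : DLSys.tau L₀ (H.vz t₁) = 1 := by
    rw [hL₀, DLSys.tau_cons, DLSys.tau_cons, DLSys.tau_nil, if_pos rfl, if_neg hvne, add_zero, add_zero]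
  have hτ2 : DLSys.tau L₀ (H.vz t₂) = 1 := by
    rw [hL₀, DLSys.tau_cons, DLSys.tau_cons, DLSys.tau_nil, if_neg (fun e => hvne e.symm), if_pos rfl, add_zero,
      zero_add]
  -- the conjugate under `u`
  obtain ⟨L₁, hL₁, e₁, a₁, b₁⟩ := H.presT_of_mem hT hcl hlt₁ hlt₂ u hu L₀ hL₀T
  rw [← hvL] at e₁
  rw [hτ1] at a₁
  rw [hτ2] at b₁
  -- the conjugate under the inverse of `b`
  obtain ⟨hHU, -⟩ := R.diagonal_normalizes (F := F) H.A.B.dec H.A.B.mono.tri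
  have hset := Subgroup.coe_mul_of_right_le_normalizer_left (C.D.posUnipotent F) (C.D.diagonalSubgroup F) hHU
  have hb' : b⁻¹ ∈ ((C.D.posUnipotent F ⊔ C.D.diagonalSubgroup F : Subgroup _) : Set _) :=
    Subgroup.inv_mem _ hb
  rw [hset] at hb'
  obtain ⟨u₂, hu₂, a₂, ha₂, eb⟩ := Set.mem_mul.mp hb'
  obtain ⟨d, hd, hdL⟩ := H.diag_conj_prp a₂ ha₂
  have hL₀r : ∀ p ∈ L₀, p.1 ∈ H.rootsZ := by
    intro p hp
    obtain ⟨t, ht, e⟩ := List.mem_map.mp (hL₀T p hp)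
    exact H.mem_rootsZ.mpr ⟨t, hT t ht, e⟩
  have e₂ := hdL L₀ hL₀r
  rw [← hvL] at e₂
  set L₀' := L₀.map fun p => (p.1, d (H.ix p.1) * p.2) with hL₀'
  have hL₀'T : ∀ p ∈ L₀', p.1 ∈ T.map H.vz := by
    intro p hp
    obtain ⟨q, hq, rfl⟩ := List.mem_map.mp hp
    exact hL₀T q hq
  obtain ⟨L₂, hL₂, e₃, -, -⟩ := H.presT_of_mem hT hcl hlt₁ hlt₂ u₂ hu₂ L₀' hL₀'T
  have e₄ : b⁻¹ * v * b⁻¹⁻¹ = S.prp L₂ := by
    rw [← e₃, ← e₂, ← eb]
    group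
  -- the relation
  have hrel : (h * R.nWordU l) * (u * v * u⁻¹) * (h * R.nWordU l)⁻¹ = b⁻¹ * v * b⁻¹⁻¹ := by
    have : (h * R.nWordU l) * (u * v * u⁻¹) * (h * R.nWordU l)⁻¹ =
        b⁻¹ * ((b * (h * R.nWordU l) * u) * v * (b * (h * R.nWordU l) * u)⁻¹) * b⁻¹⁻¹ := by group
    rw [this, hcent]
  rw [e₁, e₄] at hrel
  -- the normal form
  set TV := T.map H.vz with hTV
  have hTVpos : ∀ s ∈ TV, s ∈ S.posL := by
    intro s hs
    obtain ⟨t, ht, rfl⟩ := List.mem_map.mp hs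
    exact H.vz_mem_posL F (hTpos t ht)
  have hTVB : ∀ s ∈ TV, ∀ s' ∈ TV, 0 ≤ S.B s s' := by
    intro s hs s' hs'
    obtain ⟨t, ht, rfl⟩ := List.mem_map.mp hs
    obtain ⟨t', ht', rfl⟩ := List.mem_map.mp hs'
    rw [H.B_vz F]
    exact hTB t ht t' ht'
  have hTVnd : TV.Nodup := by
    apply List.Nodup.map_on _ hnd
    intro x hx y hy e
    exact H.vz_inj (hT x hx) (hT y hy) e
  have hnorm := S.prp_normalize hTVpos hTVB hTVnd hL₁
  set L₁' := TV.map fun s => (s, DLSys.tau L₁ s) with hL₁'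
  rw [hnorm] at hrel
  have hposT : ∀ (L : List (Vec C.D.rank × F)), (∀ p ∈ L, p.1 ∈ TV) → ∀ p ∈ L, ∃ r, C.D.IsPosRoot r ∧ H.vz r = p.1 := by
    intro L hL p hp
    obtain ⟨t, ht, e⟩ := List.mem_map.mp (hL p hp)
    exact ⟨t, hTpos t ht, e⟩
  have hpwT : ∀ (L : List (Vec C.D.rank × F)), (∀ p ∈ L, p.1 ∈ TV) →
      L.Pairwise fun p q => 0 ≤ S.B p.1 q.1 := by
    intro L hL
    apply List.pairwise_of_forall_mem_list
    intro p hp q hq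
    exact hTVB _ (hL p hp) _ (hL q hq)
  have hL₁'T : ∀ p ∈ L₁', p.1 ∈ TV := by
    intro p hp
    obtain ⟨s, hs, rfl⟩ := List.mem_map.mp hp
    exact hs
  have hL₁'nd : (L₁'.map Prod.fst).Nodup := by
    rw [hL₁', List.map_map]
    have : (Prod.fst ∘ fun s : Vec C.D.rank => (s, DLSys.tau L₁ s)) = id := rfl
    rw [this, List.map_id]
    exact hTVnd
  have key := H.word_support hrefl (hposT L₁' hL₁'T) (hpwT L₁' hL₁'T) hL₁'nd (hposT L₂ hL₂) (hpwT L₂ hL₂)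
    h hh l hl hrel
  constructor
  · obtain ⟨p, hp, e⟩ := key t₁ hlt₁ (DLSys.tau L₁ (H.vz t₁)) (by rw [a₁]; exact one_ne_zero)
      (List.mem_map.mpr ⟨H.vz t₁, List.mem_map.mpr ⟨t₁, ht₁, rfl⟩, rfl⟩)
    obtain ⟨t, ht, e'⟩ := List.mem_map.mp (hL₂ p hp)
    rw [e] at e'
    rw [← H.vz_inj (hT t ht) (R.reflW_lt l hl t₁ hlt₁) e']
    exact ht
  · obtain ⟨p, hp, e⟩ := key t₂ hlt₂ (DLSys.tau L₁ (H.vz t₂)) (by rw [b₁]; exact one_ne_zero)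
      (List.mem_map.mpr ⟨H.vz t₂, List.mem_map.mpr ⟨t₂, ht₂, rfl⟩, rfl⟩)
    obtain ⟨t, ht, e'⟩ := List.mem_map.mp (hL₂ p hp)
    rw [e] at e'
    rw [← H.vz_inj (hT t ht) (R.reflW_lt l hl t₂ hlt₂) e']
    exact ht

/-- the centralizer of `x_{t₁}(1) x_{t₂}(1)` lies in a parabolic subgroup -/
theorem DLHyp.cent_pair_parabolic (Lv : LeviHyp C R)
    (hrv : ∀ i < C.D.rank, ∀ s < C.D.nroots, reflVecCheck C.D R.refl Lv.vec i s = true) (J : Set ℕ)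
    (hrefl : H.ReflOK) {T : List ℕ} {t₁ t₂ : ℕ} (hTpos : ∀ t ∈ T, C.D.IsPosRoot t)
    (hTB : ∀ t ∈ T, ∀ t' ∈ T, 0 ≤ H.bI t t') (hnd : T.Nodup) (ht₁ : t₁ ∈ T) (ht₂ : t₂ ∈ T) (hne : t₁ ≠ t₂)
    (hcl : H.ClosedT T t₁ t₂)
    (huniq : ∀ r ∈ T, ∀ s ∈ T, H.bI r r = H.bI t₁ t₁ → H.bI s s = H.bI t₂ t₂ → H.bI r s = H.bI t₁ t₂ →
      r = t₁ ∧ s = t₂)
    (hlevel : ∀ s < C.D.nroots, ∀ s' < C.D.nroots, H.bI s t₁ = H.bI s' t₁ → H.bI s t₂ = H.bI s' t₂ →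
      levR C.D Lv.vec J s = levR C.D Lv.vec J s') :
    C.D.group F ⊓ Subgroup.centralizer {R.xU t₁ (1 : F) * R.xU t₂ 1} ≤ C.D.parabolicSubgroup F J := by
  rintro g ⟨hgG, hgC⟩
  have hT : ∀ t ∈ T, t < C.D.nroots := fun t ht => (hTpos t ht).1
  have hlt₁ := hT t₁ ht₁
  have hlt₂ := hT t₂ ht₂
  set v : GL C.D.Idx F := R.xU t₁ (1 : F) * R.xU t₂ 1 with hv
  have hgv : g * v * g⁻¹ = v := by
    have := Subgroup.mem_centralizer_iff.mp hgC v rfl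
    rw [← this]; group
  obtain ⟨b, hb, n, hn, u, hu, rfl⟩ :=
    (H.A.U.bruhat_normal_form (F := F) H.A.B H.A.ntri (fun r hr => signCheck_or (H.A.sign r hr))).1 g hgG
  have huU := uMinus_le_posUnipotent C.D n hu
  obtain ⟨h, hh, l, hl, rfl⟩ := H.A.B.mono.monomial_decomp n hn
  obtain ⟨m₁, m₂⟩ := H.cent_pair_word hrefl hTpos hTB hnd ht₁ ht₂ hne hcl b hb h hh l hl u huU hgv
  have hw : ∀ {r s : ℕ}, r < C.D.nroots → s < C.D.nroots →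
      H.bI (reflW R.refl l r) (reflW R.refl l s) = H.bI r s :=
    fun hr hs => H.bI_reflW (F := F) hrefl l hl hr hs
  obtain ⟨f₁, f₂⟩ := huniq _ m₁ _ m₂ (hw hlt₁ hlt₁) (hw hlt₂ hlt₂) (hw hlt₁ hlt₂)
  have hpres : ∀ s < C.D.nroots, 1 ≤ levR C.D Lv.vec J s → 1 ≤ levR C.D Lv.vec J (reflW R.refl l s) := by
    intro s hs h1
    have e1 : H.bI (reflW R.refl l s) t₁ = H.bI s t₁ := by
      have := hw hs hlt₁
      rwa [f₁] at this
    have e2 : H.bI (reflW R.refl l s) t₂ = H.bI s t₂ := by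
      have := hw hs hlt₂
      rwa [f₂] at this
    rw [hlevel _ (R.reflW_lt l hl s hs) s hs e1 e2]
    exact h1
  have hnP := Lv.word_mem_parabolic (F := F) H.A.B hrv J h hh l hl hpres
  have hBP : C.D.borelSubgroup F ≤ C.D.parabolicSubgroup F J := le_sup_left
  exact Subgroup.mul_mem _ (Subgroup.mul_mem _ (hBP hb) hnP) (hBP (Subgroup.mem_sup_left huU))

end

end Cfsg.Agent.Lib.Helper3.DLInv
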