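import Mathlib
import Cfsg.Prelude.Def_ChevStructure
import Cfsg.Prelude.Def_ChevF4
import Cfsg.Agent.Lib.Helper3.DLBridge5
import Cfsg.Agent.Lib.Helper3.F4T1
import Cfsg.Agent.Lib.Helper3.ChevAutF4
import Cfsg.Agent.Lib.Helper3.TF2a
set_option autoImplicit false
set_option linter.unusedSectionVars false
set_option linter.unusedVariables false
set_option linter.style.haveILetI false
set_option maxRecDepth 1000000
open Cfsg Cfsg.Lie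

/-!
The classes of involutions of the groups of type `F₄` in characteristic two: the table checks, and the reduction of
every involution to one of four products of root elements.
-/

namespace Cfsg.Agent.Lib.Helper3.DLInv

open Cfsg.Agent.Lib.Helper3.ChevM Cfsg.Agent.Lib.Helper3 ChevU ChevT
open Cfsg.Agent.Lib.Helper3.ChevAt Cfsg.Agent.Lib.Helper3.ChevAut
open Cfsg.Agent.Lib.Helper3.SLInv Cfsg.Agent.Lib.Helper3.BitW Cfsg.Agent.Lib.Helper3.RF4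

/-- the weights of the height function of type `F₄` -/
def wF4 (i : ℕ) : ℤ := [1000, 100, 10, 1].getD i 0

/-- the Gram matrix of the fundamental roots of type `F₄`, the short roots of squared length two -/
def gramF4 (i j : ℕ) : ℤ := ([[2, -1, 0, 0], [-1, 2, -2, 0], [0, -2, 4, -2], [0, 0, -2, 4]].getD i []).getD j 0

set_option maxHeartbeats 4000000 in
/-- the table checks of type `F₄` -/
def dlHypF4 : DLHyp cdF4 relF4 where
  A := atHypF4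
  hcs := by decide +kernel
  w := wF4
  vec := vecF4
  gram := gramF4
  sym := by decide +kernel
  key := by decide +kernel
  neg := by decide +kernel
  nrm := by decide +kernel
  cas := by decide +kernel
  cm0 := by decide +kernel
  cmS := by decide +kernel
  cmM := by decide +kernel
  ort := by decide +kernel

theorem f4CascCheck : dlHypF4.cascCheck [] [47, 41, 30, 25] = true := by decide +kernel

/-- the nodes of the tree of type F4 -/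
def f4Nodes : List (List ℕ) :=
  [[],
   [47],
   [44],
   [41, 47],
   [37, 47],
   [32, 44],
   [29, 44],
   [30, 41, 47],
   [28, 41, 47],
   [33, 37, 47],
   [25, 37, 47],
   [27, 32, 44],
   [24, 32, 44],
   [30, 29, 44],
   [28, 29, 44],
   [25, 30, 41, 47],
   [27, 28, 41, 47],
   [25, 33, 37, 47],
   [33, 25, 37, 47],
   [24, 27, 32, 44],
   [27, 24, 32, 44],
   [25, 30, 29, 44],
   [27, 28, 29, 44]]

/-- the descent table of type F4 -/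
def f4DscTab : List (List ℕ × List ℕ) :=
  [([], [47, 46, 45, 44, 44, 44, 44, 40, 39, 47, 46, 47, 46, 45, 44, 40, 40, 40, 47, 46, 45, 39, 39, 47, 46, 38, 45, 43, 42, 41, 36, 43, 42, 40, 39, 38, 37, 36, 35, 34, 33, 29, 32, 31, 48, 26, 24, 48]),
   ([47], [0, 0, 0, 0, 0, 0, 41, 0, 0, 0, 37, 0, 35, 41, 41, 0, 0, 37, 0, 37, 37, 0, 35, 0, 0, 34, 0, 35, 34, 0, 33, 0, 0, 30, 28, 27, 0, 48, 0, 0, 0, 48, 0, 0, 0, 0, 0, 0]),
   ([44], [0, 0, 0, 0, 0, 0, 0, 0, 0, 0, 0, 0, 0, 0, 0, 32, 31, 30, 29, 32, 31, 29, 32, 29, 28, 31, 30, 26, 24, 48, 26, 25, 48, 0, 0, 0, 0, 0, 0, 0, 0, 0, 0, 0, 0, 0, 0, 0]),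
   ([41, 47], [0, 0, 0, 0, 0, 0, 0, 0, 0, 0, 0, 0, 0, 0, 0, 0, 0, 30, 0, 28, 30, 0, 28, 0, 0, 27, 0, 25, 48, 0, 48, 0, 0, 0, 0, 0, 0, 0, 0, 0, 0, 0, 0, 0, 0, 0, 0, 0]),
   ([37, 47], [0, 0, 0, 0, 0, 0, 0, 0, 0, 0, 0, 0, 0, 0, 33, 0, 0, 0, 0, 0, 0, 0, 25, 0, 0, 48, 0, 0, 0, 0, 0, 0, 0, 48, 0, 0, 0, 0, 0, 0, 0, 0, 0, 0, 0, 0, 0, 0]),
   ([32, 44], [0, 0, 0, 0, 0, 0, 0, 0, 0, 0, 0, 0, 0, 0, 0, 0, 0, 0, 0, 0, 27, 0, 0, 24, 48, 0, 0, 48, 0, 0, 0, 0, 0, 0, 0, 0, 0, 0, 0, 0, 0, 0, 0, 0, 0, 0, 0, 0]),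
   ([29, 44], [0, 0, 0, 0, 0, 0, 0, 0, 0, 0, 0, 0, 0, 0, 0, 0, 0, 30, 0, 28, 30, 0, 28, 0, 0, 27, 0, 25, 48, 0, 48, 0, 0, 0, 0, 0, 0, 0, 0, 0, 0, 0, 0, 0, 0, 0, 0, 0]),
   ([30, 41, 47], [0, 0, 0, 0, 0, 0, 0, 0, 0, 0, 0, 0, 0, 0, 0, 0, 0, 0, 0, 0, 0, 0, 25, 0, 0, 48, 0, 0, 0, 0, 0, 0, 0, 0, 0, 0, 0, 0, 0, 0, 0, 0, 0, 0, 0, 0, 0, 0]),
   ([28, 41, 47], [0, 0, 0, 0, 0, 0, 0, 0, 0, 0, 0, 0, 0, 0, 0, 0, 0, 0, 0, 0, 27, 0, 0, 0, 0, 0, 0, 48, 0, 0, 0, 0, 0, 0, 0, 0, 0, 0, 0, 0, 0, 0, 0, 0, 0, 0, 0, 0]),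
   ([33, 37, 47], [0, 0, 0, 0, 0, 0, 0, 0, 0, 0, 0, 0, 0, 0, 0, 0, 0, 0, 0, 0, 0, 0, 25, 0, 0, 48, 0, 0, 0, 0, 0, 0, 0, 0, 0, 0, 0, 0, 0, 0, 0, 0, 0, 0, 0, 0, 0, 0]),
   ([25, 37, 47], [0, 0, 0, 0, 0, 0, 0, 0, 0, 0, 0, 0, 0, 0, 33, 0, 0, 0, 0, 0, 0, 0, 0, 0, 0, 0, 0, 0, 0, 0, 0, 0, 0, 48, 0, 0, 0, 0, 0, 0, 0, 0, 0, 0, 0, 0, 0, 0]),
   ([27, 32, 44], [0, 0, 0, 0, 0, 0, 0, 0, 0, 0, 0, 0, 0, 0, 0, 0, 0, 0, 0, 0, 0, 0, 0, 24, 48, 0, 0, 0, 0, 0, 0, 0, 0, 0, 0, 0, 0, 0, 0, 0, 0, 0, 0, 0, 0, 0, 0, 0]),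
   ([24, 32, 44], [0, 0, 0, 0, 0, 0, 0, 0, 0, 0, 0, 0, 0, 0, 0, 0, 0, 0, 0, 0, 27, 0, 0, 0, 0, 0, 0, 48, 0, 0, 0, 0, 0, 0, 0, 0, 0, 0, 0, 0, 0, 0, 0, 0, 0, 0, 0, 0]),
   ([30, 29, 44], [0, 0, 0, 0, 0, 0, 0, 0, 0, 0, 0, 0, 0, 0, 0, 0, 0, 0, 0, 0, 0, 0, 25, 0, 0, 48, 0, 0, 0, 0, 0, 0, 0, 0, 0, 0, 0, 0, 0, 0, 0, 0, 0, 0, 0, 0, 0, 0]),
   ([28, 29, 44], [0, 0, 0, 0, 0, 0, 0, 0, 0, 0, 0, 0, 0, 0, 0, 0, 0, 0, 0, 0, 27, 0, 0, 0, 0, 0, 0, 48, 0, 0, 0, 0, 0, 0, 0, 0, 0, 0, 0, 0, 0, 0, 0, 0, 0, 0, 0, 0]),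
   ([25, 30, 41, 47], [0, 0, 0, 0, 0, 0, 0, 0, 0, 0, 0, 0, 0, 0, 0, 0, 0, 0, 0, 0, 0, 0, 0, 0, 0, 0, 0, 0, 0, 0, 0, 0, 0, 0, 0, 0, 0, 0, 0, 0, 0, 0, 0, 0, 0, 0, 0, 0]),
   ([27, 28, 41, 47], [0, 0, 0, 0, 0, 0, 0, 0, 0, 0, 0, 0, 0, 0, 0, 0, 0, 0, 0, 0, 0, 0, 0, 0, 0, 0, 0, 0, 0, 0, 0, 0, 0, 0, 0, 0, 0, 0, 0, 0, 0, 0, 0, 0, 0, 0, 0, 0]),
   ([25, 33, 37, 47], [0, 0, 0, 0, 0, 0, 0, 0, 0, 0, 0, 0, 0, 0, 0, 0, 0, 0, 0, 0, 0, 0, 0, 0, 0, 0, 0, 0, 0, 0, 0, 0, 0, 0, 0, 0, 0, 0, 0, 0, 0, 0, 0, 0, 0, 0, 0, 0]),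
   ([33, 25, 37, 47], [0, 0, 0, 0, 0, 0, 0, 0, 0, 0, 0, 0, 0, 0, 0, 0, 0, 0, 0, 0, 0, 0, 0, 0, 0, 0, 0, 0, 0, 0, 0, 0, 0, 0, 0, 0, 0, 0, 0, 0, 0, 0, 0, 0, 0, 0, 0, 0]),
   ([24, 27, 32, 44], [0, 0, 0, 0, 0, 0, 0, 0, 0, 0, 0, 0, 0, 0, 0, 0, 0, 0, 0, 0, 0, 0, 0, 0, 0, 0, 0, 0, 0, 0, 0, 0, 0, 0, 0, 0, 0, 0, 0, 0, 0, 0, 0, 0, 0, 0, 0, 0]),
   ([27, 24, 32, 44], [0, 0, 0, 0, 0, 0, 0, 0, 0, 0, 0, 0, 0, 0, 0, 0, 0, 0, 0, 0, 0, 0, 0, 0, 0, 0, 0, 0, 0, 0, 0, 0, 0, 0, 0, 0, 0, 0, 0, 0, 0, 0, 0, 0, 0, 0, 0, 0]),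
   ([25, 30, 29, 44], [0, 0, 0, 0, 0, 0, 0, 0, 0, 0, 0, 0, 0, 0, 0, 0, 0, 0, 0, 0, 0, 0, 0, 0, 0, 0, 0, 0, 0, 0, 0, 0, 0, 0, 0, 0, 0, 0, 0, 0, 0, 0, 0, 0, 0, 0, 0, 0]),
   ([27, 28, 29, 44], [0, 0, 0, 0, 0, 0, 0, 0, 0, 0, 0, 0, 0, 0, 0, 0, 0, 0, 0, 0, 0, 0, 0, 0, 0, 0, 0, 0, 0, 0, 0, 0, 0, 0, 0, 0, 0, 0, 0, 0, 0, 0, 0, 0, 0, 0, 0, 0])]

/-- the words to the certified lists of type F4 -/
def f4KindTab : List (List ℕ × (List ℕ × ℕ)) :=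
  [([47], ([], 0)),
   ([44], ([], 1)),
   ([41, 47], ([], 2)),
   ([37, 47], ([26], 3)),
   ([32, 44], ([34], 3)),
   ([29, 44], ([], 4)),
   ([30, 41, 47], ([26], 5)),
   ([28, 41, 47], ([24, 26, 34], 6)),
   ([33, 37, 47], ([26], 7)),
   ([25, 37, 47], ([24, 26], 6)),
   ([27, 32, 44], ([27, 33], 7)),
   ([24, 32, 44], ([34], 6)),
   ([30, 29, 44], ([26, 29, 33], 7)),
   ([28, 29, 44], ([34], 8)),
   ([25, 30, 41, 47], ([24], 9)),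
   ([27, 28, 41, 47], ([26, 36], 10)),
   ([25, 33, 37, 47], ([31], 10)),
   ([33, 25, 37, 47], ([31], 10)),
   ([24, 27, 32, 44], ([35], 10)),
   ([27, 24, 32, 44], ([35], 10)),
   ([25, 30, 29, 44], ([26, 34], 10)),
   ([27, 28, 29, 44], ([27, 33], 11))]

/-- the certified lists of type F4 -/
def f4Certs : List (List ℕ) :=
  [[47], [44], [41, 47], [39, 45], [29, 44], [32, 43, 45], [24, 39, 45], [33, 39, 45], [37, 38, 39], [26, 31, 42, 46], [32, 37, 38, 43], [33, 37, 38, 39]]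

/-- the tree of representatives of type F4 -/
def orbF4 : OrbD where
  nodes := f4Nodes
  dsc := fun N r => ((f4DscTab.lookup N).getD []).getD r 0
  fuel := 3
  certs := f4Certs
  kind := fun N => (f4KindTab.lookup N).getD ([], 0)

theorem f4TreeOK : dlHypF4.treeOK orbF4 = true := by decide +kernel

/-- the representatives of the classes of involutions of type F4 -/
def f4Reps : List (List ℕ) := [[47], [44], [47, 44], [39, 45]]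

section
variable (K : Type*) [Field K] [CharP K 2]

theorem wordG_append (w w' : List ℕ) : wordG (K := K) (w ++ w') = wordG w * wordG w' := by
  unfold wordG
  rw [List.map_append, List.prod_append]

theorem wordG_mem (w : List ℕ) (hw : ∀ r ∈ w, r < 48) : wordG (K := K) w ∈ cdF4.D.group K := by
  unfold wordG
  apply Subgroup.list_prod_mem
  intro y hy
  obtain ⟨r, hr, rfl⟩ := List.mem_map.mp hy
  exact relF4.xU_mem_group r (hw r hr) 1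

/-- conjugacy of two products of root elements from a word, by a computation with bit masks -/
theorem cjI_of_word (w L rep : List ℕ) (hw : ∀ r ∈ w, r < 48) (hL : ∀ r ∈ L, r < 48) (hrep : ∀ r ∈ rep, r < 48)
    (hc : (List.range 52).all (fun c => applyWs (wordTabs (w ++ L)) (1 <<< c) ==
      applyWs (wordTabs (rep ++ w)) (1 <<< c)) = true) : CjI relF4 K L rep := by
  have h1 : ∀ r ∈ w ++ L, r < 48 := by
    intro r hr
    rcases List.mem_append.mp hr with h | h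
    · exact hw r h
    · exact hL r h
  have h2 : ∀ r ∈ rep ++ w, r < 48 := by
    intro r hr
    rcases List.mem_append.mp hr with h | h
    · exact hrep r h
    · exact hw r h
  have e : wordG (K := K) (w ++ L) = wordG (rep ++ w) :=
    eq_of_tabs (hasTab_wordG _ h1) (hasTab_wordG _ h2) hc
  rw [wordG_append, wordG_append] at e
  refine ⟨wordG w, wordG_mem K w hw, ?_⟩
  rw [mul_inv_eq_iff_eq_mul]
  exact e

theorem f4Cert0 : CjI relF4 K [47] [47] :=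
  cjI_of_word K [] [47] [47] (by decide) (by decide) (by decide) (by decide +kernel)

theorem f4Cert1 : CjI relF4 K [44] [44] :=
  cjI_of_word K [] [44] [44] (by decide) (by decide) (by decide) (by decide +kernel)

theorem f4Cert2 : CjI relF4 K [41, 47] [47, 44] :=
  cjI_of_word K [18] [41, 47] [47, 44] (by decide) (by decide) (by decide) (by decide +kernel)

theorem f4Cert3 : CjI relF4 K [39, 45] [39, 45] :=
  cjI_of_word K [] [39, 45] [39, 45] (by decide) (by decide) (by decide) (by decide +kernel)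

theorem f4Cert4 : CjI relF4 K [29, 44] [47, 44] :=
  cjI_of_word K [6] [29, 44] [47, 44] (by decide) (by decide) (by decide) (by decide +kernel)

theorem f4Cert5 : CjI relF4 K [32, 43, 45] [39, 45] :=
  cjI_of_word K [13, 27, 33] [32, 43, 45] [39, 45] (by decide) (by decide) (by decide) (by decide +kernel)

theorem f4Cert6 : CjI relF4 K [24, 39, 45] [39, 45] :=
  cjI_of_word K [10, 22, 26] [24, 39, 45] [39, 45] (by decide) (by decide) (by decide) (by decide +kernel)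

theorem f4Cert7 : CjI relF4 K [33, 39, 45] [39, 45] :=
  cjI_of_word K [15, 20, 34] [33, 39, 45] [39, 45] (by decide) (by decide) (by decide) (by decide +kernel)

theorem f4Cert8 : CjI relF4 K [37, 38, 39] [39, 45] :=
  cjI_of_word K [21, 25, 24] [37, 38, 39] [39, 45] (by decide) (by decide) (by decide) (by decide +kernel)

theorem f4Cert9 : CjI relF4 K [26, 31, 42, 46] [39, 45] :=
  cjI_of_word K [13, 27, 33, 25, 22, 25, 25, 24, 17, 6] [26, 31, 42, 46] [39, 45] (by decide) (by decide) (by decide) (by decide +kernel)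

theorem f4Cert10 : CjI relF4 K [32, 37, 38, 43] [39, 45] :=
  cjI_of_word K [15, 20, 34, 26, 21, 26, 31, 16, 31, 31, 25, 14] [32, 37, 38, 43] [39, 45] (by decide) (by decide) (by decide) (by decide +kernel)

theorem f4Cert11 : CjI relF4 K [33, 37, 38, 39] [39, 45] :=
  cjI_of_word K [21, 25, 24, 34, 20, 19, 18] [33, 37, 38, 39] [39, 45] (by decide) (by decide) (by decide) (by decide +kernel)

theorem f4Certs_spec : ∀ L ∈ orbF4.certs, ∃ rep ∈ f4Reps, CjI relF4 K L rep := by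
  intro L hL
  have hc : orbF4.certs = f4Certs := rfl
  rw [hc] at hL
  simp only [f4Certs, List.mem_cons, List.not_mem_nil, or_false] at hL
  rcases hL with rfl | rfl | rfl | rfl | rfl | rfl | rfl | rfl | rfl | rfl | rfl | rfl
  · exact ⟨[47], by simp [f4Reps], f4Cert0 K⟩
  · exact ⟨[44], by simp [f4Reps], f4Cert1 K⟩
  · exact ⟨[47, 44], by simp [f4Reps], f4Cert2 K⟩
  · exact ⟨[39, 45], by simp [f4Reps], f4Cert3 K⟩
  · exact ⟨[47, 44], by simp [f4Reps], f4Cert4 K⟩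
  · exact ⟨[39, 45], by simp [f4Reps], f4Cert5 K⟩
  · exact ⟨[39, 45], by simp [f4Reps], f4Cert6 K⟩
  · exact ⟨[39, 45], by simp [f4Reps], f4Cert7 K⟩
  · exact ⟨[39, 45], by simp [f4Reps], f4Cert8 K⟩
  · exact ⟨[39, 45], by simp [f4Reps], f4Cert9 K⟩
  · exact ⟨[39, 45], by simp [f4Reps], f4Cert10 K⟩
  · exact ⟨[39, 45], by simp [f4Reps], f4Cert11 K⟩
end

section
variable (F : Type*) [Field F] [Fintype F] [CharP F 2]

/-- every involution is conjugate to one of the four products -/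
theorem f4_involution_rep (g : GL cdF4.D.Idx F) (hg : g ∈ cdF4.D.group F) (h2 : orderOf g = 2) :
    ∃ rep ∈ f4Reps, ∃ h ∈ cdF4.D.group F, h * g * h⁻¹ = xsI relF4 F rep := by
  have hc := dlHypF4.casc_of_check F _ [] f4CascCheck
  rw [List.map_nil] at hc
  obtain ⟨O, hO, h, hh, e⟩ := dlHypF4.involution_conj F hc (f4_sylow 2) g hg h2
  have hne : O ≠ [] := by
    rintro rfl
    have h1 : xsI relF4 F [] = 1 := rfl
    rw [h1] at e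
    have h3 : g = 1 := by
      have := congrArg (fun z => h⁻¹ * z * h) e
      simpa [mul_assoc] using this
    rw [h3, orderOf_one] at h2
    omega
  obtain ⟨rep, hrep, k, hk, e2⟩ := dlHypF4.classify F orbF4 f4TreeOK f4Reps (f4Certs_spec F) O hne hO
  refine ⟨rep, hrep, k * h, Subgroup.mul_mem _ hk hh, ?_⟩
  rw [← e2, ← e]; group

end

end Cfsg.Agent.Lib.Helper3.DLInv
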