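import Mathlib
import Cfsg.Prelude.Def_ChevStructure
import Cfsg.Agent.Lib.Helper3.SLRank1
import Cfsg.Agent.Lib.Helper3.BitW1
set_option autoImplicit false
set_option linter.unusedSectionVars false
set_option linter.unusedVariables false
set_option linter.unusedSimpArgs false
open Cfsg Cfsg.Lie

/-!
The rank of an element minus one restricted to a subspace spanned by coordinates which is stable under the group:
invariance under conjugation, the stability from a check of the tables of the root elements, and bounds for the rank
from lists of bit masks.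
-/

namespace Cfsg.Agent.Lib.Helper3.DLInv

open Cfsg.Agent.Lib.Helper3.ChevM Cfsg.Agent.Lib.Helper3.SLInv Cfsg.Agent.Lib.Helper3.BitW

section
variable {F : Type*} [Field F] {n : Type*} [Fintype n] [DecidableEq n]

/-- the matrix `h` maps the image of the idempotent `P` to itself -/
def StabP (P h : Matrix n n F) : Prop := h * P = P * h * P

theorem StabP.one (P : Matrix n n F) (hP : P * P = P) : StabP P 1 := by
  unfold StabP
  rw [one_mul, mul_one, hP]

theorem StabP.mul {P h h' : Matrix n n F} (h1 : StabP P h) (h2 : StabP P h') : StabP P (h * h') := by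
  unfold StabP at *
  calc h * h' * P = h * (h' * P) := by rw [mul_assoc]
    _ = h * (P * h' * P) := by rw [h2]
    _ = (h * P) * h' * P := by simp only [mul_assoc]
    _ = (P * h * P) * h' * P := by rw [h1]
    _ = P * h * (P * h' * P) := by simp only [mul_assoc]
    _ = P * h * (h' * P) := by rw [h2]
    _ = P * (h * h') * P := by simp only [mul_assoc]

/-- the element and its inverse map the image of `P` to itself -/
def StabG (P : Matrix n n F) (h : GL n F) : Prop :=
  StabP P (h : Matrix n n F) ∧ StabP P ((h⁻¹ : GL n F) : Matrix n n F)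

theorem stabG_closure (P : Matrix n n F) (hP : P * P = P) (S : Set (GL n F)) (hS : ∀ g ∈ S, StabG P g) :
    ∀ g ∈ Subgroup.closure S, StabG P g := by
  intro g hg
  induction hg using Subgroup.closure_induction with
  | mem x hx => exact hS x hx
  | one =>
    refine ⟨?_, ?_⟩
    · rw [Units.val_one]; exact StabP.one P hP
    · rw [inv_one, Units.val_one]; exact StabP.one P hP
  | mul x y _ _ hx hy =>
    refine ⟨?_, ?_⟩
    · rw [Units.val_mul]; exact hx.1.mul hy.1
    · rw [mul_inv_rev, Units.val_mul]; exact hy.2.mul hx.2
  | inv x _ hx =>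
    refine ⟨hx.2, ?_⟩
    rw [inv_inv]
    exact hx.1

/-- the rank of an element minus one on the image of `P` is invariant under conjugation by an element stabilising
the image -/
theorem rank_conj_proj (P : Matrix n n F) (hP : P * P = P) (h y : GL n F) (hs : StabG P h) :
    ((((h * y * h⁻¹ : GL n F) : Matrix n n F) - 1) * P).rank = (((y : Matrix n n F) - 1) * P).rank := by
  set H : Matrix n n F := (h : Matrix n n F) with hH
  set Hi : Matrix n n F := ((h⁻¹ : GL n F) : Matrix n n F) with hHi
  set Y : Matrix n n F := (y : Matrix n n F) with hY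
  have h1 : H * Hi = 1 := by
    rw [hH, hHi, ← Units.val_mul, mul_inv_cancel]; rfl
  have h2 : Hi * H = 1 := by
    rw [hH, hHi, ← Units.val_mul, inv_mul_cancel]; rfl
  have s1 : H * P = P * H * P := hs.1
  have s2 : Hi * P = P * Hi * P := hs.2
  set A : Matrix n n F := (Y - 1) * P with hA
  have e1 : (((h * y * h⁻¹ : GL n F) : Matrix n n F) - 1) * P = H * (A * (Hi * P)) := by
    rw [Units.val_mul, Units.val_mul, hA]
    calc (H * Y * Hi - 1) * P = H * (Y - 1) * (Hi * P) := by
          rw [mul_sub, mul_one, sub_mul, sub_mul, mul_assoc (H * Y), ← mul_assoc H Hi P, h1, one_mul,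
            mul_assoc H Y]
      _ = H * (Y - 1) * (P * Hi * P) := by rw [s2]
      _ = H * ((Y - 1) * P * (Hi * P)) := by simp only [mul_assoc]
  have hdet : IsUnit H.det := (Matrix.isUnit_iff_isUnit_det _).mp h.isUnit
  rw [e1, Matrix.rank_mul_eq_right_of_isUnit_det _ _ hdet]
  apply le_antisymm
  · exact Matrix.rank_mul_le_left _ _
  · have e2 : A = A * (Hi * P) * (H * P) := by
      calc A = A * P := by rw [hA, mul_assoc, hP]
        _ = A * (Hi * H * P) := by rw [h2, one_mul]
        _ = A * (Hi * (H * P)) := by rw [mul_assoc Hi H P]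
        _ = A * (Hi * (P * H * P)) := by rw [s1]
        _ = A * (Hi * P) * (H * P) := by simp only [mul_assoc]
    calc A.rank = (A * (Hi * P) * (H * P)).rank := by rw [← e2]
      _ ≤ (A * (Hi * P)).rank := Matrix.rank_mul_le_left _ _

end

section
variable (F : Type*) [Field F]

/-- the diagonal projection on the coordinates of a mask -/
def projM (D : ChevalleyDatum) (m : ℕ) : Matrix D.Idx D.Idx F := Matrix.diagonal fun j => bitF F m (code D j)

theorem bitF_mul_self (m k : ℕ) : bitF F m k * bitF F m k = bitF F m k := by
  unfold bitF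
  split <;> simp

theorem bitF_and (v m k : ℕ) : bitF F (v &&& m) k = bitF F m k * bitF F v k := by
  unfold bitF
  rw [Nat.testBit_and]
  cases v.testBit k <;> cases m.testBit k <;> simp

theorem projM_mul_self (D : ChevalleyDatum) (m : ℕ) : projM F D m * projM F D m = projM F D m := by
  unfold projM
  rw [Matrix.diagonal_mul_diagonal]
  congr 1
  funext j
  exact bitF_mul_self F m _

theorem projM_mulVec (D : ChevalleyDatum) (m v : ℕ) :
    (projM F D m).mulVec (bvec F D v) = bvec F D (v &&& m) := by
  funext j
  unfold projM
  rw [Matrix.mulVec_diagonal]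
  unfold bvec
  rw [bitF_and]

/-- the check that the root element of `r` maps the span of the coordinates of the mask `m` to itself in
characteristic two: the entries outside are even -/
def idealCheck (D : ChevalleyDatum) (m r : ℕ) : Bool :=
  (List.range (D.rank + D.nroots)).all fun c => !(m.testBit c) ||
    (colList D r c).all fun e => m.testBit e.row || decide (e.coef % 2 = 0)

variable [CharP F 2]

theorem x_entry_zero (D : ChevalleyDatum) (m r : ℕ) (hr : r < D.nroots) (h : idealCheck D m r = true) (t : F)
    (j col : D.Idx) (hcol : m.testBit (code D col) = true) (hj : m.testBit (code D j) = false) :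
    D.x F r t j col = 0 := by
  unfold ChevalleyDatum.x
  rw [dif_pos hr, xMat_entry]
  have hne : j ≠ col := by
    rintro rfl
    rw [hcol] at hj
    exact absurd hj (by simp)
  rw [if_neg hne, zero_add]
  simp only [idealCheck, List.all_eq_true, List.mem_range, Bool.or_eq_true, Bool.not_eq_true',
    decide_eq_true_eq] at h
  have h1 := h (code D col) (code_lt D col)
  rcases h1 with h1 | h1
  · rw [hcol] at h1; exact absurd h1 (by simp)
  · unfold colSum
    apply List.sum_eq_zero
    intro x hx
    obtain ⟨e, he, rfl⟩ := List.mem_map.mp hx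
    rw [List.mem_filter, decide_eq_true_eq] at he
    rcases h1 e he.1 with h2 | h2
    · rw [he.2, hj] at h2; exact absurd h2 (by simp)
    · rw [intCast_char_two F e.coef, if_pos h2, zero_mul]

/-- the root elements stabilise the span of the coordinates of the mask -/
theorem stabP_x (D : ChevalleyDatum) (m r : ℕ) (hr : r < D.nroots) (h : idealCheck D m r = true) (t : F) :
    StabP (projM F D m) (D.x F r t) := by
  unfold StabP projM
  ext j col
  rw [Matrix.mul_diagonal, Matrix.mul_diagonal, Matrix.diagonal_mul]
  unfold bitF
  by_cases h1 : m.testBit (code D col) = true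
  · by_cases h2 : m.testBit (code D j) = true
    · rw [if_pos h1, if_pos h2, one_mul]
    · have h3 := x_entry_zero F D m r hr h t j col h1 (by simpa using h2)
      rw [if_pos h1, if_neg h2, h3]
      simp
  · rw [if_neg h1, mul_zero, mul_zero]

end

section
variable (F : Type*) [Field F] [CharP F 2]

theorem subP_mulVec (D : ChevalleyDatum) (M : Matrix D.Idx D.Idx F) (tabs : List (List ℕ))
    (hM : ∀ v : ℕ, M.mulVec (bvec F D v) = bvec F D (applyW tabs v)) (m u : ℕ) :
    ((M - 1) * projM F D m).mulVec (bvec F D u) = bvec F D (applyW tabs (u &&& m) ^^^ (u &&& m)) := by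
  rw [← Matrix.mulVec_mulVec, projM_mulVec, sub_one_mulVec F D M tabs hM]

/-- the check of the images minus the vectors, the vectors in the span of the coordinates of the mask -/
def imgCheckP (tabs : List (List ℕ)) (m : ℕ) : List ℕ → List ℕ → Bool
  | [], [] => true
  | u :: us, b :: bs => (u &&& m == u) && (applyW tabs u ^^^ u == b) && imgCheckP tabs m us bs
  | _, _ => false

theorem imgCheckP_spec (tabs : List (List ℕ)) (m : ℕ) : ∀ (us bs : List ℕ), imgCheckP tabs m us bs = true →
    bs = us.map (fun u => applyW tabs (u &&& m) ^^^ (u &&& m)) := by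
  intro us
  induction us with
  | nil =>
    intro bs h
    cases bs with
    | nil => rfl
    | cons b bs => simp [imgCheckP] at h
  | cons u us ih =>
    intro bs h
    cases bs with
    | nil => simp [imgCheckP] at h
    | cons b bs =>
      simp only [imgCheckP, Bool.and_eq_true, beq_iff_eq] at h
      rw [List.map_cons, ← ih bs h.2, h.1.1, h.1.2]

/-- the check of a lower bound for the rank on the span -/
def lowerCheckP (N : ℕ) (tabs : List (List ℕ)) (m : ℕ) (us bs ps : List ℕ) : Bool :=
  imgCheckP tabs m us bs && pivCheck N bs ps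

/-- the check of the vectors of the kernel -/
def kerCheckP (tabs : List (List ℕ)) (m : ℕ) (vs : List ℕ) : Bool :=
  vs.all fun v => applyW tabs (v &&& m) == v &&& m

/-- the check of an upper bound for the rank on the span -/
def upperCheckP (N : ℕ) (tabs : List (List ℕ)) (m : ℕ) (vs ps : List ℕ) : Bool :=
  kerCheckP tabs m vs && pivCheck N vs ps

theorem rank_lowerP (D : ChevalleyDatum) (M : Matrix D.Idx D.Idx F) (tabs : List (List ℕ))
    (hM : ∀ v : ℕ, M.mulVec (bvec F D v) = bvec F D (applyW tabs v)) (m : ℕ) (us bs ps : List ℕ)
    (h : lowerCheckP (D.rank + D.nroots) tabs m us bs ps = true) :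
    us.length ≤ ((M - 1) * projM F D m).rank := by
  simp only [lowerCheckP, Bool.and_eq_true] at h
  obtain ⟨himg, h⟩ := h
  rw [imgCheckP_spec tabs m us bs himg] at h
  have hind := indep_of_pivCheck F D _ _ h
  have hl : (us.map fun u => applyW tabs (u &&& m) ^^^ (u &&& m)).length = us.length := List.length_map _
  have := le_rank_of_indep F ((M - 1) * projM F D m)
    (fun i : Fin (us.map fun u => applyW tabs (u &&& m) ^^^ (u &&& m)).length => bvec F D (us.get (i.cast hl))) (by
      convert hind using 2 with i
      rw [subP_mulVec F D M tabs hM]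
      simp)
  rwa [hl] at this

theorem rank_upperP (D : ChevalleyDatum) (M : Matrix D.Idx D.Idx F) (tabs : List (List ℕ))
    (hM : ∀ v : ℕ, M.mulVec (bvec F D v) = bvec F D (applyW tabs v)) (m : ℕ) (vs ps : List ℕ)
    (h : upperCheckP (D.rank + D.nroots) tabs m vs ps = true) :
    ((M - 1) * projM F D m).rank + vs.length ≤ D.rank + D.nroots := by
  simp only [upperCheckP, Bool.and_eq_true] at h
  obtain ⟨hker, hpiv⟩ := h
  simp only [kerCheckP, List.all_eq_true, beq_iff_eq] at hker
  have hind := indep_of_pivCheck F D _ _ hpiv
  have := rank_add_le_of_indep F ((M - 1) * projM F D m) _ hind (by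
    intro i
    rw [subP_mulVec F D M tabs hM, hker _ (List.get_mem _ _), Nat.xor_self]
    funext j
    exact bitF_zero F _)
  simpa using this

end

end Cfsg.Agent.Lib.Helper3.DLInv
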