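import Mathlib
import Cfsg.Prelude.Def_ChevStructure
import Cfsg.Prelude.Def_ChevF4
import Cfsg.Agent.Lib.Helper3.DLRank1
import Cfsg.Agent.Lib.Helper3.TF2a
set_option autoImplicit false
set_option linter.unusedSectionVars false
set_option linter.unusedVariables false
set_option maxRecDepth 1000000
open Cfsg Cfsg.Lie

/-!
The ranks of the representatives of the classes of involutions of type `F₄` minus one, on the whole space and on the
span of the coordinates of the short roots: lists of vectors in echelon form.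
-/

namespace Cfsg.Agent.Lib.Helper3.DLInv

open Cfsg.Agent.Lib.Helper3.ChevM Cfsg.Agent.Lib.Helper3.SLInv Cfsg.Agent.Lib.Helper3.BitW
open Cfsg.Agent.Lib.Helper3.RF4

/-- the mask of the coordinates of the ideal of the short roots of type `F₄` -/
def f4MaskI : ℕ := 316536972114051

theorem f4IdealCheck : ∀ r < 48, idealCheck chevF4 f4MaskI r = true := by decide +kernel

def f4U1 : List ℕ := [24, 32, 64, 128, 256, 512, 2048, 4096, 8192, 32768, 524288, 1048576, 4194304, 33554432, 134217728, 8]
def f4B1 : List ℕ := [5, 268435456, 1073741824, 8589934592, 34359738368, 68719476736, 1099511627776, 4398046511104, 8796093022208, 17592186044416, 70368744177664, 140737488355328, 281474976710656, 562949953421312, 1125899906842624, 2251799813685248]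
def f4P1 : List ℕ := [0, 28, 30, 33, 35, 36, 40, 42, 43, 44, 46, 47, 48, 49, 50, 51]
def f4V1 : List ℕ := [1, 2, 4, 1024, 16384, 65536, 131072, 262144, 2097152, 8388608, 16777216, 67108864, 268435456, 536870912, 1073741824, 2147483648, 4294967296, 8589934592, 17179869184, 34359738368, 68719476736, 137438953472, 274877906944, 549755813888, 1099511627776, 2199023255552, 4398046511104, 8796093022208, 17592186044416, 35184372088832, 70368744177664, 140737488355328, 281474976710656, 562949953421312, 1125899906842624, 2251799813685248]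
def f4Q1 : List ℕ := [0, 1, 2, 10, 14, 16, 17, 18, 21, 23, 24, 26, 28, 29, 30, 31, 32, 33, 34, 35, 36, 37, 38, 39, 40, 41, 42, 43, 44, 45, 46, 47, 48, 49, 50, 51]
def f4UP1 : List ℕ := [128, 2048, 4096, 8192, 32768, 4194304]
def f4BP1 : List ℕ := [8589934592, 1099511627776, 4398046511104, 8796093022208, 17592186044416, 281474976710656]
def f4PP1 : List ℕ := [33, 40, 42, 43, 44, 48]
def f4VP1 : List ℕ := [1, 2, 4, 8, 16, 32, 64, 256, 512, 1024, 16384, 65536, 131072, 262144, 524288, 1048576, 2097152, 8388608, 16777216, 33554432, 67108864, 134217728, 268435456, 536870912, 1073741824, 2147483648, 4294967296, 8589934592, 17179869184, 34359738368, 68719476736, 137438953472, 274877906944, 549755813888, 1099511627776, 2199023255552, 4398046511104, 8796093022208, 17592186044416, 35184372088832, 70368744177664, 140737488355328, 281474976710656, 562949953421312, 1125899906842624, 2251799813685248]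
def f4QP1 : List ℕ := [0, 1, 2, 3, 4, 5, 6, 8, 9, 10, 14, 16, 17, 18, 19, 20, 21, 23, 24, 25, 26, 27, 28, 29, 30, 31, 32, 33, 34, 35, 36, 37, 38, 39, 40, 41, 42, 43, 44, 45, 46, 47, 48, 49, 50, 51]

theorem f4Lower1 : lowerCheck 52 (wordTabs [47]) f4U1 f4B1 f4P1 = true := by decide +kernel
theorem f4Upper1 : upperCheck 52 (wordTabs [47]) f4V1 f4Q1 = true := by decide +kernel
theorem f4LowerP1 : lowerCheckP 52 (wordTabs [47]) f4MaskI f4UP1 f4BP1 f4PP1 = true := by decide +kernel
theorem f4UpperP1 : upperCheckP 52 (wordTabs [47]) f4MaskI f4VP1 f4QP1 = true := by decide +kernel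

def f4U2 : List ℕ := [129, 16, 32, 64, 256, 512, 1024, 2048, 4096, 8192, 16384, 32768, 65536, 131072, 262144, 1]
def f4B2 : List ℕ := [2, 35184376283136, 70368752566272, 140737505132544, 562952100904960, 1125904201809920, 2251808403619840, 137438953472, 274877906944, 549755813888, 1099511627776, 2199023255552, 4398046511104, 8796093022208, 17592186044416, 281474976710656]
def f4P2 : List ℕ := [1, 22, 23, 24, 31, 32, 33, 37, 38, 39, 40, 41, 42, 43, 44, 48]
def f4V2 : List ℕ := [2, 4, 8, 524288, 1048576, 2097152, 4194304, 8388608, 16777216, 33554432, 67108864, 134217728, 268435456, 536870912, 1073741824, 2147483648, 4294967296, 8589934592, 17179869184, 34359738368, 68719476736, 137438953472, 274877906944, 549755813888, 1099511627776, 2199023255552, 4398046511104, 8796093022208, 17592186044416, 35184372088832, 70368744177664, 140737488355328, 281474976710656, 562949953421312, 1125899906842624, 2251799813685248]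
def f4Q2 : List ℕ := [1, 2, 3, 19, 20, 21, 22, 23, 24, 25, 26, 27, 28, 29, 30, 31, 32, 33, 34, 35, 36, 37, 38, 39, 40, 41, 42, 43, 44, 45, 46, 47, 48, 49, 50, 51]
def f4UP2 : List ℕ := [129, 2048, 4096, 8192, 16384, 32768, 65536, 131072, 262144, 1]
def f4BP2 : List ℕ := [2, 137438953472, 274877906944, 549755813888, 1099511627776, 2199023255552, 4398046511104, 8796093022208, 17592186044416, 281474976710656]
def f4PP2 : List ℕ := [1, 37, 38, 39, 40, 41, 42, 43, 44, 48]
def f4VP2 : List ℕ := [2, 4, 8, 16, 32, 64, 256, 512, 1024, 524288, 1048576, 2097152, 4194304, 8388608, 16777216, 33554432, 67108864, 134217728, 268435456, 536870912, 1073741824, 2147483648, 4294967296, 8589934592, 17179869184, 34359738368, 68719476736, 137438953472, 274877906944, 549755813888, 1099511627776, 2199023255552, 4398046511104, 8796093022208, 17592186044416, 35184372088832, 70368744177664, 140737488355328, 281474976710656, 562949953421312, 1125899906842624, 2251799813685248]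
def f4QP2 : List ℕ := [1, 2, 3, 4, 5, 6, 8, 9, 10, 19, 20, 21, 22, 23, 24, 25, 26, 27, 28, 29, 30, 31, 32, 33, 34, 35, 36, 37, 38, 39, 40, 41, 42, 43, 44, 45, 46, 47, 48, 49, 50, 51]

theorem f4Lower2 : lowerCheck 52 (wordTabs [44]) f4U2 f4B2 f4P2 = true := by decide +kernel
theorem f4Upper2 : upperCheck 52 (wordTabs [44]) f4V2 f4Q2 = true := by decide +kernel
theorem f4LowerP2 : lowerCheckP 52 (wordTabs [44]) f4MaskI f4UP2 f4BP2 f4PP2 = true := by decide +kernel
theorem f4UpperP2 : upperCheckP 52 (wordTabs [44]) f4MaskI f4VP2 f4QP2 = true := by decide +kernel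

def f4U3 : List ℕ := [25, 1161, 524320, 1048640, 33554688, 134218240, 1032, 18432, 69632, 139264, 16384, 294912, 65536, 131072, 262144, 524288, 1048576, 1, 33554432, 134217728, 8]
def f4B3 : List ℕ := [35184376283141, 2, 276824064, 1090519040, 36507222016, 73014444032, 8589934592, 137438953472, 274877906944, 549755813888, 1099511627776, 2199023255552, 4398046511104, 8796093022208, 17592186044416, 70368744177664, 140737488355328, 281474976710656, 562949953421312, 1125899906842624, 2251799813685248]
def f4P3 : List ℕ := [0, 1, 23, 24, 31, 32, 33, 37, 38, 39, 40, 41, 42, 43, 44, 46, 47, 48, 49, 50, 51]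
def f4V3 : List ℕ := [4194305, 2, 4, 2097152, 8388608, 16777216, 67108864, 268435456, 536870912, 1073741824, 2147483648, 4294967296, 8589934592, 17179869184, 34359738368, 68719476736, 137438953472, 274877906944, 549755813888, 1099511627776, 2199023255552, 4398046511104, 8796093022208, 17592186044416, 35184372088832, 70368744177664, 140737488355328, 281474976710656, 562949953421312, 1125899906842624, 2251799813685248]
def f4Q3 : List ℕ := [0, 1, 2, 21, 23, 24, 26, 28, 29, 30, 31, 32, 33, 34, 35, 36, 37, 38, 39, 40, 41, 42, 43, 44, 45, 46, 47, 48, 49, 50, 51]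
def f4UP3 : List ℕ := [129, 18432, 69632, 139264, 16384, 294912, 65536, 131072, 262144, 1]
def f4BP3 : List ℕ := [8589934594, 137438953472, 274877906944, 549755813888, 1099511627776, 2199023255552, 4398046511104, 8796093022208, 17592186044416, 281474976710656]
def f4PP3 : List ℕ := [1, 37, 38, 39, 40, 41, 42, 43, 44, 48]
def f4VP3 : List ℕ := [4194305, 2, 4, 8, 16, 32, 64, 256, 512, 1024, 524288, 1048576, 2097152, 8388608, 16777216, 33554432, 67108864, 134217728, 268435456, 536870912, 1073741824, 2147483648, 4294967296, 8589934592, 17179869184, 34359738368, 68719476736, 137438953472, 274877906944, 549755813888, 1099511627776, 2199023255552, 4398046511104, 8796093022208, 17592186044416, 35184372088832, 70368744177664, 140737488355328, 281474976710656, 562949953421312, 1125899906842624, 2251799813685248]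
def f4QP3 : List ℕ := [0, 1, 2, 3, 4, 5, 6, 8, 9, 10, 19, 20, 21, 23, 24, 25, 26, 27, 28, 29, 30, 31, 32, 33, 34, 35, 36, 37, 38, 39, 40, 41, 42, 43, 44, 45, 46, 47, 48, 49, 50, 51]

theorem f4Lower3 : lowerCheck 52 (wordTabs [47, 44]) f4U3 f4B3 f4P3 = true := by decide +kernel
theorem f4Upper3 : upperCheck 52 (wordTabs [47, 44]) f4V3 f4Q3 = true := by decide +kernel
theorem f4LowerP3 : lowerCheckP 52 (wordTabs [47, 44]) f4MaskI f4UP3 f4BP3 f4PP3 = true := by decide +kernel
theorem f4UpperP3 : upperCheckP 52 (wordTabs [47, 44]) f4MaskI f4VP3 f4QP3 = true := by decide +kernel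

def f4U4 : List ℕ := [4098, 4164, 33554448, 67108896, 131200, 256, 16779264, 32768, 65536, 512, 1024, 524288, 4194304, 8388608, 8192, 16384, 2, 131072, 1048576, 2097152, 16777216, 6, 33562624, 67125248]
def f4B4 : List ℕ := [1, 8, 570433536, 1140867072, 2147614720, 68719738880, 274894684160, 4294967296, 8589934592, 17179869184, 34359738368, 140874927308800, 549755813888, 1099511627776, 2199023255552, 4398046511104, 8796093022208, 17592186044416, 35184372088832, 70368744177664, 281474976710656, 562949953421312, 1125899906842624, 2251799813685248]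
def f4P4 : List ℕ := [0, 3, 13, 14, 17, 18, 24, 32, 33, 34, 35, 37, 39, 40, 41, 42, 43, 44, 45, 46, 48, 49, 50, 51]
def f4V4 : List ℕ := [1, 8, 570433536, 1140867072, 2147614720, 262144, 274894684160, 134217728, 268435456, 4294967296, 8589934592, 17179869184, 34359738368, 68719476736, 137438953472, 549755813888, 1099511627776, 2199023255552, 4398046511104, 8796093022208, 17592186044416, 35184372088832, 70368744177664, 140737488355328, 281474976710656, 562949953421312, 1125899906842624, 2251799813685248]
def f4Q4 : List ℕ := [0, 3, 13, 14, 17, 18, 24, 27, 28, 32, 33, 34, 35, 36, 37, 39, 40, 41, 42, 43, 44, 45, 46, 47, 48, 49, 50, 51]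
def f4UP4 : List ℕ := [4098, 131200, 16779264, 32768, 65536, 4194304, 8388608, 8192, 16384, 2, 131072, 16777216]
def f4BP4 : List ℕ := [1, 2147614720, 274894684160, 4294967296, 8589934592, 549755813888, 1099511627776, 2199023255552, 4398046511104, 8796093022208, 17592186044416, 281474976710656]
def f4PP4 : List ℕ := [0, 17, 24, 32, 33, 39, 40, 41, 42, 43, 44, 48]
def f4VP4 : List ℕ := [1, 4, 8, 16, 32, 64, 256, 512, 1024, 2147614720, 262144, 524288, 1048576, 2097152, 274894684160, 33554432, 67108864, 134217728, 268435456, 536870912, 1073741824, 4294967296, 8589934592, 17179869184, 34359738368, 68719476736, 137438953472, 549755813888, 1099511627776, 2199023255552, 4398046511104, 8796093022208, 17592186044416, 35184372088832, 70368744177664, 140737488355328, 281474976710656, 562949953421312, 1125899906842624, 2251799813685248]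
def f4QP4 : List ℕ := [0, 2, 3, 4, 5, 6, 8, 9, 10, 17, 18, 19, 20, 21, 24, 25, 26, 27, 28, 29, 30, 32, 33, 34, 35, 36, 37, 39, 40, 41, 42, 43, 44, 45, 46, 47, 48, 49, 50, 51]

theorem f4Lower4 : lowerCheck 52 (wordTabs [39, 45]) f4U4 f4B4 f4P4 = true := by decide +kernel
theorem f4Upper4 : upperCheck 52 (wordTabs [39, 45]) f4V4 f4Q4 = true := by decide +kernel
theorem f4LowerP4 : lowerCheckP 52 (wordTabs [39, 45]) f4MaskI f4UP4 f4BP4 f4PP4 = true := by decide +kernel
theorem f4UpperP4 : upperCheckP 52 (wordTabs [39, 45]) f4MaskI f4VP4 f4QP4 = true := by decide +kernel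

section
variable (F : Type*) [Field F] [CharP F 2]

theorem f4_acts1 (v : ℕ) : ((wordG (K := F) [47] : GL cdF4.D.Idx F) : Matrix cdF4.D.Idx cdF4.D.Idx F).mulVec
    (bvec F cdF4.D v) = bvec F cdF4.D (applyW (wordTabs [47]) v) :=
  hasTab_wordG (K := F) [47] (by decide) v

theorem f4_rank1 : (((wordG (K := F) [47] : GL cdF4.D.Idx F) : Matrix cdF4.D.Idx cdF4.D.Idx F) - 1).rank = 16 := by
  have h1 := rank_lower F cdF4.D _ _ (f4_acts1 F) _ _ _ f4Lower1
  have h2 := rank_upper F cdF4.D _ _ (f4_acts1 F) _ _ f4Upper1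
  have e1 : f4U1.length = 16 := by decide
  have e2 : f4V1.length = 36 := by decide
  have e3 : cdF4.D.rank + cdF4.D.nroots = 52 := by decide
  rw [e1] at h1
  rw [e2, e3] at h2
  omega

theorem f4_rankP1 : ((((wordG (K := F) [47] : GL cdF4.D.Idx F) : Matrix cdF4.D.Idx cdF4.D.Idx F) - 1) *
    projM F cdF4.D f4MaskI).rank = 6 := by
  have h1 := rank_lowerP F cdF4.D _ _ (f4_acts1 F) f4MaskI _ _ _ f4LowerP1
  have h2 := rank_upperP F cdF4.D _ _ (f4_acts1 F) f4MaskI _ _ f4UpperP1
  have e1 : f4UP1.length = 6 := by decide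
  have e2 : f4VP1.length = 46 := by decide
  have e3 : cdF4.D.rank + cdF4.D.nroots = 52 := by decide
  rw [e1] at h1
  rw [e2, e3] at h2
  omega

theorem f4_acts2 (v : ℕ) : ((wordG (K := F) [44] : GL cdF4.D.Idx F) : Matrix cdF4.D.Idx cdF4.D.Idx F).mulVec
    (bvec F cdF4.D v) = bvec F cdF4.D (applyW (wordTabs [44]) v) :=
  hasTab_wordG (K := F) [44] (by decide) v

theorem f4_rank2 : (((wordG (K := F) [44] : GL cdF4.D.Idx F) : Matrix cdF4.D.Idx cdF4.D.Idx F) - 1).rank = 16 := by
  have h1 := rank_lower F cdF4.D _ _ (f4_acts2 F) _ _ _ f4Lower2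
  have h2 := rank_upper F cdF4.D _ _ (f4_acts2 F) _ _ f4Upper2
  have e1 : f4U2.length = 16 := by decide
  have e2 : f4V2.length = 36 := by decide
  have e3 : cdF4.D.rank + cdF4.D.nroots = 52 := by decide
  rw [e1] at h1
  rw [e2, e3] at h2
  omega

theorem f4_rankP2 : ((((wordG (K := F) [44] : GL cdF4.D.Idx F) : Matrix cdF4.D.Idx cdF4.D.Idx F) - 1) *
    projM F cdF4.D f4MaskI).rank = 10 := by
  have h1 := rank_lowerP F cdF4.D _ _ (f4_acts2 F) f4MaskI _ _ _ f4LowerP2
  have h2 := rank_upperP F cdF4.D _ _ (f4_acts2 F) f4MaskI _ _ f4UpperP2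
  have e1 : f4UP2.length = 10 := by decide
  have e2 : f4VP2.length = 42 := by decide
  have e3 : cdF4.D.rank + cdF4.D.nroots = 52 := by decide
  rw [e1] at h1
  rw [e2, e3] at h2
  omega

theorem f4_acts3 (v : ℕ) : ((wordG (K := F) [47, 44] : GL cdF4.D.Idx F) : Matrix cdF4.D.Idx cdF4.D.Idx F).mulVec
    (bvec F cdF4.D v) = bvec F cdF4.D (applyW (wordTabs [47, 44]) v) :=
  hasTab_wordG (K := F) [47, 44] (by decide) v

theorem f4_rank3 : (((wordG (K := F) [47, 44] : GL cdF4.D.Idx F) : Matrix cdF4.D.Idx cdF4.D.Idx F) - 1).rank = 21 := by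
  have h1 := rank_lower F cdF4.D _ _ (f4_acts3 F) _ _ _ f4Lower3
  have h2 := rank_upper F cdF4.D _ _ (f4_acts3 F) _ _ f4Upper3
  have e1 : f4U3.length = 21 := by decide
  have e2 : f4V3.length = 31 := by decide
  have e3 : cdF4.D.rank + cdF4.D.nroots = 52 := by decide
  rw [e1] at h1
  rw [e2, e3] at h2
  omega

theorem f4_rankP3 : ((((wordG (K := F) [47, 44] : GL cdF4.D.Idx F) : Matrix cdF4.D.Idx cdF4.D.Idx F) - 1) *
    projM F cdF4.D f4MaskI).rank = 10 := by
  have h1 := rank_lowerP F cdF4.D _ _ (f4_acts3 F) f4MaskI _ _ _ f4LowerP3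
  have h2 := rank_upperP F cdF4.D _ _ (f4_acts3 F) f4MaskI _ _ f4UpperP3
  have e1 : f4UP3.length = 10 := by decide
  have e2 : f4VP3.length = 42 := by decide
  have e3 : cdF4.D.rank + cdF4.D.nroots = 52 := by decide
  rw [e1] at h1
  rw [e2, e3] at h2
  omega

theorem f4_acts4 (v : ℕ) : ((wordG (K := F) [39, 45] : GL cdF4.D.Idx F) : Matrix cdF4.D.Idx cdF4.D.Idx F).mulVec
    (bvec F cdF4.D v) = bvec F cdF4.D (applyW (wordTabs [39, 45]) v) :=
  hasTab_wordG (K := F) [39, 45] (by decide) v

theorem f4_rank4 : (((wordG (K := F) [39, 45] : GL cdF4.D.Idx F) : Matrix cdF4.D.Idx cdF4.D.Idx F) - 1).rank = 24 := by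
  have h1 := rank_lower F cdF4.D _ _ (f4_acts4 F) _ _ _ f4Lower4
  have h2 := rank_upper F cdF4.D _ _ (f4_acts4 F) _ _ f4Upper4
  have e1 : f4U4.length = 24 := by decide
  have e2 : f4V4.length = 28 := by decide
  have e3 : cdF4.D.rank + cdF4.D.nroots = 52 := by decide
  rw [e1] at h1
  rw [e2, e3] at h2
  omega

theorem f4_rankP4 : ((((wordG (K := F) [39, 45] : GL cdF4.D.Idx F) : Matrix cdF4.D.Idx cdF4.D.Idx F) - 1) *
    projM F cdF4.D f4MaskI).rank = 12 := by
  have h1 := rank_lowerP F cdF4.D _ _ (f4_acts4 F) f4MaskI _ _ _ f4LowerP4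
  have h2 := rank_upperP F cdF4.D _ _ (f4_acts4 F) f4MaskI _ _ f4UpperP4
  have e1 : f4UP4.length = 12 := by decide
  have e2 : f4VP4.length = 40 := by decide
  have e3 : cdF4.D.rank + cdF4.D.nroots = 52 := by decide
  rw [e1] at h1
  rw [e2, e3] at h2
  omega

end

end Cfsg.Agent.Lib.Helper3.DLInv
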