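import Mathlib
import Cfsg.Prelude.Def_ChevStructure
import Cfsg.Prelude.Def_ChevF4
import Cfsg.Agent.Lib.Helper3.DLF4a
import Cfsg.Agent.Lib.Helper3.DLF4b
set_option autoImplicit false
set_option linter.unusedSectionVars false
set_option linter.unusedVariables false
set_option linter.unusedSimpArgs false
set_option linter.style.haveILetI false
set_option maxRecDepth 1000000
open Cfsg Cfsg.Lie

/-!
The classes of involutions of the groups of type `F₄` in characteristic two.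
-/

namespace Cfsg.Agent.Lib.Helper3.DLInv

open Cfsg.Agent.Lib.Helper3.ChevM Cfsg.Agent.Lib.Helper3 ChevU ChevT
open Cfsg.Agent.Lib.Helper3.ChevAt Cfsg.Agent.Lib.Helper3.ChevAut
open Cfsg.Agent.Lib.Helper3.SLInv Cfsg.Agent.Lib.Helper3.BitW Cfsg.Agent.Lib.Helper3.RF4

section
variable (F : Type*) [Field F] [Fintype F] [CharP F 2]

/-- the projection on the ideal of the short roots -/
noncomputable def f4P : Matrix cdF4.D.Idx cdF4.D.Idx F := projM F cdF4.D f4MaskI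

theorem f4_val1 : ((wordG (K := F) [47] : GL cdF4.D.Idx F) : Matrix cdF4.D.Idx cdF4.D.Idx F) =
    cdF4.D.x F 47 1 := by
  simp [wordG, mul_assoc]

theorem f4_val2 : ((wordG (K := F) [44] : GL cdF4.D.Idx F) : Matrix cdF4.D.Idx cdF4.D.Idx F) =
    cdF4.D.x F 44 1 := by
  simp [wordG, mul_assoc]

theorem f4_val3 : ((wordG (K := F) [47, 44] : GL cdF4.D.Idx F) : Matrix cdF4.D.Idx cdF4.D.Idx F) =
    cdF4.D.x F 47 1 * cdF4.D.x F 44 1 := by
  simp [wordG, mul_assoc]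

theorem f4_val4 : ((wordG (K := F) [39, 45] : GL cdF4.D.Idx F) : Matrix cdF4.D.Idx cdF4.D.Idx F) =
    cdF4.D.x F 39 1 * cdF4.D.x F 45 1 := by
  simp [wordG, mul_assoc]

theorem f4_rk1 : (cdF4.D.x F 47 1 - 1).rank = 16 := by rw [← f4_val1]; exact f4_rank1 F
theorem f4_rk2 : (cdF4.D.x F 44 1 - 1).rank = 16 := by rw [← f4_val2]; exact f4_rank2 F
theorem f4_rk3 : (cdF4.D.x F 47 1 * cdF4.D.x F 44 1 - 1).rank = 21 := by rw [← f4_val3]; exact f4_rank3 F
theorem f4_rk4 : (cdF4.D.x F 39 1 * cdF4.D.x F 45 1 - 1).rank = 24 := by rw [← f4_val4]; exact f4_rank4 F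

theorem f4_rkP1 : ((cdF4.D.x F 47 1 - 1) * f4P F).rank = 6 := by rw [← f4_val1]; exact f4_rankP1 F
theorem f4_rkP2 : ((cdF4.D.x F 44 1 - 1) * f4P F).rank = 10 := by rw [← f4_val2]; exact f4_rankP2 F
theorem f4_rkP3 : ((cdF4.D.x F 47 1 * cdF4.D.x F 44 1 - 1) * f4P F).rank = 10 := by
  rw [← f4_val3]; exact f4_rankP3 F
theorem f4_rkP4 : ((cdF4.D.x F 39 1 * cdF4.D.x F 45 1 - 1) * f4P F).rank = 12 := by
  rw [← f4_val4]; exact f4_rankP4 F

/-- a word with trivial square and nonzero rank is an involution of the group -/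
theorem f4_inv_of (w : List ℕ) (hw : ∀ r ∈ w, r < 48)
    (hsq : (List.range 52).all (fun c => applyWs (wordTabs (w ++ w)) (1 <<< c) ==
      applyWs ([] : List (List ℕ)) (1 <<< c)) = true) {k : ℕ} (hk : 0 < k)
    (hrank : (((wordG (K := F) w : GL cdF4.D.Idx F) : Matrix cdF4.D.Idx cdF4.D.Idx F) - 1).rank = k) :
    wordG (K := F) w ∈ cdF4.D.group F ∧ orderOf (wordG (K := F) w) = 2 := by
  refine ⟨wordG_mem F w hw, ?_⟩
  apply orderOf_eq_prime
  · rw [pow_two, ← wordG_append]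
    have h1 : ∀ r ∈ w ++ w, r < 48 := by
      intro r hr
      rcases List.mem_append.mp hr with h | h <;> exact hw r h
    exact eq_of_tabs (hasTab_wordG _ h1) hasTab_one_GL hsq
  · intro h1
    rw [h1] at hrank
    simp at hrank
    omega

theorem f4_partA : ∀ y : GL cdF4.D.Idx F, ((y : GL cdF4.D.Idx F) : Matrix cdF4.D.Idx cdF4.D.Idx F) ∈
      [cdF4.D.x F 47 1, cdF4.D.x F 44 1, cdF4.D.x F 47 1 * cdF4.D.x F 44 1, cdF4.D.x F 39 1 * cdF4.D.x F 45 1] →
    y ∈ cdF4.D.group F ∧ orderOf y = 2 := by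
  intro y hy
  simp only [List.mem_cons, List.not_mem_nil, or_false] at hy
  rcases hy with h | h | h | h
  · have : y = wordG (K := F) [47] := Units.ext (by rw [h, f4_val1])
    rw [this]
    exact f4_inv_of F [47] (by decide) (by decide +kernel) (by norm_num : 0 < 16) (f4_rank1 F)
  · have : y = wordG (K := F) [44] := Units.ext (by rw [h, f4_val2])
    rw [this]
    exact f4_inv_of F [44] (by decide) (by decide +kernel) (by norm_num : 0 < 16) (f4_rank2 F)
  · have : y = wordG (K := F) [47, 44] := Units.ext (by rw [h, f4_val3])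
    rw [this]
    exact f4_inv_of F [47, 44] (by decide) (by decide +kernel) (by norm_num : 0 < 21) (f4_rank3 F)
  · have : y = wordG (K := F) [39, 45] := Units.ext (by rw [h, f4_val4])
    rw [this]
    exact f4_inv_of F [39, 45] (by decide) (by decide +kernel) (by norm_num : 0 < 24) (f4_rank4 F)

theorem f4_partB : ∀ g ∈ cdF4.D.group F, orderOf g = 2 → ∃ y ∈ cdF4.D.group F,
    ((y : GL cdF4.D.Idx F) : Matrix cdF4.D.Idx cdF4.D.Idx F) ∈
      [cdF4.D.x F 47 1, cdF4.D.x F 44 1, cdF4.D.x F 47 1 * cdF4.D.x F 44 1, cdF4.D.x F 39 1 * cdF4.D.x F 45 1] ∧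
    ∃ h ∈ cdF4.D.group F, h * g * h⁻¹ = y := by
  intro g hg h2
  obtain ⟨rep, hrep, h, hh, e⟩ := f4_involution_rep F g hg h2
  simp only [f4Reps, List.mem_cons, List.not_mem_nil, or_false] at hrep
  rcases hrep with rfl | rfl | rfl | rfl
  · exact ⟨wordG (K := F) [47], wordG_mem F _ (by decide), by rw [f4_val1]; simp, h, hh, e⟩
  · exact ⟨wordG (K := F) [44], wordG_mem F _ (by decide), by rw [f4_val2]; simp, h, hh, e⟩
  · exact ⟨wordG (K := F) [47, 44], wordG_mem F _ (by decide), by rw [f4_val3]; simp, h, hh, e⟩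
  · exact ⟨wordG (K := F) [39, 45], wordG_mem F _ (by decide), by rw [f4_val4]; simp, h, hh, e⟩

/-- the elements of the group stabilise the ideal of the short roots -/
theorem f4_stab : ∀ g ∈ cdF4.D.group F, StabG (f4P F) g := by
  apply stabG_closure (f4P F) (projM_mul_self F cdF4.D f4MaskI)
  rintro g ⟨r, t, hg⟩
  have e : g = relF4.xU r.val t := by
    apply Units.ext
    rw [hg, relF4.xU_val]
    simp [ChevalleyDatum.x, r.isLt]
  have hinv : g⁻¹ = g := by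
    rw [inv_eq_iff_mul_eq_one, e, relF4.xU_add, CharTwo.add_self_eq_zero, relF4.xU_zero]
  have hs : StabP (f4P F) (g : Matrix cdF4.D.Idx cdF4.D.Idx F) := by
    rw [e, relF4.xU_val]
    exact stabP_x F cdF4.D f4MaskI r.val r.isLt (f4IdealCheck r.val r.isLt) t
  exact ⟨hs, by rw [hinv]; exact hs⟩

theorem f4_partC : ∀ y₁ ∈ cdF4.D.group F, ∀ y₂ ∈ cdF4.D.group F,
    ((y₁ : GL cdF4.D.Idx F) : Matrix cdF4.D.Idx cdF4.D.Idx F) ∈
      [cdF4.D.x F 47 1, cdF4.D.x F 44 1, cdF4.D.x F 47 1 * cdF4.D.x F 44 1, cdF4.D.x F 39 1 * cdF4.D.x F 45 1] →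
    ((y₂ : GL cdF4.D.Idx F) : Matrix cdF4.D.Idx cdF4.D.Idx F) ∈
      [cdF4.D.x F 47 1, cdF4.D.x F 44 1, cdF4.D.x F 47 1 * cdF4.D.x F 44 1, cdF4.D.x F 39 1 * cdF4.D.x F 45 1] →
    (∃ h ∈ cdF4.D.group F, h * y₁ * h⁻¹ = y₂) →
    ((y₁ : GL cdF4.D.Idx F) : Matrix cdF4.D.Idx cdF4.D.Idx F) =
      ((y₂ : GL cdF4.D.Idx F) : Matrix cdF4.D.Idx cdF4.D.Idx F) := by
  intro y₁ _ y₂ _ h1 h2 ⟨h, hh, e⟩
  have hr := rank_conj_sub_one h y₁
  have hp := rank_conj_proj (f4P F) (projM_mul_self F cdF4.D f4MaskI) h y₁ (f4_stab F h hh)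
  rw [e] at hr hp
  simp only [List.mem_cons, List.not_mem_nil, or_false] at h1 h2
  rcases h1 with h1 | h1 | h1 | h1 <;> rcases h2 with h2 | h2 | h2 | h2 <;> rw [h1, h2] at hr hp ⊢ <;>
    (exfalso
     first
       | (norm_num [f4_rk1 F, f4_rk2 F, f4_rk3 F, f4_rk4 F] at hr; done)
       | (norm_num [f4_rkP1 F, f4_rkP2 F, f4_rkP3 F, f4_rkP4 F] at hp))

end

end Cfsg.Agent.Lib.Helper3.DLInv
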