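import Cfsg.Agent.Lib.Helper3.SLInv3
set_option autoImplicit false
set_option linter.unusedSectionVars false
set_option linter.unusedVariables false
set_option linter.unusedSimpArgs false

/-!
The radical of a dominant root meets the unipotent group of the roots orthogonal to it trivially; elements
generated by root elements orthogonal to a list of roots commute with the root elements of that list.
-/

namespace Cfsg.Agent.Lib.Helper3.SLInv

theorem conj_mem_of_gens {G : Type*} [Group G] {K : Set G} {H : Subgroup G} {g : G}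
    (h : ∀ k ∈ K, g * k * g⁻¹ ∈ H) : ∀ q ∈ Subgroup.closure K, g * q * g⁻¹ ∈ H := by
  intro q hq
  induction hq using Subgroup.closure_induction with
  | mem k hk => exact h k hk
  | one => simp
  | mul a b _ _ ha hb =>
    rw [conj_mul_conj]; exact Subgroup.mul_mem _ ha hb
  | inv a _ ha =>
    have : g * a⁻¹ * g⁻¹ = (g * a * g⁻¹)⁻¹ := by group
    rw [this]; exact Subgroup.inv_mem _ ha

theorem comm_of_gens {G : Type*} [Group G] {K : Set G} {z : G}
    (h : ∀ k ∈ K, k * z = z * k) : ∀ q ∈ Subgroup.closure K, q * z = z * q := by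
  intro q hq
  have : Subgroup.closure K ≤ Subgroup.centralizer {z} := by
    rw [Subgroup.closure_le]
    intro k hk
    rw [SetLike.mem_coe, Subgroup.mem_centralizer_iff]
    intro y hy
    rw [Set.mem_singleton_iff] at hy
    subst hy
    exact (h k hk).symm
  have h2 := this hq
  rw [Subgroup.mem_centralizer_iff] at h2
  exact (h2 z rfl).symm

namespace SLSys

variable {G : Type*} [Group G] {F : Type*} [Field F] {l : ℕ} (S : SLSys G F l)
variable {T : List (Vec l)} {γ : Vec l}

/-- the group generated by the positive root elements -/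
def UPos : Subgroup G := Subgroup.closure {g : G | ∃ r ∈ S.roots, ∃ a, 0 < S.key r ∧ g = S.x r a}

/-- the group generated by the negative root elements -/
def UNeg : Subgroup G := Subgroup.closure {g : G | ∃ r ∈ S.roots, ∃ a, S.key r < 0 ∧ g = S.x r a}

theorem UT_le_UPos (T : List (Vec l)) : S.UT T ≤ S.UPos := by
  apply Subgroup.closure_mono
  rintro g ⟨r, hr, a, hk, -, rfl⟩
  exact ⟨r, hr, a, hk, rfl⟩

theorem UT_nil : S.UT [] = S.UPos := by
  apply le_antisymm (S.UT_le_UPos [])
  apply Subgroup.closure_mono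
  rintro g ⟨r, hr, a, hk, rfl⟩
  exact ⟨r, hr, a, hk, S.perp_nil r, rfl⟩

/-- `n γ` centralises the unipotent group orthogonal to `γ` -/
theorem n_comm_UT (hγ : γ ∈ S.roots) {m : G} (hm : m ∈ S.UT (γ :: T)) : m * S.n γ = S.n γ * m := by
  refine comm_of_gens ?_ m hm
  rintro _ ⟨r, hr, a, hk, hp, rfl⟩
  have h0 : S.B r γ = 0 := (S.perp_cons.mp hp).1
  have := S.n_conj_x hγ hr a
  rw [S.sr_of_zero h0] at this
  calc S.x r a * S.n γ = (S.n γ * S.x r a * (S.n γ)⁻¹) * S.n γ := by rw [this]
    _ = S.n γ * S.x r a := by group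

/-- `n γ` conjugates the radical into the negative unipotent group -/
theorem n_conj_QT (D : S.Dom T γ) {q : G} (hq : q ∈ S.QT T γ) : S.n γ * q * (S.n γ)⁻¹ ∈ S.UNeg := by
  refine conj_mem_of_gens ?_ q hq
  rintro _ ⟨r, hr, a, hp, h1, rfl⟩
  rw [S.n_conj_x D.mem hr a]
  rcases D.eq_or_one S hr h1 with h | h
  · rw [h, S.sr_self γ D.mem]
    exact Subgroup.subset_closure ⟨-γ, S.neg_mem γ D.mem, a, by rw [S.key_neg]; have := D.pos; omega, rfl⟩
  · rw [S.sr_of_one h]
    have hk := D.pos_of_one_le S (S.partner_mem D hr h) (S.partner_perp D hp) (by rw [S.partner_B D hr h])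
    refine Subgroup.subset_closure ⟨r - γ, S.sub_mem hr D.mem h, a, ?_, rfl⟩
    rw [S.key_sub] at hk ⊢
    omega

/-- the radical meets the unipotent group orthogonal to `γ` trivially -/
theorem QT_inf_UT (D : S.Dom T γ) {z : G} (hq : z ∈ S.QT T γ) (hm : z ∈ S.UT (γ :: T)) : z = 1 := by
  have h1 := S.n_conj_QT D hq
  have h2 : S.n γ * z * (S.n γ)⁻¹ = z := by
    rw [← S.n_comm_UT D.mem hm]; group
  rw [h2] at h1
  have h3 : z ∈ S.UPos := S.UT_le_UPos _ hm
  have h4 : z ∈ S.UPos ⊓ S.UNeg := ⟨h3, h1⟩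
  unfold UPos UNeg at h4
  rw [S.pos_inf_neg] at h4
  exact Subgroup.mem_bot.mp h4

/-- an involution `q * m` of the unipotent group has `m` an involution -/
theorem sq_decomp (D : S.Dom T γ) {q m : G} (hq : q ∈ S.QT T γ) (hm : m ∈ S.UT (γ :: T))
    (h : (q * m) * (q * m) = 1) : m * m = 1 := by
  have hb : q * (m * q * m⁻¹) * (m * m) = 1 := by
    rw [← h]; group
  have h1 : m * m = (q * (m * q * m⁻¹))⁻¹ := eq_inv_of_mul_eq_one_right hb
  apply S.QT_inf_UT D _ (Subgroup.mul_mem _ hm hm)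
  rw [h1]
  exact Subgroup.inv_mem _ (Subgroup.mul_mem _ hq (S.conj_QT_mem (S.UT_le_GT _ hm) hq))

/-- elements generated by root elements orthogonal to `β` commute with the root elements of `β` -/
theorem GT_comm_x {O : List (Vec l)} {β : Vec l} (hβ : β ∈ S.roots) (hO : β ∈ O) {g : G}
    (hg : g ∈ S.GT (O ++ T)) (a : F) : g * S.x β a = S.x β a * g := by
  refine comm_of_gens ?_ g hg
  rintro _ ⟨r, hr, b, hp, rfl⟩
  have h0 : S.B r β = 0 := (S.perp_append.mp hp).1 β hO
  exact S.x_comm r hr β hβ (by omega) b a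

theorem GT_comm_x_neg {O : List (Vec l)} {β : Vec l} (hβ : β ∈ S.roots) (hO : β ∈ O) {g : G}
    (hg : g ∈ S.GT (O ++ T)) (a : F) : g * S.x (-β) a = S.x (-β) a * g := by
  refine comm_of_gens ?_ g hg
  rintro _ ⟨r, hr, b, hp, rfl⟩
  have h0 : S.B r β = 0 := (S.perp_append.mp hp).1 β hO
  exact S.x_comm r hr (-β) (S.neg_mem β hβ) (by rw [S.B_neg_right, h0]; omega) b a

theorem GT_comm_n {O : List (Vec l)} {β : Vec l} (hβ : β ∈ S.roots) (hO : β ∈ O) {g : G}
    (hg : g ∈ S.GT (O ++ T)) : g * S.n β = S.n β * g := by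
  unfold n
  have h1 := S.GT_comm_x hβ hO hg 1
  have h2 := S.GT_comm_x_neg hβ hO hg 1
  calc g * (S.x β 1 * S.x (-β) 1 * S.x β 1) = (g * S.x β 1) * S.x (-β) 1 * S.x β 1 := by group
    _ = S.x β 1 * (g * S.x (-β) 1) * S.x β 1 := by rw [h1]; group
    _ = S.x β 1 * S.x (-β) 1 * (g * S.x β 1) := by rw [h2]; group
    _ = S.x β 1 * S.x (-β) 1 * S.x β 1 * g := by rw [h1]; group

/-- the product of the reflection elements -/
def ns (O : List (Vec l)) : G := (O.map fun r => S.n r).prod

theorem ns_nil : S.ns [] = 1 := rfl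

theorem ns_cons (r : Vec l) (O : List (Vec l)) : S.ns (r :: O) = S.n r * S.ns O := by
  simp [ns]

theorem ns_append (O O' : List (Vec l)) : S.ns (O ++ O') = S.ns O * S.ns O' := by
  simp [ns]

theorem GT_comm_xs {O : List (Vec l)} (hO : ∀ β ∈ O, β ∈ S.roots) {g : G}
    (hg : g ∈ S.GT (O ++ T)) : ∀ O' : List (Vec l), (∀ β ∈ O', β ∈ O) → g * S.xs O' = S.xs O' * g := by
  intro O'
  induction O' with
  | nil => intro _; rw [S.xs_nil, mul_one, one_mul]
  | cons β O' ih =>
    intro h
    have h1 := S.GT_comm_x (hO β (h β (List.mem_cons_self))) (h β (List.mem_cons_self)) hg 1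
    have h2 := ih (fun b hb => h b (List.mem_cons_of_mem _ hb))
    rw [S.xs_cons, ← mul_assoc, h1, mul_assoc, h2, mul_assoc]

theorem GT_comm_ns {O : List (Vec l)} (hO : ∀ β ∈ O, β ∈ S.roots) {g : G}
    (hg : g ∈ S.GT (O ++ T)) : ∀ O' : List (Vec l), (∀ β ∈ O', β ∈ O) → g * S.ns O' = S.ns O' * g := by
  intro O'
  induction O' with
  | nil => intro _; rw [S.ns_nil, mul_one, one_mul]
  | cons β O' ih =>
    intro h
    have h1 := S.GT_comm_n (hO β (h β (List.mem_cons_self))) (h β (List.mem_cons_self)) hg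
    have h2 := ih (fun b hb => h b (List.mem_cons_of_mem _ hb))
    rw [S.ns_cons, ← mul_assoc, h1, mul_assoc, h2, mul_assoc]

end SLSys

end Cfsg.Agent.Lib.Helper3.SLInv
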