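import Mathlib
import Cfsg.Agent.Lib.Helper3.SLInv4
set_option autoImplicit false
set_option linter.unusedSectionVars false
set_option linter.unusedVariables false
set_option linter.unusedSimpArgs false

/-!
Root elements of a group of Lie type with roots of two lengths (squared lengths `2` and `4`) in characteristic two,
abstractly: a finite set of integer vectors with a bilinear form, a linear functional separating positive and
negative roots, and root elements `x r a` subject to the commutator relations (without signs), the uniqueness of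
the expression of an element of the positive unipotent group as an ordered product, and the rank one relations.
This file holds the data and the first consequences.
-/

namespace Cfsg.Agent.Lib.Helper3.DLInv

open Cfsg.Agent.Lib.Helper3.SLInv

/-- The data and the relations. -/
structure DLSys (G : Type*) [Group G] (F : Type*) [Field F] (l : ℕ) where
  roots : List (Vec l)
  B : Vec l → Vec l → ℤ
  key : Vec l → ℤ
  x : Vec l → F → G
  h : Vec l → F → G
  nodup : roots.Nodup
  B_add_left : ∀ u v w, B (u + v) w = B u w + B v w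
  B_symm : ∀ u v, B u v = B v u
  key_add : ∀ u v, key (u + v) = key u + key v
  neg_mem : ∀ r ∈ roots, -r ∈ roots
  B_self : ∀ r ∈ roots, B r r = 2 ∨ B r r = 4
  B_cases : ∀ r ∈ roots, ∀ s ∈ roots, s = r ∨ s = -r ∨
    (B r r = 2 ∧ B s s = 2 ∧ (B r s = 1 ∨ B r s = 0 ∨ B r s = -1)) ∨
    ((B r r = 4 ∨ B s s = 4) ∧ (B r s = 2 ∨ B r s = 0 ∨ B r s = -2))
  add_same : ∀ r ∈ roots, ∀ s ∈ roots, B r r = B s s → B r s < 0 → s ≠ -r → r + s ∈ roots
  add_mixed : ∀ r ∈ roots, ∀ s ∈ roots, B r r = 4 → B s s = 2 → B r s = -2 →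
    r + s ∈ roots ∧ r + s + s ∈ roots
  add_short_orth : ∀ r ∈ roots, ∀ s ∈ roots, B r r = 2 → B s s = 2 → B r s = 0 → r + s ∈ roots
  key_ne : ∀ r ∈ roots, key r ≠ 0
  two : (2 : F) = 0
  sq_surj : ∀ a : F, ∃ b : F, b * b = a
  x_add : ∀ r ∈ roots, ∀ a b, x r (a + b) = x r a * x r b
  x_inj : ∀ r ∈ roots, ∀ a, x r a = 1 → a = 0
  x_comm : ∀ r ∈ roots, ∀ s ∈ roots, 0 ≤ B r s → ∀ a b, x r a * x s b = x s b * x r a
  x_comm_same : ∀ r ∈ roots, ∀ s ∈ roots, B r r = B s s → B r s < 0 → s ≠ -r → ∀ a b,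
    x s b * x r a = x r a * x s b * x (r + s) (a * b)
  x_comm_mixed : ∀ r ∈ roots, ∀ s ∈ roots, B r r = 4 → B s s = 2 → B r s = -2 → ∀ a b,
    x s b * x r a = x r a * x s b * x (r + s) (a * b) * x (r + s + s) (a * b * b)
  n_conj : ∀ r ∈ roots, ∀ a,
    (x r 1 * x (-r) 1 * x r 1) * x r a * (x r 1 * x (-r) 1 * x r 1)⁻¹ = x (-r) a
  h_mem : ∀ r ∈ roots, ∀ c : F, c ≠ 0 →
    h r c ∈ Subgroup.closure {g : G | ∃ a, g = x r a ∨ g = x (-r) a}
  h_conj : ∀ r ∈ roots, ∀ c : F, c ≠ 0 → ∀ s ∈ roots, ∀ a,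
    h r c * x s a * (h r c)⁻¹ = x s (c ^ (2 * B s r / B r r) * a)
  pos_inf_neg :
    Subgroup.closure {g : G | ∃ r ∈ roots, ∃ a, 0 < key r ∧ g = x r a} ⊓
      Subgroup.closure {g : G | ∃ r ∈ roots, ∃ a, key r < 0 ∧ g = x r a} = ⊥
  prod_inj : ∀ t t' : Vec l → F,
    ((roots.filter fun r => decide (0 < key r)).map fun r => x r (t r)).prod =
      ((roots.filter fun r => decide (0 < key r)).map fun r => x r (t' r)).prod →
    ∀ r ∈ roots, 0 < key r → t r = t' r

namespace DLSys

variable {G : Type*} [Group G] {F : Type*} [Field F] {l : ℕ} (S : DLSys G F l)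

theorem B_zero_left (w : Vec l) : S.B 0 w = 0 := by
  have := S.B_add_left 0 0 w
  rw [add_zero] at this
  omega

theorem B_neg_left (u w : Vec l) : S.B (-u) w = - S.B u w := by
  have := S.B_add_left (-u) u w
  rw [neg_add_cancel, S.B_zero_left] at this
  omega

theorem B_add_right (u v w : Vec l) : S.B u (v + w) = S.B u v + S.B u w := by
  rw [S.B_symm, S.B_add_left, S.B_symm v, S.B_symm w]

theorem B_neg_right (u w : Vec l) : S.B u (-w) = - S.B u w := by
  rw [S.B_symm, S.B_neg_left, S.B_symm]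

theorem B_sub_left (u v w : Vec l) : S.B (u - v) w = S.B u w - S.B v w := by
  rw [sub_eq_add_neg, S.B_add_left, S.B_neg_left]; ring

theorem B_sub_right (u v w : Vec l) : S.B u (v - w) = S.B u v - S.B u w := by
  rw [sub_eq_add_neg, S.B_add_right, S.B_neg_right]; ring

theorem key_zero : S.key 0 = 0 := by
  have := S.key_add 0 0
  rw [add_zero] at this
  omega

theorem key_neg (u : Vec l) : S.key (-u) = - S.key u := by
  have := S.key_add (-u) u
  rw [neg_add_cancel, S.key_zero] at this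
  omega

theorem key_sub (u v : Vec l) : S.key (u - v) = S.key u - S.key v := by
  rw [sub_eq_add_neg, S.key_add, S.key_neg]; ring

theorem x_zero {r : Vec l} (hr : r ∈ S.roots) : S.x r 0 = 1 := by
  have := S.x_add r hr 0 0
  rw [add_zero] at this
  exact (mul_eq_left.mp this.symm)

include S in
theorem add_self (a : F) : a + a = 0 := by
  rw [← two_mul, S.two, zero_mul]

theorem x_sq {r : Vec l} (hr : r ∈ S.roots) (a : F) : S.x r a * S.x r a = 1 := by
  rw [← S.x_add r hr, S.add_self, S.x_zero hr]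

theorem x_inv {r : Vec l} (hr : r ∈ S.roots) (a : F) : (S.x r a)⁻¹ = S.x r a :=
  inv_eq_of_mul_eq_one_right (S.x_sq hr a)

theorem x_injective {r : Vec l} (hr : r ∈ S.roots) {a b : F} (h : S.x r a = S.x r b) : a = b := by
  have h1 : S.x r (a + b) = 1 := by
    rw [S.x_add r hr, h, S.x_sq hr]
  have h2 := S.x_inj r hr _ h1
  have h3 : a = a + (b + b) := by rw [S.add_self, add_zero]
  rw [h3, ← add_assoc, h2, zero_add]

theorem norm_pos {r : Vec l} (hr : r ∈ S.roots) : 0 < S.B r r := by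
  rcases S.B_self r hr with h | h <;> omega

theorem B_neg_self {r : Vec l} (hr : r ∈ S.roots) : S.B r (-r) = - S.B r r := by
  rw [S.B_neg_right]

theorem B_neg_neg (u v : Vec l) : S.B (-u) (-v) = S.B u v := by
  rw [S.B_neg_left, S.B_neg_right, neg_neg]

theorem neg_ne_self {r : Vec l} (hr : r ∈ S.roots) : -r ≠ r := by
  intro h
  have := S.B_neg_self hr
  rw [h] at this
  have := S.norm_pos hr
  omega

/-- numerical form of the possible values of the form on two roots -/
theorem B_num {r s : Vec l} (hr : r ∈ S.roots) (hs : s ∈ S.roots) :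
    (s = r ∧ S.B r s = S.B r r ∧ S.B s s = S.B r r) ∨ (s = -r ∧ S.B r s = - S.B r r ∧ S.B s s = S.B r r) ∨
    (s ≠ r ∧ s ≠ -r ∧ S.B r r = 2 ∧ S.B s s = 2 ∧ (S.B r s = 1 ∨ S.B r s = 0 ∨ S.B r s = -1)) ∨
    (s ≠ r ∧ s ≠ -r ∧ (S.B r r = 4 ∨ S.B s s = 4) ∧ (S.B r s = 2 ∨ S.B r s = 0 ∨ S.B r s = -2)) := by
  by_cases h1 : s = r
  · left; subst h1; exact ⟨rfl, rfl, rfl⟩
  · by_cases h2 : s = -r
    · right; left; subst h2
      exact ⟨rfl, S.B_neg_right r r, S.B_neg_neg r r⟩
    · rcases S.B_cases r hr s hs with h | h | h | h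
      · exact absurd h h1
      · exact absurd h h2
      · right; right; left; exact ⟨h1, h2, h⟩
      · right; right; right; exact ⟨h1, h2, h⟩

/-- two roots of the same length with the form equal to the squared length are equal -/
theorem eq_of_B_eq_norm {r s : Vec l} (hr : r ∈ S.roots) (hs : s ∈ S.roots) (h : S.B r s = S.B r r)
    (hl : S.B s s = S.B r r) : s = r := by
  have hp := S.norm_pos hr
  rcases S.B_num hr hs with ⟨h1, -⟩ | ⟨-, h1, -⟩ | ⟨-, -, h1, h2, h3⟩ | ⟨-, -, h1, h3⟩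
  · exact h1
  · omega
  · omega
  · rcases S.B_self r hr with h4 | h4 <;> omega

theorem eq_neg_of_B_eq_neg_norm {r s : Vec l} (hr : r ∈ S.roots) (hs : s ∈ S.roots) (h : S.B r s = - S.B r r)
    (hl : S.B s s = S.B r r) : s = -r := by
  have hp := S.norm_pos hr
  rcases S.B_num hr hs with ⟨-, h1, -⟩ | ⟨h1, -⟩ | ⟨-, -, h1, h2, h3⟩ | ⟨-, -, h1, h3⟩
  · omega
  · exact h1
  · omega
  · rcases S.B_self r hr with h4 | h4 <;> omega

/-- a root with form value four on a long root is that root -/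
theorem eq_of_B_four {γ r : Vec l} (hγ : γ ∈ S.roots) (hr : r ∈ S.roots) (h : S.B r γ = 4) : r = γ := by
  rw [S.B_symm] at h
  rcases S.B_num hγ hr with ⟨h1, -⟩ | ⟨-, h1, -⟩ | ⟨-, -, h1, h2, h3⟩ | ⟨-, -, h1, h3⟩
  · exact h1
  · have := S.norm_pos hγ; omega
  · omega
  · omega

/-- the values of the form are bounded by the squared lengths -/
theorem B_le {r s : Vec l} (hr : r ∈ S.roots) (hs : s ∈ S.roots) :
    S.B r s ≤ S.B r r ∧ - S.B r r ≤ S.B r s ∧ S.B r s ≤ S.B s s ∧ - S.B s s ≤ S.B r s := by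
  rcases S.B_self r hr with h4 | h4 <;> rcases S.B_self s hs with h5 | h5 <;>
    rcases S.B_num hr hs with ⟨-, h1, h2⟩ | ⟨-, h1, h2⟩ | ⟨-, -, h1, h2, h3⟩ | ⟨-, -, h1, h3⟩ <;> omega

/-- the form of a long root and another root is even -/
theorem B_even_of_long {r s : Vec l} (hr : r ∈ S.roots) (hs : s ∈ S.roots) (h : S.B r r = 4) :
    S.B r s = 4 ∨ S.B r s = 2 ∨ S.B r s = 0 ∨ S.B r s = -2 ∨ S.B r s = -4 := by
  rcases S.B_num hr hs with ⟨-, h1, h2⟩ | ⟨-, h1, h2⟩ | ⟨-, -, h1, h2, h3⟩ | ⟨-, -, h1, h3⟩ <;> omega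

/-- sum of two roots of the same length with negative form -/
theorem add_same_norm {r s : Vec l} (hr : r ∈ S.roots) (hs : s ∈ S.roots) (hl : S.B r r = S.B s s)
    (h : S.B r s < 0) (hne : s ≠ -r) : S.B (r + s) (r + s) = S.B r r := by
  rw [S.B_add_left, S.B_add_right, S.B_add_right, S.B_symm s r]
  rcases S.B_num hr hs with ⟨-, h1, h2⟩ | ⟨h1, -⟩ | ⟨-, -, h1, h2, h3⟩ | ⟨-, -, h1, h3⟩
  · have := S.norm_pos hr; omega
  · exact absurd h1 hne
  · omega
  · omega

/-- difference of two roots of the same length with positive form -/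
theorem sub_same {r s : Vec l} (hr : r ∈ S.roots) (hs : s ∈ S.roots) (hl : S.B r r = S.B s s)
    (h : 0 < S.B r s) (hne : s ≠ r) : r - s ∈ S.roots := by
  rw [sub_eq_add_neg]
  refine S.add_same r hr (-s) (S.neg_mem s hs) (by rw [S.B_neg_neg]; exact hl) (by rw [S.B_neg_right]; omega) ?_
  intro e
  exact hne (neg_injective e)

/-- conjugation of a root element by a root element, the form being nonnegative -/
theorem conj_comm {r s : Vec l} (hr : r ∈ S.roots) (hs : s ∈ S.roots) (h : 0 ≤ S.B r s) (a b : F) :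
    S.x s b * S.x r a * (S.x s b)⁻¹ = S.x r a := by
  rw [← S.x_comm r hr s hs h, mul_assoc, mul_inv_cancel, mul_one]

/-- conjugation of a root element by a root element of the same length, the sum being a root -/
theorem conj_same {r s : Vec l} (hr : r ∈ S.roots) (hs : s ∈ S.roots) (hl : S.B r r = S.B s s)
    (h : S.B r s < 0) (hne : s ≠ -r) (a b : F) :
    S.x s b * S.x r a * (S.x s b)⁻¹ = S.x r a * S.x (r + s) (a * b) := by
  have hrs := S.add_same r hr s hs hl h hne
  have h1 : 0 ≤ S.B (r + s) s := by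
    rw [S.B_add_left]
    rcases S.B_num hr hs with ⟨-, h1, h2⟩ | ⟨h1, -⟩ | ⟨-, -, h1, h2, h3⟩ | ⟨-, -, h1, h3⟩
    · have := S.norm_pos hr; omega
    · exact absurd h1 hne
    · omega
    · omega
  rw [S.x_comm_same r hr s hs hl h hne, mul_assoc, mul_assoc, ← mul_assoc (S.x s b),
    ← S.x_comm _ hrs s hs h1, mul_assoc, mul_inv_cancel, mul_one]

/-- conjugation of a long root element by a short root element -/
theorem conj_ls {r s : Vec l} (hr : r ∈ S.roots) (hs : s ∈ S.roots) (hl : S.B r r = 4) (hsh : S.B s s = 2)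
    (h : S.B r s = -2) (a b : F) :
    S.x s b * S.x r a * (S.x s b)⁻¹ = S.x r a * S.x (r + s) (a * b) * S.x (r + s + s) (a * b * b) := by
  obtain ⟨h1, h2⟩ := S.add_mixed r hr s hs hl hsh h
  have c1 : 0 ≤ S.B (r + s) s := by rw [S.B_add_left, h, hsh]; omega
  have c2 : 0 ≤ S.B (r + s + s) s := by rw [S.B_add_left, S.B_add_left, h, hsh]; omega
  have e1 := S.x_comm _ h1 s hs c1 (a * b) b
  have e2 := S.x_comm _ h2 s hs c2 (a * b * b) b
  rw [S.x_comm_mixed r hr s hs hl hsh h]
  calc S.x r a * S.x s b * S.x (r + s) (a * b) * S.x (r + s + s) (a * b * b) * (S.x s b)⁻¹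
      = S.x r a * (S.x s b * S.x (r + s) (a * b)) * S.x (r + s + s) (a * b * b) * (S.x s b)⁻¹ := by group
    _ = S.x r a * (S.x (r + s) (a * b) * S.x s b) * S.x (r + s + s) (a * b * b) * (S.x s b)⁻¹ := by rw [e1]
    _ = S.x r a * S.x (r + s) (a * b) * (S.x s b * S.x (r + s + s) (a * b * b)) * (S.x s b)⁻¹ := by group
    _ = S.x r a * S.x (r + s) (a * b) * (S.x (r + s + s) (a * b * b) * S.x s b) * (S.x s b)⁻¹ := by rw [e2]
    _ = S.x r a * S.x (r + s) (a * b) * S.x (r + s + s) (a * b * b) := by group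

end DLSys

end Cfsg.Agent.Lib.Helper3.DLInv
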