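import Cfsg.Agent.Lib.Helper3.DLInv9
set_option autoImplicit false
set_option linter.unusedSectionVars false
set_option linter.unusedVariables false
set_option linter.unusedSimpArgs false

/-!
Clearing all the coordinates linked to a pivot, and the vanishing of the coordinate at the partner of a long
pivot for an involution.
-/

namespace Cfsg.Agent.Lib.Helper3.DLInv

open Cfsg.Agent.Lib.Helper3.SLInv

namespace DLSys

variable {G : Type*} [Group G] {F : Type*} [Field F] {l : ℕ} (S : DLSys G F l)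
variable {T : List (Vec l)} {γ : Vec l}

theorem conj_conj {g1 g2 q : G} : g2 * (g1 * q * g1⁻¹) * g2⁻¹ = (g2 * g1) * q * (g2 * g1)⁻¹ := by group

theorem conj_sq {g q : G} (h : q * q = 1) : (g * q * g⁻¹) * (g * q * g⁻¹) = 1 := by
  calc g * q * g⁻¹ * (g * q * g⁻¹) = g * (q * q) * g⁻¹ := by group
    _ = 1 := by rw [h]; group

open Classical in
/-- the number of targets with non-zero coordinate -/
noncomputable def tgCount (T : List (Vec l)) (γ r0 : Vec l) (q : G) : ℕ :=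
  ((S.Lq T γ).filter fun r => decide (S.Tg r0 r ∧ S.phi T γ r q ≠ 0)).length

open Classical in
/-- clearing all the coordinates linked to the pivot -/
theorem clean_all (D : S.Dom T γ) {Of : List (Vec l)} (hOfL : ∀ o ∈ Of, o ∈ S.Lq T γ)
    {r0 : Vec l} (hr0 : r0 ∈ S.Lq T γ) (hr0p : S.perp Of r0) : ∀ (n : ℕ) (q : G), S.QSt T γ Of q →
    S.phi T γ r0 q ≠ 0 → (S.B r0 r0 = 2 → S.HL T γ Of q) → S.tgCount T γ r0 q = n →
    ∃ g ∈ S.GT (γ :: T), S.QSt T γ Of (g * q * g⁻¹) ∧ S.phi T γ r0 (g * q * g⁻¹) = S.phi T γ r0 q ∧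
      (∀ o ∈ Of, S.phi T γ o (g * q * g⁻¹) = S.phi T γ o q) ∧
      (S.B r0 r0 = 2 → S.HL T γ Of (g * q * g⁻¹)) ∧
      ∀ r ∈ S.Lq T γ, S.Tg r0 r → S.phi T γ r (g * q * g⁻¹) = 0 := by
  intro n
  induction n using Nat.strong_induction_on with
  | _ n ih =>
    intro q hq h0 hL hn
    by_cases hex : ∃ r1 ∈ S.Lq T γ, S.Tg r0 r1 ∧ S.phi T γ r1 q ≠ 0
    · obtain ⟨r1, hr1, ht, h1⟩ := hex
      obtain ⟨g1, hg1, hq1, e0, eOf, hL1, hz, hrest⟩ := S.clean_one D hOfL hr0 hr0p hq h0 hL hr1 ht h1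
      set q1 := g1 * q * g1⁻¹ with hq1def
      have hlt : S.tgCount T γ r0 q1 < n := by
        rw [← hn]
        unfold tgCount
        have hsub : ((S.Lq T γ).filter fun r => decide (S.Tg r0 r ∧ S.phi T γ r q1 ≠ 0)) =
            (((S.Lq T γ).filter fun r => decide (S.Tg r0 r ∧ S.phi T γ r q ≠ 0)).filter
              fun r => decide (S.Tg r0 r ∧ S.phi T γ r q1 ≠ 0)) := by
          rw [List.filter_filter]
          apply List.filter_congr
          intro r hr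
          have : (S.Tg r0 r ∧ S.phi T γ r q1 ≠ 0) → (S.Tg r0 r ∧ S.phi T γ r q ≠ 0) := by
            rintro ⟨c1, c2⟩
            refine ⟨c1, ?_⟩
            by_cases e : r = r1
            · rw [e] at c2; exact absurd hz c2
            · rw [← hrest r hr c1 e]; exact c2
          by_cases hc : S.Tg r0 r ∧ S.phi T γ r q1 ≠ 0
          · simp [hc, this hc]
          · simp [hc]
        rw [hsub]
        apply List.length_filter_lt_length_iff_exists.mpr
        refine ⟨r1, List.mem_filter.mpr ⟨hr1, by simpa using ⟨ht, h1⟩⟩, ?_⟩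
        simp [hz]
      obtain ⟨g2, hg2, hq2, e0', eOf', hL2, hz2⟩ := ih _ hlt q1 hq1 (by rw [e0]; exact h0) hL1 rfl
      rw [hq1def, conj_conj] at hq2 e0' eOf' hL2 hz2
      refine ⟨g2 * g1, Subgroup.mul_mem _ hg2 hg1, hq2, by rw [e0', e0], fun o ho => by rw [eOf' o ho, eOf o ho],
        hL2, hz2⟩
    · refine ⟨1, Subgroup.one_mem _, by simpa using hq, by simp, fun o _ => by simp, by simpa using hL, ?_⟩
      intro r hr htr
      by_contra hne
      exact hex ⟨r, hr, htr, by simpa using hne⟩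

theorem x_comm_pr {r : Vec l} (hr : r ∈ S.roots) (a : F) : ∀ (L : List (Vec l)),
    (∀ v ∈ L, v ∈ S.roots ∧ 0 ≤ S.B r v) → ∀ t : Vec l → F, S.x r a * S.pr L t = S.pr L t * S.x r a := by
  intro L
  induction L with
  | nil => intro _ t; rw [S.pr_nil, mul_one, one_mul]
  | cons v L ih =>
    intro hL t
    rw [S.pr_cons, ← mul_assoc, S.x_comm r hr v (hL v List.mem_cons_self).1 (hL v List.mem_cons_self).2,
      mul_assoc, ih (fun w hw => hL w (List.mem_cons_of_mem _ hw)) t, mul_assoc]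

theorem pr_sq : ∀ (L : List (Vec l)), (∀ v ∈ L, v ∈ S.roots) → (∀ v ∈ L, ∀ w ∈ L, 0 ≤ S.B v w) →
    ∀ t : Vec l → F, S.pr L t * S.pr L t = 1 := by
  intro L
  induction L with
  | nil => intro _ _ t; rw [S.pr_nil, mul_one]
  | cons v L ih =>
    intro hL hB t
    have hv := hL v List.mem_cons_self
    have hc := S.x_comm_pr hv (t v) L (fun w hw => ⟨hL w (List.mem_cons_of_mem _ hw),
      hB v List.mem_cons_self w (List.mem_cons_of_mem _ hw)⟩) t
    rw [S.pr_cons]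
    calc S.x v (t v) * S.pr L t * (S.x v (t v) * S.pr L t)
        = S.x v (t v) * (S.pr L t * S.x v (t v)) * S.pr L t := by group
      _ = (S.x v (t v) * S.x v (t v)) * (S.pr L t * S.pr L t) := by rw [← hc]; group
      _ = 1 := by
        rw [S.x_sq hv, one_mul]
        exact ih (fun w hw => hL w (List.mem_cons_of_mem _ hw))
          (fun a ha b hb => hB a (List.mem_cons_of_mem _ ha) b (List.mem_cons_of_mem _ hb)) t

theorem partner_mem_Lq (D : S.Dom T γ) {r : Vec l} (hr : r ∈ S.Lq T γ) : γ - r ∈ S.Lq T γ := by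
  obtain ⟨h1, h2, h3⟩ := S.mem_Lq.mp hr
  exact S.mem_Lq.mpr ⟨S.partner_mem D h1 h3, S.partner_perp D h2, S.partner_B D h3⟩

/-- the coordinate at the partner of a cleared long root vanishes for an involution -/
theorem sq_zero (D : S.Dom T γ) {r0 : Vec l} (hr0 : r0 ∈ S.Lq T γ) (hlong : S.B r0 r0 = 4) {q : G}
    (hq : q ∈ S.QT T γ) (hsq : q * q = 1) (h0 : S.phi T γ r0 q ≠ 0)
    (hc : ∀ r ∈ S.Lq T γ, r ≠ r0 → 0 < S.B r r0 → S.phi T γ r q = 0) : S.phi T γ (γ - r0) q = 0 := by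
  classical
  obtain ⟨a1, a2, a3⟩ := S.mem_Lq.mp hr0
  have hp0 : γ - r0 ∈ S.Lq T γ := S.partner_mem_Lq D hr0
  obtain ⟨p0, hp0def⟩ : ∃ p0, p0 = γ - r0 := ⟨_, rfl⟩
  rw [← hp0def] at hp0 ⊢
  obtain ⟨b1, b2, b3⟩ := S.mem_Lq.mp hp0
  have hNp : S.B p0 p0 = 4 := by rw [hp0def, S.partner_norm D a3, hlong]
  have hB01 : S.B r0 p0 = -2 := by rw [hp0def, S.B_sub_right, a3, hlong]; rfl
  set t0 := S.phi T γ r0 q
  set t1 := S.phi T γ p0 q
  have hx0 : S.x r0 t0 ∈ S.QT T γ := S.x_mem_QT a1 a2 (by omega) t0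
  have hx1 : S.x p0 t1 ∈ S.QT T γ := S.x_mem_QT b1 b2 (by omega) t1
  have hne : p0 ≠ r0 := by
    intro e
    rw [e, hlong] at hB01
    omega
  set q2 := S.x p0 t1 * (S.x r0 t0 * q) with hq2
  have hq2m : q2 ∈ S.QT T γ := Subgroup.mul_mem _ hx1 (Subgroup.mul_mem _ hx0 hq)
  have hcoord : ∀ r ∈ S.Lq T γ, S.phi T γ r q2 =
      S.phi T γ r (S.x p0 t1) + (S.phi T γ r (S.x r0 t0) + S.phi T γ r q) := by
    intro r hr
    rw [hq2, S.phi_mul D hr hx1 (Subgroup.mul_mem _ hx0 hq), S.phi_mul D hr hx0 hq]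
  -- the support of `q2`
  have hsupp : ∀ r ∈ S.Lq T γ, ¬ (S.B r r0 = 0) → S.phi T γ r q2 = 0 := by
    intro r hr hB
    obtain ⟨m1, m2, m3⟩ := S.mem_Lq.mp hr
    rw [hcoord r hr]
    by_cases e0 : r = r0
    · subst e0
      rw [S.phi_gen_ne D hr hp0 hne, S.phi_gen_self D hr, zero_add, S.add_self]
    · by_cases e1 : r = p0
      · subst e1
        rw [S.phi_gen_self D hr, S.phi_gen_ne D hr hr0 (Ne.symm e0), zero_add, S.add_self]
      · rw [S.phi_gen_ne D hr hp0 (Ne.symm e1), S.phi_gen_ne D hr hr0 (Ne.symm e0), zero_add, zero_add]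
        rcases lt_trichotomy (S.B r r0) 0 with h | h | h
        · exfalso
          apply e1
          obtain ⟨-, -, -, e, -⟩ := S.Lq_neg D hr hr0 h
          rw [hp0def, ← e]; abel
        · exact absurd h hB
        · exact hc r hr e0 h
  obtain ⟨c, hcq⟩ := S.nf_support D hq2m (fun r => S.B r r0 = 0) hsupp
  generalize hL0 : List.filter _ (S.Lq T γ) = L0 at hcq
  set P := S.pr L0 (fun r => S.phi T γ r q2) with hP
  have hL0mem : ∀ v ∈ L0, v ∈ S.Lq T γ ∧ S.B v r0 = 0 := by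
    intro v hv
    rw [← hL0] at hv
    obtain ⟨h1, h2⟩ := List.mem_filter.mp hv
    exact ⟨h1, by simpa using h2⟩
  have hPm : P ∈ S.QT T γ := S.pr_mem_QT (fun v hv => (hL0mem v hv).1) _
  -- `q2` is an involution commuting with the two root elements
  have hPsq : P * P = 1 := by
    apply S.pr_sq L0 (fun v hv => (S.mem_Lq.mp (hL0mem v hv).1).1)
    intro v hv w hw
    obtain ⟨hv1, hv0⟩ := hL0mem v hv
    obtain ⟨hw1, hw0⟩ := hL0mem w hw
    by_contra hneg
    obtain ⟨-, -, -, e, -⟩ := S.Lq_neg D hv1 hw1 (by omega)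
    have h2 : S.B (v + w) r0 = 0 := by rw [S.B_add_left, hv0, hw0]; rfl
    rw [e, S.B_symm, a3] at h2
    omega
  have hq2sq : q2 * q2 = 1 := by
    rw [hcq]
    have := S.xγ_comm D hPm c
    calc P * S.x γ c * (P * S.x γ c) = P * (S.x γ c * P) * S.x γ c := by group
      _ = (P * P) * (S.x γ c * S.x γ c) := by rw [this]; group
      _ = 1 := by rw [hPsq, S.x_sq D.mem, mul_one]
  have hcomm0 : S.x r0 t0 * q2 = q2 * S.x r0 t0 := by
    rw [hcq]
    have e1 := S.x_comm_pr a1 t0 L0 (fun v hv => ⟨(S.mem_Lq.mp (hL0mem v hv).1).1, by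
      rw [S.B_symm, (hL0mem v hv).2]⟩) (fun r => S.phi T γ r q2)
    have e2 := S.x_comm r0 a1 γ D.mem (by omega) t0 c
    rw [← mul_assoc, e1, mul_assoc, e2, mul_assoc]
  have hcomm1 : S.x p0 t1 * q2 = q2 * S.x p0 t1 := by
    rw [hcq]
    have e1 := S.x_comm_pr b1 t1 L0 (fun v hv => ⟨(S.mem_Lq.mp (hL0mem v hv).1).1, by
      rw [S.B_symm, hp0def, S.B_sub_right, (hL0mem v hv).2, (S.mem_Lq.mp (hL0mem v hv).1).2.2]; omega⟩)
      (fun r => S.phi T γ r q2)
    have e2 := S.x_comm p0 b1 γ D.mem (by omega) t1 c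
    rw [← mul_assoc, e1, mul_assoc, e2, mul_assoc]
  have hq' : q = S.x r0 t0 * (S.x p0 t1 * q2) := by
    rw [hq2, ← mul_assoc (S.x p0 t1), S.x_sq b1, one_mul, ← mul_assoc, S.x_sq a1, one_mul]
  have hne' : p0 ≠ -r0 := by
    intro e
    rw [e, S.B_neg_left, a3] at b3
    omega
  have hswap := S.x_comm_same r0 a1 p0 b1 (by rw [hlong, hNp]) (by omega) hne' t0 t1
  have hsum : r0 + p0 = γ := by rw [hp0def]; abel
  rw [hsum] at hswap
  have hγ1 := S.x_comm p0 b1 γ D.mem (by omega) t1 (t0 * t1)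
  have : S.x γ (t0 * t1) = 1 := by
    rw [← hsq]
    conv_rhs => rw [hq']
    symm
    calc S.x r0 t0 * (S.x p0 t1 * q2) * (S.x r0 t0 * (S.x p0 t1 * q2))
        = S.x r0 t0 * S.x p0 t1 * (q2 * S.x r0 t0) * S.x p0 t1 * q2 := by group
      _ = S.x r0 t0 * S.x p0 t1 * (S.x r0 t0 * q2) * S.x p0 t1 * q2 := by rw [hcomm0]
      _ = S.x r0 t0 * S.x p0 t1 * S.x r0 t0 * (q2 * S.x p0 t1) * q2 := by group
      _ = S.x r0 t0 * S.x p0 t1 * S.x r0 t0 * (S.x p0 t1 * q2) * q2 := by rw [hcomm1]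
      _ = S.x r0 t0 * (S.x p0 t1 * S.x r0 t0) * S.x p0 t1 * (q2 * q2) := by group
      _ = S.x r0 t0 * (S.x r0 t0 * S.x p0 t1 * S.x γ (t0 * t1)) * S.x p0 t1 * 1 := by rw [hswap, hq2sq]
      _ = (S.x r0 t0 * S.x r0 t0) * S.x p0 t1 * (S.x γ (t0 * t1) * S.x p0 t1) := by group
      _ = S.x p0 t1 * (S.x p0 t1 * S.x γ (t0 * t1)) := by rw [S.x_sq a1, one_mul, ← hγ1]
      _ = S.x γ (t0 * t1) := by rw [← mul_assoc, S.x_sq b1, one_mul]
  have h2 := S.x_inj γ D.mem _ this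
  rcases mul_eq_zero.mp h2 with h | h
  · exact absurd h h0
  · exact h

end DLSys

end Cfsg.Agent.Lib.Helper3.DLInv
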