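import Cfsg.Agent.Lib.Helper3.DLInv10
set_option autoImplicit false
set_option linter.unusedSectionVars false
set_option linter.unusedVariables false
set_option linter.unusedSimpArgs false

/-!
Involutions of the radical of a dominant long root are conjugate to products of root elements along an orthogonal
list of roots of the radical, times an element of the root subgroup of the dominant root.
-/

namespace Cfsg.Agent.Lib.Helper3.DLInv

open Cfsg.Agent.Lib.Helper3.SLInv

namespace DLSys

variable {G : Type*} [Group G] {F : Type*} [Field F] {l : ℕ} (S : DLSys G F l)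
variable {T : List (Vec l)} {γ : Vec l}

open Classical in
/-- the number of roots of the radical orthogonal to a list -/
noncomputable def mu (T : List (Vec l)) (γ : Vec l) (Of : List (Vec l)) : ℕ :=
  ((S.Lq T γ).filter fun r => decide (S.perp Of r)).length

open Classical in
/-- the recursion accumulating an orthogonal support -/
theorem qp_rec (D : S.Dom T γ) : ∀ (n : ℕ) (Of : List (Vec l)) (q : G),
    (∀ o ∈ Of, o ∈ S.Lq T γ) → S.Orth Of → q ∈ S.QT T γ → q * q = 1 →
    (∀ o ∈ Of, S.phi T γ o q ≠ 0) →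
    (∀ r ∈ S.Lq T γ, S.phi T γ r q ≠ 0 → r ∈ Of ∨ S.perp Of r) → S.mu T γ Of = n →
    ∃ g ∈ S.GT (γ :: T), ∃ Of' : List (Vec l), (∀ o ∈ Of', o ∈ S.Lq T γ) ∧ S.Orth Of' ∧
      (∀ o ∈ Of', S.phi T γ o (g * q * g⁻¹) ≠ 0) ∧
      (∀ r ∈ S.Lq T γ, S.phi T γ r (g * q * g⁻¹) ≠ 0 → r ∈ Of') := by
  intro n
  induction n using Nat.strong_induction_on with
  | _ n ih =>
    intro Of q hOf hOrth hq hsq hI0 hI1 hn
    by_cases hex : ∃ r ∈ S.Lq T γ, S.perp Of r ∧ S.phi T γ r q ≠ 0
    · -- choose a pivot, long if possible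
      obtain ⟨r0, hr0, hr0p, h0, hL⟩ : ∃ r0 ∈ S.Lq T γ, S.perp Of r0 ∧ S.phi T γ r0 q ≠ 0 ∧
          (S.B r0 r0 = 2 → S.HL T γ Of q) := by
        by_cases hlong : ∃ r ∈ S.Lq T γ, S.perp Of r ∧ S.phi T γ r q ≠ 0 ∧ S.B r r = 4
        · obtain ⟨r, hr, h1, h2, h3⟩ := hlong
          exact ⟨r, hr, h1, h2, fun h => by omega⟩
        · obtain ⟨r, hr, h1, h2⟩ := hex
          refine ⟨r, hr, h1, h2, fun _ => ?_⟩
          intro r' hr' hl' hne'
          rcases hI1 r' hr' hne' with h | h
          · exact h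
          · exact absurd ⟨r', hr', h, hne', hl'⟩ hlong
      obtain ⟨a1, a2, a3⟩ := S.mem_Lq.mp hr0
      have hst : S.QSt T γ Of q := ⟨hq, hI1⟩
      obtain ⟨g1, hg1, hst1, e0, eOf, hL1, hclr⟩ := S.clean_all D hOf hr0 hr0p _ q hst h0 hL rfl
      set q1 := g1 * q * g1⁻¹ with hq1
      have hsq1 : q1 * q1 = 1 := conj_sq hsq
      have h01 : S.phi T γ r0 q1 ≠ 0 := by rw [e0]; exact h0
      -- the new orthogonal set
      have hOf1 : ∀ o ∈ r0 :: Of, o ∈ S.Lq T γ := by
        intro o ho
        rcases List.mem_cons.mp ho with h | h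
        · rw [h]; exact hr0
        · exact hOf o h
      have hOrth1 : S.Orth (r0 :: Of) := by
        refine ⟨fun o ho => (S.mem_Lq.mp (hOf1 o ho)).1, List.pairwise_cons.mpr ⟨?_, hOrth.2⟩⟩
        intro o ho
        exact hr0p o ho
      have hI01 : ∀ o ∈ r0 :: Of, S.phi T γ o q1 ≠ 0 := by
        intro o ho
        rcases List.mem_cons.mp ho with h | h
        · rw [h]; exact h01
        · rw [eOf o h]; exact hI0 o h
      have hI11 : ∀ r ∈ S.Lq T γ, S.phi T γ r q1 ≠ 0 → r ∈ r0 :: Of ∨ S.perp (r0 :: Of) r := by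
        intro r hr hne
        obtain ⟨m1, m2, m3⟩ := S.mem_Lq.mp hr
        rcases hst1.inv r hr hne with h | h
        · exact Or.inl (List.mem_cons_of_mem _ h)
        · by_cases e : r = r0
          · left; rw [e]; exact List.mem_cons_self
          rcases lt_trichotomy (S.B r r0) 0 with h' | h' | h'
          · exfalso
            obtain ⟨k1, k2, -, e2, -⟩ := S.Lq_neg D hr hr0 h'
            have hp0 := S.sq_zero D hr0 k2 hst1.mem hsq1 h01 (fun r' hr' hne' hpos =>
              hclr r' hr' ⟨hne', hpos, Or.inl k2⟩)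
            have e3 : r = γ - r0 := by rw [← e2]; abel
            rw [e3] at hne
            exact hne hp0
          · right; exact S.perp_cons.mpr ⟨h', h⟩
          · by_cases htg : S.B r0 r0 = 4 ∨ S.B r r = 2
            · exact absurd (hclr r hr ⟨e, h', htg⟩) hne
            · left
              have k1 : S.B r0 r0 = 2 := by
                rcases S.B_self r0 a1 with k | k
                · exact k
                · exact absurd (Or.inl k) htg
              have k2 : S.B r r = 4 := by
                rcases S.B_self r m1 with k | k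
                · exact absurd (Or.inr k) htg
                · exact k
              exact List.mem_cons_of_mem _ (hL1 k1 r hr k2 hne)
      have hlt : S.mu T γ (r0 :: Of) < n := by
        rw [← hn]
        unfold mu
        have hsub : ((S.Lq T γ).filter fun r => decide (S.perp (r0 :: Of) r)) =
            (((S.Lq T γ).filter fun r => decide (S.perp Of r)).filter fun r => decide (S.B r r0 = 0)) := by
          rw [List.filter_filter]
          apply List.filter_congr
          intro r _
          simp only [S.perp_cons, Bool.decide_and, Bool.and_comm]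
        rw [hsub]
        apply List.length_filter_lt_length_iff_exists.mpr
        refine ⟨r0, List.mem_filter.mpr ⟨hr0, by simpa using hr0p⟩, ?_⟩
        have := S.norm_pos a1
        simp
        omega
      obtain ⟨g2, hg2, Of', h1, h2, h3, h4⟩ := ih _ hlt (r0 :: Of) q1 hOf1 hOrth1 hst1.mem hsq1 hI01 hI11 rfl
      rw [hq1, conj_conj] at h3 h4
      exact ⟨g2 * g1, Subgroup.mul_mem _ hg2 hg1, Of', h1, h2, h3, h4⟩
    · refine ⟨1, Subgroup.one_mem _, Of, hOf, hOrth, by simpa using hI0, ?_⟩
      intro r hr hne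
      have hne' : S.phi T γ r q ≠ 0 := by simpa using hne
      rcases hI1 r hr hne' with h | h
      · exact h
      · exact absurd ⟨r, hr, h, hne'⟩ hex

theorem orth_ne : ∀ {O : List (Vec l)}, S.Orth O → ∀ {a b : Vec l}, a ∈ O → b ∈ O → a ≠ b → S.B a b = 0 := by
  intro O
  induction O with
  | nil => intro _ a b ha; exact absurd ha List.not_mem_nil
  | cons β O ih =>
    intro hO a b ha hb hab
    rcases List.mem_cons.mp ha with h1 | h1
    · rcases List.mem_cons.mp hb with h2 | h2
      · exact absurd (h1.trans h2.symm) hab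
      · rw [h1]; exact hO.head_perp S b h2
    · rcases List.mem_cons.mp hb with h2 | h2
      · rw [h2, S.B_symm]; exact hO.head_perp S a h1
      · exact ih (hO.tail S) h1 h2 hab

open Classical in
/-- an involution of the radical is conjugate to a product over an orthogonal list times a central element -/
theorem qp_form (D : S.Dom T γ) {q : G} (hq : q ∈ S.QT T γ) (hsq : q * q = 1) :
    ∃ g ∈ S.GT (γ :: T), ∃ (L : List (Vec l)) (t : Vec l → F) (c : F), (∀ o ∈ L, o ∈ S.Lq T γ) ∧ S.Orth L ∧
      (∀ o ∈ L, t o ≠ 0) ∧ g * q * g⁻¹ = S.pr L t * S.x γ c := by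
  obtain ⟨g, hg, Of', h1, h2, h3, h4⟩ := S.qp_rec D _ [] q (fun _ h => absurd h List.not_mem_nil) (Orth.nil S) hq hsq
    (fun _ h => absurd h List.not_mem_nil) (fun r _ _ => Or.inr (S.perp_nil r)) rfl
  have hq' : g * q * g⁻¹ ∈ S.QT T γ := S.conj_QT_mem hg hq
  obtain ⟨c, hc⟩ := S.nf_support D hq' (fun r => r ∈ Of') (fun r hr hne => by
    by_contra h
    exact hne (h4 r hr h))
  generalize hL : List.filter _ (S.Lq T γ) = L at hc
  have hLmem : ∀ o ∈ L, o ∈ S.Lq T γ ∧ o ∈ Of' := by
    intro o ho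
    rw [← hL] at ho
    obtain ⟨k1, k2⟩ := List.mem_filter.mp ho
    exact ⟨k1, by simpa using k2⟩
  have hnd : L.Nodup := by rw [← hL]; exact S.nodup_Lq.filter _
  refine ⟨g, hg, L, _, c, fun o ho => (hLmem o ho).1, ⟨fun o ho => (S.mem_Lq.mp (hLmem o ho).1).1, ?_⟩,
    fun o ho => h3 o (hLmem o ho).2, hc⟩
  apply hnd.pairwise_of_forall_ne
  intro a ha b hb hab
  exact S.orth_ne h2 (hLmem a ha).2 (hLmem b hb).2 hab

theorem conj_pr {g : G} {L : List (Vec l)} {t : Vec l → F} (h : ∀ v ∈ L, g * S.x v (t v) * g⁻¹ = S.x v (t v)) :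
    g * S.pr L t * g⁻¹ = S.pr L t := by
  induction L with
  | nil => rw [S.pr_nil]; group
  | cons v L ih =>
    rw [S.pr_cons, conj_mul_conj, h v List.mem_cons_self, ih fun w hw => h w (List.mem_cons_of_mem _ hw)]

theorem xs_eq_pr (O : List (Vec l)) : S.xs O = S.pr O (fun _ => (1 : F)) := rfl

theorem h_mem_GT {o : Vec l} (ho : o ∈ S.roots) (hp : S.perp T o) {c : F} (hc : c ≠ 0) : S.h o c ∈ S.GT T := by
  have := S.h_mem o ho c hc
  revert this
  apply Subgroup.closure_mono
  rintro _ ⟨a, rfl | rfl⟩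
  · exact ⟨o, ho, a, hp, rfl⟩
  · exact ⟨-o, S.neg_mem o ho, a, S.perp_neg hp, rfl⟩

/-- scaling the parameters to one by diagonal elements -/
theorem scale_gen : ∀ (L P : List (Vec l)), S.Orth L → (∀ o ∈ L, S.perp T o) →
    (∀ p ∈ P, ∀ o ∈ L, S.B o p = 0) → ∀ (t : Vec l → F), (∀ o ∈ L, t o ≠ 0) →
    ∃ g ∈ S.GT (P ++ T), g * S.pr L t * g⁻¹ = S.xs L := by
  intro L
  induction L with
  | nil =>
    intro P _ _ _ t _
    exact ⟨1, Subgroup.one_mem _, by rw [S.pr_nil, S.xs_nil]; group⟩
  | cons o L ih =>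
    intro P hOrth hLT hP t ht
    have a1 := hOrth.head S
    have a2 := hLT o List.mem_cons_self
    have hNo := S.norm_pos a1
    obtain ⟨lam, hlam⟩ := S.sq_surj (t o)⁻¹
    have hlam0 : lam ≠ 0 := by
      intro e
      rw [e, mul_zero] at hlam
      exact ht o List.mem_cons_self (inv_eq_zero.mp hlam.symm)
    have hoP : S.perp (P ++ T) o := S.perp_append.mpr ⟨fun p hp => hP p hp o List.mem_cons_self, a2⟩
    have hh : S.h o lam ∈ S.GT (P ++ T) := S.h_mem_GT a1 hoP hlam0
    have e1 : S.h o lam * S.x o (t o) * (S.h o lam)⁻¹ = S.x o 1 := by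
      rw [S.h_conj o a1 lam hlam0 o a1, Int.mul_ediv_cancel _ (by omega), zpow_two, hlam,
        inv_mul_cancel₀ (ht o List.mem_cons_self)]
    have e2 : S.h o lam * S.pr L t * (S.h o lam)⁻¹ = S.pr L t := by
      apply S.conj_pr
      intro v hv
      rw [S.h_conj o a1 lam hlam0 v ((hOrth.tail S).1 v hv), S.B_symm, hOrth.head_perp S v hv, mul_zero,
        Int.zero_ediv, zpow_zero, one_mul]
    obtain ⟨g1, hg1, e⟩ := ih (o :: P) (hOrth.tail S) (fun v hv => hLT v (List.mem_cons_of_mem _ hv)) (by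
      intro p hp v hv
      rcases List.mem_cons.mp hp with h | h
      · rw [h, S.B_symm]; exact hOrth.head_perp S v hv
      · exact hP p h v (List.mem_cons_of_mem _ hv)) t (fun v hv => ht v (List.mem_cons_of_mem _ hv))
    have hcomm : g1 * S.x o 1 = S.x o 1 * g1 := S.GT_comm_x a1 List.mem_cons_self hg1 1
    have hg1' : g1 ∈ S.GT (P ++ T) := S.GT_cons_le (P ++ T) o hg1
    refine ⟨g1 * S.h o lam, Subgroup.mul_mem _ hg1' hh, ?_⟩
    have step1 : S.h o lam * S.pr (o :: L) t * (S.h o lam)⁻¹ = S.x o 1 * S.pr L t := by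
      rw [S.pr_cons, conj_mul_conj (S.h o lam), e1, e2]
    have : g1 * S.x o 1 * g1⁻¹ = S.x o 1 := by rw [hcomm]; group
    rw [← conj_conj, step1, conj_mul_conj g1, e, this, S.xs_cons]

end DLSys

end Cfsg.Agent.Lib.Helper3.DLInv
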