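import Cfsg.Agent.Lib.Helper3.DLInv11
set_option autoImplicit false
set_option linter.unusedSectionVars false
set_option linter.unusedVariables false
set_option linter.unusedSimpArgs false

/-!
Absorbing the central factor of a normal form of an involution of the radical, and the conjugacy of the involutions
of the radical to products of root elements of pairwise orthogonal roots.
-/

namespace Cfsg.Agent.Lib.Helper3.DLInv

open Cfsg.Agent.Lib.Helper3.SLInv

namespace DLSys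

variable {G : Type*} [Group G] {F : Type*} [Field F] {l : ℕ} (S : DLSys G F l)
variable {T : List (Vec l)} {γ : Vec l}

/-- two orthogonal short roots of the radical have sum `γ` -/
theorem short_pair_sum (D : S.Dom T γ) {s s' : Vec l} (hs : s ∈ S.Lq T γ) (hs' : s' ∈ S.Lq T γ)
    (h2 : S.B s s = 2) (h2' : S.B s' s' = 2) (h0 : S.B s s' = 0) : s + s' = γ := by
  obtain ⟨s1, -, s3⟩ := S.mem_Lq.mp hs
  obtain ⟨t1, -, t3⟩ := S.mem_Lq.mp hs'
  exact S.eq_of_B_four D.mem (S.add_short_orth s s1 s' t1 h2 h2' h0) (by rw [S.B_add_left, s3, t3]; rfl)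

/-- absorbing the central factor, the list containing a long root -/
theorem absorb_long (D : S.Dom T γ) {L : List (Vec l)} (hL : ∀ o ∈ L, o ∈ S.Lq T γ) (hOrth : S.Orth L)
    (t : Vec l → F) (ht : ∀ o ∈ L, t o ≠ 0) (c : F) {o : Vec l} (ho : o ∈ L) (hlong : S.B o o = 4) :
    ∃ g ∈ S.GT T, g * (S.pr L t * S.x γ c) * g⁻¹ = S.pr L t := by
  obtain ⟨L1, L2, e⟩ := List.append_of_mem ho
  obtain ⟨o1, o2, o3⟩ := S.mem_Lq.mp (hL o ho)
  have hp := S.partner_mem D o1 o3
  obtain ⟨p, hpdef⟩ : ∃ p, p = γ - o := ⟨_, rfl⟩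
  rw [← hpdef] at hp
  have hNp : S.B p p = 4 := by rw [hpdef, S.partner_norm D o3, hlong]
  have hpT : S.perp T p := by rw [hpdef]; exact S.partner_perp D o2
  have hpγ : S.B p γ = 2 := by rw [hpdef]; exact S.partner_B D o3
  have hto := ht o ho
  set d := c * (t o)⁻¹ with hd
  have htd : t o * d = c := by rw [hd, mul_comm c, ← mul_assoc, mul_inv_cancel₀ hto, one_mul]
  have hpw := hOrth.2
  rw [e] at hpw
  obtain ⟨pw1, pw2, pw3⟩ := List.pairwise_append.mp hpw
  have hL1 : ∀ v ∈ L1, v ∈ L := fun v hv => by rw [e]; exact List.mem_append_left _ hv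
  have hL2 : ∀ v ∈ L2, v ∈ L := fun v hv => by rw [e]; exact List.mem_append_right _ (List.mem_cons_of_mem _ hv)
  have fix1 : S.x p d * S.pr L1 t * (S.x p d)⁻¹ = S.pr L1 t := by
    apply S.conj_pr
    intro v hv
    obtain ⟨v1, -, v3⟩ := S.mem_Lq.mp (hL v (hL1 v hv))
    apply S.conj_comm v1 hp
    rw [hpdef, S.B_sub_right, v3, pw3 v hv o List.mem_cons_self]
    omega
  have fix2 : S.x p d * S.pr L2 t * (S.x p d)⁻¹ = S.pr L2 t := by
    apply S.conj_pr
    intro v hv
    obtain ⟨v1, -, v3⟩ := S.mem_Lq.mp (hL v (hL2 v hv))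
    apply S.conj_comm v1 hp
    rw [hpdef, S.B_sub_right, v3, S.B_symm, (List.pairwise_cons.mp pw2).1 v hv]
    omega
  have fixγ : S.x p d * S.x γ c * (S.x p d)⁻¹ = S.x γ c :=
    S.conj_comm D.mem hp (by rw [S.B_symm, hpγ]; omega) c d
  have hne : p ≠ -o := by
    intro e2
    rw [e2, S.B_neg_left, o3] at hpγ
    omega
  have mv : S.x p d * S.x o (t o) * (S.x p d)⁻¹ = S.x o (t o) * S.x γ c := by
    rw [S.conj_same o1 hp (by rw [hlong, hNp]) (by rw [hpdef, S.B_sub_right, o3, hlong]; omega) hne, htd]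
    congr 2
    rw [hpdef]; abel
  have hm2 : S.pr L2 t ∈ S.QT T γ := S.pr_mem_QT (fun v hv => hL v (hL2 v hv)) t
  have hc2 := S.xγ_comm D hm2 c
  refine ⟨S.x p d, S.x_mem_GT hp hpT d, ?_⟩
  rw [e, S.pr_append, S.pr_cons, conj_mul_conj, conj_mul_conj, conj_mul_conj, fix1, fix2, fixγ, mv]
  calc S.pr L1 t * (S.x o (t o) * S.x γ c * S.pr L2 t) * S.x γ c
      = S.pr L1 t * (S.x o (t o) * (S.x γ c * S.pr L2 t)) * S.x γ c := by group
    _ = S.pr L1 t * (S.x o (t o) * S.pr L2 t) * (S.x γ c * S.x γ c) := by rw [hc2]; group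
    _ = S.pr L1 t * (S.x o (t o) * S.pr L2 t) := by rw [S.x_sq D.mem, mul_one]

/-- absorbing the central factor, the list being a single short root -/
theorem absorb_one (D : S.Dom T γ) {s : Vec l} (hs : s ∈ S.Lq T γ) (hsh : S.B s s = 2) {a c : F}
    (ha : a ≠ 0) (hc : c ≠ 0) :
    ∃ g ∈ S.GT T, ∃ (O : List (Vec l)) (t' : Vec l → F), S.Orth O ∧ (∀ o ∈ O, S.perp T o) ∧
      (∀ o ∈ O, t' o ≠ 0) ∧ g * (S.x s a * S.x γ c) * g⁻¹ = S.pr O t' := by
  classical
  obtain ⟨s1, s2, s3⟩ := S.mem_Lq.mp hs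
  have hp := S.partner_mem D s1 s3
  have hδ' : s - γ ∈ S.roots := by
    have := S.neg_mem _ hp
    rwa [neg_sub] at this
  obtain ⟨δ, hδdef⟩ : ∃ δ, δ = s - γ := ⟨_, rfl⟩
  rw [← hδdef] at hδ'
  have hδ := hδ'
  have hNδ : S.B δ δ = 2 := by
    rw [hδdef, S.B_sub_left, S.B_sub_right, S.B_sub_right, D.long, hsh, S.B_symm γ s, s3]; rfl
  have hBγδ : S.B γ δ = -2 := by rw [hδdef, S.B_sub_right, D.long, S.B_symm γ s, s3]; rfl
  have hBsδ : S.B s δ = 0 := by rw [hδdef, S.B_sub_right, hsh, s3]; rfl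
  have hδT : S.perp T δ := by rw [hδdef]; exact S.perp_sub s2 D.perp
  obtain ⟨k1, k2⟩ := S.add_mixed γ D.mem δ hδ D.long hNδ hBγδ
  have e1 : γ + δ = s := by rw [hδdef]; abel
  set d := a * c⁻¹ with hd
  have hcd : c * d = a := by rw [hd, mul_comm a, ← mul_assoc, mul_inv_cancel₀ hc, one_mul]
  have c1 := S.conj_ls D.mem hδ D.long hNδ hBγδ c d
  rw [e1, hcd] at c1
  have c2 := S.conj_comm s1 hδ (by omega : 0 ≤ S.B s δ) a d
  rw [e1] at k2
  obtain ⟨w, hwdef⟩ : ∃ w, w = s + δ := ⟨_, rfl⟩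
  rw [← hwdef] at c1 k2
  have hBγw : S.B γ w = 0 := by rw [hwdef, S.B_add_right, S.B_symm γ s, s3, hBγδ]; rfl
  have hwne : w ≠ γ := by
    intro e
    rw [e, D.long] at hBγw
    omega
  have hcomm : S.x s a * S.x γ c = S.x γ c * S.x s a := S.x_comm s s1 γ D.mem (by omega) a c
  refine ⟨S.x δ d, S.x_mem_GT hδ hδT d, [γ, w], fun r => if r = γ then c else a * d, ?_, ?_, ?_, ?_⟩
  · refine ⟨?_, List.pairwise_cons.mpr ⟨?_, List.pairwise_singleton _ _⟩⟩
    · intro o ho
      simp only [List.mem_cons, List.not_mem_nil, or_false] at ho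
      rcases ho with rfl | rfl
      · exact D.mem
      · exact k2
    · intro o ho
      rw [List.mem_singleton.mp ho]
      exact hBγw
  · intro o ho
    simp only [List.mem_cons, List.not_mem_nil, or_false] at ho
    rcases ho with rfl | rfl
    · exact D.perp
    · rw [hwdef]; exact S.perp_add s2 hδT
  · intro o ho
    simp only [List.mem_cons, List.not_mem_nil, or_false] at ho
    rcases ho with rfl | rfl
    · beta_reduce; rw [if_pos rfl]; exact hc
    · beta_reduce; rw [if_neg hwne]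
      exact mul_ne_zero ha (by rw [hd]; exact mul_ne_zero ha (inv_ne_zero hc))
  · rw [conj_mul_conj, c1, c2, S.pr_cons, S.pr_cons, S.pr_nil, mul_one, if_pos rfl, if_neg hwne]
    calc S.x s a * (S.x γ c * S.x s a * S.x w (a * d))
        = (S.x s a * S.x γ c) * S.x s a * S.x w (a * d) := by group
      _ = S.x γ c * (S.x s a * S.x s a) * S.x w (a * d) := by rw [hcomm]; group
      _ = S.x γ c * S.x w (a * d) := by rw [S.x_sq s1, mul_one]

/-- absorbing the central factor, the list being two orthogonal short roots -/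
theorem absorb_two (D : S.Dom T γ) {s s' : Vec l} (hs : s ∈ S.Lq T γ) (hs' : s' ∈ S.Lq T γ)
    (hsh : S.B s s = 2) (hsh' : S.B s' s' = 2) (h0 : S.B s s' = 0) {a b c : F} (ha : a ≠ 0) :
    ∃ g ∈ S.GT T, ∃ (O : List (Vec l)) (t' : Vec l → F), S.Orth O ∧ (∀ o ∈ O, S.perp T o) ∧
      (∀ o ∈ O, t' o ≠ 0) ∧ g * (S.x s a * S.x s' b * S.x γ c) * g⁻¹ = S.pr O t' := by
  classical
  obtain ⟨s1, s2, s3⟩ := S.mem_Lq.mp hs
  obtain ⟨t1, t2, t3⟩ := S.mem_Lq.mp hs'
  have hsum := S.short_pair_sum D hs hs' hsh hsh' h0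
  have hδ' := (S.sub_ls D.mem s1 D.long hsh (by rw [S.B_symm]; exact s3)).2
  obtain ⟨δ, hδdef⟩ : ∃ δ, δ = γ - s - s := ⟨_, rfl⟩
  rw [← hδdef] at hδ'
  have hδ := hδ'
  have hBγδ : S.B γ δ = 0 := by rw [hδdef, S.B_sub_right, S.B_sub_right, D.long, S.B_symm γ s, s3]; rfl
  have hBsδ : S.B s δ = -2 := by rw [hδdef, S.B_sub_right, S.B_sub_right, s3, hsh]; rfl
  have hBs'δ : S.B s' δ = 2 := by
    rw [hδdef, S.B_sub_right, S.B_sub_right, t3, S.B_symm s' s, h0]; rfl
  have hNδ : S.B δ δ = 4 := by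
    have e : S.B δ δ = S.B γ δ - S.B s δ - S.B s δ := by
      calc S.B δ δ = S.B (γ - s - s) δ := by rw [← hδdef]
        _ = S.B γ δ - S.B s δ - S.B s δ := by rw [S.B_sub_left, S.B_sub_left]
    rw [e, hBγδ, hBsδ]; rfl
  have hδT : S.perp T δ := by rw [hδdef]; exact S.perp_sub (S.perp_sub D.perp s2) s2
  have e1 : s + δ = s' := by
    have : s' = γ - s := by rw [← hsum]; abel
    rw [hδdef, this]; abel
  have e2 : s + s + δ = γ := by rw [hδdef]; abel
  have haa : a * a ≠ 0 := mul_ne_zero ha ha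
  set d := c * (a * a)⁻¹ with hd
  have had : a * a * d = c := by rw [hd, mul_comm c, ← mul_assoc, mul_inv_cancel₀ haa, one_mul]
  have c1 := S.conj_sl s1 hδ hsh hNδ hBsδ a d
  rw [e1, e2, had] at c1
  have c2 := S.conj_comm t1 hδ (by omega : 0 ≤ S.B s' δ) b d
  have c3 := S.conj_comm D.mem hδ (by omega : 0 ≤ S.B γ δ) c d
  have hcomm : S.x γ c * S.x s' b = S.x s' b * S.x γ c := S.x_comm γ D.mem s' t1 (by rw [S.B_symm]; omega) c b
  have key : S.x δ d * (S.x s a * S.x s' b * S.x γ c) * (S.x δ d)⁻¹ = S.x s a * S.x s' (a * d + b) := by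
    rw [conj_mul_conj, conj_mul_conj, c1, c2, c3, S.x_add s' t1]
    calc S.x s a * S.x s' (a * d) * S.x γ c * S.x s' b * S.x γ c
        = S.x s a * S.x s' (a * d) * (S.x γ c * S.x s' b) * S.x γ c := by group
      _ = S.x s a * S.x s' (a * d) * (S.x s' b * S.x γ c) * S.x γ c := by rw [hcomm]
      _ = S.x s a * (S.x s' (a * d) * S.x s' b) * (S.x γ c * S.x γ c) := by group
      _ = S.x s a * (S.x s' (a * d) * S.x s' b) := by rw [S.x_sq D.mem, mul_one]
  have hne : s' ≠ s := by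
    intro e
    rw [e, hsh] at h0
    omega
  by_cases hz : a * d + b = 0
  · refine ⟨S.x δ d, S.x_mem_GT hδ hδT d, [s], fun _ => a, ⟨?_, List.pairwise_singleton _ _⟩, ?_, ?_, ?_⟩
    · intro o ho; rw [List.mem_singleton.mp ho]; exact s1
    · intro o ho; rw [List.mem_singleton.mp ho]; exact s2
    · intro o _; exact ha
    · rw [key, hz, S.x_zero t1, mul_one, S.pr_cons, S.pr_nil, mul_one]
  · refine ⟨S.x δ d, S.x_mem_GT hδ hδT d, [s, s'], fun r => if r = s then a else a * d + b, ?_, ?_, ?_, ?_⟩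
    · refine ⟨?_, List.pairwise_cons.mpr ⟨?_, List.pairwise_singleton _ _⟩⟩
      · intro o ho
        simp only [List.mem_cons, List.not_mem_nil, or_false] at ho
        rcases ho with rfl | rfl
        · exact s1
        · exact t1
      · intro o ho
        rw [List.mem_singleton.mp ho]
        exact h0
    · intro o ho
      simp only [List.mem_cons, List.not_mem_nil, or_false] at ho
      rcases ho with rfl | rfl
      · exact s2
      · exact t2
    · intro o ho
      simp only [List.mem_cons, List.not_mem_nil, or_false] at ho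
      rcases ho with rfl | rfl
      · beta_reduce; rw [if_pos rfl]; exact ha
      · beta_reduce; rw [if_neg hne]; exact hz
    · rw [key, S.pr_cons, S.pr_cons, S.pr_nil, mul_one, if_pos rfl, if_neg hne]

/-- absorbing the central factor -/
theorem absorb (D : S.Dom T γ) {L : List (Vec l)} (hL : ∀ o ∈ L, o ∈ S.Lq T γ) (hOrth : S.Orth L)
    (t : Vec l → F) (ht : ∀ o ∈ L, t o ≠ 0) (c : F) :
    ∃ g ∈ S.GT T, ∃ (O : List (Vec l)) (t' : Vec l → F), S.Orth O ∧ (∀ o ∈ O, S.perp T o) ∧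
      (∀ o ∈ O, t' o ≠ 0) ∧ g * (S.pr L t * S.x γ c) * g⁻¹ = S.pr O t' := by
  have hLT : ∀ o ∈ L, S.perp T o := fun o ho => (S.mem_Lq.mp (hL o ho)).2.1
  by_cases hc : c = 0
  · exact ⟨1, Subgroup.one_mem _, L, t, hOrth, hLT, ht, by rw [hc, S.x_zero D.mem]; group⟩
  by_cases hlong : ∃ o ∈ L, S.B o o = 4
  · obtain ⟨o, ho, hl⟩ := hlong
    obtain ⟨g, hg, e⟩ := S.absorb_long D hL hOrth t ht c ho hl
    exact ⟨g, hg, L, t, hOrth, hLT, ht, e⟩
  · have hsh : ∀ o ∈ L, S.B o o = 2 := by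
      intro o ho
      rcases S.B_self o (hOrth.1 o ho) with h | h
      · exact h
      · exact absurd ⟨o, ho, h⟩ hlong
    match L, hL, hOrth, ht, hLT, hsh with
    | [], _, _, _, _, _ =>
      refine ⟨1, Subgroup.one_mem _, [γ], fun _ => c, ⟨?_, List.pairwise_singleton _ _⟩, ?_, fun _ _ => hc, ?_⟩
      · intro o ho; rw [List.mem_singleton.mp ho]; exact D.mem
      · intro o ho; rw [List.mem_singleton.mp ho]; exact D.perp
      · rw [S.pr_nil, S.pr_cons, S.pr_nil]; group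
    | [s], hL, _, ht, _, hsh =>
      obtain ⟨g, hg, O, t', h1, h2, h3, e⟩ := S.absorb_one D (hL s List.mem_cons_self) (hsh s List.mem_cons_self)
        (ht s List.mem_cons_self) hc
      refine ⟨g, hg, O, t', h1, h2, h3, ?_⟩
      rw [S.pr_cons, S.pr_nil, mul_one]
      exact e
    | [s, s'], hL, hOrth, ht, _, hsh =>
      have m1 : s ∈ [s, s'] := List.mem_cons_self
      have m2 : s' ∈ [s, s'] := List.mem_cons_of_mem _ List.mem_cons_self
      obtain ⟨g, hg, O, t', h1, h2, h3, e⟩ := S.absorb_two D (hL s m1) (hL s' m2) (hsh s m1) (hsh s' m2)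
        (hOrth.head_perp S s' List.mem_cons_self) (b := t s') (c := c) (ht s m1)
      refine ⟨g, hg, O, t', h1, h2, h3, ?_⟩
      rw [S.pr_cons, S.pr_cons, S.pr_nil, mul_one]
      exact e
    | s :: s' :: s'' :: rest, hL, hOrth, _, _, hsh =>
      exfalso
      have m1 : s ∈ s :: s' :: s'' :: rest := List.mem_cons_self
      have m2 : s' ∈ s :: s' :: s'' :: rest := List.mem_cons_of_mem _ List.mem_cons_self
      have m3 : s'' ∈ s :: s' :: s'' :: rest := List.mem_cons_of_mem _ (List.mem_cons_of_mem _ List.mem_cons_self)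
      have p1 := hOrth.head_perp S s' List.mem_cons_self
      have p2 := hOrth.head_perp S s'' (List.mem_cons_of_mem _ List.mem_cons_self)
      have p3 := (hOrth.tail S).head_perp S s'' List.mem_cons_self
      have e1 := S.short_pair_sum D (hL s m1) (hL s' m2) (hsh s m1) (hsh s' m2) p1
      have e2 := S.short_pair_sum D (hL s m1) (hL s'' m3) (hsh s m1) (hsh s'' m3) p2
      have e3 : s' = s'' := add_left_cancel (e1.trans e2.symm)
      rw [e3, hsh s'' m3] at p3
      omega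

/-- involutions of the radical are conjugate to products of root elements of pairwise orthogonal roots -/
theorem QP (D : S.Dom T γ) {q : G} (hq : q ∈ S.QT T γ) (hsq : q * q = 1) :
    ∃ g ∈ S.GT T, ∃ O : List (Vec l), (∀ o ∈ O, o ∈ S.roots ∧ S.perp T o) ∧ S.Orth O ∧ g * q * g⁻¹ = S.xs O := by
  obtain ⟨g1, hg1, L, t, c, hL, hOrth, ht, e1⟩ := S.qp_form D hq hsq
  obtain ⟨g2, hg2, O, t', hO, hOT, ht', e2⟩ := S.absorb D hL hOrth t ht c
  obtain ⟨g3, hg3, e3⟩ := S.scale_gen O [] hO hOT (fun _ h => absurd h List.not_mem_nil) t' ht'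
  rw [List.nil_append] at hg3
  have hg1' : g1 ∈ S.GT T := S.GT_cons_le T γ hg1
  refine ⟨g3 * (g2 * g1), Subgroup.mul_mem _ hg3 (Subgroup.mul_mem _ hg2 hg1'), O,
    fun o ho => ⟨hO.1 o ho, hOT o ho⟩, hO, ?_⟩
  rw [← conj_conj, ← conj_conj, e1, e2, e3]

end DLSys

end Cfsg.Agent.Lib.Helper3.DLInv
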