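import Cfsg.Agent.Lib.Helper3.DLInv1
set_option autoImplicit false
set_option linter.unusedSectionVars false
set_option linter.unusedVariables false
set_option linter.unusedSimpArgs false

/-!
Conjugation of a short root element by a long one, differences of roots, orthogonality to a list, the groups
generated by the root elements orthogonal to a list, dominant long roots and their radicals.
-/

namespace Cfsg.Agent.Lib.Helper3.DLInv

open Cfsg.Agent.Lib.Helper3.SLInv

namespace DLSys

variable {G : Type*} [Group G] {F : Type*} [Field F] {l : ℕ} (S : DLSys G F l)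

/-- conjugation of a short root element by a long root element -/
theorem conj_sl {r s : Vec l} (hr : r ∈ S.roots) (hs : s ∈ S.roots) (hsh : S.B r r = 2) (hl : S.B s s = 4)
    (h : S.B r s = -2) (a b : F) :
    S.x s b * S.x r a * (S.x s b)⁻¹ = S.x r a * S.x (r + s) (a * b) * S.x (r + r + s) (a * a * b) := by
  have h' : S.B s r = -2 := by rw [S.B_symm]; exact h
  obtain ⟨h1, h2⟩ := S.add_mixed s hs r hr hl hsh h'
  have e1 : s + r = r + s := add_comm _ _
  have e2 : s + r + r = r + r + s := by abel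
  have ax := S.x_comm_mixed s hs r hr hl hsh h' b a
  rw [e2, e1, mul_comm b a, show a * b * a = a * a * b by ring] at ax
  rw [e2] at h2
  rw [e1] at h1
  have c1 : 0 ≤ S.B (r + s) s := by rw [S.B_add_left, h, hl]; omega
  have c2 : 0 ≤ S.B (r + r + s) s := by rw [S.B_add_left, S.B_add_left, h, hl]; omega
  have c3 : 0 ≤ S.B (r + s) (r + r + s) := by
    rw [S.B_add_left, S.B_add_right, S.B_add_right, S.B_add_right, S.B_add_right, h', h, hsh, hl]; omega
  have k1 := S.x_comm _ h1 s hs c1 (a * b) b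
  have k2 := S.x_comm _ h2 s hs c2 (a * a * b) b
  have k3 := S.x_comm _ h1 _ h2 c3 (a * b) (a * a * b)
  set X := S.x s b
  set R := S.x r a
  set C1 := S.x (r + s) (a * b)
  set C2 := S.x (r + r + s) (a * a * b)
  have hC1 : C1⁻¹ = C1 := S.x_inv h1 _
  have hC2 : C2⁻¹ = C2 := S.x_inv h2 _
  -- `R * X = X * R * C1 * C2`
  have e3 : X * R = R * X * C2 * C1 := by
    have : X * R = R * X * (C1 * C2)⁻¹ := by rw [ax]; group
    rw [this, mul_inv_rev, hC1, hC2]; group
  calc X * R * X⁻¹ = R * X * C2 * C1 * X⁻¹ := by rw [e3]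
    _ = R * (X * C2) * C1 * X⁻¹ := by group
    _ = R * (C2 * X) * C1 * X⁻¹ := by rw [k2]
    _ = R * C2 * (X * C1) * X⁻¹ := by group
    _ = R * C2 * (C1 * X) * X⁻¹ := by rw [k1]
    _ = R * (C2 * C1) := by group
    _ = R * (C1 * C2) := by rw [k3]
    _ = R * C1 * C2 := by group

/-- difference of a long and a short root with form value two -/
theorem sub_ls {r s : Vec l} (hr : r ∈ S.roots) (hs : s ∈ S.roots) (hl : S.B r r = 4) (hsh : S.B s s = 2)
    (h : S.B r s = 2) : r - s ∈ S.roots ∧ r - s - s ∈ S.roots := by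
  have := S.add_mixed r hr (-s) (S.neg_mem s hs) hl (by rw [S.B_neg_neg]; exact hsh)
    (by rw [S.B_neg_right, h])
  simpa [sub_eq_add_neg] using this

/-- difference of a short and a long root with form value two -/
theorem sub_sl {r s : Vec l} (hr : r ∈ S.roots) (hs : s ∈ S.roots) (hsh : S.B r r = 2) (hl : S.B s s = 4)
    (h : S.B r s = 2) : r - s ∈ S.roots := by
  have := (S.add_mixed (-s) (S.neg_mem s hs) r hr (by rw [S.B_neg_neg]; exact hl) hsh
    (by rw [S.B_neg_left, S.B_symm, h])).1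
  rwa [neg_add_eq_sub] at this

/-- sum of a short and a long root with form value minus two -/
theorem add_sl {r s : Vec l} (hr : r ∈ S.roots) (hs : s ∈ S.roots) (hsh : S.B r r = 2) (hl : S.B s s = 4)
    (h : S.B r s = -2) : r + s ∈ S.roots ∧ r + r + s ∈ S.roots := by
  have h' : S.B s r = -2 := by rw [S.B_symm]; exact h
  obtain ⟨h1, h2⟩ := S.add_mixed s hs r hr hl hsh h'
  rw [add_comm] at h1
  rw [show s + r + r = r + r + s by abel] at h2
  exact ⟨h1, h2⟩

/-- orthogonality to a list of vectors -/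
def perp (T : List (Vec l)) (r : Vec l) : Prop := ∀ t ∈ T, S.B r t = 0

theorem perp_nil (r : Vec l) : S.perp [] r := fun _ h => absurd h (List.not_mem_nil)

theorem perp_cons {T : List (Vec l)} {γ r : Vec l} : S.perp (γ :: T) r ↔ S.B r γ = 0 ∧ S.perp T r := by
  unfold perp
  simp

theorem perp_append {T T' : List (Vec l)} {r : Vec l} : S.perp (T ++ T') r ↔ S.perp T r ∧ S.perp T' r := by
  unfold perp
  simp only [List.mem_append]
  constructor
  · intro h
    exact ⟨fun t ht => h t (Or.inl ht), fun t ht => h t (Or.inr ht)⟩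
  · rintro ⟨h1, h2⟩ t (ht | ht)
    · exact h1 t ht
    · exact h2 t ht

theorem perp_add {T : List (Vec l)} {r s : Vec l} (hr : S.perp T r) (hs : S.perp T s) : S.perp T (r + s) := by
  intro t ht
  rw [S.B_add_left, hr t ht, hs t ht, add_zero]

theorem perp_neg {T : List (Vec l)} {r : Vec l} (hr : S.perp T r) : S.perp T (-r) := by
  intro t ht
  rw [S.B_neg_left, hr t ht, neg_zero]

theorem perp_sub {T : List (Vec l)} {r s : Vec l} (hr : S.perp T r) (hs : S.perp T s) : S.perp T (r - s) := by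
  rw [sub_eq_add_neg]
  exact S.perp_add hr (S.perp_neg hs)

/-- the group generated by the root elements of the roots orthogonal to `T` -/
def GT (T : List (Vec l)) : Subgroup G :=
  Subgroup.closure {g : G | ∃ r ∈ S.roots, ∃ a, S.perp T r ∧ g = S.x r a}

/-- the group generated by the root elements of the positive roots orthogonal to `T` -/
def UT (T : List (Vec l)) : Subgroup G :=
  Subgroup.closure {g : G | ∃ r ∈ S.roots, ∃ a, 0 < S.key r ∧ S.perp T r ∧ g = S.x r a}

/-- the group generated by the root elements of the roots orthogonal to `T` with positive form on `γ` -/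
def QT (T : List (Vec l)) (γ : Vec l) : Subgroup G :=
  Subgroup.closure {g : G | ∃ r ∈ S.roots, ∃ a, S.perp T r ∧ 1 ≤ S.B r γ ∧ g = S.x r a}

theorem x_mem_GT {T : List (Vec l)} {r : Vec l} (hr : r ∈ S.roots) (hp : S.perp T r) (a : F) :
    S.x r a ∈ S.GT T :=
  Subgroup.subset_closure ⟨r, hr, a, hp, rfl⟩

theorem x_mem_UT {T : List (Vec l)} {r : Vec l} (hr : r ∈ S.roots) (hk : 0 < S.key r) (hp : S.perp T r)
    (a : F) : S.x r a ∈ S.UT T :=
  Subgroup.subset_closure ⟨r, hr, a, hk, hp, rfl⟩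

theorem x_mem_QT {T : List (Vec l)} {γ r : Vec l} (hr : r ∈ S.roots) (hp : S.perp T r) (h1 : 1 ≤ S.B r γ)
    (a : F) : S.x r a ∈ S.QT T γ :=
  Subgroup.subset_closure ⟨r, hr, a, hp, h1, rfl⟩

theorem UT_le_GT (T : List (Vec l)) : S.UT T ≤ S.GT T := by
  apply Subgroup.closure_mono
  rintro g ⟨r, hr, a, -, hp, rfl⟩
  exact ⟨r, hr, a, hp, rfl⟩

theorem GT_cons_le (T : List (Vec l)) (γ : Vec l) : S.GT (γ :: T) ≤ S.GT T := by
  apply Subgroup.closure_mono
  rintro g ⟨r, hr, a, hp, rfl⟩
  exact ⟨r, hr, a, (S.perp_cons.mp hp).2, rfl⟩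

theorem GT_append_le (T T' : List (Vec l)) : S.GT (T ++ T') ≤ S.GT T' := by
  apply Subgroup.closure_mono
  rintro g ⟨r, hr, a, hp, rfl⟩
  exact ⟨r, hr, a, (S.perp_append.mp hp).2, rfl⟩

theorem GT_le_nil (T : List (Vec l)) : S.GT T ≤ S.GT [] := by
  have := S.GT_append_le T []
  rwa [List.append_nil] at this

/-- the product of the root elements with parameter one -/
def xs (O : List (Vec l)) : G := (O.map fun r => S.x r 1).prod

theorem xs_nil : S.xs [] = 1 := rfl

theorem xs_cons (r : Vec l) (O : List (Vec l)) : S.xs (r :: O) = S.x r 1 * S.xs O := by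
  simp [xs]

theorem xs_append (O O' : List (Vec l)) : S.xs (O ++ O') = S.xs O * S.xs O' := by
  simp [xs]

/-- dominance of a long root among the roots orthogonal to `T` -/
structure Dom (T : List (Vec l)) (γ : Vec l) : Prop where
  mem : γ ∈ S.roots
  long : S.B γ γ = 4
  pos : 0 < S.key γ
  perp : S.perp T γ
  dom : ∀ r ∈ S.roots, 0 < S.key r → S.perp T r → 0 ≤ S.B r γ

theorem Dom.pos_of_one_le {T : List (Vec l)} {γ : Vec l} (D : S.Dom T γ) {r : Vec l} (hr : r ∈ S.roots)
    (hp : S.perp T r) (h1 : 1 ≤ S.B r γ) : 0 < S.key r := by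
  by_contra hk
  have hk' : 0 < S.key (-r) := by
    rw [S.key_neg]
    have := S.key_ne r hr
    omega
  have := D.dom (-r) (S.neg_mem r hr) hk' (S.perp_neg hp)
  rw [S.B_neg_left] at this
  omega

/-- the roots of the radical: the dominant root, or form value two -/
theorem Dom.eq_or_two {T : List (Vec l)} {γ : Vec l} (D : S.Dom T γ) {r : Vec l} (hr : r ∈ S.roots)
    (h1 : 1 ≤ S.B r γ) : r = γ ∨ S.B r γ = 2 := by
  have h2 := S.B_even_of_long D.mem hr D.long
  rw [S.B_symm] at h2
  rcases h2 with h | h | h | h | h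
  · exact Or.inl (S.eq_of_B_four D.mem hr h)
  · exact Or.inr h
  all_goals omega

theorem QT_le_UT {T : List (Vec l)} {γ : Vec l} (D : S.Dom T γ) : S.QT T γ ≤ S.UT T := by
  apply Subgroup.closure_mono
  rintro g ⟨r, hr, a, hp, h1, rfl⟩
  exact ⟨r, hr, a, D.pos_of_one_le S hr hp h1, hp, rfl⟩

theorem UT_cons_le (T : List (Vec l)) (γ : Vec l) : S.UT (γ :: T) ≤ S.UT T := by
  apply Subgroup.closure_mono
  rintro g ⟨r, hr, a, hk, hp, rfl⟩
  exact ⟨r, hr, a, hk, (S.perp_cons.mp hp).2, rfl⟩

theorem QT_le_GT (T : List (Vec l)) (γ : Vec l) : S.QT T γ ≤ S.GT T := by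
  apply Subgroup.closure_mono
  rintro g ⟨r, hr, a, hp, -, rfl⟩
  exact ⟨r, hr, a, hp, rfl⟩

end DLSys

end Cfsg.Agent.Lib.Helper3.DLInv
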