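import Cfsg.Agent.Lib.Helper3.DLInv2
set_option autoImplicit false
set_option linter.unusedSectionVars false
set_option linter.unusedVariables false
set_option linter.unusedSimpArgs false

/-!
The general form of the conjugate of a root element by a root element; the radical of a dominant long root is
normalised by the root elements orthogonal to it, the unipotent group decomposes, and the root subgroup of the
dominant root is central in the radical.
-/

namespace Cfsg.Agent.Lib.Helper3.DLInv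

open Cfsg.Agent.Lib.Helper3.SLInv

namespace DLSys

variable {G : Type*} [Group G] {F : Type*} [Field F] {l : ℕ} (S : DLSys G F l)
variable {T : List (Vec l)} {γ : Vec l}

theorem root_ne_zero {r : Vec l} (hr : r ∈ S.roots) : r ≠ 0 := by
  intro h
  have := S.key_ne r hr
  rw [h, S.key_zero] at this
  exact this rfl

/-- the conjugate of a root element by a root element -/
theorem conj_form {r s : Vec l} (hr : r ∈ S.roots) (hs : s ∈ S.roots) (hne : s ≠ -r) (a b : F) :
    (0 ≤ S.B r s ∧ S.x s b * S.x r a * (S.x s b)⁻¹ = S.x r a) ∨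
    (S.B r s < 0 ∧ S.B r r = S.B s s ∧ r + s ∈ S.roots ∧
      S.x s b * S.x r a * (S.x s b)⁻¹ = S.x r a * S.x (r + s) (a * b)) ∨
    (S.B r r = 4 ∧ S.B s s = 2 ∧ S.B r s = -2 ∧ r + s ∈ S.roots ∧ r + s + s ∈ S.roots ∧
      S.x s b * S.x r a * (S.x s b)⁻¹ = S.x r a * S.x (r + s) (a * b) * S.x (r + s + s) (a * b * b)) ∨
    (S.B r r = 2 ∧ S.B s s = 4 ∧ S.B r s = -2 ∧ r + s ∈ S.roots ∧ r + r + s ∈ S.roots ∧
      S.x s b * S.x r a * (S.x s b)⁻¹ = S.x r a * S.x (r + s) (a * b) * S.x (r + r + s) (a * a * b)) := by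
  by_cases h0 : 0 ≤ S.B r s
  · exact Or.inl ⟨h0, S.conj_comm hr hs h0 a b⟩
  · have h0' : S.B r s < 0 := by omega
    by_cases hl : S.B r r = S.B s s
    · exact Or.inr (Or.inl ⟨h0', hl, S.add_same r hr s hs hl h0' hne, S.conj_same hr hs hl h0' hne a b⟩)
    · rcases S.B_num hr hs with ⟨-, -, h2⟩ | ⟨-, -, h2⟩ | ⟨-, -, h1, h2, -⟩ | ⟨-, -, h1, h3⟩
      · exact absurd h2.symm hl
      · exact absurd h2.symm hl
      · exact absurd (h1.trans h2.symm) hl
      · have hB : S.B r s = -2 := by omega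
        rcases S.B_self r hr with h4 | h4 <;> rcases S.B_self s hs with h5 | h5
        · omega
        · obtain ⟨k1, k2⟩ := S.add_sl hr hs h4 h5 hB
          exact Or.inr (Or.inr (Or.inr ⟨h4, h5, hB, k1, k2, S.conj_sl hr hs h4 h5 hB a b⟩))
        · obtain ⟨k1, k2⟩ := S.add_mixed r hr s hs h4 h5 hB
          exact Or.inr (Or.inr (Or.inl ⟨h4, h5, hB, k1, k2, S.conj_ls hr hs h4 h5 hB a b⟩))
        · omega

/-- conjugating a generator of the radical by a root element orthogonal to `γ` -/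
theorem conj_gen_QT {r s : Vec l} (hr : r ∈ S.roots) (hp : S.perp T r) (h1 : 1 ≤ S.B r γ)
    (hs : s ∈ S.roots) (hsp : S.perp (γ :: T) s) (a b : F) :
    S.x s b * S.x r a * (S.x s b)⁻¹ ∈ S.QT T γ := by
  have hsγ : S.B s γ = 0 := (S.perp_cons.mp hsp).1
  have hsT : S.perp T s := (S.perp_cons.mp hsp).2
  have hne : s ≠ -r := by
    intro e
    rw [e, S.B_neg_left] at hsγ
    omega
  have hx := S.x_mem_QT hr hp h1 a
  rcases S.conj_form hr hs hne a b with ⟨-, e⟩ | ⟨-, -, k1, e⟩ | ⟨-, -, -, k1, k2, e⟩ | ⟨-, -, -, k1, k2, e⟩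
  · rw [e]; exact hx
  · rw [e]
    exact Subgroup.mul_mem _ hx (S.x_mem_QT k1 (S.perp_add hp hsT) (by rw [S.B_add_left, hsγ]; omega) _)
  · rw [e]
    exact Subgroup.mul_mem _ (Subgroup.mul_mem _ hx
      (S.x_mem_QT k1 (S.perp_add hp hsT) (by rw [S.B_add_left, hsγ]; omega) _))
      (S.x_mem_QT k2 (S.perp_add (S.perp_add hp hsT) hsT) (by rw [S.B_add_left, S.B_add_left, hsγ]; omega) _)
  · rw [e]
    exact Subgroup.mul_mem _ (Subgroup.mul_mem _ hx
      (S.x_mem_QT k1 (S.perp_add hp hsT) (by rw [S.B_add_left, hsγ]; omega) _))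
      (S.x_mem_QT k2 (S.perp_add (S.perp_add hp hp) hsT) (by rw [S.B_add_left, S.B_add_left, hsγ]; omega) _)

/-- the radical is normalised by the group of the roots orthogonal to `γ` -/
theorem conj_QT_mem {g : G} (hg : g ∈ S.GT (γ :: T)) {q : G} (hq : q ∈ S.QT T γ) :
    g * q * g⁻¹ ∈ S.QT T γ := by
  refine (conj_mem_of_closure (A := {g : G | ∃ r ∈ S.roots, ∃ a, S.perp (γ :: T) r ∧ g = S.x r a})
    (K := {g : G | ∃ r ∈ S.roots, ∃ a, S.perp T r ∧ 1 ≤ S.B r γ ∧ g = S.x r a}) ?_ ?_ g hg).1 q hq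
  · rintro _ ⟨s, hs, b, hsp, rfl⟩ _ ⟨r, hr, a, hp, h1, rfl⟩
    exact S.conj_gen_QT hr hp h1 hs hsp a b
  · rintro _ ⟨s, hs, b, hsp, rfl⟩ _ ⟨r, hr, a, hp, h1, rfl⟩
    have := S.conj_gen_QT hr hp h1 hs hsp a b
    rw [S.x_inv hs] at this ⊢
    exact this

theorem conj_QT_mem' {g : G} (hg : g ∈ S.GT (γ :: T)) {q : G} (hq : q ∈ S.QT T γ) :
    g⁻¹ * q * g ∈ S.QT T γ := by
  have := S.conj_QT_mem (Subgroup.inv_mem _ hg) hq
  rwa [inv_inv] at this

/-- the unipotent group is the product of the radical and the unipotent group orthogonal to `γ` -/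
theorem exists_decomp (D : S.Dom T γ) {u : G} (hu : u ∈ S.UT T) :
    ∃ q ∈ S.QT T γ, ∃ m ∈ S.UT (γ :: T), u = q * m := by
  induction hu using Subgroup.closure_induction with
  | mem u hu =>
    obtain ⟨r, hr, a, hk, hp, rfl⟩ := hu
    have h0 := D.dom r hr hk hp
    by_cases h : S.B r γ = 0
    · exact ⟨1, Subgroup.one_mem _, S.x r a, S.x_mem_UT hr hk (S.perp_cons.mpr ⟨h, hp⟩) a, by rw [one_mul]⟩
    · exact ⟨S.x r a, S.x_mem_QT hr hp (by omega) a, 1, Subgroup.one_mem _, by rw [mul_one]⟩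
  | one => exact ⟨1, Subgroup.one_mem _, 1, Subgroup.one_mem _, by rw [mul_one]⟩
  | mul u v _ _ hu hv =>
    obtain ⟨q, hq, m, hm, rfl⟩ := hu
    obtain ⟨q', hq', m', hm', rfl⟩ := hv
    refine ⟨q * (m * q' * m⁻¹), Subgroup.mul_mem _ hq (S.conj_QT_mem (S.UT_le_GT _ hm) hq'), m * m',
      Subgroup.mul_mem _ hm hm', by group⟩
  | inv u _ hu =>
    obtain ⟨q, hq, m, hm, rfl⟩ := hu
    refine ⟨m⁻¹ * q⁻¹ * m, S.conj_QT_mem' (S.UT_le_GT _ hm) (Subgroup.inv_mem _ hq), m⁻¹,
      Subgroup.inv_mem _ hm, by group⟩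

/-- the root subgroup of `γ` is central in the radical -/
theorem xγ_comm (D : S.Dom T γ) {q : G} (hq : q ∈ S.QT T γ) (c : F) : S.x γ c * q = q * S.x γ c := by
  have : S.QT T γ ≤ Subgroup.centralizer {S.x γ c} := by
    unfold QT
    rw [Subgroup.closure_le]
    rintro _ ⟨r, hr, a, hp, h1, rfl⟩
    rw [SetLike.mem_coe, Subgroup.mem_centralizer_iff]
    intro h hh
    rw [Set.mem_singleton_iff] at hh
    subst hh
    exact S.x_comm γ D.mem r hr (by rw [S.B_symm]; omega) c a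
  have h2 := this hq
  rw [Subgroup.mem_centralizer_iff] at h2
  exact h2 _ rfl

/-- the partner of a root of the radical -/
theorem partner_mem (D : S.Dom T γ) {r : Vec l} (hr : r ∈ S.roots) (h1 : S.B r γ = 2) : γ - r ∈ S.roots := by
  rcases S.B_self r hr with h | h
  · exact S.sub_ls D.mem hr D.long h (by rw [S.B_symm]; exact h1) |>.1
  · refine S.sub_same D.mem hr (by rw [D.long, h]) (by rw [S.B_symm]; omega) ?_
    intro e
    rw [e, D.long] at h1
    omega

theorem partner_B (D : S.Dom T γ) {r : Vec l} (h1 : S.B r γ = 2) :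
    S.B (γ - r) γ = 2 := by
  rw [S.B_sub_left, D.long, h1]; rfl

theorem partner_norm (D : S.Dom T γ) {r : Vec l} (h1 : S.B r γ = 2) :
    S.B (γ - r) (γ - r) = S.B r r := by
  rw [S.B_sub_left, S.B_sub_right, S.B_sub_right, D.long, S.B_symm γ r, h1]; ring

theorem partner_perp (D : S.Dom T γ) {r : Vec l} (hp : S.perp T r) : S.perp T (γ - r) :=
  S.perp_sub D.perp hp

end DLSys

end Cfsg.Agent.Lib.Helper3.DLInv
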