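import Cfsg.Agent.Lib.Helper3.DLInv3
set_option autoImplicit false
set_option linter.unusedSectionVars false
set_option linter.unusedVariables false
set_option linter.unusedSimpArgs false

/-!
The elements `n β = x β 1 * x (-β) 1 * x β 1`: they are involutions and conjugate the root element of `r` to the
root element of the reflected root.
-/

namespace Cfsg.Agent.Lib.Helper3.DLInv

open Cfsg.Agent.Lib.Helper3.SLInv

namespace DLSys

variable {G : Type*} [Group G] {F : Type*} [Field F] {l : ℕ} (S : DLSys G F l)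

/-- the Cartan integer -/
def cart (r β : Vec l) : ℤ := 2 * S.B r β / S.B β β

/-- the reflection in `β` -/
def sr (β r : Vec l) : Vec l := r - S.cart r β • β

/-- the element representing the reflection in `β` -/
def n (β : Vec l) : G := S.x β 1 * S.x (-β) 1 * S.x β 1

theorem cart_spec {r β : Vec l} (hr : r ∈ S.roots) (hβ : β ∈ S.roots) :
    S.cart r β * S.B β β = 2 * S.B r β := by
  unfold cart
  rcases S.B_self β hβ with h | h
  · rw [h, Int.mul_ediv_cancel_left _ (by norm_num : (2 : ℤ) ≠ 0)]; ring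
  · have := S.B_even_of_long hβ hr h
    rw [S.B_symm] at this
    rw [h]
    rcases this with h' | h' | h' | h' | h' <;> rw [h'] <;> norm_num

theorem cart_eq {r β : Vec l} (hr : r ∈ S.roots) (hβ : β ∈ S.roots) {c : ℤ} (h : c * S.B β β = 2 * S.B r β) :
    S.cart r β = c := by
  have h1 := S.cart_spec hr hβ
  have hp := S.norm_pos hβ
  have : (S.cart r β - c) * S.B β β = 0 := by rw [sub_mul, h1, h]; ring
  rcases mul_eq_zero.mp this with h2 | h2
  · omega
  · omega

theorem sr_eq {r β : Vec l} (hr : r ∈ S.roots) (hβ : β ∈ S.roots) {c : ℤ} (h : c * S.B β β = 2 * S.B r β) :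
    S.sr β r = r - c • β := by
  unfold sr
  rw [S.cart_eq hr hβ h]

theorem sr_self (β : Vec l) (hβ : β ∈ S.roots) : S.sr β β = -β := by
  rw [S.sr_eq hβ hβ (c := 2) (by ring)]
  ext i
  simp only [Pi.sub_apply, Pi.smul_apply, Pi.neg_apply, smul_eq_mul]
  ring

theorem sr_neg_self (β : Vec l) (hβ : β ∈ S.roots) : S.sr β (-β) = β := by
  rw [S.sr_eq (S.neg_mem β hβ) hβ (c := -2) (by rw [S.B_neg_left]; ring)]
  ext i
  simp only [Pi.sub_apply, Pi.smul_apply, Pi.neg_apply, smul_eq_mul]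
  ring

theorem sr_of_zero {β r : Vec l} (hr : r ∈ S.roots) (hβ : β ∈ S.roots) (h : S.B r β = 0) : S.sr β r = r := by
  rw [S.sr_eq hr hβ (c := 0) (by rw [h]; ring), zero_smul, sub_zero]

/-- reflection in the opposite root -/
theorem sr_neg {β r : Vec l} (hr : r ∈ S.roots) (hβ : β ∈ S.roots) : S.sr (-β) r = S.sr β r := by
  have h1 := S.cart_spec hr hβ
  rw [S.sr_eq hr (S.neg_mem β hβ) (c := - S.cart r β) (by rw [S.B_neg_neg, S.B_neg_right, neg_mul, h1]; ring)]
  unfold sr
  rw [neg_smul, smul_neg, neg_neg]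

theorem B_smul_left (k : ℤ) (u v : Vec l) : S.B (k • u) v = k * S.B u v := by
  induction k using Int.induction_on with
  | zero => rw [zero_smul, S.B_zero_left, zero_mul]
  | succ k ih => rw [add_smul, one_smul, S.B_add_left, ih]; ring
  | pred k ih => rw [sub_smul, one_smul, S.B_sub_left, ih]; ring

theorem B_sr (β r v : Vec l) : S.B (S.sr β r) v = S.B r v - S.cart r β * S.B β v := by
  unfold sr
  rw [S.B_sub_left, S.B_smul_left]

theorem n_mul_self {β : Vec l} (hβ : β ∈ S.roots) : S.n β * S.n β = 1 := by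
  unfold n
  have h1 := S.x_sq hβ (1 : F)
  have h2 := S.x_sq (S.neg_mem β hβ) (1 : F)
  calc S.x β 1 * S.x (-β) 1 * S.x β 1 * (S.x β 1 * S.x (-β) 1 * S.x β 1)
      = S.x β 1 * S.x (-β) 1 * (S.x β 1 * S.x β 1) * S.x (-β) 1 * S.x β 1 := by group
    _ = S.x β 1 * (S.x (-β) 1 * S.x (-β) 1) * S.x β 1 := by rw [h1]; group
    _ = 1 := by rw [h2, mul_one, h1]

theorem n_inv {β : Vec l} (hβ : β ∈ S.roots) : (S.n β)⁻¹ = S.n β :=
  inv_eq_of_mul_eq_one_right (S.n_mul_self hβ)

theorem n_conj_expand (β : Vec l) (g : G) :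
    S.n β * g * (S.n β)⁻¹ =
      S.x β 1 * (S.x (-β) 1 * (S.x β 1 * g * (S.x β 1)⁻¹) * (S.x (-β) 1)⁻¹) * (S.x β 1)⁻¹ := by
  unfold n
  group

/-- the braid relation in rank one -/
theorem braid {β : Vec l} (hβ : β ∈ S.roots) :
    S.x β 1 * S.x (-β) 1 * S.x β 1 = S.x (-β) 1 * S.x β 1 * S.x (-β) 1 := by
  have h := S.n_conj β hβ 1
  have hβ' := S.neg_mem β hβ
  have hi : (S.x β 1 * S.x (-β) 1 * S.x β 1)⁻¹ = S.x β 1 * S.x (-β) 1 * S.x β (1 : F) := by
    rw [mul_inv_rev, mul_inv_rev, S.x_inv hβ, S.x_inv hβ', mul_assoc]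
  rw [hi] at h
  have h1 := S.x_sq hβ (1 : F)
  have h2 : S.x β 1 * S.x (-β) 1 * S.x β 1 * S.x (-β) 1 * S.x β 1 = S.x (-β) (1 : F) := by
    calc S.x β 1 * S.x (-β) 1 * S.x β 1 * S.x (-β) 1 * S.x β 1
        = S.x β 1 * S.x (-β) 1 * (S.x β 1 * (S.x β 1 * S.x β 1)) * S.x (-β) 1 * S.x β 1 := by
          rw [h1, mul_one]
      _ = S.x β 1 * S.x (-β) 1 * S.x β 1 * S.x β 1 * (S.x β 1 * S.x (-β) 1 * S.x β 1) := by group
      _ = S.x (-β) 1 := h
  calc S.x β 1 * S.x (-β) 1 * S.x β 1
      = (S.x β 1 * S.x (-β) 1 * S.x β 1 * S.x (-β) 1 * S.x β 1) * (S.x β 1 * S.x (-β) 1) := by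
        have h3 := S.x_sq hβ' (1 : F)
        calc S.x β 1 * S.x (-β) 1 * S.x β 1
            = S.x β 1 * S.x (-β) 1 * S.x β 1 * (S.x (-β) 1 * ((S.x β 1 * S.x β 1) * S.x (-β) 1)) := by
              rw [h1, one_mul, h3, mul_one]
          _ = _ := by group
    _ = S.x (-β) 1 * S.x β 1 * S.x (-β) 1 := by rw [h2]; group

theorem n_neg {β : Vec l} (hβ : β ∈ S.roots) : S.n (-β) = S.n β := by
  unfold n
  rw [neg_neg]
  exact (S.braid hβ).symm

/-- conjugation by `n β`, the form on `β` being negative -/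
theorem n_conj_x_neg {β r : Vec l} (hβ : β ∈ S.roots) (hr : r ∈ S.roots) (hne : r ≠ -β) (h : S.B r β < 0)
    (a : F) : S.n β * S.x r a * (S.n β)⁻¹ = S.x (S.sr β r) a := by
  have hβ' := S.neg_mem β hβ
  have hne' : β ≠ -r := by
    intro e
    apply hne
    rw [e, neg_neg]
  have hNβ : S.B (-β) (-β) = S.B β β := S.B_neg_neg β β
  rw [S.n_conj_expand]
  rcases S.conj_form hr hβ hne' a 1 with ⟨k0, -⟩ | ⟨-, hl, hrb, e1⟩ | ⟨hl, hsh, hB, hrb, hrbb, e1⟩ |
    ⟨hsh, hl, hB, hrb, hrrb, e1⟩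
  · omega
  · -- the same length
    have hc : S.sr β r = r + β := by
      have hBv : 2 * S.B r β = - S.B β β := by
        rcases S.B_num hr hβ with ⟨-, h1, h2⟩ | ⟨h1, -⟩ | ⟨-, -, h1, h2, h3⟩ | ⟨-, -, h1, h3⟩
        · have := S.norm_pos hr; omega
        · exact absurd h1 hne'
        · omega
        · omega
      rw [S.sr_eq hr hβ (c := -1) (by omega)]
      simp
    rw [hc, mul_one] at *
    have hNrb : S.B (r + β) (r + β) = S.B r r := S.add_same_norm hr hβ hl h hne'
    have hBrb : S.B (r + β) β = S.B r β + S.B β β := by rw [S.B_add_left]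
    have hpos : 0 < S.B r β + S.B β β := by
      rcases S.B_num hr hβ with ⟨-, h1, h2⟩ | ⟨h1, -⟩ | ⟨-, -, h1, h2, h3⟩ | ⟨-, -, h1, h3⟩
      · have := S.norm_pos hr; omega
      · exact absurd h1 hne'
      · omega
      · omega
    have e2 : S.x (-β) 1 * S.x r a * (S.x (-β) 1)⁻¹ = S.x r a :=
      S.conj_comm hr hβ' (by rw [S.B_neg_right]; omega) a 1
    have e3 : S.x (-β) 1 * S.x (r + β) a * (S.x (-β) 1)⁻¹ = S.x (r + β) a * S.x r a := by
      have := S.conj_same hrb hβ' (by rw [hNrb, hNβ, hl]) (by rw [S.B_neg_right, hBrb]; omega) (by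
        intro e
        have e' : β = r + β := by
          have := congrArg Neg.neg e
          simpa using this
        have : r = 0 := by
          have := congrArg (fun v => v - β) e'
          simpa using this.symm
        exact S.root_ne_zero hr this) a 1
      rwa [mul_one, add_neg_cancel_right] at this
    have e4 : S.x β 1 * S.x (r + β) a * (S.x β 1)⁻¹ = S.x (r + β) a :=
      S.conj_comm hrb hβ (by rw [hBrb]; omega) a 1
    rw [e1, conj_mul_conj (S.x (-β) 1) (S.x r a) (S.x (r + β) a), e2, e3]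
    have hc2 : S.x r a * S.x (r + β) a = S.x (r + β) a * S.x r a :=
      S.x_comm r hr (r + β) hrb (by
        rw [S.B_add_right]
        rcases S.B_num hr hβ with ⟨-, h1, h2⟩ | ⟨h1, -⟩ | ⟨-, -, h1, h2, h3⟩ | ⟨-, -, h1, h3⟩
        · have := S.norm_pos hr; omega
        · exact absurd h1 hne'
        · omega
        · rcases S.B_self r hr with h4 | h4 <;> omega) a a
    have e5 : S.x r a * (S.x (r + β) a * S.x r a) = S.x (r + β) a := by
      rw [← mul_assoc, hc2, mul_assoc, S.x_sq hr, mul_one]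
    rw [e5, e4]
  · -- `r` long, `β` short
    have hc : S.sr β r = r + β + β := by
      rw [S.sr_eq hr hβ (c := -2) (by rw [hsh, hB]; ring)]
      ext i
      simp only [Pi.sub_apply, Pi.smul_apply, Pi.add_apply, smul_eq_mul]
      ring
    rw [hc]
    simp only [mul_one] at e1
    have hN1 : S.B (r + β) (r + β) = 2 := by
      rw [S.B_add_left, S.B_add_right, S.B_add_right, S.B_symm β r, hl, hsh, hB]; rfl
    have hN2 : S.B (r + β + β) (r + β + β) = 4 := by
      simp only [S.B_add_left, S.B_add_right, S.B_symm β r, hl, hsh, hB]; rfl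
    have e2 : S.x (-β) 1 * S.x r a * (S.x (-β) 1)⁻¹ = S.x r a :=
      S.conj_comm hr hβ' (by rw [S.B_neg_right, hB]; omega) a 1
    have e3 : S.x (-β) 1 * S.x (r + β) a * (S.x (-β) 1)⁻¹ = S.x (r + β) a :=
      S.conj_comm hrb hβ' (by rw [S.B_neg_right, S.B_add_left, hB, hsh]; omega) a 1
    have e4 : S.x (-β) 1 * S.x (r + β + β) a * (S.x (-β) 1)⁻¹ =
        S.x (r + β + β) a * S.x (r + β) a * S.x r a := by
      have := S.conj_ls hrbb hβ' hN2 (by rw [hNβ, hsh])
        (by rw [S.B_neg_right, S.B_add_left, S.B_add_left, hB, hsh]; rfl) a 1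
      simp only [mul_one, add_neg_cancel_right] at this
      exact this
    have e5 : S.x β 1 * S.x (r + β + β) a * (S.x β 1)⁻¹ = S.x (r + β + β) a :=
      S.conj_comm hrbb hβ (by rw [S.B_add_left, S.B_add_left, hB, hsh]; omega) a 1
    have c1 : S.x r a * S.x (r + β) a = S.x (r + β) a * S.x r a :=
      S.x_comm r hr _ hrb (by rw [S.B_add_right, hl, hB]; omega) a a
    have c2 : S.x r a * S.x (r + β + β) a = S.x (r + β + β) a * S.x r a :=
      S.x_comm r hr _ hrbb (by rw [S.B_add_right, S.B_add_right, hl, hB]; omega) a a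
    have c3 : S.x (r + β) a * S.x (r + β + β) a = S.x (r + β + β) a * S.x (r + β) a :=
      S.x_comm _ hrb _ hrbb (by
        simp only [S.B_add_left, S.B_add_right, S.B_symm β r, hl, hsh, hB]; omega) a a
    rw [e1, conj_mul_conj (S.x (-β) 1), conj_mul_conj (S.x (-β) 1), e2, e3, e4]
    have e6 : S.x r a * S.x (r + β) a * (S.x (r + β + β) a * S.x (r + β) a * S.x r a) = S.x (r + β + β) a := by
      calc S.x r a * S.x (r + β) a * (S.x (r + β + β) a * S.x (r + β) a * S.x r a)
          = S.x r a * (S.x (r + β) a * S.x (r + β + β) a) * S.x (r + β) a * S.x r a := by group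
        _ = S.x r a * (S.x (r + β + β) a * S.x (r + β) a) * S.x (r + β) a * S.x r a := by rw [c3]
        _ = (S.x r a * S.x (r + β + β) a) * (S.x (r + β) a * S.x (r + β) a) * S.x r a := by group
        _ = S.x (r + β + β) a * (S.x r a * S.x r a) := by rw [S.x_sq hrb, c2]; group
        _ = S.x (r + β + β) a := by rw [S.x_sq hr, mul_one]
    rw [e6, e5]
  · -- `r` short, `β` long
    have hc : S.sr β r = r + β := by
      rw [S.sr_eq hr hβ (c := -1) (by rw [hl, hB]; ring)]
      simp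
    rw [hc]
    simp only [mul_one] at e1
    have hN1 : S.B (r + β) (r + β) = 2 := by
      rw [S.B_add_left, S.B_add_right, S.B_add_right, S.B_symm β r, hl, hsh, hB]; rfl
    have e2 : S.x (-β) 1 * S.x r a * (S.x (-β) 1)⁻¹ = S.x r a :=
      S.conj_comm hr hβ' (by rw [S.B_neg_right, hB]; omega) a 1
    have e3 : S.x (-β) 1 * S.x (r + β) a * (S.x (-β) 1)⁻¹ =
        S.x (r + β) a * S.x r a * S.x (r + r + β) (a * a) := by
      have := S.conj_sl hrb hβ' hN1 (by rw [hNβ, hl])
        (by rw [S.B_neg_right, S.B_add_left, hB, hl]; rfl) a 1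
      simp only [mul_one, add_neg_cancel_right] at this
      rw [this]
      congr 2
      abel
    have e4 : S.x (-β) 1 * S.x (r + r + β) (a * a) * (S.x (-β) 1)⁻¹ = S.x (r + r + β) (a * a) :=
      S.conj_comm hrrb hβ' (by rw [S.B_neg_right, S.B_add_left, S.B_add_left, hB, hl]; omega) _ 1
    have e5 : S.x β 1 * S.x (r + β) a * (S.x β 1)⁻¹ = S.x (r + β) a :=
      S.conj_comm hrb hβ (by rw [S.B_add_left, hB, hl]; omega) a 1
    have c1 : S.x r a * S.x (r + β) a = S.x (r + β) a * S.x r a :=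
      S.x_comm r hr _ hrb (by rw [S.B_add_right, hsh, hB]; omega) a a
    rw [e1, conj_mul_conj (S.x (-β) 1), conj_mul_conj (S.x (-β) 1), e2, e3, e4]
    have e6 : S.x r a * (S.x (r + β) a * S.x r a * S.x (r + r + β) (a * a)) * S.x (r + r + β) (a * a) =
        S.x (r + β) a := by
      calc S.x r a * (S.x (r + β) a * S.x r a * S.x (r + r + β) (a * a)) * S.x (r + r + β) (a * a)
          = (S.x r a * S.x (r + β) a) * S.x r a * (S.x (r + r + β) (a * a) * S.x (r + r + β) (a * a)) := by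
            group
        _ = S.x (r + β) a * (S.x r a * S.x r a) := by rw [S.x_sq hrrb, c1]; group
        _ = S.x (r + β) a := by rw [S.x_sq hr, mul_one]
    rw [e6, e5]

/-- conjugation by `n β` reflects the root elements -/
theorem n_conj_x {β r : Vec l} (hβ : β ∈ S.roots) (hr : r ∈ S.roots) (a : F) :
    S.n β * S.x r a * (S.n β)⁻¹ = S.x (S.sr β r) a := by
  have hβ' := S.neg_mem β hβ
  by_cases h1 : r = β
  · rw [h1, S.sr_self β hβ]
    exact S.n_conj β hβ a
  by_cases h2 : r = -β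
  · rw [h2, S.sr_neg_self β hβ]
    have := S.n_conj β hβ a
    change S.n β * S.x β a * (S.n β)⁻¹ = S.x (-β) a at this
    rw [← this, S.n_inv hβ]
    calc S.n β * (S.n β * S.x β a * S.n β) * S.n β
        = (S.n β * S.n β) * S.x β a * (S.n β * S.n β) := by group
      _ = S.x β a := by rw [S.n_mul_self hβ, one_mul, mul_one]
  rcases lt_trichotomy (S.B r β) 0 with h | h | h
  · exact S.n_conj_x_neg hβ hr h2 h a
  · rw [S.sr_of_zero hr hβ h, S.n_conj_expand]
    have e1 : S.x β 1 * S.x r a * (S.x β 1)⁻¹ = S.x r a := S.conj_comm hr hβ (by omega) a 1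
    have e2 : S.x (-β) 1 * S.x r a * (S.x (-β) 1)⁻¹ = S.x r a :=
      S.conj_comm hr hβ' (by rw [S.B_neg_right, h]; omega) a 1
    rw [e1, e2, e1]
  · rw [← S.n_neg hβ, ← S.sr_neg hr hβ]
    exact S.n_conj_x_neg hβ' hr (by rw [neg_neg]; exact h1) (by rw [S.B_neg_right]; omega) a

theorem sr_mem_neg {β r : Vec l} (hβ : β ∈ S.roots) (hr : r ∈ S.roots) (hne : r ≠ -β) (h : S.B r β < 0) :
    S.sr β r ∈ S.roots := by
  have hne' : β ≠ -r := by
    intro e
    apply hne
    rw [e, neg_neg]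
  rcases S.conj_form hr hβ hne' (0 : F) 1 with ⟨k0, -⟩ | ⟨-, hl, hrb, -⟩ | ⟨hl, hsh, hB, hrb, hrbb, -⟩ |
    ⟨hsh, hl, hB, hrb, hrrb, -⟩
  · omega
  · have hc : S.sr β r = r + β := by
      have hBv : 2 * S.B r β = - S.B β β := by
        rcases S.B_num hr hβ with ⟨-, h1, h2⟩ | ⟨h1, -⟩ | ⟨-, -, h1, h2, h3⟩ | ⟨-, -, h1, h3⟩
        · have := S.norm_pos hr; omega
        · exact absurd h1 hne'
        · omega
        · omega
      rw [S.sr_eq hr hβ (c := -1) (by omega)]
      simp
    rw [hc]; exact hrb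
  · have hc : S.sr β r = r + β + β := by
      rw [S.sr_eq hr hβ (c := -2) (by rw [hsh, hB]; ring)]
      ext i
      simp only [Pi.sub_apply, Pi.smul_apply, Pi.add_apply, smul_eq_mul]
      ring
    rw [hc]; exact hrbb
  · have hc : S.sr β r = r + β := by
      rw [S.sr_eq hr hβ (c := -1) (by rw [hl, hB]; ring)]
      simp
    rw [hc]; exact hrb

theorem sr_mem {β r : Vec l} (hβ : β ∈ S.roots) (hr : r ∈ S.roots) : S.sr β r ∈ S.roots := by
  have hβ' := S.neg_mem β hβ
  by_cases h1 : r = β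
  · rw [h1, S.sr_self β hβ]; exact hβ'
  by_cases h2 : r = -β
  · rw [h2, S.sr_neg_self β hβ]; exact hβ
  rcases lt_trichotomy (S.B r β) 0 with h | h | h
  · exact S.sr_mem_neg hβ hr h2 h
  · rw [S.sr_of_zero hr hβ h]; exact hr
  · rw [← S.sr_neg hr hβ]
    exact S.sr_mem_neg hβ' hr (by rw [neg_neg]; exact h1) (by rw [S.B_neg_right]; omega)

theorem B_sr_sr {β : Vec l} (hβ : β ∈ S.roots) {r s : Vec l} (hr : r ∈ S.roots) (hs : s ∈ S.roots) :
    S.B (S.sr β r) (S.sr β s) = S.B r s := by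
  have h1 := S.cart_spec hr hβ
  have h2 := S.cart_spec hs hβ
  rw [S.B_sr]
  unfold sr
  rw [S.B_sub_right, S.B_sub_right, S.B_symm r (S.cart s β • β), S.B_symm β (S.cart s β • β),
    S.B_smul_left, S.B_smul_left, S.B_symm β r, S.B_symm β s]
  have e : S.cart r β * (S.B s β - S.cart s β * S.B β β) = - S.cart r β * S.B s β := by rw [h2]; ring
  have e2 : S.cart s β * S.B r β * 2 = S.cart r β * S.B s β * 2 := by
    have hp := S.norm_pos hβ
    have : (S.cart s β * S.B r β * 2 - S.cart r β * S.B s β * 2) * S.B β β = 0 := by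
      have a1 : S.cart s β * S.B r β * 2 * S.B β β = S.cart s β * S.B β β * (2 * S.B r β) := by ring
      have a2 : S.cart r β * S.B s β * 2 * S.B β β = S.cart r β * S.B β β * (2 * S.B s β) := by ring
      rw [sub_mul, a1, a2, h1, h2]; ring
    rcases mul_eq_zero.mp this with h3 | h3
    · omega
    · omega
  rw [e]
  linarith

end DLSys

end Cfsg.Agent.Lib.Helper3.DLInv
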