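import Cfsg.Agent.Lib.Helper3.DLInv5
set_option autoImplicit false
set_option linter.unusedSectionVars false
set_option linter.unusedVariables false
set_option linter.unusedSimpArgs false

/-!
Normal form in the radical of a dominant long root: every element is a product of root elements in a fixed order
times an element of the root subgroup of the dominant root, the parameters are unique, and they are additive
functions on the radical.
-/

namespace Cfsg.Agent.Lib.Helper3.DLInv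

open Cfsg.Agent.Lib.Helper3.SLInv

namespace DLSys

variable {G : Type*} [Group G] {F : Type*} [Field F] {l : ℕ} (S : DLSys G F l)
variable {T : List (Vec l)} {γ : Vec l}

open Classical in
/-- the roots of the radical other than the dominant root -/
noncomputable def Lq (T : List (Vec l)) (γ : Vec l) : List (Vec l) :=
  S.roots.filter fun r => decide (S.perp T r ∧ S.B r γ = 2)

theorem mem_Lq {r : Vec l} : r ∈ S.Lq T γ ↔ r ∈ S.roots ∧ S.perp T r ∧ S.B r γ = 2 := by
  unfold Lq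
  simp

theorem nodup_Lq : (S.Lq T γ).Nodup := S.nodup.filter _

/-- the positive roots -/
def posL : List (Vec l) := S.roots.filter fun r => decide (0 < S.key r)

theorem mem_posL {r : Vec l} : r ∈ S.posL ↔ r ∈ S.roots ∧ 0 < S.key r := by
  unfold posL
  simp

/-- a product of root elements along a list -/
def pr (L : List (Vec l)) (t : Vec l → F) : G := (L.map fun r => S.x r (t r)).prod

theorem pr_nil (t : Vec l → F) : S.pr [] t = 1 := rfl

theorem pr_cons (r : Vec l) (L : List (Vec l)) (t : Vec l → F) : S.pr (r :: L) t = S.x r (t r) * S.pr L t := by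
  simp [pr]

theorem pr_append (L L' : List (Vec l)) (t : Vec l → F) : S.pr (L ++ L') t = S.pr L t * S.pr L' t := by
  simp [pr]

theorem pr_congr {L : List (Vec l)} {t t' : Vec l → F} (h : ∀ r ∈ L, t r = t' r) : S.pr L t = S.pr L t' := by
  unfold pr
  congr 1
  apply List.map_congr_left
  intro r hr
  rw [h r hr]

theorem pr_zero {L : List (Vec l)} (hL : ∀ r ∈ L, r ∈ S.roots) : S.pr L (fun _ => (0 : F)) = 1 := by
  induction L with
  | nil => rfl
  | cons r L ih =>
    rw [S.pr_cons, S.x_zero (hL r List.mem_cons_self), one_mul]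
    exact ih fun s hs => hL s (List.mem_cons_of_mem _ hs)

theorem pr_mem_QT {L : List (Vec l)} (hL : ∀ r ∈ L, r ∈ S.Lq T γ) (t : Vec l → F) : S.pr L t ∈ S.QT T γ := by
  induction L with
  | nil => exact Subgroup.one_mem _
  | cons r L ih =>
    rw [S.pr_cons]
    obtain ⟨h1, h2, h3⟩ := S.mem_Lq.mp (hL r List.mem_cons_self)
    exact Subgroup.mul_mem _ (S.x_mem_QT h1 h2 (by omega) _) (ih fun s hs => hL s (List.mem_cons_of_mem _ hs))

theorem xγ_mem_QT (D : S.Dom T γ) (c : F) : S.x γ c ∈ S.QT T γ :=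
  S.x_mem_QT D.mem D.perp (by rw [D.long]; omega) c

theorem ne_γ_of_mem_Lq (D : S.Dom T γ) {r : Vec l} (hr : r ∈ S.Lq T γ) : r ≠ γ := by
  intro h
  have := (S.mem_Lq.mp hr).2.2
  rw [h, D.long] at this
  omega

/-- the form of two roots of the radical is negative only for two long roots with sum `γ` -/
theorem Lq_neg (D : S.Dom T γ) {r s : Vec l} (hr : r ∈ S.Lq T γ) (hs : s ∈ S.Lq T γ) (h : S.B r s < 0) :
    S.B r r = 4 ∧ S.B s s = 4 ∧ S.B r s = -2 ∧ r + s = γ ∧ s ≠ -r := by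
  obtain ⟨hr1, hr2, hr3⟩ := S.mem_Lq.mp hr
  obtain ⟨hs1, hs2, hs3⟩ := S.mem_Lq.mp hs
  have hne : s ≠ -r := by
    intro e
    rw [e, S.B_neg_left, hr3] at hs3
    omega
  have hB4 : S.B (r + s) γ = 4 := by rw [S.B_add_left, hr3, hs3]; rfl
  rcases S.B_num hr1 hs1 with ⟨-, h1, h2⟩ | ⟨h1, -⟩ | ⟨-, -, h1, h2, h3⟩ | ⟨-, -, h1, h3⟩
  · have := S.norm_pos hr1; omega
  · exact absurd h1 hne
  · exfalso
    have hrs := S.add_same r hr1 s hs1 (by rw [h1, h2]) h hne
    have e := S.eq_of_B_four D.mem hrs hB4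
    have hN := S.add_same_norm hr1 hs1 (by rw [h1, h2]) h hne
    rw [e, D.long, h1] at hN
    omega
  · have hB : S.B r s = -2 := by omega
    rcases S.B_self r hr1 with h4 | h4 <;> rcases S.B_self s hs1 with h5 | h5
    · omega
    · exfalso
      obtain ⟨k1, -⟩ := S.add_sl hr1 hs1 h4 h5 hB
      have e := S.eq_of_B_four D.mem k1 hB4
      have hN : S.B (r + s) (r + s) = 2 := by
        rw [S.B_add_left, S.B_add_right, S.B_add_right, S.B_symm s r, h4, h5, hB]; rfl
      rw [e, D.long] at hN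
      omega
    · exfalso
      obtain ⟨k1, -⟩ := S.add_mixed r hr1 s hs1 h4 h5 hB
      have e := S.eq_of_B_four D.mem k1 hB4
      have hN : S.B (r + s) (r + s) = 2 := by
        rw [S.B_add_left, S.B_add_right, S.B_add_right, S.B_symm s r, h4, h5, hB]; rfl
      rw [e, D.long] at hN
      omega
    · have hrs := S.add_same r hr1 s hs1 (by rw [h4, h5]) h hne
      exact ⟨h4, h5, hB, S.eq_of_B_four D.mem hrs hB4, hne⟩

/-- two root elements of the radical commute up to the root subgroup of `γ` -/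
theorem comm_gen (D : S.Dom T γ) {r s : Vec l} (hr : r ∈ S.Lq T γ) (hs : s ∈ S.Lq T γ) (a b : F) :
    ∃ ε : F, S.x s b * S.x r a = S.x r a * S.x s b * S.x γ ε := by
  obtain ⟨hr1, hr2, hr3⟩ := S.mem_Lq.mp hr
  obtain ⟨hs1, hs2, hs3⟩ := S.mem_Lq.mp hs
  by_cases h : 0 ≤ S.B r s
  · exact ⟨0, by rw [S.x_zero D.mem, mul_one, S.x_comm r hr1 s hs1 h]⟩
  · obtain ⟨h4, h5, hB, e, hne⟩ := S.Lq_neg D hr hs (by omega)
    exact ⟨a * b, by rw [S.x_comm_same r hr1 s hs1 (by rw [h4, h5]) (by omega) hne, e]⟩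

/-- moving a root element into its place in a product -/
theorem insert_pr (D : S.Dom T γ) : ∀ (L : List (Vec l)), (∀ r ∈ L, r ∈ S.Lq T γ) → L.Nodup →
    ∀ s ∈ L, ∀ (b : F) (t : Vec l → F), ∃ c : F,
      S.x s b * S.pr L t = S.pr L (Function.update t s (b + t s)) * S.x γ c := by
  intro L
  induction L with
  | nil => intro _ _ s hs; exact absurd hs List.not_mem_nil
  | cons r L ih =>
    intro hL hnd s hs b t
    have hrL : r ∈ S.Lq T γ := hL r List.mem_cons_self
    have hL' : ∀ v ∈ L, v ∈ S.Lq T γ := fun v hv => hL v (List.mem_cons_of_mem _ hv)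
    obtain ⟨hr1, hr2, hr3⟩ := S.mem_Lq.mp hrL
    by_cases hsr : s = r
    · subst hsr
      refine ⟨0, ?_⟩
      rw [S.pr_cons, S.pr_cons, Function.update_self, S.x_zero D.mem, mul_one, ← mul_assoc, ← S.x_add s hr1]
      congr 1
      apply S.pr_congr
      intro v hv
      have : v ≠ s := fun e => (List.nodup_cons.mp hnd).1 (e ▸ hv)
      rw [Function.update_of_ne this]
    · have hsL : s ∈ L := by
        rcases List.mem_cons.mp hs with h | h
        · exact absurd h hsr
        · exact h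
      obtain ⟨c, e⟩ := ih hL' (List.nodup_cons.mp hnd).2 s hsL b t
      obtain ⟨ε, hε⟩ := S.comm_gen D hrL (hL' s hsL) (t r) b
      refine ⟨c + ε, ?_⟩
      rw [S.pr_cons, S.pr_cons, Function.update_of_ne (Ne.symm hsr), ← mul_assoc, hε, S.x_add γ D.mem]
      have hc := S.xγ_comm D (S.pr_mem_QT hL' t) ε
      calc S.x r (t r) * S.x s b * S.x γ ε * S.pr L t
          = S.x r (t r) * S.x s b * (S.x γ ε * S.pr L t) := by group
        _ = S.x r (t r) * (S.x s b * S.pr L t) * S.x γ ε := by rw [hc]; group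
        _ = S.x r (t r) * S.pr L (Function.update t s (b + t s)) * (S.x γ c * S.x γ ε) := by rw [e]; group

/-- multiplying a normal form by a generator -/
theorem gen_mul_nf (D : S.Dom T γ) {s : Vec l} (hs : s ∈ S.Lq T γ) (b : F) (t : Vec l → F) (c : F) :
    ∃ c' : F, S.x s b * (S.pr (S.Lq T γ) t * S.x γ c) =
      S.pr (S.Lq T γ) (Function.update t s (b + t s)) * S.x γ c' := by
  obtain ⟨c1, e⟩ := S.insert_pr D (S.Lq T γ) (fun _ h => h) S.nodup_Lq s hs b t
  exact ⟨c1 + c, by rw [← mul_assoc, e, mul_assoc, ← S.x_add γ D.mem]⟩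

theorem xγ_mul_nf (D : S.Dom T γ) (b : F) (t : Vec l → F) (c : F) :
    S.x γ b * (S.pr (S.Lq T γ) t * S.x γ c) = S.pr (S.Lq T γ) t * S.x γ (b + c) := by
  rw [← mul_assoc, S.xγ_comm D (S.pr_mem_QT (fun _ h => h) t), mul_assoc, ← S.x_add γ D.mem]

/-- existence of a normal form -/
theorem nf_exists (D : S.Dom T γ) {q : G} (hq : q ∈ S.QT T γ) :
    ∃ (t : Vec l → F) (c : F), q = S.pr (S.Lq T γ) t * S.x γ c := by
  have key : ∀ (r : Vec l), r ∈ S.roots → S.perp T r → 1 ≤ S.B r γ → ∀ (a : F) (y : G),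
      (∃ (t : Vec l → F) (c : F), y = S.pr (S.Lq T γ) t * S.x γ c) →
      ∃ (t : Vec l → F) (c : F), S.x r a * y = S.pr (S.Lq T γ) t * S.x γ c := by
    rintro r hr hp h1 a y ⟨t, c, rfl⟩
    rcases D.eq_or_two S hr h1 with h | h
    · subst h
      exact ⟨t, a + c, S.xγ_mul_nf D a t c⟩
    · obtain ⟨c', e⟩ := S.gen_mul_nf D (S.mem_Lq.mpr ⟨hr, hp, h⟩) a t c
      exact ⟨_, c', e⟩
  induction hq using Subgroup.closure_induction_left with
  | one =>
    refine ⟨fun _ => 0, 0, ?_⟩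
    rw [S.x_zero D.mem, mul_one, S.pr_zero (fun r hr => (S.mem_Lq.mp hr).1)]
  | mul_left x hx y hy ih =>
    obtain ⟨r, hr, a, hp, h1, rfl⟩ := hx
    exact key r hr hp h1 a y ih
  | inv_mul_cancel x hx y hy ih =>
    obtain ⟨r, hr, a, hp, h1, rfl⟩ := hx
    rw [S.x_inv hr]
    exact key r hr hp h1 a y ih

theorem pr_filter (R : Vec l → Prop) [DecidablePred R] : ∀ (L : List (Vec l)), (∀ r ∈ L, r ∈ S.roots) → ∀ t : Vec l → F,
    (∀ r ∈ L, ¬ R r → t r = 0) → S.pr L t = S.pr (L.filter fun r => decide (R r)) t := by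
  intro L
  induction L with
  | nil => intro _ _ _; rfl
  | cons v L ih =>
    intro hL t ht
    have hL' : ∀ w ∈ L, w ∈ S.roots := fun w hw => hL w (List.mem_cons_of_mem _ hw)
    have ih' := ih hL' t (fun r hr => ht r (List.mem_cons_of_mem _ hr))
    by_cases hv : R v
    · rw [List.filter_cons_of_pos (by simpa using hv), S.pr_cons, S.pr_cons, ih']
    · rw [List.filter_cons_of_neg (by simpa using hv), S.pr_cons, ht v List.mem_cons_self hv,
        S.x_zero (hL v List.mem_cons_self), one_mul, ih']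

open Classical in
theorem Lq_eq_filter_posL (D : S.Dom T γ) :
    S.Lq T γ = S.posL.filter fun r => decide (S.perp T r ∧ S.B r γ = 2) := by
  unfold Lq posL
  rw [List.filter_filter]
  apply List.filter_congr
  intro r hr
  by_cases h : S.perp T r ∧ S.B r γ = 2
  · have hk := D.pos_of_one_le S hr h.1 (by omega)
    simp [h, hk]
  · simp [h]

open Classical in
/-- a product over the positive roots with support in the radical -/
theorem pr_split (D : S.Dom T γ) (τ : Vec l → F)
    (hτ : ∀ r ∈ S.posL, r ≠ γ → r ∉ S.Lq T γ → τ r = 0) :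
    S.pr S.posL τ = S.pr (S.Lq T γ) τ * S.x γ (τ γ) := by
  have hγ : γ ∈ S.posL := S.mem_posL.mpr ⟨D.mem, D.pos⟩
  obtain ⟨A, B', e⟩ := List.append_of_mem hγ
  have hnd : S.posL.Nodup := S.nodup.filter _
  rw [e] at hnd
  have hγA : γ ∉ A := fun h => by
    have := (List.nodup_append.mp hnd).2.2 γ h γ List.mem_cons_self
    exact this rfl
  have hγB : γ ∉ B' := (List.nodup_cons.mp (List.nodup_append.mp hnd).2.1).1
  have hPγ : ¬ (S.perp T γ ∧ S.B γ γ = 2) := by
    rintro ⟨-, h⟩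
    rw [D.long] at h
    omega
  have hLq : S.Lq T γ = (A.filter fun r => decide (S.perp T r ∧ S.B r γ = 2)) ++
      (B'.filter fun r => decide (S.perp T r ∧ S.B r γ = 2)) := by
    rw [S.Lq_eq_filter_posL D, e, List.filter_append, List.filter_cons_of_neg (by simpa using hPγ)]
  have hA : ∀ r ∈ A, r ∈ S.posL := fun r hr => by rw [e]; exact List.mem_append_left _ hr
  have hB : ∀ r ∈ B', r ∈ S.posL := fun r hr => by
    rw [e]; exact List.mem_append_right _ (List.mem_cons_of_mem _ hr)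
  have hfa : S.pr A τ = S.pr (A.filter fun r => decide (S.perp T r ∧ S.B r γ = 2)) τ := by
    apply S.pr_filter _ A (fun r hr => (S.mem_posL.mp (hA r hr)).1)
    intro r hr hn
    apply hτ r (hA r hr) (fun e => hγA (e ▸ hr))
    intro hm
    obtain ⟨-, h2, h3⟩ := S.mem_Lq.mp hm
    exact hn ⟨h2, h3⟩
  have hfb : S.pr B' τ = S.pr (B'.filter fun r => decide (S.perp T r ∧ S.B r γ = 2)) τ := by
    apply S.pr_filter _ B' (fun r hr => (S.mem_posL.mp (hB r hr)).1)
    intro r hr hn
    apply hτ r (hB r hr) (fun e => hγB (e ▸ hr))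
    intro hm
    obtain ⟨-, h2, h3⟩ := S.mem_Lq.mp hm
    exact hn ⟨h2, h3⟩
  have hmemB : S.pr (B'.filter fun r => decide (S.perp T r ∧ S.B r γ = 2)) τ ∈ S.QT T γ := by
    apply S.pr_mem_QT
    intro r hr
    rw [hLq]
    exact List.mem_append_right _ hr
  rw [e, S.pr_append, S.pr_cons, hfa, hfb, hLq, S.pr_append, S.xγ_comm D hmemB]
  group

/-- uniqueness of the normal form -/
theorem nf_unique (D : S.Dom T γ) {t t' : Vec l → F} {c c' : F}
    (h : S.pr (S.Lq T γ) t * S.x γ c = S.pr (S.Lq T γ) t' * S.x γ c') :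
    (∀ r ∈ S.Lq T γ, t r = t' r) ∧ c = c' := by
  classical
  set τ : Vec l → F := fun r => if r = γ then c else if r ∈ S.Lq T γ then t r else 0 with hτ
  set τ' : Vec l → F := fun r => if r = γ then c' else if r ∈ S.Lq T γ then t' r else 0 with hτ'
  have e1 : S.pr S.posL τ = S.pr (S.Lq T γ) t * S.x γ c := by
    rw [S.pr_split D τ (fun r _ h1 h2 => by simp [hτ, h1, h2])]
    congr 1
    · apply S.pr_congr
      intro r hr
      simp [hτ, S.ne_γ_of_mem_Lq D hr, hr]
    · simp [hτ]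
  have e2 : S.pr S.posL τ' = S.pr (S.Lq T γ) t' * S.x γ c' := by
    rw [S.pr_split D τ' (fun r _ h1 h2 => by simp [hτ', h1, h2])]
    congr 1
    · apply S.pr_congr
      intro r hr
      simp [hτ', S.ne_γ_of_mem_Lq D hr, hr]
    · simp [hτ']
  have key := S.prod_inj τ τ' (by
    have := e1.trans (h.trans e2.symm)
    exact this)
  refine ⟨?_, ?_⟩
  · intro r hr
    obtain ⟨h1, h2, h3⟩ := S.mem_Lq.mp hr
    have := key r h1 (D.pos_of_one_le S h1 h2 (by omega))
    simpa [hτ, hτ', S.ne_γ_of_mem_Lq D hr, hr] using this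
  · have := key γ D.mem D.pos
    simpa [hτ, hτ'] using this

open Classical in
/-- the coordinate of an element of the radical at the root `r` -/
noncomputable def phi (T : List (Vec l)) (γ r : Vec l) (q : G) : F :=
  if h : ∃ (t : Vec l → F) (c : F), q = S.pr (S.Lq T γ) t * S.x γ c then h.choose r else 0

/-- the normal form, with the coordinates as parameters -/
theorem nf (D : S.Dom T γ) {q : G} (hq : q ∈ S.QT T γ) :
    ∃ c : F, q = S.pr (S.Lq T γ) (fun r => S.phi T γ r q) * S.x γ c := by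
  have h := S.nf_exists D hq
  obtain ⟨c, hc⟩ := h.choose_spec
  refine ⟨c, ?_⟩
  have : (fun r => S.phi T γ r q) = h.choose := by
    funext r
    unfold phi
    rw [dif_pos h]
  rw [this]
  exact hc

theorem phi_eq (D : S.Dom T γ) {q : G} {t : Vec l → F} {c : F}
    (h : q = S.pr (S.Lq T γ) t * S.x γ c) {r : Vec l} (hr : r ∈ S.Lq T γ) : S.phi T γ r q = t r := by
  have hq : q ∈ S.QT T γ := by
    rw [h]
    exact Subgroup.mul_mem _ (S.pr_mem_QT (fun _ h => h) t) (S.xγ_mem_QT D c)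
  obtain ⟨c', e⟩ := S.nf D hq
  exact (S.nf_unique D (e.symm.trans h)).1 r hr

theorem phi_gen_mul (D : S.Dom T γ) {r : Vec l} (hr : r ∈ S.Lq T γ) {s : Vec l} (hs : s ∈ S.Lq T γ) (b : F)
    {q : G} (hq : q ∈ S.QT T γ) :
    S.phi T γ r (S.x s b * q) = (if r = s then b else 0) + S.phi T γ r q := by
  obtain ⟨c, e⟩ := S.nf D hq
  obtain ⟨c', e'⟩ := S.gen_mul_nf D hs b (fun r => S.phi T γ r q) c
  rw [← e] at e'
  rw [S.phi_eq D e' hr]
  by_cases h : r = s
  · rw [if_pos h, h, Function.update_self]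
  · rw [if_neg h, Function.update_of_ne h, zero_add]

theorem phi_xγ_mul (D : S.Dom T γ) {r : Vec l} (hr : r ∈ S.Lq T γ) (b : F) {q : G} (hq : q ∈ S.QT T γ) :
    S.phi T γ r (S.x γ b * q) = S.phi T γ r q := by
  obtain ⟨c, e⟩ := S.nf D hq
  have e' := S.xγ_mul_nf D b (fun r => S.phi T γ r q) c
  rw [← e] at e'
  rw [S.phi_eq D e' hr]

theorem phi_one (D : S.Dom T γ) {r : Vec l} (hr : r ∈ S.Lq T γ) : S.phi T γ r 1 = 0 := by
  have : (1 : G) = S.pr (S.Lq T γ) (fun _ => (0 : F)) * S.x γ 0 := by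
    rw [S.x_zero D.mem, mul_one, S.pr_zero (fun r hr => (S.mem_Lq.mp hr).1)]
  rw [S.phi_eq D this hr]

theorem phi_gen_self (D : S.Dom T γ) {r : Vec l} (hr : r ∈ S.Lq T γ) (b : F) : S.phi T γ r (S.x r b) = b := by
  have := S.phi_gen_mul D hr hr b (Subgroup.one_mem _)
  rw [mul_one, if_pos rfl, S.phi_one D hr, add_zero] at this
  exact this

theorem phi_gen_ne (D : S.Dom T γ) {r : Vec l} (hr : r ∈ S.Lq T γ) {s : Vec l} (hs : s ∈ S.Lq T γ)
    (hsr : s ≠ r) (b : F) : S.phi T γ r (S.x s b) = 0 := by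
  have := S.phi_gen_mul D hr hs b (Subgroup.one_mem _)
  rw [mul_one, if_neg (Ne.symm hsr), S.phi_one D hr, add_zero] at this
  exact this

theorem phi_xγ (D : S.Dom T γ) {r : Vec l} (hr : r ∈ S.Lq T γ) (c : F) : S.phi T γ r (S.x γ c) = 0 := by
  have := S.phi_xγ_mul D hr c (Subgroup.one_mem _)
  rw [mul_one, S.phi_one D hr] at this
  exact this

/-- the coordinate of a generator of the radical -/
theorem phi_gen (D : S.Dom T γ) {r : Vec l} (hr : r ∈ S.Lq T γ) {s : Vec l} (hs : s ∈ S.roots)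
    (hsp : S.perp T s) (hs1 : 1 ≤ S.B s γ) (b : F) : S.phi T γ r (S.x s b) = if s = r then b else 0 := by
  rcases D.eq_or_two S hs hs1 with h | h
  · rw [h, S.phi_xγ D hr, if_neg (Ne.symm (S.ne_γ_of_mem_Lq D hr))]
  · have hsL := S.mem_Lq.mpr ⟨hs, hsp, h⟩
    by_cases e : s = r
    · rw [if_pos e, e, S.phi_gen_self D hr]
    · rw [if_neg e, S.phi_gen_ne D hr hsL e]

theorem phi_mul (D : S.Dom T γ) {r : Vec l} (hr : r ∈ S.Lq T γ) {q q' : G} (hq : q ∈ S.QT T γ)
    (hq' : q' ∈ S.QT T γ) : S.phi T γ r (q * q') = S.phi T γ r q + S.phi T γ r q' := by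
  have step : ∀ (s : Vec l), s ∈ S.roots → S.perp T s → 1 ≤ S.B s γ → ∀ (a : F) (y : G), y ∈ S.QT T γ →
      S.phi T γ r (S.x s a * y) = S.phi T γ r (S.x s a) + S.phi T γ r y := by
    intro s hs hsp hs1 a y hy
    rcases D.eq_or_two S hs hs1 with h | h
    · rw [h, S.phi_xγ_mul D hr a hy, S.phi_xγ D hr, zero_add]
    · have hsL := S.mem_Lq.mpr ⟨hs, hsp, h⟩
      rw [S.phi_gen_mul D hr hsL a hy]
      congr 1
      by_cases e : r = s
      · rw [if_pos e, e, S.phi_gen_self D hsL]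
      · rw [if_neg e, S.phi_gen_ne D hr hsL (Ne.symm e)]
  induction hq using Subgroup.closure_induction_left with
  | one => rw [one_mul, S.phi_one D hr, zero_add]
  | mul_left x hx y hy ih =>
    obtain ⟨s, hs, a, hsp, hs1, rfl⟩ := hx
    rw [mul_assoc, step s hs hsp hs1 a _ (Subgroup.mul_mem _ hy hq'), ih, step s hs hsp hs1 a y hy, add_assoc]
  | inv_mul_cancel x hx y hy ih =>
    obtain ⟨s, hs, a, hsp, hs1, rfl⟩ := hx
    rw [S.x_inv hs, mul_assoc, step s hs hsp hs1 a _ (Subgroup.mul_mem _ hy hq'), ih,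
      step s hs hsp hs1 a y hy, add_assoc]

theorem phi_inv (D : S.Dom T γ) {r : Vec l} (hr : r ∈ S.Lq T γ) {q : G} (hq : q ∈ S.QT T γ) :
    S.phi T γ r q⁻¹ = S.phi T γ r q := by
  have := S.phi_mul D hr hq (Subgroup.inv_mem _ hq)
  rw [mul_inv_cancel, S.phi_one D hr] at this
  have h4 : S.phi T γ r q⁻¹ = S.phi T γ r q⁻¹ + (S.phi T γ r q + S.phi T γ r q) := by rw [S.add_self, add_zero]
  rw [h4, add_comm (S.phi T γ r q⁻¹), add_assoc, ← this, add_zero]

/-- the coordinates of a product of root elements -/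
theorem phi_pr (D : S.Dom T γ) {r : Vec l} (hr : r ∈ S.Lq T γ) : ∀ (L : List (Vec l)),
    (∀ v ∈ L, v ∈ S.Lq T γ) → L.Nodup → ∀ t : Vec l → F,
    S.phi T γ r (S.pr L t) = if r ∈ L then t r else 0 := by
  intro L
  induction L with
  | nil => intro _ _ t; rw [S.pr_nil, S.phi_one D hr]; simp
  | cons v L ih =>
    intro hL hnd t
    have hL' : ∀ w ∈ L, w ∈ S.Lq T γ := fun w hw => hL w (List.mem_cons_of_mem _ hw)
    have hvL := hL v List.mem_cons_self
    obtain ⟨hv1, hv2, hv3⟩ := S.mem_Lq.mp hvL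
    rw [S.pr_cons, S.phi_mul D hr (S.x_mem_QT hv1 hv2 (by omega) _) (S.pr_mem_QT hL' t),
      ih hL' (List.nodup_cons.mp hnd).2 t]
    by_cases hvr : v = r
    · subst hvr
      rw [S.phi_gen_self D hr, if_neg (List.nodup_cons.mp hnd).1, add_zero,
        if_pos List.mem_cons_self]
    · rw [S.phi_gen_ne D hr hvL hvr, zero_add]
      by_cases hrL : r ∈ L
      · rw [if_pos hrL, if_pos (List.mem_cons_of_mem _ hrL)]
      · rw [if_neg hrL, if_neg]
        intro h
        rcases List.mem_cons.mp h with h | h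
        · exact hvr h.symm
        · exact hrL h

open Classical in
/-- the normal form of an element whose coordinates vanish outside `R` -/
theorem nf_support (D : S.Dom T γ) {q : G} (hq : q ∈ S.QT T γ) (R : Vec l → Prop)
    (h : ∀ r ∈ S.Lq T γ, ¬ R r → S.phi T γ r q = 0) :
    ∃ c : F, q = S.pr ((S.Lq T γ).filter fun r => decide (R r)) (fun r => S.phi T γ r q) * S.x γ c := by
  obtain ⟨c, e⟩ := S.nf D hq
  refine ⟨c, ?_⟩
  rw [← S.pr_filter R _ (fun r hr => (S.mem_Lq.mp hr).1) _ h]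
  exact e

/-- two additive functions on the radical agreeing on the generators agree -/
theorem add_ext {f g : G → F} (hf : ∀ q ∈ S.QT T γ, ∀ q' ∈ S.QT T γ, f (q * q') = f q + f q')
    (hg : ∀ q ∈ S.QT T γ, ∀ q' ∈ S.QT T γ, g (q * q') = g q + g q')
    (h : ∀ r ∈ S.roots, S.perp T r → 1 ≤ S.B r γ → ∀ a, f (S.x r a) = g (S.x r a)) :
    ∀ q ∈ S.QT T γ, f q = g q := by
  have f1 : f 1 = 0 := by
    have := hf 1 (Subgroup.one_mem _) 1 (Subgroup.one_mem _)
    rw [mul_one] at this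
    exact left_eq_add.mp this
  have g1 : g 1 = 0 := by
    have := hg 1 (Subgroup.one_mem _) 1 (Subgroup.one_mem _)
    rw [mul_one] at this
    exact left_eq_add.mp this
  intro q hq
  induction hq using Subgroup.closure_induction_left with
  | one => rw [f1, g1]
  | mul_left x hx y hy ih =>
    obtain ⟨r, hr, a, hp, h1, rfl⟩ := hx
    rw [hf _ (S.x_mem_QT hr hp h1 a) _ hy, hg _ (S.x_mem_QT hr hp h1 a) _ hy, ih, h r hr hp h1 a]
  | inv_mul_cancel x hx y hy ih =>
    obtain ⟨r, hr, a, hp, h1, rfl⟩ := hx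
    rw [S.x_inv hr, hf _ (S.x_mem_QT hr hp h1 a) _ hy, hg _ (S.x_mem_QT hr hp h1 a) _ hy, ih, h r hr hp h1 a]

end DLSys

end Cfsg.Agent.Lib.Helper3.DLInv
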