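import Cfsg.Agent.Lib.Helper3.DLInv6
set_option autoImplicit false
set_option linter.unusedSectionVars false
set_option linter.unusedVariables false
set_option linter.unusedSimpArgs false

/-!
How the coordinates of the radical change under conjugation by a root element orthogonal to the dominant root
and by an element permuting the root subgroups; elimination of the coordinates moved by such an involution.
-/

namespace Cfsg.Agent.Lib.Helper3.DLInv

open Cfsg.Agent.Lib.Helper3.SLInv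

namespace DLSys

variable {G : Type*} [Group G] {F : Type*} [Field F] {l : ℕ} (S : DLSys G F l)
variable {T : List (Vec l)} {γ : Vec l}

theorem phi_conj_add (D : S.Dom T γ) {r : Vec l} (hr : r ∈ S.Lq T γ) {g : G}
    (hg : ∀ q ∈ S.QT T γ, g * q * g⁻¹ ∈ S.QT T γ) :
    ∀ q ∈ S.QT T γ, ∀ q' ∈ S.QT T γ,
      S.phi T γ r (g * (q * q') * g⁻¹) = S.phi T γ r (g * q * g⁻¹) + S.phi T γ r (g * q' * g⁻¹) := by
  intro q hq q' hq'
  rw [conj_mul_conj, S.phi_mul D hr (hg q hq) (hg q' hq')]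

theorem sub_mem_Lq (D : S.Dom T γ) {r δ : Vec l} (hr : r ∈ S.Lq T γ) (hδp : S.perp (γ :: T) δ)
    (h : r - δ ∈ S.roots) : r - δ ∈ S.Lq T γ := by
  obtain ⟨h1, h2, h3⟩ := S.mem_Lq.mp hr
  refine S.mem_Lq.mpr ⟨h, S.perp_sub h2 (S.perp_cons.mp hδp).2, ?_⟩
  rw [S.B_sub_left, h3, (S.perp_cons.mp hδp).1, sub_zero]

theorem sub2_mem_Lq (D : S.Dom T γ) {r δ : Vec l} (hr : r ∈ S.Lq T γ) (hδp : S.perp (γ :: T) δ)
    (h : r - δ - δ ∈ S.roots) : r - δ - δ ∈ S.Lq T γ := by
  obtain ⟨h1, h2, h3⟩ := S.mem_Lq.mp hr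
  refine S.mem_Lq.mpr ⟨h, S.perp_sub (S.perp_sub h2 (S.perp_cons.mp hδp).2) (S.perp_cons.mp hδp).2, ?_⟩
  rw [S.B_sub_left, S.B_sub_left, h3, (S.perp_cons.mp hδp).1]; rfl

open Classical in
/-- the coordinates after conjugation by a root element orthogonal to `γ` -/
theorem phi_conj_x (D : S.Dom T γ) {δ : Vec l} (hδ : δ ∈ S.roots) (hδp : S.perp (γ :: T) δ) (s : F)
    {r : Vec l} (hr : r ∈ S.Lq T γ) {q : G} (hq : q ∈ S.QT T γ) :
    S.phi T γ r (S.x δ s * q * (S.x δ s)⁻¹) =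
      S.phi T γ r q + (if r - δ ∈ S.roots ∧ S.B (r - δ) δ < 0 then s * S.phi T γ (r - δ) q else 0) +
        (if r - δ - δ ∈ S.roots ∧ S.B (r - δ - δ) (r - δ - δ) = 4 ∧ S.B δ δ = 2 ∧ S.B (r - δ - δ) δ = -2
          then s * s * S.phi T γ (r - δ - δ) q else 0) := by
  obtain ⟨h1, h2, h3⟩ := S.mem_Lq.mp hr
  have hδγ : S.B δ γ = 0 := (S.perp_cons.mp hδp).1
  have hδT : S.perp T δ := (S.perp_cons.mp hδp).2
  have hnorm : ∀ q ∈ S.QT T γ, S.x δ s * q * (S.x δ s)⁻¹ ∈ S.QT T γ :=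
    fun q hq => S.conj_QT_mem (S.x_mem_GT hδ hδp s) hq
  refine S.add_ext (f := fun q => S.phi T γ r (S.x δ s * q * (S.x δ s)⁻¹))
    (g := fun q => S.phi T γ r q +
      (if r - δ ∈ S.roots ∧ S.B (r - δ) δ < 0 then s * S.phi T γ (r - δ) q else 0) +
        (if r - δ - δ ∈ S.roots ∧ S.B (r - δ - δ) (r - δ - δ) = 4 ∧ S.B δ δ = 2 ∧ S.B (r - δ - δ) δ = -2
          then s * s * S.phi T γ (r - δ - δ) q else 0))
    (S.phi_conj_add D hr hnorm) ?_ ?_ q hq
  · intro q hq q' hq'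
    rw [S.phi_mul D hr hq hq']
    by_cases c1 : r - δ ∈ S.roots ∧ S.B (r - δ) δ < 0
    · have m1 := S.sub_mem_Lq D hr hδp c1.1
      by_cases c2 : r - δ - δ ∈ S.roots ∧ S.B (r - δ - δ) (r - δ - δ) = 4 ∧ S.B δ δ = 2 ∧ S.B (r - δ - δ) δ = -2
      · have m2 := S.sub2_mem_Lq D hr hδp c2.1
        simp only [if_pos c1, if_pos c2, S.phi_mul D m1 hq hq', S.phi_mul D m2 hq hq']
        ring
      · simp only [if_pos c1, if_neg c2, S.phi_mul D m1 hq hq']
        ring
    · by_cases c2 : r - δ - δ ∈ S.roots ∧ S.B (r - δ - δ) (r - δ - δ) = 4 ∧ S.B δ δ = 2 ∧ S.B (r - δ - δ) δ = -2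
      · have m2 := S.sub2_mem_Lq D hr hδp c2.1
        simp only [if_neg c1, if_pos c2, S.phi_mul D m2 hq hq']
        ring
      · simp only [if_neg c1, if_neg c2]
        ring
  · intro v hv hvp hv1 a
    have hne : δ ≠ -v := by
      intro e
      rw [e, S.B_neg_left] at hδγ
      omega
    have P : ∀ w ∈ S.Lq T γ, S.phi T γ w (S.x v a) = if v = w then a else 0 :=
      fun w hw => S.phi_gen D hw hv hvp hv1 a
    -- the two correction terms on the generator
    have T1 : (if r - δ ∈ S.roots ∧ S.B (r - δ) δ < 0 then s * S.phi T γ (r - δ) (S.x v a) else 0) =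
        if v + δ = r ∧ S.B v δ < 0 then a * s else 0 := by
      by_cases c1 : r - δ ∈ S.roots ∧ S.B (r - δ) δ < 0
      · rw [if_pos c1, P _ (S.sub_mem_Lq D hr hδp c1.1)]
        by_cases e : v = r - δ
        · have e' : v + δ = r := by rw [e, sub_add_cancel]
          rw [if_pos e, if_pos ⟨e', by rw [e]; exact c1.2⟩, mul_comm]
        · have e' : ¬ (v + δ = r ∧ S.B v δ < 0) := by
            rintro ⟨e2, -⟩
            exact e (by rw [← e2, add_sub_cancel_right])
          rw [if_neg e, if_neg e', mul_zero]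
      · rw [if_neg c1, if_neg]
        rintro ⟨e2, e3⟩
        apply c1
        have : r - δ = v := by rw [← e2, add_sub_cancel_right]
        rw [this]
        exact ⟨hv, e3⟩
    have T2 : (if r - δ - δ ∈ S.roots ∧ S.B (r - δ - δ) (r - δ - δ) = 4 ∧ S.B δ δ = 2 ∧ S.B (r - δ - δ) δ = -2
          then s * s * S.phi T γ (r - δ - δ) (S.x v a) else 0) =
        if v + δ + δ = r ∧ S.B v v = 4 ∧ S.B δ δ = 2 ∧ S.B v δ = -2 then a * s * s else 0 := by
      by_cases c2 : r - δ - δ ∈ S.roots ∧ S.B (r - δ - δ) (r - δ - δ) = 4 ∧ S.B δ δ = 2 ∧ S.B (r - δ - δ) δ = -2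
      · rw [if_pos c2, P _ (S.sub2_mem_Lq D hr hδp c2.1)]
        by_cases e : v = r - δ - δ
        · have e' : v + δ + δ = r := by rw [e]; abel
          rw [if_pos e, if_pos ⟨e', by rw [e]; exact c2.2⟩]
          ring
        · have e' : ¬ (v + δ + δ = r ∧ S.B v v = 4 ∧ S.B δ δ = 2 ∧ S.B v δ = -2) := by
            rintro ⟨e2, -⟩
            exact e (by rw [← e2]; abel)
          rw [if_neg e, if_neg e', mul_zero]
      · rw [if_neg c2, if_neg]
        rintro ⟨e2, e3⟩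
        apply c2
        have : r - δ - δ = v := by rw [← e2]; abel
        rw [this]
        exact ⟨hv, e3⟩
    rw [T1, T2, P r hr]
    rcases S.conj_form hv hδ hne a s with ⟨k0, e⟩ | ⟨k0, hl, hvd, e⟩ | ⟨hl, hsh, hB, hvd, hvdd, e⟩ |
      ⟨hsh, hl, hB, hvd, hvvd, e⟩
    · have n1 : ¬ (v + δ = r ∧ S.B v δ < 0) := by rintro ⟨-, h⟩; omega
      have n2 : ¬ (v + δ + δ = r ∧ S.B v v = 4 ∧ S.B δ δ = 2 ∧ S.B v δ = -2) := by rintro ⟨-, -, -, h⟩; omega
      rw [e, P r hr, if_neg n1, if_neg n2, add_zero, add_zero]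
    · have m1 : S.x (v + δ) (a * s) ∈ S.QT T γ :=
        S.x_mem_QT hvd (S.perp_add hvp hδT) (by rw [S.B_add_left, hδγ]; omega) _
      rw [e, S.phi_mul D hr (S.x_mem_QT hv hvp hv1 a) m1, P r hr,
        S.phi_gen D hr hvd (S.perp_add hvp hδT) (by rw [S.B_add_left, hδγ]; omega)]
      have e2 : ¬ (v + δ + δ = r ∧ S.B v v = 4 ∧ S.B δ δ = 2 ∧ S.B v δ = -2) := by
        rintro ⟨-, h4, h5, -⟩
        omega
      rw [if_neg e2, add_zero]
      congr 1
      by_cases e3 : v + δ = r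
      · rw [if_pos e3, if_pos ⟨e3, k0⟩]
      · rw [if_neg e3, if_neg (fun h => e3 h.1)]
    · have m1 : S.x (v + δ) (a * s) ∈ S.QT T γ :=
        S.x_mem_QT hvd (S.perp_add hvp hδT) (by rw [S.B_add_left, hδγ]; omega) _
      have m2 : S.x (v + δ + δ) (a * s * s) ∈ S.QT T γ :=
        S.x_mem_QT hvdd (S.perp_add (S.perp_add hvp hδT) hδT) (by rw [S.B_add_left, S.B_add_left, hδγ]; omega) _
      have m0 := S.x_mem_QT hv hvp hv1 a
      rw [e, S.phi_mul D hr (Subgroup.mul_mem _ m0 m1) m2, S.phi_mul D hr m0 m1, P r hr,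
        S.phi_gen D hr hvd (S.perp_add hvp hδT) (by rw [S.B_add_left, hδγ]; omega),
        S.phi_gen D hr hvdd (S.perp_add (S.perp_add hvp hδT) hδT) (by rw [S.B_add_left, S.B_add_left, hδγ]; omega)]
      congr 1
      · congr 1
        by_cases e3 : v + δ = r
        · rw [if_pos e3, if_pos ⟨e3, by omega⟩]
        · rw [if_neg e3, if_neg (fun h => e3 h.1)]
      · by_cases e3 : v + δ + δ = r
        · rw [if_pos e3, if_pos ⟨e3, hl, hsh, hB⟩]
        · rw [if_neg e3, if_neg (fun h => e3 h.1)]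
    · have hvγ : S.B v γ = 2 := by
        rcases D.eq_or_two S hv hv1 with h | h
        · rw [h, D.long] at hsh; omega
        · exact h
      have hsum : v + v + δ = γ := by
        apply S.eq_of_B_four D.mem hvvd
        rw [S.B_add_left, S.B_add_left, hvγ, hδγ]; rfl
      have m1 : S.x (v + δ) (a * s) ∈ S.QT T γ :=
        S.x_mem_QT hvd (S.perp_add hvp hδT) (by rw [S.B_add_left, hδγ]; omega) _
      have m0 := S.x_mem_QT hv hvp hv1 a
      rw [e, hsum, S.phi_mul D hr (Subgroup.mul_mem _ m0 m1) (S.xγ_mem_QT D _), S.phi_mul D hr m0 m1, P r hr,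
        S.phi_gen D hr hvd (S.perp_add hvp hδT) (by rw [S.B_add_left, hδγ]; omega), S.phi_xγ D hr]
      have e2 : ¬ (v + δ + δ = r ∧ S.B v v = 4 ∧ S.B δ δ = 2 ∧ S.B v δ = -2) := by
        rintro ⟨-, h4, h5, -⟩
        omega
      rw [if_neg e2]
      congr 1
      congr 1
      by_cases e3 : v + δ = r
      · rw [if_pos e3, if_pos ⟨e3, by omega⟩]
      · rw [if_neg e3, if_neg (fun h => e3 h.1)]

/-- an element permuting the root subgroups of the radical by an involution of the roots -/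
structure PermQ (T : List (Vec l)) (γ : Vec l) (w : G) (σ : Vec l → Vec l) : Prop where
  sq : w * w = 1
  conj : ∀ v ∈ S.roots, S.perp T v → 1 ≤ S.B v γ → ∀ a, w * S.x v a * w⁻¹ = S.x (σ v) a
  mem : ∀ v ∈ S.roots, S.perp T v → 1 ≤ S.B v γ → σ v ∈ S.roots ∧ S.perp T (σ v) ∧ S.B (σ v) γ = S.B v γ
  invol : ∀ v ∈ S.roots, S.perp T v → 1 ≤ S.B v γ → σ (σ v) = v
  fix : σ γ = γ

variable {w : G} {σ : Vec l → Vec l}

theorem PermQ.inv_eq (P : S.PermQ T γ w σ) : w⁻¹ = w := inv_eq_of_mul_eq_one_right P.sq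

theorem PermQ.norm (P : S.PermQ T γ w σ) : ∀ q ∈ S.QT T γ, w * q * w⁻¹ ∈ S.QT T γ := by
  refine conj_mem_of_gens ?_
  rintro _ ⟨v, hv, a, hvp, hv1, rfl⟩
  rw [P.conj v hv hvp hv1 a]
  obtain ⟨k1, k2, k3⟩ := P.mem v hv hvp hv1
  exact S.x_mem_QT k1 k2 (by omega) a

theorem PermQ.mem_Lq (P : S.PermQ T γ w σ) {r : Vec l} (hr : r ∈ S.Lq T γ) : σ r ∈ S.Lq T γ := by
  obtain ⟨h1, h2, h3⟩ := S.mem_Lq.mp hr
  obtain ⟨k1, k2, k3⟩ := P.mem r h1 h2 (by omega)
  exact S.mem_Lq.mpr ⟨k1, k2, by omega⟩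

/-- the coordinates after conjugation by `w` -/
theorem PermQ.phi_conj (D : S.Dom T γ) (P : S.PermQ T γ w σ) {r : Vec l} (hr : r ∈ S.Lq T γ) {q : G}
    (hq : q ∈ S.QT T γ) : S.phi T γ r (w * q * w⁻¹) = S.phi T γ (σ r) q := by
  obtain ⟨h1, h2, h3⟩ := S.mem_Lq.mp hr
  have hσr := P.mem_Lq S hr
  refine S.add_ext (f := fun q => S.phi T γ r (w * q * w⁻¹)) (g := fun q => S.phi T γ (σ r) q)
    (S.phi_conj_add D hr (P.norm S)) (fun q hq q' hq' => S.phi_mul D hσr hq hq') ?_ q hq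
  intro v hv hvp hv1 a
  show S.phi T γ r (w * S.x v a * w⁻¹) = S.phi T γ (σ r) (S.x v a)
  rw [P.conj v hv hvp hv1 a]
  obtain ⟨m1, m2, m3⟩ := P.mem v hv hvp hv1
  rw [S.phi_gen D hr m1 m2 (by omega), S.phi_gen D hσr hv hvp hv1]
  by_cases e : σ v = r
  · have e' : v = σ r := by rw [← e, P.invol v hv hvp hv1]
    rw [if_pos e, if_pos e']
  · have e' : v ≠ σ r := by
      intro e2
      apply e
      rw [e2, P.invol r h1 h2 (by omega)]
    rw [if_neg e, if_neg e']

/-- an involution `q * w` has coordinates invariant under `σ` -/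
theorem PermQ.phi_invariant (D : S.Dom T γ) (P : S.PermQ T γ w σ) {q : G} (hq : q ∈ S.QT T γ)
    (h : (q * w) * (q * w) = 1) {r : Vec l} (hr : r ∈ S.Lq T γ) : S.phi T γ (σ r) q = S.phi T γ r q := by
  have e : w * q * w⁻¹ = q⁻¹ := by
    rw [P.inv_eq S]
    apply eq_inv_of_mul_eq_one_right
    rw [← h]; group
  rw [← P.phi_conj S D hr hq, e, S.phi_inv D hr hq]

open Classical in
/-- the number of moved roots with non-zero coordinate -/
noncomputable def badCount (T : List (Vec l)) (γ : Vec l) (σ : Vec l → Vec l) (q : G) : ℕ :=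
  ((S.Lq T γ).filter fun r => decide (σ r ≠ r ∧ S.phi T γ r q ≠ 0)).length

open Classical in
/-- elimination of the coordinates at the moved roots -/
theorem PermQ.eliminate (D : S.Dom T γ) (P : S.PermQ T γ w σ) : ∀ (n : ℕ) (q : G), q ∈ S.QT T γ →
    (q * w) * (q * w) = 1 → S.badCount T γ σ q = n →
    ∃ y ∈ S.QT T γ, ∃ q' ∈ S.QT T γ, y * (q * w) * y⁻¹ = q' * w ∧
      ∀ r ∈ S.Lq T γ, σ r ≠ r → S.phi T γ r q' = 0 := by
  intro n
  induction n using Nat.strong_induction_on with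
  | _ n ih =>
    intro q hq hinv hn
    by_cases hbad : ∃ r ∈ S.Lq T γ, σ r ≠ r ∧ S.phi T γ r q ≠ 0
    · obtain ⟨r, hr, hσr, hφ⟩ := hbad
      obtain ⟨h1, h2, h3⟩ := S.mem_Lq.mp hr
      have hσL := P.mem_Lq S hr
      obtain ⟨k1, k2, k3⟩ := S.mem_Lq.mp hσL
      set t := S.phi T γ r q with ht
      have hxr : S.x r t ∈ S.QT T γ := S.x_mem_QT h1 h2 (by omega) t
      have hxσ : S.x (σ r) t ∈ S.QT T γ := S.x_mem_QT k1 k2 (by omega) t
      set q1 := S.x r t * q * S.x (σ r) t with hq1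
      have hq1m : q1 ∈ S.QT T γ := Subgroup.mul_mem _ (Subgroup.mul_mem _ hxr hq) hxσ
      have hconj : S.x r t * (q * w) * (S.x r t)⁻¹ = q1 * w := by
        have e := P.conj r h1 h2 (by omega) t
        rw [hq1, ← e, P.inv_eq S, S.x_inv h1]
        have := P.sq
        calc S.x r t * (q * w) * S.x r t = S.x r t * q * (w * S.x r t * (w * w)) := by rw [P.sq]; group
          _ = S.x r t * q * (w * S.x r t * w) * w := by group
      have hinv1 : (q1 * w) * (q1 * w) = 1 := by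
        rw [← hconj]
        calc S.x r t * (q * w) * (S.x r t)⁻¹ * (S.x r t * (q * w) * (S.x r t)⁻¹)
            = S.x r t * ((q * w) * (q * w)) * (S.x r t)⁻¹ := by group
          _ = 1 := by rw [hinv]; group
      -- coordinates of `q1`
      have hcoord : ∀ s ∈ S.Lq T γ, S.phi T γ s q1 =
          S.phi T γ s (S.x r t) + S.phi T γ s q + S.phi T γ s (S.x (σ r) t) := by
        intro s hs
        rw [hq1, S.phi_mul D hs (Subgroup.mul_mem _ hxr hq) hxσ, S.phi_mul D hs hxr hq]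
      have hlt : S.badCount T γ σ q1 < n := by
        rw [← hn]
        unfold badCount
        have hsub : ((S.Lq T γ).filter fun s => decide (σ s ≠ s ∧ S.phi T γ s q1 ≠ 0)) =
            (((S.Lq T γ).filter fun s => decide (σ s ≠ s ∧ S.phi T γ s q ≠ 0)).filter
              fun s => decide (σ s ≠ s ∧ S.phi T γ s q1 ≠ 0)) := by
          rw [List.filter_filter]
          apply List.filter_congr
          intro s hs
          have : (σ s ≠ s ∧ S.phi T γ s q1 ≠ 0) → (σ s ≠ s ∧ S.phi T γ s q ≠ 0) := by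
            rintro ⟨a1, a2⟩
            refine ⟨a1, fun a3 => a2 ?_⟩
            rw [hcoord s hs, a3, add_zero]
            by_cases e1 : r = s
            · subst e1
              rw [← ht] at a3
              rw [a3, S.x_zero h1, S.x_zero k1, S.phi_one D hs, add_zero]
            · rw [S.phi_gen_ne D hs hr e1, zero_add]
              by_cases e2 : σ r = s
              · subst e2
                have := P.phi_invariant S D hq hinv hr
                rw [a3, ← ht] at this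
                rw [← this, S.x_zero k1, S.phi_one D hs]
              · rw [S.phi_gen_ne D hs hσL e2]
          by_cases hc : σ s ≠ s ∧ S.phi T γ s q1 ≠ 0
          · simp [hc, this hc]
          · simp [hc]
        rw [hsub]
        apply List.length_filter_lt_length_iff_exists.mpr
        refine ⟨r, List.mem_filter.mpr ⟨hr, by simpa using ⟨hσr, hφ⟩⟩, ?_⟩
        have : S.phi T γ r q1 = 0 := by
          rw [hcoord r hr, S.phi_gen_self D hr, S.phi_gen_ne D hr hσL hσr, add_zero,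
            ← ht, S.add_self]
        simp [this]
      obtain ⟨y, hy, q', hq', e, hz⟩ := ih _ hlt q1 hq1m hinv1 rfl
      refine ⟨y * S.x r t, Subgroup.mul_mem _ hy hxr, q', hq', ?_, hz⟩
      rw [← e, ← hconj]; group
    · refine ⟨1, Subgroup.one_mem _, q, hq, by group, ?_⟩
      intro r hr hσr
      by_contra hne
      exact hbad ⟨r, hr, hσr, hne⟩

end DLSys

end Cfsg.Agent.Lib.Helper3.DLInv
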