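import Cfsg.Agent.Lib.Helper3.DLInv8
set_option autoImplicit false
set_option linter.unusedSectionVars false
set_option linter.unusedVariables false
set_option linter.unusedSimpArgs false

/-!
Involutions of the radical of a dominant long root: clearing the coordinates linked to a pivot root in the support.
-/

namespace Cfsg.Agent.Lib.Helper3.DLInv

open Cfsg.Agent.Lib.Helper3.SLInv

namespace DLSys

variable {G : Type*} [Group G] {F : Type*} [Field F] {l : ℕ} (S : DLSys G F l)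
variable {T : List (Vec l)} {γ : Vec l}

/-- the state of the clearing procedure -/
structure QSt (T : List (Vec l)) (γ : Vec l) (Of : List (Vec l)) (q : G) : Prop where
  mem : q ∈ S.QT T γ
  inv : ∀ r ∈ S.Lq T γ, S.phi T γ r q ≠ 0 → r ∈ Of ∨ S.perp Of r

/-- the roots whose coordinates are cleared with the pivot `r0` -/
def Tg (r0 r : Vec l) : Prop := r ≠ r0 ∧ 0 < S.B r r0 ∧ (S.B r0 r0 = 4 ∨ S.B r r = 2)

/-- the long roots with non-zero coordinate belong to `Of` -/
def HL (T : List (Vec l)) (γ : Vec l) (Of : List (Vec l)) (q : G) : Prop :=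
  ∀ r ∈ S.Lq T γ, S.B r r = 4 → S.phi T γ r q ≠ 0 → r ∈ Of

theorem Tg_val {r0 r : Vec l} (hr0 : r0 ∈ S.roots) (hr : r ∈ S.roots) (h : S.Tg r0 r) :
    (S.B r0 r0 = 4 ∧ S.B r r0 = 2) ∨ (S.B r0 r0 = 2 ∧ S.B r r = 2 ∧ S.B r r0 = 1) := by
  obtain ⟨h1, h2, h3⟩ := h
  have e := S.B_symm r r0
  rcases S.B_num hr0 hr with ⟨k1, -⟩ | ⟨-, k1, -⟩ | ⟨-, -, k1, k2, k3⟩ | ⟨-, -, k1, k3⟩
  · exact absurd k1 h1
  · have := S.norm_pos hr0; omega
  · right; exact ⟨k1, k2, by omega⟩
  · rcases S.B_self r0 hr0 with h4 | h4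
    · exfalso; omega
    · left; exact ⟨h4, by omega⟩

set_option maxHeartbeats 1000000 in
/-- clearing one coordinate -/
theorem clean_one (D : S.Dom T γ) {Of : List (Vec l)} (hOfL : ∀ o ∈ Of, o ∈ S.Lq T γ)
    {r0 : Vec l} (hr0 : r0 ∈ S.Lq T γ) (hr0p : S.perp Of r0)
    {q : G} (hq : S.QSt T γ Of q) (h0 : S.phi T γ r0 q ≠ 0) (hL : S.B r0 r0 = 2 → S.HL T γ Of q)
    {r1 : Vec l} (hr1 : r1 ∈ S.Lq T γ) (ht : S.Tg r0 r1) (h1 : S.phi T γ r1 q ≠ 0) :
    ∃ g ∈ S.GT (γ :: T), S.QSt T γ Of (g * q * g⁻¹) ∧ S.phi T γ r0 (g * q * g⁻¹) = S.phi T γ r0 q ∧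
      (∀ o ∈ Of, S.phi T γ o (g * q * g⁻¹) = S.phi T γ o q) ∧
      (S.B r0 r0 = 2 → S.HL T γ Of (g * q * g⁻¹)) ∧
      S.phi T γ r1 (g * q * g⁻¹) = 0 ∧
      ∀ r ∈ S.Lq T γ, S.Tg r0 r → r ≠ r1 → S.phi T γ r (g * q * g⁻¹) = S.phi T γ r q := by
  classical
  obtain ⟨a1, a2, a3⟩ := S.mem_Lq.mp hr0
  obtain ⟨b1, b2, b3⟩ := S.mem_Lq.mp hr1
  have hr1Of : S.perp Of r1 := by
    rcases hq.inv r1 hr1 h1 with h | h
    · have := hr0p r1 h
      have h2 := ht.2.1
      rw [S.B_symm] at this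
      omega
    · exact h
  obtain ⟨δ, hδdef⟩ : ∃ δ, δ = r1 - r0 := ⟨_, rfl⟩
  have hval := S.Tg_val a1 b1 ht
  have hδ : δ ∈ S.roots := by
    rw [hδdef]
    rcases hval with ⟨k1, k2⟩ | ⟨k1, k2, k3⟩
    · rcases S.B_self r1 b1 with k3 | k3
      · exact S.sub_sl b1 a1 k3 k1 k2
      · exact S.sub_same b1 a1 (by rw [k1, k3]) (by omega) (Ne.symm ht.1)
    · exact S.sub_same b1 a1 (by rw [k1, k2]) (by omega) (Ne.symm ht.1)
  have hδγ : S.B δ γ = 0 := by rw [hδdef, S.B_sub_left, a3, b3]; rfl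
  have hδp : S.perp (γ :: T) δ := S.perp_cons.mpr ⟨hδγ, by rw [hδdef]; exact S.perp_sub b2 a2⟩
  have hδOf : S.perp Of δ := by rw [hδdef]; exact S.perp_sub hr1Of hr0p
  have hNδ : S.B δ δ = S.B r1 r1 - 2 * S.B r1 r0 + S.B r0 r0 := by
    rw [hδdef, S.B_sub_left, S.B_sub_right, S.B_sub_right, S.B_symm r0 r1]; ring
  have hr0δ : S.B r0 δ = S.B r1 r0 - S.B r0 r0 := by
    rw [hδdef, S.B_sub_right, S.B_symm r0 r1]
  have hr0δneg : S.B r0 δ < 0 := by
    rcases hval with ⟨k1, k2⟩ | ⟨k1, k2, k3⟩ <;> omega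
  have hNδpos := S.norm_pos hδ
  set t0 := S.phi T γ r0 q with ht0
  set s := S.phi T γ r1 q * t0⁻¹ with hs
  have hst : s * t0 = S.phi T γ r1 q := by rw [hs, mul_assoc, inv_mul_cancel₀ h0, mul_one]
  have hform : ∀ r ∈ S.Lq T γ, S.phi T γ r (S.x δ s * q * (S.x δ s)⁻¹) =
      S.phi T γ r q + (if r - δ ∈ S.roots ∧ S.B (r - δ) δ < 0 then s * S.phi T γ (r - δ) q else 0) +
        (if r - δ - δ ∈ S.roots ∧ S.B (r - δ - δ) (r - δ - δ) = 4 ∧ S.B δ δ = 2 ∧ S.B (r - δ - δ) δ = -2
          then s * s * S.phi T γ (r - δ - δ) q else 0) :=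
    fun r hr => S.phi_conj_x D hδ hδp s hr hq.mem
  -- a contributing root with non-zero coordinate is orthogonal to `Of`
  have hK1 : ∀ r ∈ S.Lq T γ, r - δ ∈ S.roots → S.B (r - δ) δ < 0 → S.phi T γ (r - δ) q ≠ 0 →
      S.perp Of (r - δ) := by
    intro r hr hm hB hne
    rcases hq.inv (r - δ) (S.sub_mem_Lq D hr hδp hm) hne with h | h
    · exfalso
      have h2 := hδOf (r - δ) h
      rw [S.B_symm] at h2
      omega
    · exact h
  have hK2 : ∀ r ∈ S.Lq T γ, r - δ - δ ∈ S.roots → S.B (r - δ - δ) δ = -2 → S.phi T γ (r - δ - δ) q ≠ 0 →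
      S.perp Of (r - δ - δ) := by
    intro r hr hm hB hne
    rcases hq.inv (r - δ - δ) (S.sub2_mem_Lq D hr hδp hm) hne with h | h
    · exfalso
      have h2 := hδOf (r - δ - δ) h
      rw [S.B_symm] at h2
      omega
    · exact h
  -- no contributions below the string through `r0`
  have hlow : ∀ v : Vec l, v ∈ S.roots → S.B v δ < - S.B δ δ → False := by
    intro v hv hB
    have := (S.B_le hv hδ).2.2.2
    omega
  refine ⟨S.x δ s, S.x_mem_GT hδ hδp s, ⟨S.conj_QT_mem (S.x_mem_GT hδ hδp s) hq.mem, ?_⟩, ?_, ?_, ?_, ?_, ?_⟩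
  · -- the invariant
    intro r hr hne
    rw [hform r hr] at hne
    by_cases h : S.phi T γ r q = 0
    · rw [h, zero_add] at hne
      by_cases c1 : r - δ ∈ S.roots ∧ S.B (r - δ) δ < 0
      · by_cases hz : S.phi T γ (r - δ) q = 0
        · rw [if_pos c1, hz, mul_zero, zero_add] at hne
          by_cases c2 : r - δ - δ ∈ S.roots ∧ S.B (r - δ - δ) (r - δ - δ) = 4 ∧ S.B δ δ = 2 ∧
              S.B (r - δ - δ) δ = -2
          · rw [if_pos c2] at hne
            have hne' : S.phi T γ (r - δ - δ) q ≠ 0 := fun e => hne (by rw [e, mul_zero])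
            right
            have := S.perp_add (S.perp_add (hK2 r hr c2.1 c2.2.2.2 hne') hδOf) hδOf
            rwa [sub_add_cancel, sub_add_cancel] at this
          · rw [if_neg c2] at hne; exact absurd rfl hne
        · right
          have := S.perp_add (hK1 r hr c1.1 c1.2 hz) hδOf
          rwa [sub_add_cancel] at this
      · rw [if_neg c1, zero_add] at hne
        by_cases c2 : r - δ - δ ∈ S.roots ∧ S.B (r - δ - δ) (r - δ - δ) = 4 ∧ S.B δ δ = 2 ∧
            S.B (r - δ - δ) δ = -2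
        · rw [if_pos c2] at hne
          have hne' : S.phi T γ (r - δ - δ) q ≠ 0 := fun e => hne (by rw [e, mul_zero])
          right
          have := S.perp_add (S.perp_add (hK2 r hr c2.1 c2.2.2.2 hne') hδOf) hδOf
          rwa [sub_add_cancel, sub_add_cancel] at this
        · rw [if_neg c2] at hne; exact absurd rfl hne
    · exact hq.inv r hr h
  · -- the coordinate at `r0`
    rw [hform r0 hr0, if_neg, if_neg, add_zero, add_zero]
    · rintro ⟨hm, -, -, -⟩
      apply hlow _ hm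
      rw [S.B_sub_left, S.B_sub_left]
      omega
    · rintro ⟨hm, -⟩
      apply hlow _ hm
      rw [S.B_sub_left]
      omega
  · -- the coordinates at `Of`
    intro o ho
    have hoL := hOfL o ho
    obtain ⟨o1, o2, o3⟩ := S.mem_Lq.mp hoL
    have hoδ : S.B o δ = 0 := by rw [S.B_symm]; exact hδOf o ho
    have z1 : (if o - δ ∈ S.roots ∧ S.B (o - δ) δ < 0 then s * S.phi T γ (o - δ) q else 0) = 0 := by
      by_cases c1 : o - δ ∈ S.roots ∧ S.B (o - δ) δ < 0
      · have hz : S.phi T γ (o - δ) q = 0 := by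
          by_contra hne
          rcases hq.inv (o - δ) (S.sub_mem_Lq D hoL hδp c1.1) hne with h | h
          · have h2 := hδOf (o - δ) h
            rw [S.B_symm] at h2
            omega
          · have h2 := h o ho
            rw [S.B_sub_left, hδOf o ho] at h2
            have := S.norm_pos o1
            omega
        rw [if_pos c1, hz, mul_zero]
      · rw [if_neg c1]
    have z2 : (if o - δ - δ ∈ S.roots ∧ S.B (o - δ - δ) (o - δ - δ) = 4 ∧ S.B δ δ = 2 ∧ S.B (o - δ - δ) δ = -2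
        then s * s * S.phi T γ (o - δ - δ) q else 0) = 0 := by
      rw [if_neg]
      rintro ⟨hm, -, -, -⟩
      apply hlow _ hm
      rw [S.B_sub_left, S.B_sub_left, hoδ]
      omega
    rw [hform o hoL, z1, z2, add_zero, add_zero]
  · -- the long roots with non-zero coordinate
    intro hsh r hr hlong hne
    obtain ⟨m1, m2, m3⟩ := S.mem_Lq.mp hr
    have hNδ2 : S.B δ δ = 2 := by
      rcases hval with ⟨k1, k2⟩ | ⟨k1, k2, k3⟩ <;> omega
    rw [hform r hr] at hne
    by_cases h : S.phi T γ r q = 0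
    · exfalso
      rw [h, zero_add] at hne
      have z1 : (if r - δ ∈ S.roots ∧ S.B (r - δ) δ < 0 then s * S.phi T γ (r - δ) q else 0) = 0 := by
        rw [if_neg]
        rintro ⟨hm, hB⟩
        have hN : S.B (r - δ) (r - δ) = S.B r r - 2 * S.B r δ + S.B δ δ := by
          rw [S.B_sub_left, S.B_sub_right, S.B_sub_right, S.B_symm δ r]; ring
        rw [S.B_sub_left] at hB
        have hev := S.B_even_of_long m1 hδ hlong
        rcases S.B_self _ hm with k | k <;> rcases hev with k' | k' | k' | k' | k' <;> omega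
      have z2 : (if r - δ - δ ∈ S.roots ∧ S.B (r - δ - δ) (r - δ - δ) = 4 ∧ S.B δ δ = 2 ∧ S.B (r - δ - δ) δ = -2
          then s * s * S.phi T γ (r - δ - δ) q else 0) = 0 := by
        by_cases c2 : r - δ - δ ∈ S.roots ∧ S.B (r - δ - δ) (r - δ - δ) = 4 ∧ S.B δ δ = 2 ∧
            S.B (r - δ - δ) δ = -2
        · have hz : S.phi T γ (r - δ - δ) q = 0 := by
            by_contra hne2
            have hmem := hL hsh (r - δ - δ) (S.sub2_mem_Lq D hr hδp c2.1) c2.2.1 hne2
            have h2 := hδOf _ hmem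
            rw [S.B_symm] at h2
            omega
          rw [if_pos c2, hz, mul_zero]
        · rw [if_neg c2]
      rw [z1, z2, add_zero] at hne
      exact hne rfl
    · exact hL hsh r hr hlong h
  · -- the cleared coordinate
    have e0 : r1 - δ = r0 := by rw [hδdef]; abel
    have z2 : (if r1 - δ - δ ∈ S.roots ∧ S.B (r1 - δ - δ) (r1 - δ - δ) = 4 ∧ S.B δ δ = 2 ∧
        S.B (r1 - δ - δ) δ = -2 then s * s * S.phi T γ (r1 - δ - δ) q else 0) = 0 := by
      rw [if_neg]
      rintro ⟨hm, -, -, -⟩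
      apply hlow _ hm
      rw [e0, S.B_sub_left]
      omega
    rw [hform r1 hr1, z2, add_zero, if_pos ⟨by rw [e0]; exact a1, by rw [e0]; exact hr0δneg⟩, e0, hst, S.add_self]
  · -- the other targets
    intro r hr htr hne
    obtain ⟨m1, m2, m3⟩ := S.mem_Lq.mp hr
    have hvalr := S.Tg_val a1 m1 htr
    have hδr0 : S.B δ r0 = S.B r1 r0 - S.B r0 r0 := by rw [S.B_symm]; exact hr0δ
    have z1 : (if r - δ ∈ S.roots ∧ S.B (r - δ) δ < 0 then s * S.phi T γ (r - δ) q else 0) = 0 := by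
      by_cases c1 : r - δ ∈ S.roots ∧ S.B (r - δ) δ < 0
      · have hz : S.phi T γ (r - δ) q = 0 := by
          have hBv : S.B (r - δ) r0 = S.B r r0 - S.B r1 r0 + S.B r0 r0 := by
            rw [S.B_sub_left, hδr0]; ring
          have hne0 : r - δ ≠ r0 := by
            intro e
            apply hne
            have : r = r0 + δ := by rw [← e, sub_add_cancel]
            rw [this, hδdef]; abel
          rcases hval with ⟨k1, k2⟩ | ⟨k1, k2, k3⟩
          · exfalso
            rcases hvalr with ⟨k4, k5⟩ | ⟨k4, -, -⟩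
            · exact hne0 (S.eq_of_B_four a1 c1.1 (by rw [hBv, k1, k2, k5]; rfl))
            · omega
          · rcases hvalr with ⟨k4, -⟩ | ⟨k4, k5, k6⟩
            · omega
            · rcases S.B_self _ c1.1 with k7 | k7
              · exfalso
                apply hne0
                apply S.eq_of_B_eq_norm a1 c1.1 _ (by rw [k7, k1])
                rw [S.B_symm, hBv, k1, k3, k6]; rfl
              · by_contra hne2
                have hmem := hL k1 (r - δ) (S.sub_mem_Lq D hr hδp c1.1) k7 hne2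
                have h2 := hδOf _ hmem
                rw [S.B_symm] at h2
                omega
        rw [if_pos c1, hz, mul_zero]
      · rw [if_neg c1]
    have z2 : (if r - δ - δ ∈ S.roots ∧ S.B (r - δ - δ) (r - δ - δ) = 4 ∧ S.B δ δ = 2 ∧ S.B (r - δ - δ) δ = -2
        then s * s * S.phi T γ (r - δ - δ) q else 0) = 0 := by
      rw [if_neg]
      rintro ⟨hm, -, -, -⟩
      have hBv : S.B (r - δ - δ) r0 = S.B r r0 - 2 * S.B r1 r0 + 2 * S.B r0 r0 := by
        rw [S.B_sub_left, S.B_sub_left, hδr0]; ring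
      have := (S.B_le hm a1).2.2.1
      rcases hval with ⟨k1, k2⟩ | ⟨k1, k2, k3⟩ <;> rcases hvalr with ⟨k4, k5⟩ | ⟨k4, k5, k6⟩ <;> omega
    rw [hform r hr, z1, z2, add_zero, add_zero]

end DLSys

end Cfsg.Agent.Lib.Helper3.DLInv
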