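import Cfsg.Agent.Lib.Helper3.DN15

/-!
# The Steinberg group of type `D`: the group presented by the relations of `DData`
-/

set_option linter.unusedSectionVars false
set_option linter.unusedVariables false
set_option linter.unusedSimpArgs false

namespace Cfsg.Agent.Lib.Helper3.DS

open Cfsg.Agent.Lib.Helper3.DN

section pres
variable (J K : Type*) [Field K] (ν : J → J)

/-- the relators of the Steinberg group of type `D` -/
def relsD : Set (FreeGroup (J × J × K)) :=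
  {g | ∃ k t, g = FreeGroup.of (k, k, t)} ∪
  {g | ∃ k t, g = FreeGroup.of (k, ν k, t)} ∪
  {g | ∃ k l t, g = FreeGroup.of (k, l, t) * (FreeGroup.of (ν l, ν k, -t))⁻¹} ∪
  {g | ∃ k l t u, g = FreeGroup.of (k, l, t) * FreeGroup.of (k, l, u) *
      (FreeGroup.of (k, l, t + u))⁻¹} ∪
  {g | ∃ k l p m t u, l ≠ p ∧ k ≠ m ∧ k ≠ ν p ∧ l ≠ ν m ∧
      g = FreeGroup.of (k, l, t) * FreeGroup.of (p, m, u) * (FreeGroup.of (k, l, t))⁻¹ *
        (FreeGroup.of (p, m, u))⁻¹} ∪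
  {g | ∃ k l t u, g = FreeGroup.of (k, l, t) * FreeGroup.of (k, ν l, u) *
      (FreeGroup.of (k, l, t))⁻¹ * (FreeGroup.of (k, ν l, u))⁻¹} ∪
  {g | ∃ k l m t u, k ≠ l ∧ l ≠ m ∧ k ≠ m ∧ k ≠ ν l ∧ l ≠ ν m ∧ k ≠ ν m ∧
      g = FreeGroup.of (k, l, t) * FreeGroup.of (l, m, u) * (FreeGroup.of (k, l, t))⁻¹ *
        (FreeGroup.of (l, m, u))⁻¹ * (FreeGroup.of (k, m, t * u))⁻¹}

/-- the Steinberg group of type `D` -/
abbrev StD := PresentedGroup (relsD J K ν)

variable {J K ν}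

/-- the generators -/
def sy (k l : J) (t : K) : StD J K ν := PresentedGroup.of (k, l, t)

theorem sy_self (k : J) (t : K) : (sy k k t : StD J K ν) = 1 := by
  have h : FreeGroup.of (k, k, t) ∈ relsD J K ν :=
    Or.inl (Or.inl (Or.inl (Or.inl (Or.inl (Or.inl ⟨k, t, rfl⟩)))))
  exact PresentedGroup.one_of_mem h

theorem sy_opp (k : J) (t : K) : (sy k (ν k) t : StD J K ν) = 1 := by
  have h : FreeGroup.of (k, ν k, t) ∈ relsD J K ν :=
    Or.inl (Or.inl (Or.inl (Or.inl (Or.inl (Or.inr ⟨k, t, rfl⟩)))))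
  exact PresentedGroup.one_of_mem h

theorem sy_flip (k l : J) (t : K) : (sy k l t : StD J K ν) = sy (ν l) (ν k) (-t) := by
  have h : FreeGroup.of (k, l, t) * (FreeGroup.of (ν l, ν k, -t))⁻¹ ∈ relsD J K ν :=
    Or.inl (Or.inl (Or.inl (Or.inl (Or.inr ⟨k, l, t, rfl⟩))))
  have h1 := PresentedGroup.one_of_mem h
  rw [map_mul, map_inv] at h1
  exact mul_inv_eq_one.mp h1

theorem sy_add (k l : J) (t u : K) :
    (sy k l (t + u) : StD J K ν) = sy k l t * sy k l u := by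
  have h : FreeGroup.of (k, l, t) * FreeGroup.of (k, l, u) *
      (FreeGroup.of (k, l, t + u))⁻¹ ∈ relsD J K ν :=
    Or.inl (Or.inl (Or.inl (Or.inr ⟨k, l, t, u, rfl⟩)))
  have h1 := PresentedGroup.one_of_mem h
  rw [map_mul, map_mul, map_inv] at h1
  exact (mul_inv_eq_one.mp h1).symm

theorem sy_comm (k l p m : J) (t u : K) (h1 : l ≠ p) (h2 : k ≠ m) (h3 : k ≠ ν p)
    (h4 : l ≠ ν m) : (sy k l t : StD J K ν) * sy p m u = sy p m u * sy k l t := by
  have h : FreeGroup.of (k, l, t) * FreeGroup.of (p, m, u) * (FreeGroup.of (k, l, t))⁻¹ *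
      (FreeGroup.of (p, m, u))⁻¹ ∈ relsD J K ν :=
    Or.inl (Or.inl (Or.inr ⟨k, l, p, m, t, u, h1, h2, h3, h4, rfl⟩))
  have h5 := PresentedGroup.one_of_mem h
  rw [map_mul, map_mul, map_mul, map_inv, map_inv] at h5
  have h6 := mul_inv_eq_one.mp h5
  exact mul_inv_eq_iff_eq_mul.mp h6

theorem sy_comm' (k l : J) (t u : K) :
    (sy k l t : StD J K ν) * sy k (ν l) u = sy k (ν l) u * sy k l t := by
  have h : FreeGroup.of (k, l, t) * FreeGroup.of (k, ν l, u) * (FreeGroup.of (k, l, t))⁻¹ *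
      (FreeGroup.of (k, ν l, u))⁻¹ ∈ relsD J K ν :=
    Or.inl (Or.inr ⟨k, l, t, u, rfl⟩)
  have h5 := PresentedGroup.one_of_mem h
  rw [map_mul, map_mul, map_mul, map_inv, map_inv] at h5
  have h6 := mul_inv_eq_one.mp h5
  exact mul_inv_eq_iff_eq_mul.mp h6

theorem sy_rel (k l m : J) (t u : K) (h1 : k ≠ l) (h2 : l ≠ m) (h3 : k ≠ m) (h4 : k ≠ ν l)
    (h5 : l ≠ ν m) (h6 : k ≠ ν m) :
    (sy k l t : StD J K ν) * sy l m u * (sy k l t)⁻¹ * (sy l m u)⁻¹ = sy k m (t * u) := by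
  have h : FreeGroup.of (k, l, t) * FreeGroup.of (l, m, u) * (FreeGroup.of (k, l, t))⁻¹ *
      (FreeGroup.of (l, m, u))⁻¹ * (FreeGroup.of (k, m, t * u))⁻¹ ∈ relsD J K ν :=
    Or.inr ⟨k, l, m, t, u, h1, h2, h3, h4, h5, h6, rfl⟩
  have h7 := PresentedGroup.one_of_mem h
  rw [map_mul, map_mul, map_mul, map_mul, map_inv, map_inv, map_inv] at h7
  exact mul_inv_eq_one.mp h7

/-- the tautological Steinberg data -/
def stdD (hν1 : ∀ k, ν (ν k) = k) (hν2 : ∀ k, ν k ≠ k) : DData J K (StD J K ν) ν where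
  nu_nu := hν1
  nu_ne := hν2
  y := sy
  y_self := sy_self
  y_opp := sy_opp
  y_flip := sy_flip
  y_add := sy_add
  y_comm := sy_comm
  y_comm' := sy_comm'
  y_rel := sy_rel

theorem stdD_gen (hν1 : ∀ k, ν (ν k) = k) (hν2 : ∀ k, ν k ≠ k) :
    (stdD (K := K) hν1 hν2).Gen := by
  unfold DData.Gen
  rw [eq_top_iff, ← PresentedGroup.closure_range_of (relsD J K ν)]
  apply Subgroup.closure_mono
  rintro _ ⟨⟨k, l, t⟩, rfl⟩
  exact ⟨k, l, t, rfl⟩

section lift
variable {G : Type*} [Group G] (D : DData J K G ν)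

theorem relsD_lift : ∀ r ∈ relsD J K ν,
    FreeGroup.lift (fun p : J × J × K => D.y p.1 p.2.1 p.2.2) r = 1 := by
  rintro r ((((((⟨k, t, rfl⟩ | ⟨k, t, rfl⟩) | ⟨k, l, t, rfl⟩) | ⟨k, l, t, u, rfl⟩) |
    ⟨k, l, p, m, t, u, h1, h2, h3, h4, rfl⟩) | ⟨k, l, t, u, rfl⟩) |
    ⟨k, l, m, t, u, h1, h2, h3, h4, h5, h6, rfl⟩)
  · simp only [FreeGroup.lift_apply_of]
    exact D.y_self k t
  · simp only [FreeGroup.lift_apply_of]
    exact D.y_opp k t
  · simp only [map_mul, map_inv, FreeGroup.lift_apply_of]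
    rw [← D.y_flip, mul_inv_cancel]
  · simp only [map_mul, map_inv, FreeGroup.lift_apply_of]
    rw [← D.y_add, mul_inv_cancel]
  · simp only [map_mul, map_inv, FreeGroup.lift_apply_of]
    rw [D.y_comm k l p m t u h1 h2 h3 h4]
    group
  · simp only [map_mul, map_inv, FreeGroup.lift_apply_of]
    rw [D.y_comm' k l t u]
    group
  · simp only [map_mul, map_inv, FreeGroup.lift_apply_of]
    rw [D.y_rel k l m t u h1 h2 h3 h4 h5 h6, mul_inv_cancel]

/-- the universal property of the Steinberg group -/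
def liftD : StD J K ν →* G := PresentedGroup.toGroup (relsD_lift D)

theorem liftD_sy (k l : J) (t : K) : liftD D (sy k l t) = D.y k l t :=
  PresentedGroup.toGroup.of (relsD_lift D)

theorem liftD_surjective (hgen : D.Gen) : Function.Surjective (liftD D) := by
  rw [← MonoidHom.range_eq_top, eq_top_iff, ← hgen, Subgroup.closure_le]
  rintro g ⟨k, l, t, rfl⟩
  exact ⟨sy k l t, liftD_sy D k l t⟩

theorem hom_ext_sy {f g : StD J K ν →* G} (h : ∀ k l t, f (sy k l t) = g (sy k l t)) : f = g := by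
  apply PresentedGroup.ext
  rintro ⟨k, l, t⟩
  exact h k l t

end lift

end pres

end Cfsg.Agent.Lib.Helper3.DS
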