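import Cfsg.Agent.Lib.Helper3.DS9
import Mathlib.GroupTheory.NoncommPiCoprod

/-!
# Type `D`: the torus is commutative and is parametrised by the simple coroots
-/

set_option linter.unusedSectionVars false
set_option linter.unusedVariables false
set_option linter.unusedSimpArgs false

namespace Cfsg.Agent.Lib.Helper3.DN

open Cfsg.Agent.Lib.Helper5.Stb Cfsg.Agent.Lib.Helper3.AN Cfsg.Agent.Lib.Helper3.DS Matrix

section eigen
variable {J K G ι : Type*} [Field K] [Group G] [Fintype J] [DecidableEq J] [DecidableEq ι]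

theorem noncommProd_eigen (φ : G →* Matrix J J K) (v : J → K) (f : ι → G) (c : ι → K) :
    ∀ (s : Finset ι) (comm : (s : Set ι).Pairwise (Function.onFun Commute f)),
      (∀ i ∈ s, φ (f i) *ᵥ v = c i • v) →
      φ (s.noncommProd f comm) *ᵥ v = (∏ i ∈ s, c i) • v := by
  intro s
  induction s using Finset.induction_on with
  | empty =>
    intro comm h
    rw [Finset.noncommProd_empty, map_one, Matrix.one_mulVec, Finset.prod_empty, one_smul]
  | insert a s ha ih =>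
    intro comm h
    rw [Finset.noncommProd_insert_of_notMem _ _ _ _ ha, map_mul, ← Matrix.mulVec_mulVec,
      ih _ (fun i hi => h i (Finset.mem_insert_of_mem hi)), Matrix.mulVec_smul,
      h a (Finset.mem_insert_self a s), smul_smul, Finset.prod_insert ha, mul_comm]

end eigen

namespace DData

section comm
variable {J K G : Type*} [Field K] [Finite K] [Group G] [Fintype J] [DecidableEq J] {ν : J → J}
  (D : DData J K G ν) (hc : ∀ a b : J, ∃ c, c ≠ a ∧ c ≠ b ∧ c ≠ ν a ∧ c ≠ ν b)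
include hc

theorem rawMon_hh {k l : J} (hkl : k ≠ l) (hkl' : k ≠ ν l) {u : K} (hu : u ≠ 0) :
    ∃ v, RawMon D.y (D.hh k l u) 1 v := by
  have hm1 : (-1 : K) ≠ 0 := by simp
  have h := (D.rawMon_w hc hkl hkl' hu).mul (D.rawMon_w hc hkl hkl' hm1)
  exact ⟨_, h.congr (sig_mul_self (D := D) hkl hkl') (fun _ => rfl)⟩

theorem hh_commute {k l k' l' : J} (hkl : k ≠ l) (hkl' : k ≠ ν l) (hkl2 : k' ≠ l')
    (hkl2' : k' ≠ ν l') {u v : K} (hu : u ≠ 0) (hv : v ≠ 0) :
    Commute (D.hh k l u) (D.hh k' l' v) := by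
  obtain ⟨vv, hm⟩ := D.rawMon_hh hc hkl hkl' hu
  have h := D.cj_hh_of_rawMon hc hm (fun _ => rfl) hkl2 hkl2' hv
  rw [MulAut.conj_apply, Equiv.Perm.one_apply, Equiv.Perm.one_apply] at h
  exact mul_inv_eq_iff_eq_mul.mp h

theorem HJ_comm {a b : G} (ha : a ∈ D.HJ) (hb : b ∈ D.HJ) : Commute a b := by
  have h1 : ∀ k l u, k ≠ l → k ≠ ν l → u ≠ 0 → D.HJ ≤ Subgroup.centralizer {D.hh k l u} := by
    intro k l u hkl hkl' hu
    unfold HJ
    rw [Subgroup.closure_le]
    rintro g ⟨k', l', v, h1, h2, hv, rfl⟩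
    rw [SetLike.mem_coe, Subgroup.mem_centralizer_iff]
    intro x hx
    rw [Set.mem_singleton_iff] at hx
    rw [hx]
    exact (D.hh_commute hc hkl hkl' h1 h2 hu hv).eq
  have h2 : D.HJ ≤ Subgroup.centralizer {b} := by
    intro g hg
    unfold HJ at hg
    induction hg using Subgroup.closure_induction with
    | mem y hy =>
      obtain ⟨k, l, u, hkl, hkl', hu, rfl⟩ := hy
      rw [Subgroup.mem_centralizer_iff]
      intro x hx
      rw [Set.mem_singleton_iff] at hx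
      rw [hx]
      have := h1 k l u hkl hkl' hu hb
      rw [Subgroup.mem_centralizer_iff] at this
      exact (this _ rfl).symm
    | one => exact one_mem _
    | mul x y _ _ hx hy => exact mul_mem hx hy
    | inv x _ hx => exact inv_mem hx
  have := h2 ha
  rw [Subgroup.mem_centralizer_iff] at this
  exact (this b rfl).symm

theorem hh_self (k : J) (u : K) : D.hh k k u = 1 := by
  simp [DData.hh, DData.w, D.y_self]

end comm

section param
variable {I K G : Type*} [Field K] [Finite K] [Group G] [Fintype I] [DecidableEq I]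
  (D : DData (I ⊕ I) K G Sum.swap)
  (hc : ∀ a b : I ⊕ I, ∃ c, c ≠ a ∧ c ≠ b ∧ c ≠ Sum.swap a ∧ c ≠ Sum.swap b) (o p : I)
  (hop : o ≠ p)

/-- the cocharacter `e_i - e_o` -/
def chiA (i : I) : Kˣ →* G where
  toFun u := D.hh (Sum.inl i) (Sum.inl o) (u : K)
  map_one' := by rw [Units.val_one]; exact D.hh_one _ _
  map_mul' u v := by
    by_cases h : i = o
    · rw [h, D.hh_self hc, D.hh_self hc, D.hh_self hc, one_mul]
    · rw [Units.val_mul]
      exact D.hh_mul hc (fun h' => h (Sum.inl.inj h')) (by simp) u.ne_zero v.ne_zero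

include hop in
theorem adm_po : (Sum.inl p : I ⊕ I) ≠ Sum.inr o ∧ (Sum.inl p : I ⊕ I) ≠ Sum.swap (Sum.inr o) ∧
    (Sum.inl p : I ⊕ I) ≠ Sum.inl o ∧ (Sum.inl p : I ⊕ I) ≠ Sum.swap (Sum.inl o) :=
  ⟨by simp, fun h => hop (Sum.inl.inj h).symm, fun h => hop (Sum.inl.inj h).symm, by simp⟩

/-- the cocharacter `2 e_o` -/
def chiZ : Kˣ →* G where
  toFun u := D.hh (Sum.inl p) (Sum.inr o) (u : K) * (D.hh (Sum.inl p) (Sum.inl o) (u : K))⁻¹
  map_one' := by rw [Units.val_one, D.hh_one, D.hh_one, inv_one, mul_one]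
  map_mul' u v := by
    obtain ⟨h1, h2, h3, h4⟩ := adm_po o p hop
    rw [Units.val_mul, D.hh_mul hc h1 h2 u.ne_zero v.ne_zero,
      D.hh_mul hc h3 h4 u.ne_zero v.ne_zero, _root_.mul_inv_rev]
    have hcomm : Commute (D.hh (Sum.inl p) (Sum.inr o) (v : K) *
        (D.hh (Sum.inl p) (Sum.inl o) (v : K))⁻¹) (D.hh (Sum.inl p) (Sum.inl o) (u : K))⁻¹ :=
      D.HJ_comm hc (mul_mem (D.hh_mem_HJ h1 h2 v.ne_zero) (inv_mem (D.hh_mem_HJ h3 h4 v.ne_zero)))
        (inv_mem (D.hh_mem_HJ h3 h4 u.ne_zero))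
    calc D.hh (Sum.inl p) (Sum.inr o) ↑u * D.hh (Sum.inl p) (Sum.inr o) ↑v *
          ((D.hh (Sum.inl p) (Sum.inl o) ↑v)⁻¹ * (D.hh (Sum.inl p) (Sum.inl o) ↑u)⁻¹)
        = D.hh (Sum.inl p) (Sum.inr o) ↑u * ((D.hh (Sum.inl p) (Sum.inr o) ↑v *
          (D.hh (Sum.inl p) (Sum.inl o) ↑v)⁻¹) * (D.hh (Sum.inl p) (Sum.inl o) ↑u)⁻¹) := by group
      _ = D.hh (Sum.inl p) (Sum.inr o) ↑u * ((D.hh (Sum.inl p) (Sum.inl o) ↑u)⁻¹ *
          (D.hh (Sum.inl p) (Sum.inr o) ↑v * (D.hh (Sum.inl p) (Sum.inl o) ↑v)⁻¹)) := by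
        rw [hcomm.eq]
      _ = _ := by group

/-- the basic cocharacters -/
def chi (i : I) : Kˣ →* G := if i = o then D.chiZ hc o p hop else D.chiA hc o i

theorem chi_o : D.chi hc o p hop o = D.chiZ hc o p hop := by simp [chi]

theorem chi_ne {i : I} (h : i ≠ o) : D.chi hc o p hop i = D.chiA hc o i := by simp [chi, h]

theorem chiA_apply (i : I) (u : Kˣ) :
    D.chiA hc o i u = D.hh (Sum.inl i) (Sum.inl o) (u : K) := rfl

theorem chiZ_apply (u : Kˣ) : D.chiZ hc o p hop u =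
    D.hh (Sum.inl p) (Sum.inr o) (u : K) * (D.hh (Sum.inl p) (Sum.inl o) (u : K))⁻¹ := rfl

theorem chi_mem_HJ (i : I) (u : Kˣ) : D.chi hc o p hop i u ∈ D.HJ := by
  obtain ⟨h1, h2, h3, h4⟩ := adm_po o p hop
  by_cases h : i = o
  · rw [h, chi_o, chiZ_apply]
    exact mul_mem (D.hh_mem_HJ h1 h2 u.ne_zero) (inv_mem (D.hh_mem_HJ h3 h4 u.ne_zero))
  · rw [chi_ne D hc o p hop h, chiA_apply]
    exact D.hh_mem_HJ (fun h' => h (Sum.inl.inj h')) (by simp) u.ne_zero

theorem chi_comm : Pairwise fun i j : I => ∀ x y : Kˣ,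
    Commute (D.chi hc o p hop i x) (D.chi hc o p hop j y) :=
  fun i j _ x y => D.HJ_comm hc (D.chi_mem_HJ hc o p hop i x) (D.chi_mem_HJ hc o p hop j y)

/-- the parametrisation of the torus -/
def eta : (I → Kˣ) →* G :=
  MonoidHom.noncommPiCoprod (D.chi hc o p hop) (D.chi_comm hc o p hop)

theorem eta_mem_HJ (t : I → Kˣ) : D.eta hc o p hop t ∈ D.HJ := by
  have h : (D.eta hc o p hop).range ≤ D.HJ := by
    unfold eta
    rw [MonoidHom.noncommPiCoprod_range, iSup_le_iff]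
    rintro i _ ⟨u, rfl⟩
    exact D.chi_mem_HJ hc o p hop i u
  exact h ⟨t, rfl⟩

end param

end DData

end Cfsg.Agent.Lib.Helper3.DN
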