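import Cfsg.Agent.Lib.Helper3.DS10

/-!
# Type `D`: the parametrisation of the torus is onto, and its eigenvalues
-/

set_option linter.unusedSectionVars false
set_option linter.unusedVariables false
set_option linter.unusedSimpArgs false

namespace Cfsg.Agent.Lib.Helper3.DN

open Cfsg.Agent.Lib.Helper5.Stb Cfsg.Agent.Lib.Helper3.AN Cfsg.Agent.Lib.Helper3.DS Matrix

section tris
variable {I : Type*}

theorem tri_lll {i j k : I} (hij : i ≠ j) (hik : i ≠ k) (hjk : j ≠ k) :
    Tri (Sum.swap : I ⊕ I → I ⊕ I) (Sum.inl i) (Sum.inl j) (Sum.inl k) :=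
  ⟨fun h => hij (Sum.inl.inj h), fun h => hik (Sum.inl.inj h), fun h => hjk (Sum.inl.inj h),
    by simp, by simp, by simp⟩

theorem tri_llr {i x j : I} (hix : i ≠ x) (hij : i ≠ j) (hxj : x ≠ j) :
    Tri (Sum.swap : I ⊕ I → I ⊕ I) (Sum.inl i) (Sum.inl x) (Sum.inr j) :=
  ⟨fun h => hix (Sum.inl.inj h), by simp, by simp, by simp, fun h => hij (Sum.inl.inj h),
    fun h => hxj (Sum.inl.inj h)⟩

end tris

namespace DData

section param
variable {I K G : Type*} [Field K] [Finite K] [Group G] [Fintype I] [DecidableEq I]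
  (D : DData (I ⊕ I) K G Sum.swap)
  (hc : ∀ a b : I ⊕ I, ∃ c, c ≠ a ∧ c ≠ b ∧ c ≠ Sum.swap a ∧ c ≠ Sum.swap b) (o p : I)
  (hop : o ≠ p)

theorem hA_mem {i : I} (hi : i ≠ o) {u : K} (hu : u ≠ 0) :
    D.hh (Sum.inl i) (Sum.inl o) u ∈ (D.eta hc o p hop).range := by
  refine ⟨Pi.mulSingle i (Units.mk0 u hu), ?_⟩
  unfold eta
  rw [MonoidHom.noncommPiCoprod_mulSingle, D.chi_ne hc o p hop hi, chiA_apply, Units.val_mk0]

theorem hZ_mem {u : K} (hu : u ≠ 0) :
    D.hh (Sum.inl p) (Sum.inr o) u * (D.hh (Sum.inl p) (Sum.inl o) u)⁻¹ ∈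
      (D.eta hc o p hop).range := by
  refine ⟨Pi.mulSingle o (Units.mk0 u hu), ?_⟩
  unfold eta
  rw [MonoidHom.noncommPiCoprod_mulSingle, D.chi_o hc o p hop, chiZ_apply, Units.val_mk0]

theorem hB_mem {u : K} (hu : u ≠ 0) :
    D.hh (Sum.inl p) (Sum.inr o) u ∈ (D.eta hc o p hop).range := by
  have h := mul_mem (D.hZ_mem hc o p hop hu) (D.hA_mem hc o p hop hop.symm hu)
  rwa [inv_mul_cancel_right] at h

/-- the torus elements of the roots `e_i - e_j` -/
theorem h1_mem {i j : I} (hij : i ≠ j) {u : K} (hu : u ≠ 0) :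
    D.hh (Sum.inl i) (Sum.inl j) u ∈ (D.eta hc o p hop).range := by
  by_cases hj : j = o
  · rw [hj] at hij ⊢
    exact D.hA_mem hc o p hop hij hu
  by_cases hi : i = o
  · rw [hi] at hij ⊢
    have h1 : (Sum.inl j : I ⊕ I) ≠ Sum.inl o := fun h => hj (Sum.inl.inj h)
    rw [D.hh_swap hc h1 (by simp) hu]
    exact inv_mem (D.hA_mem hc o p hop hj hu)
  · have hT := tri_lll hi (fun h => hij h) (fun h => hj h.symm)
    rw [D.hh_triple hT hu]
    have h1 : (Sum.inl j : I ⊕ I) ≠ Sum.inl o := fun h => hj (Sum.inl.inj h)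
    rw [D.hh_swap hc h1 (by simp) hu]
    exact mul_mem (D.hA_mem hc o p hop hi hu) (inv_mem (D.hA_mem hc o p hop hj hu))

include hc in
theorem h3_symm {i j : I} (hij : i ≠ j) {u : K} (hu : u ≠ 0) :
    D.hh (Sum.inl i) (Sum.inr j) u = D.hh (Sum.inl j) (Sum.inr i) u :=
  D.hh_flip hc (by simp) (fun h => hij (Sum.inl.inj h)) hu

/-- the torus elements of the roots `e_i + e_j` -/
theorem h3_mem {i j : I} (hij : i ≠ j) {u : K} (hu : u ≠ 0) :
    D.hh (Sum.inl i) (Sum.inr j) u ∈ (D.eta hc o p hop).range := by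
  -- the case `j = o`
  have hb : ∀ i : I, i ≠ o → D.hh (Sum.inl i) (Sum.inr o) u ∈ (D.eta hc o p hop).range := by
    intro i hi
    by_cases hip : i = p
    · rw [hip]
      exact D.hB_mem hc o p hop hu
    · have hT := tri_llr hip hi hop.symm
      rw [D.hh_triple hT hu]
      exact mul_mem (D.h1_mem hc o p hop hip hu) (D.hB_mem hc o p hop hu)
  by_cases hj : j = o
  · rw [hj] at hij ⊢
    exact hb i hij
  by_cases hi : i = o
  · rw [hi] at hij ⊢
    rw [D.h3_symm hc hij hu]
    exact hb j hj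
  · have hT := tri_llr hi hij (fun h => hj h.symm)
    rw [D.hh_triple hT hu, D.h3_symm hc (fun h => hj h.symm) hu]
    exact mul_mem (D.hA_mem hc o p hop hi hu) (hb j hj)

/-- the parametrisation of the torus is onto -/
theorem HJ_le_range : D.HJ ≤ (D.eta hc o p hop).range := by
  unfold HJ
  rw [Subgroup.closure_le]
  rintro g ⟨k, l, u, hkl, hkl', hu, rfl⟩
  rw [SetLike.mem_coe]
  rcases k with i | i <;> rcases l with j | j
  · exact D.h1_mem hc o p hop (fun h => hkl (by rw [h])) hu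
  · have hij : i ≠ j := fun h => hkl' (by rw [h]; rfl)
    exact D.h3_mem hc o p hop hij hu
  · have hij : i ≠ j := fun h => hkl' (by rw [h]; rfl)
    have h1 : (Sum.inl j : I ⊕ I) ≠ Sum.swap (Sum.inr i) := fun h => hij (Sum.inl.inj h).symm
    rw [D.hh_swap hc (by simp) h1 hu]
    exact inv_mem (D.h3_mem hc o p hop hij.symm hu)
  · have hij : i ≠ j := fun h => hkl (by rw [h])
    rw [D.hh_flip hc hkl hkl' hu]
    exact D.h1_mem hc o p hop hij.symm hu

theorem exists_eta_of_mem_HJ {d : G} (hd : d ∈ D.HJ) : ∃ t, D.eta hc o p hop t = d :=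
  D.HJ_le_range hc o p hop hd

variable {φ : G →* Matrix (I ⊕ I) (I ⊕ I) K} (hφ : IsRepD D φ)

/-- the eigenvalue of `chi i u` on `ev x` -/
def cvec (i : I) (u : K) (x : I ⊕ I) : K :=
  if i = o then (if x = Sum.inl o then u ^ 2 else if x = Sum.inr o then (u ^ 2)⁻¹ else 1)
  else hvecD Sum.swap (Sum.inl i) (Sum.inl o) u x

include hφ in
theorem rep_chi (i : I) (u : Kˣ) (x : I ⊕ I) :
    φ (D.chi hc o p hop i u) *ᵥ (ev x : I ⊕ I → K) = cvec o i (u : K) x • (ev x : I ⊕ I → K) := by
  obtain ⟨h1, h2, h3, h4⟩ := adm_po o p hop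
  by_cases hi : i = o
  · rw [hi, D.chi_o hc o p hop, chiZ_apply, map_mul, ← Matrix.mulVec_mulVec]
    have hA := ((mon_hh hc hφ h3 h4 u.ne_zero).inv.congr inv_one (fun _ => rfl)).rep x
    have hB := (mon_hh hc hφ h1 h2 u.ne_zero).rep x
    rw [Equiv.Perm.one_apply] at hA hB
    rw [hA, Matrix.mulVec_smul, hB, smul_smul]
    congr 1
    have hu := u.ne_zero
    have hpo : p ≠ o := hop.symm
    rcases x with j | j
    · by_cases e1 : j = p
      · subst e1
        simp [cvec, hvecD, hpo]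
      · by_cases e2 : j = o
        · subst e2
          simp [cvec, hvecD, hop]
          field_simp
        · simp [cvec, hvecD, e1, e2]
    · by_cases e1 : j = p
      · subst e1
        simp [cvec, hvecD, hpo]
      · by_cases e2 : j = o
        · subst e2
          simp [cvec, hvecD, hop]
          field_simp
        · simp [cvec, hvecD, e1, e2]
  · rw [D.chi_ne hc o p hop hi, chiA_apply]
    have hA := (mon_hh hc hφ (fun h' => hi (Sum.inl.inj h')) (by simp) u.ne_zero).rep x
    rw [Equiv.Perm.one_apply] at hA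
    rw [hA]
    simp [cvec, hi]

/-- the eigenvalue of `eta t` on `ev x` -/
def eig (t : I → Kˣ) (x : I ⊕ I) : K := ∏ i, cvec o i (t i : K) x

include hφ in
theorem rep_eta (t : I → Kˣ) (x : I ⊕ I) :
    φ (D.eta hc o p hop t) *ᵥ (ev x : I ⊕ I → K) = eig o t x • (ev x : I ⊕ I → K) := by
  unfold eta
  rw [MonoidHom.noncommPiCoprod_apply]
  exact noncommProd_eigen φ (ev x) _ _ Finset.univ _
    (fun i _ => D.rep_chi hc o p hop hφ i (t i) x)

end param

end DData

section eigs
variable {I K : Type*} [Field K] [Fintype I] [DecidableEq I] (o : I)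

theorem eig_inl (t : I → Kˣ) {j : I} (hj : j ≠ o) :
    DData.eig o t (Sum.inl j) = (t j : K) := by
  unfold DData.eig
  rw [Finset.prod_eq_single j]
  · simp [DData.cvec, hj, hvecD]
  · intro i _ hij
    by_cases hi : i = o
    · subst hi
      simp [DData.cvec, hj]
    · simp [DData.cvec, hi, hvecD, hij.symm, hj]
  · intro h
    exact absurd (Finset.mem_univ j) h

theorem eig_inl_o (t : I → Kˣ) :
    DData.eig o t (Sum.inl o) = ∏ i, (if i = o then (t o : K) ^ 2 else ((t i : K))⁻¹) := by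
  unfold DData.eig
  apply Finset.prod_congr rfl
  intro i _
  by_cases hi : i = o
  · subst hi
    simp [DData.cvec]
  · simp [DData.cvec, hi, hvecD, Ne.symm hi]

theorem eig_inr (t : I → Kˣ) (j : I) :
    DData.eig o t (Sum.inr j) = (DData.eig o t (Sum.inl j))⁻¹ := by
  unfold DData.eig
  rw [← Finset.prod_inv_distrib]
  apply Finset.prod_congr rfl
  intro i _
  by_cases hi : i = o
  · subst hi
    by_cases hj : j = i
    · subst hj
      simp [DData.cvec]
    · simp [DData.cvec, hj]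
  · by_cases hj : j = i
    · subst hj
      simp [DData.cvec, hi, hvecD]
    · by_cases hj' : j = o
      · subst hj'
        simp [DData.cvec, hi, hvecD, hj]
      · simp [DData.cvec, hi, hvecD, hj, hj']

end eigs

end Cfsg.Agent.Lib.Helper3.DN
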