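import Cfsg.Agent.Lib.Helper3.DS11

/-!
# Clifford families: a model of the Steinberg relations of type `D` in which the
spin element is `-1`
-/

set_option linter.unusedSectionVars false
set_option linter.unusedVariables false
set_option linter.unusedSimpArgs false

namespace Cfsg.Agent.Lib.Helper3.DS

open Cfsg.Agent.Lib.Helper3.DN

section ring
variable {R : Type*} [Ring R]

theorem anti4 (a b c d : R) (h1 : a * c = -(c * a)) (h2 : a * d = -(d * a))
    (h3 : b * c = -(c * b)) (h4 : b * d = -(d * b)) : (a * b) * (c * d) = (c * d) * (a * b) := by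
  linear_combination (norm := noncomm_ring) a * h3 * d - h1 * b * d + c * a * h4 - c * h2 * b

theorem sq0 (a b : R) (ha : a * a = 0) (h : b * a = -(a * b)) : (a * b) * (a * b) = 0 := by
  linear_combination (norm := noncomm_ring) a * h * b - ha * b * b

theorem word_xyx (a b c d : R) (ha : a * a = 0) (h1 : b * a = -(a * b)) (h2 : c * a = -(a * c))
    (h3 : d * a = -(a * d)) : (a * b) * (c * d) * (a * b) = 0 := by
  linear_combination (norm := noncomm_ring)
    a * b * c * h3 * b - a * b * h2 * d * b + a * h1 * c * d * b - ha * b * c * d * b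

theorem word_yxy (a b c d : R) (hd : d * d = 0) (h1 : c * d = -(d * c)) (h2 : b * d = -(d * b))
    (h3 : a * d = -(d * a)) : (c * d) * (a * b) * (c * d) = 0 := by
  linear_combination (norm := noncomm_ring)
    c * d * a * b * h1 - c * d * a * h2 * c + c * d * h3 * b * c - c * hd * a * b * c

theorem word_bracket (a b c d : R) (hbc : b * c = 1 - c * b) (h1 : d * a = -(a * d))
    (h2 : c * a = -(a * c)) (h3 : d * b = -(b * d)) :
    (a * b) * (c * d) - (c * d) * (a * b) = a * d := by
  linear_combination (norm := noncomm_ring)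
    a * hbc * d - a * c * h3 + h2 * d * b - c * h1 * b

theorem word_self (a b c d : R) (hbc : b * c = 1 - c * b) (hda : d * a = 1 - a * d)
    (haa : a * a = 0) (hbb : b * b = 0) (hab : a * b = -(b * a)) (hdb : d * b = -(b * d)) :
    (a * b) * (c * d) * (a * b) = a * b := by
  linear_combination (norm := noncomm_ring)
    a * hbc * d * a * b + a * hda * b - haa * d * b - a * c * b * d * hab + a * c * b * hdb * a -
      a * c * hbb * d * a

theorem unip_comm (x y : R) (hxx : x * x = 0) (hyy : y * y = 0) (hxyx : x * y * x = 0)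
    (hyxy : y * x * y = 0) : (1 + x) * (1 + y) * (1 - x) * (1 - y) = 1 + (x * y - y * x) := by
  linear_combination (norm := noncomm_ring)
    (-1 : R) * hxx + hxx * y - hyy + hyxy - hxyx - x * hyy + hxyx * y

theorem weyl_sq (X Y : R) (hX : X * X = 0) (hY : Y * Y = 0) (hXYX : X * Y * X = X)
    (hYXY : Y * X * Y = Y) :
    ((1 - X) * (1 + Y) * (1 - X)) * ((1 - X) * (1 + Y) * (1 - X)) = 1 - 2 * (X * Y + Y * X) := by
  have h1 : (1 - X) * (1 + Y) * (1 - X) = 1 + (Y - X) - (X * Y + Y * X) := by
    linear_combination (norm := noncomm_ring) hX + hXYX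
  have hS2 : (Y - X) * (Y - X) = -(X * Y + Y * X) := by
    linear_combination (norm := noncomm_ring) hY + hX
  have hSE : (Y - X) * (X * Y + Y * X) = Y - X := by
    linear_combination (norm := noncomm_ring) hYXY + hY * X - hX * Y - hXYX
  have hES : (X * Y + Y * X) * (Y - X) = Y - X := by
    linear_combination (norm := noncomm_ring) X * hY - hXYX + hYXY - Y * hX
  have hE2 : (X * Y + Y * X) * (X * Y + Y * X) = X * Y + Y * X := by
    linear_combination (norm := noncomm_ring) hXYX * Y + X * hY * X + Y * hX * Y + hYXY * X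
  rw [h1]
  linear_combination (norm := noncomm_ring) hS2 - hSE - hES + hE2

theorem spin_sum (P P' O O' : R) (hO : O' * O + O * O' = 1) (hO2 : O * O' + O' * O = 1)
    (hP : P * P' + P' * P = 1)
    (h1 : O * P' + P' * O = 0) (h2 : O * P + P * O = 0) (h3 : O' * P' + P' * O' = 0)
    (h4 : O' * P + P * O' = 0) :
    P * O' * O * P' + O * P' * P * O' + (P * O * O' * P' + O' * P' * P * O) = 1 := by
  linear_combination (norm := noncomm_ring) P * hO * P' + h1 * P * O' - P' * h2 * O' +
    h3 * P * O - P' * h4 * O + P' * P * hO2 + hP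

end ring

end Cfsg.Agent.Lib.Helper3.DS
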