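import Cfsg.Agent.Lib.Helper3.DS12

/-!
# Clifford families give Steinberg data of type `D`
-/

set_option linter.unusedSectionVars false
set_option linter.unusedVariables false
set_option linter.unusedSimpArgs false

namespace Cfsg.Agent.Lib.Helper3.DS

open Cfsg.Agent.Lib.Helper3.DN

section aux
variable {R : Type*} [Ring R]

theorem unit_aux1 (x : R) (h : x * x = 0) : (1 + x) * (1 - x) = 1 := by
  linear_combination (norm := noncomm_ring) (-1 : R) * h

theorem unit_aux2 (x : R) (h : x * x = 0) : (1 - x) * (1 + x) = 1 := by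
  linear_combination (norm := noncomm_ring) (-1 : R) * h

theorem add_aux (x y : R) (h : x * y = 0) : 1 + (x + y) = (1 + x) * (1 + y) := by
  linear_combination (norm := noncomm_ring) (-1 : R) * h

theorem comm_aux (x y : R) (h : x * y = y * x) : (1 + x) * (1 + y) = (1 + y) * (1 + x) := by
  linear_combination (norm := noncomm_ring) h

end aux

/-- a family of elements of a ring satisfying the Clifford relations of a hyperbolic space -/
structure CliffFam (J K R : Type*) [Field K] [Ring R] [Algebra K R] (ν : J → J) where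
  nu_nu : ∀ k, ν (ν k) = k
  nu_ne : ∀ k, ν k ≠ k
  a : J → R
  a_sq : ∀ x, a x * a x = 0
  a_anti : ∀ x y, y ≠ ν x → a x * a y = -(a y * a x)
  a_pair : ∀ x, a x * a (ν x) + a (ν x) * a x = 1

namespace CliffFam

variable {J K R : Type*} [Field K] [Ring R] [Algebra K R] {ν : J → J} [DecidableEq J]
  (C : CliffFam J K R ν)

/-- the root vectors -/
def X (k l : J) : R := if k = l then 0 else C.a k * C.a (ν l)

theorem X_self (k : J) : C.X k k = 0 := by simp [X]

theorem X_ne {k l : J} (h : k ≠ l) : C.X k l = C.a k * C.a (ν l) := by simp [X, h]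

include C in
theorem nu_inj {a b : J} (h : ν a = ν b) : a = b := by
  rw [← C.nu_nu a, ← C.nu_nu b, h]

theorem X_opp (k : J) : C.X k (ν k) = 0 := by
  rw [C.X_ne (C.nu_ne k).symm, C.nu_nu, C.a_sq]

theorem pair' (x : J) : C.a (ν x) * C.a x = 1 - C.a x * C.a (ν x) := by
  rw [← C.a_pair x]; abel

theorem X_sq (k l : J) : C.X k l * C.X k l = 0 := by
  by_cases h : k = l
  · rw [h, C.X_self, mul_zero]
  · rw [C.X_ne h]
    apply sq0 _ _ (C.a_sq k)
    apply C.a_anti
    rw [C.nu_nu]
    exact h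

theorem X_flip (k l : J) : C.X k l = -C.X (ν l) (ν k) := by
  by_cases h : k = l
  · rw [h, C.X_self, C.X_self, neg_zero]
  · have h' : ν l ≠ ν k := fun e => h (C.nu_inj e).symm
    rw [C.X_ne h, C.X_ne h', C.nu_nu, C.a_anti k (ν l) h']

theorem X_comm {k l p m : J} (h1 : l ≠ p) (h2 : k ≠ m) (h3 : k ≠ ν p) (h4 : l ≠ ν m) :
    C.X k l * C.X p m = C.X p m * C.X k l := by
  by_cases hkl : k = l
  · rw [hkl, C.X_self, zero_mul, mul_zero]
  by_cases hpm : p = m
  · rw [hpm, C.X_self, zero_mul, mul_zero]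
  rw [C.X_ne hkl, C.X_ne hpm]
  apply anti4
  · apply C.a_anti
    intro e
    apply h3
    rw [e, C.nu_nu]
  · apply C.a_anti
    intro e
    exact h2 (C.nu_inj e).symm
  · apply C.a_anti
    rw [C.nu_nu]
    exact h1.symm
  · apply C.a_anti
    rw [C.nu_nu]
    intro e
    exact h4 e.symm

theorem X_comm' (k l : J) : C.X k l * C.X k (ν l) = C.X k (ν l) * C.X k l := by
  by_cases hkl : k = l
  · rw [hkl, C.X_self, zero_mul, mul_zero]
  by_cases hkl' : k = ν l
  · rw [hkl', C.X_self, zero_mul, mul_zero]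
  rw [C.X_ne hkl, C.X_ne hkl', C.nu_nu]
  have e1 : C.a k * C.a (ν l) * (C.a k * C.a l) = 0 := by
    have h := C.a_anti (ν l) k (by rw [C.nu_nu]; exact hkl)
    linear_combination (norm := noncomm_ring) C.a k * h * C.a l - C.a_sq k * C.a (ν l) * C.a l
  have e2 : C.a k * C.a l * (C.a k * C.a (ν l)) = 0 := by
    have h := C.a_anti l k hkl'
    linear_combination (norm := noncomm_ring)
      C.a k * h * C.a (ν l) - C.a_sq k * C.a l * C.a (ν l)
  rw [e1, e2]

section rel
variable {k l m : J} (h1 : k ≠ l) (h2 : l ≠ m) (h3 : k ≠ m) (h4 : k ≠ ν l) (h5 : l ≠ ν m)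
  (h6 : k ≠ ν m)
include h1 h2 h3 h4 h5 h6

theorem X_bracket : C.X k l * C.X l m - C.X l m * C.X k l = C.X k m := by
  rw [C.X_ne h1, C.X_ne h2, C.X_ne h3]
  apply word_bracket
  · exact C.pair' l
  · apply C.a_anti
    rw [C.nu_nu]
    exact h3
  · exact C.a_anti l k h4
  · apply C.a_anti
    rw [C.nu_nu]
    intro e
    exact h5 (by rw [← e, C.nu_nu])

theorem X_xyx : C.X k l * C.X l m * C.X k l = 0 := by
  rw [C.X_ne h1, C.X_ne h2]
  apply word_xyx _ _ _ _ (C.a_sq k)
  · apply C.a_anti
    rw [C.nu_nu]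
    exact h1
  · exact C.a_anti l k h4
  · apply C.a_anti
    rw [C.nu_nu]
    exact h3

theorem X_yxy : C.X l m * C.X k l * C.X l m = 0 := by
  rw [C.X_ne h1, C.X_ne h2]
  apply word_yxy _ _ _ _ (C.a_sq (ν m))
  · apply C.a_anti
    intro e
    exact h2 (C.nu_inj e).symm
  · apply C.a_anti
    rw [C.nu_nu]
    intro e
    exact h5 e.symm
  · apply C.a_anti
    intro e
    exact h3 (C.nu_inj e).symm

end rel

theorem X_self_rel {k l : J} (h1 : k ≠ l) (h4 : k ≠ ν l) :
    C.X k l * C.X l k * C.X k l = C.X k l := by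
  rw [C.X_ne h1, C.X_ne h1.symm]
  apply word_self
  · exact C.pair' l
  · exact C.pair' k
  · exact C.a_sq k
  · exact C.a_sq (ν l)
  · apply C.a_anti
    intro e
    exact h1 (C.nu_inj e).symm
  · apply C.a_anti
    rw [C.nu_nu]
    intro e
    exact h4 e.symm

/-- the root elements -/
def y (k l : J) (t : K) : Rˣ where
  val := 1 + t • C.X k l
  inv := 1 - t • C.X k l
  val_inv := by
    have h : (t • C.X k l) * (t • C.X k l) = 0 := by
      rw [smul_mul_smul_comm, C.X_sq, smul_zero]
    exact unit_aux1 _ h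
  inv_val := by
    have h : (t • C.X k l) * (t • C.X k l) = 0 := by
      rw [smul_mul_smul_comm, C.X_sq, smul_zero]
    exact unit_aux2 _ h

theorem y_val (k l : J) (t : K) : ((C.y k l t : Rˣ) : R) = 1 + t • C.X k l := rfl

theorem y_inv_val (k l : J) (t : K) : (((C.y k l t)⁻¹ : Rˣ) : R) = 1 - t • C.X k l := rfl

/-- the Steinberg data of a Clifford family -/
def ddata : DData J K Rˣ ν where
  nu_nu := C.nu_nu
  nu_ne := C.nu_ne
  y := C.y
  y_self := fun k t => by
    apply Units.ext
    rw [y_val, C.X_self, smul_zero, add_zero, Units.val_one]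
  y_opp := fun k t => by
    apply Units.ext
    rw [y_val, C.X_opp, smul_zero, add_zero, Units.val_one]
  y_flip := fun k l t => by
    apply Units.ext
    rw [y_val, y_val, C.X_flip k l, neg_smul, smul_neg]
  y_add := fun k l t u => by
    apply Units.ext
    rw [Units.val_mul, y_val, y_val, y_val]
    have h : (t • C.X k l) * (u • C.X k l) = 0 := by
      rw [smul_mul_smul_comm, C.X_sq, smul_zero]
    rw [add_smul]
    exact add_aux _ _ h
  y_comm := fun k l p m t u h1 h2 h3 h4 => by
    apply Units.ext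
    rw [Units.val_mul, Units.val_mul, y_val, y_val]
    have h : (t • C.X k l) * (u • C.X p m) = (u • C.X p m) * (t • C.X k l) := by
      rw [smul_mul_smul_comm, smul_mul_smul_comm, C.X_comm h1 h2 h3 h4, mul_comm t u]
    exact comm_aux _ _ h
  y_comm' := fun k l t u => by
    apply Units.ext
    rw [Units.val_mul, Units.val_mul, y_val, y_val]
    have h : (t • C.X k l) * (u • C.X k (ν l)) = (u • C.X k (ν l)) * (t • C.X k l) := by
      rw [smul_mul_smul_comm, smul_mul_smul_comm, C.X_comm' k l, mul_comm t u]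
    exact comm_aux _ _ h
  y_rel := fun k l m t u h1 h2 h3 h4 h5 h6 => by
    apply Units.ext
    rw [Units.val_mul, Units.val_mul, Units.val_mul, y_inv_val, y_inv_val, y_val, y_val, y_val]
    have hx : (t • C.X k l) * (t • C.X k l) = 0 := by
      rw [smul_mul_smul_comm, C.X_sq, smul_zero]
    have hy : (u • C.X l m) * (u • C.X l m) = 0 := by
      rw [smul_mul_smul_comm, C.X_sq, smul_zero]
    have hxyx : (t • C.X k l) * (u • C.X l m) * (t • C.X k l) = 0 := by
      rw [smul_mul_smul_comm, smul_mul_smul_comm, C.X_xyx h1 h2 h3 h4 h5 h6, smul_zero]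
    have hyxy : (u • C.X l m) * (t • C.X k l) * (u • C.X l m) = 0 := by
      rw [smul_mul_smul_comm, smul_mul_smul_comm, C.X_yxy h1 h2 h3 h4 h5 h6, smul_zero]
    rw [unip_comm _ _ hx hy hxyx hyxy, smul_mul_smul_comm, smul_mul_smul_comm, mul_comm u t,
      ← smul_sub, C.X_bracket h1 h2 h3 h4 h5 h6]

theorem ddata_y (k l : J) (t : K) : C.ddata.y k l t = C.y k l t := rfl

end CliffFam

end Cfsg.Agent.Lib.Helper3.DS
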