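import Cfsg.Agent.Lib.Helper3.DS2

/-!
# Central extensions of a group with Steinberg data of type `D`: the lifted data
-/

set_option linter.unusedSectionVars false
set_option linter.unusedVariables false
set_option linter.unusedSimpArgs false

namespace Cfsg.Agent.Lib.Helper3.DS

open Cfsg.Agent.Lib.Helper3.DN Cfsg.Agent.Lib.Helper3.StU
open scoped commutatorElement

section cext
variable {J K Γ E : Type*} [Field K] [Group Γ] [Group E] {ν : J → J} {D : DData J K Γ ν}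
  (T : CExt D E)

theorem Tri.flip (D : DData J K Γ ν) {a b c : J} (h : Tri ν a b c) : Tri ν (ν c) (ν b) (ν a) :=
  ⟨fun e => h.bc (D.nu_inj e).symm, fun e => h.ac (D.nu_inj e).symm,
    fun e => h.ab (D.nu_inj e).symm,
    fun e => h.bc' (by rw [D.nu_nu] at e; exact e.symm),
    fun e => h.ac' (by rw [D.nu_nu] at e; exact e.symm),
    fun e => h.ab' (by rw [D.nu_nu] at e; exact e.symm)⟩

namespace CExt

open Classical in
/-- the lifted root elements -/
noncomputable def yt (k l : J) (t : K) : E :=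
  if h : k ≠ l ∧ k ≠ ν l then T.M (Classical.choose (T.exists_tri h.1 h.2)) k l t 1 else 1

theorem yt_eq {k h l : J} (hT : Tri ν k h l) (t : K) : T.yt k l t = T.M h k l t 1 := by
  unfold yt
  rw [dif_pos ⟨hT.ac, hT.ac'⟩]
  exact T.M_indep (Classical.choose_spec (T.exists_tri hT.ac hT.ac')) hT t 1

theorem yt_of_eq {k l : J} (h : k = l) (t : K) : T.yt k l t = 1 := by
  unfold yt
  rw [dif_neg (fun h' => h'.1 h)]

theorem yt_of_opp {k l : J} (h : k = ν l) (t : K) : T.yt k l t = 1 := by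
  unfold yt
  rw [dif_neg (fun h' => h'.2 h)]

theorem π_yt (k l : J) (t : K) : T.π (T.yt k l t) = D.y k l t := by
  by_cases h1 : k = l
  · rw [T.yt_of_eq h1, map_one]
    subst h1
    exact (D.y_self k t).symm
  by_cases h2 : k = ν l
  · rw [T.yt_of_opp h2, map_one]
    subst h2
    exact (D.y_opp' l t).symm
  obtain ⟨p, hp⟩ := T.exists_tri h1 h2
  rw [T.yt_eq hp, T.π_M hp, mul_one]

theorem M_eq_yt {k h l : J} (hT : Tri ν k h l) (t u : K) : T.M h k l t u = T.yt k l (t * u) := by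
  rw [T.yt_eq hT]
  have := T.M_mul hT t u 1
  rw [mul_one] at this
  exact this

theorem yt_add (k l : J) (t u : K) : T.yt k l (t + u) = T.yt k l t * T.yt k l u := by
  by_cases h1 : k = l
  · rw [T.yt_of_eq h1, T.yt_of_eq h1, T.yt_of_eq h1, one_mul]
  by_cases h2 : k = ν l
  · rw [T.yt_of_opp h2, T.yt_of_opp h2, T.yt_of_opp h2, one_mul]
  obtain ⟨p, hp⟩ := T.exists_tri h1 h2
  rw [T.yt_eq hp, T.yt_eq hp, T.yt_eq hp, T.M_add_left hp]

theorem yt_zero (k l : J) : T.yt k l 0 = 1 := by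
  have h := T.yt_add k l 0 0
  rw [add_zero] at h
  exact (mul_eq_left.1 h.symm)

theorem yt_neg (k l : J) (t : K) : T.yt k l (-t) = (T.yt k l t)⁻¹ := by
  rw [eq_inv_iff_mul_eq_one, ← T.yt_add, neg_add_cancel, T.yt_zero]

theorem yt_comm (k l p m : J) (t u : K) (h1 : l ≠ p) (h2 : k ≠ m) (h3 : k ≠ ν p)
    (h4 : l ≠ ν m) : Commute (T.yt k l t) (T.yt p m u) :=
  T.commute_of_lifts h1 h2 h3 h4 (T.π_yt k l t) (T.π_yt p m u)

theorem yt_rel {k l m : J} (hT : Tri ν k l m) (t u : K) :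
    ⁅T.yt k l t, T.yt l m u⁆ = T.yt k m (t * u) := by
  rw [T.M_eq (T.π_yt k l t) (T.π_yt l m u), T.M_eq_yt hT]

theorem yt_flip (k l : J) (t : K) : T.yt k l t = T.yt (ν l) (ν k) (-t) := by
  by_cases h1 : k = l
  · rw [T.yt_of_eq h1, T.yt_of_eq (by rw [h1])]
  by_cases h2 : k = ν l
  · rw [T.yt_of_opp h2, T.yt_of_opp (by rw [h2, D.nu_nu])]
  obtain ⟨p, hp⟩ := T.exists_tri h1 h2
  have hp' : Tri ν (ν l) (ν p) (ν k) := Tri.flip D hp
  set A := T.lift (D.y k p t) with hA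
  set B := T.lift (D.y p l 1) with hB
  have e1 : T.yt k l t = ⁅A, B⁆ := T.yt_eq hp t
  have hπA : T.π A = D.y (ν p) (ν k) (-t) := by rw [hA, T.π_lift, ← D.y_flip]
  have hπB : T.π B⁻¹ = D.y (ν l) (ν p) 1 := by
    rw [map_inv, hB, T.π_lift, ← D.y_neg, D.y_flip, neg_neg]
  have e2 : T.yt (ν l) (ν k) (-t) = ⁅B⁻¹, A⁆ := by
    rw [T.M_eq hπB hπA, T.M_eq_yt hp', one_mul]
  have c1 : Commute B ⁅A, B⁆ := by
    rw [← e1]
    exact T.commute_of_lifts hp.ac.symm hp.bc (D.ne_nu_symm hp.ab') (D.ne_nu l) (T.π_lift _)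
      (T.π_yt k l t)
  rw [e2, e1]
  have e3 : ⁅B⁻¹, A⁆ = B⁻¹ * (⁅A, B⁆ * B) := by
    simp only [commutatorElement_def]; group
  rw [e3, ← c1.eq, inv_mul_cancel_left]

theorem yt_comm' (k l : J) (t u : K) : Commute (T.yt k l t) (T.yt k (ν l) u) := by
  by_cases h1 : k = l
  · rw [T.yt_of_eq h1]; exact Commute.one_left _
  by_cases h2 : k = ν l
  · rw [T.yt_of_opp h2]; exact Commute.one_left _
  obtain ⟨p, hp⟩ := T.fresh k l k l
  obtain ⟨pk, pl, -, -, pk', pl', -, -⟩ := hp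
  have kp' : k ≠ ν p := D.ne_nu_symm pk'
  have lp' : l ≠ ν p := D.ne_nu_symm pl'
  have lk' : l ≠ ν k := D.ne_nu_symm h2
  have nn : ∀ x : J, ν (ν x) = x := D.nu_nu
  have t1 : Tri ν k p l := ⟨pk.symm, h1, pl, kp', h2, pl'⟩
  have t2 : Tri ν k p (ν l) :=
    ⟨pk.symm, h2, pl', kp', by rw [nn]; exact h1, by rw [nn]; exact pl⟩
  have t3 : Tri ν p l (ν k) :=
    ⟨pl, pk', lk', pl', by rw [nn]; exact pk, by rw [nn]; exact Ne.symm h1⟩
  have t4 : Tri ν k l (ν p) :=
    ⟨h1, kp', lp', h2, by rw [nn]; exact pk.symm, by rw [nn]; exact pl.symm⟩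
  set a := T.yt p l t with ha
  set b := T.yt p (ν l) u with hb
  set g := T.yt k p 1 with hg
  set A := T.yt k l t with hA
  set B := T.yt k (ν l) u with hB
  set P := T.yt p (ν k) (t * u) with hP
  have r1 : ⁅g, a⁆ = A := by rw [T.yt_rel t1, one_mul]
  have r2 : ⁅g, b⁆ = B := by rw [T.yt_rel t2, one_mul]
  have r3 : ⁅a, B⁆ = P⁻¹ := by
    have : B = T.yt l (ν k) (-u) := by rw [hB, T.yt_flip k (ν l) u, nn]
    rw [this, T.yt_rel t3, mul_neg, T.yt_neg]
  have r4 : ⁅A, b⁆ = P := by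
    have : b = T.yt l (ν p) (-u) := by rw [hb, T.yt_flip p (ν l) u, nn]
    rw [this, T.yt_rel t4, mul_neg, T.yt_flip k (ν p), nn, neg_neg]
  have hPA : Commute P A :=
    T.yt_comm p (ν k) k l _ _ (D.nu_ne k) pl pk' (fun e => h1 (D.nu_inj e))
  have hPB : Commute P B :=
    T.yt_comm p (ν k) k (ν l) _ _ (D.nu_ne k) pl' pk' (by rw [nn]; exact fun e => h2 (by rw [← e, nn]))
  have hPa : Commute P a :=
    T.yt_comm p (ν k) p l _ _ pk'.symm pl (D.ne_nu p) (fun e => h1 (D.nu_inj e))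
  have hPb : Commute P b :=
    T.yt_comm p (ν k) p (ν l) _ _ pk'.symm pl' (D.ne_nu p) (by rw [nn]; exact fun e => h2 (by rw [← e, nn]))
  have cF : ⁅a, b⁆ ∈ Subgroup.center E := by
    apply T.comm_central
    rw [T.π_yt, T.π_yt]
    exact D.y_comm' p l t u
  have cF' : ⁅A, B⁆ ∈ Subgroup.center E := by
    apply T.comm_central
    rw [T.π_yt, T.π_yt]
    exact D.y_comm' k l t u
  have hga : g * a * g⁻¹ = A * a := by rw [← r1, commutatorElement_def]; group
  have hgb : g * b * g⁻¹ = B * b := by rw [← r2, commutatorElement_def]; group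
  have key : ⁅A, B⁆ = 1 :=
    fork_aux rfl (fun x => (Subgroup.mem_center_iff.1 cF x).symm) rfl
      (fun x => (Subgroup.mem_center_iff.1 cF' x).symm) r3 r4 hPA hPB hPa hPb hga hgb
  exact commutatorElement_eq_one_iff_commute.1 key

/-- the lifted Steinberg data -/
noncomputable def liftData : DData J K E ν where
  nu_nu := D.nu_nu
  nu_ne := D.nu_ne
  y := T.yt
  y_self := fun k t => T.yt_of_eq rfl t
  y_opp := fun k t => T.yt_of_opp (by rw [D.nu_nu]) t
  y_flip := T.yt_flip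
  y_add := T.yt_add
  y_comm := fun k l p m t u h1 h2 h3 h4 => (T.yt_comm k l p m t u h1 h2 h3 h4).eq
  y_comm' := fun k l t u => (T.yt_comm' k l t u).eq
  y_rel := fun k l m t u h1 h2 h3 h4 h5 h6 => by
    have := T.yt_rel (k := k) (l := l) (m := m) ⟨h1, h3, h2, h4, h6, h5⟩ t u
    rw [commutatorElement_def] at this
    exact this

theorem π_liftData (k l : J) (t : K) : T.π (T.liftData.y k l t) = D.y k l t := T.π_yt k l t

end CExt

end cext

section split
variable {J : Type*} {K : Type*} [Field K] {ν : J → J}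

/-- every central extension of the Steinberg group of type `D` splits -/
theorem stD_split (hν1 : ∀ k, ν (ν k) = k) (hν2 : ∀ k, ν k ≠ k) (hf : Fresh ν)
    {E : Type*} [Group E] (ψ : E →* StD J K ν) (hs : Function.Surjective ψ)
    (hc : ψ.ker ≤ Subgroup.center E) : ∃ s : StD J K ν →* E, ψ.comp s = MonoidHom.id _ := by
  let T : CExt (stdD (K := K) hν1 hν2) E := ⟨ψ, hs, hc, hf⟩
  refine ⟨liftD T.liftData, ?_⟩
  apply hom_ext_sy
  intro k l t
  rw [MonoidHom.comp_apply, liftD_sy, MonoidHom.id_apply]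
  exact T.π_liftData k l t

end split

end Cfsg.Agent.Lib.Helper3.DS
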