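import Cfsg.Agent.Lib.Helper3.DS13
import Cfsg.Agent.Lib.Helper3.DS3
import Cfsg.Agent.Lib.Helper3.DN12
import Mathlib.LinearAlgebra.CliffordAlgebra.Contraction

/-!
# The spin element of the Steinberg group of type `D` is not trivial in odd characteristic
-/

set_option linter.unusedSectionVars false
set_option linter.unusedVariables false
set_option linter.unusedSimpArgs false

namespace Cfsg.Agent.Lib.Helper3.DS

open Cfsg.Agent.Lib.Helper3.DN Cfsg.Agent.Lib.Helper5.Stb Cfsg.Agent.Lib.Helper5.QuadGlue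

section maps
variable {J K G G' : Type*} [Field K] [Group G] [Group G'] {ν : J → J}

theorem map_w (D : DData J K G ν) (D' : DData J K G' ν) (f : G →* G')
    (hf : ∀ k l t, f (D.y k l t) = D'.y k l t) (k l : J) (u : K) :
    f (D.w k l u) = D'.w k l u := by
  unfold DData.w
  rw [map_mul, map_mul, hf, hf]

theorem map_hh (D : DData J K G ν) (D' : DData J K G' ν) (f : G →* G')
    (hf : ∀ k l t, f (D.y k l t) = D'.y k l t) (k l : J) (u : K) :
    f (D.hh k l u) = D'.hh k l u := by
  unfold DData.hh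
  rw [map_mul, map_w D D' f hf, map_w D D' f hf]

end maps

namespace CliffFam

variable {J K R : Type*} [Field K] [Ring R] [Algebra K R] {ν : J → J} [DecidableEq J]
  (C : CliffFam J K R ν)

theorem w_val (k l : J) :
    ((C.ddata.w k l (-1) : Rˣ) : R) = (1 - C.X k l) * (1 + C.X l k) * (1 - C.X k l) := by
  have e : (-(-1 : K)⁻¹) = 1 := by rw [inv_neg, inv_one, neg_neg]
  unfold DData.w
  rw [e, Units.val_mul, Units.val_mul, ddata_y, ddata_y, y_val, y_val, neg_smul, one_smul,
    one_smul, ← sub_eq_add_neg]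

theorem hh_val {k l : J} (h1 : k ≠ l) (h2 : k ≠ ν l) :
    ((C.ddata.hh k l (-1) : Rˣ) : R) = 1 - 2 * (C.X k l * C.X l k + C.X l k * C.X k l) := by
  have h3 : l ≠ ν k := fun e => h2 (by rw [e, C.nu_nu])
  unfold DData.hh
  rw [Units.val_mul, w_val]
  exact weyl_sq _ _ (C.X_sq k l) (C.X_sq l k) (C.X_self_rel h1 h2) (C.X_self_rel h1.symm h3)

/-- the torus elements at `-1` of two orthogonal roots `e_k - e_l`, `e_k + e_l` are opposite -/
theorem hh_opp {k l : J} (h1 : k ≠ l) (h2 : k ≠ ν l) :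
    C.ddata.hh k (ν l) (-1) = -C.ddata.hh k l (-1) := by
  have h3 : l ≠ ν k := fun e => h2 (by rw [e, C.nu_nu])
  have h4 : k ≠ ν (ν l) := by rw [C.nu_nu]; exact h1
  have hnk : ν k ≠ ν l := fun e => h1 (C.nu_inj e)
  apply Units.ext
  rw [Units.val_neg, C.hh_val h2 h4, C.hh_val h1 h2, C.X_ne h2, C.X_ne h2.symm, C.X_ne h1,
    C.X_ne h1.symm, C.nu_nu]
  have hO : C.a (ν l) * C.a l + C.a l * C.a (ν l) = 1 := by
    rw [add_comm]; exact C.a_pair l
  have hO2 := C.a_pair l
  have hP := C.a_pair k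
  have g1 : C.a l * C.a (ν k) + C.a (ν k) * C.a l = 0 := by
    rw [C.a_anti l (ν k) hnk, neg_add_cancel]
  have g2 : C.a l * C.a k + C.a k * C.a l = 0 := by
    rw [C.a_anti l k h2, neg_add_cancel]
  have g3 : C.a (ν l) * C.a (ν k) + C.a (ν k) * C.a (ν l) = 0 := by
    rw [C.a_anti (ν l) (ν k) (by rw [C.nu_nu]; exact fun e => h3 e.symm), neg_add_cancel]
  have g4 : C.a (ν l) * C.a k + C.a k * C.a (ν l) = 0 := by
    rw [C.a_anti (ν l) k (by rw [C.nu_nu]; exact h1), neg_add_cancel]
  have key := spin_sum (C.a k) (C.a (ν k)) (C.a l) (C.a (ν l)) hO hO2 hP g1 g2 g3 g4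
  have hE : C.a k * C.a l * (C.a (ν l) * C.a (ν k)) + C.a (ν l) * C.a (ν k) * (C.a k * C.a l) =
      1 - (C.a k * C.a (ν l) * (C.a l * C.a (ν k)) + C.a l * C.a (ν k) * (C.a k * C.a (ν l))) := by
    linear_combination (norm := noncomm_ring) key
  rw [hE]
  noncomm_ring

theorem spin_eq {k l : J} (h1 : k ≠ l) (h2 : k ≠ ν l) :
    C.ddata.hh k (ν l) (-1) * (C.ddata.hh k l (-1))⁻¹ = -1 := by
  rw [C.hh_opp h1 h2, neg_mul, mul_inv_cancel]

end CliffFam

section clifford
variable {n : ℕ} {K : Type*} [Field K]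

/-- the Clifford family of the Clifford algebra of the hyperbolic space -/
noncomputable def cliffFam (n : ℕ) (K : Type*) [Field K] :
    CliffFam (Fin n ⊕ Fin n) K (CliffordAlgebra (QP n K)) Sum.swap where
  nu_nu := Sum.swap_swap
  nu_ne := swap_ne
  a := fun x => CliffordAlgebra.ι (QP n K) (ev x : Fin n ⊕ Fin n → K)
  a_sq := fun x => by rw [CliffordAlgebra.ι_sq_scalar, Q_ev, map_zero]
  a_anti := fun x y h => by
    have := CliffordAlgebra.ι_mul_ι_add_swap (Q := QP n K) (ev x : Fin n ⊕ Fin n → K) (ev y)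
    rw [polar_ev_ne h, map_zero] at this
    exact eq_neg_of_add_eq_zero_left this
  a_pair := fun x => by
    have := CliffordAlgebra.ι_mul_ι_add_swap (Q := QP n K) (ev x : Fin n ⊕ Fin n → K)
      (ev (Sum.swap x))
    rw [polar_ev_swap, map_one] at this
    exact this

/-- the standard Steinberg data of type `D_n` over `K` -/
noncomputable abbrev sD (n : ℕ) (K : Type*) [Field K] :
    DData (Fin n ⊕ Fin n) K (StD (Fin n ⊕ Fin n) K Sum.swap) Sum.swap :=
  stdD Sum.swap_swap swap_ne

/-- the spin element is not trivial in odd characteristic -/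
theorem spin_ne_one (h2 : (2 : K) ≠ 0) {p o : Fin n} (hpo : p ≠ o) :
    (sD n K).hh (Sum.inl p) (Sum.inr o) (-1) * ((sD n K).hh (Sum.inl p) (Sum.inl o) (-1))⁻¹ ≠ 1 := by
  intro h
  haveI : Invertible (2 : K) := invertibleOfNonzero h2
  have hf : ∀ k l t, liftD (cliffFam n K).ddata ((sD n K).y k l t) = (cliffFam n K).ddata.y k l t :=
    fun k l t => liftD_sy (cliffFam n K).ddata k l t
  have h1 := congrArg (liftD (cliffFam n K).ddata) h
  rw [map_mul, map_inv, map_hh (sD n K) (cliffFam n K).ddata _ hf,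
    map_hh (sD n K) (cliffFam n K).ddata _ hf, map_one] at h1
  have h3 := (cliffFam n K).spin_eq (k := Sum.inl p) (l := Sum.inl o)
    (fun e => hpo (Sum.inl.inj e)) (by simp)
  have h4 : (-1 : (CliffordAlgebra (QP n K))ˣ) = 1 := h3.symm.trans h1
  have h5 : (-1 : CliffordAlgebra (QP n K)) = 1 := by
    have := congrArg Units.val h4
    simpa using this
  have h6 : (2 : CliffordAlgebra (QP n K)) = 0 := by
    have e : (2 : CliffordAlgebra (QP n K)) = 1 + 1 := by norm_num
    rw [e]
    nth_rewrite 1 [← h5]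
    exact neg_add_cancel 1
  have h7 : (1 : CliffordAlgebra (QP n K)) = 0 := by
    calc (1 : CliffordAlgebra (QP n K)) = algebraMap K _ (⅟2 * 2) := by
          rw [invOf_mul_self, map_one]
      _ = algebraMap K _ (⅟2) * 2 := by rw [map_mul, map_ofNat]
      _ = 0 := by rw [h6, mul_zero]
  exact one_ne_zero h7

end clifford

end Cfsg.Agent.Lib.Helper3.DS
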