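import Cfsg.Agent.Lib.Helper3.DS15
import Cfsg.Agent.Lib.Helper3.StU1

/-!
# The Steinberg group of type `D_n` covers `PΩ⁺_{2n}`: the kernel
-/

set_option linter.unusedSectionVars false
set_option linter.unusedVariables false
set_option linter.unusedSimpArgs false

namespace Cfsg.Agent.Lib.Helper3.DS

open Matrix Cfsg.Agent.Lib.Helper2 Cfsg.Agent.Lib.Helper2.LongRoot Cfsg.Agent.Lib.Helper2.CDG
  Cfsg.Agent.Lib.Helper2.Siegel Cfsg.Agent.Lib.Helper2.ReflGen Cfsg.Agent.Lib.Helper5.QuadGlue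
  Cfsg.Agent.Lib.Helper5.Stb Cfsg.Agent.Lib.Helper3.DN Cfsg.Agent.Lib.Helper3.StU

universe u

section cover
variable {F : Type u} [Field F] [Fintype F] {n : ℕ}

/-- the homomorphism from the Steinberg group to the isometry group -/
noncomputable def theta0 (n : ℕ) (F : Type u) [Field F] :
    StD (Fin n ⊕ Fin n) F Sum.swap →* ↥(Cfsg.isometryGroup F ⇑(QP n F)) :=
  liftD (Dhat n F)

theorem theta0_sy (k l : Fin n ⊕ Fin n) (t : F) : theta0 n F (sy k l t) = yhat k l t := by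
  rw [theta0, liftD_sy, Dhat_y]

/-- the natural representation of the Steinberg group -/
noncomputable def phiD (n : ℕ) (F : Type u) [Field F] :
    StD (Fin n ⊕ Fin n) F Sum.swap →* Matrix (Fin n ⊕ Fin n) (Fin n ⊕ Fin n) F :=
  (Units.coeHom (Matrix (Fin n ⊕ Fin n) (Fin n ⊕ Fin n) F)).comp
    ((Subgroup.subtype (Cfsg.isometryGroup F ⇑(QP n F))).comp (theta0 n F))

theorem phiD_rep : IsRepD (sD n F) (phiD n F) := by
  intro k l t hkl hkl' x
  show ((theta0 n F (sy k l t) : Matrix.GeneralLinearGroup (Fin n ⊕ Fin n) F) :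
    Matrix (Fin n ⊕ Fin n) (Fin n ⊕ Fin n) F) *ᵥ x = _
  rw [theta0_sy]
  exact yhat_mulVec hkl hkl' t x

theorem sD_gen : (sD n F).Gen := stdD_gen Sum.swap_swap swap_ne

theorem theta0_range (hn : 4 ≤ n) : (theta0 n F).range = Cfsg.Omega F ⇑(QP n F) := by
  have hcard : 7 ≤ Fintype.card (Fin n ⊕ Fin n) := by
    rw [Fintype.card_sum, Fintype.card_fin]; omega
  rw [← T_eq_Omega (QuadStd.QP_nondeg (F := F) n) hcard, ← YP_eq_T]
  apply le_antisymm
  · rintro _ ⟨s, rfl⟩
    have hs : s ∈ Subgroup.closure {g | ∃ k l t, g = (sD n F).y k l t} := by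
      rw [show Subgroup.closure {g | ∃ k l t, g = (sD n F).y k l t} = ⊤ from sD_gen]
      trivial
    induction hs using Subgroup.closure_induction with
    | mem y hy =>
      obtain ⟨k, l, t, rfl⟩ := hy
      show theta0 n F (sy k l t) ∈ _
      rw [theta0_sy]
      exact yhat_mem_YP k l t
    | one => rw [map_one]; exact one_mem _
    | mul a b _ _ ha hb => rw [map_mul]; exact mul_mem ha hb
    | inv a _ ha => rw [map_inv]; exact inv_mem ha
  · unfold YP
    rw [Subgroup.closure_le]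
    rintro g ⟨k, l, t, -, -, rfl⟩
    exact ⟨sy k l t, theta0_sy k l t⟩

/-- the homomorphism onto `Ω⁺` -/
noncomputable def theta1 (hn : 4 ≤ n) :
    StD (Fin n ⊕ Fin n) F Sum.swap →* ↥(Cfsg.Omega F ⇑(QP n F)) :=
  (theta0 n F).codRestrict _ (fun s => by rw [← theta0_range hn]; exact ⟨s, rfl⟩)

theorem theta1_surj (hn : 4 ≤ n) : Function.Surjective (theta1 (F := F) hn) := by
  rintro ⟨w, hw⟩
  rw [← theta0_range hn] at hw
  obtain ⟨s, rfl⟩ := hw
  exact ⟨s, rfl⟩

theorem phiD_theta1 (hn : 4 ≤ n) (g : StD (Fin n ⊕ Fin n) F Sum.swap) :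
    phiD n F g = (((theta1 (F := F) hn g : ↥(Cfsg.Omega F ⇑(QP n F))) :
      ↥(Cfsg.isometryGroup F ⇑(QP n F))) : Matrix.GeneralLinearGroup (Fin n ⊕ Fin n) F) := rfl

/-- the homomorphism onto `PΩ⁺` -/
noncomputable def theta (hn : 4 ≤ n) : StD (Fin n ⊕ Fin n) F Sum.swap →*
    ↥(Cfsg.Omega F ⇑(QP n F)) ⧸ Subgroup.center ↥(Cfsg.Omega F ⇑(QP n F)) :=
  (QuotientGroup.mk' (Subgroup.center ↥(Cfsg.Omega F ⇑(QP n F)))).comp (theta1 hn)

theorem theta_surj (hn : 4 ≤ n) : Function.Surjective (theta (F := F) hn) :=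
  (QuotientGroup.mk'_surjective _).comp (theta1_surj hn)

theorem sD_perfect (hn : 4 ≤ n) : commutator (StD (Fin n ⊕ Fin n) F Sum.swap) = ⊤ :=
  stD_perfect Sum.swap_swap swap_ne (hc_sum (by omega))

theorem theta1_ker_le (hn : 4 ≤ n) :
    (theta1 (F := F) hn).ker ≤ Subgroup.center (StD (Fin n ⊕ Fin n) F Sum.swap) := by
  intro g hg
  rw [Subgroup.mem_center_iff]
  intro x
  have h1 : phiD n F g = 1 := by
    rw [phiD_theta1 hn, MonoidHom.mem_ker.1 hg]
    rfl
  exact (ker_central_of_equiv (sD n F) (eD n) (eD_rev n) (by omega) sD_gen (phiD n F) phiD_rep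
    g h1 x).symm

theorem theta_ker_le (hn : 4 ≤ n) :
    (theta (F := F) hn).ker ≤ Subgroup.center (StD (Fin n ⊕ Fin n) F Sum.swap) := by
  apply ker_comp_le_center (theta1 hn) _ (sD_perfect hn) (theta1_ker_le hn)
  rw [QuotientGroup.ker_mk']

/-- the kernel consists of the elements acting as scalars -/
theorem mem_theta_ker (hn : 4 ≤ n) (g : StD (Fin n ⊕ Fin n) F Sum.swap) :
    g ∈ (theta (F := F) hn).ker ↔
      ∃ c : F, phiD n F g = c • (1 : Matrix (Fin n ⊕ Fin n) (Fin n ⊕ Fin n) F) := by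
  constructor
  · intro hg
    exact center_scalar phiD_rep (hc_sum (by omega)) (theta_ker_le hn hg)
  · rintro ⟨c, hc⟩
    rw [MonoidHom.mem_ker]
    show QuotientGroup.mk' _ (theta1 hn g) = 1
    rw [QuotientGroup.mk'_apply, QuotientGroup.eq_one_iff, Subgroup.mem_center_iff]
    intro w
    apply Subtype.ext
    apply Subtype.ext
    apply Units.ext
    rw [phiD_theta1 hn] at hc
    simp only [Subgroup.coe_mul, Units.val_mul]
    rw [hc, Matrix.mul_smul, Matrix.smul_mul, Matrix.mul_one, Matrix.one_mul]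

end cover

end Cfsg.Agent.Lib.Helper3.DS
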