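import Cfsg.Agent.Lib.Helper3.DS16

/-!
# The kernel of the covering `St(D_n) → PΩ⁺_{2n}` in terms of the torus parameters
-/

set_option linter.unusedSectionVars false
set_option linter.unusedVariables false
set_option linter.unusedSimpArgs false

namespace Cfsg.Agent.Lib.Helper3.DS

open Matrix Cfsg.Agent.Lib.Helper5.QuadGlue
  Cfsg.Agent.Lib.Helper5.Stb Cfsg.Agent.Lib.Helper3.DN Cfsg.Agent.Lib.Helper3.StU

universe u

section param
variable {F : Type u} [Field F] [Fintype F] {n : ℕ} (hn : 4 ≤ n) (o p : Fin n) (hop : o ≠ p)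

/-- the parametrisation of the torus of the Steinberg group -/
noncomputable def etaS : (Fin n → Fˣ) →* StD (Fin n ⊕ Fin n) F Sum.swap :=
  (sD n F).eta (hc_sum (by omega : 3 ≤ n)) o p hop

theorem rep_etaS (t : Fin n → Fˣ) (x : Fin n ⊕ Fin n) :
    phiD n F (etaS hn o p hop t) *ᵥ (ev x : Fin n ⊕ Fin n → F) =
      DData.eig o t x • (ev x : Fin n ⊕ Fin n → F) :=
  (sD n F).rep_eta (hc_sum (by omega : 3 ≤ n)) o p hop phiD_rep t x

theorem mem_ker_iff_param (g : StD (Fin n ⊕ Fin n) F Sum.swap) :
    g ∈ (theta (F := F) hn).ker ↔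
      ∃ t : Fin n → Fˣ, etaS hn o p hop t = g ∧ ∃ c : F, ∀ x, DData.eig o t x = c := by
  rw [mem_theta_ker]
  constructor
  · rintro ⟨c, hc⟩
    have hg : g ∈ (sD n F).HJ :=
      scalar_mem_HJ_of_equiv (sD n F) (eD n) (eD_rev n) (by omega) sD_gen (phiD n F) phiD_rep
        g c hc
    obtain ⟨t, rfl⟩ := (sD n F).exists_eta_of_mem_HJ (hc_sum (by omega : 3 ≤ n)) o p hop hg
    refine ⟨t, rfl, c, fun x => ?_⟩
    have h1 := rep_etaS hn o p hop t x
    have h0 : (sD n F).eta (hc_sum (by omega : 3 ≤ n)) o p hop t = etaS hn o p hop t := rfl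
    rw [h0] at hc
    rw [hc, Matrix.smul_mulVec, Matrix.one_mulVec] at h1
    have h2 := congrFun h1 x
    simp only [Pi.smul_apply, ev, Pi.single_eq_same, smul_eq_mul, mul_one] at h2
    exact h2.symm
  · rintro ⟨t, rfl, c, hc⟩
    refine ⟨c, ?_⟩
    apply mat_eq_smul_of_cols
    intro x
    rw [rep_etaS, hc x]

end param

section prods
variable {F : Type u} [Field F] {n : ℕ}

theorem prod_ite_const (o : Fin n) (a b : F) :
    ∏ i : Fin n, (if i = o then a else b) = a * b ^ (n - 1) := by
  rw [← Finset.mul_prod_erase Finset.univ _ (Finset.mem_univ o), if_pos rfl]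
  congr 1
  rw [Finset.prod_congr rfl (g := fun _ => b)]
  · rw [Finset.prod_const, Finset.card_erase_of_mem (Finset.mem_univ o), Finset.card_univ,
      Fintype.card_fin]
  · intro i hi
    rw [if_neg (Finset.ne_of_mem_erase hi)]

/-- the parameters of the torus elements acting as scalars -/
theorem eig_const_iff (hn : 2 ≤ n) (o p : Fin n) (hop : o ≠ p) (t : Fin n → Fˣ) :
    (∃ c : F, ∀ x, DData.eig o t x = c) ↔
      (t p ^ 2 = 1 ∧ (∀ j, j ≠ o → t j = t p) ∧ t o ^ 2 = t p ^ n) := by
  constructor
  · rintro ⟨c, hc⟩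
    have hp : (t p : F) = c := by rw [← eig_inl o t hop.symm]; exact hc _
    have hj : ∀ j, j ≠ o → t j = t p := by
      intro j hj
      apply Units.ext
      rw [hp, ← eig_inl o t hj]
      exact hc _
    have hc0 : c ≠ 0 := by rw [← hp]; exact (t p).ne_zero
    have hinv : c⁻¹ = c := by
      have h1 := eig_inr o t p
      rw [hc, hc] at h1
      exact h1.symm
    have hcc : c * c = 1 := by
      nth_rewrite 1 [← hinv]
      exact inv_mul_cancel₀ hc0
    have h2 : t p ^ 2 = 1 := by
      apply Units.ext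
      rw [Units.val_pow_eq_pow_val, hp, Units.val_one, pow_two, hcc]
    refine ⟨h2, hj, ?_⟩
    have h3 := hc (Sum.inl o)
    rw [eig_inl_o] at h3
    have h4 : ∏ i : Fin n, (if i = o then (t o : F) ^ 2 else ((t i : F))⁻¹) =
        ∏ i : Fin n, (if i = o then (t o : F) ^ 2 else c⁻¹) := by
      apply Finset.prod_congr rfl
      intro i _
      by_cases hi : i = o
      · rw [if_pos hi, if_pos hi]
      · rw [if_neg hi, if_neg hi, hj i hi, hp]
    rw [h4, prod_ite_const, hinv] at h3
    apply Units.ext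
    rw [Units.val_pow_eq_pow_val, Units.val_pow_eq_pow_val, hp]
    have h5 : c ^ (n - 1) * c ^ (n - 1) = 1 := by
      rw [← mul_pow, hcc, one_pow]
    calc (t o : F) ^ 2 = (t o : F) ^ 2 * (c ^ (n - 1) * c ^ (n - 1)) := by rw [h5, mul_one]
      _ = ((t o : F) ^ 2 * c ^ (n - 1)) * c ^ (n - 1) := by ring
      _ = c * c ^ (n - 1) := by rw [h3]
      _ = c ^ n := by
        rw [← pow_succ']
        congr 1
        omega
  · rintro ⟨h2, hj, h3⟩
    have hcc : (t p : F) * (t p : F) = 1 := by
      have := congrArg Units.val h2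
      rwa [Units.val_pow_eq_pow_val, Units.val_one, pow_two] at this
    have hc0 : (t p : F) ≠ 0 := (t p).ne_zero
    have hinv : ((t p : F))⁻¹ = (t p : F) := by
      rw [inv_eq_iff_eq_inv]
      exact eq_inv_of_mul_eq_one_left hcc
    have hl : ∀ j, DData.eig o t (Sum.inl j) = (t p : F) := by
      intro j
      by_cases hjo : j = o
      · rw [hjo, eig_inl_o]
        have h4 : ∏ i : Fin n, (if i = o then (t o : F) ^ 2 else ((t i : F))⁻¹) =
            ∏ i : Fin n, (if i = o then (t o : F) ^ 2 else ((t p : F))⁻¹) := by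
          apply Finset.prod_congr rfl
          intro i _
          by_cases hi : i = o
          · rw [if_pos hi, if_pos hi]
          · rw [if_neg hi, if_neg hi, hj i hi]
        rw [h4, prod_ite_const, hinv]
        have h5 := congrArg Units.val h3
        rw [Units.val_pow_eq_pow_val, Units.val_pow_eq_pow_val] at h5
        rw [h5]
        have h6 : (t p : F) ^ (n - 1) * (t p : F) ^ (n - 1) = 1 := by
          rw [← mul_pow, hcc, one_pow]
        have h7 : (t p : F) ^ n = (t p : F) * (t p : F) ^ (n - 1) := by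
          rw [← pow_succ']
          congr 1
          omega
        rw [h7, mul_assoc, h6, mul_one]
      · rw [eig_inl o t hjo, hj j hjo]
    refine ⟨(t p : F), fun x => ?_⟩
    rcases x with j | j
    · exact hl j
    · rw [eig_inr, hl j, hinv]

end prods

end Cfsg.Agent.Lib.Helper3.DS
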