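import Cfsg.Agent.Lib.Helper3.DS17
import Cfsg.Agent.Lib.Helper3.StS5

/-!
# The Schur multiplier of `PΩ⁺_{2n}(q)`, `n ≥ 5` odd
-/

set_option linter.unusedSectionVars false
set_option linter.unusedVariables false
set_option linter.unusedSimpArgs false

namespace Cfsg.Agent.Lib.Helper3.DS

open Matrix Cfsg.Agent.Lib.Helper5.QuadGlue
  Cfsg.Agent.Lib.Helper5.Stb Cfsg.Agent.Lib.Helper3.DN Cfsg.Agent.Lib.Helper3.StU

universe u

section arith

theorem odd_pow_form {m : ℕ} (hm : Even m) (k : ℕ) :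
    ∃ s, Odd s ∧ (m + 1) ^ (2 * k + 1) = m * s + 1 := by
  induction k with
  | zero => exact ⟨1, odd_one, by ring⟩
  | succ k ih =>
    obtain ⟨s, hs, e⟩ := ih
    refine ⟨(m + 1) ^ 2 * s + (m + 2), ?_, ?_⟩
    · have h1 : Odd ((m + 1) ^ 2) := (hm.add_one).pow
      have h2 : Even (m + 2) := hm.add even_two
      exact (h1.mul hs).add_even h2
    · have : (m + 1) ^ (2 * (k + 1) + 1) = (m + 1) ^ 2 * (m + 1) ^ (2 * k + 1) := by ring
      rw [this, e]
      ring

theorem gcd_four_odd {s : ℕ} (hs : Odd s) : Nat.Coprime s 4 := by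
  have h : Nat.Coprime s 2 := (Nat.coprime_two_left.mpr hs).symm
  exact Nat.Coprime.pow_right 2 h

theorem gcd_pow_odd {q n : ℕ} (hq : 1 ≤ q) (hn : Odd n) :
    Nat.gcd 4 (q ^ n - 1) = Nat.gcd 4 (q - 1) := by
  obtain ⟨k, rfl⟩ := hn
  obtain ⟨m, rfl⟩ : ∃ m, q = m + 1 := ⟨q - 1, by omega⟩
  rw [Nat.add_sub_cancel]
  rcases Nat.even_or_odd m with hm | hm
  · obtain ⟨s, hs, e⟩ := odd_pow_form hm k
    rw [e, Nat.add_sub_cancel]
    exact Nat.Coprime.gcd_mul_right_cancel_right m (gcd_four_odd hs)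
  · have h1 : Odd ((m + 1) ^ (2 * k + 1) - 1) := by
      have h2 : Even ((m + 1) ^ (2 * k + 1)) := Nat.even_pow.mpr ⟨hm.add_one, by omega⟩
      have h3 : 1 ≤ (m + 1) ^ (2 * k + 1) := Nat.one_le_pow _ _ (by omega)
      exact Nat.Even.sub_odd h3 h2 odd_one
    rw [(gcd_four_odd h1).symm.gcd_eq_one, (gcd_four_odd hm).symm.gcd_eq_one]

end arith

section odd
variable {F : Type u} [Field F] [Fintype F] {n : ℕ} (hn : 4 ≤ n) (o p : Fin n) (hop : o ≠ p)

/-- the fourth roots of unity -/
abbrev mu4 (F : Type u) [Field F] : Subgroup Fˣ := (powMonoidHom 4 : Fˣ →* Fˣ).ker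

theorem mem_mu4 (x : Fˣ) : x ∈ mu4 F ↔ x ^ 4 = 1 := by
  rw [MonoidHom.mem_ker, powMonoidHom_apply]

/-- the parameters of the kernel -/
def tau (o : Fin n) : Fˣ →* (Fin n → Fˣ) where
  toFun x := fun i => if i = o then x else x ^ 2
  map_one' := by
    funext i
    by_cases h : i = o <;> simp [h]
  map_mul' x y := by
    funext i
    by_cases h : i = o <;> simp [h, mul_pow]

theorem tau_o (x : Fˣ) : tau o x o = x := by simp [tau]

theorem tau_ne (x : Fˣ) {i : Fin n} (h : i ≠ o) : tau o x i = x ^ 2 := by simp [tau, h]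

/-- the homomorphism from the fourth roots of unity to the kernel -/
noncomputable def rho : ↥(mu4 F) →* StD (Fin n ⊕ Fin n) F Sum.swap :=
  ((etaS hn o p hop).comp (tau o)).comp (mu4 F).subtype

theorem rho_apply (x : ↥(mu4 F)) : rho hn o p hop x = etaS hn o p hop (tau o (x : Fˣ)) := rfl

theorem rho_range (hodd : Odd n) : (rho (F := F) hn o p hop).range = (theta (F := F) hn).ker := by
  obtain ⟨k, hk⟩ := hodd
  ext g
  rw [mem_ker_iff_param hn o p hop]
  constructor
  · rintro ⟨x, rfl⟩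
    refine ⟨tau o (x : Fˣ), rfl, ?_⟩
    rw [eig_const_iff (by omega) o p hop]
    have hx : (x : Fˣ) ^ 4 = 1 := (mem_mu4 _).1 x.2
    refine ⟨?_, ?_, ?_⟩
    · rw [tau_ne o _ hop.symm, ← pow_mul]
      exact hx
    · intro j hj
      rw [tau_ne o _ hj, tau_ne o _ hop.symm]
    · rw [tau_o, tau_ne o _ hop.symm, ← pow_mul, hk]
      have : 2 * (2 * k + 1) = 4 * k + 2 := by ring
      rw [this, pow_add, pow_mul, hx, one_pow, one_mul]
  · rintro ⟨t, rfl, hc⟩
    rw [eig_const_iff (by omega) o p hop] at hc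
    obtain ⟨h1, h2, h3⟩ := hc
    have hpn : t p ^ n = t p := by
      rw [hk, pow_succ, pow_mul, h1, one_pow, one_mul]
    rw [hpn] at h3
    have hx : t o ∈ mu4 F := by
      rw [mem_mu4]
      have : (4 : ℕ) = 2 * 2 := rfl
      rw [this, pow_mul, h3, h1]
    refine ⟨⟨t o, hx⟩, ?_⟩
    rw [rho_apply]
    congr 1
    funext i
    by_cases hi : i = o
    · rw [hi, tau_o]
    · rw [tau_ne o _ hi, h2 i hi]
      exact h3

theorem rho_injective : Function.Injective (rho (F := F) hn o p hop) := by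
  rw [injective_iff_map_eq_one]
  intro x hx
  rw [rho_apply] at hx
  -- all eigenvalues are one
  have h1 : ∀ y, DData.eig o (tau o (x : Fˣ)) y = 1 := by
    intro y
    have h := rep_etaS hn o p hop (tau o (x : Fˣ)) y
    rw [hx, map_one, Matrix.one_mulVec] at h
    have h2 := congrFun h y
    simp only [Pi.smul_apply, ev, Pi.single_eq_same, smul_eq_mul, mul_one] at h2
    exact h2.symm
  have h2 : ((x : Fˣ) : F) ^ 2 = 1 := by
    have := h1 (Sum.inl p)
    rw [eig_inl o _ hop.symm, tau_ne o _ hop.symm, Units.val_pow_eq_pow_val] at this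
    exact this
  have h2' : (x : Fˣ) ^ 2 = 1 := by
    apply Units.ext
    rw [Units.val_pow_eq_pow_val, h2, Units.val_one]
  have h4 : (((x : Fˣ) : F) - 1) * (((x : Fˣ) : F) + 1) = 0 := by
    linear_combination h2
  rcases mul_eq_zero.mp h4 with h3 | h3
  · apply Subtype.ext
    apply Units.ext
    rw [Subgroup.coe_one, Units.val_one]
    linear_combination h3
  · by_cases h20 : (2 : F) = 0
    · apply Subtype.ext
      apply Units.ext
      rw [Subgroup.coe_one, Units.val_one]
      linear_combination h3 - h20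
    · exfalso
      have hx1 : ((x : Fˣ) : F) = -1 := by linear_combination h3
      have hxu : (x : Fˣ) = -1 := by
        apply Units.ext
        rw [hx1, Units.val_neg, Units.val_one]
      have htau : tau o (x : Fˣ) = Pi.mulSingle o (x : Fˣ) := by
        funext i
        by_cases hi : i = o
        · rw [hi, tau_o, Pi.mulSingle_eq_same]
        · rw [tau_ne o _ hi, Pi.mulSingle_eq_of_ne hi, h2']
      rw [htau] at hx
      unfold etaS DData.eta at hx
      rw [MonoidHom.noncommPiCoprod_mulSingle, DData.chi_o, DData.chiZ_apply, hx1] at hx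
      exact spin_ne_one h20 hop.symm hx

end odd

end Cfsg.Agent.Lib.Helper3.DS
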