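import Cfsg.Agent.Lib.Helper3.DS18

/-!
# The Schur multiplier of `PΩ⁺_{2n}(q)`, `n ≥ 5` odd: the final statement
-/

set_option linter.unusedSectionVars false
set_option linter.unusedVariables false
set_option linter.unusedSimpArgs false

namespace Cfsg.Agent.Lib.Helper3.DS

open Matrix Cfsg.Agent.Lib.Helper5.QuadGlue
  Cfsg.Agent.Lib.Helper5.Stb Cfsg.Agent.Lib.Helper3.DN Cfsg.Agent.Lib.Helper3.StU

universe u

section final
variable {F : Type u} [Field F] [Fintype F] {n : ℕ}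

/-- the kernel is isomorphic to the group of fourth roots of unity -/
noncomputable def kerEquiv (hn : 4 ≤ n) (hodd : Odd n) (o p : Fin n) (hop : o ≠ p) :
    ↥(mu4 F) ≃* ↥(theta (F := F) hn).ker :=
  (MonoidHom.ofInjective (rho_injective hn o p hop)).trans
    (MulEquiv.subgroupCongr (rho_range hn o p hop hodd))

theorem card_mu4 : Nat.card ↥(mu4 F) = Nat.gcd 4 (Fintype.card F - 1) := by
  rw [IsCyclic.card_powMonoidHom_ker, Nat.card_units, Nat.card_eq_fintype_card, Nat.gcd_comm]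

theorem multiplier_odd (hn : 5 ≤ n) (hodd : Odd n) :
    Cfsg.HasCyclicSchurMultiplier
      (↥(Cfsg.Omega F ⇑(QP n F)) ⧸ Subgroup.center ↥(Cfsg.Omega F ⇑(QP n F)))
      (Nat.gcd 4 (Fintype.card F ^ n - 1)) := by
  have hn4 : 4 ≤ n := by omega
  obtain ⟨o, p, hop⟩ : ∃ o p : Fin n, o ≠ p :=
    ⟨⟨0, by omega⟩, ⟨1, by omega⟩, by simp [Fin.ext_iff]⟩
  let e := kerEquiv (F := F) hn4 hodd o p hop
  haveI : Finite ↥(theta (F := F) hn4).ker := Finite.of_equiv _ e.toEquiv
  haveI : Finite (StD (Fin n ⊕ Fin n) F Sum.swap) := StS.finite_of_ker_finite (theta hn4)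
  have hcyc : IsCyclic ↥(theta (F := F) hn4).ker :=
    isCyclic_of_surjective e.toMonoidHom e.surjective
  have hcard : Nat.card ↥(theta (F := F) hn4).ker = Nat.gcd 4 (Fintype.card F ^ n - 1) := by
    rw [← Nat.card_congr e.toEquiv, card_mu4, gcd_pow_odd Fintype.card_pos hodd]
  refine StS.hasCyclicSchurMultiplier_of_cover (theta hn4) (theta_surj hn4) (theta_ker_le hn4)
    (sD_perfect hn4) _ hcyc hcard ?_
  intro Γ _ _ σ hσ
  obtain ⟨τ, hτ, -⟩ := existsUnique_lift (sD_perfect (F := F) hn4)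
    (fun E' _ ψ' hs hc => stD_split Sum.swap_swap swap_ne (fresh_sum hn) ψ' hs hc)
    σ hσ.1 hσ.2.1 (theta hn4)
  exact ⟨τ, hτ⟩

end final

end Cfsg.Agent.Lib.Helper3.DS
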