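import Cfsg.Agent.Lib.Helper3.DS19

/-!
# The Schur multiplier of `PΩ⁺_{2n}(q)`, `n` even: the kernel of the covering
-/

set_option linter.unusedSectionVars false
set_option linter.unusedVariables false
set_option linter.unusedSimpArgs false

namespace Cfsg.Agent.Lib.Helper3.DS

open Matrix Cfsg.Agent.Lib.Helper5.QuadGlue
  Cfsg.Agent.Lib.Helper5.Stb Cfsg.Agent.Lib.Helper3.DN Cfsg.Agent.Lib.Helper3.StU
open scoped commutatorElement

universe u v

/-- A finite perfect central extension through which every stem extension factors gives the Schur multiplier. -/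
theorem hasSchurMultiplier_of_cover {G : Type u} [Group G] {Γ₀ : Type u} [Group Γ₀] [Finite Γ₀]
    (θ : Γ₀ →* G) (hθ : Function.Surjective θ) (hker : θ.ker ≤ Subgroup.center Γ₀)
    (hperf : commutator Γ₀ = ⊤) {A : Type v} [CommGroup A] (e₀ : A ≃* θ.ker)
    (hlift : ∀ (Γ : Type u) [Group Γ] [Finite Γ] (σ : Γ →* G), Cfsg.IsStemExtension σ →
      ∃ τ : Γ₀ →* Γ, σ.comp τ = θ) :
    Cfsg.HasSchurMultiplier G A := by
  refine ⟨⟨Γ₀, inferInstance, inferInstance, θ, ⟨hθ, hker, ?_⟩, ⟨e₀.symm⟩⟩, ?_⟩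
  · rw [hperf]; exact le_top
  · intro Γ _ _ σ hσ
    obtain ⟨τ, hτ⟩ := hlift Γ σ hσ
    obtain ⟨hsurj, hcen, hcomm⟩ := hσ
    have hτ' : ∀ d, σ (τ d) = θ d := fun d => DFunLike.congr_fun hτ d
    have hdec : ∀ γ : Γ, ∃ k ∈ σ.ker, ∃ d : Γ₀, γ = k * τ d := by
      intro γ
      obtain ⟨d, hd⟩ := hθ (σ γ)
      refine ⟨γ * (τ d)⁻¹, ?_, d, by group⟩
      rw [MonoidHom.mem_ker, map_mul, map_inv, hτ', hd, mul_inv_cancel]
    have hle : commutator Γ ≤ τ.range := by
      rw [commutator_eq_closure, Subgroup.closure_le]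
      rintro _ ⟨a, b, rfl⟩
      obtain ⟨k, hk, d, rfl⟩ := hdec a
      obtain ⟨k', hk', d', rfl⟩ := hdec b
      have e : ⁅k * τ d, k' * τ d'⁆ = ⁅τ d, τ d'⁆ := by
        apply comm_congr σ hcen
        · rw [map_mul, MonoidHom.mem_ker.mp hk, one_mul]
        · rw [map_mul, MonoidHom.mem_ker.mp hk', one_mul]
      rw [e, ← map_commutatorElement]
      exact ⟨_, rfl⟩
    let ρ : θ.ker →* σ.ker :=
      { toFun := fun d => ⟨τ d.1, by
          rw [MonoidHom.mem_ker, hτ']
          exact MonoidHom.mem_ker.mp d.2⟩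
        map_one' := by
          apply Subtype.ext
          show τ 1 = 1
          exact map_one τ
        map_mul' := by
          intro a b
          apply Subtype.ext
          show τ (a.1 * b.1) = τ a.1 * τ b.1
          exact map_mul τ _ _ }
    refine ⟨ρ.comp e₀.toMonoidHom, ?_⟩
    intro z
    obtain ⟨d, hd⟩ := hle (hcomm z.2)
    have hdk : d ∈ θ.ker := by
      rw [MonoidHom.mem_ker, ← hτ', hd]
      exact MonoidHom.mem_ker.mp z.2
    refine ⟨e₀.symm ⟨d, hdk⟩, ?_⟩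
    apply Subtype.ext
    show τ ((e₀ (e₀.symm ⟨d, hdk⟩) : θ.ker) : Γ₀) = z.1
    rw [MulEquiv.apply_symm_apply]
    exact hd

section even
variable {F : Type u} [Field F] [Fintype F] {n : ℕ} (hn : 4 ≤ n) (o p : Fin n) (hop : o ≠ p)

/-- the square roots of unity -/
abbrev mu2 (F : Type u) [Field F] : Subgroup Fˣ := (powMonoidHom 2 : Fˣ →* Fˣ).ker

theorem mem_mu2 (x : Fˣ) : x ∈ mu2 F ↔ x ^ 2 = 1 := by
  rw [MonoidHom.mem_ker, powMonoidHom_apply]

/-- the parameters of the kernel -/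
def tau2 (o : Fin n) : Fˣ × Fˣ →* (Fin n → Fˣ) where
  toFun x := fun i => if i = o then x.2 else x.1
  map_one' := by
    funext i
    by_cases h : i = o <;> simp [h]
  map_mul' x y := by
    funext i
    by_cases h : i = o <;> simp [h]

theorem tau2_o (x : Fˣ × Fˣ) : tau2 o x o = x.2 := by simp [tau2]

theorem tau2_ne (x : Fˣ × Fˣ) {i : Fin n} (h : i ≠ o) : tau2 o x i = x.1 := by simp [tau2, h]

/-- the homomorphism from two copies of the square roots of unity to the kernel -/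
noncomputable def rho2 : ↥(mu2 F) × ↥(mu2 F) →* StD (Fin n ⊕ Fin n) F Sum.swap :=
  ((etaS hn o p hop).comp (tau2 o)).comp (MonoidHom.prodMap (mu2 F).subtype (mu2 F).subtype)

theorem rho2_apply (x : ↥(mu2 F) × ↥(mu2 F)) :
    rho2 hn o p hop x = etaS hn o p hop (tau2 o ((x.1 : Fˣ), (x.2 : Fˣ))) := rfl

theorem rho2_range (heven : Even n) :
    (rho2 (F := F) hn o p hop).range = (theta (F := F) hn).ker := by
  obtain ⟨k, hk⟩ := heven
  ext g
  rw [mem_ker_iff_param hn o p hop]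
  constructor
  · rintro ⟨x, rfl⟩
    refine ⟨tau2 o ((x.1 : Fˣ), (x.2 : Fˣ)), rfl, ?_⟩
    rw [eig_const_iff (by omega) o p hop]
    have hx1 : (x.1 : Fˣ) ^ 2 = 1 := (mem_mu2 _).1 x.1.2
    have hx2 : (x.2 : Fˣ) ^ 2 = 1 := (mem_mu2 _).1 x.2.2
    refine ⟨?_, ?_, ?_⟩
    · rw [tau2_ne o _ hop.symm]
      exact hx1
    · intro j hj
      rw [tau2_ne o _ hj, tau2_ne o _ hop.symm]
    · rw [tau2_o, tau2_ne o _ hop.symm, hk, ← two_mul, pow_mul]
      show (x.2 : Fˣ) ^ 2 = ((x.1 : Fˣ) ^ 2) ^ k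
      rw [hx1, hx2, one_pow]
  · rintro ⟨t, rfl, hc⟩
    rw [eig_const_iff (by omega) o p hop] at hc
    obtain ⟨h1, h2, h3⟩ := hc
    have hpn : t p ^ n = 1 := by
      rw [hk, ← two_mul, pow_mul, h1, one_pow]
    rw [hpn] at h3
    refine ⟨(⟨t p, (mem_mu2 _).2 h1⟩, ⟨t o, (mem_mu2 _).2 h3⟩), ?_⟩
    rw [rho2_apply]
    congr 1
    funext i
    by_cases hi : i = o
    · rw [hi, tau2_o]
    · rw [tau2_ne o _ hi, h2 i hi]

theorem rho2_injective : Function.Injective (rho2 (F := F) hn o p hop) := by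
  rw [injective_iff_map_eq_one]
  intro x hx
  rw [rho2_apply] at hx
  -- all eigenvalues are one
  have h1 : ∀ y, DData.eig o (tau2 o ((x.1 : Fˣ), (x.2 : Fˣ))) y = 1 := by
    intro y
    have h := rep_etaS hn o p hop (tau2 o ((x.1 : Fˣ), (x.2 : Fˣ))) y
    rw [hx, map_one, Matrix.one_mulVec] at h
    have h2 := congrFun h y
    simp only [Pi.smul_apply, ev, Pi.single_eq_same, smul_eq_mul, mul_one] at h2
    exact h2.symm
  have ha : (x.1 : Fˣ) = 1 := by
    have := h1 (Sum.inl p)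
    rw [eig_inl o _ hop.symm, tau2_ne o _ hop.symm] at this
    exact Units.ext this
  have hb2 : ((x.2 : Fˣ) : F) ^ 2 = 1 := by
    have := (mem_mu2 _).1 x.2.2
    rw [← Units.val_pow_eq_pow_val, this, Units.val_one]
  have h4 : (((x.2 : Fˣ) : F) - 1) * (((x.2 : Fˣ) : F) + 1) = 0 := by
    linear_combination hb2
  have hfin : (x.2 : Fˣ) = 1 → x = 1 := by
    intro hb
    apply Prod.ext
    · exact Subtype.ext ha
    · exact Subtype.ext hb
  rcases mul_eq_zero.mp h4 with h3 | h3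
  · apply hfin
    apply Units.ext
    rw [Units.val_one]
    linear_combination h3
  · by_cases h20 : (2 : F) = 0
    · apply hfin
      apply Units.ext
      rw [Units.val_one]
      linear_combination h3 - h20
    · exfalso
      have hx1 : ((x.2 : Fˣ) : F) = -1 := by linear_combination h3
      have htau : tau2 o ((x.1 : Fˣ), (x.2 : Fˣ)) = Pi.mulSingle o (x.2 : Fˣ) := by
        funext i
        by_cases hi : i = o
        · rw [hi, tau2_o, Pi.mulSingle_eq_same]
        · rw [tau2_ne o _ hi, Pi.mulSingle_eq_of_ne hi, ha]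
      rw [htau] at hx
      unfold etaS DData.eta at hx
      rw [MonoidHom.noncommPiCoprod_mulSingle, DData.chi_o, DData.chiZ_apply, hx1] at hx
      exact spin_ne_one h20 hop.symm hx

/-- the kernel is isomorphic to two copies of the group of square roots of unity -/
noncomputable def kerEquiv2 (heven : Even n) :
    (↥(mu2 F) × ↥(mu2 F)) ≃* ↥(theta (F := F) hn).ker :=
  (MonoidHom.ofInjective (rho2_injective hn o p hop)).trans
    (MulEquiv.subgroupCongr (rho2_range hn o p hop heven))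

theorem card_mu2 : Nat.card ↥(mu2 F) = Nat.gcd 2 (Fintype.card F - 1) := by
  rw [IsCyclic.card_powMonoidHom_ker, Nat.card_units, Nat.card_eq_fintype_card, Nat.gcd_comm]

theorem gcd_two_pow {q n : ℕ} (hq : 1 ≤ q) (hn : 1 ≤ n) :
    Nat.gcd 2 (q ^ n - 1) = Nat.gcd 2 (q - 1) := by
  have h1 : 1 ≤ q ^ n := Nat.one_le_pow _ _ hq
  rcases Nat.even_or_odd q with he | ho
  · have h2 : Even (q ^ n) := Nat.even_pow.mpr ⟨he, by omega⟩
    have h3 : Odd (q ^ n - 1) := Nat.Even.sub_odd h1 h2 odd_one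
    have h4 : Odd (q - 1) := Nat.Even.sub_odd hq he odd_one
    rw [(Nat.coprime_two_left.mpr h3).gcd_eq_one, (Nat.coprime_two_left.mpr h4).gcd_eq_one]
  · have h2 : Odd (q ^ n) := ho.pow
    have h3 : Even (q ^ n - 1) := Nat.Odd.sub_odd h2 odd_one
    have h4 : Even (q - 1) := Nat.Odd.sub_odd ho odd_one
    rw [Nat.gcd_eq_left h3.two_dvd, Nat.gcd_eq_left h4.two_dvd]

/-- the abstract form of two copies of the square roots of unity -/
theorem exists_mu2_equiv (g : ℕ) (hg : Nat.card ↥(mu2 F) = g) :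
    Nonempty (Multiplicative (ZMod g × ZMod g) ≃* (↥(mu2 F) × ↥(mu2 F))) := by
  subst hg
  have hcyc : IsCyclic ↥(mu2 F) := inferInstance
  have e₀ : Multiplicative (ZMod (Nat.card ↥(mu2 F))) ≃* ↥(mu2 F) := zmodCyclicMulEquiv hcyc
  exact ⟨(MulEquiv.prodMultiplicative _ _).trans (MulEquiv.prodCongr e₀ e₀)⟩

end even

end Cfsg.Agent.Lib.Helper3.DS
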