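import Mathlib
import Cfsg.Prelude.Def_Steinberg
import Cfsg.Prelude.Def_SteinbergCover
import Cfsg.Agent.Lib.Helper3.StB15
import Cfsg.Agent.Lib.Helper3.ChevData.G2St
import Cfsg.Agent.Lib.Helper3.ChevData.B2St
import Cfsg.Agent.Lib.Helper3.ChevData.D4St
import Cfsg.Agent.Lib.Helper3.ChevData.F4St
import Cfsg.Agent.Lib.Helper3.ChevData.E6St
import Cfsg.Agent.Lib.Helper3.ChevData.E7St
import Cfsg.Agent.Lib.Helper3.ChevData.E8St
import Cfsg.Agent.S1051
set_option autoImplicit false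
set_option maxRecDepth 1000000
open Cfsg Cfsg.Lie

/-! The table hypotheses for the presentation hold for the seven tabulated data. -/

namespace Cfsg.Agent.Lib.Helper3.StB

open ChevM ChevU ChevT

/-- A property of the data of the seven tabulated types follows from the table hypotheses. -/
theorem st_dispatch {F : Type*} [Field F] {P : ChevalleyDatum → Prop} (D : ChevalleyDatum)
    (hD : D ∈ [Cfsg.Lie.chevG2, Cfsg.Lie.chevB2, Cfsg.Lie.chevD4, Cfsg.Lie.chevF4, Cfsg.Lie.chevE6,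
      Cfsg.Lie.chevE7, Cfsg.Lie.chevE8])
    (h : ∀ (C : CDatum) (R : RelData C), CommData C R → StHyp C R →
      ((C.D.borelSubgroup F).subgroupOf (C.D.group F)).normalCore = ⊥ → P C.D) : P D := by
  simp only [List.mem_cons, List.not_mem_nil, or_false] at hD
  rcases hD with rfl | rfl | rfl | rfl | rfl | rfl | rfl
  · exact h cdG2 relG2 commG2 stHypG2 (Cfsg.Agent.S1051.result Cfsg.Lie.chevG2 (by simp))
  · exact h cdB2 relB2 commB2 stHypB2 (Cfsg.Agent.S1051.result Cfsg.Lie.chevB2 (by simp))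
  · exact h cdD4 relD4 commD4 stHypD4 (Cfsg.Agent.S1051.result Cfsg.Lie.chevD4 (by simp))
  · exact h cdF4 relF4 commF4 stHypF4 (Cfsg.Agent.S1051.result Cfsg.Lie.chevF4 (by simp))
  · exact h cdE6 relE6 commE6 stHypE6 (Cfsg.Agent.S1051.result Cfsg.Lie.chevE6 (by simp))
  · exact h cdE7 relE7 commE7 stHypE7 (Cfsg.Agent.S1051.result Cfsg.Lie.chevE7 (by simp))
  · exact h cdE8 relE8 commE8 stHypE8 (Cfsg.Agent.S1051.result Cfsg.Lie.chevE8 (by simp))

/-- The inverse of the Cartan matrix of type G2. -/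
def cinvG2 : Matrix (Fin Cfsg.Lie.chevG2.rank) (Fin Cfsg.Lie.chevG2.rank) ℤ :=
  Matrix.of fun i j => ((#[#[2, 3], #[1, 2]] : Array (Array ℤ)).getD i.val #[]).getD j.val 0

theorem cinvG2_spec : cartanMat Cfsg.Lie.chevG2 * cinvG2 = 1 := by decide +kernel

/-- The inverse of the Cartan matrix of type F4. -/
def cinvF4 : Matrix (Fin Cfsg.Lie.chevF4.rank) (Fin Cfsg.Lie.chevF4.rank) ℤ :=
  Matrix.of fun i j => ((#[#[2, 3, 4, 2], #[3, 6, 8, 4], #[2, 4, 6, 3], #[1, 2, 3, 2]] :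
    Array (Array ℤ)).getD i.val #[]).getD j.val 0

theorem cinvF4_spec : cartanMat Cfsg.Lie.chevF4 * cinvF4 = 1 := by decide +kernel

/-- The inverse of the Cartan matrix of type E8. -/
def cinvE8 : Matrix (Fin Cfsg.Lie.chevE8.rank) (Fin Cfsg.Lie.chevE8.rank) ℤ :=
  Matrix.of fun i j => ((#[#[4, 5, 7, 10, 8, 6, 4, 2], #[5, 8, 10, 15, 12, 9, 6, 3], #[7, 10, 14, 20, 16, 12, 8, 4],
    #[10, 15, 20, 30, 24, 18, 12, 6], #[8, 12, 16, 24, 20, 15, 10, 5], #[6, 9, 12, 18, 15, 12, 8, 4],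
    #[4, 6, 8, 12, 10, 8, 6, 3], #[2, 3, 4, 6, 5, 4, 3, 2]] : Array (Array ℤ)).getD i.val #[]).getD j.val 0

theorem cinvE8_spec : cartanMat Cfsg.Lie.chevE8 * cinvE8 = 1 := by decide +kernel

/-- The centre of the group presented by Steinberg's relators is trivial for the types G2, F4 and E8. -/
theorem steinberg_center_trivial {F : Type*} [Field F] (D : ChevalleyDatum)
    (hD : D ∈ [Cfsg.Lie.chevG2, Cfsg.Lie.chevF4, Cfsg.Lie.chevE8]) :
    Subgroup.center (D.SteinbergGroup F) = ⊥ := by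
  simp only [List.mem_cons, List.not_mem_nil, or_false] at hD
  rcases hD with rfl | rfl | rfl
  · exact steinberg_center_eq_bot relG2 commG2 stHypG2 (Cfsg.Agent.S1051.result Cfsg.Lie.chevG2 (by simp))
      cinvG2 cinvG2_spec
  · exact steinberg_center_eq_bot relF4 commF4 stHypF4 (Cfsg.Agent.S1051.result Cfsg.Lie.chevF4 (by simp))
      cinvF4 cinvF4_spec
  · exact steinberg_center_eq_bot relE8 commE8 stHypE8 (Cfsg.Agent.S1051.result Cfsg.Lie.chevE8 (by simp))
      cinvE8 cinvE8_spec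

end Cfsg.Agent.Lib.Helper3.StB
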