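import Mathlib
import Cfsg.Agent.Lib.Helper3.StEmb2
import Cfsg.Agent.Lib.Helper3.StS5
set_option autoImplicit false
set_option linter.unusedSectionVars false
open Cfsg Cfsg.Lie

/-! The centre of the group presented by Steinberg's relators is cyclic when a diagonal form of the Cartan matrix has
at most one entry different from `1`. -/

namespace Cfsg.Agent.Lib.Helper3.StEmb

open ChevM ChevU ChevT ChevH StB StS

section
variable {F : Type*} [Field F] [Fintype F] {C : CDatum}

theorem ext_mul (n : ℕ) (c d : Fin n → Fˣ) (i : ℕ) : ext n (c * d) i = ext n c i * ext n d i := by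
  unfold ext
  split_ifs
  · simp
  · simp

theorem center_isCyclic (R : RelData C) (K : CommData C R) (Y : StHyp C R)
    (hcore : ((C.D.borelSubgroup F).subgroupOf (C.D.group F)).normalCore = ⊥)
    (vec : ℕ → ℕ → ℤ) (hvec : ∀ i < C.D.rank, ∀ s < C.D.nroots, vecCheck C.D vec i s = true)
    (P Q P' Q' : Matrix (Fin C.D.rank) (Fin C.D.rank) ℤ) (d : Fin C.D.rank → ℕ)
    (h : P * cartanMat C.D * Q = Matrix.diagonal fun k => (d k : ℤ)) (hP : P * P' = 1) (hP' : P' * P = 1)
    (hQ : Q * Q' = 1) (k₀ : Fin C.D.rank) (hd : ∀ k, k ≠ k₀ → d k = 1) :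
    IsCyclic (Subgroup.center (C.D.SteinbergGroup F)) := by
  classical
  have hAB : C.D.steinbergRelsAB F ⊆ C.D.steinbergRels F := fun g hg => Or.inl hg
  have hrel := stLift_rels R (F := F) K
  set θ := presHom R (C.D.steinbergRels F) hrel with hθdef
  have hθ : ∀ r < C.D.nroots, ∀ t : F,
      ((θ (PresentedGroup.mk (C.D.steinbergRels F) (C.D.stX r t)) : GL C.D.Idx F) :
        Matrix C.D.Idx C.D.Idx F) = C.D.x F r t := by
    intro r hr t
    rw [hθdef, presHom_mk, stLift_stX, R.xU_val]
  have hsurj := presHom_surjective R (C.D.steinbergRels F) hrel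
  have hker := pres_ker_eq_center R K Y hcore _ hAB θ hsurj hθ
  have hφ : ∀ r < C.D.nroots, ∀ t : F,
      ((C.D.group F).subtype.comp θ) (PresentedGroup.mk (C.D.steinbergRels F) (C.D.stX r t)) = R.xU r t := by
    intro r hr t
    apply Units.ext
    rw [R.xU_val, ← hθ r hr t]
    rfl
  set S := presData R (C.D.steinbergRels F) hAB _ hφ with hS
  have hmul : ∀ i < C.D.rank, ∀ a b : F, a ≠ 0 → b ≠ 0 →
      S.hS (C.D.simple i) a * S.hS (C.D.simple i) b = S.hS (C.D.simple i) (a * b) := by
    intro i hi a b ha hb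
    have hrel3 : C.D.stH (C.D.simple i) a * C.D.stH (C.D.simple i) b * (C.D.stH (C.D.simple i) (a * b))⁻¹ ∈
        C.D.steinbergRels F := Or.inr ⟨C.D.simple i, a, b, R.simple_lt i hi, ha, hb, rfl⟩
    have h1 := PresentedGroup.one_of_mem hrel3
    rw [map_mul, map_mul, map_inv, mul_inv_eq_one] at h1
    rw [hS, presData_hS, presData_hS, presData_hS]
    exact h1
  have hmem : ∀ c : (rootChar C.D F).ker, S.hProd (ext C.D.rank c.1) C.D.rank ∈
      Subgroup.center (C.D.SteinbergGroup F) := by
    intro c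
    rw [← hker, MonoidHom.mem_ker]
    apply Subtype.ext
    have e := phi_hProd_ext S c.1
    rw [MonoidHom.mem_ker.mp c.2, diagU_one] at e
    exact e
  let Ψ : (rootChar C.D F).ker →* Subgroup.center (C.D.SteinbergGroup F) :=
    { toFun := fun c => ⟨S.hProd (ext C.D.rank c.1) C.D.rank, hmem c⟩
      map_one' := by
        apply Subtype.ext
        show S.hProd (ext C.D.rank (1 : Fin C.D.rank → Fˣ)) C.D.rank = 1
        rw [S.hProd_congr _ (fun _ => 1) _ (fun i hi => by rw [ext_of_lt _ _ i hi]; rfl), S.hProd_one]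
      map_mul' := by
        intro a b
        apply Subtype.ext
        show S.hProd (ext C.D.rank (a.1 * b.1)) C.D.rank =
          S.hProd (ext C.D.rank a.1) C.D.rank * S.hProd (ext C.D.rank b.1) C.D.rank
        rw [S.hProd_mul Y hmul _ _ (ext_ne_zero _ a.1) (ext_ne_zero _ b.1) _ le_rfl]
        apply S.hProd_congr
        intro i _
        exact ext_mul _ _ _ i }
  have hΨ : Function.Surjective Ψ := by
    rintro ⟨z, hz⟩
    rw [← hker] at hz
    have hz' : ((C.D.group F).subtype.comp θ) z = 1 := by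
      rw [MonoidHom.comp_apply, MonoidHom.mem_ker.mp hz]; rfl
    have hzH : z ∈ S.Hbar := S.ker_le_Hbar Y (presData_gen R _ hAB _ hφ) (MonoidHom.mem_ker.mpr hz')
    obtain ⟨c, hc, rfl⟩ := S.exists_hProd Y hmul z hzH
    let cu : Fin C.D.rank → Fˣ := fun i => Units.mk0 (c i.val) (hc i.val)
    have e1 : S.hProd c C.D.rank = S.hProd (ext C.D.rank cu) C.D.rank := by
      apply S.hProd_congr
      intro i hi
      rw [ext_of_lt _ cu i hi]
      rfl
    have e2 := phi_hProd_ext S cu
    rw [← e1] at e2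
    have e3 : S.φ (S.hProd c C.D.rank) = 1 := hz'
    rw [e3, ← diagU_one (F := F) C.D] at e2
    have e4 : rootChar C.D F cu = 1 := (diagU_injective C.D F e2).symm
    refine ⟨⟨cu, MonoidHom.mem_ker.mpr e4⟩, ?_⟩
    apply Subtype.ext
    exact e1.symm
  have hA : IsCyclic (rootChar C.D F).ker := by
    rw [R.ker_rootChar vec hvec]
    exact isCyclic_ker_pw P (cartanMat C.D) Q P' Q' d h hP hP' hQ k₀ hd
  exact isCyclic_of_surjective Ψ hΨ

end

end Cfsg.Agent.Lib.Helper3.StEmb
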