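import Mathlib
import Cfsg.Prelude.Def_SteinbergCover
import Cfsg.Agent.Lib.Helper3.StS3
import Cfsg.Agent.Lib.Helper3.StB13
set_option autoImplicit false
set_option linter.unusedSectionVars false
open Cfsg Cfsg.Lie

/-! Every central extension of the group presented by Steinberg's relators (R1), (R2) splits, for a simply laced
root system of rank at least 5 (over every field). -/

namespace Cfsg.Agent.Lib.Helper3.StS

open StB StU

section
variable {D : ChevalleyDatum} {F : Type*} [Field F] {Δ : Type*} [Group Δ] {S : Sys D F Δ}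
  {E : Type*} [Group E] (T : SExt S E) (H : SLHyp D)

/-- The canonical lifts of the root elements. -/
noncomputable def SExt.L (r : ℕ) (t : F) : E := if r < D.nroots then T.Lr H r t else 1

theorem SExt.L_of_lt {r : ℕ} (hr : r < D.nroots) (t : F) : T.L H r t = T.Lr H r t := if_pos hr

theorem SExt.L_of_not_lt {r : ℕ} (hr : ¬ r < D.nroots) (t : F) : T.L H r t = 1 := if_neg hr

theorem base_spec {r : ℕ} (hr : r < D.nroots) :
    smB D H.ct (H.base r).1 (H.base r).2 = true ∧ (H.ct (H.base r).1 (H.base r).2).1 = r := by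
  have := H.hbase r hr
  simp only [baseOK, Bool.and_eq_true, decide_eq_true_eq] at this
  exact this

theorem SExt.psi_L {r : ℕ} (hr : r < D.nroots) (t : F) : T.ψ (T.L H r t) = S.X r t := by
  obtain ⟨h1, h2⟩ := base_spec H hr
  rw [T.L_of_lt H hr]
  unfold SExt.Lr
  rw [T.psi_Mh H h1, h2, mul_one]

theorem SExt.L_add (r : ℕ) (a b : F) : T.L H r (a + b) = T.L H r a * T.L H r b := by
  by_cases hr : r < D.nroots
  · obtain ⟨h1, h2⟩ := base_spec H hr
    rw [T.L_of_lt H hr, T.L_of_lt H hr, T.L_of_lt H hr]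
    unfold SExt.Lr
    exact T.Mh_add_left H h1 a b 1
  · rw [T.L_of_not_lt H hr, T.L_of_not_lt H hr, T.L_of_not_lt H hr, one_mul]

theorem SExt.L_comm {r s : ℕ} (hr : r < D.nroots) (hs : s < D.nroots) (hsr : s ≠ r) (hneg : s ≠ D.neg r)
    (t u : F) :
    (T.L H s u)⁻¹ * (T.L H r t)⁻¹ * T.L H s u * T.L H r t = wordS (T.L H) (D.commWord F r s t u) := by
  have hsh := H.hshape r hr s hs
  simp only [shapeOK, Bool.or_eq_true, decide_eq_true_eq, Bool.not_eq_true', decide_eq_false_iff_not] at hsh
  have hct := H.hct r hr s hs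
  simp only [ctOK, decide_eq_true_eq] at hct
  rcases hsh with ((h | h) | h) | h
  · exact absurd h hsr
  · exact absurd h hneg
  · -- no sum
    rw [if_neg h] at hct
    have h2 : D.commWord F r s t u = [] := by
      unfold ChevalleyDatum.commWord
      rw [hct]; rfl
    rw [h2, wordS_nil]
    have hcm : cmB D H.ct r s = true := by
      simp [cmB, hr, hs, hneg, h]
    have := T.lemmaA H.hct H.hA hcm (T.psi_L H hr t) (T.psi_L H hs u)
    exact br_eq_one_of_commute this.symm
  · -- a sum
    obtain ⟨-, -, hq⟩ := smB_lt h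
    rw [if_pos hq] at hct
    have h2 : D.commWord F r s t u = [((H.ct r s).1, ((H.ct r s).2 : F) * (-t) ^ 1 * u ^ 1)] := by
      unfold ChevalleyDatum.commWord
      rw [hct]; rfl
    rw [h2, wordS_cons, wordS_nil, mul_one, pow_one, pow_one]
    have e : (T.L H s u)⁻¹ * (T.L H r t)⁻¹ * T.L H s u * T.L H r t = br (T.L H s u) (T.L H r t) := rfl
    rw [e, T.M_eq r s (T.psi_L H hs u) (T.psi_L H hr t), T.M_eq_Mh H h, T.Mh_eq_Lr H _ r s h rfl,
      T.L_of_lt H hq]
    congr 1
    ring

end

section
variable (D : ChevalleyDatum) (F : Type*) [Field F]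

/-- The symbols of the group presented by (R1), (R2). -/
def coverSys : Sys D F (D.SteinbergCover F) where
  X r t := PresentedGroup.mk (D.steinbergRelsAB F) (D.stX r t)
  add r a b := by
    by_cases hr : r < D.nroots
    · have hrel : D.stX r a * D.stX r b * (D.stX r (a + b))⁻¹ ∈ D.steinbergRelsAB F :=
        Or.inl ⟨r, a, b, hr, rfl⟩
      have h1 := PresentedGroup.one_of_mem hrel
      rw [map_mul, map_mul, map_inv, mul_inv_eq_one] at h1
      exact h1.symm
    · rw [stX_of_not_lt _ r hr, stX_of_not_lt _ r hr, stX_of_not_lt _ r hr, map_one, one_mul]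
  comm r hr s hs hsr hsn t u := by
    have hrel : (D.stX s u)⁻¹ * (D.stX r t)⁻¹ * D.stX s u * D.stX r t *
        (D.stWord (D.commWord F r s t u))⁻¹ ∈ D.steinbergRelsAB F :=
      Or.inr ⟨r, s, t, u, hr, hs, hsr, hsn, rfl⟩
    have h1 := PresentedGroup.one_of_mem hrel
    rw [map_mul, map_mul, map_mul, map_mul, map_inv, map_inv, map_inv, mul_inv_eq_one, map_stWord] at h1
    exact h1

end

section
universe u v
variable {D : ChevalleyDatum} {F : Type u} [Field F]

/-- Every central extension of the group presented by (R1), (R2) splits. -/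
theorem cover_split_sl (H : SLHyp D) {E : Type v} [Group E] (ψ : E →* D.SteinbergCover F)
    (hsurj : Function.Surjective ψ) (hc : ψ.ker ≤ Subgroup.center E) :
    ∃ s : D.SteinbergCover F →* E, ψ.comp s = MonoidHom.id _ := by
  let T : SExt (coverSys D F) E := ⟨ψ, hsurj, hc⟩
  set x : ℕ → F → E := T.L H with hx
  set g : Fin D.nroots × F → E := fun p => x p.1.val p.2 with hg
  have hX : ∀ r t, FreeGroup.lift g (D.stX r t) = x r t := by
    intro r t
    by_cases hr : r < D.nroots
    · rw [stX_of_lt _ r hr, FreeGroup.lift_apply_of]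
    · rw [stX_of_not_lt _ r hr, map_one, hx, T.L_of_not_lt H hr]
  have hrel : ∀ w ∈ D.steinbergRelsAB F, FreeGroup.lift g w = 1 := by
    rintro w (⟨r, a, b, hr, rfl⟩ | ⟨r, s, t, u, hr, hs, hsr, hneg, rfl⟩)
    · rw [map_mul, map_mul, map_inv, hX, hX, hX, hx, T.L_add H r, mul_inv_cancel]
    · rw [map_mul, map_mul, map_mul, map_mul, map_inv, map_inv, map_inv, map_stWord, hX, hX, mul_inv_eq_one]
      rw [hx, T.L_comm H hr hs hsr hneg]
      unfold wordS
      congr 1
      apply List.map_congr_left
      intro p _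
      exact (hX p.1 p.2).symm
  refine ⟨PresentedGroup.toGroup hrel, ?_⟩
  apply PresentedGroup.ext
  rintro ⟨i, t⟩
  show ψ (FreeGroup.lift g (FreeGroup.of (i, t))) = PresentedGroup.of (i, t)
  rw [FreeGroup.lift_apply_of]
  show T.ψ (T.L H i.val t) = _
  rw [T.psi_L H i.isLt]
  show PresentedGroup.mk _ (D.stX i.val t) = _
  rw [stX_of_lt _ i.val i.isLt]
  rfl

/-- The group presented by (R1), (R2) is perfect. -/
theorem cover_perfect_sl (H : SLHyp D) : commutator (D.SteinbergCover F) = ⊤ := by
  rw [eq_top_iff, ← PresentedGroup.closure_range_of (D.steinbergRelsAB F), Subgroup.closure_le]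
  rintro _ ⟨⟨i, t⟩, rfl⟩
  obtain ⟨h1, h2⟩ := base_spec H i.isLt
  set S := coverSys D F with hS
  have e := S.br_of_smB H.hct h1 (-(((H.ct (H.base i.val).1 (H.base i.val).2).2 : F) * t)) 1
  rw [h2] at e
  have e2 : ((H.ct (H.base i.val).1 (H.base i.val).2).2 : F) *
      - -(((H.ct (H.base i.val).1 (H.base i.val).2).2 : F) * t) * 1 = t := by
    have := smB_sq (F := F) h1
    calc _ = (((H.ct (H.base i.val).1 (H.base i.val).2).2 : F) *
        ((H.ct (H.base i.val).1 (H.base i.val).2).2 : F)) * t := by ring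
      _ = t := by rw [this, one_mul]
  rw [e2] at e
  have e3 : (PresentedGroup.of (i, t) : D.SteinbergCover F) = S.X i.val t := by
    show _ = PresentedGroup.mk _ (D.stX i.val t)
    rw [stX_of_lt _ i.val i.isLt]
    rfl
  rw [SetLike.mem_coe, e3, ← e, br_eq_comm]
  exact Subgroup.commutator_mem_commutator (Subgroup.mem_top _) (Subgroup.mem_top _)

universe w

/-- Homomorphisms from the group presented by (R1), (R2) lift uniquely through central extensions. -/
theorem cover_lift_unique_sl (H : SLHyp D) {G₁ : Type w} {E : Type v} [Group G₁] [Group E] (π₁ : E →* G₁)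
    (hπ : Function.Surjective π₁) (hc : π₁.ker ≤ Subgroup.center E) (σ : D.SteinbergCover F →* G₁) :
    ∃! τ : D.SteinbergCover F →* E, π₁.comp τ = σ :=
  existsUnique_lift (cover_perfect_sl H) (fun _ _ ψ' hs' hc' => cover_split_sl H ψ' hs' hc') π₁ hπ hc σ

end

end Cfsg.Agent.Lib.Helper3.StS
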