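import Mathlib
import Cfsg.Agent.Lib.Helper9.Siegel6
import Cfsg.Agent.Lib.Helper2.QuadStd
set_option autoImplicit false
set_option linter.unusedSectionVars false

/-! The orthogonal group of the form `Σ xᵢ yᵢ`: basis vectors, root elements and their action. -/

namespace Cfsg.Agent.Lib.Helper3.PO

open Cfsg.Agent.H9Sieg Cfsg.Agent.Lib.Helper5.QuadGlue Cfsg.Agent.Lib.Helper2.QuadStd Matrix

variable {F : Type*} [Field F] {m : ℕ}

/-- The partner of a coordinate. -/
def pt : Fin m ⊕ Fin m → Fin m ⊕ Fin m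
  | .inl i => .inr i
  | .inr i => .inl i

@[simp] theorem pt_pt (k : Fin m ⊕ Fin m) : pt (pt k) = k := by
  rcases k with i | i <;> rfl

theorem pt_ne (k : Fin m ⊕ Fin m) : pt k ≠ k := by
  rcases k with i | i <;> simp [pt]

theorem pt_injective : Function.Injective (pt (m := m)) := by
  intro k l h
  have := congrArg pt h
  simpa using this

theorem pt_eq_iff (k l : Fin m ⊕ Fin m) : pt k = l ↔ k = pt l := by
  constructor
  · rintro rfl; simp
  · rintro rfl; simp

/-- The index of a coordinate. -/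
def ix : Fin m ⊕ Fin m → Fin m := Sum.elim id id

@[simp] theorem ix_pt (k : Fin m ⊕ Fin m) : ix (pt k) = ix k := by
  rcases k with i | i <;> rfl

theorem eq_or_eq_pt_of_ix_eq (k l : Fin m ⊕ Fin m) (h : ix k = ix l) : k = l ∨ k = pt l := by
  rcases k with i | i <;> rcases l with j | j <;> simp [ix, pt] at h ⊢ <;> exact h

/-- The basis vectors. -/
def bv (k : Fin m ⊕ Fin m) : Fin m ⊕ Fin m → F := Pi.single k 1

theorem bv_apply (k j : Fin m ⊕ Fin m) : (bv k : Fin m ⊕ Fin m → F) j = if j = k then 1 else 0 := by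
  unfold bv
  rw [Pi.single_apply]

variable (F m) in
/-- The form `Σ xᵢ yᵢ`. -/
noncomputable abbrev Qp : QuadraticForm F (Fin m ⊕ Fin m → F) := QP m F

theorem Qp_apply (v : Fin m ⊕ Fin m → F) : Qp F m v = ∑ i : Fin m, v (.inl i) * v (.inr i) := by
  rw [QP_apply]; rfl

theorem bp_Qp (u v : Fin m ⊕ Fin m → F) :
    bp (Qp F m) u v = ∑ i : Fin m, (u (.inl i) * v (.inr i) + v (.inl i) * u (.inr i)) :=
  polar_plus m u v

theorem bp_bv_right (v : Fin m ⊕ Fin m → F) (k : Fin m ⊕ Fin m) : bp (Qp F m) v (bv k) = v (pt k) := by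
  rw [bp_Qp]
  rcases k with i | i
  · simp [bv_apply, pt]
  · simp [bv_apply, pt]

theorem bp_bv_left (v : Fin m ⊕ Fin m → F) (k : Fin m ⊕ Fin m) : bp (Qp F m) (bv k) v = v (pt k) := by
  rw [bp_comm, bp_bv_right]

theorem Qp_bv (k : Fin m ⊕ Fin m) : Qp F m (bv k) = 0 := by
  rw [Qp_apply]
  apply Finset.sum_eq_zero
  intro i _
  rcases k with j | j <;> simp [bv_apply]

theorem bp_bv_bv (k l : Fin m ⊕ Fin m) : bp (Qp F m) (bv k) (bv l) = if pt l = k then (1 : F) else 0 := by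
  rw [bp_bv_right, bv_apply]

theorem singPair_bv (k l : Fin m ⊕ Fin m) (h : l ≠ pt k) : SingPair (Qp F m) (bv k : _ → F) (bv l) := by
  refine ⟨Qp_bv k, Qp_bv l, ?_⟩
  rw [bp_bv_bv, if_neg]
  intro h'
  apply h
  rw [← h', pt_pt]

/-- The root elements: Siegel transformations attached to two basis vectors. -/
noncomputable def rt (k l : Fin m ⊕ Fin m) (c : F) : ↥(Cfsg.isometryGroup F ⇑(Qp F m)) :=
  rho (Qp F m) (bv k) (bv l) c

theorem rt_mulVec (k l : Fin m ⊕ Fin m) (h : l ≠ pt k) (c : F) (v : Fin m ⊕ Fin m → F) :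
    mat (rt k l c) *ᵥ v = v + c • (v (pt l) • bv k - v (pt k) • bv l) := by
  unfold rt
  rw [rho_mulVec (singPair_bv k l h), bp_bv_right, bp_bv_right]

theorem rt_apply (k l : Fin m ⊕ Fin m) (h : l ≠ pt k) (c : F) (v : Fin m ⊕ Fin m → F) (j : Fin m ⊕ Fin m) :
    (mat (rt k l c) *ᵥ v) j =
      v j + c * (v (pt l) * (if j = k then 1 else 0) - v (pt k) * (if j = l then 1 else 0)) := by
  rw [rt_mulVec k l h]
  simp only [Pi.add_apply, Pi.smul_apply, Pi.sub_apply, smul_eq_mul, bv_apply]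

theorem rt_zero (k l : Fin m ⊕ Fin m) : rt k l (0 : F) = 1 := rho_zero

theorem rt_add (k l : Fin m ⊕ Fin m) (h : l ≠ pt k) (c d : F) : rt k l (c + d) = rt k l c * rt k l d :=
  (rho_mul (singPair_bv k l h) c d).symm

theorem rt_inv (k l : Fin m ⊕ Fin m) (h : l ≠ pt k) (c : F) : (rt k l c)⁻¹ = rt k l (-c) :=
  rho_inv (singPair_bv k l h) c

theorem rt_swap (k l : Fin m ⊕ Fin m) (h : l ≠ pt k) (c : F) : rt l k c = rt k l (-c) :=
  rho_swap (singPair_bv k l h) c

theorem rt_self (k : Fin m ⊕ Fin m) (c : F) : rt k k c = 1 := rho_self c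

end Cfsg.Agent.Lib.Helper3.PO
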