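import Mathlib
import Cfsg.Agent.Lib.Helper3.PO1
set_option autoImplicit false
set_option linter.unusedSectionVars false

/-! Commutators of root elements of the orthogonal group of `Σ xᵢ yᵢ`; the subgroup they generate is perfect. -/

namespace Cfsg.Agent.Lib.Helper3.PO

open Cfsg.Agent.H9Sieg Cfsg.Agent.Lib.Helper5.QuadGlue Cfsg.Agent.Lib.Helper2.QuadStd Matrix
open scoped commutatorElement

variable {F : Type*} [Field F] {m : ℕ}

theorem bp_bv_eq_zero (k l : Fin m ⊕ Fin m) (h : l ≠ pt k) : bp (Qp F m) (bv k) (bv l) = (0 : F) := by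
  rw [bp_bv_bv, if_neg]
  intro h'
  apply h
  rw [← h', pt_pt]

theorem adapted_bv (a x a' x' : Fin m ⊕ Fin m) (h1 : x ≠ pt a) (h2 : x' ≠ pt a') (h3 : a' ≠ pt a)
    (h4 : x' ≠ pt a) (h5 : a' ≠ pt x) : Adapted (Qp F m) (bv a : _ → F) (bv x) (bv a') (bv x') :=
  ⟨singPair_bv a x h1, singPair_bv a' x' h2, bp_bv_eq_zero a a' h3, bp_bv_eq_zero a x' h4, bp_bv_eq_zero x a' h5⟩

/-- The commutator formula for root elements. -/
theorem rt_mul_eq (a x a' x' : Fin m ⊕ Fin m) (h1 : x ≠ pt a) (h2 : x' ≠ pt a') (h3 : a' ≠ pt a)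
    (h4 : x' ≠ pt a) (h5 : a' ≠ pt x) (c d : F) :
    rt a x c * rt a' x' d = rt a a' (-(c * d * (if pt x' = x then 1 else 0))) * (rt a' x' d * rt a x c) := by
  have := (adapted_bv (F := F) a x a' x' h1 h2 h3 h4 h5).mul_eq c d
  rw [bp_bv_bv] at this
  exact this

theorem rt_commute_of_share (a x y : Fin m ⊕ Fin m) (h1 : x ≠ pt a) (h2 : y ≠ pt a) (h3 : y ≠ pt x) (c d : F) :
    rt a x c * rt a y d = rt a y d * rt a x c := by
  have ha : a ≠ pt a := (pt_ne a).symm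
  have hx : a ≠ pt x := by
    intro h
    apply h1
    rw [h, pt_pt]
  have := rt_mul_eq (F := F) a x a y h1 h2 ha h2 hx c d
  rw [rt_self, one_mul] at this
  exact this

/-- The relation between two root elements in the form of Steinberg's relators. -/
theorem rt_comm_formula (a x a' x' : Fin m ⊕ Fin m) (h1 : x ≠ pt a) (h2 : x' ≠ pt a') (h3 : a' ≠ pt a)
    (h4 : x' ≠ pt a) (h5 : a' ≠ pt x) (c d : F) :
    (rt a' x' d)⁻¹ * (rt a x c)⁻¹ * rt a' x' d * rt a x c =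
      rt a a' (c * d * (if pt x' = x then 1 else 0)) := by
  have e1 := rt_mul_eq (F := F) a x a' x' h1 h2 h3 h4 h5 (-c) d
  rw [← rt_inv a x h1] at e1
  have h3' : a ≠ pt a' := by
    intro h
    apply h3
    rw [h, pt_pt]
  -- `rt a a'` commutes with `rt a' x'`
  have e2 : ∀ e : F, rt a' x' d * rt a a' e = rt a a' e * rt a' x' d := by
    intro e
    have h4' : a ≠ pt x' := by
      intro h
      apply h4
      rw [h, pt_pt]
    have := rt_commute_of_share (F := F) a' x' a h2 h3' h4' d (-e)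
    rw [rt_swap a a' h3, neg_neg] at this
    exact this
  have e3 : (rt a' x' d)⁻¹ * (rt a x c)⁻¹ * rt a' x' d * rt a x c =
      (rt a' x' d)⁻¹ * ((rt a x c)⁻¹ * rt a' x' d) * rt a x c := by group
  rw [e3, e1]
  have e4 : -(-c * d * (if pt x' = x then (1 : F) else 0)) = c * d * (if pt x' = x then 1 else 0) := by ring
  rw [e4]
  set τ := rt a a' (c * d * (if pt x' = x then (1 : F) else 0)) with hτ
  have e5 := e2 (c * d * (if pt x' = x then (1 : F) else 0))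
  rw [← hτ] at e5
  calc (rt a' x' d)⁻¹ * (τ * (rt a' x' d * (rt a x c)⁻¹)) * rt a x c
      = (rt a' x' d)⁻¹ * (τ * rt a' x' d) := by group
    _ = (rt a' x' d)⁻¹ * (rt a' x' d * τ) := by rw [e5]
    _ = τ := by group

variable (F m) in
/-- The subgroup generated by the root elements. -/
noncomputable def Ert : Subgroup ↥(Cfsg.isometryGroup F ⇑(Qp F m)) :=
  Subgroup.closure {g | ∃ (k l : Fin m ⊕ Fin m) (c : F), l ≠ k ∧ l ≠ pt k ∧ g = rt k l c}

theorem rt_mem_Ert (k l : Fin m ⊕ Fin m) (c : F) (h1 : l ≠ k) (h2 : l ≠ pt k) : rt k l c ∈ Ert F m :=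
  Subgroup.subset_closure ⟨k, l, c, h1, h2, rfl⟩

theorem exists_other_index (hm : 3 ≤ m) (i j : Fin m) : ∃ t : Fin m, t ≠ i ∧ t ≠ j := by
  by_contra hcon
  push Not at hcon
  have h0 : (⟨0, by omega⟩ : Fin m) = i ∨ (⟨0, by omega⟩ : Fin m) = j := by
    by_cases h : (⟨0, by omega⟩ : Fin m) = i
    · exact Or.inl h
    · exact Or.inr (hcon _ h)
  have h1 : (⟨1, by omega⟩ : Fin m) = i ∨ (⟨1, by omega⟩ : Fin m) = j := by
    by_cases h : (⟨1, by omega⟩ : Fin m) = i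
    · exact Or.inl h
    · exact Or.inr (hcon _ h)
  have h2 : (⟨2, by omega⟩ : Fin m) = i ∨ (⟨2, by omega⟩ : Fin m) = j := by
    by_cases h : (⟨2, by omega⟩ : Fin m) = i
    · exact Or.inl h
    · exact Or.inr (hcon _ h)
  rcases h0 with h0 | h0 <;> rcases h1 with h1 | h1 <;> rcases h2 with h2 | h2 <;>
    simp only [← h0, ← h1, ← h2, Fin.mk.injEq] at * <;> omega

theorem ne_of_ix_ne (k l : Fin m ⊕ Fin m) (h : ix k ≠ ix l) : k ≠ pt l := by
  intro h'
  apply h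
  rw [h', ix_pt]

/-- Root elements are commutators of root elements. -/
theorem rt_mem_commutator_Ert (hm : 3 ≤ m) (k l : Fin m ⊕ Fin m) (c : F) (h1 : l ≠ k) (h2 : l ≠ pt k) :
    rt k l c ∈ ⁅Ert F m, Ert F m⁆ := by
  obtain ⟨t, ht1, ht2⟩ := exists_other_index hm (ix k) (ix l)
  have hx1 : (Sum.inl t : Fin m ⊕ Fin m) ≠ pt k := ne_of_ix_ne _ _ (by simpa [ix] using ht1)
  have hx1' : (Sum.inl t : Fin m ⊕ Fin m) ≠ k := by
    intro h; apply ht1; rw [← h]; rfl
  have hx2 : (Sum.inr t : Fin m ⊕ Fin m) ≠ pt l := ne_of_ix_ne _ _ (by simpa [ix] using ht2)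
  have hx2' : (Sum.inr t : Fin m ⊕ Fin m) ≠ l := by
    intro h; apply ht2; rw [← h]; rfl
  have hx3 : (Sum.inr t : Fin m ⊕ Fin m) ≠ pt k := ne_of_ix_ne _ _ (by simpa [ix] using ht1)
  have hx4 : l ≠ pt (Sum.inl t : Fin m ⊕ Fin m) := by
    intro h
    apply hx2'
    rw [h]; rfl
  have ad := adapted_bv (F := F) k (Sum.inl t) l (Sum.inr t) hx1 hx2 h2 hx3 hx4
  have e := ad.commutator_eq 1 (-c)
  rw [bp_bv_bv] at e
  have e' : -(1 * -c * (if pt (Sum.inr t : Fin m ⊕ Fin m) = Sum.inl t then (1 : F) else 0)) = c := by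
    have hpt : pt (Sum.inr t : Fin m ⊕ Fin m) = Sum.inl t := rfl
    rw [if_pos hpt]; ring
  rw [e'] at e
  change ⁅rt k (Sum.inl t) 1, rt l (Sum.inr t) (-c)⁆ = rt k l c at e
  rw [← e]
  exact Subgroup.commutator_mem_commutator (rt_mem_Ert _ _ _ hx1' hx1) (rt_mem_Ert _ _ _ hx2' hx2)

theorem Ert_le_commutator (hm : 3 ≤ m) : Ert F m ≤ commutator ↥(Cfsg.isometryGroup F ⇑(Qp F m)) := by
  have h1 : Ert F m ≤ ⁅Ert F m, Ert F m⁆ := by
    unfold Ert
    rw [Subgroup.closure_le]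
    rintro g ⟨k, l, c, h1, h2, rfl⟩
    exact rt_mem_commutator_Ert hm k l c h1 h2
  refine h1.trans ?_
  rw [commutator_def]
  exact Subgroup.commutator_mono le_top le_top

end Cfsg.Agent.Lib.Helper3.PO
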