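import Mathlib
import Cfsg.Agent.Lib.Helper3.PO2
set_option autoImplicit false
set_option linter.unusedSectionVars false

/-! Transitivity properties of the subgroups generated by root elements of the orthogonal group of `Σ xᵢ yᵢ`. -/

namespace Cfsg.Agent.Lib.Helper3.PO

open Cfsg.Agent.H9Sieg Cfsg.Agent.Lib.Helper5.QuadGlue Cfsg.Agent.Lib.Helper2.QuadStd Matrix

variable {F : Type*} [Field F] {m : ℕ}

/-- The stabilizer of a vector in the isometry group. -/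
def stabV (u : Fin m ⊕ Fin m → F) : Subgroup ↥(Cfsg.isometryGroup F ⇑(Qp F m)) where
  carrier := {g | mat g *ᵥ u = u}
  mul_mem' := by
    intro a b ha hb
    show mat (a * b) *ᵥ u = u
    rw [coe_mul_mulVec, hb, ha]
  one_mem' := coe_one_mulVec u
  inv_mem' := by
    intro a ha
    show mat a⁻¹ *ᵥ u = u
    have : mat a⁻¹ *ᵥ (mat a *ᵥ u) = u := inv_mulVec_mulVec a u
    rw [ha] at this
    exact this

theorem mem_stabV (u : Fin m ⊕ Fin m → F) (g : ↥(Cfsg.isometryGroup F ⇑(Qp F m))) :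
    g ∈ stabV u ↔ mat g *ᵥ u = u := Iff.rfl

/-- A generic loop clearing a set of coordinates one at a time. -/
theorem clear_loop (H : Subgroup ↥(Cfsg.isometryGroup F ⇑(Qp F m))) (Inv : (Fin m ⊕ Fin m → F) → Prop)
    (K : Finset (Fin m ⊕ Fin m))
    (step : ∀ v, Inv v → ∀ k ∈ K, ∃ g ∈ H, Inv (mat g *ᵥ v) ∧ (mat g *ᵥ v) k = 0 ∧
      ∀ j ∈ K, j ≠ k → (mat g *ᵥ v) j = v j)
    (v : Fin m ⊕ Fin m → F) (hv : Inv v) :
    ∃ h ∈ H, Inv (mat h *ᵥ v) ∧ ∀ k ∈ K, (mat h *ᵥ v) k = 0 := by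
  classical
  suffices hT : ∀ T : Finset (Fin m ⊕ Fin m), T ⊆ K →
      ∃ h ∈ H, Inv (mat h *ᵥ v) ∧ ∀ k ∈ T, (mat h *ᵥ v) k = 0 from hT K (Finset.Subset.refl K)
  intro T
  induction T using Finset.induction_on with
  | empty =>
    intro _
    refine ⟨1, H.one_mem, ?_, fun k hk => absurd hk (Finset.notMem_empty k)⟩
    rw [coe_one_mulVec]; exact hv
  | insert a T ha ih =>
    intro hTK
    obtain ⟨h, hh, hinv, hzero⟩ := ih (fun x hx => hTK (Finset.mem_insert_of_mem hx))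
    have haK : a ∈ K := hTK (Finset.mem_insert_self a T)
    obtain ⟨g, hg, ginv, gzero, gsame⟩ := step _ hinv a haK
    refine ⟨g * h, H.mul_mem hg hh, ?_, ?_⟩
    · rw [coe_mul_mulVec]; exact ginv
    · intro k hk
      rw [coe_mul_mulVec]
      rcases Finset.mem_insert.mp hk with rfl | hk
      · exact gzero
      · have hka : k ≠ a := fun h => ha (h ▸ hk)
        rw [gsame k (hTK (Finset.mem_insert_of_mem hk)) hka]
        exact hzero k hk

variable (F) in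
/-- The subgroup generated by the root elements with indices in a set. -/
noncomputable def ES (S : Finset (Fin m)) : Subgroup ↥(Cfsg.isometryGroup F ⇑(Qp F m)) :=
  Subgroup.closure {g | ∃ (k l : Fin m ⊕ Fin m) (c : F), ix k ∈ S ∧ ix l ∈ S ∧ l ≠ k ∧ l ≠ pt k ∧ g = rt k l c}

theorem rt_mem_ES (S : Finset (Fin m)) (k l : Fin m ⊕ Fin m) (c : F) (hk : ix k ∈ S) (hl : ix l ∈ S)
    (h1 : l ≠ k) (h2 : l ≠ pt k) : rt k l c ∈ ES F S :=
  Subgroup.subset_closure ⟨k, l, c, hk, hl, h1, h2, rfl⟩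

theorem ES_le_Ert (S : Finset (Fin m)) : ES F S ≤ Ert F m := by
  unfold ES
  rw [Subgroup.closure_le]
  rintro g ⟨k, l, c, _, _, h1, h2, rfl⟩
  exact rt_mem_Ert k l c h1 h2

/-- The vector is supported on the coordinates with indices in `S`. -/
def Supp (S : Finset (Fin m)) (v : Fin m ⊕ Fin m → F) : Prop := ∀ k, ix k ∉ S → v k = 0

/-- The isometry fixes the basis vectors with indices outside `S`. -/
def Fixes (S : Finset (Fin m)) (g : ↥(Cfsg.isometryGroup F ⇑(Qp F m))) : Prop :=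
  ∀ k, ix k ∉ S → mat g *ᵥ bv k = bv k

theorem rt_mulVec_bv_of_ne (k l j : Fin m ⊕ Fin m) (h : l ≠ pt k) (c : F) (h1 : j ≠ pt l) (h2 : j ≠ pt k) :
    mat (rt k l c) *ᵥ (bv j : _ → F) = bv j := by
  rw [rt_mulVec k l h, bv_apply, bv_apply, if_neg (fun h' => h1 h'.symm), if_neg (fun h' => h2 h'.symm)]
  simp

theorem fixes_of_mem_ES (S : Finset (Fin m)) (g : ↥(Cfsg.isometryGroup F ⇑(Qp F m))) (hg : g ∈ ES F S) :
    Fixes S g := by
  intro j hj
  have : ES F S ≤ stabV (bv j : _ → F) := by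
    unfold ES
    rw [Subgroup.closure_le]
    rintro g ⟨k, l, c, hk, hl, _, h2, rfl⟩
    rw [SetLike.mem_coe, mem_stabV]
    apply rt_mulVec_bv_of_ne k l j h2
    · intro h; apply hj; rw [h, ix_pt]; exact hl
    · intro h; apply hj; rw [h, ix_pt]; exact hk
  exact this hg

theorem coord_eq_bp (v : Fin m ⊕ Fin m → F) (k : Fin m ⊕ Fin m) : v k = bp (Qp F m) v (bv (pt k)) := by
  rw [bp_bv_right, pt_pt]

theorem supp_of_fixes (S : Finset (Fin m)) (g : ↥(Cfsg.isometryGroup F ⇑(Qp F m))) (hg : Fixes S g)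
    (v : Fin m ⊕ Fin m → F) (hv : Supp S v) : Supp S (mat g *ᵥ v) := by
  intro k hk
  have hk' : ix (pt k) ∉ S := by rw [ix_pt]; exact hk
  rw [coord_eq_bp (mat g *ᵥ v) k, ← hg (pt k) hk', bp_mulVec, ← coord_eq_bp v k]
  exact hv k hk

theorem supp_bv (S : Finset (Fin m)) (k : Fin m ⊕ Fin m) (hk : ix k ∈ S) : Supp S (bv k : _ → F) := by
  intro j hj
  rw [bv_apply, if_neg]
  rintro rfl
  exact hj hk

theorem rt_apply_of_ne (k l : Fin m ⊕ Fin m) (h : l ≠ pt k) (c : F) (v : Fin m ⊕ Fin m → F)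
    (j : Fin m ⊕ Fin m) (h1 : j ≠ k) (h2 : j ≠ l) : (mat (rt k l c) *ᵥ v) j = v j := by
  rw [rt_apply k l h, if_neg h1, if_neg h2]; ring

theorem rt_apply_left (k l : Fin m ⊕ Fin m) (h : l ≠ pt k) (h' : l ≠ k) (c : F) (v : Fin m ⊕ Fin m → F) :
    (mat (rt k l c) *ᵥ v) k = v k + c * v (pt l) := by
  rw [rt_apply k l h, if_pos rfl, if_neg (Ne.symm h')]; ring

theorem rt_apply_right (k l : Fin m ⊕ Fin m) (h : l ≠ pt k) (h' : l ≠ k) (c : F) (v : Fin m ⊕ Fin m → F) :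
    (mat (rt k l c) *ᵥ v) l = v l - c * v (pt k) := by
  rw [rt_apply k l h, if_neg h', if_pos rfl]; ring

end Cfsg.Agent.Lib.Helper3.PO
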