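import Mathlib
import Cfsg.Agent.Lib.Helper3.PO3
set_option autoImplicit false
set_option linter.unusedSectionVars false

/-! The subgroup generated by the root elements with indices in `S` is transitive on the non-zero singular vectors
supported on `S`, and the stabilizer of `e_i` in it is transitive on the singular vectors `w` with `B(e_i, w) = 1`. -/

namespace Cfsg.Agent.Lib.Helper3.PO

open Cfsg.Agent.H9Sieg Cfsg.Agent.Lib.Helper5.QuadGlue Cfsg.Agent.Lib.Helper2.QuadStd Matrix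

variable {F : Type*} [Field F] {m : ℕ}

theorem inl_ne_pt_inl (i j : Fin m) : (Sum.inl i : Fin m ⊕ Fin m) ≠ pt (Sum.inl j) := by
  simp [pt]

theorem inr_ne_pt_inr (i j : Fin m) : (Sum.inr i : Fin m ⊕ Fin m) ≠ pt (Sum.inr j) := by
  simp [pt]

theorem inr_ne_pt_inl (i j : Fin m) (h : i ≠ j) : (Sum.inr i : Fin m ⊕ Fin m) ≠ pt (Sum.inl j) := by
  simp [pt, h]

theorem inl_ne_pt_inr (i j : Fin m) (h : i ≠ j) : (Sum.inl i : Fin m ⊕ Fin m) ≠ pt (Sum.inr j) := by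
  simp [pt, h]

section
variable (S : Finset (Fin m)) (i₀ j₀ : Fin m) (hi : i₀ ∈ S) (hj : j₀ ∈ S) (hne : j₀ ≠ i₀)
include hi hj hne

theorem stepA (v : Fin m ⊕ Fin m → F) (hs : Supp S v) (hv : v ≠ 0) :
    ∃ h ∈ ES F S, ∃ i ∈ S, (mat h *ᵥ v) (Sum.inl i) ≠ 0 := by
  by_cases hx : ∃ i ∈ S, v (Sum.inl i) ≠ 0
  · obtain ⟨i, hiS, hvi⟩ := hx
    refine ⟨1, Subgroup.one_mem _, i, hiS, ?_⟩
    rw [coe_one_mulVec]; exact hvi
  · push Not at hx
    have hex : ∃ k, v k ≠ 0 := by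
      by_contra hcon
      push Not at hcon
      exact hv (funext hcon)
    obtain ⟨k, hk⟩ := hex
    have hkS : ix k ∈ S := by
      by_contra h
      exact hk (hs k h)
    rcases k with i | j
    · exact absurd (hx i hkS) hk
    · -- a non-zero coordinate `y_j`
      have hjS : j ∈ S := hkS
      obtain ⟨i, hiS, hij⟩ : ∃ i ∈ S, i ≠ j := by
        by_cases h : j = i₀
        · exact ⟨j₀, hj, by rw [h]; exact hne⟩
        · exact ⟨i₀, hi, fun h' => h h'.symm⟩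
      have h1 : (Sum.inl j : Fin m ⊕ Fin m) ≠ Sum.inl i := by
        intro h; exact hij (Sum.inl.inj h).symm
      have h2 : (Sum.inl j : Fin m ⊕ Fin m) ≠ pt (Sum.inl i) := inl_ne_pt_inl j i
      refine ⟨rt (Sum.inl i) (Sum.inl j) 1, rt_mem_ES S _ _ _ hiS hjS h1 h2, i, hiS, ?_⟩
      rw [rt_apply_left _ _ h2 h1, hx i hiS, zero_add, one_mul]
      exact hk

theorem stepB1 (v : Fin m ⊕ Fin m → F) (i : Fin m) (hiS : i ∈ S) (hii : i ≠ i₀) (hvi : v (Sum.inl i) ≠ 0) :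
    ∃ h ∈ ES F S, (mat h *ᵥ v) (Sum.inl i₀) = 1 := by
  have h1 : (Sum.inr i : Fin m ⊕ Fin m) ≠ Sum.inl i₀ := by simp
  have h2 : (Sum.inr i : Fin m ⊕ Fin m) ≠ pt (Sum.inl i₀) := inr_ne_pt_inl i i₀ hii
  refine ⟨rt (Sum.inl i₀) (Sum.inr i) ((1 - v (Sum.inl i₀)) / v (Sum.inl i)),
    rt_mem_ES S _ _ _ hi hiS h1 h2, ?_⟩
  rw [rt_apply_left _ _ h2 h1]
  have : pt (Sum.inr i : Fin m ⊕ Fin m) = Sum.inl i := rfl
  rw [this]
  field_simp
  ring

theorem stepB (v : Fin m ⊕ Fin m → F) (hx : ∃ i ∈ S, v (Sum.inl i) ≠ 0) :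
    ∃ h ∈ ES F S, (mat h *ᵥ v) (Sum.inl i₀) = 1 := by
  obtain ⟨i, hiS, hvi⟩ := hx
  by_cases hii : i = i₀
  · subst hii
    by_cases hvj : v (Sum.inl j₀) ≠ 0
    · exact stepB1 S i j₀ hi hj hne v j₀ hj hne hvj
    · push Not at hvj
      have h1 : (Sum.inr i : Fin m ⊕ Fin m) ≠ Sum.inl j₀ := by simp
      have h2 : (Sum.inr i : Fin m ⊕ Fin m) ≠ pt (Sum.inl j₀) := inr_ne_pt_inl i j₀ hne.symm
      have hg1 := rt_mem_ES (F := F) S (Sum.inl j₀) (Sum.inr i) 1 hj hi h1 h2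
      have hv1 : (mat (rt (Sum.inl j₀) (Sum.inr i) (1 : F)) *ᵥ v) (Sum.inl j₀) ≠ 0 := by
        rw [rt_apply_left _ _ h2 h1, hvj, zero_add, one_mul]
        exact hvi
      obtain ⟨g2, hg2, h3⟩ := stepB1 S i j₀ hi hj hne _ j₀ hj hne hv1
      refine ⟨g2 * rt (Sum.inl j₀) (Sum.inr i) 1, Subgroup.mul_mem _ hg2 hg1, ?_⟩
      rw [coe_mul_mulVec]
      exact h3
  · exact stepB1 S i₀ j₀ hi hj hne v i hiS hii hvi

omit hj hne in
theorem stepC (v : Fin m ⊕ Fin m → F) (hv : v (Sum.inl i₀) = 1) :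
    ∃ h ∈ ES F S, (mat h *ᵥ v) (Sum.inl i₀) = 1 ∧ ∀ a ∈ S, a ≠ i₀ → (mat h *ᵥ v) (Sum.inl a) = 0 := by
  classical
  obtain ⟨h, hh, h1, h2⟩ := clear_loop (ES F S) (fun v => v (Sum.inl i₀) = 1)
    ((S.erase i₀).image Sum.inl) (by
      intro v hv k hk
      obtain ⟨a, ha, rfl⟩ := Finset.mem_image.mp hk
      have haS : a ∈ S := Finset.mem_of_mem_erase ha
      have hai : a ≠ i₀ := Finset.ne_of_mem_erase ha
      have h1 : (Sum.inr i₀ : Fin m ⊕ Fin m) ≠ Sum.inl a := by simp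
      have h2 : (Sum.inr i₀ : Fin m ⊕ Fin m) ≠ pt (Sum.inl a) := inr_ne_pt_inl i₀ a hai.symm
      refine ⟨rt (Sum.inl a) (Sum.inr i₀) (-v (Sum.inl a)), rt_mem_ES S _ _ _ haS hi h1 h2, ?_, ?_, ?_⟩
      · show (mat (rt (Sum.inl a) (Sum.inr i₀) (-v (Sum.inl a))) *ᵥ v) (Sum.inl i₀) = 1
        rw [rt_apply_of_ne _ _ h2 _ _ _ (by simpa using hai.symm) (by simp)]
        exact hv
      · rw [rt_apply_left _ _ h2 h1]
        have : pt (Sum.inr i₀ : Fin m ⊕ Fin m) = Sum.inl i₀ := rfl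
        rw [this, hv]; ring
      · intro j hj hjk
        obtain ⟨b, _, rfl⟩ := Finset.mem_image.mp hj
        exact rt_apply_of_ne _ _ h2 _ _ _ hjk (by simp)) v hv
  refine ⟨h, hh, h1, fun a ha hai => h2 _ (Finset.mem_image.mpr ⟨a, Finset.mem_erase.mpr ⟨hai, ha⟩, rfl⟩)⟩

omit hj hne in
theorem stepD (v : Fin m ⊕ Fin m → F) (hv : v (Sum.inl i₀) = 1) (hv0 : ∀ a, a ≠ i₀ → v (Sum.inl a) = 0) :
    ∃ h ∈ ES F S, (mat h *ᵥ v) (Sum.inl i₀) = 1 ∧ (∀ a, a ≠ i₀ → (mat h *ᵥ v) (Sum.inl a) = 0) ∧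
      ∀ a ∈ S, a ≠ i₀ → (mat h *ᵥ v) (Sum.inr a) = 0 := by
  classical
  obtain ⟨h, hh, ⟨h1, h1'⟩, h2⟩ := clear_loop (ES F S)
    (fun v => v (Sum.inl i₀) = 1 ∧ ∀ a, a ≠ i₀ → v (Sum.inl a) = 0)
    ((S.erase i₀).image Sum.inr) (by
      intro v hv k hk
      obtain ⟨a, ha, rfl⟩ := Finset.mem_image.mp hk
      have haS : a ∈ S := Finset.mem_of_mem_erase ha
      have hai : a ≠ i₀ := Finset.ne_of_mem_erase ha
      have h1 : (Sum.inr i₀ : Fin m ⊕ Fin m) ≠ Sum.inr a := by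
        intro h; exact hai (Sum.inr.inj h).symm
      have h2 : (Sum.inr i₀ : Fin m ⊕ Fin m) ≠ pt (Sum.inr a) := inr_ne_pt_inr i₀ a
      refine ⟨rt (Sum.inr a) (Sum.inr i₀) (-v (Sum.inr a)), rt_mem_ES S _ _ _ haS hi h1 h2, ⟨?_, ?_⟩, ?_, ?_⟩
      · show (mat (rt (Sum.inr a) (Sum.inr i₀) (-v (Sum.inr a))) *ᵥ v) (Sum.inl i₀) = 1
        rw [rt_apply_of_ne _ _ h2 _ _ _ (by simp) (by simp)]
        exact hv.1
      · intro b hb
        show (mat (rt (Sum.inr a) (Sum.inr i₀) (-v (Sum.inr a))) *ᵥ v) (Sum.inl b) = 0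
        rw [rt_apply_of_ne _ _ h2 _ _ _ (by simp) (by simp)]
        exact hv.2 b hb
      · rw [rt_apply_left _ _ h2 h1]
        have : pt (Sum.inr i₀ : Fin m ⊕ Fin m) = Sum.inl i₀ := rfl
        rw [this, hv.1]; ring
      · intro j hj hjk
        obtain ⟨b, hb, rfl⟩ := Finset.mem_image.mp hj
        have hbi : b ≠ i₀ := Finset.ne_of_mem_erase hb
        exact rt_apply_of_ne _ _ h2 _ _ _ hjk (by
          intro h; exact hbi (Sum.inr.inj h))) v ⟨hv, hv0⟩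
  refine ⟨h, hh, h1, h1', fun a ha hai => h2 _ (Finset.mem_image.mpr ⟨a, Finset.mem_erase.mpr ⟨hai, ha⟩, rfl⟩)⟩

/-- Transitivity on the non-zero singular vectors. -/
theorem exists_map_to_bv (v : Fin m ⊕ Fin m → F) (hs : Supp S v) (hq : Qp F m v = 0) (hv : v ≠ 0) :
    ∃ h ∈ ES F S, mat h *ᵥ v = bv (Sum.inl i₀) := by
  obtain ⟨hA, hhA, hxA⟩ := stepA S i₀ j₀ hi hj hne v hs hv
  obtain ⟨hB, hhB, hxB⟩ := stepB S i₀ j₀ hi hj hne (mat hA *ᵥ v) hxA
  obtain ⟨hC, hhC, hxC, hxC'⟩ := stepC S i₀ hi (mat hB *ᵥ (mat hA *ᵥ v)) hxB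
  set v3 := mat hC *ᵥ (mat hB *ᵥ (mat hA *ᵥ v)) with hv3
  have hs3 : Supp S v3 :=
    supp_of_fixes S hC (fixes_of_mem_ES S hC hhC) _ (supp_of_fixes S hB (fixes_of_mem_ES S hB hhB) _
      (supp_of_fixes S hA (fixes_of_mem_ES S hA hhA) _ hs))
  have h30 : ∀ a, a ≠ i₀ → v3 (Sum.inl a) = 0 := by
    intro a ha
    by_cases haS : a ∈ S
    · exact hxC' a haS ha
    · exact hs3 _ haS
  obtain ⟨hD, hhD, hxD, hxD', hxD''⟩ := stepD S i₀ hi v3 hxC h30
  set v4 := mat hD *ᵥ v3 with hv4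
  have hs4 : Supp S v4 := supp_of_fixes S hD (fixes_of_mem_ES S hD hhD) _ hs3
  have hq4 : Qp F m v4 = 0 := by
    rw [hv4, Q_mulVec, hv3, Q_mulVec, Q_mulVec, Q_mulVec]; exact hq
  refine ⟨hD * (hC * (hB * hA)), Subgroup.mul_mem _ hhD (Subgroup.mul_mem _ hhC (Subgroup.mul_mem _ hhB hhA)), ?_⟩
  rw [coe_mul_mulVec, coe_mul_mulVec, coe_mul_mulVec, ← hv3, ← hv4]
  have h4r : ∀ a, a ≠ i₀ → v4 (Sum.inr a) = 0 := by
    intro a ha
    by_cases haS : a ∈ S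
    · exact hxD'' a haS ha
    · exact hs4 _ haS
  have h4i : v4 (Sum.inr i₀) = 0 := by
    rw [Qp_apply, Finset.sum_eq_single i₀] at hq4
    · rw [hxD, one_mul] at hq4; exact hq4
    · intro b _ hb
      rw [hxD' b hb, zero_mul]
    · intro h; exact absurd (Finset.mem_univ _) h
  funext k
  rw [bv_apply]
  rcases k with a | a
  · by_cases ha : a = i₀
    · subst ha; rw [if_pos rfl]; exact hxD
    · rw [if_neg (by simpa using ha)]; exact hxD' a ha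
  · rw [if_neg (by simp)]
    by_cases ha : a = i₀
    · subst ha; exact h4i
    · exact h4r a ha

omit hj hne in
/-- Transitivity of the stabilizer of `e_i` on the singular vectors `w` with `B(e_i, w) = 1`. -/
theorem exists_map_partner (w : Fin m ⊕ Fin m → F) (hs : Supp S w) (hq : Qp F m w = 0)
    (hw : w (Sum.inr i₀) = 1) :
    ∃ h ∈ ES F S ⊓ stabV (bv (Sum.inl i₀) : _ → F), mat h *ᵥ w = bv (Sum.inr i₀) := by
  classical
  obtain ⟨h, hh, h1, h2⟩ := clear_loop (ES F S ⊓ stabV (bv (Sum.inl i₀) : _ → F))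
    (fun w => w (Sum.inr i₀) = 1)
    ((S.erase i₀).image Sum.inl ∪ (S.erase i₀).image Sum.inr) (by
      intro w hw l hl
      have hlS : ix l ∈ S ∧ ix l ≠ i₀ := by
        rcases Finset.mem_union.mp hl with hl | hl
        · obtain ⟨a, ha, rfl⟩ := Finset.mem_image.mp hl
          exact ⟨Finset.mem_of_mem_erase ha, Finset.ne_of_mem_erase ha⟩
        · obtain ⟨a, ha, rfl⟩ := Finset.mem_image.mp hl
          exact ⟨Finset.mem_of_mem_erase ha, Finset.ne_of_mem_erase ha⟩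
      have h1 : l ≠ Sum.inl i₀ := by
        rintro rfl; exact hlS.2 rfl
      have h2 : l ≠ pt (Sum.inl i₀) := by
        rintro rfl; exact hlS.2 rfl
      have h3 : (Sum.inl i₀ : Fin m ⊕ Fin m) ≠ pt l := by
        intro h
        apply hlS.2
        have := congrArg ix h
        rw [ix_pt] at this
        exact this.symm
      refine ⟨rt (Sum.inl i₀) l (w l), ⟨rt_mem_ES S _ _ _ hi hlS.1 h1 h2, ?_⟩, ?_, ?_, ?_⟩
      · show mat (rt (Sum.inl i₀) l (w l)) *ᵥ (bv (Sum.inl i₀) : _ → F) = bv (Sum.inl i₀)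
        exact rt_mulVec_bv_of_ne _ _ _ h2 _ h3 (by simp [pt])
      · show (mat (rt (Sum.inl i₀) l (w l)) *ᵥ w) (Sum.inr i₀) = 1
        have h2' : (Sum.inr i₀ : Fin m ⊕ Fin m) ≠ l := fun h => h2 h.symm
        rw [rt_apply_of_ne (Sum.inl i₀) l h2 (w l) w (Sum.inr i₀) (by simp) h2']
        exact hw
      · rw [rt_apply_right _ _ h2 h1]
        have : pt (Sum.inl i₀ : Fin m ⊕ Fin m) = Sum.inr i₀ := rfl
        rw [this, hw]; ring
      · intro j hj hjl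
        have hjS : ix j ≠ i₀ := by
          rcases Finset.mem_union.mp hj with hj | hj
          · obtain ⟨a, ha, rfl⟩ := Finset.mem_image.mp hj
            exact Finset.ne_of_mem_erase ha
          · obtain ⟨a, ha, rfl⟩ := Finset.mem_image.mp hj
            exact Finset.ne_of_mem_erase ha
        exact rt_apply_of_ne _ _ h2 _ _ _ (by rintro rfl; exact hjS rfl) hjl) w hw
  refine ⟨h, hh, ?_⟩
  set w' := mat h *ᵥ w with hw'
  have hs' : Supp S w' := supp_of_fixes S h (fixes_of_mem_ES S h hh.1) _ hs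
  have hq' : Qp F m w' = 0 := by rw [hw', Q_mulVec]; exact hq
  have hz : ∀ l : Fin m ⊕ Fin m, ix l ≠ i₀ → w' l = 0 := by
    intro l hl
    by_cases hlS : ix l ∈ S
    · apply h2
      rcases l with a | a
      · exact Finset.mem_union_left _ (Finset.mem_image.mpr ⟨a, Finset.mem_erase.mpr ⟨hl, hlS⟩, rfl⟩)
      · exact Finset.mem_union_right _ (Finset.mem_image.mpr ⟨a, Finset.mem_erase.mpr ⟨hl, hlS⟩, rfl⟩)
    · exact hs' l hlS
  have hi0 : w' (Sum.inl i₀) = 0 := by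
    rw [Qp_apply, Finset.sum_eq_single i₀] at hq'
    · rw [h1, mul_one] at hq'; exact hq'
    · intro b _ hb
      rw [hz (Sum.inl b) hb, zero_mul]
    · intro h; exact absurd (Finset.mem_univ _) h
  funext k
  rw [bv_apply]
  rcases k with a | a
  · rw [if_neg (by simp)]
    by_cases ha : a = i₀
    · subst ha; exact hi0
    · exact hz _ ha
  · by_cases ha : a = i₀
    · subst ha; rw [if_pos rfl]; exact h1
    · rw [if_neg (by simpa using ha)]; exact hz _ ha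

end

end Cfsg.Agent.Lib.Helper3.PO
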