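import Mathlib
import Cfsg.Agent.Lib.Helper3.PO4
set_option autoImplicit false
set_option linter.unusedSectionVars false

/-! Every isometry of `Σ xᵢ yᵢ` is the product of an element of the subgroup generated by the root elements and
an isometry moving only one hyperbolic plane. -/

namespace Cfsg.Agent.Lib.Helper3.PO

open Cfsg.Agent.H9Sieg Cfsg.Agent.Lib.Helper5.QuadGlue Cfsg.Agent.Lib.Helper2.QuadStd Matrix

variable {F : Type*} [Field F] {m : ℕ}

theorem bv_ne_zero (k : Fin m ⊕ Fin m) : (bv k : Fin m ⊕ Fin m → F) ≠ 0 := by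
  intro h
  have := congrFun h k
  rw [bv_apply, if_pos rfl] at this
  exact one_ne_zero this

theorem fixes_mul (S : Finset (Fin m)) (g h : ↥(Cfsg.isometryGroup F ⇑(Qp F m))) (hg : Fixes S g)
    (hh : Fixes S h) : Fixes S (g * h) := by
  intro k hk
  rw [coe_mul_mulVec, hh k hk, hg k hk]

theorem fixes_mono (S T : Finset (Fin m)) (hST : S ⊆ T) (g : ↥(Cfsg.isometryGroup F ⇑(Qp F m)))
    (hg : Fixes S g) : Fixes T g := fun k hk => hg k fun h => hk (hST h)

/-- One step of the reduction. -/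
theorem reduce_step (S : Finset (Fin m)) (i₀ j₀ : Fin m) (hi : i₀ ∈ S) (hj : j₀ ∈ S) (hne : j₀ ≠ i₀)
    (g : ↥(Cfsg.isometryGroup F ⇑(Qp F m))) (hg : Fixes S g) :
    ∃ h ∈ ES F S, Fixes (S.erase i₀) (h * g) := by
  have hs1 : Supp S (mat g *ᵥ (bv (Sum.inl i₀) : _ → F)) := supp_of_fixes S g hg _ (supp_bv S _ hi)
  have hq1 : Qp F m (mat g *ᵥ (bv (Sum.inl i₀) : _ → F)) = 0 := by rw [Q_mulVec, Qp_bv]
  have hv1 : mat g *ᵥ (bv (Sum.inl i₀) : _ → F) ≠ 0 := by
    intro h
    have h0 : mat g *ᵥ (bv (Sum.inl i₀) : _ → F) = mat g *ᵥ 0 := by rw [h, Matrix.mulVec_zero]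
    exact bv_ne_zero _ (mulVec_injective g h0)
  obtain ⟨h1, hh1, e1⟩ := exists_map_to_bv S i₀ j₀ hi hj hne _ hs1 hq1 hv1
  set w := mat h1 *ᵥ (mat g *ᵥ (bv (Sum.inr i₀) : _ → F)) with hw
  have hs2 : Supp S w :=
    supp_of_fixes S h1 (fixes_of_mem_ES S h1 hh1) _ (supp_of_fixes S g hg _ (supp_bv S _ hi))
  have hq2 : Qp F m w = 0 := by rw [hw, Q_mulVec, Q_mulVec, Qp_bv]
  have hw2 : w (Sum.inr i₀) = 1 := by
    have hpt : (Sum.inr i₀ : Fin m ⊕ Fin m) = pt (Sum.inl i₀) := rfl
    rw [coord_eq_bp w, hpt, pt_pt, ← e1, hw, bp_mulVec, bp_mulVec, bp_bv_bv, if_pos hpt.symm]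
  obtain ⟨h2, hh2, e2⟩ := exists_map_partner S i₀ hi w hs2 hq2 hw2
  refine ⟨h2 * h1, Subgroup.mul_mem _ hh2.1 hh1, ?_⟩
  intro k hk
  rw [coe_mul_mulVec, coe_mul_mulVec]
  by_cases hkS : ix k ∈ S
  · have hki : ix k = i₀ := by
      by_contra h
      exact hk (Finset.mem_erase.mpr ⟨h, hkS⟩)
    rcases k with a | a
    · have : a = i₀ := hki
      subst this
      rw [e1]
      exact hh2.2
    · have : a = i₀ := hki
      subst this
      exact e2
  · rw [hg k hkS, fixes_of_mem_ES S h1 hh1 k hkS, fixes_of_mem_ES S h2 hh2.1 k hkS]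

/-- Every isometry is the product of an element of the subgroup generated by the root elements and an isometry
fixing all basis vectors except those of one hyperbolic plane. -/
theorem reduce_all (i : Fin m) (g : ↥(Cfsg.isometryGroup F ⇑(Qp F m))) :
    ∃ h ∈ Ert F m, Fixes {i} (h * g) := by
  classical
  suffices H : ∀ n : ℕ, ∀ S : Finset (Fin m), i ∈ S → S.card = n + 1 →
      ∀ g : ↥(Cfsg.isometryGroup F ⇑(Qp F m)), Fixes S g → ∃ h ∈ Ert F m, Fixes {i} (h * g) by
    have hcard : (Finset.univ : Finset (Fin m)).card = ((Finset.univ : Finset (Fin m)).card - 1) + 1 := by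
      have : 0 < (Finset.univ : Finset (Fin m)).card := Finset.card_pos.mpr ⟨i, Finset.mem_univ i⟩
      omega
    exact H _ Finset.univ (Finset.mem_univ i) hcard g (fun k hk => absurd (Finset.mem_univ _) hk)
  intro n
  induction n with
  | zero =>
    intro S hiS hcard g hg
    have hS : S = {i} := by
      obtain ⟨a, rfl⟩ := Finset.card_eq_one.mp hcard
      rw [Finset.mem_singleton] at hiS
      rw [hiS]
    refine ⟨1, Subgroup.one_mem _, ?_⟩
    rw [one_mul, ← hS]
    exact hg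
  | succ n ih =>
    intro S hiS hcard g hg
    have hex : ∃ i₀ ∈ S, i₀ ≠ i := by
      by_contra hcon
      push Not at hcon
      have hS : S = {i} := by
        ext a
        rw [Finset.mem_singleton]
        constructor
        · exact hcon a
        · rintro rfl; exact hiS
      rw [hS, Finset.card_singleton] at hcard
      omega
    obtain ⟨i₀, hi₀, hne⟩ := hex
    obtain ⟨h1, hh1, hf1⟩ := reduce_step S i₀ i hi₀ hiS hne.symm g hg
    have hcard' : (S.erase i₀).card = n + 1 := by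
      rw [Finset.card_erase_of_mem hi₀, hcard]; rfl
    obtain ⟨h2, hh2, hf2⟩ := ih (S.erase i₀) (Finset.mem_erase.mpr ⟨hne.symm, hiS⟩) hcard' (h1 * g) hf1
    refine ⟨h2 * h1, Subgroup.mul_mem _ hh2 (ES_le_Ert S hh1), ?_⟩
    rw [mul_assoc]
    exact hf2

end Cfsg.Agent.Lib.Helper3.PO
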