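import Mathlib
import Cfsg.Agent.Lib.Helper3.PO5
set_option autoImplicit false
set_option linter.unusedSectionVars false

/-! The commutator subgroup of the orthogonal group of `Σ xᵢ yᵢ` is generated by the root elements. -/

namespace Cfsg.Agent.Lib.Helper3.PO

open Cfsg.Agent.H9Sieg Cfsg.Agent.Lib.Helper5.QuadGlue Cfsg.Agent.Lib.Helper2.QuadStd Matrix
open scoped commutatorElement

variable {F : Type*} [Field F] {m : ℕ}

theorem iso_ext_bv {g h : ↥(Cfsg.isometryGroup F ⇑(Qp F m))}
    (H : ∀ k, mat g *ᵥ (bv k : _ → F) = mat h *ᵥ bv k) : g = h := by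
  apply Subtype.ext
  apply Units.ext
  ext i k
  have := congrFun (H k) i
  unfold bv at this
  rw [Matrix.mulVec_single_one, Matrix.mulVec_single_one] at this
  exact this

/-- An isometry fixing all basis vectors outside one hyperbolic plane maps each basis vector of that plane to a
multiple of a basis vector of that plane. -/
theorem exists_smul_of_fixes (i : Fin m) (g : ↥(Cfsg.isometryGroup F ⇑(Qp F m))) (hg : Fixes {i} g)
    (k : Fin m ⊕ Fin m) (hk : ix k = i) :
    ∃ (k' : Fin m ⊕ Fin m) (x : F), ix k' = i ∧ mat g *ᵥ (bv k : _ → F) = x • bv k' := by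
  set v := mat g *ᵥ (bv k : _ → F) with hv
  have hs : Supp {i} v := supp_of_fixes {i} g hg _ (supp_bv {i} k (by rw [hk]; exact Finset.mem_singleton_self i))
  have hq : Qp F m v = 0 := by rw [hv, Q_mulVec, Qp_bv]
  have hz : ∀ l : Fin m ⊕ Fin m, ix l ≠ i → v l = 0 := fun l hl => hs l (by simpa using hl)
  rw [Qp_apply, Finset.sum_eq_single i] at hq
  · rcases mul_eq_zero.mp hq with h0 | h0
    · refine ⟨Sum.inr i, v (Sum.inr i), rfl, ?_⟩
      funext l
      rw [Pi.smul_apply, bv_apply, smul_eq_mul]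
      rcases l with a | a
      · rw [if_neg (by simp), mul_zero]
        by_cases ha : a = i
        · subst ha; exact h0
        · exact hz _ ha
      · by_cases ha : a = i
        · subst ha; rw [if_pos rfl, mul_one]
        · rw [if_neg (by simpa using ha), mul_zero]; exact hz _ ha
    · refine ⟨Sum.inl i, v (Sum.inl i), rfl, ?_⟩
      funext l
      rw [Pi.smul_apply, bv_apply, smul_eq_mul]
      rcases l with a | a
      · by_cases ha : a = i
        · subst ha; rw [if_pos rfl, mul_one]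
        · rw [if_neg (by simpa using ha), mul_zero]; exact hz _ ha
      · rw [if_neg (by simp), mul_zero]
        by_cases ha : a = i
        · subst ha; exact h0
        · exact hz _ ha
  · intro b _ hb
    rw [hz (Sum.inl b) hb, zero_mul]
  · intro h; exact absurd (Finset.mem_univ _) h

theorem smul_ne_zero_of_fixes (g : ↥(Cfsg.isometryGroup F ⇑(Qp F m))) (k k' : Fin m ⊕ Fin m) (x : F)
    (h : mat g *ᵥ (bv k : _ → F) = x • bv k') : x ≠ 0 := by
  rintro rfl
  rw [zero_smul] at h
  have h0 : mat g *ᵥ (bv k : _ → F) = mat g *ᵥ 0 := by rw [h, Matrix.mulVec_zero]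
  exact bv_ne_zero _ (mulVec_injective g h0)

/-- Conjugates of root elements by isometries moving only one hyperbolic plane. -/
theorem conj_rt_mem (i : Fin m) (g : ↥(Cfsg.isometryGroup F ⇑(Qp F m))) (hg : Fixes {i} g)
    (k l : Fin m ⊕ Fin m) (c : F) (h1 : l ≠ k) (h2 : l ≠ pt k) : g * rt k l c * g⁻¹ ∈ Ert F m := by
  unfold rt
  rw [rho_conj (singPair_bv k l h2)]
  by_cases hk : ix k = i
  · by_cases hl : ix l = i
    · exfalso
      rcases eq_or_eq_pt_of_ix_eq l k (hl.trans hk.symm) with h | h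
      · exact h1 h
      · exact h2 h
    · obtain ⟨k', x, hk', e⟩ := exists_smul_of_fixes i g hg k hk
      have hl' : mat g *ᵥ (bv l : _ → F) = bv l := hg l (by simpa using hl)
      have h2' : l ≠ pt k' := by
        intro h; apply hl; rw [h, ix_pt]; exact hk'
      have h1' : l ≠ k' := by
        intro h; apply hl; rw [h]; exact hk'
      rw [e, hl', rho_smul_left (singPair_bv k' l h2')]
      exact rt_mem_Ert k' l _ h1' h2'
  · have hk' : mat g *ᵥ (bv k : _ → F) = bv k := hg k (by simpa using hk)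
    by_cases hl : ix l = i
    · obtain ⟨l', x, hl', e⟩ := exists_smul_of_fixes i g hg l hl
      have h2' : l' ≠ pt k := by
        intro h; apply hk; rw [← hl', h, ix_pt]
      have h1' : l' ≠ k := by
        intro h; apply hk; rw [← hl', h]
      rw [e, hk', rho_smul_right (singPair_bv k l' h2')]
      exact rt_mem_Ert k l' _ h1' h2'
    · have hl' : mat g *ᵥ (bv l : _ → F) = bv l := hg l (by simpa using hl)
      rw [hk', hl']
      exact rt_mem_Ert k l c h1 h2

theorem conj_Ert_le (i : Fin m) (g : ↥(Cfsg.isometryGroup F ⇑(Qp F m))) (hg : Fixes {i} g)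
    (x : ↥(Cfsg.isometryGroup F ⇑(Qp F m))) (hx : x ∈ Ert F m) : g * x * g⁻¹ ∈ Ert F m := by
  have : Ert F m ≤ (Ert F m).comap (MulAut.conj g).toMonoidHom := by
    unfold Ert
    rw [Subgroup.closure_le]
    rintro y ⟨k, l, c, h1, h2, rfl⟩
    rw [SetLike.mem_coe, Subgroup.mem_comap]
    exact conj_rt_mem i g hg k l c h1 h2
  exact this hx

/-- The subgroup generated by the root elements is normal. -/
theorem Ert_normal (hm : 1 ≤ m) : (Ert F m).Normal := by
  constructor
  intro x hx g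
  obtain ⟨h, hh, hf⟩ := reduce_all (F := F) (⟨0, by omega⟩ : Fin m) g
  have e : g * x * g⁻¹ = h⁻¹ * ((h * g) * x * (h * g)⁻¹) * h := by group
  rw [e]
  exact Subgroup.mul_mem _ (Subgroup.mul_mem _ (Subgroup.inv_mem _ hh) (conj_Ert_le _ _ hf x hx)) hh

theorem commute_of_fixes (i j : Fin m) (hij : i ≠ j) (g₁ g₂ : ↥(Cfsg.isometryGroup F ⇑(Qp F m)))
    (h₁ : Fixes {i} g₁) (h₂ : Fixes {j} g₂) : g₁ * g₂ = g₂ * g₁ := by
  apply iso_ext_bv
  intro k
  rw [coe_mul_mulVec, coe_mul_mulVec]
  by_cases hki : ix k = i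
  · have hkj : ix k ∉ ({j} : Finset (Fin m)) := by
      rw [Finset.mem_singleton, hki]; exact hij
    obtain ⟨k', x, hk', e⟩ := exists_smul_of_fixes i g₁ h₁ k hki
    have hk'j : ix k' ∉ ({j} : Finset (Fin m)) := by
      rw [Finset.mem_singleton, hk']; exact hij
    rw [h₂ k hkj, e, Matrix.mulVec_smul, h₂ k' hk'j]
  · have hki' : ix k ∉ ({i} : Finset (Fin m)) := by simpa using hki
    by_cases hkj : ix k = j
    · obtain ⟨k', x, hk', e⟩ := exists_smul_of_fixes j g₂ h₂ k hkj
      have hk'i : ix k' ∉ ({i} : Finset (Fin m)) := by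
        rw [Finset.mem_singleton, hk']; exact hij.symm
      rw [h₁ k hki', e, Matrix.mulVec_smul, h₁ k' hk'i]
    · have hkj' : ix k ∉ ({j} : Finset (Fin m)) := by simpa using hkj
      rw [h₁ k hki', h₂ k hkj', h₁ k hki']

/-- The commutator subgroup is contained in the subgroup generated by the root elements. -/
theorem commutator_le_Ert (hm : 2 ≤ m) : commutator ↥(Cfsg.isometryGroup F ⇑(Qp F m)) ≤ Ert F m := by
  have := Ert_normal (F := F) (m := m) (by omega)
  rw [commutator_def, Subgroup.commutator_le]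
  intro g₁ _ g₂ _
  obtain ⟨a₁, ha₁, hf₁⟩ := reduce_all (F := F) (⟨0, by omega⟩ : Fin m) g₁
  obtain ⟨a₂, ha₂, hf₂⟩ := reduce_all (F := F) (⟨1, by omega⟩ : Fin m) g₂
  have hcomm := commute_of_fixes (⟨0, by omega⟩ : Fin m) (⟨1, by omega⟩ : Fin m) (by simp) _ _ hf₁ hf₂
  rw [← QuotientGroup.eq_one_iff]
  have e₀ : ((⁅g₁, g₂⁆ : ↥(Cfsg.isometryGroup F ⇑(Qp F m))) : _ ⧸ Ert F m) =
      ⁅(QuotientGroup.mk g₁ : _ ⧸ Ert F m), QuotientGroup.mk g₂⁆ :=
    map_commutatorElement (QuotientGroup.mk' (Ert F m)) g₁ g₂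
  rw [e₀]
  have e₁ : (QuotientGroup.mk g₁ : _ ⧸ Ert F m) = QuotientGroup.mk (a₁ * g₁) := by
    rw [QuotientGroup.mk_mul, (QuotientGroup.eq_one_iff a₁).mpr ha₁, one_mul]
  have e₂ : (QuotientGroup.mk g₂ : _ ⧸ Ert F m) = QuotientGroup.mk (a₂ * g₂) := by
    rw [QuotientGroup.mk_mul, (QuotientGroup.eq_one_iff a₂).mpr ha₂, one_mul]
  rw [e₁, e₂, commutatorElement_eq_one_iff_mul_comm, ← QuotientGroup.mk_mul, ← QuotientGroup.mk_mul, hcomm]

/-- The commutator subgroup of the orthogonal group of `Σ xᵢ yᵢ` is generated by the root elements. -/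
theorem Omega_eq_Ert (hm : 3 ≤ m) : Cfsg.Omega F ⇑(Qp F m) = Ert F m :=
  le_antisymm (commutator_le_Ert (by omega)) (Ert_le_commutator hm)

end Cfsg.Agent.Lib.Helper3.PO
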