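import Mathlib
import Cfsg.Prelude.Def_ChevD4
import Cfsg.Prelude.Def_ChevStructure
import Cfsg.Agent.Lib.Helper3.PO6
import Cfsg.Agent.Lib.Helper3.StB1
set_option autoImplicit false
set_option linter.unusedSectionVars false
set_option maxRecDepth 1000000
open Cfsg Cfsg.Lie

/-! The root elements of the orthogonal group of `Σ_{i<4} xᵢ yᵢ` satisfy Steinberg's relations of type D₄. -/

namespace Cfsg.Agent.Lib.Helper3.PO

open Cfsg.Agent.H9Sieg Cfsg.Agent.Lib.Helper5.QuadGlue Cfsg.Agent.Lib.Helper2.QuadStd Matrix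
open Cfsg.Agent.Lib.Helper3.ChevM Cfsg.Agent.Lib.Helper3.StB

/-- For each root of type D₄ (in the numbering of the tables) two basis vectors and a sign. -/
def d4tab (r : ℕ) : (Fin 4 ⊕ Fin 4) × (Fin 4 ⊕ Fin 4) × ℤ :=
  (#[(.inr 0, .inr 1, 1), (.inr 0, .inr 2, 1), (.inl 3, .inr 0, 1), (.inr 0, .inr 3, 1), (.inl 2, .inr 0, -1),
    (.inl 1, .inr 0, 1), (.inr 1, .inr 2, -1), (.inl 3, .inr 1, -1), (.inr 1, .inr 3, -1), (.inl 2, .inr 1, 1),
    (.inl 3, .inr 2, 1), (.inr 2, .inr 3, 1), (.inl 2, .inl 3, -1), (.inl 2, .inr 3, 1), (.inl 1, .inr 2, 1),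
    (.inl 1, .inl 3, 1), (.inl 1, .inr 3, -1), (.inl 1, .inl 2, 1), (.inl 0, .inr 1, 1), (.inl 0, .inr 2, -1),
    (.inl 0, .inl 3, -1), (.inl 0, .inr 3, 1), (.inl 0, .inl 2, -1), (.inl 0, .inl 1, -1)] :
    Array ((Fin 4 ⊕ Fin 4) × (Fin 4 ⊕ Fin 4) × ℤ)).getD r (.inl 0, .inl 0, 0)

/-- The two orientations of a line. -/
def orient4 (p : (Fin 4 ⊕ Fin 4) × (Fin 4 ⊕ Fin 4) × ℤ) (b : Bool) : (Fin 4 ⊕ Fin 4) × (Fin 4 ⊕ Fin 4) × ℤ :=
  if b then (p.2.1, p.1, -p.2.2) else p

/-- The entry of the table is a line with a sign. -/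
def lineCheck4 (r : ℕ) : Bool :=
  decide ((d4tab r).2.1 ≠ (d4tab r).1) && decide ((d4tab r).2.1 ≠ pt (d4tab r).1) &&
    (decide ((d4tab r).2.2 = 1) || decide ((d4tab r).2.2 = -1))

/-- The relation for the pair of roots `(r, s)`, with chosen orientations. -/
def relCheck4 (r s : ℕ) (b b' : Bool) : Bool :=
  let p := orient4 (d4tab r) b
  let q := orient4 (d4tab s) b'
  let c := (chevD4.commTerms r s).headD (0, 0, 0, 0)
  decide (p.2.1 ≠ pt p.1) && decide (q.2.1 ≠ pt q.1) && decide (q.1 ≠ pt p.1) && decide (q.2.1 ≠ pt p.1) &&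
    decide (q.1 ≠ pt p.2.1) &&
    (if pt q.2.1 = p.2.1 ∧ p.1 ≠ q.1 then
      decide (chevD4.commTerms r s = [(c.1, c.2.1, 1, 1)]) && decide (c.1 < 24) &&
        (decide ((d4tab c.1).1 = p.1 ∧ (d4tab c.1).2.1 = q.1 ∧ p.2.2 * q.2.2 = -((d4tab c.1).2.2 * c.2.1)) ||
          decide ((d4tab c.1).1 = q.1 ∧ (d4tab c.1).2.1 = p.1 ∧ p.2.2 * q.2.2 = (d4tab c.1).2.2 * c.2.1))
    else decide (chevD4.commTerms r s = []))

/-- The relation for the pair of roots `(r, s)`. -/
def pairCheck4 (r s : ℕ) : Bool :=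
  decide (s = r) || decide (s = chevD4.neg r) || relCheck4 r s false false || relCheck4 r s false true ||
    relCheck4 r s true false || relCheck4 r s true true

theorem d4Line : allRange 0 24 lineCheck4 = true := by decide +kernel

theorem d4Pair : allRange 0 576 (fun k => pairCheck4 (k / 24) (k % 24)) = true := by decide +kernel

section
variable {F : Type*} [Field F]

/-- The root elements of type D₄ in the orthogonal group. -/
noncomputable def X4 (r : ℕ) (t : F) : ↥(Cfsg.isometryGroup F ⇑(Qp F 4)) :=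
  if r < 24 then rt (d4tab r).1 (d4tab r).2.1 (((d4tab r).2.2 : F) * t) else 1

theorem d4line_spec (r : ℕ) (hr : r < 24) : (d4tab r).2.1 ≠ (d4tab r).1 ∧ (d4tab r).2.1 ≠ pt (d4tab r).1 ∧
    ((d4tab r).2.2 = 1 ∨ (d4tab r).2.2 = -1) := by
  have := allRange_spec d4Line r (Nat.zero_le r) hr
  simp only [lineCheck4, Bool.and_eq_true, Bool.or_eq_true, decide_eq_true_eq] at this
  exact ⟨this.1.1, this.1.2, this.2⟩

theorem X4_of_lt (r : ℕ) (hr : r < 24) (t : F) :
    X4 r t = rt (d4tab r).1 (d4tab r).2.1 (((d4tab r).2.2 : F) * t) := if_pos hr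

theorem X4_add (r : ℕ) (a b : F) : X4 r (a + b) = X4 r a * X4 r b := by
  unfold X4
  by_cases hr : r < 24
  · rw [if_pos hr, if_pos hr, if_pos hr, mul_add]
    exact rt_add _ _ (d4line_spec r hr).2.1 _ _
  · rw [if_neg hr, if_neg hr, if_neg hr, one_mul]

theorem X4_orient (r : ℕ) (hr : r < 24) (b : Bool) (t : F) :
    X4 r t = rt (orient4 (d4tab r) b).1 (orient4 (d4tab r) b).2.1 (((orient4 (d4tab r) b).2.2 : F) * t) := by
  rw [X4_of_lt r hr]
  cases b
  · rfl
  · simp only [orient4, if_true]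
    rw [rt_swap _ _ (d4line_spec r hr).2.1, Int.cast_neg, neg_mul, neg_neg]

theorem relCheck4_spec (r s : ℕ) (hr : r < 24) (hs : s < 24) (b b' : Bool) (h : relCheck4 r s b b' = true)
    (t u : F) :
    (X4 s u)⁻¹ * (X4 r t)⁻¹ * X4 s u * X4 r t = wordS X4 (chevD4.commWord F r s t u) := by
  rw [X4_orient r hr b, X4_orient s hs b']
  unfold relCheck4 at h
  simp only [Bool.and_eq_true, decide_eq_true_eq] at h
  obtain ⟨⟨⟨⟨⟨h1, h2⟩, h3⟩, h4⟩, h5⟩, h6⟩ := h
  set p := orient4 (d4tab r) b with hp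
  set q := orient4 (d4tab s) b' with hq
  rw [rt_comm_formula p.1 p.2.1 q.1 q.2.1 h1 h2 h3 h4 h5]
  by_cases hc : pt q.2.1 = p.2.1 ∧ p.1 ≠ q.1
  · rw [if_pos hc] at h6
    simp only [Bool.and_eq_true, Bool.or_eq_true, decide_eq_true_eq] at h6
    obtain ⟨⟨hterms, hk⟩, hsign⟩ := h6
    set c := (chevD4.commTerms r s).headD (0, 0, 0, 0) with hcdef
    have hw : chevD4.commWord F r s t u = [(c.1, (c.2.1 : F) * (-t) ^ 1 * u ^ 1)] := by
      unfold ChevalleyDatum.commWord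
      rw [hterms]
      rfl
    rw [hw, wordS_cons, wordS_nil, mul_one, if_pos hc.1, X4_of_lt _ hk]
    rcases hsign with ⟨e1, e2, e3⟩ | ⟨e1, e2, e3⟩
    · rw [e1, e2]
      congr 1
      have e3' : ((p.2.2 : ℤ) : F) * ((q.2.2 : ℤ) : F) = -(((d4tab c.1).2.2 : F) * (c.2.1 : F)) := by
        exact_mod_cast congrArg (fun z : ℤ => (z : F)) e3
      linear_combination (t * u) * e3'
    · rw [e1, e2, rt_swap p.1 q.1 h3]
      congr 1
      have e3' : ((p.2.2 : ℤ) : F) * ((q.2.2 : ℤ) : F) = ((d4tab c.1).2.2 : F) * (c.2.1 : F) := by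
        exact_mod_cast congrArg (fun z : ℤ => (z : F)) e3
      linear_combination (t * u) * e3'
  · rw [if_neg hc] at h6
    simp only [decide_eq_true_eq] at h6
    have hw : chevD4.commWord F r s t u = [] := by
      unfold ChevalleyDatum.commWord
      rw [h6]
      rfl
    rw [hw, wordS_nil]
    by_cases hc1 : pt q.2.1 = p.2.1
    · have hc2 : p.1 = q.1 := by
        by_contra hne
        exact hc ⟨hc1, hne⟩
      rw [hc2, rt_self]
    · rw [if_neg hc1, mul_zero, rt_zero]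

/-- Steinberg's relation (R2) for the root elements of type D₄ in the orthogonal group. -/
theorem X4_comm (r s : ℕ) (hr : r < 24) (hs : s < 24) (hsr : s ≠ r) (hsn : s ≠ chevD4.neg r) (t u : F) :
    (X4 s u)⁻¹ * (X4 r t)⁻¹ * X4 s u * X4 r t = wordS X4 (chevD4.commWord F r s t u) := by
  have h := of_pairRange (m := 24) (n := 24) (f := pairCheck4)
    (fun k hk => allRange_spec d4Pair k (Nat.zero_le k) hk) r hr s hs
  unfold pairCheck4 at h
  simp only [Bool.or_eq_true, decide_eq_true_eq] at h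
  rcases h with ((((h | h) | h) | h) | h) | h
  · exact absurd h hsr
  · exact absurd h hsn
  · exact relCheck4_spec r s hr hs _ _ h t u
  · exact relCheck4_spec r s hr hs _ _ h t u
  · exact relCheck4_spec r s hr hs _ _ h t u
  · exact relCheck4_spec r s hr hs _ _ h t u

end

end Cfsg.Agent.Lib.Helper3.PO
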