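import Mathlib
import Cfsg.Agent.Lib.Helper3.PO7
set_option autoImplicit false
set_option linter.unusedSectionVars false

/-! A group mapping onto a simple group with kernel its centre, and onto a second non-commutative group: the
second group modulo its centre is isomorphic to the simple group. -/

namespace Cfsg.Agent.Lib.Helper3.PO

/-- If `θ : Δ → G` is surjective onto a non-commutative simple group with kernel the centre of `Δ`, and
`ψ : Δ → E` is surjective onto a non-commutative group, then `G ≃ E / Z(E)`. -/
theorem center_quot_iso {Δ G E : Type*} [Group Δ] [Group G] [Group E] (θ : Δ →* G)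
    (hθ : Function.Surjective θ) (hker : θ.ker = Subgroup.center Δ) [IsSimpleGroup G]
    (hG : ∃ a b : G, a * b ≠ b * a) (ψ : Δ →* E) (hψ : Function.Surjective ψ)
    (hE : ∃ a b : E, a * b ≠ b * a) : Nonempty (G ≃* E ⧸ Subgroup.center E) := by
  -- the centre of `G` is trivial
  have hZG : Subgroup.center G = ⊥ := by
    rcases (inferInstance : (Subgroup.center G).Normal).eq_bot_or_eq_top with h | h
    · exact h
    · exfalso
      obtain ⟨a, b, hab⟩ := hG
      have ha : a ∈ Subgroup.center G := by rw [h]; exact Subgroup.mem_top a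
      exact hab ((Subgroup.mem_center_iff.mp ha b).symm)
  -- central elements map to central elements
  have hψZ : ∀ z ∈ Subgroup.center Δ, ψ z ∈ Subgroup.center E := by
    intro z hz
    rw [Subgroup.mem_center_iff]
    intro e
    obtain ⟨d, rfl⟩ := hψ e
    rw [← map_mul, ← map_mul, Subgroup.mem_center_iff.mp hz d]
  -- the kernel of `ψ` is contained in the kernel of `θ`
  have hkk : ψ.ker ≤ θ.ker := by
    have hN : (ψ.ker.map θ).Normal := Subgroup.Normal.map inferInstance θ hθ
    rcases hN.eq_bot_or_eq_top with h | h
    · intro x hx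
      have : θ x ∈ ψ.ker.map θ := Subgroup.mem_map_of_mem θ hx
      rw [h, Subgroup.mem_bot] at this
      exact this
    · exfalso
      obtain ⟨a, b, hab⟩ := hE
      apply hab
      obtain ⟨x, rfl⟩ := hψ a
      have hx : θ x ∈ ψ.ker.map θ := by rw [h]; exact Subgroup.mem_top _
      obtain ⟨k, hk, hkx⟩ := hx
      have hz : k⁻¹ * x ∈ Subgroup.center Δ := by
        rw [← hker, MonoidHom.mem_ker, map_mul, map_inv, hkx, inv_mul_cancel]
      have hψx : ψ x = ψ (k⁻¹ * x) := by
        rw [map_mul, map_inv, MonoidHom.mem_ker.mp hk, inv_one, one_mul]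
      rw [hψx]
      exact (Subgroup.mem_center_iff.mp (hψZ _ hz) b).symm
  -- the preimage of the centre of `E` is the centre of `Δ`
  have hM : (Subgroup.center E).comap ψ = Subgroup.center Δ := by
    apply le_antisymm
    · intro z hz
      rw [Subgroup.mem_comap] at hz
      rw [← hker, MonoidHom.mem_ker]
      have : θ z ∈ Subgroup.center G := by
        rw [Subgroup.mem_center_iff]
        intro g
        obtain ⟨d, rfl⟩ := hθ g
        have h1 : d * z * d⁻¹ * z⁻¹ ∈ ψ.ker := by
          rw [MonoidHom.mem_ker, map_mul, map_mul, map_mul, map_inv, map_inv,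
            Subgroup.mem_center_iff.mp hz (ψ d)]
          group
        have h2 := hkk h1
        rw [MonoidHom.mem_ker, map_mul, map_mul, map_mul, map_inv, map_inv] at h2
        have h3 : θ d * θ z = (θ d * θ z * (θ d)⁻¹ * (θ z)⁻¹) * (θ z * θ d) := by group
        rw [h3, h2, one_mul]
      rw [hZG, Subgroup.mem_bot] at this
      exact this
    · intro z hz
      exact hψZ z hz
  -- the two quotients
  let π : Δ →* E ⧸ Subgroup.center E := (QuotientGroup.mk' (Subgroup.center E)).comp ψ
  have hπ : Function.Surjective π := (QuotientGroup.mk'_surjective _).comp hψ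
  have hπker : π.ker = θ.ker := by
    rw [hker, ← hM]
    ext z
    rw [MonoidHom.mem_ker, Subgroup.mem_comap]
    show (QuotientGroup.mk (ψ z) : E ⧸ Subgroup.center E) = 1 ↔ _
    rw [QuotientGroup.eq_one_iff]
  exact ⟨(QuotientGroup.quotientKerEquivOfSurjective θ hθ).symm.trans
    ((QuotientGroup.quotientMulEquivOfEq hπker.symm).trans
      (QuotientGroup.quotientKerEquivOfSurjective π hπ))⟩

end Cfsg.Agent.Lib.Helper3.PO
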