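import Mathlib
import Cfsg.Prelude.Def_Steinberg
import Cfsg.Prelude.Def_SteinbergCover
import Cfsg.Agent.Lib.Helper3.PO8
import Cfsg.Agent.Lib.Helper3.StB14
import Cfsg.Agent.Lib.Helper3.ChevData.D4St
import Cfsg.Agent.Lib.Helper3.ChevData.D4Rel
import Cfsg.Agent.Lib.Helper3.ChevData.D4Hdec
import Cfsg.Agent.Lib.Helper3.ChevData.D4Tri
import Cfsg.Agent.Lib.Helper3.ChevData.D4NegTri
import Cfsg.Agent.Lib.Helper3.ChevData.D4Opp
import Cfsg.Agent.Lib.Helper3.ChevData.D4NegRefl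
import Cfsg.Agent.Lib.Helper3.ChevData.D4Rwc
import Cfsg.Agent.Lib.Helper3.ChevData.D4Inj
import Cfsg.Agent.Lib.Helper3.ChevData.D4Simple
set_option autoImplicit false
set_option linter.unusedSectionVars false
set_option maxRecDepth 1000000
open Cfsg Cfsg.Lie

/-! The Chevalley group of type D₄ is isomorphic to `PΩ₈⁺`. -/

namespace Cfsg.Agent.Lib.Helper3.PO

open Cfsg.Agent.H9Sieg Cfsg.Agent.Lib.Helper5.QuadGlue Cfsg.Agent.Lib.Helper2.QuadStd Matrix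
open Cfsg.Agent.Lib.Helper3.ChevM Cfsg.Agent.Lib.Helper3.StB

section
variable (F : Type*) [Field F]

/-- The homomorphism from the free group sending the symbols to the root elements of the orthogonal group. -/
noncomputable def lift4 : FreeGroup (Fin chevD4.nroots × F) →* ↥(Cfsg.isometryGroup F ⇑(Qp F 4)) :=
  FreeGroup.lift fun p => X4 p.1.val p.2

variable {F}

theorem lift4_stX (r : ℕ) (t : F) : lift4 F (chevD4.stX r t) = X4 r t := by
  by_cases hr : r < chevD4.nroots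
  · rw [stX_of_lt _ r hr]
    unfold lift4
    rw [FreeGroup.lift_apply_of]
  · rw [stX_of_not_lt _ r hr, map_one]
    unfold X4
    have hr' : ¬ r < 24 := hr
    rw [if_neg hr']

theorem lift4_stWord (w : List (ℕ × F)) : lift4 F (chevD4.stWord w) = wordS X4 w := by
  rw [map_stWord]
  unfold wordS
  congr 1
  apply List.map_congr_left
  intro p _
  exact lift4_stX p.1 p.2

theorem lift4_rels : ∀ g ∈ chevD4.steinbergRelsAB F, lift4 F g = 1 := by
  rintro g (⟨r, a, b, hr, rfl⟩ | ⟨r, s, t, u, hr, hs, hsr, hsn, rfl⟩)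
  · rw [map_mul, map_mul, map_inv, lift4_stX, lift4_stX, lift4_stX, X4_add, mul_inv_cancel]
  · rw [map_mul, map_mul, map_mul, map_mul, map_inv, map_inv, map_inv, lift4_stX, lift4_stX, lift4_stWord,
      mul_inv_eq_one]
    exact X4_comm r s hr hs hsr hsn t u

/-- The homomorphism from the group presented by (R1) and (R2) to the orthogonal group. -/
noncomputable def psi4 : chevD4.SteinbergCover F →* ↥(Cfsg.isometryGroup F ⇑(Qp F 4)) :=
  PresentedGroup.toGroup (f := fun p : Fin chevD4.nroots × F => X4 p.1.val p.2)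
    (show ∀ r ∈ chevD4.steinbergRelsAB F,
      FreeGroup.lift (fun p : Fin chevD4.nroots × F => X4 p.1.val p.2) r = 1 from lift4_rels)

theorem psi4_of (p : Fin chevD4.nroots × F) : psi4 (PresentedGroup.of p) = X4 p.1.val p.2 := by
  unfold psi4
  rw [PresentedGroup.toGroup.of]

theorem X4_mem_Ert (r : ℕ) (t : F) : X4 r t ∈ Ert F 4 := by
  unfold X4
  by_cases hr : r < 24
  · rw [if_pos hr]
    exact rt_mem_Ert _ _ _ (d4line_spec r hr).1 (d4line_spec r hr).2.1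
  · rw [if_neg hr]
    exact Subgroup.one_mem _

theorem d4Cover : ∀ k l : Fin 4 ⊕ Fin 4, l ≠ k → l ≠ pt k → ∃ r, r < 24 ∧
    (((d4tab r).1 = k ∧ (d4tab r).2.1 = l) ∨ ((d4tab r).1 = l ∧ (d4tab r).2.1 = k)) := by
  decide +kernel

theorem psi4_range : (psi4 (F := F)).range = Ert F 4 := by
  apply le_antisymm
  · rw [MonoidHom.range_eq_map, ← PresentedGroup.closure_range_of, MonoidHom.map_closure, Subgroup.closure_le]
    rintro _ ⟨_, ⟨p, rfl⟩, rfl⟩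
    rw [psi4_of]
    exact X4_mem_Ert _ _
  · unfold Ert
    rw [Subgroup.closure_le]
    rintro g ⟨k, l, c, h1, h2, rfl⟩
    obtain ⟨r, hr, hkl⟩ := d4Cover k l h1 h2
    have hr' : r < chevD4.nroots := hr
    have hsq : ((d4tab r).2.2 : F) * ((d4tab r).2.2 : F) = 1 := by
      rcases (d4line_spec r hr).2.2 with h | h <;> rw [h] <;> simp
    rcases hkl with ⟨e1, e2⟩ | ⟨e1, e2⟩
    · refine ⟨PresentedGroup.of ((⟨r, hr'⟩ : Fin chevD4.nroots), ((d4tab r).2.2 : F) * c), ?_⟩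
      rw [psi4_of, X4_of_lt r hr, e1, e2, ← mul_assoc, hsq, one_mul]
    · refine ⟨PresentedGroup.of ((⟨r, hr'⟩ : Fin chevD4.nroots), -(((d4tab r).2.2 : F) * c)), ?_⟩
      rw [psi4_of, X4_of_lt r hr, e1, e2, rt_swap k l h2, mul_neg, neg_neg, ← mul_assoc, hsq, one_mul]

theorem rt_ne_one (k l : Fin 4 ⊕ Fin 4) (h1 : l ≠ k) (h2 : l ≠ pt k) : rt k l (1 : F) ≠ 1 := by
  intro h
  have e := rt_apply_left k l h2 h1 (1 : F) (bv (pt l))
  have hv : (bv (pt l) : _ → F) (pt l) = 1 := by rw [bv_apply, if_pos rfl]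
  rw [h, coe_one_mulVec, hv] at e
  exact one_ne_zero (by linear_combination -e)

theorem Ert_noncomm : ∃ a b : ↥(Ert F 4), a * b ≠ b * a := by
  have h1 : (Sum.inl 1 : Fin 4 ⊕ Fin 4) ≠ pt (Sum.inl 0) := by decide
  have h2 : (Sum.inr 1 : Fin 4 ⊕ Fin 4) ≠ pt (Sum.inl 2) := by decide
  have h3 : (Sum.inl 2 : Fin 4 ⊕ Fin 4) ≠ pt (Sum.inl 0) := by decide
  have h4 : (Sum.inr 1 : Fin 4 ⊕ Fin 4) ≠ pt (Sum.inl 0) := by decide
  have h5 : (Sum.inl 2 : Fin 4 ⊕ Fin 4) ≠ pt (Sum.inl 1) := by decide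
  have hf := rt_comm_formula (F := F) (Sum.inl 0) (Sum.inl 1) (Sum.inl 2) (Sum.inr 1) h1 h2 h3 h4 h5 1 1
  have hpt : pt (Sum.inr 1 : Fin 4 ⊕ Fin 4) = Sum.inl 1 := rfl
  rw [if_pos hpt, mul_one, mul_one] at hf
  have h6 : (Sum.inr 1 : Fin 4 ⊕ Fin 4) ≠ Sum.inl 2 := by decide
  have h7 : (Sum.inl 1 : Fin 4 ⊕ Fin 4) ≠ Sum.inl 0 := by decide
  have h8 : (Sum.inl 2 : Fin 4 ⊕ Fin 4) ≠ Sum.inl 0 := by decide
  refine ⟨⟨rt (Sum.inl 2) (Sum.inr 1) (1 : F), rt_mem_Ert _ _ _ h6 h2⟩,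
    ⟨rt (Sum.inl 0) (Sum.inl 1) (1 : F), rt_mem_Ert _ _ _ h7 h1⟩, ?_⟩
  intro hc
  have hc' : rt (Sum.inl 2) (Sum.inr 1) (1 : F) * rt (Sum.inl 0) (Sum.inl 1) (1 : F) =
      rt (Sum.inl 0) (Sum.inl 1) (1 : F) * rt (Sum.inl 2) (Sum.inr 1) (1 : F) := congrArg Subtype.val hc
  apply rt_ne_one (F := F) (Sum.inl 0) (Sum.inl 2) h8 h3
  rw [← hf, mul_assoc, hc']
  group

/-- `D₄(F) ≃ PΩ₈⁺(F)`, for the quadratic form given as a `QuadraticForm`. -/
theorem d4_iso_aux : Nonempty (↥(chevD4.group F) ≃* Cfsg.POmega F ⇑(Qp F 4)) := by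
  obtain ⟨θ, hθs, hθk, -⟩ := pres_exists relD4 commD4 stHypD4
    (relD4.borel_core_trivial (of_pairRange (m := 24) (n := 24) d4Hdec) d4Tri d4NegTri w0D4 w0rD4 w0D4_lt d4Opp (of_pairRange (m := 4) (n := 24) d4NegRefl) rwD4 d4Rwc d4Inj) _ (fun g hg => hg)
    (stLift_relsAB (F := F) relD4 commD4)
  obtain ⟨hsimple, hnc⟩ : IsSimpleGroup ↥(chevD4.group F) ∧ ¬ IsMulCommutative ↥(chevD4.group F) :=
    commD4.simple (F := F) simpleD4 (Or.inl fun _ _ => rfl)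
  have hG : ∃ a b : ↥(chevD4.group F), a * b ≠ b * a := by
    by_contra hcon
    push Not at hcon
    exact hnc ⟨⟨hcon⟩⟩
  have hΩ : Cfsg.Omega F ⇑(Qp F 4) = Ert F 4 := Omega_eq_Ert (by norm_num)
  have hrange : ∀ x, psi4 (F := F) x ∈ Cfsg.Omega F ⇑(Qp F 4) := by
    intro x
    rw [hΩ, ← psi4_range]
    exact ⟨x, rfl⟩
  let ψ : chevD4.SteinbergCover F →* ↥(Cfsg.Omega F ⇑(Qp F 4)) := psi4.codRestrict _ hrange
  have hψ : Function.Surjective ψ := by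
    rintro ⟨y, hy⟩
    have hy' : y ∈ (psi4 (F := F)).range := by rw [psi4_range, ← hΩ]; exact hy
    obtain ⟨x, rfl⟩ := hy'
    exact ⟨x, rfl⟩
  have hE : ∃ a b : ↥(Cfsg.Omega F ⇑(Qp F 4)), a * b ≠ b * a := by
    obtain ⟨a, b, hab⟩ := Ert_noncomm (F := F)
    refine ⟨⟨a.1, by rw [hΩ]; exact a.2⟩, ⟨b.1, by rw [hΩ]; exact b.2⟩, ?_⟩
    intro h
    apply hab
    apply Subtype.ext
    have := congrArg Subtype.val h
    exact this
  have := hsimple
  exact center_quot_iso θ hθs hθk hG ψ hψ hE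

/-- `D₄(F) ≃ PΩ₈⁺(F)`. -/
theorem d4_iso : Nonempty (↥(chevD4.group F) ≃* Cfsg.POmega F (Cfsg.quadFormPlus 4 F)) := by
  have h := d4_iso_aux (F := F)
  have e : ⇑(Qp F 4) = Cfsg.quadFormPlus 4 F := QP_coe 4
  rw [e] at h
  exact h

end

end Cfsg.Agent.Lib.Helper3.PO
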