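import Cfsg.Agent.Lib.Helper3.DS20
import Cfsg.Agent.Lib.Helper3.StEmb4
import Cfsg.Agent.S2398
import Cfsg.Agent.S2395
import Cfsg.Agent.S1077
import Cfsg.Agent.S1082
import Cfsg.Agent.S1051
import Cfsg.Agent.Lib.Helper3.StS4
import Cfsg.Agent.Lib.Helper3.StB16
import Cfsg.Agent.Lib.Helper3.StU12
import Cfsg.Agent.Lib.Helper3.StV13
import Cfsg.Agent.Lib.Helper3.StV21
import Cfsg.Agent.Lib.Helper3.StRk3
import Cfsg.Agent.Lib.Helper3.ChevData.D4Vhyp
import Cfsg.Agent.Lib.Helper3.ChevData.D4Vec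
import Cfsg.Agent.Lib.Helper3.ChevData.D4Hd2

/-!
# The Schur multiplier of `PΩ⁺_{2n}(q)`, `n ≥ 4` even
-/

set_option linter.unusedSectionVars false
set_option linter.unusedVariables false
set_option linter.unusedSimpArgs false

namespace Cfsg.Agent.Lib.Helper3.DS

open Matrix Cfsg.Agent.Lib.Helper5.QuadGlue
  Cfsg.Agent.Lib.Helper5.Stb Cfsg.Agent.Lib.Helper3.DN Cfsg.Agent.Lib.Helper3.StU
  Cfsg.Agent.Lib.Helper3.StB Cfsg.Agent.Lib.Helper3.StV Cfsg.Agent.Lib.Helper3.ChevM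
  Cfsg.Agent.Lib.Helper3.StS Cfsg.Agent.Lib.Helper3.StRk Cfsg.Agent.Lib.Helper3.StEmb
open scoped commutatorElement

universe u

section general

/-- the restriction of a lift to the kernels is onto -/
theorem ker_map_surjective {G Γ₀ Γ : Type*} [Group G] [Group Γ₀] [Group Γ] (θ : Γ₀ →* G)
    (hθ : Function.Surjective θ) (σ : Γ →* G) (hσ : Cfsg.IsStemExtension σ) (τ : Γ₀ →* Γ)
    (hτ : σ.comp τ = θ) : ∀ z ∈ σ.ker, ∃ d ∈ θ.ker, τ d = z := by
  obtain ⟨hsurj, hcen, hcomm⟩ := hσ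
  have hτ' : ∀ d, σ (τ d) = θ d := fun d => DFunLike.congr_fun hτ d
  have hdec : ∀ γ : Γ, ∃ k ∈ σ.ker, ∃ d : Γ₀, γ = k * τ d := by
    intro γ
    obtain ⟨d, hd⟩ := hθ (σ γ)
    refine ⟨γ * (τ d)⁻¹, ?_, d, by group⟩
    rw [MonoidHom.mem_ker, map_mul, map_inv, hτ', hd, mul_inv_cancel]
  have hle : commutator Γ ≤ τ.range := by
    rw [commutator_eq_closure, Subgroup.closure_le]
    rintro _ ⟨a, b, rfl⟩
    obtain ⟨k, hk, d, rfl⟩ := hdec a
    obtain ⟨k', hk', d', rfl⟩ := hdec b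
    have e : ⁅k * τ d, k' * τ d'⁆ = ⁅τ d, τ d'⁆ := by
      apply comm_congr σ hcen
      · rw [map_mul, MonoidHom.mem_ker.mp hk, one_mul]
      · rw [map_mul, MonoidHom.mem_ker.mp hk', one_mul]
    rw [e, ← map_commutatorElement]
    exact ⟨_, rfl⟩
  intro z hz
  obtain ⟨d, hd⟩ := hle (hcomm hz)
  refine ⟨d, ?_, hd⟩
  rw [MonoidHom.mem_ker, ← hτ', hd]
  exact MonoidHom.mem_ker.mp hz

end general

section final
variable {F : Type u} [Field F] [Fintype F] {n : ℕ}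

theorem multiplier_even (hn : 6 ≤ n) (heven : Even n) :
    Cfsg.HasSchurMultiplier
      (↥(Cfsg.Omega F ⇑(QP n F)) ⧸ Subgroup.center ↥(Cfsg.Omega F ⇑(QP n F)))
      (Multiplicative (ZMod (Nat.gcd 2 (Fintype.card F ^ n - 1)) ×
        ZMod (Nat.gcd 2 (Fintype.card F ^ n - 1)))) := by
  have hn4 : 4 ≤ n := by omega
  obtain ⟨o, p, hop⟩ : ∃ o p : Fin n, o ≠ p :=
    ⟨⟨0, by omega⟩, ⟨1, by omega⟩, by simp [Fin.ext_iff]⟩
  let e := kerEquiv2 (F := F) hn4 o p hop heven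
  have : Finite ↥(theta (F := F) hn4).ker := Finite.of_equiv _ e.toEquiv
  have : Finite (StD (Fin n ⊕ Fin n) F Sum.swap) := StS.finite_of_ker_finite (theta hn4)
  obtain ⟨e₁⟩ := exists_mu2_equiv (F := F) (Nat.gcd 2 (Fintype.card F ^ n - 1))
    (by rw [card_mu2, gcd_two_pow Fintype.card_pos (by omega)])
  refine hasSchurMultiplier_of_cover (theta hn4) (theta_surj hn4) (theta_ker_le hn4)
    (sD_perfect hn4) (e₁.trans e) ?_
  intro Γ _ _ σ hσ
  obtain ⟨τ, hτ, -⟩ := existsUnique_lift (sD_perfect (F := F) hn4)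
    (fun E' _ ψ' hs hc => stD_split Sum.swap_swap swap_ne (fresh_sum (by omega)) ψ' hs hc)
    σ hσ.1 hσ.2.1 (theta hn4)
  exact ⟨τ, hτ⟩

end final

section d4
variable {F : Type u} [Field F] [Fintype F]

theorem d4_cover_perfect : commutator (Cfsg.Lie.chevD4.SteinbergCover F) = ⊤ := by
  have hKD : Cfsg.Lie.chevD4 ∈ [Cfsg.Lie.chevB2, Cfsg.Lie.chevG2] → ∃ x : F, x ≠ 0 ∧ x ≠ 1 := by
    intro h
    exfalso
    simp only [List.mem_cons, List.not_mem_nil, or_false] at h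
    rcases h with h | h <;>
    · have := congrArg Cfsg.Lie.ChevalleyDatum.rank h
      revert this
      decide
  exact Cfsg.Agent.S2395.result Cfsg.Lie.chevD4 (by simp) hKD

theorem d4_cover_equiv :
    Nonempty (Cfsg.Lie.chevD4.SteinbergCover F ≃* Cfsg.Lie.chevD4.SteinbergGroup F) := by
  obtain ⟨e, -⟩ := cover_equiv_steinberg (F := F) commD4 stHypD4 (by decide +kernel)
  exact ⟨e⟩

theorem d4_perfect : commutator (Cfsg.Lie.chevD4.SteinbergGroup F) = ⊤ := by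
  obtain ⟨e⟩ := d4_cover_equiv (F := F)
  have h1 := d4_cover_perfect (F := F)
  have h2 := Subgroup.map_commutator (⊤ : Subgroup (Cfsg.Lie.chevD4.SteinbergCover F)) ⊤ e.toMonoidHom
  rw [← commutator_def, h1, Subgroup.map_top_of_surjective _ e.surjective, ← commutator_def] at h2
  exact h2.symm

theorem d4_lift (hK : Fintype.card F ≠ 2) {G₁ E : Type u} [Group G₁] [Group E] (π₁ : E →* G₁)
    (hπ : Function.Surjective π₁) (hc : π₁.ker ≤ Subgroup.center E)
    (σ : Cfsg.Lie.chevD4.SteinbergGroup F →* G₁) :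
    ∃ τ : Cfsg.Lie.chevD4.SteinbergGroup F →* E, π₁.comp τ = σ := by
  have hcard2 : 2 ≤ Fintype.card F := Fintype.one_lt_card
  have hK3 : 3 ≤ Fintype.card F := by omega
  have hperf := d4_cover_perfect (F := F)
  obtain ⟨e'⟩ := d4_cover_equiv (F := F)
  have key : ∃ τ' : Cfsg.Lie.chevD4.SteinbergCover F →* E, π₁.comp τ' = σ.comp e'.toMonoidHom := by
    by_cases h5 : 5 ≤ Fintype.card F
    · have hK5 : ∃ s : Finset F, 4 < s.card := ⟨Finset.univ, by rw [Finset.card_univ]; omega⟩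
      exact (Cfsg.Agent.S2398.result (K := F) hK5 Cfsg.Lie.chevD4 (by simp) π₁ hπ hc
        (σ.comp e'.toMonoidHom)).exists
    · have h34 : Fintype.card F = 3 ∨ Fintype.card F = 4 := by omega
      rcases h34 with h3 | h4
      · exact (existsUnique_lift hperf (fun _ _ ψ' hs' hc' =>
          cover_split_orth commD4 orthHypD4 (elems_of_card_three h3) (three_eq_zero_of_card h3) hperf ψ' hs' hc')
          π₁ hπ hc (σ.comp e'.toMonoidHom)).exists
      · obtain ⟨P, hP⟩ := exists_primEl_of_card_four h4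
        exact (existsUnique_lift hperf (fun _ _ ψ' hs' hc' =>
          cover_split_sep commD4 sepHypCD4 P hP (two_eq_zero_of_card h4) hperf ψ' hs' hc')
          π₁ hπ hc (σ.comp e'.toMonoidHom)).exists
  obtain ⟨τ', hτ'⟩ := key
  refine ⟨τ'.comp e'.symm.toMonoidHom, ?_⟩
  refine MonoidHom.ext fun x => ?_
  have := DFunLike.congr_fun hτ' (e'.symm x)
  simp only [MonoidHom.comp_apply, MulEquiv.coe_toMonoidHom, MulEquiv.apply_symm_apply] at this ⊢
  exact this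

theorem d4_card_center :
    Finite (Subgroup.center (Cfsg.Lie.chevD4.SteinbergGroup F)) ∧
    Nat.card (Subgroup.center (Cfsg.Lie.chevD4.SteinbergGroup F)) ≤ Nat.card ↥(mu2 F) ^ 2 := by
  obtain ⟨h1, h2⟩ := card_center_le (F := F) relD4 commD4 stHypD4
    (Cfsg.Agent.S1051.result Cfsg.Lie.chevD4 (by simp))
    vecD4 (of_pairRange (m := 4) (n := 24) d4Vec) smPD4 smQD4 smPiD4 smQiD4 smDD4
    (by decide +kernel) (by decide +kernel) (by decide +kernel) (by decide +kernel)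
  refine ⟨h1, le_trans h2 (le_of_eq ?_)⟩
  have e : ∏ k : Fin 4, Nat.card ↥(powMonoidHom (smDD4 k) : Fˣ →* Fˣ).ker =
      Nat.card ↥(powMonoidHom 1 : Fˣ →* Fˣ).ker * Nat.card ↥(powMonoidHom 1 : Fˣ →* Fˣ).ker *
        Nat.card ↥(powMonoidHom 2 : Fˣ →* Fˣ).ker * Nat.card ↥(powMonoidHom 2 : Fˣ →* Fˣ).ker := by
    rw [Fin.prod_univ_four]
    rfl
  have e1 : Nat.card ↥(powMonoidHom 1 : Fˣ →* Fˣ).ker = 1 := by
    rw [IsCyclic.card_powMonoidHom_ker, Nat.gcd_one_right]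
  exact e.trans (by rw [e1]; ring)

theorem multiplier_d4 (hK : Fintype.card F ≠ 2) :
    Cfsg.HasSchurMultiplier
      (↥(Cfsg.Omega F ⇑(QP 4 F)) ⧸ Subgroup.center ↥(Cfsg.Omega F ⇑(QP 4 F)))
      (Multiplicative (ZMod (Nat.gcd 2 (Fintype.card F ^ 4 - 1)) ×
        ZMod (Nat.gcd 2 (Fintype.card F ^ 4 - 1)))) := by
  have hn4 : 4 ≤ 4 := le_rfl
  obtain ⟨o, p, hop⟩ : ∃ o p : Fin 4, o ≠ p := ⟨0, 1, by decide⟩
  let e := kerEquiv2 (F := F) hn4 o p hop (by decide)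
  have hfin1 : Finite ↥(theta (F := F) hn4).ker := Finite.of_equiv _ e.toEquiv
  have hfin2 : Finite (StD (Fin 4 ⊕ Fin 4) F Sum.swap) := StS.finite_of_ker_finite (theta hn4)
  obtain ⟨e₁⟩ := exists_mu2_equiv (F := F) (Nat.gcd 2 (Fintype.card F ^ 4 - 1))
    (by rw [card_mu2, gcd_two_pow Fintype.card_pos (by omega)])
  -- the covering by the group presented by Steinberg's relators
  obtain ⟨θ, hθs, hθk, -⟩ := Cfsg.Agent.S1077.result (K := F) Cfsg.Lie.chevD4 (by simp)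
  have hε : Nonempty (↥(Cfsg.Lie.chevD4.group F) ≃*
      (↥(Cfsg.Omega F ⇑(QP 4 F)) ⧸ Subgroup.center ↥(Cfsg.Omega F ⇑(QP 4 F)))) := by
    have h := Cfsg.Agent.S1082.result (F := F)
    rw [← Cfsg.Agent.Lib.Helper2.QuadStd.QP_coe] at h
    exact h
  obtain ⟨ε⟩ := hε
  let Θ : Cfsg.Lie.chevD4.SteinbergGroup F →*
      (↥(Cfsg.Omega F ⇑(QP 4 F)) ⧸ Subgroup.center ↥(Cfsg.Omega F ⇑(QP 4 F))) :=
    ε.toMonoidHom.comp θ
  have hΘs : Function.Surjective Θ := ε.surjective.comp hθs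
  have hΘk : Θ.ker = Subgroup.center (Cfsg.Lie.chevD4.SteinbergGroup F) := by
    rw [← hθk]
    ext x
    rw [MonoidHom.mem_ker, MonoidHom.mem_ker]
    show ε (θ x) = 1 ↔ θ x = 1
    exact ε.map_eq_one_iff
  obtain ⟨hfinZ, hcardZ⟩ := d4_card_center (F := F)
  have hfin3 : Finite ↥Θ.ker := by rw [hΘk]; exact hfinZ
  have hfin4 : Finite (Cfsg.Lie.chevD4.SteinbergGroup F) := StS.finite_of_ker_finite Θ
  have hstem : Cfsg.IsStemExtension (theta (F := F) hn4) :=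
    ⟨theta_surj hn4, theta_ker_le hn4, by rw [sD_perfect hn4]; exact le_top⟩
  obtain ⟨τ, hτ⟩ := d4_lift hK (theta (F := F) hn4) (theta_surj hn4) (theta_ker_le hn4) Θ
  have hsurj := ker_map_surjective Θ hΘs (theta hn4) hstem τ hτ
  have hτ' : ∀ d, theta (F := F) hn4 (τ d) = Θ d := fun d => DFunLike.congr_fun hτ d
  let ρ : Θ.ker →* (theta (F := F) hn4).ker :=
    { toFun := fun d => ⟨τ d.1, by
        rw [MonoidHom.mem_ker, hτ']
        exact MonoidHom.mem_ker.mp d.2⟩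
      map_one' := by
        apply Subtype.ext
        show τ 1 = 1
        exact map_one τ
      map_mul' := by
        intro a b
        apply Subtype.ext
        show τ (a.1 * b.1) = τ a.1 * τ b.1
        exact map_mul τ _ _ }
  have hρs : Function.Surjective ρ := by
    intro z
    obtain ⟨d, hd, hz⟩ := hsurj z.1 z.2
    exact ⟨⟨d, hd⟩, Subtype.ext hz⟩
  have hcard : Nat.card ↥Θ.ker ≤ Nat.card ↥(theta (F := F) hn4).ker := by
    rw [← Nat.card_congr e.toEquiv, Nat.card_prod, hΘk, ← sq]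
    exact hcardZ
  have hρb : Function.Bijective ρ := hρs.bijective_of_nat_card_le hcard
  let e₂ : ↥Θ.ker ≃* ↥(theta (F := F) hn4).ker := MulEquiv.ofBijective ρ hρb
  refine hasSchurMultiplier_of_cover Θ hΘs (le_of_eq hΘk) d4_perfect ((e₁.trans e).trans e₂.symm) ?_
  intro Γ _ _ σ hσ
  exact d4_lift hK σ hσ.1 hσ.2.1 Θ

end d4

end Cfsg.Agent.Lib.Helper3.DS
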