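import Cfsg.Agent.Lib.Helper5.Stb.B3
import Cfsg.Agent.Lib.Helper3.DN5

/-!
# Torus elements of Steinberg data of type `A` without the generation hypothesis
-/

set_option linter.unusedSectionVars false
set_option linter.unusedVariables false
set_option linter.unusedSimpArgs false

namespace Cfsg.Agent.Lib.Helper3.DS

open Cfsg.Agent.Lib.Helper5.Stb

section restrictA
variable {I K G : Type*} [Field K] [Group G]

/-- restriction of Steinberg data of type `A` to a subgroup containing the root elements -/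
def stRestrict (S : StData I K G) (H : Subgroup G) (h : ∀ i j t, S.x i j t ∈ H) :
    StData I K H where
  x := fun i j t => ⟨S.x i j t, h i j t⟩
  x_self := fun i t => Subtype.ext (S.x_self i t)
  x_add := fun i j t u => Subtype.ext (S.x_add i j t u)
  x_comm := fun i j k l t u h1 h2 => Subtype.ext (S.x_comm i j k l t u h1 h2)
  x_rel := fun i j l t u h1 h2 h3 => Subtype.ext (S.x_rel i j l t u h1 h2 h3)

/-- the subgroup generated by the root elements -/
abbrev stCl (S : StData I K G) : Subgroup G :=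
  Subgroup.closure {g : G | ∃ i j t, g = S.x i j t}

/-- restriction to the subgroup generated by the root elements -/
def stRes (S : StData I K G) : StData I K (stCl S) :=
  stRestrict S (stCl S) (fun i j t => Subgroup.subset_closure ⟨i, j, t, rfl⟩)

theorem stRes_gen (S : StData I K G) : (stRes S).Gen := by
  unfold StData.Gen
  have h := Subgroup.closure_closure_coe_preimage (k := {g : G | ∃ i j t, g = S.x i j t})
  rw [← h]
  congr 1
  ext g
  constructor
  · rintro ⟨i, j, t, rfl⟩
    exact ⟨i, j, t, rfl⟩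
  · rintro ⟨i, j, t, hg⟩
    exact ⟨i, j, t, Subtype.ext hg⟩

section free
variable [DecidableEq I] [Finite K] (S : StData I K G) (h3 : ∀ i j : I, ∃ l, i ≠ l ∧ j ≠ l)
include h3

theorem hA_mul {i k : I} (hik : i ≠ k) {u v : K} (hu : u ≠ 0) (hv : v ≠ 0) :
    S.h i k (u * v) = S.h i k u * S.h i k v :=
  congrArg Subtype.val ((stRes S).h_mul h3 (stRes_gen S) hik hu hv)

theorem hA_inv {i k : I} (hik : i ≠ k) {u : K} (hu : u ≠ 0) : S.h i k u⁻¹ = (S.h i k u)⁻¹ :=
  congrArg Subtype.val ((stRes S).h_inv h3 (stRes_gen S) hik hu)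

theorem hA_commute {i j k l : I} (hij : i ≠ j) {u v : K} (hu : u ≠ 0) (hv : v ≠ 0) :
    S.h i j u * S.h k l v = S.h k l v * S.h i j u :=
  congrArg Subtype.val ((stRes S).h_commute h3 (stRes_gen S) (k := k) (l := l) hij hu hv)

theorem hA_triple {i j k : I} (hij : i ≠ j) (hik : i ≠ k) (hjk : j ≠ k) {u : K} (hu : u ≠ 0) :
    S.h i k u = S.h i j u * S.h j k u :=
  congrArg Subtype.val ((stRes S).h_triple h3 (stRes_gen S) hij hik hjk hu)

theorem hA_mul_inv {i k : I} (hik : i ≠ k) {d v : K} (hd : d ≠ 0) (hv : v ≠ 0) :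
    S.h i k (d * v) * (S.h i k d)⁻¹ = S.h i k v := by
  rw [mul_comm d v, hA_mul S h3 hik hv hd, mul_inv_cancel_right]

theorem hA_swap {i k : I} (hik : i ≠ k) {u : K} (hu : u ≠ 0) : S.h k i u = (S.h i k u)⁻¹ := by
  have hm1 : (-1 : K) ≠ 0 := by simp
  have e1 : S.w k i u = S.w i k (-u⁻¹) := S.w_swap h3 (Ne.symm hik) hu
  have e2 : S.w k i (-1) = S.w i k 1 := by
    rw [S.w_swap h3 (Ne.symm hik) hm1]
    congr 1
    rw [inv_neg, inv_one, neg_neg]
  have e3 : S.h k i u = S.w k i u * S.w k i (-1) := rfl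
  rw [e3, e1, e2, S.w_mul_w, ← hA_inv S h3 hik hu]
  have e4 : -u⁻¹ = (-1) * u⁻¹ := by ring
  rw [e4]
  exact hA_mul_inv S h3 hik hm1 (inv_ne_zero hu)

end free

end restrictA

end Cfsg.Agent.Lib.Helper3.DS
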