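import Cfsg.Agent.Lib.Helper3.DS5

/-!
# Type `D`: monomial elements, the torus and the monomial subgroups
-/

set_option linter.unusedSectionVars false
set_option linter.unusedVariables false
set_option linter.unusedSimpArgs false

namespace Cfsg.Agent.Lib.Helper3.DN

open Cfsg.Agent.Lib.Helper5.Stb Cfsg.Agent.Lib.Helper3.AN Cfsg.Agent.Lib.Helper3.DS Matrix

section mon
variable {J K G : Type*} [Field K] [Group G] [Fintype J] [DecidableEq J] {ν : J → J}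
  (D : DData J K G ν) (φ : G →* Matrix J J K)

/-- `g` acts monomially, compatibly with `ν`, on the root elements and on the natural module -/
structure Mon (g : G) (π : Equiv.Perm J) (v : J → K) : Prop where
  raw : RawMon D.y g π v
  nu : ∀ k, π (ν k) = ν (π k)
  rep : ∀ l, φ g *ᵥ (ev l : J → K) = v l • (ev (π l) : J → K)

variable {D φ}

theorem Mon.one : Mon D φ 1 1 (fun _ => 1) :=
  ⟨RawMon.one D.y, fun k => rfl, fun l => by
    rw [map_one, Matrix.one_mulVec, one_smul]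
    rfl⟩

theorem Mon.mul {g g' : G} {π π' : Equiv.Perm J} {v v' : J → K} (h : Mon D φ g π v)
    (h' : Mon D φ g' π' v') : Mon D φ (g * g') (π * π') (fun k => v' k * v (π' k)) := by
  refine ⟨h.raw.mul h'.raw, fun k => ?_, fun l => ?_⟩
  · rw [Equiv.Perm.mul_apply, Equiv.Perm.mul_apply, h'.nu, h.nu]
  · rw [map_mul, ← Matrix.mulVec_mulVec, h'.rep, Matrix.mulVec_smul, h.rep, smul_smul,
      Equiv.Perm.mul_apply]

theorem Mon.inv {g : G} {π : Equiv.Perm J} {v : J → K} (h : Mon D φ g π v) :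
    Mon D φ g⁻¹ π⁻¹ (fun k => (v (π⁻¹ k))⁻¹) := by
  refine ⟨h.raw.inv, fun k => ?_, fun l => ?_⟩
  · apply π.injective
    rw [h.nu]
    simp
  · have h1 := h.rep (π⁻¹ l)
    have e : π (π⁻¹ l) = l := by simp
    rw [e] at h1
    have h2 := rep_inv_mulVec φ g (ev (π⁻¹ l) : J → K)
    rw [h1, Matrix.mulVec_smul] at h2
    have hv := h.raw.1 (π⁻¹ l)
    rw [← h2, smul_smul, inv_mul_cancel₀ hv, one_smul]

theorem Mon.congr {g : G} {π π' : Equiv.Perm J} {v v' : J → K} (h : Mon D φ g π v)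
    (hπ : π = π') (hvec : ∀ k, v k = v' k) : Mon D φ g π' v' := by
  subst hπ
  have : v = v' := funext hvec
  subst this
  exact h

theorem Mon.ne_zero {g : G} {π : Equiv.Perm J} {v : J → K} (h : Mon D φ g π v) (k : J) :
    v k ≠ 0 := h.raw.1 k

include D in
theorem sig_mul_self {i j : J} (hij : i ≠ j) (hij' : i ≠ ν j) : sig ν i j * sig ν i j = 1 := by
  ext x
  rw [Equiv.Perm.mul_apply, Equiv.Perm.one_apply]
  by_cases h1 : x = i
  · rw [h1, sig_i D hij hij', sig_j D hij hij']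
  by_cases h2 : x = j
  · rw [h2, sig_j D hij hij', sig_i D hij hij']
  by_cases h3 : x = ν i
  · rw [h3, sig_ni D hij hij', sig_nj D hij hij']
  by_cases h4 : x = ν j
  · rw [h4, sig_nj D hij hij', sig_ni D hij hij']
  rw [sig_of_ne h1 h2 h3 h4, sig_of_ne h1 h2 h3 h4]

/-- the diagonal entries of the torus element `hh k l u` -/
def hvecD (ν : J → J) (k l : J) (u : K) : J → K := fun x =>
  if x = k then u else if x = l then u⁻¹ else if x = ν k then u⁻¹ else if x = ν l then u else 1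

section hc
variable (hc : ∀ a b : J, ∃ c, c ≠ a ∧ c ≠ b ∧ c ≠ ν a ∧ c ≠ ν b) (hφ : IsRepD D φ)
include hc hφ

theorem mon_w {i j : J} (hij : i ≠ j) (hij' : i ≠ ν j) {u : K} (hu : u ≠ 0) :
    Mon D φ (D.w i j u) (sig ν i j) (wvecD ν i j u) :=
  ⟨D.rawMon_w hc hij hij' hu, sig_nu D hij hij', fun l => rep_w_ev hφ hij hij' hu l⟩

theorem mon_hh {k l : J} (hkl : k ≠ l) (hkl' : k ≠ ν l) {u : K} (hu : u ≠ 0) :
    Mon D φ (D.hh k l u) 1 (hvecD ν k l u) := by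
  have hm1 : (-1 : K) ≠ 0 := by simp
  have h := (mon_w hc hφ hkl hkl' hu).mul (mon_w hc hφ hkl hkl' hm1)
  refine h.congr (sig_mul_self (D := D) hkl hkl') fun x => ?_
  have f1 : ν k ≠ k := D.nu_ne k
  have f2 : ν l ≠ l := D.nu_ne l
  have f3 : ν k ≠ l := fun h => hkl' (by rw [← h, D.nu_nu])
  have f4 : ν l ≠ k := hkl'.symm
  have f5 : ν l ≠ ν k := fun h => hkl (D.nu_inj h).symm
  by_cases h1 : x = k
  · rw [h1, wv_i D hkl hkl', sig_i D hkl hkl', wv_j D hkl hkl']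
    simp [hvecD]
  by_cases h2 : x = l
  · rw [h2, wv_j D hkl hkl', sig_j D hkl hkl', wv_i D hkl hkl']
    simp [hvecD, hkl.symm]
  by_cases h3 : x = ν k
  · rw [h3, wv_ni D hkl hkl', sig_ni D hkl hkl', wv_nj D hkl hkl']
    simp [hvecD, f1, f3]
  by_cases h4 : x = ν l
  · rw [h4, wv_nj D hkl hkl', sig_nj D hkl hkl', wv_ni D hkl hkl']
    simp [hvecD, f2, f4, f5]
  rw [wv_of_ne _ h1 h2 h3 h4, sig_of_ne h1 h2 h3 h4, wv_of_ne _ h1 h2 h3 h4]
  simp [hvecD, h1, h2, h3, h4]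

end hc

end mon

namespace DData

section subgroups
variable {J K G : Type*} [Field K] [Group G] [Fintype J] [DecidableEq J] {ν : J → J}
  (D : DData J K G ν)

/-- the subgroup generated by the Weyl elements with indices in `T` -/
def NJ (T : Finset J) : Subgroup G :=
  Subgroup.closure {g | ∃ i j u, i ∈ T ∧ j ∈ T ∧ i ≠ j ∧ i ≠ ν j ∧ u ≠ 0 ∧ g = D.w i j u}

/-- the torus -/
def HJ : Subgroup G :=
  Subgroup.closure {g | ∃ k l u, k ≠ l ∧ k ≠ ν l ∧ u ≠ 0 ∧ g = D.hh k l u}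

/-- the product of `NJ T` and the torus -/
def PJ (T : Finset J) : Subgroup G := D.NJ T ⊔ D.HJ

theorem w_mem_NJ {T : Finset J} {i j : J} (hi : i ∈ T) (hj : j ∈ T) (hij : i ≠ j)
    (hij' : i ≠ ν j) {u : K} (hu : u ≠ 0) : D.w i j u ∈ D.NJ T :=
  Subgroup.subset_closure ⟨i, j, u, hi, hj, hij, hij', hu, rfl⟩

theorem hh_mem_HJ {k l : J} (hkl : k ≠ l) (hkl' : k ≠ ν l) {u : K} (hu : u ≠ 0) :
    D.hh k l u ∈ D.HJ :=
  Subgroup.subset_closure ⟨k, l, u, hkl, hkl', hu, rfl⟩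

theorem NJ_le_PJ (T : Finset J) : D.NJ T ≤ D.PJ T := le_sup_left

theorem HJ_le_PJ (T : Finset J) : D.HJ ≤ D.PJ T := le_sup_right

theorem NJ_mono {T T' : Finset J} (h : T ⊆ T') : D.NJ T ≤ D.NJ T' := by
  apply Subgroup.closure_mono
  rintro g ⟨i, j, u, hi, hj, hij, hij', hu, rfl⟩
  exact ⟨i, j, u, h hi, h hj, hij, hij', hu, rfl⟩

theorem ww_mem_HJ {k l : J} (hkl : k ≠ l) (hkl' : k ≠ ν l) {a b : K} (ha : a ≠ 0) (hb : b ≠ 0) :
    D.w k l a * D.w k l b ∈ D.HJ := by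
  rw [D.w_mul_w]
  exact mul_mem (D.hh_mem_HJ hkl hkl' ha) (inv_mem (D.hh_mem_HJ hkl hkl' (neg_ne_zero.mpr hb)))

variable [Finite K] (hc : ∀ a b : J, ∃ c, c ≠ a ∧ c ≠ b ∧ c ≠ ν a ∧ c ≠ ν b)
include hc

theorem HJ_conj {g : G} {π : Equiv.Perm J} {v : J → K} (hm : RawMon D.y g π v)
    (hν : ∀ k, π (ν k) = ν (π k)) {d : G} (hd : d ∈ D.HJ) : g * d * g⁻¹ ∈ D.HJ := by
  rw [← MulAut.conj_apply]
  unfold HJ at hd
  induction hd using Subgroup.closure_induction with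
  | mem y hy =>
    obtain ⟨k, l, u, hkl, hkl', hu, rfl⟩ := hy
    rw [D.cj_hh_of_rawMon hc hm hν hkl hkl' hu]
    refine D.hh_mem_HJ (π.injective.ne hkl) ?_ hu
    rw [← hν]
    exact π.injective.ne hkl'
  | one => rw [map_one]; exact one_mem _
  | mul a b _ _ ha hb => rw [map_mul]; exact mul_mem ha hb
  | inv a _ ha => rw [map_inv]; exact inv_mem ha

variable {φ : G →* Matrix J J K} (hφ : IsRepD D φ)
include hφ

theorem NJ_mon {T : Finset J} (hT : ∀ x ∈ T, ν x ∈ T) {n : G} (hn : n ∈ D.NJ T) :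
    ∃ π v, Mon D φ n π v ∧ ∀ x, x ∉ T → π x = x := by
  unfold NJ at hn
  induction hn using Subgroup.closure_induction with
  | mem y hy =>
    obtain ⟨i, j, u, hi, hj, hij, hij', hu, rfl⟩ := hy
    refine ⟨_, _, mon_w hc hφ hij hij' hu, fun x hx => ?_⟩
    apply sig_of_ne
    · rintro rfl; exact hx hi
    · rintro rfl; exact hx hj
    · rintro rfl; exact hx (hT _ hi)
    · rintro rfl; exact hx (hT _ hj)
  | one => exact ⟨_, _, Mon.one, fun x _ => rfl⟩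
  | mul a b _ _ ha hb =>
    obtain ⟨π, v, h1, h2⟩ := ha
    obtain ⟨π', v', h1', h2'⟩ := hb
    refine ⟨_, _, h1.mul h1', fun x hx => ?_⟩
    rw [Equiv.Perm.mul_apply, h2' x hx, h2 x hx]
  | inv a _ ha =>
    obtain ⟨π, v, h1, h2⟩ := ha
    refine ⟨_, _, h1.inv, fun x hx => ?_⟩
    rw [Equiv.Perm.inv_eq_iff_eq, h2 x hx]

theorem HJ_mon {d : G} (hd : d ∈ D.HJ) : ∃ v, Mon D φ d 1 v := by
  unfold HJ at hd
  induction hd using Subgroup.closure_induction with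
  | mem y hy =>
    obtain ⟨k, l, u, hkl, hkl', hu, rfl⟩ := hy
    exact ⟨_, mon_hh hc hφ hkl hkl' hu⟩
  | one => exact ⟨_, Mon.one⟩
  | mul a b _ _ ha hb =>
    obtain ⟨v, h1⟩ := ha
    obtain ⟨v', h1'⟩ := hb
    exact ⟨_, (h1.mul h1').congr (one_mul 1) (fun _ => rfl)⟩
  | inv a _ ha =>
    obtain ⟨v, h1⟩ := ha
    exact ⟨_, h1.inv.congr inv_one (fun _ => rfl)⟩

theorem PJ_decomp {T : Finset J} (hT : ∀ x ∈ T, ν x ∈ T) {p : G} (hp : p ∈ D.PJ T) :
    ∃ t ∈ D.NJ T, ∃ d ∈ D.HJ, p = t * d := by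
  unfold PJ at hp
  rw [Subgroup.sup_eq_closure] at hp
  induction hp using Subgroup.closure_induction with
  | mem y hy =>
    rcases hy with hy | hy
    · exact ⟨y, hy, 1, one_mem _, (mul_one y).symm⟩
    · exact ⟨1, one_mem _, y, hy, (one_mul y).symm⟩
  | one => exact ⟨1, one_mem _, 1, one_mem _, (mul_one 1).symm⟩
  | mul a b _ _ ha hb =>
    obtain ⟨t, ht, d, hd, rfl⟩ := ha
    obtain ⟨t', ht', d', hd', rfl⟩ := hb
    obtain ⟨π, v, hm, -⟩ := D.NJ_mon hc hφ hT (inv_mem ht')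
    have h1 := D.HJ_conj hc hm.raw hm.nu hd
    rw [inv_inv] at h1
    refine ⟨t * t', mul_mem ht ht', t'⁻¹ * d * t' * d', mul_mem h1 hd', ?_⟩
    group
  | inv a _ ha =>
    obtain ⟨t, ht, d, hd, rfl⟩ := ha
    obtain ⟨π, v, hm, -⟩ := D.NJ_mon hc hφ hT ht
    have h1 := D.HJ_conj hc hm.raw hm.nu (inv_mem hd)
    refine ⟨t⁻¹, inv_mem ht, t * d⁻¹ * t⁻¹, h1, ?_⟩
    group

theorem PJ_mon {T : Finset J} (hT : ∀ x ∈ T, ν x ∈ T) {p : G} (hp : p ∈ D.PJ T) :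
    ∃ π v, Mon D φ p π v ∧ ∀ x, x ∉ T → π x = x := by
  obtain ⟨t, ht, d, hd, rfl⟩ := D.PJ_decomp hc hφ hT hp
  obtain ⟨π, v, h1, h2⟩ := D.NJ_mon hc hφ hT ht
  obtain ⟨v', h1'⟩ := D.HJ_mon hc hφ hd
  refine ⟨_, _, h1.mul h1', fun x hx => ?_⟩
  rw [Equiv.Perm.mul_apply, Equiv.Perm.one_apply, h2 x hx]

end subgroups

end DData

end Cfsg.Agent.Lib.Helper3.DN
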