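import Cfsg.Agent.Lib.Helper3.DS6

/-!
# Type `D`: the normal form of the monomial subgroup along a chain of index sets
-/

set_option linter.unusedSectionVars false
set_option linter.unusedVariables false
set_option linter.unusedSimpArgs false

namespace Cfsg.Agent.Lib.Helper3.DN

open Cfsg.Agent.Lib.Helper5.Stb Cfsg.Agent.Lib.Helper3.AN Cfsg.Agent.Lib.Helper3.DS Matrix

namespace DData

section normalform
variable {J K G : Type*} [Field K] [Group G] [Fintype J] [DecidableEq J] {ν : J → J}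
  (D : DData J K G ν)

/-- coset representatives of `PJ T` in `NJ (T ∪ {m, ν m})` -/
def IsRepr (T : Finset J) (m : J) (e : G) : Prop :=
  e = 1 ∨ (∃ x ∈ T, e = D.w x m 1) ∨ ∃ a ∈ T, e = D.w a m 1 * D.w (ν a) m 1

include D

theorem sig_inv {i j : J} (hij : i ≠ j) (hij' : i ≠ ν j) : (sig ν i j)⁻¹ = sig ν i j :=
  inv_eq_of_mul_eq_one_right (sig_mul_self (D := D) hij hij')

theorem sig_mem {T : Finset J} (hT : ∀ x ∈ T, ν x ∈ T) {i j x : J} (hi : i ∈ T) (hj : j ∈ T)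
    (hij : i ≠ j) (hij' : i ≠ ν j) (hx : x ∈ T) : sig ν i j x ∈ T := by
  by_cases h1 : x = i
  · rw [h1, sig_i D hij hij']; exact hj
  by_cases h2 : x = j
  · rw [h2, sig_j D hij hij']; exact hi
  by_cases h3 : x = ν i
  · rw [h3, sig_ni D hij hij']; exact hT _ hj
  by_cases h4 : x = ν j
  · rw [h4, sig_nj D hij hij']; exact hT _ hi
  rw [sig_of_ne h1 h2 h3 h4]; exact hx

section tau
variable {a m : J} (ha : a ≠ m) (ha' : a ≠ ν m)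
include ha ha'

theorem na_ne : ν a ≠ m := fun h => ha' (by rw [← h, D.nu_nu])

theorem na_ne' : ν a ≠ ν m := fun h => ha (D.nu_inj h)

theorem tau_of_ne {x : J} (h1 : x ≠ a) (h2 : x ≠ ν a) (h3 : x ≠ m) (h4 : x ≠ ν m) :
    (sig ν a m * sig ν (ν a) m) x = x := by
  rw [Equiv.Perm.mul_apply, sig_of_ne h2 h3 (by rw [D.nu_nu]; exact h1) h4,
    sig_of_ne h1 h3 h2 h4]

theorem tau_a : (sig ν a m * sig ν (ν a) m) a = ν a := by
  have h1 := sig_ni D (D.na_ne ha ha') (D.na_ne' ha ha')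
  rw [D.nu_nu] at h1
  rw [Equiv.Perm.mul_apply, h1, sig_nj D ha ha']

theorem tau_na : (sig ν a m * sig ν (ν a) m) (ν a) = a := by
  rw [Equiv.Perm.mul_apply, sig_i D (D.na_ne ha ha') (D.na_ne' ha ha'), sig_j D ha ha']

theorem tau_m : (sig ν a m * sig ν (ν a) m) m = ν m := by
  rw [Equiv.Perm.mul_apply, sig_j D (D.na_ne ha ha') (D.na_ne' ha ha'), sig_ni D ha ha']

theorem tau_nm : (sig ν a m * sig ν (ν a) m) (ν m) = m := by
  have h1 := sig_nj D (D.na_ne ha ha') (D.na_ne' ha ha')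
  rw [D.nu_nu] at h1
  rw [Equiv.Perm.mul_apply, h1, sig_i D ha ha']

end tau

variable [Finite K] (hc : ∀ a b : J, ∃ c, c ≠ a ∧ c ≠ b ∧ c ≠ ν a ∧ c ≠ ν b)
  {φ : G →* Matrix J J K} (hφ : IsRepD D φ)
  {T : Finset J} (hT : ∀ x ∈ T, ν x ∈ T) {m : J} (hm : m ∉ T) (hm' : ν m ∉ T)
include hc hφ hT hm hm'

theorem ne_m {x : J} (hx : x ∈ T) : x ≠ m := fun h => hm (h ▸ hx)

theorem ne_m' {x : J} (hx : x ∈ T) : x ≠ ν m := fun h => hm' (h ▸ hx)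

theorem monE {x : J} (hx : x ∈ T) : Mon D φ (D.w x m 1) (sig ν x m) (wvecD ν x m 1) :=
  mon_w hc hφ (D.ne_m hc hφ hT hm hm' hx) (D.ne_m' hc hφ hT hm hm' hx) one_ne_zero

theorem monF {a : J} (ha : a ∈ T) :
    ∃ v, Mon D φ (D.w a m 1 * D.w (ν a) m 1) (sig ν a m * sig ν (ν a) m) v :=
  ⟨_, (D.monE hc hφ hT hm hm' ha).mul (D.monE hc hφ hT hm hm' (hT a ha))⟩

theorem tau_mem {a i : J} (ha : a ∈ T) (hi : i ∈ T) :
    (sig ν a m * sig ν (ν a) m) i ∈ T := by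
  have h1 := D.ne_m hc hφ hT hm hm' ha
  have h2 := D.ne_m' hc hφ hT hm hm' ha
  by_cases e1 : i = a
  · rw [e1, D.tau_a h1 h2]; exact hT a ha
  by_cases e2 : i = ν a
  · rw [e2, D.tau_na h1 h2]; exact ha
  rw [D.tau_of_ne h1 h2 e1 e2 (D.ne_m hc hφ hT hm hm' hi) (D.ne_m' hc hφ hT hm hm' hi)]
  exact hi

/-- case `B`: generators with both indices in `T` -/
theorem stepB {e : G} (he : D.IsRepr T m e) {i j : J} (hi : i ∈ T) (hj : j ∈ T) (hij : i ≠ j)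
    (hij' : i ≠ ν j) {u : K} (hu : u ≠ 0) :
    ∃ e', D.IsRepr T m e' ∧ ∃ p ∈ D.PJ T, e * D.w i j u = p * e' := by
  have hg := D.w_mem_NJ hi hj hij hij' hu
  rcases he with rfl | ⟨x, hx, rfl⟩ | ⟨a, ha, rfl⟩
  · exact ⟨1, Or.inl rfl, _, D.NJ_le_PJ T hg, by rw [one_mul, mul_one]⟩
  · have hmon := mon_w hc hφ hij hij' hu
    obtain ⟨c, hc0, e1⟩ := D.move_w' hmon.raw x m (one_ne_zero (α := K))
    rw [D.sig_inv hij hij'] at e1
    have hmm : sig ν i j m = m :=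
      sig_of_ne (D.ne_m hc hφ hT hm hm' hi).symm (D.ne_m hc hφ hT hm hm' hj).symm
        (D.ne_m hc hφ hT hm hm' (hT i hi)).symm (D.ne_m hc hφ hT hm hm' (hT j hj)).symm
    rw [hmm] at e1
    have hx' : sig ν i j x ∈ T := D.sig_mem hT hi hj hij hij' hx
    refine ⟨D.w (sig ν i j x) m 1, Or.inr (Or.inl ⟨_, hx', rfl⟩),
      D.w i j u * D.hh (sig ν i j x) m c, ?_, ?_⟩
    · exact mul_mem (D.NJ_le_PJ T hg) (D.HJ_le_PJ T (D.hh_mem_HJ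
        (D.ne_m hc hφ hT hm hm' hx') (D.ne_m' hc hφ hT hm hm' hx') hc0))
    · rw [e1, D.w_eq_hh_mul (sig ν i j x) m c, mul_assoc]
  · obtain ⟨v, hmon⟩ := D.monF hc hφ hT hm hm' ha
    obtain ⟨c, hc0, e1⟩ := D.move_w hmon.raw i j hu
    refine ⟨_, Or.inr (Or.inr ⟨a, ha, rfl⟩), _, D.NJ_le_PJ T (D.w_mem_NJ
      (D.tau_mem hc hφ hT hm hm' ha hi) (D.tau_mem hc hφ hT hm hm' ha hj)
      ((sig ν a m * sig ν (ν a) m).injective.ne hij) ?_ hc0), e1⟩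
    rw [← hmon.nu]
    exact (sig ν a m * sig ν (ν a) m).injective.ne hij'

/-- case `A3a` -/
theorem stepA3a {a : J} (ha : a ∈ T) {u : K} (hu : u ≠ 0) :
    ∃ p ∈ D.HJ, D.w a m 1 * D.w (ν a) m 1 * D.w a m u = p * D.w (ν a) m 1 := by
  have h1 := D.ne_m hc hφ hT hm hm' ha
  have h2 := D.ne_m' hc hφ hT hm hm' ha
  have hmon := D.monE hc hφ hT hm hm' (hT a ha)
  obtain ⟨c, hc0, e1⟩ := D.move_w hmon.raw a m hu
  have e2 : sig ν (ν a) m a = ν m := by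
    have := sig_ni D (D.na_ne h1 h2) (D.na_ne' h1 h2)
    rwa [D.nu_nu] at this
  have e3 : sig ν (ν a) m m = ν a := sig_j D (D.na_ne h1 h2) (D.na_ne' h1 h2)
  rw [e2, e3, D.w_flip (ν m) (ν a) c, D.nu_nu, D.nu_nu] at e1
  refine ⟨D.w a m 1 * D.w a m (-c), D.ww_mem_HJ h1 h2 one_ne_zero (neg_ne_zero.mpr hc0), ?_⟩
  rw [mul_assoc, e1, mul_assoc]

/-- the representatives of the last kind do not depend on the auxiliary index -/
theorem repr_indep {a i : J} (ha : a ∈ T) (hi : i ∈ T) (hia : i ≠ a) (hia' : i ≠ ν a) :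
    ∃ p ∈ D.PJ T, D.w a m 1 * D.w (ν a) m 1 = p * (D.w i m 1 * D.w (ν i) m 1) := by
  have ha1 := D.ne_m hc hφ hT hm hm' ha
  have ha2 := D.ne_m' hc hφ hT hm hm' ha
  have hi1 := D.ne_m hc hφ hT hm hm' hi
  have hi2 := D.ne_m' hc hφ hT hm hm' hi
  have hni1 := D.ne_m hc hφ hT hm hm' (hT i hi)
  have hni2 := D.ne_m' hc hφ hT hm hm' (hT i hi)
  have hmg := mon_w hc hφ hia hia' (one_ne_zero (α := K))
  -- `g = w i a 1`
  obtain ⟨c₁, hc₁, e1⟩ := D.move_w hmg.raw a m (one_ne_zero (α := K))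
  obtain ⟨c₂, hc₂, e2⟩ := D.move_w hmg.raw (ν a) m (one_ne_zero (α := K))
  have hmm : sig ν i a m = m :=
    sig_of_ne hi1.symm ha1.symm hni1.symm (D.ne_m hc hφ hT hm hm' (hT a ha)).symm
  rw [sig_j D hia hia', hmm] at e1
  rw [sig_nj D hia hia', hmm] at e2
  obtain ⟨v, hmF⟩ := D.monF hc hφ hT hm hm' hi
  obtain ⟨c₃, hc₃, e3⟩ := D.move_w hmF.raw i a (one_ne_zero (α := K))
  have hai : a ≠ i := hia.symm
  have hai' : a ≠ ν i := fun h => hia' (by rw [h, D.nu_nu])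
  rw [D.tau_a hi1 hi2, D.tau_of_ne hi1 hi2 hai hai' ha1 ha2] at e3
  have hmE := D.monE hc hφ hT hm hm' hi
  have hd : D.w i m 1 * D.hh (ν i) m c₂ * (D.w i m 1)⁻¹ ∈ D.HJ :=
    D.HJ_conj hc hmE.raw hmE.nu (D.hh_mem_HJ hni1 hni2 hc₂)
  have hnia : ν i ≠ a := fun h => hia' (by rw [← h, D.nu_nu])
  have hnia' : ν i ≠ ν a := fun h => hia (D.nu_inj h)
  refine ⟨(D.w i a 1)⁻¹ * (D.hh i m c₁ * (D.w i m 1 * D.hh (ν i) m c₂ * (D.w i m 1)⁻¹)) *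
    D.w (ν i) a c₃, ?_, ?_⟩
  · refine mul_mem (mul_mem (inv_mem (D.NJ_le_PJ T (D.w_mem_NJ hi ha hia hia' one_ne_zero)))
      (D.HJ_le_PJ T (mul_mem (D.hh_mem_HJ hi1 hi2 hc₁) hd)))
      (D.NJ_le_PJ T (D.w_mem_NJ (hT i hi) ha hnia hnia' hc₃))
  · have e4 : D.w i a 1 * (D.w a m 1 * D.w (ν a) m 1) =
        D.w i m c₁ * D.w (ν i) m c₂ * D.w i a 1 := by
      rw [← mul_assoc, e1, mul_assoc, e2, mul_assoc]
    have e5 : D.w i m c₁ * D.w (ν i) m c₂ =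
        D.hh i m c₁ * (D.w i m 1 * D.hh (ν i) m c₂ * (D.w i m 1)⁻¹) *
          (D.w i m 1 * D.w (ν i) m 1) := by
      rw [D.w_eq_hh_mul i m c₁, D.w_eq_hh_mul (ν i) m c₂]
      group
    rw [e5, mul_assoc, e3] at e4
    calc D.w a m 1 * D.w (ν a) m 1
        = (D.w i a 1)⁻¹ * (D.w i a 1 * (D.w a m 1 * D.w (ν a) m 1)) := by group
      _ = _ := by rw [e4]; group

/-- case `A`: generators `w i m u` with `i ∈ T` -/
theorem stepA {e : G} (he : D.IsRepr T m e) {i : J} (hi : i ∈ T) {u : K} (hu : u ≠ 0) :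
    ∃ e', D.IsRepr T m e' ∧ ∃ p ∈ D.PJ T, e * D.w i m u = p * e' := by
  have hi1 := D.ne_m hc hφ hT hm hm' hi
  have hi2 := D.ne_m' hc hφ hT hm hm' hi
  rcases he with rfl | ⟨x, hx, rfl⟩ | ⟨a, ha, rfl⟩
  · refine ⟨D.w i m 1, Or.inr (Or.inl ⟨i, hi, rfl⟩), D.hh i m u,
      D.HJ_le_PJ T (D.hh_mem_HJ hi1 hi2 hu), ?_⟩
    rw [one_mul, ← D.w_eq_hh_mul]
  · have hx1 := D.ne_m hc hφ hT hm hm' hx
    have hx2 := D.ne_m' hc hφ hT hm hm' hx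
    have hmE := D.monE hc hφ hT hm hm' hx
    by_cases e1 : i = x
    · subst e1
      exact ⟨1, Or.inl rfl, _, D.HJ_le_PJ T (D.ww_mem_HJ hi1 hi2 one_ne_zero hu),
        (mul_one _).symm⟩
    by_cases e2 : i = ν x
    · subst e2
      refine ⟨D.w x m 1 * D.w (ν x) m 1, Or.inr (Or.inr ⟨x, hx, rfl⟩),
        D.w x m 1 * D.hh (ν x) m u * (D.w x m 1)⁻¹,
        D.HJ_le_PJ T (D.HJ_conj hc hmE.raw hmE.nu (D.hh_mem_HJ hi1 hi2 hu)), ?_⟩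
      rw [D.w_eq_hh_mul (ν x) m u]
      group
    · obtain ⟨c, hc0, e3⟩ := D.move_w hmE.raw i m hu
      rw [sig_of_ne e1 hi1 e2 hi2, sig_j D hx1 hx2] at e3
      exact ⟨D.w x m 1, Or.inr (Or.inl ⟨x, hx, rfl⟩), D.w i x c,
        D.NJ_le_PJ T (D.w_mem_NJ hi hx e1 e2 hc0), e3⟩
  · have ha1 := D.ne_m hc hφ hT hm hm' ha
    have ha2 := D.ne_m' hc hφ hT hm hm' ha
    by_cases e1 : i = a
    · subst e1
      obtain ⟨p, hp, e3⟩ := D.stepA3a hc hφ hT hm hm' hi hu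
      exact ⟨D.w (ν i) m 1, Or.inr (Or.inl ⟨ν i, hT i hi, rfl⟩), p, D.HJ_le_PJ T hp, e3⟩
    by_cases e2 : i = ν a
    · subst e2
      have hmE := D.monE hc hφ hT hm hm' ha
      refine ⟨D.w a m 1, Or.inr (Or.inl ⟨a, ha, rfl⟩),
        D.w a m 1 * (D.w (ν a) m 1 * D.w (ν a) m u) * (D.w a m 1)⁻¹,
        D.HJ_le_PJ T (D.HJ_conj hc hmE.raw hmE.nu (D.ww_mem_HJ hi1 hi2 one_ne_zero hu)), ?_⟩
      group
    · obtain ⟨p₀, hp₀, e3⟩ := D.repr_indep hc hφ hT hm hm' ha hi e1 e2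
      obtain ⟨p, hp, e4⟩ := D.stepA3a hc hφ hT hm hm' hi hu
      refine ⟨D.w (ν i) m 1, Or.inr (Or.inl ⟨ν i, hT i hi, rfl⟩), p₀ * p,
        mul_mem hp₀ (D.HJ_le_PJ T hp), ?_⟩
      rw [e3, mul_assoc p₀, e4, mul_assoc]

end normalform

end DData

end Cfsg.Agent.Lib.Helper3.DN
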