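import Cfsg.Agent.Lib.Helper3.DS7

/-!
# Type `D`: monomial elements acting diagonally lie in the torus
-/

set_option linter.unusedSectionVars false
set_option linter.unusedVariables false
set_option linter.unusedSimpArgs false

namespace Cfsg.Agent.Lib.Helper3.DN

open Cfsg.Agent.Lib.Helper5.Stb Cfsg.Agent.Lib.Helper3.AN Cfsg.Agent.Lib.Helper3.DS Matrix

namespace DData

section chain
variable {J K G : Type*} [Field K] [Group G] [Fintype J] [DecidableEq J] {ν : J → J}
  (D : DData J K G ν)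

variable [Finite K] (hc : ∀ a b : J, ∃ c, c ≠ a ∧ c ≠ b ∧ c ≠ ν a ∧ c ≠ ν b)
  {φ : G →* Matrix J J K} (hφ : IsRepD D φ)

section step
variable {T : Finset J} (hT : ∀ x ∈ T, ν x ∈ T) {m : J} (hm : m ∉ T) (hm' : ν m ∉ T)
include hc hφ hT hm hm'

/-- right multiplication by any generator of `NJ (T ∪ {m, ν m})` -/
theorem stepGen {e : G} (he : D.IsRepr T m e) {i j : J}
    (hi : i ∈ insert m (insert (ν m) T)) (hj : j ∈ insert m (insert (ν m) T)) (hij : i ≠ j)
    (hij' : i ≠ ν j) {u : K} (hu : u ≠ 0) :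
    ∃ e', D.IsRepr T m e' ∧ ∃ p ∈ D.PJ T, e * D.w i j u = p * e' := by
  rw [Finset.mem_insert, Finset.mem_insert] at hi hj
  rcases hi with hi | hi | hi
  · rcases hj with hj | hj | hj
    · exact absurd (hi.trans hj.symm) hij
    · exact absurd (by rw [hi, hj, D.nu_nu]) hij'
    · obtain ⟨l, hl⟩ := D.exists_tri3 hc hij hij'
      rw [D.w_swap hl hu, hi]
      exact D.stepA hc hφ hT hm hm' he hj (neg_ne_zero.mpr (inv_ne_zero hu))
  · rcases hj with hj | hj | hj
    · exact absurd (by rw [hi, hj]) hij'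
    · exact absurd (hi.trans hj.symm) hij
    · rw [D.w_flip i j u, hi, D.nu_nu]
      exact D.stepA hc hφ hT hm hm' he (hT j hj) (neg_ne_zero.mpr hu)
  · rcases hj with hj | hj | hj
    · rw [hj]
      exact D.stepA hc hφ hT hm hm' he hi hu
    · have h1 : m ≠ ν i := fun h => hm (by rw [h]; exact hT i hi)
      have h2 : m ≠ ν (ν i) := by
        rw [D.nu_nu]
        exact fun h => hm (h ▸ hi)
      obtain ⟨l, hl⟩ := D.exists_tri3 hc h1 h2
      rw [D.w_flip i j u, hj, D.nu_nu, D.w_swap hl (neg_ne_zero.mpr hu)]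
      exact D.stepA hc hφ hT hm hm' he (hT i hi)
        (neg_ne_zero.mpr (inv_ne_zero (neg_ne_zero.mpr hu)))
    · exact D.stepB hc hφ hT hm hm' he hi hj hij hij' hu

theorem NJ_insert_form {n : G} (hn : n ∈ D.NJ (insert m (insert (ν m) T))) :
    ∃ e, D.IsRepr T m e ∧ ∃ p ∈ D.PJ T, n = p * e := by
  unfold NJ at hn
  induction hn using Subgroup.closure_induction_right with
  | one => exact ⟨1, Or.inl rfl, 1, one_mem _, (mul_one 1).symm⟩
  | mul_right x hx y hy ih =>
    obtain ⟨i, j, u, hi, hj, hij, hij', hu, rfl⟩ := hy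
    obtain ⟨e, he, p, hp, rfl⟩ := ih
    obtain ⟨e', he', p', hp', e1⟩ := D.stepGen hc hφ hT hm hm' he hi hj hij hij' hu
    exact ⟨e', he', p * p', mul_mem hp hp', by rw [mul_assoc, e1, mul_assoc]⟩
  | mul_inv_cancel x hx y hy ih =>
    obtain ⟨i, j, u, hi, hj, hij, hij', hu, rfl⟩ := hy
    obtain ⟨e, he, p, hp, rfl⟩ := ih
    obtain ⟨e', he', p', hp', e1⟩ :=
      D.stepGen hc hφ hT hm hm' he hi hj hij hij' (neg_ne_zero.mpr hu)
    exact ⟨e', he', p * p', mul_mem hp hp', by rw [D.w_inv, mul_assoc, e1, mul_assoc]⟩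

theorem rep_E {x : J} (hx : x ∈ T) : φ (D.w x m 1) *ᵥ (ev m : J → K) = ev x := by
  have h1 := D.ne_m hc hφ hT hm hm' hx
  have h2 := D.ne_m' hc hφ hT hm hm' hx
  rw [(D.monE hc hφ hT hm hm' hx).rep m, wv_j D h1 h2, sig_j D h1 h2, one_smul]

theorem rep_F {a : J} (ha : a ∈ T) :
    φ (D.w a m 1 * D.w (ν a) m 1) *ᵥ (ev m : J → K) = (-1 : K) • (ev (ν m) : J → K) := by
  have h1 := D.ne_m hc hφ hT hm hm' ha
  have h2 := D.ne_m' hc hφ hT hm hm' ha
  rw [map_mul, ← Matrix.mulVec_mulVec, D.rep_E hc hφ hT hm hm' (hT a ha),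
    (D.monE hc hφ hT hm hm' ha).rep (ν a), wv_ni D h1 h2, sig_ni D h1 h2]

/-- an element of `NJ (T ∪ {m, ν m})` fixing the line of `ev m` lies in `PJ T` -/
theorem diag_step {n : G} (hn : n ∈ D.NJ (insert m (insert (ν m) T))) {c : K}
    (hd : φ n *ᵥ (ev m : J → K) = c • (ev m : J → K)) : n ∈ D.PJ T := by
  obtain ⟨e, he, p, hp, rfl⟩ := D.NJ_insert_form hc hφ hT hm hm' hn
  obtain ⟨π, v, hmon, hfix⟩ := D.PJ_mon hc hφ hT hp
  rw [map_mul, ← Matrix.mulVec_mulVec] at hd
  rcases he with rfl | ⟨x, hx, rfl⟩ | ⟨a, ha, rfl⟩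
  · rw [mul_one]; exact hp
  · exfalso
    rw [D.rep_E hc hφ hT hm hm' hx, hmon.rep x] at hd
    have h1 := congrFun hd (π x)
    have hxm : π x ≠ m := by
      intro h
      have : π x = π m := by rw [h, hfix m hm]
      exact D.ne_m hc hφ hT hm hm' hx (π.injective this)
    simp only [Pi.smul_apply, ev, Pi.single_eq_same, Pi.single_eq_of_ne hxm, smul_eq_mul,
      mul_one, mul_zero] at h1
    exact hmon.ne_zero x h1
  · exfalso
    rw [D.rep_F hc hφ hT hm hm' ha, Matrix.mulVec_smul, hmon.rep (ν m), hfix (ν m) hm'] at hd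
    have h1 := congrFun hd (ν m)
    simp only [Pi.smul_apply, ev, Pi.single_eq_same, Pi.single_eq_of_ne (D.nu_ne m),
      smul_eq_mul, mul_one, mul_zero, neg_mul, one_mul, neg_eq_zero] at h1
    exact hmon.ne_zero (ν m) h1

end step

include hc hφ

theorem diag_of_HJ {d : G} (hd : d ∈ D.HJ) (l : J) :
    ∃ c : K, c ≠ 0 ∧ φ d *ᵥ (ev l : J → K) = c • (ev l : J → K) := by
  obtain ⟨v, hmon⟩ := D.HJ_mon hc hφ hd
  exact ⟨v l, hmon.ne_zero l, hmon.rep l⟩

/-- a monomial element acting diagonally lies in the torus -/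
theorem diag_mem_HJ : ∀ (k : ℕ) (T : Finset J), T.card = k → (∀ x ∈ T, ν x ∈ T) →
    ∀ n ∈ D.NJ T, (∀ l, ∃ c : K, φ n *ᵥ (ev l : J → K) = c • (ev l : J → K)) → n ∈ D.HJ := by
  intro k
  induction k using Nat.strong_induction_on with
  | _ k ih =>
    intro T hcard hT n hn hdiag
    by_cases hT0 : T = ∅
    · subst hT0
      have : D.NJ (∅ : Finset J) = ⊥ := by
        unfold NJ
        rw [Subgroup.closure_eq_bot_iff]
        rintro g ⟨i, j, u, hi, -⟩
        exact absurd hi (Finset.notMem_empty i)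
      rw [this, Subgroup.mem_bot] at hn
      rw [hn]
      exact one_mem _
    · obtain ⟨m, hmT⟩ := Finset.nonempty_iff_ne_empty.mpr hT0
      set T₀ := (T.erase m).erase (ν m) with hT₀
      have hnm : ν m ∈ T := hT m hmT
      have hm : m ∉ T₀ := by
        rw [hT₀]
        intro h
        exact Finset.notMem_erase m T (Finset.mem_of_mem_erase h)
      have hm' : ν m ∉ T₀ := by
        rw [hT₀]
        exact Finset.notMem_erase _ _
      have hins : insert m (insert (ν m) T₀) = T := by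
        rw [hT₀, Finset.insert_erase, Finset.insert_erase hmT]
        exact Finset.mem_erase.mpr ⟨D.nu_ne m, hnm⟩
      have hT₀cl : ∀ x ∈ T₀, ν x ∈ T₀ := by
        intro x hx
        rw [hT₀, Finset.mem_erase, Finset.mem_erase] at hx ⊢
        obtain ⟨h1, h2, h3⟩ := hx
        refine ⟨fun h => h2 (D.nu_inj h), fun h => h1 ?_, hT x h3⟩
        rw [← h, D.nu_nu]
      have hlt : T₀.card < k := by
        rw [← hcard]
        apply Finset.card_lt_card
        refine ⟨fun x hx => ?_, fun h => hm (h hmT)⟩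
        rw [hT₀] at hx
        exact Finset.mem_of_mem_erase (Finset.mem_of_mem_erase hx)
      rw [← hins] at hn
      obtain ⟨c, hcm⟩ := hdiag m
      have hp := D.diag_step hc hφ hT₀cl hm hm' hn hcm
      obtain ⟨t, ht, d, hd, rfl⟩ := D.PJ_decomp hc hφ hT₀cl hp
      have ht' : t ∈ D.HJ := by
        apply ih T₀.card hlt T₀ rfl hT₀cl t ht
        intro l
        obtain ⟨c₁, hc₁, e1⟩ := D.diag_of_HJ hc hφ (inv_mem hd) l
        obtain ⟨c₂, e2⟩ := hdiag l
        refine ⟨c₁ * c₂, ?_⟩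
        have : t = t * d * d⁻¹ := by group
        rw [this, map_mul, ← Matrix.mulVec_mulVec, e1, Matrix.mulVec_smul, e2, smul_smul]
      exact mul_mem ht' hd

end chain

end DData

end Cfsg.Agent.Lib.Helper3.DN
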