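import Cfsg.Agent.Lib.Helper3.DS8
import Cfsg.Agent.Lib.Helper3.DN10

/-!
# Type `D`: elements acting as scalars lie in the torus
-/

set_option linter.unusedSectionVars false
set_option linter.unusedVariables false
set_option linter.unusedSimpArgs false

namespace Cfsg.Agent.Lib.Helper3.DN

open Cfsg.Agent.Lib.Helper5.Stb Cfsg.Agent.Lib.Helper3.AN Cfsg.Agent.Lib.Helper3.DS Matrix

section generic
variable {J K : Type*} [Field K] [Fintype J] [DecidableEq J]

theorem mat_eq_smul_of_cols {M : Matrix J J K} {c : K}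
    (h : ∀ l, M *ᵥ (ev l : J → K) = c • (ev l : J → K)) : M = c • (1 : Matrix J J K) := by
  ext a b
  have h1 := congrFun (h b) a
  rw [show (ev b : J → K) = Pi.single b 1 from rfl, Matrix.mulVec_single_one] at h1
  rw [Matrix.col_apply] at h1
  rw [h1, Matrix.smul_apply, Matrix.one_apply, Pi.smul_apply, Pi.single_apply]

end generic

section fin
variable {n : ℕ} {K G : Type*} [Field K] [Group G] (D : DData (Fin (n + n)) K G Fin.rev)
  {φ : G →* Matrix (Fin (n + n)) (Fin (n + n)) K} (hφ : IsRepD D φ)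
include hφ

namespace DData

/-- an element acting as a scalar is monomial -/
theorem scalar_mem_Nw (hn : 3 ≤ n) (hgen : D.Gen) (g : G) (c : K)
    (hg : φ g = c • (1 : Matrix (Fin (n + n)) (Fin (n + n)) K)) : g ∈ D.Nw := by
  have hc := hc_fin hn
  have hn0 : 0 < n + n := by omega
  have hc0 : c ≠ 0 := by
    intro h0
    have h1 : φ g * φ g⁻¹ = 1 := by rw [← map_mul, mul_inv_cancel, map_one]
    rw [hg, h0, zero_smul, zero_mul] at h1
    have := congrFun (congrFun h1 ⟨0, hn0⟩) ⟨0, hn0⟩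
    simp at this
  obtain ⟨u₁, hu₁, m, hm, u₂, hu₂, rfl⟩ := D.bruhat hc hgen g
  have e1 : φ m = c • φ (u₁⁻¹ * u₂⁻¹) := by
    have h1 : m = u₁⁻¹ * (u₁ * m * u₂) * u₂⁻¹ := by group
    conv_lhs => rw [h1]
    rw [map_mul, map_mul, hg, map_mul, Matrix.mul_smul, Matrix.mul_one, Matrix.smul_mul]
  have hu : u₁⁻¹ * u₂⁻¹ ∈ D.Upos := mul_mem (inv_mem hu₁) (inv_mem hu₂)
  obtain ⟨π, v, hmon, hmono⟩ := D.Nw_mono hφ hc hm
  have e2 : ∀ l, π l = l ∧ v l = c := by
    intro l
    have h1 := D.Upos_UTvec hφ hu l (ev l)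
      ⟨by simp [ev], fun k hk => by simp [ev, ne_of_gt hk]⟩
    have h3 : v l • (ev (π l) : Fin (n + n) → K) = c • (φ (u₁⁻¹ * u₂⁻¹) *ᵥ ev l) := by
      rw [← hmono l, e1, Matrix.smul_mulVec]
    have h4 := congrFun h3 l
    simp only [Pi.smul_apply, smul_eq_mul, h1.1, mul_one] at h4
    have hπ : π l = l := by
      by_contra hne
      rw [show (ev (π l) : Fin (n + n) → K) l = 0 from Pi.single_eq_of_ne (Ne.symm hne) 1,
        mul_zero] at h4
      exact hc0 h4.symm
    rw [hπ] at h4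
    refine ⟨hπ, ?_⟩
    rw [show (ev l : Fin (n + n) → K) l = 1 from Pi.single_eq_same l 1, mul_one] at h4
    exact h4
  have e3 : φ m = c • (1 : Matrix (Fin (n + n)) (Fin (n + n)) K) := by
    apply mat_eq_smul_of_cols
    intro l
    rw [hmono l, (e2 l).1, (e2 l).2]
  have hcm : ∀ z : G, m * z = z * m := by
    intro z
    have hz : z ∈ Subgroup.closure {g : G | ∃ k l t, g = D.y k l t} := by
      rw [hgen]; trivial
    induction hz using Subgroup.closure_induction with
    | mem y hy =>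
      obtain ⟨k, l, t, rfl⟩ := hy
      have h1 := hmon.2 k l t
      rw [(e2 k).1, (e2 l).1, (e2 k).2, (e2 l).2, MulAut.conj_apply] at h1
      have h2 : c * t * c⁻¹ = t := by field_simp
      rw [h2] at h1
      calc m * D.y k l t = m * D.y k l t * m⁻¹ * m := by group
        _ = D.y k l t * m := by rw [h1]
    | one => rw [mul_one, one_mul]
    | mul a b _ _ ha hb => rw [← mul_assoc, ha, mul_assoc, hb, mul_assoc]
    | inv a _ ha =>
      calc m * a⁻¹ = a⁻¹ * (a * m) * a⁻¹ := by group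
        _ = a⁻¹ * (m * a) * a⁻¹ := by rw [ha]
        _ = a⁻¹ * m := by group
  have e4 : u₁ * u₂ = 1 := by
    apply D.Upos_inj hφ _ (mul_mem hu₁ hu₂)
    have h1 : u₁ * m * u₂ = m * (u₁ * u₂) := by
      rw [← hcm u₁]; group
    rw [h1, map_mul, e3, Matrix.smul_mul, Matrix.one_mul] at hg
    have h2 : c⁻¹ • (c • φ (u₁ * u₂)) = c⁻¹ • (c • (1 : Matrix (Fin (n + n)) (Fin (n + n)) K)) := by
      rw [hg]
    rwa [smul_smul, smul_smul, inv_mul_cancel₀ hc0, one_smul, one_smul] at h2
  have e5 : u₁ * m * u₂ = m := by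
    rw [← hcm u₁, mul_assoc, e4, mul_one]
  rw [e5]
  exact hm

omit hφ in
theorem Nw_eq_NJ : D.Nw = D.NJ Finset.univ := by
  unfold Nw NJ
  congr 1
  ext g
  constructor
  · rintro ⟨i, j, u, hij, hij', hu, rfl⟩
    exact ⟨i, j, u, Finset.mem_univ _, Finset.mem_univ _, hij, hij', hu, rfl⟩
  · rintro ⟨i, j, u, -, -, hij, hij', hu, rfl⟩
    exact ⟨i, j, u, hij, hij', hu, rfl⟩

/-- an element acting as a scalar lies in the torus -/
theorem scalar_mem_HJ [Finite K] (hn : 3 ≤ n) (hgen : D.Gen) (g : G) (c : K)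
    (hg : φ g = c • (1 : Matrix (Fin (n + n)) (Fin (n + n)) K)) : g ∈ D.HJ := by
  have h1 := D.scalar_mem_Nw hφ hn hgen g c hg
  rw [D.Nw_eq_NJ] at h1
  refine D.diag_mem_HJ (hc_fin hn) hφ _ Finset.univ rfl (fun x _ => Finset.mem_univ _) g h1 ?_
  intro l
  refine ⟨c, ?_⟩
  rw [hg, Matrix.smul_mulVec, Matrix.one_mulVec]

end DData

end fin

section transport
variable {J K G : Type*} [Field K] [Group G] {ν : J → J} [Fintype J] [DecidableEq J]

theorem reindex_w {J' : Type*} {ν' : J' → J'} (D : DData J K G ν) (e : J' ≃ J)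
    (he : ∀ k, e (ν' k) = ν (e k)) (k l : J') (u : K) :
    (D.reindex e he).w k l u = D.w (e k) (e l) u := rfl

theorem reindex_hh {J' : Type*} {ν' : J' → J'} (D : DData J K G ν) (e : J' ≃ J)
    (he : ∀ k, e (ν' k) = ν (e k)) (k l : J') (u : K) :
    (D.reindex e he).hh k l u = D.hh (e k) (e l) u := rfl

theorem reindex_HJ {n : ℕ} (D : DData J K G ν) (e : Fin (n + n) ≃ J)
    (he : ∀ k, e (Fin.rev k) = ν (e k)) : (D.reindex e he).HJ = D.HJ := by
  unfold DData.HJ
  congr 1
  ext g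
  constructor
  · rintro ⟨k, l, u, hkl, hkl', hu, rfl⟩
    refine ⟨e k, e l, u, e.injective.ne hkl, ?_, hu, rfl⟩
    rw [← he]
    exact e.injective.ne hkl'
  · rintro ⟨k, l, u, hkl, hkl', hu, rfl⟩
    refine ⟨e.symm k, e.symm l, u, e.symm.injective.ne hkl, ?_, hu, ?_⟩
    · intro h
      apply hkl'
      have := congrArg e h
      rwa [he, Equiv.apply_symm_apply, Equiv.apply_symm_apply] at this
    · rw [reindex_hh, Equiv.apply_symm_apply, Equiv.apply_symm_apply]

/-- an element acting as a scalar lies in the torus (index set in bijection with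
`Fin (n + n)`) -/
theorem scalar_mem_HJ_of_equiv [Finite K] {n : ℕ} (D : DData J K G ν) (e : Fin (n + n) ≃ J)
    (he : ∀ k, e (Fin.rev k) = ν (e k)) (hn : 3 ≤ n) (hgen : D.Gen) (φ : G →* Matrix J J K)
    (hφ : IsRepD D φ) (g : G) (c : K) (hg : φ g = c • (1 : Matrix J J K)) : g ∈ D.HJ := by
  let φ' : G →* Matrix (Fin (n + n)) (Fin (n + n)) K :=
    { toFun := fun g => (φ g).submatrix e e
      map_one' := by rw [map_one, Matrix.submatrix_one_equiv]
      map_mul' := fun a b => by rw [map_mul, Matrix.submatrix_mul_equiv] }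
  have hφ'def : ∀ g, φ' g = (φ g).submatrix e e := fun g => rfl
  have hrep : IsRepD (D.reindex e he) φ' := by
    intro a b t hab hab' y
    rw [hφ'def, Matrix.submatrix_mulVec_equiv]
    have h1 : e a ≠ e b := e.injective.ne hab
    have h2 : e b ≠ ν (e a) := by rw [← he]; exact e.injective.ne hab'
    have h3 := hφ (e a) (e b) t h1 h2 (y ∘ e.symm)
    show (φ (D.y (e a) (e b) t) *ᵥ (y ∘ e.symm)) ∘ e = _
    rw [h3]
    ext c
    have e1 : (ev (e a) : J → K) (e c) = (ev a : Fin (n + n) → K) c := by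
      simp only [ev, Pi.single_apply, e.injective.eq_iff]
    have e2 : (ev (ν (e b)) : J → K) (e c) = (ev (Fin.rev b) : Fin (n + n) → K) c := by
      rw [← he]
      simp only [ev, Pi.single_apply, e.injective.eq_iff]
    have e3 : e.symm (ν (e a)) = Fin.rev a := by
      rw [← he, Equiv.symm_apply_apply]
    simp only [Function.comp_apply, Pi.add_apply, Pi.sub_apply, Pi.smul_apply, smul_eq_mul,
      Equiv.symm_apply_apply, e1, e2, e3]
  have hg' : φ' g = c • (1 : Matrix (Fin (n + n)) (Fin (n + n)) K) := by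
    rw [hφ'def, hg]
    ext a b
    simp only [Matrix.submatrix_apply, Matrix.smul_apply, Matrix.one_apply, e.injective.eq_iff]
  rw [← reindex_HJ D e he]
  exact (D.reindex e he).scalar_mem_HJ hrep hn (D.reindex_gen e he hgen) g c hg'

end transport

end Cfsg.Agent.Lib.Helper3.DN
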