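import Mathlib
import Cfsg.Agent.Lib.Helper4.Deg11_Defs

/-! S0679 swarm, package P4: Burnside's transfer theorem at the prime 5 (generic in the frame statement). -/

set_option autoImplicit false
open Equiv MulAction

namespace Cfsg.Agent.Lib.Helper3.Deg11P4

open Cfsg.Agent.Lib.Deg11

theorem d11d_pow_five : d11d ^ 5 = 1 := by decide

theorem d11d_ne_one : d11d ≠ 1 := by decide

theorem orderOf_d11d : orderOf d11d = 5 :=
  haveI : Fact (Nat.Prime 5) := ⟨by norm_num⟩
  orderOf_eq_prime d11d_pow_five d11d_ne_one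

theorem d11c_pow_eleven : d11c ^ 11 = 1 := by decide

/-- an element killed by `11` lies in every normal subgroup whose index is a power of `5` -/
theorem mem_of_index_pow_five {H : Type*} [Group H] (K : Subgroup H) [K.Normal] (j : ℕ)
    (hidx : K.index = 5 ^ j) (x : H) (hx : x ^ 11 = 1) : x ∈ K := by
  have h1 : x ^ (5 ^ j) ∈ K := hidx ▸ K.pow_index_mem x
  have hcop : Nat.Coprime (5 ^ j) 11 := Nat.Coprime.pow_left j (by norm_num)
  obtain ⟨m, -, hm⟩ := Nat.exists_mul_mod_eq_one_of_coprime hcop (by norm_num)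
  have h2 : x ^ (5 ^ j * m) = x := by
    rw [pow_eq_pow_mod _ hx, hm, pow_one]
  rw [← h2, pow_mul]
  exact K.pow_mem h1 m

/-- P4, generic form: `frame` is the statement of package P1. -/
theorem burnside_of_frame
    (frame : ∀ G : Subgroup (Perm (Fin 11)), d11c ∈ G → ¬ Group.IsSolvable G →
      ¬ alternatingGroup (Fin 11) ≤ G → d11d ∈ G)
    (G : Subgroup (Perm (Fin 11))) (hc : d11c ∈ G) (hsol : ¬ Group.IsSolvable G)
    (hA : ¬ alternatingGroup (Fin 11) ≤ G) (Q : Sylow 5 G) :
    ¬ (Subgroup.normalizer ((Q : Subgroup G) : Set G) ≤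
        Subgroup.centralizer ((Q : Subgroup G) : Set G)) := by
  intro hP
  have : Fact (Nat.Prime 5) := ⟨by norm_num⟩
  set K : Subgroup G := (MonoidHom.transferSylow Q hP).ker with hK
  have hcompl : Subgroup.IsComplement' K (Q : Subgroup G) :=
    MonoidHom.ker_transferSylow_isComplement' Q hP
  have hnd : ¬ 5 ∣ Nat.card K := MonoidHom.not_dvd_card_ker_transferSylow Q hP
  -- the index of K is a power of 5
  obtain ⟨j, hj⟩ := (Q.2 : IsPGroup 5 (Q : Subgroup G)).exists_card_eq
  have hidx : K.index = 5 ^ j := by rw [hcompl.symm.index_eq_card, hj]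
  -- c lies in K
  have hcK : (⟨d11c, hc⟩ : G) ∈ K :=
    mem_of_index_pow_five K j hidx _ (Subtype.ext (by simpa using d11c_pow_eleven))
  -- K is not solvable
  have hKsol : ¬ Group.IsSolvable K := by
    intro hKs
    apply hsol
    have : Group.IsSolvable K := hKs
    have : Group.IsNilpotent (Q : Subgroup G) := (Q.2 : IsPGroup 5 (Q : Subgroup G)).isNilpotent
    exact Group.isSolvable_of_ker_le_range K.subtype (MonoidHom.transferSylow Q hP)
      (by rw [Subgroup.range_subtype])
  -- pass to the image of K in `Perm (Fin 11)`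
  set K' : Subgroup (Perm (Fin 11)) := K.map G.subtype with hK'
  have hcK' : d11c ∈ K' := ⟨⟨d11c, hc⟩, hcK, rfl⟩
  have hle : K' ≤ G := by
    rintro _ ⟨x, -, rfl⟩
    exact x.2
  have hK'sol : ¬ Group.IsSolvable K' := by
    intro hs
    apply hKsol
    have := hs
    have e : K ≃* K' := K.equivMapOfInjective G.subtype G.subtype_injective
    exact Group.isSolvable_of_isSolvable_injective (f := e.toMonoidHom) e.injective
  have hdK' : d11d ∈ K' := frame K' hcK' hK'sol (fun h => hA (h.trans hle))
  -- so 5 divides |K'| = |K|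
  have h5 : 5 ∣ Nat.card K' := by
    have h := orderOf_dvd_natCard (⟨d11d, hdK'⟩ : K')
    rwa [Subgroup.orderOf_mk, orderOf_d11d] at h
  apply hnd
  rwa [Nat.card_congr (K.equivMapOfInjective G.subtype G.subtype_injective).toEquiv]

end Cfsg.Agent.Lib.Helper3.Deg11P4
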