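import Mathlib

/-! S0679 swarm, package P7: the arithmetic. -/

set_option autoImplicit false

namespace Cfsg.Agent.Lib.Helper3.Deg11P7

/-- divisors of `725760 = 2^8 * 3^4 * 35` -/
theorem dvd_decomp (n : ℕ) (h : n ∣ 725760) :
    ∃ a b c : ℕ, a ≤ 8 ∧ b ≤ 4 ∧ c ∣ 35 ∧ n = 2 ^ a * (3 ^ b * c) := by
  have h' : n ∣ 2 ^ 8 * (3 ^ 4 * 35) := by norm_num; exact h
  obtain ⟨k1, k2, hk1, hk2, rfl⟩ := (Nat.dvd_mul).1 h'
  obtain ⟨k3, k4, hk3, hk4, rfl⟩ := (Nat.dvd_mul).1 hk2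
  obtain ⟨a, ha, rfl⟩ := (Nat.dvd_prime_pow Nat.prime_two).1 hk1
  obtain ⟨b, hb, rfl⟩ := (Nat.dvd_prime_pow Nat.prime_three).1 hk3
  exact ⟨a, b, k4, ha, hb, hk4, rfl⟩

theorem dvd35 (c : ℕ) (h : c ∣ 35) : c = 1 ∨ c = 5 ∨ c = 7 ∨ c = 35 := by
  have hle : c ≤ 35 := Nat.le_of_dvd (by norm_num) h
  interval_cases c <;> omega

end Cfsg.Agent.Lib.Helper3.Deg11P7

namespace Cfsg.Agent.Lib.Deg11

open Cfsg.Agent.Lib.Helper3.Deg11P7 in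
/-- P7 ARITHMETIC. -/
theorem d11_arith (g n11 n5 s : ℕ) (hdvd : g ∣ 39916800) (h2 : ¬ 2 ^ 8 ∣ g) (h3 : ¬ 3 ^ 4 ∣ g)
    (h5 : ¬ 5 ^ 2 ∣ g) (h7 : ¬ 7 ∣ g) (h11 : n11 * 55 = g) (hn11 : n11 % 11 = 1)
    (h5' : n5 * (5 * s) = g) (hn5 : n5 % 5 = 1) (hs2 : 2 ≤ s) (hs7 : s ≤ 7) (hs3 : s ≠ 3) :
    (g = 660 ∧ s = 2) ∨ (g = 7920 ∧ s = 4) := by
  have h1 : n11 ∣ 725760 := by
    have h : n11 * 55 ∣ 725760 * 55 := by rw [h11]; norm_num; exact hdvd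
    exact Nat.dvd_of_mul_dvd_mul_right (by norm_num) h
  obtain ⟨a, b, c, ha, hb, hc, rfl⟩ := dvd_decomp n11 h1
  subst h11
  rcases dvd35 c hc with rfl | rfl | rfl | rfl
  · interval_cases a <;> interval_cases b <;> (first
      | (exfalso; revert h2; norm_num; done)
      | (exfalso; revert h3; norm_num; done)
      | (exfalso; revert hn11; norm_num; done)
      | (norm_num at h5' ⊢; interval_cases s <;> omega))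
  · exact absurd ⟨2 ^ a * 3 ^ b * 11, by ring⟩ h5
  · exact absurd ⟨2 ^ a * 3 ^ b * 55, by ring⟩ h7
  · exact absurd ⟨2 ^ a * 3 ^ b * 275, by ring⟩ h7

end Cfsg.Agent.Lib.Deg11
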