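import Mathlib
import Cfsg.Agent.Lib.Helper3.QD4

set_option autoImplicit false

namespace Cfsg.Agent.Lib.Helper3

open DihedralGroup

/-- nonzero solutions of `2 * a = 0` in `ZMod m` are unique -/
theorem zmod_two_mul_unique {m : ℕ} (a b : ZMod m) (ha : 2 * a = 0) (hb : 2 * b = 0)
    (ha0 : a ≠ 0) (hb0 : b ≠ 0) : a = b := by
  rcases Nat.eq_zero_or_pos m with rfl | hm
  · exfalso
    apply ha0
    have : (2 : ℤ) * (show ℤ from a) = 0 := ha
    have h2 : (show ℤ from a) = 0 := by omega
    exact h2
  · have : NeZero m := ⟨hm.ne'⟩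
    have key : ∀ c : ZMod m, 2 * c = 0 → c ≠ 0 → 2 * c.val = m := by
      intro c hc hc0
      have h1 : ((2 * c.val : ℕ) : ZMod m) = 0 := by
        rw [Nat.cast_mul, ZMod.natCast_zmod_val]; exact_mod_cast hc
      rw [ZMod.natCast_eq_zero_iff] at h1
      have h2 : c.val < m := ZMod.val_lt c
      have h3 : c.val ≠ 0 := by
        intro h; apply hc0; exact (ZMod.val_eq_zero c).mp h
      obtain ⟨k, hk⟩ := h1
      have : k = 1 := by
        rcases k with _ | _ | k
        · omega
        · rfl
        · exfalso
          have : m * (k + 1 + 1) ≥ m * 2 := Nat.mul_le_mul_left m (by omega)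
          omega
      rw [this, mul_one] at hk
      exact hk
    have h1 := key a ha ha0
    have h2 := key b hb hb0
    apply ZMod.val_injective
    omega

end Cfsg.Agent.Lib.Helper3
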