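import Mathlib
import Cfsg.Agent.Lib.Helper3.QD4
import Cfsg.Agent.Lib.Helper3.QDLocal1
import Cfsg.Agent.Lib.Helper3.Di1

set_option autoImplicit false

namespace Cfsg.Agent.Lib.Helper3

open DihedralGroup

theorem dihedral_r_sq {m : ℕ} (a : ZMod m) (h : (r a : DihedralGroup m) * r a = 1) : 2 * a = 0 := by
  rw [r_mul_r, one_def] at h
  have := r.inj h
  rw [two_mul]; exact this

theorem zmod_neg_of_two_mul {m : ℕ} (h : ZMod m) (h2 : 2 * h = 0) : -h = h := by
  rw [neg_eq_iff_add_eq_zero, ← two_mul]; exact h2

/-- structure of the Klein four-subgroups of a dihedral group -/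
theorem dihedral_klein_struct {m : ℕ} (U : Subgroup (DihedralGroup m)) (hU : IsKleinFour U) :
    ∃ h i : ZMod m, h ≠ 0 ∧ 2 * h = 0 ∧ r h ∈ U ∧ sr i ∈ U ∧
      ∀ g ∈ U, g = 1 ∨ g = r h ∨ g = sr i ∨ g = sr (i + h) := by
  -- a reflection in `U`
  have h1 : ∃ i, sr i ∈ U := by
    by_contra hcon
    push Not at hcon
    obtain ⟨u, huU, hu1, -⟩ := klein_exists_not_mem_zpowers U hU 1 (one_mul 1)
    obtain ⟨u', hu'U, hu'1, hu'u⟩ := klein_exists_not_mem_zpowers U hU u (klein_mem_sq U hU huU)
    rcases u with a | a
    · rcases u' with b | b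
      · have ha := dihedral_r_sq a (klein_mem_sq U hU huU)
        have hb := dihedral_r_sq b (klein_mem_sq U hU hu'U)
        have ha0 : a ≠ 0 := by rintro rfl; exact hu1 r_zero
        have hb0 : b ≠ 0 := by rintro rfl; exact hu'1 r_zero
        exact hu'u (by rw [zmod_two_mul_unique a b ha hb ha0 hb0])
      · exact hcon b hu'U
    · exact hcon a huU
  obtain ⟨i, hi⟩ := h1
  -- a rotation in `U`
  have h2 : ∃ h : ZMod m, h ≠ 0 ∧ r h ∈ U := by
    obtain ⟨v, hvU, hv1, hvi⟩ := klein_exists_not_mem_zpowers U hU (sr i) (sr_mul_self i)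
    rcases v with a | j
    · exact ⟨a, by rintro rfl; exact hv1 r_zero, hvU⟩
    · refine ⟨j - i, ?_, ?_⟩
      · intro h0
        apply hvi
        rw [sub_eq_zero] at h0
        rw [h0]
      · rw [← sr_mul_sr]
        exact U.mul_mem hi hvU
  obtain ⟨h, hh0, hhU⟩ := h2
  have hh2 : 2 * h = 0 := dihedral_r_sq h (klein_mem_sq U hU hhU)
  refine ⟨h, i, hh0, hh2, hhU, hi, ?_⟩
  intro g hg
  rcases g with b | j
  · by_cases hb0 : b = 0
    · left; rw [hb0, r_zero]
    · right; left
      have hb := dihedral_r_sq b (klein_mem_sq U hU hg)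
      rw [zmod_two_mul_unique b h hb hh2 hb0 hh0]
  · right; right
    have h3 : r (i - j) ∈ U := by
      rw [← sr_mul_sr]; exact U.mul_mem hg hi
    by_cases hij : i - j = 0
    · left
      rw [sub_eq_zero] at hij
      rw [hij]
    · right
      have h4 := dihedral_r_sq _ (klein_mem_sq U hU h3)
      have h5 := zmod_two_mul_unique _ h h4 hh2 hij hh0
      congr 1
      have : j = i - h := by rw [← h5]; ring
      rw [this, sub_eq_add_neg, zmod_neg_of_two_mul h hh2]

/-- Klein four-subgroups of a dihedral group are self-centralizing -/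
theorem dihedral_klein_centralizer_le {m : ℕ} (U : Subgroup (DihedralGroup m)) (hU : IsKleinFour U) :
    Subgroup.centralizer (U : Set (DihedralGroup m)) ≤ U := by
  obtain ⟨h, i, hh0, hh2, hhU, hiU, -⟩ := dihedral_klein_struct U hU
  intro c hc
  rw [Subgroup.mem_centralizer_iff] at hc
  have h1 := hc _ hiU
  have hiU' : sr (i + h) ∈ U := by
    rw [← sr_mul_r]; exact U.mul_mem hiU hhU
  rcases c with b | j
  · rw [sr_mul_r, r_mul_sr] at h1
    have h2 := sr.inj h1
    have h3 : 2 * b = 0 := by
      have : i + b - (i - b) = 0 := by rw [h2]; ring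
      rw [← this]; ring
    by_cases hb0 : b = 0
    · rw [hb0, r_zero]; exact U.one_mem
    · rw [zmod_two_mul_unique b h h3 hh2 hb0 hh0]; exact hhU
  · rw [sr_mul_sr, sr_mul_sr] at h1
    have h2 := r.inj h1
    have h3 : 2 * (j - i) = 0 := by
      have : (j - i) - (i - j) = 0 := by rw [h2]; ring
      rw [← this]; ring
    by_cases hb0 : j - i = 0
    · rw [sub_eq_zero] at hb0
      rw [hb0]; exact hiU
    · have h4 := zmod_two_mul_unique _ h h3 hh2 hb0 hh0
      have : j = i + h := by rw [← h4]; ring
      rw [this]; exact hiU'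



theorem isKleinFour_of_card_of_sq {T : Type*} [Group T] (hc : Nat.card T = 4)
    (hsq : ∀ t : T, t * t = 1) : IsKleinFour T where
  card_four := hc
  exponent_two := by
    have h1 : Monoid.exponent T ∣ 2 := by
      apply Monoid.exponent_dvd_of_forall_pow_eq_one
      intro t; rw [pow_two]; exact hsq t
    rcases (Nat.dvd_prime Nat.prime_two).mp h1 with h | h
    · exfalso
      rw [Monoid.exp_eq_one_iff] at h
      have := Nat.card_unique (α := T)
      omega
    · exact h

/-- an elementary abelian subgroup of order 8 containing a central involution `t` is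
self-centralizing as soon as Klein four-subgroups of the quotient by `t` are -/
theorem e8_self_centralizing_of_quotient {R : Type*} [Group R] [Finite R] (t : R)
    (ht : orderOf t = 2) [(Subgroup.zpowers t).Normal]
    (hsc : ∀ T : Subgroup (R ⧸ Subgroup.zpowers t), IsKleinFour T →
      Subgroup.centralizer (T : Set (R ⧸ Subgroup.zpowers t)) ≤ T)
    (A : Subgroup R) (hA : Cfsg.IsElementaryAbelian 2 A) (hA8 : Nat.card A = 8) (htA : t ∈ A) :
    Subgroup.centralizer (A : Set R) = A := by
  obtain ⟨hAc, hAe⟩ := hA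
  apply le_antisymm
  · intro c hc
    set π := QuotientGroup.mk' (Subgroup.zpowers t) with hπ
    set T := A.map π with hT
    have hZA : Subgroup.zpowers t ≤ A := Subgroup.zpowers_le.mpr htA
    have hcomap : T.comap π = A := by
      rw [hT, Subgroup.comap_map_eq, QuotientGroup.ker_mk', sup_eq_left.mpr hZA]
    have hidx : T.index = A.index := by
      rw [← hcomap, Subgroup.index_comap_of_surjective _ (QuotientGroup.mk'_surjective _)]
    have hcardT : Nat.card T = 4 := by
      have h1 := Subgroup.card_eq_card_quotient_mul_card_subgroup (Subgroup.zpowers t)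
      rw [Nat.card_zpowers, ht] at h1
      have h2 := T.card_mul_index
      have h3 := A.card_mul_index
      rw [hidx] at h2
      rw [hA8, h1] at h3
      rw [← h2] at h3
      have hpos : 0 < A.index := Nat.pos_of_ne_zero (Subgroup.index_ne_zero_of_finite)
      have : 8 * A.index = (Nat.card T * 2) * A.index := by rw [h3]; ring
      have := Nat.eq_of_mul_eq_mul_right hpos this
      omega
    have hTK : IsKleinFour T := by
      apply isKleinFour_of_card_of_sq hcardT
      rintro ⟨x, a, ha, rfl⟩
      apply Subtype.ext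
      show π a * π a = 1
      rw [← map_mul, ← pow_two, hAe a ha, map_one]
    have hcT : π c ∈ Subgroup.centralizer (T : Set (R ⧸ Subgroup.zpowers t)) := by
      rw [Subgroup.mem_centralizer_iff]
      rintro x ⟨a, ha, rfl⟩
      rw [Subgroup.mem_centralizer_iff] at hc
      rw [← map_mul, ← map_mul, hc a ha]
    have := hsc T hTK hcT
    have h2 : c ∈ T.comap π := this
    rw [hcomap] at h2
    exact h2
  · intro a ha
    rw [Subgroup.mem_centralizer_iff]
    intro b hb
    have := hAc.is_comm.comm (⟨b, hb⟩ : A) ⟨a, ha⟩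
    exact congrArg Subtype.val this



theorem klein_centralizer_le_of_dihedral {Q : Type*} [Group Q] {m : ℕ} (e : Q ≃* DihedralGroup m)
    (T : Subgroup Q) (hT : IsKleinFour T) : Subgroup.centralizer (T : Set Q) ≤ T := by
  set U := T.map e.toMonoidHom with hU
  have hUK : IsKleinFour U := isKleinFour_of_equiv (T.equivMapOfInjective e.toMonoidHom e.injective) hT
  intro c hc
  have h1 : e c ∈ Subgroup.centralizer (U : Set (DihedralGroup m)) := by
    rw [Subgroup.mem_centralizer_iff]
    rintro x ⟨a, ha, rfl⟩
    rw [Subgroup.mem_centralizer_iff] at hc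
    show e a * e c = e c * e a
    rw [← map_mul, ← map_mul, hc a ha]
  obtain ⟨a, ha, hac⟩ := dihedral_klein_centralizer_le U hUK h1
  have : a = c := e.injective hac
  rw [← this]; exact ha

theorem klein_centralizer_le_of_qd {Q : Type*} [Group Q] (d : QDData Q)
    (T : Subgroup Q) (hT : IsKleinFour T) : Subgroup.centralizer (T : Set Q) ≤ T := by
  obtain ⟨j, hz, hb⟩ := d.klein_struct T hT
  intro c hc
  rw [Subgroup.mem_centralizer_iff] at hc
  have h1 := hc _ hb
  rcases d.comm_b_even j c h1.symm with h | h | h | h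
  · rw [h]; exact T.one_mem
  · rw [h]; exact hz
  · rw [h]; exact hb
  · rw [h, ← d.zz_mul_b']; exact T.mul_mem hz hb

end Cfsg.Agent.Lib.Helper3
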