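import Mathlib
import Cfsg.Agent.Lib.Helper3.Di2

set_option autoImplicit false

namespace Cfsg.Agent.Lib.Helper3

section
variable {X : Type*} [Group X] {S : Subgroup X} {m : ℕ} (e : ↥S ≃* DihedralGroup m)

/-- the rotations of a dihedral subgroup -/
noncomputable def diR (i : ZMod m) : X := ((e.symm (DihedralGroup.r i) : ↥S) : X)
/-- the reflections of a dihedral subgroup -/
noncomputable def diS (i : ZMod m) : X := ((e.symm (DihedralGroup.sr i) : ↥S) : X)

theorem diR_mem (i : ZMod m) : diR e i ∈ S := (e.symm (DihedralGroup.r i)).2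
theorem diS_mem (i : ZMod m) : diS e i ∈ S := (e.symm (DihedralGroup.sr i)).2

theorem diR_mul_diR (i j : ZMod m) : diR e i * diR e j = diR e (i + j) := by
  unfold diR
  rw [← DihedralGroup.r_mul_r, map_mul]; rfl

theorem diR_mul_diS (i j : ZMod m) : diR e i * diS e j = diS e (j - i) := by
  unfold diR diS
  rw [← DihedralGroup.r_mul_sr, map_mul]; rfl

theorem diS_mul_diR (i j : ZMod m) : diS e i * diR e j = diS e (i + j) := by
  unfold diR diS
  rw [← DihedralGroup.sr_mul_r, map_mul]; rfl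

theorem diS_mul_diS (i j : ZMod m) : diS e i * diS e j = diR e (j - i) := by
  unfold diR diS
  rw [← DihedralGroup.sr_mul_sr, map_mul]; rfl

theorem diR_zero : diR e 0 = 1 := by
  unfold diR
  rw [DihedralGroup.r_zero, map_one]; rfl

theorem diR_inv (i : ZMod m) : (diR e i)⁻¹ = diR e (-i) := by
  apply inv_eq_of_mul_eq_one_right
  rw [diR_mul_diR, add_neg_cancel, diR_zero]

theorem diS_mul_self (i : ZMod m) : diS e i * diS e i = 1 := by
  rw [diS_mul_diS, sub_self, diR_zero]

theorem diS_inv (i : ZMod m) : (diS e i)⁻¹ = diS e i :=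
  inv_eq_of_mul_eq_one_right (diS_mul_self e i)

theorem diR_inj {i j : ZMod m} : diR e i = diR e j ↔ i = j := by
  constructor
  · intro h
    have h1 : e.symm (DihedralGroup.r i) = e.symm (DihedralGroup.r j) := Subtype.ext h
    exact DihedralGroup.r.inj (e.symm.injective h1)
  · rintro rfl; rfl

theorem diS_inj {i j : ZMod m} : diS e i = diS e j ↔ i = j := by
  constructor
  · intro h
    have h1 : e.symm (DihedralGroup.sr i) = e.symm (DihedralGroup.sr j) := Subtype.ext h
    exact DihedralGroup.sr.inj (e.symm.injective h1)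
  · rintro rfl; rfl

theorem diR_ne_diS (i j : ZMod m) : diR e i ≠ diS e j := by
  intro h
  have h1 : e.symm (DihedralGroup.r i) = e.symm (DihedralGroup.sr j) := Subtype.ext h
  have := e.symm.injective h1
  cases this

theorem diR_eq_one_iff {i : ZMod m} : diR e i = 1 ↔ i = 0 := by
  rw [← diR_zero e, diR_inj]

theorem diS_ne_one (i : ZMod m) : diS e i ≠ 1 := by
  rw [← diR_zero e]; exact (diR_ne_diS e 0 i).symm

theorem di_cases (g : X) (hg : g ∈ S) : (∃ i, g = diR e i) ∨ (∃ i, g = diS e i) := by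
  have h1 : (⟨g, hg⟩ : ↥S) = e.symm (e ⟨g, hg⟩) := (e.symm_apply_apply _).symm
  rcases h2 : e ⟨g, hg⟩ with i | i
  · left; refine ⟨i, ?_⟩
    rw [h2] at h1
    exact congrArg Subtype.val h1
  · right; refine ⟨i, ?_⟩
    rw [h2] at h1
    exact congrArg Subtype.val h1

theorem orderOf_diS (i : ZMod m) : orderOf (diS e i) = 2 := by
  apply orderOf_eq_prime
  · rw [pow_two]; exact diS_mul_self e i
  · exact diS_ne_one e i

theorem diR_conj_diS (j i : ZMod m) : diR e j * diS e i * (diR e j)⁻¹ = diS e (i - 2 * j) := by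
  rw [diR_inv, diR_mul_diS, diS_mul_diR]; congr 1; ring

theorem diS_conj_diR (j i : ZMod m) : diS e j * diR e i * (diS e j)⁻¹ = diR e (-i) := by
  rw [diS_inv, diS_mul_diR, diS_mul_diS]; congr 1; ring

theorem diS_conj_diS (j i : ZMod m) : diS e j * diS e i * (diS e j)⁻¹ = diS e (2 * j - i) := by
  rw [diS_inv, diS_mul_diS, diR_mul_diS]; congr 1; ring

theorem diR_conj_diR (j i : ZMod m) : diR e j * diR e i * (diR e j)⁻¹ = diR e i := by
  rw [diR_inv, diR_mul_diR, diR_mul_diR]; congr 1; ring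

theorem diR_sq_eq_one_iff {i : ZMod m} : diR e i * diR e i = 1 ↔ 2 * i = 0 := by
  rw [diR_mul_diR, diR_eq_one_iff, two_mul]

/-- involutions of a dihedral subgroup -/
theorem di_involution_cases (h : ZMod m) (hh0 : h ≠ 0) (hh2 : 2 * h = 0) (g : X) (hg : g ∈ S)
    (hgg : g * g = 1) (hg1 : g ≠ 1) : g = diR e h ∨ ∃ i, g = diS e i := by
  rcases di_cases e g hg with ⟨i, rfl⟩ | ⟨i, rfl⟩
  · left
    rw [diR_sq_eq_one_iff] at hgg
    have hi0 : i ≠ 0 := by rintro rfl; exact hg1 (diR_zero e)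
    rw [zmod_two_mul_unique i h hgg hh2 hi0 hh0]
  · right; exact ⟨i, rfl⟩

/-- the central involution commutes with everything in `S` -/
theorem diR_half_comm (h : ZMod m) (hh2 : 2 * h = 0) (g : X) (hg : g ∈ S) :
    g * diR e h = diR e h * g := by
  rcases di_cases e g hg with ⟨i, rfl⟩ | ⟨i, rfl⟩
  · rw [diR_mul_diR, diR_mul_diR, add_comm]
  · rw [diS_mul_diR, diR_mul_diS]; congr 1
    rw [sub_eq_add_neg, zmod_neg_of_two_mul h hh2]

/-- Klein four-subgroups of a dihedral subgroup -/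
theorem di_klein_struct (U : Subgroup X) (hUS : U ≤ S) (hU : IsKleinFour U) :
    ∃ h i : ZMod m, h ≠ 0 ∧ 2 * h = 0 ∧ diR e h ∈ U ∧ diS e i ∈ U ∧
      ∀ g ∈ U, g = 1 ∨ g = diR e h ∨ g = diS e i ∨ g = diS e (i + h) := by
  set U' : Subgroup (DihedralGroup m) := (U.subgroupOf S).map e.toMonoidHom with hU'
  have hU'K : IsKleinFour U' := by
    have e1 : ↥U ≃* ↥(U.subgroupOf S) := (Subgroup.subgroupOfEquivOfLe hUS).symm
    have e2 : ↥(U.subgroupOf S) ≃* ↥U' :=
      (U.subgroupOf S).equivMapOfInjective e.toMonoidHom e.injective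
    exact isKleinFour_of_equiv (e1.trans e2) hU
  have hmem : ∀ x : DihedralGroup m, x ∈ U' ↔ ((e.symm x : ↥S) : X) ∈ U := by
    intro x
    constructor
    · rintro ⟨a, ha, rfl⟩
      have ha' : (a : X) ∈ U := Subgroup.mem_subgroupOf.mp ha
      show ((e.symm (e a) : ↥S) : X) ∈ U
      rw [e.symm_apply_apply]; exact ha'
    · intro hx
      refine ⟨e.symm x, Subgroup.mem_subgroupOf.mpr hx, ?_⟩
      show e (e.symm x) = x
      rw [e.apply_symm_apply]
  obtain ⟨h, i, hh0, hh2, hhU, hiU, hall⟩ := dihedral_klein_struct U' hU'K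
  refine ⟨h, i, hh0, hh2, (hmem _).mp hhU, (hmem _).mp hiU, ?_⟩
  intro g hg
  have hgS : g ∈ S := hUS hg
  have h1 : e ⟨g, hgS⟩ ∈ U' := by
    rw [hmem, e.symm_apply_apply]; exact hg
  have h2 : (⟨g, hgS⟩ : ↥S) = e.symm (e ⟨g, hgS⟩) := (e.symm_apply_apply _).symm
  rcases hall _ h1 with h3 | h3 | h3 | h3
  · left
    rw [h3, map_one] at h2
    exact congrArg Subtype.val h2
  · right; left
    rw [h3] at h2
    exact congrArg Subtype.val h2
  · right; right; left
    rw [h3] at h2
    exact congrArg Subtype.val h2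
  · right; right; right
    rw [h3] at h2
    exact congrArg Subtype.val h2

end

end Cfsg.Agent.Lib.Helper3
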