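import Mathlib
import Cfsg.Agent.Lib.Helper3.Di3
import Cfsg.Agent.Lib.Helper3.QDFusion1
import Cfsg.Agent.Lib.Helper3.Isolated
import Cfsg.Agent.Lib.Lead.ThompsonTransfer

set_option autoImplicit false

namespace Cfsg.Agent.Lib.Helper3

open Cfsg.Agent.Lib.Lead

theorem zmod_exists_half {m : ℕ} (hm0 : m ≠ 0) (h2 : 2 ∣ m) :
    ∃ h : ZMod m, h ≠ 0 ∧ 2 * h = 0 := by
  obtain ⟨n, rfl⟩ := h2
  refine ⟨(n : ZMod (2 * n)), ?_, ?_⟩
  · intro h
    rw [ZMod.natCast_eq_zero_iff] at h
    have hn : 0 < n := by omega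
    have := Nat.le_of_dvd hn h
    omega
  · have : ((2 * n : ℕ) : ZMod (2 * n)) = 0 := ZMod.natCast_self _
    rw [← this]; push_cast; ring

theorem zmod_exists_quarter {m : ℕ} (hm0 : m ≠ 0) (h4 : 4 ∣ m) :
    ∃ h q : ZMod m, h ≠ 0 ∧ 2 * h = 0 ∧ 2 * q = h := by
  obtain ⟨n, rfl⟩ := h4
  refine ⟨((2 * n : ℕ) : ZMod (4 * n)), (n : ZMod (4 * n)), ?_, ?_, ?_⟩
  · intro h
    rw [ZMod.natCast_eq_zero_iff] at h
    have hn : 0 < 2 * n := by omega
    have := Nat.le_of_dvd hn h
    omega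
  · have : ((4 * n : ℕ) : ZMod (4 * n)) = 0 := ZMod.natCast_self _
    rw [← this]; push_cast; ring
  · push_cast; ring

section
variable {X : Type*} [Group X] {S : Subgroup X} {m : ℕ} (e : ↥S ≃* DihedralGroup m)

/-- the rotation subgroup -/
noncomputable def diRot : Subgroup X where
  carrier := {g | ∃ i, g = diR e i}
  one_mem' := ⟨0, (diR_zero e).symm⟩
  mul_mem' := by rintro _ _ ⟨i, rfl⟩ ⟨j, rfl⟩; exact ⟨i + j, diR_mul_diR e i j⟩
  inv_mem' := by rintro _ ⟨i, rfl⟩; exact ⟨-i, diR_inv e i⟩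

theorem mem_diRot (g : X) : g ∈ diRot e ↔ ∃ i, g = diR e i := Iff.rfl

theorem diS_not_mem_diRot (i : ZMod m) : diS e i ∉ diRot e := by
  rintro ⟨j, hj⟩
  exact diR_ne_diS e j i hj.symm

theorem diRot_relIndex : (diRot e).relIndex S = 2 := by
  rw [Subgroup.relIndex_eq_two_iff]
  refine ⟨diS e 0, diS_mem e 0, ?_⟩
  intro b hb
  rcases di_cases e b hb with ⟨i, rfl⟩ | ⟨i, rfl⟩
  · right
    refine ⟨⟨i, rfl⟩, ?_⟩
    rw [diR_mul_diS]
    exact diS_not_mem_diRot e _
  · left
    refine ⟨?_, diS_not_mem_diRot e i⟩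
    rw [diS_mul_diS]
    exact ⟨_, rfl⟩

end

section
variable {X : Type*} [Group X] [Finite X] (S : Sylow 2 X) {m : ℕ}
  (e : ↥(S : Subgroup X) ≃* DihedralGroup m)

include S e in
theorem di_pow (hm : 2 ≤ m) : ∃ k, 1 ≤ k ∧ m = 2 ^ k := by
  have : Fact (Nat.Prime 2) := ⟨Nat.prime_two⟩
  obtain ⟨a, ha⟩ := IsPGroup.iff_card.mp S.isPGroup'
  have hc : Nat.card ↥(S : Subgroup X) = 2 * m := by
    rw [Nat.card_congr e.toEquiv, DihedralGroup.nat_card]
  rw [hc] at ha
  rcases a with _ | a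
  · omega
  · refine ⟨a, ?_, ?_⟩
    · rcases a with _ | a
      · omega
      · omega
    · rw [pow_succ] at ha; omega

include S e in
theorem di_two_dvd (hm : 2 ≤ m) : 2 ∣ m := by
  obtain ⟨k, hk, rfl⟩ := di_pow S e hm
  exact dvd_pow_self 2 (by omega)

include S e in
theorem di_four_dvd (hm : 2 ≤ m) (hm2 : m ≠ 2) : 4 ∣ m := by
  obtain ⟨k, hk, rfl⟩ := di_pow S e hm
  rcases k with _ | _ | k
  · omega
  · exact absurd rfl hm2
  · exact ⟨2 ^ k, by ring⟩

/-- Thompson transfer: without subgroups of index two, every reflection is conjugate to the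
central involution -/
theorem di_conj_of_no_index_two (h : ZMod m) (hh0 : h ≠ 0) (hh2 : 2 * h = 0)
    (hno : ∀ H : Subgroup X, H.index ≠ 2) (i : ZMod m) : IsConj (diS e i) (diR e h) := by
  by_contra hcon
  obtain ⟨M, -, hM2, -⟩ := thompson_transfer S (diRot e) (diRot_relIndex e) (diS e i)
    (orderOf_diS e i) (by
      intro g hg
      obtain ⟨j, hj⟩ := hg
      apply hcon
      rw [isConj_iff]
      refine ⟨g, ?_⟩
      rw [hj]
      have hsq : diR e j * diR e j = 1 := by
        rw [← hj]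
        calc g * diS e i * g⁻¹ * (g * diS e i * g⁻¹) = g * (diS e i * diS e i) * g⁻¹ := by group
          _ = 1 := by rw [diS_mul_self]; group
      rw [diR_sq_eq_one_iff] at hsq
      have hj0 : j ≠ 0 := by
        rintro rfl
        rw [diR_zero] at hj
        apply diS_ne_one e i
        calc diS e i = g⁻¹ * (g * diS e i * g⁻¹) * g := by group
          _ = 1 := by rw [hj]; group
      rw [zmod_two_mul_unique j h hsq hh2 hj0 hh0])
  exact hno M hM2

/-- if every reflection is conjugate to the central involution, all involutions are conjugate -/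
theorem di_all_conj (h : ZMod m) (hh0 : h ≠ 0) (hh2 : 2 * h = 0)
    (hall : ∀ i, IsConj (diS e i) (diR e h)) (a b : X) (ha : orderOf a = 2) (hb : orderOf b = 2) :
    IsConj a b := by
  have : Fact (Nat.Prime 2) := ⟨Nat.prime_two⟩
  have key : ∀ a : X, orderOf a = 2 → IsConj a (diR e h) := by
    intro a ha
    obtain ⟨g, hg⟩ := exists_conj_mem_sylow S a 1 (by rw [ha, pow_one])
    have h1 : IsConj a (g * a * g⁻¹) := isConj_iff.mpr ⟨g, rfl⟩
    have haa : a * a = 1 := by rw [← pow_two, ← ha]; exact pow_orderOf_eq_one a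
    have hsq : g * a * g⁻¹ * (g * a * g⁻¹) = 1 := by
      calc g * a * g⁻¹ * (g * a * g⁻¹) = g * (a * a) * g⁻¹ := by group
        _ = 1 := by rw [haa]; group
    have hne : g * a * g⁻¹ ≠ 1 := by
      intro h'
      have : a = 1 := by
        calc a = g⁻¹ * (g * a * g⁻¹) * g := by group
          _ = 1 := by rw [h']; group
      rw [this, orderOf_one] at ha; omega
    rcases di_involution_cases e h hh0 hh2 _ hg hsq hne with h2 | ⟨i, h2⟩
    · rw [h2] at h1; exact h1
    · rw [h2] at h1; exact h1.trans (hall i)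
  exact (key a ha).trans (key b hb).symm

include S e in
/-- with all involutions conjugate there is no subgroup of index two -/
theorem di_no_index_two_of_all_conj (h : ZMod m) (hh0 : h ≠ 0) (hh2 : 2 * h = 0)
    (hall : ∀ a b : X, orderOf a = 2 → orderOf b = 2 → IsConj a b) (H : Subgroup X) :
    H.index ≠ 2 := by
  intro h2
  haveI : H.Normal := Subgroup.normal_of_index_eq_two h2
  have hzo : orderOf (diR e h) = 2 := by
    apply orderOf_eq_prime
    · rw [pow_two, diR_sq_eq_one_iff]; exact hh2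
    · rw [Ne, diR_eq_one_iff]; exact hh0
  -- some involution lies in `H`
  have hex : ∃ t : X, orderOf t = 2 ∧ t ∈ H := by
    by_cases h0 : diS e 0 ∈ H
    · exact ⟨_, orderOf_diS e 0, h0⟩
    · by_cases h1 : diS e h ∈ H
      · exact ⟨_, orderOf_diS e h, h1⟩
      · refine ⟨diR e h, hzo, ?_⟩
        have := Subgroup.mul_mem_iff_of_index_two h2 (a := diS e 0) (b := diS e h)
        rw [diS_mul_diS, sub_zero] at this
        rw [this]
        exact ⟨fun hx => absurd hx h0, fun hx => absurd hx h1⟩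
  obtain ⟨t, hto, htH⟩ := hex
  have hinvH : ∀ t' : X, orderOf t' = 2 → t' ∈ H := fun t' ht' =>
    isConj_mem_normal H t t' (hall t t' hto ht') htH
  have hle : (S : Subgroup X) ≤ H := by
    intro g hg
    rcases di_cases e g hg with ⟨i, rfl⟩ | ⟨i, rfl⟩
    · have : diR e i = diS e 0 * diS e i := by rw [diS_mul_diS, sub_zero]
      rw [this]
      exact H.mul_mem (hinvH _ (orderOf_diS e 0)) (hinvH _ (orderOf_diS e i))
    · exact hinvH _ (orderOf_diS e i)
  have hdvd := Subgroup.index_dvd_of_le hle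
  rw [h2] at hdvd
  exact S.not_dvd_index hdvd

omit [Finite X] in
include S e in
/-- with all involutions conjugate there is no isolated involution -/
theorem di_no_isolated_of_all_conj (h : ZMod m) (hh0 : h ≠ 0) (hh2 : 2 * h = 0)
    (hall : ∀ a b : X, orderOf a = 2 → orderOf b = 2 → IsConj a b) (z : X) :
    ¬ Cfsg.IsIsolatedInvolution z := by
  intro hz
  have hzo : orderOf (diR e h) = 2 := by
    apply orderOf_eq_prime
    · rw [pow_two, diR_sq_eq_one_iff]; exact hh2
    · rw [Ne, diR_eq_one_iff]; exact hh0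
  obtain ⟨g, hg⟩ := isConj_iff.mp (hall z (diR e h) hz.1 hzo)
  have hz' := IsIsolatedInvolution.conj hz g
  rw [hg] at hz'
  obtain ⟨g', hg'⟩ := isConj_iff.mp (hall (diR e h) (diS e 0) hzo (orderOf_diS e 0))
  have h1 := hz'.2 g' (by
    rw [hg']
    exact (diR_half_comm e h hh2 _ (diS_mem e 0)).symm)
  rw [hg'] at h1
  exact diR_ne_diS e _ _ h1.symm

end

end Cfsg.Agent.Lib.Helper3
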