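import Mathlib
import Cfsg.Prelude.Def_CaseTheorems
import Cfsg.Agent.Lib.Helper3.Zmod2
import Cfsg.Agent.Lib.Lead.QuatRecog

set_option autoImplicit false

namespace Cfsg.Agent.Lib.Helper3
open Cfsg.Agent.Lib.Lead

/-- The data of a wreathed `2`-group. -/
structure WrData (S : Type*) [Group S] where
  n : ℕ
  hn : 2 ≤ n
  card : Nat.card S = 2 ^ (2 * n + 1)
  x : S
  y : S
  z : S
  hx : orderOf x = 2 ^ n
  hxy : x * y = y * x
  hdisj : Subgroup.zpowers x ⊓ Subgroup.zpowers y = ⊥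
  hz : orderOf z = 2
  hzx : z * x * z⁻¹ = y

theorem isWreathed_iff (S : Type*) [Group S] : Cfsg.IsWreathed S ↔ Nonempty (WrData S) := by
  constructor
  · rintro ⟨n, hn, hc, x, y, z, hx, hxy, hd, hz, hzx⟩
    exact ⟨⟨n, hn, hc, x, y, z, hx, hxy, hd, hz, hzx⟩⟩
  · rintro ⟨⟨n, hn, hc, x, y, z, hx, hxy, hd, hz, hzx⟩⟩
    exact ⟨n, hn, hc, x, y, z, hx, hxy, hd, hz, hzx⟩

namespace WrData

variable {S : Type*} [Group S] (d : WrData S)

theorem n_pos : 1 ≤ d.n := le_trans (by norm_num) d.hn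

theorem z_sq : d.z * d.z = 1 := by
  have := pow_orderOf_eq_one d.z
  rwa [d.hz, pow_two] at this

theorem z_inv : d.z⁻¹ = d.z := inv_eq_of_mul_eq_one_left d.z_sq

theorem z_ne_one : d.z ≠ 1 := by
  intro h
  have := d.hz
  rw [h, orderOf_one] at this
  omega

theorem hy : orderOf d.y = 2 ^ d.n := by
  rw [← d.hzx, ← d.hx]
  have : d.z * d.x * d.z⁻¹ = MulAut.conj d.z d.x := by rw [MulAut.conj_apply]
  rw [this, MulEquiv.orderOf_eq]

theorem hzy : d.z * d.y * d.z⁻¹ = d.x := by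
  rw [← d.hzx, d.z_inv]
  calc d.z * (d.z * d.x * d.z) * d.z = (d.z * d.z) * d.x * (d.z * d.z) := by group
    _ = d.x := by rw [d.z_sq, one_mul, mul_one]

theorem x_pow : d.x ^ (2 ^ d.n) = 1 := by
  rw [← d.hx]; exact pow_orderOf_eq_one d.x

theorem y_pow : d.y ^ (2 ^ d.n) = 1 := by
  rw [← d.hy]; exact pow_orderOf_eq_one d.y

/-- `x ^ i` -/
noncomputable def ax (i : ZMod (2 ^ d.n)) : S := (zmodPow (2 ^ d.n) d.x d.x_pow i).toMul

/-- `y ^ i` -/
noncomputable def ay (i : ZMod (2 ^ d.n)) : S := (zmodPow (2 ^ d.n) d.y d.y_pow i).toMul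

theorem ax_natCast (m : ℕ) : d.ax (m : ZMod (2 ^ d.n)) = d.x ^ m := zmodPow_natCast _ _ _ m
theorem ay_natCast (m : ℕ) : d.ay (m : ZMod (2 ^ d.n)) = d.y ^ m := zmodPow_natCast _ _ _ m

theorem ax_add (i j : ZMod (2 ^ d.n)) : d.ax (i + j) = d.ax i * d.ax j := zmodPow_add _ _ _ i j
theorem ay_add (i j : ZMod (2 ^ d.n)) : d.ay (i + j) = d.ay i * d.ay j := zmodPow_add _ _ _ i j
theorem ax_neg (i : ZMod (2 ^ d.n)) : d.ax (-i) = (d.ax i)⁻¹ := zmodPow_neg _ _ _ i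
theorem ay_neg (i : ZMod (2 ^ d.n)) : d.ay (-i) = (d.ay i)⁻¹ := zmodPow_neg _ _ _ i

theorem ax_zero : d.ax 0 = 1 := by
  have := d.ax_natCast 0
  simpa using this

theorem ay_zero : d.ay 0 = 1 := by
  have := d.ay_natCast 0
  simpa using this

theorem ax_one : d.ax 1 = d.x := by
  have := d.ax_natCast 1
  simpa using this

theorem ay_one : d.ay 1 = d.y := by
  have := d.ay_natCast 1
  simpa using this

theorem ax_eq_pow (i : ZMod (2 ^ d.n)) : d.ax i = d.x ^ i.val := by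
  haveI : NeZero (2 ^ d.n) := ⟨by positivity⟩
  conv_lhs => rw [← ZMod.natCast_zmod_val i]
  exact d.ax_natCast _

theorem ay_eq_pow (i : ZMod (2 ^ d.n)) : d.ay i = d.y ^ i.val := by
  haveI : NeZero (2 ^ d.n) := ⟨by positivity⟩
  conv_lhs => rw [← ZMod.natCast_zmod_val i]
  exact d.ay_natCast _

theorem ax_eq_one_iff (i : ZMod (2 ^ d.n)) : d.ax i = 1 ↔ i = 0 := by
  constructor
  · intro h
    exact zmodPow_eq_one (2 ^ d.n) d.x d.x_pow d.hx i h
  · rintro rfl; exact d.ax_zero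

theorem ay_eq_one_iff (i : ZMod (2 ^ d.n)) : d.ay i = 1 ↔ i = 0 := by
  constructor
  · intro h
    exact zmodPow_eq_one (2 ^ d.n) d.y d.y_pow d.hy i h
  · rintro rfl; exact d.ay_zero

theorem ax_ay_comm (i j : ZMod (2 ^ d.n)) : d.ax i * d.ay j = d.ay j * d.ax i := by
  rw [ax_eq_pow, ay_eq_pow]
  have h : Commute d.x d.y := d.hxy
  exact (h.pow_pow _ _).eq

theorem z_mul_ax (i : ZMod (2 ^ d.n)) : d.z * d.ax i = d.ay i * d.z := by
  rw [ax_eq_pow, ay_eq_pow, ← d.hzx, conj_pow]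
  group

theorem z_mul_ay (i : ZMod (2 ^ d.n)) : d.z * d.ay i = d.ax i * d.z := by
  rw [ax_eq_pow, ay_eq_pow, ← d.hzy, conj_pow]
  group

theorem ax_mem_zpowers (i : ZMod (2 ^ d.n)) : d.ax i ∈ Subgroup.zpowers d.x := by
  rw [ax_eq_pow]; exact Subgroup.pow_mem _ (Subgroup.mem_zpowers _) _

theorem ay_mem_zpowers (i : ZMod (2 ^ d.n)) : d.ay i ∈ Subgroup.zpowers d.y := by
  rw [ay_eq_pow]; exact Subgroup.pow_mem _ (Subgroup.mem_zpowers _) _

/-- `x ^ i * y ^ j` -/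
noncomputable def c (i j : ZMod (2 ^ d.n)) : S := d.ax i * d.ay j

/-- `x ^ i * y ^ j * z` -/
noncomputable def e (i j : ZMod (2 ^ d.n)) : S := d.c i j * d.z

theorem c_zero : d.c 0 0 = 1 := by unfold c; rw [ax_zero, ay_zero, one_mul]

theorem e_zero : d.e 0 0 = d.z := by unfold e; rw [c_zero, one_mul]

theorem c_mul_c (i j i' j' : ZMod (2 ^ d.n)) : d.c i j * d.c i' j' = d.c (i + i') (j + j') := by
  unfold c
  rw [ax_add, ay_add]
  calc d.ax i * d.ay j * (d.ax i' * d.ay j') = d.ax i * (d.ay j * d.ax i') * d.ay j' := by group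
    _ = d.ax i * (d.ax i' * d.ay j) * d.ay j' := by rw [ax_ay_comm]
    _ = d.ax i * d.ax i' * (d.ay j * d.ay j') := by group

theorem z_mul_c (i j : ZMod (2 ^ d.n)) : d.z * d.c i j = d.c j i * d.z := by
  unfold c
  calc d.z * (d.ax i * d.ay j) = (d.z * d.ax i) * d.ay j := by group
    _ = d.ay i * (d.z * d.ay j) := by rw [z_mul_ax]; group
    _ = d.ay i * d.ax j * d.z := by rw [z_mul_ay]; group
    _ = d.ax j * d.ay i * d.z := by rw [ax_ay_comm]

theorem c_mul_e (i j i' j' : ZMod (2 ^ d.n)) : d.c i j * d.e i' j' = d.e (i + i') (j + j') := by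
  unfold e
  rw [← mul_assoc, c_mul_c]

theorem e_mul_c (i j i' j' : ZMod (2 ^ d.n)) : d.e i j * d.c i' j' = d.e (i + j') (j + i') := by
  unfold e
  rw [mul_assoc, z_mul_c, ← mul_assoc, c_mul_c]

theorem e_mul_e (i j i' j' : ZMod (2 ^ d.n)) : d.e i j * d.e i' j' = d.c (i + j') (j + i') := by
  unfold e
  calc d.c i j * d.z * (d.c i' j' * d.z) = d.c i j * (d.z * d.c i' j') * d.z := by group
    _ = d.c i j * (d.c j' i' * d.z) * d.z := by rw [z_mul_c]
    _ = d.c i j * d.c j' i' * (d.z * d.z) := by group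
    _ = d.c (i + j') (j + i') := by rw [d.z_sq, mul_one, c_mul_c]

theorem c_eq_one_iff (i j : ZMod (2 ^ d.n)) : d.c i j = 1 ↔ i = 0 ∧ j = 0 := by
  constructor
  · intro h
    unfold c at h
    have h1 : d.ax i = (d.ay j)⁻¹ := eq_inv_of_mul_eq_one_left h
    have h2 : d.ax i ∈ Subgroup.zpowers d.x ⊓ Subgroup.zpowers d.y := by
      refine ⟨d.ax_mem_zpowers i, ?_⟩
      rw [h1]; exact Subgroup.inv_mem _ (d.ay_mem_zpowers j)
    rw [d.hdisj, Subgroup.mem_bot] at h2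
    have hi := (d.ax_eq_one_iff i).mp h2
    rw [h2, one_mul] at h
    exact ⟨hi, (d.ay_eq_one_iff j).mp h⟩
  · rintro ⟨rfl, rfl⟩; exact d.c_zero

theorem c_inv (i j : ZMod (2 ^ d.n)) : (d.c i j)⁻¹ = d.c (-i) (-j) := by
  apply inv_eq_of_mul_eq_one_right
  rw [c_mul_c, add_neg_cancel, add_neg_cancel, c_zero]

theorem c_inj (i j i' j' : ZMod (2 ^ d.n)) : d.c i j = d.c i' j' ↔ i = i' ∧ j = j' := by
  constructor
  · intro h
    have : d.c (i - i') (j - j') = 1 := by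
      rw [sub_eq_add_neg, sub_eq_add_neg, ← c_mul_c, ← c_inv, h, mul_inv_cancel]
    rw [c_eq_one_iff, sub_eq_zero, sub_eq_zero] at this
    exact this
  · rintro ⟨rfl, rfl⟩; rfl

theorem e_inj (i j i' j' : ZMod (2 ^ d.n)) : d.e i j = d.e i' j' ↔ i = i' ∧ j = j' := by
  unfold e
  rw [mul_left_inj, c_inj]

theorem e_inv (i j : ZMod (2 ^ d.n)) : (d.e i j)⁻¹ = d.e (-j) (-i) := by
  apply inv_eq_of_mul_eq_one_right
  rw [e_mul_e, add_neg_cancel, add_neg_cancel, c_zero]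

/-- the abelian subgroup of index two -/
def U : Subgroup S where
  carrier := {g | ∃ i j, g = d.c i j}
  mul_mem' := by
    rintro _ _ ⟨i, j, rfl⟩ ⟨i', j', rfl⟩
    exact ⟨_, _, d.c_mul_c i j i' j'⟩
  one_mem' := ⟨0, 0, d.c_zero.symm⟩
  inv_mem' := by
    rintro _ ⟨i, j, rfl⟩
    exact ⟨_, _, d.c_inv i j⟩

theorem mem_U_iff (g : S) : g ∈ d.U ↔ ∃ i j, g = d.c i j := Iff.rfl

theorem c_mem_U (i j : ZMod (2 ^ d.n)) : d.c i j ∈ d.U := ⟨i, j, rfl⟩

/-- the coordinate bijection on `U` -/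
noncomputable def equivU : (ZMod (2 ^ d.n) × ZMod (2 ^ d.n)) ≃ d.U :=
  Equiv.ofBijective (fun p => ⟨d.c p.1 p.2, d.c_mem_U _ _⟩) (by
    constructor
    · rintro ⟨i, j⟩ ⟨i', j'⟩ h
      have h' : d.c i j = d.c i' j' := congrArg Subtype.val h
      rw [c_inj] at h'
      exact Prod.ext h'.1 h'.2
    · rintro ⟨g, i, j, rfl⟩
      exact ⟨(i, j), rfl⟩)

theorem card_U : Nat.card d.U = 2 ^ (2 * d.n) := by
  rw [← Nat.card_congr d.equivU, Nat.card_prod, Nat.card_zmod, ← pow_add, two_mul]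

theorem index_U : d.U.index = 2 := by
  have h := d.U.card_mul_index
  rw [d.card_U, d.card, pow_succ] at h
  exact Nat.eq_of_mul_eq_mul_left (by positivity) h

theorem x_ne_one : d.x ≠ 1 := by
  intro h
  have := d.hx
  rw [h, orderOf_one] at this
  have h2 : 2 ^ 1 ≤ 2 ^ d.n := Nat.pow_le_pow_right (by norm_num) d.n_pos
  omega

theorem z_not_mem_U : d.z ∉ d.U := by
  rintro ⟨i, j, h⟩
  -- then `z` commutes with `x`, so `y = x`
  have h1 : d.z * d.x = d.x * d.z := by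
    rw [h, ← d.ax_one]
    have : d.ax 1 = d.c 1 0 := by unfold c; rw [ay_zero, mul_one]
    rw [this, c_mul_c, c_mul_c, add_comm, add_comm j]
  have h2 : d.y = d.x := by
    rw [← d.hzx, h1]; group
  have h3 : d.x ∈ Subgroup.zpowers d.x ⊓ Subgroup.zpowers d.y := by
    refine ⟨Subgroup.mem_zpowers _, ?_⟩
    rw [h2]; exact Subgroup.mem_zpowers _
  rw [d.hdisj, Subgroup.mem_bot] at h3
  exact d.x_ne_one h3

theorem c_ne_e (i j i' j' : ZMod (2 ^ d.n)) : d.c i j ≠ d.e i' j' := by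
  intro h
  apply d.z_not_mem_U
  have : d.z = (d.c i' j')⁻¹ * d.c i j := by rw [h]; unfold e; group
  rw [this, c_inv, c_mul_c]
  exact d.c_mem_U _ _

theorem e_not_mem_U (i j : ZMod (2 ^ d.n)) : d.e i j ∉ d.U := by
  rintro ⟨i', j', h⟩
  exact d.c_ne_e _ _ _ _ h.symm

theorem cases (g : S) : (∃ i j, g = d.c i j) ∨ (∃ i j, g = d.e i j) := by
  by_cases hg : g ∈ d.U
  · left; exact hg
  · right
    have h2 := d.index_U
    have h3 : g * d.z ∈ d.U := by
      by_contra hcon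
      have h4 := (Subgroup.mul_mem_iff_of_index_two h2 (a := g) (b := d.z))
      have : (g ∈ d.U ↔ d.z ∈ d.U) := by
        constructor
        · intro h; exact absurd h hg
        · intro h; exact absurd h d.z_not_mem_U
      exact hcon (h4.mpr this)
    obtain ⟨i, j, hi⟩ := h3
    refine ⟨i, j, ?_⟩
    unfold e
    rw [← hi, mul_assoc, d.z_sq, mul_one]

/-! ### conjugation formulas -/

theorem c_conj_c (k l i j : ZMod (2 ^ d.n)) : d.c k l * d.c i j * (d.c k l)⁻¹ = d.c i j := by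
  rw [c_inv, c_mul_c, c_mul_c]; congr 1 <;> ring

theorem c_conj_e (k l i j : ZMod (2 ^ d.n)) :
    d.c k l * d.e i j * (d.c k l)⁻¹ = d.e (i + k - l) (j + l - k) := by
  rw [c_inv, c_mul_e, e_mul_c]; congr 1 <;> ring

theorem e_conj_c (k l i j : ZMod (2 ^ d.n)) : d.e k l * d.c i j * (d.e k l)⁻¹ = d.c j i := by
  rw [e_inv, e_mul_c, e_mul_e]; congr 1 <;> ring

theorem e_conj_e (k l i j : ZMod (2 ^ d.n)) :
    d.e k l * d.e i j * (d.e k l)⁻¹ = d.e (k + j - l) (l + i - k) := by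
  rw [e_inv, e_mul_e, c_mul_e]; congr 1 <;> ring

theorem c_comm_c (k l i j : ZMod (2 ^ d.n)) : d.c k l * d.c i j = d.c i j * d.c k l := by
  rw [c_mul_c, c_mul_c, add_comm, add_comm l]

theorem c_comm_e_iff (k l i j : ZMod (2 ^ d.n)) :
    d.c k l * d.e i j = d.e i j * d.c k l ↔ k = l := by
  rw [c_mul_e, e_mul_c, e_inj]
  constructor
  · rintro ⟨h1, -⟩
    have : k = l := by linear_combination h1
    exact this
  · rintro rfl
    exact ⟨by ring, by ring⟩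

theorem e_comm_e_iff (k l i j : ZMod (2 ^ d.n)) :
    d.e k l * d.e i j = d.e i j * d.e k l ↔ k - l = i - j := by
  rw [e_mul_e, e_mul_e, c_inj]
  constructor
  · rintro ⟨h1, -⟩
    linear_combination h1
  · intro h
    exact ⟨by linear_combination h, by linear_combination (-1 : ZMod (2 ^ d.n)) * h⟩

end WrData
end Cfsg.Agent.Lib.Helper3
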