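import Mathlib
import Cfsg.Agent.Lib.Helper3.Wr1

set_option autoImplicit false

namespace Cfsg.Agent.Lib.Helper3
open Cfsg.Agent.Lib.Lead

theorem card_classes_eq_three {G : Type*} [Group G] (k : ℕ) (u v w : G) (hu : orderOf u = k)
    (hv : orderOf v = k) (hw : orderOf w = k)
    (huv : ¬ IsConj u v) (huw : ¬ IsConj u w) (hvw : ¬ IsConj v w)
    (hall : ∀ t : G, orderOf t = k → IsConj t u ∨ IsConj t v ∨ IsConj t w) :
    Nat.card {C : ConjClasses G // ∃ t : G, orderOf t = k ∧ ConjClasses.mk t = C} = 3 := by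
  let f : Fin 3 → {C : ConjClasses G // ∃ t : G, orderOf t = k ∧ ConjClasses.mk t = C} :=
    ![⟨ConjClasses.mk u, u, hu, rfl⟩, ⟨ConjClasses.mk v, v, hv, rfl⟩, ⟨ConjClasses.mk w, w, hw, rfl⟩]
  have hne : ∀ a b : G, ¬ IsConj a b → ConjClasses.mk a ≠ ConjClasses.mk b :=
    fun a b h h' => h (ConjClasses.mk_eq_mk_iff_isConj.mp h')
  have hf : Function.Bijective f := by
    constructor
    · intro a b hab
      have hab' := congrArg Subtype.val hab
      fin_cases a <;> fin_cases b <;> simp [f] at hab' ⊢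
      · exact hne _ _ huv hab'
      · exact hne _ _ huw hab'
      · exact hne _ _ huv hab'.symm
      · exact hne _ _ hvw hab'
      · exact hne _ _ huw hab'.symm
      · exact hne _ _ hvw hab'.symm
    · rintro ⟨C, t, ht, rfl⟩
      rcases hall t ht with h | h | h
      · exact ⟨0, Subtype.ext (ConjClasses.mk_eq_mk_iff_isConj.mpr h.symm)⟩
      · exact ⟨1, Subtype.ext (ConjClasses.mk_eq_mk_iff_isConj.mpr h.symm)⟩
      · exact ⟨2, Subtype.ext (ConjClasses.mk_eq_mk_iff_isConj.mpr h.symm)⟩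
  rw [← Nat.card_congr (Equiv.ofBijective f hf), Nat.card_fin]

namespace WrData
variable {S : Type*} [Group S] (d : WrData S)

theorem mem_center_iff (g : S) : g ∈ Subgroup.center S ↔ ∃ i, g = d.c i i := by
  rw [Subgroup.mem_center_iff]
  constructor
  · intro h
    rcases d.cases g with ⟨i, j, rfl⟩ | ⟨i, j, rfl⟩
    · have h1 := h (d.e 0 0)
      rw [eq_comm, c_comm_e_iff] at h1
      exact ⟨i, by rw [h1]⟩
    · exfalso
      have h1 := h (d.c 1 0)
      rw [c_comm_e_iff] at h1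
      have h2 : (1 : ZMod (2 ^ d.n)) ≠ 0 := by
        haveI : Fact (1 < 2 ^ d.n) := ⟨Nat.one_lt_two_pow (by have := d.n_pos; omega)⟩
        exact one_ne_zero
      exact h2 h1
  · rintro ⟨i, rfl⟩ g
    rcases d.cases g with ⟨k, l, rfl⟩ | ⟨k, l, rfl⟩
    · exact d.c_comm_c _ _ _ _
    · exact ((d.c_comm_e_iff i i k l).mpr rfl).symm

theorem c_sq (i j : ZMod (2 ^ d.n)) : d.c i j * d.c i j = d.c (2 * i) (2 * j) := by
  rw [c_mul_c, two_mul, two_mul]

theorem e_sq (i j : ZMod (2 ^ d.n)) : d.e i j * d.e i j = d.c (i + j) (i + j) := by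
  rw [e_mul_e, add_comm j i]

theorem half_ne_zero : z2half d.n ≠ 0 := z2_half_ne_zero d.n d.n_pos

theorem orderOf_eq_two_iff (g : S) : orderOf g = 2 ↔
    g = d.c (z2half d.n) 0 ∨ g = d.c 0 (z2half d.n) ∨ g = d.c (z2half d.n) (z2half d.n) ∨
      ∃ i, g = d.e i (-i) := by
  haveI : Fact (Nat.Prime 2) := ⟨Nat.prime_two⟩
  rw [orderOf_eq_prime_iff, pow_two]
  rcases d.cases g with ⟨i, j, rfl⟩ | ⟨i, j, rfl⟩
  · rw [c_sq, c_eq_one_iff, Ne, c_eq_one_iff, z2_two_mul_eq_zero d.n d.n_pos,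
      z2_two_mul_eq_zero d.n d.n_pos]
    constructor
    · rintro ⟨⟨hi | hi, hj | hj⟩, hne⟩
      · exact absurd ⟨hi, hj⟩ hne
      · right; left; rw [hi, hj]
      · left; rw [hi, hj]
      · right; right; left; rw [hi, hj]
    · rintro (h | h | h | ⟨k, h⟩)
      · rw [c_inj] at h
        refine ⟨⟨Or.inr h.1, Or.inl h.2⟩, fun h' => d.half_ne_zero (h.1 ▸ h'.1)⟩
      · rw [c_inj] at h
        refine ⟨⟨Or.inl h.1, Or.inr h.2⟩, fun h' => d.half_ne_zero (h.2 ▸ h'.2)⟩
      · rw [c_inj] at h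
        refine ⟨⟨Or.inr h.1, Or.inr h.2⟩, fun h' => d.half_ne_zero (h.1 ▸ h'.1)⟩
      · exact absurd h (d.c_ne_e _ _ _ _)
  · rw [e_sq, c_eq_one_iff]
    constructor
    · rintro ⟨⟨h, -⟩, -⟩
      right; right; right
      exact ⟨i, by rw [e_inj]; exact ⟨rfl, by linear_combination h⟩⟩
    · rintro (h | h | h | ⟨k, h⟩)
      · exact absurd h.symm (d.c_ne_e _ _ _ _)
      · exact absurd h.symm (d.c_ne_e _ _ _ _)
      · exact absurd h.symm (d.c_ne_e _ _ _ _)
      · rw [e_inj] at h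
        obtain ⟨rfl, rfl⟩ := h
        refine ⟨⟨by ring, by ring⟩, ?_⟩
        intro h1
        have := d.c_ne_e 0 0 i (-i)
        rw [d.c_zero] at this
        exact this h1.symm

theorem U_normal : d.U.Normal := Subgroup.normal_of_index_eq_two d.index_U

theorem orderOf_chh : orderOf (d.c (z2half d.n) (z2half d.n)) = 2 :=
  (d.orderOf_eq_two_iff _).mpr (Or.inr (Or.inr (Or.inl rfl)))

theorem orderOf_ch0 : orderOf (d.c (z2half d.n) 0) = 2 :=
  (d.orderOf_eq_two_iff _).mpr (Or.inl rfl)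

theorem involution_classes (t : S) (ht : orderOf t = 2) :
    IsConj t (d.c (z2half d.n) (z2half d.n)) ∨ IsConj t (d.c (z2half d.n) 0) ∨ IsConj t d.z := by
  rw [d.orderOf_eq_two_iff] at ht
  rcases ht with rfl | rfl | rfl | ⟨i, rfl⟩
  · right; left; exact IsConj.refl _
  · right; left
    rw [isConj_iff]
    exact ⟨d.e 0 0, d.e_conj_c 0 0 0 _⟩
  · left; exact IsConj.refl _
  · right; right
    rw [isConj_comm, isConj_iff]
    refine ⟨d.c i 0, ?_⟩
    rw [← d.e_zero, c_conj_e]; congr 1 <;> ring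

include d in
theorem card_involution_classes :
    Nat.card {C : ConjClasses S // ∃ t : S, orderOf t = 2 ∧ ConjClasses.mk t = C} = 3 := by
  have hcen : d.c (z2half d.n) (z2half d.n) ∈ Subgroup.center S :=
    (d.mem_center_iff _).mpr ⟨_, rfl⟩
  have hcenconj : ∀ g : S, IsConj (d.c (z2half d.n) (z2half d.n)) g →
      g = d.c (z2half d.n) (z2half d.n) := by
    intro g hg
    obtain ⟨s, hs⟩ := isConj_iff.mp hg
    rw [← hs, Subgroup.mem_center_iff.mp hcen s, mul_assoc, mul_inv_cancel, mul_one]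
  apply card_classes_eq_three 2 _ _ _ d.orderOf_chh d.orderOf_ch0 d.hz
  · intro h
    have := hcenconj _ h
    rw [c_inj] at this
    exact d.half_ne_zero this.2.symm
  · intro h
    have := hcenconj _ h
    rw [← d.e_zero] at this
    exact d.c_ne_e _ _ _ _ this.symm
  · intro h
    obtain ⟨s, hs⟩ := isConj_iff.mp h
    apply d.z_not_mem_U
    rw [← hs]
    exact d.U_normal.conj_mem _ (d.c_mem_U _ _) s
  · exact d.involution_classes

include d in
/-- the centre of a non-commutative subgroup lies in the centre of the whole group -/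
theorem center_le_of_not_comm (X : Subgroup S) (hX : ¬ IsMulCommutative X) :
    (Subgroup.center X).map X.subtype ≤ Subgroup.center S := by
  -- `X` contains some `e k l`
  have hex : ∃ k l, d.e k l ∈ X := by
    by_contra hcon
    push Not at hcon
    apply hX
    refine ⟨⟨?_⟩⟩
    rintro ⟨a, ha⟩ ⟨b, hb⟩
    apply Subtype.ext
    show a * b = b * a
    rcases d.cases a with ⟨i, j, rfl⟩ | ⟨i, j, rfl⟩
    · rcases d.cases b with ⟨i', j', rfl⟩ | ⟨i', j', rfl⟩
      · exact d.c_comm_c _ _ _ _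
      · exact absurd hb (hcon _ _)
    · exact absurd ha (hcon _ _)
  obtain ⟨k, l, hkl⟩ := hex
  rintro _ ⟨⟨g, hgX⟩, hg, rfl⟩
  rw [SetLike.mem_coe, Subgroup.mem_center_iff] at hg
  have hcomm : ∀ b ∈ X, b * g = g * b := by
    intro b hb
    have := hg ⟨b, hb⟩
    exact congrArg Subtype.val this
  show g ∈ Subgroup.center S
  rcases d.cases g with ⟨i, j, rfl⟩ | ⟨i, j, rfl⟩
  · have h1 := hcomm _ hkl
    rw [eq_comm, c_comm_e_iff] at h1
    exact (d.mem_center_iff _).mpr ⟨i, by rw [h1]⟩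
  · exfalso
    apply hX
    refine ⟨⟨?_⟩⟩
    rintro ⟨a, ha⟩ ⟨b, hb⟩
    apply Subtype.ext
    show a * b = b * a
    have h1 := hcomm a ha
    have h2 := hcomm b hb
    rcases d.cases a with ⟨i₁, j₁, rfl⟩ | ⟨i₁, j₁, rfl⟩ <;>
      rcases d.cases b with ⟨i₂, j₂, rfl⟩ | ⟨i₂, j₂, rfl⟩
    · exact d.c_comm_c _ _ _ _
    · rw [c_comm_e_iff] at h1
      rw [c_comm_e_iff]; exact h1
    · rw [c_comm_e_iff] at h2
      rw [eq_comm, c_comm_e_iff]; exact h2
    · rw [e_comm_e_iff] at h1 h2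
      rw [e_comm_e_iff, h1, h2]

end WrData
end Cfsg.Agent.Lib.Helper3
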