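import Mathlib
import Cfsg.Agent.Lib.Helper3.Wr2
import Cfsg.Agent.Lib.Lead.HallTools

set_option autoImplicit false

namespace Cfsg.Agent.Lib.Helper3
open Cfsg.Agent.Lib.Lead

namespace WrData
variable {S : Type*} [Group S] (d : WrData S)

theorem n_eq (n : ℕ) (hn : Nat.card S = 2 ^ (2 * n + 1)) : d.n = n := by
  have h := d.card
  rw [hn] at h
  have := Nat.pow_right_injective (le_refl 2) h
  omega

theorem U_comm : IsMulCommutative d.U := by
  refine ⟨⟨?_⟩⟩
  rintro ⟨a, i, j, rfl⟩ ⟨b, i', j', rfl⟩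
  exact Subtype.ext (d.c_comm_c _ _ _ _)

/-- the coordinate bijection on the centre -/
noncomputable def equivCenter : ZMod (2 ^ d.n) ≃ Subgroup.center S :=
  Equiv.ofBijective (fun i => ⟨d.c i i, (d.mem_center_iff _).mpr ⟨i, rfl⟩⟩) (by
    constructor
    · intro i i' h
      have h' : d.c i i = d.c i' i' := congrArg Subtype.val h
      rw [c_inj] at h'
      exact h'.1
    · rintro ⟨g, hg⟩
      obtain ⟨i, rfl⟩ := (d.mem_center_iff g).mp hg
      exact ⟨i, rfl⟩)

theorem card_center : Nat.card (Subgroup.center S) = 2 ^ d.n := by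
  rw [← Nat.card_congr d.equivCenter, Nat.card_zmod]

/-- a commutative subgroup not inside `U` has order at most `2^(n+1)` -/
theorem card_le_of_comm_of_not_le [Finite S] (A : Subgroup S) (hA : IsMulCommutative A) (hAU : ¬ A ≤ d.U) :
    Nat.card A ≤ 2 ^ (d.n + 1) := by
  have hex : ∃ k l, d.e k l ∈ A := by
    by_contra hcon
    push Not at hcon
    apply hAU
    intro a ha
    rcases d.cases a with ⟨i, j, rfl⟩ | ⟨i, j, rfl⟩
    · exact d.c_mem_U _ _
    · exact absurd ha (hcon _ _)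
  obtain ⟨k, l, hkl⟩ := hex
  have hle : A ⊓ d.U ≤ Subgroup.center S := by
    rintro g ⟨hgA, i, j, rfl⟩
    have h1 : (⟨_, hgA⟩ : A) * ⟨_, hkl⟩ = ⟨_, hkl⟩ * ⟨_, hgA⟩ := hA.is_comm.comm _ _
    have h2 : d.c i j * d.e k l = d.e k l * d.c i j := congrArg Subtype.val h1
    rw [c_comm_e_iff] at h2
    exact (d.mem_center_iff _).mpr ⟨i, by rw [h2]⟩
  have h1 : Nat.card ↥(A ⊓ d.U) ≤ 2 ^ d.n := by
    rw [← d.card_center]; exact Subgroup.card_le_of_le hle
  have h2 : d.U.relIndex A ∣ 2 := by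
    haveI := d.U_normal
    have := Subgroup.relIndex_dvd_index_of_normal d.U A
    rwa [d.index_U] at this
  have h3 : d.U.relIndex A ≤ 2 := Nat.le_of_dvd (by norm_num) h2
  have h4 : Nat.card ↥((A ⊓ d.U).subgroupOf A) * ((A ⊓ d.U).subgroupOf A).index = Nat.card A :=
    Subgroup.card_mul_index _
  rw [card_subgroupOf_of_le inf_le_left] at h4
  have h5 : ((A ⊓ d.U).subgroupOf A).index = d.U.relIndex A := Subgroup.inf_relIndex_left A d.U
  rw [h5] at h4
  calc Nat.card A = Nat.card ↥(A ⊓ d.U) * d.U.relIndex A := h4.symm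
    _ ≤ 2 ^ d.n * 2 := Nat.mul_le_mul h1 h3
    _ = 2 ^ (d.n + 1) := by rw [pow_succ]

theorem eq_U_of_comm [Finite S] (A : Subgroup S) (hA : IsMulCommutative A)
    (hc : Nat.card A = 2 ^ (2 * d.n)) : A = d.U := by
  have hAU : A ≤ d.U := by
    by_contra h
    have h1 := d.card_le_of_comm_of_not_le A hA h
    rw [hc] at h1
    have h2 : 2 * d.n ≤ d.n + 1 := (Nat.pow_le_pow_iff_right (by norm_num)).mp h1
    have := d.hn
    omega
  apply Subgroup.eq_of_le_of_card_ge hAU
  rw [hc, d.card_U]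

/-- `U` is the direct product of two cyclic groups -/
noncomputable def mulEquivU : d.U ≃* Multiplicative (ZMod (2 ^ d.n) × ZMod (2 ^ d.n)) :=
  MulEquiv.symm
  { toEquiv := Multiplicative.toAdd.trans d.equivU
    map_mul' := by
      intro a b
      apply Subtype.ext
      show d.c (Multiplicative.toAdd (a * b)).1 (Multiplicative.toAdd (a * b)).2 =
        d.c (Multiplicative.toAdd a).1 (Multiplicative.toAdd a).2 *
          d.c (Multiplicative.toAdd b).1 (Multiplicative.toAdd b).2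
      rw [c_mul_c]; rfl }

end WrData
end Cfsg.Agent.Lib.Helper3
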