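import Mathlib
import Cfsg.Agent.Lib.Helper3.Wr3
import Cfsg.Agent.Lib.Helper3.QD4

set_option autoImplicit false

namespace Cfsg.Agent.Lib.Helper3
open Cfsg.Agent.Lib.Lead


/-- the four-group generated by two commuting involutions -/
def kleinOf {G : Type*} [Group G] (a b : G) (ha : a * a = 1) (hb : b * b = 1) (hab : a * b = b * a) :
    Subgroup G where
  carrier := {g | g = 1 ∨ g = a ∨ g = b ∨ g = a * b}
  one_mem' := Or.inl rfl
  mul_mem' := by
    have e1 : a * (a * b) = b := by rw [← mul_assoc, ha, one_mul]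
    have e2 : b * (a * b) = a := by rw [← mul_assoc, ← hab, mul_assoc, hb, mul_one]
    have e3 : a * b * a = b := by rw [mul_assoc, ← hab, e1]
    have e4 : a * b * b = a := by rw [mul_assoc, hb, mul_one]
    have e5 : a * b * (a * b) = 1 := by rw [mul_assoc, e2, ha]
    rintro x y (rfl | rfl | rfl | rfl) (rfl | rfl | rfl | rfl)
    · left; rw [one_mul]
    · right; left; rw [one_mul]
    · right; right; left; rw [one_mul]
    · right; right; right; rw [one_mul]
    · right; left; rw [mul_one]
    · left; exact ha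
    · right; right; right; rfl
    · right; right; left; exact e1
    · right; right; left; rw [mul_one]
    · right; right; right; exact hab.symm
    · left; exact hb
    · right; left; exact e2
    · right; right; right; rw [mul_one]
    · right; right; left; exact e3
    · right; left; exact e4
    · left; exact e5
  inv_mem' := by
    have i1 : a⁻¹ = a := inv_eq_of_mul_eq_one_left ha
    have i2 : b⁻¹ = b := inv_eq_of_mul_eq_one_left hb
    rintro x (rfl | rfl | rfl | rfl)
    · left; exact inv_one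
    · right; left; exact i1
    · right; right; left; exact i2
    · right; right; right; rw [mul_inv_rev, i1, i2, hab]

theorem mem_kleinOf {G : Type*} [Group G] (a b : G) (ha : a * a = 1) (hb : b * b = 1)
    (hab : a * b = b * a) (g : G) :
    g ∈ kleinOf a b ha hb hab ↔ g = 1 ∨ g = a ∨ g = b ∨ g = a * b := Iff.rfl

theorem isKleinFour_kleinOf {G : Type*} [Group G] (a b : G) (ha : a * a = 1) (hb : b * b = 1)
    (hab : a * b = b * a) (ha1 : a ≠ 1) (hb1 : b ≠ 1) (hne : a ≠ b) :
    IsKleinFour ↥(kleinOf a b ha hb hab) := by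
  have hab1 : a * b ≠ 1 := by
    intro h
    apply hne
    have : a = b⁻¹ := eq_inv_of_mul_eq_one_left h
    rw [this]; exact inv_eq_of_mul_eq_one_left hb
  have haab : a ≠ a * b := by
    intro h; apply hb1
    have := mul_left_cancel (a := a) (b := 1) (c := b) (by rw [mul_one]; exact h)
    exact this.symm
  have hbab : b ≠ a * b := by
    intro h; apply ha1
    have := mul_right_cancel (a := 1) (b := b) (c := a) (by rw [one_mul]; exact h)
    exact this.symm
  let f : Fin 4 → ↥(kleinOf a b ha hb hab) :=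
    ![⟨1, Or.inl rfl⟩, ⟨a, Or.inr (Or.inl rfl)⟩, ⟨b, Or.inr (Or.inr (Or.inl rfl))⟩,
      ⟨a * b, Or.inr (Or.inr (Or.inr rfl))⟩]
  have hf : Function.Bijective f := by
    constructor
    · intro i j hij
      have hij' := congrArg Subtype.val hij
      fin_cases i <;> fin_cases j <;> simp [f] at hij' ⊢ <;>
        first
          | exact ha1 hij' | exact ha1 hij'.symm | exact hb1 hij' | exact hb1 hij'.symm
          | exact hab1 hij' | exact hab1 hij'.symm | exact hne hij' | exact hne hij'.symm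
    · rintro ⟨g, hg | hg | hg | hg⟩
      · exact ⟨0, Subtype.ext hg.symm⟩
      · exact ⟨1, Subtype.ext hg.symm⟩
      · exact ⟨2, Subtype.ext hg.symm⟩
      · exact ⟨3, Subtype.ext hg.symm⟩
  have hcard : Nat.card ↥(kleinOf a b ha hb hab) = 4 := by
    rw [← Nat.card_congr (Equiv.ofBijective f hf), Nat.card_fin]
  refine ⟨hcard, ?_⟩
  have hdvd : Monoid.exponent ↥(kleinOf a b ha hb hab) ∣ 2 := by
    apply Monoid.exponent_dvd_of_forall_pow_eq_one
    rintro ⟨g, hg⟩
    apply Subtype.ext
    show g ^ 2 = 1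
    rw [pow_two]
    rcases hg with rfl | rfl | rfl | rfl
    · rw [one_mul]
    · exact ha
    · exact hb
    · rw [mul_assoc, ← mul_assoc b, ← hab, mul_assoc, hb, mul_one, ha]
  rcases (Nat.dvd_prime Nat.prime_two).mp hdvd with h | h
  · exfalso
    rw [Monoid.exp_eq_one_iff] at h
    have := Nat.card_eq_one_iff_unique.mpr ⟨h, ⟨1⟩⟩
    omega
  · exact h

namespace WrData
variable {S : Type*} [Group S] (d : WrData S)

theorem two_half : 2 * z2half d.n = 0 := z2_two_mul_half d.n d.n_pos

theorem neg_half : - z2half d.n = z2half d.n := z2_neg_half d.n d.n_pos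

theorem ch0_sq : d.c (z2half d.n) 0 * d.c (z2half d.n) 0 = 1 := by
  rw [c_sq, d.two_half, mul_zero, c_zero]

theorem c0h_sq : d.c 0 (z2half d.n) * d.c 0 (z2half d.n) = 1 := by
  rw [c_sq, d.two_half, mul_zero, c_zero]

theorem chh_sq : d.c (z2half d.n) (z2half d.n) * d.c (z2half d.n) (z2half d.n) = 1 := by
  rw [c_sq, d.two_half, c_zero]

theorem e_neg_sq (i : ZMod (2 ^ d.n)) : d.e i (-i) * d.e i (-i) = 1 := by
  rw [e_sq, add_neg_cancel, c_zero]

theorem chh_comm_e (i j : ZMod (2 ^ d.n)) :
    d.c (z2half d.n) (z2half d.n) * d.e i j = d.e i j * d.c (z2half d.n) (z2half d.n) :=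
  (d.c_comm_e_iff _ _ _ _).mpr rfl

/-- the normal four-group `Ω₁(U)` -/
noncomputable def omegaU : Subgroup S :=
  kleinOf (d.c (z2half d.n) 0) (d.c 0 (z2half d.n)) d.ch0_sq d.c0h_sq (d.c_comm_c _ _ _ _)

theorem mem_omegaU (g : S) : g ∈ d.omegaU ↔
    g = 1 ∨ g = d.c (z2half d.n) 0 ∨ g = d.c 0 (z2half d.n) ∨ g = d.c (z2half d.n) (z2half d.n) := by
  unfold omegaU
  rw [mem_kleinOf, c_mul_c, add_zero, zero_add]

theorem isKleinFour_omegaU : IsKleinFour d.omegaU := by
  unfold omegaU
  apply isKleinFour_kleinOf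
  · rw [Ne, ← d.c_zero, c_inj]; exact fun h => d.half_ne_zero h.1
  · rw [Ne, ← d.c_zero, c_inj]; exact fun h => d.half_ne_zero h.2
  · rw [Ne, c_inj]; exact fun h => d.half_ne_zero h.1

theorem omegaU_normal : d.omegaU.Normal := by
  constructor
  intro t ht g
  rw [mem_omegaU] at ht ⊢
  rcases d.cases g with ⟨k, l, rfl⟩ | ⟨k, l, rfl⟩
  · rcases ht with rfl | rfl | rfl | rfl
    · left; group
    · right; left; exact d.c_conj_c _ _ _ _
    · right; right; left; exact d.c_conj_c _ _ _ _
    · right; right; right; exact d.c_conj_c _ _ _ _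
  · rcases ht with rfl | rfl | rfl | rfl
    · left; group
    · right; right; left; exact d.e_conj_c _ _ _ _
    · right; left; exact d.e_conj_c _ _ _ _
    · right; right; right; exact d.e_conj_c _ _ _ _

/-- the non-normal four-groups -/
noncomputable def kl (i : ZMod (2 ^ d.n)) : Subgroup S :=
  kleinOf (d.c (z2half d.n) (z2half d.n)) (d.e i (-i)) d.chh_sq (d.e_neg_sq i) (d.chh_comm_e _ _)

theorem mem_kl (i : ZMod (2 ^ d.n)) (g : S) : g ∈ d.kl i ↔
    g = 1 ∨ g = d.c (z2half d.n) (z2half d.n) ∨ g = d.e i (-i) ∨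
      g = d.c (z2half d.n) (z2half d.n) * d.e i (-i) := by
  unfold kl
  rw [mem_kleinOf]

theorem isKleinFour_kl (i : ZMod (2 ^ d.n)) : IsKleinFour (d.kl i) := by
  unfold kl
  apply isKleinFour_kleinOf
  · rw [Ne, ← d.c_zero, c_inj]; exact fun h => d.half_ne_zero h.1
  · rw [Ne, ← d.c_zero]; exact (d.c_ne_e _ _ _ _).symm
  · exact d.c_ne_e _ _ _ _

theorem kl_ne_omegaU (i : ZMod (2 ^ d.n)) : d.kl i ≠ d.omegaU := by
  intro h
  have h1 : d.e i (-i) ∈ d.kl i := (d.mem_kl i _).mpr (Or.inr (Or.inr (Or.inl rfl)))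
  rw [h, mem_omegaU] at h1
  rcases h1 with h1 | h1 | h1 | h1
  · rw [← d.c_zero] at h1; exact d.c_ne_e _ _ _ _ h1.symm
  · exact d.c_ne_e _ _ _ _ h1.symm
  · exact d.c_ne_e _ _ _ _ h1.symm
  · exact d.c_ne_e _ _ _ _ h1.symm

theorem klein_eq_kl [Finite S] (T : Subgroup S) (hT : IsKleinFour T) (hne : T ≠ d.omegaU) :
    ∃ i, T = d.kl i := by
  have hnle : ¬ T ≤ d.omegaU := by
    intro hle
    apply hne
    apply Subgroup.eq_of_le_of_card_ge hle
    rw [hT.card_four, d.isKleinFour_omegaU.card_four]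
  obtain ⟨t, htT, htO⟩ := SetLike.not_le_iff_exists.mp hnle
  have ht1 : t ≠ 1 := by
    rintro rfl; exact htO (Subgroup.one_mem _)
  have hto := klein_orderOf T hT htT ht1
  rw [d.orderOf_eq_two_iff] at hto
  rcases hto with rfl | rfl | rfl | ⟨i, rfl⟩
  · exact absurd ((d.mem_omegaU _).mpr (Or.inr (Or.inl rfl))) htO
  · exact absurd ((d.mem_omegaU _).mpr (Or.inr (Or.inr (Or.inl rfl)))) htO
  · exact absurd ((d.mem_omegaU _).mpr (Or.inr (Or.inr (Or.inr rfl)))) htO
  refine ⟨i, ?_⟩
  -- a second involution of `T`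
  obtain ⟨u, huT, hu1, hut⟩ := klein_exists_not_mem_zpowers T hT (d.e i (-i)) (d.e_neg_sq i)
  have huo := klein_orderOf T hT huT hu1
  have hcomm := klein_comm T hT u (d.e i (-i)) huT htT
  have hchh : d.c (z2half d.n) (z2half d.n) ∈ T := by
    rw [d.orderOf_eq_two_iff] at huo
    rcases huo with rfl | rfl | rfl | ⟨k, rfl⟩
    · rw [c_comm_e_iff] at hcomm
      exact absurd hcomm d.half_ne_zero
    · rw [c_comm_e_iff] at hcomm
      exact absurd hcomm.symm d.half_ne_zero
    · exact huT
    · rw [e_comm_e_iff] at hcomm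
      have h2 : 2 * (k - i) = 0 := by linear_combination hcomm
      rw [z2_two_mul_eq_zero d.n d.n_pos] at h2
      rcases h2 with h2 | h2
      · exfalso; apply hut
        have : k = i := by linear_combination h2
        rw [this]
      · have hprod : d.e i (-i) * d.e k (-k) ∈ T := T.mul_mem htT huT
        rw [e_mul_e] at hprod
        have e1 : i + -k = z2half d.n := by
          have := d.neg_half
          linear_combination (-1 : ZMod (2 ^ d.n)) * h2 + this
        have e2 : -i + k = z2half d.n := by linear_combination h2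
        rw [e1, e2] at hprod
        exact hprod
  symm
  apply Subgroup.eq_of_le_of_card_ge
  · intro g hg
    rw [mem_kl] at hg
    rcases hg with rfl | rfl | rfl | rfl
    · exact T.one_mem
    · exact hchh
    · exact htT
    · exact T.mul_mem hchh htT
  · rw [hT.card_four, (d.isKleinFour_kl i).card_four]

theorem kl_conj [Finite S] (i j : ZMod (2 ^ d.n)) :
    (d.kl i).map (MulAut.conj (d.c (j - i) 0)).toMonoidHom = d.kl j := by
  have h1 : d.c (j - i) 0 * d.e i (-i) * (d.c (j - i) 0)⁻¹ = d.e j (-j) := by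
    rw [c_conj_e]; congr 1 <;> ring
  have h2 : d.c (j - i) 0 * d.c (z2half d.n) (z2half d.n) * (d.c (j - i) 0)⁻¹ =
      d.c (z2half d.n) (z2half d.n) := d.c_conj_c _ _ _ _
  apply Subgroup.eq_of_le_of_card_ge
  · rintro _ ⟨t, ht, rfl⟩
    show d.c (j - i) 0 * t * (d.c (j - i) 0)⁻¹ ∈ d.kl j
    rw [SetLike.mem_coe, mem_kl] at ht
    rw [mem_kl]
    rcases ht with rfl | rfl | rfl | rfl
    · left; group
    · right; left; exact h2
    · right; right; left; exact h1
    · right; right; right
      calc d.c (j - i) 0 * (d.c (z2half d.n) (z2half d.n) * d.e i (-i)) * (d.c (j - i) 0)⁻¹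
          = (d.c (j - i) 0 * d.c (z2half d.n) (z2half d.n) * (d.c (j - i) 0)⁻¹) *
            (d.c (j - i) 0 * d.e i (-i) * (d.c (j - i) 0)⁻¹) := by group
        _ = d.c (z2half d.n) (z2half d.n) * d.e j (-j) := by rw [h1, h2]
  · rw [Subgroup.card_map_of_injective (MulAut.conj _).injective, (d.isKleinFour_kl i).card_four,
      (d.isKleinFour_kl j).card_four]

end WrData

end Cfsg.Agent.Lib.Helper3
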