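import Mathlib
import Cfsg.Agent.Lib.Helper3.Di4
import Cfsg.Agent.Lib.Helper3.Wr4
import Cfsg.Agent.Lib.Helper1.KleinClasses

set_option autoImplicit false

namespace Cfsg.Agent.Lib.Helper3

open Cfsg.Agent.Lib.Lead

section
variable {X : Type*} [Group X] {S : Subgroup X} {m : ℕ} (e : ↥S ≃* DihedralGroup m)

/-- the four-group generated by the central involution and a reflection -/
noncomputable def diKlein (h : ZMod m) (hh2 : 2 * h = 0) (i : ZMod m) : Subgroup X :=
  kleinOf (diR e h) (diS e i) ((diR_sq_eq_one_iff e).mpr hh2) (diS_mul_self e i)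
    (diR_half_comm e h hh2 _ (diS_mem e i)).symm

theorem diKlein_le (h : ZMod m) (hh2 : 2 * h = 0) (i : ZMod m) : diKlein e h hh2 i ≤ S := by
  intro g hg
  rcases hg with rfl | rfl | rfl | rfl
  · exact S.one_mem
  · exact diR_mem e h
  · exact diS_mem e i
  · exact S.mul_mem (diR_mem e h) (diS_mem e i)

theorem isKleinFour_diKlein (h : ZMod m) (hh0 : h ≠ 0) (hh2 : 2 * h = 0) (i : ZMod m) :
    IsKleinFour ↥(diKlein e h hh2 i) :=
  isKleinFour_kleinOf _ _ _ _ _ (by rw [Ne, diR_eq_one_iff]; exact hh0) (diS_ne_one e i)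
    (diR_ne_diS e h i)

theorem diR_mem_diKlein (h : ZMod m) (hh2 : 2 * h = 0) (i : ZMod m) :
    diR e h ∈ diKlein e h hh2 i := Or.inr (Or.inl rfl)

theorem diS_mem_diKlein (h : ZMod m) (hh2 : 2 * h = 0) (i : ZMod m) :
    diS e i ∈ diKlein e h hh2 i := Or.inr (Or.inr (Or.inl rfl))

/-- index six for all four-groups forces every reflection to be conjugate to the central involution -/
theorem di_conj_of_index_six (h : ZMod m) (hh0 : h ≠ 0) (hh2 : 2 * h = 0)
    (h6 : ∀ U : Subgroup X, U ≤ S → IsKleinFour U →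
      (Subgroup.centralizer (U : Set X)).relIndex (Subgroup.normalizer (U : Set X)) = 6)
    (i : ZMod m) : IsConj (diS e i) (diR e h) := by
  have h1 := h6 _ (diKlein_le e h hh2 i) (isKleinFour_diKlein e h hh0 hh2 i)
  obtain ⟨n, hn⟩ := klein_conj_of_index_six _ (isKleinFour_diKlein e h hh0 hh2 i) h1 (diS e i)
    (diR e h) (diS_mem_diKlein e h hh2 i) (diR_mem_diKlein e h hh2 i) (diS_ne_one e i)
    (by rw [Ne, diR_eq_one_iff]; exact hh0)
  exact isConj_iff.mpr ⟨n, hn⟩

end

section
variable {X : Type*} [Group X] [Finite X] (S : Sylow 2 X)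

/-- a Klein four Sylow subgroup with `|N : C| = 3` has all involutions conjugate -/
theorem klein_sylow_all_conj_of_index_three (hS : IsKleinFour (S : Subgroup X))
    (h3 : (Subgroup.centralizer ((S : Subgroup X) : Set X)).relIndex
      (Subgroup.normalizer ((S : Subgroup X) : Set X)) = 3)
    (a b : X) (ha : orderOf a = 2) (hb : orderOf b = 2) : IsConj a b := by
  rcases Cfsg.Agent.Lib.Helper1.klein_dichotomy S hS with ⟨h1, -⟩ | ⟨-, hnf⟩
  · obtain ⟨c, hc⟩ := Set.ncard_eq_one.mp h1
    have hac : ConjClasses.mk a ∈ Cfsg.Agent.Lib.Helper1.involClasses X := ⟨a, ha, rfl⟩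
    have hbc : ConjClasses.mk b ∈ Cfsg.Agent.Lib.Helper1.involClasses X := ⟨b, hb, rfl⟩
    rw [hc, Set.mem_singleton_iff] at hac hbc
    rw [← ConjClasses.mk_eq_mk_iff_isConj, hac, hbc]
  · exfalso
    have hle : Subgroup.normalizer ((S : Subgroup X) : Set X) ≤
        Subgroup.centralizer ((S : Subgroup X) : Set X) := by
      intro n hn
      rw [Subgroup.mem_centralizer_iff]
      intro u hu
      have hu' : u ∈ (S : Subgroup X) := hu
      have h1 : n * u * n⁻¹ ∈ (S : Subgroup X) := by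
        rw [Subgroup.mem_normalizer_iff] at hn
        exact (hn u).mp hu'
      have h2 := hnf u hu' _ h1 (isConj_iff.mpr ⟨n, rfl⟩)
      calc u * n = n * u * n⁻¹ * n := by rw [← h2]
        _ = n * u := by group
    have := Subgroup.relIndex_eq_one.mpr hle
    omega

end

end Cfsg.Agent.Lib.Helper3
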