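import Mathlib
import Cfsg.Agent.Lib.Helper3.Di5

set_option autoImplicit false

namespace Cfsg.Agent.Lib.Helper3

theorem di_isKleinFour_of_two {X : Type*} [Group X] {S : Subgroup X}
    (e : ↥S ≃* DihedralGroup 2) : IsKleinFour ↥S := by
  apply isKleinFour_of_card_of_sq
  · rw [Nat.card_congr e.toEquiv, DihedralGroup.nat_card]
  · intro t
    apply e.injective
    rw [map_mul, map_one]
    have : ∀ i : ZMod 2, i + i = 0 := by decide
    rcases e t with i | i
    · rw [DihedralGroup.r_mul_r, this, DihedralGroup.r_zero]
    · exact DihedralGroup.sr_mul_self i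

end Cfsg.Agent.Lib.Helper3
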