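import Mathlib
import Mathlib
import Cfsg.Agent.Lib.Helper3.QDFusion1
import Cfsg.Agent.Lib.Lead.Brodkey

set_option autoImplicit false

namespace Cfsg.Agent.Lib.Helper3
open Cfsg.Agent.Lib.Lead

theorem mem_normalizer_of_conj_mem {G : Type*} [Group G] (T : Subgroup G) [Finite T] (g : G)
    (h : ∀ t ∈ T, g * t * g⁻¹ ∈ T) : g ∈ Subgroup.normalizer (T : Set G) := by
  rw [Subgroup.mem_normalizer_iff_map_conj_eq]
  apply Subgroup.eq_of_le_of_card_ge
  · rintro _ ⟨t, ht, rfl⟩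
    exact h t ht
  · rw [Subgroup.card_map_of_injective (MulAut.conj g).injective]

theorem mem_normalizer_zpowers_of_conj_mem {G : Type*} [Group G] [Finite G] (v s : G)
    (h : s * v * s⁻¹ ∈ Subgroup.zpowers v) :
    s ∈ Subgroup.normalizer (Subgroup.zpowers v : Set G) := by
  apply mem_normalizer_of_conj_mem
  rintro _ ⟨k, rfl⟩
  have : s * v ^ k * s⁻¹ = (s * v * s⁻¹) ^ k := (conj_zpow (a := s) (b := v) (i := k)).symm
  show s * v ^ k * s⁻¹ ∈ Subgroup.zpowers v
  rw [this]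
  exact Subgroup.zpow_mem _ h k

namespace QDData
variable {S : Type*} [Group S] (d : QDData S)

theorem two_mul_delta : 2 * ((1 - d.kk) * z2eighth d.n) = z2half d.n := by
  rw [one_sub_kk, sub_mul, z2_two_mul_eighth d.n d.hn, mul_sub, z2_two_mul_quarter d.n d.n_two]
  have : 2 * (z2half d.n * z2eighth d.n) = 0 := by
    rw [← mul_assoc, mul_comm 2, mul_assoc, z2_half_mul_even d.n d.n_pos]
  rw [this, sub_zero]

theorem half_mul_delta : z2half d.n * ((1 - d.kk) * z2eighth d.n) = 0 := by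
  rw [one_sub_kk, ← mul_assoc, mul_sub, mul_comm _ 2, z2_two_mul_half d.n d.n_pos,
    z2_half_mul_half d.n d.n_two, sub_zero, zero_mul]

theorem eighth_conj_b_not_mem (m : ZMod (2 ^ d.n)) :
    d.a (z2eighth d.n) * d.b (2 * m + 1) * (d.a (z2eighth d.n))⁻¹ ∉
      Subgroup.zpowers (d.b (2 * m + 1)) := by
  intro hmem
  rw [a_conj_b] at hmem
  have h2δ := d.two_mul_delta
  have hhδ := d.half_mul_delta
  set δ := (1 - d.kk) * z2eighth d.n with hδ
  have h4 : d.b (2 * m + 1) ^ 4 = 1 := by rw [← d.orderOf_b_odd m]; exact pow_orderOf_eq_one _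
  have hw2 : d.b (2 * m + 1 + δ) * d.b (2 * m + 1 + δ) ≠ 1 := by
    rw [b_sq, Ne, a_eq_one_iff, mul_add, hhδ, add_zero, z2_half_mul_odd d.n d.n_pos]
    exact z2_half_ne_zero d.n d.n_pos
  have hne : z2half d.n ≠ 0 := z2_half_ne_zero d.n d.n_pos
  rcases eq_or_eq_inv_of_mem_zpowers_order_four _ _ h4 hmem hw2 with h | h
  · rw [b_inj] at h
    have : δ = 0 := by
      have := h
      linear_combination this
    rw [this, mul_zero] at h2δ
    exact hne h2δ.symm
  · rw [b_inv, b_inj, kk_mul_odd] at h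
    have : δ = - z2half d.n := by linear_combination h
    rw [this, mul_neg, z2_two_mul_half d.n d.n_pos, neg_zero] at h2δ
    exact hne h2δ.symm

theorem kk_mul_quarter : d.kk * z2quarter d.n = - z2quarter d.n := by
  rw [kk_mul, ← z2_two_mul_eighth d.n d.hn, z2_half_mul_even d.n d.n_pos, zero_sub]

theorem conj_qq (c : S) : c * d.qq * c⁻¹ = d.qq ∨ c * d.qq * c⁻¹ = d.qq⁻¹ := by
  obtain ⟨i', h1, h2⟩ := d.conj_a' c (z2quarter d.n)
  unfold qq
  rcases h2 with rfl | rfl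
  · left; exact h1
  · right; rw [h1, kk_mul_quarter, a_neg]

theorem eighth_comm_qq : d.a (z2eighth d.n) * d.qq = d.qq * d.a (z2eighth d.n) := d.a_comm _ _

end QDData

/-- elements of `Q C_G(Q)` normalize each subgroup of order four of `Q` -/
theorem q8_sup_centralizer_fix {G : Type*} [Group G] (Q : Subgroup G) (e : ↥Q ≃* QuaternionGroup 2)
    (k : G) (hk : k ∈ Q ⊔ Subgroup.centralizer (Q : Set G)) (A : Subgroup G) (hA : A ≤ Q)
    (h4 : Nat.card A = 4) : k ∈ Subgroup.normalizer (A : Set G) := by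
  have hle : Q ⊔ Subgroup.centralizer (Q : Set G) ≤ Subgroup.normalizer (A : Set G) := by
    apply sup_le
    · intro q hq
      rw [Subgroup.mem_normalizer_iff_map_conj_eq]
      exact q8_mem_fix Q e q hq A hA h4
    · intro c hc
      rw [Subgroup.mem_normalizer_iff_map_conj_eq]
      exact centralizer_mem_fix Q c hc A hA
  exact hle hk

theorem q8_sup_centralizer_conj_mem {G : Type*} [Group G] (Q : Subgroup G) (e : ↥Q ≃* QuaternionGroup 2)
    (k : G) (hk : k ∈ Q ⊔ Subgroup.centralizer (Q : Set G)) (u : G) (hu : u ∈ Q)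
    (h4 : orderOf u = 4) : k * u * k⁻¹ ∈ Subgroup.zpowers u := by
  have := q8_sup_centralizer_fix Q e k hk (Subgroup.zpowers u) (by rw [Subgroup.zpowers_le]; exact hu)
    (by rw [Nat.card_zpowers, h4])
  exact (Subgroup.mem_normalizer_iff.mp this u).mp (Subgroup.mem_zpowers u)

section
variable {G : Type*} [Group G] [Finite G] (S : Sylow 2 G) (d : QDData ↥(S : Subgroup G))

theorem qd_exists_conj_sylow_four (Q : Subgroup G) (eQ : ↥Q ≃* QuaternionGroup 2) (v : G)
    (hvQ : v ∈ Q) (hv4 : orderOf v = 4)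
    (hconj : IsConj ((d.qq : ↥(S : Subgroup G)) : G) v) :
    ∃ h : G, (h * ((d.qq : ↥(S : Subgroup G)) : G) * h⁻¹ = v ∨
        h * ((d.qq : ↥(S : Subgroup G)) : G) * h⁻¹ = v⁻¹) ∧
      ∀ t ∈ Q, h⁻¹ * t * h ∈ (S : Subgroup G) := by
  obtain ⟨g, hg⟩ := isConj_iff.mp hconj
  set q : G := ((d.qq : ↥(S : Subgroup G)) : G) with hq
  have hS1 : ((g • S : Sylow 2 G) : Subgroup G) ≤
      Subgroup.normalizer (Subgroup.zpowers v : Set G) := by
    intro s hs
    rw [Sylow.coe_subgroup_smul, mem_conj_smul_iff'] at hs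
    apply mem_normalizer_zpowers_of_conj_mem
    have e1 : s * v * s⁻¹ = g * ((g⁻¹ * s * g) * q * (g⁻¹ * s * g)⁻¹) * g⁻¹ := by
      rw [← hg]; group
    rcases d.conj_qq ⟨g⁻¹ * s * g, hs⟩ with h | h
    · have h' : (g⁻¹ * s * g) * q * (g⁻¹ * s * g)⁻¹ = q := congrArg Subtype.val h
      rw [e1, h', hg]; exact Subgroup.mem_zpowers v
    · have h' : (g⁻¹ * s * g) * q * (g⁻¹ * s * g)⁻¹ = q⁻¹ := congrArg Subtype.val h
      rw [e1, h']
      have : g * q⁻¹ * g⁻¹ = v⁻¹ := by rw [← hg]; group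
      rw [this]; exact Subgroup.inv_mem _ (Subgroup.mem_zpowers v)
  have hcard4 : Nat.card (Subgroup.zpowers v) = 4 := by rw [Nat.card_zpowers, hv4]
  have hQM : Q ≤ Subgroup.normalizer (Subgroup.zpowers v : Set G) := by
    intro t ht
    rw [Subgroup.mem_normalizer_iff_map_conj_eq]
    exact q8_mem_fix Q eQ t ht _ (by rw [Subgroup.zpowers_le]; exact hvQ) hcard4
  have hQp : IsPGroup 2 ↥Q := IsPGroup.of_card (n := 3) (by rw [q8_sub_card Q eQ]; norm_num)
  obtain ⟨n, hnM, hn⟩ := pgroup_le_conj_sylow_in_subgroup (g • S : Sylow 2 G)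
    (Subgroup.normalizer (Subgroup.zpowers v : Set G)) Q hS1 hQM hQp
  refine ⟨n * g, ?_, ?_⟩
  · have e1 : n * g * q * (n * g)⁻¹ = n * v * n⁻¹ := by rw [← hg]; group
    rw [e1]
    have hmem : n * v * n⁻¹ ∈ Subgroup.zpowers v :=
      (Subgroup.mem_normalizer_iff.mp hnM v).mp (Subgroup.mem_zpowers v)
    have hv4' : v ^ 4 = 1 := by rw [← hv4]; exact pow_orderOf_eq_one _
    apply eq_or_eq_inv_of_mem_zpowers_order_four _ _ hv4' hmem
    intro h1
    have h2 : v * v = 1 := by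
      have : v * v = n⁻¹ * ((n * v * n⁻¹) * (n * v * n⁻¹)) * n := by group
      rw [this, h1]; group
    have h3 : orderOf v ∣ 2 := orderOf_dvd_of_pow_eq_one (by rw [pow_two]; exact h2)
    rw [hv4] at h3
    norm_num at h3
  · intro t ht
    have h1 := hn ht
    rw [mem_conj_smul_iff', Sylow.coe_subgroup_smul, mem_conj_smul_iff'] at h1
    have : (n * g)⁻¹ * t * (n * g) = g⁻¹ * (n⁻¹ * t * n) * g := by group
    rw [this]; exact h1

end


/-- if `C` has relative index two in `N` and `r, s ∈ N \ C` then `r * s ∈ C` -/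
theorem mul_mem_of_relIndex_two {G : Type*} [Group G] (C N : Subgroup G) (h2 : C.relIndex N = 2)
    (r s : G) (hr : r ∈ N) (hs : s ∈ N) (hrC : r ∉ C) (hsC : s ∉ C) : r * s ∈ C := by
  have h := Subgroup.mul_mem_iff_of_index_two (H := C.subgroupOf N) h2 (a := ⟨r, hr⟩) (b := ⟨s, hs⟩)
  rw [Subgroup.mem_subgroupOf, Subgroup.mem_subgroupOf, Subgroup.mem_subgroupOf] at h
  exact h.mpr ⟨fun h' => absurd h' hrC, fun h' => absurd h' hsC⟩

theorem mem_zpowers_of_conj_mem_zpowers_conj {G : Type*} [Group G] (h u w : G)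
    (hm : h * w * h⁻¹ ∈ Subgroup.zpowers (h * u * h⁻¹)) : w ∈ Subgroup.zpowers u := by
  obtain ⟨k, hk⟩ := hm
  refine ⟨k, ?_⟩
  have hk' : (h * u * h⁻¹) ^ k = h * w * h⁻¹ := hk
  rw [conj_zpow] at hk'
  have : u ^ k = h⁻¹ * (h * u ^ k * h⁻¹) * h := by group
  show u ^ k = w
  rw [this, hk']; group

section
variable {G : Type*} [Group G] [Finite G] (S : Sylow 2 G) (d : QDData ↥(S : Subgroup G))

omit [Finite G] in
theorem qd_eighth_conj_b_not_mem (m : ZMod (2 ^ d.n)) :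
    ((d.a (z2eighth d.n) : ↥(S : Subgroup G)) : G) * ((d.b (2 * m + 1) : ↥(S : Subgroup G)) : G) *
      ((d.a (z2eighth d.n) : ↥(S : Subgroup G)) : G)⁻¹ ∉
      Subgroup.zpowers ((d.b (2 * m + 1) : ↥(S : Subgroup G)) : G) := by
  rintro ⟨k, hk⟩
  apply d.eighth_conj_b_not_mem m
  refine ⟨k, ?_⟩
  apply Subtype.ext
  simpa using hk

omit [Finite G] in
theorem qd_eighth_mem_normalizer (Q : Subgroup G) (hQS : Q ≤ S) (eQ : ↥Q ≃* QuaternionGroup 2) :
    ((d.a (z2eighth d.n) : ↥(S : Subgroup G)) : G) ∈ Subgroup.normalizer (Q : Set G) := by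
  let e' : ↥(Q.subgroupOf S) ≃* QuaternionGroup 2 := (Subgroup.subgroupOfEquivOfLe hQS).trans eQ
  have hwN' := d.q8_eighth_mem_normalizer _ e'
  rw [← Subgroup.subgroupOf_normalizer_eq hQS, Subgroup.mem_subgroupOf] at hwN'
  exact hwN'

/-- NF2: with `|N(Q) : Q C(Q)| = 2` the element `qq` is not conjugate to `b 1` -/
theorem qd_not_conj_qq_b_of_two (Q : Subgroup G) (hQS : Q ≤ S) (eQ : ↥Q ≃* QuaternionGroup 2)
    (h2 : (Q ⊔ Subgroup.centralizer (Q : Set G)).relIndex (Subgroup.normalizer (Q : Set G)) = 2) :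
    ¬ IsConj ((d.qq : ↥(S : Subgroup G)) : G) ((d.b 1 : ↥(S : Subgroup G)) : G) := by
  intro hconj
  let e' : ↥(Q.subgroupOf S) ≃* QuaternionGroup 2 := (Subgroup.subgroupOfEquivOfLe hQS).trans eQ
  obtain ⟨m, hA, hB⟩ := d.q8_struct _ e'
  have hcQ : ((d.b (2 * m + 1) : ↥(S : Subgroup G)) : G) ∈ Q := by
    have : d.b (2 * m + 1) ∈ Q.subgroupOf S := by
      rw [hB, sub_self]; unfold z2R4; ring
    exact Subgroup.mem_subgroupOf.mp this
  have hV4 : orderOf ((d.b (2 * m + 1) : ↥(S : Subgroup G)) : G) = 4 := by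
    rw [Subgroup.orderOf_coe]; exact d.orderOf_b_odd m
  have hconj' : IsConj ((d.qq : ↥(S : Subgroup G)) : G) ((d.b (2 * m + 1) : ↥(S : Subgroup G)) : G) := by
    have h2 := qd_isConj_b_odd S d 0 m
    rw [mul_zero, zero_add] at h2
    exact hconj.trans h2
  obtain ⟨h, hh, hhQ⟩ := qd_exists_conj_sylow_four S d Q eQ _ hcQ hV4 hconj'
  set V : G := ((d.b (2 * m + 1) : ↥(S : Subgroup G)) : G) with hV
  set q : G := ((d.qq : ↥(S : Subgroup G)) : G) with hq
  set s : G := ((d.a (z2eighth d.n) : ↥(S : Subgroup G)) : G) with hs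
  have hsq : s * q * s⁻¹ = q := by
    have := congrArg Subtype.val d.eighth_comm_qq
    have h' : s * q = q * s := this
    rw [h']; group
  have hsq' : s * q⁻¹ * s⁻¹ = q⁻¹ := by
    calc s * q⁻¹ * s⁻¹ = (s * q * s⁻¹)⁻¹ := by group
      _ = q⁻¹ := by rw [hsq]
  have hsN : s ∈ Subgroup.normalizer (Q : Set G) := qd_eighth_mem_normalizer S d Q hQS eQ
  have hsV : s * V * s⁻¹ ∉ Subgroup.zpowers V := qd_eighth_conj_b_not_mem S d m
  have hsK : s ∉ Q ⊔ Subgroup.centralizer (Q : Set G) :=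
    fun hk => hsV (q8_sup_centralizer_conj_mem Q eQ s hk V hcQ hV4)
  -- the conjugate quaternion subgroup
  set Q₁ : Subgroup G := Q.map (MulAut.conj h⁻¹).toMonoidHom with hQ₁
  have hQ₁mem : ∀ t ∈ Q, h⁻¹ * t * h ∈ Q₁ := by
    intro t ht
    refine ⟨t, ht, ?_⟩
    simp [MulAut.conj_apply]
  have hQ₁mem' : ∀ t₁ ∈ Q₁, h * t₁ * h⁻¹ ∈ Q := by
    rintro _ ⟨t, ht, rfl⟩
    have : h * ((MulAut.conj h⁻¹).toMonoidHom t) * h⁻¹ = t := by
      simp [MulAut.conj_apply]; group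
    rw [this]; exact ht
  have hQ₁S : Q₁ ≤ S := by
    rintro _ ⟨t, ht, rfl⟩
    have := hhQ t ht
    simpa [MulAut.conj_apply] using this
  let e₁ : ↥Q₁ ≃* QuaternionGroup 2 :=
    (Q.equivMapOfInjective _ (MulAut.conj h⁻¹).injective).symm.trans eQ
  let e₁' : ↥(Q₁.subgroupOf S) ≃* QuaternionGroup 2 := (Subgroup.subgroupOfEquivOfLe hQ₁S).trans e₁
  obtain ⟨m₁, hA₁, hB₁⟩ := d.q8_struct _ e₁'
  have hu₁Q₁ : ((d.b (2 * m₁ + 1) : ↥(S : Subgroup G)) : G) ∈ Q₁ := by
    have : d.b (2 * m₁ + 1) ∈ Q₁.subgroupOf S := by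
      rw [hB₁, sub_self]; unfold z2R4; ring
    exact Subgroup.mem_subgroupOf.mp this
  have hsN₁ : s ∈ Subgroup.normalizer (Q₁ : Set G) := qd_eighth_mem_normalizer S d Q₁ hQ₁S e₁
  set r : G := h * s * h⁻¹ with hr
  have hrN : r ∈ Subgroup.normalizer (Q : Set G) := by
    apply mem_normalizer_of_conj_mem
    intro t ht
    have h1 : s * (h⁻¹ * t * h) * s⁻¹ ∈ Q₁ :=
      (Subgroup.mem_normalizer_iff.mp hsN₁ _).mp (hQ₁mem t ht)
    have h2 := hQ₁mem' _ h1
    have : r * t * r⁻¹ = h * (s * (h⁻¹ * t * h) * s⁻¹) * h⁻¹ := by rw [hr]; group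
    rw [this]; exact h2
  have hrK : r ∉ Q ⊔ Subgroup.centralizer (Q : Set G) := by
    intro hk
    set u₁ : G := ((d.b (2 * m₁ + 1) : ↥(S : Subgroup G)) : G) with hu₁
    have huQ : h * u₁ * h⁻¹ ∈ Q := hQ₁mem' _ hu₁Q₁
    have hu4 : orderOf (h * u₁ * h⁻¹) = 4 := by
      have : h * u₁ * h⁻¹ = MulAut.conj h u₁ := by simp [MulAut.conj_apply]
      rw [this, MulEquiv.orderOf_eq, hu₁, Subgroup.orderOf_coe]
      exact d.orderOf_b_odd m₁
    have h1 := q8_sup_centralizer_conj_mem Q eQ r hk _ huQ hu4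
    have e1 : r * (h * u₁ * h⁻¹) * r⁻¹ = h * (s * u₁ * s⁻¹) * h⁻¹ := by rw [hr]; group
    rw [e1] at h1
    exact qd_eighth_conj_b_not_mem S d m₁ (mem_zpowers_of_conj_mem_zpowers_conj _ _ _ h1)
  have hsr := mul_mem_of_relIndex_two _ _ h2 s r hsN hrN hsK hrK
  have h3 := q8_sup_centralizer_conj_mem Q eQ (s * r) hsr V hcQ hV4
  have hrV : r * V * r⁻¹ = V := by
    rcases hh with hh1 | hh2
    · rw [← hh1, hr]
      calc h * s * h⁻¹ * (h * q * h⁻¹) * (h * s * h⁻¹)⁻¹ = h * (s * q * s⁻¹) * h⁻¹ := by group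
        _ = h * q * h⁻¹ := by rw [hsq]
    · have hV' : V = h * q⁻¹ * h⁻¹ := by
        rw [← inv_inv V, ← hh2]; group
      rw [hV', hr]
      calc h * s * h⁻¹ * (h * q⁻¹ * h⁻¹) * (h * s * h⁻¹)⁻¹ = h * (s * q⁻¹ * s⁻¹) * h⁻¹ := by group
        _ = h * q⁻¹ * h⁻¹ := by rw [hsq']
  have e2 : s * r * V * (s * r)⁻¹ = s * (r * V * r⁻¹) * s⁻¹ := by group
  rw [e2, hrV] at h3
  exact hsV h3

end

section
variable {G : Type*} [Group G] [Finite G] (S : Sylow 2 G) (d : QDData ↥(S : Subgroup G))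

/-- if the central involution is conjugate to a non-central involution `v` of the four-group `T`,
there is `h` carrying `zz` to `v` with `T` inside the conjugate Sylow subgroup -/
theorem qd_exists_conj_sylow (T : Subgroup G) (hT : IsKleinFour T) (v : G) (hvT : v ∈ T)
    (hconj : IsConj ((d.zz : ↥(S : Subgroup G)) : G) v) :
    ∃ h : G, h * ((d.zz : ↥(S : Subgroup G)) : G) * h⁻¹ = v ∧
      ∀ t ∈ T, h⁻¹ * t * h ∈ (S : Subgroup G) := by
  obtain ⟨g, hg⟩ := isConj_iff.mp hconj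
  have hS1 : ((g • S : Sylow 2 G) : Subgroup G) ≤ Subgroup.centralizer ({v} : Set G) := by
    intro s hs
    rw [Sylow.coe_subgroup_smul, mem_conj_smul_iff'] at hs
    rw [Subgroup.mem_centralizer_singleton_iff, ← hg]
    have hc : (⟨g⁻¹ * s * g, hs⟩ : ↥(S : Subgroup G)) * d.zz = d.zz * ⟨g⁻¹ * s * g, hs⟩ :=
      (d.zz_central _).symm
    have hc' : (g⁻¹ * s * g) * ((d.zz : ↥(S : Subgroup G)) : G) =
        ((d.zz : ↥(S : Subgroup G)) : G) * (g⁻¹ * s * g) := congrArg Subtype.val hc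
    calc s * (g * ((d.zz : ↥(S : Subgroup G)) : G) * g⁻¹)
        = g * ((g⁻¹ * s * g) * ((d.zz : ↥(S : Subgroup G)) : G)) * g⁻¹ := by group
      _ = g * (((d.zz : ↥(S : Subgroup G)) : G) * (g⁻¹ * s * g)) * g⁻¹ := by rw [hc']
      _ = g * ((d.zz : ↥(S : Subgroup G)) : G) * g⁻¹ * s := by group
  have hTM : T ≤ Subgroup.centralizer ({v} : Set G) := by
    intro t ht
    rw [Subgroup.mem_centralizer_singleton_iff]
    exact klein_comm T hT t v ht hvT
  have hTp : IsPGroup 2 ↥T := IsPGroup.of_card (n := 2) (by rw [hT.card_four]; norm_num)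
  obtain ⟨n, hnM, hn⟩ := pgroup_le_conj_sylow_in_subgroup (g • S : Sylow 2 G)
    (Subgroup.centralizer ({v} : Set G)) T hS1 hTM hTp
  refine ⟨n * g, ?_, ?_⟩
  · rw [Subgroup.mem_centralizer_singleton_iff] at hnM
    calc n * g * ((d.zz : ↥(S : Subgroup G)) : G) * (n * g)⁻¹
        = n * (g * ((d.zz : ↥(S : Subgroup G)) : G) * g⁻¹) * n⁻¹ := by group
      _ = n * v * n⁻¹ := by rw [hg]
      _ = v := by rw [hnM]; group
  · intro t ht
    have h1 := hn ht
    rw [mem_conj_smul_iff', Sylow.coe_subgroup_smul, mem_conj_smul_iff'] at h1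
    have : (n * g)⁻¹ * t * (n * g) = g⁻¹ * (n⁻¹ * t * n) * g := by group
    rw [this]; exact h1

/-- NF1: with `|N(T):C(T)| = 2` the central involution is not conjugate to `b 0` -/
theorem qd_not_conj_zz_b_of_two (T : Subgroup G) (hT : IsKleinFour T) (hTS : T ≤ S)
    (h2 : (Subgroup.centralizer (T : Set G)).relIndex (Subgroup.normalizer (T : Set G)) = 2) :
    ¬ IsConj ((d.zz : ↥(S : Subgroup G)) : G) ((d.b 0 : ↥(S : Subgroup G)) : G) := by
  intro hconj
  have hT' : IsKleinFour (T.subgroupOf S) :=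
    isKleinFour_of_equiv (Subgroup.subgroupOfEquivOfLe hTS).symm hT
  obtain ⟨j, hz, hb⟩ := d.klein_struct _ hT'
  have hzT : ((d.zz : ↥(S : Subgroup G)) : G) ∈ T := Subgroup.mem_subgroupOf.mp hz
  have hbT : ((d.b (2 * j) : ↥(S : Subgroup G)) : G) ∈ T := Subgroup.mem_subgroupOf.mp hb
  have hconj' : IsConj ((d.zz : ↥(S : Subgroup G)) : G) ((d.b (2 * j) : ↥(S : Subgroup G)) : G) := by
    have h2 := qd_isConj_b_even S d 0 j
    rw [mul_zero] at h2
    exact hconj.trans h2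
  obtain ⟨h, hh, hhT⟩ := qd_exists_conj_sylow S d T hT _ hbT hconj'
  -- abbreviations
  set Z : G := ((d.zz : ↥(S : Subgroup G)) : G) with hZ
  set V : G := ((d.b (2 * j) : ↥(S : Subgroup G)) : G) with hV
  set q : G := ((d.qq : ↥(S : Subgroup G)) : G) with hq
  have hZZ : Z * Z = 1 := by
    have := congrArg Subtype.val d.zz_mul_zz
    exact this
  have hVV : V * V = 1 := by
    have := congrArg Subtype.val (d.b_even_sq j)
    exact this
  have hZV : Z * V = V * Z := by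
    have := congrArg Subtype.val (d.zz_central (d.b (2 * j)))
    exact this
  have hZneV : Z ≠ V := by
    intro h'
    exact d.b_ne_zz _ (Subtype.ext h'.symm)
  have hZ1 : Z ≠ 1 := by
    intro h'; exact d.zz_ne_one (Subtype.ext h')
  -- elements of T
  have hTmem : ∀ t ∈ T, t = 1 ∨ t = Z ∨ t = V ∨ t = Z * V := by
    intro t ht
    have htS : t ∈ (S : Subgroup G) := hTS ht
    have := d.klein_mem _ hT' j hb ⟨t, htS⟩ (Subgroup.mem_subgroupOf.mpr ht)
    rcases this with h' | h' | h' | h'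
    · left; exact congrArg Subtype.val h'
    · right; left; exact congrArg Subtype.val h'
    · right; right; left; exact congrArg Subtype.val h'
    · right; right; right
      rw [← d.zz_mul_b'] at h'
      exact congrArg Subtype.val h'
  -- the conjugation by `q` inside `S`
  have hqV : q * V * q⁻¹ = Z * V := by
    have := congrArg Subtype.val (d.qq_conj_b_even (2 * j))
    exact this
  have hqZ : q * Z * q⁻¹ = Z := by
    have := congrArg Subtype.val (d.zz_conj d.qq)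
    exact this
  -- `w`
  have hwS : h⁻¹ * Z * h ∈ (S : Subgroup G) := hhT _ hzT
  have hwo : orderOf (⟨h⁻¹ * Z * h, hwS⟩ : ↥(S : Subgroup G)) = 2 := by
    rw [← Subgroup.orderOf_coe]
    have : h⁻¹ * Z * h = MulAut.conj h⁻¹ Z := by simp [MulAut.conj_apply]
    rw [show ((⟨h⁻¹ * Z * h, hwS⟩ : ↥(S : Subgroup G)) : G) = MulAut.conj h⁻¹ Z from this,
      MulEquiv.orderOf_eq, hZ, Subgroup.orderOf_coe]
    exact d.orderOf_zz
  rw [d.orderOf_eq_two_iff] at hwo
  have hqw : q * (h⁻¹ * Z * h) * q⁻¹ = Z * (h⁻¹ * Z * h) := by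
    rcases hwo with h' | ⟨j₁, h'⟩
    · exfalso
      have h1 : h⁻¹ * Z * h = Z := congrArg Subtype.val h'
      apply hZneV
      rw [← hh]
      calc Z = h * (h⁻¹ * Z * h) * h⁻¹ := by group
        _ = h * Z * h⁻¹ := by rw [h1]
    · have h1 : h⁻¹ * Z * h = ((d.b (2 * j₁) : ↥(S : Subgroup G)) : G) := congrArg Subtype.val h'
      rw [h1]
      have := congrArg Subtype.val (d.qq_conj_b_even (2 * j₁))
      exact this
  -- `r`
  set r : G := h * q * h⁻¹ with hr
  have hrV : r * V * r⁻¹ = V := by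
    rw [← hh, hr]
    calc h * q * h⁻¹ * (h * Z * h⁻¹) * (h * q * h⁻¹)⁻¹ = h * (q * Z * q⁻¹) * h⁻¹ := by group
      _ = h * Z * h⁻¹ := by rw [hqZ]
  have hrZ : r * Z * r⁻¹ = V * Z := by
    rw [hr]
    calc h * q * h⁻¹ * Z * (h * q * h⁻¹)⁻¹ = h * (q * (h⁻¹ * Z * h) * q⁻¹) * h⁻¹ := by group
      _ = h * (Z * (h⁻¹ * Z * h)) * h⁻¹ := by rw [hqw]
      _ = (h * Z * h⁻¹) * Z := by group
      _ = V * Z := by rw [hh]
  have : Finite ↥T := inferInstance
  have hrN : r ∈ Subgroup.normalizer (T : Set G) := by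
    apply mem_normalizer_of_conj_mem
    intro t ht
    rcases hTmem t ht with rfl | rfl | rfl | rfl
    · simp
    · rw [hrZ]; exact T.mul_mem hbT hzT
    · rw [hrV]; exact hbT
    · have : r * (Z * V) * r⁻¹ = (r * Z * r⁻¹) * (r * V * r⁻¹) := by group
      rw [this, hrZ, hrV]
      exact T.mul_mem (T.mul_mem hbT hzT) hbT
  have hqN : q ∈ Subgroup.normalizer (T : Set G) := by
    apply mem_normalizer_of_conj_mem
    intro t ht
    rcases hTmem t ht with rfl | rfl | rfl | rfl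
    · simp
    · rw [hqZ]; exact hzT
    · rw [hqV]; exact T.mul_mem hzT hbT
    · have : q * (Z * V) * q⁻¹ = (q * Z * q⁻¹) * (q * V * q⁻¹) := by group
      rw [this, hqZ, hqV]
      exact T.mul_mem hzT (T.mul_mem hzT hbT)
  have hrC : r ∉ Subgroup.centralizer (T : Set G) := by
    intro hc
    have := hc Z hzT
    have h1 : r * Z * r⁻¹ = Z := by rw [← this]; group
    rw [hrZ] at h1
    have : V = 1 := by
      calc V = V * Z * Z := by rw [mul_assoc, hZZ, mul_one]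
        _ = Z * Z := by rw [h1]
        _ = 1 := hZZ
    exact d.b_ne_one _ (Subtype.ext this)
  have hqC : q ∉ Subgroup.centralizer (T : Set G) := by
    intro hc
    have := hc V hbT
    have h1 : q * V * q⁻¹ = V := by rw [← this]; group
    rw [hqV] at h1
    exact hZ1 (by
      calc Z = Z * V * V := by rw [mul_assoc, hVV, mul_one]
        _ = V * V := by rw [h1]
        _ = 1 := hVV)
  have hrq := mul_mem_of_relIndex_two _ _ h2 r q hrN hqN hrC hqC
  have := hrq V hbT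
  have h1 : (r * q) * V * (r * q)⁻¹ = V := by rw [← this]; group
  have h3 : (r * q) * V * (r * q)⁻¹ = Z := by
    calc (r * q) * V * (r * q)⁻¹ = r * (q * V * q⁻¹) * r⁻¹ := by group
      _ = r * (Z * V) * r⁻¹ := by rw [hqV]
      _ = (r * Z * r⁻¹) * (r * V * r⁻¹) := by group
      _ = V * Z * V := by rw [hrZ, hrV]
      _ = Z * (V * V) := by rw [← hZV]; group
      _ = Z := by rw [hVV, mul_one]
  exact hZneV (h3.symm.trans h1)

end


end Cfsg.Agent.Lib.Helper3
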