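import Mathlib
import Cfsg.Agent.Lib.Helper3.Di6
import Cfsg.Agent.Lib.Helper3.QDFusion2
import Cfsg.Agent.Lib.Lead.Brodkey

set_option autoImplicit false

namespace Cfsg.Agent.Lib.Helper3

open Cfsg.Agent.Lib.Lead

section
variable {X : Type*} [Group X] [Finite X] (S : Sylow 2 X)

/-- if `z` is central in the Sylow subgroup `S` and conjugate to `v`, where `v` is central in the
`2`-subgroup `T`, there is `h` carrying `z` to `v` with `T` inside the conjugate of `S` -/
theorem exists_conj_sylow_of_central (z : X) (hzS : ∀ s ∈ (S : Subgroup X), s * z = z * s)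
    (T : Subgroup X) (hTp : IsPGroup 2 ↥T) (v : X) (hvT : ∀ t ∈ T, t * v = v * t)
    (hconj : IsConj z v) :
    ∃ h : X, h * z * h⁻¹ = v ∧ ∀ t ∈ T, h⁻¹ * t * h ∈ (S : Subgroup X) := by
  have : Fact (Nat.Prime 2) := ⟨Nat.prime_two⟩
  obtain ⟨g, hg⟩ := isConj_iff.mp hconj
  have hS1 : ((g • S : Sylow 2 X) : Subgroup X) ≤ Subgroup.centralizer ({v} : Set X) := by
    intro s hs
    rw [Sylow.coe_subgroup_smul, mem_conj_smul_iff'] at hs
    rw [Subgroup.mem_centralizer_singleton_iff, ← hg]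
    have hc' := hzS _ hs
    calc s * (g * z * g⁻¹) = g * ((g⁻¹ * s * g) * z) * g⁻¹ := by group
      _ = g * (z * (g⁻¹ * s * g)) * g⁻¹ := by rw [hc']
      _ = g * z * g⁻¹ * s := by group
  have hTM : T ≤ Subgroup.centralizer ({v} : Set X) := by
    intro t ht
    rw [Subgroup.mem_centralizer_singleton_iff]
    exact hvT t ht
  obtain ⟨n, hnM, hn⟩ := pgroup_le_conj_sylow_in_subgroup (g • S : Sylow 2 X)
    (Subgroup.centralizer ({v} : Set X)) T hS1 hTM hTp
  refine ⟨n * g, ?_, ?_⟩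
  · rw [Subgroup.mem_centralizer_singleton_iff] at hnM
    calc n * g * z * (n * g)⁻¹ = n * (g * z * g⁻¹) * n⁻¹ := by group
      _ = n * v * n⁻¹ := by rw [hg]
      _ = v := by rw [hnM]; group
  · intro t ht
    have h1 := hn ht
    rw [mem_conj_smul_iff', Sylow.coe_subgroup_smul, mem_conj_smul_iff'] at h1
    have : (n * g)⁻¹ * t * (n * g) = g⁻¹ * (n⁻¹ * t * n) * g := by group
    rw [this]; exact h1

/-- the swap trick: if the central involution `z` of `S` is conjugate to a non-central involution `v`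
of a four-group `T ≤ S`, and every involution `w ≠ z` of `S` is conjugate in `S` to `z * w`,
then some element of `X` fixes `v` and carries `z` to `z * v` -/
theorem exists_swap_of_conj (z : X) (hzS : ∀ s ∈ (S : Subgroup X), s * z = z * s)
    (hswap : ∀ w ∈ (S : Subgroup X), w * w = 1 → w ≠ 1 → w ≠ z →
      ∃ q ∈ (S : Subgroup X), q * w * q⁻¹ = z * w)
    (T : Subgroup X) (hT : IsKleinFour T) (hzT : z ∈ T) (v : X) (hvT : v ∈ T) (hvz : v ≠ z)
    (hz1 : z ≠ 1)
    (hconj : IsConj z v) :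
    ∃ r' : X, r' * v * r'⁻¹ = v ∧ r' * z * r'⁻¹ = z * v := by
  have hTp : IsPGroup 2 ↥T := IsPGroup.of_card (n := 2) (by rw [hT.card_four]; norm_num)
  obtain ⟨h, hh, hhT⟩ := exists_conj_sylow_of_central S z hzS T hTp v
    (fun t ht => klein_comm T hT t v ht hvT) hconj
  have hzz : z * z = 1 := klein_mem_sq T hT hzT
  set w := h⁻¹ * z * h with hw
  have hwS : w ∈ (S : Subgroup X) := hhT z hzT
  have hww : w * w = 1 := by
    rw [hw]
    calc h⁻¹ * z * h * (h⁻¹ * z * h) = h⁻¹ * (z * z) * h := by group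
      _ = 1 := by rw [hzz]; group
  have hw1 : w ≠ 1 := by
    intro h1
    apply hz1
    calc z = h * w * h⁻¹ := by rw [hw]; group
      _ = 1 := by rw [h1]; group
  have hwz : w ≠ z := by
    intro h1
    apply hvz
    rw [← hh]
    calc h * z * h⁻¹ = h * w * h⁻¹ := by rw [h1]
      _ = z := by rw [hw]; group
  obtain ⟨q, hqS, hq⟩ := hswap w hwS hww hw1 hwz
  have hqz : q * z * q⁻¹ = z := by
    rw [hzS q hqS]; group
  refine ⟨h * q * h⁻¹, ?_, ?_⟩
  · rw [← hh]
    calc h * q * h⁻¹ * (h * z * h⁻¹) * (h * q * h⁻¹)⁻¹ = h * (q * z * q⁻¹) * h⁻¹ := by group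
      _ = h * z * h⁻¹ := by rw [hqz]
  · calc h * q * h⁻¹ * z * (h * q * h⁻¹)⁻¹ = h * (q * (h⁻¹ * z * h) * q⁻¹) * h⁻¹ := by group
      _ = h * (z * w) * h⁻¹ := by rw [← hw, hq]
      _ = (h * z * h⁻¹) * (h * w * h⁻¹) := by group
      _ = v * z := by rw [hh, hw]; group
      _ = z * v := klein_comm T hT v z hvT hzT

end

end Cfsg.Agent.Lib.Helper3
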