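import Mathlib
import Cfsg.Agent.Lib.Helper3.Wr4

set_option autoImplicit false

namespace Cfsg.Agent.Lib.Helper3
open Cfsg.Agent.Lib.Lead

namespace WrData
variable {S : Type*} [Group S] (d : WrData S)

open Classical in
/-- the coordinates of an element -/
noncomputable def co (g : S) : ZMod (2 ^ d.n) × ZMod (2 ^ d.n) :=
  if h : ∃ i j, g = d.c i j then (h.choose, h.choose_spec.choose)
  else if h' : ∃ i j, g = d.e i j then (h'.choose, h'.choose_spec.choose) else (0, 0)

theorem co_c (i j : ZMod (2 ^ d.n)) : d.co (d.c i j) = (i, j) := by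
  have h : ∃ i' j', d.c i j = d.c i' j' := ⟨i, j, rfl⟩
  unfold co
  rw [dif_pos h]
  have := h.choose_spec.choose_spec
  rw [c_inj] at this
  exact Prod.ext this.1.symm this.2.symm

theorem co_e (i j : ZMod (2 ^ d.n)) : d.co (d.e i j) = (i, j) := by
  have h : ¬ ∃ i' j', d.e i j = d.c i' j' := by
    rintro ⟨i', j', h⟩; exact d.c_ne_e _ _ _ _ h.symm
  have h' : ∃ i' j', d.e i j = d.e i' j' := ⟨i, j, rfl⟩
  unfold co
  rw [dif_neg h, dif_pos h']
  have := h'.choose_spec.choose_spec
  rw [e_inj] at this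
  exact Prod.ext this.1.symm this.2.symm

/-- the sum of the coordinates: a homomorphism onto a cyclic group -/
noncomputable def sig : S →* Multiplicative (ZMod (2 ^ d.n)) where
  toFun g := Multiplicative.ofAdd ((d.co g).1 + (d.co g).2)
  map_one' := by
    rw [← d.c_zero, co_c, add_zero]; rfl
  map_mul' := by
    intro g g'
    rw [← ofAdd_add]
    congr 1
    rcases d.cases g with ⟨i, j, rfl⟩ | ⟨i, j, rfl⟩ <;>
      rcases d.cases g' with ⟨i', j', rfl⟩ | ⟨i', j', rfl⟩
    · rw [c_mul_c, co_c, co_c, co_c]; ring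
    · rw [c_mul_e, co_e, co_c, co_e]; ring
    · rw [e_mul_c, co_e, co_e, co_c]; ring
    · rw [e_mul_e, co_c, co_e, co_e]; ring

theorem sig_c (i j : ZMod (2 ^ d.n)) : d.sig (d.c i j) = Multiplicative.ofAdd (i + j) := by
  show Multiplicative.ofAdd ((d.co (d.c i j)).1 + (d.co (d.c i j)).2) = _
  rw [co_c]

theorem sig_e (i j : ZMod (2 ^ d.n)) : d.sig (d.e i j) = Multiplicative.ofAdd (i + j) := by
  show Multiplicative.ofAdd ((d.co (d.e i j)).1 + (d.co (d.e i j)).2) = _
  rw [co_e]

theorem sig_surjective : Function.Surjective d.sig := by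
  intro t
  exact ⟨d.c (Multiplicative.toAdd t) 0, by rw [sig_c, add_zero]; rfl⟩

open Classical in
/-- the twisted sum of the coordinates, whose kernel is the generalized quaternion subgroup -/
noncomputable def tau : S →* Multiplicative (ZMod (2 ^ d.n)) where
  toFun g := Multiplicative.ofAdd ((d.co g).1 + (d.co g).2 + if g ∈ d.U then 0 else z2half d.n)
  map_one' := by
    rw [← d.c_zero, co_c, if_pos (d.c_mem_U _ _), add_zero, add_zero]; rfl
  map_mul' := by
    intro g g'
    rw [← ofAdd_add]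
    congr 1
    have h2 := z2_half_add_half d.n d.n_pos
    rcases d.cases g with ⟨i, j, rfl⟩ | ⟨i, j, rfl⟩ <;>
      rcases d.cases g' with ⟨i', j', rfl⟩ | ⟨i', j', rfl⟩
    · rw [c_mul_c, co_c, co_c, co_c, if_pos (d.c_mem_U _ _), if_pos (d.c_mem_U _ _),
        if_pos (d.c_mem_U _ _)]; ring
    · rw [c_mul_e, co_e, co_c, co_e, if_neg (d.e_not_mem_U _ _), if_pos (d.c_mem_U _ _),
        if_neg (d.e_not_mem_U _ _)]; ring
    · rw [e_mul_c, co_e, co_e, co_c, if_neg (d.e_not_mem_U _ _), if_neg (d.e_not_mem_U _ _),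
        if_pos (d.c_mem_U _ _)]; ring
    · rw [e_mul_e, co_c, co_e, co_e, if_pos (d.c_mem_U _ _), if_neg (d.e_not_mem_U _ _),
        if_neg (d.e_not_mem_U _ _)]
      linear_combination (-1 : ZMod (2 ^ d.n)) * h2

theorem tau_c (i j : ZMod (2 ^ d.n)) : d.tau (d.c i j) = Multiplicative.ofAdd (i + j) := by
  classical
  show Multiplicative.ofAdd ((d.co (d.c i j)).1 + (d.co (d.c i j)).2 +
    if d.c i j ∈ d.U then 0 else z2half d.n) = _
  rw [co_c, if_pos (d.c_mem_U _ _), add_zero]

theorem tau_e (i j : ZMod (2 ^ d.n)) :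
    d.tau (d.e i j) = Multiplicative.ofAdd (i + j + z2half d.n) := by
  classical
  show Multiplicative.ofAdd ((d.co (d.e i j)).1 + (d.co (d.e i j)).2 +
    if d.e i j ∈ d.U then 0 else z2half d.n) = _
  rw [co_e, if_neg (d.e_not_mem_U _ _)]

theorem tau_surjective : Function.Surjective d.tau := by
  intro t
  exact ⟨d.c (Multiplicative.toAdd t) 0, by rw [tau_c, add_zero]; rfl⟩

open Classical in
/-- the projection onto the dihedral quotient by the centre -/
noncomputable def toDih : S →* DihedralGroup (2 ^ d.n) where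
  toFun g := if g ∈ d.U then DihedralGroup.r ((d.co g).1 - (d.co g).2)
    else DihedralGroup.sr ((d.co g).2 - (d.co g).1)
  map_one' := by
    rw [← d.c_zero, if_pos (d.c_mem_U _ _), co_c, sub_zero]; rfl
  map_mul' := by
    intro g g'
    rcases d.cases g with ⟨i, j, rfl⟩ | ⟨i, j, rfl⟩ <;>
      rcases d.cases g' with ⟨i', j', rfl⟩ | ⟨i', j', rfl⟩
    · rw [c_mul_c, co_c, co_c, co_c, if_pos (d.c_mem_U _ _), if_pos (d.c_mem_U _ _),
        if_pos (d.c_mem_U _ _), DihedralGroup.r_mul_r]; congr 1; ring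
    · rw [c_mul_e, co_e, co_c, co_e, if_neg (d.e_not_mem_U _ _), if_pos (d.c_mem_U _ _),
        if_neg (d.e_not_mem_U _ _), DihedralGroup.r_mul_sr]; congr 1; ring
    · rw [e_mul_c, co_e, co_e, co_c, if_neg (d.e_not_mem_U _ _), if_neg (d.e_not_mem_U _ _),
        if_pos (d.c_mem_U _ _), DihedralGroup.sr_mul_r]; congr 1; ring
    · rw [e_mul_e, co_c, co_e, co_e, if_pos (d.c_mem_U _ _), if_neg (d.e_not_mem_U _ _),
        if_neg (d.e_not_mem_U _ _), DihedralGroup.sr_mul_sr]; congr 1; ring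

theorem toDih_c (i j : ZMod (2 ^ d.n)) : d.toDih (d.c i j) = DihedralGroup.r (i - j) := by
  classical
  show (if d.c i j ∈ d.U then DihedralGroup.r ((d.co (d.c i j)).1 - (d.co (d.c i j)).2)
    else DihedralGroup.sr ((d.co (d.c i j)).2 - (d.co (d.c i j)).1)) = _
  rw [if_pos (d.c_mem_U _ _), co_c]

theorem toDih_e (i j : ZMod (2 ^ d.n)) : d.toDih (d.e i j) = DihedralGroup.sr (j - i) := by
  classical
  show (if d.e i j ∈ d.U then DihedralGroup.r ((d.co (d.e i j)).1 - (d.co (d.e i j)).2)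
    else DihedralGroup.sr ((d.co (d.e i j)).2 - (d.co (d.e i j)).1)) = _
  rw [if_neg (d.e_not_mem_U _ _), co_e]

theorem toDih_surjective : Function.Surjective d.toDih := by
  intro t
  cases t with
  | r k => exact ⟨d.c k 0, by rw [toDih_c, sub_zero]⟩
  | sr k => exact ⟨d.e 0 k, by rw [toDih_e, sub_zero]⟩

theorem toDih_ker : d.toDih.ker = Subgroup.center S := by
  ext g
  rw [MonoidHom.mem_ker, mem_center_iff]
  rcases d.cases g with ⟨i, j, rfl⟩ | ⟨i, j, rfl⟩
  · rw [toDih_c, DihedralGroup.one_def]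
    constructor
    · intro h
      have h1 : i - j = 0 := DihedralGroup.r.inj h
      exact ⟨i, by rw [c_inj]; exact ⟨rfl, by linear_combination (-1 : ZMod (2 ^ d.n)) * h1⟩⟩
    · rintro ⟨k, h⟩
      rw [c_inj] at h
      rw [h.1, h.2, sub_self]
  · rw [toDih_e, DihedralGroup.one_def]
    constructor
    · intro h; cases h
    · rintro ⟨k, h⟩; exact absurd h.symm (d.c_ne_e _ _ _ _)

/-- `S / Z(S)` is dihedral -/
noncomputable def quotCenterEquiv : S ⧸ Subgroup.center S ≃* DihedralGroup (2 ^ d.n) :=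
  (QuotientGroup.quotientMulEquivOfEq d.toDih_ker.symm).trans
    (QuotientGroup.quotientKerEquivOfSurjective d.toDih d.toDih_surjective)

end WrData
end Cfsg.Agent.Lib.Helper3
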