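import Mathlib
import Cfsg.Agent.Lib.Helper3.Wr5

set_option autoImplicit false

namespace Cfsg.Agent.Lib.Helper3
open Cfsg.Agent.Lib.Lead

namespace WrData
variable {S : Type*} [Group S] (d : WrData S)

/-- the diagonal embedding onto the centre -/
noncomputable def zHom : Multiplicative (ZMod (2 ^ d.n)) →* S where
  toFun t := d.c (Multiplicative.toAdd t) (Multiplicative.toAdd t)
  map_one' := by rw [toAdd_one, c_zero]
  map_mul' a b := by rw [c_mul_c, toAdd_mul]

/-- the antidiagonal embedding onto the derived subgroup -/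
noncomputable def dHom : Multiplicative (ZMod (2 ^ d.n)) →* S where
  toFun t := d.c (Multiplicative.toAdd t) (-Multiplicative.toAdd t)
  map_one' := by rw [toAdd_one, neg_zero, c_zero]
  map_mul' a b := by rw [c_mul_c, toAdd_mul, neg_add]

theorem zHom_apply (t : Multiplicative (ZMod (2 ^ d.n))) :
    d.zHom t = d.c (Multiplicative.toAdd t) (Multiplicative.toAdd t) := rfl

theorem dHom_apply (t : Multiplicative (ZMod (2 ^ d.n))) :
    d.dHom t = d.c (Multiplicative.toAdd t) (-Multiplicative.toAdd t) := rfl

theorem zHom_injective : Function.Injective d.zHom := by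
  intro a b h
  rw [zHom_apply, zHom_apply, c_inj] at h
  exact Multiplicative.toAdd.injective h.1

theorem dHom_injective : Function.Injective d.dHom := by
  intro a b h
  rw [dHom_apply, dHom_apply, c_inj] at h
  exact Multiplicative.toAdd.injective h.1

theorem zHom_range : d.zHom.range = Subgroup.center S := by
  ext g
  rw [mem_center_iff, MonoidHom.mem_range]
  constructor
  · rintro ⟨t, rfl⟩; exact ⟨_, rfl⟩
  · rintro ⟨i, rfl⟩; exact ⟨Multiplicative.ofAdd i, rfl⟩

theorem mem_dHom_range (g : S) : g ∈ d.dHom.range ↔ ∃ i, g = d.c i (-i) := by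
  rw [MonoidHom.mem_range]
  constructor
  · rintro ⟨t, rfl⟩; exact ⟨_, rfl⟩
  · rintro ⟨i, rfl⟩; exact ⟨Multiplicative.ofAdd i, rfl⟩

open scoped commutatorElement in
theorem commutator_eq : commutator S = d.dHom.range := by
  apply le_antisymm
  · rw [commutator_def, Subgroup.commutator_le]
    intro g _ g' _
    rw [mem_dHom_range, commutatorElement_def]
    rcases d.cases g with ⟨i, j, rfl⟩ | ⟨i, j, rfl⟩ <;>
      rcases d.cases g' with ⟨i', j', rfl⟩ | ⟨i', j', rfl⟩
    · refine ⟨0, ?_⟩
      rw [c_conj_c, mul_inv_cancel, neg_zero, c_zero]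
    · refine ⟨i - j, ?_⟩
      rw [c_conj_e, e_inv, e_mul_e]; congr 1 <;> ring
    · refine ⟨j' - i', ?_⟩
      rw [e_conj_c, c_inv, c_mul_c]; congr 1 <;> ring
    · refine ⟨(i - j) - (i' - j'), ?_⟩
      rw [e_conj_e, e_inv, e_mul_e]; congr 1 <;> ring
  · rintro _ ⟨t, rfl⟩
    rw [dHom_apply]
    have : d.c (Multiplicative.toAdd t) (-Multiplicative.toAdd t) =
        ⁅d.c (Multiplicative.toAdd t) 0, d.e 0 0⁆ := by
      rw [commutatorElement_def, c_conj_e, e_inv, e_mul_e]; congr 1 <;> ring
    rw [this]
    exact Subgroup.commutator_mem_commutator (Subgroup.mem_top _) (Subgroup.mem_top _)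

include d in
theorem isCyclic_center : IsCyclic (Subgroup.center S) := by
  rw [← d.zHom_range]
  exact isCyclic_of_surjective d.zHom.rangeRestrict d.zHom.rangeRestrict_surjective

include d in
theorem isCyclic_commutator : IsCyclic (commutator S) := by
  rw [d.commutator_eq]
  exact isCyclic_of_surjective d.dHom.rangeRestrict d.dHom.rangeRestrict_surjective

theorem card_commutator : Nat.card (commutator S) = 2 ^ d.n := by
  rw [d.commutator_eq, Nat.card_congr (MonoidHom.ofInjective d.dHom_injective).symm.toEquiv,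
    Nat.card_congr Multiplicative.toAdd, Nat.card_zmod]

end WrData
end Cfsg.Agent.Lib.Helper3
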