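import Mathlib
import Cfsg.Agent.Lib.Helper3.Wr6

set_option autoImplicit false

namespace Cfsg.Agent.Lib.Helper3
open Cfsg.Agent.Lib.Lead

namespace WrData
variable {S : Type*} [Group S] (d : WrData S)

/-- the elements of order at most two of the cyclic group -/
def twoTors : Subgroup (Multiplicative (ZMod (2 ^ d.n))) :=
  (powMonoidHom 2 : Multiplicative (ZMod (2 ^ d.n)) →* Multiplicative (ZMod (2 ^ d.n))).ker

theorem mem_twoTors (t : Multiplicative (ZMod (2 ^ d.n))) :
    t ∈ d.twoTors ↔ Multiplicative.toAdd t = 0 ∨ Multiplicative.toAdd t = z2half d.n := by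
  unfold twoTors
  rw [MonoidHom.mem_ker, powMonoidHom_apply, ← z2_two_mul_eq_zero d.n d.n_pos]
  constructor
  · intro h
    have := congrArg Multiplicative.toAdd h
    rw [toAdd_pow, toAdd_one] at this
    simpa using this
  · intro h
    apply Multiplicative.toAdd.injective
    rw [toAdd_pow, toAdd_one]
    simpa using h

theorem card_twoTors : Nat.card d.twoTors = 2 := by
  rw [Nat.card_eq_two_iff]
  refine ⟨⟨1, Subgroup.one_mem _⟩, ⟨Multiplicative.ofAdd (z2half d.n),
    (d.mem_twoTors _).mpr (Or.inr rfl)⟩, ?_, ?_⟩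
  · intro h
    have := congrArg (fun t : d.twoTors => Multiplicative.toAdd (t : Multiplicative (ZMod (2 ^ d.n)))) h
    simp only [toAdd_one, toAdd_ofAdd] at this
    exact d.half_ne_zero this.symm
  · rw [Set.eq_univ_iff_forall]
    rintro ⟨t, ht⟩
    rcases (d.mem_twoTors t).mp ht with h | h
    · left
      apply Subtype.ext
      apply Multiplicative.toAdd.injective
      rw [h]; rfl
    · right
      apply Subtype.ext
      apply Multiplicative.toAdd.injective
      rw [h]; rfl

theorem index_twoTors : d.twoTors.index = 2 ^ (d.n - 1) := by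
  have h := d.twoTors.card_mul_index
  rw [d.card_twoTors, Nat.card_congr Multiplicative.toAdd, Nat.card_zmod] at h
  have h2 : 2 ^ d.n = 2 * 2 ^ (d.n - 1) := by
    rw [← pow_succ']; congr 1; have := d.n_pos; omega
  exact Nat.eq_of_mul_eq_mul_left (by norm_num) (h.trans h2)

/-- the subgroup generated by the involutions -/
noncomputable def omegaS : Subgroup S := d.twoTors.comap d.sig

theorem c_mem_omegaS (i j : ZMod (2 ^ d.n)) :
    d.c i j ∈ d.omegaS ↔ i + j = 0 ∨ i + j = z2half d.n := by
  unfold omegaS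
  rw [Subgroup.mem_comap, mem_twoTors, sig_c, toAdd_ofAdd]

theorem e_mem_omegaS (i j : ZMod (2 ^ d.n)) :
    d.e i j ∈ d.omegaS ↔ i + j = 0 ∨ i + j = z2half d.n := by
  unfold omegaS
  rw [Subgroup.mem_comap, mem_twoTors, sig_e, toAdd_ofAdd]

theorem card_omegaS [Finite S] : Nat.card d.omegaS = 2 ^ (d.n + 2) := by
  have h1 : d.omegaS.index = 2 ^ (d.n - 1) := by
    unfold omegaS
    rw [Subgroup.index_comap_of_surjective _ d.sig_surjective, d.index_twoTors]
  have h2 := d.omegaS.card_mul_index
  rw [h1, d.card] at h2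
  have h3 : 2 ^ (2 * d.n + 1) = 2 ^ (d.n + 2) * 2 ^ (d.n - 1) := by
    rw [← pow_add]; congr 1; have := d.n_pos; omega
  rw [h3] at h2
  exact Nat.eq_of_mul_eq_mul_right (by positivity) h2

theorem orderOf_e_neg (i : ZMod (2 ^ d.n)) : orderOf (d.e i (-i)) = 2 :=
  (d.orderOf_eq_two_iff _).mpr (Or.inr (Or.inr (Or.inr ⟨i, rfl⟩)))

theorem orderOf_c0h : orderOf (d.c 0 (z2half d.n)) = 2 :=
  (d.orderOf_eq_two_iff _).mpr (Or.inr (Or.inl rfl))

theorem closure_involutions_eq : Subgroup.closure {x : S | orderOf x = 2} = d.omegaS := by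
  apply le_antisymm
  · rw [Subgroup.closure_le]
    intro g hg
    rw [Set.mem_ofPred_eq, d.orderOf_eq_two_iff] at hg
    rcases hg with rfl | rfl | rfl | ⟨i, rfl⟩
    · rw [SetLike.mem_coe, c_mem_omegaS, add_zero]; right; rfl
    · rw [SetLike.mem_coe, c_mem_omegaS, zero_add]; right; rfl
    · rw [SetLike.mem_coe, c_mem_omegaS]; left; exact z2_half_add_half d.n d.n_pos
    · rw [SetLike.mem_coe, e_mem_omegaS, add_neg_cancel]; left; rfl
  · have hE : ∀ i, d.e i (-i) ∈ Subgroup.closure {x : S | orderOf x = 2} :=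
      fun i => Subgroup.subset_closure (d.orderOf_e_neg i)
    have hC : d.c 0 (z2half d.n) ∈ Subgroup.closure {x : S | orderOf x = 2} :=
      Subgroup.subset_closure d.orderOf_c0h
    have hD : ∀ i, d.c i (-i) ∈ Subgroup.closure {x : S | orderOf x = 2} := by
      intro i
      have : d.c i (-i) = d.e i (-i) * d.e 0 (-0) := by
        rw [e_mul_e]; congr 1 <;> ring
      rw [this]
      exact Subgroup.mul_mem _ (hE i) (hE 0)
    intro g hg
    rcases d.cases g with ⟨i, j, rfl⟩ | ⟨i, j, rfl⟩
    · rw [c_mem_omegaS] at hg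
      rcases hg with h | h
      · have : j = -i := by linear_combination h
        rw [this]; exact hD i
      · have : d.c i j = d.c i (-i) * d.c 0 (z2half d.n) := by
          rw [c_mul_c]; congr 1
          · ring
          · linear_combination h
        rw [this]
        exact Subgroup.mul_mem _ (hD i) hC
    · rw [e_mem_omegaS] at hg
      rcases hg with h | h
      · have : j = -i := by linear_combination h
        rw [this]; exact hE i
      · have : d.e i j = d.c 0 (z2half d.n) * d.e i (-i) := by
          rw [c_mul_e]; congr 1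
          · ring
          · linear_combination h
        rw [this]
        exact Subgroup.mul_mem _ hC (hE i)

theorem omegaS_sup_zpowers : d.omegaS ⊔ Subgroup.zpowers (d.c 1 0) = ⊤ := by
  rw [eq_top_iff]
  intro g _
  have hx : d.c 1 0 = d.x := by unfold c; rw [ax_one, ay_zero, mul_one]
  have hpow : ∀ t, d.c t 0 ∈ Subgroup.zpowers (d.c 1 0) := by
    intro t
    rw [hx]
    have : d.c t 0 = d.ax t := by unfold c; rw [ay_zero, mul_one]
    rw [this]; exact d.ax_mem_zpowers t
  have key : ∀ i j, d.c i j ∈ d.omegaS ⊔ Subgroup.zpowers (d.c 1 0) := by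
    intro i j
    have : d.c i j = d.c (-j) j * d.c (i + j) 0 := by
      rw [c_mul_c]; congr 1 <;> ring
    rw [this]
    apply Subgroup.mul_mem_sup
    · rw [c_mem_omegaS]; left; ring
    · exact hpow _
  rcases d.cases g with ⟨i, j, rfl⟩ | ⟨i, j, rfl⟩
  · exact key i j
  · have : d.e i j = d.c i j * d.e 0 (-0) := by
      rw [c_mul_e]; congr 1 <;> ring
    rw [this]
    apply Subgroup.mul_mem _ (key i j)
    apply Subgroup.mem_sup_left
    rw [e_mem_omegaS]; left; ring

end WrData
end Cfsg.Agent.Lib.Helper3
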