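import Mathlib
import Cfsg.Agent.Lib.Helper3.Wr7

set_option autoImplicit false

namespace Cfsg.Agent.Lib.Helper3
open Cfsg.Agent.Lib.Lead

section QuatFacts
variable (m : ℕ) (hm : 2 ≤ m)

include hm in
theorem quat_two_ne_zero : (2 : ZMod (2 * m)) ≠ 0 := by
  intro h
  have h' : ((2 : ℕ) : ZMod (2 * m)) = 0 := by exact_mod_cast h
  rw [ZMod.natCast_eq_zero_iff] at h'
  have := Nat.le_of_dvd (by norm_num) h'
  omega

include hm in
theorem quat_m_ne_zero : ((m : ℕ) : ZMod (2 * m)) ≠ 0 := by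
  intro h
  rw [ZMod.natCast_eq_zero_iff] at h
  have := Nat.le_of_dvd (by omega) h
  omega

include hm in
theorem quat_not_comm : ∃ p q : QuaternionGroup m, p * q ≠ q * p := by
  refine ⟨QuaternionGroup.a 1, QuaternionGroup.xa 0, ?_⟩
  rw [QuaternionGroup.a_mul_xa, QuaternionGroup.xa_mul_a]
  intro h
  have h1 : (0 : ZMod (2 * m)) - 1 = 0 + 1 := QuaternionGroup.xa.inj h
  apply quat_two_ne_zero m hm
  linear_combination (-1 : ZMod (2 * m)) * h1

include hm in
theorem quat_central_of_sq (q : QuaternionGroup m) (hq : q * q = 1) (p : QuaternionGroup m) :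
    p * q = q * p := by
  cases q with
  | a i =>
    rw [QuaternionGroup.a_mul_a, QuaternionGroup.one_def] at hq
    have hi : i + i = 0 := QuaternionGroup.a.inj hq
    cases p with
    | a j => rw [QuaternionGroup.a_mul_a, QuaternionGroup.a_mul_a, add_comm]
    | xa j =>
      rw [QuaternionGroup.a_mul_xa, QuaternionGroup.xa_mul_a]
      congr 1
      linear_combination hi
  | xa i =>
    exfalso
    rw [QuaternionGroup.xa_mul_xa, QuaternionGroup.one_def] at hq
    have hi : (m : ZMod (2 * m)) + i - i = 0 := QuaternionGroup.a.inj hq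
    apply quat_m_ne_zero m hm
    linear_combination hi

include hm in
theorem quat_sq_of_central (q : QuaternionGroup m) (hq : ∀ p : QuaternionGroup m, p * q = q * p) :
    q * q = 1 := by
  cases q with
  | a i =>
    have h := hq (QuaternionGroup.xa 0)
    rw [QuaternionGroup.a_mul_xa, QuaternionGroup.xa_mul_a] at h
    have h1 : (0 : ZMod (2 * m)) + i = 0 - i := QuaternionGroup.xa.inj h
    rw [QuaternionGroup.a_mul_a, QuaternionGroup.one_def]
    congr 1
    linear_combination h1
  | xa i =>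
    exfalso
    have h := hq (QuaternionGroup.a 1)
    rw [QuaternionGroup.a_mul_xa, QuaternionGroup.xa_mul_a] at h
    have h1 : i - 1 = i + 1 := QuaternionGroup.xa.inj h
    apply quat_two_ne_zero m hm
    linear_combination (-1 : ZMod (2 * m)) * h1

end QuatFacts

namespace WrData
variable {S : Type*} [Group S] (d : WrData S)

/-- the generalized quaternion subgroup -/
noncomputable def quatS : Subgroup S := d.tau.ker

theorem c_mem_quatS (i j : ZMod (2 ^ d.n)) : d.c i j ∈ d.quatS ↔ i + j = 0 := by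
  unfold quatS
  rw [MonoidHom.mem_ker, tau_c]
  constructor
  · intro h
    have := congrArg Multiplicative.toAdd h
    simpa using this
  · intro h; rw [h]; rfl

theorem e_mem_quatS (i j : ZMod (2 ^ d.n)) : d.e i j ∈ d.quatS ↔ i + j = z2half d.n := by
  unfold quatS
  rw [MonoidHom.mem_ker, tau_e]
  have h2 := z2_half_add_half d.n d.n_pos
  constructor
  · intro h
    have h1 : i + j + z2half d.n = 0 := by
      have := congrArg Multiplicative.toAdd h
      simpa using this
    linear_combination h1 - h2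
  · intro h
    have : i + j + z2half d.n = 0 := by linear_combination h + h2
    rw [this]; rfl

theorem quatS_normal : d.quatS.Normal := MonoidHom.normal_ker _

theorem card_quatS [Finite S] : Nat.card d.quatS = 2 ^ (d.n + 1) := by
  have h1 : d.quatS.index = 2 ^ d.n := by
    unfold quatS
    rw [Subgroup.index_ker, MonoidHom.range_eq_top.mpr d.tau_surjective, Subgroup.card_top,
      Nat.card_congr Multiplicative.toAdd, Nat.card_zmod]
  have h2 := d.quatS.card_mul_index
  rw [h1, d.card] at h2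
  have h3 : 2 ^ (2 * d.n + 1) = 2 ^ (d.n + 1) * 2 ^ d.n := by
    rw [← pow_add]; congr 1; omega
  rw [h3] at h2
  exact Nat.eq_of_mul_eq_mul_right (by positivity) h2

theorem orderOf_c_one_neg_one : orderOf (d.c 1 (-1)) = 2 ^ d.n := by
  have h1 : d.c 1 (-1) = d.dHom (Multiplicative.ofAdd 1) := rfl
  rw [h1, orderOf_injective d.dHom d.dHom_injective, orderOf_ofAdd_eq_addOrderOf, ZMod.addOrderOf_one]

theorem c_one_neg_one_pow (k : ℕ) : d.c 1 (-1) ^ k = d.c (k : ZMod (2 ^ d.n)) (-(k : ZMod (2 ^ d.n))) := by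
  have h1 : d.c 1 (-1) = d.dHom (Multiplicative.ofAdd 1) := rfl
  rw [h1, ← map_pow, dHom_apply, toAdd_pow, toAdd_ofAdd, nsmul_eq_mul, mul_one]

theorem quatS_equiv [Finite S] : Nonempty (d.quatS ≃* QuaternionGroup (2 ^ (d.n - 1))) := by
  have ha : d.c 1 (-1) ∈ d.quatS := by rw [c_mem_quatS]; ring
  have hx : d.e 0 (z2half d.n) ∈ d.quatS := by rw [e_mem_quatS]; ring
  have hpow : 2 * 2 ^ (d.n - 1) = 2 ^ d.n := by
    rw [← pow_succ']; congr 1; have := d.n_pos; omega
  apply quaternion_recognition (2 ^ (d.n - 1)) (⟨d.c 1 (-1), ha⟩ : d.quatS) ⟨d.e 0 (z2half d.n), hx⟩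
  · rw [Subgroup.orderOf_mk, orderOf_c_one_neg_one, hpow]
  · apply Subtype.ext
    show d.e 0 (z2half d.n) ^ 2 = d.c 1 (-1) ^ (2 ^ (d.n - 1))
    rw [c_one_neg_one_pow, pow_two, e_sq, zero_add]
    have : ((2 ^ (d.n - 1) : ℕ) : ZMod (2 ^ d.n)) = z2half d.n := rfl
    rw [this, d.neg_half]
  · apply Subtype.ext
    show d.e 0 (z2half d.n) * d.c 1 (-1) * (d.e 0 (z2half d.n))⁻¹ = (d.c 1 (-1))⁻¹
    rw [e_conj_c, c_inv, neg_neg]
  · intro h
    obtain ⟨k, hk⟩ := h
    have h1 := congrArg Subtype.val hk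
    have h2 : (d.c 1 (-1)) ^ k = d.e 0 (z2half d.n) := by
      simpa using h1
    have h3 : (d.c 1 (-1)) ^ k ∈ d.U := Subgroup.zpow_mem _ (d.c_mem_U _ _) k
    rw [h2] at h3
    exact d.e_not_mem_U _ _ h3
  · rw [d.card_quatS]
    have : 4 * 2 ^ (d.n - 1) = 2 * (2 * 2 ^ (d.n - 1)) := by ring
    rw [this, hpow, ← pow_succ']

/-- uniqueness of the generalized quaternion subgroup of order `2^(n+1)` -/
theorem eq_quatS [Finite S] (Y : Subgroup S) (hc : Nat.card Y = 2 ^ (d.n + 1))
    (φ : Y ≃* QuaternionGroup (2 ^ (d.n - 1))) : Y = d.quatS := by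
  have hm : 2 ≤ 2 ^ (d.n - 1) := by
    have : 2 ^ 1 ≤ 2 ^ (d.n - 1) := Nat.pow_le_pow_right (by norm_num) (by have := d.hn; omega)
    simpa using this
  -- `Y` is not commutative
  have hnc : ¬ IsMulCommutative Y := by
    intro hcomm
    obtain ⟨p, q, hpq⟩ := quat_not_comm _ hm
    apply hpq
    have := hcomm.is_comm.comm (φ.symm p) (φ.symm q)
    have h2 := congrArg φ this
    simpa using h2
  have hex : ∃ k l, d.e k l ∈ Y := by
    by_contra hcon
    push Not at hcon
    apply hnc
    refine ⟨⟨?_⟩⟩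
    rintro ⟨a, ha⟩ ⟨b, hb⟩
    apply Subtype.ext
    show a * b = b * a
    rcases d.cases a with ⟨i, j, rfl⟩ | ⟨i, j, rfl⟩
    · rcases d.cases b with ⟨i', j', rfl⟩ | ⟨i', j', rfl⟩
      · exact d.c_comm_c _ _ _ _
      · exact absurd hb (hcon _ _)
    · exact absurd ha (hcon _ _)
  have hsum : ∀ k l, d.e k l ∈ Y → k + l = z2half d.n := by
    intro k l hkl
    -- the square is central
    have hsqY : d.e k l * d.e k l ∈ Y := Y.mul_mem hkl hkl
    have hcen : d.e k l * d.e k l ∈ Subgroup.center S := by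
      rw [e_sq, mem_center_iff]; exact ⟨_, rfl⟩
    have h1 : ∀ p : QuaternionGroup (2 ^ (d.n - 1)), p * φ ⟨_, hsqY⟩ = φ ⟨_, hsqY⟩ * p := by
      intro p
      obtain ⟨y, rfl⟩ := φ.surjective p
      rw [← map_mul, ← map_mul]
      congr 1
      apply Subtype.ext
      exact Subgroup.mem_center_iff.mp hcen y
    have h2 := quat_sq_of_central _ hm _ h1
    rw [← map_mul, ← map_one φ] at h2
    have h3 := congrArg Subtype.val (φ.injective h2)
    have h4 : (d.e k l * d.e k l) * (d.e k l * d.e k l) = 1 := h3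
    rw [e_sq, c_sq, c_eq_one_iff, z2_two_mul_eq_zero d.n d.n_pos] at h4
    rcases h4.1 with h0 | hh
    · exfalso
      -- `e k l` is an involution, hence central in `Y`
      have hsq1 : (⟨d.e k l, hkl⟩ : Y) * ⟨d.e k l, hkl⟩ = 1 := by
        apply Subtype.ext
        show d.e k l * d.e k l = 1
        rw [e_sq, h0, c_zero]
      have h5 : φ ⟨d.e k l, hkl⟩ * φ ⟨d.e k l, hkl⟩ = 1 := by
        rw [← map_mul, hsq1, map_one]
      have h6 := quat_central_of_sq _ hm _ h5
      have h7 : (⟨d.e k l, hkl⟩ : Y) ∈ Subgroup.center Y := by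
        rw [Subgroup.mem_center_iff]
        intro y
        apply φ.injective
        rw [map_mul, map_mul]
        exact h6 (φ y)
      have h8 := d.center_le_of_not_comm Y hnc ⟨_, h7, rfl⟩
      rw [mem_center_iff] at h8
      obtain ⟨i, hi⟩ := h8
      exact d.c_ne_e _ _ _ _ hi.symm
    · exact hh
  obtain ⟨k, l, hkl⟩ := hex
  have hkl' := hsum k l hkl
  apply Subgroup.eq_of_le_of_card_ge
  · intro g hg
    rcases d.cases g with ⟨i, j, rfl⟩ | ⟨i, j, rfl⟩
    · have h1 : d.c i j * d.e k l ∈ Y := Y.mul_mem hg hkl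
      rw [c_mul_e] at h1
      have h2 := hsum _ _ h1
      rw [c_mem_quatS]
      linear_combination h2 - hkl'
    · rw [e_mem_quatS]; exact hsum i j hg
  · rw [hc, d.card_quatS]

end WrData
end Cfsg.Agent.Lib.Helper3
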