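import Mathlib
import Cfsg.Agent.Lib.Helper3.Wr8
import Cfsg.Agent.Lib.Helper3.QDFusion2
import Cfsg.Agent.Lib.Lead.HallTools

set_option autoImplicit false

namespace Cfsg.Agent.Lib.Helper3
open Cfsg.Agent.Lib.Lead

theorem mem_map_conj_iff {G : Type*} [Group G] (H : Subgroup G) (g x : G) :
    x ∈ H.map (MulAut.conj g).toMonoidHom ↔ g⁻¹ * x * g ∈ H := by
  constructor
  · rintro ⟨y, hy, rfl⟩
    have : g⁻¹ * ((MulAut.conj g).toMonoidHom y) * g = y := by
      simp [MulAut.conj_apply, mul_assoc]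
    rw [this]; exact hy
  · intro h
    refine ⟨g⁻¹ * x * g, h, ?_⟩
    simp [MulAut.conj_apply, mul_assoc]

theorem card_eq_card_mul_relIndex {G : Type*} [Group G] {H K : Subgroup G} (h : H ≤ K) :
    Nat.card ↥K = Nat.card ↥H * H.relIndex K := by
  rw [← card_subgroupOf_of_le h, Subgroup.relIndex, Subgroup.card_mul_index]

namespace WrData
variable {S : Type*} [Group S] (d : WrData S)

/-- the four-group of the dihedral quotient below `Vk κ` -/
def dihK (κ : ZMod (2 ^ d.n)) : Subgroup (DihedralGroup (2 ^ d.n)) :=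
  kleinOf (DihedralGroup.r (z2half d.n)) (DihedralGroup.sr (-κ))
    (by rw [DihedralGroup.r_mul_r, z2_half_add_half d.n d.n_pos]; rfl)
    (by rw [DihedralGroup.sr_mul_sr, sub_self]; rfl)
    (by
      rw [DihedralGroup.r_mul_sr, DihedralGroup.sr_mul_r]; congr 1
      have := z2_half_add_half d.n d.n_pos
      linear_combination (-1 : ZMod (2 ^ d.n)) * this)

theorem isKleinFour_dihK (κ : ZMod (2 ^ d.n)) : IsKleinFour (d.dihK κ) := by
  unfold dihK
  apply isKleinFour_kleinOf
  · rw [DihedralGroup.one_def]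
    intro h
    exact d.half_ne_zero (DihedralGroup.r.inj h)
  · rw [DihedralGroup.one_def]; intro h; cases h
  · intro h; cases h

/-- the subgroups `Q Z(S)` -/
noncomputable def Vk (κ : ZMod (2 ^ d.n)) : Subgroup S := (d.dihK κ).comap d.toDih

theorem c_mem_Vk (κ i j : ZMod (2 ^ d.n)) :
    d.c i j ∈ d.Vk κ ↔ i - j = 0 ∨ i - j = z2half d.n := by
  unfold Vk dihK
  rw [Subgroup.mem_comap, mem_kleinOf, toDih_c, DihedralGroup.r_mul_sr, DihedralGroup.one_def]
  simp only [reduceCtorEq, DihedralGroup.r.injEq, or_false]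

theorem e_mem_Vk (κ i j : ZMod (2 ^ d.n)) :
    d.e i j ∈ d.Vk κ ↔ i - j = κ ∨ i - j = κ + z2half d.n := by
  unfold Vk dihK
  rw [Subgroup.mem_comap, mem_kleinOf, toDih_e, DihedralGroup.r_mul_sr, DihedralGroup.one_def]
  simp only [reduceCtorEq, DihedralGroup.sr.injEq, false_or]
  constructor
  · rintro (h | h)
    · left; linear_combination (-1 : ZMod (2 ^ d.n)) * h
    · right; linear_combination (-1 : ZMod (2 ^ d.n)) * h
  · rintro (h | h)
    · left; linear_combination (-1 : ZMod (2 ^ d.n)) * h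
    · right; linear_combination (-1 : ZMod (2 ^ d.n)) * h

theorem center_le_Vk (κ : ZMod (2 ^ d.n)) : Subgroup.center S ≤ d.Vk κ := by
  intro g hg
  rw [d.mem_center_iff] at hg
  obtain ⟨i, rfl⟩ := hg
  rw [c_mem_Vk]; left; ring

theorem card_Vk [Finite S] (κ : ZMod (2 ^ d.n)) : Nat.card (d.Vk κ) = 2 ^ (d.n + 2) := by
  rw [card_eq_card_mul_relIndex (d.center_le_Vk κ), d.card_center, ← d.toDih_ker,
    Subgroup.relIndex_ker]
  unfold Vk
  rw [Subgroup.map_comap_eq_self_of_surjective d.toDih_surjective, (d.isKleinFour_dihK κ).card_four]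
  ring

theorem ch0_mem_Vk (κ : ZMod (2 ^ d.n)) : d.c (z2half d.n) 0 ∈ d.Vk κ := by
  rw [c_mem_Vk]; right; ring

theorem Vk_not_comm (κ : ZMod (2 ^ d.n)) : ¬ IsMulCommutative (d.Vk κ) := by
  intro hc
  have h1 : d.e κ 0 ∈ d.Vk κ := by rw [e_mem_Vk]; left; ring
  have h2 := d.ch0_mem_Vk κ
  have h3 := hc.is_comm.comm (⟨_, h1⟩ : d.Vk κ) ⟨_, h2⟩
  have h4 : d.e κ 0 * d.c (z2half d.n) 0 = d.c (z2half d.n) 0 * d.e κ 0 := congrArg Subtype.val h3
  rw [e_mul_c, c_mul_e, e_inj] at h4
  have := h4.2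
  rw [zero_add, add_zero] at this
  exact d.half_ne_zero this

theorem centralizer_Vk_le (κ : ZMod (2 ^ d.n)) :
    Subgroup.centralizer (d.Vk κ : Set S) ≤ Subgroup.center S := by
  intro g hg
  rw [Subgroup.mem_centralizer_iff] at hg
  have h1 : d.e κ 0 ∈ d.Vk κ := by rw [e_mem_Vk]; left; ring
  have h2 := d.ch0_mem_Vk κ
  have e1 := hg _ h1
  have e2 := hg _ h2
  rw [d.mem_center_iff]
  rcases d.cases g with ⟨i, j, rfl⟩ | ⟨i, j, rfl⟩
  · rw [e_mul_c, c_mul_e, e_inj] at e1
    refine ⟨i, ?_⟩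
    rw [c_inj]
    refine ⟨rfl, ?_⟩
    linear_combination e1.1
  · exfalso
    rw [c_mul_e, e_mul_c, e_inj] at e2
    have := e2.1
    apply d.half_ne_zero
    linear_combination this

/-- all `Vk κ` with `κ` in a fixed class modulo `2` are conjugate -/
theorem Vk_conj (κ m : ZMod (2 ^ d.n)) :
    (d.Vk κ).map (MulAut.conj (d.c m 0)).toMonoidHom = d.Vk (κ + 2 * m) := by
  ext g
  rw [mem_map_conj_iff]
  rcases d.cases g with ⟨i, j, rfl⟩ | ⟨i, j, rfl⟩
  · have : (d.c m 0)⁻¹ * d.c i j * d.c m 0 = d.c i j := by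
      rw [c_inv, c_mul_c, c_mul_c]; congr 1 <;> ring
    rw [this, c_mem_Vk, c_mem_Vk]
  · have : (d.c m 0)⁻¹ * d.e i j * d.c m 0 = d.e (i - m) (j + m) := by
      rw [c_inv, c_mul_e, e_mul_c]; congr 1 <;> ring
    rw [this, e_mem_Vk, e_mem_Vk]
    constructor
    · rintro (h | h)
      · left; linear_combination h
      · right; linear_combination h
    · rintro (h | h)
      · left; linear_combination h
      · right; linear_combination h

theorem c_mem_Vk' (κ i j : ZMod (2 ^ d.n)) : d.c i j ∈ d.Vk κ ↔ 2 * (i - j) = 0 := by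
  rw [c_mem_Vk, z2_two_mul_eq_zero d.n d.n_pos]

theorem e_mem_Vk' (κ i j : ZMod (2 ^ d.n)) : d.e i j ∈ d.Vk κ ↔ 2 * (i - j - κ) = 0 := by
  rw [e_mem_Vk, z2_two_mul_eq_zero d.n d.n_pos]
  constructor
  · rintro (h | h)
    · left; linear_combination h
    · right; linear_combination h
  · rintro (h | h)
    · left; linear_combination h
    · right; linear_combination h

theorem c_mem_normalizer_Vk [Finite S] (κ i j : ZMod (2 ^ d.n)) :
    d.c i j ∈ Subgroup.normalizer (d.Vk κ : Set S) ↔ 4 * (i - j) = 0 := by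
  constructor
  · intro h
    have h1 : d.e κ 0 ∈ d.Vk κ := by rw [e_mem_Vk']; ring
    have h2 := (Subgroup.mem_normalizer_iff.mp h _).mp h1
    rw [c_conj_e, e_mem_Vk'] at h2
    linear_combination h2
  · intro h
    apply mem_normalizer_of_conj_mem
    intro t ht
    rcases d.cases t with ⟨a, b, rfl⟩ | ⟨a, b, rfl⟩
    · rw [c_conj_c]; exact ht
    · rw [c_conj_e, e_mem_Vk']
      rw [e_mem_Vk'] at ht
      linear_combination ht + h

theorem e_mem_normalizer_Vk [Finite S] (κ i j : ZMod (2 ^ d.n)) :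
    d.e i j ∈ Subgroup.normalizer (d.Vk κ : Set S) ↔ 4 * (i - j - κ) = 0 := by
  constructor
  · intro h
    have h1 : d.e κ 0 ∈ d.Vk κ := by rw [e_mem_Vk']; ring
    have h2 := (Subgroup.mem_normalizer_iff.mp h _).mp h1
    rw [e_conj_e, e_mem_Vk'] at h2
    linear_combination h2
  · intro h
    apply mem_normalizer_of_conj_mem
    intro t ht
    rcases d.cases t with ⟨a, b, rfl⟩ | ⟨a, b, rfl⟩
    · rw [e_conj_c, c_mem_Vk']
      rw [c_mem_Vk'] at ht
      linear_combination (-1 : ZMod (2 ^ d.n)) * ht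
    · rw [e_conj_e, e_mem_Vk']
      rw [e_mem_Vk'] at ht
      linear_combination (-1 : ZMod (2 ^ d.n)) * ht + h

theorem Vk_le_normalizer (κ : ZMod (2 ^ d.n)) : d.Vk κ ≤ Subgroup.normalizer (d.Vk κ : Set S) :=
  Subgroup.le_normalizer

theorem four_eq : (4 : ZMod (2 ^ d.n)) = 2 * 2 := by norm_num

theorem relIndex_Vk_normalizer [Finite S] (κ : ZMod (2 ^ d.n)) :
    (d.Vk κ).relIndex (Subgroup.normalizer (d.Vk κ : Set S)) = 2 := by
  have hq := z2_two_mul_quarter d.n d.hn
  have hh := z2_half_add_half d.n d.n_pos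
  have hne := d.half_ne_zero
  rw [Subgroup.relIndex_eq_two_iff]
  refine ⟨d.c (z2quarter d.n) 0, ?_, ?_⟩
  · rw [c_mem_normalizer_Vk, sub_zero, d.four_eq, mul_assoc, hq]
    exact z2_two_mul_half d.n d.n_pos
  · intro b hb
    rcases d.cases b with ⟨i, j, rfl⟩ | ⟨i, j, rfl⟩
    · rw [c_mem_normalizer_Vk, d.four_eq, mul_assoc, z2_two_mul_eq_zero d.n d.n_pos] at hb
      rw [c_mul_c, c_mem_Vk', c_mem_Vk', add_zero]
      have e1 : 2 * (i + z2quarter d.n - j) = 2 * (i - j) + z2half d.n := by rw [← hq]; ring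
      rw [e1]
      rcases hb with hb | hb
      · rw [hb, zero_add]
        exact Or.inr ⟨rfl, hne⟩
      · rw [hb, hh]
        exact Or.inl ⟨rfl, hne⟩
    · rw [e_mem_normalizer_Vk, d.four_eq, mul_assoc, z2_two_mul_eq_zero d.n d.n_pos] at hb
      rw [e_mul_c, e_mem_Vk', e_mem_Vk', add_zero]
      have e1 : 2 * (i - (j + z2quarter d.n) - κ) = 2 * (i - j - κ) + z2half d.n := by
        have : - z2half d.n = z2half d.n := z2_neg_half d.n d.n_pos
        rw [← this, ← hq]; ring
      rw [e1]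
      rcases hb with hb | hb
      · rw [hb, zero_add]
        exact Or.inr ⟨rfl, hne⟩
      · rw [hb, hh]
        exact Or.inl ⟨rfl, hne⟩

theorem card_normalizer_Vk [Finite S] (κ : ZMod (2 ^ d.n)) :
    Nat.card (Subgroup.normalizer (d.Vk κ : Set S)) = 2 ^ (d.n + 3) := by
  rw [card_eq_card_mul_relIndex (d.Vk_le_normalizer κ), d.relIndex_Vk_normalizer, d.card_Vk]
  ring

end WrData
theorem q8_noncomm_facts : ∀ x y : QuaternionGroup 2, x * y ≠ y * x →
    y * x * y⁻¹ = x⁻¹ ∧ x * x = y * y ∧ x * x ≠ 1 ∧ (x * x) * (x * x) = 1 ∧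
      ∀ q : QuaternionGroup 2, ∃ i : Fin 4, ∃ j : Fin 2, q = x ^ (i : ℕ) * y ^ (j : ℕ) := by
  decide +kernel

theorem q8_sub_noncomm {G : Type*} [Group G] (Q : Subgroup G) (e : ↥Q ≃* QuaternionGroup 2)
    (x y : G) (hx : x ∈ Q) (hy : y ∈ Q) (hxy : x * y ≠ y * x) :
    y * x * y⁻¹ = x⁻¹ ∧ x * x = y * y ∧ x * x ≠ 1 ∧ (x * x) * (x * x) = 1 ∧
      ∀ q ∈ Q, ∃ i j : ℕ, q = x ^ i * y ^ j := by
  have hne : e ⟨x, hx⟩ * e ⟨y, hy⟩ ≠ e ⟨y, hy⟩ * e ⟨x, hx⟩ := by
    intro h
    rw [← map_mul, ← map_mul] at h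
    exact hxy (congrArg Subtype.val (e.injective h))
  obtain ⟨h1, h2, h3, h4, h5⟩ := q8_noncomm_facts _ _ hne
  refine ⟨?_, ?_, ?_, ?_, ?_⟩
  · rw [← map_inv, ← map_mul, ← map_mul, ← map_inv] at h1
    exact congrArg Subtype.val (e.injective h1)
  · rw [← map_mul, ← map_mul] at h2
    exact congrArg Subtype.val (e.injective h2)
  · intro h
    apply h3
    rw [← map_mul, ← map_one e]
    congr 1
    exact Subtype.ext h
  · rw [← map_mul, ← map_mul, ← map_one e] at h4
    exact congrArg Subtype.val (e.injective h4)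
  · intro q hq
    obtain ⟨i, j, hij⟩ := h5 (e ⟨q, hq⟩)
    refine ⟨i, j, ?_⟩
    rw [← map_pow, ← map_pow, ← map_mul] at hij
    have := congrArg Subtype.val (e.injective hij)
    simpa using this

namespace WrData
variable {S : Type*} [Group S] (d : WrData S)

/-- a quaternion subgroup of order eight contains non-commuting elements of the two kinds -/
theorem quat_exists_c_e (Q : Subgroup S) (e : ↥Q ≃* QuaternionGroup 2) :
    ∃ i j k l : ZMod (2 ^ d.n), d.c i j ∈ Q ∧ d.e k l ∈ Q ∧ d.c i j * d.e k l ≠ d.e k l * d.c i j := by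
  obtain ⟨p, q, hpq⟩ := quat_not_comm 2 le_rfl
  have hx : ((e.symm p : ↥Q) : S) ∈ Q := (e.symm p).2
  have hy : ((e.symm q : ↥Q) : S) ∈ Q := (e.symm q).2
  have hxy : ((e.symm p : ↥Q) : S) * ((e.symm q : ↥Q) : S) ≠
      ((e.symm q : ↥Q) : S) * ((e.symm p : ↥Q) : S) := by
    intro h
    apply hpq
    have h' : e.symm p * e.symm q = e.symm q * e.symm p := Subtype.ext h
    rw [← map_mul, ← map_mul] at h'
    exact e.symm.injective h'
  generalize ((e.symm p : ↥Q) : S) = x at hx hy hxy
  generalize ((e.symm q : ↥Q) : S) = y at hy hxy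
  rcases d.cases x with ⟨i, j, rfl⟩ | ⟨i, j, rfl⟩ <;>
    rcases d.cases y with ⟨k, l, rfl⟩ | ⟨k, l, rfl⟩
  · exact absurd (d.c_comm_c _ _ _ _) hxy
  · exact ⟨i, j, k, l, hx, hy, hxy⟩
  · exact ⟨k, l, i, j, hy, hx, fun h => hxy h.symm⟩
  · refine ⟨i + l, j + k, k, l, ?_, hy, ?_⟩
    · rw [← e_mul_e]; exact Q.mul_mem hx hy
    · rw [← e_mul_e]
      intro h
      apply hxy
      have : d.e i j * d.e k l * d.e k l = d.e k l * d.e i j * d.e k l := by
        rw [h, mul_assoc]
      exact mul_right_cancel this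

/-- the structure of a quaternion subgroup of order eight -/
theorem quat_struct (Q : Subgroup S) (e : ↥Q ≃* QuaternionGroup 2) :
    ∃ a k : ZMod (2 ^ d.n), 2 * a = z2half d.n ∧ d.c a (-a) ∈ Q ∧ d.e k (z2half d.n - k) ∈ Q ∧
      ∀ g ∈ Q, ∃ i j : ℕ, g = (d.c a (-a)) ^ i * (d.e k (z2half d.n - k)) ^ j := by
  obtain ⟨i, j, k, l, hc, he, hne⟩ := d.quat_exists_c_e Q e
  obtain ⟨h1, h2, h3, h4, h5⟩ := q8_sub_noncomm Q e _ _ hc he hne
  rw [e_conj_c, c_inv, c_inj] at h1
  rw [c_sq, e_sq, c_inj] at h2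
  rw [c_sq, c_mul_c, c_eq_one_iff] at h4
  rw [c_sq] at h3
  have hj : j = -i := h1.1
  subst hj
  have h6 : 2 * (2 * i) = 0 := by linear_combination h4.1
  have h7 : 2 * i = z2half d.n := by
    rcases (z2_two_mul_eq_zero d.n d.n_pos _).mp h6 with h | h
    · exfalso
      apply h3
      rw [c_eq_one_iff]
      exact ⟨h, by linear_combination (-1 : ZMod (2 ^ d.n)) * h⟩
    · exact h
  have hl : l = z2half d.n - k := by linear_combination h7 - h2.1
  subst hl
  exact ⟨i, k, h7, hc, he, h5⟩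

end WrData

namespace WrData
variable {S : Type*} [Group S] (d : WrData S)

theorem quat_le_quatS (Q : Subgroup S) (e : ↥Q ≃* QuaternionGroup 2) : Q ≤ d.quatS := by
  obtain ⟨a, k, ha, hx, hy, hgen⟩ := d.quat_struct Q e
  intro g hg
  obtain ⟨i, j, rfl⟩ := hgen g hg
  apply Subgroup.mul_mem
  · apply Subgroup.pow_mem
    rw [c_mem_quatS]; ring
  · apply Subgroup.pow_mem
    rw [e_mem_quatS]; ring

theorem four_mul_eq_zero (a x : ZMod (2 ^ d.n)) (ha : 2 * a = z2half d.n) (hx : 4 * x = 0) :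
    x = 0 ∨ x = a ∨ x = z2half d.n ∨ x = a + z2half d.n := by
  have h1 : 2 * (2 * x) = 0 := by linear_combination hx
  rcases (z2_two_mul_eq_zero d.n d.n_pos _).mp h1 with h | h
  · rcases (z2_two_mul_eq_zero d.n d.n_pos _).mp h with h | h
    · left; exact h
    · right; right; left; exact h
  · have h2 : 2 * (x - a) = 0 := by linear_combination h - ha
    rcases (z2_two_mul_eq_zero d.n d.n_pos _).mp h2 with h | h
    · right; left; linear_combination h
    · right; right; right; linear_combination h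

theorem quat_sup_center (Q : Subgroup S) (e : ↥Q ≃* QuaternionGroup 2) :
    ∃ k' : ZMod (2 ^ d.n), Q ⊔ Subgroup.center S = d.Vk (2 * k') ∧ Q = d.Vk (2 * k') ⊓ d.quatS := by
  obtain ⟨a, k, ha, hx, hy, hgen⟩ := d.quat_struct Q e
  have hh := z2_half_add_half d.n d.n_pos
  have hxV : d.c a (-a) ∈ d.Vk (2 * (k + a)) := by
    rw [c_mem_Vk']; linear_combination 2 * ha + hh
  have hyV : d.e k (z2half d.n - k) ∈ d.Vk (2 * (k + a)) := by
    rw [e_mem_Vk']; linear_combination (-2 : ZMod (2 ^ d.n)) * ha - 2 * hh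
  have hQV : Q ≤ d.Vk (2 * (k + a)) := by
    intro g hg
    obtain ⟨i, j, rfl⟩ := hgen g hg
    exact Subgroup.mul_mem _ (Subgroup.pow_mem _ hxV _) (Subgroup.pow_mem _ hyV _)
  have hcen : ∀ i, d.c i i ∈ Q ⊔ Subgroup.center S := fun i =>
    Subgroup.mem_sup_right ((d.mem_center_iff _).mpr ⟨i, rfl⟩)
  refine ⟨k + a, ?_, ?_⟩
  · apply le_antisymm
    · exact sup_le hQV (d.center_le_Vk _)
    · intro g hg
      rcases d.cases g with ⟨i, j, rfl⟩ | ⟨i, j, rfl⟩
      · rw [c_mem_Vk] at hg
        rcases hg with hg | hg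
        · have : j = i := by linear_combination (-1 : ZMod (2 ^ d.n)) * hg
          rw [this]; exact hcen i
        · have : d.c i j = d.c a (-a) * d.c (i - a) (i - a) := by
            rw [c_mul_c, c_inj]
            refine ⟨by ring, ?_⟩
            linear_combination (-1 : ZMod (2 ^ d.n)) * hg + ha
          rw [this]
          exact Subgroup.mul_mem _ (Subgroup.mem_sup_left hx) (hcen _)
      · rw [e_mem_Vk] at hg
        rcases hg with hg | hg
        · have : d.e i j = d.c (i - k) (i - k) * d.e k (z2half d.n - k) := by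
            rw [c_mul_e, e_inj]
            refine ⟨by ring, ?_⟩
            linear_combination (-1 : ZMod (2 ^ d.n)) * hg - ha - hh
          rw [this]
          exact Subgroup.mul_mem _ (hcen _) (Subgroup.mem_sup_left hy)
        · have : d.e i j = d.c a (-a) * (d.c (i - a - k) (i - a - k) * d.e k (z2half d.n - k)) := by
            rw [c_mul_e, c_mul_e, e_inj]
            refine ⟨by ring, ?_⟩
            linear_combination (-1 : ZMod (2 ^ d.n)) * hg - hh
          rw [this]
          exact Subgroup.mul_mem _ (Subgroup.mem_sup_left hx)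
            (Subgroup.mul_mem _ (hcen _) (Subgroup.mem_sup_left hy))
  · apply le_antisymm
    · exact le_inf hQV (d.quat_le_quatS Q e)
    · have hx2 : d.c (z2half d.n) (z2half d.n) ∈ Q := by
        have : d.c (z2half d.n) (z2half d.n) = d.c a (-a) * d.c a (-a) := by
          rw [c_mul_c, c_inj]
          refine ⟨by linear_combination (-1 : ZMod (2 ^ d.n)) * ha, ?_⟩
          linear_combination ha + hh
        rw [this]; exact Q.mul_mem hx hx
      intro g hg
      rw [Subgroup.mem_inf] at hg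
      obtain ⟨hgV, hgQ⟩ := hg
      rcases d.cases g with ⟨i, j, rfl⟩ | ⟨i, j, rfl⟩
      · rw [c_mem_quatS] at hgQ
        rw [c_mem_Vk'] at hgV
        have hj : j = -i := by linear_combination hgQ
        subst hj
        have h4 : 4 * i = 0 := by linear_combination hgV
        rcases d.four_mul_eq_zero a i ha h4 with h | h | h | h
        · subst h
          rw [neg_zero, c_zero]; exact Q.one_mem
        · subst h; exact hx
        · subst h
          rw [d.neg_half]; exact hx2
        · subst h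
          have : d.c (a + z2half d.n) (-(a + z2half d.n)) =
              d.c a (-a) * d.c (z2half d.n) (z2half d.n) := by
            rw [c_mul_c, c_inj]
            refine ⟨rfl, ?_⟩
            linear_combination (-1 : ZMod (2 ^ d.n)) * hh
          rw [this]; exact Q.mul_mem hx hx2
      · rw [e_mem_quatS] at hgQ
        rw [e_mem_Vk'] at hgV
        have hj : j = z2half d.n - i := by linear_combination hgQ
        subst hj
        have h4 : 4 * (i - k) = 0 := by linear_combination hgV + 2 * ha + 2 * hh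
        rcases d.four_mul_eq_zero a (i - k) ha h4 with h | h | h | h
        · have : i = k := by linear_combination h
          subst this; exact hy
        · have : d.e i (z2half d.n - i) = d.c a (-a) * d.e k (z2half d.n - k) := by
            rw [c_mul_e, e_inj]
            exact ⟨by linear_combination h, by linear_combination (-1 : ZMod (2 ^ d.n)) * h⟩
          rw [this]; exact Q.mul_mem hx hy
        · have : d.e i (z2half d.n - i) = d.c (z2half d.n) (z2half d.n) * d.e k (z2half d.n - k) := by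
            rw [c_mul_e, e_inj]
            exact ⟨by linear_combination h, by linear_combination (-1 : ZMod (2 ^ d.n)) * h - hh⟩
          rw [this]; exact Q.mul_mem hx2 hy
        · have : d.e i (z2half d.n - i) =
              d.c a (-a) * (d.c (z2half d.n) (z2half d.n) * d.e k (z2half d.n - k)) := by
            rw [c_mul_e, c_mul_e, e_inj]
            exact ⟨by linear_combination h, by linear_combination (-1 : ZMod (2 ^ d.n)) * h - hh⟩
          rw [this]; exact Q.mul_mem hx (Q.mul_mem hx2 hy)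

end WrData

end Cfsg.Agent.Lib.Helper3
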