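import Mathlib
import Cfsg.Agent.Lib.Helper3.Wr9

set_option autoImplicit false

namespace Cfsg.Agent.Lib.Helper3
open Cfsg.Agent.Lib.Lead

namespace WrData
variable {S : Type*} [Group S] (d : WrData S)

theorem one_ne_zero' : (1 : ZMod (2 ^ d.n)) ≠ 0 := by
  have : Fact (1 < 2 ^ d.n) := ⟨Nat.one_lt_two_pow (by have := d.n_pos; omega)⟩
  exact one_ne_zero

/-- the elements of `Vk (i - j)` normalize `⟨e i j⟩` as soon as it contains the central involution -/
theorem Vk_conj_e (i j : ZMod (2 ^ d.n)) (w : S) (hw : w ∈ d.Vk (i - j)) :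
    w * d.e i j * w⁻¹ = d.e i j ∨
      w * d.e i j * w⁻¹ = d.e i j * d.c (z2half d.n) (z2half d.n) := by
  have hh := z2_half_add_half d.n d.n_pos
  rcases d.cases w with ⟨k, l, rfl⟩ | ⟨k, l, rfl⟩
  · rw [c_mem_Vk] at hw
    rw [c_conj_e, e_mul_c, e_inj, e_inj]
    rcases hw with hw | hw
    · left; exact ⟨by linear_combination hw, by linear_combination (-1 : ZMod (2 ^ d.n)) * hw⟩
    · right
      exact ⟨by linear_combination hw, by linear_combination (-1 : ZMod (2 ^ d.n)) * hw - hh⟩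
  · rw [e_mem_Vk] at hw
    rw [e_conj_e, e_mul_c, e_inj, e_inj]
    rcases hw with hw | hw
    · left; exact ⟨by linear_combination hw, by linear_combination (-1 : ZMod (2 ^ d.n)) * hw⟩
    · right
      exact ⟨by linear_combination hw, by linear_combination (-1 : ZMod (2 ^ d.n)) * hw - hh⟩

/-- the central involution -/
theorem center_involution (g : S) (hg : g ∈ Subgroup.center S) (h2 : orderOf g = 2) :
    g = d.c (z2half d.n) (z2half d.n) := by
  rw [d.mem_center_iff] at hg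
  obtain ⟨k, rfl⟩ := hg
  rw [d.orderOf_eq_two_iff] at h2
  rcases h2 with h | h | h | ⟨i, h⟩
  · rw [c_inj] at h
    exact absurd (h.1.symm.trans h.2) d.half_ne_zero
  · rw [c_inj] at h
    exact absurd (h.2.symm.trans h.1) d.half_ne_zero
  · exact h
  · exact absurd h (d.c_ne_e _ _ _ _)

theorem e_sq_mem_center (i j : ZMod (2 ^ d.n)) : d.e i j * d.e i j ∈ Subgroup.center S := by
  rw [e_sq, d.mem_center_iff]; exact ⟨_, rfl⟩

theorem chh_mem_zpowers_e [Finite S] (i j : ZMod (2 ^ d.n)) (hsq : d.e i j * d.e i j ≠ 1) :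
    d.c (z2half d.n) (z2half d.n) ∈ Subgroup.zpowers (d.e i j) := by
  set y : S := d.e i j * d.e i j with hy
  have hyz : y ∈ Subgroup.zpowers (d.e i j) :=
    Subgroup.mul_mem _ (Subgroup.mem_zpowers _) (Subgroup.mem_zpowers _)
  have hyc : y ∈ Subgroup.center S := d.e_sq_mem_center i j
  have hdvd : orderOf y ∣ 2 ^ (2 * d.n + 1) := by
    rw [← d.card]; exact orderOf_dvd_natCard y
  obtain ⟨t, -, ht⟩ := (Nat.dvd_prime_pow Nat.prime_two).mp hdvd
  have ht0 : t ≠ 0 := by
    intro h0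
    rw [h0, pow_zero, orderOf_eq_one_iff] at ht
    exact hsq ht
  have h2 : 2 ∣ orderOf y := by
    rw [ht]; exact dvd_pow_self 2 ht0
  have hw : orderOf (y ^ (orderOf y / 2)) = 2 :=
    orderOf_pow_orderOf_div (orderOf_pos y).ne' h2
  have hwc : y ^ (orderOf y / 2) ∈ Subgroup.center S := Subgroup.pow_mem _ hyc _
  have := d.center_involution _ hwc hw
  rw [← this]
  exact Subgroup.pow_mem _ hyz _

theorem eκ0_mem_Vk (κ : ZMod (2 ^ d.n)) : d.e κ 0 ∈ d.Vk κ := by
  rw [e_mem_Vk]; left; ring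

theorem Vk_noncomm_elts (κ : ZMod (2 ^ d.n)) :
    d.e κ 0 * d.c (z2half d.n) 0 ≠ d.c (z2half d.n) 0 * d.e κ 0 := by
  intro h4
  rw [e_mul_c, c_mul_e, e_inj] at h4
  have := h4.2
  rw [zero_add, add_zero] at this
  exact d.half_ne_zero this

end WrData
end Cfsg.Agent.Lib.Helper3
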