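import Mathlib
import Cfsg.Agent.Lib.Helper3.QDFusion2
import Cfsg.Agent.Lib.Lead.ThompsonTransfer
import Cfsg.Agent.Lib.Helper4.NPC

set_option autoImplicit false

namespace Cfsg.Agent.Lib.Helper3
open Cfsg.Agent.Lib.Lead Cfsg.Agent.Lib.Helper4
open MulAction Function


theorem card_classes_eq_two {G : Type*} [Group G] (k : ℕ) (u v : G) (hu : orderOf u = k) (hv : orderOf v = k)
    (hne : ¬ IsConj u v) (hall : ∀ t : G, orderOf t = k → IsConj t u ∨ IsConj t v) :
    Nat.card {C : ConjClasses G // ∃ t : G, orderOf t = k ∧ ConjClasses.mk t = C} = 2 := by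
  rw [Nat.card_eq_two_iff]
  refine ⟨⟨ConjClasses.mk u, u, hu, rfl⟩, ⟨ConjClasses.mk v, v, hv, rfl⟩, ?_, ?_⟩
  · intro h
    have := congrArg Subtype.val h
    exact hne (ConjClasses.mk_eq_mk_iff_isConj.mp this)
  · rw [Set.eq_univ_iff_forall]
    rintro ⟨C, t, ht, rfl⟩
    rcases hall t ht with h | h
    · left
      apply Subtype.ext
      exact ConjClasses.mk_eq_mk_iff_isConj.mpr h
    · right
      apply Subtype.ext
      exact ConjClasses.mk_eq_mk_iff_isConj.mpr h

section
variable {G : Type*} [Group G] [Finite G] (S : Sylow 2 G) (d : QDData ↥(S : Subgroup G))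

theorem qd_card_inv_classes_of_not_conj
    (h : ¬ IsConj ((d.zz : ↥(S : Subgroup G)) : G) ((d.b 0 : ↥(S : Subgroup G)) : G)) :
    Nat.card {C : ConjClasses G // ∃ t : G, orderOf t = 2 ∧ ConjClasses.mk t = C} = 2 := by
  apply card_classes_eq_two 2 _ _ _ _ h (qd_involution_cases S d)
  · rw [Subgroup.orderOf_coe]; exact d.orderOf_zz
  · rw [Subgroup.orderOf_coe]
    have := d.orderOf_b_even 0
    rwa [mul_zero] at this

theorem qd_card_four_classes_of_not_conj
    (h : ¬ IsConj ((d.qq : ↥(S : Subgroup G)) : G) ((d.b 1 : ↥(S : Subgroup G)) : G)) :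
    Nat.card {C : ConjClasses G // ∃ t : G, orderOf t = 4 ∧ ConjClasses.mk t = C} = 2 := by
  apply card_classes_eq_two 4 _ _ _ _ h (qd_order_four_cases S d)
  · rw [Subgroup.orderOf_coe]; exact (d.orderOf_eq_four_iff _).mpr (Or.inl rfl)
  · rw [Subgroup.orderOf_coe]
    have := d.orderOf_b_odd 0
    rwa [mul_zero, zero_add] at this

end

/-- Thompson transfer for an element of `2`-power order: if the conjugates of `u ^ r` lying in the
Sylow subgroup `P` avoid the maximal subgroup `Q` exactly for `r = 1`, then `u` lies outside a normal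
subgroup of index two -/
theorem thompson_transfer_pow {G : Type*} [Group G] [Finite G] (P : Sylow 2 G) (Q : Subgroup G)
    (hQi : Q.relIndex (P : Subgroup G) = 2) (u : G) (k : ℕ) (hu : u ^ (2 ^ k) = 1)
    (hnc : ∀ g : G, g * u * g⁻¹ ∉ Q)
    (hc : ∀ (g : G) (r : ℕ), r ∣ 2 ^ k → r ≠ 1 → g * u ^ r * g⁻¹ ∈ (P : Subgroup G) →
      g * u ^ r * g⁻¹ ∈ Q) :
    ∃ M : Subgroup G, M.Normal ∧ M.index = 2 ∧ u ∉ M := by
  classical
  let ϕ : (P : Subgroup G) →* ℤˣ := signOfIndexTwo (P : Subgroup G) Q hQi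
  let V : G →* ℤˣ := MonoidHom.transfer ϕ
  let _ : Fintype (Quotient (orbitRel (Subgroup.zpowers u) (G ⧸ (P : Subgroup G)))) :=
    Fintype.ofFinite _
  have hk : ∀ q : Quotient (orbitRel (Subgroup.zpowers u) (G ⧸ (P : Subgroup G))),
      minimalPeriod (u • ·) q.out ∣ 2 ^ k := by
    intro q
    rw [← MulAction.pow_smul_eq_iff_minimalPeriod_dvd, hu, one_smul]
  have hVu : V u = -1 := by
    show MonoidHom.transfer ϕ u = -1
    rw [MonoidHom.transfer_eq_prod_quotient_orbitRel_zpowers_quot]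
    have hfac : ∀ q : Quotient (orbitRel (Subgroup.zpowers u) (G ⧸ (P : Subgroup G))),
        ϕ ⟨q.out.out⁻¹ * u ^ minimalPeriod (u • ·) q.out * q.out.out,
          QuotientGroup.out_conj_pow_minimalPeriod_mem (P : Subgroup G) u q.out⟩
        = (-1 : ℤˣ) ^ minimalPeriod (u • ·) q.out := by
      intro q
      rw [signOfIndexTwo_apply]
      have hmem := QuotientGroup.out_conj_pow_minimalPeriod_mem (P : Subgroup G) u q.out
      by_cases h1 : minimalPeriod (u • ·) q.out = 1
      · simp only [h1, pow_one]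
        have := hnc (q.out.out⁻¹)
        rw [inv_inv] at this
        rw [if_neg this]
      · have h2 := hc (q.out.out⁻¹) _ (hk q) h1 (by rw [inv_inv]; exact hmem)
        rw [inv_inv] at h2
        rw [if_pos h2]
        obtain ⟨j, -, hj⟩ := (Nat.dvd_prime_pow Nat.prime_two).mp (hk q)
        rw [hj] at h1 ⊢
        have hj0 : j ≠ 0 := by
          intro h0; rw [h0] at h1; exact h1 rfl
        have : Even (2 ^ j) := (Nat.even_pow' hj0).mpr even_two
        exact (this.neg_one_pow).symm
    rw [Finset.prod_congr rfl (fun q _ => hfac q), Finset.prod_pow_eq_pow_sum]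
    have hsum : ∑ q : Quotient (orbitRel (Subgroup.zpowers u) (G ⧸ (P : Subgroup G))),
        minimalPeriod (u • ·) q.out = (P : Subgroup G).index := by
      haveI : ∀ q : Quotient (orbitRel (Subgroup.zpowers u) (G ⧸ (P : Subgroup G))),
          Finite (ZMod (minimalPeriod (u • ·) q.out)) := by
        intro q
        haveI : NeZero (minimalPeriod (u • ·) q.out) :=
          ⟨fun h0 => by have := hk q; rw [h0] at this; simp at this⟩
        infer_instance
      have h1 := Nat.card_congr (Subgroup.quotientEquivSigmaZMod (P : Subgroup G) u)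
      rw [Nat.card_sigma] at h1
      simp only [Nat.card_zmod] at h1
      rw [Subgroup.index_eq_card, h1]
    rw [hsum]
    have hodd : Odd (P : Subgroup G).index := by
      rw [← Nat.not_even_iff_odd, even_iff_two_dvd]
      exact P.not_dvd_index
    exact hodd.neg_one_pow
  refine ⟨V.ker, MonoidHom.normal_ker V, ?_, ?_⟩
  · rw [Subgroup.index_ker]
    have hr : V.range = ⊤ := by
      rw [eq_top_iff]
      intro x _
      rcases Int.units_eq_one_or x with h | h
      · rw [h]; exact V.range.one_mem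
      · rw [h]; exact ⟨u, hVu⟩
    rw [hr, Subgroup.card_top, Nat.card_eq_fintype_card, Fintype.card_units_int]
  · intro hmem
    rw [MonoidHom.mem_ker, hVu] at hmem
    exact absurd hmem (by decide)



/-- a normal subgroup of `2`-power index with a cyclic Sylow `2`-subgroup forces a normal
`2`-complement -/
theorem hasNormalPComplement_two_of_normal_cyclic {G : Type*} [Group G] [Finite G] (N : Subgroup G)
    [hN : N.Normal] (k : ℕ) (hidx : N.index = 2 ^ k) (P : Sylow 2 ↥N) (hP : IsCyclic ↥(P : Subgroup ↥N)) :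
    Cfsg.HasNormalPComplement 2 G := by
  by_cases hodd : (Nat.card ↥N).Coprime 2
  · exact hasNormalPComplement_of_normal_coprime N hN hodd k hidx
  have h2 : 2 ∣ Nat.card ↥N := by
    by_contra h
    exact hodd ((Nat.Prime.coprime_iff_not_dvd Nat.prime_two).mpr h).symm
  have hmin : (Nat.card ↥N).minFac = 2 := (Nat.minFac_eq_two_iff _).mpr h2
  have hnc := IsCyclic.normalizer_le_centralizer hmin hP
  set f := MonoidHom.transferSylow P hnc with hf
  have hc : f.ker.IsComplement' (P : Subgroup ↥N) := MonoidHom.ker_transferSylow_isComplement' P hnc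
  have hcard : Nat.card f.ker * Nat.card (P : Subgroup ↥N) = Nat.card ↥N := hc.card_mul_card
  have hPi : Nat.card (P : Subgroup ↥N) * (P : Subgroup ↥N).index = Nat.card ↥N :=
    Subgroup.card_mul_index _
  have hker : Nat.card f.ker = (P : Subgroup ↥N).index := by
    have : Nat.card (P : Subgroup ↥N) * Nat.card f.ker =
        Nat.card (P : Subgroup ↥N) * (P : Subgroup ↥N).index := by rw [hPi, mul_comm, hcard]
    exact Nat.eq_of_mul_eq_mul_left Nat.card_pos this
  have hkodd : (Nat.card f.ker).Coprime 2 := by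
    rw [hker, Nat.coprime_comm, Nat.Prime.coprime_iff_not_dvd Nat.prime_two]
    exact P.not_dvd_index
  have hKn : (f.ker.map N.subtype).Normal := by
    constructor
    rintro _ ⟨k₀, hk₀, rfl⟩ g
    have hmem : g * (N.subtype k₀) * g⁻¹ ∈ N := hN.conj_mem _ k₀.2 g
    refine ⟨⟨_, hmem⟩, ?_, rfl⟩
    rw [SetLike.mem_coe, MonoidHom.mem_ker]
    have hpow : (⟨_, hmem⟩ : ↥N) ^ Nat.card f.ker = 1 := by
      apply Subtype.ext
      rw [Subgroup.coe_pow, Subgroup.coe_one]
      show (g * (k₀ : G) * g⁻¹) ^ Nat.card f.ker = 1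
      rw [conj_pow]
      have : (⟨k₀, hk₀⟩ : ↥f.ker) ^ Nat.card f.ker = 1 := pow_card_eq_one'
      have h' : (k₀ : G) ^ Nat.card f.ker = 1 := by
        have := congrArg (fun x : ↥f.ker => ((x : ↥N) : G)) this
        simpa using this
      rw [h']; group
    have h1 : (f ⟨_, hmem⟩) ^ Nat.card f.ker = 1 := by rw [← map_pow, hpow, map_one]
    obtain ⟨j, hj⟩ := P.isPGroup' (f ⟨_, hmem⟩)
    have h3 : orderOf (f ⟨_, hmem⟩) ∣ Nat.gcd (Nat.card f.ker) (2 ^ j) :=
      Nat.dvd_gcd (orderOf_dvd_of_pow_eq_one h1) (orderOf_dvd_of_pow_eq_one hj)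
    have h4 : Nat.gcd (Nat.card f.ker) (2 ^ j) = 1 := Nat.Coprime.pow_right j hkodd
    rw [h4, Nat.dvd_one, orderOf_eq_one_iff] at h3
    exact h3
  obtain ⟨j, hj⟩ := IsPGroup.iff_card.mp P.isPGroup'
  apply hasNormalPComplement_of_normal_coprime (f.ker.map N.subtype) hKn _ (k + j)
  · rw [Subgroup.index_map_subtype, hidx]
    have : f.ker.index = 2 ^ j := by
      have h1 := f.ker.card_mul_index
      rw [← hcard, hj] at h1
      exact Nat.eq_of_mul_eq_mul_left Nat.card_pos h1
    rw [this, pow_add, mul_comm]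
  · rw [Subgroup.card_map_of_injective N.subtype_injective]
    exact hkodd



theorem relIndex_map_subtype_of_index {G : Type*} [Group G] (S : Subgroup G) (H : Subgroup ↥S) :
    (H.map S.subtype).relIndex S = H.index := by
  have h1 := Subgroup.relIndex_map_map_of_injective H ⊤ S.subtype_injective
  rw [Subgroup.relIndex_top_right] at h1
  rw [← h1]
  congr 1
  rw [← MonoidHom.range_eq_map, Subgroup.range_subtype]

theorem coe_mem_map_subtype_iff {G : Type*} [Group G] (S : Subgroup G) (H : Subgroup ↥S) (s : ↥S) :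
    (s : G) ∈ H.map S.subtype ↔ s ∈ H := by
  constructor
  · rintro ⟨t, ht, h⟩
    have : t = s := Subtype.ext h
    rw [← this]; exact ht
  · intro h; exact ⟨s, h, rfl⟩

section
variable {G : Type*} [Group G] [Finite G] (S : Sylow 2 G) (d : QDData ↥(S : Subgroup G))

theorem qd_exists_index_two_of_not_conj_inv
    (h : ¬ IsConj ((d.zz : ↥(S : Subgroup G)) : G) ((d.b 0 : ↥(S : Subgroup G)) : G)) :
    ∃ M : Subgroup G, M.Normal ∧ M.index = 2 ∧ ((d.b 0 : ↥(S : Subgroup G)) : G) ∉ M := by
  have ho : orderOf ((d.b 0 : ↥(S : Subgroup G)) : G) = 2 := by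
    rw [Subgroup.orderOf_coe]
    have := d.orderOf_b_even 0
    rwa [mul_zero] at this
  apply thompson_transfer S (d.subQ.map (S : Subgroup G).subtype)
    (by rw [relIndex_map_subtype_of_index, d.index_subQ]) _ ho
  intro g hmem
  obtain ⟨s, hs, hsg⟩ := hmem
  have hso : orderOf s = 2 := by
    rw [← Subgroup.orderOf_coe]
    have e1 : ((s : ↥(S : Subgroup G)) : G) = MulAut.conj g ((d.b 0 : ↥(S : Subgroup G)) : G) := by
      rw [MulAut.conj_apply]; exact hsg
    rw [e1, MulEquiv.orderOf_eq]; exact ho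
  rw [d.orderOf_eq_two_iff] at hso
  rcases hso with rfl | ⟨j, rfl⟩
  · apply h
    have : IsConj ((d.b 0 : ↥(S : Subgroup G)) : G) ((d.zz : ↥(S : Subgroup G)) : G) :=
      isConj_iff.mpr ⟨g, hsg.symm⟩
    exact this.symm
  · have := (d.b_mem_subQ_iff (2 * j)).mp hs
    rw [d.par_even] at this
    exact zero_ne_one this

theorem qd_exists_index_two_of_not_conj_four
    (h : ¬ IsConj ((d.qq : ↥(S : Subgroup G)) : G) ((d.b 1 : ↥(S : Subgroup G)) : G)) :
    ∃ M : Subgroup G, M.Normal ∧ M.index = 2 ∧ ((d.b 1 : ↥(S : Subgroup G)) : G) ∉ M := by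
  have ho : orderOf ((d.b 1 : ↥(S : Subgroup G)) : G) = 4 := by
    rw [Subgroup.orderOf_coe]
    have := d.orderOf_b_odd 0
    rwa [mul_zero, zero_add] at this
  have hsq : ((d.b 1 : ↥(S : Subgroup G)) : G) ^ 2 = ((d.zz : ↥(S : Subgroup G)) : G) := by
    have := d.b_odd_sq 0
    rw [mul_zero, zero_add] at this
    rw [pow_two, ← this]; rfl
  apply thompson_transfer_pow S (d.subD.map (S : Subgroup G).subtype)
    (by rw [relIndex_map_subtype_of_index, d.index_subD]) _ 2
  · have : (2 : ℕ) ^ 2 = 4 := by norm_num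
    rw [this, ← ho]; exact pow_orderOf_eq_one _
  · intro g hmem
    obtain ⟨s, hs, hsg⟩ := hmem
    have hso : orderOf s = 4 := by
      rw [← Subgroup.orderOf_coe]
      have e1 : ((s : ↥(S : Subgroup G)) : G) = MulAut.conj g ((d.b 1 : ↥(S : Subgroup G)) : G) := by
        rw [MulAut.conj_apply]; exact hsg
      rw [e1, MulEquiv.orderOf_eq]; exact ho
    have hc : IsConj ((s : ↥(S : Subgroup G)) : G) ((d.b 1 : ↥(S : Subgroup G)) : G) :=
      (isConj_iff.mpr ⟨g, hsg.symm⟩).symm
    rw [d.orderOf_eq_four_iff] at hso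
    rcases hso with rfl | rfl | ⟨j, rfl⟩
    · exact h hc
    · exact h ((qd_isConj_qq_zz S d).trans hc)
    · have := (d.b_mem_subD_iff (2 * j + 1)).mp hs
      rw [d.par_odd] at this
      exact one_ne_zero this
  · intro g r hr hr1 hmem
    have hr' : r = 2 ∨ r = 4 := by
      have : r ∣ 4 := by simpa using hr
      have hle := Nat.le_of_dvd (by norm_num) this
      interval_cases r <;> simp_all
    rcases hr' with rfl | rfl
    · rw [hsq] at hmem ⊢
      have hso : orderOf (⟨_, hmem⟩ : ↥(S : Subgroup G)) = 2 := by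
        rw [← Subgroup.orderOf_coe]
        have e1 : g * ((d.zz : ↥(S : Subgroup G)) : G) * g⁻¹ =
            MulAut.conj g ((d.zz : ↥(S : Subgroup G)) : G) := by rw [MulAut.conj_apply]
        show orderOf (g * ((d.zz : ↥(S : Subgroup G)) : G) * g⁻¹) = 2
        rw [e1, MulEquiv.orderOf_eq, Subgroup.orderOf_coe]; exact d.orderOf_zz
      rw [d.orderOf_eq_two_iff] at hso
      refine ⟨⟨_, hmem⟩, ?_, rfl⟩
      rcases hso with h' | ⟨j, h'⟩
      · rw [h']
        show d.zz ∈ d.subD
        unfold QDData.zz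
        rw [d.a_mem_subD_iff]; exact d.par_half
      · rw [h']
        show d.b (2 * j) ∈ d.subD
        rw [d.b_mem_subD_iff]; exact d.par_even j
    · have : ((d.b 1 : ↥(S : Subgroup G)) : G) ^ 4 = 1 := by rw [← ho]; exact pow_orderOf_eq_one _
      rw [this]
      have : g * 1 * g⁻¹ = 1 := by group
      rw [this]; exact Subgroup.one_mem _

/-- a normal subgroup containing no `b i` has cyclic Sylow `2`-subgroups -/
theorem qd_cyclic_sylow_of_no_b (N : Subgroup G) [hN : N.Normal]
    (hb : ∀ i, ((d.b i : ↥(S : Subgroup G)) : G) ∉ N) (P : Sylow 2 ↥N) :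
    IsCyclic ↥(P : Subgroup ↥N) := by
  have hPp : IsPGroup 2 ↥((P : Subgroup ↥N).map N.subtype) := P.isPGroup'.map _
  obtain ⟨S', hS'⟩ := hPp.exists_le_sylow
  obtain ⟨g, hg⟩ := MulAction.exists_smul_eq G S S'
  have hconj : ∀ y : ↥(P : Subgroup ↥N), g⁻¹ * ((y : ↥N) : G) * g ∈ (S : Subgroup G) := by
    intro y
    have h1 : ((y : ↥N) : G) ∈ (S' : Subgroup G) := hS' ⟨y, y.2, rfl⟩
    rw [← hg, Sylow.coe_subgroup_smul, mem_conj_smul_iff'] at h1
    exact h1
  have hzp : ∀ y : ↥(P : Subgroup ↥N),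
      (⟨_, hconj y⟩ : ↥(S : Subgroup G)) ∈ Subgroup.zpowers d.x := by
    intro y
    rcases d.cases ⟨_, hconj y⟩ with ⟨i, hi⟩ | ⟨i, hi⟩
    · rw [hi]; exact d.a_mem_zpowers i
    · exfalso
      apply hb i
      have h1 : g⁻¹ * ((y : ↥N) : G) * g ∈ N := by
        have := hN.conj_mem _ (y : ↥N).2 g⁻¹
        rwa [inv_inv] at this
      have h2 : g⁻¹ * ((y : ↥N) : G) * g = ((d.b i : ↥(S : Subgroup G)) : G) :=
        congrArg Subtype.val hi
      rw [← h2]; exact h1
  let ψ : ↥(P : Subgroup ↥N) →* ↥(Subgroup.zpowers d.x) :=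
    { toFun := fun y => ⟨⟨_, hconj y⟩, hzp y⟩
      map_one' := by
        apply Subtype.ext; apply Subtype.ext
        simp
      map_mul' := by
        intro y₁ y₂
        apply Subtype.ext; apply Subtype.ext
        simp only [Subgroup.coe_mul]
        group }
  have hψ : Function.Injective ψ := by
    intro y₁ y₂ h
    have h1 : g⁻¹ * ((y₁ : ↥N) : G) * g = g⁻¹ * ((y₂ : ↥N) : G) * g := by
      have := congrArg (fun t : ↥(Subgroup.zpowers d.x) => ((t : ↥(S : Subgroup G)) : G)) h
      exact this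
    apply Subtype.ext; apply Subtype.ext
    have h2 := mul_right_cancel h1
    exact mul_left_cancel h2
  exact isCyclic_of_injective ψ hψ

end


end Cfsg.Agent.Lib.Helper3
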