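import Mathlib
import Cfsg.Agent.Lib.Helper3.QDFusion3
import Cfsg.Agent.Lib.Lead.FrobNPC5
import Cfsg.Agent.Lib.Lead.Residual

set_option autoImplicit false

namespace Cfsg.Agent.Lib.Helper3
open Cfsg.Agent.Lib.Lead


/-- the `2'`-part of an element has odd order -/
theorem orderOf_pow_two_factorization_coprime {G : Type*} [Group G] [Finite G] (g : G) :
    (orderOf (g ^ (2 ^ (Nat.card G).factorization 2))).Coprime 2 := by
  have hne : Nat.card G ≠ 0 := Nat.card_pos.ne'
  have h1 : (g ^ (2 ^ (Nat.card G).factorization 2)) ^ (Nat.card G / 2 ^ (Nat.card G).factorization 2) = 1 := by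
    rw [← pow_mul, Nat.ordProj_mul_ordCompl_eq_self]
    exact pow_card_eq_one'
  have h2 := orderOf_dvd_of_pow_eq_one h1
  have h3 : Nat.Coprime 2 (Nat.card G / 2 ^ (Nat.card G).factorization 2) :=
    Nat.coprime_ordCompl Nat.prime_two hne
  exact (Nat.Coprime.coprime_dvd_right h2 h3).symm

/-- if `C` is normal of relative index six in `N`, some element of odd order of `N` lies outside `C` -/
theorem exists_odd_order_not_mem {G : Type*} [Group G] [Finite G] (N C : Subgroup G)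
    (hC : (C.subgroupOf N).Normal) (h6 : C.relIndex N = 6) :
    ∃ τ ∈ N, (orderOf τ).Coprime 2 ∧ τ ∉ C := by
  by_contra hne
  push Not at hne
  have hp : IsPGroup 2 (↥N ⧸ C.subgroupOf N) := by
    intro x
    obtain ⟨n, rfl⟩ := QuotientGroup.mk_surjective x
    refine ⟨(Nat.card G).factorization 2, ?_⟩
    rw [← QuotientGroup.mk_pow, QuotientGroup.eq_one_iff, Subgroup.mem_subgroupOf, Subgroup.coe_pow]
    exact hne _ (N.pow_mem n.2 _) (orderOf_pow_two_factorization_coprime (n : G))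
  obtain ⟨j, hj⟩ := IsPGroup.iff_card.mp hp
  have h6' : Nat.card (↥N ⧸ C.subgroupOf N) = 6 := by
    rw [← Subgroup.index_eq_card]; exact h6
  rw [h6'] at hj
  have hj3 : j < 3 := by
    by_contra h
    push Not at h
    have : 2 ^ 3 ≤ 2 ^ j := Nat.pow_le_pow_right (by norm_num) h
    omega
  interval_cases j <;> omega

theorem card_sylow_of_index_two {G : Type*} [Group G] [Finite G] (K : Subgroup G) (hK : K.index = 2)
    (S : Sylow 2 G) (P : Sylow 2 ↥K) : Nat.card ↥(P : Subgroup ↥K) * 2 = Nat.card ↥(S : Subgroup G) := by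
  rw [Sylow.card_eq_multiplicity, Sylow.card_eq_multiplicity]
  have h1 : Nat.card G = Nat.card ↥K * 2 := by rw [← hK, Subgroup.card_mul_index]
  rw [h1, Nat.factorization_mul Nat.card_pos.ne' (by norm_num), Finsupp.add_apply,
    Nat.Prime.factorization_self Nat.prime_two, pow_succ]

theorem sylow_equiv_of_le_of_card {G : Type*} [Group G] [Finite G] (K : Subgroup G) (hK : K.index = 2)
    (S : Sylow 2 G) (P₀ : Subgroup G) (hP₀K : P₀ ≤ K)
    (hcard : Nat.card ↥P₀ * 2 = Nat.card ↥(S : Subgroup G)) (P : Sylow 2 ↥K) :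
    Nonempty (↥(P : Subgroup ↥K) ≃* ↥P₀) := by
  obtain ⟨k, hk⟩ := IsPGroup.iff_card.mp S.isPGroup'
  have hdvd : Nat.card ↥P₀ ∣ 2 ^ k := by rw [← hk, ← hcard]; exact dvd_mul_right _ _
  obtain ⟨j, -, hj⟩ := (Nat.dvd_prime_pow Nat.prime_two).mp hdvd
  have hP₀p : IsPGroup 2 ↥(P₀.subgroupOf K) :=
    IsPGroup.of_card (n := j) (by rw [card_subgroupOf_of_le hP₀K, hj])
  obtain ⟨P', hP'⟩ := hP₀p.exists_le_sylow
  have hc' := card_sylow_of_index_two K hK S P'
  have heq : P₀.subgroupOf K = (P' : Subgroup ↥K) := by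
    apply Subgroup.eq_of_le_of_card_ge hP'
    rw [card_subgroupOf_of_le hP₀K]
    omega
  have e1 : ↥(P : Subgroup ↥K) ≃* ↥(P' : Subgroup ↥K) := Sylow.equiv P P'
  have e2 : ↥(P' : Subgroup ↥K) ≃* ↥(P₀.subgroupOf K) := MulEquiv.subgroupCongr heq.symm
  exact ⟨(e1.trans e2).trans (Subgroup.subgroupOfEquivOfLe hP₀K)⟩

theorem no_index_two_of_le_pResidual {G : Type*} [Group G] [Finite G] (K : Subgroup G)
    (hK : K.index = 2) (S : Sylow 2 G) (P₀ : Subgroup G) (hP₀ : P₀ ≤ Cfsg.pResidual 2 G)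
    (hcard : Nat.card ↥P₀ * 2 = Nat.card ↥(S : Subgroup G)) (H : Subgroup ↥K) : H.index ≠ 2 := by
  intro hH
  have : K.Normal := Subgroup.normal_of_index_eq_two hK
  have : H.Normal := Subgroup.normal_of_index_eq_two hH
  have : Fact (Nat.Prime 2) := ⟨Nat.prime_two⟩
  have hO : Cfsg.pResidual 2 G ≤ H.map K.subtype := by
    unfold Cfsg.pResidual
    rw [Subgroup.closure_le]
    intro g hg
    have hgK : g ∈ K := mem_of_coprime_orderOf (p := 2) K ⟨1, by rw [hK, pow_one]⟩ g hg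
    have hgH : (⟨g, hgK⟩ : ↥K) ∈ H :=
      mem_of_coprime_orderOf (p := 2) H ⟨1, by rw [hH, pow_one]⟩ _ (by
        rw [Subgroup.orderOf_mk]; exact hg)
    exact ⟨⟨g, hgK⟩, hgH, rfl⟩
  have hle : P₀ ≤ H.map K.subtype := hP₀.trans hO
  have hdvd : Nat.card ↥P₀ ∣ Nat.card ↥H := by
    have := Subgroup.card_dvd_of_le hle
    rwa [Subgroup.card_map_of_injective K.subtype_injective] at this
  obtain ⟨r, hr⟩ := hdvd
  have h1 : Nat.card ↥H * 2 = Nat.card ↥K := by rw [← hH, Subgroup.card_mul_index]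
  have h2 : Nat.card ↥K * 2 = Nat.card G := by rw [← hK, Subgroup.card_mul_index]
  have h3 : Nat.card ↥(S : Subgroup G) * (S : Subgroup G).index = Nat.card G :=
    Subgroup.card_mul_index _
  apply S.not_dvd_index
  refine ⟨r, ?_⟩
  have hpos : 0 < Nat.card ↥(S : Subgroup G) := Nat.card_pos
  apply Nat.eq_of_mul_eq_mul_left hpos
  rw [h3, ← h2, ← h1, hr, ← hcard]
  ring



section
variable {G : Type*} [Group G] [Finite G] (S : Sylow 2 G) (d : QDData ↥(S : Subgroup G))

omit [Finite G] in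
theorem qd_a_even_mem_of_index_two (K : Subgroup G) (hK : K.index = 2) (j : ZMod (2 ^ d.n)) :
    ((d.a (2 * j) : ↥(S : Subgroup G)) : G) ∈ K := by
  have : d.a (2 * j) = d.a j * d.a j := by rw [two_mul, d.a_add]
  rw [this, Subgroup.coe_mul]
  exact Subgroup.mul_self_mem_of_index_two hK _

omit [Finite G] in
theorem qd_subD_le_of_index_two (K : Subgroup G) (hK : K.index = 2)
    (hinv : IsConj ((d.zz : ↥(S : Subgroup G)) : G) ((d.b 0 : ↥(S : Subgroup G)) : G)) :
    d.subD.map (S : Subgroup G).subtype ≤ K := by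
  have : K.Normal := Subgroup.normal_of_index_eq_two hK
  rintro _ ⟨s, hs, rfl⟩
  rcases d.cases s with ⟨i, rfl⟩ | ⟨i, rfl⟩
  · have hp := (d.a_mem_subD_iff i).mp hs
    obtain ⟨j, rfl⟩ := (d.par_eq_zero_iff i).mp hp
    exact qd_a_even_mem_of_index_two S d K hK j
  · have hp := (d.b_mem_subD_iff i).mp hs
    obtain ⟨j, rfl⟩ := (d.par_eq_zero_iff i).mp hp
    have h0 := isConj_mem_normal K _ _ hinv (qd_zz_mem_of_index_two S d K hK)
    have hc := qd_isConj_b_even S d 0 j
    rw [mul_zero] at hc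
    exact isConj_mem_normal K _ _ hc h0

omit [Finite G] in
theorem qd_subQ_le_of_index_two (K : Subgroup G) (hK : K.index = 2)
    (hfour : IsConj ((d.qq : ↥(S : Subgroup G)) : G) ((d.b 1 : ↥(S : Subgroup G)) : G)) :
    d.subQ.map (S : Subgroup G).subtype ≤ K := by
  have : K.Normal := Subgroup.normal_of_index_eq_two hK
  rintro _ ⟨s, hs, rfl⟩
  rcases d.cases s with ⟨i, rfl⟩ | ⟨i, rfl⟩
  · have hp := (d.a_mem_subQ_iff i).mp hs
    obtain ⟨j, rfl⟩ := (d.par_eq_zero_iff i).mp hp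
    exact qd_a_even_mem_of_index_two S d K hK j
  · have hp := (d.b_mem_subQ_iff i).mp hs
    obtain ⟨j, rfl⟩ := (d.par_eq_one_iff i).mp hp
    have h0 := isConj_mem_normal K _ _ hfour (qd_qq_mem_of_index_two S d K hK)
    have hc := qd_isConj_b_odd S d 0 j
    rw [mul_zero, zero_add] at hc
    exact isConj_mem_normal K _ _ hc h0

/-- a normal subgroup containing an involution contains `subD` when all involutions are conjugate -/
theorem qd_subD_le_normal_of_inv (O : Subgroup G) [hO : O.Normal] (w : G) (hw : w ∈ O)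
    (hwo : orderOf w = 2)
    (hinv : IsConj ((d.zz : ↥(S : Subgroup G)) : G) ((d.b 0 : ↥(S : Subgroup G)) : G)) :
    d.subD.map (S : Subgroup G).subtype ≤ O := by
  have hz : ((d.zz : ↥(S : Subgroup G)) : G) ∈ O := by
    rcases qd_involution_cases S d w hwo with h | h
    · exact isConj_mem_normal O _ _ h hw
    · exact isConj_mem_normal O _ _ (h.trans hinv.symm) hw
  have hb : ∀ j, ((d.b (2 * j) : ↥(S : Subgroup G)) : G) ∈ O := by
    intro j
    have h0 := isConj_mem_normal O _ _ hinv hz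
    have hc := qd_isConj_b_even S d 0 j
    rw [mul_zero] at hc
    exact isConj_mem_normal O _ _ hc h0
  rintro _ ⟨s, hs, rfl⟩
  rcases d.cases s with ⟨i, rfl⟩ | ⟨i, rfl⟩
  · have hp := (d.a_mem_subD_iff i).mp hs
    obtain ⟨j, rfl⟩ := (d.par_eq_zero_iff i).mp hp
    have : d.a (2 * j) = d.b (2 * j) * d.b (2 * 0) := by
      rw [d.b_mul_b, mul_zero, mul_zero, add_zero]
    rw [this]
    exact O.mul_mem (hb j) (hb 0)
  · have hp := (d.b_mem_subD_iff i).mp hs
    obtain ⟨j, rfl⟩ := (d.par_eq_zero_iff i).mp hp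
    exact hb j

/-- a normal subgroup containing an element of order four contains `subQ` when all such elements are
conjugate -/
theorem qd_subQ_le_normal_of_four (O : Subgroup G) [hO : O.Normal] (w : G) (hw : w ∈ O)
    (hwo : orderOf w = 4)
    (hfour : IsConj ((d.qq : ↥(S : Subgroup G)) : G) ((d.b 1 : ↥(S : Subgroup G)) : G)) :
    d.subQ.map (S : Subgroup G).subtype ≤ O := by
  have hq : ((d.qq : ↥(S : Subgroup G)) : G) ∈ O := by
    rcases qd_order_four_cases S d w hwo with h | h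
    · exact isConj_mem_normal O _ _ h hw
    · exact isConj_mem_normal O _ _ (h.trans hfour.symm) hw
  have hb : ∀ j, ((d.b (2 * j + 1) : ↥(S : Subgroup G)) : G) ∈ O := by
    intro j
    have h0 := isConj_mem_normal O _ _ hfour hq
    have hc := qd_isConj_b_odd S d 0 j
    rw [mul_zero, zero_add] at hc
    exact isConj_mem_normal O _ _ hc h0
  rintro _ ⟨s, hs, rfl⟩
  rcases d.cases s with ⟨i, rfl⟩ | ⟨i, rfl⟩
  · have hp := (d.a_mem_subQ_iff i).mp hs
    obtain ⟨j, rfl⟩ := (d.par_eq_zero_iff i).mp hp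
    have : d.a (2 * j) = d.b (2 * (j - z2quarter d.n) + 1) * d.b (2 * 0 + 1) := by
      rw [d.b_mul_b, mul_zero, zero_add, mul_one]
      congr 1
      have h1 := d.kk_add_one
      have h2 := z2_two_mul_quarter d.n d.n_two
      have h3 := z2_half_add_half d.n d.n_pos
      linear_combination h2 - h1
    rw [this]
    exact O.mul_mem (hb _) (hb 0)
  · have hp := (d.b_mem_subQ_iff i).mp hs
    obtain ⟨j, rfl⟩ := (d.par_eq_one_iff i).mp hp
    exact hb j

/-- with `|N(T) : C(T)| = 6` the subgroup generated by elements of odd order contains an involution -/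
theorem qd_exists_inv_mem_pResidual (T : Subgroup G) (hT : IsKleinFour T)
    (h6 : (Subgroup.centralizer (T : Set G)).relIndex (Subgroup.normalizer (T : Set G)) = 6) :
    ∃ w ∈ Cfsg.pResidual 2 G, orderOf w = 2 := by
  have hCn : ((Subgroup.centralizer (T : Set G)).subgroupOf (Subgroup.normalizer (T : Set G))).Normal := by
    rw [← Subgroup.normalizerMonoidHom_ker]; exact MonoidHom.normal_ker _
  obtain ⟨τ, hτN, hτo, hτC⟩ := exists_odd_order_not_mem _ _ hCn h6
  rw [Subgroup.mem_centralizer_iff] at hτC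
  push Not at hτC
  obtain ⟨t, ht, hne⟩ := hτC
  have hO : (Cfsg.pResidual 2 G).Normal := pResidual_normal 2
  have hτO : τ ∈ Cfsg.pResidual 2 G := mem_pResidual_of_coprime hτo
  refine ⟨τ * t * τ⁻¹ * t⁻¹, ?_, ?_⟩
  · have : τ * t * τ⁻¹ * t⁻¹ = τ * (t * τ⁻¹ * t⁻¹) := by group
    rw [this]
    exact Subgroup.mul_mem _ hτO (hO.conj_mem _ (Subgroup.inv_mem _ hτO) t)
  · apply klein_orderOf T hT
    · exact T.mul_mem ((Subgroup.mem_normalizer_iff.mp hτN t).mp ht) (T.inv_mem ht)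
    · intro h1
      apply hne
      have : τ * t = (τ * t * τ⁻¹ * t⁻¹) * (t * τ) := by group
      rw [this, h1, one_mul]

end



section Q8FixB
variable {G : Type*} [Group G] (Q : Subgroup G) (e : ↥Q ≃* QuaternionGroup 2)

include e in
/-- an element normalizing every subgroup of order four of `Q` acts on `Q` as an inner
automorphism -/
theorem q8_fix_all' (n : G)
    (hfix : ∀ w ∈ Q, w ^ 4 = 1 → w * w ≠ 1 → n * w * n⁻¹ ∈ Subgroup.zpowers w) :
    ∃ q ∈ Q, q⁻¹ * n ∈ Subgroup.centralizer (Q : Set G) := by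
  obtain ⟨u, v, huQ, hvQ, hu2, hv2, huv, -, hgen⟩ := q8_sub_gens' Q e
  have hu4 : u ^ 4 = 1 := q8_sub_pow_four Q e u huQ
  have hv4 : v ^ 4 = 1 := q8_sub_pow_four Q e v hvQ
  have hconj : ∀ w : G, w ∈ Q → w ^ 4 = 1 → w * w ≠ 1 → n * w * n⁻¹ = w ∨ n * w * n⁻¹ = w⁻¹ := by
    intro w hwQ hw4 hw2
    exact conj_generator_order_four w n hw4 hw2 (hfix w hwQ hw4 hw2)
  have hvu : v * u * v⁻¹ = u⁻¹ := by
    rcases q8_sub_conj Q e u v huQ hvQ with h | h
    · exfalso; apply huv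
      calc u * v = (v * u * v⁻¹) * v := by rw [h]
        _ = v * u := by group
    · exact h
  have huv' : u * v * u⁻¹ = v⁻¹ := by
    rcases q8_sub_conj Q e v u hvQ huQ with h | h
    · exfalso; apply huv
      calc u * v = (u * v * u⁻¹) * u := by group
        _ = v * u := by rw [h]
    · exact h
  -- it suffices to find `q` with `q⁻¹ n` commuting with `u` and `v`
  have hsuff : ∀ q ∈ Q, (q⁻¹ * n) * u = u * (q⁻¹ * n) → (q⁻¹ * n) * v = v * (q⁻¹ * n) →
      ∃ q ∈ Q, q⁻¹ * n ∈ Subgroup.centralizer (Q : Set G) := by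
    intro q hq h1 h2
    refine ⟨q, hq, ?_⟩
    intro t ht
    obtain ⟨i, j, rfl⟩ := hgen t ht
    have c1 : Commute (q⁻¹ * n) u := h1
    have c2 : Commute (q⁻¹ * n) v := h2
    exact ((c1.pow_right i).mul_right (c2.pow_right j)).eq.symm
  rcases hconj u huQ hu4 hu2 with hnu | hnu <;> rcases hconj v hvQ hv4 hv2 with hnv | hnv
  · apply hsuff 1 Q.one_mem
    · calc (1⁻¹ * n) * u = (n * u * n⁻¹) * n := by group
        _ = u * (1⁻¹ * n) := by rw [hnu]; group
    · calc (1⁻¹ * n) * v = (n * v * n⁻¹) * n := by group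
        _ = v * (1⁻¹ * n) := by rw [hnv]; group
  · apply hsuff u huQ
    · calc (u⁻¹ * n) * u = u⁻¹ * (n * u * n⁻¹) * n := by group
        _ = u * (u⁻¹ * n) := by rw [hnu]; group
    · calc (u⁻¹ * n) * v = u⁻¹ * (n * v * n⁻¹) * n := by group
        _ = u⁻¹ * (u * v * u⁻¹) * n := by rw [hnv, huv']
        _ = v * (u⁻¹ * n) := by group
  · apply hsuff v hvQ
    · calc (v⁻¹ * n) * u = v⁻¹ * (n * u * n⁻¹) * n := by group
        _ = v⁻¹ * (v * u * v⁻¹) * n := by rw [hnu, hvu]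
        _ = u * (v⁻¹ * n) := by group
    · calc (v⁻¹ * n) * v = v⁻¹ * (n * v * n⁻¹) * n := by group
        _ = v * (v⁻¹ * n) := by rw [hnv]; group
  · have h5 : v⁻¹ * u⁻¹ * v = u := by
      calc v⁻¹ * u⁻¹ * v = v⁻¹ * (v * u * v⁻¹) * v := by rw [hvu]
        _ = u := by group
    have h6 : u⁻¹ * v⁻¹ * u = v := by
      calc u⁻¹ * v⁻¹ * u = u⁻¹ * (u * v * u⁻¹) * u := by rw [huv']
        _ = v := by group
    apply hsuff (u * v) (Q.mul_mem huQ hvQ)
    · calc ((u * v)⁻¹ * n) * u = v⁻¹ * u⁻¹ * (n * u * n⁻¹) * n := by group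
        _ = v⁻¹ * u⁻¹ * u⁻¹ * n := by rw [hnu]
        _ = (v⁻¹ * u⁻¹ * v) * v⁻¹ * u⁻¹ * n := by group
        _ = u * v⁻¹ * u⁻¹ * n := by rw [h5]
        _ = u * ((u * v)⁻¹ * n) := by group
    · calc ((u * v)⁻¹ * n) * v = v⁻¹ * u⁻¹ * (n * v * n⁻¹) * n := by group
        _ = v⁻¹ * u⁻¹ * v⁻¹ * n := by rw [hnv]
        _ = v⁻¹ * (u⁻¹ * v⁻¹ * u) * u⁻¹ * n := by group
        _ = v⁻¹ * v * u⁻¹ * n := by rw [h6]
        _ = v * ((u * v)⁻¹ * n) := by group


end Q8FixB

namespace QDData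
variable {S : Type*} [Group S] (d : QDData S)

theorem par_quarter : d.par (z2quarter d.n) = 0 := by
  rw [← z2_two_mul_eighth d.n d.hn]; exact d.par_even _

theorem q8_par_b (Q : Subgroup S) (e : ↥Q ≃* QuaternionGroup 2) (i : ZMod (2 ^ d.n))
    (h : d.b i ∈ Q) : d.par i = 1 := by
  obtain ⟨m, hA, hB⟩ := d.q8_struct Q e
  have h1 := (hB i).mp h
  have h2 : d.par (i - (2 * m + 1)) = 0 := by
    rw [z2R4_iff d.n d.n_two] at h1
    rcases h1 with h1 | h1 | h1 | h1 <;> rw [h1]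
    · exact map_zero _
    · exact d.par_half
    · exact d.par_quarter
    · rw [map_add, d.par_quarter, d.par_half, add_zero]
  rw [map_sub, d.par_odd, sub_eq_zero] at h2
  exact h2

theorem q8_sq_eq_one (Q : Subgroup S) (e : ↥Q ≃* QuaternionGroup 2) (s : S) (hs : s ∈ Q)
    (h : s * s = 1) : s = 1 ∨ s = d.zz := by
  rcases d.cases s with ⟨i, rfl⟩ | ⟨i, rfl⟩
  · rw [a_sq_eq_one_iff] at h
    rcases h with rfl | rfl
    · left; exact d.a_zero
    · right; rfl
  · exfalso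
    have hp := d.q8_par_b Q e i hs
    obtain ⟨j, rfl⟩ := (d.par_eq_one_iff i).mp hp
    rw [d.b_odd_sq] at h
    exact d.zz_ne_one h

end QDData

section
variable {G : Type*} [Group G] [Finite G] (S : Sylow 2 G) (d : QDData ↥(S : Subgroup G))

omit [Finite G] in
theorem qd_q8_sq_eq_one (Q : Subgroup G) (hQS : Q ≤ S) (eQ : ↥Q ≃* QuaternionGroup 2) (y : G)
    (hy : y ∈ Q) (h : y * y = 1) : y = 1 ∨ y = ((d.zz : ↥(S : Subgroup G)) : G) := by
  let e' : ↥(Q.subgroupOf S) ≃* QuaternionGroup 2 := (Subgroup.subgroupOfEquivOfLe hQS).trans eQ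
  have := d.q8_sq_eq_one _ e' ⟨y, hQS hy⟩ (Subgroup.mem_subgroupOf.mpr hy) (Subtype.ext h)
  rcases this with h1 | h1
  · left; exact congrArg Subtype.val h1
  · right; exact congrArg Subtype.val h1

include d in
theorem qd_exists_four_mem_pResidual (Q : Subgroup G) (hQS : Q ≤ S) (eQ : ↥Q ≃* QuaternionGroup 2)
    (h6 : (Q ⊔ Subgroup.centralizer (Q : Set G)).relIndex (Subgroup.normalizer (Q : Set G)) = 6) :
    ∃ w ∈ Cfsg.pResidual 2 G, orderOf w = 4 := by
  have hCn : ((Q ⊔ Subgroup.centralizer (Q : Set G)).subgroupOf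
      (Subgroup.normalizer (Q : Set G))).Normal := by
    rw [← q8_ker_ordFour Q eQ]; exact MonoidHom.normal_ker _
  obtain ⟨τ, hτN, hτo, hτK⟩ := exists_odd_order_not_mem _ _ hCn h6
  have hex : ∃ u ∈ Q, u ^ 4 = 1 ∧ u * u ≠ 1 ∧ τ * u * τ⁻¹ ∉ Subgroup.zpowers u := by
    by_contra hcon
    push Not at hcon
    obtain ⟨q, hq, hc⟩ := q8_fix_all' Q eQ τ hcon
    apply hτK
    have : τ = q * (q⁻¹ * τ) := by group
    rw [this]
    exact Subgroup.mul_mem _ (Subgroup.mem_sup_left hq) (Subgroup.mem_sup_right hc)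
  obtain ⟨u, huQ, hu4, hu2, hmove⟩ := hex
  have hO : (Cfsg.pResidual 2 G).Normal := pResidual_normal 2
  have hτO : τ ∈ Cfsg.pResidual 2 G := mem_pResidual_of_coprime hτo
  set Z : G := ((d.zz : ↥(S : Subgroup G)) : G) with hZ
  have hZ1 : Z ≠ 1 := fun h => d.zz_ne_one (Subtype.ext h)
  have hZZ : Z * Z = 1 := congrArg Subtype.val d.zz_mul_zz
  -- `u * u = Z`
  have huu : u * u = Z := by
    have h1 : (u * u) * (u * u) = 1 := by
      rw [← hu4]; simp only [pow_succ, pow_zero, one_mul, mul_assoc]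
    rcases qd_q8_sq_eq_one S d Q hQS eQ (u * u) (Q.mul_mem huQ huQ) h1 with h | h
    · exact absurd h hu2
    · exact h
  set w : G := τ * u * τ⁻¹ * u⁻¹ with hw
  have hxQ : τ * u * τ⁻¹ ∈ Q := (Subgroup.mem_normalizer_iff.mp hτN u).mp huQ
  have hwQ : w ∈ Q := Q.mul_mem hxQ (Q.inv_mem huQ)
  refine ⟨w, ?_, ?_⟩
  · have : w = τ * (u * τ⁻¹ * u⁻¹) := by rw [hw]; group
    rw [this]
    exact Subgroup.mul_mem _ hτO (hO.conj_mem _ (Subgroup.inv_mem _ hτO) u)
  · have hw4 : w ^ 4 = 1 := q8_sub_pow_four Q eQ w hwQ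
    have hw2 : w * w ≠ 1 := by
      intro h
      apply hmove
      rcases qd_q8_sq_eq_one S d Q hQS eQ w hwQ h with h1 | h1
      · have : τ * u * τ⁻¹ = w * u := by rw [hw]; group
        rw [this, h1, one_mul]; exact Subgroup.mem_zpowers u
      · have : τ * u * τ⁻¹ = w * u := by rw [hw]; group
        rw [this, h1, ← hZ, ← huu]
        have : u * u * u = u ^ 3 := by simp only [pow_succ, pow_zero, one_mul]
        rw [this]
        exact Subgroup.pow_mem _ (Subgroup.mem_zpowers u) 3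
    have h1 : (w * w) * (w * w) = 1 := by
      rw [← hw4]; simp only [pow_succ, pow_zero, one_mul, mul_assoc]
    exact orderOf_eq_four_of_sq w (w * w) rfl hw2 h1

end


section
variable {G : Type*} [Group G] [Finite G] (S : Sylow 2 G) (d : QDData ↥(S : Subgroup G))

theorem qd_center_weakly_closed
    (nf1 : ¬ IsConj ((d.zz : ↥(S : Subgroup G)) : G) ((d.b 0 : ↥(S : Subgroup G)) : G)) :
    Cfsg.IsWeaklyClosed ((Subgroup.center ↥(S : Subgroup G)).map (S : Subgroup G).subtype)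
      (S : Subgroup G) := by
  refine ⟨Subgroup.map_subtype_le _, ?_⟩
  intro g hg
  set Z : G := ((d.zz : ↥(S : Subgroup G)) : G) with hZ
  have hZW : Z ∈ (Subgroup.center ↥(S : Subgroup G)).map (S : Subgroup G).subtype := by
    refine ⟨d.zz, ?_, rfl⟩
    rw [SetLike.mem_coe, d.center_eq]; exact Subgroup.mem_zpowers _
  have hgS : g * Z * g⁻¹ ∈ (S : Subgroup G) := hg ⟨Z, hZW, by simp [MulAut.conj_apply]⟩
  have hso : orderOf (⟨_, hgS⟩ : ↥(S : Subgroup G)) = 2 := by
    rw [← Subgroup.orderOf_coe]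
    have e1 : g * Z * g⁻¹ = MulAut.conj g Z := by rw [MulAut.conj_apply]
    show orderOf (g * Z * g⁻¹) = 2
    rw [e1, MulEquiv.orderOf_eq, hZ, Subgroup.orderOf_coe]; exact d.orderOf_zz
  rw [d.orderOf_eq_two_iff] at hso
  have hfix : g * Z * g⁻¹ = Z := by
    rcases hso with h' | ⟨j, h'⟩
    · exact congrArg Subtype.val h'
    · exfalso
      apply nf1
      have h1 : g * Z * g⁻¹ = ((d.b (2 * j) : ↥(S : Subgroup G)) : G) := congrArg Subtype.val h'
      have hc : IsConj Z ((d.b (2 * j) : ↥(S : Subgroup G)) : G) := isConj_iff.mpr ⟨g, h1⟩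
      have h2 := qd_isConj_b_even S d j 0
      rw [mul_zero] at h2
      exact hc.trans h2
  have hall : ∀ t ∈ (Subgroup.center ↥(S : Subgroup G)).map (S : Subgroup G).subtype,
      g * t * g⁻¹ = t := by
    rintro _ ⟨s, hs, rfl⟩
    rw [SetLike.mem_coe, d.center_eq] at hs
    obtain ⟨k, rfl⟩ := hs
    have : (S : Subgroup G).subtype (d.zz ^ k) = Z ^ k := by simp [hZ]
    rw [this, ← conj_zpow, hfix]
  ext y
  constructor
  · rintro ⟨t, ht, rfl⟩
    have := hall t ht
    simp only [MulEquiv.coe_toMonoidHom, MulAut.conj_apply]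
    rw [this]; exact ht
  · intro hy
    refine ⟨y, hy, ?_⟩
    simp only [MulEquiv.coe_toMonoidHom, MulAut.conj_apply]
    exact hall y hy

end

end Cfsg.Agent.Lib.Helper3
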