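import Mathlib
import Cfsg.Agent.Lib.Helper3.Wr9
import Cfsg.Agent.Lib.Helper3.QDFusion4
import Cfsg.Agent.Lib.Lead.Fusion
import Cfsg.Agent.Lib.Lead.Brodkey
import Cfsg.Agent.Lib.Lead.OmegaAut

set_option autoImplicit false

namespace Cfsg.Agent.Lib.Helper3
open Cfsg.Agent.Lib.Lead

/-- Sylow adjustment: if `S` normalizes `A` and the `p`-group `W` normalizes `g A g⁻¹`, then
`g` may be changed, without changing `g A g⁻¹`, so that `W` is conjugated into `S` -/
theorem sylow_adjust {G : Type*} [Group G] [Finite G] {p : ℕ} [Fact p.Prime] (S : Sylow p G)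
    (A W : Subgroup G) (hAS : (S : Subgroup G) ≤ Subgroup.normalizer (A : Set G)) (g : G)
    (hW : IsPGroup p W)
    (hWN : W ≤ Subgroup.normalizer ((A.map (MulAut.conj g).toMonoidHom : Subgroup G) : Set G)) :
    ∃ h : G, A.map (MulAut.conj h).toMonoidHom = A.map (MulAut.conj g).toMonoidHom ∧
      ∀ w ∈ W, h⁻¹ * w * h ∈ (S : Subgroup G) := by
  set A' : Subgroup G := A.map (MulAut.conj g).toMonoidHom with hA'
  have hSM : ((g • S : Sylow p G) : Subgroup G) ≤ Subgroup.normalizer (A' : Set G) := by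
    intro x hx
    rw [Sylow.coe_subgroup_smul, mem_conj_smul_iff'] at hx
    have h1 := hAS hx
    rw [Subgroup.mem_normalizer_iff] at h1 ⊢
    intro y
    rw [hA', mem_map_conj_iff, mem_map_conj_iff, h1 (g⁻¹ * y * g)]
    have : g⁻¹ * x * g * (g⁻¹ * y * g) * (g⁻¹ * x * g)⁻¹ = g⁻¹ * (x * y * x⁻¹) * g := by group
    rw [this]
  obtain ⟨n, hn, hle⟩ := pgroup_le_conj_sylow_in_subgroup (g • S) _ W hSM hWN hW
  refine ⟨n * g, ?_, ?_⟩
  · have h1 : A.map (MulAut.conj (n * g)).toMonoidHom = A'.map (MulAut.conj n).toMonoidHom := by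
      rw [hA', Subgroup.map_map]
      congr 1
      ext x
      simp [MulAut.conj_apply, mul_assoc]
    rw [h1]
    exact (Subgroup.mem_normalizer_iff_map_conj_eq.mp hn)
  · intro w hw
    have h1 := hle hw
    rw [mem_conj_smul_iff', Sylow.coe_subgroup_smul, mem_conj_smul_iff'] at h1
    have : (n * g)⁻¹ * w * (n * g) = g⁻¹ * (n⁻¹ * w * n) * g := by group
    rw [this]; exact h1


open Cfsg.Agent.Lib.Lead

/-- Burnside: if `W` is weakly closed in the Sylow subgroup `P` and centralizes both `x` and its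
conjugate `g x g⁻¹`, then the two are conjugate under `N_G(W)` -/
theorem control_of_weaklyClosed_comm {G : Type*} [Group G] [Finite G] {p : ℕ} [Fact p.Prime]
    (P : Sylow p G) (Z : Subgroup G) (hW : Cfsg.IsWeaklyClosed Z P) (x g : G)
    (hx : ∀ z ∈ Z, x * z = z * x) (hy' : ∀ z ∈ Z, (g * x * g⁻¹) * z = z * (g * x * g⁻¹)) :
    ∃ n ∈ Subgroup.normalizer (Z : Set G), n * x * n⁻¹ = g * x * g⁻¹ := by
  have hZP : Z ≤ (P : Subgroup G) := hW.1
  have hZp : IsPGroup p Z := P.isPGroup'.to_le hZP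
  obtain ⟨y, hy⟩ : ∃ y, y = g * x * g⁻¹ := ⟨_, rfl⟩
  rw [← hy] at hy' ⊢
  have h1 : Z ≤ Subgroup.centralizer ({y} : Set G) := by
    intro z hz
    rw [mem_centralizer_singleton_iff]
    exact hy' z hz
  have hZgp : IsPGroup p (Z.map (MulAut.conj g).toMonoidHom) := hZp.map _
  have h2 : Z.map (MulAut.conj g).toMonoidHom ≤ Subgroup.centralizer ({y} : Set G) := by
    rw [map_conj_le_iff]
    intro z hz
    rw [mem_centralizer_singleton_iff]
    have hzx : x * z = z * x := hx z hz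
    calc y * (g * z * g⁻¹) = g * (x * z) * g⁻¹ := by rw [hy]; group
      _ = g * (z * x) * g⁻¹ := by rw [hzx]
      _ = g * z * g⁻¹ * y := by rw [hy]; group
  obtain ⟨Q, hQ⟩ := (hZp.comap_subtype (K := Subgroup.centralizer ({y} : Set G))).exists_le_sylow
  obtain ⟨Q', hQ'⟩ := (hZgp.comap_subtype (K := Subgroup.centralizer ({y} : Set G))).exists_le_sylow
  obtain ⟨c, hc⟩ := MulAction.exists_smul_eq (Subgroup.centralizer ({y} : Set G)) Q' Q
  obtain ⟨R, hR⟩ := (Q.isPGroup'.map (Subgroup.centralizer ({y} : Set G)).subtype).exists_le_sylow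
  obtain ⟨h, hh⟩ := MulAction.exists_smul_eq G P R
  have hRP : ∀ w : G, w ∈ (R : Subgroup G) → h⁻¹ * w * h ∈ P := by
    intro w hw
    rw [← hh, Sylow.coe_subgroup_smul, mem_conj_smul_iff] at hw
    exact hw
  have e1 : ∀ z ∈ Z, h⁻¹ * z * h⁻¹⁻¹ ∈ (P : Subgroup G) := by
    intro z hz
    rw [inv_inv]
    apply hRP
    apply hR
    exact ⟨⟨z, h1 hz⟩, hQ (Subgroup.mem_subgroupOf.mpr hz), rfl⟩
  have e2 : ∀ z ∈ Z, (h⁻¹ * c * g) * z * (h⁻¹ * c * g)⁻¹ ∈ (P : Subgroup G) := by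
    intro z hz
    have hw : g * z * g⁻¹ ∈ Z.map (MulAut.conj g).toMonoidHom := ⟨z, hz, rfl⟩
    have hw' : (⟨g * z * g⁻¹, h2 hw⟩ : Subgroup.centralizer ({y} : Set G)) ∈ (Q' : Subgroup _) :=
      hQ' (Subgroup.mem_subgroupOf.mpr hw)
    have hcw : c * ⟨g * z * g⁻¹, h2 hw⟩ * c⁻¹ ∈ (Q : Subgroup _) := by
      rw [← hc, Sylow.coe_subgroup_smul, mem_conj_smul_iff]
      have : c⁻¹ * (c * ⟨g * z * g⁻¹, h2 hw⟩ * c⁻¹) * c = ⟨g * z * g⁻¹, h2 hw⟩ := by group
      rw [this]; exact hw'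
    have h3 : (c : G) * (g * z * g⁻¹) * (c : G)⁻¹ ∈ (R : Subgroup G) := by
      apply hR
      exact ⟨_, hcw, rfl⟩
    have := hRP _ h3
    have e : (h⁻¹ * c * g) * z * (h⁻¹ * c * g)⁻¹ = h⁻¹ * ((c : G) * (g * z * g⁻¹) * (c : G)⁻¹) * h := by
      group
    rw [e]; exact this
  have n1 : h⁻¹ ∈ Subgroup.normalizer (Z : Set G) := mem_normalizer_of_weaklyClosed hW _ e1
  have n2 : h⁻¹ * c * g ∈ Subgroup.normalizer (Z : Set G) := mem_normalizer_of_weaklyClosed hW _ e2
  refine ⟨c * g, ?_, ?_⟩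
  · have := Subgroup.mul_mem _ (Subgroup.inv_mem _ n1) n2
    have e : h⁻¹⁻¹ * (h⁻¹ * c * g) = c * g := by group
    rwa [e] at this
  · have hcy : y * (c : G) = c * y := mem_centralizer_singleton_iff.mp c.2
    calc (c : G) * g * x * (c * g)⁻¹ = c * (g * x * g⁻¹) * (c : G)⁻¹ := by group
      _ = (c * y) * (c : G)⁻¹ := by rw [← hy]
      _ = y := by rw [← hcy, mul_inv_cancel_right]


open Cfsg.Agent.Lib.Lead
open MulAction Function

/-- evaluation of the transfer at an element whose powers are controlled -/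
theorem transfer_eval {G : Type*} [Group G] [Finite G] (H : Subgroup G) {A : Type*} [CommGroup A]
    (ϕ : ↥H →* A) (x : G) (a : A)
    (hc : ∀ (g : G) (r : ℕ) (hm : g⁻¹ * x ^ r * g ∈ H), ϕ ⟨g⁻¹ * x ^ r * g, hm⟩ = a ^ r) :
    MonoidHom.transfer ϕ x = a ^ H.index := by
  classical
  let _ : Fintype (Quotient (orbitRel (Subgroup.zpowers x) (G ⧸ H))) := Fintype.ofFinite _
  rw [MonoidHom.transfer_eq_prod_quotient_orbitRel_zpowers_quot]
  have hfac : ∀ q : Quotient (orbitRel (Subgroup.zpowers x) (G ⧸ H)),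
      ϕ ⟨q.out.out⁻¹ * x ^ minimalPeriod (x • ·) q.out * q.out.out,
        QuotientGroup.out_conj_pow_minimalPeriod_mem H x q.out⟩
      = a ^ minimalPeriod (x • ·) q.out := fun q => hc _ _ _
  rw [Finset.prod_congr rfl (fun q _ => hfac q), Finset.prod_pow_eq_pow_sum]
  have hsum : ∑ q : Quotient (orbitRel (Subgroup.zpowers x) (G ⧸ H)),
      minimalPeriod (x • ·) q.out = H.index := by
    have : ∀ q : Quotient (orbitRel (Subgroup.zpowers x) (G ⧸ H)),
        Finite (ZMod (minimalPeriod (x • ·) q.out)) := by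
      intro q
      have : NeZero (minimalPeriod (x • ·) q.out) := by
        constructor
        intro h0
        have hper : IsPeriodicPt (x • · : G ⧸ H → G ⧸ H) (orderOf x) q.out := by
          show (x • · : G ⧸ H → G ⧸ H)^[orderOf x] q.out = q.out
          rw [smul_iterate, pow_orderOf_eq_one]; exact one_smul _ _
        have := hper.minimalPeriod_pos (orderOf_pos x)
        omega
      infer_instance
    have h1 := Nat.card_congr (Subgroup.quotientEquivSigmaZMod H x)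
    rw [Nat.card_sigma] at h1
    simp only [Nat.card_zmod] at h1
    rw [Subgroup.index_eq_card, h1]
  rw [hsum]


open Cfsg.Agent.Lib.Lead

theorem two_or_six_arith (m o j t : ℕ) (ho : o % 2 = 1) (hm : m = 2 * o) (hm' : m = 2 ^ j * t)
    (ht : t ∣ 6) : m = 2 ∨ m = 6 := by
  have hj : j ≤ 1 := by
    by_contra h
    push Not at h
    have h4 : 4 ∣ 2 ^ j := by
      have : (2 : ℕ) ^ 2 ∣ 2 ^ j := Nat.pow_dvd_pow 2 h
      simpa using this
    have : 4 ∣ m := by rw [hm']; exact Dvd.dvd.mul_right h4 t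
    omega
  have ht6 : t ≤ 6 := Nat.le_of_dvd (by norm_num) ht
  interval_cases j <;> interval_cases t <;> simp_all <;> omega

/-- the index of `C` is `2` or `6` when it is twice an odd number and `N / C` acts on three points
with a kernel in which the elements of odd order lie in `C` -/
theorem index_two_or_six_of_hom {N : Type*} [Group N] [Finite N] (C : Subgroup N) [hCn : C.Normal]
    (R : Subgroup N) (hR : R.index % 2 = 1) (hCR : C.relIndex R = 2) {A : Type*} [Group A] [Finite A]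
    (hA : Nat.card A ∣ 6) (φ : N →* A) (hCφ : C ≤ φ.ker)
    (hodd : ∀ g ∈ φ.ker, (orderOf g).Coprime 2 → g ∈ C) : C.index = 2 ∨ C.index = 6 := by
  -- twice an odd number
  have h1 : C.relIndex (R ⊔ C) * (R ⊔ C).index = C.index := Subgroup.relIndex_mul_index le_sup_right
  rw [Subgroup.relIndex_sup_right, hCR] at h1
  have h2 : (R ⊔ C).index ∣ R.index := Subgroup.index_dvd_of_le le_sup_left
  have h3 : (R ⊔ C).index % 2 = 1 := by
    obtain ⟨r, hr⟩ := h2
    rw [hr] at hR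
    rcases Nat.even_or_odd (R ⊔ C).index with he | ho
    · exfalso
      have : Even ((R ⊔ C).index * r) := he.mul_right r
      rw [Nat.even_iff] at this
      omega
    · exact Nat.odd_iff.mp ho
  -- the kernel
  have h4 : C.relIndex φ.ker * φ.ker.index = C.index := Subgroup.relIndex_mul_index hCφ
  have h5 : φ.ker.index ∣ 6 := by
    rw [Subgroup.index_ker]
    exact (Subgroup.card_subgroup_dvd_card _).trans hA
  -- the quotient of the kernel is a 2-group
  have h6 : ∃ j, C.relIndex φ.ker = 2 ^ j := by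
    have hn : (C.subgroupOf φ.ker).Normal := inferInstance
    have hp : IsPGroup 2 (↥φ.ker ⧸ C.subgroupOf φ.ker) := by
      intro x
      induction x using QuotientGroup.induction_on with
      | H g =>
        refine ⟨(Nat.card N).factorization 2, ?_⟩
        rw [← QuotientGroup.mk_pow, QuotientGroup.eq_one_iff, Subgroup.mem_subgroupOf]
        have hk : (g : N) ^ 2 ^ (Nat.card N).factorization 2 ∈ φ.ker :=
          Subgroup.pow_mem _ g.2 _
        exact hodd _ hk (orderOf_pow_two_factorization_coprime (g : N))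
    obtain ⟨j, hj⟩ := IsPGroup.iff_card.mp hp
    exact ⟨j, hj⟩
  obtain ⟨j, hj⟩ := h6
  rw [hj] at h4
  exact two_or_six_arith C.index (R ⊔ C).index j φ.ker.index h3 h1.symm h4.symm h5


open Cfsg.Agent.Lib.Lead

theorem conj_pow_orderOf_eq_one {G : Type*} [Group G] (τ : G) :
    (MulAut.conj τ) ^ orderOf τ = 1 := by
  rw [← map_pow, pow_orderOf_eq_one, map_one]

/-- an element of odd order acting as `x ↦ x c` with `c` a fixed `2`-element has `c = 1` -/
theorem odd_fix_of_twist {G : Type*} [Group G] (τ : G) (hτ : (orderOf τ).Coprime 2) (x c : G)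
    (hx : τ * x * τ⁻¹ = x * c) (hc : τ * c * τ⁻¹ = c) (hcp : ∃ k : ℕ, c ^ 2 ^ k = 1) : c = 1 :=
  eq_one_of_aut_pow (MulAut.conj τ) (orderOf τ) (conj_pow_orderOf_eq_one τ) hτ x c
    (by rw [MulAut.conj_apply]; exact hx) (by rw [MulAut.conj_apply]; exact hc) hcp

/-- an element of odd order normalizing a cyclic `2`-group centralizes it -/
theorem odd_centralizes_cyclic {G : Type*} [Group G] [Finite G] (Z : Subgroup G) [hZc : IsCyclic ↥Z]
    (k : ℕ) (hZ : Nat.card ↥Z = 2 ^ k) (τ : G) (hτN : τ ∈ Subgroup.normalizer (Z : Set G))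
    (hτ : (orderOf τ).Coprime 2) : τ ∈ Subgroup.centralizer (Z : Set G) := by
  set a : MulAut ↥Z := Z.normalizerMonoidHom ⟨τ, hτN⟩ with ha
  have h1 : orderOf a ∣ orderOf τ := by
    have : orderOf a ∣ orderOf (⟨τ, hτN⟩ : ↥(Subgroup.normalizer (Z : Set G))) :=
      orderOf_map_dvd _ _
    rwa [Subgroup.orderOf_mk] at this
  have h2 : orderOf a ∣ 2 ^ k := by
    have h3 : orderOf a ∣ Nat.card (MulAut ↥Z) := orderOf_dvd_natCard a
    rw [IsCyclic.card_mulAut, hZ] at h3
    rcases Nat.eq_zero_or_pos k with h0 | h0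
    · rw [h0, pow_zero, Nat.totient_one] at h3
      rw [Nat.dvd_one.mp h3]; exact one_dvd _
    · rw [Nat.totient_prime_pow Nat.prime_two h0] at h3
      have : (2 : ℕ) ^ (k - 1) * (2 - 1) ∣ 2 ^ k := by
        rw [Nat.sub_self 1 |> fun _ => (by norm_num : (2 : ℕ) - 1 = 1), mul_one]
        exact Nat.pow_dvd_pow 2 (by omega)
      exact h3.trans this
  have h4 : orderOf a = 1 := by
    have hc : (orderOf a).Coprime (2 ^ k) :=
      Nat.Coprime.pow_right k (Nat.Coprime.coprime_dvd_left h1 hτ)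
    exact Nat.Coprime.eq_one_of_dvd hc h2
  have h5 : a = 1 := orderOf_eq_one_iff.mp h4
  have h6 : (⟨τ, hτN⟩ : ↥(Subgroup.normalizer (Z : Set G))) ∈ Z.normalizerMonoidHom.ker := by
    rw [MonoidHom.mem_ker]; exact h5
  rw [Subgroup.normalizerMonoidHom_ker, Subgroup.mem_subgroupOf] at h6
  exact h6

/-- an element of odd order normalizing an abelian `2`-group and centralizing its involutions
centralizes it -/
theorem odd_centralizes_of_omega {G : Type*} [Group G] (U : Subgroup G)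
    (hU : ∀ a ∈ U, ∀ b ∈ U, a * b = b * a) (hU2 : IsPGroup 2 ↥U) (τ : G)
    (hτN : ∀ u ∈ U, τ * u * τ⁻¹ ∈ U) (hτ : (orderOf τ).Coprime 2)
    (hΩ : ∀ u ∈ U, u * u = 1 → τ * u * τ⁻¹ = u) : ∀ u ∈ U, τ * u * τ⁻¹ = u := by
  have key : ∀ k : ℕ, ∀ u ∈ U, u ^ 2 ^ k = 1 → τ * u * τ⁻¹ = u := by
    intro k
    induction k with
    | zero =>
      intro u _ h
      rw [pow_zero, pow_one] at h
      rw [h]; group
    | succ k ih =>
      intro u hu h
      have h2 : (u * u) ^ 2 ^ k = 1 := by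
        rw [← pow_two, ← pow_mul, ← pow_succ']; exact h
      have h3 := ih (u * u) (U.mul_mem hu hu) h2
      set c : G := u⁻¹ * (τ * u * τ⁻¹) with hc
      have hcU : c ∈ U := U.mul_mem (U.inv_mem hu) (hτN u hu)
      have hcc : c * c = 1 := by
        have e1 : u⁻¹ * (τ * u * τ⁻¹) = (τ * u * τ⁻¹) * u⁻¹ :=
          hU _ (U.inv_mem hu) _ (hτN u hu)
        calc c * c = u⁻¹ * (τ * u * τ⁻¹) * ((τ * u * τ⁻¹) * u⁻¹) := by rw [hc, ← e1]
          _ = u⁻¹ * (τ * (u * u) * τ⁻¹) * u⁻¹ := by group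
          _ = u⁻¹ * (u * u) * u⁻¹ := by rw [h3]
          _ = 1 := by group
      have h4 : τ * c * τ⁻¹ = c := hΩ c hcU hcc
      have h5 : τ * u * τ⁻¹ = u * c := by rw [hc]; group
      have h6 := odd_fix_of_twist τ hτ u c h5 h4 ⟨1, by rw [pow_one, pow_two]; exact hcc⟩
      rw [h5, h6, mul_one]
  intro u hu
  obtain ⟨k, hk⟩ := hU2 ⟨u, hu⟩
  apply key k u hu
  have := congrArg Subtype.val hk
  simpa using this

/-- an element of odd order centralizing a `2`-subgroup `H₀` and normalizing an overgroup `H₁`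
in which `H₀` has index two centralizes `H₁` -/
theorem odd_centralizes_step {G : Type*} [Group G] (H₀ H₁ : Subgroup G)
    (hidx : H₀.relIndex H₁ = 2) (hp : IsPGroup 2 ↥H₀) (τ : G) (hτ : (orderOf τ).Coprime 2)
    (h0 : ∀ x ∈ H₀, τ * x * τ⁻¹ = x) (h1 : ∀ x ∈ H₁, τ * x * τ⁻¹ ∈ H₁) :
    ∀ x ∈ H₁, τ * x * τ⁻¹ = x := by
  intro x hx
  by_cases hx0 : x ∈ H₀
  · exact h0 x hx0
  · have hy0 : τ * x * τ⁻¹ ∉ H₀ := by
      intro hy
      have h2 := h0 _ hy
      have e : τ⁻¹ * (τ * x * τ⁻¹) * τ = x := by group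
      have e2 : τ⁻¹ * (τ * x * τ⁻¹) * τ = τ * x * τ⁻¹ := by
        calc τ⁻¹ * (τ * x * τ⁻¹) * τ = τ⁻¹ * (τ * (τ * x * τ⁻¹) * τ⁻¹) * τ := by rw [h2]
          _ = τ * x * τ⁻¹ := by group
      have h3 : τ * x * τ⁻¹ = x := e2.symm.trans e
      rw [h3] at hy
      exact hx0 hy
    have hxi : x⁻¹ ∉ H₀ := fun h => hx0 (by simpa using H₀.inv_mem h)
    have hc := mul_mem_of_relIndex_two H₀ H₁ hidx x⁻¹ (τ * x * τ⁻¹) (H₁.inv_mem hx) (h1 x hx) hxi hy0
    have h5 : τ * x * τ⁻¹ = x * (x⁻¹ * (τ * x * τ⁻¹)) := by group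
    obtain ⟨k, hk⟩ := hp ⟨_, hc⟩
    have hk' : (x⁻¹ * (τ * x * τ⁻¹)) ^ 2 ^ k = 1 := by
      have := congrArg Subtype.val hk
      simpa using this
    have h6 := odd_fix_of_twist τ hτ x _ h5 (h0 _ hc) ⟨k, hk'⟩
    rw [h5, h6, mul_one]

end Cfsg.Agent.Lib.Helper3
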