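import Mathlib
import Cfsg.Agent.Lib.Helper3.WrGen1

set_option autoImplicit false

namespace Cfsg.Agent.Lib.Helper3
open Cfsg.Agent.Lib.Lead

section
variable {G : Type*} [Group G] (S : Sylow 2 G) (d : WrData ↥(S : Subgroup G))

/-- the abelian subgroup of index two, inside `G` -/
noncomputable def wrU : Subgroup G := d.U.map (S : Subgroup G).subtype

/-- the centre of the Sylow subgroup, inside `G` -/
noncomputable def wrZ : Subgroup G :=
  (Subgroup.center ↥(S : Subgroup G)).map (S : Subgroup G).subtype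

/-- the subgroups `Q Z(S)`, inside `G` -/
noncomputable def wrV (κ : ZMod (2 ^ d.n)) : Subgroup G := (d.Vk κ).map (S : Subgroup G).subtype

theorem wrU_le : wrU S d ≤ S := Subgroup.map_subtype_le _
theorem wrZ_le : wrZ S ≤ S := Subgroup.map_subtype_le _
theorem wrV_le (κ : ZMod (2 ^ d.n)) : wrV S d κ ≤ S := Subgroup.map_subtype_le _

theorem coe_mem_wrU_iff (s : ↥(S : Subgroup G)) : (s : G) ∈ wrU S d ↔ s ∈ d.U :=
  coe_mem_map_subtype_iff _ _ _

theorem coe_mem_wrZ_iff (s : ↥(S : Subgroup G)) :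
    (s : G) ∈ wrZ S ↔ s ∈ Subgroup.center ↥(S : Subgroup G) :=
  coe_mem_map_subtype_iff _ _ _

theorem coe_mem_wrV_iff (κ : ZMod (2 ^ d.n)) (s : ↥(S : Subgroup G)) :
    (s : G) ∈ wrV S d κ ↔ s ∈ d.Vk κ :=
  coe_mem_map_subtype_iff _ _ _

theorem wr_cases (x : G) (hx : x ∈ (S : Subgroup G)) :
    (∃ i j, x = ((d.c i j : ↥(S : Subgroup G)) : G)) ∨
      (∃ i j, x = ((d.e i j : ↥(S : Subgroup G)) : G)) := by
  rcases d.cases ⟨x, hx⟩ with ⟨i, j, h⟩ | ⟨i, j, h⟩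
  · left; exact ⟨i, j, congrArg Subtype.val h⟩
  · right; exact ⟨i, j, congrArg Subtype.val h⟩

theorem mem_wrU_iff (x : G) : x ∈ wrU S d ↔ ∃ i j, x = ((d.c i j : ↥(S : Subgroup G)) : G) := by
  constructor
  · rintro ⟨s, hs, rfl⟩
    obtain ⟨i, j, rfl⟩ := hs
    exact ⟨i, j, rfl⟩
  · rintro ⟨i, j, rfl⟩
    rw [coe_mem_wrU_iff]; exact d.c_mem_U i j

theorem mem_wrZ_iff (x : G) : x ∈ wrZ S ↔ ∃ i, x = ((d.c i i : ↥(S : Subgroup G)) : G) := by
  constructor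
  · rintro ⟨s, hs, rfl⟩
    rw [SetLike.mem_coe, d.mem_center_iff] at hs
    obtain ⟨i, rfl⟩ := hs
    exact ⟨i, rfl⟩
  · rintro ⟨i, rfl⟩
    rw [coe_mem_wrZ_iff, d.mem_center_iff]; exact ⟨i, rfl⟩

theorem wrZ_le_wrU : wrZ S ≤ wrU S d := by
  intro x hx
  rw [mem_wrZ_iff S d] at hx
  obtain ⟨i, rfl⟩ := hx
  rw [mem_wrU_iff]; exact ⟨i, i, rfl⟩

theorem coe_e_not_mem_wrU (i j : ZMod (2 ^ d.n)) :
    ((d.e i j : ↥(S : Subgroup G)) : G) ∉ wrU S d := by
  rw [coe_mem_wrU_iff]; exact d.e_not_mem_U i j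

theorem wrU_comm (a b : G) (ha : a ∈ wrU S d) (hb : b ∈ wrU S d) : a * b = b * a := by
  rw [mem_wrU_iff] at ha hb
  obtain ⟨i, j, rfl⟩ := ha
  obtain ⟨k, l, rfl⟩ := hb
  have := congrArg Subtype.val (d.c_comm_c i j k l)
  exact this

theorem card_wrU : Nat.card (wrU S d) = 2 ^ (2 * d.n) := by
  unfold wrU
  rw [Subgroup.card_map_of_injective (Subgroup.subtype_injective _), d.card_U]

theorem eq_wrU_of_comm [Finite G] (U : Subgroup G) (hUS : U ≤ S) (hUab : IsMulCommutative U)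
    (hc : Nat.card U = 2 ^ (2 * d.n)) : U = wrU S d := by
  have h1 : IsMulCommutative (U.subgroupOf S) := by
    refine ⟨⟨fun a b => ?_⟩⟩
    have := hUab.is_comm.comm ⟨(a : ↥(S : Subgroup G)), a.2⟩ ⟨(b : ↥(S : Subgroup G)), b.2⟩
    apply Subtype.ext
    apply Subtype.ext
    have h' := congrArg Subtype.val this
    exact h'
  have h2 : Nat.card (U.subgroupOf S) = 2 ^ (2 * d.n) := by
    rw [card_subgroupOf_of_le hUS, hc]
  have h3 := d.eq_U_of_comm _ h1 h2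
  unfold wrU
  rw [← h3, Subgroup.map_subgroupOf_eq_of_le hUS]

theorem wrU_weaklyClosed [Finite G] : Cfsg.IsWeaklyClosed (wrU S d) (S : Subgroup G) := by
  refine ⟨wrU_le S d, ?_⟩
  intro g hg
  apply eq_wrU_of_comm S d _ hg
  · refine ⟨⟨?_⟩⟩
    rintro ⟨_, ⟨a, ha, rfl⟩⟩ ⟨_, ⟨b, hb, rfl⟩⟩
    apply Subtype.ext
    show (MulAut.conj g).toMonoidHom a * (MulAut.conj g).toMonoidHom b =
      (MulAut.conj g).toMonoidHom b * (MulAut.conj g).toMonoidHom a
    rw [← map_mul, ← map_mul, wrU_comm S d a b ha hb]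
  · rw [Subgroup.card_map_of_injective (MulAut.conj g).injective, card_wrU]

end

end Cfsg.Agent.Lib.Helper3
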