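import Mathlib
import Cfsg.Agent.Lib.Helper3.WrFus1
import Cfsg.Agent.Lib.Helper3.Wr10

set_option autoImplicit false

namespace Cfsg.Agent.Lib.Helper3
open Cfsg.Agent.Lib.Lead

section
variable {G : Type*} [Group G] [Finite G] (S : Sylow 2 G) (d : WrData ↥(S : Subgroup G))

theorem sylow_le_normalizer_wrU : (S : Subgroup G) ≤ Subgroup.normalizer (wrU S d : Set G) := by
  intro s hs
  apply mem_normalizer_of_conj_mem
  intro t ht
  obtain ⟨t', ht', rfl⟩ := ht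
  have := d.U_normal.conj_mem t' ht' ⟨s, hs⟩
  exact ⟨_, this, rfl⟩

theorem coe_z_not_mem_centralizer_wrU :
    ((d.z : ↥(S : Subgroup G)) : G) ∉ Subgroup.centralizer (wrU S d : Set G) := by
  intro h
  have h1 := h ((d.c 1 0 : ↥(S : Subgroup G)) : G) ((mem_wrU_iff S d _).mpr ⟨1, 0, rfl⟩)
  have h2 : d.c 1 0 * d.z = d.z * d.c 1 0 := Subtype.ext h1
  rw [← d.e_zero, d.c_mul_e, d.e_mul_c, d.e_inj] at h2
  have h3 : (1 : ZMod (2 ^ d.n)) ≠ 0 := by
    haveI : Fact (1 < 2 ^ d.n) := ⟨Nat.one_lt_two_pow (by have := d.n_pos; omega)⟩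
    exact one_ne_zero
  apply h3
  have := h2.1
  rw [add_zero, zero_add] at this
  exact this

/-- with `|N(U) : C(U)| = 2`, fusion in `U` is controlled by the Sylow subgroup -/
theorem wr_U_fusion
    (h₁ : (Subgroup.centralizer (wrU S d : Set G)).relIndex (Subgroup.normalizer (wrU S d : Set G)) = 2)
    (i j : ZMod (2 ^ d.n)) (g : G)
    (hg : g * ((d.c i j : ↥(S : Subgroup G)) : G) * g⁻¹ ∈ wrU S d) :
    g * ((d.c i j : ↥(S : Subgroup G)) : G) * g⁻¹ = ((d.c i j : ↥(S : Subgroup G)) : G) ∨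
      g * ((d.c i j : ↥(S : Subgroup G)) : G) * g⁻¹ = ((d.c j i : ↥(S : Subgroup G)) : G) := by
  have hu : ((d.c i j : ↥(S : Subgroup G)) : G) ∈ wrU S d := (mem_wrU_iff S d _).mpr ⟨i, j, rfl⟩
  obtain ⟨n, hn, hnu⟩ := control_of_weaklyClosed_comm S (wrU S d) (wrU_weaklyClosed S d)
    ((d.c i j : ↥(S : Subgroup G)) : G) g (fun z hz => wrU_comm S d _ _ hu hz)
    (fun z hz => wrU_comm S d _ _ hg hz)
  rw [← hnu]
  set zG : G := ((d.z : ↥(S : Subgroup G)) : G) with hzG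
  have hzN : zG ∈ Subgroup.normalizer (wrU S d : Set G) := sylow_le_normalizer_wrU S d d.z.2
  have hzC := coe_z_not_mem_centralizer_wrU S d
  by_cases hnC : n ∈ Subgroup.centralizer (wrU S d : Set G)
  · left
    have := hnC _ hu
    rw [← this]; group
  · right
    have hzi : zG⁻¹ ∉ Subgroup.centralizer (wrU S d : Set G) := fun h =>
      hzC (by simpa using Subgroup.inv_mem _ h)
    have h3 := mul_mem_of_relIndex_two _ _ h₁ zG⁻¹ n (Subgroup.inv_mem _ hzN) hn hzi hnC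
    have h4 := h3 _ hu
    have h5 : n * ((d.c i j : ↥(S : Subgroup G)) : G) * n⁻¹ =
        zG * ((d.c i j : ↥(S : Subgroup G)) : G) * zG⁻¹ := by
      have : n * ((d.c i j : ↥(S : Subgroup G)) : G) * n⁻¹ =
          zG * ((zG⁻¹ * n) * ((d.c i j : ↥(S : Subgroup G)) : G)) * n⁻¹ := by group
      rw [this, ← h4]; group
    rw [h5]
    have h6 : d.z * d.c i j * d.z⁻¹ = d.c j i := by
      rw [← d.e_zero, d.e_conj_c]
    exact congrArg Subtype.val h6

end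

section
variable {G : Type*} [Group G] [Finite G] (S : Sylow 2 G) (d : WrData ↥(S : Subgroup G))

omit [Finite G] in
theorem wrZ_central (z s : G) (hz : z ∈ wrZ S) (hs : s ∈ (S : Subgroup G)) : s * z = z * s := by
  obtain ⟨z', hz', rfl⟩ := hz
  have := Subgroup.mem_center_iff.mp hz' ⟨s, hs⟩
  exact congrArg Subtype.val this

omit [Finite G] in
include d in
/-- a non-abelian subgroup of `S` containing `Z(S)` which is conjugated into `S` carries
`Z(S)` to itself -/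
theorem wr_conj_center_mem (W : Subgroup G) (hWS : W ≤ S) (hZW : wrZ S ≤ W) (a b : G) (ha : a ∈ W)
    (hb : b ∈ W) (hab : a * b ≠ b * a) (g : G) (hg : ∀ w ∈ W, g⁻¹ * w * g ∈ (S : Subgroup G)) :
    ∀ z ∈ wrZ S, g⁻¹ * z * g ∈ wrZ S := by
  set X : Subgroup ↥(S : Subgroup G) :=
    (W.map (MulAut.conj g⁻¹).toMonoidHom).subgroupOf S with hX
  have hmemX : ∀ w ∈ W, ∀ h : g⁻¹ * w * g ∈ (S : Subgroup G),
      (⟨g⁻¹ * w * g, h⟩ : ↥(S : Subgroup G)) ∈ X := by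
    intro w hw h
    rw [hX, Subgroup.mem_subgroupOf, mem_map_conj_iff]
    have : g⁻¹⁻¹ * (g⁻¹ * w * g) * g⁻¹ = w := by group
    show g⁻¹⁻¹ * (g⁻¹ * w * g) * g⁻¹ ∈ W
    rw [this]; exact hw
  have hXnc : ¬ IsMulCommutative X := by
    intro hc
    have := hc.is_comm.comm ⟨_, hmemX a ha (hg a ha)⟩ ⟨_, hmemX b hb (hg b hb)⟩
    have h1 : (g⁻¹ * a * g) * (g⁻¹ * b * g) = (g⁻¹ * b * g) * (g⁻¹ * a * g) := by
      have h' := congrArg (fun t : ↥X => ((t : ↥(S : Subgroup G)) : G)) this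
      exact h'
    apply hab
    have e1 : a * b = g * ((g⁻¹ * a * g) * (g⁻¹ * b * g)) * g⁻¹ := by group
    rw [e1, h1]; group
  have hcen := d.center_le_of_not_comm X hXnc
  intro z hz
  have hzS : g⁻¹ * z * g ∈ (S : Subgroup G) := hg z (hZW hz)
  have hzX : (⟨g⁻¹ * z * g, hzS⟩ : ↥(S : Subgroup G)) ∈ X := hmemX z (hZW hz) hzS
  have hzc : (⟨⟨g⁻¹ * z * g, hzS⟩, hzX⟩ : ↥X) ∈ Subgroup.center ↥X := by
    rw [Subgroup.mem_center_iff]
    rintro ⟨⟨y, hyS⟩, hyX⟩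
    apply Subtype.ext
    apply Subtype.ext
    show y * (g⁻¹ * z * g) = (g⁻¹ * z * g) * y
    rw [hX, Subgroup.mem_subgroupOf, mem_map_conj_iff] at hyX
    have hyW : g⁻¹⁻¹ * y * g⁻¹ ∈ W := hyX
    have h2 := wrZ_central S z _ hz (hWS hyW)
    have e1 : y * (g⁻¹ * z * g) = g⁻¹ * ((g⁻¹⁻¹ * y * g⁻¹) * z) * g := by group
    rw [e1, h2]; group
  have h3 : (⟨g⁻¹ * z * g, hzS⟩ : ↥(S : Subgroup G)) ∈
      (Subgroup.center ↥X).map X.subtype := ⟨_, hzc, rfl⟩
  have h4 := hcen h3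
  exact ⟨_, h4, rfl⟩

include d in
/-- in the situation of `wr_conj_center_mem`, `g` normalizes `Z(S)` -/
theorem wr_conj_center_normalizer (W : Subgroup G) (hWS : W ≤ S) (hZW : wrZ S ≤ W) (a b : G)
    (ha : a ∈ W) (hb : b ∈ W) (hab : a * b ≠ b * a) (g : G)
    (hg : ∀ w ∈ W, g⁻¹ * w * g ∈ (S : Subgroup G)) :
    g ∈ Subgroup.normalizer (wrZ S : Set G) := by
  have h1 : g⁻¹ ∈ Subgroup.normalizer (wrZ S : Set G) := by
    apply mem_normalizer_of_conj_mem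
    intro t ht
    have := wr_conj_center_mem S d W hWS hZW a b ha hb hab g hg t ht
    rwa [inv_inv]
  simpa using Subgroup.inv_mem _ h1

end

end Cfsg.Agent.Lib.Helper3
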