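import Mathlib
import Cfsg.Agent.Lib.Helper3.WrFus2

set_option autoImplicit false

namespace Cfsg.Agent.Lib.Helper3
open Cfsg.Agent.Lib.Lead

section
variable {G : Type*} [Group G] [Finite G] (S : Sylow 2 G) (d : WrData ↥(S : Subgroup G))

theorem isPGroup_of_le_sylow {p : ℕ} (P : Sylow p G) (W : Subgroup G) (h : W ≤ P) : IsPGroup p ↥W :=
  P.isPGroup'.to_le h

/-- a central element of `S` is not conjugate to an element of order at least four outside `U` -/
theorem wr_center_not_conj_e (a : G) (ha : a ∈ wrZ S) (g : G) (i j : ZMod (2 ^ d.n))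
    (hconj : g * a * g⁻¹ = ((d.e i j : ↥(S : Subgroup G)) : G))
    (hsq : d.e i j * d.e i j ≠ 1) : False := by
  set a' : G := ((d.e i j : ↥(S : Subgroup G)) : G) with ha'
  -- `S` normalizes `⟨a⟩`
  have hAS : (S : Subgroup G) ≤ Subgroup.normalizer (Subgroup.zpowers a : Set G) := by
    intro s hs
    apply mem_normalizer_zpowers_of_conj_mem
    have := wrZ_central S a s ha hs
    have e1 : s * a * s⁻¹ = a := by rw [this]; group
    rw [e1]; exact Subgroup.mem_zpowers a
  have hmap : (Subgroup.zpowers a).map (MulAut.conj g).toMonoidHom = Subgroup.zpowers a' := by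
    rw [MonoidHom.map_zpowers]
    congr 1
  -- `W` normalizes `⟨a'⟩`
  have hWN : wrV S d (i - j) ≤ Subgroup.normalizer
      (((Subgroup.zpowers a).map (MulAut.conj g).toMonoidHom : Subgroup G) : Set G) := by
    rw [hmap]
    rintro _ ⟨w, hw, rfl⟩
    apply mem_normalizer_zpowers_of_conj_mem
    have hz := d.chh_mem_zpowers_e i j hsq
    rcases d.Vk_conj_e i j w hw with h | h
    · have h' : (w : G) * a' * (w : G)⁻¹ = a' := congrArg Subtype.val h
      show (w : G) * a' * (w : G)⁻¹ ∈ _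
      rw [h']; exact Subgroup.mem_zpowers _
    · have h' : (w : G) * a' * (w : G)⁻¹ =
          a' * ((d.c (z2half d.n) (z2half d.n) : ↥(S : Subgroup G)) : G) := congrArg Subtype.val h
      show (w : G) * a' * (w : G)⁻¹ ∈ _
      rw [h']
      apply Subgroup.mul_mem _ (Subgroup.mem_zpowers _)
      obtain ⟨k, hk⟩ := hz
      refine ⟨k, ?_⟩
      have := congrArg Subtype.val hk
      simpa using this
  obtain ⟨h, hh1, hh2⟩ := sylow_adjust S (Subgroup.zpowers a) (wrV S d (i - j)) hAS g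
    (isPGroup_of_le_sylow S _ (wrV_le S d _)) hWN
  -- `h` normalizes `Z(S)`
  have hZW : wrZ S ≤ wrV S d (i - j) := by
    rintro _ ⟨z, hz, rfl⟩
    exact ⟨z, d.center_le_Vk _ hz, rfl⟩
  have hhN := wr_conj_center_normalizer S d (wrV S d (i - j)) (wrV_le S d _) hZW
    ((d.e (i - j) 0 : ↥(S : Subgroup G)) : G) ((d.c (z2half d.n) 0 : ↥(S : Subgroup G)) : G)
    ((coe_mem_wrV_iff S d _ _).mpr (d.eκ0_mem_Vk _)) ((coe_mem_wrV_iff S d _ _).mpr (d.ch0_mem_Vk _))
    (fun h' => d.Vk_noncomm_elts (i - j) (Subtype.ext h')) h hh2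
  -- hence `a'` is central
  have h1 : a' ∈ (Subgroup.zpowers a).map (MulAut.conj h).toMonoidHom := by
    rw [hh1, hmap]; exact Subgroup.mem_zpowers _
  have h2 : (Subgroup.zpowers a).map (MulAut.conj h).toMonoidHom ≤ wrZ S := by
    rw [← Subgroup.mem_normalizer_iff_map_conj_eq.mp hhN]
    apply Subgroup.map_mono
    rw [Subgroup.zpowers_le]; exact ha
  have h3 := h2 h1
  rw [ha', coe_mem_wrZ_iff, d.mem_center_iff] at h3
  obtain ⟨k, hk⟩ := h3
  exact d.c_ne_e _ _ _ _ hk.symm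

end


open Cfsg.Agent.Lib.Lead

/-- elements of `H C_G(H)` are products -/
theorem sup_centralizer_inner {G : Type*} [Group G] (H : Subgroup G) (x : G)
    (hx : x ∈ H ⊔ Subgroup.centralizer (H : Set G)) :
    ∃ h₀ ∈ H, h₀⁻¹ * x ∈ Subgroup.centralizer (H : Set G) := by
  let M : Subgroup G :=
    { carrier := {x | ∃ h₀ ∈ H, h₀⁻¹ * x ∈ Subgroup.centralizer (H : Set G)}
      one_mem' := ⟨1, H.one_mem, by simp⟩
      mul_mem' := by
        rintro x y ⟨h₁, hh₁, hc₁⟩ ⟨h₂, hh₂, hc₂⟩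
        refine ⟨h₁ * h₂, H.mul_mem hh₁ hh₂, ?_⟩
        have e1 : (h₁ * h₂)⁻¹ * (x * y) = h₂⁻¹ * (h₁⁻¹ * x) * h₂ * (h₂⁻¹ * y) := by group
        have e2 : h₂⁻¹ * (h₁⁻¹ * x) * h₂ = h₁⁻¹ * x := by
          have := hc₁ h₂ hh₂
          calc h₂⁻¹ * (h₁⁻¹ * x) * h₂ = h₂⁻¹ * ((h₁⁻¹ * x) * h₂) := by group
            _ = h₂⁻¹ * (h₂ * (h₁⁻¹ * x)) := by rw [this]
            _ = h₁⁻¹ * x := by group
        rw [e1, e2]
        exact Subgroup.mul_mem _ hc₁ hc₂
      inv_mem' := by
        rintro x ⟨h₁, hh₁, hc₁⟩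
        refine ⟨h₁⁻¹, H.inv_mem hh₁, ?_⟩
        have e1 : h₁⁻¹⁻¹ * x⁻¹ = h₁ * (h₁⁻¹ * x)⁻¹ * h₁⁻¹ := by group
        have e2 : h₁ * (h₁⁻¹ * x)⁻¹ * h₁⁻¹ = (h₁⁻¹ * x)⁻¹ := by
          have := (Subgroup.inv_mem _ hc₁) h₁ hh₁
          calc h₁ * (h₁⁻¹ * x)⁻¹ * h₁⁻¹ = (h₁⁻¹ * x)⁻¹ * h₁ * h₁⁻¹ := by rw [this]
            _ = (h₁⁻¹ * x)⁻¹ := by group
        rw [e1, e2]
        exact Subgroup.inv_mem _ hc₁ }
  have hle : H ⊔ Subgroup.centralizer (H : Set G) ≤ M := by
    apply sup_le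
    · intro h hh
      exact ⟨h, hh, by simp⟩
    · intro c hc
      exact ⟨1, H.one_mem, by simpa using hc⟩
  exact hle hx

theorem mem_centralizer_sup {G : Type*} [Group G] (A B : Subgroup G) (g : G)
    (hA : ∀ a ∈ A, g * a * g⁻¹ = a) (hB : ∀ b ∈ B, g * b * g⁻¹ = b) :
    g ∈ Subgroup.centralizer ((A ⊔ B : Subgroup G) : Set G) := by
  have hle : A ⊔ B ≤ Subgroup.centralizer ({g} : Set G) := by
    apply sup_le
    · intro a ha
      rw [Subgroup.mem_centralizer_singleton_iff]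
      have := hA a ha
      calc a * g = (g * a * g⁻¹) * g := by rw [this]
        _ = g * a := by group
    · intro b hb
      rw [Subgroup.mem_centralizer_singleton_iff]
      have := hB b hb
      calc b * g = (g * b * g⁻¹) * g := by rw [this]
        _ = g * b := by group
  intro x hx
  have := hle hx
  rw [Subgroup.mem_centralizer_singleton_iff] at this
  exact this


open Cfsg.Agent.Lib.Lead

namespace WrData
variable {S : Type*} [Group S] (d : WrData S)

theorem mem_omegaU_iff' (g : S) : g ∈ d.omegaU ↔ g ∈ d.U ∧ g * g = 1 := by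
  rw [mem_omegaU]
  constructor
  · rintro (rfl | rfl | rfl | rfl)
    · exact ⟨d.U.one_mem, one_mul 1⟩
    · exact ⟨d.c_mem_U _ _, d.ch0_sq⟩
    · exact ⟨d.c_mem_U _ _, d.c0h_sq⟩
    · exact ⟨d.c_mem_U _ _, d.chh_sq⟩
  · rintro ⟨⟨i, j, rfl⟩, h⟩
    rw [c_sq, c_eq_one_iff, z2_two_mul_eq_zero d.n d.n_pos, z2_two_mul_eq_zero d.n d.n_pos] at h
    rcases h with ⟨rfl | rfl, rfl | rfl⟩
    · left; exact d.c_zero
    · right; right; left; rfl
    · right; left; rfl
    · right; right; right; rfl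

end WrData

section
variable {G : Type*} [Group G] [Finite G] (S : Sylow 2 G) (d : WrData ↥(S : Subgroup G))

/-- `Ω₁(U)` inside `G` -/
noncomputable def wrOmega : Subgroup G := d.omegaU.map (S : Subgroup G).subtype

omit [Finite G] in
theorem mem_wrOmega_iff (x : G) : x ∈ wrOmega S d ↔ x ∈ wrU S d ∧ x * x = 1 := by
  constructor
  · rintro ⟨s, hs, rfl⟩
    rw [SetLike.mem_coe, d.mem_omegaU_iff'] at hs
    refine ⟨(coe_mem_wrU_iff S d s).mpr hs.1, ?_⟩
    exact congrArg Subtype.val hs.2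
  · rintro ⟨⟨s, hs, rfl⟩, h2⟩
    refine ⟨s, ?_, rfl⟩
    rw [SetLike.mem_coe, d.mem_omegaU_iff']
    exact ⟨hs, Subtype.ext h2⟩

omit [Finite G] in
theorem isKleinFour_wrOmega : IsKleinFour ↥(wrOmega S d) :=
  isKleinFour_of_equiv (d.omegaU.equivMapOfInjective _ (Subgroup.subtype_injective _)) d.isKleinFour_omegaU

theorem normalizer_wrU_le : Subgroup.normalizer (wrU S d : Set G) ≤
    Subgroup.normalizer (wrOmega S d : Set G) := by
  intro g hg
  apply mem_normalizer_of_conj_mem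
  intro t ht
  rw [mem_wrOmega_iff] at ht ⊢
  refine ⟨(Subgroup.mem_normalizer_iff.mp hg t).mp ht.1, ?_⟩
  calc g * t * g⁻¹ * (g * t * g⁻¹) = g * (t * t) * g⁻¹ := by group
    _ = 1 := by rw [ht.2]; group

/-- `|N_G(U) : C_G(U)|` is `2` or `6` -/
theorem wr_index_U :
    (Subgroup.centralizer (wrU S d : Set G)).relIndex (Subgroup.normalizer (wrU S d : Set G)) = 2 ∨
    (Subgroup.centralizer (wrU S d : Set G)).relIndex (Subgroup.normalizer (wrU S d : Set G)) = 6 := by
  have := isKleinFour_wrOmega S d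
  set N := Subgroup.normalizer (wrU S d : Set G) with hN
  let φ : ↥N →* MulAut ↥(wrOmega S d) :=
    (wrOmega S d).normalizerMonoidHom.comp (Subgroup.inclusion (normalizer_wrU_le S d))
  have hCn : ((Subgroup.centralizer (wrU S d : Set G)).subgroupOf N).Normal := by
    rw [hN, ← Subgroup.normalizerMonoidHom_ker]; infer_instance
  have hSN : (S : Subgroup G) ≤ N := sylow_le_normalizer_wrU S d
  have hR : ((S : Subgroup G).subgroupOf N).index % 2 = 1 := by
    have h1 : (S : Subgroup G).relIndex N ∣ (S : Subgroup G).index :=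
      Subgroup.relIndex_dvd_index_of_le hSN
    have h2 : ¬ 2 ∣ (S : Subgroup G).index := S.not_dvd_index
    have h3 : ¬ 2 ∣ (S : Subgroup G).relIndex N := fun h => h2 (h.trans h1)
    show (S : Subgroup G).relIndex N % 2 = 1
    omega
  have hCS : Subgroup.centralizer (wrU S d : Set G) ⊓ (S : Subgroup G) = wrU S d := by
    apply le_antisymm
    · rintro x ⟨hxC, hxS⟩
      rcases wr_cases S d x hxS with ⟨i, j, rfl⟩ | ⟨i, j, rfl⟩
      · exact (mem_wrU_iff S d _).mpr ⟨i, j, rfl⟩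
      · exfalso
        have h1 := hxC ((d.c 1 0 : ↥(S : Subgroup G)) : G) ((mem_wrU_iff S d _).mpr ⟨1, 0, rfl⟩)
        have h2 : d.c 1 0 * d.e i j = d.e i j * d.c 1 0 := Subtype.ext h1
        rw [d.c_comm_e_iff] at h2
        exact d.one_ne_zero' h2
    · intro x hx
      refine ⟨?_, wrU_le S d hx⟩
      intro y hy
      exact wrU_comm S d y x hy hx
  have hCR : ((Subgroup.centralizer (wrU S d : Set G)).subgroupOf N).relIndex
      ((S : Subgroup G).subgroupOf N) = 2 := by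
    rw [Subgroup.relIndex_subgroupOf hSN, ← Subgroup.inf_relIndex_right, hCS]
    unfold wrU
    rw [relIndex_map_subtype_of_index, d.index_U]
  have hA : Nat.card (MulAut ↥(wrOmega S d)) ∣ 6 := klein_card_mulAut_dvd _
  have hCφ : (Subgroup.centralizer (wrU S d : Set G)).subgroupOf N ≤ φ.ker := by
    intro g hg
    rw [Subgroup.mem_subgroupOf] at hg
    rw [MonoidHom.mem_ker]
    ext t
    show (g : G) * (t : G) * (g : G)⁻¹ = (t : G)
    have ht := ((mem_wrOmega_iff S d _).mp t.2).1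
    have := hg _ ht
    rw [← this]; group
  have hodd : ∀ g ∈ φ.ker, (orderOf g).Coprime 2 →
      g ∈ (Subgroup.centralizer (wrU S d : Set G)).subgroupOf N := by
    intro g hg ho
    rw [Subgroup.mem_subgroupOf]
    rw [MonoidHom.mem_ker] at hg
    have hΩ : ∀ u ∈ wrU S d, u * u = 1 → (g : G) * u * (g : G)⁻¹ = u := by
      intro u hu h2
      have hu' : u ∈ wrOmega S d := (mem_wrOmega_iff S d u).mpr ⟨hu, h2⟩
      have := congrArg (fun a : MulAut ↥(wrOmega S d) => ((a ⟨u, hu'⟩ : ↥(wrOmega S d)) : G)) hg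
      exact this
    have ho' : (orderOf (g : G)).Coprime 2 := by rwa [Subgroup.orderOf_coe]
    have := odd_centralizes_of_omega (wrU S d) (fun a ha b hb => wrU_comm S d a b ha hb)
      (isPGroup_of_le_sylow S _ (wrU_le S d)) (g : G)
      (fun u hu => (Subgroup.mem_normalizer_iff.mp g.2 u).mp hu) ho' hΩ
    intro u hu
    have h1 := this u hu
    calc u * (g : G) = (g : G) * u * (g : G)⁻¹ * (g : G) := by rw [h1]
      _ = (g : G) * u := by group
  exact index_two_or_six_of_hom _ _ hR hCR hA φ hCφ hodd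

end

end Cfsg.Agent.Lib.Helper3
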