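import Mathlib
import Cfsg.Agent.Lib.Helper3.WrFus3

set_option autoImplicit false

namespace Cfsg.Agent.Lib.Helper3
open Cfsg.Agent.Lib.Lead

section
variable {G : Type*} [Group G] [Finite G] (S : Sylow 2 G) (d : WrData ↥(S : Subgroup G))

/-- the quaternion subgroup of index `2 ^ n`, inside `G` -/
noncomputable def wrQuat : Subgroup G := d.quatS.map (S : Subgroup G).subtype

omit [Finite G] in
theorem coe_mem_wrQuat_iff (s : ↥(S : Subgroup G)) : (s : G) ∈ wrQuat S d ↔ s ∈ d.quatS :=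
  coe_mem_map_subtype_iff _ _ _

omit [Finite G] in
theorem wrQuat_le : wrQuat S d ≤ S := Subgroup.map_subtype_le _

omit [Finite G] in
/-- a quaternion subgroup of order eight of `S` lies in `wrQuat` -/
theorem quat_le_wrQuat (Q : Subgroup G) (hQS : Q ≤ S) (eQ : ↥Q ≃* QuaternionGroup 2) :
    Q ≤ wrQuat S d := by
  have e' : ↥(Q.subgroupOf S) ≃* QuaternionGroup 2 := (Subgroup.subgroupOfEquivOfLe hQS).trans eQ
  have h1 := d.quat_le_quatS _ e'
  intro q hq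
  have : (⟨q, hQS hq⟩ : ↥(S : Subgroup G)) ∈ d.quatS := h1 (Subgroup.mem_subgroupOf.mpr hq)
  exact ⟨_, this, rfl⟩

omit [Finite G] in
theorem wr_V_eq (Q : Subgroup G) (hQS : Q ≤ S) (eQ : ↥Q ≃* QuaternionGroup 2) :
    ∃ k' : ZMod (2 ^ d.n), Q ⊔ wrZ S = wrV S d (2 * k') ∧ Q = wrV S d (2 * k') ⊓ wrQuat S d := by
  have e' : ↥(Q.subgroupOf S) ≃* QuaternionGroup 2 := (Subgroup.subgroupOfEquivOfLe hQS).trans eQ
  obtain ⟨k', h1, h2⟩ := d.quat_sup_center _ e'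
  refine ⟨k', ?_, ?_⟩
  · unfold wrV wrZ
    rw [← h1, Subgroup.map_sup, Subgroup.map_subgroupOf_eq_of_le hQS]
  · unfold wrV wrQuat
    rw [← Subgroup.map_inf _ _ _ (Subgroup.subtype_injective _), ← h2,
      Subgroup.map_subgroupOf_eq_of_le hQS]

include d in
/-- `N_G(Q Z(S)) ≤ N_G(Q)` -/
theorem normalizer_V_le_normalizer_Q (Q : Subgroup G) (hQS : Q ≤ S) (eQ : ↥Q ≃* QuaternionGroup 2) :
    Subgroup.normalizer ((Q ⊔ wrZ S : Subgroup G) : Set G) ≤ Subgroup.normalizer (Q : Set G) := by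
  obtain ⟨k', hV, hQ⟩ := wr_V_eq S d Q hQS eQ
  intro g hg
  apply mem_normalizer_of_conj_mem
  intro t ht
  have hQg : Q.map (MulAut.conj g).toMonoidHom ≤ Q ⊔ wrZ S := by
    rintro _ ⟨q, hq, rfl⟩
    exact (Subgroup.mem_normalizer_iff.mp hg q).mp (Subgroup.mem_sup_left hq)
  have hQgS : Q.map (MulAut.conj g).toMonoidHom ≤ S := by
    rw [hV] at hQg
    exact hQg.trans (wrV_le S d _)
  have eg : ↥(Q.map (MulAut.conj g).toMonoidHom) ≃* QuaternionGroup 2 :=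
    (Q.equivMapOfInjective _ (MulAut.conj g).injective).symm.trans eQ
  have h1 := quat_le_wrQuat S d _ hQgS eg
  have h2 : g * t * g⁻¹ ∈ Q.map (MulAut.conj g).toMonoidHom := ⟨t, ht, rfl⟩
  rw [hQ, ← hV]
  exact ⟨hQg h2, h1 h2⟩

omit [Finite G] in
theorem wrZ_le_wrV (κ : ZMod (2 ^ d.n)) : wrZ S ≤ wrV S d κ := by
  rintro _ ⟨z, hz, rfl⟩
  exact ⟨z, d.center_le_Vk _ hz, rfl⟩

/-- `N_G(V) ≤ N_G(Z(S))` -/
theorem normalizer_wrV_le_normalizer_wrZ (κ : ZMod (2 ^ d.n)) :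
    Subgroup.normalizer (wrV S d κ : Set G) ≤ Subgroup.normalizer (wrZ S : Set G) := by
  intro g hg
  apply wr_conj_center_normalizer S d (wrV S d κ) (wrV_le S d _) (wrZ_le_wrV S d κ)
    ((d.e κ 0 : ↥(S : Subgroup G)) : G) ((d.c (z2half d.n) 0 : ↥(S : Subgroup G)) : G)
    ((coe_mem_wrV_iff S d _ _).mpr (d.eκ0_mem_Vk _)) ((coe_mem_wrV_iff S d _ _).mpr (d.ch0_mem_Vk _))
    (fun h' => d.Vk_noncomm_elts κ (Subtype.ext h')) g
  intro w hw
  have hgi : g⁻¹ ∈ Subgroup.normalizer (wrV S d κ : Set G) := Subgroup.inv_mem _ hg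
  have := (Subgroup.mem_normalizer_iff.mp hgi w).mp hw
  rw [inv_inv] at this
  exact wrV_le S d _ this

omit [Finite G] in
theorem centralizer_wrV_inf_le (κ : ZMod (2 ^ d.n)) :
    Subgroup.centralizer (wrV S d κ : Set G) ⊓ (S : Subgroup G) ≤ wrZ S := by
  rintro x ⟨hxC, hxS⟩
  have : (⟨x, hxS⟩ : ↥(S : Subgroup G)) ∈ Subgroup.centralizer (d.Vk κ : Set ↥(S : Subgroup G)) := by
    intro v hv
    apply Subtype.ext
    exact hxC (v : G) ((coe_mem_wrV_iff S d κ v).mpr hv)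
  exact ⟨_, d.centralizer_Vk_le κ this, rfl⟩

omit [Finite G] in
/-- `V C_G(V) ∩ S = V` -/
theorem wrV_sup_centralizer_inf (κ : ZMod (2 ^ d.n)) :
    (wrV S d κ ⊔ Subgroup.centralizer (wrV S d κ : Set G)) ⊓ (S : Subgroup G) = wrV S d κ := by
  apply le_antisymm
  · rintro x ⟨hx, hxS⟩
    obtain ⟨v, hv, hc⟩ := sup_centralizer_inner _ x hx
    have hcS : v⁻¹ * x ∈ (S : Subgroup G) :=
      Subgroup.mul_mem _ (Subgroup.inv_mem _ (wrV_le S d κ hv)) hxS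
    have h1 := centralizer_wrV_inf_le S d κ ⟨hc, hcS⟩
    have h2 : x = v * (v⁻¹ * x) := by group
    rw [h2]
    exact Subgroup.mul_mem _ hv (wrZ_le_wrV S d κ h1)
  · intro x hx
    exact ⟨Subgroup.mem_sup_left hx, wrV_le S d κ hx⟩

end

end Cfsg.Agent.Lib.Helper3
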