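import Mathlib
import Cfsg.Agent.Lib.Helper3.WrFus4

set_option autoImplicit false

namespace Cfsg.Agent.Lib.Helper3
open Cfsg.Agent.Lib.Lead

section
variable {G : Type*} [Group G] [Finite G] (S : Sylow 2 G) (d : WrData ↥(S : Subgroup G))

/-- `N_S(V)` inside `G` -/
theorem sylow_inf_normalizer_wrV (κ : ZMod (2 ^ d.n)) :
    (S : Subgroup G) ⊓ Subgroup.normalizer (wrV S d κ : Set G) =
      (Subgroup.normalizer (d.Vk κ : Set ↥(S : Subgroup G))).map (S : Subgroup G).subtype := by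
  ext x
  constructor
  · rintro ⟨hxS, hxN⟩
    refine ⟨⟨x, hxS⟩, ?_, rfl⟩
    apply mem_normalizer_of_conj_mem
    intro v hv
    have h1 := (Subgroup.mem_normalizer_iff.mp hxN (v : G)).mp ((coe_mem_wrV_iff S d κ v).mpr hv)
    have h2 : x * (v : G) * x⁻¹ = ((⟨x, hxS⟩ * v * (⟨x, hxS⟩ : ↥(S : Subgroup G))⁻¹ :
        ↥(S : Subgroup G)) : G) := rfl
    rw [h2, coe_mem_wrV_iff] at h1
    exact h1
  · rintro ⟨s, hs, rfl⟩
    refine ⟨s.2, ?_⟩
    apply mem_normalizer_of_conj_mem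
    rintro _ ⟨v, hv, rfl⟩
    have h1 := (Subgroup.mem_normalizer_iff.mp hs v).mp hv
    exact ⟨_, h1, rfl⟩

theorem card_sylow_inf_normalizer_wrV (κ : ZMod (2 ^ d.n)) :
    Nat.card ↥((S : Subgroup G) ⊓ Subgroup.normalizer (wrV S d κ : Set G)) = 2 ^ (d.n + 3) := by
  rw [sylow_inf_normalizer_wrV, Subgroup.card_map_of_injective (Subgroup.subtype_injective _),
    d.card_normalizer_Vk]

theorem relIndex_wrV_sylow_inf_normalizer (κ : ZMod (2 ^ d.n)) :
    (wrV S d κ).relIndex ((S : Subgroup G) ⊓ Subgroup.normalizer (wrV S d κ : Set G)) = 2 := by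
  rw [sylow_inf_normalizer_wrV]
  unfold wrV
  rw [Subgroup.relIndex_map_map_of_injective _ _ (Subgroup.subtype_injective _)]
  exact d.relIndex_Vk_normalizer κ

end

end Cfsg.Agent.Lib.Helper3
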