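import Mathlib
import Cfsg.Agent.Lib.Helper3.WrFus5

set_option autoImplicit false

namespace Cfsg.Agent.Lib.Helper3
open Cfsg.Agent.Lib.Lead

section
variable {G : Type*} [Group G] [Finite G] (S : Sylow 2 G) (d : WrData ↥(S : Subgroup G))

/-- a `2`-subgroup of `N_G(V)` containing `V` has order at most `2 ^ (n + 3)` -/
theorem card_le_of_le_normalizer_V (Q : Subgroup G) (hQS : Q ≤ S) (eQ : ↥Q ≃* QuaternionGroup 2)
    (P : Subgroup G) (hP2 : IsPGroup 2 ↥P) (hVP : Q ⊔ wrZ S ≤ P)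
    (hPN : P ≤ Subgroup.normalizer ((Q ⊔ wrZ S : Subgroup G) : Set G)) :
    Nat.card ↥P ≤ 2 ^ (d.n + 3) := by
  obtain ⟨k', hV, -⟩ := wr_V_eq S d Q hQS eQ
  obtain ⟨P₂, hP₂⟩ := hP2.exists_le_sylow
  obtain ⟨g, hg⟩ := MulAction.exists_smul_eq G S P₂
  have hPS : ∀ p ∈ P, g⁻¹ * p * g ∈ (S : Subgroup G) := by
    intro p hp
    have := hP₂ hp
    rw [← hg, Sylow.coe_subgroup_smul, mem_conj_smul_iff'] at this
    exact this
  -- `g` normalizes the centre
  have hgZ : g ∈ Subgroup.normalizer (wrZ S : Set G) := by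
    apply wr_conj_center_normalizer S d (wrV S d (2 * k')) (wrV_le S d _) (wrZ_le_wrV S d _)
      ((d.e (2 * k') 0 : ↥(S : Subgroup G)) : G) ((d.c (z2half d.n) 0 : ↥(S : Subgroup G)) : G)
      ((coe_mem_wrV_iff S d _ _).mpr (d.eκ0_mem_Vk _))
      ((coe_mem_wrV_iff S d _ _).mpr (d.ch0_mem_Vk _))
      (fun h' => d.Vk_noncomm_elts (2 * k') (Subtype.ext h')) g
    intro w hw
    rw [← hV] at hw
    exact hPS w (hVP hw)
  have hgiZ : g⁻¹ ∈ Subgroup.normalizer (wrZ S : Set G) := Subgroup.inv_mem _ hgZ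
  -- the conjugate quaternion group
  set Q' : Subgroup G := Q.map (MulAut.conj g⁻¹).toMonoidHom with hQ'
  have hQ'S : Q' ≤ S := by
    rintro _ ⟨q, hq, rfl⟩
    have := hPS q (hVP (Subgroup.mem_sup_left hq))
    have e : (MulAut.conj g⁻¹).toMonoidHom q = g⁻¹ * q * g := by simp [MulAut.conj_apply]
    rw [e]; exact this
  have eQ' : ↥Q' ≃* QuaternionGroup 2 :=
    (Q.equivMapOfInjective _ (MulAut.conj g⁻¹).injective).symm.trans eQ
  obtain ⟨k'', hV', -⟩ := wr_V_eq S d Q' hQ'S eQ'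
  have hVmap : (Q ⊔ wrZ S).map (MulAut.conj g⁻¹).toMonoidHom = wrV S d (2 * k'') := by
    have hz : (wrZ S).map (MulAut.conj g⁻¹).toMonoidHom = wrZ S :=
      Subgroup.mem_normalizer_iff_map_conj_eq.mp hgiZ
    rw [Subgroup.map_sup, ← hQ', hz, hV']
  -- the conjugate of `P`
  set P' : Subgroup G := P.map (MulAut.conj g⁻¹).toMonoidHom with hP'
  have hP'le : P' ≤ (S : Subgroup G) ⊓ Subgroup.normalizer (wrV S d (2 * k'') : Set G) := by
    intro y hy
    obtain ⟨p, hp, rfl⟩ := hy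
    rw [Subgroup.mem_inf]
    refine ⟨?_, ?_⟩
    · have := hPS p hp
      have e : (MulAut.conj g⁻¹).toMonoidHom p = g⁻¹ * p * g := by simp [MulAut.conj_apply]
      rw [e]; exact this
    · rw [← hVmap]
      have h1 := hPN hp
      rw [Subgroup.mem_normalizer_iff] at h1 ⊢
      intro y
      rw [mem_map_conj_iff, mem_map_conj_iff, h1 (g⁻¹⁻¹ * y * g⁻¹)]
      have : g⁻¹⁻¹ * ((MulAut.conj g⁻¹).toMonoidHom p * y * ((MulAut.conj g⁻¹).toMonoidHom p)⁻¹) * g⁻¹
          = p * (g⁻¹⁻¹ * y * g⁻¹) * p⁻¹ := by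
        simp only [MulEquiv.coe_toMonoidHom, MulAut.conj_apply]
        group
      rw [this]
  calc Nat.card ↥P = Nat.card ↥P' := by
        rw [hP', Subgroup.card_map_of_injective (MulAut.conj g⁻¹).injective]
    _ ≤ Nat.card ↥((S : Subgroup G) ⊓ Subgroup.normalizer (wrV S d (2 * k'') : Set G)) :=
        Subgroup.card_le_of_le hP'le
    _ = 2 ^ (d.n + 3) := card_sylow_inf_normalizer_wrV S d _

include d in
/-- `N_S(V)` is a Sylow `2`-subgroup of `N_G(V)` -/
theorem wr_relIndex_sylow_normalizer_V (Q : Subgroup G) (hQS : Q ≤ S) (eQ : ↥Q ≃* QuaternionGroup 2) :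
    ((S : Subgroup G).subgroupOf
      (Subgroup.normalizer ((Q ⊔ wrZ S : Subgroup G) : Set G))).index % 2 = 1 := by
  obtain ⟨k', hV, -⟩ := wr_V_eq S d Q hQS eQ
  set N := Subgroup.normalizer ((Q ⊔ wrZ S : Subgroup G) : Set G) with hN
  have hR2 : IsPGroup 2 ↥((S : Subgroup G).subgroupOf N) := S.isPGroup'.comap_subtype
  obtain ⟨P, hP⟩ := hR2.exists_le_sylow
  have hVS : Q ⊔ wrZ S ≤ S := by rw [hV]; exact wrV_le S d _
  have hc := card_le_of_le_normalizer_V S d Q hQS eQ ((P : Subgroup ↥N).map N.subtype)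
    (P.isPGroup'.map _) (by
      intro v hv
      have hvN : v ∈ N := Subgroup.le_normalizer hv
      exact ⟨⟨v, hvN⟩, hP (Subgroup.mem_subgroupOf.mpr (hVS hv)), rfl⟩)
    (Subgroup.map_subtype_le _)
  rw [Subgroup.card_map_of_injective (Subgroup.subtype_injective _)] at hc
  have hcR : Nat.card ↥((S : Subgroup G).subgroupOf N) = 2 ^ (d.n + 3) := by
    have h1 : Nat.card ↥((S : Subgroup G).subgroupOf N) = Nat.card ↥((S : Subgroup G) ⊓ N) := by
      rw [← Subgroup.inf_subgroupOf_right, card_subgroupOf_of_le inf_le_right]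
    rw [h1, hN, hV]
    exact card_sylow_inf_normalizer_wrV S d _
  have heq : (S : Subgroup G).subgroupOf N = (P : Subgroup ↥N) := by
    apply Subgroup.eq_of_le_of_card_ge hP
    rw [hcR]; exact hc
  rw [heq]
  have := P.not_dvd_index
  omega

end

end Cfsg.Agent.Lib.Helper3
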