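import Mathlib
import Cfsg.Agent.Lib.Helper3.WrFus6

set_option autoImplicit false

namespace Cfsg.Agent.Lib.Helper3
open Cfsg.Agent.Lib.Lead

theorem q8_mem_order_four : ∀ x : QuaternionGroup 2, ∃ w : QuaternionGroup 2,
    w * w ≠ 1 ∧ (w * w) * (w * w) = 1 ∧ ∃ k : Fin 4, x = w ^ (k : ℕ) := by
  decide +kernel

theorem q8_sub_mem_order_four {G : Type*} [Group G] (Q : Subgroup G) (e : ↥Q ≃* QuaternionGroup 2)
    (x : G) (hx : x ∈ Q) : ∃ w ∈ Q, orderOf w = 4 ∧ x ∈ Subgroup.zpowers w := by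
  obtain ⟨w, h2, h4, k, hk⟩ := q8_mem_order_four (e ⟨x, hx⟩)
  refine ⟨(e.symm w : ↥Q), (e.symm w).2, ?_, ?_⟩
  · apply orderOf_eq_four_of_sq _ _ rfl
    · intro h
      apply h2
      have : e.symm w * e.symm w = 1 := Subtype.ext h
      rw [← map_mul, ← map_one e.symm] at this
      exact e.symm.injective this
    · have : (e.symm w * e.symm w) * (e.symm w * e.symm w) = 1 := by
        rw [← map_mul, ← map_mul, h4, map_one]
      exact congrArg Subtype.val this
  · refine ⟨(k : ℕ), ?_⟩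
    have h1 : (⟨x, hx⟩ : ↥Q) = e.symm w ^ (k : ℕ) := by
      apply e.injective
      rw [map_pow, e.apply_symm_apply]; exact hk
    have := congrArg Subtype.val h1
    simpa using this.symm

end Cfsg.Agent.Lib.Helper3
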