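import Mathlib
import Cfsg.Agent.Lib.Helper3.WrFus7

set_option autoImplicit false

namespace Cfsg.Agent.Lib.Helper3
open Cfsg.Agent.Lib.Lead

section
variable {G : Type*} [Group G] [Finite G] (S : Sylow 2 G) (d : WrData ↥(S : Subgroup G))

omit [Finite G] in
include d in
theorem isCyclic_wrZ : IsCyclic ↥(wrZ S) := by
  have := d.isCyclic_center
  exact isCyclic_of_surjective _
    ((Subgroup.center ↥(S : Subgroup G)).equivMapOfInjective _ (Subgroup.subtype_injective _)).surjective

omit [Finite G] in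
theorem card_wrZ : Nat.card ↥(wrZ S) = 2 ^ d.n := by
  unfold wrZ
  rw [Subgroup.card_map_of_injective (Subgroup.subtype_injective _), d.card_center]

include d in
/-- an element of odd order of `N_G(V)` normalizing every subgroup of order four of `Q`
centralizes `V` -/
theorem odd_centralizes_V (Q : Subgroup G) (hQS : Q ≤ S) (eQ : ↥Q ≃* QuaternionGroup 2) (g : G)
    (hgN : g ∈ Subgroup.normalizer ((Q ⊔ wrZ S : Subgroup G) : Set G))
    (ho : (orderOf g).Coprime 2)
    (hfix : ∀ A : Subgroup G, A ≤ Q → Nat.card A = 4 → A.map (MulAut.conj g).toMonoidHom = A) :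
    g ∈ Subgroup.centralizer ((Q ⊔ wrZ S : Subgroup G) : Set G) := by
  obtain ⟨k', hV, -⟩ := wr_V_eq S d Q hQS eQ
  apply mem_centralizer_sup
  · intro x hx
    obtain ⟨w, hw, hw4, hxw⟩ := q8_sub_mem_order_four Q eQ x hx
    have hA : Subgroup.zpowers w ≤ Q := by rw [Subgroup.zpowers_le]; exact hw
    have hc4 : Nat.card ↥(Subgroup.zpowers w) = 4 := by rw [Nat.card_zpowers, hw4]
    have h1 := hfix _ hA hc4
    have h2 : g ∈ Subgroup.normalizer (Subgroup.zpowers w : Set G) :=
      Subgroup.mem_normalizer_iff_map_conj_eq.mpr h1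
    have h3 := odd_centralizes_cyclic (Subgroup.zpowers w) 2 (by rw [hc4]; norm_num) g h2 ho
    have := h3 x hxw
    rw [← this]; group
  · intro z hz
    have hgZ : g ∈ Subgroup.normalizer (wrZ S : Set G) := by
      rw [hV] at hgN
      exact normalizer_wrV_le_normalizer_wrZ S d _ hgN
    have := isCyclic_wrZ S d
    have h3 := odd_centralizes_cyclic (wrZ S) d.n (card_wrZ S d) g hgZ ho
    have := h3 z hz
    rw [← this]; group

include d in
/-- `|N_G(V) : V C_G(V)|` is `2` or `6` -/
theorem wr_index_V (Q : Subgroup G) (hQS : Q ≤ S) (eQ : ↥Q ≃* QuaternionGroup 2) :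
    ((Q ⊔ wrZ S) ⊔ Subgroup.centralizer ((Q ⊔ wrZ S : Subgroup G) : Set G)).relIndex
      (Subgroup.normalizer ((Q ⊔ wrZ S : Subgroup G) : Set G)) = 2 ∨
    ((Q ⊔ wrZ S) ⊔ Subgroup.centralizer ((Q ⊔ wrZ S : Subgroup G) : Set G)).relIndex
      (Subgroup.normalizer ((Q ⊔ wrZ S : Subgroup G) : Set G)) = 6 := by
  classical
  obtain ⟨k', hV, -⟩ := wr_V_eq S d Q hQS eQ
  set V : Subgroup G := Q ⊔ wrZ S with hVdef
  set N := Subgroup.normalizer (V : Set G) with hN
  set C := V ⊔ Subgroup.centralizer (V : Set G) with hC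
  have hVN : V ≤ N := Subgroup.le_normalizer
  have hCN : Subgroup.centralizer (V : Set G) ≤ N := Subgroup.centralizer_le_normalizer _
  have hNQ : N ≤ Subgroup.normalizer (Q : Set G) := normalizer_V_le_normalizer_Q S d Q hQS eQ
  have : Finite (OrdFour Q) := by unfold OrdFour; infer_instance
  let φ : ↥N →* Equiv.Perm (OrdFour Q) :=
    (MulAction.toPermHom ↥(Subgroup.normalizer (Q : Set G)) (OrdFour Q)).comp (Subgroup.inclusion hNQ)
  have hCn : (C.subgroupOf N).Normal := by
    rw [hC, Subgroup.subgroupOf_sup hVN hCN]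
    have h1 : (V.subgroupOf N).Normal := Subgroup.normal_in_normalizer
    have h2 : ((Subgroup.centralizer (V : Set G)).subgroupOf N).Normal := by
      rw [hN, ← Subgroup.normalizerMonoidHom_ker]; infer_instance
    infer_instance
  have hR := wr_relIndex_sylow_normalizer_V S d Q hQS eQ
  have hCR : (C.subgroupOf N).relIndex ((S : Subgroup G).subgroupOf N) = 2 := by
    rw [← Subgroup.inf_subgroupOf_right (S : Subgroup G) N,
      Subgroup.relIndex_subgroupOf inf_le_right, ← Subgroup.inf_relIndex_right]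
    have h1 : C ⊓ ((S : Subgroup G) ⊓ N) = V := by
      rw [← inf_assoc, hC, hV, wrV_sup_centralizer_inf, ← hV]
      exact inf_eq_left.mpr hVN
    rw [h1, hN, hV]
    exact relIndex_wrV_sylow_inf_normalizer S d _
  have hA : Nat.card (Equiv.Perm (OrdFour Q)) ∣ 6 := by
    rw [Nat.card_perm]
    have := card_ordFour_le Q eQ
    interval_cases (Nat.card (OrdFour Q)) <;> decide
  have hCφ : C.subgroupOf N ≤ φ.ker := by
    intro g hg
    rw [Subgroup.mem_subgroupOf] at hg
    rw [MonoidHom.mem_ker]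
    show MulAction.toPermHom _ _ (Subgroup.inclusion hNQ g) = 1
    rw [← MonoidHom.mem_ker, q8_ker_ordFour Q eQ, Subgroup.mem_subgroupOf]
    have hle : C ≤ Q ⊔ Subgroup.centralizer (Q : Set G) := by
      rw [hC, hVdef]
      apply sup_le (sup_le le_sup_left ?_) ?_
      · apply le_trans _ le_sup_right
        intro z hz q hq
        exact wrZ_central S z q hz (hQS hq)
      · apply le_trans _ le_sup_right
        exact Subgroup.centralizer_le (by
          intro q hq; exact (Subgroup.mem_sup_left hq : q ∈ Q ⊔ wrZ S))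
    exact hle hg
  have hodd : ∀ g ∈ φ.ker, (orderOf g).Coprime 2 → g ∈ C.subgroupOf N := by
    intro g hg ho
    rw [Subgroup.mem_subgroupOf]
    rw [MonoidHom.mem_ker] at hg
    have hg' : Subgroup.inclusion hNQ g ∈
        (MulAction.toPermHom ↥(Subgroup.normalizer (Q : Set G)) (OrdFour Q)).ker := hg
    rw [mem_ker_ordFour_iff] at hg'
    have ho' : (orderOf (g : G)).Coprime 2 := by rwa [Subgroup.orderOf_coe]
    exact Subgroup.mem_sup_right (odd_centralizes_V S d Q hQS eQ (g : G) g.2 ho' hg')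
  exact index_two_or_six_of_hom _ _ hR hCR hA φ hCφ hodd

end

end Cfsg.Agent.Lib.Helper3
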