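import Mathlib
import Cfsg.Agent.Lib.Helper3.WrFus8
import Cfsg.Agent.Lib.Lead.Residual

set_option autoImplicit false

namespace Cfsg.Agent.Lib.Helper3
open Cfsg.Agent.Lib.Lead
open scoped commutatorElement

/-- a subgroup on which an element of odd order acts without fixed points lies in `O^2(G)` -/
theorem abelian_le_pResidual_of_fixed_point_free {G : Type*} [Group G] (U : Subgroup G) [Finite ↥U]
    (τ : G) (hτN : ∀ u ∈ U, τ * u * τ⁻¹ ∈ U)
    (hτ : (orderOf τ).Coprime 2) (hfix : ∀ u ∈ U, τ * u * τ⁻¹ = u → u = 1) :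
    U ≤ Cfsg.pResidual 2 G := by
  let f : ↥U → ↥U := fun u => ⟨(u : G)⁻¹ * (τ * (u : G) * τ⁻¹), U.mul_mem (U.inv_mem u.2) (hτN _ u.2)⟩
  have hinj : Function.Injective f := by
    intro u v huv
    have h1 : (u : G)⁻¹ * (τ * (u : G) * τ⁻¹) = (v : G)⁻¹ * (τ * (v : G) * τ⁻¹) :=
      congrArg Subtype.val huv
    have h2 : τ * ((u : G) * (v : G)⁻¹) * τ⁻¹ = (u : G) * (v : G)⁻¹ := by
      have e1 : τ * ((u : G) * (v : G)⁻¹) * τ⁻¹ = (τ * (u : G) * τ⁻¹) * (τ * (v : G) * τ⁻¹)⁻¹ := by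
        group
      have e2 : τ * (u : G) * τ⁻¹ = (u : G) * ((v : G)⁻¹ * (τ * (v : G) * τ⁻¹)) := by
        rw [← h1]; group
      rw [e1, e2]; group
    have h3 := hfix _ (U.mul_mem u.2 (U.inv_mem v.2)) h2
    apply Subtype.ext
    calc (u : G) = (u : G) * (v : G)⁻¹ * (v : G) := by group
      _ = (v : G) := by rw [h3, one_mul]
  have hsurj : Function.Surjective f := Finite.injective_iff_surjective.mp hinj
  intro x hx
  obtain ⟨u, hu⟩ := hsurj ⟨x, hx⟩
  have h1 : (u : G)⁻¹ * (τ * (u : G) * τ⁻¹) = x := congrArg Subtype.val hu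
  have h2 : ⁅(u : G)⁻¹, τ⁆ = x := by
    rw [commutatorElement_def, ← h1]; group
  rw [← h2]
  exact commutator_mem_pResidual _ _ hτ

section
variable {G : Type*} [Group G] [Finite G] (S : Sylow 2 G) (d : WrData ↥(S : Subgroup G))

omit [Finite G] in
theorem mem_wrOmega_cases (t : G) (ht : t ∈ wrOmega S d) :
    t = 1 ∨ t = ((d.c (z2half d.n) 0 : ↥(S : Subgroup G)) : G) ∨
      t = ((d.c 0 (z2half d.n) : ↥(S : Subgroup G)) : G) ∨
      t = ((d.c (z2half d.n) (z2half d.n) : ↥(S : Subgroup G)) : G) := by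
  obtain ⟨s, hs, rfl⟩ := ht
  rw [SetLike.mem_coe, d.mem_omegaU] at hs
  rcases hs with h | h | h | h
  · left; rw [h]; rfl
  · right; left; rw [h]; rfl
  · right; right; left; rw [h]; rfl
  · right; right; right; rw [h]; rfl

omit [Finite G] in
theorem card_wrOmega : Nat.card ↥(wrOmega S d) = 4 := (isKleinFour_wrOmega S d).card_four

omit [Finite G] in
theorem isConj_u1_u2 : IsConj ((d.c (z2half d.n) 0 : ↥(S : Subgroup G)) : G)
    ((d.c 0 (z2half d.n) : ↥(S : Subgroup G)) : G) := by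
  apply isConj_coe _ _ _ d.z
  rw [← d.e_zero, d.e_conj_c]

/-- consequences of `|N_G(U) : C_G(U)| = 6` -/
theorem wr_six_U
    (h₁ : (Subgroup.centralizer (wrU S d : Set G)).relIndex (Subgroup.normalizer (wrU S d : Set G)) = 6) :
    IsConj ((d.c (z2half d.n) (z2half d.n) : ↥(S : Subgroup G)) : G)
      ((d.c (z2half d.n) 0 : ↥(S : Subgroup G)) : G) ∧ wrU S d ≤ Cfsg.pResidual 2 G := by
  have hCn : ((Subgroup.centralizer (wrU S d : Set G)).subgroupOf
      (Subgroup.normalizer (wrU S d : Set G))).Normal := by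
    rw [← Subgroup.normalizerMonoidHom_ker]; infer_instance
  obtain ⟨τ, hτN, hτo, hτC⟩ := exists_odd_order_not_mem _ _ hCn h₁
  have hτU : ∀ u ∈ wrU S d, τ * u * τ⁻¹ ∈ wrU S d :=
    fun u hu => (Subgroup.mem_normalizer_iff.mp hτN u).mp hu
  have hτΩ : ∀ u ∈ wrOmega S d, τ * u * τ⁻¹ ∈ wrOmega S d := by
    have := normalizer_wrU_le S d hτN
    exact fun u hu => (Subgroup.mem_normalizer_iff.mp this u).mp hu
  have hU2 : IsPGroup 2 ↥(wrU S d) := isPGroup_of_le_sylow S _ (wrU_le S d)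
  -- no fixed involution
  have hnofix : ∀ t ∈ wrOmega S d, t ≠ 1 → τ * t * τ⁻¹ ≠ t := by
    intro t ht ht1 hfix
    apply hτC
    have ht2 : t * t = 1 := ((mem_wrOmega_iff S d t).mp ht).2
    have hto : orderOf t = 2 := orderOf_eq_prime (by rw [pow_two]; exact ht2) ht1
    have hle : Subgroup.zpowers t ≤ wrOmega S d := by rw [Subgroup.zpowers_le]; exact ht
    have hidx : (Subgroup.zpowers t).relIndex (wrOmega S d) = 2 := by
      have := card_eq_card_mul_relIndex hle
      rw [card_wrOmega, Nat.card_zpowers, hto] at this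
      omega
    have h0 : ∀ x ∈ Subgroup.zpowers t, τ * x * τ⁻¹ = x := by
      rintro _ ⟨k, rfl⟩
      show τ * t ^ k * τ⁻¹ = t ^ k
      rw [← conj_zpow, hfix]
    have hp0 : IsPGroup 2 ↥(Subgroup.zpowers t) :=
      isPGroup_of_le_sylow S _ (hle.trans ((Subgroup.map_subtype_le _)))
    have h1 := odd_centralizes_step _ _ hidx hp0 τ hτo h0 hτΩ
    have h2 := odd_centralizes_of_omega (wrU S d) (fun a ha b hb => wrU_comm S d a b ha hb) hU2 τ
      hτU hτo (fun u hu hu2 => h1 u ((mem_wrOmega_iff S d u).mpr ⟨hu, hu2⟩))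
    intro u hu
    have := h2 u hu
    calc u * τ = τ * u * τ⁻¹ * τ := by rw [this]
      _ = τ * u := by group
  constructor
  · -- the image of the central involution
    have hz : ((d.c (z2half d.n) (z2half d.n) : ↥(S : Subgroup G)) : G) ∈ wrOmega S d :=
      ⟨_, (d.mem_omegaU _).mpr (Or.inr (Or.inr (Or.inr rfl))), rfl⟩
    have hz1 : ((d.c (z2half d.n) (z2half d.n) : ↥(S : Subgroup G)) : G) ≠ 1 := by
      intro h
      have : d.c (z2half d.n) (z2half d.n) = 1 := Subtype.ext h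
      rw [d.c_eq_one_iff] at this
      exact d.half_ne_zero this.1
    have h3 := hnofix _ hz hz1
    rcases mem_wrOmega_cases S d _ (hτΩ _ hz) with h | h | h | h
    · exfalso
      apply hz1
      have : ((d.c (z2half d.n) (z2half d.n) : ↥(S : Subgroup G)) : G) =
          τ⁻¹ * (τ * ((d.c (z2half d.n) (z2half d.n) : ↥(S : Subgroup G)) : G) * τ⁻¹) * τ := by group
      rw [this, h]; group
    · exact isConj_iff.mpr ⟨τ, h⟩
    · exact (isConj_iff.mpr ⟨τ, h⟩).trans (isConj_u1_u2 S d).symm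
    · exact absurd h h3
  · apply abelian_le_pResidual_of_fixed_point_free (wrU S d) τ hτU hτo
    intro u hu hfix
    by_contra hu1
    obtain ⟨k, hk⟩ := (IsPGroup.iff_orderOf.mp hU2) ⟨u, hu⟩
    rw [Subgroup.orderOf_mk] at hk
    have hk0 : k ≠ 0 := by
      intro h0
      rw [h0, pow_zero, orderOf_eq_one_iff] at hk
      exact hu1 hk
    have h2 : 2 ∣ orderOf u := by rw [hk]; exact dvd_pow_self 2 hk0
    have hto : orderOf (u ^ (orderOf u / 2)) = 2 :=
      orderOf_pow_orderOf_div (orderOf_pos u).ne' h2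
    set t := u ^ (orderOf u / 2) with ht
    have ht1 : t ≠ 1 := by
      intro h
      rw [h, orderOf_one] at hto
      norm_num at hto
    have ht2 : t * t = 1 := by
      rw [← pow_two, ← hto]; exact pow_orderOf_eq_one t
    have htΩ : t ∈ wrOmega S d :=
      (mem_wrOmega_iff S d t).mpr ⟨Subgroup.pow_mem _ hu _, ht2⟩
    apply hnofix t htΩ ht1
    rw [ht, ← conj_pow, hfix]

end

end Cfsg.Agent.Lib.Helper3
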