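import Mathlib
import Cfsg.Agent.Lib.Helper3.WrFus9

set_option autoImplicit false

namespace Cfsg.Agent.Lib.Helper3
open Cfsg.Agent.Lib.Lead
open scoped commutatorElement

section
variable {G : Type*} [Group G] [Finite G] (S : Sylow 2 G) (d : WrData ↥(S : Subgroup G))

omit [Finite G] in
theorem isConj_e_neg_z (i : ZMod (2 ^ d.n)) :
    IsConj ((d.e i (-i) : ↥(S : Subgroup G)) : G) ((d.z : ↥(S : Subgroup G)) : G) := by
  apply IsConj.symm
  apply isConj_coe _ _ _ (d.c i 0)
  rw [← d.e_zero, d.c_conj_e]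
  congr 1 <;> ring

/-- consequences of `|N_G(V) : V C_G(V)| = 6` -/
theorem wr_six_V (Q : Subgroup G) (hQS : Q ≤ S) (eQ : ↥Q ≃* QuaternionGroup 2)
    (h₂ : ((Q ⊔ wrZ S) ⊔ Subgroup.centralizer ((Q ⊔ wrZ S : Subgroup G) : Set G)).relIndex
      (Subgroup.normalizer ((Q ⊔ wrZ S : Subgroup G) : Set G)) = 6) :
    IsConj ((d.c (z2half d.n) 0 : ↥(S : Subgroup G)) : G) ((d.z : ↥(S : Subgroup G)) : G) ∧
      ∃ i j : ZMod (2 ^ d.n), i + j = z2half d.n ∧
        ((d.e i j : ↥(S : Subgroup G)) : G) ∈ Cfsg.pResidual 2 G := by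
  obtain ⟨k', hV, hQeq⟩ := wr_V_eq S d Q hQS eQ
  set V : Subgroup G := Q ⊔ wrZ S with hVdef
  set N := Subgroup.normalizer (V : Set G) with hN
  have hVN : V ≤ N := Subgroup.le_normalizer
  have hCN : Subgroup.centralizer (V : Set G) ≤ N := Subgroup.centralizer_le_normalizer _
  have hNQ : N ≤ Subgroup.normalizer (Q : Set G) := normalizer_V_le_normalizer_Q S d Q hQS eQ
  have hCn : ((V ⊔ Subgroup.centralizer (V : Set G)).subgroupOf N).Normal := by
    rw [Subgroup.subgroupOf_sup hVN hCN]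
    have h1 : (V.subgroupOf N).Normal := Subgroup.normal_in_normalizer
    have h2 : ((Subgroup.centralizer (V : Set G)).subgroupOf N).Normal := by
      rw [hN, ← Subgroup.normalizerMonoidHom_ker]; infer_instance
    infer_instance
  obtain ⟨τ, hτN, hτo, hτC⟩ := exists_odd_order_not_mem _ _ hCn h₂
  have hτQ : ∀ q ∈ Q, τ * q * τ⁻¹ ∈ Q := fun q hq => (Subgroup.mem_normalizer_iff.mp (hNQ hτN) q).mp hq
  -- the structure of `Q`
  have e' : ↥(Q.subgroupOf S) ≃* QuaternionGroup 2 := (Subgroup.subgroupOfEquivOfLe hQS).trans eQ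
  obtain ⟨a, k, ha, hx, -, -⟩ := d.quat_struct _ e'
  rw [Subgroup.mem_subgroupOf] at hx
  set x : G := ((d.c a (-a) : ↥(S : Subgroup G)) : G) with hxdef
  have hh := z2_half_add_half d.n d.n_pos
  have hxx : d.c a (-a) * d.c a (-a) = d.c (z2half d.n) (z2half d.n) := by
    rw [d.c_mul_c, d.c_inj]
    exact ⟨by linear_combination ha, by linear_combination (-1 : ZMod (2 ^ d.n)) * ha - hh⟩
  have hx4 : orderOf x = 4 := by
    rw [hxdef, Subgroup.orderOf_coe]
    apply orderOf_eq_four_of_sq _ _ hxx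
    · intro h
      rw [d.c_eq_one_iff] at h
      exact d.half_ne_zero h.1
    · exact d.chh_sq
  -- `τ` does not normalize `⟨x⟩`
  have hmove : τ * x * τ⁻¹ ∉ Subgroup.zpowers x := by
    intro hmem
    apply hτC
    apply Subgroup.mem_sup_right
    have hc4 : Nat.card ↥(Subgroup.zpowers x) = 4 := by rw [Nat.card_zpowers, hx4]
    have h2 : τ ∈ Subgroup.normalizer (Subgroup.zpowers x : Set G) :=
      mem_normalizer_zpowers_of_conj_mem x τ hmem
    have h3 := odd_centralizes_cyclic (Subgroup.zpowers x) 2 (by rw [hc4]; norm_num) τ h2 hτo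
    have h0 : ∀ y ∈ Subgroup.zpowers x, τ * y * τ⁻¹ = y := by
      intro y hy
      have := h3 y hy
      rw [← this]; group
    have hle : Subgroup.zpowers x ≤ Q := by rw [Subgroup.zpowers_le]; exact hx
    have hidx : (Subgroup.zpowers x).relIndex Q = 2 := by
      have := card_eq_card_mul_relIndex hle
      rw [hc4, Nat.card_congr eQ.toEquiv, Nat.card_eq_fintype_card, QuaternionGroup.card] at this
      omega
    have hp0 : IsPGroup 2 ↥(Subgroup.zpowers x) := isPGroup_of_le_sylow S _ (hle.trans hQS)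
    have h1 := odd_centralizes_step _ _ hidx hp0 τ hτo h0 hτQ
    apply odd_centralizes_V S d Q hQS eQ τ hτN hτo
    intro A hA _
    apply le_antisymm
    · rintro _ ⟨y, hy, rfl⟩
      show τ * y * τ⁻¹ ∈ A
      rw [h1 y (hA hy)]; exact hy
    · intro y hy
      refine ⟨y, hy, ?_⟩
      show τ * y * τ⁻¹ = y
      exact h1 y (hA hy)
  -- the image of `x` is of the second kind
  have hτxQ : τ * x * τ⁻¹ ∈ Q := hτQ x hx
  have hτxS : τ * x * τ⁻¹ ∈ (S : Subgroup G) := hQS hτxQ
  have hτxV : τ * x * τ⁻¹ ∈ wrV S d (2 * k') := by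
    rw [← hV]; exact Subgroup.mem_sup_left hτxQ
  have hτxq : τ * x * τ⁻¹ ∈ wrQuat S d := quat_le_wrQuat S d Q hQS eQ hτxQ
  have hτx4 : orderOf (τ * x * τ⁻¹) = 4 := by rw [orderOf_conj', hx4]
  rcases wr_cases S d _ hτxS with ⟨i, j, hij⟩ | ⟨i, j, hij⟩
  · exfalso
    rw [hij, coe_mem_wrV_iff, d.c_mem_Vk'] at hτxV
    rw [hij, coe_mem_wrQuat_iff, d.c_mem_quatS] at hτxq
    have hj : j = -i := by linear_combination hτxq
    subst hj
    have h4 : 4 * i = 0 := by linear_combination hτxV
    have h2i : 2 * i ≠ 0 := by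
      intro h
      rw [hij, Subgroup.orderOf_coe] at hτx4
      have h1 : d.c i (-i) ^ 2 = 1 := by
        rw [pow_two, d.c_mul_c, d.c_eq_one_iff]
        exact ⟨by linear_combination h, by linear_combination (-1 : ZMod (2 ^ d.n)) * h⟩
      have := orderOf_dvd_of_pow_eq_one h1
      rw [hτx4] at this
      norm_num at this
    have h2i' : 2 * i = z2half d.n := by
      have : 2 * (2 * i) = 0 := by linear_combination h4
      rcases (z2_two_mul_eq_zero d.n d.n_pos _).mp this with h | h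
      · exact absurd h h2i
      · exact h
    have h5 : 2 * (i - a) = 0 := by linear_combination h2i' - ha
    apply hmove
    rw [hij]
    rcases (z2_two_mul_eq_zero d.n d.n_pos _).mp h5 with h | h
    · have : i = a := by linear_combination h
      rw [this]; exact Subgroup.mem_zpowers x
    · have : d.c i (-i) = (d.c a (-a))⁻¹ := by
        rw [d.c_inv, d.c_inj]
        exact ⟨by linear_combination h + ha + hh, by linear_combination (-1 : ZMod (2 ^ d.n)) * h - ha - hh⟩
      rw [this, Subgroup.coe_inv]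
      exact Subgroup.inv_mem _ (Subgroup.mem_zpowers x)
  · rw [hij, coe_mem_wrQuat_iff, d.e_mem_quatS] at hτxq
    constructor
    · -- fusion of involutions
      have hτZ : ∀ z ∈ wrZ S, τ * z * τ⁻¹ = z := by
        have hgZ : τ ∈ Subgroup.normalizer (wrZ S : Set G) := by
          rw [hN, hV] at hτN
          exact normalizer_wrV_le_normalizer_wrZ S d _ hτN
        have := isCyclic_wrZ S d
        have h3 := odd_centralizes_cyclic (wrZ S) d.n (card_wrZ S d) τ hgZ hτo
        intro z hz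
        have := h3 z hz
        rw [← this]; group
      have hu2 : d.c 0 (z2half d.n) = d.c a (-a) * d.c (-a) (-a) := by
        rw [d.c_mul_c, d.c_inj]
        exact ⟨by ring, by linear_combination ha + hh⟩
      have h1 : τ * ((d.c 0 (z2half d.n) : ↥(S : Subgroup G)) : G) * τ⁻¹ =
          ((d.e (i - a) (j - a) : ↥(S : Subgroup G)) : G) := by
        rw [hu2, Subgroup.coe_mul]
        have e1 : τ * (x * ((d.c (-a) (-a) : ↥(S : Subgroup G)) : G)) * τ⁻¹ =
            (τ * x * τ⁻¹) * (τ * ((d.c (-a) (-a) : ↥(S : Subgroup G)) : G) * τ⁻¹) := by group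
        rw [e1, hτZ _ ((mem_wrZ_iff S d _).mpr ⟨-a, rfl⟩), hij, ← Subgroup.coe_mul, d.e_mul_c]
        congr 2 <;> ring
      have h2 : j - a = -(i - a) := by linear_combination hτxq - ha
      rw [h2] at h1
      have c1 : IsConj ((d.c 0 (z2half d.n) : ↥(S : Subgroup G)) : G)
          ((d.e (i - a) (-(i - a)) : ↥(S : Subgroup G)) : G) := isConj_iff.mpr ⟨τ, h1⟩
      exact ((isConj_u1_u2 S d).trans c1).trans (isConj_e_neg_z S d _)
    · refine ⟨i - a, j + a, by linear_combination hτxq, ?_⟩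
      have h1 : ⁅x⁻¹, τ⁆ = ((d.e (i - a) (j + a) : ↥(S : Subgroup G)) : G) := by
        rw [commutatorElement_def, inv_inv]
        have e1 : x⁻¹ * τ * x * τ⁻¹ = x⁻¹ * (τ * x * τ⁻¹) := by group
        rw [e1, hij, hxdef, ← Subgroup.coe_inv, ← Subgroup.coe_mul, d.c_inv, d.c_mul_e]
        congr 2 <;> ring
      rw [← h1]
      exact commutator_mem_pResidual _ _ hτo

end

end Cfsg.Agent.Lib.Helper3
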