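import Mathlib
import Cfsg.Agent.Lib.Helper3.WrFus10
import Cfsg.Agent.Lib.Lead.FrobNPC5

set_option autoImplicit false

namespace Cfsg.Agent.Lib.Helper3
open Cfsg.Agent.Lib.Lead
open scoped commutatorElement

theorem card_classes_eq_one {G : Type*} [Group G] (k : ℕ) (u : G) (hu : orderOf u = k)
    (hall : ∀ t : G, orderOf t = k → IsConj t u) :
    Nat.card {C : ConjClasses G // ∃ t : G, orderOf t = k ∧ ConjClasses.mk t = C} = 1 := by
  rw [Nat.card_eq_one_iff_unique]
  refine ⟨⟨?_⟩, ⟨⟨ConjClasses.mk u, u, hu, rfl⟩⟩⟩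
  rintro ⟨C, t, ht, rfl⟩ ⟨C', t', ht', rfl⟩
  apply Subtype.ext
  exact ConjClasses.mk_eq_mk_iff_isConj.mpr ((hall t ht).trans (hall t' ht').symm)

/-- the residual contains every element of order prime to `p`, hence lies in every normal subgroup of
`p`-power index -/
theorem pResidual_le_of_index_pow {G : Type*} [Group G] [Finite G] {p : ℕ} [Fact p.Prime]
    (N : Subgroup G) [N.Normal] (hN : ∃ k : ℕ, N.index = p ^ k) : Cfsg.pResidual p G ≤ N := by
  unfold Cfsg.pResidual
  rw [Subgroup.closure_le]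
  intro g hg
  exact mem_of_coprime_orderOf N hN g hg

section
variable {G : Type*} [Group G] [Finite G] (S : Sylow 2 G) (d : WrData ↥(S : Subgroup G))

/-- every involution of `G` is conjugate to one of three involutions of `S` -/
theorem wr_involution_cases (t : G) (ht : orderOf t = 2) :
    IsConj t ((d.c (z2half d.n) (z2half d.n) : ↥(S : Subgroup G)) : G) ∨
      IsConj t ((d.c (z2half d.n) 0 : ↥(S : Subgroup G)) : G) ∨
      IsConj t ((d.z : ↥(S : Subgroup G)) : G) := by
  obtain ⟨g, hg⟩ := exists_conj_mem_sylow S t 1 (by rw [ht, pow_one])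
  have ho : orderOf (⟨g * t * g⁻¹, hg⟩ : ↥(S : Subgroup G)) = 2 := by
    rw [← Subgroup.orderOf_coe]
    exact (MulEquiv.orderOf_eq (MulAut.conj g) t).trans ht
  have hc : IsConj t (g * t * g⁻¹) := isConj_iff.mpr ⟨g, rfl⟩
  have key : ∀ s : ↥(S : Subgroup G), IsConj (⟨g * t * g⁻¹, hg⟩ : ↥(S : Subgroup G)) s →
      IsConj t (s : G) := by
    intro s hs
    obtain ⟨c, hc'⟩ := isConj_iff.mp hs
    exact hc.trans (isConj_coe _ _ _ c hc')
  rcases d.involution_classes _ ho with h | h | h
  · left; exact key _ h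
  · right; left; exact key _ h
  · right; right; exact key _ h

omit [Finite G] in
/-- a normal subgroup containing `U` and an element outside `U` contains `S` -/
theorem sylow_le_of_wrU_le (N : Subgroup G) (hU : wrU S d ≤ N) (i j : ZMod (2 ^ d.n))
    (he : ((d.e i j : ↥(S : Subgroup G)) : G) ∈ N) : (S : Subgroup G) ≤ N := by
  intro s hs
  rcases wr_cases S d s hs with ⟨k, l, rfl⟩ | ⟨k, l, rfl⟩
  · exact hU ((mem_wrU_iff S d _).mpr ⟨k, l, rfl⟩)
  · have : d.e k l = d.c (k - i) (l - j) * d.e i j := by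
      rw [d.c_mul_e]; congr 1 <;> ring
    rw [this, Subgroup.coe_mul]
    exact N.mul_mem (hU ((mem_wrU_iff S d _).mpr ⟨_, _, rfl⟩)) he

/-- case `(6, 6)`: no subgroup of index two and one class of involutions -/
theorem wr_case_six_six (Q : Subgroup G) (hQS : Q ≤ S) (eQ : ↥Q ≃* QuaternionGroup 2)
    (h₁ : (Subgroup.centralizer (wrU S d : Set G)).relIndex (Subgroup.normalizer (wrU S d : Set G)) = 6)
    (h₂ : ((Q ⊔ wrZ S) ⊔ Subgroup.centralizer ((Q ⊔ wrZ S : Subgroup G) : Set G)).relIndex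
      (Subgroup.normalizer ((Q ⊔ wrZ S : Subgroup G) : Set G)) = 6) :
    (∀ H : Subgroup G, H.index ≠ 2) ∧
      Nat.card {C : ConjClasses G // ∃ t : G, orderOf t = 2 ∧ ConjClasses.mk t = C} = 1 := by
  obtain ⟨hzu, hUO⟩ := wr_six_U S d h₁
  obtain ⟨hut, -⟩ := wr_six_V S d Q hQS eQ h₂
  constructor
  · intro H h2
    have hHn : H.Normal := Subgroup.normal_of_index_eq_two h2
    have hO : Cfsg.pResidual 2 G ≤ H := pResidual_le_of_index_pow H ⟨1, by rw [h2, pow_one]⟩
    have hUH : wrU S d ≤ H := hUO.trans hO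
    have htH : ((d.z : ↥(S : Subgroup G)) : G) ∈ H :=
      isConj_mem_normal H _ _ hut (hUH ((mem_wrU_iff S d _).mpr ⟨_, _, rfl⟩))
    have hle : (S : Subgroup G) ≤ H := by
      apply sylow_le_of_wrU_le S d H hUH 0 0
      rw [d.e_zero]; exact htH
    have hdvd := Subgroup.index_dvd_of_le hle
    rw [h2] at hdvd
    exact S.not_dvd_index hdvd
  · apply card_classes_eq_one 2 ((d.z : ↥(S : Subgroup G)) : G)
    · rw [Subgroup.orderOf_coe]; exact d.hz
    · intro t ht
      rcases wr_involution_cases S d t ht with h | h | h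
      · exact (h.trans hzu).trans hut
      · exact h.trans hut
      · exact h

end

end Cfsg.Agent.Lib.Helper3
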