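import Mathlib
import Cfsg.Agent.Lib.Helper3.WrFus11

set_option autoImplicit false

namespace Cfsg.Agent.Lib.Helper3
open Cfsg.Agent.Lib.Lead
open scoped commutatorElement

section
variable {G : Type*} [Group G] [Finite G] (S : Sylow 2 G) (d : WrData ↥(S : Subgroup G))

omit [Finite G] in
theorem coe_cq0_not_mem_wrV (κ : ZMod (2 ^ d.n)) :
    ((d.c (z2quarter d.n) 0 : ↥(S : Subgroup G)) : G) ∉ wrV S d κ := by
  rw [coe_mem_wrV_iff, d.c_mem_Vk', sub_zero, z2_two_mul_quarter d.n d.hn]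
  exact d.half_ne_zero

theorem coe_cq0_mem_normalizer_wrV (κ : ZMod (2 ^ d.n)) :
    ((d.c (z2quarter d.n) 0 : ↥(S : Subgroup G)) : G) ∈ Subgroup.normalizer (wrV S d κ : Set G) := by
  have h1 : d.c (z2quarter d.n) 0 ∈ Subgroup.normalizer (d.Vk κ : Set ↥(S : Subgroup G)) := by
    rw [d.c_mem_normalizer_Vk, sub_zero, d.four_eq, mul_assoc, z2_two_mul_quarter d.n d.hn]
    exact z2_two_mul_half d.n d.n_pos
  have h2 : ((d.c (z2quarter d.n) 0 : ↥(S : Subgroup G)) : G) ∈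
      (S : Subgroup G) ⊓ Subgroup.normalizer (wrV S d κ : Set G) := by
    rw [sylow_inf_normalizer_wrV]
    exact ⟨_, h1, rfl⟩
  exact h2.2

/-- with `|N_G(V) : V C_G(V)| = 2`, every element of `N_G(V)` normalizes `V ∩ U` -/
theorem wr_two_V_stab (κ : ZMod (2 ^ d.n))
    (h₂ : (wrV S d κ ⊔ Subgroup.centralizer (wrV S d κ : Set G)).relIndex
      (Subgroup.normalizer (wrV S d κ : Set G)) = 2)
    (r : G) (hr : r ∈ Subgroup.normalizer (wrV S d κ : Set G)) (x : G) (hxV : x ∈ wrV S d κ)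
    (hxU : x ∈ wrU S d) : r * x * r⁻¹ ∈ wrU S d := by
  set V := wrV S d κ with hV
  set F : Subgroup G := Subgroup.normalizer ((V ⊓ wrU S d : Subgroup G) : Set G) with hF
  have hVF : V ≤ F := by
    intro v hv
    apply mem_normalizer_of_conj_mem
    rintro t ⟨htV, htU⟩
    refine ⟨?_, ?_⟩
    · exact V.mul_mem (V.mul_mem hv htV) (V.inv_mem hv)
    · have := sylow_le_normalizer_wrU S d (wrV_le S d κ hv)
      exact (Subgroup.mem_normalizer_iff.mp this t).mp htU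
  have hCF : Subgroup.centralizer (V : Set G) ≤ F := by
    intro c hc
    apply mem_normalizer_of_conj_mem
    rintro t ⟨htV, htU⟩
    have := hc t htV
    have e : c * t * c⁻¹ = t := by rw [← this]; group
    rw [e]; exact ⟨htV, htU⟩
  set s₀ : G := ((d.c (z2quarter d.n) 0 : ↥(S : Subgroup G)) : G) with hs₀
  have hs₀N : s₀ ∈ Subgroup.normalizer (V : Set G) := coe_cq0_mem_normalizer_wrV S d κ
  have hs₀F : s₀ ∈ F := by
    apply mem_normalizer_of_conj_mem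
    rintro t ⟨htV, htU⟩
    refine ⟨(Subgroup.mem_normalizer_iff.mp hs₀N t).mp htV, ?_⟩
    have := sylow_le_normalizer_wrU S d (d.c (z2quarter d.n) 0).2
    exact (Subgroup.mem_normalizer_iff.mp this t).mp htU
  have hs₀C : s₀ ∉ V ⊔ Subgroup.centralizer (V : Set G) := by
    intro h
    have h1 : s₀ ∈ (V ⊔ Subgroup.centralizer (V : Set G)) ⊓ (S : Subgroup G) :=
      ⟨h, (d.c (z2quarter d.n) 0).2⟩
    rw [hV, wrV_sup_centralizer_inf] at h1
    exact coe_cq0_not_mem_wrV S d κ h1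
  have hrF : r ∈ F := by
    by_cases hrC : r ∈ V ⊔ Subgroup.centralizer (V : Set G)
    · exact (sup_le hVF hCF) hrC
    · have hs₀i : s₀⁻¹ ∉ V ⊔ Subgroup.centralizer (V : Set G) := fun h =>
        hs₀C (by simpa using Subgroup.inv_mem _ h)
      have h3 := mul_mem_of_relIndex_two _ _ h₂ s₀⁻¹ r (Subgroup.inv_mem _ hs₀N) hr hs₀i hrC
      have h4 : r = s₀ * (s₀⁻¹ * r) := by group
      rw [h4]
      exact F.mul_mem hs₀F ((sup_le hVF hCF) h3)
  exact ((Subgroup.mem_normalizer_iff.mp hrF x).mp ⟨hxV, hxU⟩).2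

end

section
variable {G : Type*} [Group G] [Finite G] (S : Sylow 2 G) (d : WrData ↥(S : Subgroup G))

/-- if `u₁` is not conjugate to the central involution then `U` is a Sylow `2`-subgroup of
`C_G(u₁)` -/
theorem wr_conj_into_U_of_centralizer
    (hnc : ¬ IsConj ((d.c (z2half d.n) 0 : ↥(S : Subgroup G)) : G)
      ((d.c (z2half d.n) (z2half d.n) : ↥(S : Subgroup G)) : G))
    (E₁ : Subgroup G) (hE2 : IsPGroup 2 ↥E₁)
    (hE : ∀ e ∈ E₁, e * ((d.c (z2half d.n) 0 : ↥(S : Subgroup G)) : G) =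
      ((d.c (z2half d.n) 0 : ↥(S : Subgroup G)) : G) * e) :
    ∃ n : G, n * ((d.c (z2half d.n) 0 : ↥(S : Subgroup G)) : G) =
        ((d.c (z2half d.n) 0 : ↥(S : Subgroup G)) : G) * n ∧
      ∀ e ∈ E₁, n⁻¹ * e * n ∈ wrU S d := by
  set u₁ : G := ((d.c (z2half d.n) 0 : ↥(S : Subgroup G)) : G) with hu₁
  have hu₁U : u₁ ∈ wrU S d := (mem_wrU_iff S d _).mpr ⟨_, _, rfl⟩
  set M : Subgroup G := Subgroup.centralizer ({u₁} : Set G) with hM
  have hmemM : ∀ x : G, x ∈ M ↔ x * u₁ = u₁ * x := fun x => Subgroup.mem_centralizer_singleton_iff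
  have hUM : wrU S d ≤ M := by
    intro x hx
    rw [hmemM]
    exact wrU_comm S d _ _ hx hu₁U
  have hU2 : IsPGroup 2 ↥((wrU S d).subgroupOf M) :=
    (isPGroup_of_le_sylow S _ (wrU_le S d)).comap_subtype
  obtain ⟨P', hP'⟩ := hU2.exists_le_sylow
  -- `P'` is `U`
  have hP'U : ∀ p : ↥M, p ∈ (P' : Subgroup ↥M) → (p : G) ∈ wrU S d := by
    obtain ⟨P₂, hP₂⟩ := (P'.isPGroup'.map M.subtype).exists_le_sylow
    obtain ⟨w₀, hw₀⟩ := MulAction.exists_smul_eq G S P₂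
    have hPS : ∀ p : ↥M, p ∈ (P' : Subgroup ↥M) → w₀⁻¹ * (p : G) * w₀ ∈ (S : Subgroup G) := by
      intro p hp
      have : (p : G) ∈ (P₂ : Subgroup G) := hP₂ ⟨p, hp, rfl⟩
      rw [← hw₀, Sylow.coe_subgroup_smul, mem_conj_smul_iff'] at this
      exact this
    have hUP : ∀ x (hx : x ∈ wrU S d), (⟨x, hUM hx⟩ : ↥M) ∈ (P' : Subgroup ↥M) :=
      fun x hx => hP' (Subgroup.mem_subgroupOf.mpr hx)
    have hUw : (wrU S d).map (MulAut.conj w₀⁻¹).toMonoidHom = wrU S d := by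
      apply (wrU_weaklyClosed S d).2
      rintro _ ⟨x, hx, rfl⟩
      have := hPS ⟨x, hUM hx⟩ (hUP x hx)
      have e : (MulAut.conj w₀⁻¹).toMonoidHom x = w₀⁻¹ * x * w₀ := by simp
      rw [e]; exact this
    have hconjU : ∀ x : G, w₀⁻¹ * x * w₀ ∈ wrU S d → x ∈ wrU S d := by
      intro x hx
      rw [← hUw, mem_map_conj_iff] at hx
      have e : w₀⁻¹⁻¹ * (w₀⁻¹ * x * w₀) * w₀⁻¹ = x := by group
      rwa [e] at hx
    have hu' : w₀⁻¹ * u₁ * w₀ ∈ wrU S d := by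
      rw [← hUw]
      exact ⟨u₁, hu₁U, by simp⟩
    intro p hp
    apply hconjU
    rcases wr_cases S d _ (hPS p hp) with ⟨i, j, hij⟩ | ⟨i, j, hij⟩
    · rw [hij]; exact (mem_wrU_iff S d _).mpr ⟨i, j, rfl⟩
    · exfalso
      apply hnc
      obtain ⟨k, l, hkl⟩ := (mem_wrU_iff S d _).mp hu'
      have hpc : u₁ * (p : G) = (p : G) * u₁ := ((hmemM _).mp p.2).symm
      have hcomm : (w₀⁻¹ * u₁ * w₀) * (w₀⁻¹ * (p : G) * w₀) =
          (w₀⁻¹ * (p : G) * w₀) * (w₀⁻¹ * u₁ * w₀) := by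
        have e1 : (w₀⁻¹ * u₁ * w₀) * (w₀⁻¹ * (p : G) * w₀) = w₀⁻¹ * (u₁ * (p : G)) * w₀ := by group
        rw [e1, hpc]; group
      rw [hkl, hij] at hcomm
      have hcomm' : d.c k l * d.e i j = d.e i j * d.c k l := Subtype.ext hcomm
      rw [d.c_comm_e_iff] at hcomm'
      have hord : orderOf (d.c k l) = 2 := by
        have e0 : w₀⁻¹ * u₁ * w₀ = w₀⁻¹ * u₁ * w₀⁻¹⁻¹ := by rw [inv_inv]
        rw [← Subgroup.orderOf_coe, ← hkl, e0, orderOf_conj', hu₁, Subgroup.orderOf_coe]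
        exact d.orderOf_ch0
      have hcen : d.c k l ∈ Subgroup.center ↥(S : Subgroup G) := by
        rw [d.mem_center_iff]; exact ⟨k, by rw [hcomm']⟩
      have h5 := d.center_involution _ hcen hord
      rw [isConj_iff]
      refine ⟨w₀⁻¹, ?_⟩
      rw [inv_inv, hkl, h5]
  -- conjugating `E₁`
  have hEM : E₁ ≤ M := by
    intro e he
    rw [hmemM]; exact hE e he
  obtain ⟨P'', hP''⟩ := (hE2.comap_subtype (K := M)).exists_le_sylow
  obtain ⟨m, hm⟩ := MulAction.exists_smul_eq ↥M P' P''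
  refine ⟨(m : G), (hmemM _).mp m.2, ?_⟩
  intro e he
  have h1 : (⟨e, hEM he⟩ : ↥M) ∈ (P'' : Subgroup ↥M) := hP'' (Subgroup.mem_subgroupOf.mpr he)
  rw [← hm, Sylow.coe_subgroup_smul, mem_conj_smul_iff'] at h1
  exact hP'U _ h1

end

end Cfsg.Agent.Lib.Helper3
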