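import Mathlib
import Cfsg.Agent.Lib.Helper3.WrFus12

set_option autoImplicit false

namespace Cfsg.Agent.Lib.Helper3
open Cfsg.Agent.Lib.Lead
open scoped commutatorElement

section
variable {G : Type*} [Group G] [Finite G] (S : Sylow 2 G) (d : WrData ↥(S : Subgroup G))

omit [Finite G] in
theorem sq_mem_wrU (y : G) (hy : y ∈ (S : Subgroup G)) : y * y ∈ wrU S d := by
  rcases wr_cases S d y hy with ⟨i, j, rfl⟩ | ⟨i, j, rfl⟩
  · rw [← Subgroup.coe_mul, d.c_sq]; exact (mem_wrU_iff S d _).mpr ⟨_, _, rfl⟩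
  · rw [← Subgroup.coe_mul, d.e_sq]; exact (mem_wrU_iff S d _).mpr ⟨_, _, rfl⟩

omit [Finite G] in
theorem coe_chh_sq :
    ((d.c (z2half d.n) (z2half d.n) : ↥(S : Subgroup G)) : G) *
      ((d.c (z2half d.n) (z2half d.n) : ↥(S : Subgroup G)) : G) = 1 := by
  rw [← Subgroup.coe_mul, d.chh_sq]; rfl

omit [Finite G] in
theorem coe_chh_central (s : G) (hs : s ∈ (S : Subgroup G)) :
    s * ((d.c (z2half d.n) (z2half d.n) : ↥(S : Subgroup G)) : G) =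
      ((d.c (z2half d.n) (z2half d.n) : ↥(S : Subgroup G)) : G) * s :=
  wrZ_central S _ s ((mem_wrZ_iff S d _).mpr ⟨_, rfl⟩) hs

/-- if an involution outside `U` is conjugate to the central involution, a four-group containing
both can be conjugated onto `Ω₁(U)` -/
theorem wr_conj_klein_of_conj_center (k : ZMod (2 ^ d.n))
    (hA : IsConj ((d.e k (-k) : ↥(S : Subgroup G)) : G)
      ((d.c (z2half d.n) (z2half d.n) : ↥(S : Subgroup G)) : G)) :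
    ∃ g : G, g * ((d.c (z2half d.n) (z2half d.n) : ↥(S : Subgroup G)) : G) * g⁻¹ ∈ wrOmega S d ∧
      g * ((d.e k (-k) : ↥(S : Subgroup G)) : G) * g⁻¹ ∈ wrOmega S d := by
  set z₁ : G := ((d.c (z2half d.n) (z2half d.n) : ↥(S : Subgroup G)) : G) with hz₁
  set t₀ : G := ((d.e k (-k) : ↥(S : Subgroup G)) : G) with ht₀
  obtain ⟨x₀, hx₀⟩ := isConj_iff.mp hA
  set E' : Subgroup G := (S : Subgroup G) ⊓ Subgroup.centralizer ({t₀} : Set G) with hE'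
  set M : Subgroup G := Subgroup.centralizer ({z₁} : Set G) with hM
  have hSM : (S : Subgroup G) ≤ M := by
    intro s hs
    rw [hM, Subgroup.mem_centralizer_singleton_iff]
    exact coe_chh_central S d s hs
  have hEM : E'.map (MulAut.conj x₀).toMonoidHom ≤ M := by
    rintro _ ⟨e, he, rfl⟩
    rw [hM, Subgroup.mem_centralizer_singleton_iff]
    have h1 : e * t₀ = t₀ * e := Subgroup.mem_centralizer_singleton_iff.mp he.2
    show x₀ * e * x₀⁻¹ * z₁ = z₁ * (x₀ * e * x₀⁻¹)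
    rw [← hx₀]
    have e1 : x₀ * e * x₀⁻¹ * (x₀ * t₀ * x₀⁻¹) = x₀ * (e * t₀) * x₀⁻¹ := by group
    rw [e1, h1]; group
  have hE2 : IsPGroup 2 ↥(E'.map (MulAut.conj x₀).toMonoidHom) :=
    (isPGroup_of_le_sylow S E' inf_le_left).map _
  obtain ⟨n, hn, hle⟩ := pgroup_le_conj_sylow_in_subgroup S M _ hSM hEM hE2
  have hnz : n * z₁ = z₁ * n := Subgroup.mem_centralizer_singleton_iff.mp hn
  refine ⟨n⁻¹ * x₀, ?_, ?_⟩
  · -- the image of `z₁` is a square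
    have hcS : ∀ e ∈ E', (n⁻¹ * x₀) * e * (n⁻¹ * x₀)⁻¹ ∈ (S : Subgroup G) := by
      intro e he
      have h1 := hle (show x₀ * e * x₀⁻¹ ∈ E'.map (MulAut.conj x₀).toMonoidHom from ⟨e, he, rfl⟩)
      rw [mem_conj_smul_iff'] at h1
      have e1 : (n⁻¹ * x₀) * e * (n⁻¹ * x₀)⁻¹ = n⁻¹ * (x₀ * e * x₀⁻¹) * n := by group
      rw [e1]; exact h1
    set y₀ : G := ((d.c (z2quarter d.n) (z2quarter d.n) : ↥(S : Subgroup G)) : G) with hy₀
    have hy₀E : y₀ ∈ E' := by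
      rw [hE', Subgroup.mem_inf]
      refine ⟨(d.c (z2quarter d.n) (z2quarter d.n)).2, ?_⟩
      rw [Subgroup.mem_centralizer_singleton_iff]
      exact (wrZ_central S y₀ t₀ ((mem_wrZ_iff S d _).mpr ⟨_, rfl⟩) (d.e k (-k)).2).symm
    have hy₀sq : y₀ * y₀ = z₁ := by
      rw [hy₀, hz₁, ← Subgroup.coe_mul, d.c_sq, z2_two_mul_quarter d.n d.hn]
    have h2 := sq_mem_wrU S d _ (hcS y₀ hy₀E)
    have e2 : (n⁻¹ * x₀) * y₀ * (n⁻¹ * x₀)⁻¹ * ((n⁻¹ * x₀) * y₀ * (n⁻¹ * x₀)⁻¹) =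
        (n⁻¹ * x₀) * (y₀ * y₀) * (n⁻¹ * x₀)⁻¹ := by group
    rw [e2, hy₀sq] at h2
    rw [mem_wrOmega_iff]
    refine ⟨h2, ?_⟩
    have e3 : (n⁻¹ * x₀) * z₁ * (n⁻¹ * x₀)⁻¹ * ((n⁻¹ * x₀) * z₁ * (n⁻¹ * x₀)⁻¹) =
        (n⁻¹ * x₀) * (z₁ * z₁) * (n⁻¹ * x₀)⁻¹ := by group
    rw [e3, hz₁, coe_chh_sq]; group
  · have e1 : (n⁻¹ * x₀) * t₀ * (n⁻¹ * x₀)⁻¹ = n⁻¹ * (x₀ * t₀ * x₀⁻¹) * n := by group
    rw [e1, hx₀]
    have e2 : n⁻¹ * z₁ * n = z₁ := by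
      calc n⁻¹ * z₁ * n = n⁻¹ * (z₁ * n) := by group
        _ = n⁻¹ * (n * z₁) := by rw [hnz]
        _ = z₁ := by group
    rw [e2, mem_wrOmega_iff]
    exact ⟨(mem_wrU_iff S d _).mpr ⟨_, _, rfl⟩, coe_chh_sq S d⟩

end

end Cfsg.Agent.Lib.Helper3
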