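import Mathlib
import Cfsg.Agent.Lib.Helper3.WrFus13

set_option autoImplicit false

namespace Cfsg.Agent.Lib.Helper3
open Cfsg.Agent.Lib.Lead
open scoped commutatorElement

section
variable {G : Type*} [Group G] [Finite G] (S : Sylow 2 G) (d : WrData ↥(S : Subgroup G))

/-- if an involution outside `U` is conjugate to `u₁`, and `u₁` is not conjugate to the central
involution, a four-group containing it can be conjugated onto `Ω₁(U)` -/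
theorem wr_conj_klein_of_conj_u (k : ZMod (2 ^ d.n))
    (hB : IsConj ((d.e k (-k) : ↥(S : Subgroup G)) : G)
      ((d.c (z2half d.n) 0 : ↥(S : Subgroup G)) : G))
    (hnc : ¬ IsConj ((d.c (z2half d.n) 0 : ↥(S : Subgroup G)) : G)
      ((d.c (z2half d.n) (z2half d.n) : ↥(S : Subgroup G)) : G)) :
    ∃ g : G, g * ((d.c (z2half d.n) (z2half d.n) : ↥(S : Subgroup G)) : G) * g⁻¹ ∈ wrOmega S d ∧
      g * ((d.e k (-k) : ↥(S : Subgroup G)) : G) * g⁻¹ ∈ wrOmega S d := by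
  set z₁ : G := ((d.c (z2half d.n) (z2half d.n) : ↥(S : Subgroup G)) : G) with hz₁
  set u₁ : G := ((d.c (z2half d.n) 0 : ↥(S : Subgroup G)) : G) with hu₁
  set t₀ : G := ((d.e k (-k) : ↥(S : Subgroup G)) : G) with ht₀
  obtain ⟨x₀, hx₀⟩ := isConj_iff.mp hB
  set E' : Subgroup G := (S : Subgroup G) ⊓ Subgroup.centralizer ({t₀} : Set G) with hE'
  have hE2 : IsPGroup 2 ↥(E'.map (MulAut.conj x₀).toMonoidHom) :=
    (isPGroup_of_le_sylow S E' inf_le_left).map _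
  have hEc : ∀ e ∈ E'.map (MulAut.conj x₀).toMonoidHom, e * u₁ = u₁ * e := by
    rintro _ ⟨e, he, rfl⟩
    have h1 : e * t₀ = t₀ * e := Subgroup.mem_centralizer_singleton_iff.mp he.2
    show x₀ * e * x₀⁻¹ * u₁ = u₁ * (x₀ * e * x₀⁻¹)
    rw [← hx₀]
    have e1 : x₀ * e * x₀⁻¹ * (x₀ * t₀ * x₀⁻¹) = x₀ * (e * t₀) * x₀⁻¹ := by group
    rw [e1, h1]; group
  obtain ⟨n, hnu, hnU⟩ := wr_conj_into_U_of_centralizer S d hnc _ hE2 hEc
  refine ⟨n⁻¹ * x₀, ?_, ?_⟩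
  · have hz₁E : z₁ ∈ E' := by
      rw [hE', Subgroup.mem_inf]
      refine ⟨(d.c (z2half d.n) (z2half d.n)).2, ?_⟩
      rw [Subgroup.mem_centralizer_singleton_iff]
      exact (coe_chh_central S d t₀ (d.e k (-k)).2).symm
    have h1 := hnU _ (show x₀ * z₁ * x₀⁻¹ ∈ E'.map (MulAut.conj x₀).toMonoidHom from ⟨z₁, hz₁E, rfl⟩)
    have e1 : (n⁻¹ * x₀) * z₁ * (n⁻¹ * x₀)⁻¹ = n⁻¹ * (x₀ * z₁ * x₀⁻¹) * n := by group
    rw [e1, mem_wrOmega_iff]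
    refine ⟨h1, ?_⟩
    have e3 : n⁻¹ * (x₀ * z₁ * x₀⁻¹) * n * (n⁻¹ * (x₀ * z₁ * x₀⁻¹) * n) =
        (n⁻¹ * x₀) * (z₁ * z₁) * (n⁻¹ * x₀)⁻¹ := by group
    rw [e3, hz₁, coe_chh_sq]; group
  · have e1 : (n⁻¹ * x₀) * t₀ * (n⁻¹ * x₀)⁻¹ = n⁻¹ * (x₀ * t₀ * x₀⁻¹) * n := by group
    rw [e1, hx₀]
    have e2 : n⁻¹ * u₁ * n = u₁ := by
      calc n⁻¹ * u₁ * n = n⁻¹ * (u₁ * n) := by group
        _ = n⁻¹ * (n * u₁) := by rw [hnu]
        _ = u₁ := by group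
    rw [e2, mem_wrOmega_iff]
    refine ⟨(mem_wrU_iff S d _).mpr ⟨_, _, rfl⟩, ?_⟩
    rw [hu₁, ← Subgroup.coe_mul, d.ch0_sq]; rfl

end

end Cfsg.Agent.Lib.Helper3
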