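import Mathlib
import Cfsg.Agent.Lib.Helper3.WrFus14

set_option autoImplicit false

namespace Cfsg.Agent.Lib.Helper3
open Cfsg.Agent.Lib.Lead
open scoped commutatorElement

namespace WrData
variable {S : Type*} [Group S] (d : WrData S)

theorem chh_central (v : S) : v * d.c (z2half d.n) (z2half d.n) * v⁻¹ = d.c (z2half d.n) (z2half d.n) := by
  have h : d.c (z2half d.n) (z2half d.n) ∈ Subgroup.center S := (d.mem_center_iff _).mpr ⟨_, rfl⟩
  have := Subgroup.mem_center_iff.mp h v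
  rw [this]; group

theorem kl_normalized_by_Vk (k : ZMod (2 ^ d.n)) (v : S) (hv : v ∈ d.Vk (2 * k)) (t : S)
    (ht : t ∈ d.kl k) : v * t * v⁻¹ ∈ d.kl k := by
  have hv' : v ∈ d.Vk (k - -k) := by
    have : k - -k = 2 * k := by ring
    rw [this]; exact hv
  have hz := d.chh_central v
  have he : v * d.e k (-k) * v⁻¹ ∈ d.kl k := by
    rcases d.Vk_conj_e k (-k) v hv' with h | h
    · rw [h, mem_kl]; right; right; left; rfl
    · rw [h, ← d.chh_comm_e, mem_kl]; right; right; right; rfl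
  rw [mem_kl] at ht
  rcases ht with rfl | rfl | rfl | rfl
  · rw [mul_one, mul_inv_cancel]; exact (d.kl k).one_mem
  · rw [hz, mem_kl]; right; left; rfl
  · exact he
  · have : v * (d.c (z2half d.n) (z2half d.n) * d.e k (-k)) * v⁻¹ =
        (v * d.c (z2half d.n) (z2half d.n) * v⁻¹) * (v * d.e k (-k) * v⁻¹) := by group
    rw [this, hz]
    exact (d.kl k).mul_mem ((d.mem_kl k _).mpr (Or.inr (Or.inl rfl))) he

theorem kl_inf_U (k : ZMod (2 ^ d.n)) (t : S) (ht : t ∈ d.kl k) (hU : t ∈ d.U) :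
    t = 1 ∨ t = d.c (z2half d.n) (z2half d.n) := by
  rw [mem_kl] at ht
  rcases ht with h | h | h | h
  · left; exact h
  · right; exact h
  · exfalso; rw [h] at hU; exact d.e_not_mem_U _ _ hU
  · exfalso
    rw [h, c_mul_e] at hU; exact d.e_not_mem_U _ _ hU

theorem eneg_mem_Vk (k : ZMod (2 ^ d.n)) : d.e k (-k) ∈ d.Vk (2 * k) := by
  rw [e_mem_Vk']; ring

theorem c0h_mem_Vk (κ : ZMod (2 ^ d.n)) : d.c 0 (z2half d.n) ∈ d.Vk κ := by
  rw [c_mem_Vk']
  have := z2_half_add_half d.n d.n_pos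
  linear_combination (-1 : ZMod (2 ^ d.n)) * this

end WrData

end Cfsg.Agent.Lib.Helper3
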