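import Mathlib
import Cfsg.Agent.Lib.Helper3.Wr11

set_option autoImplicit false

namespace Cfsg.Agent.Lib.Helper3
open Cfsg.Agent.Lib.Lead
open scoped commutatorElement

section
variable {G : Type*} [Group G] [Finite G] (S : Sylow 2 G) (d : WrData ↥(S : Subgroup G))

/-- a four-group generated by the central involution and an involution outside `U`, inside `G` -/
noncomputable def wrKl (k : ZMod (2 ^ d.n)) : Subgroup G := (d.kl k).map (S : Subgroup G).subtype

omit [Finite G] in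
theorem coe_mem_wrKl_iff (k : ZMod (2 ^ d.n)) (s : ↥(S : Subgroup G)) :
    (s : G) ∈ wrKl S d k ↔ s ∈ d.kl k := coe_mem_map_subtype_iff _ _ _

omit [Finite G] in
theorem card_wrKl (k : ZMod (2 ^ d.n)) : Nat.card ↥(wrKl S d k) = 4 := by
  unfold wrKl
  rw [Subgroup.card_map_of_injective (Subgroup.subtype_injective _)]
  exact (d.isKleinFour_kl k).card_four

theorem sylow_le_normalizer_wrOmega :
    (S : Subgroup G) ≤ Subgroup.normalizer (wrOmega S d : Set G) := by
  intro s hs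
  apply mem_normalizer_of_conj_mem
  rintro _ ⟨t, ht, rfl⟩
  exact ⟨_, d.omegaU_normal.conj_mem t ht ⟨s, hs⟩, rfl⟩

/-- with `|N_G(V) : V C_G(V)| = 2` the four-group `⟨z₁, t₀⟩` of `V` is not conjugate to `Ω₁(U)` -/
theorem wr_two_V_no_klein_conj (Q : Subgroup G) (hQS : Q ≤ S) (eQ : ↥Q ≃* QuaternionGroup 2)
    (k' : ZMod (2 ^ d.n)) (hV : Q ⊔ wrZ S = wrV S d (2 * k'))
    (h₂ : (wrV S d (2 * k') ⊔ Subgroup.centralizer (wrV S d (2 * k') : Set G)).relIndex
      (Subgroup.normalizer (wrV S d (2 * k') : Set G)) = 2)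
    (g : G)
    (hgz : g * ((d.c (z2half d.n) (z2half d.n) : ↥(S : Subgroup G)) : G) * g⁻¹ ∈ wrOmega S d)
    (hgt : g * ((d.e k' (-k') : ↥(S : Subgroup G)) : G) * g⁻¹ ∈ wrOmega S d) : False := by
  set z₁ : G := ((d.c (z2half d.n) (z2half d.n) : ↥(S : Subgroup G)) : G) with hz₁
  set t₀ : G := ((d.e k' (-k') : ↥(S : Subgroup G)) : G) with ht₀
  set V := wrV S d (2 * k') with hVdef
  -- (i) the conjugate of the four-group
  have hmap : (wrKl S d k').map (MulAut.conj g).toMonoidHom = wrOmega S d := by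
    apply Subgroup.eq_of_le_of_card_ge
    · rintro _ ⟨_, ⟨t, ht, rfl⟩, rfl⟩
      rw [SetLike.mem_coe, d.mem_kl] at ht
      show g * (t : G) * g⁻¹ ∈ wrOmega S d
      rcases ht with rfl | rfl | rfl | rfl
      · rw [Subgroup.coe_one, mul_one, mul_inv_cancel]; exact Subgroup.one_mem _
      · exact hgz
      · exact hgt
      · rw [Subgroup.coe_mul]
        have : g * (z₁ * t₀) * g⁻¹ = (g * z₁ * g⁻¹) * (g * t₀ * g⁻¹) := by group
        rw [this]; exact Subgroup.mul_mem _ hgz hgt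
    · rw [Subgroup.card_map_of_injective (MulAut.conj g).injective, card_wrKl, card_wrOmega]
  have hmap' : (wrOmega S d).map (MulAut.conj g⁻¹).toMonoidHom = wrKl S d k' := by
    rw [← hmap, Subgroup.map_map]
    have : (MulAut.conj g⁻¹).toMonoidHom.comp (MulAut.conj g).toMonoidHom = MonoidHom.id G := by
      ext x
      simp only [MonoidHom.coe_comp, MulEquiv.coe_toMonoidHom, Function.comp_apply,
        MulAut.conj_apply, MonoidHom.id_apply, inv_inv]
      group
    rw [this, Subgroup.map_id]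
  -- (ii) `V` normalizes the four-group
  have hVN : V ≤ Subgroup.normalizer
      (((wrOmega S d).map (MulAut.conj g⁻¹).toMonoidHom : Subgroup G) : Set G) := by
    rw [hmap']
    rintro _ ⟨v, hv, rfl⟩
    apply mem_normalizer_of_conj_mem
    rintro _ ⟨t, ht, rfl⟩
    exact ⟨_, d.kl_normalized_by_Vk k' v hv t ht, rfl⟩
  -- (iii) Sylow adjustment
  obtain ⟨h', hh1, hh2⟩ := sylow_adjust S (wrOmega S d) V (sylow_le_normalizer_wrOmega S d) g⁻¹
    (isPGroup_of_le_sylow S _ (wrV_le S d _)) hVN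
  rw [hmap'] at hh1
  -- (iv) the conjugate of `V`
  have hh'Z : h' ∈ Subgroup.normalizer (wrZ S : Set G) :=
    wr_conj_center_normalizer S d V (wrV_le S d _) (wrZ_le_wrV S d _)
      ((d.e (2 * k') 0 : ↥(S : Subgroup G)) : G) ((d.c (z2half d.n) 0 : ↥(S : Subgroup G)) : G)
      ((coe_mem_wrV_iff S d _ _).mpr (d.eκ0_mem_Vk _))
      ((coe_mem_wrV_iff S d _ _).mpr (d.ch0_mem_Vk _))
      (fun h'' => d.Vk_noncomm_elts (2 * k') (Subtype.ext h'')) h' hh2
  have hh'iZ : h'⁻¹ ∈ Subgroup.normalizer (wrZ S : Set G) := Subgroup.inv_mem _ hh'Z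
  set Q₁ : Subgroup G := Q.map (MulAut.conj h'⁻¹).toMonoidHom with hQ₁
  have hQV : Q ≤ V := by rw [← hV]; exact le_sup_left
  have hQ₁S : Q₁ ≤ S := by
    rintro _ ⟨q, hq, rfl⟩
    have := hh2 q (hQV hq)
    have e : (MulAut.conj h'⁻¹).toMonoidHom q = h'⁻¹ * q * h' := by simp
    rw [e]; exact this
  have eQ₁ : ↥Q₁ ≃* QuaternionGroup 2 :=
    (Q.equivMapOfInjective _ (MulAut.conj h'⁻¹).injective).symm.trans eQ
  obtain ⟨k₁, hV₁, -⟩ := wr_V_eq S d Q₁ hQ₁S eQ₁
  have hVmap : V.map (MulAut.conj h'⁻¹).toMonoidHom = wrV S d (2 * k₁) := by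
    have hz : (wrZ S).map (MulAut.conj h'⁻¹).toMonoidHom = wrZ S :=
      Subgroup.mem_normalizer_iff_map_conj_eq.mp hh'iZ
    rw [← hV, Subgroup.map_sup, ← hQ₁, hz, hV₁]
  -- (v) an element of `S` conjugating `V` to the same group
  set s₁ : G := ((d.c (k₁ - k') 0 : ↥(S : Subgroup G)) : G) with hs₁
  have hVs : V.map (MulAut.conj s₁).toMonoidHom = wrV S d (2 * k₁) := by
    have h1 := d.Vk_conj (2 * k') (k₁ - k')
    have h2 : 2 * k' + 2 * (k₁ - k') = 2 * k₁ := by ring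
    rw [h2] at h1
    rw [hVdef]
    unfold wrV
    rw [← h1, Subgroup.map_map, Subgroup.map_map]
    congr 1
  -- (vi) `r` normalizes `V`
  set r : G := h' * s₁ with hr
  have hconj_r : ∀ y : G, r * y * r⁻¹ = h' * (s₁ * y * s₁⁻¹) * h'⁻¹ := by
    intro y; rw [hr]; group
  have hrN : r ∈ Subgroup.normalizer (V : Set G) := by
    apply mem_normalizer_of_conj_mem
    intro v hv
    rw [hconj_r]
    have h1 : s₁ * v * s₁⁻¹ ∈ V.map (MulAut.conj s₁).toMonoidHom := ⟨v, hv, rfl⟩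
    rw [hVs, ← hVmap, mem_map_conj_iff] at h1
    rwa [inv_inv] at h1
  -- (vii) the images of `u₁` and `u₂`
  have himg : ∀ u : ↥(S : Subgroup G), u ∈ d.omegaU → (u : G) ∈ V → u ≠ 1 → r * (u : G) * r⁻¹ = z₁ := by
    intro u hu huV hu1
    have huU : (u : G) ∈ wrU S d := (coe_mem_wrU_iff S d u).mpr ((d.mem_omegaU_iff' u).mp hu).1
    have h1 := wr_two_V_stab S d (2 * k') h₂ r hrN (u : G) huV huU
    have h2 : s₁ * (u : G) * s₁⁻¹ ∈ wrOmega S d :=
      ⟨_, d.omegaU_normal.conj_mem u hu (d.c (k₁ - k') 0), rfl⟩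
    have h3 : r * (u : G) * r⁻¹ ∈ wrKl S d k' := by
      rw [hconj_r, ← hh1]
      exact ⟨_, h2, rfl⟩
    obtain ⟨t, ht, hteq⟩ := h3
    have htU : t ∈ d.U := by
      rw [← coe_mem_wrU_iff S d t]
      have : ((S : Subgroup G).subtype t) = r * (u : G) * r⁻¹ := hteq
      show ((S : Subgroup G).subtype t) ∈ wrU S d
      rw [this]; exact h1
    rcases d.kl_inf_U k' t ht htU with h | h
    · exfalso
      apply hu1
      rw [h] at hteq
      have h4 : r * (u : G) * r⁻¹ = 1 := hteq.symm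
      have h5 : (u : G) = r⁻¹ * (r * (u : G) * r⁻¹) * r := by group
      rw [h4] at h5
      apply Subtype.ext
      rw [h5]; simp
    · rw [h] at hteq
      exact hteq.symm
  have e1 := himg (d.c (z2half d.n) 0) ((d.mem_omegaU _).mpr (Or.inr (Or.inl rfl)))
    ((coe_mem_wrV_iff S d _ _).mpr (d.ch0_mem_Vk _))
    (by rw [Ne, d.c_eq_one_iff]; exact fun h => d.half_ne_zero h.1)
  have e2 := himg (d.c 0 (z2half d.n)) ((d.mem_omegaU _).mpr (Or.inr (Or.inr (Or.inl rfl))))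
    ((coe_mem_wrV_iff S d _ _).mpr (d.c0h_mem_Vk _))
    (by rw [Ne, d.c_eq_one_iff]; exact fun h => d.half_ne_zero h.2)
  have e3 : ((d.c (z2half d.n) 0 : ↥(S : Subgroup G)) : G) =
      ((d.c 0 (z2half d.n) : ↥(S : Subgroup G)) : G) := by
    have : r * ((d.c (z2half d.n) 0 : ↥(S : Subgroup G)) : G) * r⁻¹ =
        r * ((d.c 0 (z2half d.n) : ↥(S : Subgroup G)) : G) * r⁻¹ := by rw [e1, e2]
    simpa using this
  have e4 : d.c (z2half d.n) 0 = d.c 0 (z2half d.n) := Subtype.ext e3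
  rw [d.c_inj] at e4
  exact d.half_ne_zero e4.1

end

end Cfsg.Agent.Lib.Helper3
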