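import Mathlib
import Cfsg.Agent.Lib.Helper3.WrFus15

set_option autoImplicit false

namespace Cfsg.Agent.Lib.Helper3
open Cfsg.Agent.Lib.Lead
open scoped commutatorElement

section
variable {G : Type*} [Group G] [Finite G] (S : Sylow 2 G) (d : WrData ↥(S : Subgroup G))

/-- with `|N_G(V) : V C_G(V)| = 2`, the involutions outside `U` are not conjugate to involutions
of `U` -/
theorem wr_two_V_not_conj (Q : Subgroup G) (hQS : Q ≤ S) (eQ : ↥Q ≃* QuaternionGroup 2)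
    (h₂ : ((Q ⊔ wrZ S) ⊔ Subgroup.centralizer ((Q ⊔ wrZ S : Subgroup G) : Set G)).relIndex
      (Subgroup.normalizer ((Q ⊔ wrZ S : Subgroup G) : Set G)) = 2) :
    ¬ IsConj ((d.z : ↥(S : Subgroup G)) : G)
        ((d.c (z2half d.n) (z2half d.n) : ↥(S : Subgroup G)) : G) ∧
      ¬ IsConj ((d.z : ↥(S : Subgroup G)) : G) ((d.c (z2half d.n) 0 : ↥(S : Subgroup G)) : G) := by
  obtain ⟨k', hV, -⟩ := wr_V_eq S d Q hQS eQ
  rw [hV] at h₂
  have ht₀ := isConj_e_neg_z S d k'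
  have h1 : ¬ IsConj ((d.z : ↥(S : Subgroup G)) : G)
      ((d.c (z2half d.n) (z2half d.n) : ↥(S : Subgroup G)) : G) := by
    intro h
    obtain ⟨g, hgz, hgt⟩ := wr_conj_klein_of_conj_center S d k' (ht₀.trans h)
    exact wr_two_V_no_klein_conj S d Q hQS eQ k' hV h₂ g hgz hgt
  refine ⟨h1, ?_⟩
  intro h
  have hnc : ¬ IsConj ((d.c (z2half d.n) 0 : ↥(S : Subgroup G)) : G)
      ((d.c (z2half d.n) (z2half d.n) : ↥(S : Subgroup G)) : G) := fun h' => h1 (h.trans h')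
  obtain ⟨g, hgz, hgt⟩ := wr_conj_klein_of_conj_u S d k' (ht₀.trans h) hnc
  exact wr_two_V_no_klein_conj S d Q hQS eQ k' hV h₂ g hgz hgt

end

end Cfsg.Agent.Lib.Helper3
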