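import Mathlib
import Cfsg.Agent.Lib.Helper3.WrFus16
import Cfsg.Agent.Lib.Lead.ThompsonTransfer

set_option autoImplicit false

namespace Cfsg.Agent.Lib.Helper3
open Cfsg.Agent.Lib.Lead
open scoped commutatorElement

section
variable {G : Type*} [Group G] [Finite G] (S : Sylow 2 G) (d : WrData ↥(S : Subgroup G))

omit [Finite G] in
theorem relIndex_wrU : (wrU S d).relIndex (S : Subgroup G) = 2 := by
  unfold wrU
  rw [relIndex_map_subtype_of_index, d.index_U]

omit [Finite G] in
theorem orderOf_coe_z : orderOf ((d.z : ↥(S : Subgroup G)) : G) = 2 := by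
  rw [Subgroup.orderOf_coe]; exact d.hz

omit [Finite G] in
theorem orderOf_coe_chh :
    orderOf ((d.c (z2half d.n) (z2half d.n) : ↥(S : Subgroup G)) : G) = 2 := by
  rw [Subgroup.orderOf_coe]; exact d.orderOf_chh

omit [Finite G] in
theorem orderOf_coe_ch0 : orderOf ((d.c (z2half d.n) 0 : ↥(S : Subgroup G)) : G) = 2 := by
  rw [Subgroup.orderOf_coe]; exact d.orderOf_ch0

omit [Finite G] in
/-- an involution of `U` is conjugate in `G` to `z₁` or `u₁` -/
theorem wr_involution_U_cases (x : G) (hx : x ∈ wrU S d) (h2 : orderOf x = 2) :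
    IsConj x ((d.c (z2half d.n) (z2half d.n) : ↥(S : Subgroup G)) : G) ∨
      IsConj x ((d.c (z2half d.n) 0 : ↥(S : Subgroup G)) : G) := by
  have hxx : x * x = 1 := by rw [← pow_two, ← h2]; exact pow_orderOf_eq_one x
  have hx1 : x ≠ 1 := by
    intro h; rw [h, orderOf_one] at h2; norm_num at h2
  rcases mem_wrOmega_cases S d x ((mem_wrOmega_iff S d x).mpr ⟨hx, hxx⟩) with h | h | h | h
  · exact absurd h hx1
  · right; rw [h]
  · right; rw [h]; exact (isConj_u1_u2 S d).symm
  · left; rw [h]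

/-- case `(6, 2)` -/
theorem wr_case_six_two (Q : Subgroup G) (hQS : Q ≤ S) (eQ : ↥Q ≃* QuaternionGroup 2)
    (h₁ : (Subgroup.centralizer (wrU S d : Set G)).relIndex (Subgroup.normalizer (wrU S d : Set G)) = 6)
    (h₂ : ((Q ⊔ wrZ S) ⊔ Subgroup.centralizer ((Q ⊔ wrZ S : Subgroup G) : Set G)).relIndex
      (Subgroup.normalizer ((Q ⊔ wrZ S : Subgroup G) : Set G)) = 2) :
    (∃ K : Subgroup G, K.Normal ∧ K.index = 2 ∧ wrU S d ≤ K ∧ (∀ H : Subgroup ↥K, H.index ≠ 2)) ∧
      Nat.card {C : ConjClasses G // ∃ t : G, orderOf t = 2 ∧ ConjClasses.mk t = C} = 2 := by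
  obtain ⟨hzu, hUO⟩ := wr_six_U S d h₁
  obtain ⟨htz, htu⟩ := wr_two_V_not_conj S d Q hQS eQ h₂
  constructor
  · have hnc : ∀ g : G, g * ((d.z : ↥(S : Subgroup G)) : G) * g⁻¹ ∉ wrU S d := by
      intro g hg
      have ho : orderOf (g * ((d.z : ↥(S : Subgroup G)) : G) * g⁻¹) = 2 := by
        rw [orderOf_conj']; exact orderOf_coe_z S d
      have hc : IsConj ((d.z : ↥(S : Subgroup G)) : G) (g * ((d.z : ↥(S : Subgroup G)) : G) * g⁻¹) :=
        isConj_iff.mpr ⟨g, rfl⟩
      rcases wr_involution_U_cases S d _ hg ho with h | h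
      · exact htz (hc.trans h)
      · exact htu (hc.trans h)
    obtain ⟨K, hKn, hKi, -⟩ := thompson_transfer S (wrU S d) (relIndex_wrU S d) _ (orderOf_coe_z S d) hnc
    refine ⟨K, hKn, hKi, ?_, ?_⟩
    · exact hUO.trans (pResidual_le_of_index_pow K ⟨1, by rw [hKi, pow_one]⟩)
    · intro H
      apply no_index_two_of_le_pResidual K hKi S (wrU S d) hUO
      rw [card_wrU, d.card]; ring
  · apply card_classes_eq_two 2 _ _ (orderOf_coe_chh S d) (orderOf_coe_z S d)
    · exact fun h => htz h.symm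
    · intro t ht
      rcases wr_involution_cases S d t ht with h | h | h
      · left; exact h
      · left; exact h.trans hzu.symm
      · right; exact h

end

end Cfsg.Agent.Lib.Helper3
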