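import Mathlib
import Cfsg.Agent.Lib.Helper3.WrFus17

set_option autoImplicit false

namespace Cfsg.Agent.Lib.Helper3
open Cfsg.Agent.Lib.Lead
open scoped commutatorElement

/-- if every element of `S ∩ N` lies in a cyclic subgroup of `S`, the Sylow `2`-subgroups of the
normal subgroup `N` are cyclic -/
theorem cyclic_sylow_of_inf_le {G : Type*} [Group G] [Finite G] (S : Sylow 2 G)
    (N : Subgroup G) [hN : N.Normal] (C : Subgroup ↥(S : Subgroup G)) [hC : IsCyclic ↥C]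
    (h : ∀ s : ↥(S : Subgroup G), (s : G) ∈ N → s ∈ C) (P : Sylow 2 ↥N) :
    IsCyclic ↥(P : Subgroup ↥N) := by
  have hPp : IsPGroup 2 ↥((P : Subgroup ↥N).map N.subtype) := P.isPGroup'.map _
  obtain ⟨S', hS'⟩ := hPp.exists_le_sylow
  obtain ⟨g, hg⟩ := MulAction.exists_smul_eq G S S'
  have hconj : ∀ y : ↥(P : Subgroup ↥N), g⁻¹ * ((y : ↥N) : G) * g ∈ (S : Subgroup G) := by
    intro y
    have h1 : ((y : ↥N) : G) ∈ (S' : Subgroup G) := hS' ⟨y, y.2, rfl⟩
    rw [← hg, Sylow.coe_subgroup_smul, mem_conj_smul_iff'] at h1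
    exact h1
  have hzp : ∀ y : ↥(P : Subgroup ↥N), (⟨_, hconj y⟩ : ↥(S : Subgroup G)) ∈ C := by
    intro y
    apply h
    have := hN.conj_mem _ (y : ↥N).2 g⁻¹
    rwa [inv_inv] at this
  let ψ : ↥(P : Subgroup ↥N) →* ↥C :=
    { toFun := fun y => ⟨⟨_, hconj y⟩, hzp y⟩
      map_one' := by
        apply Subtype.ext; apply Subtype.ext
        simp
      map_mul' := by
        intro y₁ y₂
        apply Subtype.ext; apply Subtype.ext
        simp only [Subgroup.coe_mul]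
        group }
  have hψ : Function.Injective ψ := by
    intro y₁ y₂ h
    have h1 : g⁻¹ * ((y₁ : ↥N) : G) * g = g⁻¹ * ((y₂ : ↥N) : G) * g := by
      have := congrArg (fun t : ↥C => ((t : ↥(S : Subgroup G)) : G)) h
      exact this
    apply Subtype.ext; apply Subtype.ext
    have h2 := mul_right_cancel h1
    exact mul_left_cancel h2
  exact isCyclic_of_injective ψ hψ


open Cfsg.Agent.Lib.Lead
open scoped commutatorElement

namespace WrData
variable {S : Type*} [Group S] (d : WrData S)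

theorem c_one_zero_pow (k : ℕ) : d.c 1 0 ^ k = d.c (k : ZMod (2 ^ d.n)) 0 := by
  induction k with
  | zero => rw [pow_zero, Nat.cast_zero, d.c_zero]
  | succ k ih =>
    rw [pow_succ, ih, c_mul_c, Nat.cast_succ, add_zero]

end WrData

section
variable {G : Type*} [Group G] [Finite G] (S : Sylow 2 G) (d : WrData ↥(S : Subgroup G))

/-- with `|N_G(U) : C_G(U)| = 2`: the conjugates in `S` of the powers of `x = c 1 0` -/
theorem wr_conj_pow_x
    (h₁ : (Subgroup.centralizer (wrU S d : Set G)).relIndex (Subgroup.normalizer (wrU S d : Set G)) = 2)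
    (g : G) (r : ℕ) (hm : g⁻¹ * ((d.c 1 0 : ↥(S : Subgroup G)) : G) ^ r * g ∈ (S : Subgroup G)) :
    (g⁻¹ * ((d.c 1 0 : ↥(S : Subgroup G)) : G) ^ r * g =
        ((d.c (r : ZMod (2 ^ d.n)) 0 : ↥(S : Subgroup G)) : G) ∨
      g⁻¹ * ((d.c 1 0 : ↥(S : Subgroup G)) : G) ^ r * g =
        ((d.c 0 (r : ZMod (2 ^ d.n)) : ↥(S : Subgroup G)) : G)) ∨
    (∃ i : ZMod (2 ^ d.n), g⁻¹ * ((d.c 1 0 : ↥(S : Subgroup G)) : G) ^ r * g =
        ((d.e i (-i) : ↥(S : Subgroup G)) : G) ∧ (r : ZMod (2 ^ d.n)) = z2half d.n) := by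
  have hpow : ((d.c 1 0 : ↥(S : Subgroup G)) : G) ^ r =
      ((d.c (r : ZMod (2 ^ d.n)) 0 : ↥(S : Subgroup G)) : G) := by
    rw [← Subgroup.coe_pow, d.c_one_zero_pow]
  rw [hpow] at hm ⊢
  set ρ : ZMod (2 ^ d.n) := (r : ZMod (2 ^ d.n)) with hρ
  have hfus := fun (i j : ZMod (2 ^ d.n)) (hg : g⁻¹ * ((d.c i j : ↥(S : Subgroup G)) : G) * g ∈ wrU S d) =>
    wr_U_fusion S d h₁ i j g⁻¹ (by rw [inv_inv]; exact hg)
  rcases wr_cases S d _ hm with ⟨i, j, hij⟩ | ⟨i, j, hij⟩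
  · left
    have hU : g⁻¹ * ((d.c ρ 0 : ↥(S : Subgroup G)) : G) * g ∈ wrU S d := by
      rw [hij]; exact (mem_wrU_iff S d _).mpr ⟨i, j, rfl⟩
    have := hfus ρ 0 hU
    rw [inv_inv] at this
    exact this
  · right
    -- the square is central
    have hsq : g⁻¹ * ((d.c (2 * ρ) 0 : ↥(S : Subgroup G)) : G) * g =
        ((d.c (i + j) (i + j) : ↥(S : Subgroup G)) : G) := by
      have e1 : d.c (2 * ρ) 0 = d.c ρ 0 * d.c ρ 0 := by
        rw [d.c_mul_c, two_mul, add_zero]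
      rw [e1, Subgroup.coe_mul]
      have e2 : g⁻¹ * (((d.c ρ 0 : ↥(S : Subgroup G)) : G) * ((d.c ρ 0 : ↥(S : Subgroup G)) : G)) * g =
          (g⁻¹ * ((d.c ρ 0 : ↥(S : Subgroup G)) : G) * g) *
            (g⁻¹ * ((d.c ρ 0 : ↥(S : Subgroup G)) : G) * g) := by group
      rw [e2, hij, ← Subgroup.coe_mul, d.e_sq]
    have hU : g⁻¹ * ((d.c (2 * ρ) 0 : ↥(S : Subgroup G)) : G) * g ∈ wrU S d := by
      rw [hsq]; exact (mem_wrU_iff S d _).mpr ⟨_, _, rfl⟩
    have h2 := hfus (2 * ρ) 0 hU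
    rw [inv_inv, hsq] at h2
    have hs : i + j = 0 ∧ 2 * ρ = 0 := by
      rcases h2 with h | h
      · have := (d.c_inj _ _ _ _).mp (Subtype.ext h)
        exact ⟨this.2, this.1.symm.trans this.2⟩
      · have := (d.c_inj _ _ _ _).mp (Subtype.ext h)
        exact ⟨this.1, this.2.symm.trans this.1⟩
    have hj : j = -i := by linear_combination hs.1
    subst hj
    refine ⟨i, hij, ?_⟩
    rcases (z2_two_mul_eq_zero d.n d.n_pos ρ).mp hs.2 with h | h
    · exfalso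
      rw [h, d.c_zero] at hij
      have : d.e i (-i) = 1 := by
        apply Subtype.ext
        rw [← hij]; simp
      rw [← d.c_zero] at this
      exact d.c_ne_e _ _ _ _ this.symm
    · exact h


/-- the transfer of `G` into `S / Q₀` where `Q₀ = ker τ` -/
noncomputable def wrV1 : G →* Multiplicative (ZMod (2 ^ d.n)) := MonoidHom.transfer d.tau

theorem sylow_index_isUnit : IsUnit (((S : Subgroup G).index : ℕ) : ZMod (2 ^ d.n)) := by
  rw [ZMod.isUnit_iff_coprime]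
  apply Nat.Coprime.pow_right
  have := S.not_dvd_index
  exact (Nat.Prime.coprime_iff_not_dvd Nat.prime_two).mpr this |>.symm

theorem wrV1_x
    (h₁ : (Subgroup.centralizer (wrU S d : Set G)).relIndex (Subgroup.normalizer (wrU S d : Set G)) = 2) :
    wrV1 S d ((d.c 1 0 : ↥(S : Subgroup G)) : G) =
      Multiplicative.ofAdd (((S : Subgroup G).index : ℕ) : ZMod (2 ^ d.n)) := by
  unfold wrV1
  rw [transfer_eval (S : Subgroup G) d.tau _ (Multiplicative.ofAdd (1 : ZMod (2 ^ d.n)))]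
  · rw [← ofAdd_nsmul, nsmul_eq_mul, mul_one]
  · intro g r hm
    have hr : (Multiplicative.ofAdd (1 : ZMod (2 ^ d.n))) ^ r =
        Multiplicative.ofAdd (r : ZMod (2 ^ d.n)) := by
      rw [← ofAdd_nsmul, nsmul_eq_mul, mul_one]
    rw [hr]
    rcases wr_conj_pow_x S d h₁ g r hm with (h | h) | ⟨i, h, hr'⟩
    · have : (⟨_, hm⟩ : ↥(S : Subgroup G)) = d.c (r : ZMod (2 ^ d.n)) 0 := Subtype.ext h
      rw [this, d.tau_c, add_zero]
    · have : (⟨_, hm⟩ : ↥(S : Subgroup G)) = d.c 0 (r : ZMod (2 ^ d.n)) := Subtype.ext h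
      rw [this, d.tau_c, zero_add]
    · have : (⟨_, hm⟩ : ↥(S : Subgroup G)) = d.e i (-i) := Subtype.ext h
      rw [this, d.tau_e, hr', add_neg_cancel, zero_add]

theorem wrV1_c
    (h₁ : (Subgroup.centralizer (wrU S d : Set G)).relIndex (Subgroup.normalizer (wrU S d : Set G)) = 2)
    (i j : ZMod (2 ^ d.n)) :
    wrV1 S d ((d.c i j : ↥(S : Subgroup G)) : G) =
      Multiplicative.ofAdd ((i + j) * (((S : Subgroup G).index : ℕ) : ZMod (2 ^ d.n))) := by
  have hi : ∀ i : ZMod (2 ^ d.n), wrV1 S d ((d.c i 0 : ↥(S : Subgroup G)) : G) =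
      Multiplicative.ofAdd (i * (((S : Subgroup G).index : ℕ) : ZMod (2 ^ d.n))) := by
    intro i
    have : NeZero (2 ^ d.n) := ⟨by positivity⟩
    have h1 : d.c i 0 = d.c 1 0 ^ i.val := by
      rw [d.c_one_zero_pow, ZMod.natCast_zmod_val]
    rw [h1, Subgroup.coe_pow, map_pow, wrV1_x S d h₁, ← ofAdd_nsmul, nsmul_eq_mul,
      ZMod.natCast_zmod_val]
  have hj : ∀ j : ZMod (2 ^ d.n), wrV1 S d ((d.c 0 j : ↥(S : Subgroup G)) : G) =
      Multiplicative.ofAdd (j * (((S : Subgroup G).index : ℕ) : ZMod (2 ^ d.n))) := by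
    intro j
    have h1 : d.c 0 j = d.z * d.c j 0 * d.z⁻¹ := by
      rw [d.z_mul_c, mul_assoc, mul_inv_cancel, mul_one]
    rw [h1, Subgroup.coe_mul, Subgroup.coe_mul, map_mul, map_mul, Subgroup.coe_inv, map_inv,
      mul_comm, ← mul_assoc, inv_mul_cancel, one_mul, hi]
  have h2 : d.c i j = d.c i 0 * d.c 0 j := by rw [d.c_mul_c, add_zero, zero_add]
  rw [h2, Subgroup.coe_mul, map_mul, hi, hj, ← ofAdd_add, add_mul]

theorem wrV1_c_eq_one_iff
    (h₁ : (Subgroup.centralizer (wrU S d : Set G)).relIndex (Subgroup.normalizer (wrU S d : Set G)) = 2)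
    (i j : ZMod (2 ^ d.n)) :
    wrV1 S d ((d.c i j : ↥(S : Subgroup G)) : G) = 1 ↔ i + j = 0 := by
  rw [wrV1_c S d h₁, ← ofAdd_zero, Multiplicative.ofAdd.injective.eq_iff]
  exact (sylow_index_isUnit S d).mul_left_eq_zero

theorem wrV1_surjective
    (h₁ : (Subgroup.centralizer (wrU S d : Set G)).relIndex (Subgroup.normalizer (wrU S d : Set G)) = 2) :
    Function.Surjective (wrV1 S d) := by
  intro t
  obtain ⟨u, hu⟩ := sylow_index_isUnit S d
  refine ⟨((d.c (Multiplicative.toAdd t * ((u⁻¹ : (ZMod (2 ^ d.n))ˣ) : ZMod (2 ^ d.n))) 0 :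
    ↥(S : Subgroup G)) : G), ?_⟩
  rw [wrV1_c S d h₁, add_zero, ← hu, mul_assoc, Units.inv_mul, mul_one]
  rfl

theorem index_ker_wrV1
    (h₁ : (Subgroup.centralizer (wrU S d : Set G)).relIndex (Subgroup.normalizer (wrU S d : Set G)) = 2) :
    (wrV1 S d).ker.index = 2 ^ d.n := by
  rw [Subgroup.index_ker, MonoidHom.range_eq_top.mpr (wrV1_surjective S d h₁), Subgroup.card_top,
    Nat.card_eq_fintype_card, Fintype.card_multiplicative, ZMod.card]

end

end Cfsg.Agent.Lib.Helper3
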