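import Mathlib
import Cfsg.Agent.Lib.Helper3.WrFus18

set_option autoImplicit false

namespace Cfsg.Agent.Lib.Helper3
open Cfsg.Agent.Lib.Lead
open scoped commutatorElement

section
variable {G : Type*} [Group G] [Finite G] (S : Sylow 2 G) (d : WrData ↥(S : Subgroup G))

/-- the transfer of `G` into `S / U` -/
noncomputable def wrV2 : G →* ℤˣ :=
  MonoidHom.transfer (signOfIndexTwo (S : Subgroup G) (wrU S d) (relIndex_wrU S d))

theorem sylow_index_odd : Odd (S : Subgroup G).index := by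
  rw [← Nat.not_even_iff_odd, even_iff_two_dvd]
  exact S.not_dvd_index

theorem wrV2_x
    (h₁ : (Subgroup.centralizer (wrU S d : Set G)).relIndex (Subgroup.normalizer (wrU S d : Set G)) = 2)
    (hu : ¬ IsConj ((d.z : ↥(S : Subgroup G)) : G) ((d.c (z2half d.n) 0 : ↥(S : Subgroup G)) : G)) :
    wrV2 S d ((d.c 1 0 : ↥(S : Subgroup G)) : G) = 1 := by
  unfold wrV2
  rw [transfer_eval (S : Subgroup G) _ _ (1 : ℤˣ), one_pow]
  intro g r hm
  rw [one_pow, signOfIndexTwo_apply]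
  rcases wr_conj_pow_x S d h₁ g r hm with (h | h) | ⟨i, h, hr'⟩
  · rw [if_pos]
    show g⁻¹ * _ * g ∈ wrU S d
    rw [h]; exact (mem_wrU_iff S d _).mpr ⟨_, _, rfl⟩
  · rw [if_pos]
    show g⁻¹ * _ * g ∈ wrU S d
    rw [h]; exact (mem_wrU_iff S d _).mpr ⟨_, _, rfl⟩
  · exfalso
    apply hu
    have hpow : ((d.c 1 0 : ↥(S : Subgroup G)) : G) ^ r =
        ((d.c (z2half d.n) 0 : ↥(S : Subgroup G)) : G) := by
      rw [← Subgroup.coe_pow, d.c_one_zero_pow, hr']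
    rw [hpow] at h
    have h2 : IsConj ((d.c (z2half d.n) 0 : ↥(S : Subgroup G)) : G)
        ((d.e i (-i) : ↥(S : Subgroup G)) : G) := by
      rw [← h]
      exact isConj_iff.mpr ⟨g⁻¹, by rw [inv_inv]⟩
    exact ((h2.trans (isConj_e_neg_z S d i))).symm

theorem wrV2_c
    (h₁ : (Subgroup.centralizer (wrU S d : Set G)).relIndex (Subgroup.normalizer (wrU S d : Set G)) = 2)
    (hu : ¬ IsConj ((d.z : ↥(S : Subgroup G)) : G) ((d.c (z2half d.n) 0 : ↥(S : Subgroup G)) : G))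
    (i j : ZMod (2 ^ d.n)) :
    wrV2 S d ((d.c i j : ↥(S : Subgroup G)) : G) = 1 := by
  have hi : ∀ i : ZMod (2 ^ d.n), wrV2 S d ((d.c i 0 : ↥(S : Subgroup G)) : G) = 1 := by
    intro i
    have : NeZero (2 ^ d.n) := ⟨by positivity⟩
    have h1 : d.c i 0 = d.c 1 0 ^ i.val := by
      rw [d.c_one_zero_pow, ZMod.natCast_zmod_val]
    rw [h1, Subgroup.coe_pow, map_pow, wrV2_x S d h₁ hu, one_pow]
  have hj : ∀ j : ZMod (2 ^ d.n), wrV2 S d ((d.c 0 j : ↥(S : Subgroup G)) : G) = 1 := by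
    intro j
    have h1 : d.c 0 j = d.z * d.c j 0 * d.z⁻¹ := by
      rw [d.z_mul_c, mul_assoc, mul_inv_cancel, mul_one]
    rw [h1, Subgroup.coe_mul, Subgroup.coe_mul, map_mul, map_mul, Subgroup.coe_inv, map_inv,
      mul_comm, ← mul_assoc, inv_mul_cancel, one_mul, hi]
  have h2 : d.c i j = d.c i 0 * d.c 0 j := by rw [d.c_mul_c, add_zero, zero_add]
  rw [h2, Subgroup.coe_mul, map_mul, hi, hj, one_mul]

theorem wrV2_z
    (hz : ¬ IsConj ((d.z : ↥(S : Subgroup G)) : G)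
      ((d.c (z2half d.n) (z2half d.n) : ↥(S : Subgroup G)) : G))
    (hu : ¬ IsConj ((d.z : ↥(S : Subgroup G)) : G) ((d.c (z2half d.n) 0 : ↥(S : Subgroup G)) : G)) :
    wrV2 S d ((d.z : ↥(S : Subgroup G)) : G) = -1 := by
  unfold wrV2
  rw [transfer_eval (S : Subgroup G) _ _ (-1 : ℤˣ), (sylow_index_odd S).neg_one_pow]
  intro g r hm
  rw [signOfIndexTwo_apply]
  have hzz : ((d.z : ↥(S : Subgroup G)) : G) ^ 2 = 1 := by
    rw [← Subgroup.coe_pow, pow_two, d.z_sq, Subgroup.coe_one]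
  rcases Nat.even_or_odd' r with ⟨k, rfl | rfl⟩
  · rw [if_pos, pow_mul, neg_one_sq, one_pow]
    show g⁻¹ * _ * g ∈ wrU S d
    rw [pow_mul, hzz, one_pow, mul_one, inv_mul_cancel]
    exact one_mem _
  · rw [if_neg, pow_succ, pow_mul, neg_one_sq, one_pow, one_mul]
    show ¬ g⁻¹ * _ * g ∈ wrU S d
    rw [pow_succ, pow_mul, hzz, one_pow, one_mul]
    intro hmem
    have hc : IsConj ((d.z : ↥(S : Subgroup G)) : G) (g⁻¹ * ((d.z : ↥(S : Subgroup G)) : G) * g) :=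
      isConj_iff.mpr ⟨g⁻¹, by rw [inv_inv]⟩
    have ho : orderOf (g⁻¹ * ((d.z : ↥(S : Subgroup G)) : G) * g) = 2 := by
      have := (MulEquiv.orderOf_eq (MulAut.conj g⁻¹) ((d.z : ↥(S : Subgroup G)) : G))
      rw [MulAut.conj_apply, inv_inv, orderOf_coe_z] at this
      exact this
    rcases wr_involution_U_cases S d _ hmem ho with h | h
    · exact hz (hc.trans h)
    · exact hu (hc.trans h)

theorem wrV2_e
    (h₁ : (Subgroup.centralizer (wrU S d : Set G)).relIndex (Subgroup.normalizer (wrU S d : Set G)) = 2)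
    (hz : ¬ IsConj ((d.z : ↥(S : Subgroup G)) : G)
      ((d.c (z2half d.n) (z2half d.n) : ↥(S : Subgroup G)) : G))
    (hu : ¬ IsConj ((d.z : ↥(S : Subgroup G)) : G) ((d.c (z2half d.n) 0 : ↥(S : Subgroup G)) : G))
    (i j : ZMod (2 ^ d.n)) :
    wrV2 S d ((d.e i j : ↥(S : Subgroup G)) : G) = -1 := by
  have : d.e i j = d.c i j * d.z := rfl
  rw [this, Subgroup.coe_mul, map_mul, wrV2_c S d h₁ hu, wrV2_z S d hz hu, one_mul]

end

end Cfsg.Agent.Lib.Helper3
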