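import Mathlib
import Cfsg.Agent.Lib.Helper3.WrFus19

set_option autoImplicit false

namespace Cfsg.Agent.Lib.Helper3
open Cfsg.Agent.Lib.Lead
open scoped commutatorElement

section
variable {G : Type*} [Group G] [Finite G] (S : Sylow 2 G) (d : WrData ↥(S : Subgroup G))

theorem wr_two_two_npc
    (h₁ : (Subgroup.centralizer (wrU S d : Set G)).relIndex (Subgroup.normalizer (wrU S d : Set G)) = 2)
    (hz : ¬ IsConj ((d.z : ↥(S : Subgroup G)) : G)
      ((d.c (z2half d.n) (z2half d.n) : ↥(S : Subgroup G)) : G))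
    (hu : ¬ IsConj ((d.z : ↥(S : Subgroup G)) : G) ((d.c (z2half d.n) 0 : ↥(S : Subgroup G)) : G)) :
    Cfsg.HasNormalPComplement 2 G := by
  set V := (wrV1 S d).prod (wrV2 S d) with hV
  have hN : V.ker.Normal := MonoidHom.normal_ker _
  have hidx : ∃ k, V.ker.index = 2 ^ k := by
    rw [Subgroup.index_ker]
    have h1 : Nat.card V.range ∣ Nat.card (Multiplicative (ZMod (2 ^ d.n)) × ℤˣ) :=
      Subgroup.card_subgroup_dvd_card _
    have h2 : Nat.card (Multiplicative (ZMod (2 ^ d.n)) × ℤˣ) = 2 ^ (d.n + 1) := by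
      rw [Nat.card_prod, Nat.card_eq_fintype_card, Fintype.card_multiplicative, ZMod.card,
        Nat.card_eq_fintype_card, Fintype.card_units_int, pow_succ]
    rw [h2] at h1
    obtain ⟨k, -, hk⟩ := (Nat.dvd_prime_pow Nat.prime_two).mp h1
    exact ⟨k, hk⟩
  obtain ⟨k, hk⟩ := hidx
  have P : Sylow 2 ↥V.ker := default
  have hcyc : IsCyclic ↥(commutator ↥(S : Subgroup G)) := d.isCyclic_commutator
  refine hasNormalPComplement_two_of_normal_cyclic V.ker k hk P
    (cyclic_sylow_of_inf_le S V.ker (commutator ↥(S : Subgroup G)) ?_ P)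
  intro s hs
  rw [MonoidHom.mem_ker, hV, MonoidHom.prod_apply, Prod.mk_eq_one] at hs
  rcases d.cases s with ⟨i, j, rfl⟩ | ⟨i, j, rfl⟩
  · have h0 := (wrV1_c_eq_one_iff S d h₁ i j).mp hs.1
    have hj : j = -i := by linear_combination h0
    rw [d.commutator_eq, d.mem_dHom_range]
    exact ⟨i, by rw [hj]⟩
  · exfalso
    have := hs.2
    rw [wrV2_e S d h₁ hz hu] at this
    exact absurd this (by decide)

end


open Cfsg.Agent.Lib.Lead
open scoped commutatorElement

section
variable {G : Type*} [Group G] [Finite G] (S : Sylow 2 G) (d : WrData ↥(S : Subgroup G))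

/-- with `|N_G(U) : C_G(U)| = 2` the two classes of involutions of `U` are not fused -/
theorem wr_two_U_not_conj
    (h₁ : (Subgroup.centralizer (wrU S d : Set G)).relIndex (Subgroup.normalizer (wrU S d : Set G)) = 2) :
    ¬ IsConj ((d.c (z2half d.n) (z2half d.n) : ↥(S : Subgroup G)) : G)
      ((d.c (z2half d.n) 0 : ↥(S : Subgroup G)) : G) := by
  intro h
  obtain ⟨g, hg⟩ := isConj_iff.mp h
  have hmem : g * ((d.c (z2half d.n) (z2half d.n) : ↥(S : Subgroup G)) : G) * g⁻¹ ∈ wrU S d := by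
    rw [hg]; exact (mem_wrU_iff S d _).mpr ⟨_, _, rfl⟩
  have := wr_U_fusion S d h₁ _ _ g hmem
  rw [hg, or_self] at this
  have h2 := (d.c_inj _ _ _ _).mp (Subtype.ext this)
  exact z2_half_ne_zero d.n d.n_pos h2.2.symm

/-- case `(2, 2)` -/
theorem wr_case_two_two (Q : Subgroup G) (hQS : Q ≤ S) (eQ : ↥Q ≃* QuaternionGroup 2)
    (h₁ : (Subgroup.centralizer (wrU S d : Set G)).relIndex (Subgroup.normalizer (wrU S d : Set G)) = 2)
    (h₂ : ((Q ⊔ wrZ S) ⊔ Subgroup.centralizer ((Q ⊔ wrZ S : Subgroup G) : Set G)).relIndex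
      (Subgroup.normalizer ((Q ⊔ wrZ S : Subgroup G) : Set G)) = 2) :
    Cfsg.HasNormalPComplement 2 G ∧
      Nat.card {C : ConjClasses G // ∃ t : G, orderOf t = 2 ∧ ConjClasses.mk t = C} = 3 := by
  obtain ⟨hz, hu⟩ := wr_two_V_not_conj S d Q hQS eQ h₂
  refine ⟨wr_two_two_npc S d h₁ hz hu, ?_⟩
  exact card_classes_eq_three 2 _ _ _ (orderOf_coe_chh S d) (orderOf_coe_ch0 S d) (orderOf_coe_z S d)
    (wr_two_U_not_conj S d h₁) (fun h => hz h.symm) (fun h => hu h.symm)
    (fun t ht => wr_involution_cases S d t ht)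

end

end Cfsg.Agent.Lib.Helper3
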