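import Mathlib
import Cfsg.Agent.Lib.Helper3.WrFus20

set_option autoImplicit false

namespace Cfsg.Agent.Lib.Helper3
open Cfsg.Agent.Lib.Lead
open scoped commutatorElement

theorem card_sylow_of_index_pow {G : Type*} [Group G] [Finite G] (K : Subgroup G) (k : ℕ)
    (hK : K.index = 2 ^ k) (S : Sylow 2 G) (P : Sylow 2 ↥K) :
    Nat.card ↥(P : Subgroup ↥K) * 2 ^ k = Nat.card ↥(S : Subgroup G) := by
  rw [Sylow.card_eq_multiplicity, Sylow.card_eq_multiplicity]
  have h1 : Nat.card G = Nat.card ↥K * 2 ^ k := by rw [← hK, Subgroup.card_mul_index]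
  rw [h1, Nat.factorization_mul Nat.card_pos.ne' (by positivity), Finsupp.add_apply,
    Nat.Prime.factorization_pow Nat.prime_two, Finsupp.single_eq_same, pow_add]

theorem sylow_equiv_of_le_of_card_pow {G : Type*} [Group G] [Finite G] (K : Subgroup G) (k : ℕ)
    (hK : K.index = 2 ^ k)
    (S : Sylow 2 G) (P₀ : Subgroup G) (hP₀K : P₀ ≤ K)
    (hcard : Nat.card ↥P₀ * 2 ^ k = Nat.card ↥(S : Subgroup G)) (P : Sylow 2 ↥K) :
    Nonempty (↥(P : Subgroup ↥K) ≃* ↥P₀) := by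
  obtain ⟨l, hl⟩ := IsPGroup.iff_card.mp S.isPGroup'
  have hdvd : Nat.card ↥P₀ ∣ 2 ^ l := by rw [← hl, ← hcard]; exact dvd_mul_right _ _
  obtain ⟨j, -, hj⟩ := (Nat.dvd_prime_pow Nat.prime_two).mp hdvd
  have hP₀p : IsPGroup 2 ↥(P₀.subgroupOf K) :=
    IsPGroup.of_card (n := j) (by rw [card_subgroupOf_of_le hP₀K, hj])
  obtain ⟨P', hP'⟩ := hP₀p.exists_le_sylow
  have hc' := card_sylow_of_index_pow K k hK S P'
  have heq : P₀.subgroupOf K = (P' : Subgroup ↥K) := by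
    apply Subgroup.eq_of_le_of_card_ge hP'
    rw [card_subgroupOf_of_le hP₀K]
    have hpos : 0 < 2 ^ k := by positivity
    exact Nat.le_of_mul_le_mul_right (by rw [hc', hcard]) hpos
  have e1 : ↥(P : Subgroup ↥K) ≃* ↥(P' : Subgroup ↥K) := Sylow.equiv P P'
  have e2 : ↥(P' : Subgroup ↥K) ≃* ↥(P₀.subgroupOf K) := MulEquiv.subgroupCongr heq.symm
  exact ⟨(e1.trans e2).trans (Subgroup.subgroupOfEquivOfLe hP₀K)⟩

theorem no_index_two_of_le_pResidual_pow {G : Type*} [Group G] [Finite G] (K : Subgroup G)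
    [hKn : K.Normal] (k : ℕ)
    (hK : K.index = 2 ^ k) (S : Sylow 2 G) (P₀ : Subgroup G) (hP₀ : P₀ ≤ Cfsg.pResidual 2 G)
    (hcard : Nat.card ↥P₀ * 2 ^ k = Nat.card ↥(S : Subgroup G)) (H : Subgroup ↥K) : H.index ≠ 2 := by
  intro hH
  have : H.Normal := Subgroup.normal_of_index_eq_two hH
  have : Fact (Nat.Prime 2) := ⟨Nat.prime_two⟩
  have hO : Cfsg.pResidual 2 G ≤ H.map K.subtype := by
    unfold Cfsg.pResidual
    rw [Subgroup.closure_le]
    intro g hg
    have hgK : g ∈ K := mem_of_coprime_orderOf (p := 2) K ⟨k, hK⟩ g hg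
    have hgH : (⟨g, hgK⟩ : ↥K) ∈ H :=
      mem_of_coprime_orderOf (p := 2) H ⟨1, by rw [hH, pow_one]⟩ _ (by
        rw [Subgroup.orderOf_mk]; exact hg)
    exact ⟨⟨g, hgK⟩, hgH, rfl⟩
  have hle : P₀ ≤ H.map K.subtype := hP₀.trans hO
  have hdvd : Nat.card ↥P₀ ∣ Nat.card ↥H := by
    have := Subgroup.card_dvd_of_le hle
    rwa [Subgroup.card_map_of_injective K.subtype_injective] at this
  obtain ⟨r, hr⟩ := hdvd
  have h1 : Nat.card ↥H * 2 = Nat.card ↥K := by rw [← hH, Subgroup.card_mul_index]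
  have h2 : Nat.card ↥K * 2 ^ k = Nat.card G := by rw [← hK, Subgroup.card_mul_index]
  have h3 : Nat.card ↥(S : Subgroup G) * (S : Subgroup G).index = Nat.card G :=
    Subgroup.card_mul_index _
  apply S.not_dvd_index
  refine ⟨r, ?_⟩
  have hpos : 0 < Nat.card ↥(S : Subgroup G) := Nat.card_pos
  apply Nat.eq_of_mul_eq_mul_left hpos
  rw [h3, ← h2, ← h1, hr, ← hcard]
  ring


open Cfsg.Agent.Lib.Lead
open scoped commutatorElement

section
variable {G : Type*} [Group G] [Finite G] (S : Sylow 2 G) (d : WrData ↥(S : Subgroup G))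

omit [Finite G] in
/-- a normal subgroup containing one `e i₀ j₀` with `i₀ + j₀ = h` contains all of `wrQuat` -/
theorem wrQuat_le_of_normal (O : Subgroup G) [hO : O.Normal] (i₀ j₀ : ZMod (2 ^ d.n))
    (hij : i₀ + j₀ = z2half d.n) (he : ((d.e i₀ j₀ : ↥(S : Subgroup G)) : G) ∈ O) :
    wrQuat S d ≤ O := by
  have hc : ∀ m : ZMod (2 ^ d.n), ((d.c m (-m) : ↥(S : Subgroup G)) : G) ∈ O := by
    intro m
    have h1 : d.c m (-m) = (d.c m 0 * d.e i₀ j₀ * (d.c m 0)⁻¹) * (d.e i₀ j₀)⁻¹ := by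
      rw [d.c_conj_e, d.e_inv, d.e_mul_e]
      congr 1 <;> ring
    rw [h1, Subgroup.coe_mul, Subgroup.coe_mul, Subgroup.coe_mul, Subgroup.coe_inv, Subgroup.coe_inv]
    exact O.mul_mem (hO.conj_mem _ he _) (O.inv_mem he)
  rintro x ⟨s, hs, rfl⟩
  rcases d.cases s with ⟨i, j, rfl⟩ | ⟨i, j, rfl⟩
  · have h0 := (d.c_mem_quatS i j).mp hs
    have hj : j = -i := by linear_combination h0
    rw [hj]; exact hc i
  · have h0 := (d.e_mem_quatS i j).mp hs
    have h1 : d.e i j = d.c (i - i₀) (-(i - i₀)) * d.e i₀ j₀ := by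
      rw [d.c_mul_e]
      congr 1
      · ring
      · linear_combination h0 - hij
    show ((d.e i j : ↥(S : Subgroup G)) : G) ∈ O
    rw [h1, Subgroup.coe_mul]
    exact O.mul_mem (hc _) he

theorem card_wrQuat : Nat.card ↥(wrQuat S d) = 2 ^ (d.n + 1) := by
  unfold wrQuat
  rw [Subgroup.card_map_of_injective (Subgroup.subtype_injective _), d.card_quatS]

end

end Cfsg.Agent.Lib.Helper3
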