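import Mathlib
import Cfsg.Agent.Lib.Helper3.WrFus21

set_option autoImplicit false

namespace Cfsg.Agent.Lib.Helper3
open Cfsg.Agent.Lib.Lead
open scoped commutatorElement

section
variable {G : Type*} [Group G] [Finite G] (S : Sylow 2 G) (d : WrData ↥(S : Subgroup G))

theorem wr_two_six_K (Q : Subgroup G) (hQS : Q ≤ S) (eQ : ↥Q ≃* QuaternionGroup 2)
    (h₁ : (Subgroup.centralizer (wrU S d : Set G)).relIndex (Subgroup.normalizer (wrU S d : Set G)) = 2)
    (h₂ : ((Q ⊔ wrZ S) ⊔ Subgroup.centralizer ((Q ⊔ wrZ S : Subgroup G) : Set G)).relIndex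
      (Subgroup.normalizer ((Q ⊔ wrZ S : Subgroup G) : Set G)) = 6) :
    ∃ K : Subgroup G, K.Normal ∧ K.index = 2 ^ d.n ∧
      (∀ P : Sylow 2 ↥K, ∃ m : ℕ, 1 ≤ m ∧
        Nonempty ((P : Subgroup ↥K) ≃* QuaternionGroup (2 ^ m))) ∧
      (∀ H : Subgroup ↥K, H.index ≠ 2) := by
  obtain ⟨-, i₀, j₀, hij, he⟩ := wr_six_V S d Q hQS eQ h₂
  have : Fact (Nat.Prime 2) := ⟨Nat.prime_two⟩
  have hKn : (wrV1 S d).ker.Normal := MonoidHom.normal_ker _
  have hidx := index_ker_wrV1 S d h₁
  have hOn : (Cfsg.pResidual 2 G).Normal := pResidual_normal 2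
  have hO : Cfsg.pResidual 2 G ≤ (wrV1 S d).ker := pResidual_le_of_index_pow _ ⟨d.n, hidx⟩
  have hQO : wrQuat S d ≤ Cfsg.pResidual 2 G := wrQuat_le_of_normal S d _ i₀ j₀ hij he
  have hcard : Nat.card ↥(wrQuat S d) * 2 ^ d.n = Nat.card ↥(S : Subgroup G) := by
    rw [card_wrQuat, d.card, ← pow_add]; congr 1; omega
  refine ⟨(wrV1 S d).ker, hKn, hidx, ?_, ?_⟩
  · intro P
    obtain ⟨e⟩ := sylow_equiv_of_le_of_card_pow _ d.n hidx S (wrQuat S d) (hQO.trans hO) hcard P
    obtain ⟨e'⟩ := d.quatS_equiv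
    have e2 : ↥(wrQuat S d) ≃* ↥d.quatS :=
      (Subgroup.equivMapOfInjective d.quatS _ (Subgroup.subtype_injective _)).symm
    refine ⟨d.n - 1, ?_, ⟨(e.trans e2).trans e'⟩⟩
    have := d.hn
    omega
  · intro H
    exact no_index_two_of_le_pResidual_pow _ d.n hidx S (wrQuat S d) hQO hcard H

end


open Cfsg.Agent.Lib.Lead
open scoped commutatorElement

section
variable {G : Type*} [Group G] [Finite G] (S : Sylow 2 G) (d : WrData ↥(S : Subgroup G))

/-- in case `(2, 6)` central elements of `S` are not fused to other elements of `S` -/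
theorem wr_two_six_center_fix
    (h₁ : (Subgroup.centralizer (wrU S d : Set G)).relIndex (Subgroup.normalizer (wrU S d : Set G)) = 2)
    (hconj : IsConj ((d.c (z2half d.n) 0 : ↥(S : Subgroup G)) : G) ((d.z : ↥(S : Subgroup G)) : G))
    (a : G) (ha : a ∈ wrZ S) (g : G) (hg : g * a * g⁻¹ ∈ (S : Subgroup G)) :
    g * a * g⁻¹ = a := by
  obtain ⟨k, rfl⟩ := (mem_wrZ_iff S d a).mp ha
  rcases wr_cases S d _ hg with ⟨i, j, hij⟩ | ⟨i, j, hij⟩
  · have hmem : g * ((d.c k k : ↥(S : Subgroup G)) : G) * g⁻¹ ∈ wrU S d := by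
      rw [hij]; exact (mem_wrU_iff S d _).mpr ⟨_, _, rfl⟩
    have := wr_U_fusion S d h₁ k k g hmem
    rw [or_self] at this
    exact this
  · exfalso
    by_cases hsq : d.e i j * d.e i j = 1
    · -- then `a` is the central involution
      have hij0 : i + j = 0 := by
        rw [d.e_sq, d.c_eq_one_iff] at hsq
        exact hsq.1
      have hj : j = -i := by linear_combination hij0
      subst hj
      have hne : d.c k k ≠ 1 := by
        intro h1
        rw [h1, Subgroup.coe_one, mul_one, mul_inv_cancel] at hij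
        have : d.e i (-i) = 1 := Subtype.ext hij.symm
        rw [← d.c_zero] at this
        exact d.c_ne_e _ _ _ _ this.symm
      have hsq' : d.c k k * d.c k k = 1 := by
        have h2 : (g * ((d.c k k : ↥(S : Subgroup G)) : G) * g⁻¹) *
            (g * ((d.c k k : ↥(S : Subgroup G)) : G) * g⁻¹) = 1 := by
          rw [hij, ← Subgroup.coe_mul, hsq, Subgroup.coe_one]
        have h3 : ((d.c k k : ↥(S : Subgroup G)) : G) * ((d.c k k : ↥(S : Subgroup G)) : G) = 1 := by
          have e : (g * ((d.c k k : ↥(S : Subgroup G)) : G) * g⁻¹) *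
            (g * ((d.c k k : ↥(S : Subgroup G)) : G) * g⁻¹) =
              g * (((d.c k k : ↥(S : Subgroup G)) : G) * ((d.c k k : ↥(S : Subgroup G)) : G)) * g⁻¹ := by
            group
          rw [e] at h2
          have h4 := congrArg (fun t => g⁻¹ * t * g) h2
          simp only [mul_one, inv_mul_cancel] at h4
          rw [← h4]; group
        apply Subtype.ext
        rw [Subgroup.coe_mul, h3, Subgroup.coe_one]
      have ho : orderOf (d.c k k) = 2 := by
        have : Fact (Nat.Prime 2) := ⟨Nat.prime_two⟩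
        rw [orderOf_eq_prime_iff, pow_two]
        exact ⟨hsq', hne⟩
      have hck := d.center_involution (d.c k k) ((d.mem_center_iff _).mpr ⟨k, rfl⟩) ho
      rw [hck] at hij
      apply wr_two_U_not_conj S d h₁
      have h5 : IsConj ((d.c (z2half d.n) (z2half d.n) : ↥(S : Subgroup G)) : G)
          ((d.e i (-i) : ↥(S : Subgroup G)) : G) := isConj_iff.mpr ⟨g, hij⟩
      exact (h5.trans (isConj_e_neg_z S d i)).trans hconj.symm
    · exact wr_center_not_conj_e S d _ ha g i j hij hsq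

theorem wr_two_six_weaklyClosed
    (h₁ : (Subgroup.centralizer (wrU S d : Set G)).relIndex (Subgroup.normalizer (wrU S d : Set G)) = 2)
    (hconj : IsConj ((d.c (z2half d.n) 0 : ↥(S : Subgroup G)) : G) ((d.z : ↥(S : Subgroup G)) : G))
    (Z₀ : Subgroup G) (hZ₀ : Z₀ ≤ wrZ S) : Cfsg.IsWeaklyClosed Z₀ (S : Subgroup G) := by
  refine ⟨hZ₀.trans (Subgroup.map_subtype_le _), ?_⟩
  intro g hg
  have key : ∀ a ∈ Z₀, (MulAut.conj g).toMonoidHom a = a := by
    intro a ha
    have hmem : (MulAut.conj g).toMonoidHom a ∈ (S : Subgroup G) := hg ⟨a, ha, rfl⟩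
    exact wr_two_six_center_fix S d h₁ hconj a (hZ₀ ha) g hmem
  ext x
  constructor
  · rintro ⟨a, ha, rfl⟩
    rw [key a ha]; exact ha
  · intro hx
    exact ⟨x, hx, key x hx⟩

/-- case `(2, 6)` -/
theorem wr_case_two_six (Q : Subgroup G) (hQS : Q ≤ S) (eQ : ↥Q ≃* QuaternionGroup 2)
    (h₁ : (Subgroup.centralizer (wrU S d : Set G)).relIndex (Subgroup.normalizer (wrU S d : Set G)) = 2)
    (h₂ : ((Q ⊔ wrZ S) ⊔ Subgroup.centralizer ((Q ⊔ wrZ S : Subgroup G) : Set G)).relIndex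
      (Subgroup.normalizer ((Q ⊔ wrZ S : Subgroup G) : Set G)) = 6) :
    (∀ Z₀ : Subgroup G, Z₀ ≤ wrZ S → Cfsg.IsWeaklyClosed Z₀ (S : Subgroup G)) ∧
      Nat.card {C : ConjClasses G // ∃ t : G, orderOf t = 2 ∧ ConjClasses.mk t = C} = 2 := by
  obtain ⟨hconj, -⟩ := wr_six_V S d Q hQS eQ h₂
  refine ⟨fun Z₀ hZ₀ => wr_two_six_weaklyClosed S d h₁ hconj Z₀ hZ₀, ?_⟩
  apply card_classes_eq_two 2 _ _ (orderOf_coe_chh S d) (orderOf_coe_ch0 S d)
    (wr_two_U_not_conj S d h₁)
  intro t ht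
  rcases wr_involution_cases S d t ht with h | h | h
  · left; exact h
  · right; exact h
  · right; exact h.trans hconj.symm

end

end Cfsg.Agent.Lib.Helper3
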