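import Mathlib
import Cfsg.Agent.Lib.Helper3.WrFus22

set_option autoImplicit false

namespace Cfsg.Agent.Lib.Helper3
open Cfsg.Agent.Lib.Lead

/-- a finite group whose elements of odd order are trivial is a `2`-group -/
theorem isPGroup_two_of_odd_trivial {A : Type*} [Group A] [Finite A]
    (h : ∀ (β : A) (m : ℕ), m.Coprime 2 → β ^ m = 1 → β = 1) : IsPGroup 2 A := by
  intro β
  have hpos : 0 < orderOf β := orderOf_pos β
  obtain ⟨k, m, hm, hkm⟩ := Nat.exists_eq_two_pow_mul_odd hpos.ne'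
  refine ⟨k, ?_⟩
  apply h (β ^ 2 ^ k) m
  · exact (Nat.coprime_comm.mp (Nat.coprime_two_left.mpr hm))
  · rw [← pow_mul, ← hkm, pow_orderOf_eq_one]

section
variable {G : Type*} [Group G]

theorem aut_pow_mem (β : MulAut G) (C : Subgroup G) (hinv : ∀ x ∈ C, β x ∈ C) (k : ℕ) :
    ∀ x ∈ C, (β ^ k) x ∈ C := by
  induction k with
  | zero => intro x hx; simpa using hx
  | succ k ih =>
    intro x hx
    rw [pow_succ', MulAut.mul_apply]
    exact hinv _ (ih x hx)

theorem aut_symm_mem (β : MulAut G) (m : ℕ) (hm : β ^ m = 1) (hpos : 0 < m) (C : Subgroup G)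
    (hinv : ∀ x ∈ C, β x ∈ C) : ∀ x ∈ C, β.symm x ∈ C := by
  intro x hx
  have h1 : β.symm x = (β ^ (m - 1)) x := by
    apply β.injective
    rw [MulEquiv.apply_symm_apply, ← MulAut.mul_apply, ← pow_succ', Nat.sub_add_cancel hpos, hm,
      MulAut.one_apply]
  rw [h1]
  exact aut_pow_mem β C hinv _ x hx

/-- an automorphism of odd order fixes an invariant cyclic `2`-subgroup pointwise -/
theorem aut_fix_cyclic [Finite G] (β : MulAut G) (m : ℕ) (hm : β ^ m = 1) (hodd : m.Coprime 2)
    (C : Subgroup G) [hCc : IsCyclic ↥C] (k : ℕ) (hC : Nat.card ↥C = 2 ^ k)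
    (hinv : ∀ x ∈ C, β x ∈ C) : ∀ x ∈ C, β x = x := by
  have hpos : 0 < m := by
    rcases Nat.eq_zero_or_pos m with h | h
    · rw [h] at hodd; simp at hodd
    · exact h
  set a : MulAut ↥C := restrictAut β C hinv (aut_symm_mem β m hm hpos C hinv) with ha
  have h1 : orderOf a ∣ m := by
    apply orderOf_dvd_of_pow_eq_one
    ext x
    rw [restrictAut_pow_apply, hm]
    rfl
  have h2 : orderOf a ∣ 2 ^ k := by
    have h3 : orderOf a ∣ Nat.card (MulAut ↥C) := orderOf_dvd_natCard a
    rw [IsCyclic.card_mulAut, hC] at h3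
    rcases Nat.eq_zero_or_pos k with h0 | h0
    · rw [h0, pow_zero, Nat.totient_one] at h3
      rw [Nat.dvd_one.mp h3]; exact one_dvd _
    · rw [Nat.totient_prime_pow Nat.prime_two h0] at h3
      have : (2 : ℕ) ^ (k - 1) * (2 - 1) ∣ 2 ^ k := by
        rw [(by norm_num : (2 : ℕ) - 1 = 1), mul_one]
        exact Nat.pow_dvd_pow 2 (by omega)
      exact h3.trans this
  have h4 : orderOf a = 1 := by
    have hc : (orderOf a).Coprime (2 ^ k) :=
      Nat.Coprime.pow_right k (Nat.Coprime.coprime_dvd_left h1 hodd)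
    exact Nat.Coprime.eq_one_of_dvd hc h2
  have h5 : a = 1 := orderOf_eq_one_iff.mp h4
  intro x hx
  have h6 : a ⟨x, hx⟩ = ⟨x, hx⟩ := by rw [h5]; rfl
  have := congrArg Subtype.val h6
  simpa [ha] using this

/-- an automorphism of odd order of an abelian `2`-subgroup fixing its involutions is trivial
on it -/
theorem aut_fix_of_omega (β : MulAut G) (m : ℕ) (hm : β ^ m = 1) (hodd : m.Coprime 2)
    (U : Subgroup G) (hU : ∀ a ∈ U, ∀ b ∈ U, a * b = b * a) (hU2 : IsPGroup 2 ↥U)
    (hinv : ∀ u ∈ U, β u ∈ U)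
    (hΩ : ∀ u ∈ U, u * u = 1 → β u = u) : ∀ u ∈ U, β u = u := by
  have key : ∀ k : ℕ, ∀ u ∈ U, u ^ 2 ^ k = 1 → β u = u := by
    intro k
    induction k with
    | zero =>
      intro u _ h
      rw [pow_zero, pow_one] at h
      rw [h, map_one]
    | succ k ih =>
      intro u hu h
      have h2 : (u * u) ^ 2 ^ k = 1 := by
        rw [← pow_two, ← pow_mul, ← pow_succ']; exact h
      have h3 := ih (u * u) (U.mul_mem hu hu) h2
      set c : G := u⁻¹ * β u with hc
      have hcU : c ∈ U := U.mul_mem (U.inv_mem hu) (hinv u hu)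
      have hcc : c * c = 1 := by
        have e1 : u⁻¹ * β u = β u * u⁻¹ := hU _ (U.inv_mem hu) _ (hinv u hu)
        calc c * c = u⁻¹ * β u * (β u * u⁻¹) := by rw [hc, ← e1]
          _ = u⁻¹ * (β u * β u) * u⁻¹ := by group
          _ = u⁻¹ * (u * u) * u⁻¹ := by rw [← map_mul, h3]
          _ = 1 := by group
      have hfix := hΩ c hcU hcc
      have hx : β u = u * c := by rw [hc]; group
      have hcp : ∃ k : ℕ, c ^ 2 ^ k = 1 := ⟨1, by rw [pow_one, pow_two]; exact hcc⟩
      have := eq_one_of_aut_pow β m hm hodd u c hx hfix hcp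
      rw [hx, this, mul_one]
  intro u hu
  obtain ⟨k, hk⟩ := hU2 ⟨u, hu⟩
  apply key k u hu
  have := congrArg Subtype.val hk
  simpa using this

/-- an automorphism of odd order fixing a `2`-subgroup `H₀` pointwise and leaving invariant an
overgroup `H₁` in which `H₀` has index two fixes `H₁` pointwise -/
theorem aut_fix_step (β : MulAut G) (m : ℕ) (hm : β ^ m = 1) (hodd : m.Coprime 2)
    (H₀ H₁ : Subgroup G) (hidx : H₀.relIndex H₁ = 2) (hp : IsPGroup 2 ↥H₀)
    (h0 : ∀ x ∈ H₀, β x = x) (h1 : ∀ x ∈ H₁, β x ∈ H₁) : ∀ x ∈ H₁, β x = x := by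
  intro x hx
  by_cases hx0 : x ∈ H₀
  · exact h0 x hx0
  · have hy0 : β x ∉ H₀ := by
      intro hy
      have h2 := h0 _ hy
      have h3 : β x = x := β.injective h2
      rw [h3] at hy
      exact hx0 hy
    have hxi : x⁻¹ ∉ H₀ := fun h => hx0 (by simpa using H₀.inv_mem h)
    have hc := mul_mem_of_relIndex_two H₀ H₁ hidx x⁻¹ (β x) (H₁.inv_mem hx) (h1 x hx) hxi hy0
    have h5 : β x = x * (x⁻¹ * β x) := by group
    obtain ⟨k, hk⟩ := hp ⟨_, hc⟩
    have hk' : (x⁻¹ * β x) ^ 2 ^ k = 1 := by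
      have := congrArg Subtype.val hk
      simpa using this
    have := eq_one_of_aut_pow β m hm hodd x _ h5 (h0 _ hc) ⟨k, hk'⟩
    rw [h5, this, mul_one]

/-- an automorphism of odd order permuting a pair fixes it pointwise -/
theorem aut_fix_pair (β : MulAut G) (m : ℕ) (hm : β ^ m = 1) (hodd : m.Coprime 2) (a b : G)
    (ha : β a = a ∨ β a = b) (hb : β b = a ∨ β b = b) : β a = a := by
  rcases ha with h | h
  · exact h
  · have hb' : β b = a := by
      rcases hb with h' | h'
      · exact h'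
      · have hab : a = b := β.injective (h.trans h'.symm)
        rw [hab]; exact h'
    -- `β` swaps `a` and `b`
    have hk : ∀ k : ℕ, (β ^ (2 * k)) a = a := by
      intro k
      induction k with
      | zero => simp
      | succ k ih =>
        have : 2 * (k + 1) = 2 * k + 1 + 1 := by ring
        rw [this, pow_succ', pow_succ', MulAut.mul_apply, MulAut.mul_apply, ih, h, hb']
    obtain ⟨k, hk2⟩ : ∃ k, m = 2 * k + 1 := by
      have : ¬ 2 ∣ m := by
        intro h2
        have := Nat.Coprime.eq_one_of_dvd (Nat.coprime_comm.mp hodd) h2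
        norm_num at this
      exact ⟨m / 2, by omega⟩
    have h3 : (β ^ m) a = b := by
      rw [hk2, pow_succ', MulAut.mul_apply, hk, h]
    rw [hm, MulAut.one_apply] at h3
    rw [h, h3]

/-- variant of `aut_fix_step` with an explicit "index two" hypothesis -/
theorem aut_fix_step' (β : MulAut G) (m : ℕ) (hm : β ^ m = 1) (hodd : m.Coprime 2)
    (H₀ : Subgroup G) (hidx : ∀ x y : G, x ∉ H₀ → y ∉ H₀ → x⁻¹ * y ∈ H₀) (hp : IsPGroup 2 ↥H₀)
    (h0 : ∀ x ∈ H₀, β x = x) : ∀ x, β x = x := by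
  intro x
  by_cases hx0 : x ∈ H₀
  · exact h0 x hx0
  · have hy0 : β x ∉ H₀ := by
      intro hy
      have h2 := h0 _ hy
      have h3 : β x = x := β.injective h2
      rw [h3] at hy
      exact hx0 hy
    have hc := hidx x (β x) hx0 hy0
    have h5 : β x = x * (x⁻¹ * β x) := by group
    obtain ⟨k, hk⟩ := hp ⟨_, hc⟩
    have hk' : (x⁻¹ * β x) ^ 2 ^ k = 1 := by
      have := congrArg Subtype.val hk
      simpa using this
    have := eq_one_of_aut_pow β m hm hodd x _ h5 (h0 _ hc) ⟨k, hk'⟩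
    rw [h5, this, mul_one]

end

end Cfsg.Agent.Lib.Helper3
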