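import Mathlib
import Cfsg.Agent.Lib.Helper3.WrAut1

set_option autoImplicit false

namespace Cfsg.Agent.Lib.Helper3
open Cfsg.Agent.Lib.Lead

namespace WrData
variable {S : Type*} [Group S] [Finite S] (d : WrData S) (X : Subgroup S)

omit [Finite S] in
include d in
theorem isPGroup_two : IsPGroup 2 S := IsPGroup.of_card d.card

omit [Finite S] in
/-- involutions (or `1`) of `U` -/
theorem c_sq_eq_one_cases (i j : ZMod (2 ^ d.n)) (h : d.c i j * d.c i j = 1) :
    (i = 0 ∨ i = z2half d.n) ∧ (j = 0 ∨ j = z2half d.n) := by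
  rw [d.c_sq, d.c_eq_one_iff] at h
  exact ⟨(z2_two_mul_eq_zero d.n d.n_pos i).mp h.1, (z2_two_mul_eq_zero d.n d.n_pos j).mp h.2⟩

omit [Finite S] in
/-- final step: an odd-order automorphism of `X ∌ ⊆ U` which preserves `X ∩ U` and fixes the
central involution is trivial -/
theorem aut_fin (i₀ j₀ : ZMod (2 ^ d.n)) (hw : d.e i₀ j₀ ∈ X)
    (β : MulAut ↥X) (m : ℕ) (hm : β ^ m = 1) (hodd : m.Coprime 2)
    (hAinv : ∀ x : ↥X, (x : S) ∈ d.U → ((β x : ↥X) : S) ∈ d.U)
    (hz : ∀ x : ↥X, (x : S) = d.c (z2half d.n) (z2half d.n) → β x = x) : ∀ x, β x = x := by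
  set A : Subgroup ↥X := d.U.subgroupOf X with hA
  have hS2 : IsPGroup 2 ↥X := d.isPGroup_two.to_subgroup X
  have hA2 : IsPGroup 2 ↥A := hS2.to_subgroup A
  have hAab : ∀ a ∈ A, ∀ b ∈ A, a * b = b * a := by
    intro a ha b hb
    obtain ⟨i, j, hij⟩ := (d.mem_U_iff _).mp (Subgroup.mem_subgroupOf.mp ha)
    obtain ⟨k, l, hkl⟩ := (d.mem_U_iff _).mp (Subgroup.mem_subgroupOf.mp hb)
    apply Subtype.ext
    rw [Subgroup.coe_mul, Subgroup.coe_mul, hij, hkl, d.c_comm_c]
  have hAinv' : ∀ u ∈ A, β u ∈ A := fun u hu =>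
    Subgroup.mem_subgroupOf.mpr (hAinv u (Subgroup.mem_subgroupOf.mp hu))
  have hh := d.half_ne_zero
  -- the possible values of `β` on a non-central involution of `U`
  have hpair : ∀ v : ↥X, ((v : S) = d.c (z2half d.n) 0 ∨ (v : S) = d.c 0 (z2half d.n)) →
      ((β v : ↥X) : S) = d.c (z2half d.n) 0 ∨ ((β v : ↥X) : S) = d.c 0 (z2half d.n) := by
    intro v hv
    have hvU : (v : S) ∈ d.U := by
      rcases hv with h | h <;> rw [h] <;> exact d.c_mem_U _ _
    have hvv : v * v = 1 := by
      apply Subtype.ext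
      rw [Subgroup.coe_mul]
      rcases hv with h | h <;> rw [h, d.c_sq, Subgroup.coe_one, d.c_eq_one_iff] <;>
        simp [d.two_half]
    obtain ⟨i, j, hij⟩ := (d.mem_U_iff _).mp (hAinv v hvU)
    have hbb : ((β v : ↥X) : S) * ((β v : ↥X) : S) = 1 := by
      rw [← Subgroup.coe_mul, ← map_mul, hvv, map_one, Subgroup.coe_one]
    rw [hij] at hbb
    obtain ⟨hi, hj⟩ := d.c_sq_eq_one_cases i j hbb
    have hne1 : β v ≠ 1 := by
      intro h1
      have : v = 1 := β.injective (by rw [h1, map_one])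
      have h2 : (v : S) = 1 := by rw [this, Subgroup.coe_one]
      rcases hv with h | h
      · rw [h, d.c_eq_one_iff] at h2; exact hh h2.1
      · rw [h, d.c_eq_one_iff] at h2; exact hh h2.2
    have hnez : ((β v : ↥X) : S) ≠ d.c (z2half d.n) (z2half d.n) := by
      intro h1
      have h2 := hz (β v) h1
      have h3 : β v = v := β.injective h2
      rw [h3] at h1
      rcases hv with h | h
      · rw [h, d.c_inj] at h1; exact hh h1.2.symm
      · rw [h, d.c_inj] at h1; exact hh h1.1.symm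
    rw [hij] at hnez ⊢
    rcases hi with rfl | rfl <;> rcases hj with rfl | rfl
    · exfalso; apply hne1; apply Subtype.ext; rw [hij, d.c_zero, Subgroup.coe_one]
    · right; rfl
    · left; rfl
    · exact absurd rfl hnez
  have hΩ : ∀ u ∈ A, u * u = 1 → β u = u := by
    intro u hu huu
    obtain ⟨i, j, hij⟩ := (d.mem_U_iff _).mp (Subgroup.mem_subgroupOf.mp hu)
    have huu' : d.c i j * d.c i j = 1 := by
      rw [← hij, ← Subgroup.coe_mul, huu, Subgroup.coe_one]
    obtain ⟨hi, hj⟩ := d.c_sq_eq_one_cases i j huu'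
    -- the partner
    have hpartner : ∀ (v : ↥X), ((v : S) = d.c (z2half d.n) 0 ∨ (v : S) = d.c 0 (z2half d.n)) →
        β v = v := by
      intro v hv
      -- the swapped element
      have hsw : d.e i₀ j₀ * (v : S) * (d.e i₀ j₀)⁻¹ ∈ X :=
        X.mul_mem (X.mul_mem hw v.2) (X.inv_mem hw)
      set v' : ↥X := ⟨_, hsw⟩ with hv'
      have hv'c : ((v : S) = d.c (z2half d.n) 0 ∧ (v' : S) = d.c 0 (z2half d.n)) ∨
          ((v : S) = d.c 0 (z2half d.n) ∧ (v' : S) = d.c (z2half d.n) 0) := by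
        rcases hv with h | h
        · left; refine ⟨h, ?_⟩
          show d.e i₀ j₀ * (v : S) * (d.e i₀ j₀)⁻¹ = _
          rw [h, d.e_conj_c]
        · right; refine ⟨h, ?_⟩
          show d.e i₀ j₀ * (v : S) * (d.e i₀ j₀)⁻¹ = _
          rw [h, d.e_conj_c]
      have h1 := hpair v hv
      have h2 := hpair v' (by rcases hv'c with ⟨_, h⟩ | ⟨_, h⟩; exact Or.inr h; exact Or.inl h)
      apply aut_fix_pair β m hm hodd v v'
      · rcases hv'c with ⟨ha, hb⟩ | ⟨ha, hb⟩
        · rcases h1 with h | h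
          · left; exact Subtype.ext (h.trans ha.symm)
          · right; exact Subtype.ext (h.trans hb.symm)
        · rcases h1 with h | h
          · right; exact Subtype.ext (h.trans hb.symm)
          · left; exact Subtype.ext (h.trans ha.symm)
      · rcases hv'c with ⟨ha, hb⟩ | ⟨ha, hb⟩
        · rcases h2 with h | h
          · left; exact Subtype.ext (h.trans ha.symm)
          · right; exact Subtype.ext (h.trans hb.symm)
        · rcases h2 with h | h
          · right; exact Subtype.ext (h.trans hb.symm)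
          · left; exact Subtype.ext (h.trans ha.symm)
    rcases hi with rfl | rfl <;> rcases hj with rfl | rfl
    · have : u = 1 := by apply Subtype.ext; rw [hij, d.c_zero, Subgroup.coe_one]
      rw [this, map_one]
    · exact hpartner u (Or.inr hij)
    · exact hpartner u (Or.inl hij)
    · exact hz u hij
  have hAfix := aut_fix_of_omega β m hm hodd A hAab hA2 hAinv' hΩ
  apply aut_fix_step' β m hm hodd A ?_ hA2 hAfix
  intro x y hx hy
  rw [hA, Subgroup.mem_subgroupOf] at hx hy ⊢
  rcases d.cases (x : S) with ⟨i, j, hij⟩ | ⟨i, j, hij⟩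
  · exact absurd (hij ▸ d.c_mem_U i j) hx
  rcases d.cases (y : S) with ⟨k, l, hkl⟩ | ⟨k, l, hkl⟩
  · exact absurd (hkl ▸ d.c_mem_U k l) hy
  rw [Subgroup.coe_mul, Subgroup.coe_inv, hij, hkl, d.e_inv, d.e_mul_e]
  exact d.c_mem_U _ _

end WrData

end Cfsg.Agent.Lib.Helper3
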