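import Mathlib
import Cfsg.Agent.Lib.Helper3.WrAut2

set_option autoImplicit false

namespace Cfsg.Agent.Lib.Helper3
open Cfsg.Agent.Lib.Lead
open scoped commutatorElement

/-- a nonzero element of `ZMod (2 ^ n)` has `2 ^ (n - 1)` among its multiples -/
theorem z2_exists_mul_eq_half (n : ℕ) (hn : 1 ≤ n) (m₀ : ZMod (2 ^ n)) (hm₀ : m₀ ≠ 0) :
    ∃ k : ℕ, (k : ZMod (2 ^ n)) * m₀ = z2half n := by
  classical
  have hP : ∃ j : ℕ, ((2 ^ j : ℕ) : ZMod (2 ^ n)) * m₀ = 0 := by
    refine ⟨n, ?_⟩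
    rw [ZMod.natCast_self, zero_mul]
  set j₀ := Nat.find hP with hj₀
  have h1 := Nat.find_spec hP
  rcases Nat.eq_zero_or_pos j₀ with h0 | h0
  · exfalso
    rw [← hj₀, h0, pow_zero, Nat.cast_one, one_mul] at h1
    exact hm₀ h1
  · have h2 : ¬ ((2 ^ (j₀ - 1) : ℕ) : ZMod (2 ^ n)) * m₀ = 0 := Nat.find_min hP (by omega)
    have h3 : 2 * (((2 ^ (j₀ - 1) : ℕ) : ZMod (2 ^ n)) * m₀) = 0 := by
      rw [← hj₀] at h1
      have : (2 ^ j₀ : ℕ) = 2 * 2 ^ (j₀ - 1) := by
        rw [← pow_succ']; congr 1; omega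
      rw [this, Nat.cast_mul, Nat.cast_two, mul_assoc] at h1
      exact h1
    rcases (z2_two_mul_eq_zero n hn _).mp h3 with h | h
    · exact absurd h h2
    · exact ⟨2 ^ (j₀ - 1), h⟩

namespace WrData
variable {S : Type*} [Group S] [Finite S] (d : WrData S) (X : Subgroup S)

omit [Finite S] in
theorem c_pow (i j : ZMod (2 ^ d.n)) (k : ℕ) :
    d.c i j ^ k = d.c ((k : ZMod (2 ^ d.n)) * i) ((k : ZMod (2 ^ d.n)) * j) := by
  induction k with
  | zero => rw [pow_zero, Nat.cast_zero, zero_mul, zero_mul, d.c_zero]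
  | succ k ih =>
    rw [pow_succ, ih, c_mul_c, Nat.cast_succ]
    congr 1 <;> ring

/-- case (c): `X` contains some `c i₁ j₁` with `2 (i₁ - j₁) ≠ 0` -/
theorem aut_case_c (i₀ j₀ : ZMod (2 ^ d.n)) (hw : d.e i₀ j₀ ∈ X)
    (i₁ j₁ : ZMod (2 ^ d.n)) (hu : d.c i₁ j₁ ∈ X) (hne : 2 * (i₁ - j₁) ≠ 0)
    (β : MulAut ↥X) (m : ℕ) (hm : β ^ m = 1) (hodd : m.Coprime 2) : ∀ x, β x = x := by
  have hS2 : IsPGroup 2 ↥X := d.isPGroup_two.to_subgroup X
  set m₀ : ZMod (2 ^ d.n) := i₁ - j₁ with hm₀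
  have hm₀ne : m₀ ≠ 0 := by
    intro h; apply hne; rw [h, mul_zero]
  set a : ↥X := ⁅(⟨d.c i₁ j₁, hu⟩ : ↥X), (⟨d.e i₀ j₀, hw⟩ : ↥X)⁆ with ha
  have haS : (a : S) = d.c m₀ (-m₀) := by
    rw [ha, commutatorElement_def]
    simp only [Subgroup.coe_mul, Subgroup.coe_inv]
    rw [d.c_conj_e, d.e_inv, d.e_mul_e]
    congr 1 <;> ring
  -- the commutator subgroup of `X` is cyclic and `β`-invariant
  set Cx : Subgroup ↥X := commutator ↥X with hCx
  have haC : a ∈ Cx := by
    rw [hCx, commutator_def]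
    exact Subgroup.commutator_mem_commutator (Subgroup.mem_top _) (Subgroup.mem_top _)
  have hCinv : ∀ x ∈ Cx, β x ∈ Cx := by
    intro x hx
    have hchar : (commutator ↥X).Characteristic := inferInstance
    have := Subgroup.characteristic_iff_map_eq.mp hchar β
    rw [hCx, ← this]
    exact ⟨x, hx, rfl⟩
  have hCS : ∀ x ∈ Cx, ((x : ↥X) : S) ∈ commutator S := by
    intro x hx
    have h1 : ((x : ↥X) : S) ∈ (commutator ↥X).map X.subtype := ⟨x, hx, rfl⟩
    rw [Subgroup.map_subtype_commutator] at h1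
    rw [commutator_def]
    exact Subgroup.commutator_mono le_top le_top h1
  have hcycS : IsCyclic ↥(commutator S) := d.isCyclic_commutator
  have hcyc : IsCyclic ↥Cx := by
    let φ : ↥Cx →* ↥(commutator S) :=
      { toFun := fun x => ⟨((x : ↥X) : S), hCS x x.2⟩
        map_one' := rfl
        map_mul' := fun x y => rfl }
    apply isCyclic_of_injective φ
    intro x y hxy
    have := congrArg Subtype.val hxy
    exact Subtype.ext (Subtype.ext this)
  obtain ⟨k, hk⟩ := IsPGroup.iff_card.mp (hS2.to_subgroup Cx)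
  have hCfix := aut_fix_cyclic β m hm hodd Cx k hk hCinv
  have hafix : β a = a := hCfix a haC
  apply d.aut_fin X i₀ j₀ hw β m hm hodd
  · -- `X ∩ U` is the centralizer of `a`
    intro x hx
    obtain ⟨i, j, hij⟩ := (d.mem_U_iff _).mp hx
    have hcomm : x * a = a * x := by
      apply Subtype.ext
      rw [Subgroup.coe_mul, Subgroup.coe_mul, hij, haS, d.c_comm_c]
    have h2 : β x * a = a * β x := by
      have := congrArg β hcomm
      rwa [map_mul, map_mul, hafix] at this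
    have h3 := congrArg Subtype.val h2
    rw [Subgroup.coe_mul, Subgroup.coe_mul, haS] at h3
    rcases d.cases ((β x : ↥X) : S) with ⟨i', j', h'⟩ | ⟨i', j', h'⟩
    · rw [h']; exact d.c_mem_U _ _
    · exfalso
      rw [h'] at h3
      have h4 := (d.c_comm_e_iff m₀ (-m₀) i' j').mp h3.symm
      apply hne
      linear_combination h4
  · -- the central involution is a power of `a`
    intro x hx
    obtain ⟨k', hk'⟩ := z2_exists_mul_eq_half d.n d.n_pos m₀ hm₀ne
    have hxa : x = a ^ k' := by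
      apply Subtype.ext
      rw [Subgroup.coe_pow, haS, hx, d.c_pow, hk', mul_neg, hk', d.neg_half]
    rw [hxa, map_pow, hafix]

end WrData

end Cfsg.Agent.Lib.Helper3
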