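import Mathlib
import Cfsg.Agent.Lib.Helper3.WrAut3

set_option autoImplicit false

namespace Cfsg.Agent.Lib.Helper3
open Cfsg.Agent.Lib.Lead
open scoped commutatorElement

namespace WrData
variable {S : Type*} [Group S] [Finite S] (d : WrData S) (X : Subgroup S)

omit [Finite S] in
/-- if all squares of `X` are central, an automorphism of `X` fixes the central involution -/
theorem aut_fix_chh_of_sq (hZ : Subgroup.center S ≤ X)
    (hsq : ∀ y : ↥X, ∃ l, ((y : S) * (y : S)) = d.c l l) (β : MulAut ↥X)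
    (x : ↥X) (hx : (x : S) = d.c (z2half d.n) (z2half d.n)) : β x = x := by
  have hq := z2_two_mul_quarter d.n d.hn
  have hqX : d.c (z2quarter d.n) (z2quarter d.n) ∈ X := hZ ((d.mem_center_iff _).mpr ⟨_, rfl⟩)
  set y : ↥X := ⟨_, hqX⟩ with hy
  have hxy : x = y * y := by
    apply Subtype.ext
    rw [Subgroup.coe_mul, hx, hy]
    show _ = d.c (z2quarter d.n) (z2quarter d.n) * d.c (z2quarter d.n) (z2quarter d.n)
    rw [d.c_sq, hq]
  obtain ⟨l, hl⟩ := hsq (β y)
  have hβx : ((β x : ↥X) : S) = d.c l l := by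
    rw [hxy, map_mul, Subgroup.coe_mul, hl]
  have hxx : x * x = 1 := by
    apply Subtype.ext
    rw [Subgroup.coe_mul, hx, d.c_sq, d.two_half, d.c_zero, Subgroup.coe_one]
  have h1 : d.c l l * d.c l l = 1 := by
    rw [← hβx, ← Subgroup.coe_mul, ← map_mul, hxx, map_one, Subgroup.coe_one]
  obtain ⟨hl1, -⟩ := d.c_sq_eq_one_cases l l h1
  rcases hl1 with rfl | rfl
  · exfalso
    have h2 : β x = 1 := by apply Subtype.ext; rw [hβx, d.c_zero, Subgroup.coe_one]
    have h3 : x = 1 := β.injective (by rw [h2, map_one])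
    rw [h3, Subgroup.coe_one] at hx
    exact d.half_ne_zero ((d.c_eq_one_iff _ _).mp hx.symm).1
  · apply Subtype.ext; rw [hβx, hx]

omit [Finite S] in
/-- case (b-odd) -/
theorem aut_case_b (hZ : Subgroup.center S ≤ X) (i₀ j₀ : ZMod (2 ^ d.n)) (hw : d.e i₀ j₀ ∈ X)
    (hcX : ∀ i j, d.c i j ∈ X → 2 * (i - j) = 0) (hch0 : d.c (z2half d.n) 0 ∈ X)
    (heX : ∀ i j, d.e i j ∈ X → ∃ k, i - j = 2 * k + 1)
    (β : MulAut ↥X) (m : ℕ) (hm : β ^ m = 1) (hodd : m.Coprime 2) : ∀ x, β x = x := by
  have hh := d.half_ne_zero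
  have hsq : ∀ y : ↥X, ∃ l, ((y : S) * (y : S)) = d.c l l := by
    intro y
    rcases d.cases (y : S) with ⟨i, j, hij⟩ | ⟨i, j, hij⟩
    · have h1 := hcX i j (hij ▸ y.2)
      refine ⟨2 * i, ?_⟩
      rw [hij, d.c_sq]
      congr 1
      linear_combination (-1 : ZMod (2 ^ d.n)) * h1
    · exact ⟨i + j, by rw [hij, d.e_sq]⟩
  have hz := d.aut_fix_chh_of_sq X hZ hsq β
  -- no involutions outside `U`
  have hnoe : ∀ i j, d.e i j ∈ X → d.e i j * d.e i j ≠ 1 := by
    intro i j hij h1
    rw [d.e_sq, d.c_eq_one_iff] at h1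
    obtain ⟨k, hk⟩ := heX i j hij
    have : 2 * i = 2 * k + 1 := by linear_combination hk + h1.1
    exact z2_even_ne_odd d.n d.n_pos i k this
  have hc0h : d.c 0 (z2half d.n) ∈ X := by
    have := X.mul_mem (X.mul_mem hw hch0) (X.inv_mem hw)
    rwa [d.e_conj_c] at this
  have hpair : ∀ v : ↥X, ((v : S) = d.c (z2half d.n) 0 ∨ (v : S) = d.c 0 (z2half d.n)) →
      ((β v : ↥X) : S) = d.c (z2half d.n) 0 ∨ ((β v : ↥X) : S) = d.c 0 (z2half d.n) := by
    intro v hv
    have hvv : v * v = 1 := by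
      apply Subtype.ext
      rw [Subgroup.coe_mul]
      rcases hv with h | h <;> rw [h, d.c_sq, Subgroup.coe_one, d.c_eq_one_iff] <;>
        simp [d.two_half]
    have hbb : ((β v : ↥X) : S) * ((β v : ↥X) : S) = 1 := by
      rw [← Subgroup.coe_mul, ← map_mul, hvv, map_one, Subgroup.coe_one]
    rcases d.cases ((β v : ↥X) : S) with ⟨i, j, hij⟩ | ⟨i, j, hij⟩
    · rw [hij] at hbb
      obtain ⟨hi, hj⟩ := d.c_sq_eq_one_cases i j hbb
      have hne1 : β v ≠ 1 := by
        intro h1
        have : v = 1 := β.injective (by rw [h1, map_one])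
        have h2 : (v : S) = 1 := by rw [this, Subgroup.coe_one]
        rcases hv with h | h
        · rw [h, d.c_eq_one_iff] at h2; exact hh h2.1
        · rw [h, d.c_eq_one_iff] at h2; exact hh h2.2
      have hnez : ((β v : ↥X) : S) ≠ d.c (z2half d.n) (z2half d.n) := by
        intro h1
        have h2 := hz (β v) h1
        have h3 : β v = v := β.injective h2
        rw [h3] at h1
        rcases hv with h | h
        · rw [h, d.c_inj] at h1; exact hh h1.2.symm
        · rw [h, d.c_inj] at h1; exact hh h1.1.symm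
      rw [hij] at hnez ⊢
      rcases hi with rfl | rfl <;> rcases hj with rfl | rfl
      · exfalso; apply hne1; apply Subtype.ext; rw [hij, d.c_zero, Subgroup.coe_one]
      · right; rfl
      · left; rfl
      · exact absurd rfl hnez
    · exfalso
      rw [hij] at hbb
      exact hnoe i j (hij ▸ (β v).2) hbb
  set a : ↥X := ⟨_, hch0⟩ with ha
  set b : ↥X := ⟨_, hc0h⟩ with hb
  have hafix : β a = a := by
    apply aut_fix_pair β m hm hodd a b
    · rcases hpair a (Or.inl rfl) with h | h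
      · left; exact Subtype.ext h
      · right; exact Subtype.ext h
    · rcases hpair b (Or.inr rfl) with h | h
      · left; exact Subtype.ext h
      · right; exact Subtype.ext h
  apply d.aut_fin X i₀ j₀ hw β m hm hodd ?_ hz
  intro x hx
  obtain ⟨i, j, hij⟩ := (d.mem_U_iff _).mp hx
  have hcomm : x * a = a * x := by
    apply Subtype.ext
    rw [Subgroup.coe_mul, Subgroup.coe_mul, hij, ha]
    exact d.c_comm_c _ _ _ _
  have h2 : β x * a = a * β x := by
    have := congrArg β hcomm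
    rwa [map_mul, map_mul, hafix] at this
  have h3 := congrArg Subtype.val h2
  rw [Subgroup.coe_mul, Subgroup.coe_mul] at h3
  rcases d.cases ((β x : ↥X) : S) with ⟨i', j', h'⟩ | ⟨i', j', h'⟩
  · rw [h']; exact d.c_mem_U _ _
  · exfalso
    rw [h'] at h3
    have h4 := (d.c_comm_e_iff (z2half d.n) 0 i' j').mp h3.symm
    exact hh h4

end WrData

end Cfsg.Agent.Lib.Helper3
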