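import Mathlib
import Cfsg.Agent.Lib.Helper3.WrAut4

set_option autoImplicit false

namespace Cfsg.Agent.Lib.Helper3
open Cfsg.Agent.Lib.Lead
open scoped commutatorElement

namespace WrData
variable {S : Type*} [Group S] [Finite S] (d : WrData S) (X : Subgroup S)

omit [Finite S] in
/-- case (a): `X ∩ U` is the centre of `S` -/
theorem aut_case_a (hZ : Subgroup.center S ≤ X)
    (hcX : ∀ i j, d.c i j ∈ X → i = j)
    (β : MulAut ↥X) (m : ℕ) (hm : β ^ m = 1) (hodd : m.Coprime 2) : ∀ x, β x = x := by
  have hh := d.half_ne_zero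
  have hS2 : IsPGroup 2 ↥X := d.isPGroup_two.to_subgroup X
  -- all `e`-type elements of `X` have the same difference of coordinates
  have hdiff : ∀ i j k l, d.e i j ∈ X → d.e k l ∈ X → i - j = k - l := by
    intro i j k l h1 h2
    have h3 := X.mul_mem h1 (X.inv_mem h2)
    rw [d.e_inv, d.e_mul_e] at h3
    have := hcX _ _ h3
    linear_combination this
  have hcomm : ∀ a b : ↥X, a * b = b * a := by
    intro a b
    apply Subtype.ext
    rw [Subgroup.coe_mul, Subgroup.coe_mul]
    rcases d.cases (a : S) with ⟨i, j, hij⟩ | ⟨i, j, hij⟩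
    · have h1 := hcX i j (hij ▸ a.2)
      subst h1
      have hc : (a : S) ∈ Subgroup.center S := by rw [hij, d.mem_center_iff]; exact ⟨i, rfl⟩
      exact (Subgroup.mem_center_iff.mp hc (b : S)).symm
    rcases d.cases (b : S) with ⟨k, l, hkl⟩ | ⟨k, l, hkl⟩
    · have h1 := hcX k l (hkl ▸ b.2)
      subst h1
      have hc : (b : S) ∈ Subgroup.center S := by rw [hkl, d.mem_center_iff]; exact ⟨k, rfl⟩
      exact Subgroup.mem_center_iff.mp hc (a : S)
    · rw [hij, hkl, d.e_comm_e_iff]
      exact hdiff i j k l (hij ▸ a.2) (hkl ▸ b.2)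
  have hsq : ∀ y : ↥X, ∃ l, ((y : S) * (y : S)) = d.c l l := by
    intro y
    rcases d.cases (y : S) with ⟨i, j, hij⟩ | ⟨i, j, hij⟩
    · have h1 := hcX i j (hij ▸ y.2)
      subst h1
      exact ⟨2 * i, by rw [hij, d.c_sq]⟩
    · exact ⟨i + j, by rw [hij, d.e_sq]⟩
  have hz := d.aut_fix_chh_of_sq X hZ hsq β
  -- the involutions outside `U`
  have hinv : ∀ v : ↥X, ∀ i, (v : S) = d.e i (-i) →
      ((β v : ↥X) : S) = d.e i (-i) ∨ ((β v : ↥X) : S) = d.e (i + z2half d.n) (-(i + z2half d.n)) := by
    intro v i hv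
    have hvv : v * v = 1 := by
      apply Subtype.ext
      rw [Subgroup.coe_mul, hv, d.e_sq, add_neg_cancel, d.c_zero, Subgroup.coe_one]
    have hbb : ((β v : ↥X) : S) * ((β v : ↥X) : S) = 1 := by
      rw [← Subgroup.coe_mul, ← map_mul, hvv, map_one, Subgroup.coe_one]
    rcases d.cases ((β v : ↥X) : S) with ⟨k, l, hkl⟩ | ⟨k, l, hkl⟩
    · exfalso
      have h1 := hcX k l (hkl ▸ (β v).2)
      subst h1
      rw [hkl] at hbb
      obtain ⟨hk1, -⟩ := d.c_sq_eq_one_cases k k hbb
      rcases hk1 with rfl | rfl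
      · have h2 : β v = 1 := by apply Subtype.ext; rw [hkl, d.c_zero, Subgroup.coe_one]
        have h3 : v = 1 := β.injective (by rw [h2, map_one])
        rw [h3, Subgroup.coe_one, ← d.c_zero] at hv
        exact d.c_ne_e _ _ _ _ hv
      · have h2 := hz (β v) hkl
        have h3 : β v = v := β.injective h2
        rw [h3, hv] at hkl
        exact d.c_ne_e _ _ _ _ hkl.symm
    · rw [hkl] at hbb ⊢
      rw [d.e_sq, d.c_eq_one_iff] at hbb
      have hl : l = -k := by linear_combination hbb.1
      subst hl
      have h1 := hdiff k (-k) i (-i) (hkl ▸ (β v).2) (hv ▸ v.2)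
      have h2 : 2 * (k - i) = 0 := by linear_combination h1
      rcases (z2_two_mul_eq_zero d.n d.n_pos _).mp h2 with h | h
      · left
        have : k = i := by linear_combination h
        rw [this]
      · right
        have : k = i + z2half d.n := by linear_combination h
        rw [this]
  have hΩ : ∀ u ∈ (⊤ : Subgroup ↥X), u * u = 1 → β u = u := by
    intro u _ huu
    have huu' : (u : S) * (u : S) = 1 := by rw [← Subgroup.coe_mul, huu, Subgroup.coe_one]
    rcases d.cases (u : S) with ⟨i, j, hij⟩ | ⟨i, j, hij⟩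
    · have h1 := hcX i j (hij ▸ u.2)
      subst h1
      rw [hij] at huu'
      obtain ⟨hi1, -⟩ := d.c_sq_eq_one_cases i i huu'
      rcases hi1 with rfl | rfl
      · have : u = 1 := by apply Subtype.ext; rw [hij, d.c_zero, Subgroup.coe_one]
        rw [this, map_one]
      · exact hz u hij
    · rw [hij, d.e_sq, d.c_eq_one_iff] at huu'
      have hj : j = -i := by linear_combination huu'.1
      subst hj
      -- the partner involution
      have hpX : d.e (i + z2half d.n) (-(i + z2half d.n)) ∈ X := by
        have h1 : d.c (z2half d.n) (z2half d.n) ∈ X := hZ ((d.mem_center_iff _).mpr ⟨_, rfl⟩)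
        have h2 := X.mul_mem h1 (hij ▸ u.2)
        rw [d.c_mul_e] at h2
        have e1 : z2half d.n + i = i + z2half d.n := add_comm _ _
        have e2 : z2half d.n + -i = -(i + z2half d.n) := by
          rw [neg_add, d.neg_half, add_comm]
        rwa [e1, e2] at h2
      set u' : ↥X := ⟨_, hpX⟩ with hu'
      have hi2 : i + z2half d.n + z2half d.n = i := by
        rw [add_assoc, z2_half_add_half d.n d.n_pos, add_zero]
      apply aut_fix_pair β m hm hodd u u'
      · rcases hinv u i hij with h | h
        · left; exact Subtype.ext (h.trans hij.symm)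
        · right; exact Subtype.ext h
      · rcases hinv u' (i + z2half d.n) rfl with h | h
        · right; exact Subtype.ext h
        · left
          apply Subtype.ext
          rw [h, hij, hi2]
  have hfix := aut_fix_of_omega β m hm hodd ⊤ (fun a _ b _ => hcomm a b)
    (hS2.to_subgroup ⊤) (fun u _ => Subgroup.mem_top _) hΩ
  exact fun x => hfix x (Subgroup.mem_top _)

end WrData

end Cfsg.Agent.Lib.Helper3
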