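import Mathlib
import Cfsg.Agent.Lib.Helper3.WrAut5

set_option autoImplicit false

namespace Cfsg.Agent.Lib.Helper3
open Cfsg.Agent.Lib.Lead
open scoped commutatorElement

namespace WrData
variable {S : Type*} [Group S] [Finite S] (d : WrData S) (X : Subgroup S)

/-- the self-centralizing subgroups of `S` with an automorphism of odd order -/
theorem selfcent_cases (hC : Subgroup.centralizer (X : Set S) ≤ X)
    (hA : ¬ IsPGroup 2 (MulAut ↥X)) : X = d.U ∨ ∃ κ', X = d.Vk (2 * κ') := by
  have hZ : Subgroup.center S ≤ X := (Subgroup.center_le_centralizer _).trans hC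
  have hq := z2_two_mul_quarter d.n d.hn
  by_cases hXU : X ≤ d.U
  · left
    apply le_antisymm hXU
    intro u hu
    apply hC
    rw [Subgroup.mem_centralizer_iff]
    intro x hx
    obtain ⟨i, j, rfl⟩ := (d.mem_U_iff _).mp hu
    obtain ⟨k, l, rfl⟩ := (d.mem_U_iff _).mp (hXU hx)
    exact d.c_comm_c _ _ _ _
  · right
    obtain ⟨w, hwX, hwU⟩ := SetLike.not_le_iff_exists.mp hXU
    rcases d.cases w with ⟨i₀, j₀, rfl⟩ | ⟨i₀, j₀, rfl⟩
    · exact absurd (d.c_mem_U _ _) hwU
    have hbad : (∀ (β : MulAut ↥X) (m : ℕ), m.Coprime 2 → β ^ m = 1 → ∀ x, β x = x) → False := by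
      intro h
      apply hA
      apply isPGroup_two_of_odd_trivial
      intro β m hodd hm
      ext x
      rw [h β m hodd hm x]
      rfl
    by_cases hc : ∃ i j, d.c i j ∈ X ∧ 2 * (i - j) ≠ 0
    · exfalso
      obtain ⟨i₁, j₁, hu, hne⟩ := hc
      exact hbad (fun β m hodd hm => d.aut_case_c X i₀ j₀ hwX i₁ j₁ hu hne β m hm hodd)
    · push Not at hc
      by_cases hb : d.c (z2half d.n) 0 ∈ X
      · have hcX : ∀ i j, d.c i j ∈ X ↔ 2 * (i - j) = 0 := by
          intro i j
          refine ⟨hc i j, ?_⟩
          intro h
          have hjj : d.c j j ∈ X := hZ ((d.mem_center_iff _).mpr ⟨j, rfl⟩)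
          rcases (z2_two_mul_eq_zero d.n d.n_pos _).mp h with h | h
          · have : i = j := by linear_combination h
            rw [this]; exact hjj
          · have e : d.c i j = d.c j j * d.c (z2half d.n) 0 := by
              rw [d.c_mul_c]; congr 1
              · linear_combination h
              · ring
            rw [e]; exact X.mul_mem hjj hb
        have hX : X = d.Vk (i₀ - j₀) := by
          ext g
          rcases d.cases g with ⟨i, j, rfl⟩ | ⟨i, j, rfl⟩
          · rw [hcX, d.c_mem_Vk']
          · rw [d.e_mem_Vk']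
            have e : d.e i j ∈ X ↔ d.e i j * (d.e i₀ j₀)⁻¹ ∈ X :=
              ⟨fun h => X.mul_mem h (X.inv_mem hwX), fun h => by
                have := X.mul_mem h hwX
                rwa [inv_mul_cancel_right] at this⟩
            rw [e, d.e_inv, d.e_mul_e, hcX]
            constructor
            · intro h; linear_combination h
            · intro h; linear_combination h
        obtain ⟨κ', hκ | hκ⟩ := z2_parity d.n (i₀ - j₀)
        · exact ⟨κ', by rw [hX, hκ]⟩
        · exfalso
          apply hbad
          intro β m hodd hm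
          apply d.aut_case_b X hZ i₀ j₀ hwX hc hb ?_ β m hm hodd
          intro i j hij
          rw [hX, d.e_mem_Vk, hκ] at hij
          rcases hij with h | h
          · exact ⟨κ', h⟩
          · exact ⟨κ' + z2quarter d.n, by rw [h, ← hq]; ring⟩
      · exfalso
        apply hbad
        intro β m hodd hm
        apply d.aut_case_a X hZ ?_ β m hm hodd
        intro i j hij
        rcases (z2_two_mul_eq_zero d.n d.n_pos _).mp (hc i j hij) with h | h
        · linear_combination h
        · exfalso
          apply hb
          have hjj : d.c j j ∈ X := hZ ((d.mem_center_iff _).mpr ⟨j, rfl⟩)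
          have e : d.c (z2half d.n) 0 = (d.c j j)⁻¹ * d.c i j := by
            rw [d.c_inv, d.c_mul_c]; congr 1
            · linear_combination (-1 : ZMod (2 ^ d.n)) * h
            · ring
          rw [e]; exact X.mul_mem (X.inv_mem hjj) hij

end WrData

end Cfsg.Agent.Lib.Helper3
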