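import Mathlib
import Cfsg.Agent.Lib.Helper3.WrAut6

set_option autoImplicit false

namespace Cfsg.Agent.Lib.Helper3
open Cfsg.Agent.Lib.Lead
open scoped commutatorElement

namespace WrData
variable {S : Type*} [Group S] [Finite S] (d : WrData S)

/-- the quaternion subgroup of order `8` inside `Vk (2 κ')` -/
noncomputable def q8Sub (κ' : ZMod (2 ^ d.n)) : Subgroup S := d.Vk (2 * κ') ⊓ d.quatS

omit [Finite S] in
theorem cq_mem_q8Sub (κ' : ZMod (2 ^ d.n)) : d.c (z2quarter d.n) (-z2quarter d.n) ∈ d.q8Sub κ' := by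
  have hq := z2_two_mul_quarter d.n d.hn
  have hh := z2_half_add_half d.n d.n_pos
  unfold q8Sub
  rw [Subgroup.mem_inf, d.c_mem_Vk', d.c_mem_quatS]
  refine ⟨?_, by ring⟩
  linear_combination 2 * hq + hh

omit [Finite S] in
theorem e_mem_q8Sub (κ' : ZMod (2 ^ d.n)) : d.e κ' (z2half d.n - κ') ∈ d.q8Sub κ' := by
  have hh := z2_half_add_half d.n d.n_pos
  unfold q8Sub
  rw [Subgroup.mem_inf, d.e_mem_Vk', d.e_mem_quatS]
  refine ⟨?_, by ring⟩
  linear_combination (-1 : ZMod (2 ^ d.n)) * hh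

omit [Finite S] in
theorem c_mem_q8Sub_iff (κ' i j : ZMod (2 ^ d.n)) :
    d.c i j ∈ d.q8Sub κ' ↔ j = -i ∧ 4 * i = 0 := by
  unfold q8Sub
  rw [Subgroup.mem_inf, d.c_mem_Vk', d.c_mem_quatS]
  constructor
  · rintro ⟨h1, h2⟩
    have hj : j = -i := by linear_combination h2
    refine ⟨hj, ?_⟩
    rw [hj] at h1
    linear_combination h1
  · rintro ⟨rfl, h2⟩
    exact ⟨by linear_combination h2, by ring⟩

omit [Finite S] in
theorem cq_sq : d.c (z2quarter d.n) (-z2quarter d.n) * d.c (z2quarter d.n) (-z2quarter d.n) =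
    d.c (z2half d.n) (z2half d.n) := by
  have hq := z2_two_mul_quarter d.n d.hn
  rw [d.c_sq, mul_neg, hq, d.neg_half]

omit [Finite S] in
theorem orderOf_cq : orderOf (d.c (z2quarter d.n) (-z2quarter d.n)) = 4 := by
  apply orderOf_eq_four_of_sq _ _ d.cq_sq
  · intro h
    exact d.half_ne_zero ((d.c_eq_one_iff _ _).mp h).1
  · rw [d.c_sq, d.two_half, d.c_zero]

omit [Finite S] in
/-- the `c`-type elements of `q8Sub` are powers of `c q (-q)` -/
theorem c_mem_zpowers_cq (i : ZMod (2 ^ d.n)) (hi : 4 * i = 0) :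
    d.c i (-i) ∈ Subgroup.zpowers (d.c (z2quarter d.n) (-z2quarter d.n)) := by
  have hq := z2_two_mul_quarter d.n d.hn
  have hh := z2_half_add_half d.n d.n_pos
  set a := d.c (z2quarter d.n) (-z2quarter d.n) with ha
  rcases d.four_mul_eq_zero (z2quarter d.n) i hq hi with h | h | h | h
  · rw [h, neg_zero, d.c_zero]; exact one_mem _
  · rw [h]; exact Subgroup.mem_zpowers _
  · have : d.c i (-i) = a ^ 2 := by
      rw [pow_two, ha, d.cq_sq, h, d.neg_half]
    rw [this]; exact Subgroup.pow_mem _ (Subgroup.mem_zpowers _) _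
  · have : d.c i (-i) = a ^ 3 := by
      rw [pow_succ, pow_two, ha, d.cq_sq, d.c_mul_c, h]
      congr 1
      · ring
      · rw [neg_add, d.neg_half]; ring
    rw [this]; exact Subgroup.pow_mem _ (Subgroup.mem_zpowers _) _

omit [Finite S] in
theorem card_q8Sub (κ' : ZMod (2 ^ d.n)) : Nat.card ↥(d.q8Sub κ') = 8 := by
  set Q := d.q8Sub κ' with hQ
  set a : ↥Q := ⟨_, d.cq_mem_q8Sub κ'⟩ with ha
  set x : ↥Q := ⟨_, d.e_mem_q8Sub κ'⟩ with hx
  have hcard : Nat.card ↥(Subgroup.zpowers a) = 4 := by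
    rw [Nat.card_zpowers, ha, Subgroup.orderOf_mk, d.orderOf_cq]
  -- membership in `zpowers a` is the same as being of `c`-type
  have hmem : ∀ b : ↥Q, b ∈ Subgroup.zpowers a ↔ (b : S) ∈ d.U := by
    intro b
    constructor
    · rintro ⟨k, rfl⟩
      rw [Subgroup.coe_zpow]
      exact Subgroup.zpow_mem _ (d.c_mem_U _ _) k
    · intro hb
      obtain ⟨i, j, hij⟩ := (d.mem_U_iff _).mp hb
      have hbQ := b.2
      rw [hij, hQ, d.c_mem_q8Sub_iff] at hbQ
      obtain ⟨rfl, h4⟩ := hbQ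
      obtain ⟨k, hk⟩ := d.c_mem_zpowers_cq i h4
      refine ⟨k, ?_⟩
      apply Subtype.ext
      rw [Subgroup.coe_zpow, hij]
      exact hk
  have hidx : (Subgroup.zpowers a).index = 2 := by
    rw [Subgroup.index_eq_two_iff]
    refine ⟨x, ?_⟩
    intro b
    rw [hmem, hmem, Subgroup.coe_mul]
    rcases d.cases (b : S) with ⟨i, j, hij⟩ | ⟨i, j, hij⟩
    · right
      refine ⟨hij ▸ d.c_mem_U _ _, ?_⟩
      rw [hij, hx]
      show ¬ d.c i j * d.e κ' (z2half d.n - κ') ∈ d.U
      rw [d.c_mul_e]; exact d.e_not_mem_U _ _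
    · left
      refine ⟨?_, hij ▸ d.e_not_mem_U _ _⟩
      rw [hij, hx]
      show d.e i j * d.e κ' (z2half d.n - κ') ∈ d.U
      rw [d.e_mul_e]; exact d.c_mem_U _ _
  have := (Subgroup.zpowers a).card_mul_index
  rw [hcard, hidx] at this
  omega

theorem q8Sub_equiv (κ' : ZMod (2 ^ d.n)) : Nonempty (↥(d.q8Sub κ') ≃* QuaternionGroup 2) := by
  set Q := d.q8Sub κ' with hQ
  set a : ↥Q := ⟨_, d.cq_mem_q8Sub κ'⟩ with ha
  set x : ↥Q := ⟨_, d.e_mem_q8Sub κ'⟩ with hx
  apply quaternion_recognition 2 a x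
  · rw [ha, Subgroup.orderOf_mk, d.orderOf_cq]
  · apply Subtype.ext
    rw [Subgroup.coe_pow, Subgroup.coe_pow, pow_two, pow_two, ha, hx]
    show d.e κ' (z2half d.n - κ') * d.e κ' (z2half d.n - κ') = _
    rw [d.e_sq, d.cq_sq]
    congr 1 <;> ring
  · apply Subtype.ext
    rw [Subgroup.coe_mul, Subgroup.coe_mul, Subgroup.coe_inv, Subgroup.coe_inv, ha, hx]
    show d.e κ' (z2half d.n - κ') * d.c (z2quarter d.n) (-z2quarter d.n) *
      (d.e κ' (z2half d.n - κ'))⁻¹ = (d.c (z2quarter d.n) (-z2quarter d.n))⁻¹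
    rw [d.e_conj_c, d.c_inv, neg_neg]
  · intro h
    obtain ⟨k, hk⟩ := h
    have h1 := congrArg Subtype.val hk
    rw [Subgroup.coe_zpow, ha, hx] at h1
    have h3 : (d.c (z2quarter d.n) (-z2quarter d.n)) ^ k ∈ d.U :=
      Subgroup.zpow_mem _ (d.c_mem_U _ _) k
    have h4 : d.e κ' (z2half d.n - κ') ∈ d.U := by
      rw [← show (d.c (z2quarter d.n) (-z2quarter d.n)) ^ k = d.e κ' (z2half d.n - κ') from h1]
      exact h3
    exact d.e_not_mem_U _ _ h4
  · rw [d.card_q8Sub]

omit [Finite S] in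
theorem q8Sub_sup_center (κ' : ZMod (2 ^ d.n)) :
    d.q8Sub κ' ⊔ Subgroup.center S = d.Vk (2 * κ') := by
  have hq := z2_two_mul_quarter d.n d.hn
  have hh := z2_half_add_half d.n d.n_pos
  apply le_antisymm
  · exact sup_le inf_le_left (d.center_le_Vk _)
  · have hcen : ∀ i, d.c i i ∈ d.q8Sub κ' ⊔ Subgroup.center S := fun i =>
      Subgroup.mem_sup_right ((d.mem_center_iff _).mpr ⟨i, rfl⟩)
    intro g hg
    rcases d.cases g with ⟨i, j, rfl⟩ | ⟨i, j, rfl⟩
    · rw [d.c_mem_Vk] at hg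
      rcases hg with h | h
      · have : i = j := by linear_combination h
        rw [this]; exact hcen j
      · have e : d.c i j = d.c (j + z2quarter d.n) (j + z2quarter d.n) *
            d.c (z2quarter d.n) (-z2quarter d.n) := by
          rw [d.c_mul_c]; congr 1
          · linear_combination h - hq
          · ring
        rw [e]
        exact Subgroup.mul_mem _ (hcen _) (Subgroup.mem_sup_left (d.cq_mem_q8Sub κ'))
    · rw [d.e_mem_Vk] at hg
      -- `e i j = c k k * e (i - k) (j - k)` with `2 k = i + j - h`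
      have key : ∀ k : ZMod (2 ^ d.n), 2 * k = i + j - z2half d.n →
          d.e i j ∈ d.q8Sub κ' ⊔ Subgroup.center S := by
        intro k hk
        have e : d.e i j = d.c k k * d.e (i - k) (j - k) := by
          rw [d.c_mul_e]; congr 1 <;> ring
        rw [e]
        apply Subgroup.mul_mem _ (hcen _) (Subgroup.mem_sup_left ?_)
        unfold q8Sub
        rw [Subgroup.mem_inf, d.e_mem_Vk, d.e_mem_quatS]
        refine ⟨?_, by linear_combination (-1 : ZMod (2 ^ d.n)) * hk⟩
        rcases hg with h | h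
        · left; linear_combination h
        · right; linear_combination h
      rcases hg with h | h
      · apply key (j + κ' + z2quarter d.n)
        linear_combination (-1 : ZMod (2 ^ d.n)) * h + hq + hh
      · apply key (j + κ')
        linear_combination (-1 : ZMod (2 ^ d.n)) * h

end WrData

end Cfsg.Agent.Lib.Helper3
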