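import Mathlib
import Cfsg.Agent.Lib.Helper3.WrAut7

set_option autoImplicit false

namespace Cfsg.Agent.Lib.Helper3
open Cfsg.Agent.Lib.Lead

theorem isQuasiDihedral_of_equiv {A B : Type*} [Group A] [Group B] (e : A ≃* B)
    (h : Cfsg.IsQuasiDihedral A) : Cfsg.IsQuasiDihedral B := by
  obtain ⟨n, hn, hc, x, y, hx, hy, hxy⟩ := h
  refine ⟨n, hn, by rw [← hc, Nat.card_congr e.toEquiv], e x, e y, ?_, ?_, ?_⟩
  · rw [MulEquiv.orderOf_eq, hx]
  · rw [MulEquiv.orderOf_eq, hy]
  · rw [← map_inv, ← map_mul, ← map_mul, hxy, map_pow]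

theorem isWreathed_of_equiv {A B : Type*} [Group A] [Group B] (e : A ≃* B)
    (h : Cfsg.IsWreathed A) : Cfsg.IsWreathed B := by
  obtain ⟨n, hn, hc, x, y, z, hx, hxy, hd, hz, hzx⟩ := h
  refine ⟨n, hn, by rw [← hc, Nat.card_congr e.toEquiv], e x, e y, e z, ?_, ?_, ?_, ?_, ?_⟩
  · rw [MulEquiv.orderOf_eq, hx]
  · rw [← map_mul, ← map_mul, hxy]
  · rw [eq_bot_iff]
    intro g hg
    rw [Subgroup.mem_inf] at hg
    obtain ⟨⟨k, hk⟩, ⟨l, hl⟩⟩ := hg
    have h1 : e.symm g ∈ Subgroup.zpowers x ⊓ Subgroup.zpowers y := by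
      rw [Subgroup.mem_inf]
      constructor
      · refine ⟨k, ?_⟩
        apply e.injective
        rw [MulEquiv.apply_symm_apply, map_zpow]; exact hk
      · refine ⟨l, ?_⟩
        apply e.injective
        rw [MulEquiv.apply_symm_apply, map_zpow]; exact hl
    rw [hd, Subgroup.mem_bot] at h1
    rw [Subgroup.mem_bot]
    have := congrArg e h1
    rwa [MulEquiv.apply_symm_apply, map_one] at this
  · rw [MulEquiv.orderOf_eq, hz]
  · rw [← map_inv, ← map_mul, ← map_mul, hzx]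

section
variable {C : Type*} [Group C] [Finite C]

/-- in a group with a normal `2`-complement an element of odd order normalizing a `2`-subgroup
centralizes it -/
theorem npc_odd_centralizes (h : Cfsg.HasNormalPComplement 2 C) (V : Subgroup C)
    (hV : IsPGroup 2 ↥V) (τ : C) (hτo : (orderOf τ).Coprime 2)
    (hτN : ∀ v ∈ V, τ * v * τ⁻¹ ∈ V) : ∀ v ∈ V, τ * v * τ⁻¹ = v := by
  have : Fact (Nat.Prime 2) := ⟨Nat.prime_two⟩
  obtain ⟨P, N, hN, hc⟩ := h
  have hidx := index_eq_pow_of_isComplement' P N hc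
  have hτ : τ ∈ N := mem_of_coprime_orderOf N hidx τ hτo
  -- `N` has odd order
  have hNodd : (Nat.card ↥N).Coprime 2 := by
    have h1 := hc.card_mul_card
    have h2 := P.card_coprime_index
    have h3 := (P : Subgroup C).card_mul_index
    have h4 : Nat.card ↥N = (P : Subgroup C).index := by
      have hpos : 0 < Nat.card ↥(P : Subgroup C) := Nat.card_pos
      apply Nat.eq_of_mul_eq_mul_right hpos
      rw [h1, mul_comm, h3]
    rw [h4]
    obtain ⟨k, hk⟩ := IsPGroup.iff_card.mp P.2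
    rw [hk] at h2
    rcases Nat.eq_zero_or_pos k with h0 | h0
    · -- `P` trivial: then `C` has odd order... `index = card C`
      by_contra hcon
      have h2d : 2 ∣ (P : Subgroup C).index := by
        by_contra h
        exact hcon ((Nat.Prime.coprime_iff_not_dvd Nat.prime_two).mpr h).symm
      exact P.not_dvd_index h2d
    · exact (Nat.Coprime.coprime_dvd_left (dvd_pow_self 2 h0.ne') h2).symm
  intro v hv
  set c : C := τ * v * τ⁻¹ * v⁻¹ with hcdef
  have hcN : c ∈ N := by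
    have h1 : v * τ⁻¹ * v⁻¹ ∈ N := hN.conj_mem _ (N.inv_mem hτ) v
    have : c = τ * (v * τ⁻¹ * v⁻¹) := by rw [hcdef]; group
    rw [this]; exact N.mul_mem hτ h1
  have hcV : c ∈ V := V.mul_mem (hτN v hv) (V.inv_mem hv)
  have hc1 : c = 1 := by
    obtain ⟨k, hk⟩ := hV ⟨c, hcV⟩
    have hk' : c ^ 2 ^ k = 1 := by
      have := congrArg Subtype.val hk
      simpa using this
    have h1 : orderOf c ∣ 2 ^ k := orderOf_dvd_of_pow_eq_one hk'
    have h2 : orderOf c ∣ Nat.card ↥N := by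
      have := orderOf_dvd_natCard (⟨c, hcN⟩ : ↥N)
      rwa [Subgroup.orderOf_mk] at this
    have h3 : (orderOf c).Coprime (2 ^ k) :=
      Nat.Coprime.pow_right k (Nat.Coprime.coprime_dvd_left h2 hNodd)
    exact orderOf_eq_one_iff.mp (Nat.Coprime.eq_one_of_dvd h3 h1)
  have : τ * v * τ⁻¹ = c * v := by rw [hcdef]; group
  rw [this, hc1, one_mul]

/-- a normal subgroup of index `2 ^ k`, `k ≥ 1`, lies in a subgroup of index `2` -/
theorem exists_index_two_of_normal_index_pow (K : Subgroup C) [hK : K.Normal] (k : ℕ) (hk : 1 ≤ k)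
    (hidx : K.index = 2 ^ k) : ∃ H : Subgroup C, H.index = 2 := by
  have : Fact (Nat.Prime 2) := ⟨Nat.prime_two⟩
  have hcard : Nat.card (C ⧸ K) = 2 ^ k := by rw [← hidx]; rfl
  have hdvd : 2 ^ (k - 1) ∣ Nat.card (C ⧸ K) := by
    rw [hcard]; exact Nat.pow_dvd_pow 2 (by omega)
  obtain ⟨M, hM⟩ := Sylow.exists_subgroup_card_pow_prime 2 hdvd
  have hMi : M.index = 2 := by
    have h1 := M.card_mul_index
    rw [hM, hcard] at h1
    have h2 : (2 : ℕ) ^ k = 2 ^ (k - 1) * 2 := by rw [← pow_succ]; congr 1; omega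
    rw [h2] at h1
    exact Nat.eq_of_mul_eq_mul_left (by positivity) h1
  refine ⟨M.comap (QuotientGroup.mk' K), ?_⟩
  rw [Subgroup.index_comap_of_surjective _ (QuotientGroup.mk'_surjective K), hMi]

theorem exists_index_two_of_npc (h : Cfsg.HasNormalPComplement 2 C) (h2 : 2 ∣ Nat.card C) :
    ∃ H : Subgroup C, H.index = 2 := by
  have : Fact (Nat.Prime 2) := ⟨Nat.prime_two⟩
  obtain ⟨P, N, hN, hc⟩ := h
  obtain ⟨k, hk⟩ := IsPGroup.iff_card.mp P.2
  have hidx : N.index = 2 ^ k := by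
    have h1 := hc.card_mul_card
    have h3 := N.card_mul_index
    have hpos : 0 < Nat.card ↥N := Nat.card_pos
    apply Nat.eq_of_mul_eq_mul_left hpos
    rw [h3, ← h1, hk]
  have hk1 : 1 ≤ k := by
    rcases Nat.eq_zero_or_pos k with h0 | h0
    · exfalso
      have hd : 2 ∣ Nat.card ↥(P : Subgroup C) := P.dvd_card_of_dvd_card h2
      rw [hk, h0, pow_zero] at hd
      norm_num at hd
    · exact h0
  exact exists_index_two_of_normal_index_pow N k hk1 hidx

end

section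
variable {G : Type*} [Group G] [Finite G]

/-- moving a Sylow subgroup so that a conjugate of a central element becomes central -/
theorem exists_sylow_central_of_conj (S : Sylow 2 G) (z₀ : G) (hz₀ : z₀ ∈ (S : Subgroup G))
    (hcen : ∀ s ∈ (S : Subgroup G), z₀ * s = s * z₀) (g : G) :
    ∃ S₁ : Sylow 2 G, Nonempty (↥(S : Subgroup G) ≃* ↥(S₁ : Subgroup G)) ∧
      g * z₀ * g⁻¹ ∈ (S₁ : Subgroup G) ∧
      ∀ s ∈ (S₁ : Subgroup G), g * z₀ * g⁻¹ * s = s * (g * z₀ * g⁻¹) := by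
  refine ⟨g • S, ⟨Sylow.equiv S (g • S)⟩, ?_, ?_⟩
  · rw [Sylow.coe_subgroup_smul, mem_conj_smul_iff']
    have : g⁻¹ * (g * z₀ * g⁻¹) * g = z₀ := by group
    rw [this]; exact hz₀
  · intro s hs
    rw [Sylow.coe_subgroup_smul, mem_conj_smul_iff'] at hs
    have h1 := hcen _ hs
    calc g * z₀ * g⁻¹ * s = g * (z₀ * (g⁻¹ * s * g)) * g⁻¹ := by group
      _ = g * ((g⁻¹ * s * g) * z₀) * g⁻¹ := by rw [h1]
      _ = s * (g * z₀ * g⁻¹) := by group

end

end Cfsg.Agent.Lib.Helper3
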