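import Mathlib
import Cfsg.Agent.Lib.Helper3.Di7
import Cfsg.Agent.Lib.Helper3.WrCent1
import Cfsg.Agent.Lib.Helper1.DihedralNPC

set_option autoImplicit false

namespace Cfsg.Agent.Lib.Helper3

open Cfsg.Agent.Lib.Lead

section
variable {X : Type*} [Group X] [Finite X]

open scoped Pointwise in
/-- a normal `2`-complement, in terms of an arbitrary Sylow `2`-subgroup -/
theorem npc_decomp (h : Cfsg.HasNormalPComplement 2 X) (S : Sylow 2 X) :
    ∃ K : Subgroup X, K.Normal ∧ (Nat.card ↥K).Coprime 2 ∧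
      ∀ n : X, ∃ k ∈ K, ∃ s ∈ (S : Subgroup X), n = k * s := by
  have : Fact (Nat.Prime 2) := ⟨Nat.prime_two⟩
  obtain ⟨P, N, hN, hc⟩ := h
  have hNodd : (Nat.card ↥N).Coprime 2 := by
    have h1 := hc.card_mul_card
    have h2 := P.card_coprime_index
    have h3 := (P : Subgroup X).card_mul_index
    have h4 : Nat.card ↥N = (P : Subgroup X).index := by
      have hpos : 0 < Nat.card ↥(P : Subgroup X) := Nat.card_pos
      apply Nat.eq_of_mul_eq_mul_right hpos
      rw [h1, mul_comm, h3]
    rw [h4]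
    by_contra hcon
    have h2d : 2 ∣ (P : Subgroup X).index := by
      by_contra h
      exact hcon ((Nat.Prime.coprime_iff_not_dvd Nat.prime_two).mpr h).symm
    exact P.not_dvd_index h2d
  refine ⟨N, hN, hNodd, ?_⟩
  intro n
  obtain ⟨g, hg⟩ := MulAction.exists_smul_eq X P S
  have hmul := (Subgroup.isComplement'_def.mp hc).mul_eq
  have hmem : g⁻¹ * n * g ∈ ((N : Set X) * ((P : Subgroup X) : Set X)) := by rw [hmul]; trivial
  obtain ⟨k, hk, p, hp, hkp⟩ := Set.mem_mul.mp hmem
  refine ⟨g * k * g⁻¹, hN.conj_mem k hk g, g * p * g⁻¹, ?_, ?_⟩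
  · rw [← hg, Sylow.coe_subgroup_smul, mem_conj_smul_iff']
    have : g⁻¹ * (g * p * g⁻¹) * g = p := by group
    rw [this]; exact hp
  · calc n = g * (g⁻¹ * n * g) * g⁻¹ := by group
      _ = g * (k * p) * g⁻¹ := by rw [hkp]
      _ = g * k * g⁻¹ * (g * p * g⁻¹) := by group

/-- with a normal `2`-complement, the normalizer of a subgroup `U` of the Sylow subgroup `S` is
generated by the centralizer of `U` and `N_S(U)` -/
theorem npc_normalizer_eq (h : Cfsg.HasNormalPComplement 2 X) (S : Sylow 2 X) (U : Subgroup X)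
    (hUS : U ≤ S) :
    Subgroup.normalizer (U : Set X) = Subgroup.centralizer (U : Set X) ⊔
      ((S : Subgroup X) ⊓ Subgroup.normalizer (U : Set X)) := by
  obtain ⟨K, hK, hKodd, hdec⟩ := npc_decomp h S
  apply le_antisymm
  · intro n hn
    obtain ⟨k, hk, s, hs, rfl⟩ := hdec n
    have key : ∀ u ∈ U, k * (s * u * s⁻¹) * k⁻¹ = s * u * s⁻¹ := by
      intro u hu
      set v := s * u * s⁻¹ with hv
      have hvS : v ∈ (S : Subgroup X) :=
        Subgroup.mul_mem _ (Subgroup.mul_mem _ hs (hUS hu)) (Subgroup.inv_mem _ hs)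
      have hnu : k * v * k⁻¹ ∈ U := by
        have := (Subgroup.mem_normalizer_iff.mp hn u).mp hu
        have e1 : k * s * u * (k * s)⁻¹ = k * v * k⁻¹ := by rw [hv]; group
        rwa [e1] at this
      set c := k * v * k⁻¹ * v⁻¹ with hc
      have hcK : c ∈ K := by
        have h1 : v * k⁻¹ * v⁻¹ ∈ K := hK.conj_mem _ (K.inv_mem hk) v
        have : c = k * (v * k⁻¹ * v⁻¹) := by rw [hc]; group
        rw [this]; exact K.mul_mem hk h1
      have hcS : c ∈ (S : Subgroup X) :=
        Subgroup.mul_mem _ (hUS hnu) (Subgroup.inv_mem _ hvS)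
      have hc1 : c = 1 := by
        obtain ⟨j, hj⟩ := S.isPGroup' ⟨c, hcS⟩
        have hj' : c ^ 2 ^ j = 1 := by
          have := congrArg Subtype.val hj
          simpa using this
        have h1 : orderOf c ∣ 2 ^ j := orderOf_dvd_of_pow_eq_one hj'
        have h2 : orderOf c ∣ Nat.card ↥K := by
          have := orderOf_dvd_natCard (⟨c, hcK⟩ : ↥K)
          rwa [Subgroup.orderOf_mk] at this
        have h3 : (orderOf c).Coprime (2 ^ j) :=
          Nat.Coprime.pow_right j (Nat.Coprime.coprime_dvd_left h2 hKodd)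
        exact orderOf_eq_one_iff.mp (Nat.Coprime.eq_one_of_dvd h3 h1)
      have : k * v * k⁻¹ = c * v := by rw [hc]; group
      rw [this, hc1, one_mul]
    have hsU : ∀ u ∈ U, s * u * s⁻¹ ∈ U := by
      intro u hu
      have := (Subgroup.mem_normalizer_iff.mp hn u).mp hu
      have e1 : k * s * u * (k * s)⁻¹ = k * (s * u * s⁻¹) * k⁻¹ := by group
      rw [e1, key u hu] at this
      exact this
    have hUfin : Finite ↥U := inferInstance
    have hsN : s ∈ Subgroup.normalizer (U : Set X) := mem_normalizer_of_conj_mem U s hsU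
    have hkC : k ∈ Subgroup.centralizer (U : Set X) := by
      rw [Subgroup.mem_centralizer_iff]
      intro u hu
      have hu' : u ∈ U := hu
      have h1 : s⁻¹ * u * s ∈ U := by
        have := (Subgroup.mem_normalizer_iff.mp (Subgroup.inv_mem _ hsN) u).mp hu'
        simpa using this
      have h2 := key _ h1
      have e1 : s * (s⁻¹ * u * s) * s⁻¹ = u := by group
      rw [e1] at h2
      calc u * k = k * u * k⁻¹ * k := by rw [h2]
        _ = k * u := by group
    exact Subgroup.mul_mem _ (Subgroup.mem_sup_left hkC) (Subgroup.mem_sup_right ⟨hs, hsN⟩)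
  · apply sup_le
    · exact Subgroup.centralizer_le_normalizer (s := (U : Set X))
    · exact inf_le_right

end

section
variable {X : Type*} [Group X] {S : Subgroup X} {m : ℕ} (e : ↥S ≃* DihedralGroup m)

theorem diR_natCast (k : ℕ) : diR e (k : ZMod m) = diR e 1 ^ k := by
  induction k with
  | zero => rw [Nat.cast_zero, diR_zero, pow_zero]
  | succ k ih => rw [Nat.cast_succ, ← diR_mul_diR, ih, pow_succ]

theorem diRot_eq_zpowers [NeZero m] : diRot e = Subgroup.zpowers (diR e 1) := by
  apply le_antisymm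
  · rintro _ ⟨i, rfl⟩
    rw [← ZMod.natCast_zmod_val i, diR_natCast]
    exact Subgroup.pow_mem _ (Subgroup.mem_zpowers _) _
  · rw [Subgroup.zpowers_le]
    exact ⟨1, rfl⟩

theorem isCyclic_diRot [NeZero m] : IsCyclic ↥(diRot e) := by
  rw [diRot_eq_zpowers]
  infer_instance

theorem diRot_le : diRot e ≤ S := by
  rintro _ ⟨i, rfl⟩
  exact diR_mem e i

theorem di_swap (h q : ZMod m) (hh0 : h ≠ 0) (hh2 : 2 * h = 0) (hq : 2 * q = h)
    (w : X) (hwS : w ∈ S) (hww : w * w = 1) (hw1 : w ≠ 1) (hwz : w ≠ diR e h) :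
    ∃ q' ∈ S, q' * w * q'⁻¹ = diR e h * w := by
  rcases di_involution_cases e h hh0 hh2 w hwS hww hw1 with rfl | ⟨j, rfl⟩
  · exact absurd rfl hwz
  · refine ⟨diR e q, diR_mem e q, ?_⟩
    rw [diR_conj_diS, diR_mul_diS, hq]

end

section
variable {X : Type*} [Group X] [Finite X] (S : Sylow 2 X) {m : ℕ}
  (e : ↥(S : Subgroup X) ≃* DihedralGroup m)

/-- if `N(U) = C(U) N_S(U)` for the four-group `U = ⟨z, s r^i⟩` then `z` is not conjugate to
`s r^i` -/
theorem di_not_conj_of_normalizer_eq (h q : ZMod m) (hh0 : h ≠ 0) (hh2 : 2 * h = 0)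
    (hq : 2 * q = h) (i : ZMod m)
    (hN : Subgroup.normalizer ((diKlein e h hh2 i : Subgroup X) : Set X) =
      Subgroup.centralizer ((diKlein e h hh2 i : Subgroup X) : Set X) ⊔
      ((S : Subgroup X) ⊓ Subgroup.normalizer ((diKlein e h hh2 i : Subgroup X) : Set X))) :
    ¬ IsConj (diR e h) (diS e i) := by
  intro hconj
  have hK := isKleinFour_diKlein e h hh0 hh2 i
  have hz1 : diR e h ≠ 1 := by rw [Ne, diR_eq_one_iff]; exact hh0
  obtain ⟨r', hr1, hr2⟩ := exists_swap_of_conj S (diR e h)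
    (fun s hs => diR_half_comm e h hh2 s hs)
    (fun w hwS hww hw1 hwz => di_swap e h q hh0 hh2 hq w hwS hww hw1 hwz)
    (diKlein e h hh2 i) hK (diR_mem_diKlein e h hh2 i) (diS e i) (diS_mem_diKlein e h hh2 i)
    (diR_ne_diS e h i).symm hz1 hconj
  have hfin : Finite ↥(diKlein e h hh2 i) := inferInstance
  have hzz : diR e h * diR e h = 1 := (diR_sq_eq_one_iff e).mpr hh2
  have hrN : r' ∈ Subgroup.normalizer ((diKlein e h hh2 i : Subgroup X) : Set X) := by
    apply mem_normalizer_of_conj_mem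
    intro t ht
    rcases ht with rfl | rfl | rfl | rfl
    · rw [mul_one, mul_inv_cancel]; exact Subgroup.one_mem _
    · rw [hr2]; exact Or.inr (Or.inr (Or.inr rfl))
    · rw [hr1]; exact Or.inr (Or.inr (Or.inl rfl))
    · have : r' * (diR e h * diS e i) * r'⁻¹ = (r' * diR e h * r'⁻¹) * (r' * diS e i * r'⁻¹) := by
        group
      rw [this, hr1, hr2, mul_assoc, diS_mul_self, mul_one]
      exact Or.inr (Or.inl rfl)
  rw [hN] at hrN
  have hle : Subgroup.centralizer ((diKlein e h hh2 i : Subgroup X) : Set X) ⊔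
      ((S : Subgroup X) ⊓ Subgroup.normalizer ((diKlein e h hh2 i : Subgroup X) : Set X)) ≤
      Subgroup.centralizer ({diR e h} : Set X) := by
    apply sup_le
    · apply Subgroup.centralizer_le
      rw [Set.singleton_subset_iff]
      exact diR_mem_diKlein e h hh2 i
    · intro s hs
      rw [Subgroup.mem_centralizer_singleton_iff]
      exact diR_half_comm e h hh2 s hs.1
  have h1 := hle hrN
  rw [Subgroup.mem_centralizer_singleton_iff] at h1
  have h2 : r' * diR e h * r'⁻¹ = diR e h := by rw [h1]; group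
  rw [hr2] at h2
  have h3 : diS e i = 1 := by
    calc diS e i = (diR e h * diR e h) * diS e i := by rw [hzz, one_mul]
      _ = diR e h * (diR e h * diS e i) := by group
      _ = 1 := by rw [h2, hzz]
  exact diS_ne_one e i h3

end

end Cfsg.Agent.Lib.Helper3
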