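import Mathlib
import Cfsg.Agent.Lib.Helper3.Di8

set_option autoImplicit false

namespace Cfsg.Agent.Lib.Helper3

open Cfsg.Agent.Lib.Lead

section
variable {X : Type*} [Group X] [Finite X]

/-- two `p`-subgroups of `M` can be moved into a common Sylow subgroup of `X`, the first one by an
element of `M` -/
theorem exists_conj_into_common_sylow {p : ℕ} [Fact p.Prime] (S : Sylow p X) (M A B : Subgroup X)
    (hA : A ≤ M) (hB : B ≤ M) (hAp : IsPGroup p ↥A) (hBp : IsPGroup p ↥B) :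
    ∃ n ∈ M, ∃ x : X, (∀ a ∈ A, x⁻¹ * (n * a * n⁻¹) * x ∈ (S : Subgroup X)) ∧
      (∀ b ∈ B, x⁻¹ * b * x ∈ (S : Subgroup X)) := by
  have hA' : IsPGroup p ↥(A.subgroupOf M) := hAp.comap_subtype
  have hB' : IsPGroup p ↥(B.subgroupOf M) := hBp.comap_subtype
  obtain ⟨TA, hTA⟩ := hA'.exists_le_sylow
  obtain ⟨TB, hTB⟩ := hB'.exists_le_sylow
  obtain ⟨n, hn⟩ := MulAction.exists_smul_eq ↥M TA TB
  have hTp : IsPGroup p ↥((TB : Subgroup ↥M).map M.subtype) := TB.isPGroup'.map _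
  obtain ⟨P, hP⟩ := hTp.exists_le_sylow
  obtain ⟨x, hx⟩ := MulAction.exists_smul_eq X S P
  refine ⟨n, n.2, x, ?_, ?_⟩
  · intro a ha
    have h1 : (⟨a, hA ha⟩ : ↥M) ∈ (TA : Subgroup ↥M) := hTA (Subgroup.mem_subgroupOf.mpr ha)
    have h2 : n * ⟨a, hA ha⟩ * n⁻¹ ∈ (TB : Subgroup ↥M) := by
      rw [← hn, Sylow.coe_subgroup_smul, mem_conj_smul_iff']
      have : n⁻¹ * (n * ⟨a, hA ha⟩ * n⁻¹) * n = ⟨a, hA ha⟩ := by group
      rw [this]; exact h1
    have h3 : (n : X) * a * (n : X)⁻¹ ∈ (P : Subgroup X) := hP ⟨_, h2, rfl⟩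
    rw [← hx, Sylow.coe_subgroup_smul, mem_conj_smul_iff'] at h3
    exact h3
  · intro b hb
    have h1 : (⟨b, hB hb⟩ : ↥M) ∈ (TB : Subgroup ↥M) := hTB (Subgroup.mem_subgroupOf.mpr hb)
    have h3 : b ∈ (P : Subgroup X) := hP ⟨_, h1, rfl⟩
    rw [← hx, Sylow.coe_subgroup_smul, mem_conj_smul_iff'] at h3
    exact h3

/-- with a normal `2`-complement, conjugation between elements of a Sylow `2`-subgroup is induced
by that subgroup -/
theorem npc_control (h : Cfsg.HasNormalPComplement 2 X) (S : Sylow 2 X) (n : X) :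
    ∃ s ∈ (S : Subgroup X), ∀ u ∈ (S : Subgroup X), n * u * n⁻¹ ∈ (S : Subgroup X) →
      n * u * n⁻¹ = s * u * s⁻¹ := by
  obtain ⟨K, hK, hKodd, hdec⟩ := npc_decomp h S
  obtain ⟨k, hk, s, hs, rfl⟩ := hdec n
  refine ⟨s, hs, ?_⟩
  intro u hu hnu
  set v := s * u * s⁻¹ with hv
  have hvS : v ∈ (S : Subgroup X) :=
    Subgroup.mul_mem _ (Subgroup.mul_mem _ hs hu) (Subgroup.inv_mem _ hs)
  have e1 : k * s * u * (k * s)⁻¹ = k * v * k⁻¹ := by rw [hv]; group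
  rw [e1] at hnu ⊢
  set c := k * v * k⁻¹ * v⁻¹ with hc
  have hcK : c ∈ K := by
    have h1 : v * k⁻¹ * v⁻¹ ∈ K := hK.conj_mem _ (K.inv_mem hk) v
    have : c = k * (v * k⁻¹ * v⁻¹) := by rw [hc]; group
    rw [this]; exact K.mul_mem hk h1
  have hcS : c ∈ (S : Subgroup X) := Subgroup.mul_mem _ hnu (Subgroup.inv_mem _ hvS)
  have hc1 : c = 1 := by
    obtain ⟨j, hj⟩ := S.isPGroup' ⟨c, hcS⟩
    have hj' : c ^ 2 ^ j = 1 := by
      have := congrArg Subtype.val hj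
      simpa using this
    have h1 : orderOf c ∣ 2 ^ j := orderOf_dvd_of_pow_eq_one hj'
    have h2 : orderOf c ∣ Nat.card ↥K := by
      have := orderOf_dvd_natCard (⟨c, hcK⟩ : ↥K)
      rwa [Subgroup.orderOf_mk] at this
    have h3 : (orderOf c).Coprime (2 ^ j) :=
      Nat.Coprime.pow_right j (Nat.Coprime.coprime_dvd_left h2 hKodd)
    exact orderOf_eq_one_iff.mp (Nat.Coprime.eq_one_of_dvd h3 h1)
  have : k * v * k⁻¹ = c * v := by rw [hc]; group
  rw [this, hc1, one_mul]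

end

end Cfsg.Agent.Lib.Helper3
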