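import Mathlib
import Cfsg.Agent.Lib.Helper3.Di9

set_option autoImplicit false

namespace Cfsg.Agent.Lib.Helper3

open Cfsg.Agent.Lib.Lead

section
variable {X : Type*} [Group X] {S : Subgroup X} {m : ℕ} (e : ↥S ≃* DihedralGroup m)

/-- the rotation of order four normalizes every four-subgroup -/
theorem di_quarter_normalizes (h q : ZMod m) (hh0 : h ≠ 0) (hh2 : 2 * h = 0) (hq : 2 * q = h)
    (U : Subgroup X) (hUS : U ≤ S) (hU : IsKleinFour U) (u : X) (hu : u ∈ U) :
    diR e q * u * (diR e q)⁻¹ ∈ U := by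
  obtain ⟨h', i, hh'0, hh'2, hhU, hiU, hall⟩ := di_klein_struct e U hUS hU
  have hhh : h' = h := zmod_two_mul_unique h' h hh'2 hh2 hh'0 hh0
  subst hhh
  have hiU' : diS e (i + h') ∈ U := by
    rw [← diS_mul_diR]; exact U.mul_mem hiU hhU
  have hneg : -h' = h' := zmod_neg_of_two_mul h' hh2
  rcases hall u hu with rfl | rfl | rfl | rfl
  · rw [mul_one, mul_inv_cancel]; exact U.one_mem
  · rw [diR_conj_diR]; exact hhU
  · rw [diR_conj_diS, hq, sub_eq_add_neg, hneg]; exact hiU'
  · rw [diR_conj_diS, hq]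
    have : i + h' - h' = i := by ring
    rw [this]; exact hiU

/-- elements of order four in a dihedral subgroup -/
theorem di_order_four (h q : ZMod m) (hh0 : h ≠ 0) (hh2 : 2 * h = 0) (hq : 2 * q = h)
    (g : X) (hg : g ∈ S) (hg2 : g * g ≠ 1) (hg4 : (g * g) * (g * g) = 1) :
    g = diR e q ∨ g = (diR e q)⁻¹ := by
  rcases di_cases e g hg with ⟨j, rfl⟩ | ⟨j, rfl⟩
  · rw [diR_mul_diR] at hg2 hg4
    rw [diR_sq_eq_one_iff] at hg4
    have h1 : j + j ≠ 0 := by
      intro h0; apply hg2; rw [h0, diR_zero]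
    have h2 : j + j = h := zmod_two_mul_unique _ h hg4 hh2 h1 hh0
    have h3 : 2 * (j - q) = 0 := by
      have : 2 * (j - q) = (j + j) - 2 * q := by ring
      rw [this, h2, hq, sub_self]
    by_cases h4 : j - q = 0
    · left
      rw [sub_eq_zero] at h4
      rw [h4]
    · right
      have h5 := zmod_two_mul_unique _ h h3 hh2 h4 hh0
      rw [diR_inv, diR_inj]
      have h6 : j = q + h := by rw [← h5]; ring
      rw [h6, eq_neg_iff_add_eq_zero]
      calc q + h + q = 2 * q + h := by ring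
        _ = 2 * h := by rw [hq]; ring
        _ = 0 := hh2
  · exfalso; exact hg2 (diS_mul_self e j)

theorem di_quarter_sq (h q : ZMod m) (hq : 2 * q = h) : diR e q * diR e q = diR e h := by
  rw [diR_mul_diR, ← two_mul, hq]

theorem di_quarter_sq_ne (h q : ZMod m) (hh0 : h ≠ 0) (hq : 2 * q = h) :
    diR e q * diR e q ≠ 1 := by
  rw [di_quarter_sq e h q hq, Ne, diR_eq_one_iff]; exact hh0

theorem di_quarter_four (h q : ZMod m) (hh2 : 2 * h = 0) (hq : 2 * q = h) :
    (diR e q * diR e q) * (diR e q * diR e q) = 1 := by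
  rw [di_quarter_sq e h q hq, diR_sq_eq_one_iff]; exact hh2

theorem orderOf_di_quarter (h q : ZMod m) (hh0 : h ≠ 0) (hh2 : 2 * h = 0) (hq : 2 * q = h) :
    orderOf (diR e q) = 4 := by
  have : Fact (Nat.Prime 2) := ⟨Nat.prime_two⟩
  have := orderOf_eq_prime_pow (x := diR e q) (p := 2) (n := 1)
    (by rw [pow_one, pow_two]; exact di_quarter_sq_ne e h q hh0 hq)
    (by
      have h4 := di_quarter_four e h q hh2 hq
      have : diR e q ^ 2 ^ (1 + 1) = (diR e q * diR e q) * (diR e q * diR e q) := by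
        norm_num [pow_succ, mul_assoc]
      rw [this, h4])
  simpa using this

end

section
variable {X : Type*} [Group X] [Finite X] (S : Sylow 2 X) {m : ℕ}
  (e : ↥(S : Subgroup X) ≃* DihedralGroup m)

omit [Finite X] in
/-- conjugates of the rotation of order four lying in `S` -/
theorem di_conj_quarter (h q : ZMod m) (hh0 : h ≠ 0) (hh2 : 2 * h = 0) (hq : 2 * q = h)
    (c : X) (hc : c * diR e q * c⁻¹ ∈ (S : Subgroup X)) :
    c * diR e q * c⁻¹ = diR e q ∨ c * diR e q * c⁻¹ = (diR e q)⁻¹ := by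
  apply di_order_four e h q hh0 hh2 hq _ hc
  · intro h1
    apply di_quarter_sq_ne e h q hh0 hq
    calc diR e q * diR e q = c⁻¹ * (c * diR e q * c⁻¹ * (c * diR e q * c⁻¹)) * c := by group
      _ = 1 := by rw [h1]; group
  · calc c * diR e q * c⁻¹ * (c * diR e q * c⁻¹) * (c * diR e q * c⁻¹ * (c * diR e q * c⁻¹))
        = c * ((diR e q * diR e q) * (diR e q * diR e q)) * c⁻¹ := by group
      _ = 1 := by rw [di_quarter_four e h q hh2 hq]; group

theorem di_sylow_le_normalizer_quarter (q : ZMod m) :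
    (S : Subgroup X) ≤ Subgroup.normalizer (Subgroup.zpowers (diR e q) : Set X) := by
  intro s hs
  apply mem_normalizer_zpowers_of_conj_mem
  rcases di_cases e s hs with ⟨j, rfl⟩ | ⟨j, rfl⟩
  · rw [diR_conj_diR]; exact Subgroup.mem_zpowers _
  · rw [diS_conj_diR, ← diR_inv]; exact Subgroup.inv_mem _ (Subgroup.mem_zpowers _)

omit [Finite X] in
/-- the central involution is central in the normalizer of the cyclic group of order four -/
theorem di_half_central_in_normalizer_quarter (h q : ZMod m) (hh0 : h ≠ 0) (hh2 : 2 * h = 0)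
    (hq : 2 * q = h) (n : X)
    (hn : n ∈ Subgroup.normalizer (Subgroup.zpowers (diR e q) : Set X)) :
    n * diR e h = diR e h * n := by
  have h1 : n * diR e q * n⁻¹ ∈ Subgroup.zpowers (diR e q) :=
    (Subgroup.mem_normalizer_iff.mp hn _).mp (Subgroup.mem_zpowers _)
  have h2 : n * diR e q * n⁻¹ ∈ (S : Subgroup X) :=
    (Subgroup.zpowers_le.mpr (diR_mem e q)) h1
  have h3 : n * diR e h * n⁻¹ = diR e h := by
    rw [← di_quarter_sq e h q hq]
    have : n * (diR e q * diR e q) * n⁻¹ = (n * diR e q * n⁻¹) * (n * diR e q * n⁻¹) := by group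
    rw [this]
    rcases di_conj_quarter S e h q hh0 hh2 hq n h2 with h4 | h4
    · rw [h4]
    · rw [h4, diR_inv, diR_mul_diR, diR_mul_diR, diR_inj]
      have e1 : -q + -q = -(2 * q) := by ring
      have e2 : q + q = 2 * q := by ring
      rw [e1, e2, hq, zmod_neg_of_two_mul h hh2]
  calc n * diR e h = n * diR e h * n⁻¹ * n := by group
    _ = diR e h * n := by rw [h3]

end

end Cfsg.Agent.Lib.Helper3
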