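import Mathlib
import Cfsg.Agent.Lib.Helper3.Di10

set_option autoImplicit false

namespace Cfsg.Agent.Lib.Helper3

open Cfsg.Agent.Lib.Lead

section
variable {X : Type*} [Group X] [Finite X] (S : Sylow 2 X) {m : ℕ}
  (e : ↥(S : Subgroup X) ≃* DihedralGroup m)

/-- the normalizer of the cyclic subgroup of order four has a normal `2`-complement -/
theorem di_normalizer_quarter_npc (hm0 : m ≠ 0) (h q : ZMod m) (hh0 : h ≠ 0) (hh2 : 2 * h = 0)
    (hq : 2 * q = h) :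
    Cfsg.HasNormalPComplement 2 ↥(Subgroup.normalizer (Subgroup.zpowers (diR e q) : Set X)) := by
  have : NeZero m := ⟨hm0⟩
  set N := Subgroup.normalizer (Subgroup.zpowers (diR e q) : Set X) with hN
  have hSN : (S : Subgroup X) ≤ N := di_sylow_le_normalizer_quarter S e q
  let T : Sylow 2 ↥N := S.subtype hSN
  have hT : ∀ x : ↥N, x ∈ (T : Subgroup ↥N) ↔ (x : X) ∈ (S : Subgroup X) := by
    intro x
    show x ∈ ((S.subtype hSN : Sylow 2 ↥N) : Subgroup ↥N) ↔ _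
    rw [Sylow.coe_subtype, Subgroup.mem_subgroupOf]
  let R : Subgroup ↥N := (diRot e).subgroupOf N
  have hR : ∀ x : ↥N, x ∈ R ↔ (x : X) ∈ diRot e := fun x => Subgroup.mem_subgroupOf
  have hRN : diRot e ≤ N := (diRot_le e).trans hSN
  have hRc : IsCyclic ↥R := by
    have := isCyclic_diRot e
    exact (Subgroup.subgroupOfEquivOfLe hRN).isCyclic.mpr this
  have hzN : diR e h ∈ N := hSN (diR_mem e h)
  apply Cfsg.Agent.Lib.Helper1.hasNormalPComplement_of_dihedralLike_central T R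
  · intro x hx
    rw [hT]
    exact diRot_le e ((hR x).mp hx)
  · exact hRc
  · intro x hx y hy hxR hyR
    rw [hT] at hx hy
    rw [hR] at hxR hyR ⊢
    rcases di_cases e x hx with ⟨i, hi⟩ | ⟨i, hi⟩
    · exact absurd ⟨i, hi⟩ hxR
    rcases di_cases e y hy with ⟨j, hj⟩ | ⟨j, hj⟩
    · exact absurd ⟨j, hj⟩ hyR
    show (x : X) * (y : X) ∈ diRot e
    rw [hi, hj, diS_mul_diS]; exact ⟨_, rfl⟩
  · intro x hx hxR
    rw [hT] at hx
    rw [hR] at hxR
    rcases di_cases e x hx with ⟨i, hi⟩ | ⟨i, hi⟩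
    · exact absurd ⟨i, hi⟩ hxR
    apply Subtype.ext
    show (x : X) * (x : X) = 1
    rw [hi, diS_mul_self]
  · show (⟨diR e h, hzN⟩ : ↥N) ∈ Subgroup.center ↥N
    rw [Subgroup.mem_center_iff]
    intro n
    apply Subtype.ext
    show (n : X) * diR e h = diR e h * (n : X)
    exact di_half_central_in_normalizer_quarter S e h q hh0 hh2 hq n n.2
  · rw [← Subgroup.orderOf_coe]
    show orderOf (diR e h) = 2
    apply orderOf_eq_prime
    · rw [pow_two, diR_sq_eq_one_iff]; exact hh2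
    · rw [Ne, diR_eq_one_iff]; exact hh0

include e in
/-- **Control of fusion of four-groups**: conjugate Klein four-subgroups of a dihedral Sylow
`2`-subgroup `S` of order at least `8` are conjugate in `S`. -/
theorem di_klein_control (hm0 : m ≠ 0) (h q : ZMod m) (hh0 : h ≠ 0) (hh2 : 2 * h = 0)
    (hq : 2 * q = h) (U V : Subgroup X) (hUS : U ≤ S) (hVS : V ≤ S) (hU : IsKleinFour U)
    (hV : IsKleinFour V) (g : X) (hUV : U.map (MulAut.conj g).toMonoidHom = V) :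
    ∃ s ∈ (S : Subgroup X), ∀ u ∈ U, s * u * s⁻¹ ∈ V := by
  have : Fact (Nat.Prime 2) := ⟨Nat.prime_two⟩
  set y := diR e q with hy
  have hyo : orderOf y = 4 := orderOf_di_quarter e h q hh0 hh2 hq
  set M := Subgroup.normalizer (V : Set X) with hM
  have hVfin : Finite ↥V := inferInstance
  have hyM : y ∈ M := mem_normalizer_of_conj_mem V y
    (fun v hv => di_quarter_normalizes e h q hh0 hh2 hq V hVS hV v hv)
  have hgU : ∀ u ∈ U, g * u * g⁻¹ ∈ V := by
    intro u hu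
    rw [← hUV]
    exact ⟨u, hu, rfl⟩
  have hgyM : g * y * g⁻¹ ∈ M := by
    apply mem_normalizer_of_conj_mem
    intro v hv
    rw [← hUV] at hv
    obtain ⟨u, hu, rfl⟩ := hv
    have h1 := di_quarter_normalizes e h q hh0 hh2 hq U hUS hU u hu
    have h2 := hgU _ h1
    have : g * y * g⁻¹ * ((MulAut.conj g).toMonoidHom u) * (g * y * g⁻¹)⁻¹ =
        g * (y * u * y⁻¹) * g⁻¹ := by
      show g * y * g⁻¹ * (g * u * g⁻¹) * (g * y * g⁻¹)⁻¹ = _
      group
    rw [this]; exact h2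
  have hgyo : orderOf (g * y * g⁻¹) = 4 := by
    have : g * y * g⁻¹ = MulAut.conj g y := rfl
    rw [this, MulEquiv.orderOf_eq, hyo]
  obtain ⟨n, hnM, x, hxA, hxB⟩ := exists_conj_into_common_sylow S M
    (Subgroup.zpowers (g * y * g⁻¹)) (Subgroup.zpowers y)
    (Subgroup.zpowers_le.mpr hgyM) (Subgroup.zpowers_le.mpr hyM)
    (IsPGroup.of_card (n := 2) (by rw [Nat.card_zpowers, hgyo]; norm_num))
    (IsPGroup.of_card (n := 2) (by rw [Nat.card_zpowers, hyo]; norm_num))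
  have h1 := hxA _ (Subgroup.mem_zpowers _)
  have h2 := hxB _ (Subgroup.mem_zpowers _)
  -- rewrite as conjugates of `y`
  have e1 : x⁻¹ * (n * (g * y * g⁻¹) * n⁻¹) * x = (x⁻¹ * n * g) * y * (x⁻¹ * n * g)⁻¹ := by group
  have e2 : x⁻¹ * y * x = x⁻¹ * y * (x⁻¹)⁻¹ := by group
  rw [e1] at h1
  rw [e2] at h2
  have h3 := di_conj_quarter S e h q hh0 hh2 hq _ h1
  have h4 := di_conj_quarter S e h q hh0 hh2 hq _ h2
  rw [← hy] at h3 h4
  -- `x` normalizes `⟨y⟩`
  have hx1 : x * y * x⁻¹ = y ∨ x * y * x⁻¹ = y⁻¹ := by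
    rcases h4 with h4 | h4
    · left
      calc x * y * x⁻¹ = x * (x⁻¹ * y * (x⁻¹)⁻¹) * x⁻¹ := by rw [h4]
        _ = y := by group
    · right
      have : y = x * y⁻¹ * x⁻¹ := by
        calc y = x * (x⁻¹ * y * (x⁻¹)⁻¹) * x⁻¹ := by group
          _ = x * y⁻¹ * x⁻¹ := by rw [h4]
      calc x * y * x⁻¹ = (x * y⁻¹ * x⁻¹)⁻¹ := by group
        _ = y⁻¹ := by rw [← this]
  have hx2 : x * y⁻¹ * x⁻¹ = y ∨ x * y⁻¹ * x⁻¹ = y⁻¹ := by
    have : x * y⁻¹ * x⁻¹ = (x * y * x⁻¹)⁻¹ := by group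
    rw [this]
    rcases hx1 with h5 | h5
    · right; rw [h5]
    · left; rw [h5, inv_inv]
  have hg' : (n * g) * y * (n * g)⁻¹ = y ∨ (n * g) * y * (n * g)⁻¹ = y⁻¹ := by
    have e3 : (n * g) * y * (n * g)⁻¹ = x * ((x⁻¹ * n * g) * y * (x⁻¹ * n * g)⁻¹) * x⁻¹ := by group
    rw [e3]
    rcases h3 with h3 | h3
    · rw [h3]; exact hx1
    · rw [h3]; exact hx2
  -- `n * g` lies in the normalizer of `⟨y⟩`
  set N := Subgroup.normalizer (Subgroup.zpowers y : Set X) with hN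
  have hg'N : n * g ∈ N := by
    apply mem_normalizer_zpowers_of_conj_mem
    rcases hg' with h5 | h5
    · rw [h5]; exact Subgroup.mem_zpowers _
    · rw [h5]; exact Subgroup.inv_mem _ (Subgroup.mem_zpowers _)
  have hSN : (S : Subgroup X) ≤ N := di_sylow_le_normalizer_quarter S e q
  have hnpc := di_normalizer_quarter_npc S e hm0 h q hh0 hh2 hq
  obtain ⟨s, hs, hctl⟩ := npc_control hnpc (S.subtype hSN) ⟨n * g, hg'N⟩
  have hT : ∀ x : ↥N, x ∈ ((S.subtype hSN : Sylow 2 ↥N) : Subgroup ↥N) ↔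
      (x : X) ∈ (S : Subgroup X) := by
    intro x
    rw [Sylow.coe_subtype, Subgroup.mem_subgroupOf]
  refine ⟨(s : X), (hT s).mp hs, ?_⟩
  intro u hu
  have huS : u ∈ (S : Subgroup X) := hUS hu
  have hngu : (n * g) * u * (n * g)⁻¹ ∈ V := by
    have h5 := (Subgroup.mem_normalizer_iff.mp hnM _).mp (hgU u hu)
    have : (n * g) * u * (n * g)⁻¹ = n * (g * u * g⁻¹) * n⁻¹ := by group
    rw [this]; exact h5
  have h6 := hctl ⟨u, hSN huS⟩ ((hT _).mpr huS) ((hT _).mpr (hVS hngu))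
  have h7 : (n * g) * u * (n * g)⁻¹ = (s : X) * u * (s : X)⁻¹ := congrArg Subtype.val h6
  rw [← h7]; exact hngu

end

end Cfsg.Agent.Lib.Helper3
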