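import Mathlib
import Cfsg.Agent.Lib.Helper3.Di11
import Cfsg.Agent.Lib.Helper3.Basic

set_option autoImplicit false

namespace Cfsg.Agent.Lib.Helper3

open Cfsg.Agent.Lib.Lead

theorem zmod_even_ne_odd {m : ℕ} (h2 : 2 ∣ m) (a b : ZMod m) : 2 * a ≠ 2 * b + 1 := by
  intro h
  have := congrArg (ZMod.castHom h2 (ZMod 2)) h
  rw [map_mul, map_add, map_mul, map_one, map_ofNat] at this
  have h0 : (2 : ZMod 2) = 0 := by decide
  rw [h0, zero_mul, zero_mul, zero_add] at this
  exact absurd this (by decide)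

theorem zmod_parity' {m : ℕ} [NeZero m] (i : ZMod m) : ∃ j : ZMod m, i = 2 * j ∨ i = 2 * j + 1 := by
  refine ⟨((i.val / 2 : ℕ) : ZMod m), ?_⟩
  rcases Nat.mod_two_eq_zero_or_one i.val with h | h
  · left
    have : i.val = 2 * (i.val / 2) := by omega
    conv_lhs => rw [← ZMod.natCast_zmod_val i, this]
    push_cast; ring
  · right
    have : i.val = 2 * (i.val / 2) + 1 := by omega
    conv_lhs => rw [← ZMod.natCast_zmod_val i, this]
    push_cast; ring

section
variable {X : Type*} [Group X] [Finite X]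

/-- subgroups of the order of a Sylow subgroup are conjugate -/
theorem exists_conj_eq_of_card_eq_sylow {p : ℕ} [Fact p.Prime] (S : Sylow p X) (U V : Subgroup X)
    (hU : Nat.card ↥U = Nat.card ↥(S : Subgroup X)) (hV : Nat.card ↥V = Nat.card ↥(S : Subgroup X)) :
    ∃ x : X, U.map (MulAut.conj x).toMonoidHom = V := by
  obtain ⟨k, hk⟩ := IsPGroup.iff_card.mp S.isPGroup'
  have hUp : IsPGroup p ↥U := IsPGroup.of_card (n := k) (by rw [hU, hk])
  have hVp : IsPGroup p ↥V := IsPGroup.of_card (n := k) (by rw [hV, hk])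
  obtain ⟨P, hP⟩ := hUp.exists_le_sylow
  obtain ⟨P', hP'⟩ := hVp.exists_le_sylow
  have hUP : U = (P : Subgroup X) := by
    apply Subgroup.eq_of_le_of_card_ge hP
    rw [hU, P.card_eq_multiplicity, S.card_eq_multiplicity]
  have hVP : V = (P' : Subgroup X) := by
    apply Subgroup.eq_of_le_of_card_ge hP'
    rw [hV, P'.card_eq_multiplicity, S.card_eq_multiplicity]
  obtain ⟨g, hg⟩ := MulAction.exists_smul_eq X P P'
  refine ⟨g, ?_⟩
  rw [hUP, hVP, ← hg, Sylow.coe_subgroup_smul]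
  rfl

/-- a `p`-subgroup is conjugate into a given Sylow subgroup -/
theorem exists_map_conj_le_sylow {p : ℕ} [Fact p.Prime] (S : Sylow p X) (V : Subgroup X)
    (hV : IsPGroup p ↥V) : ∃ x : X, V.map (MulAut.conj x).toMonoidHom ≤ (S : Subgroup X) := by
  obtain ⟨P, hP⟩ := hV.exists_le_sylow
  obtain ⟨g, hg⟩ := MulAction.exists_smul_eq X P S
  refine ⟨g, ?_⟩
  rw [← hg, Sylow.coe_subgroup_smul]
  exact Subgroup.map_mono hP

end

section
variable {X : Type*} [Group X] {S : Subgroup X} {m : ℕ} (e : ↥S ≃* DihedralGroup m)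

theorem mem_diKlein (h : ZMod m) (hh2 : 2 * h = 0) (i : ZMod m) (g : X) :
    g ∈ diKlein e h hh2 i ↔ g = 1 ∨ g = diR e h ∨ g = diS e i ∨ g = diR e h * diS e i := Iff.rfl

theorem card_diKlein (h : ZMod m) (hh0 : h ≠ 0) (hh2 : 2 * h = 0) (i : ZMod m) :
    Nat.card ↥(diKlein e h hh2 i) = 4 := (isKleinFour_diKlein e h hh0 hh2 i).card_four

/-- a Klein four-subgroup of `S` is one of the `diKlein` -/
theorem di_klein_eq (h : ZMod m) (hh0 : h ≠ 0) (hh2 : 2 * h = 0) (U : Subgroup X) (hUS : U ≤ S)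
    (hU : IsKleinFour U) : ∃ i, U = diKlein e h hh2 i := by
  obtain ⟨h', i, hh'0, hh'2, hhU, hiU, hall⟩ := di_klein_struct e U hUS hU
  have hhh : h' = h := zmod_two_mul_unique h' h hh'2 hh2 hh'0 hh0
  subst hhh
  refine ⟨i, ?_⟩
  have hfin : Finite ↥(diKlein e h' hh2 i) :=
    Nat.finite_of_card_ne_zero (by rw [card_diKlein e h' hh0 hh2 i]; norm_num)
  apply Subgroup.eq_of_le_of_card_ge
  · intro g hg
    rcases hall g hg with rfl | rfl | rfl | rfl
    · exact Or.inl rfl
    · exact Or.inr (Or.inl rfl)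
    · exact Or.inr (Or.inr (Or.inl rfl))
    · refine Or.inr (Or.inr (Or.inr ?_))
      rw [diR_mul_diS, sub_eq_add_neg, zmod_neg_of_two_mul h' hh2]
  · rw [card_diKlein e h' hh0 hh2 i, hU.card_four]

/-- conjugating `diKlein` by a rotation -/
theorem diKlein_map_conj_diR (h : ZMod m) (hh0 : h ≠ 0) (hh2 : 2 * h = 0) (i j : ZMod m) :
    (diKlein e h hh2 i).map (MulAut.conj (diR e j)).toMonoidHom = diKlein e h hh2 (i - 2 * j) := by
  have hfin : Finite ↥(diKlein e h hh2 (i - 2 * j)) :=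
    Nat.finite_of_card_ne_zero (by rw [card_diKlein e h hh0 hh2]; norm_num)
  apply Subgroup.eq_of_le_of_card_ge
  · rintro _ ⟨g, hg, rfl⟩
    show diR e j * g * (diR e j)⁻¹ ∈ _
    rcases hg with rfl | rfl | rfl | rfl
    · rw [mul_one, mul_inv_cancel]; exact Or.inl rfl
    · rw [diR_conj_diR]; exact Or.inr (Or.inl rfl)
    · rw [diR_conj_diS]; exact Or.inr (Or.inr (Or.inl rfl))
    · refine Or.inr (Or.inr (Or.inr ?_))
      have : diR e j * (diR e h * diS e i) * (diR e j)⁻¹ =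
          (diR e j * diR e h * (diR e j)⁻¹) * (diR e j * diS e i * (diR e j)⁻¹) := by group
      rw [this, diR_conj_diR, diR_conj_diS]
  · rw [card_diKlein e h hh0 hh2,
      Subgroup.card_map_of_injective (MulAut.conj (diR e j)).injective, card_diKlein e h hh0 hh2]

end

end Cfsg.Agent.Lib.Helper3
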