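import Mathlib
import Cfsg.Agent.Lib.Helper7.SubgDefs
import Cfsg.Agent.Lib.Helper7.Subg_F
import Cfsg.Agent.S0801

set_option autoImplicit false
set_option linter.unusedSectionVars false
set_option linter.unusedVariables false

/-!
# Generalised Dickson transport

Two square-zero matrices `X, Y` with `X Y X = lam • X`, `Y X Y = lam • Y`, `lam ≠ 0`, span (with `X Y`, `Y X`)
a copy of `Mat₂`; if `1 + X, 1 + Y` lie in a subgroup `M` of `GL` and `lam² ≠ -1` (odd characteristic), then `M`
contains `1 + c • X` for every `c` in the prime-field closure of `lam`.  The rank-one case (`X`, `Y` transvection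
parts) is `Helper7.Subg.dickson_transport`; this version serves long root elements of orthogonal groups
(`X = LR_{u,w}(1) - 1` of rank two).
-/

namespace Cfsg.Agent.Lib.Helper3.DicksonGen

open Matrix Cfsg.Agent.Lib.Helper7.Subg

variable {F : Type*} [Field F] {ι : Type*} [Fintype ι] [DecidableEq ι]

/-- the transport map `Mat₂(F) → Matₙ(F)` attached to a system of matrix units -/
def gRho (E00 E01 E10 E11 : Matrix ι ι F) (A : Matrix (Fin 2) (Fin 2) F) : Matrix ι ι F :=
  1 + ((A 0 0 - 1) • E00 + A 0 1 • E01 + A 1 0 • E10 + (A 1 1 - 1) • E11)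

theorem gRho_one (E00 E01 E10 E11 : Matrix ι ι F) : gRho E00 E01 E10 E11 1 = 1 := by
  simp [gRho]

/-- the sixteen matrix-unit relations -/
structure Units2 (E00 E01 E10 E11 : Matrix ι ι F) : Prop where
  h0000 : E00 * E00 = E00
  h0001 : E00 * E01 = E01
  h0010 : E00 * E10 = 0
  h0011 : E00 * E11 = 0
  h0100 : E01 * E00 = 0
  h0101 : E01 * E01 = 0
  h0110 : E01 * E10 = E00
  h0111 : E01 * E11 = E01
  h1000 : E10 * E00 = E10
  h1001 : E10 * E01 = E11
  h1010 : E10 * E10 = 0
  h1011 : E10 * E11 = 0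
  h1100 : E11 * E00 = 0
  h1101 : E11 * E01 = 0
  h1110 : E11 * E10 = E10
  h1111 : E11 * E11 = E11

theorem gRho_mul {E00 E01 E10 E11 : Matrix ι ι F} (h : Units2 E00 E01 E10 E11)
    (A B : Matrix (Fin 2) (Fin 2) F) :
    gRho E00 E01 E10 E11 (A * B) = gRho E00 E01 E10 E11 A * gRho E00 E01 E10 E11 B := by
  simp only [gRho, Matrix.mul_apply, Fin.sum_univ_two]
  simp only [mul_add, add_mul, mul_one, one_mul, smul_mul_smul_comm, h.h0000, h.h0001, h.h0010, h.h0011,
    h.h0100, h.h0101, h.h0110, h.h0111, h.h1000, h.h1001, h.h1010, h.h1011, h.h1100, h.h1101, h.h1110, h.h1111,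
    smul_zero, add_zero, zero_add]
  module

/-- the matrix units attached to `X, Y` -/
theorem units2_of {X Y : Matrix ι ι F} {lam : F} (hne : lam ≠ 0) (hXX : X * X = 0) (hYY : Y * Y = 0)
    (hXYX : X * Y * X = lam • X) (hYXY : Y * X * Y = lam • Y) :
    Units2 (lam⁻¹ • (Y * X)) (lam⁻¹ • Y) X (lam⁻¹ • (X * Y)) := by
  have i1 : lam⁻¹ * lam = 1 := inv_mul_cancel₀ hne
  have hXYX' : X * (Y * X) = lam • X := by rw [← mul_assoc]; exact hXYX
  have hYXY' : Y * (X * Y) = lam • Y := by rw [← mul_assoc]; exact hYXY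
  have a1 : Y * X * (Y * X) = lam • (Y * X) := by
    rw [mul_assoc, ← mul_assoc X Y X, hXYX, mul_smul_comm]
  have a2 : X * Y * (X * Y) = lam • (X * Y) := by
    rw [mul_assoc, ← mul_assoc Y X Y, hYXY, mul_smul_comm]
  have z1 : Y * X * X = 0 := by rw [mul_assoc, hXX, mul_zero]
  have z2 : X * (X * Y) = 0 := by rw [← mul_assoc, hXX, zero_mul]
  have z3 : Y * (Y * X) = 0 := by rw [← mul_assoc, hYY, zero_mul]
  have z4 : X * Y * Y = 0 := by rw [mul_assoc, hYY, mul_zero]
  have z5 : Y * X * (X * Y) = 0 := by rw [mul_assoc, z2, mul_zero]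
  have z6 : X * Y * (Y * X) = 0 := by rw [mul_assoc, z3, mul_zero]
  refine ⟨?_, ?_, ?_, ?_, ?_, ?_, ?_, ?_, ?_, ?_, ?_, ?_, ?_, ?_, ?_, ?_⟩
  · rw [smul_mul_smul_comm, a1, smul_smul, mul_assoc, i1, mul_one]
  · rw [smul_mul_smul_comm, hYXY, smul_smul, mul_assoc, i1, mul_one]
  · rw [smul_mul_assoc, z1, smul_zero]
  · rw [smul_mul_smul_comm, z5, smul_zero]
  · rw [smul_mul_smul_comm, z3, smul_zero]
  · rw [smul_mul_smul_comm, hYY, smul_zero]
  · rw [smul_mul_assoc]
  · rw [smul_mul_smul_comm, hYXY', smul_smul, mul_assoc, i1, mul_one]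
  · rw [mul_smul_comm, hXYX', smul_smul, i1, one_smul]
  · rw [mul_smul_comm]
  · exact hXX
  · rw [mul_smul_comm, z2, smul_zero]
  · rw [smul_mul_smul_comm, z6, smul_zero]
  · rw [smul_mul_smul_comm, z4, smul_zero]
  · rw [smul_mul_assoc, hXYX, smul_smul, i1, one_smul]
  · rw [smul_mul_smul_comm, a2, smul_smul, mul_assoc, i1, mul_one]

/-- GENERALISED DICKSON TRANSPORT -/
theorem dickson_transport_gen [Fintype F] (h2 : (2 : F) ≠ 0) (M : Subgroup (GL ι F))
    (X Y : Matrix ι ι F) (lam : F) (hXX : X * X = 0) (hYY : Y * Y = 0)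
    (hXYX : X * Y * X = lam • X) (hYXY : Y * X * Y = lam • Y)
    (hM1 : Mm M (1 + X)) (hM2 : Mm M (1 + Y)) (hne : lam ≠ 0) (hsq : lam ^ 2 ≠ -1) :
    ∀ c ∈ Subfield.closure ({lam} : Set F), Mm M (1 + c • X) := by
  classical
  intro c hc
  have : Fintype (Subfield.closure ({lam} : Set F)) := Fintype.ofFinite _
  have hU := units2_of hne hXX hYY hXYX hYXY
  have key : ∀ A : Matrix.SpecialLinearGroup (Fin 2) (Subfield.closure ({lam} : Set F)),
      Mm M (gRho (lam⁻¹ • (Y * X)) (lam⁻¹ • Y) X (lam⁻¹ • (X * Y))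
        ((A : Matrix (Fin 2) (Fin 2) (Subfield.closure ({lam} : Set F))).map
          (Subfield.closure ({lam} : Set F)).subtype)) := by
    have h2E : (2 : Subfield.closure ({lam} : Set F)) ≠ 0 := by
      intro h
      apply h2
      have := congrArg ((Subfield.closure ({lam} : Set F)).subtype) h
      rw [map_ofNat, map_zero] at this
      exact this
    have hlam'0 : (⟨lam, Subfield.subset_closure rfl⟩ : Subfield.closure ({lam} : Set F)) ≠ 0 := by
      intro h
      apply hne
      have := congrArg ((Subfield.closure ({lam} : Set F)).subtype) h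
      simpa using this
    have hgen := pf_closure_top lam
    rcases Cfsg.Agent.S0801.result h2E _ hlam'0 hgen with ⟨htop, -⟩ | ⟨-, hbad, -⟩
    · intro A
      have hA : A ∈ Subgroup.closure
          {g : Matrix.SpecialLinearGroup (Fin 2) (Subfield.closure ({lam} : Set F)) |
          (g : Matrix (Fin 2) (Fin 2) (Subfield.closure ({lam} : Set F))) = !![1, 0; 1, 1] ∨
          (g : Matrix (Fin 2) (Fin 2) (Subfield.closure ({lam} : Set F))) =
            !![1, ⟨lam, Subfield.subset_closure rfl⟩; 0, 1]} := by rw [htop]; trivial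
      induction hA using Subgroup.closure_induction with
      | mem g hg =>
        rcases hg with hg | hg
        · rw [hg]
          have : gRho (lam⁻¹ • (Y * X)) (lam⁻¹ • Y) X (lam⁻¹ • (X * Y))
              ((!![1, 0; 1, 1] : Matrix (Fin 2) (Fin 2) (Subfield.closure ({lam} : Set F))).map
                (Subfield.closure ({lam} : Set F)).subtype) = 1 + X := by
            simp [gRho]
          rw [this]; exact hM1
        · rw [hg]
          have : gRho (lam⁻¹ • (Y * X)) (lam⁻¹ • Y) X (lam⁻¹ • (X * Y))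
              ((!![1, ⟨lam, Subfield.subset_closure rfl⟩; 0, 1] :
                Matrix (Fin 2) (Fin 2) (Subfield.closure ({lam} : Set F))).map
                (Subfield.closure ({lam} : Set F)).subtype) = 1 + Y := by
            simp [gRho, smul_smul, mul_inv_cancel₀ hne]
          rw [this]; exact hM2
      | one =>
        have : ((1 : Matrix.SpecialLinearGroup (Fin 2) (Subfield.closure ({lam} : Set F))) :
            Matrix (Fin 2) (Fin 2) (Subfield.closure ({lam} : Set F))).map
              (Subfield.closure ({lam} : Set F)).subtype = 1 := by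
          rw [Matrix.SpecialLinearGroup.coe_one]
          exact Matrix.map_one _ (map_zero _) (map_one _)
        rw [this, gRho_one]; exact Mm.one M
      | mul g h _ _ ihg ihh =>
        rw [Matrix.SpecialLinearGroup.coe_mul, Matrix.map_mul, gRho_mul hU]
        exact ihg.mul ihh
      | inv g _ ihg =>
        apply ihg.inv_of_mul_eq_one
        rw [← gRho_mul hU, ← Matrix.map_mul,
          ← Matrix.SpecialLinearGroup.coe_mul, mul_inv_cancel, Matrix.SpecialLinearGroup.coe_one,
          Matrix.map_one _ (map_zero _) (map_one _), gRho_one]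
    · exfalso
      apply hsq
      have := congrArg ((Subfield.closure ({lam} : Set F)).subtype) hbad
      simpa using this
  have hdet : (!![1, 0; (⟨c, hc⟩ : Subfield.closure ({lam} : Set F)), 1] :
      Matrix (Fin 2) (Fin 2) (Subfield.closure ({lam} : Set F))).det = 1 := by
    rw [Matrix.det_fin_two_of]; simp
  have := key ⟨_, hdet⟩
  have e : gRho (lam⁻¹ • (Y * X)) (lam⁻¹ • Y) X (lam⁻¹ • (X * Y))
      ((!![1, 0; (⟨c, hc⟩ : Subfield.closure ({lam} : Set F)), 1] :
        Matrix (Fin 2) (Fin 2) (Subfield.closure ({lam} : Set F))).map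
          (Subfield.closure ({lam} : Set F)).subtype) = 1 + c • X := by
    simp [gRho]
  rw [← e]
  exact this

end Cfsg.Agent.Lib.Helper3.DicksonGen
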