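/-
S4481 package PK-LAT (for helper8): the lattice lemma for the principal 2-block with dihedral defect group.
Mathlib only.
-/
import Mathlib

set_option autoImplicit false
set_option linter.unusedSectionVars false

namespace Cfsg.Agent.Lib.Helper8.DihB

section LAT
open Finset

variable {X : Type*} [Fintype X] [DecidableEq X]

/-- values of an integer vector of norm `< 4` -/
theorem lat_values (v : X → ℤ) (n : ℤ) (hn : n < 4) (hv : ∑ χ, v χ * v χ = n) (χ : X) :
    v χ = -1 ∨ v χ = 0 ∨ v χ = 1 := by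
  have h1 : v χ * v χ ≤ ∑ χ, v χ * v χ :=
    Finset.single_le_sum (f := fun χ => v χ * v χ) (fun i _ => mul_self_nonneg _) (Finset.mem_univ χ)
  have h3 : -2 < v χ := by nlinarith
  have h4 : v χ < 2 := by nlinarith
  omega

theorem lat_card_support (v : X → ℤ) (hv : ∀ χ, v χ = -1 ∨ v χ = 0 ∨ v χ = 1) :
    ((Finset.univ.filter fun χ => v χ ≠ 0).card : ℤ) = ∑ χ, v χ * v χ := by
  rw [Finset.card_filter]
  push_cast
  refine Finset.sum_congr rfl fun χ _ => ?_
  rcases hv χ with h | h | h <;> simp [h]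

theorem lat_sum_pair (v f : X → ℤ) (p p' : X) (hpp' : p ≠ p') (hout : ∀ χ, χ ≠ p → χ ≠ p' → v χ = 0) :
    ∑ χ, v χ * f χ = v p * f p + v p' * f p' := by
  rw [← Finset.sum_pair hpp' (f := fun χ => v χ * f χ)]
  symm
  apply Finset.sum_subset (Finset.subset_univ _)
  intro χ _ hχ
  simp only [Finset.mem_insert, Finset.mem_singleton, not_or] at hχ
  rw [hout χ hχ.1 hχ.2, zero_mul]

/-- an integer vector of norm 2 vanishing at `o`, of inner product 1 with a positive vector, is `e_P - e_M` -/
theorem lat_norm_two (o : X) (v d : X → ℤ) (hd : ∀ χ, 0 < d χ) (hvo : v o = 0)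
    (hvv : ∑ χ, v χ * v χ = 2) (hvd : ∑ χ, v χ * d χ = 1) :
    ∃ P M : X, P ≠ M ∧ P ≠ o ∧ M ≠ o ∧
      (∀ χ, v χ = (if χ = P then 1 else 0) - (if χ = M then 1 else 0)) := by
  have hval := lat_values v 2 (by norm_num) hvv
  have hcard := lat_card_support v hval
  rw [hvv] at hcard
  have hc2 : (univ.filter fun χ => v χ ≠ 0).card = 2 := by exact_mod_cast hcard
  obtain ⟨p, p', hpp', hS⟩ := Finset.card_eq_two.1 hc2
  have hmem : ∀ χ, v χ ≠ 0 ↔ (χ = p ∨ χ = p') := by
    intro χ
    have : χ ∈ univ.filter (fun χ => v χ ≠ 0) ↔ χ ∈ ({p, p'} : Finset X) := by rw [hS]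
    simpa using this
  have hp : v p ≠ 0 := (hmem p).2 (Or.inl rfl)
  have hp' : v p' ≠ 0 := (hmem p').2 (Or.inr rfl)
  have hout : ∀ χ, χ ≠ p → χ ≠ p' → v χ = 0 := by
    intro χ h1 h2
    by_contra h
    rcases (hmem χ).1 h with h | h
    · exact h1 h
    · exact h2 h
  have hsum := lat_sum_pair v d p p' hpp' hout
  rw [hvd] at hsum
  have hdp := hd p
  have hdp' := hd p'
  have hpo : p ≠ o := fun h => hp (h ▸ hvo)
  have hp'o : p' ≠ o := fun h => hp' (h ▸ hvo)
  rcases hval p with h1 | h1 | h1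
  · rcases hval p' with h2 | h2 | h2
    · rw [h1, h2] at hsum; exfalso; nlinarith
    · exact absurd h2 hp'
    · refine ⟨p', p, hpp'.symm, hp'o, hpo, ?_⟩
      intro χ
      by_cases hχ : χ = p
      · subst hχ; rw [h1, if_neg hpp', if_pos rfl]; norm_num
      · by_cases hχ' : χ = p'
        · subst hχ'; rw [h2, if_pos rfl, if_neg hχ]; norm_num
        · rw [hout χ hχ hχ', if_neg hχ', if_neg hχ]; norm_num
  · exact absurd h1 hp
  · rcases hval p' with h2 | h2 | h2
    · refine ⟨p, p', hpp', hpo, hp'o, ?_⟩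
      intro χ
      by_cases hχ : χ = p
      · subst hχ; rw [h1, if_pos rfl, if_neg hpp']; norm_num
      · by_cases hχ' : χ = p'
        · subst hχ'; rw [h2, if_neg hχ, if_pos rfl]; norm_num
        · rw [hout χ hχ hχ', if_neg hχ', if_neg hχ]; norm_num
    · exact absurd h2 hp'
    · rw [h1, h2] at hsum; exfalso; nlinarith

theorem lat_ite_cases (p : Prop) [Decidable p] :
    (p ∧ (if p then (1 : ℤ) else 0) = 1) ∨ (¬ p ∧ (if p then (1 : ℤ) else 0) = 0) := by
  by_cases h : p
  · exact Or.inl ⟨h, if_pos h⟩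
  · exact Or.inr ⟨h, if_neg h⟩

/-- the indicator of `o` -/
def latE (o : X) (χ : X) : ℤ := if χ = o then 1 else 0

theorem latE_self (o : X) : latE o o = 1 := if_pos rfl

theorem latE_ne (o : X) {χ : X} (h : χ ≠ o) : latE o χ = 0 := if_neg h

theorem lat_sum_latE_mul (o : X) (f : X → ℤ) : ∑ χ, latE o χ * f χ = f o := by
  unfold latE
  simp [ite_mul, Finset.sum_ite_eq']

theorem lat_sum_mul_latE (o : X) (f : X → ℤ) : ∑ χ, f χ * latE o χ = f o := by
  unfold latE
  simp [mul_ite, Finset.sum_ite_eq']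

theorem lat_shift_inner (o : X) (u v : X → ℤ) :
    ∑ χ, (u χ + latE o χ) * (v χ + latE o χ) = ∑ χ, u χ * v χ + u o + v o + 1 := by
  have h : ∀ χ, (u χ + latE o χ) * (v χ + latE o χ)
      = u χ * v χ + u χ * latE o χ + latE o χ * v χ + latE o χ * latE o χ := fun χ => by ring
  simp only [h, Finset.sum_add_distrib, lat_sum_mul_latE, lat_sum_latE_mul, latE_self]

theorem lat_shift_d (o : X) (u d : X → ℤ) :
    ∑ χ, (u χ + latE o χ) * d χ = ∑ χ, u χ * d χ + d o := by
  simp only [add_mul, Finset.sum_add_distrib, lat_sum_latE_mul]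

theorem lat_inner_diff (a b c e : X) :
    ∑ χ, ((if χ = a then (1 : ℤ) else 0) - (if χ = b then 1 else 0)) *
      ((if χ = c then (1 : ℤ) else 0) - (if χ = e then 1 else 0))
      = (if a = c then 1 else 0) - (if a = e then 1 else 0) - (if b = c then 1 else 0)
        + (if b = e then 1 else 0) := by
  simp only [sub_mul, mul_sub, Finset.sum_sub_distrib, ite_mul, one_mul, zero_mul, Finset.sum_ite_eq',
    Finset.mem_univ, if_true]
  ring

theorem lat_inner_right_diff (v : X → ℤ) (a b : X) :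
    ∑ χ, v χ * ((if χ = a then (1 : ℤ) else 0) - (if χ = b then 1 else 0)) = v a - v b := by
  simp only [mul_sub, Finset.sum_sub_distrib, mul_ite, mul_one, mul_zero, Finset.sum_ite_eq',
    Finset.mem_univ, if_true]

/-- the good configuration gives the conclusion -/
theorem lat_finish {T : Type*} (o : X) (w : T → X → ℤ) (x : X → ℤ)
    (hsupp : ∀ χ, (∃ j, w j χ ≠ 0) ∨ x χ ≠ 0)
    (hwo : ∀ j, w j o = -1) (hxo : x o = -1)
    (hXX : ∑ χ, (x χ + latE o χ) * (x χ + latE o χ) = 3)
    (s : ℤ) (hs : s = 1 ∨ s = -1) (b : X) (a : T → X) (ha : Function.Injective a) (hab : ∀ j, a j ≠ b)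
    (hW : ∀ j χ, w j χ + latE o χ = s * ((if χ = a j then 1 else 0) - (if χ = b then 1 else 0)))
    (hXb : x b + latE o b = -s) (hXa : ∀ j, x (a j) + latE o (a j) = 0) :
    ∃ (b c₂ c₃ : X) (a : T → X) (s s₂ s₃ : ℤ), (s = 1 ∨ s = -1) ∧ (s₂ = 1 ∨ s₂ = -1) ∧
      (s₃ = 1 ∨ s₃ = -1) ∧ Function.Injective a ∧ b ≠ o ∧ c₂ ≠ o ∧ c₃ ≠ o ∧ b ≠ c₂ ∧ b ≠ c₃ ∧
      c₂ ≠ c₃ ∧ (∀ j, a j ≠ o ∧ a j ≠ b ∧ a j ≠ c₂ ∧ a j ≠ c₃) ∧
      (∀ χ, χ = o ∨ χ = b ∨ χ = c₂ ∨ χ = c₃ ∨ ∃ j, χ = a j) ∧
      (∀ j χ, w j χ = -(if χ = o then 1 else 0) - s * (if χ = b then 1 else 0) +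
        s * (if χ = a j then 1 else 0)) ∧
      (∀ χ, x χ = -(if χ = o then 1 else 0) - s * (if χ = b then 1 else 0) -
        s₂ * (if χ = c₂ then 1 else 0) - s₃ * (if χ = c₃ then 1 else 0)) := by
  have hs0 : s ≠ 0 := by rcases hs with h | h <;> rw [h] <;> norm_num
  have hXo : x o + latE o o = 0 := by rw [hxo, latE_self]; norm_num
  have hXval := lat_values (fun χ => x χ + latE o χ) 3 (by norm_num) hXX
  have hcard := lat_card_support (fun χ => x χ + latE o χ) hXval
  rw [hXX] at hcard
  have hc3 : (univ.filter fun χ => x χ + latE o χ ≠ 0).card = 3 := by exact_mod_cast hcard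
  have hbo : b ≠ o := by
    intro h
    rw [h, hXo] at hXb
    exact hs0 (by linarith)
  have hbS : b ∈ univ.filter (fun χ => x χ + latE o χ ≠ 0) := by
    simp only [Finset.mem_filter, Finset.mem_univ, true_and]
    rw [hXb]; exact neg_ne_zero.2 hs0
  have hc2 : ((univ.filter fun χ => x χ + latE o χ ≠ 0).erase b).card = 2 := by
    rw [Finset.card_erase_of_mem hbS, hc3]
  obtain ⟨c₂, c₃, hc23, hS⟩ := Finset.card_eq_two.1 hc2
  have hmem : ∀ χ, (χ ≠ b ∧ x χ + latE o χ ≠ 0) ↔ (χ = c₂ ∨ χ = c₃) := by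
    intro χ
    have : χ ∈ (univ.filter fun χ => x χ + latE o χ ≠ 0).erase b ↔ χ ∈ ({c₂, c₃} : Finset X) := by
      rw [hS]
    simpa using this
  have hc₂ := (hmem c₂).2 (Or.inl rfl)
  have hc₃ := (hmem c₃).2 (Or.inr rfl)
  have hc₂o : c₂ ≠ o := fun h => hc₂.2 (h ▸ hXo)
  have hc₃o : c₃ ≠ o := fun h => hc₃.2 (h ▸ hXo)
  have hao : ∀ j, a j ≠ o := by
    intro j h
    have h1 := hW j (a j)
    rw [if_pos rfl, if_neg (hab j)] at h1
    rw [h, hwo j, latE_self] at h1
    exact hs0 (by linarith)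
  have hout : ∀ χ, χ ≠ b → χ ≠ c₂ → χ ≠ c₃ → x χ + latE o χ = 0 := by
    intro χ h1 h2 h3
    by_contra h
    rcases (hmem χ).1 ⟨h1, h⟩ with h' | h'
    · exact h2 h'
    · exact h3 h'
  have hs₂ : -(x c₂ + latE o c₂) = 1 ∨ -(x c₂ + latE o c₂) = -1 := by
    rcases hXval c₂ with h | h | h
    · left; rw [h]; norm_num
    · exact absurd h hc₂.2
    · right; rw [h]
  have hs₃ : -(x c₃ + latE o c₃) = 1 ∨ -(x c₃ + latE o c₃) = -1 := by
    rcases hXval c₃ with h | h | h
    · left; rw [h]; norm_num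
    · exact absurd h hc₃.2
    · right; rw [h]
  refine ⟨b, c₂, c₃, a, s, -(x c₂ + latE o c₂), -(x c₃ + latE o c₃), hs, hs₂, hs₃, ha, hbo, hc₂o, hc₃o,
    hc₂.1.symm, hc₃.1.symm, hc23, ?_, ?_, ?_, ?_⟩
  · intro j
    refine ⟨hao j, hab j, ?_, ?_⟩
    · intro h; exact hc₂.2 (h ▸ hXa j)
    · intro h; exact hc₃.2 (h ▸ hXa j)
  · intro χ
    by_cases hχo : χ = o
    · exact Or.inl hχo
    · right
      rcases hsupp χ with ⟨j, hj⟩ | hx
      · have h1 := hW j χ
        rw [latE_ne o hχo, add_zero] at h1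
        by_cases hχb : χ = b
        · exact Or.inl hχb
        · right; right; right
          refine ⟨j, ?_⟩
          by_contra hχa
          rw [if_neg hχa, if_neg hχb, sub_zero, mul_zero] at h1
          exact hj h1
      · by_cases hχb : χ = b
        · exact Or.inl hχb
        · right
          have h1 : x χ + latE o χ ≠ 0 := by rw [latE_ne o hχo, add_zero]; exact hx
          rcases (hmem χ).1 ⟨hχb, h1⟩ with h | h
          · exact Or.inl h
          · exact Or.inr (Or.inl h)
  · intro j χ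
    have h1 := hW j χ
    unfold latE at h1
    linear_combination h1
  · intro χ
    show x χ = -(latE o χ) - s * (if χ = b then 1 else 0)
      - -(x c₂ + latE o c₂) * (if χ = c₂ then 1 else 0) - -(x c₃ + latE o c₃) * (if χ = c₃ then 1 else 0)
    by_cases h1 : χ = b
    · subst h1
      rw [if_pos rfl, if_neg hc₂.1.symm, if_neg hc₃.1.symm]
      linear_combination hXb
    · by_cases h2 : χ = c₂
      · subst h2
        rw [if_neg h1, if_pos rfl, if_neg hc23]
        ring
      · by_cases h3 : χ = c₃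
        · subst h3
          rw [if_neg h1, if_neg h2, if_pos rfl]
          ring
        · rw [if_neg h1, if_neg h2, if_neg h3]
          linear_combination hout χ h1 h2 h3

/-- all nonzero values `+1` and at least three of them: the inner product with `d` is at least 3 -/
theorem lat_pos_contra {T : Type*} [Fintype T] (v d : X → ℤ) (hd : ∀ χ, 0 < d χ)
    (hval : ∀ χ, v χ = -1 ∨ v χ = 0 ∨ v χ = 1)
    (hc3 : (univ.filter fun χ => v χ ≠ 0).card = 3) (P : T → X) (hP : Function.Injective P)
    (hPv : ∀ j, v (P j) = 1) (hT3 : 3 ≤ Fintype.card T) (hvd : ∑ χ, v χ * d χ = 1) : False := by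
  have hsub : (univ.filter fun χ => v χ = 1) ⊆ (univ.filter fun χ => v χ ≠ 0) := by
    intro χ hχ
    simp only [Finset.mem_filter, Finset.mem_univ, true_and] at hχ ⊢
    rw [hχ]; norm_num
  have hcard1 : 3 ≤ (univ.filter fun χ => v χ = 1).card := by
    calc 3 ≤ Fintype.card T := hT3
      _ = (Finset.univ : Finset T).card := Finset.card_univ.symm
      _ ≤ (univ.filter fun χ => v χ = 1).card := by
        apply Finset.card_le_card_of_injOn P
        · intro j _
          simp only [Finset.coe_filter, Finset.mem_univ, true_and, Set.mem_setOf_eq]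
          exact hPv j
        · exact hP.injOn
  have heq : (univ.filter fun χ => v χ = 1) = (univ.filter fun χ => v χ ≠ 0) :=
    Finset.eq_of_subset_of_card_le hsub (by rw [hc3]; exact hcard1)
  have hall : ∀ χ, v χ = 0 ∨ v χ = 1 := by
    intro χ
    by_cases h : v χ = 0
    · exact Or.inl h
    · right
      have : χ ∈ univ.filter (fun χ => v χ ≠ 0) := by simp [h]
      rw [← heq] at this
      simpa using this
  have h1 : ∑ χ, v χ * v χ ≤ ∑ χ, v χ * d χ := by
    apply Finset.sum_le_sum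
    intro χ _
    rcases hall χ with h | h
    · rw [h]; simp
    · rw [h]; have := hd χ; linarith
  have h2 := lat_card_support v hval
  rw [hc3] at h2
  rw [hvd, ← h2] at h1
  norm_num at h1

/-- all nonzero values `-1`: the inner product with `d` is not positive -/
theorem lat_neg_contra {T : Type*} [Fintype T] (v d : X → ℤ) (hd : ∀ χ, 0 < d χ)
    (_hval : ∀ χ, v χ = -1 ∨ v χ = 0 ∨ v χ = 1)
    (hc3 : (univ.filter fun χ => v χ ≠ 0).card = 3) (M : T → X) (hM : Function.Injective M)
    (hMv : ∀ j, v (M j) = -1) (hT3 : 3 ≤ Fintype.card T) (hvd : ∑ χ, v χ * d χ = 1) : False := by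
  have hsub : (univ.filter fun χ => v χ = -1) ⊆ (univ.filter fun χ => v χ ≠ 0) := by
    intro χ hχ
    simp only [Finset.mem_filter, Finset.mem_univ, true_and] at hχ ⊢
    rw [hχ]; norm_num
  have hcard1 : 3 ≤ (univ.filter fun χ => v χ = -1).card := by
    calc 3 ≤ Fintype.card T := hT3
      _ = (Finset.univ : Finset T).card := Finset.card_univ.symm
      _ ≤ (univ.filter fun χ => v χ = -1).card := by
        apply Finset.card_le_card_of_injOn M
        · intro j _
          simp only [Finset.coe_filter, Finset.mem_univ, true_and, Set.mem_setOf_eq]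
          exact hMv j
        · exact hM.injOn
  have heq : (univ.filter fun χ => v χ = -1) = (univ.filter fun χ => v χ ≠ 0) :=
    Finset.eq_of_subset_of_card_le hsub (by rw [hc3]; exact hcard1)
  have hall : ∀ χ, v χ = 0 ∨ v χ = -1 := by
    intro χ
    by_cases h : v χ = 0
    · exact Or.inl h
    · right
      have : χ ∈ univ.filter (fun χ => v χ ≠ 0) := by simp [h]
      rw [← heq] at this
      simpa using this
  have h1 : ∑ χ, v χ * d χ ≤ ∑ _χ : X, (0 : ℤ) := by
    apply Finset.sum_le_sum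
    intro χ _
    rcases hall χ with h | h
    · rw [h]; simp
    · rw [h]; have := hd χ; linarith
  rw [hvd] at h1
  simp at h1

theorem dihedral_lattice {X T : Type*} [Fintype X] [DecidableEq X] [Fintype T] [DecidableEq T]
    (o : X) (w : T → X → ℤ) (x : X → ℤ) (d : X → ℤ)
    (hT : Nonempty T) (hT2 : Fintype.card T ≠ 2)
    (hd : ∀ χ, 0 < d χ) (hdo : d o = 1)
    (hwo : ∀ j, w j o = -1) (hxo : x o = -1)
    (hww : ∀ j k, ∑ χ, w j χ * w k χ = 2 + if j = k then 1 else 0)
    (hxw : ∀ j, ∑ χ, x χ * w j χ = 2)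
    (hxx : ∑ χ, x χ * x χ = 4)
    (hwd : ∀ j, ∑ χ, w j χ * d χ = 0)
    (hxd : ∑ χ, x χ * d χ = 0)
    (hsupp : ∀ χ, (∃ j, w j χ ≠ 0) ∨ x χ ≠ 0) :
    ∃ (b c₂ c₃ : X) (a : T → X) (s s₂ s₃ : ℤ), (s = 1 ∨ s = -1) ∧ (s₂ = 1 ∨ s₂ = -1) ∧
      (s₃ = 1 ∨ s₃ = -1) ∧ Function.Injective a ∧ b ≠ o ∧ c₂ ≠ o ∧ c₃ ≠ o ∧ b ≠ c₂ ∧ b ≠ c₃ ∧
      c₂ ≠ c₃ ∧ (∀ j, a j ≠ o ∧ a j ≠ b ∧ a j ≠ c₂ ∧ a j ≠ c₃) ∧
      (∀ χ, χ = o ∨ χ = b ∨ χ = c₂ ∨ χ = c₃ ∨ ∃ j, χ = a j) ∧
      (∀ j χ, w j χ = -(if χ = o then 1 else 0) - s * (if χ = b then 1 else 0) +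
        s * (if χ = a j then 1 else 0)) ∧
      (∀ χ, x χ = -(if χ = o then 1 else 0) - s * (if χ = b then 1 else 0) -
        s₂ * (if χ = c₂ then 1 else 0) - s₃ * (if χ = c₃ then 1 else 0)) := by
  -- the shifted vectors
  have hWo : ∀ j, w j o + latE o o = 0 := fun j => by rw [hwo, latE_self]; norm_num
  have hXo : x o + latE o o = 0 := by rw [hxo, latE_self]; norm_num
  have hWW : ∀ j k, ∑ χ, (w j χ + latE o χ) * (w k χ + latE o χ) = 1 + if j = k then 1 else 0 := by
    intro j k
    rw [lat_shift_inner, hww, hwo, hwo]; ring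
  have hXW : ∀ j, ∑ χ, (x χ + latE o χ) * (w j χ + latE o χ) = 1 := by
    intro j
    rw [lat_shift_inner, hxw, hwo, hxo]; ring
  have hXX : ∑ χ, (x χ + latE o χ) * (x χ + latE o χ) = 3 := by
    rw [lat_shift_inner, hxx, hxo]; ring
  have hWd : ∀ j, ∑ χ, (w j χ + latE o χ) * d χ = 1 := by
    intro j
    rw [lat_shift_d, hwd, hdo]; ring
  have hXd : ∑ χ, (x χ + latE o χ) * d χ = 1 := by
    rw [lat_shift_d, hxd, hdo]; ring
  -- structure of the `W j`
  have hPM : ∀ j, ∃ P M : X, P ≠ M ∧ P ≠ o ∧ M ≠ o ∧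
      (∀ χ, w j χ + latE o χ = (if χ = P then 1 else 0) - (if χ = M then 1 else 0)) := fun j =>
    lat_norm_two o (fun χ => w j χ + latE o χ) d hd (hWo j) (by have := hWW j j; simpa using this) (hWd j)
  choose P M hPM hPo hMo hWf using hPM
  -- `X0`
  have hXval := lat_values (fun χ => x χ + latE o χ) 3 (by norm_num) hXX
  have hcard := lat_card_support (fun χ => x χ + latE o χ) hXval
  rw [hXX] at hcard
  have hc3 : (univ.filter fun χ => x χ + latE o χ ≠ 0).card = 3 := by exact_mod_cast hcard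
  -- pairwise relations
  have hrel : ∀ j k, j ≠ k → (P j = P k ∧ M j ≠ M k) ∨ (M j = M k ∧ P j ≠ P k) := by
    intro j k hjk
    have h1 := hWW j k
    rw [if_neg hjk, add_zero] at h1
    simp only [hWf] at h1
    rw [lat_inner_diff] at h1
    have hj := hPM j
    have hk := hPM k
    rcases lat_ite_cases (P j = P k) with ⟨e1, f1⟩ | ⟨e1, f1⟩ <;>
    rcases lat_ite_cases (M j = M k) with ⟨e2, f2⟩ | ⟨e2, f2⟩ <;>
    rcases lat_ite_cases (P j = M k) with ⟨e3, f3⟩ | ⟨e3, f3⟩ <;>
    rcases lat_ite_cases (M j = P k) with ⟨e4, f4⟩ | ⟨e4, f4⟩ <;>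
    rw [f1, f2, f3, f4] at h1 <;>
      first
        | (exfalso; omega)
        | exact Or.inl ⟨e1, e2⟩
        | exact Or.inr ⟨e2, e1⟩
        | (exfalso; exact hj (e3.trans e2.symm))
        | (exfalso; exact hj (e1.trans e4.symm))
  -- pattern of `X0` on each edge
  have hpat : ∀ j, (x (P j) + latE o (P j) = 1 ∧ x (M j) + latE o (M j) = 0) ∨
      (x (P j) + latE o (P j) = 0 ∧ x (M j) + latE o (M j) = -1) := by
    intro j
    have h1 := hXW j
    simp only [hWf] at h1
    rw [lat_inner_right_diff (fun χ => x χ + latE o χ)] at h1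
    have h1' : (x (P j) + latE o (P j)) - (x (M j) + latE o (M j)) = 1 := h1
    have hp : x (P j) + latE o (P j) = -1 ∨ x (P j) + latE o (P j) = 0 ∨ x (P j) + latE o (P j) = 1 :=
      hXval (P j)
    have hm : x (M j) + latE o (M j) = -1 ∨ x (M j) + latE o (M j) = 0 ∨ x (M j) + latE o (M j) = 1 :=
      hXval (M j)
    rcases hp with h | h | h <;> rcases hm with h' | h' | h' <;>
      first | (left; exact ⟨h, h'⟩) | (right; exact ⟨h, h'⟩) | (exfalso; omega)
  -- star
  have hstar : (∀ j k, M j = M k) ∨ (∀ j k, P j = P k) := by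
    by_cases h : ∃ j k, j ≠ k ∧ P j = P k
    · right
      obtain ⟨j, k, hjk, hP⟩ := h
      have hMjk : M j ≠ M k := by
        rcases hrel j k hjk with h | h
        · exact h.2
        · exact absurd hP h.2
      have hl : ∀ l, P l = P j := by
        intro l
        by_cases hlj : l = j
        · rw [hlj]
        by_cases hlk : l = k
        · rw [hlk, hP]
        rcases hrel l j hlj with h1 | h1
        · exact h1.1
        · rcases hrel l k hlk with h2 | h2
          · rw [h2.1, hP]
          · exact absurd (h1.1.symm.trans h2.1) hMjk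
      intro j' k'
      rw [hl j', hl k']
    · left
      simp only [not_exists, not_and] at h
      intro j k
      by_cases hjk : j = k
      · rw [hjk]
      rcases hrel j k hjk with h1 | h1
      · exact absurd h1.1 (h j k hjk)
      · exact h1.1
  obtain ⟨j0⟩ := hT
  have hTcard : Fintype.card T = 1 ∨ 3 ≤ Fintype.card T := by
    have : 0 < Fintype.card T := Fintype.card_pos_iff.2 ⟨j0⟩
    omega
  rcases hstar with hMc | hPc
  · -- common tail
    have hPinj : Function.Injective P := by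
      intro j k hjk
      by_contra hne
      rcases hrel j k hne with h | h
      · exact h.2 (hMc j k)
      · exact h.2 hjk
    rcases hpat j0 with h0 | h0
    · -- `X0 (M j0) = 0`: all heads have value 1
      have hall : ∀ j, x (P j) + latE o (P j) = 1 := by
        intro j
        rcases hpat j with h | h
        · exact h.1
        · rw [hMc j j0, h0.2] at h; exact absurd h.2 (by norm_num)
      rcases hTcard with h1 | h3
      · -- a single edge: use its head as centre
        have hsub : ∀ j, j = j0 := by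
          have := Fintype.card_le_one_iff.1 (le_of_eq h1)
          intro j; exact this j j0
        refine lat_finish o w x hsupp hwo hxo hXX (-1) (Or.inr rfl) (P j0) (fun _ => M j0) ?_ ?_ ?_ ?_ ?_
        · intro j k _; rw [hsub j, hsub k]
        · intro j; exact (hPM j0).symm
        · intro j χ
          rw [hsub j, hWf]; ring
        · rw [h0.1]; norm_num
        · intro j; exact h0.2
      · exact (lat_pos_contra (fun χ => x χ + latE o χ) d hd hXval hc3 P hPinj hall h3 hXd).elim
    · -- `X0 (M j0) = -1`: the good configuration with `s = 1`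
      have hall : ∀ j, x (P j) + latE o (P j) = 0 := by
        intro j
        rcases hpat j with h | h
        · rw [hMc j j0, h0.2] at h; exact absurd h.2 (by norm_num)
        · exact h.1
      refine lat_finish o w x hsupp hwo hxo hXX 1 (Or.inl rfl) (M j0) P hPinj ?_ ?_ ?_ hall
      · intro j; rw [← hMc j j0]; exact hPM j
      · intro j χ
        rw [hWf, hMc j j0]; ring
      · rw [h0.2]
  · -- common head
    have hMinj : Function.Injective M := by
      intro j k hjk
      by_contra hne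
      rcases hrel j k hne with h | h
      · exact h.2 hjk
      · exact h.2 (hPc j k)
    rcases hpat j0 with h0 | h0
    · -- `X0 (P j0) = 1`: the good configuration with `s = -1`
      have hall : ∀ j, x (M j) + latE o (M j) = 0 := by
        intro j
        rcases hpat j with h | h
        · exact h.2
        · rw [hPc j j0, h0.1] at h; exact absurd h.1 (by norm_num)
      refine lat_finish o w x hsupp hwo hxo hXX (-1) (Or.inr rfl) (P j0) M hMinj ?_ ?_ ?_ hall
      · intro j; rw [← hPc j j0]; exact (hPM j).symm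
      · intro j χ
        rw [hWf, hPc j j0]; ring
      · rw [h0.1]; norm_num
    · -- `X0 (P j0) = 0`: all tails have value -1
      have hall : ∀ j, x (M j) + latE o (M j) = -1 := by
        intro j
        rcases hpat j with h | h
        · rw [hPc j j0, h0.1] at h; exact absurd h.1 (by norm_num)
        · exact h.2
      rcases hTcard with h1 | h3
      · have hsub : ∀ j, j = j0 := by
          have := Fintype.card_le_one_iff.1 (le_of_eq h1)
          intro j; exact this j j0
        refine lat_finish o w x hsupp hwo hxo hXX 1 (Or.inl rfl) (M j0) (fun _ => P j0) ?_ ?_ ?_ ?_ ?_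
        · intro j k _; rw [hsub j, hsub k]
        · intro j; exact hPM j0
        · intro j χ
          rw [hsub j, hWf]; ring
        · rw [h0.2]
        · intro j; exact h0.1
      · exact (lat_neg_contra (fun χ => x χ + latE o χ) d hd hXval hc3 M hMinj hall h3 hXd).elim

end LAT

end Cfsg.Agent.Lib.Helper8.DihB
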