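import Mathlib
set_option autoImplicit false
set_option linter.unusedSectionVars false
set_option linter.style.haveILetI false

/-!
Fixed cosets of an element in a group with a cell decomposition of rank two: the numbers of fixed cosets of
the two maximal parabolic subgroups add up to the number of fixed cosets of the Borel subgroup plus one.
Consequence: an element of prime order commuting with such an element is conjugate into a parabolic subgroup.
-/

namespace Cfsg.Agent.Lib.Helper3.EulerFix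

variable {G : Type*} [Group G]

/-- the cell decomposition of rank two -/
structure CellData (B P₁ P₂ : Subgroup G) (S₁ S₂ C : Set G) : Prop where
  le₁ : B ≤ P₁
  le₂ : B ≤ P₂
  cover : ∀ g : G, g ∈ S₁ ∨ g ∈ S₂ ∨ g ∈ C
  stabL₁ : ∀ b ∈ B, ∀ g ∈ S₁, b * g ∈ S₁
  stabR₁ : ∀ b ∈ B, ∀ g ∈ S₁, g * b ∈ S₁
  stabL₂ : ∀ b ∈ B, ∀ g ∈ S₂, b * g ∈ S₂
  stabR₂ : ∀ b ∈ B, ∀ g ∈ S₂, g * b ∈ S₂
  inter : ∀ g, g ∈ S₁ → g ∈ S₂ → g ∈ B
  one₁ : (1 : G) ∈ S₁
  one₂ : (1 : G) ∈ S₂
  inj₁ : ∀ g ∈ S₁, ∀ p ∈ P₁, g * p ∈ S₁ → p ∈ B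
  inj₂ : ∀ g ∈ S₂, ∀ p ∈ P₂, g * p ∈ S₂ → p ∈ B
  surj₁ : ∀ g : G, ∃ p ∈ P₁, g * p ∈ S₁
  surj₂ : ∀ g : G, ∃ p ∈ P₂, g * p ∈ S₂

/-- the cosets with a representative in a given set -/
def cellSet (B : Subgroup G) (S : Set G) : Set (G ⧸ B) := {x | ∃ g ∈ S, (QuotientGroup.mk g : G ⧸ B) = x}

theorem mk_mem_cellSet {B : Subgroup G} {S : Set G} (hR : ∀ b ∈ B, ∀ g ∈ S, g * b ∈ S) (g : G) :
    (QuotientGroup.mk g : G ⧸ B) ∈ cellSet B S ↔ g ∈ S := by
  constructor
  · rintro ⟨g', hg', e⟩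
    have h : g'⁻¹ * g ∈ B := QuotientGroup.eq.mp e
    have := hR _ h g' hg'
    rwa [mul_inv_cancel_left] at this
  · intro h
    exact ⟨g, h, rfl⟩

theorem smul_mk_eq (B : Subgroup G) (a g : G) :
    a • (QuotientGroup.mk g : G ⧸ B) = (QuotientGroup.mk (a * g) : G ⧸ B) := rfl

theorem map_smul_eq {B P : Subgroup G} (h : B ≤ P) (a : G) (x : G ⧸ B) :
    Subgroup.quotientMapOfLE h (a • x) = a • Subgroup.quotientMapOfLE h x := by
  induction x using QuotientGroup.induction_on with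
  | H g => rfl

theorem smul_mk_eq_iff (B : Subgroup G) (a g : G) :
    a • (QuotientGroup.mk g : G ⧸ B) = QuotientGroup.mk g ↔ g⁻¹ * a * g ∈ B := by
  rw [smul_mk_eq, QuotientGroup.eq]
  have e : (a * g)⁻¹ * g = (g⁻¹ * a * g)⁻¹ := by group
  rw [e, Subgroup.inv_mem_iff]

/-- the projection is injective on a cell set -/
theorem map_injOn {B P : Subgroup G} (h : B ≤ P) {S : Set G} (hR : ∀ b ∈ B, ∀ g ∈ S, g * b ∈ S)
    (hinj : ∀ g ∈ S, ∀ p ∈ P, g * p ∈ S → p ∈ B) (x x' : G ⧸ B) (hx : x ∈ cellSet B S)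
    (hx' : x' ∈ cellSet B S) (e : Subgroup.quotientMapOfLE h x = Subgroup.quotientMapOfLE h x') : x = x' := by
  induction x using QuotientGroup.induction_on with
  | H g =>
    induction x' using QuotientGroup.induction_on with
    | H g' =>
      rw [mk_mem_cellSet hR] at hx hx'
      rw [Subgroup.quotientMapOfLE_apply_mk, Subgroup.quotientMapOfLE_apply_mk, QuotientGroup.eq] at e
      have h2 : g * (g⁻¹ * g') ∈ S := by rwa [mul_inv_cancel_left]
      exact QuotientGroup.eq.mpr (hinj g hx _ e h2)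

/-- the fixed cosets of the parabolic subgroup correspond to the fixed cosets of `B` in the cell set -/
theorem card_fixed_eq [Finite G] {B P : Subgroup G} (h : B ≤ P) {S : Set G}
    (hL : ∀ b ∈ B, ∀ g ∈ S, b * g ∈ S) (hR : ∀ b ∈ B, ∀ g ∈ S, g * b ∈ S)
    (hinj : ∀ g ∈ S, ∀ p ∈ P, g * p ∈ S → p ∈ B) (hsurj : ∀ g : G, ∃ p ∈ P, g * p ∈ S)
    (a : G) (ha : a ∈ B) :
    Nat.card {y : G ⧸ P // a • y = y} = ({x : G ⧸ B | a • x = x} ∩ cellSet B S).ncard := by
  rw [← Nat.card_coe_set_eq]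
  symm
  have hsm : ∀ x ∈ cellSet B S, a • x ∈ cellSet B S := by
    intro x hx
    induction x using QuotientGroup.induction_on with
    | H g =>
      rw [mk_mem_cellSet hR] at hx
      rw [smul_mk_eq, mk_mem_cellSet hR]
      exact hL a ha g hx
  let f : ↥({x : G ⧸ B | a • x = x} ∩ cellSet B S) → {y : G ⧸ P // a • y = y} := fun x =>
    ⟨Subgroup.quotientMapOfLE h x.1, by rw [← map_smul_eq h a x.1, x.2.1]⟩
  refine Nat.card_congr (Equiv.ofBijective f ⟨?_, ?_⟩)
  · rintro ⟨x, hx1, hx2⟩ ⟨x', hx1', hx2'⟩ e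
    have e' : Subgroup.quotientMapOfLE h x = Subgroup.quotientMapOfLE h x' := congrArg Subtype.val e
    exact Subtype.ext (map_injOn h hR hinj x x' hx2 hx2' e')
  · rintro ⟨y, hy⟩
    induction y using QuotientGroup.induction_on with
    | H g =>
      obtain ⟨p, hp, hgp⟩ := hsurj g
      have hxT : (QuotientGroup.mk (g * p) : G ⧸ B) ∈ cellSet B S := (mk_mem_cellSet hR _).mpr hgp
      have hπ : Subgroup.quotientMapOfLE h (QuotientGroup.mk (g * p) : G ⧸ B) = (QuotientGroup.mk g : G ⧸ P) := by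
        rw [Subgroup.quotientMapOfLE_apply_mk]
        apply QuotientGroup.eq.mpr
        have e : (g * p)⁻¹ * g = p⁻¹ := by group
        rw [e]
        exact Subgroup.inv_mem _ hp
      have hfix : a • (QuotientGroup.mk (g * p) : G ⧸ B) = QuotientGroup.mk (g * p) := by
        apply map_injOn h hR hinj _ _ (hsm _ hxT) hxT
        rw [map_smul_eq, hπ, hy]
      exact ⟨⟨_, hfix, hxT⟩, Subtype.ext hπ⟩

/-- **The fixed point formula** -/
theorem card_fixed_add [Finite G] {B P₁ P₂ : Subgroup G} {S₁ S₂ C : Set G} (D : CellData B P₁ P₂ S₁ S₂ C)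
    (a : G) (ha : a ∈ B) (hC : ∀ g ∈ C, g⁻¹ * a * g ∉ B) :
    Nat.card {y : G ⧸ P₁ // a • y = y} + Nat.card {y : G ⧸ P₂ // a • y = y} =
      Nat.card {x : G ⧸ B // a • x = x} + 1 := by
  rw [card_fixed_eq D.le₁ D.stabL₁ D.stabR₁ D.inj₁ D.surj₁ a ha,
    card_fixed_eq D.le₂ D.stabL₂ D.stabR₂ D.inj₂ D.surj₂ a ha]
  have h3 : Nat.card {x : G ⧸ B // a • x = x} = ({x : G ⧸ B | a • x = x}).ncard :=
    Nat.card_coe_set_eq _
  rw [h3]
  have hun : ({x : G ⧸ B | a • x = x} ∩ cellSet B S₁) ∪ ({x : G ⧸ B | a • x = x} ∩ cellSet B S₂) =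
      {x : G ⧸ B | a • x = x} := by
    apply Set.Subset.antisymm
    · rintro x (hx | hx) <;> exact hx.1
    · intro x hx
      induction x using QuotientGroup.induction_on with
      | H g =>
        have hx' : g⁻¹ * a * g ∈ B := (smul_mk_eq_iff B a g).mp hx
        rcases D.cover g with h | h | h
        · exact Or.inl ⟨hx, (mk_mem_cellSet D.stabR₁ g).mpr h⟩
        · exact Or.inr ⟨hx, (mk_mem_cellSet D.stabR₂ g).mpr h⟩
        · exact absurd hx' (hC g h)
  have hin : ({x : G ⧸ B | a • x = x} ∩ cellSet B S₁) ∩ ({x : G ⧸ B | a • x = x} ∩ cellSet B S₂) =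
      {(QuotientGroup.mk 1 : G ⧸ B)} := by
    apply Set.Subset.antisymm
    · rintro x ⟨⟨-, h1⟩, ⟨-, h2⟩⟩
      induction x using QuotientGroup.induction_on with
      | H g =>
        rw [mk_mem_cellSet D.stabR₁] at h1
        rw [mk_mem_cellSet D.stabR₂] at h2
        have hB := D.inter g h1 h2
        rw [Set.mem_singleton_iff]
        apply QuotientGroup.eq.mpr
        exact Subgroup.mul_mem _ (Subgroup.inv_mem _ hB) (Subgroup.one_mem _)
    · intro x hx
      rw [Set.mem_singleton_iff] at hx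
      subst hx
      have hf : a • (QuotientGroup.mk 1 : G ⧸ B) = QuotientGroup.mk 1 := by
        rw [smul_mk_eq_iff]
        simpa using ha
      exact ⟨⟨hf, (mk_mem_cellSet D.stabR₁ 1).mpr D.one₁⟩, ⟨hf, (mk_mem_cellSet D.stabR₂ 1).mpr D.one₂⟩⟩
  have key := Set.ncard_union_add_ncard_inter ({x : G ⧸ B | a • x = x} ∩ cellSet B S₁)
    ({x : G ⧸ B | a • x = x} ∩ cellSet B S₂) (Set.toFinite _) (Set.toFinite _)
  rw [hun, hin, Set.ncard_singleton] at key
  exact key.symm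

/-- an element of prime order without conjugates in `J` acts freely on the fixed cosets -/
theorem dvd_card_fixed [Finite G] (J : Subgroup G) (a b : G) (hab : a * b = b * a) (r : ℕ) [Fact r.Prime]
    (hb : b ^ r = 1) (hJ : ∀ g : G, g⁻¹ * b * g ∉ J) : r ∣ Nat.card {y : G ⧸ J // a • y = y} := by
  classical
  haveI : Fintype {y : G ⧸ J // a • y = y} := Fintype.ofFinite _
  rw [Nat.card_eq_fintype_card]
  by_contra hnd
  have hcomm : ∀ (c : G) (y : G ⧸ J), a * c = c * a → a • y = y → a • (c • y) = c • y := by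
    intro c y hc hy
    rw [smul_smul, hc, ← smul_smul, hy]
  have habi : a * b⁻¹ = b⁻¹ * a := by
    rw [eq_inv_mul_iff_mul_eq, ← mul_assoc, ← hab, mul_assoc, mul_inv_cancel, mul_one]
  let σ : Equiv.Perm {y : G ⧸ J // a • y = y} :=
    { toFun := fun y => ⟨b • y.1, hcomm b y.1 hab y.2⟩
      invFun := fun y => ⟨b⁻¹ • y.1, hcomm b⁻¹ y.1 habi y.2⟩
      left_inv := fun y => Subtype.ext (by simp)
      right_inv := fun y => Subtype.ext (by simp) }
  have hσpow : ∀ (k : ℕ) (y : {y : G ⧸ J // a • y = y}), ((σ ^ k) y).1 = b ^ k • y.1 := by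
    intro k
    induction k with
    | zero => intro y; simp
    | succ k ih =>
      intro y
      rw [pow_succ', Equiv.Perm.mul_apply, pow_succ', mul_smul, ← ih y]
      rfl
  have hσ : σ ^ r ^ 1 = 1 := by
    rw [pow_one]
    ext y
    rw [hσpow, hb, one_smul]
    rfl
  obtain ⟨⟨y, hy⟩, hfix⟩ := Equiv.Perm.exists_fixed_point_of_prime hnd hσ
  have hfix' : b • y = y := congrArg Subtype.val hfix
  induction y using QuotientGroup.induction_on with
  | H g => exact hJ g ((smul_mk_eq_iff J b g).mp hfix')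

/-- **An element of prime order commuting with `a` is conjugate into a parabolic subgroup.** -/
theorem exists_conj_mem_parabolic [Finite G] {B P₁ P₂ : Subgroup G} {S₁ S₂ C : Set G}
    (D : CellData B P₁ P₂ S₁ S₂ C) (a : G) (ha : a ∈ B) (hC : ∀ g ∈ C, g⁻¹ * a * g ∉ B)
    (b : G) (hab : a * b = b * a) (r : ℕ) [hr : Fact r.Prime] (hb : b ^ r = 1) :
    ∃ g : G, g⁻¹ * b * g ∈ P₁ ∨ g⁻¹ * b * g ∈ P₂ := by
  by_contra hcon
  push Not at hcon
  have h1 := dvd_card_fixed P₁ a b hab r hb (fun g => (hcon g).1)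
  have h2 := dvd_card_fixed P₂ a b hab r hb (fun g => (hcon g).2)
  have h3 := dvd_card_fixed B a b hab r hb (fun g hg => (hcon g).1 (D.le₁ hg))
  have key := card_fixed_add D a ha hC
  have h4 : r ∣ Nat.card {x : G ⧸ B // a • x = x} + 1 := key ▸ Nat.dvd_add h1 h2
  have h5 : r ∣ 1 := (Nat.dvd_add_right h3).mp h4
  exact hr.out.one_lt.ne' (Nat.dvd_one.mp h5)

end Cfsg.Agent.Lib.Helper3.EulerFix
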