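import Mathlib
import Cfsg.Prelude.Def_ChevStructure
import Cfsg.Prelude.Def_ChevF4
import Cfsg.Agent.Lib.Helper3.DLF4a
import Cfsg.Agent.Lib.Helper3.DLBridge7
import Cfsg.Agent.Lib.Helper3.ChevData.F4Levi
import Cfsg.Agent.Lib.Helper3.ChevData.F4Rv
import Cfsg.Agent.Lib.Helper3.ChevData.F4UHyp
import Cfsg.Agent.Lib.Helper3.ChevData.F4Bn
import Cfsg.Agent.Lib.Helper3.ChevData.F4NegTri
set_option autoImplicit false
set_option linter.unusedSectionVars false
set_option linter.unusedVariables false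
set_option linter.unusedSimpArgs false
set_option maxRecDepth 1000000
open Cfsg Cfsg.Lie

/-!
The centralizer of the involution `x_47(1) x_44(1)` of the groups of type `F₄` in characteristic two.
-/

namespace Cfsg.Agent.Lib.Helper3.ChevM

open ChevT ChevU

section
variable {F : Type*} [Field F] {C : CDatum} (R : RelData C)

include R in
/-- An element of `H` as a product of the `h_{p_i}(c_i)`, and its action on the root elements. -/
theorem RelData.diagonal_decomp (hdec : ∀ r < C.D.nroots, ∀ s < C.D.nroots, hdecCheck C.D R.pair r s = true)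
    (a : GL C.D.Idx F) (ha : a ∈ C.D.diagonalSubgroup F) :
    ∃ c : ℕ → F, (∀ i < C.D.rank, c i ≠ 0) ∧
      a = ((List.range C.D.rank).map fun i => R.hU (C.D.simple i) (c i)).prod ∧
      ∀ s < C.D.nroots, ∀ t : F,
        a * R.xU s t = R.xU s (((List.range C.D.rank).map fun i => c i ^ C.D.cartan i s).prod * t) * a := by
  classical
  obtain ⟨c, hc, hdiag, key⟩ := R.diagonal_mul_x hdec a ha
  refine ⟨c, hc, ?_, fun s hs t => ?_⟩
  · apply Units.ext
    rw [hdiag, ← R.hProd_eq_diag c hc]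
    have := map_list_prod (Units.coeHom (Matrix C.D.Idx C.D.Idx F))
      ((List.range C.D.rank).map fun i => R.hU (C.D.simple i) (c i))
    rw [Units.coeHom_apply] at this
    rw [this, List.map_map]
    apply congrArg
    apply List.map_congr_left
    intro i _
    simp [R.hU_val]
  · apply Units.ext
    rw [Units.val_mul, Units.val_mul, R.xU_val, R.xU_val]
    exact key s hs t

end

end Cfsg.Agent.Lib.Helper3.ChevM

namespace Cfsg.Agent.Lib.Helper3.DLInv

open Cfsg.Agent.Lib.Helper3.ChevM Cfsg.Agent.Lib.Helper3 ChevU ChevT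
open Cfsg.Agent.Lib.Helper3.ChevAt Cfsg.Agent.Lib.Helper3.ChevAut
open Cfsg.Agent.Lib.Helper3.SLInv Cfsg.Agent.Lib.Helper3.RF4

theorem f4ReflOK : dlHypF4.ReflOK := by
  show ∀ i < cdF4.D.rank, ∀ r < cdF4.D.nroots, relF4.refl i r = dlHypF4.sj (cdF4.D.simple i) r
  decide +kernel

theorem chi4 {F : Type*} [Field F] (c : ℕ → F) (k : ℕ → ℤ) :
    ((List.range cdF4.D.rank).map fun i => c i ^ k i).prod = c 0 ^ k 0 * c 1 ^ k 1 * c 2 ^ k 2 * c 3 ^ k 3 := by
  show ((List.range 4).map fun i => c i ^ k i).prod = _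
  simp [List.range_succ, mul_assoc]

/-- the roots of the involution `x_47(1) x_44(1)` -/
def f4T1 : List ℕ := [47, 44]

theorem f4T1_pos : ∀ t ∈ f4T1, cdF4.D.IsPosRoot t := by decide +kernel
theorem f4T1_B : ∀ t ∈ f4T1, ∀ t' ∈ f4T1, 0 ≤ dlHypF4.bI t t' := by decide +kernel
theorem f4T1_closed : dlHypF4.ClosedT f4T1 47 44 := by decide +kernel
theorem f4T1_uniq : ∀ r ∈ f4T1, ∀ s ∈ f4T1, dlHypF4.bI r r = dlHypF4.bI 47 47 → dlHypF4.bI s s = dlHypF4.bI 44 44 →
    dlHypF4.bI r s = dlHypF4.bI 47 44 → r = 47 ∧ s = 44 := by decide +kernel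
theorem f4T1_lev : ∀ s < cdF4.D.nroots, 2 * (vecF4 s 0 + vecF4 s 3) = 2 * dlHypF4.bI s 44 + dlHypF4.bI s 47 := by
  decide +kernel

/-- the fundamental roots `p₂`, `p₃` -/
def f4Jb1 (i : ℕ) : Bool := decide (i = 1 ∨ i = 2)

theorem f4_levR1 (s : ℕ) : levR cdF4.D vecF4 {i | f4Jb1 i = true} s = vecF4 s 0 + vecF4 s 3 := by
  unfold levR
  have h4 : cdF4.D.rank = 4 := rfl
  rw [h4]
  simp [List.range_succ, List.filter_cons, f4Jb1]

section
variable (F : Type*) [Field F] [Fintype F] [CharP F 2]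

theorem f4_rootCentK1_le : rootCentK cdF4.D F f4Jb1 ≤
    cdF4.D.group F ⊓ Subgroup.centralizer {relF4.xU 47 (1 : F) * relF4.xU 44 1} := by
  have h1 := uhypF4.rootCentK_le (F := F) bnF4 2 47 (by decide +kernel) (by decide +kernel) (by decide +kernel)
    f4Jb1 (by decide +kernel) (1 : F)
  have h2 := uhypF4.rootCentK_le (F := F) bnF4 2 44 (by decide +kernel) (by decide +kernel) (by decide +kernel)
    f4Jb1 (by decide +kernel) (1 : F)
  intro k hk
  refine ⟨(h1 hk).1, ?_⟩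
  show k ∈ Subgroup.centralizer {relF4.xU 47 (1 : F) * relF4.xU 44 1}
  rw [Subgroup.mem_centralizer_iff]
  intro v hv
  rw [Set.mem_singleton_iff] at hv
  have e1 := Subgroup.mem_centralizer_iff.mp (h1 hk).2 _ rfl
  have e2 := Subgroup.mem_centralizer_iff.mp (h2 hk).2 _ rfl
  rw [hv, mul_assoc, e2, ← mul_assoc, e1, mul_assoc]

/-- the centralizer of `x_47(1) x_44(1)` -/
theorem f4_cent_tu : cdF4.D.group F ⊓ Subgroup.centralizer {relF4.xU 47 (1 : F) * relF4.xU 44 1} =
    rootCentK cdF4.D F f4Jb1 := by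
  have hge := f4_rootCentK1_le F
  refine le_antisymm ?_ hge
  intro g hg
  have hP := dlHypF4.cent_pair_parabolic (F := F) leviF4 (of_pairRange (m := 4) (n := 48) f4Rv)
    {i | f4Jb1 i = true} f4ReflOK f4T1_pos f4T1_B (by decide) (by decide) (by decide) (by decide)
    f4T1_closed f4T1_uniq (by
      intro s hs s' hs' e1 e2
      show levR cdF4.D vecF4 _ s = levR cdF4.D vecF4 _ s'
      rw [f4_levR1 s, f4_levR1 s']
      have h1 := f4T1_lev s hs
      have h2 := f4T1_lev s' hs'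
      omega) hg
  have hgKH := uhypF4.parabolic_le_rootCentK_sup bnF4 f4Jb1 hP
  rw [← SetLike.mem_coe, Subgroup.coe_mul_of_right_le_normalizer_left _ _
    (uhypF4.diagonal_le_normalizer_rootCentK bnF4 f4Jb1)] at hgKH
  obtain ⟨k, hk, a, ha, e⟩ := Set.mem_mul.mp hgKH
  rw [← e]
  refine Subgroup.mul_mem _ hk ?_
  set v : GL cdF4.D.Idx F := relF4.xU 47 (1 : F) * relF4.xU 44 1 with hv
  have hac : a ∈ Subgroup.centralizer {v} := by
    have : a = k⁻¹ * g := by rw [← e]; group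
    rw [this]
    exact Subgroup.mul_mem _ (Subgroup.inv_mem _ (hge hk).2) hg.2
  have hav : v * a = a * v := Subgroup.mem_centralizer_iff.mp hac v rfl
  obtain ⟨c, hc, hprod, hact⟩ := relF4.diagonal_decomp bnF4.dec a ha
  have h47 := hact 47 (by decide) 1
  have h44 := hact 44 (by decide) 1
  rw [chi4 c (fun i => cdF4.D.cartan i 47)] at h47
  rw [chi4 c (fun i => cdF4.D.cartan i 44)] at h44
  have c47 : (cdF4.D.cartan 0 47 = 0 ∧ cdF4.D.cartan 1 47 = 0 ∧ cdF4.D.cartan 2 47 = 0 ∧ cdF4.D.cartan 3 47 = 1) := by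
    decide +kernel
  have c44 : (cdF4.D.cartan 0 44 = 1 ∧ cdF4.D.cartan 1 44 = 0 ∧ cdF4.D.cartan 2 44 = 0 ∧ cdF4.D.cartan 3 44 = 0) := by
    decide +kernel
  simp only [c47.1, c47.2.1, c47.2.2.1, c47.2.2.2, zpow_zero, zpow_one, one_mul, mul_one] at h47
  simp only [c44.1, c44.2.1, c44.2.2.1, c44.2.2.2, zpow_zero, zpow_one, one_mul, mul_one] at h44
  -- the relation
  have hrel : relF4.xU 47 (c 3) * relF4.xU 44 (c 0) = relF4.xU 47 (1 : F) * relF4.xU 44 1 := by
    have e1 : a * v = relF4.xU 47 (c 3) * relF4.xU 44 (c 0) * a := by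
      rw [hv, ← mul_assoc, h47, mul_assoc, h44, mul_assoc]
    rw [← hav] at e1
    exact (mul_right_cancel e1).symm
  have hrel2 : relF4.xU 47 (-1 + c 3) = relF4.xU 44 (1 + -c 0) := by
    rw [← relF4.xU_add, ← relF4.xU_add, ← relF4.xU_inv, ← relF4.xU_inv]
    have := congrArg (fun z => (relF4.xU 47 (1 : F))⁻¹ * z * (relF4.xU 44 (c 0))⁻¹) hrel
    simpa [mul_assoc] using this
  obtain ⟨z1, z2⟩ := uhypF4.xU_eq_xU_pos (F := F) 47 44 (by decide +kernel) (by decide +kernel) (by decide) _ _ hrel2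
  have hc3 : c 3 = 1 := by linear_combination z1
  have hc0 : c 0 = 1 := by linear_combination -z2
  rw [hprod]
  apply Subgroup.list_prod_mem
  intro x hx
  obtain ⟨i, hi, rfl⟩ := List.mem_map.mp hx
  rw [List.mem_range] at hi
  have hi4 : i < 4 := hi
  rw [relF4.hU_eq]
  by_cases hJ : f4Jb1 i = true
  · exact Subgroup.mul_mem _ (uhypF4.nU_simple_mem_rootCentK bnF4 f4Jb1 i hi hJ _)
      (uhypF4.nU_simple_mem_rootCentK bnF4 f4Jb1 i hi hJ _)
  · have hi03 : i = 0 ∨ i = 3 := by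
      simp only [f4Jb1, decide_eq_true_eq] at hJ
      omega
    have hci : c i = 1 := by
      rcases hi03 with rfl | rfl
      · exact hc0
      · exact hc3
    rw [hci, relF4.nU_mul_neg]
    exact Subgroup.one_mem _

end

end Cfsg.Agent.Lib.Helper3.DLInv
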