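import Mathlib
import Cfsg.Prelude.Def_ChevStructure
import Cfsg.Prelude.Def_ChevF4
import Cfsg.Agent.Lib.Helper3.F4Cen1
import Cfsg.Agent.Lib.Helper3.ChevData.F4CommData
set_option autoImplicit false
set_option linter.unusedSectionVars false
set_option linter.unusedVariables false
set_option linter.unusedSimpArgs false
set_option maxRecDepth 1000000
open Cfsg Cfsg.Lie

/-!
The centralizer of the involution `x_39(1) x_45(1)` of the groups of type `F₄` in characteristic two: the table checks,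
the subgroup `K` of the statement lies in the centralizer, and the part of the centralizer in the Levi subgroup.
-/

namespace Cfsg.Agent.Lib.Helper3.DLInv

open Cfsg.Agent.Lib.Helper3.ChevM Cfsg.Agent.Lib.Helper3 ChevU ChevT
open Cfsg.Agent.Lib.Helper3.ChevAt Cfsg.Agent.Lib.Helper3.ChevAut
open Cfsg.Agent.Lib.Helper3.SLInv Cfsg.Agent.Lib.Helper3.RF4

/-- the roots of the conjugates of the involution `x_39(1) x_45(1)` under the Borel subgroup -/
def f4T2 : List ℕ := [39, 45, 40, 44, 46, 47]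

theorem f4T2_pos : ∀ t ∈ f4T2, cdF4.D.IsPosRoot t := by decide +kernel
theorem f4T2_B : ∀ t ∈ f4T2, ∀ t' ∈ f4T2, 0 ≤ dlHypF4.bI t t' := by decide +kernel
theorem f4T2_closed : dlHypF4.ClosedT f4T2 39 45 := by decide +kernel
theorem f4T2_uniq : ∀ r ∈ f4T2, ∀ s ∈ f4T2, dlHypF4.bI r r = dlHypF4.bI 39 39 → dlHypF4.bI s s = dlHypF4.bI 45 45 →
    dlHypF4.bI r s = dlHypF4.bI 39 45 → r = 39 ∧ s = 45 := by decide +kernel
theorem f4T2_lev : ∀ s < cdF4.D.nroots, 2 * (vecF4 s 1 + vecF4 s 2) = 4 * dlHypF4.bI s 39 + 3 * dlHypF4.bI s 45 := by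
  decide +kernel

/-- the fundamental roots `p₁`, `p₄` -/
def f4J2 : Set ℕ := {0, 3}

theorem f4_levR2 (s : ℕ) : levR cdF4.D vecF4 f4J2 s = vecF4 s 1 + vecF4 s 2 := by
  unfold levR
  have h4 : cdF4.D.rank = 4 := rfl
  rw [h4]
  simp [List.range_succ, List.filter_cons, f4J2]

theorem f4_levi_tab : ∀ r < 48, (cdF4.D.coroot.getD r #[]).getD 1 0 = 0 → (cdF4.D.coroot.getD r #[]).getD 2 0 = 0 →
    r ∈ [33, 14, 24, 23] := by decide +kernel

theorem f4_inRootSub2 (r : ℕ) (h : cdF4.D.InRootSub f4J2 r) : r ∈ [33, 14, 24, 23] := by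
  obtain ⟨hr, h⟩ := h
  have h1 := h 1 (by decide) (by simp [f4J2])
  have h2 := h 2 (by decide) (by simp [f4J2])
  exact f4_levi_tab r hr h1 h2

theorem f4K2_comm : ∀ r < 48, (r ∈ [33, 14, 24, 23] ∨ (cdF4.D.IsPosRoot r ∧ r ∉ [27, 25, 34, 26])) →
    0 ≤ dlHypF4.bI r 39 ∧ 0 ≤ dlHypF4.bI r 45 := by decide +kernel

section
variable (F : Type*) [Field F] [Fintype F] [CharP F 2]

/-- the subgroup generated by the root subgroups of the roots `±p₁`, `±p₄` -/
def f4KJ : Subgroup (GL cdF4.D.Idx F) :=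
  Subgroup.closure {g | ∃ r ∈ [33, 14, 24, 23], ∃ t : F, g = relF4.xU r t}

/-- the subgroup generated by the root subgroups of the positive roots other than `p₂`, `p₃`, `p₁ + p₂`, `p₃ + p₄` -/
def f4KU : Subgroup (GL cdF4.D.Idx F) :=
  Subgroup.closure {g : GL cdF4.D.Idx F | ∃ (r : ℕ) (c : F), cdF4.D.IsPosRoot r ∧ r ∉ [27, 25, 34, 26] ∧
    (g : Matrix cdF4.D.Idx cdF4.D.Idx F) = cdF4.D.x F r c}

variable {F}

theorem f4_gen_comm {r : ℕ} (hr : r < 48) (h39 : 0 ≤ dlHypF4.bI r 39) (h45 : 0 ≤ dlHypF4.bI r 45) (c s₁ s₂ : F) :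
    (relF4.xU 39 s₁ * relF4.xU 45 s₂) * relF4.xU r c = relF4.xU r c * (relF4.xU 39 s₁ * relF4.xU 45 s₂) := by
  have e1 := dlHypF4.xU_comm (F := F) (r := r) (s := 39) hr (by decide) h39 c s₁
  have e2 := dlHypF4.xU_comm (F := F) (r := r) (s := 45) hr (by decide) h45 c s₂
  rw [mul_assoc, ← e2, ← mul_assoc, ← e1, mul_assoc]

theorem f4KJ_cent (s₁ s₂ : F) : f4KJ F ≤ Subgroup.centralizer {relF4.xU 39 s₁ * relF4.xU 45 s₂} := by
  unfold f4KJ
  rw [Subgroup.closure_le]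
  rintro g ⟨r, hr, t, rfl⟩
  rw [SetLike.mem_coe, Subgroup.mem_centralizer_iff]
  intro z hz
  rw [Set.mem_singleton_iff] at hz
  rw [hz]
  have hr48 : r < 48 := by
    simp only [List.mem_cons, List.not_mem_nil, or_false] at hr
    omega
  obtain ⟨h1, h2⟩ := f4K2_comm r hr48 (Or.inl hr)
  exact f4_gen_comm hr48 h1 h2 t s₁ s₂

theorem f4KU_cent (s₁ s₂ : F) : f4KU F ≤ Subgroup.centralizer {relF4.xU 39 s₁ * relF4.xU 45 s₂} := by
  unfold f4KU
  rw [Subgroup.closure_le]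
  rintro g ⟨r, c, hr, hr2, hg⟩
  have e : g = relF4.xU r c := Units.ext (by rw [hg, relF4.xU_val])
  rw [SetLike.mem_coe, Subgroup.mem_centralizer_iff]
  intro z hz
  rw [Set.mem_singleton_iff] at hz
  rw [hz, e]
  obtain ⟨h1, h2⟩ := f4K2_comm r hr.1 (Or.inr ⟨hr, hr2⟩)
  exact f4_gen_comm hr.1 h1 h2 c s₁ s₂

theorem f4KJ_le_group : f4KJ F ≤ cdF4.D.group F := by
  unfold f4KJ
  rw [Subgroup.closure_le]
  rintro g ⟨r, hr, t, rfl⟩
  have hr48 : r < 48 := by
    simp only [List.mem_cons, List.not_mem_nil, or_false] at hr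
    omega
  exact relF4.xU_mem_group r hr48 t

theorem f4KU_le_group : f4KU F ≤ cdF4.D.group F := by
  unfold f4KU
  rw [Subgroup.closure_le]
  rintro g ⟨r, c, hr, hr2, hg⟩
  have e : g = relF4.xU r c := Units.ext (by rw [hg, relF4.xU_val])
  rw [e]
  exact relF4.xU_mem_group r hr.1 c

theorem rootSubgroup_le_f4KJ {r : ℕ} (hr : r ∈ [33, 14, 24, 23]) : cdF4.D.rootSubgroup F r ≤ f4KJ F := by
  unfold ChevalleyDatum.rootSubgroup f4KJ
  apply Subgroup.closure_mono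
  rintro g ⟨t, hg⟩
  exact ⟨r, hr, t, Units.ext (by rw [hg, relF4.xU_val])⟩

theorem f4KJ_le_sup : f4KJ F ≤ cdF4.D.rootSubgroup F 33 ⊔ cdF4.D.rootSubgroup F 14 ⊔ cdF4.D.rootSubgroup F 24 ⊔
    cdF4.D.rootSubgroup F 23 := by
  unfold f4KJ
  rw [Subgroup.closure_le]
  rintro g ⟨r, hr, t, rfl⟩
  simp only [List.mem_cons, List.not_mem_nil, or_false] at hr
  rcases hr with rfl | rfl | rfl | rfl
  · exact Subgroup.mem_sup_left (Subgroup.mem_sup_left (Subgroup.mem_sup_left (relF4.xU_mem_rootSubgroup _ t)))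
  · exact Subgroup.mem_sup_left (Subgroup.mem_sup_left (Subgroup.mem_sup_right (relF4.xU_mem_rootSubgroup _ t)))
  · exact Subgroup.mem_sup_left (Subgroup.mem_sup_right (relF4.xU_mem_rootSubgroup _ t))
  · exact Subgroup.mem_sup_right (relF4.xU_mem_rootSubgroup _ t)

theorem diagonal_le_normalizer_f4KJ :
    cdF4.D.diagonalSubgroup F ≤ Subgroup.normalizer (f4KJ F : Set (GL cdF4.D.Idx F)) := by
  apply le_normalizer_of_conj_mem
  intro a ha
  obtain ⟨d, hd⟩ := uhypF4.diagonal_conj_xU bnF4 a ha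
  have hle : f4KJ F ≤ (f4KJ F).comap (MulAut.conj a).toMonoidHom := by
    unfold f4KJ
    rw [Subgroup.closure_le]
    rintro g ⟨r, hr, t, rfl⟩
    have hr48 : r < 48 := by
      simp only [List.mem_cons, List.not_mem_nil, or_false] at hr
      omega
    rw [SetLike.mem_coe, Subgroup.mem_comap]
    change MulAut.conj a (relF4.xU r t) ∈ _
    rw [MulAut.conj_apply, (hd r hr48).2 t]
    exact Subgroup.subset_closure ⟨r, hr, _, rfl⟩
  intro k hk
  have := hle hk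
  rw [Subgroup.mem_comap] at this
  change MulAut.conj a k ∈ _ at this
  rwa [MulAut.conj_apply] at this

/-- the Levi subgroup as a product -/
theorem f4_levi_split (m : GL cdF4.D.Idx F) (hm : m ∈ cdF4.D.leviSubgroup F f4J2) :
    ∃ k ∈ f4KJ F, ∃ a ∈ cdF4.D.diagonalSubgroup F, m = k * a := by
  have hle : cdF4.D.leviSubgroup F f4J2 ≤ f4KJ F ⊔ cdF4.D.diagonalSubgroup F := by
    unfold ChevalleyDatum.leviSubgroup
    refine sup_le le_sup_right (le_trans ?_ le_sup_left)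
    rw [Subgroup.closure_le]
    rintro g ⟨r, t, hr, hg⟩
    exact Subgroup.subset_closure ⟨r, f4_inRootSub2 r hr, t, Units.ext (by rw [hg, relF4.xU_val])⟩
  have h1 := hle hm
  rw [← SetLike.mem_coe, Subgroup.coe_mul_of_right_le_normalizer_left _ _ diagonal_le_normalizer_f4KJ] at h1
  obtain ⟨k, hk, a, ha, e⟩ := Set.mem_mul.mp h1
  exact ⟨k, hk, a, ha, e.symm⟩

/-- an element of `H` centralizing `x_39(1) x_45(1)` lies in the subgroup of the roots `±p₁`, `±p₄` -/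
theorem f4_diag_cent (a : GL cdF4.D.Idx F) (ha : a ∈ cdF4.D.diagonalSubgroup F)
    (hav : (relF4.xU 39 (1 : F) * relF4.xU 45 1) * a = a * (relF4.xU 39 (1 : F) * relF4.xU 45 1)) :
    a ∈ f4KJ F := by
  obtain ⟨c, hc, hprod, hact⟩ := relF4.diagonal_decomp bnF4.dec a ha
  have h39 := hact 39 (by decide) 1
  have h45 := hact 45 (by decide) 1
  rw [chi4 c (fun i => cdF4.D.cartan i 39)] at h39
  rw [chi4 c (fun i => cdF4.D.cartan i 45)] at h45
  have c39 : cdF4.D.cartan 0 39 = 0 ∧ cdF4.D.cartan 1 39 = -1 ∧ cdF4.D.cartan 2 39 = 1 ∧ cdF4.D.cartan 3 39 = 0 := by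
    decide +kernel
  have c45 : cdF4.D.cartan 0 45 = 0 ∧ cdF4.D.cartan 1 45 = 2 ∧ cdF4.D.cartan 2 45 = -1 ∧ cdF4.D.cartan 3 45 = 0 := by
    decide +kernel
  simp only [c39.1, c39.2.1, c39.2.2.1, c39.2.2.2, zpow_zero, zpow_one, one_mul, mul_one] at h39
  simp only [c45.1, c45.2.1, c45.2.2.1, c45.2.2.2, zpow_zero, zpow_one, one_mul, mul_one] at h45
  set χ1 : F := c 1 ^ (-1 : ℤ) * c 2 with hχ1
  set χ2 : F := c 1 ^ (2 : ℤ) * c 2 ^ (-1 : ℤ) with hχ2
  have hrel : relF4.xU 39 χ1 * relF4.xU 45 χ2 = relF4.xU 39 (1 : F) * relF4.xU 45 1 := by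
    have e1 : a * (relF4.xU 39 (1 : F) * relF4.xU 45 1) = relF4.xU 39 χ1 * relF4.xU 45 χ2 * a := by
      rw [← mul_assoc, h39, mul_assoc, h45, mul_assoc]
    rw [← hav] at e1
    exact (mul_right_cancel e1).symm
  have hrel2 : relF4.xU 39 (-1 + χ1) = relF4.xU 45 (1 + -χ2) := by
    rw [← relF4.xU_add, ← relF4.xU_add, ← relF4.xU_inv, ← relF4.xU_inv]
    have := congrArg (fun z => (relF4.xU 39 (1 : F))⁻¹ * z * (relF4.xU 45 χ2)⁻¹) hrel
    simpa [mul_assoc] using this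
  obtain ⟨z1, z2⟩ := uhypF4.xU_eq_xU_pos (F := F) 39 45 (by decide +kernel) (by decide +kernel) (by decide) _ _ hrel2
  have hχ1' : χ1 = 1 := by linear_combination z1
  have hχ2' : χ2 = 1 := by linear_combination -z2
  have hc1 := hc 1 (by decide)
  have hc2 := hc 2 (by decide)
  have e21 : c 2 = c 1 := by
    rw [hχ1, zpow_neg_one] at hχ1'
    field_simp at hχ1'
    exact hχ1'
  have e1 : c 1 = 1 := by
    rw [hχ2, e21, zpow_neg_one] at hχ2'
    have h2 : c 1 ^ (2 : ℤ) = c 1 * c 1 := by rw [zpow_two]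
    rw [h2, mul_assoc, mul_inv_cancel₀ hc1, mul_one] at hχ2'
    exact hχ2'
  have e2 : c 2 = 1 := by rw [e21, e1]
  rw [hprod]
  apply Subgroup.list_prod_mem
  intro x hx
  obtain ⟨i, hi, rfl⟩ := List.mem_map.mp hx
  rw [List.mem_range] at hi
  have hi4 : i < 4 := hi
  have hcl : ∀ r ∈ [33, 24], ∀ c' : F, relF4.hU r c' ∈ f4KJ F := by
    intro r hr c'
    have hmem := dlHypF4.hU_mem_closure (F := F) (r := r) c'
    refine (Subgroup.closure_le _).mpr ?_ hmem
    rintro g ⟨b, hg | hg⟩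
    · rw [hg]
      refine Subgroup.subset_closure ⟨r, ?_, b, rfl⟩
      simp only [List.mem_cons, List.not_mem_nil, or_false] at hr ⊢
      omega
    · rw [hg]
      refine Subgroup.subset_closure ⟨cdF4.D.neg r, ?_, b, rfl⟩
      simp only [List.mem_cons, List.not_mem_nil, or_false] at hr
      rcases hr with rfl | rfl <;> decide +kernel
  have hcases : i = 0 ∨ i = 1 ∨ i = 2 ∨ i = 3 := by omega
  rcases hcases with rfl | rfl | rfl | rfl
  · exact hcl _ (by decide +kernel) _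
  · rw [e1, relF4.hU_eq, relF4.nU_mul_neg]
    exact Subgroup.one_mem _
  · rw [e2, relF4.hU_eq, relF4.nU_mul_neg]
    exact Subgroup.one_mem _
  · exact hcl _ (by decide +kernel) _

end

end Cfsg.Agent.Lib.Helper3.DLInv
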