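import Mathlib
import Cfsg.Prelude.Def_ChevStructure
import Cfsg.Prelude.Def_ChevF4
import Cfsg.Agent.Lib.Helper3.F4Cen2
set_option autoImplicit false
set_option linter.unusedSectionVars false
set_option linter.unusedVariables false
set_option linter.unusedSimpArgs false
set_option maxRecDepth 1000000
open Cfsg Cfsg.Lie

/-!
The centralizer of the involution `x_39(1) x_45(1)` of the groups of type `F₄` in characteristic two: the part of the
centralizer in the unipotent subgroup.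
-/

namespace Cfsg.Agent.Lib.Helper3.DLInv

open Cfsg.Agent.Lib.Helper3.ChevM Cfsg.Agent.Lib.Helper3 ChevU ChevT
open Cfsg.Agent.Lib.Helper3.ChevAt Cfsg.Agent.Lib.Helper3.ChevAut
open Cfsg.Agent.Lib.Helper3.SLInv Cfsg.Agent.Lib.Helper3.RF4

/-- the positive roots other than `p₁`, `p₄`, `p₂`, `p₁ + p₂`, `p₃`, `p₃ + p₄` -/
def f4Rest : List ℕ := [28, 29, 30, 31, 32, 35, 36, 37, 38, 39, 40, 41, 42, 43, 44, 45, 46, 47]

/-- an enumeration of the positive roots -/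
def f4M : List ℕ := [33, 24, 27, 34, 25, 26] ++ f4Rest

theorem f4M_nodup : f4M.Nodup := by decide +kernel

theorem f4M_tab : ∀ r < 48, (r ∈ f4M ↔ cdF4.D.IsPosRoot r) := by decide +kernel

theorem f4M_lt : ∀ r ∈ f4M, r < 48 := by decide +kernel

theorem f4M_mem (r : ℕ) : r ∈ f4M ↔ cdF4.D.IsPosRoot r := by
  by_cases hr : r < 48
  · exact f4M_tab r hr
  · constructor
    · intro h
      exact absurd (f4M_lt r h) hr
    · intro h
      exact absurd h.1 hr

theorem f4Rest_ok : ∀ r ∈ f4Rest, cdF4.D.IsPosRoot r ∧ r ∉ [27, 25, 34, 26] := by decide +kernel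

theorem f4_peel_tab :
    (dlHypF4.ClosedAt f4T2 39 40 34 ∧ dlHypF4.ClosedAt f4T2 39 40 25 ∧ dlHypF4.ClosedAt f4T2 39 40 26) ∧
    (dlHypF4.ClosedAt f4T2 39 44 25 ∧ dlHypF4.ClosedAt f4T2 39 44 26) ∧
    dlHypF4.ClosedAt f4T2 45 46 26 ∧
    (dlHypF4.ClosedAt f4T2 39 45 27 ∧ dlHypF4.ClosedAt f4T2 39 45 34 ∧ dlHypF4.ClosedAt f4T2 39 45 25 ∧
      dlHypF4.ClosedAt f4T2 39 45 26) := by decide +kernel

theorem f4_peel_vec : dlHypF4.vz 40 - dlHypF4.vz 27 = dlHypF4.vz 39 ∧ dlHypF4.vz 44 - dlHypF4.vz 34 = dlHypF4.vz 39 ∧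
    dlHypF4.vz 46 - dlHypF4.vz 25 = dlHypF4.vz 45 ∧ dlHypF4.vz 47 - dlHypF4.vz 26 = dlHypF4.vz 45 := by decide +kernel

theorem f4_peel_B : dlHypF4.bI 27 39 < 0 ∧ dlHypF4.bI 34 39 < 0 ∧ dlHypF4.bI 25 45 < 0 ∧ dlHypF4.bI 26 45 < 0 := by
  decide +kernel

section
variable {F : Type*} [Field F] [Fintype F] [CharP F 2]

/-- the list of the involution `x_39(1) x_45(1)` -/
def f4L0 (F : Type*) [Field F] : List (Vec cdF4.D.rank × F) := [(dlHypF4.vz 39, 1), (dlHypF4.vz 45, 1)]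

theorem f4L0_prp : (dlHypF4.sys (F := F)).prp (f4L0 F) = relF4.xU 39 (1 : F) * relF4.xU 45 1 := by
  unfold f4L0
  rw [DLSys.prp_cons, DLSys.prp_cons, DLSys.prp_nil, mul_one, dlHypF4.x_vz F (by decide), dlHypF4.x_vz F (by decide)]

theorem f4L0_T : ∀ p ∈ f4L0 F, p.1 ∈ f4T2.map dlHypF4.vz := by
  intro p hp
  simp only [f4L0, List.mem_cons, List.not_mem_nil, or_false] at hp
  rcases hp with rfl | rfl
  · exact List.mem_map.mpr ⟨39, by decide, rfl⟩
  · exact List.mem_map.mpr ⟨45, by decide, rfl⟩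

theorem f4_vz_ne : dlHypF4.vz 45 ≠ dlHypF4.vz 39 := by decide +kernel

theorem f4L0_tau39 : DLSys.tau (f4L0 F) (dlHypF4.vz 39) = 1 := by
  unfold f4L0
  rw [DLSys.tau_cons, DLSys.tau_cons, DLSys.tau_nil, if_pos rfl, if_neg f4_vz_ne, add_zero, add_zero]

theorem f4L0_tau45 : DLSys.tau (f4L0 F) (dlHypF4.vz 45) = 1 := by
  unfold f4L0
  rw [DLSys.tau_cons, DLSys.tau_cons, DLSys.tau_nil, if_neg (fun e => f4_vz_ne e.symm), if_pos rfl, add_zero,
    zero_add]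

/-- an element of `U` centralizing `x_39(1) x_45(1)` -/
theorem f4_unip_cent (n' : GL cdF4.D.Idx F) (hn' : n' ∈ cdF4.D.posUnipotent F)
    (hc : n' ∈ Subgroup.centralizer {relF4.xU 39 (1 : F) * relF4.xU 45 1}) : n' ∈ f4KU F := by
  set S := dlHypF4.sys (F := F) with hS
  set v : GL cdF4.D.Idx F := relF4.xU 39 (1 : F) * relF4.xU 45 1 with hv
  obtain ⟨t, -, ht⟩ := uhypF4.K.exists_word (F := F) uhypF4.col uhypF4.inj f4M f4M_nodup f4M_mem n' hn'
  unfold RootSys.lprod f4M at ht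
  rw [List.map_append, List.prod_append] at ht
  simp only [List.map_cons, List.map_nil, List.prod_cons, List.prod_nil] at ht
  set n : GL cdF4.D.Idx F := (f4Rest.map fun r => relF4.xU r (t r)).prod with hn
  have hnK : n ∈ f4KU F := by
    apply Subgroup.list_prod_mem
    intro x hx
    obtain ⟨r, hr, rfl⟩ := List.mem_map.mp hx
    obtain ⟨h1, h2⟩ := f4Rest_ok r hr
    exact Subgroup.subset_closure ⟨r, t r, h1, h2, relF4.xU_val _ _⟩
  have h33 : ∀ c : F, relF4.xU 33 c ∈ f4KU F := fun c =>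
    Subgroup.subset_closure ⟨33, c, by decide +kernel, by decide, relF4.xU_val _ _⟩
  have h24 : ∀ c : F, relF4.xU 24 c ∈ f4KU F := fun c =>
    Subgroup.subset_closure ⟨24, c, by decide +kernel, by decide, relF4.xU_val _ _⟩
  have hKC := f4KU_cent (F := F) 1 1
  set y : GL cdF4.D.Idx F := relF4.xU 27 (t 27) * (relF4.xU 34 (t 34) * (relF4.xU 25 (t 25) * (relF4.xU 26 (t 26) * 1)))
    with hy
  have hyC : y ∈ Subgroup.centralizer {v} := by
    have e : y = (relF4.xU 24 (t 24))⁻¹ * ((relF4.xU 33 (t 33))⁻¹ * n' * n⁻¹) := by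
      rw [ht]; group
    rw [e]
    exact Subgroup.mul_mem _ (Subgroup.inv_mem _ (hKC (h24 _)))
      (Subgroup.mul_mem _ (Subgroup.mul_mem _ (Subgroup.inv_mem _ (hKC (h33 _))) hc) (Subgroup.inv_mem _ (hKC hnK)))
  have hfix : y * S.prp (f4L0 F) * y⁻¹ = S.prp (f4L0 F) := by
    rw [f4L0_prp]
    have := Subgroup.mem_centralizer_iff.mp hyC v rfl
    rw [← hv, ← this]
    group
  obtain ⟨⟨a1, a2, a3⟩, ⟨b1, b2⟩, c1, d1, d2, d3, d4⟩ := f4_peel_tab
  obtain ⟨v1, v2, v3, v4⟩ := f4_peel_vec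
  obtain ⟨B1, B2, B3, B4⟩ := f4_peel_B
  have hT : ∀ t ∈ f4T2, t < cdF4.D.nroots := fun t ht => (f4T2_pos t ht).1
  have l39 : (39 : ℕ) < cdF4.D.nroots := by decide
  have l45 : (45 : ℕ) < cdF4.D.nroots := by decide
  have l40 : (40 : ℕ) < cdF4.D.nroots := by decide
  have l44 : (44 : ℕ) < cdF4.D.nroots := by decide
  have l46 : (46 : ℕ) < cdF4.D.nroots := by decide
  have l47 : (47 : ℕ) < cdF4.D.nroots := by decide
  have l27 : (27 : ℕ) < cdF4.D.nroots := by decide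
  have l34 : (34 : ℕ) < cdF4.D.nroots := by decide
  have l25 : (25 : ℕ) < cdF4.D.nroots := by decide
  have l26 : (26 : ℕ) < cdF4.D.nroots := by decide
  -- the parameter at `p₂`
  have z27 : t 27 = 0 := by
    refine dlHypF4.peel f4T2_pos f4T2_B (r := 27) (k := 40) (t := 39) (t₁ := 39) (t₂ := 45) l27 (by decide) l39 l45
      d1 v1 B1 ?_ f4L0_T f4L0_tau39 (t 27) hfix
    exact dlHypF4.presT_mul (dlHypF4.presT_xU hT l34 a1 l39 l40 _)
      (dlHypF4.presT_mul (dlHypF4.presT_xU hT l25 a2 l39 l40 _)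
        (dlHypF4.presT_mul (dlHypF4.presT_xU hT l26 a3 l39 l40 _) (dlHypF4.presT_one _ _ _)))
  rw [z27, relF4.xU_zero, one_mul] at hy
  -- the parameter at `p₁ + p₂`
  have z34 : t 34 = 0 := by
    rw [hy] at hfix
    refine dlHypF4.peel f4T2_pos f4T2_B (r := 34) (k := 44) (t := 39) (t₁ := 39) (t₂ := 45) l34 (by decide) l39 l45
      d2 v2 B2 ?_ f4L0_T f4L0_tau39 (t 34) hfix
    exact dlHypF4.presT_mul (dlHypF4.presT_xU hT l25 b1 l39 l44 _)
      (dlHypF4.presT_mul (dlHypF4.presT_xU hT l26 b2 l39 l44 _) (dlHypF4.presT_one _ _ _))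
  rw [z34, relF4.xU_zero, one_mul] at hy
  -- the parameter at `p₃`
  have z25 : t 25 = 0 := by
    rw [hy] at hfix
    refine dlHypF4.peel f4T2_pos f4T2_B (r := 25) (k := 46) (t := 45) (t₁ := 39) (t₂ := 45) l25 (by decide) l39 l45
      d3 v3 B3 ?_ f4L0_T f4L0_tau45 (t 25) hfix
    exact dlHypF4.presT_mul (dlHypF4.presT_xU hT l26 c1 l45 l46 _) (dlHypF4.presT_one _ _ _)
  rw [z25, relF4.xU_zero, one_mul] at hy
  -- the parameter at `p₃ + p₄`
  have z26 : t 26 = 0 := by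
    rw [hy] at hfix
    exact dlHypF4.peel f4T2_pos f4T2_B (r := 26) (k := 47) (t := 45) (t₁ := 39) (t₂ := 45) l26 (by decide) l39 l45
      d4 v4 B4 (dlHypF4.presT_one _ _ _) f4L0_T f4L0_tau45 (t 26) hfix
  rw [ht, hy, z26, relF4.xU_zero, mul_one, mul_one]
  exact Subgroup.mul_mem _ (Subgroup.mul_mem _ (h33 _) (h24 _)) hnK

end

end Cfsg.Agent.Lib.Helper3.DLInv
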