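import Mathlib
import Cfsg.Prelude.Def_ChevStructure
import Cfsg.Prelude.Def_ChevF4
import Cfsg.Agent.Lib.Helper3.F4Cen3
set_option autoImplicit false
set_option linter.unusedSectionVars false
set_option linter.unusedVariables false
set_option linter.unusedSimpArgs false
set_option maxRecDepth 1000000
open Cfsg Cfsg.Lie

/-!
The centralizer of the involution `x_39(1) x_45(1)` of the groups of type `F₄` in characteristic two.
-/

namespace Cfsg.Agent.Lib.Helper3.DLInv

open Cfsg.Agent.Lib.Helper3.ChevM Cfsg.Agent.Lib.Helper3 ChevU ChevT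
open Cfsg.Agent.Lib.Helper3.ChevAt Cfsg.Agent.Lib.Helper3.ChevAut
open Cfsg.Agent.Lib.Helper3.SLInv Cfsg.Agent.Lib.Helper3.RF4

section
variable (F : Type*) [Field F] [Fintype F] [CharP F 2]

/-- the centralizer of `x_39(1) x_45(1)` lies in a parabolic subgroup -/
theorem f4_cent_v_parabolic :
    cdF4.D.group F ⊓ Subgroup.centralizer {relF4.xU 39 (1 : F) * relF4.xU 45 1} ≤ cdF4.D.parabolicSubgroup F f4J2 :=
  dlHypF4.cent_pair_parabolic (F := F) leviF4 (of_pairRange (m := 4) (n := 48) f4Rv)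
    f4J2 f4ReflOK f4T2_pos f4T2_B (by decide) (by decide) (by decide) (by decide)
    f4T2_closed f4T2_uniq (by
      intro s hs s' hs' e1 e2
      show levR cdF4.D vecF4 _ s = levR cdF4.D vecF4 _ s'
      rw [f4_levR2 s, f4_levR2 s']
      have h1 := f4T2_lev s hs
      have h2 := f4T2_lev s' hs'
      omega)

/-- the centralizer of `x_39(1) x_45(1)` -/
theorem f4_cent_v : cdF4.D.group F ⊓ Subgroup.centralizer {relF4.xU 39 (1 : F) * relF4.xU 45 1} =
    cdF4.D.rootSubgroup F 33 ⊔ cdF4.D.rootSubgroup F 14 ⊔ cdF4.D.rootSubgroup F 24 ⊔ cdF4.D.rootSubgroup F 23 ⊔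
      Subgroup.closure {g : GL cdF4.D.Idx F | ∃ (r : ℕ) (c : F), cdF4.D.IsPosRoot r ∧ r ∉ [27, 25, 34, 26] ∧
        (g : Matrix cdF4.D.Idx cdF4.D.Idx F) = cdF4.D.x F r c} := by
  set v : GL cdF4.D.Idx F := relF4.xU 39 (1 : F) * relF4.xU 45 1 with hv
  have hJle : ∀ r ∈ [33, 14, 24, 23], cdF4.D.rootSubgroup F r ≤ cdF4.D.group F ⊓ Subgroup.centralizer {v} :=
    fun r hr => (rootSubgroup_le_f4KJ hr).trans (le_inf f4KJ_le_group (f4KJ_cent 1 1))
  apply le_antisymm
  · -- the centralizer lies in the subgroup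
    intro g hg
    have hgv : g * v * g⁻¹ = v := by
      have := Subgroup.mem_centralizer_iff.mp hg.2 v rfl
      rw [← this]; group
    have hP := f4_cent_v_parabolic F hg
    rw [← leviF4.sup_eq_parabolic (F := F) f4J2] at hP
    have hLN : cdF4.D.leviSubgroup F f4J2 ≤
        Subgroup.normalizer (cdF4.D.unipotentRadical F f4J2 : Set (GL cdF4.D.Idx F)) := by
      refine le_trans ?_ (leviF4.parabolic_le_normalizer (F := F) commF4 f4J2)
      rw [← leviF4.sup_eq_parabolic (F := F) f4J2]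
      exact le_sup_right
    rw [← SetLike.mem_coe, Subgroup.coe_mul_of_right_le_normalizer_left _ _ hLN] at hP
    obtain ⟨n', hn', m, hm, e⟩ := Set.mem_mul.mp hP
    have hn'U : n' ∈ cdF4.D.posUnipotent F := by
      revert hn'
      apply Subgroup.closure_mono
      rintro x ⟨r, t, hr, -, hx⟩
      exact ⟨r, t, hr, hx⟩
    obtain ⟨k, hk, a, ha, rfl⟩ := f4_levi_split m hm
    -- the action of `a`
    obtain ⟨d, hd, hdL⟩ := dlHypF4.diag_conj_prp a ha
    have hL0r : ∀ p ∈ f4L0 F, p.1 ∈ dlHypF4.rootsZ := by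
      intro p hp
      obtain ⟨t, ht, e⟩ := List.mem_map.mp (f4L0_T p hp)
      exact dlHypF4.mem_rootsZ.mpr ⟨t, (f4T2_pos t ht).1, e⟩
    have e₂ := hdL (f4L0 F) hL0r
    set Ld := (f4L0 F).map fun p => (p.1, d (dlHypF4.ix p.1) * p.2) with hLd
    have hLdT : ∀ p ∈ Ld, p.1 ∈ f4T2.map dlHypF4.vz := by
      intro p hp
      obtain ⟨q, hq, rfl⟩ := List.mem_map.mp hp
      exact f4L0_T q hq
    have hLd_eq : (dlHypF4.sys (F := F)).prp Ld = relF4.xU 39 (d 39) * relF4.xU 45 (d 45) := by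
      have e1 : Ld = [(dlHypF4.vz 39, d 39), (dlHypF4.vz 45, d 45)] := by
        rw [hLd]
        unfold f4L0
        simp only [List.map_cons, List.map_nil, mul_one, dlHypF4.ix_vz (show 39 < cdF4.D.nroots by decide),
          dlHypF4.ix_vz (show 45 < cdF4.D.nroots by decide)]
      rw [e1, DLSys.prp_cons, DLSys.prp_cons, DLSys.prp_nil, mul_one, dlHypF4.x_vz F (by decide),
        dlHypF4.x_vz F (by decide)]
    have hτ1 : DLSys.tau Ld (dlHypF4.vz 39) = d 39 := by
      rw [hLd, DLSys.tau_map_scale (fun w => d (dlHypF4.ix w)), f4L0_tau39, mul_one, dlHypF4.ix_vz (by decide)]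
    have hτ2 : DLSys.tau Ld (dlHypF4.vz 45) = d 45 := by
      rw [hLd, DLSys.tau_map_scale (fun w => d (dlHypF4.ix w)), f4L0_tau45, mul_one, dlHypF4.ix_vz (by decide)]
    -- the action of `k`
    have hkc : k * (dlHypF4.sys (F := F)).prp Ld * k⁻¹ = (dlHypF4.sys (F := F)).prp Ld := by
      rw [hLd_eq]
      have := Subgroup.mem_centralizer_iff.mp (f4KJ_cent (d 39) (d 45) hk) _ rfl
      rw [← this]; group
    -- the action of `n'`
    have hT : ∀ t ∈ f4T2, t < cdF4.D.nroots := fun t ht => (f4T2_pos t ht).1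
    obtain ⟨L'', hL'', e'', τ1, τ2⟩ :=
      dlHypF4.presT_of_mem hT f4T2_closed (by decide) (by decide) n' hn'U Ld hLdT
    have heq : (dlHypF4.sys (F := F)).prp L'' = (dlHypF4.sys (F := F)).prp (f4L0 F) := by
      have e3 : n' * (k * (a * v * a⁻¹) * k⁻¹) * n'⁻¹ = (n' * (k * a)) * v * (n' * (k * a))⁻¹ := by group
      rw [← e'', ← hkc, ← e₂, f4L0_prp, ← hv, e3, e, hgv]
    have h1 := (dlHypF4.sys (F := F)).prp_inj (dlHypF4.T_posL f4T2_pos _ hL'') (dlHypF4.T_pairwise f4T2_B _ hL'')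
      (dlHypF4.T_posL f4T2_pos _ f4L0_T) (dlHypF4.T_pairwise f4T2_B _ f4L0_T) heq
    have g1 := h1 (dlHypF4.vz 39) (dlHypF4.vz_mem_posL F (by decide +kernel))
    have g2 := h1 (dlHypF4.vz 45) (dlHypF4.vz_mem_posL F (by decide +kernel))
    rw [τ1, hτ1, f4L0_tau39] at g1
    rw [τ2, hτ2, f4L0_tau45] at g2
    -- `a` centralizes
    have hav : a * v * a⁻¹ = v := by
      rw [hv, ← f4L0_prp, e₂, hLd_eq, g1, g2, f4L0_prp]
    have hav' : v * a = a * v := by
      have := congrArg (fun z => z * a) hav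
      simpa [mul_assoc] using this.symm
    have haK := f4_diag_cent a ha hav'
    have hmK : k * a ∈ f4KJ F := Subgroup.mul_mem _ hk haK
    have hmC : k * a ∈ Subgroup.centralizer {v} := f4KJ_cent 1 1 hmK
    have hn'C : n' ∈ Subgroup.centralizer {v} := by
      have : n' = g * (k * a)⁻¹ := by rw [← e]; group
      rw [this]
      exact Subgroup.mul_mem _ hg.2 (Subgroup.inv_mem _ hmC)
    have hn'K := f4_unip_cent n' hn'U hn'C
    rw [← e]
    exact Subgroup.mul_mem _ (Subgroup.mem_sup_right hn'K) (Subgroup.mem_sup_left (f4KJ_le_sup hmK))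
  · -- the subgroup lies in the centralizer
    refine sup_le (sup_le (sup_le (sup_le ?_ ?_) ?_) ?_) ?_
    · exact hJle 33 (by decide)
    · exact hJle 14 (by decide)
    · exact hJle 24 (by decide)
    · exact hJle 23 (by decide)
    · exact le_inf f4KU_le_group (f4KU_cent 1 1)

end

end Cfsg.Agent.Lib.Helper3.DLInv
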