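import Mathlib
import Cfsg.Prelude.Def_ChevStructure
import Cfsg.Agent.Lib.Helper3.F4T18
import Cfsg.Agent.Lib.Helper3.F4T15
import Cfsg.Agent.Lib.Helper3.TwAut10
import Cfsg.Agent.Lib.Helper3.ChevData.F4UHyp
set_option autoImplicit false
set_option linter.unusedSectionVars false
set_option linter.style.haveILetI false
set_option maxRecDepth 1000000
open Cfsg Cfsg.Lie

/-!
The elements of order a power of two of the twisted groups of type F4 have order at most 32: the elements of the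
unipotent subgroup of the Chevalley group of type F4 are unipotent with respect to the grading of the adjoint
module by the heights, which has 23 levels.
-/

namespace Cfsg.Agent.Lib.Helper3.RF4

open Cfsg.Agent.Lib.Helper3.ChevM Cfsg.Agent.Lib.Helper3.ChevSp Cfsg.Agent.Lib.Helper3.ChevAt
open Cfsg.Agent.Lib.Helper3 ChevU ChevT

/-- The heights of the coordinates of the adjoint module of type F4, shifted by 11. -/
def htF4 (c : ℕ) : ℕ := (#[11, 11, 11, 11, 0, 1, 2, 3, 4, 5, 6, 4, 5, 6, 7, 7, 8, 9, 10, 6, 7, 8, 8, 9, 10, 9, 10, 10,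
  12, 12, 13, 12, 13, 14, 14, 15, 16, 12, 13, 14, 15, 15, 16, 17, 18, 16, 17, 18, 19, 20, 21, 22] : Array ℕ).getD c 0

theorem f4_htLev : ∀ r < cdF4.D.nroots, levelCheck cdF4 htF4 (fun _ => 1) r = true := by decide +kernel

theorem htF4_lt : ∀ c < cdF4.D.rank + cdF4.D.nroots, htF4 c < 23 := by decide

theorem htIdx_lt (j : cdF4.D.Idx) : hfIdx cdF4.D htF4 j < 23 := htF4_lt _ (code_lt cdF4.D j)

section
variable {F : Type*} [Field F]

theorem posUnipotent_le_ht : cdF4.D.posUnipotent F ≤ utSubgroup (hfIdx cdF4.D htF4) F 0 := by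
  unfold ChevalleyDatum.posUnipotent
  rw [Subgroup.closure_le]
  rintro g ⟨r, t, hpos, hg⟩
  show Shift (hfIdx cdF4.D htF4) (0 + 1) ((g : Matrix cdF4.D.Idx cdF4.D.Idx F) - 1)
  rw [hg, zero_add]
  exact shift_level htF4 (fun _ => 1) r hpos (f4_htLev r hpos.1) t

/-- The elements of the unipotent subgroup of type F4 in characteristic two have order dividing 32. -/
theorem posUnipotent_pow_32 [CharP F 2] (g : GL cdF4.D.Idx F) (hg : g ∈ cdF4.D.posUnipotent F) : g ^ 32 = 1 := by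
  have h1 := posUnipotent_le_ht hg
  rw [mem_utSubgroup, zero_add] at h1
  have h2 : ((g : Matrix cdF4.D.Idx cdF4.D.Idx F) - 1) ^ 23 = 0 := h1.pow_eq_zero htIdx_lt
  have h3 : ((g : Matrix cdF4.D.Idx cdF4.D.Idx F) - 1) ^ 32 = 0 := by
    rw [show 32 = 23 + 9 by norm_num, pow_add, h2, zero_mul]
  haveI : Fact (Nat.Prime 2) := ⟨by norm_num⟩
  haveI : Nonempty cdF4.D.Idx := ⟨Sum.inl ⟨0, by decide⟩⟩
  haveI : CharP (Matrix cdF4.D.Idx cdF4.D.Idx F) 2 := Matrix.charP 2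
  have h4 : ((g : Matrix cdF4.D.Idx cdF4.D.Idx F) - 1) ^ 2 ^ 5 =
      (g : Matrix cdF4.D.Idx cdF4.D.Idx F) ^ 2 ^ 5 - 1 ^ 2 ^ 5 :=
    sub_pow_char_pow_of_commute 2 5 (Commute.one_right _)
  rw [show (2 : ℕ) ^ 5 = 32 by norm_num, h3, one_pow] at h4
  apply Units.ext
  rw [Units.val_pow_eq_pow_val, Units.val_one]
  exact (sub_eq_zero.mp h4.symm)

end

section
variable {K : Type*} [Field K] [Fintype K] [CharP K 2]

/-- The subgroup `U¹` is a Sylow subgroup of the twisted group of type F4. -/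
theorem f4_sylow (m : ℕ) (hK : Fintype.card K = 2 ^ (2 * m + 1)) :
    haveI : Fact (Nat.Prime 2) := ⟨by norm_num⟩
    ∃ S : Sylow 2 ↥(tF4 K (2 ^ m)),
      (S : Subgroup ↥(tF4 K (2 ^ m))) = (cdF4.D.posUnipotent K ⊓ tF4 K (2 ^ m)).subgroupOf (tF4 K (2 ^ m)) := by
  haveI : Fact (Nat.Prime 2) := ⟨by norm_num⟩
  set q := 2 ^ (2 * m + 1) with hq
  have hq1 : 1 ≤ q := Nat.one_le_pow _ _ (by norm_num)
  have h2q : 2 ∣ q := dvd_pow_self 2 (by omega)
  apply TwAut.exists_sylow_of_card (tF4 K (2 ^ m)) (cdF4.D.posUnipotent K ⊓ tF4 K (2 ^ m)) inf_le_right 2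
    ((2 * m + 1) * 12) ((q - 1) * (q ^ 3 + 1) * (q ^ 4 - 1) * (q ^ 6 + 1))
  · rw [card_pos_inf_tF4 m hK, ← pow_mul]
  · rw [card_tF4 m hK, ← pow_mul]
    ring
  · have hodd : ∀ n, 1 ≤ n → ¬ 2 ∣ q ^ n - 1 ∧ ¬ 2 ∣ q ^ n + 1 := by
      intro n hn
      have h1 : 2 ∣ q ^ n := dvd_trans h2q (dvd_pow_self q (by omega))
      have h2 : 1 ≤ q ^ n := Nat.one_le_pow _ _ hq1
      constructor <;> omega
    intro hd
    have hp2 : Nat.Prime 2 := by norm_num
    rcases (Nat.Prime.dvd_mul hp2).mp hd with h | h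
    · rcases (Nat.Prime.dvd_mul hp2).mp h with h | h
      · rcases (Nat.Prime.dvd_mul hp2).mp h with h | h
        · exact (hodd 1 le_rfl).1 (by rwa [pow_one])
        · exact (hodd 3 (by norm_num)).2 h
      · exact (hodd 4 (by norm_num)).1 h
    · exact (hodd 6 (by norm_num)).2 h

/-- The elements of order a power of two of the twisted group of type F4 have order dividing 32. -/
theorem f4_two_elt_pow (m : ℕ) (hK : Fintype.card K = 2 ^ (2 * m + 1)) (x : ↥(tF4 K (2 ^ m)))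
    (hx : ∃ j : ℕ, orderOf x = 2 ^ j) : x ^ 32 = 1 := by
  haveI : Fact (Nat.Prime 2) := ⟨by norm_num⟩
  haveI : Finite ↥(tF4 K (2 ^ m)) := inferInstance
  obtain ⟨S, hS⟩ := f4_sylow (K := K) m hK
  obtain ⟨j, hj⟩ := hx
  have hpg : IsPGroup 2 (Subgroup.zpowers x) := by
    apply IsPGroup.of_card (n := j)
    rw [Nat.card_zpowers, hj]
  obtain ⟨P, hP⟩ := hpg.exists_le_sylow
  obtain ⟨g, hg⟩ := MulAction.exists_smul_eq ↥(tF4 K (2 ^ m)) S P
  have hxP : x ∈ (P : Subgroup ↥(tF4 K (2 ^ m))) := hP (Subgroup.mem_zpowers x)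
  rw [← hg, Sylow.coe_subgroup_smul, Subgroup.mem_pointwise_smul_iff_inv_smul_mem, hS,
    Subgroup.mem_subgroupOf] at hxP
  have hy : (((MulAut.conj g)⁻¹ x : ↥(tF4 K (2 ^ m))) : GL cdF4.D.Idx K) ∈ cdF4.D.posUnipotent K := hxP.1
  have hy32 := posUnipotent_pow_32 _ hy
  have hy32' : ((MulAut.conj g)⁻¹ x : ↥(tF4 K (2 ^ m))) ^ 32 = 1 := by
    apply Subtype.ext
    rw [Subgroup.coe_pow]
    exact hy32
  rw [← map_pow] at hy32'
  exact (MulEquiv.map_eq_one_iff _).mp hy32'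

theorem f4_two_elt_order (m : ℕ) (hK : Fintype.card K = 2 ^ (2 * m + 1)) (x : ↥(tF4 K (2 ^ m)))
    (hx : ∃ j : ℕ, orderOf x = 2 ^ j) : orderOf x ≤ 32 :=
  Nat.le_of_dvd (by norm_num) (orderOf_dvd_of_pow_eq_one (f4_two_elt_pow m hK x hx))

end

end Cfsg.Agent.Lib.Helper3.RF4
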