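import Cfsg.Agent.Lib.Helper3.F4T16
import Cfsg.Agent.Lib.Helper3.F4T10
import Cfsg.Agent.Lib.Helper3.ChevGen2c
set_option autoImplicit false
open Cfsg Cfsg.Lie

/-!
Two generators for the large Ree groups, part 1: the action of the elements of the diagonal subgroup on the root
subgroups of the class of type `B₂`, and the subgroups of that root subgroup stable under a generator of the torus.
-/

namespace Cfsg.Agent.Lib.Helper3.RF4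

open Cfsg.Agent.Lib.Helper3.ChevM Cfsg.Agent.Lib.Helper3.ChevSp Cfsg.Agent.Lib.Helper3.ChevAt
open Cfsg.Agent.Lib.Helper3 ChevU Cfsg.Agent.Lib.Helper3.ChevGen2

section
variable {K : Type*} [Field K] [Fintype K] [CharP K 2]

/-- An element acting on the four root subgroups of the class of type `B₂` as `h(s, 1)` acts on the distinguished
elements in the same way. -/
theorem conj_clsP_of_scalars (m : ℕ) (hK : Fintype.card K = 2 ^ (2 * m + 1)) (g : GL cdF4.D.Idx K) (s : K)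
    (hs : s ≠ 0)
    (h27 : ∀ c : K, g * relF4.xU 27 c * g⁻¹ = relF4.xU 27 ((s ^ 2 ^ m)⁻¹ * c))
    (h25 : ∀ c : K, g * relF4.xU 25 c * g⁻¹ = relF4.xU 25 (s⁻¹ * c))
    (h28 : ∀ c : K, g * relF4.xU 28 c * g⁻¹ = relF4.xU 28 ((s ^ 2 ^ m)⁻¹ * s⁻¹ * c))
    (h30 : ∀ c : K, g * relF4.xU 30 c * g⁻¹ = relF4.xU 30 (((s ^ 2 ^ m) ^ 2)⁻¹ * s⁻¹ * c)) (t u : K) :
    g * clsP (2 ^ m) t u * g⁻¹ = clsP (2 ^ m) (s⁻¹ * t) ((s ^ (2 ^ m + 1))⁻¹ * u) := by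
  have hθ := thetaHyp2_of_card (K := K) m hK
  have hA : s ^ 2 ^ m ≠ 0 := pow_ne_zero _ hs
  have e : g * clsP (2 ^ m) t u * g⁻¹ =
      (g * relF4.xU 27 (t ^ 2 ^ m) * g⁻¹) * (g * relF4.xU 25 t * g⁻¹) *
        (g * relF4.xU 28 (t ^ (2 ^ m + 1) + u) * g⁻¹) * (g * relF4.xU 30 (u ^ (2 * 2 ^ m)) * g⁻¹) := by
    rw [clsP_eq]; group
  rw [e, h27, h25, h28, h30, clsP_eq]
  have e27 : (s⁻¹ * t) ^ 2 ^ m = (s ^ 2 ^ m)⁻¹ * t ^ 2 ^ m := by rw [mul_pow, inv_pow]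
  have e28 : (s⁻¹ * t) ^ (2 ^ m + 1) + (s ^ (2 ^ m + 1))⁻¹ * u =
      (s ^ 2 ^ m)⁻¹ * s⁻¹ * (t ^ (2 ^ m + 1) + u) := by
    rw [mul_pow, inv_pow, pow_succ s, mul_inv]
    ring
  have e30 : ((s ^ (2 ^ m + 1))⁻¹ * u) ^ (2 * 2 ^ m) = ((s ^ 2 ^ m) ^ 2)⁻¹ * s⁻¹ * u ^ (2 * 2 ^ m) := by
    rw [mul_pow, inv_pow, pow_succ, mul_pow, hθ.inv, ← ThetaHyp2.pow_sq (K := K) (θ := 2 ^ m) s, mul_inv,
      ← pow_mul]
    ring
  rw [e27, e28, e30]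

end

section
variable {K : Type*} [Field K] [CharP K 2]

omit [CharP K 2] in
/-- the action of `h(s, 1)` on the root elements -/
theorem hFix_s_conj_xU (θ : ℕ) (s : K) (hs : s ≠ 0) (r : ℕ) (hr : r < cdF4.D.nroots) (c : K) :
    hFix θ s 1 * relF4.xU r c * (hFix θ s 1)⁻¹ =
      relF4.xU r ((s ^ θ) ^ cdF4.D.cartan 0 r * s ^ cdF4.D.cartan 3 r * c) := by
  unfold hFix
  rw [hT_conj _ _ _ _ (pow_ne_zero _ hs) (pow_ne_zero _ one_ne_zero) one_ne_zero hs r hr]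
  rw [one_pow, one_zpow, one_zpow, one_mul, one_mul, mul_assoc]

/-- the action of a conjugate of `h(s, 1)` by a representative of an element of the Weyl group -/
theorem conj_hFix_s_conj_xU (θ : ℕ) (s : K) (hs : s ≠ 0) (l : List ℕ) (hl : ∀ i ∈ l, i < cdF4.D.rank) (r : ℕ)
    (hr : r < cdF4.D.nroots) (c : K) :
    ((relF4.nWordU (F := K) l)⁻¹ * hFix θ s 1 * relF4.nWordU l) * relF4.xU r c *
        ((relF4.nWordU (F := K) l)⁻¹ * hFix θ s 1 * relF4.nWordU l)⁻¹ =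
      relF4.xU r ((s ^ θ) ^ cdF4.D.cartan 0 (reflW relF4.refl l r) * s ^ cdF4.D.cartan 3 (reflW relF4.refl l r) * c) := by
  set n := relF4.nWordU (F := K) l with hn
  have e1 : (n⁻¹ * hFix θ s 1 * n) * relF4.xU r c * (n⁻¹ * hFix θ s 1 * n)⁻¹ =
      n⁻¹ * (hFix θ s 1 * (n * relF4.xU r c * n⁻¹) * (hFix θ s 1)⁻¹) * n := by group
  rw [e1, conj_word_xU2 l hl r hr c, hFix_s_conj_xU θ s hs _ (relF4.reflW_lt l hl r hr), ← conj_word_xU2 l hl r hr, ← hn]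
  group

end

/-- the word of the twisted Coxeter element -/
def wC : List ℕ := wJ1 ++ wJ2

theorem wC_lt : ∀ i ∈ wC, i < cdF4.D.rank := by decide

theorem wC_cartan :
    (cdF4.D.cartan 0 27 = -1 ∧ cdF4.D.cartan 3 27 = 0 ∧ cdF4.D.cartan 0 25 = 0 ∧ cdF4.D.cartan 3 25 = -1 ∧
      cdF4.D.cartan 0 28 = -1 ∧ cdF4.D.cartan 3 28 = -1 ∧ cdF4.D.cartan 0 30 = -2 ∧ cdF4.D.cartan 3 30 = -1) ∧
    (cdF4.D.cartan 0 (reflW relF4.refl wC 27) = -1 ∧ cdF4.D.cartan 3 (reflW relF4.refl wC 27) = 0 ∧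
      cdF4.D.cartan 0 (reflW relF4.refl wC 25) = 0 ∧ cdF4.D.cartan 3 (reflW relF4.refl wC 25) = -1 ∧
      cdF4.D.cartan 0 (reflW relF4.refl wC 28) = -1 ∧ cdF4.D.cartan 3 (reflW relF4.refl wC 28) = -1 ∧
      cdF4.D.cartan 0 (reflW relF4.refl wC 30) = -2 ∧ cdF4.D.cartan 3 (reflW relF4.refl wC 30) = -1) := by
  decide +kernel

section
variable {K : Type*} [Field K] [Fintype K] [CharP K 2]

/-- the action of `h(s, 1)` on the distinguished elements of the class of type `B₂` -/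
theorem hFix_s_conj_clsP (m : ℕ) (hK : Fintype.card K = 2 ^ (2 * m + 1)) (s : K) (hs : s ≠ 0) (t u : K) :
    hFix (2 ^ m) s 1 * clsP (2 ^ m) t u * (hFix (2 ^ m) s 1)⁻¹ =
      clsP (2 ^ m) (s⁻¹ * t) ((s ^ (2 ^ m + 1))⁻¹ * u) := by
  obtain ⟨⟨a1, a2, a3, a4, a5, a6, a7, a8⟩, -⟩ := wC_cartan
  apply conj_clsP_of_scalars m hK _ s hs
  · intro c
    rw [hFix_s_conj_xU _ s hs 27 (by decide), a1, a2]
    simp
  · intro c
    rw [hFix_s_conj_xU _ s hs 25 (by decide), a3, a4]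
    simp
  · intro c
    rw [hFix_s_conj_xU _ s hs 28 (by decide), a5, a6]
    simp
  · intro c
    rw [hFix_s_conj_xU _ s hs 30 (by decide), a7, a8]
    congr 1
    rw [zpow_neg, zpow_neg, zpow_one]
    norm_cast

/-- the action of the conjugate of `h(s, 1)` by the representative of the twisted Coxeter element -/
theorem conj_hFix_s_conj_clsP (m : ℕ) (hK : Fintype.card K = 2 ^ (2 * m + 1)) (s : K) (hs : s ≠ 0) (t u : K) :
    ((relF4.nWordU (F := K) wC)⁻¹ * hFix (2 ^ m) s 1 * relF4.nWordU wC) * clsP (2 ^ m) t u *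
        ((relF4.nWordU (F := K) wC)⁻¹ * hFix (2 ^ m) s 1 * relF4.nWordU wC)⁻¹ =
      clsP (2 ^ m) (s⁻¹ * t) ((s ^ (2 ^ m + 1))⁻¹ * u) := by
  obtain ⟨-, ⟨a1, a2, a3, a4, a5, a6, a7, a8⟩⟩ := wC_cartan
  apply conj_clsP_of_scalars m hK _ s hs
  · intro c
    rw [conj_hFix_s_conj_xU _ s hs wC wC_lt 27 (by decide), a1, a2]
    simp
  · intro c
    rw [conj_hFix_s_conj_xU _ s hs wC wC_lt 25 (by decide), a3, a4]
    simp
  · intro c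
    rw [conj_hFix_s_conj_xU _ s hs wC wC_lt 28 (by decide), a5, a6]
    simp
  · intro c
    rw [conj_hFix_s_conj_xU _ s hs wC wC_lt 30 (by decide), a7, a8]
    congr 1
    rw [zpow_neg, zpow_neg, zpow_one]
    norm_cast

end

section
variable {K : Type*} [Field K] [Fintype K] [CharP K 2]

/-- From `h(s, 1)` and `n_w x` with `x` a distinguished element of the class of type `B₂`, an element of that class
with a nonzero first parameter. -/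
theorem trick_clsP (m : ℕ) (hK : Fintype.card K = 2 ^ (2 * m + 1)) (T : Subgroup (GL cdF4.D.Idx K)) (s : K)
    (hs0 : s ≠ 0) (hs1 : s ≠ 1) (hh : hFix (2 ^ m) s 1 ∈ T)
    (hb : relF4.nWordU (F := K) wC * clsP (2 ^ m) 1 0 ∈ T) :
    ∃ t u : K, t ≠ 0 ∧ clsP (2 ^ m) t u ∈ T := by
  have hθ := thetaHyp2_of_card (K := K) m hK
  have hθ0 : (2 : ℕ) ^ m ≠ 0 := pow_ne_zero _ (by norm_num)
  have hconj1 := hFix_s_conj_clsP m hK s hs0
  have hconj2 := conj_hFix_s_conj_clsP m hK s hs0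
  have hd1 : (relF4.nWordU (F := K) wC)⁻¹ * hFix (2 ^ m) s 1 * relF4.nWordU wC ∈ cdF4.D.diagonalSubgroup K := by
    have := monoF4.conj_mem (relF4.nWordU (F := K) wC)⁻¹ (Subgroup.inv_mem _ (relF4.nWordU_mem wC wC_lt))
      (hFix (2 ^ m) s 1) (hFix_mem _ s 1 hs0 one_ne_zero)
    rwa [inv_inv] at this
  have hcomm : hFix (2 ^ m) s 1 * ((relF4.nWordU (F := K) wC)⁻¹ * hFix (2 ^ m) s 1 * relF4.nWordU wC) =
      ((relF4.nWordU (F := K) wC)⁻¹ * hFix (2 ^ m) s 1 * relF4.nWordU wC) * hFix (2 ^ m) s 1 := by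
    obtain ⟨d0, d1, d2, d3, k0, k1, k2, k3, e⟩ := exists_hT _ hd1
    rw [e]
    unfold hFix
    rw [hT_mul _ _ _ _ _ _ _ _ (pow_ne_zero _ hs0) (pow_ne_zero _ one_ne_zero) one_ne_zero hs0 k0 k1 k2 k3,
      hT_mul _ _ _ _ _ _ _ _ k0 k1 k2 k3 (pow_ne_zero _ hs0) (pow_ne_zero _ one_ne_zero) one_ne_zero hs0]
    simp only [mul_comm]
  obtain ⟨n, hn⟩ : ∃ n, n = relF4.nWordU (F := K) wC := ⟨_, rfl⟩
  obtain ⟨h, hh'⟩ : ∃ h, h = hFix (2 ^ m) s 1 := ⟨_, rfl⟩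
  obtain ⟨B, hB⟩ : ∃ B, B = clsP (2 ^ m) (1 : K) 0 := ⟨_, rfl⟩
  rw [← hn, ← hh'] at hcomm hconj2
  rw [← hh'] at hconj1 hh
  rw [← hn, ← hB] at hb
  have hgT : (n * B)⁻¹ * h * (n * B) ∈ T := T.mul_mem (T.mul_mem (T.inv_mem hb) hh) hb
  have hkT : h * ((n * B)⁻¹ * h * (n * B)) * h⁻¹ * ((n * B)⁻¹ * h * (n * B))⁻¹ ∈ T :=
    T.mul_mem (T.mul_mem (T.mul_mem hh hgT) (T.inv_mem hh)) (T.inv_mem hgT)
  have e0 : h * (n⁻¹ * h * n) * h⁻¹ = n⁻¹ * h * n := by rw [hcomm]; group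
  have e1 : h * ((n * B)⁻¹ * h * (n * B)) * h⁻¹ * ((n * B)⁻¹ * h * (n * B))⁻¹ =
      (h * B * h⁻¹)⁻¹ * ((n⁻¹ * h * n) * ((h * B * h⁻¹) * B⁻¹) * (n⁻¹ * h * n)⁻¹) * B := by
    calc h * ((n * B)⁻¹ * h * (n * B)) * h⁻¹ * ((n * B)⁻¹ * h * (n * B))⁻¹
        = (h * B * h⁻¹)⁻¹ * (h * (n⁻¹ * h * n) * h⁻¹) * (h * B * h⁻¹) * B⁻¹ * (n⁻¹ * h * n)⁻¹ * B := by group
      _ = _ := by rw [e0]; group
  rw [e1, hB, hconj1, clsP_inv hθ hθ0 1 0, clsP_mul hθ, hconj2, clsP_inv hθ hθ0, clsP_mul hθ, clsP_mul hθ] at hkT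
  refine ⟨_, _, ?_, hkT⟩
  have e2 : s⁻¹ * 1 + s⁻¹ * (s⁻¹ * 1 + 1) + 1 = (s⁻¹ + 1) ^ 2 := by
    ring
  rw [e2]
  apply pow_ne_zero
  intro h3
  apply hs1
  have : s⁻¹ = 1 := by
    have h2 : (2 : K) = 0 := CharP.cast_eq_zero K 2
    linear_combination h3 - h2
  rw [inv_eq_one] at this
  exact this

end

end Cfsg.Agent.Lib.Helper3.RF4
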