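import Cfsg.Agent.Lib.Helper3.F4Gen1
set_option autoImplicit false
open Cfsg Cfsg.Lie

/-!
Two generators for the large Ree groups, part 2: the unipotent part of the first generator.
-/

namespace Cfsg.Agent.Lib.Helper3.RF4

open Cfsg.Agent.Lib.Helper3.ChevM Cfsg.Agent.Lib.Helper3.ChevSp Cfsg.Agent.Lib.Helper3.ChevAt
open Cfsg.Agent.Lib.Helper3 ChevU Cfsg.Agent.Lib.Helper3.ChevGen2

section
variable {K : Type*} [Field K] [CharP K 2]

/-- the unipotent part of the first generator -/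
def elP (K : Type*) [Field K] : GL cdF4.D.Idx K := relF4.xU 39 1 * relF4.xU 45 1

theorem comm_39_45 (c c' : K) : relF4.xU 39 c * relF4.xU 45 c' = relF4.xU 45 c' * relF4.xU 39 c :=
  f4_comm_of_check 39 45 (by decide) (by decide) (by decide +kernel) c c'

omit [CharP K 2] in
theorem elP_mem_pos : elP K ∈ cdF4.D.posUnipotent K :=
  Subgroup.mul_mem _ (xU_mem_pos 39 (by decide) 1) (xU_mem_pos 45 (by decide) 1)

theorem elP_mul_self : elP K * elP K = 1 := by
  unfold elP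
  have e : relF4.xU (F := K) 39 1 * relF4.xU 45 1 * (relF4.xU 39 1 * relF4.xU 45 1) =
      relF4.xU 39 1 * (relF4.xU 45 1 * relF4.xU 39 1) * relF4.xU 45 1 := by group
  rw [e, ← comm_39_45, ← mul_assoc, relF4.xU_add, mul_assoc, relF4.xU_add, CharTwo.add_self_eq_zero,
    relF4.xU_zero, one_mul, relF4.xU_zero]

omit [CharP K 2] in
theorem hFix_s_comm_elP (θ : ℕ) (s : K) (hs : s ≠ 0) : hFix θ s 1 * elP K = elP K * hFix θ s 1 := by
  have h1 := hFix_s_conj_xU θ s hs 39 (by decide) 1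
  have h2 := hFix_s_conj_xU θ s hs 45 (by decide) 1
  have c1 : cdF4.D.cartan 0 39 = 0 := by decide +kernel
  have c2 : cdF4.D.cartan 3 39 = 0 := by decide +kernel
  have c3 : cdF4.D.cartan 0 45 = 0 := by decide +kernel
  have c4 : cdF4.D.cartan 3 45 = 0 := by decide +kernel
  rw [c1, c2, zpow_zero, zpow_zero, one_mul, one_mul] at h1
  rw [c3, c4, zpow_zero, zpow_zero, one_mul, one_mul] at h2
  unfold elP
  have e : hFix θ s 1 * (relF4.xU 39 1 * relF4.xU 45 1) =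
      (hFix θ s 1 * relF4.xU 39 1 * (hFix θ s 1)⁻¹) * (hFix θ s 1 * relF4.xU 45 1 * (hFix θ s 1)⁻¹) * hFix θ s 1 := by
    group
  rw [e, h1, h2]

end

section
variable {K : Type*} [Field K] [Fintype K] [CharP K 2]

theorem sg_elP (m : ℕ) : (f4Tw (K := K) m).sg (elP K) = elP K := by
  unfold elP
  rw [(f4Tw (K := K) m).sg_mul (relF4.xU_mem_group 39 (by decide) _) (relF4.xU_mem_group 45 (by decide) _),
    (f4Tw (K := K) m).sg_xU 39 (by decide), (f4Tw (K := K) m).sg_xU 45 (by decide)]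
  have e1 : (f4Tw (K := K) m).rho 39 = 45 := rfl
  have e2 : (f4Tw (K := K) m).rho 45 = 39 := rfl
  rw [e1, e2, one_pow, one_pow, comm_39_45]

theorem elP_mem_tF4 (m : ℕ) (hK : Fintype.card K = 2 ^ (2 * m + 1)) : elP K ∈ tF4 K (2 ^ m) :=
  fixed_pos_mem_tF4 m hK _ elP_mem_pos (sg_elP m)

end

/-- splitting a product of a commuting pair of an element of odd order and an involution -/
theorem split_commute {G : Type*} [Group G] (T : Subgroup G) (h P : G) (hc : Commute h P) (k : ℕ)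
    (hh : h ^ (2 * k + 1) = 1) (hP : P * P = 1) (ha : h * P ∈ T) : P ∈ T ∧ h ∈ T := by
  have e : (h * P) ^ (2 * k + 1) = P := by
    rw [hc.mul_pow, hh, one_mul, pow_succ, pow_mul, pow_two, hP, one_pow, one_mul]
  have hPT : P ∈ T := e ▸ T.pow_mem ha _
  refine ⟨hPT, ?_⟩
  have : h = (h * P) * P⁻¹ := by group
  rw [this]
  exact T.mul_mem ha (T.inv_mem hPT)

section
variable {K : Type*} [Field K] [Fintype K] [CharP K 2]

theorem hFix_s_pow (θ : ℕ) (s : K) (hs : s ≠ 0) (k : ℕ) : (hFix θ s 1) ^ k = hFix θ (s ^ k) 1 := by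
  induction k with
  | zero =>
    rw [pow_zero, pow_zero]
    unfold hFix
    rw [one_pow, hT_one]
  | succ k ih =>
    rw [pow_succ, ih, hFix_mul θ _ _ _ _ (pow_ne_zero _ hs) one_ne_zero hs one_ne_zero, mul_one, ← pow_succ]

/-- the two factors of the first generator -/
theorem split_first (m : ℕ) (hK : Fintype.card K = 2 ^ (2 * m + 1)) (T : Subgroup (GL cdF4.D.Idx K)) (s : K)
    (hs : s ≠ 0) (ha : hFix (2 ^ m) s 1 * elP K ∈ T) : elP K ∈ T ∧ hFix (2 ^ m) s 1 ∈ T := by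
  apply split_commute T _ _ (hFix_s_comm_elP _ s hs) (2 ^ (2 * m) - 1) _ elP_mul_self ha
  have e : 2 * (2 ^ (2 * m) - 1) + 1 = Fintype.card K - 1 := by
    rw [hK, pow_succ]
    have := Nat.one_le_two_pow (n := 2 * m)
    omega
  rw [e, hFix_s_pow _ s hs, FiniteField.pow_card_sub_one_eq_one s hs]
  unfold hFix
  rw [one_pow, hT_one]

theorem clsP_zero_zero (m : ℕ) (hK : Fintype.card K = 2 ^ (2 * m + 1)) : clsP (2 ^ m) (0 : K) 0 = 1 := by
  have hθ := thetaHyp2_of_card (K := K) m hK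
  have h := clsP_mul hθ (0 : K) 0 0 0
  simp only [add_zero, mul_zero] at h
  exact mul_eq_left.mp h

/-- the commutator of two distinguished elements of the class of type `B₂` -/
theorem clsP_comm (m : ℕ) (hK : Fintype.card K = 2 ^ (2 * m + 1)) (t u t' u' : K) :
    clsP (2 ^ m) 0 (t ^ 2 ^ m * t' + t' ^ 2 ^ m * t) =
      (clsP (2 ^ m) t' u' * clsP (2 ^ m) t u)⁻¹ * (clsP (2 ^ m) t u * clsP (2 ^ m) t' u') := by
  have hθ := thetaHyp2_of_card (K := K) m hK
  rw [eq_inv_mul_iff_mul_eq, clsP_mul hθ, clsP_mul hθ, clsP_mul hθ]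
  have e1 : t' + t + 0 = t + t' := by ring
  have e2 : u' + u + t' ^ 2 ^ m * t + (t ^ 2 ^ m * t' + t' ^ 2 ^ m * t) + (t' + t) ^ 2 ^ m * 0 =
      u + u' + t ^ 2 ^ m * t' := by
    have h2 : t' ^ 2 ^ m * t + t' ^ 2 ^ m * t = 0 := CharTwo.add_self_eq_zero _
    linear_combination h2
  rw [e1, e2]

/-- All distinguished elements of the class of type `B₂` from one of them with a nonzero first parameter and the
diagonal element of a generator of the multiplicative group. -/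
theorem clsP_all_mem (m : ℕ) (hm : 1 ≤ m) (hK : Fintype.card K = 2 ^ (2 * m + 1)) (T : Subgroup (GL cdF4.D.Idx K))
    (ζ : Kˣ) (hζ : ∀ x : Kˣ, x ∈ Subgroup.zpowers ζ) (hh : hFix (2 ^ m) (ζ : K) 1 ∈ T) (t0 u0 : K) (ht0 : t0 ≠ 0)
    (h0 : clsP (2 ^ m) t0 u0 ∈ T) (t u : K) : clsP (2 ^ m) t u ∈ T := by
  have hθ := thetaHyp2_of_card (K := K) m hK
  have hθ0 : (2 : ℕ) ^ m ≠ 0 := pow_ne_zero _ (by norm_num)
  have hζ0 : (ζ : K) ≠ 0 := ζ.ne_zero
  -- the first parameters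
  let St : AddSubgroup K :=
    { carrier := {t | ∃ u, clsP (2 ^ m) t u ∈ T}
      zero_mem' := ⟨0, by rw [clsP_zero_zero m hK]; exact T.one_mem⟩
      add_mem' := by
        rintro a b ⟨u, hu⟩ ⟨u', hu'⟩
        refine ⟨u + u' + a ^ 2 ^ m * b, ?_⟩
        have := T.mul_mem hu hu'
        rw [clsP_mul hθ] at this
        exact this
      neg_mem' := by
        rintro a ⟨u, hu⟩
        rw [CharTwo.neg_eq]
        exact ⟨u, hu⟩ }
  have hSt : ∀ x : K, x ∈ St := by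
    apply addSubgroup_eq_top St ζ hζ (-1) (Or.inr (Or.inl rfl)) _ t0 ht0 ⟨u0, h0⟩
    rintro c ⟨u, hu⟩
    refine ⟨(((ζ : K)) ^ (2 ^ m + 1))⁻¹ * u, ?_⟩
    have := T.mul_mem (T.mul_mem hh hu) (T.inv_mem hh)
    rw [hFix_s_conj_clsP m hK _ hζ0] at this
    rw [zpow_neg_one, Units.val_inv_eq_inv_val]
    exact this
  -- the second parameters
  have hcomm : ∀ a b : K, clsP (2 ^ m) 0 (a ^ 2 ^ m * b + b ^ 2 ^ m * a) ∈ T := by
    intro a b
    obtain ⟨u, hu⟩ := hSt a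
    obtain ⟨u', hu'⟩ := hSt b
    rw [clsP_comm m hK a u b u']
    exact T.mul_mem (T.inv_mem (T.mul_mem hu' hu)) (T.mul_mem hu hu')
  have hSu : ∀ x : K, clsP (2 ^ m) 0 x ∈ T := by
    intro x
    by_cases hx : x = 0
    · rw [hx, clsP_zero_zero m hK]
      exact T.one_mem
    obtain ⟨τ, hτ0, hτ1⟩ := exists_ne_zero_one m hm hK
    have hc0 : τ ^ 2 ^ m + τ ≠ 0 := by
      intro h
      apply pow_theta_ne m hK τ hτ0 hτ1
      have h5 : τ ^ 2 ^ m = (τ ^ 2 ^ m + τ) + τ := by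
        rw [add_assoc, CharTwo.add_self_eq_zero, add_zero]
      rw [h5, h, zero_add]
    obtain ⟨s, hs, hsv⟩ := exists_pow_eq m hK (x * (τ ^ 2 ^ m + τ)⁻¹) (mul_ne_zero hx (inv_ne_zero hc0))
    have := hcomm (s ^ 2 * τ) (s ^ 2)
    have e : (s ^ 2 * τ) ^ 2 ^ m * s ^ 2 + (s ^ 2) ^ 2 ^ m * (s ^ 2 * τ) = x := by
      have e1 : (s ^ 2 * τ) ^ 2 ^ m * s ^ 2 + (s ^ 2) ^ 2 ^ m * (s ^ 2 * τ) =
          s ^ (2 * 2 ^ m + 2) * (τ ^ 2 ^ m + τ) := by
        rw [mul_pow, ← pow_mul, pow_add]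
        ring
      rw [e1, hsv]
      field_simp
    rwa [e] at this
  obtain ⟨u1, hu1⟩ := hSt t
  have := T.mul_mem hu1 (hSu (u + u1))
  rw [clsP_mul hθ, add_zero, mul_zero, add_zero] at this
  have e2 : u1 + (u + u1) = u := by
    have : u1 + (u + u1) = u + (u1 + u1) := by ring
    rw [this, CharTwo.add_self_eq_zero, add_zero]
  rwa [e2] at this

end

end Cfsg.Agent.Lib.Helper3.RF4
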