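import Cfsg.Agent.Lib.Helper3.F4Gen2
set_option autoImplicit false
open Cfsg Cfsg.Lie

/-!
Two generators for the large Ree groups, part 3: the powers of the twisted Coxeter element and the two generators.
-/

namespace Cfsg.Agent.Lib.Helper3.RF4

open Cfsg.Agent.Lib.Helper3.ChevM Cfsg.Agent.Lib.Helper3.ChevSp Cfsg.Agent.Lib.Helper3.ChevAt
open Cfsg.Agent.Lib.Helper3 ChevU Cfsg.Agent.Lib.Helper3.ChevGen2

theorem wC6_refl :
    reflW relF4.refl (List.replicate 6 wC).flatten 39 = 33 ∧ reflW relF4.refl (List.replicate 6 wC).flatten 45 = 24 := by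
  decide +kernel

theorem wC4_refl :
    reflW relF4.refl (List.replicate 4 wC).flatten 33 = 14 ∧ reflW relF4.refl (List.replicate 4 wC).flatten 24 = 23 ∧
    reflW relF4.refl (List.replicate 4 wC).flatten 27 = 20 ∧ reflW relF4.refl (List.replicate 4 wC).flatten 25 = 22 ∧
    reflW relF4.refl (List.replicate 4 wC).flatten 28 = 19 ∧ reflW relF4.refl (List.replicate 4 wC).flatten 30 = 17 := by
  decide +kernel

theorem wCk_lt (k : ℕ) : ∀ i ∈ (List.replicate k wC).flatten, i < cdF4.D.rank := by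
  intro i hi
  rw [List.mem_flatten] at hi
  obtain ⟨l, hl, hil⟩ := hi
  rw [List.eq_of_mem_replicate hl] at hil
  exact wC_lt i hil

section
variable {K : Type*} [Field K] [CharP K 2]

theorem conj_pow6_elP (θ : ℕ) :
    (relF4.nWordU (F := K) wC) ^ 6 * elP K * ((relF4.nWordU (F := K) wC) ^ 6)⁻¹ = pairP θ 1 := by
  rw [← relF4.nWordU_replicate wC 6]
  obtain ⟨n, hn⟩ : ∃ n, n = relF4.nWordU (F := K) (List.replicate 6 wC).flatten := ⟨_, rfl⟩
  rw [← hn]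
  unfold elP pairP
  have e : n * (relF4.xU 39 1 * relF4.xU 45 1) * n⁻¹ = (n * relF4.xU 39 1 * n⁻¹) * (n * relF4.xU 45 1 * n⁻¹) := by
    group
  rw [e, hn, conj_word_xU2 _ (wCk_lt 6) 39 (by decide) 1, conj_word_xU2 _ (wCk_lt 6) 45 (by decide) 1, wC6_refl.1,
    wC6_refl.2, one_pow]

theorem conj_pow4_pairP (θ : ℕ) (t : K) :
    (relF4.nWordU (F := K) wC) ^ 4 * pairP θ t * ((relF4.nWordU (F := K) wC) ^ 4)⁻¹ = pairN θ t := by
  rw [← relF4.nWordU_replicate wC 4]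
  obtain ⟨n, hn⟩ : ∃ n, n = relF4.nWordU (F := K) (List.replicate 4 wC).flatten := ⟨_, rfl⟩
  rw [← hn]
  unfold pairP pairN
  have e : n * (relF4.xU 33 (t ^ θ) * relF4.xU 24 t) * n⁻¹ =
      (n * relF4.xU 33 (t ^ θ) * n⁻¹) * (n * relF4.xU 24 t * n⁻¹) := by
    group
  obtain ⟨a1, a2, -⟩ := wC4_refl
  rw [e, hn, conj_word_xU2 _ (wCk_lt 4) 33 (by decide), conj_word_xU2 _ (wCk_lt 4) 24 (by decide), a1, a2]

theorem conj_pow4_clsP (θ : ℕ) (t u : K) :
    (relF4.nWordU (F := K) wC) ^ 4 * clsP θ t u * ((relF4.nWordU (F := K) wC) ^ 4)⁻¹ = clsN θ t u := by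
  rw [← relF4.nWordU_replicate wC 4]
  obtain ⟨n, hn⟩ : ∃ n, n = relF4.nWordU (F := K) (List.replicate 4 wC).flatten := ⟨_, rfl⟩
  rw [← hn, clsP_eq, clsN_eq]
  have e : n * (relF4.xU 27 (t ^ θ) * relF4.xU 25 t * relF4.xU 28 (t ^ (θ + 1) + u) * relF4.xU 30 (u ^ (2 * θ))) * n⁻¹ =
      (n * relF4.xU 27 (t ^ θ) * n⁻¹) * (n * relF4.xU 25 t * n⁻¹) * (n * relF4.xU 28 (t ^ (θ + 1) + u) * n⁻¹) *
        (n * relF4.xU 30 (u ^ (2 * θ)) * n⁻¹) := by
    group
  obtain ⟨-, -, a3, a4, a5, a6⟩ := wC4_refl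
  rw [e, hn, conj_word_xU2 _ (wCk_lt 4) 27 (by decide), conj_word_xU2 _ (wCk_lt 4) 25 (by decide),
    conj_word_xU2 _ (wCk_lt 4) 28 (by decide), conj_word_xU2 _ (wCk_lt 4) 30 (by decide), a3, a4, a5, a6]

end

section
variable {K : Type*} [Field K] [Fintype K] [CharP K 2]

/-- all elements of the root subgroup of type `A₁` from one of them and the diagonal element of a generator -/
theorem pairP_all_mem (m : ℕ) (hK : Fintype.card K = 2 ^ (2 * m + 1)) (T : Subgroup (GL cdF4.D.Idx K))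
    (ζ : Kˣ) (hζ : ∀ x : Kˣ, x ∈ Subgroup.zpowers ζ) (hh : hFix (2 ^ m) (ζ : K) 1 ∈ T)
    (h1 : pairP (2 ^ m) (1 : K) ∈ T) (t : K) : pairP (2 ^ m) t ∈ T := by
  have hθ := thetaHyp2_of_card (K := K) m hK
  have hθ0 : (2 : ℕ) ^ m ≠ 0 := pow_ne_zero _ (by norm_num)
  let Sp : AddSubgroup K :=
    { carrier := {t | pairP (2 ^ m) t ∈ T}
      zero_mem' := by
        show pairP (2 ^ m) (0 : K) ∈ T
        rw [pairP_zero _ hθ0]
        exact T.one_mem
      add_mem' := by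
        intro a b ha hb
        show pairP (2 ^ m) (a + b) ∈ T
        rw [pairP_add hθ]
        exact T.mul_mem ha hb
      neg_mem' := by
        intro a ha
        rw [CharTwo.neg_eq]
        exact ha }
  apply addSubgroup_eq_top Sp ζ hζ 2 (Or.inr (Or.inr (Or.inl rfl))) _ 1 one_ne_zero h1
  intro c hc
  have := T.mul_mem (T.mul_mem hh hc) (T.inv_mem hh)
  rw [hFix_conj_pairP m _ ζ.ne_zero] at this
  rw [zpow_ofNat, Units.val_pow_eq_pow_val]
  exact this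

/-- the large Ree groups are generated by two elements -/
theorem f4_two_gen (m : ℕ) (hm : 1 ≤ m) (hK : Fintype.card K = 2 ^ (2 * m + 1)) :
    ∃ a b : ↥(tF4 K (2 ^ m)), Subgroup.closure ({a, b} : Set ↥(tF4 K (2 ^ m))) = ⊤ := by
  have hθ := thetaHyp2_of_card (K := K) m hK
  have hθ0 : (2 : ℕ) ^ m ≠ 0 := pow_ne_zero _ (by norm_num)
  obtain ⟨ζ, hζ⟩ := IsCyclic.exists_generator (α := Kˣ)
  have hζ0 : (ζ : K) ≠ 0 := ζ.ne_zero
  have hζ1 : (ζ : K) ≠ 1 := by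
    intro h
    obtain ⟨τ, hτ0, hτ1⟩ := exists_ne_zero_one m hm hK
    have h1 : ζ = 1 := Units.ext h
    have h2 := hζ (Units.mk0 τ hτ0)
    rw [h1, Subgroup.zpowers_one_eq_bot, Subgroup.mem_bot] at h2
    apply hτ1
    have := congrArg Units.val h2
    simpa using this
  obtain ⟨a, ha⟩ : ∃ a, a = hFix (2 ^ m) (ζ : K) 1 * elP K := ⟨_, rfl⟩
  obtain ⟨b, hb⟩ : ∃ b, b = relF4.nWordU (F := K) wC * clsP (2 ^ m) 1 0 := ⟨_, rfl⟩
  have hnw : relF4.nWordU (F := K) wC ∈ tF4 K (2 ^ m) := by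
    unfold wC
    rw [relF4.nWordU_append]
    exact Subgroup.mul_mem _ (nWordU_wJ1_mem _) (nWordU_wJ2_mem _ hθ0)
  have haX : a ∈ tF4 K (2 ^ m) := by
    rw [ha]
    exact Subgroup.mul_mem _ (hFix_s_one_mem _ _ hζ0) (elP_mem_tF4 m hK)
  have hbX : b ∈ tF4 K (2 ^ m) := by
    rw [hb]
    exact Subgroup.mul_mem _ hnw (clsP_mem_tF4 _ _ _)
  apply two_gen_of_le (tF4 K (2 ^ m)) a b haX hbX
  obtain ⟨T, hT⟩ : ∃ T, T = Subgroup.closure ({a, b} : Set (GL cdF4.D.Idx K)) := ⟨_, rfl⟩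
  rw [← hT]
  have haT : a ∈ T := by
    rw [hT]
    exact Subgroup.subset_closure (by simp)
  have hbT : b ∈ T := by
    rw [hT]
    exact Subgroup.subset_closure (by simp)
  rw [ha] at haT
  rw [hb] at hbT
  obtain ⟨hP, hh⟩ := split_first m hK T (ζ : K) hζ0 haT
  obtain ⟨t0, u0, ht0, h0⟩ := trick_clsP m hK T (ζ : K) hζ0 hζ1 hh hbT
  have hcls := clsP_all_mem m hm hK T ζ hζ hh t0 u0 ht0 h0
  have hn : relF4.nWordU (F := K) wC ∈ T := by
    have := T.mul_mem hbT (T.inv_mem (hcls 1 0))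
    rwa [mul_inv_cancel_right] at this
  have hp1 : pairP (2 ^ m) (1 : K) ∈ T := by
    rw [← conj_pow6_elP]
    exact T.mul_mem (T.mul_mem (T.pow_mem hn 6) hP) (T.inv_mem (T.pow_mem hn 6))
  have hpair := pairP_all_mem m hK T ζ hζ hh hp1
  have hpairN : ∀ t : K, pairN (2 ^ m) t ∈ T := by
    intro t
    rw [← conj_pow4_pairP]
    exact T.mul_mem (T.mul_mem (T.pow_mem hn 4) (hpair t)) (T.inv_mem (T.pow_mem hn 4))
  have hclsN : ∀ t u : K, clsN (2 ^ m) t u ∈ T := by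
    intro t u
    rw [← conj_pow4_clsP]
    exact T.mul_mem (T.mul_mem (T.pow_mem hn 4) (hcls t u)) (T.inv_mem (T.pow_mem hn 4))
  unfold tF4 ChevalleyDatum.genSubgroup
  rw [Subgroup.closure_le]
  rintro g ⟨w, (⟨t, rfl | rfl⟩ | ⟨t, u, rfl | rfl⟩), hg⟩
  · have : g = pairP (2 ^ m) t := Units.ext (hg.trans (pairP_val _ t).symm)
    rw [this]
    exact hpair t
  · have : g = pairN (2 ^ m) t := Units.ext (hg.trans (pairN_val _ t).symm)
    rw [this]
    exact hpairN t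
  · have : g = clsP (2 ^ m) t u := Units.ext (hg.trans (clsP_val _ t u).symm)
    rw [this]
    exact hcls t u
  · have : g = clsN (2 ^ m) t u := Units.ext (hg.trans (clsN_val _ t u).symm)
    rw [this]
    exact hclsN t u

end

end Cfsg.Agent.Lib.Helper3.RF4
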