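import Mathlib
import Cfsg.Prelude.Def_ChevStructure
import Cfsg.Prelude.Def_ChevF4
import Cfsg.Prelude.Def_LieTwisted
import Cfsg.Agent.Lib.Helper3.F4T17
import Cfsg.Agent.Lib.Helper3.ChevTw12
set_option autoImplicit false
set_option linter.unusedSectionVars false
set_option linter.style.haveILetI false
set_option maxRecDepth 1000000
open Cfsg Cfsg.Lie

/-!
The (B,N)-pair of the twisted group of type `F₄`.
-/

namespace Cfsg.Agent.Lib.Helper3.RF4

open Cfsg.Agent.Lib.Helper3.ChevM Cfsg.Agent.Lib.Helper3.ChevSp Cfsg.Agent.Lib.Helper3.ChevAt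
open Cfsg.Agent.Lib.Helper3 ChevU DoubleCoset

/-- the products of sublists of a generator commuting with the symmetry -/
theorem f4_subCheck : ∀ J ∈ [wJ1, wJ2], ∀ L ∈ J.sublists, permOf (L.map f4p) = permOf L →
    permOf L = permOf [] ∨ permOf L = permOf J := by decide +kernel

theorem perm_wJ1_ne_wJ2 : permOf wJ1 ≠ permOf wJ2 := by decide +kernel

theorem perm_wJ_sq : permOf (wJ1 ++ wJ1) = permOf [] ∧ permOf (wJ2 ++ wJ2) = permOf [] := by decide +kernel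

section
variable {K : Type*} [Field K] [Fintype K] [CharP K 2]

/-- the representatives of the generators of the twisted Weyl group -/
def f4Reps (K : Type*) [Field K] : Set (GL cdF4.D.Idx K) :=
  {g | g = relF4.nWordU (F := K) wJ1 ∨ g = relF4.nWordU (F := K) wJ2}

theorem f4Reps_cases (s : GL cdF4.D.Idx K) (hs : s ∈ f4Reps K) :
    ∃ J ∈ [wJ1, wJ2], s = relF4.nWordU (F := K) J := by
  rcases hs with rfl | rfl
  · exact ⟨wJ1, by simp, rfl⟩
  · exact ⟨wJ2, by simp, rfl⟩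

theorem wJ_lt (J : List ℕ) (hJ : J ∈ [wJ1, wJ2]) : ∀ j ∈ J, j < cdF4.D.rank := by
  simp only [List.mem_cons, List.not_mem_nil, or_false] at hJ
  rcases hJ with rfl | rfl <;> decide

theorem wJ_mem_tF4 (m : ℕ) (J : List ℕ) (hJ : J ∈ [wJ1, wJ2]) : relF4.nWordU (F := K) J ∈ tF4 K (2 ^ m) := by
  have hθ0 : (2 : ℕ) ^ m ≠ 0 := pow_ne_zero _ (by norm_num)
  simp only [List.mem_cons, List.not_mem_nil, or_false] at hJ
  rcases hJ with rfl | rfl
  · exact nWordU_wJ1_mem _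
  · exact nWordU_wJ2_mem _ hθ0

/-- the canonical form of the elements of the twisted group -/
theorem f4_normal_form (m : ℕ) (hK : Fintype.card K = 2 ^ (2 * m + 1)) (g : GL cdF4.D.Idx K)
    (hg : g ∈ tF4 K (2 ^ m)) :
    ∃ u₁ ∈ cdF4.D.posUnipotent K ⊓ tF4 K (2 ^ m), ∃ h ∈ cdF4.D.diagonalSubgroup K ⊓ tF4 K (2 ^ m),
      ∃ i : Fin 16, ∃ u ∈ uMinus cdF4.D K (relF4.nWordU (F := K) (wOf i)) ⊓ tF4 K (2 ^ m),
        g = u₁ * h * relF4.nWordU (F := K) (wOf i) * u := by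
  obtain ⟨⟨i, ⟨u₁, hu₁⟩, ⟨h, hh⟩, ⟨u, hu⟩⟩, e⟩ := nfMap_surjective m hK ⟨g, hg⟩
  refine ⟨u₁, hu₁, h, hh, i, u, ⟨hu.1, fixU_wOf_mem m hK i u hu⟩, ?_⟩
  exact (congrArg (fun z : ↥(tF4 K (2 ^ m)) => (z : GL cdF4.D.Idx K)) e).symm

/-- the elements of `N` in the twisted group -/
theorem f4_monomial_decomp (m : ℕ) (hK : Fintype.card K = 2 ^ (2 * m + 1)) (n : GL cdF4.D.Idx K)
    (hn : n ∈ cdF4.D.monomialSubgroup K ⊓ tF4 K (2 ^ m)) :
    ∃ i : Fin 16, ∃ h ∈ cdF4.D.diagonalSubgroup K ⊓ tF4 K (2 ^ m), n = h * relF4.nWordU (F := K) (wOf i) := by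
  obtain ⟨i, h, hh, hhf, e⟩ := fixed_monomial' m hK n hn.1 (tF4_le_fixF m hK hn.2).2
  exact ⟨i, h, ⟨hh, fixed_diag_mem_tF4 m hK h hh hhf⟩, e⟩

theorem f4_borel_sup_monomial (m : ℕ) (hK : Fintype.card K = 2 ^ (2 * m + 1)) :
    (cdF4.D.borelSubgroup K ⊓ tF4 K (2 ^ m)) ⊔ (cdF4.D.monomialSubgroup K ⊓ tF4 K (2 ^ m)) = tF4 K (2 ^ m) := by
  apply le_antisymm (sup_le inf_le_right inf_le_right)
  intro g hg
  obtain ⟨u₁, hu₁, h, hh, i, u, hu, rfl⟩ := f4_normal_form m hK g hg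
  have hUB : cdF4.D.posUnipotent K ≤ cdF4.D.borelSubgroup K := le_sup_left
  have hHB : cdF4.D.diagonalSubgroup K ≤ cdF4.D.borelSubgroup K := le_sup_right
  refine Subgroup.mul_mem _ (Subgroup.mul_mem _ (Subgroup.mul_mem _ ?_ ?_) ?_) ?_
  · exact Subgroup.mem_sup_left ⟨hUB hu₁.1, hu₁.2⟩
  · exact Subgroup.mem_sup_left ⟨hHB hh.1, hh.2⟩
  · exact Subgroup.mem_sup_right ⟨relF4.nWordU_mem _ (wOf_lt i), wOf_mem_tF4 m i⟩
  · exact Subgroup.mem_sup_left ⟨hUB (uMinus_le_posUnipotent cdF4.D _ hu.1), hu.2⟩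

theorem f4Reps_mem (m : ℕ) (s : GL cdF4.D.Idx K) (hs : s ∈ f4Reps K) :
    s ∈ cdF4.D.monomialSubgroup K ⊓ tF4 K (2 ^ m) := by
  obtain ⟨J, hJ, rfl⟩ := f4Reps_cases s hs
  exact ⟨relF4.nWordU_mem J (wJ_lt J hJ), wJ_mem_tF4 m J hJ⟩

theorem f4Reps_sq (m : ℕ) (s : GL cdF4.D.Idx K) (hs : s ∈ f4Reps K) :
    s * s ∈ cdF4.D.diagonalSubgroup K ⊓ tF4 K (2 ^ m) := by
  have hsm := f4Reps_mem m s hs
  refine ⟨?_, Subgroup.mul_mem _ hsm.2 hsm.2⟩
  obtain ⟨J, hJ, rfl⟩ := f4Reps_cases s hs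
  have hJlt := wJ_lt J hJ
  have hJJ : ∀ i ∈ J ++ J, i < cdF4.D.rank := by
    intro i hi
    rcases List.mem_append.mp hi with h | h <;> exact hJlt i h
  have hsq : ∀ s < cdF4.D.nroots, reflW relF4.refl (J ++ J) s = reflW relF4.refl [] s := by
    rw [← permOf_eq_iff]
    simp only [List.mem_cons, List.not_mem_nil, or_false] at hJ
    rcases hJ with rfl | rfl
    · exact perm_wJ_sq.1
    · exact perm_wJ_sq.2
  obtain ⟨h', hh', e⟩ := monoF4.coset_of_reflW_eq (F := K) bnF4.dec (J ++ J) [] hJJ (by simp) hsq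
  rw [← relF4.nWordU_append, e, relF4.nWordU_nil, mul_one]
  exact hh'

theorem f4Reps_inj (s : GL cdF4.D.Idx K) (hs : s ∈ f4Reps K) (s' : GL cdF4.D.Idx K) (hs' : s' ∈ f4Reps K)
    (h : s⁻¹ * s' ∈ cdF4.D.borelSubgroup K) : s = s' := by
  have key : ¬ (relF4.nWordU (F := K) wJ1)⁻¹ * relF4.nWordU (F := K) wJ2 ∈ cdF4.D.borelSubgroup K := by
    intro h
    have h1 : ∀ i ∈ wJ1, i < cdF4.D.rank := by decide
    have h2 : ∀ i ∈ wJ2, i < cdF4.D.rank := by decide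
    have hsm := relF4.nWordU_mem (F := K) wJ1 h1
    have hsm' := relF4.nWordU_mem (F := K) wJ2 h2
    have hH : (relF4.nWordU (F := K) wJ1)⁻¹ * relF4.nWordU wJ2 ∈ cdF4.D.diagonalSubgroup K := by
      rw [← monoF4.borel_inf_monomial]
      exact ⟨h, Subgroup.mul_mem _ (Subgroup.inv_mem _ hsm) hsm'⟩
    have hH2 := monoF4.conj_mem _ hsm _ hH
    have := relF4.reflW_eq_of_coset (F := K) bnF4.dec wJ2 wJ1 h2 h1 _ hH2 (by group)
    rw [← permOf_eq_iff] at this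
    exact perm_wJ1_ne_wJ2 this.symm
  rcases hs with rfl | rfl <;> rcases hs' with rfl | rfl
  · rfl
  · exact absurd h key
  · exfalso
    apply key
    have := Subgroup.inv_mem _ h
    rwa [mul_inv_rev, inv_inv] at this
  · rfl

theorem f4_closure_reps_sup (m : ℕ) (hK : Fintype.card K = 2 ^ (2 * m + 1)) :
    Subgroup.closure (f4Reps K) ⊔ ((cdF4.D.borelSubgroup K ⊓ tF4 K (2 ^ m)) ⊓
      (cdF4.D.monomialSubgroup K ⊓ tF4 K (2 ^ m))) = cdF4.D.monomialSubgroup K ⊓ tF4 K (2 ^ m) := by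
  apply le_antisymm
  · refine sup_le ?_ inf_le_right
    rw [Subgroup.closure_le]
    exact fun s hs => f4Reps_mem m s hs
  · intro n hn
    obtain ⟨i, h, hh, rfl⟩ := f4_monomial_decomp m hK n hn
    have hHB : cdF4.D.diagonalSubgroup K ≤ cdF4.D.borelSubgroup K := le_sup_right
    have hHN : cdF4.D.diagonalSubgroup K ≤ cdF4.D.monomialSubgroup K := le_sup_left
    refine Subgroup.mul_mem _ (Subgroup.mem_sup_right ⟨⟨hHB hh.1, hh.2⟩, hHN hh.1, hh.2⟩) (Subgroup.mem_sup_left ?_)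
    have h1 : relF4.nWordU (F := K) wJ1 ∈ Subgroup.closure (f4Reps K) := Subgroup.subset_closure (Or.inl rfl)
    have h2 : relF4.nWordU (F := K) wJ2 ∈ Subgroup.closure (f4Reps K) := Subgroup.subset_closure (Or.inr rfl)
    have ha : ∀ k, relF4.nWordU (F := K) (altWord k) ∈ Subgroup.closure (f4Reps K) := by
      intro k
      induction k with
      | zero => exact Subgroup.one_mem _
      | succ k ih =>
        unfold altWord
        rw [relF4.nWordU_append]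
        refine Subgroup.mul_mem _ ?_ ih
        split_ifs
        · exact h1
        · exact h2
    have ha' : ∀ k, relF4.nWordU (F := K) (altWord' k) ∈ Subgroup.closure (f4Reps K) := by
      intro k
      induction k with
      | zero => exact Subgroup.one_mem _
      | succ k ih =>
        unfold altWord'
        rw [relF4.nWordU_append]
        refine Subgroup.mul_mem _ ?_ ih
        split_ifs
        · exact h2
        · exact h1
    rcases wOf_alt i with ⟨k, -, e, -⟩ | ⟨k, -, e, -⟩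
    · rw [e]; exact ha k
    · rw [e]; exact ha' k

end

end Cfsg.Agent.Lib.Helper3.RF4
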