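import Mathlib
import Cfsg.Prelude.Def_ChevStructure
import Cfsg.Prelude.Def_ChevF4
import Cfsg.Prelude.Def_LieTwisted
import Cfsg.Agent.Lib.Helper3.F4T19
set_option autoImplicit false
set_option linter.unusedSectionVars false
set_option linter.style.haveILetI false
set_option maxRecDepth 1000000
open Cfsg Cfsg.Lie

/-!
The (B,N)-pair of the twisted group of type `F₄`: the axioms and the pair.
-/

namespace Cfsg.Agent.Lib.Helper3.RF4

open Cfsg.Agent.Lib.Helper3.ChevM Cfsg.Agent.Lib.Helper3.ChevSp Cfsg.Agent.Lib.Helper3.ChevAt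
open Cfsg.Agent.Lib.Helper3 ChevU DoubleCoset

section
variable {K : Type*} [Field K] [Fintype K] [CharP K 2]

theorem xU_mem_negU (r : ℕ) (hr : cdF4.D.IsNegRoot r) (t : K) : relF4.xU r t ∈ cdF4.D.negUnipotent K :=
  Subgroup.subset_closure ⟨r, t, hr, relF4.xU_val r t⟩

/-- The axiom `s B n ⊆ B s n B ∪ B n B` in the twisted group. -/
theorem f4_bn_axiom (m : ℕ) (hK : Fintype.card K = 2 ^ (2 * m + 1)) (s : GL cdF4.D.Idx K) (hs : s ∈ f4Reps K)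
    (n : GL cdF4.D.Idx K) (hn : n ∈ cdF4.D.monomialSubgroup K ⊓ tF4 K (2 ^ m))
    (b : GL cdF4.D.Idx K) (hb : b ∈ cdF4.D.borelSubgroup K ⊓ tF4 K (2 ^ m)) :
    s * b * n ∈ doubleCoset (s * n)
        ((cdF4.D.borelSubgroup K ⊓ tF4 K (2 ^ m) : Subgroup _) : Set (GL cdF4.D.Idx K))
        (cdF4.D.borelSubgroup K ⊓ tF4 K (2 ^ m) : Subgroup _) ∪
      doubleCoset n ((cdF4.D.borelSubgroup K ⊓ tF4 K (2 ^ m) : Subgroup _) : Set (GL cdF4.D.Idx K))
        (cdF4.D.borelSubgroup K ⊓ tF4 K (2 ^ m) : Subgroup _) := by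
  have hsm := f4Reps_mem m s hs
  obtain ⟨J, hJ, rfl⟩ := f4Reps_cases s hs
  have hJlt := wJ_lt J hJ
  have hUB : cdF4.D.posUnipotent K ≤ cdF4.D.borelSubgroup K := le_sup_left
  have hHB : cdF4.D.diagonalSubgroup K ≤ cdF4.D.borelSubgroup K := le_sup_right
  have hNG : cdF4.D.monomialSubgroup K ≤ cdF4.D.group K := relF4.monomialSubgroup_le_group
  have hg : relF4.nWordU (F := K) J * b * n ∈ tF4 K (2 ^ m) :=
    Subgroup.mul_mem _ (Subgroup.mul_mem _ hsm.2 hb.2) hn.2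
  obtain ⟨u₁, hu₁, h, hh, i, u, hu, e⟩ := f4_normal_form m hK _ hg
  obtain ⟨L, hL, hmem⟩ := uhypF4.bn_axiom_word (F := K) bnF4 J hJlt n hn.1 b hb.1
  obtain ⟨b₁, hb₁, b₂, hb₂, e2⟩ := mem_doubleCoset.mp hmem
  have hLlt : ∀ i ∈ L, i < cdF4.D.rank := fun i hi => hJlt i (hL.subset hi)
  have hLN : relF4.nWordU (F := K) L ∈ cdF4.D.monomialSubgroup K := relF4.nWordU_mem L hLlt
  have hΩN : relF4.nWordU (F := K) (wOf i) ∈ cdF4.D.monomialSubgroup K := relF4.nWordU_mem _ (wOf_lt i)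
  have hΩG := wOf_mem_tF4 (K := K) m i
  have hσΩ : (f4Tw (K := K) m).sg (relF4.nWordU (F := K) (wOf i)) = relF4.nWordU (F := K) (wOf i) := sg_wOf m hK i
  set nΩ := relF4.nWordU (F := K) (wOf i) with hnΩ
  -- the two decompositions give the same coset
  have key := uhypF4.monomial_coset_unique (F := K) bnF4 b₁ b₂ (u₁ * h) u (relF4.nWordU L * n) nΩ hb₁ hb₂
    (Subgroup.mul_mem _ (hUB hu₁.1) (hHB hh.1)) (hUB (uMinus_le_posUnipotent cdF4.D _ hu.1))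
    (Subgroup.mul_mem _ hLN hn.1) hΩN (by rw [← e2, e])
  set h' := (relF4.nWordU (F := K) L * n)⁻¹ * nΩ with hh'
  -- apply the automorphism
  have hσn : (f4Tw (K := K) m).sg n = n := (tF4_le_fixF m hK hn.2).2
  have hσL : (f4Tw (K := K) m).sg (relF4.nWordU (F := K) L) = relF4.nWordU (L.map f4p) :=
    (f4Tw (K := K) m).sg_nWordU f4p f4p_spec L hLlt
  have hσh' : (f4Tw (K := K) m).sg h' = (relF4.nWordU (F := K) (L.map f4p) * n)⁻¹ * nΩ := by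
    rw [hh', (f4Tw (K := K) m).sg_mul (Subgroup.inv_mem _ (Subgroup.mul_mem _ (hNG hLN) (hNG hn.1))) (hNG hΩN),
      (f4Tw (K := K) m).sg_inv (Subgroup.mul_mem _ (hNG hLN) (hNG hn.1)),
      (f4Tw (K := K) m).sg_mul (hNG hLN) (hNG hn.1), hσn, hσΩ, hσL]
  have hσh'H : (f4Tw (K := K) m).sg h' ∈ cdF4.D.diagonalSubgroup K := (f4Tw (K := K) m).sg_mem_diagonal key
  have hLp := map_f4p_lt L
  have hinv : ∀ s < cdF4.D.nroots, reflW relF4.refl (L.map f4p) s = reflW relF4.refl L s := by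
    refine relF4.reflW_eq_of_coset (F := K) bnF4.dec _ _ hLp hLlt
      (nΩ * (((f4Tw (K := K) m).sg h')⁻¹ * h') * nΩ⁻¹) ?_ ?_
    · exact monoF4.conj_mem _ hΩN _ (Subgroup.mul_mem _ (Subgroup.inv_mem _ hσh'H) key)
    · rw [hσh', hh']; group
  rw [← permOf_eq_iff] at hinv
  have hB1 : u₁ * h ∈ cdF4.D.borelSubgroup K ⊓ tF4 K (2 ^ m) :=
    ⟨Subgroup.mul_mem _ (hUB hu₁.1) (hHB hh.1), Subgroup.mul_mem _ hu₁.2 hh.2⟩
  have huB : u ∈ cdF4.D.borelSubgroup K ⊓ tF4 K (2 ^ m) :=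
    ⟨hUB (uMinus_le_posUnipotent cdF4.D _ hu.1), hu.2⟩
  rcases f4_subCheck J hJ L (List.mem_sublists.mpr hL) hinv with hL0 | hLJ
  · right
    rw [permOf_eq_iff] at hL0
    obtain ⟨hL', hhL', eL⟩ := monoF4.coset_of_reflW_eq (F := K) bnF4.dec L [] hLlt (by simp) hL0
    rw [relF4.nWordU_nil, mul_one] at eL
    have hnN' : n⁻¹ ∈ cdF4.D.monomialSubgroup K := Subgroup.inv_mem _ hn.1
    have hc := monoF4.conj_mem (F := K) _ hnN' _ hhL'
    rw [inv_inv] at hc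
    have hh''H : n⁻¹ * nΩ ∈ cdF4.D.diagonalSubgroup K := by
      have : n⁻¹ * nΩ = (n⁻¹ * hL' * n) * h' := by rw [hh', eL]; group
      rw [this]
      exact Subgroup.mul_mem _ hc key
    have hh''G : n⁻¹ * nΩ ∈ tF4 K (2 ^ m) := Subgroup.mul_mem _ (Subgroup.inv_mem _ hn.2) hΩG
    refine mem_doubleCoset.mpr ⟨u₁ * h, hB1, (n⁻¹ * nΩ) * u,
      Subgroup.mul_mem _ ⟨hHB hh''H, hh''G⟩ huB, ?_⟩
    rw [e]; group
  · left
    rw [permOf_eq_iff] at hLJ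
    obtain ⟨hL', hhL', eL⟩ := monoF4.coset_of_reflW_eq (F := K) bnF4.dec L J hLlt hJlt hLJ
    have hsnN : relF4.nWordU (F := K) J * n ∈ cdF4.D.monomialSubgroup K := Subgroup.mul_mem _ hsm.1 hn.1
    have hc := monoF4.conj_mem (F := K) _ (Subgroup.inv_mem _ hsnN) _ hhL'
    rw [inv_inv] at hc
    have hh''H : (relF4.nWordU (F := K) J * n)⁻¹ * nΩ ∈ cdF4.D.diagonalSubgroup K := by
      have : (relF4.nWordU (F := K) J * n)⁻¹ * nΩ =
          ((relF4.nWordU (F := K) J * n)⁻¹ * hL' * (relF4.nWordU (F := K) J * n)) * h' := by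
        rw [hh', eL]; group
      rw [this]
      exact Subgroup.mul_mem _ hc key
    have hh''G : (relF4.nWordU (F := K) J * n)⁻¹ * nΩ ∈ tF4 K (2 ^ m) :=
      Subgroup.mul_mem _ (Subgroup.inv_mem _ (Subgroup.mul_mem _ hsm.2 hn.2)) hΩG
    refine mem_doubleCoset.mpr ⟨u₁ * h, hB1, ((relF4.nWordU (F := K) J * n)⁻¹ * nΩ) * u,
      Subgroup.mul_mem _ ⟨hHB hh''H, hh''G⟩ huB, ?_⟩
    rw [e]; group

/-- The axiom `s B s ≠ B` in the twisted group. -/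
theorem f4Reps_conj_ne (m : ℕ) (s : GL cdF4.D.Idx K) (hs : s ∈ f4Reps K) :
    (fun b : GL cdF4.D.Idx K => s * b * s) ''
        ((cdF4.D.borelSubgroup K ⊓ tF4 K (2 ^ m) : Subgroup _) : Set (GL cdF4.D.Idx K)) ≠
      ((cdF4.D.borelSubgroup K ⊓ tF4 K (2 ^ m) : Subgroup _) : Set (GL cdF4.D.Idx K)) := by
  intro heq
  have hθ0 : (2 : ℕ) ^ m ≠ 0 := pow_ne_zero _ (by norm_num)
  have hsq := f4Reps_sq m s hs
  have hUB : cdF4.D.posUnipotent K ≤ cdF4.D.borelSubgroup K := le_sup_left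
  have hHB : cdF4.D.diagonalSubgroup K ≤ cdF4.D.borelSubgroup K := le_sup_right
  have key : ∀ b ∈ cdF4.D.borelSubgroup K ⊓ tF4 K (2 ^ m), s * b * s⁻¹ ∈ cdF4.D.negUnipotent K → b = 1 := by
    intro b hb hV
    have hmem : s * b * s ∈ (cdF4.D.borelSubgroup K ⊓ tF4 K (2 ^ m) : Subgroup _) := by
      rw [← SetLike.mem_coe, ← heq]
      exact ⟨b, hb, rfl⟩
    have h1 : s * b * s⁻¹ ∈ cdF4.D.borelSubgroup K := by
      have : s * b * s⁻¹ = (s * b * s) * (s * s)⁻¹ := by group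
      rw [this]
      exact Subgroup.mul_mem _ hmem.1 (Subgroup.inv_mem _ (hHB hsq.1))
    have h4 : s * b * s⁻¹ ∈ cdF4.D.borelSubgroup K ⊓ cdF4.D.negUnipotent K := ⟨h1, hV⟩
    rw [(relF4.borel_inf_neg (F := K) bnF4.dec bnF4.mono.tri f4NegTri).1, Subgroup.mem_bot] at h4
    have : b = s⁻¹ * (s * b * s⁻¹) * s := by group
    rw [this, h4]; group
  rcases hs with rfl | rfl
  · have h1 := key (pairP (2 ^ m) 1)
      ⟨hUB (Subgroup.mul_mem _ (xU_mem_pos 33 (by decide) _) (xU_mem_pos 24 (by decide) _)), pairP_mem_tF4 _ 1⟩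
      (by
        rw [conj_wJ1_pairP]
        exact Subgroup.mul_mem _ (xU_mem_negU 14 (by decide) _) (xU_mem_negU 23 (by decide) _))
    rw [← pairP_zero (K := K) (2 ^ m) hθ0] at h1
    exact one_ne_zero (pairP_inj _ _ _ h1)
  · have h1 := key (clsP (2 ^ m) 1 0)
      ⟨hUB (by
        rw [clsP_eq]
        exact Subgroup.mul_mem _ (Subgroup.mul_mem _ (Subgroup.mul_mem _ (xU_mem_pos 27 (by decide) _)
          (xU_mem_pos 25 (by decide) _)) (xU_mem_pos 28 (by decide) _)) (xU_mem_pos 30 (by decide) _)),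
        clsP_mem_tF4 _ 1 0⟩
      (by
        rw [conj_wJ2_clsP, clsN_eq]
        exact Subgroup.mul_mem _ (Subgroup.mul_mem _ (Subgroup.mul_mem _ (xU_mem_negU 20 (by decide) _)
          (xU_mem_negU 22 (by decide) _)) (xU_mem_negU 19 (by decide) _)) (xU_mem_negU 17 (by decide) _))
    have h0 : clsP (2 ^ m) (0 : K) 0 = 1 := by
      unfold clsP
      rw [(b2SysPos K).cls_zero hθ0]
      rfl
    rw [← h0] at h1
    exact one_ne_zero (clsP_inj _ _ _ _ _ h1).1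

/-- The (B,N)-pair of the twisted group of type `F₄`. -/
def f4BN (m : ℕ) (hK : Fintype.card K = 2 ^ (2 * m + 1)) : BNPair ↥(tF4 K (2 ^ m)) :=
  bnOfSubgroup (tF4 K (2 ^ m)) (cdF4.D.borelSubgroup K ⊓ tF4 K (2 ^ m))
    (cdF4.D.monomialSubgroup K ⊓ tF4 K (2 ^ m)) (f4Reps K)
    inf_le_right inf_le_right (f4_borel_sup_monomial m hK)
    (by
      intro n hn t ht
      have htH : t ∈ cdF4.D.diagonalSubgroup K := by
        rw [← monoF4.borel_inf_monomial]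
        exact ⟨ht.1.1, ht.2.1⟩
      exact ⟨Subgroup.mem_sup_right (monoF4.conj_mem n hn.1 t htH),
        Subgroup.mul_mem _ (Subgroup.mul_mem _ hn.2 ht.1.2) (Subgroup.inv_mem _ hn.2)⟩)
    (fun s hs => f4Reps_mem m s hs)
    (fun s hs => ⟨Subgroup.mem_sup_right (f4Reps_sq m s hs).1, (f4Reps_sq m s hs).2⟩)
    (fun s hs s' hs' h => f4Reps_inj s hs s' hs' h.1)
    (f4_closure_reps_sup m hK) (f4_bn_axiom m hK) (f4Reps_conj_ne m)

theorem f4BN_B (m : ℕ) (hK : Fintype.card K = 2 ^ (2 * m + 1)) :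
    (f4BN (K := K) m hK).B = (cdF4.D.borelSubgroup K ⊓ tF4 K (2 ^ m)).subgroupOf (tF4 K (2 ^ m)) := rfl

theorem f4BN_N (m : ℕ) (hK : Fintype.card K = 2 ^ (2 * m + 1)) :
    (f4BN (K := K) m hK).N = (cdF4.D.monomialSubgroup K ⊓ tF4 K (2 ^ m)).subgroupOf (tF4 K (2 ^ m)) := rfl

theorem f4_has_bn (m : ℕ) (hK : Fintype.card K = 2 ^ (2 * m + 1)) :
    ∃ P : BNPair ↥(tF4 K (2 ^ m)),
      P.B = (cdF4.D.borelSubgroup K ⊓ tF4 K (2 ^ m)).subgroupOf (tF4 K (2 ^ m)) ∧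
      P.N = (cdF4.D.monomialSubgroup K ⊓ tF4 K (2 ^ m)).subgroupOf (tF4 K (2 ^ m)) :=
  ⟨f4BN m hK, rfl, rfl⟩

end

end Cfsg.Agent.Lib.Helper3.RF4
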