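import Mathlib
import Cfsg.Prelude.Def_ChevStructure
import Cfsg.Prelude.Def_ChevF4
import Cfsg.Prelude.Def_LieTwisted
import Cfsg.Agent.Lib.Helper3.F4T20
import Cfsg.Agent.Lib.Helper3.F4T10
import Cfsg.Agent.Lib.Helper3.ChevT2
import Cfsg.Agent.S0319
set_option autoImplicit false
set_option linter.unusedSectionVars false
set_option linter.style.haveILetI false
set_option maxRecDepth 1000000
open Cfsg Cfsg.Lie

/-!
The twisted group of type `F₄` over a field with more than two elements is simple.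
-/

namespace Cfsg.Agent.Lib.Helper3.RF4

open Cfsg.Agent.Lib.Helper3.ChevM Cfsg.Agent.Lib.Helper3.ChevSp Cfsg.Agent.Lib.Helper3.ChevAt
open Cfsg.Agent.Lib.Helper3 ChevU DoubleCoset

theorem perm_comm_ne : permOf (wJ1 ++ wJ2 ++ wJ1 ++ wJ2) ≠ permOf [] := by decide +kernel

section
variable {K : Type*} [Field K] [Fintype K] [CharP K 2]

/-- the commutator of the two representatives is not in the Borel subgroup -/
theorem f4_comm_not_mem (m : ℕ) :
    relF4.nWordU (F := K) wJ1 * relF4.nWordU (F := K) wJ2 * (relF4.nWordU (F := K) wJ1)⁻¹ *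
      (relF4.nWordU (F := K) wJ2)⁻¹ ∉ cdF4.D.borelSubgroup K := by
  intro hB
  have h1 : ∀ i ∈ wJ1, i < cdF4.D.rank := by decide
  have h2 : ∀ i ∈ wJ2, i < cdF4.D.rank := by decide
  set a := relF4.nWordU (F := K) wJ1 with ha
  set b := relF4.nWordU (F := K) wJ2 with hb
  have haN : a ∈ cdF4.D.monomialSubgroup K := relF4.nWordU_mem (F := K) wJ1 h1
  have hbN : b ∈ cdF4.D.monomialSubgroup K := relF4.nWordU_mem (F := K) wJ2 h2
  have hH : a * b * a⁻¹ * b⁻¹ ∈ cdF4.D.diagonalSubgroup K := by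
    rw [← monoF4.borel_inf_monomial]
    exact ⟨hB, Subgroup.mul_mem _ (Subgroup.mul_mem _ (Subgroup.mul_mem _ haN hbN) (Subgroup.inv_mem _ haN))
      (Subgroup.inv_mem _ hbN)⟩
  have haa : a * a ∈ cdF4.D.diagonalSubgroup K := (f4Reps_sq m a (Or.inl rfl)).1
  have hbb : b * b ∈ cdF4.D.diagonalSubgroup K := (f4Reps_sq m b (Or.inr rfl)).1
  have hc := monoF4.conj_mem (F := K) b hbN _ haa
  have hall : a * b * a * b ∈ cdF4.D.diagonalSubgroup K := by
    have : a * b * a * b = (a * b * a⁻¹ * b⁻¹) * (b * (a * a) * b⁻¹) * (b * b) := by group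
    rw [this]
    exact Subgroup.mul_mem _ (Subgroup.mul_mem _ hH hc) hbb
  have hlt : ∀ i ∈ wJ1 ++ wJ2 ++ wJ1 ++ wJ2, i < cdF4.D.rank := by decide
  have e : relF4.nWordU (F := K) (wJ1 ++ wJ2 ++ wJ1 ++ wJ2) = a * b * a * b * relF4.nWordU (F := K) [] := by
    rw [relF4.nWordU_append, relF4.nWordU_append, relF4.nWordU_append, relF4.nWordU_nil, mul_one]
  have := relF4.reflW_eq_of_coset (F := K) bnF4.dec _ _ hlt (by simp) _ hall e
  rw [← permOf_eq_iff] at this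
  exact perm_comm_ne this

theorem f4BN_irreducible (m : ℕ) (hK : Fintype.card K = 2 ^ (2 * m + 1)) :
    (f4BN (K := K) m hK).Irreducible := by
  intro J hJ hJne hne
  obtain ⟨a, ha⟩ := hJne
  obtain ⟨b, hb, hbJ⟩ := hne
  have haS : (a : GL cdF4.D.Idx K) ∈ f4Reps K := hJ ha
  have hbS : (b : GL cdF4.D.Idx K) ∈ f4Reps K := hb
  have hab : a ≠ b := fun h => hbJ (h ▸ ha)
  refine ⟨a, ha, b, ⟨hb, hbJ⟩, ?_⟩
  intro hmem
  have hmem' : (a : GL cdF4.D.Idx K) * b * (a : GL cdF4.D.Idx K)⁻¹ * (b : GL cdF4.D.Idx K)⁻¹ ∈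
      cdF4.D.borelSubgroup K := (Subgroup.mem_subgroupOf.mp hmem).1
  rcases haS with ea | ea <;> rcases hbS with eb | eb
  · exact hab (Subtype.ext (ea.trans eb.symm))
  · rw [ea, eb] at hmem'
    exact f4_comm_not_mem m hmem'
  · rw [ea, eb] at hmem'
    apply f4_comm_not_mem (K := K) m
    have := Subgroup.inv_mem _ hmem'
    have e : (relF4.nWordU (F := K) wJ2 * relF4.nWordU (F := K) wJ1 * (relF4.nWordU (F := K) wJ2)⁻¹ *
        (relF4.nWordU (F := K) wJ1)⁻¹)⁻¹ = relF4.nWordU (F := K) wJ1 * relF4.nWordU (F := K) wJ2 *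
          (relF4.nWordU (F := K) wJ1)⁻¹ * (relF4.nWordU (F := K) wJ2)⁻¹ := by group
    rwa [e] at this
  · exact hab (Subtype.ext (ea.trans eb.symm))

theorem f4BN_solvable (m : ℕ) (hK : Fintype.card K = 2 ^ (2 * m + 1)) :
    Group.IsSolvable ↥((f4BN (K := K) m hK).B) := by
  have := borel_solvable (F := K) relF4 bnF4.mono.tri
  let f : ↥((f4BN (K := K) m hK).B) →* ↥(cdF4.D.borelSubgroup K) :=
    { toFun := fun x => ⟨((x : ↥(tF4 K (2 ^ m))) : GL cdF4.D.Idx K), (Subgroup.mem_subgroupOf.mp x.2).1⟩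
      map_one' := rfl
      map_mul' := fun _ _ => rfl }
  refine Group.isSolvable_of_isSolvable_injective (f := f) ?_
  intro x y hxy
  apply Subtype.ext
  apply Subtype.ext
  show ((x : ↥(tF4 K (2 ^ m))) : GL cdF4.D.Idx K) = ((y : ↥(tF4 K (2 ^ m))) : GL cdF4.D.Idx K)
  have h2 : ((f x : ↥(cdF4.D.borelSubgroup K)) : GL cdF4.D.Idx K) =
      ((f y : ↥(cdF4.D.borelSubgroup K)) : GL cdF4.D.Idx K) := by
    rw [hxy]
  exact h2

/-- the twisted group of type `F₄` is simple -/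
theorem f4_simple (m : ℕ) (hm : 1 ≤ m) (hK : Fintype.card K = 2 ^ (2 * m + 1)) :
    IsSimpleGroup ↥(tF4 K (2 ^ m)) ∧ ¬ IsMulCommutative ↥(tF4 K (2 ^ m)) := by
  have hθ0 : (2 : ℕ) ^ m ≠ 0 := pow_ne_zero _ (by norm_num)
  have hne1 : pairP (2 ^ m) (1 : K) ≠ 1 := by
    intro h
    rw [← pairP_zero (K := K) (2 ^ m) hθ0] at h
    exact one_ne_zero (pairP_inj _ _ _ h)
  have : Nontrivial ↥(tF4 K (2 ^ m)) :=
    ⟨⟨⟨_, pairP_mem_tF4 (2 ^ m) (1 : K)⟩, 1, fun h => hne1 (congrArg Subtype.val h)⟩⟩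
  have hperf := f4_perfect (K := K) m hm hK
  refine ⟨Cfsg.Agent.S0319.result (f4BN m hK) (f4BN_irreducible m hK) (f4BN_solvable m hK) hperf
    (f4_core m), ?_⟩
  intro hcomm
  have h1 : commutator ↥(tF4 K (2 ^ m)) = ⊥ := by
    rw [commutator_def, Subgroup.commutator_eq_bot_iff_le_centralizer]
    intro x _
    rw [Subgroup.mem_centralizer_iff]
    intro y _
    exact hcomm.is_comm.comm y x
  rw [hperf] at h1
  exact top_ne_bot h1

end

end Cfsg.Agent.Lib.Helper3.RF4
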