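import Mathlib
import Cfsg.Prelude.Def_ChevStructure
import Cfsg.Prelude.Def_KGroupFacts
import Cfsg.Agent.Lib.Helper3.F4T21
import Cfsg.Agent.Lib.Helper3.F4Exp
import Cfsg.Agent.Lib.Helper3.TwAut9
set_option autoImplicit false
set_option linter.unusedSectionVars false
set_option linter.style.haveILetI false
set_option maxRecDepth 1000000
open Cfsg Cfsg.Lie

/-!
Automorphisms of the twisted groups of type F4, part 1: generators, the field automorphisms.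
-/

namespace Cfsg.Agent.Lib.Helper3.RF4

open Cfsg.Agent.Lib.Helper3.ChevM Cfsg.Agent.Lib.Helper3.ChevSp Cfsg.Agent.Lib.Helper3.ChevAt
open Cfsg.Agent.Lib.Helper3 ChevU ChevT
open Cfsg.Agent.Lib.Helper3.ChevAut Cfsg.Agent.Lib.Helper3.TwAut

section
variable {K : Type*} [Field K] [CharP K 2]

/-- the generators of the twisted group -/
def f4Gens (K : Type*) [Field K] [CharP K 2] (θ : ℕ) : Set (GL cdF4.D.Idx K) :=
  {g | (∃ t : K, g = pairP θ t ∨ g = pairN θ t) ∨ ∃ t u : K, g = clsP θ t u ∨ g = clsN θ t u}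

theorem tF4_eq_closure (θ : ℕ) : tF4 K θ = Subgroup.closure (f4Gens K θ) := by
  apply le_antisymm
  · unfold tF4 ChevalleyDatum.genSubgroup
    rw [Subgroup.closure_le]
    rintro g ⟨w, (⟨t, rfl | rfl⟩ | ⟨t, u, rfl | rfl⟩), hg⟩
    · have : g = pairP θ t := Units.ext (hg.trans (pairP_val _ t).symm)
      exact Subgroup.subset_closure (Or.inl ⟨t, Or.inl this⟩)
    · have : g = pairN θ t := Units.ext (hg.trans (pairN_val _ t).symm)
      exact Subgroup.subset_closure (Or.inl ⟨t, Or.inr this⟩)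
    · have : g = clsP θ t u := Units.ext (hg.trans (clsP_val _ t u).symm)
      exact Subgroup.subset_closure (Or.inr ⟨t, u, Or.inl this⟩)
    · have : g = clsN θ t u := Units.ext (hg.trans (clsN_val _ t u).symm)
      exact Subgroup.subset_closure (Or.inr ⟨t, u, Or.inr this⟩)
  · rw [Subgroup.closure_le]
    rintro g (⟨t, rfl | rfl⟩ | ⟨t, u, rfl | rfl⟩)
    · exact pairP_mem_tF4 θ t
    · exact pairN_mem_tF4 θ t
    · exact clsP_mem_tF4 θ t u
    · exact clsN_mem_tF4 θ t u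

theorem f4Gens_subset (θ : ℕ) : f4Gens K θ ⊆ (tF4 K θ : Set (GL cdF4.D.Idx K)) := by
  rw [tF4_eq_closure]
  exact Subgroup.subset_closure

/-- a subgroup containing the generators contains the twisted group -/
theorem tF4_le_of_gens (θ : ℕ) (T : Subgroup (GL cdF4.D.Idx K)) (h1 : ∀ t : K, pairP θ t ∈ T)
    (h2 : ∀ t : K, pairN θ t ∈ T) (h3 : ∀ t u : K, clsP θ t u ∈ T) (h4 : ∀ t u : K, clsN θ t u ∈ T) :
    tF4 K θ ≤ T := by
  rw [tF4_eq_closure, Subgroup.closure_le]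
  rintro g (⟨t, rfl | rfl⟩ | ⟨t, u, rfl | rfl⟩)
  · exact h1 t
  · exact h2 t
  · exact h3 t u
  · exact h4 t u

theorem glMap_pairP (ψ : K ≃+* K) (θ : ℕ) (t : K) :
    glMapEquiv (n := cdF4.D.Idx) ψ (pairP θ t) = pairP θ (ψ t) := by
  unfold pairP
  rw [map_mul, glMap_xU, glMap_xU, map_pow]

theorem glMap_pairN (ψ : K ≃+* K) (θ : ℕ) (t : K) :
    glMapEquiv (n := cdF4.D.Idx) ψ (pairN θ t) = pairN θ (ψ t) := by
  unfold pairN
  rw [map_mul, glMap_xU, glMap_xU, map_pow]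

theorem glMap_clsP (ψ : K ≃+* K) (θ : ℕ) (t u : K) :
    glMapEquiv (n := cdF4.D.Idx) ψ (clsP θ t u) = clsP θ (ψ t) (ψ u) := by
  rw [clsP_eq, clsP_eq, map_mul, map_mul, map_mul, glMap_xU, glMap_xU, glMap_xU, glMap_xU, map_pow, map_add,
    map_pow, map_pow]

theorem glMap_clsN (ψ : K ≃+* K) (θ : ℕ) (t u : K) :
    glMapEquiv (n := cdF4.D.Idx) ψ (clsN θ t u) = clsN θ (ψ t) (ψ u) := by
  rw [clsN_eq, clsN_eq, map_mul, map_mul, map_mul, glMap_xU, glMap_xU, glMap_xU, glMap_xU, map_pow, map_add,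
    map_pow, map_pow]

theorem tF4_map_le (θ : ℕ) (ψ : K ≃+* K) :
    (tF4 K θ).map (glMapEquiv (n := cdF4.D.Idx) ψ).toMonoidHom ≤ tF4 K θ := by
  rw [Subgroup.map_le_iff_le_comap]
  apply tF4_le_of_gens
  · intro t
    rw [Subgroup.mem_comap]
    show glMapEquiv (n := cdF4.D.Idx) ψ (pairP θ t) ∈ _
    rw [glMap_pairP]; exact pairP_mem_tF4 θ _
  · intro t
    rw [Subgroup.mem_comap]
    show glMapEquiv (n := cdF4.D.Idx) ψ (pairN θ t) ∈ _
    rw [glMap_pairN]; exact pairN_mem_tF4 θ _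
  · intro t u
    rw [Subgroup.mem_comap]
    show glMapEquiv (n := cdF4.D.Idx) ψ (clsP θ t u) ∈ _
    rw [glMap_clsP]; exact clsP_mem_tF4 θ _ _
  · intro t u
    rw [Subgroup.mem_comap]
    show glMapEquiv (n := cdF4.D.Idx) ψ (clsN θ t u) ∈ _
    rw [glMap_clsN]; exact clsN_mem_tF4 θ _ _

theorem tF4_map_eq (θ : ℕ) (ψ : K ≃+* K) :
    (tF4 K θ).map (glMapEquiv (n := cdF4.D.Idx) ψ).toMonoidHom = tF4 K θ := by
  apply le_antisymm (tF4_map_le θ ψ)
  intro g hg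
  refine ⟨glMapEquiv ψ.symm g, ?_, ?_⟩
  · apply tF4_map_le θ ψ.symm
    exact ⟨g, hg, rfl⟩
  · apply Units.ext
    show ((glMapEquiv ψ (glMapEquiv ψ.symm g) : GL cdF4.D.Idx K) : Matrix cdF4.D.Idx cdF4.D.Idx K) = _
    rw [glMapEquiv_coe, glMapEquiv_coe]
    ext i j
    simp

/-- the field automorphism of the twisted group -/
noncomputable def f4FAut (θ : ℕ) (ψ : K ≃+* K) : MulAut ↥(tF4 K θ) :=
  ((glMapEquiv (n := cdF4.D.Idx) ψ).subgroupMap (tF4 K θ)).trans (MulEquiv.subgroupCongr (tF4_map_eq θ ψ))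

theorem f4FAut_coe (θ : ℕ) (ψ : K ≃+* K) (g : ↥(tF4 K θ)) :
    ((f4FAut θ ψ g : ↥(tF4 K θ)) : GL cdF4.D.Idx K) = glMapEquiv ψ (g : GL cdF4.D.Idx K) := rfl

/-- the field automorphisms as a homomorphism -/
noncomputable def f4FAutHom (θ : ℕ) : (K ≃+* K) →* MulAut ↥(tF4 K θ) where
  toFun ψ := f4FAut θ ψ
  map_one' := by
    apply MulEquiv.ext
    intro x
    apply Subtype.ext
    rw [f4FAut_coe]
    apply Units.ext
    rw [glMapEquiv_coe]
    ext i j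
    simp [Matrix.map_apply]
  map_mul' f g := by
    apply MulEquiv.ext
    intro x
    apply Subtype.ext
    rw [MulAut.mul_apply, f4FAut_coe, f4FAut_coe, f4FAut_coe]
    apply Units.ext
    rw [glMapEquiv_coe, glMapEquiv_coe, glMapEquiv_coe]
    ext i j
    simp [Matrix.map_apply]

theorem f4FAutHom_apply (θ : ℕ) (ψ : K ≃+* K) : f4FAutHom θ ψ = f4FAut θ ψ := rfl

theorem ex_f4FAut (θ : ℕ) (ψ : K ≃+* K) (g : GL cdF4.D.Idx K) (hg : g ∈ tF4 K θ) :
    ex (f4FAut θ ψ) g = glMapEquiv ψ g := by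
  rw [ex_of_mem _ hg, f4FAut_coe]

theorem ex_f4FAut_pairP (θ : ℕ) (ψ : K ≃+* K) (t : K) : ex (f4FAut θ ψ) (pairP θ t) = pairP θ (ψ t) := by
  rw [ex_f4FAut θ ψ _ (pairP_mem_tF4 θ t), glMap_pairP]

theorem ex_f4FAut_pairN (θ : ℕ) (ψ : K ≃+* K) (t : K) : ex (f4FAut θ ψ) (pairN θ t) = pairN θ (ψ t) := by
  rw [ex_f4FAut θ ψ _ (pairN_mem_tF4 θ t), glMap_pairN]

theorem ex_f4FAut_clsP (θ : ℕ) (ψ : K ≃+* K) (t u : K) :
    ex (f4FAut θ ψ) (clsP θ t u) = clsP θ (ψ t) (ψ u) := by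
  rw [ex_f4FAut θ ψ _ (clsP_mem_tF4 θ t u), glMap_clsP]

theorem ex_f4FAut_clsN (θ : ℕ) (ψ : K ≃+* K) (t u : K) :
    ex (f4FAut θ ψ) (clsN θ t u) = clsN θ (ψ t) (ψ u) := by
  rw [ex_f4FAut θ ψ _ (clsN_mem_tF4 θ t u), glMap_clsN]

/-- automorphisms agreeing on the generators are equal -/
theorem f4_aut_eq_of_gens (θ : ℕ) (α β : MulAut ↥(tF4 K θ))
    (h1 : ∀ t : K, ex α (pairP θ t) = ex β (pairP θ t)) (h2 : ∀ t : K, ex α (pairN θ t) = ex β (pairN θ t))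
    (h3 : ∀ t u : K, ex α (clsP θ t u) = ex β (clsP θ t u))
    (h4 : ∀ t u : K, ex α (clsN θ t u) = ex β (clsN θ t u)) : α = β := by
  apply MulEquiv.ext
  intro g
  have key : ∀ x (hx : x ∈ Subgroup.closure (f4Gens K θ)), x ∈ tF4 K θ ∧ ex α x = ex β x := by
    intro x hx
    induction hx using Subgroup.closure_induction with
    | mem x hx =>
      refine ⟨f4Gens_subset θ hx, ?_⟩
      rcases hx with ⟨t, rfl | rfl⟩ | ⟨t, u, rfl | rfl⟩
      · exact h1 t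
      · exact h2 t
      · exact h3 t u
      · exact h4 t u
    | one => exact ⟨Subgroup.one_mem _, by rw [ex_one, ex_one]⟩
    | mul x y hx hy ihx ihy =>
      exact ⟨Subgroup.mul_mem _ ihx.1 ihy.1,
        by rw [ex_mul α ihx.1 ihy.1, ex_mul β ihx.1 ihy.1, ihx.2, ihy.2]⟩
    | inv x hx ihx =>
      exact ⟨Subgroup.inv_mem _ ihx.1, by rw [ex_inv α ihx.1, ex_inv β ihx.1, ihx.2]⟩
  have hg : (g : GL cdF4.D.Idx K) ∈ Subgroup.closure (f4Gens K θ) := by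
    rw [← tF4_eq_closure]; exact g.2
  have := (key g.1 hg).2
  rw [ex_coe, ex_coe] at this
  exact Subtype.ext this

end

end Cfsg.Agent.Lib.Helper3.RF4
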