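import Mathlib
import Cfsg.Prelude.Def_ChevStructure
import Cfsg.Prelude.Def_KGroupFacts
import Cfsg.Agent.Lib.Helper3.F4Out1
import Cfsg.Agent.Lib.Helper3.TwAut2
set_option autoImplicit false
set_option linter.unusedSectionVars false
set_option linter.style.haveILetI false
set_option maxRecDepth 1000000
open Cfsg Cfsg.Lie

/-!
Automorphisms of the twisted groups of type F4, part 2: up to an inner automorphism, an automorphism preserves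
the subgroups `U¹` and `V¹`.
-/

namespace Cfsg.Agent.Lib.Helper3.RF4

open Cfsg.Agent.Lib.Helper3.ChevM Cfsg.Agent.Lib.Helper3.ChevSp Cfsg.Agent.Lib.Helper3.ChevAt
open Cfsg.Agent.Lib.Helper3 ChevU ChevT
open Cfsg.Agent.Lib.Helper3.ChevAut Cfsg.Agent.Lib.Helper3.TwAut

theorem f4_alt8_neg : ∀ r, cdF4.D.IsPosRoot r → cdF4.D.IsNegRoot (reflW relF4.refl (altWord 8) r) := by
  intro r hr
  have h1 : r < 48 := hr.1
  revert hr
  revert r
  decide +kernel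

theorem f4_pos_check : ∀ i : Fin 16, i.val ≠ 8 →
    (cdF4.D.IsPosRoot (reflW relF4.refl (wOf i) 33) ∧ cdF4.D.IsPosRoot (reflW relF4.refl (wOf i) 24)) ∨
    (cdF4.D.IsPosRoot (reflW relF4.refl (wOf i) 28) ∧ cdF4.D.IsPosRoot (reflW relF4.refl (wOf i) 30)) := by
  decide +kernel

theorem f4_neg_check : ∀ i : Fin 16, i.val ≠ 0 →
    (cdF4.D.IsNegRoot (reflW relF4.refl (wOf i) 33) ∧ cdF4.D.IsNegRoot (reflW relF4.refl (wOf i) 24)) ∨
    (cdF4.D.IsNegRoot (reflW relF4.refl (wOf i) 28) ∧ cdF4.D.IsNegRoot (reflW relF4.refl (wOf i) 30)) := by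
  decide +kernel

theorem wOf_zero : wOf ⟨0, by decide⟩ = [] := by decide

theorem wOf_eight : wOf ⟨8, by decide⟩ = altWord 8 := by decide

section
variable {K : Type*} [Field K] [CharP K 2]

theorem pairP_one_eq (θ : ℕ) : pairP θ (1 : K) = relF4.xU 33 1 * relF4.xU 24 1 := by
  unfold pairP
  rw [one_pow]

theorem clsP_zero_zero {θ : ℕ} (hθ : ThetaHyp2 K θ) : clsP θ (0 : K) 0 = 1 := by
  have h := clsP_mul hθ (0 : K) 0 0 0
  simp only [add_zero, mul_zero] at h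
  exact mul_eq_left.mp h

theorem pairP_one_ne (θ : ℕ) (hθ : θ ≠ 0) : pairP θ (1 : K) ≠ 1 := by
  intro h
  rw [← pairP_zero θ hθ] at h
  exact one_ne_zero (pairP_inj θ _ _ h)

theorem clsP_zero_one_ne {θ : ℕ} (hθ : ThetaHyp2 K θ) : clsP θ (0 : K) 1 ≠ 1 := by
  intro h
  rw [← clsP_zero_zero hθ] at h
  exact one_ne_zero (clsP_inj θ _ _ _ _ h).2

theorem conj_word_two (l : List ℕ) (hl : ∀ i ∈ l, i < cdF4.D.rank) (a b : ℕ) (ha : a < cdF4.D.nroots)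
    (hb : b < cdF4.D.nroots) (c c' : K) (h : GL cdF4.D.Idx K) :
    (h * relF4.nWordU (F := K) l) * (relF4.xU a c * relF4.xU b c') * (h * relF4.nWordU (F := K) l)⁻¹ =
      h * (relF4.xU (reflW relF4.refl l a) c * relF4.xU (reflW relF4.refl l b) c') * h⁻¹ := by
  rw [← conj_word_xU2 l hl a ha c, ← conj_word_xU2 l hl b hb c']
  group

theorem diag_conj_pos (h : GL cdF4.D.Idx K) (hh : h ∈ cdF4.D.diagonalSubgroup K) (x : GL cdF4.D.Idx K)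
    (hx : x ∈ cdF4.D.posUnipotent K) : h * x * h⁻¹ ∈ cdF4.D.posUnipotent K := by
  obtain ⟨hHU, -⟩ := relF4.diagonal_normalizes (F := K) bnF4.dec bnF4.mono.tri
  exact (Subgroup.mem_normalizer_iff.mp (hHU hh) x).mp hx

end

section
variable {K : Type*} [Field K] [Fintype K] [CharP K 2]

/-- an element of the twisted group mapping `U¹` into `U` lies in `B` -/
theorem f4_mem_borel_of_conj_pos (m : ℕ) (hK : Fintype.card K = 2 ^ (2 * m + 1)) (g : GL cdF4.D.Idx K)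
    (hg : g ∈ tF4 K (2 ^ m))
    (hN : ∀ u ∈ cdF4.D.posUnipotent K ⊓ tF4 K (2 ^ m), g * u * g⁻¹ ∈ cdF4.D.posUnipotent K) :
    g ∈ cdF4.D.borelSubgroup K := by
  have hθ := thetaHyp2_of_card (K := K) m hK
  have hθ0 : (2 : ℕ) ^ m ≠ 0 := pow_ne_zero _ (by norm_num)
  obtain ⟨u₁, hu₁, h, hh, i, u, hu, rfl⟩ := f4_normal_form m hK g hg
  have huU := uMinus_le_posUnipotent cdF4.D _ hu.1
  have hBN := borel_le_normalizer_pos (K := K) atHypF4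
  have hUB : cdF4.D.posUnipotent K ≤ cdF4.D.borelSubgroup K := le_sup_left
  have hHB : cdF4.D.diagonalSubgroup K ≤ cdF4.D.borelSubgroup K := le_sup_right
  have hb : u₁ * h ∈ cdF4.D.borelSubgroup K := Subgroup.mul_mem _ (hUB hu₁.1) (hHB hh.1)
  set n := relF4.nWordU (F := K) (wOf i) with hn
  have hnN : ∀ x ∈ cdF4.D.posUnipotent K ⊓ tF4 K (2 ^ m), n * x * n⁻¹ ∈ cdF4.D.posUnipotent K := by
    intro x hx
    have hx' : u⁻¹ * x * u ∈ cdF4.D.posUnipotent K ⊓ tF4 K (2 ^ m) :=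
      Subgroup.mul_mem _ (Subgroup.mul_mem _ (Subgroup.inv_mem _ ⟨huU, hu.2⟩) hx) ⟨huU, hu.2⟩
    have h1 := hN _ hx'
    have h2 := (Subgroup.mem_normalizer_iff.mp (hBN (Subgroup.inv_mem _ hb)) _).mp h1
    have e : (u₁ * h)⁻¹ * (u₁ * h * n * u * (u⁻¹ * x * u) * (u₁ * h * n * u)⁻¹) * (u₁ * h)⁻¹⁻¹ =
        n * x * n⁻¹ := by group
    rwa [e] at h2
  have hi : i.val = 0 := by
    by_contra hi
    have hcontra : ∀ a b : ℕ, a < cdF4.D.nroots → b < cdF4.D.nroots →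
        cdF4.D.IsNegRoot (reflW relF4.refl (wOf i) a) → cdF4.D.IsNegRoot (reflW relF4.refl (wOf i) b) →
        relF4.xU (F := K) a 1 * relF4.xU b 1 ∈ cdF4.D.posUnipotent K ⊓ tF4 K (2 ^ m) →
        relF4.xU (F := K) a 1 * relF4.xU b 1 = 1 := by
      intro a b ha hb' hna hnb hmem
      have h1 := hnN _ hmem
      have h2 := conj_word_two (K := K) (wOf i) (wOf_lt i) a b ha hb' 1 1 1
      rw [one_mul, one_mul, inv_one, mul_one] at h2
      rw [← hn] at h2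
      rw [h2] at h1
      have h3 : relF4.xU (F := K) (reflW relF4.refl (wOf i) a) 1 * relF4.xU (reflW relF4.refl (wOf i) b) 1 ∈
          cdF4.D.posUnipotent K ⊓ cdF4.D.negUnipotent K :=
        ⟨h1, Subgroup.mul_mem _ (xU_mem_negU _ hna 1) (xU_mem_negU _ hnb 1)⟩
      rw [pos_inf_neg atHypF4, Subgroup.mem_bot] at h3
      rw [← h2] at h3
      exact conj_eq_one_iff.mp h3
    rcases f4_neg_check i hi with ⟨h1, h2⟩ | ⟨h1, h2⟩
    · have h3 := hcontra 33 24 (by decide) (by decide) h1 h2 (by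
        rw [← pairP_one_eq (2 ^ m)]
        exact ⟨by rw [pairP_one_eq]; exact Subgroup.mul_mem _ (xU_mem_pos _ (by decide) _) (xU_mem_pos _ (by decide) _),
          pairP_mem_tF4 _ _⟩)
      rw [← pairP_one_eq (2 ^ m)] at h3
      exact pairP_one_ne _ hθ0 h3
    · have h3 := hcontra 28 30 (by decide) (by decide) h1 h2 (by
        rw [← clsP_zero_one (2 ^ m) hθ0]
        exact ⟨by rw [clsP_zero_one _ hθ0]; exact Subgroup.mul_mem _ (xU_mem_pos _ (by decide) _) (xU_mem_pos _ (by decide) _),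
          clsP_mem_tF4 _ _ _⟩)
      rw [← clsP_zero_one (2 ^ m) hθ0] at h3
      exact clsP_zero_one_ne hθ h3
  have hi' : i = ⟨0, by decide⟩ := Fin.ext hi
  have hn1 : n = 1 := by
    rw [hn, hi', wOf_zero]
    rfl
  rw [hn1, mul_one]
  exact Subgroup.mul_mem _ hb (hUB huU)

/-- an automorphism preserving `U¹` preserves `B¹` -/
theorem f4_pres_borel (m : ℕ) (hK : Fintype.card K = 2 ^ (2 * m + 1)) (α : MulAut ↥(tF4 K (2 ^ m)))
    (hU : Pres α (cdF4.D.posUnipotent K ⊓ tF4 K (2 ^ m))) : Pres α (cdF4.D.borelSubgroup K ⊓ tF4 K (2 ^ m)) := by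
  intro b hb
  refine ⟨?_, ex_mem α hb.2⟩
  apply f4_mem_borel_of_conj_pos m hK _ (ex_mem α hb.2)
  intro u hu
  obtain ⟨x, hx, rfl⟩ := hU.surj inf_le_right hu
  rw [← ex_conj_mul α hb.2 hx.2]
  refine (hU _ ⟨?_, Subgroup.mul_mem _ (Subgroup.mul_mem _ hb.2 hx.2) (Subgroup.inv_mem _ hb.2)⟩).1
  exact (Subgroup.mem_normalizer_iff.mp (borel_le_normalizer_pos atHypF4 hb.1) x).mp hx.1

/-- if `n U¹ n⁻¹` meets `U` trivially then `n` represents the longest element -/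
theorem f4_longest_of_conj_inf (m : ℕ) (hK : Fintype.card K = 2 ^ (2 * m + 1)) (h : GL cdF4.D.Idx K)
    (hh : h ∈ cdF4.D.diagonalSubgroup K) (i : Fin 16)
    (hinf : ∀ y ∈ cdF4.D.posUnipotent K ⊓ tF4 K (2 ^ m),
      (h * relF4.nWordU (F := K) (wOf i)) * y * (h * relF4.nWordU (F := K) (wOf i))⁻¹ ∈ cdF4.D.posUnipotent K →
        y = 1) : i.val = 8 := by
  have hθ := thetaHyp2_of_card (K := K) m hK
  have hθ0 : (2 : ℕ) ^ m ≠ 0 := pow_ne_zero _ (by norm_num)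
  by_contra hi
  have hcontra : ∀ a b : ℕ, a < cdF4.D.nroots → b < cdF4.D.nroots →
      cdF4.D.IsPosRoot (reflW relF4.refl (wOf i) a) → cdF4.D.IsPosRoot (reflW relF4.refl (wOf i) b) →
      relF4.xU (F := K) a 1 * relF4.xU b 1 ∈ cdF4.D.posUnipotent K ⊓ tF4 K (2 ^ m) →
      relF4.xU (F := K) a 1 * relF4.xU b 1 = 1 := by
    intro a b ha hb' hpa hpb hmem
    apply hinf _ hmem
    rw [conj_word_two (K := K) (wOf i) (wOf_lt i) a b ha hb' 1 1 h]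
    exact diag_conj_pos h hh _ (Subgroup.mul_mem _ (xU_mem_pos _ hpa 1) (xU_mem_pos _ hpb 1))
  rcases f4_pos_check i hi with ⟨h1, h2⟩ | ⟨h1, h2⟩
  · have h3 := hcontra 33 24 (by decide) (by decide) h1 h2 (by
      rw [← pairP_one_eq (2 ^ m)]
      exact ⟨by rw [pairP_one_eq]; exact Subgroup.mul_mem _ (xU_mem_pos _ (by decide) _) (xU_mem_pos _ (by decide) _),
        pairP_mem_tF4 _ _⟩)
    rw [← pairP_one_eq (2 ^ m)] at h3
    exact pairP_one_ne _ hθ0 h3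
  · have h3 := hcontra 28 30 (by decide) (by decide) h1 h2 (by
      rw [← clsP_zero_one (2 ^ m) hθ0]
      exact ⟨by rw [clsP_zero_one _ hθ0]; exact Subgroup.mul_mem _ (xU_mem_pos _ (by decide) _) (xU_mem_pos _ (by decide) _),
        clsP_mem_tF4 _ _ _⟩)
    rw [← clsP_zero_one (2 ^ m) hθ0] at h3
    exact clsP_zero_one_ne hθ h3

end

section
variable {G₀ : Type*} [Group G₀] [Finite G₀] {Γ : Subgroup G₀}

/-- if the image of an element interchanging `U'` and `V'` is `u₁ n' u` then `n' U' n'⁻¹` meets `U'` trivially -/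
theorem conj_inf_of_opp (U' V' : Subgroup G₀) (hUΓ : U' ≤ Γ) (hUV : U' ⊓ V' = ⊥) (n₀ : G₀) (hn₀ : n₀ ∈ Γ)
    (h1 : ∀ x ∈ U', n₀ * x * n₀⁻¹ ∈ V') (α : MulAut ↥Γ) (hU : Pres α U') (u₁ n' u : G₀) (hu₁ : u₁ ∈ U')
    (hu : u ∈ U') (hgn : ex α n₀ = u₁ * n' * u) :
    ∀ y ∈ U', n' * y * n'⁻¹ ∈ U' → y = 1 := by
  have himg : ∀ x ∈ U', ex α (n₀ * x * n₀⁻¹) = u₁ * (n' * (u * ex α x * u⁻¹) * n'⁻¹) * u₁⁻¹ := by
    intro x hx
    rw [ex_conj_mul α hn₀ (hUΓ hx), hgn]; group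
  intro y hy hz
  obtain ⟨x', hx', hx'e⟩ := hU.surj hUΓ (Subgroup.mul_mem _ (Subgroup.mul_mem _ (Subgroup.inv_mem _ hu) hy) hu)
  have h2 := himg x' hx'
  rw [hx'e] at h2
  have e : u * (u⁻¹ * y * u) * u⁻¹ = y := by group
  rw [e] at h2
  have h3 : ex α (n₀ * x' * n₀⁻¹) ∈ U' := by
    rw [h2]
    exact Subgroup.mul_mem _ (Subgroup.mul_mem _ hu₁ hz) (Subgroup.inv_mem _ hu₁)
  have hvV := h1 x' hx'
  have hvΓ : n₀ * x' * n₀⁻¹ ∈ Γ :=
    Subgroup.mul_mem _ (Subgroup.mul_mem _ hn₀ (hUΓ hx')) (Subgroup.inv_mem _ hn₀)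
  have h4 := (hU.mem_iff hUΓ hvΓ).mp h3
  have h5 : n₀ * x' * n₀⁻¹ ∈ U' ⊓ V' := ⟨h4, hvV⟩
  rw [hUV, Subgroup.mem_bot] at h5
  have h6 : x' = 1 := conj_eq_one_iff.mp h5
  rw [h6, ex_one] at hx'e
  have e3 : y = u * (u⁻¹ * y * u) * u⁻¹ := by group
  rw [e3, ← hx'e]; group

/-- if moreover `n'` maps `U'` into `V'` then a conjugate of the automorphism preserves `V'` -/
theorem pres_neg_of_opp (U' V' : Subgroup G₀) (hUΓ : U' ≤ Γ) (hVΓ : V' ≤ Γ) (n₀ : G₀) (hn₀ : n₀ ∈ Γ)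
    (h2 : ∀ v ∈ V', ∃ x ∈ U', n₀ * x * n₀⁻¹ = v) (α : MulAut ↥Γ) (hU : Pres α U') (u₁ n' u : G₀)
    (hu₁ : u₁ ∈ U') (hu : u ∈ U') (hgn : ex α n₀ = u₁ * n' * u)
    (h3 : ∀ y ∈ U', n' * y * n'⁻¹ ∈ V') :
    Pres (MulAut.conj (⟨u₁⁻¹, Subgroup.inv_mem _ (hUΓ hu₁)⟩ : ↥Γ) * α) V' := by
  have himg : ∀ x ∈ U', ex α (n₀ * x * n₀⁻¹) = u₁ * (n' * (u * ex α x * u⁻¹) * n'⁻¹) * u₁⁻¹ := by
    intro x hx
    rw [ex_conj_mul α hn₀ (hUΓ hx), hgn]; group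
  intro v hv
  have hvG := hVΓ hv
  rw [ex_mul_aut _ _ hvG, ex_conj _ (ex_mem α hvG)]
  obtain ⟨x, hx, rfl⟩ := h2 v hv
  change ((u₁⁻¹ : G₀)) * ex α (n₀ * x * n₀⁻¹) * (u₁⁻¹ : G₀)⁻¹ ∈ _
  rw [himg x hx]
  have e : u₁⁻¹ * (u₁ * (n' * (u * ex α x * u⁻¹) * n'⁻¹) * u₁⁻¹) * u₁⁻¹⁻¹ =
      n' * (u * ex α x * u⁻¹) * n'⁻¹ := by group
  rw [e]
  exact h3 _ (Subgroup.mul_mem _ (Subgroup.mul_mem _ hu (hU x hx)) (Subgroup.inv_mem _ hu))

end

section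
variable {K : Type*} [Field K] [Fintype K] [CharP K 2]

theorem f4_n0_mem (m : ℕ) : relF4.nWordU (F := K) (altWord 8) ∈ tF4 K (2 ^ m) :=
  altWord_mem (2 ^ m) (pow_ne_zero _ (by norm_num)) 8

/-- the representative of the longest element maps `U¹` into `V¹` -/
theorem f4_n0_conj_pos (m : ℕ) (x : GL cdF4.D.Idx K) (hx : x ∈ cdF4.D.posUnipotent K ⊓ tF4 K (2 ^ m)) :
    relF4.nWordU (F := K) (altWord 8) * x * (relF4.nWordU (F := K) (altWord 8))⁻¹ ∈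
      cdF4.D.negUnipotent K ⊓ tF4 K (2 ^ m) := by
  have hmap := relF4.opposition_word (F := K) (altWord 8) (altWord 8) (altWord_lt 8) f4_opp8
  refine ⟨?_, Subgroup.mul_mem _ (Subgroup.mul_mem _ (f4_n0_mem m) hx.2) (Subgroup.inv_mem _ (f4_n0_mem m))⟩
  rw [← hmap]; exact ⟨x, hx.1, rfl⟩

/-- every element of `V¹` is the conjugate of an element of `U¹` under the representative of the longest element -/
theorem f4_n0_conj_surj (m : ℕ) (v : GL cdF4.D.Idx K) (hv : v ∈ cdF4.D.negUnipotent K ⊓ tF4 K (2 ^ m)) :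
    ∃ x ∈ cdF4.D.posUnipotent K ⊓ tF4 K (2 ^ m),
      relF4.nWordU (F := K) (altWord 8) * x * (relF4.nWordU (F := K) (altWord 8))⁻¹ = v := by
  have hmap := relF4.opposition_word (F := K) (altWord 8) (altWord 8) (altWord_lt 8) f4_opp8
  have hv1 := hv.1
  rw [← hmap] at hv1
  obtain ⟨x, hx, e⟩ := hv1
  change relF4.nWordU (F := K) (altWord 8) * x * (relF4.nWordU (F := K) (altWord 8))⁻¹ = v at e
  refine ⟨x, ⟨hx, ?_⟩, e⟩
  have e2 : x = (relF4.nWordU (F := K) (altWord 8))⁻¹ * v * relF4.nWordU (F := K) (altWord 8) := by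
    rw [← e]; group
  rw [e2]
  exact Subgroup.mul_mem _ (Subgroup.mul_mem _ (Subgroup.inv_mem _ (f4_n0_mem m)) hv.2) (f4_n0_mem m)

theorem f4_pos_inf_neg (m : ℕ) :
    (cdF4.D.posUnipotent K ⊓ tF4 K (2 ^ m)) ⊓ (cdF4.D.negUnipotent K ⊓ tF4 K (2 ^ m)) = ⊥ := by
  rw [eq_bot_iff]
  rintro g ⟨h1, h2⟩
  rw [← pos_inf_neg (K := K) atHypF4]
  exact ⟨h1.1, h2.1⟩

/-- an automorphism preserving `U¹` maps `V¹` to a conjugate of `V¹` under `U¹` -/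
theorem f4_exists_conj_pres_neg (m : ℕ) (hK : Fintype.card K = 2 ^ (2 * m + 1)) (α : MulAut ↥(tF4 K (2 ^ m)))
    (hU : Pres α (cdF4.D.posUnipotent K ⊓ tF4 K (2 ^ m))) :
    ∃ a : ↥(tF4 K (2 ^ m)), (a : GL cdF4.D.Idx K) ∈ cdF4.D.posUnipotent K ⊓ tF4 K (2 ^ m) ∧
      Pres (MulAut.conj a * α) (cdF4.D.negUnipotent K ⊓ tF4 K (2 ^ m)) := by
  have hn₀G := f4_n0_mem (K := K) m
  obtain ⟨u₁, hu₁, h, hh, i, u, hu, hg⟩ :=
    f4_normal_form m hK (ex α (relF4.nWordU (F := K) (altWord 8))) (ex_mem α hn₀G)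
  have huU : u ∈ cdF4.D.posUnipotent K ⊓ tF4 K (2 ^ m) := ⟨uMinus_le_posUnipotent cdF4.D _ hu.1, hu.2⟩
  have hgn : ex α (relF4.nWordU (F := K) (altWord 8)) = u₁ * (h * relF4.nWordU (F := K) (wOf i)) * u := by
    rw [hg]; group
  have hn'Γ : h * relF4.nWordU (F := K) (wOf i) ∈ tF4 K (2 ^ m) := Subgroup.mul_mem _ hh.2 (wOf_mem_tF4 m i)
  have hinf := conj_inf_of_opp (cdF4.D.posUnipotent K ⊓ tF4 K (2 ^ m)) (cdF4.D.negUnipotent K ⊓ tF4 K (2 ^ m))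
    inf_le_right (f4_pos_inf_neg m) _ hn₀G (f4_n0_conj_pos m) α hU u₁ _ u hu₁ huU hgn
  have hi := f4_longest_of_conj_inf m hK h hh.1 i (by
    intro y hy hz
    exact hinf y hy ⟨hz, Subgroup.mul_mem _ (Subgroup.mul_mem _ hn'Γ hy.2) (Subgroup.inv_mem _ hn'Γ)⟩)
  have hi' : i = ⟨8, by decide⟩ := Fin.ext hi
  subst hi'
  rw [wOf_eight] at hgn hn'Γ
  have hmap' := map_conj_pos_eq_neg (K := K) atHypF4 h hh.1 (altWord 8) (altWord_lt 8) f4_alt8_neg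
  refine ⟨⟨u₁⁻¹, Subgroup.inv_mem _ hu₁.2⟩, Subgroup.inv_mem _ hu₁, ?_⟩
  apply pres_neg_of_opp (cdF4.D.posUnipotent K ⊓ tF4 K (2 ^ m)) (cdF4.D.negUnipotent K ⊓ tF4 K (2 ^ m))
    inf_le_right inf_le_right _ hn₀G (f4_n0_conj_surj m) α hU u₁ _ u hu₁ huU hgn
  intro y hy
  refine ⟨?_, Subgroup.mul_mem _ (Subgroup.mul_mem _ hn'Γ hy.2) (Subgroup.inv_mem _ hn'Γ)⟩
  rw [← hmap']
  exact ⟨y, hy.1, rfl⟩

/-- up to an inner automorphism, an automorphism preserves `U¹` and `V¹` -/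
theorem f4_exists_conj_pres (m : ℕ) (hK : Fintype.card K = 2 ^ (2 * m + 1)) (α : MulAut ↥(tF4 K (2 ^ m))) :
    ∃ a : ↥(tF4 K (2 ^ m)), Pres (MulAut.conj a * α) (cdF4.D.posUnipotent K ⊓ tF4 K (2 ^ m)) ∧
      Pres (MulAut.conj a * α) (cdF4.D.negUnipotent K ⊓ tF4 K (2 ^ m)) := by
  haveI : Fact (Nat.Prime 2) := ⟨by norm_num⟩
  obtain ⟨a₁, h1⟩ := exists_conj_pres_sylow 2 _ inf_le_right (f4_sylow m hK) α
  obtain ⟨a₂, ha₂, h2⟩ := f4_exists_conj_pres_neg m hK _ h1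
  refine ⟨a₂ * a₁, ?_, ?_⟩
  · rw [map_mul, mul_assoc]
    exact pres_conj_mul' _ inf_le_right _ h1 a₂ ha₂
  · rw [map_mul, mul_assoc]
    exact h2

end

end Cfsg.Agent.Lib.Helper3.RF4
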