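import Mathlib
import Cfsg.Prelude.Def_ChevStructure
import Cfsg.Prelude.Def_KGroupFacts
import Cfsg.Agent.Lib.Helper3.F4Out2
import Cfsg.Agent.Lib.Helper3.TwAut5
set_option autoImplicit false
set_option linter.unusedSectionVars false
set_option linter.style.haveILetI false
set_option maxRecDepth 1000000
open Cfsg Cfsg.Lie

/-!
Automorphisms of the twisted groups of type F4, part 3: the minimal parabolic subgroups; the intersection of `V¹`
with a minimal parabolic subgroup.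
-/

namespace Cfsg.Agent.Lib.Helper3.RF4

open Cfsg.Agent.Lib.Helper3.ChevM Cfsg.Agent.Lib.Helper3.ChevSp Cfsg.Agent.Lib.Helper3.ChevAt
open Cfsg.Agent.Lib.Helper3 ChevU ChevT
open Cfsg.Agent.Lib.Helper3.ChevAut Cfsg.Agent.Lib.Helper3.TwAut Cfsg.Agent.Lib.Helper1
open DoubleCoset

theorem wOf_one : wOf ⟨1, by decide⟩ = wJ1 := by decide

theorem wOf_nine : wOf ⟨9, by decide⟩ = wJ2 := by decide

theorem exists_wOf_eq (J : List ℕ) (hJ : J ∈ [wJ1, wJ2]) : ∃ j : Fin 16, wOf j = J := by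
  simp only [List.mem_cons, List.not_mem_nil, or_false] at hJ
  rcases hJ with rfl | rfl
  · exact ⟨_, wOf_one⟩
  · exact ⟨_, wOf_nine⟩

section
variable {K : Type*} [Field K] [Fintype K] [CharP K 2]

/-- the representatives of the generators of the twisted Weyl group as elements of the twisted group -/
def f4s (m : ℕ) (J : List ℕ) (hJ : J ∈ [wJ1, wJ2]) : ↥(tF4 K (2 ^ m)) :=
  ⟨relF4.nWordU (F := K) J, wJ_mem_tF4 m J hJ⟩

theorem f4s_mem_S (m : ℕ) (hK : Fintype.card K = 2 ^ (2 * m + 1)) (J : List ℕ) (hJ : J ∈ [wJ1, wJ2]) :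
    f4s (K := K) m J hJ ∈ (f4BN m hK).S := by
  show ((f4s (K := K) m J hJ : ↥(tF4 K (2 ^ m))) : GL cdF4.D.Idx K) ∈ f4Reps K
  simp only [List.mem_cons, List.not_mem_nil, or_false] at hJ
  rcases hJ with rfl | rfl
  · exact Or.inl rfl
  · exact Or.inr rfl

theorem exists_f4s_of_mem_S (m : ℕ) (hK : Fintype.card K = 2 ^ (2 * m + 1)) (t : ↥(tF4 K (2 ^ m)))
    (ht : t ∈ (f4BN m hK).S) : ∃ J, ∃ hJ : J ∈ [wJ1, wJ2], t = f4s m J hJ := by
  have h1 : (t : GL cdF4.D.Idx K) ∈ f4Reps K := ht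
  obtain ⟨J, hJ, e⟩ := f4Reps_cases _ h1
  exact ⟨J, hJ, Subtype.ext e⟩

/-- an automorphism preserving `B¹` maps `B¹` onto `B¹` -/
theorem f4_map_B_eq (m : ℕ) (hK : Fintype.card K = 2 ^ (2 * m + 1)) (α : ↥(tF4 K (2 ^ m)) ≃* ↥(tF4 K (2 ^ m)))
    (hB : Pres α (cdF4.D.borelSubgroup K ⊓ tF4 K (2 ^ m))) :
    (f4BN m hK).B.map α.toMonoidHom = (f4BN m hK).B := by
  have hPB := f4BN_B (K := K) m hK
  ext x
  constructor
  · rintro ⟨b, hb, rfl⟩
    rw [SetLike.mem_coe, hPB, Subgroup.mem_subgroupOf] at hb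
    rw [hPB, Subgroup.mem_subgroupOf]
    have := hB _ hb
    rwa [ex_coe] at this
  · intro hx
    rw [hPB, Subgroup.mem_subgroupOf] at hx
    obtain ⟨b, hb, e⟩ := hB.surj inf_le_right hx
    refine ⟨⟨b, hb.2⟩, ?_, ?_⟩
    · rw [SetLike.mem_coe, hPB, Subgroup.mem_subgroupOf]; exact hb
    · apply Subtype.ext
      rw [← e, ex_of_mem α hb.2]
      rfl

/-- the elements of a minimal parabolic subgroup of the twisted group -/
theorem f4_parabolic_cases' (m : ℕ) (hK : Fintype.card K = 2 ^ (2 * m + 1)) (J : List ℕ) (hJ : J ∈ [wJ1, wJ2])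
    (g : ↥(tF4 K (2 ^ m))) (hg : g ∈ (f4BN m hK).parabolic {f4s m J hJ}) :
    (g : GL cdF4.D.Idx K) ∈ cdF4.D.borelSubgroup K ∨
      ∃ u₁ ∈ cdF4.D.posUnipotent K ⊓ tF4 K (2 ^ m), ∃ h ∈ cdF4.D.diagonalSubgroup K ⊓ tF4 K (2 ^ m),
        ∃ x ∈ (f4Tw (K := K) m).fixU J, (g : GL cdF4.D.Idx K) = u₁ * h * relF4.nWordU J * x := by
  have hPB := f4BN_B (K := K) m hK
  have hUB : cdF4.D.posUnipotent K ≤ cdF4.D.borelSubgroup K := le_sup_left
  have hHB : cdF4.D.diagonalSubgroup K ≤ cdF4.D.borelSubgroup K := le_sup_right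
  rcases mem_parabolic_singleton (f4BN m hK) (f4s_mem_S m hK J hJ) _ hg with h2 | h2
  · left
    rw [hPB, Subgroup.mem_subgroupOf] at h2
    exact h2.1
  · right
    obtain ⟨b1, hb1, b2, hb2, e⟩ := mem_doubleCoset.mp h2
    rw [SetLike.mem_coe, hPB, Subgroup.mem_subgroupOf] at hb1 hb2
    have e' : (g : GL cdF4.D.Idx K) = (b1 : GL cdF4.D.Idx K) * relF4.nWordU J * (b2 : GL cdF4.D.Idx K) :=
      congrArg Subtype.val e
    obtain ⟨u₁, hu₁, h, hh, i, u, hu, e2⟩ := f4_normal_form m hK g g.2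
    have hJlt := wJ_lt J hJ
    have hniN : relF4.nWordU (F := K) J ∈ cdF4.D.monomialSubgroup K := relF4.nWordU_mem J hJlt
    have hnΩN : relF4.nWordU (F := K) (wOf i) ∈ cdF4.D.monomialSubgroup K := relF4.nWordU_mem _ (wOf_lt i)
    have hb : u₁ * h ∈ cdF4.D.borelSubgroup K ⊓ tF4 K (2 ^ m) :=
      ⟨Subgroup.mul_mem _ (hUB hu₁.1) (hHB hh.1), Subgroup.mul_mem _ hu₁.2 hh.2⟩
    have key := uhypF4.monomial_coset_unique (F := K) bnF4 (b1 : GL cdF4.D.Idx K) (b2 : GL cdF4.D.Idx K) (u₁ * h) u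
      (relF4.nWordU J) (relF4.nWordU (wOf i)) hb1.1 hb2.1 hb.1 (hUB (uMinus_le_posUnipotent cdF4.D _ hu.1))
      hniN hnΩN (by rw [← e', e2])
    have hperm : permOf (wOf i) = permOf J := by
      rw [permOf_eq_iff]
      intro s hs
      exact relF4.reflW_eq_of_coset (F := K) bnF4.dec (wOf i) J (wOf_lt i) hJlt
        (relF4.nWordU (F := K) J * ((relF4.nWordU (F := K) J)⁻¹ * relF4.nWordU (F := K) (wOf i)) *
          (relF4.nWordU (F := K) J)⁻¹) (monoF4.conj_mem _ hniN _ key) (by group) s hs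
    obtain ⟨j, hj⟩ := exists_wOf_eq J hJ
    have hij : i = j := wOf_inj i j (by rw [hperm, hj])
    subst hij
    rw [hj] at hu e2
    exact ⟨u₁, hu₁, h, hh, u, ⟨hu.1, (tF4_le_fixF m hK hu.2).2⟩, e2⟩

theorem f4_parabolic_cases (m : ℕ) (hK : Fintype.card K = 2 ^ (2 * m + 1)) (J : List ℕ) (hJ : J ∈ [wJ1, wJ2])
    (g : ↥(tF4 K (2 ^ m))) (hg : g ∈ (f4BN m hK).parabolic {f4s m J hJ}) :
    (g : GL cdF4.D.Idx K) ∈ cdF4.D.borelSubgroup K ∨
      ∃ b ∈ cdF4.D.borelSubgroup K ⊓ tF4 K (2 ^ m), ∃ x ∈ (f4Tw (K := K) m).fixU J,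
        (g : GL cdF4.D.Idx K) = b * relF4.nWordU J * x := by
  rcases f4_parabolic_cases' m hK J hJ g hg with h | ⟨u₁, hu₁, h, hh, x, hx, e⟩
  · exact Or.inl h
  · exact Or.inr ⟨u₁ * h, ⟨Subgroup.mul_mem _ (Subgroup.mem_sup_left hu₁.1) (Subgroup.mem_sup_right hh.1),
      Subgroup.mul_mem _ hu₁.2 hh.2⟩, x, hx, e⟩

theorem negUnipotent_pow_32 (v : GL cdF4.D.Idx K) (hv : v ∈ cdF4.D.negUnipotent K) : v ^ 32 = 1 := by
  have hmap := relF4.opposition_word (F := K) (altWord 8) (altWord 8) (altWord_lt 8) f4_opp8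
  rw [← hmap] at hv
  obtain ⟨x, hx, rfl⟩ := hv
  rw [← map_pow, posUnipotent_pow_32 x hx, map_one]

theorem fixU_wJ_mem (m : ℕ) (hK : Fintype.card K = 2 ^ (2 * m + 1)) (J : List ℕ) (hJ : J ∈ [wJ1, wJ2])
    (g : GL cdF4.D.Idx K) (hg : g ∈ (f4Tw (K := K) m).fixU J) : g ∈ tF4 K (2 ^ m) := by
  obtain ⟨j, hj⟩ := exists_wOf_eq J hJ
  rw [← hj] at hg
  exact fixU_wOf_mem m hK j g hg

theorem fixU_wJ_mem_borel (m : ℕ) (hK : Fintype.card K = 2 ^ (2 * m + 1)) (J : List ℕ) (hJ : J ∈ [wJ1, wJ2])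
    (g : GL cdF4.D.Idx K) (hg : g ∈ (f4Tw (K := K) m).fixU J) :
    g ∈ cdF4.D.borelSubgroup K ⊓ tF4 K (2 ^ m) :=
  ⟨Subgroup.mem_sup_left (uMinus_le_posUnipotent cdF4.D _ hg.1), fixU_wJ_mem m hK J hJ g hg⟩

theorem fixU_wJ_conj_neg (J : List ℕ) (hJ : J ∈ [wJ1, wJ2]) (m : ℕ)
    (g : GL cdF4.D.Idx K) (hg : g ∈ (f4Tw (K := K) m).fixU J) :
    relF4.nWordU (F := K) J * g * (relF4.nWordU (F := K) J)⁻¹ ∈ cdF4.D.negUnipotent K :=
  ((mem_uMinus_iff atHypF4 J (wJ_lt J hJ) g).mp hg.1).2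

/-- the intersection of `V¹` with a minimal parabolic subgroup -/
theorem f4_neg_inf_parabolic (m : ℕ) (hK : Fintype.card K = 2 ^ (2 * m + 1)) (J : List ℕ) (hJ : J ∈ [wJ1, wJ2])
    (a : ℕ) (ha : 1 ≤ a) (hcard : Nat.card ((f4Tw (K := K) m).fixU J) = 2 ^ a)
    (v : ↥(tF4 K (2 ^ m))) (hv : (v : GL cdF4.D.Idx K) ∈ cdF4.D.negUnipotent K)
    (hvP : v ∈ (f4BN m hK).parabolic {f4s m J hJ}) :
    ∃ x ∈ (f4Tw (K := K) m).fixU J,
      (v : GL cdF4.D.Idx K) = relF4.nWordU (F := K) J * x * (relF4.nWordU (F := K) J)⁻¹ := by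
  classical
  set P := (f4BN m hK).parabolic {f4s m J hJ} with hP
  set Bs := (f4BN m hK).B with hBs
  have hBP : Bs ≤ P := le_sup_left
  have hsP : f4s m J hJ ∈ P := Subgroup.mem_sup_right (Subgroup.subset_closure rfl)
  set Y : Subgroup ↥(tF4 K (2 ^ m)) := P ⊓ (cdF4.D.negUnipotent K).subgroupOf (tF4 K (2 ^ m)) with hY
  have hbn := (relF4.borel_inf_neg (F := K) bnF4.dec bnF4.mono.tri f4NegTri).1
  have hmemB : ∀ b : ↥(tF4 K (2 ^ m)), b ∈ Bs ↔ (b : GL cdF4.D.Idx K) ∈ cdF4.D.borelSubgroup K := by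
    intro b
    rw [hBs, f4BN_B, Subgroup.mem_subgroupOf]
    exact ⟨fun h => h.1, fun h => ⟨h, b.2⟩⟩
  let xG : (f4Tw (K := K) m).fixU J → ↥(tF4 K (2 ^ m)) := fun x => ⟨x.1, fixU_wJ_mem m hK J hJ x.1 x.2⟩
  have hxB : ∀ x, xG x ∈ Bs := fun x => (hmemB _).mpr (fixU_wJ_mem_borel m hK J hJ x.1 x.2).1
  -- the product of `Y` and `B¹`
  have h1 : Nat.card Y * Nat.card Bs ≤ Nat.card P := by
    rw [← Nat.card_prod]
    apply Nat.card_le_card_of_injective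
      (fun p : Y × Bs => (⟨p.1.1 * p.2.1, P.mul_mem p.1.2.1 (hBP p.2.2)⟩ : P))
    rintro ⟨⟨y, hy⟩, ⟨b, hb⟩⟩ ⟨⟨y', hy'⟩, ⟨b', hb'⟩⟩ e
    have e' : y * b = y' * b' := congrArg Subtype.val e
    have e1 : y'⁻¹ * y = b' * b⁻¹ := by
      rw [inv_mul_eq_iff_eq_mul, ← mul_assoc, ← e', mul_inv_cancel_right]
    have h2 : ((y'⁻¹ * y : ↥(tF4 K (2 ^ m))) : GL cdF4.D.Idx K) ∈
        cdF4.D.borelSubgroup K ⊓ cdF4.D.negUnipotent K := by
      refine ⟨?_, ?_⟩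
      · rw [e1]
        exact (hmemB _).mp (Bs.mul_mem hb' (Bs.inv_mem hb))
      · have h8 : y'⁻¹ * y ∈ (cdF4.D.negUnipotent K).subgroupOf (tF4 K (2 ^ m)) :=
          (Y.mul_mem (Y.inv_mem hy') hy).2
        exact Subgroup.mem_subgroupOf.mp h8
    rw [hbn, Subgroup.mem_bot] at h2
    have h3 : y'⁻¹ * y = 1 := Subtype.ext h2
    have h4 : y = y' := (inv_mul_eq_one.mp h3).symm
    subst h4
    have h5 : b = b' := mul_left_cancel e'
    subst h5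
    rfl
  -- the elements of the parabolic subgroup
  have h2 : Nat.card P ≤ Nat.card Bs + Nat.card Bs * Nat.card ((f4Tw (K := K) m).fixU J) := by
    rw [← Nat.card_prod, ← Nat.card_sum]
    apply Nat.card_le_card_of_surjective
      (Sum.elim (fun b : Bs => (⟨b.1, hBP b.2⟩ : P))
        (fun p : Bs × (f4Tw (K := K) m).fixU J =>
          (⟨p.1.1 * f4s m J hJ * xG p.2, P.mul_mem (P.mul_mem (hBP p.1.2) hsP) (hBP (hxB p.2))⟩ : P)))
    rintro ⟨g, hg⟩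
    rcases f4_parabolic_cases m hK J hJ g hg with h | ⟨b, hb, x, hx, e⟩
    · exact ⟨Sum.inl ⟨g, (hmemB g).mpr h⟩, rfl⟩
    · refine ⟨Sum.inr (⟨⟨b, hb.2⟩, (hmemB _).mpr hb.1⟩, ⟨x, hx⟩), ?_⟩
      apply Subtype.ext
      apply Subtype.ext
      exact e.symm
  -- `Y` is a `2`-group
  have h3 : ∃ k, Nat.card Y = 2 ^ k := by
    haveI : Fact (Nat.Prime 2) := ⟨by norm_num⟩
    have hp : IsPGroup 2 Y := by
      intro y
      refine ⟨5, ?_⟩
      apply Subtype.ext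
      apply Subtype.ext
      have h5 := negUnipotent_pow_32 (y.1 : GL cdF4.D.Idx K) (Subgroup.mem_subgroupOf.mp y.2.2)
      simpa using h5
    exact hp.exists_card_eq
  -- the conjugates of the fixed points
  let ι : (f4Tw (K := K) m).fixU J → Y := fun x =>
    ⟨f4s m J hJ * xG x * (f4s m J hJ)⁻¹, P.mul_mem (P.mul_mem hsP (hBP (hxB x))) (P.inv_mem hsP),
      Subgroup.mem_subgroupOf.mpr (fixU_wJ_conj_neg J hJ m x.1 x.2)⟩
  have hι : Function.Injective ι := by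
    intro x x' e
    have e1 : f4s m J hJ * xG x * (f4s m J hJ)⁻¹ = f4s m J hJ * xG x' * (f4s m J hJ)⁻¹ :=
      congrArg Subtype.val e
    have e2 : xG x = xG x' := mul_left_cancel (mul_right_cancel e1)
    have e3 : ((xG x : ↥(tF4 K (2 ^ m))) : GL cdF4.D.Idx K) = ((xG x' : ↥(tF4 K (2 ^ m))) : GL cdF4.D.Idx K) :=
      congrArg Subtype.val e2
    exact Subtype.ext e3
  have h4 : Nat.card ((f4Tw (K := K) m).fixU J) ≤ Nat.card Y := Nat.card_le_card_of_injective ι hι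
  obtain ⟨k, hk⟩ := h3
  have hBpos : 0 < Nat.card Bs := Nat.card_pos
  have h5 : Nat.card Y ≤ 1 + 2 ^ a := by
    have h6 := h1.trans h2
    rw [hcard] at h6
    have h7 : Nat.card Y * Nat.card Bs ≤ (1 + 2 ^ a) * Nat.card Bs := by
      calc Nat.card Y * Nat.card Bs ≤ Nat.card Bs + Nat.card Bs * 2 ^ a := h6
        _ = (1 + 2 ^ a) * Nat.card Bs := by ring
    exact Nat.le_of_mul_le_mul_right h7 hBpos
  have hka : k = a := by
    rw [hcard, hk] at h4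
    rw [hk] at h5
    have h6 : a ≤ k := (Nat.pow_le_pow_iff_right (by norm_num)).mp h4
    by_contra hne
    have h7 : a + 1 ≤ k := by omega
    have h8 : 2 ^ (a + 1) ≤ 2 ^ k := Nat.pow_le_pow_right (by norm_num) h7
    have h9 : 2 ≤ 2 ^ a := by
      calc 2 = 2 ^ 1 := by norm_num
        _ ≤ 2 ^ a := Nat.pow_le_pow_right (by norm_num) ha
    rw [pow_succ] at h8
    omega
  have hbij : Function.Bijective ι := by
    apply Function.Injective.bijective_of_nat_card_le hι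
    rw [hk, hka, hcard]
  obtain ⟨x, hx⟩ := hbij.2 ⟨v, hvP, Subgroup.mem_subgroupOf.mpr hv⟩
  refine ⟨x.1, x.2, ?_⟩
  have e := congrArg (fun y : Y => ((y : ↥(tF4 K (2 ^ m))) : GL cdF4.D.Idx K)) hx
  exact e.symm

end

end Cfsg.Agent.Lib.Helper3.RF4
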