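import Mathlib
import Cfsg.Prelude.Def_ChevStructure
import Cfsg.Prelude.Def_KGroupFacts
import Cfsg.Agent.Lib.Helper3.F4Out3
set_option autoImplicit false
set_option linter.unusedSectionVars false
set_option linter.style.haveILetI false
set_option maxRecDepth 1000000
open Cfsg Cfsg.Lie

/-!
Automorphisms of the twisted groups of type F4, part 4: an automorphism preserving `U¹` and `V¹` preserves the
four root subgroups of the fundamental classes.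
-/

namespace Cfsg.Agent.Lib.Helper3.RF4

open Cfsg.Agent.Lib.Helper3.ChevM Cfsg.Agent.Lib.Helper3.ChevSp Cfsg.Agent.Lib.Helper3.ChevAt
open Cfsg.Agent.Lib.Helper3 ChevU ChevT
open Cfsg.Agent.Lib.Helper3.ChevAut Cfsg.Agent.Lib.Helper3.TwAut Cfsg.Agent.Lib.Helper1
open DoubleCoset

section
variable {K : Type*} [Field K] [CharP K 2]

theorem conj_n0_pairN (θ : ℕ) (t : K) :
    relF4.nWordU (F := K) (altWord 8) * pairN θ t * (relF4.nWordU (F := K) (altWord 8))⁻¹ = pairP θ t := by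
  have hl := altWord_lt 8
  have c1 := conj_word_xU2 (K := K) (altWord 8) hl 14 (by decide) (t ^ θ)
  have c2 := conj_word_xU2 (K := K) (altWord 8) hl 23 (by decide) t
  have r1 : reflW relF4.refl (altWord 8) 14 = 33 := by decide +kernel
  have r2 : reflW relF4.refl (altWord 8) 23 = 24 := by decide +kernel
  rw [r1] at c1
  rw [r2] at c2
  unfold pairP pairN
  rw [← c1, ← c2]
  group

theorem conj_n0_clsN (θ : ℕ) (t u : K) :
    relF4.nWordU (F := K) (altWord 8) * clsN θ t u * (relF4.nWordU (F := K) (altWord 8))⁻¹ = clsP θ t u := by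
  have hl := altWord_lt 8
  have c1 := conj_word_xU2 (K := K) (altWord 8) hl 20 (by decide) (t ^ θ)
  have c2 := conj_word_xU2 (K := K) (altWord 8) hl 22 (by decide) t
  have c3 := conj_word_xU2 (K := K) (altWord 8) hl 19 (by decide) (t ^ (θ + 1) + u)
  have c4 := conj_word_xU2 (K := K) (altWord 8) hl 17 (by decide) (u ^ (2 * θ))
  have r1 : reflW relF4.refl (altWord 8) 20 = 27 := by decide +kernel
  have r2 : reflW relF4.refl (altWord 8) 22 = 25 := by decide +kernel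
  have r3 : reflW relF4.refl (altWord 8) 19 = 28 := by decide +kernel
  have r4 : reflW relF4.refl (altWord 8) 17 = 30 := by decide +kernel
  rw [r1] at c1
  rw [r2] at c2
  rw [r3] at c3
  rw [r4] at c4
  rw [clsP_eq, clsN_eq, ← c1, ← c2, ← c3, ← c4]
  group

end

section
variable {G₀ : Type*} [Group G₀] [Finite G₀] {Γ : Subgroup G₀}

/-- conjugating an automorphism by an element interchanging two subgroups -/
theorem pres_conj_swap (X Y : Subgroup G₀) (hXΓ : X ≤ Γ) (_hYΓ : Y ≤ Γ) (n₀ : ↥Γ)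
    (h1 : ∀ x ∈ X, (n₀ : G₀) * x * (n₀ : G₀)⁻¹ ∈ Y)
    (h2 : ∀ y ∈ Y, ∃ x ∈ X, (n₀ : G₀) * x * (n₀ : G₀)⁻¹ = y) (α : MulAut ↥Γ) (hY : Pres α Y) :
    Pres (MulAut.conj n₀⁻¹ * (α * MulAut.conj n₀)) X := by
  intro x hx
  have hxΓ := hXΓ hx
  have hc : (n₀ : G₀) * x * (n₀ : G₀)⁻¹ ∈ Γ :=
    Subgroup.mul_mem _ (Subgroup.mul_mem _ n₀.2 hxΓ) (Subgroup.inv_mem _ n₀.2)
  rw [ex_mul_aut _ _ hxΓ, ex_mul_aut _ _ hxΓ, ex_conj _ hxΓ, ex_conj _ (ex_mem α hc)]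
  obtain ⟨x', hx', e⟩ := h2 _ (hY _ (h1 x hx))
  rw [← e]
  have e2 : ((n₀⁻¹ : ↥Γ) : G₀) * ((n₀ : G₀) * x' * (n₀ : G₀)⁻¹) * ((n₀⁻¹ : ↥Γ) : G₀)⁻¹ = x' := by
    simp only [Subgroup.coe_inv]
    group
  rw [e2]
  exact hx'

theorem ex_conj_swap (n₀ : ↥Γ) (α : MulAut ↥Γ) (g : G₀) (hg : g ∈ Γ) :
    ex (MulAut.conj n₀⁻¹ * (α * MulAut.conj n₀)) g =
      (n₀ : G₀)⁻¹ * ex α ((n₀ : G₀) * g * (n₀ : G₀)⁻¹) * (n₀ : G₀) := by
  have hc : (n₀ : G₀) * g * (n₀ : G₀)⁻¹ ∈ Γ :=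
    Subgroup.mul_mem _ (Subgroup.mul_mem _ n₀.2 hg) (Subgroup.inv_mem _ n₀.2)
  rw [ex_mul_aut _ _ hg, ex_mul_aut _ _ hg, ex_conj _ hg, ex_conj _ (ex_mem α hc)]
  simp only [Subgroup.coe_inv, inv_inv]

end

section
variable {K : Type*} [Field K] [Fintype K] [CharP K 2]

theorem f4_n0_conj_neg (m : ℕ) (v : GL cdF4.D.Idx K) (hv : v ∈ cdF4.D.negUnipotent K ⊓ tF4 K (2 ^ m)) :
    relF4.nWordU (F := K) (altWord 8) * v * (relF4.nWordU (F := K) (altWord 8))⁻¹ ∈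
      cdF4.D.posUnipotent K ⊓ tF4 K (2 ^ m) := by
  have hmap := map_conj_neg_eq_pos (K := K) atHypF4 1 (Subgroup.one_mem _) (altWord 8) (altWord_lt 8) f4_alt8_neg
  rw [one_mul] at hmap
  refine ⟨?_, Subgroup.mul_mem _ (Subgroup.mul_mem _ (f4_n0_mem m) hv.2) (Subgroup.inv_mem _ (f4_n0_mem m))⟩
  rw [← hmap]; exact ⟨v, hv.1, rfl⟩

theorem f4_n0_conj_neg_surj (m : ℕ) (u : GL cdF4.D.Idx K) (hu : u ∈ cdF4.D.posUnipotent K ⊓ tF4 K (2 ^ m)) :
    ∃ v ∈ cdF4.D.negUnipotent K ⊓ tF4 K (2 ^ m),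
      relF4.nWordU (F := K) (altWord 8) * v * (relF4.nWordU (F := K) (altWord 8))⁻¹ = u := by
  have hmap := map_conj_neg_eq_pos (K := K) atHypF4 1 (Subgroup.one_mem _) (altWord 8) (altWord_lt 8) f4_alt8_neg
  rw [one_mul] at hmap
  have hu1 := hu.1
  rw [← hmap] at hu1
  obtain ⟨x, hx, e⟩ := hu1
  change relF4.nWordU (F := K) (altWord 8) * x * (relF4.nWordU (F := K) (altWord 8))⁻¹ = u at e
  refine ⟨x, ⟨hx, ?_⟩, e⟩
  have e2 : x = (relF4.nWordU (F := K) (altWord 8))⁻¹ * u * relF4.nWordU (F := K) (altWord 8) := by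
    rw [← e]; group
  rw [e2]
  exact Subgroup.mul_mem _ (Subgroup.mul_mem _ (Subgroup.inv_mem _ (f4_n0_mem m)) hu.2) (f4_n0_mem m)

/-- the representative of the longest element as an element of the twisted group -/
def f4n0 (K : Type*) [Field K] [Fintype K] [CharP K 2] (m : ℕ) : ↥(tF4 K (2 ^ m)) :=
  ⟨relF4.nWordU (F := K) (altWord 8), f4_n0_mem m⟩

theorem f4n0_coe (m : ℕ) : ((f4n0 K m : ↥(tF4 K (2 ^ m))) : GL cdF4.D.Idx K) = relF4.nWordU (F := K) (altWord 8) :=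
  rfl

/-- the conjugate of an automorphism preserving `U¹` and `V¹` by the representative of the longest element -/
theorem f4_pres_swap (m : ℕ) (α : MulAut ↥(tF4 K (2 ^ m)))
    (hU : Pres α (cdF4.D.posUnipotent K ⊓ tF4 K (2 ^ m)))
    (hV : Pres α (cdF4.D.negUnipotent K ⊓ tF4 K (2 ^ m))) :
    Pres (MulAut.conj (f4n0 K m)⁻¹ * (α * MulAut.conj (f4n0 K m))) (cdF4.D.posUnipotent K ⊓ tF4 K (2 ^ m)) ∧
    Pres (MulAut.conj (f4n0 K m)⁻¹ * (α * MulAut.conj (f4n0 K m))) (cdF4.D.negUnipotent K ⊓ tF4 K (2 ^ m)) := by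
  constructor
  · exact pres_conj_swap (cdF4.D.posUnipotent K ⊓ tF4 K (2 ^ m)) (cdF4.D.negUnipotent K ⊓ tF4 K (2 ^ m))
      inf_le_right inf_le_right (f4n0 K m) (fun x hx => f4_n0_conj_pos m x hx) (fun y hy => f4_n0_conj_surj m y hy)
      α hV
  · exact pres_conj_swap (cdF4.D.negUnipotent K ⊓ tF4 K (2 ^ m)) (cdF4.D.posUnipotent K ⊓ tF4 K (2 ^ m))
      inf_le_right inf_le_right (f4n0 K m) (fun x hx => f4_n0_conj_neg m x hx)
      (fun y hy => f4_n0_conj_neg_surj m y hy) α hU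

/-- there is no injective map from the conjugates of the fixed points of the second class to those of the first -/
theorem f4_no_inj (m : ℕ) (hK : Fintype.card K = 2 ^ (2 * m + 1)) (φ : GL cdF4.D.Idx K → GL cdF4.D.Idx K)
    (hinj : ∀ g g' : GL cdF4.D.Idx K, g ∈ tF4 K (2 ^ m) → g' ∈ tF4 K (2 ^ m) → φ g = φ g' → g = g')
    (h : ∀ x ∈ (f4Tw (K := K) m).fixU wJ2, ∃ x' ∈ (f4Tw (K := K) m).fixU wJ1,
      φ (relF4.nWordU (F := K) wJ2 * x * (relF4.nWordU (F := K) wJ2)⁻¹) =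
        relF4.nWordU (F := K) wJ1 * x' * (relF4.nWordU (F := K) wJ1)⁻¹) : False := by
  classical
  have hJ2 : wJ2 ∈ [wJ1, wJ2] := by simp
  choose! c hc1 hc2 using h
  have hci : Function.Injective (fun x : (f4Tw (K := K) m).fixU wJ2 =>
      (⟨c x.1, hc1 x.1 x.2⟩ : (f4Tw (K := K) m).fixU wJ1)) := by
    intro x y e
    have e1 : c x.1 = c y.1 := congrArg Subtype.val e
    have e2 := hc2 x.1 x.2
    rw [e1, ← hc2 y.1 y.2] at e2
    have hxG := fixU_wJ_mem m hK wJ2 hJ2 x.1 x.2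
    have hyG := fixU_wJ_mem m hK wJ2 hJ2 y.1 y.2
    have hnG := wJ_mem_tF4 (K := K) m wJ2 hJ2
    have e3 := hinj _ _ (Subgroup.mul_mem _ (Subgroup.mul_mem _ hnG hxG) (Subgroup.inv_mem _ hnG))
      (Subgroup.mul_mem _ (Subgroup.mul_mem _ hnG hyG) (Subgroup.inv_mem _ hnG)) e2
    exact Subtype.ext (mul_left_cancel (mul_right_cancel e3))
  have h1 := Nat.card_le_card_of_injective _ hci
  rw [card_fixU_wJ1 m hK, card_fixU_wJ2 m hK] at h1
  have h2 : 2 ≤ 2 ^ (2 * m + 1) := by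
    calc 2 = 2 ^ 1 := by norm_num
      _ ≤ 2 ^ (2 * m + 1) := Nat.pow_le_pow_right (by norm_num) (by omega)
  nlinarith

theorem card_fixU_wJ_pow (m : ℕ) (hK : Fintype.card K = 2 ^ (2 * m + 1)) (J : List ℕ) (hJ : J ∈ [wJ1, wJ2]) :
    ∃ a, 1 ≤ a ∧ Nat.card ((f4Tw (K := K) m).fixU J) = 2 ^ a := by
  simp only [List.mem_cons, List.not_mem_nil, or_false] at hJ
  rcases hJ with rfl | rfl
  · exact ⟨2 * m + 1, by omega, card_fixU_wJ1 m hK⟩
  · exact ⟨(2 * m + 1) * 2, by omega, by rw [card_fixU_wJ2 m hK, pow_mul]⟩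

/-- an automorphism preserving `U¹` and `V¹` maps the conjugates of the fixed points of a class to those of some
class -/
theorem f4_neg_class_image (m : ℕ) (hK : Fintype.card K = 2 ^ (2 * m + 1)) (α : MulAut ↥(tF4 K (2 ^ m)))
    (hU : Pres α (cdF4.D.posUnipotent K ⊓ tF4 K (2 ^ m)))
    (hV : Pres α (cdF4.D.negUnipotent K ⊓ tF4 K (2 ^ m))) (J : List ℕ) (hJ : J ∈ [wJ1, wJ2]) :
    ∃ J', ∃ hJ' : J' ∈ [wJ1, wJ2],
      ((f4BN m hK).parabolic {f4s m J hJ}).map α.toMonoidHom = (f4BN m hK).parabolic {f4s m J' hJ'} ∧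
      ∀ x ∈ (f4Tw (K := K) m).fixU J, ∃ x' ∈ (f4Tw (K := K) m).fixU J',
        ex α (relF4.nWordU (F := K) J * x * (relF4.nWordU (F := K) J)⁻¹) =
          relF4.nWordU (F := K) J' * x' * (relF4.nWordU (F := K) J')⁻¹ := by
  have hB := f4_pres_borel m hK α hU
  obtain ⟨t, ht, hmap⟩ := exists_map_parabolic_singleton (f4BN m hK) α (f4_map_B_eq m hK α hB)
    (f4s_mem_S m hK J hJ)
  obtain ⟨J', hJ', rfl⟩ := exists_f4s_of_mem_S m hK t ht
  refine ⟨J', hJ', hmap, ?_⟩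
  intro x hx
  have hnG := wJ_mem_tF4 (K := K) m J hJ
  have hxG := fixU_wJ_mem m hK J hJ x hx
  have hyG : relF4.nWordU (F := K) J * x * (relF4.nWordU (F := K) J)⁻¹ ∈ tF4 K (2 ^ m) :=
    Subgroup.mul_mem _ (Subgroup.mul_mem _ hnG hxG) (Subgroup.inv_mem _ hnG)
  have hyV : relF4.nWordU (F := K) J * x * (relF4.nWordU (F := K) J)⁻¹ ∈
      cdF4.D.negUnipotent K ⊓ tF4 K (2 ^ m) := ⟨fixU_wJ_conj_neg J hJ m x hx, hyG⟩
  have hyP : (⟨_, hyG⟩ : ↥(tF4 K (2 ^ m))) ∈ (f4BN m hK).parabolic {f4s m J hJ} := by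
    have hBP : (f4BN m hK).B ≤ (f4BN m hK).parabolic {f4s m J hJ} := le_sup_left
    have hsP : f4s m J hJ ∈ (f4BN m hK).parabolic {f4s m J hJ} :=
      Subgroup.mem_sup_right (Subgroup.subset_closure rfl)
    have hxB : (⟨x, hxG⟩ : ↥(tF4 K (2 ^ m))) ∈ (f4BN m hK).B := by
      rw [f4BN_B, Subgroup.mem_subgroupOf]
      exact fixU_wJ_mem_borel m hK J hJ x hx
    have e : (⟨_, hyG⟩ : ↥(tF4 K (2 ^ m))) = f4s m J hJ * ⟨x, hxG⟩ * (f4s m J hJ)⁻¹ := rfl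
    rw [e]
    exact Subgroup.mul_mem _ (Subgroup.mul_mem _ hsP (hBP hxB)) (Subgroup.inv_mem _ hsP)
  have h1 : α ⟨_, hyG⟩ ∈ (f4BN m hK).parabolic {f4s m J' hJ'} := by
    rw [← hmap]
    exact ⟨_, hyP, rfl⟩
  have h2 : ((α ⟨_, hyG⟩ : ↥(tF4 K (2 ^ m))) : GL cdF4.D.Idx K) ∈ cdF4.D.negUnipotent K := by
    have := (hV _ hyV).1
    rwa [ex_of_mem α hyG] at this
  obtain ⟨a, ha, hcard⟩ := card_fixU_wJ_pow m hK J' hJ'
  obtain ⟨x', hx', e⟩ := f4_neg_inf_parabolic m hK J' hJ' a ha hcard _ h2 h1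
  exact ⟨x', hx', by rw [ex_of_mem α hyG]; exact e⟩

/-- an automorphism preserving `U¹` and `V¹` preserves the conjugates of the fixed points of each class -/
theorem f4_neg_class_same (m : ℕ) (hK : Fintype.card K = 2 ^ (2 * m + 1)) (α : MulAut ↥(tF4 K (2 ^ m)))
    (hU : Pres α (cdF4.D.posUnipotent K ⊓ tF4 K (2 ^ m)))
    (hV : Pres α (cdF4.D.negUnipotent K ⊓ tF4 K (2 ^ m))) (J : List ℕ) (hJ : J ∈ [wJ1, wJ2]) :
    ∀ x ∈ (f4Tw (K := K) m).fixU J, ∃ x' ∈ (f4Tw (K := K) m).fixU J,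
      ex α (relF4.nWordU (F := K) J * x * (relF4.nWordU (F := K) J)⁻¹) =
        relF4.nWordU (F := K) J * x' * (relF4.nWordU (F := K) J)⁻¹ := by
  have hJ1 : wJ1 ∈ [wJ1, wJ2] := by simp
  have hJ2 : wJ2 ∈ [wJ1, wJ2] := by simp
  have hinjα : ∀ g g' : GL cdF4.D.Idx K, g ∈ tF4 K (2 ^ m) → g' ∈ tF4 K (2 ^ m) → ex α g = ex α g' → g = g' :=
    fun g g' hg hg' e => ex_injOn α hg hg' e
  -- the second class
  obtain ⟨J₂, hJ₂, hmap₂, himg₂⟩ := f4_neg_class_image m hK α hU hV wJ2 hJ2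
  have e₂ : J₂ = wJ2 := by
    have := hJ₂
    simp only [List.mem_cons, List.not_mem_nil, or_false] at this
    rcases this with rfl | rfl
    · exact (f4_no_inj m hK (ex α) hinjα himg₂).elim
    · rfl
  subst e₂
  -- the first class
  obtain ⟨J₁, hJ₁, hmap₁, himg₁⟩ := f4_neg_class_image m hK α hU hV wJ1 hJ1
  have e₁ : J₁ = wJ1 := by
    have := hJ₁
    simp only [List.mem_cons, List.not_mem_nil, or_false] at this
    rcases this with rfl | rfl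
    · rfl
    · exfalso
      have hPP : (f4BN m hK).parabolic {f4s m wJ1 hJ1} = (f4BN m hK).parabolic {f4s m wJ2 hJ2} := by
        apply Subgroup.map_injective (f := α.toMonoidHom) α.injective
        rw [hmap₁, hmap₂]
      apply f4_no_inj m hK id (fun g g' _ _ e => e)
      intro x hx
      have hnG := wJ_mem_tF4 (K := K) m wJ2 hJ2
      have hxG := fixU_wJ_mem m hK wJ2 hJ2 x hx
      have hyG : relF4.nWordU (F := K) wJ2 * x * (relF4.nWordU (F := K) wJ2)⁻¹ ∈ tF4 K (2 ^ m) :=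
        Subgroup.mul_mem _ (Subgroup.mul_mem _ hnG hxG) (Subgroup.inv_mem _ hnG)
      have hyP : (⟨_, hyG⟩ : ↥(tF4 K (2 ^ m))) ∈ (f4BN m hK).parabolic {f4s m wJ1 hJ1} := by
        rw [hPP]
        have hBP : (f4BN m hK).B ≤ (f4BN m hK).parabolic {f4s m wJ2 hJ2} := le_sup_left
        have hsP : f4s m wJ2 hJ2 ∈ (f4BN m hK).parabolic {f4s m wJ2 hJ2} :=
          Subgroup.mem_sup_right (Subgroup.subset_closure rfl)
        have hxB : (⟨x, hxG⟩ : ↥(tF4 K (2 ^ m))) ∈ (f4BN m hK).B := by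
          rw [f4BN_B, Subgroup.mem_subgroupOf]
          exact fixU_wJ_mem_borel m hK wJ2 hJ2 x hx
        have e : (⟨_, hyG⟩ : ↥(tF4 K (2 ^ m))) = f4s m wJ2 hJ2 * ⟨x, hxG⟩ * (f4s m wJ2 hJ2)⁻¹ := rfl
        rw [e]
        exact Subgroup.mul_mem _ (Subgroup.mul_mem _ hsP (hBP hxB)) (Subgroup.inv_mem _ hsP)
      obtain ⟨a, ha, hcard⟩ := card_fixU_wJ_pow m hK wJ1 hJ1
      exact f4_neg_inf_parabolic m hK wJ1 hJ1 a ha hcard _ (fixU_wJ_conj_neg wJ2 hJ2 m x hx) hyP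
  subst e₁
  have := hJ
  simp only [List.mem_cons, List.not_mem_nil, or_false] at this
  rcases this with rfl | rfl
  · exact himg₁
  · exact himg₂

/-- an automorphism preserving `U¹` and `V¹` preserves the root subgroup of the negative of the first class -/
theorem f4_pres_pairN (m : ℕ) (hK : Fintype.card K = 2 ^ (2 * m + 1)) (α : MulAut ↥(tF4 K (2 ^ m)))
    (hU : Pres α (cdF4.D.posUnipotent K ⊓ tF4 K (2 ^ m)))
    (hV : Pres α (cdF4.D.negUnipotent K ⊓ tF4 K (2 ^ m))) (t : K) :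
    ∃ t' : K, ex α (pairN (2 ^ m) t) = pairN (2 ^ m) t' := by
  have hJ1 : wJ1 ∈ [wJ1, wJ2] := by simp
  obtain ⟨x', hx', e⟩ := f4_neg_class_same m hK α hU hV wJ1 hJ1 (pairP (2 ^ m) t)
    ((fixU_wJ1 m hK _).mpr ⟨t, rfl⟩)
  obtain ⟨t', rfl⟩ := (fixU_wJ1 m hK _).mp hx'
  rw [conj_wJ1_pairP, conj_wJ1_pairP] at e
  exact ⟨t', e⟩

/-- an automorphism preserving `U¹` and `V¹` preserves the root subgroup of the negative of the second class -/
theorem f4_pres_clsN (m : ℕ) (hK : Fintype.card K = 2 ^ (2 * m + 1)) (α : MulAut ↥(tF4 K (2 ^ m)))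
    (hU : Pres α (cdF4.D.posUnipotent K ⊓ tF4 K (2 ^ m)))
    (hV : Pres α (cdF4.D.negUnipotent K ⊓ tF4 K (2 ^ m))) (t u : K) :
    ∃ t' u' : K, ex α (clsN (2 ^ m) t u) = clsN (2 ^ m) t' u' := by
  have hJ2 : wJ2 ∈ [wJ1, wJ2] := by simp
  obtain ⟨x', hx', e⟩ := f4_neg_class_same m hK α hU hV wJ2 hJ2 (clsP (2 ^ m) t u)
    ((fixU_wJ2 m hK _).mpr ⟨t, u, rfl⟩)
  obtain ⟨t', u', rfl⟩ := (fixU_wJ2 m hK _).mp hx'
  rw [conj_wJ2_clsP, conj_wJ2_clsP] at e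
  exact ⟨t', u', e⟩

/-- an automorphism preserving `U¹` and `V¹` preserves the root subgroup of the first class -/
theorem f4_pres_pairP (m : ℕ) (hK : Fintype.card K = 2 ^ (2 * m + 1)) (α : MulAut ↥(tF4 K (2 ^ m)))
    (hU : Pres α (cdF4.D.posUnipotent K ⊓ tF4 K (2 ^ m)))
    (hV : Pres α (cdF4.D.negUnipotent K ⊓ tF4 K (2 ^ m))) (t : K) :
    ∃ t' : K, ex α (pairP (2 ^ m) t) = pairP (2 ^ m) t' := by
  obtain ⟨hU', hV'⟩ := f4_pres_swap m α hU hV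
  obtain ⟨t', e⟩ := f4_pres_pairN m hK _ hU' hV' t
  rw [ex_conj_swap _ _ _ (pairN_mem_tF4 _ t), f4n0_coe, conj_n0_pairN] at e
  refine ⟨t', ?_⟩
  rw [← conj_n0_pairN (2 ^ m) t', ← e]
  group

/-- an automorphism preserving `U¹` and `V¹` preserves the root subgroup of the second class -/
theorem f4_pres_clsP (m : ℕ) (hK : Fintype.card K = 2 ^ (2 * m + 1)) (α : MulAut ↥(tF4 K (2 ^ m)))
    (hU : Pres α (cdF4.D.posUnipotent K ⊓ tF4 K (2 ^ m)))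
    (hV : Pres α (cdF4.D.negUnipotent K ⊓ tF4 K (2 ^ m))) (t u : K) :
    ∃ t' u' : K, ex α (clsP (2 ^ m) t u) = clsP (2 ^ m) t' u' := by
  obtain ⟨hU', hV'⟩ := f4_pres_swap m α hU hV
  obtain ⟨t', u', e⟩ := f4_pres_clsN m hK _ hU' hV' t u
  rw [ex_conj_swap _ _ _ (clsN_mem_tF4 _ t u), f4n0_coe, conj_n0_clsN] at e
  refine ⟨t', u', ?_⟩
  rw [← conj_n0_clsN (2 ^ m) t' u', ← e]
  group

end

end Cfsg.Agent.Lib.Helper3.RF4
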