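import Mathlib
import Cfsg.Prelude.Def_ChevStructure
import Cfsg.Prelude.Def_KGroupFacts
import Cfsg.Agent.Lib.Helper3.F4Out4
import Cfsg.Agent.Lib.Helper3.F4Exp
set_option autoImplicit false
set_option linter.unusedSectionVars false
set_option linter.style.haveILetI false
set_option maxRecDepth 1000000
open Cfsg Cfsg.Lie

/-!
The cells of the twisted group of type F4, part 1: uniqueness of the cell, the decomposition of the Borel subgroup
and the multiplication of a cell by a generator when the lengths add.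
-/

namespace Cfsg.Agent.Lib.Helper3.RF4

open Cfsg.Agent.Lib.Helper3.ChevM Cfsg.Agent.Lib.Helper3.ChevSp Cfsg.Agent.Lib.Helper3.ChevAt
open Cfsg.Agent.Lib.Helper3 ChevU ChevT
open Cfsg.Agent.Lib.Helper3.ChevAut Cfsg.Agent.Lib.Helper3.TwAut Cfsg.Agent.Lib.Helper1

section
variable {K : Type*} [Field K] [Fintype K] [CharP K 2]

/-- the cell of an element is unique -/
theorem f4_cell_unique (i j : Fin 16) (b₁ b₂ b₁' b₂' : GL cdF4.D.Idx K)
    (hb₁ : b₁ ∈ cdF4.D.borelSubgroup K) (hb₂ : b₂ ∈ cdF4.D.borelSubgroup K)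
    (hb₁' : b₁' ∈ cdF4.D.borelSubgroup K) (hb₂' : b₂' ∈ cdF4.D.borelSubgroup K)
    (e : b₁ * relF4.nWordU (F := K) (wOf i) * b₂ = b₁' * relF4.nWordU (F := K) (wOf j) * b₂') : i = j := by
  have hnN : relF4.nWordU (F := K) (wOf i) ∈ cdF4.D.monomialSubgroup K := relF4.nWordU_mem _ (wOf_lt i)
  have hnN' : relF4.nWordU (F := K) (wOf j) ∈ cdF4.D.monomialSubgroup K := relF4.nWordU_mem _ (wOf_lt j)
  have key := uhypF4.monomial_coset_unique (F := K) bnF4 b₁ b₂ b₁' b₂' _ _ hb₁ hb₂ hb₁' hb₂' hnN hnN' e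
  apply (wOf_inj j i _).symm
  rw [permOf_eq_iff]
  intro s hs
  exact relF4.reflW_eq_of_coset (F := K) bnF4.dec (wOf j) (wOf i) (wOf_lt j) (wOf_lt i)
    (relF4.nWordU (F := K) (wOf i) * ((relF4.nWordU (F := K) (wOf i))⁻¹ * relF4.nWordU (F := K) (wOf j)) *
      (relF4.nWordU (F := K) (wOf i))⁻¹) (monoF4.conj_mem _ hnN _ key) (by group) s hs

/-- the Borel subgroup of the twisted group is the product of `U¹` and `H¹` -/
theorem f4_borel_decomp (m : ℕ) (hK : Fintype.card K = 2 ^ (2 * m + 1)) (b : GL cdF4.D.Idx K)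
    (hb : b ∈ cdF4.D.borelSubgroup K ⊓ tF4 K (2 ^ m)) :
    ∃ u ∈ cdF4.D.posUnipotent K ⊓ tF4 K (2 ^ m), ∃ h ∈ cdF4.D.diagonalSubgroup K ⊓ tF4 K (2 ^ m), b = u * h := by
  obtain ⟨u₁, hu₁, h, hh, i, u, hu, e⟩ := f4_normal_form m hK b hb.2
  have hUB : cdF4.D.posUnipotent K ≤ cdF4.D.borelSubgroup K := le_sup_left
  have hHB : cdF4.D.diagonalSubgroup K ≤ cdF4.D.borelSubgroup K := le_sup_right
  have h0 : i = ⟨0, by decide⟩ := by
    apply f4_cell_unique i ⟨0, by decide⟩ (u₁ * h) u 1 b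
      (Subgroup.mul_mem _ (hUB hu₁.1) (hHB hh.1)) (hUB (uMinus_le_posUnipotent cdF4.D _ hu.1))
      (Subgroup.one_mem _) hb.1
    rw [← e, wOf_zero, relF4.nWordU_nil, one_mul, one_mul]
  subst h0
  rw [wOf_zero] at hu e
  have hu1 : u ∈ (f4Tw (K := K) m).fixU ([] : List ℕ) := ⟨hu.1, (tF4_le_fixF m hK hu.2).2⟩
  rw [(f4Tw (K := K) m).fixU_nil atHypF4, Set.mem_singleton_iff] at hu1
  rw [hu1, relF4.nWordU_nil, mul_one, mul_one] at e
  exact ⟨u₁, hu₁, h, hh, e⟩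

theorem perm_alt8' : permOf (altWord 7 ++ wJ2) = permOf (altWord 8) := by decide +kernel

/-- the factorisation of `U¹` with respect to a generator -/
theorem f4_pos_factor (m : ℕ) (hK : Fintype.card K = 2 ^ (2 * m + 1)) (J : List ℕ) (hJ : J ∈ [wJ1, wJ2])
    (u : GL cdF4.D.Idx K) (hu : u ∈ cdF4.D.posUnipotent K ⊓ tF4 K (2 ^ m)) :
    ∃ x ∈ (f4Tw (K := K) m).fixU J, ∃ y ∈ cdF4.D.posUnipotent K ⊓ tF4 K (2 ^ m),
      u = x * ((relF4.nWordU (F := K) J)⁻¹ * y * relF4.nWordU J) := by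
  have h1 : ∀ i ∈ wJ1, i < cdF4.D.rank := by decide
  have h2 : ∀ i ∈ wJ2, i < cdF4.D.rank := by decide
  have hu8 := (mem_pos_inf_tF4 m hK u).mp hu
  obtain ⟨ew, ew'⟩ := altWord_succ_eq 7 (by norm_num)
  obtain ⟨a1, a2, a3, a4⟩ := alt_addCheck 7 (by norm_num)
  simp only [List.mem_cons, List.not_mem_nil, or_false] at hJ
  rcases hJ with rfl | rfl
  · rw [ew] at hu8
    obtain ⟨x, hx, y, hy, e⟩ := (f4Tw (K := K) m).fixU_factor atHypF4 (altWord' 7) wJ1 (altWord'_lt 7) h1 a1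
      (sg_wJ1 m hK) (sg_altWord' m hK 7) u hu8
    exact ⟨x, hx, y, ⟨uMinus_le_posUnipotent cdF4.D _ hy.1, ((chain m hK 7 (by norm_num)).2).2 y hy⟩, e⟩
  · have hl : ∀ i ∈ altWord 7 ++ wJ2, i < cdF4.D.rank := by
      intro i hi
      rcases List.mem_append.mp hi with h | h
      · exact altWord_lt 7 i h
      · exact h2 i h
    obtain ⟨h', hh', e'⟩ := monoF4.coset_of_reflW_eq (F := K) bnF4.dec (altWord 7 ++ wJ2) (altWord 8) hl
      (altWord_lt 8) ((permOf_eq_iff _ _).mp perm_alt8')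
    have hu8' : u ∈ (f4Tw (K := K) m).fixU (altWord 7 ++ wJ2) := by
      refine ⟨?_, hu8.2⟩
      rw [e', uMinus_diag_mul atHypF4 h' _ hh']
      exact hu8.1
    obtain ⟨x, hx, y, hy, e⟩ := (f4Tw (K := K) m).fixU_factor atHypF4 (altWord 7) wJ2 (altWord_lt 7) h2 a3
      (sg_wJ2 m hK) (sg_altWord m hK 7) u hu8'
    exact ⟨x, hx, y, ⟨uMinus_le_posUnipotent cdF4.D _ hy.1, ((chain m hK 7 (by norm_num)).1).2 y hy⟩, e⟩

/-- conjugation by a representative of a minimal element keeps the root elements of the generator positive -/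
theorem f4_conj_fixU_pos (J : List ℕ) (hJ : ∀ i ∈ J, i < cdF4.D.rank) (w' : List ℕ)
    (hw' : ∀ i ∈ w', i < cdF4.D.rank)
    (hpos : ∀ r ∈ negSet cdF4.D relF4.refl J, cdF4.D.IsPosRoot r ∧ ¬ cdF4.D.IsNegRoot (reflW relF4.refl w' r))
    (x : GL cdF4.D.Idx K) (hx : x ∈ uMinus cdF4.D K (relF4.nWordU (F := K) J)) :
    relF4.nWordU (F := K) w' * x * (relF4.nWordU (F := K) w')⁻¹ ∈ cdF4.D.posUnipotent K := by
  have key := uhypF4.uMinus_eq (F := K) bnF4 f4NegTri f4Sign 1 (Subgroup.one_mem _) J hJ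
  rw [one_mul] at key
  rw [← SetLike.mem_coe, key] at hx
  obtain ⟨t, rfl⟩ := hx
  exact conj_lprod_mem_pos atHypF4 w' hw' _ hpos t

/-- the product of the representative of a minimal element, an element of `B¹` and a generator -/
theorem f4_cell_mul (m : ℕ) (hK : Fintype.card K = 2 ^ (2 * m + 1)) (J : List ℕ) (hJ : J ∈ [wJ1, wJ2])
    (w' : List ℕ) (hw' : ∀ i ∈ w', i < cdF4.D.rank) (hw'G : relF4.nWordU (F := K) w' ∈ tF4 K (2 ^ m))
    (hpos : ∀ r ∈ negSet cdF4.D relF4.refl J, cdF4.D.IsPosRoot r ∧ ¬ cdF4.D.IsNegRoot (reflW relF4.refl w' r))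
    (b : GL cdF4.D.Idx K) (hb : b ∈ cdF4.D.borelSubgroup K ⊓ tF4 K (2 ^ m)) :
    ∃ b' ∈ cdF4.D.borelSubgroup K ⊓ tF4 K (2 ^ m), ∃ b'' ∈ cdF4.D.borelSubgroup K ⊓ tF4 K (2 ^ m),
      relF4.nWordU (F := K) w' * b * relF4.nWordU (F := K) J =
        b' * (relF4.nWordU (F := K) w' * relF4.nWordU (F := K) J) * b'' := by
  have hUB : cdF4.D.posUnipotent K ≤ cdF4.D.borelSubgroup K := le_sup_left
  have hHB : cdF4.D.diagonalSubgroup K ≤ cdF4.D.borelSubgroup K := le_sup_right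
  have hJlt := wJ_lt J hJ
  have hnJG := wJ_mem_tF4 (K := K) m J hJ
  have hnJN : relF4.nWordU (F := K) J ∈ cdF4.D.monomialSubgroup K := relF4.nWordU_mem J hJlt
  have hsq : relF4.nWordU (F := K) J * relF4.nWordU (F := K) J ∈ cdF4.D.diagonalSubgroup K ⊓ tF4 K (2 ^ m) := by
    apply f4Reps_sq m
    simp only [List.mem_cons, List.not_mem_nil, or_false] at hJ
    rcases hJ with rfl | rfl
    · exact Or.inl rfl
    · exact Or.inr rfl
  obtain ⟨u, hu, h, hh, rfl⟩ := f4_borel_decomp m hK b hb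
  obtain ⟨x, hx, y, hy, rfl⟩ := f4_pos_factor m hK J hJ u hu
  have hxG := fixU_wJ_mem m hK J hJ x hx
  have hxU := f4_conj_fixU_pos (K := K) J hJlt w' hw' hpos x hx.1
  set nJ := relF4.nWordU (F := K) J with hnJ
  set n' := relF4.nWordU (F := K) w' with hn'
  refine ⟨n' * x * n'⁻¹, ⟨hUB hxU, Subgroup.mul_mem _ (Subgroup.mul_mem _ hw'G hxG) (Subgroup.inv_mem _ hw'G)⟩,
    (nJ * nJ)⁻¹ * y * (nJ * h * nJ⁻¹) * (nJ * nJ), ⟨?_, ?_⟩, ?_⟩
  · exact Subgroup.mul_mem _ (Subgroup.mul_mem _ (Subgroup.mul_mem _ (Subgroup.inv_mem _ (hHB hsq.1)) (hUB hy.1))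
      (hHB (monoF4.conj_mem _ hnJN _ hh.1))) (hHB hsq.1)
  · exact Subgroup.mul_mem _ (Subgroup.mul_mem _ (Subgroup.mul_mem _ (Subgroup.inv_mem _ hsq.2) hy.2)
      (Subgroup.mul_mem _ (Subgroup.mul_mem _ hnJG hh.2) (Subgroup.inv_mem _ hnJG))) hsq.2
  · group

/-- words with the same permutation have representatives in the same coset of `H¹` -/
theorem f4_coset_of_perm (m : ℕ) (l l' : List ℕ) (hl : ∀ i ∈ l, i < cdF4.D.rank) (hl' : ∀ i ∈ l', i < cdF4.D.rank)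
    (hlG : relF4.nWordU (F := K) l ∈ tF4 K (2 ^ m)) (hlG' : relF4.nWordU (F := K) l' ∈ tF4 K (2 ^ m))
    (hperm : permOf l = permOf l') :
    ∃ h ∈ cdF4.D.diagonalSubgroup K ⊓ tF4 K (2 ^ m), relF4.nWordU (F := K) l = h * relF4.nWordU l' := by
  obtain ⟨h', hh', e'⟩ := monoF4.coset_of_reflW_eq (F := K) bnF4.dec l l' hl hl' ((permOf_eq_iff _ _).mp hperm)
  refine ⟨h', ⟨hh', ?_⟩, e'⟩
  have : h' = relF4.nWordU (F := K) l * (relF4.nWordU (F := K) l')⁻¹ := by rw [e', mul_inv_cancel_right]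
  rw [this]
  exact Subgroup.mul_mem _ hlG (Subgroup.inv_mem _ hlG')

end

end Cfsg.Agent.Lib.Helper3.RF4
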