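import Mathlib
import Cfsg.Prelude.Def_ChevStructure
import Cfsg.Prelude.Def_KGroupFacts
import Cfsg.Agent.Lib.Helper3.F4Inv1
import Cfsg.Agent.Lib.Helper3.EulerFix1
set_option autoImplicit false
set_option linter.unusedSectionVars false
set_option linter.style.haveILetI false
set_option maxRecDepth 1000000
open Cfsg Cfsg.Lie

/-!
The cells of the twisted group of type F4, part 2: the cell decomposition with respect to the two maximal
parabolic subgroups.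
-/

namespace Cfsg.Agent.Lib.Helper3.RF4

open Cfsg.Agent.Lib.Helper3.ChevM Cfsg.Agent.Lib.Helper3.ChevSp Cfsg.Agent.Lib.Helper3.ChevAt
open Cfsg.Agent.Lib.Helper3 ChevU ChevT
open Cfsg.Agent.Lib.Helper3.ChevAut Cfsg.Agent.Lib.Helper3.TwAut Cfsg.Agent.Lib.Helper1
open DoubleCoset

/-- the minimal elements for the first generator -/
def isMin1 (i : Fin 16) : Bool := decide (i.val = 0 ∨ 9 ≤ i.val)

/-- the minimal elements for the second generator -/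
def isMin2 (i : Fin 16) : Bool := decide (i.val ≤ 7)

/-- the product of a minimal element with the first generator -/
def succ1 (i : Fin 16) : Fin 16 := ([1, 0, 0, 0, 0, 0, 0, 0, 0, 2, 3, 4, 5, 6, 7, 8] : List (Fin 16)).getD i.val 0

/-- the product of a minimal element with the second generator -/
def succ2 (i : Fin 16) : Fin 16 := ([9, 10, 11, 12, 13, 14, 15, 8, 0, 0, 0, 0, 0, 0, 0, 0] : List (Fin 16)).getD i.val 0

/-- the data of the minimal elements with respect to a generator -/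
structure MinData (J : List ℕ) (isMin : Fin 16 → Bool) (succ : Fin 16 → Fin 16) : Prop where
  hJ : J ∈ [wJ1, wJ2]
  perm : ∀ i, isMin i = true → permOf (wOf i ++ J) = permOf (wOf (succ i))
  pos : ∀ i, isMin i = true → ∀ r ∈ negSet cdF4.D relF4.refl J,
    cdF4.D.IsPosRoot r ∧ ¬ cdF4.D.IsNegRoot (reflW relF4.refl (wOf i) r)
  notMin : ∀ i, isMin i = true → isMin (succ i) = false
  surj : ∀ k, isMin k = false → ∃ i, isMin i = true ∧ succ i = k

theorem f4_succ_perm1 : ∀ i : Fin 16, isMin1 i = true → permOf (wOf i ++ wJ1) = permOf (wOf (succ1 i)) := by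
  decide +kernel

theorem f4_succ_perm2 : ∀ i : Fin 16, isMin2 i = true → permOf (wOf i ++ wJ2) = permOf (wOf (succ2 i)) := by
  decide +kernel

theorem f4_min_pos1 : ∀ i : Fin 16, isMin1 i = true → ∀ r ∈ [24, 33],
    cdF4.D.IsPosRoot r ∧ ¬ cdF4.D.IsNegRoot (reflW relF4.refl (wOf i) r) := by
  decide +kernel

theorem f4_min_pos2 : ∀ i : Fin 16, isMin2 i = true → ∀ r ∈ [25, 27, 28, 30],
    cdF4.D.IsPosRoot r ∧ ¬ cdF4.D.IsNegRoot (reflW relF4.refl (wOf i) r) := by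
  decide +kernel

theorem minData1 : MinData wJ1 isMin1 succ1 where
  hJ := by simp
  perm := f4_succ_perm1
  pos := by rw [negSet_wJ1]; exact f4_min_pos1
  notMin := by decide
  surj := by decide

theorem minData2 : MinData wJ2 isMin2 succ2 where
  hJ := by simp
  perm := f4_succ_perm2
  pos := by rw [negSet_wJ2]; exact f4_min_pos2
  notMin := by decide
  surj := by decide

theorem isMin_cover : ∀ i : Fin 16, isMin1 i = true ∨ isMin2 i = true ∨ i = ⟨8, by decide⟩ := by decide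

theorem isMin_inter : ∀ i : Fin 16, isMin1 i = true → isMin2 i = true → i = ⟨0, by decide⟩ := by decide

theorem isMin_zero : isMin1 ⟨0, by decide⟩ = true ∧ isMin2 ⟨0, by decide⟩ = true := by decide

section
variable {K : Type*} [Field K] [Fintype K] [CharP K 2]

/-- the cells of the twisted group -/
def f4Cell (K : Type*) [Field K] [Fintype K] [CharP K 2] (m : ℕ) (i : Fin 16) : Set ↥(tF4 K (2 ^ m)) :=
  {g | ∃ b₁ ∈ cdF4.D.borelSubgroup K ⊓ tF4 K (2 ^ m), ∃ b₂ ∈ cdF4.D.borelSubgroup K ⊓ tF4 K (2 ^ m),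
    (g : GL cdF4.D.Idx K) = b₁ * relF4.nWordU (F := K) (wOf i) * b₂}

/-- the union of the cells of the minimal elements -/
def f4CellSet (K : Type*) [Field K] [Fintype K] [CharP K 2] (m : ℕ) (isMin : Fin 16 → Bool) :
    Set ↥(tF4 K (2 ^ m)) :=
  {g | ∃ i, isMin i = true ∧ g ∈ f4Cell K m i}

theorem mem_f4B (m : ℕ) (hK : Fintype.card K = 2 ^ (2 * m + 1)) (b : ↥(tF4 K (2 ^ m))) :
    b ∈ (f4BN m hK).B ↔ (b : GL cdF4.D.Idx K) ∈ cdF4.D.borelSubgroup K ⊓ tF4 K (2 ^ m) := by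
  rw [f4BN_B, Subgroup.mem_subgroupOf]

theorem f4Cell_cover (m : ℕ) (hK : Fintype.card K = 2 ^ (2 * m + 1)) (g : ↥(tF4 K (2 ^ m))) :
    ∃ i, g ∈ f4Cell K m i := by
  have hUB : cdF4.D.posUnipotent K ≤ cdF4.D.borelSubgroup K := le_sup_left
  have hHB : cdF4.D.diagonalSubgroup K ≤ cdF4.D.borelSubgroup K := le_sup_right
  obtain ⟨u₁, hu₁, h, hh, i, u, hu, e⟩ := f4_normal_form m hK g g.2
  exact ⟨i, u₁ * h, ⟨Subgroup.mul_mem _ (hUB hu₁.1) (hHB hh.1), Subgroup.mul_mem _ hu₁.2 hh.2⟩, u,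
    ⟨hUB (uMinus_le_posUnipotent cdF4.D _ hu.1), hu.2⟩, e⟩

theorem f4Cell_unique (m : ℕ) (g : ↥(tF4 K (2 ^ m))) (i j : Fin 16) (hi : g ∈ f4Cell K m i)
    (hj : g ∈ f4Cell K m j) : i = j := by
  obtain ⟨b₁, hb₁, b₂, hb₂, e⟩ := hi
  obtain ⟨b₁', hb₁', b₂', hb₂', e'⟩ := hj
  exact f4_cell_unique i j b₁ b₂ b₁' b₂' hb₁.1 hb₂.1 hb₁'.1 hb₂'.1 (e.symm.trans e')

theorem f4Cell_mul_left (m : ℕ) (hK : Fintype.card K = 2 ^ (2 * m + 1)) (i : Fin 16) (b : ↥(tF4 K (2 ^ m)))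
    (hb : b ∈ (f4BN m hK).B) (g : ↥(tF4 K (2 ^ m))) (hg : g ∈ f4Cell K m i) : b * g ∈ f4Cell K m i := by
  rw [mem_f4B] at hb
  obtain ⟨b₁, hb₁, b₂, hb₂, e⟩ := hg
  refine ⟨b * b₁, Subgroup.mul_mem _ hb hb₁, b₂, hb₂, ?_⟩
  rw [Subgroup.coe_mul, e]
  simp only [mul_assoc]

theorem f4Cell_mul_right (m : ℕ) (hK : Fintype.card K = 2 ^ (2 * m + 1)) (i : Fin 16) (b : ↥(tF4 K (2 ^ m)))
    (hb : b ∈ (f4BN m hK).B) (g : ↥(tF4 K (2 ^ m))) (hg : g ∈ f4Cell K m i) : g * b ∈ f4Cell K m i := by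
  rw [mem_f4B] at hb
  obtain ⟨b₁, hb₁, b₂, hb₂, e⟩ := hg
  refine ⟨b₁, hb₁, b₂ * b, Subgroup.mul_mem _ hb₂ hb, ?_⟩
  rw [Subgroup.coe_mul, e]
  simp only [mul_assoc]

theorem f4Cell_zero (m : ℕ) (hK : Fintype.card K = 2 ^ (2 * m + 1)) (g : ↥(tF4 K (2 ^ m))) :
    g ∈ f4Cell K m ⟨0, by decide⟩ ↔ g ∈ (f4BN m hK).B := by
  rw [mem_f4B]
  constructor
  · rintro ⟨b₁, hb₁, b₂, hb₂, e⟩
    rw [wOf_zero, relF4.nWordU_nil, mul_one] at e
    rw [e]
    exact Subgroup.mul_mem _ hb₁ hb₂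
  · intro h
    refine ⟨1, Subgroup.one_mem _, g, h, ?_⟩
    rw [wOf_zero, relF4.nWordU_nil, mul_one, one_mul]

theorem f4s_coe (m : ℕ) (J : List ℕ) (hJ : J ∈ [wJ1, wJ2]) :
    ((f4s (K := K) m J hJ : ↥(tF4 K (2 ^ m))) : GL cdF4.D.Idx K) = relF4.nWordU (F := K) J := rfl

theorem wOf_append_mem (m : ℕ) (i : Fin 16) (J : List ℕ) (hJ : J ∈ [wJ1, wJ2]) :
    relF4.nWordU (F := K) (wOf i ++ J) ∈ tF4 K (2 ^ m) := by
  rw [relF4.nWordU_append]
  exact Subgroup.mul_mem _ (wOf_mem_tF4 m i) (wJ_mem_tF4 m J hJ)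

theorem wOf_append_lt (i : Fin 16) (J : List ℕ) (hJ : J ∈ [wJ1, wJ2]) : ∀ k ∈ wOf i ++ J, k < cdF4.D.rank := by
  intro k hk
  rcases List.mem_append.mp hk with h | h
  · exact wOf_lt i k h
  · exact wJ_lt J hJ k h

/-- the product of an element of the cell of a minimal element and an element of the parabolic subgroup outside
`B¹` -/
theorem f4Cell_mul_gen (m : ℕ) (hK : Fintype.card K = 2 ^ (2 * m + 1)) {J : List ℕ} {isMin : Fin 16 → Bool}
    {succ : Fin 16 → Fin 16} (D : MinData J isMin succ) (i : Fin 16) (hi : isMin i = true)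
    (g : ↥(tF4 K (2 ^ m))) (hg : g ∈ f4Cell K m i) (p : ↥(tF4 K (2 ^ m)))
    (hp : p ∈ (f4BN m hK).parabolic {f4s m J D.hJ}) (hpB : p ∉ (f4BN m hK).B) :
    g * p ∈ f4Cell K m (succ i) := by
  have hHB : cdF4.D.diagonalSubgroup K ≤ cdF4.D.borelSubgroup K := le_sup_right
  rcases mem_parabolic_singleton (f4BN m hK) (f4s_mem_S m hK J D.hJ) _ hp with h2 | h2
  · exact absurd h2 hpB
  obtain ⟨b₃, hb₃, b₄, hb₄, e⟩ := mem_doubleCoset.mp h2
  rw [SetLike.mem_coe, mem_f4B] at hb₃ hb₄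
  have e' : (p : GL cdF4.D.Idx K) = (b₃ : GL cdF4.D.Idx K) * relF4.nWordU J * (b₄ : GL cdF4.D.Idx K) :=
    congrArg Subtype.val e
  obtain ⟨b₁, hb₁, b₂, hb₂, eg⟩ := hg
  obtain ⟨b', hb', b'', hb'', key⟩ := f4_cell_mul m hK J D.hJ (wOf i) (wOf_lt i) (wOf_mem_tF4 m i) (D.pos i hi)
    (b₂ * b₃) (Subgroup.mul_mem _ hb₂ hb₃)
  obtain ⟨h, hh, eh⟩ := f4_coset_of_perm (K := K) m (wOf i ++ J) (wOf (succ i)) (wOf_append_lt i J D.hJ)
    (wOf_lt _) (wOf_append_mem m i J D.hJ) (wOf_mem_tF4 m _) (D.perm i hi)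
  rw [relF4.nWordU_append] at eh
  refine ⟨b₁ * b' * h, Subgroup.mul_mem _ (Subgroup.mul_mem _ hb₁ hb') ⟨hHB hh.1, hh.2⟩, b'' * b₄,
    Subgroup.mul_mem _ hb'' hb₄, ?_⟩
  rw [Subgroup.coe_mul, eg, e']
  have : b₁ * relF4.nWordU (F := K) (wOf i) * b₂ *
      ((b₃ : GL cdF4.D.Idx K) * relF4.nWordU J * (b₄ : GL cdF4.D.Idx K)) =
      b₁ * (relF4.nWordU (F := K) (wOf i) * (b₂ * (b₃ : GL cdF4.D.Idx K)) * relF4.nWordU J) *
        (b₄ : GL cdF4.D.Idx K) := by group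
  rw [this, key, eh]
  group

/-- the projection to the cosets of the parabolic subgroup is injective on the cells of the minimal elements -/
theorem f4CellSet_inj (m : ℕ) (hK : Fintype.card K = 2 ^ (2 * m + 1)) {J : List ℕ} {isMin : Fin 16 → Bool}
    {succ : Fin 16 → Fin 16} (D : MinData J isMin succ) :
    ∀ g ∈ f4CellSet K m isMin, ∀ p ∈ (f4BN m hK).parabolic {f4s m J D.hJ}, g * p ∈ f4CellSet K m isMin →
      p ∈ (f4BN m hK).B := by
  rintro g ⟨i, hi, hg⟩ p hp ⟨j, hj, hgp⟩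
  by_contra hpB
  have h1 := f4Cell_mul_gen m hK D i hi g hg p hp hpB
  have h2 := f4Cell_unique m _ _ _ h1 hgp
  rw [← h2, D.notMin i hi] at hj
  exact Bool.false_ne_true hj

/-- every coset of the parabolic subgroup meets the cells of the minimal elements -/
theorem f4CellSet_surj (m : ℕ) (hK : Fintype.card K = 2 ^ (2 * m + 1)) {J : List ℕ} {isMin : Fin 16 → Bool}
    {succ : Fin 16 → Fin 16} (D : MinData J isMin succ) (g : ↥(tF4 K (2 ^ m))) :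
    ∃ p ∈ (f4BN m hK).parabolic {f4s m J D.hJ}, g * p ∈ f4CellSet K m isMin := by
  have hHB : cdF4.D.diagonalSubgroup K ≤ cdF4.D.borelSubgroup K := le_sup_right
  obtain ⟨k, hk⟩ := f4Cell_cover m hK g
  by_cases hmin : isMin k = true
  · exact ⟨1, Subgroup.one_mem _, k, hmin, by rwa [mul_one]⟩
  · rw [Bool.not_eq_true] at hmin
    obtain ⟨i, hi, rfl⟩ := D.surj k hmin
    obtain ⟨b₁, hb₁, b₂, hb₂, eg⟩ := hk
    obtain ⟨h, hh, eh⟩ := f4_coset_of_perm (K := K) m (wOf i ++ J) (wOf (succ i)) (wOf_append_lt i J D.hJ)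
      (wOf_lt _) (wOf_append_mem m i J D.hJ) (wOf_mem_tF4 m _) (D.perm i hi)
    rw [relF4.nWordU_append] at eh
    have hBP : (f4BN m hK).B ≤ (f4BN m hK).parabolic {f4s m J D.hJ} := le_sup_left
    have hsP : f4s m J D.hJ ∈ (f4BN m hK).parabolic {f4s m J D.hJ} :=
      Subgroup.mem_sup_right (Subgroup.subset_closure rfl)
    have hb₂B : (⟨b₂, hb₂.2⟩ : ↥(tF4 K (2 ^ m))) ∈ (f4BN m hK).B := (mem_f4B m hK _).mpr hb₂
    refine ⟨(⟨b₂, hb₂.2⟩ : ↥(tF4 K (2 ^ m)))⁻¹ * (f4s m J D.hJ)⁻¹,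
      Subgroup.mul_mem _ (Subgroup.inv_mem _ (hBP hb₂B)) (Subgroup.inv_mem _ hsP), i, hi, ?_⟩
    refine ⟨b₁ * h⁻¹, Subgroup.mul_mem _ hb₁ (Subgroup.inv_mem _ ⟨hHB hh.1, hh.2⟩), 1, Subgroup.one_mem _, ?_⟩
    rw [Subgroup.coe_mul, Subgroup.coe_mul, Subgroup.coe_inv, Subgroup.coe_inv, f4s_coe, eg]
    have e2 : relF4.nWordU (F := K) (wOf (succ i)) =
        h⁻¹ * (relF4.nWordU (F := K) (wOf i) * relF4.nWordU (F := K) J) := by
      rw [eh, inv_mul_cancel_left]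
    rw [e2]
    generalize relF4.nWordU (F := K) (wOf i) = n1
    generalize relF4.nWordU (F := K) J = n2
    simp only [mul_assoc, mul_inv_cancel_left, mul_inv_cancel, mul_one]

/-- **The cell decomposition of the twisted group of type F4.** -/
theorem f4_cellData (m : ℕ) (hK : Fintype.card K = 2 ^ (2 * m + 1)) :
    EulerFix.CellData (f4BN m hK).B ((f4BN m hK).parabolic {f4s m wJ1 minData1.hJ})
      ((f4BN m hK).parabolic {f4s m wJ2 minData2.hJ}) (f4CellSet K m isMin1) (f4CellSet K m isMin2)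
      (f4Cell K m ⟨8, by decide⟩) where
  le₁ := le_sup_left
  le₂ := le_sup_left
  cover := by
    intro g
    obtain ⟨i, hi⟩ := f4Cell_cover m hK g
    rcases isMin_cover i with h | h | h
    · exact Or.inl ⟨i, h, hi⟩
    · exact Or.inr (Or.inl ⟨i, h, hi⟩)
    · exact Or.inr (Or.inr (h ▸ hi))
  stabL₁ := by
    rintro b hb g ⟨i, hi, hg⟩
    exact ⟨i, hi, f4Cell_mul_left m hK i b hb g hg⟩
  stabR₁ := by
    rintro b hb g ⟨i, hi, hg⟩
    exact ⟨i, hi, f4Cell_mul_right m hK i b hb g hg⟩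
  stabL₂ := by
    rintro b hb g ⟨i, hi, hg⟩
    exact ⟨i, hi, f4Cell_mul_left m hK i b hb g hg⟩
  stabR₂ := by
    rintro b hb g ⟨i, hi, hg⟩
    exact ⟨i, hi, f4Cell_mul_right m hK i b hb g hg⟩
  inter := by
    rintro g ⟨i, hi, hg⟩ ⟨j, hj, hg'⟩
    have hij := f4Cell_unique m g i j hg hg'
    subst hij
    have h0 := isMin_inter i hi hj
    subst h0
    exact (f4Cell_zero m hK g).mp hg
  one₁ := ⟨⟨0, by decide⟩, isMin_zero.1, (f4Cell_zero m hK 1).mpr (Subgroup.one_mem _)⟩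
  one₂ := ⟨⟨0, by decide⟩, isMin_zero.2, (f4Cell_zero m hK 1).mpr (Subgroup.one_mem _)⟩
  inj₁ := f4CellSet_inj m hK minData1
  inj₂ := f4CellSet_inj m hK minData2
  surj₁ := f4CellSet_surj m hK minData1
  surj₂ := f4CellSet_surj m hK minData2

/-- a nontrivial element of `U¹` has no conjugate in `B¹` under the elements of the big cell -/
theorem f4_big_cell (m : ℕ) (hK : Fintype.card K = 2 ^ (2 * m + 1)) (a : ↥(tF4 K (2 ^ m)))
    (ha : (a : GL cdF4.D.Idx K) ∈ cdF4.D.posUnipotent K) (ha1 : a ≠ 1) (g : ↥(tF4 K (2 ^ m)))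
    (hg : g ∈ f4Cell K m ⟨8, by decide⟩) : g⁻¹ * a * g ∉ (f4BN m hK).B := by
  intro hB
  rw [mem_f4B] at hB
  obtain ⟨b₁, hb₁, b₂, hb₂, eg⟩ := hg
  rw [wOf_eight] at eg
  set n₀ := relF4.nWordU (F := K) (altWord 8) with hn₀
  set a' : GL cdF4.D.Idx K := b₁⁻¹ * (a : GL cdF4.D.Idx K) * b₁ with ha'
  have ha'U : a' ∈ cdF4.D.posUnipotent K ⊓ tF4 K (2 ^ m) := by
    refine ⟨?_, Subgroup.mul_mem _ (Subgroup.mul_mem _ (Subgroup.inv_mem _ hb₁.2) a.2) hb₁.2⟩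
    have hnorm := borel_le_normalizer_pos (K := K) atHypF4 (Subgroup.inv_mem _ hb₁.1)
    rw [Subgroup.mem_normalizer_iff] at hnorm
    have := (hnorm (a : GL cdF4.D.Idx K)).mp ha
    rwa [inv_inv] at this
  obtain ⟨v, hv, ev⟩ := f4_n0_conj_neg_surj (K := K) m a' ha'U
  have hvB : v ∈ cdF4.D.borelSubgroup K := by
    have e1 : v = b₂ * ((g⁻¹ * a * g : ↥(tF4 K (2 ^ m))) : GL cdF4.D.Idx K) * b₂⁻¹ := by
      rw [Subgroup.coe_mul, Subgroup.coe_mul, Subgroup.coe_inv, eg]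
      have : v = n₀⁻¹ * a' * n₀ := by rw [← ev, ← hn₀]; group
      rw [this, ha']
      group
    rw [e1]
    exact Subgroup.mul_mem _ (Subgroup.mul_mem _ hb₂.1 hB.1) (Subgroup.inv_mem _ hb₂.1)
  have hv1 : v ∈ cdF4.D.borelSubgroup K ⊓ cdF4.D.negUnipotent K := ⟨hvB, hv.1⟩
  rw [(relF4.borel_inf_neg (F := K) bnF4.dec bnF4.mono.tri f4NegTri).1, Subgroup.mem_bot] at hv1
  rw [hv1, mul_one, mul_inv_cancel] at ev
  apply ha1
  apply Subtype.ext
  have : (a : GL cdF4.D.Idx K) = b₁ * a' * b₁⁻¹ := by rw [ha']; group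
  rw [this, ← ev]
  simp

end

end Cfsg.Agent.Lib.Helper3.RF4
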