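import Mathlib
import Cfsg.Prelude.Def_ChevStructure
import Cfsg.Prelude.Def_KGroupFacts
import Cfsg.Agent.Lib.Helper3.F4Inv2
set_option autoImplicit false
set_option linter.unusedSectionVars false
set_option linter.style.haveILetI false
set_option maxRecDepth 1000000
open Cfsg Cfsg.Lie

/-!
The cells of the twisted group of type F4, part 3: the orders of the maximal parabolic subgroups and the primes
dividing the order of an element commuting with an involution.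
-/

namespace Cfsg.Agent.Lib.Helper3.RF4

open Cfsg.Agent.Lib.Helper3.ChevM Cfsg.Agent.Lib.Helper3.ChevSp Cfsg.Agent.Lib.Helper3.ChevAt
open Cfsg.Agent.Lib.Helper3 ChevU ChevT
open Cfsg.Agent.Lib.Helper3.ChevAut Cfsg.Agent.Lib.Helper3.TwAut Cfsg.Agent.Lib.Helper1
open DoubleCoset

section
variable {K : Type*} [Field K] [Fintype K] [CharP K 2]

/-- the order of a maximal parabolic subgroup -/
theorem card_f4_parabolic (m : ℕ) (hK : Fintype.card K = 2 ^ (2 * m + 1)) (J : List ℕ) (hJ : J ∈ [wJ1, wJ2]) :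
    Nat.card ↥((f4BN m hK).parabolic {f4s m J hJ}) =
      (2 ^ (2 * m + 1)) ^ 12 * (2 ^ (2 * m + 1) - 1) ^ 2 * (Nat.card ((f4Tw (K := K) m).fixU J) + 1) := by
  have hUB : cdF4.D.posUnipotent K ≤ cdF4.D.borelSubgroup K := le_sup_left
  have hHB : cdF4.D.diagonalSubgroup K ≤ cdF4.D.borelSubgroup K := le_sup_right
  obtain ⟨j, rfl⟩ := exists_wOf_eq J hJ
  have hj0 : (⟨0, by decide⟩ : Fin 16) ≠ j := by
    rintro rfl
    rw [wOf_zero] at hJ
    simp [wJ1, wJ2] at hJ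
  have h1fix : (1 : GL cdF4.D.Idx K) ∈ (f4Tw (K := K) m).fixU (wOf ⟨0, by decide⟩) := by
    rw [wOf_zero, (f4Tw (K := K) m).fixU_nil atHypF4]
    rfl
  let ι : (↥(cdF4.D.posUnipotent K ⊓ tF4 K (2 ^ m)) × ↥(cdF4.D.diagonalSubgroup K ⊓ tF4 K (2 ^ m))) ×
      Option ↥((f4Tw (K := K) m).fixU (wOf j)) → NfType K m := fun t =>
    t.2.elim ⟨⟨0, by decide⟩, t.1.1, t.1.2, ⟨1, h1fix⟩⟩ (fun x => ⟨j, t.1.1, t.1.2, x⟩)
  have hι : Function.Injective ι := by
    rintro ⟨⟨u, h⟩, _ | x⟩ ⟨⟨u', h'⟩, _ | x'⟩ e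
    · simp only [ι, Option.elim_none, Sigma.mk.injEq, heq_eq_eq, true_and, Prod.mk.injEq, and_true] at e
      rw [e.1, e.2]
    · exact absurd (congrArg Sigma.fst e) hj0
    · exact absurd (congrArg Sigma.fst e).symm hj0
    · simp only [ι, Option.elim_some, Sigma.mk.injEq, heq_eq_eq, true_and, Prod.mk.injEq] at e
      rw [e.1, e.2.1, e.2.2]
  have hφ : Function.Injective (nfMap (K := K) m hK ∘ ι) := (nfMap_injective m hK).comp hι
  have hBP : (f4BN m hK).B ≤ (f4BN m hK).parabolic {f4s m (wOf j) hJ} := le_sup_left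
  have hsP : f4s m (wOf j) hJ ∈ (f4BN m hK).parabolic {f4s m (wOf j) hJ} :=
    Subgroup.mem_sup_right (Subgroup.subset_closure rfl)
  have hrange : Set.range (nfMap (K := K) m hK ∘ ι) =
      ((f4BN m hK).parabolic {f4s m (wOf j) hJ} : Set ↥(tF4 K (2 ^ m))) := by
    apply Set.Subset.antisymm
    · rintro _ ⟨⟨⟨u, h⟩, _ | x⟩, rfl⟩
      · apply hBP
        rw [mem_f4B]
        show (u : GL cdF4.D.Idx K) * (h : GL cdF4.D.Idx K) * relF4.nWordU (F := K) (wOf ⟨0, by decide⟩) * 1 ∈ _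
        rw [wOf_zero, relF4.nWordU_nil, mul_one, mul_one]
        exact ⟨Subgroup.mul_mem _ (hUB u.2.1) (hHB h.2.1), Subgroup.mul_mem _ u.2.2 h.2.2⟩
      · have hxB : (⟨x.1, fixU_wJ_mem m hK (wOf j) hJ x.1 x.2⟩ : ↥(tF4 K (2 ^ m))) ∈ (f4BN m hK).B := by
          rw [mem_f4B]
          exact fixU_wJ_mem_borel m hK (wOf j) hJ x.1 x.2
        have huhB : (⟨(u : GL cdF4.D.Idx K) * (h : GL cdF4.D.Idx K), Subgroup.mul_mem _ u.2.2 h.2.2⟩ :
            ↥(tF4 K (2 ^ m))) ∈ (f4BN m hK).B := by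
          rw [mem_f4B]
          exact ⟨Subgroup.mul_mem _ (hUB u.2.1) (hHB h.2.1), Subgroup.mul_mem _ u.2.2 h.2.2⟩
        have e : (nfMap (K := K) m hK ∘ ι) ((u, h), some x) =
            (⟨(u : GL cdF4.D.Idx K) * (h : GL cdF4.D.Idx K), Subgroup.mul_mem _ u.2.2 h.2.2⟩ : ↥(tF4 K (2 ^ m))) *
              f4s m (wOf j) hJ * ⟨x.1, fixU_wJ_mem m hK (wOf j) hJ x.1 x.2⟩ := Subtype.ext rfl
        rw [e]
        exact Subgroup.mul_mem _ (Subgroup.mul_mem _ (hBP huhB) hsP) (hBP hxB)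
    · intro g hg
      rcases f4_parabolic_cases' m hK (wOf j) hJ g hg with hb | ⟨u₁, hu₁, h, hh, x, hx, e⟩
      · obtain ⟨u, hu, h, hh, e⟩ := f4_borel_decomp m hK (g : GL cdF4.D.Idx K) ⟨hb, g.2⟩
        refine ⟨((⟨u, hu⟩, ⟨h, hh⟩), none), Subtype.ext ?_⟩
        show u * h * relF4.nWordU (F := K) (wOf ⟨0, by decide⟩) * 1 = _
        rw [wOf_zero, relF4.nWordU_nil, mul_one, mul_one, e]
      · exact ⟨((⟨u₁, hu₁⟩, ⟨h, hh⟩), some ⟨x, hx⟩), Subtype.ext e.symm⟩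
  have hfin : Finite ↥((f4Tw (K := K) m).fixU (wOf j)) := Subtype.finite
  calc Nat.card ↥((f4BN m hK).parabolic {f4s m (wOf j) hJ})
      = Nat.card ↥(Set.range (nfMap (K := K) m hK ∘ ι)) := by rw [hrange]; rfl
    _ = Nat.card ((↥(cdF4.D.posUnipotent K ⊓ tF4 K (2 ^ m)) × ↥(cdF4.D.diagonalSubgroup K ⊓ tF4 K (2 ^ m))) ×
          Option ↥((f4Tw (K := K) m).fixU (wOf j))) := Nat.card_range_of_injective hφ
    _ = _ := by
      rw [Nat.card_prod, Nat.card_prod, Finite.card_option, card_pos_inf_tF4 m hK, card_diag_inf_tF4 m hK]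

theorem f4_inv_arith (q r : ℕ) (hq : 1 ≤ q) (hr : r.Prime)
    (h : r ∣ q ^ 12 * (q - 1) ^ 2 * (q + 1) ∨ r ∣ q ^ 12 * (q - 1) ^ 2 * (q ^ 2 + 1)) :
    r ∣ q * (q ^ 4 - 1) := by
  have e : q ^ 4 - 1 = (q - 1) * ((q + 1) * (q ^ 2 + 1)) := by
    have : (q - 1) * ((q + 1) * (q ^ 2 + 1)) + 1 = q ^ 4 := by
      obtain ⟨k, rfl⟩ := Nat.exists_eq_add_of_le' hq
      rw [Nat.add_sub_cancel]
      ring
    rw [← this, Nat.add_sub_cancel]
  have h1 : r ∣ q ^ 12 * (q - 1) ^ 2 → r ∣ q * (q ^ 4 - 1) := by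
    intro h1
    rcases (hr.dvd_mul).mp h1 with h2 | h2
    · exact Dvd.dvd.mul_right (hr.dvd_of_dvd_pow h2) _
    · rw [e]
      exact Dvd.dvd.mul_left (Dvd.dvd.mul_right (hr.dvd_of_dvd_pow h2) _) _
  rcases h with h | h
  · rcases (hr.dvd_mul).mp h with h2 | h2
    · exact h1 h2
    · rw [e]
      exact Dvd.dvd.mul_left (Dvd.dvd.mul_left (Dvd.dvd.mul_right h2 _) _) _
  · rcases (hr.dvd_mul).mp h with h2 | h2
    · exact h1 h2
    · rw [e]
      exact Dvd.dvd.mul_left (Dvd.dvd.mul_left (Dvd.dvd.mul_left h2 _) _) _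

/-- **A prime dividing the order of an element commuting with an involution of the twisted group of type F4 divides
`q (q⁴ - 1)`.** -/
theorem f4_prime_of_commute_involution (m : ℕ) (hK : Fintype.card K = 2 ^ (2 * m + 1))
    (a b : ↥(tF4 K (2 ^ m))) (ha : orderOf a = 2) (hab : Commute a b) (r : ℕ) (hr : r.Prime)
    (hrb : r ∣ orderOf b) : r ∣ 2 ^ (2 * m + 1) * ((2 ^ (2 * m + 1)) ^ 4 - 1) := by
  haveI : Fact (Nat.Prime 2) := ⟨by norm_num⟩
  haveI : Fact r.Prime := ⟨hr⟩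
  haveI : Finite ↥(tF4 K (2 ^ m)) := inferInstance
  have hUB : cdF4.D.posUnipotent K ≤ cdF4.D.borelSubgroup K := le_sup_left
  -- an element of order `r`
  have hb0 : orderOf b ≠ 0 := (orderOf_pos b).ne'
  set b' := b ^ (orderOf b / r) with hb'
  have hob' : orderOf b' = r := orderOf_pow_orderOf_div hb0 hrb
  have hb'r : b' ^ r = 1 := by rw [← hob']; exact pow_orderOf_eq_one b'
  have hb'1 : b' ≠ 1 := by
    intro h
    rw [h, orderOf_one] at hob'
    exact hr.one_lt.ne hob'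
  have hab' : a * b' = b' * a := (hab.pow_right _).eq
  have ha1 : a ≠ 1 := by
    intro h
    rw [h, orderOf_one] at ha
    norm_num at ha
  -- conjugate the involution into `U¹`
  obtain ⟨S, hS⟩ := f4_sylow (K := K) m hK
  have hpg : IsPGroup 2 (Subgroup.zpowers a) := by
    apply IsPGroup.of_card (n := 1)
    rw [Nat.card_zpowers, ha, pow_one]
  obtain ⟨P, hP⟩ := hpg.exists_le_sylow
  obtain ⟨g, hg⟩ := MulAction.exists_smul_eq ↥(tF4 K (2 ^ m)) S P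
  have haP : a ∈ (P : Subgroup ↥(tF4 K (2 ^ m))) := hP (Subgroup.mem_zpowers a)
  rw [← hg, Sylow.coe_subgroup_smul, Subgroup.mem_pointwise_smul_iff_inv_smul_mem, hS,
    Subgroup.mem_subgroupOf] at haP
  have h5 : (((MulAut.conj g)⁻¹ a : ↥(tF4 K (2 ^ m))) : GL cdF4.D.Idx K) ∈ cdF4.D.posUnipotent K := haP.1
  rw [MulAut.conj_inv_apply] at h5
  set a₁ := g⁻¹ * a * g with ha₁
  set b₁ := g⁻¹ * b' * g with hb₁
  have ha₁B : a₁ ∈ (f4BN m hK).B := (mem_f4B m hK _).mpr ⟨hUB h5, a₁.2⟩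
  have ha₁1 : a₁ ≠ 1 := by
    intro h
    apply ha1
    have : a = g * a₁ * g⁻¹ := by rw [ha₁]; group
    rw [this, h, mul_one, mul_inv_cancel]
  have hcomm : a₁ * b₁ = b₁ * a₁ := by
    have e1 : a₁ * b₁ = g⁻¹ * (a * b') * g := by rw [ha₁, hb₁]; group
    have e2 : b₁ * a₁ = g⁻¹ * (b' * a) * g := by rw [ha₁, hb₁]; group
    rw [e1, e2, hab']
  have hb₁r : b₁ ^ r = 1 := by
    have : b₁ = g⁻¹ * b' * (g⁻¹)⁻¹ := by rw [inv_inv]
    rw [this, conj_pow, hb'r, mul_one, mul_inv_cancel]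
  have hb₁1 : b₁ ≠ 1 := by
    intro h
    apply hb'1
    have : b' = g * b₁ * g⁻¹ := by rw [hb₁]; group
    rw [this, h, mul_one, mul_inv_cancel]
  obtain ⟨g', hg'⟩ := EulerFix.exists_conj_mem_parabolic (f4_cellData m hK) a₁ ha₁B
    (f4_big_cell m hK a₁ h5 ha₁1) b₁ hcomm r hb₁r
  set c := g'⁻¹ * b₁ * g' with hc
  have hcr : c ^ r = 1 := by
    have : c = g'⁻¹ * b₁ * (g'⁻¹)⁻¹ := by rw [inv_inv]
    rw [this, conj_pow, hb₁r, mul_one, mul_inv_cancel]
  have hc1 : c ≠ 1 := by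
    intro h
    apply hb₁1
    have : b₁ = g' * c * g'⁻¹ := by rw [hc]; group
    rw [this, h, mul_one, mul_inv_cancel]
  have hoc : orderOf c = r := orderOf_eq_prime hcr hc1
  apply f4_inv_arith _ r Nat.one_le_two_pow hr
  rcases hg' with h | h
  · left
    have hd := Subgroup.orderOf_dvd_natCard _ h
    rwa [hoc, card_f4_parabolic, card_fixU_wJ1 m hK] at hd
  · right
    have hd := Subgroup.orderOf_dvd_natCard _ h
    rwa [hoc, card_f4_parabolic, card_fixU_wJ2 m hK] at hd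

end

end Cfsg.Agent.Lib.Helper3.RF4
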