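import Mathlib
import Cfsg.Agent.Lib.Helper3.SL2Pres3
set_option autoImplicit false
set_option linter.unusedSectionVars false
set_option linter.unusedVariables false
set_option linter.unusedSimpArgs false

/-!
Two conjugation lemmas in a group generated by a pair of opposite root subgroups: an element interchanging the
two root subgroups is conjugate to its product with a suitable element `n(t)` or `h(-1)`.
-/

namespace Cfsg.Agent.Lib.Helper3.G2O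

open Cfsg.Agent.Lib.Helper3.SL2P

section
variable {F : Type*} [Field F]

theorem mat_sq (γ : F) (hγ : γ ≠ 0) (h2 : (2 : F) ≠ 0) :
    xE (2 - 2 * γ) * yE (-(1 / 2)) * xE (2 - γ⁻¹) *
      (yE (γ ^ 2 * -(2 - γ⁻¹)) * xE ((γ ^ 2)⁻¹ * (1 / 2)) * yE (γ ^ 2 * -(2 - 2 * γ))) =
      xE γ⁻¹ * yE (-(γ⁻¹)⁻¹) * xE γ⁻¹ := by
  apply Subtype.ext
  show (xE (2 - 2 * γ)).1 * (yE (-(1 / 2))).1 * (xE (2 - γ⁻¹)).1 *
      ((yE (γ ^ 2 * -(2 - γ⁻¹))).1 * (xE ((γ ^ 2)⁻¹ * (1 / 2))).1 * (yE (γ ^ 2 * -(2 - 2 * γ))).1) =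
      (xE γ⁻¹).1 * (yE (-(γ⁻¹)⁻¹)).1 * (xE γ⁻¹).1
  ext i j
  fin_cases i <;> fin_cases j <;>
    simp [xE, yE, Matrix.mul_apply, Fin.sum_univ_two] <;> field_simp <;> ring

theorem mat_neg (p q : F) (hq : q ≠ 0) (hpq : p ^ 2 + q ^ 2 = -1) :
    xE ((p - 1) / q) * yE q * xE ((-p - 1) / q) *
      (yE ((-p - 1) / q) * xE q * yE ((p - 1) / q)) =
      (xE (-1 : F) * yE (-(-1 : F)⁻¹) * xE (-1)) * (xE (-1 : F) * yE (-(-1 : F)⁻¹) * xE (-1)) := by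
  apply Subtype.ext
  show (xE ((p - 1) / q)).1 * (yE q).1 * (xE ((-p - 1) / q)).1 *
      ((yE ((-p - 1) / q)).1 * (xE q).1 * (yE ((p - 1) / q)).1) =
      ((xE (-1 : F)).1 * (yE (-(-1 : F)⁻¹)).1 * (xE (-1 : F)).1) *
        ((xE (-1 : F)).1 * (yE (-(-1 : F)⁻¹)).1 * (xE (-1 : F)).1)
  ext i j
  fin_cases i <;> fin_cases j
  · simp [xE, yE, Matrix.mul_apply, Fin.sum_univ_two]
    field_simp
    linear_combination (p ^ 2 + 1) * hpq
  · simp [xE, yE, Matrix.mul_apply, Fin.sum_univ_two]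
    field_simp
    linear_combination p * hpq
  · simp [xE, yE, Matrix.mul_apply, Fin.sum_univ_two]
    field_simp
    linear_combination p * hpq
  · simp [xE, yE, Matrix.mul_apply, Fin.sum_univ_two]
    field_simp
    linear_combination hpq
end

section
variable {F : Type*} [Field F] {Γ : Type*} [Group Γ] {X Y : F → Γ} (R : Rel X Y)
include R

theorem X_mem_cl (t : F) : X t ∈ Subgroup.closure (Set.range X ∪ Set.range Y) :=
  Subgroup.subset_closure (Or.inl ⟨t, rfl⟩)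

theorem Y_mem_cl (t : F) : Y t ∈ Subgroup.closure (Set.range X ∪ Set.range Y) :=
  Subgroup.subset_closure (Or.inr ⟨t, rfl⟩)

theorem nE_mem_cl (t : F) : nE X Y t ∈ Subgroup.closure (Set.range X ∪ Set.range Y) :=
  Subgroup.mul_mem _ (Subgroup.mul_mem _ (X_mem_cl R t) (Y_mem_cl R _)) (X_mem_cl R t)

theorem hE_mem_cl (t : F) : hE X Y t ∈ Subgroup.closure (Set.range X ∪ Set.range Y) :=
  Subgroup.mul_mem _ (nE_mem_cl R t) (Subgroup.inv_mem _ (nE_mem_cl R 1))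

/-- An element interchanging the two root subgroups with a square factor is conjugate to its product with some
`n(t)`. -/
theorem conj_of_sq (m : Γ) (γ : F) (hγ : γ ≠ 0) (h2 : (2 : F) ≠ 0)
    (hX : ∀ t, m * X t * m⁻¹ = Y (γ ^ 2 * t)) (hY : ∀ t, m * Y t * m⁻¹ = X ((γ ^ 2)⁻¹ * t)) :
    ∃ g ∈ Subgroup.closure (Set.range X ∪ Set.range Y), g * m * g⁻¹ = nE X Y γ⁻¹ * m := by
  refine ⟨X (2 - 2 * γ) * Y (-(1 / 2)) * X (2 - γ⁻¹),
    Subgroup.mul_mem _ (Subgroup.mul_mem _ (X_mem_cl R _) (Y_mem_cl R _)) (X_mem_cl R _), ?_⟩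
  have key := congrArg (phi R) (mat_sq γ hγ h2)
  simp only [map_mul, phi_xE, phi_yE] at key
  have e : m * (X (2 - 2 * γ) * Y (-(1 / 2)) * X (2 - γ⁻¹))⁻¹ * m⁻¹ =
      Y (γ ^ 2 * -(2 - γ⁻¹)) * X ((γ ^ 2)⁻¹ * (1 / 2)) * Y (γ ^ 2 * -(2 - 2 * γ)) := by
    rw [mul_inv_rev, mul_inv_rev, ← R.X_neg, ← R.Y_neg, ← R.X_neg, neg_neg]
    have : m * (X (-(2 - γ⁻¹)) * (Y (1 / 2) * X (-(2 - 2 * γ)))) * m⁻¹ =
        (m * X (-(2 - γ⁻¹)) * m⁻¹) * ((m * Y (1 / 2) * m⁻¹) * (m * X (-(2 - 2 * γ)) * m⁻¹)) := by group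
    rw [this, hX, hY, hX, mul_assoc]
  calc X (2 - 2 * γ) * Y (-(1 / 2)) * X (2 - γ⁻¹) * m * (X (2 - 2 * γ) * Y (-(1 / 2)) * X (2 - γ⁻¹))⁻¹
      = X (2 - 2 * γ) * Y (-(1 / 2)) * X (2 - γ⁻¹) *
          (m * (X (2 - 2 * γ) * Y (-(1 / 2)) * X (2 - γ⁻¹))⁻¹ * m⁻¹) * m := by group
    _ = nE X Y γ⁻¹ * m := by rw [e, key]; rfl

/-- An element interchanging the two root subgroups with factor `-1` is conjugate to its product with `h(-1)`. -/
theorem conj_of_neg (m : Γ) (p q : F) (hq : q ≠ 0) (hpq : p ^ 2 + q ^ 2 = -1)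
    (hX : ∀ t, m * X t * m⁻¹ = Y (-t)) (hY : ∀ t, m * Y t * m⁻¹ = X (-t)) :
    ∃ g ∈ Subgroup.closure (Set.range X ∪ Set.range Y), g * m * g⁻¹ = hE X Y (-1) * m := by
  refine ⟨X ((p - 1) / q) * Y q * X ((-p - 1) / q),
    Subgroup.mul_mem _ (Subgroup.mul_mem _ (X_mem_cl R _) (Y_mem_cl R _)) (X_mem_cl R _), ?_⟩
  have key := congrArg (phi R) (mat_neg p q hq hpq)
  simp only [map_mul, phi_xE, phi_yE] at key
  have e : m * (X ((p - 1) / q) * Y q * X ((-p - 1) / q))⁻¹ * m⁻¹ =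
      Y ((-p - 1) / q) * X q * Y ((p - 1) / q) := by
    rw [mul_inv_rev, mul_inv_rev, ← R.X_neg, ← R.Y_neg, ← R.X_neg]
    have : m * (X (-((-p - 1) / q)) * (Y (-q) * X (-((p - 1) / q)))) * m⁻¹ =
        (m * X (-((-p - 1) / q)) * m⁻¹) * ((m * Y (-q) * m⁻¹) * (m * X (-((p - 1) / q)) * m⁻¹)) := by group
    rw [this, hX, hY, hX, neg_neg, neg_neg, neg_neg, mul_assoc]
  have hh : hE X Y (-1) = nE X Y (-1) * nE X Y (-1) := by
    unfold hE
    rw [R.n_inv 1]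
  calc X ((p - 1) / q) * Y q * X ((-p - 1) / q) * m * (X ((p - 1) / q) * Y q * X ((-p - 1) / q))⁻¹
      = X ((p - 1) / q) * Y q * X ((-p - 1) / q) *
          (m * (X ((p - 1) / q) * Y q * X ((-p - 1) / q))⁻¹ * m⁻¹) * m := by group
    _ = hE X Y (-1) * m := by rw [e, key, hh]; rfl

end

end Cfsg.Agent.Lib.Helper3.G2O
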