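import Mathlib
import Cfsg.Prelude.Def_ChevStructure
import Cfsg.Agent.Lib.Helper3.ChevAt4
import Cfsg.Agent.Lib.Helper3.ChevAut2
import Cfsg.Agent.Lib.Helper3.ChevU4
set_option autoImplicit false
set_option linter.unusedSectionVars false
set_option linter.unusedVariables false
set_option linter.unusedSimpArgs false
open Cfsg Cfsg.Lie

/-!
In a Chevalley group over a finite field of odd order every involution is conjugate to an involution of the
monomial subgroup.
-/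

namespace Cfsg.Agent.Lib.Helper3.G2O

open Cfsg.Agent.Lib.Helper3.ChevM Cfsg.Agent.Lib.Helper3.ChevAt Cfsg.Agent.Lib.Helper3.ChevAut
open Cfsg.Agent.Lib.Helper3 ChevU ChevT DoubleCoset

section
variable {F : Type*} [Field F] {C : CDatum} {R : RelData C} (H : AtHyp C R)
include H

/-- Two elements of `N` in the same double coset of `B` differ by an element of `H`. -/
theorem monomial_of_doubleCoset (n n' b b' : GL C.D.Idx F) (hn : n ∈ C.D.monomialSubgroup F)
    (hn' : n' ∈ C.D.monomialSubgroup F) (hb : b ∈ C.D.borelSubgroup F) (hb' : b' ∈ C.D.borelSubgroup F)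
    (e : n' = b * n * b') : n⁻¹ * n' ∈ C.D.diagonalSubgroup F := by
  classical
  have hBG : C.D.borelSubgroup F ≤ C.D.group F := (R.borel_sup_monomial H.B.root H.B.nc).1
  have hNG : C.D.monomialSubgroup F ≤ C.D.group F := (R.borel_sup_monomial H.B.root H.B.nc).2.1
  set P := H.U.K.bnPair (F := F) H.B with hP
  have hPB : P.B = (C.D.borelSubgroup F).subgroupOf (C.D.group F) := rfl
  have hPN : P.N = (C.D.monomialSubgroup F).subgroupOf (C.D.group F) := rfl
  have hmem : (⟨n', hNG hn'⟩ : ↥(C.D.group F)) ∈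
      doubleCoset (⟨n, hNG hn⟩ : ↥(C.D.group F)) (P.B : Set ↥(C.D.group F)) P.B := by
    rw [mem_doubleCoset]
    refine ⟨⟨b, hBG hb⟩, ?_, ⟨b', hBG hb'⟩, ?_, ?_⟩
    · rw [SetLike.mem_coe, hPB, Subgroup.mem_subgroupOf]
      exact hb
    · rw [SetLike.mem_coe, hPB, Subgroup.mem_subgroupOf]
      exact hb'
    · apply Subtype.ext
      exact e
  have heq := doubleCoset_eq_of_mem hmem
  have hnP : (⟨n, hNG hn⟩ : ↥(C.D.group F)) ∈ P.N := by
    rw [hPN, Subgroup.mem_subgroupOf]; exact hn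
  have hn'P : (⟨n', hNG hn'⟩ : ↥(C.D.group F)) ∈ P.N := by
    rw [hPN, Subgroup.mem_subgroupOf]; exact hn'
  have := (Cfsg.Agent.S0309.result P hnP hn'P).mp heq.symm
  rw [hPB, Subgroup.mem_subgroupOf] at this
  have hB : n⁻¹ * n' ∈ C.D.borelSubgroup F := this
  have hN : n⁻¹ * n' ∈ C.D.monomialSubgroup F := Subgroup.mul_mem _ (Subgroup.inv_mem _ hn) hn'
  rw [← H.B.mono.borel_inf_monomial]
  exact ⟨hB, hN⟩

/-- The factorization of an element of `U` relative to an element of `N`. -/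
theorem split_pos (n : GL C.D.Idx F) (hn : n ∈ C.D.monomialSubgroup F) (u : GL C.D.Idx F)
    (hu : u ∈ C.D.posUnipotent F) :
    ∃ up um : GL C.D.Idx F, u = up * um ∧ n * up * n⁻¹ ∈ C.D.posUnipotent F ∧ um ∈ uMinus C.D F n := by
  classical
  obtain ⟨σ, d, hσ⟩ := H.B.mono.conj_xU (F := F) H.B.dec n hn
  set Ψ' := C.D.posRoots.filter (fun r => ¬ C.D.IsNegRoot (σ r)) with hΨ'
  set Ψ := C.D.posRoots.filter (fun r => C.D.IsNegRoot (σ r)) with hΨ
  have hnd : (Ψ' ++ Ψ).Nodup := by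
    rw [List.nodup_append]
    refine ⟨(nodup_posRoots C.D).filter _, (nodup_posRoots C.D).filter _, ?_⟩
    intro a ha b hb hab
    subst hab
    simp only [hΨ', hΨ, List.mem_filter, decide_eq_true_eq] at ha hb
    exact ha.2 hb.2
  have hmemM : ∀ r, r ∈ Ψ' ++ Ψ ↔ C.D.IsPosRoot r := by
    intro r
    simp only [hΨ', hΨ, List.mem_append, List.mem_filter, decide_eq_true_eq, mem_posRoots]
    constructor
    · rintro (h | h) <;> exact h.1
    · intro h
      by_cases h' : C.D.IsNegRoot (σ r)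
      · exact Or.inr ⟨h, h'⟩
      · exact Or.inl ⟨h, h'⟩
  obtain ⟨t, -, ht⟩ := H.U.K.exists_word (F := F) H.U.col H.U.inj (Ψ' ++ Ψ) hnd hmemM u hu
  rw [RootSys.lprod_append] at ht
  set up := RootSys.lprod (fun r (t : F) => R.xU r t) Ψ' t with hup
  set um := RootSys.lprod (fun r (t : F) => R.xU r t) Ψ t with hum
  have hum_mem : um ∈ uMinus C.D F n := by
    rw [hum]
    unfold RootSys.lprod
    apply Subgroup.list_prod_mem
    intro x hx
    obtain ⟨r, hr, rfl⟩ := List.mem_map.mp hx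
    simp only [hΨ, List.mem_filter, decide_eq_true_eq, mem_posRoots] at hr
    apply Subgroup.subset_closure
    refine ⟨r, t r, hr.1, ?_, R.xU_val _ _⟩
    unfold ChevalleyDatum.rootSubgroup
    rw [MonoidHom.map_closure, Subgroup.closure_le]
    rintro _ ⟨y, ⟨c, hy⟩, rfl⟩
    have hy' : y = R.xU r c := Units.ext hy
    subst hy'
    have := (hσ r hr.1.1).2.2.2 c
    show n * R.xU r c * n⁻¹ ∈ _
    rw [this]
    exact Subgroup.subset_closure ⟨σ r, d r * c, hr.2, R.xU_val _ _⟩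
  have hup_mem : n * up * n⁻¹ ∈ C.D.posUnipotent F := by
    rw [hup]
    unfold RootSys.lprod
    have : ∀ L : List (GL C.D.Idx F), (∀ y ∈ L, n * y * n⁻¹ ∈ C.D.posUnipotent F) →
        n * L.prod * n⁻¹ ∈ C.D.posUnipotent F := by
      intro L
      induction L with
      | nil => intro _; simp
      | cons y L ih =>
        intro h
        have e : n * (y :: L).prod * n⁻¹ = (n * y * n⁻¹) * (n * L.prod * n⁻¹) := by
          rw [List.prod_cons]; group
        rw [e]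
        exact Subgroup.mul_mem _ (h y List.mem_cons_self) (ih fun z hz => h z (List.mem_cons_of_mem _ hz))
    apply this
    intro y hy
    obtain ⟨r, hr, rfl⟩ := List.mem_map.mp hy
    simp only [hΨ', List.mem_filter, decide_eq_true_eq, mem_posRoots] at hr
    have := (hσ r hr.1.1).2.2.2 (t r)
    show n * R.xU r (t r) * n⁻¹ ∈ _
    rw [this]
    have hpos : C.D.IsPosRoot (σ r) := by
      rcases pos_or_neg H (σ r) (hσ r hr.1.1).1 with h | h
      · exact h
      · exact absurd h hr.2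
    exact Subgroup.subset_closure ⟨σ r, d r * t r, hpos, R.xU_val _ _⟩
  exact ⟨up, um, ht, hup_mem, hum_mem⟩

/-- In odd characteristic every involution is conjugate to an element of the monomial subgroup. -/
theorem invol_conj_monomial [Fintype F] (hlen : C.D.posRoots.length = C.D.nroots / 2)
    (hodd : Odd (Fintype.card F)) (g : GL C.D.Idx F) (hg : g ∈ C.D.group F) (hg2 : g * g = 1) :
    ∃ x ∈ C.D.group F, x * g * x⁻¹ ∈ C.D.monomialSubgroup F := by
  have hBG : C.D.borelSubgroup F ≤ C.D.group F := (R.borel_sup_monomial H.B.root H.B.nc).1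
  have hUB : C.D.posUnipotent F ≤ C.D.borelSubgroup F := le_sup_left
  have hHB : C.D.diagonalSubgroup F ≤ C.D.borelSubgroup F := le_sup_right
  have hHN : C.D.diagonalSubgroup F ≤ C.D.monomialSubgroup F := le_sup_left
  obtain ⟨hHU, hUH⟩ := R.diagonal_normalizes (F := F) H.B.dec H.B.mono.tri
  obtain ⟨b, hb, n, hn, u, hu, rfl⟩ :=
    (H.U.bruhat_normal_form (F := F) H.B H.ntri (fun r hr => pos_or_neg H r hr)).1 g hg
  have huU : u ∈ C.D.posUnipotent F := uMinus_le_posUnipotent C.D n hu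
  have hb₁ : u * b ∈ C.D.borelSubgroup F := Subgroup.mul_mem _ (hUB huU) hb
  -- decompose `u * b = u₁ * h₁`
  have hset := Subgroup.coe_mul_of_right_le_normalizer_left (C.D.posUnipotent F) (C.D.diagonalSubgroup F) hHU
  have hb₁' : u * b ∈ ((C.D.posUnipotent F ⊔ C.D.diagonalSubgroup F : Subgroup _) : Set _) := hb₁
  rw [hset] at hb₁'
  obtain ⟨u₁, hu₁, h₁, hh₁, eb⟩ := Set.mem_mul.mp hb₁'
  obtain ⟨m, hm_def⟩ : ∃ m, m = h₁ * n := ⟨_, rfl⟩
  have hm : m ∈ C.D.monomialSubgroup F := by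
    rw [hm_def]; exact Subgroup.mul_mem _ (hHN hh₁) hn
  have e1 : u * (b * n * u) * u⁻¹ = u₁ * m := by
    rw [hm_def, ← mul_assoc u₁, eb]; group
  have hsq : (u₁ * m) * (u₁ * m) = 1 := by
    rw [← e1]
    calc u * (b * n * u) * u⁻¹ * (u * (b * n * u) * u⁻¹)
        = u * ((b * n * u) * (b * n * u)) * u⁻¹ := by group
      _ = 1 := by rw [hg2]; group
  -- `m * m ∈ H`
  have hmm : m * m ∈ C.D.diagonalSubgroup F := by
    have e : m = u₁⁻¹ * m⁻¹ * u₁⁻¹ := by
      have h1 : u₁ * m * u₁ * m = 1 := by rw [← hsq]; group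
      calc m = u₁⁻¹ * (u₁ * m * u₁ * m) * m⁻¹ * u₁⁻¹ := by group
        _ = u₁⁻¹ * m⁻¹ * u₁⁻¹ := by rw [h1]; group
    have := monomial_of_doubleCoset H m⁻¹ m u₁⁻¹ u₁⁻¹ (Subgroup.inv_mem _ hm) hm
      (Subgroup.inv_mem _ (hUB hu₁)) (Subgroup.inv_mem _ (hUB hu₁)) e
    rwa [inv_inv] at this
  obtain ⟨up, um, eu, hup, hum⟩ := split_pos H m hm u₁ hu₁
  have e3 : m * u₁ * m⁻¹ = u₁⁻¹ * (m * m)⁻¹ := by
    have h1 : u₁ * m * u₁ * m = 1 := by rw [← hsq]; group
    calc m * u₁ * m⁻¹ = u₁⁻¹ * (u₁ * m * u₁ * m) * m⁻¹ * m⁻¹ := by group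
      _ = u₁⁻¹ * (m * m)⁻¹ := by rw [h1]; group
  have hV : m * um * m⁻¹ ∈ C.D.negUnipotent F := conj_uMinus_le C.D m um hum
  have hB : m * um * m⁻¹ ∈ C.D.borelSubgroup F := by
    have : m * um * m⁻¹ = (m * up * m⁻¹)⁻¹ * (m * u₁ * m⁻¹) := by rw [eu]; group
    rw [this, e3]
    exact Subgroup.mul_mem _ (Subgroup.inv_mem _ (hUB hup))
      (Subgroup.mul_mem _ (Subgroup.inv_mem _ (hUB hu₁)) (Subgroup.inv_mem _ (hHB hmm)))
  have h1 : m * um * m⁻¹ = 1 := by
    have : m * um * m⁻¹ ∈ C.D.borelSubgroup F ⊓ C.D.negUnipotent F := ⟨hB, hV⟩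
    rwa [(R.borel_inf_neg (F := F) H.B.dec H.B.mono.tri H.ntri).1, Subgroup.mem_bot] at this
  have hum1 : um = 1 := by
    calc um = m⁻¹ * (m * um * m⁻¹) * m := by group
      _ = 1 := by rw [h1]; group
  have hconjU : m * u₁ * m⁻¹ ∈ C.D.posUnipotent F := by
    rw [eu, hum1, mul_one]; exact hup
  have hmm1 : m * m = 1 := by
    have h2 : (m * m)⁻¹ = u₁ * (m * u₁ * m⁻¹) := by rw [e3]; group
    have : (m * m)⁻¹ ∈ C.D.posUnipotent F ⊓ C.D.diagonalSubgroup F :=
      ⟨h2 ▸ Subgroup.mul_mem _ hu₁ hconjU, Subgroup.inv_mem _ hmm⟩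
    rw [hUH, Subgroup.mem_bot] at this
    exact inv_eq_one.mp this
  have e4 : m * u₁ * m⁻¹ = u₁⁻¹ := by rw [e3, hmm1]; simp
  -- `u₁` has odd order
  have hcard : Nat.card (C.D.posUnipotent F) = Fintype.card F ^ (C.D.nroots / 2) := H.U.card_posUnipotent hlen
  have hord : Odd (orderOf u₁) := by
    have hd : orderOf (⟨u₁, hu₁⟩ : ↥(C.D.posUnipotent F)) ∣ Nat.card (C.D.posUnipotent F) := orderOf_dvd_natCard _
    have he : orderOf (⟨u₁, hu₁⟩ : ↥(C.D.posUnipotent F)) = orderOf u₁ := Subgroup.orderOf_mk _ _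
    rw [he, hcard] at hd
    exact Odd.of_dvd_nat hodd.pow hd
  obtain ⟨k, hk⟩ := hord
  obtain ⟨w, hw⟩ : ∃ w, w = u₁ ^ (k + 1) := ⟨_, rfl⟩
  have hwU : w ∈ C.D.posUnipotent F := by rw [hw]; exact Subgroup.pow_mem _ hu₁ _
  have hw2 : w * w = u₁ := by
    rw [hw, ← pow_add]
    have : k + 1 + (k + 1) = orderOf u₁ + 1 := by omega
    rw [this, pow_succ, pow_orderOf_eq_one, one_mul]
  have hmw : m * w * m⁻¹ = w⁻¹ := by
    rw [hw, ← conj_pow, e4, inv_pow]
  have hmw' : m * w⁻¹ = w * m := by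
    calc m * w⁻¹ = (m * w * m⁻¹)⁻¹ * m := by group
      _ = w * m := by rw [hmw, inv_inv]
  have e5 : u₁ * m = w * m * w⁻¹ := by
    rw [← hw2, mul_assoc w m, hmw']; group
  refine ⟨w⁻¹ * u, Subgroup.mul_mem _ (Subgroup.inv_mem _ (hBG (hUB hwU))) (hBG (hUB huU)), ?_⟩
  have : w⁻¹ * u * (b * n * u) * (w⁻¹ * u)⁻¹ = w⁻¹ * (u * (b * n * u) * u⁻¹) * w := by group
  rw [this, e1, e5]
  have : w⁻¹ * (w * m * w⁻¹) * w = m := by group
  rw [this]
  exact hm

end

end Cfsg.Agent.Lib.Helper3.G2O
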