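import Mathlib
import Cfsg.Agent.Lib.Helper3.G2O3
import Cfsg.Agent.Lib.Helper3.G2O2
import Cfsg.Agent.Lib.Helper3.ChevAut10
import Cfsg.Agent.Lib.Helper3.ChevAut9
import Cfsg.Agent.Lib.Helper3.ChevSL2
import Cfsg.Agent.Lib.Helper3.ChevN1
set_option autoImplicit false
set_option linter.unusedSectionVars false
set_option linter.unusedVariables false
set_option linter.unusedSimpArgs false
open Cfsg Cfsg.Lie

/-!
Involutions of the monomial subgroup of a Chevalley group over a field of odd characteristic: the general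
tools.  Elements of the monomial subgroup are written `h n_w` with `h` in the diagonal subgroup and `w` a word
in the fundamental reflections; the diagonal element acts on the root elements through the character
`s ↦ ∏ c_i ^ ⟨s, p_i^∨⟩`.
-/

namespace Cfsg.Agent.Lib.Helper3.ChevInv

open Cfsg.Agent.Lib.Helper3.ChevM Cfsg.Agent.Lib.Helper3.ChevAt Cfsg.Agent.Lib.Helper3.ChevAut
open Cfsg.Agent.Lib.Helper3 ChevU ChevT
open Cfsg.Agent.Lib.Helper3.SL2P

section scale
variable {F : Type*} [Field F] {Γ : Type*} [Group Γ] {X Y : F → Γ}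

theorem nE_scale (α : F) (t : F) :
    nE (fun u => X (α * u)) (fun u => Y (α⁻¹ * u)) t = nE X Y (α * t) := by
  unfold nE
  by_cases hα : α = 0
  · subst hα; simp
  by_cases ht : t = 0
  · subst ht; simp
  have : α⁻¹ * -t⁻¹ = -(α * t)⁻¹ := by
    rw [mul_inv]; ring
  simp only [this]

/-- The relations of `SL₂` are preserved by rescaling the two parameters by inverse factors. -/
theorem Rel.scale (R : Rel X Y) (α : F) (hα : α ≠ 0) :
    Rel (fun u => X (α * u)) (fun u => Y (α⁻¹ * u)) where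
  X_add := fun t u => by rw [mul_add]; exact R.X_add _ _
  Y_add := fun t u => by rw [mul_add]; exact R.Y_add _ _
  conj := by
    intro t ht u
    rw [nE_scale]
    have := R.conj (α * t) (mul_ne_zero hα ht) (α * u)
    rw [this]
    congr 1
    rw [mul_inv]
    field_simp
  h_mul := by
    intro t u ht hu
    have e : ∀ v : F, v ≠ 0 → hE (fun u => X (α * u)) (fun u => Y (α⁻¹ * u)) v = hE X Y v := by
      intro v hv
      have e1 : hE (fun u => X (α * u)) (fun u => Y (α⁻¹ * u)) v = nE X Y (α * v) * (nE X Y α)⁻¹ := by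
        unfold hE
        rw [nE_scale, nE_scale, mul_one]
      rw [e1, R.n_eq (α * v), R.n_eq α, mul_comm α v, R.h_mul v α hv hα]
      group
    rw [e _ (mul_ne_zero ht hu), e _ ht, e _ hu]
    exact R.h_mul t u ht hu

theorem hE_scale (R : Rel X Y) (α : F) (hα : α ≠ 0) (v : F) (hv : v ≠ 0) :
    hE (fun u => X (α * u)) (fun u => Y (α⁻¹ * u)) v = hE X Y v := by
  have e1 : hE (fun u => X (α * u)) (fun u => Y (α⁻¹ * u)) v = nE X Y (α * v) * (nE X Y α)⁻¹ := by
    unfold hE
    rw [nE_scale, nE_scale, mul_one]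
  rw [e1, R.n_eq (α * v), R.n_eq α, mul_comm α v, R.h_mul v α hv hα]
  group

end scale

section tor
variable {F : Type*} [Field F]

/-- The character of the diagonal subgroup attached to the root `s`, at the element with parameters `c`. -/
def chiL (C : CDatum) (c : ℕ → F) (s : ℕ) : F := ((List.range C.D.rank).map fun i => c i ^ C.D.cartan i s).prod

theorem chiL_ne_zero (C : CDatum) (c : ℕ → F) (hc : ∀ i < C.D.rank, c i ≠ 0) (s : ℕ) : chiL C c s ≠ 0 := by
  unfold chiL
  apply List.prod_ne_zero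
  simp only [List.mem_map, List.mem_range, not_exists, not_and]
  intro i hi h0
  exact zpow_ne_zero _ (hc i hi) h0

/-- `h` is an element of the diagonal subgroup acting on the root elements through the parameters `c`. -/
def Tor {C : CDatum} (R : RelData C) (h : GL C.D.Idx F) (c : ℕ → F) : Prop :=
  h ∈ C.D.diagonalSubgroup F ∧ (∀ i < C.D.rank, c i ≠ 0) ∧
    ∀ s < C.D.nroots, ∀ t : F, h * R.xU s t * h⁻¹ = R.xU s (chiL C c s * t)

end tor

section
variable {F : Type*} [Field F] {C : CDatum} {R : RelData C} (Y : AutHyp C R)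
include Y

/-- Root elements are injective in the parameter. -/
theorem xU_inj (r : ℕ) (hr : r < C.D.nroots) (a b : F) (h : R.xU r a = R.xU r b) : a = b := by
  rcases signCheck_or (Y.A.sign r hr) with hp | hn
  · exact Y.A.U.xU_inj_pos' r hp a b h
  · exact xU_inj_neg Y.A Y.w0 Y.w0l Y.w0neg' r hn a b h

theorem exists_tor (h : GL C.D.Idx F) (hh : h ∈ C.D.diagonalSubgroup F) : ∃ c : ℕ → F, Tor R h c := by
  obtain ⟨c, hc, -, key⟩ := R.diagonal_mul_x Y.A.B.dec h hh
  refine ⟨c, hh, hc, fun s hs t => ?_⟩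
  have e : h * R.xU s t = R.xU s (chiL C c s * t) * h := by
    apply Units.ext
    rw [Units.val_mul, Units.val_mul, R.xU_val, R.xU_val]
    exact key s hs t
  rw [e]
  group

/-- The action of `h n_w` on the root elements. -/
theorem conj_over (h : GL C.D.Idx F) (c : ℕ → F) (hT : Tor R h c) (l : List ℕ) (hl : ∀ i ∈ l, i < C.D.rank)
    (k : ℕ) (hk : k < C.D.nroots) (t : F) :
    (h * R.nWordU l) * R.xU k t * (h * R.nWordU l)⁻¹ =
      R.xU (reflW R.refl l k) (chiL C c (reflW R.refl l k) * (((etaW R.refl R.eta l k : ℤ) : F) * t)) := by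
  have hrel := R.conjRel_word (F := F) l hl
  have e1 : h * R.nWordU l * R.xU k t * (h * R.nWordU l)⁻¹ =
      h * (R.nWordU l * R.xU k t * (R.nWordU l)⁻¹) * h⁻¹ := by group
  rw [e1, R.conj_units hrel (R.nWordU l) (R.nWordU_val l) k hk t]
  exact hT.2.2 _ (R.reflW_lt l hl k hk) _

theorem etaW_sign (l : List ℕ) (hl : ∀ i ∈ l, i < C.D.rank) (k : ℕ) (hk : k < C.D.nroots) :
    etaW R.refl R.eta l k = 1 ∨ etaW R.refl R.eta l k = -1 :=
  (R.conjRel_word (F := ℚ) l hl).sign k hk

/-- Two diagonal elements acting in the same way on the root elements are equal. -/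
theorem diag_ext (h h' : GL C.D.Idx F) (hh : h ∈ C.D.diagonalSubgroup F) (hh' : h' ∈ C.D.diagonalSubgroup F)
    (hact : ∀ s < C.D.nroots, h * R.xU s 1 * h⁻¹ = h' * R.xU s 1 * h'⁻¹) : h = h' := by
  obtain ⟨c, hc, hd, key⟩ := R.diagonal_mul_x Y.A.B.dec h hh
  obtain ⟨c', hc', hd', key'⟩ := R.diagonal_mul_x Y.A.B.dec h' hh'
  have hT : Tor R h c := by
    refine ⟨hh, hc, fun s hs t => ?_⟩
    have e : h * R.xU s t = R.xU s (chiL C c s * t) * h := by
      apply Units.ext
      rw [Units.val_mul, Units.val_mul, R.xU_val, R.xU_val]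
      exact key s hs t
    rw [e]; group
  have hT' : Tor R h' c' := by
    refine ⟨hh', hc', fun s hs t => ?_⟩
    have e : h' * R.xU s t = R.xU s (chiL C c' s * t) * h' := by
      apply Units.ext
      rw [Units.val_mul, Units.val_mul, R.xU_val, R.xU_val]
      exact key' s hs t
    rw [e]; group
  have hchi : ∀ s < C.D.nroots, chiL C c s = chiL C c' s := by
    intro s hs
    have := hact s hs
    rw [hT.2.2 s hs 1, hT'.2.2 s hs 1] at this
    simpa using xU_inj Y s hs _ _ this
  apply Units.ext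
  rw [hd, hd']
  congr 1
  funext j
  unfold RelData.torusExp
  rcases j with j | s
  · congr 1
    apply List.map_congr_left
    intro i hi
    have hi' := List.mem_range.mp hi
    have e1 := congrFun (R.expo_simple i hi' (c i)) (Sum.inl j)
    have e2 := congrFun (R.expo_simple i hi' (c' i)) (Sum.inl j)
    simp only [Sum.elim_inl] at e1 e2
    rw [e1, e2]
  · have := hchi s.val s.isLt
    unfold chiL at this
    have e : ∀ d : ℕ → F, ((List.range C.D.rank).map fun i => d i ^ C.expo R.pair (C.D.simple i) (code C.D (Sum.inr s))) =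
        ((List.range C.D.rank).map fun i => d i ^ C.D.cartan i s.val) := by
      intro d
      apply List.map_congr_left
      intro i hi
      have hi' := List.mem_range.mp hi
      have e1 := congrFun (R.expo_simple i hi' (d i)) (Sum.inr s)
      simp only [Sum.elim_inr] at e1
      exact e1
    rw [e c, e c', this]

end

section overSec
variable {F : Type*} [Field F] {C : CDatum} {R : RelData C}

/-- `m` lies in the coset of the diagonal subgroup containing the representative of the word `l`. -/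
def OverW (R : RelData C) (l : List ℕ) (m : GL C.D.Idx F) : Prop :=
  ∃ h ∈ C.D.diagonalSubgroup F, m = h * R.nWordU l

theorem over_nWordU (l : List ℕ) : OverW R l (R.nWordU (F := F) l) :=
  ⟨1, Subgroup.one_mem _, (one_mul _).symm⟩

theorem over_diag (h : GL C.D.Idx F) (hh : h ∈ C.D.diagonalSubgroup F) : OverW R [] h :=
  ⟨h, hh, by rw [R.nWordU_nil, mul_one]⟩

variable (M : MonoHyp C R)
include M

theorem over_mul (l1 l2 : List ℕ) (hl1 : ∀ i ∈ l1, i < C.D.rank) (g m : GL C.D.Idx F) (hg : OverW R l1 g)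
    (hm : OverW R l2 m) : OverW R (l1 ++ l2) (g * m) := by
  obtain ⟨h1, hh1, rfl⟩ := hg
  obtain ⟨h2, hh2, rfl⟩ := hm
  refine ⟨h1 * (R.nWordU l1 * h2 * (R.nWordU l1)⁻¹),
    Subgroup.mul_mem _ hh1 (M.conj_mem _ (R.nWordU_mem l1 hl1) _ hh2), ?_⟩
  rw [R.nWordU_append]
  group

theorem over_diag_mul (l : List ℕ) (h m : GL C.D.Idx F) (hh : h ∈ C.D.diagonalSubgroup F) (hm : OverW R l m) :
    OverW R l (h * m) := by
  obtain ⟨h2, hh2, rfl⟩ := hm
  exact ⟨h * h2, Subgroup.mul_mem _ hh hh2, by group⟩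

theorem over_inv_nWordU (l : List ℕ) (hl : ∀ i ∈ l, i < C.D.rank) :
    OverW R l.reverse (R.nWordU (F := F) l)⁻¹ := by
  obtain ⟨h, hh, e⟩ := M.nWordU_inv (F := F) l hl
  exact ⟨h, hh, e⟩

theorem over_mem (l : List ℕ) (hl : ∀ i ∈ l, i < C.D.rank) (m : GL C.D.Idx F) (hm : OverW R l m) :
    m ∈ C.D.monomialSubgroup F := by
  obtain ⟨h, hh, rfl⟩ := hm
  exact Subgroup.mul_mem _ (Subgroup.mem_sup_left hh) (R.nWordU_mem l hl)

theorem exists_over (m : GL C.D.Idx F) (hm : m ∈ C.D.monomialSubgroup F) :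
    ∃ l : List ℕ, (∀ i ∈ l, i < C.D.rank) ∧ OverW R l m := by
  obtain ⟨h, hh, l, hl, e⟩ := M.monomial_decomp m hm
  exact ⟨l, hl, h, hh, e⟩

theorem over_congr (hdec : ∀ r < C.D.nroots, ∀ s < C.D.nroots, hdecCheck C.D R.pair r s = true)
    (l l' : List ℕ) (hl : ∀ i ∈ l, i < C.D.rank) (hl' : ∀ i ∈ l', i < C.D.rank)
    (hperm : ∀ s < C.D.nroots, reflW R.refl l s = reflW R.refl l' s) (m : GL C.D.Idx F) (hm : OverW R l m) :
    OverW R l' m := by
  obtain ⟨h, hh, rfl⟩ := hm
  obtain ⟨h', hh', e⟩ := M.coset_of_reflW_eq (F := F) hdec l l' hl hl' hperm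
  exact ⟨h * h', Subgroup.mul_mem _ hh hh', by rw [e]; group⟩

/-- Two words over the same element induce the same permutation of the roots. -/
theorem perm_eq_of_over (hdec : ∀ r < C.D.nroots, ∀ s < C.D.nroots, hdecCheck C.D R.pair r s = true)
    (l l' : List ℕ) (hl : ∀ i ∈ l, i < C.D.rank) (hl' : ∀ i ∈ l', i < C.D.rank) (m : GL C.D.Idx F)
    (hm : OverW R l m) (hm' : OverW R l' m) : ∀ s < C.D.nroots, reflW R.refl l s = reflW R.refl l' s := by
  obtain ⟨h, hh, e⟩ := hm
  obtain ⟨h', hh', e'⟩ := hm'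
  have e2 : R.nWordU (F := F) l = (h⁻¹ * h') * R.nWordU l' := by
    have : h * R.nWordU l = h' * R.nWordU l' := e.symm.trans e'
    calc R.nWordU (F := F) l = h⁻¹ * (h * R.nWordU l) := by group
      _ = h⁻¹ * (h' * R.nWordU l') := by rw [this]
      _ = _ := by group
  exact R.reflW_eq_of_coset hdec l l' hl hl' _ (Subgroup.mul_mem _ (Subgroup.inv_mem _ hh) hh') e2

theorem over_nU_simple (i : ℕ) (hi : i < C.D.rank) (c : F) (hc : c ≠ 0) : OverW R [i] (R.nU (C.D.simple i) c) := by
  refine ⟨R.hU (C.D.simple i) c, R.hU_mem _ (R.simple_lt i hi) c hc, ?_⟩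
  rw [R.nWordU_cons, R.nWordU_nil, mul_one, ← R.nU_eq_hU_mul]

/-- The word of the reflection in the root `a`. -/
def reflWord (M : MonoHyp C R) (a : ℕ) : List ℕ := (M.rw a).1 ++ [(M.rw a).2] ++ (M.rw a).1.reverse

theorem reflWord_lt (a : ℕ) (ha : a < C.D.nroots) : ∀ i ∈ reflWord M a, i < C.D.rank := by
  have h := M.rwc a ha
  simp only [rootWordCheck, Bool.and_eq_true, List.all_eq_true, decide_eq_true_eq] at h
  obtain ⟨⟨hl, hj⟩, -⟩ := h
  intro i hi
  unfold reflWord at hi
  simp only [List.mem_append, List.mem_singleton, List.mem_reverse] at hi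
  rcases hi with (hi | rfl) | hi
  · exact hl i hi
  · exact hj
  · exact hl i hi

theorem over_nU (a : ℕ) (ha : a < C.D.nroots) (c : F) (hc : c ≠ 0) : OverW R (reflWord M a) (R.nU a c) := by
  have h := M.rwc a ha
  simp only [rootWordCheck, Bool.and_eq_true, List.all_eq_true, decide_eq_true_eq] at h
  obtain ⟨⟨hl, hj⟩, hr'⟩ := h
  set v := (M.rw a).1 with hv
  set j := (M.rw a).2 with hj'
  have hrel := R.conjRel_word (F := F) v hl
  have hnc := R.negCompat_word M.nr v hl
  have hsj := R.simple_lt j hj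
  have hη : ((etaW R.refl R.eta v (C.D.simple j) : ℤ) : F) ≠ 0 := by
    rcases hrel.sign _ hsj with h1 | h1 <;> rw [h1] <;> simp
  have hηη : ((etaW R.refl R.eta v (C.D.simple j) : ℤ) : F) * ((etaW R.refl R.eta v (C.D.simple j) : ℤ) : F) = 1 := by
    rcases hrel.sign _ hsj with h1 | h1 <;> rw [h1] <;> simp
  have hc' := R.conj_nU hrel hnc (R.nWordU v) (R.nWordU_val v) (C.D.simple j) hsj
    (((etaW R.refl R.eta v (C.D.simple j) : ℤ) : F) * c)
  rw [hr', ← mul_assoc, hηη, one_mul] at hc'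
  rw [← hc']
  unfold reflWord
  exact over_mul M _ _ (by
      intro i hi
      simp only [List.mem_append, List.mem_singleton] at hi
      rcases hi with hi | rfl
      · exact hl i hi
      · exact hj) _ _
    (over_mul M _ _ hl _ _ (over_nWordU v) (over_nU_simple M j hj _ (mul_ne_zero hη hc)))
    (over_inv_nWordU M v hl)

end overSec

section sl2
variable {F : Type*} [Field F] {C : CDatum} {R : RelData C} (Y : AutHyp C R)
  (hcs : ∀ j < C.D.rank, C.D.cartan j (C.D.neg (C.D.simple j)) = -2)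
include Y hcs

theorem relS (s : ℕ) (hs : s < C.D.nroots) :
    Rel (fun t : F => R.xU s t) (fun t : F => R.xU (C.D.neg s) t) :=
  Y.A.B.mono.sl2_rel (F := F) hcs s hs

omit Y hcs in
theorem nE_eq (s : ℕ) (c : F) : nE (fun t : F => R.xU s t) (fun t : F => R.xU (C.D.neg s) t) c = R.nU s c :=
  (R.nU_eq s c).symm

omit Y hcs in
theorem hE_eq (s : ℕ) (c : F) : hE (fun t : F => R.xU s t) (fun t : F => R.xU (C.D.neg s) t) c = R.hU s c := by
  unfold hE
  rw [nE_eq, nE_eq, R.nU_inv, R.hU_eq]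

omit Y hcs in
theorem closure_le_group (s : ℕ) (hs : s < C.D.nroots) (α β : F) :
    Subgroup.closure (Set.range (fun t : F => R.xU s (α * t)) ∪ Set.range (fun t : F => R.xU (C.D.neg s) (β * t))) ≤
      C.D.group F := by
  rw [Subgroup.closure_le]
  rintro _ (⟨t, rfl⟩ | ⟨t, rfl⟩)
  · exact R.xU_mem_group s hs _
  · exact R.xU_mem_group _ (R.neg_lt s hs) _

/-- If `m` exchanges the root subgroups of `s` and `-s` with a square as coefficient, then `m` is conjugate to
`n_s(γ⁻¹) m`. -/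
theorem conj_nU_of_sq (m : GL C.D.Idx F) (s : ℕ) (hs : s < C.D.nroots) (γ : F) (hγ : γ ≠ 0) (h2 : (2 : F) ≠ 0)
    (hX : ∀ t, m * R.xU s t * m⁻¹ = R.xU (C.D.neg s) (γ ^ 2 * t))
    (hY : ∀ t, m * R.xU (C.D.neg s) t * m⁻¹ = R.xU s ((γ ^ 2)⁻¹ * t)) :
    ∃ g ∈ C.D.group F, g * m * g⁻¹ = R.nU s γ⁻¹ * m := by
  obtain ⟨g, hg, e⟩ := G2O.conj_of_sq (relS Y hcs (F := F) s hs) m γ hγ h2 hX hY
  rw [nE_eq] at e
  refine ⟨g, ?_, e⟩
  have := closure_le_group (R := R) s hs (1 : F) 1
  simp only [one_mul] at this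
  exact this hg

/-- If `m` exchanges the root subgroups of `s` and `-s` with the negative of a square as coefficient, then `m`
is conjugate to `h_s(-1) m`. -/
theorem conj_hU_of_negsq (m : GL C.D.Idx F) (s : ℕ) (hs : s < C.D.nroots) (γ : F) (hγ : γ ≠ 0) (p q : F)
    (hq : q ≠ 0) (hpq : p ^ 2 + q ^ 2 = -1)
    (hX : ∀ t, m * R.xU s t * m⁻¹ = R.xU (C.D.neg s) (-(γ ^ 2) * t))
    (hY : ∀ t, m * R.xU (C.D.neg s) t * m⁻¹ = R.xU s ((-(γ ^ 2))⁻¹ * t)) :
    ∃ g ∈ C.D.group F, g * m * g⁻¹ = R.hU s (-1) * m := by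
  have hγi : γ⁻¹ ≠ 0 := inv_ne_zero hγ
  have hrel := Rel.scale (relS Y hcs (F := F) s hs) γ⁻¹ hγi
  have hX' : ∀ t, m * R.xU s (γ⁻¹ * t) * m⁻¹ = R.xU (C.D.neg s) (γ⁻¹⁻¹ * -t) := by
    intro t
    rw [hX]
    congr 1
    field_simp
  have hY' : ∀ t, m * R.xU (C.D.neg s) (γ⁻¹⁻¹ * t) * m⁻¹ = R.xU s (γ⁻¹ * -t) := by
    intro t
    rw [hY]
    congr 1
    field_simp
  obtain ⟨g, hg, e⟩ := G2O.conj_of_neg hrel m p q hq hpq hX' hY'
  rw [hE_scale (relS Y hcs (F := F) s hs) γ⁻¹ hγi (-1) (by simp), hE_eq] at e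
  exact ⟨g, closure_le_group (R := R) s hs _ _ hg, e⟩

omit hcs in
/-- The action of `h_a(c)` on the root elements, for an arbitrary root `a`. -/
theorem hU_conj_xU (a : ℕ) (ha : a < C.D.nroots) (c : F) (hc : c ≠ 0) (s : ℕ) (hs : s < C.D.nroots) (t : F) :
    R.hU a c * R.xU s t * (R.hU a c)⁻¹ = R.xU s (c ^ R.pair a s * t) := by
  have hh := R.hU_mem a ha c hc
  obtain ⟨c', hc', hd, key⟩ := R.diagonal_mul_x Y.A.B.dec (R.hU a c) hh
  have e : R.hU a c * R.xU s t = R.xU s (chiL C c' s * t) * R.hU a c := by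
    apply Units.ext
    rw [Units.val_mul, Units.val_mul, R.xU_val, R.xU_val]
    exact key s hs t
  have hchi : chiL C c' s = c ^ R.pair a s := by
    rw [R.hU_val, R.hMat_diag a ha c hc] at hd
    have h1 := congrFun (Matrix.diagonal_injective hd) (Sum.inr ⟨s, hs⟩)
    unfold RelData.torusExp at h1
    have e2 : ((List.range C.D.rank).map fun i => c' i ^ C.expo R.pair (C.D.simple i) (code C.D (Sum.inr ⟨s, hs⟩))) =
        ((List.range C.D.rank).map fun i => c' i ^ C.D.cartan i s) := by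
      apply List.map_congr_left
      intro i hi
      have hi' := List.mem_range.mp hi
      have e1 := congrFun (R.expo_simple i hi' (c' i)) (Sum.inr ⟨s, hs⟩)
      simp only [Sum.elim_inr] at e1
      exact e1
    rw [e2] at h1
    unfold chiL
    rw [← h1]
    have h3 : Nat.blt (C.D.rank + s) C.D.rank = false := by
      rw [← Bool.not_eq_true, Nat.blt_eq]; omega
    have h4 : C.D.rank + s - C.D.rank = s := by omega
    simp [CDatum.expo, code, h3, h4]
  rw [e, hchi]
  group

end sl2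

end Cfsg.Agent.Lib.Helper3.ChevInv
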