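import Mathlib
import Cfsg.Agent.Lib.Helper3.ChevData.G2CommData
import Cfsg.Agent.Lib.Helper3.ChevTw4
set_option autoImplicit false
set_option linter.unusedSectionVars false
set_option linter.unusedVariables false
set_option linter.unusedSimpArgs false
open Cfsg Cfsg.Lie Cfsg.Agent.Lib.Helper3.ChevM

/-!
Root elements of the Chevalley group of type `G₂` in characteristic two: the commutator relations between the
positive root elements, in the order `7, 6, 8, 9, 10, 11` (that is `a, b, a + b, 2a + b, 3a + b, 3a + 2b`).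
-/

namespace Cfsg.Agent.Lib.Helper3.G2C

variable {K : Type*} [Field K] [CharP K 2]

/-- The root element `x_r(t)`. -/
abbrev X (r : ℕ) (t : K) : GL cdG2.D.Idx K := relG2.xU r t

theorem X_add (r : ℕ) (t u : K) : X r t * X r u = X r (t + u) := relG2.xU_add r t u

theorem X_add' (r : ℕ) (t u : K) (g : GL cdG2.D.Idx K) : X r t * (X r u * g) = X r (t + u) * g := by
  rw [← mul_assoc, X_add]

theorem X_zero (r : ℕ) : X r (0 : K) = 1 := relG2.xU_zero r

theorem X_inv (r : ℕ) (t : K) : (X r t)⁻¹ = X r t := by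
  show (relG2.xU r t)⁻¹ = relG2.xU r t
  rw [relG2.xU_inv, CharTwo.neg_eq]

theorem X_sq (r : ℕ) (t : K) : X r t * X r t = 1 := by
  rw [X_add, CharTwo.add_self_eq_zero, X_zero]

theorem val_list_prod (l : List (GL cdG2.D.Idx K)) :
    (l.prod).val = (l.map Units.val).prod := by
  induction l with
  | nil => simp
  | cons a l ih => rw [List.prod_cons, Units.val_mul, ih, List.map_cons, List.prod_cons]

/-- The commutator relation in characteristic two. -/
theorem g2_swap (r s : ℕ) (hr : r < 12) (hs : s < 12) (h1 : s ≠ r) (h2 : s ≠ cdG2.D.neg r) (t u : K) :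
    X s u * X r t = X r t * X s u *
      ((cdG2.D.commTerms r s).map fun c => X c.1 ((c.2.1 : K) * t ^ c.2.2.1 * u ^ c.2.2.2)).prod := by
  have := commG2.commF (F := K) r s hr hs h1 h2 t u
  rw [CDatum.wordMat_commWord] at this
  apply Units.ext
  rw [Units.val_mul, Units.val_mul, Units.val_mul, relG2.xU_val, relG2.xU_val, this, val_list_prod, List.map_map]
  congr 2
  apply List.map_congr_left
  intro c _
  simp only [Function.comp, relG2.xU_val, CharTwo.neg_eq]

theorem int_two : ((2 : ℤ) : K) = 0 := by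
  have : ((2 : ℤ) : K) = (2 : K) := by norm_cast
  rw [this, CharTwo.two_eq_zero]

theorem int_three : ((3 : ℤ) : K) = 1 := by
  have : ((3 : ℤ) : K) = (2 : K) + 1 := by norm_cast
  rw [this, CharTwo.two_eq_zero, zero_add]

theorem two_K : (2 : K) = 0 := CharTwo.two_eq_zero

theorem three_K : (3 : K) = 1 := by
  have : (3 : K) = 2 + 1 := by norm_num
  rw [this, CharTwo.two_eq_zero, zero_add]

/-- `x_b(u) x_a(t)`. -/
theorem sw_BA (t u : K) : X 6 u * X 7 t =
    X 7 t * (X 6 u * (X 8 (t * u) * (X 9 (t ^ 2 * u) * (X 10 (t ^ 3 * u) * X 11 (t ^ 3 * u ^ 2))))) := by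
  rw [g2_swap 7 6 (by decide) (by decide) (by decide) (by decide) t u]
  rw [show cdG2.D.commTerms 7 6 = [(8, -1, 1, 1), (9, 1, 2, 1), (10, 1, 3, 1), (11, 1, 3, 2)] from by decide]
  simp [mul_assoc, CharTwo.neg_eq]

/-- `x_{a+b}(c) x_a(t)`. -/
theorem sw_CA (t c : K) : X 8 c * X 7 t = X 7 t * (X 8 c * (X 10 (t ^ 2 * c) * X 11 (t * c ^ 2))) := by
  rw [g2_swap 7 8 (by decide) (by decide) (by decide) (by decide) t c]
  rw [show cdG2.D.commTerms 7 8 = [(9, -2, 1, 1), (10, -3, 2, 1), (11, 3, 1, 2)] from by decide]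
  simp [mul_assoc, CharTwo.neg_eq, int_two, int_three, two_K, three_K, X_zero]

/-- `x_{2a+b}(d) x_a(t)`. -/
theorem sw_DA (t d : K) : X 9 d * X 7 t = X 7 t * (X 9 d * X 10 (t * d)) := by
  rw [g2_swap 7 9 (by decide) (by decide) (by decide) (by decide) t d]
  rw [show cdG2.D.commTerms 7 9 = [(10, 3, 1, 1)] from by decide]
  simp [mul_assoc, CharTwo.neg_eq, int_two, int_three, two_K, three_K, X_zero]

theorem sw_EA (t v : K) : X 10 v * X 7 t = X 7 t * X 10 v :=
  (commG2.xU_comm 7 10 (by decide) (by decide) (by decide) t v).symm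

theorem sw_ZA (t w : K) : X 11 w * X 7 t = X 7 t * X 11 w :=
  (commG2.xU_comm 7 11 (by decide) (by decide) (by decide) t w).symm

theorem sw_CB (u c : K) : X 8 c * X 6 u = X 6 u * X 8 c :=
  (commG2.xU_comm 6 8 (by decide) (by decide) (by decide) u c).symm

theorem sw_DB (u d : K) : X 9 d * X 6 u = X 6 u * X 9 d :=
  (commG2.xU_comm 6 9 (by decide) (by decide) (by decide) u d).symm

/-- `x_{3a+b}(v) x_b(u)`. -/
theorem sw_EB (u v : K) : X 10 v * X 6 u = X 6 u * (X 10 v * X 11 (u * v)) := by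
  rw [g2_swap 6 10 (by decide) (by decide) (by decide) (by decide) u v]
  rw [show cdG2.D.commTerms 6 10 = [(11, 1, 1, 1)] from by decide]
  simp [mul_assoc, CharTwo.neg_eq, int_two, int_three, two_K, three_K, X_zero]

theorem sw_ZB (u w : K) : X 11 w * X 6 u = X 6 u * X 11 w :=
  (commG2.xU_comm 6 11 (by decide) (by decide) (by decide) u w).symm

/-- `x_{2a+b}(d) x_{a+b}(c)`. -/
theorem sw_DC (c d : K) : X 9 d * X 8 c = X 8 c * (X 9 d * X 11 (c * d)) := by
  rw [g2_swap 8 9 (by decide) (by decide) (by decide) (by decide) c d]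
  rw [show cdG2.D.commTerms 8 9 = [(11, 3, 1, 1)] from by decide]
  simp [mul_assoc, CharTwo.neg_eq, int_two, int_three, two_K, three_K, X_zero]

theorem sw_EC (c v : K) : X 10 v * X 8 c = X 8 c * X 10 v :=
  (commG2.xU_comm 8 10 (by decide) (by decide) (by decide) c v).symm

theorem sw_ZC (c w : K) : X 11 w * X 8 c = X 8 c * X 11 w :=
  (commG2.xU_comm 8 11 (by decide) (by decide) (by decide) c w).symm

theorem sw_ED (d v : K) : X 10 v * X 9 d = X 9 d * X 10 v :=
  (commG2.xU_comm 9 10 (by decide) (by decide) (by decide) d v).symm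

theorem sw_ZD (d w : K) : X 11 w * X 9 d = X 9 d * X 11 w :=
  (commG2.xU_comm 9 11 (by decide) (by decide) (by decide) d w).symm

theorem sw_ZE (v w : K) : X 11 w * X 10 v = X 10 v * X 11 w :=
  (commG2.xU_comm 10 11 (by decide) (by decide) (by decide) v w).symm

end Cfsg.Agent.Lib.Helper3.G2C
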