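import Mathlib
import Cfsg.Agent.Lib.Helper3.G2C1
import Cfsg.Agent.Lib.Helper3.G2Inv4
import Cfsg.Agent.Lib.Helper3.ChevSL2
import Cfsg.Agent.Lib.Helper3.ChevTw5
import Cfsg.Agent.Lib.Helper3.ChevAutG2
set_option autoImplicit false
set_option linter.unusedSectionVars false
set_option linter.unusedVariables false
set_option linter.unusedSimpArgs false
set_option maxRecDepth 100000
open Cfsg Cfsg.Lie Cfsg.Agent.Lib.Helper3.ChevM

/-!
The Chevalley group of type `G₂` in characteristic two as an instance of the abstract system of type `G₂`.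
-/

namespace Cfsg.Agent.Lib.Helper3.G2C

open Cfsg.Agent.Lib.Helper3.ChevAt Cfsg.Agent.Lib.Helper3.ChevAut Cfsg.Agent.Lib.Helper3.ChevU

variable {K : Type*} [Field K] [CharP K 2]

theorem intCast_sign (η : ℤ) (h : η = 1 ∨ η = -1) : ((η : ℤ) : K) = 1 := by
  rcases h with rfl | rfl
  · simp
  · simp [CharTwo.neg_eq]

/-- Conjugation of a root element by the representative of a word, in characteristic two. -/
theorem nw_conj (l : List ℕ) (hl : ∀ i ∈ l, i < cdG2.D.rank) (k : ℕ) (hk : k < cdG2.D.nroots) (t : K) :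
    relG2.nWordU l * X k t * (relG2.nWordU l)⁻¹ = X (reflW relG2.refl l k) t := by
  have hrel := relG2.conjRel_word (F := K) l hl
  rw [relG2.conj_units hrel (relG2.nWordU l) (relG2.nWordU_val l) k hk t, intCast_sign _ (hrel.sign k hk), one_mul]

/-- The representative of the reflection in the short fundamental root. -/
def na : GL cdG2.D.Idx K := relG2.nWordU [0]
/-- The representative of the reflection in the long fundamental root. -/
def nb : GL cdG2.D.Idx K := relG2.nWordU [1]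

theorem na_conj (k : ℕ) (hk : k < 12) (t : K) :
    na * X k t * (na : GL cdG2.D.Idx K)⁻¹ = X (reflW relG2.refl [0] k) t :=
  nw_conj _ (by decide) k hk t

theorem nb_conj (k : ℕ) (hk : k < 12) (t : K) :
    nb * X k t * (nb : GL cdG2.D.Idx K)⁻¹ = X (reflW relG2.refl [1] k) t :=
  nw_conj _ (by decide) k hk t

theorem reflA : ∀ k < 12, reflW relG2.refl [0] k = (#[0, 5, 3, 2, 7, 1, 10, 4, 9, 8, 6, 11] : Array ℕ).getD k 0 := by
  decide

theorem reflB : ∀ k < 12, reflW relG2.refl [1] k = (#[1, 0, 2, 4, 3, 6, 5, 8, 7, 9, 11, 10] : Array ℕ).getD k 0 := by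
  decide

theorem hU_conj (i s : ℕ) (hi : i < cdG2.D.rank) (hs : s < cdG2.D.nroots) (c : K) (hc : c ≠ 0) (t : K) :
    relG2.hU (cdG2.D.simple i) c * X s t * (relG2.hU (cdG2.D.simple i) c)⁻¹ = X s (c ^ (cdG2.D.cartan i s) * t) :=
  relG2.hU_conj_xU i s hi hs c hc t

/-- The order of the positive roots used for normal forms. -/
def posL : List ℕ := [7, 6, 8, 9, 10, 11]

/-- The normal form of an element of `U`. -/
def nf (a u c d v w : K) : GL cdG2.D.Idx K := X 7 a * (X 6 u * (X 8 c * (X 9 d * (X 10 v * X 11 w))))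

/-- The coordinates of a normal form. -/
def coordFn (a u c d v w : K) : ℕ → K := fun r =>
  if r = 7 then a else if r = 6 then u else if r = 8 then c else if r = 9 then d else
  if r = 10 then v else if r = 11 then w else 0

theorem lp_coordFn (a u c d v w : K) : relG2.lp posL (coordFn a u c d v w) = nf a u c d v w := by
  simp [RelData.lp, ChevU.RootSys.lprod, posL, coordFn, nf, X, mul_assoc]

theorem posL_nodup : posL.Nodup := by decide

theorem mem_posL : ∀ r, r ∈ posL ↔ cdG2.D.IsPosRoot r := by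
  intro r
  constructor
  · intro h
    simp only [posL, List.mem_cons, List.not_mem_nil, or_false] at h
    rcases h with rfl | rfl | rfl | rfl | rfl | rfl <;> decide
  · rintro ⟨h1, h2⟩
    have h12 : r < 12 := h1
    have : ∀ r < 12, cdG2.D.IsPosRoot r → r ∈ posL := by decide
    exact this r h12 ⟨h1, h2⟩

theorem len_G2 : cdG2.D.posRoots.length = cdG2.D.nroots / 2 := by decide

variable [Fintype K]

theorem nf_inj (a u c d v w a' u' c' d' v' w' : K)
    (h : nf a u c d v w = nf a' u' c' d' v' w') :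
    a = a' ∧ u = u' ∧ c = c' ∧ d = d' ∧ v = v' ∧ w = w' := by
  rw [← lp_coordFn, ← lp_coordFn] at h
  have key := uhypG2.lp_inj_of_fintype len_G2 posL posL_nodup mem_posL _ _ h
  refine ⟨?_, ?_, ?_, ?_, ?_, ?_⟩
  · simpa [coordFn] using key 7 (by decide)
  · simpa [coordFn] using key 6 (by decide)
  · simpa [coordFn] using key 8 (by decide)
  · simpa [coordFn] using key 9 (by decide)
  · simpa [coordFn] using key 10 (by decide)
  · simpa [coordFn] using key 11 (by decide)

theorem nf_mem_pos (a u c d v w : K) : nf a u c d v w ∈ cdG2.D.posUnipotent K := by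
  rw [← lp_coordFn]
  exact uhypG2.lp_mem posL (fun r hr => (mem_posL r).mp hr) _

theorem exists_nf (g : GL cdG2.D.Idx K) (hg : g ∈ cdG2.D.posUnipotent K) :
    ∃ a u c d v w : K, g = nf a u c d v w := by
  obtain ⟨t, -, hgt⟩ := uhypG2.K.exists_word (F := K) uhypG2.col uhypG2.inj posL posL_nodup mem_posL g hg
  refine ⟨t 7, t 6, t 8, t 9, t 10, t 11, ?_⟩
  rw [hgt, ← lp_coordFn]
  apply relG2.lp_congr
  intro r hr
  simp only [posL, List.mem_cons, List.not_mem_nil, or_false] at hr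
  rcases hr with rfl | rfl | rfl | rfl | rfl | rfl <;> simp [coordFn]

theorem X_mem (r : ℕ) (hr : r < 12) (t : K) : X r t ∈ cdG2.D.group K := relG2.xU_mem_group r hr t

theorem na_mem : (na : GL cdG2.D.Idx K) ∈ cdG2.D.group K :=
  relG2.monomialSubgroup_le_group (relG2.nWordU_mem _ (by decide))

theorem nb_mem : (nb : GL cdG2.D.Idx K) ∈ cdG2.D.group K :=
  relG2.monomialSubgroup_le_group (relG2.nWordU_mem _ (by decide))

theorem hU_mem_group (i : ℕ) (hi : i < 2) (c : K) (hc : c ≠ 0) : relG2.hU (cdG2.D.simple i) c ∈ cdG2.D.group K :=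
  relG2.diagonalSubgroup_le_group (relG2.hU_mem _ (relG2.simple_lt i hi) c hc)

theorem exists_sq (x : K) : ∃ y : K, y ^ 2 = x := by
  obtain ⟨ν, hν⟩ := FiniteField.isSquare_of_char_two (ringChar.eq K 2) x
  exact ⟨ν, by rw [hν, sq]⟩

/-- The system of type `G₂` attached to the Chevalley group of type `G₂` in characteristic two. -/
noncomputable def g2Sys : G2Inv.Sys (GL cdG2.D.Idx K) K (⊤ : Subfield K) where
  A := X 7
  B u := X 6 (u : K)
  C := X 8
  D := X 9
  E v := X 10 (v : K)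
  Z w := X 11 (w : K)
  f1 a u := a ^ 2 * u
  f2 a u := ⟨a ^ 3 * u, trivial⟩
  f3 a u := ⟨a ^ 3 * (u : K) ^ 2, trivial⟩
  cr a c := 0
  g2 a c := ⟨a ^ 2 * c, trivial⟩
  g3 a c := ⟨a * c ^ 2, trivial⟩
  T1 a d := ⟨a * d, trivial⟩
  T c d := ⟨c * d, trivial⟩
  N c := ⟨c ^ 3, trivial⟩
  A_add := X_add 7
  B_add s t := X_add 6 _ _
  C_add := X_add 8
  D_add := X_add 9
  E_add s t := X_add 10 _ _
  Z_add s t := X_add 11 _ _
  BA u a := sw_BA a (u : K)
  CA c a := by
    show X 8 c * X 7 a = X 7 a * (X 8 c * (X 9 0 * (X 10 (a ^ 2 * c) * X 11 (a * c ^ 2))))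
    rw [X_zero, one_mul]
    exact sw_CA a c
  DA d a := sw_DA a d
  EA v a := sw_EA a (v : K)
  ZA w a := sw_ZA a (w : K)
  CB c u := sw_CB (u : K) c
  DB d u := sw_DB (u : K) d
  EB v u := sw_EB (u : K) (v : K)
  ZB w u := sw_ZB (u : K) (w : K)
  DC d c := sw_DC c d
  EC v c := sw_EC c (v : K)
  ZC w c := sw_ZC c (w : K)
  ED v d := sw_ED d (v : K)
  ZD w d := sw_ZD d (w : K)
  ZE w v := sw_ZE (v : K) (w : K)
  inj a u c d v w a' u' c' d' v' w' h := by
    obtain ⟨h1, h2, h4, h5, h6, h7⟩ := nf_inj a u c d v w a' u' c' d' v' w' h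
    exact ⟨h1, Subtype.ext h2, h4, h5, Subtype.ext h6, Subtype.ext h7⟩
  T_zero d := Subtype.ext (by simp)
  T1_zero a := Subtype.ext (by simp)
  T_surj_right c hc x := ⟨c⁻¹ * x, Subtype.ext (by show c * (c⁻¹ * (x : K)) = x; rw [← mul_assoc, mul_inv_cancel₀ hc, one_mul])⟩
  T_surj_left d hd x := ⟨x * d⁻¹, Subtype.ext (by show (x : K) * d⁻¹ * d = x; rw [mul_assoc, inv_mul_cancel₀ hd, mul_one])⟩
  cr_ker a c ha h := ⟨⟨c * a⁻¹, trivial⟩, by show c = c * a⁻¹ * a; rw [mul_assoc, inv_mul_cancel₀ ha, mul_one]⟩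
  cr_surj c d hc h := by
    have h1 : c * d = 0 := congrArg Subtype.val h
    rcases mul_eq_zero.mp h1 with h2 | h2
    · exact absurd h2 hc
    · exact ⟨0, h2.symm⟩
  cr_self l c := rfl
  g2_self l c := Subtype.ext (by show ((l : K) * c) ^ 2 * c = (l : K) ^ 2 * c ^ 3; ring)
  N_ne c hc h := by
    have h1 : c ^ 3 = 0 := congrArg Subtype.val h
    exact hc (pow_eq_zero_iff (by norm_num) |>.mp h1)
  sq_surj x := by
    obtain ⟨y, hy⟩ := exists_sq (x : K)
    exact ⟨⟨y, trivial⟩, Subtype.ext hy⟩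
  Γ := cdG2.D.group K
  A_mem a := X_mem 7 (by decide) a
  B_mem u := X_mem 6 (by decide) _
  C_mem c := X_mem 8 (by decide) c
  D_mem d := X_mem 9 (by decide) d
  E_mem v := X_mem 10 (by decide) _
  na := na
  nb := nb
  na_mem := na_mem
  nb_mem := nb_mem
  na_B u := by rw [na_conj 6 (by decide)]; rfl
  na_D d := ⟨d, id, by rw [na_conj 9 (by decide)]; rfl⟩
  nb_A a := ⟨a, id, by rw [nb_conj 7 (by decide)]; rfl⟩
  nb_C c := ⟨c, id, by rw [nb_conj 8 (by decide)]; rfl⟩
  nb_D d := ⟨d, id, by rw [nb_conj 9 (by decide)]; rfl⟩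
  nb_E v := by rw [nb_conj 10 (by decide)]; rfl
  nb_Z w := by rw [nb_conj 11 (by decide)]; rfl
  hA a ha := by
    refine ⟨relG2.hU (cdG2.D.simple 1) a, hU_mem_group 1 (by decide) a ha, ?_⟩
    rw [hU_conj 1 7 (by decide) (by decide) a ha a]
    have e : cdG2.D.cartan 1 7 = -1 := by decide
    rw [e, zpow_neg_one, inv_mul_cancel₀ ha]
  hB u hu := by
    have hu0 : (u : K) ≠ 0 := fun h => hu (Subtype.ext h)
    obtain ⟨y, hy⟩ := exists_sq ((u : K)⁻¹)
    have hy0 : y ≠ 0 := by
      rintro rfl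
      rw [zero_pow (by norm_num)] at hy
      exact inv_ne_zero hu0 hy.symm
    refine ⟨relG2.hU (cdG2.D.simple 1) y, hU_mem_group 1 (by decide) y hy0, ?_⟩
    rw [hU_conj 1 6 (by decide) (by decide) y hy0 (u : K)]
    have e : cdG2.D.cartan 1 6 = 2 := by decide
    rw [e]
    have : y ^ (2 : ℤ) * (u : K) = 1 := by
      have h2 : y ^ (2 : ℤ) = y ^ 2 := by norm_cast
      rw [h2, hy, inv_mul_cancel₀ hu0]
    rw [this]
    rfl

end Cfsg.Agent.Lib.Helper3.G2C
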