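import Mathlib
import Cfsg.Agent.Lib.Helper3.G2C2
import Cfsg.Agent.Lib.Helper3.HiRoot4
import Cfsg.Agent.Lib.Helper3.ChevAt4
import Cfsg.Agent.Lib.Helper3.ChevAut2
import Cfsg.Agent.Lib.Helper3.ChevN1
import Cfsg.Agent.Lib.Helper3.ChevU4
set_option autoImplicit false
set_option linter.unusedSectionVars false
set_option linter.unusedVariables false
set_option linter.unusedSimpArgs false
set_option maxRecDepth 100000
open Cfsg Cfsg.Lie Cfsg.Agent.Lib.Helper3.ChevM

/-!
The Weyl group of type `G₂` (twelve canonical words), the normal form of the elements of the Chevalley group of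
type `G₂`, and the non-conjugacy of short and long root elements in characteristic two.
-/

namespace Cfsg.Agent.Lib.Helper3.G2C

open Cfsg.Agent.Lib.Helper3.ChevAt Cfsg.Agent.Lib.Helper3.ChevAut Cfsg.Agent.Lib.Helper3.ChevU

/-- The twelve elements of the Weyl group as words. -/
def W12 : List (List ℕ) :=
  [[], [0], [1], [0, 1], [1, 0], [0, 1, 0], [1, 0, 1], [0, 1, 0, 1], [1, 0, 1, 0], [0, 1, 0, 1, 0],
    [1, 0, 1, 0, 1], [0, 1, 0, 1, 0, 1]]

/-- The permutation of the roots induced by a word, as a list. -/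
def perm (l : List ℕ) : List ℕ := (List.range 12).map (reflW relG2.refl l)

theorem perm_cons (i : ℕ) (l : List ℕ) : perm (i :: l) = (perm l).map (relG2.refl i) := by
  unfold perm
  rw [List.map_map]
  rfl

theorem W12_closed : ∀ i < 2, ∀ l' ∈ W12, ∃ l'' ∈ W12, (perm l').map (relG2.refl i) = perm l'' := by
  decide

theorem exists_canon (l : List ℕ) (hl : ∀ i ∈ l, i < 2) : ∃ l' ∈ W12, perm l = perm l' := by
  induction l with
  | nil => exact ⟨[], by decide, rfl⟩
  | cons i l ih =>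
    obtain ⟨l', hl', e⟩ := ih (fun j hj => hl j (List.mem_cons_of_mem _ hj))
    obtain ⟨l'', hl'', e'⟩ := W12_closed i (hl i List.mem_cons_self) l' hl'
    exact ⟨l'', hl'', by rw [perm_cons, e, e']⟩

theorem reflW_eq_of_perm (l l' : List ℕ) (h : perm l = perm l') (k : ℕ) (hk : k < 12) :
    reflW relG2.refl l k = reflW relG2.refl l' k := by
  have h1 : (perm l)[k]? = (perm l')[k]? := by rw [h]
  simpa [perm, hk] using h1

/-- Each element of the Weyl group maps some long root to the highest root. -/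
theorem W12_long : ∀ l' ∈ W12, ∃ s ∈ [0, 1, 5, 6, 10, 11], reflW relG2.refl l' s = 11 := by decide

theorem exists_long (l : List ℕ) (hl : ∀ i ∈ l, i < 2) :
    ∃ s ∈ [0, 1, 5, 6, 10, 11], reflW relG2.refl l s = 11 := by
  obtain ⟨l', hl', e⟩ := exists_canon l hl
  obtain ⟨s, hs, e'⟩ := W12_long l' hl'
  refine ⟨s, hs, ?_⟩
  rw [reflW_eq_of_perm l l' e s]
  · exact e'
  · simp only [List.mem_cons, List.not_mem_nil, or_false] at hs
    rcases hs with rfl | rfl | rfl | rfl | rfl | rfl <;> decide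

section
variable {K : Type*} [Field K] [CharP K 2] [Fintype K]

/-- The table checks of type `G₂` used for the intersection of `U` and `V`. -/
def atG2 : AtHyp cdG2 relG2 := autHypG2.A

theorem pos_or_neg : ∀ s < 12, cdG2.D.IsPosRoot s ∨ cdG2.D.IsNegRoot s := by decide

/-- The normal form of the elements of the group. -/
theorem normal_form (g : GL cdG2.D.Idx K) (hg : g ∈ cdG2.D.group K) :
    ∃ u₁ ∈ cdG2.D.posUnipotent K, ∃ h₁ ∈ cdG2.D.diagonalSubgroup K, ∃ h₀ ∈ cdG2.D.diagonalSubgroup K,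
      ∃ l : List ℕ, (∀ i ∈ l, i < 2) ∧
      ∃ u ∈ uMinus cdG2.D K (h₀ * relG2.nWordU l), g = u₁ * h₁ * (h₀ * relG2.nWordU l) * u := by
  obtain ⟨b, hb, n, hn, u, hu, rfl⟩ :=
    (uhypG2.bruhat_normal_form (F := K) bnG2 g2NegTri (fun r hr => pos_or_neg r hr)).1 g hg
  obtain ⟨hHU, -⟩ := relG2.diagonal_normalizes (F := K) bnG2.dec bnG2.mono.tri
  have hset := Subgroup.coe_mul_of_right_le_normalizer_left (cdG2.D.posUnipotent K) (cdG2.D.diagonalSubgroup K) hHU
  have hb' : b ∈ ((cdG2.D.posUnipotent K ⊔ cdG2.D.diagonalSubgroup K : Subgroup _) : Set _) := hb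
  rw [hset] at hb'
  obtain ⟨u₁, hu₁, h₁, hh₁, rfl⟩ := Set.mem_mul.mp hb'
  obtain ⟨h₀, hh₀, l, hl, rfl⟩ := bnG2.mono.monomial_decomp n hn
  exact ⟨u₁, hu₁, h₁, hh₁, h₀, hh₀, l, hl, u, hu, rfl⟩

end

end Cfsg.Agent.Lib.Helper3.G2C
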