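import Mathlib
import Cfsg.Agent.Lib.Helper3.G2C3
set_option autoImplicit false
set_option linter.unusedSectionVars false
set_option linter.unusedVariables false
set_option linter.unusedSimpArgs false
set_option maxRecDepth 100000
open Cfsg Cfsg.Lie Cfsg.Agent.Lib.Helper3.ChevM

/-!
The Chevalley group of type `G₂` over an arbitrary field: root elements, the diagonal subgroup, the action of
the monomial subgroup on the root subgroups.
-/

namespace Cfsg.Agent.Lib.Helper3.G2O

open Cfsg.Agent.Lib.Helper3.ChevAt Cfsg.Agent.Lib.Helper3.ChevAut Cfsg.Agent.Lib.Helper3.ChevU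
open Cfsg.Agent.Lib.Helper3.G2C (W12 perm exists_canon reflW_eq_of_perm posL mem_posL posL_nodup len_G2 atG2)

section
variable {K : Type*} [Field K]

/-- The root element `x_r(t)`. -/
abbrev X (r : ℕ) (t : K) : GL cdG2.D.Idx K := relG2.xU r t

theorem X_add (r : ℕ) (t u : K) : X r t * X r u = X r (t + u) := relG2.xU_add r t u

theorem X_zero (r : ℕ) : X r (0 : K) = 1 := relG2.xU_zero r

theorem X_inv (r : ℕ) (t : K) : (X r t)⁻¹ = X r (-t) := relG2.xU_inv r t

theorem X_mem_group (r : ℕ) (hr : r < 12) (t : K) : X r t ∈ cdG2.D.group K := relG2.xU_mem_group r hr t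

theorem X_mem_root (r : ℕ) (t : K) : X r t ∈ cdG2.D.rootSubgroup K r := relG2.xU_mem_rootSubgroup r t

theorem X_pos (r : ℕ) (hr : cdG2.D.IsPosRoot r) (c : K) : X r c ∈ cdG2.D.posUnipotent K := xU_mem_pos atG2 r hr c

theorem X_neg (r : ℕ) (hr : cdG2.D.IsNegRoot r) (c : K) : X r c ∈ cdG2.D.negUnipotent K := xU_mem_neg atG2 r hr c

theorem pos_or_neg (r : ℕ) (hr : r < 12) : cdG2.D.IsPosRoot r ∨ cdG2.D.IsNegRoot r :=
  Cfsg.Agent.Lib.Helper3.G2C.pos_or_neg r hr

/-- Root elements are injective in the parameter. -/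
theorem X_inj (r : ℕ) (hr : r < 12) (a b : K) (h : X r a = X r b) : a = b := by
  rcases pos_or_neg r hr with hp | hn
  · exact uhypG2.xU_inj_pos' r hp a b h
  · exact xU_inj_neg atG2 autHypG2.w0 autHypG2.w0l (fun r hr => autHypG2.w0neg r hr.1 hr) r hn a b h

theorem X_eq_one (r : ℕ) (hr : r < 12) (c : K) (h : X r c = 1) : c = 0 := by
  rw [← X_zero r] at h
  exact X_inj r hr _ _ h

/-- The elements of a root subgroup. -/
theorem mem_rootSubgroup (r : ℕ) (g : GL cdG2.D.Idx K) : g ∈ cdG2.D.rootSubgroup K r ↔ ∃ t : K, g = X r t := by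
  constructor
  · intro hg
    exact relG2.mem_rootSubgroup r g hg
  · rintro ⟨t, rfl⟩
    exact relG2.xU_mem_rootSubgroup r t

theorem pos_inf_neg' : cdG2.D.posUnipotent K ⊓ cdG2.D.negUnipotent K = ⊥ := pos_inf_neg atG2

/-- Conjugation of a root element by the representative of a word. -/
theorem nw_conj (l : List ℕ) (hl : ∀ i ∈ l, i < cdG2.D.rank) (k : ℕ) (hk : k < cdG2.D.nroots) (t : K) :
    relG2.nWordU l * X k t * (relG2.nWordU l)⁻¹ =
      X (reflW relG2.refl l k) (((etaW relG2.refl relG2.eta l k : ℤ) : K) * t) := by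
  have hrel := relG2.conjRel_word (F := K) l hl
  exact relG2.conj_units hrel (relG2.nWordU l) (relG2.nWordU_val l) k hk t

theorem etaW_sign (l : List ℕ) (hl : ∀ i ∈ l, i < cdG2.D.rank) (k : ℕ) (hk : k < cdG2.D.nroots) :
    etaW relG2.refl relG2.eta l k = 1 ∨ etaW relG2.refl relG2.eta l k = -1 :=
  (relG2.conjRel_word (F := ℚ) l hl).sign k hk

theorem etaW_ne_zero (l : List ℕ) (hl : ∀ i ∈ l, i < cdG2.D.rank) (k : ℕ) (hk : k < cdG2.D.nroots) :
    ((etaW relG2.refl relG2.eta l k : ℤ) : K) ≠ 0 := by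
  rcases etaW_sign l hl k hk with h | h <;> rw [h] <;> simp

/-- The diagonal element `h_a(λ) h_b(μ)`. -/
def T (lam mu : K) : GL cdG2.D.Idx K := relG2.hU 7 lam * relG2.hU 6 mu

theorem T_mem (lam mu : K) (hl : lam ≠ 0) (hm : mu ≠ 0) : T lam mu ∈ cdG2.D.diagonalSubgroup K :=
  Subgroup.mul_mem _ (relG2.hU_mem 7 (by decide) lam hl) (relG2.hU_mem 6 (by decide) mu hm)

theorem hU_one (r : ℕ) (hr : r < 12) : relG2.hU r (1 : K) = 1 := by
  apply Units.ext
  rw [relG2.hU_val, relG2.hMat_diag r hr 1 one_ne_zero]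
  simp

theorem T_one : T (1 : K) 1 = 1 := by
  unfold T
  rw [hU_one 7 (by decide), hU_one 6 (by decide), one_mul]

/-- The elements of the diagonal subgroup. -/
theorem exists_T (h : GL cdG2.D.Idx K) (hh : h ∈ cdG2.D.diagonalSubgroup K) :
    ∃ lam mu : K, lam ≠ 0 ∧ mu ≠ 0 ∧ h = T lam mu := by
  obtain ⟨c, hc, hgc⟩ := relG2.diagonalSubgroup_le_torus bnG2.dec hh
  refine ⟨c 0, c 1, hc 0 (by decide), hc 1 (by decide), ?_⟩
  apply Units.ext
  unfold T
  rw [hgc, ← relG2.hProd_eq_diag c hc, Units.val_mul, relG2.hU_val, relG2.hU_val]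
  have : List.range cdG2.D.rank = [0, 1] := by decide
  rw [this]
  simp only [List.map_cons, List.map_nil, List.prod_cons, List.prod_nil, mul_one]
  rfl

theorem hU_conj (i s : ℕ) (hi : i < cdG2.D.rank) (hs : s < cdG2.D.nroots) (c : K) (hc : c ≠ 0) (t : K) :
    relG2.hU (cdG2.D.simple i) c * X s t * (relG2.hU (cdG2.D.simple i) c)⁻¹ = X s (c ^ (cdG2.D.cartan i s) * t) :=
  relG2.hU_conj_xU i s hi hs c hc t

/-- The action of the diagonal elements on the root elements. -/
theorem T_conj (lam mu : K) (hl : lam ≠ 0) (hm : mu ≠ 0) (s : ℕ) (hs : s < 12) (t : K) :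
    T lam mu * X s t * (T lam mu)⁻¹ =
      X s (lam ^ (cdG2.D.cartan 0 s) * mu ^ (cdG2.D.cartan 1 s) * t) := by
  have h1 := hU_conj 1 s (by decide) hs mu hm t
  have h0 := hU_conj 0 s (by decide) hs lam hl (mu ^ (cdG2.D.cartan 1 s) * t)
  have e0 : cdG2.D.simple 0 = 7 := by decide
  have e1 : cdG2.D.simple 1 = 6 := by decide
  rw [e1] at h1
  rw [e0] at h0
  unfold T
  rw [mul_assoc (lam ^ _), ← h0, ← h1]
  group

/-- The character of the diagonal subgroup attached to a root. -/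
def chi (lam mu : K) (s : ℕ) : K := lam ^ (cdG2.D.cartan 0 s) * mu ^ (cdG2.D.cartan 1 s)

theorem chi_ne_zero (lam mu : K) (hl : lam ≠ 0) (hm : mu ≠ 0) (s : ℕ) : chi lam mu s ≠ 0 :=
  mul_ne_zero (zpow_ne_zero _ hl) (zpow_ne_zero _ hm)

theorem T_conj' (lam mu : K) (hl : lam ≠ 0) (hm : mu ≠ 0) (s : ℕ) (hs : s < 12) (t : K) :
    T lam mu * X s t * (T lam mu)⁻¹ = X s (chi lam mu s * t) := T_conj lam mu hl hm s hs t

/-- The diagonal subgroup acts on each root subgroup through a character. -/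
theorem diag_conj (h : GL cdG2.D.Idx K) (hh : h ∈ cdG2.D.diagonalSubgroup K) (s : ℕ) (hs : s < 12) :
    ∃ c : K, c ≠ 0 ∧ ∀ t : K, h * X s t * h⁻¹ = X s (c * t) := by
  obtain ⟨lam, mu, hl, hm, rfl⟩ := exists_T h hh
  exact ⟨chi lam mu s, chi_ne_zero lam mu hl hm s, fun t => T_conj' lam mu hl hm s hs t⟩


theorem cartan0 : ∀ s < 12, cdG2.D.cartan 0 s = ([0,-3,-1,1,-2,3,-3,2,-1,1,3,0] : List ℤ).getD s 0 := by decide

theorem cartan1 : ∀ s < 12, cdG2.D.cartan 1 s = ([-1,1,0,-1,1,-2,2,-1,1,0,-1,1] : List ℤ).getD s 0 := by decide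

theorem chi_eq (lam mu : K) (s : ℕ) (hs : s < 12) :
    chi lam mu s = lam ^ (([0,-3,-1,1,-2,3,-3,2,-1,1,3,0] : List ℤ).getD s 0) *
      mu ^ (([-1,1,0,-1,1,-2,2,-1,1,0,-1,1] : List ℤ).getD s 0) := by
  unfold chi
  rw [cartan0 s hs, cartan1 s hs]

theorem lam_of_chi (lam mu : K) (hl : lam ≠ 0) (hm : mu ≠ 0) : lam = (chi lam mu 7) ^ 2 * chi lam mu 6 := by
  rw [chi_eq lam mu 7 (by norm_num), chi_eq lam mu 6 (by norm_num)]
  simp
  field_simp

theorem mu_of_chi (lam mu : K) (hl : lam ≠ 0) (hm : mu ≠ 0) : mu = (chi lam mu 7) ^ 3 * (chi lam mu 6) ^ 2 := by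
  rw [chi_eq lam mu 7 (by norm_num), chi_eq lam mu 6 (by norm_num)]
  simp
  field_simp

/-- The parametrization of the diagonal subgroup is injective. -/
theorem T_inj (lam mu lam' mu' : K) (hl : lam ≠ 0) (hm : mu ≠ 0) (hl' : lam' ≠ 0) (hm' : mu' ≠ 0)
    (h : T lam mu = T lam' mu') : lam = lam' ∧ mu = mu' := by
  have h7 : chi lam mu 7 = chi lam' mu' 7 := by
    have e1 := T_conj' lam mu hl hm 7 (by norm_num) 1
    have e2 := T_conj' lam' mu' hl' hm' 7 (by norm_num) 1
    rw [h, e2] at e1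
    have := X_inj 7 (by norm_num) _ _ e1
    simpa using this.symm
  have h6 : chi lam mu 6 = chi lam' mu' 6 := by
    have e1 := T_conj' lam mu hl hm 6 (by norm_num) 1
    have e2 := T_conj' lam' mu' hl' hm' 6 (by norm_num) 1
    rw [h, e2] at e1
    have := X_inj 6 (by norm_num) _ _ e1
    simpa using this.symm
  constructor
  · rw [lam_of_chi lam mu hl hm, lam_of_chi lam' mu' hl' hm', h7, h6]
  · rw [mu_of_chi lam mu hl hm, mu_of_chi lam' mu' hl' hm', h7, h6]

/-- Two diagonal elements acting in the same way on the fundamental root elements are equal. -/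
theorem diag_ext (h h' : GL cdG2.D.Idx K) (hh : h ∈ cdG2.D.diagonalSubgroup K) (hh' : h' ∈ cdG2.D.diagonalSubgroup K)
    (h7 : h * X 7 (1 : K) * h⁻¹ = h' * X 7 1 * h'⁻¹) (h6 : h * X 6 (1 : K) * h⁻¹ = h' * X 6 1 * h'⁻¹) : h = h' := by
  obtain ⟨lam, mu, hl, hm, rfl⟩ := exists_T h hh
  obtain ⟨lam', mu', hl', hm', rfl⟩ := exists_T h' hh'
  rw [T_conj' lam mu hl hm 7 (by norm_num) 1, T_conj' lam' mu' hl' hm' 7 (by norm_num) 1] at h7
  rw [T_conj' lam mu hl hm 6 (by norm_num) 1, T_conj' lam' mu' hl' hm' 6 (by norm_num) 1] at h6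
  have e7 : chi lam mu 7 = chi lam' mu' 7 := by simpa using X_inj 7 (by norm_num) _ _ h7
  have e6 : chi lam mu 6 = chi lam' mu' 6 := by simpa using X_inj 6 (by norm_num) _ _ h6
  have e1 : lam = lam' := by rw [lam_of_chi lam mu hl hm, lam_of_chi lam' mu' hl' hm', e7, e6]
  have e2 : mu = mu' := by rw [mu_of_chi lam mu hl hm, mu_of_chi lam' mu' hl' hm', e7, e6]
  rw [e1, e2]

theorem hU_mul (r : ℕ) (hr : r < 12) (a b : K) (ha : a ≠ 0) (hb : b ≠ 0) :
    relG2.hU r a * relG2.hU r b = relG2.hU r (a * b) := by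
  apply Units.ext
  rw [Units.val_mul, relG2.hU_val, relG2.hU_val, relG2.hU_val, relG2.hMat_mul r hr a b ha hb]

theorem T_mul (lam mu lam' mu' : K) (hl : lam ≠ 0) (hm : mu ≠ 0) (hl' : lam' ≠ 0) (hm' : mu' ≠ 0) :
    T lam mu * T lam' mu' = T (lam * lam') (mu * mu') := by
  unfold T
  have hc := relG2.diagonal_comm bnG2.dec (relG2.hU 6 mu) (relG2.hU 7 lam')
    (relG2.hU_mem 6 (by decide) mu hm) (relG2.hU_mem 7 (by decide) lam' hl')
  rw [← hU_mul 7 (by norm_num) lam lam' hl hl', ← hU_mul 6 (by norm_num) mu mu' hm hm']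
  calc relG2.hU 7 lam * relG2.hU 6 mu * (relG2.hU 7 lam' * relG2.hU 6 mu')
      = relG2.hU 7 lam * (relG2.hU 6 mu * relG2.hU 7 lam') * relG2.hU 6 mu' := by group
    _ = relG2.hU 7 lam * relG2.hU 7 lam' * (relG2.hU 6 mu * relG2.hU 6 mu') := by rw [hc]; group

theorem T_inv (lam mu : K) (hl : lam ≠ 0) (hm : mu ≠ 0) : (T lam mu)⁻¹ = T lam⁻¹ mu⁻¹ := by
  apply inv_eq_of_mul_eq_one_right
  rw [T_mul lam mu _ _ hl hm (inv_ne_zero hl) (inv_ne_zero hm), mul_inv_cancel₀ hl, mul_inv_cancel₀ hm, T_one]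

/-- The elements `h_r(t)` in terms of the parametrization of the diagonal subgroup. -/
theorem hU_eq_T (r : ℕ) (hr : r < 12) (t : K) (ht : t ≠ 0) :
    relG2.hU r t = T (t ^ ((cdG2.D.coroot.getD r #[]).getD 0 0)) (t ^ ((cdG2.D.coroot.getD r #[]).getD 1 0)) := by
  have hmem := relG2.hU_mem r hr t ht
  have hT := T_mem (t ^ ((cdG2.D.coroot.getD r #[]).getD 0 0)) (t ^ ((cdG2.D.coroot.getD r #[]).getD 1 0))
    (zpow_ne_zero _ ht) (zpow_ne_zero _ ht)
  apply Units.ext
  unfold T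
  rw [Units.val_mul, relG2.hU_val, relG2.hU_val, relG2.hU_val]
  have hprod := relG2.hProd_eq_diag (F := K) (fun i => t ^ ((cdG2.D.coroot.getD r #[]).getD i 0))
    (fun i _ => zpow_ne_zero _ ht)
  have hrange : List.range cdG2.D.rank = [0, 1] := by decide
  rw [hrange] at hprod
  simp only [List.map_cons, List.map_nil, List.prod_cons, List.prod_nil, mul_one] at hprod
  have e0 : cdG2.D.simple 0 = 7 := by decide
  have e1 : cdG2.D.simple 1 = 6 := by decide
  rw [e0, e1] at hprod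
  rw [hprod, relG2.hMat_diag r hr t ht]
  congr 1
  funext j
  unfold RelData.torusExp
  rw [zpow_list_sum' t ht]
  congr 1
  rcases j with j | s
  · have : Nat.blt j.val cdG2.D.rank = true := by rw [Nat.blt_eq]; exact j.isLt
    simp [CDatum.expo, code, this]
  · have h1 : Nat.blt (cdG2.D.rank + s.val) cdG2.D.rank = false := by
      rw [← Bool.not_eq_true, Nat.blt_eq]; omega
    have h2 : cdG2.D.rank + s.val - cdG2.D.rank = s.val := by omega
    have := bnG2.dec r hr s.val s.isLt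
    simp only [hdecCheck, decide_eq_true_eq] at this
    simp only [CDatum.expo, code, h1, cond_false, h2]
    exact this

end


theorem W12_lt : ∀ l ∈ W12, ∀ i ∈ l, i < 2 := by decide

/-- Two roots which are not opposite can be made positive simultaneously. -/
theorem sep_roots : ∀ r < 12, ∀ s < 12, s = cdG2.D.neg r ∨
    ∃ l ∈ W12, cdG2.D.IsPosRoot (reflW relG2.refl l r) ∧ cdG2.D.IsPosRoot (reflW relG2.refl l s) := by
  decide

section
variable {K : Type*} [Field K] [Fintype K]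

theorem lp_single (s : ℕ) (δ : K) (hs : s ∈ posL) :
    relG2.lp posL (fun r => if r = s then δ else 0) = X s δ := by
  simp only [posL, List.mem_cons, List.not_mem_nil, or_false] at hs
  rcases hs with rfl | rfl | rfl | rfl | rfl | rfl <;>
    simp [RelData.lp, RootSys.lprod, posL, relG2.xU_zero]

/-- Root elements for distinct positive roots are distinct. -/
theorem X_inj_root_pos (r s : ℕ) (hr : cdG2.D.IsPosRoot r) (hs : cdG2.D.IsPosRoot s) (c c' : K) (hc : c ≠ 0)
    (h : X r c = X s c') : r = s := by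
  have hr' := (mem_posL r).mpr hr
  have hs' := (mem_posL s).mpr hs
  rw [← lp_single r c hr', ← lp_single s c' hs'] at h
  have key := uhypG2.lp_inj_of_fintype len_G2 posL posL_nodup mem_posL _ _ h r hr'
  simp only [if_true] at key
  by_contra hne
  rw [if_neg hne] at key
  exact hc key

/-- Root elements for distinct roots are distinct. -/
theorem X_inj_root (r s : ℕ) (hr : r < 12) (hs : s < 12) (c c' : K) (hc : c ≠ 0)
    (h : X r c = X s c') : r = s := by
  rcases sep_roots r hr s hs with hneg | ⟨l, hlW, hp1, hp2⟩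
  · exfalso
    have hsr := signCheck_spec (atG2.sign r hr)
    have hss := signCheck_spec (atG2.sign s hs)
    have hmem : X r c ∈ cdG2.D.posUnipotent K ⊓ cdG2.D.negUnipotent K := by
      rcases pos_or_neg r hr with hp | hn
      · refine ⟨X_pos r hp c, ?_⟩
        rw [h]
        apply X_neg
        rw [hss.2.1, hneg, hsr.2.2]
        exact hp
      · refine ⟨?_, X_neg r hn c⟩
        rw [h]
        apply X_pos
        rw [hneg]
        exact hsr.2.1.mp hn
    rw [pos_inf_neg', Subgroup.mem_bot] at hmem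
    exact hc (X_eq_one r hr c hmem)
  · have hl := W12_lt l hlW
    have e1 := nw_conj (K := K) l hl r hr c
    have e2 := nw_conj (K := K) l hl s hs c'
    rw [h, e2] at e1
    have := X_inj_root_pos _ _ hp1 hp2 _ _ (mul_ne_zero (etaW_ne_zero l hl r hr) hc) e1.symm
    have h1 := relG2.reflW_reverse bnG2.mono.inv l hl r hr
    have h2 := relG2.reflW_reverse bnG2.mono.inv l hl s hs
    rw [← h1, ← h2, this]

/-- The action of `h n_w` on the root elements. -/
theorem Tn_conj (lam mu : K) (hl : lam ≠ 0) (hm : mu ≠ 0) (l : List ℕ) (hlt : ∀ i ∈ l, i < cdG2.D.rank)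
    (k : ℕ) (hk : k < 12) (c : K) :
    (T lam mu * relG2.nWordU l) * X k c * (T lam mu * relG2.nWordU l)⁻¹ =
      X (reflW relG2.refl l k) (chi lam mu (reflW relG2.refl l k) *
        (((etaW relG2.refl relG2.eta l k : ℤ) : K) * c)) := by
  have h1 := nw_conj (K := K) l hlt k hk c
  have h2 := T_conj' lam mu hl hm _ (relG2.reflW_lt l hlt k hk) (((etaW relG2.refl relG2.eta l k : ℤ) : K) * c)
  rw [← h2, ← h1]
  group

/-- Words representing the same element of `N` modulo `H` induce the same permutation of the roots. -/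
theorem perm_eq_of_coset (h h' : GL cdG2.D.Idx K) (hh : h ∈ cdG2.D.diagonalSubgroup K)
    (hh' : h' ∈ cdG2.D.diagonalSubgroup K) (l l' : List ℕ) (hl : ∀ i ∈ l, i < cdG2.D.rank)
    (hl' : ∀ i ∈ l', i < cdG2.D.rank) (e : h * relG2.nWordU l = h' * relG2.nWordU l') :
    ∀ k < 12, reflW relG2.refl l k = reflW relG2.refl l' k := by
  intro k hk
  obtain ⟨d, hd⟩ := bnG2.mono.conj_word_xU (F := K) bnG2.dec h hh l hl
  obtain ⟨d', hd'⟩ := bnG2.mono.conj_word_xU (F := K) bnG2.dec h' hh' l' hl'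
  have e1 := (hd k hk).2 1
  have e2 := (hd' k hk).2 1
  rw [e, e2] at e1
  exact (X_inj_root _ _ (relG2.reflW_lt l' hl' k hk) (relG2.reflW_lt l hl k hk) _ _
    (mul_ne_zero (hd' k hk).1 one_ne_zero) e1).symm

end

theorem W12_inj : ∀ l ∈ W12, ∀ l' ∈ W12, (∀ k < 12, reflW relG2.refl l k = reflW relG2.refl l' k) → l = l' := by
  decide

section
variable {K : Type*} [Field K]

/-- The decomposition of the elements of the monomial subgroup. -/
theorem exists_over (n : GL cdG2.D.Idx K) (hn : n ∈ cdG2.D.monomialSubgroup K) :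
    ∃ h ∈ cdG2.D.diagonalSubgroup K, ∃ l ∈ W12, n = h * relG2.nWordU l := by
  obtain ⟨h₀, hh₀, l₀, hl₀, rfl⟩ := bnG2.mono.monomial_decomp n hn
  obtain ⟨l, hlW, e⟩ := exists_canon l₀ hl₀
  obtain ⟨h', hh', e'⟩ := bnG2.mono.coset_of_reflW_eq (F := K) bnG2.dec l₀ l hl₀ (W12_lt l hlW)
    (fun s hs => reflW_eq_of_perm l₀ l e s hs)
  refine ⟨h₀ * h', Subgroup.mul_mem _ hh₀ hh', l, hlW, ?_⟩
  rw [e', mul_assoc]

theorem nWordU_mem (l : List ℕ) (hl : ∀ i ∈ l, i < cdG2.D.rank) : relG2.nWordU (F := K) l ∈ cdG2.D.monomialSubgroup K :=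
  relG2.nWordU_mem l hl

theorem diag_le_mono : cdG2.D.diagonalSubgroup K ≤ cdG2.D.monomialSubgroup K := le_sup_left

theorem mono_le_group : cdG2.D.monomialSubgroup K ≤ cdG2.D.group K := relG2.monomialSubgroup_le_group

theorem diag_le_group : cdG2.D.diagonalSubgroup K ≤ cdG2.D.group K := relG2.diagonalSubgroup_le_group

theorem pos_le_group : cdG2.D.posUnipotent K ≤ cdG2.D.group K := relG2.posUnipotent_le_group

/-- The monomial subgroup normalizes the diagonal subgroup. -/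
theorem conj_diag (n : GL cdG2.D.Idx K) (hn : n ∈ cdG2.D.monomialSubgroup K) (h : GL cdG2.D.Idx K)
    (hh : h ∈ cdG2.D.diagonalSubgroup K) : n * h * n⁻¹ ∈ cdG2.D.diagonalSubgroup K :=
  bnG2.mono.conj_mem n hn h hh

theorem conj_diag' (n : GL cdG2.D.Idx K) (hn : n ∈ cdG2.D.monomialSubgroup K) (h : GL cdG2.D.Idx K)
    (hh : h ∈ cdG2.D.diagonalSubgroup K) : n⁻¹ * h * n ∈ cdG2.D.diagonalSubgroup K := by
  have := bnG2.mono.conj_mem n⁻¹ (Subgroup.inv_mem _ hn) h hh
  rwa [inv_inv] at this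

/-- The action of a conjugate of a diagonal element on the root elements. -/
theorem conj_T_conj (l : List ℕ) (hlt : ∀ i ∈ l, i < cdG2.D.rank) (k : ℕ) (hk : k < 12)
    (lam mu : K) (hl : lam ≠ 0) (hm : mu ≠ 0) (t : K) :
    (relG2.nWordU l * T lam mu * (relG2.nWordU l)⁻¹) * X (reflW relG2.refl l k) t *
      (relG2.nWordU l * T lam mu * (relG2.nWordU l)⁻¹)⁻¹ = X (reflW relG2.refl l k) (chi lam mu k * t) := by
  set η : K := ((etaW relG2.refl relG2.eta l k : ℤ) : K) with hη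
  have hηη : η * η = 1 := by
    rcases etaW_sign l hlt k hk with h | h <;> rw [hη, h] <;> simp
  have h1 := nw_conj (K := K) l hlt k hk (η * t)
  rw [← hη, ← mul_assoc, hηη, one_mul] at h1
  have h2 := T_conj' lam mu hl hm k hk (η * t)
  have h3 := nw_conj (K := K) l hlt k hk (chi lam mu k * (η * t))
  rw [← hη] at h3
  have e : η * (chi lam mu k * (η * t)) = chi lam mu k * t := by
    calc η * (chi lam mu k * (η * t)) = (η * η) * (chi lam mu k * t) := by ring
      _ = chi lam mu k * t := by rw [hηη, one_mul]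
  rw [e] at h3
  rw [← h3, ← h2, ← h1]
  group

end

end Cfsg.Agent.Lib.Helper3.G2O
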