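import Mathlib
import Cfsg.Agent.Lib.Helper3.G2O1
import Cfsg.Agent.Lib.Helper3.G2O2
import Cfsg.Agent.Lib.Helper3.G2O3
set_option autoImplicit false
set_option linter.unusedSectionVars false
set_option linter.unusedVariables false
set_option linter.unusedSimpArgs false
set_option maxRecDepth 100000
open Cfsg Cfsg.Lie Cfsg.Agent.Lib.Helper3.ChevM

/-!
The involutions of the monomial subgroup of the Chevalley group of type `G₂` over a finite field of odd order are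
conjugate to `h_a(-1)`.
-/

namespace Cfsg.Agent.Lib.Helper3.G2O

open Cfsg.Agent.Lib.Helper3.ChevAt Cfsg.Agent.Lib.Helper3.ChevAut Cfsg.Agent.Lib.Helper3.ChevU
open Cfsg.Agent.Lib.Helper3.SL2P
open Cfsg.Agent.Lib.Helper3.G2C (W12 perm exists_canon reflW_eq_of_perm posL mem_posL posL_nodup len_G2 atG2)

theorem hcsG2 : ∀ j < cdG2.D.rank, cdG2.D.cartan j (cdG2.D.neg (cdG2.D.simple j)) = -2 := by decide

section
variable {K : Type*} [Field K]

/-- The relations of `SL₂` for a pair of opposite root subgroups. -/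
theorem relS (s : ℕ) (hs : s < 12) : Rel (fun t : K => X s t) (fun t : K => X (cdG2.D.neg s) t) :=
  bnG2.mono.sl2_rel (F := K) hcsG2 s hs

theorem nE_eq (s : ℕ) (c : K) : nE (fun t : K => X s t) (fun t : K => X (cdG2.D.neg s) t) c = relG2.nU s c :=
  (relG2.nU_eq s c).symm

theorem hE_eq (s : ℕ) (c : K) : hE (fun t : K => X s t) (fun t : K => X (cdG2.D.neg s) t) c = relG2.hU s c := by
  unfold hE
  rw [nE_eq, nE_eq, relG2.nU_inv, relG2.hU_eq]

theorem neg_lt : ∀ s < 12, cdG2.D.neg s < 12 := by decide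

theorem closure_le_group (s : ℕ) (hs : s < 12) :
    Subgroup.closure (Set.range (fun t : K => X s t) ∪ Set.range (fun t : K => X (cdG2.D.neg s) t)) ≤
      cdG2.D.group K := by
  rw [Subgroup.closure_le]
  rintro _ (⟨t, rfl⟩ | ⟨t, rfl⟩)
  · exact X_mem_group s hs t
  · exact X_mem_group _ (neg_lt s hs) t

theorem conj_nU_of_sq (m : GL cdG2.D.Idx K) (s : ℕ) (hs : s < 12) (γ : K) (hγ : γ ≠ 0) (h2 : (2 : K) ≠ 0)
    (hX : ∀ t, m * X s t * m⁻¹ = X (cdG2.D.neg s) (γ ^ 2 * t))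
    (hY : ∀ t, m * X (cdG2.D.neg s) t * m⁻¹ = X s ((γ ^ 2)⁻¹ * t)) :
    ∃ g ∈ cdG2.D.group K, g * m * g⁻¹ = relG2.nU s γ⁻¹ * m := by
  obtain ⟨g, hg, e⟩ := conj_of_sq (relS (K := K) s hs) m γ hγ h2 hX hY
  rw [nE_eq] at e
  exact ⟨g, closure_le_group s hs hg, e⟩

theorem conj_hU_of_neg (m : GL cdG2.D.Idx K) (s : ℕ) (hs : s < 12) (p q : K) (hq : q ≠ 0)
    (hpq : p ^ 2 + q ^ 2 = -1)
    (hX : ∀ t, m * X s t * m⁻¹ = X (cdG2.D.neg s) (-t))
    (hY : ∀ t, m * X (cdG2.D.neg s) t * m⁻¹ = X s (-t)) :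
    ∃ g ∈ cdG2.D.group K, g * m * g⁻¹ = relG2.hU s (-1) * m := by
  obtain ⟨g, hg, e⟩ := conj_of_neg (relS (K := K) s hs) m p q hq hpq hX hY
  rw [hE_eq] at e
  exact ⟨g, closure_le_group s hs hg, e⟩

theorem nU_mem_mono (r : ℕ) (hr : r < 12) (c : K) (hc : c ≠ 0) : relG2.nU r c ∈ cdG2.D.monomialSubgroup K := by
  rw [relG2.nU_eq_hU_mul]
  exact Subgroup.mul_mem _ (diag_le_mono (relG2.hU_mem r hr c hc))
    (Subgroup.mem_sup_right (Subgroup.subset_closure ⟨r, hr, relG2.nU_val r 1⟩))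

end

section
variable {K : Type*} [Field K] [Fintype K]

theorem two_ne_zero_of_odd (hF : Odd (Fintype.card K)) : (2 : K) ≠ 0 := by
  intro h
  have h1 : ringChar K = 2 := CharP.ringChar_of_prime_eq_zero Nat.prime_two (by exact_mod_cast h)
  have h2 := (FiniteField.even_card_iff_char_two (F := K)).1 h1
  rcases hF with ⟨k, hk⟩
  omega

theorem exists_sq_add_sq (hF : Odd (Fintype.card K)) : ∃ p q : K, q ≠ 0 ∧ p ^ 2 + q ^ 2 = -1 := by
  obtain ⟨a, b, hab⟩ : ∃ a b : K, a ^ 2 + b ^ 2 = -1 := by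
    obtain ⟨a, b, hab⟩ := FiniteField.exists_root_sum_quadratic (R := K) (f := Polynomial.X ^ 2)
      (g := Polynomial.X ^ 2 - Polynomial.C (-1)) (Polynomial.degree_X_pow 2)
      (Polynomial.degree_X_pow_sub_C (by decide) _) (Nat.odd_iff.1 hF)
    refine ⟨a, b, ?_⟩
    rw [← sub_eq_zero]
    simpa only [Polynomial.eval_C, Polynomial.eval_X, Polynomial.eval_pow, Polynomial.eval_sub,
      ← add_sub_assoc] using hab
  by_cases hb : b = 0
  · refine ⟨b, a, ?_, by rw [add_comm]; exact hab⟩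
    intro ha
    rw [ha, hb] at hab
    simp at hab
  · exact ⟨a, b, hb, hab⟩

/-- The squares and the non-squares. -/
theorem sq_cases (hF : Odd (Fintype.card K)) (lam mu : K) (hl : lam ≠ 0) (hm : mu ≠ 0) :
    IsSquare (-mu) ∨ IsSquare (-lam) ∨ IsSquare (-(lam * mu)) ∨ (IsSquare lam ∧ IsSquare mu) := by
  classical
  have h2 : ringChar K ≠ 2 := by
    intro h
    have := (FiniteField.even_card_iff_char_two (F := K)).1 h
    rcases hF with ⟨k, hk⟩
    omega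
  by_cases h1 : IsSquare (-mu)
  · exact Or.inl h1
  by_cases h3 : IsSquare (-lam)
  · exact Or.inr (Or.inl h3)
  have hnm : -mu ≠ 0 := neg_ne_zero.mpr hm
  have hnl : -lam ≠ 0 := neg_ne_zero.mpr hl
  have c1 : quadraticChar K (-mu) = -1 := (quadraticChar_neg_one_iff_not_isSquare (F := K)).mpr h1
  have c2 : quadraticChar K (-lam) = -1 := (quadraticChar_neg_one_iff_not_isSquare (F := K)).mpr h3
  by_cases h4 : IsSquare (-1 : K)
  · refine Or.inr (Or.inr (Or.inl ?_))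
    have c3 : quadraticChar K (-1) = 1 := (quadraticChar_one_iff_isSquare (by simp)).mpr h4
    have : quadraticChar K (-(lam * mu)) = 1 := by
      have e : -(lam * mu) = (-1) * ((-lam) * (-mu)) := by ring
      rw [e, map_mul, map_mul, c1, c2, c3]
      norm_num
    exact (quadraticChar_one_iff_isSquare (neg_ne_zero.mpr (mul_ne_zero hl hm))).mp this
  · refine Or.inr (Or.inr (Or.inr ⟨?_, ?_⟩))
    · have c3 : quadraticChar K (-1) = -1 := (quadraticChar_neg_one_iff_not_isSquare (F := K)).mpr h4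
      have : quadraticChar K lam = 1 := by
        have e : lam = (-1) * (-lam) := by ring
        rw [e, map_mul, c2, c3]
        norm_num
      exact (quadraticChar_one_iff_isSquare hl).mp this
    · have c3 : quadraticChar K (-1) = -1 := (quadraticChar_neg_one_iff_not_isSquare (F := K)).mpr h4
      have : quadraticChar K mu = 1 := by
        have e : mu = (-1) * (-mu) := by ring
        rw [e, map_mul, c1, c3]
        norm_num
      exact (quadraticChar_one_iff_isSquare hm).mp this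

end


section
variable {K : Type*} [Field K]

theorem chi_3 (lam mu : K) : chi lam mu 3 = lam * mu⁻¹ := by
  rw [chi_eq _ _ 3 (by norm_num)]; simp
theorem chi_4 (lam mu : K) : chi lam mu 4 = (lam ^ 2)⁻¹ * mu := by
  rw [chi_eq _ _ 4 (by norm_num)]; simp [zpow_neg]
theorem chi_5 (lam mu : K) : chi lam mu 5 = lam ^ 3 * (mu ^ 2)⁻¹ := by
  rw [chi_eq _ _ 5 (by norm_num)]; simp [zpow_neg]
theorem chi_6 (lam mu : K) : chi lam mu 6 = (lam ^ 3)⁻¹ * mu ^ 2 := by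
  rw [chi_eq _ _ 6 (by norm_num)]; simp [zpow_neg]
theorem chi_7 (lam mu : K) : chi lam mu 7 = lam ^ 2 * mu⁻¹ := by
  rw [chi_eq _ _ 7 (by norm_num)]; simp [zpow_neg]
theorem chi_8 (lam mu : K) : chi lam mu 8 = lam⁻¹ * mu := by
  rw [chi_eq _ _ 8 (by norm_num)]; simp [zpow_neg]
theorem chi_10 (lam mu : K) : chi lam mu 10 = lam ^ 3 * mu⁻¹ := by
  rw [chi_eq _ _ 10 (by norm_num)]; simp [zpow_neg]

theorem l0_act : ∀ k < 12, reflW relG2.refl [0, 1, 0, 1, 0, 1] k = cdG2.D.neg k ∧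
    etaW relG2.refl relG2.eta [0, 1, 0, 1, 0, 1] k = -1 := by decide

theorem a_act : reflW relG2.refl [0] 6 = 10 ∧ etaW relG2.refl relG2.eta [0] 6 = 1 ∧
    reflW relG2.refl [0] 10 = 6 ∧ etaW relG2.refl relG2.eta [0] 10 = -1 ∧
    reflW relG2.refl [0] 7 = 4 ∧ etaW relG2.refl relG2.eta [0] 7 = -1 ∧
    reflW relG2.refl [0] 4 = 7 ∧ etaW relG2.refl relG2.eta [0] 4 = -1 := by decide

theorem b_act : reflW relG2.refl [1] 7 = 8 ∧ etaW relG2.refl relG2.eta [1] 7 = 1 ∧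
    reflW relG2.refl [1] 8 = 7 ∧ etaW relG2.refl relG2.eta [1] 8 = -1 ∧
    reflW relG2.refl [1] 6 = 5 ∧ etaW relG2.refl relG2.eta [1] 6 = -1 ∧
    reflW relG2.refl [1] 5 = 6 ∧ etaW relG2.refl relG2.eta [1] 5 = -1 := by decide

theorem nWordU_single (i : ℕ) : relG2.nWordU (F := K) [i] = relG2.nU (cdG2.D.simple i) 1 := by
  simp [RelData.nWordU]

/-- Conjugacy to `h_a(-1)`. -/
def ConjT0 (m : GL cdG2.D.Idx K) : Prop := ∃ x ∈ cdG2.D.group K, x * m * x⁻¹ = T (-1 : K) 1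

theorem conjT0_of_conj (m m' y : GL cdG2.D.Idx K) (hy : y ∈ cdG2.D.group K) (e : y * m * y⁻¹ = m')
    (h : ConjT0 m') : ConjT0 m := by
  obtain ⟨x, hx, ex⟩ := h
  refine ⟨x * y, Subgroup.mul_mem _ hx hy, ?_⟩
  rw [← ex, ← e]
  group

theorem conj_sq_one (m y : GL cdG2.D.Idx K) (h : m * m = 1) : (y * m * y⁻¹) * (y * m * y⁻¹) = 1 := by
  calc (y * m * y⁻¹) * (y * m * y⁻¹) = y * (m * m) * y⁻¹ := by group
    _ = 1 := by rw [h]; group

theorem conj_ne_one (m y : GL cdG2.D.Idx K) (h : m ≠ 1) : y * m * y⁻¹ ≠ 1 := by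
  intro e
  apply h
  calc m = y⁻¹ * (y * m * y⁻¹) * y := by group
    _ = 1 := by rw [e]; group

/-- The elements of `N` above a given word. -/
def Over (l : List ℕ) (m : GL cdG2.D.Idx K) : Prop :=
  ∃ h ∈ cdG2.D.diagonalSubgroup K, m = h * relG2.nWordU l

theorem nU_simple_sq_mem (i : ℕ) (hi : i < 2) :
    relG2.nU (cdG2.D.simple i) (1 : K) * relG2.nU (cdG2.D.simple i) 1 ∈ cdG2.D.diagonalSubgroup K :=
  relG2.nU_sq_mem _ (relG2.simple_lt i hi)

theorem nU_simple_mem (i : ℕ) (hi : i < 2) : relG2.nU (cdG2.D.simple i) (1 : K) ∈ cdG2.D.monomialSubgroup K :=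
  relG2.nU_simple_mem i hi

theorem over_cons (i : ℕ) (hi : i < 2) (l : List ℕ) (m : GL cdG2.D.Idx K) (hO : Over (i :: l) m) (c : K)
    (hc : c ≠ 0) : Over l (relG2.nU (cdG2.D.simple i) c * m) := by
  obtain ⟨h, hh, rfl⟩ := hO
  rw [relG2.nWordU_cons, relG2.nU_eq_hU_mul]
  refine ⟨relG2.hU (cdG2.D.simple i) c * (relG2.nU (cdG2.D.simple i) 1 * h * (relG2.nU (cdG2.D.simple i) 1)⁻¹) *
    (relG2.nU (cdG2.D.simple i) 1 * relG2.nU (cdG2.D.simple i) 1), ?_, by group⟩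
  exact Subgroup.mul_mem _ (Subgroup.mul_mem _ (relG2.hU_mem _ (relG2.simple_lt i hi) c hc)
    (conj_diag _ (nU_simple_mem i hi) h hh)) (nU_simple_sq_mem i hi)

theorem over_conj (i : ℕ) (hi : i < 2) (l : List ℕ) (hl : ∀ j ∈ l, j < cdG2.D.rank) (m : GL cdG2.D.Idx K)
    (hO : Over (i :: (l ++ [i])) m) :
    Over l ((relG2.nWordU [i])⁻¹ * m * relG2.nWordU [i]) := by
  obtain ⟨h, hh, rfl⟩ := hO
  rw [nWordU_single, relG2.nWordU_cons, relG2.nWordU_append, nWordU_single]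
  refine ⟨(relG2.nU (cdG2.D.simple i) 1)⁻¹ * h * relG2.nU (cdG2.D.simple i) 1 *
    (relG2.nWordU l * (relG2.nU (cdG2.D.simple i) 1 * relG2.nU (cdG2.D.simple i) 1) * (relG2.nWordU l)⁻¹), ?_, by group⟩
  exact Subgroup.mul_mem _ (conj_diag' _ (nU_simple_mem i hi) h hh)
    (conj_diag _ (nWordU_mem l hl) _ (nU_simple_sq_mem i hi))

theorem T_neg_one_sq : T (-1 : K) 1 * T (-1 : K) 1 = 1 := by
  by_cases h : (-1 : K) = 0
  · have : (1 : K) = 0 := by rw [← neg_eq_zero]; exact h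
    exact absurd this one_ne_zero
  · rw [T_mul _ _ _ _ h one_ne_zero h one_ne_zero]
    simp [T_one]

/-- A conjugate of a diagonal element by the representative of a word, from its characters. -/
theorem conj_T_eq (l : List ℕ) (hlt : ∀ i ∈ l, i < cdG2.D.rank) (lam mu lam' mu' : K) (hl : lam ≠ 0) (hm : mu ≠ 0)
    (hl' : lam' ≠ 0) (hm' : mu' ≠ 0) (k7 k6 : ℕ) (hk7 : k7 < 12) (hk6 : k6 < 12)
    (h7 : reflW relG2.refl l k7 = 7) (h6 : reflW relG2.refl l k6 = 6)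
    (e7 : chi lam mu k7 = chi lam' mu' 7) (e6 : chi lam mu k6 = chi lam' mu' 6) :
    relG2.nWordU l * T lam mu * (relG2.nWordU l)⁻¹ = T lam' mu' := by
  apply diag_ext _ _ (conj_diag _ (nWordU_mem l hlt) _ (T_mem lam mu hl hm)) (T_mem lam' mu' hl' hm')
  · have := conj_T_conj l hlt k7 hk7 lam mu hl hm 1
    rw [h7] at this
    rw [this, T_conj' lam' mu' hl' hm' 7 (by norm_num) 1, e7]
  · have := conj_T_conj l hlt k6 hk6 lam mu hl hm 1
    rw [h6] at this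
    rw [this, T_conj' lam' mu' hl' hm' 6 (by norm_num) 1, e6]

end


section
variable {K : Type*} [Field K] [Fintype K]

theorem neg_one_ne_zero' : (-1 : K) ≠ 0 := by simp

theorem conj_na_t1 : relG2.nWordU [0] * T (1 : K) (-1) * (relG2.nWordU [0])⁻¹ = T (-1 : K) (-1) := by
  apply conj_T_eq [0] (by decide) 1 (-1) (-1) (-1) one_ne_zero neg_one_ne_zero' neg_one_ne_zero' neg_one_ne_zero'
    4 10 (by norm_num) (by norm_num) a_act.2.2.2.2.2.2.1 a_act.2.2.1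
  · rw [chi_4, chi_7]; norm_num
  · rw [chi_10, chi_6]; norm_num

theorem conj_nb_t0 : relG2.nWordU [1] * T (-1 : K) 1 * (relG2.nWordU [1])⁻¹ = T (-1 : K) (-1) := by
  apply conj_T_eq [1] (by decide) (-1) 1 (-1) (-1) neg_one_ne_zero' one_ne_zero neg_one_ne_zero' neg_one_ne_zero'
    8 5 (by norm_num) (by norm_num) b_act.2.2.1 b_act.2.2.2.2.2.2.1
  · rw [chi_8, chi_7]; norm_num
  · rw [chi_5, chi_6]; norm_num

theorem nWordU_mem_group (l : List ℕ) (hl : ∀ i ∈ l, i < cdG2.D.rank) : relG2.nWordU (F := K) l ∈ cdG2.D.group K :=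
  mono_le_group (nWordU_mem l hl)

/-- The involutions of the diagonal subgroup are conjugate to `h_a(-1)`. -/
theorem conjT0_diag (h : GL cdG2.D.Idx K) (hh : h ∈ cdG2.D.diagonalSubgroup K) (h2 : h * h = 1) (h1 : h ≠ 1) :
    ConjT0 h := by
  obtain ⟨lam, mu, hl, hm, rfl⟩ := exists_T h hh
  rw [T_mul lam mu lam mu hl hm hl hm, ← T_one] at h2
  obtain ⟨e1, e2⟩ := T_inj _ _ _ _ (mul_ne_zero hl hl) (mul_ne_zero hm hm) one_ne_zero one_ne_zero h2
  have hb : (relG2.nWordU (F := K) [1])⁻¹ ∈ cdG2.D.group K :=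
    Subgroup.inv_mem _ (nWordU_mem_group [1] (by decide))
  have ha : relG2.nWordU (F := K) [0] ∈ cdG2.D.group K := nWordU_mem_group [0] (by decide)
  rcases mul_self_eq_one_iff.mp e1 with rfl | rfl <;> rcases mul_self_eq_one_iff.mp e2 with rfl | rfl
  · exact absurd T_one h1
  · refine ⟨(relG2.nWordU [1])⁻¹ * relG2.nWordU [0], Subgroup.mul_mem _ hb ha, ?_⟩
    calc (relG2.nWordU [1])⁻¹ * relG2.nWordU [0] * T (1 : K) (-1) * ((relG2.nWordU [1])⁻¹ * relG2.nWordU [0])⁻¹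
        = (relG2.nWordU [1])⁻¹ * (relG2.nWordU [0] * T (1 : K) (-1) * (relG2.nWordU [0])⁻¹) * relG2.nWordU [1] := by
          group
      _ = T (-1 : K) 1 := by rw [conj_na_t1, ← conj_nb_t0]; group
  · exact ⟨1, Subgroup.one_mem _, by simp⟩
  · refine ⟨(relG2.nWordU [1])⁻¹, hb, ?_⟩
    rw [← conj_nb_t0]
    group

/-- The reduction step given by a square. -/
theorem conjT0_of_sq (hF : Odd (Fintype.card K)) (m : GL cdG2.D.Idx K) (s : ℕ) (hs : s < 12) (γ : K) (hγ : γ ≠ 0)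
    (hX : ∀ t, m * X s t * m⁻¹ = X (cdG2.D.neg s) (γ ^ 2 * t))
    (hY : ∀ t, m * X (cdG2.D.neg s) t * m⁻¹ = X s ((γ ^ 2)⁻¹ * t))
    (hm2 : m * m = 1) (hm1 : m ≠ 1)
    (hrec : ∀ m' : GL cdG2.D.Idx K, m' = relG2.nU s γ⁻¹ * m → m' * m' = 1 → m' ≠ 1 → ConjT0 m') : ConjT0 m := by
  obtain ⟨g, hg, e⟩ := conj_nU_of_sq m s hs γ hγ (two_ne_zero_of_odd hF) hX hY
  exact conjT0_of_conj m _ g hg rfl (hrec _ e (conj_sq_one m g hm2) (conj_ne_one m g hm1))

theorem sq_conj_self (m x : GL cdG2.D.Idx K) (hm2 : m * m = 1) : m * (m * x * m⁻¹) * m⁻¹ = x := by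
  calc m * (m * x * m⁻¹) * m⁻¹ = (m * m) * x * (m * m)⁻¹ := by group
    _ = x := by rw [hm2]; group

/-- The involutions above the reflection in the short fundamental root. -/
theorem conjT0_na (hF : Odd (Fintype.card K)) (lam mu : K) (hl : lam ≠ 0) (hm : mu ≠ 0)
    (hm2 : (T lam mu * relG2.nWordU [0]) * (T lam mu * relG2.nWordU [0]) = 1)
    (hm1 : T lam mu * relG2.nWordU [0] ≠ 1) : ConjT0 (T lam mu * relG2.nWordU [0]) := by
  have hw : ∀ i ∈ [0], i < cdG2.D.rank := by decide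
  have A6 := Tn_conj lam mu hl hm [0] hw 6 (by norm_num) 1
  rw [a_act.1, a_act.2.1] at A6
  have A10 := Tn_conj lam mu hl hm [0] hw 10 (by norm_num) (chi lam mu 10 * (((1 : ℤ) : K) * 1))
  rw [a_act.2.2.1, a_act.2.2.2.1, ← A6, sq_conj_self _ _ hm2] at A10
  have e := X_inj 6 (by norm_num) _ _ A10
  rw [chi_6, chi_10] at e
  have hmu : mu = -1 := by
    have : (1 : K) = -mu := by
      rw [e]; push_cast; field_simp
    rw [this, neg_neg]
  subst hmu
  have A7 : ∀ t, (T lam (-1) * relG2.nWordU [0]) * X 7 t * (T lam (-1) * relG2.nWordU [0])⁻¹ =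
      X (cdG2.D.neg 7) ((lam⁻¹) ^ 2 * t) := by
    intro t
    have := Tn_conj lam (-1) hl hm [0] hw 7 (by norm_num) t
    rw [a_act.2.2.2.2.1, a_act.2.2.2.2.2.1, chi_4] at this
    rw [this]
    have e4 : cdG2.D.neg 7 = 4 := by decide
    rw [e4]
    congr 1
    push_cast
    field_simp
  have A4 : ∀ t, (T lam (-1) * relG2.nWordU [0]) * X (cdG2.D.neg 7) t * (T lam (-1) * relG2.nWordU [0])⁻¹ =
      X 7 (((lam⁻¹) ^ 2)⁻¹ * t) := by
    intro t
    have e4 : cdG2.D.neg 7 = 4 := by decide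
    rw [e4]
    have := Tn_conj lam (-1) hl hm [0] hw 4 (by norm_num) t
    rw [a_act.2.2.2.2.2.2.1, a_act.2.2.2.2.2.2.2, chi_7] at this
    rw [this]
    congr 1
    push_cast
    field_simp
  apply conjT0_of_sq hF _ 7 (by norm_num) lam⁻¹ (inv_ne_zero hl) A7 A4 hm2 hm1
  intro m' hm' h2 h1
  have hO : Over [] m' := by
    rw [hm']
    have e7 : cdG2.D.simple 0 = 7 := by decide
    rw [← e7]
    exact over_cons 0 (by norm_num) [] _ ⟨T lam (-1), T_mem _ _ hl hm, rfl⟩ _ (inv_ne_zero (inv_ne_zero hl))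
  obtain ⟨h, hh, e⟩ := hO
  rw [relG2.nWordU_nil, mul_one] at e
  rw [e] at h2 h1 ⊢
  exact conjT0_diag h hh h2 h1


/-- The involutions above the reflection in the long fundamental root. -/
theorem conjT0_nb (hF : Odd (Fintype.card K)) (lam mu : K) (hl : lam ≠ 0) (hm : mu ≠ 0)
    (hm2 : (T lam mu * relG2.nWordU [1]) * (T lam mu * relG2.nWordU [1]) = 1)
    (hm1 : T lam mu * relG2.nWordU [1] ≠ 1) : ConjT0 (T lam mu * relG2.nWordU [1]) := by
  have hw : ∀ i ∈ [1], i < cdG2.D.rank := by decide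
  have A7 := Tn_conj lam mu hl hm [1] hw 7 (by norm_num) 1
  rw [b_act.1, b_act.2.1] at A7
  have A8 := Tn_conj lam mu hl hm [1] hw 8 (by norm_num) (chi lam mu 8 * (((1 : ℤ) : K) * 1))
  rw [b_act.2.2.1, b_act.2.2.2.1, ← A7, sq_conj_self _ _ hm2] at A8
  have e := X_inj 7 (by norm_num) _ _ A8
  rw [chi_7, chi_8] at e
  have hlam : lam = -1 := by
    have : (1 : K) = -lam := by
      rw [e]; push_cast; field_simp
    rw [this, neg_neg]
  subst hlam
  have e5 : cdG2.D.neg 6 = 5 := by decide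
  have A6 : ∀ t, (T (-1) mu * relG2.nWordU [1]) * X 6 t * (T (-1) mu * relG2.nWordU [1])⁻¹ =
      X (cdG2.D.neg 6) ((mu⁻¹) ^ 2 * t) := by
    intro t
    have := Tn_conj (-1) mu hl hm [1] hw 6 (by norm_num) t
    rw [b_act.2.2.2.2.1, b_act.2.2.2.2.2.1, chi_5] at this
    rw [this, e5]
    congr 1
    push_cast
    field_simp
  have A5 : ∀ t, (T (-1) mu * relG2.nWordU [1]) * X (cdG2.D.neg 6) t * (T (-1) mu * relG2.nWordU [1])⁻¹ =
      X 6 (((mu⁻¹) ^ 2)⁻¹ * t) := by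
    intro t
    rw [e5]
    have := Tn_conj (-1) mu hl hm [1] hw 5 (by norm_num) t
    rw [b_act.2.2.2.2.2.2.1, b_act.2.2.2.2.2.2.2, chi_6] at this
    rw [this]
    congr 1
    push_cast
    field_simp
  apply conjT0_of_sq hF _ 6 (by norm_num) mu⁻¹ (inv_ne_zero hm) A6 A5 hm2 hm1
  intro m' hm' h2 h1
  have hO : Over [] m' := by
    rw [hm']
    have e6 : cdG2.D.simple 1 = 6 := by decide
    rw [← e6]
    exact over_cons 1 (by norm_num) [] _ ⟨T (-1) mu, T_mem _ _ hl hm, rfl⟩ _ (inv_ne_zero (inv_ne_zero hm))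
  obtain ⟨h, hh, e⟩ := hO
  rw [relG2.nWordU_nil, mul_one] at e
  rw [e] at h2 h1 ⊢
  exact conjT0_diag h hh h2 h1

/-- The word of an involution of `N` is an involution of the Weyl group. -/
theorem over_invol (lam mu : K) (hl : lam ≠ 0) (hm : mu ≠ 0) (l : List ℕ) (hlt : ∀ i ∈ l, i < cdG2.D.rank)
    (hm2 : (T lam mu * relG2.nWordU l) * (T lam mu * relG2.nWordU l) = 1) :
    ∀ k < 12, reflW relG2.refl l (reflW relG2.refl l k) = k := by
  intro k hk
  have hk' := relG2.reflW_lt l hlt k hk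
  have A := Tn_conj lam mu hl hm l hlt k hk 1
  have B := Tn_conj lam mu hl hm l hlt _ hk'
    (chi lam mu (reflW relG2.refl l k) * (((etaW relG2.refl relG2.eta l k : ℤ) : K) * 1))
  rw [← A, sq_conj_self _ _ hm2] at B
  exact (X_inj_root k _ hk (relG2.reflW_lt l hlt _ hk') 1 _ one_ne_zero B).symm

theorem W12_invol : ∀ l ∈ W12, (∀ k < 12, reflW relG2.refl l (reflW relG2.refl l k) = k) →
    l ∈ [[], [0], [1], [0, 1, 0], [1, 0, 1], [0, 1, 0, 1, 0], [1, 0, 1, 0, 1], [0, 1, 0, 1, 0, 1]] := by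
  decide

theorem conjT0_w (hF : Odd (Fintype.card K)) (m : GL cdG2.D.Idx K) (hO : Over [] m) (hm2 : m * m = 1)
    (hm1 : m ≠ 1) : ConjT0 m := by
  obtain ⟨h, hh, e⟩ := hO
  rw [relG2.nWordU_nil, mul_one] at e
  subst e
  exact conjT0_diag m hh hm2 hm1

theorem conjT0_w0 (hF : Odd (Fintype.card K)) (m : GL cdG2.D.Idx K) (hO : Over [0] m) (hm2 : m * m = 1)
    (hm1 : m ≠ 1) : ConjT0 m := by
  obtain ⟨h, hh, rfl⟩ := hO
  obtain ⟨lam, mu, hl, hm, rfl⟩ := exists_T h hh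
  exact conjT0_na hF lam mu hl hm hm2 hm1

theorem conjT0_w1 (hF : Odd (Fintype.card K)) (m : GL cdG2.D.Idx K) (hO : Over [1] m) (hm2 : m * m = 1)
    (hm1 : m ≠ 1) : ConjT0 m := by
  obtain ⟨h, hh, rfl⟩ := hO
  obtain ⟨lam, mu, hl, hm, rfl⟩ := exists_T h hh
  exact conjT0_nb hF lam mu hl hm hm2 hm1

theorem conjT0_step (i : ℕ) (hi : i < 2) (l : List ℕ) (hl : ∀ j ∈ l, j < cdG2.D.rank)
    (hrec : ∀ m' : GL cdG2.D.Idx K, Over l m' → m' * m' = 1 → m' ≠ 1 → ConjT0 m')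
    (m : GL cdG2.D.Idx K) (hO : Over (i :: (l ++ [i])) m) (hm2 : m * m = 1) (hm1 : m ≠ 1) : ConjT0 m := by
  have hmem : (relG2.nWordU (F := K) [i])⁻¹ ∈ cdG2.D.group K :=
    Subgroup.inv_mem _ (nWordU_mem_group [i] (by
      intro j hj
      rw [List.mem_singleton] at hj
      rw [hj]
      exact hi))
  have h1 := over_conj i hi l hl m hO
  have e : (relG2.nWordU [i])⁻¹ * m * ((relG2.nWordU (F := K) [i])⁻¹)⁻¹ = (relG2.nWordU [i])⁻¹ * m * relG2.nWordU [i] := by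
    rw [inv_inv]
  exact conjT0_of_conj m _ _ hmem e (hrec _ h1 (by rw [← e]; exact conj_sq_one m _ hm2)
    (by rw [← e]; exact conj_ne_one m _ hm1))

theorem conjT0_w010 (hF : Odd (Fintype.card K)) (m : GL cdG2.D.Idx K) (hO : Over [0, 1, 0] m) (hm2 : m * m = 1)
    (hm1 : m ≠ 1) : ConjT0 m :=
  conjT0_step 0 (by norm_num) [1] (by decide) (conjT0_w1 hF) m hO hm2 hm1

theorem conjT0_w101 (hF : Odd (Fintype.card K)) (m : GL cdG2.D.Idx K) (hO : Over [1, 0, 1] m) (hm2 : m * m = 1)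
    (hm1 : m ≠ 1) : ConjT0 m :=
  conjT0_step 1 (by norm_num) [0] (by decide) (conjT0_w0 hF) m hO hm2 hm1

theorem conjT0_w01010 (hF : Odd (Fintype.card K)) (m : GL cdG2.D.Idx K) (hO : Over [0, 1, 0, 1, 0] m)
    (hm2 : m * m = 1) (hm1 : m ≠ 1) : ConjT0 m :=
  conjT0_step 0 (by norm_num) [1, 0, 1] (by decide) (conjT0_w101 hF) m hO hm2 hm1

theorem conjT0_w10101 (hF : Odd (Fintype.card K)) (m : GL cdG2.D.Idx K) (hO : Over [1, 0, 1, 0, 1] m)
    (hm2 : m * m = 1) (hm1 : m ≠ 1) : ConjT0 m :=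
  conjT0_step 1 (by norm_num) [0, 1, 0] (by decide) (conjT0_w010 hF) m hO hm2 hm1

/-- The involutions of `N` not above the longest element are conjugate to `h_a(-1)`. -/
theorem conjT0_refl (hF : Odd (Fintype.card K)) (l : List ℕ)
    (hlmem : l ∈ [[], [0], [1], [0, 1, 0], [1, 0, 1], [0, 1, 0, 1, 0], [1, 0, 1, 0, 1]])
    (m : GL cdG2.D.Idx K) (hO : Over l m) (hm2 : m * m = 1) (hm1 : m ≠ 1) : ConjT0 m := by
  simp only [List.mem_cons, List.not_mem_nil, or_false] at hlmem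
  rcases hlmem with rfl | rfl | rfl | rfl | rfl | rfl | rfl
  · exact conjT0_w hF m hO hm2 hm1
  · exact conjT0_w0 hF m hO hm2 hm1
  · exact conjT0_w1 hF m hO hm2 hm1
  · exact conjT0_w010 hF m hO hm2 hm1
  · exact conjT0_w101 hF m hO hm2 hm1
  · exact conjT0_w01010 hF m hO hm2 hm1
  · exact conjT0_w10101 hF m hO hm2 hm1


theorem l0_lt : ∀ i ∈ [0, 1, 0, 1, 0, 1], i < cdG2.D.rank := by decide

theorem mem7_of_mem8 (l : List ℕ)
    (h : l ∈ [[], [0], [1], [0, 1, 0], [1, 0, 1], [0, 1, 0, 1, 0], [1, 0, 1, 0, 1], [0, 1, 0, 1, 0, 1]])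
    (hne : l ≠ [0, 1, 0, 1, 0, 1]) :
    l ∈ [[], [0], [1], [0, 1, 0], [1, 0, 1], [0, 1, 0, 1, 0], [1, 0, 1, 0, 1]] := by
  simp only [List.mem_cons, List.not_mem_nil, or_false] at h
  rcases h with h | h | h | h | h | h | h | h
  · subst h; decide
  · subst h; decide
  · subst h; decide
  · subst h; decide
  · subst h; decide
  · subst h; decide
  · subst h; decide
  · exact absurd h hne

theorem neg_ne_self : ∀ s < 12, cdG2.D.neg s ≠ s := by decide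

/-- The elements `n_s(c)` do not lie in the diagonal subgroup. -/
theorem nU_not_diag (s : ℕ) (hs : s < 12) (c : K) (hc : c ≠ 0) : relG2.nU s c ∉ cdG2.D.diagonalSubgroup K := by
  intro hmem
  obtain ⟨d, hd, hconj⟩ := diag_conj _ hmem s hs
  have h1 := hconj 1
  have h2 := bnG2.mono.sl2_conj (F := K) hcsG2 s hs c hc 1
  rw [h2] at h1
  have hne : -(c⁻¹ * c⁻¹ * 1) ≠ (0 : K) := by
    simp [hc]
  exact neg_ne_self s hs (X_inj_root _ _ (neg_lt s hs) hs _ _ hne h1)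

/-- The action of the elements above the longest element. -/
theorem Tn0_conj (lam mu : K) (hl : lam ≠ 0) (hm : mu ≠ 0) (k : ℕ) (hk : k < 12) (c : K) :
    (T lam mu * relG2.nWordU [0, 1, 0, 1, 0, 1]) * X k c * (T lam mu * relG2.nWordU [0, 1, 0, 1, 0, 1])⁻¹ =
      X (cdG2.D.neg k) (-(chi lam mu (cdG2.D.neg k) * c)) := by
  have := Tn_conj lam mu hl hm [0, 1, 0, 1, 0, 1] l0_lt k hk c
  rw [(l0_act k hk).1, (l0_act k hk).2] at this
  rw [this]
  congr 1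
  push_cast
  ring

/-- First case: `-μ` is a square. -/
theorem conjT0_l0_a (hF : Odd (Fintype.card K)) (lam mu : K) (hl : lam ≠ 0) (hm : mu ≠ 0) (ν : K)
    (hν : -mu = ν * ν)
    (hm2 : (T lam mu * relG2.nWordU [0, 1, 0, 1, 0, 1]) * (T lam mu * relG2.nWordU [0, 1, 0, 1, 0, 1]) = 1)
    (hm1 : T lam mu * relG2.nWordU [0, 1, 0, 1, 0, 1] ≠ 1) :
    ConjT0 (T lam mu * relG2.nWordU [0, 1, 0, 1, 0, 1]) := by
  have hν0 : ν ≠ 0 := by
    intro h
    rw [h, mul_zero, neg_eq_zero] at hν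
    exact hm hν
  have e4 : cdG2.D.neg 7 = 4 := by decide
  have e7 : cdG2.D.neg 4 = 7 := by decide
  have A7 : ∀ t, (T lam mu * relG2.nWordU [0, 1, 0, 1, 0, 1]) * X 7 t *
      (T lam mu * relG2.nWordU [0, 1, 0, 1, 0, 1])⁻¹ = X (cdG2.D.neg 7) ((ν / lam) ^ 2 * t) := by
    intro t
    rw [Tn0_conj lam mu hl hm 7 (by norm_num) t, e4, chi_4]
    congr 1
    field_simp
    linear_combination (t) * hν
  have A4 : ∀ t, (T lam mu * relG2.nWordU [0, 1, 0, 1, 0, 1]) * X (cdG2.D.neg 7) t *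
      (T lam mu * relG2.nWordU [0, 1, 0, 1, 0, 1])⁻¹ = X 7 (((ν / lam) ^ 2)⁻¹ * t) := by
    intro t
    rw [e4, Tn0_conj lam mu hl hm 4 (by norm_num) t, e7, chi_7]
    congr 1
    field_simp
    linear_combination t * hν
  apply conjT0_of_sq hF _ 7 (by norm_num) (ν / lam) (div_ne_zero hν0 hl) A7 A4 hm2 hm1
  intro m' hm' h2 h1
  have hO : Over [1, 0, 1, 0, 1] m' := by
    rw [hm']
    have e7 : cdG2.D.simple 0 = 7 := by decide
    rw [← e7]
    exact over_cons 0 (by norm_num) [1, 0, 1, 0, 1] _ ⟨T lam mu, T_mem _ _ hl hm, rfl⟩ _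
      (inv_ne_zero (div_ne_zero hν0 hl))
  exact conjT0_w10101 hF m' hO h2 h1

theorem perm_l0' : ∀ s < 12, reflW relG2.refl [0, 1, 0, 1, 0, 1] s = reflW relG2.refl [1, 0, 1, 0, 1, 0] s := by
  decide

/-- Second case: `-λ` is a square. -/
theorem conjT0_l0_b (hF : Odd (Fintype.card K)) (lam mu : K) (hl : lam ≠ 0) (hm : mu ≠ 0) (ν : K)
    (hν : -lam = ν * ν)
    (hm2 : (T lam mu * relG2.nWordU [0, 1, 0, 1, 0, 1]) * (T lam mu * relG2.nWordU [0, 1, 0, 1, 0, 1]) = 1)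
    (hm1 : T lam mu * relG2.nWordU [0, 1, 0, 1, 0, 1] ≠ 1) :
    ConjT0 (T lam mu * relG2.nWordU [0, 1, 0, 1, 0, 1]) := by
  have hν0 : ν ≠ 0 := by
    intro h
    rw [h, mul_zero, neg_eq_zero] at hν
    exact hl hν
  have e5 : cdG2.D.neg 6 = 5 := by decide
  have e6 : cdG2.D.neg 5 = 6 := by decide
  have A6 : ∀ t, (T lam mu * relG2.nWordU [0, 1, 0, 1, 0, 1]) * X 6 t *
      (T lam mu * relG2.nWordU [0, 1, 0, 1, 0, 1])⁻¹ = X (cdG2.D.neg 6) ((ν * lam / mu) ^ 2 * t) := by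
    intro t
    rw [Tn0_conj lam mu hl hm 6 (by norm_num) t, e5, chi_5]
    congr 1
    field_simp
    linear_combination t * hν
  have A5 : ∀ t, (T lam mu * relG2.nWordU [0, 1, 0, 1, 0, 1]) * X (cdG2.D.neg 6) t *
      (T lam mu * relG2.nWordU [0, 1, 0, 1, 0, 1])⁻¹ = X 6 (((ν * lam / mu) ^ 2)⁻¹ * t) := by
    intro t
    rw [e5, Tn0_conj lam mu hl hm 5 (by norm_num) t, e6, chi_6]
    congr 1
    field_simp
    linear_combination t * hν
  apply conjT0_of_sq hF _ 6 (by norm_num) (ν * lam / mu) (div_ne_zero (mul_ne_zero hν0 hl) hm) A6 A5 hm2 hm1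
  intro m' hm' h2 h1
  have hO : Over [0, 1, 0, 1, 0] m' := by
    rw [hm']
    have e6 : cdG2.D.simple 1 = 6 := by decide
    rw [← e6]
    obtain ⟨h', hh', e'⟩ := bnG2.mono.coset_of_reflW_eq (F := K) bnG2.dec [0, 1, 0, 1, 0, 1] [1, 0, 1, 0, 1, 0]
      l0_lt (by decide) perm_l0'
    refine over_cons 1 (by norm_num) [0, 1, 0, 1, 0] _ ⟨T lam mu * h', Subgroup.mul_mem _ (T_mem _ _ hl hm) hh', ?_⟩ _
      (inv_ne_zero (div_ne_zero (mul_ne_zero hν0 hl) hm))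
    rw [e', mul_assoc]
  exact conjT0_w01010 hF m' hO h2 h1

/-- Third case: `-λμ` is a square. -/
theorem conjT0_l0_c (hF : Odd (Fintype.card K)) (lam mu : K) (hl : lam ≠ 0) (hm : mu ≠ 0) (ν : K)
    (hν : -(lam * mu) = ν * ν)
    (hm2 : (T lam mu * relG2.nWordU [0, 1, 0, 1, 0, 1]) * (T lam mu * relG2.nWordU [0, 1, 0, 1, 0, 1]) = 1)
    (hm1 : T lam mu * relG2.nWordU [0, 1, 0, 1, 0, 1] ≠ 1) :
    ConjT0 (T lam mu * relG2.nWordU [0, 1, 0, 1, 0, 1]) := by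
  have hν0 : ν ≠ 0 := by
    intro h
    rw [h, mul_zero, neg_eq_zero] at hν
    exact mul_ne_zero hl hm hν
  have e3 : cdG2.D.neg 8 = 3 := by decide
  have e8 : cdG2.D.neg 3 = 8 := by decide
  have A8 : ∀ t, (T lam mu * relG2.nWordU [0, 1, 0, 1, 0, 1]) * X 8 t *
      (T lam mu * relG2.nWordU [0, 1, 0, 1, 0, 1])⁻¹ = X (cdG2.D.neg 8) ((ν / mu) ^ 2 * t) := by
    intro t
    rw [Tn0_conj lam mu hl hm 8 (by norm_num) t, e3, chi_3]
    congr 1
    field_simp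
    linear_combination (t) * hν
  have A3 : ∀ t, (T lam mu * relG2.nWordU [0, 1, 0, 1, 0, 1]) * X (cdG2.D.neg 8) t *
      (T lam mu * relG2.nWordU [0, 1, 0, 1, 0, 1])⁻¹ = X 8 (((ν / mu) ^ 2)⁻¹ * t) := by
    intro t
    rw [e3, Tn0_conj lam mu hl hm 3 (by norm_num) t, e8, chi_8]
    congr 1
    field_simp
    linear_combination t * hν
  apply conjT0_of_sq hF _ 8 (by norm_num) (ν / mu) (div_ne_zero hν0 hm) A8 A3 hm2 hm1
  intro m' hm' h2 h1
  have hc : (ν / mu)⁻¹ ≠ 0 := inv_ne_zero (div_ne_zero hν0 hm)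
  have hm'N : m' ∈ cdG2.D.monomialSubgroup K := by
    rw [hm']
    exact Subgroup.mul_mem _ (nU_mem_mono 8 (by norm_num) _ hc)
      (Subgroup.mul_mem _ (diag_le_mono (T_mem _ _ hl hm)) (nWordU_mem _ l0_lt))
  obtain ⟨h', hh', l', hl', e'⟩ := exists_over m' hm'N
  obtain ⟨lam', mu', hl'0, hm'0, rfl⟩ := exists_T h' hh'
  have hinv := over_invol lam' mu' hl'0 hm'0 l' (W12_lt l' hl') (by rw [← e']; exact h2)
  have hcases := W12_invol l' hl' hinv
  by_cases hl0 : l' = [0, 1, 0, 1, 0, 1]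
  · exfalso
    subst hl0
    apply nU_not_diag 8 (by norm_num) (ν / mu)⁻¹ hc
    have : relG2.nU 8 (ν / mu)⁻¹ = T lam' mu' * (T lam mu)⁻¹ := by
      calc relG2.nU 8 (ν / mu)⁻¹
          = (relG2.nU 8 (ν / mu)⁻¹ * (T lam mu * relG2.nWordU [0, 1, 0, 1, 0, 1])) *
              (T lam mu * relG2.nWordU [0, 1, 0, 1, 0, 1])⁻¹ := by group
        _ = T lam' mu' * (T lam mu)⁻¹ := by rw [← hm', e']; group
    rw [this]
    exact Subgroup.mul_mem _ (T_mem _ _ hl'0 hm'0) (Subgroup.inv_mem _ (T_mem _ _ hl hm))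
  · have hmem := mem7_of_mem8 l' hcases hl0
    exact conjT0_refl hF l' hmem m' ⟨T lam' mu', T_mem _ _ hl'0 hm'0, e'⟩ h2 h1

/-- Fourth case: `λ` and `μ` are squares. -/
theorem conjT0_l0_d (hF : Odd (Fintype.card K)) (a b : K) (ha : a ≠ 0) (hb : b ≠ 0)
    (hm2 : (T (a * a) (b * b) * relG2.nWordU [0, 1, 0, 1, 0, 1]) *
      (T (a * a) (b * b) * relG2.nWordU [0, 1, 0, 1, 0, 1]) = 1)
    (hm1 : T (a * a) (b * b) * relG2.nWordU [0, 1, 0, 1, 0, 1] ≠ 1) :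
    ConjT0 (T (a * a) (b * b) * relG2.nWordU [0, 1, 0, 1, 0, 1]) := by
  have hc : relG2.nWordU [0, 1, 0, 1, 0, 1] * T a⁻¹ b⁻¹ * (relG2.nWordU (F := K) [0, 1, 0, 1, 0, 1])⁻¹ = T a b := by
    apply conj_T_eq [0, 1, 0, 1, 0, 1] l0_lt a⁻¹ b⁻¹ a b (inv_ne_zero ha) (inv_ne_zero hb) ha hb 4 5
      (by norm_num) (by norm_num) (by decide) (by decide)
    · rw [chi_4, chi_7]; field_simp
    · rw [chi_5, chi_6]; field_simp
  have e : T a b * relG2.nWordU [0, 1, 0, 1, 0, 1] * (T a b)⁻¹ =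
      T (a * a) (b * b) * relG2.nWordU [0, 1, 0, 1, 0, 1] := by
    rw [← T_mul a b a b ha hb ha hb, T_inv a b ha hb]
    calc T a b * relG2.nWordU [0, 1, 0, 1, 0, 1] * T a⁻¹ b⁻¹
        = T a b * (relG2.nWordU [0, 1, 0, 1, 0, 1] * T a⁻¹ b⁻¹ * (relG2.nWordU (F := K) [0, 1, 0, 1, 0, 1])⁻¹) *
            relG2.nWordU [0, 1, 0, 1, 0, 1] := by group
      _ = T a b * T a b * relG2.nWordU [0, 1, 0, 1, 0, 1] := by rw [hc]
  have hTG : T a b ∈ cdG2.D.group K := diag_le_group (T_mem a b ha hb)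
  -- the longest element itself
  have hn2 : relG2.nWordU (F := K) [0, 1, 0, 1, 0, 1] * relG2.nWordU [0, 1, 0, 1, 0, 1] = 1 := by
    have := conj_sq_one _ (T a b)⁻¹ hm2
    rw [← e] at this
    have e2 : (T a b)⁻¹ * (T a b * relG2.nWordU [0, 1, 0, 1, 0, 1] * (T a b)⁻¹) * ((T a b)⁻¹)⁻¹ =
        relG2.nWordU [0, 1, 0, 1, 0, 1] := by group
    rwa [e2] at this
  have hn1 : relG2.nWordU (F := K) [0, 1, 0, 1, 0, 1] ≠ 1 := by
    intro h
    apply hm1
    rw [← e, h]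
    group
  suffices h : ConjT0 (relG2.nWordU (F := K) [0, 1, 0, 1, 0, 1]) by
    refine conjT0_of_conj _ _ (T a b)⁻¹ (Subgroup.inv_mem _ hTG) ?_ h
    rw [← e]
    group
  have e5 : cdG2.D.neg 6 = 5 := by decide
  have e6 : cdG2.D.neg 5 = 6 := by decide
  have B6 : ∀ t, relG2.nWordU [0, 1, 0, 1, 0, 1] * X 6 t * (relG2.nWordU (F := K) [0, 1, 0, 1, 0, 1])⁻¹ =
      X (cdG2.D.neg 6) (-t) := by
    intro t
    have := nw_conj (K := K) [0, 1, 0, 1, 0, 1] l0_lt 6 (by decide) t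
    rw [(l0_act 6 (by norm_num)).1, (l0_act 6 (by norm_num)).2] at this
    rw [this]
    congr 1
    push_cast
    ring
  have B5 : ∀ t, relG2.nWordU [0, 1, 0, 1, 0, 1] * X (cdG2.D.neg 6) t * (relG2.nWordU (F := K) [0, 1, 0, 1, 0, 1])⁻¹ =
      X 6 (-t) := by
    intro t
    rw [e5]
    have := nw_conj (K := K) [0, 1, 0, 1, 0, 1] l0_lt 5 (by decide) t
    rw [(l0_act 5 (by norm_num)).1, (l0_act 5 (by norm_num)).2, e6] at this
    rw [this]
    congr 1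
    push_cast
    ring
  obtain ⟨p, q, hq, hpq⟩ := exists_sq_add_sq hF
  obtain ⟨g, hg, eg⟩ := conj_hU_of_neg (relG2.nWordU (F := K) [0, 1, 0, 1, 0, 1]) 6 (by norm_num) p q hq hpq B6 B5
  have eT : relG2.hU 6 (-1 : K) = T 1 (-1) := by
    unfold T
    rw [hU_one 7 (by norm_num), one_mul]
  rw [eT] at eg
  refine conjT0_of_conj _ _ g hg eg ?_
  apply conjT0_l0_a hF 1 (-1) one_ne_zero neg_one_ne_zero' 1 (by ring)
  · rw [← eg]; exact conj_sq_one _ g hn2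
  · rw [← eg]; exact conj_ne_one _ g hn1

/-- The involutions above the longest element. -/
theorem conjT0_l0 (hF : Odd (Fintype.card K)) (lam mu : K) (hl : lam ≠ 0) (hm : mu ≠ 0)
    (hm2 : (T lam mu * relG2.nWordU [0, 1, 0, 1, 0, 1]) * (T lam mu * relG2.nWordU [0, 1, 0, 1, 0, 1]) = 1)
    (hm1 : T lam mu * relG2.nWordU [0, 1, 0, 1, 0, 1] ≠ 1) :
    ConjT0 (T lam mu * relG2.nWordU [0, 1, 0, 1, 0, 1]) := by
  rcases sq_cases hF lam mu hl hm with ⟨ν, hν⟩ | ⟨ν, hν⟩ | ⟨ν, hν⟩ | ⟨⟨a, ha⟩, ⟨b, hb⟩⟩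
  · exact conjT0_l0_a hF lam mu hl hm ν hν hm2 hm1
  · exact conjT0_l0_b hF lam mu hl hm ν hν hm2 hm1
  · exact conjT0_l0_c hF lam mu hl hm ν hν hm2 hm1
  · subst ha hb
    have ha0 : a ≠ 0 := fun h => hl (by rw [h, mul_zero])
    have hb0 : b ≠ 0 := fun h => hm (by rw [h, mul_zero])
    exact conjT0_l0_d hF a b ha0 hb0 hm2 hm1

/-- The involutions of the monomial subgroup are conjugate to `h_a(-1)`. -/
theorem conjT0_mono (hF : Odd (Fintype.card K)) (m : GL cdG2.D.Idx K) (hmN : m ∈ cdG2.D.monomialSubgroup K)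
    (hm2 : m * m = 1) (hm1 : m ≠ 1) : ConjT0 m := by
  obtain ⟨h, hh, l, hl, rfl⟩ := exists_over m hmN
  obtain ⟨lam, mu, hl0, hm0, rfl⟩ := exists_T h hh
  have hinv := over_invol lam mu hl0 hm0 l (W12_lt l hl) hm2
  have hcases := W12_invol l hl hinv
  by_cases hl0' : l = [0, 1, 0, 1, 0, 1]
  · subst hl0'
    exact conjT0_l0 hF lam mu hl0 hm0 hm2 hm1
  · have hmem := mem7_of_mem8 l hcases hl0'
    exact conjT0_refl hF l hmem _ ⟨T lam mu, T_mem _ _ hl0 hm0, rfl⟩ hm2 hm1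

/-- Every involution of the group is conjugate to `h_a(-1)`. -/
theorem conjT0_invol (hF : Odd (Fintype.card K)) (g : GL cdG2.D.Idx K) (hg : g ∈ cdG2.D.group K)
    (hg2 : g * g = 1) (hg1 : g ≠ 1) : ConjT0 g := by
  obtain ⟨x, hx, hxN⟩ := invol_conj_monomial atG2 len_G2 hF g hg hg2
  exact conjT0_of_conj g _ x hx rfl (conjT0_mono hF _ hxN (conj_sq_one g x hg2) (conj_ne_one g x hg1))

end

end Cfsg.Agent.Lib.Helper3.G2O
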