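import Mathlib
import Cfsg.Agent.Lib.Helper3.F4O1
import Cfsg.Agent.Lib.Helper3.G2O4
set_option autoImplicit false
set_option linter.unusedSectionVars false
set_option linter.unusedVariables false
set_option linter.unusedSimpArgs false
open Cfsg Cfsg.Lie

/-!
Involutions of the monomial subgroup of a Chevalley group over a finite field of odd order: every such
involution is conjugate to an element of the diagonal subgroup, provided a table check on the words of the
Weyl group succeeds.  The check is expressed through the classes modulo squares of the parameters.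
-/

namespace Cfsg.Agent.Lib.Helper3.ChevInv

open Cfsg.Agent.Lib.Helper3.ChevM Cfsg.Agent.Lib.Helper3.ChevAt Cfsg.Agent.Lib.Helper3.ChevAut
open Cfsg.Agent.Lib.Helper3 ChevU ChevT
open Cfsg.Agent.Lib.Helper3.SL2P

/-- The sum modulo two of a list of bits. -/
def xorL (L : List Bool) : Bool := L.foldr xor false

section sign
variable {F : Type*} [Field F] [Fintype F]

open Classical in
/-- The element is not a square. -/
noncomputable def nsq (x : F) : Bool := decide (¬ IsSquare x)

theorem nsq_eq_false_iff (x : F) : nsq x = false ↔ IsSquare x := by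
  unfold nsq
  simp

theorem nsq_eq_true_iff (x : F) : nsq x = true ↔ ¬ IsSquare x := by
  unfold nsq
  simp

theorem nsq_mul (a b : F) (ha : a ≠ 0) (hb : b ≠ 0) : nsq (a * b) = xor (nsq a) (nsq b) := by
  classical
  have e : ∀ x : F, nsq x = decide (quadraticChar F x = -1) := fun x => by
    unfold nsq
    exact decide_eq_decide.mpr quadraticChar_neg_one_iff_not_isSquare.symm
  rw [e, e, e, map_mul]
  rcases quadraticChar_dichotomy ha with h1 | h1 <;> rcases quadraticChar_dichotomy hb with h2 | h2 <;>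
    rw [h1, h2] <;> decide

theorem nsq_one : nsq (1 : F) = false := (nsq_eq_false_iff 1).mpr ⟨1, by simp⟩

theorem nsq_mul_self (a : F) : nsq (a * a) = false := (nsq_eq_false_iff _).mpr ⟨a, rfl⟩

theorem nsq_inv (a : F) (ha : a ≠ 0) : nsq a⁻¹ = nsq a := by
  have e : a⁻¹ = a * (a⁻¹ * a⁻¹) := by field_simp
  rw [e, nsq_mul a _ ha (mul_ne_zero (inv_ne_zero ha) (inv_ne_zero ha)), nsq_mul_self, Bool.xor_false]

theorem nsq_zpow (a : F) (ha : a ≠ 0) (k : ℤ) : nsq (a ^ k) = (nsq a && decide (k % 2 = 1)) := by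
  obtain ⟨m, rfl | rfl⟩ := Int.even_or_odd' k
  · have e : a ^ (2 * m) = a ^ m * a ^ m := by rw [two_mul, zpow_add₀ ha]
    have h2 : ¬ ((2 * m) % 2 = 1) := by omega
    rw [e, nsq_mul_self]
    simp [h2]
  · have e : a ^ (2 * m + 1) = a ^ m * a ^ m * a := by rw [zpow_add₀ ha, two_mul, zpow_add₀ ha, zpow_one]
    have h2 : (2 * m + 1) % 2 = 1 := by omega
    rw [e, nsq_mul _ _ (mul_ne_zero (zpow_ne_zero _ ha) (zpow_ne_zero _ ha)) ha, nsq_mul_self]
    simp [h2]

theorem nsq_list_prod (L : List F) (hL : ∀ x ∈ L, x ≠ 0) : nsq L.prod = xorL (L.map nsq) := by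
  induction L with
  | nil => exact nsq_one
  | cons x L ih =>
    have hL' : ∀ y ∈ L, y ≠ 0 := fun y hy => hL y (List.mem_cons_of_mem _ hy)
    have hp : L.prod ≠ 0 := by
      apply List.prod_ne_zero
      intro h0
      exact hL' 0 h0 rfl
    rw [List.prod_cons, nsq_mul _ _ (hL x List.mem_cons_self) hp, ih hL']
    rfl

theorem nsq_chiL (C : CDatum) (c : ℕ → F) (hc : ∀ i < C.D.rank, c i ≠ 0) (s : ℕ) :
    nsq (chiL C c s) = xorL ((List.range C.D.rank).map fun i => nsq (c i) && decide (C.D.cartan i s % 2 = 1)) := by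
  unfold chiL
  rw [nsq_list_prod, List.map_map]
  · congr 1
    apply List.map_congr_left
    intro i hi
    exact nsq_zpow (c i) (hc i (List.mem_range.mp hi)) _
  · intro x hx
    obtain ⟨i, hi, rfl⟩ := List.mem_map.mp hx
    exact zpow_ne_zero _ (hc i (List.mem_range.mp hi))

theorem nsq_intCast (η : ℤ) (hη : η = 1 ∨ η = -1) : nsq ((η : ℤ) : F) = (decide (η = -1) && nsq (-1 : F)) := by
  rcases hη with rfl | rfl
  · rw [Int.cast_one, nsq_one]
    simp
  · rw [Int.cast_neg, Int.cast_one]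
    simp

end sign

section defs
variable {C : CDatum} {R : RelData C}

/-- The number of roots mapped to their negatives by a word. -/
def muW (C : CDatum) (R : RelData C) (l : List ℕ) : ℕ :=
  ((List.range C.D.nroots).filter fun r => reflW R.refl l r == C.D.neg r).length

theorem muW_congr (l l' : List ℕ) (h : ∀ s < C.D.nroots, reflW R.refl l s = reflW R.refl l' s) :
    muW C R l = muW C R l' := by
  unfold muW
  congr 1
  apply List.filter_congr
  intro r hr
  rw [h r (List.mem_range.mp hr)]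

/-- The class modulo squares of the coefficient of the action of `h n_w` on the root `r`, in terms of the classes
`σ` of the parameters of `h` and the class `η0` of `-1`. -/
def sgnB (C : CDatum) (R : RelData C) (l : List ℕ) (σ : ℕ → Bool) (η0 : Bool) (r : ℕ) : Bool :=
  xor (xorL ((List.range C.D.rank).map fun i => σ i && decide (C.D.cartan i (reflW R.refl l r) % 2 = 1)))
    (decide (etaW R.refl R.eta l r = -1) && η0)

/-- The table facts on a word `l` used in the reduction of the involutions over `l`. -/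
structure StepOK (M : MonoHyp C R) (l : List ℕ) : Prop where
  sgn : ∀ (σ : ℕ → Bool) (η0 : Bool),
    (∀ r < C.D.nroots, reflW R.refl l (reflW R.refl l r) = r) → (∃ r < C.D.nroots, reflW R.refl l r ≠ r) →
    (∀ r < C.D.nroots, sgnB C R l σ η0 (reflW R.refl l r) = sgnB C R l σ η0 r) →
      (∃ a < C.D.nroots, reflW R.refl l a = C.D.neg a ∧ sgnB C R l σ η0 a = false) ∨
      (η0 = true ∧ ∃ a < C.D.nroots, ∃ b < C.D.nroots, reflW R.refl l a = C.D.neg a ∧
        reflW R.refl l b = C.D.neg b ∧ R.pair a (C.D.neg b) % 2 = 1)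
  dec : (∀ r < C.D.nroots, reflW R.refl l (reflW R.refl l r) = r) →
    ∀ a < C.D.nroots, reflW R.refl l a = C.D.neg a → muW C R (reflWord M a ++ l) < muW C R l

end defs

section main
variable {F : Type*} [Field F] {C : CDatum} {R : RelData C} (Y : AutHyp C R)
include Y

/-- The coefficient of the action of `h n_w` on the root `k`. -/
def cf (C : CDatum) (R : RelData C) (c : ℕ → F) (l : List ℕ) (k : ℕ) : F :=
  chiL C c (reflW R.refl l k) * ((etaW R.refl R.eta l k : ℤ) : F)

omit Y in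
theorem cf_ne_zero (c : ℕ → F) (hc : ∀ i < C.D.rank, c i ≠ 0) (l : List ℕ) (hl : ∀ i ∈ l, i < C.D.rank)
    (k : ℕ) (hk : k < C.D.nroots) : cf C R c l k ≠ 0 := by
  unfold cf
  apply mul_ne_zero (chiL_ne_zero C c hc _)
  rcases (R.conjRel_word (F := ℚ) l hl).sign k hk with h | h <;> rw [h] <;> simp

/-- The action of an element over the word `l` on the root elements. -/
theorem exists_coef (l : List ℕ) (hl : ∀ i ∈ l, i < C.D.rank) (m : GL C.D.Idx F) (hO : OverW R l m) :
    ∃ c : ℕ → F, (∀ i < C.D.rank, c i ≠ 0) ∧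
      ∀ k < C.D.nroots, ∀ t : F, m * R.xU k t * m⁻¹ = R.xU (reflW R.refl l k) (cf C R c l k * t) := by
  obtain ⟨h, hh, rfl⟩ := hO
  obtain ⟨c, hT⟩ := exists_tor Y h hh
  refine ⟨c, hT.2.1, fun k hk t => ?_⟩
  rw [conj_over Y h c hT l hl k hk t]
  unfold cf
  rw [mul_assoc]

omit Y in
theorem sq_conj_self (m x : GL C.D.Idx F) (hm2 : m * m = 1) : m * (m * x * m⁻¹) * m⁻¹ = x := by
  have : m * (m * x * m⁻¹) * m⁻¹ = (m * m) * x * (m * m)⁻¹ := by group
  rw [this, hm2]
  group

/-- The coefficients of an involution. -/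
theorem invol_coef (m : GL C.D.Idx F) (π : ℕ → ℕ) (f : ℕ → F) (hπ : ∀ k < C.D.nroots, π k < C.D.nroots)
    (hact : ∀ k < C.D.nroots, ∀ t : F, m * R.xU k t * m⁻¹ = R.xU (π k) (f k * t)) (hm2 : m * m = 1)
    (hππ : ∀ k < C.D.nroots, π (π k) = k) (k : ℕ) (hk : k < C.D.nroots) : f (π k) * f k = 1 := by
  have h1 := sq_conj_self m (R.xU k 1) hm2
  rw [hact k hk, hact (π k) (hπ k hk), hππ k hk] at h1
  have := xU_inj Y k hk _ _ h1
  rw [mul_one] at this
  exact this

variable [Fintype F]

omit Y in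
theorem nsq_cf (c : ℕ → F) (hc : ∀ i < C.D.rank, c i ≠ 0) (l : List ℕ) (hl : ∀ i ∈ l, i < C.D.rank)
    (k : ℕ) (hk : k < C.D.nroots) :
    nsq (cf C R c l k) = sgnB C R l (fun i => nsq (c i)) (nsq (-1 : F)) k := by
  have hs := (R.conjRel_word (F := ℚ) l hl).sign k hk
  have hne : ((etaW R.refl R.eta l k : ℤ) : F) ≠ 0 := by
    rcases hs with h | h <;> rw [h] <;> simp
  unfold cf sgnB
  rw [nsq_mul _ _ (chiL_ne_zero C c hc _) hne, nsq_chiL C c hc, nsq_intCast _ hs]

/-- The permutation of the roots induced by an involution is an involution. -/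
theorem invol_perm (l : List ℕ) (hl : ∀ i ∈ l, i < C.D.rank) (m : GL C.D.Idx F) (hO : OverW R l m)
    (hm2 : m * m = 1) : ∀ s < C.D.nroots, reflW R.refl l (reflW R.refl l s) = s := by
  have h1 : OverW R (l ++ l) (m * m) := over_mul Y.A.B.mono l l hl m m hO hO
  rw [hm2] at h1
  have h2 : OverW R [] (1 : GL C.D.Idx F) := over_diag 1 (Subgroup.one_mem _)
  have h3 := perm_eq_of_over Y.A.B.mono Y.A.B.dec (l ++ l) [] (by
    intro i hi
    rcases List.mem_append.mp hi with h | h <;> exact hl i h) (by simp) 1 h1 h2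
  intro s hs
  have := h3 s hs
  rwa [reflW_append] at this

end main

section steps
variable {F : Type*} [Field F] [Fintype F] {C : CDatum} {R : RelData C} (Y : AutHyp C R)
  (hcs : ∀ j < C.D.rank, C.D.cartan j (C.D.neg (C.D.simple j)) = -2)
include Y hcs

/-- The coefficient at the opposite root. -/
theorem coef_opp (l : List ℕ) (hl : ∀ i ∈ l, i < C.D.rank) (m : GL C.D.Idx F) (hO : OverW R l m)
    (hm2 : m * m = 1) (a : ℕ) (ha : a < C.D.nroots) (hπa : reflW R.refl l a = C.D.neg a) (κ : F)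
    (hX : ∀ t, m * R.xU a t * m⁻¹ = R.xU (C.D.neg a) (κ * t)) :
    ∀ t, m * R.xU (C.D.neg a) t * m⁻¹ = R.xU a (κ⁻¹ * t) := by
  obtain ⟨c, hc, hact⟩ := exists_coef Y l hl m hO
  have hperm := invol_perm Y l hl m hO hm2
  have hna := R.neg_lt a ha
  have hnn : C.D.neg (C.D.neg a) = a := (signCheck_spec (Y.A.sign a ha)).2.2
  have hπna : reflW R.refl l (C.D.neg a) = a := by
    rw [Y.A.B.mono.reflW_neg l hl a ha, hπa, hnn]
  have hca : cf C R c l a = κ := by
    have h1 := hact a ha 1
    rw [hX 1, hπa] at h1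
    have := xU_inj Y _ hna _ _ h1
    rw [mul_one, mul_one] at this
    exact this.symm
  have hinv := invol_coef Y m (reflW R.refl l) (cf C R c l) (fun k hk => R.reflW_lt l hl k hk) hact hm2 hperm a ha
  rw [hπa, hca] at hinv
  intro t
  rw [hact _ hna t, hπna, eq_inv_of_mul_eq_one_left hinv]

/-- An involution exchanging the root subgroups of `a` and `-a` with a square as coefficient is conjugate to an
element over a shorter word. -/
theorem step_sq (hF : Odd (Fintype.card F)) (l : List ℕ) (hl : ∀ i ∈ l, i < C.D.rank) (m : GL C.D.Idx F)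
    (hO : OverW R l m) (hm2 : m * m = 1) (a : ℕ) (ha : a < C.D.nroots) (hπa : reflW R.refl l a = C.D.neg a)
    (γ : F) (hγ : γ ≠ 0) (hX : ∀ t, m * R.xU a t * m⁻¹ = R.xU (C.D.neg a) (γ ^ 2 * t)) :
    ∃ g ∈ C.D.group F, OverW R (reflWord Y.A.B.mono a ++ l) (g * m * g⁻¹) := by
  have hY := coef_opp Y hcs l hl m hO hm2 a ha hπa (γ ^ 2) hX
  obtain ⟨g, hg, e⟩ := conj_nU_of_sq Y hcs m a ha γ hγ (G2O.two_ne_zero_of_odd hF) hX hY
  refine ⟨g, hg, ?_⟩
  rw [e]
  exact over_mul Y.A.B.mono _ _ (reflWord_lt Y.A.B.mono a ha) _ _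
    (over_nU Y.A.B.mono a ha _ (inv_ne_zero hγ)) hO

omit hcs in
theorem conj_sq_one (m g : GL C.D.Idx F) (hm2 : m * m = 1) : (g * m * g⁻¹) * (g * m * g⁻¹) = 1 := by
  have : (g * m * g⁻¹) * (g * m * g⁻¹) = g * (m * m) * g⁻¹ := by group
  rw [this, hm2]
  group

/-- An involution exchanging the root subgroups of `a` and `-a` and those of `b` and `-b` with the negatives of
squares as coefficients, where `⟨b, a^∨⟩` is odd, is conjugate to an element over a shorter word. -/
theorem step_flip (hF : Odd (Fintype.card F)) (l : List ℕ) (hl : ∀ i ∈ l, i < C.D.rank) (m : GL C.D.Idx F)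
    (hO : OverW R l m) (hm2 : m * m = 1) (a : ℕ) (ha : a < C.D.nroots) (hπa : reflW R.refl l a = C.D.neg a)
    (b : ℕ) (hb : b < C.D.nroots) (hπb : reflW R.refl l b = C.D.neg b)
    (hpar : R.pair a (C.D.neg b) % 2 = 1) (γ δ : F) (hγ : γ ≠ 0) (hδ : δ ≠ 0)
    (hXa : ∀ t, m * R.xU a t * m⁻¹ = R.xU (C.D.neg a) (-(γ ^ 2) * t))
    (hXb : ∀ t, m * R.xU b t * m⁻¹ = R.xU (C.D.neg b) (-(δ ^ 2) * t)) :
    ∃ g ∈ C.D.group F, OverW R (reflWord Y.A.B.mono b ++ l) (g * m * g⁻¹) := by
  have hYa := coef_opp Y hcs l hl m hO hm2 a ha hπa (-(γ ^ 2)) hXa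
  obtain ⟨p, q, hq, hpq⟩ := G2O.exists_sq_add_sq hF (K := F)
  obtain ⟨g1, hg1, e1⟩ := conj_hU_of_negsq Y hcs m a ha γ hγ p q hq hpq hXa hYa
  have hm1 : (-1 : F) ≠ 0 := by simp
  have hO1 : OverW R l (g1 * m * g1⁻¹) := by
    rw [e1]
    exact over_diag_mul Y.A.B.mono l _ _ (R.hU_mem a ha (-1) hm1) hO
  have hsq1 := conj_sq_one Y m g1 hm2
  have hX1 : ∀ t, (g1 * m * g1⁻¹) * R.xU b t * (g1 * m * g1⁻¹)⁻¹ = R.xU (C.D.neg b) (δ ^ 2 * t) := by
    intro t
    rw [e1]
    have e2 : R.hU a (-1) * m * R.xU b t * (R.hU a (-1) * m)⁻¹ =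
        R.hU a (-1) * (m * R.xU b t * m⁻¹) * (R.hU a (-1))⁻¹ := by group
    rw [e2, hXb, hU_conj_xU Y a ha (-1) hm1 _ (R.neg_lt b hb)]
    congr 1
    have hodd : Odd (R.pair a (C.D.neg b)) := Int.odd_iff.mpr hpar
    rw [hodd.neg_one_zpow]
    ring
  obtain ⟨g2, hg2, hO2⟩ := step_sq Y hcs hF l hl _ hO1 hsq1 b hb hπb δ hδ hX1
  refine ⟨g2 * g1, Subgroup.mul_mem _ hg2 hg1, ?_⟩
  have : g2 * g1 * m * (g2 * g1)⁻¹ = g2 * (g1 * m * g1⁻¹) * g2⁻¹ := by group
  rw [this]
  exact hO2

/-- Every involution of the monomial subgroup is conjugate to an element of the diagonal subgroup, when the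
table facts hold for a set of words representing all the elements of the Weyl group. -/
theorem over_invol_conj_diag (hF : Odd (Fintype.card F))
    (hcanon : ∀ l : List ℕ, (∀ i ∈ l, i < C.D.rank) → ∃ l' : List ℕ, (∀ i ∈ l', i < C.D.rank) ∧
      (∀ s < C.D.nroots, reflW R.refl l s = reflW R.refl l' s) ∧ StepOK Y.A.B.mono l') :
    ∀ (n : ℕ) (l : List ℕ), (∀ i ∈ l, i < C.D.rank) → muW C R l = n → ∀ m : GL C.D.Idx F, OverW R l m →
      m * m = 1 → ∃ g ∈ C.D.group F, g * m * g⁻¹ ∈ C.D.diagonalSubgroup F := by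
  intro n
  induction n using Nat.strong_induction_on with
  | _ n ih =>
    intro l hl hn m hO hm2
    obtain ⟨l', hl', hperm, hS⟩ := hcanon l hl
    have hO' : OverW R l' m := over_congr Y.A.B.mono Y.A.B.dec l l' hl hl' hperm m hO
    have hn' : muW C R l' = n := by rw [← muW_congr l l' hperm]; exact hn
    have hinv := invol_perm Y l' hl' m hO' hm2
    -- the conclusion from an element over a word with fewer negated roots
    have fin : ∀ (a : ℕ), a < C.D.nroots → reflW R.refl l' a = C.D.neg a →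
        (∃ g ∈ C.D.group F, OverW R (reflWord Y.A.B.mono a ++ l') (g * m * g⁻¹)) →
        ∃ g ∈ C.D.group F, g * m * g⁻¹ ∈ C.D.diagonalSubgroup F := by
      rintro a ha hπa ⟨g, hg, hOg⟩
      have hlt := hS.dec hinv a ha hπa
      rw [hn'] at hlt
      have hwl : ∀ i ∈ reflWord Y.A.B.mono a ++ l', i < C.D.rank := by
        intro i hi
        rcases List.mem_append.mp hi with h | h
        · exact reflWord_lt Y.A.B.mono a ha i h
        · exact hl' i h
      obtain ⟨g', hg', hd⟩ := ih _ hlt _ hwl rfl _ hOg (conj_sq_one Y m g hm2)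
      refine ⟨g' * g, Subgroup.mul_mem _ hg' hg, ?_⟩
      have : g' * g * m * (g' * g)⁻¹ = g' * (g * m * g⁻¹) * g'⁻¹ := by group
      rw [this]
      exact hd
    by_cases hid : ∃ r < C.D.nroots, reflW R.refl l' r ≠ r
    · obtain ⟨c, hc, hact⟩ := exists_coef Y l' hl' m hO'
      have hcoef := invol_coef Y m (reflW R.refl l') (cf C R c l') (fun k hk => R.reflW_lt l' hl' k hk) hact hm2 hinv
      have hcons : ∀ r < C.D.nroots, sgnB C R l' (fun i => nsq (c i)) (nsq (-1 : F)) (reflW R.refl l' r) =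
          sgnB C R l' (fun i => nsq (c i)) (nsq (-1 : F)) r := by
        intro r hr
        have hr' := R.reflW_lt l' hl' r hr
        rw [← nsq_cf c hc l' hl' r hr, ← nsq_cf c hc l' hl' _ hr']
        have h3 := nsq_mul _ _ (cf_ne_zero (R := R) c hc l' hl' _ hr') (cf_ne_zero (R := R) c hc l' hl' r hr)
        rw [hcoef r hr, nsq_one] at h3
        revert h3
        cases nsq (cf C R c l' (reflW R.refl l' r)) <;> cases nsq (cf C R c l' r) <;> simp
      have hm1 : (-1 : F) ≠ 0 := by simp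
      -- the case of a square coefficient
      have sqcase : ∀ a < C.D.nroots, reflW R.refl l' a = C.D.neg a → nsq (cf C R c l' a) = false →
          ∃ g ∈ C.D.group F, g * m * g⁻¹ ∈ C.D.diagonalSubgroup F := by
        intro a ha hπa hsa
        rw [nsq_eq_false_iff] at hsa
        obtain ⟨γ, hγ⟩ := hsa
        have hγ0 : γ ≠ 0 := by
          intro h0
          rw [h0, mul_zero] at hγ
          exact cf_ne_zero (R := R) c hc l' hl' a ha hγ
        apply fin a ha hπa
        apply step_sq Y hcs hF l' hl' m hO' hm2 a ha hπa γ hγ0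
        intro t
        rw [hact a ha t, hπa, hγ, pow_two]
      rcases hS.sgn _ _ hinv hid hcons with ⟨a, ha, hπa, hsa⟩ | ⟨hη, a, ha, b, hb, hπa, hπb, hpar⟩
      · rw [← nsq_cf c hc l' hl' a ha] at hsa
        exact sqcase a ha hπa hsa
      · by_cases hsa : nsq (cf C R c l' a) = false
        · exact sqcase a ha hπa hsa
        by_cases hsb : nsq (cf C R c l' b) = false
        · exact sqcase b hb hπb hsb
        rw [Bool.not_eq_false] at hsa hsb
        have negsq : ∀ x : F, x ≠ 0 → nsq x = true → ∃ γ : F, γ ≠ 0 ∧ x = -(γ ^ 2) := by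
          intro x hx hnx
          have h1 := nsq_mul (-1 : F) x hm1 hx
          rw [hη, hnx] at h1
          have h2 : IsSquare (-1 * x) := (nsq_eq_false_iff _).mp (by rw [h1]; rfl)
          obtain ⟨γ, hγ⟩ := h2
          refine ⟨γ, ?_, ?_⟩
          · intro h0
            rw [h0, mul_zero] at hγ
            exact mul_ne_zero hm1 hx hγ
          · rw [pow_two, ← hγ]
            ring
        obtain ⟨γ, hγ0, hγ⟩ := negsq _ (cf_ne_zero (R := R) c hc l' hl' a ha) hsa
        obtain ⟨δ, hδ0, hδ⟩ := negsq _ (cf_ne_zero (R := R) c hc l' hl' b hb) hsb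
        apply fin b hb hπb
        apply step_flip Y hcs hF l' hl' m hO' hm2 a ha hπa b hb hπb hpar γ δ hγ0 hδ0
        · intro t
          rw [hact a ha t, hπa, hγ]
        · intro t
          rw [hact b hb t, hπb, hδ]
    · push Not at hid
      obtain ⟨h, hh, rfl⟩ := hO'
      refine ⟨1, Subgroup.one_mem _, ?_⟩
      rw [one_mul, inv_one, mul_one]
      exact Subgroup.mul_mem _ hh (Y.A.B.mono.nWordU_mem_diagonal_of_fix Y.A.B.dec _ l' rfl hl' hid)

/-- Every involution of the monomial subgroup is conjugate to an element of the diagonal subgroup. -/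
theorem mono_invol_conj_diag (hF : Odd (Fintype.card F))
    (hcanon : ∀ l : List ℕ, (∀ i ∈ l, i < C.D.rank) → ∃ l' : List ℕ, (∀ i ∈ l', i < C.D.rank) ∧
      (∀ s < C.D.nroots, reflW R.refl l s = reflW R.refl l' s) ∧ StepOK Y.A.B.mono l')
    (m : GL C.D.Idx F) (hm : m ∈ C.D.monomialSubgroup F) (hm2 : m * m = 1) :
    ∃ g ∈ C.D.group F, g * m * g⁻¹ ∈ C.D.diagonalSubgroup F := by
  obtain ⟨l, hl, hO⟩ := exists_over Y.A.B.mono m hm
  exact over_invol_conj_diag Y hcs hF hcanon _ l hl rfl m hO hm2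

end steps

end Cfsg.Agent.Lib.Helper3.ChevInv
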