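import Mathlib
import Cfsg.Agent.Lib.Helper3.F4O2
import Cfsg.Agent.Lib.Helper3.ChevAutF4
import Cfsg.Agent.Lib.Helper3.F4T11
set_option autoImplicit false
set_option linter.unusedSectionVars false
set_option linter.unusedVariables false
set_option linter.unusedSimpArgs false
set_option maxRecDepth 1000000
open Cfsg Cfsg.Lie

/-!
The table check for the involutions of the monomial subgroup of the Chevalley group of type `F₄` over a finite
field of odd order: every such involution is conjugate to an element of the diagonal subgroup.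
-/

namespace Cfsg.Agent.Lib.Helper3.ChevInv

open Cfsg.Agent.Lib.Helper3.ChevM Cfsg.Agent.Lib.Helper3.ChevAt Cfsg.Agent.Lib.Helper3.ChevAut
open Cfsg.Agent.Lib.Helper3 ChevU ChevT

/-- Five bits as a number. -/
def enc5 (e k0 k1 k2 k3 : Bool) : ℕ := cond e 1 0 + cond k0 2 0 + cond k1 4 0 + cond k2 8 0 + cond k3 16 0

/-- The parity of the number of nonzero bits of a number below `32`. -/
def par5 (n : ℕ) : Bool := Nat.testBit 0x96696996 n

theorem enc5_lt : ∀ e k0 k1 k2 k3 : Bool, enc5 e k0 k1 k2 k3 < 32 := by decide

theorem par5_enc : ∀ e k0 k1 k2 k3 η0 s0 s1 s2 s3 : Bool,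
    par5 (enc5 e k0 k1 k2 k3 &&& enc5 η0 s0 s1 s2 s3) =
      xor (xor (s0 && k0) (xor (s1 && k1) (xor (s2 && k2) (xor (s3 && k3) false)))) (e && η0) := by decide

theorem par5_xor : ∀ u < 32, ∀ v < 32, ∀ x < 32,
    par5 ((u ^^^ v) &&& x) = xor (par5 (u &&& x)) (par5 (v &&& x)) := by decide +kernel

theorem enc5_bit0 : ∀ e k0 k1 k2 k3 : Bool, Nat.testBit (enc5 e k0 k1 k2 k3) 0 = e := by decide

/-- The vector of the classes attached to the root `r` and the word `l`. -/
def vecF (l : List ℕ) (r : ℕ) : ℕ :=
  enc5 (decide (etaW relF4.refl relF4.eta l r = -1))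
    (decide (cdF4.D.cartan 0 (reflW relF4.refl l r) % 2 = 1))
    (decide (cdF4.D.cartan 1 (reflW relF4.refl l r) % 2 = 1))
    (decide (cdF4.D.cartan 2 (reflW relF4.refl l r) % 2 = 1))
    (decide (cdF4.D.cartan 3 (reflW relF4.refl l r) % 2 = 1))

theorem vecF_lt (l : List ℕ) (r : ℕ) : vecF l r < 32 := enc5_lt _ _ _ _ _

theorem sgnB_F4 (l : List ℕ) (σ : ℕ → Bool) (η0 : Bool) (r : ℕ) :
    sgnB cdF4 relF4 l σ η0 r = par5 (vecF l r &&& enc5 η0 (σ 0) (σ 1) (σ 2) (σ 3)) := by
  unfold vecF
  rw [par5_enc]
  rfl

/-- The check on a word. -/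
def wordCheck (l : List ℕ) : Bool :=
  !((List.range 48).all fun r => reflW relF4.refl l (reflW relF4.refl l r) == r) ||
    ((List.range 48).all fun r => reflW relF4.refl l r == r) ||
    (((List.range 32).all fun x =>
        !(((List.range 48).map fun r => vecF l (reflW relF4.refl l r) ^^^ vecF l r).all fun d => !par5 (d &&& x)) ||
        ((((List.range 48).filter fun a => reflW relF4.refl l a == cdF4.D.neg a).map (vecF l)).any
          fun v => !par5 (v &&& x)) ||
        (Nat.testBit x 0 && (((List.range 48).filter fun a => reflW relF4.refl l a == cdF4.D.neg a).any fun a =>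
          ((List.range 48).filter fun a => reflW relF4.refl l a == cdF4.D.neg a).any fun b =>
            decide (relF4.pair a (cdF4.D.neg b) % 2 = 1)))) &&
      ((List.range 48).filter fun a => reflW relF4.refl l a == cdF4.D.neg a).all fun a =>
        decide (muW cdF4 relF4 (reflWord autHypF4.A.B.mono a ++ l) < muW cdF4 relF4 l))

theorem stepOK_of_check (l : List ℕ) (h : wordCheck l = true) : StepOK autHypF4.A.B.mono l := by
  have hmemNL : ∀ a : ℕ, a ∈ ((List.range 48).filter fun a => reflW relF4.refl l a == cdF4.D.neg a) ↔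
      a < 48 ∧ reflW relF4.refl l a = cdF4.D.neg a := by
    intro a
    rw [List.mem_filter, List.mem_range, beq_iff_eq]
  unfold wordCheck at h
  rw [Bool.or_eq_true, Bool.or_eq_true, Bool.not_eq_true', Bool.and_eq_true] at h
  constructor
  · intro σ η0 hinv hid hcons
    rcases h with (h | h) | h
    · exfalso
      have : ((List.range 48).all fun r => reflW relF4.refl l (reflW relF4.refl l r) == r) = true := by
        rw [List.all_eq_true]
        intro r hr
        exact beq_iff_eq.mpr (hinv r (List.mem_range.mp hr))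
      rw [this] at h
      exact Bool.noConfusion h
    · exfalso
      obtain ⟨r, hr, hne⟩ := hid
      rw [List.all_eq_true] at h
      exact hne (beq_iff_eq.mp (h r (List.mem_range.mpr hr)))
    · obtain ⟨h1, -⟩ := h
      rw [List.all_eq_true] at h1
      set x := enc5 η0 (σ 0) (σ 1) (σ 2) (σ 3) with hx
      have hx32 : x < 32 := enc5_lt _ _ _ _ _
      have h2 := h1 x (List.mem_range.mpr hx32)
      rw [Bool.or_eq_true, Bool.or_eq_true, Bool.not_eq_true'] at h2
      rcases h2 with (h2 | h2) | h2
      · exfalso
        have : (((List.range 48).map fun r => vecF l (reflW relF4.refl l r) ^^^ vecF l r).all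
            fun d => !par5 (d &&& x)) = true := by
          rw [List.all_eq_true]
          intro d hd
          obtain ⟨r, hr, rfl⟩ := List.mem_map.mp hd
          rw [par5_xor _ (vecF_lt _ _) _ (vecF_lt _ _) _ hx32, hx, ← sgnB_F4, ← sgnB_F4,
            hcons r (List.mem_range.mp hr)]
          simp
        rw [this] at h2
        exact Bool.noConfusion h2
      · left
        rw [List.any_eq_true] at h2
        obtain ⟨v, hv, hpv⟩ := h2
        obtain ⟨a, ha, rfl⟩ := List.mem_map.mp hv
        rw [hmemNL] at ha
        refine ⟨a, ha.1, ha.2, ?_⟩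
        rw [sgnB_F4, ← hx]
        simpa using hpv
      · right
        rw [Bool.and_eq_true, hx, enc5_bit0] at h2
        refine ⟨h2.1, ?_⟩
        have h3 := h2.2
        rw [List.any_eq_true] at h3
        obtain ⟨a, ha, h4⟩ := h3
        rw [List.any_eq_true] at h4
        obtain ⟨b, hb, h5⟩ := h4
        rw [hmemNL] at ha hb
        exact ⟨a, ha.1, b, hb.1, ha.2, hb.2, of_decide_eq_true h5⟩
  · intro hinv a ha hπa
    rcases h with (h | h) | h
    · exfalso
      have : ((List.range 48).all fun r => reflW relF4.refl l (reflW relF4.refl l r) == r) = true := by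
        rw [List.all_eq_true]
        intro r hr
        exact beq_iff_eq.mpr (hinv r (List.mem_range.mp hr))
      rw [this] at h
      exact Bool.noConfusion h
    · exfalso
      rw [List.all_eq_true] at h
      have h1 := beq_iff_eq.mp (h a (List.mem_range.mpr ha))
      have h2 : cdF4.D.neg a = a := hπa.symm.trans h1
      have h3 := (signCheck_spec (autHypF4.A.sign a ha)).1
      rw [h2] at h3
      by_cases hp : cdF4.D.IsPosRoot a
      · exact (h3.mp hp) hp
      · exact hp (h3.mpr hp)
    · obtain ⟨-, h2⟩ := h
      rw [List.all_eq_true] at h2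
      exact of_decide_eq_true (h2 a ((hmemNL a).mpr ⟨ha, hπa⟩))

end Cfsg.Agent.Lib.Helper3.ChevInv
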