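import Mathlib
import Cfsg.Agent.Lib.Helper3.F4O3
import Cfsg.Agent.Lib.Helper3.ChevH2
set_option autoImplicit false
set_option linter.unusedSectionVars false
set_option linter.unusedVariables false
set_option linter.unusedSimpArgs false
set_option maxRecDepth 1000000
open Cfsg Cfsg.Lie

/-!
The involutions of the diagonal subgroup of a Chevalley group: their action on the root elements is given by
a pattern of signs determined by the signs on the fundamental roots.  For type `F₄` every such involution is
conjugate under the monomial subgroup to one of two elements.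
-/

namespace Cfsg.Agent.Lib.Helper3.ChevInv

open Cfsg.Agent.Lib.Helper3.ChevM Cfsg.Agent.Lib.Helper3.ChevAt Cfsg.Agent.Lib.Helper3.ChevAut
open Cfsg.Agent.Lib.Helper3 ChevU ChevT ChevH

section vec
variable {F : Type*} [Field F] {C : CDatum}

/-- The character of a root in terms of the characters of the fundamental roots. -/
theorem chiL_vec (R : RelData C) (vec : ℕ → ℕ → ℤ)
    (hvec : ∀ i < C.D.rank, ∀ s < C.D.nroots, vecCheck C.D vec i s = true)
    (c : ℕ → F) (hc : ∀ i < C.D.rank, c i ≠ 0) (s : ℕ) (hs : s < C.D.nroots) :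
    chiL C c s = ((List.range C.D.rank).map fun j => chiL C c (C.D.simple j) ^ vec s j).prod := by
  classical
  let u : Fin C.D.rank → Fˣ := fun i => Units.mk0 (c i.val) (hc i.val i.isLt)
  have h1 : ∀ i : Fin C.D.rank, C.D.cartan i.val s =
      ∑ j : Fin C.D.rank, vec s j.val * C.D.cartan i.val (C.D.simple j.val) := by
    intro i
    have := hvec i.val i.isLt s hs
    simp only [vecCheck, decide_eq_true_eq] at this
    rw [this, list_range_sum_eq]
  have key : (∏ i : Fin C.D.rank, u i ^ C.D.cartan i.val s) =
      ∏ j : Fin C.D.rank, (∏ i : Fin C.D.rank, u i ^ C.D.cartan i.val (C.D.simple j.val)) ^ vec s j.val := by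
    calc ∏ i, u i ^ C.D.cartan i.val s
        = ∏ i, ∏ j : Fin C.D.rank, (u i ^ C.D.cartan i.val (C.D.simple j.val)) ^ vec s j.val := by
          apply Finset.prod_congr rfl
          intro i _
          rw [h1 i, zpow_finset_sum]
          apply Finset.prod_congr rfl
          intro j _
          rw [← zpow_mul, mul_comm]
      _ = ∏ j : Fin C.D.rank, (∏ i, u i ^ C.D.cartan i.val (C.D.simple j.val)) ^ vec s j.val := by
          rw [Finset.prod_comm]
          apply Finset.prod_congr rfl
          intro j _
          rw [Finset.prod_zpow]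
  have key2 := congrArg (fun x : Fˣ => (x : F)) key
  unfold chiL
  simp only [list_range_prod_eq]
  simpa [u, Units.coe_prod, Units.val_zpow_eq_zpow_val] using key2

/-- A product of powers of signs. -/
theorem prod_sign_zpow (L : List ℕ) (e : ℕ → F) (k : ℕ → ℤ) (b : ℕ → Bool)
    (he : ∀ j ∈ L, e j = if b j then -1 else 1) :
    (L.map fun j => e j ^ k j).prod = if xorL (L.map fun j => b j && decide (k j % 2 = 1)) then -1 else 1 := by
  induction L with
  | nil => simp [xorL]
  | cons j L ih =>
    have ih' := ih (fun i hi => he i (List.mem_cons_of_mem _ hi))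
    rw [List.map_cons, List.prod_cons, ih', he j List.mem_cons_self, List.map_cons]
    show _ = if xor (b j && decide (k j % 2 = 1)) (xorL (L.map fun j => b j && decide (k j % 2 = 1))) then _ else _
    cases hb : b j
    · simp
    · rcases Int.emod_two_eq_zero_or_one (k j) with h0 | h1
      · have hev : Even (k j) := Int.even_iff.mpr h0
        have h2 : ¬ (k j % 2 = 1) := by omega
        simp [hev.neg_one_zpow, h2]
      · have hod : Odd (k j) := Int.odd_iff.mpr h1
        simp only [if_true, hod.neg_one_zpow, h1, decide_true, Bool.and_true, Bool.true_xor]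
        cases xorL (L.map fun j => b j && decide (k j % 2 = 1)) <;> simp

/-- The pattern of signs on the roots determined by the signs `b` on the fundamental roots. -/
def hpat (C : CDatum) (vec : ℕ → ℕ → ℤ) (b : ℕ → Bool) (s : ℕ) : Bool :=
  xorL ((List.range C.D.rank).map fun j => b j && decide (vec s j % 2 = 1))

end vec

section diag
variable {F : Type*} [Field F] {C : CDatum} {R : RelData C} (Y : AutHyp C R)
include Y

/-- The characters of an involution of the diagonal subgroup are signs. -/
theorem tor_sq (t : GL C.D.Idx F) (c : ℕ → F) (hT : Tor R t c) (ht2 : t * t = 1) (s : ℕ) (hs : s < C.D.nroots) :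
    chiL C c s = 1 ∨ chiL C c s = -1 := by
  have h1 := sq_conj_self t (R.xU s 1) ht2
  rw [hT.2.2 s hs, hT.2.2 s hs] at h1
  have h2 := xU_inj Y s hs _ _ h1
  have h3 : (chiL C c s - 1) * (chiL C c s + 1) = 0 := by linear_combination h2
  rcases mul_eq_zero.mp h3 with h | h
  · exact Or.inl (by linear_combination h)
  · exact Or.inr (by linear_combination h)

/-- The pattern of signs of an involution of the diagonal subgroup. -/
theorem tor_pattern (vec : ℕ → ℕ → ℤ) (hvec : ∀ i < C.D.rank, ∀ s < C.D.nroots, vecCheck C.D vec i s = true)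
    (t : GL C.D.Idx F) (c : ℕ → F) (hT : Tor R t c) (ht2 : t * t = 1) :
    ∃ b : ℕ → Bool, ∀ s < C.D.nroots, chiL C c s = if hpat C vec b s then -1 else 1 := by
  classical
  refine ⟨fun j => decide (chiL C c (C.D.simple j) = -1), fun s hs => ?_⟩
  rw [chiL_vec R vec hvec c hT.2.1 s hs]
  unfold hpat
  apply prod_sign_zpow
  intro j hj
  have hj' := List.mem_range.mp hj
  rcases tor_sq Y t c hT ht2 _ (R.simple_lt j hj') with h | h
  · by_cases h' : chiL C c (C.D.simple j) = -1
    · simp [h']
    · simp [h', h]
  · simp [h]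

/-- The action of a conjugate of a diagonal element under a word. -/
theorem conj_word_diag (v : List ℕ) (hv : ∀ i ∈ v, i < C.D.rank) (t : GL C.D.Idx F) (ε : ℕ → F)
    (hε : ∀ k < C.D.nroots, ∀ u : F, t * R.xU k u * t⁻¹ = R.xU k (ε k * u)) (k : ℕ) (hk : k < C.D.nroots) (u : F) :
    (R.nWordU v * t * (R.nWordU v)⁻¹) * R.xU (reflW R.refl v k) u * (R.nWordU v * t * (R.nWordU v)⁻¹)⁻¹ =
      R.xU (reflW R.refl v k) (ε k * u) := by
  have hrel := R.conjRel_word (F := F) v hv
  have hc := fun t' => R.conj_units hrel (R.nWordU v) (R.nWordU_val v) k hk t'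
  have hηη : ((etaW R.refl R.eta v k : ℤ) : F) * ((etaW R.refl R.eta v k : ℤ) : F) = 1 := by
    rcases hrel.sign k hk with h1 | h1 <;> rw [h1] <;> simp
  have e1 : R.xU (reflW R.refl v k) u =
      R.nWordU v * R.xU k (((etaW R.refl R.eta v k : ℤ) : F) * u) * (R.nWordU v)⁻¹ := by
    rw [hc, ← mul_assoc, hηη, one_mul]
  rw [e1]
  have e2 : (R.nWordU v * t * (R.nWordU v)⁻¹) *
      (R.nWordU v * R.xU k (((etaW R.refl R.eta v k : ℤ) : F) * u) * (R.nWordU v)⁻¹) *
      (R.nWordU v * t * (R.nWordU v)⁻¹)⁻¹ =
      R.nWordU v * (t * R.xU k (((etaW R.refl R.eta v k : ℤ) : F) * u) * t⁻¹) * (R.nWordU v)⁻¹ := by group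
  rw [e2, hε k hk, hc]
  congr 1
  calc ((etaW R.refl R.eta v k : ℤ) : F) * (ε k * (((etaW R.refl R.eta v k : ℤ) : F) * u))
      = (((etaW R.refl R.eta v k : ℤ) : F) * ((etaW R.refl R.eta v k : ℤ) : F)) * (ε k * u) := by ring
    _ = _ := by rw [hηη, one_mul]

end diag

end Cfsg.Agent.Lib.Helper3.ChevInv
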