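import Mathlib
import Cfsg.Agent.Lib.Helper3.F4O3
set_option autoImplicit false
set_option maxRecDepth 1000000
open Cfsg Cfsg.Lie

/-!
The table check on the words representing the elements of the Weyl group of type `F₄`, split according to the
first coset representative.
-/

namespace Cfsg.Agent.Lib.Helper3.ChevInv

open Cfsg.Agent.Lib.Helper3.ChevM Cfsg.Agent.Lib.Helper3.ChevAt Cfsg.Agent.Lib.Helper3.ChevAut
open Cfsg.Agent.Lib.Helper3 ChevU ChevT

/-- The check for the words beginning with the `k`-th coset representative. -/
def wordCheckAt (k : ℕ) : Bool :=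
  dlF42.all fun b => dlF41.all fun c => dlF40.all fun d => wordCheck (dlF43.getD k [] ++ b ++ c ++ d)

theorem f4WC_0 : wordCheckAt 0 = true := by decide +kernel

theorem f4WC_1 : wordCheckAt 1 = true := by decide +kernel

theorem f4WC_2 : wordCheckAt 2 = true := by decide +kernel

theorem f4WC_3 : wordCheckAt 3 = true := by decide +kernel

theorem f4WC_4 : wordCheckAt 4 = true := by decide +kernel

theorem f4WC_5 : wordCheckAt 5 = true := by decide +kernel

theorem f4WC_6 : wordCheckAt 6 = true := by decide +kernel

theorem f4WC_7 : wordCheckAt 7 = true := by decide +kernel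

theorem f4WC_8 : wordCheckAt 8 = true := by decide +kernel

theorem f4WC_9 : wordCheckAt 9 = true := by decide +kernel

theorem f4WC_10 : wordCheckAt 10 = true := by decide +kernel

theorem f4WC_11 : wordCheckAt 11 = true := by decide +kernel

theorem f4WC_12 : wordCheckAt 12 = true := by decide +kernel

theorem f4WC_13 : wordCheckAt 13 = true := by decide +kernel

theorem f4WC_14 : wordCheckAt 14 = true := by decide +kernel

theorem f4WC_15 : wordCheckAt 15 = true := by decide +kernel

theorem f4WC_16 : wordCheckAt 16 = true := by decide +kernel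

theorem f4WC_17 : wordCheckAt 17 = true := by decide +kernel

theorem f4WC_18 : wordCheckAt 18 = true := by decide +kernel

theorem f4WC_19 : wordCheckAt 19 = true := by decide +kernel

theorem f4WC_20 : wordCheckAt 20 = true := by decide +kernel

theorem f4WC_21 : wordCheckAt 21 = true := by decide +kernel

theorem f4WC_22 : wordCheckAt 22 = true := by decide +kernel

theorem f4WC_23 : wordCheckAt 23 = true := by decide +kernel

theorem f4WordCheckAt : ∀ k < 24, wordCheckAt k = true := by
  intro k hk
  interval_cases k
  · exact f4WC_0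
  · exact f4WC_1
  · exact f4WC_2
  · exact f4WC_3
  · exact f4WC_4
  · exact f4WC_5
  · exact f4WC_6
  · exact f4WC_7
  · exact f4WC_8
  · exact f4WC_9
  · exact f4WC_10
  · exact f4WC_11
  · exact f4WC_12
  · exact f4WC_13
  · exact f4WC_14
  · exact f4WC_15
  · exact f4WC_16
  · exact f4WC_17
  · exact f4WC_18
  · exact f4WC_19
  · exact f4WC_20
  · exact f4WC_21
  · exact f4WC_22
  · exact f4WC_23

/-- The table check on the words representing the elements of the Weyl group. -/
theorem f4WordCheck : ∀ a ∈ dlF43, ∀ b ∈ dlF42, ∀ c ∈ dlF41, ∀ d ∈ dlF40, wordCheck (a ++ b ++ c ++ d) = true := by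
  intro a ha b hb c hc d hd
  obtain ⟨k, hk, rfl⟩ := List.mem_iff_getElem.mp ha
  have hk24 : k < 24 := by
    have : dlF43.length = 24 := by decide
    omega
  have h := f4WordCheckAt k hk24
  unfold wordCheckAt at h
  rw [List.getD_eq_getElem _ _ hk, List.all_eq_true] at h
  have h1 := h b hb
  rw [List.all_eq_true] at h1
  have h2 := h1 c hc
  rw [List.all_eq_true] at h2
  exact h2 d hd

end Cfsg.Agent.Lib.Helper3.ChevInv
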