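import Mathlib
import Cfsg.Agent.Lib.Helper3.F4O4
import Cfsg.Agent.Lib.Helper3.F4O5a
set_option autoImplicit false
set_option linter.unusedSectionVars false
set_option linter.unusedVariables false
set_option linter.unusedSimpArgs false
set_option maxRecDepth 1000000
open Cfsg Cfsg.Lie

/-!
The involutions of the Chevalley group of type `F₄` over a finite field of odd order: each of them is
conjugate to `h_{p_2}(-1)` or to `h_{p_4}(-1)`.
-/

namespace Cfsg.Agent.Lib.Helper3.ChevInv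

open Cfsg.Agent.Lib.Helper3.ChevM Cfsg.Agent.Lib.Helper3.ChevAt Cfsg.Agent.Lib.Helper3.ChevAut
open Cfsg.Agent.Lib.Helper3 ChevU ChevT ChevH

theorem f4_canon (l : List ℕ) (hl : ∀ i ∈ l, i < cdF4.D.rank) :
    ∃ l' : List ℕ, (∀ i ∈ l', i < cdF4.D.rank) ∧
      (∀ s < cdF4.D.nroots, reflW relF4.refl l s = reflW relF4.refl l' s) ∧ StepOK autHypF4.A.B.mono l' := by
  obtain ⟨a, ha, b, hb, c, hc, d, hd, e⟩ := RF4.exists_four_rep l hl
  refine ⟨a ++ b ++ c ++ d, ?_, e, stepOK_of_check _ ?_⟩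
  · have h43 : ∀ x ∈ dlF43, ∀ i ∈ x, i < 4 := by decide +kernel
    have h42 : ∀ x ∈ dlF42, ∀ i ∈ x, i < 4 := by decide +kernel
    have h41 : ∀ x ∈ dlF41, ∀ i ∈ x, i < 4 := by decide +kernel
    have h40 : ∀ x ∈ dlF40, ∀ i ∈ x, i < 4 := by decide +kernel
    intro i hi
    simp only [List.mem_append] at hi
    rcases hi with ((hi | hi) | hi) | hi
    · exact h43 a ha i hi
    · exact h42 b hb i hi
    · exact h41 c hc i hi
    · exact h40 d hd i hi
  · exact f4WordCheck a ha b hb c hc d hd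

section
variable {F : Type*} [Field F]

theorem neg_one_zpow_eq (n : ℤ) : (-1 : F) ^ n = if n % 2 = 1 then -1 else 1 := by
  rcases Int.emod_two_eq_zero_or_one n with h0 | h1
  · have hev : Even n := Int.even_iff.mpr h0
    have h2 : ¬ (n % 2 = 1) := by omega
    rw [hev.neg_one_zpow, if_neg h2]
  · have hod : Odd n := Int.odd_iff.mpr h1
    rw [hod.neg_one_zpow, if_pos h1]

theorem neg_one_ne_zero_F : (-1 : F) ≠ 0 := by simp

/-- The elements `h_a(-1)` square to the identity. -/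
theorem hU_neg_one_sq {C : CDatum} {R : RelData C} (Y : AutHyp C R) (a : ℕ) (ha : a < C.D.nroots) :
    R.hU a (-1 : F) * R.hU a (-1) = 1 := by
  have hh := R.hU_mem a ha (-1 : F) neg_one_ne_zero_F
  apply diag_ext Y _ _ (Subgroup.mul_mem _ hh hh) (Subgroup.one_mem _)
  intro s hs
  have e : R.hU a (-1 : F) * R.hU a (-1) * R.xU s 1 * (R.hU a (-1 : F) * R.hU a (-1))⁻¹ =
      R.hU a (-1 : F) * (R.hU a (-1) * R.xU s 1 * (R.hU a (-1))⁻¹) * (R.hU a (-1 : F))⁻¹ := by group
  rw [e, hU_conj_xU Y a ha _ neg_one_ne_zero_F s hs, hU_conj_xU Y a ha _ neg_one_ne_zero_F s hs, one_mul, inv_one,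
    mul_one, neg_one_zpow_eq]
  split_ifs <;> simp

/-- The elements `h_a(-1)` are not trivial when some `⟨s, a^∨⟩` is odd. -/
theorem hU_neg_one_ne_one {C : CDatum} {R : RelData C} (Y : AutHyp C R) (a : ℕ) (ha : a < C.D.nroots) (s : ℕ)
    (hs : s < C.D.nroots) (hodd : R.pair a s % 2 = 1) (h2 : (2 : F) ≠ 0) : R.hU a (-1 : F) ≠ 1 := by
  intro h
  have h1 := hU_conj_xU Y a ha (-1 : F) neg_one_ne_zero_F s hs 1
  rw [h, one_mul, inv_one, mul_one, neg_one_zpow_eq, if_pos hodd] at h1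
  have h3 := xU_inj Y s hs _ _ h1
  apply h2
  linear_combination h3

end

/-- The words conjugating the involutions of the diagonal subgroup to the two representatives. -/
def hwF4 : List (List ℕ × Bool) :=
  [([], true), ([], true), ([0, 1], true), ([0], true), ([], false), ([2, 1, 2], false), ([2, 1, 2, 0, 1], false),
    ([2, 1, 2, 0], false), ([2, 1, 2, 0, 1, 2, 3], false), ([2, 3, 1, 0], false), ([2, 3], false),
    ([2, 3, 1], false), ([2, 1, 2, 0, 1, 2], false), ([2, 1, 0], false), ([2], false), ([2, 1], false)]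

/-- Four bits as a number. -/
def enc4 (b0 b1 b2 b3 : Bool) : ℕ := cond b0 1 0 + cond b1 2 0 + cond b2 4 0 + cond b3 8 0

/-- The check on the pattern of signs `b`. -/
def hCheck (b0 b1 b2 b3 : Bool) : Bool :=
  ((hwF4.getD (enc4 b0 b1 b2 b3) ([], true)).1.all fun i => decide (i < 4)) &&
  (List.range 48).all fun k =>
    hpat cdF4 vecF4 (fun j => [b0, b1, b2, b3].getD j false) k ==
      ((b0 || b1 || b2 || b3) && decide (relF4.pair (cond (hwF4.getD (enc4 b0 b1 b2 b3) ([], true)).2 27 24)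
        (reflW relF4.refl (hwF4.getD (enc4 b0 b1 b2 b3) ([], true)).1 k) % 2 = 1))

theorem f4HCheck : ∀ b0 b1 b2 b3 : Bool, hCheck b0 b1 b2 b3 = true := by decide +kernel

section
variable {F : Type*} [Field F]

/-- Every involution of the diagonal subgroup is conjugate to one of the two representatives. -/
theorem f4_diag_invol (t : GL cdF4.D.Idx F) (ht : t ∈ cdF4.D.diagonalSubgroup F) (ht2 : t * t = 1) (ht1 : t ≠ 1) :
    ∃ v : List ℕ, (∀ i ∈ v, i < cdF4.D.rank) ∧
      (relF4.nWordU v * t * (relF4.nWordU v)⁻¹ = relF4.hU 27 (-1) ∨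
        relF4.nWordU v * t * (relF4.nWordU v)⁻¹ = relF4.hU 24 (-1)) := by
  obtain ⟨c, hT⟩ := exists_tor autHypF4 t ht
  obtain ⟨b, hb⟩ := tor_pattern autHypF4 vecF4 (of_pairRange (m := 4) (n := 48) f4Vec) t c hT ht2
  have hchk := f4HCheck (b 0) (b 1) (b 2) (b 3)
  have hpat_eq : ∀ s, hpat cdF4 vecF4 b s = hpat cdF4 vecF4 (fun j => [b 0, b 1, b 2, b 3].getD j false) s :=
    fun s => rfl
  unfold hCheck at hchk
  rw [Bool.and_eq_true, List.all_eq_true, List.all_eq_true] at hchk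
  obtain ⟨hv4, hk⟩ := hchk
  set v := (hwF4.getD (enc4 (b 0) (b 1) (b 2) (b 3)) ([], true)).1 with hvdef
  set ty := (hwF4.getD (enc4 (b 0) (b 1) (b 2) (b 3)) ([], true)).2 with htydef
  have hv : ∀ i ∈ v, i < cdF4.D.rank := fun i hi => of_decide_eq_true (hv4 i hi)
  by_cases hb0 : (b 0 || b 1 || b 2 || b 3) = true
  · refine ⟨v, hv, ?_⟩
    have key : ∀ a : ℕ, a < 48 → cond ty 27 24 = a →
        relF4.nWordU v * t * (relF4.nWordU v)⁻¹ = relF4.hU a (-1 : F) := by
      intro a ha hta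
      apply diag_ext autHypF4 _ _
        (autHypF4.A.B.mono.conj_mem _ (relF4.nWordU_mem v hv) _ ht) (relF4.hU_mem a ha _ neg_one_ne_zero_F)
      intro s hs
      have hrl : ∀ i ∈ v.reverse, i < cdF4.D.rank := fun i hi => hv i (List.mem_reverse.mp hi)
      have hk48 : reflW relF4.refl v.reverse s < cdF4.D.nroots := relF4.reflW_lt _ hrl s hs
      have hsk : reflW relF4.refl v (reflW relF4.refl v.reverse s) = s := by
        have := relF4.reflW_reverse autHypF4.A.B.mono.inv v.reverse hrl s hs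
        rwa [List.reverse_reverse] at this
      have h1 := conj_word_diag autHypF4 v hv t (fun k => chiL cdF4 c k) hT.2.2 _ hk48 (1 : F)
      rw [hsk] at h1
      rw [h1, hU_conj_xU autHypF4 a ha _ neg_one_ne_zero_F s hs, hb _ hk48, hpat_eq,
        beq_iff_eq.mp (hk _ (List.mem_range.mpr hk48)), hb0, Bool.true_and, hsk, hta, neg_one_zpow_eq]
      congr 2
      by_cases hp : relF4.pair a s % 2 = 1 <;> simp [hp]
    cases hty : ty
    · right
      exact key 24 (by norm_num) (by rw [hty]; rfl)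
    · left
      exact key 27 (by norm_num) (by rw [hty]; rfl)
  · exfalso
    apply ht1
    apply diag_ext autHypF4 t 1 ht (Subgroup.one_mem _)
    intro s hs
    rw [hT.2.2 s hs, hb s hs, hpat_eq, beq_iff_eq.mp (hk s (List.mem_range.mpr hs))]
    rw [Bool.not_eq_true] at hb0
    rw [hb0]
    simp

variable [Fintype F]

/-- Every involution of the monomial subgroup is conjugate to an element of the diagonal subgroup. -/
theorem f4_mono_invol (hF : Odd (Fintype.card F)) (m : GL cdF4.D.Idx F) (hm : m ∈ cdF4.D.monomialSubgroup F)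
    (hm2 : m * m = 1) : ∃ g ∈ cdF4.D.group F, g * m * g⁻¹ ∈ cdF4.D.diagonalSubgroup F :=
  mono_invol_conj_diag autHypF4 genHypF4.hcs hF f4_canon m hm hm2

/-- Every involution is conjugate to one of the two representatives. -/
theorem f4_invol_conj (hF : Odd (Fintype.card F)) (g : GL cdF4.D.Idx F) (hg : g ∈ cdF4.D.group F)
    (hg2 : g * g = 1) (hg1 : g ≠ 1) :
    ∃ x ∈ cdF4.D.group F, x * g * x⁻¹ = relF4.hU 27 (-1) ∨ x * g * x⁻¹ = relF4.hU 24 (-1) := by
  obtain ⟨x1, hx1, hm⟩ := G2O.invol_conj_monomial autHypF4.A (by decide) hF g hg hg2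
  obtain ⟨x2, hx2, ht⟩ := f4_mono_invol hF _ hm (conj_sq_one autHypF4 g x1 hg2)
  have ht2 := conj_sq_one autHypF4 _ x2 (conj_sq_one autHypF4 g x1 hg2)
  have ht1 : x2 * (x1 * g * x1⁻¹) * x2⁻¹ ≠ 1 := by
    intro h
    apply hg1
    have : g = x1⁻¹ * (x2⁻¹ * (x2 * (x1 * g * x1⁻¹) * x2⁻¹) * x2) * x1 := by group
    rw [this, h]
    group
  obtain ⟨v, hv, hcase⟩ := f4_diag_invol _ ht ht2 ht1
  have hn : relF4.nWordU (F := F) v ∈ cdF4.D.group F :=
    relF4.monomialSubgroup_le_group (relF4.nWordU_mem v hv)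
  refine ⟨relF4.nWordU v * x2 * x1, Subgroup.mul_mem _ (Subgroup.mul_mem _ hn hx2) hx1, ?_⟩
  have e : relF4.nWordU v * x2 * x1 * g * (relF4.nWordU v * x2 * x1)⁻¹ =
      relF4.nWordU v * (x2 * (x1 * g * x1⁻¹) * x2⁻¹) * (relF4.nWordU v)⁻¹ := by group
  rw [e]
  exact hcase

end

end Cfsg.Agent.Lib.Helper3.ChevInv
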