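import Mathlib
import Cfsg.Agent.Lib.Helper3.F4O4
import Cfsg.Agent.Lib.Helper3.ChevO3
set_option autoImplicit false
set_option linter.unusedSectionVars false
set_option linter.unusedVariables false
set_option linter.unusedSimpArgs false
set_option linter.style.haveILetI false
open Cfsg Cfsg.Lie

/-!
The order of the centralizer of an involution of the diagonal subgroup of a Chevalley group over a finite
field of odd order, by means of the normal form of Bruhat: a sum over the elements of the Weyl group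
preserving the pattern of signs of the involution.
-/

namespace Cfsg.Agent.Lib.Helper3.ChevInv

open Cfsg.Agent.Lib.Helper3.ChevM Cfsg.Agent.Lib.Helper3.ChevAt Cfsg.Agent.Lib.Helper3.ChevAut
open Cfsg.Agent.Lib.Helper3 ChevU ChevT ChevH DoubleCoset

section lp
variable {F : Type*} [Field F] {C : CDatum} {R : RelData C}

/-- The conjugate of a product of root elements by an element acting on each of them by a scalar. -/
theorem conj_lprod (t : GL C.D.Idx F) (ε : ℕ → F) (L : List ℕ)
    (hL : ∀ r ∈ L, ∀ u : F, t * R.xU r u * t⁻¹ = R.xU r (ε r * u)) (τ : ℕ → F) :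
    t * RootSys.lprod (fun r (u : F) => R.xU r u) L τ * t⁻¹ =
      RootSys.lprod (fun r (u : F) => R.xU r u) L (fun r => ε r * τ r) := by
  induction L with
  | nil => simp [RootSys.lprod]
  | cons r L ih =>
    have ih' := ih (fun s hs => hL s (List.mem_cons_of_mem _ hs))
    unfold RootSys.lprod at ih' ⊢
    dsimp only at ih' ⊢
    rw [List.map_cons, List.prod_cons, List.map_cons, List.prod_cons, ← ih', ← hL r List.mem_cons_self]
    group

theorem lprod_congr (L : List ℕ) (τ τ' : ℕ → F) (h : ∀ r ∈ L, τ r = τ' r) :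
    RootSys.lprod (fun r (u : F) => R.xU r u) L τ = RootSys.lprod (fun r (u : F) => R.xU r u) L τ' := by
  unfold RootSys.lprod
  congr 1
  apply List.map_congr_left
  intro r hr
  rw [h r hr]

/-- The factors with parameter zero can be omitted. -/
theorem lprod_filter (L : List ℕ) (p : ℕ → Bool) (τ : ℕ → F) (h0 : ∀ r ∈ L, p r = false → τ r = 0) :
    RootSys.lprod (fun r (u : F) => R.xU r u) L τ =
      RootSys.lprod (fun r (u : F) => R.xU r u) (L.filter p) τ := by
  induction L with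
  | nil => rfl
  | cons r L ih =>
    have ih' := ih (fun s hs => h0 s (List.mem_cons_of_mem _ hs))
    unfold RootSys.lprod at ih' ⊢
    dsimp only at ih' ⊢
    cases hp : p r
    · rw [List.filter_cons_of_neg (by simp [hp]), List.map_cons, List.prod_cons,
        h0 r List.mem_cons_self hp, R.xU_zero, one_mul, ih']
    · rw [List.filter_cons_of_pos (by simp [hp]), List.map_cons, List.prod_cons, List.map_cons, List.prod_cons, ih']

theorem lprod_mem_pos (H : AtHyp C R) (L : List ℕ) (hpos : ∀ r ∈ L, C.D.IsPosRoot r) (τ : ℕ → F) :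
    RootSys.lprod (fun r (u : F) => R.xU r u) L τ ∈ C.D.posUnipotent F := by
  unfold RootSys.lprod
  apply Subgroup.list_prod_mem
  intro x hx
  obtain ⟨r, hr, rfl⟩ := List.mem_map.mp hx
  exact xU_mem_pos H r (hpos r hr) _

end lp

section defs

/-- The number of positive roots fixed by the pattern which are made negative. -/
def NfP (D : ChevalleyDatum) (fixB : ℕ → Bool) (f : Fin D.nroots → Fin D.nroots) : ℕ :=
  (Finset.univ.filter fun s : Fin D.nroots => D.IsPosRoot s.val ∧ fixB s.val = true ∧ D.IsNegRoot (f s).val).card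

/-- The permutation preserves the pattern. -/
def Pres (D : ChevalleyDatum) (fixB : ℕ → Bool) (f : Fin D.nroots → Fin D.nroots) : Prop :=
  ∀ s : Fin D.nroots, fixB (f s).val = fixB s.val

open Classical in
/-- The Poincaré sum of the stabilizer of the pattern. -/
noncomputable def poinP (D : ChevalleyDatum) (refl : ℕ → ℕ → ℕ) (fixB : ℕ → Bool) (q : ℕ) : ℕ :=
  ∑ f ∈ Finset.univ.filter (fun f => f ∈ Wset D refl Set.univ ∧ Pres D fixB f), q ^ NfP D fixB f

theorem NfP_wperm {C : CDatum} (R : RelData C) (fixB : ℕ → Bool) (w : List ℕ) (hw : ∀ i ∈ w, i < C.D.rank) :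
    NfP C.D fixB (wperm C.D R.refl w) = ((negSet C.D R.refl w).filter fixB).length := by
  unfold NfP
  have e1 : (Finset.univ.filter fun s : Fin C.D.nroots =>
      C.D.IsPosRoot s.val ∧ fixB s.val = true ∧ C.D.IsNegRoot (wperm C.D R.refl w s).val) =
      (Finset.univ.filter fun s : Fin C.D.nroots =>
      C.D.IsPosRoot s.val ∧ fixB s.val = true ∧ C.D.IsNegRoot (reflW R.refl w s.val)) := by
    ext s
    simp only [Finset.mem_filter, Finset.mem_univ, true_and]
    rw [R.wperm_val w hw]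
  rw [e1, ← list_filter_range_length C.D.nroots
    (fun s => C.D.IsPosRoot s ∧ fixB s = true ∧ C.D.IsNegRoot (reflW R.refl w s))]
  unfold negSet ChevalleyDatum.posRoots
  rw [List.filter_filter, List.filter_filter]
  congr 1
  apply List.filter_congr
  intro s _
  by_cases h1 : C.D.IsPosRoot s <;> by_cases h2 : C.D.IsNegRoot (reflW R.refl w s) <;> cases h3 : fixB s <;>
    simp [h1, h2, h3]

end defs

section cent
variable {F : Type*} [Field F] {C : CDatum} {R : RelData C} (Y : AutHyp C R)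
include Y

/-- The facts on the action of the involution `t` used in the count. -/
structure CentData (t : GL C.D.Idx F) (fixB : ℕ → Bool) : Prop where
  mem : t ∈ C.D.diagonalSubgroup F
  act : ∀ s < C.D.nroots, ∀ u : F, t * R.xU s u * t⁻¹ = R.xU s ((if fixB s then 1 else -1) * u)
  two : (2 : F) ≠ 0

variable {t : GL C.D.Idx F} {fixB : ℕ → Bool} (D : CentData (R := R) t fixB)
include D

theorem CentData.fix_lprod (L : List ℕ) (hL : ∀ r ∈ L, r < C.D.nroots) (hfix : ∀ r ∈ L, fixB r = true)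
    (τ : ℕ → F) : t * RootSys.lprod (fun r (u : F) => R.xU r u) L τ * t⁻¹ =
      RootSys.lprod (fun r (u : F) => R.xU r u) L τ := by
  rw [conj_lprod t (fun s => if fixB s then 1 else -1) L (fun r hr u => D.act r (hL r hr) u) τ]
  apply lprod_congr
  intro r hr
  rw [hfix r hr, if_pos rfl, one_mul]

theorem CentData.comm_diag (h : GL C.D.Idx F) (hh : h ∈ C.D.diagonalSubgroup F) : t * h * t⁻¹ = h := by
  rw [R.diagonal_comm Y.A.B.dec t h D.mem hh]
  group

/-- The representative of a word preserving the pattern commutes with `t`. -/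
theorem CentData.comm_word (w : List ℕ) (hw : ∀ i ∈ w, i < C.D.rank)
    (hp : ∀ s < C.D.nroots, fixB (reflW R.refl w s) = fixB s) : t * R.nWordU w * t⁻¹ = R.nWordU w := by
  have hmem : R.nWordU w * t * (R.nWordU w)⁻¹ ∈ C.D.diagonalSubgroup F :=
    Y.A.B.mono.conj_mem _ (R.nWordU_mem w hw) _ D.mem
  have e : R.nWordU w * t * (R.nWordU w)⁻¹ = t := by
    apply diag_ext Y _ _ hmem D.mem
    intro s hs
    have hrl : ∀ i ∈ w.reverse, i < C.D.rank := fun i hi => hw i (List.mem_reverse.mp hi)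
    have hk : reflW R.refl w.reverse s < C.D.nroots := R.reflW_lt _ hrl s hs
    have hsk : reflW R.refl w (reflW R.refl w.reverse s) = s := by
      have := R.reflW_reverse Y.A.B.mono.inv w.reverse hrl s hs
      rwa [List.reverse_reverse] at this
    have h1 := conj_word_diag Y w hw t (fun s => if fixB s then 1 else -1) D.act _ hk (1 : F)
    rw [hsk] at h1
    rw [h1, D.act s hs]
    rw [← hp _ hk, hsk]
  calc t * R.nWordU w * t⁻¹ = (R.nWordU w * t * (R.nWordU w)⁻¹)⁻¹⁻¹ * R.nWordU w * t⁻¹ := by rw [e, inv_inv]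
    _ = R.nWordU w := by group

omit Y in
theorem CentData.eps_inj (a b : ℕ) (h : (if fixB a then (1 : F) else -1) = if fixB b then 1 else -1) :
    fixB a = fixB b := by
  have h2 := D.two
  cases ha : fixB a <;> cases hb : fixB b <;> rw [ha, hb] at h <;> simp at h ⊢
  · exact h2 (by linear_combination -h)
  · exact h2 (by linear_combination h)

/-- A word whose representative commutes with `t` preserves the pattern. -/
theorem CentData.pres_of_comm (w : List ℕ) (hw : ∀ i ∈ w, i < C.D.rank)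
    (hc : t * R.nWordU w * t⁻¹ = R.nWordU w) : ∀ s < C.D.nroots, fixB (reflW R.refl w s) = fixB s := by
  intro k hk
  have e : R.nWordU w * t * (R.nWordU w)⁻¹ = t := by
    calc R.nWordU w * t * (R.nWordU w)⁻¹ = (t * R.nWordU w * t⁻¹) * t * (R.nWordU w)⁻¹ := by rw [hc]
      _ = t := by group
  have h1 := conj_word_diag Y w hw t (fun s => if fixB s then 1 else -1) D.act k hk (1 : F)
  rw [e, D.act _ (R.reflW_lt w hw k hk)] at h1
  have h2 := xU_inj Y _ (R.reflW_lt w hw k hk) _ _ h1
  rw [mul_one, mul_one] at h2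
  exact D.eps_inj _ _ h2

/-- A product of root elements over positive roots centralized by `t` only involves the roots fixed by the
pattern. -/
theorem CentData.cent_lprod (L : List ℕ) (hL : L.Pairwise (· < ·)) (hpos : ∀ r ∈ L, C.D.IsPosRoot r)
    (τ : ℕ → F) (hc : t * RootSys.lprod (fun r (u : F) => R.xU r u) L τ * t⁻¹ =
      RootSys.lprod (fun r (u : F) => R.xU r u) L τ) :
    RootSys.lprod (fun r (u : F) => R.xU r u) L τ =
      RootSys.lprod (fun r (u : F) => R.xU r u) (L.filter fixB) τ := by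
  rw [conj_lprod t (fun s => if fixB s then 1 else -1) L (fun r hr u => D.act r (hpos r hr).1 u) τ] at hc
  have h1 := R.lprod_inj Y.A.U.hf Y.A.U.fr Y.A.U.wj Y.A.U.wi Y.A.U.lev Y.A.U.frm Y.A.U.wit L hL hpos _ _ hc
  apply lprod_filter
  intro r hr hf
  have h2 := h1 r hr
  rw [hf] at h2
  simp only [Bool.false_eq_true, if_false] at h2
  have h3 : (2 : F) * τ r = 0 := by linear_combination -h2
  rcases mul_eq_zero.mp h3 with h | h
  · exact absurd h D.two
  · exact h

omit Y D in
theorem mem_centG_iff (t g : GL C.D.Idx F) :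
    g ∈ C.D.group F ⊓ Subgroup.centralizer {t} ↔ g ∈ C.D.group F ∧ t * g * t⁻¹ = g := by
  rw [Subgroup.mem_inf, Subgroup.mem_centralizer_singleton_iff]
  constructor
  · rintro ⟨h1, h2⟩
    refine ⟨h1, ?_⟩
    rw [← h2]
    group
  · rintro ⟨h1, h2⟩
    refine ⟨h1, ?_⟩
    calc g * t = (t * g * t⁻¹) * t := by rw [h2]
      _ = t * g := by group

/-- The order of the centralizer of `t`. -/
theorem CentData.card_centralizer [Fintype F] :
    Nat.card ↥(C.D.group F ⊓ Subgroup.centralizer {t}) =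
      Nat.card (C.D.diagonalSubgroup F) * Fintype.card F ^ (C.D.posRoots.filter fixB).length *
        poinP C.D R.refl fixB (Fintype.card F) := by
  classical
  have hntri := Y.A.ntri
  have hsign := Y.A.sign
  have hBG : C.D.borelSubgroup F ≤ C.D.group F := (R.borel_sup_monomial Y.A.B.root Y.A.B.nc).1
  have hNG : C.D.monomialSubgroup F ≤ C.D.group F := (R.borel_sup_monomial Y.A.B.root Y.A.B.nc).2.1
  have hHB : C.D.diagonalSubgroup F ≤ C.D.borelSubgroup F := le_sup_right
  have hUB : C.D.posUnipotent F ≤ C.D.borelSubgroup F := le_sup_left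
  obtain ⟨bru1, bru2⟩ := Y.A.U.bruhat_normal_form (F := F) Y.A.B hntri (fun r hr => signCheck_or (hsign r hr))
  obtain ⟨hHU, hUH⟩ := R.diagonal_normalizes (F := F) Y.A.B.dec Y.A.B.mono.tri
  -- uniqueness of the factorisation in the Borel subgroup
  have huniq : ∀ u u' h h' : GL C.D.Idx F, u ∈ C.D.posUnipotent F → u' ∈ C.D.posUnipotent F →
      h ∈ C.D.diagonalSubgroup F → h' ∈ C.D.diagonalSubgroup F → u * h = u' * h' → u = u' ∧ h = h' := by
    intro u u' h h' hu hu' hh hh' e
    have h1 : u'⁻¹ * u = h' * h⁻¹ := by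
      have : u'⁻¹ * u = u'⁻¹ * (u * h) * h⁻¹ := by group
      rw [this, e]; group
    have h2 : u'⁻¹ * u ∈ C.D.posUnipotent F ⊓ C.D.diagonalSubgroup F :=
      ⟨Subgroup.mul_mem _ (Subgroup.inv_mem _ hu') hu, h1 ▸ Subgroup.mul_mem _ hh' (Subgroup.inv_mem _ hh)⟩
    rw [hUH, Subgroup.mem_bot] at h2
    have hu2 : u = u' := (inv_mul_eq_one.mp h2).symm
    subst hu2
    exact ⟨rfl, mul_left_cancel e⟩
  let W := {f : Fin C.D.nroots → Fin C.D.nroots // f ∈ Wset C.D R.refl Set.univ ∧ Pres C.D fixB f}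
  have hword : ∀ f : W, ∃ w : List ℕ, (∀ i ∈ w, i < C.D.rank) ∧ f.1 = wperm C.D R.refl w := by
    intro f
    obtain ⟨w, hw, e⟩ := f.2.1
    exact ⟨w, fun i hi => (hw i hi).1, e⟩
  choose wd hwd hwd' using hword
  let nf : W → GL C.D.Idx F := fun f => R.nWordU (wd f)
  have hnfN : ∀ f, nf f ∈ C.D.monomialSubgroup F := fun f => R.nWordU_mem _ (hwd f)
  have hpres : ∀ f : W, ∀ s < C.D.nroots, fixB (reflW R.refl (wd f) s) = fixB s := by
    intro f s hs
    have := f.2.2 ⟨s, hs⟩
    rw [hwd' f, R.wperm_val _ (hwd f)] at this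
    exact this
  have hUm : ∀ f, (uMinus C.D F (nf f) : Set (GL C.D.Idx F)) = lprodSet R F (negSet C.D R.refl (wd f)) := by
    intro f
    have := Y.A.U.uMinus_eq (F := F) Y.A.B hntri hsign 1 (Subgroup.one_mem _) (wd f) (hwd f)
    rwa [one_mul] at this
  set Lp := C.D.posRoots.filter fixB with hLp
  let Ln : W → List ℕ := fun f => (negSet C.D R.refl (wd f)).filter fixB
  have hLp_pos : ∀ r ∈ Lp, C.D.IsPosRoot r := fun r hr => (mem_posRoots C.D r).mp (List.mem_filter.mp hr).1
  have hLp_fix : ∀ r ∈ Lp, fixB r = true := fun r hr => (List.mem_filter.mp hr).2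
  have hLn_pos : ∀ f, ∀ r ∈ Ln f, C.D.IsPosRoot r := fun f r hr =>
    ((mem_negSet _ _ _ r).mp (List.mem_filter.mp hr).1).1
  have hLn_fix : ∀ f, ∀ r ∈ Ln f, fixB r = true := fun f r hr => (List.mem_filter.mp hr).2
  -- the elements over the filtered list of negated roots lie in `U_w⁻`
  have hLn_mem : ∀ f, ∀ u ∈ lprodSet R F (Ln f), u ∈ uMinus C.D F (nf f) := by
    rintro f u ⟨τ, rfl⟩
    have e1 : RootSys.lprod (fun r (u : F) => R.xU r u) (Ln f) τ =
        RootSys.lprod (fun r (u : F) => R.xU r u) (negSet C.D R.refl (wd f))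
          (fun r => if fixB r then τ r else 0) := by
      rw [lprod_filter (negSet C.D R.refl (wd f)) fixB (fun r => if fixB r then τ r else 0)
        (fun r _ hf => by rw [hf]; rfl)]
      apply lprod_congr
      intro r hr
      rw [hLn_fix f r hr, if_pos rfl]
    have : RootSys.lprod (fun r (u : F) => R.xU r u) (Ln f) τ ∈
        (uMinus C.D F (nf f) : Set (GL C.D.Idx F)) := by
      rw [hUm f, e1]
      exact ⟨_, rfl⟩
    exact this
  have hΦmem : ∀ (f : W) (u h u' : GL C.D.Idx F), u ∈ lprodSet R F Lp → h ∈ C.D.diagonalSubgroup F →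
      u' ∈ lprodSet R F (Ln f) → u * h * nf f * u' ∈ C.D.group F ⊓ Subgroup.centralizer {t} := by
    rintro f u h u' ⟨τ, rfl⟩ hh ⟨τ', rfl⟩
    rw [mem_centG_iff]
    have hu : RootSys.lprod (fun r (u : F) => R.xU r u) Lp τ ∈ C.D.posUnipotent F :=
      lprod_mem_pos Y.A Lp hLp_pos τ
    have hu' : RootSys.lprod (fun r (u : F) => R.xU r u) (Ln f) τ' ∈ C.D.posUnipotent F :=
      lprod_mem_pos Y.A (Ln f) (hLn_pos f) τ'
    refine ⟨Subgroup.mul_mem _ (Subgroup.mul_mem _ (Subgroup.mul_mem _ (hBG (hUB hu)) (hBG (hHB hh)))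
      (hNG (hnfN f))) (hBG (hUB hu')), ?_⟩
    have c1 := D.fix_lprod Y Lp (fun r hr => (hLp_pos r hr).1) hLp_fix τ
    have c2 := D.comm_diag Y h hh
    have c3 := D.comm_word Y (wd f) (hwd f) (hpres f)
    have c4 := D.fix_lprod Y (Ln f) (fun r hr => (hLn_pos f r hr).1) (hLn_fix f) τ'
    show t * (RootSys.lprod (fun r (u : F) => R.xU r u) Lp τ * h * R.nWordU (wd f) *
          RootSys.lprod (fun r (u : F) => R.xU r u) (Ln f) τ') * t⁻¹ =
        RootSys.lprod (fun r (u : F) => R.xU r u) Lp τ * h * R.nWordU (wd f) *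
          RootSys.lprod (fun r (u : F) => R.xU r u) (Ln f) τ'
    calc t * (RootSys.lprod (fun r (u : F) => R.xU r u) Lp τ * h * R.nWordU (wd f) *
          RootSys.lprod (fun r (u : F) => R.xU r u) (Ln f) τ') * t⁻¹
        = (t * RootSys.lprod (fun r (u : F) => R.xU r u) Lp τ * t⁻¹) * (t * h * t⁻¹) *
          (t * R.nWordU (wd f) * t⁻¹) *
          (t * RootSys.lprod (fun r (u : F) => R.xU r u) (Ln f) τ' * t⁻¹) := by group
      _ = _ := by rw [c1, c2, c3, c4]
  let Φ : (Σ f : W, (lprodSet R F Lp) × (C.D.diagonalSubgroup F) × (lprodSet R F (Ln f))) →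
      ↥(C.D.group F ⊓ Subgroup.centralizer {t}) := fun x =>
    ⟨x.2.1.1 * x.2.2.1.1 * nf x.1 * x.2.2.2.1, hΦmem x.1 _ _ _ x.2.1.2 x.2.2.1.2 x.2.2.2.2⟩
  have hLpU : ∀ u ∈ lprodSet R F Lp, u ∈ C.D.posUnipotent F := by
    rintro u ⟨τ, rfl⟩
    exact lprod_mem_pos Y.A Lp hLp_pos τ
  have hinj : Function.Injective Φ := by
    rintro ⟨f, u, h, u'⟩ ⟨f', v, k, v'⟩ e
    have e1 : u.1 * h.1 * nf f * u'.1 = v.1 * k.1 * nf f' * v'.1 := congrArg Subtype.val e
    have hb : u.1 * h.1 ∈ C.D.borelSubgroup F := Subgroup.mul_mem _ (hUB (hLpU _ u.2)) (hHB h.2)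
    have hb' : v.1 * k.1 ∈ C.D.borelSubgroup F := Subgroup.mul_mem _ (hUB (hLpU _ v.2)) (hHB k.2)
    obtain ⟨h1, h2⟩ := bru2 (u.1 * h.1) (v.1 * k.1) (nf f) (nf f') u'.1 v'.1 hb hb' (hnfN f) (hnfN f')
      (hLn_mem f _ u'.2) (hLn_mem f' _ v'.2) e1
    have hff : f = f' := by
      have e2 : R.nWordU (F := F) (wd f') = (nf f * ((nf f)⁻¹ * nf f') * (nf f)⁻¹) * R.nWordU (wd f) := by
        show nf f' = _ * nf f
        group
      have := R.reflW_eq_of_coset (F := F) Y.A.B.dec (wd f') (wd f) (hwd f') (hwd f) _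
        (Y.A.B.mono.conj_mem _ (hnfN f) _ h1) e2
      apply Subtype.ext
      rw [hwd' f, hwd' f', R.wperm_eq_iff _ _ (hwd f) (hwd f')]
      intro s hs
      exact (this s hs).symm
    subst hff
    obtain ⟨h3, h4⟩ := h2 rfl
    obtain ⟨h5, h6⟩ := huniq _ _ _ _ (hLpU _ u.2) (hLpU _ v.2) h.2 k.2 h3
    have hu : u = v := Subtype.ext h5
    have hh : h = k := Subtype.ext h6
    have hu' : u' = v' := Subtype.ext h4
    rw [hu, hh, hu']
  have hsurj : Function.Surjective Φ := by
    rintro ⟨g, hg⟩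
    rw [mem_centG_iff] at hg
    obtain ⟨hgG, hgc⟩ := hg
    obtain ⟨b, hb, n, hn, u', hu', rfl⟩ := bru1 g hgG
    obtain ⟨h₀, hh₀, w, hw, rfl⟩ := Y.A.B.mono.monomial_decomp n hn
    -- the factorisation of `b`
    have hbset : b ∈ ((C.D.posUnipotent F ⊔ C.D.diagonalSubgroup F : Subgroup (GL C.D.Idx F)) :
        Set (GL C.D.Idx F)) := hb
    rw [Subgroup.coe_mul_of_right_le_normalizer_left _ _ hHU] at hbset
    obtain ⟨u₀, hu₀, h_b, hh_b, rfl⟩ := Set.mem_mul.mp hbset
    -- `u'` as a product over the negated roots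
    have hu'set : u' ∈ (uMinus C.D F (h₀ * R.nWordU w) : Set (GL C.D.Idx F)) := hu'
    rw [Y.A.U.uMinus_eq (F := F) Y.A.B hntri hsign h₀ hh₀ w hw] at hu'set
    obtain ⟨τ', rfl⟩ := hu'set
    have hnsL : ∀ r ∈ negSet C.D R.refl w, r < C.D.nroots := fun r hr => ((mem_negSet _ _ _ r).mp hr).1.1
    have hnsP : ∀ r ∈ negSet C.D R.refl w, C.D.IsPosRoot r := fun r hr => ((mem_negSet _ _ _ r).mp hr).1
    -- the conjugate by `t` in normal form
    set h'' := t * R.nWordU w * t⁻¹ * (R.nWordU w)⁻¹ with hh''def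
    have hh''mem : h'' ∈ C.D.diagonalSubgroup F := by
      have : h'' = t * (R.nWordU w * t⁻¹ * (R.nWordU w)⁻¹) := by rw [hh''def]; group
      rw [this]
      exact Subgroup.mul_mem _ D.mem
        (Y.A.B.mono.conj_mem _ (R.nWordU_mem w hw) _ (Subgroup.inv_mem _ D.mem))
    have hcu' := conj_lprod t (fun s => if fixB s then (1 : F) else -1) (negSet C.D R.refl w)
      (fun r hr u => D.act r (hnsL r hr) u) τ'
    have hconj : t * (u₀ * h_b * (h₀ * R.nWordU w) *
        RootSys.lprod (fun r (u : F) => R.xU r u) (negSet C.D R.refl w) τ') * t⁻¹ =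
        ((t * u₀ * t⁻¹) * (h_b * h'')) * (h₀ * R.nWordU w) *
          RootSys.lprod (fun r (u : F) => R.xU r u) (negSet C.D R.refl w)
            (fun r => (if fixB r then (1 : F) else -1) * τ' r) := by
      rw [← hcu']
      have c2 := D.comm_diag Y h_b hh_b
      have c3 := D.comm_diag Y h₀ hh₀
      have c5 : h'' * h₀ = h₀ * h'' := R.diagonal_comm Y.A.B.dec _ _ hh''mem hh₀
      calc t * (u₀ * h_b * (h₀ * R.nWordU w) *
            RootSys.lprod (fun r (u : F) => R.xU r u) (negSet C.D R.refl w) τ') * t⁻¹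
          = (t * u₀ * t⁻¹) * (t * h_b * t⁻¹) * (t * h₀ * t⁻¹) * h'' *
            R.nWordU w * (t * RootSys.lprod (fun r (u : F) => R.xU r u) (negSet C.D R.refl w) τ' * t⁻¹) := by
            rw [hh''def]; group
        _ = (t * u₀ * t⁻¹) * h_b * (h₀ * h'') * R.nWordU w *
            (t * RootSys.lprod (fun r (u : F) => R.xU r u) (negSet C.D R.refl w) τ' * t⁻¹) := by
            rw [c2, c3]; group
        _ = _ := by rw [← c5]; group
    rw [hgc] at hconj
    have htu₀ : t * u₀ * t⁻¹ ∈ C.D.posUnipotent F :=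
      (Subgroup.mem_normalizer_iff.mp (hHU D.mem) u₀).mp hu₀
    have hb2 : (t * u₀ * t⁻¹) * (h_b * h'') ∈ C.D.borelSubgroup F :=
      Subgroup.mul_mem _ (hUB htu₀) (hHB (Subgroup.mul_mem _ hh_b hh''mem))
    have hum2 : RootSys.lprod (fun r (u : F) => R.xU r u) (negSet C.D R.refl w)
        (fun r => (if fixB r then (1 : F) else -1) * τ' r) ∈ uMinus C.D F (h₀ * R.nWordU w) := by
      have : RootSys.lprod (fun r (u : F) => R.xU r u) (negSet C.D R.refl w)
          (fun r => (if fixB r then (1 : F) else -1) * τ' r) ∈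
          (uMinus C.D F (h₀ * R.nWordU w) : Set (GL C.D.Idx F)) := by
        rw [Y.A.U.uMinus_eq (F := F) Y.A.B hntri hsign h₀ hh₀ w hw]
        exact ⟨_, rfl⟩
      exact this
    obtain ⟨-, h2⟩ := bru2 _ _ _ _ _ _ hb hb2 hn hn hu' hum2 hconj
    obtain ⟨h3, h4⟩ := h2 rfl
    obtain ⟨h5, h6⟩ := huniq _ _ _ _ hu₀ htu₀ hh_b (Subgroup.mul_mem _ hh_b hh''mem) h3
    have hh''1 : h'' = 1 := by
      have : h_b * 1 = h_b * h'' := by rw [mul_one]; exact h6
      exact (mul_left_cancel this).symm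
    have hcw : t * R.nWordU w * t⁻¹ = R.nWordU w := by
      have : t * R.nWordU w * t⁻¹ = h'' * R.nWordU w := by rw [hh''def]; group
      rw [this, hh''1, one_mul]
    have hpw := D.pres_of_comm Y w hw hcw
    -- the components
    have hu₀c : t * u₀ * t⁻¹ = u₀ := h5.symm
    obtain ⟨τ, -, hτ⟩ := Y.A.U.K.exists_word (F := F) Y.A.U.col Y.A.U.inj C.D.posRoots (nodup_posRoots C.D)
      (mem_posRoots C.D) u₀ hu₀
    rw [hτ] at hu₀c
    have hu₀f := D.cent_lprod Y C.D.posRoots (pairwise_posRoots C.D) (fun r hr => (mem_posRoots C.D r).mp hr) τ hu₀c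
    have hu'c : t * RootSys.lprod (fun r (u : F) => R.xU r u) (negSet C.D R.refl w) τ' * t⁻¹ =
        RootSys.lprod (fun r (u : F) => R.xU r u) (negSet C.D R.refl w) τ' := by
      rw [hcu']; exact h4.symm
    have hu'f := D.cent_lprod Y (negSet C.D R.refl w) (pairwise_negSet _ _ _) hnsP τ' hu'c
    -- the element of the index set
    let f : W := ⟨wperm C.D R.refl w, ⟨w, fun i hi => ⟨hw i hi, Set.mem_univ _⟩, rfl⟩, by
      intro s
      rw [R.wperm_val w hw]
      exact hpw s.val s.isLt⟩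
    have hperm : ∀ s < C.D.nroots, reflW R.refl w s = reflW R.refl (wd f) s := by
      rw [← R.wperm_eq_iff _ _ hw (hwd f)]
      exact hwd' f
    obtain ⟨h', hh', e'⟩ := Y.A.B.mono.coset_of_reflW_eq (F := F) Y.A.B.dec w (wd f) hw (hwd f) hperm
    have e2 : negSet C.D R.refl w = negSet C.D R.refl (wd f) := by
      unfold negSet
      apply List.filter_congr
      intro r hr
      rw [hperm r ((mem_posRoots C.D r).mp hr).1]
    refine ⟨⟨f, ⟨_, τ, rfl⟩, ⟨h_b * h₀ * h', Subgroup.mul_mem _ (Subgroup.mul_mem _ hh_b hh₀) hh'⟩,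
      ⟨_, τ', rfl⟩⟩, ?_⟩
    apply Subtype.ext
    show RootSys.lprod (fun r (u : F) => R.xU r u) Lp τ * (h_b * h₀ * h') * R.nWordU (wd f) *
      RootSys.lprod (fun r (u : F) => R.xU r u) ((negSet C.D R.refl (wd f)).filter fixB) τ' =
      u₀ * h_b * (h₀ * R.nWordU w) * RootSys.lprod (fun r (u : F) => R.xU r u) (negSet C.D R.refl w) τ'
    rw [hu'f, hτ, hu₀f, e', e2, hLp]
    group
  have hcardLp : Nat.card (lprodSet R F Lp) = Fintype.card F ^ Lp.length :=
    Y.A.U.card_lprodSet Lp ((pairwise_posRoots C.D).filter _) hLp_pos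
  have hcardLn : ∀ f : W, Nat.card (lprodSet R F (Ln f)) = Fintype.card F ^ NfP C.D fixB f.1 := by
    intro f
    rw [Y.A.U.card_lprodSet (Ln f) ((pairwise_negSet _ _ _).filter _) (hLn_pos f), hwd' f,
      NfP_wperm R fixB _ (hwd f)]
  letI : Fintype W := Subtype.fintype _
  rw [← Nat.card_congr (Equiv.ofBijective Φ ⟨hinj, hsurj⟩), Nat.card_sigma]
  simp only [Nat.card_prod, hcardLp, hcardLn]
  rw [← Finset.mul_sum, ← Finset.mul_sum]
  unfold poinP
  rw [Finset.sum_subtype (p := fun f => f ∈ Wset C.D R.refl Set.univ ∧ Pres C.D fixB f)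
    (Finset.univ.filter fun f => f ∈ Wset C.D R.refl Set.univ ∧ Pres C.D fixB f) (by simp)
    (fun f => Fintype.card F ^ NfP C.D fixB f)]
  ring

end cent

end Cfsg.Agent.Lib.Helper3.ChevInv
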