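import Mathlib
import Cfsg.Agent.Lib.Helper3.F4O6
set_option autoImplicit false
set_option linter.unusedSectionVars false
set_option linter.unusedVariables false
set_option linter.unusedSimpArgs false
open Cfsg Cfsg.Lie

/-!
Sums over the permutations of the roots induced by the words in the fundamental reflections, along a chain of
parabolic subgroups; the Poincaré sum of the stabilizer of a pattern of signs as a sum over a list of words.
-/

namespace Cfsg.Agent.Lib.Helper3.ChevM

open Classical in
/-- The sum of `g` over the permutations induced by the words in the reflections with indices in `J`. -/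
noncomputable def wsum {A : Type*} [AddCommMonoid A] (D : ChevalleyDatum) (refl : ℕ → ℕ → ℕ) (J : Set ℕ)
    (g : (Fin D.nroots → Fin D.nroots) → A) : A :=
  ∑ f ∈ Finset.univ.filter (fun f => f ∈ Wset D refl J), g f

section
variable {C : CDatum} {R : RelData C} (M : MonoHyp C R)
  (hdec : ∀ r < C.D.nroots, ∀ s < C.D.nroots, hdecCheck C.D R.pair r s = true)
  (hsign : ∀ r < C.D.nroots, signCheck C.D r = true) (k : ℕ)
  (hsupp : ∀ r < C.D.nroots, suppCheck C.D R.refl k r = true)
  (DL : List (List ℕ)) (hrep : ∀ a < DL.length, repCheck C.D R.refl k DL a = true)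
  (nxt : ℕ → ℕ → ℕ) (hhead : DL.head? = some [])
  (hstep : ∀ a < DL.length, ∀ i < k + 1, stepCheck C.D R.refl k DL nxt a i = true)
  (hdist : distinctCheck C.D R.refl DL = true)
include M hdec hsign hsupp hrep hhead hstep hdist

/-- The sum over the first `k + 1` reflections in terms of the sums over the first `k`. -/
theorem MonoHyp.wsum_step {A : Type*} [AddCommMonoid A] (hk : k + 1 ≤ C.D.rank)
    (g : (Fin C.D.nroots → Fin C.D.nroots) → A) :
    wsum C.D R.refl (Set.Iio (k + 1)) g =
      (DL.map fun d => wsum C.D R.refl (Set.Iio k) fun v => g fun s => wperm C.D R.refl d (v s)).sum := by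
  classical
  have hk' : k ≤ C.D.rank := by omega
  unfold wsum
  set WJ' := Finset.univ.filter (fun f => f ∈ Wset C.D R.refl (Set.Iio k)) with hWJ'
  let e' : Fin DL.length × (Fin C.D.nroots → Fin C.D.nroots) → (Fin C.D.nroots → Fin C.D.nroots) :=
    fun x => fun s => wperm C.D R.refl (DL.getD x.1.val []) (x.2 s)
  have hA : Finset.univ.filter (fun f => f ∈ Wset C.D R.refl (Set.Iio (k + 1))) =
      (Finset.univ ×ˢ WJ').image e' := by
    ext f
    simp only [Finset.mem_filter, Finset.mem_univ, true_and, Finset.mem_image, Finset.mem_product, hWJ']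
    constructor
    · rintro ⟨w, hw, rfl⟩
      have hwl : ∀ i ∈ w, i < C.D.rank := fun i hi => (hw i hi).1
      obtain ⟨a, ha, w', hw', e⟩ := M.exists_rep k DL hrep nxt hhead hstep hk w (fun i hi => (hw i hi).2)
      have hwl' : ∀ i ∈ w', i < C.D.rank := fun i hi => lt_of_lt_of_le (hw' i hi) hk'
      refine ⟨(⟨a, ha⟩, wperm C.D R.refl w'), ⟨w', fun i hi => ⟨hwl' i hi, hw' i hi⟩, rfl⟩, ?_⟩
      funext s
      apply Fin.ext
      show (wperm C.D R.refl (DL.getD a []) (wperm C.D R.refl w' s)).val = _
      rw [R.wperm_val _ (rep_letters M k DL hrep hk a ha), R.wperm_val _ hwl', R.wperm_val _ hwl, e s.val s.isLt]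
    · rintro ⟨⟨a, v⟩, ⟨w', hw', rfl⟩, rfl⟩
      have hwl' : ∀ i ∈ w', i < C.D.rank := fun i hi => (hw' i hi).1
      have hdl := rep_letters M k DL hrep hk a.val a.isLt
      refine ⟨DL.getD a.val [] ++ w', ?_, ?_⟩
      · intro i hi
        rcases List.mem_append.mp hi with h | h
        · refine ⟨hdl i h, ?_⟩
          have := hrep a.val a.isLt
          simp only [repCheck, Bool.and_eq_true, List.all_eq_true, decide_eq_true_eq] at this
          exact this.1 i h
        · exact ⟨hwl' i h, Nat.lt_succ_of_lt (hw' i h).2⟩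
      · funext s
        show wperm C.D R.refl (DL.getD a.val []) (wperm C.D R.refl w' s) = _
        rw [M.wperm_append _ _ hdl hwl']
  have hB : Set.InjOn e' (((Finset.univ : Finset (Fin DL.length)) ×ˢ WJ' :
      Finset (Fin DL.length × (Fin C.D.nroots → Fin C.D.nroots))) :
      Set (Fin DL.length × (Fin C.D.nroots → Fin C.D.nroots))) := by
    rintro ⟨a, v⟩ hx ⟨a', v'⟩ hx' h
    simp only [Finset.coe_product, Set.mem_prod, Finset.mem_coe, hWJ', Finset.mem_filter, Finset.mem_univ,
      true_and] at hx hx'
    obtain ⟨w, hw, rfl⟩ := hx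
    obtain ⟨w', hw', rfl⟩ := hx'
    obtain ⟨h1, h2⟩ := M.rep_unique hdec hsign k hsupp DL hrep hdist hk a.val a'.val a.isLt a'.isLt w w'
      (fun i hi => (hw i hi).2) (fun i hi => (hw' i hi).2) (fun s => congrFun h s)
    have : a = a' := Fin.ext h1
    rw [this, h2]
  rw [hA, Finset.sum_image hB, Finset.sum_product, list_map_sum_eq_fin DL _ []]

end

section
variable {C : CDatum} {R : RelData C}

theorem wsum_zero {A : Type*} [AddCommMonoid A] (g : (Fin C.D.nroots → Fin C.D.nroots) → A) :
    wsum C.D R.refl (Set.Iio 0) g = g (wperm C.D R.refl []) := by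
  classical
  unfold wsum
  have h1 : Finset.univ.filter (fun f => f ∈ Wset C.D R.refl (Set.Iio 0)) = {wperm C.D R.refl []} := by
    ext f
    simp only [Finset.mem_filter, Finset.mem_univ, true_and, Finset.mem_singleton, Wset, Set.mem_ofPred_eq,
      Set.mem_Iio, Nat.not_lt_zero, and_false]
    constructor
    · rintro ⟨w, hw, rfl⟩
      rcases w with _ | ⟨i, w⟩
      · rfl
      · exact absurd (hw i List.mem_cons_self) id
    · rintro rfl
      exact ⟨[], fun i hi => absurd hi List.not_mem_nil, rfl⟩
  rw [h1, Finset.sum_singleton]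

theorem wperm_nil (s : Fin C.D.nroots) : wperm C.D R.refl [] s = s := by
  apply Fin.ext
  unfold wperm
  have : reflW R.refl [] s.val = s.val := rfl
  simp only [this, s.isLt, dif_pos]

end

end Cfsg.Agent.Lib.Helper3.ChevM

namespace Cfsg.Agent.Lib.Helper3.ChevInv

open Cfsg.Agent.Lib.Helper3.ChevM Cfsg.Agent.Lib.Helper3.ChevAt Cfsg.Agent.Lib.Helper3.ChevAut
open Cfsg.Agent.Lib.Helper3 ChevU ChevT ChevH

section
variable {C : CDatum} {R : RelData C}

/-- The word preserves the pattern. -/
def presB (D : ChevalleyDatum) (refl : ℕ → ℕ → ℕ) (fixB : ℕ → Bool) (w : List ℕ) : Bool :=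
  (List.range D.nroots).all fun s => fixB (reflW refl w s) == fixB s

theorem pres_wperm_iff (fixB : ℕ → Bool) (w : List ℕ) (hw : ∀ i ∈ w, i < C.D.rank) :
    Pres C.D fixB (wperm C.D R.refl w) ↔ presB C.D R.refl fixB w = true := by
  unfold Pres presB
  rw [List.all_eq_true]
  constructor
  · intro h s hs
    have := h ⟨s, List.mem_range.mp hs⟩
    rw [R.wperm_val w hw] at this
    exact beq_iff_eq.mpr this
  · intro h s
    rw [R.wperm_val w hw]
    exact beq_iff_eq.mp (h s.val (List.mem_range.mpr s.isLt))

open Classical in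
/-- The Poincaré sum of the stabilizer of a pattern as a sum over the words in all the reflections. -/
theorem poinP_eq_wsum (fixB : ℕ → Bool) (q : ℕ) :
    poinP C.D R.refl fixB q = wsum C.D R.refl (Set.Iio C.D.rank)
      (fun f => if Pres C.D fixB f then q ^ NfP C.D fixB f else 0) := by
  classical
  have e : Wset C.D R.refl Set.univ = Wset C.D R.refl (Set.Iio C.D.rank) := by
    ext f
    constructor
    · rintro ⟨w, hw, rfl⟩
      exact ⟨w, fun i hi => ⟨(hw i hi).1, (hw i hi).1⟩, rfl⟩
    · rintro ⟨w, hw, rfl⟩
      exact ⟨w, fun i hi => ⟨(hw i hi).1, Set.mem_univ _⟩, rfl⟩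
  unfold poinP wsum
  rw [e, ← Finset.filter_filter, Finset.sum_filter]

/-- A sum of powers over a list of exponents in terms of the multiplicities. -/
theorem sum_pow_eq_count (L : List ℕ) (n : ℕ) (h : ∀ e ∈ L, e < n) (q : ℕ) :
    (L.map fun e => q ^ e).sum = ((List.range n).map fun k => L.count k * q ^ k).sum := by
  induction L with
  | nil => simp
  | cons e L ih =>
    have he : e < n := h e List.mem_cons_self
    rw [List.map_cons, List.sum_cons, ih (fun x hx => h x (List.mem_cons_of_mem _ hx)),
      list_range_sum_eq, list_range_sum_eq]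
    have h1 : ∀ i : Fin n, (e :: L).count i.val * q ^ i.val =
        (if i = ⟨e, he⟩ then q ^ e else 0) + L.count i.val * q ^ i.val := by
      intro i
      rw [List.count_cons]
      by_cases hi : i = ⟨e, he⟩
      · subst hi
        simp
        ring
      · have : ¬ (e = i.val) := fun h' => hi (Fin.ext h'.symm)
        simp [hi, this]
    rw [Finset.sum_congr rfl (fun i _ => h1 i), Finset.sum_add_distrib, Finset.sum_ite_eq' Finset.univ (⟨e, he⟩ : Fin n) (fun _ => q ^ e)]
    simp

/-- A sum with a condition over a list. -/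
theorem sum_map_ite {α : Type*} (L : List α) (p : α → Bool) (f : α → ℕ) :
    (L.map fun l => if p l = true then f l else 0).sum = ((L.filter p).map f).sum := by
  induction L with
  | nil => rfl
  | cons a L ih =>
    cases hp : p a
    · rw [List.map_cons, List.sum_cons, List.filter_cons_of_neg (by simp [hp]), ih]
      simp [hp]
    · rw [List.map_cons, List.sum_cons, List.filter_cons_of_pos (by simp [hp]), List.map_cons, List.sum_cons, ih]
      simp [hp]

end

end Cfsg.Agent.Lib.Helper3.ChevInv
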