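import Mathlib
import Cfsg.Agent.Lib.Helper3.F4O5
import Cfsg.Agent.Lib.Helper3.F4O7
import Cfsg.Agent.Lib.Helper3.ChevData.F4Poin
set_option autoImplicit false
set_option linter.unusedSectionVars false
set_option linter.unusedVariables false
set_option linter.unusedSimpArgs false
set_option maxRecDepth 1000000
open Cfsg Cfsg.Lie

/-!
The orders of the centralizers of the two representatives of the involutions of the Chevalley group of type
`F₄` over a finite field of odd order.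
-/

namespace Cfsg.Agent.Lib.Helper3.ChevInv

open Cfsg.Agent.Lib.Helper3.ChevM Cfsg.Agent.Lib.Helper3.ChevAt Cfsg.Agent.Lib.Helper3.ChevAut
open Cfsg.Agent.Lib.Helper3 ChevU ChevT ChevH

/-- The words representing the elements of the Weyl group. -/
def allWF4 : List (List ℕ) :=
  dlF43.flatMap fun a => dlF42.flatMap fun b => dlF41.flatMap fun c => dlF40.map fun d => a ++ b ++ c ++ d

theorem sum_flatMap {α β A : Type*} [AddCommMonoid A] (L : List α) (f : α → List β) (G : β → A) :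
    ((L.flatMap f).map G).sum = (L.map fun a => ((f a).map G).sum).sum := by
  induction L with
  | nil => rfl
  | cons a L ih => rw [List.flatMap_cons, List.map_append, List.sum_append, ih, List.map_cons, List.sum_cons]

theorem dl_lt : (∀ x ∈ dlF43, ∀ i ∈ x, i < 4) ∧ (∀ x ∈ dlF42, ∀ i ∈ x, i < 4) ∧ (∀ x ∈ dlF41, ∀ i ∈ x, i < 4) ∧
    (∀ x ∈ dlF40, ∀ i ∈ x, i < 4) := by decide +kernel

theorem allWF4_lt : ∀ l ∈ allWF4, ∀ i ∈ l, i < cdF4.D.rank := by
  intro l hl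
  unfold allWF4 at hl
  simp only [List.mem_flatMap, List.mem_map] at hl
  obtain ⟨a, ha, b, hb, c, hc, d, hd, rfl⟩ := hl
  intro i hi
  simp only [List.mem_append] at hi
  rcases hi with ((hi | hi) | hi) | hi
  · exact dl_lt.1 a ha i hi
  · exact dl_lt.2.1 b hb i hi
  · exact dl_lt.2.2.1 c hc i hi
  · exact dl_lt.2.2.2 d hd i hi

/-- The sum over the Weyl group as a sum over the list of words. -/
theorem f4_wsum {A : Type*} [AddCommMonoid A] (g : (Fin cdF4.D.nroots → Fin cdF4.D.nroots) → A) :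
    wsum cdF4.D relF4.refl (Set.Iio 4) g = (allWF4.map fun l => g (wperm cdF4.D relF4.refl l)).sum := by
  have hdec := of_pairRange (m := 48) (n := 48) f4Hdec
  have h3 : ∀ g' : (Fin cdF4.D.nroots → Fin cdF4.D.nroots) → A, wsum cdF4.D relF4.refl (Set.Iio 4) g' =
      (dlF43.map fun d => wsum cdF4.D relF4.refl (Set.Iio 3) fun v => g' fun s =>
        wperm cdF4.D relF4.refl d (v s)).sum := fun g' =>
    monoF4.wsum_step hdec f4Sign 3 f4Os3 dlF43 f4Or3 nxtF43 (by decide +kernel)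
      (of_pairRange (m := 24) (n := 4) f4Ot3) f4Od3 (by decide +kernel) g'
  have h2 : ∀ g' : (Fin cdF4.D.nroots → Fin cdF4.D.nroots) → A, wsum cdF4.D relF4.refl (Set.Iio 3) g' =
      (dlF42.map fun d => wsum cdF4.D relF4.refl (Set.Iio 2) fun v => g' fun s =>
        wperm cdF4.D relF4.refl d (v s)).sum := fun g' =>
    monoF4.wsum_step hdec f4Sign 2 f4Os2 dlF42 f4Or2 nxtF42 (by decide +kernel)
      (of_pairRange (m := 8) (n := 3) f4Ot2) f4Od2 (by decide +kernel) g'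
  have h1 : ∀ g' : (Fin cdF4.D.nroots → Fin cdF4.D.nroots) → A, wsum cdF4.D relF4.refl (Set.Iio 2) g' =
      (dlF41.map fun d => wsum cdF4.D relF4.refl (Set.Iio 1) fun v => g' fun s =>
        wperm cdF4.D relF4.refl d (v s)).sum := fun g' =>
    monoF4.wsum_step hdec f4Sign 1 f4Os1 dlF41 f4Or1 nxtF41 (by decide +kernel)
      (of_pairRange (m := 3) (n := 2) f4Ot1) f4Od1 (by decide +kernel) g'
  have h0 : ∀ g' : (Fin cdF4.D.nroots → Fin cdF4.D.nroots) → A, wsum cdF4.D relF4.refl (Set.Iio 1) g' =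
      (dlF40.map fun d => wsum cdF4.D relF4.refl (Set.Iio 0) fun v => g' fun s =>
        wperm cdF4.D relF4.refl d (v s)).sum := fun g' =>
    monoF4.wsum_step hdec f4Sign 0 f4Os0 dlF40 f4Or0 nxtF40 (by decide +kernel)
      (of_pairRange (m := 2) (n := 1) f4Ot0) f4Od0 (by decide +kernel) g'
  rw [h3]
  simp only [h2, h1, h0, wsum_zero]
  unfold allWF4
  rw [sum_flatMap]
  apply congrArg List.sum
  apply List.map_congr_left
  intro a ha
  rw [sum_flatMap]
  apply congrArg List.sum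
  apply List.map_congr_left
  intro b hb
  rw [sum_flatMap]
  apply congrArg List.sum
  apply List.map_congr_left
  intro c hc
  rw [List.map_map]
  apply congrArg List.sum
  apply List.map_congr_left
  intro d hd
  show g _ = g _
  congr 1
  funext s
  have la := dl_lt.1 a ha
  have lb := dl_lt.2.1 b hb
  have lc := dl_lt.2.2.1 c hc
  have ld := dl_lt.2.2.2 d hd
  have lab : ∀ i ∈ a ++ b, i < cdF4.D.rank := by
    intro i hi
    rcases List.mem_append.mp hi with h | h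
    · exact la i h
    · exact lb i h
  have labc : ∀ i ∈ a ++ b ++ c, i < cdF4.D.rank := by
    intro i hi
    rcases List.mem_append.mp hi with h | h
    · exact lab i h
    · exact lc i h
  rw [wperm_nil, monoF4.wperm_append (a ++ b ++ c) d labc ld, monoF4.wperm_append (a ++ b) c lab lc,
    monoF4.wperm_append a b la lb]

/-- The Poincaré sum of the stabilizer of a pattern as a sum over a list of exponents. -/
theorem f4_poinP (fixB : ℕ → Bool) (q : ℕ) :
    poinP cdF4.D relF4.refl fixB q =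
      (((allWF4.filter (presB cdF4.D relF4.refl fixB)).map fun l =>
        ((negSet cdF4.D relF4.refl l).filter fixB).length).map fun e => q ^ e).sum := by
  classical
  rw [poinP_eq_wsum]
  show wsum cdF4.D relF4.refl (Set.Iio 4) _ = _
  rw [f4_wsum, List.map_map, ← sum_map_ite]
  apply congrArg List.sum
  apply List.map_congr_left
  intro l hl
  have hlt := allWF4_lt l hl
  show (if Pres cdF4.D fixB (wperm cdF4.D relF4.refl l) then q ^ NfP cdF4.D fixB (wperm cdF4.D relF4.refl l) else 0) =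
    if presB cdF4.D relF4.refl fixB l = true then q ^ ((negSet cdF4.D relF4.refl l).filter fixB).length else 0
  rw [NfP_wperm relF4 fixB l hlt]
  by_cases h : presB cdF4.D relF4.refl fixB l = true
  · rw [if_pos h, if_pos ((pres_wperm_iff fixB l hlt).mpr h)]
  · rw [if_neg h, if_neg (fun h' => h ((pres_wperm_iff fixB l hlt).mp h'))]

/-- The pattern of the roots on which `h_a(-1)` acts trivially. -/
def fixF (a s : ℕ) : Bool := !decide (relF4.pair a s % 2 = 1)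

/-- The exponents for `h_{p_2}(-1)`. -/
def expS : List ℕ :=
  [0, 1, 1, 2, 2, 3, 1, 2, 3, 4, 2, 3, 3, 4, 4, 5, 1, 2, 2, 3, 3, 4, 2, 3, 4, 5, 3, 4, 4, 5, 5, 6, 2, 3, 3,
    4, 4, 5, 3, 4, 5, 6, 4, 5, 5, 6, 6, 7, 3, 4, 4, 5, 5, 6, 4, 5, 6, 7, 5, 6, 6, 7, 7, 8, 2, 3, 3, 4, 3, 4,
    4, 5, 4, 5, 5, 6, 5, 6, 6, 7, 4, 5, 5, 6, 6, 7, 5, 6, 7, 8, 6, 7, 7, 8, 8, 9, 3, 4, 4, 5, 4, 5, 5, 6, 5,
    6, 6, 7, 6, 7, 7, 8, 5, 6, 6, 7, 7, 8, 6, 7, 8, 9, 7, 8, 8, 9, 9, 10, 4, 5, 5, 6, 5, 6, 6, 7, 6, 7, 7, 8,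
    7, 8, 8, 9, 4, 5, 5, 6, 5, 6, 6, 7, 6, 7, 7, 8, 7, 8, 8, 9, 5, 6, 6, 7, 6, 7, 7, 8, 7, 8, 8, 9, 8, 9, 9,
    10, 5, 6, 6, 7, 6, 7, 7, 8, 7, 8, 8, 9, 8, 9, 9, 10, 6, 7, 7, 8, 7, 8, 8, 9, 8, 9, 9, 10, 9, 10, 10, 11,
    6, 7, 7, 8, 7, 8, 8, 9, 8, 9, 9, 10, 9, 10, 10, 11, 7, 8, 8, 9, 8, 9, 9, 10, 9, 10, 10, 11, 10, 11, 11,
    12, 7, 8, 8, 9, 8, 9, 9, 10, 9, 10, 10, 11, 10, 11, 11, 12, 8, 9, 9, 10, 9, 10, 10, 11, 10, 11, 11, 12,
    11, 12, 12, 13, 6, 7, 7, 8, 8, 9, 7, 8, 9, 10, 8, 9, 9, 10, 10, 11, 7, 8, 8, 9, 9, 10, 8, 9, 10, 11, 9,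
    10, 10, 11, 11, 12, 9, 10, 10, 11, 10, 11, 11, 12, 11, 12, 12, 13, 12, 13, 13, 14, 8, 9, 9, 10, 10, 11,
    9, 10, 11, 12, 10, 11, 11, 12, 12, 13, 9, 10, 10, 11, 11, 12, 10, 11, 12, 13, 11, 12, 12, 13, 13, 14, 10,
    11, 11, 12, 12, 13, 11, 12, 13, 14, 12, 13, 13, 14, 14, 15, 11, 12, 12, 13, 13, 14, 12, 13, 14, 15, 13,
    14, 14, 15, 15, 16]

/-- The exponents for `h_{p_4}(-1)`. -/
def expT : List ℕ :=
  [0, 1, 1, 2, 2, 3, 1, 2, 2, 3, 3, 4, 1, 2, 2, 3, 3, 4, 2, 3, 3, 4, 4, 5, 2, 3, 3, 4, 4, 5, 3, 4, 4, 5, 5,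
    6, 3, 4, 4, 5, 5, 6, 4, 5, 5, 6, 6, 7, 3, 4, 4, 5, 5, 6, 4, 5, 5, 6, 6, 7, 4, 5, 5, 6, 6, 7, 5, 6, 6, 7,
    7, 8, 5, 6, 6, 7, 7, 8, 6, 7, 7, 8, 8, 9, 6, 7, 7, 8, 8, 9, 7, 8, 8, 9, 9, 10]

theorem f4_expS : (allWF4.filter (presB cdF4.D relF4.refl (fixF 27))).map (fun l =>
    ((negSet cdF4.D relF4.refl l).filter (fixF 27)).length) = expS := by decide +kernel

theorem f4_expT : (allWF4.filter (presB cdF4.D relF4.refl (fixF 24))).map (fun l =>
    ((negSet cdF4.D relF4.refl l).filter (fixF 24)).length) = expT := by decide +kernel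

/-- The Poincaré sum of the stabilizer of the pattern of `h_{p_2}(-1)`. -/
theorem f4_poinS (q : ℕ) : poinP cdF4.D relF4.refl (fixF 27) q =
    ((List.range 17).map fun k =>
      ([1, 4, 9, 16, 24, 32, 39, 44, 46, 44, 39, 32, 24, 16, 9, 4, 1] : List ℕ).getD k 0 * q ^ k).sum := by
  rw [f4_poinP, f4_expS, sum_pow_eq_count expS 17 (by decide) q]
  apply congrArg List.sum
  apply List.map_congr_left
  intro k hk
  have h : ∀ k ∈ List.range 17, expS.count k =
      ([1, 4, 9, 16, 24, 32, 39, 44, 46, 44, 39, 32, 24, 16, 9, 4, 1] : List ℕ).getD k 0 := by decide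
  rw [h k hk]

/-- The Poincaré sum of the stabilizer of the pattern of `h_{p_4}(-1)`. -/
theorem f4_poinT (q : ℕ) : poinP cdF4.D relF4.refl (fixF 24) q =
    ((List.range 11).map fun k => ([1, 4, 8, 12, 15, 16, 15, 12, 8, 4, 1] : List ℕ).getD k 0 * q ^ k).sum := by
  rw [f4_poinP, f4_expT, sum_pow_eq_count expT 11 (by decide) q]
  apply congrArg List.sum
  apply List.map_congr_left
  intro k hk
  have h : ∀ k ∈ List.range 11, expT.count k =
      ([1, 4, 8, 12, 15, 16, 15, 12, 8, 4, 1] : List ℕ).getD k 0 := by decide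
  rw [h k hk]

section
variable {F : Type*} [Field F]

/-- The facts on the action of `h_a(-1)`. -/
theorem centData_hU (a : ℕ) (ha : a < 48) (h2 : (2 : F) ≠ 0) :
    CentData (R := relF4) (relF4.hU a (-1 : F)) (fixF a) where
  mem := relF4.hU_mem a ha _ neg_one_ne_zero_F
  act := by
    intro s hs u
    rw [hU_conj_xU autHypF4 a ha _ neg_one_ne_zero_F s hs, neg_one_zpow_eq]
    unfold fixF
    by_cases h : relF4.pair a s % 2 = 1 <;> simp [h]
  two := h2

variable [Fintype F]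

/-- The order of the diagonal subgroup. -/
theorem f4_card_diagonal : Nat.card (cdF4.D.diagonalSubgroup F) = (Fintype.card F - 1) ^ 4 := by
  have h := relF4.card_diagonal (F := F) bnF4.dec vecF4 (of_pairRange (m := 4) (n := 48) f4Vec)
    smPF4 smQF4 smPiF4 smQiF4 smDF4 (by decide +kernel) (by decide +kernel) (by decide +kernel) (by decide +kernel)
  have h0 : ∀ k : Fin cdF4.D.rank, smDF4 k = 1 := by
    have h4 : ∀ k : Fin 4, smDF4 k = 1 := by decide
    exact h4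
  have h1 : ∀ k : Fin cdF4.D.rank, Nat.gcd (Fintype.card F - 1) (smDF4 k) = 1 := by
    intro k
    rw [h0 k, Nat.gcd_one_right]
  rw [Finset.prod_eq_one (fun k _ => h1 k), one_mul] at h
  exact h

theorem poly_S (m : ℕ) : m ^ 4 * (m + 1) ^ 16 *
    ((List.range 17).map fun k =>
      ([1, 4, 9, 16, 24, 32, 39, 44, 46, 44, 39, 32, 24, 16, 9, 4, 1] : List ℕ).getD k 0 * (m + 1) ^ k).sum =
    (m + 1) ^ 16 * ((m + 1) ^ 2 - 1) * ((m + 1) ^ 4 - 1) * ((m + 1) ^ 6 - 1) * ((m + 1) ^ 8 - 1) := by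
  have e2 : (m + 1) ^ 2 - 1 = m * ((m + 1) + 1) := Nat.sub_eq_of_eq_add (by ring)
  have e4 : (m + 1) ^ 4 - 1 = m * ((m + 1) ^ 3 + (m + 1) ^ 2 + (m + 1) + 1) := Nat.sub_eq_of_eq_add (by ring)
  have e6 : (m + 1) ^ 6 - 1 = m * ((m + 1) ^ 5 + (m + 1) ^ 4 + (m + 1) ^ 3 + (m + 1) ^ 2 + (m + 1) + 1) :=
    Nat.sub_eq_of_eq_add (by ring)
  have e8 : (m + 1) ^ 8 - 1 = m * ((m + 1) ^ 7 + (m + 1) ^ 6 + (m + 1) ^ 5 + (m + 1) ^ 4 + (m + 1) ^ 3 +
      (m + 1) ^ 2 + (m + 1) + 1) := Nat.sub_eq_of_eq_add (by ring)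
  rw [e2, e4, e6, e8]
  simp only [List.range_succ, List.range_zero, List.nil_append, List.cons_append, List.map_cons, List.map_nil,
    List.sum_cons, List.sum_nil, List.getD_cons_zero, List.getD_cons_succ]
  ring

theorem poly_T (m : ℕ) : m ^ 4 * (m + 1) ^ 10 *
    ((List.range 11).map fun k =>
      ([1, 4, 8, 12, 15, 16, 15, 12, 8, 4, 1] : List ℕ).getD k 0 * (m + 1) ^ k).sum =
    (m + 1) ^ 10 * ((m + 1) ^ 2 - 1) ^ 2 * ((m + 1) ^ 4 - 1) * ((m + 1) ^ 6 - 1) := by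
  have e2 : (m + 1) ^ 2 - 1 = m * ((m + 1) + 1) := Nat.sub_eq_of_eq_add (by ring)
  have e4 : (m + 1) ^ 4 - 1 = m * ((m + 1) ^ 3 + (m + 1) ^ 2 + (m + 1) + 1) := Nat.sub_eq_of_eq_add (by ring)
  have e6 : (m + 1) ^ 6 - 1 = m * ((m + 1) ^ 5 + (m + 1) ^ 4 + (m + 1) ^ 3 + (m + 1) ^ 2 + (m + 1) + 1) :=
    Nat.sub_eq_of_eq_add (by ring)
  rw [e2, e4, e6]
  simp only [List.range_succ, List.range_zero, List.nil_append, List.cons_append, List.map_cons, List.map_nil,
    List.sum_cons, List.sum_nil, List.getD_cons_zero, List.getD_cons_succ]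
  ring

/-- The order of the centralizer of `h_{p_2}(-1)`. -/
theorem f4_card_centS (hF : Odd (Fintype.card F)) :
    Nat.card ↥(cdF4.D.group F ⊓ Subgroup.centralizer {relF4.hU 27 (-1 : F)}) =
      Fintype.card F ^ 16 * (Fintype.card F ^ 2 - 1) * (Fintype.card F ^ 4 - 1) * (Fintype.card F ^ 6 - 1) *
        (Fintype.card F ^ 8 - 1) := by
  have h := (centData_hU (F := F) 27 (by norm_num) (G2O.two_ne_zero_of_odd hF)).card_centralizer autHypF4
  have hlen : (cdF4.D.posRoots.filter (fixF 27)).length = 16 := by decide +kernel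
  rw [hlen, f4_card_diagonal, f4_poinS] at h
  rw [h]
  obtain ⟨m, hm⟩ : ∃ m, Fintype.card F = m + 1 := ⟨Fintype.card F - 1, by
    have := Fintype.card_pos (α := F)
    omega⟩
  rw [hm, Nat.add_sub_cancel]
  exact poly_S m

/-- The order of the centralizer of `h_{p_4}(-1)`. -/
theorem f4_card_centT (hF : Odd (Fintype.card F)) :
    Nat.card ↥(cdF4.D.group F ⊓ Subgroup.centralizer {relF4.hU 24 (-1 : F)}) =
      Fintype.card F ^ 10 * (Fintype.card F ^ 2 - 1) ^ 2 * (Fintype.card F ^ 4 - 1) * (Fintype.card F ^ 6 - 1) := by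
  have h := (centData_hU (F := F) 24 (by norm_num) (G2O.two_ne_zero_of_odd hF)).card_centralizer autHypF4
  have hlen : (cdF4.D.posRoots.filter (fixF 24)).length = 10 := by decide +kernel
  rw [hlen, f4_card_diagonal, f4_poinT] at h
  rw [h]
  obtain ⟨m, hm⟩ : ∃ m, Fintype.card F = m + 1 := ⟨Fintype.card F - 1, by
    have := Fintype.card_pos (α := F)
    omega⟩
  rw [hm, Nat.add_sub_cancel]
  exact poly_T m

end

end Cfsg.Agent.Lib.Helper3.ChevInv
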