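import Mathlib
import Cfsg.Agent.Lib.Helper3.G2O4
set_option autoImplicit false
set_option linter.unusedSectionVars false
set_option linter.unusedVariables false
set_option linter.unusedSimpArgs false
set_option maxRecDepth 100000
open Cfsg Cfsg.Lie Cfsg.Agent.Lib.Helper3.ChevM

/-!
The centralizer of the involution `h_a(-1)` in the Chevalley group of type `G₂` over a finite field of odd order
is generated by the diagonal subgroup and the root subgroups of the roots `±a`, `±(3a+2b)`.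
-/

namespace Cfsg.Agent.Lib.Helper3.G2O

open Cfsg.Agent.Lib.Helper3.ChevAt Cfsg.Agent.Lib.Helper3.ChevAut Cfsg.Agent.Lib.Helper3.ChevU
open Cfsg.Agent.Lib.Helper3.SL2P
open Cfsg.Agent.Lib.Helper3.G2C (W12 perm exists_canon reflW_eq_of_perm posL mem_posL posL_nodup len_G2 atG2)

section
variable {K : Type*} [Field K]

/-- The rank one subgroup of the short fundamental root. -/
def L1 (K : Type*) [Field K] : Subgroup (GL cdG2.D.Idx K) := cdG2.D.rootSubgroup K 7 ⊔ cdG2.D.rootSubgroup K 4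

/-- The rank one subgroup of the highest root. -/
def L2 (K : Type*) [Field K] : Subgroup (GL cdG2.D.Idx K) := cdG2.D.rootSubgroup K 11 ⊔ cdG2.D.rootSubgroup K 0

/-- The central product of the two rank one subgroups. -/
def KK (K : Type*) [Field K] : Subgroup (GL cdG2.D.Idx K) := L1 K ⊔ L2 K

/-- The involution `h_a(-1)`. -/
def t0 (K : Type*) [Field K] : GL cdG2.D.Idx K := T (-1 : K) 1

theorem chi_t0 : ∀ s < 12, chi (-1 : K) 1 s = if s ∈ [0, 4, 7, 11] then 1 else -1 := by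
  intro s hs
  rw [chi_eq _ _ s hs]
  interval_cases s <;> simp [zpow_neg] <;> norm_num


theorem neg_one_ne_zero'' : (-1 : K) ≠ 0 := by simp

theorem t0_mem : t0 K ∈ cdG2.D.diagonalSubgroup K := T_mem _ _ neg_one_ne_zero'' one_ne_zero

theorem t0_conj (s : ℕ) (hs : s < 12) (t : K) :
    t0 K * X s t * (t0 K)⁻¹ = X s ((if s ∈ [0, 4, 7, 11] then 1 else -1) * t) := by
  unfold t0
  rw [T_conj' _ _ neg_one_ne_zero'' one_ne_zero s hs t, chi_t0 s hs]

theorem X_mem_L1_7 (t : K) : X 7 t ∈ L1 K := Subgroup.mem_sup_left (X_mem_root 7 t)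
theorem X_mem_L1_4 (t : K) : X 4 t ∈ L1 K := Subgroup.mem_sup_right (X_mem_root 4 t)
theorem X_mem_L2_11 (t : K) : X 11 t ∈ L2 K := Subgroup.mem_sup_left (X_mem_root 11 t)
theorem X_mem_L2_0 (t : K) : X 0 t ∈ L2 K := Subgroup.mem_sup_right (X_mem_root 0 t)

theorem L1_le_KK : L1 K ≤ KK K := le_sup_left
theorem L2_le_KK : L2 K ≤ KK K := le_sup_right

theorem nU7_mem (c : K) : relG2.nU 7 c ∈ L1 K := by
  rw [relG2.nU_eq]
  have e : cdG2.D.neg 7 = 4 := by decide
  rw [e]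
  exact Subgroup.mul_mem _ (Subgroup.mul_mem _ (X_mem_L1_7 c) (X_mem_L1_4 _)) (X_mem_L1_7 c)

theorem nU11_mem (c : K) : relG2.nU 11 c ∈ L2 K := by
  rw [relG2.nU_eq]
  have e : cdG2.D.neg 11 = 0 := by decide
  rw [e]
  exact Subgroup.mul_mem _ (Subgroup.mul_mem _ (X_mem_L2_11 c) (X_mem_L2_0 _)) (X_mem_L2_11 c)

theorem hU7_mem (c : K) : relG2.hU 7 c ∈ L1 K := by
  rw [relG2.hU_eq]
  exact Subgroup.mul_mem _ (nU7_mem c) (nU7_mem _)

theorem hU11_mem (c : K) : relG2.hU 11 c ∈ L2 K := by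
  rw [relG2.hU_eq]
  exact Subgroup.mul_mem _ (nU11_mem c) (nU11_mem _)

/-- The normal form of an element of `U`. -/
def nf (a u c d v w : K) : GL cdG2.D.Idx K := X 7 a * (X 6 u * (X 8 c * (X 9 d * (X 10 v * X 11 w))))

/-- The coordinates of a normal form. -/
def coordFn (a u c d v w : K) : ℕ → K := fun r =>
  if r = 7 then a else if r = 6 then u else if r = 8 then c else if r = 9 then d else
  if r = 10 then v else if r = 11 then w else 0

theorem lp_coordFn (a u c d v w : K) : relG2.lp posL (coordFn a u c d v w) = nf a u c d v w := by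
  simp [RelData.lp, ChevU.RootSys.lprod, posL, coordFn, nf, X, mul_assoc]

theorem exists_nf (g : GL cdG2.D.Idx K) (hg : g ∈ cdG2.D.posUnipotent K) :
    ∃ a u c d v w : K, g = nf a u c d v w := by
  obtain ⟨t, -, hgt⟩ := uhypG2.K.exists_word (F := K) uhypG2.col uhypG2.inj posL posL_nodup mem_posL g hg
  refine ⟨t 7, t 6, t 8, t 9, t 10, t 11, ?_⟩
  rw [hgt, ← lp_coordFn]
  apply relG2.lp_congr
  intro r hr
  simp only [posL, List.mem_cons, List.not_mem_nil, or_false] at hr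
  rcases hr with rfl | rfl | rfl | rfl | rfl | rfl <;> simp [coordFn]

theorem t0_conj_nf (a u c d v w : K) :
    t0 K * nf a u c d v w * (t0 K)⁻¹ = nf a (-u) (-c) (-d) (-v) w := by
  unfold nf
  rw [← conj_mul, ← conj_mul, ← conj_mul, ← conj_mul, ← conj_mul, t0_conj 7 (by norm_num), t0_conj 6 (by norm_num),
    t0_conj 8 (by norm_num), t0_conj 9 (by norm_num), t0_conj 10 (by norm_num), t0_conj 11 (by norm_num)]
  simp

end

section
variable {K : Type*} [Field K] [Fintype K]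

theorem nf_inj (a u c d v w a' u' c' d' v' w' : K)
    (h : nf a u c d v w = nf a' u' c' d' v' w') :
    a = a' ∧ u = u' ∧ c = c' ∧ d = d' ∧ v = v' ∧ w = w' := by
  rw [← lp_coordFn, ← lp_coordFn] at h
  have key := uhypG2.lp_inj_of_fintype len_G2 posL posL_nodup mem_posL _ _ h
  refine ⟨?_, ?_, ?_, ?_, ?_, ?_⟩
  · simpa [coordFn] using key 7 (by decide)
  · simpa [coordFn] using key 6 (by decide)
  · simpa [coordFn] using key 8 (by decide)
  · simpa [coordFn] using key 9 (by decide)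
  · simpa [coordFn] using key 10 (by decide)
  · simpa [coordFn] using key 11 (by decide)

/-- The elements of `U` centralizing `h_a(-1)`. -/
theorem pos_centralizer (hF : Odd (Fintype.card K)) (u : GL cdG2.D.Idx K) (hu : u ∈ cdG2.D.posUnipotent K)
    (hc : t0 K * u * (t0 K)⁻¹ = u) : ∃ a w : K, u = X 7 a * X 11 w := by
  obtain ⟨a, b, c, d, v, w, rfl⟩ := exists_nf u hu
  rw [t0_conj_nf] at hc
  obtain ⟨-, hb, hc', hd, hv, -⟩ := nf_inj _ _ _ _ _ _ _ _ _ _ _ _ hc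
  have h2 := two_ne_zero_of_odd hF
  have z : ∀ x : K, -x = x → x = 0 := by
    intro x hx
    have : (2 : K) * x = 0 := by linear_combination -hx
    rcases mul_eq_zero.mp this with h | h
    · exact absurd h h2
    · exact h
  rw [z b hb, z c hc', z d hd, z v hv]
  refine ⟨a, w, ?_⟩
  unfold nf
  simp [X_zero]

theorem pos_centralizer_mem (hF : Odd (Fintype.card K)) (u : GL cdG2.D.Idx K) (hu : u ∈ cdG2.D.posUnipotent K)
    (hc : t0 K * u * (t0 K)⁻¹ = u) : u ∈ KK K := by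
  obtain ⟨a, w, rfl⟩ := pos_centralizer hF u hu hc
  exact Subgroup.mul_mem _ (L1_le_KK (X_mem_L1_7 a)) (L2_le_KK (X_mem_L2_11 w))

end


theorem W12_cent : ∀ l ∈ W12, (∀ k < 12, (k ∈ [0, 4, 7, 11] ↔ reflW relG2.refl l k ∈ [0, 4, 7, 11])) →
    l ∈ [[], [0], [1, 0, 1, 0, 1], [0, 1, 0, 1, 0, 1]] := by decide

section
variable {K : Type*} [Field K] [Fintype K]

theorem diag_le_KKH : cdG2.D.diagonalSubgroup K ≤ KK K ⊔ cdG2.D.diagonalSubgroup K := le_sup_right

theorem KK_le_KKH : KK K ≤ KK K ⊔ cdG2.D.diagonalSubgroup K := le_sup_left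

theorem n10101_mem : relG2.nWordU (F := K) [1, 0, 1, 0, 1] ∈ KK K ⊔ cdG2.D.diagonalSubgroup K := by
  have hl : ∀ i ∈ [1, 0], i < cdG2.D.rank := by decide
  have hrel := relG2.conjRel_word (F := K) [1, 0] hl
  have hneg := relG2.negCompat_word bnG2.mono.nr [1, 0] hl
  have h1 := relG2.conj_nU hrel hneg (relG2.nWordU [1, 0]) (relG2.nWordU_val [1, 0]) 6 (by decide) (1 : K)
  have e11 : reflW relG2.refl [1, 0] 6 = 11 := by decide
  rw [e11] at h1
  have h2 : relG2.nWordU (F := K) [1, 0, 0, 1] ∈ cdG2.D.diagonalSubgroup K :=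
    bnG2.mono.nWordU_mem_diagonal_of_fix (F := K) bnG2.dec _ [1, 0, 0, 1] rfl (by decide) (by decide)
  have e : relG2.nWordU (F := K) [1, 0, 1, 0, 1] =
      (relG2.nWordU [1, 0] * relG2.nU 6 1 * (relG2.nWordU [1, 0])⁻¹) * relG2.nWordU [1, 0, 0, 1] := by
    have a1 : relG2.nWordU (F := K) [1, 0, 1, 0, 1] = relG2.nWordU [1, 0] * (relG2.nWordU [1] * relG2.nWordU [0, 1]) := by
      rw [← relG2.nWordU_append, ← relG2.nWordU_append]
      rfl
    have a2 : relG2.nWordU (F := K) [1, 0, 0, 1] = relG2.nWordU [1, 0] * relG2.nWordU [0, 1] := by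
      rw [← relG2.nWordU_append]
      rfl
    have e6 : cdG2.D.simple 1 = 6 := by decide
    rw [a1, a2, nWordU_single, e6]
    group
  rw [e, h1]
  exact Subgroup.mul_mem _ (KK_le_KKH (L2_le_KK (nU11_mem _))) (diag_le_KKH h2)

/-- The elements of `N` centralizing `h_a(-1)`. -/
theorem mono_centralizer (hF : Odd (Fintype.card K)) (n : GL cdG2.D.Idx K) (hn : n ∈ cdG2.D.monomialSubgroup K)
    (hc : t0 K * n * (t0 K)⁻¹ = n) : n ∈ KK K ⊔ cdG2.D.diagonalSubgroup K := by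
  obtain ⟨h, hh, l, hl, rfl⟩ := exists_over n hn
  have hlt := W12_lt l hl
  have hth : t0 K * h = h * t0 K := relG2.diagonal_comm bnG2.dec _ _ t0_mem hh
  have hcomm : relG2.nWordU l * t0 K * (relG2.nWordU l)⁻¹ = t0 K := by
    have h1 : t0 K * relG2.nWordU l = relG2.nWordU l * t0 K := by
      have : h * (t0 K * relG2.nWordU l) = h * (relG2.nWordU l * t0 K) := by
        calc h * (t0 K * relG2.nWordU l) = (t0 K * h) * relG2.nWordU l := by rw [hth]; group
          _ = (t0 K * (h * relG2.nWordU l) * (t0 K)⁻¹) * t0 K := by group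
          _ = h * (relG2.nWordU l * t0 K) := by rw [hc]; group
      exact mul_left_cancel this
    rw [← h1]
    group
  have h1ne : (1 : K) ≠ -1 := by
    intro h
    have := two_ne_zero_of_odd hF
    apply this
    linear_combination h
  have hiff : ∀ k < 12, (k ∈ [0, 4, 7, 11] ↔ reflW relG2.refl l k ∈ [0, 4, 7, 11]) := by
    intro k hk
    have hk' := relG2.reflW_lt l hlt k hk
    have A := conj_T_conj l hlt k hk (-1 : K) 1 neg_one_ne_zero'' one_ne_zero 1
    have B := T_conj' (-1 : K) 1 neg_one_ne_zero'' one_ne_zero _ hk' 1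
    have hc' : relG2.nWordU l * T (-1 : K) 1 * (relG2.nWordU l)⁻¹ = T (-1 : K) 1 := hcomm
    rw [hc', B] at A
    have e := X_inj _ hk' _ _ A
    rw [mul_one, mul_one, chi_t0 k hk, chi_t0 _ hk'] at e
    by_cases h1 : k ∈ [0, 4, 7, 11] <;> by_cases h2 : reflW relG2.refl l k ∈ [0, 4, 7, 11]
    · exact ⟨fun _ => h2, fun _ => h1⟩
    · rw [if_pos h1, if_neg h2] at e
      exact absurd e.symm h1ne
    · rw [if_neg h1, if_pos h2] at e
      exact absurd e h1ne
    · exact ⟨fun h => absurd h h1, fun h => absurd h h2⟩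
  have hmem := W12_cent l hl hiff
  simp only [List.mem_cons, List.not_mem_nil, or_false] at hmem
  rcases hmem with rfl | rfl | rfl | rfl
  · rw [relG2.nWordU_nil, mul_one]
    exact diag_le_KKH hh
  · rw [nWordU_single]
    have e7 : cdG2.D.simple 0 = 7 := by decide
    rw [e7]
    exact Subgroup.mul_mem _ (diag_le_KKH hh) (KK_le_KKH (L1_le_KK (nU7_mem 1)))
  · exact Subgroup.mul_mem _ (diag_le_KKH hh) n10101_mem
  · rw [relG2.nWordU_cons]
    have e7 : cdG2.D.simple 0 = 7 := by decide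
    rw [e7]
    exact Subgroup.mul_mem _ (diag_le_KKH hh)
      (Subgroup.mul_mem _ (KK_le_KKH (L1_le_KK (nU7_mem 1))) n10101_mem)

/-- The centralizer of `h_a(-1)` is contained in the product of the central product and the diagonal subgroup. -/
theorem centralizer_le (hF : Odd (Fintype.card K)) (g : GL cdG2.D.Idx K) (hg : g ∈ cdG2.D.group K)
    (hc : t0 K * g * (t0 K)⁻¹ = g) : g ∈ KK K ⊔ cdG2.D.diagonalSubgroup K := by
  have hNF := uhypG2.bruhat_normal_form (F := K) bnG2 g2NegTri (fun r hr => pos_or_neg r hr)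
  obtain ⟨b, hb, n, hn, u, hu, rfl⟩ := hNF.1 g hg
  have hHB : cdG2.D.diagonalSubgroup K ≤ cdG2.D.borelSubgroup K := le_sup_right
  obtain ⟨hHU, hUH⟩ := relG2.diagonal_normalizes (F := K) bnG2.dec bnG2.mono.tri
  obtain ⟨h'', hh''def⟩ : ∃ h'', h'' = t0 K * (n * (t0 K)⁻¹ * n⁻¹) := ⟨_, rfl⟩
  have hh'' : h'' ∈ cdG2.D.diagonalSubgroup K := by
    rw [hh''def]
    exact Subgroup.mul_mem _ t0_mem (conj_diag n hn _ (Subgroup.inv_mem _ t0_mem))
  have e1 : t0 K * (b * n * u) * (t0 K)⁻¹ = (t0 K * b * (t0 K)⁻¹ * h'') * n * (t0 K * u * (t0 K)⁻¹) := by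
    rw [hh''def]; group
  have hb' : t0 K * b * (t0 K)⁻¹ * h'' ∈ cdG2.D.borelSubgroup K :=
    Subgroup.mul_mem _ (Subgroup.mul_mem _ (Subgroup.mul_mem _ (hHB t0_mem) hb)
      (Subgroup.inv_mem _ (hHB t0_mem))) (hHB hh'')
  have hu' : t0 K * u * (t0 K)⁻¹ ∈ uMinus cdG2.D K n := uhypG2.diagonal_conj_uMinus bnG2 n (t0 K) u t0_mem hu
  have huniq := (hNF.2 b (t0 K * b * (t0 K)⁻¹ * h'') n n u (t0 K * u * (t0 K)⁻¹) hb hb' hn hn hu hu'
    (by rw [← e1, hc])).2 rfl
  obtain ⟨eb, eu⟩ := huniq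
  -- decompose `b = u₁ * h₁`
  have hset := Subgroup.coe_mul_of_right_le_normalizer_left (cdG2.D.posUnipotent K) (cdG2.D.diagonalSubgroup K) hHU
  have hbm : b ∈ ((cdG2.D.posUnipotent K ⊔ cdG2.D.diagonalSubgroup K : Subgroup _) : Set _) := hb
  rw [hset] at hbm
  obtain ⟨u₁, hu₁, h₁, hh₁, rfl⟩ := Set.mem_mul.mp hbm
  have hu₁' : t0 K * u₁ * (t0 K)⁻¹ ∈ cdG2.D.posUnipotent K := by
    have := hHU t0_mem
    rw [Subgroup.mem_normalizer_iff] at this
    exact (this u₁).mp hu₁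
  have hth : t0 K * h₁ = h₁ * t0 K := relG2.diagonal_comm bnG2.dec _ _ t0_mem hh₁
  have key : (t0 K * u₁ * (t0 K)⁻¹)⁻¹ * u₁ = h₁ * h'' * h₁⁻¹ := by
    have e2 : t0 K * (u₁ * h₁) * (t0 K)⁻¹ * h'' = (t0 K * u₁ * (t0 K)⁻¹) * (h₁ * h'') := by
      have hth' : t0 K * h₁ * (t0 K)⁻¹ = h₁ := by rw [hth]; group
      calc t0 K * (u₁ * h₁) * (t0 K)⁻¹ * h'' = (t0 K * u₁ * (t0 K)⁻¹) * (t0 K * h₁ * (t0 K)⁻¹) * h'' := by group
        _ = (t0 K * u₁ * (t0 K)⁻¹) * (h₁ * h'') := by rw [hth']; group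
    rw [e2] at eb
    calc (t0 K * u₁ * (t0 K)⁻¹)⁻¹ * u₁ = (t0 K * u₁ * (t0 K)⁻¹)⁻¹ * (u₁ * h₁) * h₁⁻¹ := by group
      _ = h₁ * h'' * h₁⁻¹ := by rw [eb]; group
  have hmem : (t0 K * u₁ * (t0 K)⁻¹)⁻¹ * u₁ ∈ cdG2.D.posUnipotent K ⊓ cdG2.D.diagonalSubgroup K := by
    refine ⟨Subgroup.mul_mem _ (Subgroup.inv_mem _ hu₁') hu₁, ?_⟩
    rw [key]
    exact Subgroup.mul_mem _ (Subgroup.mul_mem _ hh₁ hh'') (Subgroup.inv_mem _ hh₁)
  rw [hUH, Subgroup.mem_bot] at hmem
  have hu₁c : t0 K * u₁ * (t0 K)⁻¹ = u₁ := by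
    have := inv_mul_eq_one.mp hmem
    exact this
  have hh''1 : h'' = 1 := by
    rw [hmem] at key
    calc h'' = h₁⁻¹ * (h₁ * h'' * h₁⁻¹) * h₁ := by group
      _ = 1 := by rw [← key]; group
  have hnc : t0 K * n * (t0 K)⁻¹ = n := by
    calc t0 K * n * (t0 K)⁻¹ = (t0 K * (n * (t0 K)⁻¹ * n⁻¹)) * n := by group
      _ = n := by rw [← hh''def, hh''1, one_mul]
  have huU := uMinus_le_posUnipotent cdG2.D n hu
  exact Subgroup.mul_mem _ (Subgroup.mul_mem _ (Subgroup.mul_mem _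
    (KK_le_KKH (pos_centralizer_mem hF u₁ hu₁ hu₁c)) (diag_le_KKH hh₁)) (mono_centralizer hF n hn hnc))
    (KK_le_KKH (pos_centralizer_mem hF u huU eu.symm))

end

end Cfsg.Agent.Lib.Helper3.G2O
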