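import Mathlib
import Cfsg.Agent.Lib.Helper3.G2O5
import Cfsg.Agent.Lib.Helper2.Basic
import Cfsg.Agent.Lib.Helper1.SL2Torus
set_option autoImplicit false
set_option linter.unusedSectionVars false
set_option linter.unusedVariables false
set_option linter.unusedSimpArgs false
set_option maxRecDepth 100000
open Cfsg Cfsg.Lie Cfsg.Agent.Lib.Helper3.ChevM

/-!
The structure of the centralizer of the involution `h_a(-1)` in the Chevalley group of type `G₂` over a finite
field of odd order: a central product of two copies of `SL₂` extended by an element of order two.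
-/

namespace Cfsg.Agent.Lib.Helper3.G2O

open Cfsg.Agent.Lib.Helper3.ChevAt Cfsg.Agent.Lib.Helper3.ChevAut Cfsg.Agent.Lib.Helper3.ChevU
open Cfsg.Agent.Lib.Helper3.SL2P
open Cfsg.Agent.Lib.Helper3.G2C (W12 perm exists_canon reflW_eq_of_perm posL mem_posL posL_nodup len_G2 atG2)

section
variable {K : Type*} [Field K]

/-- The centralizer of `h_a(-1)` in the group. -/
def C0 (K : Type*) [Field K] : Subgroup (GL cdG2.D.Idx K) :=
  cdG2.D.group K ⊓ Subgroup.centralizer {t0 K}

theorem mem_C0_iff (g : GL cdG2.D.Idx K) : g ∈ C0 K ↔ g ∈ cdG2.D.group K ∧ t0 K * g * (t0 K)⁻¹ = g := by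
  unfold C0
  rw [Subgroup.mem_inf, Subgroup.mem_centralizer_singleton_iff]
  constructor
  · rintro ⟨h1, h2⟩
    refine ⟨h1, ?_⟩
    rw [← h2]
    group
  · rintro ⟨h1, h2⟩
    refine ⟨h1, ?_⟩
    calc g * t0 K = (t0 K * g * (t0 K)⁻¹) * t0 K := by rw [h2]
      _ = t0 K * g := by group

theorem rootSubgroup_le_C0 (s : ℕ) (hs : s ∈ [0, 4, 7, 11]) : cdG2.D.rootSubgroup K s ≤ C0 K := by
  have hs12 : s < 12 := by
    simp only [List.mem_cons, List.not_mem_nil, or_false] at hs
    rcases hs with rfl | rfl | rfl | rfl <;> norm_num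
  intro g hg
  obtain ⟨t, rfl⟩ := (mem_rootSubgroup s g).mp hg
  rw [mem_C0_iff]
  refine ⟨X_mem_group s hs12 t, ?_⟩
  rw [t0_conj s hs12 t, if_pos hs, one_mul]

theorem KK_le_C0 : KK K ≤ C0 K := by
  unfold KK L1 L2
  exact sup_le (sup_le (rootSubgroup_le_C0 7 (by decide)) (rootSubgroup_le_C0 4 (by decide)))
    (sup_le (rootSubgroup_le_C0 11 (by decide)) (rootSubgroup_le_C0 0 (by decide)))

theorem diag_le_C0 : cdG2.D.diagonalSubgroup K ≤ C0 K := by
  intro h hh
  rw [mem_C0_iff]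
  refine ⟨diag_le_group hh, ?_⟩
  have := relG2.diagonal_comm bnG2.dec _ _ (t0_mem (K := K)) hh
  rw [this]
  group

theorem KK_le_group : KK K ≤ cdG2.D.group K := fun g hg => ((mem_C0_iff g).mp (KK_le_C0 hg)).1

/-- The homomorphism from `SL₂` attached to a root. -/
noncomputable def phiR (K : Type*) [Field K] (r : ℕ) (hr : r < 12) :
    Matrix.SpecialLinearGroup (Fin 2) K →* GL cdG2.D.Idx K := phi (relS (K := K) r hr)

theorem phiR_xE (r : ℕ) (hr : r < 12) (t : K) : phiR K r hr (xE t) = X r t := phi_xE (relS r hr) t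

theorem phiR_yE (r : ℕ) (hr : r < 12) (t : K) : phiR K r hr (yE t) = X (cdG2.D.neg r) t := phi_yE (relS r hr) t

theorem phiR_range (r : ℕ) (hr : r < 12) :
    (phiR K r hr).range = cdG2.D.rootSubgroup K r ⊔ cdG2.D.rootSubgroup K (cdG2.D.neg r) := by
  unfold phiR
  rw [range_phi (relS (K := K) r hr)]
  unfold ChevalleyDatum.rootSubgroup
  rw [← Subgroup.closure_union]
  congr 1
  ext g
  constructor
  · rintro (⟨t, rfl⟩ | ⟨t, rfl⟩)
    · exact Or.inl ⟨t, relG2.xU_val r t⟩
    · exact Or.inr ⟨t, relG2.xU_val _ t⟩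
  · rintro (⟨t, ht⟩ | ⟨t, ht⟩)
    · exact Or.inl ⟨t, Units.ext (by rw [ht, relG2.xU_val])⟩
    · exact Or.inr ⟨t, Units.ext (by rw [ht, relG2.xU_val])⟩

/-- The diagonal matrices of `SL₂`. -/
def diagE (p : K) (hp : p ≠ 0) : Matrix.SpecialLinearGroup (Fin 2) K :=
  ⟨!![p, 0; 0, p⁻¹], by simp [Matrix.det_fin_two, hp]⟩

theorem diagE_eq (p : K) (hp : p ≠ 0) :
    diagE p hp = xE p * yE (-p⁻¹) * xE p * (xE 1 * yE (-(1 : K)⁻¹) * xE 1)⁻¹ := by
  rw [eq_mul_inv_iff_mul_eq]
  apply Subtype.ext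
  show (diagE p hp).1 * ((xE (1 : K)).1 * (yE (-(1 : K)⁻¹)).1 * (xE (1 : K)).1) =
    (xE p).1 * (yE (-p⁻¹)).1 * (xE p).1
  ext i j
  fin_cases i <;> fin_cases j <;> simp [diagE, xE, yE, Matrix.mul_apply, Fin.sum_univ_two, hp]

theorem phiR_diagE (r : ℕ) (hr : r < 12) (p : K) (hp : p ≠ 0) : phiR K r hr (diagE p hp) = relG2.hU r p := by
  rw [diagE_eq, map_mul, map_inv, map_mul, map_mul, map_mul, map_mul, phiR_xE, phiR_yE, phiR_xE, phiR_yE,
    ← relG2.nU_eq, ← relG2.nU_eq, relG2.nU_inv, relG2.hU_eq]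

theorem upper_eq (A : Matrix.SpecialLinearGroup (Fin 2) K) (hc : A.1 1 0 = 0) :
    ∃ (p : K) (hp : p ≠ 0) (u : K), A = diagE p hp * xE u := by
  have hdet := det_eq A
  rw [hc, mul_zero, sub_zero] at hdet
  have hp : A.1 0 0 ≠ 0 := by
    intro h
    rw [h, zero_mul] at hdet
    exact zero_ne_one hdet
  refine ⟨A.1 0 0, hp, A.1 0 1 / A.1 0 0, ?_⟩
  apply Subtype.ext
  show A.1 = (diagE (A.1 0 0) hp).1 * (xE (A.1 0 1 / A.1 0 0)).1
  ext i j
  fin_cases i <;> fin_cases j
  · simp [diagE, xE, Matrix.mul_apply, Fin.sum_univ_two]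
  · simp [diagE, xE, Matrix.mul_apply, Fin.sum_univ_two]
    field_simp
  · simp [diagE, xE, Matrix.mul_apply, Fin.sum_univ_two, hc]
  · simp [diagE, xE, Matrix.mul_apply, Fin.sum_univ_two, hc]
    exact eq_inv_of_mul_eq_one_right hdet


theorem coroot_7 : (cdG2.D.coroot.getD 7 #[]).getD 0 0 = 1 ∧ (cdG2.D.coroot.getD 7 #[]).getD 1 0 = 0 := by decide

theorem coroot_11 : (cdG2.D.coroot.getD 11 #[]).getD 0 0 = 1 ∧ (cdG2.D.coroot.getD 11 #[]).getD 1 0 = 2 := by decide

theorem hU7_eq (p : K) (hp : p ≠ 0) : relG2.hU 7 p = T p 1 := by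
  rw [hU_eq_T 7 (by norm_num) p hp, coroot_7.1, coroot_7.2]
  simp

theorem hU11_eq (p : K) (hp : p ≠ 0) : relG2.hU 11 p = T p (p ^ 2) := by
  rw [hU_eq_T 11 (by norm_num) p hp, coroot_11.1, coroot_11.2]
  simp

theorem hU7_eq_one (p : K) (hp : p ≠ 0) (h : relG2.hU 7 p = 1) : p = 1 := by
  rw [hU7_eq p hp, ← T_one] at h
  exact (T_inj _ _ _ _ hp one_ne_zero one_ne_zero one_ne_zero h).1

theorem hU11_eq_one (p : K) (hp : p ≠ 0) (h : relG2.hU 11 p = 1) : p = 1 := by
  rw [hU11_eq p hp, ← T_one] at h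
  exact (T_inj _ _ _ _ hp (pow_ne_zero 2 hp) one_ne_zero one_ne_zero h).1

/-- The homomorphism from `SL₂` attached to a positive root is injective, when `h_r` is. -/
theorem phiR_injective (r : ℕ) (hr : r < 12) (hpos : cdG2.D.IsPosRoot r)
    (hcor : ∀ p : K, p ≠ 0 → relG2.hU r p = 1 → p = 1) : Function.Injective (phiR K r hr) := by
  rw [injective_iff_map_eq_one]
  intro A hA
  have hnegroot : cdG2.D.IsNegRoot (cdG2.D.neg r) := by
    have h1 := signCheck_spec (atG2.sign r hr)
    have h2 := signCheck_spec (atG2.sign _ (neg_lt r hr))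
    rw [h2.2.1, h1.2.2]
    exact hpos
  by_cases hc : A.1 1 0 = 0
  · obtain ⟨p, hp, u, rfl⟩ := upper_eq A hc
    rw [map_mul, phiR_diagE, phiR_xE] at hA
    have hmem : X r u ∈ cdG2.D.posUnipotent K ⊓ cdG2.D.diagonalSubgroup K := by
      refine ⟨X_pos r hpos u, ?_⟩
      have : X r u = (relG2.hU r p)⁻¹ := eq_inv_of_mul_eq_one_right hA
      rw [this]
      exact Subgroup.inv_mem _ (relG2.hU_mem r hr p hp)
    rw [(relG2.diagonal_normalizes (F := K) bnG2.dec bnG2.mono.tri).2, Subgroup.mem_bot] at hmem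
    have hu : u = 0 := X_eq_one r hr u hmem
    rw [hmem, mul_one] at hA
    have hp1 := hcor p hp hA
    subst hu hp1
    apply Subtype.ext
    show (diagE (1 : K) hp).1 * (xE (0 : K)).1 = 1
    ext i j
    fin_cases i <;> fin_cases j <;> simp [diagE, xE, Matrix.mul_apply, Fin.sum_univ_two]
  · exfalso
    have hd := decomp A hc
    rw [hd, map_mul, map_mul, phiR_xE, phiR_yE, phiR_xE] at hA
    have hmem : X (cdG2.D.neg r) (A.1 1 0) ∈ cdG2.D.posUnipotent K ⊓ cdG2.D.negUnipotent K := by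
      refine ⟨?_, X_neg _ hnegroot _⟩
      have : X (cdG2.D.neg r) (A.1 1 0) =
          (X r ((A.1 0 0 - 1) / A.1 1 0))⁻¹ * (X r ((A.1 1 1 - 1) / A.1 1 0))⁻¹ := by
        calc X (cdG2.D.neg r) (A.1 1 0) = (X r ((A.1 0 0 - 1) / A.1 1 0))⁻¹ *
              (X r ((A.1 0 0 - 1) / A.1 1 0) * X (cdG2.D.neg r) (A.1 1 0) * X r ((A.1 1 1 - 1) / A.1 1 0)) *
              (X r ((A.1 1 1 - 1) / A.1 1 0))⁻¹ := by group
          _ = _ := by rw [hA]; group
      rw [this]
      exact Subgroup.mul_mem _ (Subgroup.inv_mem _ (X_pos r hpos _)) (Subgroup.inv_mem _ (X_pos r hpos _))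
    rw [pos_inf_neg', Subgroup.mem_bot] at hmem
    exact hc (X_eq_one _ (neg_lt r hr) _ hmem)

theorem phi7_injective : Function.Injective (phiR K 7 (by norm_num)) :=
  phiR_injective 7 (by norm_num) (by decide) hU7_eq_one

theorem phi11_injective : Function.Injective (phiR K 11 (by norm_num)) :=
  phiR_injective 11 (by norm_num) (by decide) hU11_eq_one

theorem phi7_range : (phiR K 7 (by norm_num)).range = L1 K := by
  rw [phiR_range]
  rfl

theorem phi11_range : (phiR K 11 (by norm_num)).range = L2 K := by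
  rw [phiR_range]
  rfl

theorem L1_equiv : Nonempty (L1 K ≃* Matrix.SpecialLinearGroup (Fin 2) K) := by
  rw [← phi7_range]
  exact ⟨(MonoidHom.ofInjective phi7_injective).symm⟩

theorem L2_equiv : Nonempty (L2 K ≃* Matrix.SpecialLinearGroup (Fin 2) K) := by
  rw [← phi11_range]
  exact ⟨(MonoidHom.ofInjective phi11_injective).symm⟩

theorem commute_closure {G : Type*} [Group G] (S T : Set G) (h : ∀ s ∈ S, ∀ t ∈ T, s * t = t * s) :
    ∀ x ∈ Subgroup.closure S, ∀ y ∈ Subgroup.closure T, x * y = y * x := by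
  have h1 : Subgroup.closure S ≤ Subgroup.centralizer (Subgroup.closure T : Set G) := by
    rw [Subgroup.closure_le]
    intro s hs
    rw [SetLike.mem_coe, Subgroup.mem_centralizer_iff]
    have h2 : Subgroup.closure T ≤ Subgroup.centralizer {s} := by
      rw [Subgroup.closure_le]
      intro t ht
      rw [SetLike.mem_coe, Subgroup.mem_centralizer_singleton_iff]
      exact (h s hs t ht).symm
    intro y hy
    have := h2 hy
    rw [Subgroup.mem_centralizer_singleton_iff] at this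
    exact this
  intro x hx y hy
  have := h1 hx
  rw [Subgroup.mem_centralizer_iff] at this
  exact (this y hy).symm

/-- The two rank one subgroups commute elementwise. -/
theorem L1_L2_commute : ∀ x ∈ L1 K, ∀ y ∈ L2 K, x * y = y * x := by
  unfold L1 L2 ChevalleyDatum.rootSubgroup
  rw [← Subgroup.closure_union, ← Subgroup.closure_union]
  apply commute_closure
  rintro s (⟨a, hs⟩ | ⟨a, hs⟩) t (⟨b, ht⟩ | ⟨b, ht⟩)
  · have e1 : s = X 7 a := Units.ext hs
    have e2 : t = X 11 b := Units.ext ht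
    rw [e1, e2]
    exact commG2.xU_comm 7 11 (by decide) (by decide) (by decide) a b
  · have e1 : s = X 7 a := Units.ext hs
    have e2 : t = X 0 b := Units.ext ht
    rw [e1, e2]
    exact commG2.xU_comm 7 0 (by decide) (by decide) (by decide) a b
  · have e1 : s = X 4 a := Units.ext hs
    have e2 : t = X 11 b := Units.ext ht
    rw [e1, e2]
    exact commG2.xU_comm 4 11 (by decide) (by decide) (by decide) a b
  · have e1 : s = X 4 a := Units.ext hs
    have e2 : t = X 0 b := Units.ext ht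
    rw [e1, e2]
    exact commG2.xU_comm 4 0 (by decide) (by decide) (by decide) a b


theorem t0_eq_hU7 : t0 K = relG2.hU 7 (-1) := by
  rw [hU7_eq _ neg_one_ne_zero'']
  rfl

theorem t0_eq_hU11 : t0 K = relG2.hU 11 (-1) := by
  rw [hU11_eq _ neg_one_ne_zero'']
  unfold t0
  norm_num

theorem t0_mem_L1 : t0 K ∈ L1 K := by
  rw [t0_eq_hU7]
  exact hU7_mem _

theorem t0_mem_L2 : t0 K ∈ L2 K := by
  rw [t0_eq_hU11]
  exact hU11_mem _

theorem t0_sq : t0 K * t0 K = 1 := T_neg_one_sq

theorem negOne_eq_diagE : (-1 : Matrix.SpecialLinearGroup (Fin 2) K) = diagE (-1) neg_one_ne_zero'' := by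
  apply Subtype.ext
  ext i j
  fin_cases i <;> fin_cases j <;> simp [diagE, Matrix.SpecialLinearGroup.coe_neg]

/-- The central elements of `SL₂`. -/
theorem sl2_central (B : Matrix.SpecialLinearGroup (Fin 2) K)
    (h : ∀ A : Matrix.SpecialLinearGroup (Fin 2) K, B * A = A * B) : B = 1 ∨ B = -1 := by
  have hB : B ∈ Subgroup.center (Matrix.SpecialLinearGroup (Fin 2) K) := by
    rw [Subgroup.mem_center_iff]
    intro A
    exact (h A).symm
  obtain ⟨r, hr, hrB⟩ := Matrix.SpecialLinearGroup.mem_center_iff.mp hB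
  rw [Fintype.card_fin] at hr
  have : r = 1 ∨ r = -1 := by
    have h1 : (r - 1) * (r + 1) = 0 := by linear_combination hr
    rcases mul_eq_zero.mp h1 with h | h
    · exact Or.inl (by linear_combination h)
    · exact Or.inr (by linear_combination h)
  rcases this with rfl | rfl
  · left
    apply Subtype.ext
    rw [← hrB]
    simp
  · right
    apply Subtype.ext
    rw [← hrB]
    ext i j
    fin_cases i <;> fin_cases j <;> simp [Matrix.SpecialLinearGroup.coe_neg]

/-- The intersection of the two rank one subgroups. -/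
theorem L1_inf_L2 : L1 K ⊓ L2 K = Subgroup.zpowers (t0 K) := by
  apply le_antisymm
  · rintro x ⟨hx1, hx2⟩
    rw [← phi11_range] at hx2
    obtain ⟨B, rfl⟩ := hx2
    have hcomm : ∀ A : Matrix.SpecialLinearGroup (Fin 2) K, B * A = A * B := by
      intro A
      apply phi11_injective
      rw [map_mul, map_mul]
      have hA : phiR K 11 (by norm_num) A ∈ L2 K := by
        rw [← phi11_range]
        exact ⟨A, rfl⟩
      exact L1_L2_commute _ hx1 _ hA
    rcases sl2_central B hcomm with rfl | rfl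
    · rw [map_one]
      exact Subgroup.one_mem _
    · rw [negOne_eq_diagE, phiR_diagE, ← t0_eq_hU11]
      exact Subgroup.mem_zpowers _
  · rw [Subgroup.zpowers_le]
    exact ⟨t0_mem_L1, t0_mem_L2⟩

theorem t0_ne_one [Fintype K] (hF : Odd (Fintype.card K)) : t0 K ≠ 1 := by
  intro h
  unfold t0 at h
  rw [← T_one] at h
  have := (T_inj _ _ _ _ neg_one_ne_zero'' one_ne_zero one_ne_zero one_ne_zero h).1
  have h2 := two_ne_zero_of_odd hF
  apply h2
  linear_combination -this

theorem card_zpowers_t0 [Fintype K] (hF : Odd (Fintype.card K)) : Nat.card (Subgroup.zpowers (t0 K)) = 2 := by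
  rw [Nat.card_zpowers]
  exact orderOf_eq_prime (by rw [pow_two]; exact t0_sq) (t0_ne_one hF)


theorem L1_le_normalizer_L2 : L1 K ≤ Subgroup.normalizer (L2 K : Set (GL cdG2.D.Idx K)) := by
  refine le_trans ?_ (Subgroup.centralizer_le_normalizer (s := (L2 K : Set (GL cdG2.D.Idx K))))
  intro x hx
  rw [Subgroup.mem_centralizer_iff]
  intro y hy
  exact (L1_L2_commute x hx y hy).symm

theorem card_L1 [Fintype K] : Nat.card (L1 K) = Fintype.card K * (Fintype.card K ^ 2 - 1) := by
  obtain ⟨e⟩ := L1_equiv (K := K)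
  rw [Nat.card_congr e.toEquiv, Cfsg.Agent.Lib.Helper1.card_SL2]

theorem card_L2 [Fintype K] : Nat.card (L2 K) = Fintype.card K * (Fintype.card K ^ 2 - 1) := by
  obtain ⟨e⟩ := L2_equiv (K := K)
  rw [Nat.card_congr e.toEquiv, Cfsg.Agent.Lib.Helper1.card_SL2]

/-- The order of the central product. -/
theorem card_KK [Fintype K] (hF : Odd (Fintype.card K)) :
    Nat.card (KK K) * 2 = (Fintype.card K * (Fintype.card K ^ 2 - 1)) ^ 2 := by
  have h := Cfsg.Agent.Lib.Helper2.card_sup_mul_card_inf (L1 K) (L2 K) L1_le_normalizer_L2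
  rw [L1_inf_L2, card_zpowers_t0 hF, card_L1, card_L2] at h
  unfold KK
  rw [h]
  ring

/-- The elements of the central product are products. -/
theorem mem_KK (g : GL cdG2.D.Idx K) (hg : g ∈ KK K) :
    ∃ A B : Matrix.SpecialLinearGroup (Fin 2) K, g = phiR K 7 (by norm_num) A * phiR K 11 (by norm_num) B := by
  have hcomm : ∀ (m n : Matrix.SpecialLinearGroup (Fin 2) K),
      Commute (phiR K 7 (by norm_num) m) (phiR K 11 (by norm_num) n) := by
    intro m n
    apply L1_L2_commute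
    · rw [← phi7_range]; exact ⟨m, rfl⟩
    · rw [← phi11_range]; exact ⟨n, rfl⟩
  have hr := MonoidHom.noncommCoprod_range (phiR K 7 (by norm_num)) (phiR K 11 (by norm_num)) hcomm
  rw [phi7_range, phi11_range] at hr
  have : g ∈ (MonoidHom.noncommCoprod (phiR K 7 (by norm_num)) (phiR K 11 (by norm_num)) hcomm).range := by
    rw [hr]; exact hg
  obtain ⟨⟨A, B⟩, rfl⟩ := this
  exact ⟨A, B, by rw [MonoidHom.noncommCoprod_apply]⟩

theorem mem_KK_of_sq (lam β : K) (hl : lam ≠ 0) (hβ : β ≠ 0) : T lam (β * β) ∈ KK K := by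
  have e : T lam (β * β) = relG2.hU 7 (lam / β) * relG2.hU 11 β := by
    rw [hU7_eq _ (div_ne_zero hl hβ), hU11_eq _ hβ, T_mul _ _ _ _ (div_ne_zero hl hβ) one_ne_zero hβ (pow_ne_zero 2 hβ)]
    congr 1
    · field_simp
    · ring
  rw [e]
  exact Subgroup.mul_mem _ (L1_le_KK (hU7_mem _)) (L2_le_KK (hU11_mem _))

theorem sq_of_mem_KK (lam mu : K) (hl : lam ≠ 0) (hm : mu ≠ 0) (h : T lam mu ∈ KK K) : IsSquare mu := by
  obtain ⟨A, B, e⟩ := mem_KK _ h
  have hB : phiR K 11 (by norm_num) B ∈ L2 K := by rw [← phi11_range]; exact ⟨B, rfl⟩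
  have h1 := T_conj' lam mu hl hm 7 (by norm_num) 1
  rw [mul_one, e] at h1
  have hc : phiR K 11 (by norm_num) B * X 7 1 * (phiR K 11 (by norm_num) B)⁻¹ = X 7 (1 : K) := by
    have := L1_L2_commute (X 7 (1 : K)) (X_mem_L1_7 1) _ hB
    rw [← this]
    group
  have h2 : phiR K 7 (by norm_num) A * phiR K 11 (by norm_num) B * X 7 1 *
      (phiR K 7 (by norm_num) A * phiR K 11 (by norm_num) B)⁻¹ =
      phiR K 7 (by norm_num) (A * xE 1 * A⁻¹) := by
    rw [map_mul, map_mul, map_inv, phiR_xE]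
    calc phiR K 7 (by norm_num) A * phiR K 11 (by norm_num) B * X 7 1 *
          (phiR K 7 (by norm_num) A * phiR K 11 (by norm_num) B)⁻¹
        = phiR K 7 (by norm_num) A * (phiR K 11 (by norm_num) B * X 7 1 * (phiR K 11 (by norm_num) B)⁻¹) *
            (phiR K 7 (by norm_num) A)⁻¹ := by group
      _ = _ := by rw [hc]
  rw [h2, ← phiR_xE 7 (by norm_num)] at h1
  have h3 := phi7_injective h1
  have h4 : A * xE 1 = xE (chi lam mu 7) * A := by
    rw [← h3]; group
  have e11 := congrArg (fun M : Matrix.SpecialLinearGroup (Fin 2) K => M.1 1 1) h4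
  have e01 := congrArg (fun M : Matrix.SpecialLinearGroup (Fin 2) K => M.1 0 1) h4
  simp only [mul_xE_11, mul_xE_01] at e11 e01
  have r11 : (xE (chi lam mu 7) * A).1 1 1 = A.1 1 1 := by
    show ((xE (chi lam mu 7)).1 * A.1) 1 1 = _
    simp [xE, Matrix.mul_apply, Fin.sum_univ_two]
  have r01 : (xE (chi lam mu 7) * A).1 0 1 = A.1 0 1 + chi lam mu 7 * A.1 1 1 := by
    show ((xE (chi lam mu 7)).1 * A.1) 0 1 = _
    simp [xE, Matrix.mul_apply, Fin.sum_univ_two]
  rw [r11] at e11
  rw [r01] at e01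
  have hA10 : A.1 1 0 = 0 := by linear_combination e11
  have hA00 : A.1 0 0 = chi lam mu 7 * A.1 1 1 := by linear_combination e01
  have hdet := det_eq A
  rw [hA10, mul_zero, sub_zero, hA00, chi_7] at hdet
  refine ⟨lam * A.1 1 1, ?_⟩
  have hmu : mu * (lam ^ 2 * mu⁻¹ * A.1 1 1 * A.1 1 1) = mu * 1 := by rw [hdet]
  field_simp at hmu
  linear_combination -hmu


theorem KK_eq_closure : KK K = Subgroup.closure {g : GL cdG2.D.Idx K | ∃ (s : ℕ) (t : K),
    s ∈ [0, 4, 7, 11] ∧ (g : Matrix cdG2.D.Idx cdG2.D.Idx K) = cdG2.D.x K s t} := by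
  apply le_antisymm
  · unfold KK L1 L2 ChevalleyDatum.rootSubgroup
    refine sup_le (sup_le ?_ ?_) (sup_le ?_ ?_)
    · apply Subgroup.closure_mono
      rintro g ⟨t, h⟩
      exact ⟨7, t, by decide, h⟩
    · apply Subgroup.closure_mono
      rintro g ⟨t, h⟩
      exact ⟨4, t, by decide, h⟩
    · apply Subgroup.closure_mono
      rintro g ⟨t, h⟩
      exact ⟨11, t, by decide, h⟩
    · apply Subgroup.closure_mono
      rintro g ⟨t, h⟩
      exact ⟨0, t, by decide, h⟩
  · rw [Subgroup.closure_le]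
    rintro g ⟨s, t, hs, h⟩
    have hg : g = X s t := Units.ext h
    rw [hg]
    simp only [List.mem_cons, List.not_mem_nil, or_false] at hs
    rcases hs with rfl | rfl | rfl | rfl
    · exact L2_le_KK (X_mem_L2_0 t)
    · exact L1_le_KK (X_mem_L1_4 t)
    · exact L1_le_KK (X_mem_L1_7 t)
    · exact L2_le_KK (X_mem_L2_11 t)

theorem diag_le_normalizer_KK :
    cdG2.D.diagonalSubgroup K ≤ Subgroup.normalizer (KK K : Set (GL cdG2.D.Idx K)) := by
  rw [KK_eq_closure]
  apply relG2.diagonal_le_normalizer_closure bnG2.dec (fun s => s ∈ [0, 4, 7, 11])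
  intro s hs
  simp only [List.mem_cons, List.not_mem_nil, or_false] at hs
  rcases hs with rfl | rfl | rfl | rfl <;> decide

end

section
variable {K : Type*} [Field K] [Fintype K]

theorem C0_eq (hF : Odd (Fintype.card K)) : C0 K = cdG2.D.diagonalSubgroup K ⊔ KK K := by
  apply le_antisymm
  · intro g hg
    rw [mem_C0_iff] at hg
    rw [sup_comm]
    exact centralizer_le hF g hg.1 hg.2
  · exact sup_le diag_le_C0 KK_le_C0

/-- The central product has index two in the centralizer. -/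
theorem relIndex_KK_C0 (hF : Odd (Fintype.card K)) : (KK K).relIndex (C0 K) = 2 := by
  classical
  rw [C0_eq hF, Cfsg.Agent.Lib.Helper2.relIndex_sup_right_of_le_normalizer _ _ diag_le_normalizer_KK,
    Subgroup.relIndex_eq_two_iff]
  have h2 : ringChar K ≠ 2 := by
    intro h
    have := (FiniteField.even_card_iff_char_two (F := K)).1 h
    rcases hF with ⟨k, hk⟩
    omega
  obtain ⟨ν, hν⟩ := FiniteField.exists_nonsquare h2
  have hν0 : ν ≠ 0 := by
    intro h
    apply hν
    rw [h]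
    exact ⟨0, by ring⟩
  refine ⟨T 1 ν, T_mem _ _ one_ne_zero hν0, ?_⟩
  intro b hb
  obtain ⟨lam, mu, hl, hm, rfl⟩ := exists_T b hb
  rw [T_mul _ _ _ _ hl hm one_ne_zero hν0, mul_one]
  by_cases hsq : IsSquare mu
  · right
    obtain ⟨β, hβ⟩ := hsq
    have hβ0 : β ≠ 0 := by
      intro h
      rw [h, mul_zero] at hβ
      exact hm hβ
    refine ⟨?_, ?_⟩
    · rw [hβ]
      exact mem_KK_of_sq lam β hl hβ0
    · intro hmem
      obtain ⟨c, hc⟩ := sq_of_mem_KK lam (mu * ν) hl (mul_ne_zero hm hν0) hmem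
      apply hν
      refine ⟨c / β, ?_⟩
      rw [hβ] at hc
      field_simp
      linear_combination hc
  · left
    refine ⟨?_, ?_⟩
    · have c1 : quadraticChar K mu = -1 := (quadraticChar_neg_one_iff_not_isSquare (F := K)).mpr hsq
      have c2 : quadraticChar K ν = -1 := (quadraticChar_neg_one_iff_not_isSquare (F := K)).mpr hν
      have : quadraticChar K (mu * ν) = 1 := by
        rw [map_mul, c1, c2]
        norm_num
      obtain ⟨β, hβ⟩ := (quadraticChar_one_iff_isSquare (mul_ne_zero hm hν0)).mp this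
      have hβ0 : β ≠ 0 := by
        intro h
        rw [h, mul_zero] at hβ
        exact mul_ne_zero hm hν0 hβ
      rw [hβ]
      exact mem_KK_of_sq lam β hl hβ0
    · intro hmem
      exact hsq (sq_of_mem_KK lam mu hl hm hmem)

/-- The order of the centralizer of `h_a(-1)`. -/
theorem card_C0 (hF : Odd (Fintype.card K)) :
    Nat.card (C0 K) = Fintype.card K ^ 2 * (Fintype.card K ^ 2 - 1) ^ 2 := by
  have h1 := Subgroup.card_mul_index ((KK K).subgroupOf (C0 K))
  have h2 : ((KK K).subgroupOf (C0 K)).index = 2 := relIndex_KK_C0 hF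
  have h3 : Nat.card ((KK K).subgroupOf (C0 K)) = Nat.card (KK K) :=
    Nat.card_congr (Subgroup.subgroupOfEquivOfLe KK_le_C0).toEquiv
  rw [h2, h3, card_KK hF] at h1
  rw [← h1, mul_pow]

end

end Cfsg.Agent.Lib.Helper3.G2O
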