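import Mathlib
import Cfsg.Agent.Lib.Helper3.G2O6
set_option autoImplicit false
set_option linter.unusedSectionVars false
set_option linter.unusedVariables false
set_option linter.unusedSimpArgs false
open Cfsg Cfsg.Lie Cfsg.Agent.Lib.Helper3.ChevM

/-!
The centralizer of an involution in the Chevalley group of type `G₂` over a finite field of odd order, as a
statement about the group itself.
-/

namespace Cfsg.Agent.Lib.Helper3.G2O

/-- The structure of the centralizer of an involution. -/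
def CentStruct {Γ : Type*} [Group Γ] (S : Type*) [Group S] (c : ℕ) (t : Γ) : Prop :=
  Nat.card (Subgroup.centralizer ({t} : Set Γ)) = c ∧
    ∃ L₁ L₂ : Subgroup Γ, Nonempty (L₁ ≃* S) ∧ Nonempty (L₂ ≃* S) ∧
      (∀ x ∈ L₁, ∀ y ∈ L₂, x * y = y * x) ∧ L₁ ⊓ L₂ = Subgroup.zpowers t ∧
      L₁ ⊔ L₂ ≤ Subgroup.centralizer ({t} : Set Γ) ∧
      (L₁ ⊔ L₂).relIndex (Subgroup.centralizer ({t} : Set Γ)) = 2

theorem centralizer_conj {Γ : Type*} [Group Γ] (x t : Γ) :
    Subgroup.centralizer ({x * t * x⁻¹} : Set Γ) =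
      (Subgroup.centralizer ({t} : Set Γ)).map (MulAut.conj x).toMonoidHom := by
  ext y
  rw [Subgroup.mem_centralizer_singleton_iff, Subgroup.mem_map]
  constructor
  · intro h
    refine ⟨x⁻¹ * y * x, ?_, ?_⟩
    · rw [Subgroup.mem_centralizer_singleton_iff]
      calc x⁻¹ * y * x * t = x⁻¹ * (y * (x * t * x⁻¹)) * x := by group
        _ = x⁻¹ * ((x * t * x⁻¹) * y) * x := by rw [h]
        _ = t * (x⁻¹ * y * x) := by group
    · show x * (x⁻¹ * y * x) * x⁻¹ = y
      group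
  · rintro ⟨z, hz, rfl⟩
    rw [Subgroup.mem_centralizer_singleton_iff] at hz
    show x * z * x⁻¹ * (x * t * x⁻¹) = x * t * x⁻¹ * (x * z * x⁻¹)
    calc x * z * x⁻¹ * (x * t * x⁻¹) = x * (z * t) * x⁻¹ := by group
      _ = x * (t * z) * x⁻¹ := by rw [hz]
      _ = x * t * x⁻¹ * (x * z * x⁻¹) := by group

/-- The structure of the centralizer is invariant under conjugation. -/
theorem CentStruct.conj {Γ : Type*} [Group Γ] {S : Type*} [Group S] {c : ℕ} {t : Γ} (h : CentStruct S c t)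
    (x : Γ) : CentStruct S c (x * t * x⁻¹) := by
  obtain ⟨hc, L₁, L₂, ⟨e₁⟩, ⟨e₂⟩, hcomm, hinf, hle, hidx⟩ := h
  have hf : Function.Injective (MulAut.conj x).toMonoidHom := (MulAut.conj x).injective
  refine ⟨?_, L₁.map (MulAut.conj x).toMonoidHom, L₂.map (MulAut.conj x).toMonoidHom, ?_, ?_, ?_, ?_, ?_, ?_⟩
  · rw [centralizer_conj, Subgroup.card_map_of_injective hf, hc]
  · exact ⟨(Subgroup.equivMapOfInjective L₁ _ hf).symm.trans e₁⟩
  · exact ⟨(Subgroup.equivMapOfInjective L₂ _ hf).symm.trans e₂⟩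
  · rintro _ ⟨a, ha, rfl⟩ _ ⟨b, hb, rfl⟩
    rw [← map_mul, ← map_mul, hcomm a ha b hb]
  · rw [← Subgroup.map_inf _ _ _ hf, hinf, MonoidHom.map_zpowers]
    rfl
  · rw [← Subgroup.map_sup, centralizer_conj]
    exact Subgroup.map_mono hle
  · rw [← Subgroup.map_sup, centralizer_conj, Subgroup.relIndex_map_map_of_injective _ _ hf, hidx]

section
variable {K : Type*} [Field K] [Fintype K]

/-- The involution `h_a(-1)` as an element of the group. -/
def t0G (K : Type*) [Field K] : ↥(cdG2.D.group K) := ⟨t0 K, diag_le_group t0_mem⟩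

theorem centralizer_t0G :
    Subgroup.centralizer ({t0G K} : Set ↥(cdG2.D.group K)) = (C0 K).subgroupOf (cdG2.D.group K) := by
  ext x
  rw [Subgroup.mem_centralizer_singleton_iff, Subgroup.mem_subgroupOf]
  unfold C0
  rw [Subgroup.mem_inf, Subgroup.mem_centralizer_singleton_iff]
  constructor
  · intro h
    refine ⟨x.2, ?_⟩
    have := congrArg Subtype.val h
    exact this
  · rintro ⟨-, h⟩
    apply Subtype.ext
    exact h

theorem zpowers_subgroupOf {Γ : Type*} [Group Γ] (G : Subgroup Γ) (g : Γ) (hg : g ∈ G) :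
    (Subgroup.zpowers g).subgroupOf G = Subgroup.zpowers (⟨g, hg⟩ : ↥G) := by
  ext x
  rw [Subgroup.mem_subgroupOf, Subgroup.mem_zpowers_iff, Subgroup.mem_zpowers_iff]
  constructor
  · rintro ⟨k, hk⟩
    refine ⟨k, ?_⟩
    apply Subtype.ext
    rw [Subgroup.coe_zpow]
    exact hk
  · rintro ⟨k, hk⟩
    refine ⟨k, ?_⟩
    rw [← hk, Subgroup.coe_zpow]

/-- The centralizer of `h_a(-1)` in the group. -/
theorem centStruct_t0G (hF : Odd (Fintype.card K)) :
    CentStruct (Matrix.SpecialLinearGroup (Fin 2) K) (Fintype.card K ^ 2 * (Fintype.card K ^ 2 - 1) ^ 2) (t0G K) := by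
  have hCG : C0 K ≤ cdG2.D.group K := inf_le_left
  have hL1G : L1 K ≤ cdG2.D.group K := le_trans L1_le_KK KK_le_group
  have hL2G : L2 K ≤ cdG2.D.group K := le_trans L2_le_KK KK_le_group
  refine ⟨?_, (L1 K).subgroupOf (cdG2.D.group K), (L2 K).subgroupOf (cdG2.D.group K), ?_, ?_, ?_, ?_, ?_, ?_⟩
  · rw [centralizer_t0G, Nat.card_congr (Subgroup.subgroupOfEquivOfLe hCG).toEquiv, card_C0 hF]
  · obtain ⟨e⟩ := L1_equiv (K := K)
    exact ⟨(Subgroup.subgroupOfEquivOfLe hL1G).trans e⟩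
  · obtain ⟨e⟩ := L2_equiv (K := K)
    exact ⟨(Subgroup.subgroupOfEquivOfLe hL2G).trans e⟩
  · intro x hx y hy
    rw [Subgroup.mem_subgroupOf] at hx hy
    apply Subtype.ext
    exact L1_L2_commute _ hx _ hy
  · have : (L1 K).subgroupOf (cdG2.D.group K) ⊓ (L2 K).subgroupOf (cdG2.D.group K) =
        (L1 K ⊓ L2 K).subgroupOf (cdG2.D.group K) := by
      ext x
      simp only [Subgroup.mem_inf, Subgroup.mem_subgroupOf]
    rw [this, L1_inf_L2]
    exact zpowers_subgroupOf _ _ _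
  · rw [← Subgroup.subgroupOf_sup hL1G hL2G, centralizer_t0G]
    exact Subgroup.comap_mono KK_le_C0
  · rw [← Subgroup.subgroupOf_sup hL1G hL2G, centralizer_t0G, Subgroup.relIndex_subgroupOf hCG]
    exact relIndex_KK_C0 hF

/-- Every involution of the group is conjugate to `h_a(-1)`. -/
theorem exists_conj_t0G (hF : Odd (Fintype.card K)) (u : ↥(cdG2.D.group K)) (hu : orderOf u = 2) :
    ∃ x : ↥(cdG2.D.group K), x * u * x⁻¹ = t0G K := by
  have h2 : u * u = 1 := by
    have := pow_orderOf_eq_one u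
    rwa [hu, pow_two] at this
  have h1 : u ≠ 1 := by
    intro h
    rw [h, orderOf_one] at hu
    norm_num at hu
  have h2' : (u : GL cdG2.D.Idx K) * (u : GL cdG2.D.Idx K) = 1 := by
    have := congrArg Subtype.val h2
    exact this
  have h1' : (u : GL cdG2.D.Idx K) ≠ 1 := by
    intro h
    apply h1
    exact Subtype.ext h
  obtain ⟨x, hx, e⟩ := conjT0_invol hF (u : GL cdG2.D.Idx K) u.2 h2' h1'
  refine ⟨⟨x, hx⟩, ?_⟩
  apply Subtype.ext
  exact e

/-- The centralizer of an involution of the group. -/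
theorem centStruct_invol (hF : Odd (Fintype.card K)) (t : ↥(cdG2.D.group K)) (ht : orderOf t = 2) :
    CentStruct (Matrix.SpecialLinearGroup (Fin 2) K) (Fintype.card K ^ 2 * (Fintype.card K ^ 2 - 1) ^ 2) t := by
  obtain ⟨x, hx⟩ := exists_conj_t0G hF t ht
  have := (centStruct_t0G hF).conj x⁻¹
  rw [← hx] at this
  have e : x⁻¹ * (x * t * x⁻¹) * x⁻¹⁻¹ = t := by group
  rwa [e] at this

end

end Cfsg.Agent.Lib.Helper3.G2O
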