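import Mathlib
import Cfsg.Agent.Lib.Helper3.F4O8
import Cfsg.Agent.Lib.Helper3.G2O7
set_option autoImplicit false
set_option linter.unusedSectionVars false
set_option linter.unusedVariables false
set_option linter.unusedSimpArgs false
open Cfsg Cfsg.Lie

/-!
The classes of involutions of the Chevalley group of type `F₄` over a finite field of odd order, and the orders
of their centralizers, as a statement about the group itself.
-/

namespace Cfsg.Agent.Lib.Helper3.ChevInv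

open Cfsg.Agent.Lib.Helper3.ChevM Cfsg.Agent.Lib.Helper3.ChevAt Cfsg.Agent.Lib.Helper3.ChevAut
open Cfsg.Agent.Lib.Helper3 ChevU ChevT ChevH

theorem centralizer_subtype {Γ : Type*} [Group Γ] (G : Subgroup Γ) (t : Γ) (ht : t ∈ G) :
    Subgroup.centralizer ({(⟨t, ht⟩ : ↥G)} : Set ↥G) = (G ⊓ Subgroup.centralizer {t}).subgroupOf G := by
  ext x
  rw [Subgroup.mem_centralizer_singleton_iff, Subgroup.mem_subgroupOf, Subgroup.mem_inf,
    Subgroup.mem_centralizer_singleton_iff]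
  constructor
  · intro h
    refine ⟨x.2, ?_⟩
    have := congrArg Subtype.val h
    exact this
  · rintro ⟨-, h⟩
    apply Subtype.ext
    exact h

theorem card_centralizer_subtype {Γ : Type*} [Group Γ] (G : Subgroup Γ) (t : Γ) (ht : t ∈ G) :
    Nat.card (Subgroup.centralizer ({(⟨t, ht⟩ : ↥G)} : Set ↥G)) = Nat.card ↥(G ⊓ Subgroup.centralizer {t}) := by
  rw [centralizer_subtype]
  exact Nat.card_congr (Subgroup.subgroupOfEquivOfLe inf_le_left).toEquiv

theorem card_ne (q : ℕ) (hq : 3 ≤ q) :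
    q ^ 16 * (q ^ 2 - 1) * (q ^ 4 - 1) * (q ^ 6 - 1) * (q ^ 8 - 1) ≠
      q ^ 10 * (q ^ 2 - 1) ^ 2 * (q ^ 4 - 1) * (q ^ 6 - 1) := by
  intro h
  have h1 : 1 < q := by omega
  have p2 : 0 < q ^ 2 - 1 := Nat.sub_pos_of_lt (Nat.one_lt_pow (by norm_num) h1)
  have p4 : 0 < q ^ 4 - 1 := Nat.sub_pos_of_lt (Nat.one_lt_pow (by norm_num) h1)
  have p6 : 0 < q ^ 6 - 1 := Nat.sub_pos_of_lt (Nat.one_lt_pow (by norm_num) h1)
  have pq : 0 < q ^ 10 := pow_pos (by omega) 10
  have pq6 : 0 < q ^ 6 := pow_pos (by omega) 6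
  have hA : 0 < q ^ 10 * (q ^ 2 - 1) * (q ^ 4 - 1) * (q ^ 6 - 1) :=
    Nat.mul_pos (Nat.mul_pos (Nat.mul_pos pq p2) p4) p6
  have e1 : q ^ 16 * (q ^ 2 - 1) * (q ^ 4 - 1) * (q ^ 6 - 1) * (q ^ 8 - 1) =
      (q ^ 10 * (q ^ 2 - 1) * (q ^ 4 - 1) * (q ^ 6 - 1)) * (q ^ 6 * (q ^ 8 - 1)) := by ring
  have e2 : q ^ 10 * (q ^ 2 - 1) ^ 2 * (q ^ 4 - 1) * (q ^ 6 - 1) =
      (q ^ 10 * (q ^ 2 - 1) * (q ^ 4 - 1) * (q ^ 6 - 1)) * (q ^ 2 - 1) := by ring
  rw [e1, e2] at h
  have h3 := Nat.eq_of_mul_eq_mul_left hA h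
  have h4 : q ^ 2 < q ^ 8 := Nat.pow_lt_pow_right h1 (by norm_num)
  have h5 : q ^ 8 - 1 ≤ q ^ 6 * (q ^ 8 - 1) := Nat.le_mul_of_pos_left _ pq6
  omega

section
variable {F : Type*} [Field F] [Fintype F]

theorem hU27_mem : relF4.hU 27 (-1 : F) ∈ cdF4.D.group F :=
  relF4.diagonalSubgroup_le_group (relF4.hU_mem 27 (by decide) _ neg_one_ne_zero_F)

theorem hU24_mem : relF4.hU 24 (-1 : F) ∈ cdF4.D.group F :=
  relF4.diagonalSubgroup_le_group (relF4.hU_mem 24 (by decide) _ neg_one_ne_zero_F)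

theorem orderOf_sub {Γ : Type*} [Group Γ] (G : Subgroup Γ) (t : Γ) (ht : t ∈ G) (h2 : t * t = 1) (h1 : t ≠ 1) :
    orderOf (⟨t, ht⟩ : ↥G) = 2 := by
  apply orderOf_eq_prime
  · apply Subtype.ext
    rw [pow_two]
    exact h2
  · intro h
    exact h1 (congrArg Subtype.val h)

/-- The two classes of involutions of the group of type `F₄` and the orders of their centralizers. -/
theorem f4_involutions (hF : Odd (Fintype.card F)) :
    ∃ s t : ↥(cdF4.D.group F), orderOf s = 2 ∧ orderOf t = 2 ∧ ¬ IsConj s t ∧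
      (∀ u : ↥(cdF4.D.group F), orderOf u = 2 → IsConj u s ∨ IsConj u t) ∧
      Nat.card (Subgroup.centralizer ({s} : Set ↥(cdF4.D.group F))) =
        Fintype.card F ^ 16 * (Fintype.card F ^ 2 - 1) * (Fintype.card F ^ 4 - 1) * (Fintype.card F ^ 6 - 1) *
          (Fintype.card F ^ 8 - 1) ∧
      Nat.card (Subgroup.centralizer ({t} : Set ↥(cdF4.D.group F))) =
        Fintype.card F ^ 10 * (Fintype.card F ^ 2 - 1) ^ 2 * (Fintype.card F ^ 4 - 1) *
          (Fintype.card F ^ 6 - 1) := by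
  have h2 := G2O.two_ne_zero_of_odd hF
  have cS : Nat.card (Subgroup.centralizer ({(⟨relF4.hU 27 (-1 : F), hU27_mem⟩ : ↥(cdF4.D.group F))} :
      Set ↥(cdF4.D.group F))) = _ := (card_centralizer_subtype _ _ hU27_mem).trans (f4_card_centS hF)
  have cT : Nat.card (Subgroup.centralizer ({(⟨relF4.hU 24 (-1 : F), hU24_mem⟩ : ↥(cdF4.D.group F))} :
      Set ↥(cdF4.D.group F))) = _ := (card_centralizer_subtype _ _ hU24_mem).trans (f4_card_centT hF)
  have hq3 : 3 ≤ Fintype.card F := by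
    have h1 : 1 < Fintype.card F := Fintype.one_lt_card
    rcases hF with ⟨k, hk⟩
    omega
  refine ⟨⟨relF4.hU 27 (-1 : F), hU27_mem⟩, ⟨relF4.hU 24 (-1 : F), hU24_mem⟩, ?_, ?_, ?_, ?_, cS, cT⟩
  · exact orderOf_sub _ _ _ (hU_neg_one_sq autHypF4 27 (by decide))
      (hU_neg_one_ne_one autHypF4 27 (by decide) 33 (by decide) (by decide +kernel) h2)
  · exact orderOf_sub _ _ _ (hU_neg_one_sq autHypF4 24 (by decide))
      (hU_neg_one_ne_one autHypF4 24 (by decide) 25 (by decide) (by decide +kernel) h2)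
  · intro hc
    rw [isConj_iff] at hc
    obtain ⟨c, hc⟩ := hc
    have e := G2O.centralizer_conj c (⟨relF4.hU 27 (-1 : F), hU27_mem⟩ : ↥(cdF4.D.group F))
    rw [hc] at e
    have hcard := congrArg (fun S : Subgroup ↥(cdF4.D.group F) => Nat.card S) e
    rw [Subgroup.card_map_of_injective (MulAut.conj c).injective, cS, cT] at hcard
    exact card_ne _ hq3 hcard.symm
  · intro u hu
    have hu2 : u * u = 1 := by
      have := pow_orderOf_eq_one u
      rwa [hu, pow_two] at this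
    have hu1 : u ≠ 1 := by
      intro h
      rw [h, orderOf_one] at hu
      norm_num at hu
    have hu2' : (u : GL cdF4.D.Idx F) * (u : GL cdF4.D.Idx F) = 1 := congrArg Subtype.val hu2
    have hu1' : (u : GL cdF4.D.Idx F) ≠ 1 := fun h => hu1 (Subtype.ext h)
    obtain ⟨x, hx, e | e⟩ := f4_invol_conj hF (u : GL cdF4.D.Idx F) u.2 hu2' hu1'
    · left
      rw [isConj_iff]
      exact ⟨⟨x, hx⟩, Subtype.ext e⟩
    · right
      rw [isConj_iff]
      exact ⟨⟨x, hx⟩, Subtype.ext e⟩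

end

end Cfsg.Agent.Lib.Helper3.ChevInv
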