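import Mathlib
import Cfsg.Prelude.Def_ChevStructure
import Cfsg.Prelude.Def_KGroupFacts
import Cfsg.Agent.Lib.Helper3.F4Out4
import Cfsg.Agent.Lib.Helper3.TwAut7
import Cfsg.Agent.Lib.Helper3.ChevSL2
set_option autoImplicit false
set_option linter.unusedSectionVars false
set_option linter.style.haveILetI false
set_option maxRecDepth 1000000
open Cfsg Cfsg.Lie

/-!
Automorphisms of the twisted groups of type F4, part 5: automorphisms acting on a pair of opposite root subgroups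
satisfying the relations of `SL₂`; the relations of `SL₂` for the first class.
-/

namespace Cfsg.Agent.Lib.Helper3.RF4

open Cfsg.Agent.Lib.Helper3.ChevM Cfsg.Agent.Lib.Helper3.ChevSp Cfsg.Agent.Lib.Helper3.ChevAt
open Cfsg.Agent.Lib.Helper3 ChevU ChevT
open Cfsg.Agent.Lib.Helper3.ChevAut Cfsg.Agent.Lib.Helper3.TwAut Cfsg.Agent.Lib.Helper1
open Cfsg.Agent.Lib.Helper3.SL2P

section
variable {K : Type*} [Field K] {G₀ : Type*} [Group G₀]

/-- If `x(u) y(v) x(u)` conjugates a nontrivial element of `X` into `V` then `1 + uv = 0`. -/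
theorem rank_one_key (X Y : K → G₀) (hR : Rel X Y) (U V : Subgroup G₀) (hUV : U ⊓ V = ⊥)
    (hXU : ∀ t, X t ∈ U) (hYV : ∀ t, Y t ∈ V) (hXinj : Function.Injective X) (u v t : K) (ht : t ≠ 0)
    (hm : (X u * Y v * X u) * X t * (X u * Y v * X u)⁻¹ ∈ V) : 1 + u * v = 0 := by
  by_contra h
  have key := congrArg (phi hR) (sl2_key u v t h)
  simp only [map_mul, map_inv, phi_xE, phi_yE] at key
  rw [key] at hm
  have hv' := hYV (v / (1 + u * v))
  have h3 : X ((1 + u * v) * (1 + u * v) * t) ∈ V := by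
    have h4 := Subgroup.mul_mem _ (Subgroup.mul_mem _ (Subgroup.inv_mem _ hv') hm) hv'
    have e : (Y (v / (1 + u * v)))⁻¹ * (Y (v / (1 + u * v)) * X ((1 + u * v) * (1 + u * v) * t) *
        (Y (v / (1 + u * v)))⁻¹) * Y (v / (1 + u * v)) = X ((1 + u * v) * (1 + u * v) * t) := by group
    rwa [e] at h4
  have h5 : X ((1 + u * v) * (1 + u * v) * t) ∈ U ⊓ V := ⟨hXU _, h3⟩
  rw [hUV, Subgroup.mem_bot, ← hR.X_zero] at h5
  exact (mul_ne_zero (mul_ne_zero h h) ht) (hXinj h5)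

end

section
variable {K : Type*} [Field K] [Finite K] {G₀ : Type*} [Group G₀] {Γ : Subgroup G₀}

/-- An automorphism acting on a pair of opposite root subgroups satisfying the relations of `SL₂`, normalized on
the positive root subgroup, acts as a field automorphism on both. -/
theorem sl2_aut_field (α : MulAut ↥Γ) (X Y : K → G₀) (hR : Rel X Y) (hXΓ : ∀ t, X t ∈ Γ) (hYΓ : ∀ t, Y t ∈ Γ)
    (U V : Subgroup G₀) (hUV : U ⊓ V = ⊥) (hXU : ∀ t, X t ∈ U) (hYV : ∀ t, Y t ∈ V)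
    (hXinj : Function.Injective X) (hYinj : Function.Injective Y)
    (f g : K → K) (hf : ∀ t, ex α (X t) = X (f t)) (hg : ∀ t, ex α (Y t) = Y (g t)) (hf1 : f 1 = 1) :
    ∃ ψ : K ≃+* K, (∀ t, f t = ψ t) ∧ (∀ t, g t = ψ t) := by
  have f_add : ∀ a b, f (a + b) = f a + f b := by
    intro a b
    have h1 := hf (a + b)
    rw [hR.X_add, ex_mul α (hXΓ a) (hXΓ b), hf a, hf b, ← hR.X_add] at h1
    exact (hXinj h1).symm
  have f_zero : f 0 = 0 := by
    have := f_add 0 0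
    rw [add_zero] at this
    exact left_eq_add.mp this
  have f_inj : Function.Injective f := by
    intro a b e
    have h1 : ex α (X a) = ex α (X b) := by rw [hf a, hf b, e]
    exact hXinj (ex_injOn α (hXΓ a) (hXΓ b) h1)
  have f_ne_zero : ∀ a, a ≠ 0 → f a ≠ 0 := by
    intro a ha e
    rw [← f_zero] at e
    exact ha (f_inj e)
  have g_zero : g 0 = 0 := by
    have h1 := hg 0
    rw [hR.Y_zero, ex_one, ← hR.Y_zero] at h1
    exact (hYinj h1).symm
  have g_eq : ∀ a, a ≠ 0 → g (-a⁻¹) = -(f a)⁻¹ := by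
    intro a ha0
    have hc1 : (X a * Y (-a⁻¹) * X a) * X 1 * (X a * Y (-a⁻¹) * X a)⁻¹ = Y (-(a⁻¹ * a⁻¹ * 1)) :=
      hR.conj a ha0 1
    have hGn := Subgroup.mul_mem _ (Subgroup.mul_mem _ (hXΓ a) (hYΓ (-a⁻¹))) (hXΓ a)
    have h2 := congrArg (ex α) hc1
    rw [ex_conj_mul α hGn (hXΓ 1), ex_mul α (Subgroup.mul_mem _ (hXΓ a) (hYΓ (-a⁻¹))) (hXΓ a),
      ex_mul α (hXΓ a) (hYΓ (-a⁻¹)), hf a, hg, hf 1, hg] at h2
    have hmem : Y (g (-(a⁻¹ * a⁻¹ * 1))) ∈ V := hYV _
    rw [← h2] at hmem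
    have h4 := rank_one_key X Y hR U V hUV hXU hYV hXinj _ _ _ (f_ne_zero 1 one_ne_zero) hmem
    have hfa := f_ne_zero a ha0
    rw [eq_neg_iff_add_eq_zero, ← mul_right_inj' hfa, mul_add, mul_inv_cancel₀ hfa, mul_zero]
    linear_combination h4
  have ex_nE : ∀ a, a ≠ 0 → ex α (nE X Y a) = nE X Y (f a) := by
    intro a ha0
    unfold nE
    rw [ex_mul α (Subgroup.mul_mem _ (hXΓ a) (hYΓ (-a⁻¹))) (hXΓ a), ex_mul α (hXΓ a) (hYΓ (-a⁻¹)), hf a, hg,
      g_eq a ha0]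
  have nE_mem : ∀ a, nE X Y a ∈ Γ := fun a =>
    Subgroup.mul_mem _ (Subgroup.mul_mem _ (hXΓ a) (hYΓ (-a⁻¹))) (hXΓ a)
  have ex_hE : ∀ a, a ≠ 0 → ex α (hE X Y a) = hE X Y (f a) := by
    intro a ha0
    unfold hE
    rw [ex_mul α (nE_mem a) (Subgroup.inv_mem _ (nE_mem 1)), ex_inv α (nE_mem 1), ex_nE a ha0,
      ex_nE 1 one_ne_zero, hf1]
  have hE_mem : ∀ a, hE X Y a ∈ Γ := fun a => Subgroup.mul_mem _ (nE_mem a) (Subgroup.inv_mem _ (nE_mem 1))
  have f_sq : ∀ t u, t ≠ 0 → f (t * t * u) = f t * f t * f u := by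
    intro t u ht0
    have h1 := hR.h_conj t ht0 u
    have h2 := congrArg (ex α) h1
    rw [ex_conj_mul α (hE_mem t) (hXΓ u), ex_hE t ht0, hf u, hf, hR.h_conj _ (f_ne_zero t ht0)] at h2
    exact (hXinj h2).symm
  have f_mul := mul_of_sq f f_add f_sq hf1
  have f_bij : Function.Bijective f := Finite.injective_iff_bijective.mp f_inj
  let fh : K →+* K :=
    { toFun := f, map_one' := hf1, map_mul' := f_mul, map_zero' := f_zero, map_add' := f_add }
  let ψ : K ≃+* K := RingEquiv.ofBijective fh f_bij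
  refine ⟨ψ, fun t => rfl, ?_⟩
  intro b
  by_cases hb : b = 0
  · rw [hb, g_zero, map_zero]
  · have h1 := g_eq (-b⁻¹) (neg_ne_zero.mpr (inv_ne_zero hb))
    rw [inv_neg, inv_inv, neg_neg] at h1
    rw [h1]
    show -(fh (-b⁻¹))⁻¹ = fh b
    rw [map_neg, map_inv₀, inv_neg, inv_inv, neg_neg]

end

theorem f4_hcs : ∀ j < cdF4.D.rank, cdF4.D.cartan j (cdF4.D.neg (cdF4.D.simple j)) = -2 := by decide

section
variable {K : Type*} [Field K] [CharP K 2]

/-- the power map as a homomorphism of rings -/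
def thetaHom {θ : ℕ} (hθ : ThetaHyp2 K θ) (hθ0 : θ ≠ 0) : K →+* K where
  toFun x := x ^ θ
  map_one' := one_pow θ
  map_mul' x y := mul_pow x y θ
  map_zero' := zero_pow hθ0
  map_add' := hθ.add

theorem comm_33_23 (c c' : K) : relF4.xU 33 c * relF4.xU 23 c' = relF4.xU 23 c' * relF4.xU 33 c :=
  f4_comm_of_check 33 23 (by decide) (by decide) (by decide +kernel) c c'

theorem comm_14_24 (c c' : K) : relF4.xU 14 c * relF4.xU 24 c' = relF4.xU 24 c' * relF4.xU 14 c :=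
  f4_comm_of_check 14 24 (by decide) (by decide) (by decide +kernel) c c'

/-- the relations of `SL₂` for the first class -/
theorem rel_pair {θ : ℕ} (hθ : ThetaHyp2 K θ) (hθ0 : θ ≠ 0) :
    Rel (fun t : K => pairP θ t) (fun t : K => pairN θ t) := by
  have R₁ := monoF4.sl2_rel (F := K) f4_hcs 33 (by decide)
  have R₂ := monoF4.sl2_rel (F := K) f4_hcs 24 (by decide)
  have e1 : cdF4.D.neg 33 = 14 := by decide
  have e2 : cdF4.D.neg 24 = 23 := by decide
  rw [e1] at R₁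
  rw [e2] at R₂
  exact Rel.prod R₁ R₂ (thetaHom hθ hθ0) (fun s t => comm_33_24 s t) (fun s t => comm_33_23 s t)
    (fun s t => comm_14_24 s t) (fun s t => comm_14_23 s t)

theorem pairN_inj (θ : ℕ) (t t' : K) (h : pairN θ t = pairN θ t') : t = t' := by
  rw [← conj_wJ1_pairP, ← conj_wJ1_pairP] at h
  exact pairP_inj θ t t' (mul_left_cancel (mul_right_cancel h))

theorem clsN_inj (θ : ℕ) (t u t' u' : K) (h : clsN θ t u = clsN θ t' u') : t = t' ∧ u = u' := by
  rw [← conj_wJ2_clsP, ← conj_wJ2_clsP] at h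
  exact clsP_inj θ t u t' u' (mul_left_cancel (mul_right_cancel h))

end

section
variable {K : Type*} [Field K] [Fintype K] [CharP K 2]

theorem pairP_mem_pos (θ : ℕ) (t : K) : pairP θ t ∈ cdF4.D.posUnipotent K :=
  Subgroup.mul_mem _ (xU_mem_pos _ (by decide) _) (xU_mem_pos _ (by decide) _)

theorem pairN_mem_neg (θ : ℕ) (t : K) : pairN θ t ∈ cdF4.D.negUnipotent K :=
  Subgroup.mul_mem _ (xU_mem_negU _ (by decide) _) (xU_mem_negU _ (by decide) _)

theorem clsP_mem_pos (θ : ℕ) (t u : K) : clsP θ t u ∈ cdF4.D.posUnipotent K := by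
  rw [clsP_eq]
  exact Subgroup.mul_mem _ (Subgroup.mul_mem _ (Subgroup.mul_mem _ (xU_mem_pos _ (by decide) _)
    (xU_mem_pos _ (by decide) _)) (xU_mem_pos _ (by decide) _)) (xU_mem_pos _ (by decide) _)

theorem clsN_mem_neg (θ : ℕ) (t u : K) : clsN θ t u ∈ cdF4.D.negUnipotent K := by
  rw [clsN_eq]
  exact Subgroup.mul_mem _ (Subgroup.mul_mem _ (Subgroup.mul_mem _ (xU_mem_negU _ (by decide) _)
    (xU_mem_negU _ (by decide) _)) (xU_mem_negU _ (by decide) _)) (xU_mem_negU _ (by decide) _)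

end

end Cfsg.Agent.Lib.Helper3.RF4
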