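import Mathlib
import Cfsg.Prelude.Def_ChevStructure
import Cfsg.Prelude.Def_KGroupFacts
import Cfsg.Agent.Lib.Helper3.F4Out5
set_option autoImplicit false
set_option linter.unusedSectionVars false
set_option linter.style.haveILetI false
set_option maxRecDepth 1000000
open Cfsg Cfsg.Lie

/-!
Automorphisms of the twisted groups of type F4, part 6: the action of the diagonal elements on the root subgroups
of the fundamental classes; the fixed points of an automorphism; normalization on the first class.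
-/

namespace Cfsg.Agent.Lib.Helper3.RF4

open Cfsg.Agent.Lib.Helper3.ChevM Cfsg.Agent.Lib.Helper3.ChevSp Cfsg.Agent.Lib.Helper3.ChevAt
open Cfsg.Agent.Lib.Helper3 ChevU ChevT
open Cfsg.Agent.Lib.Helper3.ChevAut Cfsg.Agent.Lib.Helper3.TwAut Cfsg.Agent.Lib.Helper1
open Cfsg.Agent.Lib.Helper3.SL2P

section
variable {G₀ : Type*} [Group G₀] {Γ : Subgroup G₀}

/-- the fixed points of an automorphism -/
def exFix (β : MulAut ↥Γ) : Subgroup G₀ where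
  carrier := {g | g ∈ Γ ∧ ex β g = g}
  mul_mem' := by
    rintro a b ⟨ha, ea⟩ ⟨hb, eb⟩
    exact ⟨Γ.mul_mem ha hb, by rw [ex_mul β ha hb, ea, eb]⟩
  one_mem' := ⟨Γ.one_mem, ex_one β⟩
  inv_mem' := by
    rintro a ⟨ha, ea⟩
    exact ⟨Γ.inv_mem ha, by rw [ex_inv β ha, ea]⟩

theorem mem_exFix (β : MulAut ↥Γ) (g : G₀) : g ∈ exFix β ↔ g ∈ Γ ∧ ex β g = g := Iff.rfl

/-- composing with the conjugation by an element normalizing a subgroup -/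
theorem pres_conj_of_normalizes (X : Subgroup G₀) (hX : X ≤ Γ) (α : MulAut ↥Γ) (hα : Pres α X) (a : ↥Γ)
    (ha : ∀ x ∈ X, (a : G₀) * x * (a : G₀)⁻¹ ∈ X) : Pres (MulAut.conj a * α) X := by
  intro x hx
  rw [ex_mul_aut _ _ (hX hx), ex_conj _ (ex_mem α (hX hx))]
  exact ha _ (hα x hx)

theorem pres_mul (X : Subgroup G₀) (hX : X ≤ Γ) (α β : MulAut ↥Γ) (hα : Pres α X) (hβ : Pres β X) :
    Pres (α * β) X := by
  intro x hx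
  rw [ex_mul_aut _ _ (hX hx)]
  exact hα _ (hβ x hx)

end

section
variable {K : Type*} [Field K] [Fintype K] [CharP K 2]

theorem hFix_conj_pairP_gen (m : ℕ) (s τ : K) (hs : s ≠ 0) (hτ : τ ≠ 0) (t : K) :
    hFix (2 ^ m) s τ * pairP (2 ^ m) t * (hFix (2 ^ m) s τ)⁻¹ = pairP (2 ^ m) (s ^ 2 * τ⁻¹ * t) := by
  unfold hFix
  rw [hT_conj_pairP _ _ _ _ _ (pow_ne_zero _ hs) (pow_ne_zero _ hτ) hτ hs]
  unfold pairP
  congr 2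
  · rw [mul_pow, mul_pow, inv_pow, ← pow_mul, ← pow_mul, mul_comm (2 ^ m) 2]
  · ring

theorem hFix_conj_clsP_gen (m : ℕ) (hK : Fintype.card K = 2 ^ (2 * m + 1)) (s τ : K) (hs : s ≠ 0) (hτ : τ ≠ 0)
    (t u : K) :
    hFix (2 ^ m) s τ * clsP (2 ^ m) t u * (hFix (2 ^ m) s τ)⁻¹ =
      clsP (2 ^ m) (((τ ^ 2 ^ m) ^ 2)⁻¹ * τ ^ 2 * s⁻¹ * t) ((s ^ 2 ^ m)⁻¹ * τ * s⁻¹ * u) := by
  have hθ := thetaHyp2_of_card (K := K) m hK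
  have hA : τ ^ 2 ^ m ≠ 0 := pow_ne_zero _ hτ
  have hS : s ^ 2 ^ m ≠ 0 := pow_ne_zero _ hs
  unfold hFix
  rw [clsP_eq, clsP_eq, hT_conj_nfP _ _ _ _ hS hA hτ hs]
  have eκ : (((τ ^ 2 ^ m) ^ 2)⁻¹ * τ ^ 2 * s⁻¹) ^ 2 ^ m = τ⁻¹ * (τ ^ 2 ^ m) ^ 2 * (s ^ 2 ^ m)⁻¹ := by
    rw [mul_pow, mul_pow, inv_pow, inv_pow, ← pow_mul (τ ^ 2 ^ m), hθ.inv, ← pow_mul, ← pow_mul,
      mul_comm 2 (2 ^ m)]
  have eκ1 : (((τ ^ 2 ^ m) ^ 2)⁻¹ * τ ^ 2 * s⁻¹) ^ (2 ^ m + 1) = (s ^ 2 ^ m)⁻¹ * τ * s⁻¹ := by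
    rw [pow_succ, eκ]
    field_simp
  have e27 : (((τ ^ 2 ^ m) ^ 2)⁻¹ * τ ^ 2 * s⁻¹ * t) ^ 2 ^ m =
      (s ^ 2 ^ m)⁻¹ * (τ ^ 2 ^ m) ^ 2 * τ⁻¹ * t ^ 2 ^ m := by
    rw [mul_pow, eκ]
    ring
  have e28 : (((τ ^ 2 ^ m) ^ 2)⁻¹ * τ ^ 2 * s⁻¹ * t) ^ (2 ^ m + 1) + (s ^ 2 ^ m)⁻¹ * τ * s⁻¹ * u =
      (s ^ 2 ^ m)⁻¹ * τ * s⁻¹ * (t ^ (2 ^ m + 1) + u) := by
    rw [mul_pow, eκ1]
    ring
  have e30 : ((s ^ 2 ^ m)⁻¹ * τ * s⁻¹ * u) ^ (2 * 2 ^ m) =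
      ((s ^ 2 ^ m) ^ 2)⁻¹ * (τ ^ 2 ^ m) ^ 2 * s⁻¹ * u ^ (2 * 2 ^ m) := by
    rw [mul_pow, mul_pow, mul_pow, inv_pow, inv_pow, ← pow_mul (s) (2 ^ m) (2 * 2 ^ m), ← pow_mul s (2 ^ m) 2]
    have h1 : s ^ (2 ^ m * (2 * 2 ^ m)) = s := by rw [pow_mul]; exact hθ.inv s
    have h2 : τ ^ (2 * 2 ^ m) = (τ ^ 2 ^ m) ^ 2 := by rw [← pow_mul, mul_comm]
    have h3 : s ^ (2 * 2 ^ m) = s ^ (2 ^ m * 2) := by rw [mul_comm]
    rw [h1, h2, h3]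
    ring
  rw [e27, e28, e30]

/-- the group generated by the inner automorphisms and the field automorphisms -/
noncomputable def f4IF (K : Type*) [Field K] [Fintype K] [CharP K 2] (m : ℕ) : Subgroup (MulAut ↥(tF4 K (2 ^ m))) :=
  Cfsg.Inn ↥(tF4 K (2 ^ m)) ⊔ (f4FAutHom (K := K) (2 ^ m)).range

theorem conj_mem_f4IF (m : ℕ) (a : ↥(tF4 K (2 ^ m))) : MulAut.conj a ∈ f4IF K m :=
  Subgroup.mem_sup_left ⟨a, rfl⟩

theorem fAut_mem_f4IF (m : ℕ) (ψ : K ≃+* K) : f4FAut (2 ^ m) ψ ∈ f4IF K m :=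
  Subgroup.mem_sup_right ⟨ψ, rfl⟩

/-- the diagonal elements as elements of the twisted group -/
def hFixG (m : ℕ) (hK : Fintype.card K = 2 ^ (2 * m + 1)) (s τ : K) (hs : s ≠ 0) (hτ : τ ≠ 0) : ↥(tF4 K (2 ^ m)) :=
  ⟨hFix (2 ^ m) s τ, hFix_mem_tF4 m hK s τ hs hτ⟩

theorem diag_conj_pos' (m : ℕ) (h : GL cdF4.D.Idx K) (hh : h ∈ cdF4.D.diagonalSubgroup K ⊓ tF4 K (2 ^ m))
    (x : GL cdF4.D.Idx K) (hx : x ∈ cdF4.D.posUnipotent K ⊓ tF4 K (2 ^ m)) :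
    h * x * h⁻¹ ∈ cdF4.D.posUnipotent K ⊓ tF4 K (2 ^ m) :=
  ⟨diag_conj_pos h hh.1 x hx.1, Subgroup.mul_mem _ (Subgroup.mul_mem _ hh.2 hx.2) (Subgroup.inv_mem _ hh.2)⟩

theorem diag_conj_neg' (m : ℕ) (h : GL cdF4.D.Idx K) (hh : h ∈ cdF4.D.diagonalSubgroup K ⊓ tF4 K (2 ^ m))
    (x : GL cdF4.D.Idx K) (hx : x ∈ cdF4.D.negUnipotent K ⊓ tF4 K (2 ^ m)) :
    h * x * h⁻¹ ∈ cdF4.D.negUnipotent K ⊓ tF4 K (2 ^ m) :=
  ⟨(Subgroup.mem_normalizer_iff.mp (diagonal_le_normalizer_neg (K := K) atHypF4 hh.1) x).mp hx.1,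
    Subgroup.mul_mem _ (Subgroup.mul_mem _ hh.2 hx.2) (Subgroup.inv_mem _ hh.2)⟩

theorem hFixG_pres (m : ℕ) (hK : Fintype.card K = 2 ^ (2 * m + 1)) (s τ : K) (hs : s ≠ 0) (hτ : τ ≠ 0)
    (α : MulAut ↥(tF4 K (2 ^ m)))
    (hU : Pres α (cdF4.D.posUnipotent K ⊓ tF4 K (2 ^ m)))
    (hV : Pres α (cdF4.D.negUnipotent K ⊓ tF4 K (2 ^ m))) :
    Pres (MulAut.conj (hFixG m hK s τ hs hτ) * α) (cdF4.D.posUnipotent K ⊓ tF4 K (2 ^ m)) ∧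
    Pres (MulAut.conj (hFixG m hK s τ hs hτ) * α) (cdF4.D.negUnipotent K ⊓ tF4 K (2 ^ m)) := by
  have hh : hFix (2 ^ m) s τ ∈ cdF4.D.diagonalSubgroup K ⊓ tF4 K (2 ^ m) :=
    ⟨hFix_mem _ s τ hs hτ, hFix_mem_tF4 m hK s τ hs hτ⟩
  exact ⟨pres_conj_of_normalizes _ inf_le_right α hU _ (fun x hx => diag_conj_pos' m _ hh x hx),
    pres_conj_of_normalizes _ inf_le_right α hV _ (fun x hx => diag_conj_neg' m _ hh x hx)⟩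

theorem f4FAut_pres (θ : ℕ) (ψ : K ≃+* K) :
    Pres (f4FAut θ ψ) (cdF4.D.posUnipotent K ⊓ tF4 K θ) ∧ Pres (f4FAut θ ψ) (cdF4.D.negUnipotent K ⊓ tF4 K θ) := by
  constructor
  · intro x hx
    rw [ex_f4FAut θ ψ x hx.2]
    exact ⟨glMap_mem_pos atHypF4 ψ x hx.1, tF4_map_le θ ψ ⟨x, hx.2, rfl⟩⟩
  · intro x hx
    rw [ex_f4FAut θ ψ x hx.2]
    exact ⟨glMap_mem_neg atHypF4 ψ x hx.1, tF4_map_le θ ψ ⟨x, hx.2, rfl⟩⟩

/-- normalization on the first class: up to inner and field automorphisms, an automorphism preserving `U¹` and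
`V¹` fixes the root subgroups of the first class and its negative elementwise -/
theorem f4_step5 (m : ℕ) (hK : Fintype.card K = 2 ^ (2 * m + 1)) (α : MulAut ↥(tF4 K (2 ^ m)))
    (hU : Pres α (cdF4.D.posUnipotent K ⊓ tF4 K (2 ^ m)))
    (hV : Pres α (cdF4.D.negUnipotent K ⊓ tF4 K (2 ^ m))) :
    ∃ γ ∈ f4IF K m, Pres (γ * α) (cdF4.D.posUnipotent K ⊓ tF4 K (2 ^ m)) ∧
      Pres (γ * α) (cdF4.D.negUnipotent K ⊓ tF4 K (2 ^ m)) ∧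
      (∀ t : K, ex (γ * α) (pairP (2 ^ m) t) = pairP (2 ^ m) t) ∧
      (∀ t : K, ex (γ * α) (pairN (2 ^ m) t) = pairN (2 ^ m) t) := by
  have hθ := thetaHyp2_of_card (K := K) m hK
  have hθ0 : (2 : ℕ) ^ m ≠ 0 := pow_ne_zero _ (by norm_num)
  -- the image of `x₁(1)`
  obtain ⟨c, hc⟩ := f4_pres_pairP m hK α hU hV 1
  have hc0 : c ≠ 0 := by
    intro h0
    rw [h0, pairP_zero _ hθ0] at hc
    exact pairP_one_ne _ hθ0 (ex_eq_one α (pairP_mem_tF4 _ 1) hc)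
  obtain ⟨s, hs⟩ := exists_pow_two_pow (K := K) 1 c⁻¹
  rw [pow_one] at hs
  have hs0 : s ≠ 0 := by
    intro h0
    rw [h0] at hs
    exact inv_ne_zero hc0 (by rw [← hs]; ring)
  set α₂ := MulAut.conj (hFixG m hK s 1 hs0 one_ne_zero) * α with hα₂
  obtain ⟨hU₂, hV₂⟩ := hFixG_pres m hK s 1 hs0 one_ne_zero α hU hV
  have h1 := fun t => f4_pres_pairP m hK α₂ hU₂ hV₂ t
  have h2 := fun t => f4_pres_pairN m hK α₂ hU₂ hV₂ t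
  choose f hf using h1
  choose g hg using h2
  have hf1 : f 1 = 1 := by
    have h3 := hf 1
    rw [hα₂, ex_mul_aut _ _ (pairP_mem_tF4 _ 1), ex_conj _ (ex_mem α (pairP_mem_tF4 _ 1)), hc] at h3
    change hFix (2 ^ m) s 1 * pairP (2 ^ m) c * (hFix (2 ^ m) s 1)⁻¹ = _ at h3
    rw [hFix_conj_pairP m s hs0] at h3
    have h4 := pairP_inj _ _ _ h3
    rw [← h4, hs, inv_mul_cancel₀ hc0]
  obtain ⟨ψ, hψf, hψg⟩ := sl2_aut_field α₂ (fun t : K => pairP (2 ^ m) t) (fun t : K => pairN (2 ^ m) t)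
    (rel_pair hθ hθ0) (fun t => pairP_mem_tF4 _ t) (fun t => pairN_mem_tF4 _ t)
    (cdF4.D.posUnipotent K) (cdF4.D.negUnipotent K) (pos_inf_neg atHypF4) (fun t => pairP_mem_pos _ t)
    (fun t => pairN_mem_neg _ t) (fun t t' h => pairP_inj _ t t' h) (fun t t' h => pairN_inj _ t t' h)
    f g hf hg hf1
  refine ⟨f4FAut (2 ^ m) ψ.symm * MulAut.conj (hFixG m hK s 1 hs0 one_ne_zero),
    Subgroup.mul_mem _ (fAut_mem_f4IF m _) (conj_mem_f4IF m _), ?_⟩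
  rw [mul_assoc, ← hα₂]
  obtain ⟨hFU, hFV⟩ := f4FAut_pres (K := K) (2 ^ m) ψ.symm
  refine ⟨pres_mul _ inf_le_right _ _ hFU hU₂, pres_mul _ inf_le_right _ _ hFV hV₂, ?_, ?_⟩
  · intro t
    rw [ex_mul_aut _ _ (pairP_mem_tF4 _ t), hf, hψf, ex_f4FAut_pairP, RingEquiv.symm_apply_apply]
  · intro t
    rw [ex_mul_aut _ _ (pairN_mem_tF4 _ t), hg, hψg, ex_f4FAut_pairN, RingEquiv.symm_apply_apply]

end

end Cfsg.Agent.Lib.Helper3.RF4
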