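import Mathlib
import Cfsg.Prelude.Def_ChevStructure
import Cfsg.Prelude.Def_KGroupFacts
import Cfsg.Agent.Lib.Helper3.F4Out6
set_option autoImplicit false
set_option linter.unusedSectionVars false
set_option linter.style.haveILetI false
set_option maxRecDepth 1000000
open Cfsg Cfsg.Lie

/-!
Automorphisms of the twisted groups of type F4, part 7: the action on the root subgroup of the second class of an
automorphism fixing the root subgroups of the first class elementwise.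
-/

namespace Cfsg.Agent.Lib.Helper3.RF4

open Cfsg.Agent.Lib.Helper3.ChevM Cfsg.Agent.Lib.Helper3.ChevSp Cfsg.Agent.Lib.Helper3.ChevAt
open Cfsg.Agent.Lib.Helper3 ChevU ChevT
open Cfsg.Agent.Lib.Helper3.ChevAut Cfsg.Agent.Lib.Helper3.TwAut Cfsg.Agent.Lib.Helper1
open Cfsg.Agent.Lib.Helper3.SL2P

section
variable {K : Type*} [Field K] [Fintype K] [CharP K 2]

theorem theta_exp_eq (m : ℕ) : (2 ^ m + 1) * (2 * 2 ^ m - 2) + 2 = 2 ^ m * (2 * 2 ^ m) := by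
  obtain ⟨k, hk⟩ : ∃ k, 2 ^ m = k + 1 := ⟨2 ^ m - 1, by have := Nat.one_le_two_pow (n := m); omega⟩
  rw [hk]
  have : 2 * (k + 1) - 2 = 2 * k := by omega
  rw [this]
  ring

theorem pow_theta_succ_inj (m : ℕ) (hK : Fintype.card K = 2 ^ (2 * m + 1)) :
    Function.Injective (fun x : K => x ^ (2 ^ m + 1)) := by
  have hθ := thetaHyp2_of_card (K := K) m hK
  have key : ∀ z : K, z ≠ 0 → (z ^ (2 ^ m + 1)) ^ (2 * 2 ^ m - 2) * z = 1 := by
    intro z hz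
    have h1 : (z ^ (2 ^ m + 1)) ^ (2 * 2 ^ m - 2) * z ^ 2 = z := by
      rw [← pow_mul, ← pow_add, theta_exp_eq, pow_mul]
      exact hθ.inv z
    have h2 : (z ^ (2 ^ m + 1)) ^ (2 * 2 ^ m - 2) * z * z = 1 * z := by
      rw [one_mul, mul_assoc, ← sq]
      exact h1
    exact mul_right_cancel₀ hz h2
  intro x y e
  simp only at e
  by_cases hx : x = 0
  · rw [hx, zero_pow (Nat.succ_ne_zero _)] at e
    rw [hx]
    exact ((pow_eq_zero_iff (Nat.succ_ne_zero _)).mp e.symm).symm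
  · have hy : y ≠ 0 := by
      intro hy
      rw [hy, zero_pow (Nat.succ_ne_zero _)] at e
      exact hx ((pow_eq_zero_iff (Nat.succ_ne_zero _)).mp e)
    have h1 := key x hx
    have h2 := key y hy
    rw [e] at h1
    have hA : (y ^ (2 ^ m + 1)) ^ (2 * 2 ^ m - 2) ≠ 0 := pow_ne_zero _ (pow_ne_zero _ hy)
    exact mul_left_cancel₀ hA (h1.trans h2.symm)

theorem pow_theta_succ_surj (m : ℕ) (hK : Fintype.card K = 2 ^ (2 * m + 1)) (v : K) :
    ∃ t : K, t ^ (2 ^ m + 1) = v :=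
  (Finite.injective_iff_surjective.mp (pow_theta_succ_inj m hK)) v

/-- the action on the root subgroup of the second class of an automorphism fixing the root subgroups of the first
class elementwise -/
theorem f4_step6_form (m : ℕ) (hm : 1 ≤ m) (hK : Fintype.card K = 2 ^ (2 * m + 1)) (β : MulAut ↥(tF4 K (2 ^ m)))
    (hU : Pres β (cdF4.D.posUnipotent K ⊓ tF4 K (2 ^ m)))
    (hV : Pres β (cdF4.D.negUnipotent K ⊓ tF4 K (2 ^ m)))
    (hP : ∀ t : K, ex β (pairP (2 ^ m) t) = pairP (2 ^ m) t)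
    (hN : ∀ t : K, ex β (pairN (2 ^ m) t) = pairN (2 ^ m) t) :
    ∃ a : K, a ≠ 0 ∧ ∀ t u : K, ex β (clsP (2 ^ m) t u) = clsP (2 ^ m) (a * t) (a ^ (2 ^ m + 1) * u) := by
  have hθ := thetaHyp2_of_card (K := K) m hK
  have hθ0 : (2 : ℕ) ^ m ≠ 0 := pow_ne_zero _ (by norm_num)
  have h0 := fun t u => f4_pres_clsP m hK β hU hV t u
  choose F G hFG using h0
  -- the diagonal elements of the first class are fixed
  have hfixH : ∀ s : K, s ≠ 0 → ex β (hFix (2 ^ m) s 1) = hFix (2 ^ m) s 1 := by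
    intro s hs
    have hp : ∀ t, pairP (2 ^ m) t ∈ exFix β := fun t => ⟨pairP_mem_tF4 _ t, hP t⟩
    have hn : ∀ t, pairN (2 ^ m) t ∈ exFix β := fun t => ⟨pairN_mem_tF4 _ t, hN t⟩
    have hmem : hFix (2 ^ m) s 1 ∈ exFix β := by
      rw [hFix_s_one (2 ^ m) s hs]
      exact mul_mem (mul_mem (mul_mem (hp s) (hn s⁻¹)) (hp s)) (mul_mem (mul_mem (hp 1) (hn 1)) (hp 1))
    exact hmem.2
  have hconj : ∀ c : K, c ≠ 0 → ∀ t u : K,
      hFix (2 ^ m) c⁻¹ 1 * clsP (2 ^ m) t u * (hFix (2 ^ m) c⁻¹ 1)⁻¹ =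
        clsP (2 ^ m) (c * t) (c ^ (2 ^ m + 1) * u) := by
    intro c hc t u
    rw [hFix_conj_clsP_gen m hK c⁻¹ 1 (inv_ne_zero hc) one_ne_zero]
    congr 1
    · simp
    · rw [inv_pow, inv_inv, inv_inv, mul_one, pow_succ]
  -- equivariance
  have hequiv : ∀ c : K, c ≠ 0 → ∀ t u : K,
      F (c * t) (c ^ (2 ^ m + 1) * u) = c * F t u ∧ G (c * t) (c ^ (2 ^ m + 1) * u) = c ^ (2 ^ m + 1) * G t u := by
    intro c hc t u
    have h2 := congrArg (ex β) (hconj c hc t u)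
    rw [ex_conj_mul β (hFix_mem_tF4 m hK _ _ (inv_ne_zero hc) one_ne_zero) (clsP_mem_tF4 _ t u),
      hfixH _ (inv_ne_zero hc), hFG, hFG, hconj c hc] at h2
    obtain ⟨h3, h4⟩ := clsP_inj _ _ _ _ _ h2
    exact ⟨h3.symm, h4.symm⟩
  -- the multiplication
  have hhom : ∀ t u t' u' : K, F (t + t') (u + u' + t ^ 2 ^ m * t') = F t u + F t' u' ∧
      G (t + t') (u + u' + t ^ 2 ^ m * t') = G t u + G t' u' + (F t u) ^ 2 ^ m * F t' u' := by
    intro t u t' u'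
    have h2 := congrArg (ex β) (clsP_mul hθ t u t' u')
    rw [ex_mul β (clsP_mem_tF4 _ t u) (clsP_mem_tF4 _ t' u'), hFG, hFG, hFG, clsP_mul hθ] at h2
    obtain ⟨h3, h4⟩ := clsP_inj _ _ _ _ _ h2
    exact ⟨h3.symm, h4.symm⟩
  have hself : ∀ x : K, x + x = 0 := fun x => CharTwo.add_self_eq_zero x
  have hZ0 : F 0 0 = 0 ∧ G 0 0 = 0 := by
    have h1 := hFG 0 0
    rw [clsP_zero_zero hθ, ex_one, ← clsP_zero_zero hθ] at h1
    obtain ⟨h3, h4⟩ := clsP_inj _ _ _ _ _ h1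
    exact ⟨h3.symm, h4.symm⟩
  -- the centre is mapped to the centre
  have hZ1 : ∀ v : K, F 0 v = 0 := by
    intro v
    have h1 := (hhom 0 v 0 v).2
    have e1 : (0 : K) + 0 = 0 := add_zero 0
    have e2 : v + v + (0 : K) ^ 2 ^ m * 0 = 0 := by rw [hself, mul_zero, add_zero]
    rw [e1, e2, hZ0.2, hself (G 0 v), zero_add, ← pow_succ] at h1
    exact (pow_eq_zero_iff (Nat.succ_ne_zero _)).mp h1.symm
  have hSQ : ∀ t u : K, G 0 (t ^ (2 ^ m + 1)) = (F t u) ^ (2 ^ m + 1) := by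
    intro t u
    have h1 := (hhom t u t u).2
    rw [hself t, hself u, hself (G t u), zero_add, zero_add, ← pow_succ, ← pow_succ] at h1
    exact h1
  have hZ2 : ∀ t u : K, F t u = F t 0 := by
    intro t u
    have h1 := (hhom t 0 0 u).1
    rw [add_zero, zero_add, mul_zero, add_zero, hZ1, add_zero] at h1
    exact h1
  have hZ3 : ∀ t u : K, G t u = G t 0 + G 0 u := by
    intro t u
    have h1 := (hhom t 0 0 u).2
    rw [add_zero, zero_add, mul_zero, add_zero, hZ1, mul_zero, add_zero] at h1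
    exact h1
  set a := F 1 0 with ha
  have hF : ∀ t u : K, F t u = a * t := by
    intro t u
    rw [hZ2]
    by_cases ht : t = 0
    · rw [ht, hZ0.1, mul_zero]
    · have h1 := (hequiv t ht 1 0).1
      rw [mul_one, mul_zero] at h1
      rw [h1, mul_comm]
  have hφ : ∀ v : K, G 0 v = a ^ (2 ^ m + 1) * v := by
    intro v
    obtain ⟨t, rfl⟩ := pow_theta_succ_surj m hK v
    rw [hSQ t 0, hF, mul_pow]
  -- the remaining part vanishes
  have hγadd : ∀ t t' : K, G (t + t') 0 = G t 0 + G t' 0 := by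
    intro t t'
    have h1 := (hhom t 0 t' 0).2
    rw [add_zero, zero_add, hZ3, hφ, hF, hF, mul_pow] at h1
    have e : a ^ (2 ^ m + 1) * (t ^ 2 ^ m * t') = a ^ 2 ^ m * t ^ 2 ^ m * (a * t') := by
      rw [pow_succ]; ring
    rw [e] at h1
    exact add_right_cancel h1
  have hγ : ∀ t : K, G t 0 = 0 := by
    obtain ⟨τ, hτ0, hτ1⟩ := exists_ne_zero_one m hm hK
    have hne := pow_theta_ne m hK τ hτ0 hτ1
    have hγc : ∀ c : K, c ≠ 0 → G c 0 = c ^ (2 ^ m + 1) * G 1 0 := by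
      intro c hc
      have h1 := (hequiv c hc 1 0).2
      rwa [mul_one, mul_zero] at h1
    have hτ1' : τ + 1 ≠ 0 := add_one_ne τ hτ1
    have h1 := hγadd τ 1
    rw [hγc _ hτ1', hγc _ hτ0] at h1
    have e : (τ + 1) ^ (2 ^ m + 1) = τ ^ (2 ^ m + 1) + τ ^ 2 ^ m + τ + 1 := by
      rw [pow_succ, hθ.add, one_pow, pow_succ]; ring
    rw [e] at h1
    have h2 : (τ ^ 2 ^ m + τ) * G 1 0 = 0 := by linear_combination h1
    have h3 : τ ^ 2 ^ m + τ ≠ 0 := fun h => hne (CharTwo.add_eq_zero.mp h)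
    have hb : G 1 0 = 0 := (mul_eq_zero.mp h2).resolve_left h3
    intro t
    by_cases ht : t = 0
    · rw [ht, hZ0.2]
    · rw [hγc t ht, hb, mul_zero]
  have ha0 : a ≠ 0 := by
    intro h
    have h1 := hFG 1 0
    rw [hF, h, zero_mul, hγ, clsP_zero_zero hθ] at h1
    have h2 := ex_eq_one β (clsP_mem_tF4 _ 1 0) h1
    rw [← clsP_zero_zero hθ] at h2
    exact one_ne_zero (clsP_inj _ _ _ _ _ h2).1
  refine ⟨a, ha0, ?_⟩
  intro t u
  rw [hFG, hF, hZ3, hγ, zero_add, hφ]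

theorem norm_exp (m : ℕ) (hK : Fintype.card K = 2 ^ (2 * m + 1)) (a : K) (ha : a ≠ 0) :
    ((((((a ^ (4 * 2 ^ m + 3))⁻¹) ^ 2) ^ 2 ^ m) ^ 2)⁻¹ * (((a ^ (4 * 2 ^ m + 3))⁻¹) ^ 2) ^ 2 *
      ((a ^ (4 * 2 ^ m + 3))⁻¹)⁻¹) * a = 1 := by
  have hθ := thetaHyp2_of_card (K := K) m hK
  set b := a ^ (4 * 2 ^ m + 3) with hb
  have hb0 : b ≠ 0 := pow_ne_zero _ ha
  have h16 : a ^ (16 * (2 ^ m * 2 ^ m)) = a ^ 8 := by
    have h1 : a ^ (2 ^ m * (2 * 2 ^ m)) = a := by rw [pow_mul]; exact hθ.inv a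
    have e : 16 * (2 ^ m * 2 ^ m) = (2 ^ m * (2 * 2 ^ m)) * 8 := by ring
    rw [e, pow_mul, h1]
  have key : b ^ (4 * 2 ^ m) * b * a = b ^ 4 := by
    rw [← pow_succ, hb, ← pow_mul, ← pow_succ, ← pow_mul]
    have e1 : (4 * 2 ^ m + 3) * (4 * 2 ^ m + 1) + 1 = 16 * (2 ^ m * 2 ^ m) + (16 * 2 ^ m + 4) := by ring
    have e2 : (4 * 2 ^ m + 3) * 4 = 8 + (16 * 2 ^ m + 4) := by ring
    rw [e1, e2, pow_add, h16, ← pow_add]
  simp only [inv_pow, inv_inv]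
  have e3 : ((b ^ 2) ^ 2 ^ m) ^ 2 = b ^ (4 * 2 ^ m) := by
    rw [← pow_mul, ← pow_mul]
    congr 1
    ring
  have e4 : (b ^ 2) ^ 2 = b ^ 4 := by rw [← pow_mul]
  rw [e3, e4, ← key]
  field_simp

/-- normalization on the second class -/
theorem f4_step6 (m : ℕ) (hm : 1 ≤ m) (hK : Fintype.card K = 2 ^ (2 * m + 1)) (β : MulAut ↥(tF4 K (2 ^ m)))
    (hU : Pres β (cdF4.D.posUnipotent K ⊓ tF4 K (2 ^ m)))
    (hV : Pres β (cdF4.D.negUnipotent K ⊓ tF4 K (2 ^ m)))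
    (hP : ∀ t : K, ex β (pairP (2 ^ m) t) = pairP (2 ^ m) t)
    (hN : ∀ t : K, ex β (pairN (2 ^ m) t) = pairN (2 ^ m) t) :
    ∃ γ ∈ f4IF K m, Pres (γ * β) (cdF4.D.posUnipotent K ⊓ tF4 K (2 ^ m)) ∧
      Pres (γ * β) (cdF4.D.negUnipotent K ⊓ tF4 K (2 ^ m)) ∧
      (∀ t : K, ex (γ * β) (pairP (2 ^ m) t) = pairP (2 ^ m) t) ∧
      (∀ t : K, ex (γ * β) (pairN (2 ^ m) t) = pairN (2 ^ m) t) ∧
      (∀ t u : K, ex (γ * β) (clsP (2 ^ m) t u) = clsP (2 ^ m) t u) := by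
  have hθ := thetaHyp2_of_card (K := K) m hK
  have hθ0 : (2 : ℕ) ^ m ≠ 0 := pow_ne_zero _ (by norm_num)
  obtain ⟨a, ha0, hcls⟩ := f4_step6_form m hm hK β hU hV hP hN
  set s : K := (a ^ (4 * 2 ^ m + 3))⁻¹ with hs
  have hs0 : s ≠ 0 := inv_ne_zero (pow_ne_zero _ ha0)
  have hs2 : s ^ 2 ≠ 0 := pow_ne_zero _ hs0
  set β' := MulAut.conj (hFixG m hK s (s ^ 2) hs0 hs2) * β with hβ'
  obtain ⟨hU', hV'⟩ := hFixG_pres m hK s (s ^ 2) hs0 hs2 β hU hV
  have hexβ' : ∀ g ∈ tF4 K (2 ^ m), ex β' g =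
      hFix (2 ^ m) s (s ^ 2) * ex β g * (hFix (2 ^ m) s (s ^ 2))⁻¹ := by
    intro g hg
    rw [hβ', ex_mul_aut _ _ hg, ex_conj _ (ex_mem β hg)]
    rfl
  have hP' : ∀ t : K, ex β' (pairP (2 ^ m) t) = pairP (2 ^ m) t := by
    intro t
    rw [hexβ' _ (pairP_mem_tF4 _ t), hP, hFix_conj_pairP_gen m s (s ^ 2) hs0 hs2, mul_inv_cancel₀ hs2, one_mul]
  have hN' : ∀ t : K, ex β' (pairN (2 ^ m) t) = pairN (2 ^ m) t := by
    have h2 := fun t => f4_pres_pairN m hK β' hU' hV' t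
    choose g hg using h2
    obtain ⟨ψ, hψf, hψg⟩ := sl2_aut_field β' (fun t : K => pairP (2 ^ m) t) (fun t : K => pairN (2 ^ m) t)
      (rel_pair hθ hθ0) (fun t => pairP_mem_tF4 _ t) (fun t => pairN_mem_tF4 _ t)
      (cdF4.D.posUnipotent K) (cdF4.D.negUnipotent K) (pos_inf_neg atHypF4) (fun t => pairP_mem_pos _ t)
      (fun t => pairN_mem_neg _ t) (fun t t' h => pairP_inj _ t t' h) (fun t t' h => pairN_inj _ t t' h)
      (fun t => t) g hP' hg rfl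
    intro t
    rw [hg, hψg, ← hψf]
  obtain ⟨a', ha'0, hcls'⟩ := f4_step6_form m hm hK β' hU' hV' hP' hN'
  have ha'1 : a' = 1 := by
    have h1 := hcls' 1 0
    rw [hexβ' _ (clsP_mem_tF4 _ 1 0), hcls, hFix_conj_clsP_gen m hK s (s ^ 2) hs0 hs2] at h1
    have h2 := (clsP_inj _ _ _ _ _ h1).1
    rw [mul_one, mul_one] at h2
    rw [← h2, hs]
    exact norm_exp m hK a ha0
  refine ⟨MulAut.conj (hFixG m hK s (s ^ 2) hs0 hs2), conj_mem_f4IF m _, hU', hV', hP', hN', ?_⟩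
  intro t u
  rw [hcls', ha'1, one_mul, one_pow, one_mul]

end

end Cfsg.Agent.Lib.Helper3.RF4
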