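import Mathlib
import Cfsg.Prelude.Def_ChevStructure
import Cfsg.Prelude.Def_KGroupFacts
import Cfsg.Agent.Lib.Helper3.F4Out7
import Cfsg.Agent.Lib.Helper3.ChevL2
import Cfsg.Agent.Lib.Helper3.ChevData.F4Levi
set_option autoImplicit false
set_option linter.unusedSectionVars false
set_option linter.style.haveILetI false
set_option maxRecDepth 1000000
open Cfsg Cfsg.Lie

/-!
Automorphisms of the twisted groups of type F4, part 8: the rank one subgroup of the second class; an automorphism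
fixing the root subgroup of the second class elementwise and preserving the opposite root subgroup fixes the
latter elementwise.
-/

namespace Cfsg.Agent.Lib.Helper3.RF4

open Cfsg.Agent.Lib.Helper3.ChevM Cfsg.Agent.Lib.Helper3.ChevSp Cfsg.Agent.Lib.Helper3.ChevAt
open Cfsg.Agent.Lib.Helper3 ChevU ChevT
open Cfsg.Agent.Lib.Helper3.ChevAut Cfsg.Agent.Lib.Helper3.TwAut Cfsg.Agent.Lib.Helper1

section
variable {G₀ : Type*} [Group G₀] {Γ : Subgroup G₀}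

/-- An automorphism fixing a subgroup `A` elementwise and preserving an opposite subgroup `A'` fixes `A'`
elementwise, when the nontrivial elements of `A'` lie in `A m A` for elements `m` interchanging `A` and `A'`. -/
theorem fix_opp_of_decomp (β : MulAut ↥Γ) (A A' : Subgroup G₀) (hA : A ≤ Γ) (_hA' : A' ≤ Γ) (hAA' : A ⊓ A' = ⊥)
    (hAne : A ≠ ⊥) (h1 : ∀ a ∈ A, ex β a = a) (h2 : ∀ y ∈ A', ex β y ∈ A')
    (h3 : ∀ y ∈ A', y ≠ 1 → ∃ a ∈ A, ∃ m ∈ Γ, ∃ a₂ ∈ A, y = a * m * a₂ ∧ (∀ p ∈ A, m * p * m⁻¹ ∈ A') ∧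
      (∀ q ∈ A', ∃ p ∈ A, m * p * m⁻¹ = q)) :
    ∀ y ∈ A', ex β y = y := by
  intro y hy
  by_cases hy1 : y = 1
  · rw [hy1, ex_one]
  obtain ⟨a, ha, m, hm, a₂, ha₂, e, hm1, hm2⟩ := h3 y hy hy1
  have hy' : ex β y ∈ A' := h2 y hy
  have em' : ex β y = a * ex β m * a₂ := by
    conv_lhs => rw [e]
    rw [ex_mul β (Subgroup.mul_mem _ (hA ha) hm) (hA ha₂), ex_mul β (hA ha) hm, h1 a ha, h1 a₂ ha₂]
  have hm'1 : ∀ p ∈ A, ex β m * p * (ex β m)⁻¹ ∈ A' := by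
    intro p hp
    have h4 := h2 _ (hm1 p hp)
    rwa [ex_conj_mul β hm (hA hp), h1 p hp] at h4
  -- the element `z = y⁻¹ β(y)`
  have hz : ∀ p ∈ A, (y⁻¹ * ex β y) * p * (y⁻¹ * ex β y)⁻¹ ∈ A := by
    intro p hp
    have hp₁ : a₂ * p * a₂⁻¹ ∈ A := Subgroup.mul_mem _ (Subgroup.mul_mem _ ha₂ hp) (Subgroup.inv_mem _ ha₂)
    obtain ⟨p₂, hp₂, e₂⟩ := hm2 _ (hm'1 _ hp₁)
    have e3 : (y⁻¹ * ex β y) * p * (y⁻¹ * ex β y)⁻¹ = a₂⁻¹ * p₂ * a₂ := by
      have e4 : p₂ = m⁻¹ * (ex β m * (a₂ * p * a₂⁻¹) * (ex β m)⁻¹) * m := by rw [← e₂]; group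
      rw [e4, em']
      conv_lhs => rw [e]
      group
    rw [e3]
    exact Subgroup.mul_mem _ (Subgroup.mul_mem _ (Subgroup.inv_mem _ ha₂) hp₂) ha₂
  have hzA' : y⁻¹ * ex β y ∈ A' := Subgroup.mul_mem _ (Subgroup.inv_mem _ hy) hy'
  by_contra hne
  have hz1 : y⁻¹ * ex β y ≠ 1 := by
    intro h
    exact hne (inv_mul_eq_one.mp h).symm
  obtain ⟨b, hb, m₂, -, b₂, hb₂, ez, hm₂1, -⟩ := h3 _ hzA' hz1
  apply hAne
  rw [eq_bot_iff]
  intro p hp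
  rw [Subgroup.mem_bot]
  have h5 : m₂ * p * m₂⁻¹ ∈ A := by
    have hp₁ : b₂⁻¹ * p * b₂ ∈ A := Subgroup.mul_mem _ (Subgroup.mul_mem _ (Subgroup.inv_mem _ hb₂) hp) hb₂
    have h6 := hz _ hp₁
    have e5 : m₂ * p * m₂⁻¹ = b⁻¹ * ((y⁻¹ * ex β y) * (b₂⁻¹ * p * b₂) * (y⁻¹ * ex β y)⁻¹) * b := by
      rw [ez]; group
    rw [e5]
    exact Subgroup.mul_mem _ (Subgroup.mul_mem _ (Subgroup.inv_mem _ hb) h6) hb
  have h7 : m₂ * p * m₂⁻¹ ∈ A ⊓ A' := ⟨h5, hm₂1 p hp⟩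
  rw [hAA', Subgroup.mem_bot] at h7
  exact conj_eq_one_iff.mp h7

end

/-- the fundamental roots of the second class -/
def J12 : Set ℕ := {1, 2}

theorem inRootSub_J12 (r : ℕ) (hr : r < 48) (h0 : (cdF4.D.coroot.getD r #[]).getD 0 0 = 0)
    (h3 : (cdF4.D.coroot.getD r #[]).getD 3 0 = 0) : cdF4.D.InRootSub J12 r := by
  refine ⟨hr, ?_⟩
  intro i hi hiJ
  have hi4 : i < 4 := hi
  interval_cases i
  · exact h0
  · exact (hiJ (by simp [J12])).elim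
  · exact (hiJ (by simp [J12])).elim
  · exact h3

theorem not_inRootSub_J12 (r : ℕ) (h : (cdF4.D.coroot.getD r #[]).getD 0 0 ≠ 0 ∨
    (cdF4.D.coroot.getD r #[]).getD 3 0 ≠ 0) : ¬ cdF4.D.InRootSub J12 r := by
  rintro ⟨-, h2⟩
  rcases h with h | h
  · exact h (h2 0 (by decide) (by simp [J12]))
  · exact h (h2 3 (by decide) (by simp [J12]))

theorem f4_cls_inRootSub : ∀ r ∈ [27, 25, 28, 30, 20, 22, 19, 17], r < 48 ∧
    (cdF4.D.coroot.getD r #[]).getD 0 0 = 0 ∧ (cdF4.D.coroot.getD r #[]).getD 3 0 = 0 := by decide +kernel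

theorem f4_alt7_radical : ∀ r ∈ negSet cdF4.D relF4.refl (altWord 7), r < 48 ∧
    cdF4.D.IsPosRoot (reflW relF4.refl wJ2 r) ∧
    ((cdF4.D.coroot.getD (reflW relF4.refl wJ2 r) #[]).getD 0 0 ≠ 0 ∨
      (cdF4.D.coroot.getD (reflW relF4.refl wJ2 r) #[]).getD 3 0 ≠ 0) := by decide +kernel

theorem f4_alt8'_neg : ∀ r, cdF4.D.IsPosRoot r → cdF4.D.IsNegRoot (reflW relF4.refl (altWord' 8) r) := by
  intro r hr
  have h1 : r < 48 := hr.1
  revert hr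
  revert r
  decide +kernel

theorem f4_wJ2_invol : ∀ r < 48, reflW relF4.refl wJ2 (reflW relF4.refl wJ2 r) = r := by decide +kernel

section
variable {K : Type*} [Field K] [Fintype K] [CharP K 2]

theorem xU_mem_levi (r : ℕ) (hr : r ∈ [27, 25, 28, 30, 20, 22, 19, 17]) (c : K) :
    relF4.xU r c ∈ cdF4.D.leviSubgroup K J12 := by
  obtain ⟨h1, h2, h3⟩ := f4_cls_inRootSub r hr
  exact Subgroup.mem_sup_right (Subgroup.subset_closure ⟨r, c, inRootSub_J12 r h1 h2 h3, relF4.xU_val r c⟩)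

theorem clsP_mem_levi (θ : ℕ) (t u : K) : clsP θ t u ∈ cdF4.D.leviSubgroup K J12 := by
  rw [clsP_eq]
  exact Subgroup.mul_mem _ (Subgroup.mul_mem _ (Subgroup.mul_mem _ (xU_mem_levi 27 (by simp) _)
    (xU_mem_levi 25 (by simp) _)) (xU_mem_levi 28 (by simp) _)) (xU_mem_levi 30 (by simp) _)

theorem clsN_mem_levi (θ : ℕ) (t u : K) : clsN θ t u ∈ cdF4.D.leviSubgroup K J12 := by
  rw [clsN_eq]
  exact Subgroup.mul_mem _ (Subgroup.mul_mem _ (Subgroup.mul_mem _ (xU_mem_levi 20 (by simp) _)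
    (xU_mem_levi 22 (by simp) _)) (xU_mem_levi 19 (by simp) _)) (xU_mem_levi 17 (by simp) _)

theorem nWordU_wJ2_mem_levi : relF4.nWordU (F := K) wJ2 ∈ cdF4.D.leviSubgroup K J12 := by
  rw [nWordU_wJ2 1 one_ne_zero]
  exact Subgroup.mul_mem _ (Subgroup.mul_mem _ (Subgroup.mul_mem _ (Subgroup.mul_mem _ (clsP_mem_levi _ _ _)
    (clsN_mem_levi _ _ _)) (clsP_mem_levi _ _ _)) (clsN_mem_levi _ _ _)) (clsP_mem_levi _ _ _)

/-- the elements of `U` in the Levi subgroup of the second class lie in the product of the root subgroups of the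
class -/
theorem f4_levi_inf_pos (u : GL cdF4.D.Idx K) (hu : u ∈ cdF4.D.posUnipotent K)
    (huL : u ∈ cdF4.D.leviSubgroup K J12) : u ∈ uMinus cdF4.D K (relF4.nWordU (F := K) wJ2) := by
  have hl8 := altWord'_lt 8
  have hl7 := altWord_lt 7
  have hl2 : ∀ i ∈ wJ2, i < cdF4.D.rank := by decide
  have hmap := map_conj_pos_eq_neg (K := K) atHypF4 1 (Subgroup.one_mem _) (altWord' 8) hl8 f4_alt8'_neg
  rw [one_mul] at hmap
  have hu8 : u ∈ uMinus cdF4.D K (relF4.nWordU (F := K) (altWord' 8)) := by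
    rw [mem_uMinus_iff atHypF4 _ hl8]
    refine ⟨hu, ?_⟩
    rw [← hmap]
    exact ⟨u, hu, rfl⟩
  rw [(altWord_succ_eq 7 (by norm_num)).2] at hu8
  obtain ⟨x, hx, y, hy, e⟩ := uMinus_factor atHypF4 (altWord 7) wJ2 hl7 hl2 (alt_addCheck 7 (by norm_num)).2.2.1 u hu8
  -- `x` lies in the Levi subgroup
  have hxL : x ∈ cdF4.D.leviSubgroup K J12 := by
    have key := uhypF4.uMinus_eq (F := K) bnF4 f4NegTri f4Sign 1 (Subgroup.one_mem _) wJ2 hl2
    rw [one_mul, negSet_wJ2] at key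
    have hx' : x ∈ (uMinus cdF4.D K (relF4.nWordU (F := K) wJ2) : Set (GL cdF4.D.Idx K)) := hx
    rw [key] at hx'
    obtain ⟨t, rfl⟩ := hx'
    unfold RootSys.lprod
    apply Subgroup.list_prod_mem
    intro z hz
    obtain ⟨r, hr, rfl⟩ := List.mem_map.mp hz
    apply xU_mem_levi r _ _
    simp only [List.mem_cons, List.not_mem_nil, or_false] at hr ⊢
    rcases hr with rfl | rfl | rfl | rfl <;> simp
  -- the second factor lies in the unipotent radical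
  have hzR : (relF4.nWordU (F := K) wJ2)⁻¹ * y * relF4.nWordU (F := K) wJ2 ∈ cdF4.D.unipotentRadical K J12 := by
    have key := uhypF4.uMinus_eq (F := K) bnF4 f4NegTri f4Sign 1 (Subgroup.one_mem _) (altWord 7) hl7
    rw [one_mul] at key
    have hy' : y ∈ (uMinus cdF4.D K (relF4.nWordU (F := K) (altWord 7)) : Set (GL cdF4.D.Idx K)) := hy
    rw [key] at hy'
    obtain ⟨t, rfl⟩ := hy'
    have hmem : RootSys.lprod (fun r (t : K) => relF4.xU r t) (negSet cdF4.D relF4.refl (altWord 7)) t ∈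
        (cdF4.D.unipotentRadical K J12).comap (MulAut.conj (relF4.nWordU (F := K) wJ2)⁻¹).toMonoidHom := by
      unfold RootSys.lprod
      apply Subgroup.list_prod_mem
      intro z hz
      obtain ⟨r, hr, rfl⟩ := List.mem_map.mp hz
      obtain ⟨h1, h2, h3⟩ := f4_alt7_radical r hr
      rw [Subgroup.mem_comap]
      show MulAut.conj (relF4.nWordU (F := K) wJ2)⁻¹ (relF4.xU r (t r)) ∈ _
      rw [MulAut.conj_apply, inv_inv]
      have c1 := conj_word_xU2 (K := K) wJ2 hl2 (reflW relF4.refl wJ2 r) h2.1 (t r)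
      rw [f4_wJ2_invol r h1] at c1
      have e2 : (relF4.nWordU (F := K) wJ2)⁻¹ * relF4.xU r (t r) * relF4.nWordU (F := K) wJ2 =
          relF4.xU (reflW relF4.refl wJ2 r) (t r) := by
        rw [← c1]; group
      rw [e2]
      exact Subgroup.subset_closure ⟨_, t r, h2, not_inRootSub_J12 _ h3, relF4.xU_val _ _⟩
    rw [Subgroup.mem_comap] at hmem
    have hmem' : MulAut.conj (relF4.nWordU (F := K) wJ2)⁻¹
        (RootSys.lprod (fun r (t : K) => relF4.xU r t) (negSet cdF4.D relF4.refl (altWord 7)) t) ∈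
        cdF4.D.unipotentRadical K J12 := hmem
    rwa [MulAut.conj_apply, inv_inv] at hmem'
  have hzL : (relF4.nWordU (F := K) wJ2)⁻¹ * y * relF4.nWordU (F := K) wJ2 ∈ cdF4.D.leviSubgroup K J12 := by
    have e2 : (relF4.nWordU (F := K) wJ2)⁻¹ * y * relF4.nWordU (F := K) wJ2 = x⁻¹ * u := by rw [e]; group
    rw [e2]
    exact Subgroup.mul_mem _ (Subgroup.inv_mem _ hxL) huL
  have hz1 : (relF4.nWordU (F := K) wJ2)⁻¹ * y * relF4.nWordU (F := K) wJ2 ∈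
      cdF4.D.unipotentRadical K J12 ⊓ cdF4.D.leviSubgroup K J12 := ⟨hzR, hzL⟩
  rw [leviF4.inf_eq_bot (F := K) J12, Subgroup.mem_bot] at hz1
  rw [e, hz1, mul_one]
  exact hx

/-- the root subgroup of the second class -/
def clsPGrp (m : ℕ) (hK : Fintype.card K = 2 ^ (2 * m + 1)) : Subgroup (GL cdF4.D.Idx K) where
  carrier := {g | ∃ t u : K, g = clsP (2 ^ m) t u}
  mul_mem' := by
    rintro _ _ ⟨t, u, rfl⟩ ⟨t', u', rfl⟩
    exact ⟨_, _, clsP_mul (thetaHyp2_of_card m hK) t u t' u'⟩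
  one_mem' := ⟨0, 0, (clsP_zero_zero (thetaHyp2_of_card m hK)).symm⟩
  inv_mem' := by
    rintro _ ⟨t, u, rfl⟩
    exact ⟨_, _, clsP_inv (thetaHyp2_of_card m hK) (pow_ne_zero _ (by norm_num)) t u⟩

theorem mem_clsPGrp (m : ℕ) (hK : Fintype.card K = 2 ^ (2 * m + 1)) (g : GL cdF4.D.Idx K) :
    g ∈ clsPGrp m hK ↔ ∃ t u : K, g = clsP (2 ^ m) t u := Iff.rfl

/-- the root subgroup of the negative of the second class -/
def clsNGrp (m : ℕ) (hK : Fintype.card K = 2 ^ (2 * m + 1)) : Subgroup (GL cdF4.D.Idx K) :=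
  (clsPGrp m hK).map (MulAut.conj (relF4.nWordU (F := K) wJ2)).toMonoidHom

theorem mem_clsNGrp (m : ℕ) (hK : Fintype.card K = 2 ^ (2 * m + 1)) (g : GL cdF4.D.Idx K) :
    g ∈ clsNGrp m hK ↔ ∃ t u : K, g = clsN (2 ^ m) t u := by
  constructor
  · rintro ⟨_, ⟨t, u, rfl⟩, rfl⟩
    refine ⟨t, u, ?_⟩
    show MulAut.conj (relF4.nWordU (F := K) wJ2) (clsP (2 ^ m) t u) = _
    rw [MulAut.conj_apply, conj_wJ2_clsP]
  · rintro ⟨t, u, rfl⟩
    refine ⟨clsP (2 ^ m) t u, ⟨t, u, rfl⟩, ?_⟩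
    show MulAut.conj (relF4.nWordU (F := K) wJ2) (clsP (2 ^ m) t u) = _
    rw [MulAut.conj_apply, conj_wJ2_clsP]

/-- the diagonal elements of the twisted group normalize the root subgroup of the second class -/
theorem diag_conj_clsPGrp (m : ℕ) (hK : Fintype.card K = 2 ^ (2 * m + 1)) (h : GL cdF4.D.Idx K)
    (hh : h ∈ cdF4.D.diagonalSubgroup K ⊓ tF4 K (2 ^ m)) (p : GL cdF4.D.Idx K) (hp : p ∈ clsPGrp m hK) :
    h * p * h⁻¹ ∈ clsPGrp m hK := by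
  obtain ⟨s, τ, hs, hτ, rfl⟩ := (mem_diag_inf_tF4 m hK h).mp hh
  obtain ⟨t, u, rfl⟩ := hp
  exact ⟨_, _, hFix_conj_clsP_gen m hK s τ hs hτ t u⟩

/-- the diagonal elements of the twisted group normalize the root subgroup of the negative of the second class -/
theorem diag_conj_clsNGrp (m : ℕ) (hK : Fintype.card K = 2 ^ (2 * m + 1)) (h : GL cdF4.D.Idx K)
    (hh : h ∈ cdF4.D.diagonalSubgroup K ⊓ tF4 K (2 ^ m)) (q : GL cdF4.D.Idx K) (hq : q ∈ clsNGrp m hK) :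
    h * q * h⁻¹ ∈ clsNGrp m hK := by
  have hJ2 : wJ2 ∈ [wJ1, wJ2] := by simp
  have hnG := wJ_mem_tF4 (K := K) m wJ2 hJ2
  have hnN : relF4.nWordU (F := K) wJ2 ∈ cdF4.D.monomialSubgroup K := relF4.nWordU_mem wJ2 (wJ_lt wJ2 hJ2)
  obtain ⟨p, hp, rfl⟩ := hq
  have hh' : (relF4.nWordU (F := K) wJ2)⁻¹ * h * (relF4.nWordU (F := K) wJ2)⁻¹⁻¹ ∈
      cdF4.D.diagonalSubgroup K ⊓ tF4 K (2 ^ m) :=
    ⟨monoF4.conj_mem _ (Subgroup.inv_mem _ hnN) _ hh.1,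
      Subgroup.mul_mem _ (Subgroup.mul_mem _ (Subgroup.inv_mem _ hnG) hh.2) (Subgroup.inv_mem _ (Subgroup.inv_mem _ hnG))⟩
  have h1 := diag_conj_clsPGrp m hK _ hh' p hp
  refine ⟨_, h1, ?_⟩
  show MulAut.conj (relF4.nWordU (F := K) wJ2) _ = h * (MulAut.conj (relF4.nWordU (F := K) wJ2) p) * h⁻¹
  rw [MulAut.conj_apply, MulAut.conj_apply]
  group

theorem clsPGrp_inf_clsNGrp (m : ℕ) (hK : Fintype.card K = 2 ^ (2 * m + 1)) : clsPGrp m hK ⊓ clsNGrp m hK = ⊥ := by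
  rw [eq_bot_iff]
  rintro g ⟨h1, h2⟩
  rw [← pos_inf_neg (K := K) atHypF4]
  obtain ⟨t, u, rfl⟩ := h1
  refine ⟨clsP_mem_pos _ t u, ?_⟩
  obtain ⟨t', u', e⟩ := (mem_clsNGrp m hK _).mp h2
  rw [e]
  exact clsN_mem_neg _ t' u'

/-- the decomposition of the nontrivial elements of the root subgroup of the negative of the second class -/
theorem clsN_decomp (m : ℕ) (hK : Fintype.card K = 2 ^ (2 * m + 1)) (y : GL cdF4.D.Idx K) (hy : y ∈ clsNGrp m hK)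
    (hy1 : y ≠ 1) :
    ∃ a ∈ clsPGrp m hK, ∃ h ∈ cdF4.D.diagonalSubgroup K ⊓ tF4 K (2 ^ m), ∃ a₂ ∈ clsPGrp m hK,
      y = a * (h * relF4.nWordU (F := K) wJ2) * a₂ := by
  have hJ2 : wJ2 ∈ [wJ1, wJ2] := by simp
  have hnG := wJ_mem_tF4 (K := K) m wJ2 hJ2
  obtain ⟨t, u, rfl⟩ := (mem_clsNGrp m hK _).mp hy
  have hyG := clsN_mem_tF4 (K := K) (2 ^ m) t u
  have hyP : (⟨_, hyG⟩ : ↥(tF4 K (2 ^ m))) ∈ (f4BN m hK).parabolic {f4s m wJ2 hJ2} := by
    have hBP : (f4BN m hK).B ≤ (f4BN m hK).parabolic {f4s m wJ2 hJ2} := le_sup_left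
    have hsP : f4s m wJ2 hJ2 ∈ (f4BN m hK).parabolic {f4s m wJ2 hJ2} :=
      Subgroup.mem_sup_right (Subgroup.subset_closure rfl)
    have hxB : (⟨clsP (2 ^ m) t u, clsP_mem_tF4 _ t u⟩ : ↥(tF4 K (2 ^ m))) ∈ (f4BN m hK).B := by
      rw [f4BN_B, Subgroup.mem_subgroupOf]
      exact ⟨Subgroup.mem_sup_left (clsP_mem_pos _ t u), clsP_mem_tF4 _ t u⟩
    have e : (⟨_, hyG⟩ : ↥(tF4 K (2 ^ m))) =
        f4s m wJ2 hJ2 * ⟨clsP (2 ^ m) t u, clsP_mem_tF4 _ t u⟩ * (f4s m wJ2 hJ2)⁻¹ := by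
      apply Subtype.ext
      show clsN (2 ^ m) t u = relF4.nWordU (F := K) wJ2 * clsP (2 ^ m) t u * (relF4.nWordU (F := K) wJ2)⁻¹
      rw [conj_wJ2_clsP]
    rw [e]
    exact Subgroup.mul_mem _ (Subgroup.mul_mem _ hsP (hBP hxB)) (Subgroup.inv_mem _ hsP)
  have hbn := (relF4.borel_inf_neg (F := K) bnF4.dec bnF4.mono.tri f4NegTri).1
  rcases f4_parabolic_cases' m hK wJ2 hJ2 ⟨_, hyG⟩ hyP with hB | ⟨u₁, hu₁, h, hh, x, hx, e⟩
  · exfalso
    have h2 : clsN (2 ^ m) t u ∈ cdF4.D.borelSubgroup K ⊓ cdF4.D.negUnipotent K := ⟨hB, clsN_mem_neg _ t u⟩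
    rw [hbn, Subgroup.mem_bot] at h2
    exact hy1 h2
  · change clsN (2 ^ m) t u = u₁ * h * relF4.nWordU (F := K) wJ2 * x at e
    obtain ⟨t', u', rfl⟩ := (fixU_wJ2 m hK x).mp hx
    have hu₁L : u₁ ∈ cdF4.D.leviSubgroup K J12 := by
      have e2 : u₁ = clsN (2 ^ m) t u * (clsP (2 ^ m) t' u')⁻¹ * (relF4.nWordU (F := K) wJ2)⁻¹ * h⁻¹ := by
        rw [e]; group
      rw [e2]
      exact Subgroup.mul_mem _ (Subgroup.mul_mem _ (Subgroup.mul_mem _ (clsN_mem_levi _ _ _)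
        (Subgroup.inv_mem _ (clsP_mem_levi _ _ _))) (Subgroup.inv_mem _ nWordU_wJ2_mem_levi))
        (Subgroup.inv_mem _ (Subgroup.mem_sup_left hh.1))
    have hu₁M := f4_levi_inf_pos u₁ hu₁.1 hu₁L
    have hu₁F : u₁ ∈ (f4Tw (K := K) m).fixU wJ2 := ⟨hu₁M, (tF4_le_fixF m hK hu₁.2).2⟩
    obtain ⟨t'', u'', rfl⟩ := (fixU_wJ2 m hK u₁).mp hu₁F
    refine ⟨_, ⟨t'', u'', rfl⟩, h, hh, _, ⟨t', u', rfl⟩, ?_⟩
    rw [e]
    group

/-- an automorphism fixing the root subgroup of the second class elementwise and preserving the root subgroup of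
its negative fixes the latter elementwise -/
theorem f4_step7 (m : ℕ) (hK : Fintype.card K = 2 ^ (2 * m + 1)) (β : MulAut ↥(tF4 K (2 ^ m)))
    (h1 : ∀ t u : K, ex β (clsP (2 ^ m) t u) = clsP (2 ^ m) t u)
    (h2 : ∀ t u : K, ∃ t' u' : K, ex β (clsN (2 ^ m) t u) = clsN (2 ^ m) t' u') :
    ∀ t u : K, ex β (clsN (2 ^ m) t u) = clsN (2 ^ m) t u := by
  have hθ := thetaHyp2_of_card (K := K) m hK
  have hJ2 : wJ2 ∈ [wJ1, wJ2] := by simp
  have hnG := wJ_mem_tF4 (K := K) m wJ2 hJ2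
  have hnN : relF4.nWordU (F := K) wJ2 ∈ cdF4.D.monomialSubgroup K := relF4.nWordU_mem wJ2 (wJ_lt wJ2 hJ2)
  have key := fix_opp_of_decomp β (clsPGrp m hK) (clsNGrp m hK)
    (by rintro _ ⟨t, u, rfl⟩; exact clsP_mem_tF4 _ t u)
    (by
      intro g hg
      obtain ⟨t, u, rfl⟩ := (mem_clsNGrp m hK g).mp hg
      exact clsN_mem_tF4 _ t u)
    (clsPGrp_inf_clsNGrp m hK)
    (by
      intro h
      have h3 : clsP (2 ^ m) (0 : K) 1 ∈ clsPGrp m hK := ⟨0, 1, rfl⟩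
      rw [h, Subgroup.mem_bot] at h3
      exact clsP_zero_one_ne hθ h3)
    (by rintro _ ⟨t, u, rfl⟩; exact h1 t u)
    (by
      intro y hy
      obtain ⟨t, u, rfl⟩ := (mem_clsNGrp m hK y).mp hy
      obtain ⟨t', u', e⟩ := h2 t u
      rw [e]
      exact (mem_clsNGrp m hK _).mpr ⟨t', u', rfl⟩)
    (by
      intro y hy hy1
      obtain ⟨a, ha, h, hh, a₂, ha₂, e⟩ := clsN_decomp m hK y hy hy1
      refine ⟨a, ha, h * relF4.nWordU (F := K) wJ2, Subgroup.mul_mem _ hh.2 hnG, a₂, ha₂, e, ?_, ?_⟩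
      · intro p hp
        have h3 : relF4.nWordU (F := K) wJ2 * p * (relF4.nWordU (F := K) wJ2)⁻¹ ∈ clsNGrp m hK :=
          ⟨p, hp, rfl⟩
        have h4 := diag_conj_clsNGrp m hK h hh _ h3
        have e2 : h * relF4.nWordU (F := K) wJ2 * p * (h * relF4.nWordU (F := K) wJ2)⁻¹ =
            h * (relF4.nWordU (F := K) wJ2 * p * (relF4.nWordU (F := K) wJ2)⁻¹) * h⁻¹ := by group
        rw [e2]
        exact h4
      · intro q hq
        have hh' : h⁻¹ ∈ cdF4.D.diagonalSubgroup K ⊓ tF4 K (2 ^ m) := Subgroup.inv_mem _ hh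
        obtain ⟨p, hp, e3⟩ := diag_conj_clsNGrp m hK h⁻¹ hh' q hq
        refine ⟨p, hp, ?_⟩
        change relF4.nWordU (F := K) wJ2 * p * (relF4.nWordU (F := K) wJ2)⁻¹ = h⁻¹ * q * h⁻¹⁻¹ at e3
        have e2 : h * relF4.nWordU (F := K) wJ2 * p * (h * relF4.nWordU (F := K) wJ2)⁻¹ =
            h * (relF4.nWordU (F := K) wJ2 * p * (relF4.nWordU (F := K) wJ2)⁻¹) * h⁻¹ := by group
        rw [e2, e3]
        group)
  intro t u
  exact key _ ((mem_clsNGrp m hK _).mpr ⟨t, u, rfl⟩)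

end

end Cfsg.Agent.Lib.Helper3.RF4
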