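import Mathlib
import Cfsg.Prelude.Def_ChevStructure
import Cfsg.Prelude.Def_KGroupFacts
import Cfsg.Agent.Lib.Helper3.F4Out8
import Cfsg.Agent.Lib.Helper3.ChevAut14
set_option autoImplicit false
set_option linter.unusedSectionVars false
set_option linter.style.haveILetI false
set_option maxRecDepth 1000000
open Cfsg Cfsg.Lie

/-!
Automorphisms of the twisted groups of type F4, part 9: every automorphism is the product of an inner automorphism
and a field automorphism; the order of the group of outer automorphisms.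
-/

namespace Cfsg.Agent.Lib.Helper3.RF4

open Cfsg.Agent.Lib.Helper3.ChevM Cfsg.Agent.Lib.Helper3.ChevSp Cfsg.Agent.Lib.Helper3.ChevAt
open Cfsg.Agent.Lib.Helper3 ChevU ChevT
open Cfsg.Agent.Lib.Helper3.ChevAut Cfsg.Agent.Lib.Helper3.TwAut Cfsg.Agent.Lib.Helper1

section
variable {K : Type*} [Field K] [Fintype K] [CharP K 2]

/-- every automorphism lies in the group generated by the inner automorphisms and the field automorphisms -/
theorem f4_aut_mem (m : ℕ) (hm : 1 ≤ m) (hK : Fintype.card K = 2 ^ (2 * m + 1)) (α : MulAut ↥(tF4 K (2 ^ m))) :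
    α ∈ f4IF K m := by
  obtain ⟨a, hU₁, hV₁⟩ := f4_exists_conj_pres m hK α
  obtain ⟨γ₁, hγ₁, hU₂, hV₂, hP₂, hN₂⟩ := f4_step5 m hK _ hU₁ hV₁
  obtain ⟨γ₂, hγ₂, hU₃, hV₃, hP₃, hN₃, hC₃⟩ := f4_step6 m hm hK _ hU₂ hV₂ hP₂ hN₂
  have hCN := f4_step7 m hK _ hC₃ (fun t u => f4_pres_clsN m hK _ hU₃ hV₃ t u)
  have hβ1 : γ₂ * (γ₁ * (MulAut.conj a * α)) = 1 := by
    apply f4_aut_eq_of_gens
    · intro t; rw [hP₃, ex_one_aut]
    · intro t; rw [hN₃, ex_one_aut]
    · intro t u; rw [hC₃, ex_one_aut]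
    · intro t u; rw [hCN, ex_one_aut]
  have h1 : γ₂ * (γ₁ * (MulAut.conj a * α)) ∈ f4IF K m := by
    rw [hβ1]; exact Subgroup.one_mem _
  rw [Subgroup.mul_mem_cancel_left _ hγ₂, Subgroup.mul_mem_cancel_left _ hγ₁,
    Subgroup.mul_mem_cancel_left _ (conj_mem_f4IF m a)] at h1
  exact h1

/-- a field automorphism which is inner is trivial -/
theorem f4_fAut_inner (m : ℕ) (hK : Fintype.card K = 2 ^ (2 * m + 1)) (ψ : K ≃+* K) (y : ↥(tF4 K (2 ^ m)))
    (h : f4FAut (2 ^ m) ψ = MulAut.conj y) : ψ = 1 := by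
  obtain ⟨hFU, hFV⟩ := f4FAut_pres (K := K) (2 ^ m) ψ
  have hn₀G := f4_n0_mem (K := K) m
  have hn₀N : relF4.nWordU (F := K) (altWord 8) ∈ cdF4.D.monomialSubgroup K :=
    relF4.nWordU_mem _ (altWord_lt 8)
  have hconj : ∀ g ∈ tF4 K (2 ^ m), (y : GL cdF4.D.Idx K) * g * (y : GL cdF4.D.Idx K)⁻¹ = ex (f4FAut (2 ^ m) ψ) g := by
    intro g hg
    rw [h, ex_conj _ hg]
  -- `y` lies in the Borel subgroup
  have hyB : (y : GL cdF4.D.Idx K) ∈ cdF4.D.borelSubgroup K := by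
    apply f4_mem_borel_of_conj_pos m hK _ y.2
    intro u hu
    rw [hconj u hu.2]
    exact (hFU u hu).1
  -- and in the opposite Borel subgroup
  have hyB' : (relF4.nWordU (F := K) (altWord 8))⁻¹ * (y : GL cdF4.D.Idx K) * relF4.nWordU (F := K) (altWord 8) ∈
      cdF4.D.borelSubgroup K := by
    apply f4_mem_borel_of_conj_pos m hK _
      (Subgroup.mul_mem _ (Subgroup.mul_mem _ (Subgroup.inv_mem _ hn₀G) y.2) hn₀G)
    intro u hu
    have h1 := f4_n0_conj_pos m u hu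
    have h2 : (y : GL cdF4.D.Idx K) * (relF4.nWordU (F := K) (altWord 8) * u *
        (relF4.nWordU (F := K) (altWord 8))⁻¹) * (y : GL cdF4.D.Idx K)⁻¹ ∈
        cdF4.D.negUnipotent K ⊓ tF4 K (2 ^ m) := by
      rw [hconj _ h1.2]
      exact hFV _ h1
    obtain ⟨x, hx, e⟩ := f4_n0_conj_surj m _ h2
    have e2 : (relF4.nWordU (F := K) (altWord 8))⁻¹ * (y : GL cdF4.D.Idx K) * relF4.nWordU (F := K) (altWord 8) * u *
        ((relF4.nWordU (F := K) (altWord 8))⁻¹ * (y : GL cdF4.D.Idx K) * relF4.nWordU (F := K) (altWord 8))⁻¹ = x := by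
      have e3 : x = (relF4.nWordU (F := K) (altWord 8))⁻¹ * ((y : GL cdF4.D.Idx K) *
          (relF4.nWordU (F := K) (altWord 8) * u * (relF4.nWordU (F := K) (altWord 8))⁻¹) *
          (y : GL cdF4.D.Idx K)⁻¹) * relF4.nWordU (F := K) (altWord 8) := by
        rw [← e]; group
      rw [e3]; group
    rw [e2]
    exact hx.1
  have hyH : (y : GL cdF4.D.Idx K) ∈ cdF4.D.diagonalSubgroup K := by
    rw [← borel_inf_negBorel (K := K) atHypF4]
    refine ⟨hyB, ?_⟩
    have hmap := relF4.opposition_word (F := K) (altWord 8) (altWord 8) (altWord_lt 8) f4_opp8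
    have hle : (cdF4.D.borelSubgroup K).map (MulAut.conj (relF4.nWordU (F := K) (altWord 8))).toMonoidHom ≤
        negBorel cdF4.D K := by
      unfold ChevalleyDatum.borelSubgroup
      rw [Subgroup.map_sup, hmap]
      apply sup_le_sup le_rfl
      rintro _ ⟨t, ht, rfl⟩
      exact monoF4.conj_mem _ hn₀N t ht
    apply hle
    refine ⟨_, hyB', ?_⟩
    show MulAut.conj (relF4.nWordU (F := K) (altWord 8)) _ = _
    rw [MulAut.conj_apply]
    group
  obtain ⟨s, τ, hs, hτ, e⟩ := (mem_diag_inf_tF4 m hK _).mp ⟨hyH, y.2⟩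
  have key : ∀ t : K, ψ t = s ^ 2 * τ⁻¹ * t := by
    intro t
    have h1 := hconj _ (pairP_mem_tF4 (2 ^ m) t)
    rw [ex_f4FAut_pairP, e, hFix_conj_pairP_gen m s τ hs hτ] at h1
    exact (pairP_inj _ _ _ h1).symm
  have h1 := key 1
  rw [map_one, mul_one] at h1
  apply RingEquiv.ext
  intro t
  rw [key t, ← h1, one_mul]
  rfl

/-- the order of the group of outer automorphisms of the twisted groups of type `F₄` -/
theorem card_out_tF4 (m : ℕ) (hm : 1 ≤ m) (hK : Fintype.card K = 2 ^ (2 * m + 1)) :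
    Nat.card (Cfsg.Out ↥(tF4 K (2 ^ m))) = 2 * m + 1 := by
  haveI : Fact (Nat.Prime 2) := ⟨by norm_num⟩
  have hq : Nat.card K = 2 ^ (2 * m + 1) := by rw [Nat.card_eq_fintype_card, hK]
  rw [← card_ringAut_prime 2 hq]
  symm
  let Ψ : (K ≃+* K) →* Cfsg.Out ↥(tF4 K (2 ^ m)) :=
    (QuotientGroup.mk' (Cfsg.Inn ↥(tF4 K (2 ^ m)))).comp (f4FAutHom (K := K) (2 ^ m))
  apply Nat.card_congr
  apply Equiv.ofBijective Ψ
  constructor
  · rw [injective_iff_map_eq_one]
    intro σ hσ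
    have h1 : f4FAutHom (K := K) (2 ^ m) σ ∈ Cfsg.Inn ↥(tF4 K (2 ^ m)) := (QuotientGroup.eq_one_iff _).mp hσ
    obtain ⟨y, hy⟩ := h1
    exact f4_fAut_inner m hK σ y hy.symm
  · intro x
    obtain ⟨α, rfl⟩ := QuotientGroup.mk_surjective x
    have hα := f4_aut_mem m hm hK α
    have h2 : (QuotientGroup.mk' (Cfsg.Inn ↥(tF4 K (2 ^ m)))) α ∈
        (f4IF K m).map (QuotientGroup.mk' (Cfsg.Inn ↥(tF4 K (2 ^ m)))) := ⟨α, hα, rfl⟩
    unfold f4IF at h2
    rw [Subgroup.map_sup, QuotientGroup.map_mk'_self, bot_sup_eq] at h2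
    obtain ⟨_, ⟨σ, rfl⟩, e⟩ := h2
    exact ⟨σ, e⟩

end

end Cfsg.Agent.Lib.Helper3.RF4
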