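import Mathlib
import Cfsg.Prelude.Def_ChevStructure
import Cfsg.Prelude.Def_ChevF4
import Cfsg.Prelude.Def_LieTwisted
import Cfsg.Agent.Lib.Helper3.F4T11
import Cfsg.Agent.Lib.Helper3.ChevTw24
import Cfsg.Agent.Lib.Helper1.DihedralIso
set_option autoImplicit false
set_option linter.unusedSectionVars false
set_option linter.style.haveILetI false
set_option maxRecDepth 1000000
open Cfsg Cfsg.Lie

/-!
The Weyl group of the twisted group of type `F₄` is dihedral of order 16.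
-/

namespace Cfsg.Agent.Lib.Helper3.RF4

open Cfsg.Agent.Lib.Helper3.ChevM Cfsg.Agent.Lib.Helper3.ChevSp Cfsg.Agent.Lib.Helper3.ChevAt
open Cfsg.Agent.Lib.Helper3 ChevU

/-- the first generator as a word of indices -/
def om1 : List (Fin cdF4.D.rank) := [⟨0, by decide⟩, ⟨3, by decide⟩]

/-- the second generator as a word of indices -/
def om2 : List (Fin cdF4.D.rank) := [⟨1, by decide⟩, ⟨2, by decide⟩, ⟨1, by decide⟩, ⟨2, by decide⟩]

theorem lw_om1 : lw om1 = wJ1 := rfl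

theorem lw_om2 : lw om2 = wJ2 := rfl

theorem wp_pow_eq_one_iff (ω : List (Fin cdF4.D.rank)) (k : ℕ) :
    (Cox.wp monoF4.sW ω) ^ k = 1 ↔
      ∀ s < cdF4.D.nroots, reflW relF4.refl (List.replicate k (lw ω)).flatten s = s := by
  have e1 : (1 : monoF4.weyl) = Cox.wp monoF4.sW [] := rfl
  rw [monoF4.wp_pow, e1, monoF4.wp_sW_eq_iff, relF4.wperm_eq_iff _ _ (lw_lt _) (lw_lt _), lw_flatten_replicate]
  rfl

theorem orderOf_om1 : orderOf (Cox.wp monoF4.sW om1) = 2 :=
  monoF4.orderOf_wp om1 2 (by decide +kernel)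

theorem orderOf_om2 : orderOf (Cox.wp monoF4.sW om2) = 2 :=
  monoF4.orderOf_wp om2 2 (by decide +kernel)

theorem orderOf_om12 : orderOf (Cox.wp monoF4.sW om1 * Cox.wp monoF4.sW om2) = 8 := by
  rw [← Cox.wp_append]
  have h := orderOf_eq_prime_pow (x := Cox.wp monoF4.sW (om1 ++ om2)) (p := 2) (n := 2) ?_ ?_
  · exact h
  · rw [wp_pow_eq_one_iff]
    decide +kernel
  · rw [wp_pow_eq_one_iff]
    decide +kernel

section
variable {K : Type*} [Field K] [Fintype K] [CharP K 2]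

/-- the Weyl group of the twisted group is dihedral of order 16 -/
theorem f4_weyl_dihedral (m : ℕ) (hK : Fintype.card K = 2 ^ (2 * m + 1)) :
    ∃ φ : ↥(cdF4.D.monomialSubgroup K ⊓ tF4 K (2 ^ m)) →* DihedralGroup 8, Function.Surjective φ ∧
      φ.ker = (cdF4.D.diagonalSubgroup K ⊓ tF4 K (2 ^ m)).subgroupOf
        (cdF4.D.monomialSubgroup K ⊓ tF4 K (2 ^ m)) := by
  classical
  have hθ0 : (2 : ℕ) ^ m ≠ 0 := pow_ne_zero _ (by norm_num)
  obtain ⟨φ₀, -, hker₀, h3⟩ := monoF4.exists_weylHom (F := K) bnF4.dec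
  have hφ₀ := monoF4.weylHom_nWordU (F := K) φ₀ h3
  set x : monoF4.weyl := Cox.wp monoF4.sW om1 with hx
  set y : monoF4.weyl := Cox.wp monoF4.sW om2 with hy
  obtain ⟨e₀⟩ := Cfsg.Agent.Lib.Helper1.DihedralIso.closure_equiv_dihedral x y orderOf_om1 orderOf_om2
    (by rw [orderOf_om12]; norm_num)
  have e : ↥(Subgroup.closure ({x, y} : Set monoF4.weyl)) ≃* DihedralGroup 8 := by
    rw [orderOf_om12] at e₀
    exact e₀
  set Cl : Subgroup monoF4.weyl := Subgroup.closure ({x, y} : Set monoF4.weyl) with hCl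
  -- the elements of `N` mapped into the closure
  set T : Subgroup (GL cdF4.D.Idx K) := (Cl.comap φ₀).map (cdF4.D.monomialSubgroup K).subtype with hT
  have hTmem : ∀ (g : GL cdF4.D.Idx K) (hg : g ∈ cdF4.D.monomialSubgroup K), φ₀ ⟨g, hg⟩ ∈ Cl → g ∈ T := by
    intro g hg h
    exact ⟨⟨g, hg⟩, h, rfl⟩
  have hTout : ∀ g ∈ T, ∃ hg : g ∈ cdF4.D.monomialSubgroup K, φ₀ ⟨g, hg⟩ ∈ Cl := by
    rintro _ ⟨z, hz, rfl⟩
    exact ⟨z.2, hz⟩
  have hHT : cdF4.D.diagonalSubgroup K ≤ T := by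
    intro h hh
    have hhN : h ∈ cdF4.D.monomialSubgroup K := (le_sup_left : cdF4.D.diagonalSubgroup K ≤ _) hh
    apply hTmem h hhN
    have : (⟨h, hhN⟩ : ↥(cdF4.D.monomialSubgroup K)) ∈ φ₀.ker := by
      rw [hker₀, Subgroup.mem_subgroupOf]
      exact hh
    rw [MonoidHom.mem_ker] at this
    rw [this]
    exact Subgroup.one_mem _
  have h1T : relF4.nWordU (F := K) wJ1 ∈ T := by
    apply hTmem _ (relF4.nWordU_mem _ (lw_lt om1))
    have := hφ₀ om1
    rw [this]
    exact Subgroup.subset_closure (Or.inl rfl)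
  have h2T : relF4.nWordU (F := K) wJ2 ∈ T := by
    apply hTmem _ (relF4.nWordU_mem _ (lw_lt om2))
    have := hφ₀ om2
    rw [this]
    exact Subgroup.subset_closure (Or.inr rfl)
  have haltT : ∀ k, relF4.nWordU (F := K) (altWord k) ∈ T := by
    intro k
    induction k with
    | zero => exact Subgroup.one_mem _
    | succ k ih =>
      unfold altWord
      rw [relF4.nWordU_append]
      refine Subgroup.mul_mem _ ?_ ih
      split_ifs
      · exact h1T
      · exact h2T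
  have haltT' : ∀ k, relF4.nWordU (F := K) (altWord' k) ∈ T := by
    intro k
    induction k with
    | zero => exact Subgroup.one_mem _
    | succ k ih =>
      unfold altWord'
      rw [relF4.nWordU_append]
      refine Subgroup.mul_mem _ ?_ ih
      split_ifs
      · exact h2T
      · exact h1T
  have hNT : ∀ n ∈ cdF4.D.monomialSubgroup K ⊓ tF4 K (2 ^ m), n ∈ T := by
    rintro n ⟨hnN, hnT⟩
    obtain ⟨k, -, h, hh, -, e' | e'⟩ := fixed_monomial m hK n hnN (tF4_le_fixF m hK hnT).2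
    · rw [e']
      exact Subgroup.mul_mem _ (hHT hh) (haltT k)
    · rw [e']
      exact Subgroup.mul_mem _ (hHT hh) (haltT' k)
  -- the homomorphism
  let φ₁ : ↥(cdF4.D.monomialSubgroup K ⊓ tF4 K (2 ^ m)) →* monoF4.weyl :=
    φ₀.comp (Subgroup.inclusion inf_le_left)
  have hφ₁ : ∀ n, φ₁ n ∈ Cl := by
    intro n
    obtain ⟨hg, h⟩ := hTout n.1 (hNT n.1 n.2)
    exact h
  let φ₂ : ↥(cdF4.D.monomialSubgroup K ⊓ tF4 K (2 ^ m)) →* ↥Cl := φ₁.codRestrict Cl hφ₁
  refine ⟨e.toMonoidHom.comp φ₂, ?_, ?_⟩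
  · refine e.surjective.comp ?_
    intro z
    have hz : (z : monoF4.weyl) ∈ φ₁.range := by
      have hle : Cl ≤ φ₁.range := by
        rw [hCl, Subgroup.closure_le]
        rintro w (rfl | hw)
        · refine ⟨⟨relF4.nWordU (F := K) wJ1, relF4.nWordU_mem _ (lw_lt om1), nWordU_wJ1_mem _⟩, ?_⟩
          exact hφ₀ om1
        · rw [Set.mem_singleton_iff] at hw
          subst hw
          refine ⟨⟨relF4.nWordU (F := K) wJ2, relF4.nWordU_mem _ (lw_lt om2), nWordU_wJ2_mem _ hθ0⟩, ?_⟩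
          exact hφ₀ om2
      exact hle z.2
    obtain ⟨n, hn⟩ := hz
    exact ⟨n, Subtype.ext hn⟩
  · ext n
    rw [MonoidHom.mem_ker, Subgroup.mem_subgroupOf, MonoidHom.comp_apply]
    have h1 : e.toMonoidHom (φ₂ n) = 1 ↔ φ₂ n = 1 := MulEquiv.map_eq_one_iff e
    rw [h1]
    have h2 : φ₂ n = 1 ↔ φ₁ n = 1 := by
      constructor
      · intro h
        exact congrArg Subtype.val h
      · intro h
        exact Subtype.ext h
    rw [h2]
    have h4 : φ₁ n = 1 ↔ (Subgroup.inclusion inf_le_left n : ↥(cdF4.D.monomialSubgroup K)) ∈ φ₀.ker := by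
      rw [MonoidHom.mem_ker]
      rfl
    rw [h4, hker₀, Subgroup.mem_subgroupOf]
    constructor
    · intro h
      exact ⟨h, n.2.2⟩
    · intro h
      exact h.1

end

end Cfsg.Agent.Lib.Helper3.RF4
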