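import Mathlib
import Cfsg.Prelude
import Cfsg.Agent.Lib.Helper3.FEO0

set_option autoImplicit false

/-!
S5977 / S5978: the vector space structure over the quadratic extension `L = F(√ε)` defined by an
operator `S` with `S² = ε`, and the `L`-quadratic form attached to a self-adjoint `S`.
-/

namespace Cfsg.Agent.Lib.Helper3.FEO

open Module QuadraticMap

/-- the quadratic extension `F(√ε)` -/
abbrev LL (F : Type*) [Field F] (ε : F) : Type _ := QuadraticAlgebra F ε 0

theorem fact_nonsq {F : Type*} [Field F] {ε : F} (hε : ¬ IsSquare ε) :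
    Fact (∀ r : F, r ^ 2 ≠ ε + 0 * r) :=
  ⟨fun r h => hε ⟨r, by rw [← pow_two, h]; ring⟩⟩

section structure_

variable {F : Type*} [Field F] {V : Type*} [AddCommGroup V] [Module F V]

section aux

variable {ε : F} (S : V →ₗ[F] V) (hsq : ∀ v, S (S v) = ε • v)

theorem aux_one (v : V) : (1 : LL F ε).re • v + (1 : LL F ε).im • S v = v := by
  rw [QuadraticAlgebra.re_one, QuadraticAlgebra.im_one, one_smul, zero_smul, add_zero]

include hsq in
theorem aux_mul (z w : LL F ε) (v : V) :
    (z * w).re • v + (z * w).im • S v =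
      z.re • (w.re • v + w.im • S v) + z.im • S (w.re • v + w.im • S v) := by
  simp only [QuadraticAlgebra.re_mul, QuadraticAlgebra.im_mul, map_add, map_smul, hsq]
  module

theorem aux_smul_zero (z : LL F ε) : z.re • (0 : V) + z.im • S (0 : V) = 0 := by
  simp

theorem aux_smul_add (z : LL F ε) (u v : V) :
    z.re • (u + v) + z.im • S (u + v) = (z.re • u + z.im • S u) + (z.re • v + z.im • S v) := by
  simp only [map_add]
  module

theorem aux_add_smul (z w : LL F ε) (v : V) :
    (z + w).re • v + (z + w).im • S v = (z.re • v + z.im • S v) + (w.re • v + w.im • S v) := by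
  simp only [QuadraticAlgebra.re_add, QuadraticAlgebra.im_add]
  module

theorem aux_zero_smul (v : V) : (0 : LL F ε).re • v + (0 : LL F ε).im • S v = 0 := by
  simp

theorem aux_tower (a : F) (z : LL F ε) (v : V) :
    (a • z).re • v + (a • z).im • S v = a • (z.re • v + z.im • S v) := by
  simp only [QuadraticAlgebra.re_smul, QuadraticAlgebra.im_smul, smul_eq_mul]
  module

end aux

/-- a self-adjoint operator with square `ε`, bundled -/
structure JOp (Q : QuadraticForm F V) (ε : F) where
  S : V →ₗ[F] V
  isJ : IsJ Q ε S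

variable {Q : QuadraticForm F V} {ε : F}

/-- the space `V`, to be regarded as a vector space over `L` through `S` -/
def VS (_j : JOp Q ε) : Type _ := V

instance (j : JOp Q ε) : AddCommGroup (VS j) := inferInstanceAs (AddCommGroup V)

instance (j : JOp Q ε) : Module F (VS j) := inferInstanceAs (Module F V)

instance (j : JOp Q ε) [FiniteDimensional F V] : FiniteDimensional F (VS j) :=
  inferInstanceAs (FiniteDimensional F V)

instance (j : JOp Q ε) : SMul (LL F ε) (VS j) :=
  ⟨fun z v => (z.re • (show V from v) + z.im • j.S (show V from v) : V)⟩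

theorem VS_smul_def (j : JOp Q ε) (z : LL F ε) (v : V) :
    (z • (show VS j from v) : VS j) = (z.re • v + z.im • j.S v : V) := rfl

instance (j : JOp Q ε) : Module (LL F ε) (VS j) where
  one_smul v := aux_one j.S v
  mul_smul z w v := aux_mul j.S j.isJ.sq z w v
  smul_zero z := aux_smul_zero j.S z
  smul_add z u v := aux_smul_add j.S z u v
  add_smul z w v := aux_add_smul j.S z w v
  zero_smul v := aux_zero_smul j.S v

instance (j : JOp Q ε) : IsScalarTower F (LL F ε) (VS j) where
  smul_assoc a z v := aux_tower j.S a z v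

theorem VS_omega_smul (j : JOp Q ε) (v : V) :
    ((QuadraticAlgebra.omega : LL F ε) • (show VS j from v) : VS j) = j.S v := by
  rw [VS_smul_def, QuadraticAlgebra.omega_re, QuadraticAlgebra.omega_im, zero_smul, one_smul,
    zero_add]

/-! ### the `L`-bilinear form -/

section form

variable {Q : QuadraticForm F V} {ε : F} {S : V →ₗ[F] V}

/-- the `L`-valued form `⟨B(Su,v), B(u,v)⟩` -/
def BSfun (Q : QuadraticForm F V) (ε : F) (S : V →ₗ[F] V) (u v : V) : LL F ε :=
  ⟨polar (⇑Q) (S u) v, polar (⇑Q) u v⟩

theorem BSfun_add_left (u₁ u₂ v : V) :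
    BSfun Q ε S (u₁ + u₂) v = BSfun Q ε S u₁ v + BSfun Q ε S u₂ v := by
  unfold BSfun
  ext
  · simp only [map_add, polar_add_left, QuadraticAlgebra.re_add]
  · simp only [polar_add_left, QuadraticAlgebra.im_add]

theorem BSfun_add_right (u v₁ v₂ : V) :
    BSfun Q ε S u (v₁ + v₂) = BSfun Q ε S u v₁ + BSfun Q ε S u v₂ := by
  unfold BSfun
  ext
  · simp only [polar_add_right, QuadraticAlgebra.re_add]
  · simp only [polar_add_right, QuadraticAlgebra.im_add]

theorem BSfun_smul_left (hS : IsJ Q ε S) (z : LL F ε) (u v : V) :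
    BSfun Q ε S (z.re • u + z.im • S u) v = z * BSfun Q ε S u v := by
  unfold BSfun
  ext
  · simp only [map_add, map_smul, hS.sq]
    simp only [polar_add_left, polar_smul_left, smul_eq_mul, QuadraticAlgebra.re_mul]
    ring
  · simp only [polar_add_left, polar_smul_left, smul_eq_mul, QuadraticAlgebra.im_mul]
    ring

theorem BSfun_smul_right (hS : IsJ Q ε S) (z : LL F ε) (u v : V) :
    BSfun Q ε S u (z.re • v + z.im • S v) = z * BSfun Q ε S u v := by
  unfold BSfun
  ext
  · simp only [polar_add_right, polar_smul_right, smul_eq_mul, QuadraticAlgebra.re_mul]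
    rw [hS.adj u (S v), hS.sq, polar_smul_right, smul_eq_mul]
    ring
  · simp only [polar_add_right, polar_smul_right, smul_eq_mul, QuadraticAlgebra.im_mul,
      ← hS.adj u v]
    ring

theorem BSfun_symm (hS : IsJ Q ε S) (u v : V) : BSfun Q ε S u v = BSfun Q ε S v u := by
  unfold BSfun
  ext
  · show polar (⇑Q) (S u) v = polar (⇑Q) (S v) u
    rw [hS.adj u v, polar_comm]
  · show polar (⇑Q) u v = polar (⇑Q) v u
    rw [polar_comm]

end form

/-- the `L`-bilinear form on `VS j` -/
def BS (j : JOp Q ε) : LinearMap.BilinForm (LL F ε) (VS j) :=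
  LinearMap.mk₂ (LL F ε) (fun u v => BSfun Q ε j.S u v)
    (fun u₁ u₂ v => BSfun_add_left u₁ u₂ v)
    (fun z u v => BSfun_smul_left j.isJ z u v)
    (fun u v₁ v₂ => BSfun_add_right u v₁ v₂)
    (fun z u v => BSfun_smul_right j.isJ z u v)

theorem BS_apply (j : JOp Q ε) (u v : V) :
    BS j (show VS j from u) (show VS j from v) = BSfun Q ε j.S u v := rfl

theorem BS_symm (j : JOp Q ε) (u v : VS j) : BS j u v = BS j v u :=
  BSfun_symm j.isJ u v

/-- the `L`-quadratic form on `VS j` with polar form `BS j` -/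
noncomputable def QS (j : JOp Q ε) : QuadraticForm (LL F ε) (VS j) :=
  LinearMap.BilinMap.toQuadraticMap ((algebraMap F (LL F ε) (2⁻¹ : F)) • BS j)

theorem QS_apply (j : JOp Q ε) (v : VS j) :
    QS j v = (algebraMap F (LL F ε) (2⁻¹ : F)) * BS j v v := rfl

theorem polar_QS (h2 : (2 : F) ≠ 0) (j : JOp Q ε) (u v : VS j) :
    polar (⇑(QS j)) u v = BS j u v := by
  unfold QS
  rw [LinearMap.BilinMap.polar_toQuadraticMap]
  simp only [LinearMap.smul_apply, smul_eq_mul]
  rw [BS_symm j v u, ← mul_add, ← two_mul, ← mul_assoc]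
  have h : (algebraMap F (LL F ε) (2⁻¹ : F)) * 2 = 1 := by
    have : (2 : LL F ε) = algebraMap F (LL F ε) 2 := by rw [map_ofNat]
    rw [this, ← map_mul, inv_mul_cancel₀ h2, map_one]
  rw [h, one_mul]

theorem QS_im (h2 : (2 : F) ≠ 0) (j : JOp Q ε) (v : V) :
    (QS j (show VS j from v)).im = Q v := by
  rw [QS_apply, BS_apply]
  unfold BSfun
  rw [← QuadraticAlgebra.C_eq_algebraMap, QuadraticAlgebra.C_mul_eq_smul,
    QuadraticAlgebra.im_smul, polar_self, smul_eq_mul]
  show (2⁻¹ : F) * (2 • Q v) = Q v
  rw [two_smul, ← two_mul, ← mul_assoc, inv_mul_cancel₀ h2, one_mul]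

theorem QS_nondeg (h2 : (2 : F) ≠ 0) (hQ : (polarBilin Q).Nondegenerate) (j : JOp Q ε) :
    (polarBilin (QS j)).Nondegenerate := by
  have key : ∀ u : VS j, (∀ v : VS j, polar (⇑(QS j)) u v = 0) → u = 0 := by
    intro u hu
    apply hQ.1 u
    intro v
    have h1 := hu (show VS j from v)
    rw [polar_QS h2 j u (show VS j from v)] at h1
    have h3 := congrArg QuadraticAlgebra.im h1
    exact h3
  constructor
  · intro u hu
    exact key u hu
  · intro v hv
    apply key v
    intro u
    rw [polar_comm]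
    exact hv u

end structure_

end Cfsg.Agent.Lib.Helper3.FEO
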