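import Mathlib
import Cfsg.Prelude
import Cfsg.Agent.Lib.Helper9.SpU7

set_option autoImplicit false

/-!
Hub file for S5976: matrix-level data of an adjoint-closed, not self-adjoint quadratic field
subalgebra `K` of the `2d × 2d` matrices: a generator `Jm` with `Jm² = ε`, skew-adjoint for the
symplectic form.
-/

namespace Cfsg.Agent.Lib.Helper3.GUSp

open Module Matrix Cfsg.Agent.H9SpU Cfsg.Agent.H9FK

variable {F : Type*} [Field F] {d : ℕ}

/-- matrix-level generator data for the field subalgebra `K` -/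
structure SkewGen (K : Subalgebra F (Matrix (Fin d ⊕ Fin d) (Fin d ⊕ Fin d) F))
    (Jm : Matrix (Fin d ⊕ Fin d) (Fin d ⊕ Fin d) F) (ε : F) : Prop where
  mem : Jm ∈ K
  sq : Jm * Jm = ε • (1 : Matrix (Fin d ⊕ Fin d) (Fin d ⊕ Fin d) F)
  skew : ∀ u v, Cfsg.sympForm d F (Jm *ᵥ u) v = - Cfsg.sympForm d F u (Jm *ᵥ v)
  span : ∀ k ∈ K, ∃ a b : F, k = a • (1 : Matrix (Fin d ⊕ Fin d) (Fin d ⊕ Fin d) F) + b • Jm
  nonsq : ∀ c : F, c * c ≠ ε

theorem exists_skewGen (h2 : (2 : F) ≠ 0)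
    {K : Subalgebra F (Matrix (Fin d ⊕ Fin d) (Fin d ⊕ Fin d) F)}
    (hK : Cfsg.Geo.IsFieldSubalgebra 2 K)
    (hac : Cfsg.Geo.IsAdjointClosedFor (Cfsg.sympForm d F) K)
    (hnsa : ¬ Cfsg.Geo.IsSelfAdjointFor (Cfsg.sympForm d F) K) :
    ∃ (Jm : Matrix (Fin d ⊕ Fin d) (Fin d ⊕ Fin d) F) (ε : F), SkewGen K Jm ε := by
  obtain ⟨τ, J, ε, R⟩ := exists_udata (hK := hK) h2 hac hnsa
  refine ⟨J.val, ε, ?_, ?_, ?_, ?_, ?_⟩
  · exact J.mem
  · have h := congrArg FK.val R.Jsq
    rw [FK.val_algebraMap] at h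
    exact h
  · intro u v
    exact R.form_J_left u v
  · intro k hk
    obtain ⟨a, b, hab⟩ := R.decomp (FK.mk' k hk)
    refine ⟨a, b, ?_⟩
    have h := congrArg FK.val hab
    rw [val_coord] at h
    exact h
  · intro c hc
    have h1 : (J - algebraMap F (FK K hK) c) * (J + algebraMap F (FK K hK) c) = 0 := by
      have : (J - algebraMap F (FK K hK) c) * (J + algebraMap F (FK K hK) c) =
          J * J - algebraMap F (FK K hK) c * algebraMap F (FK K hK) c := by ring
      rw [this, R.Jsq, ← map_mul, hc, sub_self]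
    rcases mul_eq_zero.1 h1 with h | h
    · have h3 := R.indep (-c) 1 (by rw [map_neg, one_smul]; linear_combination h)
      exact one_ne_zero h3.2
    · have h3 := R.indep c 1 (by rw [one_smul]; linear_combination h)
      exact one_ne_zero h3.2

end Cfsg.Agent.Lib.Helper3.GUSp
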