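import Mathlib
import Cfsg.Prelude

set_option autoImplicit false

/-!
S5976 packages PK-A and PK-A': elements of the normaliser of the quadratic field subalgebra
`K = F[Jm]` conjugate `Jm` to `±Jm`; elements with `y^r` scalar, `r` odd, centralise `Jm`.
-/

namespace Cfsg.Agent.Lib.Helper3.GUSp

open Matrix

variable {F : Type*} [Field F] {ι : Type} [Fintype ι] [DecidableEq ι]

theorem pkA_val_mul_inv (y : GL ι F) :
    (y : Matrix ι ι F) * ((y⁻¹ : GL ι F) : Matrix ι ι F) = 1 := by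
  rw [← Units.val_mul, mul_inv_cancel, Units.val_one]

theorem pkA_inv_mul_val (y : GL ι F) :
    ((y⁻¹ : GL ι F) : Matrix ι ι F) * (y : Matrix ι ι F) = 1 := by
  rw [← Units.val_mul, inv_mul_cancel, Units.val_one]

/-- **PK-A'** -/
theorem mem_norm_of_pm
    {K : Subalgebra F (Matrix ι ι F)} {Jm : Matrix ι ι F}
    (hmem : Jm ∈ K)
    (hspan : ∀ k ∈ K, ∃ a b : F, k = a • (1 : Matrix ι ι F) + b • Jm)
    (y : GL ι F) (hy : (y : Matrix ι ι F) * Jm = Jm * (y : Matrix ι ι F) ∨
      (y : Matrix ι ι F) * Jm = -(Jm * (y : Matrix ι ι F))) :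
    y ∈ Cfsg.Geo.subalgebraNormalizer K := by
  obtain ⟨s, hss, hs⟩ : ∃ s : F, s * s = 1 ∧
      (y : Matrix ι ι F) * Jm = s • (Jm * (y : Matrix ι ι F)) := by
    rcases hy with h | h
    · exact ⟨1, by ring, by rw [one_smul]; exact h⟩
    · exact ⟨-1, by ring, by rw [neg_smul, one_smul]; exact h⟩
  have h1 := pkA_val_mul_inv y
  have h2 := pkA_inv_mul_val y
  have hc1 : (y : Matrix ι ι F) * Jm * ((y⁻¹ : GL ι F) : Matrix ι ι F) = s • Jm := by
    rw [hs, Matrix.smul_mul, Matrix.mul_assoc, h1, Matrix.mul_one]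
  have hc2 : ((y⁻¹ : GL ι F) : Matrix ι ι F) * Jm * (y : Matrix ι ι F) = s • Jm := by
    have : Jm = s • (((y⁻¹ : GL ι F) : Matrix ι ι F) * Jm * (y : Matrix ι ι F)) := by
      calc Jm = ((y⁻¹ : GL ι F) : Matrix ι ι F) * ((y : Matrix ι ι F) * Jm) := by
            rw [← Matrix.mul_assoc, h2, Matrix.one_mul]
        _ = _ := by rw [hs, Matrix.mul_smul, Matrix.mul_assoc]
    calc ((y⁻¹ : GL ι F) : Matrix ι ι F) * Jm * (y : Matrix ι ι F)
        = (s * s) • (((y⁻¹ : GL ι F) : Matrix ι ι F) * Jm * (y : Matrix ι ι F)) := by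
          rw [hss, one_smul]
      _ = s • Jm := by rw [mul_smul, ← this]
  have hconj : ∀ (A B : Matrix ι ι F) (a b : F), A * B = 1 →
      A * (a • (1 : Matrix ι ι F) + b • Jm) * B = a • (1 : Matrix ι ι F) + b • (A * Jm * B) := by
    intro A B a b hAB
    rw [Matrix.mul_add, Matrix.add_mul, Matrix.mul_smul, Matrix.smul_mul, Matrix.mul_one, hAB,
      Matrix.mul_smul, Matrix.smul_mul]
  have hK : ∀ a b : F, a • (1 : Matrix ι ι F) + b • (s • Jm) ∈ K := fun a b =>
    K.add_mem (K.smul_mem K.one_mem a) (K.smul_mem (K.smul_mem hmem s) b)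
  intro k
  constructor
  · intro hk
    obtain ⟨a, b, rfl⟩ := hspan k hk
    rw [hconj _ _ a b h1, hc1]
    exact hK a b
  · intro hk
    obtain ⟨a, b, hab⟩ := hspan _ hk
    have : k = ((y⁻¹ : GL ι F) : Matrix ι ι F) * (a • (1 : Matrix ι ι F) + b • Jm) *
        (y : Matrix ι ι F) := by
      rw [← hab]
      calc k = (((y⁻¹ : GL ι F) : Matrix ι ι F) * (y : Matrix ι ι F)) * k *
            (((y⁻¹ : GL ι F) : Matrix ι ι F) * (y : Matrix ι ι F)) := by
            rw [h2, Matrix.one_mul, Matrix.mul_one]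
        _ = _ := by simp only [Matrix.mul_assoc]
    rw [this, hconj _ _ a b h2, hc2]
    exact hK a b

/-- **PK-A** -/
theorem comm_of_mem_norm (h2 : (2 : F) ≠ 0)
    {K : Subalgebra F (Matrix ι ι F)} {Jm : Matrix ι ι F} {ε : F}
    (hmem : Jm ∈ K) (hsq : Jm * Jm = ε • (1 : Matrix ι ι F))
    (hspan : ∀ k ∈ K, ∃ a b : F, k = a • (1 : Matrix ι ι F) + b • Jm)
    (hnonsq : ∀ c : F, c * c ≠ ε)
    (y : GL ι F) (hy : y ∈ Cfsg.Geo.subalgebraNormalizer K) (r : ℕ) (hr : Odd r) (z : F)
    (hz : ((y ^ r : GL ι F) : Matrix ι ι F) = z • (1 : Matrix ι ι F)) :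
    (y : Matrix ι ι F) * Jm = Jm * (y : Matrix ι ι F) := by
  rcases isEmpty_or_nonempty ι with hι | hι
  · exact Subsingleton.elim _ _
  have h10 : (1 : Matrix ι ι F) ≠ 0 := one_ne_zero
  have hε : ε ≠ 0 := fun h0 => hnonsq 0 (by rw [h0, mul_zero])
  have h1 := pkA_val_mul_inv y
  have h1' := pkA_inv_mul_val y
  have hJ0 : Jm ≠ 0 := by
    intro h0
    rw [h0, Matrix.mul_zero] at hsq
    rcases smul_eq_zero.1 hsq.symm with h | h
    · exact hε h
    · exact h10 h
  -- independence of 1 and Jm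
  have hind : ∀ a b : F, a • (1 : Matrix ι ι F) + b • Jm = 0 → a = 0 ∧ b = 0 := by
    intro a b hab
    by_cases hb : b = 0
    · rw [hb, zero_smul, add_zero] at hab
      rcases smul_eq_zero.1 hab with h | h
      · exact ⟨h, hb⟩
      · exact absurd h h10
    · exfalso
      have hJ : Jm = (-(a / b)) • (1 : Matrix ι ι F) := by
        have : b • Jm = -(a • (1 : Matrix ι ι F)) := eq_neg_of_add_eq_zero_right hab
        calc Jm = b⁻¹ • (b • Jm) := by rw [smul_smul, inv_mul_cancel₀ hb, one_smul]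
          _ = _ := by rw [this, smul_neg, smul_smul, neg_smul]; congr 2; field_simp
      have hJJ : Jm * Jm = ((-(a / b)) * (-(a / b))) • (1 : Matrix ι ι F) := by
        conv_lhs => rw [hJ]
        rw [Matrix.smul_mul, Matrix.mul_smul, Matrix.one_mul, smul_smul]
      have h3 : ((-(a / b)) * (-(a / b)) - ε) • (1 : Matrix ι ι F) = 0 := by
        rw [sub_smul, ← hsq, hJJ, sub_self]
      rcases smul_eq_zero.1 h3 with h | h
      · exact hnonsq _ (sub_eq_zero.1 h)
      · exact h10 h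
  -- the conjugate of Jm
  have hk : (y : Matrix ι ι F) * Jm * ((y⁻¹ : GL ι F) : Matrix ι ι F) ∈ K := (hy Jm).1 hmem
  obtain ⟨a, b, hab⟩ := hspan _ hk
  have hkk : (a • (1 : Matrix ι ι F) + b • Jm) * (a • (1 : Matrix ι ι F) + b • Jm) =
      ε • (1 : Matrix ι ι F) := by
    rw [← hab]
    calc (y : Matrix ι ι F) * Jm * ((y⁻¹ : GL ι F) : Matrix ι ι F) *
          ((y : Matrix ι ι F) * Jm * ((y⁻¹ : GL ι F) : Matrix ι ι F))
        = (y : Matrix ι ι F) * Jm * (((y⁻¹ : GL ι F) : Matrix ι ι F) * (y : Matrix ι ι F)) * Jm *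
          ((y⁻¹ : GL ι F) : Matrix ι ι F) := by simp only [Matrix.mul_assoc]
      _ = (y : Matrix ι ι F) * (Jm * Jm) * ((y⁻¹ : GL ι F) : Matrix ι ι F) := by
          rw [h1', Matrix.mul_one]; simp only [Matrix.mul_assoc]
      _ = _ := by rw [hsq, Matrix.mul_smul, Matrix.smul_mul, Matrix.mul_one, h1]
  have hexp : (a • (1 : Matrix ι ι F) + b • Jm) * (a • (1 : Matrix ι ι F) + b • Jm) =
      (a * a + b * b * ε) • (1 : Matrix ι ι F) + (2 * a * b) • Jm := by
    rw [Matrix.add_mul, Matrix.mul_add, Matrix.mul_add, Matrix.smul_mul, Matrix.smul_mul,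
      Matrix.mul_smul, Matrix.mul_smul, Matrix.smul_mul, Matrix.smul_mul, Matrix.mul_smul,
      Matrix.mul_smul, Matrix.one_mul, Matrix.one_mul, Matrix.mul_one, hsq]
    module
  have h0 : (a * a + b * b * ε - ε) • (1 : Matrix ι ι F) + (2 * a * b) • Jm = 0 := by
    rw [sub_smul, ← hkk, hexp]
    abel
  obtain ⟨e1, e2⟩ := hind _ _ h0
  have hb : b ≠ 0 := by
    intro hb
    rw [hb] at e1
    apply hnonsq a
    linear_combination e1
  have ha : a = 0 := by
    rcases mul_eq_zero.1 e2 with h | h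
    · rcases mul_eq_zero.1 h with h' | h'
      · exact absurd h' h2
      · exact h'
    · exact absurd h hb
  have hbb : b * b = 1 := by
    rw [ha] at e1
    have : (b * b - 1) * ε = 0 := by linear_combination e1
    rcases mul_eq_zero.1 this with h | h
    · exact sub_eq_zero.1 h
    · exact absurd h hε
  have hb1 : b = 1 ∨ b = -1 := by
    have : (b - 1) * (b + 1) = 0 := by linear_combination hbb
    rcases mul_eq_zero.1 this with h | h
    · left; exact sub_eq_zero.1 h
    · right; exact eq_neg_of_add_eq_zero_left h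
  rw [ha, zero_smul, zero_add] at hab
  have hyJ : (y : Matrix ι ι F) * Jm = b • (Jm * (y : Matrix ι ι F)) := by
    calc (y : Matrix ι ι F) * Jm
        = (y : Matrix ι ι F) * Jm * (((y⁻¹ : GL ι F) : Matrix ι ι F) * (y : Matrix ι ι F)) := by
          rw [h1', Matrix.mul_one]
      _ = ((y : Matrix ι ι F) * Jm * ((y⁻¹ : GL ι F) : Matrix ι ι F)) * (y : Matrix ι ι F) := by
          simp only [Matrix.mul_assoc]
      _ = _ := by rw [hab, Matrix.smul_mul]
  rcases hb1 with hb1 | hb1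
  · rw [hb1, one_smul] at hyJ
    exact hyJ
  · exfalso
    rw [hb1, neg_smul, one_smul] at hyJ
    have hpow : ∀ n : ℕ, (y : Matrix ι ι F) ^ n * Jm =
        (-1 : F) ^ n • (Jm * (y : Matrix ι ι F) ^ n) := by
      intro n
      induction n with
      | zero => simp
      | succ n ih =>
        calc (y : Matrix ι ι F) ^ (n + 1) * Jm
            = (y : Matrix ι ι F) ^ n * ((y : Matrix ι ι F) * Jm) := by
              rw [pow_succ, Matrix.mul_assoc]
          _ = -((y : Matrix ι ι F) ^ n * Jm * (y : Matrix ι ι F)) := by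
              rw [hyJ, Matrix.mul_neg, Matrix.mul_assoc]
          _ = -(((-1 : F) ^ n • (Jm * (y : Matrix ι ι F) ^ n)) * (y : Matrix ι ι F)) := by rw [ih]
          _ = _ := by
              rw [pow_succ, pow_succ, Matrix.smul_mul, Matrix.mul_assoc, mul_neg_one, neg_smul]
    have hzr := hpow r
    rw [← Units.val_pow_eq_pow_val, hz, hr.neg_one_pow, neg_smul, one_smul, Matrix.smul_mul,
      Matrix.one_mul, Matrix.mul_smul, Matrix.mul_one] at hzr
    have h4 : (2 * z) • Jm = 0 := by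
      rw [mul_smul, two_smul]
      nth_rewrite 1 [hzr]
      rw [neg_add_cancel]
    rcases smul_eq_zero.1 h4 with h | h
    · rcases mul_eq_zero.1 h with h' | h'
      · exact h2 h'
      · rw [h', zero_smul] at hz
        have hu : IsUnit ((y ^ r : GL ι F) : Matrix ι ι F) := Units.isUnit _
        rw [hz] at hu
        exact not_isUnit_zero hu
    · exact hJ0 h

end Cfsg.Agent.Lib.Helper3.GUSp
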