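import Mathlib

set_option autoImplicit false

/-!
S5976 package PK-B: if `y` commutes with `Jm`, `Jm² = ε` a nonsquare, then every kernel
`ker P(y)` has even dimension.
-/

namespace Cfsg.Agent.Lib.Helper3.GUSp

open Module Matrix Polynomial

section abs

variable {F V : Type*} [Field F] [AddCommGroup V] [Module F V]

theorem pkB_aeval_comm (y J : V →ₗ[F] V) (hc : y * J = J * y) (k : F[X]) :
    aeval y k * J = J * aeval y k := by
  induction k using Polynomial.induction_on' with
  | add a b ha hb => rw [map_add, add_mul, mul_add, ha, hb]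
  | monomial n a =>
    rw [← C_mul_X_pow_eq_monomial, map_mul, aeval_C, map_pow, aeval_X]
    have hpow : ∀ n : ℕ, y ^ n * J = J * y ^ n := by
      intro n
      induction n with
      | zero => simp
      | succ n ih => rw [pow_succ, mul_assoc, hc, ← mul_assoc, ih, mul_assoc]
    rw [mul_assoc, hpow, Algebra.algebraMap_eq_smul_one, smul_mul_assoc, one_mul,
      smul_mul_assoc, one_mul, mul_smul_comm]

variable [FiniteDimensional F V]

/-- the kernel of a map commuting with `J`, `J² = ε` nonsquare, is even-dimensional -/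
theorem pkB_even_ker (J T : V →ₗ[F] V) (ε : F) (hJ2 : J * J = ε • 1)
    (hnonsq : ∀ c : F, c * c ≠ ε) (hc : T * J = J * T) :
    Even (finrank F (LinearMap.ker T)) := by
  have hε : ε ≠ 0 := fun h0 => hnonsq 0 (by rw [h0, mul_zero])
  have hW : ∀ w ∈ LinearMap.ker T, J w ∈ LinearMap.ker T := by
    intro w hw
    rw [LinearMap.mem_ker] at hw ⊢
    have := congrArg (fun f : V →ₗ[F] V => f w) hc
    simp only [Module.End.mul_apply] at this
    rw [this, hw, map_zero]
  have hJJ : (J.restrict hW) * (J.restrict hW) = ε • (1 : LinearMap.ker T →ₗ[F] LinearMap.ker T) := by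
    apply LinearMap.ext
    intro w
    apply Subtype.ext
    have := congrArg (fun f : V →ₗ[F] V => f (w : V)) hJ2
    simp only [Module.End.mul_apply, LinearMap.smul_apply, Module.End.one_apply] at this
    simp only [Module.End.mul_apply, LinearMap.restrict_coe_apply, LinearMap.smul_apply,
      Module.End.one_apply, Submodule.coe_smul]
    exact this
  have hdet : LinearMap.det (J.restrict hW) * LinearMap.det (J.restrict hW) =
      ε ^ finrank F (LinearMap.ker T) := by
    rw [← map_mul, hJJ, LinearMap.det_smul, map_one, mul_one]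
  by_contra hodd
  rw [Nat.not_even_iff_odd] at hodd
  obtain ⟨k, hk⟩ := hodd
  rw [hk, pow_succ, pow_mul, pow_two] at hdet
  have hεk : ε ^ k ≠ 0 := pow_ne_zero k hε
  apply hnonsq (LinearMap.det (J.restrict hW) / ε ^ k)
  field_simp
  linear_combination hdet

end abs

/-- **PK-B** -/
theorem even_finrank_ker_of_comm {F : Type*} [Field F] {ι : Type} [Fintype ι] [DecidableEq ι]
    {Jm : Matrix ι ι F} {ε : F} (hsq : Jm * Jm = ε • (1 : Matrix ι ι F))
    (hnonsq : ∀ c : F, c * c ≠ ε)
    (y : Matrix ι ι F) (hc : y * Jm = Jm * y) (P : F[X]) :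
    Even (finrank F (LinearMap.ker (aeval (Matrix.toLin' y) P))) := by
  apply pkB_even_ker (Matrix.toLin' Jm) _ ε ?_ hnonsq ?_
  · have h1 : Matrix.toLin' Jm * Matrix.toLin' Jm = Matrix.toLin' (Jm * Jm) :=
      (Matrix.toLin'_mul Jm Jm).symm
    rw [h1, hsq, map_smul, Matrix.toLin'_one]
    rfl
  · apply pkB_aeval_comm
    have h1 : Matrix.toLin' y * Matrix.toLin' Jm = Matrix.toLin' (y * Jm) :=
      (Matrix.toLin'_mul _ _).symm
    have h3 : Matrix.toLin' Jm * Matrix.toLin' y = Matrix.toLin' (Jm * y) :=
      (Matrix.toLin'_mul _ _).symm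
    rw [h1, h3, hc]

end Cfsg.Agent.Lib.Helper3.GUSp
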