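import Mathlib
import Cfsg.Prelude
import Cfsg.Agent.Lib.Helper9.Elus3
import Cfsg.Agent.Lib.Helper2.SpIsom

set_option autoImplicit false

/-!
S5976 package PK-C: an element of order `r` of the symplectic group commuting with a skew-adjoint
`J`, `J² = ε`, never has a cyclotomic kernel of dimension `2h = ord_r(q)` when `h` is even.
-/

namespace Cfsg.Agent.Lib.Helper3.GUSp

open Module Matrix Polynomial Cfsg.Agent.H9SemiInv Cfsg.Agent.Lib.Helper9.H9Elus

section abs

variable {F V : Type*} [Field F] [AddCommGroup V] [Module F V]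

/-- polynomials in `y` commute with anything commuting with `y` -/
theorem pkC_aeval_comm (y J : V →ₗ[F] V) (hc : y * J = J * y) (k : F[X]) :
    aeval y k * J = J * aeval y k := by
  induction k using Polynomial.induction_on' with
  | add a b ha hb => rw [map_add, add_mul, mul_add, ha, hb]
  | monomial n a =>
    rw [← C_mul_X_pow_eq_monomial, map_mul, aeval_C, map_pow, aeval_X]
    have hpow : ∀ n : ℕ, y ^ n * J = J * y ^ n := by
      intro n
      induction n with
      | zero => simp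
      | succ n ih => rw [pow_succ, mul_assoc, hc, ← mul_assoc, ih, mul_assoc]
    rw [mul_assoc, hpow, Algebra.algebraMap_eq_smul_one, smul_mul_assoc, one_mul,
      smul_mul_assoc, one_mul, mul_smul_comm]

theorem pkC_aeval_comm_apply (y J : V →ₗ[F] V) (hc : y * J = J * y) (k : F[X]) (v : V) :
    aeval y k (J v) = J (aeval y k v) := by
  have := congrArg (fun f : V →ₗ[F] V => f v) (pkC_aeval_comm y J hc k)
  simpa [Module.End.mul_apply] using this

/-- the cyclic submodule generated by a vector -/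
noncomputable def pkC_cyc (y : V →ₗ[F] V) (u : V) : Submodule F V :=
  LinearMap.range ((LinearMap.applyₗ u : (V →ₗ[F] V) →ₗ[F] V).comp
    (aeval y : F[X] →ₐ[F] (V →ₗ[F] V)).toLinearMap)

theorem pkC_mem_cyc (y : V →ₗ[F] V) (u w : V) :
    w ∈ pkC_cyc y u ↔ ∃ k : F[X], aeval y k u = w := by
  unfold pkC_cyc
  rw [LinearMap.mem_range]
  rfl

theorem pkC_cyc_inv (y : V →ₗ[F] V) (u : V) : Inv y (pkC_cyc y u) := by
  intro w hw
  rw [pkC_mem_cyc] at hw ⊢
  obtain ⟨k, rfl⟩ := hw
  refine ⟨X * k, ?_⟩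
  rw [map_mul, aeval_X, Module.End.mul_apply]

theorem pkC_self_mem_cyc (y : V →ₗ[F] V) (u : V) : u ∈ pkC_cyc y u := by
  rw [pkC_mem_cyc]
  exact ⟨1, by rw [map_one, Module.End.one_apply]⟩

end abs

section fin

variable {F V : Type*} [Field F] [Fintype F] {p : ℕ} [Fact p.Prime] [CharP F p]
  [AddCommGroup V] [Module F V] [FiniteDimensional F V]

omit [Fact p.Prime] [CharP F p] in
/-- iterated Frobenius on polynomials -/
theorem pkC_expand_card_pow (n : ℕ) (f : F[X]) :
    expand F (Fintype.card F ^ n) f = f ^ (Fintype.card F ^ n) := by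
  induction n with
  | zero => simp
  | succ n ih => rw [pow_succ, expand_mul, FiniteField.expand_card, map_pow, ih, ← pow_mul]

/-- if the cyclotomic kernel has the minimal dimension, every nonzero vector generates it -/
theorem pkC_cyc_eq (r : ℕ) [Fact r.Prime] (hrp : r ≠ p) (y : V →ₗ[F] V)
    (hU : finrank F (LinearMap.ker (aeval y (cyclotomic r F))) =
      orderOf ((Fintype.card F : ℕ) : ZMod r))
    (u : V) (hu : u ∈ LinearMap.ker (aeval y (cyclotomic r F))) (hu0 : u ≠ 0) :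
    pkC_cyc y u = LinearMap.ker (aeval y (cyclotomic r F)) := by
  have hle : pkC_cyc y u ≤ LinearMap.ker (aeval y (cyclotomic r F)) := by
    intro w hw
    rw [pkC_mem_cyc] at hw
    obtain ⟨k, rfl⟩ := hw
    rw [LinearMap.mem_ker] at hu ⊢
    have h1 : aeval y (cyclotomic r F) * aeval y k = aeval y k * aeval y (cyclotomic r F) := by
      rw [← map_mul, ← map_mul, mul_comm]
    have := congrArg (fun f : V →ₗ[F] V => f u) h1
    simp only [Module.End.mul_apply] at this
    rw [this, hu, map_zero]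
  have hne : pkC_cyc y u ≠ ⊥ := by
    intro h0
    have := pkC_self_mem_cyc y u
    rw [h0, Submodule.mem_bot] at this
    exact hu0 this
  obtain ⟨Z, hZle, -, hZfr⟩ := hmin_cyclotomic r hrp y (pkC_cyc y u) hle (pkC_cyc_inv y u) hne
  have hZU : Z = LinearMap.ker (aeval y (cyclotomic r F)) :=
    Submodule.eq_of_le_of_finrank_eq (hZle.trans hle) (hZfr.trans hU.symm)
  apply le_antisymm hle
  rw [← hZU]
  exact hZle

omit [Fact p.Prime] [CharP F p] in
/-- `card F ^ h = 2 * ((card F - 1) * m) + 1` for even `h` and odd `card F` -/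
theorem pkC_pow_form (hodd : Fintype.card F % 2 = 1) (h : ℕ) (hh : Even h) :
    ∃ m, Fintype.card F ^ h = 2 * ((Fintype.card F - 1) * m) + 1 := by
  obtain ⟨h', rfl⟩ := hh
  set q := Fintype.card F with hq
  have hq1 : 1 ≤ q := Fintype.card_pos
  have h1 : q ^ 2 - 1 ∣ (q ^ 2) ^ h' - 1 := by
    have := Nat.sub_dvd_pow_sub_pow (q ^ 2) 1 h'
    rwa [one_pow] at this
  obtain ⟨T, hT⟩ := h1
  obtain ⟨c, hc⟩ : ∃ c, q = 2 * c + 1 := ⟨q / 2, by omega⟩
  have h3 : q ^ 2 - 1 = (q - 1) * (2 * (c + 1)) := by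
    have : q - 1 = 2 * c := by omega
    rw [this, hc]
    have : (2 * c + 1) ^ 2 = 2 * c * (2 * (c + 1)) + 1 := by ring
    rw [this]
    omega
  refine ⟨(c + 1) * T, ?_⟩
  have h4 : 1 ≤ (q ^ 2) ^ h' := Nat.one_le_pow _ _ (by positivity)
  have h5 : q ^ (h' + h') = (q ^ 2) ^ h' := by rw [← pow_mul]; congr 1; ring
  rw [h5]
  have h6 : (q ^ 2) ^ h' = (q ^ 2) ^ h' - 1 + 1 := by omega
  rw [h6, hT, h3]
  ring

theorem pkC_main (B : LinearMap.BilinForm F V) (hnd : ∀ v, (∀ w, B w v = 0) → v = 0)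
    (h2 : (2 : F) ≠ 0) (y J : V →ₗ[F] V) (ε : F) (hε : ε ≠ 0) (hJ2 : J * J = ε • 1)
    (hskew : ∀ u v, B (J u) v = - B u (J v)) (hy : ∀ u v, B (y u) (y v) = B u v)
    (r : ℕ) [Fact r.Prime] (hrp : r ≠ p) (h : ℕ) (hh : Even h) (hh1 : 1 ≤ h)
    (hi : orderOf ((Fintype.card F : ℕ) : ZMod r) = 2 * h)
    (hrq : r ∣ Fintype.card F ^ h + 1) (hyr : y ^ r = 1) (hc : y * J = J * y) :
    finrank F (LinearMap.ker (aeval y (cyclotomic r F))) ≠ 2 * h := by
  intro hfr
  set N := Fintype.card F ^ h with hN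
  -- y^(N+1) = 1
  have hyN : y * y ^ N = 1 := by
    obtain ⟨c, hc'⟩ := hrq
    rw [← pow_succ', hc', pow_mul, hyr, one_pow]
  have hyN' : ∀ b, y ((y ^ N) b) = b := by
    intro b
    have := congrArg (fun f : V →ₗ[F] V => f b) hyN
    simpa [Module.End.mul_apply] using this
  have hadj1 : ∀ a b, B (y a) b = B a ((y ^ N) b) := by
    intro a b
    have := hy a ((y ^ N) b)
    rw [hyN'] at this
    exact this
  have hadjpow : ∀ (n : ℕ) (a b : V), B ((y ^ n) a) b = B a (((y ^ N) ^ n) b) := by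
    intro n
    induction n with
    | zero => intro a b; simp
    | succ n ih =>
      intro a b
      rw [pow_succ', Module.End.mul_apply, hadj1, ih, pow_succ, Module.End.mul_apply]
  have hadj : ∀ (k : F[X]) (a b : V), B (aeval y k a) b = B a (aeval (y ^ N) k b) := by
    intro k
    induction k using Polynomial.induction_on' with
    | add f g hf hg =>
      intro a b
      rw [map_add, map_add, LinearMap.add_apply, LinearMap.add_apply, map_add,
        LinearMap.add_apply, map_add, hf, hg]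
    | monomial n c =>
      intro a b
      rw [← C_mul_X_pow_eq_monomial, map_mul, map_mul, aeval_C, aeval_C, map_pow, map_pow,
        aeval_X, aeval_X, Module.End.mul_apply, Module.End.mul_apply,
        Algebra.algebraMap_eq_smul_one,
        LinearMap.smul_apply, LinearMap.smul_apply, Module.End.one_apply, Module.End.one_apply,
        map_smul, map_smul, LinearMap.smul_apply, hadjpow]
  -- U is J-stable
  have hUJ : ∀ w ∈ LinearMap.ker (aeval y (cyclotomic r F)),
      J w ∈ LinearMap.ker (aeval y (cyclotomic r F)) := by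
    intro w hw
    rw [LinearMap.mem_ker] at hw ⊢
    rw [pkC_aeval_comm_apply y J hc, hw, map_zero]
  -- a nonzero vector
  have hpos : 0 < finrank F (LinearMap.ker (aeval y (cyclotomic r F))) := by omega
  obtain ⟨⟨u₀, hu₀⟩, hu₀0⟩ := Module.finrank_pos_iff_exists_ne_zero.1 hpos
  have hu₀0' : u₀ ≠ 0 := fun h0 => hu₀0 (Subtype.ext h0)
  have hcyc := pkC_cyc_eq r hrp y (hfr.trans hi.symm) u₀ hu₀ hu₀0'
  obtain ⟨g, hg⟩ : ∃ g : F[X], aeval y g u₀ = J u₀ := by
    rw [← pkC_mem_cyc, hcyc]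
    exact hUJ u₀ hu₀
  have hJg : ∀ w ∈ LinearMap.ker (aeval y (cyclotomic r F)), J w = aeval y g w := by
    intro w hw
    rw [← hcyc, pkC_mem_cyc] at hw
    obtain ⟨k, rfl⟩ := hw
    rw [← pkC_aeval_comm_apply y J hc, ← hg]
    have h1 : aeval y g * aeval y k = aeval y k * aeval y g := by
      rw [← map_mul, ← map_mul, mul_comm]
    have := congrArg (fun f : V →ₗ[F] V => f u₀) h1
    simp only [Module.End.mul_apply] at this
    exact this.symm
  have hgN : aeval (y ^ N) g = (aeval y g) ^ N := by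
    rw [← expand_aeval, hN, pkC_expand_card_pow, map_pow]
  have hpowU : ∀ (n : ℕ), ∀ w ∈ LinearMap.ker (aeval y (cyclotomic r F)),
      ((aeval y g) ^ n) w = (J ^ n) w := by
    intro n
    induction n with
    | zero => intro w _; simp
    | succ n ih =>
      intro w hw
      rw [pow_succ, Module.End.mul_apply, ← hJg w hw, ih _ (hUJ w hw), pow_succ,
        Module.End.mul_apply]
  have hJN : J ^ N = J := by
    have hodd : Fintype.card F % 2 = 1 := by
      apply FiniteField.odd_card_of_char_ne_two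
      intro h
      have := ringChar.spec F 2 |>.2 (by rw [h])
      exact h2 (by exact_mod_cast this)
    obtain ⟨m, hm⟩ := pkC_pow_form hodd h hh
    rw [hN, hm, pow_succ, pow_mul, pow_two, hJ2, _root_.smul_pow, one_pow, pow_mul,
      FiniteField.pow_card_sub_one_eq_one ε hε, one_pow, one_smul, one_mul]
  have hzero : ∀ u ∈ LinearMap.ker (aeval y (cyclotomic r F)),
      ∀ v ∈ LinearMap.ker (aeval y (cyclotomic r F)), B (J u) v = 0 := by
    intro u hu v hv
    have h1 : B (J u) v = B u (J v) := by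
      rw [hJg u hu, hadj, hgN, hpowU N v hv, hJN]
    have h3 := hskew u v
    rw [← h1] at h3
    have h4 : (2 : F) * B (J u) v = 0 := by linear_combination h3
    rcases mul_eq_zero.1 h4 with h | h
    · exact absurd h h2
    · exact h
  have hJJ : ∀ u, J (J u) = ε • u := by
    intro u
    have := congrArg (fun f : V →ₗ[F] V => f u) hJ2
    simpa [Module.End.mul_apply] using this
  have hzero' : ∀ u ∈ LinearMap.ker (aeval y (cyclotomic r F)),
      ∀ v ∈ LinearMap.ker (aeval y (cyclotomic r F)), B u v = 0 := by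
    intro u hu v hv
    have h1 : u = J (ε⁻¹ • J u) := by
      rw [map_smul, hJJ, smul_smul, inv_mul_cancel₀ hε, one_smul]
    rw [h1]
    exact hzero _ (Submodule.smul_mem _ _ (hUJ u hu)) v hv
  have hfix : ∀ c, y c = c → ∀ v ∈ LinearMap.ker (aeval y (cyclotomic r F)), B c v = 0 := by
    intro c hc' v hv
    obtain ⟨a, b, hab⟩ := isCoprime_X_sub_one_cyclotomic (F := F) r hrp
    have h1 : v = aeval y ((X - 1) * a + b * cyclotomic r F) v := by
      rw [mul_comm (X - 1) a, hab, map_one, Module.End.one_apply]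
    rw [LinearMap.mem_ker] at hv
    rw [map_add, map_mul, map_mul, LinearMap.add_apply, Module.End.mul_apply,
      Module.End.mul_apply, hv, map_zero, add_zero, map_sub, aeval_X, map_one,
      LinearMap.sub_apply, Module.End.one_apply] at h1
    rw [h1, map_sub]
    have := hy c (aeval y a v)
    rw [hc'] at this
    rw [this, sub_self]
  have hcompl := isCompl_ker r hrp y hyr
  apply hu₀0'
  apply hnd
  intro w
  have hw : w ∈ LinearMap.ker (aeval y (X - 1 : F[X])) ⊔
      LinearMap.ker (aeval y (cyclotomic r F)) := by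
    rw [hcompl.sup_eq_top]; trivial
  obtain ⟨c, hc', u', hu', rfl⟩ := Submodule.mem_sup.1 hw
  rw [map_add, LinearMap.add_apply, hzero' u' hu' u₀ hu₀, add_zero]
  apply hfix c _ u₀ hu₀
  rw [LinearMap.mem_ker, map_sub, aeval_X, map_one, LinearMap.sub_apply, Module.End.one_apply,
    sub_eq_zero] at hc'
  exact hc'

end fin

/-- **PK-C** -/
theorem finrank_ker_cyclotomic_ne {F : Type*} [Field F] [Fintype F] {p : ℕ} [Fact p.Prime]
    [CharP F p] {d : ℕ} (h2 : (2 : F) ≠ 0)
    {Jm : Matrix (Fin d ⊕ Fin d) (Fin d ⊕ Fin d) F} {ε : F} (hε : ε ≠ 0)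
    (hsq : Jm * Jm = ε • (1 : Matrix (Fin d ⊕ Fin d) (Fin d ⊕ Fin d) F))
    (hskew : ∀ u v, Cfsg.sympForm d F (Jm *ᵥ u) v = - Cfsg.sympForm d F u (Jm *ᵥ v))
    (r : ℕ) [Fact r.Prime] (hrp : r ≠ p) (h : ℕ) (hh : Even h) (hh1 : 1 ≤ h)
    (hi : orderOf ((Fintype.card F : ℕ) : ZMod r) = 2 * h)
    (hrq : r ∣ Fintype.card F ^ h + 1)
    (y : GL (Fin d ⊕ Fin d) F) (hy : y ∈ Cfsg.spGL d F)
    (hyr : ((y ^ r : GL (Fin d ⊕ Fin d) F) : Matrix (Fin d ⊕ Fin d) (Fin d ⊕ Fin d) F) = 1)
    (hc : (y : Matrix (Fin d ⊕ Fin d) (Fin d ⊕ Fin d) F) * Jm =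
      Jm * (y : Matrix (Fin d ⊕ Fin d) (Fin d ⊕ Fin d) F)) :
    finrank F (LinearMap.ker (aeval (Matrix.toLin'
      (y : Matrix (Fin d ⊕ Fin d) (Fin d ⊕ Fin d) F)) (cyclotomic r F))) ≠ 2 * h := by
  apply pkC_main (Cfsg.Agent.Lib.Helper2.SpIsom.sympBilin d F) ?_ h2
    (Matrix.toLin' (y : Matrix (Fin d ⊕ Fin d) (Fin d ⊕ Fin d) F)) (Matrix.toLin' Jm) ε hε ?_ ?_ ?_
    r hrp h hh hh1 hi hrq ?_ ?_
  · intro v hv
    apply Cfsg.Agent.Lib.Helper2.SpIsom.sympForm_nondeg
    intro w
    have := hv w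
    rw [Cfsg.Agent.Lib.Helper2.SpIsom.sympBilin_apply] at this
    rw [Cfsg.Agent.Lib.Helper2.Symp.sympForm_swap, this, neg_zero]
  · have h1 : Matrix.toLin' Jm * Matrix.toLin' Jm = Matrix.toLin' (Jm * Jm) :=
      (Matrix.toLin'_mul Jm Jm).symm
    rw [h1, hsq, map_smul, Matrix.toLin'_one]
    rfl
  · intro u v
    rw [Cfsg.Agent.Lib.Helper2.SpIsom.sympBilin_apply, Cfsg.Agent.Lib.Helper2.SpIsom.sympBilin_apply,
      Matrix.toLin'_apply, Matrix.toLin'_apply]
    exact hskew u v
  · intro u v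
    rw [Cfsg.Agent.Lib.Helper2.SpIsom.sympBilin_apply, Cfsg.Agent.Lib.Helper2.SpIsom.sympBilin_apply,
      Matrix.toLin'_apply, Matrix.toLin'_apply]
    exact hy u v
  · rw [← Matrix.toLin'_pow, ← Units.val_pow_eq_pow_val, hyr, Matrix.toLin'_one]
    rfl
  · have h1 : Matrix.toLin' (y : Matrix (Fin d ⊕ Fin d) (Fin d ⊕ Fin d) F) * Matrix.toLin' Jm =
        Matrix.toLin' ((y : Matrix (Fin d ⊕ Fin d) (Fin d ⊕ Fin d) F) * Jm) :=
      (Matrix.toLin'_mul _ _).symm
    have h3 : Matrix.toLin' Jm * Matrix.toLin' (y : Matrix (Fin d ⊕ Fin d) (Fin d ⊕ Fin d) F) =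
        Matrix.toLin' (Jm * (y : Matrix (Fin d ⊕ Fin d) (Fin d ⊕ Fin d) F)) :=
      (Matrix.toLin'_mul _ _).symm
    rw [h1, h3, hc]

end Cfsg.Agent.Lib.Helper3.GUSp
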