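import Mathlib
import Cfsg.Prelude
import Cfsg.Agent.Lib.Helper9.SpU7
import Cfsg.Agent.Lib.Helper2.GUIsom
import Cfsg.Agent.Lib.Helper3.GUSp_A
import Cfsg.Agent.S0277

set_option autoImplicit false

/-!
S5976 package PK-F: the order of `GU_d(q)` divides the order of the normaliser of the quadratic
field subalgebra inside the symplectic group.
-/

namespace Cfsg.Agent.Lib.Helper3.GUSp

open Module Matrix Cfsg.Agent.H9SpU Cfsg.Agent.H9FK Cfsg.Agent.Lib.Helper2
  Cfsg.Agent.Lib.Helper2.IsomDecomp Cfsg.Agent.Lib.Helper2.HermDecomp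
  Cfsg.Agent.Lib.Helper2.GUIsom Cfsg.Agent.Lib.Helper5.PSLCoset

/-- the isometry group of a Hermitian space with an orthonormal basis is the unitary matrix
group -/
noncomputable def pkF_isomEquivGU {L : Type*} [Field L] {V : Type*} [AddCommGroup V] [Module L V]
    {H : V → V → L} {q k : ℕ} (σ : L ≃+* L) (h : IsHerm σ H) (hσq : ∀ a : L, σ a = a ^ q)
    (b : Basis (Fin k) L V) (hb : ∀ i j, H (b i) (b j) = if i = j then 1 else 0) :
    ↥(isom H) ≃* ↥(Cfsg.GU k L q) := by
  classical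
  have hform : ∀ u v : V, H u v = Cfsg.hermForm k L q (b.repr u) (b.repr v) := by
    intro u v
    rw [form_eq_sum h b hb u v]
    unfold Cfsg.hermForm
    apply Finset.sum_congr rfl
    intro i _
    rw [hσq]
  refine equivOfMemIff (basisGL b) _ _ ?_
  intro g
  have e : ∀ z : V, (b.repr (g z) : Fin k → L) =
      ((basisGL b g : GL (Fin k) L) : Matrix (Fin k) (Fin k) L) *ᵥ (b.repr z) := by
    intro z
    rw [basisGL_coe, LinearMap.toMatrix_mulVec_repr]
    rfl
  constructor
  · intro hg x y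
    show Cfsg.hermForm k L q (((basisGL b g : GL (Fin k) L) : Matrix (Fin k) (Fin k) L) *ᵥ x)
      (((basisGL b g : GL (Fin k) L) : Matrix (Fin k) (Fin k) L) *ᵥ y) = Cfsg.hermForm k L q x y
    have hx : x = b.repr (b.equivFun.symm x) := by
      have := b.equivFun.apply_symm_apply x
      exact this.symm
    have hy : y = b.repr (b.equivFun.symm y) := by
      have := b.equivFun.apply_symm_apply y
      exact this.symm
    set u := b.equivFun.symm x with hu
    set v := b.equivFun.symm y with hv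
    rw [hx, hy, ← e, ← e, ← hform, ← hform]
    exact hg u v
  · intro hg x y
    have h1 : ∀ x y : Fin k → L,
        Cfsg.hermForm k L q (((basisGL b g : GL (Fin k) L) : Matrix (Fin k) (Fin k) L) *ᵥ x)
      (((basisGL b g : GL (Fin k) L) : Matrix (Fin k) (Fin k) L) *ᵥ y) = Cfsg.hermForm k L q x y := hg
    rw [hform, hform, e, e]
    exact h1 _ _

section udata

variable {F : Type*} [Field F] {m : ℕ} {L : Type*} [Field L] [Algebra F L]
  [Module L (Fin m ⊕ Fin m → F)] [IsScalarTower F L (Fin m ⊕ Fin m → F)]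
  {τ : L ≃+* L} {H : (Fin m ⊕ Fin m → F) → (Fin m ⊕ Fin m → F) → L} {J : L} {ε : F}

omit [IsScalarTower F L (Fin m ⊕ Fin m → F)] in
theorem pkF_not_isSquare (R : UData τ H J ε) : ¬ IsSquare ε := by
  rintro ⟨c, hc⟩
  have h1 : (J - algebraMap F L c) * (J + algebraMap F L c) = 0 := by
    have : (J - algebraMap F L c) * (J + algebraMap F L c) =
        J * J - algebraMap F L c * algebraMap F L c := by ring
    rw [this, R.Jsq, ← map_mul, ← hc, sub_self]
  rcases mul_eq_zero.1 h1 with h | h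
  · have h3 := R.indep (-c) 1 (by rw [map_neg, one_smul]; linear_combination h)
    exact one_ne_zero h3.2
  · have h3 := R.indep c 1 (by rw [one_smul]; linear_combination h)
    exact one_ne_zero h3.2

omit [IsScalarTower F L (Fin m ⊕ Fin m → F)] in
theorem pkF_ringChar_ne_two (R : UData τ H J ε) : ringChar F ≠ 2 := by
  intro h
  have := (ringChar.spec F 2).2 (by rw [h])
  exact R.h2 (by exact_mod_cast this)

/-- the involution of `L` is the Frobenius map -/
theorem pkF_tau_eq_pow [Fintype F] (R : UData τ H J ε) (a : L) : τ a = a ^ Fintype.card F := by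
  have hch := pkF_ringChar_ne_two R
  have hodd := FiniteField.odd_card_of_char_ne_two hch
  have hεk : ε ^ (Fintype.card F / 2) = -1 := by
    rcases FiniteField.pow_dichotomy hch R.eps_ne with h | h
    · exact absurd ((FiniteField.isSquare_iff hch R.eps_ne).2 h) (pkF_not_isSquare R)
    · exact h
  have hJq : J ^ Fintype.card F = -J := by
    have hq : Fintype.card F = 2 * (Fintype.card F / 2) + 1 := by omega
    rw [hq, pow_succ, pow_mul, pow_two, R.Jsq, ← map_pow, hεk, map_neg, map_one, neg_one_mul]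
  obtain ⟨α, β, rfl⟩ := R.decomp a
  have h1 : (algebraMap F L α + β • J) ^ Fintype.card F =
      FiniteField.frobeniusAlgHom F L (algebraMap F L α + β • J) := rfl
  have h3 : FiniteField.frobeniusAlgHom F L J = J ^ Fintype.card F := rfl
  have hR : (algebraMap F L α + β • J) ^ Fintype.card F = algebraMap F L α + β • (-J) := by
    rw [h1, map_add, AlgHom.commutes, map_smul, h3, hJq]
  have hL : τ (algebraMap F L α + β • J) = algebraMap F L α + β • (-J) := by
    rw [map_add, R.tau_alg, R.tau_smul, R.tauJ]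
  rw [hL, hR]

/-- invertible matrices as linear automorphisms (general index type) -/
noncomputable def pkF_glLin (ι : Type) [Fintype ι] [DecidableEq ι] (F : Type*) [Field F] :
    GL ι F ≃* ((ι → F) ≃ₗ[F] (ι → F)) :=
  Matrix.GeneralLinearGroup.toLin.trans
    (LinearMap.GeneralLinearGroup.generalLinearEquiv F (ι → F))

theorem pkF_glLin_apply {ι : Type} [Fintype ι] [DecidableEq ι] (g : GL ι F) (x : ι → F) :
    pkF_glLin ι F g x = (g : Matrix ι ι F) *ᵥ x := rfl

/-- restriction of scalars on linear automorphisms, as a group homomorphism -/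
def pkF_restrict (F L V : Type*) [Field F] [Field L] [Algebra F L] [AddCommGroup V] [Module F V]
    [Module L V] [IsScalarTower F L V] : (V ≃ₗ[L] V) →* (V ≃ₗ[F] V) where
  toFun g := g.restrictScalars F
  map_one' := rfl
  map_mul' _ _ := rfl

/-- the isometries of the Hermitian form as matrices -/
noncomputable def pkF_Phi (H : (Fin m ⊕ Fin m → F) → (Fin m ⊕ Fin m → F) → L) :
    ↥(isom H) →* GL (Fin m ⊕ Fin m) F :=
  (pkF_glLin (Fin m ⊕ Fin m) F).symm.toMonoidHom.comp
    ((pkF_restrict F L (Fin m ⊕ Fin m → F)).comp (isom H).subtype)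

theorem pkF_Phi_mulVec (g : ↥(isom H)) (x : Fin m ⊕ Fin m → F) :
    ((pkF_Phi H g : GL (Fin m ⊕ Fin m) F) : Matrix (Fin m ⊕ Fin m) (Fin m ⊕ Fin m) F) *ᵥ x =
      (g : (Fin m ⊕ Fin m → F) ≃ₗ[L] (Fin m ⊕ Fin m → F)) x := by
  rw [← pkF_glLin_apply]
  unfold pkF_Phi
  simp only [MonoidHom.coe_comp, MulEquiv.coe_toMonoidHom, Function.comp_apply,
    MulEquiv.apply_symm_apply]
  rfl

theorem pkF_Phi_injective : Function.Injective (pkF_Phi H) := by
  intro g g' hgg
  apply Subtype.ext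
  apply LinearEquiv.ext
  intro x
  rw [← pkF_Phi_mulVec, ← pkF_Phi_mulVec, hgg]

theorem pkF_Phi_mem_spGL (R : UData τ H J ε) (g : ↥(isom H)) : pkF_Phi H g ∈ Cfsg.spGL m F := by
  intro u v
  show Cfsg.sympForm m F
    (((pkF_Phi H g : GL (Fin m ⊕ Fin m) F) : Matrix (Fin m ⊕ Fin m) (Fin m ⊕ Fin m) F) *ᵥ u)
    (((pkF_Phi H g : GL (Fin m ⊕ Fin m) F) : Matrix (Fin m ⊕ Fin m) (Fin m ⊕ Fin m) F) *ᵥ v) =
      Cfsg.sympForm m F u v
  rw [pkF_Phi_mulVec, pkF_Phi_mulVec]
  have h1 := g.2 u v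
  rw [R.form, R.form u v] at h1
  exact (R.indep' h1).2

theorem pkF_Phi_comm (g : ↥(isom H)) (Jm : Matrix (Fin m ⊕ Fin m) (Fin m ⊕ Fin m) F)
    (hJm : ∀ x, J • x = Jm *ᵥ x) :
    ((pkF_Phi H g : GL (Fin m ⊕ Fin m) F) : Matrix (Fin m ⊕ Fin m) (Fin m ⊕ Fin m) F) * Jm =
      Jm * ((pkF_Phi H g : GL (Fin m ⊕ Fin m) F) : Matrix (Fin m ⊕ Fin m) (Fin m ⊕ Fin m) F) := by
  apply Matrix.toLin'.injective
  apply LinearMap.ext
  intro x
  rw [Matrix.toLin'_apply, Matrix.toLin'_apply, ← Matrix.mulVec_mulVec, ← Matrix.mulVec_mulVec,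
    pkF_Phi_mulVec, pkF_Phi_mulVec, ← hJm, ← hJm, map_smul]

end udata

theorem pkF_two_ne_zero {F : Type*} [Field F] [Fintype F] (hodd : Odd (Fintype.card F)) :
    (2 : F) ≠ 0 := by
  intro h
  have h1 : ringChar F = 2 := by
    have : ringChar F ∣ 2 := by
      apply ringChar.dvd
      exact_mod_cast h
    rcases (Nat.dvd_prime Nat.prime_two).1 this with h1 | h1
    · exfalso
      have := CharP.ringChar_ne_one (R := F)
      exact this h1
    · exact h1
  have h3 := FiniteField.even_card_of_char_two h1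
  rcases hodd with ⟨k, hk⟩
  omega

/-- **PK-F** -/
theorem gu_card_dvd {F : Type*} [Field F] [Fintype F] {q : ℕ} (hq : Fintype.card F = q)
    (hodd : Odd q) (d : ℕ) (hd : 1 ≤ d)
    (K : Subalgebra F (Matrix (Fin d ⊕ Fin d) (Fin d ⊕ Fin d) F))
    (hK : Cfsg.Geo.IsFieldSubalgebra 2 K)
    (hKf : Cfsg.Geo.IsAdjointClosedFor (Cfsg.sympForm d F) K)
    (hKns : ¬ Cfsg.Geo.IsSelfAdjointFor (Cfsg.sympForm d F) K) :
    (q ^ (d * (d - 1) / 2) * ∏ i ∈ Finset.range d,
      (if Even i then q ^ (i + 1) + 1 else q ^ (i + 1) - 1)) ∣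
      Nat.card ↥(Cfsg.Geo.subalgebraNormalizer K ⊓ Cfsg.spGL d F) := by
  subst hq
  have h2 : (2 : F) ≠ 0 := pkF_two_ne_zero hodd
  obtain ⟨τ, J, ε, R⟩ := exists_udata (hK := hK) h2 hKf hKns
  have : Fintype (FK K hK) := Fintype.ofFinite _
  have hcardL : Fintype.card (FK K hK) = Fintype.card F ^ 2 := by
    rw [Module.card_eq_pow_finrank (K := F) (V := FK K hK), FK.finrank_eq]
  have hfrL : finrank (FK K hK) (Fin d ⊕ Fin d → F) = d := by
    have h1 := Module.finrank_mul_finrank F (FK K hK) (Fin d ⊕ Fin d → F)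
    rw [FK.finrank_eq, Module.finrank_fintype_fun_eq_card, Fintype.card_sum, Fintype.card_fin]
      at h1
    omega
  obtain ⟨b, hb⟩ := exists_onb R.ord R.herm R.nd hfrL
  have e1 := pkF_isomEquivGU τ R.herm (pkF_tau_eq_pow R) b hb
  have hcard1 : Nat.card ↥(isom (hForm J)) =
      Fintype.card F ^ (d * (d - 1) / 2) * ∏ i ∈ Finset.range d,
        (if Even i then Fintype.card F ^ (i + 1) + 1 else Fintype.card F ^ (i + 1) - 1) := by
    rw [Nat.card_congr e1.toEquiv, Cfsg.Agent.S0277.result hcardL d]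
  have hspan : ∀ k ∈ K, ∃ a b : F,
      k = a • (1 : Matrix (Fin d ⊕ Fin d) (Fin d ⊕ Fin d) F) + b • J.val := by
    intro k hk
    obtain ⟨a, b, hab⟩ := R.decomp (FK.mk' k hk)
    refine ⟨a, b, ?_⟩
    have h := congrArg FK.val hab
    rw [val_coord] at h
    exact h
  have hle : (pkF_Phi (hForm J)).range ≤
      Cfsg.Geo.subalgebraNormalizer K ⊓ Cfsg.spGL d F := by
    rintro _ ⟨g, rfl⟩
    refine ⟨?_, pkF_Phi_mem_spGL R g⟩
    exact mem_norm_of_pm J.mem hspan _ (Or.inl (pkF_Phi_comm g J.val (fun x => rfl)))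
  have hcard2 : Nat.card ↥(pkF_Phi (hForm J)).range = Nat.card ↥(isom (hForm J)) :=
    (Nat.card_congr (MonoidHom.ofInjective pkF_Phi_injective).toEquiv).symm
  rw [← hcard1, ← hcard2]
  exact Subgroup.card_dvd_of_le hle

end Cfsg.Agent.Lib.Helper3.GUSp
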