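import Mathlib
import Cfsg.Prelude
import Cfsg.Agent.Lib.Helper2.Symp2

set_option autoImplicit false

/-!
S5976 package PK-H3: an explicit symplectic matrix with square `-1` anticommuting with the
standard `J₀ = [[0, ε],[1, 0]]`.
-/

namespace Cfsg.Agent.Lib.Helper3.GUSp

open Matrix Polynomial

variable {F : Type*} [Field F] {d : ℕ}

/-- the block matrix with scalar blocks -/
def pkH3_sb (d : ℕ) (α β γ δ : F) : Matrix (Fin d ⊕ Fin d) (Fin d ⊕ Fin d) F :=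
  Matrix.fromBlocks (α • (1 : Matrix (Fin d) (Fin d) F)) (β • (1 : Matrix (Fin d) (Fin d) F))
    (γ • (1 : Matrix (Fin d) (Fin d) F)) (δ • (1 : Matrix (Fin d) (Fin d) F))

theorem pkH3_sb_mul (α β γ δ α' β' γ' δ' : F) :
    pkH3_sb d α β γ δ * pkH3_sb d α' β' γ' δ' =
      pkH3_sb d (α * α' + β * γ') (α * β' + β * δ') (γ * α' + δ * γ') (γ * β' + δ * δ') := by
  unfold pkH3_sb
  rw [Matrix.fromBlocks_multiply]
  simp only [Matrix.smul_mul, Matrix.mul_smul, Matrix.one_mul, smul_smul, ← add_smul]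
  congr 2 <;> ring

theorem pkH3_sb_transpose (α β γ δ : F) :
    (pkH3_sb d α β γ δ)ᵀ = pkH3_sb d α γ β δ := by
  unfold pkH3_sb
  rw [Matrix.fromBlocks_transpose]
  simp only [Matrix.transpose_smul, Matrix.transpose_one]

theorem pkH3_sb_neg (α β γ δ : F) :
    -(pkH3_sb d α β γ δ) = pkH3_sb d (-α) (-β) (-γ) (-δ) := by
  unfold pkH3_sb
  rw [Matrix.fromBlocks_neg]
  simp only [neg_smul]

theorem pkH3_one : (1 : Matrix (Fin d ⊕ Fin d) (Fin d ⊕ Fin d) F) = pkH3_sb d 1 0 0 1 := by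
  unfold pkH3_sb
  rw [one_smul, zero_smul, Matrix.fromBlocks_one]

theorem pkH3_J : Matrix.J (Fin d) F = pkH3_sb d 0 (-1) 1 0 := by
  unfold pkH3_sb Matrix.J
  rw [one_smul, zero_smul, neg_smul, one_smul]

theorem pkH3_J0 (ε : F) :
    Matrix.fromBlocks 0 (ε • (1 : Matrix (Fin d) (Fin d) F)) 1 0 = pkH3_sb d 0 ε 1 0 := by
  unfold pkH3_sb
  rw [one_smul, zero_smul]

/-- **PK-H3** -/
theorem exists_anti_model {F : Type*} [Field F] [Fintype F] (hodd : Fintype.card F % 2 = 1)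
    (d : ℕ) (ε : F) (hε : ε ≠ 0) :
    ∃ x' ∈ Cfsg.spGL d F,
      (x' : Matrix (Fin d ⊕ Fin d) (Fin d ⊕ Fin d) F) *
        (x' : Matrix (Fin d ⊕ Fin d) (Fin d ⊕ Fin d) F) = -1 ∧
      (x' : Matrix (Fin d ⊕ Fin d) (Fin d ⊕ Fin d) F) *
          Matrix.fromBlocks 0 (ε • (1 : Matrix (Fin d) (Fin d) F)) 1 0 =
        -(Matrix.fromBlocks 0 (ε • (1 : Matrix (Fin d) (Fin d) F)) 1 0 *
          (x' : Matrix (Fin d ⊕ Fin d) (Fin d ⊕ Fin d) F)) := by
  obtain ⟨a, b, hab⟩ : ∃ a b : F, ε * a ^ 2 - b ^ 2 = 1 := by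
    have hf : (C ε * X ^ 2 - C 1 : F[X]).degree = 2 := by
      rw [degree_sub_eq_left_of_degree_lt]
      · exact degree_C_mul_X_pow 2 hε
      · rw [degree_C_mul_X_pow 2 hε]
        exact lt_of_le_of_lt degree_C_le (by norm_num)
    have hg : (-(X ^ 2) : F[X]).degree = 2 := by
      rw [degree_neg, degree_X_pow]
      rfl
    obtain ⟨a, b, h⟩ := FiniteField.exists_root_sum_quadratic hf hg hodd
    refine ⟨a, b, ?_⟩
    simp only [eval_sub, eval_mul, eval_C, eval_pow, eval_X, eval_neg] at h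
    linear_combination h
  set M : Matrix (Fin d ⊕ Fin d) (Fin d ⊕ Fin d) F := pkH3_sb d b (-(ε * a)) a (-b) with hM
  have hMM : M * M = -1 := by
    rw [hM, pkH3_sb_mul, pkH3_one, pkH3_sb_neg]
    congr 1 <;> first | ring1 | linear_combination (-1 : F) * hab
  have hMsp : M ∈ Matrix.symplecticGroup (Fin d) F := by
    rw [SymplecticGroup.mem_iff', hM, pkH3_sb_transpose, pkH3_J, pkH3_sb_mul, pkH3_sb_mul]
    congr 1 <;> first | ring1 | linear_combination (-1 : F) * hab | linear_combination hab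
  refine ⟨⟨M, -M, by rw [mul_neg, hMM, neg_neg], by rw [neg_mul, hMM, neg_neg]⟩, ?_, hMM, ?_⟩
  · intro u v
    exact Cfsg.Agent.Lib.Helper2.Symp.sympForm_mulVec M hMsp u v
  · show M * _ = -(_ * M)
    rw [pkH3_J0, hM, pkH3_sb_mul, pkH3_sb_mul, pkH3_sb_neg]
    congr 1 <;> ring

end Cfsg.Agent.Lib.Helper3.GUSp
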