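import Mathlib
import Cfsg.Prelude
import Cfsg.Agent.Lib.Helper3.GUSp0
import Cfsg.Agent.Lib.Helper3.GUSp_A
import Cfsg.Agent.Lib.Helper3.GUSp_B
import Cfsg.Agent.Lib.Helper3.GUSp_C
import Cfsg.Agent.Lib.Helper3.GUSp_F
import Cfsg.Agent.Lib.Helper3.GUSp_H3
import Cfsg.Agent.Lib.Lead.GUSp_E
import Cfsg.Agent.Lib.Helper9.GUSp_H
import Cfsg.Agent.Lib.Helper9.GUSp_G
import Cfsg.Agent.Lib.Helper9.TensS8
import Cfsg.Agent.Lib.Helper9.TensS6
import Cfsg.Agent.Lib.Helper9.Elus3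
import Cfsg.Agent.S0245
import Cfsg.Agent.S0277

set_option autoImplicit false

/-!
S5976: assembly of the packages (PSp_2d(q), q odd, subgroups of type GU_d(q)).
-/

namespace Cfsg.Agent.Lib.Helper3.GUSp

open Module Matrix Polynomial

/-! ### assembly -/
section assembly

open Cfsg.Agent.Lib.Helper9.H9TK

theorem two_ne_zero_of_odd_card {F : Type*} [Field F] [Fintype F] (hodd : Odd (Fintype.card F)) :
    (2 : F) ≠ 0 := by
  intro h
  have h1 : ringChar F = 2 := by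
    have : ringChar F ∣ 2 := by
      apply ringChar.dvd
      exact_mod_cast h
    rcases (Nat.dvd_prime Nat.prime_two).1 this with h1 | h1
    · exfalso
      have := CharP.ringChar_ne_one (R := F)
      exact this h1
    · exact h1
  have h3 := FiniteField.even_card_of_char_two h1
  rcases hodd with ⟨k, hk⟩
  omega

theorem finrank_ker_aeval_conj {F : Type*} [Field F] {ι : Type} [Fintype ι] [DecidableEq ι]
    (g x : GL ι F) (P : F[X]) :
    finrank F (LinearMap.ker (aeval (Matrix.toLin' ((g⁻¹ * x * g : GL ι F) : Matrix ι ι F)) P)) =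
      finrank F (LinearMap.ker (aeval (Matrix.toLin' (x : Matrix ι ι F)) P)) := by
  have h1 : (g : Matrix ι ι F) * ((g⁻¹ : GL ι F) : Matrix ι ι F) = 1 := by
    rw [← Units.val_mul, mul_inv_cancel, Units.val_one]
  have h2 : ((g⁻¹ : GL ι F) : Matrix ι ι F) * (g : Matrix ι ι F) = 1 := by
    rw [← Units.val_mul, inv_mul_cancel, Units.val_one]
  have := finrank_ker_aeval_intertwine (x : Matrix ι ι F) (Matrix.toLin'OfInv h2 h1)
    (Matrix.toLin' ((g⁻¹ * x * g : GL ι F) : Matrix ι ι F)) ?_ P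
  · exact this.symm
  · intro v
    show (x : Matrix ι ι F) *ᵥ ((g : Matrix ι ι F) *ᵥ v) =
      (g : Matrix ι ι F) *ᵥ (((g⁻¹ * x * g : GL ι F) : Matrix ι ι F) *ᵥ v)
    rw [Matrix.mulVec_mulVec, Matrix.mulVec_mulVec, Units.val_mul, Units.val_mul,
      ← Matrix.mul_assoc, ← Matrix.mul_assoc, h1, Matrix.one_mul]

theorem key_conj {F : Type*} [Field F] {d : ℕ} (h2 : (2 : F) ≠ 0)
    {K : Subalgebra F (Matrix (Fin d ⊕ Fin d) (Fin d ⊕ Fin d) F)}
    {Jm : Matrix (Fin d ⊕ Fin d) (Fin d ⊕ Fin d) F} {ε : F} (S : SkewGen K Jm ε)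
    (r : ℕ) (hr : Odd r)
    (hall : ∀ x ∈ Cfsg.spGL d F, (∃ z : F, ((x ^ r : GL (Fin d ⊕ Fin d) F) :
        Matrix (Fin d ⊕ Fin d) (Fin d ⊕ Fin d) F) =
          z • (1 : Matrix (Fin d ⊕ Fin d) (Fin d ⊕ Fin d) F)) →
      (∀ z : F, (x : Matrix (Fin d ⊕ Fin d) (Fin d ⊕ Fin d) F) ≠
        z • (1 : Matrix (Fin d ⊕ Fin d) (Fin d ⊕ Fin d) F)) →
      ∃ g ∈ Cfsg.spGL d F, g⁻¹ * x * g ∈ Cfsg.Geo.subalgebraNormalizer K)
    (x : GL (Fin d ⊕ Fin d) F) (hx : x ∈ Cfsg.spGL d F)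
    (hxr : ((x ^ r : GL (Fin d ⊕ Fin d) F) : Matrix (Fin d ⊕ Fin d) (Fin d ⊕ Fin d) F) = 1)
    (hns : ∀ z : F, (x : Matrix (Fin d ⊕ Fin d) (Fin d ⊕ Fin d) F) ≠
        z • (1 : Matrix (Fin d ⊕ Fin d) (Fin d ⊕ Fin d) F)) :
    ∃ y ∈ Cfsg.spGL d F,
      ((y ^ r : GL (Fin d ⊕ Fin d) F) : Matrix (Fin d ⊕ Fin d) (Fin d ⊕ Fin d) F) = 1 ∧
      (y : Matrix (Fin d ⊕ Fin d) (Fin d ⊕ Fin d) F) * Jm =
        Jm * (y : Matrix (Fin d ⊕ Fin d) (Fin d ⊕ Fin d) F) ∧
      ∀ P : F[X], finrank F (LinearMap.ker (aeval (Matrix.toLin'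
          (y : Matrix (Fin d ⊕ Fin d) (Fin d ⊕ Fin d) F)) P)) =
        finrank F (LinearMap.ker (aeval (Matrix.toLin'
          (x : Matrix (Fin d ⊕ Fin d) (Fin d ⊕ Fin d) F)) P)) := by
  obtain ⟨g, hg, hgN⟩ := hall x hx ⟨1, by rw [hxr, one_smul]⟩ hns
  have hx1 : x ^ r = 1 := Units.ext hxr
  have hyr : (g⁻¹ * x * g) ^ r = 1 := by
    have h : g⁻¹ * x * g = g⁻¹ * x * (g⁻¹)⁻¹ := by rw [inv_inv]
    rw [h, conj_pow, hx1, mul_one, mul_inv_cancel]
  have hyr' : (((g⁻¹ * x * g) ^ r : GL (Fin d ⊕ Fin d) F) :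
      Matrix (Fin d ⊕ Fin d) (Fin d ⊕ Fin d) F) = 1 := by
    rw [hyr, Units.val_one]
  refine ⟨g⁻¹ * x * g, mul_mem (mul_mem (inv_mem hg) hx) hg, hyr', ?_, ?_⟩
  · exact comm_of_mem_norm h2 S.mem S.sq S.span S.nonsq _ hgN r hr 1 (by rw [hyr', one_smul])
  · intro P
    exact finrank_ker_aeval_conj g x P

theorem finrank_ker_sub_lt {F : Type*} [Field F] {ι : Type} [Fintype ι] [DecidableEq ι]
    (x : Matrix ι ι F) (c : F) (hns : x ≠ c • (1 : Matrix ι ι F)) :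
    finrank F (LinearMap.ker (Matrix.toLin' x - c • (1 : (ι → F) →ₗ[F] (ι → F)))) <
      Fintype.card ι := by
  have hle : finrank F (LinearMap.ker (Matrix.toLin' x - c • (1 : (ι → F) →ₗ[F] (ι → F)))) ≤
      finrank F (ι → F) := Submodule.finrank_le _
  rw [Module.finrank_fintype_fun_eq_card] at hle
  rcases Nat.lt_or_ge (finrank F (LinearMap.ker
    (Matrix.toLin' x - c • (1 : (ι → F) →ₗ[F] (ι → F))))) (Fintype.card ι) with h | h
  · exact h
  · exfalso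
    apply hns
    have htop : LinearMap.ker (Matrix.toLin' x - c • (1 : (ι → F) →ₗ[F] (ι → F))) = ⊤ := by
      apply Submodule.eq_top_of_finrank_eq
      rw [Module.finrank_fintype_fun_eq_card]
      omega
    have h1 : Matrix.toLin' x = c • (1 : (ι → F) →ₗ[F] (ι → F)) := by
      apply LinearMap.ext
      intro v
      have hv : v ∈ LinearMap.ker (Matrix.toLin' x - c • (1 : (ι → F) →ₗ[F] (ι → F))) := by
        rw [htop]; trivial
      rw [LinearMap.mem_ker, LinearMap.sub_apply, sub_eq_zero] at hv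
      exact hv
    apply Matrix.toLin'.injective
    rw [h1, map_smul, Matrix.toLin'_one]
    rfl

theorem card_mul_relIndex' {G : Type*} [Group G] (N S : Subgroup G) :
    Nat.card ↥(N ⊓ S) * N.relIndex S = Nat.card ↥S := by
  have h := Subgroup.relIndex_mul_relIndex (⊥ : Subgroup G) (N ⊓ S) S bot_le inf_le_right
  rw [Subgroup.relIndex_bot_left, Subgroup.relIndex_bot_left, Subgroup.inf_relIndex_right] at h
  exact h

theorem forward {F : Type*} [Field F] [Fintype F] {p : ℕ} [Fact p.Prime] [CharP F p] {q : ℕ}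
    (hq : Fintype.card F = q) (hodd : Odd q) (d : ℕ) (hd : 2 ≤ d)
    (K : Subalgebra F (Matrix (Fin d ⊕ Fin d) (Fin d ⊕ Fin d) F))
    (hK : Cfsg.Geo.IsFieldSubalgebra 2 K)
    (hKf : Cfsg.Geo.IsAdjointClosedFor (Cfsg.sympForm d F) K)
    (hKns : ¬ Cfsg.Geo.IsSelfAdjointFor (Cfsg.sympForm d F) K)
    (r : ℕ) [Fact r.Prime]
    (hΩ : r ∣ (Cfsg.Geo.subalgebraNormalizer K).relIndex (Cfsg.spGL d F)) (hr2 : r ≠ 2)
    (hall : ∀ x ∈ Cfsg.spGL d F, (∃ z : F, ((x ^ r : GL (Fin d ⊕ Fin d) F) :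
        Matrix (Fin d ⊕ Fin d) (Fin d ⊕ Fin d) F) =
          z • (1 : Matrix (Fin d ⊕ Fin d) (Fin d ⊕ Fin d) F)) →
      (∀ z : F, (x : Matrix (Fin d ⊕ Fin d) (Fin d ⊕ Fin d) F) ≠
        z • (1 : Matrix (Fin d ⊕ Fin d) (Fin d ⊕ Fin d) F)) →
      ∃ g ∈ Cfsg.spGL d F, g⁻¹ * x * g ∈ Cfsg.Geo.subalgebraNormalizer K) : False := by
  subst hq
  have h2 : (2 : F) ≠ 0 := two_ne_zero_of_odd_card hodd
  obtain ⟨Jm, ε, S⟩ := exists_skewGen h2 hK hKf hKns
  have hrodd : Odd r := (Fact.out : r.Prime).odd_of_ne_two hr2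
  have key := key_conj h2 S r hrodd hall
  have hcard : Fintype.card (Fin d ⊕ Fin d) = 2 * d := by
    rw [Fintype.card_sum, Fintype.card_fin]; ring
  by_cases hrp : r = p
  · subst hrp
    obtain ⟨x, hx, hxr, hns, hfix⟩ := model_transvection (F := F) r d (by omega)
    obtain ⟨y, hy, hyr, hyc, hyP⟩ := key x hx hxr hns
    have hev := even_finrank_ker_of_comm S.sq S.nonsq _ hyc (X - C 1)
    rw [hyP, aeval_X_sub_C_end] at hev
    have hlt := finrank_ker_sub_lt (x : Matrix (Fin d ⊕ Fin d) (Fin d ⊕ Fin d) F) 1 (hns 1)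
    rw [hcard] at hlt
    rcases hev with ⟨k, hk⟩
    omega
  · have hcardSp : r ∣ Nat.card ↥(Cfsg.spGL d F) :=
      dvd_trans hΩ (Subgroup.relIndex_dvd_card _ _)
    have hrq' : ¬ r ∣ Fintype.card F := by
      intro hdvd
      obtain ⟨n, hp, hn⟩ := FiniteField.card F p
      rw [hn] at hdvd
      have := (Nat.prime_dvd_prime_iff_eq (Fact.out : r.Prime) hp).1
        ((Fact.out : r.Prime).dvd_of_dvd_pow hdvd)
      exact hrp this
    rcases order_cases_of_dvd_card_sp r hrp d hcardSp with ⟨h, hh1, hhd, hi, hrq⟩ | ⟨hiodd, hid⟩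
    · rcases Nat.even_or_odd h with hhe | hho
      · obtain ⟨x, hx, hxr, hns, hker, _⟩ := model_even r hrp d h hh1 hhd hi hrq
        obtain ⟨y, hy, hyr, hyc, hyP⟩ := key x hx hxr hns
        have hε : ε ≠ 0 := fun h0 => S.nonsq 0 (by rw [h0, mul_zero])
        apply finrank_ker_cyclotomic_ne h2 hε S.sq S.skew r hrp h hhe hh1 hi hrq y hy hyr hyc
        rw [hyP, hker, hi]
      · apply index_arith (q := Fintype.card F) (r := r) (d := d) (h := h)
          (n := Nat.card ↥(Cfsg.Geo.subalgebraNormalizer K ⊓ Cfsg.spGL d F))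
          Fintype.one_lt_card hr2 hrq' hho hi (gu_card_dvd rfl hodd d (by omega) K hK hKf hKns)
        rw [← Cfsg.Agent.S0245.result rfl d, ← card_spGL' d, ← card_mul_relIndex'
          (Cfsg.Geo.subalgebraNormalizer K) (Cfsg.spGL d F), mul_comm r]
        exact Nat.mul_dvd_mul_left _ hΩ
    · by_cases hi3 : 3 ≤ orderOf ((Fintype.card F : ℕ) : ZMod r)
      · obtain ⟨x, g, hx, hxr, hns, hg, hker, _⟩ := model_odd r hrp hr2 d hi3 hiodd hid
        obtain ⟨y, hy, hyr, hyc, hyP⟩ := key x hx hxr hns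
        have hev := even_finrank_ker_of_comm S.sq S.nonsq _ hyc g
        rw [hyP, hker] at hev
        exact (Nat.not_even_iff_odd.2 hiodd) hev
      · have hpos := Cfsg.Agent.Lib.Helper5.SylTor.ord_pos hrq'
        have hi1 : orderOf ((Fintype.card F : ℕ) : ZMod r) = 1 := by
          rcases hiodd with ⟨k, hk⟩
          omega
        have hdvd : r ∣ Fintype.card F ^ 1 - 1 :=
          (Cfsg.Agent.Lib.Helper5.SylTor.dvd_pow_sub_one_iff Fintype.card_pos 1).2 (by rw [hi1])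
        rw [pow_one] at hdvd
        classical
        have hu : r ∣ Fintype.card Fˣ := by rw [Fintype.card_units]; exact hdvd
        obtain ⟨u, hu⟩ := exists_prime_orderOf_dvd_card r hu
        have hζr : (u : F) ^ r = 1 := by
          rw [← Units.val_pow_eq_pow_val, ← hu, pow_orderOf_eq_one, Units.val_one]
        have hζ1 : (u : F) ≠ 1 := by
          intro h1
          have : u = 1 := Units.ext h1
          rw [this, orderOf_one] at hu
          exact (Fact.out : r.Prime).one_lt.ne hu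
        have hζi : (u : F)⁻¹ ≠ (u : F) := by
          intro h1
          have h3 : u ^ 2 = 1 := by
            apply Units.ext
            rw [Units.val_pow_eq_pow_val, Units.val_one, pow_two]
            nth_rewrite 1 [← h1]
            exact inv_mul_cancel₀ (Units.ne_zero u)
          have h4 := orderOf_dvd_of_pow_eq_one h3
          rw [hu] at h4
          exact hr2 ((Nat.prime_dvd_prime_iff_eq (Fact.out : r.Prime) Nat.prime_two).1 h4)
        obtain ⟨x, hx, hxr, hns, _, hker⟩ := model_diag (u : F) r hζr hζ1 hζi d hd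
        obtain ⟨y, hy, hyr, hyc, hyP⟩ := key x hx hxr hns
        have hev := even_finrank_ker_of_comm S.sq S.nonsq _ hyc (X - C (u : F))
        rw [hyP, aeval_X_sub_C_end, hker] at hev
        exact absurd hev (by decide)

theorem conj_comm_pm {F : Type*} [Field F] {ι : Type} [Fintype ι] [DecidableEq ι]
    (γ P x : GL ι F) (Jm J₀ D : Matrix ι ι F)
    (hγJ : (γ : Matrix ι ι F) * Jm = J₀ * (γ : Matrix ι ι F))
    (hxP : (x : Matrix ι ι F) * (P : Matrix ι ι F) = (P : Matrix ι ι F) * D) (s : F)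
    (hD : D * J₀ = s • (J₀ * D)) :
    (((P * γ)⁻¹ * x * (P * γ) : GL ι F) : Matrix ι ι F) * Jm =
      s • (Jm * (((P * γ)⁻¹ * x * (P * γ) : GL ι F) : Matrix ι ι F)) := by
  have hP : ((P⁻¹ : GL ι F) : Matrix ι ι F) * (P : Matrix ι ι F) = 1 := by
    rw [← Units.val_mul, inv_mul_cancel, Units.val_one]
  have hγ1 : ((γ⁻¹ : GL ι F) : Matrix ι ι F) * (γ : Matrix ι ι F) = 1 := by
    rw [← Units.val_mul, inv_mul_cancel, Units.val_one]
  have hγ2 : (γ : Matrix ι ι F) * ((γ⁻¹ : GL ι F) : Matrix ι ι F) = 1 := by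
    rw [← Units.val_mul, mul_inv_cancel, Units.val_one]
  have hJi : Jm * ((γ⁻¹ : GL ι F) : Matrix ι ι F) = ((γ⁻¹ : GL ι F) : Matrix ι ι F) * J₀ := by
    calc Jm * ((γ⁻¹ : GL ι F) : Matrix ι ι F)
        = (((γ⁻¹ : GL ι F) : Matrix ι ι F) * (γ : Matrix ι ι F)) * Jm *
            ((γ⁻¹ : GL ι F) : Matrix ι ι F) := by rw [hγ1, Matrix.one_mul]
      _ = ((γ⁻¹ : GL ι F) : Matrix ι ι F) * ((γ : Matrix ι ι F) * Jm) *
            ((γ⁻¹ : GL ι F) : Matrix ι ι F) := by simp only [Matrix.mul_assoc]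
      _ = ((γ⁻¹ : GL ι F) : Matrix ι ι F) * J₀ *
            ((γ : Matrix ι ι F) * ((γ⁻¹ : GL ι F) : Matrix ι ι F)) := by
          rw [hγJ]; simp only [Matrix.mul_assoc]
      _ = ((γ⁻¹ : GL ι F) : Matrix ι ι F) * J₀ := by rw [hγ2, Matrix.mul_one]
  have hy : (((P * γ)⁻¹ * x * (P * γ) : GL ι F) : Matrix ι ι F) =
      ((γ⁻¹ : GL ι F) : Matrix ι ι F) * D * (γ : Matrix ι ι F) := by
    rw [_root_.mul_inv_rev, Units.val_mul, Units.val_mul, Units.val_mul, Units.val_mul]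
    calc ((γ⁻¹ : GL ι F) : Matrix ι ι F) * ((P⁻¹ : GL ι F) : Matrix ι ι F) * (x : Matrix ι ι F) *
          ((P : Matrix ι ι F) * (γ : Matrix ι ι F))
        = ((γ⁻¹ : GL ι F) : Matrix ι ι F) * ((P⁻¹ : GL ι F) : Matrix ι ι F) *
          ((x : Matrix ι ι F) * (P : Matrix ι ι F)) * (γ : Matrix ι ι F) := by
          simp only [Matrix.mul_assoc]
      _ = ((γ⁻¹ : GL ι F) : Matrix ι ι F) * (((P⁻¹ : GL ι F) : Matrix ι ι F) *
          (P : Matrix ι ι F)) * D * (γ : Matrix ι ι F) := by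
          rw [hxP]; simp only [Matrix.mul_assoc]
      _ = _ := by rw [hP, Matrix.mul_one]
  rw [hy]
  calc ((γ⁻¹ : GL ι F) : Matrix ι ι F) * D * (γ : Matrix ι ι F) * Jm
      = ((γ⁻¹ : GL ι F) : Matrix ι ι F) * (D * J₀) * (γ : Matrix ι ι F) := by
        rw [Matrix.mul_assoc, hγJ]; simp only [Matrix.mul_assoc]
    _ = s • (((γ⁻¹ : GL ι F) : Matrix ι ι F) * J₀ * D * (γ : Matrix ι ι F)) := by
        rw [hD, Matrix.mul_smul, Matrix.smul_mul]; simp only [Matrix.mul_assoc]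
    _ = s • (Jm * (((γ⁻¹ : GL ι F) : Matrix ι ι F) * D * (γ : Matrix ι ι F))) := by
        rw [← hJi]; simp only [Matrix.mul_assoc]

theorem backward {F : Type*} [Field F] [Fintype F] (hodd : Odd (Fintype.card F)) (d : ℕ)
    (hd : 1 ≤ d)
    (K : Subalgebra F (Matrix (Fin d ⊕ Fin d) (Fin d ⊕ Fin d) F))
    (hK : Cfsg.Geo.IsFieldSubalgebra 2 K)
    (hKf : Cfsg.Geo.IsAdjointClosedFor (Cfsg.sympForm d F) K)
    (hKns : ¬ Cfsg.Geo.IsSelfAdjointFor (Cfsg.sympForm d F) K)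
    (x : GL (Fin d ⊕ Fin d) F) (hx : x ∈ Cfsg.spGL d F) (z : F)
    (hz : ((x ^ 2 : GL (Fin d ⊕ Fin d) F) : Matrix (Fin d ⊕ Fin d) (Fin d ⊕ Fin d) F) =
      z • (1 : Matrix (Fin d ⊕ Fin d) (Fin d ⊕ Fin d) F)) :
    ∃ g ∈ Cfsg.spGL d F, g⁻¹ * x * g ∈ Cfsg.Geo.subalgebraNormalizer K := by
  have h2 : (2 : F) ≠ 0 := two_ne_zero_of_odd_card hodd
  have hodd' : Fintype.card F % 2 = 1 := Nat.odd_iff.1 hodd
  obtain ⟨Jm, ε, S, γ, hγ, hγJ⟩ := exists_std_form h2 d K hK hKf hKns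
  have hε : ε ≠ 0 := fun h0 => S.nonsq 0 (by rw [h0, mul_zero])
  have hxx : (x : Matrix (Fin d ⊕ Fin d) (Fin d ⊕ Fin d) F) *
      (x : Matrix (Fin d ⊕ Fin d) (Fin d ⊕ Fin d) F) =
        z • (1 : Matrix (Fin d ⊕ Fin d) (Fin d ⊕ Fin d) F) := by
    rw [← hz, pow_two, Units.val_mul]
  -- z = ±1
  have hzz : z * z = 1 := by
    have hu : (Pi.single (Sum.inl ⟨0, by omega⟩) 1 : Fin d ⊕ Fin d → F) ≠ 0 := by
      intro h0
      have := congrFun h0 (Sum.inl ⟨0, by omega⟩)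
      rw [Pi.single_eq_same] at this
      exact one_ne_zero this
    obtain ⟨v, hv⟩ : ∃ v, Cfsg.sympForm d F (Pi.single (Sum.inl ⟨0, by omega⟩) 1) v ≠ 0 := by
      by_contra hcon
      simp only [not_exists, not_not] at hcon
      exact hu (Cfsg.Agent.Lib.Helper2.SpIsom.sympForm_nondeg _ hcon)
    set u : Fin d ⊕ Fin d → F := Pi.single (Sum.inl ⟨0, by omega⟩) 1 with hu_def
    have h1 := hx ((x : Matrix (Fin d ⊕ Fin d) (Fin d ⊕ Fin d) F) *ᵥ u)
      ((x : Matrix (Fin d ⊕ Fin d) (Fin d ⊕ Fin d) F) *ᵥ v)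
    have h1' := hx u v
    change Cfsg.sympForm d F ((x : Matrix (Fin d ⊕ Fin d) (Fin d ⊕ Fin d) F) *ᵥ _)
      ((x : Matrix (Fin d ⊕ Fin d) (Fin d ⊕ Fin d) F) *ᵥ _) = _ at h1 h1'
    rw [Matrix.mulVec_mulVec, Matrix.mulVec_mulVec, hxx, h1', Matrix.smul_mulVec,
      Matrix.smul_mulVec, Matrix.one_mulVec, Matrix.one_mulVec,
      Cfsg.Agent.Lib.Helper2.Symp.sympForm_smul_left,
      Cfsg.Agent.Lib.Helper2.Symp.sympForm_smul_right] at h1
    have h3 : (z * z - 1) * Cfsg.sympForm d F u v = 0 := by linear_combination h1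
    rcases mul_eq_zero.1 h3 with h | h
    · exact sub_eq_zero.1 h
    · exact absurd h hv
  have hz1 : z = 1 ∨ z = -1 := by
    have : (z - 1) * (z + 1) = 0 := by linear_combination hzz
    rcases mul_eq_zero.1 this with h | h
    · left; exact sub_eq_zero.1 h
    · right; exact eq_neg_of_add_eq_zero_left h
  rcases hz1 with hz1 | hz1
  · rw [hz1, one_smul] at hxx
    obtain ⟨P, hP, s, hPs⟩ := conj_diag_of_sq_one h2 d x hx hxx
    refine ⟨P * γ, mul_mem hP hγ, ?_⟩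
    apply mem_norm_of_pm S.mem S.span
    left
    have := conj_comm_pm γ P x Jm _ _ hγJ hPs 1 ?_
    · rw [one_smul] at this; exact this
    · rw [one_smul, Matrix.fromBlocks_multiply, Matrix.fromBlocks_multiply]
      simp
  · rw [hz1, neg_smul, one_smul] at hxx
    obtain ⟨x', hx', hx'2, hx'J⟩ := exists_anti_model hodd' d ε hε
    obtain ⟨P, hP, hPx⟩ := conj_of_sq_neg_one hodd' d x x' hx hx' hxx hx'2
    refine ⟨P * γ, mul_mem hP hγ, ?_⟩
    apply mem_norm_of_pm S.mem S.span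
    right
    have hPx' : (x : Matrix (Fin d ⊕ Fin d) (Fin d ⊕ Fin d) F) *
        (P : Matrix (Fin d ⊕ Fin d) (Fin d ⊕ Fin d) F) =
        (P : Matrix (Fin d ⊕ Fin d) (Fin d ⊕ Fin d) F) *
          (x' : Matrix (Fin d ⊕ Fin d) (Fin d ⊕ Fin d) F) := by
      rw [← Units.val_mul, hPx, Units.val_mul]
    have := conj_comm_pm γ P x Jm _ _ hγJ hPx' (-1) ?_
    · rw [neg_smul, one_smul] at this; exact this
    · rw [neg_smul, one_smul]; exact hx'J

end assembly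

end Cfsg.Agent.Lib.Helper3.GUSp
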