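import Mathlib
import Cfsg.Prelude
import Cfsg.Agent.Lib.Helper3.FEO1
import Cfsg.Agent.Lib.Helper3.GUSp_Asm
import Cfsg.Agent.Lib.Helper2.OrthNdB

set_option autoImplicit false

/-!
S5977 / S5978: the quadratic character of the norm from `L = F(√ε)` to `F`.
-/

namespace Cfsg.Agent.Lib.Helper3.FEO

open Module QuadraticMap

section normchar

variable {F : Type*} [Field F] [Fintype F] {ε : F} [hε : Fact (∀ r : F, r ^ 2 ≠ ε + 0 * r)]

omit hε in
theorem card_LL [Fintype (LL F ε)] : Fintype.card (LL F ε) = Fintype.card F ^ 2 := by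
  rw [Fintype.card_congr (QuadraticAlgebra.equivProd ε 0), Fintype.card_prod, pow_two]

theorem ringChar_ne_two_of_odd {K : Type*} [Field K] [Fintype K] (hodd : Odd (Fintype.card K)) :
    ringChar K ≠ 2 := by
  intro h
  have := FiniteField.even_card_of_char_two h
  rw [Nat.odd_iff] at hodd
  omega

include hε in
theorem eps_pow (hodd : Odd (Fintype.card F)) : ε ^ (Fintype.card F / 2) = -1 := by
  have hF := ringChar_ne_two_of_odd hodd
  have hε0 : ε ≠ 0 := by
    intro h0
    apply hε.out 0
    rw [h0]; ring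
  rcases FiniteField.pow_dichotomy hF hε0 with h | h
  · exfalso
    obtain ⟨r, hr⟩ := (FiniteField.isSquare_iff hF hε0).2 h
    apply hε.out r
    rw [hr]; ring
  · exact h

theorem omega_pow_card (hodd : Odd (Fintype.card F)) :
    (QuadraticAlgebra.omega : LL F ε) ^ (Fintype.card F) = -QuadraticAlgebra.omega := by
  have h1 : Fintype.card F = 2 * (Fintype.card F / 2) + 1 := by
    rw [Nat.odd_iff] at hodd
    omega
  rw [h1, pow_succ, pow_mul, pow_two, QuadraticAlgebra.omega_mul_omega_eq_algebraMap, map_zero,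
    zero_mul, add_zero, ← map_pow, eps_pow hodd, map_neg, map_one, neg_one_mul]

theorem pow_card_eq_star (hodd : Odd (Fintype.card F)) (z : LL F ε) :
    z ^ (Fintype.card F) = star z := by
  obtain ⟨p, hp⟩ := CharP.exists F
  have hpp : Fact p.Prime := ⟨CharP.char_is_prime F p⟩
  obtain ⟨n, -, hn⟩ := FiniteField.card F p
  have : CharP (LL F ε) p := charP_of_injective_algebraMap (algebraMap F (LL F ε)).injective p
  have hz : z = algebraMap F (LL F ε) z.re + algebraMap F (LL F ε) z.im * QuadraticAlgebra.omega := by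
    ext
    · simp
    · simp
  have hs : star z =
      algebraMap F (LL F ε) z.re - algebraMap F (LL F ε) z.im * QuadraticAlgebra.omega := by
    ext
    · simp
    · simp
  rw [hs]
  nth_rewrite 1 [hz]
  have hn' : Fintype.card F = p ^ (n : ℕ) := hn
  rw [hn', add_pow_char_pow, mul_pow, ← hn', omega_pow_card hodd, ← map_pow, ← map_pow,
    FiniteField.pow_card, FiniteField.pow_card]
  ring

theorem algebraMap_norm_eq_pow (hodd : Odd (Fintype.card F)) (z : LL F ε) :
    algebraMap F (LL F ε) (QuadraticAlgebra.norm z) = z ^ (Fintype.card F + 1) := by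
  rw [QuadraticAlgebra.algebraMap_norm_eq_mul_star, pow_succ, pow_card_eq_star hodd, mul_comm]

theorem quadraticChar_norm [DecidableEq F] [Fintype (LL F ε)] [DecidableEq (LL F ε)]
    (hodd : Odd (Fintype.card F)) (z : LL F ε) :
    quadraticChar F (QuadraticAlgebra.norm z) = quadraticChar (LL F ε) z := by
  have hF := ringChar_ne_two_of_odd hodd
  have hoddL : Odd (Fintype.card (LL F ε)) := by
    rw [card_LL]
    exact hodd.pow
  have hL := ringChar_ne_two_of_odd hoddL
  by_cases hz : z = 0
  · rw [hz, QuadraticAlgebra.norm_zero, MulChar.map_zero, MulChar.map_zero]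
  have hnz : QuadraticAlgebra.norm z ≠ 0 := by
    rw [ne_eq, QuadraticAlgebra.norm_eq_zero_iff_eq_zero]
    exact hz
  apply Int.cast_injOn_of_ringChar_ne_two hL
  · rcases quadraticChar_dichotomy hnz with h | h
    · rw [h]; simp
    · rw [h]; simp
  · rcases quadraticChar_dichotomy hz with h | h
    · rw [h]; simp
    · rw [h]; simp
  · have h1 := quadraticChar_eq_pow_of_char_ne_two' hL z
    have h3 := congrArg (algebraMap F (LL F ε))
      (quadraticChar_eq_pow_of_char_ne_two' hF (QuadraticAlgebra.norm z))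
    rw [map_intCast, map_pow, algebraMap_norm_eq_pow hodd, ← pow_mul] at h3
    rw [h1, h3, card_LL]
    congr 1
    rw [Nat.odd_iff] at hodd
    obtain ⟨t, ht⟩ : ∃ t, Fintype.card F = 2 * t + 1 := ⟨Fintype.card F / 2, by omega⟩
    rw [ht]
    have e1 : (2 * t + 1) / 2 = t := by omega
    have e2 : (2 * t + 1) ^ 2 / 2 = 2 * t * (t + 1) := by
      have : (2 * t + 1) ^ 2 = 2 * (2 * t * (t + 1)) + 1 := by ring
      omega
    rw [e1, e2]
    ring

end normchar

section disc

open Cfsg.Agent.Lib.Helper2.OrthNd Cfsg.Agent.Lib.Helper2.OrthEl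

variable {F : Type*} [Field F] {V : Type*} [AddCommGroup V] [Module F V]
  {Q : QuadraticForm F V} {ε : F}

instance (j : JOp Q ε) [FiniteDimensional F V] : Module.Finite (LL F ε) (VS j) :=
  Module.Finite.of_restrictScalars_finite F (LL F ε) (VS j)

theorem BS_im (j : JOp Q ε) (u v : VS j) :
    (BS j u v).im = polar (⇑Q) (show V from u) (show V from v) := rfl

theorem BS_re (j : JOp Q ε) (u v : VS j) :
    (BS j u v).re = polar (⇑Q) (j.S (show V from u)) (show V from v) := rfl

theorem polar_smul_smul (j : JOp Q ε) (z₁ z₂ : LL F ε) (u v : VS j) :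
    polar (⇑Q) (show V from z₁ • u) (show V from z₂ • v) = (z₁ * z₂ * BS j u v).im := by
  rw [← BS_im j (z₁ • u) (z₂ • v), LinearMap.map_smul₂, map_smul, smul_eq_mul,
    smul_eq_mul, mul_assoc]

theorem basis_zero_eq : (QuadraticAlgebra.basis ε 0 : Basis (Fin 2) F (LL F ε)) 0 = 1 := by
  apply (QuadraticAlgebra.basis ε 0).repr.injective
  rw [Basis.repr_self]
  ext i
  fin_cases i <;> simp [QuadraticAlgebra.re_one, QuadraticAlgebra.im_one]

theorem basis_one_eq :
    (QuadraticAlgebra.basis ε 0 : Basis (Fin 2) F (LL F ε)) 1 = QuadraticAlgebra.omega := by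
  apply (QuadraticAlgebra.basis ε 0).repr.injective
  rw [Basis.repr_self]
  ext i
  fin_cases i <;> simp

/-- the Gram block of the plane `⟨v, S v⟩` -/
noncomputable def gramBlock (ε : F) (c : LL F ε) : Matrix (Fin 2) (Fin 2) F :=
  fun k l => ((QuadraticAlgebra.basis ε 0 : Basis (Fin 2) F (LL F ε)) k *
    (QuadraticAlgebra.basis ε 0 : Basis (Fin 2) F (LL F ε)) l * c).im

theorem det_gramBlock (c : LL F ε) : (gramBlock ε c).det = -QuadraticAlgebra.norm c := by
  rw [Matrix.det_fin_two]
  unfold gramBlock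
  simp only [basis_zero_eq, basis_one_eq, QuadraticAlgebra.norm_def]
  simp only [one_mul, QuadraticAlgebra.im_mul, QuadraticAlgebra.re_mul, QuadraticAlgebra.omega_re,
    QuadraticAlgebra.omega_im, QuadraticAlgebra.re_one, QuadraticAlgebra.im_one]
  ring

theorem two_ne_zero_LL (h2 : (2 : F) ≠ 0) : (2 : LL F ε) ≠ 0 := by
  intro h
  apply h2
  have h1 := congrArg QuadraticAlgebra.re h
  rw [QuadraticAlgebra.re_ofNat, QuadraticAlgebra.re_zero] at h1
  exact h1

/-- the discriminant characters of `Q` and of the `L`-form `QS j` -/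
theorem dch_eq_dch_QS [Fintype F] [DecidableEq F] [FiniteDimensional F V]
    [hε : Fact (∀ r : F, r ^ 2 ≠ ε + 0 * r)] [Fintype (LL F ε)] [DecidableEq (LL F ε)]
    (hodd : Odd (Fintype.card F)) (hQ : (polarBilin Q).Nondegenerate) (j : JOp Q ε) :
    dch Q = (quadraticChar F (-1)) ^ (finrank (LL F ε) (VS j)) * dch (QS j) := by
  have h2 : (2 : F) ≠ 0 := Cfsg.Agent.Lib.Helper3.GUSp.two_ne_zero_of_odd_card hodd
  have h2L : (2 : LL F ε) ≠ 0 := two_ne_zero_LL h2
  obtain ⟨b, hb, hne⟩ := exists_orthogonal_basis' h2L (QS_nondeg h2 hQ j)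
  let B' : Basis (Fin 2 × Fin (finrank (LL F ε) (VS j))) F V :=
    (show Basis (Fin 2 × Fin (finrank (LL F ε) (VS j))) F (VS j) from
      (QuadraticAlgebra.basis ε 0).smulTower b)
  have hB' : ∀ k i, B' (k, i) =
      (show V from (QuadraticAlgebra.basis ε 0 : Basis (Fin 2) F (LL F ε)) k • b i) := by
    intro k i
    exact Basis.smulTower_apply (QuadraticAlgebra.basis ε 0) b (k, i)
  have hG : LinearMap.BilinForm.toMatrix B' (polarBilin Q) =
      Matrix.blockDiagonal (fun i => gramBlock ε (BS j (b i) (b i))) := by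
    ext ⟨k, i⟩ ⟨l, i'⟩
    rw [LinearMap.BilinForm.toMatrix_apply, polarBilin_apply_apply, hB', hB', polar_smul_smul,
      Matrix.blockDiagonal_apply]
    by_cases hii : i = i'
    · subst hii
      rw [if_pos rfl]
      rfl
    · rw [if_neg hii]
      have h3 := hb i i' hii
      rw [polar_QS h2] at h3
      rw [h3, mul_zero]
      rfl
  rw [← dch_eq_of_basis Q B', hG, Matrix.det_blockDiagonal, dch_of_orthogonal (QS j) b hb]
  simp_rw [det_gramBlock]
  have hc : ∀ i, 2 * QS j (b i) = BS j (b i) (b i) := by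
    intro i
    rw [← polar_QS h2 j (b i) (b i), polar_self, two_smul, two_mul]
  simp_rw [hc]
  rw [map_prod, map_prod]
  have h4 : ∀ i, quadraticChar F (-QuadraticAlgebra.norm (BS j (b i) (b i))) =
      quadraticChar F (-1) * quadraticChar (LL F ε) (BS j (b i) (b i)) := by
    intro i
    rw [← quadraticChar_norm hodd, ← map_mul, neg_one_mul]
  simp_rw [h4]
  rw [Finset.prod_mul_distrib, Finset.prod_const, Finset.card_univ, Fintype.card_fin]

end disc

end Cfsg.Agent.Lib.Helper3.FEO
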