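import Mathlib
import Cfsg.Prelude
import Cfsg.Agent.Lib.Helper3.FEO0
import Cfsg.Agent.Lib.Helper2.OrthElA

set_option autoImplicit false

/-!
S5977 / S5978, package FO-A, part 2: from an orthogonal frame of planes adapted to `x`, build a
self-adjoint `S` with `S² = ε` preserving the planes, and show that `x` (anti)commutes with every
conjugate of `S` by an isometry supported on the first plane.
-/

namespace Cfsg.Agent.Lib.Helper3.FEO

open Module QuadraticMap Polynomial
open Cfsg.Agent.Lib.Helper2.MaxTS2 Cfsg.Agent.Lib.Helper2.OrthEl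

section construct

variable {F : Type*} [Field F] {V : Type*} [AddCommGroup V] [Module F V]
  {Q : QuadraticForm F V} {n : ℕ}

/-- images of the frame vectors under `S` -/
noncomputable def imgS (Q : QuadraticForm F V) (b : Basis (Fin n × Fin 2) F V) (s t : Fin n → F)
    (i : Fin n × Fin 2) : V :=
  if i.2 = 0 then s i.1 • b (i.1, 0) + (Q (b (i.1, 0)) / Q (b (i.1, 1)) * t i.1) • b (i.1, 1)
  else t i.1 • b (i.1, 0) - s i.1 • b (i.1, 1)

/-- the operator `S` attached to a frame -/
noncomputable def mkS (Q : QuadraticForm F V) (b : Basis (Fin n × Fin 2) F V) (s t : Fin n → F) :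
    V →ₗ[F] V := b.constr F (imgS Q b s t)

variable (b : Basis (Fin n × Fin 2) F V) (s t : Fin n → F)

theorem mkS_zero (k : Fin n) :
    mkS Q b s t (b (k, 0)) =
      s k • b (k, 0) + (Q (b (k, 0)) / Q (b (k, 1)) * t k) • b (k, 1) := by
  unfold mkS
  rw [Basis.constr_basis]
  unfold imgS
  rw [if_pos rfl]

theorem mkS_one (k : Fin n) :
    mkS Q b s t (b (k, 1)) = t k • b (k, 0) - s k • b (k, 1) := by
  unfold mkS
  rw [Basis.constr_basis]
  unfold imgS
  rw [if_neg (by simp)]

variable {b}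

theorem frame_polar (horth : ∀ i j, i ≠ j → polar (⇑Q) (b i) (b j) = 0) (i j : Fin n × Fin 2) :
    polar (⇑Q) (b i) (b j) = if i = j then 2 * Q (b i) else 0 := by
  by_cases h : i = j
  · subst h
    rw [if_pos rfl, polar_self, two_smul, two_mul]
  · rw [if_neg h]
    exact horth i j h

theorem mkS_sq {ε : F}
    (hst : ∀ k, s k ^ 2 + Q (b (k, 0)) / Q (b (k, 1)) * t k ^ 2 = ε) (v : V) :
    mkS Q b s t (mkS Q b s t v) = ε • v := by
  have h : (mkS Q b s t) ∘ₗ (mkS Q b s t) = ε • LinearMap.id := by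
    apply b.ext
    rintro ⟨k, j⟩
    rw [LinearMap.comp_apply, LinearMap.smul_apply, LinearMap.id_apply]
    fin_cases j
    · show mkS Q b s t (mkS Q b s t (b (k, 0))) = ε • b (k, 0)
      rw [mkS_zero, map_add, map_smul, map_smul, mkS_zero, mkS_one, ← hst k]
      module
    · show mkS Q b s t (mkS Q b s t (b (k, 1))) = ε • b (k, 1)
      rw [mkS_one, map_sub, map_smul, map_smul, mkS_zero, mkS_one, ← hst k]
      module
  have := congrArg (fun f : V →ₗ[F] V => f v) h
  simpa using this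

theorem mkS_adj (horth : ∀ i j, i ≠ j → polar (⇑Q) (b i) (b j) = 0) (hne : ∀ i, Q (b i) ≠ 0)
    (u v : V) :
    polar (⇑Q) (mkS Q b s t u) v = polar (⇑Q) u (mkS Q b s t v) := by
  have h : (polarBilin Q).compl₁₂ (mkS Q b s t) LinearMap.id =
      (polarBilin Q).compl₁₂ LinearMap.id (mkS Q b s t) := by
    apply LinearMap.ext_basis b b
    rintro ⟨k, j⟩ ⟨k', j'⟩
    simp only [LinearMap.compl₁₂_apply, LinearMap.id_apply, polarBilin_apply_apply]
    have hc := hne (k, 1)
    have hc' := hne (k', 1)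
    fin_cases j <;> fin_cases j'
    · show polar (⇑Q) (mkS Q b s t (b (k, 0))) (b (k', 0)) =
        polar (⇑Q) (b (k, 0)) (mkS Q b s t (b (k', 0)))
      rw [mkS_zero, mkS_zero]
      simp only [polar_add_left, polar_add_right, polar_smul_left, polar_smul_right,
        frame_polar horth, smul_eq_mul, Prod.mk.injEq]
      by_cases hk : k = k'
      · subst hk
        simp
      · simp [hk]
    · show polar (⇑Q) (mkS Q b s t (b (k, 0))) (b (k', 1)) =
        polar (⇑Q) (b (k, 0)) (mkS Q b s t (b (k', 1)))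
      rw [mkS_zero, mkS_one]
      simp only [polar_add_left, polar_sub_right, polar_smul_left, polar_smul_right,
        frame_polar horth, smul_eq_mul, Prod.mk.injEq]
      by_cases hk : k = k'
      · subst hk
        simp
        field_simp
      · simp [hk]
    · show polar (⇑Q) (mkS Q b s t (b (k, 1))) (b (k', 0)) =
        polar (⇑Q) (b (k, 1)) (mkS Q b s t (b (k', 0)))
      rw [mkS_one, mkS_zero]
      simp only [polar_sub_left, polar_add_right, polar_smul_left, polar_smul_right,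
        frame_polar horth, smul_eq_mul, Prod.mk.injEq]
      by_cases hk : k = k'
      · subst hk
        simp
        field_simp
      · simp [hk]
    · show polar (⇑Q) (mkS Q b s t (b (k, 1))) (b (k', 1)) =
        polar (⇑Q) (b (k, 1)) (mkS Q b s t (b (k', 1)))
      rw [mkS_one, mkS_one]
      simp only [polar_sub_left, polar_sub_right, polar_smul_left, polar_smul_right,
        frame_polar horth, smul_eq_mul, Prod.mk.injEq]
      by_cases hk : k = k'
      · subst hk
        simp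
      · simp [hk]
  have h1 := congrArg (fun B : LinearMap.BilinForm F V => B u v) h
  simpa [LinearMap.compl₁₂_apply] using h1

theorem mkS_isJ {ε : F} (horth : ∀ i j, i ≠ j → polar (⇑Q) (b i) (b j) = 0)
    (hne : ∀ i, Q (b i) ≠ 0)
    (hst : ∀ k, s k ^ 2 + Q (b (k, 0)) / Q (b (k, 1)) * t k ^ 2 = ε) :
    IsJ Q ε (mkS Q b s t) :=
  ⟨mkS_sq s t hst, mkS_adj s t horth hne⟩

end construct

section planes

variable {F : Type*} [Field F] {V : Type*} [AddCommGroup V] [Module F V]
  {Q : QuadraticForm F V} {n : ℕ}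

/-- the `k`-th plane of the frame -/
def plane (b : Basis (Fin n × Fin 2) F V) (k : Fin n) : Submodule F V :=
  Submodule.span F (Set.range fun j : Fin 2 => b (k, j))

variable {b : Basis (Fin n × Fin 2) F V}

theorem mem_plane (k : Fin n) (v : V) :
    v ∈ plane b k ↔ ∃ α β : F, α • b (k, 0) + β • b (k, 1) = v := by
  unfold plane
  rw [Submodule.mem_span_range_iff_exists_fun]
  constructor
  · rintro ⟨c, hc⟩
    rw [Fin.sum_univ_two] at hc
    exact ⟨c 0, c 1, hc⟩
  · rintro ⟨α, β, h⟩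
    refine ⟨![α, β], ?_⟩
    rw [Fin.sum_univ_two]
    simpa using h

theorem basis_mem_plane (k : Fin n) (j : Fin 2) : b (k, j) ∈ plane b k :=
  Submodule.subset_span ⟨j, rfl⟩

theorem finrank_plane (k : Fin n) : finrank F (plane b k) = 2 := by
  unfold plane
  have hli : LinearIndependent F (fun j : Fin 2 => b (k, j)) :=
    b.linearIndependent.comp (fun j : Fin 2 => (k, j)) (fun j j' h => (Prod.mk.inj h).2)
  rw [finrank_span_eq_card hli, Fintype.card_fin]

theorem mkS_mem_plane (s t : Fin n → F) (k : Fin n) (v : V) (hv : v ∈ plane b k) :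
    mkS Q b s t v ∈ plane b k := by
  obtain ⟨α, β, rfl⟩ := (mem_plane k v).1 hv
  rw [map_add, map_smul, map_smul, mkS_zero, mkS_one]
  refine Submodule.add_mem _ (Submodule.smul_mem _ _ ?_) (Submodule.smul_mem _ _ ?_)
  · exact Submodule.add_mem _ (Submodule.smul_mem _ _ (basis_mem_plane k 0))
      (Submodule.smul_mem _ _ (basis_mem_plane k 1))
  · exact Submodule.sub_mem _ (Submodule.smul_mem _ _ (basis_mem_plane k 0))
      (Submodule.smul_mem _ _ (basis_mem_plane k 1))

theorem plane_orth (horth : ∀ i j, i ≠ j → polar (⇑Q) (b i) (b j) = 0) (k k' : Fin n)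
    (hk : k ≠ k') (u v : V) (hu : u ∈ plane b k) (hv : v ∈ plane b k') :
    polar (⇑Q) u v = 0 := by
  obtain ⟨α, β, rfl⟩ := (mem_plane k u).1 hu
  obtain ⟨α', β', rfl⟩ := (mem_plane k' v).1 hv
  have h : ∀ j j' : Fin 2, polar (⇑Q) (b (k, j)) (b (k', j')) = 0 := by
    intro j j'
    apply horth
    intro h
    exact hk (Prod.mk.inj h).1
  simp only [polar_add_left, polar_add_right, polar_smul_left, polar_smul_right, h, smul_zero,
    add_zero]

theorem ndeg_plane (horth : ∀ i j, i ≠ j → polar (⇑Q) (b i) (b j) = 0)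
    (hne : ∀ i, Q (b i) ≠ 0) (h2 : (2 : F) ≠ 0) (k : Fin n) : NDeg Q (plane b k) := by
  unfold NDeg
  rw [Submodule.disjoint_def]
  intro v hv hv'
  obtain ⟨α, β, rfl⟩ := (mem_plane k v).1 hv
  rw [mem_perp_iff] at hv'
  have h0 := hv' _ (basis_mem_plane k 0)
  have h1 := hv' _ (basis_mem_plane k 1)
  simp only [polar_add_right, polar_smul_right, frame_polar horth, smul_eq_mul,
    Prod.mk.injEq, true_and] at h0 h1
  simp at h0 h1
  have hα : α = 0 := by
    rcases h0 with h | h
    · exact h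
    · rcases h with h | h
      · exact absurd h h2
      · exact absurd h (hne _)
  have hβ : β = 0 := by
    rcases h1 with h | h
    · exact h
    · rcases h with h | h
      · exact absurd h h2
      · exact absurd h (hne _)
  rw [hα, hβ, zero_smul, zero_smul, add_zero]

end planes

section core

variable {F : Type*} [Field F] {V : Type*} [AddCommGroup V] [Module F V]
  {Q : QuadraticForm F V} {n : ℕ} {b : Basis (Fin n × Fin 2) F V}

theorem iso_polar' (ρ : V ≃ₗ[F] V) (hρQ : ∀ v, Q (ρ v) = Q v) (u v : V) :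
    polar (⇑Q) (ρ u) (ρ v) = polar (⇑Q) u v := by
  unfold polar
  rw [← map_add, hρQ, hρQ, hρQ]

theorem conjL_isJ {ε : F} {S : V →ₗ[F] V} (hS : IsJ Q ε S) (ρ : V ≃ₗ[F] V)
    (hρQ : ∀ v, Q (ρ v) = Q v) : IsJ Q ε (conjL ρ S) := by
  refine ⟨?_, ?_⟩
  · intro v
    rw [conjL_apply, conjL_apply, LinearEquiv.symm_apply_apply, hS.sq, map_smul,
      LinearEquiv.apply_symm_apply]
  · intro u v
    rw [conjL_apply, conjL_apply]
    have h1 := iso_polar' ρ hρQ (S (ρ.symm u)) (ρ.symm v)
    rw [LinearEquiv.apply_symm_apply] at h1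
    have h3 := iso_polar' ρ hρQ (ρ.symm u) (S (ρ.symm v))
    rw [LinearEquiv.apply_symm_apply] at h3
    rw [h1, h3]
    exact hS.adj _ _

/-- **core of FO-A** -/
theorem adapted_core {ε : F} (hn : 0 < n)
    (horth : ∀ i j, i ≠ j → polar (⇑Q) (b i) (b j) = 0)
    (S : V →ₗ[F] V) (hS : IsJ Q ε S) (hSP : ∀ k, ∀ v ∈ plane b k, S v ∈ plane b k)
    (x : V →ₗ[F] V) (σ : F)
    (hPL : ∀ k, ∀ T : V →ₗ[F] V, IsJ Q ε T → (∀ v ∈ plane b k, T v ∈ plane b k) →
      ∀ v ∈ plane b k, x (T v) = σ • T (x v))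
    (ρ : V ≃ₗ[F] V) (hρQ : ∀ v, Q (ρ v) = Q v)
    (hρP : ∀ v ∈ plane b ⟨0, hn⟩, ρ v ∈ plane b ⟨0, hn⟩)
    (hρfix : ∀ v, (∀ w ∈ plane b ⟨0, hn⟩, polar (⇑Q) w v = 0) → ρ v = v) :
    x * conjL ρ S = σ • (conjL ρ S * x) := by
  have hT := conjL_isJ hS ρ hρQ
  -- ρ⁻¹ preserves the first plane
  have hρP' : ∀ v ∈ plane b ⟨0, hn⟩, ρ.symm v ∈ plane b ⟨0, hn⟩ := by
    have hle : Submodule.map ρ.toLinearMap (plane b ⟨0, hn⟩) ≤ plane b ⟨0, hn⟩ := by
      rintro _ ⟨v, hv, rfl⟩
      exact hρP v hv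
    have heq : Submodule.map ρ.toLinearMap (plane b ⟨0, hn⟩) = plane b ⟨0, hn⟩ := by
      have : FiniteDimensional F (plane b ⟨0, hn⟩) := by
        apply Module.finite_of_finrank_pos
        rw [finrank_plane]
        norm_num
      apply Submodule.eq_of_le_of_finrank_eq hle
      exact LinearEquiv.finrank_map_eq ρ _
    intro v hv
    rw [← heq] at hv
    obtain ⟨w, hw, rfl⟩ := hv
    show ρ.symm (ρ w) ∈ _
    rw [LinearEquiv.symm_apply_apply]
    exact hw
  -- the conjugate preserves every plane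
  have hTP : ∀ k, ∀ v ∈ plane b k, conjL ρ S v ∈ plane b k := by
    intro k v hv
    rw [conjL_apply]
    by_cases hk : k = ⟨0, hn⟩
    · subst hk
      exact hρP _ (hSP _ _ (hρP' v hv))
    · have hfix : ∀ w ∈ plane b k, ρ w = w := by
        intro w hw
        apply hρfix
        intro u hu
        exact plane_orth horth _ _ (fun h => hk h.symm) u w hu hw
      have h1 : ρ.symm v = v := by
        rw [LinearEquiv.symm_apply_eq]
        exact (hfix v hv).symm
      rw [h1, hfix _ (hSP k v hv)]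
      exact hSP k v hv
  apply b.ext
  rintro ⟨k, j⟩
  rw [Module.End.mul_apply, LinearMap.smul_apply, Module.End.mul_apply]
  exact hPL k (conjL ρ S) hT (hTP k) _ (basis_mem_plane k j)

end core

section planeLemma

variable {F : Type*} [Field F] {V : Type*} [AddCommGroup V] [Module F V]
  {Q : QuadraticForm F V} {n : ℕ} {b : Basis (Fin n × Fin 2) F V}

/-- planes on which `x` is a scalar -/
theorem pl_scalar {ε : F} (x : V →ₗ[F] V) (k : Fin n) (c : F)
    (hx : ∀ j, x (b (k, j)) = c • b (k, j))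
    (T : V →ₗ[F] V) (_hT : IsJ Q ε T) (hTP : ∀ v ∈ plane b k, T v ∈ plane b k)
    (v : V) (hv : v ∈ plane b k) : x (T v) = (1 : F) • T (x v) := by
  have hxs : ∀ w ∈ plane b k, x w = c • w := by
    intro w hw
    obtain ⟨α, β, rfl⟩ := (mem_plane k w).1 hw
    rw [map_add, map_smul, map_smul, hx, hx]
    module
  rw [one_smul, hxs _ (hTP v hv), hxs v hv, map_smul]

/-- planes on which `x` is a rotation `u ↦ u' ↦ -u` -/
theorem pl_rot {ε : F} (h2 : (2 : F) ≠ 0) (hε : ¬ IsSquare ε)
    (horth : ∀ i j, i ≠ j → polar (⇑Q) (b i) (b j) = 0) (hne : ∀ i, Q (b i) ≠ 0)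
    (x : V →ₗ[F] V) (k : Fin n)
    (hx0 : x (b (k, 0)) = b (k, 1)) (hx1 : x (b (k, 1)) = -b (k, 0))
    (hQ01 : Q (b (k, 1)) = Q (b (k, 0)))
    (T : V →ₗ[F] V) (hT : IsJ Q ε T) (hTP : ∀ v ∈ plane b k, T v ∈ plane b k)
    (v : V) (hv : v ∈ plane b k) : x (T v) = (-1 : F) • T (x v) := by
  obtain ⟨α, β, h0⟩ := (mem_plane k _).1 (hTP _ (basis_mem_plane k 0))
  obtain ⟨γ, δ, h1⟩ := (mem_plane k _).1 (hTP _ (basis_mem_plane k 1))
  have ha := hne (k, 0)
  -- self-adjointness: β = γ
  have hβγ : β = γ := by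
    have h3 := hT.adj (b (k, 0)) (b (k, 1))
    rw [← h0, ← h1] at h3
    simp only [polar_add_left, polar_add_right, polar_smul_left, polar_smul_right,
      frame_polar horth, smul_eq_mul, Prod.mk.injEq, true_and] at h3
    simp at h3
    rw [hQ01] at h3
    have h4 : (β - γ) * (2 * Q (b (k, 0))) = 0 := by linear_combination h3
    rcases mul_eq_zero.1 h4 with h | h
    · exact sub_eq_zero.1 h
    · exact absurd h (mul_ne_zero h2 ha)
  subst hβγ
  -- T² = ε on the first frame vector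
  have hsq := hT.sq (b (k, 0))
  rw [← h0, map_add, map_smul, map_smul, ← h0, ← h1] at hsq
  have hc1 : β * (α + δ) = 0 := by
    have h3 := congrArg (fun w => polar (⇑Q) w (b (k, 1))) hsq
    simp only [polar_add_left, polar_smul_left, frame_polar horth, smul_eq_mul,
      Prod.mk.injEq, true_and] at h3
    simp at h3
    rw [hQ01] at h3
    have h4 : (β * (α + δ)) * (2 * Q (b (k, 0))) = 0 := by linear_combination h3
    rcases mul_eq_zero.1 h4 with h | h
    · exact h
    · exact absurd h (mul_ne_zero h2 ha)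
  have hc0 : α * α + β * β = ε := by
    have h3 := congrArg (fun w => polar (⇑Q) w (b (k, 0))) hsq
    simp only [polar_add_left, polar_smul_left, frame_polar horth, smul_eq_mul,
      Prod.mk.injEq, true_and] at h3
    simp at h3
    have h4 : (α * α + β * β - ε) * (2 * Q (b (k, 0))) = 0 := by linear_combination h3
    rcases mul_eq_zero.1 h4 with h | h
    · exact sub_eq_zero.1 h
    · exact absurd h (mul_ne_zero h2 ha)
  have hδ : δ = -α := by
    rcases mul_eq_zero.1 hc1 with h | h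
    · exfalso
      apply hε
      refine ⟨α, ?_⟩
      rw [← hc0, h]
      ring
    · linear_combination h
  subst hδ
  obtain ⟨lam, mu, rfl⟩ := (mem_plane k v).1 hv
  simp only [map_add, map_smul, hx0, hx1, map_neg, ← h0, ← h1]
  module

end planeLemma

section final

variable {F : Type*} [Field F] [Fintype F] {V : Type*} [AddCommGroup V] [Module F V]
  {Q : QuadraticForm F V} {n : ℕ} {b : Basis (Fin n × Fin 2) F V}

theorem exists_st (hodd : Odd (Fintype.card F)) (ε c : F) (hc : c ≠ 0) :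
    ∃ s t : F, s ^ 2 + c * t ^ 2 = ε := by
  have hf : degree (X ^ 2 - C ε : F[X]) = 2 := degree_X_pow_sub_C (by norm_num) ε
  have hg : degree (C c * X ^ 2 : F[X]) = 2 := degree_C_mul_X_pow 2 hc
  obtain ⟨s, t, hst⟩ := FiniteField.exists_root_sum_quadratic hf hg (Nat.odd_iff.1 hodd)
  refine ⟨s, t, ?_⟩
  simp only [eval_sub, eval_pow, eval_X, eval_C, eval_mul] at hst
  linear_combination hst

/-- **FO-A from an adapted frame** -/
theorem exists_adapted_of_frame (hodd : Odd (Fintype.card F)) (h2 : (2 : F) ≠ 0) (ε : F)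
    (x : V →ₗ[F] V) (hn : 0 < n)
    (horth : ∀ i j, i ≠ j → polar (⇑Q) (b i) (b j) = 0) (hne : ∀ i, Q (b i) ≠ 0)
    (σ : F) (hσ : σ = 1 ∨ σ = -1)
    (hPL : ∀ k, ∀ T : V →ₗ[F] V, IsJ Q ε T → (∀ v ∈ plane b k, T v ∈ plane b k) →
      ∀ v ∈ plane b k, x (T v) = σ • T (x v)) :
    ∃ (S : V →ₗ[F] V) (P : Submodule F V), IsJ Q ε S ∧ finrank F P = 2 ∧ NDeg Q P ∧
      ∀ ρ : V ≃ₗ[F] V, (∀ v, Q (ρ v) = Q v) → (∀ v ∈ P, ρ v ∈ P) →
        (∀ v, (∀ w ∈ P, polar (⇑Q) w v = 0) → ρ v = v) →
        (x * conjL ρ S = conjL ρ S * x ∨ x * conjL ρ S = -(conjL ρ S * x)) := by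
  have hex : ∀ k : Fin n, ∃ s t : F, s ^ 2 + Q (b (k, 0)) / Q (b (k, 1)) * t ^ 2 = ε :=
    fun k => exists_st hodd ε _ (div_ne_zero (hne _) (hne _))
  choose s t hst using hex
  refine ⟨mkS Q b s t, plane b ⟨0, hn⟩, mkS_isJ s t horth hne hst, finrank_plane _,
    ndeg_plane horth hne h2 _, ?_⟩
  intro ρ hρQ hρP hρfix
  have h := adapted_core hn horth (mkS Q b s t) (mkS_isJ s t horth hne hst)
    (fun k v hv => mkS_mem_plane s t k v hv) x σ hPL ρ hρQ hρP hρfix
  rcases hσ with rfl | rfl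
  · left
    rw [h, one_smul]
  · right
    rw [h, neg_smul, one_smul]

end final

end Cfsg.Agent.Lib.Helper3.FEO
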