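import Mathlib
import Cfsg.Prelude
import Cfsg.Agent.Lib.Helper9.FieldSub1
import Cfsg.Agent.Lib.Helper2.SpIsom
import Cfsg.Agent.Lib.Helper3.GUSp_C
import Cfsg.Agent.Lib.Helper3.FESp0

set_option autoImplicit false

/-!
S5975 package FE-C: an element of order `r` of the symplectic group centralising a self-adjoint
quadratic field `K` never has a cyclotomic kernel of dimension `2h = ord_r(q)` when `h` is odd.
-/

namespace Cfsg.Agent.Lib.Helper3.FESp

open Module Matrix Polynomial Cfsg.Agent.H9SemiInv Cfsg.Agent.Lib.Helper9.H9Elus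
  Cfsg.Agent.Lib.Helper3.GUSp

section fin

variable {F V : Type*} [Field F] [Fintype F] {p : ℕ} [Fact p.Prime] [CharP F p]
  [AddCommGroup V] [Module F V] [FiniteDimensional F V]

/-- the abstract statement: `J` commutes with `y`, has an adjoint `Jadj` commuting with `y`, and
`J ^ (q ^ h) - Jadj` is injective -/
theorem feC_main (B : LinearMap.BilinForm F V) (hnd : ∀ v, (∀ w, B w v = 0) → v = 0)
    (y J Jadj : V →ₗ[F] V)
    (hadjJ : ∀ u v, B (J u) v = B u (Jadj v)) (hy : ∀ u v, B (y u) (y v) = B u v)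
    (r : ℕ) [Fact r.Prime] (hrp : r ≠ p) (h : ℕ) (hh1 : 1 ≤ h)
    (hi : orderOf ((Fintype.card F : ℕ) : ZMod r) = 2 * h)
    (hrq : r ∣ Fintype.card F ^ h + 1) (hyr : y ^ r = 1) (hc : y * J = J * y)
    (hc' : y * Jadj = Jadj * y)
    (hinj : ∀ v, (J ^ (Fintype.card F ^ h)) v = Jadj v → v = 0) :
    finrank F (LinearMap.ker (aeval y (cyclotomic r F))) ≠ 2 * h := by
  intro hfr
  set N := Fintype.card F ^ h with hN
  -- y^(N+1) = 1
  have hyN : y * y ^ N = 1 := by
    obtain ⟨c, hc'⟩ := hrq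
    rw [← pow_succ', hc', pow_mul, hyr, one_pow]
  have hyN' : ∀ b, y ((y ^ N) b) = b := by
    intro b
    have := congrArg (fun f : V →ₗ[F] V => f b) hyN
    simpa [Module.End.mul_apply] using this
  have hadj1 : ∀ a b, B (y a) b = B a ((y ^ N) b) := by
    intro a b
    have := hy a ((y ^ N) b)
    rw [hyN'] at this
    exact this
  have hadjpow : ∀ (n : ℕ) (a b : V), B ((y ^ n) a) b = B a (((y ^ N) ^ n) b) := by
    intro n
    induction n with
    | zero => intro a b; simp
    | succ n ih =>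
      intro a b
      rw [pow_succ', Module.End.mul_apply, hadj1, ih, pow_succ, Module.End.mul_apply]
  have hadj : ∀ (k : F[X]) (a b : V), B (aeval y k a) b = B a (aeval (y ^ N) k b) := by
    intro k
    induction k using Polynomial.induction_on' with
    | add f g hf hg =>
      intro a b
      rw [map_add, map_add, LinearMap.add_apply, LinearMap.add_apply, map_add,
        LinearMap.add_apply, map_add, hf, hg]
    | monomial n c =>
      intro a b
      rw [← C_mul_X_pow_eq_monomial, map_mul, map_mul, aeval_C, aeval_C, map_pow, map_pow,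
        aeval_X, aeval_X, Module.End.mul_apply, Module.End.mul_apply,
        Algebra.algebraMap_eq_smul_one,
        LinearMap.smul_apply, LinearMap.smul_apply, Module.End.one_apply, Module.End.one_apply,
        map_smul, map_smul, LinearMap.smul_apply, hadjpow]
  -- U is J-stable and Jadj-stable
  have hUJ : ∀ w ∈ LinearMap.ker (aeval y (cyclotomic r F)),
      J w ∈ LinearMap.ker (aeval y (cyclotomic r F)) := by
    intro w hw
    rw [LinearMap.mem_ker] at hw ⊢
    rw [pkC_aeval_comm_apply y J hc, hw, map_zero]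
  have hUJ' : ∀ w ∈ LinearMap.ker (aeval y (cyclotomic r F)),
      Jadj w ∈ LinearMap.ker (aeval y (cyclotomic r F)) := by
    intro w hw
    rw [LinearMap.mem_ker] at hw ⊢
    rw [pkC_aeval_comm_apply y Jadj hc', hw, map_zero]
  have hUJn : ∀ (n : ℕ), ∀ w ∈ LinearMap.ker (aeval y (cyclotomic r F)),
      (J ^ n) w ∈ LinearMap.ker (aeval y (cyclotomic r F)) := by
    intro n
    induction n with
    | zero => intro w hw; simpa using hw
    | succ n ih =>
      intro w hw
      rw [pow_succ, Module.End.mul_apply]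
      exact ih _ (hUJ w hw)
  -- a nonzero vector
  have hpos : 0 < finrank F (LinearMap.ker (aeval y (cyclotomic r F))) := by omega
  obtain ⟨⟨u₀, hu₀⟩, hu₀0⟩ := Module.finrank_pos_iff_exists_ne_zero.1 hpos
  have hu₀0' : u₀ ≠ 0 := fun h0 => hu₀0 (Subtype.ext h0)
  have hcyc := pkC_cyc_eq r hrp y (hfr.trans hi.symm) u₀ hu₀ hu₀0'
  obtain ⟨g, hg⟩ : ∃ g : F[X], aeval y g u₀ = J u₀ := by
    rw [← pkC_mem_cyc, hcyc]
    exact hUJ u₀ hu₀
  have hJg : ∀ w ∈ LinearMap.ker (aeval y (cyclotomic r F)), J w = aeval y g w := by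
    intro w hw
    rw [← hcyc, pkC_mem_cyc] at hw
    obtain ⟨k, rfl⟩ := hw
    rw [← pkC_aeval_comm_apply y J hc, ← hg]
    have h1 : aeval y g * aeval y k = aeval y k * aeval y g := by
      rw [← map_mul, ← map_mul, mul_comm]
    have := congrArg (fun f : V →ₗ[F] V => f u₀) h1
    simp only [Module.End.mul_apply] at this
    exact this.symm
  have hgN : aeval (y ^ N) g = (aeval y g) ^ N := by
    rw [← expand_aeval, hN, pkC_expand_card_pow, map_pow]
  have hpowU : ∀ (n : ℕ), ∀ w ∈ LinearMap.ker (aeval y (cyclotomic r F)),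
      ((aeval y g) ^ n) w = (J ^ n) w := by
    intro n
    induction n with
    | zero => intro w _; simp
    | succ n ih =>
      intro w hw
      rw [pow_succ, Module.End.mul_apply, ← hJg w hw, ih _ (hUJ w hw), pow_succ,
        Module.End.mul_apply]
  -- the map T = J^N - Jadj
  have hTU : ∀ w ∈ LinearMap.ker (aeval y (cyclotomic r F)),
      (J ^ N - Jadj) w ∈ LinearMap.ker (aeval y (cyclotomic r F)) := by
    intro w hw
    rw [LinearMap.sub_apply]
    exact Submodule.sub_mem _ (hUJn N w hw) (hUJ' w hw)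
  have hTinj : Function.Injective ((J ^ N - Jadj).restrict hTU) := by
    rw [← LinearMap.ker_eq_bot, LinearMap.ker_eq_bot']
    intro ⟨w, hw⟩ h0
    have h1 : (J ^ N - Jadj) w = 0 := congrArg Subtype.val h0
    rw [LinearMap.sub_apply, sub_eq_zero] at h1
    exact Subtype.ext (hinj w h1)
  have hTsurj : Function.Surjective ((J ^ N - Jadj).restrict hTU) :=
    LinearMap.injective_iff_surjective.1 hTinj
  have hzero : ∀ u ∈ LinearMap.ker (aeval y (cyclotomic r F)),
      ∀ v ∈ LinearMap.ker (aeval y (cyclotomic r F)), B u ((J ^ N - Jadj) v) = 0 := by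
    intro u hu v hv
    have h1 : B (J u) v = B u ((J ^ N) v) := by
      rw [hJg u hu, hadj, hgN, hpowU N v hv]
    have h3 := hadjJ u v
    rw [LinearMap.sub_apply, map_sub, ← h1, ← h3, sub_self]
  have hzero' : ∀ u ∈ LinearMap.ker (aeval y (cyclotomic r F)),
      ∀ v ∈ LinearMap.ker (aeval y (cyclotomic r F)), B u v = 0 := by
    intro u hu v hv
    obtain ⟨⟨v', hv'⟩, hvv⟩ := hTsurj ⟨v, hv⟩
    have h1 : (J ^ N - Jadj) v' = v := congrArg Subtype.val hvv
    rw [← h1]
    exact hzero u hu v' hv'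
  have hfix : ∀ c, y c = c → ∀ v ∈ LinearMap.ker (aeval y (cyclotomic r F)), B c v = 0 := by
    intro c hc' v hv
    obtain ⟨a, b, hab⟩ := isCoprime_X_sub_one_cyclotomic (F := F) r hrp
    have h1 : v = aeval y ((X - 1) * a + b * cyclotomic r F) v := by
      rw [mul_comm (X - 1) a, hab, map_one, Module.End.one_apply]
    rw [LinearMap.mem_ker] at hv
    rw [map_add, map_mul, map_mul, LinearMap.add_apply, Module.End.mul_apply,
      Module.End.mul_apply, hv, map_zero, add_zero, map_sub, aeval_X, map_one,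
      LinearMap.sub_apply, Module.End.one_apply] at h1
    rw [h1, map_sub]
    have := hy c (aeval y a v)
    rw [hc'] at this
    rw [this, sub_self]
  have hcompl := isCompl_ker r hrp y hyr
  apply hu₀0'
  apply hnd
  intro w
  have hw : w ∈ LinearMap.ker (aeval y (X - 1 : F[X])) ⊔
      LinearMap.ker (aeval y (cyclotomic r F)) := by
    rw [hcompl.sup_eq_top]; trivial
  obtain ⟨c, hc', u', hu', rfl⟩ := Submodule.mem_sup.1 hw
  rw [map_add, LinearMap.add_apply, hzero' u' hu' u₀ hu₀, add_zero]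
  apply hfix c _ u₀ hu₀
  rw [LinearMap.mem_ker, map_sub, aeval_X, map_one, LinearMap.sub_apply, Module.End.one_apply,
    sub_eq_zero] at hc'
  exact hc'

end fin

section field

variable {L : Type*} [Field L] [Fintype L]

/-- in a field with `q²` elements, `a ^ (q ^ h) = a ^ q` for odd `h` -/
theorem feC_pow_odd (q : ℕ) (hL : Fintype.card L = q ^ 2) (h : ℕ) (hh : Odd h) (a : L) :
    a ^ (q ^ h) = a ^ q := by
  obtain ⟨m, rfl⟩ := hh
  have h1 : ∀ m : ℕ, a ^ ((q ^ 2) ^ m) = a := by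
    intro m
    induction m with
    | zero => simp
    | succ m ih => rw [pow_succ, pow_mul, ih, ← hL, FiniteField.pow_card]
  have e : q ^ (2 * m + 1) = (q ^ 2) ^ m * q := by ring
  rw [e, pow_mul, h1]

/-- a field with `q²` elements has an element moved by `x ↦ x ^ q` -/
theorem feC_exists_pow_ne (q : ℕ) (hq : 1 < q) (hL : Fintype.card L = q ^ 2) :
    ∃ a : L, a ^ q ≠ a := by
  by_contra hcon
  simp only [not_exists, not_not] at hcon
  have hne : (X ^ q - X : L[X]) ≠ 0 := FiniteField.X_pow_card_sub_X_ne_zero L hq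
  have hdeg : (X ^ q - X : L[X]).natDegree = q := FiniteField.X_pow_card_sub_X_natDegree_eq L hq
  have hsub : (Finset.univ : Finset L).val ⊆ (X ^ q - X : L[X]).roots := by
    intro a _
    rw [mem_roots hne, IsRoot.def, eval_sub, eval_pow, eval_X, hcon a, sub_self]
  have := Polynomial.card_le_degree_of_subset_roots hsub
  rw [Finset.card_univ, hL, hdeg] at this
  nlinarith

end field

/-- **FE-C** -/
theorem finrank_ker_cyclotomic_ne' {F : Type*} [Field F] [Fintype F] {p : ℕ} [Fact p.Prime]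
    [CharP F p] {d : ℕ}
    {K : Subalgebra F (Matrix (Fin d ⊕ Fin d) (Fin d ⊕ Fin d) F)}
    (hK : Cfsg.Geo.IsFieldSubalgebra 2 K)
    (hKf : Cfsg.Geo.IsSelfAdjointFor (Cfsg.sympForm d F) K)
    (r : ℕ) [Fact r.Prime] (hrp : r ≠ p) (h : ℕ) (hh : Odd h)
    (hi : orderOf ((Fintype.card F : ℕ) : ZMod r) = 2 * h)
    (hrq : r ∣ Fintype.card F ^ h + 1)
    (y : GL (Fin d ⊕ Fin d) F) (hy : y ∈ Cfsg.spGL d F)
    (hyr : ((y ^ r : GL (Fin d ⊕ Fin d) F) : Matrix (Fin d ⊕ Fin d) (Fin d ⊕ Fin d) F) = 1)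
    (hl : KLin K (y : Matrix (Fin d ⊕ Fin d) (Fin d ⊕ Fin d) F)) :
    finrank F (LinearMap.ker (aeval (Matrix.toLin'
      (y : Matrix (Fin d ⊕ Fin d) (Fin d ⊕ Fin d) F)) (cyclotomic r F))) ≠ 2 * h := by
  have : NeZero 2 := ⟨two_ne_zero⟩
  have : Fintype (Cfsg.Agent.H9FK.FK K hK) := Fintype.ofFinite _
  have hcardL : Fintype.card (Cfsg.Agent.H9FK.FK K hK) = Fintype.card F ^ 2 := by
    rw [Module.card_eq_pow_finrank (K := F) (V := Cfsg.Agent.H9FK.FK K hK),
      Cfsg.Agent.H9FK.FK.finrank_eq]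
  obtain ⟨a, ha⟩ := feC_exists_pow_ne (L := Cfsg.Agent.H9FK.FK K hK) (Fintype.card F)
    Fintype.one_lt_card hcardL
  have hpow := feC_pow_odd (Fintype.card F) hcardL h hh a
  have hne : a ^ (Fintype.card F ^ h) - a ≠ 0 := by
    rw [hpow]
    exact sub_ne_zero.2 ha
  obtain ⟨b, hb⟩ := Cfsg.Agent.H9FK.FK.exists_inv _ hne
  have hb' : b.val * (a.val ^ (Fintype.card F ^ h) - a.val) = 1 := by
    rw [mul_comm] at hb
    have h1 := congrArg Cfsg.Agent.H9FK.FK.val hb
    rw [Cfsg.Agent.H9FK.FK.val_mul, Cfsg.Agent.H9FK.FK.val_sub, Cfsg.Agent.H9FK.FK.val_one] at h1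
    have hp : (a ^ (Fintype.card F ^ h)).val = a.val ^ (Fintype.card F ^ h) :=
      map_pow (Cfsg.Agent.H9FK.FK.valHom) a _
    rwa [hp] at h1
  have hcomm : Matrix.toLin' (y : Matrix (Fin d ⊕ Fin d) (Fin d ⊕ Fin d) F) *
      Matrix.toLin' a.val =
      Matrix.toLin' a.val * Matrix.toLin' (y : Matrix (Fin d ⊕ Fin d) (Fin d ⊕ Fin d) F) := by
    have h1 : Matrix.toLin' (y : Matrix (Fin d ⊕ Fin d) (Fin d ⊕ Fin d) F) * Matrix.toLin' a.val =
        Matrix.toLin' ((y : Matrix (Fin d ⊕ Fin d) (Fin d ⊕ Fin d) F) * a.val) :=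
      (Matrix.toLin'_mul _ _).symm
    have h3 : Matrix.toLin' a.val * Matrix.toLin' (y : Matrix (Fin d ⊕ Fin d) (Fin d ⊕ Fin d) F) =
        Matrix.toLin' (a.val * (y : Matrix (Fin d ⊕ Fin d) (Fin d ⊕ Fin d) F)) :=
      (Matrix.toLin'_mul _ _).symm
    rw [h1, h3, hl a.val a.mem]
  have hh1 : 1 ≤ h := by
    obtain ⟨m, rfl⟩ := hh
    omega
  apply feC_main (Cfsg.Agent.Lib.Helper2.SpIsom.sympBilin d F) ?_
    (Matrix.toLin' (y : Matrix (Fin d ⊕ Fin d) (Fin d ⊕ Fin d) F)) (Matrix.toLin' a.val)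
    (Matrix.toLin' a.val) ?_ ?_ r hrp h hh1 hi hrq ?_ hcomm hcomm ?_
  · intro v hv
    apply Cfsg.Agent.Lib.Helper2.SpIsom.sympForm_nondeg
    intro w
    have := hv w
    rw [Cfsg.Agent.Lib.Helper2.SpIsom.sympBilin_apply] at this
    rw [Cfsg.Agent.Lib.Helper2.Symp.sympForm_swap, this, neg_zero]
  · intro u v
    rw [Cfsg.Agent.Lib.Helper2.SpIsom.sympBilin_apply, Cfsg.Agent.Lib.Helper2.SpIsom.sympBilin_apply,
      Matrix.toLin'_apply, Matrix.toLin'_apply]
    exact hKf a.val a.mem u v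
  · intro u v
    rw [Cfsg.Agent.Lib.Helper2.SpIsom.sympBilin_apply, Cfsg.Agent.Lib.Helper2.SpIsom.sympBilin_apply,
      Matrix.toLin'_apply, Matrix.toLin'_apply]
    exact hy u v
  · rw [← Matrix.toLin'_pow, ← Units.val_pow_eq_pow_val, hyr, Matrix.toLin'_one]
    rfl
  · intro v hv
    rw [← Matrix.toLin'_pow, Matrix.toLin'_apply, Matrix.toLin'_apply] at hv
    have h1 : (a.val ^ (Fintype.card F ^ h) - a.val) *ᵥ v = 0 := by
      rw [Matrix.sub_mulVec, hv, sub_self]
    have h3 : v = (b.val * (a.val ^ (Fintype.card F ^ h) - a.val)) *ᵥ v := by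
      rw [hb', Matrix.one_mulVec]
    rw [h3, ← Matrix.mulVec_mulVec, h1, Matrix.mulVec_zero]

end Cfsg.Agent.Lib.Helper3.FESp
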