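import Mathlib
import Cfsg.Prelude
import Cfsg.Agent.Lib.Helper3.FEO2
import Cfsg.Agent.Lib.Helper3.FESp_C

set_option autoImplicit false

/-!
S5977 / S5978, package FO-C2: an isometry `y` of order `r` commuting with a self-adjoint `S`,
`S² = ε` a nonsquare, `ord_r(q) = 2h` with `h` odd, cannot have `dim ker Φ_r(y) = 2h`.
-/

namespace Cfsg.Agent.Lib.Helper3.FEO

open Module Polynomial QuadraticMap Cfsg.Agent.Lib.Helper3.FESp

section

variable {F : Type*} [Field F] [Fintype F] {V : Type*} [AddCommGroup V] [Module F V]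

theorem odd_card_of_nonsq {ε : F} (hε : ¬ IsSquare ε) : Odd (Fintype.card F) := by
  rw [← Nat.not_even_iff_odd]
  intro he
  apply hε
  apply FiniteField.isSquare_of_char_two
  exact FiniteField.even_card_iff_char_two.2 (Nat.even_iff.1 he)

theorem S_pow_card {ε : F} (hε : ¬ IsSquare ε) (S : V →ₗ[F] V) (hsq : ∀ v, S (S v) = ε • v) :
    S ^ (Fintype.card F) = -S := by
  have hodd := odd_card_of_nonsq hε
  have hfact : Fact (∀ r : F, r ^ 2 ≠ ε + 0 * r) := fact_nonsq hε
  have h1 : Fintype.card F = 2 * (Fintype.card F / 2) + 1 := by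
    rw [Nat.odd_iff] at hodd
    omega
  have hSS : S * S = ε • (1 : V →ₗ[F] V) := by
    apply LinearMap.ext
    intro v
    rw [Module.End.mul_apply, hsq]
    rfl
  rw [h1, pow_succ, pow_mul, pow_two, hSS, _root_.smul_pow, one_pow, eps_pow hodd, neg_smul,
    one_smul, neg_one_mul]

theorem S_pow_card_pow {ε : F} (hε : ¬ IsSquare ε) (S : V →ₗ[F] V)
    (hsq : ∀ v, S (S v) = ε • v) (k : ℕ) :
    S ^ (Fintype.card F ^ k) = (-1 : F) ^ k • S := by
  have hodd := odd_card_of_nonsq hε
  induction k with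
  | zero => rw [pow_zero, pow_one, pow_zero, one_smul]
  | succ k ih =>
    rw [pow_succ, pow_mul, ih, _root_.smul_pow, S_pow_card hε S hsq, ← pow_mul, pow_succ (-1 : F) k,
      smul_neg, mul_neg_one, neg_smul, mul_comm k, pow_mul, hodd.neg_one_pow]

end

/-- **FO-C2** -/
theorem finrank_cyc_ne_of_even {F : Type*} [Field F] [Fintype F] {p : ℕ} [Fact p.Prime]
    [CharP F p] {V : Type*} [AddCommGroup V] [Module F V] [FiniteDimensional F V]
    (Q : QuadraticForm F V) (hQ : (polarBilin Q).Nondegenerate) (y S : V →ₗ[F] V)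
    (hy : ∀ v, Q (y v) = Q v) (ε : F) (hε : ¬ IsSquare ε) (hS : IsJ Q ε S)
    (hc : y * S = S * y) (r : ℕ) [Fact r.Prime] (hrp : r ≠ p) (h : ℕ) (hh : Odd h)
    (hi : orderOf ((Fintype.card F : ℕ) : ZMod r) = 2 * h)
    (hrq : r ∣ Fintype.card F ^ h + 1) (hyr : y ^ r = 1) :
    finrank F (LinearMap.ker (aeval y (cyclotomic r F))) ≠ 2 * h := by
  have hodd := odd_card_of_nonsq hε
  have h2 : (2 : F) ≠ 0 := Cfsg.Agent.Lib.Helper3.GUSp.two_ne_zero_of_odd_card hodd
  have hε0 : ε ≠ 0 := by
    intro h0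
    apply hε
    rw [h0]
    exact IsSquare.zero
  apply feC_main (polarBilin Q) (fun v hv => hQ.2 v hv) y S S
    (fun u v => by
      rw [polarBilin_apply_apply, polarBilin_apply_apply]
      exact hS.adj u v)
    (fun u v => by
      rw [polarBilin_apply_apply, polarBilin_apply_apply]
      unfold QuadraticMap.polar
      rw [← map_add, hy, hy, hy])
    r hrp h (by rcases hh with ⟨t, ht⟩; omega) hi hrq hyr hc hc
  intro v hv
  rw [S_pow_card_pow hε S hS.sq h, hh.neg_one_pow, neg_smul, one_smul, LinearMap.neg_apply] at hv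
  have h3 : (2 : F) • S v = 0 := by
    rw [two_smul]
    nth_rewrite 1 [← hv]
    exact neg_add_cancel _
  have h4 : S v = 0 := by
    rcases smul_eq_zero.1 h3 with h | h
    · exact absurd h h2
    · exact h
  have h5 := hS.sq v
  rw [h4, map_zero] at h5
  rcases smul_eq_zero.1 h5.symm with h | h
  · exact absurd h hε0
  · exact h

end Cfsg.Agent.Lib.Helper3.FEO
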