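import Mathlib
import Cfsg.Prelude
import Cfsg.Agent.Lib.Helper3.FEO2

set_option autoImplicit false

/-!
S5977 / S5978, package FO-T: the isometry group of `Q` is transitive on the self-adjoint operators
with square a fixed nonsquare `ε`.
-/

namespace Cfsg.Agent.Lib.Helper3.FEO

open Module QuadraticMap
open Cfsg.Agent.Lib.Helper2.OrthNd Cfsg.Agent.Lib.Helper2.OrthEl

theorem finrank_VS {F : Type*} [Field F] {V : Type*} [AddCommGroup V] [Module F V]
    [FiniteDimensional F V] {Q : QuadraticForm F V} {ε : F}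
    [hε : Fact (∀ r : F, r ^ 2 ≠ ε + 0 * r)] (j : JOp Q ε) :
    2 * finrank (LL F ε) (VS j) = finrank F V := by
  have h1 := Module.finrank_mul_finrank F (LL F ε) (VS j)
  rw [QuadraticAlgebra.finrank_eq_two] at h1
  exact h1

/-- **FO-T** -/
theorem exists_isometry_conj {F : Type*} [Field F] [Fintype F] (hodd : Odd (Fintype.card F))
    {V : Type*} [AddCommGroup V] [Module F V] [FiniteDimensional F V]
    (Q : QuadraticForm F V) (hQ : (polarBilin Q).Nondegenerate) (ε : F) (hε : ¬ IsSquare ε)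
    (S S' : V →ₗ[F] V) (hS : IsJ Q ε S) (hS' : IsJ Q ε S') :
    ∃ h : V ≃ₗ[F] V, (∀ v, Q (h v) = Q v) ∧ ∀ v, h (S' v) = S (h v) := by
  classical
  have hfact : Fact (∀ r : F, r ^ 2 ≠ ε + 0 * r) := fact_nonsq hε
  have : Fintype (LL F ε) := Fintype.ofEquiv _ (QuadraticAlgebra.equivProd ε 0).symm
  have h2 : (2 : F) ≠ 0 := Cfsg.Agent.Lib.Helper3.GUSp.two_ne_zero_of_odd_card hodd
  have h2L : (2 : LL F ε) ≠ 0 := two_ne_zero_LL h2
  set j : JOp Q ε := ⟨S, hS⟩ with hj
  set j' : JOp Q ε := ⟨S', hS'⟩ with hj'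
  have hdim : finrank (LL F ε) (VS j') = finrank (LL F ε) (VS j) := by
    have h1 := finrank_VS j
    have h3 := finrank_VS j'
    omega
  have hd : dch (QS j') = dch (QS j) := by
    have h1 := dch_eq_dch_QS hodd hQ j
    have h3 := dch_eq_dch_QS hodd hQ j'
    rw [h1, hdim] at h3
    have hne : (quadraticChar F (-1)) ^ (finrank (LL F ε) (VS j)) ≠ 0 := by
      apply pow_ne_zero
      rcases quadraticChar_dichotomy (neg_ne_zero.2 (one_ne_zero (α := F))) with h | h
      · rw [h]; norm_num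
      · rw [h]; norm_num
    exact (mul_left_cancel₀ hne h3).symm
  obtain ⟨e, he⟩ := exists_isometry h2L (QS_nondeg h2 hQ j') (QS_nondeg h2 hQ j) hdim hd
  refine ⟨(show V ≃ₗ[F] V from e.restrictScalars F), ?_, ?_⟩
  · intro v
    have h1 : (QS j (e v)).im = (QS j' v).im := congrArg QuadraticAlgebra.im (he v)
    have h3 : (QS j (e v)).im = Q (e v) := QS_im h2 j (e v)
    have h4 : (QS j' v).im = Q v := QS_im h2 j' v
    exact h3.symm.trans (h1.trans h4)
  · intro v
    have h1 : e ((QuadraticAlgebra.omega : LL F ε) • (show VS j' from v)) =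
        (QuadraticAlgebra.omega : LL F ε) • e v := e.map_smul _ _
    have h3 : ((QuadraticAlgebra.omega : LL F ε) • (show VS j' from v) : VS j') = S' v :=
      VS_omega_smul j' v
    have h4 : ((QuadraticAlgebra.omega : LL F ε) • (e v) : VS j) = S (e v) :=
      VS_omega_smul j (e v)
    rw [h3, h4] at h1
    exact h1

end Cfsg.Agent.Lib.Helper3.FEO
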