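import Mathlib
import Cfsg.Prelude
import Cfsg.Agent.Lib.Helper3.FEO0

set_option autoImplicit false

/-!
S5977 / S5978, package FO-Z: an involution in `Ω(Q)` has a `(-1)`-eigenspace of even dimension
(its determinant is `1`).  The two linear-algebra lemmas are specialisations of helper9's
`TSU_R2.r2_isCompl` / `r2_det`.
-/

namespace Cfsg.Agent.Lib.Helper3.FEO

open Module Matrix QuadraticMap

section abstract

variable {F : Type*} [Field F] {V : Type*} [AddCommGroup V] [Module F V]

theorem foZ_mem_A (T : V →ₗ[F] V) (x : V) : x ∈ LinearMap.ker (T - 1) ↔ T x = x := by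
  rw [LinearMap.mem_ker, LinearMap.sub_apply, Module.End.one_apply, sub_eq_zero]

theorem foZ_mem_B (T : V →ₗ[F] V) (x : V) : x ∈ LinearMap.ker (T + 1) ↔ T x = -x := by
  rw [LinearMap.mem_ker, LinearMap.add_apply, Module.End.one_apply, add_eq_zero_iff_eq_neg]

theorem foZ_isCompl (h2 : (2 : F) ≠ 0) (T : V →ₗ[F] V) (hT2 : ∀ v, T (T v) = v) :
    IsCompl (LinearMap.ker (T - 1)) (LinearMap.ker (T + 1)) := by
  constructor
  · rw [Submodule.disjoint_def]
    intro x hx hx'
    have h1 := (foZ_mem_A T x).1 hx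
    have h3 := (foZ_mem_B T x).1 hx'
    have h4 : (2 : F) • x = 0 := by
      have : x = -x := by rw [← h3, h1]
      rw [two_smul]
      nth_rewrite 2 [this]
      exact add_neg_cancel _
    rcases smul_eq_zero.1 h4 with h' | h'
    · exact absurd h' h2
    · exact h'
  · rw [codisjoint_iff, Submodule.eq_top_iff']
    intro v
    have hv : v = (2 : F)⁻¹ • (v + T v) + (2 : F)⁻¹ • (v - T v) := by
      rw [← smul_add]
      have : (v + T v) + (v - T v) = (2 : F) • v := by
        rw [two_smul]; abel
      rw [this, smul_smul, inv_mul_cancel₀ h2, one_smul]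
    rw [hv]
    apply Submodule.add_mem_sup
    · apply Submodule.smul_mem
      rw [foZ_mem_A, map_add, hT2, add_comm]
    · apply Submodule.smul_mem
      rw [foZ_mem_B, map_sub, hT2, neg_sub]

theorem foZ_det [FiniteDimensional F V] (h2 : (2 : F) ≠ 0) (T : V →ₗ[F] V)
    (hT2 : ∀ v, T (T v) = v) :
    LinearMap.det T = (-1) ^ finrank F (LinearMap.ker (T + 1)) := by
  have hc := foZ_isCompl h2 T hT2
  set A := LinearMap.ker (T - 1) with hAdef
  set B := LinearMap.ker (T + 1) with hBdef
  set e := Submodule.prodEquivOfIsCompl A B hc with he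
  have hTe : T = (e : (A × B) →ₗ[F] V) ∘ₗ
      (LinearMap.prodMap (LinearMap.id : A →ₗ[F] A) ((-1 : F) • (LinearMap.id : B →ₗ[F] B))) ∘ₗ
      (e.symm : V →ₗ[F] (A × B)) := by
    apply LinearMap.ext
    intro v
    obtain ⟨p, rfl⟩ := e.surjective v
    rw [LinearMap.comp_apply, LinearMap.comp_apply, LinearEquiv.coe_coe, LinearEquiv.coe_coe,
      LinearEquiv.symm_apply_apply, LinearMap.prodMap_apply, he,
      Submodule.coe_prodEquivOfIsCompl', Submodule.coe_prodEquivOfIsCompl', map_add,
      (foZ_mem_A T p.1).1 p.1.2, (foZ_mem_B T p.2).1 p.2.2]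
    simp
  rw [hTe, LinearMap.det_conj, LinearMap.det_prodMap, LinearMap.det_smul]
  simp only [LinearMap.det_id, mul_one, one_mul]

end abstract

set_option linter.unusedVariables false in
/-- **FO-Z** -/
theorem even_finrank_ker_add_one {F : Type*} [Field F] [Fintype F] (hodd : Odd (Fintype.card F))
    {ι : Type} [Fintype ι] [DecidableEq ι] (Q : QuadraticForm F (ι → F))
    (hQ : (polarBilin Q).Nondegenerate) (hn : 2 ≤ Fintype.card ι) (x : GL ι F)
    (hx : x ∈ Cfsg.Geo.omegaGL ⇑Q) (hxx : (x : Matrix ι ι F) * (x : Matrix ι ι F) = 1) :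
    Even (finrank F (LinearMap.ker (Matrix.toLin' (x : Matrix ι ι F) + 1))) := by
  have h2 : (2 : F) ≠ 0 := by
    intro h
    have hch : ringChar F = 2 :=
      CharP.ringChar_of_prime_eq_zero Nat.prime_two (by exact_mod_cast h)
    have := FiniteField.even_card_of_char_two hch
    rw [Nat.odd_iff] at hodd
    omega
  -- the determinant is one on the commutator subgroup
  have hdet : (x : Matrix ι ι F).det = 1 := by
    obtain ⟨g, hg, rfl⟩ := Subgroup.mem_map.1 hx
    have h1 := Abelianization.commutator_subset_ker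
      (Matrix.GeneralLinearGroup.det.comp (Cfsg.isometryGroup F ⇑Q).subtype) hg
    rw [MonoidHom.mem_ker] at h1
    have h3 := congrArg Units.val h1
    simpa using h3
  have hT2 : ∀ v, Matrix.toLin' (x : Matrix ι ι F) (Matrix.toLin' (x : Matrix ι ι F) v) = v := by
    intro v
    rw [Matrix.toLin'_apply, Matrix.toLin'_apply, Matrix.mulVec_mulVec, hxx, Matrix.one_mulVec]
  have h4 := foZ_det h2 (Matrix.toLin' (x : Matrix ι ι F)) hT2
  rw [LinearMap.det_toLin', hdet] at h4
  have hne : (-1 : F) ≠ 1 := by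
    intro h
    apply h2
    have : (2 : F) = 1 - (-1) := by ring
    rw [this, h, sub_self]
  exact (neg_one_pow_eq_one_iff_even hne).1 h4.symm

end Cfsg.Agent.Lib.Helper3.FEO
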