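import Mathlib
import Cfsg.Prelude
import Cfsg.Agent.Lib.Helper9.FieldSub1
import Cfsg.Agent.Lib.Helper3.FESp0

set_option autoImplicit false

/-!
S5975 package FE-A: an element of the normaliser of a field subalgebra `K` of prime degree `k`
over a finite field whose `r`-th power is scalar, `r ≠ k` prime, centralises `K`: conjugation is
an element of the Galois group, which has order `k`.
-/

namespace Cfsg.Agent.Lib.Helper3.FESp

open Module Matrix Cfsg.Agent.H9FK

section conj

variable {F : Type*} [Field F] {ι : Type} [Fintype ι] [DecidableEq ι] {k : ℕ}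
  {K : Subalgebra F (Matrix ι ι F)} (hK : Cfsg.Geo.IsFieldSubalgebra k K)

/-- conjugation by an element of the normaliser, as an algebra endomorphism of the field `K` -/
def feA_conj (g : GL ι F) (hg : g ∈ Cfsg.Geo.subalgebraNormalizer K) :
    FK K hK →ₐ[F] FK K hK where
  toFun a := ⟨(g : Matrix ι ι F) * a.val * ((g⁻¹ : GL ι F) : Matrix ι ι F), (hg a.val).1 a.mem⟩
  map_one' := FK.val_injective (by
    show (g : Matrix ι ι F) * 1 * ((g⁻¹ : GL ι F) : Matrix ι ι F) = 1
    rw [mul_one, Units.mul_inv])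
  map_mul' a b := FK.val_injective (by
    show (g : Matrix ι ι F) * (a.val * b.val) * ((g⁻¹ : GL ι F) : Matrix ι ι F) =
      ((g : Matrix ι ι F) * a.val * ((g⁻¹ : GL ι F) : Matrix ι ι F)) *
      ((g : Matrix ι ι F) * b.val * ((g⁻¹ : GL ι F) : Matrix ι ι F))
    simp only [mul_assoc, Units.inv_mul_cancel_left])
  map_zero' := FK.val_injective (by
    show (g : Matrix ι ι F) * 0 * ((g⁻¹ : GL ι F) : Matrix ι ι F) = 0
    rw [mul_zero, zero_mul])
  map_add' a b := FK.val_injective (by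
    show (g : Matrix ι ι F) * (a.val + b.val) * ((g⁻¹ : GL ι F) : Matrix ι ι F) =
      ((g : Matrix ι ι F) * a.val * ((g⁻¹ : GL ι F) : Matrix ι ι F)) +
      ((g : Matrix ι ι F) * b.val * ((g⁻¹ : GL ι F) : Matrix ι ι F))
    rw [mul_add, add_mul])
  commutes' c := FK.val_injective (by
    show (g : Matrix ι ι F) * (algebraMap F (FK K hK) c).val * ((g⁻¹ : GL ι F) : Matrix ι ι F) =
      (algebraMap F (FK K hK) c).val
    rw [FK.val_algebraMap, Matrix.mul_smul, Matrix.smul_mul, mul_one, Units.mul_inv])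

theorem feA_conj_val (g : GL ι F) (hg : g ∈ Cfsg.Geo.subalgebraNormalizer K) (a : FK K hK) :
    (feA_conj hK g hg a).val =
      (g : Matrix ι ι F) * a.val * ((g⁻¹ : GL ι F) : Matrix ι ι F) := rfl

/-- conjugation as a monoid homomorphism -/
def feA_hom : (Cfsg.Geo.subalgebraNormalizer K) →* (FK K hK →ₐ[F] FK K hK) where
  toFun g := feA_conj hK g.1 g.2
  map_one' := by
    apply AlgHom.ext
    intro a
    apply FK.val_injective
    rw [feA_conj_val]
    simp
  map_mul' g h := by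
    apply AlgHom.ext
    intro a
    apply FK.val_injective
    rw [AlgHom.mul_apply, feA_conj_val, feA_conj_val, feA_conj_val]
    show ((g.1 * h.1 : GL ι F) : Matrix ι ι F) * a.val *
      (((g.1 * h.1)⁻¹ : GL ι F) : Matrix ι ι F) = _
    rw [_root_.mul_inv_rev, Units.val_mul, Units.val_mul]
    simp only [mul_assoc]

theorem feA_hom_val (g : Cfsg.Geo.subalgebraNormalizer K) (a : FK K hK) :
    (feA_hom hK g a).val =
      (g.1 : Matrix ι ι F) * a.val * ((g.1⁻¹ : GL ι F) : Matrix ι ι F) := rfl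

end conj

/-- **FE-A** -/
theorem klin_of_ne {F : Type*} [Field F] [Fintype F] {ι : Type} [Fintype ι] [DecidableEq ι]
    {k : ℕ} (hk : k.Prime) {K : Subalgebra F (Matrix ι ι F)}
    (hK : Cfsg.Geo.IsFieldSubalgebra k K) (y : GL ι F)
    (hy : y ∈ Cfsg.Geo.subalgebraNormalizer K) (r : ℕ) (hr : r.Prime) (hrk : r ≠ k) (z : F)
    (hz : ((y ^ r : GL ι F) : Matrix ι ι F) = z • (1 : Matrix ι ι F)) :
    KLin K (y : Matrix ι ι F) := by
  have : NeZero k := ⟨hk.ne_zero⟩
  have hfin : Module.Finite F (FK K hK) := by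
    apply Module.finite_of_finrank_pos
    rw [FK.finrank_eq]
    exact hk.pos
  have hcard : Nat.card (FK K hK ≃ₐ[F] FK K hK) = k := by
    rw [IsGalois.card_aut_eq_finrank, FK.finrank_eq]
  -- the r-th power of the conjugation is trivial
  have hr1 : (feA_hom hK ⟨y, hy⟩) ^ r = 1 := by
    rw [← map_pow]
    apply AlgHom.ext
    intro a
    apply FK.val_injective
    rw [feA_hom_val]
    show ((y ^ r : GL ι F) : Matrix ι ι F) * a.val * (((y ^ r)⁻¹ : GL ι F) : Matrix ι ι F) = a.val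
    have h1 : ((y ^ r : GL ι F) : Matrix ι ι F) * a.val = a.val * ((y ^ r : GL ι F) : Matrix ι ι F) := by
      rw [hz, Matrix.smul_mul, Matrix.mul_smul, one_mul, mul_one]
    rw [h1, mul_assoc, Units.mul_inv, mul_one]
  set σ : FK K hK ≃ₐ[F] FK K hK := (algEquivEquivAlgHom F (FK K hK)).symm (feA_hom hK ⟨y, hy⟩)
    with hσ
  have hσr : σ ^ r = 1 := by
    rw [hσ, ← map_pow, hr1, map_one]
  have hσk : σ ^ k = 1 := by
    have h1 : σ ^ Nat.card (FK K hK ≃ₐ[F] FK K hK) = 1 := pow_card_eq_one'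
    rwa [hcard] at h1
  have hσ1 : σ = 1 := by
    have h1 : σ ^ Nat.gcd r k = 1 := pow_gcd_eq_one.2 ⟨hσr, hσk⟩
    rw [(Nat.coprime_primes hr hk).2 hrk, pow_one] at h1
    exact h1
  have hf1 : feA_hom hK ⟨y, hy⟩ = 1 := by
    have h1 : (algEquivEquivAlgHom F (FK K hK)) σ = feA_hom hK ⟨y, hy⟩ := by
      rw [hσ, MulEquiv.apply_symm_apply]
    rw [← h1, hσ1, map_one]
  intro a ha
  have h1 := congrArg (fun f : FK K hK →ₐ[F] FK K hK => (f ⟨a, ha⟩).val) hf1
  simp only [feA_hom_val, AlgHom.one_apply] at h1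
  calc (y : Matrix ι ι F) * a
      = (y : Matrix ι ι F) * a * (((y⁻¹ : GL ι F) : Matrix ι ι F) * (y : Matrix ι ι F)) := by
        rw [Units.inv_mul, mul_one]
    _ = a * (y : Matrix ι ι F) := by rw [← mul_assoc, h1]

end Cfsg.Agent.Lib.Helper3.FESp
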