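import Mathlib
import Cfsg.Prelude
import Cfsg.Agent.Lib.Helper9.FieldSub1
import Cfsg.Agent.Lib.Helper3.GUSp_C
import Cfsg.Agent.Lib.Helper3.FESp0

set_option autoImplicit false

/-!
S5975 package FE-B: the kernels of polynomials in a `K`-linear matrix are `K`-subspaces, so their
dimension over the base field is divisible by the degree of `K`.
-/

namespace Cfsg.Agent.Lib.Helper3.FESp

open Module Matrix Polynomial Cfsg.Agent.H9FK Cfsg.Agent.Lib.Helper3.GUSp

/-- a `K`-linear matrix commutes, as a linear map, with the elements of `K` -/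
theorem feB_toLin_comm {F : Type*} [Field F] {ι : Type} [Fintype ι] [DecidableEq ι]
    {K : Subalgebra F (Matrix ι ι F)} (y : Matrix ι ι F) (hl : KLin K y)
    (a : Matrix ι ι F) (ha : a ∈ K) :
    Matrix.toLin' y * Matrix.toLin' a = Matrix.toLin' a * Matrix.toLin' y := by
  have h1 : Matrix.toLin' y * Matrix.toLin' a = Matrix.toLin' (y * a) :=
    (Matrix.toLin'_mul _ _).symm
  have h3 : Matrix.toLin' a * Matrix.toLin' y = Matrix.toLin' (a * y) :=
    (Matrix.toLin'_mul _ _).symm
  rw [h1, h3, hl a ha]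

/-- the kernel of a polynomial in a `K`-linear matrix, as a subspace over the field `K` -/
def feB_kerL {F : Type*} [Field F] {ι : Type} [Fintype ι] [DecidableEq ι]
    {k : ℕ} {K : Subalgebra F (Matrix ι ι F)}
    (hK : Cfsg.Geo.IsFieldSubalgebra k K) (y : Matrix ι ι F) (hl : KLin K y) (P : F[X]) :
    Submodule (FK K hK) (ι → F) where
  carrier := LinearMap.ker (aeval (Matrix.toLin' y) P)
  add_mem' := fun ha hb => Submodule.add_mem _ ha hb
  zero_mem' := Submodule.zero_mem _
  smul_mem' := by
    intro a v hv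
    rw [SetLike.mem_coe, LinearMap.mem_ker] at hv ⊢
    rw [FK.smul_def, ← Matrix.toLin'_apply,
      pkC_aeval_comm_apply _ _ (feB_toLin_comm y hl a.val a.mem), hv, map_zero]

/-- **FE-B** -/
theorem dvd_finrank_ker_of_klin {F : Type*} [Field F] {ι : Type} [Fintype ι] [DecidableEq ι]
    {k : ℕ} (hk0 : k ≠ 0) {K : Subalgebra F (Matrix ι ι F)}
    (hK : Cfsg.Geo.IsFieldSubalgebra k K) (y : Matrix ι ι F) (hl : KLin K y) (P : F[X]) :
    k ∣ finrank F (LinearMap.ker (aeval (Matrix.toLin' y) P)) := by
  have : NeZero k := ⟨hk0⟩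
  have hW : (feB_kerL hK y hl P).restrictScalars F = LinearMap.ker (aeval (Matrix.toLin' y) P) := by
    ext v
    rfl
  rw [← hW]
  have e : finrank F ((feB_kerL hK y hl P).restrictScalars F) = finrank F (feB_kerL hK y hl P) :=
    LinearEquiv.finrank_eq ((Submodule.restrictScalarsEquiv F (FK K hK) (ι → F)
      (feB_kerL hK y hl P)).restrictScalars F)
  rw [e, ← Module.finrank_mul_finrank F (FK K hK) (feB_kerL hK y hl P), FK.finrank_eq]
  exact dvd_mul_right _ _

end Cfsg.Agent.Lib.Helper3.FESp
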