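import Mathlib
import Cfsg.Prelude
import Cfsg.Agent.Lib.Helper3.FEO0
import Cfsg.Agent.Lib.Helper3.FESp_A
import Cfsg.Agent.Lib.Helper3.FESp_B
import Cfsg.Agent.Lib.Helper3.FESp_C
import Cfsg.Agent.Lib.Helper3.GUSp_Asm
import Cfsg.Agent.Lib.Helper2.OPar_MOD
import Cfsg.Agent.Lib.Helper5.UniO5
import Cfsg.Agent.Lib.Helper5.OmegaAdjust
import Cfsg.Agent.S0287
import Cfsg.Agent.S0288
import Cfsg.Agent.Lib.Helper3.FEO_T
import Cfsg.Agent.Lib.Helper3.FEO_C2
import Cfsg.Agent.Lib.Helper3.FEO_CARD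
import Cfsg.Agent.Lib.Lead.FEO_I
import Cfsg.Agent.Lib.Lead.FEO_G
import Cfsg.Agent.Lib.Lead.FEO_K
import Cfsg.Agent.Lib.Helper1.FEO_D
import Cfsg.Agent.Lib.Helper1.FEO_U
import Cfsg.Agent.Lib.Helper3.FEO_Z
import Cfsg.Agent.Lib.Helper6.FEO_A
import Cfsg.Agent.Lib.Lead.FEO_P

set_option autoImplicit false

/-!
S5977 / S5978: assembly of the packages FO-A … FO-Z (quadratic field-extension subgroups
`O_d(q²)` of `Ω^±_{2d}(q)`, `q` odd).
-/

namespace Cfsg.Agent.Lib.Helper3.FEO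

open Module Matrix Polynomial QuadraticMap
open Cfsg.Agent.Lib.Helper2.MaxTS2 Cfsg.Agent.Lib.Helper2.OrthEl Cfsg.Agent.Lib.Helper2.OrthNd
open Cfsg.Agent.Lib.Helper3.FESp Cfsg.Agent.Lib.Helper5.OPar

/-! ### assembly -/

section assembly

open Cfsg.Agent.Lib.Helper3.GUSp

theorem toLin'_mul_apply {F : Type*} [Field F] {ι : Type} [Fintype ι] [DecidableEq ι]
    (A B : Matrix ι ι F) (v : ι → F) :
    Matrix.toLin' (A * B) v = Matrix.toLin' A (Matrix.toLin' B v) := by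
  rw [Matrix.toLin'_apply, Matrix.toLin'_apply, Matrix.toLin'_apply, Matrix.mulVec_mulVec]

/-- **(⇐)** -/
theorem backward {F : Type*} [Field F] [Fintype F] (hodd : Odd (Fintype.card F))
    {ι : Type} [Fintype ι] [DecidableEq ι] (Q : QuadraticForm F (ι → F))
    (hQ : (polarBilin Q).Nondegenerate) (hn : 2 ≤ Fintype.card ι) (hev : Even (Fintype.card ι))
    (K : Subalgebra F (Matrix ι ι F)) (hK : Cfsg.Geo.IsFieldSubalgebra 2 K)
    (hKf : Cfsg.Geo.IsSelfAdjointFor (QuadraticMap.polar ⇑Q) K)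
    (x : GL ι F) (hx : x ∈ Cfsg.Geo.omegaGL ⇑Q) (z : F)
    (hxz : ((x ^ 2 : GL ι F) : Matrix ι ι F) = z • (1 : Matrix ι ι F)) :
    ∃ g ∈ Cfsg.Geo.omegaGL ⇑Q, g⁻¹ * x * g ∈ Cfsg.Geo.subalgebraNormalizer K := by
  classical
  have h2 : (2 : F) ≠ 0 := Cfsg.Agent.Lib.Helper3.GUSp.two_ne_zero_of_odd_card hodd
  obtain ⟨Jm, ε, hε, hJK, hJJ, hspan⟩ := exists_gen h2 K hK
  have hS : IsJ Q ε (Matrix.toLin' Jm) := by
    refine ⟨?_, ?_⟩
    · intro v
      rw [← toLin'_mul_apply, hJJ, map_smul, Matrix.toLin'_one]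
      rfl
    · intro u v
      rw [Matrix.toLin'_apply, Matrix.toLin'_apply]
      exact hKf Jm hJK u v
  have hxi : x ∈ Cfsg.isometryGroup F ⇑Q := mem_iso_of_mem_omegaGL hx
  have hiso : ∀ v, Q (Matrix.toLin' (x : Matrix ι ι F) v) = Q v := fun v => iso_apply hxi v
  have hxx : (x : Matrix ι ι F) * (x : Matrix ι ι F) = z • (1 : Matrix ι ι F) := by
    rw [← hxz, pow_two, Units.val_mul]
  have hxl : Matrix.toLin' (x : Matrix ι ι F) * Matrix.toLin' (x : Matrix ι ι F) = z • 1 := by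
    apply LinearMap.ext
    intro v
    rw [Module.End.mul_apply, ← toLin'_mul_apply, hxx, map_smul, Matrix.toLin'_one]
    rfl
  -- z = ± 1
  have hz : z = 1 ∨ z = -1 := by
    obtain ⟨v, hv⟩ := Cfsg.Agent.Lib.Helper2.Spinor.exists_value (Q := Q) hQ hn 1 one_ne_zero
    have h1 := hiso (Matrix.toLin' (x : Matrix ι ι F) v)
    have h3 : Matrix.toLin' (x : Matrix ι ι F) (Matrix.toLin' (x : Matrix ι ι F) v) = z • v := by
      have := congrArg (fun f : (ι → F) →ₗ[F] (ι → F) => f v) hxl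
      simpa [Module.End.mul_apply] using this
    rw [h3, hiso, QuadraticMap.map_smul, hv, smul_eq_mul, mul_one] at h1
    have h4 : (z - 1) * (z + 1) = 0 := by linear_combination h1
    rcases mul_eq_zero.1 h4 with h | h
    · left; linear_combination h
    · right; linear_combination h
  have hx' : (Matrix.toLin' (x : Matrix ι ι F) * Matrix.toLin' (x : Matrix ι ι F) = 1 ∧
      Even (finrank F (LinearMap.ker (Matrix.toLin' (x : Matrix ι ι F) + 1)))) ∨
      Matrix.toLin' (x : Matrix ι ι F) * Matrix.toLin' (x : Matrix ι ι F) = -1 := by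
    rcases hz with rfl | rfl
    · left
      refine ⟨by rw [hxl, one_smul], ?_⟩
      apply even_finrank_ker_add_one hodd Q hQ hn x hx
      rw [hxx, one_smul]
    · right
      rw [hxl]
      apply LinearMap.ext
      intro v
      simp
  have hfr : finrank F (ι → F) = Fintype.card ι := Module.finrank_fintype_fun_eq_card F
  obtain ⟨S₁, P, hS₁, hP2, hPn, hnorm⟩ := exists_adapted hodd Q hQ (by rw [hfr]; exact hn)
    (by rw [hfr]; exact hev) ε hε (Matrix.toLin' (x : Matrix ι ι F)) hiso hx'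
  obtain ⟨h, hh, hconj⟩ := exists_isometry_conj hodd Q hQ ε hε (Matrix.toLin' Jm) S₁ hS hS₁
  obtain ⟨ω, ρ, hω, hρQ, hρP, hρfix, hωρ⟩ := exists_omega_adjust hodd Q hQ hn h hh P hP2 hPn
  have hn' := hnorm ρ hρQ hρP hρfix
  -- ω S'' = S ω
  have key : ∀ v, (ω : Matrix ι ι F) *ᵥ (conjL ρ S₁ v) = Jm *ᵥ ((ω : Matrix ι ι F) *ᵥ v) := by
    intro v
    rw [conjL_apply, hωρ, hconj, Matrix.toLin'_apply, ← hωρ, LinearEquiv.apply_symm_apply]
  have hωi : ∀ v, ((ω⁻¹ : GL ι F) : Matrix ι ι F) *ᵥ ((ω : Matrix ι ι F) *ᵥ v) = v := by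
    intro v
    rw [Matrix.mulVec_mulVec, ← Units.val_mul, inv_mul_cancel, Units.val_one, Matrix.one_mulVec]
  have hωi' : ∀ v, (ω : Matrix ι ι F) *ᵥ (((ω⁻¹ : GL ι F) : Matrix ι ι F) *ᵥ v) = v := by
    intro v
    rw [Matrix.mulVec_mulVec, ← Units.val_mul, mul_inv_cancel, Units.val_one, Matrix.one_mulVec]
  have key' : ∀ v, ((ω⁻¹ : GL ι F) : Matrix ι ι F) *ᵥ (Jm *ᵥ v) =
      conjL ρ S₁ (((ω⁻¹ : GL ι F) : Matrix ι ι F) *ᵥ v) := by
    intro v
    have h1 := key (((ω⁻¹ : GL ι F) : Matrix ι ι F) *ᵥ v)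
    rw [hωi'] at h1
    rw [← h1, hωi]
  refine ⟨ω⁻¹, Subgroup.inv_mem _ hω, ?_⟩
  apply mem_norm_of_pm hJK hspan
  have hval : ((ω⁻¹⁻¹ * x * ω⁻¹ : GL ι F) : Matrix ι ι F) =
      (ω : Matrix ι ι F) * (x : Matrix ι ι F) * ((ω⁻¹ : GL ι F) : Matrix ι ι F) := by
    rw [inv_inv, Units.val_mul, Units.val_mul]
  rw [hval]
  have hcomp : ∀ v, ((ω : Matrix ι ι F) * (x : Matrix ι ι F) *
      ((ω⁻¹ : GL ι F) : Matrix ι ι F) * Jm) *ᵥ v =
      (ω : Matrix ι ι F) *ᵥ ((Matrix.toLin' (x : Matrix ι ι F) * conjL ρ S₁)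
        (((ω⁻¹ : GL ι F) : Matrix ι ι F) *ᵥ v)) := by
    intro v
    rw [← Matrix.mulVec_mulVec, ← Matrix.mulVec_mulVec, ← Matrix.mulVec_mulVec, key',
      Module.End.mul_apply, Matrix.toLin'_apply]
  have hcomp' : ∀ v, (Jm * ((ω : Matrix ι ι F) * (x : Matrix ι ι F) *
      ((ω⁻¹ : GL ι F) : Matrix ι ι F))) *ᵥ v =
      (ω : Matrix ι ι F) *ᵥ ((conjL ρ S₁ * Matrix.toLin' (x : Matrix ι ι F))
        (((ω⁻¹ : GL ι F) : Matrix ι ι F) *ᵥ v)) := by
    intro v
    rw [← Matrix.mulVec_mulVec, ← Matrix.mulVec_mulVec, ← Matrix.mulVec_mulVec, ← key,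
      Module.End.mul_apply, Matrix.toLin'_apply]
  rcases hn' with hc | hc
  · left
    apply Matrix.toLin'.injective
    apply LinearMap.ext
    intro v
    rw [Matrix.toLin'_apply, Matrix.toLin'_apply, hcomp, hcomp', hc]
  · right
    apply Matrix.toLin'.injective
    apply LinearMap.ext
    intro v
    rw [Matrix.toLin'_apply, Matrix.toLin'_apply, Matrix.neg_mulVec, hcomp, hcomp', hc,
      LinearMap.neg_apply, Matrix.mulVec_neg]

/-- conjugating a model into the normaliser -/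
theorem key_conjO {F : Type*} [Field F] {ι : Type} [Fintype ι] [DecidableEq ι] (Q₀ : (ι → F) → F)
    {K : Subalgebra F (Matrix ι ι F)} (r : ℕ)
    (hall : ∀ x ∈ Cfsg.Geo.omegaGL Q₀,
      (∃ z : F, ((x ^ r : GL ι F) : Matrix ι ι F) = z • (1 : Matrix ι ι F)) →
      (∀ z : F, (x : Matrix ι ι F) ≠ z • (1 : Matrix ι ι F)) →
      ∃ g ∈ Cfsg.Geo.omegaGL Q₀, g⁻¹ * x * g ∈ Cfsg.Geo.subalgebraNormalizer K)
    (x : GL ι F) (hx : x ∈ Cfsg.Geo.omegaGL Q₀) (hxr : x ^ r = 1)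
    (hns : ∀ z : F, (x : Matrix ι ι F) ≠ z • (1 : Matrix ι ι F)) :
    ∃ y ∈ Cfsg.Geo.omegaGL Q₀, y ∈ Cfsg.Geo.subalgebraNormalizer K ∧ y ^ r = 1 ∧
      ∀ P : F[X], finrank F (LinearMap.ker (aeval (Matrix.toLin' (y : Matrix ι ι F)) P)) =
        finrank F (LinearMap.ker (aeval (Matrix.toLin' (x : Matrix ι ι F)) P)) := by
  obtain ⟨g, hg, hgN⟩ := hall x hx ⟨1, by rw [hxr, Units.val_one, one_smul]⟩ hns
  have hyr : (g⁻¹ * x * g) ^ r = 1 := by
    have h : g⁻¹ * x * g = g⁻¹ * x * (g⁻¹)⁻¹ := by rw [inv_inv]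
    rw [h, conj_pow, hxr, mul_one, mul_inv_cancel]
  refine ⟨g⁻¹ * x * g, mul_mem (mul_mem (inv_mem hg) hx) hg, hgN, hyr, ?_⟩
  intro P
  exact finrank_ker_aeval_conj g x P

theorem blockDim_of_odd {c : ℕ} (hc : Odd c) : blockDim c = 2 * c := by
  unfold blockDim
  rw [if_neg (Nat.not_even_iff_odd.2 hc)]

theorem blockDim_of_even {c : ℕ} (hc : Even c) : blockDim c = c := by
  unfold blockDim
  rw [if_pos hc]

/-- **(⇒)** -/
theorem forward {F : Type*} [Field F] [Fintype F] {p : ℕ} [Fact p.Prime] [CharP F p]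
    (hodd : Odd (Fintype.card F))
    {ι : Type} [Fintype ι] [DecidableEq ι] (Q : QuadraticForm F (ι → F))
    (hQ : (polarBilin Q).Nondegenerate) (d : ℕ) (hd : 2 ≤ d) (hι : Fintype.card ι = 2 * d)
    (plus : Bool)
    (hO : Nat.card ↥(Cfsg.isometryGroup F ⇑Q) = 2 * Fintype.card F ^ (d * (d - 1)) *
      (if plus then Fintype.card F ^ d - 1 else Fintype.card F ^ d + 1) *
        ∏ i ∈ Finset.range (d - 1), (Fintype.card F ^ (2 * (i + 1)) - 1))
    (hty : ∀ [DecidableEq F], dch Q = (if plus then 1 else -1) * (quadraticChar F (-1)) ^ d)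
    (hmod : ∀ (r : ℕ) [Fact r.Prime], r ≠ p → r ≠ 2 → ∀ e₀ : ℕ,
      2 * d = blockDim (orderOf ((Fintype.card F : ℕ) : ZMod r)) + e₀ →
      (e₀ = 0 → (plus = true ∧ Odd (orderOf ((Fintype.card F : ℕ) : ZMod r))) ∨
        (plus = false ∧ Even (orderOf ((Fintype.card F : ℕ) : ZMod r)))) →
      ∃ x : GL ι F, x ∈ Cfsg.isometryGroup F ⇑Q ∧ x ^ r = 1 ∧ x ≠ 1 ∧
        finrank F (fixS (Matrix.toLin' (x : Matrix ι ι F))) = e₀)
    (hunip : ∃ e w : ι → F, e ≠ 0 ∧ Q e = 0 ∧ polar (⇑Q) e w = 0 ∧ Q w ≠ 0)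
    (K : Subalgebra F (Matrix ι ι F)) (hK : Cfsg.Geo.IsFieldSubalgebra 2 K)
    (hKf : Cfsg.Geo.IsSelfAdjointFor (QuadraticMap.polar ⇑Q) K)
    (r : ℕ) [Fact r.Prime] (hr2 : r ≠ 2)
    (hΩ : r ∣ (Cfsg.Geo.subalgebraNormalizer K).relIndex (Cfsg.Geo.omegaGL ⇑Q))
    (hall : ∀ x ∈ Cfsg.Geo.omegaGL ⇑Q,
      (∃ z : F, ((x ^ r : GL ι F) : Matrix ι ι F) = z • (1 : Matrix ι ι F)) →
      (∀ z : F, (x : Matrix ι ι F) ≠ z • (1 : Matrix ι ι F)) →
      ∃ g ∈ Cfsg.Geo.omegaGL ⇑Q, g⁻¹ * x * g ∈ Cfsg.Geo.subalgebraNormalizer K) : False := by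
  classical
  have hr : r.Prime := Fact.out
  have h2 : (2 : F) ≠ 0 := Cfsg.Agent.Lib.Helper3.GUSp.two_ne_zero_of_odd_card hodd
  have hn : 2 ≤ Fintype.card ι := by omega
  have hrodd : Odd r := by
    rcases hr.eq_two_or_odd with h | h
    · exact absurd h hr2
    · exact Nat.odd_iff.2 h
  have key := key_conjO (⇑Q) r hall
  -- every conjugate in the normaliser is K-linear, so all its kernels are even-dimensional
  have hlin : ∀ y : GL ι F, y ∈ Cfsg.Geo.subalgebraNormalizer K → y ^ r = 1 →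
      KLin K (y : Matrix ι ι F) := by
    intro y hyN hyr
    exact klin_of_ne Nat.prime_two hK y hyN r hr hr2 1 (by rw [hyr, Units.val_one, one_smul])
  have heven : ∀ y : GL ι F, y ∈ Cfsg.Geo.subalgebraNormalizer K → y ^ r = 1 → ∀ P : F[X],
      Even (finrank F (LinearMap.ker (aeval (Matrix.toLin' (y : Matrix ι ι F)) P))) := by
    intro y hyN hyr P
    exact even_iff_two_dvd.2
      (dvd_finrank_ker_of_klin two_ne_zero hK _ (hlin y hyN hyr) P)
  by_cases hrp : r = p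
  · -- unipotent case
    subst hrp
    obtain ⟨e, w, he0, he, hew, hw⟩ := hunip
    obtain ⟨x, hx, hxr, hns, hfin⟩ := exists_unip hr2 Q hQ hn e w he0 he hew hw
    obtain ⟨y, hy, hyN, hyr, hyP⟩ := key x hx hxr hns
    have h1 := heven y hyN hyr ((X - 1) ^ 2 : F[X])
    rw [hyP] at h1
    rw [hι] at hfin
    rcases h1 with ⟨t, ht⟩
    omega
  · -- semisimple case
    have hrq' : ¬ r ∣ Fintype.card F := by
      intro hdvd
      obtain ⟨n, hp, hn⟩ := FiniteField.card F p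
      rw [hn] at hdvd
      exact hrp ((Nat.prime_dvd_prime_iff_eq hr hp).1 (hr.dvd_of_dvd_pow hdvd))
    obtain ⟨Jm, ε, hε, hJK, hJJ, hspan⟩ := exists_gen h2 K hK
    have hS : IsJ Q ε (Matrix.toLin' Jm) := by
      refine ⟨?_, ?_⟩
      · intro v
        rw [← toLin'_mul_apply, hJJ, map_smul, Matrix.toLin'_one]
        rfl
      · intro u v
        rw [Matrix.toLin'_apply, Matrix.toLin'_apply]
        exact hKf Jm hJK u v
    -- the arithmetic
    obtain ⟨hc1, hc2, hc3⟩ := card_dvd_norm hodd Q hQ d (by omega) hι K Jm ε hε hspan hS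
    set q := Fintype.card F with hq
    set N1 : ℕ := if d % 2 = 1 then
        2 * (q ^ 2) ^ ((d / 2) ^ 2) * ∏ i ∈ Finset.range (d / 2), ((q ^ 2) ^ (2 * (i + 1)) - 1)
      else 2 * (q ^ 2) ^ ((d / 2) * (d / 2 - 1)) *
        (if plus then (q ^ 2) ^ (d / 2) - 1 else (q ^ 2) ^ (d / 2) + 1) *
        ∏ i ∈ Finset.range (d / 2 - 1), ((q ^ 2) ^ (2 * (i + 1)) - 1) with hN1
    have hN1odd : ∀ m, d = 2 * m + 1 →
        N1 = 2 * (q ^ 2) ^ (m ^ 2) * ∏ i ∈ Finset.range m, ((q ^ 2) ^ (2 * (i + 1)) - 1) := by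
      intro m hm
      have h1 : d % 2 = 1 := by omega
      have h3 : d / 2 = m := by omega
      rw [hN1, if_pos h1, h3]
    have hN1even : ∀ m, d = 2 * m →
        N1 = 2 * (q ^ 2) ^ (m * (m - 1)) *
          (if plus then (q ^ 2) ^ m - 1 else (q ^ 2) ^ m + 1) *
          ∏ i ∈ Finset.range (m - 1), ((q ^ 2) ^ (2 * (i + 1)) - 1) := by
      intro m hm
      have h1 : ¬ d % 2 = 1 := by omega
      have h3 : d / 2 = m := by omega
      rw [hN1, if_neg h1, h3]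
    have hN1dvd : N1 ∣
        Nat.card ↥(Cfsg.Geo.subalgebraNormalizer K ⊓ Cfsg.isometryGroup F ⇑Q) := by
      rcases Nat.even_or_odd' d with ⟨m, hm | hm⟩
      · rw [hN1even m hm]
        cases plus with
        | true =>
          have h4 := hc2 m hm (by rw [hty]; simp)
          simpa using h4
        | false =>
          have h4 := hc3 m hm (by rw [hty]; simp)
          simpa using h4
      · rw [hN1odd m hm]
        exact hc1 m hm
    have hdiv := dvd_card_of_relIndex hodd Q hQ hn K r hr2 hΩ N1 hN1dvd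
    rw [hO] at hdiv
    have hcases := order_cases_O (q := q) (r := r) (d := d) hr2 Fintype.one_lt_card hrq'
      (by omega) plus N1 hN1odd hN1even hdiv
    -- nonscalar
    have hne : Nonempty ι := Fintype.card_pos_iff.1 (by omega)
    have hnonscalar : ∀ x : GL ι F, x ∈ Cfsg.isometryGroup F ⇑Q → x ^ r = 1 → x ≠ 1 →
        ∀ z : F, (x : Matrix ι ι F) ≠ z • (1 : Matrix ι ι F) := by
      intro x hxi hxr hx1 z hz
      obtain ⟨v, hv⟩ := Cfsg.Agent.Lib.Helper2.Spinor.exists_value (Q := Q) hQ hn 1 one_ne_zero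
      have h1 := iso_apply hxi v
      rw [hz, map_smul, Matrix.toLin'_one] at h1
      change Q (z • v) = Q v at h1
      rw [QuadraticMap.map_smul, hv, smul_eq_mul, mul_one] at h1
      have hzr : z ^ r = 1 := by
        have h3 : ((x ^ r : GL ι F) : Matrix ι ι F) = (z ^ r) • (1 : Matrix ι ι F) := by
          rw [Units.val_pow_eq_pow_val, hz, _root_.smul_pow, one_pow]
        rw [hxr, Units.val_one] at h3
        have h4 := congrFun (congrFun h3 (Classical.arbitrary ι)) (Classical.arbitrary ι)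
        rw [Matrix.smul_apply, Matrix.one_apply_eq, smul_eq_mul, mul_one] at h4
        exact h4.symm
      obtain ⟨t, ht⟩ := hrodd
      have hz1 : z = 1 := by
        have h5 : z ^ r = z * (z * z) ^ t := by rw [ht, pow_succ, pow_mul, pow_two]; ring
        rw [h5, h1, one_pow, mul_one] at hzr
        exact hzr
      apply hx1
      apply Units.ext
      rw [hz, hz1, one_smul, Units.val_one]
    have hpowlin : ∀ x : GL ι F, x ^ r = 1 → (Matrix.toLin' (x : Matrix ι ι F)) ^ r = 1 := by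
      intro x hxr
      rw [← Matrix.toLin'_pow, ← Units.val_pow_eq_pow_val, hxr, Units.val_one, Matrix.toLin'_one]
      rfl
    rcases hcases with ⟨hcodd, hcd, hcplus⟩ | ⟨h, hch, hhodd, hhd, hhplus, hrq⟩
    · -- odd order
      have hbd := blockDim_of_odd hcodd
      obtain ⟨x, hxi, hxr, hx1, hfix⟩ := hmod r hrp hr2
        (2 * d - 2 * orderOf ((q : ℕ) : ZMod r)) (by rw [hbd]; omega) (by
          intro h0
          left
          exact ⟨hcplus (by omega), hcodd⟩)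
      have hx : x ∈ Cfsg.Geo.omegaGL ⇑Q :=
        Cfsg.Agent.Lib.Helper5.UniO.mem_omegaGL_of_pow_eq_one h2 Q hQ hn x hxi r hrodd hxr
      obtain ⟨y, hy, hyN, hyr, hyP⟩ := key x hx hxr (hnonscalar x hxi hxr hx1)
      have hsum := Submodule.finrank_add_eq_of_isCompl
        (Cfsg.Agent.Lib.Helper9.H9Elus.isCompl_ker r hrp
          (Matrix.toLin' (x : Matrix ι ι F)) (hpowlin x hxr))
      rw [hfix, Module.finrank_fintype_fun_eq_card, hι] at hsum
      have hyi : y ∈ Cfsg.isometryGroup F ⇑Q := mem_iso_of_mem_omegaGL hy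
      apply finrank_cyc_ne_of_odd (polarBilin Q)
        (fun v hv => hQ.2 v hv)
        (Matrix.toLin' (y : Matrix ι ι F))
        (fun u v => by
          rw [polarBilin_apply_apply, polarBilin_apply_apply]
          unfold QuadraticMap.polar
          rw [← map_add, iso_apply hyi, iso_apply hyi, iso_apply hyi])
        r hrp hr2 hcodd (hpowlin y hyr) (heven y hyN hyr)
      rw [hyP, ← hq]
      omega
    · -- even order
      have hbd : blockDim (orderOf ((q : ℕ) : ZMod r)) = 2 * h := by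
        rw [hch]
        exact blockDim_of_even (even_two_mul h)
      obtain ⟨x, hxi, hxr, hx1, hfix⟩ := hmod r hrp hr2
        (2 * d - 2 * h) (by rw [hbd]; omega) (by
          intro h0
          right
          refine ⟨hhplus (by omega), ?_⟩
          rw [hch]
          exact even_two_mul h)
      have hx : x ∈ Cfsg.Geo.omegaGL ⇑Q :=
        Cfsg.Agent.Lib.Helper5.UniO.mem_omegaGL_of_pow_eq_one h2 Q hQ hn x hxi r hrodd hxr
      obtain ⟨y, hy, hyN, hyr, hyP⟩ := key x hx hxr (hnonscalar x hxi hxr hx1)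
      have hsum := Submodule.finrank_add_eq_of_isCompl
        (Cfsg.Agent.Lib.Helper9.H9Elus.isCompl_ker r hrp
          (Matrix.toLin' (x : Matrix ι ι F)) (hpowlin x hxr))
      rw [hfix, Module.finrank_fintype_fun_eq_card, hι] at hsum
      have hyi : y ∈ Cfsg.isometryGroup F ⇑Q := mem_iso_of_mem_omegaGL hy
      apply finrank_cyc_ne_of_even Q hQ (Matrix.toLin' (y : Matrix ι ι F)) (Matrix.toLin' Jm)
        (fun v => iso_apply hyi v) ε hε hS
        (feB_toLin_comm _ (hlin y hyN hyr) Jm hJK) r hrp h hhodd hch hrq (hpowlin y hyr)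
      rw [hyP]
      omega

end assembly

end Cfsg.Agent.Lib.Helper3.FEO

namespace Cfsg.Agent.Lib.Helper3.FEO

open Module Matrix Polynomial QuadraticMap
open Cfsg.Agent.Lib.Helper2.MaxTS2 Cfsg.Agent.Lib.Helper2.OrthEl Cfsg.Agent.Lib.Helper2.OrthNd
open Cfsg.Agent.Lib.Helper3.FESp Cfsg.Agent.Lib.Helper5.OPar
open Cfsg.Agent.Lib.Helper5.QuadGlue Cfsg.Agent.Lib.Helper2

section final

theorem unip_plus {F : Type*} [Field F] (d : ℕ) (hd : 2 ≤ d) :
    ∃ e w : Fin d ⊕ Fin d → F, e ≠ 0 ∧ QP d F e = 0 ∧ polar (⇑(QP d F)) e w = 0 ∧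
      QP d F w ≠ 0 := by
  classical
  refine ⟨Pi.single (Sum.inl ⟨0, by omega⟩) 1,
    Pi.single (Sum.inl ⟨1, by omega⟩) 1 + Pi.single (Sum.inr ⟨1, by omega⟩) 1, ?_, ?_, ?_, ?_⟩
  · intro h0
    have := congrFun h0 (Sum.inl ⟨0, by omega⟩)
    rw [Pi.single_eq_same] at this
    exact one_ne_zero this
  · rw [QP_apply]
    unfold Cfsg.quadFormPlus
    apply Finset.sum_eq_zero
    intro i _
    rw [Pi.single_apply (Sum.inl (⟨0, by omega⟩ : Fin d)) (1 : F) (Sum.inr i),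
      if_neg (by simp), mul_zero]
  · rw [QuadStd.polar_plus]
    apply Finset.sum_eq_zero
    intro i _
    have h1 : (Pi.single (Sum.inl ⟨0, by omega⟩) 1 : Fin d ⊕ Fin d → F) (Sum.inr i) = 0 := by
      rw [Pi.single_apply, if_neg (by simp)]
    rw [h1, mul_zero, add_zero]
    by_cases hi : i = ⟨0, by omega⟩
    · subst hi
      simp
    · rw [Pi.single_apply, if_neg (by simpa using hi), zero_mul]
  · rw [QP_apply]
    unfold Cfsg.quadFormPlus
    rw [Finset.sum_eq_single (⟨1, by omega⟩ : Fin d)]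
    · simp
    · intro i _ hi
      simp [hi]
    · intro h'; exact absurd (Finset.mem_univ _) h'

theorem unip_minus {F : Type*} [Field F] (k : ℕ) (hk : 2 ≤ k) (a b : F) :
    ∃ e w : (Fin k ⊕ Fin k) ⊕ Fin 2 → F, e ≠ 0 ∧ QM k F a b e = 0 ∧
      polar (⇑(QM k F a b)) e w = 0 ∧ QM k F a b w ≠ 0 := by
  classical
  refine ⟨Pi.single (Sum.inl (Sum.inl ⟨0, by omega⟩)) 1,
    Pi.single (Sum.inl (Sum.inl ⟨1, by omega⟩)) 1 + Pi.single (Sum.inl (Sum.inr ⟨1, by omega⟩)) 1,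
    ?_, ?_, ?_, ?_⟩
  · intro h0
    have := congrFun h0 (Sum.inl (Sum.inl ⟨0, by omega⟩))
    rw [Pi.single_eq_same] at this
    exact one_ne_zero this
  · rw [QM_apply]
    unfold Cfsg.quadFormMinus
    rw [Finset.sum_eq_zero]
    · simp
    · intro i _
      rw [Pi.single_apply (Sum.inl (Sum.inl (⟨0, by omega⟩ : Fin k))) (1 : F)
        (Sum.inl (Sum.inr i)), if_neg (by simp), mul_zero]
  · rw [QuadStd.polar_minus]
    rw [Finset.sum_eq_zero]
    · simp
    · intro i _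
      have h1 : (Pi.single (Sum.inl (Sum.inl ⟨0, by omega⟩)) 1 : (Fin k ⊕ Fin k) ⊕ Fin 2 → F)
          (Sum.inl (Sum.inr i)) = 0 := by
        rw [Pi.single_apply, if_neg (by simp)]
      rw [h1, mul_zero, add_zero]
      by_cases hi : i = ⟨0, by omega⟩
      · subst hi
        simp
      · rw [Pi.single_apply, if_neg (by simpa using hi), zero_mul]
  · rw [QM_apply]
    unfold Cfsg.quadFormMinus
    rw [Finset.sum_eq_single (⟨1, by omega⟩ : Fin k)]
    · simp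
    · intro i _ hi
      simp [hi]
    · intro h'; exact absurd (Finset.mem_univ _) h'

theorem main_plus {F : Type*} [Field F] [Fintype F] {p : ℕ} [Fact p.Prime] [CharP F p] {q : ℕ}
    (hq : Fintype.card F = q) (hodd : Odd q) (d : ℕ) (hd : 4 ≤ d)
    (K : Subalgebra F (Matrix (Fin d ⊕ Fin d) (Fin d ⊕ Fin d) F))
    (hK : Cfsg.Geo.IsFieldSubalgebra 2 K)
    (hKf : Cfsg.Geo.IsSelfAdjointFor (QuadraticMap.polar (Cfsg.quadFormPlus d F)) K)
    (r : ℕ) [Fact r.Prime]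
    (hΩ : r ∣ (Cfsg.Geo.subalgebraNormalizer K).relIndex
      (Cfsg.Geo.omegaGL (Cfsg.quadFormPlus d F))) :
    (∀ x ∈ Cfsg.Geo.omegaGL (Cfsg.quadFormPlus d F),
      (∃ z : F, ((x ^ r : GL (Fin d ⊕ Fin d) F) : Matrix (Fin d ⊕ Fin d) (Fin d ⊕ Fin d) F) =
        z • (1 : Matrix (Fin d ⊕ Fin d) (Fin d ⊕ Fin d) F)) →
      (∀ z : F, (x : Matrix (Fin d ⊕ Fin d) (Fin d ⊕ Fin d) F) ≠
        z • (1 : Matrix (Fin d ⊕ Fin d) (Fin d ⊕ Fin d) F)) →
      ∃ g ∈ Cfsg.Geo.omegaGL (Cfsg.quadFormPlus d F),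
        g⁻¹ * x * g ∈ Cfsg.Geo.subalgebraNormalizer K) ↔ r = 2 := by
  subst hq
  have h2 : (2 : F) ≠ 0 := Cfsg.Agent.Lib.Helper3.GUSp.two_ne_zero_of_odd_card hodd
  have hcard : Fintype.card (Fin d ⊕ Fin d) = 2 * d := by
    rw [Fintype.card_sum, Fintype.card_fin]; ring
  rw [← QuadStd.QP_coe d] at hKf hΩ ⊢
  constructor
  · intro hall
    by_contra hr2
    refine forward hodd (QP d F) (QuadStd.QP_nondeg d) d (by omega) hcard true ?_ ?_ ?_
      (unip_plus d (by omega)) K hK hKf r hr2 hΩ hall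
    · rw [QuadStd.QP_coe, Cfsg.Agent.S0287.result rfl d (by omega)]
      simp
    · intro _
      rw [dch_QP h2 d]
      simp
    · intro r' _ hrp hr2' e₀ hdim hcompat
      rw [QuadStd.QP_coe]
      apply exists_model_plus hodd d r' hrp hr2' 1 e₀ le_rfl (by rw [mul_one]; exact hdim)
      intro h0
      rcases hcompat h0 with ⟨-, h⟩ | ⟨h, -⟩
      · exact Or.inl h
      · exact absurd h (by simp)
  · rintro rfl x hx ⟨z, hz⟩ -
    exact backward hodd (QP d F) (QuadStd.QP_nondeg d) (by omega) (by rw [hcard]; exact even_two_mul d)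
      K hK hKf x hx z hz

theorem main_minus {F : Type*} [Field F] [Fintype F] {p : ℕ} [Fact p.Prime] [CharP F p] {q : ℕ}
    (hq : Fintype.card F = q) (hodd : Odd q) (d : ℕ) (hd : 4 ≤ d) (a b : F)
    (hab : ∀ x y : F, x ^ 2 + a * x * y + b * y ^ 2 = 0 → x = 0 ∧ y = 0)
    (K : Subalgebra F (Matrix ((Fin (d - 1) ⊕ Fin (d - 1)) ⊕ Fin 2)
      ((Fin (d - 1) ⊕ Fin (d - 1)) ⊕ Fin 2) F))
    (hK : Cfsg.Geo.IsFieldSubalgebra 2 K)
    (hKf : Cfsg.Geo.IsSelfAdjointFor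
      (QuadraticMap.polar (Cfsg.quadFormMinus (d - 1) F a b)) K)
    (r : ℕ) [Fact r.Prime]
    (hΩ : r ∣ (Cfsg.Geo.subalgebraNormalizer K).relIndex
      (Cfsg.Geo.omegaGL (Cfsg.quadFormMinus (d - 1) F a b))) :
    (∀ x ∈ Cfsg.Geo.omegaGL (Cfsg.quadFormMinus (d - 1) F a b),
      (∃ z : F, ((x ^ r : GL ((Fin (d - 1) ⊕ Fin (d - 1)) ⊕ Fin 2) F) :
        Matrix ((Fin (d - 1) ⊕ Fin (d - 1)) ⊕ Fin 2) ((Fin (d - 1) ⊕ Fin (d - 1)) ⊕ Fin 2) F) =
        z • (1 : Matrix ((Fin (d - 1) ⊕ Fin (d - 1)) ⊕ Fin 2)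
          ((Fin (d - 1) ⊕ Fin (d - 1)) ⊕ Fin 2) F)) →
      (∀ z : F, (x : Matrix ((Fin (d - 1) ⊕ Fin (d - 1)) ⊕ Fin 2)
        ((Fin (d - 1) ⊕ Fin (d - 1)) ⊕ Fin 2) F) ≠
        z • (1 : Matrix ((Fin (d - 1) ⊕ Fin (d - 1)) ⊕ Fin 2)
          ((Fin (d - 1) ⊕ Fin (d - 1)) ⊕ Fin 2) F)) →
      ∃ g ∈ Cfsg.Geo.omegaGL (Cfsg.quadFormMinus (d - 1) F a b),
        g⁻¹ * x * g ∈ Cfsg.Geo.subalgebraNormalizer K) ↔ r = 2 := by
  subst hq
  have h2 : (2 : F) ≠ 0 := Cfsg.Agent.Lib.Helper3.GUSp.two_ne_zero_of_odd_card hodd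
  have hcard : Fintype.card ((Fin (d - 1) ⊕ Fin (d - 1)) ⊕ Fin 2) = 2 * d := by
    rw [Fintype.card_sum, Fintype.card_sum, Fintype.card_fin, Fintype.card_fin]; omega
  rw [← QuadStd.QM_coe (d - 1) a b] at hKf hΩ ⊢
  have hnd := QuadStd.QM_nondeg h2 (d - 1) a b hab
  constructor
  · intro hall
    by_contra hr2
    refine forward hodd (QM (d - 1) F a b) hnd d (by omega) hcard false ?_ ?_ ?_
      (unip_minus (d - 1) (by omega) a b) K hK hKf r hr2 hΩ hall
    · rw [QuadStd.QM_coe, Cfsg.Agent.S0288.result rfl d (by omega) a b hab]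
      simp
    · intro _
      rw [dch_QM h2 (d - 1) a b hab, Nat.sub_add_cancel (by omega)]
      simp
    · intro r' _ hrp hr2' e₀ hdim hcompat
      rw [QuadStd.QM_coe]
      apply exists_model_minus hodd d (by omega) a b hab r' hrp hr2' 1 e₀ le_rfl
        (by rw [mul_one]; exact hdim)
      intro h0
      rcases hcompat h0 with ⟨h, -⟩ | ⟨-, h⟩
      · exact absurd h (by simp)
      · exact ⟨h, odd_one⟩
  · rintro rfl x hx ⟨z, hz⟩ -
    exact backward hodd (QM (d - 1) F a b) hnd (by omega)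
      (by rw [hcard]; exact even_two_mul d) K hK hKf x hx z hz

end final

end Cfsg.Agent.Lib.Helper3.FEO
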