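import Mathlib
import Cfsg.Prelude
import Cfsg.Agent.Lib.Helper9.FieldSub1
import Cfsg.Agent.Lib.Helper9.GSpInv0
import Cfsg.Agent.Lib.Helper2.SpIsom
import Cfsg.Agent.Lib.Helper5.AltForm2
import Cfsg.Agent.Lib.Helper3.GUSp_F
import Cfsg.Agent.Lib.Helper3.FESp0
import Cfsg.Agent.S0245

set_option autoImplicit false

/-!
S5975 package FE-F2: the symplectic group of the `L`-form embeds into the normaliser of the field
subalgebra inside the symplectic group over the base field.
-/

namespace Cfsg.Agent.Lib.Helper3.FESp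

open Module Matrix Cfsg.Agent.H9FK Cfsg.Agent.Lib.Helper2 Cfsg.Agent.Lib.Helper2.SpIsom
  Cfsg.Agent.Lib.Helper3.GUSp

/-- a matrix centralising `K` normalises `K` -/
theorem feF2_mem_norm {F : Type*} [Field F] {ι : Type} [Fintype ι] [DecidableEq ι]
    (K : Subalgebra F (Matrix ι ι F)) (g : GL ι F) (hl : KLin K (g : Matrix ι ι F)) :
    g ∈ Cfsg.Geo.subalgebraNormalizer K := by
  intro a
  constructor
  · intro ha
    have h1 : (g : Matrix ι ι F) * a * ((g⁻¹ : GL ι F) : Matrix ι ι F) = a := by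
      rw [hl a ha, mul_assoc, Units.mul_inv, mul_one]
    rw [h1]
    exact ha
  · intro ha
    have h1 := hl _ ha
    have h2 : (g : Matrix ι ι F) * ((g : Matrix ι ι F) * a * ((g⁻¹ : GL ι F) : Matrix ι ι F)) =
        (g : Matrix ι ι F) * a := by
      rw [h1, mul_assoc, Units.inv_mul, mul_one]
    have h3 : (g : Matrix ι ι F) * a * ((g⁻¹ : GL ι F) : Matrix ι ι F) = a := by
      calc (g : Matrix ι ι F) * a * ((g⁻¹ : GL ι F) : Matrix ι ι F)
          = ((g⁻¹ : GL ι F) : Matrix ι ι F) * ((g : Matrix ι ι F) *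
              ((g : Matrix ι ι F) * a * ((g⁻¹ : GL ι F) : Matrix ι ι F))) := by
            rw [← mul_assoc ((g⁻¹ : GL ι F) : Matrix ι ι F), Units.inv_mul, one_mul]
        _ = a := by rw [h2, ← mul_assoc, Units.inv_mul, one_mul]
    rw [← h3]
    exact ha

/-- transport of linear automorphisms along a linear equivalence -/
def feF2_conj {L V W : Type*} [Field L] [AddCommGroup V] [Module L V] [AddCommGroup W]
    [Module L W] (e : V ≃ₗ[L] W) : (W ≃ₗ[L] W) →* (V ≃ₗ[L] V) where
  toFun g := (e.trans g).trans e.symm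
  map_one' := by
    apply LinearEquiv.ext
    intro v
    show e.symm (e v) = v
    exact e.symm_apply_apply v
  map_mul' g h := by
    apply LinearEquiv.ext
    intro v
    show e.symm ((g * h) (e v)) = e.symm (g (e (e.symm (h (e v)))))
    rw [LinearEquiv.apply_symm_apply, LinearEquiv.mul_apply]

theorem feF2_conj_apply {L V W : Type*} [Field L] [AddCommGroup V] [Module L V] [AddCommGroup W]
    [Module L W] (e : V ≃ₗ[L] W) (g : W ≃ₗ[L] W) (v : V) :
    feF2_conj e g v = e.symm (g (e v)) := rfl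

section emb

variable {F : Type*} [Field F] {ι : Type} [Fintype ι] [DecidableEq ι] {L : Type*} [Field L]
  [Algebra F L] [Module L (ι → F)] [IsScalarTower F L (ι → F)] {m : ℕ}

/-- symplectic matrices over `L` as invertible matrices over `F` -/
noncomputable def feF2_Psi (e : (ι → F) ≃ₗ[L] (Fin m ⊕ Fin m → L)) :
    Matrix.symplecticGroup (Fin m) L →* GL ι F :=
  (pkF_glLin ι F).symm.toMonoidHom.comp
    ((pkF_restrict F L (ι → F)).comp ((feF2_conj e).comp (spHom m L)))

theorem feF2_Psi_mulVec (e : (ι → F) ≃ₗ[L] (Fin m ⊕ Fin m → L))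
    (M : Matrix.symplecticGroup (Fin m) L) (x : ι → F) :
    ((feF2_Psi e M : GL ι F) : Matrix ι ι F) *ᵥ x =
      e.symm ((M : Matrix (Fin m ⊕ Fin m) (Fin m ⊕ Fin m) L) *ᵥ e x) := by
  rw [← pkF_glLin_apply]
  unfold feF2_Psi
  simp only [MonoidHom.coe_comp, MulEquiv.coe_toMonoidHom, Function.comp_apply,
    MulEquiv.apply_symm_apply]
  rfl

theorem feF2_Psi_injective (e : (ι → F) ≃ₗ[L] (Fin m ⊕ Fin m → L)) :
    Function.Injective (feF2_Psi (F := F) e) := by
  intro M M' h
  apply Subtype.ext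
  apply Matrix.toLin'.injective
  apply LinearMap.ext
  intro w
  rw [Matrix.toLin'_apply, Matrix.toLin'_apply]
  have h1 := feF2_Psi_mulVec e M (e.symm w)
  have h2 := feF2_Psi_mulVec e M' (e.symm w)
  rw [h, h2, LinearEquiv.apply_symm_apply] at h1
  exact (e.symm.injective h1).symm

/-- the image consists of `L`-linear maps -/
theorem feF2_Psi_smul (e : (ι → F) ≃ₗ[L] (Fin m ⊕ Fin m → L))
    (M : Matrix.symplecticGroup (Fin m) L) (a : L) (x : ι → F) :
    ((feF2_Psi e M : GL ι F) : Matrix ι ι F) *ᵥ (a • x) =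
      a • (((feF2_Psi e M : GL ι F) : Matrix ι ι F) *ᵥ x) := by
  rw [feF2_Psi_mulVec, feF2_Psi_mulVec, map_smul, Matrix.mulVec_smul, map_smul]

end emb

set_option linter.unusedVariables false in
/-- **FE-F2** -/
theorem sp_card_dvd_of_form {F : Type*} [Field F] [Fintype F] {q : ℕ}
    (hq : Fintype.card F = q) (d : ℕ) (hd : 1 ≤ d) (k : ℕ) [NeZero k]
    (K : Subalgebra F (Matrix (Fin d ⊕ Fin d) (Fin d ⊕ Fin d) F))
    (hK : Cfsg.Geo.IsFieldSubalgebra k K)
    (BL : LinearMap.BilinForm (Cfsg.Agent.H9FK.FK K hK) (Fin d ⊕ Fin d → F))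
    (hAlt : BL.IsAlt) (hnd : ∀ x, (∀ y, BL x y = 0) → x = 0)
    (htr : ∀ u v, Cfsg.sympForm d F u v = Algebra.trace F (Cfsg.Agent.H9FK.FK K hK) (BL u v)) :
    ∃ m, d = k * m ∧
      ((q ^ k) ^ (m ^ 2) * ∏ i ∈ Finset.range m, ((q ^ k) ^ (2 * (i + 1)) - 1)) ∣
        Nat.card ↥(Cfsg.Geo.subalgebraNormalizer K ⊓ Cfsg.spGL d F) := by
  subst hq
  have : Fintype (FK K hK) := Fintype.ofFinite _
  have hcardL : Fintype.card (FK K hK) = Fintype.card F ^ k := by
    rw [Module.card_eq_pow_finrank (K := F) (V := FK K hK), FK.finrank_eq]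
  have hfinL : Module.Finite (FK K hK) (Fin d ⊕ Fin d → F) :=
    Module.Finite.of_restrictScalars_finite F (FK K hK) (Fin d ⊕ Fin d → F)
  obtain ⟨m, b, hm, hb⟩ := Cfsg.Agent.Lib.Helper9.H9AltForm.exists_symplectic_basis hAlt hnd
  have hfrL : k * (2 * m) = 2 * d := by
    have h1 := Module.finrank_mul_finrank F (FK K hK) (Fin d ⊕ Fin d → F)
    rw [FK.finrank_eq, Module.finrank_fintype_fun_eq_card, Fintype.card_sum, Fintype.card_fin,
      ← hm] at h1
    omega
  have hdm : d = k * m := by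
    have : k * (2 * m) = 2 * (k * m) := by ring
    omega
  refine ⟨m, hdm, ?_⟩
  have hform : ∀ u v : Fin d ⊕ Fin d → F,
      BL u v = Cfsg.sympForm m (FK K hK) (b.equivFun u) (b.equivFun v) :=
    Cfsg.Agent.Lib.Helper5.AltForm.form_eq_sympForm BL b hb
  have hle : (feF2_Psi (F := F) b.equivFun).range ≤
      Cfsg.Geo.subalgebraNormalizer K ⊓ Cfsg.spGL d F := by
    rintro _ ⟨M, rfl⟩
    refine ⟨?_, ?_⟩
    · apply feF2_mem_norm
      intro a ha
      apply Matrix.toLin'.injective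
      apply LinearMap.ext
      intro x
      rw [Matrix.toLin'_apply, Matrix.toLin'_apply, ← Matrix.mulVec_mulVec,
        ← Matrix.mulVec_mulVec]
      exact feF2_Psi_smul b.equivFun M (FK.mk' a ha) x
    · intro u v
      show Cfsg.sympForm d F
        (((feF2_Psi (F := F) b.equivFun M : GL (Fin d ⊕ Fin d) F) :
          Matrix (Fin d ⊕ Fin d) (Fin d ⊕ Fin d) F) *ᵥ u)
        (((feF2_Psi (F := F) b.equivFun M : GL (Fin d ⊕ Fin d) F) :
          Matrix (Fin d ⊕ Fin d) (Fin d ⊕ Fin d) F) *ᵥ v) = Cfsg.sympForm d F u v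
      rw [htr, htr u v, hform, hform u v, feF2_Psi_mulVec, feF2_Psi_mulVec,
        LinearEquiv.apply_symm_apply, LinearEquiv.apply_symm_apply,
        Cfsg.Agent.Lib.Helper2.Symp.sympForm_mulVec _ M.2]
  have hcard2 : Nat.card ↥(feF2_Psi (F := F) b.equivFun).range =
      Nat.card (Matrix.symplecticGroup (Fin m) (FK K hK)) :=
    (Nat.card_congr (MonoidHom.ofInjective (feF2_Psi_injective b.equivFun)).toEquiv).symm
  rw [← Cfsg.Agent.S0245.result hcardL m, ← hcard2]
  exact Subgroup.card_dvd_of_le hle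

end Cfsg.Agent.Lib.Helper3.FESp
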