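import Mathlib
import Cfsg.Prelude
import Cfsg.Agent.Lib.Helper3.FEO2
import Cfsg.Agent.Lib.Helper3.FESp_F2

set_option autoImplicit false

/-!
S5977 / S5978, package FO-CARD, part 1: the `L`-linear isometries of `(VS j, QS j)`, written as
matrices over `L` in a standard basis, embed into `N(K) ⊓ O(Q)`.
-/

namespace Cfsg.Agent.Lib.Helper3.FEO

open Module Matrix QuadraticMap Cfsg.Agent.Lib.Helper3.FESp Cfsg.Agent.Lib.Helper3.GUSp

section emb

variable {F : Type*} [Field F] {ι : Type} [Fintype ι] [DecidableEq ι]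
  {Q : QuadraticForm F (ι → F)} {ε : F} [hε : Fact (∀ r : F, r ^ 2 ≠ ε + 0 * r)]
  {κ : Type} [Fintype κ] [DecidableEq κ]

/-- matrices over `L` as matrices over `F` -/
noncomputable def feoPsi (j : JOp Q ε) (e : VS j ≃ₗ[LL F ε] (κ → LL F ε)) :
    GL κ (LL F ε) →* GL ι F :=
  (pkF_glLin ι F).symm.toMonoidHom.comp
    ((show (VS j ≃ₗ[F] VS j) →* ((ι → F) ≃ₗ[F] (ι → F)) from MonoidHom.id _).comp
      ((pkF_restrict F (LL F ε) (VS j)).comp
        ((feF2_conj e).comp (pkF_glLin κ (LL F ε)).toMonoidHom)))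

theorem feoPsi_mulVec (j : JOp Q ε) (e : VS j ≃ₗ[LL F ε] (κ → LL F ε))
    (M : GL κ (LL F ε)) (x : ι → F) :
    ((feoPsi j e M : GL ι F) : Matrix ι ι F) *ᵥ x =
      e.symm ((M : Matrix κ κ (LL F ε)) *ᵥ e (show VS j from x)) := by
  rw [← pkF_glLin_apply]
  unfold feoPsi
  simp only [MonoidHom.coe_comp, MulEquiv.coe_toMonoidHom, Function.comp_apply,
    MulEquiv.apply_symm_apply]
  rfl

theorem feoPsi_injective (j : JOp Q ε) (e : VS j ≃ₗ[LL F ε] (κ → LL F ε)) :
    Function.Injective (feoPsi j e) := by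
  intro M M' h
  apply Units.ext
  apply Matrix.toLin'.injective
  apply LinearMap.ext
  intro w
  rw [Matrix.toLin'_apply, Matrix.toLin'_apply]
  have h1 := feoPsi_mulVec j e M (e.symm w)
  have h2 := feoPsi_mulVec j e M' (e.symm w)
  rw [h, h2] at h1
  have h3 := e.symm.injective h1
  have h4 : e (show VS j from e.symm w) = w := e.apply_symm_apply w
  rw [h4] at h3
  exact h3.symm

/-- the image consists of `S`-linear maps -/
theorem feoPsi_comm (j : JOp Q ε) (e : VS j ≃ₗ[LL F ε] (κ → LL F ε))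
    (M : GL κ (LL F ε)) (x : ι → F) :
    ((feoPsi j e M : GL ι F) : Matrix ι ι F) *ᵥ (j.S x) =
      j.S (((feoPsi j e M : GL ι F) : Matrix ι ι F) *ᵥ x) := by
  rw [feoPsi_mulVec, feoPsi_mulVec]
  have h1 : (show VS j from j.S x) = (QuadraticAlgebra.omega : LL F ε) • (show VS j from x) :=
    (VS_omega_smul j x).symm
  rw [h1, map_smul, Matrix.mulVec_smul, map_smul]
  exact VS_omega_smul j _

/-- the `L`-isometries embed into `N(K) ⊓ O(Q)` -/
theorem card_isometry_dvd (h2 : (2 : F) ≠ 0) (K : Subalgebra F (Matrix ι ι F))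
    (Jm : Matrix ι ι F) (hspan : ∀ a ∈ K, ∃ α β : F, a = α • (1 : Matrix ι ι F) + β • Jm)
    (j : JOp Q ε) (hjS : j.S = Matrix.toLin' Jm)
    (Q₀ : (κ → LL F ε) → LL F ε) (e : VS j ≃ₗ[LL F ε] (κ → LL F ε))
    (he : ∀ v, Q₀ (e v) = QS j v) :
    Nat.card ↥(Cfsg.isometryGroup (LL F ε) Q₀) ∣
      Nat.card ↥(Cfsg.Geo.subalgebraNormalizer K ⊓ Cfsg.isometryGroup F ⇑Q) := by
  set Ψ : ↥(Cfsg.isometryGroup (LL F ε) Q₀) →* GL ι F :=
    (feoPsi j e).comp (Cfsg.isometryGroup (LL F ε) Q₀).subtype with hΨ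
  have hinj : Function.Injective Ψ := by
    intro M M' h
    apply Subtype.ext
    exact feoPsi_injective j e h
  have hle : Ψ.range ≤ Cfsg.Geo.subalgebraNormalizer K ⊓ Cfsg.isometryGroup F ⇑Q := by
    rintro _ ⟨M, rfl⟩
    refine ⟨?_, ?_⟩
    · apply feF2_mem_norm
      intro a ha
      obtain ⟨α, β, rfl⟩ := hspan a ha
      apply Matrix.toLin'.injective
      apply LinearMap.ext
      intro x
      rw [Matrix.toLin'_apply, Matrix.toLin'_apply, ← Matrix.mulVec_mulVec,
        ← Matrix.mulVec_mulVec, Matrix.add_mulVec, Matrix.add_mulVec, Matrix.smul_mulVec,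
        Matrix.smul_mulVec, Matrix.smul_mulVec, Matrix.smul_mulVec, Matrix.one_mulVec,
        Matrix.one_mulVec, Matrix.mulVec_add, Matrix.mulVec_smul, Matrix.mulVec_smul]
      have h1 := feoPsi_comm j e (M : GL κ (LL F ε)) x
      rw [hjS, Matrix.toLin'_apply, Matrix.toLin'_apply] at h1
      have h5 : ((Ψ M : GL ι F) : Matrix ι ι F) =
          ((feoPsi j e (M : GL κ (LL F ε)) : GL ι F) : Matrix ι ι F) := rfl
      rw [h5, h1]
    · intro u v
      show Q (((feoPsi j e (M : GL κ (LL F ε)) : GL ι F) : Matrix ι ι F) *ᵥ u) = Q u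
      rw [feoPsi_mulVec]
      have h1 : (QS j (e.symm (((M : GL κ (LL F ε)) : Matrix κ κ (LL F ε)) *ᵥ
          e (show VS j from u)))).im = (QS j (show VS j from u)).im := by
        rw [← he, LinearEquiv.apply_symm_apply, ← he]
        exact congrArg QuadraticAlgebra.im (M.2 (e (show VS j from u)) (e (show VS j from u)))
      have h3 := QS_im h2 j (e.symm (((M : GL κ (LL F ε)) : Matrix κ κ (LL F ε)) *ᵥ
          e (show VS j from u)))
      have h4 := QS_im h2 j u
      exact h3.symm.trans (h1.trans h4)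
  have hcard2 : Nat.card ↥Ψ.range = Nat.card ↥(Cfsg.isometryGroup (LL F ε) Q₀) :=
    (Nat.card_congr (MonoidHom.ofInjective hinj).toEquiv).symm
  rw [← hcard2]
  exact Subgroup.card_dvd_of_le hle

end emb

end Cfsg.Agent.Lib.Helper3.FEO
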