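import Mathlib
import Cfsg.Prelude
import Cfsg.Agent.Lib.Helper3.FEO_CARD1
import Cfsg.Agent.Lib.Helper3.FEO_T
import Cfsg.Agent.Lib.Helper2.OrthNdE
import Cfsg.Agent.Lib.Helper2.OrthCard1
import Cfsg.Agent.S0286
import Cfsg.Agent.S0287
import Cfsg.Agent.S0288

set_option autoImplicit false

/-!
S5977 / S5978, package FO-CARD: the order of `O_d(q²)` (by type) divides `|N(K) ⊓ O(Q)|`.
-/

namespace Cfsg.Agent.Lib.Helper3.FEO

open Module Matrix QuadraticMap Cfsg.Agent.Lib.Helper3.FESp Cfsg.Agent.Lib.Helper3.GUSp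
open Cfsg.Agent.Lib.Helper2.OrthNd Cfsg.Agent.Lib.Helper2.OrthEl Cfsg.Agent.Lib.Helper2
open Cfsg.Agent.Lib.Helper5.QuadGlue Cfsg.Agent.Lib.Helper2.OrthCard

section generic

variable {L : Type*} [Field L]

theorem isometryGroup_smul' {κ : Type} [Fintype κ] [DecidableEq κ] (Q : (κ → L) → L) (c : L)
    (hc : c ≠ 0) :
    Cfsg.isometryGroup L (fun v => c * Q v) = Cfsg.isometryGroup L Q := by
  ext g
  constructor
  · intro hg u v
    exact mul_left_cancel₀ hc (hg u v)
  · intro hg u v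
    show c * Q _ = c * Q u
    have : Q ((Units.coeHom (Matrix κ κ L)) g *ᵥ u) = Q u := hg u v
    rw [this]

variable [Fintype L] [DecidableEq L] {V : Type*} [AddCommGroup V] [Module L V]
  [FiniteDimensional L V]

theorem dch_smul' (Q : QuadraticForm L V) (c : L) :
    dch (c • Q) = (quadraticChar L c) ^ (finrank L V) * dch Q := by
  classical
  set b := Module.finBasis L V with hb
  rw [← dch_eq_of_basis (c • Q) b, ← dch_eq_of_basis Q b]
  have hM : LinearMap.BilinForm.toMatrix b (polarBilin (c • Q)) =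
      c • LinearMap.BilinForm.toMatrix b (polarBilin Q) := by
    ext i j
    rw [Matrix.smul_apply, LinearMap.BilinForm.toMatrix_apply, LinearMap.BilinForm.toMatrix_apply,
      polarBilin_apply_apply, polarBilin_apply_apply]
    simp only [polar, QuadraticMap.smul_apply, smul_eq_mul]
    ring
  rw [hM, Matrix.det_smul, Fintype.card_fin, map_mul, map_pow]

omit [Fintype L] [DecidableEq L] [FiniteDimensional L V] in
theorem nondeg_smul' (Q : QuadraticForm L V) (hQ : (polarBilin Q).Nondegenerate) (c : L)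
    (hc : c ≠ 0) : (polarBilin (c • Q)).Nondegenerate := by
  have key : ∀ u v : V, polar (⇑(c • Q)) u v = c * polar (⇑Q) u v := by
    intro u v
    simp only [polar, QuadraticMap.smul_apply, smul_eq_mul]
    ring
  constructor
  · intro u hu
    apply hQ.1 u
    intro v
    have h1 := hu v
    rw [polarBilin_apply_apply, key] at h1
    rcases mul_eq_zero.1 h1 with h | h
    · exact absurd h hc
    · exact h
  · intro v hv
    apply hQ.2 v
    intro u
    have h1 := hv u
    rw [polarBilin_apply_apply, key] at h1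
    rcases mul_eq_zero.1 h1 with h | h
    · exact absurd h hc
    · exact h

end generic

section main

variable {F : Type*} [Field F] [Fintype F] {ι : Type} [Fintype ι] [DecidableEq ι]
  {Q : QuadraticForm F (ι → F)} {ε : F}

theorem card_dvd_of_std [hfact : Fact (∀ r : F, r ^ 2 ≠ ε + 0 * r)] [Fintype (LL F ε)]
    [DecidableEq (LL F ε)] (hodd : Odd (Fintype.card F))
    (hQ : (polarBilin Q).Nondegenerate) (K : Subalgebra F (Matrix ι ι F))
    (Jm : Matrix ι ι F) (hspan : ∀ a ∈ K, ∃ α β : F, a = α • (1 : Matrix ι ι F) + β • Jm)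
    (j : JOp Q ε) (hjS : j.S = Matrix.toLin' Jm)
    {κ : Type} [Fintype κ] [DecidableEq κ] (Q₁ : QuadraticForm (LL F ε) (κ → LL F ε))
    (hQ₁ : (polarBilin Q₁).Nondegenerate) (hκ : Fintype.card κ = finrank (LL F ε) (VS j))
    (hd : dch Q₁ = dch (QS j)) :
    Nat.card ↥(Cfsg.isometryGroup (LL F ε) ⇑Q₁) ∣
      Nat.card ↥(Cfsg.Geo.subalgebraNormalizer K ⊓ Cfsg.isometryGroup F ⇑Q) := by
  have h2 : (2 : F) ≠ 0 := Cfsg.Agent.Lib.Helper3.GUSp.two_ne_zero_of_odd_card hodd
  have h2L : (2 : LL F ε) ≠ 0 := two_ne_zero_LL h2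
  obtain ⟨e, he⟩ := exists_isometry h2L (QS_nondeg h2 hQ j) hQ₁
    (by rw [Module.finrank_fintype_fun_eq_card, hκ]) hd.symm
  exact card_isometry_dvd h2 K Jm hspan j hjS (⇑Q₁) e he

/-- every element of `F` is a square in `L` -/
theorem quadraticChar_algebraMap [DecidableEq F] [hfact : Fact (∀ r : F, r ^ 2 ≠ ε + 0 * r)]
    [Fintype (LL F ε)] [DecidableEq (LL F ε)] (hodd : Odd (Fintype.card F)) (a : F)
    (ha : a ≠ 0) : quadraticChar (LL F ε) (algebraMap F (LL F ε) a) = 1 := by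
  rw [← quadraticChar_norm hodd, QuadraticAlgebra.norm_algebraMap]
  exact quadraticChar_sq_one' ha

end main

/-- **FO-CARD** -/
theorem card_dvd_norm {F : Type*} [Field F] [Fintype F] [DecidableEq F]
    (hodd : Odd (Fintype.card F))
    {ι : Type} [Fintype ι] [DecidableEq ι] (Q : QuadraticForm F (ι → F))
    (hQ : (polarBilin Q).Nondegenerate) (d : ℕ) (hd : 1 ≤ d) (hι : Fintype.card ι = 2 * d)
    (K : Subalgebra F (Matrix ι ι F)) (Jm : Matrix ι ι F) (ε : F) (hε : ¬ IsSquare ε)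
    (hspan : ∀ a ∈ K, ∃ α β : F, a = α • (1 : Matrix ι ι F) + β • Jm)
    (hJ : IsJ Q ε (Matrix.toLin' Jm)) :
    (∀ m, d = 2 * m + 1 →
      2 * (Fintype.card F ^ 2) ^ (m ^ 2) *
        ∏ i ∈ Finset.range m, ((Fintype.card F ^ 2) ^ (2 * (i + 1)) - 1) ∣
      Nat.card ↥(Cfsg.Geo.subalgebraNormalizer K ⊓ Cfsg.isometryGroup F ⇑Q)) ∧
    (∀ m, d = 2 * m → dch Q = (quadraticChar F (-1)) ^ d →
      2 * (Fintype.card F ^ 2) ^ (m * (m - 1)) * ((Fintype.card F ^ 2) ^ m - 1) *
        ∏ i ∈ Finset.range (m - 1), ((Fintype.card F ^ 2) ^ (2 * (i + 1)) - 1) ∣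
      Nat.card ↥(Cfsg.Geo.subalgebraNormalizer K ⊓ Cfsg.isometryGroup F ⇑Q)) ∧
    (∀ m, d = 2 * m → dch Q = -(quadraticChar F (-1)) ^ d →
      2 * (Fintype.card F ^ 2) ^ (m * (m - 1)) * ((Fintype.card F ^ 2) ^ m + 1) *
        ∏ i ∈ Finset.range (m - 1), ((Fintype.card F ^ 2) ^ (2 * (i + 1)) - 1) ∣
      Nat.card ↥(Cfsg.Geo.subalgebraNormalizer K ⊓ Cfsg.isometryGroup F ⇑Q)) := by
  classical
  have hfact : Fact (∀ r : F, r ^ 2 ≠ ε + 0 * r) := fact_nonsq hε
  have : Fintype (LL F ε) := Fintype.ofEquiv _ (QuadraticAlgebra.equivProd ε 0).symm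
  have hcardL : Fintype.card (LL F ε) = Fintype.card F ^ 2 := card_LL
  have hoddL : Odd (Fintype.card F ^ 2) := hodd.pow
  have h2 : (2 : F) ≠ 0 := Cfsg.Agent.Lib.Helper3.GUSp.two_ne_zero_of_odd_card hodd
  have h2L : (2 : LL F ε) ≠ 0 := two_ne_zero_LL h2
  have hcharL : ringChar (LL F ε) ≠ 2 := ringChar_ne_two_of_odd (by rw [hcardL]; exact hoddL)
  set j : JOp Q ε := ⟨Matrix.toLin' Jm, hJ⟩ with hj
  have hn : finrank (LL F ε) (VS j) = d := by
    have h1 := finrank_VS j
    rw [Module.finrank_fintype_fun_eq_card, hι] at h1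
    omega
  have hχ : quadraticChar F (-1) * quadraticChar F (-1) = 1 := by
    rw [← map_mul, neg_one_mul, neg_neg, map_one]
  have hδ : dch (QS j) = (quadraticChar F (-1)) ^ d * dch Q := by
    have h1 := dch_eq_dch_QS hodd hQ j
    rw [hn] at h1
    rw [h1, ← mul_assoc, ← mul_pow, hχ, one_pow, one_mul]
  have hχL : quadraticChar (LL F ε) (-1) = 1 := by
    have h1 := quadraticChar_algebraMap (ε := ε) hodd (-1 : F) (neg_ne_zero.2 one_ne_zero)
    rwa [map_neg, map_one] at h1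
  refine ⟨?_, ?_, ?_⟩
  · -- odd dimension
    intro m hm
    have hQ₁ := QOd_nondeg (F := LL F ε) h2L m
    have hκ : Fintype.card (Unit ⊕ (Fin m ⊕ Fin m)) = d := by
      simp only [Fintype.card_sum, Fintype.card_fin, Fintype.card_unit]
      omega
    obtain ⟨c, hc0, hc⟩ : ∃ c : LL F ε, c ≠ 0 ∧ dch (c • QOd m (LL F ε)) = dch (QS j) := by
      rcases dch_dichotomy hQ₁ with h1 | h1 <;>
        rcases dch_dichotomy (QS_nondeg h2 hQ j) with h3 | h3
      · exact ⟨1, one_ne_zero, by rw [one_smul, h1, h3]⟩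
      · obtain ⟨c, hc⟩ := FiniteField.exists_nonsquare hcharL
        have hc0 : c ≠ 0 := by
          rintro rfl
          exact hc IsSquare.zero
        refine ⟨c, hc0, ?_⟩
        rw [dch_smul', Module.finrank_fintype_fun_eq_card, hκ, h1, h3,
          quadraticChar_neg_one_iff_not_isSquare.2 hc, hm, Odd.neg_one_pow ⟨m, rfl⟩, mul_one]
      · obtain ⟨c, hc⟩ := FiniteField.exists_nonsquare hcharL
        have hc0 : c ≠ 0 := by
          rintro rfl
          exact hc IsSquare.zero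
        refine ⟨c, hc0, ?_⟩
        rw [dch_smul', Module.finrank_fintype_fun_eq_card, hκ, h1, h3,
          quadraticChar_neg_one_iff_not_isSquare.2 hc, hm, Odd.neg_one_pow ⟨m, rfl⟩]
        norm_num
      · exact ⟨1, one_ne_zero, by rw [one_smul, h1, h3]⟩
    have h5 := card_dvd_of_std hodd hQ K Jm hspan j rfl (c • QOd m (LL F ε))
      (nondeg_smul' _ hQ₁ c hc0) (by rw [hκ, hn]) hc
    have h6 : (⇑(c • QOd m (LL F ε)) : (Unit ⊕ (Fin m ⊕ Fin m) → LL F ε) → LL F ε) =
        fun v => c * Cfsg.quadFormOdd m (LL F ε) v := by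
      funext v
      rw [QuadraticMap.smul_apply, smul_eq_mul, QOd_coe]
    rw [h6, isometryGroup_smul' _ c hc0, Cfsg.Agent.S0286.result hcardL hoddL m] at h5
    exact h5
  · -- plus type
    intro m hm hty
    have hm1 : 1 ≤ m := by omega
    have hκ : Fintype.card (Fin m ⊕ Fin m) = d := by
      simp only [Fintype.card_sum, Fintype.card_fin]
      omega
    have hd1 : dch (QP m (LL F ε)) = dch (QS j) := by
      rw [dch_QP h2L m, hχL, one_pow, hδ, hty, ← mul_pow, hχ, one_pow]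
    have h5 := card_dvd_of_std hodd hQ K Jm hspan j rfl (QP m (LL F ε))
      (QuadStd.QP_nondeg m) (by rw [hκ, hn]) hd1
    rw [QuadStd.QP_coe, Cfsg.Agent.S0287.result hcardL m hm1] at h5
    exact h5
  · -- minus type
    intro m hm hty
    have hm1 : 1 ≤ m := by omega
    obtain ⟨c, hc⟩ := FiniteField.exists_nonsquare hcharL
    have hab : ∀ z₁ z₂ : LL F ε, z₁ ^ 2 + 0 * z₁ * z₂ + (-c) * z₂ ^ 2 = 0 → z₁ = 0 ∧ z₂ = 0 := by
      intro z₁ z₂ hz
      have hz' : z₁ ^ 2 = c * z₂ ^ 2 := by linear_combination hz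
      by_cases h0 : z₂ = 0
      · rw [h0] at hz'
        simp only [ne_eq, OfNat.ofNat_ne_zero, not_false_eq_true, zero_pow, mul_zero,
          pow_eq_zero_iff] at hz'
        exact ⟨hz', h0⟩
      · exfalso
        apply hc
        refine ⟨z₁ / z₂, ?_⟩
        field_simp
        exact hz'.symm
    have hκ : Fintype.card ((Fin (m - 1) ⊕ Fin (m - 1)) ⊕ Fin 2) = d := by
      simp only [Fintype.card_sum, Fintype.card_fin]
      omega
    have hd1 : dch (QM (m - 1) (LL F ε) 0 (-c)) = dch (QS j) := by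
      rw [dch_QM h2L (m - 1) 0 (-c) hab, hχL, one_pow, hδ, hty, mul_neg, ← mul_pow, hχ, one_pow]
    have h5 := card_dvd_of_std hodd hQ K Jm hspan j rfl (QM (m - 1) (LL F ε) 0 (-c))
      (QuadStd.QM_nondeg h2L (m - 1) 0 (-c) hab) (by rw [hκ, hn]) hd1
    rw [QuadStd.QM_coe, Cfsg.Agent.S0288.result hcardL m hm1 0 (-c) hab] at h5
    exact h5

end Cfsg.Agent.Lib.Helper3.FEO
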