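import Mathlib
import Cfsg.Prelude
import Cfsg.Agent.Lib.Helper9.FieldSub1
import Cfsg.Agent.Lib.Helper2.SpIsom
import Cfsg.Agent.Lib.Helper3.FESp0

set_option autoImplicit false

/-!
S5975 package FE-F1: a bilinear form over `F` for which a separable extension field `L` acts by
self-adjoint maps is the trace of a unique `L`-bilinear form.
-/

namespace Cfsg.Agent.Lib.Helper3.FESp

open Module Matrix Cfsg.Agent.H9FK

section abs

variable {F L V : Type*} [Field F] [Field L] [Algebra F L] [FiniteDimensional F L]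
  [Algebra.IsSeparable F L] [AddCommGroup V] [Module F V] [Module L V] [IsScalarTower F L V]

/-- the functional `a ↦ B (a • u) v` -/
noncomputable def feF_phi (B : LinearMap.BilinForm F V) (u v : V) : L →ₗ[F] F :=
  (B.flip v) ∘ₗ ((LinearMap.toSpanSingleton L V u).restrictScalars F)

omit [FiniteDimensional F L] [Algebra.IsSeparable F L] in
theorem feF_phi_apply (B : LinearMap.BilinForm F V) (u v : V) (a : L) :
    feF_phi B u v a = B (a • u) v := rfl

/-- the element of `L` representing `a ↦ B (a • u) v` under the trace form -/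
noncomputable def feF_bl (B : LinearMap.BilinForm F V) (u v : V) : L :=
  ((Algebra.traceForm F L).toDual (traceForm_nondegenerate F L)).symm (feF_phi B u v)

theorem feF_bl_char (B : LinearMap.BilinForm F V) (u v : V) (a : L) :
    Algebra.trace F L (feF_bl B u v * a) = B (a • u) v := by
  have h := LinearMap.BilinForm.apply_toDual_symm_apply (B := Algebra.traceForm F L)
    (hB := traceForm_nondegenerate F L) (feF_phi B u v) a
  rw [Algebra.traceForm_apply] at h
  exact h

theorem feF_uniq (b b' : L)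
    (h : ∀ a : L, Algebra.trace F L (b * a) = Algebra.trace F L (b' * a)) : b = b' := by
  have hnd := (traceForm_nondegenerate F L).1
  rw [← sub_eq_zero]
  apply hnd
  intro a
  rw [Algebra.traceForm_apply, sub_mul, map_sub, h a, sub_self]

/-- the `L`-bilinear form whose trace is `B` -/
noncomputable def feF_BL (B : LinearMap.BilinForm F V)
    (hsa : ∀ (a : L) (u v : V), B (a • u) v = B u (a • v)) : LinearMap.BilinForm L V :=
  LinearMap.mk₂ L (feF_bl B)
    (by
      intro u₁ u₂ v
      apply feF_uniq (F := F)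
      intro a
      rw [add_mul, map_add, feF_bl_char, feF_bl_char, feF_bl_char, smul_add, map_add,
        LinearMap.add_apply])
    (by
      intro c u v
      apply feF_uniq (F := F)
      intro a
      rw [feF_bl_char, smul_smul, smul_eq_mul,
        show c * feF_bl B u v * a = feF_bl B u v * (a * c) by ring, feF_bl_char])
    (by
      intro u v₁ v₂
      apply feF_uniq (F := F)
      intro a
      rw [add_mul, map_add, feF_bl_char, feF_bl_char, feF_bl_char, map_add])
    (by
      intro c u v
      apply feF_uniq (F := F)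
      intro a
      rw [feF_bl_char, ← hsa, smul_smul, smul_eq_mul,
        show c * feF_bl B u v * a = feF_bl B u v * (c * a) by ring, feF_bl_char])

theorem feF_BL_char (B : LinearMap.BilinForm F V)
    (hsa : ∀ (a : L) (u v : V), B (a • u) v = B u (a • v)) (u v : V) (a : L) :
    Algebra.trace F L (feF_BL B hsa u v * a) = B (a • u) v :=
  feF_bl_char B u v a

theorem feF_BL_trace (B : LinearMap.BilinForm F V)
    (hsa : ∀ (a : L) (u v : V), B (a • u) v = B u (a • v)) (u v : V) :
    B u v = Algebra.trace F L (feF_BL B hsa u v) := by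
  have := feF_BL_char B hsa u v 1
  rw [mul_one, one_smul] at this
  exact this.symm

theorem feF_BL_alt (B : LinearMap.BilinForm F V)
    (hsa : ∀ (a : L) (u v : V), B (a • u) v = B u (a • v))
    (halt : ∀ (a : L) (v : V), B (a • v) v = 0) : (feF_BL B hsa).IsAlt := by
  intro v
  apply feF_uniq (F := F)
  intro a
  rw [feF_BL_char, halt, zero_mul, map_zero]

theorem feF_BL_nondeg (B : LinearMap.BilinForm F V)
    (hsa : ∀ (a : L) (u v : V), B (a • u) v = B u (a • v))
    (hnd : ∀ x, (∀ y, B x y = 0) → x = 0) :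
    ∀ x, (∀ y, feF_BL B hsa x y = 0) → x = 0 := by
  intro x hx
  apply hnd
  intro y
  rw [feF_BL_trace B hsa, hx, map_zero]

end abs

/-- **FE-F1** -/
theorem exists_trace_form {F : Type*} [Field F] [Fintype F] {d k : ℕ} [NeZero k]
    {K : Subalgebra F (Matrix (Fin d ⊕ Fin d) (Fin d ⊕ Fin d) F)}
    (hK : Cfsg.Geo.IsFieldSubalgebra k K)
    (hKf : Cfsg.Geo.IsSelfAdjointFor (Cfsg.sympForm d F) K)
    (hKalt : ∀ a ∈ K, ∀ v : Fin d ⊕ Fin d → F, Cfsg.sympForm d F (a *ᵥ v) v = 0) :
    ∃ BL : LinearMap.BilinForm (Cfsg.Agent.H9FK.FK K hK) (Fin d ⊕ Fin d → F),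
      BL.IsAlt ∧ (∀ x, (∀ y, BL x y = 0) → x = 0) ∧
      ∀ u v, Cfsg.sympForm d F u v = Algebra.trace F (Cfsg.Agent.H9FK.FK K hK) (BL u v) := by
  have hfin : Module.Finite F (FK K hK) := by
    apply Module.finite_of_finrank_pos
    rw [FK.finrank_eq]
    exact Nat.pos_of_ne_zero (NeZero.ne k)
  have hsa : ∀ (a : FK K hK) (u v : Fin d ⊕ Fin d → F),
      Cfsg.Agent.Lib.Helper2.SpIsom.sympBilin d F (a • u) v =
        Cfsg.Agent.Lib.Helper2.SpIsom.sympBilin d F u (a • v) := by
    intro a u v
    rw [Cfsg.Agent.Lib.Helper2.SpIsom.sympBilin_apply, Cfsg.Agent.Lib.Helper2.SpIsom.sympBilin_apply,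
      FK.smul_def, FK.smul_def]
    exact hKf a.val a.mem u v
  refine ⟨feF_BL (Cfsg.Agent.Lib.Helper2.SpIsom.sympBilin d F) hsa, ?_, ?_, ?_⟩
  · apply feF_BL_alt
    intro a v
    rw [Cfsg.Agent.Lib.Helper2.SpIsom.sympBilin_apply, FK.smul_def]
    exact hKalt a.val a.mem v
  · apply feF_BL_nondeg
    intro x hx
    apply Cfsg.Agent.Lib.Helper2.SpIsom.sympForm_nondeg
    intro y
    rw [← Cfsg.Agent.Lib.Helper2.SpIsom.sympBilin_apply]
    exact hx y
  · intro u v
    rw [← Cfsg.Agent.Lib.Helper2.SpIsom.sympBilin_apply]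
    exact feF_BL_trace _ hsa u v

end Cfsg.Agent.Lib.Helper3.FESp
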