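import Mathlib
import Cfsg.Prelude
import Cfsg.Agent.Lib.Helper3.FESp0
import Cfsg.Agent.Lib.Helper3.GUSp_Asm
import Cfsg.Agent.Lib.Helper3.FESp_A
import Cfsg.Agent.Lib.Helper3.FESp_B
import Cfsg.Agent.Lib.Helper3.FESp_C
import Cfsg.Agent.Lib.Helper3.FESp_F1
import Cfsg.Agent.Lib.Helper3.FESp_F2
import Cfsg.Agent.Lib.Lead.FESp_E
import Cfsg.Agent.Lib.Lead.FESp_S
import Cfsg.Agent.Lib.Lead.FESp_H
import Cfsg.Agent.Lib.Lead.FESp_T2
import Cfsg.Agent.Lib.Helper9.FESp_G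

set_option autoImplicit false

/-!
S5975: assembly of the packages FE-A … FE-H (field-extension subgroups `Sp_{2d/k}(q^k)` of
`Sp_{2d}(q)`, `k` prime).
-/

namespace Cfsg.Agent.Lib.Helper3.FESp

open Module Matrix Polynomial

/-! ### FE-F -/
theorem sp_card_dvd {F : Type*} [Field F] [Fintype F] {q : ℕ} (hq : Fintype.card F = q)
    (d : ℕ) (hd : 1 ≤ d) (k : ℕ) (hk : k.Prime)
    (K : Subalgebra F (Matrix (Fin d ⊕ Fin d) (Fin d ⊕ Fin d) F))
    (hK : Cfsg.Geo.IsFieldSubalgebra k K)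
    (hKf : Cfsg.Geo.IsSelfAdjointFor (Cfsg.sympForm d F) K)
    (hKalt : ∀ a ∈ K, ∀ v : Fin d ⊕ Fin d → F, Cfsg.sympForm d F (a *ᵥ v) v = 0) :
    ∃ m, d = k * m ∧
      ((q ^ k) ^ (m ^ 2) * ∏ i ∈ Finset.range m, ((q ^ k) ^ (2 * (i + 1)) - 1)) ∣
        Nat.card ↥(Cfsg.Geo.subalgebraNormalizer K ⊓ Cfsg.spGL d F) := by
  have : NeZero k := ⟨hk.ne_zero⟩
  obtain ⟨BL, hAlt, hnd, htr⟩ := exists_trace_form hK hKf hKalt
  exact sp_card_dvd_of_form hq d hd k K hK BL hAlt hnd htr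

/-! ### assembly -/
section assembly

open Cfsg.Agent.Lib.Helper9.H9TK Cfsg.Agent.Lib.Helper3.GUSp

/-- conjugating a model into the normaliser -/
theorem key_conj' {F : Type*} [Field F] {d : ℕ}
    {K : Subalgebra F (Matrix (Fin d ⊕ Fin d) (Fin d ⊕ Fin d) F)} (r : ℕ)
    (hall : ∀ x ∈ Cfsg.spGL d F, (∃ z : F, ((x ^ r : GL (Fin d ⊕ Fin d) F) :
        Matrix (Fin d ⊕ Fin d) (Fin d ⊕ Fin d) F) =
          z • (1 : Matrix (Fin d ⊕ Fin d) (Fin d ⊕ Fin d) F)) →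
      (∀ z : F, (x : Matrix (Fin d ⊕ Fin d) (Fin d ⊕ Fin d) F) ≠
        z • (1 : Matrix (Fin d ⊕ Fin d) (Fin d ⊕ Fin d) F)) →
      ∃ g ∈ Cfsg.spGL d F, g⁻¹ * x * g ∈ Cfsg.Geo.subalgebraNormalizer K)
    (x : GL (Fin d ⊕ Fin d) F) (hx : x ∈ Cfsg.spGL d F)
    (hxr : ((x ^ r : GL (Fin d ⊕ Fin d) F) : Matrix (Fin d ⊕ Fin d) (Fin d ⊕ Fin d) F) = 1)
    (hns : ∀ z : F, (x : Matrix (Fin d ⊕ Fin d) (Fin d ⊕ Fin d) F) ≠
        z • (1 : Matrix (Fin d ⊕ Fin d) (Fin d ⊕ Fin d) F)) :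
    ∃ y ∈ Cfsg.spGL d F, y ∈ Cfsg.Geo.subalgebraNormalizer K ∧
      ((y ^ r : GL (Fin d ⊕ Fin d) F) : Matrix (Fin d ⊕ Fin d) (Fin d ⊕ Fin d) F) = 1 ∧
      ∀ P : F[X], finrank F (LinearMap.ker (aeval (Matrix.toLin'
          (y : Matrix (Fin d ⊕ Fin d) (Fin d ⊕ Fin d) F)) P)) =
        finrank F (LinearMap.ker (aeval (Matrix.toLin'
          (x : Matrix (Fin d ⊕ Fin d) (Fin d ⊕ Fin d) F)) P)) := by
  obtain ⟨g, hg, hgN⟩ := hall x hx ⟨1, by rw [hxr, one_smul]⟩ hns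
  have hx1 : x ^ r = 1 := Units.ext hxr
  have hyr : (g⁻¹ * x * g) ^ r = 1 := by
    have h : g⁻¹ * x * g = g⁻¹ * x * (g⁻¹)⁻¹ := by rw [inv_inv]
    rw [h, conj_pow, hx1, mul_one, mul_inv_cancel]
  refine ⟨g⁻¹ * x * g, mul_mem (mul_mem (inv_mem hg) hx) hg, hgN, ?_, ?_⟩
  · rw [hyr, Units.val_one]
  · intro P
    exact finrank_ker_aeval_conj g x P

theorem card_idx (d : ℕ) : Fintype.card (Fin d ⊕ Fin d) = 2 * d := by
  rw [Fintype.card_sum, Fintype.card_fin]; ring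

theorem finrank_ker_zero_poly {F : Type*} [Field F] {d : ℕ}
    (y : Matrix (Fin d ⊕ Fin d) (Fin d ⊕ Fin d) F) :
    finrank F (LinearMap.ker (aeval (Matrix.toLin' y) (0 : F[X]))) = 2 * d := by
  rw [map_zero, LinearMap.ker_zero, finrank_top, Module.finrank_fintype_fun_eq_card, card_idx]

/-- case `r = p` -/
theorem case_p {F : Type*} [Field F] [Fintype F] {p : ℕ} [Fact p.Prime] [CharP F p]
    (d : ℕ) (hd : 2 ≤ d) (k : ℕ) (hk : k.Prime)
    (K : Subalgebra F (Matrix (Fin d ⊕ Fin d) (Fin d ⊕ Fin d) F))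
    (hK : Cfsg.Geo.IsFieldSubalgebra k K)
    (hall : ∀ x ∈ Cfsg.spGL d F, (∃ z : F, ((x ^ p : GL (Fin d ⊕ Fin d) F) :
        Matrix (Fin d ⊕ Fin d) (Fin d ⊕ Fin d) F) =
          z • (1 : Matrix (Fin d ⊕ Fin d) (Fin d ⊕ Fin d) F)) →
      (∀ z : F, (x : Matrix (Fin d ⊕ Fin d) (Fin d ⊕ Fin d) F) ≠
        z • (1 : Matrix (Fin d ⊕ Fin d) (Fin d ⊕ Fin d) F)) →
      ∃ g ∈ Cfsg.spGL d F, g⁻¹ * x * g ∈ Cfsg.Geo.subalgebraNormalizer K) : False := by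
  obtain ⟨x, hx, hxr, hns, hfix⟩ := model_transvection (F := F) p d (by omega)
  obtain ⟨y, hy, hyN, hyr, hyP⟩ := key_conj' p hall x hx hxr hns
  have hlt := finrank_ker_sub_lt (x : Matrix (Fin d ⊕ Fin d) (Fin d ⊕ Fin d) F) 1 (hns 1)
  rw [card_idx] at hlt
  have hfy := hyP (X - C 1)
  rw [aeval_X_sub_C_end, aeval_X_sub_C_end] at hfy
  by_cases hl : KLin K (y : Matrix (Fin d ⊕ Fin d) (Fin d ⊕ Fin d) F)
  · have h1 := dvd_finrank_ker_of_klin hk.ne_zero hK _ hl (X - C 1)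
    rw [aeval_X_sub_C_end, hfy] at h1
    have h0 := dvd_finrank_ker_of_klin hk.ne_zero hK _ hl (0 : F[X])
    rw [finrank_ker_zero_poly] at h0
    have h3 := Nat.dvd_sub h0 h1
    have h4 : 2 * d - finrank F (LinearMap.ker (Matrix.toLin'
        (x : Matrix (Fin d ⊕ Fin d) (Fin d ⊕ Fin d) F) - (1 : F) • 1)) = 1 := by omega
    rw [h4] at h3
    exact hk.one_lt.ne' (Nat.dvd_one.1 h3)
  · have hb := semilinear_bound hK y hyN hl 1
    rw [card_idx, hfy] at hb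
    omega

/-- case `r = 2 ≠ p` -/
theorem case_two {F : Type*} [Field F] [Fintype F] {p : ℕ} [Fact p.Prime] [CharP F p]
    (hp2 : (2 : ℕ) ≠ p) (h2 : (2 : F) ≠ 0)
    (d : ℕ) (hd : 2 ≤ d) (k : ℕ) (hk : k.Prime)
    (K : Subalgebra F (Matrix (Fin d ⊕ Fin d) (Fin d ⊕ Fin d) F))
    (hK : Cfsg.Geo.IsFieldSubalgebra k K)
    (hKf : Cfsg.Geo.IsSelfAdjointFor (Cfsg.sympForm d F) K)
    (hKalt : ∀ a ∈ K, ∀ v : Fin d ⊕ Fin d → F, Cfsg.sympForm d F (a *ᵥ v) v = 0)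
    (hall : ∀ x ∈ Cfsg.spGL d F, (∃ z : F, ((x ^ 2 : GL (Fin d ⊕ Fin d) F) :
        Matrix (Fin d ⊕ Fin d) (Fin d ⊕ Fin d) F) =
          z • (1 : Matrix (Fin d ⊕ Fin d) (Fin d ⊕ Fin d) F)) →
      (∀ z : F, (x : Matrix (Fin d ⊕ Fin d) (Fin d ⊕ Fin d) F) ≠
        z • (1 : Matrix (Fin d ⊕ Fin d) (Fin d ⊕ Fin d) F)) →
      ∃ g ∈ Cfsg.spGL d F, g⁻¹ * x * g ∈ Cfsg.Geo.subalgebraNormalizer K) :
    d = 2 ∧ k = 2 := by
  obtain ⟨x, hx, hxr, hns, hfix⟩ := model_neg h2 d hd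
  obtain ⟨y, hy, hyN, hyr, hyP⟩ := key_conj' 2 hall x hx hxr hns
  have hlt := finrank_ker_sub_lt (x : Matrix (Fin d ⊕ Fin d) (Fin d ⊕ Fin d) F) 1 (hns 1)
  rw [card_idx] at hlt
  have hfy := hyP (X - C 1)
  rw [aeval_X_sub_C_end, aeval_X_sub_C_end] at hfy
  -- the two eigenspaces of y
  have hy2 : (Matrix.toLin' (y : Matrix (Fin d ⊕ Fin d) (Fin d ⊕ Fin d) F)) ^ 2 = 1 := by
    rw [← Matrix.toLin'_pow, ← Units.val_pow_eq_pow_val, hyr, Matrix.toLin'_one]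
    rfl
  have : Fact (Nat.Prime 2) := ⟨Nat.prime_two⟩
  have hcompl := Cfsg.Agent.Lib.Helper9.H9Elus.isCompl_ker 2 hp2
    (Matrix.toLin' (y : Matrix (Fin d ⊕ Fin d) (Fin d ⊕ Fin d) F)) hy2
  have hsum := Submodule.finrank_add_eq_of_isCompl hcompl
  rw [Module.finrank_fintype_fun_eq_card, card_idx] at hsum
  have hXm : (X - 1 : F[X]) = X - C 1 := by rw [map_one]
  have hXp : (cyclotomic 2 F : F[X]) = X - C (-1) := by
    rw [cyclotomic_two, map_neg, map_one, sub_neg_eq_add]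
  rw [hXm, hXp, aeval_X_sub_C_end, aeval_X_sub_C_end, hfy] at hsum
  by_cases hl : KLin K (y : Matrix (Fin d ⊕ Fin d) (Fin d ⊕ Fin d) F)
  · exfalso
    have h1 := dvd_finrank_ker_of_klin hk.ne_zero hK _ hl (X - C (-1))
    rw [aeval_X_sub_C_end] at h1
    have hb : finrank F (LinearMap.ker (Matrix.toLin'
        (y : Matrix (Fin d ⊕ Fin d) (Fin d ⊕ Fin d) F) - (-1 : F) • 1)) = 1 ∨
        finrank F (LinearMap.ker (Matrix.toLin'
        (y : Matrix (Fin d ⊕ Fin d) (Fin d ⊕ Fin d) F) - (-1 : F) • 1)) = 2 := by omega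
    rcases hb with hb | hb
    · rw [hb] at h1
      exact hk.one_lt.ne' (Nat.dvd_one.1 h1)
    · rw [hb] at h1
      have hk2 : k = 2 := (Nat.prime_dvd_prime_iff_eq hk Nat.prime_two).1 h1
      subst hk2
      have hyy : (y : Matrix (Fin d ⊕ Fin d) (Fin d ⊕ Fin d) F) *
          (y : Matrix (Fin d ⊕ Fin d) (Fin d ⊕ Fin d) F) = 1 := by
        rw [← Units.val_mul, ← pow_two, hyr]
      exact invol_klin_false h2 hK hKf hKalt y hy hyy hl hb
  · have hk2 : k = 2 := by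
      by_contra hne
      exact hl (klin_of_ne hk hK y hyN 2 Nat.prime_two (fun h => hne h.symm) 1
        (by rw [hyr, one_smul]))
    have hb := semilinear_bound hK y hyN hl 1
    rw [card_idx, hfy] at hb
    exact ⟨by omega, hk2⟩

/-- case `r` odd, `r ≠ p` -/
theorem case_odd {F : Type*} [Field F] [Fintype F] {p : ℕ} [Fact p.Prime] [CharP F p]
    (d : ℕ) (hd : 2 ≤ d) (k : ℕ) (hk : k.Prime)
    (K : Subalgebra F (Matrix (Fin d ⊕ Fin d) (Fin d ⊕ Fin d) F))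
    (hK : Cfsg.Geo.IsFieldSubalgebra k K)
    (hKf : Cfsg.Geo.IsSelfAdjointFor (Cfsg.sympForm d F) K)
    (hKalt : ∀ a ∈ K, ∀ v : Fin d ⊕ Fin d → F, Cfsg.sympForm d F (a *ᵥ v) v = 0)
    (r : ℕ) [Fact r.Prime] (hrp : r ≠ p) (hr2 : r ≠ 2)
    (hΩ : r ∣ (Cfsg.Geo.subalgebraNormalizer K).relIndex (Cfsg.spGL d F))
    (hall : ∀ x ∈ Cfsg.spGL d F, (∃ z : F, ((x ^ r : GL (Fin d ⊕ Fin d) F) :
        Matrix (Fin d ⊕ Fin d) (Fin d ⊕ Fin d) F) =
          z • (1 : Matrix (Fin d ⊕ Fin d) (Fin d ⊕ Fin d) F)) →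
      (∀ z : F, (x : Matrix (Fin d ⊕ Fin d) (Fin d ⊕ Fin d) F) ≠
        z • (1 : Matrix (Fin d ⊕ Fin d) (Fin d ⊕ Fin d) F)) →
      ∃ g ∈ Cfsg.spGL d F, g⁻¹ * x * g ∈ Cfsg.Geo.subalgebraNormalizer K) : False := by
  have hr : r.Prime := Fact.out
  have key := key_conj' r hall
  have hcardSp : r ∣ Nat.card ↥(Cfsg.spGL d F) :=
    dvd_trans hΩ (Subgroup.relIndex_dvd_card _ _)
  have hrq' : ¬ r ∣ Fintype.card F := by
    intro hdvd
    obtain ⟨n, hp, hn⟩ := FiniteField.card F p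
    rw [hn] at hdvd
    exact hrp ((Nat.prime_dvd_prime_iff_eq hr hp).1 (hr.dvd_of_dvd_pow hdvd))
  -- the arithmetic consequence of `hΩ`
  obtain ⟨m, hdm, hdvd⟩ := sp_card_dvd (q := Fintype.card F) rfl d (by omega) k hk K hK hKf hKalt
  have hn : r * Nat.card ↥(Cfsg.Geo.subalgebraNormalizer K ⊓ Cfsg.spGL d F) ∣
      Fintype.card F ^ (d ^ 2) * ∏ i ∈ Finset.range d, (Fintype.card F ^ (2 * (i + 1)) - 1) := by
    rw [← Cfsg.Agent.S0245.result rfl d, ← card_spGL' d, ← card_mul_relIndex'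
      (Cfsg.Geo.subalgebraNormalizer K) (Cfsg.spGL d F), mul_comm r]
    exact Nat.mul_dvd_mul_left _ hΩ
  obtain ⟨j, hj1, hjd, hkj, hrj⟩ := index_arith' hk Fintype.one_lt_card hrq' hdm hdvd hn
  have hij : orderOf ((Fintype.card F : ℕ) : ZMod r) ∣ 2 * j :=
    (Cfsg.Agent.Lib.Helper5.SylTor.dvd_pow_sub_one_iff Fintype.card_pos (2 * j)).1 hrj
  have hir : orderOf ((Fintype.card F : ℕ) : ZMod r) ∣ r - 1 :=
    ZMod.orderOf_dvd_card_sub_one (Cfsg.Agent.Lib.Helper5.SylTor.natCast_ne_zero hrq')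
  have hkd : k ≤ d := by
    rcases Nat.eq_zero_or_pos m with hm | hm
    · rw [hm, mul_zero] at hdm; omega
    · rw [hdm]; exact Nat.le_mul_of_pos_right k hm
  have hr1 : 1 ≤ r - 1 := by have := hr.two_le; omega
  have hile : orderOf ((Fintype.card F : ℕ) : ZMod r) ≤ r - 1 := Nat.le_of_dvd (by omega) hir
  -- the semilinear alternative forces `r = k`
  have hsemi : ∀ y : GL (Fin d ⊕ Fin d) F, y ∈ Cfsg.Geo.subalgebraNormalizer K →
      ((y ^ r : GL (Fin d ⊕ Fin d) F) : Matrix (Fin d ⊕ Fin d) (Fin d ⊕ Fin d) F) = 1 →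
      ¬ KLin K (y : Matrix (Fin d ⊕ Fin d) (Fin d ⊕ Fin d) F) → r = k := by
    intro y hyN hyr hl
    by_contra hne
    exact hl (klin_of_ne hk hK y hyN r hr hne 1 (by rw [hyr, one_smul]))
  rcases order_cases_of_dvd_card_sp r hrp d hcardSp with ⟨h, hh1, hhd, hi, hrq⟩ | ⟨hiodd, hid⟩
  · -- even order 2h
    have hhj : h ∣ j := by
      rw [hi] at hij
      exact (Nat.mul_dvd_mul_iff_left (by norm_num : 0 < 2)).1 hij
    have hkh : ¬ k ∣ h := fun hkh => hkj (dvd_trans hkh hhj)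
    obtain ⟨x, hx, hxr, hns, hker, hfix⟩ := model_even r hrp d h hh1 hhd hi hrq
    obtain ⟨y, hy, hyN, hyr, hyP⟩ := key x hx hxr hns
    by_cases hl : KLin K (y : Matrix (Fin d ⊕ Fin d) (Fin d ⊕ Fin d) F)
    · have h1 := dvd_finrank_ker_of_klin hk.ne_zero hK _ hl (cyclotomic r F)
      rw [hyP, hker, hi] at h1
      have hk2 : k = 2 := by
        rcases (Nat.Prime.dvd_mul hk).1 h1 with h' | h'
        · exact (Nat.prime_dvd_prime_iff_eq hk Nat.prime_two).1 h'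
        · exact absurd h' hkh
      subst hk2
      have hodd : Odd h := by
        rw [← Nat.not_even_iff_odd]
        intro he
        exact hkh he.two_dvd
      apply finrank_ker_cyclotomic_ne' hK hKf r hrp h hodd hi hrq y hy hyr hl
      rw [hyP, hker, hi]
    · have hrk := hsemi y hyN hyr hl
      have hb := semilinear_bound hK y hyN hl 1
      have hfy := hyP (X - C 1)
      rw [aeval_X_sub_C_end, aeval_X_sub_C_end] at hfy
      rw [card_idx, hfy] at hb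
      rw [← hrk] at hkd
      omega
  · -- odd order
    have hij' : orderOf ((Fintype.card F : ℕ) : ZMod r) ∣ j := by
      have hcop : Nat.Coprime (orderOf ((Fintype.card F : ℕ) : ZMod r)) 2 :=
        Nat.Coprime.symm (Nat.coprime_two_left.2 hiodd)
      exact hcop.dvd_of_dvd_mul_left hij
    have hki : ¬ k ∣ orderOf ((Fintype.card F : ℕ) : ZMod r) := fun h => hkj (dvd_trans h hij')
    by_cases hi3 : 3 ≤ orderOf ((Fintype.card F : ℕ) : ZMod r)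
    · obtain ⟨x, g, hx, hxr, hns, hg, hker, hfix⟩ := model_odd r hrp hr2 d hi3 hiodd hid
      obtain ⟨y, hy, hyN, hyr, hyP⟩ := key x hx hxr hns
      by_cases hl : KLin K (y : Matrix (Fin d ⊕ Fin d) (Fin d ⊕ Fin d) F)
      · have h1 := dvd_finrank_ker_of_klin hk.ne_zero hK _ hl g
        rw [hyP, hker] at h1
        exact hki h1
      · have hrk := hsemi y hyN hyr hl
        have hb := semilinear_bound hK y hyN hl 1
        have hfy := hyP (X - C 1)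
        rw [aeval_X_sub_C_end, aeval_X_sub_C_end] at hfy
        rw [card_idx, hfy] at hb
        -- 2 * i ∣ r - 1
        have h2r : 2 ∣ r - 1 := by
          rcases hr.eq_two_or_odd with h | h
          · exact absurd h hr2
          · omega
        have hcop : Nat.Coprime 2 (orderOf ((Fintype.card F : ℕ) : ZMod r)) :=
          Nat.coprime_two_left.2 hiodd
        have h2i := Nat.le_of_dvd (by omega) (hcop.mul_dvd_of_dvd_of_dvd h2r hir)
        rw [← hrk] at hkd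
        omega
    · have hpos := Cfsg.Agent.Lib.Helper5.SylTor.ord_pos hrq'
      have hi1 : orderOf ((Fintype.card F : ℕ) : ZMod r) = 1 := by
        rcases hiodd with ⟨k', hk'⟩
        omega
      have hdvd1 : r ∣ Fintype.card F ^ 1 - 1 :=
        (Cfsg.Agent.Lib.Helper5.SylTor.dvd_pow_sub_one_iff Fintype.card_pos 1).2 (by rw [hi1])
      rw [pow_one] at hdvd1
      classical
      have hu : r ∣ Fintype.card Fˣ := by rw [Fintype.card_units]; exact hdvd1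
      obtain ⟨u, hu⟩ := exists_prime_orderOf_dvd_card r hu
      have hζr : (u : F) ^ r = 1 := by
        rw [← Units.val_pow_eq_pow_val, ← hu, pow_orderOf_eq_one, Units.val_one]
      have hζ1 : (u : F) ≠ 1 := by
        intro h1
        have : u = 1 := Units.ext h1
        rw [this, orderOf_one] at hu
        exact hr.one_lt.ne hu
      have hζi : (u : F)⁻¹ ≠ (u : F) := by
        intro h1
        have h3 : u ^ 2 = 1 := by
          apply Units.ext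
          rw [Units.val_pow_eq_pow_val, Units.val_one, pow_two]
          nth_rewrite 1 [← h1]
          exact inv_mul_cancel₀ (Units.ne_zero u)
        have h4 := orderOf_dvd_of_pow_eq_one h3
        rw [hu] at h4
        exact hr2 ((Nat.prime_dvd_prime_iff_eq hr Nat.prime_two).1 h4)
      obtain ⟨x, hx, hxr, hns, hfix, hker⟩ := model_diag (u : F) r hζr hζ1 hζi d hd
      obtain ⟨y, hy, hyN, hyr, hyP⟩ := key x hx hxr hns
      by_cases hl : KLin K (y : Matrix (Fin d ⊕ Fin d) (Fin d ⊕ Fin d) F)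
      · have h1 := dvd_finrank_ker_of_klin hk.ne_zero hK _ hl (X - C (u : F))
        rw [hyP, aeval_X_sub_C_end, hker] at h1
        exact hk.one_lt.ne' (Nat.dvd_one.1 h1)
      · have hrk := hsemi y hyN hyr hl
        have hb := semilinear_bound hK y hyN hl 1
        have hfy := hyP (X - C 1)
        rw [aeval_X_sub_C_end, aeval_X_sub_C_end] at hfy
        rw [card_idx, hfy] at hb
        have hd2 : d = 2 := by omega
        rw [← hrk, hd2] at hkd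
        have := hr.two_le
        omega

/-- the positive direction: `Sp_4(q)`, `q` odd, `k = 2`, `r = 2` -/
theorem backward' {F : Type*} [Field F] [Fintype F] (hodd : Odd (Fintype.card F))
    (K : Subalgebra F (Matrix (Fin 2 ⊕ Fin 2) (Fin 2 ⊕ Fin 2) F))
    (hK : Cfsg.Geo.IsFieldSubalgebra 2 K)
    (hKf : Cfsg.Geo.IsSelfAdjointFor (Cfsg.sympForm 2 F) K)
    (x : GL (Fin 2 ⊕ Fin 2) F) (hx : x ∈ Cfsg.spGL 2 F) (z : F)
    (hz : ((x ^ 2 : GL (Fin 2 ⊕ Fin 2) F) : Matrix (Fin 2 ⊕ Fin 2) (Fin 2 ⊕ Fin 2) F) =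
      z • (1 : Matrix (Fin 2 ⊕ Fin 2) (Fin 2 ⊕ Fin 2) F))
    (hns : ∀ z : F, (x : Matrix (Fin 2 ⊕ Fin 2) (Fin 2 ⊕ Fin 2) F) ≠
      z • (1 : Matrix (Fin 2 ⊕ Fin 2) (Fin 2 ⊕ Fin 2) F)) :
    ∃ g ∈ Cfsg.spGL 2 F, g⁻¹ * x * g ∈ Cfsg.Geo.subalgebraNormalizer K := by
  have h2 : (2 : F) ≠ 0 := two_ne_zero_of_odd_card hodd
  have hodd' : Fintype.card F % 2 = 1 := Nat.odd_iff.1 hodd
  obtain ⟨Jm, ε, hε, hmem, hspan, γ, hγ, hγJ⟩ := exists_std_form_two h2 K hK hKf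
  have hxx : (x : Matrix (Fin 2 ⊕ Fin 2) (Fin 2 ⊕ Fin 2) F) *
      (x : Matrix (Fin 2 ⊕ Fin 2) (Fin 2 ⊕ Fin 2) F) =
        z • (1 : Matrix (Fin 2 ⊕ Fin 2) (Fin 2 ⊕ Fin 2) F) := by
    rw [← hz, pow_two, Units.val_mul]
  have hzz : z * z = 1 := by
    have hu : (Pi.single (Sum.inl 0) 1 : Fin 2 ⊕ Fin 2 → F) ≠ 0 := by
      intro h0
      have := congrFun h0 (Sum.inl 0)
      rw [Pi.single_eq_same] at this
      exact one_ne_zero this
    obtain ⟨v, hv⟩ : ∃ v, Cfsg.sympForm 2 F (Pi.single (Sum.inl 0) 1) v ≠ 0 := by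
      by_contra hcon
      simp only [not_exists, not_not] at hcon
      exact hu (Cfsg.Agent.Lib.Helper2.SpIsom.sympForm_nondeg _ hcon)
    set u : Fin 2 ⊕ Fin 2 → F := Pi.single (Sum.inl 0) 1 with hu_def
    have h1 := hx ((x : Matrix (Fin 2 ⊕ Fin 2) (Fin 2 ⊕ Fin 2) F) *ᵥ u)
      ((x : Matrix (Fin 2 ⊕ Fin 2) (Fin 2 ⊕ Fin 2) F) *ᵥ v)
    have h1' := hx u v
    change Cfsg.sympForm 2 F ((x : Matrix (Fin 2 ⊕ Fin 2) (Fin 2 ⊕ Fin 2) F) *ᵥ _)
      ((x : Matrix (Fin 2 ⊕ Fin 2) (Fin 2 ⊕ Fin 2) F) *ᵥ _) = _ at h1 h1'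
    rw [Matrix.mulVec_mulVec, Matrix.mulVec_mulVec, hxx, h1', Matrix.smul_mulVec,
      Matrix.smul_mulVec, Matrix.one_mulVec, Matrix.one_mulVec,
      Cfsg.Agent.Lib.Helper2.Symp.sympForm_smul_left,
      Cfsg.Agent.Lib.Helper2.Symp.sympForm_smul_right] at h1
    have h3 : (z * z - 1) * Cfsg.sympForm 2 F u v = 0 := by linear_combination h1
    rcases mul_eq_zero.1 h3 with h | h
    · exact sub_eq_zero.1 h
    · exact absurd h hv
  have hz1 : z = 1 ∨ z = -1 := by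
    have : (z - 1) * (z + 1) = 0 := by linear_combination hzz
    rcases mul_eq_zero.1 this with h | h
    · left; exact sub_eq_zero.1 h
    · right; exact eq_neg_of_add_eq_zero_left h
  rcases hz1 with hz1 | hz1
  · rw [hz1, one_smul] at hxx
    obtain ⟨P, hP, s, hPs⟩ := conj_diag_of_sq_one h2 2 x hx hxx
    have hPi : ((P⁻¹ : GL (Fin 2 ⊕ Fin 2) F) : Matrix (Fin 2 ⊕ Fin 2) (Fin 2 ⊕ Fin 2) F) *
        (P : Matrix (Fin 2 ⊕ Fin 2) (Fin 2 ⊕ Fin 2) F) = 1 := by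
      rw [← Units.val_mul, inv_mul_cancel, Units.val_one]
    have hPi' : (P : Matrix (Fin 2 ⊕ Fin 2) (Fin 2 ⊕ Fin 2) F) *
        ((P⁻¹ : GL (Fin 2 ⊕ Fin 2) F) : Matrix (Fin 2 ⊕ Fin 2) (Fin 2 ⊕ Fin 2) F) = 1 := by
      rw [← Units.val_mul, mul_inv_cancel, Units.val_one]
    set D : Matrix (Fin 2 ⊕ Fin 2) (Fin 2 ⊕ Fin 2) F :=
      Matrix.fromBlocks (Matrix.diagonal s) 0 0 (Matrix.diagonal s) with hD
    have hDD : D * D = 1 := by
      have h1 : (P : Matrix (Fin 2 ⊕ Fin 2) (Fin 2 ⊕ Fin 2) F) * (D * D) =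
          (P : Matrix (Fin 2 ⊕ Fin 2) (Fin 2 ⊕ Fin 2) F) := by
        rw [← Matrix.mul_assoc, ← hPs, Matrix.mul_assoc, ← hPs, ← Matrix.mul_assoc, hxx,
          Matrix.one_mul]
      calc D * D = (((P⁻¹ : GL (Fin 2 ⊕ Fin 2) F) : Matrix (Fin 2 ⊕ Fin 2) (Fin 2 ⊕ Fin 2) F) *
            (P : Matrix (Fin 2 ⊕ Fin 2) (Fin 2 ⊕ Fin 2) F)) * (D * D) := by
            rw [hPi, Matrix.one_mul]
        _ = 1 := by rw [Matrix.mul_assoc, h1, hPi]
    have hss : ∀ t, s t * s t = 1 := by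
      intro t
      have := congrFun (congrFun hDD (Sum.inl t)) (Sum.inl t)
      rw [hD, Matrix.fromBlocks_multiply] at this
      simpa using this
    have hne : s 0 ≠ s 1 := by
      intro h01
      apply hns (s 0)
      have hDs : D = s 0 • (1 : Matrix (Fin 2 ⊕ Fin 2) (Fin 2 ⊕ Fin 2) F) := by
        have hs : s = fun _ => s 0 := by
          funext t
          fin_cases t
          · rfl
          · exact h01.symm
        rw [hD, hs, ← Matrix.fromBlocks_one, Matrix.fromBlocks_smul]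
        simp [Matrix.smul_one_eq_diagonal]
      calc (x : Matrix (Fin 2 ⊕ Fin 2) (Fin 2 ⊕ Fin 2) F)
          = (x : Matrix (Fin 2 ⊕ Fin 2) (Fin 2 ⊕ Fin 2) F) *
            ((P : Matrix (Fin 2 ⊕ Fin 2) (Fin 2 ⊕ Fin 2) F) *
              ((P⁻¹ : GL (Fin 2 ⊕ Fin 2) F) : Matrix (Fin 2 ⊕ Fin 2) (Fin 2 ⊕ Fin 2) F)) := by
            rw [hPi', Matrix.mul_one]
        _ = _ := by
            rw [← Matrix.mul_assoc, hPs, hDs, Matrix.mul_smul, Matrix.mul_one, Matrix.smul_mul,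
              hPi']
    have hs01 : s 0 = - s 1 := by
      have h1 : (s 0 - s 1) * (s 0 + s 1) = 0 := by linear_combination hss 0 - hss 1
      rcases mul_eq_zero.1 h1 with h | h
      · exact absurd (sub_eq_zero.1 h) hne
      · exact eq_neg_of_add_eq_zero_left h
    refine ⟨P * γ, mul_mem hP hγ, ?_⟩
    apply mem_norm_of_pm hmem hspan
    right
    have := conj_comm_pm γ P x Jm _ _ hγJ hPs (-1) ?_
    · rw [neg_smul, one_smul] at this; exact this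
    · rw [neg_smul, one_smul]; exact stdJ_anti_diag ε s hs01
  · rw [hz1, neg_smul, one_smul] at hxx
    obtain ⟨x', hx', hx'2, hx'J⟩ := exists_comm_model ε hε
    obtain ⟨P, hP, hPx⟩ := conj_of_sq_neg_one hodd' 2 x x' hx hx' hxx hx'2
    refine ⟨P * γ, mul_mem hP hγ, ?_⟩
    apply mem_norm_of_pm hmem hspan
    left
    have hPx' : (x : Matrix (Fin 2 ⊕ Fin 2) (Fin 2 ⊕ Fin 2) F) *
        (P : Matrix (Fin 2 ⊕ Fin 2) (Fin 2 ⊕ Fin 2) F) =
        (P : Matrix (Fin 2 ⊕ Fin 2) (Fin 2 ⊕ Fin 2) F) *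
          (x' : Matrix (Fin 2 ⊕ Fin 2) (Fin 2 ⊕ Fin 2) F) := by
      rw [← Units.val_mul, hPx, Units.val_mul]
    have := conj_comm_pm γ P x Jm _ _ hγJ hPx' 1 ?_
    · rw [one_smul] at this; exact this
    · rw [one_smul]; exact hx'J

theorem main {F : Type*} [Field F] [Fintype F] {p : ℕ} [Fact p.Prime] [CharP F p] {q : ℕ}
    (hq : Fintype.card F = q) (d : ℕ) (hd : 2 ≤ d) (k : ℕ) (hk : k.Prime)
    (K : Subalgebra F (Matrix (Fin d ⊕ Fin d) (Fin d ⊕ Fin d) F))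
    (hK : Cfsg.Geo.IsFieldSubalgebra k K)
    (hKf : Cfsg.Geo.IsSelfAdjointFor (Cfsg.sympForm d F) K)
    (hKalt : ∀ a ∈ K, ∀ v : Fin d ⊕ Fin d → F, Cfsg.sympForm d F (a *ᵥ v) v = 0)
    (r : ℕ) [Fact r.Prime]
    (hΩ : r ∣ (Cfsg.Geo.subalgebraNormalizer K).relIndex (Cfsg.spGL d F)) :
    (∀ x ∈ Cfsg.spGL d F, (∃ z : F, ((x ^ r : GL (Fin d ⊕ Fin d) F) :
        Matrix (Fin d ⊕ Fin d) (Fin d ⊕ Fin d) F) =
          z • (1 : Matrix (Fin d ⊕ Fin d) (Fin d ⊕ Fin d) F)) →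
      (∀ z : F, (x : Matrix (Fin d ⊕ Fin d) (Fin d ⊕ Fin d) F) ≠
        z • (1 : Matrix (Fin d ⊕ Fin d) (Fin d ⊕ Fin d) F)) →
      ∃ g ∈ Cfsg.spGL d F, g⁻¹ * x * g ∈ Cfsg.Geo.subalgebraNormalizer K) ↔
    (r = 2 ∧ d = 2 ∧ k = 2 ∧ Odd q) := by
  subst hq
  constructor
  · intro hall
    by_cases hrp : r = p
    · subst hrp
      exact (case_p d hd k hk K hK hall).elim
    · by_cases hr2 : r = 2
      · subst hr2
        have hpodd : Odd (Fintype.card F) := by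
          obtain ⟨n, hp, hn⟩ := FiniteField.card F p
          rw [hn]
          apply Odd.pow
          rcases hp.eq_two_or_odd' with h | h
          · exact absurd h.symm hrp
          · exact h
        have h2 : (2 : F) ≠ 0 := two_ne_zero_of_odd_card hpodd
        obtain ⟨hd2, hk2⟩ := case_two hrp h2 d hd k hk K hK hKf hKalt hall
        exact ⟨rfl, hd2, hk2, hpodd⟩
      · exact (case_odd d hd k hk K hK hKf hKalt r hrp hr2 hΩ hall).elim
  · rintro ⟨hr2, hd2, hk2, hodd⟩ x hx ⟨z, hz⟩ hns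
    subst hr2 hd2 hk2
    exact backward' hodd K hK hKf x hx z hz hns

end assembly

end Cfsg.Agent.Lib.Helper3.FESp
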