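import Mathlib

set_option autoImplicit false

/-!
Feit–Higman, part A1: the algebra of a rank-two Hecke algebra.  In a `ℂ`-algebra `R` we are given
elements `e, A₁, A₂` with `e` a right unit for them and the quadratic relations; from a
two-dimensional "representation" (scalars `q₁, a, b, d`) we build an element `F₁` with
`F₁ * F₁ = κ • F₁`.
-/

namespace Cfsg.Agent.Lib.Helper3.FH

open Finset

section Alg

variable {R : Type*} [Ring R] [Algebra ℂ R]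

/-- Alternating products: `(altU e A₁ A₂ k).1` has `k` factors and ends with `A₁`,
`(altU e A₁ A₂ k).2` ends with `A₂`. -/
def altU (e A₁ A₂ : R) : ℕ → R × R
  | 0 => (e, e)
  | k + 1 => ((altU e A₁ A₂ k).2 * A₁, (altU e A₁ A₂ k).1 * A₂)

/-- The first columns `(α₁, β₁, α₂, β₂)` of the alternating products of `ρ₁ = diag(q₁, -1)` and
`ρ₂ = [[a, b], [b, d]]` with `k` factors, starting with `ρ₁` resp. `ρ₂`. -/
def vseq (q₁ a b d : ℂ) : ℕ → ℂ × ℂ × ℂ × ℂ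
  | 0 => (1, 0, 1, 0)
  | k + 1 =>
    (q₁ * (vseq q₁ a b d k).2.2.1, -(vseq q₁ a b d k).2.2.2,
      a * (vseq q₁ a b d k).1 + b * (vseq q₁ a b d k).2.1,
      b * (vseq q₁ a b d k).1 + d * (vseq q₁ a b d k).2.1)

/-- The alternating products of `q₁, q₂`. -/
def qseq (q₁ q₂ : ℂ) : ℕ → ℂ × ℂ
  | 0 => (1, 1)
  | k + 1 => (q₁ * (qseq q₁ q₂ k).2, q₂ * (qseq q₁ q₂ k).1)

/-- The relations of a rank two Hecke algebra (with `e` as a right unit). -/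
structure HRel (e A₁ A₂ : R) (q₁ q₂ : ℂ) : Prop where
  ee : e * e = e
  A₁e : A₁ * e = A₁
  A₂e : A₂ * e = A₂
  sq₁ : A₁ * A₁ = q₁ • e + (q₁ - 1) • A₁
  sq₂ : A₂ * A₂ = q₂ • e + (q₂ - 1) • A₂

variable {e A₁ A₂ : R} {q₁ q₂ : ℂ}

theorem HRel.altU_mul_e (H : HRel e A₁ A₂ q₁ q₂) (k : ℕ) :
    (altU e A₁ A₂ k).1 * e = (altU e A₁ A₂ k).1 ∧ (altU e A₁ A₂ k).2 * e = (altU e A₁ A₂ k).2 := by
  cases k with
  | zero => exact ⟨H.ee, H.ee⟩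
  | succ k =>
    simp only [altU]
    rw [mul_assoc, mul_assoc, H.A₁e, H.A₂e]
    exact ⟨rfl, rfl⟩

theorem HRel.mul_sq₁ (H : HRel e A₁ A₂ q₁ q₂) (k : ℕ) :
    (altU e A₁ A₂ (k + 1)).1 * A₁ = q₁ • (altU e A₁ A₂ k).2 + (q₁ - 1) • (altU e A₁ A₂ (k + 1)).1 := by
  simp only [altU]
  rw [mul_assoc, H.sq₁, mul_add, mul_smul_comm, mul_smul_comm, (H.altU_mul_e k).2]

theorem HRel.mul_sq₂ (H : HRel e A₁ A₂ q₁ q₂) (k : ℕ) :
    (altU e A₁ A₂ (k + 1)).2 * A₂ = q₂ • (altU e A₁ A₂ k).1 + (q₂ - 1) • (altU e A₁ A₂ (k + 1)).2 := by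
  simp only [altU]
  rw [mul_assoc, H.sq₂, mul_add, mul_smul_comm, mul_smul_comm, (H.altU_mul_e k).1]

variable (e A₁ A₂ q₁ q₂) (a b d : ℂ) (n : ℕ)

/-- `F₁`, written with the pairing adapted to `A₁`. -/
noncomputable def F1 : R :=
  ∑ k ∈ range n, (((vseq q₁ a b d k).2.2.1 / (qseq q₁ q₂ k).2) • (altU e A₁ A₂ k).2 +
    ((vseq q₁ a b d (k + 1)).1 / (qseq q₁ q₂ (k + 1)).1) • (altU e A₁ A₂ (k + 1)).1)

/-- `F₂`, written with the pairing adapted to `A₁`. -/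
noncomputable def F2 : R :=
  ∑ k ∈ range n, (((vseq q₁ a b d k).2.2.2 / (qseq q₁ q₂ k).2) • (altU e A₁ A₂ k).2 +
    ((vseq q₁ a b d (k + 1)).2.1 / (qseq q₁ q₂ (k + 1)).1) • (altU e A₁ A₂ (k + 1)).1)

/-- `F₁`, written with the pairing adapted to `A₂`. -/
noncomputable def F1' : R :=
  ∑ k ∈ range n, (((vseq q₁ a b d k).1 / (qseq q₁ q₂ k).1) • (altU e A₁ A₂ k).1 +
    ((vseq q₁ a b d (k + 1)).2.2.1 / (qseq q₁ q₂ (k + 1)).2) • (altU e A₁ A₂ (k + 1)).2)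

/-- `F₂`, written with the pairing adapted to `A₂`. -/
noncomputable def F2' : R :=
  ∑ k ∈ range n, (((vseq q₁ a b d k).2.1 / (qseq q₁ q₂ k).1) • (altU e A₁ A₂ k).1 +
    ((vseq q₁ a b d (k + 1)).2.2.2 / (qseq q₁ q₂ (k + 1)).2) • (altU e A₁ A₂ (k + 1)).2)

omit [Algebra ℂ R] in
theorem pair_sum_eq (f g : ℕ → R) (h0 : f 0 = g 0) (hn : f n = g n) :
    ∑ k ∈ range n, (f k + g (k + 1)) = ∑ k ∈ range n, (g k + f (k + 1)) := by
  rw [sum_add_distrib, sum_add_distrib]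
  have h1 := sum_range_succ' g n
  have h2 := sum_range_succ g n
  have h3 := sum_range_succ' f n
  have h4 := sum_range_succ f n
  have e1 : ∑ k ∈ range n, g (k + 1) = ∑ k ∈ range n, g k + g n - g 0 := by
    rw [← h2, h1]; abel
  have e2 : ∑ k ∈ range n, f (k + 1) = ∑ k ∈ range n, f k + f n - f 0 := by
    rw [← h4, h3]; abel
  rw [e1, e2, h0, hn]; abel

variable {e A₁ A₂ q₁ q₂ a b d n}

theorem F1_eq (hL : (altU e A₁ A₂ n).1 = (altU e A₁ A₂ n).2)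
    (hα : (vseq q₁ a b d n).1 = (vseq q₁ a b d n).2.2.1)
    (hq : (qseq q₁ q₂ n).1 = (qseq q₁ q₂ n).2) :
    F1 e A₁ A₂ q₁ q₂ a b d n = F1' e A₁ A₂ q₁ q₂ a b d n := by
  unfold F1 F1'
  refine pair_sum_eq n
    (fun k => ((vseq q₁ a b d k).2.2.1 / (qseq q₁ q₂ k).2) • (altU e A₁ A₂ k).2)
    (fun k => ((vseq q₁ a b d k).1 / (qseq q₁ q₂ k).1) • (altU e A₁ A₂ k).1) ?_ ?_
  · simp [vseq, qseq, altU]
  · simp only [hL, hα, hq]

theorem F2_eq (hL : (altU e A₁ A₂ n).1 = (altU e A₁ A₂ n).2)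
    (hβ : (vseq q₁ a b d n).2.1 = (vseq q₁ a b d n).2.2.2)
    (hq : (qseq q₁ q₂ n).1 = (qseq q₁ q₂ n).2) :
    F2 e A₁ A₂ q₁ q₂ a b d n = F2' e A₁ A₂ q₁ q₂ a b d n := by
  unfold F2 F2'
  refine pair_sum_eq n
    (fun k => ((vseq q₁ a b d k).2.2.2 / (qseq q₁ q₂ k).2) • (altU e A₁ A₂ k).2)
    (fun k => ((vseq q₁ a b d k).2.1 / (qseq q₁ q₂ k).1) • (altU e A₁ A₂ k).1) ?_ ?_
  · simp [vseq, qseq, altU]
  · simp only [hL, hβ, hq]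

theorem HRel.F1_mul_e (H : HRel e A₁ A₂ q₁ q₂) :
    F1 e A₁ A₂ q₁ q₂ a b d n * e = F1 e A₁ A₂ q₁ q₂ a b d n := by
  unfold F1
  rw [sum_mul]
  refine sum_congr rfl fun k _ => ?_
  rw [add_mul, smul_mul_assoc, smul_mul_assoc, (H.altU_mul_e k).2, (H.altU_mul_e (k + 1)).1]

theorem HRel.F1_mul_A₁ (H : HRel e A₁ A₂ q₁ q₂) (hq₁ : q₁ ≠ 0) :
    F1 e A₁ A₂ q₁ q₂ a b d n * A₁ = q₁ • F1 e A₁ A₂ q₁ q₂ a b d n := by
  unfold F1
  rw [sum_mul, smul_sum]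
  refine sum_congr rfl fun k _ => ?_
  rw [add_mul, smul_mul_assoc, smul_mul_assoc, H.mul_sq₁ k]
  have h1 : (altU e A₁ A₂ k).2 * A₁ = (altU e A₁ A₂ (k + 1)).1 := rfl
  rw [h1]
  have h2 : (vseq q₁ a b d (k + 1)).1 / (qseq q₁ q₂ (k + 1)).1 =
      (vseq q₁ a b d k).2.2.1 / (qseq q₁ q₂ k).2 := by
    simp only [vseq, qseq]
    rw [mul_div_mul_left _ _ hq₁]
  rw [h2]
  module

theorem HRel.F2_mul_A₁ (H : HRel e A₁ A₂ q₁ q₂) (hq₁ : q₁ ≠ 0) :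
    F2 e A₁ A₂ q₁ q₂ a b d n * A₁ = -F2 e A₁ A₂ q₁ q₂ a b d n := by
  unfold F2
  rw [sum_mul, ← sum_neg_distrib]
  refine sum_congr rfl fun k _ => ?_
  rw [add_mul, smul_mul_assoc, smul_mul_assoc, H.mul_sq₁ k]
  have h1 : (altU e A₁ A₂ k).2 * A₁ = (altU e A₁ A₂ (k + 1)).1 := rfl
  rw [h1]
  have h2 : (vseq q₁ a b d (k + 1)).2.1 / (qseq q₁ q₂ (k + 1)).1 =
      -((vseq q₁ a b d k).2.2.2 / (qseq q₁ q₂ k).2) / q₁ := by
    simp only [vseq, qseq]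
    by_cases hz : (qseq q₁ q₂ k).2 = 0
    · simp [hz]
    · field_simp
  rw [h2]
  set x := (vseq q₁ a b d k).2.2.2 / (qseq q₁ q₂ k).2 with hx
  have h3 : -x / q₁ = -(x / q₁) := by ring
  rw [h3]
  set y := x / q₁ with hy
  have hy' : x = y * q₁ := by rw [hy]; field_simp
  linear_combination (norm := module) hy' • (altU e A₁ A₂ k).2 + hy' • (altU e A₁ A₂ (k + 1)).1

theorem HRel.F1'_mul_A₂ (H : HRel e A₁ A₂ q₁ q₂) (hq₂ : q₂ ≠ 0) (had : a + d = q₂ - 1)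
    (hb : b * b = a * d + q₂) :
    F1' e A₁ A₂ q₁ q₂ a b d n * A₂ =
      a • F1' e A₁ A₂ q₁ q₂ a b d n + b • F2' e A₁ A₂ q₁ q₂ a b d n := by
  unfold F1' F2'
  rw [sum_mul, smul_sum, smul_sum, ← sum_add_distrib]
  refine sum_congr rfl fun k _ => ?_
  rw [add_mul, smul_mul_assoc, smul_mul_assoc, H.mul_sq₂ k]
  have h1 : (altU e A₁ A₂ k).1 * A₂ = (altU e A₁ A₂ (k + 1)).2 := rfl
  rw [h1]
  set x₁ := (vseq q₁ a b d k).1 / (qseq q₁ q₂ k).1 with hx₁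
  set x₂ := (vseq q₁ a b d k).2.1 / (qseq q₁ q₂ k).1 with hx₂
  have hy₁ : (vseq q₁ a b d (k + 1)).2.2.1 / (qseq q₁ q₂ (k + 1)).2 = (a * x₁ + b * x₂) / q₂ := by
    simp only [vseq, qseq, hx₁, hx₂]
    by_cases hz : (qseq q₁ q₂ k).1 = 0
    · simp [hz]
    · field_simp
  have hy₂ : (vseq q₁ a b d (k + 1)).2.2.2 / (qseq q₁ q₂ (k + 1)).2 = (b * x₁ + d * x₂) / q₂ := by
    simp only [vseq, qseq, hx₁, hx₂]
    by_cases hz : (qseq q₁ q₂ k).1 = 0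
    · simp [hz]
    · field_simp
  rw [hy₁, hy₂]
  have e1 : q₂ * ((a * x₁ + b * x₂) / q₂) = a * x₁ + b * x₂ := by field_simp
  have e2 : x₁ + (q₂ - 1) * ((a * x₁ + b * x₂) / q₂) =
      a * ((a * x₁ + b * x₂) / q₂) + b * ((b * x₁ + d * x₂) / q₂) := by
    have hd : d = q₂ - 1 - a := by linear_combination had
    field_simp
    subst hd
    linear_combination (-x₁) * hb
  linear_combination (norm := module) e1 • (altU e A₁ A₂ k).1 + e2 • (altU e A₁ A₂ (k + 1)).2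

theorem HRel.F2'_mul_A₂ (H : HRel e A₁ A₂ q₁ q₂) (hq₂ : q₂ ≠ 0) (had : a + d = q₂ - 1)
    (hb : b * b = a * d + q₂) :
    F2' e A₁ A₂ q₁ q₂ a b d n * A₂ =
      b • F1' e A₁ A₂ q₁ q₂ a b d n + d • F2' e A₁ A₂ q₁ q₂ a b d n := by
  unfold F1' F2'
  rw [sum_mul, smul_sum, smul_sum, ← sum_add_distrib]
  refine sum_congr rfl fun k _ => ?_
  rw [add_mul, smul_mul_assoc, smul_mul_assoc, H.mul_sq₂ k]
  have h1 : (altU e A₁ A₂ k).1 * A₂ = (altU e A₁ A₂ (k + 1)).2 := rfl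
  rw [h1]
  set x₁ := (vseq q₁ a b d k).1 / (qseq q₁ q₂ k).1 with hx₁
  set x₂ := (vseq q₁ a b d k).2.1 / (qseq q₁ q₂ k).1 with hx₂
  have hy₁ : (vseq q₁ a b d (k + 1)).2.2.1 / (qseq q₁ q₂ (k + 1)).2 = (a * x₁ + b * x₂) / q₂ := by
    simp only [vseq, qseq, hx₁, hx₂]
    by_cases hz : (qseq q₁ q₂ k).1 = 0
    · simp [hz]
    · field_simp
  have hy₂ : (vseq q₁ a b d (k + 1)).2.2.2 / (qseq q₁ q₂ (k + 1)).2 = (b * x₁ + d * x₂) / q₂ := by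
    simp only [vseq, qseq, hx₁, hx₂]
    by_cases hz : (qseq q₁ q₂ k).1 = 0
    · simp [hz]
    · field_simp
  rw [hy₁, hy₂]
  have e1 : q₂ * ((b * x₁ + d * x₂) / q₂) = b * x₁ + d * x₂ := by field_simp
  have e2 : x₂ + (q₂ - 1) * ((b * x₁ + d * x₂) / q₂) =
      b * ((a * x₁ + b * x₂) / q₂) + d * ((b * x₁ + d * x₂) / q₂) := by
    have hd : a = q₂ - 1 - d := by linear_combination had
    field_simp
    subst hd
    linear_combination (-x₂) * hb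
  linear_combination (norm := module) e1 • (altU e A₁ A₂ k).1 + e2 • (altU e A₁ A₂ (k + 1)).2

end Alg

end Cfsg.Agent.Lib.Helper3.FH
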