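import Mathlib
import Cfsg.Agent.Lib.Helper3.FHA1

set_option autoImplicit false

/-!
Feit–Higman, part A2: `F₁ * F₁ = κ • F₁`, and the trace argument.
-/

namespace Cfsg.Agent.Lib.Helper3.FH

open Finset

section Alg

variable {R : Type*} [Ring R] [Algebra ℂ R]
variable {e A₁ A₂ : R} {q₁ q₂ a b d : ℂ} {n : ℕ}

theorem HRel.F2_mul_e (H : HRel e A₁ A₂ q₁ q₂) :
    F2 e A₁ A₂ q₁ q₂ a b d n * e = F2 e A₁ A₂ q₁ q₂ a b d n := by
  unfold F2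
  rw [sum_mul]
  refine sum_congr rfl fun k _ => ?_
  rw [add_mul, smul_mul_assoc, smul_mul_assoc, (H.altU_mul_e k).2, (H.altU_mul_e (k + 1)).1]

/-- The hypotheses at the top: the two alternating products with `n` factors agree. -/
structure TopHyp (e A₁ A₂ : R) (q₁ q₂ a b d : ℂ) (n : ℕ) : Prop where
  hL : (altU e A₁ A₂ n).1 = (altU e A₁ A₂ n).2
  hα : (vseq q₁ a b d n).1 = (vseq q₁ a b d n).2.2.1
  hβ : (vseq q₁ a b d n).2.1 = (vseq q₁ a b d n).2.2.2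
  hq : (qseq q₁ q₂ n).1 = (qseq q₁ q₂ n).2

theorem HRel.F1_mul_A₂ (H : HRel e A₁ A₂ q₁ q₂) (T : TopHyp e A₁ A₂ q₁ q₂ a b d n)
    (hq₂ : q₂ ≠ 0) (had : a + d = q₂ - 1) (hb : b * b = a * d + q₂) :
    F1 e A₁ A₂ q₁ q₂ a b d n * A₂ =
      a • F1 e A₁ A₂ q₁ q₂ a b d n + b • F2 e A₁ A₂ q₁ q₂ a b d n := by
  rw [F1_eq T.hL T.hα T.hq, F2_eq T.hL T.hβ T.hq]
  exact H.F1'_mul_A₂ hq₂ had hb

theorem HRel.F2_mul_A₂ (H : HRel e A₁ A₂ q₁ q₂) (T : TopHyp e A₁ A₂ q₁ q₂ a b d n)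
    (hq₂ : q₂ ≠ 0) (had : a + d = q₂ - 1) (hb : b * b = a * d + q₂) :
    F2 e A₁ A₂ q₁ q₂ a b d n * A₂ =
      b • F1 e A₁ A₂ q₁ q₂ a b d n + d • F2 e A₁ A₂ q₁ q₂ a b d n := by
  rw [F1_eq T.hL T.hα T.hq, F2_eq T.hL T.hβ T.hq]
  exact H.F2'_mul_A₂ hq₂ had hb

theorem HRel.F1_mul_altU (H : HRel e A₁ A₂ q₁ q₂) (T : TopHyp e A₁ A₂ q₁ q₂ a b d n)
    (hq₁ : q₁ ≠ 0) (hq₂ : q₂ ≠ 0) (had : a + d = q₂ - 1) (hb : b * b = a * d + q₂) (k : ℕ) :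
    F1 e A₁ A₂ q₁ q₂ a b d n * (altU e A₁ A₂ k).1 =
        (vseq q₁ a b d k).1 • F1 e A₁ A₂ q₁ q₂ a b d n +
          (vseq q₁ a b d k).2.1 • F2 e A₁ A₂ q₁ q₂ a b d n ∧
      F1 e A₁ A₂ q₁ q₂ a b d n * (altU e A₁ A₂ k).2 =
        (vseq q₁ a b d k).2.2.1 • F1 e A₁ A₂ q₁ q₂ a b d n +
          (vseq q₁ a b d k).2.2.2 • F2 e A₁ A₂ q₁ q₂ a b d n := by
  induction k with
  | zero =>
    simp only [altU, vseq, one_smul, zero_smul, add_zero]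
    exact ⟨H.F1_mul_e, H.F1_mul_e⟩
  | succ k ih =>
    obtain ⟨ih1, ih2⟩ := ih
    constructor
    · simp only [altU, vseq]
      rw [← mul_assoc, ih2, add_mul, smul_mul_assoc, smul_mul_assoc, H.F1_mul_A₁ hq₁,
        H.F2_mul_A₁ hq₁]
      module
    · simp only [altU, vseq]
      rw [← mul_assoc, ih1, add_mul, smul_mul_assoc, smul_mul_assoc, H.F1_mul_A₂ T hq₂ had hb,
        H.F2_mul_A₂ T hq₂ had hb]
      module

/-- The eigenvalue `κ`. -/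
noncomputable def kappa (q₁ q₂ a b d : ℂ) (n : ℕ) : ℂ :=
  ∑ k ∈ range n, ((vseq q₁ a b d k).2.2.1 / (qseq q₁ q₂ k).2 * (vseq q₁ a b d k).2.2.1 +
    (vseq q₁ a b d (k + 1)).1 / (qseq q₁ q₂ (k + 1)).1 * (vseq q₁ a b d (k + 1)).1)

/-- The other coefficient. -/
noncomputable def kappa' (q₁ q₂ a b d : ℂ) (n : ℕ) : ℂ :=
  ∑ k ∈ range n, ((vseq q₁ a b d k).2.2.1 / (qseq q₁ q₂ k).2 * (vseq q₁ a b d k).2.2.2 +
    (vseq q₁ a b d (k + 1)).1 / (qseq q₁ q₂ (k + 1)).1 * (vseq q₁ a b d (k + 1)).2.1)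

theorem HRel.F1_mul_F1_aux (H : HRel e A₁ A₂ q₁ q₂) (T : TopHyp e A₁ A₂ q₁ q₂ a b d n)
    (hq₁ : q₁ ≠ 0) (hq₂ : q₂ ≠ 0) (had : a + d = q₂ - 1) (hb : b * b = a * d + q₂) :
    F1 e A₁ A₂ q₁ q₂ a b d n * F1 e A₁ A₂ q₁ q₂ a b d n =
      kappa q₁ q₂ a b d n • F1 e A₁ A₂ q₁ q₂ a b d n +
        kappa' q₁ q₂ a b d n • F2 e A₁ A₂ q₁ q₂ a b d n := by
  set X := F1 e A₁ A₂ q₁ q₂ a b d n with hX
  set Y := F2 e A₁ A₂ q₁ q₂ a b d n with hY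
  have hmul : ∀ k, X * (altU e A₁ A₂ k).1 =
        (vseq q₁ a b d k).1 • X + (vseq q₁ a b d k).2.1 • Y ∧
      X * (altU e A₁ A₂ k).2 = (vseq q₁ a b d k).2.2.1 • X + (vseq q₁ a b d k).2.2.2 • Y :=
    fun k => H.F1_mul_altU T hq₁ hq₂ had hb k
  have h1 : X * X = ∑ k ∈ range n,
      (((vseq q₁ a b d k).2.2.1 / (qseq q₁ q₂ k).2) • (X * (altU e A₁ A₂ k).2) +
        ((vseq q₁ a b d (k + 1)).1 / (qseq q₁ q₂ (k + 1)).1) • (X * (altU e A₁ A₂ (k + 1)).1)) := by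
    conv_lhs => rw [hX]; arg 2; unfold F1
    rw [← hX, mul_sum]
    refine sum_congr rfl fun k _ => ?_
    rw [mul_add, mul_smul_comm, mul_smul_comm]
  rw [h1, kappa, kappa', sum_smul, sum_smul, ← sum_add_distrib]
  refine sum_congr rfl fun k _ => ?_
  rw [(hmul k).2, (hmul (k + 1)).1]
  module

theorem HRel.F1_mul_F1 (H : HRel e A₁ A₂ q₁ q₂) (T : TopHyp e A₁ A₂ q₁ q₂ a b d n)
    (hq₁ : q₁ ≠ 0) (hq₁' : 1 + q₁ ≠ 0) (hq₂ : q₂ ≠ 0) (had : a + d = q₂ - 1)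
    (hb : b * b = a * d + q₂) :
    F1 e A₁ A₂ q₁ q₂ a b d n * F1 e A₁ A₂ q₁ q₂ a b d n =
      kappa q₁ q₂ a b d n • F1 e A₁ A₂ q₁ q₂ a b d n := by
  have h0 := H.F1_mul_F1_aux T hq₁ hq₂ had hb
  set X := F1 e A₁ A₂ q₁ q₂ a b d n with hX
  set Y := F2 e A₁ A₂ q₁ q₂ a b d n with hY
  have hXe : X * e = X := H.F1_mul_e
  have hYe : Y * e = Y := H.F2_mul_e
  have hXA : X * A₁ = q₁ • X := H.F1_mul_A₁ hq₁
  have hYA : Y * A₁ = -Y := H.F2_mul_A₁ hq₁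
  have h1 : (X * X) * (e + A₁) = (1 + q₁) • (X * X) := by
    rw [mul_assoc, mul_add, hXe, hXA, mul_add, mul_smul_comm]
    module
  have h2 : (X * X) * (e + A₁) = ((1 + q₁) * kappa q₁ q₂ a b d n) • X := by
    rw [h0, add_mul, smul_mul_assoc, smul_mul_assoc, mul_add, mul_add, hXe, hXA, hYe, hYA]
    module
  have h3 : (1 + q₁) • (X * X) = (1 + q₁) • (kappa q₁ q₂ a b d n • X) := by
    rw [← h1, h2, smul_smul]
  exact smul_right_injective R hq₁' h3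

end Alg

section Mat

variable {ι : Type*} [Fintype ι] [DecidableEq ι]

/-- A complex matrix `M` with `M * M = κ • M` and trace a non-zero natural number `N`: then `κ`
divides `N` with a natural quotient. -/
theorem trace_of_sq_eq_smul (M : Matrix ι ι ℂ) (κ : ℂ) (N : ℕ) (hN : N ≠ 0)
    (hM : M * M = κ • M) (htr : M.trace = (N : ℂ)) :
    ∃ m : ℕ, m ≠ 0 ∧ (m : ℂ) * κ = (N : ℂ) := by
  have hNc : (N : ℂ) ≠ 0 := Nat.cast_ne_zero.2 hN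
  by_cases hκ : κ = 0
  · exfalso
    rw [hκ, zero_smul] at hM
    have hnil : IsNilpotent M := ⟨2, by rw [pow_two, hM]⟩
    have := (Matrix.isNilpotent_trace_of_isNilpotent hnil).eq_zero
    rw [htr] at this
    exact hNc this
  · set P : Matrix ι ι ℂ := κ⁻¹ • M with hP
    have hPP : P * P = P := by
      rw [hP, smul_mul_assoc, mul_smul_comm, hM, smul_smul, smul_smul]
      congr 1
      field_simp
    have hidem : IsIdempotentElem (Matrix.toLin' P) := by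
      unfold IsIdempotentElem
      rw [Module.End.mul_eq_comp, ← Matrix.toLin'_mul, hPP]
    have hproj := LinearMap.IsIdempotentElem.isProj_range _ hidem
    have htr2 := hproj.trace
    rw [Matrix.trace_toLin'_eq] at htr2
    have htrP : P.trace = κ⁻¹ * (N : ℂ) := by
      rw [hP, Matrix.trace_smul, htr, smul_eq_mul]
    refine ⟨Module.finrank ℂ (LinearMap.range (Matrix.toLin' P)), ?_, ?_⟩
    · intro h0
      rw [h0, Nat.cast_zero, htrP] at htr2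
      exact (mul_ne_zero (inv_ne_zero hκ) hNc) htr2
    · rw [← htr2, htrP]
      field_simp

variable {e A₁ A₂ : Matrix ι ι ℂ} {q₁ q₂ a b d : ℂ} {n : ℕ}

theorem trace_F1 (hn : 1 ≤ n) (N : ℂ) (hN : e.trace = N)
    (htr : ∀ k, 1 ≤ k → k ≤ n → (altU e A₁ A₂ k).1.trace = 0 ∧ (altU e A₁ A₂ k).2.trace = 0) :
    (F1 e A₁ A₂ q₁ q₂ a b d n).trace = N := by
  unfold F1
  rw [Matrix.trace_sum]
  rw [sum_eq_single 0]
  · rw [Matrix.trace_add, Matrix.trace_smul, Matrix.trace_smul, (htr 1 le_rfl hn).1]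
    simp [vseq, qseq, altU, hN]
  · intro k hk hk0
    have hk1 : 1 ≤ k := Nat.one_le_iff_ne_zero.2 hk0
    have hkn : k < n := mem_range.1 hk
    rw [Matrix.trace_add, Matrix.trace_smul, Matrix.trace_smul, (htr k hk1 hkn.le).2,
      (htr (k + 1) (by omega) (by omega)).1]
    simp
  · intro h
    exact absurd (mem_range.2 (by omega)) h

/-- The abstract conclusion: `κ` divides the trace of `e`. -/
theorem HRel.exists_nat (H : HRel e A₁ A₂ q₁ q₂) (T : TopHyp e A₁ A₂ q₁ q₂ a b d n)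
    (hq₁ : q₁ ≠ 0) (hq₁' : 1 + q₁ ≠ 0) (hq₂ : q₂ ≠ 0) (had : a + d = q₂ - 1)
    (hb : b * b = a * d + q₂) (hn : 1 ≤ n) (N : ℕ) (hN0 : N ≠ 0) (hN : e.trace = (N : ℂ))
    (htr : ∀ k, 1 ≤ k → k ≤ n → (altU e A₁ A₂ k).1.trace = 0 ∧ (altU e A₁ A₂ k).2.trace = 0) :
    ∃ m : ℕ, m ≠ 0 ∧ (m : ℂ) * kappa q₁ q₂ a b d n = (N : ℂ) :=
  trace_of_sq_eq_smul _ _ N hN0 (H.F1_mul_F1 T hq₁ hq₁' hq₂ had hb) (trace_F1 hn _ hN htr)

end Mat

end Cfsg.Agent.Lib.Helper3.FH
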