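import Mathlib
import Cfsg.Agent.Lib.Helper3.FHA2

set_option autoImplicit false

/-!
Feit–Higman, part A3: closed forms for the coefficient sequences in terms of a Lucas sequence.
-/

namespace Cfsg.Agent.Lib.Helper3.FH

open Finset

/-- The Lucas sequence `s₀ = 0, s₁ = 1, s_{k+2} = u s_{k+1} - Q s_k`. -/
def luc (u Q : ℂ) : ℕ → ℂ
  | 0 => 0
  | 1 => 1
  | k + 2 => u * luc u Q (k + 1) - Q * luc u Q k

theorem luc_succ_succ (u Q : ℂ) (k : ℕ) :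
    luc u Q (k + 2) = u * luc u Q (k + 1) - Q * luc u Q k := rfl

/-- The parameters of the two-dimensional representation. -/
structure RepPar (q₁ q₂ u a b d : ℂ) : Prop where
  hq₁ : q₁ ≠ 0
  hq₂ : q₂ ≠ 0
  hq₁' : 1 + q₁ ≠ 0
  ha : (q₁ + 1) * a = u + q₂ - 1
  had : a + d = q₂ - 1
  hb : b * b = a * d + q₂

/-- `τ_k = s_{k+1} + d s_k`. -/
def tau (u Q d : ℂ) (k : ℕ) : ℂ := luc u Q (k + 1) + d * luc u Q k

theorem tau_succ_succ (u Q d : ℂ) (k : ℕ) :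
    tau u Q d (k + 2) = u * tau u Q d (k + 1) - Q * tau u Q d k := by
  simp only [tau, luc_succ_succ]
  ring

section

variable {q₁ q₂ u a b d : ℂ}

theorem RepPar.q₁a (P : RepPar q₁ q₂ u a b d) : q₁ * a = u + d := by
  linear_combination P.ha - P.had

theorem RepPar.key (P : RepPar q₁ q₂ u a b d) (i : ℕ) :
    q₁ * (a * tau u (q₁ * q₂) d i - b * b * luc u (q₁ * q₂) i) = tau u (q₁ * q₂) d (i + 1) := by
  simp only [tau, luc_succ_succ]
  rw [P.hb]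
  linear_combination (luc u (q₁ * q₂) (i + 1)) * P.q₁a

theorem vseq_succ (k : ℕ) : vseq q₁ a b d (k + 1) =
    (q₁ * (vseq q₁ a b d k).2.2.1, -(vseq q₁ a b d k).2.2.2,
      a * (vseq q₁ a b d k).1 + b * (vseq q₁ a b d k).2.1,
      b * (vseq q₁ a b d k).1 + d * (vseq q₁ a b d k).2.1) := rfl

theorem qseq_succ (q₁ q₂ : ℂ) (k : ℕ) : qseq q₁ q₂ (k + 1) =
    (q₁ * (qseq q₁ q₂ k).2, q₂ * (qseq q₁ q₂ k).1) := rfl

theorem RepPar.vseq_eq (P : RepPar q₁ q₂ u a b d) (i : ℕ) :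
    vseq q₁ a b d (2 * i) =
        (tau u (q₁ * q₂) d i, -b * luc u (q₁ * q₂) i, tau u (q₁ * q₂) d i,
          b * q₁ * luc u (q₁ * q₂) i) ∧
      vseq q₁ a b d (2 * i + 1) =
        (q₁ * tau u (q₁ * q₂) d i, -b * q₁ * luc u (q₁ * q₂) i, tau u (q₁ * q₂) d (i + 1) / q₁,
          b * tau u (q₁ * q₂) d i - b * d * luc u (q₁ * q₂) i) := by
  have hq₁ := P.hq₁
  have hstep : ∀ i, vseq q₁ a b d (2 * i) =
        (tau u (q₁ * q₂) d i, -b * luc u (q₁ * q₂) i, tau u (q₁ * q₂) d i,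
          b * q₁ * luc u (q₁ * q₂) i) →
      vseq q₁ a b d (2 * i + 1) =
        (q₁ * tau u (q₁ * q₂) d i, -b * q₁ * luc u (q₁ * q₂) i, tau u (q₁ * q₂) d (i + 1) / q₁,
          b * tau u (q₁ * q₂) d i - b * d * luc u (q₁ * q₂) i) := by
    intro i h
    rw [vseq_succ, h]
    refine Prod.ext rfl (Prod.ext ?_ (Prod.ext ?_ ?_))
    · simp only; ring
    · simp only
      rw [eq_div_iff hq₁, ← P.key i]; ring
    · simp only; ring
  induction i with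
  | zero =>
    have h0 : vseq q₁ a b d (2 * 0) =
        (tau u (q₁ * q₂) d 0, -b * luc u (q₁ * q₂) 0, tau u (q₁ * q₂) d 0,
          b * q₁ * luc u (q₁ * q₂) 0) := by
      simp [vseq, tau, luc]
    exact ⟨h0, hstep 0 h0⟩
  | succ i ih =>
    have h1 : vseq q₁ a b d (2 * (i + 1)) =
        (tau u (q₁ * q₂) d (i + 1), -b * luc u (q₁ * q₂) (i + 1), tau u (q₁ * q₂) d (i + 1),
          b * q₁ * luc u (q₁ * q₂) (i + 1)) := by
      have e : 2 * (i + 1) = (2 * i + 1) + 1 := by ring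
      rw [e, vseq_succ, ih.2]
      refine Prod.ext ?_ (Prod.ext ?_ (Prod.ext ?_ ?_))
      · simp only; field_simp
      · simp only [tau]; ring
      · simp only
        rw [← P.key i]; ring
      · simp only [tau]; ring
    exact ⟨h1, hstep (i + 1) h1⟩

theorem qseq_eq (q₁ q₂ : ℂ) (i : ℕ) :
    qseq q₁ q₂ (2 * i) = ((q₁ * q₂) ^ i, (q₁ * q₂) ^ i) ∧
      qseq q₁ q₂ (2 * i + 1) = (q₁ * (q₁ * q₂) ^ i, q₂ * (q₁ * q₂) ^ i) := by
  induction i with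
  | zero => simp [qseq]
  | succ i ih =>
    have e : 2 * (i + 1) = (2 * i + 1) + 1 := by ring
    have h1 : qseq q₁ q₂ (2 * (i + 1)) = ((q₁ * q₂) ^ (i + 1), (q₁ * q₂) ^ (i + 1)) := by
      rw [e, qseq_succ, ih.2]
      refine Prod.ext ?_ ?_ <;> simp only <;> ring
    refine ⟨h1, ?_⟩
    rw [qseq_succ, h1]

end

/-- `G_i = τ_i ^ 2 / Q ^ i`. -/
noncomputable def Gs (u Q d : ℂ) (i : ℕ) : ℂ := tau u Q d i ^ 2 / Q ^ i

section

variable {q₁ q₂ u a b d : ℂ}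

theorem RepPar.pair_even (P : RepPar q₁ q₂ u a b d) (i : ℕ) :
    (vseq q₁ a b d (2 * i)).2.2.1 / (qseq q₁ q₂ (2 * i)).2 * (vseq q₁ a b d (2 * i)).2.2.1 +
      (vseq q₁ a b d (2 * i + 1)).1 / (qseq q₁ q₂ (2 * i + 1)).1 * (vseq q₁ a b d (2 * i + 1)).1 =
      (1 + q₁) * Gs u (q₁ * q₂) d i := by
  rw [(P.vseq_eq i).1, (P.vseq_eq i).2, (qseq_eq q₁ q₂ i).1, (qseq_eq q₁ q₂ i).2]
  simp only [Gs]
  have hq₁ := P.hq₁
  have hQ : (q₁ * q₂) ^ i ≠ 0 := pow_ne_zero _ (mul_ne_zero P.hq₁ P.hq₂)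
  field_simp

theorem RepPar.pair_odd (P : RepPar q₁ q₂ u a b d) (i : ℕ) :
    (vseq q₁ a b d (2 * i + 1)).2.2.1 / (qseq q₁ q₂ (2 * i + 1)).2 *
        (vseq q₁ a b d (2 * i + 1)).2.2.1 +
      (vseq q₁ a b d (2 * i + 1 + 1)).1 / (qseq q₁ q₂ (2 * i + 1 + 1)).1 *
        (vseq q₁ a b d (2 * i + 1 + 1)).1 =
      (1 + q₁) / q₁ * Gs u (q₁ * q₂) d (i + 1) := by
  have e : 2 * i + 1 + 1 = 2 * (i + 1) := by ring
  rw [e, (P.vseq_eq (i + 1)).1, (P.vseq_eq i).2, (qseq_eq q₁ q₂ (i + 1)).1, (qseq_eq q₁ q₂ i).2]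
  simp only [Gs]
  have hq₁ := P.hq₁
  have hq₂ := P.hq₂
  have hQ : (q₁ * q₂) ^ i ≠ 0 := pow_ne_zero _ (mul_ne_zero P.hq₁ P.hq₂)
  field_simp
  ring

theorem sum_range_two_mul (f : ℕ → ℂ) (m : ℕ) :
    ∑ k ∈ range (2 * m), f k = ∑ i ∈ range m, (f (2 * i) + f (2 * i + 1)) := by
  induction m with
  | zero => simp
  | succ m ih =>
    have e : 2 * (m + 1) = 2 * m + 1 + 1 := by ring
    rw [e, sum_range_succ, sum_range_succ, ih, sum_range_succ]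
    ring

theorem RepPar.kappa_even (P : RepPar q₁ q₂ u a b d) (m : ℕ) :
    kappa q₁ q₂ a b d (2 * m) =
      ∑ i ∈ range m, ((1 + q₁) * Gs u (q₁ * q₂) d i +
        (1 + q₁) / q₁ * Gs u (q₁ * q₂) d (i + 1)) := by
  unfold kappa
  rw [sum_range_two_mul]
  refine sum_congr rfl fun i _ => ?_
  rw [P.pair_even i, P.pair_odd i]

theorem RepPar.kappa_odd (P : RepPar q₁ q₂ u a b d) (m : ℕ) :
    kappa q₁ q₂ a b d (2 * m + 1) =
      ∑ i ∈ range m, ((1 + q₁) * Gs u (q₁ * q₂) d i +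
        (1 + q₁) / q₁ * Gs u (q₁ * q₂) d (i + 1)) + (1 + q₁) * Gs u (q₁ * q₂) d m := by
  rw [← P.kappa_even m]
  unfold kappa
  rw [sum_range_succ, P.pair_even m]

end

end Cfsg.Agent.Lib.Helper3.FH
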