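import Mathlib
import Cfsg.Agent.Lib.Helper3.FHA3

set_option autoImplicit false

/-!
Feit–Higman, part A4: evaluation of `κ`.
-/

namespace Cfsg.Agent.Lib.Helper3.FH

open Finset

/-- `Δ(u) = (q₁ + q₂)(q₁ q₂ + 1) + (q₁ - 1)(q₂ - 1) u - u²`. -/
def Del (q₁ q₂ u : ℂ) : ℂ := (q₁ + q₂) * (q₁ * q₂ + 1) + (q₁ - 1) * (q₂ - 1) * u - u ^ 2

theorem inv_luc (u Q : ℂ) (k : ℕ) :
    luc u Q (k + 1) ^ 2 - u * luc u Q k * luc u Q (k + 1) + Q * luc u Q k ^ 2 = Q ^ k := by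
  induction k with
  | zero => simp [luc]
  | succ k ih =>
    rw [luc_succ_succ, pow_succ]
    linear_combination Q * ih

/-- `I₀ = τ₁² - u τ₁ + Q`. -/
def I0 (u Q d : ℂ) : ℂ := (u + d) ^ 2 - u * (u + d) + Q

theorem tau_zero (u Q d : ℂ) : tau u Q d 0 = 1 := by simp [tau, luc]

theorem tau_one (u Q d : ℂ) : tau u Q d 1 = u + d := by simp [tau, luc]

theorem inv_tau (u Q d : ℂ) (k : ℕ) :
    tau u Q d (k + 1) ^ 2 - u * tau u Q d k * tau u Q d (k + 1) + Q * tau u Q d k ^ 2 =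
      I0 u Q d * Q ^ k := by
  induction k with
  | zero => simp [tau_zero, tau_one, I0]
  | succ k ih =>
    rw [tau_succ_succ, pow_succ]
    linear_combination Q * ih

theorem tau_poly (u Q d : ℂ) (i : ℕ) :
    (4 * Q - u ^ 2) * tau u Q d (i + 1) ^ 2 =
      2 * I0 u Q d * Q ^ (i + 1) + 2 * Q * tau u Q d (i + 1) ^ 2 - tau u Q d (i + 2) ^ 2 -
        Q ^ 2 * tau u Q d i ^ 2 := by
  have h1 : tau u Q d (i + 2) ^ 2 - u * tau u Q d (i + 1) * tau u Q d (i + 2) +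
      Q * tau u Q d (i + 1) ^ 2 = I0 u Q d * Q ^ (i + 1) := inv_tau u Q d (i + 1)
  have h2 := inv_tau u Q d i
  have h3 := tau_succ_succ u Q d i
  linear_combination h1 + Q * h2 + (u * tau u Q d (i + 1)) * h3

theorem Gs_step (u Q d : ℂ) (hQ : Q ≠ 0) (i : ℕ) :
    (4 * Q - u ^ 2) * Gs u Q d (i + 1) =
      2 * I0 u Q d + 2 * Q * Gs u Q d (i + 1) - Q * Gs u Q d (i + 2) - Q * Gs u Q d i := by
  have h := tau_poly u Q d i
  have hQi : Q ^ i ≠ 0 := pow_ne_zero _ hQ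
  have e0 : Gs u Q d i * Q ^ i = tau u Q d i ^ 2 := by
    simp only [Gs]; field_simp
  have e1 : Gs u Q d (i + 1) * (Q ^ i * Q) = tau u Q d (i + 1) ^ 2 := by
    simp only [Gs]; rw [div_mul_eq_mul_div, div_eq_iff (pow_ne_zero _ hQ)]; ring
  have e2 : Gs u Q d (i + 2) * (Q ^ i * Q * Q) = tau u Q d (i + 2) ^ 2 := by
    simp only [Gs]; rw [div_mul_eq_mul_div, div_eq_iff (pow_ne_zero _ hQ)]; ring
  have hne : Q ^ i * Q ≠ 0 := mul_ne_zero hQi hQ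
  apply mul_left_cancel₀ hne
  linear_combination h + (4 * Q - u ^ 2 - 2 * Q) * e1 + e2 + Q ^ 2 * e0

theorem Gs_telescope (u Q d : ℂ) (hQ : Q ≠ 0) (m : ℕ) :
    (4 * Q - u ^ 2) * ∑ i ∈ range m, Gs u Q d (i + 1) =
      2 * I0 u Q d * m + Q * (Gs u Q d 1 - Gs u Q d 0) + Q * (Gs u Q d m - Gs u Q d (m + 1)) := by
  induction m with
  | zero =>
    simp only [range_zero, sum_empty, mul_zero, Nat.cast_zero]
    ring
  | succ m ih =>
    rw [sum_range_succ, mul_add, ih, Gs_step u Q d hQ m]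
    push_cast
    ring

theorem Gs_shift (u Q d : ℂ) (m : ℕ) :
    ∑ i ∈ range m, Gs u Q d i = Gs u Q d 0 + ∑ i ∈ range m, Gs u Q d (i + 1) - Gs u Q d m := by
  have h1 := sum_range_succ' (Gs u Q d) m
  have h2 := sum_range_succ (Gs u Q d) m
  rw [h2] at h1
  linear_combination h1

theorem Gs_zero (u Q d : ℂ) : Gs u Q d 0 = 1 := by simp [Gs, tau_zero]

theorem Gs_one (u Q d : ℂ) : Gs u Q d 1 = (u + d) ^ 2 / Q := by simp [Gs, tau_one]

section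

variable {q₁ q₂ u a b d : ℂ}

theorem RepPar.h1 (P : RepPar q₁ q₂ u a b d) : (1 + q₁) * d = q₁ * q₂ - q₁ - u := by
  linear_combination (1 + q₁) * P.had - P.ha

theorem RepPar.h2 (P : RepPar q₁ q₂ u a b d) : (1 + q₁) * (u + d) = q₁ * (u + q₂ - 1) := by
  linear_combination P.h1

theorem RepPar.I0_eq (P : RepPar q₁ q₂ u a b d) :
    (1 + q₁) ^ 2 * I0 u (q₁ * q₂) d = q₁ * Del q₁ q₂ u := by
  simp only [I0, Del]
  linear_combination ((1 + q₁) * (u + d)) * P.h1 + (q₁ * q₂ - q₁ - u) * P.h2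

/-- The sum formula for `κ` in terms of `Σ₁ = ∑_{i<m} G_{i+1}`, even case. -/
theorem RepPar.kappa_even' (P : RepPar q₁ q₂ u a b d) (m : ℕ) :
    kappa q₁ q₂ a b d (2 * m) =
      (1 + q₁) * (Gs u (q₁ * q₂) d 0 - Gs u (q₁ * q₂) d m) +
        (1 + q₁) ^ 2 / q₁ * ∑ i ∈ range m, Gs u (q₁ * q₂) d (i + 1) := by
  rw [P.kappa_even m, sum_add_distrib, ← mul_sum, ← mul_sum, Gs_shift]
  have hq₁ := P.hq₁
  field_simp
  ring

theorem RepPar.kappa_mul_even (P : RepPar q₁ q₂ u a b d) (m : ℕ)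
    (hs : luc u (q₁ * q₂) m = 0) :
    kappa q₁ q₂ a b d (2 * m) * (4 * (q₁ * q₂) - u ^ 2) = ((2 * m : ℕ) : ℂ) * Del q₁ q₂ u := by
  have hQ : q₁ * q₂ ≠ 0 := mul_ne_zero P.hq₁ P.hq₂
  have hq₁ := P.hq₁
  set Q := q₁ * q₂ with hQdef
  have hQm : Q ^ m ≠ 0 := pow_ne_zero _ hQ
  have hinv := inv_luc u Q m
  rw [hs] at hinv
  have hinv' : luc u Q (m + 1) ^ 2 = Q ^ m := by linear_combination hinv
  have hGm : Gs u Q d m = 1 := by
    simp only [Gs, tau, hs, mul_zero, add_zero, hinv']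
    exact div_self hQm
  have hGm1 : Gs u Q d (m + 1) = Gs u Q d 1 := by
    rw [Gs_one]
    simp only [Gs, tau, luc_succ_succ, hs, mul_zero, sub_zero]
    rw [pow_succ Q m]
    field_simp
    linear_combination ((u + d) ^ 2) * hinv'
  have htel := Gs_telescope u Q d hQ m
  rw [hGm, hGm1, Gs_zero] at htel
  rw [P.kappa_even' m, hGm, Gs_zero, sub_self, mul_zero, zero_add, mul_assoc, mul_comm _ (4 * Q - u ^ 2),
    htel]
  have hI := P.I0_eq
  rw [← hQdef] at hI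
  push_cast
  field_simp
  linear_combination (2 * (m : ℂ)) * hI

/-- The sum formula for `κ`, odd case. -/
theorem RepPar.kappa_odd' (P : RepPar q₁ q₂ u a b d) (m : ℕ) :
    kappa q₁ q₂ a b d (2 * m + 1) =
      (1 + q₁) * Gs u (q₁ * q₂) d 0 +
        (1 + q₁) ^ 2 / q₁ * ∑ i ∈ range m, Gs u (q₁ * q₂) d (i + 1) := by
  rw [P.kappa_odd m, sum_add_distrib, ← mul_sum, ← mul_sum, Gs_shift]
  have hq₁ := P.hq₁
  field_simp
  ring

theorem RepPar.kappa_mul_odd (P : RepPar q₁ q₁ u a b d) (m : ℕ)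
    (hs : luc u (q₁ * q₁) (m + 1) = -q₁ * luc u (q₁ * q₁) m) :
    kappa q₁ q₁ a b d (2 * m + 1) * (4 * (q₁ * q₁) - u ^ 2) =
      ((2 * m + 1 : ℕ) : ℂ) * Del q₁ q₁ u := by
  have hQ : q₁ * q₁ ≠ 0 := mul_ne_zero P.hq₁ P.hq₁
  have hq₁ := P.hq₁
  have hq₁' := P.hq₁'
  set Q := q₁ * q₁ with hQdef
  have hQm : Q ^ m ≠ 0 := pow_ne_zero _ hQ
  set s := luc u Q m with hsdef
  have hinv := inv_luc u Q m
  rw [hs, ← hsdef] at hinv
  -- s² q (2q + u) = Q^m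
  have hinv' : s ^ 2 * (q₁ * (2 * q₁ + u)) = Q ^ m := by
    rw [hQdef] at hinv ⊢
    linear_combination hinv
  have hs0 : s ≠ 0 := by
    intro h0
    rw [h0] at hinv'
    apply hQm
    rw [← hinv']; ring
  have hu0 : 2 * q₁ + u ≠ 0 := by
    intro h0
    rw [h0] at hinv'
    apply hQm
    rw [← hinv']; ring
  have h1 := P.h1
  have h2 := P.h2
  -- (1+q)(d - q) = -(u + 2q)
  have hdq : (1 + q₁) * (d - q₁) = -(2 * q₁ + u) := by linear_combination h1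
  have htm : tau u Q d m = (d - q₁) * s := by
    simp only [tau, hs, ← hsdef]; ring
  have htm1 : tau u Q d (m + 1) = q₁ ^ 2 * tau u Q d m := by
    rw [htm]
    simp only [tau, luc_succ_succ, hs, ← hsdef]
    apply mul_left_cancel₀ hq₁'
    rw [hQdef]
    linear_combination (-q₁ * s) * h1 - q₁ ^ 2 * s * hdq
  set X := Gs u Q d m with hX
  have hXeq : (1 + q₁) ^ 2 * q₁ * X = 2 * q₁ + u := by
    have e1 : X * Q ^ m = ((d - q₁) * s) ^ 2 := by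
      rw [hX, Gs, htm]; field_simp
    have e2 : (1 + q₁) ^ 2 * X * Q ^ m = (2 * q₁ + u) ^ 2 * s ^ 2 := by
      have : ((1 + q₁) * (d - q₁)) ^ 2 = (2 * q₁ + u) ^ 2 := by rw [hdq]; ring
      linear_combination (1 + q₁) ^ 2 * e1 + s ^ 2 * this
    rw [← hinv'] at e2
    have e3 : (s ^ 2 * (2 * q₁ + u)) * ((1 + q₁) ^ 2 * q₁ * X) = (s ^ 2 * (2 * q₁ + u)) * (2 * q₁ + u) := by
      linear_combination e2
    exact mul_left_cancel₀ (mul_ne_zero (pow_ne_zero 2 hs0) hu0) e3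
  have hGm1 : Gs u Q d (m + 1) = Q * X := by
    rw [hX]
    simp only [Gs, htm1]
    rw [pow_succ Q m, hQdef]
    field_simp
  have htel := Gs_telescope u Q d hQ m
  rw [hGm1, Gs_zero, Gs_one] at htel
  have hkap := P.kappa_odd' m
  rw [← hQdef, Gs_zero] at hkap
  rw [hkap]
  generalize (∑ i ∈ range m, Gs u Q d (i + 1)) = S at htel ⊢
  have htel' : (4 * Q - u ^ 2) * S =
      2 * I0 u Q d * m + ((u + d) ^ 2 - Q) + Q * (1 - Q) * X := by
    rw [htel]; field_simp; ring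
  have hI := P.I0_eq
  rw [← hQdef] at hI
  simp only [I0] at hI htel'
  have e : q₁ * ((1 + q₁) ^ 2 / q₁) = (1 + q₁) ^ 2 := by field_simp
  apply mul_left_cancel₀ hq₁
  push_cast
  simp only [hQdef] at htel' hI ⊢
  linear_combination (1 + q₁) ^ 2 * htel' + (2 * (m : ℂ) + 1) * hI + ((1 + q₁) * u) * h2 +
    (q₁ * (1 - q₁ * q₁)) * hXeq + (S * (4 * (q₁ * q₁) - u ^ 2)) * e

end

end Cfsg.Agent.Lib.Helper3.FH
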