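import Mathlib
import Cfsg.Agent.Lib.Helper3.FHA4

set_option autoImplicit false

/-!
Feit–Higman, part A5: the abstract integrality statement.
-/

namespace Cfsg.Agent.Lib.Helper3.FH

open Finset

/-- The integrality conclusion for the parameter `u`. -/
def Adm (n : ℕ) (q₁ q₂ : ℂ) (N : ℕ) (u : ℂ) : Prop :=
  ∃ mm : ℕ, mm ≠ 0 ∧ (mm : ℂ) * ((n : ℂ) * Del q₁ q₂ u) = (N : ℂ) * (4 * (q₁ * q₂) - u ^ 2)

theorem exists_repPar (q₁ q₂ u : ℂ) (hq₁ : q₁ ≠ 0) (hq₂ : q₂ ≠ 0) (hq₁' : 1 + q₁ ≠ 0) :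
    ∃ a b d : ℂ, RepPar q₁ q₂ u a b d := by
  have hq : q₁ + 1 ≠ 0 := by rwa [add_comm]
  set a : ℂ := (u + q₂ - 1) / (q₁ + 1) with ha
  set d : ℂ := q₂ - 1 - a with hd
  obtain ⟨b, hb⟩ := IsAlgClosed.exists_eq_mul_self (a * d + q₂)
  refine ⟨a, b, d, hq₁, hq₂, hq₁', ?_, ?_, hb.symm⟩
  · rw [ha]; field_simp
  · rw [hd]; ring

section

variable {q₁ q₂ u a b d : ℂ}

theorem RepPar.tau_odd (P : RepPar q₁ q₁ u a b d) (m : ℕ)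
    (hs : luc u (q₁ * q₁) (m + 1) = -q₁ * luc u (q₁ * q₁) m) :
    tau u (q₁ * q₁) d m = (d - q₁) * luc u (q₁ * q₁) m ∧
      tau u (q₁ * q₁) d (m + 1) = q₁ ^ 2 * tau u (q₁ * q₁) d m := by
  have h1 := P.h1
  have hdq : (1 + q₁) * (d - q₁) = -(2 * q₁ + u) := by linear_combination h1
  have htm : tau u (q₁ * q₁) d m = (d - q₁) * luc u (q₁ * q₁) m := by
    simp only [tau, hs]; ring
  refine ⟨htm, ?_⟩
  rw [htm]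
  simp only [tau, luc_succ_succ, hs]
  apply mul_left_cancel₀ P.hq₁'
  linear_combination (-q₁ * luc u (q₁ * q₁) m) * h1 - q₁ ^ 2 * luc u (q₁ * q₁) m * hdq

end

section Mat

variable {ι : Type*} [Fintype ι] [DecidableEq ι]
variable {e A₁ A₂ : Matrix ι ι ℂ} {q₁ q₂ : ℂ}

theorem HRel.fh_even (H : HRel e A₁ A₂ q₁ q₂) (hq₁ : q₁ ≠ 0) (hq₁' : 1 + q₁ ≠ 0) (hq₂ : q₂ ≠ 0)
    (m : ℕ) (hm : 1 ≤ m) (hL : (altU e A₁ A₂ (2 * m)).1 = (altU e A₁ A₂ (2 * m)).2)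
    (N : ℕ) (hN0 : N ≠ 0) (hN : e.trace = (N : ℂ))
    (htr : ∀ k, 1 ≤ k → k ≤ 2 * m →
      (altU e A₁ A₂ k).1.trace = 0 ∧ (altU e A₁ A₂ k).2.trace = 0)
    (u : ℂ) (hs : luc u (q₁ * q₂) m = 0) : Adm (2 * m) q₁ q₂ N u := by
  obtain ⟨a, b, d, P⟩ := exists_repPar q₁ q₂ u hq₁ hq₂ hq₁'
  have T : TopHyp e A₁ A₂ q₁ q₂ a b d (2 * m) := by
    refine ⟨hL, ?_, ?_, ?_⟩
    · rw [(P.vseq_eq m).1]
    · rw [(P.vseq_eq m).1]; simp only [hs]; ring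
    · rw [(qseq_eq q₁ q₂ m).1]
  obtain ⟨mm, hmm, hk⟩ := H.exists_nat T hq₁ hq₁' hq₂ P.had P.hb (by omega) N hN0 hN htr
  refine ⟨mm, hmm, ?_⟩
  rw [← P.kappa_mul_even m hs, ← hk]
  ring

theorem HRel.fh_odd (H : HRel e A₁ A₂ q₁ q₁) (hq₁ : q₁ ≠ 0) (hq₁' : 1 + q₁ ≠ 0)
    (m : ℕ) (hL : (altU e A₁ A₂ (2 * m + 1)).1 = (altU e A₁ A₂ (2 * m + 1)).2)
    (N : ℕ) (hN0 : N ≠ 0) (hN : e.trace = (N : ℂ))
    (htr : ∀ k, 1 ≤ k → k ≤ 2 * m + 1 →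
      (altU e A₁ A₂ k).1.trace = 0 ∧ (altU e A₁ A₂ k).2.trace = 0)
    (u : ℂ) (hs : luc u (q₁ * q₁) (m + 1) = -q₁ * luc u (q₁ * q₁) m) :
    Adm (2 * m + 1) q₁ q₁ N u := by
  obtain ⟨a, b, d, P⟩ := exists_repPar q₁ q₁ u hq₁ hq₁ hq₁'
  obtain ⟨ht1, ht2⟩ := P.tau_odd m hs
  have T : TopHyp e A₁ A₂ q₁ q₁ a b d (2 * m + 1) := by
    refine ⟨hL, ?_, ?_, ?_⟩
    · rw [(P.vseq_eq m).2]
      simp only
      rw [ht2]; field_simp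
    · rw [(P.vseq_eq m).2]
      simp only
      rw [ht1]; ring
    · rw [(qseq_eq q₁ q₁ m).2]
  obtain ⟨mm, hmm, hk⟩ := H.exists_nat T hq₁ hq₁' hq₁ P.had P.hb (by omega) N hN0 hN htr
  refine ⟨mm, hmm, ?_⟩
  rw [← P.kappa_mul_odd m hs, ← hk]
  ring

end Mat

end Cfsg.Agent.Lib.Helper3.FH
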