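import Mathlib
import Cfsg.Agent.Lib.Helper1.Tits2

set_option autoImplicit false
set_option linter.unusedSectionVars false

/-!
Feit–Higman, part B1: matrices indexed by a finite group attached to subsets, and their products.
-/

namespace Cfsg.Agent.Lib.Helper3.FH

open Cfsg.Agent.Lib.Helper1

open scoped Classical in
/-- The matrix `c · [g⁻¹ h ∈ Y]`. -/
noncomputable def smat {G : Type*} [Group G] (c : ℂ) (Y : Set G) : Matrix G G ℂ :=
  fun g h => if g⁻¹ * h ∈ Y then c else 0

open scoped Classical in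
/-- The number of `y ∈ Y` with `y⁻¹ z ∈ Z`. -/
noncomputable def cnt {G : Type*} [Group G] [Fintype G] (Y Z : Set G) (z : G) : ℕ :=
  (Finset.univ.filter fun y : G => y ∈ Y ∧ y⁻¹ * z ∈ Z).card

open scoped Classical in
theorem smat_apply {G : Type*} [Group G] (c : ℂ) (Y : Set G) (g h : G) :
    smat c Y g h = if g⁻¹ * h ∈ Y then c else 0 := rfl

section

variable {G : Type*} [Group G] [Fintype G]

open scoped Classical in
theorem smat_mul (c : ℂ) (Y Z : Set G) (g h : G) :
    (smat c Y * smat c Z) g h = c * c * (cnt Y Z (g⁻¹ * h) : ℂ) := by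
  rw [Matrix.mul_apply]
  have h1 : ∀ k : G, smat c Y g k * smat c Z k h =
      if (g⁻¹ * k ∈ Y ∧ k⁻¹ * h ∈ Z) then c * c else 0 := by
    intro k
    rw [smat_apply, smat_apply]
    by_cases h1 : g⁻¹ * k ∈ Y <;> by_cases h2 : k⁻¹ * h ∈ Z <;> simp [h1, h2]
  simp_rw [h1]
  rw [← Fintype.sum_equiv (Equiv.mulLeft g) (fun y => if (y ∈ Y ∧ y⁻¹ * (g⁻¹ * h) ∈ Z) then c * c else 0)
    (fun k => if (g⁻¹ * k ∈ Y ∧ k⁻¹ * h ∈ Z) then c * c else 0)]
  · rw [Finset.sum_ite, Finset.sum_const_zero, add_zero, Finset.sum_const, nsmul_eq_mul, cnt]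
    ring
  · intro y
    simp only [Equiv.coe_mulLeft, inv_mul_cancel_left, mul_inv_rev, mul_assoc]

open scoped Classical in
theorem smat_union (c : ℂ) (Y Z : Set G) (hdisj : ∀ g, g ∈ Y → g ∉ Z) :
    smat c (Y ∪ Z) = smat c Y + smat c Z := by
  ext g h
  rw [Matrix.add_apply, smat_apply, smat_apply, smat_apply]
  simp only [Set.mem_union]
  by_cases h1 : g⁻¹ * h ∈ Y
  · have h2 := hdisj _ h1
    simp [h1, h2]
  · simp [h1]

open scoped Classical in
/-- A left coset of a subgroup has as many elements as the subgroup. -/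
theorem card_coset (B : Subgroup G) (z₀ : G) :
    (Finset.univ.filter fun y : G => z₀⁻¹ * y ∈ B).card = Nat.card B := by
  rw [Nat.card_eq_fintype_card, ← Fintype.card_subtype]
  apply Fintype.card_congr
  exact
    { toFun := fun y => ⟨z₀⁻¹ * y.1, y.2⟩
      invFun := fun b => ⟨z₀ * b.1, by simp⟩
      left_inv := fun y => by simp
      right_inv := fun b => by simp }

open scoped Classical in
theorem cnt_subgroup (P : Subgroup G) (z : G) :
    cnt (P : Set G) (P : Set G) z = if z ∈ P then Nat.card P else 0 := by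
  unfold cnt
  by_cases hz : z ∈ P
  · rw [if_pos hz]
    have : (Finset.univ.filter fun y : G => y ∈ (P : Set G) ∧ y⁻¹ * z ∈ (P : Set G)) =
        Finset.univ.filter fun y : G => (1 : G)⁻¹ * y ∈ P := by
      ext y
      simp only [Finset.mem_filter, Finset.mem_univ, true_and, SetLike.mem_coe, inv_one, one_mul]
      constructor
      · exact fun h => h.1
      · exact fun h => ⟨h, P.mul_mem (P.inv_mem h) hz⟩
    rw [this, card_coset]
  · rw [if_neg hz]
    rw [Finset.card_eq_zero, Finset.filter_eq_empty_iff]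
    rintro y _ ⟨h1, h2⟩
    apply hz
    have := P.mul_mem h1 h2
    rwa [mul_inv_cancel_left] at this

open scoped Classical in
theorem smat_trace (c : ℂ) (Y : Set G) :
    (smat c Y).trace = if (1 : G) ∈ Y then (Fintype.card G : ℂ) * c else 0 := by
  unfold Matrix.trace
  simp only [Matrix.diag_apply, smat_apply, inv_mul_cancel]
  by_cases h : (1 : G) ∈ Y
  · simp [h]
  · simp [h]

end

end Cfsg.Agent.Lib.Helper3.FH
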