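import Mathlib
import Cfsg.Agent.Lib.Helper3.FHB1

set_option autoImplicit false
set_option linter.unusedSectionVars false

/-!
Feit–Higman, part B2: products of the double-coset matrices of a Tits system.
-/

namespace Cfsg.Agent.Lib.Helper3.FH

open Cfsg.Agent.Lib.Helper1

section

variable {G W : Type*} [Group G] [Group W] (D : TitsData G W)

theorem mul_sub_of_le_right {s : W} (hs : s ∈ D.S) {w : W}
    (hle : wlen D.S w ≤ wlen D.S (w * s)) {x y : G} (hx : x ∈ D.C w) (hy : y ∈ D.C s) :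
    x * y ∈ D.C (w * s) := by
  have hsinv : s⁻¹ = s := D.S_invol.inv_eq hs
  have hy' : y⁻¹ ∈ D.C s := D.inv_mem_C hs hy
  have hx' : x⁻¹ ∈ D.C w⁻¹ := D.C_inv w x hx
  have hle' : wlen D.S w⁻¹ ≤ wlen D.S (s * w⁻¹) := by
    rw [wlen_inv D.S_invol (D.mem_closure w)]
    have : s * w⁻¹ = (w * s)⁻¹ := by rw [mul_inv_rev, hsinv]
    rw [this, wlen_inv D.S_invol (D.mem_closure (w * s))]
    exact hle
  have h1 := D.mul_sub_of_le hs hle' hy' hx'
  have h2 := D.C_inv _ _ h1
  have e1 : (y⁻¹ * x⁻¹)⁻¹ = x * y := by group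
  have e2 : (s * w⁻¹)⁻¹ = w * s := by rw [mul_inv_rev, inv_inv, hsinv]
  rwa [e1, e2] at h2

variable [Fintype G]

open scoped Classical in
theorem cnt_right_one (w : W) (z : G) :
    cnt (D.C w) (D.C 1) z = if z ∈ D.C w then Nat.card D.B else 0 := by
  unfold cnt
  by_cases hz : z ∈ D.C w
  · rw [if_pos hz, ← card_coset D.B z]
    congr 1
    ext y
    simp only [Finset.mem_filter, Finset.mem_univ, true_and]
    constructor
    · rintro ⟨_, h2⟩
      rw [D.mem_C_one] at h2
      have := D.B.inv_mem h2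
      rwa [mul_inv_rev, inv_inv] at this
    · intro h
      have hy : y = z * (z⁻¹ * y) := by group
      refine ⟨?_, ?_⟩
      · rw [hy]; exact D.right_mul_mem_C hz h
      · rw [D.mem_C_one]
        have := D.B.inv_mem h
        rwa [mul_inv_rev, inv_inv] at this
  · rw [if_neg hz, Finset.card_eq_zero, Finset.filter_eq_empty_iff]
    rintro y _ ⟨h1, h2⟩
    apply hz
    rw [D.mem_C_one] at h2
    have := D.right_mul_mem_C h1 h2
    rwa [mul_inv_cancel_left] at this

open scoped Classical in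
theorem cnt_left_one (w : W) (z : G) :
    cnt (D.C 1) (D.C w) z = if z ∈ D.C w then Nat.card D.B else 0 := by
  unfold cnt
  by_cases hz : z ∈ D.C w
  · rw [if_pos hz, ← card_coset D.B 1]
    congr 1
    ext y
    simp only [Finset.mem_filter, Finset.mem_univ, true_and, inv_one, one_mul]
    constructor
    · rintro ⟨h1, _⟩
      rwa [D.mem_C_one] at h1
    · intro h
      exact ⟨(D.mem_C_one).2 h, D.left_mul_mem_C hz (D.B.inv_mem h)⟩
  · rw [if_neg hz, Finset.card_eq_zero, Finset.filter_eq_empty_iff]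
    rintro y _ ⟨h1, h2⟩
    apply hz
    rw [D.mem_C_one] at h1
    have := D.left_mul_mem_C h2 h1
    rwa [mul_inv_cancel_left] at this

open scoped Classical in
theorem cnt_mul {s : W} (hs : s ∈ D.S) {w : W} (hle : wlen D.S w ≤ wlen D.S (w * s)) (z : G) :
    cnt (D.C w) (D.C s) z = if z ∈ D.C (w * s) then Nat.card D.B else 0 := by
  unfold cnt
  by_cases hz : z ∈ D.C (w * s)
  · rw [if_pos hz]
    obtain ⟨y₀, hy₀, z₀, hz₀, rfl⟩ := D.exists_mul_of_mem hz
    rw [← card_coset D.B y₀]
    congr 1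
    ext y
    simp only [Finset.mem_filter, Finset.mem_univ, true_and]
    constructor
    · rintro ⟨h1, h2⟩
      -- t = y₀⁻¹ y = z₀ (y⁻¹ (y₀ z₀))⁻¹ ∈ C s * C s
      have ht : y₀⁻¹ * y = z₀ * (y⁻¹ * (y₀ * z₀))⁻¹ := by group
      have h3 : (y⁻¹ * (y₀ * z₀))⁻¹ ∈ D.C s := D.inv_mem_C hs h2
      have h4 := D.mul_sub s hs s z₀ hz₀ _ h3
      rw [← ht, D.S_invol s hs] at h4
      rcases h4 with h4 | h4
      · exact (D.mem_C_one).1 h4
      · exfalso
        have h5 := mul_sub_of_le_right D hs hle hy₀ h4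
        rw [mul_inv_cancel_left] at h5
        have h6 := D.eq_of_mem_of_mem h1 h5
        have : s = 1 := by
          have : w * 1 = w * s := by rw [mul_one]; exact h6
          exact (mul_left_cancel this).symm
        exact D.ne_one_of_mem_S hs this
    · intro h
      have hy : y = y₀ * (y₀⁻¹ * y) := by group
      refine ⟨?_, ?_⟩
      · rw [hy]; exact D.right_mul_mem_C hy₀ h
      · have e : y⁻¹ * (y₀ * z₀) = (y₀⁻¹ * y)⁻¹ * z₀ := by group
        rw [e]
        exact D.left_mul_mem_C hz₀ (D.B.inv_mem h)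
  · rw [if_neg hz, Finset.card_eq_zero, Finset.filter_eq_empty_iff]
    rintro y _ ⟨h1, h2⟩
    apply hz
    have := mul_sub_of_le_right D hs hle h1 h2
    rwa [mul_inv_cancel_left] at this

/-- The double-coset matrix of `w`. -/
noncomputable def hmat (w : W) : Matrix G G ℂ := smat ((Nat.card D.B : ℂ))⁻¹ (D.C w)

theorem card_B_ne_zero : (Nat.card D.B : ℂ) ≠ 0 := by
  have : Nat.card D.B ≠ 0 := Nat.card_pos.ne'
  exact_mod_cast this

open scoped Classical in
theorem hmat_mul_of_cnt (w w' w'' : W)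
    (h : ∀ z, cnt (D.C w) (D.C w') z = if z ∈ D.C w'' then Nat.card D.B else 0) :
    hmat D w * hmat D w' = hmat D w'' := by
  ext g k
  unfold hmat
  rw [smat_mul, h, smat_apply]
  have hB := card_B_ne_zero D
  by_cases hz : g⁻¹ * k ∈ D.C w''
  · rw [if_pos hz, if_pos hz]; field_simp
  · rw [if_neg hz, if_neg hz]; simp

theorem hmat_mul_one (w : W) : hmat D w * hmat D 1 = hmat D w :=
  hmat_mul_of_cnt D w 1 w (cnt_right_one D w)

theorem one_mul_hmat (w : W) : hmat D 1 * hmat D w = hmat D w :=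
  hmat_mul_of_cnt D 1 w w (cnt_left_one D w)

theorem hmat_mul_gen {s : W} (hs : s ∈ D.S) {w : W} (hle : wlen D.S w ≤ wlen D.S (w * s)) :
    hmat D w * hmat D s = hmat D (w * s) :=
  hmat_mul_of_cnt D w s (w * s) (cnt_mul D hs hle)

open scoped Classical in
theorem hmat_trace (w : W) :
    (hmat D w).trace = if w = 1 then (D.B.index : ℂ) else 0 := by
  unfold hmat
  rw [smat_trace]
  by_cases hw : w = 1
  · subst hw
    rw [if_pos ((D.mem_C_one).2 D.B.one_mem), if_pos rfl]
    have h := D.B.card_mul_index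
    rw [Nat.card_eq_fintype_card (α := G)] at h
    rw [← h]
    push_cast
    have hB := card_B_ne_zero D
    field_simp
  · rw [if_neg hw, if_neg]
    intro h1
    exact hw (D.one_mem w h1)

end

end Cfsg.Agent.Lib.Helper3.FH
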