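import Mathlib
import Cfsg.Agent.Lib.Helper3.FHB2

set_option autoImplicit false
set_option linter.unusedSectionVars false

/-!
Feit–Higman, part B3: the quadratic relation and row sums.
-/

namespace Cfsg.Agent.Lib.Helper3.FH

open Cfsg.Agent.Lib.Helper1

/-- Constant row sums. -/
def RowSum {G : Type*} [Fintype G] (M : Matrix G G ℂ) (m : ℂ) : Prop := ∀ g, ∑ h, M g h = m

theorem RowSum.mul {G : Type*} [Fintype G] {M M' : Matrix G G ℂ} {m m' : ℂ}
    (h : RowSum M m) (h' : RowSum M' m') : RowSum (M * M') (m * m') := by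
  intro g
  calc ∑ k, (M * M') g k = ∑ k, ∑ j, M g j * M' j k := by simp only [Matrix.mul_apply]
    _ = ∑ j, ∑ k, M g j * M' j k := Finset.sum_comm
    _ = ∑ j, M g j * m' := by
        refine Finset.sum_congr rfl fun j _ => ?_
        rw [← Finset.mul_sum, h' j]
    _ = m * m' := by rw [← Finset.sum_mul, h g]

open scoped Classical in
theorem rowSum_smat_subgroup {G : Type*} [Group G] [Fintype G] (c : ℂ) (P : Subgroup G) :
    RowSum (smat c (P : Set G)) (c * (Nat.card P : ℂ)) := by
  intro g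
  simp only [smat_apply, SetLike.mem_coe]
  rw [Finset.sum_ite, Finset.sum_const_zero, add_zero, Finset.sum_const, nsmul_eq_mul,
    card_coset P g]
  ring

section

variable {G W : Type*} [Group G] [Group W] (D : TitsData G W)

theorem mem_closure_singleton_invol {s : W} (hs : s * s = 1) {w : W}
    (hw : w ∈ Subgroup.closure ({s} : Set W)) : w = 1 ∨ w = s := by
  obtain ⟨k, rfl⟩ := Subgroup.mem_closure_singleton.1 hw
  rcases Int.even_or_odd' k with ⟨j, hj | hj⟩
  · left
    rw [hj, zpow_mul, zpow_two, hs, one_zpow]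
  · right
    rw [hj, zpow_add, zpow_mul, zpow_two, hs, one_zpow, one_mul, zpow_one]

theorem par_singleton_coe {s : W} (hs : s ∈ D.S) :
    ((D.par {s} (Set.singleton_subset_iff.2 hs) : Subgroup G) : Set G) = D.C 1 ∪ D.C s := by
  ext g
  simp only [SetLike.mem_coe, Set.mem_union]
  rw [D.mem_par]
  constructor
  · rintro ⟨w, hw, hg⟩
    rcases mem_closure_singleton_invol (D.S_invol s hs) hw with rfl | rfl
    · exact Or.inl hg
    · exact Or.inr hg
  · rintro (hg | hg)
    · exact ⟨1, Subgroup.one_mem _, hg⟩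
    · exact ⟨s, Subgroup.subset_closure rfl, hg⟩

variable [Fintype G]

theorem rowSum_hmat_one : RowSum (hmat D 1) 1 := by
  have h := rowSum_smat_subgroup ((Nat.card D.B : ℂ))⁻¹ D.B
  have hB := card_B_ne_zero D
  rw [inv_mul_cancel₀ hB] at h
  unfold hmat
  rw [D.C_one]
  exact h

open scoped Classical in
/-- The quadratic relation. -/
theorem hmat_sq {s : W} (hs : s ∈ D.S) :
    ∃ q : ℕ, 2 ≤ q ∧
      hmat D s * hmat D s = (q : ℂ) • hmat D 1 + ((q : ℂ) - 1) • hmat D s ∧
      RowSum (hmat D s) (q : ℂ) := by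
  set P := D.par {s} (Set.singleton_subset_iff.2 hs) with hP
  have hBP : D.B ≤ P := D.B_le_par _
  obtain ⟨k, hk⟩ := Subgroup.card_dvd_of_le hBP
  have hB := card_B_ne_zero D
  set c : ℂ := ((Nat.card D.B : ℂ))⁻¹ with hc
  set E := hmat D 1 with hE
  set A := hmat D s with hA
  have hdisj : ∀ g, g ∈ D.C 1 → g ∉ D.C s := by
    intro g h1 h2
    exact D.ne_one_of_mem_S hs (D.eq_of_mem_of_mem h1 h2).symm
  have hsum : smat c (P : Set G) = E + A := by
    rw [par_singleton_coe D hs, smat_union c _ _ hdisj]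
    rfl
  have hck : c * (Nat.card P : ℂ) = k := by
    rw [hk, hc]; push_cast; field_simp
  have hPP : smat c (P : Set G) * smat c (P : Set G) = (k : ℂ) • smat c (P : Set G) := by
    ext g h
    rw [smat_mul, cnt_subgroup, Matrix.smul_apply, smat_apply, smul_eq_mul]
    by_cases hz : g⁻¹ * h ∈ P
    · rw [if_pos hz, if_pos (show g⁻¹ * h ∈ (P : Set G) from hz), ← hck]; ring
    · rw [if_neg hz, if_neg (show ¬ g⁻¹ * h ∈ (P : Set G) from hz)]; simp
  rw [hsum] at hPP
  have hEE : E * E = E := hmat_mul_one D 1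
  have hEA : E * A = A := one_mul_hmat D s
  have hAE : A * E = A := hmat_mul_one D s
  have hAA : A * A = ((k : ℂ) - 1) • E + ((k : ℂ) - 2) • A := by
    have h1 : (E + A) * (E + A) = E + A + A + A * A := by
      rw [add_mul, mul_add, mul_add, hEE, hEA, hAE]; abel
    rw [h1] at hPP
    have h2 : A * A = (k : ℂ) • (E + A) - (E + A + A) := by
      rw [← hPP]; abel
    rw [h2]; module
  -- k ≥ 3
  obtain ⟨x, hx, y, hy, hxy⟩ := D.rank_one hs
  have hcnt : 0 < cnt (D.C s) (D.C s) ((1 : G)⁻¹ * (x * y)) := by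
    unfold cnt
    apply Finset.card_pos.2
    refine ⟨x, ?_⟩
    simp only [Finset.mem_filter, Finset.mem_univ, true_and, inv_one, one_mul]
    refine ⟨hx, ?_⟩
    rwa [inv_mul_cancel_left]
  have hentry := congrFun (congrFun hAA 1) (x * y)
  rw [hA] at hentry
  unfold hmat at hentry
  rw [smat_mul] at hentry
  simp only [Matrix.add_apply, Matrix.smul_apply, smul_eq_mul] at hentry
  rw [hE] at hentry
  unfold hmat at hentry
  rw [smat_apply, smat_apply] at hentry
  have hxy1 : ¬ ((1 : G)⁻¹ * (x * y) ∈ D.C 1) := by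
    rw [inv_one, one_mul]; exact fun h => hdisj _ h hxy
  have hxy2 : (1 : G)⁻¹ * (x * y) ∈ D.C s := by rw [inv_one, one_mul]; exact hxy
  rw [if_neg hxy1, if_pos hxy2, ← hc] at hentry
  set n' := cnt (D.C s) (D.C s) ((1 : G)⁻¹ * (x * y)) with hn'
  have hk3 : 3 ≤ k := by
    have h1 : (k : ℂ) * (Nat.card D.B : ℂ) = 2 * (Nat.card D.B : ℂ) + n' := by
      have hc' : c * (Nat.card D.B : ℂ) = 1 := by rw [hc]; exact inv_mul_cancel₀ hB
      have hc0 : c ≠ 0 := by rw [hc]; exact inv_ne_zero hB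
      have h2 : c * c * (n' : ℂ) = ((k : ℂ) - 2) * c := by
        rw [hentry]; ring
      have h3 : c * (n' : ℂ) = (k : ℂ) - 2 := by
        apply mul_left_cancel₀ hc0
        rw [← mul_assoc, h2]; ring
      have h4 : (n' : ℂ) = ((k : ℂ) - 2) * (Nat.card D.B : ℂ) := by
        calc (n' : ℂ) = (c * (Nat.card D.B : ℂ)) * (n' : ℂ) := by rw [hc', one_mul]
          _ = (c * (n' : ℂ)) * (Nat.card D.B : ℂ) := by ring
          _ = _ := by rw [h3]
      rw [h4]; ring
    have h1' : k * Nat.card D.B = 2 * Nat.card D.B + n' := by exact_mod_cast h1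
    by_contra hlt
    push Not at hlt
    have : k * Nat.card D.B ≤ 2 * Nat.card D.B := Nat.mul_le_mul_right _ (by omega)
    omega
  refine ⟨k - 1, by omega, ?_, ?_⟩
  · rw [hAA]
    have e1 : ((k - 1 : ℕ) : ℂ) = (k : ℂ) - 1 := by
      rw [Nat.cast_sub (by omega)]; simp
    rw [e1]
    module
  · intro g
    have h1 := rowSum_smat_subgroup c P g
    rw [hsum, hck] at h1
    simp only [Matrix.add_apply, Finset.sum_add_distrib] at h1
    have h2 := rowSum_hmat_one D g
    rw [← hE] at h2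
    rw [h2] at h1
    have e1 : ((k - 1 : ℕ) : ℂ) = (k : ℂ) - 1 := by
      rw [Nat.cast_sub (by omega)]; simp
    rw [e1]
    linear_combination h1

end

end Cfsg.Agent.Lib.Helper3.FH
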