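import Mathlib
import Cfsg.Agent.Lib.Helper3.FHA5

set_option autoImplicit false

/-!
Feit–Higman, part N1: the admissible parameters `u = r (ζ + ζ⁻¹)`, and number-theoretic helpers.
-/

namespace Cfsg.Agent.Lib.Helper3.FH

open Polynomial

theorem luc_closed (μ μ' : ℂ) (k : ℕ) :
    luc (μ + μ') (μ * μ') k * (μ - μ') = μ ^ k - μ' ^ k ∧
      luc (μ + μ') (μ * μ') (k + 1) * (μ - μ') = μ ^ (k + 1) - μ' ^ (k + 1) := by
  induction k with
  | zero => simp [luc]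
  | succ k ih =>
    refine ⟨ih.2, ?_⟩
    rw [luc_succ_succ]
    linear_combination (μ + μ') * ih.2 - (μ * μ') * ih.1

/-- Even case: `ζ ^ (2m) = 1`, `ζ² ≠ 1`, `r² = Q ≠ 0` give an admissible `u`. -/
theorem luc_even_zero (Q r ζ : ℂ) (m : ℕ) (hm : 1 ≤ m) (hr : r * r = Q) (hQ : Q ≠ 0)
    (hζ : ζ ^ (2 * m) = 1) (hζ2 : ζ ^ 2 ≠ 1) : luc (r * (ζ + ζ⁻¹)) Q m = 0 := by
  have hr0 : r ≠ 0 := by rintro rfl; exact hQ (by rw [← hr]; ring)
  have hζ0 : ζ ≠ 0 := by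
    rintro rfl
    have hm' : 2 * m ≠ 0 := by omega
    rw [zero_pow hm'] at hζ; exact zero_ne_one hζ
  have h := (luc_closed (r * ζ) (r * ζ⁻¹) m).1
  have e1 : r * ζ + r * ζ⁻¹ = r * (ζ + ζ⁻¹) := by ring
  have e2 : r * ζ * (r * ζ⁻¹) = Q := by rw [← hr]; field_simp
  rw [e1, e2] at h
  have hne : r * ζ - r * ζ⁻¹ ≠ 0 := by
    intro h0
    apply hζ2
    have : r * (ζ ^ 2 - 1) = 0 := by
      have : (r * ζ - r * ζ⁻¹) * ζ = r * (ζ ^ 2 - 1) := by field_simp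
      rw [← this, h0, zero_mul]
    rcases mul_eq_zero.1 this with h1 | h1
    · exact absurd h1 hr0
    · linear_combination h1
  have hz : (r * ζ) ^ m - (r * ζ⁻¹) ^ m = 0 := by
    rw [mul_pow, mul_pow, inv_pow]
    have : ζ ^ m = (ζ ^ m)⁻¹ := by
      apply eq_inv_of_mul_eq_one_left
      rw [← pow_add, ← two_mul, hζ]
    rw [← this]; ring
  rw [hz] at h
  exact (mul_eq_zero.1 h).resolve_right hne

/-- Odd case: `ζ ^ (2m+1) = 1`, `ζ² ≠ 1` give an admissible `u = q (ζ + ζ⁻¹)`. -/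
theorem luc_odd (q ζ : ℂ) (m : ℕ) (hq : q ≠ 0) (hζ : ζ ^ (2 * m + 1) = 1) (hζ2 : ζ ^ 2 ≠ 1) :
    luc (q * (ζ + ζ⁻¹)) (q * q) (m + 1) = -q * luc (q * (ζ + ζ⁻¹)) (q * q) m := by
  have hζ0 : ζ ≠ 0 := by
    rintro rfl
    rw [zero_pow (by omega)] at hζ; exact zero_ne_one hζ
  have h := luc_closed (q * ζ) (q * ζ⁻¹) m
  have e1 : q * ζ + q * ζ⁻¹ = q * (ζ + ζ⁻¹) := by ring
  have e2 : q * ζ * (q * ζ⁻¹) = q * q := by field_simp
  rw [e1, e2] at h
  have hne : q * ζ - q * ζ⁻¹ ≠ 0 := by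
    intro h0
    apply hζ2
    have : q * (ζ ^ 2 - 1) = 0 := by
      have : (q * ζ - q * ζ⁻¹) * ζ = q * (ζ ^ 2 - 1) := by field_simp
      rw [← this, h0, zero_mul]
    rcases mul_eq_zero.1 this with h1 | h1
    · exact absurd h1 hq
    · linear_combination h1
  have hmm : ζ ^ (m + 1) * ζ ^ m = 1 := by
    rw [← pow_add]; rw [show m + 1 + m = 2 * m + 1 by ring]; exact hζ
  have i1 : (ζ ^ m)⁻¹ = ζ ^ (m + 1) := (eq_inv_of_mul_eq_one_left hmm).symm
  have i2 : (ζ ^ (m + 1))⁻¹ = ζ ^ m := by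
    rw [mul_comm] at hmm
    exact (eq_inv_of_mul_eq_one_left hmm).symm
  have hz : (luc (q * (ζ + ζ⁻¹)) (q * q) (m + 1) + q * luc (q * (ζ + ζ⁻¹)) (q * q) m) *
      (q * ζ - q * ζ⁻¹) = 0 := by
    rw [add_mul, h.2, mul_assoc, h.1, mul_pow, mul_pow, mul_pow, mul_pow, inv_pow, inv_pow, i1, i2]
    ring
  have := (mul_eq_zero.1 hz).resolve_right hne
  linear_combination this

theorem no_rat_sq_prime (p : ℕ) (hp : p.Prime) (y : ℚ) : y * y ≠ (p : ℚ) := by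
  intro h
  apply hp.irrational_sqrt
  refine ⟨|y|, ?_⟩
  have h' : ((y : ℝ)) * (y : ℝ) = (p : ℝ) := by exact_mod_cast h
  rw [← h', Real.sqrt_mul_self_eq_abs]
  push_cast
  rfl

theorem odd_prime_le_five {p : ℕ} (hp : p.Prime) (hodd : Odd p) (h5 : p ≤ 5) : p = 3 ∨ p = 5 := by
  interval_cases p
  · exact absurd hp (by decide)
  · exact absurd hp (by decide)
  · exact absurd hodd (by decide)
  · exact Or.inl rfl
  · exact absurd hodd (by decide)
  · exact Or.inr rfl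

theorem odd_totient_le_four (n : ℕ) (hodd : Odd n) (h3 : 3 ≤ n) (hφ : n.totient ≤ 4) :
    n = 3 ∨ n = 5 := by
  have hn0 : 0 < n := by omega
  have hφpos : 0 < n.totient := Nat.totient_pos.2 hn0
  have hprime : ∀ p : ℕ, p.Prime → p ∣ n → p = 3 ∨ p = 5 := by
    intro p hp hpn
    have h1 : p.totient ∣ n.totient := Nat.totient_dvd_of_dvd hpn
    rw [Nat.totient_prime hp] at h1
    have h2 : p - 1 ≤ 4 := (Nat.le_of_dvd hφpos h1).trans hφ
    have hpodd : Odd p := by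
      obtain ⟨k, rfl⟩ := hpn
      exact (Nat.odd_mul.1 hodd).1
    exact odd_prime_le_five hp hpodd (by omega)
  have hn1 : n ≠ 1 := by omega
  set p := n.minFac with hpdef
  have hp : p.Prime := Nat.minFac_prime hn1
  have hpn : p ∣ n := Nat.minFac_dvd n
  obtain ⟨k, hk⟩ := hpn
  by_cases hk1 : k = 1
  · rw [hk1, mul_one] at hk
    rw [hk]; exact hprime p hp (hk ▸ dvd_rfl)
  · exfalso
    have hk0 : k ≠ 0 := by rintro rfl; omega
    set p' := k.minFac with hp'def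
    have hp' : p'.Prime := Nat.minFac_prime hk1
    have hp'k : p' ∣ k := Nat.minFac_dvd k
    have hpp' : p * p' ∣ n := by rw [hk]; exact Nat.mul_dvd_mul_left p hp'k
    have h1 : (p * p').totient ∣ n.totient := Nat.totient_dvd_of_dvd hpp'
    have h2 : (p * p').totient ≤ 4 := (Nat.le_of_dvd hφpos h1).trans hφ
    have hp'n : p' ∣ n := (dvd_mul_left p' p).trans hpp'
    rcases hprime p hp (hk ▸ Dvd.intro k rfl) with e | e <;>
      rcases hprime p' hp' hp'n with e' | e' <;> rw [e, e'] at h2 <;> revert h2 <;> decide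

theorem totient_le_of_root (n : ℕ) (hn : 0 < n) (ζ : ℂ) (hζ : IsPrimitiveRoot ζ n) (α β γ : ℚ)
    (hβ : β ≠ 0)
    (h : (α : ℂ) * (ζ ^ 2 + 1) ^ 2 + (β : ℂ) * (ζ * (ζ ^ 2 + 1)) + (γ : ℂ) * ζ ^ 2 = 0) :
    n.totient ≤ 4 := by
  set p : ℚ[X] := C α * (X ^ 2 + 1) ^ 2 + C β * (X * (X ^ 2 + 1)) + C γ * X ^ 2 with hp
  have hdeg : p.natDegree ≤ 4 := by
    rw [hp]; compute_degree
  have hne : p ≠ 0 := by
    intro h0
    have e1 : p.eval 1 = 0 := by rw [h0]; simp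
    have e2 : p.eval (-1) = 0 := by rw [h0]; simp
    rw [hp] at e1 e2
    simp only [eval_add, eval_mul, eval_C, eval_pow, eval_X, eval_one] at e1 e2
    apply hβ
    linear_combination (1 / 4 : ℚ) * e1 - (1 / 4 : ℚ) * e2
  have hroot : aeval ζ p = 0 := by
    rw [hp]
    simp only [map_add, map_mul, aeval_C, map_pow, aeval_X, map_one]
    exact h
  have h1 := minpoly.degree_le_of_ne_zero ℚ ζ hne hroot
  rw [← cyclotomic_eq_minpoly_rat hζ hn] at h1
  have h2 : (cyclotomic n ℚ).natDegree ≤ p.natDegree := natDegree_le_natDegree h1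
  rw [natDegree_cyclotomic] at h2
  exact h2.trans hdeg

end Cfsg.Agent.Lib.Helper3.FH
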