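import Mathlib
import Cfsg.Agent.Lib.Helper3.FHN1

set_option autoImplicit false

/-!
Feit–Higman, part N2: the number theory.
-/

namespace Cfsg.Agent.Lib.Helper3.FH

open Polynomial

/-- If both `u` and `-u` are admissible then `u` is rational. -/
theorem adm_pm_rat (n : ℕ) (hn : n ≠ 0) (q₁ q₂ : ℕ) (h1 : 2 ≤ q₁) (h2 : 2 ≤ q₂) (N : ℕ)
    (hN : N ≠ 0) (u : ℂ) (hp : Adm n q₁ q₂ N u) (hm : Adm n q₁ q₂ N (-u)) :
    ∃ x : ℚ, u = x := by
  obtain ⟨a, ha0, ha⟩ := hp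
  obtain ⟨b, hb0, hb⟩ := hm
  simp only [Del] at ha hb
  have hneg : (-u) ^ 2 = u ^ 2 := by ring
  rw [hneg] at hb
  set Aq : ℚ := ((q₁ : ℚ) + q₂) * ((q₁ : ℚ) * q₂ + 1) with hAq
  set Bq : ℚ := ((q₁ : ℚ) - 1) * ((q₂ : ℚ) - 1) with hBq
  set Qq : ℚ := (q₁ : ℚ) * q₂ with hQq
  have hq₁ : (2 : ℚ) ≤ q₁ := by exact_mod_cast h1
  have hq₂ : (2 : ℚ) ≤ q₂ := by exact_mod_cast h2
  have hABQ : 4 * Qq < Aq := by
    rw [hAq, hQq]; nlinarith [mul_nonneg (by linarith : (0:ℚ) ≤ q₁) (by linarith : (0:ℚ) ≤ q₂)]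
  have hBpos : 0 < Bq := by
    rw [hBq]; exact mul_pos (by linarith) (by linarith)
  have ha' : (0 : ℚ) < a := by exact_mod_cast Nat.pos_of_ne_zero ha0
  have hb' : (0 : ℚ) < b := by exact_mod_cast Nat.pos_of_ne_zero hb0
  have hn' : (0 : ℚ) < n := by exact_mod_cast Nat.pos_of_ne_zero hn
  have hN' : (0 : ℚ) < N := by exact_mod_cast Nat.pos_of_ne_zero hN
  set K : ℚ := (N : ℚ) * (a + b) - 2 * a * b * n with hK
  have key1 : u ^ 2 * (K : ℂ) =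
      ((4 * Qq * N * (a + b) - 2 * a * b * n * Aq : ℚ) : ℂ) := by
    rw [hK, hAq, hQq]
    push_cast
    linear_combination (b : ℂ) * ha + (a : ℂ) * hb
  have hK0 : K ≠ 0 := by
    intro h0
    rw [h0] at key1
    have h3 : (4 * Qq * N * (a + b) - 2 * a * b * n * Aq : ℚ) = 0 := by
      have : ((4 * Qq * N * (a + b) - 2 * a * b * n * Aq : ℚ) : ℂ) = 0 := by
        rw [← key1]; simp
      exact_mod_cast this
    have h4 : (N : ℚ) * (a + b) = 2 * a * b * n := by linarith [h0, hK]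
    have h5 : 2 * (a : ℚ) * b * n * (4 * Qq - Aq) = 0 := by
      linear_combination h3 - 4 * Qq * h4
    have h6 : (2 * (a : ℚ) * b * n) ≠ 0 := by positivity
    rcases mul_eq_zero.1 h5 with h7 | h7
    · exact h6 h7
    · linarith
  set y : ℚ := (4 * Qq * N * (a + b) - 2 * a * b * n * Aq) / K with hy
  have hu2 : u ^ 2 = (y : ℂ) := by
    have hKc : (K : ℂ) ≠ 0 := by exact_mod_cast hK0
    rw [hy]
    push_cast
    rw [eq_div_iff hKc]
    rw [key1]; push_cast; ring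
  have key2 : u * ((2 * a * b * n * Bq : ℚ) : ℂ) = ((N * ((b : ℚ) - a) * (4 * Qq - y) : ℚ) : ℂ) := by
    rw [hBq, hQq]
    push_cast
    linear_combination (b : ℂ) * ha - (a : ℂ) * hb - ((N : ℂ) * ((b : ℂ) - a)) * hu2
  have hden : (2 * (a : ℚ) * b * n * Bq) ≠ 0 := by positivity
  refine ⟨(N * ((b : ℚ) - a) * (4 * Qq - y)) / (2 * a * b * n * Bq), ?_⟩
  have hdenc : ((2 * a * b * n * Bq : ℚ) : ℂ) ≠ 0 := by exact_mod_cast hden
  rw [Rat.cast_div, eq_div_iff hdenc, key2]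

end Cfsg.Agent.Lib.Helper3.FH
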