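import Mathlib
import Cfsg.Agent.Lib.Helper3.FHN2

set_option autoImplicit false

/-!
Feit–Higman, part N3: the two number-theoretic conclusions.
-/

namespace Cfsg.Agent.Lib.Helper3.FH

open Polynomial

theorem sq_ne_one_of_primitive {ζ : ℂ} {n : ℕ} (hζ : IsPrimitiveRoot ζ n) (hn : 3 ≤ n) :
    ζ ^ 2 ≠ 1 := by
  intro h
  have := hζ.dvd_of_pow_eq_one 2 h
  have := Nat.le_of_dvd (by norm_num) this
  omega

/-- Odd case. -/
theorem fh_num_odd (q : ℕ) (hq : 2 ≤ q) (m : ℕ) (hm : 1 ≤ m) (N : ℕ) (hN : N ≠ 0)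
    (H : ∀ u : ℂ, luc u ((q : ℂ) * q) (m + 1) = -(q : ℂ) * luc u ((q : ℂ) * q) m →
      Adm (2 * m + 1) q q N u) : m = 1 := by
  set n := 2 * m + 1 with hn
  have hn0 : n ≠ 0 := by omega
  have hn3 : 3 ≤ n := by omega
  set ζ : ℂ := Complex.exp (2 * Real.pi * Complex.I / n) with hζdef
  have hζ : IsPrimitiveRoot ζ n := Complex.isPrimitiveRoot_exp n hn0
  have hζn : ζ ^ (2 * m + 1) = 1 := hζ.pow_eq_one
  have hζ2 : ζ ^ 2 ≠ 1 := sq_ne_one_of_primitive hζ hn3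
  have hζ0 : ζ ≠ 0 := hζ.ne_zero hn0
  have hqc : (q : ℂ) ≠ 0 := by
    have : q ≠ 0 := by omega
    exact_mod_cast this
  obtain ⟨θ, hθ⟩ : ∃ θ : ℂ, θ = ζ + ζ⁻¹ := ⟨_, rfl⟩
  obtain ⟨mm, hmm0, hmm⟩ := H ((q : ℂ) * θ) (by rw [hθ]; exact luc_odd (q : ℂ) ζ m hqc hζn hζ2)
  simp only [Del] at hmm
  -- the rational quadratic for θ
  set c : ℚ := (N : ℚ) / (mm * n) with hc
  have hmmn : ((mm : ℚ) * n) ≠ 0 := by
    have h1 : (mm : ℚ) ≠ 0 := by exact_mod_cast hmm0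
    have h2 : (n : ℚ) ≠ 0 := by exact_mod_cast hn0
    exact mul_ne_zero h1 h2
  set α : ℚ := (c - 1) * q ^ 2 with hα
  set β : ℚ := ((q : ℚ) - 1) ^ 2 * q with hβ
  set γ : ℚ := ((q : ℚ) + q) * ((q : ℚ) * q + 1) - 4 * c * q ^ 2 with hγ
  have hquad : (α : ℂ) * θ ^ 2 + (β : ℂ) * θ + (γ : ℂ) = 0 := by
    have hmmnc : ((mm : ℂ) * (n : ℂ)) ≠ 0 := by exact_mod_cast hmmn
    have hcc : (c : ℂ) * ((mm : ℂ) * n) = N := by
      rw [hc]; push_cast; field_simp
    rw [hα, hβ, hγ]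
    push_cast
    apply mul_left_cancel₀ hmmnc
    linear_combination hmm - ((q : ℂ) ^ 2 * (4 - θ ^ 2)) * hcc
  have hβ0 : β ≠ 0 := by
    rw [hβ]
    have h1 : ((q : ℚ) - 1) ≠ 0 := by
      have : (2 : ℚ) ≤ q := by exact_mod_cast hq
      linarith
    have h2 : (q : ℚ) ≠ 0 := by
      have : (2 : ℚ) ≤ q := by exact_mod_cast hq
      linarith
    exact mul_ne_zero (pow_ne_zero 2 h1) h2
  have hθζ : θ * ζ = ζ ^ 2 + 1 := by rw [hθ]; field_simp
  have hroot : (α : ℂ) * (ζ ^ 2 + 1) ^ 2 + (β : ℂ) * (ζ * (ζ ^ 2 + 1)) + (γ : ℂ) * ζ ^ 2 = 0 := by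
    rw [← hθζ]
    linear_combination (ζ ^ 2) * hquad
  have hφ := totient_le_of_root n (by omega) ζ hζ α β γ hβ0 hroot
  have hodd : Odd n := ⟨m, by omega⟩
  rcases odd_totient_le_four n hodd hn3 hφ with h3 | h5
  · omega
  · exfalso
    -- n = 5
    have hgeom := hζ.geom_sum_eq_zero (by omega : 1 < n)
    rw [h5] at hgeom
    simp only [Finset.sum_range_succ, Finset.sum_range_zero, zero_add, pow_zero, pow_one] at hgeom
    have hθ2 : θ ^ 2 + θ - 1 = 0 := by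
      have : (θ ^ 2 + θ - 1) * ζ ^ 2 = 0 := by
        have e : (θ ^ 2 + θ - 1) * ζ ^ 2 = (θ * ζ) ^ 2 + (θ * ζ) * ζ - ζ ^ 2 := by ring
        rw [e, hθζ]
        linear_combination hgeom
      exact (mul_eq_zero.1 this).resolve_right (pow_ne_zero 2 hζ0)
    -- (α + γ) + (β - α) θ = 0
    have hlin : ((α + γ : ℚ) : ℂ) + ((β - α : ℚ) : ℂ) * θ = 0 := by
      push_cast
      linear_combination hquad - (α : ℂ) * hθ2
    by_cases hba : β - α = 0
    · -- then α + γ = 0 too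
      rw [hba] at hlin
      have hag : α + γ = 0 := by
        have : ((α + γ : ℚ) : ℂ) = 0 := by simpa using hlin
        exact_mod_cast this
      have hq' : (2 : ℚ) ≤ q := by exact_mod_cast hq
      have hfin : (q : ℚ) * ((q : ℚ) - 1) ^ 2 = 0 := by
        rw [hα, hβ] at hba
        rw [hα, hγ] at hag
        linear_combination (-1 : ℚ) * hag + 3 * hba
      have h1 : (q : ℚ) ≠ 0 := by linarith
      have h2 : ((q : ℚ) - 1) ^ 2 ≠ 0 := pow_ne_zero 2 (by linarith)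
      exact (mul_ne_zero h1 h2) hfin
    · -- θ rational
      have hbac : ((β - α : ℚ) : ℂ) ≠ 0 := by exact_mod_cast hba
      set x : ℚ := -(α + γ) / (β - α) with hx
      have hθx : θ = (x : ℂ) := by
        rw [hx]; push_cast
        rw [eq_div_iff (by push_cast at hbac; exact hbac)]
        push_cast at hlin
        linear_combination hlin
      rw [hθx] at hθ2
      have hxq : x ^ 2 + x - 1 = 0 := by exact_mod_cast hθ2
      have h5' : (2 * x + 1) * (2 * x + 1) = ((5 : ℕ) : ℚ) := by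
        push_cast; linear_combination 4 * hxq
      exact no_rat_sq_prime 5 (by norm_num) _ h5'

end Cfsg.Agent.Lib.Helper3.FH
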