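import Mathlib
import Cfsg.Agent.Lib.Helper3.FHN3

set_option autoImplicit false

/-!
Feit–Higman, part N4: the even case.
-/

namespace Cfsg.Agent.Lib.Helper3.FH

theorem exp_sq_add_inv (m : ℕ) (hm : m ≠ 0) :
    Complex.exp (2 * Real.pi * Complex.I / ((2 * m : ℕ) : ℂ)) ^ 2 +
        (Complex.exp (2 * Real.pi * Complex.I / ((2 * m : ℕ) : ℂ)) ^ 2)⁻¹ =
      ((2 * Real.cos (((2 / m : ℚ) : ℝ) * Real.pi) : ℝ) : ℂ) := by
  have hmc : (m : ℂ) ≠ 0 := by exact_mod_cast hm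
  set φ : ℝ := ((2 / m : ℚ) : ℝ) * Real.pi with hφ
  have e1 : Complex.exp (2 * Real.pi * Complex.I / ((2 * m : ℕ) : ℂ)) ^ 2 =
      Complex.exp ((φ : ℂ) * Complex.I) := by
    rw [← Complex.exp_nat_mul]
    congr 1
    rw [hφ]
    push_cast
    field_simp
  rw [e1, ← Complex.exp_neg]
  have e2 : -((φ : ℂ) * Complex.I) = -(φ : ℂ) * Complex.I := by ring
  rw [e2, ← Complex.two_cos]
  push_cast
  rfl

/-- Even case. -/
theorem fh_num_even (q₁ q₂ : ℕ) (h1 : 2 ≤ q₁) (h2 : 2 ≤ q₂) (m : ℕ) (hm : 2 ≤ m) (N : ℕ)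
    (hN : N ≠ 0)
    (H : ∀ u : ℂ, luc u ((q₁ : ℂ) * q₂) m = 0 → Adm (2 * m) q₁ q₂ N u) :
    m = 2 ∨ m = 3 ∨ m = 4 := by
  set n := 2 * m with hn
  have hn0 : n ≠ 0 := by omega
  have hn3 : 3 ≤ n := by omega
  have hm0 : m ≠ 0 := by omega
  have hq₁c : (q₁ : ℂ) ≠ 0 := by
    have : q₁ ≠ 0 := by omega
    exact_mod_cast this
  have hq₂c : (q₂ : ℂ) ≠ 0 := by
    have : q₂ ≠ 0 := by omega
    exact_mod_cast this
  have hQ : (q₁ : ℂ) * q₂ ≠ 0 := mul_ne_zero hq₁c hq₂c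
  obtain ⟨r, hr⟩ := IsAlgClosed.exists_eq_mul_self ((q₁ : ℂ) * q₂)
  have hr' : r * r = (q₁ : ℂ) * q₂ := hr.symm
  have hr'' : (-r) * (-r) = (q₁ : ℂ) * q₂ := by rw [← hr']; ring
  have hr0 : r ≠ 0 := by rintro rfl; exact hQ (by rw [hr]; ring)
  obtain ⟨ζ, hζdef⟩ : ∃ ζ : ℂ, ζ = Complex.exp (2 * Real.pi * Complex.I / ((2 * m : ℕ) : ℂ)) :=
    ⟨_, rfl⟩
  have hζ : IsPrimitiveRoot ζ n := by rw [hζdef]; exact Complex.isPrimitiveRoot_exp n hn0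
  have hζn : ζ ^ (2 * m) = 1 := hζ.pow_eq_one
  have hζ2 : ζ ^ 2 ≠ 1 := sq_ne_one_of_primitive hζ hn3
  have hζ0 : ζ ≠ 0 := hζ.ne_zero hn0
  -- general principle
  have hrat : ∀ ξ : ℂ, ξ ^ (2 * m) = 1 → ξ ^ 2 ≠ 1 → ∃ x : ℚ, r * (ξ + ξ⁻¹) = x := by
    intro ξ hξ hξ2
    have hp := H (r * (ξ + ξ⁻¹)) (luc_even_zero _ r ξ m (by omega) hr' hQ hξ hξ2)
    have hm' := H (-r * (ξ + ξ⁻¹)) (luc_even_zero _ (-r) ξ m (by omega) hr'' hQ hξ hξ2)
    have e : -r * (ξ + ξ⁻¹) = -(r * (ξ + ξ⁻¹)) := by ring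
    rw [e] at hm'
    exact adm_pm_rat (2 * m) hn0 q₁ q₂ h1 h2 N hN _ hp hm'
  obtain ⟨x, hx⟩ := hrat ζ hζn hζ2
  obtain ⟨θ₂, hθ₂⟩ : ∃ θ₂ : ℂ, θ₂ = ζ ^ 2 + (ζ ^ 2)⁻¹ := ⟨_, rfl⟩
  have hθsq : (ζ + ζ⁻¹) ^ 2 = θ₂ + 2 := by
    rw [hθ₂]; field_simp; ring
  have hx2 : (x : ℂ) ^ 2 = (q₁ : ℂ) * q₂ * (θ₂ + 2) := by
    rw [← hx, mul_pow, hθsq, pow_two, hr']
  set z : ℚ := x ^ 2 / ((q₁ : ℚ) * q₂) - 2 with hz
  have hθ₂z : θ₂ = (z : ℂ) := by
    rw [hz]; push_cast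
    rw [eq_sub_iff_add_eq, eq_div_iff hQ, hx2]; ring
  have hcos : ((2 * Real.cos (((2 / m : ℚ) : ℝ) * Real.pi) : ℝ) : ℂ) = (z : ℂ) := by
    rw [← hθ₂z, hθ₂, hζdef]
    exact (exp_sq_add_inv m hm0).symm
  have hcos' : Real.cos (((2 / m : ℚ) : ℝ) * Real.pi) = ((z / 2 : ℚ) : ℝ) := by
    have : (2 * Real.cos (((2 / m : ℚ) : ℝ) * Real.pi) : ℝ) = ((z : ℚ) : ℝ) := by
      have h := hcos
      have e : ((z : ℚ) : ℂ) = (((z : ℚ) : ℝ) : ℂ) := by push_cast; rfl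
      rw [e] at h
      exact Complex.ofReal_injective h
    rw [show ((z / 2 : ℚ) : ℝ) = (z : ℝ) / 2 by push_cast; ring]
    linarith
  have hbnd : (2 / m : ℚ) ∈ Set.Icc (0 : ℚ) 1 := by
    have hmq : (2 : ℚ) ≤ m := by exact_mod_cast hm
    constructor
    · positivity
    · rw [div_le_one (by linarith)]; exact hmq
  have hniv := niven_angle_div_pi_eq ⟨z / 2, hcos'⟩ hbnd
  have hmq : (m : ℚ) ≠ 0 := by exact_mod_cast hm0
  simp only [Set.mem_insert_iff, Set.mem_singleton_iff] at hniv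
  rcases hniv with h | h | h | h | h
  · exfalso
    rw [div_eq_zero_iff] at h
    rcases h with h | h
    · norm_num at h
    · exact hmq h
  · -- m = 6 : excluded
    exfalso
    have hm6 : m = 6 := by
      rw [div_eq_div_iff hmq (by norm_num)] at h
      have : (m : ℚ) = 6 := by linarith
      exact_mod_cast this
    -- θ₂ = 1
    have hθ₂1 : θ₂ = 1 := by
      rw [hθ₂z]
      have hc3 : Real.cos (((2 / m : ℚ) : ℝ) * Real.pi) = 1 / 2 := by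
        rw [h]
        have : (((1 / 3 : ℚ) : ℝ)) * Real.pi = Real.pi / 3 := by push_cast; ring
        rw [this, Real.cos_pi_div_three]
      rw [hcos'] at hc3
      have : (z : ℝ) = 1 := by push_cast at hc3; linarith
      have : z = 1 := by exact_mod_cast this
      rw [this]; simp
    -- ζ² admissible
    have hξ : (ζ ^ 2) ^ (2 * m) = 1 := by rw [← pow_mul, mul_comm, pow_mul, hζn, one_pow]
    have hξ2 : (ζ ^ 2) ^ 2 ≠ 1 := by
      intro h4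
      rw [← pow_mul] at h4
      have := hζ.dvd_of_pow_eq_one _ h4
      have := Nat.le_of_dvd (by norm_num) this
      omega
    obtain ⟨y, hy⟩ := hrat (ζ ^ 2) hξ hξ2
    rw [← hθ₂, hθ₂1, mul_one] at hy
    have hy0 : y ≠ 0 := by
      rintro rfl
      rw [hy] at hr0; simp at hr0
    -- x² = 3 y²
    have h3 : (x : ℂ) ^ 2 = 3 * (y : ℂ) ^ 2 := by
      rw [← hx, mul_pow, hθsq, hθ₂1, hy]; ring
    have h3q : x ^ 2 = 3 * y ^ 2 := by exact_mod_cast h3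
    have : (x / y) * (x / y) = ((3 : ℕ) : ℚ) := by
      field_simp
      push_cast
      linarith
    exact no_rat_sq_prime 3 (by norm_num) _ this
  · right; right
    rw [div_eq_div_iff hmq (by norm_num)] at h
    have : (m : ℚ) = 4 := by linarith
    exact_mod_cast this
  · right; left
    rw [div_eq_div_iff hmq (by norm_num)] at h
    have : (m : ℚ) = 3 := by linarith
    exact_mod_cast this
  · left
    rw [div_eq_one_iff_eq hmq] at h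
    have : (m : ℚ) = 2 := by linarith
    exact_mod_cast this

end Cfsg.Agent.Lib.Helper3.FH
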