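import Mathlib
import Cfsg.Agent.Lib.Helper1.WordLen

set_option autoImplicit false

/-!
Feit–Higman, part W1: a group generated by two involutions `x, y`: the elements `dpos p`,
lengths of alternating words, and the order of the group.
-/

namespace Cfsg.Agent.Lib.Helper3.FH

open Cfsg.Agent.Lib.Helper1

section

variable {W : Type*} [Group W]

/-- The element at position `p` of the `2n`-gon. -/
def dpos (x y : W) (p : ℤ) : W :=
  if Even p then (x * y) ^ (p / 2) else (x * y) ^ ((-p - 1) / 2) * x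

/-- Alternating products: `(altW x y k).1` has `k` factors and ends with `x`, `.2` ends with `y`. -/
def altW (x y : W) : ℕ → W × W
  | 0 => (1, 1)
  | k + 1 => ((altW x y k).2 * x, (altW x y k).1 * y)

variable {x y : W}

theorem dpos_zero : dpos x y 0 = 1 := by simp [dpos]

theorem x_mul_zpow (hx : x * x = 1) (hy : y * y = 1) (k : ℤ) :
    x * (x * y) ^ k = (x * y) ^ (-k) * x := by
  have hxinv : x⁻¹ = x := inv_eq_of_mul_eq_one_left hx
  have hyinv : y⁻¹ = y := inv_eq_of_mul_eq_one_left hy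
  have h1 : MulAut.conj x (x * y) = (x * y)⁻¹ := by
    rw [MulAut.conj_apply, mul_inv_rev, hxinv, hyinv]
    rw [← mul_assoc, hx, one_mul]
  have h2 : MulAut.conj x ((x * y) ^ k) = ((x * y)⁻¹) ^ k := by
    rw [map_zpow, h1]
  rw [MulAut.conj_apply, hxinv] at h2
  rw [zpow_neg, ← inv_zpow, ← h2, mul_assoc, mul_assoc, hx, mul_one]

theorem dpos_mul_x (hx : x * x = 1) (p : ℤ) : dpos x y p * x = dpos x y (-1 - p) := by
  unfold dpos
  by_cases hp : Even p
  · have hp' : ¬ Even (-1 - p) := by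
      rw [Int.even_iff] at hp ⊢; omega
    rw [if_pos hp, if_neg hp']
    congr 2
    rw [Int.even_iff] at hp; omega
  · have hp' : Even (-1 - p) := by
      rw [Int.even_iff] at hp ⊢; omega
    rw [if_neg hp, if_pos hp', mul_assoc, hx, mul_one]
    congr 1
    rw [Int.even_iff] at hp; omega

theorem zpow_mul_y (hx : x * x = 1) (hy : y * y = 1) (k : ℤ) :
    (x * y) ^ k * y = (x * y) ^ (k - 1) * x := by
  have hyx : y = (x * y) ^ (-1 : ℤ) * x := by
    have := x_mul_zpow hx hy 1
    rw [zpow_one, ← mul_assoc, hx, one_mul] at this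
    exact this
  have : (x * y) ^ (k - 1) * x = (x * y) ^ k * ((x * y) ^ (-1 : ℤ) * x) := by
    rw [← mul_assoc, ← zpow_add]
    congr 2
  rw [this, ← hyx]

theorem dpos_mul_y (hx : x * x = 1) (hy : y * y = 1) (p : ℤ) :
    dpos x y p * y = dpos x y (1 - p) := by
  unfold dpos
  by_cases hp : Even p
  · have hp' : ¬ Even (1 - p) := by
      rw [Int.even_iff] at hp ⊢; omega
    rw [if_pos hp, if_neg hp', zpow_mul_y hx hy]
    congr 2
    rw [Int.even_iff] at hp; omega
  · have hp' : Even (1 - p) := by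
      rw [Int.even_iff] at hp ⊢; omega
    rw [if_neg hp, if_pos hp', mul_assoc, ← zpow_add_one]
    congr 1
    rw [Int.even_iff] at hp; omega

theorem altW_eq (hx : x * x = 1) (hy : y * y = 1) (k : ℕ) :
    (altW x y k).1 = dpos x y (-(k : ℤ)) ∧ (altW x y k).2 = dpos x y (k : ℤ) := by
  induction k with
  | zero => simp [altW, dpos_zero]
  | succ k ih =>
    simp only [altW]
    rw [ih.1, ih.2, dpos_mul_x hx, dpos_mul_y hx hy]
    constructor
    · congr 1; push_cast; ring
    · congr 1; push_cast; ring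

theorem x_not_mem_zpowers (hx : x * x = 1) (hy : y * y = 1) (hx1 : x ≠ 1) (hy1 : y ≠ 1) (k : ℤ) :
    x ≠ (x * y) ^ k := by
  intro h
  -- x commutes with x*y
  have hcomm : x * (x * y) = (x * y) * x := by
    have : Commute x ((x * y) ^ k) := by rw [← h]
    have h2 : Commute ((x * y) ^ k) (x * y) := (Commute.refl (x * y)).zpow_left k
    rw [← h] at h2
    exact h2.eq
  -- so y x = x y
  have hyx : y * x = x * y := by
    have : x * (x * (x * y)) = x * ((x * y) * x) := by rw [hcomm]
    rw [← mul_assoc x x, hx, one_mul, ← mul_assoc, ← mul_assoc, hx, one_mul] at this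
    exact this.symm
  -- (x y)^2 = 1
  have hsq : (x * y) * (x * y) = 1 := by
    rw [mul_assoc, ← mul_assoc y, hyx, mul_assoc, hy, mul_one, hx]
  -- (x y)^k ∈ {1, x y}
  have hk : (x * y) ^ k = 1 ∨ (x * y) ^ k = x * y := by
    rcases Int.even_or_odd' k with ⟨j, hj | hj⟩
    · left
      rw [hj, zpow_mul, zpow_two, hsq, one_zpow]
    · right
      rw [hj, zpow_add, zpow_mul, zpow_two, hsq, one_zpow, one_mul, zpow_one]
  rcases hk with hk | hk
  · rw [hk] at h; exact hx1 h
  · rw [hk] at h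
    apply hy1
    have : x * 1 = x * y := by rw [mul_one]; exact h
    exact (mul_left_cancel this).symm

theorem dpos_inj (hx : x * x = 1) (hy : y * y = 1) (hx1 : x ≠ 1) (hy1 : y ≠ 1) {p p' : ℤ}
    (h : dpos x y p = dpos x y p') : ((2 * orderOf (x * y) : ℕ) : ℤ) ∣ p - p' := by
  unfold dpos at h
  by_cases hp : Even p <;> by_cases hp' : Even p'
  · rw [if_pos hp, if_pos hp'] at h
    have h1 : (x * y) ^ (p / 2 - p' / 2) = 1 := by
      rw [zpow_sub, h, mul_inv_cancel]
    have h2 := orderOf_dvd_iff_zpow_eq_one.2 h1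
    obtain ⟨c, hc⟩ := h2
    refine ⟨c, ?_⟩
    rw [Int.even_iff] at hp hp'
    push_cast
    have e1 : p = 2 * (p / 2) := by omega
    have e2 : p' = 2 * (p' / 2) := by omega
    rw [e1, e2]
    linear_combination 2 * hc
  · exfalso
    rw [if_pos hp, if_neg hp'] at h
    have h3 : x = ((x * y) ^ ((-p' - 1) / 2))⁻¹ * (x * y) ^ (p / 2) := by rw [h]; group
    rw [← zpow_neg, ← zpow_add] at h3
    exact x_not_mem_zpowers hx hy hx1 hy1 _ h3
  · exfalso
    rw [if_neg hp, if_pos hp'] at h
    have h3 : x = ((x * y) ^ ((-p - 1) / 2))⁻¹ * (x * y) ^ (p' / 2) := by rw [← h]; group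
    rw [← zpow_neg, ← zpow_add] at h3
    exact x_not_mem_zpowers hx hy hx1 hy1 _ h3
  · rw [if_neg hp, if_neg hp'] at h
    have h0 := mul_right_cancel h
    have h1 : (x * y) ^ ((-p - 1) / 2 - (-p' - 1) / 2) = 1 := by
      rw [zpow_sub, h0, mul_inv_cancel]
    have h2 := orderOf_dvd_iff_zpow_eq_one.2 h1
    obtain ⟨c, hc⟩ := h2
    refine ⟨-c, ?_⟩
    rw [Int.even_iff] at hp hp'
    push_cast
    have e1 : p = -(2 * ((-p - 1) / 2)) - 1 := by omega
    have e2 : p' = -(2 * ((-p' - 1) / 2)) - 1 := by omega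
    rw [e1, e2]
    linear_combination (-2 : ℤ) * hc

end

end Cfsg.Agent.Lib.Helper3.FH
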