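import Mathlib
import Cfsg.Agent.Lib.Helper3.FHW1

set_option autoImplicit false

/-!
Feit–Higman, part W2: lengths of alternating words and the order of the group.
-/

namespace Cfsg.Agent.Lib.Helper3.FH

open Cfsg.Agent.Lib.Helper1

section

variable {W : Type*} [Group W] {x y : W}

theorem dpos_add_mul (p c : ℤ) :
    dpos x y (p + 2 * ((orderOf (x * y) : ℤ) * c)) = dpos x y p := by
  have hpow : ∀ k : ℤ, (x * y) ^ (k + (orderOf (x * y) : ℤ) * c) = (x * y) ^ k := by
    intro k
    rw [zpow_add, zpow_mul, zpow_natCast, pow_orderOf_eq_one, one_zpow, mul_one]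
  have hpow' : ∀ k : ℤ, (x * y) ^ (k - (orderOf (x * y) : ℤ) * c) = (x * y) ^ k := by
    intro k
    rw [zpow_sub, zpow_mul, zpow_natCast, pow_orderOf_eq_one, one_zpow, inv_one, mul_one]
  unfold dpos
  generalize (orderOf (x * y) : ℤ) * c = m at hpow hpow' ⊢
  by_cases hp : Even p
  · have hp' : Even (p + 2 * m) := by
      rw [Int.even_iff] at hp ⊢; omega
    rw [if_pos hp, if_pos hp', ← hpow (p / 2)]
    congr 1
    rw [Int.even_iff] at hp; omega
  · have hp' : ¬ Even (p + 2 * m) := by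
      rw [Int.even_iff] at hp ⊢; omega
    rw [if_neg hp, if_neg hp', ← hpow' ((-p - 1) / 2)]
    congr 2
    rw [Int.even_iff] at hp; omega

theorem altW_top (hx : x * x = 1) (hy : y * y = 1) :
    (altW x y (orderOf (x * y))).1 = (altW x y (orderOf (x * y))).2 := by
  rw [(altW_eq hx hy _).1, (altW_eq hx hy _).2]
  have := dpos_add_mul (x := x) (y := y) (-(orderOf (x * y) : ℤ)) 1
  rw [← this]
  congr 1
  ring

theorem word_eq_dpos (hx : x * x = 1) (hy : y * y = 1) (l : List W)
    (hl : IsWord ({x, y} : Set W) l) :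
    ∃ p : ℤ, p.natAbs ≤ l.length ∧ l.prod = dpos x y p := by
  induction l using List.reverseRecOn with
  | nil => exact ⟨0, by simp, by simp [dpos_zero]⟩
  | append_singleton l a ih =>
    have hl' : IsWord ({x, y} : Set W) l := fun z hz => hl z (List.mem_append_left _ hz)
    have ha : a ∈ ({x, y} : Set W) := hl a (by simp)
    obtain ⟨p, hp, hprod⟩ := ih hl'
    rw [List.prod_append, List.prod_singleton, hprod, List.length_append, List.length_singleton]
    rcases ha with rfl | ha
    · exact ⟨-1 - p, by omega, dpos_mul_x hx p⟩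
    · rw [Set.mem_singleton_iff] at ha
      subst ha
      exact ⟨1 - p, by omega, dpos_mul_y hx hy p⟩

/-- Alternating words as lists. -/
def altL (x y : W) : ℕ → List W × List W
  | 0 => ([], [])
  | k + 1 => ((altL x y k).2 ++ [x], (altL x y k).1 ++ [y])

theorem altL_spec (x y : W) (k : ℕ) :
    (IsWord ({x, y} : Set W) (altL x y k).1 ∧ (altL x y k).1.length = k ∧
        (altL x y k).1.prod = (altW x y k).1) ∧
      (IsWord ({x, y} : Set W) (altL x y k).2 ∧ (altL x y k).2.length = k ∧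
        (altL x y k).2.prod = (altW x y k).2) := by
  induction k with
  | zero => simp [altL, altW, isWord_nil]
  | succ k ih =>
    obtain ⟨⟨h1, h2, h3⟩, ⟨h4, h5, h6⟩⟩ := ih
    simp only [altL, altW]
    refine ⟨⟨?_, ?_, ?_⟩, ⟨?_, ?_, ?_⟩⟩
    · exact isWord_append h4 (by intro z hz; simp at hz; rw [hz]; simp)
    · simp [h5]
    · simp [h6]
    · exact isWord_append h1 (by intro z hz; simp at hz; rw [hz]; simp)
    · simp [h2]
    · simp [h3]

theorem involSet (hx : x * x = 1) (hy : y * y = 1) : IsInvolSet ({x, y} : Set W) := by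
  intro s hs
  rcases hs with rfl | hs
  · exact hx
  · rw [Set.mem_singleton_iff] at hs; subst hs; exact hy

theorem wlen_dpos (hx : x * x = 1) (hy : y * y = 1) (hx1 : x ≠ 1) (hy1 : y ≠ 1)
    (k : ℕ) (hk : k ≤ orderOf (x * y)) (p : ℤ) (hp : p.natAbs = k) (w : W) (hw : w = dpos x y p)
    (l : List W) (hl : IsWord ({x, y} : Set W) l) (hlen : l.length = k) (hprod : l.prod = w) :
    wlen ({x, y} : Set W) w = k := by
  have hS := involSet hx hy
  apply le_antisymm
  · rw [← hprod, ← hlen]; exact wlen_le_of_word hl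
  · by_contra hlt
    push Not at hlt
    have hwc : w ∈ Subgroup.closure ({x, y} : Set W) := by
      rw [← hprod]
      exact Subgroup.list_prod_mem _ fun z hz => Subgroup.subset_closure (hl z hz)
    obtain ⟨l', hl', hlen', hprod'⟩ := exists_reduced_word hS hwc
    obtain ⟨p', hp', hpp'⟩ := word_eq_dpos hx hy l' hl'
    rw [hprod', hw] at hpp'
    have hdvd := dpos_inj hx hy hx1 hy1 hpp'
    have habs : |p - p'| < ((2 * orderOf (x * y) : ℕ) : ℤ) := by
      push_cast
      have h1 : |p - p'| ≤ |p| + |p'| := abs_sub p p'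
      have h2 : |p| = (k : ℤ) := by rw [← hp]; exact Int.abs_eq_natAbs p
      have h3 : |p'| = (p'.natAbs : ℤ) := Int.abs_eq_natAbs p'
      have h4 : (p'.natAbs : ℤ) < k := by
        have : p'.natAbs < k := by omega
        exact_mod_cast this
      have h5 : (k : ℤ) ≤ orderOf (x * y) := by exact_mod_cast hk
      omega
    have h0 := Int.eq_zero_of_abs_lt_dvd hdvd habs
    have : p.natAbs = p'.natAbs := by
      have : p = p' := by omega
      rw [this]
    omega

theorem wlen_altW (hx : x * x = 1) (hy : y * y = 1) (hx1 : x ≠ 1) (hy1 : y ≠ 1)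
    (k : ℕ) (hk : k ≤ orderOf (x * y)) :
    wlen ({x, y} : Set W) (altW x y k).1 = k ∧ wlen ({x, y} : Set W) (altW x y k).2 = k := by
  obtain ⟨⟨h1, h2, h3⟩, ⟨h4, h5, h6⟩⟩ := altL_spec x y k
  constructor
  · exact wlen_dpos hx hy hx1 hy1 k hk (-(k : ℤ)) (by simp) _ (altW_eq hx hy k).1 _ h1 h2 h3
  · exact wlen_dpos hx hy hx1 hy1 k hk (k : ℤ) (by simp) _ (altW_eq hx hy k).2 _ h4 h5 h6

theorem card_eq_two_mul (hx : x * x = 1) (hy : y * y = 1) (hx1 : x ≠ 1) (hy1 : y ≠ 1)
    (hn : 0 < orderOf (x * y)) (hgen : Subgroup.closure ({x, y} : Set W) = ⊤) :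
    Nat.card W = 2 * orderOf (x * y) := by
  set n := orderOf (x * y) with hndef
  have hS := involSet hx hy
  let f : Fin (2 * n) → W := fun i => dpos x y ((i : ℕ) : ℤ)
  have hinj : Function.Injective f := by
    intro i j hij
    have hdvd := dpos_inj hx hy hx1 hy1 hij
    have habs : |(((i : ℕ) : ℤ)) - ((j : ℕ) : ℤ)| < ((2 * orderOf (x * y) : ℕ) : ℤ) := by
      have hi : ((i : ℕ) : ℤ) < ((2 * n : ℕ) : ℤ) := by exact_mod_cast i.2
      have hj : ((j : ℕ) : ℤ) < ((2 * n : ℕ) : ℤ) := by exact_mod_cast j.2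
      have hi0 : (0 : ℤ) ≤ ((i : ℕ) : ℤ) := by positivity
      have hj0 : (0 : ℤ) ≤ ((j : ℕ) : ℤ) := by positivity
      rw [abs_lt]; constructor <;> omega
    have h0 := Int.eq_zero_of_abs_lt_dvd hdvd habs
    apply Fin.ext
    have : ((i : ℕ) : ℤ) = ((j : ℕ) : ℤ) := by omega
    exact_mod_cast this
  have hsurj : Function.Surjective f := by
    intro w
    have hw : w ∈ Subgroup.closure ({x, y} : Set W) := by rw [hgen]; trivial
    obtain ⟨l, hl, rfl⟩ := (mem_closure_iff_exists_word hS w).1 hw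
    obtain ⟨p, _, hp⟩ := word_eq_dpos hx hy l hl
    have hpos : (0 : ℤ) < ((2 * n : ℕ) : ℤ) := by
      have : 0 < 2 * n := by omega
      exact_mod_cast this
    have h1 := Int.emod_nonneg p hpos.ne'
    have h2 := Int.emod_lt_of_pos p hpos
    refine ⟨⟨(p % ((2 * n : ℕ) : ℤ)).toNat, ?_⟩, ?_⟩
    · have : ((p % ((2 * n : ℕ) : ℤ)).toNat : ℤ) < ((2 * n : ℕ) : ℤ) := by
        rw [Int.toNat_of_nonneg h1]; exact h2
      exact_mod_cast this
    · rw [hp]
      change dpos x y (((p % ((2 * n : ℕ) : ℤ)).toNat : ℕ) : ℤ) = dpos x y p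
      rw [Int.toNat_of_nonneg h1]
      have h3 := Int.emod_add_mul_ediv p ((2 * n : ℕ) : ℤ)
      have h4 := dpos_add_mul (x := x) (y := y) (p % ((2 * n : ℕ) : ℤ)) (p / ((2 * n : ℕ) : ℤ))
      rw [← h4]
      congr 1
      rw [← hndef]
      push_cast at h3 ⊢
      linear_combination h3
  rw [← Nat.card_congr (Equiv.ofBijective f ⟨hinj, hsurj⟩), Nat.card_fin]

end

end Cfsg.Agent.Lib.Helper3.FH
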