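import Mathlib
import Cfsg.Agent.Lib.Helper3.FHB3
import Cfsg.Agent.Lib.Helper3.FHW2
import Cfsg.Agent.Lib.Helper3.FHN4

set_option autoImplicit false
set_option linter.unusedSectionVars false

/-!
Feit–Higman, part B4: a finite group with a Tits system whose Weyl group is generated by two
distinguished involutions `x, y`: the order of `x * y` is 2, 3, 4, 6 or 8.
-/

namespace Cfsg.Agent.Lib.Helper3.FH

open Cfsg.Agent.Lib.Helper1

section

variable {G W : Type*} [Group G] [Group W] [Fintype G] [DecidableEq G] (D : TitsData G W)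

theorem altU_eq_hmat {x y : W} (hS : D.S = {x, y}) (hx1 : x ≠ 1) (hy1 : y ≠ 1) (k : ℕ)
    (hk : k ≤ orderOf (x * y)) :
    (altU (hmat D 1) (hmat D x) (hmat D y) k).1 = hmat D (altW x y k).1 ∧
      (altU (hmat D 1) (hmat D x) (hmat D y) k).2 = hmat D (altW x y k).2 := by
  have hx : x ∈ D.S := by rw [hS]; simp
  have hy : y ∈ D.S := by rw [hS]; simp
  have hxx : x * x = 1 := D.S_invol x hx
  have hyy : y * y = 1 := D.S_invol y hy
  induction k with
  | zero => exact ⟨rfl, rfl⟩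
  | succ k ih =>
    obtain ⟨ih1, ih2⟩ := ih (by omega)
    have hw := wlen_altW hxx hyy hx1 hy1 k (by omega)
    have hw' := wlen_altW hxx hyy hx1 hy1 (k + 1) hk
    rw [← hS] at hw hw'
    constructor
    · change (altU (hmat D 1) (hmat D x) (hmat D y) k).2 * hmat D x = hmat D ((altW x y k).2 * x)
      rw [ih2]
      apply hmat_mul_gen D hx
      have e : (altW x y k).2 * x = (altW x y (k + 1)).1 := rfl
      rw [e, hw.2, hw'.1]; omega
    · change (altU (hmat D 1) (hmat D x) (hmat D y) k).1 * hmat D y = hmat D ((altW x y k).1 * y)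
      rw [ih1]
      apply hmat_mul_gen D hy
      have e : (altW x y k).1 * y = (altW x y (k + 1)).2 := rfl
      rw [e, hw.1, hw'.2]; omega

theorem rowSum_altU {e A₁ A₂ : Matrix G G ℂ} {q₁ q₂ : ℂ} (he : RowSum e 1) (h1 : RowSum A₁ q₁)
    (h2 : RowSum A₂ q₂) (k : ℕ) :
    RowSum (altU e A₁ A₂ k).1 (qseq q₁ q₂ k).1 ∧ RowSum (altU e A₁ A₂ k).2 (qseq q₁ q₂ k).2 := by
  induction k with
  | zero => exact ⟨he, he⟩
  | succ k ih =>
    constructor
    · have := ih.2.mul h1
      rw [mul_comm] at this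
      exact this
    · have := ih.1.mul h2
      rw [mul_comm] at this
      exact this

end

/-- **Feit–Higman** for Tits systems. -/
theorem tits_rank_two {G W : Type*} [Group G] [Group W] [Finite G] (D : TitsData G W) (x y : W)
    (hS : D.S = {x, y}) (hxy : x ≠ y) :
    orderOf (x * y) ∈ ({2, 3, 4, 6, 8} : Set ℕ) ∧ Nat.card W = 2 * orderOf (x * y) := by
  classical
  let _ : Fintype G := Fintype.ofFinite G
  have : Finite W := Finite.of_injective D.C (fun _ _ h => D.C_injective h)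
  have hx : x ∈ D.S := by rw [hS]; simp
  have hy : y ∈ D.S := by rw [hS]; simp
  have hxx : x * x = 1 := D.S_invol x hx
  have hyy : y * y = 1 := D.S_invol y hy
  have hx1 : x ≠ 1 := D.ne_one_of_mem_S hx
  have hy1 : y ≠ 1 := D.ne_one_of_mem_S hy
  set n := orderOf (x * y) with hndef
  have hn : 0 < n := orderOf_pos (x * y)
  have hgen : Subgroup.closure ({x, y} : Set W) = ⊤ := by rw [← hS]; exact D.S_gen
  have hcard := card_eq_two_mul hxx hyy hx1 hy1 hn hgen
  refine ⟨?_, hcard⟩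
  have hn1 : n ≠ 1 := by
    intro h1
    have : x * y = 1 := orderOf_eq_one_iff.1 h1
    apply hxy
    have h2 : x * y = x * x := by rw [this, hxx]
    exact (mul_left_cancel h2).symm
  obtain ⟨q₁, hq₁2, hsq₁, hrs₁⟩ := hmat_sq D hx
  obtain ⟨q₂, hq₂2, hsq₂, hrs₂⟩ := hmat_sq D hy
  set E := hmat D 1 with hE
  set A₁ := hmat D x with hA₁
  set A₂ := hmat D y with hA₂
  have HR : HRel E A₁ A₂ (q₁ : ℂ) (q₂ : ℂ) :=
    ⟨hmat_mul_one D 1, hmat_mul_one D x, hmat_mul_one D y, hsq₁, hsq₂⟩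
  have hkey := altU_eq_hmat D hS hx1 hy1
  have hL : (altU E A₁ A₂ n).1 = (altU E A₁ A₂ n).2 := by
    rw [(hkey n le_rfl).1, (hkey n le_rfl).2, altW_top hxx hyy]
  have hN : E.trace = ((D.B.index : ℕ) : ℂ) := by
    rw [hE, hmat_trace, if_pos rfl]
  have hN0 : D.B.index ≠ 0 := Subgroup.index_ne_zero_of_finite
  have htr : ∀ k, 1 ≤ k → k ≤ n →
      (altU E A₁ A₂ k).1.trace = 0 ∧ (altU E A₁ A₂ k).2.trace = 0 := by
    intro k hk1 hkn
    have hw := wlen_altW hxx hyy hx1 hy1 k hkn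
    rw [(hkey k hkn).1, (hkey k hkn).2, hmat_trace, hmat_trace]
    constructor
    · rw [if_neg]
      intro h1
      rw [h1, wlen_one] at hw
      omega
    · rw [if_neg]
      intro h1
      rw [h1, wlen_one] at hw
      omega
  have hq : (qseq (q₁ : ℂ) (q₂ : ℂ) n).1 = (qseq (q₁ : ℂ) (q₂ : ℂ) n).2 := by
    have h := rowSum_altU (rowSum_hmat_one D) hrs₁ hrs₂ n
    rw [← h.1 1, ← h.2 1, hL]
  have hq₁c : (q₁ : ℂ) ≠ 0 := by
    have : q₁ ≠ 0 := by omega
    exact_mod_cast this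
  have hq₂c : (q₂ : ℂ) ≠ 0 := by
    have : q₂ ≠ 0 := by omega
    exact_mod_cast this
  have hq₁c' : 1 + (q₁ : ℂ) ≠ 0 := by
    have : 1 + q₁ ≠ 0 := by omega
    exact_mod_cast this
  rcases Nat.even_or_odd' n with ⟨m, hm | hm⟩
  · -- even
    by_cases hm1 : m = 1
    · rw [hm, hm1]; simp
    · have hm2 : 2 ≤ m := by omega
      have H : ∀ u : ℂ, luc u ((q₁ : ℂ) * q₂) m = 0 → Adm (2 * m) q₁ q₂ D.B.index u := by
        intro u hs
        refine HR.fh_even hq₁c hq₁c' hq₂c m (by omega) (by rw [← hm]; exact hL) D.B.index hN0 hN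
          (by rw [← hm]; exact htr) u hs
      rcases fh_num_even q₁ q₂ hq₁2 hq₂2 m hm2 D.B.index hN0 H with h | h | h
      · rw [hm, h]; simp
      · rw [hm, h]; simp
      · rw [hm, h]; simp
  · -- odd
    have hm1 : 1 ≤ m := by omega
    have hqq : q₁ = q₂ := by
      rw [hm, (qseq_eq (q₁ : ℂ) (q₂ : ℂ) m).2] at hq
      simp only at hq
      have hQ : ((q₁ : ℂ) * q₂) ^ m ≠ 0 := pow_ne_zero _ (mul_ne_zero hq₁c hq₂c)
      have := mul_right_cancel₀ hQ hq
      exact_mod_cast this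
    subst hqq
    have H : ∀ u : ℂ, luc u ((q₁ : ℂ) * q₁) (m + 1) = -(q₁ : ℂ) * luc u ((q₁ : ℂ) * q₁) m →
        Adm (2 * m + 1) q₁ q₁ D.B.index u := by
      intro u hs
      refine HR.fh_odd hq₁c hq₁c' m (by rw [← hm]; exact hL) D.B.index hN0 hN
        (by rw [← hm]; exact htr) u hs
    have := fh_num_odd q₁ hq₁2 m hm1 D.B.index hN0 H
    rw [hm, this]; simp

end Cfsg.Agent.Lib.Helper3.FH
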