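import Mathlib


set_option autoImplicit false

namespace Cfsg.Agent.Lib.Helper3.FieldAut

open Module

variable {F : Type*} [Field F] [Fintype F] [CharP F 2]

/-- the algebra structure over the prime field -/
noncomputable local instance algZ : Algebra (ZMod 2) F := ZMod.algebra F 2

/-- ring automorphisms are algebra automorphisms over the prime field -/
noncomputable def toAlg (σ : F ≃+* F) : F ≃ₐ[ZMod 2] F :=
  AlgEquiv.ofRingEquiv (f := σ) (fun r => by
    have h : (σ : F →+* F).comp (algebraMap (ZMod 2) F) = algebraMap (ZMod 2) F :=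
      Subsingleton.elim _ _
    exact congrArg (fun g : ZMod 2 →+* F => g r) h)

omit [Fintype F] in
theorem toAlg_apply (σ : F ≃+* F) (x : F) : toAlg σ x = σ x := rfl

noncomputable def autEquiv : (F ≃+* F) ≃ (F ≃ₐ[ZMod 2] F) where
  toFun := toAlg
  invFun τ := τ.toRingEquiv
  left_inv σ := by ext x; rfl
  right_inv τ := by ext x; rfl

noncomputable instance autFintype : Fintype (F ≃+* F) := Fintype.ofEquiv _ autEquiv.symm

theorem card_aut : Fintype.card (F ≃+* F) = finrank (ZMod 2) F := by
  rw [Fintype.card_congr (autEquiv (F := F)), ← Nat.card_eq_fintype_card]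
  exact IsGalois.card_aut_eq_finrank (ZMod 2) F

/-- the family of automorphisms as `ZMod 2`-linear maps -/
noncomputable def autLin (σ : F ≃+* F) : F →ₗ[ZMod 2] F := (toAlg σ).toLinearMap

omit [Fintype F] in
theorem autLin_apply (σ : F ≃+* F) (x : F) : autLin σ x = σ x := rfl

omit [Fintype F] in
theorem linearIndependent_autLin : LinearIndependent F (autLin : (F ≃+* F) → F →ₗ[ZMod 2] F) := by
  have h := linearIndependent_toLinearMap (ZMod 2) F F
  have hinj : Function.Injective (fun σ : F ≃+* F => ((toAlg σ : F ≃ₐ[ZMod 2] F) : F →ₐ[ZMod 2] F)) := by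
    intro σ τ hστ
    ext x
    have := congrArg (fun g : F →ₐ[ZMod 2] F => g x) hστ
    exact this
  have h2 : (autLin : (F ≃+* F) → F →ₗ[ZMod 2] F) =
      (AlgHom.toLinearMap : (F →ₐ[ZMod 2] F) → F →ₗ[ZMod 2] F) ∘
        (fun σ : F ≃+* F => ((toAlg σ : F ≃ₐ[ZMod 2] F) : F →ₐ[ZMod 2] F)) := by
    funext σ
    ext x
    rfl
  rw [h2]
  exact h.comp _ hinj

theorem finrank_lin : finrank F (F →ₗ[ZMod 2] F) = finrank (ZMod 2) F :=
  Module.finrank_linearMap_self (ZMod 2) F F

/-- the automorphisms form a basis of the additive endomorphisms -/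
noncomputable def autBasis : Basis (F ≃+* F) F (F →ₗ[ZMod 2] F) :=
  basisOfLinearIndependentOfCardEqFinrank' autLin linearIndependent_autLin
    (by rw [card_aut, finrank_lin])

theorem autBasis_apply (σ : F ≃+* F) : autBasis σ = autLin σ := by
  unfold autBasis basisOfLinearIndependentOfCardEqFinrank'
  simp

/-- every additive endomorphism is a combination of automorphisms -/
theorem additive_eq_sum (f : F →+ F) :
    ∃ c : (F ≃+* F) → F, ∀ x : F, f x = ∑ σ : F ≃+* F, c σ * σ x := by
  refine ⟨fun σ => autBasis.repr (f.toZModLinearMap 2) σ, ?_⟩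
  intro x
  have h := autBasis.sum_repr (f.toZModLinearMap 2)
  have h2 := congrArg (fun g : F →ₗ[ZMod 2] F => g x) h
  simp only [LinearMap.sum_apply, LinearMap.smul_apply, smul_eq_mul, autBasis_apply,
    autLin_apply, AddMonoidHom.coe_toZModLinearMap] at h2
  exact h2.symm

/-- the coefficient functions of a biadditive map -/
noncomputable def coeffHom (B : F →+ F →+ F) (τ : F ≃+* F) : F →+ F where
  toFun x := autBasis.repr ((B x).toZModLinearMap 2) τ
  map_zero' := by
    have : (B 0).toZModLinearMap 2 = 0 := by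
      ext y; simp
    rw [this]; simp
  map_add' x y := by
    have : (B (x + y)).toZModLinearMap 2 = (B x).toZModLinearMap 2 + (B y).toZModLinearMap 2 := by
      ext z; simp
    rw [this]; simp

theorem biadditive_eq_sum (B : F →+ F →+ F) :
    ∃ c : (F ≃+* F) × (F ≃+* F) → F, ∀ x y : F,
      B x y = ∑ p : (F ≃+* F) × (F ≃+* F), c p * (p.1 x * p.2 y) := by
  choose d hd using fun τ : F ≃+* F => additive_eq_sum (coeffHom B τ)
  refine ⟨fun p => d p.2 p.1, ?_⟩
  intro x y
  have h := autBasis.sum_repr ((B x).toZModLinearMap 2)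
  have h2 := congrArg (fun g : F →ₗ[ZMod 2] F => g y) h
  simp only [LinearMap.sum_apply, LinearMap.smul_apply, smul_eq_mul, autBasis_apply,
    autLin_apply, AddMonoidHom.coe_toZModLinearMap] at h2
  rw [← h2]
  rw [Fintype.sum_prod_type_right]
  apply Finset.sum_congr rfl
  intro τ _
  have h3 : autBasis.repr ((B x).toZModLinearMap 2) τ = ∑ σ : F ≃+* F, d τ σ * σ x := hd τ x
  rw [h3, Finset.sum_mul]
  apply Finset.sum_congr rfl
  intro σ _
  ring

end Cfsg.Agent.Lib.Helper3.FieldAut
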