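import Mathlib
import Cfsg.Agent.Lib.Helper3.FieldAut1

set_option autoImplicit false

namespace Cfsg.Agent.Lib.Helper3.FieldAut

open Module

variable {F : Type*} [Field F] [Fintype F] [CharP F 2]

noncomputable local instance algZ' : Algebra (ZMod 2) F := ZMod.algebra F 2

/-- `g` is a combination of the functions `x ↦ σ x * τ x` -/
def IsQF (g : F → F) : Prop :=
  ∃ c : (F ≃+* F) × (F ≃+* F) → F, ∀ x : F, g x = ∑ p : (F ≃+* F) × (F ≃+* F), c p * (p.1 x * p.2 x)

theorem IsQF.zero : IsQF (fun _ : F => (0 : F)) := ⟨fun _ => 0, fun x => by simp⟩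

theorem IsQF.add {g h : F → F} (hg : IsQF g) (hh : IsQF h) : IsQF (fun x => g x + h x) := by
  obtain ⟨c, hc⟩ := hg
  obtain ⟨d, hd⟩ := hh
  refine ⟨fun p => c p + d p, fun x => ?_⟩
  show g x + h x = _
  rw [hc x, hd x, ← Finset.sum_add_distrib]
  apply Finset.sum_congr rfl
  intro p _
  ring

theorem isQF_mul (f g : F →+ F) : IsQF (fun x => f x * g x) := by
  obtain ⟨a, ha⟩ := additive_eq_sum f
  obtain ⟨a', ha'⟩ := additive_eq_sum g
  refine ⟨fun p => a p.1 * a' p.2, fun x => ?_⟩
  show f x * g x = _
  rw [ha x, ha' x, Finset.sum_mul_sum, Fintype.sum_prod_type]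
  apply Finset.sum_congr rfl
  intro σ _
  apply Finset.sum_congr rfl
  intro τ _
  ring

theorem zmod_two_cases (r : ZMod 2) : r = 0 ∨ r = 1 := by
  fin_cases r
  · left; rfl
  · right; rfl

section quad

variable (q : F → F)
  (hq : ∀ x y z : F, q (x + y + z) + q (x + y) + q (x + z) + q (y + z) + q x + q y + q z = 0)

include hq

omit [Fintype F] in
theorem quad_zero : q 0 = 0 := by
  have h := hq 0 0 0
  simp only [add_zero] at h
  have h2 : (2 : F) = 0 := CharTwo.two_eq_zero
  linear_combination h - 3 * q 0 * h2

/-- the polar form with fixed second argument, as an additive map -/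
noncomputable def polarHom (v : F) : F →+ F where
  toFun x := q (x + v) + q x + q v
  map_zero' := by
    have h0 := quad_zero q hq
    have h2 : (2 : F) = 0 := CharTwo.two_eq_zero
    rw [zero_add, h0]
    linear_combination q v * h2
  map_add' x y := by
    have h := hq x y v
    have h2 : (2 : F) = 0 := CharTwo.two_eq_zero
    linear_combination h - (q (x + v) + q (y + v) + q x + q y + q v) * h2

omit [Fintype F] in
theorem polarHom_apply (v x : F) : polarHom q hq v x = q (x + v) + q x + q v := rfl

omit [Fintype F] in
theorem quad_add (u v : F) : q (u + v) = polarHom q hq v u + q u + q v := by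
  have h2 : (2 : F) = 0 := CharTwo.two_eq_zero
  rw [polarHom_apply]
  linear_combination (-(q u + q v)) * h2

/-- the `i`-th coordinate (with respect to a basis over the prime field), valued in `F` -/
noncomputable def coordHom {n : ℕ} (b : Basis (Fin n) (ZMod 2) F) (i : Fin n) : F →+ F :=
  ((Algebra.linearMap (ZMod 2) F).comp (b.coord i)).toAddMonoidHom

/-- the `i`-th component of a vector -/
noncomputable def compHom {n : ℕ} (b : Basis (Fin n) (ZMod 2) F) (i : Fin n) : F →+ F :=
  ((b.coord i).smulRight (b i)).toAddMonoidHom

omit hq in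
theorem isQF_partial {n : ℕ} (b : Basis (Fin n) (ZMod 2) F) (S : Finset (Fin n)) :
    (∀ x y z : F, q (x + y + z) + q (x + y) + q (x + z) + q (y + z) + q x + q y + q z = 0) →
    IsQF (fun x => q ((∑ i ∈ S, compHom b i) x)) := by
  intro hq
  classical
  induction S using Finset.induction_on with
  | empty =>
    have : (fun x : F => q ((∑ i ∈ (∅ : Finset (Fin n)), compHom b i) x)) = fun _ => 0 := by
      funext x
      simp [quad_zero q hq]
    rw [this]
    exact IsQF.zero
  | insert i S hi ih =>
    have key : (fun x : F => q ((∑ j ∈ insert i S, compHom b j) x)) =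
        fun x => (coordHom b i x * ((polarHom q hq (b i)).comp (∑ j ∈ S, compHom b j)) x +
          q ((∑ j ∈ S, compHom b j) x)) +
          coordHom b i x * ((AddMonoidHom.mulRight (q (b i))).comp (coordHom b i)) x := by
      funext x
      rw [Finset.sum_insert hi, AddMonoidHom.add_apply, add_comm, quad_add q hq]
      set u := (∑ j ∈ S, compHom b j) x with hu
      have hc : compHom b i x = (b.repr x i) • b i := rfl
      have hξ : coordHom b i x = algebraMap (ZMod 2) F (b.repr x i) := rfl
      rw [hc, hξ]
      simp only [AddMonoidHom.comp_apply, AddMonoidHom.mulRight_apply, hξ]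
      rcases zmod_two_cases (b.repr x i) with h | h
      · rw [h, zero_smul, map_zero]
        have : polarHom q hq 0 u = 0 := by
          rw [polarHom_apply, add_zero, quad_zero q hq]
          have h2 : (2 : F) = 0 := CharTwo.two_eq_zero
          linear_combination q u * h2
        rw [this, quad_zero q hq]
        ring
      · rw [h, one_smul, map_one]
        ring
    rw [key]
    exact ((isQF_mul _ _).add ih).add (isQF_mul _ _)

end quad

end Cfsg.Agent.Lib.Helper3.FieldAut
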