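import Mathlib
import Cfsg.Agent.S3224
import Cfsg.Agent.Lib.Lead.MaxClass4

set_option autoImplicit false
set_option linter.unusedSectionVars false
set_option linter.style.haveILetI false

/-! Fixity two: the action of a finite `2`-group in which every non-identity element fixes at most
two points (towards S3390). -/

namespace Cfsg.Agent.Lib.Helper3.Fix2

open Cfsg MulAction

section Basic

variable {P Ω : Type*} [Group P] [MulAction P Ω]

/-- three fixed points force the identity -/
theorem eq_one_of_three_fixed [Finite Ω]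
    (hfix : ∀ g : P, g ≠ 1 → Nat.card (fixedBy Ω g) ≤ 2) (g : P) (a b c : Ω)
    (hab : a ≠ b) (hac : a ≠ c) (hbc : b ≠ c) (ha : g • a = a) (hb : g • b = b) (hc : g • c = c) :
    g = 1 := by
  by_contra hg
  have h1 := hfix g hg
  have hsub : ({a, b, c} : Set Ω) ⊆ fixedBy Ω g := by
    intro x hx
    rcases hx with rfl | rfl | rfl
    · exact ha
    · exact hb
    · exact hc
  have h2 : ({a, b, c} : Set Ω).ncard = 3 :=
    Set.ncard_eq_three.2 ⟨a, b, c, hab, hac, hbc, rfl⟩
  have h3 : ({a, b, c} : Set Ω).ncard ≤ (fixedBy Ω g).ncard :=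
    Set.ncard_le_ncard hsub (Set.toFinite _)
  rw [Nat.card_coe_set_eq] at h1
  omega

end Basic

section TwoGroup

variable {P Ω : Type*} [Group P] [Finite P] [MulAction P Ω] [Finite Ω]

/-- an element of the normalizer of the point stabilizer outside it, swapping `α` with a second
fixed point of the stabilizer -/
theorem exists_swap (hP : IsPGroup 2 P) (α : Ω) (hUtop : stabilizer P α ≠ ⊤) :
    ∃ t : P, t ∈ Subgroup.normalizer ((stabilizer P α : Subgroup P) : Set P) ∧ t • α ≠ α ∧
      ∀ u ∈ stabilizer P α, u • (t • α) = t • α := by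
  haveI : Fact (Nat.Prime 2) := ⟨Nat.prime_two⟩
  haveI := hP.isNilpotent
  have h1 := Group.normalizerCondition_of_isNilpotent (G := P) (stabilizer P α)
    (lt_top_iff_ne_top.2 hUtop)
  obtain ⟨t, htN, htU⟩ := SetLike.exists_of_lt h1
  refine ⟨t, htN, fun h => htU (mem_stabilizer_iff.2 h), ?_⟩
  intro u hu
  have h2 : t⁻¹ * u * t ∈ stabilizer P α :=
    (Subgroup.mem_normalizer_iff''.1 htN u).1 hu
  have e : u * t = t * (t⁻¹ * u * t) := by group
  rw [← mul_smul, e, mul_smul, mem_stabilizer_iff.1 h2]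

/-- the basic configuration -/
structure Cfg (P Ω : Type*) [Group P] [MulAction P Ω] (α : Ω) (t : P) : Prop where
  pgroup : IsPGroup 2 P
  fix : ∀ g : P, g ≠ 1 → Nat.card (fixedBy Ω g) ≤ 2
  ne_bot : stabilizer P α ≠ ⊥
  tN : t ∈ Subgroup.normalizer ((stabilizer P α : Subgroup P) : Set P)
  tα : t • α ≠ α
  tU : ∀ u ∈ stabilizer P α, u • (t • α) = t • α

variable {α : Ω} {t : P}

theorem Cfg.exists_ne_one (h : Cfg P Ω α t) : ∃ u ∈ stabilizer P α, u ≠ 1 := by
  by_contra hcon
  apply h.ne_bot
  rw [Subgroup.eq_bot_iff_forall]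
  intro x hx
  by_contra hx1
  exact hcon ⟨x, hx, hx1⟩

/-- the fixed points of a non-identity element of the stabilizer -/
theorem Cfg.fixed_of_stab (h : Cfg P Ω α t) (u : P) (hu : u ∈ stabilizer P α) (hu1 : u ≠ 1)
    (γ : Ω) (hγ : u • γ = γ) : γ = α ∨ γ = t • α := by
  by_contra hcon
  rw [not_or] at hcon
  exact hu1 (eq_one_of_three_fixed h.fix u α (t • α) γ (fun e => h.tα e.symm)
    (fun e => hcon.1 e.symm) (fun e => hcon.2 e.symm) (mem_stabilizer_iff.1 hu) (h.tU u hu) hγ)

theorem Cfg.mem_normalizer_of_smul (h : Cfg P Ω α t) (s : P)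
    (hs : s • α = α ∨ s • α = t • α) :
    s ∈ Subgroup.normalizer ((stabilizer P α : Subgroup P) : Set P) := by
  rcases hs with hs | hs
  · exact Subgroup.le_normalizer (mem_stabilizer_iff.2 hs)
  · have h1 : t⁻¹ * s ∈ stabilizer P α := by
      rw [mem_stabilizer_iff, mul_smul, hs, inv_smul_smul]
    have h2 : s = t * (t⁻¹ * s) := by group
    rw [h2]
    exact Subgroup.mul_mem _ h.tN (Subgroup.le_normalizer h1)

theorem Cfg.smul_of_mem_normalizer (h : Cfg P Ω α t) (s : P)
    (hs : s ∈ Subgroup.normalizer ((stabilizer P α : Subgroup P) : Set P)) :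
    s • α = α ∨ s • α = t • α := by
  obtain ⟨u, hu, hu1⟩ := h.exists_ne_one
  apply h.fixed_of_stab u hu hu1
  have h2 : s⁻¹ * u * s ∈ stabilizer P α := (Subgroup.mem_normalizer_iff''.1 hs u).1 hu
  have e : u * s = s * (s⁻¹ * u * s) := by group
  rw [← mul_smul, e, mul_smul, mem_stabilizer_iff.1 h2]

/-- if a non-identity element of the stabilizer has a conjugate by `g` in the stabilizer then `g`
normalizes the stabilizer -/
theorem Cfg.mem_normalizer_of_conj (h : Cfg P Ω α t) (g w : P) (hw : w ∈ stabilizer P α)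
    (hw1 : w ≠ 1) (hgw : g⁻¹ * w * g ∈ stabilizer P α) :
    g ∈ Subgroup.normalizer ((stabilizer P α : Subgroup P) : Set P) := by
  apply h.mem_normalizer_of_smul
  apply h.fixed_of_stab w hw hw1
  have e : w * g = g * (g⁻¹ * w * g) := by group
  rw [← mul_smul, e, mul_smul, mem_stabilizer_iff.1 hgw]

/-- the stabilizer has index two in its normalizer -/
theorem Cfg.card_normalizer (h : Cfg P Ω α t) :
    Nat.card (Subgroup.normalizer ((stabilizer P α : Subgroup P) : Set P)) =
      2 * Nat.card (stabilizer P α) := by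
  set N := Subgroup.normalizer ((stabilizer P α : Subgroup P) : Set P) with hN
  have hle : stabilizer P α ≤ N := Subgroup.le_normalizer
  have hidx : ((stabilizer P α).subgroupOf N).index = 2 := by
    rw [Subgroup.index_eq_two_iff']
    refine ⟨⟨t⁻¹, N.inv_mem h.tN⟩, ?_⟩
    intro b
    rw [Subgroup.mem_subgroupOf, Subgroup.mem_subgroupOf]
    show Xor (t⁻¹ * (b : P) ∈ stabilizer P α) ((b : P) ∈ stabilizer P α)
    rcases h.smul_of_mem_normalizer b b.2 with hb | hb
    · right
      refine ⟨mem_stabilizer_iff.2 hb, ?_⟩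
      rw [mem_stabilizer_iff, mul_smul, hb]
      intro h1
      apply h.tα
      have := congrArg (fun x => t • x) h1
      simpa using this.symm
    · left
      refine ⟨?_, ?_⟩
      · rw [mem_stabilizer_iff, mul_smul, hb, inv_smul_smul]
      · rw [mem_stabilizer_iff, hb]
        exact h.tα
  have h1 := Subgroup.card_mul_index ((stabilizer P α).subgroupOf N)
  rw [hidx] at h1
  have h2 : Nat.card ((stabilizer P α).subgroupOf N) = Nat.card (stabilizer P α) :=
    Nat.card_congr (Subgroup.subgroupOfEquivOfLe hle).toEquiv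
  rw [h2] at h1
  omega

/-- Case B: the normalizer of the stabilizer is proper -/
theorem Cfg.caseB (h : Cfg P Ω α t)
    (hB : Subgroup.normalizer ((stabilizer P α : Subgroup P) : Set P) ≠ ⊤) :
    Nat.card (stabilizer P α) = 2 ∧ ∃ u : P, orderOf u = 2 ∧
      Nat.card (Subgroup.centralizer ({u} : Set P)) = 4 ∧ 4 < Nat.card P := by
  haveI : Fact (Nat.Prime 2) := ⟨Nat.prime_two⟩
  haveI := h.pgroup.isNilpotent
  set U := stabilizer P α with hU
  set N := Subgroup.normalizer ((U : Subgroup P) : Set P) with hN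
  have hUN : U ≤ N := Subgroup.le_normalizer
  have h1 := Group.normalizerCondition_of_isNilpotent (G := P) N (lt_top_iff_ne_top.2 hB)
  obtain ⟨g, hgNN, hgN⟩ := SetLike.exists_of_lt h1
  -- trivial intersection
  have hdisj : ∀ a ∈ U, g⁻¹ * a * g ∈ U → a = 1 := by
    intro a ha hga
    by_contra ha1
    exact hgN (h.mem_normalizer_of_conj g a ha ha1 hga)
  -- the injection
  have hconj : ∀ b ∈ U, g * b * g⁻¹ ∈ N := fun b hb =>
    (Subgroup.mem_normalizer_iff.1 hgNN b).1 (hUN hb)
  let f : U × U → N := fun ab => ⟨(ab.1 : P) * (g * (ab.2 : P) * g⁻¹),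
    N.mul_mem (hUN ab.1.2) (hconj _ ab.2.2)⟩
  have hf : Function.Injective f := by
    rintro ⟨a, b⟩ ⟨a', b'⟩ hab
    have h2 : (a : P) * (g * (b : P) * g⁻¹) = (a' : P) * (g * (b' : P) * g⁻¹) :=
      congrArg Subtype.val hab
    have h3 : g⁻¹ * ((a' : P)⁻¹ * (a : P)) * g = (b' : P) * (b : P)⁻¹ := by
      have h4 : (a' : P)⁻¹ * (a : P) = g * (b' : P) * g⁻¹ * (g * (b : P) * g⁻¹)⁻¹ := by
        rw [eq_mul_inv_iff_mul_eq, mul_assoc, h2, inv_mul_cancel_left]
      rw [h4]
      group
    have h5 : (a' : P)⁻¹ * (a : P) = 1 := by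
      apply hdisj _ (U.mul_mem (U.inv_mem a'.2) a.2)
      rw [h3]
      exact U.mul_mem b'.2 (U.inv_mem b.2)
    have h6 : (a : P) = a' := by
      have := inv_mul_eq_one.1 h5
      exact this.symm
    have h7 : (b : P) = b' := by
      rw [h6] at h2
      have h8 := mul_left_cancel h2
      have h9 : g * (b : P) = g * (b' : P) := mul_right_cancel h8
      exact mul_left_cancel h9
    exact Prod.ext (Subtype.ext h6) (Subtype.ext h7)
  have hcard : Nat.card U * Nat.card U ≤ Nat.card N := by
    rw [← Nat.card_prod]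
    exact Nat.card_le_card_of_injective f hf
  have hNc : Nat.card N = 2 * Nat.card U := h.card_normalizer
  have hUpos : 0 < Nat.card U := Nat.card_pos
  have hU2 : Nat.card U ≤ 2 := by
    rw [hNc] at hcard
    exact Nat.le_of_mul_le_mul_right hcard hUpos
  have hU1 : 1 < Nat.card U := (Subgroup.one_lt_card_iff_ne_bot U).2 h.ne_bot
  have hUc : Nat.card U = 2 := by omega
  refine ⟨hUc, ?_⟩
  obtain ⟨u, hu, hu1⟩ := h.exists_ne_one
  have hou : orderOf u = 2 := by
    have h2 : orderOf u ∣ 2 := by
      rw [← hUc]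
      exact Subgroup.orderOf_dvd_natCard U hu
    rcases (Nat.dvd_prime Nat.prime_two).1 h2 with h3 | h3
    · exact absurd (orderOf_eq_one_iff.1 h3) hu1
    · exact h3
  have huniq : ∀ y ∈ U, y ≠ 1 → y = u := by
    intro y hy hy1
    obtain ⟨z, _, hz⟩ := (Nat.card_eq_two_iff' (1 : U)).1 hUc
    have e1 : (⟨y, hy⟩ : U) = z := hz _ (fun e => hy1 (congrArg Subtype.val e))
    have e2 : (⟨u, hu⟩ : U) = z := hz _ (fun e => hu1 (congrArg Subtype.val e))
    exact congrArg Subtype.val (e1.trans e2.symm)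
  have hcent : Subgroup.centralizer ({u} : Set P) = N := by
    apply le_antisymm
    · intro c hc
      have h2 : u * c = c * u := (Subgroup.mem_centralizer_iff.1 hc) u rfl
      apply h.mem_normalizer_of_conj c u hu hu1
      have e : c⁻¹ * u * c = u := by
        rw [mul_assoc, h2, inv_mul_cancel_left]
      rw [e]
      exact hu
    · intro s hs
      rw [Subgroup.mem_centralizer_iff]
      intro y hy
      rw [Set.mem_singleton_iff] at hy
      subst hy
      have h2 : s * y * s⁻¹ ∈ U := (Subgroup.mem_normalizer_iff.1 hs y).1 hu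
      have h3 : s * y * s⁻¹ ≠ 1 := by
        intro e
        apply hu1
        have : y = s⁻¹ * (s * y * s⁻¹) * s := by group
        rw [this, e]
        group
      have h4 := huniq _ h2 h3
      calc y * s = s * y * s⁻¹ * s := by rw [h4]
        _ = s * y := by group
  refine ⟨u, hou, ?_, ?_⟩
  · rw [hcent, hNc, hUc]
  · have h2 : Nat.card N < Nat.card P := by
      have h3 : Nat.card N ≤ Nat.card P := Subgroup.card_le_card_group N
      have h4 : Nat.card N ≠ Nat.card P := fun e => hB ((Subgroup.card_eq_iff_eq_top N).1 e)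
      omega
    rw [hNc, hUc] at h2
    exact h2

/-- Case A: the stabilizer is normal: it has index two -/
theorem Cfg.index_of_normalizer_eq_top (h : Cfg P Ω α t)
    (hA : Subgroup.normalizer ((stabilizer P α : Subgroup P) : Set P) = ⊤) :
    (stabilizer P α).index = 2 := by
  have h1 := h.card_normalizer
  rw [hA, Subgroup.card_top] at h1
  have h2 := Subgroup.card_mul_index (stabilizer P α)
  have hpos : 0 < Nat.card (stabilizer P α) := Nat.card_pos
  rw [h1, mul_comm 2] at h2
  exact Nat.eq_of_mul_eq_mul_left hpos h2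

theorem Cfg.all_smul (h : Cfg P Ω α t)
    (hA : Subgroup.normalizer ((stabilizer P α : Subgroup P) : Set P) = ⊤) (s : P) :
    s • α = α ∨ s • α = t • α :=
  h.smul_of_mem_normalizer s (by rw [hA]; exact Subgroup.mem_top s)

theorem Cfg.eq_one_of_mem_stab (h : Cfg P Ω α t) (γ : Ω) (hγα : γ ≠ α) (hγβ : γ ≠ t • α)
    (x : P) (hx : x ∈ stabilizer P γ) (hxU : x ∈ stabilizer P α) : x = 1 :=
  eq_one_of_three_fixed h.fix x α (t • α) γ (fun e => h.tα e.symm) (fun e => hγα e.symm)
    (fun e => hγβ e.symm) (mem_stabilizer_iff.1 hxU) (h.tU x hxU) (mem_stabilizer_iff.1 hx)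

/-- Case A2: a non-trivial stabilizer of a further point -/
theorem Cfg.caseA2 (h : Cfg P Ω α t) (hidx : (stabilizer P α).index = 2)
    (γ : Ω) (hγα : γ ≠ α) (hγβ : γ ≠ t • α) (x : P) (hx : x ∈ stabilizer P γ) (hx1 : x ≠ 1) :
    orderOf x = 2 ∧ Nat.card (Subgroup.centralizer ({x} : Set P)) = 4 ∧
      (Nat.card P = 4 → ¬ IsCyclic P) := by
  classical
  haveI : Fact (Nat.Prime 2) := ⟨Nat.prime_two⟩
  set U := stabilizer P α with hU
  have hxU : x ∉ U := fun hxU => hx1 (h.eq_one_of_mem_stab γ hγα hγβ x hx hxU)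
  -- `x` is an involution
  have hxx : x * x = 1 := by
    apply h.eq_one_of_mem_stab γ hγα hγβ _ (Subgroup.mul_mem _ hx hx)
    exact Subgroup.mul_self_mem_of_index_two hidx x
  have hox : orderOf x = 2 := orderOf_eq_prime (by rw [pow_two]; exact hxx) hx1
  -- the stabilizer of `γ` is `{1, x}`
  have hstab : ∀ y ∈ stabilizer P γ, y = 1 ∨ y = x := by
    intro y hy
    by_cases hyU : y ∈ U
    · exact Or.inl (h.eq_one_of_mem_stab γ hγα hγβ y hy hyU)
    · right
      have h1 : x⁻¹ * y ∈ U := by
        rw [Subgroup.mul_mem_iff_of_index_two hidx]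
        constructor
        · intro h2
          exact absurd (by simpa using U.inv_mem h2) hxU
        · intro h2
          exact absurd h2 hyU
      have h2 := h.eq_one_of_mem_stab γ hγα hγβ _
        (Subgroup.mul_mem _ (Subgroup.inv_mem _ hx) hy) h1
      exact (inv_mul_eq_one.1 h2).symm
  have hstabcard : Nat.card (stabilizer P γ) ≤ 2 := by
    have hsub : ((stabilizer P γ : Subgroup P) : Set P) ⊆ ({1, x} : Set P) := by
      intro y hy
      rcases hstab y hy with e | e
      · left; exact e
      · right; exact e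
    calc Nat.card (stabilizer P γ) = ((stabilizer P γ : Subgroup P) : Set P).ncard :=
          Nat.card_coe_set_eq _
      _ ≤ ({1, x} : Set P).ncard := Set.ncard_le_ncard hsub (Set.toFinite _)
      _ ≤ ({x} : Set P).ncard + 1 := Set.ncard_insert_le 1 {x}
      _ = 2 := by rw [Set.ncard_singleton]
  -- the centralizer
  set C := Subgroup.centralizer ({x} : Set P) with hC
  have hxC : x ∈ C := Subgroup.mem_centralizer_iff.2 (fun y hy => by
    rw [Set.mem_singleton_iff] at hy; rw [hy])
  have hle4 : Nat.card C ≤ 4 := by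
    have h1 : Nat.card (orbit C γ) * Nat.card (stabilizer C γ) = Nat.card C := by
      rw [← Nat.card_prod]
      exact Nat.card_congr (MulAction.orbitProdStabilizerEquivGroup C γ)
    have h2 : Nat.card (orbit C γ) ≤ 2 := by
      have hsub : orbit C γ ⊆ fixedBy Ω x := by
        rintro _ ⟨c, rfl⟩
        show x • (c • γ) = c • γ
        have hc : x * (c : P) = (c : P) * x := (Subgroup.mem_centralizer_iff.1 c.2) x rfl
        show x • ((c : P) • γ) = (c : P) • γ
        rw [← mul_smul, hc, mul_smul, mem_stabilizer_iff.1 hx]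
      exact le_trans (Nat.card_mono (Set.toFinite _) hsub) (h.fix x hx1)
    have h3 : Nat.card (stabilizer C γ) ≤ 2 := by
      let f : stabilizer C γ → stabilizer P γ := fun c => ⟨((c : C) : P), by
        have := c.2
        rw [mem_stabilizer_iff] at this ⊢
        exact this⟩
      have hf : Function.Injective f := by
        intro a b hab
        have : ((a : C) : P) = ((b : C) : P) := congrArg (fun z : stabilizer P γ => (z : P)) hab
        exact Subtype.ext (Subtype.ext this)
      exact le_trans (Nat.card_le_card_of_injective f hf) hstabcard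
    calc Nat.card C = Nat.card (orbit C γ) * Nat.card (stabilizer C γ) := h1.symm
      _ ≤ 2 * 2 := Nat.mul_le_mul h2 h3
      _ = 4 := rfl
  have hPcard : Nat.card P = 2 * Nat.card U := by
    have h1 := Subgroup.card_mul_index U
    rw [hidx] at h1
    omega
  have hU1 : 1 < Nat.card U := (Subgroup.one_lt_card_iff_ne_bot U).2 h.ne_bot
  obtain ⟨n, hn⟩ := (h.pgroup.to_subgroup C).exists_card_eq
  have hC1 : 1 < Nat.card C := by
    rw [Subgroup.one_lt_card_iff_ne_bot]
    intro e
    rw [e, Subgroup.mem_bot] at hxC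
    exact hx1 hxC
  have hne2 : Nat.card C ≠ 2 := by
    intro hC2
    haveI : Nontrivial P := ⟨⟨x, 1, hx1⟩⟩
    haveI := h.pgroup.center_nontrivial
    have hZC : Subgroup.center P ≤ C := Subgroup.center_le_centralizer _
    have hZ1 : 1 < Nat.card (Subgroup.center P) := Finite.one_lt_card
    have hZeq : Subgroup.center P = C := by
      apply Subgroup.eq_of_le_of_card_ge hZC
      rw [hC2]
      omega
    have hxZ : x ∈ Subgroup.center P := by rw [hZeq]; exact hxC
    have hCtop : C = ⊤ := by
      rw [eq_top_iff]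
      intro y _
      rw [Subgroup.mem_centralizer_iff]
      intro z hz
      rw [Set.mem_singleton_iff] at hz
      subst hz
      exact ((Subgroup.mem_center_iff.1 hxZ) y).symm
    rw [hCtop, Subgroup.card_top] at hC2
    omega
  have hC4 : Nat.card C = 4 := by
    have hn3 : n < 3 := by
      by_contra hcon
      have h1 : 2 ^ 3 ≤ 2 ^ n := Nat.pow_le_pow_right (by norm_num) (by omega)
      omega
    interval_cases n <;> omega
  refine ⟨hox, hC4, ?_⟩
  intro hP4 hcyc
  have hUc : Nat.card U = 2 := by omega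
  obtain ⟨u, hu, hu1⟩ := h.exists_ne_one
  have hou : orderOf u = 2 := by
    have h2 : orderOf u ∣ 2 := by
      rw [← hUc]
      exact Subgroup.orderOf_dvd_natCard U hu
    rcases (Nat.dvd_prime Nat.prime_two).1 h2 with h3 | h3
    · exact absurd (orderOf_eq_one_iff.1 h3) hu1
    · exact h3
  have hux : u ≠ x := fun e => hxU (e ▸ hu)
  haveI : Fintype P := Fintype.ofFinite P
  have htot := IsCyclic.card_orderOf_eq_totient (α := P) (d := 2)
    (by rw [← Nat.card_eq_fintype_card, hP4]; norm_num)
  rw [Nat.totient_two] at htot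
  have h1 : 1 < (Finset.univ.filter fun a : P => orderOf a = 2).card :=
    Finset.one_lt_card.2 ⟨u, by simp [hou], x, by simp [hox], hux⟩
  omega

/-- the structure of a finite `2`-group of fixity at most two with a non-trivial proper point
stabilizer -/
theorem fix2_pgroup (hP : IsPGroup 2 P)
    (hfix : ∀ g : P, g ≠ 1 → Nat.card (fixedBy Ω g) ≤ 2) (α : Ω)
    (hU1 : stabilizer P α ≠ ⊥) (hUtop : stabilizer P α ≠ ⊤) :
    (((∃ n : ℕ, Nonempty (P ≃* DihedralGroup n)) ∨ Cfsg.IsQuasiDihedral P) ∧
      (Nat.card (stabilizer P α) = 2 ∨ (stabilizer P α).index = 2)) ∨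
    ((stabilizer P α).index = 2 ∧ ∃ β : Ω, β ≠ α ∧ (∀ s : P, s • α = α ∨ s • α = β) ∧
      (∀ u ∈ stabilizer P α, u • β = β) ∧ ∀ γ : Ω, γ ≠ α → γ ≠ β → stabilizer P γ = ⊥) := by
  obtain ⟨t, htN, htα, htU⟩ := exists_swap hP α hUtop
  have h : Cfg P Ω α t := ⟨hP, hfix, hU1, htN, htα, htU⟩
  by_cases hA : Subgroup.normalizer ((stabilizer P α : Subgroup P) : Set P) = ⊤
  · have hidx := h.index_of_normalizer_eq_top hA
    by_cases hex : ∃ γ : Ω, γ ≠ α ∧ γ ≠ t • α ∧ stabilizer P γ ≠ ⊥
    · obtain ⟨γ, hγα, hγβ, hγ⟩ := hex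
      obtain ⟨x, hx, hx1⟩ : ∃ x ∈ stabilizer P γ, x ≠ 1 := by
        by_contra hcon
        apply hγ
        rw [Subgroup.eq_bot_iff_forall]
        intro x hx
        by_contra hx1
        exact hcon ⟨x, hx, hx1⟩
      obtain ⟨hox, hC4, hnc⟩ := h.caseA2 hidx γ hγα hγβ x hx hx1
      left
      refine ⟨?_, Or.inr hidx⟩
      rcases Cfsg.Agent.S3224.result hP x hox hC4 with h1 | h1 | h1
      · exact Or.inl h1
      · exact Or.inr h1
      · left
        haveI := Cfsg.Agent.Lib.Lead.isKleinFour_of_card_four_of_not_isCyclic h1 (hnc h1)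
        exact ⟨2, IsKleinFour.nonempty_mulEquiv⟩
    · right
      refine ⟨hidx, t • α, htα, h.all_smul hA, htU, ?_⟩
      intro γ hγα hγβ
      by_contra hne
      exact hex ⟨γ, hγα, hγβ, hne⟩
  · obtain ⟨hU2, u, hou, hC4, h4⟩ := h.caseB hA
    left
    refine ⟨?_, Or.inl hU2⟩
    rcases Cfsg.Agent.S3224.result hP u hou hC4 with h1 | h1 | h1
    · exact Or.inl h1
    · exact Or.inr h1
    · omega

end TwoGroup

end Cfsg.Agent.Lib.Helper3.Fix2
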