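import Mathlib
import Cfsg.Agent.Lib.Helper4.TransferSect2

set_option autoImplicit false
set_option linter.unusedSectionVars false
set_option linter.style.haveILetI false

/-! A transfer lemma: a subgroup `U` of index two in a Sylow `2`-subgroup `S` that is closed under
fusion in both directions is the intersection of `S` with a normal subgroup of index two
(towards S3390). -/

namespace Cfsg.Agent.Lib.Helper3.Fix2

open Cfsg Cfsg.Agent.Lib.Helper4

variable {G : Type*} [Group G]

open Classical in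
/-- the sign homomorphism of a subgroup of index two -/
noncomputable def signHom (S : Subgroup G) (U' : Subgroup S) (hidx : U'.index = 2) : ↥S →* ℤˣ :=
  MonoidHom.mk' (fun s => if s ∈ U' then 1 else -1) (by
    intro a b
    by_cases ha : a ∈ U' <;> by_cases hb : b ∈ U' <;>
      simp [ha, hb, Subgroup.mul_mem_iff_of_index_two hidx])

theorem signHom_eq_one_iff (S : Subgroup G) (U' : Subgroup S) (hidx : U'.index = 2) (s : S) :
    signHom S U' hidx s = 1 ↔ s ∈ U' := by
  classical
  unfold signHom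
  rw [MonoidHom.mk'_apply]
  by_cases hs : s ∈ U'
  · simp [hs]
  · simp [hs]

theorem signHom_sq (S : Subgroup G) (U' : Subgroup S) (hidx : U'.index = 2) (s : S) :
    signHom S U' hidx s = 1 ∨ signHom S U' hidx s = -1 := Int.units_eq_one_or _

theorem exists_normal_index_two_of_closed [Finite G] (S : Sylow 2 G) (U : Subgroup G)
    (hUS : U ≤ S) (hidx : U.relIndex S = 2)
    (hcl : ∀ y ∈ (S : Subgroup G), ∀ g : G, g⁻¹ * y * g ∈ (S : Subgroup G) →
      (y ∈ U ↔ g⁻¹ * y * g ∈ U)) :
    ∃ N : Subgroup G, N.Normal ∧ N.index = 2 ∧ N ⊓ S = U := by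
  classical
  haveI : Fact (Nat.Prime 2) := ⟨Nat.prime_two⟩
  set U' := U.subgroupOf (S : Subgroup G) with hU'
  have hidx' : U'.index = 2 := hidx
  set φ := signHom (S : Subgroup G) U' hidx' with hφ
  have hφ1 : ∀ s : (S : Subgroup G), φ s = 1 ↔ (s : G) ∈ U := fun s =>
    (signHom_eq_one_iff _ U' hidx' s).trans Subgroup.mem_subgroupOf
  set V := MonoidHom.transfer φ with hV
  -- evaluation on `S`
  have hodd : Odd (S : Subgroup G).index := by
    rw [← Nat.not_even_iff_odd, even_iff_two_dvd]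
    exact S.not_dvd_index
  have hpow : ∀ s : (S : Subgroup G), φ (s ^ (S : Subgroup G).index) = φ s := by
    intro s
    rw [map_pow]
    rcases signHom_sq _ U' hidx' s with e | e
    · rw [hφ, e, one_pow]
    · rw [hφ, e, hodd.neg_one_pow]
  have heval : ∀ (s : G) (hs : s ∈ (S : Subgroup G)), V s = φ ⟨s, hs⟩ := by
    intro s hs
    rw [← hpow ⟨s, hs⟩]
    apply transfer_eq_pow_of_mem φ s hs
    intro k g₀ hk
    have hsk : s ^ k ∈ (S : Subgroup G) := Subgroup.pow_mem _ hs k
    have h1 := hcl (s ^ k) hsk g₀ hk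
    have h2 : ((⟨s, hs⟩ : (S : Subgroup G)) ^ k) = ⟨s ^ k, hsk⟩ := Subtype.ext (by simp)
    rw [h2]
    by_cases hm : s ^ k ∈ U
    · rw [(hφ1 ⟨s ^ k, hsk⟩).2 hm, (hφ1 ⟨_, hk⟩).2 (h1.1 hm)]
    · have e1 : φ ⟨s ^ k, hsk⟩ = -1 := by
        rcases signHom_sq _ U' hidx' ⟨s ^ k, hsk⟩ with e | e
        · exact absurd ((hφ1 _).1 e) hm
        · exact e
      have e2 : φ ⟨g₀⁻¹ * s ^ k * g₀, hk⟩ = -1 := by
        rcases signHom_sq _ U' hidx' ⟨g₀⁻¹ * s ^ k * g₀, hk⟩ with e | e
        · exact absurd (h1.2 ((hφ1 _).1 e)) hm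
        · exact e
      rw [e1, e2]
  refine ⟨V.ker, inferInstance, ?_, ?_⟩
  · -- index two
    rw [Subgroup.index_ker]
    have hne : U' ≠ ⊤ := by
      intro e
      rw [e, Subgroup.index_top] at hidx'
      omega
    obtain ⟨t, ht⟩ : ∃ t : (S : Subgroup G), t ∉ U' := by
      by_contra hcon
      exact hne (eq_top_iff.2 fun q _ => by
        by_contra hq
        exact hcon ⟨q, hq⟩)
    have hVt : V (t : G) = -1 := by
      rw [heval (t : G) t.2]
      rcases signHom_sq _ U' hidx' ⟨(t : G), t.2⟩ with e | e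
      · exact absurd ((signHom_eq_one_iff _ U' hidx' _).1 e) ht
      · exact e
    have htop : V.range = ⊤ := by
      rw [eq_top_iff]
      intro z _
      rcases Int.units_eq_one_or z with e | e
      · rw [e]; exact Subgroup.one_mem _
      · rw [e, ← hVt]; exact ⟨(t : G), rfl⟩
    rw [htop, Subgroup.card_top, Nat.card_eq_fintype_card, Fintype.card_units_int]
  · ext s
    rw [Subgroup.mem_inf, MonoidHom.mem_ker]
    constructor
    · rintro ⟨h1, hs⟩
      rw [heval s hs] at h1
      exact (hφ1 _).1 h1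
    · intro hs
      have hsS : s ∈ (S : Subgroup G) := hUS hs
      refine ⟨?_, hsS⟩
      rw [heval s hsS]
      exact (hφ1 _).2 hs

end Cfsg.Agent.Lib.Helper3.Fix2
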