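import Mathlib
import Cfsg.Prelude.Def_Solvable
import Cfsg.Agent.Lib.Helper3.Fix2A

set_option autoImplicit false
set_option linter.unusedSectionVars false
set_option linter.style.haveILetI false

/-! Fixity two: a normal subgroup of index two containing the point stabilizer, in which no
involution fixes two points of one orbit, is a Frobenius group (towards S3390). -/

namespace Cfsg.Agent.Lib.Helper3.Fix2

open Cfsg MulAction
open scoped Pointwise

/-- counting fixed points of an element of prime order -/
theorem card_modEq_fixedBy {M X : Type*} [Group M] [MulAction M X] [Finite X] (y : M) (r : ℕ)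
    [Fact r.Prime] (hy : orderOf y = r) : Nat.card X ≡ Nat.card (fixedBy X y) [MOD r] := by
  have hZ : IsPGroup r (Subgroup.zpowers y) :=
    IsPGroup.of_card (n := 1) (by rw [Nat.card_zpowers, hy, pow_one])
  have h1 := hZ.card_modEq_card_fixedPoints X
  have h2 : fixedPoints (Subgroup.zpowers y) X = fixedBy X y := by
    ext x
    constructor
    · intro hx
      exact hx ⟨y, Subgroup.mem_zpowers y⟩
    · intro hx z
      have hy' : y ∈ stabilizer M x := hx
      have hz : (z : M) ∈ stabilizer M x :=
        (Subgroup.zpowers_le.2 hy') z.2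
      exact hz
  rw [h2] at h1
  exact h1

variable {G Ω : Type*} [Group G] [Finite G] [MulAction G Ω] [Finite Ω]

/-- the core of the Frobenius property -/
theorem eq_one_of_fix_two (htr : IsPretransitive G Ω)
    (hfix : ∀ g : G, g ≠ 1 → Nat.card (fixedBy Ω g) ≤ 2)
    (N : Subgroup G) [N.Normal] (hN : N.index = 2) (α : Ω)
    (hαN : stabilizer G α ≤ N)
    (hinv : ∀ y ∈ N, orderOf y = 2 → ∀ n ∈ N, y • α = α → y • (n • α) = n • α → n • α = α)
    (x : G) (hxN : x ∈ N) (hxα : x • α = α) (n : G) (hn : n ∈ N) (hxn : x • (n • α) = n • α)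
    (hnα : n • α ≠ α) : x = 1 := by
  by_contra hx1
  have ho1 : orderOf x ≠ 1 := fun e => hx1 (orderOf_eq_one_iff.1 e)
  have ho0 : orderOf x ≠ 0 := (orderOf_pos x).ne'
  set r := (orderOf x).minFac with hr
  have hrp : r.Prime := Nat.minFac_prime ho1
  haveI : Fact r.Prime := ⟨hrp⟩
  have hrd : r ∣ orderOf x := Nat.minFac_dvd _
  set y := x ^ (orderOf x / r) with hy
  have hoy : orderOf y = r := orderOf_pow_orderOf_div ho0 hrd
  have hy1 : y ≠ 1 := by
    intro e
    rw [e, orderOf_one] at hoy
    exact hrp.one_lt.ne hoy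
  have hyN : y ∈ N := N.pow_mem hxN _
  have hyα : y • α = α := by
    have : x ∈ stabilizer G α := hxα
    exact (stabilizer G α).pow_mem this _
  have hyn : y • (n • α) = n • α := by
    have : x ∈ stabilizer G (n • α) := hxn
    exact (stabilizer G (n • α)).pow_mem this _
  by_cases hr2 : r = 2
  · exact hnα (hinv y hyN (hoy.trans hr2) n hn hyα hyn)
  · -- the fixed points of `y`
    have hfy : fixedBy Ω y = {α, n • α} := by
      ext ω
      constructor
      · intro hω
        by_contra hcon
        simp only [Set.mem_insert_iff, Set.mem_singleton_iff, not_or] at hcon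
        exact hy1 (eq_one_of_three_fixed hfix y α (n • α) ω (fun e => hnα e.symm)
          (fun e => hcon.1 e.symm) (fun e => hcon.2 e.symm) hyα hyn hω)
      · rintro (rfl | rfl)
        · exact hyα
        · exact hyn
    have hc1 : Nat.card Ω ≡ 2 [MOD r] := by
      have h1 := card_modEq_fixedBy (X := Ω) y r hoy
      have h3 : Nat.card ↑({α, n • α} : Set Ω) = 2 := by
        rw [Nat.card_coe_set_eq, Set.ncard_pair (fun e => hnα e.symm)]
      rw [hfy, h3] at h1
      exact h1
    -- the orbit of `N`
    set yN : N := ⟨y, hyN⟩ with hyN'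
    have hoyN : orderOf yN = r := by
      rw [← hoy]
      exact Subgroup.orderOf_mk y hyN
    have hc2 : Nat.card (orbit N α) ≡ 2 [MOD r] := by
      have h1 := card_modEq_fixedBy (X := orbit N α) yN r hoyN
      have hα1 : α ∈ orbit N α := mem_orbit_self α
      have hα2 : n • α ∈ orbit N α := ⟨⟨n, hn⟩, rfl⟩
      have h2 : fixedBy (orbit N α) yN = {⟨α, hα1⟩, ⟨n • α, hα2⟩} := by
        ext ω
        constructor
        · intro hω
          have h3 : y • (ω : Ω) = ω := congrArg Subtype.val hω
          have h4 : (ω : Ω) ∈ fixedBy Ω y := h3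
          rw [hfy] at h4
          rcases h4 with e | e
          · left; exact Subtype.ext e
          · right; exact Subtype.ext e
        · rintro (rfl | rfl)
          · exact Subtype.ext hyα
          · exact Subtype.ext hyn
      have hne : (⟨α, hα1⟩ : orbit N α) ≠ ⟨n • α, hα2⟩ := fun e =>
        hnα (congrArg Subtype.val e).symm
      have h3 : Nat.card ↑({⟨α, hα1⟩, ⟨n • α, hα2⟩} : Set (orbit N α)) = 2 := by
        rw [Nat.card_coe_set_eq, Set.ncard_pair hne]
      rw [h2, h3] at h1
      exact h1
    have hc3 : Nat.card Ω = Nat.card (orbit N α) * 2 := by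
      have h1 : (stabilizer G α).index = Nat.card Ω := by
        haveI := htr
        exact index_stabilizer_of_transitive G α
      have h2 : (stabilizer N α).index = (orbit N α).ncard := index_stabilizer N α
      have h3 : stabilizer N α = (stabilizer G α).subgroupOf N := by
        ext m
        rw [Subgroup.mem_subgroupOf, mem_stabilizer_iff, mem_stabilizer_iff]
        rfl
      have h4 := Subgroup.relIndex_mul_index hαN
      rw [← h1, ← h4, hN, Nat.card_coe_set_eq, ← h2, h3]
      rfl
    have h5 : Nat.card (orbit N α) * 2 ≡ 2 * 2 [MOD r] := Nat.ModEq.mul_right 2 hc2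
    rw [← hc3] at h5
    have h6 : 2 ≡ 2 * 2 [MOD r] := hc1.symm.trans h5
    have h7 : r ∣ 2 * 2 - 2 := (Nat.modEq_iff_dvd' (by norm_num)).1 h6
    have h8 : r ∣ 2 := by simpa using h7
    exact hr2 ((Nat.prime_dvd_prime_iff_eq hrp Nat.prime_two).1 h8)

/-- the Frobenius complement -/
theorem frobenius_of_index_two (htr : IsPretransitive G Ω)
    (hfix : ∀ g : G, g ≠ 1 → Nat.card (fixedBy Ω g) ≤ 2)
    (N : Subgroup G) [N.Normal] (hN : N.index = 2) (α : Ω)
    (hαN : stabilizer G α ≤ N) (hne : stabilizer G α ≠ ⊥) (hNα : ¬ N ≤ stabilizer G α)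
    (hinv : ∀ y ∈ N, orderOf y = 2 → ∀ n ∈ N, y • α = α → y • (n • α) = n • α → n • α = α) :
    IsFrobeniusComplement ((stabilizer G α).subgroupOf N) := by
  refine ⟨?_, ?_, ?_⟩
  · intro e
    apply hne
    rw [Subgroup.eq_bot_iff_forall]
    intro u hu
    have h1 : (⟨u, hαN hu⟩ : N) ∈ (stabilizer G α).subgroupOf N := Subgroup.mem_subgroupOf.2 hu
    rw [e, Subgroup.mem_bot] at h1
    exact congrArg Subtype.val h1
  · intro e
    exact hNα (Subgroup.subgroupOf_eq_top.1 e)
  · intro g hg
    rw [Subgroup.eq_bot_iff_forall]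
    intro x hx
    obtain ⟨hx1, hx2⟩ := Subgroup.mem_inf.1 hx
    have hxα : (x : G) • α = α := mem_stabilizer_iff.1 (Subgroup.mem_subgroupOf.1 hx1)
    have h3 := Subgroup.mem_pointwise_smul_iff_inv_smul_mem.1 hx2
    have h4 : ((g⁻¹ * x * g : N) : G) ∈ stabilizer G α := by
      have : (MulAut.conj g)⁻¹ • x = g⁻¹ * x * g := by
        rw [MulAut.smul_def, MulAut.conj_inv_apply]
      rw [this] at h3
      exact Subgroup.mem_subgroupOf.1 h3
    have hgα : (g : G) • α ≠ α := fun e => hg (Subgroup.mem_subgroupOf.2 (mem_stabilizer_iff.2 e))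
    have hxg : (x : G) • ((g : G) • α) = (g : G) • α := by
      have h5 : ((g : G)⁻¹ * (x : G) * (g : G)) • α = α := by
        have := mem_stabilizer_iff.1 h4
        simpa using this
      have e : (x : G) * (g : G) = (g : G) * ((g : G)⁻¹ * (x : G) * (g : G)) := by group
      rw [← mul_smul, e, mul_smul, h5]
    have h6 := eq_one_of_fix_two htr hfix N hN α hαN hinv (x : G) x.2 hxα (g : G) g.2 hxg hgα
    exact Subtype.ext h6

end Cfsg.Agent.Lib.Helper3.Fix2
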