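import Mathlib
import Cfsg.Prelude.Def_Solvable
import Cfsg.Prelude.Def_CaseTheorems
import Cfsg.Agent.Lib.Helper3.Fix2A
import Cfsg.Agent.Lib.Helper3.Fix2B
import Cfsg.Agent.Lib.Helper3.Fix2C

set_option autoImplicit false
set_option linter.unusedSectionVars false
set_option linter.style.haveILetI false

/-! Fixity two: the structure of a Sylow `2`-subgroup (S3390), assembled. -/

namespace Cfsg.Agent.Lib.Helper3.Fix2

open Cfsg MulAction
open scoped Pointwise

section Aux

variable {G Ω : Type*} [Group G] [MulAction G Ω]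

theorem stabilizer_subgroup_eq (K : Subgroup G) (α : Ω) :
    stabilizer K α = (K ⊓ stabilizer G α).subgroupOf K := by
  ext m
  rw [Subgroup.mem_subgroupOf, Subgroup.mem_inf, mem_stabilizer_iff, mem_stabilizer_iff]
  constructor
  · intro h
    exact ⟨m.2, h⟩
  · intro h
    exact h.2

theorem card_stabilizer_subgroup (K : Subgroup G) (α : Ω) :
    Nat.card (stabilizer K α) = Nat.card ↥(K ⊓ stabilizer G α) := by
  rw [stabilizer_subgroup_eq]
  exact Nat.card_congr (Subgroup.subgroupOfEquivOfLe inf_le_left).toEquiv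

/-- a `2`-element is conjugate into a given Sylow `2`-subgroup -/
theorem exists_conj_mem_sylow [Finite G] (S : Sylow 2 G) (a : G) (k : ℕ) (ha : a ^ 2 ^ k = 1) :
    ∃ g : G, g⁻¹ * a * g ∈ (S : Subgroup G) := by
  haveI : Fact (Nat.Prime 2) := ⟨Nat.prime_two⟩
  have hZ : IsPGroup 2 (Subgroup.zpowers a) := by
    rintro ⟨z, hz⟩
    obtain ⟨j, rfl⟩ := Subgroup.mem_zpowers_iff.1 hz
    refine ⟨k, Subtype.ext ?_⟩
    show (a ^ j) ^ 2 ^ k = 1
    rw [← zpow_natCast, ← zpow_mul, mul_comm, zpow_mul, zpow_natCast, ha, one_zpow]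
  obtain ⟨Q, hQ⟩ := hZ.exists_le_sylow
  obtain ⟨g, hg⟩ := MulAction.exists_smul_eq G S Q
  refine ⟨g, ?_⟩
  have h1 : a ∈ (Q : Subgroup G) := hQ (Subgroup.mem_zpowers a)
  rw [← hg, Sylow.coe_subgroup_smul] at h1
  have h2 := Subgroup.mem_pointwise_smul_iff_inv_smul_mem.1 h1
  have h3 : (MulAut.conj g)⁻¹ • a = g⁻¹ * a * g := by
    rw [MulAut.smul_def, MulAut.conj_inv_apply]
  rw [h3] at h2
  exact h2

end Aux

section Main

variable {G : Type*} [Group G] [Finite G] {Ω : Type*} [Finite Ω] [MulAction G Ω] [FaithfulSMul G Ω]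

theorem fix2_sylow (htr : IsPretransitive G Ω)
    (hfix : ∀ g : G, g ≠ 1 → Nat.card (fixedBy Ω g) ≤ 2) (α : Ω) (S : Sylow 2 G) :
    (S : Subgroup G) ⊓ stabilizer G α = ⊥ ∨
    (((∃ n : ℕ, Nonempty (↥(S : Subgroup G) ≃* DihedralGroup n)) ∨
        Cfsg.IsQuasiDihedral ↥(S : Subgroup G)) ∧
       (Nat.card ↥((S : Subgroup G) ⊓ stabilizer G α) = 2 ∨
        ((S : Subgroup G) ⊓ stabilizer G α).relIndex (S : Subgroup G) = 2)) ∨
    (4 ≤ Nat.card (S : Subgroup G) ∧
       (∃ ω : Ω, Nat.card (orbit ↥(S : Subgroup G) ω) = 2 ∧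
          ∀ ω' : Ω, ω' ∉ orbit ↥(S : Subgroup G) ω →
            Nat.card (orbit ↥(S : Subgroup G) ω') = Nat.card (S : Subgroup G)) ∧
       ∃ N : Subgroup G, N.Normal ∧ (N.index = 2 ∨ N.index = Nat.card (S : Subgroup G)) ∧
        (∃ H : Subgroup ↥N, Cfsg.IsFrobeniusComplement H)) ∨
    (S : Subgroup G) ≤ stabilizer G α := by
  classical
  haveI : Fact (Nat.Prime 2) := ⟨Nat.prime_two⟩
  set U := (S : Subgroup G) ⊓ stabilizer G α with hU
  by_cases hU1 : U = ⊥
  · exact Or.inl hU1
  by_cases hSα : (S : Subgroup G) ≤ stabilizer G α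
  · exact Or.inr (Or.inr (Or.inr hSα))
  right
  have hP : IsPGroup 2 (S : Subgroup G) := S.isPGroup'
  have hfixP : ∀ g : (S : Subgroup G), g ≠ 1 → Nat.card (fixedBy Ω g) ≤ 2 := by
    intro g hg
    have h1 : fixedBy Ω g = fixedBy Ω (g : G) := rfl
    rw [h1]
    exact hfix (g : G) (fun e => hg (Subtype.ext e))
  have hstab : stabilizer (S : Subgroup G) α = U.subgroupOf (S : Subgroup G) :=
    stabilizer_subgroup_eq _ α
  have hU1' : stabilizer (S : Subgroup G) α ≠ ⊥ := by
    intro e
    apply hU1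
    rw [Subgroup.eq_bot_iff_forall]
    intro u hu
    have h1 : (⟨u, hu.1⟩ : (S : Subgroup G)) ∈ stabilizer (S : Subgroup G) α := by
      rw [hstab]
      exact Subgroup.mem_subgroupOf.2 hu
    rw [e, Subgroup.mem_bot] at h1
    exact congrArg Subtype.val h1
  have hUtop' : stabilizer (S : Subgroup G) α ≠ ⊤ := by
    intro e
    apply hSα
    intro s hs
    have h1 : (⟨s, hs⟩ : (S : Subgroup G)) ∈ stabilizer (S : Subgroup G) α := by
      rw [e]
      exact Subgroup.mem_top _
    rw [hstab] at h1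
    exact (Subgroup.mem_subgroupOf.1 h1).2
  have hcardU : Nat.card (stabilizer (S : Subgroup G) α) = Nat.card U :=
    card_stabilizer_subgroup _ α
  have hrel : U.relIndex (S : Subgroup G) = (stabilizer (S : Subgroup G) α).index := by
    rw [hstab]
    rfl
  rcases fix2_pgroup hP hfixP α hU1' hUtop' with ⟨hD, hc⟩ | ⟨hidx, β, hβα, hall, hUβ, htriv⟩
  · left
    refine ⟨hD, ?_⟩
    rcases hc with hc | hc
    · left
      rw [← hcardU]
      exact hc
    · right
      rw [hrel]
      exact hc
  · right; left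
    obtain ⟨t, htα⟩ : ∃ t : (S : Subgroup G), t • α = β := by
      by_contra hcon
      apply hUtop'
      rw [eq_top_iff]
      intro s _
      rcases hall s with h1 | h1
      · exact mem_stabilizer_iff.2 h1
      · exact absurd ⟨s, h1⟩ hcon
    have hU2 : 2 ≤ Nat.card U := by
      have := (Subgroup.one_lt_card_iff_ne_bot U).2 hU1
      omega
    have hScard : Nat.card (S : Subgroup G) = Nat.card U * 2 := by
      have h1 := Subgroup.card_mul_index (stabilizer (S : Subgroup G) α)
      rw [hidx, hcardU] at h1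
      exact h1.symm
    have h4 : 4 ≤ Nat.card (S : Subgroup G) := by omega
    have horbα : Nat.card (orbit (S : Subgroup G) α) = 2 := by
      rw [Nat.card_coe_set_eq, ← index_stabilizer]
      exact hidx
    have hβorb : β ∈ orbit (S : Subgroup G) α := ⟨t, htα⟩
    have horb' : ∀ ω' : Ω, ω' ∉ orbit (S : Subgroup G) α →
        Nat.card (orbit (S : Subgroup G) ω') = Nat.card (S : Subgroup G) := by
      intro ω' hω'
      have h1 : ω' ≠ α := fun e => hω' (by rw [e]; exact mem_orbit_self α)
      have h2 : ω' ≠ β := fun e => hω' (by rw [e]; exact hβorb)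
      rw [Nat.card_coe_set_eq, ← index_stabilizer, htriv ω' h1 h2, Subgroup.index_bot]
    have hUnormal : (stabilizer (S : Subgroup G) α).Normal := Subgroup.normal_of_index_eq_two hidx
    have hfixU : ∀ y ∈ (S : Subgroup G), (y ∈ U ↔ ∃ ω : Ω, y • ω = ω) := by
      intro y hy
      constructor
      · intro hyU
        exact ⟨α, mem_stabilizer_iff.1 hyU.2⟩
      · rintro ⟨ω, hω⟩
        refine ⟨hy, ?_⟩
        by_cases h1 : ω = α
        · rw [h1] at hω
          exact mem_stabilizer_iff.2 hω
        by_cases h2 : ω = β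
        · rw [h2, ← htα] at hω
          have h3 : (t⁻¹ * ⟨y, hy⟩ * t : (S : Subgroup G)) ∈ stabilizer (S : Subgroup G) α := by
            rw [mem_stabilizer_iff, mul_smul, mul_smul]
            have h5 : (⟨y, hy⟩ : (S : Subgroup G)) • (t • α) = t • α := hω
            rw [h5, inv_smul_smul]
          have h4 := hUnormal.conj_mem _ h3 t
          have h5 : t * (t⁻¹ * ⟨y, hy⟩ * t) * t⁻¹ = ⟨y, hy⟩ := by group
          rw [h5] at h4
          exact mem_stabilizer_iff.1 h4
        · have h3 : (⟨y, hy⟩ : (S : Subgroup G)) ∈ stabilizer (S : Subgroup G) ω :=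
            mem_stabilizer_iff.2 hω
          rw [htriv ω h1 h2, Subgroup.mem_bot] at h3
          have h5 : y = 1 := congrArg Subtype.val h3
          rw [h5]
          exact Subgroup.one_mem _
    have hcl : ∀ y ∈ (S : Subgroup G), ∀ g : G, g⁻¹ * y * g ∈ (S : Subgroup G) →
        (y ∈ U ↔ g⁻¹ * y * g ∈ U) := by
      intro y hy g hgy
      rw [hfixU y hy, hfixU _ hgy]
      constructor
      · rintro ⟨ω, hω⟩
        refine ⟨g⁻¹ • ω, ?_⟩
        rw [mul_smul, mul_smul, smul_inv_smul, hω]
      · rintro ⟨ω, hω⟩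
        refine ⟨g • ω, ?_⟩
        have e : y * g = g * (g⁻¹ * y * g) := by group
        rw [← mul_smul, e, mul_smul, hω]
    have hrel2 : U.relIndex (S : Subgroup G) = 2 := by
      rw [hrel]
      exact hidx
    obtain ⟨N, hNn, hNidx, hNS⟩ := exists_normal_index_two_of_closed S U inf_le_left hrel2 hcl
    haveI := hNn
    have htN : (t : G) ∉ N := by
      intro h1
      have h2 : (t : G) ∈ U := by
        rw [← hNS]
        exact ⟨h1, t.2⟩
      have h3 : t • α = α := mem_stabilizer_iff.1 h2.2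
      exact hβα (htα ▸ h3)
    have hαN : stabilizer G α ≤ N := by
      intro a ha
      by_contra haN
      obtain ⟨k, m, hm, hkm⟩ := Nat.exists_eq_two_pow_mul_odd (orderOf_pos a).ne'
      have hbN : a ^ m ∉ N := by
        obtain ⟨j, rfl⟩ := hm
        intro h1
        apply haN
        have h2 : (a ^ 2) ^ j ∈ N := N.pow_mem (Subgroup.sq_mem_of_index_two hNidx a) j
        have h3 : a = ((a ^ 2) ^ j)⁻¹ * a ^ (2 * j + 1) := by
          rw [← pow_mul, pow_succ]
          group
        rw [h3]
        exact N.mul_mem (N.inv_mem h2) h1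
      have hb2 : (a ^ m) ^ 2 ^ k = 1 := by
        rw [← pow_mul, mul_comm, ← hkm, pow_orderOf_eq_one]
      obtain ⟨g, hg⟩ := exists_conj_mem_sylow S (a ^ m) k hb2
      have hgN : g⁻¹ * a ^ m * g ∉ N := by
        intro h1
        apply hbN
        have h2 := hNn.conj_mem _ h1 g
        have e : g * (g⁻¹ * a ^ m * g) * g⁻¹ = a ^ m := by group
        rwa [e] at h2
      apply hgN
      have h1 : g⁻¹ * a ^ m * g ∈ U := by
        rw [hfixU _ hg]
        refine ⟨g⁻¹ • α, ?_⟩
        rw [mul_smul, mul_smul, smul_inv_smul]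
        have h2 : a ^ m ∈ stabilizer G α := (stabilizer G α).pow_mem ha m
        rw [mem_stabilizer_iff.1 h2]
      rw [← hNS] at h1
      exact h1.1
    have hne : stabilizer G α ≠ ⊥ := by
      intro e
      apply hU1
      rw [hU, e, inf_bot_eq]
    have hNα : ¬ N ≤ stabilizer G α := by
      intro hle
      apply hU1
      have hN1 : N = ⊥ := by
        rw [Subgroup.eq_bot_iff_forall]
        intro n hn
        apply FaithfulSMul.eq_of_smul_eq_smul (α := Ω)
        intro ω
        haveI := htr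
        obtain ⟨g, rfl⟩ := MulAction.exists_smul_eq G α ω
        have h1 : g⁻¹ * n * g ∈ N := by
          have h2 := hNn.conj_mem n hn g⁻¹
          simpa using h2
        have h2 := mem_stabilizer_iff.1 (hle h1)
        rw [one_smul]
        have e : n * g = g * (g⁻¹ * n * g) := by group
        rw [← mul_smul, e, mul_smul, h2]
      rw [← hNS, hN1, bot_inf_eq]
    have hinv : ∀ y ∈ N, orderOf y = 2 → ∀ n ∈ N, y • α = α → y • (n • α) = n • α →
        n • α = α := by
      intro y hyN hoy n hn hyα hyn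
      by_contra hnα
      obtain ⟨g, hg⟩ := exists_conj_mem_sylow S y 1 (by rw [pow_one, ← hoy, pow_orderOf_eq_one])
      set y' := g⁻¹ * y * g with hy'
      have hy'N : y' ∈ N := by
        have h2 := hNn.conj_mem y hyN g⁻¹
        simpa [hy'] using h2
      have hy'U : y' ∈ U := by
        rw [← hNS]
        exact ⟨hy'N, hg⟩
      have hy'1 : y' ≠ 1 := by
        intro e
        have h1 : y = g * y' * g⁻¹ := by
          rw [hy']
          group
        have h2 : y = 1 := by
          rw [h1, e]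
          group
        rw [h2, orderOf_one] at hoy
        norm_num at hoy
      have hy'α : y' • α = α := mem_stabilizer_iff.1 hy'U.2
      have hy'β : y' • β = β :=
        hUβ ⟨y', hg⟩ (by rw [hstab]; exact Subgroup.mem_subgroupOf.2 hy'U)
      have hy'fix : ∀ ω : Ω, y' • ω = ω → ω = α ∨ ω = β := by
        intro ω hω
        by_contra hcon
        rw [not_or] at hcon
        exact hy'1 (eq_one_of_three_fixed hfix y' α β ω (fun e => hβα e.symm)
          (fun e => hcon.1 e.symm) (fun e => hcon.2 e.symm) hy'α hy'β hω)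
      have h1 : y' • (g⁻¹ • α) = g⁻¹ • α := by
        rw [hy', mul_smul, mul_smul, smul_inv_smul, hyα]
      have h2 : y' • (g⁻¹ • (n • α)) = g⁻¹ • (n • α) := by
        rw [hy', mul_smul, mul_smul, smul_inv_smul, hyn]
      have hβN : ∀ m ∈ N, m • α ≠ β := by
        intro m hm e
        apply htN
        have h3 : (t : G)⁻¹ * m ∈ stabilizer G α := by
          rw [mem_stabilizer_iff, mul_smul, e, ← htα]
          exact inv_smul_smul _ _
        have h4 := hαN h3
        have e2 : (t : G) = m * ((t : G)⁻¹ * m)⁻¹ := by group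
        rw [e2]
        exact N.mul_mem hm (N.inv_mem h4)
      rcases hy'fix _ h1 with e1 | e1 <;> rcases hy'fix _ h2 with e2 | e2
      · apply hnα
        exact smul_left_cancel g⁻¹ (e2.trans e1.symm)
      · have hgN : g⁻¹ ∈ N := hαN (mem_stabilizer_iff.2 e1)
        exact hβN (g⁻¹ * n) (N.mul_mem hgN hn) (by rw [mul_smul]; exact e2)
      · have h3 : g⁻¹ * n ∈ N := hαN (mem_stabilizer_iff.2 (by rw [mul_smul]; exact e2))
        have hgN : g⁻¹ ∈ N := by
          have e : g⁻¹ = (g⁻¹ * n) * n⁻¹ := by group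
          rw [e]
          exact N.mul_mem h3 (N.inv_mem hn)
        exact hβN g⁻¹ hgN e1
      · apply hnα
        exact smul_left_cancel g⁻¹ (e2.trans e1.symm)
    refine ⟨h4, ⟨α, horbα, horb'⟩, N, hNn, Or.inl hNidx, (stabilizer G α).subgroupOf N, ?_⟩
    exact frobenius_of_index_two htr hfix N hNidx α hαN hne hNα hinv

end Main

end Cfsg.Agent.Lib.Helper3.Fix2
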