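import Mathlib
import Cfsg.Prelude.Def_Solvable
import Cfsg.Agent.Lib.Lead.FrobConj1
import Cfsg.Agent.Lib.Lead.FrobSylow

/-!
# S4292, package P5: the direction `⇒`

If `A × B` occurs as a Frobenius complement then so do `A` and `B`, and their orders are coprime.
-/

set_option autoImplicit false
open Pointwise

namespace Cfsg.Agent.Lib.Helper3.FpfP5

open Cfsg.Agent.Lib.Lead

/-- A nontrivial group embedded into a Frobenius complement occurs itself as a Frobenius
complement (inside `K ⊔ range`, `K` the Frobenius kernel). -/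
theorem occurs_of_injective {L : Type} [Group L] [Finite L] {H : Subgroup L}
    (hH : Cfsg.IsFrobeniusComplement H) {C : Type*} [Group C] [Nontrivial C]
    (f : C →* L) (hf : Function.Injective f) (hfH : ∀ c, f c ∈ H) :
    ∃ (L' : Type) (_ : Group L') (_ : Finite L') (H' : Subgroup L'),
      Cfsg.IsFrobeniusComplement H' ∧ Nonempty (C ≃* H') := by
  classical
  obtain ⟨K, hD⟩ := exists_frobData hH
  have hKn : K.Normal := hD.normal
  have hKH : K ⊓ H = ⊥ := hD.inf_eq_bot
  set R : Subgroup L := f.range with hR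
  have hRH : R ≤ H := by
    rintro _ ⟨c, rfl⟩
    exact hfH c
  set M : Subgroup L := K ⊔ R with hM
  have hRM : R ≤ M := le_sup_right
  have hKM : K ≤ M := le_sup_left
  refine ⟨↥M, inferInstance, inferInstance, R.subgroupOf M, ⟨?_, ?_, ?_⟩, ?_⟩
  · -- nontrivial
    intro h0
    obtain ⟨c, hc⟩ := exists_ne (1 : C)
    have h1 : (⟨f c, hRM ⟨c, rfl⟩⟩ : M) ∈ R.subgroupOf M := by
      rw [Subgroup.mem_subgroupOf]
      exact ⟨c, rfl⟩
    rw [h0, Subgroup.mem_bot] at h1
    have h2 : f c = 1 := congrArg Subtype.val h1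
    apply hc
    apply hf
    rw [h2, map_one]
  · -- proper
    intro h0
    apply hD.ne_bot
    rw [eq_bot_iff]
    intro k hk
    have h1 : (⟨k, hKM hk⟩ : M) ∈ R.subgroupOf M := by
      rw [h0]; exact Subgroup.mem_top _
    rw [Subgroup.mem_subgroupOf] at h1
    have h2 : k ∈ K ⊓ H := ⟨hk, hRH h1⟩
    rwa [hKH] at h2
  · -- malnormal
    intro g hg
    rw [eq_bot_iff]
    intro x hx
    rw [Subgroup.mem_bot]
    obtain ⟨hx1, hx2⟩ := Subgroup.mem_inf.mp hx
    rw [Subgroup.mem_subgroupOf] at hx1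
    rw [mem_conj_smul_iff, Subgroup.mem_subgroupOf] at hx2
    -- the underlying element of `g` is outside `H`
    have hgH : (g : L) ∉ H := by
      intro hgH
      apply hg
      rw [Subgroup.mem_subgroupOf]
      have hg2 : (g : L) ∈ ((K ⊔ R : Subgroup L) : Set L) := g.2
      rw [Subgroup.normal_mul] at hg2
      obtain ⟨k, hk, r, hr, hkr⟩ := Set.mem_mul.mp hg2
      have hk1 : k ∈ K ⊓ H := by
        refine ⟨hk, ?_⟩
        have : k = (g : L) * r⁻¹ := by rw [← hkr]; group
        rw [this]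
        exact H.mul_mem hgH (H.inv_mem (hRH hr))
      rw [hKH, Subgroup.mem_bot] at hk1
      rw [← hkr, hk1, one_mul]
      exact hr
    have h0 := hH.2.2 (g : L) hgH
    have h3 : (x : L) ∈ H ⊓ MulAut.conj (g : L) • H := by
      refine Subgroup.mem_inf.mpr ⟨hRH hx1, ?_⟩
      rw [mem_conj_smul_iff]
      have := hRH hx2
      simpa using this
    rw [h0, Subgroup.mem_bot] at h3
    exact Subtype.ext h3
  · -- the isomorphism
    have e1 : C ≃* R := MonoidHom.ofInjective hf
    have e2 : R ≃* R.subgroupOf M := (Subgroup.subgroupOfEquivOfLe hRM).symm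
    exact ⟨e1.trans e2⟩

/-- A Frobenius complement contains no `Z_q × Z_q`. -/
theorem coprime_of_prod {L : Type} [Group L] [Finite L] {H : Subgroup L}
    (hH : Cfsg.IsFrobeniusComplement H) {A B : Type*} [Group A] [Finite A] [Group B] [Finite B]
    (e : (A × B) ≃* H) : (Nat.card A).Coprime (Nat.card B) := by
  classical
  obtain ⟨K, hD⟩ := exists_frobData hH
  rw [Nat.coprime_iff_gcd_eq_one] 
  by_contra hne
  obtain ⟨q, hq, hqd⟩ := Nat.exists_prime_and_dvd hne
  have hqA : q ∣ Nat.card A := hqd.trans (Nat.gcd_dvd_left _ _)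
  have hqB : q ∣ Nat.card B := hqd.trans (Nat.gcd_dvd_right _ _)
  have : Fact q.Prime := ⟨hq⟩
  obtain ⟨a, ha⟩ := exists_prime_orderOf_dvd_card' q hqA
  obtain ⟨b, hb⟩ := exists_prime_orderOf_dvd_card' q hqB
  -- the subgroup `⟨a⟩ × ⟨b⟩` of `A × B`
  set P : Subgroup (A × B) := (Subgroup.zpowers a).prod (Subgroup.zpowers b) with hP
  set φ : (A × B) →* L := H.subtype.comp e.toMonoidHom with hφ
  have hφinj : Function.Injective φ := by
    intro x y hxy
    have : (e x : L) = (e y : L) := hxy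
    exact e.injective (Subtype.ext this)
  set Q : Subgroup L := P.map φ with hQ
  have hQH : Q ≤ H := by
    rintro _ ⟨x, -, rfl⟩
    exact (e x).2
  have hPcomm : ∀ x ∈ P, ∀ y ∈ P, x * y = y * x := by
    rintro ⟨x1, x2⟩ hx ⟨y1, y2⟩ hy
    obtain ⟨hx1, hx2⟩ := Subgroup.mem_prod.mp hx
    obtain ⟨hy1, hy2⟩ := Subgroup.mem_prod.mp hy
    obtain ⟨i, rfl⟩ := Subgroup.mem_zpowers_iff.mp hx1
    obtain ⟨j, rfl⟩ := Subgroup.mem_zpowers_iff.mp hx2
    obtain ⟨k, rfl⟩ := Subgroup.mem_zpowers_iff.mp hy1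
    obtain ⟨l, rfl⟩ := Subgroup.mem_zpowers_iff.mp hy2
    ext
    · exact (Commute.zpow_zpow_self a i k).eq
    · exact (Commute.zpow_zpow_self b j l).eq
  have hQcomm : IsMulCommutative Q := by
    refine ⟨⟨fun u v => ?_⟩⟩
    obtain ⟨x, hx, hxu⟩ := u.2
    obtain ⟨y, hy, hyv⟩ := v.2
    apply Subtype.ext
    show (u : L) * v = v * u
    rw [← hxu, ← hyv, ← map_mul, ← map_mul, hPcomm x hx y hy]
  have hcyc : IsCyclic Q := hD.isCyclic_of_comm Q hQH hQcomm
  -- every element of `Q` has `q`-th power one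
  have hpow : ∀ u : Q, u ^ q = 1 := by
    intro u
    obtain ⟨x, hx, hxu⟩ := u.2
    obtain ⟨hx1, hx2⟩ := Subgroup.mem_prod.mp hx
    apply Subtype.ext
    show (u : L) ^ q = 1
    rw [← hxu, ← map_pow]
    have h1 : x ^ q = 1 := by
      obtain ⟨i, hi⟩ := Subgroup.mem_zpowers_iff.mp hx1
      obtain ⟨j, hj⟩ := Subgroup.mem_zpowers_iff.mp hx2
      ext
      · show x.1 ^ q = 1
        rw [← hi, ← zpow_natCast, ← zpow_mul, mul_comm, zpow_mul, zpow_natCast, ← ha,
          pow_orderOf_eq_one, one_zpow]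
      · show x.2 ^ q = 1
        rw [← hj, ← zpow_natCast, ← zpow_mul, mul_comm, zpow_mul, zpow_natCast, ← hb,
          pow_orderOf_eq_one, one_zpow]
    rw [h1, map_one]
  -- cardinality of `Q`
  have hcardQ : Nat.card Q = q * q := by
    have h1 : Nat.card Q = Nat.card P := by
      rw [hQ]
      exact Nat.card_congr (P.equivMapOfInjective φ hφinj).symm.toEquiv
    have h2 : Nat.card P = Nat.card (Subgroup.zpowers a) * Nat.card (Subgroup.zpowers b) := by
      rw [hP]
      rw [Nat.card_congr (Subgroup.prodEquiv (Subgroup.zpowers a) (Subgroup.zpowers b)).toEquiv,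
        Nat.card_prod]
    rw [h1, h2, Nat.card_zpowers, Nat.card_zpowers, ha, hb]
  let _ : Fintype Q := Fintype.ofFinite Q
  have hle := IsCyclic.card_pow_eq_one_le (α := Q) hq.pos
  have hall : (Finset.univ.filter fun u : Q => u ^ q = 1) = Finset.univ := by
    ext u
    simp [hpow u]
  rw [hall, Finset.card_univ, ← Nat.card_eq_fintype_card, hcardQ] at hle
  have : 2 ≤ q := hq.two_le
  nlinarith

/-- **Package P5**: the direction `⇒` of S4292. -/
theorem of_prod {A B : Type*} [Group A] [Finite A] [Nontrivial A] [Group B] [Finite B]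
    [Nontrivial B]
    (h : ∃ (L : Type) (_ : Group L) (_ : Finite L) (H : Subgroup L),
      Cfsg.IsFrobeniusComplement H ∧ Nonempty ((A × B) ≃* H)) :
    (∃ (L : Type) (_ : Group L) (_ : Finite L) (H : Subgroup L),
        Cfsg.IsFrobeniusComplement H ∧ Nonempty (A ≃* H)) ∧
      (∃ (L : Type) (_ : Group L) (_ : Finite L) (H : Subgroup L),
        Cfsg.IsFrobeniusComplement H ∧ Nonempty (B ≃* H)) ∧
      (Nat.card A).Coprime (Nat.card B) := by
  obtain ⟨L, _, _, H, hH, ⟨e⟩⟩ := h
  refine ⟨?_, ?_, coprime_of_prod hH e⟩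
  · refine occurs_of_injective hH ((H.subtype.comp e.toMonoidHom).comp (MonoidHom.inl A B)) ?_ ?_
    · intro x y hxy
      have h1 : (e (x, 1) : L) = (e (y, 1) : L) := hxy
      have h2 := e.injective (Subtype.ext h1)
      exact (Prod.mk.injEq _ _ _ _ ▸ h2).1
    · intro c
      exact (e (c, 1)).2
  · refine occurs_of_injective hH ((H.subtype.comp e.toMonoidHom).comp (MonoidHom.inr A B)) ?_ ?_
    · intro x y hxy
      have h1 : (e (1, x) : L) = (e (1, y) : L) := hxy
      have h2 := e.injective (Subtype.ext h1)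
      exact (Prod.mk.injEq _ _ _ _ ▸ h2).2
    · intro c
      exact (e (1, c)).2

end Cfsg.Agent.Lib.Helper3.FpfP5
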