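import Mathlib
import Cfsg.Prelude.Def_Solvable
import Cfsg.Agent.Lib.Helper7.FrobCons2
import Cfsg.Agent.Lib.Helper8.FrobeniusConstruct

/-!
# S4292, package P8: a fixed-point-free action gives a Frobenius complement in a group in `Type`
-/

set_option autoImplicit false

namespace Cfsg.Agent.Lib.Helper3.FpfP8

/-- A nontrivial finite group acting without fixed points on a nontrivial finite group occurs as
a Frobenius complement (in a group living in `Type`). -/
theorem frobenius_complement_of_fpf_action {G : Type*} [Group G] [Finite G] [Nontrivial G]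
    {K : Type*} [CommGroup K] [Finite K] [Nontrivial K] (φ : G →* MulAut K)
    (hfpf : ∀ g : G, g ≠ 1 → ∀ v : K, φ g v = v → v = 1) :
    ∃ (L : Type) (_ : Group L) (_ : Finite L) (H : Subgroup L),
      Cfsg.IsFrobeniusComplement H ∧ Nonempty (G ≃* H) := by
  have hF := Cfsg.Agent.Lib.Helper8.isFrobeniusComplement_inr_range φ hfpf
  obtain ⟨L', i1, i2, C', hC', ⟨e'⟩⟩ :=
    Cfsg.Agent.Lib.Helper7.FrobCons.exists_small_frobenius _ hF
  exact ⟨L', i1, i2, C', hC', ⟨(Cfsg.Agent.Lib.Helper8.inrRangeEquiv φ).trans e'⟩⟩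

end Cfsg.Agent.Lib.Helper3.FpfP8
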