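import Mathlib
import Cfsg.Agent.Lib.Helper3.G2C3
import Cfsg.Agent.Lib.Helper3.QDFusion1
set_option autoImplicit false
set_option linter.unusedSectionVars false
set_option linter.unusedVariables false
set_option linter.unusedSimpArgs false
set_option maxRecDepth 100000
open Cfsg Cfsg.Lie Cfsg.Agent.Lib.Helper3.ChevM

/-!
The Chevalley group of type `G₂` in characteristic two has exactly two classes of involutions.
-/

namespace Cfsg.Agent.Lib.Helper3.G2C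

open Cfsg.Agent.Lib.Helper3.ChevAt Cfsg.Agent.Lib.Helper3.ChevAut Cfsg.Agent.Lib.Helper3.ChevU

section
variable {K : Type*} [Field K] [CharP K 2] [Fintype K]

theorem comm_11 : ∀ r < 12, cdG2.D.IsPosRoot r → commEmptyCheck cdG2.D r 11 = true := by decide

/-- The highest root element is central in `U`. -/
theorem central_11 (g : GL cdG2.D.Idx K) (hg : g ∈ cdG2.D.posUnipotent K) (c : K) : g * X 11 c = X 11 c * g := by
  have : cdG2.D.posUnipotent K ≤ Subgroup.centralizer {X 11 c} := by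
    unfold ChevalleyDatum.posUnipotent
    rw [Subgroup.closure_le]
    rintro x ⟨r, t, hr, hx⟩
    have hx' : x = relG2.xU r t := Units.ext hx
    rw [hx']
    show relG2.xU r t ∈ Subgroup.centralizer {X 11 c}
    rw [Subgroup.mem_centralizer_iff]
    intro y hy
    rw [Set.mem_singleton_iff] at hy
    rw [hy]
    exact (commG2.xU_comm r 11 hr.1 (by decide) (comm_11 r hr.1 hr) t c).symm
  have h := this hg
  rw [Subgroup.mem_centralizer_iff] at h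
  exact (h _ rfl).symm

theorem X_eq_one (r : ℕ) (hr : cdG2.D.IsPosRoot r) (c : K) (h : X r c = 1) : c = 0 := by
  have h1 : relG2.xU r c = relG2.xU r 0 := by rw [relG2.xU_zero]; exact h
  exact uhypG2.xU_inj_pos' r hr _ _ h1

/-- A short root element is not conjugate to the highest root element. -/
theorem not_conj_Z (g : GL cdG2.D.Idx K) (hg : g ∈ cdG2.D.group K)
    (hconj : g * X 7 (1 : K) * g⁻¹ = X 11 (1 : K)) : False := by
  obtain ⟨u₁, hu₁, h₁, hh₁, h₀, hh₀, l, hl, u, hu, rfl⟩ := normal_form g hg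
  set n := h₀ * relG2.nWordU l with hn
  set t := X 7 (1 : K) with ht
  have hz : u₁⁻¹ * X 11 (1 : K) * u₁ = X 11 (1 : K) := by
    have := central_11 u₁ hu₁ (1 : K)
    rw [mul_assoc, ← this, ← mul_assoc, inv_mul_cancel, one_mul]
  have e1 : n * (u * t * u⁻¹) * n⁻¹ = h₁⁻¹ * X 11 (1 : K) * (h₁⁻¹)⁻¹ := by
    calc n * (u * t * u⁻¹) * n⁻¹
        = h₁⁻¹ * (u₁⁻¹ * ((u₁ * h₁ * n * u) * t * (u₁ * h₁ * n * u)⁻¹) * u₁) * (h₁⁻¹)⁻¹ := by group
      _ = h₁⁻¹ * (u₁⁻¹ * X 11 (1 : K) * u₁) * (h₁⁻¹)⁻¹ := by rw [hconj]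
      _ = _ := by rw [hz]
  obtain ⟨dd, hdd⟩ := uhypG2.diagonal_conj_xU bnG2 h₁⁻¹ (Subgroup.inv_mem _ hh₁)
  have e2 : h₁⁻¹ * X 11 (1 : K) * (h₁⁻¹)⁻¹ = X 11 (dd 11 * 1) := (hdd 11 (by decide)).2 1
  obtain ⟨d', hd'⟩ := bnG2.mono.conj_word_xU (F := K) bnG2.dec h₀ hh₀ l hl
  obtain ⟨s, hs, hs11⟩ := exists_long l hl
  have hs12 : s < 12 := by
    simp only [List.mem_cons, List.not_mem_nil, or_false] at hs
    rcases hs with rfl | rfl | rfl | rfl | rfl | rfl <;> decide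
  obtain ⟨hd0, hc⟩ := hd' s hs12
  obtain ⟨δ, hδ⟩ : ∃ δ : K, d' s * δ = dd 11 * 1 :=
    ⟨(d' s)⁻¹ * (dd 11 * 1), by rw [← mul_assoc, mul_inv_cancel₀ hd0, one_mul]⟩
  have e3 : u * t * u⁻¹ = X s δ := by
    have h5 := hc δ
    rw [hs11, hδ] at h5
    have h6 : n * (u * t * u⁻¹) * n⁻¹ = n * X s δ * n⁻¹ := by
      rw [e1, e2]
      exact h5.symm
    exact mul_left_cancel (mul_right_cancel h6)
  have hu' : u ∈ cdG2.D.posUnipotent K := uMinus_le_posUnipotent _ _ hu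
  have htm : t ∈ cdG2.D.posUnipotent K := xU_mem_pos atG2 7 (by decide) 1
  have hmem : u * t * u⁻¹ ∈ cdG2.D.posUnipotent K :=
    Subgroup.mul_mem _ (Subgroup.mul_mem _ hu' htm) (Subgroup.inv_mem _ hu')
  have ht1 : t ≠ 1 := fun h => one_ne_zero (X_eq_one 7 (by decide) (1 : K) h)
  have hpos : ∀ (u' : K) (v' w' : K), u * t * u⁻¹ = nf 0 u' 0 0 v' w' → False := by
    intro u' v' w' e4
    have hui : u⁻¹ ∈ cdG2.D.posUnipotent K := Subgroup.inv_mem _ hu'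
    obtain ⟨a1, u1, c1, d1, v1, w1, e5⟩ := exists_nf _ hui
    have e6 : u⁻¹ * (u * t * u⁻¹) * (u⁻¹)⁻¹ = t := by group
    rw [e4, e5] at e6
    exact (g2Sys (K := K)).not_conj_A_one a1 ⟨u1, trivial⟩ c1 d1 ⟨v1, trivial⟩ ⟨w1, trivial⟩
      ⟨u', trivial⟩ 0 0 ⟨v', trivial⟩ ⟨w', trivial⟩ e6
  have hneg : cdG2.D.IsNegRoot s → False := by
    intro hng
    have h1 : u * t * u⁻¹ ∈ cdG2.D.posUnipotent K ⊓ cdG2.D.negUnipotent K := by
      refine ⟨hmem, ?_⟩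
      rw [e3]
      exact xU_mem_neg atG2 s hng _
    rw [pos_inf_neg atG2, Subgroup.mem_bot] at h1
    have h2 : t = 1 := by
      have : t = u⁻¹ * (u * t * u⁻¹) * u := by group
      rw [this, h1]; group
    exact ht1 h2
  simp only [List.mem_cons, List.not_mem_nil, or_false] at hs
  rcases hs with rfl | rfl | rfl | rfl | rfl | rfl
  · exact hneg (by decide)
  · exact hneg (by decide)
  · exact hneg (by decide)
  · exact hpos δ 0 0 (by rw [e3]; simp [nf, X_zero])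
  · exact hpos 0 δ 0 (by rw [e3]; simp [nf, X_zero])
  · exact hpos 0 0 δ (by rw [e3]; simp [nf, X_zero])

theorem X_ne_one (r : ℕ) (hr : cdG2.D.IsPosRoot r) : X r (1 : K) ≠ 1 :=
  fun h => one_ne_zero (X_eq_one r hr (1 : K) h)

theorem orderOf_X (r : ℕ) (hr : cdG2.D.IsPosRoot r) : orderOf (X r (1 : K)) = 2 := by
  refine orderOf_eq_prime ?_ (X_ne_one r hr)
  rw [pow_two]
  exact X_sq r 1

/-- `x_a(1)` is conjugate to `x_{2a+b}(1)`. -/
theorem conj_A_D : (na * nb) * X 7 (1 : K) * (na * nb : GL cdG2.D.Idx K)⁻¹ = X 9 (1 : K) := by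
  have : (na * nb) * X 7 (1 : K) * (na * nb : GL cdG2.D.Idx K)⁻¹ = na * (nb * X 7 (1 : K) * nb⁻¹) * na⁻¹ := by group
  rw [this, nb_conj 7 (by decide), reflB 7 (by decide)]
  show na * X 8 (1 : K) * na⁻¹ = _
  rw [na_conj 8 (by decide), reflA 8 (by decide)]
  rfl

/-- `x_b(1)` is conjugate to `x_{3a+2b}(1)`. -/
theorem conj_B_Z : (nb * na) * X 6 (1 : K) * (nb * na : GL cdG2.D.Idx K)⁻¹ = X 11 (1 : K) := by
  have : (nb * na) * X 6 (1 : K) * (nb * na : GL cdG2.D.Idx K)⁻¹ = nb * (na * X 6 (1 : K) * na⁻¹) * nb⁻¹ := by group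
  rw [this, na_conj 6 (by decide), reflA 6 (by decide)]
  show nb * X 10 (1 : K) * nb⁻¹ = _
  rw [nb_conj 10 (by decide), reflB 10 (by decide)]
  rfl

/-- `x_{2a+b}(1)` is not conjugate to `x_{3a+2b}(1)`. -/
theorem not_conj_D_Z (g : GL cdG2.D.Idx K) (hg : g ∈ cdG2.D.group K)
    (hconj : g * X 9 (1 : K) * g⁻¹ = X 11 (1 : K)) : False := by
  apply not_conj_Z (g * (na * nb)) (Subgroup.mul_mem _ hg (Subgroup.mul_mem _ na_mem nb_mem))
  have : g * (na * nb) * X 7 (1 : K) * (g * (na * nb))⁻¹ = g * ((na * nb) * X 7 (1 : K) * (na * nb)⁻¹) * g⁻¹ := by group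
  rw [this, conj_A_D, hconj]

/-- An involution of `U` is conjugate to one of the two root elements. -/
theorem inv_conj (g : GL cdG2.D.Idx K) (hg : g ∈ cdG2.D.posUnipotent K)
    (hsq : g * g = 1) (hne : g ≠ 1) :
    (∃ k ∈ cdG2.D.group K, k * g * k⁻¹ = X 9 (1 : K)) ∨ (∃ k ∈ cdG2.D.group K, k * g * k⁻¹ = X 11 (1 : K)) := by
  obtain ⟨a, u, c, d, v, w, rfl⟩ := exists_nf g hg
  rcases (g2Sys (K := K)).good_of_sq a ⟨u, trivial⟩ c d ⟨v, trivial⟩ ⟨w, trivial⟩ hsq hne with ⟨k, hk, e⟩ | ⟨k, hk, e⟩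
  · left
    refine ⟨(na * nb) * k, Subgroup.mul_mem _ (Subgroup.mul_mem _ na_mem nb_mem) hk, ?_⟩
    have e' : k * nf a u c d v w * k⁻¹ = X 7 (1 : K) := e
    have : (na * nb) * k * nf a u c d v w * ((na * nb) * k)⁻¹ = (na * nb) * (k * nf a u c d v w * k⁻¹) * (na * nb)⁻¹ := by
      group
    rw [this, e', conj_A_D]
  · right
    refine ⟨(nb * na) * k, Subgroup.mul_mem _ (Subgroup.mul_mem _ nb_mem na_mem) hk, ?_⟩
    have e' : k * nf a u c d v w * k⁻¹ = X 6 (1 : K) := e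
    have : (nb * na) * k * nf a u c d v w * ((nb * na) * k)⁻¹ = (nb * na) * (k * nf a u c d v w * k⁻¹) * (nb * na)⁻¹ := by
      group
    rw [this, e', conj_B_Z]

/-- Every involution of the group is conjugate to one of the two root elements. -/
theorem inv_conj_group (g : GL cdG2.D.Idx K) (hg : g ∈ cdG2.D.group K) (ho : orderOf g = 2) :
    (∃ k ∈ cdG2.D.group K, k * g * k⁻¹ = X 9 (1 : K)) ∨ (∃ k ∈ cdG2.D.group K, k * g * k⁻¹ = X 11 (1 : K)) := by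
  have : Fact (Nat.Prime 2) := ⟨Nat.prime_two⟩
  obtain ⟨S, hS⟩ := g2_sylow (F := K) 2
  have ho' : orderOf (⟨g, hg⟩ : ↥(cdG2.D.group K)) = 2 := by
    rw [← ho]
    exact (Subgroup.orderOf_coe (⟨g, hg⟩ : ↥(cdG2.D.group K))).symm
  obtain ⟨k, hk⟩ := exists_conj_mem_sylow S (⟨g, hg⟩ : ↥(cdG2.D.group K)) 1 (by rw [ho', pow_one])
  rw [hS] at hk
  have hmem : (k : GL cdG2.D.Idx K) * g * (k : GL cdG2.D.Idx K)⁻¹ ∈ cdG2.D.posUnipotent K := hk
  have hg2 : g * g = 1 := by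
    have := pow_orderOf_eq_one g
    rwa [ho, pow_two] at this
  have hsq : ((k : GL cdG2.D.Idx K) * g * (k : GL cdG2.D.Idx K)⁻¹) * ((k : GL cdG2.D.Idx K) * g * (k : GL cdG2.D.Idx K)⁻¹) = 1 := by
    have : ((k : GL cdG2.D.Idx K) * g * (k : GL cdG2.D.Idx K)⁻¹) * ((k : GL cdG2.D.Idx K) * g * (k : GL cdG2.D.Idx K)⁻¹) =
        (k : GL cdG2.D.Idx K) * (g * g) * (k : GL cdG2.D.Idx K)⁻¹ := by group
    rw [this, hg2]; group
  have hne : (k : GL cdG2.D.Idx K) * g * (k : GL cdG2.D.Idx K)⁻¹ ≠ 1 := by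
    intro h
    have h2 : g = 1 := by
      have : g = (k : GL cdG2.D.Idx K)⁻¹ * ((k : GL cdG2.D.Idx K) * g * (k : GL cdG2.D.Idx K)⁻¹) * (k : GL cdG2.D.Idx K) := by group
      rw [this, h]; group
    rw [h2, orderOf_one] at ho
    norm_num at ho
  rcases inv_conj _ hmem hsq hne with ⟨m, hm, e⟩ | ⟨m, hm, e⟩
  · left
    refine ⟨m * k, Subgroup.mul_mem _ hm k.2, ?_⟩
    rw [← e]; group
  · right
    refine ⟨m * k, Subgroup.mul_mem _ hm k.2, ?_⟩
    rw [← e]; group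

/-- The two classes of involutions of the Chevalley group of type `G₂` in characteristic two. -/
theorem g2_involutions :
    (∀ y : GL cdG2.D.Idx K, ((y : GL cdG2.D.Idx K) : Matrix cdG2.D.Idx cdG2.D.Idx K) ∈
        [cdG2.D.x K 11 1, cdG2.D.x K 9 1] → y ∈ cdG2.D.group K ∧ orderOf y = 2) ∧
    (∀ g ∈ cdG2.D.group K, orderOf g = 2 → ∃ y ∈ cdG2.D.group K,
        ((y : GL cdG2.D.Idx K) : Matrix cdG2.D.Idx cdG2.D.Idx K) ∈ [cdG2.D.x K 11 1, cdG2.D.x K 9 1] ∧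
          ∃ h ∈ cdG2.D.group K, h * g * h⁻¹ = y) ∧
    (∀ y₁ ∈ cdG2.D.group K, ∀ y₂ ∈ cdG2.D.group K,
      ((y₁ : GL cdG2.D.Idx K) : Matrix cdG2.D.Idx cdG2.D.Idx K) ∈ [cdG2.D.x K 11 1, cdG2.D.x K 9 1] →
      ((y₂ : GL cdG2.D.Idx K) : Matrix cdG2.D.Idx cdG2.D.Idx K) ∈ [cdG2.D.x K 11 1, cdG2.D.x K 9 1] →
      (∃ h ∈ cdG2.D.group K, h * y₁ * h⁻¹ = y₂) →
        ((y₁ : GL cdG2.D.Idx K) : Matrix cdG2.D.Idx cdG2.D.Idx K) =
          ((y₂ : GL cdG2.D.Idx K) : Matrix cdG2.D.Idx cdG2.D.Idx K)) := by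
  have hval : ∀ (y : GL cdG2.D.Idx K) (r : ℕ), (y : Matrix cdG2.D.Idx cdG2.D.Idx K) = cdG2.D.x K r 1 → y = X r 1 := by
    intro y r h
    apply Units.ext
    rw [h]
    exact (relG2.xU_val r 1).symm
  have hcases : ∀ y : GL cdG2.D.Idx K, ((y : GL cdG2.D.Idx K) : Matrix cdG2.D.Idx cdG2.D.Idx K) ∈
      [cdG2.D.x K 11 1, cdG2.D.x K 9 1] → y = X 11 1 ∨ y = X 9 1 := by
    intro y hy
    simp only [List.mem_cons, List.not_mem_nil, or_false] at hy
    rcases hy with h | h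
    · exact Or.inl (hval y 11 h)
    · exact Or.inr (hval y 9 h)
  refine ⟨?_, ?_, ?_⟩
  · intro y hy
    rcases hcases y hy with rfl | rfl
    · exact ⟨X_mem 11 (by decide) 1, orderOf_X 11 (by decide)⟩
    · exact ⟨X_mem 9 (by decide) 1, orderOf_X 9 (by decide)⟩
  · intro g hg ho
    rcases inv_conj_group g hg ho with ⟨k, hk, e⟩ | ⟨k, hk, e⟩
    · refine ⟨X 9 1, X_mem 9 (by decide) 1, ?_, k, hk, e⟩
      simp only [List.mem_cons, List.not_mem_nil, or_false]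
      exact Or.inr (relG2.xU_val 9 1)
    · refine ⟨X 11 1, X_mem 11 (by decide) 1, ?_, k, hk, e⟩
      simp only [List.mem_cons, List.not_mem_nil, or_false]
      exact Or.inl (relG2.xU_val 11 1)
  · intro y₁ _ y₂ _ h1 h2 ⟨h, hh, e⟩
    rcases hcases y₁ h1 with rfl | rfl <;> rcases hcases y₂ h2 with rfl | rfl
    · rfl
    · exfalso
      apply not_conj_D_Z h⁻¹ (Subgroup.inv_mem _ hh)
      rw [← e]; group
    · exfalso
      exact not_conj_D_Z h hh e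
    · rfl

end

end Cfsg.Agent.Lib.Helper3.G2C
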