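import Mathlib
import Cfsg.Agent.Lib.Helper3.G2C4
import Cfsg.Agent.Lib.Helper3.HiRoot1
set_option autoImplicit false
set_option linter.unusedSectionVars false
set_option linter.unusedVariables false
set_option linter.unusedSimpArgs false
set_option maxRecDepth 100000
open Cfsg Cfsg.Lie Cfsg.Agent.Lib.Helper3.ChevM

/-!
Tools for the centralizers of involutions in the Chevalley group of type `G₂` in characteristic two: the
structure of the diagonal subgroup, root subgroups, the rank one subgroups.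
-/

namespace Cfsg.Agent.Lib.Helper3.G2C

open Cfsg.Agent.Lib.Helper3.ChevAt Cfsg.Agent.Lib.Helper3.ChevAut Cfsg.Agent.Lib.Helper3.ChevU

section
variable {K : Type*} [Field K] [CharP K 2] [Fintype K]

theorem lp_single (s : ℕ) (δ : K) (hs : s ∈ posL) :
    relG2.lp posL (fun r => if r = s then δ else 0) = X s δ := by
  simp only [posL, List.mem_cons, List.not_mem_nil, or_false] at hs
  rcases hs with rfl | rfl | rfl | rfl | rfl | rfl <;>
    simp [RelData.lp, RootSys.lprod, posL, relG2.xU_zero]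

/-- Root elements for distinct positive roots are distinct. -/
theorem X_inj_root (r s : ℕ) (hr : cdG2.D.IsPosRoot r) (hs : cdG2.D.IsPosRoot s) (c c' : K) (hc : c ≠ 0)
    (h : X r c = X s c') : r = s := by
  have hr' := (mem_posL r).mpr hr
  have hs' := (mem_posL s).mpr hs
  rw [← lp_single r c hr', ← lp_single s c' hs'] at h
  have key := uhypG2.lp_inj_of_fintype len_G2 posL posL_nodup mem_posL _ _ h r hr'
  simp only [if_true] at key
  by_contra hne
  rw [if_neg hne] at key
  exact hc key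

/-- An element of `U` times an element of `V` lying in `U`. -/
theorem mixed (p m : GL cdG2.D.Idx K) (hp : p ∈ cdG2.D.posUnipotent K) (hm : m ∈ cdG2.D.negUnipotent K)
    (h : p * m ∈ cdG2.D.posUnipotent K) : m = 1 := by
  have h1 : m ∈ cdG2.D.posUnipotent K ⊓ cdG2.D.negUnipotent K := by
    refine ⟨?_, hm⟩
    have : m = p⁻¹ * (p * m) := by group
    rw [this]
    exact Subgroup.mul_mem _ (Subgroup.inv_mem _ hp) h
  rwa [pos_inf_neg atG2, Subgroup.mem_bot] at h1

theorem X_pos (r : ℕ) (hr : cdG2.D.IsPosRoot r) (c : K) : X r c ∈ cdG2.D.posUnipotent K := xU_mem_pos atG2 r hr c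

theorem X_neg (r : ℕ) (hr : cdG2.D.IsNegRoot r) (c : K) : X r c ∈ cdG2.D.negUnipotent K := xU_mem_neg atG2 r hr c

/-- A negative root element which is trivial has parameter zero. -/
theorem X_eq_one_neg (r : ℕ) (hr : cdG2.D.IsNegRoot r) (c : K) (h : X r c = 1) : c = 0 := by
  have h12 : r < 12 := hr.1
  obtain ⟨l, hl, hpos⟩ : ∃ l : List ℕ, (∀ i ∈ l, i < cdG2.D.rank) ∧ cdG2.D.IsPosRoot (reflW relG2.refl l r) := by
    have : ∀ r < 12, cdG2.D.IsNegRoot r →
        cdG2.D.IsPosRoot (reflW relG2.refl [0, 1, 0, 1, 0, 1] r) := by decide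
    exact ⟨[0, 1, 0, 1, 0, 1], by decide, this r h12 hr⟩
  have h1 := nw_conj (K := K) l hl r h12 c
  rw [h, mul_one, mul_inv_cancel] at h1
  exact X_eq_one _ hpos c h1.symm

/-- The elements of a root subgroup. -/
theorem mem_rootSubgroup (r : ℕ) (g : GL cdG2.D.Idx K) : g ∈ cdG2.D.rootSubgroup K r ↔ ∃ t : K, g = X r t := by
  constructor
  · intro hg
    let T : Subgroup (GL cdG2.D.Idx K) :=
      { carrier := {g | ∃ t : K, g = X r t}
        mul_mem' := by
          rintro a b ⟨t, rfl⟩ ⟨u, rfl⟩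
          exact ⟨t + u, X_add r t u⟩
        one_mem' := ⟨0, (X_zero r).symm⟩
        inv_mem' := by
          rintro a ⟨t, rfl⟩
          exact ⟨t, X_inv r t⟩ }
    have hle : cdG2.D.rootSubgroup K r ≤ T := by
      unfold ChevalleyDatum.rootSubgroup
      rw [Subgroup.closure_le]
      rintro x ⟨t, hx⟩
      exact ⟨t, Units.ext hx⟩
    exact hle hg
  · rintro ⟨t, rfl⟩
    exact relG2.xU_mem_rootSubgroup r t

theorem X_mem_root (r : ℕ) (t : K) : X r t ∈ cdG2.D.rootSubgroup K r := relG2.xU_mem_rootSubgroup r t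

theorem hU_one (r : ℕ) (hr : r < 12) : relG2.hU r (1 : K) = 1 := by
  apply Units.ext
  rw [relG2.hU_val, relG2.hMat_diag r hr 1 one_ne_zero]
  simp

/-- The elements of the diagonal subgroup. -/
theorem exists_hh (h : GL cdG2.D.Idx K) (hh : h ∈ cdG2.D.diagonalSubgroup K) :
    ∃ lam mu : K, lam ≠ 0 ∧ mu ≠ 0 ∧ h = relG2.hU 7 lam * relG2.hU 6 mu := by
  obtain ⟨c, hc, hgc⟩ := relG2.diagonalSubgroup_le_torus bnG2.dec hh
  refine ⟨c 0, c 1, hc 0 (by decide), hc 1 (by decide), ?_⟩
  apply Units.ext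
  rw [hgc, ← relG2.hProd_eq_diag c hc, Units.val_mul, relG2.hU_val, relG2.hU_val]
  have : List.range cdG2.D.rank = [0, 1] := by decide
  rw [this]
  simp only [List.map_cons, List.map_nil, List.prod_cons, List.prod_nil, mul_one]
  rfl

/-- The action of the diagonal elements on the root elements. -/
theorem hh_conj (lam mu : K) (hl : lam ≠ 0) (hm : mu ≠ 0) (s : ℕ) (hs : s < 12) (t : K) :
    (relG2.hU 7 lam * relG2.hU 6 mu) * X s t * (relG2.hU 7 lam * relG2.hU 6 mu)⁻¹ =
      X s (lam ^ (cdG2.D.cartan 0 s) * (mu ^ (cdG2.D.cartan 1 s) * t)) := by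
  have h1 := hU_conj 1 s (by decide) hs mu hm t
  have h0 := hU_conj 0 s (by decide) hs lam hl (mu ^ (cdG2.D.cartan 1 s) * t)
  have e0 : cdG2.D.simple 0 = 7 := by decide
  have e1 : cdG2.D.simple 1 = 6 := by decide
  rw [e1] at h1
  rw [e0] at h0
  rw [← h0, ← h1]
  group

/-- The rank one subgroup attached to the short fundamental root. -/
def La (K : Type*) [Field K] : Subgroup (GL cdG2.D.Idx K) := cdG2.D.rootSubgroup K 7 ⊔ cdG2.D.rootSubgroup K 4

/-- The rank one subgroup attached to the long fundamental root. -/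
def Lb (K : Type*) [Field K] : Subgroup (GL cdG2.D.Idx K) := cdG2.D.rootSubgroup K 6 ⊔ cdG2.D.rootSubgroup K 5

theorem nU7_mem (c : K) : relG2.nU 7 c ∈ La K := by
  rw [relG2.nU_eq]
  have e : cdG2.D.neg 7 = 4 := by decide
  rw [e]
  exact Subgroup.mul_mem _ (Subgroup.mul_mem _ (Subgroup.mem_sup_left (X_mem_root 7 c))
    (Subgroup.mem_sup_right (X_mem_root 4 _))) (Subgroup.mem_sup_left (X_mem_root 7 c))

theorem nU6_mem (c : K) : relG2.nU 6 c ∈ Lb K := by
  rw [relG2.nU_eq]
  have e : cdG2.D.neg 6 = 5 := by decide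
  rw [e]
  exact Subgroup.mul_mem _ (Subgroup.mul_mem _ (Subgroup.mem_sup_left (X_mem_root 6 c))
    (Subgroup.mem_sup_right (X_mem_root 5 _))) (Subgroup.mem_sup_left (X_mem_root 6 c))

theorem hU7_mem (c : K) : relG2.hU 7 c ∈ La K := by
  rw [relG2.hU_eq]
  exact Subgroup.mul_mem _ (nU7_mem c) (nU7_mem _)

theorem hU6_mem (c : K) : relG2.hU 6 c ∈ Lb K := by
  rw [relG2.hU_eq]
  exact Subgroup.mul_mem _ (nU6_mem c) (nU6_mem _)

theorem na_mem_La : (na : GL cdG2.D.Idx K) ∈ La K := by
  have : (na : GL cdG2.D.Idx K) = relG2.nU 7 1 := by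
    unfold na RelData.nWordU
    simp only [List.map_cons, List.map_nil, List.prod_cons, List.prod_nil, mul_one]
    rfl
  rw [this]
  exact nU7_mem 1

theorem nb_mem_Lb : (nb : GL cdG2.D.Idx K) ∈ Lb K := by
  have : (nb : GL cdG2.D.Idx K) = relG2.nU 6 1 := by
    unfold nb RelData.nWordU
    simp only [List.map_cons, List.map_nil, List.prod_cons, List.prod_nil, mul_one]
    rfl
  rw [this]
  exact nU6_mem 1

/-- A word inducing the trivial permutation of the roots represents an element of `H`. -/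
theorem nWordU_mem_diag (l : List ℕ) (hl : ∀ i ∈ l, i < 2) (h : perm l = perm []) :
    relG2.nWordU (F := K) l ∈ cdG2.D.diagonalSubgroup K := by
  apply bnG2.mono.nWordU_mem_diagonal_of_fix (F := K) bnG2.dec _ l rfl hl
  intro s hs
  rw [reflW_eq_of_perm l [] h s hs]
  rfl

end

end Cfsg.Agent.Lib.Helper3.G2C
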