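import Mathlib
import Cfsg.Agent.Lib.Helper3.G2C5
set_option autoImplicit false
set_option linter.unusedSectionVars false
set_option linter.unusedVariables false
set_option linter.unusedSimpArgs false
set_option maxRecDepth 100000
open Cfsg Cfsg.Lie Cfsg.Agent.Lib.Helper3.ChevM

/-!
The centralizer of a long root element in the Chevalley group of type `G₂` in characteristic two.
-/

namespace Cfsg.Agent.Lib.Helper3.G2C

open Cfsg.Agent.Lib.Helper3.ChevAt Cfsg.Agent.Lib.Helper3.ChevAut Cfsg.Agent.Lib.Helper3.ChevU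

section
variable {K : Type*} [Field K] [CharP K 2] [Fintype K]

/-- The elements of the Weyl group fixing the highest root. -/
theorem W12_fix11 : ∀ l' ∈ W12, reflW relG2.refl l' 11 = 11 → perm l' = perm [] ∨ perm l' = perm [0] := by decide

theorem perm_append_self (l : List ℕ) (i : ℕ) (hi : i < 2) (hl : ∀ j ∈ l, j < 2) (h : perm l = perm [i]) :
    perm (l ++ [i]) = perm [] := by
  unfold perm
  apply List.map_congr_left
  intro s hs
  rw [List.mem_range] at hs
  rw [reflW_append]
  have h1 : reflW relG2.refl [i] s < 12 := relG2.reflW_lt [i] (by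
    intro j hj
    simp only [List.mem_cons, List.not_mem_nil, or_false] at hj
    rw [hj]; exact hi) s hs
  rw [reflW_eq_of_perm l [i] h _ h1]
  have : ∀ i < 2, ∀ s < 12, reflW relG2.refl [i] (reflW relG2.refl [i] s) = reflW relG2.refl [] s := by decide
  exact this i hi s hs

/-- A word inducing the permutation of a fundamental reflection. -/
theorem nWordU_of_perm (l : List ℕ) (i : ℕ) (hi : i < 2) (hl : ∀ j ∈ l, j < 2) (h : perm l = perm [i]) :
    ∃ h' ∈ cdG2.D.diagonalSubgroup K, relG2.nWordU (F := K) l = h' * (relG2.nWordU [i])⁻¹ := by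
  have h1 := nWordU_mem_diag (K := K) (l ++ [i]) (by
    intro j hj
    rcases List.mem_append.mp hj with hj | hj
    · exact hl j hj
    · simp only [List.mem_cons, List.not_mem_nil, or_false] at hj
      rw [hj]; exact hi) (perm_append_self l i hi hl h)
  rw [relG2.nWordU_append] at h1
  exact ⟨_, h1, by group⟩

theorem comm_X4_X11 (c d : K) : X 4 c * X 11 d = X 11 d * X 4 c :=
  commG2.xU_comm 4 11 (by decide) (by decide) (by decide) c d

theorem comm_X7_X11 (c d : K) : X 7 c * X 11 d = X 11 d * X 7 c :=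
  commG2.xU_comm 7 11 (by decide) (by decide) (by decide) c d

/-- The rank one subgroup of the short fundamental root centralizes the highest root element. -/
theorem La_le_centralizer (d : K) : La K ≤ Subgroup.centralizer {X 11 d} := by
  unfold La
  refine sup_le ?_ ?_
  · intro g hg
    obtain ⟨t, rfl⟩ := (mem_rootSubgroup 7 g).mp hg
    rw [Subgroup.mem_centralizer_iff]
    intro y hy
    rw [Set.mem_singleton_iff] at hy
    rw [hy]
    exact (comm_X7_X11 t d).symm
  · intro g hg
    obtain ⟨t, rfl⟩ := (mem_rootSubgroup 4 g).mp hg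
    rw [Subgroup.mem_centralizer_iff]
    intro y hy
    rw [Set.mem_singleton_iff] at hy
    rw [hy]
    exact (comm_X4_X11 t d).symm

theorem pos_le_centralizer (d : K) : cdG2.D.posUnipotent K ≤ Subgroup.centralizer {X 11 d} := by
  intro g hg
  rw [Subgroup.mem_centralizer_iff]
  intro y hy
  rw [Set.mem_singleton_iff] at hy
  rw [hy]
  exact (central_11 g hg d).symm

theorem La_le_sup : La K ≤ cdG2.D.posUnipotent K ⊔ cdG2.D.rootSubgroup K 4 := by
  unfold La
  exact sup_le_sup_right (rootSubgroup_le_posUnipotent cdG2.D 7 (by decide)) _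

/-- A diagonal element centralizing the highest root element lies in the rank one subgroup. -/
theorem diag_centralizer_11 (h : GL cdG2.D.Idx K) (hh : h ∈ cdG2.D.diagonalSubgroup K)
    (hc : h * X 11 (1 : K) * h⁻¹ = X 11 (1 : K)) : h ∈ La K := by
  obtain ⟨lam, mu, hl, hm, rfl⟩ := exists_hh h hh
  rw [hh_conj lam mu hl hm 11 (by decide)] at hc
  have e0 : cdG2.D.cartan 0 11 = 0 := by decide
  have e1 : cdG2.D.cartan 1 11 = 1 := by decide
  rw [e0, e1, zpow_zero, zpow_one, one_mul, mul_one] at hc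
  have h1 : X 11 (mu + 1) = (1 : GL cdG2.D.Idx K) := by
    rw [← X_add, hc, X_sq]
  have h2 := X_eq_one 11 (by decide) _ h1
  have hmu : mu = 1 := by
    have : mu = mu + 1 + 1 := by rw [add_assoc, CharTwo.add_self_eq_zero, add_zero]
    rw [this, h2, zero_add]
  rw [hmu, hU_one 6 (by decide), mul_one]
  exact hU7_mem lam

/-- The centralizer of the highest root element. -/
theorem centralizer_11 :
    cdG2.D.group K ⊓ Subgroup.centralizer {X 11 (1 : K)} = cdG2.D.posUnipotent K ⊔ cdG2.D.rootSubgroup K 4 := by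
  apply le_antisymm
  · intro g hg0
    rw [Subgroup.mem_inf] at hg0
    obtain ⟨hg, hgc⟩ := hg0
    obtain ⟨u₁, hu₁, h₁, hh₁, h₀, hh₀, l, hl, u, hu, rfl⟩ := normal_form g hg
    have huU := uMinus_le_posUnipotent _ _ hu
    set z := X 11 (1 : K) with hz
    have hgz : (u₁ * h₁ * (h₀ * relG2.nWordU l) * u) * z * (u₁ * h₁ * (h₀ * relG2.nWordU l) * u)⁻¹ = z := by
      rw [Subgroup.mem_centralizer_iff] at hgc
      have := hgc z rfl
      rw [← this]; group
    -- the middle part centralizes `z`
    have hmid : (h₁ * (h₀ * relG2.nWordU l)) * z * (h₁ * (h₀ * relG2.nWordU l))⁻¹ = z := by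
      have e1 : u * z * u⁻¹ = z := by rw [central_11 u huU, mul_assoc, mul_inv_cancel, mul_one]
      have e2 : u₁⁻¹ * z * u₁ = z := by
        rw [mul_assoc, ← central_11 u₁ hu₁, ← mul_assoc, inv_mul_cancel, one_mul]
      calc (h₁ * (h₀ * relG2.nWordU l)) * z * (h₁ * (h₀ * relG2.nWordU l))⁻¹
          = (h₁ * (h₀ * relG2.nWordU l)) * (u * z * u⁻¹) * (h₁ * (h₀ * relG2.nWordU l))⁻¹ := by rw [e1]
        _ = u₁⁻¹ * ((u₁ * h₁ * (h₀ * relG2.nWordU l) * u) * z * (u₁ * h₁ * (h₀ * relG2.nWordU l) * u)⁻¹) * u₁ := by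
            group
        _ = u₁⁻¹ * z * u₁ := by rw [hgz]
        _ = z := e2
    -- the word fixes the highest root
    obtain ⟨d', hd'⟩ := bnG2.mono.conj_word_xU (F := K) bnG2.dec (h₁ * h₀) (Subgroup.mul_mem _ hh₁ hh₀) l hl
    obtain ⟨hd0, hc⟩ := hd' 11 (by decide)
    have h5 := hc 1
    rw [mul_assoc h₁ h₀, hmid] at h5
    have hlt : reflW relG2.refl l 11 < 12 := relG2.reflW_lt l hl 11 (by decide)
    have hfix : reflW relG2.refl l 11 = 11 := by
      rcases pos_or_neg _ hlt with hp | hn
      · exact (X_inj_root 11 _ (by decide) hp 1 _ one_ne_zero h5).symm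
      · exfalso
        have h6' : z ∈ cdG2.D.negUnipotent K := by
          rw [h5]
          exact X_neg _ hn _
        have h6 : z ∈ cdG2.D.posUnipotent K ⊓ cdG2.D.negUnipotent K := ⟨X_pos 11 (by decide) 1, h6'⟩
        rw [pos_inf_neg atG2, Subgroup.mem_bot] at h6
        exact X_ne_one 11 (by decide) h6
    obtain ⟨l', hl', e⟩ := exists_canon l hl
    have hfix' : reflW relG2.refl l' 11 = 11 := by rw [← reflW_eq_of_perm l l' e 11 (by decide)]; exact hfix
    have hUle : cdG2.D.posUnipotent K ≤ cdG2.D.posUnipotent K ⊔ cdG2.D.rootSubgroup K 4 := le_sup_left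
    rcases W12_fix11 l' hl' hfix' with e' | e'
    · -- the word is trivial
      have hw : relG2.nWordU (F := K) l ∈ cdG2.D.diagonalSubgroup K := nWordU_mem_diag l hl (e.trans e')
      have hh' : h₁ * (h₀ * relG2.nWordU l) ∈ cdG2.D.diagonalSubgroup K :=
        Subgroup.mul_mem _ hh₁ (Subgroup.mul_mem _ hh₀ hw)
      have := La_le_sup (diag_centralizer_11 _ hh' hmid)
      have e3 : u₁ * h₁ * (h₀ * relG2.nWordU l) * u = u₁ * (h₁ * (h₀ * relG2.nWordU l)) * u := by group
      rw [e3]
      exact Subgroup.mul_mem _ (Subgroup.mul_mem _ (hUle hu₁) this) (hUle huU)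
    · -- the word is the reflection in the short fundamental root
      obtain ⟨h', hh', ew⟩ := nWordU_of_perm (K := K) l 0 (by decide) hl (e.trans e')
      have hna : (relG2.nWordU [0] : GL cdG2.D.Idx K) = na := rfl
      rw [hna] at ew
      have hnaz : na * z * (na : GL cdG2.D.Idx K)⁻¹ = z := by
        have := La_le_centralizer (1 : K) na_mem_La
        rw [Subgroup.mem_centralizer_iff] at this
        have := this z rfl
        rw [← this]; group
      have hh'' : h₁ * (h₀ * h') ∈ cdG2.D.diagonalSubgroup K :=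
        Subgroup.mul_mem _ hh₁ (Subgroup.mul_mem _ hh₀ hh')
      have hmid' : (h₁ * (h₀ * h')) * z * (h₁ * (h₀ * h'))⁻¹ = z := by
        have : (h₁ * (h₀ * h')) * z * (h₁ * (h₀ * h'))⁻¹ =
            (h₁ * (h₀ * (h' * na⁻¹))) * (na * z * na⁻¹) * (h₁ * (h₀ * (h' * na⁻¹)))⁻¹ := by group
        rw [this, hnaz, ← ew, hmid]
      have h7 := La_le_sup (diag_centralizer_11 _ hh'' hmid')
      have h8 : (na : GL cdG2.D.Idx K)⁻¹ ∈ cdG2.D.posUnipotent K ⊔ cdG2.D.rootSubgroup K 4 :=
        Subgroup.inv_mem _ (La_le_sup na_mem_La)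
      have e3 : u₁ * h₁ * (h₀ * relG2.nWordU l) * u = u₁ * (h₁ * (h₀ * h')) * na⁻¹ * u := by
        rw [ew]; group
      rw [e3]
      exact Subgroup.mul_mem _ (Subgroup.mul_mem _ (Subgroup.mul_mem _ (hUle hu₁) h7) h8) (hUle huU)
  · refine sup_le ?_ ?_
    · exact le_inf relG2.posUnipotent_le_group (pos_le_centralizer 1)
    · refine le_inf ?_ ((le_sup_right : cdG2.D.rootSubgroup K 4 ≤ La K).trans (La_le_centralizer 1))
      intro g hg
      obtain ⟨t, rfl⟩ := (mem_rootSubgroup 4 g).mp hg
      exact X_mem 4 (by decide) t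

end

end Cfsg.Agent.Lib.Helper3.G2C
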