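import Mathlib
import Cfsg.Agent.Lib.Helper3.G2C6
set_option autoImplicit false
set_option linter.unusedSectionVars false
set_option linter.unusedVariables false
set_option linter.unusedSimpArgs false
set_option maxRecDepth 100000
open Cfsg Cfsg.Lie Cfsg.Agent.Lib.Helper3.ChevM

/-!
The centralizer of a short root element in the Chevalley group of type `G₂` in characteristic two: conjugates of
the short root element `x_{2a+b}(d)` under `U` and `H`, and the elements `u h` of `B` centralizing it.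
-/

namespace Cfsg.Agent.Lib.Helper3.G2Inv

variable {G : Type*} [Group G] {K : Type*} [Field K] [CharP K 2] {F : Subfield K} (S : Sys G K F)

namespace Sys

/-- Conjugates of `D d` under the elements in normal form. -/
theorem conj_nf_D (a : K) (u : F) (c d' : K) (v w : F) (d : K)
    (h1 : S.cr a 0 = 0) (h2 : S.g2 a 0 = 0) (h3 : S.g3 a 0 = 0) :
    (S.A a * (S.B u * S.y c d' v w)) * S.y 0 d 0 0 * (S.A a * (S.B u * S.y c d' v w))⁻¹ =
      S.y 0 d (S.T1 a d) (S.T c d) := by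
  have e1 : S.y c d' v w * S.y 0 d 0 0 * (S.y c d' v w)⁻¹ = S.y 0 d 0 (S.T c d) := by
    rw [mul_inv_eq_iff_eq_mul, S.y_mul, S.y_mul, S.T_zero]
    have hw : w + 0 + 0 = S.T c d + w + S.T c d := by
      have := F_add_self (S.T c d)
      rw [add_zero, add_zero, add_comm (S.T c d) w, add_assoc, this, add_zero]
    rw [hw, add_zero, add_zero, zero_add, zero_add, add_comm d' d]
  have e2 : (S.A a * (S.B u * S.y c d' v w)) * S.y 0 d 0 0 * (S.A a * (S.B u * S.y c d' v w))⁻¹ =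
      S.A a * (S.B u * (S.y c d' v w * S.y 0 d 0 0 * (S.y c d' v w)⁻¹) * (S.B u)⁻¹) * (S.A a)⁻¹ := by group
  rw [e2, e1, S.B_inv, S.conjB_y, S.A_inv, S.conjA_y, h1, h2, h3]
  congr 1
  · rw [add_zero]
  · rw [zero_add, zero_add]
  · rw [mul_zero, add_zero, add_zero]

end Sys

end Cfsg.Agent.Lib.Helper3.G2Inv

namespace Cfsg.Agent.Lib.Helper3.G2C

open Cfsg.Agent.Lib.Helper3.ChevAt Cfsg.Agent.Lib.Helper3.ChevAut Cfsg.Agent.Lib.Helper3.ChevU

section
variable {K : Type*} [Field K] [CharP K 2] [Fintype K]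

/-- Conjugates of `x_{2a+b}(d)` under `U`. -/
theorem conj_nf_X9 (a u c d' v w d : K) :
    nf a u c d' v w * X 9 d * (nf a u c d' v w)⁻¹ = X 9 d * (X 10 (a * d) * X 11 (c * d)) := by
  have := (g2Sys (K := K)).conj_nf_D a ⟨u, trivial⟩ c d' ⟨v, trivial⟩ ⟨w, trivial⟩ d rfl
    (Subtype.ext (by show a ^ 2 * 0 = (0 : K); rw [mul_zero]))
    (Subtype.ext (by show a * 0 ^ 2 = (0 : K); rw [zero_pow (by norm_num), mul_zero]))
  have e1 : (g2Sys (K := K)).y 0 d 0 0 = X 9 d := by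
    show X 8 (0 : K) * (X 9 d * (X 10 (0 : K) * X 11 (0 : K))) = X 9 d
    rw [X_zero, X_zero, X_zero, one_mul, mul_one, mul_one]
  rw [e1] at this
  refine Eq.trans this ?_
  show X 8 (0 : K) * (X 9 d * (X 10 (a * d) * X 11 (c * d))) = _
  rw [X_zero, one_mul]

theorem cartan_vals : cdG2.D.cartan 0 9 = 1 ∧ cdG2.D.cartan 1 9 = 0 := by decide

/-- Conjugates of `x_{2a+b}(d)` under `H`. -/
theorem hh_conj_X9 (lam mu : K) (hl : lam ≠ 0) (hm : mu ≠ 0) (t : K) :
    (relG2.hU 7 lam * relG2.hU 6 mu) * X 9 t * (relG2.hU 7 lam * relG2.hU 6 mu)⁻¹ = X 9 (lam * t) := by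
  rw [hh_conj lam mu hl hm 9 (by decide), cartan_vals.1, cartan_vals.2, zpow_one, zpow_zero, one_mul]

/-- The subgroup which will turn out to be the centralizer of `x_{2a+b}(1)`. -/
def M9 (K : Type*) [Field K] : Subgroup (GL cdG2.D.Idx K) :=
  cdG2.D.rootSubgroup K 9 ⊔ cdG2.D.rootSubgroup K 10 ⊔ cdG2.D.rootSubgroup K 11 ⊔ cdG2.D.rootSubgroup K 6 ⊔
    cdG2.D.rootSubgroup K 5

theorem X9_mem_M9 (c : K) : X 9 c ∈ M9 K :=
  Subgroup.mem_sup_left (Subgroup.mem_sup_left (Subgroup.mem_sup_left (Subgroup.mem_sup_left (X_mem_root 9 c))))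

theorem X10_mem_M9 (c : K) : X 10 c ∈ M9 K :=
  Subgroup.mem_sup_left (Subgroup.mem_sup_left (Subgroup.mem_sup_left (Subgroup.mem_sup_right (X_mem_root 10 c))))

theorem X11_mem_M9 (c : K) : X 11 c ∈ M9 K :=
  Subgroup.mem_sup_left (Subgroup.mem_sup_left (Subgroup.mem_sup_right (X_mem_root 11 c)))

theorem X6_mem_M9 (c : K) : X 6 c ∈ M9 K :=
  Subgroup.mem_sup_left (Subgroup.mem_sup_right (X_mem_root 6 c))

theorem X5_mem_M9 (c : K) : X 5 c ∈ M9 K :=
  Subgroup.mem_sup_right (X_mem_root 5 c)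

theorem Lb_le_M9 : Lb K ≤ M9 K := by
  unfold Lb
  refine sup_le ?_ ?_
  · intro g hg
    obtain ⟨t, rfl⟩ := (mem_rootSubgroup 6 g).mp hg
    exact X6_mem_M9 t
  · intro g hg
    obtain ⟨t, rfl⟩ := (mem_rootSubgroup 5 g).mp hg
    exact X5_mem_M9 t

theorem comm_9 : ∀ r ∈ [9, 10, 11, 6, 5], commEmptyCheck cdG2.D r 9 = true := by decide

theorem comm_X_X9 (r : ℕ) (hr : r ∈ [9, 10, 11, 6, 5]) (c d : K) : X r c * X 9 d = X 9 d * X r c := by
  have h12 : r < 12 := by
    simp only [List.mem_cons, List.not_mem_nil, or_false] at hr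
    rcases hr with rfl | rfl | rfl | rfl | rfl <;> decide
  exact commG2.xU_comm r 9 h12 (by decide) (comm_9 r hr) c d

theorem root_le_centralizer (r : ℕ) (hr : r ∈ [9, 10, 11, 6, 5]) (d : K) :
    cdG2.D.rootSubgroup K r ≤ Subgroup.centralizer {X 9 d} := by
  intro g hg
  obtain ⟨t, rfl⟩ := (mem_rootSubgroup r g).mp hg
  rw [Subgroup.mem_centralizer_iff]
  intro y hy
  rw [Set.mem_singleton_iff] at hy
  rw [hy]
  exact (comm_X_X9 r hr t d).symm

theorem M9_le_centralizer (d : K) : M9 K ≤ Subgroup.centralizer {X 9 d} := by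
  unfold M9
  refine sup_le (sup_le (sup_le (sup_le ?_ ?_) ?_) ?_) ?_
  · exact root_le_centralizer 9 (by decide) d
  · exact root_le_centralizer 10 (by decide) d
  · exact root_le_centralizer 11 (by decide) d
  · exact root_le_centralizer 6 (by decide) d
  · exact root_le_centralizer 5 (by decide) d

theorem root_le_group (r : ℕ) (hr : r < 12) : cdG2.D.rootSubgroup K r ≤ cdG2.D.group K := by
  intro g hg
  obtain ⟨t, rfl⟩ := (mem_rootSubgroup r g).mp hg
  exact X_mem r hr t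

theorem M9_le_group : M9 K ≤ cdG2.D.group K := by
  unfold M9
  refine sup_le (sup_le (sup_le (sup_le ?_ ?_) ?_) ?_) ?_
  · exact root_le_group 9 (by decide)
  · exact root_le_group 10 (by decide)
  · exact root_le_group 11 (by decide)
  · exact root_le_group 6 (by decide)
  · exact root_le_group 5 (by decide)

/-- An element `u h` of `B` centralizing `x_{2a+b}(1)` lies in the subgroup `M9`. -/
theorem borel_centralizer_9 (u₁ h : GL cdG2.D.Idx K) (hu₁ : u₁ ∈ cdG2.D.posUnipotent K)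
    (hh : h ∈ cdG2.D.diagonalSubgroup K) (hc : (u₁ * h) * X 9 (1 : K) * (u₁ * h)⁻¹ = X 9 (1 : K)) :
    u₁ * h ∈ M9 K := by
  obtain ⟨lam, mu, hl, hm, rfl⟩ := exists_hh h hh
  obtain ⟨a, u, c, d, v, w, rfl⟩ := exists_nf u₁ hu₁
  have e1 : (nf a u c d v w * (relG2.hU 7 lam * relG2.hU 6 mu)) * X 9 (1 : K) *
      (nf a u c d v w * (relG2.hU 7 lam * relG2.hU 6 mu))⁻¹ =
      nf a u c d v w * ((relG2.hU 7 lam * relG2.hU 6 mu) * X 9 (1 : K) * (relG2.hU 7 lam * relG2.hU 6 mu)⁻¹) *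
        (nf a u c d v w)⁻¹ := by group
  rw [e1, hh_conj_X9 lam mu hl hm, conj_nf_X9, mul_one] at hc
  have e2 : nf 0 0 0 lam (a * lam) (c * lam) = nf 0 0 0 1 0 0 := by
    simp only [nf, X_zero, one_mul, mul_one]
    exact hc
  obtain ⟨-, -, -, h4, h5, h6⟩ := nf_inj _ _ _ _ _ _ _ _ _ _ _ _ e2
  have ha : a = 0 := by
    rcases mul_eq_zero.mp h5 with h | h
    · exact h
    · exact absurd h hl
  have hc0 : c = 0 := by
    rcases mul_eq_zero.mp h6 with h | h
    · exact h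
    · exact absurd h hl
  subst ha hc0 h4
  rw [hU_one 7 (by decide), one_mul]
  refine Subgroup.mul_mem _ ?_ (Lb_le_M9 (hU6_mem mu))
  simp only [nf, X_zero, one_mul]
  exact Subgroup.mul_mem _ (X6_mem_M9 u) (Subgroup.mul_mem _ (X9_mem_M9 d)
    (Subgroup.mul_mem _ (X10_mem_M9 v) (X11_mem_M9 w)))

end

end Cfsg.Agent.Lib.Helper3.G2C
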