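import Mathlib
import Cfsg.Agent.Lib.Helper3.G2C7
set_option autoImplicit false
set_option linter.unusedSectionVars false
set_option linter.unusedVariables false
set_option linter.unusedSimpArgs false
set_option maxRecDepth 100000
open Cfsg Cfsg.Lie Cfsg.Agent.Lib.Helper3.ChevM

/-!
The centralizer of a short root element in the Chevalley group of type `G₂` in characteristic two: the Weyl group
element of a centralizing element fixes the root.
-/

namespace Cfsg.Agent.Lib.Helper3.G2C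

open Cfsg.Agent.Lib.Helper3.ChevAt Cfsg.Agent.Lib.Helper3.ChevAut Cfsg.Agent.Lib.Helper3.ChevU

/-- The images of the roots `2a + b, 3a + b, 3a + 2b` under the elements of the Weyl group. -/
def T12 : List (ℕ × ℕ × ℕ) :=
  [(9, 10, 11), (8, 6, 11), (9, 11, 10), (8, 11, 6), (7, 5, 10), (4, 1, 6), (7, 10, 5), (4, 6, 1), (3, 0, 5),
    (2, 0, 1), (3, 5, 0), (2, 1, 0)]

theorem W12_triples : ∀ l' ∈ W12,
    (reflW relG2.refl l' 9, reflW relG2.refl l' 10, reflW relG2.refl l' 11) ∈ T12 := by decide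

theorem W12_fix9 : ∀ l' ∈ W12, reflW relG2.refl l' 9 = 9 → perm l' = perm [] ∨ perm l' = perm [1] := by decide

theorem posB_neg : ∀ r < 12, cdG2.D.IsPosRoot r → cdG2.D.IsNegRoot (reflW relG2.refl [1] r) → r = 6 := by decide

section
variable {K : Type*} [Field K] [CharP K 2] [Fintype K]

theorem rhs_eq_nf (δ β γ : K) : X 9 δ * (X 10 β * X 11 γ) = nf 0 0 0 δ β γ := by
  simp only [nf, X_zero, one_mul]

theorem rhs_mem (δ β γ : K) : X 9 δ * (X 10 β * X 11 γ) ∈ cdG2.D.posUnipotent K := by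
  rw [rhs_eq_nf]; exact nf_mem_pos _ _ _ _ _ _

theorem bad_8 (e β' γ' δ β γ : K) (he : e ≠ 0)
    (h : X 6 β' * (X 8 e * X 11 γ') = X 9 δ * (X 10 β * X 11 γ)) : False := by
  have e1 : X 6 β' * (X 8 e * X 11 γ') = nf 0 β' e 0 0 γ' := by
    simp only [nf, X_zero, one_mul]
  rw [e1, rhs_eq_nf] at h
  exact he (nf_inj _ _ _ _ _ _ _ _ _ _ _ _ h).2.2.1

theorem bad_7 (e β' γ' δ β γ : K) (he : e ≠ 0)
    (h : (X 7 e * X 10 γ') * X 5 β' = X 9 δ * (X 10 β * X 11 γ)) : False := by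
  have hp : X 7 e * X 10 γ' ∈ cdG2.D.posUnipotent K :=
    Subgroup.mul_mem _ (X_pos 7 (by decide) e) (X_pos 10 (by decide) γ')
  have hm := mixed _ _ hp (X_neg 5 (by decide) β') (by rw [h]; exact rhs_mem δ β γ)
  rw [hm, mul_one] at h
  have e1 : X 7 e * X 10 γ' = nf e 0 0 0 γ' 0 := by
    simp only [nf, X_zero, one_mul, mul_one]
  rw [e1, rhs_eq_nf] at h
  exact he (nf_inj _ _ _ _ _ _ _ _ _ _ _ _ h).1

theorem bad_4 (e β' γ' δ β γ : K) (he : e ≠ 0)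
    (h : X 6 γ' * (X 4 e * X 1 β') = X 9 δ * (X 10 β * X 11 γ)) : False := by
  have hm : X 4 e * X 1 β' ∈ cdG2.D.negUnipotent K :=
    Subgroup.mul_mem _ (X_neg 4 (by decide) e) (X_neg 1 (by decide) β')
  have h1 := mixed _ _ (X_pos 6 (by decide) γ') hm (by rw [h]; exact rhs_mem δ β γ)
  have h2 : na * (X 4 e * X 1 β') * (na : GL cdG2.D.Idx K)⁻¹ = 1 := by rw [h1]; group
  have h3 : na * (X 4 e * X 1 β') * (na : GL cdG2.D.Idx K)⁻¹ = (na * X 4 e * na⁻¹) * (na * X 1 β' * na⁻¹) := by group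
  rw [h3, na_conj 4 (by decide), na_conj 1 (by decide), reflA 4 (by decide), reflA 1 (by decide)] at h2
  have h4 : X 7 e * X 5 β' = 1 := h2
  have h5 := mixed _ _ (X_pos 7 (by decide) e) (X_neg 5 (by decide) β')
    (by rw [h4]; exact Subgroup.one_mem _)
  rw [h5, mul_one] at h4
  exact he (X_eq_one 7 (by decide) e h4)

theorem bad_neg (r₁ r₂ r₃ : ℕ) (h1 : cdG2.D.IsNegRoot r₁) (h2 : cdG2.D.IsNegRoot r₂) (h3 : cdG2.D.IsNegRoot r₃)
    (e β' γ' δ β γ : K) (hδ : δ ≠ 0)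
    (h : X r₁ e * (X r₂ β' * X r₃ γ') = X 9 δ * (X 10 β * X 11 γ)) : False := by
  have hm : X r₁ e * (X r₂ β' * X r₃ γ') ∈ cdG2.D.negUnipotent K :=
    Subgroup.mul_mem _ (X_neg r₁ h1 e) (Subgroup.mul_mem _ (X_neg r₂ h2 β') (X_neg r₃ h3 γ'))
  have h4 : X 9 δ * (X 10 β * X 11 γ) ∈ cdG2.D.posUnipotent K ⊓ cdG2.D.negUnipotent K :=
    ⟨rhs_mem δ β γ, by rw [← h]; exact hm⟩
  rw [pos_inf_neg atG2, Subgroup.mem_bot, rhs_eq_nf] at h4
  have e0 : (1 : GL cdG2.D.Idx K) = nf 0 0 0 0 0 0 := by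
    simp only [nf, X_zero, one_mul]
  rw [e0] at h4
  exact hδ (nf_inj _ _ _ _ _ _ _ _ _ _ _ _ h4).2.2.2.1

theorem comm_pair (r s : ℕ) (hr : r < 12) (hs : s < 12) (h : commEmptyCheck cdG2.D r s = true) (c d : K) :
    X r c * X s d = X s d * X r c :=
  commG2.xU_comm r s hr hs h c d

/-- The image of the root `2a + b` is `2a + b`. -/
theorem triple_9 (r₉ r₁₀ r₁₁ : ℕ) (hr : (r₉, r₁₀, r₁₁) ∈ T12) (e β' γ' δ β γ : K) (he : e ≠ 0) (hδ : δ ≠ 0)
    (h : X r₉ e * (X r₁₀ β' * X r₁₁ γ') = X 9 δ * (X 10 β * X 11 γ)) : r₉ = 9 := by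
  simp only [T12, List.mem_cons, Prod.mk.injEq, List.not_mem_nil, or_false] at hr
  rcases hr with ⟨rfl, rfl, rfl⟩ | ⟨rfl, rfl, rfl⟩ | ⟨rfl, rfl, rfl⟩ | ⟨rfl, rfl, rfl⟩ | ⟨rfl, rfl, rfl⟩ |
    ⟨rfl, rfl, rfl⟩ | ⟨rfl, rfl, rfl⟩ | ⟨rfl, rfl, rfl⟩ | ⟨rfl, rfl, rfl⟩ | ⟨rfl, rfl, rfl⟩ | ⟨rfl, rfl, rfl⟩ |
    ⟨rfl, rfl, rfl⟩
  · rfl
  · exfalso
    apply bad_8 e β' γ' δ β γ he
    rw [← h, ← mul_assoc, ← mul_assoc, comm_pair 8 6 (by decide) (by decide) (by decide)]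
  · rfl
  · exfalso
    apply bad_8 e γ' β' δ β γ he
    rw [← h, comm_pair 11 6 (by decide) (by decide) (by decide), ← mul_assoc, ← mul_assoc,
      comm_pair 8 6 (by decide) (by decide) (by decide)]
  · exfalso
    apply bad_7 e β' γ' δ β γ he
    rw [← h, comm_pair 5 10 (by decide) (by decide) (by decide), mul_assoc]
  · exfalso
    apply bad_4 e β' γ' δ β γ he
    rw [← h, comm_pair 1 6 (by decide) (by decide) (by decide), ← mul_assoc, ← mul_assoc,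
      comm_pair 4 6 (by decide) (by decide) (by decide)]
  · exfalso
    apply bad_7 e γ' β' δ β γ he
    rw [← h, mul_assoc]
  · exfalso
    apply bad_4 e γ' β' δ β γ he
    rw [← h, ← mul_assoc, ← mul_assoc, comm_pair 4 6 (by decide) (by decide) (by decide)]
  · exact (bad_neg 3 0 5 (by decide) (by decide) (by decide) e β' γ' δ β γ hδ h).elim
  · exact (bad_neg 2 0 1 (by decide) (by decide) (by decide) e β' γ' δ β γ hδ h).elim
  · exact (bad_neg 3 5 0 (by decide) (by decide) (by decide) e β' γ' δ β γ hδ h).elim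
  · exact (bad_neg 2 1 0 (by decide) (by decide) (by decide) e β' γ' δ β γ hδ h).elim

end

end Cfsg.Agent.Lib.Helper3.G2C
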