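import Mathlib
import Cfsg.Agent.Lib.Helper3.G2C8
set_option autoImplicit false
set_option linter.unusedSectionVars false
set_option linter.unusedVariables false
set_option linter.unusedSimpArgs false
set_option maxRecDepth 100000
open Cfsg Cfsg.Lie Cfsg.Agent.Lib.Helper3.ChevM

/-!
The centralizer of a short root element in the Chevalley group of type `G₂` in characteristic two.
-/

namespace Cfsg.Agent.Lib.Helper3.G2C

open Cfsg.Agent.Lib.Helper3.ChevAt Cfsg.Agent.Lib.Helper3.ChevAut Cfsg.Agent.Lib.Helper3.ChevU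

section
variable {K : Type*} [Field K] [CharP K 2] [Fintype K]

/-- `H` normalizes `U`. -/
theorem diag_conj_pos (h u : GL cdG2.D.Idx K) (hh : h ∈ cdG2.D.diagonalSubgroup K)
    (hu : u ∈ cdG2.D.posUnipotent K) : h * u * h⁻¹ ∈ cdG2.D.posUnipotent K := by
  obtain ⟨hHU, -⟩ := relG2.diagonal_normalizes (F := K) bnG2.dec bnG2.mono.tri
  exact (Subgroup.mem_normalizer_iff.mp (hHU hh) u).mp hu

/-- The group `U_w⁻` for the reflection in the long fundamental root. -/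
theorem uMinus_le_root6 (h₀ : GL cdG2.D.Idx K) (hh₀ : h₀ ∈ cdG2.D.diagonalSubgroup K) (l : List ℕ)
    (hl : ∀ i ∈ l, i < 2) (hp : perm l = perm [1]) :
    uMinus cdG2.D K (h₀ * relG2.nWordU l) ≤ cdG2.D.rootSubgroup K 6 := by
  unfold uMinus
  rw [Subgroup.closure_le]
  rintro x ⟨r, t, hr, hle, hx⟩
  have hx' : x = X r t := Units.ext hx
  obtain ⟨d', hd'⟩ := bnG2.mono.conj_word_xU (F := K) bnG2.dec h₀ hh₀ l hl
  obtain ⟨hd0, hc⟩ := hd' r hr.1
  have h1 : (h₀ * relG2.nWordU l) * X r 1 * (h₀ * relG2.nWordU l)⁻¹ ∈ cdG2.D.negUnipotent K :=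
    hle ⟨X r 1, X_mem_root r 1, rfl⟩
  rw [hc 1, reflW_eq_of_perm l [1] hp r hr.1] at h1
  have h12 : reflW relG2.refl [1] r < 12 := relG2.reflW_lt [1] (by decide) r hr.1
  have hneg : cdG2.D.IsNegRoot (reflW relG2.refl [1] r) := by
    rcases pos_or_neg _ h12 with hp' | hn
    · exfalso
      have h2 : relG2.xU (reflW relG2.refl [1] r) (d' r * 1) ∈ cdG2.D.posUnipotent K ⊓ cdG2.D.negUnipotent K :=
        ⟨X_pos _ hp' _, h1⟩
      rw [pos_inf_neg atG2, Subgroup.mem_bot] at h2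
      have := X_eq_one _ hp' _ h2
      rw [mul_one] at this
      exact hd0 this
    · exact hn
  have hr6 : r = 6 := posB_neg r hr.1 hr hneg
  rw [hx', hr6]
  exact X_mem_root 6 t

/-- The centralizer of the short root element `x_{2a+b}(1)`. -/
theorem centralizer_9 : cdG2.D.group K ⊓ Subgroup.centralizer {X 9 (1 : K)} = M9 K := by
  apply le_antisymm
  · intro g hg0
    rw [Subgroup.mem_inf] at hg0
    obtain ⟨hg, hgc⟩ := hg0
    obtain ⟨u₁, hu₁, h₁, hh₁, h₀, hh₀, l, hl, u, hu, rfl⟩ := normal_form g hg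
    have huU := uMinus_le_posUnipotent _ _ hu
    set t := X 9 (1 : K) with ht
    set n := h₀ * relG2.nWordU l with hn
    have hgt : (u₁ * h₁ * n * u) * t * (u₁ * h₁ * n * u)⁻¹ = t := by
      rw [Subgroup.mem_centralizer_iff] at hgc
      have := hgc t rfl
      rw [← this]; group
    -- the conjugate of `t` under `u`
    obtain ⟨a₁, b₁, c₁, d₁, v₁, w₁, eu⟩ := exists_nf u huU
    have e1 : u * t * u⁻¹ = X 9 1 * (X 10 (a₁ * 1) * X 11 (c₁ * 1)) := by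
      rw [eu]; exact conj_nf_X9 _ _ _ _ _ _ 1
    -- the conjugate of `t` under `(u₁ h₁)⁻¹`
    obtain ⟨a₂, b₂, c₂, d₂, v₂, w₂, eu₂⟩ := exists_nf u₁⁻¹ (Subgroup.inv_mem _ hu₁)
    have e2 : u₁⁻¹ * t * u₁ = X 9 1 * (X 10 (a₂ * 1) * X 11 (c₂ * 1)) := by
      have := conj_nf_X9 a₂ b₂ c₂ d₂ v₂ w₂ (1 : K)
      rw [← eu₂, inv_inv] at this
      exact this
    obtain ⟨dd, hdd⟩ := uhypG2.diagonal_conj_xU bnG2 h₁⁻¹ (Subgroup.inv_mem _ hh₁)
    have e3 : (u₁ * h₁)⁻¹ * t * (u₁ * h₁) =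
        X 9 (dd 9 * 1) * (X 10 (dd 10 * (a₂ * 1)) * X 11 (dd 11 * (c₂ * 1))) := by
      have : (u₁ * h₁)⁻¹ * t * (u₁ * h₁) = h₁⁻¹ * (u₁⁻¹ * t * u₁) * h₁⁻¹⁻¹ := by group
      rw [this, e2]
      have key : ∀ x y z : GL cdG2.D.Idx K, h₁⁻¹ * (x * (y * z)) * h₁⁻¹⁻¹ =
          (h₁⁻¹ * x * h₁⁻¹⁻¹) * ((h₁⁻¹ * y * h₁⁻¹⁻¹) * (h₁⁻¹ * z * h₁⁻¹⁻¹)) := by intros; group
      rw [key]
      have h9 := (hdd 9 (by decide)).2 1
      have h10 := (hdd 10 (by decide)).2 (a₂ * 1)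
      have h11 := (hdd 11 (by decide)).2 (c₂ * 1)
      exact congrArg₂ (· * ·) h9 (congrArg₂ (· * ·) h10 h11)
    -- the action of `n`
    obtain ⟨d', hd'⟩ := bnG2.mono.conj_word_xU (F := K) bnG2.dec h₀ hh₀ l hl
    have e4 : n * (u * t * u⁻¹) * n⁻¹ = (u₁ * h₁)⁻¹ * t * (u₁ * h₁) := by
      have : n * (u * t * u⁻¹) * n⁻¹ =
          (u₁ * h₁)⁻¹ * ((u₁ * h₁ * n * u) * t * (u₁ * h₁ * n * u)⁻¹) * (u₁ * h₁) := by group
      rw [this, hgt]
    have e5 : n * (u * t * u⁻¹) * n⁻¹ =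
        X (reflW relG2.refl l 9) (d' 9 * 1) * (X (reflW relG2.refl l 10) (d' 10 * (a₁ * 1)) *
          X (reflW relG2.refl l 11) (d' 11 * (c₁ * 1))) := by
      rw [e1]
      have key : ∀ x y z : GL cdG2.D.Idx K, n * (x * (y * z)) * n⁻¹ =
          (n * x * n⁻¹) * ((n * y * n⁻¹) * (n * z * n⁻¹)) := by intros; group
      rw [key]
      have h9 := (hd' 9 (by decide)).2 1
      have h10 := (hd' 10 (by decide)).2 (a₁ * 1)
      have h11 := (hd' 11 (by decide)).2 (c₁ * 1)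
      exact congrArg₂ (· * ·) h9 (congrArg₂ (· * ·) h10 h11)
    obtain ⟨l', hl', e⟩ := exists_canon l hl
    have htr : (reflW relG2.refl l 9, reflW relG2.refl l 10, reflW relG2.refl l 11) ∈ T12 := by
      rw [reflW_eq_of_perm l l' e 9 (by decide), reflW_eq_of_perm l l' e 10 (by decide),
        reflW_eq_of_perm l l' e 11 (by decide)]
      exact W12_triples l' hl'
    have hfix : reflW relG2.refl l 9 = 9 := by
      apply triple_9 _ _ _ htr (d' 9 * 1) _ _ (dd 9 * 1) _ _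
        (mul_ne_zero (hd' 9 (by decide)).1 one_ne_zero) (mul_ne_zero (hdd 9 (by decide)).1 one_ne_zero)
      rw [← e5, e4, e3]
    have hfix' : reflW relG2.refl l' 9 = 9 := by rw [← reflW_eq_of_perm l l' e 9 (by decide)]; exact hfix
    rcases W12_fix9 l' hl' hfix' with e' | e'
    · -- the word is trivial
      have hw : relG2.nWordU (F := K) l ∈ cdG2.D.diagonalSubgroup K := nWordU_mem_diag l hl (e.trans e')
      have hh' : h₁ * n ∈ cdG2.D.diagonalSubgroup K :=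
        Subgroup.mul_mem _ hh₁ (Subgroup.mul_mem _ hh₀ hw)
      have hu' : (h₁ * n) * u * (h₁ * n)⁻¹ ∈ cdG2.D.posUnipotent K := diag_conj_pos _ _ hh' huU
      have e6 : u₁ * h₁ * n * u = (u₁ * ((h₁ * n) * u * (h₁ * n)⁻¹)) * (h₁ * n) := by group
      rw [e6]
      apply borel_centralizer_9 _ _ (Subgroup.mul_mem _ hu₁ hu') hh'
      rw [← e6]
      exact hgt
    · -- the word is the reflection in the long fundamental root
      obtain ⟨h', hh', ew⟩ := nWordU_of_perm (K := K) l 1 (by decide) hl (e.trans e')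
      have hnb : (relG2.nWordU [1] : GL cdG2.D.Idx K) = nb := rfl
      rw [hnb] at ew
      have hu6 : u ∈ cdG2.D.rootSubgroup K 6 := uMinus_le_root6 h₀ hh₀ l hl (e.trans e') hu
      have huM : u ∈ M9 K := by
        obtain ⟨c, rfl⟩ := (mem_rootSubgroup 6 u).mp hu6
        exact X6_mem_M9 c
      have hnbM : (nb : GL cdG2.D.Idx K) ∈ M9 K := Lb_le_M9 nb_mem_Lb
      have hh'' : h₁ * (h₀ * h') ∈ cdG2.D.diagonalSubgroup K :=
        Subgroup.mul_mem _ hh₁ (Subgroup.mul_mem _ hh₀ hh')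
      have e6 : u₁ * h₁ * n * u = (u₁ * (h₁ * (h₀ * h'))) * (nb⁻¹ * u) := by
        rw [hn, ew]; group
      have hsM : (nb : GL cdG2.D.Idx K)⁻¹ * u ∈ M9 K := Subgroup.mul_mem _ (Subgroup.inv_mem _ hnbM) huM
      have hsc : ((nb : GL cdG2.D.Idx K)⁻¹ * u) * t * ((nb : GL cdG2.D.Idx K)⁻¹ * u)⁻¹ = t := by
        have := M9_le_centralizer (1 : K) hsM
        rw [Subgroup.mem_centralizer_iff] at this
        have := this t rfl
        rw [← this]; group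
      rw [e6]
      refine Subgroup.mul_mem _ ?_ hsM
      apply borel_centralizer_9 _ _ hu₁ hh''
      have e7 : (u₁ * (h₁ * (h₀ * h'))) * t * (u₁ * (h₁ * (h₀ * h')))⁻¹ =
          (u₁ * (h₁ * (h₀ * h'))) * (((nb : GL cdG2.D.Idx K)⁻¹ * u) * t * ((nb : GL cdG2.D.Idx K)⁻¹ * u)⁻¹) *
            (u₁ * (h₁ * (h₀ * h')))⁻¹ := by rw [hsc]
      rw [e7]
      have e8 : (u₁ * (h₁ * (h₀ * h'))) * (((nb : GL cdG2.D.Idx K)⁻¹ * u) * t * ((nb : GL cdG2.D.Idx K)⁻¹ * u)⁻¹) *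
            (u₁ * (h₁ * (h₀ * h')))⁻¹ =
          ((u₁ * (h₁ * (h₀ * h'))) * (nb⁻¹ * u)) * t * ((u₁ * (h₁ * (h₀ * h'))) * (nb⁻¹ * u))⁻¹ := by group
      rw [e8, ← e6]
      exact hgt
  · exact le_inf M9_le_group (M9_le_centralizer 1)

/-- The centralizers of the two involutions. -/
theorem g2_centralizers (z t : GL cdG2.D.Idx K)
    (hz : (z : Matrix cdG2.D.Idx cdG2.D.Idx K) = cdG2.D.x K 11 1)
    (ht : (t : Matrix cdG2.D.Idx cdG2.D.Idx K) = cdG2.D.x K 9 1) :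
    cdG2.D.group K ⊓ Subgroup.centralizer {z} = cdG2.D.posUnipotent K ⊔ cdG2.D.rootSubgroup K 4 ∧
    cdG2.D.group K ⊓ Subgroup.centralizer {t} =
      cdG2.D.rootSubgroup K 9 ⊔ cdG2.D.rootSubgroup K 10 ⊔ cdG2.D.rootSubgroup K 11 ⊔ cdG2.D.rootSubgroup K 6 ⊔
        cdG2.D.rootSubgroup K 5 := by
  have hz' : z = X 11 1 := Units.ext hz
  have ht' : t = X 9 1 := Units.ext ht
  rw [hz', ht']
  exact ⟨centralizer_11, centralizer_9⟩

end

end Cfsg.Agent.Lib.Helper3.G2C
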