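import Mathlib
import Cfsg.Prelude.Def_G2
import Cfsg.Agent.Lib.Helper6.G2O_Defs
import Cfsg.Agent.Lib.Helper6.G2O_SL3
set_option autoImplicit false

/-!
# S4632 swarm, package STAB: the stabiliser of the idempotent `e1` in `G₂(F)` is the range of `iota : SL₃(F) →* G₂(F)`
-/

namespace Cfsg.Agent.Lib.Helper6.G2O

open Cfsg Cfsg.Lie Matrix

variable {F : Type*} [Field F]

theorem stab_act_e2 (g : G2 F) (h : act g e1 = e1) : act g (e2 : Fin 8 → F) = e2 := by
  have h2 : (e2 : Fin 8 → F) = one8 - e1 := by rw [← e1_add_e2, add_sub_cancel_left]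
  rw [h2, act_sub, act_one8, h]

theorem stab_decomp (α β : F) (a b : Fin 3 → F) :
    mk8 α a b β = α • (e1 : Fin 8 → F) + mk8 0 a 0 0 + mk8 0 0 b 0 + β • (e2 : Fin 8 → F) := by
  unfold e1 e2
  rw [mk8_smul, mk8_smul, mk8_add, mk8_add, mk8_add]
  simp

/-- the Peirce space `U = {[[0, a], [0, 0]]}` is stable -/
theorem stab_act_U (g : G2 F) (h : act g e1 = e1) (a : Fin 3 → F) :
    act g (mk8 0 a 0 0) = mk8 0 (zA F (act g (mk8 0 a 0 0))) 0 0 := by
  have h1 : zornMul e1 (act g (mk8 0 a 0 0)) = act g (mk8 0 a 0 0) := by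
    have := act_zornMul g e1 (mk8 0 a 0 0)
    rw [e1_mul, h] at this
    exact this.symm
  have h2 : zornMul (act g (mk8 0 a 0 0)) e1 = 0 := by
    have := act_zornMul g (mk8 0 a 0 0) e1
    rw [mul_e1, h] at this
    rw [← this, mk8_zero, act_zero]
  generalize act g (mk8 0 a 0 0) = y at h1 h2 ⊢
  rw [← mk8_eta y] at h1 h2
  rw [e1_mul] at h1
  rw [mul_e1] at h2
  obtain ⟨-, -, hb, hβ⟩ := mk8_inj h1
  obtain ⟨hα, -, -, -⟩ := mk8_eq_zero_iff.mp h2
  conv_lhs => rw [← mk8_eta y]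
  rw [hα, ← hb, ← hβ]

/-- the Peirce space `V = {[[0, 0], [b, 0]]}` is stable -/
theorem stab_act_V (g : G2 F) (h : act g e1 = e1) (b : Fin 3 → F) :
    act g (mk8 0 0 b 0) = mk8 0 0 (zB F (act g (mk8 0 0 b 0))) 0 := by
  have h1 : zornMul (act g (mk8 0 0 b 0)) e1 = act g (mk8 0 0 b 0) := by
    have := act_zornMul g (mk8 0 0 b 0) e1
    rw [mul_e1, h] at this
    exact this.symm
  have h2 : zornMul e1 (act g (mk8 0 0 b 0)) = 0 := by
    have := act_zornMul g e1 (mk8 0 0 b 0)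
    rw [e1_mul, h] at this
    rw [← this, mk8_zero, act_zero]
  generalize act g (mk8 0 0 b 0) = y at h1 h2 ⊢
  rw [← mk8_eta y] at h1 h2
  rw [mul_e1] at h1
  rw [e1_mul] at h2
  obtain ⟨-, ha, -, hβ⟩ := mk8_inj h1
  obtain ⟨hα, -, -, -⟩ := mk8_eq_zero_iff.mp h2
  conv_lhs => rw [← mk8_eta y]
  rw [hα, ← ha, ← hβ]

/-- the action on `U` as a linear map -/
def stabML (g : G2 F) : (Fin 3 → F) →ₗ[F] (Fin 3 → F) where
  toFun a := zA F (act g (mk8 0 a 0 0))
  map_add' a a' := by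
    have : mk8 (0 : F) (a + a') 0 0 = mk8 0 a 0 0 + mk8 0 a' 0 0 := by rw [mk8_add]; simp
    rw [this, act_add]
    ext i; fin_cases i <;> rfl
  map_smul' r a := by
    have : mk8 (0 : F) (r • a) 0 0 = r • mk8 0 a 0 0 := by rw [mk8_smul]; simp
    rw [this, act_smul]
    ext i; fin_cases i <;> rfl

/-- the action on `V` as a linear map -/
def stabNL (g : G2 F) : (Fin 3 → F) →ₗ[F] (Fin 3 → F) where
  toFun b := zB F (act g (mk8 0 0 b 0))
  map_add' b b' := by
    have : mk8 (0 : F) 0 (b + b') 0 = mk8 0 0 b 0 + mk8 0 0 b' 0 := by rw [mk8_add]; simp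
    rw [this, act_add]
    ext i; fin_cases i <;> rfl
  map_smul' r b := by
    have : mk8 (0 : F) 0 (r • b) 0 = r • mk8 0 0 b 0 := by rw [mk8_smul]; simp
    rw [this, act_smul]
    ext i; fin_cases i <;> rfl

theorem stab_act_U' (g : G2 F) (h : act g e1 = e1) (a : Fin 3 → F) :
    act g (mk8 0 a 0 0) = mk8 0 (LinearMap.toMatrix' (stabML g) *ᵥ a) 0 0 := by
  rw [LinearMap.toMatrix'_mulVec]
  exact stab_act_U g h a

theorem stab_act_V' (g : G2 F) (h : act g e1 = e1) (b : Fin 3 → F) :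
    act g (mk8 0 0 b 0) = mk8 0 0 (LinearMap.toMatrix' (stabNL g) *ᵥ b) 0 := by
  rw [LinearMap.toMatrix'_mulVec]
  exact stab_act_V g h b

theorem stab_act_mk8 (g : G2 F) (h : act g e1 = e1) (α β : F) (a b : Fin 3 → F) :
    act g (mk8 α a b β) =
      mk8 α (LinearMap.toMatrix' (stabML g) *ᵥ a) (LinearMap.toMatrix' (stabNL g) *ᵥ b) β := by
  rw [stab_decomp α β a b, act_add, act_add, act_add, act_smul, act_smul, h, stab_act_e2 g h,
    stab_act_U' g h, stab_act_V' g h, ← stab_decomp]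

theorem stab_dot (g : G2 F) (h : act g e1 = e1) (a d : Fin 3 → F) :
    dot3 (LinearMap.toMatrix' (stabML g) *ᵥ a) (LinearMap.toMatrix' (stabNL g) *ᵥ d) = dot3 a d := by
  have h1 : zornMul (mk8 0 a 0 0) (mk8 0 0 d 0) = mk8 (dot3 a d) 0 0 0 := by
    rw [zornMul_mk8]; simp
  have h2 := act_zornMul g (mk8 0 a 0 0) (mk8 0 0 d 0)
  rw [h1, stab_act_mk8 g h, stab_act_mk8 g h, stab_act_mk8 g h, zornMul_mk8] at h2
  have := (mk8_inj h2).1
  simpa using this.symm

theorem stab_cross (g : G2 F) (h : act g e1 = e1) (a c : Fin 3 → F) :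
    LinearMap.toMatrix' (stabNL g) *ᵥ cross3 a c =
      cross3 (LinearMap.toMatrix' (stabML g) *ᵥ a) (LinearMap.toMatrix' (stabML g) *ᵥ c) := by
  have h1 : zornMul (mk8 0 a 0 0) (mk8 0 c 0 0) = mk8 0 0 (cross3 a c) 0 := by
    rw [zornMul_mk8]; simp
  have h2 := act_zornMul g (mk8 0 a 0 0) (mk8 0 c 0 0)
  rw [h1, stab_act_mk8 g h, stab_act_mk8 g h, stab_act_mk8 g h, zornMul_mk8] at h2
  have := (mk8_inj h2).2.2.1
  simpa using this

theorem stab_transpose_mul (M N : Matrix (Fin 3) (Fin 3) F)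
    (h : ∀ a d, dot3 (M *ᵥ a) (N *ᵥ d) = dot3 a d) : Mᵀ * N = 1 := by
  ext i j
  have := h (Pi.single i 1) (Pi.single j 1)
  rw [dot3_eq_dotProduct, dot3_eq_dotProduct, dotProduct_comm, Matrix.dotProduct_mulVec,
    ← Matrix.mulVec_transpose, dotProduct_comm, Matrix.mulVec_mulVec] at this
  simpa [Matrix.one_apply, Pi.single_apply, eq_comm] using this

theorem stab_eq_of_cross (N K : Matrix (Fin 3) (Fin 3) F)
    (h : ∀ a c, N *ᵥ cross3 a c = K *ᵥ cross3 a c) : N = K := by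
  have c0 : cross3 (Pi.single 1 1 : Fin 3 → F) (Pi.single 2 1) = Pi.single 0 1 := by
    ext k; fin_cases k <;> simp [cross3]
  have c1 : cross3 (Pi.single 2 1 : Fin 3 → F) (Pi.single 0 1) = Pi.single 1 1 := by
    ext k; fin_cases k <;> simp [cross3]
  have c2 : cross3 (Pi.single 0 1 : Fin 3 → F) (Pi.single 1 1) = Pi.single 2 1 := by
    ext k; fin_cases k <;> simp [cross3]
  ext i j
  fin_cases j
  · have := congrFun (h (Pi.single 1 1) (Pi.single 2 1)) i
    rw [c0] at this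
    simpa using this
  · have := congrFun (h (Pi.single 2 1) (Pi.single 0 1)) i
    rw [c1] at this
    simpa using this
  · have := congrFun (h (Pi.single 0 1) (Pi.single 1 1)) i
    rw [c2] at this
    simpa using this

/-- PK-STAB: the stabiliser of `e1` in `G₂(F)` is the range of `iota`. -/
theorem exists_iota_eq_of_act_e1 (g : G2 F) (h : act g e1 = e1) :
    ∃ A : SpecialLinearGroup (Fin 3) F, iota A = g := by
  have h1 : (LinearMap.toMatrix' (stabML g))ᵀ * LinearMap.toMatrix' (stabNL g) = 1 :=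
    stab_transpose_mul _ _ (stab_dot g h)
  have h2 : LinearMap.toMatrix' (stabNL g) = (adjugate (LinearMap.toMatrix' (stabML g)))ᵀ :=
    stab_eq_of_cross _ _ (fun a c => by rw [stab_cross g h, cross3_mulVec])
  have h3 : (LinearMap.toMatrix' (stabML g)).det = 1 := by
    rw [h2, ← Matrix.transpose_mul, Matrix.adjugate_mul] at h1
    have := congrFun (congrFun h1 0) 0
    simpa using this
  obtain ⟨A, hA⟩ : ∃ A : SpecialLinearGroup (Fin 3) F,
      (A : Matrix (Fin 3) (Fin 3) F) = LinearMap.toMatrix' (stabML g) := ⟨⟨_, h3⟩, rfl⟩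
  refine ⟨A, ?_⟩
  apply ext_act
  intro x
  rw [← mk8_eta x, act_iota, stab_act_mk8 g h, ← adjugate_transpose_eq_invT, h2, hA]

end Cfsg.Agent.Lib.Helper6.G2O
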