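import Mathlib
set_option autoImplicit false

/-! Tables for the subgroups generated by two conjugates of the highest root subgroup. -/

namespace Cfsg.Agent.Lib.Helper3.ChevM

/-- The orbit of the highest root of type G2 under the Weyl group. -/
def hiOrbG2 (s : ℕ) : Bool := decide (s ∈ [0, 1, 5, 6, 10, 11])

/-- For each root `s` in the orbit other than the lowest root, a word in the fundamental reflections making both `s` and the highest root positive. -/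
def hiPwG2 (s : ℕ) : List ℕ :=
  (#[[],
    [1, 0],
    [],
    [],
    [],
    [1],
    [],
    [],
    [],
    [],
    [],
    []] : Array (List ℕ)).getD s []

/-- The orbit of the highest root of type D4 under the Weyl group. -/
def hiOrbD4 (_ : ℕ) : Bool := true

/-- For each root `s` in the orbit other than the lowest root, a word in the fundamental reflections making both `s` and the highest root positive. -/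
def hiPwD4 (s : ℕ) : List ℕ :=
  (#[[],
    [3, 1, 2, 0],
    [2, 1, 0],
    [3, 1, 0],
    [1, 0],
    [0],
    [3, 1, 2],
    [2, 1],
    [3, 1],
    [1],
    [2],
    [3],
    [],
    [],
    [],
    [],
    [],
    [],
    [],
    [],
    [],
    [],
    [],
    []] : Array (List ℕ)).getD s []

/-- The orbit of the highest root of type E6 under the Weyl group. -/
def hiOrbE6 (_ : ℕ) : Bool := true

/-- For each root `s` in the orbit other than the lowest root, a word in the fundamental reflections making both `s` and the highest root positive. -/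
def hiPwE6 (s : ℕ) : List ℕ :=
  (#[[],
    [5, 4, 3, 2, 1, 3, 4, 0, 2, 3],
    [5, 4, 3, 2, 1, 3, 4, 0, 2],
    [5, 4, 3, 2, 1, 3, 0, 2],
    [4, 3, 2, 1, 3, 0, 2],
    [5, 4, 3, 2, 1, 3, 4, 0],
    [5, 4, 3, 2, 1, 3, 0],
    [4, 3, 2, 1, 3, 0],
    [5, 4, 3, 2, 1, 0],
    [4, 3, 2, 1, 0],
    [3, 2, 1, 0],
    [5, 4, 3, 2, 0],
    [4, 3, 2, 0],
    [3, 2, 0],
    [2, 0],
    [0],
    [5, 4, 3, 2, 1, 3, 4],
    [5, 4, 3, 2, 1, 3],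
    [4, 3, 2, 1, 3],
    [5, 4, 3, 2, 1],
    [4, 3, 2, 1],
    [3, 2, 1],
    [5, 4, 3, 1],
    [4, 3, 1],
    [3, 1],
    [1],
    [5, 4, 3, 2],
    [4, 3, 2],
    [3, 2],
    [2],
    [5, 4, 3],
    [4, 3],
    [3],
    [5, 4],
    [4],
    [5],
    [],
    [],
    [],
    [],
    [],
    [],
    [],
    [],
    [],
    [],
    [],
    [],
    [],
    [],
    [],
    [],
    [],
    [],
    [],
    [],
    [],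
    [],
    [],
    [],
    [],
    [],
    [],
    [],
    [],
    [],
    [],
    [],
    [],
    [],
    [],
    []] : Array (List ℕ)).getD s []

/-- The orbit of the highest root of type E7 under the Weyl group. -/
def hiOrbE7 (_ : ℕ) : Bool := true

/-- For each root `s` in the orbit other than the lowest root, a word in the fundamental reflections making both `s` and the highest root positive. -/
def hiPwE7 (s : ℕ) : List ℕ :=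
  (#[[],
    [6, 5, 4, 3, 2, 1, 3, 4, 5, 0, 2, 3, 4, 1, 3, 2],
    [6, 5, 4, 3, 2, 1, 3, 4, 5, 0, 2, 3, 4, 1, 3],
    [6, 5, 4, 3, 2, 1, 3, 4, 5, 0, 2, 3, 4, 1],
    [6, 5, 4, 3, 2, 1, 3, 4, 5, 0, 2, 3, 1],
    [6, 5, 4, 3, 2, 1, 3, 4, 0, 2, 3, 1],
    [5, 4, 3, 2, 1, 3, 4, 0, 2, 3, 1],
    [6, 5, 4, 3, 2, 1, 3, 4, 5, 0, 2, 3, 4],
    [6, 5, 4, 3, 2, 1, 3, 4, 5, 0, 2, 3],
    [6, 5, 4, 3, 2, 1, 3, 4, 0, 2, 3],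
    [5, 4, 3, 2, 1, 3, 4, 0, 2, 3],
    [6, 5, 4, 3, 2, 1, 3, 4, 5, 0, 2],
    [6, 5, 4, 3, 2, 1, 3, 4, 0, 2],
    [5, 4, 3, 2, 1, 3, 4, 0, 2],
    [6, 5, 4, 3, 2, 1, 3, 0, 2],
    [5, 4, 3, 2, 1, 3, 0, 2],
    [4, 3, 2, 1, 3, 0, 2],
    [6, 5, 4, 3, 2, 1, 3, 4, 5, 0],
    [6, 5, 4, 3, 2, 1, 3, 4, 0],
    [5, 4, 3, 2, 1, 3, 4, 0],
    [6, 5, 4, 3, 2, 1, 3, 0],
    [5, 4, 3, 2, 1, 3, 0],
    [4, 3, 2, 1, 3, 0],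
    [6, 5, 4, 3, 2, 1, 0],
    [5, 4, 3, 2, 1, 0],
    [4, 3, 2, 1, 0],
    [3, 2, 1, 0],
    [6, 5, 4, 3, 2, 0],
    [5, 4, 3, 2, 0],
    [4, 3, 2, 0],
    [3, 2, 0],
    [2, 0],
    [0],
    [6, 5, 4, 3, 2, 1, 3, 4, 5],
    [6, 5, 4, 3, 2, 1, 3, 4],
    [5, 4, 3, 2, 1, 3, 4],
    [6, 5, 4, 3, 2, 1, 3],
    [5, 4, 3, 2, 1, 3],
    [4, 3, 2, 1, 3],
    [6, 5, 4, 3, 2, 1],
    [5, 4, 3, 2, 1],
    [4, 3, 2, 1],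
    [3, 2, 1],
    [6, 5, 4, 3, 1],
    [5, 4, 3, 1],
    [4, 3, 1],
    [3, 1],
    [1],
    [6, 5, 4, 3, 2],
    [5, 4, 3, 2],
    [4, 3, 2],
    [3, 2],
    [2],
    [6, 5, 4, 3],
    [5, 4, 3],
    [4, 3],
    [3],
    [6, 5, 4],
    [5, 4],
    [4],
    [6, 5],
    [5],
    [6],
    [],
    [],
    [],
    [],
    [],
    [],
    [],
    [],
    [],
    [],
    [],
    [],
    [],
    [],
    [],
    [],
    [],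
    [],
    [],
    [],
    [],
    [],
    [],
    [],
    [],
    [],
    [],
    [],
    [],
    [],
    [],
    [],
    [],
    [],
    [],
    [],
    [],
    [],
    [],
    [],
    [],
    [],
    [],
    [],
    [],
    [],
    [],
    [],
    [],
    [],
    [],
    [],
    [],
    [],
    [],
    [],
    [],
    [],
    [],
    [],
    [],
    [],
    []] : Array (List ℕ)).getD s []

/-- The orbit of the highest root of type E8 under the Weyl group. -/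
def hiOrbE8 (_ : ℕ) : Bool := true

/-- For each root `s` in the orbit other than the lowest root, a word in the fundamental reflections making both `s` and the highest root positive. -/
def hiPwE8 (s : ℕ) : List ℕ :=
  (#[[],
    [7, 6, 5, 4, 3, 2, 1, 3, 4, 5, 6, 0, 2, 3, 4, 5, 1, 3, 4, 2, 3, 0, 2, 1, 3, 4, 5, 6],
    [7, 6, 5, 4, 3, 2, 1, 3, 4, 5, 6, 0, 2, 3, 4, 5, 1, 3, 4, 2, 3, 0, 2, 1, 3, 4, 5],
    [7, 6, 5, 4, 3, 2, 1, 3, 4, 5, 6, 0, 2, 3, 4, 5, 1, 3, 4, 2, 3, 0, 2, 1, 3, 4],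
    [7, 6, 5, 4, 3, 2, 1, 3, 4, 5, 6, 0, 2, 3, 4, 5, 1, 3, 4, 2, 3, 0, 2, 1, 3],
    [7, 6, 5, 4, 3, 2, 1, 3, 4, 5, 6, 0, 2, 3, 4, 5, 1, 3, 4, 2, 3, 0, 2, 1],
    [7, 6, 5, 4, 3, 2, 1, 3, 4, 5, 6, 0, 2, 3, 4, 5, 1, 3, 4, 2, 3, 1, 0],
    [7, 6, 5, 4, 3, 2, 1, 3, 4, 5, 6, 0, 2, 3, 4, 5, 1, 3, 4, 2, 3, 0, 2],
    [7, 6, 5, 4, 3, 2, 1, 3, 4, 5, 6, 0, 2, 3, 4, 5, 1, 3, 4, 2, 3, 0],
    [7, 6, 5, 4, 3, 2, 1, 3, 4, 5, 6, 0, 2, 3, 4, 5, 1, 3, 4, 2, 0],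
    [7, 6, 5, 4, 3, 2, 1, 3, 4, 5, 6, 0, 2, 3, 4, 5, 1, 3, 2, 0],
    [7, 6, 5, 4, 3, 2, 1, 3, 4, 5, 6, 0, 2, 3, 4, 1, 3, 2, 0],
    [7, 6, 5, 4, 3, 2, 1, 3, 4, 5, 0, 2, 3, 4, 1, 3, 2, 0],
    [6, 5, 4, 3, 2, 1, 3, 4, 5, 0, 2, 3, 4, 1, 3, 2, 0],
    [7, 6, 5, 4, 3, 2, 1, 3, 4, 5, 6, 0, 2, 3, 4, 5, 1, 3, 4, 2, 3, 1],
    [7, 6, 5, 4, 3, 2, 1, 3, 4, 5, 6, 0, 2, 3, 4, 5, 1, 3, 4, 2, 3],
    [7, 6, 5, 4, 3, 2, 1, 3, 4, 5, 6, 0, 2, 3, 4, 5, 1, 3, 4, 2],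
    [7, 6, 5, 4, 3, 2, 1, 3, 4, 5, 6, 0, 2, 3, 4, 5, 1, 3, 2],
    [7, 6, 5, 4, 3, 2, 1, 3, 4, 5, 6, 0, 2, 3, 4, 1, 3, 2],
    [7, 6, 5, 4, 3, 2, 1, 3, 4, 5, 0, 2, 3, 4, 1, 3, 2],
    [6, 5, 4, 3, 2, 1, 3, 4, 5, 0, 2, 3, 4, 1, 3, 2],
    [7, 6, 5, 4, 3, 2, 1, 3, 4, 5, 6, 0, 2, 3, 4, 5, 1, 3, 4],
    [7, 6, 5, 4, 3, 2, 1, 3, 4, 5, 6, 0, 2, 3, 4, 5, 1, 3],
    [7, 6, 5, 4, 3, 2, 1, 3, 4, 5, 6, 0, 2, 3, 4, 1, 3],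
    [7, 6, 5, 4, 3, 2, 1, 3, 4, 5, 0, 2, 3, 4, 1, 3],
    [6, 5, 4, 3, 2, 1, 3, 4, 5, 0, 2, 3, 4, 1, 3],
    [7, 6, 5, 4, 3, 2, 1, 3, 4, 5, 6, 0, 2, 3, 4, 5, 1],
    [7, 6, 5, 4, 3, 2, 1, 3, 4, 5, 6, 0, 2, 3, 4, 1],
    [7, 6, 5, 4, 3, 2, 1, 3, 4, 5, 0, 2, 3, 4, 1],
    [6, 5, 4, 3, 2, 1, 3, 4, 5, 0, 2, 3, 4, 1],
    [7, 6, 5, 4, 3, 2, 1, 3, 4, 5, 6, 0, 2, 3, 1],
    [7, 6, 5, 4, 3, 2, 1, 3, 4, 5, 0, 2, 3, 1],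
    [6, 5, 4, 3, 2, 1, 3, 4, 5, 0, 2, 3, 1],
    [7, 6, 5, 4, 3, 2, 1, 3, 4, 0, 2, 3, 1],
    [6, 5, 4, 3, 2, 1, 3, 4, 0, 2, 3, 1],
    [5, 4, 3, 2, 1, 3, 4, 0, 2, 3, 1],
    [7, 6, 5, 4, 3, 2, 1, 3, 4, 5, 6, 0, 2, 3, 4, 5],
    [7, 6, 5, 4, 3, 2, 1, 3, 4, 5, 6, 0, 2, 3, 4],
    [7, 6, 5, 4, 3, 2, 1, 3, 4, 5, 0, 2, 3, 4],
    [6, 5, 4, 3, 2, 1, 3, 4, 5, 0, 2, 3, 4],
    [7, 6, 5, 4, 3, 2, 1, 3, 4, 5, 6, 0, 2, 3],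
    [7, 6, 5, 4, 3, 2, 1, 3, 4, 5, 0, 2, 3],
    [6, 5, 4, 3, 2, 1, 3, 4, 5, 0, 2, 3],
    [7, 6, 5, 4, 3, 2, 1, 3, 4, 0, 2, 3],
    [6, 5, 4, 3, 2, 1, 3, 4, 0, 2, 3],
    [5, 4, 3, 2, 1, 3, 4, 0, 2, 3],
    [7, 6, 5, 4, 3, 2, 1, 3, 4, 5, 6, 0, 2],
    [7, 6, 5, 4, 3, 2, 1, 3, 4, 5, 0, 2],
    [6, 5, 4, 3, 2, 1, 3, 4, 5, 0, 2],
    [7, 6, 5, 4, 3, 2, 1, 3, 4, 0, 2],
    [6, 5, 4, 3, 2, 1, 3, 4, 0, 2],
    [5, 4, 3, 2, 1, 3, 4, 0, 2],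
    [7, 6, 5, 4, 3, 2, 1, 3, 0, 2],
    [6, 5, 4, 3, 2, 1, 3, 0, 2],
    [5, 4, 3, 2, 1, 3, 0, 2],
    [4, 3, 2, 1, 3, 0, 2],
    [7, 6, 5, 4, 3, 2, 1, 3, 4, 5, 6, 0],
    [7, 6, 5, 4, 3, 2, 1, 3, 4, 5, 0],
    [6, 5, 4, 3, 2, 1, 3, 4, 5, 0],
    [7, 6, 5, 4, 3, 2, 1, 3, 4, 0],
    [6, 5, 4, 3, 2, 1, 3, 4, 0],
    [5, 4, 3, 2, 1, 3, 4, 0],
    [7, 6, 5, 4, 3, 2, 1, 3, 0],
    [6, 5, 4, 3, 2, 1, 3, 0],
    [5, 4, 3, 2, 1, 3, 0],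
    [4, 3, 2, 1, 3, 0],
    [7, 6, 5, 4, 3, 2, 1, 0],
    [6, 5, 4, 3, 2, 1, 0],
    [5, 4, 3, 2, 1, 0],
    [4, 3, 2, 1, 0],
    [3, 2, 1, 0],
    [7, 6, 5, 4, 3, 2, 0],
    [6, 5, 4, 3, 2, 0],
    [5, 4, 3, 2, 0],
    [4, 3, 2, 0],
    [3, 2, 0],
    [2, 0],
    [0],
    [7, 6, 5, 4, 3, 2, 1, 3, 4, 5, 6],
    [7, 6, 5, 4, 3, 2, 1, 3, 4, 5],
    [6, 5, 4, 3, 2, 1, 3, 4, 5],
    [7, 6, 5, 4, 3, 2, 1, 3, 4],
    [6, 5, 4, 3, 2, 1, 3, 4],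
    [5, 4, 3, 2, 1, 3, 4],
    [7, 6, 5, 4, 3, 2, 1, 3],
    [6, 5, 4, 3, 2, 1, 3],
    [5, 4, 3, 2, 1, 3],
    [4, 3, 2, 1, 3],
    [7, 6, 5, 4, 3, 2, 1],
    [6, 5, 4, 3, 2, 1],
    [5, 4, 3, 2, 1],
    [4, 3, 2, 1],
    [3, 2, 1],
    [7, 6, 5, 4, 3, 1],
    [6, 5, 4, 3, 1],
    [5, 4, 3, 1],
    [4, 3, 1],
    [3, 1],
    [1],
    [7, 6, 5, 4, 3, 2],
    [6, 5, 4, 3, 2],
    [5, 4, 3, 2],
    [4, 3, 2],
    [3, 2],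
    [2],
    [7, 6, 5, 4, 3],
    [6, 5, 4, 3],
    [5, 4, 3],
    [4, 3],
    [3],
    [7, 6, 5, 4],
    [6, 5, 4],
    [5, 4],
    [4],
    [7, 6, 5],
    [6, 5],
    [5],
    [7, 6],
    [6],
    [7],
    [],
    [],
    [],
    [],
    [],
    [],
    [],
    [],
    [],
    [],
    [],
    [],
    [],
    [],
    [],
    [],
    [],
    [],
    [],
    [],
    [],
    [],
    [],
    [],
    [],
    [],
    [],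
    [],
    [],
    [],
    [],
    [],
    [],
    [],
    [],
    [],
    [],
    [],
    [],
    [],
    [],
    [],
    [],
    [],
    [],
    [],
    [],
    [],
    [],
    [],
    [],
    [],
    [],
    [],
    [],
    [],
    [],
    [],
    [],
    [],
    [],
    [],
    [],
    [],
    [],
    [],
    [],
    [],
    [],
    [],
    [],
    [],
    [],
    [],
    [],
    [],
    [],
    [],
    [],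
    [],
    [],
    [],
    [],
    [],
    [],
    [],
    [],
    [],
    [],
    [],
    [],
    [],
    [],
    [],
    [],
    [],
    [],
    [],
    [],
    [],
    [],
    [],
    [],
    [],
    [],
    [],
    [],
    [],
    [],
    [],
    [],
    [],
    [],
    [],
    [],
    [],
    [],
    [],
    [],
    []] : Array (List ℕ)).getD s []

end Cfsg.Agent.Lib.Helper3.ChevM
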