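import Mathlib

set_option autoImplicit false
set_option linter.unusedSectionVars false
set_option linter.style.haveILetI false

/-!
Higman's Suzuki `2`-groups, part 1: a commutative group `K` acting on a finite `2`-group `P`
regularly on the involutions.  Basic consequences.
-/

namespace Cfsg.Agent.Lib.Helper3.Hig

universe u v

variable {K : Type v} [Group K] {P : Type u} [Group P]

/-- `K` acts on the finite `2`-group `P` through `φ`, regularly on the involutions, of which
there are at least two; `K` is commutative. -/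
structure Reg (φ : K →* MulAut P) : Prop where
  comm : ∀ a b : K, a * b = b * a
  fin : Finite P
  two : IsPGroup 2 P
  many : ∃ x y : P, x ≠ y ∧ x ≠ 1 ∧ x * x = 1 ∧ y ≠ 1 ∧ y * y = 1
  reg : ∀ x y : P, x ≠ 1 → x * x = 1 → y ≠ 1 → y * y = 1 → ∃! k : K, φ k x = y

/-- in a `2`-group every non-identity element has a power which is an involution -/
theorem exists_involution_pow (h2 : IsPGroup 2 P) {x : P} (hx : x ≠ 1) :
    ∃ m : ℕ, x ^ m ≠ 1 ∧ x ^ m * x ^ m = 1 := by
  obtain ⟨s, hs⟩ := (IsPGroup.iff_orderOf.mp h2) x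
  have hs0 : s ≠ 0 := by
    rintro rfl
    rw [pow_zero, orderOf_eq_one_iff] at hs
    exact hx hs
  obtain ⟨t, rfl⟩ := Nat.exists_eq_succ_of_ne_zero hs0
  refine ⟨2 ^ t, ?_, ?_⟩
  · apply pow_ne_one_of_lt_orderOf (by positivity)
    rw [hs, pow_succ]
    have : 0 < 2 ^ t := by positivity
    omega
  · rw [← pow_add, ← two_mul, ← pow_succ', ← hs, pow_orderOf_eq_one]

theorem aut_mem_center (f : MulAut P) {c : P} (hc : c ∈ Subgroup.center P) :
    f c ∈ Subgroup.center P := by
  rw [Subgroup.mem_center_iff] at hc ⊢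
  intro g
  have := hc (f⁻¹ g)
  have h2 := congrArg f this
  rw [map_mul, map_mul] at h2
  have e : f (f⁻¹ g) = g := MulAut.apply_inv_self P f g
  rwa [e] at h2

namespace Reg

variable {φ : K →* MulAut P} (h : Reg φ)

include h in
/-- the elements of order at most two are central -/
theorem central {x : P} (hx : x * x = 1) : x ∈ Subgroup.center P := by
  by_cases hx1 : x = 1
  · rw [hx1]; exact Subgroup.one_mem _
  haveI := h.fin
  haveI : Nontrivial P := ⟨⟨x, 1, hx1⟩⟩
  haveI : Fact (Nat.Prime 2) := ⟨Nat.prime_two⟩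
  haveI := h.two.center_nontrivial
  obtain ⟨⟨z, hz⟩, hz1⟩ := exists_ne (1 : Subgroup.center P)
  have hz1' : z ≠ 1 := fun e => hz1 (Subtype.ext e)
  obtain ⟨m, hm1, hm2⟩ := exists_involution_pow h.two hz1'
  obtain ⟨k, hk, -⟩ := h.reg (z ^ m) x hm1 hm2 hx1 hx
  rw [← hk]
  exact aut_mem_center _ (Subgroup.pow_mem _ hz m)

include h in
/-- non-identity elements of `K` have no non-trivial fixed points -/
theorem fixed {k : K} {x : P} (hk : φ k x = x) (hx : x ≠ 1) : k = 1 := by
  obtain ⟨m, hm1, hm2⟩ := exists_involution_pow h.two hx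
  obtain ⟨k', -, huniq⟩ := h.reg (x ^ m) (x ^ m) hm1 hm2 hm1 hm2
  have h1 : φ k (x ^ m) = x ^ m := by rw [map_pow, hk]
  have h2 : φ 1 (x ^ m) = x ^ m := by rw [map_one]; rfl
  rw [huniq k h1, huniq 1 h2]

include h in
theorem apply_eq_apply {k k' : K} {x : P} (hx : x ≠ 1) (e : φ k x = φ k' x) : k = k' := by
  have h1 : φ (k'⁻¹ * k) x = x := by
    rw [map_mul, MulAut.mul_apply, e, map_inv]
    exact MulAut.inv_apply_self _ _ _
  have := h.fixed h1 hx
  exact (inv_mul_eq_one.mp this).symm

/-- the subgroup of elements of order at most two -/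
def Zs : Subgroup P where
  carrier := {x | x * x = 1}
  one_mem' := by simp
  mul_mem' {a b} ha hb := by
    have ha' : a * a = 1 := ha
    have hb' : b * b = 1 := hb
    have hc := Subgroup.mem_center_iff.mp (h.central ha)
    show a * b * (a * b) = 1
    calc a * b * (a * b) = a * (b * a) * b := by group
      _ = a * (a * b) * b := by rw [hc b]
      _ = (a * a) * (b * b) := by group
      _ = 1 := by rw [ha', hb', one_mul]
  inv_mem' {a} ha := by
    have ha' : a * a = 1 := ha
    show a⁻¹ * a⁻¹ = 1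
    rw [← mul_inv_rev, ha', inv_one]

theorem mem_Zs {x : P} : x ∈ h.Zs ↔ x * x = 1 := Iff.rfl

theorem Zs_le_center : h.Zs ≤ Subgroup.center P := fun _ hx => h.central hx

instance Zs_normal : (h.Zs).Normal := by
  constructor
  intro n hn g
  have hc := Subgroup.mem_center_iff.mp (h.central hn)
  have : g * n * g⁻¹ = n := by rw [hc g, mul_inv_cancel_right]
  rw [this]
  exact hn

theorem map_mem_Zs (k : K) {x : P} (hx : x ∈ h.Zs) : φ k x ∈ h.Zs := by
  show φ k x * φ k x = 1
  rw [← map_mul, h.mem_Zs.mp hx, map_one]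

include h in
theorem exists_involution : ∃ t : P, t ≠ 1 ∧ t * t = 1 := by
  obtain ⟨x, y, -, hx1, hx2, -, -⟩ := h.many
  exact ⟨x, hx1, hx2⟩

include h in
theorem inv_eq_self {x : P} (hx : x * x = 1) : x⁻¹ = x := inv_eq_of_mul_eq_one_left hx

end Reg

end Cfsg.Agent.Lib.Helper3.Hig
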