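import Mathlib
import Cfsg.Agent.Lib.Helper3.Hig1

set_option autoImplicit false
set_option linter.unusedSectionVars false
set_option linter.style.haveILetI false

/-!
Higman's Suzuki `2`-groups, part 2: the acting group has odd order; sums of two of its elements
on the involutions; alternating equivariant forms vanish.
-/

namespace Cfsg.Agent.Lib.Helper3.Hig

universe u v

variable {K : Type v} [Group K] {P : Type u} [Group P]

namespace Reg

variable {φ : K →* MulAut P} (h : Reg φ)

theorem map_ne_one (φ : K →* MulAut P) (k : K) {t : P} (ht1 : t ≠ 1) : φ k t ≠ 1 := by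
  intro e
  apply ht1
  have := congrArg (φ k).symm e
  rwa [MulEquiv.symm_apply_apply, map_one] at this

theorem map_mul_self (φ : K →* MulAut P) (k : K) {t : P} (ht2 : t * t = 1) :
    φ k t * φ k t = 1 := by
  rw [← map_mul, ht2, map_one]

include h in
/-- the orbit map of an involution is a bijection from `K` to the involutions -/
theorem orbit_bijective {t : P} (ht1 : t ≠ 1) (ht2 : t * t = 1) :
    Function.Bijective (fun k : K => (⟨φ k t, map_ne_one φ k ht1, map_mul_self φ k ht2⟩ :
      {x : P // x ≠ 1 ∧ x * x = 1})) := by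
  constructor
  · intro k k' e
    exact h.apply_eq_apply ht1 (congrArg Subtype.val e)
  · rintro ⟨x, hx1, hx2⟩
    obtain ⟨k, hk, -⟩ := h.reg t x ht1 ht2 hx1 hx2
    exact ⟨k, Subtype.ext hk⟩

include h in
theorem finite_K : Finite K := by
  haveI := h.fin
  obtain ⟨t, ht1, ht2⟩ := h.exists_involution
  exact Finite.of_injective _ (h.orbit_bijective ht1 ht2).1

include h in
/-- `Zs` has one more element than `K` -/
theorem card_Zs : Nat.card h.Zs = Nat.card K + 1 := by
  haveI := h.finite_K
  obtain ⟨t, ht1, ht2⟩ := h.exists_involution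
  let f : Option K → h.Zs := fun o => Option.elim o 1 (fun k => ⟨φ k t, map_mul_self φ k ht2⟩)
  have hf : Function.Bijective f := by
    constructor
    · rintro (_ | k) (_ | k') e
      · rfl
      · exfalso
        have e' : (1 : P) = φ k' t := congrArg Subtype.val e
        exact map_ne_one φ k' ht1 e'.symm
      · exfalso
        have e' : φ k t = (1 : P) := congrArg Subtype.val e
        exact map_ne_one φ k ht1 e'
      · have e' : φ k t = φ k' t := congrArg Subtype.val e
        rw [h.apply_eq_apply ht1 e']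
    · rintro ⟨x, hx⟩
      by_cases hx1 : x = 1
      · exact ⟨none, Subtype.ext hx1.symm⟩
      · obtain ⟨k, hk, -⟩ := h.reg t x ht1 ht2 hx1 hx
        exact ⟨some k, Subtype.ext hk⟩
  rw [← Nat.card_eq_of_bijective f hf, Finite.card_option]

include h in
/-- the order of `K` is odd -/
theorem odd_card_K : Odd (Nat.card K) := by
  haveI := h.fin
  haveI : Fact (Nat.Prime 2) := ⟨Nat.prime_two⟩
  obtain ⟨t, ht1, ht2⟩ := h.exists_involution
  have h2 := h.card_Zs
  obtain ⟨s, hs⟩ := (h.two.to_subgroup h.Zs).exists_card_eq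
  have hs0 : s ≠ 0 := by
    rintro rfl
    rw [pow_zero] at hs
    haveI := h.finite_K
    have hpos : 0 < Nat.card K := Nat.card_pos
    omega
  obtain ⟨r, rfl⟩ := Nat.exists_eq_succ_of_ne_zero hs0
  rw [hs, pow_succ] at h2
  exact ⟨2 ^ r - 1, by have : 0 < 2 ^ r := by positivity
                       omega⟩

include h in
/-- square roots in `K` -/
theorem exists_sqrt (m : K) : ∃ r : K, r * r = m := by
  obtain ⟨a, ha⟩ := h.odd_card_K
  refine ⟨m ^ (a + 1), ?_⟩
  rw [← pow_add]
  have : a + 1 + (a + 1) = Nat.card K + 1 := by omega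
  rw [this, pow_succ, pow_card_eq_one', one_mul]

include h in
/-- the sum of two distinct elements of `K`, acting on the involutions, is an element of `K` -/
theorem exists_add {k k' : K} (hkk' : k ≠ k') :
    ∃ k'' : K, ∀ z : P, z * z = 1 → φ k'' z = φ k z * φ k' z := by
  obtain ⟨t, ht1, ht2⟩ := h.exists_involution
  have hw2 : (φ k t * φ k' t) * (φ k t * φ k' t) = 1 :=
    h.mem_Zs.mp (h.Zs.mul_mem (h.map_mem_Zs k ht2) (h.map_mem_Zs k' ht2))
  have hw1 : φ k t * φ k' t ≠ 1 := by
    intro e
    apply hkk'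
    apply h.apply_eq_apply ht1
    have h3 : φ k' t * φ k' t = 1 := h.map_mem_Zs k' ht2
    calc φ k t = φ k t * (φ k' t * φ k' t) := by rw [h3, mul_one]
      _ = (φ k t * φ k' t) * φ k' t := by rw [mul_assoc]
      _ = φ k' t := by rw [e, one_mul]
  obtain ⟨k'', hk'', -⟩ := h.reg t _ ht1 ht2 hw1 hw2
  refine ⟨k'', ?_⟩
  intro z hz
  by_cases hz1 : z = 1
  · rw [hz1, map_one, map_one, map_one, one_mul]
  obtain ⟨m, hm, -⟩ := h.reg t z ht1 ht2 hz1 hz
  have hc : ∀ a : K, φ a z = φ m (φ a t) := by
    intro a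
    rw [← hm, ← MulAut.mul_apply, ← MulAut.mul_apply, ← map_mul, ← map_mul, h.comm]
  rw [hc k'', hc k, hc k', hk'', map_mul]

end Reg

end Cfsg.Agent.Lib.Helper3.Hig
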