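import Mathlib
import Cfsg.Agent.Lib.Helper3.Hig2

set_option autoImplicit false
set_option linter.unusedSectionVars false
set_option linter.style.haveILetI false

/-!
Higman's Suzuki `2`-groups, part 3: a group of class two whose commutator form factors through an
equivariant homomorphism onto the involutions is abelian.
-/

namespace Cfsg.Agent.Lib.Helper3.Hig

open scoped commutatorElement

universe u v

variable {K : Type v} [Group K] {P : Type u} [Group P]

theorem comm_mul_left_of_central {x x' y : P} (hc : ⁅x', y⁆ ∈ Subgroup.center P) :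
    ⁅x * x', y⁆ = ⁅x', y⁆ * ⁅x, y⁆ := by
  have h1 : ⁅x * x', y⁆ = x * ⁅x', y⁆ * x⁻¹ * ⁅x, y⁆ := by
    simp only [commutatorElement_def]; group
  rw [h1, (Subgroup.mem_center_iff.mp hc) x, mul_inv_cancel_right]

theorem comm_mul_right_of_central {x y y' : P} (hc : ⁅x, y'⁆ ∈ Subgroup.center P) :
    ⁅x, y * y'⁆ = ⁅x, y⁆ * ⁅x, y'⁆ := by
  have h1 : ⁅x, y * y'⁆ = ⁅x, y⁆ * (y * ⁅x, y'⁆ * y⁻¹) := by
    simp only [commutatorElement_def]; group
  rw [h1, (Subgroup.mem_center_iff.mp hc) y, mul_inv_cancel_right]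

theorem comm_eq_one_of_central {m y : P} (hm : m ∈ Subgroup.center P) : ⁅m, y⁆ = 1 := by
  rw [commutatorElement_def, ← (Subgroup.mem_center_iff.mp hm) y, mul_inv_cancel_right,
    mul_inv_cancel]

theorem comm_eq_one_of_central' {m y : P} (hm : m ∈ Subgroup.center P) : ⁅y, m⁆ = 1 := by
  rw [commutatorElement_def, (Subgroup.mem_center_iff.mp hm) y, mul_inv_cancel_right,
    mul_inv_cancel]

namespace Reg

variable {φ : K →* MulAut P} (h : Reg φ)

include h in
/-- the key lemma: commutativity from an equivariant homomorphism into the involutions with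
central kernel -/
theorem comm_of_hom (hc2 : ∀ x y : P, ⁅x, y⁆ * ⁅x, y⁆ = 1)
    (ρ : P →* P) (hρ2 : ∀ x, ρ x * ρ x = 1) (hρk : ∀ k x, ρ (φ k x) = φ k (ρ x))
    (hρc : ∀ x, ρ x = 1 → x ∈ Subgroup.center P) :
    ∀ x y : P, x * y = y * x := by
  have hcc : ∀ x y : P, ⁅x, y⁆ ∈ Subgroup.center P := fun x y => h.central (hc2 x y)
  -- dependence on `ρ` only
  have hdepL : ∀ x x' y : P, ρ x = ρ x' → ⁅x, y⁆ = ⁅x', y⁆ := by
    intro x x' y e
    have hm : x⁻¹ * x' ∈ Subgroup.center P := by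
      apply hρc
      rw [map_mul, map_inv, e, inv_mul_cancel]
    have e2 : x' = x * (x⁻¹ * x') := by group
    rw [e2, comm_mul_left_of_central (hcc _ _), comm_eq_one_of_central hm, one_mul]
  have hdepR : ∀ x y y' : P, ρ y = ρ y' → ⁅x, y⁆ = ⁅x, y'⁆ := by
    intro x y y' e
    have hm : y⁻¹ * y' ∈ Subgroup.center P := by
      apply hρc
      rw [map_mul, map_inv, e, inv_mul_cancel]
    have e2 : y' = y * (y⁻¹ * y') := by group
    rw [e2, comm_mul_right_of_central (hcc _ _), comm_eq_one_of_central' hm, mul_one]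
  -- the polarisation identity
  have hpol : ∀ (k k' : K) (x y : P), ⁅φ k x, φ k' y⁆ = ⁅φ k' x, φ k y⁆ := by
    intro k k' x y
    by_cases hkk' : k = k'
    · rw [hkk']
    obtain ⟨k'', hk''⟩ := h.exists_add hkk'
    have e1 : ρ (φ k x * φ k' x) = ρ (φ k'' x) := by
      rw [map_mul, hρk, hρk, hρk, hk'' _ (hρ2 x)]
    have e2 : ρ (φ k y * φ k' y) = ρ (φ k'' y) := by
      rw [map_mul, hρk, hρk, hρk, hk'' _ (hρ2 y)]
    have e3 : ⁅φ k x * φ k' x, φ k y * φ k' y⁆ = φ k ⁅x, y⁆ * φ k' ⁅x, y⁆ := by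
      rw [hdepL _ _ _ e1, hdepR _ _ _ e2, ← map_commutatorElement, hk'' _ (hc2 x y)]
    rw [comm_mul_left_of_central (hcc _ _), comm_mul_right_of_central (hcc _ _),
      comm_mul_right_of_central (hcc _ _), map_commutatorElement, map_commutatorElement] at e3
    -- now an identity in the centre
    let a : Subgroup.center P := ⟨⁅φ k x, φ k y⁆, hcc _ _⟩
    let b : Subgroup.center P := ⟨⁅φ k x, φ k' y⁆, hcc _ _⟩
    let c : Subgroup.center P := ⟨⁅φ k' x, φ k y⁆, hcc _ _⟩
    let d : Subgroup.center P := ⟨⁅φ k' x, φ k' y⁆, hcc _ _⟩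
    have e4 : c * d * (a * b) = a * d := Subtype.ext e3
    have e5 : (c * b) * (a * d) = c * d * (a * b) := by ac_rfl
    rw [e4] at e5
    have e6 : c * b = 1 := mul_eq_right.mp e5
    have e7 : (c : P) * b = 1 := congrArg Subtype.val e6
    have e8 : (b : P) * b = 1 := hc2 _ _
    have e9 : (c : P) = b := by
      calc (c : P) = c * (b * b) := by rw [e8, mul_one]
        _ = (c * b) * b := by rw [mul_assoc]
        _ = b := by rw [e7, one_mul]
    exact e9.symm
  intro x y
  have hfin : ⁅x, y⁆ = 1 := by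
    by_cases hx : ρ x = 1
    · exact comm_eq_one_of_central (hρc x hx)
    by_cases hy : ρ y = 1
    · exact comm_eq_one_of_central' (hρc y hy)
    obtain ⟨m, hm, -⟩ := h.reg (ρ x) (ρ y) hx (hρ2 x) hy (hρ2 y)
    obtain ⟨r, hr⟩ := h.exists_sqrt m
    have e1 : ρ y = ρ (φ r (φ r x)) := by
      rw [hρk, hρk, ← hm, ← hr, map_mul, MulAut.mul_apply]
    rw [hdepR _ _ _ e1]
    have e2 := hpol 1 r x (φ r x)
    rw [map_one] at e2
    have e3 : ((1 : MulAut P) x) = x := rfl
    have e4 : ((1 : MulAut P) (φ r x)) = φ r x := rfl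
    rw [e3, e4] at e2
    rw [e2, commutatorElement_self]
  rw [commutatorElement_def] at hfin
  calc x * y = (x * y * x⁻¹ * y⁻¹) * (y * x) := by group
    _ = y * x := by rw [hfin, one_mul]

end Reg

end Cfsg.Agent.Lib.Helper3.Hig
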