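import Mathlib
import Cfsg.Agent.Lib.Helper3.Hig3

set_option autoImplicit false
set_option linter.unusedSectionVars false
set_option linter.style.haveILetI false

/-!
Higman's Suzuki `2`-groups, part 4: in the abelian case the invariant subgroups form a chain.
-/

namespace Cfsg.Agent.Lib.Helper3.Hig

universe u v

variable {K : Type v} [Group K] {P : Type u} [Group P]

namespace Reg

variable {φ : K →* MulAut P} (h : Reg φ)

include h in
/-- an invariant subgroup which is not trivial contains all the elements of order two -/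
theorem Zs_le_of_invariant (N : Subgroup P) (hN : ∀ k, ∀ x ∈ N, φ k x ∈ N)
    {x : P} (hx : x ∈ N) (hx1 : x ≠ 1) : h.Zs ≤ N := by
  obtain ⟨m, hm1, hm2⟩ := exists_involution_pow h.two hx1
  intro z hz
  by_cases hz1 : z = 1
  · rw [hz1]; exact N.one_mem
  obtain ⟨k, hk, -⟩ := h.reg _ z hm1 hm2 hz1 hz
  rw [← hk]
  exact hN k _ (N.pow_mem hx m)

/-- the subgroup of squares of an invariant subgroup, in the abelian case -/
def sqSub (hc : ∀ x y : P, x * y = y * x) (N : Subgroup P) : Subgroup P where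
  carrier := {y | ∃ x ∈ N, x * x = y}
  one_mem' := ⟨1, N.one_mem, by simp⟩
  mul_mem' := by
    rintro _ _ ⟨x, hx, rfl⟩ ⟨x', hx', rfl⟩
    refine ⟨x * x', N.mul_mem hx hx', ?_⟩
    calc x * x' * (x * x') = x * (x' * x) * x' := by group
      _ = x * (x * x') * x' := by rw [hc x' x]
      _ = x * x * (x' * x') := by group
  inv_mem' := by
    rintro _ ⟨x, hx, rfl⟩
    exact ⟨x⁻¹, N.inv_mem hx, by rw [mul_inv_rev]⟩

include h in
theorem chain_aux (hc : ∀ x y : P, x * y = y * x) :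
    ∀ (s : ℕ) (N : Subgroup P), (∀ k, ∀ x ∈ N, φ k x ∈ N) → (∀ x ∈ N, x ^ (2 ^ s) = 1) →
      ∃ j : ℕ, ∀ x : P, x ∈ N ↔ x ^ (2 ^ j) = 1 := by
  intro s
  induction s with
  | zero =>
    intro N _ hb
    refine ⟨0, fun x => ⟨fun hx => hb x hx, fun hx => ?_⟩⟩
    rw [pow_zero, pow_one] at hx
    rw [hx]; exact N.one_mem
  | succ s ih =>
    intro N hN hb
    by_cases htriv : ∀ x ∈ N, x = 1
    · refine ⟨0, fun x => ⟨fun hx => ?_, fun hx => ?_⟩⟩
      · rw [htriv x hx, one_pow]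
      · rw [pow_zero, pow_one] at hx
        rw [hx]; exact N.one_mem
    push Not at htriv
    obtain ⟨x₀, hx₀, hx₀1⟩ := htriv
    have hZ : h.Zs ≤ N := h.Zs_le_of_invariant N hN hx₀ hx₀1
    have hN' : ∀ k, ∀ x ∈ sqSub hc N, φ k x ∈ sqSub hc N := by
      rintro k _ ⟨x, hx, rfl⟩
      exact ⟨φ k x, hN k x hx, by rw [map_mul]⟩
    have hb' : ∀ x ∈ sqSub hc N, x ^ (2 ^ s) = 1 := by
      rintro _ ⟨x, hx, rfl⟩
      rw [← sq, ← pow_mul, ← pow_succ']
      exact hb x hx
    obtain ⟨j, hj⟩ := ih (sqSub hc N) hN' hb'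
    refine ⟨j + 1, fun y => ⟨fun hy => ?_, fun hy => ?_⟩⟩
    · have : y * y ∈ sqSub hc N := ⟨y, hy, rfl⟩
      have := (hj _).mp this
      rwa [← sq, ← pow_mul, ← pow_succ'] at this
    · have h1 : (y * y) ^ (2 ^ j) = 1 := by
        rwa [← sq, ← pow_mul, ← pow_succ']
      obtain ⟨x, hx, hxy⟩ := (hj _).mpr h1
      have h2 : y * x⁻¹ ∈ h.Zs := by
        show y * x⁻¹ * (y * x⁻¹) = 1
        calc y * x⁻¹ * (y * x⁻¹) = y * (x⁻¹ * y) * x⁻¹ := by group
          _ = y * (y * x⁻¹) * x⁻¹ := by rw [hc x⁻¹ y]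
          _ = (y * y) * (x * x)⁻¹ := by group
          _ = 1 := by rw [hxy, mul_inv_cancel]
      have h3 : y = (y * x⁻¹) * x := by group
      rw [h3]
      exact N.mul_mem (hZ h2) hx

include h in
/-- in the abelian case every invariant subgroup consists of the elements of order dividing a
fixed power of two -/
theorem chain (hc : ∀ x y : P, x * y = y * x) (N : Subgroup P)
    (hN : ∀ k, ∀ x ∈ N, φ k x ∈ N) : ∃ j : ℕ, ∀ x : P, x ∈ N ↔ x ^ (2 ^ j) = 1 := by
  haveI := h.fin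
  haveI : Fact (Nat.Prime 2) := ⟨Nat.prime_two⟩
  obtain ⟨s, hs⟩ := h.two.exists_card_eq
  apply h.chain_aux hc s N hN
  intro x _
  rw [← hs]
  exact pow_card_eq_one'

end Reg

end Cfsg.Agent.Lib.Helper3.Hig
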