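import Mathlib
import Cfsg.Agent.Lib.Helper3.Hig4

set_option autoImplicit false
set_option linter.unusedSectionVars false
set_option linter.style.haveILetI false

/-!
Higman's Suzuki `2`-groups, part 5: when the centre has an element of order four, the quotient by
the elements of order at most two is again acted on regularly.
-/

namespace Cfsg.Agent.Lib.Helper3.Hig

open scoped commutatorElement

universe u v

variable {K : Type v} [Group K] {P : Type u} [Group P]

theorem pow_mul_self (x : P) (m : ℕ) : x ^ m * x ^ m = (x * x) ^ m := by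
  rw [← pow_add, ← two_mul, pow_mul, sq]

/-- in a `2`-group an element whose square is not trivial has a power of order four -/
theorem exists_order_four_pow (h2 : IsPGroup 2 P) {x : P} (hx : x * x ≠ 1) :
    ∃ m : ℕ, x ^ m * x ^ m ≠ 1 ∧ (x ^ m * x ^ m) * (x ^ m * x ^ m) = 1 := by
  obtain ⟨m, hm1, hm2⟩ := exists_involution_pow h2 hx
  exact ⟨m, by rwa [pow_mul_self], by rwa [pow_mul_self]⟩

namespace Reg

variable {φ : K →* MulAut P} (h : Reg φ)

include h in
/-- every element of order at most two is the square of a central element -/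
theorem exists_central_sqrt {c : P} (hc : c ∈ Subgroup.center P) (hc2 : c * c ≠ 1) :
    ∀ z : P, z * z = 1 → ∃ a ∈ Subgroup.center P, a * a = z := by
  obtain ⟨m, hm1, hm2⟩ := exists_order_four_pow h.two hc2
  intro z hz
  by_cases hz1 : z = 1
  · exact ⟨1, Subgroup.one_mem _, by rw [hz1, one_mul]⟩
  obtain ⟨k, hk, -⟩ := h.reg _ z hm1 hm2 hz1 hz
  refine ⟨φ k (c ^ m), aut_mem_center _ (Subgroup.pow_mem _ hc m), ?_⟩
  rw [← map_mul, hk]

include h in
/-- the elements of order dividing four are central -/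
theorem central_of_pow_four {c : P} (hc : c ∈ Subgroup.center P) (hc2 : c * c ≠ 1)
    {x : P} (hx : (x * x) * (x * x) = 1) : x ∈ Subgroup.center P := by
  obtain ⟨a, ha, haa⟩ := h.exists_central_sqrt hc hc2 (x * x) hx
  have hac := Subgroup.mem_center_iff.mp ha
  have h1 : x * a⁻¹ ∈ h.Zs := by
    show x * a⁻¹ * (x * a⁻¹) = 1
    have hac' : a⁻¹ * x = x * a⁻¹ := by
      have := hac x
      calc a⁻¹ * x = a⁻¹ * (x * a) * a⁻¹ := by group
        _ = a⁻¹ * (a * x) * a⁻¹ := by rw [this]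
        _ = x * a⁻¹ := by group
    calc x * a⁻¹ * (x * a⁻¹) = x * (a⁻¹ * x) * a⁻¹ := by group
      _ = x * (x * a⁻¹) * a⁻¹ := by rw [hac']
      _ = (x * x) * (a * a)⁻¹ := by group
      _ = 1 := by rw [haa, mul_inv_cancel]
  have h2 : x = (x * a⁻¹) * a := by group
  rw [h2]
  exact Subgroup.mul_mem _ (h.Zs_le_center h1) ha

theorem map_Zs (k : K) : (h.Zs).map ((φ k : P ≃* P) : P →* P) = h.Zs := by
  apply le_antisymm
  · rintro _ ⟨x, hx, rfl⟩
    exact h.map_mem_Zs k hx
  · intro x hx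
    refine ⟨(φ k).symm x, ?_, (φ k).apply_symm_apply x⟩
    show (φ k).symm x * (φ k).symm x = 1
    rw [← map_mul, h.mem_Zs.mp hx, map_one]

/-- the induced action on the quotient -/
noncomputable def quotHom : K →* MulAut (P ⧸ h.Zs) where
  toFun k := QuotientGroup.congr h.Zs h.Zs (φ k) (h.map_Zs k)
  map_one' := by
    ext x
    induction x using QuotientGroup.induction_on with
    | H x =>
      rw [QuotientGroup.congr_mk, map_one]
      rfl
  map_mul' k k' := by
    ext x
    induction x using QuotientGroup.induction_on with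
    | H x =>
      rw [QuotientGroup.congr_mk, map_mul, MulAut.mul_apply, MulAut.mul_apply]
      erw [QuotientGroup.congr_mk]
      rfl

theorem quotHom_mk (k : K) (x : P) :
    h.quotHom k (QuotientGroup.mk x) = QuotientGroup.mk (φ k x) :=
  QuotientGroup.congr_mk _ _ _ (h.map_Zs k) x

theorem mk_eq_one_iff (x : P) : (QuotientGroup.mk x : P ⧸ h.Zs) = 1 ↔ x * x = 1 := by
  rw [QuotientGroup.eq_one_iff]
  exact h.mem_Zs

theorem mk_eq_mk_iff (x y : P) :
    (QuotientGroup.mk x : P ⧸ h.Zs) = QuotientGroup.mk y ↔ (x⁻¹ * y) * (x⁻¹ * y) = 1 := by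
  rw [QuotientGroup.eq]
  exact h.mem_Zs

include h in
/-- the quotient is again acted on regularly -/
theorem reg_quot {c : P} (hc : c ∈ Subgroup.center P) (hc2 : c * c ≠ 1) : Reg h.quotHom := by
  haveI := h.fin
  have hsq := h.exists_central_sqrt hc hc2
  have hA : ∀ x : P, (x * x) * (x * x) = 1 → x ∈ Subgroup.center P :=
    fun x hx => h.central_of_pow_four hc hc2 hx
  refine ⟨h.comm, inferInstance, h.two.to_quotient _, ?_, ?_⟩
  · obtain ⟨t₀, t₁, hne, h01, h02, h11, h12⟩ := h.many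
    obtain ⟨a₀, ha₀, haa₀⟩ := hsq t₀ h02
    obtain ⟨a₁, ha₁, haa₁⟩ := hsq t₁ h12
    refine ⟨QuotientGroup.mk a₀, QuotientGroup.mk a₁, ?_, ?_, ?_, ?_, ?_⟩
    · intro e
      rw [h.mk_eq_mk_iff] at e
      apply hne
      have hz : a₀⁻¹ * a₁ ∈ Subgroup.center P := h.central e
      have hzc := Subgroup.mem_center_iff.mp hz
      have e1 : a₁ = a₀ * (a₀⁻¹ * a₁) := by group
      rw [← haa₀, ← haa₁]
      calc a₀ * a₀ = a₀ * a₀ * ((a₀⁻¹ * a₁) * (a₀⁻¹ * a₁)) := by rw [e, mul_one]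
        _ = a₀ * (a₀ * (a₀⁻¹ * a₁)) * (a₀⁻¹ * a₁) := by group
        _ = a₀ * ((a₀⁻¹ * a₁) * a₀) * (a₀⁻¹ * a₁) := by rw [hzc a₀]
        _ = a₁ * a₁ := by group
    · rw [Ne, h.mk_eq_one_iff, haa₀]; exact h01
    · rw [← QuotientGroup.mk_mul, h.mk_eq_one_iff, haa₀]; exact h02
    · rw [Ne, h.mk_eq_one_iff, haa₁]; exact h11
    · rw [← QuotientGroup.mk_mul, h.mk_eq_one_iff, haa₁]; exact h12
  · intro X Y hX1 hX2 hY1 hY2
    obtain ⟨x, rfl⟩ := QuotientGroup.mk_surjective X
    obtain ⟨y, rfl⟩ := QuotientGroup.mk_surjective Y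
    rw [Ne, h.mk_eq_one_iff] at hX1 hY1
    rw [← QuotientGroup.mk_mul, h.mk_eq_one_iff] at hX2 hY2
    have hxc := Subgroup.mem_center_iff.mp (hA x hX2)
    have hyc := Subgroup.mem_center_iff.mp (hA y hY2)
    obtain ⟨k, hk, huniq⟩ := h.reg (x * x) (y * y) hX1 hX2 hY1 hY2
    have key : ∀ k' : K, h.quotHom k' (QuotientGroup.mk x) = QuotientGroup.mk y ↔
        φ k' (x * x) = y * y := by
      intro k'
      rw [h.quotHom_mk, h.mk_eq_mk_iff]
      have hyc' : ∀ g : P, g * y = y * g := hyc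
      have e1 : ((φ k' x)⁻¹ * y) * ((φ k' x)⁻¹ * y) = (φ k' (x * x))⁻¹ * (y * y) := by
        rw [map_mul]
        calc ((φ k' x)⁻¹ * y) * ((φ k' x)⁻¹ * y)
            = (φ k' x)⁻¹ * (y * (φ k' x)⁻¹) * y := by group
          _ = (φ k' x)⁻¹ * ((φ k' x)⁻¹ * y) * y := by rw [← hyc' (φ k' x)⁻¹]
          _ = (φ k' x * φ k' x)⁻¹ * (y * y) := by group
      rw [e1, inv_mul_eq_one]
    refine ⟨k, (key k).mpr hk, fun k' hk' => huniq k' ((key k').mp hk')⟩

include h in
theorem card_quot_lt : Nat.card (P ⧸ h.Zs) < Nat.card P := by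
  haveI := h.fin
  have h1 := Subgroup.card_eq_card_quotient_mul_card_subgroup h.Zs
  have h2 := h.card_Zs
  haveI := h.finite_K
  have h3 : 0 < Nat.card K := Nat.card_pos
  have h4 : 0 < Nat.card (P ⧸ h.Zs) := Nat.card_pos
  rw [h1, h2]
  nlinarith

end Reg

end Cfsg.Agent.Lib.Helper3.Hig
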