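import Mathlib
import Cfsg.Agent.Lib.Helper3.Hig5

set_option autoImplicit false
set_option linter.unusedSectionVars false
set_option linter.style.haveILetI false

/-!
Higman's Suzuki `2`-groups, part 6: a central element of order four in the quotient.
-/

namespace Cfsg.Agent.Lib.Helper3.Hig

open scoped commutatorElement

universe u v

variable {K : Type v} [Group K] {P : Type u} [Group P]

namespace Reg

variable {φ : K →* MulAut P} (h : Reg φ)

/-- the subgroup of elements of order dividing four, when these are central -/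
def fourSub (hA : ∀ x : P, (x * x) * (x * x) = 1 → x ∈ Subgroup.center P) : Subgroup P where
  carrier := {x | (x * x) * (x * x) = 1}
  one_mem' := by simp
  mul_mem' {a b} ha hb := by
    have hac := Subgroup.mem_center_iff.mp (hA a ha)
    have ha' : (a * a) * (a * a) = 1 := ha
    have hb' : (b * b) * (b * b) = 1 := hb
    show (a * b * (a * b)) * (a * b * (a * b)) = 1
    have e1 : a * b * (a * b) = (a * a) * (b * b) := by
      calc a * b * (a * b) = a * (b * a) * b := by group
        _ = a * (a * b) * b := by rw [hac b]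
        _ = (a * a) * (b * b) := by group
    have hac2 : ∀ g : P, g * (a * a) = (a * a) * g := by
      intro g
      rw [← mul_assoc, hac g, mul_assoc, hac g, mul_assoc]
    rw [e1]
    calc (a * a) * (b * b) * ((a * a) * (b * b))
        = (a * a) * ((b * b) * (a * a)) * (b * b) := by group
      _ = (a * a) * ((a * a) * (b * b)) * (b * b) := by rw [hac2 (b * b)]
      _ = ((a * a) * (a * a)) * ((b * b) * (b * b)) := by group
      _ = 1 := by rw [ha', hb', one_mul]
  inv_mem' {a} ha := by
    have ha' : (a * a) * (a * a) = 1 := ha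
    show (a⁻¹ * a⁻¹) * (a⁻¹ * a⁻¹) = 1
    have : (a⁻¹ * a⁻¹) * (a⁻¹ * a⁻¹) = ((a * a) * (a * a))⁻¹ := by group
    rw [this, ha', inv_one]

theorem fourSub_le_center (hA : ∀ x : P, (x * x) * (x * x) = 1 → x ∈ Subgroup.center P) :
    fourSub hA ≤ Subgroup.center P := fun x hx => hA x hx

instance fourSub_normal (hA : ∀ x : P, (x * x) * (x * x) = 1 → x ∈ Subgroup.center P) :
    (fourSub hA).Normal := by
  constructor
  intro n hn g
  have hc := Subgroup.mem_center_iff.mp (hA n hn)
  have : g * n * g⁻¹ = n := by rw [hc g, mul_inv_cancel_right]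
  rw [this]
  exact hn

include h in
/-- if the elements of order dividing four are central and do not exhaust `P`, the quotient by
`Zs` has a central element whose square is not trivial -/
theorem exists_central_quot (hA : ∀ x : P, (x * x) * (x * x) = 1 → x ∈ Subgroup.center P)
    (hx₀ : ∃ x : P, (x * x) * (x * x) ≠ 1) :
    ∃ C : P ⧸ h.Zs, C ∈ Subgroup.center (P ⧸ h.Zs) ∧ C * C ≠ 1 := by
  haveI := h.fin
  haveI : Fact (Nat.Prime 2) := ⟨Nat.prime_two⟩
  obtain ⟨x₀, hx₀⟩ := hx₀
  haveI : Nontrivial (P ⧸ fourSub hA) := by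
    refine ⟨⟨QuotientGroup.mk x₀, 1, ?_⟩⟩
    rw [Ne, QuotientGroup.eq_one_iff]
    exact hx₀
  have h2 : IsPGroup 2 (P ⧸ fourSub hA) := h.two.to_quotient _
  haveI := h2.center_nontrivial
  obtain ⟨⟨w, hw⟩, hw1⟩ := exists_ne (1 : Subgroup.center (P ⧸ fourSub hA))
  have hw1' : w ≠ 1 := fun e => hw1 (Subtype.ext e)
  obtain ⟨m, hm1, hm2⟩ := exists_involution_pow h2 hw1'
  have hwm : w ^ m ∈ Subgroup.center (P ⧸ fourSub hA) := Subgroup.pow_mem _ hw m
  obtain ⟨y, hy⟩ := QuotientGroup.mk_surjective (w ^ m)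
  rw [← hy] at hm1 hm2 hwm
  -- properties of `y`
  have hy1 : (y * y) * (y * y) ≠ 1 := by
    intro e
    apply hm1
    rw [QuotientGroup.eq_one_iff]
    exact e
  have hy2 : y * y ∈ fourSub hA := by
    rw [← QuotientGroup.eq_one_iff, QuotientGroup.mk_mul]
    exact hm2
  have hy3 : ∀ g : P, ⁅y, g⁆ ∈ fourSub hA := by
    intro g
    rw [← QuotientGroup.eq_one_iff]
    have : ((⁅y, g⁆ : P) : P ⧸ fourSub hA) = ⁅(y : P ⧸ fourSub hA), (g : P ⧸ fourSub hA)⁆ := by
      simp only [commutatorElement_def, QuotientGroup.mk_mul, QuotientGroup.mk_inv]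
    rw [this]
    exact comm_eq_one_of_central hwm
  have hy4 : ∀ g : P, ⁅y, g⁆ * ⁅y, g⁆ = 1 := by
    intro g
    have hc : ⁅y, g⁆ ∈ Subgroup.center P := hA _ (hy3 g)
    have e1 := comm_mul_left_of_central (x := y) hc
    rw [comm_eq_one_of_central (hA _ hy2)] at e1
    exact e1.symm
  refine ⟨QuotientGroup.mk y, ?_, ?_⟩
  · rw [Subgroup.mem_center_iff]
    intro G
    obtain ⟨g, rfl⟩ := QuotientGroup.mk_surjective G
    have e1 : ⁅(y : P ⧸ h.Zs), (g : P ⧸ h.Zs)⁆ = 1 := by
      have : ((⁅y, g⁆ : P) : P ⧸ h.Zs) = ⁅(y : P ⧸ h.Zs), (g : P ⧸ h.Zs)⁆ := by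
        simp only [commutatorElement_def, QuotientGroup.mk_mul, QuotientGroup.mk_inv]
      rw [← this, h.mk_eq_one_iff]
      exact hy4 g
    exact (commutatorElement_eq_one_iff_commute.mp e1).eq.symm
  · rw [← QuotientGroup.mk_mul, Ne, h.mk_eq_one_iff]
    exact hy1

end Reg

end Cfsg.Agent.Lib.Helper3.Hig
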