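import Mathlib
import Cfsg.Agent.Lib.Helper3.Hig6

set_option autoImplicit false
set_option linter.unusedSectionVars false
set_option linter.style.haveILetI false

/-!
Higman's Suzuki `2`-groups, part 7: a group acted on regularly on its involutions whose centre
contains an element of order four is abelian.
-/

namespace Cfsg.Agent.Lib.Helper3.Hig

open scoped commutatorElement

universe u v

variable {K : Type v} [Group K]

/-- fourth powers are multiplicative when commutators are central involutions -/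
theorem pow_four_mul {P : Type u} [Group P]
    (hc2 : ∀ x y : P, ⁅x, y⁆ * ⁅x, y⁆ = 1)
    (hcc : ∀ x y : P, ⁅x, y⁆ ∈ Subgroup.center P)
    (hsqc : ∀ x : P, x * x ∈ Subgroup.center P) (x y : P) :
    (x * y) ^ 4 = x ^ 4 * y ^ 4 := by
  let c₀ : Subgroup.center P := ⟨⁅y, x⁆, hcc y x⟩
  let s : Subgroup.center P := ⟨x * x, hsqc x⟩
  let t : Subgroup.center P := ⟨y * y, hsqc y⟩
  have hc₀ : c₀ * c₀ = 1 := Subtype.ext (hc2 y x)
  have e0 : y * x = ⁅y, x⁆ * (x * y) := by
    simp only [commutatorElement_def]; group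
  have hcx : x * ⁅y, x⁆ = ⁅y, x⁆ * x := Subgroup.mem_center_iff.mp (hcc y x) x
  have e1 : x * y * (x * y) = ((c₀ * (s * t) : Subgroup.center P) : P) := by
    show x * y * (x * y) = ⁅y, x⁆ * ((x * x) * (y * y))
    calc x * y * (x * y) = x * (y * x) * y := by group
      _ = x * (⁅y, x⁆ * (x * y)) * y := by rw [← e0]
      _ = (x * ⁅y, x⁆) * x * y * y := by group
      _ = (⁅y, x⁆ * x) * x * y * y := by rw [hcx]
      _ = ⁅y, x⁆ * ((x * x) * (y * y)) := by group
  have e2 : (x * y) ^ 4 = (x * y * (x * y)) * (x * y * (x * y)) := by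
    rw [show (4 : ℕ) = 2 + 2 by norm_num, pow_add, sq]
  have e3 : x ^ 4 = ((s * s : Subgroup.center P) : P) := by
    show x ^ 4 = (x * x) * (x * x)
    rw [show (4 : ℕ) = 2 + 2 by norm_num, pow_add, sq]
  have e4 : y ^ 4 = ((t * t : Subgroup.center P) : P) := by
    show y ^ 4 = (y * y) * (y * y)
    rw [show (4 : ℕ) = 2 + 2 by norm_num, pow_add, sq]
  rw [e2, e1, e3, e4, ← Subgroup.coe_mul, ← Subgroup.coe_mul]
  congr 1
  calc c₀ * (s * t) * (c₀ * (s * t)) = (c₀ * c₀) * (s * s * (t * t)) := by ac_rfl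
    _ = s * s * (t * t) := by rw [hc₀, one_mul]

/-- **Key theorem**: if the centre contains an element whose square is not trivial, the group is
abelian. -/
theorem abelian_of_central_four : ∀ (n : ℕ) (P : Type u) [Group P] (φ : K →* MulAut P),
    Nat.card P = n → Reg φ → (∃ c ∈ Subgroup.center P, c * c ≠ 1) →
    ∀ x y : P, x * y = y * x := by
  intro n
  induction n using Nat.strong_induction_on with
  | _ n ih =>
    intro P _ φ hn h hcex
    obtain ⟨c, hc, hc2⟩ := hcex
    have hA : ∀ x : P, (x * x) * (x * x) = 1 → x ∈ Subgroup.center P :=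
      fun x hx => h.central_of_pow_four hc hc2 hx
    by_cases hall : ∀ x : P, (x * x) * (x * x) = 1
    · intro x y
      exact Subgroup.mem_center_iff.mp (hA y (hall y)) x
    push Not at hall
    have hq := h.reg_quot hc hc2
    obtain ⟨C, hC, hC2⟩ := h.exists_central_quot hA hall
    have hlt := h.card_quot_lt
    have hab : ∀ X Y : P ⧸ h.Zs, X * Y = Y * X :=
      ih _ (hn ▸ hlt) (P ⧸ h.Zs) h.quotHom rfl hq ⟨C, hC, hC2⟩
    have hc2' : ∀ x y : P, ⁅x, y⁆ * ⁅x, y⁆ = 1 := by
      intro x y
      rw [← h.mk_eq_one_iff]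
      have : ((⁅x, y⁆ : P) : P ⧸ h.Zs) = ⁅(x : P ⧸ h.Zs), (y : P ⧸ h.Zs)⁆ := by
        simp only [commutatorElement_def, QuotientGroup.mk_mul, QuotientGroup.mk_inv]
      rw [this, commutatorElement_eq_one_iff_commute]
      exact hab _ _
    have hcc : ∀ x y : P, ⁅x, y⁆ ∈ Subgroup.center P := fun x y => h.central (hc2' x y)
    have hsqc : ∀ x : P, x * x ∈ Subgroup.center P := by
      intro x
      rw [Subgroup.mem_center_iff]
      intro g
      have e1 := comm_mul_left_of_central (x := x) (x' := x) (y := g) (hcc x g)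
      rw [hc2'] at e1
      exact (commutatorElement_eq_one_iff_commute.mp e1).eq.symm
    -- the image of the centre in the quotient
    let N₁ : Subgroup (P ⧸ h.Zs) := (Subgroup.center P).map (QuotientGroup.mk' h.Zs)
    have hN₁ : ∀ k, ∀ X ∈ N₁, h.quotHom k X ∈ N₁ := by
      rintro k _ ⟨x, hx, rfl⟩
      exact ⟨φ k x, aut_mem_center _ hx, (h.quotHom_mk k x).symm⟩
    obtain ⟨j, hj⟩ := hq.chain hab N₁ hN₁
    have hcen : ∀ x : P, x ∈ Subgroup.center P ↔ x ^ (2 ^ (j + 1)) = 1 := by
      intro x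
      have e1 : x ∈ Subgroup.center P ↔ (QuotientGroup.mk x : P ⧸ h.Zs) ∈ N₁ := by
        constructor
        · intro hx
          exact ⟨x, hx, rfl⟩
        · rintro ⟨c', hc', e⟩
          have e' : (QuotientGroup.mk c' : P ⧸ h.Zs) = QuotientGroup.mk x := e
          rw [h.mk_eq_mk_iff] at e'
          have h1 : c'⁻¹ * x ∈ Subgroup.center P := h.central e'
          have h2 : x = c' * (c'⁻¹ * x) := by group
          rw [h2]
          exact Subgroup.mul_mem _ hc' h1
      rw [e1, hj, ← QuotientGroup.mk_pow, h.mk_eq_one_iff, ← pow_add, ← two_mul, ← pow_succ']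
    have hj0 : j ≠ 0 := by
      rintro rfl
      have := (hcen c).mp hc
      rw [zero_add, pow_one, sq] at this
      exact hc2 this
    obtain ⟨i, rfl⟩ := Nat.exists_eq_succ_of_ne_zero hj0
    have hp4 := pow_four_mul hc2' hcc hsqc
    have h4c : ∀ x : P, x ^ 4 ∈ Subgroup.center P := by
      intro x
      have : x ^ 4 = (x * x) * (x * x) := by
        rw [show (4 : ℕ) = 2 + 2 by norm_num, pow_add, sq]
      rw [this]
      exact Subgroup.mul_mem _ (hsqc x) (hsqc x)
    have hexp : 2 ^ (i + 1 + 1) = 4 * 2 ^ i := by ring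
    let ρ : P →* P :=
      { toFun := fun x => x ^ (2 ^ (i + 1 + 1))
        map_one' := one_pow _
        map_mul' := by
          intro x y
          show (x * y) ^ (2 ^ (i + 1 + 1)) = x ^ (2 ^ (i + 1 + 1)) * y ^ (2 ^ (i + 1 + 1))
          rw [hexp, pow_mul, pow_mul, pow_mul, hp4]
          have hcomm : Commute (x ^ 4) (y ^ 4) :=
            (Subgroup.mem_center_iff.mp (h4c y) (x ^ 4))
          exact hcomm.mul_pow _ }
    have hρ : ∀ x, ρ x = x ^ (2 ^ (i + 1 + 1)) := fun _ => rfl
    apply h.comm_of_hom hc2' ρ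
    · intro x
      rw [hρ, pow_mul_self]
      exact (hcen (x * x)).mp (hsqc x)
    · intro k x
      rw [hρ, hρ, map_pow]
    · intro x hx
      rw [hρ] at hx
      exact (hcen x).mpr hx

end Cfsg.Agent.Lib.Helper3.Hig
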