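import Mathlib

set_option autoImplicit false
set_option linter.unusedSectionVars false
set_option linter.style.haveILetI false

/-!
A commutative group `K` acting on an abelian group `A` regularly on the non-identity elements
makes `K ∪ {0}` a field, additively isomorphic to `A`.
-/

namespace Cfsg.Agent.Lib.Helper3.Hig

universe u v

/-- a group `K` acting on `A` regularly on the non-identity elements, with a base point; both
`K` and `A` are commutative -/
structure RegMod (K : Type v) [Group K] (A : Type u) [Group A] where
  ψ : K →* MulAut A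
  t : A
  comm : ∀ a b : K, a * b = b * a
  acomm : ∀ a b : A, a * b = b * a
  ht : t ≠ 1
  inj : ∀ k k' : K, ψ k t = ψ k' t → k = k'
  surj : ∀ a : A, a ≠ 1 → ∃ k : K, ψ k t = a

namespace RegMod

variable {K : Type v} [Group K] {A : Type u} [Group A] (M : RegMod K A)

/-- the underlying type of the field -/
def W (_M : RegMod K A) : Type v := WithZero K

instance : GroupWithZero M.W := inferInstanceAs (GroupWithZero (WithZero K))

/-- the inclusion of `K` -/
def coe (k : K) : M.W := (k : WithZero K)

theorem coe_mul (k k' : K) : M.coe (k * k') = M.coe k * M.coe k' := rfl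

theorem coe_one : M.coe 1 = 1 := rfl

theorem coe_ne_zero (k : K) : M.coe k ≠ 0 := WithZero.coe_ne_zero

theorem coe_injective : Function.Injective M.coe := WithZero.coe_injective

theorem cases (w : M.W) : w = 0 ∨ ∃ k, w = M.coe k := by
  have : ∀ w : WithZero K, w = 0 ∨ ∃ k : K, w = (k : WithZero K) := by
    intro w
    induction w with
    | zero => exact Or.inl rfl
    | coe k => exact Or.inr ⟨k, rfl⟩
  exact this w

/-- the orbit map -/
def ι (w : M.W) : A := WithZero.recZeroCoe 1 (fun k => M.ψ k M.t) w

theorem ι_zero : M.ι 0 = 1 := rfl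

theorem ι_coe (k : K) : M.ι (M.coe k) = M.ψ k M.t := rfl

theorem ψ_ne_one (k : K) : M.ψ k M.t ≠ 1 := by
  intro e
  apply M.ht
  have := congrArg (M.ψ k).symm e
  rwa [MulEquiv.symm_apply_apply, map_one] at this

theorem ι_bijective : Function.Bijective M.ι := by
  constructor
  · intro w w' e
    rcases M.cases w with rfl | ⟨k, rfl⟩ <;> rcases M.cases w' with rfl | ⟨k', rfl⟩
    · rfl
    · rw [ι_zero, ι_coe] at e
      exact absurd e.symm (M.ψ_ne_one k')
    · rw [ι_zero, ι_coe] at e
      exact absurd e (M.ψ_ne_one k)
    · rw [ι_coe, ι_coe] at e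
      rw [M.inj k k' e]
  · intro a
    by_cases ha : a = 1
    · exact ⟨0, by rw [ι_zero, ha]⟩
    · obtain ⟨k, hk⟩ := M.surj a ha
      exact ⟨M.coe k, hk⟩

/-- the orbit map as an equivalence -/
noncomputable def e : M.W ≃ A := Equiv.ofBijective M.ι M.ι_bijective

theorem e_apply (w : M.W) : M.e w = M.ι w := rfl

theorem e_zero : M.e 0 = 1 := rfl

theorem e_symm_one : M.e.symm 1 = 0 := by
  rw [Equiv.symm_apply_eq]; rfl

theorem e_coe_mul (k : K) (w : M.W) : M.e (M.coe k * w) = M.ψ k (M.e w) := by
  rcases M.cases w with rfl | ⟨k', rfl⟩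
  · rw [mul_zero, e_zero, map_one]
  · rw [← coe_mul, e_apply, e_apply, ι_coe, ι_coe, map_mul, MulAut.mul_apply]

/-- the addition -/
noncomputable def add (a b : M.W) : M.W := M.e.symm (M.e a * M.e b)

/-- the negative -/
noncomputable def neg (a : M.W) : M.W := M.e.symm (M.e a)⁻¹

theorem e_add (a b : M.W) : M.e (M.add a b) = M.e a * M.e b := Equiv.apply_symm_apply _ _

theorem e_neg (a : M.W) : M.e (M.neg a) = (M.e a)⁻¹ := Equiv.apply_symm_apply _ _

theorem mul_comm' (a b : M.W) : a * b = b * a := by
  rcases M.cases a with rfl | ⟨k, rfl⟩ <;> rcases M.cases b with rfl | ⟨k', rfl⟩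
  · rfl
  · rw [zero_mul, mul_zero]
  · rw [zero_mul, mul_zero]
  · rw [← coe_mul, ← coe_mul, M.comm]

theorem left_distrib' (a b c : M.W) : a * M.add b c = M.add (a * b) (a * c) := by
  rcases M.cases a with rfl | ⟨k, rfl⟩
  · rw [zero_mul, zero_mul, zero_mul]
    apply M.e.injective
    rw [e_add, e_zero, one_mul]
  · apply M.e.injective
    rw [e_coe_mul, e_add, e_add, map_mul, e_coe_mul, e_coe_mul]

noncomputable instance : Add M.W := ⟨M.add⟩

noncomputable instance : Neg M.W := ⟨M.neg⟩

theorem add_def (a b : M.W) : a + b = M.add a b := rfl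

theorem neg_def (a : M.W) : -a = M.neg a := rfl

theorem e_add' (a b : M.W) : M.e (a + b) = M.e a * M.e b := M.e_add a b

theorem e_neg' (a : M.W) : M.e (-a) = (M.e a)⁻¹ := M.e_neg a

noncomputable instance : AddCommGroup M.W :=
  { AddGroup.ofLeftAxioms
      (by
        intro a b c
        apply M.e.injective
        rw [e_add', e_add', e_add', e_add', mul_assoc])
      (by
        intro a
        apply M.e.injective
        rw [e_add', e_zero, one_mul])
      (by
        intro a
        apply M.e.injective
        rw [e_add', e_neg', inv_mul_cancel, e_zero]) with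
    add_comm := by
      intro a b
      apply M.e.injective
      rw [e_add', e_add', M.acomm] }

noncomputable instance : Field M.W :=
  { (inferInstance : AddCommGroup M.W),
    (inferInstanceAs (GroupWithZero (WithZero K)) : GroupWithZero M.W) with
    left_distrib := M.left_distrib'
    right_distrib := by
      intro a b c
      show M.add a b * c = M.add (a * c) (b * c)
      rw [M.mul_comm', M.left_distrib', M.mul_comm' c a, M.mul_comm' c b]
    mul_comm := M.mul_comm'
    nnqsmul := _
    qsmul := _ }

end RegMod

end Cfsg.Agent.Lib.Helper3.Hig
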