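import Mathlib
import Cfsg.Agent.Lib.Helper3.HigF3

set_option autoImplicit false
set_option linter.unusedSectionVars false
set_option linter.style.haveILetI false

/-!
The field attached to a regular module: finiteness, cardinality, and the comparison of two such
fields with the same acting group.
-/

namespace Cfsg.Agent.Lib.Helper3.Hig

universe u v

namespace RegMod

variable {K : Type v} [Group K] {A : Type u} [Group A] (M : RegMod K A)

include M in
theorem finite_K [Finite A] : Finite K :=
  Finite.of_injective (fun k => M.ψ k M.t) (fun k k' e => M.inj k k' e)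

instance [Finite A] : Finite M.W := by
  haveI := M.finite_K
  exact inferInstanceAs (Finite (Option K))

noncomputable instance [Finite A] : Fintype M.W := Fintype.ofFinite _

theorem card_W [Finite A] : Fintype.card M.W = Nat.card A := by
  rw [← Nat.card_eq_fintype_card]
  exact Nat.card_congr M.e

/-- the field element attached to an element of `A` -/
noncomputable def co (a : A) : M.W := M.e.symm a

theorem e_co (a : A) : M.e (M.co a) = a := Equiv.apply_symm_apply _ _

theorem co_mul (a b : A) : M.co (a * b) = M.co a + M.co b := by
  apply M.e.injective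
  rw [e_add', e_co, e_co, e_co]

theorem co_one : M.co 1 = 0 := M.e_symm_one

theorem co_eq_zero_iff (a : A) : M.co a = 0 ↔ a = 1 := by
  constructor
  · intro h
    have := congrArg M.e h
    rwa [e_co, e_zero] at this
  · rintro rfl
    exact M.co_one

theorem co_surjective : Function.Surjective M.co := M.e.symm.surjective

theorem co_ψ (k : K) (a : A) : M.co (M.ψ k a) = M.coe k * M.co a := by
  apply M.e.injective
  rw [e_co, e_coe_mul, e_co]

theorem co_t : M.co M.t = 1 := by
  apply M.e.injective
  rw [e_co]
  show M.t = M.ι (M.coe 1)
  rw [ι_coe, map_one]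
  rfl

end RegMod

section compare

variable {K : Type v} [Group K] {A₁ : Type u} [Group A₁] {A₂ : Type u} [Group A₂]
  (M₁ : RegMod K A₁) (M₂ : RegMod K A₂)

/-- the identity map of `K ∪ {0}`, from the first field to the second -/
def thetaMap (w : M₁.W) : M₂.W := (show WithZero K from w)

theorem thetaMap_mul (a b : M₁.W) :
    thetaMap M₁ M₂ (a * b) = thetaMap M₁ M₂ a * thetaMap M₁ M₂ b := rfl

theorem thetaMap_zero : thetaMap M₁ M₂ 0 = 0 := rfl

theorem thetaMap_one : thetaMap M₁ M₂ 1 = 1 := rfl

theorem thetaMap_coe (k : K) : thetaMap M₁ M₂ (M₁.coe k) = M₂.coe k := rfl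

theorem thetaMap_bijective : Function.Bijective (thetaMap M₁ M₂) :=
  ⟨fun _ _ h => h, fun w => ⟨(show WithZero K from w), rfl⟩⟩

end compare

end Cfsg.Agent.Lib.Helper3.Hig
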