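import Mathlib
import Cfsg.Agent.Lib.Helper3.Hig7
import Cfsg.Agent.Lib.Helper3.HigF4

set_option autoImplicit false
set_option linter.unusedSectionVars false
set_option linter.style.haveILetI false

/-!
Higman's Suzuki `2`-groups, part 8: the case `|P| = |Z|²`: the quotient `P/Z` is acted on
regularly and is elementary abelian; the two regular modules.
-/

namespace Cfsg.Agent.Lib.Helper3.Hig

open scoped commutatorElement

universe u v

variable {K : Type v} [Group K] {P : Type u} [Group P]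

namespace Reg

variable {φ : K →* MulAut P} (h : Reg φ)

/-- the restriction of the action to `Zs` -/
def zsHom : K →* MulAut ↥h.Zs where
  toFun k :=
    { toFun := fun z => ⟨φ k z, h.map_mem_Zs k z.2⟩
      invFun := fun z => ⟨φ k⁻¹ z, h.map_mem_Zs k⁻¹ z.2⟩
      left_inv := by
        intro z
        apply Subtype.ext
        show φ k⁻¹ (φ k z) = z
        rw [← MulAut.mul_apply, ← map_mul, inv_mul_cancel, map_one]
        rfl
      right_inv := by
        intro z
        apply Subtype.ext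
        show φ k (φ k⁻¹ z) = z
        rw [← MulAut.mul_apply, ← map_mul, mul_inv_cancel, map_one]
        rfl
      map_mul' := by
        intro a b
        apply Subtype.ext
        show φ k (a * b) = φ k a * φ k b
        rw [map_mul] }
  map_one' := by
    ext z
    show φ 1 z = z
    rw [map_one]
    rfl
  map_mul' k k' := by
    ext z
    show φ (k * k') z = φ k (φ k' z)
    rw [map_mul]
    rfl

theorem zsHom_apply (k : K) (z : h.Zs) : ((h.zsHom k z : h.Zs) : P) = φ k z := rfl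

include h in
theorem mul_Zs_sq (x : P) {z : P} (hz : z * z = 1) : (x * z) * (x * z) = x * x := by
  have hc := Subgroup.mem_center_iff.mp (h.central hz)
  calc (x * z) * (x * z) = x * (z * x) * z := by group
    _ = x * (x * z) * z := by rw [← hc x]
    _ = x * x * (z * z) := by group
    _ = x * x := by rw [hz, mul_one]

theorem sq_eq_of_mk_eq {x y : P}
    (e : (QuotientGroup.mk x : P ⧸ h.Zs) = QuotientGroup.mk y) : x * x = y * y := by
  rw [h.mk_eq_mk_iff] at e
  have : y = x * (x⁻¹ * y) := by group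
  rw [this, h.mul_Zs_sq x e]

theorem quot_inj {x : P} (hx : x * x ≠ 1) {k k' : K}
    (e : h.quotHom k (QuotientGroup.mk x) = h.quotHom k' (QuotientGroup.mk x)) : k = k' := by
  rw [h.quotHom_mk, h.quotHom_mk] at e
  have := h.sq_eq_of_mk_eq e
  rw [← map_mul, ← map_mul] at this
  exact h.apply_eq_apply hx this

section square

variable (hq : Nat.card P = Nat.card h.Zs ^ 2)

include hq in
theorem card_quot : Nat.card (P ⧸ h.Zs) = Nat.card h.Zs := by
  haveI := h.fin
  have h1 := Subgroup.card_eq_card_quotient_mul_card_subgroup h.Zs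
  rw [hq, sq] at h1
  have hpos : 0 < Nat.card h.Zs := Nat.card_pos
  exact (Nat.eq_of_mul_eq_mul_right hpos h1).symm

include hq in
theorem exists_not_Zs : ∃ x : P, x * x ≠ 1 := by
  haveI := h.fin
  by_contra hcon
  push Not at hcon
  have h1 : Nat.card (P ⧸ h.Zs) = 1 := by
    rw [Nat.card_eq_one_iff_unique]
    refine ⟨⟨fun a b => ?_⟩, ⟨1⟩⟩
    obtain ⟨x, rfl⟩ := QuotientGroup.mk_surjective a
    obtain ⟨y, rfl⟩ := QuotientGroup.mk_surjective b
    rw [(h.mk_eq_one_iff x).mpr (hcon x), (h.mk_eq_one_iff y).mpr (hcon y)]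
  rw [h.card_quot hq, h.card_Zs] at h1
  haveI := h.finite_K
  have : 0 < Nat.card K := Nat.card_pos
  omega

include hq in
/-- the action on the quotient is transitive on the non-identity elements -/
theorem quot_surj {x : P} (hx : x * x ≠ 1) (X : P ⧸ h.Zs) (hX : X ≠ 1) :
    ∃ k : K, h.quotHom k (QuotientGroup.mk x) = X := by
  haveI := h.fin
  haveI := h.finite_K
  let f : Option K → P ⧸ h.Zs := fun o => Option.elim o 1 (fun k => h.quotHom k (QuotientGroup.mk x))
  have hx' : (QuotientGroup.mk x : P ⧸ h.Zs) ≠ 1 := by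
    rw [Ne, h.mk_eq_one_iff]; exact hx
  have hne : ∀ k : K, h.quotHom k (QuotientGroup.mk x) ≠ 1 := by
    intro k e
    apply hx'
    have := congrArg (h.quotHom k).symm e
    rwa [MulEquiv.symm_apply_apply, map_one] at this
  have hf : Function.Injective f := by
    rintro (_ | k) (_ | k') e
    · rfl
    · exact absurd e.symm (hne k')
    · exact absurd e (hne k)
    · have e' : h.quotHom k (QuotientGroup.mk x) = h.quotHom k' (QuotientGroup.mk x) := e
      rw [h.quot_inj hx e']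
  have hcard : Nat.card (P ⧸ h.Zs) ≤ Nat.card (Option K) := by
    rw [h.card_quot hq, h.card_Zs, Finite.card_option]
  obtain ⟨o, ho⟩ := (hf.bijective_of_nat_card_le hcard).2 X
  rcases o with _ | k
  · exact absurd ho.symm hX
  · exact ⟨k, ho⟩

include hq in
/-- the quotient is abelian -/
theorem quot_comm (X Y : P ⧸ h.Zs) : X * Y = Y * X := by
  haveI := h.fin
  haveI : Fact (Nat.Prime 2) := ⟨Nat.prime_two⟩
  obtain ⟨x, hx⟩ := h.exists_not_Zs hq
  have hx' : (QuotientGroup.mk x : P ⧸ h.Zs) ≠ 1 := by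
    rw [Ne, h.mk_eq_one_iff]; exact hx
  haveI : Nontrivial (P ⧸ h.Zs) := ⟨⟨_, 1, hx'⟩⟩
  have h2 : IsPGroup 2 (P ⧸ h.Zs) := h.two.to_quotient _
  haveI := h2.center_nontrivial
  obtain ⟨⟨c, hc⟩, hc1⟩ := exists_ne (1 : Subgroup.center (P ⧸ h.Zs))
  have hc1' : c ≠ 1 := fun e => hc1 (Subtype.ext e)
  obtain ⟨k₀, hk₀⟩ := h.quot_surj hq hx c hc1'
  have hall : ∀ Z : P ⧸ h.Zs, Z ∈ Subgroup.center (P ⧸ h.Zs) := by
    intro Z
    by_cases hZ : Z = 1
    · rw [hZ]; exact Subgroup.one_mem _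
    obtain ⟨k, hk⟩ := h.quot_surj hq hx Z hZ
    have : Z = h.quotHom (k * k₀⁻¹) c := by
      rw [← hk₀, ← MulAut.mul_apply, ← map_mul, inv_mul_cancel_right, hk]
    rw [this]
    exact aut_mem_center _ hc
  exact Subgroup.mem_center_iff.mp (hall Y) X

include hq in
/-- the quotient has exponent two -/
theorem quot_sq (X : P ⧸ h.Zs) : X * X = 1 := by
  obtain ⟨x, hx⟩ := h.exists_not_Zs hq
  have hx' : (QuotientGroup.mk x : P ⧸ h.Zs) ≠ 1 := by
    rw [Ne, h.mk_eq_one_iff]; exact hx
  have h2 : IsPGroup 2 (P ⧸ h.Zs) := h.two.to_quotient _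
  obtain ⟨m, hm1, hm2⟩ := exists_involution_pow h2 hx'
  by_cases hX : X = 1
  · rw [hX, one_mul]
  obtain ⟨k₀, hk₀⟩ := h.quot_surj hq hx _ hm1
  obtain ⟨k, hk⟩ := h.quot_surj hq hx X hX
  have : X = h.quotHom (k * k₀⁻¹) ((QuotientGroup.mk x : P ⧸ h.Zs) ^ m) := by
    rw [← hk₀, ← MulAut.mul_apply, ← map_mul, inv_mul_cancel_right, hk]
  rw [this, ← map_mul, hm2, map_one]

include hq in
theorem sq_mem_Zs (x : P) : (x * x) * (x * x) = 1 := by
  rw [← h.mk_eq_one_iff, QuotientGroup.mk_mul]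
  exact h.quot_sq hq _

include hq in
theorem comm_mem_Zs (x y : P) : ⁅x, y⁆ * ⁅x, y⁆ = 1 := by
  rw [← h.mk_eq_one_iff]
  have : ((⁅x, y⁆ : P) : P ⧸ h.Zs) = ⁅(x : P ⧸ h.Zs), (y : P ⧸ h.Zs)⁆ := by
    simp only [commutatorElement_def, QuotientGroup.mk_mul, QuotientGroup.mk_inv]
  rw [this, commutatorElement_eq_one_iff_commute]
  exact h.quot_comm hq _ _

/-- the regular module `P/Z` -/
noncomputable def modV {x₁ : P} (hx₁ : x₁ * x₁ ≠ 1) : RegMod K (P ⧸ h.Zs) where
  ψ := h.quotHom
  t := QuotientGroup.mk x₁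
  comm := h.comm
  acomm := h.quot_comm hq
  ht := by rw [Ne, h.mk_eq_one_iff]; exact hx₁
  inj := fun _ _ e => h.quot_inj hx₁ e
  surj := fun X hX => h.quot_surj hq hx₁ X hX

/-- the regular module `Z` -/
def modZ {x₁ : P} (hx₁ : x₁ * x₁ ≠ 1) : RegMod K ↥h.Zs where
  ψ := h.zsHom
  t := ⟨x₁ * x₁, h.sq_mem_Zs hq x₁⟩
  comm := h.comm
  acomm := by
    intro a b
    apply Subtype.ext
    exact (Subgroup.mem_center_iff.mp (h.central b.2) a)
  ht := fun e => hx₁ (congrArg Subtype.val e)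
  inj := by
    intro k k' e
    exact h.apply_eq_apply hx₁ (congrArg Subtype.val e)
  surj := by
    intro a ha
    have ha1 : (a : P) ≠ 1 := fun e => ha (Subtype.ext e)
    obtain ⟨k, hk, -⟩ := h.reg (x₁ * x₁) a hx₁ (h.sq_mem_Zs hq x₁) ha1 a.2
    exact ⟨k, Subtype.ext hk⟩

end square

end Reg

end Cfsg.Agent.Lib.Helper3.Hig
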