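import Mathlib
import Cfsg.Agent.Lib.Helper3.Hig8

set_option autoImplicit false
set_option linter.unusedSectionVars false
set_option linter.style.haveILetI false

/-!
Higman's Suzuki `2`-groups, part 9: the case `|P| = |Z|²`: coordinates of `P/Z` and `Z` in the
two fields, the squaring map and the commutator.
-/

namespace Cfsg.Agent.Lib.Helper3.Hig

open scoped commutatorElement

universe u v

variable {K : Type v} [Group K] {P : Type u} [Group P]

/-- the square of a product when commutators are central -/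
theorem sq_mul_of_central {x y : P} (hc : ⁅y, x⁆ ∈ Subgroup.center P) :
    x * y * (x * y) = ⁅y, x⁆ * ((x * x) * (y * y)) := by
  have e0 : y * x = ⁅y, x⁆ * (x * y) := by
    simp only [commutatorElement_def]; group
  have hcx : x * ⁅y, x⁆ = ⁅y, x⁆ * x := Subgroup.mem_center_iff.mp hc x
  calc x * y * (x * y) = x * (y * x) * y := by group
    _ = x * (⁅y, x⁆ * (x * y)) * y := by rw [← e0]
    _ = (x * ⁅y, x⁆) * x * y * y := by group
    _ = (⁅y, x⁆ * x) * x * y * y := by rw [hcx]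
    _ = ⁅y, x⁆ * ((x * x) * (y * y)) := by group

namespace Reg

variable {φ : K →* MulAut P} (h : Reg φ) (hq : Nat.card P = Nat.card h.Zs ^ 2)
  {x₁ : P} (hx₁ : x₁ * x₁ ≠ 1)

/-- the coordinate of an element of `P` in the field of `P/Z` -/
noncomputable def kap (x : P) : (h.modV hq hx₁).W := (h.modV hq hx₁).co (QuotientGroup.mk x)

/-- the element of `Z` with a given coordinate -/
noncomputable def zet (w : (h.modZ hq hx₁).W) : P := ((h.modZ hq hx₁).e w : h.Zs)

theorem kap_mul (x y : P) : h.kap hq hx₁ (x * y) = h.kap hq hx₁ x + h.kap hq hx₁ y := by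
  unfold kap
  rw [QuotientGroup.mk_mul, RegMod.co_mul]

theorem kap_surjective : Function.Surjective (h.kap hq hx₁) := by
  intro w
  obtain ⟨X, hX⟩ := (h.modV hq hx₁).co_surjective w
  obtain ⟨x, rfl⟩ := QuotientGroup.mk_surjective X
  exact ⟨x, hX⟩

theorem kap_eq_zero_iff (x : P) : h.kap hq hx₁ x = 0 ↔ x * x = 1 := by
  unfold kap
  rw [RegMod.co_eq_zero_iff, h.mk_eq_one_iff]

theorem zet_add (a b : (h.modZ hq hx₁).W) :
    h.zet hq hx₁ (a + b) = h.zet hq hx₁ a * h.zet hq hx₁ b := by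
  unfold zet
  rw [RegMod.e_add']
  rfl

theorem zet_zero : h.zet hq hx₁ 0 = 1 := by
  unfold zet
  rw [RegMod.e_zero]
  rfl

theorem zet_injective : Function.Injective (h.zet hq hx₁) := by
  intro a b e
  exact (h.modZ hq hx₁).e.injective (Subtype.ext e)

theorem zet_sq (w : (h.modZ hq hx₁).W) : h.zet hq hx₁ w * h.zet hq hx₁ w = 1 :=
  ((h.modZ hq hx₁).e w).2

theorem exists_zet {z : P} (hz : z * z = 1) : ∃ w, h.zet hq hx₁ w = z := by
  obtain ⟨w, hw⟩ := (h.modZ hq hx₁).e.surjective ⟨z, hz⟩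
  exact ⟨w, congrArg Subtype.val hw⟩

theorem zet_central (w : (h.modZ hq hx₁).W) (x : P) :
    h.zet hq hx₁ w * x = x * h.zet hq hx₁ w :=
  (Subgroup.mem_center_iff.mp (h.central (h.zet_sq hq hx₁ w)) x).symm

theorem zet_sub (a b : (h.modZ hq hx₁).W) :
    h.zet hq hx₁ (a - b) = h.zet hq hx₁ a * (h.zet hq hx₁ b)⁻¹ := by
  have := h.zet_add hq hx₁ (a - b) b
  rw [sub_add_cancel] at this
  rw [this, mul_inv_cancel_right]

/-- the squaring map in coordinates -/
theorem sq_eq (x : P) :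
    x * x = h.zet hq hx₁ (thetaMap (h.modV hq hx₁) (h.modZ hq hx₁) (h.kap hq hx₁ x)) := by
  rcases (h.modV hq hx₁).cases (h.kap hq hx₁ x) with e | ⟨k, e⟩
  · rw [e, thetaMap_zero, zet_zero]
    exact (h.kap_eq_zero_iff hq hx₁ x).mp e
  · rw [e, thetaMap_coe]
    have h1 : (QuotientGroup.mk x : P ⧸ h.Zs) = QuotientGroup.mk (φ k x₁) := by
      have := congrArg (h.modV hq hx₁).e e
      unfold kap at this
      rw [RegMod.e_co] at this
      rw [this]
      show (h.modV hq hx₁).ι ((h.modV hq hx₁).coe k) = _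
      rw [RegMod.ι_coe]
      exact h.quotHom_mk k x₁
    rw [h.sq_eq_of_mk_eq h1, ← map_mul]
    rfl

/-- the commutator in coordinates -/
theorem comm_eq (x y : P) :
    ⁅y, x⁆ = h.zet hq hx₁
      (thetaMap (h.modV hq hx₁) (h.modZ hq hx₁) (h.kap hq hx₁ x + h.kap hq hx₁ y) -
        thetaMap (h.modV hq hx₁) (h.modZ hq hx₁) (h.kap hq hx₁ x) -
        thetaMap (h.modV hq hx₁) (h.modZ hq hx₁) (h.kap hq hx₁ y)) := by
  have hc : ⁅y, x⁆ ∈ Subgroup.center P := h.central (h.comm_mem_Zs hq y x)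
  have e1 := sq_mul_of_central hc
  rw [h.sq_eq hq hx₁ (x * y), h.sq_eq hq hx₁ x, h.sq_eq hq hx₁ y, h.kap_mul hq hx₁] at e1
  rw [zet_sub, zet_sub, e1, h.zet_central hq hx₁ _ (h.zet hq hx₁ _)]
  group

end Reg

end Cfsg.Agent.Lib.Helper3.Hig
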