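import Mathlib

set_option autoImplicit false
set_option linter.unusedSectionVars false
set_option linter.style.haveILetI false

/-!
Finite fields of characteristic two: every additive map is a unique linearised polynomial
`u ↦ ∑ i, c i * u ^ 2 ^ i`.
-/

namespace Cfsg.Agent.Lib.Helper3.Hig

open Polynomial

variable {F : Type*} [Field F] [Fintype F] [CharP F 2]

/-- the linearised polynomial function with coefficients `c` -/
def linFun {n : ℕ} (c : Fin n → F) (u : F) : F := ∑ i, c i * u ^ (2 ^ (i : ℕ))

theorem linFun_add {n : ℕ} (c : Fin n → F) (u v : F) :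
    linFun c (u + v) = linFun c u + linFun c v := by
  haveI : Fact (Nat.Prime 2) := ⟨Nat.prime_two⟩
  unfold linFun
  rw [← Finset.sum_add_distrib]
  apply Finset.sum_congr rfl
  intro i _
  rw [add_pow_char_pow, mul_add]

theorem linFun_sub_coeff {n : ℕ} (c c' : Fin n → F) (u : F) :
    linFun (c - c') u = linFun c u - linFun c' u := by
  unfold linFun
  rw [← Finset.sum_sub_distrib]
  apply Finset.sum_congr rfl
  intro i _
  rw [Pi.sub_apply, sub_mul]

/-- uniqueness of the coefficients -/
theorem linFun_eq_zero {n : ℕ} (hF : Fintype.card F = 2 ^ n) (c : Fin n → F)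
    (hc : ∀ u, linFun c u = 0) : c = 0 := by
  classical
  let p : F[X] := ∑ i : Fin n, C (c i) * X ^ (2 ^ (i : ℕ))
  have hn : n ≠ 0 := by
    rintro rfl
    rw [pow_zero] at hF
    have := Fintype.one_lt_card (α := F)
    omega
  have hdeg : p.natDegree ≤ 2 ^ (n - 1) := by
    apply natDegree_sum_le_of_forall_le
    intro i _
    refine (natDegree_C_mul_X_pow_le _ _).trans ?_
    apply Nat.pow_le_pow_right (by norm_num)
    have := i.2
    omega
  have heval : ∀ u : F, p.eval u = 0 := by
    intro u
    rw [← hc u]
    simp only [p, eval_finsetSum, eval_mul, eval_C, eval_pow, eval_X]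
    rfl
  have hp : p = 0 := by
    apply eq_zero_of_natDegree_lt_card_of_eval_eq_zero p (f := id) Function.injective_id heval
    rw [hF]
    calc p.natDegree ≤ 2 ^ (n - 1) := hdeg
      _ < 2 ^ n := Nat.pow_lt_pow_right (by norm_num) (by omega)
  funext i
  have hcoeff : p.coeff (2 ^ (i : ℕ)) = c i := by
    simp only [p, finsetSum_coeff, coeff_C_mul, coeff_X_pow]
    rw [Finset.sum_eq_single i]
    · simp
    · intro j _ hji
      have : (2 : ℕ) ^ (i : ℕ) ≠ 2 ^ (j : ℕ) := by
        intro e
        apply hji
        exact (Fin.ext (Nat.pow_right_injective (le_refl 2) e)).symm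
      simp [this]
    · intro h
      exact absurd (Finset.mem_univ i) h
  rw [← hcoeff, hp, coeff_zero]
  rfl

theorem linFun_injective {n : ℕ} (hF : Fintype.card F = 2 ^ n) {c c' : Fin n → F}
    (h : ∀ u, linFun c u = linFun c' u) : c = c' := by
  have : c - c' = 0 := by
    apply linFun_eq_zero hF
    intro u
    rw [linFun_sub_coeff, h u, sub_self]
  exact sub_eq_zero.mp this

/-- existence of the coefficients -/
theorem exists_linFun {n : ℕ} (hF : Fintype.card F = 2 ^ n) (a : F → F)
    (ha : ∀ u v, a (u + v) = a u + a v) : ∃ c : Fin n → F, ∀ u, a u = linFun c u := by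
  classical
  letI : Algebra (ZMod 2) F := ZMod.algebra F 2
  let S := {a : F → F // ∀ u v, a (u + v) = a u + a v}
  let Φ : (Fin n → F) → S := fun c => ⟨linFun c, linFun_add c⟩
  have hΦ : Function.Injective Φ := by
    intro c c' e
    apply linFun_injective hF
    intro u
    exact congrFun (congrArg Subtype.val e) u
  -- a basis of `F` over the prime field
  let b := Module.Free.chooseBasis (ZMod 2) F
  have hcardι : Fintype.card (Module.Free.ChooseBasisIndex (ZMod 2) F) = n := by
    rw [← Module.finrank_eq_card_chooseBasisIndex]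
    have h1 := Module.card_eq_pow_finrank (K := ZMod 2) (V := F)
    rw [hF, ZMod.card] at h1
    exact (Nat.pow_right_injective (le_refl 2) h1).symm
  let Ψ : S → (Module.Free.ChooseBasisIndex (ZMod 2) F → F) := fun a i => a.1 (b i)
  have hΨ : Function.Injective Ψ := by
    rintro ⟨a, ha⟩ ⟨a', ha'⟩ e
    apply Subtype.ext
    have h0 : a 0 = 0 := by
      have := ha 0 0
      rw [add_zero] at this
      exact left_eq_add.mp this
    have h0' : a' 0 = 0 := by
      have := ha' 0 0
      rw [add_zero] at this
      exact left_eq_add.mp this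
    let f : F →+ F := ⟨⟨a, h0⟩, ha⟩
    let f' : F →+ F := ⟨⟨a', h0'⟩, ha'⟩
    have : f.toZModLinearMap 2 = f'.toZModLinearMap 2 := by
      apply b.ext
      intro i
      exact congrFun e i
    funext u
    exact congrArg (fun g : F →ₗ[ZMod 2] F => g u) this
  have hcard : Fintype.card (Fin n → F) = Fintype.card S := by
    apply le_antisymm (Fintype.card_le_of_injective Φ hΦ)
    refine (Fintype.card_le_of_injective Ψ hΨ).trans ?_
    rw [Fintype.card_fun, Fintype.card_fun, hcardι, Fintype.card_fin]
  have hbij := (Fintype.bijective_iff_injective_and_card Φ).mpr ⟨hΦ, hcard⟩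
  obtain ⟨c, hc⟩ := hbij.2 ⟨a, ha⟩
  exact ⟨c, fun u => (congrFun (congrArg Subtype.val hc) u).symm⟩

end Cfsg.Agent.Lib.Helper3.Hig
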