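import Mathlib
import Cfsg.Agent.Lib.Helper3.HigF1

set_option autoImplicit false
set_option linter.unusedSectionVars false
set_option linter.style.haveILetI false

/-!
Finite fields of characteristic two: a multiplicative map whose polarisation is bi-additive and
not zero is `u ↦ u ^ 2 ^ i * u ^ 2 ^ j`.
-/

namespace Cfsg.Agent.Lib.Helper3.Hig

variable {F : Type*} [Field F] [Fintype F] [CharP F 2]

theorem linFun_add_coeff {n : ℕ} (c c' : Fin n → F) (u : F) :
    linFun (c + c') u = linFun c u + linFun c' u := by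
  unfold linFun
  rw [← Finset.sum_add_distrib]
  apply Finset.sum_congr rfl
  intro i _
  rw [Pi.add_apply, add_mul]

theorem linFun_scale {n : ℕ} (c : Fin n → F) (d u : F) :
    linFun c (d * u) = linFun (fun i => c i * d ^ (2 ^ (i : ℕ))) u := by
  unfold linFun
  apply Finset.sum_congr rfl
  intro i _
  rw [mul_pow, mul_assoc]

theorem mul_linFun {n : ℕ} (c : Fin n → F) (d u : F) :
    d * linFun c u = linFun (fun i => d * c i) u := by
  unfold linFun
  rw [Finset.mul_sum]
  apply Finset.sum_congr rfl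
  intro i _
  rw [mul_assoc]

/-- a ring endomorphism is a power of the Frobenius -/
theorem exists_frob_of_ringHom {n : ℕ} (hF : Fintype.card F = 2 ^ n) (χ : F → F)
    (hadd : ∀ c c', χ (c + c') = χ c + χ c') (hmul : ∀ c c', χ (c * c') = χ c * χ c')
    (h1 : χ 1 = 1) : ∃ j : ℕ, ∀ c, χ c = c ^ (2 ^ j) := by
  obtain ⟨b, hb⟩ := exists_linFun hF χ hadd
  have hbne : b ≠ 0 := by
    rintro rfl
    have := hb 1
    rw [h1] at this
    simp [linFun] at this
  obtain ⟨j, hj⟩ := Function.ne_iff.mp hbne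
  refine ⟨(j : ℕ), fun c' => ?_⟩
  have key : (fun i : Fin n => b i * c' ^ (2 ^ (i : ℕ))) = fun i => χ c' * b i := by
    apply linFun_injective hF
    intro u
    rw [← linFun_scale, ← mul_linFun, ← hb, ← hb, mul_comm c' u, hmul, mul_comm]
  have := congrFun key j
  beta_reduce at this
  rw [mul_comm (χ c')] at this
  exact (mul_left_cancel₀ hj this).symm

/-- multiplicative maps with bi-additive polarisation -/
theorem exists_pow_of_quadratic {n : ℕ} (hF : Fintype.card F = 2 ^ n) (ρ : F → F)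
    (hmul : ∀ a b, ρ (a * b) = ρ a * ρ b) (h0 : ρ 0 = 0) (h1 : ρ 1 = 1)
    (hadd : ∀ u u' v, ρ (u + u' + v) + ρ (u + u') + ρ v =
      (ρ (u + v) + ρ u + ρ v) + (ρ (u' + v) + ρ u' + ρ v))
    (hne : ∃ u v, ρ (u + v) + ρ u + ρ v ≠ 0) :
    ∃ i j : ℕ, ∀ u, ρ u = u ^ (2 ^ i) * u ^ (2 ^ j) := by
  have h2 : ∀ y : F, y + y = 0 := CharTwo.add_self_eq_zero
  let Δ : F → F → F := fun u v => ρ (u + v) + ρ u + ρ v
  have hΔ : ∀ u v, Δ u v = ρ (u + v) + ρ u + ρ v := fun _ _ => rfl
  have hsymm : ∀ u v, Δ u v = Δ v u := by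
    intro u v
    rw [hΔ, hΔ, add_comm u v]
    ring
  have haddL : ∀ u u' v, Δ (u + u') v = Δ u v + Δ u' v := hadd
  have haddR : ∀ u v v', Δ u (v + v') = Δ u v + Δ u v' := by
    intro u v v'
    rw [hsymm, haddL, hsymm v u, hsymm v' u]
  have hscale : ∀ c u v, Δ (c * u) (c * v) = ρ c * Δ u v := by
    intro c u v
    rw [hΔ, hΔ, ← mul_add, hmul, hmul, hmul]
    ring
  choose cf hcf using fun v => exists_linFun hF (fun u => Δ u v) (fun u u' => haddL u u' v)
  have hcf' : ∀ v u, Δ u v = linFun (cf v) u := hcf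
  have hcfadd : ∀ v v', cf (v + v') = cf v + cf v' := by
    intro v v'
    apply linFun_injective hF
    intro u
    rw [linFun_add_coeff, ← hcf', ← hcf', ← hcf', haddR]
  have hcfscale : ∀ c v (i : Fin n), cf (c * v) i * c ^ (2 ^ (i : ℕ)) = ρ c * cf v i := by
    intro c v i
    have key : (fun i : Fin n => cf (c * v) i * c ^ (2 ^ (i : ℕ))) = fun i => ρ c * cf v i := by
      apply linFun_injective hF
      intro u
      rw [← linFun_scale, ← mul_linFun, ← hcf', ← hcf', hscale]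
    exact congrFun key i
  obtain ⟨u₀, v₀, hne⟩ := hne
  have hcfne : cf v₀ ≠ 0 := by
    intro e
    apply hne
    show Δ u₀ v₀ = 0
    rw [hcf', e]
    simp [linFun]
  obtain ⟨i, hi⟩ := Function.ne_iff.mp hcfne
  rw [Pi.zero_apply] at hi
  let χ : F → F := fun c => ρ c * (c ^ (2 ^ (i : ℕ)))⁻¹
  have hχ : ∀ c, χ c = ρ c * (c ^ (2 ^ (i : ℕ)))⁻¹ := fun _ => rfl
  have hχ0 : χ 0 = 0 := by rw [hχ, h0, zero_mul]
  have hχcf : ∀ c, c ≠ 0 → cf (c * v₀) i = χ c * cf v₀ i := by
    intro c hc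
    have hc' : c ^ (2 ^ (i : ℕ)) ≠ 0 := pow_ne_zero _ hc
    have := hcfscale c v₀ i
    rw [hχ]
    field_simp
    linear_combination this
  have hχadd : ∀ c c', χ (c + c') = χ c + χ c' := by
    intro c c'
    by_cases hc : c = 0
    · rw [hc, zero_add, hχ0, zero_add]
    by_cases hc' : c' = 0
    · rw [hc', add_zero, hχ0, add_zero]
    by_cases hcc' : c + c' = 0
    · have : c' = c := by
        have := CharTwo.add_eq_zero.mp hcc'
        exact this.symm
      rw [hcc', hχ0, this, h2]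
    have e1 := hχcf (c + c') hcc'
    rw [add_mul, hcfadd, Pi.add_apply, hχcf c hc, hχcf c' hc', ← add_mul] at e1
    exact (mul_right_cancel₀ hi e1).symm
  have hχmul : ∀ c c', χ (c * c') = χ c * χ c' := by
    intro c c'
    rw [hχ, hχ, hχ, hmul, mul_pow, mul_inv]
    ring
  have hχ1 : χ 1 = 1 := by rw [hχ, h1, one_pow, inv_one, mul_one]
  obtain ⟨j, hj⟩ := exists_frob_of_ringHom hF χ hχadd hχmul hχ1
  refine ⟨(i : ℕ), j, fun u => ?_⟩
  by_cases hu : u = 0
  · rw [hu, h0, zero_pow (by positivity), zero_mul]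
  have hu' : u ^ (2 ^ (i : ℕ)) ≠ 0 := pow_ne_zero _ hu
  rw [← hj u, hχ]
  field_simp

end Cfsg.Agent.Lib.Helper3.Hig
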