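import Mathlib
import Cfsg.Agent.Lib.Helper3.Hig9
import Cfsg.Agent.Lib.Helper3.HigF2

set_option autoImplicit false
set_option linter.unusedSectionVars false
set_option linter.style.haveILetI false

/-!
Higman's Suzuki `2`-groups, part 10: the case `|P| = |Z|²`: the squaring map in a common field is
`u ↦ u ^ 2 ^ i * u ^ 2 ^ j`.
-/

namespace Cfsg.Agent.Lib.Helper3.Hig

open scoped commutatorElement

universe u v

variable {K : Type v} [Group K] {P : Type u} [Group P]

namespace Reg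

variable {φ : K →* MulAut P} (h : Reg φ) (hq : Nat.card P = Nat.card h.Zs ^ 2)
  {x₁ : P} (hx₁ : x₁ * x₁ ≠ 1)

/-- the polarisation of the identity map between the two fields -/
noncomputable def pol (a b : (h.modV hq hx₁).W) : (h.modZ hq hx₁).W :=
  thetaMap (h.modV hq hx₁) (h.modZ hq hx₁) (a + b) -
    thetaMap (h.modV hq hx₁) (h.modZ hq hx₁) a - thetaMap (h.modV hq hx₁) (h.modZ hq hx₁) b

theorem zet_pol (x y : P) :
    h.zet hq hx₁ (h.pol hq hx₁ (h.kap hq hx₁ x) (h.kap hq hx₁ y)) = ⁅y, x⁆ :=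
  (h.comm_eq hq hx₁ x y).symm

theorem pol_add (a a' b : (h.modV hq hx₁).W) :
    h.pol hq hx₁ (a + a') b = h.pol hq hx₁ a b + h.pol hq hx₁ a' b := by
  obtain ⟨x, rfl⟩ := h.kap_surjective hq hx₁ a
  obtain ⟨x', rfl⟩ := h.kap_surjective hq hx₁ a'
  obtain ⟨y, rfl⟩ := h.kap_surjective hq hx₁ b
  apply h.zet_injective hq hx₁
  rw [← h.kap_mul hq hx₁, zet_pol, zet_add, zet_pol, zet_pol]
  exact comm_mul_right_of_central (h.central (h.comm_mem_Zs hq y x'))

include hq hx₁ in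
theorem exists_pol_ne_zero (hna : ∃ x y : P, x * y ≠ y * x) :
    ∃ a b, h.pol hq hx₁ a b ≠ 0 := by
  obtain ⟨x, y, hxy⟩ := hna
  refine ⟨h.kap hq hx₁ y, h.kap hq hx₁ x, fun e => hxy ?_⟩
  have := h.zet_pol hq hx₁ y x
  rw [e, zet_zero] at this
  exact (commutatorElement_eq_one_iff_commute.mp this.symm).eq

end Reg

end Cfsg.Agent.Lib.Helper3.Hig
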