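import Mathlib
import Cfsg.Agent.Lib.Helper3.Hig10

set_option autoImplicit false
set_option linter.unusedSectionVars false
set_option linter.style.haveILetI false

/-!
Higman's Suzuki `2`-groups, part 11: the case `|P| = |Z|²`: transport to a common field.
-/

namespace Cfsg.Agent.Lib.Helper3.Hig

open scoped commutatorElement

universe u v w

variable {K : Type v} [Group K] {P : Type u} [Group P]

namespace Reg

variable {φ : K →* MulAut P} (h : Reg φ) (hq : Nat.card P = Nat.card h.Zs ^ 2)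
  {x₁ : P} (hx₁ : x₁ * x₁ ≠ 1)
  {F : Type w} [Field F] [Fintype F] [CharP F 2]
  (σV : F ≃+* (h.modV hq hx₁).W) (σZ : F ≃+* (h.modZ hq hx₁).W)

/-- the squaring map transported to `F` -/
noncomputable def rho (u : F) : F :=
  σZ.symm (thetaMap (h.modV hq hx₁) (h.modZ hq hx₁) (σV u))

theorem rho_mul (a b : F) :
    h.rho hq hx₁ σV σZ (a * b) = h.rho hq hx₁ σV σZ a * h.rho hq hx₁ σV σZ b := by
  unfold rho
  rw [map_mul, thetaMap_mul, map_mul]

theorem rho_zero : h.rho hq hx₁ σV σZ 0 = 0 := by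
  unfold rho
  rw [map_zero, thetaMap_zero, map_zero]

theorem rho_one : h.rho hq hx₁ σV σZ 1 = 1 := by
  unfold rho
  rw [map_one, thetaMap_one, map_one]

theorem rho_injective : Function.Injective (h.rho hq hx₁ σV σZ) := by
  intro a b e
  unfold rho at e
  exact σV.injective ((thetaMap_bijective _ _).1 (σZ.symm.injective e))

theorem rho_pol (u v : F) :
    h.rho hq hx₁ σV σZ (u + v) + h.rho hq hx₁ σV σZ u + h.rho hq hx₁ σV σZ v =
      σZ.symm (h.pol hq hx₁ (σV u) (σV v)) := by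
  unfold pol rho
  rw [map_sub, map_sub, map_add, CharTwo.sub_eq_add, CharTwo.sub_eq_add]

theorem sigma_rho (u : F) :
    σZ (h.rho hq hx₁ σV σZ u) = thetaMap (h.modV hq hx₁) (h.modZ hq hx₁) (σV u) := by
  unfold rho
  rw [RingEquiv.apply_symm_apply]

include h hq hx₁ σV σZ in
/-- the squaring map is `u ↦ u ^ 2 ^ i * u ^ 2 ^ j` -/
theorem exists_exponents {n : ℕ} (hF : Fintype.card F = 2 ^ n)
    (hna : ∃ x y : P, x * y ≠ y * x) :
    ∃ i j : ℕ, ∀ u, h.rho hq hx₁ σV σZ u = u ^ (2 ^ i) * u ^ (2 ^ j) := by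
  apply exists_pow_of_quadratic hF _ (h.rho_mul hq hx₁ σV σZ) (h.rho_zero hq hx₁ σV σZ)
    (h.rho_one hq hx₁ σV σZ)
  · intro u u' v
    rw [rho_pol, rho_pol, rho_pol, map_add, pol_add, map_add]
  · obtain ⟨a, b, hab⟩ := h.exists_pol_ne_zero hq hx₁ hna
    refine ⟨σV.symm a, σV.symm b, ?_⟩
    rw [rho_pol, RingEquiv.apply_symm_apply, RingEquiv.apply_symm_apply]
    intro e
    apply hab
    have := congrArg σZ e
    rwa [RingEquiv.apply_symm_apply, map_zero] at this

end Reg

end Cfsg.Agent.Lib.Helper3.Hig
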