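import Mathlib

set_option autoImplicit false
set_option linter.unusedSectionVars false
set_option linter.style.haveILetI false

/-!
Two central extensions of the same abelian group `F` by `F`, in which squaring is given by the
same map `F → F`, are isomorphic (Baer difference argument).
-/

namespace Cfsg.Agent.Lib.Helper3.Hig

variable {P₁ P₂ : Type*} [Group P₁] [Group P₂] {F : Type*} [Group F]

/-- the data of a "quadratic extension": a surjection `v` to `F`, with kernel the image of the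
central injection `z`, and squaring given by `Q` -/
structure QExt (P : Type*) [Group P] (F : Type*) [Group F] (Q : F → F) where
  v : P →* F
  z : F →* P
  v_surj : Function.Surjective v
  z_inj : Function.Injective z
  ker : ∀ x : P, v x = 1 ↔ ∃ a, z a = x
  central : ∀ a x, z a * x = x * z a
  sq : ∀ x : P, x * x = z (Q (v x))

variable {Q : F → F}

section

variable (E₁ : QExt P₁ F Q) (E₂ : QExt P₂ F Q)

/-- the fibre product -/
def QExt.fib : Subgroup (P₁ × P₂) where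
  carrier := {p | E₁.v p.1 = E₂.v p.2}
  one_mem' := by simp
  mul_mem' {a b} ha hb := by
    have ha' : E₁.v a.1 = E₂.v a.2 := ha
    have hb' : E₁.v b.1 = E₂.v b.2 := hb
    show E₁.v (a * b).1 = E₂.v (a * b).2
    rw [Prod.fst_mul, Prod.snd_mul, map_mul, map_mul, ha', hb']
  inv_mem' {a} ha := by
    have ha' : E₁.v a.1 = E₂.v a.2 := ha
    show E₁.v (a⁻¹).1 = E₂.v (a⁻¹).2
    rw [Prod.fst_inv, Prod.snd_inv, map_inv, map_inv, ha']

/-- the diagonal of the two kernels -/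
def QExt.diag : Subgroup (P₁ × P₂) := (E₁.z.prod E₂.z).range

/-- the product of the two kernels -/
def QExt.kk : Subgroup (P₁ × P₂) where
  carrier := {p | E₁.v p.1 = 1 ∧ E₂.v p.2 = 1}
  one_mem' := by simp
  mul_mem' {a b} ha hb := by
    obtain ⟨ha1, ha2⟩ := ha
    obtain ⟨hb1, hb2⟩ := hb
    exact ⟨by rw [Prod.fst_mul, map_mul, ha1, hb1, one_mul],
      by rw [Prod.snd_mul, map_mul, ha2, hb2, one_mul]⟩
  inv_mem' {a} ha := by
    obtain ⟨ha1, ha2⟩ := ha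
    exact ⟨by rw [Prod.fst_inv, map_inv, ha1, inv_one], by rw [Prod.snd_inv, map_inv, ha2, inv_one]⟩

theorem QExt.v_z (a : F) : E₁.v (E₁.z a) = 1 := (E₁.ker _).mpr ⟨a, rfl⟩

theorem QExt.mem_diag {p : P₁ × P₂} : p ∈ QExt.diag E₁ E₂ ↔ ∃ a, E₁.z a = p.1 ∧ E₂.z a = p.2 := by
  constructor
  · rintro ⟨a, rfl⟩
    exact ⟨a, rfl, rfl⟩
  · rintro ⟨a, h1, h2⟩
    exact ⟨a, Prod.ext h1 h2⟩

theorem QExt.diag_le_kk : QExt.diag E₁ E₂ ≤ QExt.kk E₁ E₂ := by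
  intro p hp
  obtain ⟨a, h1, h2⟩ := (QExt.mem_diag E₁ E₂).mp hp
  exact ⟨by rw [← h1, E₁.v_z], by rw [← h2, E₂.v_z]⟩

theorem QExt.kk_le_fib : QExt.kk E₁ E₂ ≤ QExt.fib E₁ E₂ := by
  rintro p ⟨h1, h2⟩
  show E₁.v p.1 = E₂.v p.2
  rw [h1, h2]

theorem QExt.diag_central {γ : P₁ × P₂} (hγ : γ ∈ QExt.diag E₁ E₂) (p : P₁ × P₂) :
    γ * p = p * γ := by
  obtain ⟨a, h1, h2⟩ := (QExt.mem_diag E₁ E₂).mp hγ
  apply Prod.ext
  · rw [Prod.fst_mul, Prod.fst_mul, ← h1, E₁.central]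
  · rw [Prod.snd_mul, Prod.snd_mul, ← h2, E₂.central]

theorem QExt.sq_mem_diag {p : P₁ × P₂} (hp : p ∈ QExt.fib E₁ E₂) :
    p * p ∈ QExt.diag E₁ E₂ := by
  have hp' : E₁.v p.1 = E₂.v p.2 := hp
  rw [QExt.mem_diag]
  refine ⟨Q (E₁.v p.1), ?_, ?_⟩
  · rw [Prod.fst_mul, E₁.sq]
  · rw [Prod.snd_mul, E₂.sq, hp']

/-- elements of the fibre product commute modulo the diagonal -/
theorem QExt.comm_mod_diag {p q : P₁ × P₂} (hp : p ∈ QExt.fib E₁ E₂)
    (hq : q ∈ QExt.fib E₁ E₂) : ∃ γ ∈ QExt.diag E₁ E₂, p * q = q * p * γ := by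
  have h1 := QExt.sq_mem_diag E₁ E₂ ((QExt.fib E₁ E₂).mul_mem hp hq)
  have h2 := QExt.sq_mem_diag E₁ E₂ hp
  have h3 := QExt.sq_mem_diag E₁ E₂ hq
  have c2 := QExt.diag_central E₁ E₂ (Subgroup.inv_mem _ h2)
  have e1 : p * q * p⁻¹ * q⁻¹ = (p * q * (p * q)) * (p * p)⁻¹ * (q * q)⁻¹ := by
    calc p * q * p⁻¹ * q⁻¹ = p * q * p * ((p * p)⁻¹ * q) * (q * q)⁻¹ := by group
      _ = p * q * p * (q * (p * p)⁻¹) * (q * q)⁻¹ := by rw [c2 q]
      _ = (p * q * (p * q)) * (p * p)⁻¹ * (q * q)⁻¹ := by group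
  have hγ : p * q * p⁻¹ * q⁻¹ ∈ QExt.diag E₁ E₂ := by
    rw [e1]
    exact Subgroup.mul_mem _ (Subgroup.mul_mem _ h1 (Subgroup.inv_mem _ h2)) (Subgroup.inv_mem _ h3)
  refine ⟨p * q * p⁻¹ * q⁻¹, hγ, ?_⟩
  rw [← QExt.diag_central E₁ E₂ hγ (q * p)]
  group

end

end Cfsg.Agent.Lib.Helper3.Hig
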