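import Mathlib
import Cfsg.Agent.Lib.Helper3.HigI1

set_option autoImplicit false
set_option linter.unusedSectionVars false
set_option linter.style.haveILetI false

/-!
Two "quadratic extensions" with the same data are isomorphic: the graph of an isomorphism as a
maximal subgroup of the fibre product meeting the product of the kernels in the diagonal.
-/

namespace Cfsg.Agent.Lib.Helper3.Hig

variable {P₁ P₂ : Type*} [Group P₁] [Group P₂] {F : Type*} [Group F] {Q : F → F}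

namespace QExt

variable (E₁ : QExt P₁ F Q) (E₂ : QExt P₂ F Q)

/-- the admissible subgroups -/
def Good (W : Subgroup (P₁ × P₂)) : Prop :=
  diag E₁ E₂ ≤ W ∧ W ≤ fib E₁ E₂ ∧ W ⊓ kk E₁ E₂ ≤ diag E₁ E₂

theorem good_diag : Good E₁ E₂ (diag E₁ E₂) :=
  ⟨le_rfl, (diag_le_kk E₁ E₂).trans (kk_le_fib E₁ E₂), inf_le_left⟩

variable {E₁ E₂}

theorem Good.swap_mem {W : Subgroup (P₁ × P₂)} (hW : Good E₁ E₂ W) {w p : P₁ × P₂}
    (hw : w ∈ W) (hp : p ∈ fib E₁ E₂) : ∃ w' ∈ W, w * p = p * w' := by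
  obtain ⟨γ, hγ, e⟩ := comm_mod_diag E₁ E₂ (hW.2.1 hw) hp
  exact ⟨w * γ, W.mul_mem hw (hW.1 hγ), by rw [e, mul_assoc]⟩

/-- the extension of an admissible subgroup by an element of the fibre product -/
def Good.ext {W : Subgroup (P₁ × P₂)} (hW : Good E₁ E₂ W) (p : P₁ × P₂)
    (hp : p ∈ fib E₁ E₂) : Subgroup (P₁ × P₂) where
  carrier := {u | u ∈ W ∨ ∃ w ∈ W, u = p * w}
  one_mem' := Or.inl W.one_mem
  mul_mem' := by
    have hpp : p * p ∈ W := hW.1 (sq_mem_diag E₁ E₂ hp)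
    rintro a b (ha | ⟨w₁, hw₁, rfl⟩) (hb | ⟨w₂, hw₂, rfl⟩)
    · exact Or.inl (W.mul_mem ha hb)
    · obtain ⟨w', hw', e⟩ := hW.swap_mem ha hp
      exact Or.inr ⟨w' * w₂, W.mul_mem hw' hw₂, by rw [← mul_assoc, e, mul_assoc]⟩
    · exact Or.inr ⟨w₁ * b, W.mul_mem hw₁ hb, by rw [mul_assoc]⟩
    · obtain ⟨w', hw', e⟩ := hW.swap_mem hw₁ hp
      refine Or.inl ?_
      have : p * w₁ * (p * w₂) = (p * p) * (w' * w₂) := by
        calc p * w₁ * (p * w₂) = p * (w₁ * p) * w₂ := by group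
          _ = p * (p * w') * w₂ := by rw [e]
          _ = (p * p) * (w' * w₂) := by group
      rw [this]
      exact W.mul_mem hpp (W.mul_mem hw' hw₂)
  inv_mem' := by
    have hpp : p * p ∈ W := hW.1 (sq_mem_diag E₁ E₂ hp)
    rintro a (ha | ⟨w, hw, rfl⟩)
    · exact Or.inl (W.inv_mem ha)
    · obtain ⟨w', hw', e⟩ := hW.swap_mem (W.inv_mem hw) hp
      refine Or.inr ⟨w' * (p * p)⁻¹, W.mul_mem hw' (W.inv_mem hpp), ?_⟩
      calc (p * w)⁻¹ = (w⁻¹ * p) * (p * p)⁻¹ := by group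
        _ = (p * w') * (p * p)⁻¹ := by rw [e]
        _ = p * (w' * (p * p)⁻¹) := by group

theorem Good.mem_ext {W : Subgroup (P₁ × P₂)} (hW : Good E₁ E₂ W) (p : P₁ × P₂)
    (hp : p ∈ fib E₁ E₂) (u : P₁ × P₂) :
    u ∈ hW.ext p hp ↔ u ∈ W ∨ ∃ w ∈ W, u = p * w := Iff.rfl

theorem kk_conj {c : P₁ × P₂} (hc : c ∈ kk E₁ E₂) (w : P₁ × P₂) : w * c * w⁻¹ ∈ kk E₁ E₂ := by
  obtain ⟨h1, h2⟩ := hc
  constructor
  · rw [Prod.fst_mul, Prod.fst_mul, Prod.fst_inv, map_mul, map_mul, h1, mul_one, map_inv,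
      mul_inv_cancel]
  · rw [Prod.snd_mul, Prod.snd_mul, Prod.snd_inv, map_mul, map_mul, h2, mul_one, map_inv,
      mul_inv_cancel]

theorem Good.ext_good {W : Subgroup (P₁ × P₂)} (hW : Good E₁ E₂ W) (p : P₁ × P₂)
    (hp : p ∈ fib E₁ E₂) (hno : ∀ w ∈ W, ∀ c ∈ kk E₁ E₂, p ≠ w * c) :
    Good E₁ E₂ (hW.ext p hp) := by
  refine ⟨fun u hu => Or.inl (hW.1 hu), ?_, ?_⟩
  · rintro u (hu | ⟨w, hw, rfl⟩)
    · exact hW.2.1 hu
    · exact (fib E₁ E₂).mul_mem hp (hW.2.1 hw)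
  · rintro u ⟨(hu | ⟨w, hw, rfl⟩), hk⟩
    · exact hW.2.2 ⟨hu, hk⟩
    · exfalso
      have hk' : p * w ∈ kk E₁ E₂ := hk
      refine hno w⁻¹ (W.inv_mem hw) (w * (p * w) * w⁻¹) (kk_conj hk' w) ?_
      group

/-- **Isomorphism theorem** for quadratic extensions with the same data. -/
theorem exists_iso [Finite P₁] [Finite P₂] (E₁ : QExt P₁ F Q) (E₂ : QExt P₂ F Q) :
    Nonempty (P₁ ≃* P₂) := by
  obtain ⟨W, -, hmax⟩ := Finite.exists_le_maximal (p := Good E₁ E₂) (good_diag E₁ E₂)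
  have hW : Good E₁ E₂ W := hmax.1
  have hcover : ∀ p ∈ fib E₁ E₂, ∃ w ∈ W, ∃ c ∈ kk E₁ E₂, p = w * c := by
    intro p hp
    by_contra hcon
    push Not at hcon
    have hg := hW.ext_good p hp hcon
    have hle : W ≤ hW.ext p hp := fun u hu => Or.inl hu
    have hpW : p ∈ W := hmax.2 hg hle (Or.inr ⟨1, W.one_mem, (mul_one p).symm⟩)
    exact hcon p hpW 1 (Subgroup.one_mem _) (mul_one p).symm
  -- the two projections
  let f₁ : W →* P₁ := (MonoidHom.fst P₁ P₂).comp W.subtype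
  let f₂ : W →* P₂ := (MonoidHom.snd P₁ P₂).comp W.subtype
  have hf₁ : Function.Bijective f₁ := by
    constructor
    · rw [injective_iff_map_eq_one]
      rintro ⟨⟨x, y⟩, hw⟩ hx
      have hx' : x = 1 := hx
      subst hx'
      have hfib : E₁.v 1 = E₂.v y := hW.2.1 hw
      rw [map_one] at hfib
      have hk : ((1 : P₁), y) ∈ kk E₁ E₂ := ⟨map_one _, hfib.symm⟩
      obtain ⟨a, h1, h2⟩ := (mem_diag E₁ E₂).mp (hW.2.2 ⟨hw, hk⟩)
      have ha : a = 1 := E₁.z_inj (by rw [map_one]; exact h1)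
      apply Subtype.ext
      have h2' : y = 1 := by
        have : E₂.z a = y := h2
        rw [← this, ha, map_one]
      show ((1 : P₁), y) = 1
      rw [h2']
      rfl
    · intro x
      obtain ⟨y, hy⟩ := E₂.v_surj (E₁.v x)
      obtain ⟨w, hw, c, hc, e⟩ := hcover (x, y) hy.symm
      obtain ⟨a, ha⟩ := (E₁.ker c.1).mp hc.1
      have hd : (E₁.z a, E₂.z a) ∈ diag E₁ E₂ := (mem_diag E₁ E₂).mpr ⟨a, rfl, rfl⟩
      refine ⟨⟨w * (E₁.z a, E₂.z a), W.mul_mem hw (hW.1 hd)⟩, ?_⟩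
      show (w * (E₁.z a, E₂.z a)).1 = x
      rw [Prod.fst_mul, ha]
      exact (congrArg Prod.fst e).symm
  have hf₂ : Function.Bijective f₂ := by
    constructor
    · rw [injective_iff_map_eq_one]
      rintro ⟨⟨x, y⟩, hw⟩ hy
      have hy' : y = 1 := hy
      subst hy'
      have hfib : E₁.v x = E₂.v 1 := hW.2.1 hw
      rw [map_one] at hfib
      have hk : (x, (1 : P₂)) ∈ kk E₁ E₂ := ⟨hfib, map_one _⟩
      obtain ⟨a, h1, h2⟩ := (mem_diag E₁ E₂).mp (hW.2.2 ⟨hw, hk⟩)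
      have ha : a = 1 := E₂.z_inj (by rw [map_one]; exact h2)
      apply Subtype.ext
      have h1' : x = 1 := by
        have : E₁.z a = x := h1
        rw [← this, ha, map_one]
      show (x, (1 : P₂)) = 1
      rw [h1']
      rfl
    · intro y
      obtain ⟨x, hx⟩ := E₁.v_surj (E₂.v y)
      obtain ⟨w, hw, c, hc, e⟩ := hcover (x, y) hx
      obtain ⟨a, ha⟩ := (E₂.ker c.2).mp hc.2
      have hd : (E₁.z a, E₂.z a) ∈ diag E₁ E₂ := (mem_diag E₁ E₂).mpr ⟨a, rfl, rfl⟩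
      refine ⟨⟨w * (E₁.z a, E₂.z a), W.mul_mem hw (hW.1 hd)⟩, ?_⟩
      show (w * (E₁.z a, E₂.z a)).2 = y
      rw [Prod.snd_mul, ha]
      exact (congrArg Prod.snd e).symm
  exact ⟨(MulEquiv.ofBijective f₁ hf₁).symm.trans (MulEquiv.ofBijective f₂ hf₂)⟩

end QExt

end Cfsg.Agent.Lib.Helper3.Hig
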