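import Mathlib
import Cfsg.Prelude.Def_LieRecognition
import Cfsg.Agent.Lib.Helper3.HigI2

set_option autoImplicit false
set_option linter.unusedSectionVars false
set_option linter.style.haveILetI false

/-!
The type A Suzuki `2`-group as a quadratic extension.
-/

namespace Cfsg.Agent.Lib.Helper3.Hig

variable {F : Type*} [Field F] (φ : F →+* F)

/-- the matrices of the type A group -/
def tMat (x y : F) : Matrix (Fin 3) (Fin 3) F := !![1, 0, 0; x, 1, 0; y, φ x, 1]

theorem tMat_mul (x y x' y' : F) :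
    tMat φ x y * tMat φ x' y' = tMat φ (x + x') (y + y' + φ x * x') := by
  unfold tMat
  ext i j
  fin_cases i <;> fin_cases j <;>
    simp [Matrix.mul_apply, Fin.sum_univ_three] <;> ring

theorem tMat_zero : tMat φ 0 0 = 1 := by
  unfold tMat
  ext i j
  fin_cases i <;> fin_cases j <;> simp

/-- the elements of the type A group -/
def tGL (x y : F) : GL (Fin 3) F where
  val := tMat φ x y
  inv := tMat φ (-x) (-y + φ x * x)
  val_inv := by
    rw [tMat_mul, ← tMat_zero φ]
    congr 1
    · ring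
    · ring
  inv_val := by
    rw [tMat_mul, ← tMat_zero φ]
    congr 1
    · ring
    · rw [map_neg]; ring

theorem tGL_val (x y : F) : ((tGL φ x y : GL (Fin 3) F) : Matrix (Fin 3) (Fin 3) F) = tMat φ x y :=
  rfl

theorem tGL_mul (x y x' y' : F) :
    tGL φ x y * tGL φ x' y' = tGL φ (x + x') (y + y' + φ x * x') := by
  apply Units.ext
  rw [Units.val_mul, tGL_val, tGL_val, tGL_val, tMat_mul]

theorem tGL_zero : tGL φ 0 0 = 1 := by
  apply Units.ext
  rw [tGL_val, tMat_zero]
  rfl

theorem tGL_injective {x y x' y' : F} (e : tGL φ x y = tGL φ x' y') : x = x' ∧ y = y' := by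
  have e' : tMat φ x y = tMat φ x' y' := congrArg Units.val e
  constructor
  · have := congrFun (congrFun e' 1) 0
    simpa [tMat] using this
  · have := congrFun (congrFun e' 2) 0
    simpa [tMat] using this

theorem tGL_inv (x y : F) : (tGL φ x y)⁻¹ = tGL φ (-x) (-y + φ x * x) := by
  apply Units.ext
  rfl

/-- the type A group as the set of all `tGL φ x y` -/
def tSub : Subgroup (GL (Fin 3) F) where
  carrier := {g | ∃ x y, g = tGL φ x y}
  one_mem' := ⟨0, 0, (tGL_zero φ).symm⟩
  mul_mem' := by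
    rintro _ _ ⟨x, y, rfl⟩ ⟨x', y', rfl⟩
    exact ⟨_, _, tGL_mul φ x y x' y'⟩
  inv_mem' := by
    rintro _ ⟨x, y, rfl⟩
    exact ⟨_, _, tGL_inv φ x y⟩

theorem suzukiTypeA_eq : Cfsg.suzukiTypeA F φ = tSub φ := by
  apply le_antisymm
  · unfold Cfsg.suzukiTypeA
    rw [Subgroup.closure_le]
    rintro g ⟨x, y, hg⟩
    exact ⟨x, y, Units.ext hg⟩
  · rintro _ ⟨x, y, rfl⟩
    exact Subgroup.subset_closure ⟨x, y, rfl⟩

end Cfsg.Agent.Lib.Helper3.Hig
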