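import Mathlib
import Cfsg.Agent.Lib.Helper3.HigA1

set_option autoImplicit false
set_option linter.unusedSectionVars false
set_option linter.style.haveILetI false

/-!
The type A Suzuki `2`-group in characteristic two is a quadratic extension of `F` by `F` with
squaring map `x ↦ φ x * x`.
-/

namespace Cfsg.Agent.Lib.Helper3.Hig

variable {F : Type*} [Field F] (φ : F →+* F)

theorem tGL_mem (x y : F) : tGL φ x y ∈ tSub φ := ⟨x, y, rfl⟩

/-- the elements of the type A group, as elements of the subgroup -/
def tEl (x y : F) : tSub φ := ⟨tGL φ x y, tGL_mem φ x y⟩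

theorem tEl_mul (x y x' y' : F) :
    tEl φ x y * tEl φ x' y' = tEl φ (x + x') (y + y' + φ x * x') :=
  Subtype.ext (tGL_mul φ x y x' y')

theorem tEl_zero : tEl φ 0 0 = 1 := Subtype.ext (tGL_zero φ)

theorem exists_tEl (g : tSub φ) : ∃ x y, g = tEl φ x y := by
  obtain ⟨g, x, y, rfl⟩ := g
  exact ⟨x, y, rfl⟩

theorem tEl_injective {x y x' y' : F} (e : tEl φ x y = tEl φ x' y') : x = x' ∧ y = y' :=
  tGL_injective φ (congrArg Subtype.val e)

/-- the first coordinate -/
def tFst (g : tSub φ) : F := ((g : GL (Fin 3) F) : Matrix (Fin 3) (Fin 3) F) 1 0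

theorem tFst_tEl (x y : F) : tFst φ (tEl φ x y) = x := by
  simp [tFst, tEl, tGL_val, tMat]

/-- the squaring map of type A, on `Multiplicative F` -/
def qA (a : Multiplicative F) : Multiplicative F :=
  Multiplicative.ofAdd (φ (Multiplicative.toAdd a) * Multiplicative.toAdd a)

variable [CharP F 2]

/-- the quadratic extension structure of the type A group -/
def tQExt : QExt (tSub φ) (Multiplicative F) (qA φ) where
  v :=
    { toFun := fun g => Multiplicative.ofAdd (tFst φ g)
      map_one' := by
        rw [← tEl_zero φ, tFst_tEl]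
        rfl
      map_mul' := by
        intro g g'
        obtain ⟨x, y, rfl⟩ := exists_tEl φ g
        obtain ⟨x', y', rfl⟩ := exists_tEl φ g'
        rw [tEl_mul, tFst_tEl, tFst_tEl, tFst_tEl]
        rfl }
  z :=
    { toFun := fun a => tEl φ 0 (Multiplicative.toAdd a)
      map_one' := tEl_zero φ
      map_mul' := by
        intro a b
        rw [tEl_mul, map_zero, zero_mul, add_zero, add_zero]
        rfl }
  v_surj := by
    intro a
    refine ⟨tEl φ (Multiplicative.toAdd a) 0, ?_⟩
    show Multiplicative.ofAdd (tFst φ _) = a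
    rw [tFst_tEl]
    rfl
  z_inj := by
    intro a b e
    have e' : tEl φ 0 (Multiplicative.toAdd a) = tEl φ 0 (Multiplicative.toAdd b) := e
    exact Multiplicative.toAdd.injective (tEl_injective φ e').2
  ker := by
    intro g
    obtain ⟨x, y, rfl⟩ := exists_tEl φ g
    show Multiplicative.ofAdd (tFst φ _) = 1 ↔ _
    rw [tFst_tEl]
    constructor
    · intro hx
      have hx' : x = 0 := hx
      subst hx'
      exact ⟨Multiplicative.ofAdd y, rfl⟩
    · rintro ⟨a, ha⟩
      have e' : tEl φ 0 (Multiplicative.toAdd a) = tEl φ x y := ha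
      have := (tEl_injective φ e').1
      rw [← this]
      rfl
  central := by
    intro a g
    obtain ⟨x, y, rfl⟩ := exists_tEl φ g
    show tEl φ 0 (Multiplicative.toAdd a) * tEl φ x y = tEl φ x y * tEl φ 0 (Multiplicative.toAdd a)
    rw [tEl_mul, tEl_mul, map_zero, zero_mul, mul_zero, add_zero, add_zero, zero_add, add_zero,
      add_comm]
  sq := by
    intro g
    obtain ⟨x, y, rfl⟩ := exists_tEl φ g
    show tEl φ x y * tEl φ x y = tEl φ 0 (Multiplicative.toAdd (qA φ (Multiplicative.ofAdd (tFst φ _))))
    rw [tFst_tEl, tEl_mul, CharTwo.add_self_eq_zero, CharTwo.add_self_eq_zero, zero_add]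
    rfl

end Cfsg.Agent.Lib.Helper3.Hig
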