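import Mathlib
import Cfsg.Agent.Lib.Helper3.HigF1

set_option autoImplicit false
set_option linter.unusedSectionVars false
set_option linter.style.haveILetI false

/-!
Finite fields of characteristic two: if `w ↦ w * w ^ 2 ^ s` is injective, the field automorphism
`w ↦ w ^ 2 ^ s` has odd order.
-/

namespace Cfsg.Agent.Lib.Helper3.Hig

variable {F : Type*} [Field F] [Fintype F] [CharP F 2]

theorem pow_two_pow_mul_card {n : ℕ} (hF : Fintype.card F = 2 ^ n) (l : ℕ) (x : F) :
    x ^ (2 ^ (n * l)) = x := by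
  rw [pow_mul, ← hF]
  exact FiniteField.pow_card_pow l x

/-- the iterated Frobenius is trivial exactly for multiples of the degree -/
theorem iterFrob_eq_one_iff {n : ℕ} (hF : Fintype.card F = 2 ^ n) (r : ℕ) :
    iterateFrobeniusEquiv F 2 r = 1 ↔ n ∣ r := by
  have hn : n ≠ 0 := by
    rintro rfl
    rw [pow_zero] at hF
    have := Fintype.one_lt_card (α := F)
    omega
  constructor
  · intro e
    have h1 : ∀ x : F, x ^ (2 ^ r) = x := by
      intro x
      have := congrArg (fun f : F ≃+* F => f x) e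
      have e2 : (iterateFrobeniusEquiv F 2 r) x = x ^ 2 ^ r := iterateFrobeniusEquiv_def F 2 r x
      have e3 : (1 : F ≃+* F) x = x := rfl
      beta_reduce at this
      rw [e2, e3] at this
      exact this
    have h2 : ∀ x : F, x ^ (2 ^ (r % n)) = x := by
      intro x
      have hr : r = r % n + n * (r / n) := (Nat.mod_add_div r n).symm
      have := h1 x
      rw [hr, pow_add, pow_mul, pow_two_pow_mul_card hF] at this
      exact this
    by_contra hdvd
    have hr0 : r % n ≠ 0 := fun e0 => hdvd (Nat.dvd_of_mod_eq_zero e0)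
    have hlt : r % n < n := Nat.mod_lt _ (Nat.pos_of_ne_zero hn)
    let i₀ : Fin n := ⟨0, Nat.pos_of_ne_zero hn⟩
    let i₁ : Fin n := ⟨r % n, hlt⟩
    have hne : i₁ ≠ i₀ := fun e0 => hr0 (congrArg Fin.val e0)
    let c : Fin n → F := fun i => if i = i₁ then 1 else if i = i₀ then -1 else 0
    have hc : ∀ u, linFun c u = 0 := by
      intro u
      unfold linFun
      rw [Finset.sum_eq_add_of_mem i₁ i₀ (Finset.mem_univ _) (Finset.mem_univ _) hne]
      · simp only [c, if_true, if_neg hne.symm, one_mul, neg_mul]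
        show u ^ 2 ^ (r % n) + -(u ^ 2 ^ 0) = 0
        rw [h2 u, pow_zero, pow_one, add_neg_cancel]
      · intro j _ hj
        simp only [c, if_neg hj.1, if_neg hj.2, zero_mul]
    have := congrFun (linFun_eq_zero hF c hc) i₁
    simp [c] at this
  · rintro ⟨l, rfl⟩
    ext x
    rw [iterateFrobeniusEquiv_def, pow_two_pow_mul_card hF]
    rfl

theorem iterFrob_pow (s m : ℕ) :
    (iterateFrobeniusEquiv F 2 s) ^ m = iterateFrobeniusEquiv F 2 (s * m) := by
  rw [iterateFrobeniusEquiv_eq_pow, iterateFrobeniusEquiv_eq_pow, pow_mul]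

/-- oddness of the order -/
theorem odd_orderOf_iterFrob {n : ℕ} (hF : Fintype.card F = 2 ^ n) (s : ℕ)
    (hinj : Function.Injective (fun w : F => w * w ^ (2 ^ s))) :
    Odd (orderOf (iterateFrobeniusEquiv F 2 s)) := by
  classical
  have hn : n ≠ 0 := by
    rintro rfl
    rw [pow_zero] at hF
    have := Fintype.one_lt_card (α := F)
    omega
  set θ := iterateFrobeniusEquiv F 2 s with hθ
  have hpow : ∀ m, θ ^ m = 1 ↔ n ∣ s * m := by
    intro m
    rw [hθ, iterFrob_pow, iterFrob_eq_one_iff hF]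
  by_contra hodd
  rw [Nat.not_odd_iff_even] at hodd
  -- arithmetic
  set d₀ := Nat.gcd n s with hd₀
  have hd₀pos : 0 < d₀ := Nat.gcd_pos_of_pos_left _ (Nat.pos_of_ne_zero hn)
  obtain ⟨n', hn'⟩ : d₀ ∣ n := Nat.gcd_dvd_left n s
  obtain ⟨s', hs'⟩ : d₀ ∣ s := Nat.gcd_dvd_right n s
  have hcop : Nat.Coprime n' s' := by
    have := Nat.coprime_div_gcd_div_gcd (m := n) (n := s) hd₀pos
    rw [← hd₀] at this
    have e1 : n / d₀ = n' := by rw [hn']; exact Nat.mul_div_cancel_left _ hd₀pos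
    have e2 : s / d₀ = s' := by rw [hs']; exact Nat.mul_div_cancel_left _ hd₀pos
    rwa [e1, e2] at this
  have hn'0 : n' ≠ 0 := by
    rintro rfl
    rw [mul_zero] at hn'
    exact hn hn'
  have h1 : orderOf θ ∣ n' := by
    rw [orderOf_dvd_iff_pow_eq_one, hpow]
    exact ⟨s', by rw [hs', hn']; ring⟩
  have h2 : n' ∣ orderOf θ := by
    have := (hpow (orderOf θ)).mp (pow_orderOf_eq_one θ)
    rw [hn', hs', mul_assoc] at this
    have h3 : n' ∣ s' * orderOf θ := Nat.dvd_of_mul_dvd_mul_left hd₀pos this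
    exact hcop.dvd_of_dvd_mul_left h3
  have hord : orderOf θ = n' := Nat.dvd_antisymm h1 h2
  rw [hord] at hodd
  have hs'odd : Odd s' := by
    rw [← Nat.not_even_iff_odd]
    intro hs'even
    have : 2 ∣ Nat.gcd n' s' := Nat.dvd_gcd hodd.two_dvd hs'even.two_dvd
    rw [hcop] at this
    omega
  obtain ⟨n'', hn''⟩ := hodd
  -- the common divisor
  set d := 2 ^ d₀ + 1 with hd
  have hd3 : 3 ≤ d := by
    have : 2 ≤ 2 ^ d₀ := by
      calc 2 = 2 ^ 1 := by norm_num
        _ ≤ 2 ^ d₀ := Nat.pow_le_pow_right (by norm_num) hd₀pos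
    omega
  have hd1 : d ∣ 2 ^ s + 1 := by
    have := Odd.nat_add_dvd_pow_add_pow (2 ^ d₀) 1 hs'odd
    rwa [one_pow, ← pow_mul, ← hs'] at this
  have hd2 : d ∣ 2 ^ n - 1 := by
    have e1 : n = (2 * d₀) * n'' := by rw [hn', hn'']; ring
    have h3 : (2 ^ (2 * d₀)) - 1 ∣ (2 ^ (2 * d₀)) ^ n'' - 1 := by
      simpa only [one_pow] using Nat.sub_dvd_pow_sub_pow (2 ^ (2 * d₀)) 1 n''
    rw [← pow_mul, ← e1] at h3
    refine Dvd.dvd.trans ?_ h3
    refine ⟨2 ^ d₀ - 1, ?_⟩
    have h4 : 1 ≤ 2 ^ d₀ := Nat.one_le_two_pow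
    have h5 : 2 ^ (2 * d₀) = 2 ^ d₀ * 2 ^ d₀ := by rw [two_mul, pow_add]
    rw [h5, hd]
    have : (2 ^ d₀ + 1) * (2 ^ d₀ - 1) = 2 ^ d₀ * 2 ^ d₀ - 1 := by
      zify [h4, Nat.one_le_two_pow.trans (Nat.le_mul_self (2 ^ d₀))]
      ring
    omega
  -- an element of order `d` in the cyclic group of units
  obtain ⟨g, hg⟩ := IsCyclic.exists_generator (α := Fˣ)
  have hgord : orderOf g = 2 ^ n - 1 := by
    rw [orderOf_eq_card_of_forall_mem_zpowers hg, Nat.card_eq_fintype_card, Fintype.card_units, hF]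
  obtain ⟨e, he⟩ := hd2
  have he0 : e ≠ 0 := by
    rintro rfl
    rw [mul_zero] at he
    have : 2 ≤ 2 ^ n := by
      calc 2 = 2 ^ 1 := by norm_num
        _ ≤ 2 ^ n := Nat.pow_le_pow_right (by norm_num) (Nat.pos_of_ne_zero hn)
    omega
  have hword : orderOf (g ^ e) = d := by
    rw [orderOf_pow_of_dvd he0 (by rw [hgord, he]; exact Dvd.intro_left _ rfl), hgord, he]
    exact Nat.mul_div_cancel _ (Nat.pos_of_ne_zero he0)
  have hw1 : ((g ^ e : Fˣ) : F) * ((g ^ e : Fˣ) : F) ^ (2 ^ s) = 1 := by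
    rw [← pow_succ', ← Units.val_pow_eq_pow_val, Units.val_eq_one, ← orderOf_dvd_iff_pow_eq_one,
      hword]
    exact hd1
  have h11 : (1 : F) * (1 : F) ^ (2 ^ s) = 1 := by rw [one_pow, one_mul]
  have hw : ((g ^ e : Fˣ) : F) = 1 := hinj (hw1.trans h11.symm)
  rw [Units.val_eq_one] at hw
  rw [hw, orderOf_one] at hword
  omega

end Cfsg.Agent.Lib.Helper3.Hig
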