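import Mathlib
import Cfsg.Agent.Lib.Helper3.Hig11
import Cfsg.Agent.Lib.Helper3.HigA2
import Cfsg.Agent.Lib.Helper3.HigO1

set_option autoImplicit false
set_option linter.unusedSectionVars false
set_option linter.style.haveILetI false

/-!
Higman's Suzuki `2`-groups, part 12: the case `|P| = |Z|²`: `P` as a quadratic extension with the
data of type A, and the isomorphism with the type A group.
-/

namespace Cfsg.Agent.Lib.Helper3.Hig

open scoped commutatorElement

universe u v w

variable {K : Type v} [Group K] {P : Type u} [Group P]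

namespace Reg

variable {φ : K →* MulAut P} (h : Reg φ) (hq : Nat.card P = Nat.card h.Zs ^ 2)
  {x₁ : P} (hx₁ : x₁ * x₁ ≠ 1)
  {F : Type w} [Field F] [Fintype F] [CharP F 2]
  (σV : F ≃+* (h.modV hq hx₁).W) (σZ : F ≃+* (h.modZ hq hx₁).W)

/-- the automorphism `w ↦ w ^ 2 ^ s` as a ring homomorphism -/
noncomputable def frobHom (F : Type w) [Field F] [Fintype F] [CharP F 2] (s : ℕ) : F →+* F :=
  ((iterateFrobeniusEquiv F 2 s : F ≃+* F) : F →+* F)

theorem frobHom_apply (s : ℕ) (x : F) : frobHom F s x = x ^ 2 ^ s := rfl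

/-- `P` as a quadratic extension -/
noncomputable def pQExt (i s : ℕ)
    (hρ : ∀ u, h.rho hq hx₁ σV σZ u = u ^ (2 ^ i) * (u ^ (2 ^ i)) ^ (2 ^ s)) :
    QExt P (Multiplicative F) (qA (frobHom F s)) where
  v :=
    { toFun := fun x => Multiplicative.ofAdd ((σV.symm (h.kap hq hx₁ x)) ^ (2 ^ i))
      map_one' := by
        have : h.kap hq hx₁ 1 = 0 := (h.kap_eq_zero_iff hq hx₁ 1).mpr (one_mul 1)
        rw [this, map_zero, zero_pow (by positivity)]
        rfl
      map_mul' := by
        intro x y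
        haveI : Fact (Nat.Prime 2) := ⟨Nat.prime_two⟩
        rw [h.kap_mul hq hx₁, map_add, add_pow_char_pow]
        rfl }
  z :=
    { toFun := fun a => h.zet hq hx₁ (σZ (Multiplicative.toAdd a))
      map_one' := by
        rw [toAdd_one, map_zero, zet_zero]
      map_mul' := by
        intro a b
        rw [toAdd_mul, map_add, zet_add] }
  v_surj := by
    intro a
    obtain ⟨u, hu⟩ := (iterateFrobeniusEquiv F 2 i).surjective (Multiplicative.toAdd a)
    obtain ⟨x, hx⟩ := h.kap_surjective hq hx₁ (σV u)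
    refine ⟨x, ?_⟩
    show Multiplicative.ofAdd ((σV.symm (h.kap hq hx₁ x)) ^ (2 ^ i)) = a
    rw [hx, RingEquiv.symm_apply_apply, ← iterateFrobeniusEquiv_def F 2 i u, hu]
    rfl
  z_inj := by
    intro a b e
    have e' : h.zet hq hx₁ (σZ (Multiplicative.toAdd a)) =
        h.zet hq hx₁ (σZ (Multiplicative.toAdd b)) := e
    exact Multiplicative.toAdd.injective (σZ.injective (h.zet_injective hq hx₁ e'))
  ker := by
    intro x
    show Multiplicative.ofAdd ((σV.symm (h.kap hq hx₁ x)) ^ (2 ^ i)) = 1 ↔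
      ∃ a, h.zet hq hx₁ (σZ (Multiplicative.toAdd a)) = x
    have e1 : Multiplicative.ofAdd ((σV.symm (h.kap hq hx₁ x)) ^ (2 ^ i)) = 1 ↔
        h.kap hq hx₁ x = 0 := by
      rw [ofAdd_eq_one, pow_eq_zero_iff (by positivity), map_eq_zero_iff _ σV.symm.injective]
    rw [e1, h.kap_eq_zero_iff hq hx₁]
    constructor
    · intro hx
      obtain ⟨w, hw⟩ := h.exists_zet hq hx₁ hx
      exact ⟨Multiplicative.ofAdd (σZ.symm w), by
        rw [toAdd_ofAdd, RingEquiv.apply_symm_apply, hw]⟩
    · rintro ⟨a, rfl⟩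
      exact h.zet_sq hq hx₁ _
  central := by
    intro a x
    exact h.zet_central hq hx₁ _ x
  sq := by
    intro x
    show x * x = h.zet hq hx₁ (σZ (Multiplicative.toAdd (qA (frobHom F s)
      (Multiplicative.ofAdd ((σV.symm (h.kap hq hx₁ x)) ^ (2 ^ i))))))
    rw [h.sq_eq hq hx₁ x]
    congr 1
    have e1 := h.sigma_rho hq hx₁ σV σZ (σV.symm (h.kap hq hx₁ x))
    rw [RingEquiv.apply_symm_apply] at e1
    rw [← e1, hρ]
    unfold qA
    rw [toAdd_ofAdd, toAdd_ofAdd, frobHom_apply, mul_comm]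

end Reg

end Cfsg.Agent.Lib.Helper3.Hig
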