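import Mathlib
import Cfsg.Agent.Lib.Helper3.Hig12

set_option autoImplicit false
set_option linter.unusedSectionVars false
set_option linter.style.haveILetI false

/-!
Higman's Suzuki `2`-groups, part 13: the case `|P| = |Z|²`: the isomorphism with a group of
type A.
-/

namespace Cfsg.Agent.Lib.Helper3.Hig

open scoped commutatorElement

universe u v w

variable {K : Type v} [Group K] {P : Type u} [Group P]

namespace Reg

variable {φ : K →* MulAut P} (h : Reg φ) (hq : Nat.card P = Nat.card h.Zs ^ 2)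

include hq in
/-- the final isomorphism with a group of type A -/
theorem exists_typeA (hna : ∃ x y : P, x * y ≠ y * x)
    {F : Type w} [Field F] [Fintype F] [CharP F 2] {n : ℕ} (hF : Fintype.card F = 2 ^ n)
    (hFZ : Fintype.card F = Nat.card h.Zs) :
    ∃ s : ℕ, iterateFrobeniusEquiv F 2 s ≠ RingEquiv.refl F ∧
      Odd (orderOf (iterateFrobeniusEquiv F 2 s)) ∧
      Nonempty (P ≃* Cfsg.suzukiTypeA F
        ((iterateFrobeniusEquiv F 2 s : F ≃+* F) : F →+* F)) := by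
  classical
  haveI := h.fin
  obtain ⟨x₁, hx₁⟩ := h.exists_not_Zs hq
  haveI : Finite (P ⧸ h.Zs) := inferInstance
  have cV : Fintype.card F = Fintype.card (h.modV hq hx₁).W := by
    rw [RegMod.card_W, h.card_quot hq, hFZ]
  have cZ : Fintype.card F = Fintype.card (h.modZ hq hx₁).W := by
    rw [RegMod.card_W, hFZ]
  let σV : F ≃+* (h.modV hq hx₁).W := FiniteField.ringEquivOfCardEq cV
  let σZ : F ≃+* (h.modZ hq hx₁).W := FiniteField.ringEquivOfCardEq cZ
  obtain ⟨i₀, j₀, hij₀⟩ := h.exists_exponents hq hx₁ σV σZ hF hna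
  -- normalise `i ≤ j`
  obtain ⟨i, s, hρ⟩ : ∃ i s : ℕ,
      ∀ u, h.rho hq hx₁ σV σZ u = u ^ (2 ^ i) * (u ^ (2 ^ i)) ^ (2 ^ s) := by
    rcases le_total i₀ j₀ with hle | hle
    · refine ⟨i₀, j₀ - i₀, fun u => ?_⟩
      have e : 2 ^ j₀ = 2 ^ i₀ * 2 ^ (j₀ - i₀) := by rw [← pow_add, Nat.add_sub_cancel' hle]
      rw [hij₀ u, ← pow_mul, ← e]
    · refine ⟨j₀, i₀ - j₀, fun u => ?_⟩
      have e : 2 ^ i₀ = 2 ^ j₀ * 2 ^ (i₀ - j₀) := by rw [← pow_add, Nat.add_sub_cancel' hle]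
      rw [hij₀ u, ← pow_mul, ← e, mul_comm]
  -- a pair with nonzero polarisation
  obtain ⟨u₀, v₀, huv⟩ : ∃ u v : F, h.rho hq hx₁ σV σZ (u + v) + h.rho hq hx₁ σV σZ u +
      h.rho hq hx₁ σV σZ v ≠ 0 := by
    obtain ⟨a, b, hab⟩ := h.exists_pol_ne_zero hq hx₁ hna
    refine ⟨σV.symm a, σV.symm b, ?_⟩
    rw [rho_pol, RingEquiv.apply_symm_apply, RingEquiv.apply_symm_apply]
    intro e
    apply hab
    have := congrArg σZ e
    rwa [RingEquiv.apply_symm_apply, map_zero] at this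
  haveI : Fact (Nat.Prime 2) := ⟨Nat.prime_two⟩
  refine ⟨s, ?_, ?_, ?_⟩
  · -- the automorphism is not the identity
    intro hid
    have hs : ∀ w : F, w ^ 2 ^ s = w := by
      intro w
      have := congrArg (fun θ : F ≃+* F => θ w) hid
      have e2 : iterateFrobeniusEquiv F 2 s w = w := this
      rwa [iterateFrobeniusEquiv_def] at e2
    apply huv
    rw [hρ, hρ, hρ, hs, hs, hs, add_pow_char_pow]
    have h2 : (2 : F) = 0 := CharP.ofNat_eq_zero F 2
    linear_combination (u₀ ^ 2 ^ i * u₀ ^ 2 ^ i + v₀ ^ 2 ^ i * v₀ ^ 2 ^ i +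
      u₀ ^ 2 ^ i * v₀ ^ 2 ^ i) * h2
  · -- odd order
    apply odd_orderOf_iterFrob hF
    intro a b hab
    obtain ⟨a', rfl⟩ := (iterateFrobeniusEquiv F 2 i).surjective a
    obtain ⟨b', rfl⟩ := (iterateFrobeniusEquiv F 2 i).surjective b
    have hab' : iterateFrobeniusEquiv F 2 i a' * (iterateFrobeniusEquiv F 2 i a') ^ 2 ^ s =
        iterateFrobeniusEquiv F 2 i b' * (iterateFrobeniusEquiv F 2 i b') ^ 2 ^ s := hab
    rw [iterateFrobeniusEquiv_def, iterateFrobeniusEquiv_def, ← hρ, ← hρ] at hab'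
    rw [h.rho_injective hq hx₁ σV σZ hab']
  · -- the isomorphism
    haveI : Finite (tSub (frobHom F s)) := inferInstance
    obtain ⟨e⟩ := QExt.exists_iso (h.pQExt hq hx₁ σV σZ i s hρ) (tQExt (frobHom F s))
    exact ⟨e.trans (MulEquiv.subgroupCongr (suzukiTypeA_eq (frobHom F s)).symm)⟩

end Reg

end Cfsg.Agent.Lib.Helper3.Hig
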