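import Mathlib
import Cfsg.Agent.Lib.Helper3.Di1

set_option autoImplicit false

namespace Cfsg.Agent.Lib.Helper3.Homocyclic

open Cfsg.Agent.Lib.Helper3

/-- the elements of order at most two of `ZMod (2 ^ m)` -/
theorem zmod_two_torsion (m : ℕ) (hm : 1 ≤ m) (a : ZMod (2 ^ m)) (ha : 2 * a = 0) :
    a = 0 ∨ a = ((2 ^ (m - 1) : ℕ) : ZMod (2 ^ m)) := by
  by_cases h0 : a = 0
  · exact Or.inl h0
  right
  apply zmod_two_mul_unique a _ ha _ h0
  · intro hh
    rw [ZMod.natCast_eq_zero_iff] at hh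
    have h1 : 2 ^ m ≤ 2 ^ (m - 1) := Nat.le_of_dvd (by positivity) hh
    have h2 : 2 ^ (m - 1) < 2 ^ m := Nat.pow_lt_pow_right (by norm_num) (by omega)
    omega
  · have : (2 : ZMod (2 ^ m)) * ((2 ^ (m - 1) : ℕ) : ZMod (2 ^ m)) = ((2 ^ m : ℕ) : ZMod (2 ^ m)) := by
      have e : 2 ^ m = 2 * 2 ^ (m - 1) := by
        rw [← pow_succ']; congr 1; omega
      rw [e]; push_cast; ring
    rw [this]
    exact ZMod.natCast_self _

end Cfsg.Agent.Lib.Helper3.Homocyclic
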