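import Mathlib
import Cfsg.Agent.Lib.Helper3.S64a

set_option autoImplicit false

/-! # Groups of order 64 with a fixed-point-free automorphism of order three: class two -/

namespace Cfsg.Agent.Lib.Helper3.S64

open scoped commutatorElement

variable {T : Type*} [Group T]

theorem char_mem (H : Subgroup T) [hH : H.Characteristic] (φ : MulAut T) {n : T} (hn : n ∈ H) :
    φ n ∈ H := by
  have h1 := Subgroup.characteristic_iff_map_le.mp hH φ
  exact h1 (Subgroup.mem_map_of_mem _ hn)

/-- divisors of 64 congruent to one modulo three -/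
theorem card_cases {d : ℕ} (h1 : d ∣ 64) (h2 : d % 3 = 1) : d = 1 ∨ d = 4 ∨ d = 16 ∨ d = 64 := by
  have h64 : (64 : ℕ) = 2 ^ 6 := by norm_num
  rw [h64] at h1
  obtain ⟨k, hk, rfl⟩ := (Nat.dvd_prime_pow Nat.prime_two).mp h1
  interval_cases k <;> simp_all

namespace Fpf3

variable {ρ : MulAut T} [Finite T]

/-- no term of the upper central series has index four -/
theorem index_ucs_ne_four (h : Fpf3 ρ) (i : ℕ) :
    (Subgroup.upperCentralSeries T (i + 1)).index ≠ 4 := by
  intro h4
  obtain ⟨M, hM⟩ : ∃ M, M = Subgroup.upperCentralSeries T (i + 1) := ⟨_, rfl⟩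
  obtain ⟨K, hK⟩ : ∃ K, K = Subgroup.upperCentralSeries T i := ⟨_, rfl⟩
  rw [← hM] at h4
  have hMc : M.Characteristic := by rw [hM]; infer_instance
  have hKc : K.Characteristic := by rw [hK]; infer_instance
  have hMρ : ∀ n ∈ M, ρ n ∈ M := fun n hn => char_mem M ρ hn
  have hKn : K.Normal := inferInstance
  -- an element outside `M`
  have hMtop : M ≠ ⊤ := by
    intro htop
    rw [htop, Subgroup.index_top] at h4
    omega
  obtain ⟨a, ha⟩ : ∃ a : T, a ∉ M := by
    by_contra hcon
    push Not at hcon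
    exact hMtop (Subgroup.eq_top_iff' M |>.mpr hcon)
  have hρa : ρ a ∉ M := by
    intro hc
    have h1 := hMρ _ (hMρ _ hc)
    rw [h.cube] at h1
    exact ha h1
  -- the centralizer of `a` modulo `K`
  let S : Subgroup T :=
    (Subgroup.centralizer {(QuotientGroup.mk a : T ⧸ K)}).comap (QuotientGroup.mk' K)
  have hS : ∀ g : T, g ∈ S ↔ a * g * a⁻¹ * g⁻¹ ∈ K := by
    intro g
    show (QuotientGroup.mk g : T ⧸ K) ∈ Subgroup.centralizer {(QuotientGroup.mk a : T ⧸ K)} ↔ _
    rw [Subgroup.mem_centralizer_singleton_iff]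
    rw [← QuotientGroup.mk_mul, ← QuotientGroup.mk_mul, QuotientGroup.eq]
    constructor
    · intro h1
      have h2 : a * g * a⁻¹ * g⁻¹ = (g * a) * ((g * a)⁻¹ * (a * g)) * (g * a)⁻¹ := by group
      rw [h2]
      exact hKn.conj_mem _ h1 (g * a)
    · intro h1
      have h2 : (g * a)⁻¹ * (a * g) = (g * a)⁻¹ * (a * g * a⁻¹ * g⁻¹) * (g * a)⁻¹⁻¹ := by group
      rw [h2]
      exact hKn.conj_mem _ h1 (g * a)⁻¹
  have hMS : M ≤ S := by
    intro m hm
    rw [hS]
    have h1 := (Subgroup.mem_upperCentralSeries_succ_iff (n := i)).mp (hM ▸ hm) a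
    rw [← hK] at h1
    have h2 : a * m * a⁻¹ * m⁻¹ = (m * a * m⁻¹ * a⁻¹)⁻¹ := by group
    rw [h2]
    exact K.inv_mem h1
  have haS : a ∈ S := by
    rw [hS]
    have : a * a * a⁻¹ * a⁻¹ = 1 := by group
    rw [this]; exact K.one_mem
  have hρaS : ρ a ∈ S := by
    rw [hS]
    have h1 := h.comm a
    have : a * ρ a * a⁻¹ * (ρ a)⁻¹ = 1 := by
      rw [h1]; group
    rw [this]; exact K.one_mem
  -- the relative index of `M` in `S`
  have hdvd : M.relIndex S ∣ 4 := by
    rw [← h4]; exact Subgroup.relIndex_dvd_index_of_le hMS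
  have hmul := Subgroup.relIndex_mul_index hMS
  rw [h4] at hmul
  have hle : M.relIndex S ≤ 4 := Nat.le_of_dvd (by norm_num) hdvd
  have hr1 : M.relIndex S ≠ 1 := by
    intro h1
    have := Subgroup.relIndex_eq_one.mp h1
    exact ha (this haS)
  have hr2 : M.relIndex S ≠ 2 := by
    intro h2
    have h3 : (M.subgroupOf S).index = 2 := h2
    have h4' := Subgroup.mul_mem_iff_of_index_two h3 (a := ⟨a, haS⟩) (b := ⟨ρ a, hρaS⟩)
    have h5 : a * ρ a ∈ M := by
      have : (⟨a, haS⟩ : S) * ⟨ρ a, hρaS⟩ ∈ M.subgroupOf S := by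
        rw [h4']
        simp only [Subgroup.mem_subgroupOf]
        exact ⟨fun hc => absurd hc ha, fun hc => absurd hc hρa⟩
      simpa [Subgroup.mem_subgroupOf] using this
    have h6 : ρ (ρ a) ∈ M := by
      rw [h.rho_sq_eq]; exact M.inv_mem h5
    have h7 := hMρ _ h6
    rw [h.cube] at h7
    exact ha h7
  have hr0 : M.relIndex S ≠ 0 := by
    intro h0; rw [h0] at hdvd; omega
  have hr3 : M.relIndex S ≠ 3 := by
    intro h3; rw [h3] at hdvd; omega
  have hr4 : M.relIndex S = 4 := by omega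
  rw [hr4] at hmul
  have hSi : S.index = 1 := by omega
  have hStop : S = ⊤ := Subgroup.index_eq_one.mp hSi
  apply ha
  rw [hM, Subgroup.mem_upperCentralSeries_succ_iff]
  intro g
  have := (hS g).mp (hStop ▸ Subgroup.mem_top g)
  rw [← hK]
  exact this

end Fpf3

end Cfsg.Agent.Lib.Helper3.S64
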