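import Mathlib
import Cfsg.Agent.Lib.Helper3.S64b

set_option autoImplicit false

/-! # Groups of order 64 with a fixed-point-free automorphism of order three: structure -/

namespace Cfsg.Agent.Lib.Helper3.S64

open scoped commutatorElement

variable {T : Type*} [Group T]

/-- the hypotheses -/
structure Hyp (ρ : MulAut T) : Prop where
  card : Nat.card T = 64
  nonab : ∃ a b : T, a * b ≠ b * a
  fpf : Fpf3 ρ

namespace Hyp

variable {ρ : MulAut T}

theorem finite (h : Hyp ρ) : Finite T := by
  apply Nat.finite_of_card_ne_zero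
  rw [h.card]; norm_num

theorem isPGroup (h : Hyp ρ) : IsPGroup 2 T := by
  have := h.finite
  exact IsPGroup.of_card (n := 6) (by rw [h.card]; norm_num)

/-- invariant subgroups have order 1, 4, 16 or 64 -/
theorem card_inv (h : Hyp ρ) (N : Subgroup T) (hN : ∀ n ∈ N, ρ n ∈ N) :
    Nat.card N = 1 ∨ Nat.card N = 4 ∨ Nat.card N = 16 ∨ Nat.card N = 64 := by
  have := h.finite
  apply card_cases
  · rw [← h.card]; exact Subgroup.card_subgroup_dvd_card N
  · exact h.fpf.card_mod N hN

theorem card_ucs (h : Hyp ρ) (i : ℕ) :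
    Nat.card (Subgroup.upperCentralSeries T i) = 1 ∨ Nat.card (Subgroup.upperCentralSeries T i) = 4 ∨
      Nat.card (Subgroup.upperCentralSeries T i) = 64 := by
  have := h.finite
  rcases h.card_inv (Subgroup.upperCentralSeries T i) (fun n hn => char_mem _ ρ hn) with
    h1 | h1 | h1 | h1
  · exact Or.inl h1
  · exact Or.inr (Or.inl h1)
  · exfalso
    cases i with
    | zero =>
      rw [Subgroup.upperCentralSeries_zero, Subgroup.card_bot] at h1
      omega
    | succ i =>
      apply h.fpf.index_ucs_ne_four i
      have h2 := Subgroup.card_mul_index (Subgroup.upperCentralSeries T (i + 1))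
      rw [h1, h.card] at h2
      omega
  · exact Or.inr (Or.inr h1)

theorem center_ne_top (h : Hyp ρ) : Subgroup.center T ≠ ⊤ := by
  intro htop
  obtain ⟨a, b, hab⟩ := h.nonab
  have ha : a ∈ Subgroup.center T := htop ▸ Subgroup.mem_top a
  exact hab (Subgroup.mem_center_iff.mp ha b).symm

theorem card_center (h : Hyp ρ) : Nat.card (Subgroup.center T) = 4 := by
  have := h.finite
  have h1 := h.card_ucs 1
  rw [Subgroup.upperCentralSeries_one] at h1
  rcases h1 with h1 | h1 | h1
  · exfalso
    have : Fact (Nat.Prime 2) := ⟨Nat.prime_two⟩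
    have hnt : Nontrivial T := by
      obtain ⟨a, b, hab⟩ := h.nonab
      exact ⟨⟨a * b, b * a, hab⟩⟩
    have := h.isPGroup.center_nontrivial
    rw [← Finite.one_lt_card_iff_nontrivial] at this
    omega
  · exact h1
  · exfalso
    apply h.center_ne_top
    apply Subgroup.eq_top_of_card_eq
    rw [h1, h.card]

/-- the group has class two -/
theorem ucs_two (h : Hyp ρ) : Subgroup.upperCentralSeries T 2 = ⊤ := by
  have := h.finite
  have hle : Subgroup.upperCentralSeries T 1 ≤ Subgroup.upperCentralSeries T 2 :=
    Subgroup.upperCentralSeries_mono T (by norm_num)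
  have hc1 : Nat.card (Subgroup.upperCentralSeries T 1) = 4 := by
    rw [Subgroup.upperCentralSeries_one]; exact h.card_center
  rcases h.card_ucs 2 with h1 | h1 | h1
  · exfalso
    have := Subgroup.card_le_of_le hle
    omega
  · exfalso
    have heq : Subgroup.upperCentralSeries T 1 = Subgroup.upperCentralSeries T 2 :=
      Subgroup.eq_of_le_of_card_ge hle (by rw [hc1, h1])
    have hall : ∀ n : ℕ, Subgroup.upperCentralSeries T (n + 1) = Subgroup.upperCentralSeries T 1 := by
      intro n
      induction n with
      | zero => rfl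
      | succ n ih =>
        ext x
        constructor
        · intro hx
          rw [heq, show (2 : ℕ) = 1 + 1 from rfl, Subgroup.mem_upperCentralSeries_succ_iff]
          intro y
          have := (Subgroup.mem_upperCentralSeries_succ_iff.mp hx) y
          rwa [ih] at this
        · intro hx
          rw [Subgroup.mem_upperCentralSeries_succ_iff]
          intro y
          rw [ih]
          rw [heq, show (2 : ℕ) = 1 + 1 from rfl, Subgroup.mem_upperCentralSeries_succ_iff] at hx
          exact hx y
    have : Fact (Nat.Prime 2) := ⟨Nat.prime_two⟩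
    have hnil : Group.IsNilpotent T := h.isPGroup.isNilpotent
    obtain ⟨n, hn⟩ := hnil.nilpotent'
    have hn' : Subgroup.upperCentralSeries T (n + 1) = ⊤ := by
      apply top_le_iff.mp
      rw [← hn]
      exact Subgroup.upperCentralSeries_mono T (by omega)
    rw [hall n, Subgroup.upperCentralSeries_one] at hn'
    exact h.center_ne_top hn'
  · apply Subgroup.eq_top_of_card_eq
    rw [h1, h.card]

theorem comm_mem_center (h : Hyp ρ) (x y : T) : ⁅x, y⁆ ∈ Subgroup.center T := by
  have h1 : x ∈ Subgroup.upperCentralSeries T 2 := h.ucs_two ▸ Subgroup.mem_top x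
  rw [show (2 : ℕ) = 1 + 1 from rfl, Subgroup.mem_upperCentralSeries_succ_iff] at h1
  have := h1 y
  rw [Subgroup.upperCentralSeries_one] at this
  rw [commutatorElement_def]
  exact this

/-- the centre has exponent two -/
theorem center_sq (h : Hyp ρ) (z : T) (hz : z ∈ Subgroup.center T) : z ^ 2 = 1 := by
  have := h.finite
  let Om : Subgroup T :=
    { carrier := {z | z ∈ Subgroup.center T ∧ z ^ 2 = 1}
      one_mem' := ⟨Subgroup.one_mem _, one_pow 2⟩
      mul_mem' := by
        rintro a b ⟨ha, ha2⟩ ⟨hb, hb2⟩
        refine ⟨Subgroup.mul_mem _ ha hb, ?_⟩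
        have hc : Commute a b := Subgroup.mem_center_iff.mp hb a
        rw [hc.mul_pow, ha2, hb2, one_mul]
      inv_mem' := by
        rintro a ⟨ha, ha2⟩
        exact ⟨Subgroup.inv_mem _ ha, by rw [inv_pow, ha2, inv_one]⟩ }
  have hOmle : Om ≤ Subgroup.center T := fun a ha => ha.1
  have hOmρ : ∀ n ∈ Om, ρ n ∈ Om := by
    rintro n ⟨hn, hn2⟩
    exact ⟨char_mem _ ρ hn, by rw [← map_pow, hn2, map_one]⟩
  have hcard := h.card_inv Om hOmρ
  have hle := Subgroup.card_le_of_le hOmle
  rw [h.card_center] at hle
  have hne1 : Nat.card Om ≠ 1 := by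
    intro h1
    have h2 : (2 : ℕ) ∣ Nat.card (Subgroup.center T) := by rw [h.card_center]; norm_num
    have : Fact (Nat.Prime 2) := ⟨Nat.prime_two⟩
    obtain ⟨w, hw⟩ := exists_prime_orderOf_dvd_card' 2 h2
    have hw2 : (w : T) ^ 2 = 1 := by
      have := pow_orderOf_eq_one w
      rw [hw] at this
      have := congrArg Subtype.val this
      simpa using this
    have hwOm : (w : T) ∈ Om := ⟨w.2, hw2⟩
    have hOmbot : Om = ⊥ := Subgroup.card_eq_one.mp h1
    rw [hOmbot, Subgroup.mem_bot] at hwOm
    have : w = 1 := Subtype.ext hwOm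
    rw [this, orderOf_one] at hw
    omega
  have h4 : Nat.card Om = 4 := by omega
  have heq : Om = Subgroup.center T :=
    Subgroup.eq_of_le_of_card_ge hOmle (by rw [h4, h.card_center])
  have : z ∈ Om := heq ▸ hz
  exact this.2

end Hyp

end Cfsg.Agent.Lib.Helper3.S64
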