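import Mathlib
import Cfsg.Agent.Lib.Helper3.S64c

set_option autoImplicit false

/-! # Groups of order 64 with a fixed-point-free automorphism of order three: squares are central -/

namespace Cfsg.Agent.Lib.Helper3.S64

open scoped commutatorElement

variable {T : Type*} [Group T]

namespace Hyp

variable {ρ : MulAut T}

/-- a commutative invariant subgroup is proper -/
theorem comm_ne_top (h : Hyp ρ) (K : Subgroup T) (hK : ∀ a ∈ K, ∀ b ∈ K, a * b = b * a) :
    K ≠ ⊤ := by
  intro htop
  obtain ⟨a, b, hab⟩ := h.nonab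
  exact hab (hK a (htop ▸ Subgroup.mem_top a) b (htop ▸ Subgroup.mem_top b))

theorem sq_mem_center (h : Hyp ρ) (y : T) : y ^ 2 ∈ Subgroup.center T := by
  have hfin := h.finite
  obtain ⟨gens, hgens⟩ : ∃ gens : Set T, gens = {y, ρ y} ∪ (Subgroup.center T : Set T) := ⟨_, rfl⟩
  have hcomm : ∀ a ∈ gens, ∀ b ∈ gens, a * b = b * a := by
    intro a ha b hb
    rw [hgens] at ha hb
    rcases ha with ha | ha
    · rcases hb with hb | hb
      · rcases ha with rfl | ha
        · rcases hb with rfl | hb
          · rfl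
          · rw [Set.mem_singleton_iff] at hb; rw [hb]; exact h.fpf.comm a
        · rw [Set.mem_singleton_iff] at ha
          rcases hb with rfl | hb
          · rw [ha]; exact (h.fpf.comm b).symm
          · rw [Set.mem_singleton_iff] at hb; rw [ha, hb]
      · exact Subgroup.mem_center_iff.mp hb a
    · exact (Subgroup.mem_center_iff.mp ha b).symm
  obtain ⟨K, hKdef⟩ : ∃ K : Subgroup T, K = Subgroup.closure gens := ⟨_, rfl⟩
  have hKcomm : ∀ a ∈ K, ∀ b ∈ K, a * b = b * a := by
    intro a ha b hb
    rw [hKdef] at ha hb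
    have := (Subgroup.isMulCommutative_closure hcomm).is_comm.comm ⟨a, ha⟩ ⟨b, hb⟩
    exact congrArg Subtype.val this
  have hyK : y ∈ K := by
    rw [hKdef]; apply Subgroup.subset_closure; rw [hgens]; left; left; rfl
  have hρyK : ρ y ∈ K := by
    rw [hKdef]; apply Subgroup.subset_closure; rw [hgens]; left; right; rfl
  have hZK : Subgroup.center T ≤ K := by
    intro z hz
    rw [hKdef]; apply Subgroup.subset_closure; rw [hgens]; right; exact hz
  have hKρ : ∀ k ∈ K, ρ k ∈ K := by
    intro k hk
    rw [hKdef] at hk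
    induction hk using Subgroup.closure_induction with
    | mem x hx =>
      rw [hgens] at hx
      rcases hx with hx | hx
      · rcases hx with rfl | hx
        · exact hρyK
        · rw [Set.mem_singleton_iff] at hx
          rw [hx, h.fpf.rho_sq_eq]
          exact K.inv_mem (K.mul_mem hyK hρyK)
      · exact hZK (char_mem _ ρ hx)
    | one => rw [map_one]; exact K.one_mem
    | mul a b _ _ iha ihb => rw [map_mul]; exact K.mul_mem iha ihb
    | inv a _ iha => rw [map_inv]; exact K.inv_mem iha
  have hKtop := h.comm_ne_top K hKcomm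
  have hKcard := h.card_inv K hKρ
  have hZle := Subgroup.card_le_of_le hZK
  rw [h.card_center] at hZle
  have hK64 : Nat.card K ≠ 64 := by
    intro h64
    exact hKtop (Subgroup.eq_top_of_card_eq K (by rw [h64, h.card]))
  have hK416 : Nat.card K = 4 ∨ Nat.card K = 16 := by omega
  rcases hK416 with hK4 | hK16
  · -- `K` is the centre
    have heq : Subgroup.center T = K :=
      Subgroup.eq_of_le_of_card_ge hZK (by rw [hK4, h.card_center])
    have hyZ : y ∈ Subgroup.center T := heq ▸ hyK
    rw [h.center_sq y hyZ]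
    exact Subgroup.one_mem _
  · -- the squaring map on `K`
    let f : K →* T := MonoidHom.mk' (fun k => (k : T) ^ 2) (by
      intro a b
      have hc : Commute (a : T) (b : T) := hKcomm a a.2 b b.2
      show ((a * b : K) : T) ^ 2 = (a : T) ^ 2 * (b : T) ^ 2
      rw [Subgroup.coe_mul, hc.mul_pow])
    have hf : ∀ k : K, f k = (k : T) ^ 2 := fun k => rfl
    obtain ⟨Om, hOm⟩ : ∃ Om : Subgroup T, Om = f.ker.map K.subtype := ⟨_, rfl⟩
    obtain ⟨I, hI⟩ : ∃ I : Subgroup T, I = f.range := ⟨_, rfl⟩
    have hmemOm : ∀ k : T, k ∈ Om ↔ k ∈ K ∧ k ^ 2 = 1 := by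
      intro k
      rw [hOm, Subgroup.mem_map]
      constructor
      · rintro ⟨k', hk', rfl⟩
        refine ⟨k'.2, ?_⟩
        rw [MonoidHom.mem_ker, hf] at hk'
        exact hk'
      · rintro ⟨hk, hk2⟩
        exact ⟨⟨k, hk⟩, by rw [MonoidHom.mem_ker, hf]; exact hk2, rfl⟩
    have hmemI : ∀ w : T, w ∈ I ↔ ∃ k ∈ K, k ^ 2 = w := by
      intro w
      rw [hI, MonoidHom.mem_range]
      constructor
      · rintro ⟨k, rfl⟩; exact ⟨k, k.2, rfl⟩
      · rintro ⟨k, hk, rfl⟩; exact ⟨⟨k, hk⟩, rfl⟩
    have hcardmul : Nat.card Om * Nat.card I = 16 := by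
      have h1 := Subgroup.card_mul_index f.ker
      rw [Subgroup.index_ker, hK16] at h1
      rw [hOm, hI, Subgroup.card_map_of_injective (Subgroup.subtype_injective K)]
      exact h1
    have hOmρ : ∀ n ∈ Om, ρ n ∈ Om := by
      intro n hn
      rw [hmemOm] at hn ⊢
      exact ⟨hKρ _ hn.1, by rw [← map_pow, hn.2, map_one]⟩
    have hIρ : ∀ n ∈ I, ρ n ∈ I := by
      intro n hn
      rw [hmemI] at hn ⊢
      obtain ⟨k, hk, rfl⟩ := hn
      exact ⟨ρ k, hKρ _ hk, by rw [map_pow]⟩
    have hZOm : Subgroup.center T ≤ Om := by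
      intro z hz
      rw [hmemOm]
      exact ⟨hZK hz, h.center_sq z hz⟩
    have hOmcard := h.card_inv Om hOmρ
    have hIcard := h.card_inv I hIρ
    have hZOmle := Subgroup.card_le_of_le hZOm
    rw [h.card_center] at hZOmle
    have hy2I : y ^ 2 ∈ I := (hmemI _).mpr ⟨y, hyK, rfl⟩
    have hcases : (Nat.card Om = 16 ∧ Nat.card I = 1) ∨ (Nat.card Om = 4 ∧ Nat.card I = 4) := by
      rcases hOmcard with h1 | h1 | h1 | h1 <;> rcases hIcard with h2 | h2 | h2 | h2 <;>
        rw [h1, h2] at hcardmul <;> omega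
    rcases hcases with ⟨-, hI1⟩ | ⟨hOm4, hI4⟩
    · have hIbot : I = ⊥ := Subgroup.card_eq_one.mp hI1
      rw [hIbot, Subgroup.mem_bot] at hy2I
      rw [hy2I]; exact Subgroup.one_mem _
    · have hOmZ : Subgroup.center T = Om :=
        Subgroup.eq_of_le_of_card_ge hZOm (by rw [hOm4, h.card_center])
      -- an involution in `I`
      have h2 : (2 : ℕ) ∣ Nat.card I := by rw [hI4]; norm_num
      have : Fact (Nat.Prime 2) := ⟨Nat.prime_two⟩
      obtain ⟨w, hw⟩ := exists_prime_orderOf_dvd_card' 2 h2
      have hw2 : (w : T) ^ 2 = 1 := by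
        have := pow_orderOf_eq_one w
        rw [hw] at this
        have := congrArg Subtype.val this
        simpa using this
      have hw1 : (w : T) ≠ 1 := by
        intro h1
        have : w = 1 := Subtype.ext h1
        rw [this, orderOf_one] at hw
        omega
      have hwK : (w : T) ∈ K := by
        obtain ⟨k, hk, hkw⟩ := (hmemI _).mp w.2
        rw [← hkw]; exact K.pow_mem hk 2
      have hwZ : (w : T) ∈ Subgroup.center T := by
        rw [hOmZ, hmemOm]; exact ⟨hwK, hw2⟩
      have hIZρ : ∀ n ∈ I ⊓ Subgroup.center T, ρ n ∈ I ⊓ Subgroup.center T :=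
        fun n hn => ⟨hIρ _ hn.1, char_mem _ ρ hn.2⟩
      have hIZcard := h.card_inv _ hIZρ
      have hIZle := Subgroup.card_le_of_le (inf_le_left : I ⊓ Subgroup.center T ≤ I)
      rw [hI4] at hIZle
      have hIZne : Nat.card (I ⊓ Subgroup.center T : Subgroup T) ≠ 1 := by
        intro h1
        have hbot := Subgroup.card_eq_one.mp h1
        have : (w : T) ∈ (I ⊓ Subgroup.center T : Subgroup T) := ⟨w.2, hwZ⟩
        rw [hbot, Subgroup.mem_bot] at this
        exact hw1 this
      have hIZ4 : Nat.card (I ⊓ Subgroup.center T : Subgroup T) = 4 := by omega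
      have heq : (I ⊓ Subgroup.center T : Subgroup T) = I :=
        Subgroup.eq_of_le_of_card_ge inf_le_left (by rw [hIZ4, hI4])
      have : y ^ 2 ∈ (I ⊓ Subgroup.center T : Subgroup T) := by rw [heq]; exact hy2I
      exact this.2

end Hyp

end Cfsg.Agent.Lib.Helper3.S64
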