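import Mathlib

set_option autoImplicit false

/-! # Groups in which all squares are central: commutator calculus and index tools -/

namespace Cfsg.Agent.Lib.Helper3.ThreeInv

open scoped commutatorElement

section index

variable {H : Type*} [Group H]

/-- a subgroup all of whose outside elements lie in one coset has relative index at most two -/
theorem relIndex_le_two (K G : Subgroup H)
    (h : ∀ a ∈ G, ∀ b ∈ G, a ∉ K → b ∉ K → a⁻¹ * b ∈ K) : K.relIndex G ≤ 2 := by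
  by_cases hGK : G ≤ K
  · rw [Subgroup.relIndex_eq_one.mpr hGK]
    norm_num
  · obtain ⟨a, haG, haK⟩ := SetLike.not_le_iff_exists.mp hGK
    have : K.relIndex G = 2 := by
      rw [Subgroup.relIndex_eq_two_iff_exists_notMem_and]
      refine ⟨a⁻¹, G.inv_mem haG, fun hc => haK (by simpa using K.inv_mem hc), ?_⟩
      intro b hb
      by_cases hbK : b ∈ K
      · exact Or.inr hbK
      · left
        have hbi : b⁻¹ ∉ K := fun hc => hbK (by simpa using K.inv_mem hc)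
        have hai : a⁻¹ ∉ K := fun hc => haK (by simpa using K.inv_mem hc)
        have := h b⁻¹ (G.inv_mem hb) a⁻¹ (G.inv_mem haG) hbi hai
        simpa using this
    rw [this]

/-- the index of a subgroup is bounded by the size of a set separating its cosets -/
theorem index_le_card_of_fiber (K : Subgroup H) {T : Type*} [Finite T] (s : H → T)
    (hs : ∀ a b, s a = s b → a⁻¹ * b ∈ K) : K.index ≤ Nat.card T := by
  rw [Subgroup.index_eq_card]
  apply Nat.card_le_card_of_injective (fun q : H ⧸ K => s q.out)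
  intro q q' hq
  have h1 := hs _ _ hq
  rw [← QuotientGroup.eq] at h1
  rw [QuotientGroup.out_eq', QuotientGroup.out_eq'] at h1
  exact h1

/-- relative version -/
theorem relIndex_le_card_of_fiber (K G : Subgroup H) {T : Type*} [Finite T] (s : H → T)
    (hs : ∀ a ∈ G, ∀ b ∈ G, s a = s b → a⁻¹ * b ∈ K) : K.relIndex G ≤ Nat.card T := by
  apply index_le_card_of_fiber (K.subgroupOf G) (fun g : ↥G => s g)
  intro a b hab
  rw [Subgroup.mem_subgroupOf]
  exact hs a a.2 b b.2 hab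

theorem relIndex_le_of_steps (A B C : Subgroup H) (hAB : A ≤ B) (hBC : B ≤ C) {m n : ℕ}
    (h1 : A.relIndex B ≤ m) (h2 : B.relIndex C ≤ n) : A.relIndex C ≤ m * n := by
  rw [← Subgroup.relIndex_mul_relIndex A B C hAB hBC]
  exact Nat.mul_le_mul h1 h2

end index

section cfg

variable {H : Type*} [Group H]

/-- all squares are central, and so are all elements of order at most two -/
structure Cfg (H : Type*) [Group H] : Prop where
  sq_mem : ∀ x : H, x ^ 2 ∈ Subgroup.center H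
  inv_mem : ∀ x : H, x ^ 2 = 1 → x ∈ Subgroup.center H


theorem Cfg.comm_mem (c : Cfg H) (x y : H) : ⁅x, y⁆ ∈ Subgroup.center H := by
  have e : ⁅x, y⁆ = (x * y) ^ 2 * ((x ^ 2)⁻¹ * (y ^ 2)⁻¹) := by
    have h1 := Subgroup.mem_center_iff.mp (c.sq_mem x)
    rw [commutatorElement_def]
    have h2 : y⁻¹ * (x ^ 2)⁻¹ = (x ^ 2)⁻¹ * y⁻¹ := by
      have := h1 y
      calc y⁻¹ * (x ^ 2)⁻¹ = (x ^ 2 * y)⁻¹ := by group
        _ = (y * x ^ 2)⁻¹ := by rw [this]
        _ = (x ^ 2)⁻¹ * y⁻¹ := by group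
    calc x * y * x⁻¹ * y⁻¹ = x * y * x * (y * (y⁻¹ * (x ^ 2)⁻¹) * y⁻¹) := by group
      _ = x * y * x * (y * ((x ^ 2)⁻¹ * y⁻¹) * y⁻¹) := by rw [h2]
      _ = (x * y) ^ 2 * ((x ^ 2)⁻¹ * (y ^ 2)⁻¹) := by rw [pow_two (x * y)]; group
  rw [e]
  exact Subgroup.mul_mem _ (c.sq_mem _)
    (Subgroup.mul_mem _ (Subgroup.inv_mem _ (c.sq_mem x)) (Subgroup.inv_mem _ (c.sq_mem y)))

theorem Cfg.comm_comm (c : Cfg H) (x y g : H) : g * ⁅x, y⁆ = ⁅x, y⁆ * g :=
  Subgroup.mem_center_iff.mp (c.comm_mem x y) g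

theorem Cfg.comm_mul_left (c : Cfg H) (x y z : H) : ⁅x * y, z⁆ = ⁅x, z⁆ * ⁅y, z⁆ := by
  have e : ⁅x * y, z⁆ = x * ⁅y, z⁆ * x⁻¹ * ⁅x, z⁆ := by
    simp only [commutatorElement_def]; group
  rw [e, c.comm_comm y z x, mul_assoc ⁅y, z⁆, mul_inv_cancel, mul_one, ← c.comm_comm x z]

theorem Cfg.comm_mul_right (c : Cfg H) (x y z : H) : ⁅x, y * z⁆ = ⁅x, y⁆ * ⁅x, z⁆ := by
  have e : ⁅x, y * z⁆ = ⁅x, y⁆ * (y * ⁅x, z⁆ * y⁻¹) := by
    simp only [commutatorElement_def]; group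
  rw [e, c.comm_comm x z y, mul_assoc ⁅x, z⁆, mul_inv_cancel, mul_one]

theorem commElt_self (x : H) : ⁅x, x⁆ = 1 := by
  rw [commutatorElement_def]; group

theorem commElt_one_left (y : H) : ⁅(1 : H), y⁆ = 1 := by
  rw [commutatorElement_def]; group

theorem commElt_one_right (x : H) : ⁅x, (1 : H)⁆ = 1 := by
  rw [commutatorElement_def]; group

theorem commElt_of_central_left {z : H} (hz : z ∈ Subgroup.center H) (y : H) : ⁅z, y⁆ = 1 := by
  rw [commutatorElement_def, ← Subgroup.mem_center_iff.mp hz y]; group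

theorem commElt_of_central_right {z : H} (hz : z ∈ Subgroup.center H) (x : H) : ⁅x, z⁆ = 1 := by
  rw [commutatorElement_def, Subgroup.mem_center_iff.mp hz x]; group

theorem Cfg.comm_sq (c : Cfg H) (x y : H) : ⁅x, y⁆ ^ 2 = 1 := by
  rw [pow_two, ← c.comm_mul_left, ← pow_two]
  exact commElt_of_central_left (c.sq_mem x) y

theorem Cfg.comm_inv (c : Cfg H) (x y : H) : ⁅x, y⁆⁻¹ = ⁅x, y⁆ := by
  have := c.comm_sq x y
  rw [pow_two] at this
  exact inv_eq_of_mul_eq_one_right this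

theorem Cfg.comm_symm (c : Cfg H) (x y : H) : ⁅y, x⁆ = ⁅x, y⁆ := by
  rw [← commutatorElement_inv, c.comm_inv]

theorem Cfg.comm_inv_left (c : Cfg H) (x y : H) : ⁅x⁻¹, y⁆ = ⁅x, y⁆ := by
  have h := c.comm_mul_left x⁻¹ x y
  rw [inv_mul_cancel, commElt_one_left] at h
  have h2 : ⁅x⁻¹, y⁆ = ⁅x, y⁆⁻¹ := eq_inv_of_mul_eq_one_left h.symm
  rw [h2, c.comm_inv]

theorem Cfg.comm_inv_right (c : Cfg H) (x y : H) : ⁅x, y⁻¹⁆ = ⁅x, y⁆ := by
  rw [c.comm_symm y⁻¹ x, c.comm_inv_left, c.comm_symm]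

theorem commElt_eq_one_iff (x y : H) : ⁅x, y⁆ = 1 ↔ x * y = y * x :=
  commutatorElement_eq_one_iff_mul_comm

theorem Cfg.mul_sq (c : Cfg H) (x y : H) : (x * y) ^ 2 = x ^ 2 * y ^ 2 * ⁅x, y⁆ := by
  have h : y * x = ⁅y, x⁆ * (x * y) := by
    rw [commutatorElement_def]; group
  calc (x * y) ^ 2 = x * (y * x) * y := by rw [pow_two]; group
    _ = x * (⁅y, x⁆ * (x * y)) * y := by rw [h]
    _ = x * ((x * y) * ⁅y, x⁆) * y := by rw [c.comm_comm y x (x * y)]
    _ = x * x * y * (⁅y, x⁆ * y) := by group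
    _ = x * x * y * (y * ⁅y, x⁆) := by rw [c.comm_comm y x y]
    _ = x ^ 2 * y ^ 2 * ⁅x, y⁆ := by rw [c.comm_symm x y, pow_two, pow_two]; group

theorem Cfg.sq_comm (c : Cfg H) (x g : H) : g * x ^ 2 = x ^ 2 * g :=
  Subgroup.mem_center_iff.mp (c.sq_mem x) g

theorem inv_sq' (x : H) : (x⁻¹) ^ 2 = (x ^ 2)⁻¹ := by group

/-- an automorphism preserves commutators -/
theorem map_commElt (α : MulAut H) (x y : H) : α ⁅x, y⁆ = ⁅α x, α y⁆ := by
  simp only [commutatorElement_def, map_mul, map_inv]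

/-- the elements of order at most two -/
def Cfg.Om (c : Cfg H) : Subgroup H where
  carrier := {x | x ^ 2 = 1}
  one_mem' := one_pow 2
  mul_mem' := by
    intro a b ha hb
    have ha' : a ^ 2 = 1 := ha
    have hb' : b ^ 2 = 1 := hb
    show (a * b) ^ 2 = 1
    rw [c.mul_sq, ha', hb', one_mul, one_mul]
    exact commElt_of_central_left (c.inv_mem a ha') b
  inv_mem' := by
    intro a ha
    have ha' : a ^ 2 = 1 := ha
    show (a⁻¹) ^ 2 = 1
    rw [inv_sq', ha', inv_one]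

theorem Cfg.mem_Om (c : Cfg H) (x : H) : x ∈ c.Om ↔ x ^ 2 = 1 := Iff.rfl

theorem Cfg.Om_le (c : Cfg H) : c.Om ≤ Subgroup.center H := fun x hx => c.inv_mem x hx

theorem Cfg.comm_mem_Om (c : Cfg H) (x y : H) : ⁅x, y⁆ ∈ c.Om := c.comm_sq x y

/-- the squares of the central elements -/
def Cfg.Zsq (c : Cfg H) : Subgroup H where
  carrier := {y | ∃ z ∈ Subgroup.center H, z ^ 2 = y}
  one_mem' := ⟨1, Subgroup.one_mem _, one_pow 2⟩
  mul_mem' := by
    rintro a b ⟨z, hz, rfl⟩ ⟨w, hw, rfl⟩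
    refine ⟨z * w, Subgroup.mul_mem _ hz hw, ?_⟩
    rw [c.mul_sq, commElt_of_central_left hz, mul_one]
  inv_mem' := by
    rintro a ⟨z, hz, rfl⟩
    exact ⟨z⁻¹, Subgroup.inv_mem _ hz, inv_sq' z⟩

theorem Cfg.mem_Zsq (c : Cfg H) (y : H) : y ∈ c.Zsq ↔ ∃ z ∈ Subgroup.center H, z ^ 2 = y := Iff.rfl

theorem Cfg.Zsq_le (c : Cfg H) : c.Zsq ≤ Subgroup.center H := by
  rintro y ⟨z, _, rfl⟩
  exact c.sq_mem z

/-- anisotropy: an element whose square is the square of a central element is central -/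
theorem Cfg.mem_center_of_sq_mem_Zsq (c : Cfg H) (x : H) (hx : x ^ 2 ∈ c.Zsq) :
    x ∈ Subgroup.center H := by
  obtain ⟨z, hz, hzx⟩ := hx
  have h1 : (x * z⁻¹) ^ 2 = 1 := by
    rw [c.mul_sq, commElt_of_central_right (Subgroup.inv_mem _ hz), mul_one, inv_sq', hzx,
      mul_inv_cancel]
  have h2 := c.inv_mem _ h1
  have : x = x * z⁻¹ * z := by group
  rw [this]
  exact Subgroup.mul_mem _ h2 hz

theorem Cfg.map_mem_Zsq (c : Cfg H) (α : MulAut H) (y : H) (hy : y ∈ c.Zsq) : α y ∈ c.Zsq := by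
  obtain ⟨z, hz, rfl⟩ := hy
  refine ⟨α z, ?_, by rw [map_pow]⟩
  rw [Subgroup.mem_center_iff] at hz ⊢
  intro g
  have := hz (α.symm g)
  have h2 := congrArg α this
  rw [map_mul, map_mul, MulEquiv.apply_symm_apply] at h2
  exact h2

theorem map_mem_center (α : MulAut H) (z : H) (hz : z ∈ Subgroup.center H) :
    α z ∈ Subgroup.center H := by
  rw [Subgroup.mem_center_iff] at hz ⊢
  intro g
  have := hz (α.symm g)
  have h2 := congrArg α this
  rw [map_mul, map_mul, MulEquiv.apply_symm_apply] at h2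
  exact h2

end cfg

end Cfsg.Agent.Lib.Helper3.ThreeInv
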