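import Mathlib
import Cfsg.Agent.Lib.Helper3.S64d
import Cfsg.Agent.Lib.Helper3.TI3c

set_option autoImplicit false

/-! # Groups of order 64 with a fixed-point-free automorphism of order three: commutator calculus -/

namespace Cfsg.Agent.Lib.Helper3.S64

open scoped commutatorElement
open Cfsg.Agent.Lib.Helper3.ThreeInv

variable {T : Type*} [Group T]

namespace Hyp

variable {ρ : MulAut T}

theorem comm_comm (h : Hyp ρ) (x y g : T) : g * ⁅x, y⁆ = ⁅x, y⁆ * g :=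
  Subgroup.mem_center_iff.mp (h.comm_mem_center x y) g

theorem comm_mul_left (h : Hyp ρ) (x y z : T) : ⁅x * y, z⁆ = ⁅x, z⁆ * ⁅y, z⁆ := by
  have e : ⁅x * y, z⁆ = x * ⁅y, z⁆ * x⁻¹ * ⁅x, z⁆ := by
    simp only [commutatorElement_def]; group
  rw [e, h.comm_comm y z x, mul_assoc ⁅y, z⁆, mul_inv_cancel, mul_one, ← h.comm_comm x z]

theorem comm_mul_right (h : Hyp ρ) (x y z : T) : ⁅x, y * z⁆ = ⁅x, y⁆ * ⁅x, z⁆ := by
  have e : ⁅x, y * z⁆ = ⁅x, y⁆ * (y * ⁅x, z⁆ * y⁻¹) := by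
    simp only [commutatorElement_def]; group
  rw [e, h.comm_comm x z y, mul_assoc ⁅x, z⁆, mul_inv_cancel, mul_one]

theorem comm_sq (h : Hyp ρ) (x y : T) : ⁅x, y⁆ ^ 2 = 1 :=
  h.center_sq _ (h.comm_mem_center x y)

theorem comm_inv (h : Hyp ρ) (x y : T) : ⁅x, y⁆⁻¹ = ⁅x, y⁆ := by
  have := h.comm_sq x y
  rw [pow_two] at this
  exact inv_eq_of_mul_eq_one_right this

theorem comm_symm (h : Hyp ρ) (x y : T) : ⁅y, x⁆ = ⁅x, y⁆ := by
  rw [← commutatorElement_inv, h.comm_inv]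

theorem comm_inv_left (h : Hyp ρ) (x y : T) : ⁅x⁻¹, y⁆ = ⁅x, y⁆ := by
  have h1 := h.comm_mul_left x⁻¹ x y
  rw [inv_mul_cancel, commElt_one_left] at h1
  have h2 : ⁅x⁻¹, y⁆ = ⁅x, y⁆⁻¹ := eq_inv_of_mul_eq_one_left h1.symm
  rw [h2, h.comm_inv]

theorem comm_inv_right (h : Hyp ρ) (x y : T) : ⁅x, y⁻¹⁆ = ⁅x, y⁆ := by
  rw [h.comm_symm y⁻¹ x, h.comm_inv_left, h.comm_symm]

theorem mul_sq (h : Hyp ρ) (x y : T) : (x * y) ^ 2 = x ^ 2 * y ^ 2 * ⁅x, y⁆ := by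
  have h1 : y * x = ⁅y, x⁆ * (x * y) := by
    rw [commutatorElement_def]; group
  calc (x * y) ^ 2 = x * (y * x) * y := by rw [pow_two]; group
    _ = x * (⁅y, x⁆ * (x * y)) * y := by rw [h1]
    _ = x * ((x * y) * ⁅y, x⁆) * y := by rw [h.comm_comm y x (x * y)]
    _ = x * x * y * (⁅y, x⁆ * y) := by group
    _ = x * x * y * (y * ⁅y, x⁆) := by rw [h.comm_comm y x y]
    _ = x ^ 2 * y ^ 2 * ⁅x, y⁆ := by rw [h.comm_symm x y, pow_two, pow_two]; group

theorem sq_comm (h : Hyp ρ) (x g : T) : g * x ^ 2 = x ^ 2 * g :=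
  Subgroup.mem_center_iff.mp (h.sq_mem_center x) g

theorem comm_central_left (h : Hyp ρ) {z : T} (hz : z ∈ Subgroup.center T) (y : T) :
    ⁅z * y, y⁆ = 1 ∧ ∀ w : T, ⁅z * y, w⁆ = ⁅y, w⁆ := by
  have _ := h
  constructor
  · rw [h.comm_mul_left, commElt_of_central_left hz, one_mul, commElt_self]
  · intro w
    rw [h.comm_mul_left, commElt_of_central_left hz, one_mul]

/-- an element commutes with its image -/
theorem comm_rho_self (h : Hyp ρ) (a : T) : ⁅a, ρ a⁆ = 1 := by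
  have := h.finite
  rw [commElt_eq_one_iff]; exact h.fpf.comm a

/-- the automorphism is self-adjoint for the commutator form -/
theorem comm_rho_adj (h : Hyp ρ) (a b : T) : ⁅ρ a, b⁆ = ⁅a, ρ b⁆ := by
  have h1 := h.comm_rho_self (a * b)
  rw [map_mul, h.comm_mul_left, h.comm_mul_right, h.comm_mul_right, h.comm_rho_self a,
    h.comm_rho_self b, one_mul, mul_one] at h1
  have h2 : ⁅a, ρ b⁆ = ⁅b, ρ a⁆⁻¹ := eq_inv_of_mul_eq_one_left h1
  rw [h2, h.comm_inv, h.comm_symm]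

theorem comm_rho_left (h : Hyp ρ) (a b : T) : ⁅ρ a, b⁆ = ρ (ρ ⁅a, b⁆) := by
  rw [map_commElt, map_commElt, h.comm_rho_adj (ρ a) (ρ (ρ b)), h.fpf.cube]

theorem comm_rho_right (h : Hyp ρ) (a b : T) : ⁅a, ρ b⁆ = ρ (ρ ⁅a, b⁆) := by
  rw [← h.comm_rho_adj, h.comm_rho_left]

theorem comm_rho_rho (h : Hyp ρ) (a b : T) : ⁅ρ a, ρ b⁆ = ρ ⁅a, b⁆ := by
  rw [map_commElt]

/-- an element outside the centre is not a central multiple of its image -/
theorem rho_ne_mul_center (h : Hyp ρ) (a : T) (ha : a ∉ Subgroup.center T) (z : T)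
    (hz : z ∈ Subgroup.center T) : ρ a ≠ a * z := by
  have := h.finite
  intro hc
  apply ha
  apply h.fpf.mem_of_twist_mem (Subgroup.center T) (fun n hn => char_mem _ ρ hn) a
  rw [hc]
  have : a⁻¹ * (a * z) = z := by group
  rw [this]; exact hz

theorem rho_not_mem_center (h : Hyp ρ) (a : T) (ha : a ∉ Subgroup.center T) :
    ρ a ∉ Subgroup.center T := by
  intro hc
  have h1 := char_mem (Subgroup.center T) ρ (char_mem (Subgroup.center T) ρ hc)
  rw [h.fpf.cube] at h1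
  exact ha h1

end Hyp

end Cfsg.Agent.Lib.Helper3.S64
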