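import Mathlib
import Cfsg.Agent.Lib.Helper3.S64e

set_option autoImplicit false

/-! # Groups of order 64 with a fixed-point-free automorphism of order three: the central quotient -/

namespace Cfsg.Agent.Lib.Helper3.S64

open scoped commutatorElement
open Cfsg.Agent.Lib.Helper3.ThreeInv

variable {T : Type*} [Group T]

/-- the central quotient -/
abbrev V (T : Type*) [Group T] := T ⧸ Subgroup.center T

/-- the induced endomorphism of the central quotient -/
noncomputable def bar (φ : MulAut T) : V T →* V T :=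
  QuotientGroup.map _ _ φ.toMonoidHom (fun _ hz => char_mem _ φ hz)

theorem bar_mk (φ : MulAut T) (y : T) : bar φ (QuotientGroup.mk y : V T) = QuotientGroup.mk (φ y) :=
  rfl

theorem mk_eq_one_iff (y : T) : (QuotientGroup.mk y : V T) = 1 ↔ y ∈ Subgroup.center T :=
  QuotientGroup.eq_one_iff y

theorem mk_eq_mk_iff (a b : T) :
    (QuotientGroup.mk a : V T) = QuotientGroup.mk b ↔ a⁻¹ * b ∈ Subgroup.center T :=
  QuotientGroup.eq

namespace Hyp

variable {ρ : MulAut T}

theorem V_comm (h : Hyp ρ) (v w : V T) : v * w = w * v := by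
  induction v using QuotientGroup.induction_on with
  | H a =>
    induction w using QuotientGroup.induction_on with
    | H b =>
      rw [← QuotientGroup.mk_mul, ← QuotientGroup.mk_mul, mk_eq_mk_iff]
      have : (a * b)⁻¹ * (b * a) = ⁅b⁻¹, a⁻¹⁆ := by
        rw [commutatorElement_def]; group
      rw [this]
      exact h.comm_mem_center _ _

theorem V_sq (h : Hyp ρ) (v : V T) : v * v = 1 := by
  induction v using QuotientGroup.induction_on with
  | H a =>
    rw [← QuotientGroup.mk_mul, mk_eq_one_iff, ← pow_two]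
    exact h.sq_mem_center a

theorem V_inv (h : Hyp ρ) (v : V T) : v⁻¹ = v :=
  inv_eq_of_mul_eq_one_right (h.V_sq v)

theorem card_V (h : Hyp ρ) : Nat.card (V T) = 16 := by
  have := h.finite
  have h1 := Subgroup.card_eq_card_quotient_mul_card_subgroup (Subgroup.center T)
  rw [h.card, h.card_center] at h1
  show Nat.card (T ⧸ Subgroup.center T) = 16
  omega

theorem bar_cube (h : Hyp ρ) (v : V T) : bar ρ (bar ρ (bar ρ v)) = v := by
  induction v using QuotientGroup.induction_on with
  | H a => rw [bar_mk, bar_mk, bar_mk, h.fpf.cube]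

theorem bar_fpf (h : Hyp ρ) (v : V T) (hv : bar ρ v = v) : v = 1 := by
  have := h.finite
  induction v using QuotientGroup.induction_on with
  | H a =>
    rw [bar_mk, eq_comm, mk_eq_mk_iff] at hv
    rw [mk_eq_one_iff]
    exact h.fpf.mem_of_twist_mem _ (fun n hn => char_mem _ ρ hn) a hv

theorem bar_prod3 (h : Hyp ρ) (v : V T) : v * bar ρ v * bar ρ (bar ρ v) = 1 := by
  have := h.finite
  induction v using QuotientGroup.induction_on with
  | H a =>
    rw [bar_mk, bar_mk, ← QuotientGroup.mk_mul, ← QuotientGroup.mk_mul, h.fpf.prod3]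
    rfl

theorem bar_rho_ne (h : Hyp ρ) (v : V T) (hv : v ≠ 1) : bar ρ v ≠ v :=
  fun hc => hv (h.bar_fpf v hc)

theorem bar_rho_ne_one (h : Hyp ρ) (v : V T) (hv : v ≠ 1) : bar ρ v ≠ 1 := by
  intro hc
  apply hv
  have h1 := h.bar_cube v
  rw [hc, map_one, map_one] at h1
  exact h1.symm

theorem bar_rho_sq_ne (h : Hyp ρ) (v : V T) (hv : v ≠ 1) : bar ρ (bar ρ v) ≠ v := by
  intro hc
  apply h.bar_rho_ne v hv
  have h1 := h.bar_cube v
  rw [hc] at h1
  exact h1

end Hyp

end Cfsg.Agent.Lib.Helper3.S64
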