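import Mathlib
import Cfsg.Agent.Lib.Helper3.S64f

set_option autoImplicit false

/-! # Groups of order 64 with an action of the symmetric group of degree three: the involution -/

namespace Cfsg.Agent.Lib.Helper3.S64

open scoped commutatorElement
open Cfsg.Agent.Lib.Helper3.ThreeInv

variable {T : Type*} [Group T]

/-- the fixed points of an automorphism -/
def fixSub (x : MulAut T) : Subgroup T where
  carrier := {y | x y = y}
  one_mem' := map_one x
  mul_mem' := by
    intro a b ha hb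
    show x (a * b) = a * b
    rw [map_mul, ha, hb]
  inv_mem' := by
    intro a ha
    show x a⁻¹ = a⁻¹
    rw [map_inv, ha]

theorem mem_fixSub (x : MulAut T) (y : T) : y ∈ fixSub x ↔ x y = y := Iff.rfl

/-- the hypotheses, with an involution inverting the automorphism of order three -/
structure Hyp2 (ρ x : MulAut T) : Prop extends Hyp ρ where
  xsq : ∀ y : T, x (x y) = y
  xrho : ∀ y : T, x (ρ (x y)) = ρ (ρ y)

namespace Hyp2

variable {ρ x : MulAut T}

theorem xrho' (h : Hyp2 ρ x) (y : T) : x (ρ y) = ρ (ρ (x y)) := by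
  have := h.xrho (x y)
  rw [h.xsq] at this
  exact this

theorem xrho2 (h : Hyp2 ρ x) (y : T) : x (ρ (ρ y)) = ρ (x y) := by
  rw [h.xrho', h.xrho', h.fpf.cube]

theorem barx_sq (h : Hyp2 ρ x) (v : V T) : bar x (bar x v) = v := by
  induction v using QuotientGroup.induction_on with
  | H a => rw [bar_mk, bar_mk, h.xsq]

theorem barx_rho (h : Hyp2 ρ x) (v : V T) : bar x (bar ρ v) = bar ρ (bar ρ (bar x v)) := by
  induction v using QuotientGroup.induction_on with
  | H a => rw [bar_mk, bar_mk, bar_mk, bar_mk, bar_mk, h.xrho']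

/-- the fixed points of the involution on the central quotient -/
noncomputable def Fb (_h : Hyp2 ρ x) : Subgroup (V T) := (bar x).eqLocus (MonoidHom.id _)

theorem mem_Fb (h : Hyp2 ρ x) (v : V T) : v ∈ h.Fb ↔ bar x v = v := Iff.rfl

/-- the norm map of the involution on the central quotient -/
noncomputable def Nb (h : Hyp2 ρ x) : V T →* V T :=
  MonoidHom.mk' (fun v => v * bar x v) (by
    intro a b
    show a * b * bar x (a * b) = a * bar x a * (b * bar x b)
    rw [map_mul]
    calc a * b * (bar x a * bar x b) = a * (b * bar x a) * bar x b := by group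
      _ = a * (bar x a * b) * bar x b := by rw [h.V_comm b (bar x a)]
      _ = a * bar x a * (b * bar x b) := by group)

theorem Nb_apply (h : Hyp2 ρ x) (v : V T) : h.Nb v = v * bar x v := rfl

theorem Nb_ker (h : Hyp2 ρ x) : h.Nb.ker = h.Fb := by
  ext v
  rw [MonoidHom.mem_ker, h.Nb_apply, h.mem_Fb]
  constructor
  · intro h1
    have h2 : bar x v = v⁻¹ := eq_inv_of_mul_eq_one_right h1
    rw [h2, h.V_inv]
  · intro h1
    rw [h1, h.V_sq]

theorem Nb_range_le (h : Hyp2 ρ x) : h.Nb.range ≤ h.Fb := by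
  rintro _ ⟨v, rfl⟩
  rw [h.mem_Fb, h.Nb_apply, map_mul, h.barx_sq, h.V_comm]

theorem bar_rho_injective (h : Hyp2 ρ x) : Function.Injective (bar ρ : V T →* V T) := by
  intro a b hab
  have := congrArg (fun v => bar ρ (bar ρ v)) hab
  simp only [h.bar_cube] at this
  exact this

theorem card_Fb (h : Hyp2 ρ x) : Nat.card h.Fb = 4 ∧ h.Nb.range = h.Fb := by
  have hfin := h.finite
  have hV := h.card_V
  -- upper bound
  have hinf : h.Fb ⊓ h.Fb.map (bar ρ) = ⊥ := by
    rw [eq_bot_iff]
    rintro v ⟨hv1, hv2⟩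
    rw [Subgroup.mem_bot]
    obtain ⟨w, hw, rfl⟩ := hv2
    have hw' : bar x w = w := hw
    have hv1' : bar x (bar ρ w) = bar ρ w := hv1
    rw [h.barx_rho, hw'] at hv1'
    exact h.bar_fpf _ hv1'
  have h1 := Subgroup.index_inf_le (H := h.Fb) (K := h.Fb.map (bar ρ))
  rw [hinf, Subgroup.index_bot, hV] at h1
  have hcm : Nat.card (h.Fb.map (bar ρ)) = Nat.card h.Fb :=
    Subgroup.card_map_of_injective h.bar_rho_injective
  have h2 := Subgroup.card_mul_index h.Fb
  have h3 := Subgroup.card_mul_index (h.Fb.map (bar ρ))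
  rw [hcm, hV] at h3
  rw [hV] at h2
  -- lower bound
  have h4 := Subgroup.card_mul_index h.Nb.ker
  rw [Subgroup.index_ker, h.Nb_ker, hV] at h4
  have h5 := Subgroup.card_le_of_le h.Nb_range_le
  obtain ⟨c, hc⟩ : ∃ c, c = Nat.card h.Fb := ⟨_, rfl⟩
  obtain ⟨r, hr⟩ : ∃ r, r = Nat.card h.Nb.range := ⟨_, rfl⟩
  obtain ⟨i, hi⟩ : ∃ i, i = h.Fb.index := ⟨_, rfl⟩
  obtain ⟨j, hj⟩ : ∃ j, j = (h.Fb.map (bar ρ)).index := ⟨_, rfl⟩
  rw [← hc, ← hi] at h2
  rw [← hc, ← hj] at h3
  rw [← hi, ← hj] at h1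
  rw [← hc, ← hr] at h4
  rw [← hc, ← hr] at h5
  have hij : i = j := by
    have hcpos : 0 < c := by
      rcases Nat.eq_zero_or_pos c with h0 | h0
      · rw [h0] at h2; omega
      · exact h0
    exact Nat.eq_of_mul_eq_mul_left hcpos (h2.trans h3.symm)
  rw [← hij] at h1
  have hc4 : c = 4 := by
    have hcle : c ≤ 16 := Nat.le_of_dvd (by norm_num) ⟨i, h2.symm⟩
    have hile : i ≤ 16 := Nat.le_of_dvd (by norm_num) ⟨c, by rw [mul_comm]; exact h2.symm⟩
    interval_cases c <;> interval_cases i <;> omega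
  refine ⟨by rw [← hc]; exact hc4, ?_⟩
  apply Subgroup.eq_of_le_of_card_ge h.Nb_range_le
  rw [← hc, ← hr, hc4]
  rw [hc4] at h4
  omega

end Hyp2

end Cfsg.Agent.Lib.Helper3.S64
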