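import Mathlib
import Cfsg.Agent.Lib.Helper3.S64g

set_option autoImplicit false

/-! # Groups of order 64 with an action of the symmetric group of degree three: fixed points -/

namespace Cfsg.Agent.Lib.Helper3.S64

open scoped commutatorElement
open Cfsg.Agent.Lib.Helper3.ThreeInv

variable {T : Type*} [Group T]

namespace Hyp2

variable {ρ x : MulAut T}

/-- the central fixed points of the involution -/
def Z0 (_h : Hyp2 ρ x) : Subgroup T := fixSub x ⊓ Subgroup.center T

theorem mem_Z0 (h : Hyp2 ρ x) (z : T) : z ∈ h.Z0 ↔ x z = z ∧ z ∈ Subgroup.center T := Iff.rfl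

theorem norm_mem_Z0 (h : Hyp2 ρ x) (z : T) (hz : z ∈ Subgroup.center T) : z * x z ∈ h.Z0 := by
  have hxz : x z ∈ Subgroup.center T := char_mem _ x hz
  refine ⟨?_, Subgroup.mul_mem _ hz hxz⟩
  show x (z * x z) = z * x z
  rw [map_mul, h.xsq]
  exact Subgroup.mem_center_iff.mp hz (x z)

theorem center_inv (h : Hyp2 ρ x) (z : T) (hz : z ∈ Subgroup.center T) : z⁻¹ = z := by
  have := h.center_sq z hz
  rw [pow_two] at this
  exact inv_eq_of_mul_eq_one_right this

theorem card_Z0 (h : Hyp2 ρ x) : Nat.card h.Z0 = 2 := by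
  have hfin := h.finite
  have hle : h.Z0 ≤ Subgroup.center T := inf_le_right
  have hdvd : Nat.card h.Z0 ∣ 4 := by
    rw [← h.card_center]; exact Subgroup.card_dvd_of_le hle
  have hne1 : Nat.card h.Z0 ≠ 1 := by
    intro h1
    have hbot := Subgroup.card_eq_one.mp h1
    -- every central element is fixed
    have hall : ∀ z ∈ Subgroup.center T, z ∈ h.Z0 := by
      intro z hz
      have h2 := h.norm_mem_Z0 z hz
      rw [hbot, Subgroup.mem_bot] at h2
      have h3 : x z = z⁻¹ := eq_inv_of_mul_eq_one_right h2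
      rw [h.center_inv z hz] at h3
      exact ⟨h3, hz⟩
    have hZbot : Subgroup.center T = ⊥ := by
      rw [eq_bot_iff]
      intro z hz
      rw [← hbot]; exact hall z hz
    have := h.card_center
    rw [hZbot, Subgroup.card_bot] at this
    omega
  have hne4 : Nat.card h.Z0 ≠ 4 := by
    intro h4
    have heq : h.Z0 = Subgroup.center T :=
      Subgroup.eq_of_le_of_card_ge hle (by rw [h4, h.card_center])
    have hfix : ∀ z ∈ Subgroup.center T, x z = z := by
      intro z hz
      have : z ∈ h.Z0 := heq ▸ hz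
      exact this.1
    have hall : ∀ z ∈ Subgroup.center T, z = 1 := by
      intro z hz
      have h1 := h.xrho z
      rw [hfix z hz, hfix _ (char_mem _ ρ hz)] at h1
      have h2 : ρ z = z := (ρ.injective h1).symm
      exact h.fpf.fpf z h2
    have hZbot : Subgroup.center T = ⊥ := by
      rw [eq_bot_iff]
      intro z hz
      rw [Subgroup.mem_bot]; exact hall z hz
    have := h.card_center
    rw [hZbot, Subgroup.card_bot] at this
    omega
  have hle4 : Nat.card h.Z0 ≤ 4 := Nat.le_of_dvd (by norm_num) hdvd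
  interval_cases (Nat.card h.Z0) <;> simp_all

/-- two nonidentity elements of `Z0` coincide -/
theorem Z0_eq (h : Hyp2 ρ x) {a b : T} (ha : a ∈ h.Z0) (hb : b ∈ h.Z0) (ha1 : a ≠ 1) (hb1 : b ≠ 1) :
    a = b := by
  have hfin := h.finite
  by_contra hab
  have hcard := h.card_Z0
  have : 3 ≤ Nat.card h.Z0 := by
    classical
    have hinj : Function.Injective (fun i : Fin 3 => (![⟨1, h.Z0.one_mem⟩, ⟨a, ha⟩, ⟨b, hb⟩] i : h.Z0)) := by
      intro i j hij
      fin_cases i <;> fin_cases j <;> simp at hij ⊢ <;> first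
        | exact absurd hij.symm ha1 | exact absurd hij ha1 | exact absurd hij.symm hb1
        | exact absurd hij hb1 | exact absurd hij hab | exact absurd hij.symm hab
    have := Nat.card_le_card_of_injective _ hinj
    simpa using this
  omega

/-- the norm map from the centre onto `Z0` -/
theorem exists_norm_eq (h : Hyp2 ρ x) (w : T) (hw : w ∈ h.Z0) :
    ∃ z ∈ Subgroup.center T, z * x z = w := by
  have hfin := h.finite
  by_cases hw1 : w = 1
  · exact ⟨1, Subgroup.one_mem _, by rw [map_one, mul_one, hw1]⟩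
  · -- a central element which is not fixed
    have hex : ∃ z ∈ Subgroup.center T, z ∉ h.Z0 := by
      by_contra hcon
      push Not at hcon
      have heq : h.Z0 = Subgroup.center T := le_antisymm inf_le_right hcon
      have := h.card_Z0
      rw [heq, h.card_center] at this
      omega
    obtain ⟨z, hz, hz0⟩ := hex
    refine ⟨z, hz, ?_⟩
    apply h.Z0_eq (h.norm_mem_Z0 z hz) hw _ hw1
    intro h1
    apply hz0
    have h3 : x z = z⁻¹ := eq_inv_of_mul_eq_one_right h1
    rw [h.center_inv z hz] at h3
    exact ⟨h3, hz⟩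

/-- fixed points of the involution on the central quotient lift to fixed points -/
theorem exists_lift (h : Hyp2 ρ x) (v : V T) (hv : v ∈ h.Fb) :
    ∃ c : T, x c = c ∧ (QuotientGroup.mk c : V T) = v := by
  have hfin := h.finite
  have hr := h.card_Fb.2
  rw [← hr] at hv
  obtain ⟨w, rfl⟩ := hv
  induction w using QuotientGroup.induction_on with
  | H u =>
    -- the defect
    obtain ⟨κ, hκ⟩ : ∃ κ, κ = (u * x u)⁻¹ * (x u * u) := ⟨_, rfl⟩
    have hκZ : κ ∈ Subgroup.center T := by
      have : κ = ⁅(x u)⁻¹, u⁻¹⁆ := by rw [hκ, commutatorElement_def]; group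
      rw [this]; exact h.comm_mem_center _ _
    have hκx : x κ = κ := by
      have h1 : x κ = (x u * u)⁻¹ * (u * x u) := by
        rw [hκ]; simp only [map_mul, map_inv, h.xsq]
      have h2 : (x u * u)⁻¹ * (u * x u) = κ⁻¹ := by rw [hκ]; group
      rw [h1, h2, h.center_inv κ hκZ]
    obtain ⟨z, hz, hzκ⟩ := h.exists_norm_eq κ ⟨hκx, hκZ⟩
    have hxz : x z ∈ Subgroup.center T := char_mem _ x hz
    refine ⟨u * x u * z, ?_, ?_⟩
    · have h1 : x (u * x u * z) = x u * u * x z := by
        simp only [map_mul, h.xsq]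
      have h2 : x u * u = u * x u * κ := by rw [hκ]; group
      rw [h1, h2, ← hzκ]
      have h3 : x z * x z = 1 := by
        have := h.center_sq _ hxz
        rwa [pow_two] at this
      calc u * x u * (z * x z) * x z = u * x u * z * (x z * x z) := by group
        _ = u * x u * z := by rw [h3, mul_one]
    · rw [h.Nb_apply, bar_mk, ← QuotientGroup.mk_mul, mk_eq_mk_iff]
      have : (u * x u * z)⁻¹ * (u * x u) = z⁻¹ := by group
      rw [this]; exact Subgroup.inv_mem _ hz

end Hyp2

end Cfsg.Agent.Lib.Helper3.S64
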