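import Mathlib

set_option autoImplicit false

/-! # Solvability of groups of automorphisms through invariant chains

`SecTriv φ M N` says that some term of the derived series of `Γ` acts trivially on the section
`M / N` of `H`.  Such statements can be chained, and `SecTriv φ ⊤ ⊥` for a faithful action gives the
solvability of `Γ`. -/

namespace Cfsg.Agent.Lib.Helper3.ThreeInv

open scoped commutatorElement

variable {Γ H : Type*} [Group Γ] [Group H]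

/-- some term of the derived series of `Γ` acts trivially on the section `M / N` -/
def SecTriv (φ : Γ →* MulAut H) (M N : Subgroup H) : Prop :=
  ∃ k : ℕ, ∀ γ ∈ derivedSeries Γ k, ∀ x ∈ M, x⁻¹ * φ γ x ∈ N

theorem SecTriv.of_le (φ : Γ →* MulAut H) {M N : Subgroup H} {k : ℕ}
    (h : ∀ γ ∈ derivedSeries Γ k, ∀ x ∈ M, x⁻¹ * φ γ x ∈ N) {k' : ℕ} (hk : k ≤ k') :
    ∀ γ ∈ derivedSeries Γ k', ∀ x ∈ M, x⁻¹ * φ γ x ∈ N :=
  fun γ hγ => h γ (derivedSeries_antitone Γ hk hγ)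

/-- a homomorphism to a solvable group whose kernel acts trivially on the section -/
theorem secTriv_of_hom (φ : Γ →* MulAut H) (M N : Subgroup H) {Q : Type*} [Group Q]
    [hQ : Group.IsSolvable Q] (f : Γ →* Q)
    (h : ∀ γ, f γ = 1 → ∀ x ∈ M, x⁻¹ * φ γ x ∈ N) : SecTriv φ M N := by
  obtain ⟨n, hn⟩ := hQ.solvable
  refine ⟨n, fun γ hγ => h γ ?_⟩
  have h1 : f γ ∈ (derivedSeries Γ n).map f := Subgroup.mem_map_of_mem f hγ
  have h2 := map_derivedSeries_le_derivedSeries f n h1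
  rw [hn, Subgroup.mem_bot] at h2
  exact h2

/-- everything acts trivially on a trivial section -/
theorem secTriv_of_forall (φ : Γ →* MulAut H) (M N : Subgroup H)
    (h : ∀ γ, ∀ x ∈ M, x⁻¹ * φ γ x ∈ N) : SecTriv φ M N :=
  ⟨0, fun γ _ => h γ⟩

/-- the elements acting trivially on a section -/
def trivOn (φ : Γ →* MulAut H) (M L : Subgroup H) (hMi : ∀ γ, ∀ x ∈ M, φ γ x ∈ M)
    (hLi : ∀ γ, ∀ x ∈ L, φ γ x ∈ L) : Subgroup Γ where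
  carrier := {γ | ∀ x ∈ M, x⁻¹ * φ γ x ∈ L}
  one_mem' := by
    intro x _
    simp
  mul_mem' := by
    intro γ δ hγ hδ x hx
    have h1 := hγ x hx
    have h2 := hLi γ _ (hδ x hx)
    have e : x⁻¹ * φ (γ * δ) x = x⁻¹ * φ γ x * φ γ (x⁻¹ * φ δ x) := by
      rw [map_mul, MulAut.mul_apply, map_mul, map_inv]
      group
    rw [e]
    exact L.mul_mem h1 h2
  inv_mem' := by
    intro γ hγ x hx
    have hy : φ γ⁻¹ x ∈ M := hMi γ⁻¹ x hx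
    have h1 := hγ _ hy
    have e : φ γ (φ γ⁻¹ x) = x := by
      rw [map_inv, MulAut.apply_inv_self]
    rw [e] at h1
    have e2 : x⁻¹ * φ γ⁻¹ x = ((φ γ⁻¹ x)⁻¹ * x)⁻¹ := by group
    rw [e2]
    exact L.inv_mem h1

theorem mem_trivOn (φ : Γ →* MulAut H) (M L : Subgroup H) (hMi : ∀ γ, ∀ x ∈ M, φ γ x ∈ M)
    (hLi : ∀ γ, ∀ x ∈ L, φ γ x ∈ L) (γ : Γ) :
    γ ∈ trivOn φ M L hMi hLi ↔ ∀ x ∈ M, x⁻¹ * φ γ x ∈ L := Iff.rfl

/-- two automorphisms acting trivially on `M / N` and on `N / L` commute on `M / L` -/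
theorem comm_mod (M N L : Subgroup H) (hNM : N ≤ M)
    (hNn : ∀ x ∈ M, ∀ n ∈ N, x * n * x⁻¹ ∈ N) (hLn : ∀ x ∈ M, ∀ l ∈ L, x * l * x⁻¹ ∈ L)
    (g d : MulAut H)
    (hg1 : ∀ x ∈ M, x⁻¹ * g x ∈ N) (hg2 : ∀ x ∈ N, x⁻¹ * g x ∈ L)
    (hd1 : ∀ x ∈ M, x⁻¹ * d x ∈ N) (hd2 : ∀ x ∈ N, x⁻¹ * d x ∈ L)
    (x : H) (hx : x ∈ M) : (d (g x))⁻¹ * g (d x) ∈ L := by
  obtain ⟨a, haN, hgx⟩ : ∃ a ∈ N, g x = x * a := ⟨x⁻¹ * g x, hg1 x hx, by group⟩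
  obtain ⟨b, hbN, hdx⟩ : ∃ b ∈ N, d x = x * b := ⟨x⁻¹ * d x, hd1 x hx, by group⟩
  obtain ⟨a', ha'L, hda⟩ : ∃ a' ∈ L, d a = a * a' := ⟨a⁻¹ * d a, hd2 a haN, by group⟩
  obtain ⟨b', hb'L, hgb⟩ : ∃ b' ∈ L, g b = b * b' := ⟨b⁻¹ * g b, hg2 b hbN, by group⟩
  have hxi : x⁻¹ ∈ M := M.inv_mem hx
  have hbM : b ∈ M := hNM hbN
  -- the conjugate `x a x⁻¹` lies in `N`, so `d` moves it inside its coset of `L`
  have hc : x * a * x⁻¹ ∈ N := hNn x hx a haN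
  have h1 := hd2 _ hc
  have e1 : (x * a * x⁻¹)⁻¹ * d (x * a * x⁻¹) = x * (a⁻¹ * b * a * a' * b⁻¹) * x⁻¹ := by
    rw [map_mul, map_mul, map_inv, hdx, hda]
    group
  rw [e1] at h1
  have h2 := hLn x⁻¹ hxi _ h1
  have e2 : x⁻¹ * (x * (a⁻¹ * b * a * a' * b⁻¹) * x⁻¹) * x⁻¹⁻¹ = a⁻¹ * b * a * a' * b⁻¹ := by group
  rw [e2] at h2
  have h3 : b * a' * b⁻¹ ∈ L := hLn b hbM a' ha'L
  have h4 : a⁻¹ * b * a * b⁻¹ ∈ L := by
    have e : a⁻¹ * b * a * b⁻¹ = (a⁻¹ * b * a * a' * b⁻¹) * (b * a' * b⁻¹)⁻¹ := by group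
    rw [e]
    exact L.mul_mem h2 (L.inv_mem h3)
  have h5 : a⁻¹ * b⁻¹ * a * b ∈ L := by
    have h6 := hLn b⁻¹ (M.inv_mem hbM) _ (L.inv_mem h4)
    have e : b⁻¹ * (a⁻¹ * b * a * b⁻¹)⁻¹ * b⁻¹⁻¹ = a⁻¹ * b⁻¹ * a * b := by group
    rw [e] at h6
    exact h6
  have e3 : (d (g x))⁻¹ * g (d x) = a'⁻¹ * (a⁻¹ * b⁻¹ * a * b) * b' := by
    rw [hgx, hdx, map_mul, map_mul, hgx, hdx, hda, hgb]
    group
  rw [e3]
  exact L.mul_mem (L.mul_mem (L.inv_mem ha'L) h5) hb'L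

/-- chaining two sections -/
theorem SecTriv.trans (φ : Γ →* MulAut H) (M N L : Subgroup H) (hNM : N ≤ M)
    (hNn : ∀ x ∈ M, ∀ n ∈ N, x * n * x⁻¹ ∈ N) (hLn : ∀ x ∈ M, ∀ l ∈ L, x * l * x⁻¹ ∈ L)
    (hMi : ∀ γ, ∀ x ∈ M, φ γ x ∈ M) (hLi : ∀ γ, ∀ x ∈ L, φ γ x ∈ L)
    (h1 : SecTriv φ M N) (h2 : SecTriv φ N L) : SecTriv φ M L := by
  obtain ⟨k1, hk1⟩ := h1
  obtain ⟨k2, hk2⟩ := h2
  have hA := SecTriv.of_le φ hk1 (le_max_left k1 k2)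
  have hB := SecTriv.of_le φ hk2 (le_max_right k1 k2)
  refine ⟨max k1 k2 + 1, ?_⟩
  have hle : derivedSeries Γ (max k1 k2 + 1) ≤ trivOn φ M L hMi hLi := by
    rw [derivedSeries_succ, Subgroup.commutator_le]
    intro g hg d hd
    rw [mem_trivOn]
    intro x hx
    have hy : φ (g⁻¹ * d⁻¹) x ∈ M := hMi _ x hx
    have h := comm_mod M N L hNM hNn hLn (φ g) (φ d) (hA g hg) (hB g hg) (hA d hd) (hB d hd)
      _ hy
    have e1 : φ d (φ g (φ (g⁻¹ * d⁻¹) x)) = x := by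
      rw [← MulAut.mul_apply, ← MulAut.mul_apply, ← map_mul, ← map_mul]
      have : d * g * (g⁻¹ * d⁻¹) = 1 := by group
      rw [this, map_one, MulAut.one_apply]
    have e2 : φ g (φ d (φ (g⁻¹ * d⁻¹) x)) = φ ⁅g, d⁆ x := by
      rw [← MulAut.mul_apply, ← MulAut.mul_apply, ← map_mul, ← map_mul]
      have : g * d * (g⁻¹ * d⁻¹) = ⁅g, d⁆ := by
        rw [commutatorElement_def]; group
      rw [this]
    rw [e1, e2] at h
    exact h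
  exact fun γ hγ => (mem_trivOn φ M L hMi hLi γ).mp (hle hγ)

/-- a faithful action with some term of the derived series acting trivially -/
theorem isSolvable_of_secTriv (φ : Γ →* MulAut H) (hφ : Function.Injective φ)
    (h : SecTriv φ ⊤ ⊥) : Group.IsSolvable Γ := by
  obtain ⟨k, hk⟩ := h
  refine ⟨⟨k, ?_⟩⟩
  rw [eq_bot_iff]
  intro γ hγ
  rw [Subgroup.mem_bot]
  apply hφ
  rw [map_one]
  ext x
  have := hk γ hγ x (Subgroup.mem_top x)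
  rw [Subgroup.mem_bot, inv_mul_eq_one] at this
  rw [MulAut.one_apply]
  exact this.symm

end Cfsg.Agent.Lib.Helper3.ThreeInv
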