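import Mathlib
import Cfsg.Agent.Lib.Helper3.TI3a
import Cfsg.Agent.Lib.Helper7.Ord60

set_option autoImplicit false

/-! # Sections of small index, restriction to invariant subgroups -/

namespace Cfsg.Agent.Lib.Helper3.ThreeInv

open scoped commutatorElement

variable {Γ H : Type*} [Group Γ] [Group H]

/-- permutation groups of at most four points are solvable -/
theorem isSolvable_perm_of_card_le_four (Q : Type*) [Finite Q] (h : Nat.card Q ≤ 4) :
    Group.IsSolvable (Equiv.Perm Q) := by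
  have h1 : Nat.card (Equiv.Perm Q) = (Nat.card Q).factorial := Nat.card_perm
  have h2 : (Nat.card Q).factorial ≤ Nat.factorial 4 := Nat.factorial_le h
  have h3 : Nat.factorial 4 = 24 := rfl
  exact Cfsg.Agent.Lib.Helper7.Ord60.solvable_of_card_lt_sixty _ _ rfl (by omega)

/-- the action on the left cosets of `N` in `M` -/
@[reducible]
def cosetAction (φ : Γ →* MulAut H) (M N : Subgroup H)
    (hMi : ∀ γ, ∀ x ∈ M, φ γ x ∈ M) (hNi : ∀ γ, ∀ x ∈ N, φ γ x ∈ N) :
    MulAction Γ (↥M ⧸ N.subgroupOf M) where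
  smul γ q := Quotient.map' (fun m : ↥M => (⟨φ γ m, hMi γ m m.2⟩ : ↥M)) (by
    intro a b hab
    rw [QuotientGroup.leftRel_apply] at hab ⊢
    rw [Subgroup.mem_subgroupOf] at hab ⊢
    have := hNi γ _ hab
    simpa using this) q
  one_smul q := by
    induction q using Quotient.inductionOn' with
    | h m =>
      show Quotient.map' _ _ (Quotient.mk'' m) = Quotient.mk'' m
      rw [Quotient.map'_mk'']
      congr 1
      ext
      simp
  mul_smul γ δ q := by
    induction q using Quotient.inductionOn' with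
    | h m =>
      show Quotient.map' _ _ (Quotient.mk'' m) =
        Quotient.map' _ _ (Quotient.map' _ _ (Quotient.mk'' m))
      rw [Quotient.map'_mk'', Quotient.map'_mk'', Quotient.map'_mk'']
      congr 1
      ext
      simp

theorem cosetAction_mk (φ : Γ →* MulAut H) (M N : Subgroup H)
    (hMi : ∀ γ, ∀ x ∈ M, φ γ x ∈ M) (hNi : ∀ γ, ∀ x ∈ N, φ γ x ∈ N) (γ : Γ) (m : ↥M) :
    (cosetAction φ M N hMi hNi).smul γ (Quotient.mk'' m) =
      Quotient.mk'' (⟨φ γ m, hMi γ m m.2⟩ : ↥M) := rfl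

/-- a section of index at most four -/
theorem secTriv_of_relIndex_le [Finite H] (φ : Γ →* MulAut H) (M N : Subgroup H)
    (hMi : ∀ γ, ∀ x ∈ M, φ γ x ∈ M) (hNi : ∀ γ, ∀ x ∈ N, φ γ x ∈ N)
    (hidx : N.relIndex M ≤ 4) : SecTriv φ M N := by
  let _ := cosetAction φ M N hMi hNi
  have hQ : Nat.card (↥M ⧸ N.subgroupOf M) ≤ 4 := hidx
  have : Group.IsSolvable (Equiv.Perm (↥M ⧸ N.subgroupOf M)) :=
    isSolvable_perm_of_card_le_four _ hQ
  refine secTriv_of_hom φ M N (MulAction.toPermHom Γ (↥M ⧸ N.subgroupOf M)) ?_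
  intro γ hγ x hx
  have h1 : (MulAction.toPermHom Γ (↥M ⧸ N.subgroupOf M) γ) (Quotient.mk'' ⟨x, hx⟩) =
      Quotient.mk'' ⟨x, hx⟩ := by
    rw [hγ]
    rfl
  rw [MulAction.toPermHom_apply, MulAction.toPerm_apply] at h1
  have h2 : (Quotient.mk'' (⟨φ γ x, hMi γ x hx⟩ : ↥M) : ↥M ⧸ N.subgroupOf M) =
      Quotient.mk'' ⟨x, hx⟩ := h1
  rw [Quotient.eq'', QuotientGroup.leftRel_apply, Subgroup.mem_subgroupOf] at h2
  have h3 := N.inv_mem h2
  have e : ((⟨φ γ x, hMi γ x hx⟩ : ↥M)⁻¹ * ⟨x, hx⟩ : ↥M).1⁻¹ = x⁻¹ * φ γ x := by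
    simp
  rw [e] at h3
  exact h3

/-- restriction of an action to an invariant subgroup -/
def resHom (φ : Γ →* MulAut H) (M : Subgroup H) (hMi : ∀ γ, ∀ x ∈ M, φ γ x ∈ M) :
    Γ →* MulAut ↥M where
  toFun γ :=
    { toFun := fun m => ⟨φ γ m, hMi γ m m.2⟩
      invFun := fun m => ⟨φ γ⁻¹ m, hMi γ⁻¹ m m.2⟩
      left_inv := by
        intro m
        ext
        simp
      right_inv := by
        intro m
        ext
        simp
      map_mul' := by
        intro a b
        ext
        simp }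
  map_one' := by
    ext m
    simp
  map_mul' := by
    intro γ δ
    ext m
    simp

theorem resHom_apply (φ : Γ →* MulAut H) (M : Subgroup H) (hMi : ∀ γ, ∀ x ∈ M, φ γ x ∈ M)
    (γ : Γ) (m : ↥M) : ((resHom φ M hMi γ) m : H) = φ γ m := rfl

/-- invariance of a characteristic subgroup under automorphisms -/
theorem char_inv (N : Subgroup H) [hN : N.Characteristic] (α : MulAut H) (x : H) (hx : x ∈ N) :
    α x ∈ N := by
  have h := hN.fixed α⁻¹
  have h2 : x ∈ N.comap (α⁻¹ : MulAut H).toMonoidHom := by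
    rw [h]; exact hx
  rw [Subgroup.mem_comap] at h2
  have h3 := hN.fixed α
  have : α x ∈ N.comap (α : MulAut H).toMonoidHom ↔ α x ∈ N := by rw [h3]
  have h4 : α x ∈ N ↔ x ∈ N := by
    constructor
    · intro _; exact hx
    · intro _
      have h5 : x ∈ N.comap (α : MulAut H).toMonoidHom := by rw [h3]; exact hx
      exact h5
  exact h4.mpr hx

/-- automorphisms centralizing a self-centralizing normal subgroup act trivially modulo it -/
theorem triv_mod_of_centralizer_le (N : Subgroup H) [N.Normal]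
    (hC : Subgroup.centralizer (N : Set H) ≤ N) (α : MulAut H) (hα : ∀ n ∈ N, α n = n) (x : H) :
    x⁻¹ * α x ∈ N := by
  have h1 : α x * x⁻¹ ∈ Subgroup.centralizer (N : Set H) := by
    rw [Subgroup.mem_centralizer_iff]
    intro n hn
    have hc : x⁻¹ * n * x ∈ N := by
      have := ‹N.Normal›.conj_mem n hn x⁻¹
      simpa using this
    have h2 := hα _ hc
    rw [map_mul, map_mul, map_inv, hα n hn] at h2
    calc n * (α x * x⁻¹) = α x * ((α x)⁻¹ * n * α x) * x⁻¹ := by group
      _ = α x * (x⁻¹ * n * x) * x⁻¹ := by rw [h2]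
      _ = α x * x⁻¹ * n := by group
  have h3 := hC h1
  have h4 := ‹N.Normal›.conj_mem _ h3 x⁻¹
  have e : x⁻¹ * (α x * x⁻¹) * x⁻¹⁻¹ = x⁻¹ * α x := by group
  rw [e] at h4
  exact h4

/-- the automorphism group is solvable as soon as that of a self-centralizing characteristic
subgroup is -/
theorem isSolvable_mulAut_of_char (N : Subgroup H) [hN : N.Characteristic]
    (hC : Subgroup.centralizer (N : Set H) ≤ N) [hs : Group.IsSolvable (MulAut ↥N)] :
    Group.IsSolvable (MulAut H) := by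
  have : N.Normal := inferInstance
  have hNi : ∀ γ : MulAut H, ∀ x ∈ N, (MonoidHom.id (MulAut H)) γ x ∈ N :=
    fun γ x hx => char_inv N γ x hx
  have hker : ∀ γ : MulAut H, resHom (MonoidHom.id (MulAut H)) N hNi γ = 1 → ∀ n ∈ N, γ n = n := by
    intro γ hγ n hn
    have := resHom_apply (MonoidHom.id (MulAut H)) N hNi γ ⟨n, hn⟩
    rw [hγ] at this
    exact this.symm
  have h1 : SecTriv (MonoidHom.id (MulAut H)) N ⊥ := by
    refine secTriv_of_hom _ N ⊥ (resHom (MonoidHom.id (MulAut H)) N hNi) ?_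
    intro γ hγ x hx
    rw [Subgroup.mem_bot, MonoidHom.id_apply, hker γ hγ x hx, inv_mul_cancel]
  have h2 : SecTriv (MonoidHom.id (MulAut H)) ⊤ N := by
    refine secTriv_of_hom _ ⊤ N (resHom (MonoidHom.id (MulAut H)) N hNi) ?_
    intro γ hγ x _
    exact triv_mod_of_centralizer_le N hC γ (hker γ hγ) x
  refine isSolvable_of_secTriv (MonoidHom.id (MulAut H)) (fun _ _ h => h) ?_
  refine SecTriv.trans _ ⊤ N ⊥ le_top ?_ ?_ ?_ ?_ h2 h1
  · intro x _ n hn
    exact ‹N.Normal›.conj_mem n hn x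
  · intro x _ l hl
    rw [Subgroup.mem_bot] at hl ⊢
    rw [hl]; group
  · intro γ x _
    exact Subgroup.mem_top _
  · intro γ x hx
    rw [Subgroup.mem_bot] at hx ⊢
    rw [hx, map_one]

end Cfsg.Agent.Lib.Helper3.ThreeInv
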