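import Mathlib
import Cfsg.Agent.Lib.Helper3.TI3b
import Cfsg.Agent.Lib.Helper3.TI3c

set_option autoImplicit false

/-! # Anisotropy bound, the squares of the centre, the chain of the centre -/

namespace Cfsg.Agent.Lib.Helper3.ThreeInv

open scoped commutatorElement

variable {H : Type*} [Group H]

/-- a section on which squaring is an anisotropic quadratic map with values in a group of order
at most two has order at most four -/
theorem Cfg.aniso (c : Cfg H) (G E P T : Subgroup H) (hEG : E ≤ G)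
    (hP2 : ∀ a ∈ P, ∀ b ∈ P, a ∉ T → b ∉ T → a * b ∈ T)
    (hsqP : ∀ g ∈ G, g ^ 2 ∈ P)
    (haniso : ∀ g ∈ G, g ^ 2 ∈ T → g ∈ E)
    (hcommP : ∀ g ∈ G, ∀ h ∈ G, ⁅g, h⁆ ∈ P)
    (hrad : ∀ e ∈ E, ∀ g ∈ G, ⁅g, e⁆ ∈ T) : E.relIndex G ≤ 4 := by
  by_cases hGE : G ≤ E
  · rw [Subgroup.relIndex_eq_one.mpr hGE]
    norm_num
  obtain ⟨y, hyG, hyE⟩ := SetLike.not_le_iff_exists.mp hGE
  let D : Subgroup H :=
    { carrier := {g | g ∈ G ∧ ⁅y, g⁆ ∈ T}
      one_mem' := ⟨G.one_mem, by rw [commElt_one_right]; exact T.one_mem⟩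
      mul_mem' := by
        rintro a b ⟨ha, ha'⟩ ⟨hb, hb'⟩
        refine ⟨G.mul_mem ha hb, ?_⟩
        rw [c.comm_mul_right]
        exact T.mul_mem ha' hb'
      inv_mem' := by
        rintro a ⟨ha, ha'⟩
        refine ⟨G.inv_mem ha, ?_⟩
        rw [c.comm_inv_right]
        exact ha' }
  have hD : ∀ g, g ∈ D ↔ g ∈ G ∧ ⁅y, g⁆ ∈ T := fun g => Iff.rfl
  have hED : E ≤ D := fun e he => (hD e).mpr ⟨hEG he, hrad e he y hyG⟩
  have hDG : D ≤ G := fun g hg => ((hD g).mp hg).1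
  have h1 : D.relIndex G ≤ 2 := by
    apply relIndex_le_two
    intro a ha b hb haD hbD
    have ha' : ⁅y, a⁆ ∉ T := fun h => haD ((hD a).mpr ⟨ha, h⟩)
    have hb' : ⁅y, b⁆ ∉ T := fun h => hbD ((hD b).mpr ⟨hb, h⟩)
    refine (hD _).mpr ⟨G.mul_mem (G.inv_mem ha) hb, ?_⟩
    rw [c.comm_mul_right, c.comm_inv_right]
    exact hP2 _ (hcommP y hyG a ha) _ (hcommP y hyG b hb) ha' hb'
  have hy2 : y ^ 2 ∉ T := fun h => hyE (haniso y hyG h)
  have hkey : ∀ g ∈ D, g ∉ E → y * g ∈ E := by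
    intro g hg hgE
    obtain ⟨hgG, hgT⟩ := (hD g).mp hg
    have hg2 : g ^ 2 ∉ T := fun h => hgE (haniso g hgG h)
    have h3 : y ^ 2 * g ^ 2 ∈ T := hP2 _ (hsqP y hyG) _ (hsqP g hgG) hy2 hg2
    apply haniso _ (G.mul_mem hyG hgG)
    rw [c.mul_sq]
    exact T.mul_mem h3 hgT
  have h2 : E.relIndex D ≤ 2 := by
    apply relIndex_le_two
    intro a ha b hb haE hbE
    have h3 := hkey a ha haE
    have h4 := hkey b hb hbE
    have e : a⁻¹ * b = (y * a)⁻¹ * (y * b) := by group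
    rw [e]
    exact E.mul_mem (E.inv_mem h3) h4
  exact relIndex_le_of_steps E D G hED hDG h2 h1

/-- the number of cosets of the squares in the centre is at most the number of elements of order
at most two -/
theorem Cfg.relIndex_Zsq [Finite H] (c : Cfg H) : c.Zsq.relIndex (Subgroup.center H) ≤ Nat.card c.Om := by
  let σ : ↥(Subgroup.center H) →* H :=
    { toFun := fun z => (z : H) ^ 2
      map_one' := by simp
      map_mul' := by
        intro a b
        show ((a : H) * b) ^ 2 = (a : H) ^ 2 * (b : H) ^ 2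
        rw [c.mul_sq, commElt_of_central_left a.2, mul_one] }
  have hr : σ.range = c.Zsq := by
    ext y
    constructor
    · rintro ⟨z, rfl⟩
      exact ⟨z, z.2, rfl⟩
    · rintro ⟨z, hz, rfl⟩
      exact ⟨⟨z, hz⟩, rfl⟩
  have h1 := Subgroup.card_mul_index σ.ker
  rw [Subgroup.index_ker, hr] at h1
  have h2 := Subgroup.card_mul_index (c.Zsq.subgroupOf (Subgroup.center H))
  have h3 : Nat.card (c.Zsq.subgroupOf (Subgroup.center H)) = Nat.card c.Zsq :=
    Nat.card_congr (Subgroup.subgroupOfEquivOfLe c.Zsq_le).toEquiv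
  rw [h3] at h2
  have h4 : Nat.card σ.ker ≤ Nat.card c.Om := by
    apply Nat.card_le_card_of_injective (fun z : σ.ker => (⟨(z : ↥(Subgroup.center H)), by
      have := z.2
      rw [MonoidHom.mem_ker] at this
      exact this⟩ : c.Om))
    intro a b hab
    have := congrArg Subtype.val hab
    exact Subtype.ext (Subtype.ext this)
  have hpos : 0 < Nat.card c.Zsq := Nat.card_pos
  have h5 : (c.Zsq.subgroupOf (Subgroup.center H)).index = Nat.card σ.ker := by
    have : Nat.card c.Zsq * (c.Zsq.subgroupOf (Subgroup.center H)).index =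
        Nat.card c.Zsq * Nat.card σ.ker := by
      rw [h2, mul_comm, h1]
    exact Nat.eq_of_mul_eq_mul_left hpos this
  show (c.Zsq.subgroupOf (Subgroup.center H)).index ≤ Nat.card c.Om
  rw [h5]
  exact h4

/-- the central elements killed by the `2 ^ i`-th power -/
def Cfg.Zi (_c : Cfg H) (i : ℕ) : Subgroup H where
  carrier := {z | z ∈ Subgroup.center H ∧ z ^ (2 ^ i) = 1}
  one_mem' := ⟨Subgroup.one_mem _, one_pow _⟩
  mul_mem' := by
    rintro a b ⟨ha, ha'⟩ ⟨hb, hb'⟩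
    refine ⟨Subgroup.mul_mem _ ha hb, ?_⟩
    have hc : Commute a b := (Subgroup.mem_center_iff.mp ha b).symm
    rw [hc.mul_pow, ha', hb', one_mul]
  inv_mem' := by
    rintro a ⟨ha, ha'⟩
    exact ⟨Subgroup.inv_mem _ ha, by rw [inv_pow, ha', inv_one]⟩

theorem Cfg.mem_Zi (c : Cfg H) (i : ℕ) (z : H) :
    z ∈ c.Zi i ↔ z ∈ Subgroup.center H ∧ z ^ (2 ^ i) = 1 := Iff.rfl

theorem Cfg.Zi_zero (c : Cfg H) : c.Zi 0 = ⊥ := by
  ext z
  rw [c.mem_Zi, Subgroup.mem_bot, pow_zero, pow_one]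
  constructor
  · exact fun h => h.2
  · intro h
    rw [h]
    exact ⟨Subgroup.one_mem _, rfl⟩

theorem Cfg.Zi_le_succ (c : Cfg H) (i : ℕ) : c.Zi i ≤ c.Zi (i + 1) := by
  rintro z ⟨hz, hz'⟩
  refine ⟨hz, ?_⟩
  rw [pow_succ, pow_mul, hz', one_pow]

theorem Cfg.Zi_top [Finite H] (c : Cfg H) (h2 : IsPGroup 2 H) : ∃ n, c.Zi n = Subgroup.center H := by
  obtain ⟨n, hn⟩ := IsPGroup.iff_card.mp h2
  refine ⟨n, le_antisymm (fun z hz => hz.1) (fun z hz => ⟨hz, ?_⟩)⟩
  rw [← hn]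
  exact pow_card_eq_one'

theorem Cfg.relIndex_Zi [Finite H] (c : Cfg H) (hcard : Nat.card c.Om ≤ 4) (i : ℕ) :
    (c.Zi i).relIndex (c.Zi (i + 1)) ≤ 4 := by
  classical
  refine le_trans ?_ hcard
  let s : H → c.Om := fun z => if h : (z ^ (2 ^ i)) ^ 2 = 1 then ⟨z ^ (2 ^ i), h⟩ else 1
  apply relIndex_le_card_of_fiber (c.Zi i) (c.Zi (i + 1)) s
  intro a ha b hb hab
  have ha2 : (a ^ (2 ^ i)) ^ 2 = 1 := by
    rw [← pow_mul, ← pow_succ]; exact ha.2
  have hb2 : (b ^ (2 ^ i)) ^ 2 = 1 := by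
    rw [← pow_mul, ← pow_succ]; exact hb.2
  have h1 : a ^ (2 ^ i) = b ^ (2 ^ i) := by
    have := congrArg Subtype.val hab
    simp only [s, dif_pos ha2, dif_pos hb2] at this
    exact this
  refine ⟨Subgroup.mul_mem _ (Subgroup.inv_mem _ ha.1) hb.1, ?_⟩
  have hc : Commute a⁻¹ b := (Subgroup.mem_center_iff.mp (Subgroup.inv_mem _ ha.1) b).symm
  rw [hc.mul_pow, inv_pow, h1, inv_mul_cancel]

theorem Cfg.map_mem_Zi (c : Cfg H) (i : ℕ) (α : MulAut H) (z : H) (hz : z ∈ c.Zi i) :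
    α z ∈ c.Zi i :=
  ⟨map_mem_center α z hz.1, by rw [← map_pow, hz.2, map_one]⟩

/-- some term of the derived series acts trivially on the centre -/
theorem Cfg.secTriv_center [Finite H] (c : Cfg H) (h2 : IsPGroup 2 H) (hcard : Nat.card c.Om ≤ 4)
    {Γ : Type*} [Group Γ] (φ : Γ →* MulAut H) : SecTriv φ (Subgroup.center H) ⊥ := by
  have hstep : ∀ i, SecTriv φ (c.Zi i) ⊥ := by
    intro i
    induction i with
    | zero =>
      rw [c.Zi_zero]
      refine secTriv_of_forall φ ⊥ ⊥ ?_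
      intro γ x hx
      rw [Subgroup.mem_bot] at hx ⊢
      rw [hx, map_one, inv_one, one_mul]
    | succ i ih =>
      have h1 : SecTriv φ (c.Zi (i + 1)) (c.Zi i) :=
        secTriv_of_relIndex_le φ _ _ (fun γ x hx => c.map_mem_Zi _ _ x hx)
          (fun γ x hx => c.map_mem_Zi _ _ x hx) (c.relIndex_Zi hcard i)
      refine SecTriv.trans φ (c.Zi (i + 1)) (c.Zi i) ⊥ (c.Zi_le_succ i) ?_ ?_
        (fun γ x hx => c.map_mem_Zi _ _ x hx) ?_ h1 ih
      · intro x _ n hn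
        have : x * n * x⁻¹ = n := by
          rw [Subgroup.mem_center_iff.mp hn.1 x]; group
        rw [this]; exact hn
      · intro x _ l hl
        rw [Subgroup.mem_bot] at hl ⊢
        rw [hl]; group
      · intro γ x hx
        rw [Subgroup.mem_bot] at hx ⊢
        rw [hx, map_one]
  obtain ⟨n, hn⟩ := c.Zi_top h2
  rw [← hn]
  exact hstep n

end Cfsg.Agent.Lib.Helper3.ThreeInv
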