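import Mathlib
import Cfsg.Agent.Lib.Helper3.TI3d

set_option autoImplicit false

/-! # The case where the commutators span at most one dimension modulo the squares of the centre -/

namespace Cfsg.Agent.Lib.Helper3.ThreeInv

open scoped commutatorElement

variable {H : Type*} [Group H]

theorem Cfg.commutator_le_Om (c : Cfg H) : commutator H ≤ c.Om := by
  rw [commutator_def, Subgroup.commutator_le]
  intro g _ h _
  exact c.comm_mem_Om g h

theorem Cfg.commutator_le_center (c : Cfg H) : commutator H ≤ Subgroup.center H :=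
  c.commutator_le_Om.trans c.Om_le

theorem commElt_mem_commutator (g h : H) : ⁅g, h⁆ ∈ commutator H := by
  rw [commutator_def]
  exact Subgroup.commutator_mem_commutator (Subgroup.mem_top g) (Subgroup.mem_top h)

/-- the product of the commutator subgroup and the squares of the centre -/
def Cfg.Y (c : Cfg H) : Subgroup H where
  carrier := {y | ∃ h ∈ commutator H, ∃ w ∈ c.Zsq, y = h * w}
  one_mem' := ⟨1, Subgroup.one_mem _, 1, Subgroup.one_mem _, (mul_one 1).symm⟩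
  mul_mem' := by
    rintro a b ⟨h, hh, w, hw, rfl⟩ ⟨h', hh', w', hw', rfl⟩
    refine ⟨h * h', Subgroup.mul_mem _ hh hh', w * w', Subgroup.mul_mem _ hw hw', ?_⟩
    have := Subgroup.mem_center_iff.mp (c.Zsq_le hw) h'
    calc h * w * (h' * w') = h * (w * h') * w' := by group
      _ = h * (h' * w) * w' := by rw [← this]
      _ = h * h' * (w * w') := by group
  inv_mem' := by
    rintro a ⟨h, hh, w, hw, rfl⟩
    refine ⟨h⁻¹, Subgroup.inv_mem _ hh, w⁻¹, Subgroup.inv_mem _ hw, ?_⟩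
    have := Subgroup.mem_center_iff.mp (Subgroup.inv_mem _ (c.Zsq_le hw)) h⁻¹
    rw [mul_inv_rev, this]

theorem Cfg.mem_Y (c : Cfg H) (y : H) :
    y ∈ c.Y ↔ ∃ h ∈ commutator H, ∃ w ∈ c.Zsq, y = h * w := Iff.rfl

theorem Cfg.commutator_le_Y (c : Cfg H) : commutator H ≤ c.Y :=
  fun h hh => ⟨h, hh, 1, Subgroup.one_mem _, (mul_one h).symm⟩

theorem Cfg.Zsq_le_Y (c : Cfg H) : c.Zsq ≤ c.Y :=
  fun w hw => ⟨1, Subgroup.one_mem _, w, hw, (one_mul w).symm⟩

theorem Cfg.Y_le_center (c : Cfg H) : c.Y ≤ Subgroup.center H := by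
  rintro y ⟨h, hh, w, hw, rfl⟩
  exact Subgroup.mul_mem _ (c.commutator_le_center hh) (c.Zsq_le hw)

theorem Cfg.map_mem_Y (c : Cfg H) (α : MulAut H) (y : H) (hy : y ∈ c.Y) : α y ∈ c.Y := by
  obtain ⟨h, hh, w, hw, rfl⟩ := hy
  exact ⟨α h, char_inv (commutator H) α h hh, α w, c.map_mem_Zsq α w hw, map_mul α h w⟩

/-- the elements whose square lies in `Y` -/
def Cfg.H1 (c : Cfg H) : Subgroup H where
  carrier := {x | x ^ 2 ∈ c.Y}
  one_mem' := by
    show (1 : H) ^ 2 ∈ c.Y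
    rw [one_pow]; exact Subgroup.one_mem _
  mul_mem' := by
    intro a b ha hb
    show (a * b) ^ 2 ∈ c.Y
    rw [c.mul_sq]
    exact Subgroup.mul_mem _ (Subgroup.mul_mem _ ha hb)
      (c.commutator_le_Y (commElt_mem_commutator a b))
  inv_mem' := by
    intro a ha
    show (a⁻¹) ^ 2 ∈ c.Y
    rw [inv_sq']
    exact Subgroup.inv_mem _ ha

theorem Cfg.mem_H1 (c : Cfg H) (x : H) : x ∈ c.H1 ↔ x ^ 2 ∈ c.Y := Iff.rfl

theorem Cfg.center_le_H1 (c : Cfg H) : Subgroup.center H ≤ c.H1 :=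
  fun z hz => c.Zsq_le_Y ⟨z, hz, rfl⟩

theorem Cfg.map_mem_H1 (c : Cfg H) (α : MulAut H) (x : H) (hx : x ∈ c.H1) : α x ∈ c.H1 := by
  rw [c.mem_H1, ← map_pow]
  exact c.map_mem_Y α _ hx

theorem Cfg.conj_mem_H1 (c : Cfg H) (x h : H) (hh : h ∈ c.H1) : x * h * x⁻¹ ∈ c.H1 := by
  rw [c.mem_H1] at hh ⊢
  have e : (x * h * x⁻¹) ^ 2 = x * h ^ 2 * x⁻¹ := by
    rw [pow_two, pow_two]; group
  rw [e, c.sq_comm h x, mul_assoc, mul_inv_cancel, mul_one]
  exact hh

/-- the commutators span at most one dimension modulo the squares of the centre -/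
def Cfg.D1 (c : Cfg H) : Prop :=
  ∀ a ∈ commutator H, ∀ b ∈ commutator H, a ∉ c.Zsq → b ∉ c.Zsq → a * b ∈ c.Zsq

theorem Cfg.Y_two (c : Cfg H) (hD : c.D1) :
    ∀ a ∈ c.Y, ∀ b ∈ c.Y, a ∉ c.Zsq → b ∉ c.Zsq → a * b ∈ c.Zsq := by
  rintro a ⟨h, hh, w, hw, rfl⟩ b ⟨h', hh', w', hw', rfl⟩ ha hb
  have h1 : h ∉ c.Zsq := fun hc => ha (Subgroup.mul_mem _ hc hw)
  have h2 : h' ∉ c.Zsq := fun hc => hb (Subgroup.mul_mem _ hc hw')
  have h3 := hD h hh h' hh' h1 h2
  have := Subgroup.mem_center_iff.mp (c.Zsq_le hw) h'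
  have e : h * w * (h' * w') = h * h' * (w * w') := by
    calc h * w * (h' * w') = h * (w * h') * w' := by group
      _ = h * (h' * w) * w' := by rw [← this]
      _ = h * h' * (w * w') := by group
  rw [e]
  exact Subgroup.mul_mem _ h3 (Subgroup.mul_mem _ hw hw')

theorem Cfg.relIndex_center_H1 (c : Cfg H) (hD : c.D1) :
    (Subgroup.center H).relIndex c.H1 ≤ 4 := by
  apply c.aniso c.H1 (Subgroup.center H) c.Y c.Zsq c.center_le_H1 (c.Y_two hD)
  · intro g hg
    exact hg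
  · intro g _ hg
    exact c.mem_center_of_sq_mem_Zsq g hg
  · intro g _ h _
    exact c.commutator_le_Y (commElt_mem_commutator g h)
  · intro e he g _
    rw [commElt_of_central_right he]
    exact Subgroup.one_mem _

variable [Finite H]

theorem Cfg.index_H1 (c : Cfg H) (hcard : Nat.card c.Om ≤ 4) : c.H1.index ≤ 4 := by
  have h1 : c.Y.relIndex (Subgroup.center H) ≤ 4 := by
    have hdvd := Subgroup.relIndex_dvd_of_le_left (Subgroup.center H) c.Zsq_le_Y
    have hne : c.Zsq.relIndex (Subgroup.center H) ≠ 0 := by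
      have : (c.Zsq.subgroupOf (Subgroup.center H)).FiniteIndex := inferInstance
      exact this.index_ne_zero
    exact (Nat.le_of_dvd (Nat.pos_of_ne_zero hne) hdvd).trans (c.relIndex_Zsq.trans hcard)
  refine le_trans ?_ h1
  have hfin : Finite (↥(Subgroup.center H) ⧸ c.Y.subgroupOf (Subgroup.center H)) := inferInstance
  apply index_le_card_of_fiber c.H1
    (fun x : H => (QuotientGroup.mk (⟨x ^ 2, c.sq_mem x⟩ : ↥(Subgroup.center H)) :
      ↥(Subgroup.center H) ⧸ c.Y.subgroupOf (Subgroup.center H)))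
  intro a b hab
  rw [QuotientGroup.eq, Subgroup.mem_subgroupOf] at hab
  have h2 : (a ^ 2)⁻¹ * b ^ 2 ∈ c.Y := by simpa using hab
  rw [c.mem_H1, c.mul_sq, inv_sq']
  exact Subgroup.mul_mem _ h2 (c.commutator_le_Y (commElt_mem_commutator _ _))

/-- the first case: the automorphism group is solvable -/
theorem Cfg.isSolvable_of_D1 (c : Cfg H) (h2 : IsPGroup 2 H) (hcard : Nat.card c.Om ≤ 4)
    (hD : c.D1) : Group.IsSolvable (MulAut H) := by
  set φ := MonoidHom.id (MulAut H) with hφ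
  have hZ : ∀ γ : MulAut H, ∀ x ∈ Subgroup.center H, φ γ x ∈ Subgroup.center H :=
    fun γ x hx => map_mem_center γ x hx
  have hH1 : ∀ γ : MulAut H, ∀ x ∈ c.H1, φ γ x ∈ c.H1 := fun γ x hx => c.map_mem_H1 γ x hx
  have hbot : ∀ γ : MulAut H, ∀ x ∈ (⊥ : Subgroup H), φ γ x ∈ (⊥ : Subgroup H) := by
    intro γ x hx
    rw [Subgroup.mem_bot] at hx ⊢
    rw [hx, map_one]
  have hbotn : ∀ (M : Subgroup H), ∀ x ∈ M, ∀ l ∈ (⊥ : Subgroup H),
      x * l * x⁻¹ ∈ (⊥ : Subgroup H) := by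
    intro M x _ l hl
    rw [Subgroup.mem_bot] at hl ⊢
    rw [hl]; group
  have s1 : SecTriv φ (Subgroup.center H) ⊥ := c.secTriv_center h2 hcard φ
  have s2 : SecTriv φ c.H1 (Subgroup.center H) :=
    secTriv_of_relIndex_le φ _ _ hH1 hZ (c.relIndex_center_H1 hD)
  have s3 : SecTriv φ ⊤ c.H1 := by
    apply secTriv_of_relIndex_le φ _ _ (fun γ x _ => Subgroup.mem_top _) hH1
    rw [Subgroup.relIndex_top_right]
    exact c.index_H1 hcard
  have s4 : SecTriv φ c.H1 ⊥ := by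
    refine SecTriv.trans φ c.H1 (Subgroup.center H) ⊥ c.center_le_H1 ?_ (hbotn _) hH1 hbot s2 s1
    intro x _ n hn
    exact (inferInstance : (Subgroup.center H).Normal).conj_mem n hn x
  have s5 : SecTriv φ ⊤ ⊥ := by
    refine SecTriv.trans φ ⊤ c.H1 ⊥ le_top ?_ (hbotn _) (fun γ x _ => Subgroup.mem_top _) hbot s3 s4
    intro x _ n hn
    exact c.conj_mem_H1 x n hn
  exact isSolvable_of_secTriv φ (fun _ _ h => h) s5

end Cfsg.Agent.Lib.Helper3.ThreeInv
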