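import Mathlib
import Cfsg.Agent.Lib.Helper3.TI3e

set_option autoImplicit false

/-! # The index of the radical of an alternating form with values in a group of order two is a
power of four -/

namespace Cfsg.Agent.Lib.Helper3.ThreeInv

open scoped commutatorElement

variable {H : Type*} [Group H]

theorem card_mul_relIndex (A B : Subgroup H) (h : A ≤ B) :
    Nat.card A * A.relIndex B = Nat.card B := by
  have h2 := Subgroup.card_mul_index (A.subgroupOf B)
  have h3 : Nat.card (A.subgroupOf B) = Nat.card A :=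
    Nat.card_congr (Subgroup.subgroupOfEquivOfLe h).toEquiv
  rw [h3] at h2
  exact h2

/-- the radical of `K` modulo `T` -/
def Cfg.rad (c : Cfg H) (T K : Subgroup H) : Subgroup H where
  carrier := {g | g ∈ K ∧ ∀ k ∈ K, ⁅g, k⁆ ∈ T}
  one_mem' := ⟨K.one_mem, fun k _ => by rw [commElt_one_left]; exact T.one_mem⟩
  mul_mem' := by
    rintro a b ⟨ha, ha'⟩ ⟨hb, hb'⟩
    refine ⟨K.mul_mem ha hb, fun k hk => ?_⟩
    rw [c.comm_mul_left]
    exact T.mul_mem (ha' k hk) (hb' k hk)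
  inv_mem' := by
    rintro a ⟨ha, ha'⟩
    refine ⟨K.inv_mem ha, fun k hk => ?_⟩
    rw [c.comm_inv_left]
    exact ha' k hk

theorem Cfg.mem_rad (c : Cfg H) (T K : Subgroup H) (g : H) :
    g ∈ c.rad T K ↔ g ∈ K ∧ ∀ k ∈ K, ⁅g, k⁆ ∈ T := Iff.rfl

theorem Cfg.rad_le (c : Cfg H) (T K : Subgroup H) : c.rad T K ≤ K := fun _ hg => hg.1

/-- the index of the radical is a power of four -/
theorem Cfg.parity_aux [Finite H] (c : Cfg H) (T P : Subgroup H)
    (hP2 : ∀ a ∈ P, ∀ b ∈ P, a ∉ T → b ∉ T → a * b ∈ T)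
    (hcommP : ∀ g h : H, ⁅g, h⁆ ∈ P) :
    ∀ (n : ℕ) (K : Subgroup H), Nat.card K = n → ∃ m : ℕ, (c.rad T K).relIndex K = 4 ^ m := by
  intro n
  induction n using Nat.strong_induction_on with
  | _ n ih =>
    intro K hKn
    by_cases hK : K ≤ c.rad T K
    · exact ⟨0, by rw [Subgroup.relIndex_eq_one.mpr hK, pow_zero]⟩
    obtain ⟨x, hxK, hxr⟩ := SetLike.not_le_iff_exists.mp hK
    have hex : ∃ y ∈ K, ⁅x, y⁆ ∉ T := by
      by_contra hcon
      push Not at hcon
      exact hxr ⟨hxK, hcon⟩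
    obtain ⟨y, hyK, hxy⟩ := hex
    have hyx : ⁅y, x⁆ ∉ T := by rw [c.comm_symm x y]; exact hxy
    let Kx : Subgroup H :=
      { carrier := {g | g ∈ K ∧ ⁅g, x⁆ ∈ T}
        one_mem' := ⟨K.one_mem, by rw [commElt_one_left]; exact T.one_mem⟩
        mul_mem' := by
          rintro a b ⟨ha, ha'⟩ ⟨hb, hb'⟩
          refine ⟨K.mul_mem ha hb, ?_⟩
          rw [c.comm_mul_left]
          exact T.mul_mem ha' hb'
        inv_mem' := by
          rintro a ⟨ha, ha'⟩
          refine ⟨K.inv_mem ha, ?_⟩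
          rw [c.comm_inv_left]
          exact ha' }
    let K1 : Subgroup H :=
      { carrier := {g | g ∈ K ∧ ⁅g, x⁆ ∈ T ∧ ⁅g, y⁆ ∈ T}
        one_mem' := ⟨K.one_mem, by rw [commElt_one_left]; exact T.one_mem,
          by rw [commElt_one_left]; exact T.one_mem⟩
        mul_mem' := by
          rintro a b ⟨ha, ha', ha''⟩ ⟨hb, hb', hb''⟩
          refine ⟨K.mul_mem ha hb, ?_, ?_⟩
          · rw [c.comm_mul_left]
            exact T.mul_mem ha' hb'
          · rw [c.comm_mul_left]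
            exact T.mul_mem ha'' hb''
        inv_mem' := by
          rintro a ⟨ha, ha', ha''⟩
          refine ⟨K.inv_mem ha, ?_, ?_⟩
          · rw [c.comm_inv_left]
            exact ha'
          · rw [c.comm_inv_left]
            exact ha'' }
    have hKx : ∀ g, g ∈ Kx ↔ g ∈ K ∧ ⁅g, x⁆ ∈ T := fun g => Iff.rfl
    have hK1 : ∀ g, g ∈ K1 ↔ g ∈ K ∧ ⁅g, x⁆ ∈ T ∧ ⁅g, y⁆ ∈ T := fun g => Iff.rfl
    have hK1x : K1 ≤ Kx := fun g hg => ⟨hg.1, hg.2.1⟩
    have hKxK : Kx ≤ K := fun g hg => hg.1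
    have hK1K : K1 ≤ K := hK1x.trans hKxK
    have i1 : Kx.relIndex K = 2 := by
      rw [Subgroup.relIndex_eq_two_iff_exists_notMem_and]
      refine ⟨y, hyK, fun hc => hyx ((hKx y).mp hc).2, ?_⟩
      intro b hb
      by_cases hbx : ⁅b, x⁆ ∈ T
      · exact Or.inr ⟨hb, hbx⟩
      · left
        refine ⟨K.mul_mem hb hyK, ?_⟩
        rw [c.comm_mul_left]
        exact hP2 _ (hcommP b x) _ (hcommP y x) hbx hyx
    have i2 : K1.relIndex Kx = 2 := by
      rw [Subgroup.relIndex_eq_two_iff_exists_notMem_and]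
      refine ⟨x, ⟨hxK, by rw [commElt_self]; exact T.one_mem⟩,
        fun hc => hxy ((hK1 x).mp hc).2.2, ?_⟩
      intro b hb
      obtain ⟨hbK, hbx⟩ := (hKx b).mp hb
      by_cases hby : ⁅b, y⁆ ∈ T
      · exact Or.inr ⟨hbK, hbx, hby⟩
      · left
        refine ⟨K.mul_mem hbK hxK, ?_, ?_⟩
        · rw [c.comm_mul_left, commElt_self, mul_one]
          exact hbx
        · rw [c.comm_mul_left]
          exact hP2 _ (hcommP b y) _ (hcommP x y) hby hxy
    have i3 : K1.relIndex K = 4 := by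
      rw [← Subgroup.relIndex_mul_relIndex K1 Kx K hK1x hKxK, i1, i2]
    have hcard : Nat.card K1 < Nat.card K := by
      have h1 := card_mul_relIndex K1 K hK1K
      rw [i3] at h1
      have hpos : 0 < Nat.card K1 := Nat.card_pos
      omega
    have hrad : c.rad T K1 = c.rad T K := by
      ext g
      constructor
      · rintro ⟨hg1, hg⟩
        obtain ⟨hgK, hgx, hgy⟩ := (hK1 g).mp hg1
        have hgx' : ⁅g, x⁆ ∈ T := hgx
        refine ⟨hgK, fun k hk => ?_⟩
        -- move `k` into `K1`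
        by_cases hkx : ⁅k, x⁆ ∈ T
        · by_cases hky : ⁅k, y⁆ ∈ T
          · exact hg k ⟨hk, hkx, hky⟩
          · have hmem : k * x ∈ K1 := by
              refine ⟨K.mul_mem hk hxK, ?_, ?_⟩
              · rw [c.comm_mul_left, commElt_self, mul_one]; exact hkx
              · rw [c.comm_mul_left]
                exact hP2 _ (hcommP k y) _ (hcommP x y) hky hxy
            have h1 := hg _ hmem
            rw [c.comm_mul_right] at h1
            have h2 : ⁅g, k⁆ = ⁅g, k⁆ * ⁅g, x⁆ * ⁅g, x⁆⁻¹ := by group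
            rw [h2]
            exact T.mul_mem h1 (T.inv_mem hgx')
        · have hkyx : ⁅k * y, x⁆ ∈ T := by
            rw [c.comm_mul_left]
            exact hP2 _ (hcommP k x) _ (hcommP y x) hkx hyx
          by_cases hky : ⁅k * y, y⁆ ∈ T
          · have hmem : k * y ∈ K1 := ⟨K.mul_mem hk hyK, hkyx, hky⟩
            have h1 := hg _ hmem
            rw [c.comm_mul_right] at h1
            have h2 : ⁅g, k⁆ = ⁅g, k⁆ * ⁅g, y⁆ * ⁅g, y⁆⁻¹ := by group
            rw [h2]
            exact T.mul_mem h1 (T.inv_mem hgy)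
          · have hmem : k * y * x ∈ K1 := by
              refine ⟨K.mul_mem (K.mul_mem hk hyK) hxK, ?_, ?_⟩
              · rw [c.comm_mul_left, commElt_self, mul_one]; exact hkyx
              · rw [c.comm_mul_left]
                exact hP2 _ (hcommP _ y) _ (hcommP x y) hky hxy
            have h1 := hg _ hmem
            rw [c.comm_mul_right, c.comm_mul_right] at h1
            have h2 : ⁅g, k⁆ = ⁅g, k⁆ * ⁅g, y⁆ * ⁅g, x⁆ * (⁅g, x⁆⁻¹ * ⁅g, y⁆⁻¹) := by group
            rw [h2]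
            exact T.mul_mem h1 (T.mul_mem (T.inv_mem hgx') (T.inv_mem hgy))
      · rintro ⟨hgK, hg⟩
        exact ⟨⟨hgK, hg x hxK, hg y hyK⟩, fun k hk => hg k (hK1K hk)⟩
    obtain ⟨m, hm⟩ := ih (Nat.card K1) (by rw [← hKn]; exact hcard) K1 rfl
    refine ⟨m + 1, ?_⟩
    rw [← hrad, ← Subgroup.relIndex_mul_relIndex (c.rad T K1) K1 K (c.rad_le T K1) hK1K, hm, i3,
      pow_succ]

theorem Cfg.parity [Finite H] (c : Cfg H) (T P : Subgroup H)
    (hP2 : ∀ a ∈ P, ∀ b ∈ P, a ∉ T → b ∉ T → a * b ∈ T)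
    (hcommP : ∀ g h : H, ⁅g, h⁆ ∈ P) (K : Subgroup H) :
    ∃ m : ℕ, (c.rad T K).relIndex K = 4 ^ m :=
  c.parity_aux T P hP2 hcommP _ K rfl

end Cfsg.Agent.Lib.Helper3.ThreeInv
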