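import Mathlib
import Cfsg.Agent.Lib.Helper3.S64h
import Cfsg.Agent.Lib.Helper3.TI3f

set_option autoImplicit false

/-! # Groups of order 64 with a fixed-point-free automorphism of order three: generation -/

namespace Cfsg.Agent.Lib.Helper3.S64

open scoped commutatorElement
open Cfsg.Agent.Lib.Helper3.ThreeInv

/-- four distinct elements with a property satisfied by at most four elements exhaust it -/
theorem mem_of_four' {G : Type*} [Finite G] (P : G → Prop) (hcard : Nat.card {x : G // P x} ≤ 4)
    (e₁ e₂ e₃ e₄ : G) (h12 : e₁ ≠ e₂) (h13 : e₁ ≠ e₃) (h14 : e₁ ≠ e₄) (h23 : e₂ ≠ e₃)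
    (h24 : e₂ ≠ e₄) (h34 : e₃ ≠ e₄) (p1 : P e₁) (p2 : P e₂) (p3 : P e₃) (p4 : P e₄) (t : G)
    (ht : P t) : t = e₁ ∨ t = e₂ ∨ t = e₃ ∨ t = e₄ := by
  classical
  by_contra hcon
  push Not at hcon
  obtain ⟨n1, n2, n3, n4⟩ := hcon
  let f : Fin 5 → {x : G // P x} :=
    ![⟨e₁, p1⟩, ⟨e₂, p2⟩, ⟨e₃, p3⟩, ⟨e₄, p4⟩, ⟨t, ht⟩]
  have hf : Function.Injective f := by
    intro i j hij
    have h := congrArg Subtype.val hij
    fin_cases i <;> fin_cases j <;> simp [f] at h ⊢ <;> first
      | exact absurd h h12 | exact absurd h h13 | exact absurd h h14 | exact absurd h h23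
      | exact absurd h h24 | exact absurd h h34 | exact absurd h.symm h12
      | exact absurd h.symm h13 | exact absurd h.symm h14 | exact absurd h.symm h23
      | exact absurd h.symm h24 | exact absurd h.symm h34 | exact absurd h n1
      | exact absurd h n2 | exact absurd h n3 | exact absurd h n4 | exact absurd h.symm n1
      | exact absurd h.symm n2 | exact absurd h.symm n3 | exact absurd h.symm n4
  have := Nat.card_le_card_of_injective f hf
  rw [Nat.card_eq_fintype_card, Fintype.card_fin] at this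
  omega

variable {T : Type*} [Group T]

namespace Hyp

variable {ρ : MulAut T}

/-- the line through a vector of the central quotient -/
def onLine (_h : Hyp ρ) (v w : V T) : Prop :=
  w = 1 ∨ w = v ∨ w = bar ρ v ∨ w = bar ρ (bar ρ v)

/-- the elements of the centre -/
theorem center_cases (h : Hyp ρ) (z : T) (hz : z ∈ Subgroup.center T) (hz1 : z ≠ 1) (w : T)
    (hw : w ∈ Subgroup.center T) : w = 1 ∨ w = z ∨ w = ρ z ∨ w = ρ (ρ z) := by
  have hfin := h.finite
  have hρz : ρ z ≠ z := fun hc => hz1 (h.fpf.fpf z hc)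
  have hρρz : ρ (ρ z) ≠ ρ z := fun hc => hρz (ρ.injective hc)
  have hρρz' : ρ (ρ z) ≠ z := by
    intro hc
    apply hρz
    have := congrArg ρ hc
    rw [h.fpf.cube] at this
    exact this.symm
  have hρ1 : ρ z ≠ 1 := fun hc => hz1 (by
    have := congrArg (fun t => ρ (ρ t)) hc
    simp only [h.fpf.cube, map_one] at this
    exact this)
  have hρρ1 : ρ (ρ z) ≠ 1 := fun hc => hρ1 (by
    have := congrArg (fun t => ρ (ρ t)) hc
    simp only [h.fpf.cube, map_one] at this
    exact this)
  apply mem_of_four' (fun t => t ∈ Subgroup.center T) (by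
      have := h.card_center
      exact le_of_eq this) 1 z (ρ z) (ρ (ρ z)) (Ne.symm hz1) (Ne.symm hρ1) (Ne.symm hρρ1)
    (Ne.symm hρz) (Ne.symm hρρz') (Ne.symm hρρz) (Subgroup.one_mem _) hz (char_mem _ ρ hz)
    (char_mem _ ρ (char_mem _ ρ hz)) w hw

/-- two independent vectors generate -/
theorem closure_eq_top (h : Hyp ρ) (a b : T) (ha : (QuotientGroup.mk a : V T) ≠ 1)
    (hb : ¬ h.onLine (QuotientGroup.mk a) (QuotientGroup.mk b)) :
    Subgroup.closure ({a, ρ a, b, ρ b} ∪ (Subgroup.center T : Set T)) = ⊤ := by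
  have hfin := h.finite
  obtain ⟨K, hK⟩ : ∃ K, K = Subgroup.closure ({a, ρ a, b, ρ b} ∪ (Subgroup.center T : Set T)) :=
    ⟨_, rfl⟩
  rw [← hK]
  have haK : a ∈ K := by
    rw [hK]; apply Subgroup.subset_closure; left; simp
  have hρaK : ρ a ∈ K := by
    rw [hK]; apply Subgroup.subset_closure; left; simp
  have hbK : b ∈ K := by
    rw [hK]; apply Subgroup.subset_closure; left; simp
  have hρbK : ρ b ∈ K := by
    rw [hK]; apply Subgroup.subset_closure; left; simp
  have hZK : Subgroup.center T ≤ K := by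
    intro z hz
    rw [hK]; apply Subgroup.subset_closure; right; exact hz
  have hKρ : ∀ k ∈ K, ρ k ∈ K := by
    intro k hk
    rw [hK] at hk
    induction hk using Subgroup.closure_induction with
    | mem y hy =>
      rcases hy with hy | hy
      · simp only [Set.mem_insert_iff, Set.mem_singleton_iff] at hy
        rcases hy with rfl | rfl | rfl | rfl
        · exact hρaK
        · rw [h.fpf.rho_sq_eq]; exact K.inv_mem (K.mul_mem haK hρaK)
        · exact hρbK
        · rw [h.fpf.rho_sq_eq]; exact K.inv_mem (K.mul_mem hbK hρbK)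
      · exact hZK (char_mem _ ρ hy)
    | one => rw [map_one]; exact K.one_mem
    | mul y y' _ _ ihy ihy' => rw [map_mul]; exact K.mul_mem ihy ihy'
    | inv y _ ihy => rw [map_inv]; exact K.inv_mem ihy
  have hKcard := h.card_inv K hKρ
  -- the image in the central quotient
  have hker : (QuotientGroup.mk' (Subgroup.center T)).ker = Subgroup.center T :=
    QuotientGroup.ker_mk' _
  have h1 := Subgroup.relIndex_ker (K := K) (QuotientGroup.mk' (Subgroup.center T))
  rw [hker] at h1
  have h2 := card_mul_relIndex (Subgroup.center T) K hZK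
  rw [h.card_center, h1] at h2
  have h5 : 4 < Nat.card (K.map (QuotientGroup.mk' (Subgroup.center T))) := by
    by_contra hcon
    push Not at hcon
    apply hb
    have hcard' : Nat.card {v : V T // v ∈ K.map (QuotientGroup.mk' (Subgroup.center T))} ≤ 4 :=
      hcon
    have hm : ∀ t ∈ K, (QuotientGroup.mk t : V T) ∈ K.map (QuotientGroup.mk' (Subgroup.center T)) :=
      fun t ht => Subgroup.mem_map_of_mem _ ht
    exact mem_of_four' (fun v : V T => v ∈ K.map (QuotientGroup.mk' (Subgroup.center T))) hcard'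
      1 (QuotientGroup.mk a) (bar ρ (QuotientGroup.mk a)) (bar ρ (bar ρ (QuotientGroup.mk a)))
      (Ne.symm ha) (Ne.symm (h.bar_rho_ne_one _ ha))
      (Ne.symm (h.bar_rho_ne_one _ (h.bar_rho_ne_one _ ha)))
      (Ne.symm (h.bar_rho_ne _ ha)) (Ne.symm (h.bar_rho_sq_ne _ ha))
      (Ne.symm (h.bar_rho_ne _ (h.bar_rho_ne_one _ ha)))
      (Subgroup.one_mem _) (hm a haK) (hm _ hρaK) (hm _ (hKρ _ hρaK)) _ (hm b hbK)
  apply Subgroup.eq_top_of_card_eq
  rw [h.card]
  rcases hKcard with h6 | h6 | h6 | h6 <;> rw [h6] at h2 <;> omega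

/-- the commutator form is nondegenerate -/
theorem comm_ne_one (h : Hyp ρ) (a b : T) (ha : (QuotientGroup.mk a : V T) ≠ 1)
    (hb : ¬ h.onLine (QuotientGroup.mk a) (QuotientGroup.mk b)) : ⁅a, b⁆ ≠ 1 := by
  intro hc
  apply ha
  rw [mk_eq_one_iff]
  have htop := h.closure_eq_top a b ha hb
  have hle : Subgroup.closure ({a, ρ a, b, ρ b} ∪ (Subgroup.center T : Set T)) ≤
      Subgroup.centralizer {a} := by
    rw [Subgroup.closure_le]
    intro g hg
    rw [SetLike.mem_coe, Subgroup.mem_centralizer_singleton_iff]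
    rcases hg with hg | hg
    · simp only [Set.mem_insert_iff, Set.mem_singleton_iff] at hg
      rcases hg with rfl | rfl | rfl | rfl
      · rfl
      · exact ((commElt_eq_one_iff _ _).mp (h.comm_rho_self a)).symm
      · exact ((commElt_eq_one_iff _ _).mp hc).symm
      · have : ⁅a, ρ b⁆ = 1 := by rw [h.comm_rho_right, hc, map_one, map_one]
        exact ((commElt_eq_one_iff _ _).mp this).symm
    · exact (Subgroup.mem_center_iff.mp hg a).symm
  rw [htop] at hle
  rw [Subgroup.mem_center_iff]
  intro g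
  have := hle (Subgroup.mem_top g)
  rw [Subgroup.mem_centralizer_singleton_iff] at this
  exact this

end Hyp

end Cfsg.Agent.Lib.Helper3.S64
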