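import Mathlib
import Cfsg.Agent.Lib.Helper3.S64i

set_option autoImplicit false

/-! # Groups of order 64 with an action of the symmetric group of degree three: involutions -/

namespace Cfsg.Agent.Lib.Helper3.S64

open scoped commutatorElement
open Cfsg.Agent.Lib.Helper3.ThreeInv

variable {T : Type*} [Group T]

namespace Hyp

variable {ρ : MulAut T}

theorem bar_mul_eq (h : Hyp ρ) (v : V T) : v * bar ρ v = bar ρ (bar ρ v) := by
  have h1 := h.bar_prod3 v
  have h2 : v * bar ρ v = (bar ρ (bar ρ v))⁻¹ := eq_inv_of_mul_eq_one_left h1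
  rw [h2, h.V_inv]

theorem bar_mul_eq' (h : Hyp ρ) (v : V T) : v * bar ρ (bar ρ v) = bar ρ v := by
  rw [← h.bar_mul_eq v, ← mul_assoc, h.V_sq, one_mul]

theorem bar_mul_eq'' (h : Hyp ρ) (v : V T) : bar ρ v * bar ρ (bar ρ v) = v := by
  rw [← h.bar_mul_eq v, ← mul_assoc, h.V_comm (bar ρ v) v, mul_assoc, h.V_sq, mul_one]

/-- the line through a vector, as a subgroup -/
def Line (h : Hyp ρ) (v : V T) : Subgroup (V T) where
  carrier := {w | h.onLine v w}
  one_mem' := Or.inl rfl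
  mul_mem' := by
    intro a b ha hb
    rcases ha with rfl | rfl | rfl | rfl <;> rcases hb with rfl | rfl | rfl | rfl
    · left; rw [mul_one]
    · right; left; rw [one_mul]
    · right; right; left; rw [one_mul]
    · right; right; right; rw [one_mul]
    · right; left; rw [mul_one]
    · left; exact h.V_sq _
    · right; right; right; exact h.bar_mul_eq _
    · right; right; left; exact h.bar_mul_eq' _
    · right; right; left; rw [mul_one]
    · right; right; right; rw [h.V_comm]; exact h.bar_mul_eq _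
    · left; exact h.V_sq _
    · right; left; exact h.bar_mul_eq'' _
    · right; right; right; rw [mul_one]
    · right; right; left; rw [h.V_comm]; exact h.bar_mul_eq' _
    · right; left; rw [h.V_comm]; exact h.bar_mul_eq'' _
    · left; exact h.V_sq _
  inv_mem' := by
    intro a ha
    rw [h.V_inv]; exact ha

theorem mem_Line (h : Hyp ρ) (v w : V T) : w ∈ h.Line v ↔ h.onLine v w := Iff.rfl

theorem exists_not_onLine (h : Hyp ρ) (v : V T) : ∃ w : V T, ¬ h.onLine v w := by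
  have hfin := h.finite
  by_contra hcon
  push Not at hcon
  have hs : Function.Surjective (fun i : Fin 4 => (![1, v, bar ρ v, bar ρ (bar ρ v)] i : V T)) := by
    intro w
    rcases hcon w with rfl | rfl | rfl | rfl
    · exact ⟨0, rfl⟩
    · exact ⟨1, rfl⟩
    · exact ⟨2, rfl⟩
    · exact ⟨3, rfl⟩
  have := Nat.card_le_card_of_surjective _ hs
  rw [h.card_V] at this
  simp at this

/-- a second class of involutions -/
theorem exists_second (h : Hyp ρ) (u : T) (hu : (QuotientGroup.mk u : V T) ≠ 1) (hu2 : u ^ 2 = 1) :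
    ∃ v : T, v ^ 2 = 1 ∧ ¬ h.onLine (QuotientGroup.mk u) (QuotientGroup.mk v) := by
  have hfin := h.finite
  obtain ⟨w, hw⟩ := h.exists_not_onLine (QuotientGroup.mk u)
  obtain ⟨t, rfl⟩ := QuotientGroup.mk_surjective w
  have hz1 : ⁅u, t⁆ ≠ 1 := h.comm_ne_one u t hu hw
  have hzZ : ⁅u, t⁆ ∈ Subgroup.center T := h.comm_mem_center u t
  have hw0 := h.sq_mem_center t
  -- a general computation
  have key : ∀ u' : T, u' ^ 2 = 1 → (QuotientGroup.mk u' : V T) ∈ h.Line (QuotientGroup.mk u) →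
      ⁅u', t⁆ = t ^ 2 → ∃ v : T, v ^ 2 = 1 ∧ ¬ h.onLine (QuotientGroup.mk u) (QuotientGroup.mk v) := by
    intro u' hu'2 hu'L hc
    refine ⟨u' * t, ?_, ?_⟩
    · rw [h.mul_sq, hu'2, one_mul, hc, ← pow_two]
      have := h.center_sq _ hw0
      exact this
    · intro hon
      apply hw
      have h1 : (QuotientGroup.mk (u' * t) : V T) ∈ h.Line (QuotientGroup.mk u) := hon
      rw [QuotientGroup.mk_mul] at h1
      have h2 := (h.Line (QuotientGroup.mk u)).mul_mem ((h.Line (QuotientGroup.mk u)).inv_mem hu'L) h1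
      rw [inv_mul_cancel_left] at h2
      exact h2
  rcases h.center_cases _ hzZ hz1 _ hw0 with h1 | h1 | h1 | h1
  · exact key 1 (one_pow 2) (Subgroup.one_mem _) (by rw [commElt_one_left, h1])
  · exact key u hu2 (Or.inr (Or.inl rfl)) h1.symm
  · refine key (ρ (ρ u)) (by rw [← map_pow, ← map_pow, hu2, map_one, map_one])
      (Or.inr (Or.inr (Or.inr rfl))) ?_
    rw [h.comm_rho_left, h.comm_rho_left, h.fpf.cube, h1]
  · refine key (ρ u) (by rw [← map_pow, hu2, map_one]) (Or.inr (Or.inr (Or.inl rfl))) ?_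
    rw [h.comm_rho_left, h1]

end Hyp

namespace Hyp2

variable {ρ x : MulAut T}

/-- the fixed points of the involution form a group of order eight -/
theorem card_fixSub (h : Hyp2 ρ x) : Nat.card (fixSub x) = 8 := by
  have hfin := h.finite
  let g : fixSub x →* V T := (QuotientGroup.mk' (Subgroup.center T)).comp (fixSub x).subtype
  have hg : ∀ c : fixSub x, g c = (QuotientGroup.mk (c : T) : V T) := fun c => rfl
  have hrange : g.range = h.Fb := by
    ext v
    constructor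
    · rintro ⟨c, rfl⟩
      rw [h.mem_Fb, hg, bar_mk]
      have : x (c : T) = c := c.2
      rw [this]
    · intro hv
      obtain ⟨c, hc, hcv⟩ := h.exists_lift v hv
      exact ⟨⟨c, hc⟩, hcv⟩
  have hker : g.ker.map (fixSub x).subtype = h.Z0 := by
    ext y
    rw [Subgroup.mem_map]
    constructor
    · rintro ⟨c, hc, rfl⟩
      rw [MonoidHom.mem_ker, hg, mk_eq_one_iff] at hc
      exact ⟨c.2, hc⟩
    · rintro ⟨hy1, hy2⟩
      refine ⟨⟨y, hy1⟩, ?_, rfl⟩
      rw [MonoidHom.mem_ker, hg, mk_eq_one_iff]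
      exact hy2
  have h1 := Subgroup.card_mul_index g.ker
  rw [Subgroup.index_ker, hrange, h.card_Fb.1] at h1
  have h2 : Nat.card g.ker = 2 := by
    rw [← h.card_Z0, ← hker, Subgroup.card_map_of_injective (Subgroup.subtype_injective _)]
  rw [h2] at h1
  omega

/-- two fixed points which do not commute -/
theorem exists_noncomm (h : Hyp2 ρ x) : ∃ a b : T, x a = a ∧ x b = b ∧ ⁅a, b⁆ ≠ 1 := by
  have hfin := h.finite
  have hc4 := h.card_Fb.1
  have hnt : Nontrivial h.Fb := by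
    rw [← Finite.one_lt_card_iff_nontrivial, hc4]; norm_num
  obtain ⟨v1', hv1'⟩ := exists_ne (1 : h.Fb)
  obtain ⟨v1, hv1F⟩ := v1'
  have hv1 : v1 ≠ 1 := fun hc => hv1' (Subtype.ext hc)
  have hex : ∃ v2 ∈ h.Fb, v2 ≠ 1 ∧ v2 ≠ v1 := by
    by_contra hcon
    push Not at hcon
    have hle : h.Fb ≤ Subgroup.zpowers v1 := by
      intro v hv
      by_cases hv1' : v = 1
      · rw [hv1']; exact Subgroup.one_mem _
      · rw [hcon v hv hv1']; exact Subgroup.mem_zpowers v1
    have h1 := Subgroup.card_le_of_le hle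
    rw [hc4, Nat.card_zpowers] at h1
    have h2 : orderOf v1 ≤ 2 := orderOf_le_of_pow_eq_one (by norm_num) (by
      rw [pow_two]; exact h.V_sq v1)
    omega
  obtain ⟨v2, hv2F, hv21, hv2v1⟩ := hex
  obtain ⟨a, hxa, hav⟩ := h.exists_lift v1 hv1F
  obtain ⟨b, hxb, hbv⟩ := h.exists_lift v2 hv2F
  refine ⟨a, b, hxa, hxb, ?_⟩
  apply h.comm_ne_one a b (by rw [hav]; exact hv1)
  rw [hav, hbv]
  have hf1 : bar x v1 = v1 := hv1F
  have hf2 : bar x v2 = v2 := hv2F
  rintro (h1 | h1 | h1 | h1)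
  · exact hv21 h1
  · exact hv2v1 h1
  · rw [h1, h.barx_rho, hf1] at hf2
    exact h.bar_rho_ne v1 hv1 (h.bar_rho_injective hf2)
  · rw [h1, h.barx_rho, h.barx_rho, hf1, h.bar_cube] at hf2
    exact h.bar_rho_ne v1 hv1 (h.bar_rho_injective hf2).symm

/-- an involution outside the centre -/
theorem exists_involution (h : Hyp2 ρ x) : ∃ u : T, (QuotientGroup.mk u : V T) ≠ 1 ∧ u ^ 2 = 1 := by
  have hfin := h.finite
  obtain ⟨a, b, hxa, hxb, hab⟩ := h.exists_noncomm
  have haZ : a ∉ Subgroup.center T := by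
    intro hc
    exact hab (commElt_of_central_left hc b)
  have hbZ : b ∉ Subgroup.center T := by
    intro hc
    exact hab (commElt_of_central_right hc a)
  by_cases ha2 : a ^ 2 = 1
  · exact ⟨a, by rw [Ne, mk_eq_one_iff]; exact haZ, ha2⟩
  by_cases hb2 : b ^ 2 = 1
  · exact ⟨b, by rw [Ne, mk_eq_one_iff]; exact hbZ, hb2⟩
  -- all three lie in `Z0`
  have h1 : a ^ 2 ∈ h.Z0 := ⟨by show x (a ^ 2) = a ^ 2; rw [map_pow, hxa], h.sq_mem_center a⟩
  have h2 : b ^ 2 ∈ h.Z0 := ⟨by show x (b ^ 2) = b ^ 2; rw [map_pow, hxb], h.sq_mem_center b⟩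
  have h3 : ⁅a, b⁆ ∈ h.Z0 :=
    ⟨by show x ⁅a, b⁆ = ⁅a, b⁆; rw [map_commElt, hxa, hxb], h.comm_mem_center a b⟩
  have e1 : a ^ 2 = ⁅a, b⁆ := h.Z0_eq h1 h3 ha2 hab
  have e2 : b ^ 2 = ⁅a, b⁆ := h.Z0_eq h2 h3 hb2 hab
  obtain ⟨z, hz⟩ : ∃ z, z = ⁅a, b⁆ := ⟨_, rfl⟩
  have hzZ : z ∈ Subgroup.center T := hz ▸ h.comm_mem_center a b
  refine ⟨ρ a * b, ?_, ?_⟩
  · rw [Ne, mk_eq_one_iff]
    intro hc
    have h4 := commElt_of_central_left hc a
    rw [h.comm_mul_left, h.comm_symm a (ρ a), h.comm_rho_self, one_mul, h.comm_symm] at h4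
    exact hab h4
  · rw [h.mul_sq, ← map_pow, e1, e2, h.comm_rho_left, ← hz]
    have h5 := h.fpf.prod3 z
    have hc1 : z * ρ z = ρ z * z := (Subgroup.mem_center_iff.mp hzZ (ρ z)).symm
    calc ρ z * z * ρ (ρ z) = z * ρ z * ρ (ρ z) := by rw [hc1]
      _ = 1 := h5

end Hyp2

end Cfsg.Agent.Lib.Helper3.S64
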