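import Mathlib

namespace Cfsg.Agent.Lib.Helper3.S64

/-- the field with four elements, as pairs over the field with two elements -/
structure F4 where
  x : ZMod 2
  y : ZMod 2
deriving DecidableEq, Fintype

namespace F4

instance : Zero F4 := ⟨⟨0, 0⟩⟩
instance : One F4 := ⟨⟨1, 0⟩⟩
instance : Add F4 := ⟨fun a b => ⟨a.x + b.x, a.y + b.y⟩⟩
instance : Neg F4 := ⟨fun a => a⟩
instance : Mul F4 := ⟨fun a b => ⟨a.x * b.x + a.y * b.y, a.x * b.y + a.y * b.x + a.y * b.y⟩⟩
instance : Inv F4 := ⟨fun a => ⟨a.x + a.y, a.y⟩⟩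

theorem card : Fintype.card F4 = 4 := by decide

instance : CommRing F4 where
  add_assoc := by decide
  zero_add := by decide
  add_zero := by decide
  add_comm := by decide
  neg_add_cancel := by decide
  mul_assoc := by decide
  one_mul := by decide
  mul_one := by decide
  left_distrib := by decide
  right_distrib := by decide
  mul_comm := by decide
  zero_mul := by decide
  mul_zero := by decide
  nsmul := nsmulRec
  zsmul := zsmulRec

instance : Field F4 where
  exists_pair_ne := ⟨0, 1, by decide⟩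
  mul_inv_cancel := by decide
  inv_zero := by decide
  nnqsmul := _
  nnqsmul_def := fun _ _ => rfl
  qsmul := _
  qsmul_def := fun _ _ => rfl

end F4

/-- the Heisenberg group over a commutative ring -/
@[ext] structure Heis (R : Type*) where
  a : R
  b : R
  c : R

namespace Heis

variable {R : Type*} [CommRing R]

instance : Mul (Heis R) := ⟨fun p q => ⟨p.a + q.a, p.b + q.b, p.c + q.c + q.a * p.b⟩⟩
instance : One (Heis R) := ⟨⟨0, 0, 0⟩⟩
instance : Inv (Heis R) := ⟨fun p => ⟨-p.a, -p.b, -p.c + p.a * p.b⟩⟩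

theorem mul_def (p q : Heis R) : p * q = ⟨p.a + q.a, p.b + q.b, p.c + q.c + q.a * p.b⟩ := rfl
theorem one_def : (1 : Heis R) = ⟨0, 0, 0⟩ := rfl
theorem inv_def (p : Heis R) : p⁻¹ = ⟨-p.a, -p.b, -p.c + p.a * p.b⟩ := rfl

instance : Group (Heis R) where
  mul_assoc := by
    intro p q r
    ext <;> simp only [mul_def] <;> ring
  one_mul := by
    intro p
    ext <;> simp only [mul_def, one_def] <;> ring
  mul_one := by
    intro p
    ext <;> simp only [mul_def, one_def] <;> ring
  inv_mul_cancel := by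
    intro p
    ext <;> simp only [mul_def, one_def, inv_def] <;> ring

/-- the coordinates -/
def equivProd : Heis R ≃ R × R × R where
  toFun p := (p.a, p.b, p.c)
  invFun t := ⟨t.1, t.2.1, t.2.2⟩
  left_inv _ := rfl
  right_inv _ := rfl

omit [CommRing R] in
theorem card_eq [Finite R] : Nat.card (Heis R) = Nat.card R * (Nat.card R * Nat.card R) := by
  rw [Nat.card_congr equivProd, Nat.card_prod, Nat.card_prod]

instance [Finite R] : Finite (Heis R) := Finite.of_equiv _ equivProd.symm

/-- the unitriangular matrices -/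
def toSL : Heis R →* Matrix.SpecialLinearGroup (Fin 3) R where
  toFun p := ⟨!![1, p.b, p.c; 0, 1, p.a; 0, 0, 1], by simp [Matrix.det_fin_three]⟩
  map_one' := by
    ext i j
    fin_cases i <;> fin_cases j <;> simp [one_def]
  map_mul' := by
    intro p q
    apply Subtype.ext
    show !![1, (p * q).b, (p * q).c; 0, 1, (p * q).a; 0, 0, 1] =
      !![1, p.b, p.c; 0, 1, p.a; 0, 0, 1] * !![1, q.b, q.c; 0, 1, q.a; 0, 0, 1]
    ext i j
    fin_cases i <;> fin_cases j <;>
      simp [mul_def, Matrix.mul_apply, Fin.sum_univ_three]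
    all_goals ring

theorem toSL_apply (p : Heis R) :
    (toSL p : Matrix (Fin 3) (Fin 3) R) = !![1, p.b, p.c; 0, 1, p.a; 0, 0, 1] := rfl

theorem eq_one_of_toSL_mem_center (p : Heis R)
    (hp : toSL p ∈ Subgroup.center (Matrix.SpecialLinearGroup (Fin 3) R)) : p = 1 := by
  rw [Matrix.SpecialLinearGroup.mem_center_iff] at hp
  obtain ⟨r, -, hr⟩ := hp
  have h1 : (Matrix.scalar (Fin 3) r) = (toSL p : Matrix (Fin 3) (Fin 3) R) := by rw [hr]
  rw [toSL_apply] at h1
  have e01 := congrFun (congrFun h1 0) 1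
  have e02 := congrFun (congrFun h1 0) 2
  have e12 := congrFun (congrFun h1 1) 2
  simp at e01 e02 e12
  ext
  · rw [one_def]; exact e12.symm
  · rw [one_def]; exact e01.symm
  · rw [one_def]; exact e02.symm

/-- into the projective group -/
def toPSL : Heis R →* Matrix.ProjectiveSpecialLinearGroup (Fin 3) R :=
  (QuotientGroup.mk' _).comp toSL

theorem toPSL_injective : Function.Injective (toPSL : Heis R →* _) := by
  rw [injective_iff_map_eq_one]
  intro p hp
  apply eq_one_of_toSL_mem_center
  have : (QuotientGroup.mk (toSL p) : Matrix.SpecialLinearGroup (Fin 3) R ⧸ Subgroup.center _) = 1 := hp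
  rwa [QuotientGroup.eq_one_iff] at this

end Heis


open Matrix in
theorem exists_sylow_F4 :
    ∃ S : Sylow 2 (Matrix.ProjectiveSpecialLinearGroup (Fin 3) F4),
      Nonempty (Heis F4 ≃*
        ↥(S : Subgroup (Matrix.ProjectiveSpecialLinearGroup (Fin 3) F4))) := by
  classical
  obtain ⟨P, hPdef⟩ : ∃ P : Subgroup (Matrix.ProjectiveSpecialLinearGroup (Fin 3) F4),
      P = (Heis.toPSL : Heis F4 →* _).range := ⟨_, rfl⟩
  have hfinSL : Finite (Matrix.SpecialLinearGroup (Fin 3) F4) := inferInstance
  have hfin : Finite (Matrix.ProjectiveSpecialLinearGroup (Fin 3) F4) := by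
    unfold Matrix.ProjectiveSpecialLinearGroup
    infer_instance
  have hP : Nat.card P = 64 := by
    rw [hPdef, Nat.card_congr (MonoidHom.ofInjective Heis.toPSL_injective).symm.toEquiv,
      Heis.card_eq, Nat.card_eq_fintype_card, F4.card]
  have hp : IsPGroup 2 P := IsPGroup.of_card (n := 6) (by rw [hP]; norm_num)
  obtain ⟨S, hS⟩ := hp.exists_le_sylow
  have hGL : Nat.card (GL (Fin 3) F4) = 181440 := by
    rw [Matrix.card_GL_field, F4.card]
    simp [Fin.prod_univ_three]
  have h1 : Nat.card (Matrix.ProjectiveSpecialLinearGroup (Fin 3) F4) ∣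
      Nat.card (Matrix.SpecialLinearGroup (Fin 3) F4) := Subgroup.card_quotient_dvd_card _
  have h2 : Nat.card (Matrix.SpecialLinearGroup (Fin 3) F4) ∣ Nat.card (GL (Fin 3) F4) :=
    Subgroup.card_dvd_of_injective _ Matrix.SpecialLinearGroup.toGL_injective
  have h3 : Nat.card (S : Subgroup (Matrix.ProjectiveSpecialLinearGroup (Fin 3) F4)) ∣ 181440 := by
    rw [← hGL]
    exact ((Subgroup.card_subgroup_dvd_card _).trans h1).trans h2
  obtain ⟨k, hk⟩ := S.isPGroup'.exists_card_eq
  have hk6 : k ≤ 6 := by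
    by_contra hlt
    push Not at hlt
    have : 2 ^ 7 ∣ 2 ^ k := pow_dvd_pow 2 hlt
    rw [← hk] at this
    have := this.trans h3
    norm_num at this
  have hle : Nat.card (S : Subgroup (Matrix.ProjectiveSpecialLinearGroup (Fin 3) F4)) ≤ Nat.card P := by
    rw [hk, hP]
    calc 2 ^ k ≤ 2 ^ 6 := Nat.pow_le_pow_right (by norm_num) hk6
      _ = 64 := by norm_num
  have heq : P = (S : Subgroup _) := Subgroup.eq_of_le_of_card_ge hS hle
  refine ⟨S, ⟨?_⟩⟩
  exact (MonoidHom.ofInjective Heis.toPSL_injective).trans (MulEquiv.subgroupCongr (hPdef ▸ heq))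

end Cfsg.Agent.Lib.Helper3.S64
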