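import Mathlib
import Cfsg.Agent.Lib.Helper3.S64j
import Cfsg.Agent.Lib.Helper3.S64k

namespace Cfsg.Agent.Lib.Helper3.S64

open scoped commutatorElement
open Cfsg.Agent.Lib.Helper3.ThreeInv

variable {T : Type*} [Group T]

/-- a power with exponent in the field with two elements -/
def ep (g : T) (s : ZMod 2) : T := g ^ s.val

theorem zmod2_cases (s : ZMod 2) : s = 0 ∨ s = 1 := by
  revert s
  decide

theorem ep_zero (g : T) : ep g 0 = 1 := by
  unfold ep
  rw [ZMod.val_zero, pow_zero]

theorem ep_one (g : T) : ep g 1 = g := by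
  unfold ep
  have : (1 : ZMod 2).val = 1 := rfl
  rw [this, pow_one]

theorem ep_add (g : T) (hg : g ^ 2 = 1) (s t : ZMod 2) : ep g (s + t) = ep g s * ep g t := by
  rcases zmod2_cases s with rfl | rfl <;> rcases zmod2_cases t with rfl | rfl
  · rw [add_zero, ep_zero, mul_one]
  · rw [zero_add, ep_zero, one_mul]
  · rw [add_zero, ep_zero, mul_one]
  · have : (1 : ZMod 2) + 1 = 0 := by decide
    rw [this, ep_zero, ep_one, ← pow_two, hg]

theorem ep_commute (g k : T) (hgk : g * k = k * g) (s t : ZMod 2) :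
    ep g s * ep k t = ep k t * ep g s :=
  Commute.pow_pow hgk _ _

theorem ep_mem (g : T) (K : Subgroup T) (hg : g ∈ K) (s : ZMod 2) : ep g s ∈ K :=
  K.pow_mem hg _

/-- a map from the field with four elements -/
def lin (g k : T) (a : F4) : T := ep g a.x * ep k a.y

theorem lin_zero (g k : T) : lin g k 0 = 1 := by
  show ep g 0 * ep k 0 = 1
  rw [ep_zero, ep_zero, mul_one]

theorem lin_one (g k : T) : lin g k 1 = g := by
  show ep g 1 * ep k 0 = g
  rw [ep_zero, ep_one, mul_one]

/-- the generator of the field -/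
def F4.ω : F4 := ⟨0, 1⟩

theorem lin_ω (g k : T) : lin g k F4.ω = k := by
  show ep g 0 * ep k 1 = k
  rw [ep_zero, ep_one, one_mul]

theorem lin_add (g k : T) (hg : g ^ 2 = 1) (hk : k ^ 2 = 1) (hgk : g * k = k * g) (a b : F4) :
    lin g k (a + b) = lin g k a * lin g k b := by
  show ep g (a.x + b.x) * ep k (a.y + b.y) = ep g a.x * ep k a.y * (ep g b.x * ep k b.y)
  rw [ep_add g hg, ep_add k hk]
  calc ep g a.x * ep g b.x * (ep k a.y * ep k b.y)
      = ep g a.x * (ep g b.x * ep k a.y) * ep k b.y := by simp only [mul_assoc]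
    _ = ep g a.x * (ep k a.y * ep g b.x) * ep k b.y := by rw [ep_commute g k hgk]
    _ = ep g a.x * ep k a.y * (ep g b.x * ep k b.y) := by simp only [mul_assoc]

theorem lin_mem (g k : T) (K : Subgroup T) (hg : g ∈ K) (hk : k ∈ K) (a : F4) : lin g k a ∈ K :=
  K.mul_mem (ep_mem g K hg _) (ep_mem k K hk _)

theorem F4.cases (a : F4) : a = 0 ∨ a = 1 ∨ a = F4.ω ∨ a = 1 + F4.ω := by
  revert a
  decide

theorem F4.ω_mul_ω : F4.ω * F4.ω = 1 + F4.ω := by decide

/-- two additive maps agreeing on the generators agree -/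
theorem F4.hom_ext (f f' : F4 → T) (hf : ∀ a b, f (a + b) = f a * f b)
    (hf' : ∀ a b, f' (a + b) = f' a * f' b) (h1 : f 1 = f' 1) (hω : f F4.ω = f' F4.ω) (a : F4) :
    f a = f' a := by
  have h0 : f 0 = f' 0 := by
    have e1 : f 0 = 1 := by
      have := hf 0 0
      rw [add_zero] at this
      exact (mul_eq_left).mp this.symm
    have e2 : f' 0 = 1 := by
      have := hf' 0 0
      rw [add_zero] at this
      exact (mul_eq_left).mp this.symm
    rw [e1, e2]
  rcases F4.cases a with rfl | rfl | rfl | rfl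
  · exact h0
  · exact h1
  · exact hω
  · rw [hf, hf', h1, hω]

end Cfsg.Agent.Lib.Helper3.S64
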