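import Mathlib
import Cfsg.Agent.Lib.Helper3.S64l

namespace Cfsg.Agent.Lib.Helper3.S64

open scoped commutatorElement
open Cfsg.Agent.Lib.Helper3.ThreeInv

variable {T : Type*} [Group T]

theorem heis_mul {X X' Y Y' Z1 Z2 Z3 : T} (h1 : ∀ g, Z1 * g = g * Z1)
    (h3 : ∀ g, Z3 * g = g * Z3) (hYX : Y * X' = Z3 * (X' * Y)) :
    X * Y * Z1 * (X' * Y' * Z2) = X * X' * (Y * Y') * (Z1 * Z2 * Z3) := by
  have e1 : Z1 * (X' * Y' * Z2) = X' * Y' * Z2 * Z1 := h1 _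
  calc X * Y * Z1 * (X' * Y' * Z2) = X * Y * (Z1 * (X' * Y' * Z2)) := by rw [mul_assoc]
    _ = X * Y * (X' * Y' * Z2 * Z1) := by rw [e1]
    _ = X * (Y * X') * (Y' * Z2 * Z1) := by simp only [mul_assoc]
    _ = X * (Z3 * (X' * Y)) * (Y' * Z2 * Z1) := by rw [hYX]
    _ = X * ((X' * Y) * Z3) * (Y' * Z2 * Z1) := by rw [h3]
    _ = X * X' * (Y * (Z3 * (Y' * Z2 * Z1))) := by simp only [mul_assoc]
    _ = X * X' * (Y * ((Y' * Z2 * Z1) * Z3)) := by rw [h3]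
    _ = X * X' * (Y * Y') * (Z2 * Z1 * Z3) := by simp only [mul_assoc]
    _ = X * X' * (Y * Y') * (Z1 * Z2 * Z3) := by rw [← h1 Z2]

/-- the map from the Heisenberg group -/
def phiFun (ρ : MulAut T) (u v : T) (p : Heis F4) : T :=
  lin u (ρ u) p.a * lin v (ρ v) p.b * lin ⁅u, v⁆ (ρ (ρ ⁅u, v⁆)) p.c

namespace Hyp

variable {ρ : MulAut T}

theorem rho_sq (_h : Hyp ρ) (g : T) (hg : g ^ 2 = 1) : (ρ g) ^ 2 = 1 := by
  rw [← map_pow, hg, map_one]

theorem rho_center (_h : Hyp ρ) (g : T) (hg : g ∈ Subgroup.center T) : ρ g ∈ Subgroup.center T :=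
  char_mem (Subgroup.center T) ρ hg

theorem rho_eq_mul (h : Hyp ρ) (z : T) (hz : z ∈ Subgroup.center T) : ρ z = z * ρ (ρ z) := by
  have := h.finite
  have h3 := h.fpf.prod3 z
  have hz2 := h.center_sq z hz
  have hw2 := h.center_sq _ (h.rho_center _ (h.rho_center _ hz))
  have hc : ρ z * z = z * ρ z := (Subgroup.mem_center_iff.mp hz (ρ z))
  -- z * ρ z * ρρz = 1
  have e1 : ρ z = z⁻¹ * (ρ (ρ z))⁻¹ := by
    have : z * ρ z * ρ (ρ z) = 1 := h3
    calc ρ z = z⁻¹ * (z * ρ z * ρ (ρ z)) * (ρ (ρ z))⁻¹ := by group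
      _ = z⁻¹ * (ρ (ρ z))⁻¹ := by rw [this, mul_one]
  have i1 : z⁻¹ = z := by
    rw [inv_eq_iff_mul_eq_one, ← pow_two, hz2]
  have i2 : (ρ (ρ z))⁻¹ = ρ (ρ z) := by
    rw [inv_eq_iff_mul_eq_one, ← pow_two, hw2]
  rw [i1, i2] at e1
  exact e1

section frame

variable (h : Hyp ρ) (u v : T)

include h in
theorem lin_u_add (hu : u ^ 2 = 1) (a b : F4) :
    lin u (ρ u) (a + b) = lin u (ρ u) a * lin u (ρ u) b := by
  have := h.finite
  exact lin_add u (ρ u) hu (h.rho_sq u hu) (h.fpf.comm u) a b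

include h in
theorem lin_z_add (z : T) (hz : z ∈ Subgroup.center T) (a b : F4) :
    lin z (ρ (ρ z)) (a + b) = lin z (ρ (ρ z)) a * lin z (ρ (ρ z)) b :=
  lin_add z (ρ (ρ z)) (h.center_sq z hz) (h.center_sq _ (h.rho_center _ (h.rho_center _ hz)))
    ((Subgroup.mem_center_iff.mp hz _).symm) a b

include h in
theorem lin_z_center (z : T) (hz : z ∈ Subgroup.center T) (a : F4) :
    lin z (ρ (ρ z)) a ∈ Subgroup.center T :=
  lin_mem _ _ _ hz (h.rho_center _ (h.rho_center _ hz)) a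

include h in
/-- the commutator pairing in coordinates -/
theorem comm_lin (hu : u ^ 2 = 1) (hv : v ^ 2 = 1) (a b : F4) :
    ⁅lin v (ρ v) b, lin u (ρ u) a⁆ = lin ⁅u, v⁆ (ρ (ρ ⁅u, v⁆)) (a * b) := by
  have hz : ⁅u, v⁆ ∈ Subgroup.center T := h.comm_mem_center u v
  have hCadd := h.lin_z_add ⁅u, v⁆ hz
  have hAadd := h.lin_u_add u hu
  have hBadd := h.lin_u_add v hv
  -- first reduce in `a`
  revert a
  apply F4.hom_ext
  · intro a a'
    rw [hAadd, h.comm_mul_right]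
  · intro a a'
    rw [add_mul, hCadd]
  · -- a = 1
    rw [lin_one, one_mul]
    revert b
    apply F4.hom_ext
    · intro b b'
      rw [hBadd, h.comm_mul_left]
    · exact hCadd
    · rw [lin_one, lin_one, h.comm_symm u v]
    · rw [lin_ω, lin_ω, h.comm_rho_left, h.comm_symm u v]
  · -- a = ω
    rw [lin_ω]
    revert b
    apply F4.hom_ext
    · intro b b'
      rw [hBadd, h.comm_mul_left]
    · intro b b'
      rw [mul_add, hCadd]
    · rw [lin_one, mul_one, lin_ω, h.comm_rho_right, h.comm_symm u v]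
    · rw [lin_ω, F4.ω_mul_ω, hCadd, lin_one, lin_ω, h.comm_rho_rho, h.comm_symm u v]
      exact h.rho_eq_mul _ hz

include h in
theorem phiFun_mul (hu : u ^ 2 = 1) (hv : v ^ 2 = 1) (p q : Heis F4) :
    phiFun ρ u v (p * q) = phiFun ρ u v p * phiFun ρ u v q := by
  have hz : ⁅u, v⁆ ∈ Subgroup.center T := h.comm_mem_center u v
  have hcen : ∀ (c : F4) (g : T), lin ⁅u, v⁆ (ρ (ρ ⁅u, v⁆)) c * g = g * lin ⁅u, v⁆ (ρ (ρ ⁅u, v⁆)) c :=
    fun c g => (Subgroup.mem_center_iff.mp (h.lin_z_center _ hz c) g).symm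
  have hYX : lin v (ρ v) p.b * lin u (ρ u) q.a =
      lin ⁅u, v⁆ (ρ (ρ ⁅u, v⁆)) (q.a * p.b) * (lin u (ρ u) q.a * lin v (ρ v) p.b) := by
    rw [← h.comm_lin u v hu hv, commutatorElement_def]
    group
  show lin u (ρ u) (p.a + q.a) * lin v (ρ v) (p.b + q.b) *
      lin ⁅u, v⁆ (ρ (ρ ⁅u, v⁆)) (p.c + q.c + q.a * p.b) = _
  rw [h.lin_u_add u hu, h.lin_u_add v hv, h.lin_z_add _ hz, h.lin_z_add _ hz]
  exact (heis_mul (hcen p.c) (hcen (q.a * p.b)) hYX).symm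

end frame

/-- the homomorphism from the Heisenberg group -/
def phi (h : Hyp ρ) (u v : T) (hu : u ^ 2 = 1) (hv : v ^ 2 = 1) : Heis F4 →* T :=
  MonoidHom.mk' (phiFun ρ u v) (h.phiFun_mul u v hu hv)

theorem phi_apply (h : Hyp ρ) (u v : T) (hu : u ^ 2 = 1) (hv : v ^ 2 = 1) (p : Heis F4) :
    h.phi u v hu hv p =
      lin u (ρ u) p.a * lin v (ρ v) p.b * lin ⁅u, v⁆ (ρ (ρ ⁅u, v⁆)) p.c := rfl

theorem phi_surjective (h : Hyp ρ) (u v : T) (hu : u ^ 2 = 1) (hv : v ^ 2 = 1)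
    (hu1 : (QuotientGroup.mk u : V T) ≠ 1)
    (hline : ¬ h.onLine (QuotientGroup.mk u) (QuotientGroup.mk v)) :
    Function.Surjective (h.phi u v hu hv) := by
  rw [← MonoidHom.range_eq_top, eq_top_iff, ← h.closure_eq_top u v hu1 hline, Subgroup.closure_le]
  have hz : ⁅u, v⁆ ∈ Subgroup.center T := h.comm_mem_center u v
  have hz1 : ⁅u, v⁆ ≠ 1 := h.comm_ne_one u v hu1 hline
  have m1 : ⁅u, v⁆ ∈ (h.phi u v hu hv).range :=
    ⟨⟨0, 0, 1⟩, by rw [phi_apply]; simp only [lin_zero, lin_one, one_mul]⟩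
  have m2 : ρ (ρ ⁅u, v⁆) ∈ (h.phi u v hu hv).range :=
    ⟨⟨0, 0, F4.ω⟩, by rw [phi_apply]; simp only [lin_zero, lin_ω, one_mul]⟩
  intro g hg
  rcases hg with hg | hg
  · rcases hg with rfl | rfl | rfl | rfl
    · exact ⟨⟨1, 0, 0⟩, by rw [phi_apply]; simp only [lin_zero, lin_one, mul_one]⟩
    · exact ⟨⟨F4.ω, 0, 0⟩, by rw [phi_apply]; simp only [lin_zero, lin_ω, mul_one]⟩
    · exact ⟨⟨0, 1, 0⟩, by rw [phi_apply]; simp only [lin_zero, lin_one, mul_one, one_mul]⟩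
    · exact ⟨⟨0, F4.ω, 0⟩, by rw [phi_apply]; simp only [lin_zero, lin_ω, mul_one, one_mul]⟩
  · rcases h.center_cases _ hz hz1 g hg with rfl | rfl | rfl | rfl
    · exact Subgroup.one_mem _
    · exact m1
    · rw [h.rho_eq_mul _ hz]
      exact Subgroup.mul_mem _ m1 m2
    · exact m2

/-- the group is the Heisenberg group over the field with four elements -/
theorem exists_equiv_heis (h : Hyp ρ) (u v : T) (hu : u ^ 2 = 1) (hv : v ^ 2 = 1)
    (hu1 : (QuotientGroup.mk u : V T) ≠ 1)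
    (hline : ¬ h.onLine (QuotientGroup.mk u) (QuotientGroup.mk v)) :
    Nonempty (T ≃* Heis F4) := by
  have hsurj := h.phi_surjective u v hu hv hu1 hline
  have hcard : Nat.card (Heis F4) = Nat.card T := by
    rw [Heis.card_eq, Nat.card_eq_fintype_card, F4.card, h.card]
  have hbij : Function.Bijective (h.phi u v hu hv) :=
    (Nat.bijective_iff_surjective_and_card _).mpr ⟨hsurj, hcard⟩
  exact ⟨(MulEquiv.ofBijective _ hbij).symm⟩

end Hyp

end Cfsg.Agent.Lib.Helper3.S64
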