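import Mathlib
import Cfsg.Agent.Lib.Helper3.S64m
import Cfsg.Agent.Lib.Helper3.S64n

namespace Cfsg.Agent.Lib.Helper3.S64

open scoped commutatorElement
open Cfsg.Agent.Lib.Helper3.ThreeInv

variable {T : Type*} [Group T]

namespace Hyp2

variable {ρ x : MulAut T}

/-- the group is a Sylow subgroup of the projective special linear group -/
theorem exists_sylow (h : Hyp2 ρ x) :
    ∃ (F : Type) (_ : Field F) (_ : Fintype F), Fintype.card F = 4 ∧
      ∃ S : Sylow 2 (Matrix.ProjectiveSpecialLinearGroup (Fin 3) F),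
        Nonempty (T ≃* ↥(S : Subgroup (Matrix.ProjectiveSpecialLinearGroup (Fin 3) F))) := by
  obtain ⟨u, hu1, hu2⟩ := h.exists_involution
  obtain ⟨v, hv2, hline⟩ := h.toHyp.exists_second u hu1 hu2
  obtain ⟨e⟩ := h.toHyp.exists_equiv_heis u v hu2 hv2 hu1 hline
  obtain ⟨S, ⟨e'⟩⟩ := exists_sylow_F4
  exact ⟨F4, inferInstance, inferInstance, F4.card, S, ⟨e.trans e'⟩⟩

/-- the fixed points of the involution -/
theorem fix_classify (h : Hyp2 ρ x) (C : Subgroup T) (hC : ∀ y : T, y ∈ C ↔ x y = y) :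
    Nonempty (↥C ≃* DihedralGroup 4) ∨ Nonempty (↥C ≃* QuaternionGroup 2) := by
  have hfin := h.toHyp.finite
  have hCeq : C = fixSub x := by
    ext y
    rw [hC, mem_fixSub]
  subst hCeq
  apply order8_classify h.card_fixSub
  obtain ⟨a, b, ha, hb, hab⟩ := h.exists_noncomm
  refine ⟨⟨a, ha⟩, ⟨b, hb⟩, ?_⟩
  intro hc
  apply hab
  have : a * b = b * a := congrArg Subtype.val hc
  rw [commutatorElement_def, this]
  group

end Hyp2

end Cfsg.Agent.Lib.Helper3.S64
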