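import Mathlib
import Cfsg.Agent.Lib.Helper3.S64o

/-!
Package I1 of the S2933 / S1237 swarm: a group of order 64 with a fixed-point-free automorphism of
order three and a noncentral involution is isomorphic to every Sylow 2-subgroup of `PSL₃(4)`.
-/

namespace Cfsg.Agent.Lib.Lead.Hx3

open Cfsg.Agent.Lib.Helper3.S64
open scoped commutatorElement

variable {T : Type*} [Group T]

/-- I1: a noncentral involution gives the Sylow 2-subgroups of `PSL₃(4)` (S64 library). -/
theorem i1_psl {ρ : MulAut T} (h : Hyp ρ) (u : T) (hu : u ^ 2 = 1) (hun : u ∉ Subgroup.center T) :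
    ∃ (F : Type) (_ : Field F) (_ : Fintype F), Fintype.card F = 4 ∧
      ∀ P : Sylow 2 (Matrix.ProjectiveSpecialLinearGroup (Fin 3) F),
        Nonempty (T ≃* ↥(P : Subgroup (Matrix.ProjectiveSpecialLinearGroup (Fin 3) F))) := by
  have hu1 : (QuotientGroup.mk u : V T) ≠ 1 := by
    intro hc
    exact hun ((QuotientGroup.eq_one_iff u).mp hc)
  obtain ⟨v, hv2, hline⟩ := h.exists_second u hu1 hu
  obtain ⟨e⟩ := h.exists_equiv_heis u v hu hv2 hu1 hline
  obtain ⟨S, ⟨e'⟩⟩ := exists_sylow_F4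
  refine ⟨F4, inferInstance, inferInstance, F4.card, ?_⟩
  intro P
  have hfin : Finite (Matrix.ProjectiveSpecialLinearGroup (Fin 3) F4) := by
    unfold Matrix.ProjectiveSpecialLinearGroup
    infer_instance
  obtain ⟨g, hg⟩ := MulAction.exists_smul_eq (Matrix.ProjectiveSpecialLinearGroup (Fin 3) F4) S P
  have e'' : ↥(S : Subgroup (Matrix.ProjectiveSpecialLinearGroup (Fin 3) F4)) ≃*
      ↥(P : Subgroup (Matrix.ProjectiveSpecialLinearGroup (Fin 3) F4)) := by
    rw [← hg]
    exact Sylow.equivSMul S g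
  exact ⟨(e.trans e').trans e''⟩

end Cfsg.Agent.Lib.Lead.Hx3
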