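import Mathlib
import Cfsg.Agent.Lib.Helper3.S64m

/-!
Package L3A of the S2933 / S1237 swarm: normalised generators of a nonabelian group of order 64
with a fixed-point-free automorphism of order three all of whose involutions are central.
-/

set_option autoImplicit false

namespace Cfsg.Agent.Lib.Lead.Hx3

open Cfsg.Agent.Lib.Helper3.S64
open scoped commutatorElement

variable {T : Type*} [Group T]

/-- L3A, a central element of order two times its two images -/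
theorem l3a_rho_mul {ρ : MulAut T} (h : Hyp ρ) (z : T) (hz : z ∈ Subgroup.center T) :
    ρ z * ρ (ρ z) = z := by
  have e := h.rho_eq_mul z hz
  have hw2 := h.center_sq _ (h.rho_center _ (h.rho_center _ hz))
  calc ρ z * ρ (ρ z) = z * ρ (ρ z) * ρ (ρ z) := by rw [← e]
    _ = z * (ρ (ρ z)) ^ 2 := by rw [pow_two, mul_assoc]
    _ = z := by rw [hw2, mul_one]

/-- L3A, a noncentral element has a nontrivial square -/
theorem l3a_sq_ne_one {ρ : MulAut T} (_h : Hyp ρ)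
    (hinv : ∀ u : T, u ^ 2 = 1 → u ∈ Subgroup.center T) (g : T) (hg : g ∉ Subgroup.center T) :
    g ^ 2 ≠ 1 := fun hc => hg (hinv g hc)

/-- L3A, an element with a nontrivial commutator is not central -/
theorem l3a_not_center {a b : T} (hab : ⁅a, b⁆ ≠ 1) : b ∉ Subgroup.center T := by
  intro hb
  apply hab
  have e : a * b = b * a := Subgroup.mem_center_iff.mp hb a
  rw [commutatorElement_def, e]
  group

/-- L3A: normalisation (N). -/
theorem l3_normal {ρ : MulAut T} (h : Hyp ρ) (hinv : ∀ u : T, u ^ 2 = 1 → u ∈ Subgroup.center T) :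
    ∃ x y : T, x ^ 2 ≠ 1 ∧ ⁅x, y⁆ = x ^ 2 ∧ y ^ 2 = ρ (x ^ 2) := by
  have hfin := h.finite
  -- a noncentral element
  obtain ⟨x, hx⟩ : ∃ x : T, x ∉ Subgroup.center T := by
    by_contra hc
    apply h.center_ne_top
    rw [eq_top_iff]
    intro g _
    by_contra hg
    exact hc ⟨g, hg⟩
  have hx1 : (QuotientGroup.mk x : V T) ≠ 1 := fun hc => hx ((mk_eq_one_iff x).mp hc)
  obtain ⟨u, hu⟩ : ∃ u : T, u = x ^ 2 := ⟨_, rfl⟩
  have huZ : u ∈ Subgroup.center T := hu ▸ h.sq_mem_center x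
  have hu1 : u ≠ 1 := hu ▸ l3a_sq_ne_one h hinv x hx
  have hu2 : u ^ 2 = 1 := h.center_sq u huZ
  -- an element off the line of x
  obtain ⟨w, hw⟩ := h.exists_not_onLine (QuotientGroup.mk x)
  obtain ⟨t, rfl⟩ := QuotientGroup.mk_surjective w
  have hc1 : ⁅x, t⁆ ≠ 1 := h.comm_ne_one x t hx1 hw
  have hc1Z : ⁅x, t⁆ ∈ Subgroup.center T := h.comm_mem_center x t
  -- an element with commutator u
  obtain ⟨y0, hy0⟩ : ∃ y0 : T, ⁅x, y0⁆ = u := by
    rcases h.center_cases _ hc1Z hc1 u huZ with h0 | h0 | h0 | h0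
    · exact absurd h0 hu1
    · exact ⟨t, h0.symm⟩
    · refine ⟨t * ρ t, ?_⟩
      rw [h.comm_mul_right, h.comm_rho_right, h0]
      exact (h.rho_eq_mul _ hc1Z).symm
    · refine ⟨ρ t, ?_⟩
      rw [h.comm_rho_right, h0]
  have hy0Z : y0 ∉ Subgroup.center T := l3a_not_center (hy0 ▸ hu1)
  have hw0 : y0 ^ 2 ≠ 1 := l3a_sq_ne_one h hinv y0 hy0Z
  have hw0Z : y0 ^ 2 ∈ Subgroup.center T := h.sq_mem_center y0
  -- the second candidate
  have hy1 : ⁅x, y0 * ρ x⁆ = u := by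
    rw [h.comm_mul_right, hy0, h.comm_rho_self, mul_one]
  have hy1Z : y0 * ρ x ∉ Subgroup.center T := l3a_not_center (hy1 ▸ hu1)
  have hw1 : (y0 * ρ x) ^ 2 ≠ 1 := l3a_sq_ne_one h hinv _ hy1Z
  have hρu : (ρ x) ^ 2 = ρ u := by rw [hu, map_pow]
  have hsq1 : (y0 * ρ x) ^ 2 = y0 ^ 2 * u := by
    have e1 : ⁅y0, ρ x⁆ = ρ (ρ u) := by
      rw [h.comm_rho_right, h.comm_symm x y0, hy0]
    rw [h.mul_sq, e1, hρu, mul_assoc, l3a_rho_mul h u huZ]
  rcases h.center_cases u huZ hu1 (y0 ^ 2) hw0Z with h0 | h0 | h0 | h0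
  · exact absurd h0 hw0
  · exfalso
    apply hw1
    rw [hsq1, h0, ← pow_two, hu2]
  · exact ⟨x, y0, hu ▸ hu1, hy0.trans hu, by rw [h0, hu]⟩
  · refine ⟨x, y0 * ρ x, hu ▸ hu1, hy1.trans hu, ?_⟩
    have e2 : ρ (ρ u) * u = ρ u :=
      (Subgroup.mem_center_iff.mp huZ _).trans (h.rho_eq_mul u huZ).symm
    rw [hsq1, h0, e2, hu]

end Cfsg.Agent.Lib.Lead.Hx3
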