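import Mathlib
import Cfsg.Agent.Lib.Helper3.Hx3L3A

/-!
Package L3B of the S2933 / S1237 swarm: uniqueness.  Two groups of order 64 with a fixed-point-free
automorphism of order three and normalised generators are isomorphic.  The isomorphism is the
diagonal subgroup generated by the four pairs of corresponding generators: it has at most 64
elements (a central subgroup of order at most four with an elementary abelian quotient on four
generators) and projects onto both factors.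
-/

set_option autoImplicit false

namespace Cfsg.Agent.Lib.Lead.Hx3

open Cfsg.Agent.Lib.Helper3.S64
open Cfsg.Agent.Lib.Helper3.ThreeInv
open scoped commutatorElement

/-- L3B, a group generated by `n` commuting elements of order at most two has at most `2 ^ n`
elements -/
theorem l3b_card_closure_le {Q : Type*} [Group Q] {ι : Type*} [Fintype ι] (q : ι → Q)
    (hsq : ∀ i, q i ^ 2 = 1) (hcomm : ∀ i j, Commute (q i) (q j)) :
    Nat.card (Subgroup.closure (Set.range q)) ≤ 2 ^ Fintype.card ι := by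
  classical
  have hc : Pairwise fun i j : ι => ∀ x y : Q, x ∈ Subgroup.zpowers (q i) →
      y ∈ Subgroup.zpowers (q j) → Commute x y := by
    intro i j _ x y hx hy
    obtain ⟨a, rfl⟩ := Subgroup.mem_zpowers_iff.mp hx
    obtain ⟨b, rfl⟩ := Subgroup.mem_zpowers_iff.mp hy
    exact (hcomm i j).zpow_zpow a b
  have hle : Subgroup.closure (Set.range q) ≤ (Subgroup.noncommPiCoprod hc).range := by
    rw [Subgroup.noncommPiCoprod_range, Subgroup.closure_le]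
    rintro _ ⟨i, rfl⟩
    exact Subgroup.mem_iSup_of_mem i (Subgroup.mem_zpowers _)
  have hfo : ∀ i, IsOfFinOrder (q i) := fun i =>
    isOfFinOrder_iff_pow_eq_one.mpr ⟨2, by norm_num, hsq i⟩
  have hfin : ∀ i, Finite (Subgroup.zpowers (q i)) := fun i =>
    (hfo i).finite_zpowers
  have hcard : ∀ i, Nat.card (Subgroup.zpowers (q i)) ≤ 2 := by
    intro i
    rw [Nat.card_zpowers]
    exact Nat.le_of_dvd (by norm_num) (orderOf_dvd_of_pow_eq_one (hsq i))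
  have hfinr : Finite (Subgroup.noncommPiCoprod hc).range := by
    have : Finite (∀ i, Subgroup.zpowers (q i)) := inferInstance
    exact Finite.of_surjective _ (Subgroup.noncommPiCoprod hc).rangeRestrict_surjective
  calc Nat.card (Subgroup.closure (Set.range q))
      ≤ Nat.card (Subgroup.noncommPiCoprod hc).range := Subgroup.card_le_of_le hle
    _ ≤ Nat.card (∀ i, Subgroup.zpowers (q i)) :=
        Nat.card_le_card_of_surjective _ (Subgroup.noncommPiCoprod hc).rangeRestrict_surjective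
    _ = ∏ i, Nat.card (Subgroup.zpowers (q i)) := Nat.card_pi
    _ ≤ ∏ _i : ι, 2 := Finset.prod_le_prod' fun i _ => hcard i
    _ = 2 ^ Fintype.card ι := by simp

/-- L3B, a group generated by `n` elements whose squares and commutators lie in a central subgroup
`W` has at most `|W| * 2 ^ n` elements -/
theorem l3b_card_le {G : Type*} [Group G] [Finite G] (W : Subgroup G)
    (hW : W ≤ Subgroup.center G) {ι : Type*} [Fintype ι] (d : ι → G) (hsq : ∀ i, d i ^ 2 ∈ W)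
    (hcomm : ∀ i j, ⁅d i, d j⁆ ∈ W) :
    Nat.card (Subgroup.closure (Set.range d)) ≤ Nat.card W * 2 ^ Fintype.card ι := by
  have hn : W.Normal := by
    constructor
    intro n hn g
    have := Subgroup.mem_center_iff.mp (hW hn) g
    rw [this, mul_inv_cancel_right]
    exact hn
  obtain ⟨D, hD⟩ : ∃ D, D = Subgroup.closure (Set.range d) := ⟨_, rfl⟩
  rw [← hD]
  have hmap : D.map (QuotientGroup.mk' W) =
      Subgroup.closure (Set.range (fun i => (QuotientGroup.mk' W) (d i))) := by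
    rw [hD, MonoidHom.map_closure, ← Set.range_comp]
    rfl
  have hB := l3b_card_closure_le (fun i => (QuotientGroup.mk' W) (d i))
    (by
      intro i
      rw [← map_pow]
      exact (QuotientGroup.eq_one_iff _).mpr (hsq i))
    (by
      intro i j
      rw [← commutatorElement_eq_one_iff_commute, ← map_commutatorElement]
      exact (QuotientGroup.eq_one_iff _).mpr (hcomm i j))
  rw [← hmap, ← Subgroup.relIndex_ker, QuotientGroup.ker_mk'] at hB
  have h1 : Nat.card ↥(W ⊓ D) * W.relIndex D = Nat.card ↥D := by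
    have h := Subgroup.relIndex_mul_relIndex (⊥ : Subgroup G) (W ⊓ D) D bot_le inf_le_right
    rw [Subgroup.relIndex_bot_left, Subgroup.relIndex_bot_left, Subgroup.inf_relIndex_right] at h
    exact h
  have h2 : Nat.card ↥(W ⊓ D) ≤ Nat.card W := Subgroup.card_le_of_le inf_le_left
  calc Nat.card ↥D = Nat.card ↥(W ⊓ D) * W.relIndex D := h1.symm
    _ ≤ Nat.card W * 2 ^ Fintype.card ι := Nat.mul_le_mul h2 hB

section single

variable {T : Type*} [Group T] {ρ : MulAut T}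

/-- L3B, the second image of a central element -/
theorem l3b_rho2 (h : Hyp ρ) (z : T) (hz : z ∈ Subgroup.center T) : ρ (ρ z) = z * ρ z := by
  have e := h.rho_eq_mul z hz
  have hz2 := h.center_sq z hz
  calc ρ (ρ z) = z ^ 2 * ρ (ρ z) := by rw [hz2, one_mul]
    _ = z * (z * ρ (ρ z)) := by rw [pow_two, mul_assoc]
    _ = z * ρ z := by rw [← e]

/-- L3B, elements on a common line commute -/
theorem l3b_comm_of_onLine (h : Hyp ρ) (a b : T)
    (hl : h.onLine (QuotientGroup.mk a) (QuotientGroup.mk b)) : ⁅a, b⁆ = 1 := by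
  have key : ∀ c : T, ⁅a, c⁆ = 1 → (QuotientGroup.mk b : V T) = QuotientGroup.mk c →
      ⁅a, b⁆ = 1 := by
    intro c hc hbc
    have hz := (mk_eq_mk_iff c b).mp hbc.symm
    have e : b = c * (c⁻¹ * b) := by group
    rw [e, h.comm_mul_right, hc, one_mul, commElt_of_central_right hz]
  rcases hl with hl | hl | hl | hl
  · exact key 1 (commElt_one_right a) hl
  · exact key a (commElt_self a) hl
  · exact key (ρ a) (h.comm_rho_self a) hl
  · exact key (ρ (ρ a)) (by rw [h.comm_rho_right, h.comm_rho_self, map_one, map_one]) hl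

/-- L3B, normalised generators and their images generate -/
theorem l3b_closure_top (h : Hyp ρ) (x y : T) (hu : x ^ 2 ≠ 1) (hc : ⁅x, y⁆ = x ^ 2)
    (K : Subgroup T) (hx : x ∈ K) (hρx : ρ x ∈ K) (hy : y ∈ K) (hρy : ρ y ∈ K) : K = ⊤ := by
  have hxZ : x ∉ Subgroup.center T := fun hcon => hu (h.center_sq x hcon)
  have hmk : (QuotientGroup.mk x : V T) ≠ 1 := fun hcon => hxZ ((mk_eq_one_iff x).mp hcon)
  have hline : ¬ h.onLine (QuotientGroup.mk x) (QuotientGroup.mk y) := by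
    intro hl
    apply hu
    rw [← hc]
    exact l3b_comm_of_onLine h x y hl
  have hZ : x ^ 2 ∈ Subgroup.center T := h.sq_mem_center x
  rw [eq_top_iff, ← h.closure_eq_top x y hmk hline, Subgroup.closure_le]
  intro g hg
  rcases hg with hg | hg
  · simp only [Set.mem_insert_iff, Set.mem_singleton_iff] at hg
    rcases hg with rfl | rfl | rfl | rfl
    · exact hx
    · exact hρx
    · exact hy
    · exact hρy
  · have m1 : x ^ 2 ∈ K := K.pow_mem hx 2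
    have m2 : ρ (x ^ 2) ∈ K := by rw [map_pow]; exact K.pow_mem hρx 2
    rcases h.center_cases _ hZ hu g hg with rfl | rfl | rfl | rfl
    · exact K.one_mem
    · exact m1
    · exact m2
    · rw [l3b_rho2 h _ hZ]
      exact K.mul_mem m1 m2

end single

/-- L3B, a pair of central elements is central -/
theorem l3b_prod_center {T₁ T₂ : Type*} [Group T₁] [Group T₂] {z₁ : T₁} {z₂ : T₂}
    (h₁ : z₁ ∈ Subgroup.center T₁) (h₂ : z₂ ∈ Subgroup.center T₂) :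
    ((z₁, z₂) : T₁ × T₂) ∈ Subgroup.center (T₁ × T₂) := by
  rw [Subgroup.mem_center_iff]
  rintro ⟨g₁, g₂⟩
  exact Prod.ext (Subgroup.mem_center_iff.mp h₁ g₁) (Subgroup.mem_center_iff.mp h₂ g₂)

/-- L3b: uniqueness (UQ) from normalised generators. -/
theorem l3_unique {T₁ T₂ : Type*} [Group T₁] [Group T₂] {ρ₁ : MulAut T₁} {ρ₂ : MulAut T₂}
    (h₁ : Hyp ρ₁) (h₂ : Hyp ρ₂) (x₁ y₁ : T₁) (x₂ y₂ : T₂)
    (n₁ : x₁ ^ 2 ≠ 1 ∧ ⁅x₁, y₁⁆ = x₁ ^ 2 ∧ y₁ ^ 2 = ρ₁ (x₁ ^ 2))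
    (n₂ : x₂ ^ 2 ≠ 1 ∧ ⁅x₂, y₂⁆ = x₂ ^ 2 ∧ y₂ ^ 2 = ρ₂ (x₂ ^ 2)) : Nonempty (T₁ ≃* T₂) := by
  obtain ⟨hu₁, hc₁, hy₁⟩ := n₁
  obtain ⟨hu₂, hc₂, hy₂⟩ := n₂
  have hf₁ := h₁.finite
  have hf₂ := h₂.finite
  have hZ₁ : x₁ ^ 2 ∈ Subgroup.center T₁ := h₁.sq_mem_center x₁
  have hZ₂ : x₂ ^ 2 ∈ Subgroup.center T₂ := h₂.sq_mem_center x₂
  -- the central diagonal subgroup
  obtain ⟨w, hw⟩ : ∃ w : Fin 2 → T₁ × T₂, w = ![(x₁ ^ 2, x₂ ^ 2), (ρ₁ (x₁ ^ 2), ρ₂ (x₂ ^ 2))] :=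
    ⟨_, rfl⟩
  have hwc : ∀ i, w i ∈ Subgroup.center (T₁ × T₂) := by
    intro i
    rw [hw]
    fin_cases i
    · exact l3b_prod_center hZ₁ hZ₂
    · exact l3b_prod_center (h₁.rho_center _ hZ₁) (h₂.rho_center _ hZ₂)
  have hwsq : ∀ i, w i ^ 2 = 1 := by
    intro i
    rw [hw]
    fin_cases i
    · show ((x₁ ^ 2, x₂ ^ 2) : T₁ × T₂) ^ 2 = 1
      rw [Prod.pow_mk, h₁.center_sq _ hZ₁, h₂.center_sq _ hZ₂]
      rfl
    · show ((ρ₁ (x₁ ^ 2), ρ₂ (x₂ ^ 2)) : T₁ × T₂) ^ 2 = 1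
      rw [Prod.pow_mk, h₁.center_sq _ (h₁.rho_center _ hZ₁), h₂.center_sq _ (h₂.rho_center _ hZ₂)]
      rfl
  obtain ⟨W, hWd⟩ : ∃ W : Subgroup (T₁ × T₂), W = Subgroup.closure (Set.range w) := ⟨_, rfl⟩
  have hWc : W ≤ Subgroup.center (T₁ × T₂) := by
    rw [hWd, Subgroup.closure_le]
    rintro _ ⟨i, rfl⟩
    exact hwc i
  have hWcard : Nat.card W ≤ 4 := by
    have := l3b_card_closure_le w hwsq
      (fun i j => (Subgroup.mem_center_iff.mp (hwc i) (w j)).symm)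
    rw [← hWd] at this
    simpa using this
  have m1 : ((x₁ ^ 2, x₂ ^ 2) : T₁ × T₂) ∈ W := by
    rw [hWd]
    exact Subgroup.subset_closure ⟨0, by rw [hw]; rfl⟩
  have m2 : ((ρ₁ (x₁ ^ 2), ρ₂ (x₂ ^ 2)) : T₁ × T₂) ∈ W := by
    rw [hWd]
    exact Subgroup.subset_closure ⟨1, by rw [hw]; rfl⟩
  have m3 : ((ρ₁ (ρ₁ (x₁ ^ 2)), ρ₂ (ρ₂ (x₂ ^ 2))) : T₁ × T₂) ∈ W := by
    rw [l3b_rho2 h₁ _ hZ₁, l3b_rho2 h₂ _ hZ₂]
    exact W.mul_mem m1 m2
  have m0 : ((1, 1) : T₁ × T₂) ∈ W := W.one_mem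
  -- the diagonal generators
  obtain ⟨d, hd⟩ : ∃ d : Fin 4 → T₁ × T₂,
      d = ![(x₁, x₂), (ρ₁ x₁, ρ₂ x₂), (y₁, y₂), (ρ₁ y₁, ρ₂ y₂)] := ⟨_, rfl⟩
  have hdsq : ∀ i, d i ^ 2 ∈ W := by
    intro i
    rw [hd]
    fin_cases i
    · show ((x₁, x₂) : T₁ × T₂) ^ 2 ∈ W
      rw [Prod.pow_mk]
      exact m1
    · show ((ρ₁ x₁, ρ₂ x₂) : T₁ × T₂) ^ 2 ∈ W
      rw [Prod.pow_mk, ← map_pow, ← map_pow]
      exact m2
    · show ((y₁, y₂) : T₁ × T₂) ^ 2 ∈ W
      rw [Prod.pow_mk, hy₁, hy₂]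
      exact m2
    · show ((ρ₁ y₁, ρ₂ y₂) : T₁ × T₂) ^ 2 ∈ W
      rw [Prod.pow_mk, ← map_pow, ← map_pow, hy₁, hy₂]
      exact m3
  have hdlt : ∀ i j, i < j → ⁅d i, d j⁆ ∈ W := by
    intro i j hij
    rw [hd]
    fin_cases i <;> fin_cases j <;> first | exact absurd hij (by decide) | skip
    · show ((⁅x₁, ρ₁ x₁⁆, ⁅x₂, ρ₂ x₂⁆) : T₁ × T₂) ∈ W
      rw [h₁.comm_rho_self, h₂.comm_rho_self]
      exact m0
    · show ((⁅x₁, y₁⁆, ⁅x₂, y₂⁆) : T₁ × T₂) ∈ W
      rw [hc₁, hc₂]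
      exact m1
    · show ((⁅x₁, ρ₁ y₁⁆, ⁅x₂, ρ₂ y₂⁆) : T₁ × T₂) ∈ W
      rw [h₁.comm_rho_right, h₂.comm_rho_right, hc₁, hc₂]
      exact m3
    · show ((⁅ρ₁ x₁, y₁⁆, ⁅ρ₂ x₂, y₂⁆) : T₁ × T₂) ∈ W
      rw [h₁.comm_rho_left, h₂.comm_rho_left, hc₁, hc₂]
      exact m3
    · show ((⁅ρ₁ x₁, ρ₁ y₁⁆, ⁅ρ₂ x₂, ρ₂ y₂⁆) : T₁ × T₂) ∈ W
      rw [h₁.comm_rho_rho, h₂.comm_rho_rho, hc₁, hc₂]
      exact m2
    · show ((⁅y₁, ρ₁ y₁⁆, ⁅y₂, ρ₂ y₂⁆) : T₁ × T₂) ∈ W
      rw [h₁.comm_rho_self, h₂.comm_rho_self]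
      exact m0
  have hdcomm : ∀ i j, ⁅d i, d j⁆ ∈ W := by
    intro i j
    rcases lt_trichotomy i j with hlt | heq | hgt
    · exact hdlt i j hlt
    · rw [heq, commElt_self]
      exact W.one_mem
    · rw [← commutatorElement_inv]
      exact W.inv_mem (hdlt j i hgt)
  obtain ⟨D, hDd⟩ : ∃ D : Subgroup (T₁ × T₂), D = Subgroup.closure (Set.range d) := ⟨_, rfl⟩
  have hDcard : Nat.card D ≤ 64 := by
    have := l3b_card_le W hWc d hdsq hdcomm
    rw [← hDd] at this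
    calc Nat.card D ≤ Nat.card W * 2 ^ Fintype.card (Fin 4) := this
      _ ≤ 4 * 2 ^ Fintype.card (Fin 4) := Nat.mul_le_mul_right _ hWcard
      _ = 64 := by simp
  have hdD : ∀ i, d i ∈ D := fun i => by
    rw [hDd]
    exact Subgroup.subset_closure ⟨i, rfl⟩
  have hd0 : ((x₁, x₂) : T₁ × T₂) ∈ D := by
    have := hdD 0
    rw [hd] at this
    exact this
  have hd1 : ((ρ₁ x₁, ρ₂ x₂) : T₁ × T₂) ∈ D := by
    have := hdD 1
    rw [hd] at this
    exact this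
  have hd2 : ((y₁, y₂) : T₁ × T₂) ∈ D := by
    have := hdD 2
    rw [hd] at this
    exact this
  have hd3 : ((ρ₁ y₁, ρ₂ y₂) : T₁ × T₂) ∈ D := by
    have := hdD 3
    rw [hd] at this
    exact this
  -- the projections
  have hs₁ : Function.Surjective ((MonoidHom.fst T₁ T₂).comp D.subtype) := by
    have htop := l3b_closure_top h₁ x₁ y₁ hu₁ hc₁ (D.map (MonoidHom.fst T₁ T₂))
      ⟨_, hd0, rfl⟩ ⟨_, hd1, rfl⟩ ⟨_, hd2, rfl⟩ ⟨_, hd3, rfl⟩
    intro t
    have ht : t ∈ D.map (MonoidHom.fst T₁ T₂) := by rw [htop]; trivial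
    obtain ⟨g, hg, rfl⟩ := ht
    exact ⟨⟨g, hg⟩, rfl⟩
  have hs₂ : Function.Surjective ((MonoidHom.snd T₁ T₂).comp D.subtype) := by
    have htop := l3b_closure_top h₂ x₂ y₂ hu₂ hc₂ (D.map (MonoidHom.snd T₁ T₂))
      ⟨_, hd0, rfl⟩ ⟨_, hd1, rfl⟩ ⟨_, hd2, rfl⟩ ⟨_, hd3, rfl⟩
    intro t
    have ht : t ∈ D.map (MonoidHom.snd T₁ T₂) := by rw [htop]; trivial
    obtain ⟨g, hg, rfl⟩ := ht
    exact ⟨⟨g, hg⟩, rfl⟩
  have hge : 64 ≤ Nat.card D := by
    rw [← h₁.card]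
    exact Nat.card_le_card_of_surjective _ hs₁
  have hDeq : Nat.card D = 64 := le_antisymm hDcard hge
  have hb₁ : Function.Bijective ((MonoidHom.fst T₁ T₂).comp D.subtype) :=
    (Nat.bijective_iff_surjective_and_card _).mpr ⟨hs₁, by rw [hDeq, h₁.card]⟩
  have hb₂ : Function.Bijective ((MonoidHom.snd T₁ T₂).comp D.subtype) :=
    (Nat.bijective_iff_surjective_and_card _).mpr ⟨hs₂, by rw [hDeq, h₂.card]⟩
  exact ⟨(MulEquiv.ofBijective _ hb₁).symm.trans (MulEquiv.ofBijective _ hb₂)⟩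

end Cfsg.Agent.Lib.Lead.Hx3
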