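import Mathlib
import Cfsg.Agent.Lib.Helper3.S64c
import Cfsg.Agent.Lib.Helper3.U3g
import Cfsg.Agent.Lib.Helper3.Sz1

/-!
Package L3C of the S2933 / S1237 swarm: the model.  A group with unipotent unitary coordinates over
the field with sixteen elements (for example a Sylow 2-subgroup of `PSU₃(4)`) has order 64, is
nonabelian, has all its involutions central, and its scaling automorphism by a primitive cube root
of unity is fixed-point-free of order three.
-/

set_option autoImplicit false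

namespace Cfsg.Agent.Lib.Lead.Hx3

open Cfsg.Agent.Lib.Helper3.S64
open Cfsg.Agent.Lib.Helper3.U3

section coord

variable {F : Type*} [Field F] [CharP F 2] [Fintype F]

/-- L3C, a unit of order three fixed by the fourth power map -/
theorem l3c_exists_unit (hF : Fintype.card F = 4 ^ 2) :
    ∃ μ : fixUnits hF, ((μ : Fˣ) : F) ≠ 1 ∧ ((μ : Fˣ) : F) ^ 2 ≠ 1 ∧ ((μ : Fˣ) : F) ^ 3 = 1 := by
  classical
  have hcard : Nat.card Fˣ = 15 := by
    rw [Nat.card_eq_fintype_card, Fintype.card_units, hF]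
    norm_num
  have h3 : (3 : ℕ) ∣ Nat.card Fˣ := by rw [hcard]; norm_num
  have : Fact (Nat.Prime 3) := ⟨Nat.prime_three⟩
  obtain ⟨μ, hμ⟩ := exists_prime_orderOf_dvd_card' 3 h3
  have hμ3 : μ ^ 3 = 1 := by rw [← hμ]; exact pow_orderOf_eq_one μ
  have hμ3F : (μ : F) ^ 3 = 1 := by
    have := congrArg Units.val hμ3
    simpa using this
  have hμ1 : μ ≠ 1 := by
    intro hc
    rw [hc, orderOf_one] at hμ
    omega
  have hμ1F : (μ : F) ≠ 1 := by
    intro hc
    exact hμ1 (Units.ext hc)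
  have hfix : (μ : F) ^ 4 = (μ : F) := by
    calc (μ : F) ^ 4 = (μ : F) ^ 3 * (μ : F) := by ring
      _ = (μ : F) := by rw [hμ3F, one_mul]
  refine ⟨⟨μ, (mem_fixUnits hF μ).mpr hfix⟩, hμ1F, ?_, hμ3F⟩
  intro hc
  apply hμ1F
  have h4 : (μ : F) ^ 4 = 1 := by
    calc (μ : F) ^ 4 = ((μ : F) ^ 2) ^ 2 := by ring
      _ = 1 := by rw [hc, one_pow]
  rw [hfix] at h4
  exact h4

variable {hF : Fintype.card F = 4 ^ 2} {G : Type*} [Group G]

/-- L3C, the scaling automorphism by a primitive cube root of unity is fixed-point-free of order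
three -/
theorem l3c_fpf (c : Coord hF G) (μ : fixUnits hF) (h1 : ((μ : Fˣ) : F) ≠ 1)
    (h2 : ((μ : Fˣ) : F) ^ 2 ≠ 1) (h3 : ((μ : Fˣ) : F) ^ 3 = 1) : Fpf3 (c.scaleAut μ) := by
  have hμ3 : μ * μ * μ = 1 := by
    apply Subtype.ext
    apply Units.ext
    simp only [Subgroup.coe_mul, Units.val_mul, Subgroup.coe_one, Units.val_one]
    rw [← h3]
    ring
  constructor
  · intro y
    rw [Coord.scaleAut_apply, Coord.scaleAut_apply, Coord.scaleAut_apply, ← Coord.scaleFun_comp,
      ← Coord.scaleFun_comp, hμ3, Coord.scaleFun_one]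
  · intro y hy
    obtain ⟨β, γ, h, rfl⟩ := c.x_surj y
    rw [Coord.scaleAut_apply, Coord.scaleFun_x] at hy
    obtain ⟨e1, e2⟩ := c.x_inj hy
    have hβ : β = 0 := by
      have : (((μ : Fˣ) : F) - 1) * β = 0 := by rw [sub_mul, e1, one_mul, sub_self]
      rcases mul_eq_zero.mp this with h0 | h0
      · exact absurd (sub_eq_zero.mp h0) h1
      · exact h0
    have hγ : γ = 0 := by
      have : (((μ : Fˣ) : F) ^ 2 - 1) * γ = 0 := by rw [sub_mul, e2, one_mul, sub_self]
      rcases mul_eq_zero.mp this with h0 | h0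
      · exact absurd (sub_eq_zero.mp h0) h2
      · exact h0
    subst hβ
    subst hγ
    exact c.x_zero

/-- L3C, the model satisfies the hypotheses of the recognition lemma -/
theorem l3c_coord (c : Coord hF G) :
    ∃ ρ : MulAut G, Hyp ρ ∧ ∀ u : G, u ^ 2 = 1 → u ∈ Subgroup.center G := by
  obtain ⟨μ, h1, h2, h3⟩ := l3c_exists_unit hF
  refine ⟨c.scaleAut μ, ⟨?_, ?_, l3c_fpf c μ h1 h2 h3⟩, ?_⟩
  · rw [c.card_eq]; norm_num
  · by_contra hc
    have hab : ∀ a b : G, a * b = b * a := by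
      intro a b
      by_contra hne
      exact hc ⟨a, b, hne⟩
    have htop : Subgroup.center G = ⊤ := by
      rw [eq_top_iff]
      intro g _
      rw [Subgroup.mem_center_iff]
      intro k
      exact hab k g
    have h4 := c.card_center
    rw [htop, Subgroup.card_top, c.card_eq] at h4
    norm_num at h4
  · intro u hu
    by_cases hu1 : u = 1
    · rw [hu1]; exact Subgroup.one_mem _
    · have := (c.involution_iff u).mp ⟨hu1, by rw [← pow_two]; exact hu⟩
      exact this.1

end coord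

/-- L3C: every Sylow 2-subgroup of `PSU₃(4)` is a model for the recognition lemma. -/
theorem l3c_model {F : Type*} [Field F] [Fintype F] (hF : Fintype.card F = 16)
    (P : Sylow 2 (Cfsg.PSU 3 F 4)) :
    ∃ ρ : MulAut ↥(P : Subgroup (Cfsg.PSU 3 F 4)), Hyp ρ ∧
      ∀ u : ↥(P : Subgroup (Cfsg.PSU 3 F 4)), u ^ 2 = 1 →
        u ∈ Subgroup.center ↥(P : Subgroup (Cfsg.PSU 3 F 4)) := by
  have hF' : Fintype.card F = 4 ^ 2 := by rw [hF]; norm_num
  have : CharP F 2 := Cfsg.Agent.Lib.Helper3.Sz.charP_two_of_card (n := 4) (by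
    rw [hF]; norm_num)
  obtain ⟨c⟩ := exists_coord_sylow' (n := 2) (by omega) (by norm_num) hF' P
  exact l3c_coord c

end Cfsg.Agent.Lib.Lead.Hx3
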