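import Mathlib
import Cfsg.Agent.Lib.Helper3.Hx3L3A
import Cfsg.Agent.Lib.Helper3.Hx3L3B
import Cfsg.Agent.Lib.Helper3.Hx3L3C

/-!
Package L3D of the S2933 / S1237 swarm: a nonabelian group of order 64 with a fixed-point-free
automorphism of order three all of whose involutions are central is isomorphic to the Sylow
2-subgroups of `PSU₃(4)`.
-/

set_option autoImplicit false

namespace Cfsg.Agent.Lib.Lead.Hx3

open Cfsg.Agent.Lib.Helper3.S64

variable {T : Type*} [Group T]

/-- L3d: the unitary alternative (uses L3a, L3b and L3c = the model). -/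
theorem l3_psu {ρ : MulAut T} (h : Hyp ρ) (hinv : ∀ u : T, u ^ 2 = 1 → u ∈ Subgroup.center T)
    {F : Type*} [Field F] [Fintype F] (hF : Fintype.card F = 16) (P : Sylow 2 (Cfsg.PSU 3 F 4)) :
    Nonempty (T ≃* ↥(P : Subgroup (Cfsg.PSU 3 F 4))) := by
  obtain ⟨ρM, hM, hinvM⟩ := l3c_model hF P
  obtain ⟨x, y, n⟩ := l3_normal h hinv
  obtain ⟨x', y', n'⟩ := l3_normal hM hinvM
  exact l3_unique h hM x y x' y' n n'

end Cfsg.Agent.Lib.Lead.Hx3
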