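import Mathlib
import Cfsg.Agent.Lib.Helper3.PComp1
import Cfsg.Agent.Lib.Helper6.PCore
import Cfsg.Prelude.Def_Local

set_option autoImplicit false

namespace Cfsg.Agent.Lib.Helper3.HypComm

open Cfsg.Agent.Lib.Lead Cfsg.Agent.Lib.Helper3

section
variable {K : Type*} [Group K]

/-- `O_{p',p}` is characteristic -/
instance pPrimePCore_characteristic (p : ℕ) : (Cfsg.pPrimePCore p K).Characteristic := by
  rw [Subgroup.characteristic_iff_map_le]
  intro e
  have he : (Cfsg.pPrimeCore p K).map (e : K →* K) = Cfsg.pPrimeCore p K :=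
    pPrimeCore_map_mulEquiv p e
  let ebar : K ⧸ Cfsg.pPrimeCore p K ≃* K ⧸ Cfsg.pPrimeCore p K :=
    QuotientGroup.congr (Cfsg.pPrimeCore p K) (Cfsg.pPrimeCore p K) e he
  have hbar := Cfsg.Agent.Lib.Helper6.pCore_map_equiv p ebar
  rintro _ ⟨x, hx, rfl⟩
  unfold Cfsg.pPrimePCore at hx ⊢
  rw [SetLike.mem_coe, Subgroup.mem_comap] at hx
  rw [Subgroup.mem_comap, ← hbar]
  refine ⟨_, hx, ?_⟩
  rfl

end

end Cfsg.Agent.Lib.Helper3.HypComm
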