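import Mathlib
import Cfsg.Agent.Lib.Helper3.StrEmb

set_option autoImplicit false

namespace Cfsg.Agent.Lib.Helper3.InvFix

open Cfsg.Agent.Lib.Helper1 Cfsg.Agent.Lib.Helper3 Cfsg.Agent.Lib.Helper3.StrEmb

/-- every involution fixes exactly one point -/
def UniqueFix (G Ω : Type*) [Group G] [MulAction G Ω] : Prop :=
  ∀ u : G, orderOf u = 2 → ∃! c : Ω, u • c = c

variable {G Ω : Type*} [Group G] [MulAction G Ω]

theorem fixed_unique (h : UniqueFix G Ω) {t : G} (ht : orderOf t = 2) {x y : Ω}
    (hx : t • x = x) (hy : t • y = y) : x = y := (h t ht).unique hx hy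

theorem exists_fixed (h : UniqueFix G Ω) {t : G} (ht : orderOf t = 2) : ∃ x : Ω, t • x = x :=
  (h t ht).exists

variable [Finite G]

/-- involutions with different fixed points have a product of odd order -/
theorem odd_orderOf_mul (h : UniqueFix G Ω) {s t : G} (hs2 : orderOf s = 2)
    (ht2 : orderOf t = 2) {x y : Ω} (hx : s • x = x) (hy : t • y = y) (hxy : x ≠ y) :
    Odd (orderOf (s * t)) := by
  have hss := invol_mul_self hs2
  have htt := invol_mul_self ht2
  by_contra hodd
  rw [Nat.not_odd_iff_even] at hodd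
  obtain ⟨m, hm⟩ := hodd
  have hmpos : 0 < m := by
    rcases Nat.eq_zero_or_pos m with h0 | h0
    · exfalso
      rw [h0] at hm
      exact (orderOf_pos (s * t)).ne' hm
    · exact h0
  obtain ⟨hz2, hzs, hzt⟩ := invpair_half_pow hss htt m hm hmpos
  set z := (s * t) ^ m with hz
  obtain ⟨p, hp⟩ := exists_fixed h hz2
  have h1 : z • (s • p) = s • p := by
    rw [← mul_smul, hzs.eq, mul_smul, hp]
  have h2 : s • p = p := fixed_unique h hz2 h1 hp
  have h3 : z • (t • p) = t • p := by
    rw [← mul_smul, hzt.eq, mul_smul, hp]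
  have h4 : t • p = p := fixed_unique h hz2 h3 hp
  exact hxy ((fixed_unique h hs2 hx h2).trans (fixed_unique h ht2 h4 hy))

/-- involutions with different fixed points are conjugate by an involution -/
theorem exists_involution_conj (h : UniqueFix G Ω) {s t : G} (hs2 : orderOf s = 2)
    (ht2 : orderOf t = 2) {x y : Ω} (hx : s • x = x) (hy : t • y = y) (hxy : x ≠ y) :
    ∃ i : G, orderOf i = 2 ∧ i * s * i⁻¹ = t ∧ i • x = y := by
  have hss := invol_mul_self hs2
  have htt := invol_mul_self ht2
  obtain ⟨j, hj⟩ := odd_orderOf_mul h hs2 ht2 hx hy hxy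
  have hpow : (s * t) ^ (2 * j + 1) = 1 := by rw [← hj]; exact pow_orderOf_eq_one _
  obtain ⟨h1, h2⟩ := dihedral_odd_conj s t hss htt j hpow
  generalize (s * t) ^ j = w at h1 h2
  have hsinv := invol_inv hs2
  have hconj : (w * s) * s * (w * s)⁻¹ = t := by
    calc (w * s) * s * (w * s)⁻¹ = w * s * w⁻¹ := by group
      _ = t := h1
  have hsq : (w * s) * (w * s) = 1 := by
    have : s * w = w⁻¹ * s := by
      have := h2
      rw [hsinv] at this
      calc s * w = (s * w * s) * s := by rw [mul_assoc (s * w), hss, mul_one]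
        _ = w⁻¹ * s := by rw [this]
    calc (w * s) * (w * s) = w * (s * w) * s := by group
      _ = w * (w⁻¹ * s) * s := by rw [this]
      _ = s * s := by group
      _ = 1 := hss
  have hfix : t • ((w * s) • x) = (w * s) • x := by
    rw [← hconj, ← mul_smul]
    have : (w * s) * s * (w * s)⁻¹ * (w * s) = (w * s) * s := by group
    rw [this, mul_smul, hx]
  have hix : (w * s) • x = y := fixed_unique h ht2 hfix hy
  have hne : w * s ≠ 1 := by
    intro h'
    rw [h', one_smul] at hix
    exact hxy hix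
  exact ⟨w * s, orderOf_two_of_mul_self hsq hne, hconj, hix⟩

/-- uniqueness of the conjugating involution -/
theorem involution_conj_unique (h : UniqueFix G Ω) {s i i' : G} (hs2 : orderOf s = 2)
    {x y : Ω} (hx : s • x = x) (hxy : x ≠ y) (hi : orderOf i = 2) (hi' : orderOf i' = 2)
    (hix : i • x = y) (hi'x : i' • x = y) (hc : i * s * i⁻¹ = i' * s * i'⁻¹) : i = i' := by
  have hss := invol_mul_self hs2
  have key : ∀ k : G, orderOf k = 2 → k • x = y → Odd (orderOf (s * k)) := by
    intro k hk hkx
    obtain ⟨z, hz⟩ := exists_fixed h hk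
    apply odd_orderOf_mul h hs2 hk hx hz
    intro hxz
    rw [← hxz, hkx] at hz
    exact hxy hz.symm
  have h1 := key i hi hix
  have h2 := key i' hi' hi'x
  have hsq : (s * i) * (s * i) = (s * i') * (s * i') := by
    have e1 : (s * i) * (s * i) = s * (i * s * i⁻¹) := by rw [invol_inv hi]; group
    have e2 : (s * i') * (s * i') = s * (i' * s * i'⁻¹) := by rw [invol_inv hi']; group
    rw [e1, e2, hc]
  have := eq_of_sq_eq_of_odd_order _ _ h1 h2 hsq
  exact mul_left_cancel this

/-- the number of involutions mapping `x` to `y ≠ x` is the number of involutions fixing `y` -/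
theorem card_involutions_smul_eq (h : UniqueFix G Ω) {x y : Ω} (hxy : x ≠ y) (s : G)
    (hs2 : orderOf s = 2) (hsx : s • x = x) :
    Nat.card {i : G // orderOf i = 2 ∧ i • x = y} =
      Nat.card {t : G // orderOf t = 2 ∧ t • y = y} := by
  refine Nat.card_congr (Equiv.ofBijective
    (fun i : {i : G // orderOf i = 2 ∧ i • x = y} =>
      (⟨i.1 * s * i.1⁻¹, by rw [orderOf_conj]; exact hs2, by
        have h1 : i.1 • x = y := i.2.2
        have h2 : (i.1 * s * i.1⁻¹) • (i.1 • x) = i.1 • x := by
          rw [← mul_smul]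
          have : i.1 * s * i.1⁻¹ * i.1 = i.1 * s := by group
          rw [this, mul_smul, hsx]
        rw [h1] at h2
        exact h2⟩ : {t : G // orderOf t = 2 ∧ t • y = y})) ⟨?_, ?_⟩)
  · rintro ⟨i, hi2, hix⟩ ⟨i', hi'2, hi'x⟩ hc
    simp only [Subtype.mk.injEq] at hc
    apply Subtype.ext
    exact involution_conj_unique h hs2 hsx hxy hi2 hi'2 hix hi'x hc
  · rintro ⟨t, ht2, hty⟩
    obtain ⟨i, hi2, hconj, hix⟩ := exists_involution_conj h hs2 ht2 hsx hty hxy
    exact ⟨⟨i, hi2, hix⟩, Subtype.ext hconj⟩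

end Cfsg.Agent.Lib.Helper3.InvFix
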