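import Mathlib
import Cfsg.Prelude
import Cfsg.Agent.Lib.Helper6.IsoMin0
import Cfsg.Agent.Lib.Helper6.Subn
import Cfsg.Agent.Lib.Lead.Core
import Cfsg.Agent.Lib.Helper3.Components2
import Cfsg.Agent.Lib.Helper3.Components4
import Cfsg.Agent.Lib.Helper3.Components5
import Cfsg.Agent.Lib.Helper3.Components6
import Cfsg.Agent.Lib.Helper3.Components7
import Cfsg.Agent.Lib.Helper3.Components10
import Cfsg.Agent.Lib.Helper3.Components11
import Cfsg.Agent.Lib.Helper3.Components12

set_option autoImplicit false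
set_option linter.unusedSectionVars false
set_option linter.style.haveILetI false

/-!
Package D of the S3044/S3045 swarm (isolated `p`-minimal subgroups, abstract layer case):
in the abstract isolated situation `AbsIso p N T A Λ D` with `p ∣ |N|`, the group `N` is the
central product of its components and `T` permutes them transitively.
-/

namespace Cfsg.Agent.Lib.Helper3.IsoMinD

open Subgroup Cfsg.Agent.Lib.Helper6.IsoMin Cfsg.Agent.Lib.Helper3
open scoped commutatorElement

section general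

variable {X : Type*} [Group X]

/-- an element normalizing every member of a family normalizes its join -/
theorem mem_normalizer_sSup [Finite X] (S : Set (Subgroup X)) (g : X)
    (h : ∀ H ∈ S, g ∈ normalizer ((H : Subgroup X) : Set X)) :
    g ∈ normalizer ((sSup S : Subgroup X) : Set X) := by
  apply Cfsg.Agent.Lib.Helper6.mem_normalizer_of_map_conj_le
  rw [Subgroup.map_le_iff_le_comap]
  apply sSup_le
  intro H hH
  rw [← Subgroup.map_le_iff_le_comap]
  have := Subgroup.mem_normalizer_iff_map_conj_eq.mp (h H hH)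
  have this' : H.map (MulAut.conj g).toMonoidHom = H := this
  rw [this']
  exact le_sSup hH

/-- `[n, a] ∈ B` for all `n ∈ H ⊔ K` when this holds on `H` and `K`, and `H ⊔ K` normalizes `B` -/
theorem commutator_mem_of_sup {B H K A : Subgroup X} (hnorm : H ⊔ K ≤ normalizer (B : Set X))
    (hH : ∀ x ∈ H, ∀ a ∈ A, ⁅x, a⁆ ∈ B) (hK : ∀ x ∈ K, ∀ a ∈ A, ⁅x, a⁆ ∈ B) :
    ∀ n ∈ H ⊔ K, ∀ a ∈ A, ⁅n, a⁆ ∈ B := by
  intro n hn
  rw [Subgroup.sup_eq_closure] at hn hnorm
  induction hn using Subgroup.closure_induction with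
  | mem x hx =>
    rcases hx with hx | hx
    · exact hH x hx
    · exact hK x hx
  | one => intro a _; simp
  | mul x y hx hy ihx ihy =>
    intro a ha
    have hxn := hnorm hx
    have e : ⁅x * y, a⁆ = x * ⁅y, a⁆ * x⁻¹ * ⁅x, a⁆ := by
      simp only [commutatorElement_def]; group
    rw [e]
    exact B.mul_mem ((Subgroup.mem_normalizer_iff.mp hxn _).mp (ihy a ha)) (ihx a ha)
  | inv x hx ihx =>
    intro a ha
    have hxn := hnorm (Subgroup.inv_mem _ hx)
    have e : ⁅x⁻¹, a⁆ = x⁻¹ * (⁅x, a⁆)⁻¹ * (x⁻¹)⁻¹ := by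
      simp only [commutatorElement_def]; group
    rw [e]
    exact (Subgroup.mem_normalizer_iff.mp hxn _).mp (B.inv_mem (ihx a ha))

theorem map_conj_mul (K : Subgroup X) (s t : X) :
    (K.map (MulAut.conj s).toMonoidHom).map (MulAut.conj t).toMonoidHom =
      K.map (MulAut.conj (t * s)).toMonoidHom := by
  rw [Subgroup.map_map]
  congr 1
  ext x
  simp [MulAut.conj_apply, mul_assoc]

end general

section main

variable {X : Type*} [Group X] [Finite X] {p : ℕ} [Fact p.Prime] {N T A Λ D : Subgroup X}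

theorem pCore_eq_bot (h : AbsIso p N T A Λ D) : Cfsg.pCore p ↥N = ⊥ := by
  haveI := h.nN
  have hR : (Cfsg.pCoreOf p N).Normal := Cfsg.Agent.Lib.Helper6.pCoreOf_normal_of_normal p N
  have := h.hOp _ hR (Cfsg.Agent.Lib.Helper6.pCoreOf_le N)
    (Cfsg.Agent.Lib.Helper6.pCoreOf_isPGroup p N)
  unfold Cfsg.pCoreOf at this
  exact (Subgroup.map_eq_bot_iff_of_injective _ N.subtype_injective).mp this

theorem map_subtype_lt_of_ne_top {H : Subgroup ↥N} (hH : H ≠ ⊤) : H.map N.subtype < N := by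
  refine lt_of_le_of_ne (Subgroup.map_subtype_le _) ?_
  intro heq
  apply hH
  rw [eq_top_iff]
  intro x _
  have : (x : X) ∈ H.map N.subtype := by rw [heq]; exact x.2
  obtain ⟨y, hy, hyx⟩ := this
  have : y = x := Subtype.ext hyx
  rwa [← this]

theorem map_subtype_top' : (⊤ : Subgroup ↥N).map N.subtype = N := by
  rw [← MonoidHom.range_eq_map, Subgroup.range_subtype]

theorem layer_eq_top (h : AbsIso p N T A Λ D) (hdvd : p ∣ Nat.card N) :
    Cfsg.layer ↥N = ⊤ := by
  haveI := h.nN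
  have hsn : N.IsSubnormal := h.nN.isSubnormal
  have hcore := pCore_eq_bot h
  by_contra hE
  have hE'n : ((Cfsg.layer ↥N).map N.subtype).Normal :=
    ConjAct.normal_of_characteristic_of_normal
  have hEc := h.hF5 _ hE'n (map_subtype_lt_of_ne_top hE)
  have hlayer_bot : Cfsg.layer ↥N = ⊥ := by
    have h1 : ⁅Cfsg.layer ↥N, Cfsg.layer ↥N⁆ = ⊥ := by
      apply (Subgroup.map_eq_bot_iff_of_injective _ N.subtype_injective).mp
      rw [Subgroup.map_commutator, eq_bot_iff, ← hEc]
      exact Subgroup.commutator_mono le_rfl (Subgroup.map_subtype_le _)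
    rw [commutator_layer_layer] at h1
    exact h1
  by_cases hF : Cfsg.fittingSubgroup ↥N = ⊤
  · have hnil : Group.IsNilpotent ↥N := by
      have h1 : Group.IsNilpotent ↥(Cfsg.fittingSubgroup ↥N) :=
        Cfsg.Agent.Lib.Lead.fittingSubgroup_isNilpotent
      rw [hF] at h1
      exact isNilpotent_of_injective
        ((Subgroup.topEquiv (G := ↥N)).symm.toMonoidHom)
        (by intro a b hab; exact (Subgroup.topEquiv (G := ↥N)).symm.injective hab) h1
    obtain ⟨P⟩ : Nonempty (Sylow p ↥N) := inferInstance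
    have hPn : (P : Subgroup ↥N).Normal := inferInstance
    have hPle : (P : Subgroup ↥N) ≤ Cfsg.pCore p ↥N :=
      Cfsg.Agent.Lib.Helper6.le_pCore hPn P.isPGroup'
    rw [hcore, le_bot_iff] at hPle
    have hd := P.dvd_card_of_dvd_card hdvd
    have hc : Nat.card (P : Subgroup ↥N) = 1 := by rw [hPle]; exact Subgroup.card_bot
    have hc' : Nat.card P = 1 := hc
    rw [hc'] at hd
    exact (Fact.out : p.Prime).one_lt.ne' (Nat.dvd_one.mp hd)
  · have hF'n : ((Cfsg.fittingSubgroup ↥N).map N.subtype).Normal := by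
      rw [fittingSubgroup_map_subtype_eq_of_isSubnormal hsn]
      infer_instance
    have hFc := h.hF5 _ hF'n (map_subtype_lt_of_ne_top hF)
    have hFcen : Cfsg.fittingSubgroup ↥N ≤ Subgroup.center ↥N := by
      intro x hx
      rw [Subgroup.mem_center_iff]
      intro y
      have : ⁅(x : X), (y : X)⁆ ∈ ⁅(Cfsg.fittingSubgroup ↥N).map N.subtype, N⁆ :=
        Subgroup.commutator_mem_commutator ⟨x, hx, rfl⟩ y.2
      rw [hFc, Subgroup.mem_bot, commutatorElement_eq_one_iff_mul_comm] at this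
      exact Subtype.ext this.symm
    have hgF : Cfsg.generalizedFittingSubgroup ↥N = Cfsg.fittingSubgroup ↥N := by
      unfold Cfsg.generalizedFittingSubgroup
      rw [hlayer_bot, bot_sup_eq]
    have hB := centralizer_generalizedFittingSubgroup_le (G := ↥N)
    rw [hgF] at hB
    apply hF
    rw [eq_top_iff]
    refine le_trans ?_ hB
    intro x _
    rw [Subgroup.mem_centralizer_iff]
    intro y hy
    exact ((Subgroup.mem_center_iff.mp (hFcen hy)) x).symm

theorem commutator_self_eq (hl : Cfsg.layer ↥N = ⊤) : ⁅N, N⁆ = N := by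
  have := commutator_layer_layer (G := ↥N)
  rw [hl] at this
  have h2 := congrArg (Subgroup.map N.subtype) this
  rw [Subgroup.map_commutator, map_subtype_top'] at h2
  exact h2

theorem ne_bot_of_dvd (hdvd : p ∣ Nat.card N) : N ≠ ⊥ := by
  rintro rfl
  rw [Subgroup.card_bot] at hdvd
  exact (Fact.out : p.Prime).one_lt.ne' (Nat.dvd_one.mp hdvd)

theorem commutator_eq (h : AbsIso p N T A Λ D) (hl : Cfsg.layer ↥N = ⊤) : ⁅N, A⁆ = N := by
  haveI := h.nN
  have hperf := commutator_self_eq hl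
  have hWle : ⁅N, A⁆ ≤ N := Subgroup.commutator_le_left N A
  by_contra hne
  have hWn : (⁅N, A⁆).Normal := by
    rw [← Subgroup.normalizer_eq_top_iff, eq_top_iff, ← h.hNΛ]
    apply sup_le
    · exact le_normalizer_commutator_left N A
    · refine le_trans ?_ (normalizer_inf_le_normalizer_commutator N A)
      refine le_inf ?_ h.hΛA
      rw [Subgroup.normalizer_eq_top_iff.mpr h.nN]
      exact le_top
  have hlt : ⁅N, A⁆ < N := lt_of_le_of_ne hWle hne
  have h1 := h.hF5 _ hWn hlt
  have h2 : ⁅⁅A, N⁆, N⁆ = ⊥ := by rw [Subgroup.commutator_comm A N]; exact h1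
  have h3 : ⁅⁅N, N⁆, A⁆ = ⊥ := Subgroup.commutator_commutator_eq_bot_of_rotate h1 h2
  rw [hperf] at h3
  have hDAle : D ≤ A := by
    have h4 : ⁅D, A⁆ = ⊥ := by
      rw [eq_bot_iff, ← h3]
      exact Subgroup.commutator_mono h.hDN le_rfl
    have h5 := h.hDA
    rwa [h4, bot_sup_eq] at h5
  exact h.hDp (h.hT.to_le (hDAle.trans h.hAT))

/-- (v): an `N`- and `T`-invariant subgroup of `N` normalizing `A` is centralized by `A`. -/
theorem commutator_eq_bot_of_normalizes (h : AbsIso p N T A Λ D) {U : Subgroup X} (hUN : U ≤ N)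
    (hTU : T ≤ normalizer (U : Set X)) (hNU : N ≤ normalizer (U : Set X))
    (hUA : U ≤ normalizer (A : Set X)) : ⁅U, A⁆ = ⊥ := by
  have hcore := pCore_eq_bot h
  have hAU : A ≤ normalizer (U : Set X) := h.hAT.trans hTU
  have hle : ⁅U, A⁆ ≤ U ⊓ A := by
    rw [Subgroup.commutator_le]
    intro u hu a ha
    refine Subgroup.mem_inf.mpr ⟨?_, ?_⟩
    · have h1 : a * u⁻¹ * a⁻¹ ∈ U :=
        (Subgroup.mem_normalizer_iff.mp (hAU ha) u⁻¹).mp (U.inv_mem hu)
      have : ⁅u, a⁆ = u * (a * u⁻¹ * a⁻¹) := by rw [commutatorElement_def]; group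
      rw [this]; exact U.mul_mem hu h1
    · have h1 : u * a * u⁻¹ ∈ A := (Subgroup.mem_normalizer_iff.mp (hUA hu) a).mp ha
      have : ⁅u, a⁆ = (u * a * u⁻¹) * a⁻¹ := by rw [commutatorElement_def]
      rw [this]; exact A.mul_mem h1 (A.inv_mem ha)
  have hV : U ⊓ A = ⊥ := by
    have hUn : (U.subgroupOf N).Normal :=
      (Subgroup.normal_subgroupOf_iff_le_normalizer hUN).mpr hNU
    have hle' : (U ⊓ A).subgroupOf N ≤ U.subgroupOf N := by
      intro x hx
      rw [Subgroup.mem_subgroupOf] at hx ⊢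
      exact hx.1
    have hsub : ((U ⊓ A).subgroupOf N).IsSubnormal := by
      refine Subgroup.IsSubnormal.step _ (U.subgroupOf N) hle' hUn.isSubnormal ?_
      rw [Subgroup.normal_subgroupOf_iff_le_normalizer hle']
      intro g hg
      rw [Subgroup.mem_subgroupOf] at hg
      rw [Subgroup.mem_normalizer_iff]
      intro x
      simp only [Subgroup.mem_subgroupOf, Subgroup.coe_mul, Subgroup.coe_inv, Subgroup.mem_inf]
      have hgU := Subgroup.mem_normalizer_iff.mp (Subgroup.le_normalizer hg) (x : X)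
      have hgA := Subgroup.mem_normalizer_iff.mp (hUA hg) (x : X)
      rw [hgU, hgA]
    have hp : IsPGroup p ↥((U ⊓ A).subgroupOf N) :=
      (h.hT.to_le ((inf_le_right : U ⊓ A ≤ A).trans h.hAT)).comap_subtype
    have := Cfsg.Agent.Lib.Helper6.le_pCore_of_isSubnormal_of_isPGroup hsub hp
    rw [hcore, le_bot_iff, Subgroup.subgroupOf_eq_bot] at this
    rw [eq_bot_iff]
    intro x hx
    exact this.le_bot ⟨hx, hUN hx.1⟩
  rw [eq_bot_iff, ← hV]
  exact hle

end main

section comps

variable {X : Type*} [Group X] [Finite X] {p : ℕ} [Fact p.Prime] {N T A Λ D : Subgroup X}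

/-- the components of `X` inside `N` -/
def Comps (N : Subgroup X) : Set (Subgroup X) := {K | Cfsg.IsComponent K ∧ K ≤ N}

/-- the `T`-orbit of a subgroup under conjugation -/
def orb (T K₀ : Subgroup X) : Set (Subgroup X) :=
  {K | ∃ s ∈ T, K = K₀.map (MulAut.conj s).toMonoidHom}

theorem sSup_comps (hN : N.Normal) (hl : Cfsg.layer ↥N = ⊤) : sSup (Comps N) = N := by
  have := layer_map_subtype_eq (hN.isSubnormal)
  rw [hl, map_subtype_top'] at this
  exact this.symm

theorem map_conj_mem_comps (hN : N.Normal) {K : Subgroup X} (hK : K ∈ Comps N) (x : X) :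
    K.map (MulAut.conj x).toMonoidHom ∈ Comps N := by
  refine ⟨IsComponent.map_conj hK.1 x, ?_⟩
  rintro _ ⟨k, hk, rfl⟩
  exact hN.conj_mem k (hK.2 hk) x

theorem le_normalizer_of_mem_comps (hN : N.Normal) (hl : Cfsg.layer ↥N = ⊤) {K : Subgroup X}
    (hK : K ∈ Comps N) : N ≤ normalizer (K : Set X) := by
  have h1 : N ≤ Cfsg.layer X := by
    rw [← sSup_comps hN hl]
    apply sSup_le
    intro L hL
    exact IsComponent.le_layer hL.1
  exact h1.trans (IsComponent.layer_le_normalizer hK.1)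

theorem orb_subset_comps (hN : N.Normal) {K₀ : Subgroup X} (hK₀ : K₀ ∈ Comps N) :
    orb T K₀ ⊆ Comps N := by
  rintro K ⟨s, _, rfl⟩
  exact map_conj_mem_comps hN hK₀ s

theorem self_mem_orb (K₀ : Subgroup X) : K₀ ∈ orb T K₀ := by
  refine ⟨1, T.one_mem, ?_⟩
  ext x
  simp

theorem map_conj_mem_orb {K₀ K : Subgroup X} (hK : K ∈ orb T K₀) {t : X} (ht : t ∈ T) :
    K.map (MulAut.conj t).toMonoidHom ∈ orb T K₀ := by
  obtain ⟨s, hs, rfl⟩ := hK
  exact ⟨t * s, T.mul_mem ht hs, map_conj_mul K₀ s t⟩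

theorem mem_orb_of_map_conj_mem {K₀ K : Subgroup X} {t : X} (ht : t ∈ T)
    (hK : K.map (MulAut.conj t).toMonoidHom ∈ orb T K₀) : K ∈ orb T K₀ := by
  have := map_conj_mem_orb hK (T.inv_mem ht)
  rw [map_conj_mul, inv_mul_cancel] at this
  have e : K.map (MulAut.conj (1 : X)).toMonoidHom = K := by
    ext x; simp
  rwa [e] at this

theorem le_normalizer_sSup_of_invariant (S : Set (Subgroup X))
    (hS : ∀ K ∈ S, ∀ t ∈ T, K.map (MulAut.conj t).toMonoidHom ∈ S) :
    T ≤ normalizer ((sSup S : Subgroup X) : Set X) := by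
  intro t ht
  apply Cfsg.Agent.Lib.Helper6.mem_normalizer_of_map_conj_le
  rw [Subgroup.map_le_iff_le_comap]
  apply sSup_le
  intro K hK
  rw [← Subgroup.map_le_iff_le_comap]
  exact le_sSup (hS K hK t ht)

theorem exists_conj (h : AbsIso p N T A Λ D) (hdvd : p ∣ Nat.card N)
    (hl : Cfsg.layer ↥N = ⊤) :
    ∃ K₀ ∈ Comps N, ∀ K ∈ Comps N, ∃ s ∈ T, K = K₀.map (MulAut.conj s).toMonoidHom := by
  haveI := h.nN
  have hNA := commutator_eq h hl
  have hNne := ne_bot_of_dvd hdvd
  have hsup := sSup_comps h.nN hl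
  have hperf := commutator_self_eq hl
  -- invariance facts for orbit joins
  have hBN : ∀ K₀ ∈ Comps N, sSup (orb T K₀) ≤ N := fun K₀ hK₀ =>
    sSup_le (fun K hK => (orb_subset_comps h.nN hK₀ hK).2)
  have hTB : ∀ K₀ : Subgroup X, T ≤ normalizer ((sSup (orb T K₀) : Subgroup X) : Set X) :=
    fun K₀ => le_normalizer_sSup_of_invariant _ (fun K hK t ht => map_conj_mem_orb hK ht)
  have hNB : ∀ K₀ ∈ Comps N, N ≤ normalizer ((sSup (orb T K₀) : Subgroup X) : Set X) := by
    intro K₀ hK₀ n hn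
    apply mem_normalizer_sSup
    intro K hK
    exact le_normalizer_of_mem_comps h.nN hl (orb_subset_comps h.nN hK₀ hK) hn
  -- Step A
  have hA : ∃ K₀ ∈ Comps N, D ≤ sSup (orb T K₀) := by
    by_contra hcon
    push Not at hcon
    have hcent : ∀ K₀ ∈ Comps N, K₀ ≤ centralizer (A : Set X) := by
      intro K₀ hK₀
      rcases h.hss _ (hBN K₀ hK₀) (hTB K₀) with h1 | h1
      · have := commutator_eq_bot_of_normalizes h (hBN K₀ hK₀) (hTB K₀) (hNB K₀ hK₀) h1
        rw [Subgroup.commutator_eq_bot_iff_le_centralizer] at this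
        exact (le_sSup (self_mem_orb K₀)).trans this
      · exact absurd h1 (hcon K₀ hK₀)
    have h2 : N ≤ centralizer (A : Set X) := by rw [← hsup]; exact sSup_le hcent
    have h3 : ⁅N, A⁆ = ⊥ := Subgroup.commutator_eq_bot_iff_le_centralizer.mpr h2
    rw [hNA] at h3
    exact hNne h3
  obtain ⟨K₀, hK₀, hDB⟩ := hA
  refine ⟨K₀, hK₀, ?_⟩
  -- the complement
  have hE'N : sSup (Comps N \ orb T K₀) ≤ N := sSup_le (fun K hK => hK.1.2)
  have hTE' : T ≤ normalizer ((sSup (Comps N \ orb T K₀) : Subgroup X) : Set X) := by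
    apply le_normalizer_sSup_of_invariant
    intro K hK t ht
    exact ⟨map_conj_mem_comps h.nN hK.1 t, fun hmem => hK.2 (mem_orb_of_map_conj_mem ht hmem)⟩
  have hNE' : N ≤ normalizer ((sSup (Comps N \ orb T K₀) : Subgroup X) : Set X) := by
    intro n hn
    apply mem_normalizer_sSup
    intro K hK
    exact le_normalizer_of_mem_comps h.nN hl hK.1 hn
  have hcomm : sSup (orb T K₀) ≤ centralizer ((sSup (Comps N \ orb T K₀) : Subgroup X) : Set X) := by
    apply sSup_le
    intro K hK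
    rw [Subgroup.le_centralizer_iff]
    apply sSup_le
    intro L hL
    have hne : L ≠ K := fun hLK => hL.2 (hLK ▸ hK)
    have := IsComponent.commutator_eq_bot_of_ne hL.1.1 (orb_subset_comps h.nN hK₀ hK).1 hne
    exact Subgroup.commutator_eq_bot_iff_le_centralizer.mp this
  have hBE : N ≤ sSup (orb T K₀) ⊔ sSup (Comps N \ orb T K₀) := by
    conv_lhs => rw [← hsup]
    apply sSup_le
    intro K hK
    by_cases hKo : K ∈ orb T K₀
    · exact (le_sSup hKo).trans le_sup_left
    · exact (le_sSup (show K ∈ Comps N \ orb T K₀ from ⟨hK, hKo⟩)).trans le_sup_right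
  have hDE' : ¬ D ≤ sSup (Comps N \ orb T K₀) := by
    intro hDE
    have h1 : sSup (orb T K₀) ≤ centralizer (D : Set X) :=
      hcomm.trans (Subgroup.centralizer_le hDE)
    have h2 : sSup (Comps N \ orb T K₀) ≤ centralizer (D : Set X) :=
      (Subgroup.le_centralizer_iff.mp hcomm).trans (Subgroup.centralizer_le hDB)
    have h3 : N ≤ centralizer (D : Set X) := hBE.trans (sup_le h1 h2)
    have h4 : D ≤ centralizer (N : Set X) := Subgroup.le_centralizer_iff.mp h3
    have hCn : (centralizer (N : Set X)).Normal := inferInstance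
    have h5 : N ≤ centralizer (N : Set X) := by
      conv_lhs => rw [h.hcl]
      exact Subgroup.normalClosure_le_normal h4
    have h6 : ⁅N, N⁆ = ⊥ := Subgroup.commutator_eq_bot_iff_le_centralizer.mpr h5
    rw [hperf] at h6
    exact hNne h6
  have hE'A : ⁅sSup (Comps N \ orb T K₀), A⁆ = ⊥ := by
    rcases h.hss _ hE'N hTE' with h1 | h1
    · exact commutator_eq_bot_of_normalizes h hE'N hTE' hNE' h1
    · exact absurd h1 hDE'
  have hNleB : N ≤ sSup (orb T K₀) := by
    calc N = ⁅N, A⁆ := hNA.symm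
      _ ≤ sSup (orb T K₀) := by
        rw [Subgroup.commutator_le]
        intro n hn a ha
        refine commutator_mem_of_sup (B := sSup (orb T K₀)) (H := sSup (orb T K₀))
          (K := sSup (Comps N \ orb T K₀)) (A := A) ?_ ?_ ?_ n (hBE hn) a ha
        · exact sup_le Subgroup.le_normalizer (hE'N.trans (hNB K₀ hK₀))
        · intro x hx a ha
          have hAB := (h.hAT.trans (hTB K₀)) ha
          have h1 : a * x⁻¹ * a⁻¹ ∈ sSup (orb T K₀) :=
            (Subgroup.mem_normalizer_iff.mp hAB x⁻¹).mp (Subgroup.inv_mem _ hx)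
          have : ⁅x, a⁆ = x * (a * x⁻¹ * a⁻¹) := by rw [commutatorElement_def]; group
          rw [this]
          exact Subgroup.mul_mem _ hx h1
        · intro x hx a ha
          have : ⁅x, a⁆ ∈ ⁅sSup (Comps N \ orb T K₀), A⁆ :=
            Subgroup.commutator_mem_commutator hx ha
          rw [hE'A, Subgroup.mem_bot] at this
          rw [this]
          exact Subgroup.one_mem _
  -- Step C
  intro K hK
  by_contra hne
  push Not at hne
  have h1 : sSup (orb T K₀) ≤ centralizer (K : Set X) := by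
    apply sSup_le
    rintro L ⟨s, hs, rfl⟩
    have hLc := map_conj_mem_comps h.nN hK₀ s
    have := IsComponent.commutator_eq_bot_of_ne hLc.1 hK.1 (fun heq => hne s hs heq.symm)
    exact Subgroup.commutator_eq_bot_iff_le_centralizer.mp this
  have h2 : K ≤ centralizer (K : Set X) := (hK.2.trans hNleB).trans h1
  have h3 : ⁅K, K⁆ = ⊥ := Subgroup.commutator_eq_bot_iff_le_centralizer.mpr h2
  exact IsQuasisimple.commutator_self_ne_bot hK.1.2 h3

/-- PACKAGE D of the S3044/S3045 swarm. -/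
theorem absIso_dvd {X : Type*} [Group X] [Finite X] {p : ℕ} [Fact p.Prime]
    {N T A Λ D : Subgroup X} (h : AbsIso p N T A Λ D) (hdvd : p ∣ Nat.card N) :
    Cfsg.layer ↥N = ⊤ ∧ ∀ K₁ K₂ : Subgroup ↥N, Cfsg.IsComponent K₁ → Cfsg.IsComponent K₂ →
      ∃ s ∈ T, K₂.map N.subtype = (K₁.map N.subtype).map (MulAut.conj s).toMonoidHom := by
  have hl := layer_eq_top h hdvd
  refine ⟨hl, ?_⟩
  obtain ⟨K₀, hK₀, hall⟩ := exists_conj h hdvd hl
  intro K₁ K₂ hK₁ hK₂
  have hsn : N.IsSubnormal := h.nN.isSubnormal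
  have hm₁ : K₁.map N.subtype ∈ Comps N :=
    ⟨IsComponent.map_subtype hsn hK₁, Subgroup.map_subtype_le _⟩
  have hm₂ : K₂.map N.subtype ∈ Comps N :=
    ⟨IsComponent.map_subtype hsn hK₂, Subgroup.map_subtype_le _⟩
  obtain ⟨s₁, hs₁, e₁⟩ := hall _ hm₁
  obtain ⟨s₂, hs₂, e₂⟩ := hall _ hm₂
  refine ⟨s₂ * s₁⁻¹, T.mul_mem hs₂ (T.inv_mem hs₁), ?_⟩
  rw [e₂, e₁, map_conj_mul]
  congr 2
  group

end comps

end Cfsg.Agent.Lib.Helper3.IsoMinD
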