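import Mathlib
import Cfsg.Prelude
import Cfsg.Agent.S1265
import Cfsg.Agent.Lib.Helper3.Components5
import Cfsg.Agent.Lib.Helper6.IsoMin2

/-!
# Isolated p-minimal subgroups: `O^p(P)` lies in the preimage of `F*(G/O_p(G))`
(package A8 of the S3044 / S3045 programme: the first clause of S3045)
-/

set_option autoImplicit false

namespace Cfsg.Agent.Lib.Helper3.IsoMinF

open Cfsg Cfsg.Agent.Lib.Helper6 Cfsg.Agent.Lib.Helper6.IsoMin
open scoped commutatorElement

variable {G : Type*} [Group G] [Finite G] {p : ℕ} [Fact p.Prime]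
variable {S : Sylow p G} {P L : Subgroup G}

omit [Finite G] in
/-- two elements commute modulo a normal subgroup iff their commutator lies in it -/
theorem mk_commute_iff (K : Subgroup G) [K.Normal] (a b : G) :
    ((a : G ⧸ K) * (b : G ⧸ K) = (b : G ⧸ K) * (a : G ⧸ K)) ↔ ⁅a, b⁆ ∈ K := by
  rw [← QuotientGroup.eq_one_iff, commutatorElement_def, ← mul_inv_eq_one]
  simp only [QuotientGroup.mk_mul, QuotientGroup.mk_inv, mul_inv_rev, mul_assoc]

/-- (A8) `D = O^p(P)` lies in the preimage of `F*(G/O_p(G))`. -/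
theorem D_le_fstar (h : IsoHyp S P L) [hn : (Cfsg.pCore p G).Normal] :
    Cfsg.pResidualOf p P ≤
      (Cfsg.generalizedFittingSubgroup (G ⧸ Cfsg.pCore p G)).comap
        (QuotientGroup.mk' (Cfsg.pCore p G)) := by
  set K := Cfsg.pCore p G with hK
  set Fs := Cfsg.generalizedFittingSubgroup (G ⧸ K) with hFs
  have hFsn : Fs.Normal := Cfsg.Agent.Lib.Helper3.generalizedFittingSubgroup_normal
  set F : Subgroup G := Fs.comap (QuotientGroup.mk' K) with hF
  have hFn : F.Normal := Subgroup.Normal.comap hFsn _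
  rcases h.normal_le_or F with hFL | hYF
  · set Q := Cfsg.pCoreOf p L with hQ
    have hQF : Q ≤ F := by
      intro q hq
      rw [hF, Subgroup.mem_comap]
      apply Cfsg.Agent.S1265.result
      rw [Subgroup.mem_centralizer_iff]
      intro y hy
      obtain ⟨f, rfl⟩ := QuotientGroup.mk'_surjective K y
      have hf : f ∈ F := hy
      have hc : ⁅f, q⁆ ∈ K := by
        apply pCoreOf_le_pCore p F
        apply h.inf_Q_le_pCoreOf F hFL
        refine ⟨?_, ?_⟩
        · have e : ⁅f, q⁆ = f * (q * f⁻¹ * q⁻¹) := by rw [commutatorElement_def]; group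
          rw [e]
          exact F.mul_mem hf (hFn.conj_mem _ (F.inv_mem hf) _)
        · have hnQ := h.L_le_normalizer_Q (hFL hf)
          rw [Subgroup.mem_normalizer_iff] at hnQ
          rw [commutatorElement_def]
          exact Q.mul_mem ((hnQ q).mp hq) (Q.inv_mem hq)
      exact (mk_commute_iff K f q).mpr hc
    exact h.D_le_normalClosure_Q.trans (Subgroup.normalClosure_le_normal hQF)
  · exact (D_le_Y P).trans hYF

end Cfsg.Agent.Lib.Helper3.IsoMinF
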