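import Mathlib
import Cfsg.Agent.S1184
import Cfsg.Agent.Lib.Helper3.Isolated2
import Cfsg.Agent.Lib.Helper3.OddOrder

set_option autoImplicit false

namespace Cfsg.Agent.Lib.Helper3.Iso
open Cfsg.Agent.Lib.Lead Cfsg.Agent.Lib.Helper3

variable {G : Type*} [Group G]

/-- the conjugacy class of `z` as a set -/
def Cl (z : G) : Set G := {x | ∃ g : G, g * z * g⁻¹ = x}

theorem mem_Cl {z x : G} : x ∈ Cl z ↔ ∃ g : G, g * z * g⁻¹ = x := Iff.rfl

theorem self_mem_Cl (z : G) : z ∈ Cl z := ⟨1, by group⟩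

theorem conj_mem_Cl {z x : G} (hx : x ∈ Cl z) (g : G) : g * x * g⁻¹ ∈ Cl z := by
  obtain ⟨h, rfl⟩ := hx
  exact ⟨g * h, by group⟩

theorem Cl_eq_of_mem {z u : G} (hu : u ∈ Cl z) : Cl u = Cl z := by
  obtain ⟨g, rfl⟩ := hu
  ext x
  constructor
  · rintro ⟨h, rfl⟩; exact ⟨h * g, by group⟩
  · rintro ⟨h, rfl⟩; exact ⟨h * g⁻¹, by group⟩

theorem isolated_of_mem_Cl {z u : G} (hz : Cfsg.IsIsolatedInvolution z) (hu : u ∈ Cl z) :
    Cfsg.IsIsolatedInvolution u := by
  obtain ⟨g, rfl⟩ := hu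
  exact IsIsolatedInvolution.conj hz g

variable [Finite G]

/-- midpoints exist (base case) -/
theorem exists_mid_base {z : G} (hz : Cfsg.IsIsolatedInvolution z) {t : G} (ht : t ∈ Cl z) :
    ∃ m ∈ Cl z, m * z * m⁻¹ = t := by
  obtain ⟨g, rfl⟩ := ht
  obtain ⟨h, -, h1, h2, h3⟩ := IsIsolatedInvolution.exists_conj hz g
  obtain ⟨n, hn⟩ := exists_pow_sq_eq_of_odd_order h h3
  have hzz := IsIsolatedInvolution.mul_self hz
  have hzinv := IsIsolatedInvolution.inv_eq hz
  -- `r = h ^ n` is inverted by `z`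
  have hr : z * h ^ n * z⁻¹ = (h ^ n)⁻¹ := by
    rw [← inv_pow, ← h2, conj_pow]
  set r := h ^ n with hrdef
  have hrz : z * r⁻¹ = r * z := by
    have e : z * r⁻¹ * z⁻¹ = r := by
      calc z * r⁻¹ * z⁻¹ = (z * r * z⁻¹)⁻¹ := by group
        _ = r := by rw [hr, inv_inv]
    calc z * r⁻¹ = (z * r⁻¹ * z⁻¹) * z := by group
      _ = r * z := by rw [e]
  have hm : r * z * r⁻¹ = h * z := by
    calc r * z * r⁻¹ = r * (z * r⁻¹) := by group
      _ = r * (r * z) := by rw [hrz]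
      _ = (r * r) * z := by group
      _ = h * z := by rw [hn]
  refine ⟨r * z * r⁻¹, ⟨r, rfl⟩, ?_⟩
  rw [hm]
  calc h * z * z * (h * z)⁻¹ = h * (z * z) * z⁻¹ * h⁻¹ := by group
    _ = h * z * h⁻¹ := by rw [hzz, mul_one, hzinv]
    _ = g * z * g⁻¹ := h1

/-- midpoints exist -/
theorem exists_mid {z : G} (hz : Cfsg.IsIsolatedInvolution z) {u t : G} (hu : u ∈ Cl z)
    (ht : t ∈ Cl z) : ∃ m ∈ Cl z, m * u * m⁻¹ = t := by
  have hu' := isolated_of_mem_Cl hz hu
  have hCl := Cl_eq_of_mem hu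
  obtain ⟨m, hm, h⟩ := exists_mid_base hu' (by rw [hCl]; exact ht)
  exact ⟨m, by rw [← hCl]; exact hm, h⟩

/-- midpoints are unique -/
theorem mid_unique {z : G} (hz : Cfsg.IsIsolatedInvolution z) {u t m m' : G} (hu : u ∈ Cl z)
    (hm : m ∈ Cl z) (hm' : m' ∈ Cl z) (h : m * u * m⁻¹ = t) (h' : m' * u * m'⁻¹ = t) : m = m' := by
  by_contra hne
  have hu' := isolated_of_mem_Cl hz hu
  have hCl := Cl_eq_of_mem hu
  rw [← hCl] at hm hm'
  obtain ⟨g, rfl⟩ := hm
  obtain ⟨g', rfl⟩ := hm'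
  have h1 := Cfsg.Agent.S1184.result u hu' g g' hne
  apply h1
  have hminv : (g * u * g⁻¹)⁻¹ = g * u * g⁻¹ := by
    have := conj_mul_self (IsIsolatedInvolution.mul_self hu') g
    exact inv_eq_of_mul_eq_one_right this
  have hm'inv : (g' * u * g'⁻¹)⁻¹ = g' * u * g'⁻¹ := by
    have := conj_mul_self (IsIsolatedInvolution.mul_self hu') g'
    exact inv_eq_of_mul_eq_one_right this
  -- `m m'` commutes with `u`
  have e : g' * u * g'⁻¹ * u * (g' * u * g'⁻¹)⁻¹ = g * u * g⁻¹ * u * (g * u * g⁻¹)⁻¹ := by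
    rw [h', h]
  rw [hminv, hm'inv] at e
  unfold Commute SemiconjBy
  set m := g * u * g⁻¹
  set m' := g' * u * g'⁻¹
  have hmm : m * m = 1 := conj_mul_self (IsIsolatedInvolution.mul_self hu') g
  calc m * m' * u = m * (m' * u * m') * m'⁻¹ := by group
    _ = m * (m * u * m) * m'⁻¹ := by rw [e]
    _ = (m * m) * u * m * m' := by rw [hm'inv]; group
    _ = u * (m * m') := by rw [hmm]; group


open Cfsg.Agent.Lib.Lead Cfsg.Agent.Lib.Helper3

variable {G : Type*} [Group G] [Finite G]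

omit [Finite G] in
theorem mul_self_of_mem_Cl {z x : G} (hz : Cfsg.IsIsolatedInvolution z) (hx : x ∈ Cl z) :
    x * x = 1 := by
  obtain ⟨g, rfl⟩ := hx
  exact conj_mul_self (IsIsolatedInvolution.mul_self hz) g

omit [Finite G] in
theorem inv_of_mem_Cl {z x : G} (hz : Cfsg.IsIsolatedInvolution z) (hx : x ∈ Cl z) : x⁻¹ = x :=
  inv_eq_of_mul_eq_one_right (mul_self_of_mem_Cl hz hx)

/-- the midpoint of two conjugates of an isolated involution -/
noncomputable def mid {z : G} (hz : Cfsg.IsIsolatedInvolution z) (u t : Cl z) : G :=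
  Classical.choose (exists_mid hz u.2 t.2)

theorem mid_mem {z : G} (hz : Cfsg.IsIsolatedInvolution z) (u t : Cl z) : mid hz u t ∈ Cl z :=
  (Classical.choose_spec (exists_mid hz u.2 t.2)).1

theorem mid_spec {z : G} (hz : Cfsg.IsIsolatedInvolution z) (u t : Cl z) :
    mid hz u t * u * (mid hz u t)⁻¹ = t :=
  (Classical.choose_spec (exists_mid hz u.2 t.2)).2

theorem mid_eq {z : G} (hz : Cfsg.IsIsolatedInvolution z) (u t : Cl z) {m : G} (hm : m ∈ Cl z)
    (h : m * u * m⁻¹ = t) : m = mid hz u t :=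
  mid_unique hz u.2 hm (mid_mem hz u t) h (mid_spec hz u t)

theorem mid_spec' {z : G} (hz : Cfsg.IsIsolatedInvolution z) (u t : Cl z) :
    mid hz u t * t * (mid hz u t)⁻¹ = u := by
  have h := mid_spec hz u t
  have hm := mul_self_of_mem_Cl hz (mid_mem hz u t)
  have hinv := inv_of_mem_Cl hz (mid_mem hz u t)
  rw [hinv] at h ⊢
  rw [← h]
  calc mid hz u t * (mid hz u t * u * mid hz u t) * mid hz u t
      = (mid hz u t * mid hz u t) * u * (mid hz u t * mid hz u t) := by group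
    _ = u := by rw [hm, one_mul, mul_one]

theorem mid_symm {z : G} (hz : Cfsg.IsIsolatedInvolution z) (u t : Cl z) :
    mid hz t u = mid hz u t :=
  (mid_eq hz t u (mid_mem hz u t) (mid_spec' hz u t)).symm

/-- midpoints commute with conjugation -/
theorem conj_mid {z : G} (hz : Cfsg.IsIsolatedInvolution z) (u t : Cl z) (g : G) :
    g * mid hz u t * g⁻¹ =
      mid hz ⟨g * u * g⁻¹, conj_mem_Cl u.2 g⟩ ⟨g * t * g⁻¹, conj_mem_Cl t.2 g⟩ := by
  apply mid_eq hz _ _ (conj_mem_Cl (mid_mem hz u t) g)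
  show g * mid hz u t * g⁻¹ * (g * u * g⁻¹) * (g * mid hz u t * g⁻¹)⁻¹ = g * t * g⁻¹
  calc g * mid hz u t * g⁻¹ * (g * u * g⁻¹) * (g * mid hz u t * g⁻¹)⁻¹
      = g * (mid hz u t * u * (mid hz u t)⁻¹) * g⁻¹ := by group
    _ = g * t * g⁻¹ := by rw [mid_spec]

/-- an element commuting with both ends commutes with the midpoint -/
theorem commute_mid {z : G} (hz : Cfsg.IsIsolatedInvolution z) (u t : Cl z) {a : G}
    (hu : Commute a (u : G)) (ht : Commute a (t : G)) : Commute a (mid hz u t) := by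
  have h := conj_mid hz u t a
  have e1 : (⟨a * u * a⁻¹, conj_mem_Cl u.2 a⟩ : Cl z) = u := by
    apply Subtype.ext
    show a * (u : G) * a⁻¹ = u
    rw [hu.eq]; group
  have e2 : (⟨a * t * a⁻¹, conj_mem_Cl t.2 a⟩ : Cl z) = t := by
    apply Subtype.ext
    show a * (t : G) * a⁻¹ = t
    rw [ht.eq]; group
  rw [e1, e2] at h
  unfold Commute SemiconjBy
  calc a * mid hz u t = (a * mid hz u t * a⁻¹) * a := by group
    _ = mid hz u t * a := by rw [h]

/-- the midpoint of `u` and its image under an involution `a` commutes with `a` -/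
theorem commute_mid_conj {z : G} (hz : Cfsg.IsIsolatedInvolution z) (u : Cl z) {a : G}
    (ha : a * a = 1) :
    Commute a (mid hz u ⟨a * u * a⁻¹, conj_mem_Cl u.2 a⟩) := by
  have h := conj_mid hz u ⟨a * u * a⁻¹, conj_mem_Cl u.2 a⟩ a
  have e2 : (⟨a * (a * u * a⁻¹) * a⁻¹, conj_mem_Cl (conj_mem_Cl u.2 a) a⟩ : Cl z) = u := by
    apply Subtype.ext
    show a * (a * (u : G) * a⁻¹) * a⁻¹ = u
    calc a * (a * (u : G) * a⁻¹) * a⁻¹ = (a * a) * u * (a * a)⁻¹ := by group
      _ = u := by rw [ha]; group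
  have h' : a * mid hz u ⟨a * u * a⁻¹, conj_mem_Cl u.2 a⟩ * a⁻¹ =
      mid hz u ⟨a * u * a⁻¹, conj_mem_Cl u.2 a⟩ := by
    rw [h]
    have e3 : mid hz ⟨a * u * a⁻¹, conj_mem_Cl u.2 a⟩
        ⟨a * (a * u * a⁻¹) * a⁻¹, conj_mem_Cl (conj_mem_Cl u.2 a) a⟩ =
        mid hz ⟨a * u * a⁻¹, conj_mem_Cl u.2 a⟩ u := by congr 1
    rw [e3, mid_symm]
  unfold Commute SemiconjBy
  calc a * mid hz u ⟨a * u * a⁻¹, conj_mem_Cl u.2 a⟩
      = (a * mid hz u ⟨a * u * a⁻¹, conj_mem_Cl u.2 a⟩ * a⁻¹) * a := by group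
    _ = mid hz u ⟨a * u * a⁻¹, conj_mem_Cl u.2 a⟩ * a := by rw [h']


open Cfsg.Agent.Lib.Lead Cfsg.Agent.Lib.Helper3

variable {G : Type*} [Group G] [Finite G]

/-- conjugates of `z` commuting with `a` -/
def ClC (z a : G) : Set G := {x | x ∈ Cl z ∧ Commute a x}

/-- the decomposition of the class of an isolated involution with respect to a commuting
involution -/
noncomputable def splitEquiv {z : G} (hz : Cfsg.IsIsolatedInvolution z) {a : G} (ha : a * a = 1)
    (haz : Commute a z) : Cl z ≃ ClC z a × ClC z (a * z) where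
  toFun u :=
    (⟨mid hz u ⟨a * u * a⁻¹, conj_mem_Cl u.2 a⟩, mid_mem hz _ _, commute_mid_conj hz u ha⟩,
     ⟨mid hz ⟨mid hz u ⟨a * u * a⁻¹, conj_mem_Cl u.2 a⟩, mid_mem hz _ _⟩ ⟨z, self_mem_Cl z⟩ * u *
        (mid hz ⟨mid hz u ⟨a * u * a⁻¹, conj_mem_Cl u.2 a⟩, mid_mem hz _ _⟩ ⟨z, self_mem_Cl z⟩)⁻¹,
      conj_mem_Cl u.2 _, by
        set m := mid hz u ⟨a * u * a⁻¹, conj_mem_Cl u.2 a⟩ with hm
        have hmCl : m ∈ Cl z := mid_mem hz _ _
        set n := mid hz ⟨m, hmCl⟩ ⟨z, self_mem_Cl z⟩ with hn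
        have hma : Commute a m := commute_mid_conj hz u ha
        have hna : Commute a n := commute_mid hz ⟨m, hmCl⟩ ⟨z, self_mem_Cl z⟩ hma haz
        have h1 : m * u * m⁻¹ = a * u * a⁻¹ := mid_spec hz u ⟨a * u * a⁻¹, conj_mem_Cl u.2 a⟩
        have h2 : n * m * n⁻¹ = z := mid_spec hz ⟨m, hmCl⟩ ⟨z, self_mem_Cl z⟩
        have hainv : a⁻¹ = a := inv_eq_of_mul_eq_one_right ha
        -- `u` commutes with `a * m`
        have h3 : (a * m) * u * (a * m)⁻¹ = u := by
          calc (a * m) * u * (a * m)⁻¹ = a * (m * u * m⁻¹) * a⁻¹ := by group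
            _ = a * (a * u * a⁻¹) * a⁻¹ := by rw [h1]
            _ = (a * a) * u * (a * a)⁻¹ := by group
            _ = u := by rw [ha]; group
        have h4 : n * (a * m) * n⁻¹ = a * z := by
          calc n * (a * m) * n⁻¹ = (n * a) * m * n⁻¹ := by group
            _ = (a * n) * m * n⁻¹ := by rw [hna.eq]
            _ = a * (n * m * n⁻¹) := by group
            _ = a * z := by rw [h2]
        unfold Commute SemiconjBy
        calc a * z * (n * u * n⁻¹) = (n * (a * m) * n⁻¹) * (n * u * n⁻¹) := by rw [h4]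
          _ = n * ((a * m) * u * (a * m)⁻¹) * (a * m) * n⁻¹ := by group
          _ = n * u * (a * m) * n⁻¹ := by rw [h3]
          _ = (n * u * n⁻¹) * (n * (a * m) * n⁻¹) := by group
          _ = n * u * n⁻¹ * (a * z) := by rw [h4]⟩)
  invFun p :=
    ⟨mid hz ⟨p.1.1, p.1.2.1⟩ ⟨z, self_mem_Cl z⟩ * p.2.1 *
      (mid hz ⟨p.1.1, p.1.2.1⟩ ⟨z, self_mem_Cl z⟩)⁻¹, conj_mem_Cl p.2.2.1 _⟩
  left_inv u := by
    apply Subtype.ext
    simp only
    set n := mid hz ⟨mid hz u ⟨a * u * a⁻¹, conj_mem_Cl u.2 a⟩, mid_mem hz _ _⟩ ⟨z, self_mem_Cl z⟩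
    have hnn : n * n = 1 := mul_self_of_mem_Cl hz (mid_mem hz _ _)
    have hninv : n⁻¹ = n := inv_eq_of_mul_eq_one_right hnn
    rw [hninv]
    calc n * (n * u * n) * n = (n * n) * u * (n * n) := by group
      _ = u := by rw [hnn]; group
  right_inv p := by
    obtain ⟨⟨m, hmCl, hma⟩, ⟨t, htCl, hta⟩⟩ := p
    set n := mid hz ⟨m, hmCl⟩ ⟨z, self_mem_Cl z⟩ with hn
    have hnCl : n ∈ Cl z := mid_mem hz _ _
    have hnn : n * n = 1 := mul_self_of_mem_Cl hz hnCl
    have hninv : n⁻¹ = n := inv_eq_of_mul_eq_one_right hnn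
    have hna : Commute a n := commute_mid hz ⟨m, hmCl⟩ ⟨z, self_mem_Cl z⟩ hma haz
    have h2 : n * m * n⁻¹ = z := mid_spec hz ⟨m, hmCl⟩ ⟨z, self_mem_Cl z⟩
    have hainv : a⁻¹ = a := inv_eq_of_mul_eq_one_right ha
    have hzinv : z⁻¹ = z := IsIsolatedInvolution.inv_eq hz
    -- `m n = n z`
    have hmn : m * n = n * z := by
      rw [← h2, hninv]
      calc m * n = (n * n) * m * n := by rw [hnn, one_mul]
        _ = n * (n * m * n) := by group
    -- `a t a⁻¹ = z t z⁻¹`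
    have hat : a * t * a⁻¹ = z * t * z⁻¹ := by
      have h5 : a * z * t = t * (a * z) := hta.eq
      have h6 : z * t * z⁻¹ = a⁻¹ * t * a := by
        calc z * t * z⁻¹ = a⁻¹ * (a * z * t) * z⁻¹ := by group
          _ = a⁻¹ * (t * (a * z)) * z⁻¹ := by rw [h5]
          _ = a⁻¹ * t * a := by group
      rw [h6, hainv]
    have hkey : m * (n * t * n⁻¹) * m⁻¹ = a * (n * t * n⁻¹) * a⁻¹ := by
      calc m * (n * t * n⁻¹) * m⁻¹ = (m * n) * t * (m * n)⁻¹ := by group
        _ = (n * z) * t * (n * z)⁻¹ := by rw [hmn]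
        _ = n * (z * t * z⁻¹) * n⁻¹ := by group
        _ = n * (a * t * a⁻¹) * n⁻¹ := by rw [hat]
        _ = (n * a) * t * (n * a)⁻¹ := by group
        _ = (a * n) * t * (a * n)⁻¹ := by rw [hna.eq]
        _ = a * (n * t * n⁻¹) * a⁻¹ := by group
    have hm' : m = mid hz ⟨n * t * n⁻¹, conj_mem_Cl htCl n⟩
        ⟨a * (n * t * n⁻¹) * a⁻¹, conj_mem_Cl (conj_mem_Cl htCl n) a⟩ :=
      mid_eq hz _ _ hmCl hkey
    apply Prod.ext
    · apply Subtype.ext
      exact hm'.symm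
    · apply Subtype.ext
      simp only
      have e : mid hz ⟨mid hz ⟨n * t * n⁻¹, conj_mem_Cl htCl n⟩
          ⟨a * (n * t * n⁻¹) * a⁻¹, conj_mem_Cl (conj_mem_Cl htCl n) a⟩, mid_mem hz _ _⟩
          ⟨z, self_mem_Cl z⟩ = n := by
        rw [hn]
        congr 2
        exact hm'.symm
      rw [e, hninv]
      calc n * (n * t * n) * n = (n * n) * t * (n * n) := by group
        _ = t := by rw [hnn]; group


open Cfsg.Agent.Lib.Lead Cfsg.Agent.Lib.Helper3

variable {G : Type*} [Group G] [Finite G]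

omit [Finite G] in
/-- `z k` is conjugate to `z` when `k` has odd order and is inverted by `z` -/
theorem mul_mem_Cl_of_inverted {z k : G} (hk : Odd (orderOf k)) (hinv : z * k * z⁻¹ = k⁻¹) :
    z * k ∈ Cl z := by
  obtain ⟨n, hn⟩ := exists_pow_sq_eq_of_odd_order k hk
  have hr : z * k ^ n * z⁻¹ = (k ^ n)⁻¹ := by rw [← inv_pow, ← hinv, conj_pow]
  set r := k ^ n with hrdef
  refine ⟨r⁻¹, ?_⟩
  rw [inv_inv]
  have e : z * r = r⁻¹ * z := by
    calc z * r = (z * r * z⁻¹) * z := by group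
      _ = r⁻¹ * z := by rw [hr]
  calc r⁻¹ * z * r = r⁻¹ * (z * r) := by group
    _ = r⁻¹ * (r⁻¹ * z) := by rw [e]
    _ = (r * r)⁻¹ * z := by group
    _ = k⁻¹ * z := by rw [hn]
    _ = (z * k * z⁻¹) * z := by rw [hinv]
    _ = z * k := by group

/-- the elements of odd order inverted by `z` and commuting with `a` correspond to the conjugates
of `z` commuting with `a` -/
noncomputable def kEquiv {z : G} (hz : Cfsg.IsIsolatedInvolution z) {a : G} (haz : Commute a z) :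
    {k : G // Odd (orderOf k) ∧ z * k * z⁻¹ = k⁻¹ ∧ Commute k a} ≃ ClC z a where
  toFun k := ⟨z * k.1, mul_mem_Cl_of_inverted k.2.1 k.2.2.1, haz.mul_right k.2.2.2.symm⟩
  invFun x := ⟨z * x.1, by
    obtain ⟨g, hg⟩ := x.2.1
    have hodd := IsIsolatedInvolution.odd_orderOf_mul_conj hz g
    rw [hg] at hodd
    have hxinv : (x.1)⁻¹ = x.1 := inv_of_mem_Cl hz x.2.1
    have hzinv : z⁻¹ = z := IsIsolatedInvolution.inv_eq hz
    have hzz := IsIsolatedInvolution.mul_self hz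
    refine ⟨hodd, ?_, ?_⟩
    · rw [mul_inv_rev, hxinv, hzinv]
      calc z * (z * x.1) * z = (z * z) * x.1 * z := by group
        _ = x.1 * z := by rw [hzz, one_mul]
    · exact (haz.mul_right x.2.2).symm⟩
  left_inv k := by
    apply Subtype.ext
    show z * (z * k.1) = k.1
    rw [← mul_assoc, IsIsolatedInvolution.mul_self hz, one_mul]
  right_inv x := by
    apply Subtype.ext
    show z * (z * x.1) = x.1
    rw [← mul_assoc, IsIsolatedInvolution.mul_self hz, one_mul]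


open Cfsg.Agent.Lib.Lead Cfsg.Agent.Lib.Helper3

variable {G : Type*} [Group G] [Finite G]

omit [Finite G] in
/-- the class equation for a single class -/
theorem card_eq_card_Cl_mul (z : G) :
    Nat.card G = Nat.card (Cl z) * Nat.card (Subgroup.centralizer ({z} : Set G)) := by
  rw [Subgroup.card_eq_card_quotient_mul_card_subgroup (Subgroup.centralizer ({z} : Set G))]
  congr 1
  refine Nat.card_congr (Equiv.ofBijective
    (fun q : G ⧸ Subgroup.centralizer ({z} : Set G) =>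
      Quotient.liftOn' q (fun g => (⟨g * z * g⁻¹, ⟨g, rfl⟩⟩ : Cl z)) (by
        intro g h hgh
        rw [QuotientGroup.leftRel_apply] at hgh
        have hc := Subgroup.mem_centralizer_singleton_iff.mp hgh
        apply Subtype.ext
        show g * z * g⁻¹ = h * z * h⁻¹
        calc g * z * g⁻¹ = g * (z * (g⁻¹ * h)) * h⁻¹ := by group
          _ = g * (g⁻¹ * h * z) * h⁻¹ := by rw [← hc]
          _ = h * z * h⁻¹ := by group)) ⟨?_, ?_⟩)
  · intro q q'
    induction q using Quotient.inductionOn' with | _ g => ?_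
    induction q' using Quotient.inductionOn' with | _ h => ?_
    intro hq
    have h1 : g * z * g⁻¹ = h * z * h⁻¹ := congrArg Subtype.val hq
    apply Quotient.sound'
    rw [QuotientGroup.leftRel_apply]
    apply Subgroup.mem_centralizer_singleton_iff.mpr
    calc g⁻¹ * h * z = g⁻¹ * (h * z * h⁻¹) * h := by group
      _ = g⁻¹ * (g * z * g⁻¹) * h := by rw [h1]
      _ = z * (g⁻¹ * h) := by group
  · rintro ⟨x, g, rfl⟩
    exact ⟨Quotient.mk'' g, rfl⟩

/-- the order formula for an isolated involution -/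
theorem order_formula {z : G} (hz : Cfsg.IsIsolatedInvolution z) {s : G} (hs : orderOf s = 2)
    (hsz : Commute s z) :
    Nat.card G = Nat.card (Subgroup.centralizer ({z} : Set G)) *
      Nat.card {k : G // Odd (orderOf k) ∧ z * k * z⁻¹ = k⁻¹ ∧ Commute k (s * z)} *
      Nat.card {k : G // Odd (orderOf k) ∧ z * k * z⁻¹ = k⁻¹ ∧ Commute k s} := by
  have hss : s * s = 1 := by
    have := pow_orderOf_eq_one s
    rwa [hs, pow_two] at this
  have hszz : Commute (s * z) z := hsz.mul_left (Commute.refl z)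
  rw [card_eq_card_Cl_mul z, Nat.card_congr (splitEquiv hz hss hsz), Nat.card_prod,
    ← Nat.card_congr (kEquiv hz hsz), ← Nat.card_congr (kEquiv hz hszz)]
  ring

end Cfsg.Agent.Lib.Helper3.Iso
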