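import Mathlib
import Cfsg.Prelude.Def_CaseTheorems

set_option autoImplicit false

namespace Cfsg.Agent.Lib.Helper3.KGen

variable {G : Type*} [Group G]

/-- `E` is an elementary abelian `p`-subgroup of order greater than `p ^ m` -/
def Big (p m : ℕ) (E : Subgroup G) : Prop :=
  IsMulCommutative E ∧ (∀ a ∈ E, a ^ p = 1) ∧ p ^ m < Nat.card E

theorem Big.isPGroup {p m : ℕ} {E : Subgroup G} (hE : Big p m E) : IsPGroup p E := by
  intro a
  refine ⟨1, ?_⟩
  apply Subtype.ext
  rw [pow_one]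
  simpa using hE.2.1 a a.2

theorem Big.map_conj {p m : ℕ} {E : Subgroup G} (hE : Big p m E) (g : G) :
    Big p m (E.map (MulAut.conj g).toMonoidHom) := by
  obtain ⟨h1, h2, h3⟩ := hE
  refine ⟨inferInstance, ?_, ?_⟩
  · rintro _ ⟨a, ha, rfl⟩
    rw [← map_pow, h2 a ha, map_one]
  · have : Nat.card (E.map (MulAut.conj g).toMonoidHom) = Nat.card E :=
      (Nat.card_congr (E.equivMapOfInjective _ (MulAut.conj g).injective).toEquiv).symm
    rw [this]; exact h3

theorem not_pRankLE_iff {p m : ℕ} (X : Subgroup G) :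
    ¬ Cfsg.PRankLE p m ↥X ↔ ∃ E : Subgroup G, E ≤ X ∧ Big p m E := by
  constructor
  · intro h
    unfold Cfsg.PRankLE at h
    push Not at h
    obtain ⟨A, hA1, hA2, hA3⟩ := h
    refine ⟨A.map X.subtype, ?_, inferInstance, ?_, ?_⟩
    · rintro _ ⟨a, _, rfl⟩; exact a.2
    · rintro _ ⟨a, ha, rfl⟩
      have := hA2 a ha
      rw [← map_pow, this, map_one]
    · have : Nat.card (A.map X.subtype) = Nat.card A :=
        (Nat.card_congr (A.equivMapOfInjective _ X.subtype_injective).toEquiv).symm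
      rw [this]; exact hA3
  · rintro ⟨E, hEX, hE1, hE2, hE3⟩ h
    have := h (E.subgroupOf X) inferInstance (by
      intro a ha
      apply Subtype.ext
      have := hE2 a ha
      simpa using this)
    have hc : Nat.card (E.subgroupOf X) = Nat.card E :=
      Nat.card_congr (Subgroup.subgroupOfEquivOfLe hEX).toEquiv
    rw [hc] at this
    omega



variable {G : Type*} [Group G]

open scoped Pointwise in
theorem exists_conj_le_sylow [Finite G] {p : ℕ} [Fact p.Prime] (H : Subgroup G) (P : Sylow p ↥H)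
    {Q : Subgroup G} (hQH : Q ≤ H) (hQ : IsPGroup p Q) :
    ∃ h ∈ H, Q.map (MulAut.conj h).toMonoidHom ≤ (P : Subgroup ↥H).map H.subtype := by
  have hQ' : IsPGroup p (Q.subgroupOf H) := hQ.comap_subtype
  obtain ⟨P₀, hP₀⟩ := hQ'.exists_le_sylow
  obtain ⟨h, hh⟩ := MulAction.exists_smul_eq ↥H P₀ P
  refine ⟨h, h.2, ?_⟩
  rintro _ ⟨x, hx, rfl⟩
  have hx' : (⟨x, hQH hx⟩ : H) ∈ (P₀ : Subgroup H) := hP₀ (by rw [Subgroup.mem_subgroupOf]; exact hx)
  have h2 : MulAut.conj h • (⟨x, hQH hx⟩ : H) ∈ MulAut.conj h • (P₀ : Subgroup H) :=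
    Subgroup.smul_mem_pointwise_smul _ _ _ hx'
  have h3 : ((h • P₀ : Sylow p H) : Subgroup H) = MulAut.conj h • (P₀ : Subgroup H) := rfl
  rw [← h3, hh] at h2
  refine ⟨_, h2, ?_⟩
  simp [MulAut.conj_apply]

/-- normalizers grow in finite `p`-groups -/
theorem exists_normalizer_grow' [Finite G] {p : ℕ} [Fact p.Prime] {T S : Subgroup G}
    (hlt : T < S) (hS : IsPGroup p S) :
    ∃ n ∈ S, n ∉ T ∧ n ∈ Subgroup.normalizer (T : Set G) := by
  have : Group.IsNilpotent S := hS.isNilpotent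
  have hnc := Group.normalizerCondition_of_isNilpotent (G := S)
  have h1 : T.subgroupOf S < ⊤ := by
    rw [lt_top_iff_ne_top]
    intro h
    rw [Subgroup.subgroupOf_eq_top] at h
    exact (not_le_of_gt hlt) h
  have h2 := hnc _ h1
  obtain ⟨n, hn, hnT⟩ := SetLike.exists_of_lt h2
  refine ⟨n, n.2, ?_, ?_⟩
  · intro h
    apply hnT
    rw [Subgroup.mem_subgroupOf]; exact h
  · rw [Subgroup.mem_normalizer_iff]
    intro x
    rw [Subgroup.mem_normalizer_iff] at hn
    constructor
    · intro hx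
      have := (hn ⟨x, hlt.le hx⟩).mp (by rw [Subgroup.mem_subgroupOf]; exact hx)
      rw [Subgroup.mem_subgroupOf] at this
      simpa using this
    · intro hx
      have hxS : x ∈ S := by
        have h3 : (n : G)⁻¹ * ((n : G) * x * (n : G)⁻¹) * (n : G) ∈ S :=
          S.mul_mem (S.mul_mem (S.inv_mem n.2) (hlt.le hx)) n.2
        have h4 : (n : G)⁻¹ * ((n : G) * x * (n : G)⁻¹) * (n : G) = x := by group
        rwa [h4] at h3
      have := (hn ⟨x, hxS⟩).mpr (by rw [Subgroup.mem_subgroupOf]; simpa using hx)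
      rw [Subgroup.mem_subgroupOf] at this
      exact this

end Cfsg.Agent.Lib.Helper3.KGen
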