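import Mathlib
import Cfsg.Agent.Lib.Helper3.KGen1

set_option autoImplicit false

namespace Cfsg.Agent.Lib.Helper3.KGen

variable {G : Type*} [Group G]

theorem map_conj_normalizer_le (X : Subgroup G) (g : G) :
    (Subgroup.normalizer (X : Set G)).map (MulAut.conj g).toMonoidHom ≤
      Subgroup.normalizer ((X.map (MulAut.conj g).toMonoidHom : Subgroup G) : Set G) := by
  rintro _ ⟨n, hn, rfl⟩
  rw [Subgroup.mem_normalizer_iff]
  intro y
  simp only [MulEquiv.toMonoidHom_eq_coe, MonoidHom.coe_coe, MulAut.conj_apply, Subgroup.mem_map]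
  constructor
  · rintro ⟨x, hx, rfl⟩
    refine ⟨n * x * n⁻¹, (Subgroup.mem_normalizer_iff.mp hn x).mp hx, by group⟩
  · rintro ⟨x, hx, hxy⟩
    refine ⟨n⁻¹ * x * n, ?_, ?_⟩
    · have := (Subgroup.mem_normalizer_iff.mp (Subgroup.inv_mem _ hn) x).mp hx
      simpa using this
    · have : y = (g * n * g⁻¹)⁻¹ * (g * x * g⁻¹) * (g * n * g⁻¹) := by rw [hxy]; group
      rw [this]; group

variable [Finite G]

theorem mem_of_map_conj_le {p : ℕ} [Fact p.Prime] (m : ℕ) (H : Subgroup G) (P : Sylow p ↥H)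
    (hL : ∀ X : Subgroup G, X ≤ (P : Subgroup ↥H).map H.subtype → (∃ E : Subgroup G, E ≤ X ∧ Big p m E) →
      Subgroup.normalizer (X : Set G) ≤ H) :
    ∀ n : ℕ, ∀ X : Subgroup G, X ≤ (P : Subgroup ↥H).map H.subtype →
      (∃ E : Subgroup G, E ≤ X ∧ Big p m E) →
      Nat.card ((P : Subgroup ↥H).map H.subtype) - Nat.card X ≤ n →
      ∀ g : G, X.map (MulAut.conj g).toMonoidHom ≤ H → g ∈ H := by
  set P' : Subgroup G := (P : Subgroup ↥H).map H.subtype with hP'
  have hP'p : IsPGroup p P' := P.2.map _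
  have hP'H : P' ≤ H := by
    rintro _ ⟨y, _, rfl⟩; exact y.2
  intro n
  induction n with
  | zero =>
    intro X hXP hbig hcard g hg
    -- `X = P'`
    have hXeq : X = P' := Subgroup.eq_of_le_of_card_ge hXP (by omega)
    obtain ⟨h, hh, hle⟩ := exists_conj_le_sylow H P hg ((hP'p.to_le hXP).map _)
    rw [Subgroup.map_map] at hle
    have hcomp : (MulAut.conj h).toMonoidHom.comp (MulAut.conj g).toMonoidHom =
        (MulAut.conj (h * g)).toMonoidHom := by
      ext x; simp [MulAut.conj_apply, mul_assoc]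
    rw [hcomp] at hle
    have hcardeq : Nat.card (X.map (MulAut.conj (h * g)).toMonoidHom) = Nat.card X :=
      (Nat.card_congr (X.equivMapOfInjective _ (MulAut.conj (h * g)).injective).toEquiv).symm
    have heq : X.map (MulAut.conj (h * g)).toMonoidHom = X :=
      Subgroup.eq_of_le_of_card_ge (hle.trans hXeq.ge) (by rw [hcardeq])
    have hmem : h * g ∈ Subgroup.normalizer (X : Set G) := by
      rw [Subgroup.mem_normalizer_iff_map_conj_eq]
      exact heq
    have := hL X hXP hbig hmem
    have h2 := H.mul_mem (H.inv_mem hh) this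
    simpa using h2
  | succ n ih =>
    intro X hXP hbig hcard g hg
    by_cases hXeq : X = P'
    · exact ih X hXP hbig (by rw [hXeq]; omega) g hg
    have hlt : X < P' := lt_of_le_of_ne hXP hXeq
    obtain ⟨h, hh, hle⟩ := exists_conj_le_sylow H P hg ((hP'p.to_le hXP).map _)
    rw [Subgroup.map_map] at hle
    have hcomp : (MulAut.conj h).toMonoidHom.comp (MulAut.conj g).toMonoidHom =
        (MulAut.conj (h * g)).toMonoidHom := by
      ext x; simp [MulAut.conj_apply, mul_assoc]
    rw [hcomp] at hle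
    obtain ⟨n₀, hn₀P, hn₀X, hn₀N⟩ := exists_normalizer_grow' hlt hP'p
    set Y : Subgroup G := P' ⊓ Subgroup.normalizer (X : Set G) with hY
    have hXY : X ≤ Y := le_inf hXP Subgroup.le_normalizer
    have hXYlt : X < Y := by
      refine lt_of_le_of_ne hXY ?_
      intro h
      apply hn₀X
      rw [h]
      exact Subgroup.mem_inf.mpr ⟨hn₀P, hn₀N⟩
    have hcardY : Nat.card X < Nat.card Y := by
      by_contra hcon
      exact hXYlt.ne (Subgroup.eq_of_le_of_card_ge hXY (by omega))
    have hYP : Y ≤ P' := inf_le_left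
    have hcardYP : Nat.card Y ≤ Nat.card P' := Subgroup.card_le_of_le hYP
    obtain ⟨E, hEX, hE⟩ := hbig
    -- the conjugate of `X`
    have hbig' : ∃ E' : Subgroup G, E' ≤ X.map (MulAut.conj (h * g)).toMonoidHom ∧ Big p m E' :=
      ⟨E.map (MulAut.conj (h * g)).toMonoidHom, Subgroup.map_mono hEX, hE.map_conj _⟩
    have hN' := hL _ hle hbig'
    have hYg : Y.map (MulAut.conj (h * g)).toMonoidHom ≤ H := by
      refine le_trans ?_ hN'
      refine le_trans (Subgroup.map_mono inf_le_right) (map_conj_normalizer_le X (h * g))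
    have := ih Y hYP ⟨E, hEX.trans hXY, hE⟩ (by omega) (h * g) hYg
    have h2 := H.mul_mem (H.inv_mem hh) this
    simpa using h2

end Cfsg.Agent.Lib.Helper3.KGen
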