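import Mathlib
import Cfsg.Prelude
import Cfsg.Agent.Lib.Helper2.ReflGen
import Cfsg.Agent.Lib.Helper2.LongRoot1
import Cfsg.Agent.Lib.Helper7.SubgDefs
import Cfsg.Agent.Lib.Helper3.DicksonGen

set_option autoImplicit false
set_option linter.unusedSectionVars false
set_option linter.unusedVariables false

/-!
# The nilpotent parts of long root elements and the Dickson transport for them

`nil2 Q u w = w (f(·,u)) - u (f(·,w))`, so that `siegelMatrix Q u w c = 1 + c • nil2 Q u w`.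
For totally singular pairs `(u,w)`, `(x,y)`:  `X² = 0`, `X Y X = -D • X` with
`D = f(u,x) f(w,y) - f(u,y) f(w,x)`.  Consequence (`lr_dickson`): a subgroup `M` of `GL` containing
`LR u w 1` and `LR x y 1` with `D ≠ 0`, `D² ≠ -1` contains `LR u w c` for all `c ∈ 𝔽_p(D)` (odd characteristic).
-/

namespace Cfsg.Agent.Lib.Helper3.LRNil

open Matrix Cfsg.Agent.Lib.Helper7.Subg Cfsg.Agent.Lib.Helper2.ReflGen Cfsg.Agent.Lib.Helper2.LongRoot
open Cfsg.Agent.Lib.Helper3.DicksonGen

variable {F : Type*} [Field F] {ι : Type} [Fintype ι] [DecidableEq ι]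
variable {Q : QuadraticForm F (ι → F)}

/-- the nilpotent part of the long root elements at `(u,w)` -/
def nil2 (Q : QuadraticForm F (ι → F)) (u w : ι → F) : Matrix ι ι F :=
  Matrix.vecMulVec w (Cfsg.polarVec (⇑Q) u) - Matrix.vecMulVec u (Cfsg.polarVec (⇑Q) w)

theorem siegelMatrix_eq (u w : ι → F) (c : F) :
    Cfsg.siegelMatrix (⇑Q) u w c = 1 + c • nil2 Q u w := rfl

theorem nil2_mulVec (u w x : ι → F) :
    nil2 Q u w *ᵥ x = QuadraticMap.polar (⇑Q) u x • w - QuadraticMap.polar (⇑Q) w x • u := by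
  unfold nil2
  rw [Matrix.sub_mulVec, vecMulVec_polarVec_mulVec, vecMulVec_polarVec_mulVec]

/-- the contraction `D = f(u,x) f(w,y) - f(u,y) f(w,x)` of the bivectors `u ∧ w`, `x ∧ y` -/
def ctr (Q : QuadraticForm F (ι → F)) (u w x y : ι → F) : F :=
  QuadraticMap.polar (⇑Q) u x * QuadraticMap.polar (⇑Q) w y -
    QuadraticMap.polar (⇑Q) u y * QuadraticMap.polar (⇑Q) w x

theorem ctr_symm (u w x y : ι → F) : ctr Q x y u w = ctr Q u w x y := by
  unfold ctr
  rw [QuadraticMap.polar_comm (⇑Q) x u, QuadraticMap.polar_comm (⇑Q) y w,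
    QuadraticMap.polar_comm (⇑Q) x w, QuadraticMap.polar_comm (⇑Q) y u]
  ring

theorem nil2_sq {u w : ι → F} (hu : Q u = 0) (hw : Q w = 0)
    (huw : QuadraticMap.polar (⇑Q) u w = 0) : nil2 Q u w * nil2 Q u w = 0 := by
  have huu : QuadraticMap.polar (⇑Q) u u = 0 := by rw [polar_self, hu, mul_zero]
  have hww : QuadraticMap.polar (⇑Q) w w = 0 := by rw [polar_self, hw, mul_zero]
  have hwu : QuadraticMap.polar (⇑Q) w u = 0 := by rw [QuadraticMap.polar_comm]; exact huw
  unfold nil2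
  simp only [mul_sub, sub_mul, vmv_mul, polarVec_dot, huu, hww, huw, hwu, zero_smul, sub_zero]

theorem nil2_tri {u w x y : ι → F} (hu : Q u = 0) (hw : Q w = 0)
    (huw : QuadraticMap.polar (⇑Q) u w = 0) :
    nil2 Q u w * nil2 Q x y * nil2 Q u w = (-ctr Q u w x y) • nil2 Q u w := by
  unfold nil2 ctr
  simp only [mul_sub, sub_mul, vmv_mul, polarVec_dot, smul_mul_assoc, smul_sub, smul_smul]
  rw [QuadraticMap.polar_comm (⇑Q) x u, QuadraticMap.polar_comm (⇑Q) y u,
    QuadraticMap.polar_comm (⇑Q) x w, QuadraticMap.polar_comm (⇑Q) y w]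
  module

/-- DICKSON TRANSPORT for long root elements -/
theorem lr_dickson [Fintype F] (h2 : (2 : F) ≠ 0) (hQ : (QuadraticMap.polarBilin Q).Nondegenerate)
    (M : Subgroup (GL ι F)) {u w x y : ι → F}
    (hu : Q u = 0) (hw : Q w = 0) (huw : QuadraticMap.polar (⇑Q) u w = 0)
    (hx : Q x = 0) (hy : Q y = 0) (hxy : QuadraticMap.polar (⇑Q) x y = 0)
    (hM1 : Mm M ((LR hQ u w hu hw huw 1 : GL ι F) : Matrix ι ι F))
    (hM2 : Mm M ((LR hQ x y hx hy hxy 1 : GL ι F) : Matrix ι ι F))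
    (hD : ctr Q u w x y ≠ 0) (hsq : ctr Q u w x y ^ 2 ≠ -1) :
    ∀ c ∈ Subfield.closure ({ctr Q u w x y} : Set F),
      Mm M ((LR hQ u w hu hw huw c : GL ι F) : Matrix ι ι F) := by
  intro c hc
  rw [LR_coe, siegelMatrix_eq] at hM1 hM2 ⊢
  rw [one_smul] at hM1 hM2
  have hcl : Subfield.closure ({-ctr Q u w x y} : Set F) = Subfield.closure ({ctr Q u w x y} : Set F) := by
    apply le_antisymm
    · rw [Subfield.closure_le]
      intro z hz
      rw [Set.mem_singleton_iff] at hz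
      rw [hz]
      exact neg_mem (Subfield.subset_closure rfl)
    · rw [Subfield.closure_le]
      intro z hz
      rw [Set.mem_singleton_iff] at hz
      rw [hz]
      have hm : -(-ctr Q u w x y) ∈ Subfield.closure ({-ctr Q u w x y} : Set F) :=
        neg_mem (Subfield.subset_closure rfl)
      rwa [neg_neg] at hm
  refine dickson_transport_gen h2 M (nil2 Q u w) (nil2 Q x y) (-ctr Q u w x y) (nil2_sq hu hw huw)
    (nil2_sq hx hy hxy) (nil2_tri hu hw huw) ?_ hM1 hM2 (neg_ne_zero.mpr hD) ?_ c ?_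
  · rw [← ctr_symm]
    exact nil2_tri hx hy hxy
  · rw [neg_sq]
    exact hsq
  · rw [hcl]
    exact hc

end Cfsg.Agent.Lib.Helper3.LRNil
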