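import Mathlib
import Cfsg.Agent.Lib.Helper1.LW.Defs2
import Cfsg.Agent.Lib.Helper1.LW.BI2
import Cfsg.Agent.Lib.Helper8.LW2_N

/-!
# S0745 swarm, package SMALL2 (`small2`), core part

`k ≤ 5`, `k < n < 2k`: the arithmetic of `NK2` leaves
`(k, n, r, s) ∈ {(4,5,3,1), (5,6,3,1), (5,7,4,1), (5,9,2,3), (5,9,6,1)}`; the third one is killed by a
Klein four-group inside the stabiliser (of order `6`) of a `4`-set, the others give the orders in
the statement.  `small2_of_odd` takes `Odd s` as a hypothesis (it is `odd_s2` of package N2).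
-/

set_option autoImplicit false

namespace Cfsg.Agent.Lib.Helper1.LW

/-- the arithmetic of the small cases, second statement -/
theorem small2_arith (k n r s : ℕ) (hk3 : 3 ≤ k) (hk5 : k ≤ 5) (hkn : k + 1 ≤ n)
    (hn : n + 1 ≤ 2 * k) (hrs : s * r + k = n + 2) (hr : 2 ≤ r)
    (hr1 : r ∣ (k - 1).factorial) (hodd : Odd s) :
    (k = 4 ∧ n = 5 ∧ r = 3 ∧ s = 1) ∨ (k = 5 ∧ n = 6 ∧ r = 3 ∧ s = 1) ∨
    (k = 5 ∧ n = 7 ∧ r = 4 ∧ s = 1) ∨ (k = 5 ∧ n = 9 ∧ r = 2 ∧ s = 3) ∨
    (k = 5 ∧ n = 9 ∧ r = 6 ∧ s = 1) := by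
  obtain ⟨j, rfl⟩ := hodd
  have hr6 : r ≤ n := by nlinarith
  have hn9 : n ≤ 9 := by omega
  have hn4 : 4 ≤ n := by omega
  interval_cases k <;> interval_cases n <;> (try omega) <;> interval_cases r <;>
    first
    | omega
    | (exfalso; revert hr1; decide)

variable {α : Type*} [Fintype α] [DecidableEq α] {G : Subgroup (Equiv.Perm α)} {k : ℕ}

/-- `(k, n, r, s) = (5, 7, 4, 1)` is impossible: the stabiliser of a `4`-set has order `6` but
contains a Klein four-group. -/
theorem small2_kill (h : Cfg2 G 5) (bk : BK G 5) (nk : NK2 G 5 4 1) : False := by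
  classical
  have hkn := h.hkn
  obtain ⟨Γ, -, hΓ⟩ := Finset.exists_subset_card_eq (s := (Finset.univ : Finset α)) (n := 4)
    (by rw [Finset.card_univ]; omega)
  have hΓ1 : Γ.card + 1 = 5 := by omega
  have hE := nk.hE Γ hΓ1
  have hH : Nat.card (setStab G Γ) = 6 := by
    have : (5 - 1).factorial = 24 := by decide
    rw [this] at hE
    omega
  obtain ⟨a, b, c, d, hab, hac, had, hbc, hbd, hcd, rfl⟩ := Finset.card_eq_four.mp hΓ
  have ha : a ∈ ({a, b, c, d} : Finset α) := by simp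
  have hb : b ∈ ({a, b, c, d} : Finset α) := by simp
  have hc : c ∈ ({a, b, c, d} : Finset α) := by simp
  have hd : d ∈ ({a, b, c, d} : Finset α) := by simp
  obtain ⟨g₁, hg₁G, -, ⟨h1ab, h1ba⟩, ⟨h1cd, h1dc⟩⟩ :=
    bk.dt_exists _ hΓ1 a ha b hb c hc d hd hab hac had hbc hbd hcd
  obtain ⟨g₂, hg₂G, -, ⟨h2ac, h2ca⟩, ⟨h2bd, h2db⟩⟩ :=
    bk.dt_exists _ hΓ1 a ha c hc b hb d hd hac hab had hbc.symm hcd hbd
  have hS : 5 ≤ ({a, b, c, d} : Finset α).card + 1 := by omega
  -- membership in the set stabiliser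
  have hmem : ∀ g : Equiv.Perm α, g ∈ G → (∀ x ∈ ({a, b, c, d} : Finset α),
      g x ∈ ({a, b, c, d} : Finset α)) → g ∈ setStab G {a, b, c, d} := by
    intro g hg hgΓ
    refine ⟨hg, fun x => ⟨hgΓ x, fun hx => ?_⟩⟩
    -- `g` maps the finite set into itself injectively, hence onto
    have himg : ({a, b, c, d} : Finset α).image g = {a, b, c, d} := by
      apply Finset.eq_of_subset_of_card_le
      · intro y hy
        obtain ⟨z, hz, rfl⟩ := Finset.mem_image.mp hy
        exact hgΓ z hz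
      · rw [Finset.card_image_of_injective _ g.injective]
    rw [← himg] at hx
    obtain ⟨z, hz, hzx⟩ := Finset.mem_image.mp hx
    rwa [← g.injective hzx]
  have h1H : g₁ ∈ setStab G {a, b, c, d} := by
    apply hmem g₁ hg₁G
    intro x hx
    simp only [Finset.mem_insert, Finset.mem_singleton] at hx
    rcases hx with rfl | rfl | rfl | rfl
    · rw [h1ab]; exact hb
    · rw [h1ba]; exact ha
    · rw [h1cd]; exact hd
    · rw [h1dc]; exact hc
  have h2H : g₂ ∈ setStab G {a, b, c, d} := by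
    apply hmem g₂ hg₂G
    intro x hx
    simp only [Finset.mem_insert, Finset.mem_singleton] at hx
    rcases hx with rfl | rfl | rfl | rfl
    · rw [h2ac]; exact hc
    · rw [h2bd]; exact hd
    · rw [h2ca]; exact ha
    · rw [h2db]; exact hb
  -- the two involutions commute
  have hcomm : g₁ * g₂ = g₂ * g₁ := by
    apply h.eq_of_agree (G.mul_mem hg₁G hg₂G) (G.mul_mem hg₂G hg₁G) hS
    intro x hx
    simp only [Finset.mem_insert, Finset.mem_singleton] at hx
    simp only [Equiv.Perm.mul_apply]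
    rcases hx with rfl | rfl | rfl | rfl
    · rw [h2ac, h1cd, h1ab, h2bd]
    · rw [h2bd, h1dc, h1ba, h2ac]
    · rw [h2ca, h1ab, h1cd, h2db]
    · rw [h2db, h1ba, h1dc, h2ca]
  have hsq1 : g₁ * g₁ = 1 := by
    apply h.eq_one_of_fixOn (G.mul_mem hg₁G hg₁G) hS
    intro x hx
    simp only [Finset.mem_insert, Finset.mem_singleton] at hx
    simp only [Equiv.Perm.mul_apply]
    rcases hx with rfl | rfl | rfl | rfl
    · rw [h1ab, h1ba]
    · rw [h1ba, h1ab]
    · rw [h1cd, h1dc]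
    · rw [h1dc, h1cd]
  have hsq2 : g₂ * g₂ = 1 := by
    apply h.eq_one_of_fixOn (G.mul_mem hg₂G hg₂G) hS
    intro x hx
    simp only [Finset.mem_insert, Finset.mem_singleton] at hx
    simp only [Equiv.Perm.mul_apply]
    rcases hx with rfl | rfl | rfl | rfl
    · rw [h2ac, h2ca]
    · rw [h2bd, h2db]
    · rw [h2ca, h2ac]
    · rw [h2db, h2bd]
  have hne1 : g₁ ≠ 1 := by
    intro h1
    rw [h1, Equiv.Perm.one_apply] at h1ab
    exact hab h1ab
  have hne2 : g₂ ≠ 1 := by
    intro h1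
    rw [h1, Equiv.Perm.one_apply] at h2ac
    exact hac h2ac
  have hne12 : g₁ ≠ g₂ := by
    intro h1
    rw [h1, h2ac] at h1ab
    exact hbc h1ab.symm
  -- the subgroup generated by them
  set K : Subgroup (Equiv.Perm α) := Subgroup.closure {g₁, g₂} with hK
  have h1K : g₁ ∈ K := Subgroup.subset_closure (by simp)
  have h2K : g₂ ∈ K := Subgroup.subset_closure (by simp)
  have hKH : K ≤ setStab G {a, b, c, d} := by
    rw [hK, Subgroup.closure_le]
    intro x hx
    rcases hx with rfl | rfl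
    · exact h1H
    · exact h2H
  have hgen : ∀ x ∈ ({g₁, g₂} : Set (Equiv.Perm α)), ∀ y ∈ ({g₁, g₂} : Set (Equiv.Perm α)),
      x * y = y * x := by
    intro x hx y hy
    rcases hx with rfl | rfl <;> rcases hy with rfl | rfl
    · rfl
    · exact hcomm
    · exact hcomm.symm
    · rfl
  have hKcomm : ∀ x ∈ K, ∀ y ∈ K, x * y = y * x := by
    intro x hx y hy
    have := (Subgroup.isMulCommutative_closure hgen).is_comm.comm ⟨x, hx⟩ ⟨y, hy⟩
    exact congrArg Subtype.val this
  have hKsq : ∀ x ∈ K, x * x = 1 := by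
    intro x hx
    induction hx using Subgroup.closure_induction with
    | mem x hx =>
      rcases hx with rfl | rfl
      · exact hsq1
      · exact hsq2
    | one => exact mul_one 1
    | mul x y hx hy ihx ihy =>
      calc x * y * (x * y) = x * (y * x) * y := by group
        _ = x * (x * y) * y := by rw [hKcomm y hy x hx]
        _ = (x * x) * (y * y) := by group
        _ = 1 := by rw [ihx, ihy, mul_one]
    | inv x hx ihx =>
      calc x⁻¹ * x⁻¹ = (x * x)⁻¹ := by group
        _ = 1 := by rw [ihx, inv_one]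
  have hP : IsPGroup 2 K := by
    intro x
    refine ⟨1, ?_⟩
    apply Subtype.ext
    rw [pow_one, pow_two]
    exact hKsq x.1 x.2
  have : Fact (Nat.Prime 2) := ⟨Nat.prime_two⟩
  obtain ⟨m, hm⟩ := IsPGroup.iff_card.mp hP
  have hdvd : Nat.card K ∣ 6 := by
    rw [← hH]
    exact Subgroup.card_dvd_of_le hKH
  have h3 : 3 ≤ Nat.card K := by
    have : Fintype K := Fintype.ofFinite K
    rw [Nat.card_eq_fintype_card]
    have hc3 : ({⟨1, K.one_mem⟩, ⟨g₁, h1K⟩, ⟨g₂, h2K⟩} : Finset K).card = 3 := by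
      rw [Finset.card_eq_three]
      refine ⟨_, _, _, ?_, ?_, ?_, rfl⟩
      · intro he; exact hne1 (congrArg Subtype.val he).symm
      · intro he; exact hne2 (congrArg Subtype.val he).symm
      · intro he; exact hne12 (congrArg Subtype.val he)
    calc 3 = _ := hc3.symm
      _ ≤ Fintype.card K := Finset.card_le_univ _
  rw [hm] at hdvd h3
  have hm1 : m ≤ 2 := by
    by_contra hcon
    have : 2 ^ 3 ≤ 2 ^ m := Nat.pow_le_pow_right (by norm_num) (by omega)
    have := Nat.le_of_dvd (by norm_num) hdvd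
    omega
  interval_cases m
  · omega
  · omega
  · revert hdvd; decide

/-- SMALL2 with `Odd s` as a hypothesis. -/
theorem small2_of_odd {r s : ℕ} (h : Cfg2 G k) (w : WK G k) (sk : SK G k) (nk : NK2 G k r s)
    (hodd : Odd s) (hk5 : k ≤ 5) (hn : Fintype.card α + 1 ≤ 2 * k) :
    (Fintype.card α = 5 ∧ k = 4 ∧ Nat.card G = 20) ∨
    (Fintype.card α = 6 ∧ k = 5 ∧ Nat.card G = 120) ∨
    (Fintype.card α = 9 ∧ k = 5 ∧ (Nat.card G = 504 ∨ Nat.card G = 1512)) := by
  have hk := h.hk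
  have hkn := h.hkn
  obtain ⟨Γ, -, hΓ⟩ := Finset.exists_subset_card_eq (s := (Finset.univ : Finset α)) (n := k - 1)
    (by rw [Finset.card_univ]; omega)
  have hr1 : r ∣ (k - 1).factorial := Dvd.intro_left _ (nk.hE Γ (by omega))
  have hG := nk.hG
  rcases small2_arith k (Fintype.card α) r s hk hk5 hkn hn nk.hrs nk.hr hr1 hodd with
    ⟨rfl, hn5, rfl, rfl⟩ | ⟨rfl, hn6, rfl, rfl⟩ | ⟨rfl, hn7, rfl, rfl⟩ | ⟨rfl, hn9, rfl, rfl⟩ |
    ⟨rfl, hn9, rfl, rfl⟩
  · left
    refine ⟨hn5, rfl, ?_⟩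
    rw [hn5] at hG
    have h1 : (5 + 2 - 4).factorial = 6 := by decide
    have h2 : (5 : ℕ).factorial = 120 := by decide
    rw [h1, h2] at hG
    omega
  · right; left
    refine ⟨hn6, rfl, ?_⟩
    rw [hn6] at hG
    have h1 : (6 + 2 - 5).factorial = 6 := by decide
    have h2 : (6 : ℕ).factorial = 720 := by decide
    rw [h1, h2] at hG
    omega
  · exfalso
    have heven : Even (Fintype.card α - 5) := by rw [hn7]; decide
    exact small2_kill h (bk_of_cfg2 h w sk heven le_rfl) nk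
  · right; right
    refine ⟨hn9, rfl, Or.inr ?_⟩
    rw [hn9] at hG
    have h1 : (9 + 2 - 5).factorial = 720 := by decide
    have h2 : (9 : ℕ).factorial = 362880 := by norm_num [Nat.factorial]
    rw [h1, h2] at hG
    omega
  · right; right
    refine ⟨hn9, rfl, Or.inl ?_⟩
    rw [hn9] at hG
    have h1 : (9 + 2 - 5).factorial = 720 := by decide
    have h2 : (9 : ℕ).factorial = 362880 := by norm_num [Nat.factorial]
    rw [h1, h2] at hG
    omega

/-- SMALL2: `k ≤ 5` and `k < n < 2k`. -/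
theorem small2 {r s : ℕ} (h : Cfg2 G k) (w : WK G k) (sk : SK G k) (nk : NK2 G k r s)
    (hk5 : k ≤ 5) (hn : Fintype.card α + 1 ≤ 2 * k) :
    (Fintype.card α = 5 ∧ k = 4 ∧ Nat.card G = 20) ∨
    (Fintype.card α = 6 ∧ k = 5 ∧ Nat.card G = 120) ∨
    (Fintype.card α = 9 ∧ k = 5 ∧ (Nat.card G = 504 ∨ Nat.card G = 1512)) :=
  small2_of_odd h w sk nk (odd_s2 h sk nk) hk5 hn

end Cfsg.Agent.Lib.Helper1.LW
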