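import Mathlib
import Cfsg.Agent.Lib.Helper4.LWB_Defs
import Cfsg.Agent.Lib.Helper1.SharpTrans1

/-!
# Livingstone–Wagner (b), package F: sharply `t`-transitive groups of degree `t + 7`, `t = 4, 5`
(`notes/S0747_S0748_PROOF_helper4.md`, §3)
-/

set_option autoImplicit false

namespace Cfsg.Agent.Lib.Helper3.LWBF

open MulAction Equiv
open scoped Nat Pointwise

/-- a subgroup of `Sym(γ)`, `|γ| ≥ 5`, not containing `Alt(γ)` has index at least `|γ|` -/
theorem le_index_of_not_alt_le {γ : Type*} [Fintype γ] [DecidableEq γ] (h5 : 5 ≤ Fintype.card γ)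
    (H : Subgroup (Perm γ)) (hH : ¬ alternatingGroup γ ≤ H) : Fintype.card γ ≤ H.index := by
  have hcore : H.normalCore = ⊥ := by
    by_contra hne
    have hnt : Nontrivial H.normalCore := (Subgroup.nontrivial_iff_ne_bot _).mpr hne
    have h1 : alternatingGroup γ ≤ H.normalCore :=
      Equiv.Perm.alternatingGroup_le_of_normal (by rwa [Nat.card_eq_fintype_card]) hnt
    exact hH (h1.trans (Subgroup.normalCore_le H))
  have hinj : Function.Injective (MulAction.toPermHom (Perm γ) (Perm γ ⧸ H)) := by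
    rw [← MonoidHom.ker_eq_bot_iff, ← Subgroup.normalCore_eq_ker, hcore]
  by_contra hlt
  push Not at hlt
  have hne0 : H.index ≠ 0 := Subgroup.index_ne_zero_of_finite
  have hc1 : Nat.card (Perm γ) ≤ Nat.card (Perm (Perm γ ⧸ H)) :=
    Nat.card_le_card_of_injective _ hinj
  classical
  rw [Nat.card_perm, Nat.card_perm, Nat.card_eq_fintype_card] at hc1
  rw [← Subgroup.index_eq_card] at hc1
  have h2 : (H.index)! < (Fintype.card γ)! := (Nat.factorial_lt (Nat.pos_of_ne_zero hne0)).mpr hlt
  omega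

/-- a subgroup of `Sym(γ)`, `|γ| ≥ 5`, not containing `Alt(γ)` has order at most `(|γ| - 1)!` -/
theorem card_le_of_not_alt_le {γ : Type*} [Fintype γ] [DecidableEq γ] (m : ℕ)
    (hm : Fintype.card γ = m + 1) (h5 : 4 ≤ m)
    (H : Subgroup (Perm γ)) (hH : ¬ alternatingGroup γ ≤ H) : Nat.card H ≤ m ! := by
  have h1 := le_index_of_not_alt_le (by omega) H hH
  have h2 := H.index_mul_card
  rw [Nat.card_perm, Nat.card_eq_fintype_card (α := γ), hm, Nat.factorial_succ] at h2
  rw [hm] at h1
  by_contra hlt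
  push Not at hlt
  have h3 : (m + 1) * m ! < H.index * Nat.card H := by
    calc (m + 1) * m ! < (m + 1) * Nat.card H :=
          Nat.mul_lt_mul_of_pos_left hlt (by omega)
      _ ≤ H.index * Nat.card H := Nat.mul_le_mul_right _ h1
  omega

/-- counting lemma: if all point stabilisers have order at most `s`, two orbits do not fit and the number of
points does not divide the group order, we have a contradiction -/
theorem exists_large_stabilizer {X P : Type*} [Group X] [Finite X] [MulAction X P] [Finite P]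
    [Nonempty P] (s : ℕ) (h1 : Nat.card P * s < 2 * Nat.card X) (h2 : ¬ Nat.card P ∣ Nat.card X) :
    ∃ p : P, s < Nat.card (stabilizer X p) := by
  by_contra hcon
  push Not at hcon
  obtain ⟨p₀⟩ := (inferInstance : Nonempty P)
  have hos : ∀ p : P, (orbit X p).ncard * Nat.card (stabilizer X p) = Nat.card X := by
    intro p
    rw [← MulAction.index_stabilizer]
    exact Subgroup.index_mul_card _
  by_cases huniv : orbit X p₀ = Set.univ
  · apply h2
    have h3 := hos p₀
    rw [huniv, Set.ncard_univ] at h3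
    exact ⟨_, h3.symm⟩
  · obtain ⟨p₁, hp₁⟩ : ∃ p₁, p₁ ∉ orbit X p₀ := by
      by_contra hall
      push Not at hall
      exact huniv (Set.eq_univ_of_forall hall)
    have hdisj : Disjoint (orbit X p₀) (orbit X p₁) := by
      rw [Set.disjoint_left]
      intro q hq0 hq1
      apply hp₁
      rw [← MulAction.orbit_eq_iff] at hq0 hq1
      rw [← hq0, hq1]
      exact MulAction.mem_orbit_self _
    have hun : (orbit X p₀).ncard + (orbit X p₁).ncard ≤ Nat.card P := by
      rw [← Set.ncard_union_eq hdisj (Set.toFinite _) (Set.toFinite _), ← Set.ncard_univ]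
      exact Set.ncard_le_ncard (Set.subset_univ _) (Set.toFinite _)
    have e0 := hos p₀
    have e1 := hos p₁
    have b0 := hcon p₀
    have b1 := hcon p₁
    have c0 : Nat.card X ≤ (orbit X p₀).ncard * s := by
      rw [← e0]; exact Nat.mul_le_mul_left _ b0
    have c1 : Nat.card X ≤ (orbit X p₁).ncard * s := by
      rw [← e1]; exact Nat.mul_le_mul_left _ b1
    have c2 : ((orbit X p₀).ncard + (orbit X p₁).ncard) * s ≤ Nat.card P * s :=
      Nat.mul_le_mul_right _ hun
    rw [add_mul] at c2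
    omega

/-- the group induced on a finset by the elements of `X` preserving it -/
def induced {β : Type*} [Fintype β] [DecidableEq β] (X : Subgroup (Perm β)) (Δ : Finset β) :
    Subgroup (Perm ↥Δ) where
  carrier := {σ | ∃ g ∈ X, ∀ x : ↥Δ, g (x : β) = σ x}
  mul_mem' := by
    rintro σ₁ σ₂ ⟨g₁, hg₁, h₁⟩ ⟨g₂, hg₂, h₂⟩
    refine ⟨g₁ * g₂, X.mul_mem hg₁ hg₂, fun x => ?_⟩
    rw [Perm.mul_apply, h₂ x, h₁ (σ₂ x), Perm.mul_apply]
  one_mem' := ⟨1, X.one_mem, fun x => rfl⟩
  inv_mem' := by
    rintro σ ⟨g, hg, h⟩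
    refine ⟨g⁻¹, X.inv_mem hg, fun x => ?_⟩
    rw [Perm.inv_eq_iff_eq, h (σ⁻¹ x)]
    simp

theorem mem_induced {β : Type*} [Fintype β] [DecidableEq β] (X : Subgroup (Perm β)) (Δ : Finset β)
    (σ : Perm ↥Δ) : σ ∈ induced X Δ ↔ ∃ g ∈ X, ∀ x : ↥Δ, g (x : β) = σ x := Iff.rfl

/-- in a group whose `t`-point stabilisers are trivial, the setwise stabiliser of a `(t+1)`-set embeds into
the group it induces on the set -/
theorem card_stabilizer_le {β : Type*} [Fintype β] [DecidableEq β] (X : Subgroup (Perm β)) (t : ℕ)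
    (hs : ∀ e : Fin t ↪ β, stabilizer X e = ⊥) (Δ' : Set.powersetCard β (t + 1)) :
    Nat.card (stabilizer X Δ') ≤ Nat.card (induced X (Δ' : Finset β)) := by
  have hmem : ∀ g : stabilizer X Δ', ∀ x : β,
      ((g : X) : Perm β) x ∈ (Δ' : Finset β) ↔ x ∈ (Δ' : Finset β) := by
    intro g x
    have h1 : (g : X) • Δ' = Δ' := g.2
    rw [Subgroup.smul_def] at h1
    have h0 := congrArg (fun s : Set.powersetCard β (t + 1) => (s : Finset β)) h1
    have h2 : ((g : X) : Perm β) • (Δ' : Finset β) = (Δ' : Finset β) := by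
      simpa only [Set.powersetCard.coe_smul] using h0
    conv_lhs => rw [← h2]
    exact Finset.smul_mem_smul_finset_iff ((g : X) : Perm β)
  let f : stabilizer X Δ' → induced X (Δ' : Finset β) := fun g =>
    ⟨Perm.subtypePerm ((g : X) : Perm β) (hmem g), ⟨((g : X) : Perm β), (g : X).2, fun x => rfl⟩⟩
  have hcardΔ : Fintype.card (Fin t) ≤ Fintype.card ↥(Δ' : Finset β) := by
    rw [Fintype.card_fin, Fintype.card_coe, Δ'.2]
    exact Nat.le_succ t
  obtain ⟨e₀⟩ := Function.Embedding.nonempty_of_card_le hcardΔ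
  let e : Fin t ↪ β := e₀.trans (Function.Embedding.subtype _)
  refine Nat.card_le_card_of_injective f ?_
  intro g h hgh
  have h1 : ∀ x : ↥(Δ' : Finset β), ((g : X) : Perm β) x = ((h : X) : Perm β) x := by
    intro x
    have := congrArg (fun σ : induced X (Δ' : Finset β) => ((σ : Perm ↥(Δ' : Finset β)) x : β)) hgh
    exact this
  have h2 : ((g : X)⁻¹ * (h : X)) ∈ stabilizer X e := by
    rw [mem_stabilizer_iff]
    ext i
    have h3 := h1 (e₀ i)
    change (((g : X)⁻¹ * (h : X) : X) : Perm β) (e₀ i : β) = (e₀ i : β)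
    rw [Subgroup.coe_mul, Subgroup.coe_inv, Perm.mul_apply, ← h3]
    simp
  rw [hs e, Subgroup.mem_bot, inv_mul_eq_one] at h2
  exact Subtype.ext h2

open Cfsg.Agent.Lib.Helper4.LWB in
/-- **package F**: a sharply `t`-transitive group of degree `t + 7`, `t = 4, 5`, induces the alternating
group on some `(t+1)`-set -/
theorem sharp_alt {β : Type*} [Fintype β] [DecidableEq β] (X : Subgroup (Equiv.Perm β)) (t : ℕ)
    (ht : t = 4 ∨ t = 5) [IsMultiplyPretransitive X β t]
    (hs : ∀ e : Fin t ↪ β, stabilizer X e = ⊥) (hc : Fintype.card β = t + 7) :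
    ∃ Δ : Finset β, Δ.card = t + 1 ∧ AltInduced X Δ := by
  have hcardX : Nat.card X = (t + 7).descFactorial t := by
    rw [← hc]
    exact Cfsg.Agent.Lib.Helper1.SharpTrans.card_of_sharp t (by omega) hs
  have hcardP : Nat.card (Set.powersetCard β (t + 1)) = (t + 7).choose (t + 1) := by
    rw [Set.powersetCard.card, Nat.card_eq_fintype_card, hc]
  have hne : Nonempty (Set.powersetCard β (t + 1)) := by
    rw [← Finite.card_pos_iff, hcardP]
    exact Nat.choose_pos (by omega)
  have hnum : (t + 7).choose (t + 1) * t ! < 2 * (t + 7).descFactorial t ∧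
      ¬ (t + 7).choose (t + 1) ∣ (t + 7).descFactorial t := by
    rcases ht with rfl | rfl
    · decide
    · decide
  obtain ⟨Δ', hΔ'⟩ := exists_large_stabilizer (X := X) (P := Set.powersetCard β (t + 1)) (t !)
    (by rw [hcardX, hcardP]; exact hnum.1) (by rw [hcardX, hcardP]; exact hnum.2)
  refine ⟨(Δ' : Finset β), Δ'.2, ?_⟩
  by_contra hcon
  have hnot : ¬ alternatingGroup ↥(Δ' : Finset β) ≤ induced X (Δ' : Finset β) := by
    intro hle
    apply hcon
    intro σ hσ
    exact hle hσ
  have h4 : 4 ≤ t := by rcases ht with rfl | rfl <;> omega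
  have hcd : Fintype.card ↥(Δ' : Finset β) = t + 1 := by
    rw [Fintype.card_coe]; exact Δ'.2
  have h5 := card_le_of_not_alt_le t hcd h4 _ hnot
  have h6 := card_stabilizer_le X t hs Δ'
  omega

end Cfsg.Agent.Lib.Helper3.LWBF
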