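import Mathlib
import Cfsg.Prelude.Def_Classical

/-!
# S2355 package E-SUperm (helper3): even permutation matrices lie in `SU_n`
Statement verbatim from `notes/S2355_skeleton.lean.txt`.
-/

set_option autoImplicit false

namespace Cfsg.Agent.Lib.LawPkg

universe u

/-- the permutation matrix of an even permutation, as an element of `SL_n`. -/
noncomputable def suPermSL (F : Type u) [Field F] (n : ℕ) (σ : ↥(alternatingGroup (Fin n))) :
    Matrix.SpecialLinearGroup (Fin n) F :=
  ⟨Matrix.permMatrixHom (R := F) (σ : Equiv.Perm (Fin n)), by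
    have h : Equiv.Perm.sign ((σ : Equiv.Perm (Fin n))⁻¹) = 1 := by
      rw [Equiv.Perm.sign_inv]
      exact Equiv.Perm.mem_alternatingGroup.mp σ.2
    rw [Matrix.permMatrixHom_apply, Matrix.det_permutation, h]
    simp⟩

theorem suPermSL_val (F : Type u) [Field F] (n : ℕ) (σ : ↥(alternatingGroup (Fin n))) :
    ((suPermSL F n σ : Matrix.SpecialLinearGroup (Fin n) F) : Matrix (Fin n) (Fin n) F) =
      Matrix.permMatrixHom (R := F) (σ : Equiv.Perm (Fin n)) := rfl

/-- the homomorphism `A_n → SL_n(F)`. -/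
noncomputable def suPermHom (F : Type u) [Field F] (n : ℕ) :
    ↥(alternatingGroup (Fin n)) →* Matrix.SpecialLinearGroup (Fin n) F where
  toFun := suPermSL F n
  map_one' := by
    apply Subtype.ext
    rw [suPermSL_val]
    simp
  map_mul' σ τ := by
    apply Subtype.ext
    rw [Matrix.SpecialLinearGroup.coe_mul, suPermSL_val, suPermSL_val, suPermSL_val,
      Subgroup.coe_mul, map_mul]

theorem suPermHom_mulVec (F : Type u) [Field F] (n : ℕ) (σ : ↥(alternatingGroup (Fin n)))
    (v : Fin n → F) :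
    (Cfsg.slToMat n F (suPermHom F n σ)).mulVec v =
      v ∘ (((σ : Equiv.Perm (Fin n))⁻¹ : Equiv.Perm (Fin n)) : Fin n → Fin n) := by
  have h : Cfsg.slToMat n F (suPermHom F n σ) =
      ((σ : Equiv.Perm (Fin n))⁻¹).permMatrix F := rfl
  rw [h, Matrix.permMatrix_mulVec]

theorem suPermHom_mem (F : Type u) [Field F] (n q : ℕ) (σ : ↥(alternatingGroup (Fin n))) :
    suPermHom F n σ ∈ Cfsg.SU n F q := by
  intro u v
  rw [suPermHom_mulVec, suPermHom_mulVec]
  unfold Cfsg.hermForm
  exact Equiv.sum_comp ((σ : Equiv.Perm (Fin n))⁻¹) (fun i => u i * v i ^ q)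

theorem suPermHom_injective (F : Type u) [Field F] (n : ℕ) :
    Function.Injective (suPermHom F n) := by
  intro σ τ h
  apply Subtype.ext
  have h2 : ∀ v : Fin n → F,
      v ∘ (((σ : Equiv.Perm (Fin n))⁻¹ : Equiv.Perm (Fin n)) : Fin n → Fin n) =
        v ∘ (((τ : Equiv.Perm (Fin n))⁻¹ : Equiv.Perm (Fin n)) : Fin n → Fin n) := by
    intro v
    rw [← suPermHom_mulVec, ← suPermHom_mulVec, h]
  have h3 : (σ : Equiv.Perm (Fin n))⁻¹ = (τ : Equiv.Perm (Fin n))⁻¹ := by
    ext j
    have h4 := congrFun (h2 (Pi.single (((σ : Equiv.Perm (Fin n))⁻¹) j) (1 : F))) j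
    simp only [Function.comp_apply, Pi.single_eq_same] at h4
    by_contra hne
    have hne' : ((τ : Equiv.Perm (Fin n))⁻¹) j ≠ ((σ : Equiv.Perm (Fin n))⁻¹) j := by
      intro h5
      exact hne (congrArg Fin.val h5.symm)
    rw [Pi.single_eq_of_ne hne'] at h4
    exact one_ne_zero h4
  exact inv_injective h3

/-- (E-SUperm) even permutation matrices are in `SU_n` (identity Hermitian form `∑ u i * v i ^ q`). -/
theorem su_perm (F : Type u) [Field F] (n q : ℕ) :
    ∃ φ : ↥(alternatingGroup (Fin n)) →* ↥(Cfsg.SU n F q), Function.Injective φ := by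
  refine ⟨(suPermHom F n).codRestrict (Cfsg.SU n F q) (suPermHom_mem F n q), ?_⟩
  intro σ τ h
  apply suPermHom_injective F n
  have := congrArg Subtype.val h
  simpa using this

end Cfsg.Agent.Lib.LawPkg
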