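import Mathlib
import Cfsg.Prelude.Def_Classical
import Cfsg.Agent.Lib.Helper2.LawCore2
import Cfsg.Agent.Lib.Helper2.Herm
import Cfsg.Agent.S0754

/-!
# S2355 package E-SUroot (helper3): the two root groups of a hyperbolic pair inside `SU_n(q)`
Statement verbatim from `notes/S2355_skeleton.lean.txt`.
-/

set_option autoImplicit false

namespace Cfsg.Agent.Lib.LawPkg

open Cfsg.Agent.Lib.Helper2.Law Cfsg.Agent.Lib.Helper2.Herm

universe u

/-! ### the block embedding `A ↦ diag(A, 1)` -/

section emb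

variable {R : Type*} [CommRing R] {m : ℕ}

/-- the block embedding `A ↦ diag(A, 1)` of `2 × 2` matrices into `(2 + m) × (2 + m)` matrices. -/
def sremb (m : ℕ) (A : Matrix (Fin 2) (Fin 2) R) : Matrix (Fin (2 + m)) (Fin (2 + m)) R :=
  (Matrix.fromBlocks A 0 0 (1 : Matrix (Fin m) (Fin m) R)).submatrix
    finSumFinEquiv.symm finSumFinEquiv.symm

theorem sremb_mul (A B : Matrix (Fin 2) (Fin 2) R) :
    sremb m (A * B) = sremb m A * sremb m B := by
  unfold sremb
  rw [Matrix.submatrix_mul_equiv, Matrix.fromBlocks_multiply]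
  simp

theorem sremb_one : sremb m (1 : Matrix (Fin 2) (Fin 2) R) = 1 := by
  unfold sremb
  rw [Matrix.fromBlocks_one, Matrix.submatrix_one_equiv]

theorem sremb_det (A : Matrix (Fin 2) (Fin 2) R) : (sremb m A).det = A.det := by
  unfold sremb
  rw [Matrix.det_submatrix_equiv_self, Matrix.det_fromBlocks_zero₂₁, Matrix.det_one, mul_one]

theorem sremb_transpose (A : Matrix (Fin 2) (Fin 2) R) :
    (sremb m A).transpose = sremb m A.transpose := by
  unfold sremb
  rw [Matrix.transpose_submatrix, Matrix.fromBlocks_transpose]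
  simp

theorem sremb_map (f : R →+* R) (A : Matrix (Fin 2) (Fin 2) R) :
    (sremb m A).map f = sremb m (A.map f) := by
  unfold sremb
  rw [← Matrix.submatrix_map, Matrix.fromBlocks_map]
  simp

theorem sremb_injective : Function.Injective (sremb (R := R) m) := by
  intro A B h
  ext i j
  have h1 := congrFun (congrFun h (finSumFinEquiv (Sum.inl i))) (finSumFinEquiv (Sum.inl j))
  simpa [sremb] using h1

end emb

/-! ### field facts -/

section field

variable {F : Type u} [Field F] [Fintype F] {q : ℕ}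

theorem sr_two_le_q (hF : Fintype.card F = q ^ 2) : 2 ≤ q := by
  have h1 : 1 < Fintype.card F := Fintype.one_lt_card
  rw [hF] at h1
  by_contra h
  have : q = 0 ∨ q = 1 := by omega
  rcases this with rfl | rfl <;> simp at h1

/-- the `q`-power map as a ring homomorphism -/
def srσ (hF : Fintype.card F = q ^ 2) : F →+* F where
  toFun a := a ^ q
  map_one' := one_pow q
  map_mul' a b := mul_pow a b q
  map_zero' := zero_pow (by have := sr_two_le_q hF; omega)
  map_add' a b := add_pow_q hF a b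

theorem srσ_apply (hF : Fintype.card F = q ^ 2) (a : F) : srσ hF a = a ^ q := rfl

theorem srσ_srσ (hF : Fintype.card F = q ^ 2) (a : F) : srσ hF (srσ hF a) = a := by
  rw [srσ_apply, srσ_apply, pow_q_pow_q hF]

theorem sr_exists_pow_q_ne (hF : Fintype.card F = q ^ 2) : ∃ c : F, c ^ q ≠ c := by
  classical
  by_contra hcon
  push Not at hcon
  have hq := sr_two_le_q hF
  have h1 : (Polynomial.X ^ q - Polynomial.X : Polynomial F) = 0 := by
    apply Polynomial.eq_zero_of_natDegree_lt_card_of_eval_eq_zero' _ Finset.univ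
    · intro i _
      simp [hcon i]
    · rw [FiniteField.X_pow_card_sub_X_natDegree_eq F (by omega), Finset.card_univ, hF]
      nlinarith
  exact FiniteField.X_pow_card_sub_X_ne_zero F (by omega) h1

/-- a nonzero element negated by the involution -/
theorem sr_exists_mu (hF : Fintype.card F = q ^ 2) : ∃ μ : F, μ ≠ 0 ∧ srσ hF μ = -μ := by
  obtain ⟨c, hc⟩ := sr_exists_pow_q_ne hF
  refine ⟨c - c ^ q, fun h => hc (sub_eq_zero.1 h).symm, ?_⟩
  rw [map_sub, srσ_apply, srσ_apply, pow_q_pow_q hF]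
  ring

theorem sr_neg_one_pow_q (hF : Fintype.card F = q ^ 2) : (-1 : F) ^ q = -1 := by
  have h := add_pow_q hF (1 : F) (-1)
  rw [add_neg_cancel, one_pow, zero_pow (by have := sr_two_le_q hF; omega)] at h
  linear_combination -h

/-- the parameters of a hyperbolic pair for the standard Hermitian form on `F ^ 2` -/
theorem sr_exists_witt (hF : Fintype.card F = q ^ 2) :
    ∃ ζ ζ' ν : F, ζ * srσ hF ζ = -1 ∧ ζ' * srσ hF ζ' = -1 ∧ ν * (1 + srσ hF ζ * ζ') = 1 := by
  have hq := sr_two_le_q hF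
  have hcard := Cfsg.Agent.S0754.result hF (-1) (neg_ne_zero.2 one_ne_zero) (sr_neg_one_pow_q hF)
  have hnt : Nontrivial {x : F // x ^ (q + 1) = -1} :=
    Finite.one_lt_card_iff_nontrivial.1 (by rw [hcard]; omega)
  obtain ⟨⟨ζ, hζ⟩, ⟨ζ', hζ'⟩, hne⟩ := exists_pair_ne {x : F // x ^ (q + 1) = -1}
  have hne' : ζ ≠ ζ' := fun e => hne (Subtype.ext e)
  have hζ0 : ζ ^ q ≠ 0 := by
    intro e
    rw [pow_succ, e, zero_mul] at hζ
    exact one_ne_zero (neg_eq_zero.1 hζ.symm)
  have h0 : 1 + ζ ^ q * ζ' ≠ 0 := by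
    intro e
    have h1 : ζ ^ q * (ζ' - ζ) = 0 := by
      rw [pow_succ] at hζ
      linear_combination e - hζ
    rcases mul_eq_zero.1 h1 with h | h
    · exact hζ0 h
    · exact hne' (sub_eq_zero.1 h).symm
  refine ⟨ζ, ζ', (1 + ζ ^ q * ζ')⁻¹, ?_, ?_, ?_⟩
  · rw [srσ_apply, ← pow_succ']
    exact hζ
  · rw [srσ_apply, ← pow_succ']
    exact hζ'
  · rw [srσ_apply]
    exact inv_mul_cancel₀ h0

end field

/-! ### unitarity through matrices -/

section unitary

variable {F : Type u} [Field F] {q : ℕ}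

theorem sr_herm_of_mat {n : ℕ} (σ : F →+* F) (hσ : ∀ a : F, σ a = a ^ q)
    (M : Matrix (Fin n) (Fin n) F) (h : M.transpose * M.map σ = 1) (u v : Fin n → F) :
    Cfsg.hermForm n F q (M.mulVec u) (M.mulVec v) = Cfsg.hermForm n F q u v := by
  have key : ∀ x y : Fin n → F, Cfsg.hermForm n F q x y = x ⬝ᵥ (σ ∘ y) := by
    intro x y
    unfold Cfsg.hermForm dotProduct
    refine Finset.sum_congr rfl fun i _ => ?_
    rw [Function.comp_apply, hσ]
  rw [key, key]
  have h1 : σ ∘ (M.mulVec v) = (M.map σ).mulVec (σ ∘ v) := by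
    funext i
    exact RingHom.map_mulVec σ M v i
  rw [h1, dotProduct_comm, Matrix.dotProduct_mulVec, ← Matrix.mulVec_transpose,
    Matrix.mulVec_mulVec, h, Matrix.one_mulVec, dotProduct_comm]

theorem sr_conj_unitary (σ : F →+* F) {C D U J : Matrix (Fin 2) (Fin 2) F} (hCD : C * D = 1)
    (hC : C.transpose * C.map σ = J) (hU : U.transpose * J * U.map σ = J) :
    (C * U * D).transpose * (C * U * D).map σ = 1 := by
  rw [Matrix.map_mul, Matrix.map_mul, Matrix.transpose_mul, Matrix.transpose_mul]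
  calc D.transpose * (U.transpose * C.transpose) * (C.map σ * U.map σ * D.map σ)
      = D.transpose * (U.transpose * (C.transpose * C.map σ) * U.map σ) * D.map σ := by
        simp only [Matrix.mul_assoc]
    _ = D.transpose * (C.transpose * C.map σ) * D.map σ := by rw [hC, hU]
    _ = (C * D).transpose * (C * D).map σ := by
        rw [Matrix.transpose_mul, Matrix.map_mul]
        simp only [Matrix.mul_assoc]
    _ = 1 := by
        rw [hCD, Matrix.transpose_one, Matrix.map_one _ (map_zero σ) (map_one σ), Matrix.mul_one]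

end unitary

/-! ### the homomorphism -/

section hom

variable {F : Type u} [Field F]

/-- conjugation by `C`, followed by the block embedding, as a homomorphism `SL₂ → SL_{2+m}`. -/
noncomputable def srHom (m : ℕ) (C : Matrix.GeneralLinearGroup (Fin 2) F) :
    Matrix.SpecialLinearGroup (Fin 2) F →* Matrix.SpecialLinearGroup (Fin (2 + m)) F where
  toFun g := ⟨sremb m ((C * Matrix.SpecialLinearGroup.toGL g * C⁻¹ :
      Matrix.GeneralLinearGroup (Fin 2) F) : Matrix (Fin 2) (Fin 2) F), by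
    rw [sremb_det, Units.val_mul, Units.val_mul, Matrix.det_units_conj]
    exact g.2⟩
  map_one' := by
    apply Subtype.ext
    simp [sremb_one]
  map_mul' g h := by
    apply Subtype.ext
    show sremb m ((C * Matrix.SpecialLinearGroup.toGL (g * h) * C⁻¹ :
        Matrix.GeneralLinearGroup (Fin 2) F) : Matrix (Fin 2) (Fin 2) F) =
      sremb m ((C * Matrix.SpecialLinearGroup.toGL g * C⁻¹ :
        Matrix.GeneralLinearGroup (Fin 2) F) : Matrix (Fin 2) (Fin 2) F) *
      sremb m ((C * Matrix.SpecialLinearGroup.toGL h * C⁻¹ :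
        Matrix.GeneralLinearGroup (Fin 2) F) : Matrix (Fin 2) (Fin 2) F)
    rw [← sremb_mul, ← Units.val_mul]
    congr 2
    rw [map_mul]
    group

theorem srHom_val (m : ℕ) (C : Matrix.GeneralLinearGroup (Fin 2) F)
    (g : Matrix.SpecialLinearGroup (Fin 2) F) :
    ((srHom m C g : Matrix.SpecialLinearGroup (Fin (2 + m)) F) :
        Matrix (Fin (2 + m)) (Fin (2 + m)) F) =
      sremb m ((C : Matrix (Fin 2) (Fin 2) F) * (g : Matrix (Fin 2) (Fin 2) F) *
        ((C⁻¹ : Matrix.GeneralLinearGroup (Fin 2) F) : Matrix (Fin 2) (Fin 2) F)) := rfl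

theorem srHom_injective (m : ℕ) (C : Matrix.GeneralLinearGroup (Fin 2) F) :
    Function.Injective (srHom m C) := by
  intro g h hgh
  have h1 := congrArg Subtype.val hgh
  rw [srHom_val, srHom_val] at h1
  have h2 := sremb_injective h1
  have h3 : (C : Matrix (Fin 2) (Fin 2) F) * (g : Matrix (Fin 2) (Fin 2) F) =
      (C : Matrix (Fin 2) (Fin 2) F) * (h : Matrix (Fin 2) (Fin 2) F) := by
    have := congrArg (fun X => X * (C : Matrix (Fin 2) (Fin 2) F)) h2
    simpa [Matrix.mul_assoc] using this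
  have h4 : (g : Matrix (Fin 2) (Fin 2) F) = (h : Matrix (Fin 2) (Fin 2) F) := by
    have := congrArg (fun X => ((C⁻¹ : Matrix.GeneralLinearGroup (Fin 2) F) :
      Matrix (Fin 2) (Fin 2) F) * X) h3
    simpa [← Matrix.mul_assoc] using this
  exact Subtype.ext h4

end hom

/-- (E-SUroot) the two root groups of a hyperbolic pair inside `SU_n(q)`, `n ≥ 2`. -/
theorem su_root (F : Type u) [Field F] [Fintype F] (n q : ℕ) (hF : Fintype.card F = q ^ 2)
    (hn : 2 ≤ n) :
    ∃ (φ : Matrix.SpecialLinearGroup (Fin 2) F →* Matrix.SpecialLinearGroup (Fin n) F) (μ : F),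
      Function.Injective φ ∧ μ ≠ 0 ∧ ∀ x : F, x ^ q = x →
        φ (upper (μ * x)) ∈ Cfsg.SU n F q ∧ φ (lower (μ * x)) ∈ Cfsg.SU n F q := by
  obtain ⟨m, rfl⟩ : ∃ m, n = 2 + m := ⟨n - 2, by omega⟩
  obtain ⟨ζ, ζ', ν, hζ, hζ', hν⟩ := sr_exists_witt hF
  obtain ⟨μ, hμ0, hμ⟩ := sr_exists_mu hF
  set σ := srσ hF with hσdef
  have hσσ : ∀ a, σ (σ a) = a := srσ_srσ hF
  -- the matrix with columns the hyperbolic pair
  have hν0 : ν ≠ 0 := by
    rintro rfl
    rw [zero_mul] at hν
    exact zero_ne_one hν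
  have hne : ζ' - ζ ≠ 0 := by
    intro h
    have h1 : ζ' = ζ := sub_eq_zero.1 h
    rw [h1, mul_comm (σ ζ) ζ, hζ] at hν
    simp at hν
  have hdet : (!![1, ν; ζ, ν * ζ'] : Matrix (Fin 2) (Fin 2) F).det ≠ 0 := by
    rw [Matrix.det_fin_two_of]
    have : (1 : F) * (ν * ζ') - ν * ζ = ν * (ζ' - ζ) := by ring
    rw [this]
    exact mul_ne_zero hν0 hne
  set C : Matrix.GeneralLinearGroup (Fin 2) F :=
    Matrix.GeneralLinearGroup.mkOfDetNeZero _ hdet with hCdef
  have hCval : (C : Matrix (Fin 2) (Fin 2) F) = !![1, ν; ζ, ν * ζ'] := rfl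
  have hCD : (C : Matrix (Fin 2) (Fin 2) F) *
      ((C⁻¹ : Matrix.GeneralLinearGroup (Fin 2) F) : Matrix (Fin 2) (Fin 2) F) = 1 := by
    rw [← Units.val_mul, mul_inv_cancel, Units.val_one]
  -- the Gram matrix of the pair
  have hσν : σ ν * (1 + ζ * σ ζ') = 1 := by
    have := congrArg σ hν
    rw [map_mul, map_add, map_mul, map_one, hσσ] at this
    exact this
  have hGram : (C : Matrix (Fin 2) (Fin 2) F).transpose * (C : Matrix (Fin 2) (Fin 2) F).map σ =
      !![0, 1; 1, 0] := by
    rw [hCval]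
    ext i j
    fin_cases i <;> fin_cases j
    · simp [Matrix.mul_apply, Fin.sum_univ_two]
      linear_combination hζ
    · simp [Matrix.mul_apply, Fin.sum_univ_two]
      linear_combination hσν
    · simp [Matrix.mul_apply, Fin.sum_univ_two]
      linear_combination hν
    · simp [Matrix.mul_apply, Fin.sum_univ_two]
      linear_combination (ν * σ ν) * hζ'
  refine ⟨srHom m C, μ, srHom_injective m C, hμ0, ?_⟩
  intro x hx
  have hσx : σ (μ * x) = -(μ * x) := by
    rw [map_mul, hμ, srσ_apply, hx]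
    ring
  have hmem : ∀ g : Matrix.SpecialLinearGroup (Fin 2) F,
      (g : Matrix (Fin 2) (Fin 2) F).transpose * !![0, 1; 1, 0] *
        (g : Matrix (Fin 2) (Fin 2) F).map σ = !![0, 1; 1, 0] →
      srHom m C g ∈ Cfsg.SU (2 + m) F q := by
    intro g hg u v
    have h1 := sr_conj_unitary σ hCD hGram hg
    have h2 : ((srHom m C g : Matrix.SpecialLinearGroup (Fin (2 + m)) F) :
        Matrix (Fin (2 + m)) (Fin (2 + m)) F).transpose *
        ((srHom m C g : Matrix.SpecialLinearGroup (Fin (2 + m)) F) :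
        Matrix (Fin (2 + m)) (Fin (2 + m)) F).map σ = 1 := by
      rw [srHom_val, sremb_transpose, sremb_map, ← sremb_mul, h1, sremb_one]
    exact sr_herm_of_mat σ (srσ_apply hF) _ h2 u v
  constructor
  · apply hmem
    show (!![1, μ * x; 0, 1] : Matrix (Fin 2) (Fin 2) F).transpose * !![0, 1; 1, 0] *
      (!![1, μ * x; 0, 1] : Matrix (Fin 2) (Fin 2) F).map σ = !![0, 1; 1, 0]
    ext i j
    fin_cases i <;> fin_cases j <;> simp [Matrix.mul_apply, Fin.sum_univ_two, hσx]
  · apply hmem
    show (!![1, 0; μ * x, 1] : Matrix (Fin 2) (Fin 2) F).transpose * !![0, 1; 1, 0] *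
      (!![1, 0; μ * x, 1] : Matrix (Fin 2) (Fin 2) F).map σ = !![0, 1; 1, 0]
    ext i j
    fin_cases i <;> fin_cases j <;> simp [Matrix.mul_apply, Fin.sum_univ_two, hσx]

end Cfsg.Agent.Lib.LawPkg
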