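import Mathlib
set_option autoImplicit false
set_option linter.unusedSectionVars false

/-!
Arithmetic for the comparison of the order of a group of Lie type with the order of its Sylow subgroups for the
characteristic.
-/

namespace Cfsg.Agent.Lib.Helper3.LieOrd

theorem bound_of_pow_dvd {p : ℕ} (hp : p.Prime) {n e : ℕ} (hn : n ≠ 0) (hdvd : p ^ e ∣ n)
    (hlt : n ^ 3 < (p ^ e) ^ 8) :
    n < p ^ (3 * n.factorization p) ∧ n ^ 3 < p ^ (8 * n.factorization p) := by
  have he : e ≤ n.factorization p := (hp.pow_dvd_iff_le_factorization hn).mp hdvd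
  have hp1 : 1 ≤ p := hp.one_lt.le
  have h8 : (p ^ e) ^ 8 ≤ p ^ (8 * n.factorization p) := by
    rw [← pow_mul]
    exact Nat.pow_le_pow_right hp1 (by omega)
  refine ⟨?_, lt_of_lt_of_le hlt h8⟩
  by_contra hcon
  push Not at hcon
  have h9 : (p ^ e) ^ 9 ≤ n ^ 3 := by
    calc (p ^ e) ^ 9 = (p ^ (3 * e)) ^ 3 := by rw [← pow_mul, ← pow_mul]; congr 1; ring
      _ ≤ (p ^ (3 * n.factorization p)) ^ 3 :=
        Nat.pow_le_pow_left (Nat.pow_le_pow_right hp1 (by omega)) 3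
      _ ≤ n ^ 3 := Nat.pow_le_pow_left hcon 3
  have h89 : (p ^ e) ^ 8 ≤ (p ^ e) ^ 9 := Nat.pow_le_pow_right (Nat.one_le_pow _ _ hp1) (by norm_num)
  exact absurd (lt_of_lt_of_le hlt (h89.trans h9)) (lt_irrefl _)

/-- the main reduction: the order `n` with `d * n = Q * M`, where `Q` is a power of `p` prime to `d` and
`M ^ 3 < Q ^ 5` -/
theorem lie_bound {p : ℕ} (hp : p.Prime) {n d Q M e : ℕ} (hQ : Q = p ^ e) (hd : d ≠ 0) (hM : M ≠ 0)
    (hid : d * n = Q * M) (hcop : Nat.Coprime Q d) (hlt : M ^ 3 < Q ^ 5) :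
    n < p ^ (3 * n.factorization p) ∧ n ^ 3 < p ^ (8 * n.factorization p) := by
  have hQ0 : 0 < Q := by rw [hQ]; exact pow_pos hp.pos _
  have hn : n ≠ 0 := by
    rintro rfl
    rw [mul_zero] at hid
    exact (Nat.mul_ne_zero hQ0.ne' hM) hid.symm
  have hdvd : Q ∣ n := hcop.dvd_of_dvd_mul_left (Dvd.intro _ hid.symm)
  have hle : n ≤ Q * M := by rw [← hid]; exact Nat.le_mul_of_pos_left n (Nat.pos_of_ne_zero hd)
  apply bound_of_pow_dvd hp hn (hQ ▸ hdvd)
  rw [← hQ]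
  calc n ^ 3 ≤ (Q * M) ^ 3 := Nat.pow_le_pow_left hle 3
    _ = Q ^ 3 * M ^ 3 := mul_pow _ _ _
    _ < Q ^ 3 * Q ^ 5 := Nat.mul_lt_mul_of_pos_left hlt (pow_pos hQ0 3)
    _ = Q ^ 8 := by rw [← pow_add]

theorem coprime_pow_sub_one (q m : ℕ) (hq : 1 ≤ q) (hm : 1 ≤ m) : Nat.Coprime q (q ^ m - 1) := by
  have h1 : 1 ≤ q ^ m := Nat.one_le_pow _ _ hq
  have h2 : Nat.Coprime (q ^ m) (q ^ m - 1) := (Nat.coprime_self_sub_right h1).mpr (Nat.coprime_one_right _)
  exact Nat.Coprime.coprime_dvd_left (dvd_pow_self q (by omega)) h2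

theorem coprime_pow_add_one (q m : ℕ) (hm : 1 ≤ m) : Nat.Coprime q (q ^ m + 1) := by
  have h2 : Nat.Coprime (q ^ m) (q ^ m + 1) := Nat.coprime_self_add_right.mpr (Nat.coprime_one_right _)
  exact Nat.Coprime.coprime_dvd_left (dvd_pow_self q (by omega)) h2

theorem pow_sub_one_lt (q a : ℕ) (hq : 2 ≤ q) : q ^ a - 1 < q ^ a := by
  have : 1 ≤ q ^ a := Nat.one_le_pow _ _ (by omega)
  omega

theorem pow_sub_one_ne_zero (q a : ℕ) (hq : 2 ≤ q) (ha : 1 ≤ a) : q ^ a - 1 ≠ 0 := by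
  have : 2 ≤ q ^ a := by
    calc 2 ≤ q := hq
      _ = q ^ 1 := (pow_one q).symm
      _ ≤ q ^ a := Nat.pow_le_pow_right (by omega) ha
  omega

theorem pow_add_one_lt (q a : ℕ) (hq : 2 ≤ q) (ha : 1 ≤ a) : q ^ a + 1 < q ^ (a + 1) := by
  have h2 : 2 ≤ q ^ a := by
    calc 2 ≤ q := hq
      _ = q ^ 1 := (pow_one q).symm
      _ ≤ q ^ a := Nat.pow_le_pow_right (by omega) ha
  have h3 : q ^ (a + 1) = q ^ a * q := pow_succ q a
  have h4 : q ^ a * 2 ≤ q ^ a * q := Nat.mul_le_mul_left _ hq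
  omega

theorem mul_lt_pow_add {q A B a b : ℕ} (hA : A < q ^ a) (hB : B < q ^ b) : A * B < q ^ (a + b) := by
  rw [pow_add]
  exact Nat.mul_lt_mul'' hA hB

/-- the product in the orders of the symplectic and orthogonal groups -/
theorem prod_sq_sub_one_lt (q : ℕ) (hq : 2 ≤ q) (m : ℕ) (hm : 1 ≤ m) :
    ∏ i ∈ Finset.range m, (q ^ (2 * (i + 1)) - 1) < q ^ (m * (m + 1)) := by
  induction m, hm using Nat.le_induction with
  | base =>
    rw [Finset.prod_range_one]
    exact pow_sub_one_lt q _ hq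
  | succ m hm ih =>
    rw [Finset.prod_range_succ]
    have := mul_lt_pow_add ih (pow_sub_one_lt q (2 * (m + 1)) hq)
    have e : m * (m + 1) + 2 * (m + 1) = (m + 1) * (m + 1 + 1) := by ring
    rwa [e] at this

theorem prod_sq_sub_one_ne_zero (q : ℕ) (hq : 2 ≤ q) (m : ℕ) :
    ∏ i ∈ Finset.range m, (q ^ (2 * (i + 1)) - 1) ≠ 0 := by
  rw [Finset.prod_ne_zero_iff]
  intro i _
  exact pow_sub_one_ne_zero q _ hq (by omega)

/-- the exponent of the bound for the products in the orders of the linear and unitary groups -/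
def expT (j : ℕ) : ℕ := ∑ i ∈ Finset.range j, (i + 2)

theorem expT_succ (j : ℕ) : expT (j + 1) = expT j + (j + 2) := Finset.sum_range_succ _ _

theorem two_mul_expT (j : ℕ) : 2 * expT j = j * (j + 3) := by
  induction j with
  | zero => simp [expT]
  | succ j ih => rw [expT_succ, mul_add, ih]; ring

theorem two_mul_sum_range (n : ℕ) : 2 * ∑ i ∈ Finset.range (n + 1), i = n * (n + 1) := by
  rw [mul_comm, Finset.sum_range_id_mul_two]
  simp [mul_comm]

/-- the product in the order of the special linear group -/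
theorem prod_lin_lt (q : ℕ) (hq : 2 ≤ q) (j : ℕ) (hj : 1 ≤ j) :
    ∏ i ∈ Finset.range j, (q ^ (i + 2) - 1) < q ^ expT j := by
  induction j, hj using Nat.le_induction with
  | base =>
    rw [Finset.prod_range_one]
    exact pow_sub_one_lt q _ hq
  | succ j hj ih =>
    rw [Finset.prod_range_succ, expT_succ]
    exact mul_lt_pow_add ih (pow_sub_one_lt q (j + 2) hq)

theorem prod_lin_ne_zero (q : ℕ) (hq : 2 ≤ q) (j : ℕ) : ∏ i ∈ Finset.range j, (q ^ (i + 2) - 1) ≠ 0 := by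
  rw [Finset.prod_ne_zero_iff]
  intro i _
  exact pow_sub_one_ne_zero q _ hq (by omega)

/-- the factors in the order of the special unitary group -/
def uf (q i : ℕ) : ℕ := if Even i then q ^ (i + 2) - 1 else q ^ (i + 2) + 1

theorem sub_one_mul_add_one_lt (A B : ℕ) (hA : 1 ≤ A) (hAB : A < B) : (A - 1) * (B + 1) < A * B := by
  obtain ⟨a, rfl⟩ : ∃ a, A = a + 1 := ⟨A - 1, by omega⟩
  rw [Nat.add_sub_cancel]
  nlinarith

theorem uf_pair (q k : ℕ) (hq : 2 ≤ q) : uf q (2 * k) * uf q (2 * k + 1) < q ^ ((2 * k + 2) + (2 * k + 3)) := by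
  have h1 : Even (2 * k) := even_two_mul k
  have h2 : ¬ Even (2 * k + 1) := by rw [Nat.even_add_one]; exact not_not.mpr h1
  unfold uf
  rw [if_pos h1, if_neg h2]
  have ha : 1 ≤ q ^ (2 * k + 2) := Nat.one_le_pow _ _ (by omega)
  have hlt : q ^ (2 * k + 2) < q ^ (2 * k + 3) := Nat.pow_lt_pow_right (by omega) (by omega)
  have e3 : 2 * k + 1 + 2 = 2 * k + 3 := by ring
  rw [e3]
  have := sub_one_mul_add_one_lt _ _ ha hlt
  rwa [← pow_add] at this

theorem prod_uf_even_le (q : ℕ) (hq : 2 ≤ q) (k : ℕ) :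
    ∏ i ∈ Finset.range (2 * k), uf q i ≤ q ^ expT (2 * k) := by
  induction k with
  | zero => simp [expT]
  | succ k ih =>
    have e : 2 * (k + 1) = 2 * k + 1 + 1 := by ring
    rw [e, Finset.prod_range_succ, Finset.prod_range_succ, expT_succ, expT_succ, mul_assoc, add_assoc, pow_add]
    exact Nat.mul_le_mul ih (uf_pair q k hq).le

theorem uf_pos (q i : ℕ) (hq : 2 ≤ q) : 0 < uf q i := by
  unfold uf
  split_ifs
  · exact Nat.pos_of_ne_zero (pow_sub_one_ne_zero q _ hq (by omega))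
  · omega

theorem prod_uf_pos (q : ℕ) (hq : 2 ≤ q) (j : ℕ) : 0 < ∏ i ∈ Finset.range j, uf q i :=
  Finset.prod_pos fun i _ => uf_pos q i hq

/-- the product in the order of the special unitary group -/
theorem prod_uf_lt (q : ℕ) (hq : 2 ≤ q) (j : ℕ) (hj : 1 ≤ j) :
    ∏ i ∈ Finset.range j, uf q i < q ^ expT j := by
  rcases Nat.even_or_odd' j with ⟨k, rfl | rfl⟩
  · obtain ⟨k, rfl⟩ : ∃ k', k = k' + 1 := ⟨k - 1, by omega⟩
    have e : 2 * (k + 1) = 2 * k + 1 + 1 := by ring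
    rw [e, Finset.prod_range_succ, Finset.prod_range_succ, expT_succ, expT_succ, mul_assoc, add_assoc, pow_add]
    have h1 := prod_uf_even_le q hq k
    have h2 := uf_pair q k hq
    calc (∏ i ∈ Finset.range (2 * k), uf q i) * (uf q (2 * k) * uf q (2 * k + 1))
        ≤ q ^ expT (2 * k) * (uf q (2 * k) * uf q (2 * k + 1)) := Nat.mul_le_mul_right _ h1
      _ < q ^ expT (2 * k) * q ^ (2 * k + 2 + (2 * k + 1 + 2)) :=
        Nat.mul_lt_mul_of_pos_left h2 (pow_pos (by omega) _)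
  · rw [Finset.prod_range_succ, expT_succ, pow_add]
    have h1 := prod_uf_even_le q hq k
    have h2 : uf q (2 * k) < q ^ (2 * k + 2) := by
      unfold uf
      rw [if_pos (even_two_mul k)]
      exact pow_sub_one_lt q _ hq
    calc (∏ i ∈ Finset.range (2 * k), uf q i) * uf q (2 * k)
        ≤ q ^ expT (2 * k) * uf q (2 * k) := Nat.mul_le_mul_right _ h1
      _ < q ^ expT (2 * k) * q ^ (2 * k + 2) := Nat.mul_lt_mul_of_pos_left h2 (pow_pos (by omega) _)

/-- the comparison of the exponents for the linear and unitary groups -/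
theorem exp_compare (j : ℕ) (hj : 2 ≤ j) : 3 * expT j ≤ 5 * ∑ i ∈ Finset.range (j + 1), i := by
  have h1 := two_mul_expT j
  have h2 := two_mul_sum_range j
  have h3 : 3 * (j * (j + 3)) ≤ 5 * (j * (j + 1)) := by nlinarith
  omega

end Cfsg.Agent.Lib.Helper3.LieOrd
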