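import Mathlib
import Cfsg.Agent.Lib.Helper3.LieOrd1
set_option autoImplicit false
set_option linter.unusedSectionVars false

/-!
Arithmetic for the comparison of the order of a group of Lie type with the order of its Sylow subgroups for the
characteristic, part 2: the order formulas of the families.
-/

namespace Cfsg.Agent.Lib.Helper3.LieOrd

/-- the two inequalities -/
def Good (p n : ℕ) : Prop := n < p ^ (3 * n.factorization p) ∧ n ^ 3 < p ^ (8 * n.factorization p)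

theorem two_le_of_eq_pow {p a q : ℕ} (hp : p.Prime) (ha : 1 ≤ a) (hq : q = p ^ a) : 2 ≤ q := by
  rw [hq]
  calc 2 ≤ p := hp.two_le
    _ = p ^ 1 := (pow_one p).symm
    _ ≤ p ^ a := Nat.pow_le_pow_right hp.pos ha

/-- the general form: `d * N = q ^ E * M` with `M < q ^ S` and `3 S ≤ 5 E` -/
theorem good_of_identity {p a q : ℕ} (hp : p.Prime) (ha : 1 ≤ a) (hq : q = p ^ a) {N d E M S : ℕ} (hd : d ≠ 0)
    (hM0 : M ≠ 0) (hid : d * N = q ^ E * M) (hcop : Nat.Coprime q d) (hM : M < q ^ S) (hSE : 3 * S ≤ 5 * E) :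
    Good p N := by
  have hq2 : 2 ≤ q := two_le_of_eq_pow hp ha hq
  refine lie_bound hp (Q := q ^ E) (e := a * E) (by rw [hq, pow_mul]) hd hM0 hid (Nat.Coprime.pow_left _ hcop) ?_
  calc M ^ 3 < (q ^ S) ^ 3 := Nat.pow_lt_pow_left hM (by norm_num)
    _ = q ^ (3 * S) := by rw [← pow_mul, mul_comm]
    _ ≤ q ^ (5 * E) := Nat.pow_le_pow_right (by omega) hSE
    _ = (q ^ E) ^ 5 := by rw [← pow_mul, mul_comm]

/-- the linear groups of dimension at least three -/
theorem good_psl {p a q : ℕ} (hp : p.Prime) (ha : 1 ≤ a) (hq : q = p ^ a) (n N : ℕ) (hn : 3 ≤ n)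
    (hid : Nat.gcd n (q - 1) * ((q - 1) * N) = ∏ i : Fin n, (q ^ n - q ^ (i : ℕ))) : Good p N := by
  have hq2 : 2 ≤ q := two_le_of_eq_pow hp ha hq
  obtain ⟨j, rfl⟩ : ∃ j, n = j + 1 := ⟨n - 1, by omega⟩
  have h1 : ∏ i : Fin (j + 1), (q ^ (j + 1) - q ^ (i : ℕ)) =
      ∏ i ∈ Finset.range (j + 1), (q ^ (j + 1) - q ^ i) :=
    Fin.prod_univ_eq_prod_range (fun i => q ^ (j + 1) - q ^ i) (j + 1)
  have h2 : ∏ i ∈ Finset.range (j + 1), (q ^ (j + 1) - q ^ i) =
      ∏ i ∈ Finset.range (j + 1), (q ^ (j + 1) - q ^ (j + 1 - 1 - i)) :=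
    (Finset.prod_range_reflect (fun i => q ^ (j + 1) - q ^ i) (j + 1)).symm
  have h3 : ∏ i ∈ Finset.range (j + 1), (q ^ (j + 1) - q ^ (j + 1 - 1 - i)) =
      ∏ i ∈ Finset.range (j + 1), (q ^ (j + 1 - 1 - i) * (q ^ (i + 1) - 1)) := by
    apply Finset.prod_congr rfl
    intro i hi
    rw [Finset.mem_range] at hi
    rw [Nat.mul_sub, mul_one, ← pow_add]
    congr 2
    omega
  have h4 : ∏ i ∈ Finset.range (j + 1), q ^ (j + 1 - 1 - i) = q ^ ∑ i ∈ Finset.range (j + 1), i := by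
    rw [Finset.prod_range_reflect (fun i => q ^ i) (j + 1), Finset.prod_pow_eq_pow_sum]
  have h5 : ∏ i ∈ Finset.range (j + 1), (q ^ (i + 1) - 1) =
      (∏ i ∈ Finset.range j, (q ^ (i + 2) - 1)) * (q - 1) := by
    rw [Finset.prod_range_succ']
    simp
  rw [h1, h2, h3, Finset.prod_mul_distrib, h4, h5] at hid
  have hq1 : 0 < q - 1 := by omega
  have hid' : Nat.gcd (j + 1) (q - 1) * N =
      q ^ (∑ i ∈ Finset.range (j + 1), i) * ∏ i ∈ Finset.range j, (q ^ (i + 2) - 1) := by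
    apply Nat.eq_of_mul_eq_mul_right hq1
    have e : Nat.gcd (j + 1) (q - 1) * N * (q - 1) = Nat.gcd (j + 1) (q - 1) * ((q - 1) * N) := by ring
    rw [e, hid]
    ring
  have hcop : Nat.Coprime q (Nat.gcd (j + 1) (q - 1)) := by
    have h := coprime_pow_sub_one q 1 (by omega) le_rfl
    rw [pow_one] at h
    exact Nat.Coprime.coprime_dvd_right (Nat.gcd_dvd_right _ _) h
  exact good_of_identity hp ha hq (Nat.gcd_pos_of_pos_left _ (by omega)).ne' (prod_lin_ne_zero q hq2 j) hid' hcop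
    (prod_lin_lt q hq2 j (by omega)) (exp_compare j (by omega))

/-- the unitary groups of dimension at least three -/
theorem good_psu {p a q : ℕ} (hp : p.Prime) (ha : 1 ≤ a) (hq : q = p ^ a) (n N : ℕ) (hn : 3 ≤ n)
    (hid : Nat.gcd n (q + 1) * ((q + 1) * N) = q ^ (n * (n - 1) / 2) *
      ∏ i ∈ Finset.range n, (if Even i then q ^ (i + 1) + 1 else q ^ (i + 1) - 1)) : Good p N := by
  have hq2 : 2 ≤ q := two_le_of_eq_pow hp ha hq
  obtain ⟨j, rfl⟩ : ∃ j, n = j + 1 := ⟨n - 1, by omega⟩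
  have h5 : ∏ i ∈ Finset.range (j + 1), (if Even i then q ^ (i + 1) + 1 else q ^ (i + 1) - 1) =
      (∏ i ∈ Finset.range j, uf q i) * (q + 1) := by
    rw [Finset.prod_range_succ']
    congr 1
    · apply Finset.prod_congr rfl
      intro i _
      unfold uf
      by_cases hi : Even i
      · rw [if_pos hi, if_neg (by rw [Nat.even_add_one]; exact not_not.mpr hi)]
      · rw [if_neg hi, if_pos (by rw [Nat.even_add_one]; exact hi)]
    · simp
  rw [h5, ← Finset.sum_range_id] at hid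
  have hq1 : 0 < q + 1 := by omega
  have hid' : Nat.gcd (j + 1) (q + 1) * N =
      q ^ (∑ i ∈ Finset.range (j + 1), i) * ∏ i ∈ Finset.range j, uf q i := by
    apply Nat.eq_of_mul_eq_mul_right hq1
    have e : Nat.gcd (j + 1) (q + 1) * N * (q + 1) = Nat.gcd (j + 1) (q + 1) * ((q + 1) * N) := by ring
    rw [e, hid]
    ring
  have hcop : Nat.Coprime q (Nat.gcd (j + 1) (q + 1)) := by
    have h := coprime_pow_add_one q 1 le_rfl
    rw [pow_one] at h
    exact Nat.Coprime.coprime_dvd_right (Nat.gcd_dvd_right _ _) h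
  exact good_of_identity hp ha hq (Nat.gcd_pos_of_pos_left _ (by omega)).ne' (prod_uf_pos q hq2 j).ne' hid' hcop
    (prod_uf_lt q hq2 j (by omega)) (exp_compare j (by omega))

/-- the symplectic groups and the orthogonal groups of odd dimension -/
theorem good_sp {p a q : ℕ} (hp : p.Prime) (ha : 1 ≤ a) (hq : q = p ^ a) (m N d : ℕ) (hm : 2 ≤ m) (hd : d ≠ 0)
    (hcop : Nat.Coprime q d)
    (hid : d * N = q ^ (m ^ 2) * ∏ i ∈ Finset.range m, (q ^ (2 * (i + 1)) - 1)) : Good p N := by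
  have hq2 : 2 ≤ q := two_le_of_eq_pow hp ha hq
  refine good_of_identity hp ha hq hd (prod_sq_sub_one_ne_zero q hq2 m) hid hcop
    (prod_sq_sub_one_lt q hq2 m (by omega)) ?_
  nlinarith

/-- the orthogonal groups of plus type -/
theorem good_oplus {p a q : ℕ} (hp : p.Prime) (ha : 1 ≤ a) (hq : q = p ^ a) (m N : ℕ) (hm : 4 ≤ m)
    (hid : Nat.gcd 4 (q ^ m - 1) * N =
      q ^ (m * (m - 1)) * (q ^ m - 1) * ∏ i ∈ Finset.range (m - 1), (q ^ (2 * (i + 1)) - 1)) : Good p N := by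
  have hq2 : 2 ≤ q := two_le_of_eq_pow hp ha hq
  obtain ⟨j, rfl⟩ : ∃ j, m = j + 1 := ⟨m - 1, by omega⟩
  rw [Nat.add_sub_cancel] at hid
  have hid' : Nat.gcd 4 (q ^ (j + 1) - 1) * N =
      q ^ ((j + 1) * j) * ((q ^ (j + 1) - 1) * ∏ i ∈ Finset.range j, (q ^ (2 * (i + 1)) - 1)) := by
    rw [hid]; ring
  have hcop : Nat.Coprime q (Nat.gcd 4 (q ^ (j + 1) - 1)) :=
    Nat.Coprime.coprime_dvd_right (Nat.gcd_dvd_right _ _) (coprime_pow_sub_one q (j + 1) (by omega) (by omega))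
  refine good_of_identity hp ha hq (Nat.gcd_pos_of_pos_left _ (by norm_num)).ne'
    (Nat.mul_ne_zero (pow_sub_one_ne_zero q _ hq2 (by omega)) (prod_sq_sub_one_ne_zero q hq2 j)) hid' hcop
    (mul_lt_pow_add (pow_sub_one_lt q (j + 1) hq2) (prod_sq_sub_one_lt q hq2 j (by omega))) ?_
  nlinarith

/-- the orthogonal groups of minus type -/
theorem good_ominus {p a q : ℕ} (hp : p.Prime) (ha : 1 ≤ a) (hq : q = p ^ a) (m N : ℕ) (hm : 4 ≤ m)
    (hid : Nat.gcd 4 (q ^ m + 1) * N =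
      q ^ (m * (m - 1)) * (q ^ m + 1) * ∏ i ∈ Finset.range (m - 1), (q ^ (2 * (i + 1)) - 1)) : Good p N := by
  have hq2 : 2 ≤ q := two_le_of_eq_pow hp ha hq
  obtain ⟨j, rfl⟩ : ∃ j, m = j + 1 := ⟨m - 1, by omega⟩
  rw [Nat.add_sub_cancel] at hid
  have hid' : Nat.gcd 4 (q ^ (j + 1) + 1) * N =
      q ^ ((j + 1) * j) * ((q ^ (j + 1) + 1) * ∏ i ∈ Finset.range j, (q ^ (2 * (i + 1)) - 1)) := by
    rw [hid]; ring
  have hcop : Nat.Coprime q (Nat.gcd 4 (q ^ (j + 1) + 1)) :=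
    Nat.Coprime.coprime_dvd_right (Nat.gcd_dvd_right _ _) (coprime_pow_add_one q (j + 1) (by omega))
  refine good_of_identity hp ha hq (Nat.gcd_pos_of_pos_left _ (by norm_num)).ne'
    (Nat.mul_ne_zero (by omega) (prod_sq_sub_one_ne_zero q hq2 j)) hid' hcop
    (mul_lt_pow_add (pow_add_one_lt q (j + 1) hq2 (by omega)) (prod_sq_sub_one_lt q hq2 j (by omega))) ?_
  nlinarith

end Cfsg.Agent.Lib.Helper3.LieOrd
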