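import Mathlib
import Cfsg.Agent.Lib.Helper3.LieOrd2
set_option autoImplicit false
set_option linter.unusedSectionVars false

/-!
Arithmetic for the comparison of the order of a group of Lie type with the order of its Sylow subgroups for the
characteristic, part 3: the exceptional families and the linear groups of dimension two.
-/

namespace Cfsg.Agent.Lib.Helper3.LieOrd

section
variable {p a q : ℕ} (hp : p.Prime) (ha : 1 ≤ a) (hq : q = p ^ a)
include hp ha hq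

theorem sub_one_lt_pow_one : q - 1 < q ^ 1 := by
  have := two_le_of_eq_pow hp ha hq
  rw [pow_one]; omega

theorem sub_one_ne_zero : q - 1 ≠ 0 := by
  have := two_le_of_eq_pow hp ha hq
  omega

theorem coprime_gcd_sub_one (c : ℕ) : Nat.Coprime q (Nat.gcd c (q - 1)) := by
  have hq2 := two_le_of_eq_pow hp ha hq
  have h := coprime_pow_sub_one q 1 (by omega) le_rfl
  rw [pow_one] at h
  exact Nat.Coprime.coprime_dvd_right (Nat.gcd_dvd_right _ _) h

theorem coprime_gcd_add_one (c : ℕ) : Nat.Coprime q (Nat.gcd c (q + 1)) := by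
  have h := coprime_pow_add_one q 1 le_rfl
  rw [pow_one] at h
  exact Nat.Coprime.coprime_dvd_right (Nat.gcd_dvd_right _ _) h

theorem good_g2 (N : ℕ) (hid : N = q ^ 6 * (q ^ 2 - 1) * (q ^ 6 - 1)) : Good p N := by
  have hq2 := two_le_of_eq_pow hp ha hq
  have hid' : 1 * N = q ^ 6 * ((q ^ 2 - 1) * (q ^ 6 - 1)) := by rw [one_mul, hid]; ring
  exact good_of_identity hp ha hq one_ne_zero
    (Nat.mul_ne_zero (pow_sub_one_ne_zero q 2 hq2 (by norm_num)) (pow_sub_one_ne_zero q 6 hq2 (by norm_num)))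
    hid' (Nat.coprime_one_right _)
    (mul_lt_pow_add (pow_sub_one_lt q 2 hq2) (pow_sub_one_lt q 6 hq2)) (by norm_num)

theorem good_f4 (N : ℕ) (hid : N = q ^ 24 * (q ^ 2 - 1) * (q ^ 6 - 1) * (q ^ 8 - 1) * (q ^ 12 - 1)) :
    Good p N := by
  have hq2 := two_le_of_eq_pow hp ha hq
  have hid' : 1 * N = q ^ 24 * ((q ^ 2 - 1) * (q ^ 6 - 1) * (q ^ 8 - 1) * (q ^ 12 - 1)) := by
    rw [one_mul, hid]; ring
  have n0 := fun a (h : 1 ≤ a) => pow_sub_one_ne_zero q a hq2 h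
  have lt := fun a => pow_sub_one_lt q a hq2
  exact good_of_identity hp ha hq one_ne_zero
    (Nat.mul_ne_zero (Nat.mul_ne_zero (Nat.mul_ne_zero (n0 2 (by norm_num)) (n0 6 (by norm_num)))
      (n0 8 (by norm_num))) (n0 12 (by norm_num)))
    hid' (Nat.coprime_one_right _)
    (mul_lt_pow_add (mul_lt_pow_add (mul_lt_pow_add (lt 2) (lt 6)) (lt 8)) (lt 12)) (by norm_num)

theorem good_e6 (N : ℕ) (hid : Nat.gcd 3 (q - 1) * N =
    q ^ 36 * (q ^ 2 - 1) * (q ^ 5 - 1) * (q ^ 6 - 1) * (q ^ 8 - 1) * (q ^ 9 - 1) * (q ^ 12 - 1)) : Good p N := by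
  have hq2 := two_le_of_eq_pow hp ha hq
  have hid' : Nat.gcd 3 (q - 1) * N =
      q ^ 36 * ((q ^ 2 - 1) * (q ^ 5 - 1) * (q ^ 6 - 1) * (q ^ 8 - 1) * (q ^ 9 - 1) * (q ^ 12 - 1)) := by
    rw [hid]; ring
  have n0 := fun a (h : 1 ≤ a) => pow_sub_one_ne_zero q a hq2 h
  have lt := fun a => pow_sub_one_lt q a hq2
  exact good_of_identity hp ha hq (Nat.gcd_pos_of_pos_left _ (by norm_num)).ne'
    (Nat.mul_ne_zero (Nat.mul_ne_zero (Nat.mul_ne_zero (Nat.mul_ne_zero (Nat.mul_ne_zero (n0 2 (by norm_num))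
      (n0 5 (by norm_num))) (n0 6 (by norm_num))) (n0 8 (by norm_num))) (n0 9 (by norm_num))) (n0 12 (by norm_num)))
    hid' (coprime_gcd_sub_one hp ha hq 3)
    (mul_lt_pow_add (mul_lt_pow_add (mul_lt_pow_add (mul_lt_pow_add (mul_lt_pow_add (lt 2) (lt 5)) (lt 6)) (lt 8))
      (lt 9)) (lt 12)) (by norm_num)

theorem good_e7 (N : ℕ) (hid : Nat.gcd 2 (q - 1) * N =
    q ^ 63 * (q ^ 2 - 1) * (q ^ 6 - 1) * (q ^ 8 - 1) * (q ^ 10 - 1) * (q ^ 12 - 1) * (q ^ 14 - 1) * (q ^ 18 - 1)) :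
    Good p N := by
  have hq2 := two_le_of_eq_pow hp ha hq
  have hid' : Nat.gcd 2 (q - 1) * N =
      q ^ 63 * ((q ^ 2 - 1) * (q ^ 6 - 1) * (q ^ 8 - 1) * (q ^ 10 - 1) * (q ^ 12 - 1) * (q ^ 14 - 1) *
        (q ^ 18 - 1)) := by
    rw [hid]; ring
  have n0 := fun a (h : 1 ≤ a) => pow_sub_one_ne_zero q a hq2 h
  have lt := fun a => pow_sub_one_lt q a hq2
  exact good_of_identity hp ha hq (Nat.gcd_pos_of_pos_left _ (by norm_num)).ne'
    (Nat.mul_ne_zero (Nat.mul_ne_zero (Nat.mul_ne_zero (Nat.mul_ne_zero (Nat.mul_ne_zero (Nat.mul_ne_zero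
      (n0 2 (by norm_num)) (n0 6 (by norm_num))) (n0 8 (by norm_num))) (n0 10 (by norm_num))) (n0 12 (by norm_num)))
      (n0 14 (by norm_num))) (n0 18 (by norm_num)))
    hid' (coprime_gcd_sub_one hp ha hq 2)
    (mul_lt_pow_add (mul_lt_pow_add (mul_lt_pow_add (mul_lt_pow_add (mul_lt_pow_add (mul_lt_pow_add (lt 2) (lt 6))
      (lt 8)) (lt 10)) (lt 12)) (lt 14)) (lt 18)) (by norm_num)

theorem good_e8 (N : ℕ) (hid : N =
    q ^ 120 * (q ^ 2 - 1) * (q ^ 8 - 1) * (q ^ 12 - 1) * (q ^ 14 - 1) * (q ^ 18 - 1) * (q ^ 20 - 1) * (q ^ 24 - 1) *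
      (q ^ 30 - 1)) : Good p N := by
  have hq2 := two_le_of_eq_pow hp ha hq
  have hid' : 1 * N =
      q ^ 120 * ((q ^ 2 - 1) * (q ^ 8 - 1) * (q ^ 12 - 1) * (q ^ 14 - 1) * (q ^ 18 - 1) * (q ^ 20 - 1) *
        (q ^ 24 - 1) * (q ^ 30 - 1)) := by
    rw [one_mul, hid]; ring
  have n0 := fun a (h : 1 ≤ a) => pow_sub_one_ne_zero q a hq2 h
  have lt := fun a => pow_sub_one_lt q a hq2
  exact good_of_identity hp ha hq one_ne_zero
    (Nat.mul_ne_zero (Nat.mul_ne_zero (Nat.mul_ne_zero (Nat.mul_ne_zero (Nat.mul_ne_zero (Nat.mul_ne_zero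
      (Nat.mul_ne_zero (n0 2 (by norm_num)) (n0 8 (by norm_num))) (n0 12 (by norm_num))) (n0 14 (by norm_num)))
      (n0 18 (by norm_num))) (n0 20 (by norm_num))) (n0 24 (by norm_num))) (n0 30 (by norm_num)))
    hid' (Nat.coprime_one_right _)
    (mul_lt_pow_add (mul_lt_pow_add (mul_lt_pow_add (mul_lt_pow_add (mul_lt_pow_add (mul_lt_pow_add
      (mul_lt_pow_add (lt 2) (lt 8)) (lt 12)) (lt 14)) (lt 18)) (lt 20)) (lt 24)) (lt 30)) (by norm_num)

theorem good_2e6 (N : ℕ) (hid : Nat.gcd 3 (q + 1) * N =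
    q ^ 36 * (q ^ 2 - 1) * (q ^ 5 + 1) * (q ^ 6 - 1) * (q ^ 8 - 1) * (q ^ 9 + 1) * (q ^ 12 - 1)) : Good p N := by
  have hq2 := two_le_of_eq_pow hp ha hq
  have hid' : Nat.gcd 3 (q + 1) * N =
      q ^ 36 * ((q ^ 2 - 1) * (q ^ 5 + 1) * (q ^ 6 - 1) * (q ^ 8 - 1) * (q ^ 9 + 1) * (q ^ 12 - 1)) := by
    rw [hid]; ring
  have n0 := fun a (h : 1 ≤ a) => pow_sub_one_ne_zero q a hq2 h
  have lt := fun a => pow_sub_one_lt q a hq2
  have ltp := fun a (h : 1 ≤ a) => pow_add_one_lt q a hq2 h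
  exact good_of_identity hp ha hq (Nat.gcd_pos_of_pos_left _ (by norm_num)).ne'
    (Nat.mul_ne_zero (Nat.mul_ne_zero (Nat.mul_ne_zero (Nat.mul_ne_zero (Nat.mul_ne_zero (n0 2 (by norm_num))
      (Nat.succ_ne_zero _)) (n0 6 (by norm_num))) (n0 8 (by norm_num))) (Nat.succ_ne_zero _)) (n0 12 (by norm_num)))
    hid' (coprime_gcd_add_one hp ha hq 3)
    (mul_lt_pow_add (mul_lt_pow_add (mul_lt_pow_add (mul_lt_pow_add (mul_lt_pow_add (lt 2) (ltp 5 (by norm_num)))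
      (lt 6)) (lt 8)) (ltp 9 (by norm_num))) (lt 12)) (by norm_num)

theorem good_3d4 (N : ℕ) (hid : N = q ^ 12 * (q ^ 2 - 1) * (q ^ 6 - 1) * (q ^ 8 + q ^ 4 + 1)) : Good p N := by
  have hq2 := two_le_of_eq_pow hp ha hq
  have hid' : 1 * N = q ^ 12 * ((q ^ 2 - 1) * (q ^ 6 - 1) * (q ^ 8 + q ^ 4 + 1)) := by rw [one_mul, hid]; ring
  have n0 := fun a (h : 1 ≤ a) => pow_sub_one_ne_zero q a hq2 h
  have lt := fun a => pow_sub_one_lt q a hq2
  have h9 : q ^ 8 + q ^ 4 + 1 < q ^ 9 := by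
    have hx : 2 ^ 4 ≤ q ^ 4 := Nat.pow_le_pow_left hq2 4
    have e8 : q ^ 8 = q ^ 4 * q ^ 4 := by ring
    have e9 : q ^ 9 = q ^ 4 * q ^ 4 * q := by ring
    rw [e8, e9]
    nlinarith
  exact good_of_identity hp ha hq one_ne_zero
    (Nat.mul_ne_zero (Nat.mul_ne_zero (n0 2 (by norm_num)) (n0 6 (by norm_num))) (Nat.succ_ne_zero _))
    hid' (Nat.coprime_one_right _)
    (mul_lt_pow_add (mul_lt_pow_add (lt 2) (lt 6)) h9) (by norm_num)

theorem good_2f4 (N : ℕ) (hid : N = q ^ 12 * (q - 1) * (q ^ 3 + 1) * (q ^ 4 - 1) * (q ^ 6 + 1)) : Good p N := by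
  have hq2 := two_le_of_eq_pow hp ha hq
  have hid' : 1 * N = q ^ 12 * ((q - 1) * (q ^ 3 + 1) * (q ^ 4 - 1) * (q ^ 6 + 1)) := by rw [one_mul, hid]; ring
  have n0 := fun a (h : 1 ≤ a) => pow_sub_one_ne_zero q a hq2 h
  have lt := fun a => pow_sub_one_lt q a hq2
  have ltp := fun a (h : 1 ≤ a) => pow_add_one_lt q a hq2 h
  exact good_of_identity hp ha hq one_ne_zero
    (Nat.mul_ne_zero (Nat.mul_ne_zero (Nat.mul_ne_zero (sub_one_ne_zero hp ha hq) (Nat.succ_ne_zero _))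
      (n0 4 (by norm_num))) (Nat.succ_ne_zero _))
    hid' (Nat.coprime_one_right _)
    (mul_lt_pow_add (mul_lt_pow_add (mul_lt_pow_add (sub_one_lt_pow_one hp ha hq) (ltp 3 (by norm_num))) (lt 4))
      (ltp 6 (by norm_num))) (by norm_num)

theorem good_2g2 (N : ℕ) (hid : N = q ^ 3 * (q - 1) * (q ^ 3 + 1)) : Good p N := by
  have hq2 := two_le_of_eq_pow hp ha hq
  have hid' : 1 * N = q ^ 3 * ((q - 1) * (q ^ 3 + 1)) := by rw [one_mul, hid]; ring
  have hM : (q - 1) * (q ^ 3 + 1) < q ^ (1 + 3) := by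
    rw [pow_add, pow_one]
    exact sub_one_mul_add_one_lt q (q ^ 3) (by omega)
      (by calc q = q ^ 1 := (pow_one q).symm
            _ < q ^ 3 := Nat.pow_lt_pow_right (by omega) (by norm_num))
  exact good_of_identity hp ha hq one_ne_zero
    (Nat.mul_ne_zero (sub_one_ne_zero hp ha hq) (Nat.succ_ne_zero _))
    hid' (Nat.coprime_one_right _) hM (by norm_num)

theorem good_sz (N : ℕ) (hid : N = q ^ 2 * (q - 1) * (q ^ 2 + 1)) : Good p N := by
  have hq2 := two_le_of_eq_pow hp ha hq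
  have hid' : 1 * N = q ^ 2 * ((q - 1) * (q ^ 2 + 1)) := by rw [one_mul, hid]; ring
  have hM : (q - 1) * (q ^ 2 + 1) < q ^ (1 + 2) := by
    rw [pow_add, pow_one]
    exact sub_one_mul_add_one_lt q (q ^ 2) (by omega)
      (by calc q = q ^ 1 := (pow_one q).symm
            _ < q ^ 2 := Nat.pow_lt_pow_right (by omega) (by norm_num))
  exact good_of_identity hp ha hq one_ne_zero
    (Nat.mul_ne_zero (sub_one_ne_zero hp ha hq) (Nat.succ_ne_zero _))
    hid' (Nat.coprime_one_right _) hM (by norm_num)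

theorem not_dvd_of_coprime {x : ℕ} (h : Nat.Coprime q x) : ¬ p ∣ x := by
  intro hx
  have hpq : p ∣ q := by rw [hq]; exact dvd_pow_self p (by omega)
  have := Nat.dvd_gcd hpq hx
  rw [h] at this
  exact hp.one_lt.ne' (Nat.dvd_one.mp this)

/-- the linear groups of dimension two: the exact power of `p` and the first inequality -/
theorem psl2_val (N : ℕ)
    (hid : Nat.gcd 2 (q - 1) * ((q - 1) * N) = ∏ i : Fin 2, (q ^ 2 - q ^ (i : ℕ))) :
    N.factorization p = a ∧ N < q ^ 3 := by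
  have hq2 := two_le_of_eq_pow hp ha hq
  rw [Fin.prod_univ_two] at hid
  simp only [Fin.val_zero, pow_zero, Fin.val_one, pow_one] at hid
  have e1 : q ^ 2 - q = q * (q - 1) := by rw [Nat.mul_sub, mul_one, sq]
  rw [e1] at hid
  have hq1 : 0 < q - 1 := by omega
  have hid' : Nat.gcd 2 (q - 1) * N = q * (q ^ 2 - 1) := by
    apply Nat.eq_of_mul_eq_mul_right hq1
    have e : Nat.gcd 2 (q - 1) * N * (q - 1) = Nat.gcd 2 (q - 1) * ((q - 1) * N) := by ring
    rw [e, hid]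
    ring
  have hd0 : Nat.gcd 2 (q - 1) ≠ 0 := (Nat.gcd_pos_of_pos_left _ (by norm_num)).ne'
  have hw0 : q ^ 2 - 1 ≠ 0 := pow_sub_one_ne_zero q 2 hq2 (by norm_num)
  have hN0 : N ≠ 0 := by
    rintro rfl
    rw [mul_zero] at hid'
    exact (Nat.mul_ne_zero (by omega) hw0) hid'.symm
  refine ⟨?_, ?_⟩
  · have h1 : (Nat.gcd 2 (q - 1) * N).factorization p = (q * (q ^ 2 - 1)).factorization p := by rw [hid']
    rw [Nat.factorization_mul hd0 hN0, Nat.factorization_mul (by omega) hw0, Finsupp.add_apply,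
      Finsupp.add_apply,
      Nat.factorization_eq_zero_of_not_dvd (not_dvd_of_coprime hp ha hq (coprime_gcd_sub_one hp ha hq 2)),
      Nat.factorization_eq_zero_of_not_dvd
        (not_dvd_of_coprime hp ha hq (coprime_pow_sub_one q 2 (by omega) (by norm_num))), zero_add, add_zero] at h1
    rw [h1, hq, hp.factorization_pow, Finsupp.single_eq_same]
  · have h1 : N ≤ Nat.gcd 2 (q - 1) * N := Nat.le_mul_of_pos_left N (Nat.pos_of_ne_zero hd0)
    have h2 : q * (q ^ 2 - 1) < q * q ^ 2 := Nat.mul_lt_mul_of_pos_left (pow_sub_one_lt q 2 hq2) (by omega)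
    have e3 : q ^ 3 = q * q ^ 2 := by ring
    rw [e3]
    omega

end

end Cfsg.Agent.Lib.Helper3.LieOrd
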