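import Mathlib
import Cfsg.Prelude.Def_LieTypeChar
import Cfsg.Agent.Lib.Helper3.LieOrd3
import Cfsg.Agent.S0243
import Cfsg.Agent.S0245
import Cfsg.Agent.S0246
import Cfsg.Agent.S0280
import Cfsg.Agent.S0292
import Cfsg.Agent.S0293
import Cfsg.Agent.S0294
import Cfsg.Agent.S1059
import Cfsg.Agent.S1062
import Cfsg.Agent.S1063
import Cfsg.Agent.S1064
import Cfsg.Agent.S1065
import Cfsg.Agent.S1066
import Cfsg.Agent.S1067
import Cfsg.Agent.S1068
import Cfsg.Agent.S1069
import Cfsg.Agent.S1163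
set_option autoImplicit false
set_option linter.unusedSectionVars false

/-!
The order of a group of Lie type in characteristic `p` compared with the order of its Sylow `p`-subgroups.
-/

namespace Cfsg.Agent.Lib.Helper3.LieOrd

open Cfsg

theorem exists_card_eq_pow (F : Type*) [Field F] [Fintype F] (p : ℕ) [CharP F p] :
    ∃ a, 1 ≤ a ∧ Fintype.card F = p ^ a := by
  obtain ⟨n, _, h⟩ := FiniteField.card F p
  exact ⟨n, n.pos, h⟩

theorem exists_eq_pow_of_pow_eq {p : ℕ} (hp : p.Prime) {q k a : ℕ} (hk : 1 ≤ k) (ha : 1 ≤ a) (h : q ^ k = p ^ a) :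
    ∃ b, 1 ≤ b ∧ q = p ^ b := by
  have hdvd : q ∣ p ^ a := by rw [← h]; exact dvd_pow_self q (by omega)
  obtain ⟨b, -, hb⟩ := (Nat.dvd_prime_pow hp).mp hdvd
  refine ⟨b, ?_, hb⟩
  by_contra hb0
  have : b = 0 := by omega
  rw [this, pow_zero] at hb
  rw [hb, one_pow] at h
  have : 2 ≤ p ^ a := by
    calc 2 ≤ p := hp.two_le
      _ = p ^ 1 := (pow_one p).symm
      _ ≤ p ^ a := Nat.pow_le_pow_right hp.pos ha
  omega

/-- **The order of a group of Lie type in characteristic `p` is less than the cube of the order of its Sylow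
`p`-subgroups; and its cube is less than the eighth power unless the group is a linear group of dimension two.** -/
theorem lie_type_order_bound {G : Type*} [Group G] (p : ℕ) (hp : p.Prime) (hG : IsLieTypeChar p G) :
    Nat.card G < p ^ (3 * (Nat.card G).factorization p) ∧
      ((¬ ∃ (F : Type) (_ : Field F) (_ : Fintype F), Fintype.card F = p ^ (Nat.card G).factorization p ∧
          Nonempty (G ≃* Matrix.ProjectiveSpecialLinearGroup (Fin 2) F)) →
        Nat.card G ^ 3 < p ^ (8 * (Nat.card G).factorization p)) := by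
  have key : Good p (Nat.card G) → Nat.card G < p ^ (3 * (Nat.card G).factorization p) ∧
      ((¬ ∃ (F : Type) (_ : Field F) (_ : Fintype F), Fintype.card F = p ^ (Nat.card G).factorization p ∧
          Nonempty (G ≃* Matrix.ProjectiveSpecialLinearGroup (Fin 2) F)) →
        Nat.card G ^ 3 < p ^ (8 * (Nat.card G).factorization p)) := fun h => ⟨h.1, fun _ => h.2⟩
  rcases hG with h | h | h | h | h | h | h | h | h | h | h
  · -- linear groups
    obtain ⟨F, iF, iFin, iCh, n, hn2, hn4, ⟨e⟩⟩ := h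
    obtain ⟨a, ha, hF⟩ := exists_card_eq_pow F p
    have hcard : Nat.card G = Nat.card (Matrix.ProjectiveSpecialLinearGroup (Fin n) F) := Nat.card_congr e.toEquiv
    have hid := Cfsg.Agent.S0243.result (F := F) (q := Fintype.card F) rfl n hn2
    by_cases h3 : 3 ≤ n
    · apply key
      rw [hcard]
      exact good_psl hp ha hF n _ h3 hid
    · have hn : n = 2 := by omega
      subst hn
      obtain ⟨hval, hlt⟩ := psl2_val hp ha hF _ hid
      rw [hcard, hval]
      refine ⟨?_, fun hne => absurd ⟨F, iF, iFin, hF, ⟨e⟩⟩ hne⟩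
      rw [mul_comm, pow_mul, ← hF]
      exact hlt
  · -- symplectic groups
    obtain ⟨F, iF, iFin, iCh, m, hm2, -, ⟨e⟩⟩ := h
    obtain ⟨a, ha, hF⟩ := exists_card_eq_pow F p
    have hcard : Nat.card G = Nat.card (PSp m F) := Nat.card_congr e.toEquiv
    have h1 := Cfsg.Agent.S0245.result (F := F) (q := Fintype.card F) rfl m
    have h2 := Cfsg.Agent.S0246.result (F := F) (q := Fintype.card F) rfl m (by omega)
    have h3 := Subgroup.card_eq_card_quotient_mul_card_subgroup
      (Subgroup.center (Matrix.symplecticGroup (Fin m) F))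
    have hid : Nat.gcd 2 (Fintype.card F - 1) * Nat.card (PSp m F) = Fintype.card F ^ (m ^ 2) *
        ∏ i ∈ Finset.range m, (Fintype.card F ^ (2 * (i + 1)) - 1) := by
      rw [← h2, mul_comm, ← h3, h1]
    apply key
    rw [hcard]
    exact good_sp hp ha hF m _ _ hm2 (Nat.gcd_pos_of_pos_left _ (by norm_num)).ne'
      (coprime_gcd_sub_one hp ha hF 2) hid
  · -- unitary groups
    obtain ⟨F, iF, iFin, iCh, n, q, hFq, hn3, -, ⟨e⟩⟩ := h
    obtain ⟨a, ha, hF⟩ := exists_card_eq_pow F p
    obtain ⟨b, hb, hq⟩ := exists_eq_pow_of_pow_eq hp (k := 2) (by norm_num) ha (hFq.symm.trans hF)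
    have hcard : Nat.card G = Nat.card (PSU n F q) := Nat.card_congr e.toEquiv
    have hid := Cfsg.Agent.S0280.result (F := F) hFq n (by omega)
    apply key
    rw [hcard]
    exact good_psu hp hb hq n _ hn3 hid
  · -- orthogonal groups of odd dimension
    obtain ⟨F, iF, iFin, iCh, m, hm3, hodd, ⟨e⟩⟩ := h
    obtain ⟨a, ha, hF⟩ := exists_card_eq_pow F p
    have hcard : Nat.card G = Nat.card (POmega F (quadFormOdd m F)) := Nat.card_congr e.toEquiv
    have hid := Cfsg.Agent.S0292.result (F := F) (q := Fintype.card F) rfl hodd m hm3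
    apply key
    rw [hcard]
    exact good_sp hp ha hF m _ 2 (by omega) two_ne_zero (Nat.coprime_two_right.mpr hodd) hid
  · -- orthogonal groups of plus type
    obtain ⟨F, iF, iFin, iCh, m, hm4, ⟨e⟩⟩ := h
    obtain ⟨a, ha, hF⟩ := exists_card_eq_pow F p
    have hcard : Nat.card G = Nat.card (POmega F (quadFormPlus m F)) := Nat.card_congr e.toEquiv
    have hid := Cfsg.Agent.S0293.result (F := F) (q := Fintype.card F) rfl m hm4
    apply key
    rw [hcard]
    exact good_oplus hp ha hF m _ hm4 hid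
  · -- orthogonal groups of minus type
    obtain ⟨F, iF, iFin, iCh, m, a', b', hm4, hab, ⟨e⟩⟩ := h
    obtain ⟨a, ha, hF⟩ := exists_card_eq_pow F p
    have hcard : Nat.card G = Nat.card (POmega F (quadFormMinus (m - 1) F a' b')) := Nat.card_congr e.toEquiv
    have hid := Cfsg.Agent.S0294.result (F := F) (q := Fintype.card F) rfl m hm4 a' b' hab
    apply key
    rw [hcard]
    exact good_ominus hp ha hF m _ hm4 hid
  · -- exceptional Chevalley groups
    obtain ⟨F, iF, iFin, iCh, h⟩ := h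
    obtain ⟨a, ha, hF⟩ := exists_card_eq_pow F p
    apply key
    rcases h with ⟨-, ⟨e⟩⟩ | ⟨⟨e⟩⟩ | ⟨⟨e⟩⟩ | ⟨⟨e⟩⟩ | ⟨⟨e⟩⟩
    · rw [Nat.card_congr e.toEquiv]
      exact good_g2 hp ha hF _ (Cfsg.Agent.S1059.result (F := F) (q := Fintype.card F) rfl)
    · rw [Nat.card_congr e.toEquiv]
      exact good_f4 hp ha hF _ (Cfsg.Agent.S1062.result (F := F) (q := Fintype.card F) rfl)
    · rw [Nat.card_congr e.toEquiv]
      exact good_e6 hp ha hF _ (Cfsg.Agent.S1063.result (F := F) (q := Fintype.card F) rfl)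
    · rw [Nat.card_congr e.toEquiv]
      exact good_e7 hp ha hF _ (Cfsg.Agent.S1064.result (F := F) (q := Fintype.card F) rfl)
    · rw [Nat.card_congr e.toEquiv]
      exact good_e8 hp ha hF _ (Cfsg.Agent.S1065.result (F := F) (q := Fintype.card F) rfl)
  · -- twisted groups of types E6 and D4
    obtain ⟨K, iK, iFin, iCh, q, hq, h⟩ := h
    obtain ⟨a, ha, hK⟩ := exists_card_eq_pow K p
    apply key
    rcases h with ⟨hKq, ⟨e⟩⟩ | ⟨hKq, ⟨e⟩⟩
    · obtain ⟨b, hb, hqb⟩ := exists_eq_pow_of_pow_eq hp (k := 2) (by norm_num) ha (hKq.symm.trans hK)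
      rw [Nat.card_congr e.toEquiv]
      exact good_2e6 hp hb hqb _ (Cfsg.Agent.S1066.result (K := K) hq hKq)
    · obtain ⟨b, hb, hqb⟩ := exists_eq_pow_of_pow_eq hp (k := 3) (by norm_num) ha (hKq.symm.trans hK)
      rw [Nat.card_congr e.toEquiv]
      exact good_3d4 hp hb hqb _ (Cfsg.Agent.S1067.result (K := K) hq hKq)
  · -- Suzuki groups
    obtain ⟨rfl, F, iF, iFin, m, hm, hF, ⟨e⟩⟩ := h
    apply key
    rw [Nat.card_congr e.toEquiv]
    exact good_sz (a := 2 * m + 1) (q := 2 ^ (2 * m + 1)) hp (by omega) rfl _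
      (Cfsg.Agent.S1163.result (F := F) hm hF).1
  · -- Ree groups of type F4
    obtain ⟨rfl, K, iK, iFin, m, hm, hK, ⟨e⟩⟩ := h
    apply key
    rw [Nat.card_congr e.toEquiv]
    exact good_2f4 (a := 2 * m + 1) (q := 2 ^ (2 * m + 1)) hp (by omega) rfl _
      (Cfsg.Agent.S1068.result (K := K) hK)
  · -- Ree groups of type G2
    obtain ⟨rfl, K, iK, iFin, m, hm, hK, ⟨e⟩⟩ := h
    apply key
    rw [Nat.card_congr e.toEquiv]
    exact good_2g2 (a := 2 * m + 1) (q := 3 ^ (2 * m + 1)) hp (by omega) rfl _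
      (Cfsg.Agent.S1069.result (K := K) hK)

end Cfsg.Agent.Lib.Helper3.LieOrd
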