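import Mathlib
import Cfsg.Prelude.Def_Local
import Cfsg.Agent.Lib.Helper3.Components9

set_option autoImplicit false

/-!
S1305 swarm, package PC: the diagonal case.  `K` a component of `C_X(a)`, `a` an involution,
`D` a component of `X` with `a D a⁻¹ ≠ D` and `K ≤ D ⊔ a D a⁻¹`.  Then `K = {d * (a d a⁻¹) : d ∈ D}`.
-/

namespace Cfsg.Agent.Lib.MaxComp

open Cfsg Cfsg.Agent.Lib.Helper3
open scoped commutatorElement

variable {X : Type*} [Group X]

theorem mc_sq_eq_one {a : X} (ha : orderOf a = 2) : a * a = 1 := by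
  have := pow_orderOf_eq_one a
  rw [ha, pow_two] at this
  exact this

theorem mc_inv_eq {a : X} (ha : orderOf a = 2) : a⁻¹ = a :=
  inv_eq_of_mul_eq_one_left (mc_sq_eq_one ha)

/-- the diagonal map `d ↦ d * (a d a⁻¹)`, a homomorphism when `D` commutes with `a D a⁻¹` -/
def mcDiag (a : X) (D : Subgroup X)
    (hc : ∀ d ∈ D, ∀ e ∈ D, d * (a * e * a⁻¹) = (a * e * a⁻¹) * d) : D →* X :=
  MonoidHom.mk' (fun d => (d : X) * (a * (d : X) * a⁻¹)) (by
    intro d e
    simp only [Subgroup.coe_mul]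
    have h := hc e e.2 d d.2
    calc (d : X) * e * (a * ((d : X) * e) * a⁻¹)
        = d * (e * (a * d * a⁻¹)) * (a * e * a⁻¹) := by group
      _ = d * ((a * d * a⁻¹) * e) * (a * e * a⁻¹) := by rw [h]
      _ = d * (a * d * a⁻¹) * (e * (a * e * a⁻¹)) := by group)

@[simp] theorem mcDiag_apply (a : X) (D : Subgroup X)
    (hc : ∀ d ∈ D, ∀ e ∈ D, d * (a * e * a⁻¹) = (a * e * a⁻¹) * d) (d : D) :
    mcDiag a D hc d = (d : X) * (a * (d : X) * a⁻¹) := rfl

/-- `D` commutes elementwise with a different conjugate component -/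
theorem mc_commute_of_ne {a : X} {D : Subgroup X} (hD : IsComponent D)
    (hDa : D.map (MulAut.conj a).toMonoidHom ≠ D) :
    ∀ d ∈ D, ∀ e ∈ D, d * (a * e * a⁻¹) = (a * e * a⁻¹) * d := by
  intro d hd e he
  have h1 := IsComponent.commutator_eq_bot_of_ne (IsComponent.map_conj hD a) hD hDa
  rw [Subgroup.commutator_eq_bot_iff_le_centralizer] at h1
  have h2 : a * e * a⁻¹ ∈ D.map (MulAut.conj a).toMonoidHom := ⟨e, he, by simp⟩
  exact Subgroup.mem_centralizer_iff.mp (h1 h2) d hd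

theorem mc_mem_map_conj {a : X} {D : Subgroup X} {x : X} :
    x ∈ D.map (MulAut.conj a).toMonoidHom ↔ ∃ e ∈ D, x = a * e * a⁻¹ := by
  constructor
  · rintro ⟨e, he, rfl⟩
    exact ⟨e, he, by simp⟩
  · rintro ⟨e, he, rfl⟩
    exact ⟨e, he, by simp⟩

/-- values of the diagonal map are fixed by `a` -/
theorem mcDiag_mem_centralizer {a : X} (ha : orderOf a = 2) {D : Subgroup X}
    (hc : ∀ d ∈ D, ∀ e ∈ D, d * (a * e * a⁻¹) = (a * e * a⁻¹) * d) (d : D) :
    mcDiag a D hc d ∈ Subgroup.centralizer ({a} : Set X) := by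
  rw [Subgroup.mem_centralizer_iff]
  intro h hh
  rw [Set.mem_singleton_iff] at hh
  subst hh
  rw [mcDiag_apply]
  have hinv := mc_inv_eq ha
  have hsq := mc_sq_eq_one ha
  have h1 := hc d d.2 d d.2
  -- h * (d * (h d h⁻¹)) = (h d h⁻¹) * (h h d h⁻¹ h⁻¹) * h = (h d h⁻¹) * d * h
  have e1 : h * ((d : X) * (h * (d : X) * h⁻¹)) = (h * (d : X) * h⁻¹) * ((h * h) * (d : X) * (h * h)⁻¹) * h := by
    group
  rw [e1, hsq]
  simp only [one_mul, inv_one, mul_one]
  rw [← h1]

/-- quasisimplicity of `K` itself from that of `K.subgroupOf C` -/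
theorem mc_isQuasisimple_of_subgroupOf {K C : Subgroup X} (hKC : K ≤ C)
    (h : IsQuasisimple ↥(K.subgroupOf C)) : IsQuasisimple ↥K :=
  isQuasisimple_of_mulEquiv (Subgroup.subgroupOfEquivOfLe hKC) h

section main

/-- **PC**: the diagonal case: `K = {d * (a d a⁻¹)}`. -/
theorem eq_range_diag (a : X) (ha : orderOf a = 2) (K D : Subgroup X) (hD : IsComponent D)
    (hDa : D.map (MulAut.conj a).toMonoidHom ≠ D)
    (hKa : K ≤ Subgroup.centralizer ({a} : Set X))
    (hK : IsComponent (K.subgroupOf (Subgroup.centralizer ({a} : Set X))))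
    (hKD : K ≤ D ⊔ D.map (MulAut.conj a).toMonoidHom) :
    (K : Set X) = Set.range (fun d : D => (d : X) * (a * (d : X) * a⁻¹)) := by
  have hinv := mc_inv_eq ha
  have hsq := mc_sq_eq_one ha
  have hc := mc_commute_of_ne hD hDa
  set Da := D.map (MulAut.conj a).toMonoidHom with hDadef
  set δ := mcDiag a D hc with hδ
  have hKq : IsQuasisimple ↥K := mc_isQuasisimple_of_subgroupOf hKa hK.2
  have hKperf : ⁅K, K⁆ = K := IsQuasisimple.commutator_eq_self hKq
  have hcomm : ⁅D, Da⁆ = ⊥ := by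
    rw [Subgroup.commutator_comm]
    exact IsComponent.commutator_eq_bot_of_ne (IsComponent.map_conj hD a) hD hDa
  -- the central part
  set Z₀ := D ⊓ Da with hZ₀
  -- every element of K is δ d * w with w ∈ Z₀
  have hdecomp : ∀ x ∈ K, ∃ d : D, ∃ w ∈ Z₀, x = δ d * w := by
    intro x hx
    obtain ⟨d, hd, e', he', rfl⟩ := exists_mul_of_mem_sup_of_commutator_eq_bot hcomm (hKD hx)
    obtain ⟨e, he, rfl⟩ := mc_mem_map_conj.mp he'
    have hxa := Subgroup.mem_centralizer_iff.mp (hKa hx) a (Set.mem_singleton a)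
    -- a * (d * (a e a⁻¹)) = (d * (a e a⁻¹)) * a
    have h1 : (a * d * a⁻¹) * e = d * (a * e * a⁻¹) := by
      have : (a * d * a⁻¹) * ((a * a) * e * (a * a)⁻¹) = d * (a * e * a⁻¹) := by
        calc (a * d * a⁻¹) * ((a * a) * e * (a * a)⁻¹)
            = (a * (d * (a * e * a⁻¹))) * a⁻¹ := by group
          _ = ((d * (a * e * a⁻¹)) * a) * a⁻¹ := by rw [hxa]
          _ = d * (a * e * a⁻¹) := by group
      rw [hsq] at this
      simpa using this
    have h2 : e * (a * d * a⁻¹) = (a * d * a⁻¹) * e := hc e he d hd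
    -- z := d⁻¹ e ∈ D ⊓ Da
    have hzD : d⁻¹ * e ∈ D := D.mul_mem (D.inv_mem hd) he
    have hz_eq : d⁻¹ * e = a * (e * d⁻¹) * a⁻¹ := by
      have : e * (a * d * a⁻¹) = d * (a * e * a⁻¹) := h2.trans h1
      calc d⁻¹ * e = d⁻¹ * (e * (a * d * a⁻¹)) * (a * d * a⁻¹)⁻¹ := by group
        _ = d⁻¹ * (d * (a * e * a⁻¹)) * (a * d * a⁻¹)⁻¹ := by rw [this]
        _ = a * (e * d⁻¹) * a⁻¹ := by group
    have hzDa : d⁻¹ * e ∈ Da := by
      rw [hz_eq]
      exact mc_mem_map_conj.mpr ⟨e * d⁻¹, D.mul_mem he (D.inv_mem hd), rfl⟩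
    -- w := a z a⁻¹ ∈ D ⊓ Da
    refine ⟨⟨d, hd⟩, a * (d⁻¹ * e) * a⁻¹, ⟨?_, ?_⟩, ?_⟩
    · -- in D: a z a⁻¹ = a (a (e d⁻¹) a⁻¹) a⁻¹ = e d⁻¹
      have : a * (d⁻¹ * e) * a⁻¹ = (a * a) * (e * d⁻¹) * (a * a)⁻¹ := by
        rw [hz_eq]; group
      rw [this, hsq]
      simpa using D.mul_mem he (D.inv_mem hd)
    · exact mc_mem_map_conj.mpr ⟨d⁻¹ * e, hzD, rfl⟩
    · rw [hδ, mcDiag_apply]
      simp only
      group
  -- Z₀ is central in D ⊔ Da
  have hZcent : ∀ w ∈ Z₀, ∀ y ∈ D ⊔ Da, w * y = y * w := by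
    intro w hw y hy
    have hle : D ⊔ Da ≤ Subgroup.centralizer ({w} : Set X) := by
      refine sup_le ?_ ?_
      · intro y hy
        rw [Subgroup.mem_centralizer_iff]
        intro h hh
        rw [Set.mem_singleton_iff] at hh
        subst hh
        have := Subgroup.commutator_eq_bot_iff_le_centralizer.mp
          (by rw [Subgroup.commutator_comm]; exact hcomm : ⁅Da, D⁆ = ⊥)
        exact (Subgroup.mem_centralizer_iff.mp (this hw.2) y hy).symm
      · intro y hy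
        rw [Subgroup.mem_centralizer_iff]
        intro h hh
        rw [Set.mem_singleton_iff] at hh
        subst hh
        have := Subgroup.commutator_eq_bot_iff_le_centralizer.mp hcomm
        exact (Subgroup.mem_centralizer_iff.mp (this hw.1) y hy).symm
    exact Subgroup.mem_centralizer_iff.mp (hle hy) w (Set.mem_singleton w)
  have hδmem : ∀ d : D, δ d ∈ D ⊔ Da := by
    intro d
    rw [hδ, mcDiag_apply]
    exact Subgroup.mul_mem _ (Subgroup.mem_sup_left d.2)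
      (Subgroup.mem_sup_right (mc_mem_map_conj.mpr ⟨d, d.2, rfl⟩))
  have hZle : Z₀ ≤ D ⊔ Da := inf_le_left.trans le_sup_left
  -- K ≤ range δ
  have hKle : K ≤ δ.range := by
    rw [← hKperf, Subgroup.commutator_le]
    intro x hx y hy
    obtain ⟨d, w, hw, rfl⟩ := hdecomp x hx
    obtain ⟨d', w', hw', rfl⟩ := hdecomp y hy
    have e1 : ⁅δ d * w, δ d' * w'⁆ = ⁅δ d, δ d'⁆ := by
      have c1 := hZcent w hw (δ d') (hδmem d')
      have c2 := hZcent w hw w' (hZle hw')
      have c3 := hZcent w' hw' (δ d) (hδmem d)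
      have c4 := hZcent w hw (δ d) (hδmem d)
      simp only [commutatorElement_def, mul_inv_rev]
      -- δd w δd' w' w⁻¹ δd⁻¹ w'⁻¹ δd'⁻¹
      have c1' : w * δ d' = δ d' * w := c1
      calc δ d * w * (δ d' * w') * (w⁻¹ * (δ d)⁻¹) * (w'⁻¹ * (δ d')⁻¹)
          = δ d * (w * δ d') * w' * w⁻¹ * (δ d)⁻¹ * w'⁻¹ * (δ d')⁻¹ := by group
        _ = δ d * (δ d' * w) * w' * w⁻¹ * (δ d)⁻¹ * w'⁻¹ * (δ d')⁻¹ := by rw [c1']
        _ = δ d * δ d' * (w * w') * w⁻¹ * (δ d)⁻¹ * w'⁻¹ * (δ d')⁻¹ := by group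
        _ = δ d * δ d' * (w' * w) * w⁻¹ * (δ d)⁻¹ * w'⁻¹ * (δ d')⁻¹ := by rw [c2]
        _ = δ d * δ d' * (w' * (δ d)⁻¹) * w'⁻¹ * (δ d')⁻¹ := by group
        _ = δ d * δ d' * ((δ d)⁻¹ * w') * w'⁻¹ * (δ d')⁻¹ := by
            have : w' * (δ d)⁻¹ = (δ d)⁻¹ * w' := by
              have := c3
              calc w' * (δ d)⁻¹ = (δ d)⁻¹ * (δ d * w') * (δ d)⁻¹ := by group
                _ = (δ d)⁻¹ * (w' * δ d) * (δ d)⁻¹ := by rw [this]
                _ = (δ d)⁻¹ * w' := by group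
            rw [this]
        _ = δ d * δ d' * (δ d)⁻¹ * (δ d')⁻¹ := by group
    rw [e1, ← map_commutatorElement]
    exact ⟨_, rfl⟩
  -- range δ ≤ K
  have hδC : ∀ d : D, δ d ∈ Subgroup.centralizer ({a} : Set X) := fun d =>
    mcDiag_mem_centralizer ha hc d
  set C := Subgroup.centralizer ({a} : Set X) with hC
  let δC : D →* C := δ.codRestrict C hδC
  have hsub : ((K.subgroupOf C).comap δC).IsSubnormal := hK.1.comap δC
  have hcomap : (K.subgroupOf C).comap δC = K.comap δ := by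
    ext d
    simp only [Subgroup.mem_comap, Subgroup.mem_subgroupOf]
    rfl
  rw [hcomap] at hsub
  have hrle : δ.range ≤ K := by
    rcases IsQuasisimple.subnormal_eq_top_or_le_center hD.2 _ hsub with h | h
    · rintro _ ⟨d, rfl⟩
      have : d ∈ K.comap δ := by rw [h]; exact Subgroup.mem_top d
      exact this
    · exfalso
      apply IsQuasisimple.commutator_self_ne_bot hKq
      rw [Subgroup.commutator_eq_bot_iff_le_centralizer]
      intro x hx
      rw [Subgroup.mem_centralizer_iff]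
      intro y hy
      obtain ⟨d, rfl⟩ := hKle hx
      obtain ⟨d', rfl⟩ := hKle hy
      have hd : d ∈ Subgroup.center ↥D := h (show d ∈ K.comap δ from hx)
      have := Subgroup.mem_center_iff.mp hd d'
      rw [← map_mul, ← map_mul, this]
  ext x
  simp only [SetLike.mem_coe, Set.mem_range]
  constructor
  · intro hx
    obtain ⟨d, hd⟩ := hKle hx
    exact ⟨d, hd⟩
  · rintro ⟨d, rfl⟩
    exact hrle ⟨d, rfl⟩

end main

end Cfsg.Agent.Lib.MaxComp
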