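import Mathlib
import Cfsg.Prelude.Def_Local
import Cfsg.Agent.Lib.Helper3.MaxCompC

set_option autoImplicit false

/-!
S1305 swarm, package PE: the rank count in the diagonal case with `|K| = |D|`.
-/

namespace Cfsg.Agent.Lib.MaxComp

open Cfsg Cfsg.Agent.Lib.Helper3
open scoped commutatorElement

variable {X : Type*} [Group X]

/-- lower bound for the order of a join of two subgroups meeting trivially -/
theorem mc_card_mul_le_card_sup [Finite X] (H N : Subgroup X) (hd : H ⊓ N = ⊥) :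
    Nat.card H * Nat.card N ≤ Nat.card (H ⊔ N : Subgroup X) := by
  rw [← Nat.card_prod]
  refine Nat.card_le_card_of_injective
    (fun p : H × N => (⟨(p.1 : X) * (p.2 : X),
      Subgroup.mul_mem _ (Subgroup.mem_sup_left p.1.2) (Subgroup.mem_sup_right p.2.2)⟩ :
        (H ⊔ N : Subgroup X))) ?_
  rintro ⟨h, n⟩ ⟨h', n'⟩ heq
  simp only [Subtype.mk.injEq] at heq
  have key : (h' : X)⁻¹ * h = n' * (n : X)⁻¹ := by
    calc (h' : X)⁻¹ * h = (h' : X)⁻¹ * (h * n) * (n : X)⁻¹ := by group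
      _ = (h' : X)⁻¹ * (h' * n') * (n : X)⁻¹ := by rw [heq]
      _ = n' * (n : X)⁻¹ := by group
  have hmem : (h' : X)⁻¹ * h ∈ H ⊓ N :=
    ⟨H.mul_mem (H.inv_mem h'.2) h.2, by rw [key]; exact N.mul_mem n'.2 (N.inv_mem n.2)⟩
  rw [hd, Subgroup.mem_bot] at hmem
  have h1 : (h : X) = h' := by
    calc (h : X) = h' * ((h' : X)⁻¹ * h) := by group
      _ = h' := by rw [hmem, mul_one]
  have h2 : (n : X) = n' := by
    have h3 : (n' : X) * (n : X)⁻¹ = 1 := by rw [← key, hmem]
    calc (n : X) = ((n' : X) * (n : X)⁻¹)⁻¹ * n' := by group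
      _ = n' := by rw [h3]; simp
  exact Prod.ext (Subtype.ext h1) (Subtype.ext h2)

theorem mc_map_conj_mul (g h : X) (D : Subgroup X) :
    (D.map (MulAut.conj h).toMonoidHom).map (MulAut.conj g).toMonoidHom
      = D.map (MulAut.conj (g * h)).toMonoidHom := by
  rw [Subgroup.map_map]
  congr 1
  ext x
  simp [mul_assoc]

theorem mc_map_conj_one (D : Subgroup X) : D.map (MulAut.conj (1 : X)).toMonoidHom = D := by
  ext x
  rw [mc_mem_map_conj]
  constructor
  · rintro ⟨e, he, rfl⟩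
    simpa using he
  · intro hx
    exact ⟨x, hx, by simp⟩

theorem mc_mem_normalizer_iff {g : X} {D : Subgroup X} :
    g ∈ Subgroup.normalizer (D : Set X) ↔ D.map (MulAut.conj g).toMonoidHom = D := by
  rw [Subgroup.mem_normalizer_iff_map_conj_eq, MulEquiv.toMonoidHom_eq_coe]

/-- **PE**: the rank count in the diagonal case with `|K| = |D|`. -/
theorem exists_elementary_abelian_centralizer [Finite X] (a : X) (ha : orderOf a = 2)
    (K D : Subgroup X)
    (hD : IsComponent D) (hDa : D.map (MulAut.conj a).toMonoidHom ≠ D)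
    (hKD : (K : Set X) = Set.range (fun d : D => (d : X) * (a * (d : X) * a⁻¹)))
    (hcard : Nat.card K = Nat.card D)
    (B : Subgroup X) (hBa : B ≤ Subgroup.centralizer ({a} : Set X))
    (hBK : B ≤ Subgroup.centralizer (K : Set X)) (hBel : IsElementaryAbelian 2 B)
    (A₀ : Subgroup X) (hA₀K : A₀ ≤ K) (hA₀ : IsElementaryAbelian 2 A₀) :
    ∃ V : Subgroup X, V ≤ Subgroup.centralizer (D : Set X) ∧ IsElementaryAbelian 2 V ∧
      Nat.card B * Nat.card A₀ ≤ 2 * Nat.card V := by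
  have hinv := mc_inv_eq ha
  have hsq := mc_sq_eq_one ha
  have hc := mc_commute_of_ne hD hDa
  set δ := mcDiag a D hc with hδ
  have hKmem : ∀ x, x ∈ K ↔ ∃ d : D, δ d = x := by
    intro x
    rw [← SetLike.mem_coe, hKD]
    rfl
  -- δ is injective
  have hδinj : Function.Injective δ := by
    let f : D → K := fun d => ⟨δ d, (hKmem _).mpr ⟨d, rfl⟩⟩
    have hf : Function.Surjective f := by
      rintro ⟨x, hx⟩
      obtain ⟨d, hd⟩ := (hKmem x).mp hx
      exact ⟨d, Subtype.ext hd⟩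
    have hbij := hf.bijective_of_nat_card_le (le_of_eq hcard.symm)
    intro d e hde
    exact hbij.1 (Subtype.ext hde)
  have hBa' : ∀ β ∈ B, β * a = a * β := by
    intro β hβ
    exact (Subgroup.mem_centralizer_iff.mp (hBa hβ) a (Set.mem_singleton a)).symm
  have hBδ : ∀ β ∈ B, ∀ d : D, δ d * β = β * δ d := by
    intro β hβ d
    exact Subgroup.mem_centralizer_iff.mp (hBK hβ) (δ d) ((hKmem _).mpr ⟨d, rfl⟩)
  set N := Subgroup.normalizer (D : Set X) with hN
  set Da := D.map (MulAut.conj a).toMonoidHom with hDadef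
  -- (i) elements of B normalizing D centralize D
  have hnorm_cent : ∀ β ∈ B, β ∈ N → β ∈ Subgroup.centralizer (D : Set X) := by
    intro β hβ hβN
    rw [Subgroup.mem_centralizer_iff]
    intro d hd
    have hd' : β * d * β⁻¹ ∈ D := (Subgroup.mem_normalizer_iff.mp hβN d).mp hd
    have e1 : δ ⟨β * d * β⁻¹, hd'⟩ = δ ⟨d, hd⟩ := by
      have h1 := hBa' β hβ
      have h2 := hBδ β hβ ⟨d, hd⟩
      simp only [hδ, mcDiag_apply] at h2 ⊢
      calc β * d * β⁻¹ * (a * (β * d * β⁻¹) * a⁻¹)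
          = β * d * β⁻¹ * ((a * β) * d * (a * β)⁻¹) := by group
        _ = β * d * β⁻¹ * ((β * a) * d * (β * a)⁻¹) := by rw [h1]
        _ = (β * (d * (a * d * a⁻¹))) * β⁻¹ := by group
        _ = ((d * (a * d * a⁻¹)) * β) * β⁻¹ := by rw [h2]
        _ = d * (a * d * a⁻¹) := by group
    have e2 : β * d * β⁻¹ = d := congrArg Subtype.val (hδinj e1)
    calc d * β = (β * d * β⁻¹) * β := by rw [e2]
      _ = β * d := by group
  -- (ii) elements of B not normalizing D swap D and Da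
  have hswap : ∀ β ∈ B, β ∉ N → D.map (MulAut.conj β).toMonoidHom = Da := by
    intro β hβ hβN
    by_contra hne
    have hne' : D.map (MulAut.conj β).toMonoidHom ≠ D :=
      fun h => hβN (mc_mem_normalizer_iff.mpr h)
    have hDβ : IsComponent (D.map (MulAut.conj β).toMonoidHom) := IsComponent.map_conj hD β
    have c1 := IsComponent.commutator_eq_bot_of_ne hDβ hD hne'
    have c2 := IsComponent.commutator_eq_bot_of_ne hDβ (IsComponent.map_conj hD a) hne
    rw [Subgroup.commutator_eq_bot_iff_le_centralizer] at c1 c2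
    apply IsQuasisimple.commutator_self_ne_bot hD.2
    rw [Subgroup.commutator_eq_bot_iff_le_centralizer]
    intro d hd
    rw [Subgroup.mem_centralizer_iff]
    intro e he
    have hx : β * d * β⁻¹ ∈ D.map (MulAut.conj β).toMonoidHom :=
      mc_mem_map_conj.mpr ⟨d, hd, rfl⟩
    have k1 := Subgroup.mem_centralizer_iff.mp (c1 hx) e he
    have k2 := Subgroup.mem_centralizer_iff.mp (c2 hx) (a * e * a⁻¹)
      (mc_mem_map_conj.mpr ⟨e, he, rfl⟩)
    have k3 := hBδ β hβ ⟨e, he⟩
    simp only [hδ, mcDiag_apply] at k3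
    have k4 := hc d hd e he
    have k5 : (e * (a * e * a⁻¹)) * (β * d * β⁻¹) = (β * d * β⁻¹) * (e * (a * e * a⁻¹)) := by
      calc (e * (a * e * a⁻¹)) * (β * d * β⁻¹) = e * ((a * e * a⁻¹) * (β * d * β⁻¹)) := by group
        _ = e * ((β * d * β⁻¹) * (a * e * a⁻¹)) := by rw [k2]
        _ = (e * (β * d * β⁻¹)) * (a * e * a⁻¹) := by group
        _ = ((β * d * β⁻¹) * e) * (a * e * a⁻¹) := by rw [k1]
        _ = (β * d * β⁻¹) * (e * (a * e * a⁻¹)) := by group
    have k6 : (e * (a * e * a⁻¹)) * d = d * (e * (a * e * a⁻¹)) := by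
      calc (e * (a * e * a⁻¹)) * d = β⁻¹ * (β * (e * (a * e * a⁻¹))) * d := by group
        _ = β⁻¹ * ((e * (a * e * a⁻¹)) * β) * d := by rw [k3]
        _ = β⁻¹ * ((e * (a * e * a⁻¹)) * (β * d * β⁻¹)) * β := by group
        _ = β⁻¹ * ((β * d * β⁻¹) * (e * (a * e * a⁻¹))) * β := by rw [k5]
        _ = d * (β⁻¹ * ((e * (a * e * a⁻¹)) * β)) := by group
        _ = d * (β⁻¹ * (β * (e * (a * e * a⁻¹)))) := by rw [k3]
        _ = d * (e * (a * e * a⁻¹)) := by group
    have k7 : e * d * (a * e * a⁻¹) = d * e * (a * e * a⁻¹) := by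
      calc e * d * (a * e * a⁻¹) = e * (d * (a * e * a⁻¹)) := by group
        _ = e * ((a * e * a⁻¹) * d) := by rw [k4]
        _ = (e * (a * e * a⁻¹)) * d := by group
        _ = d * (e * (a * e * a⁻¹)) := k6
        _ = d * e * (a * e * a⁻¹) := by group
    exact mul_right_cancel k7
  -- the index-two count
  set B₀ := B ⊓ N with hB₀
  have hB₀le : B₀ ≤ B := inf_le_left
  have hBcard : Nat.card B ≤ 2 * Nat.card B₀ := by
    by_cases hBN : B ≤ N
    · have : B₀ = B := inf_eq_left.mpr hBN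
      rw [this]; omega
    · obtain ⟨β₁, hβ₁B, hβ₁N⟩ := SetLike.not_le_iff_exists.mp hBN
      have hidx : (B₀.subgroupOf B).index = 2 := by
        rw [Subgroup.index_eq_two_iff]
        refine ⟨⟨β₁, hβ₁B⟩, fun b => ?_⟩
        simp only [Subgroup.mem_subgroupOf, Subgroup.coe_mul]
        by_cases hb : (b : X) ∈ N
        · right
          refine ⟨⟨b.2, hb⟩, ?_⟩
          rintro ⟨-, h⟩
          apply hβ₁N
          have e0 : β₁ = (b : X)⁻¹ * ((b : X) * β₁) := by group
          rw [e0]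
          exact N.mul_mem (N.inv_mem hb) h
        · left
          refine ⟨⟨B.mul_mem b.2 hβ₁B, ?_⟩, fun h => hb h.2⟩
          show (b : X) * β₁ ∈ Subgroup.normalizer (D : Set X)
          rw [mc_mem_normalizer_iff, ← mc_map_conj_mul, hswap β₁ hβ₁B hβ₁N, hDadef,
            mc_map_conj_mul, hBa' b b.2, ← mc_map_conj_mul, hswap b b.2 hb, hDadef,
            mc_map_conj_mul, hsq, mc_map_conj_one]
      have h1 := Subgroup.card_mul_index (B₀.subgroupOf B)
      rw [hidx] at h1
      have h2 : Nat.card (B₀.subgroupOf B) = Nat.card B₀ :=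
        Nat.card_congr (Subgroup.subgroupOfEquivOfLe hB₀le).toEquiv
      rw [h2] at h1
      omega
  have hB₀cent : B₀ ≤ Subgroup.centralizer (D : Set X) := fun β hβ => hnorm_cent β hβ.1 hβ.2
  -- the second factor
  set U : Subgroup X := ((A₀.comap δ).map D.subtype).map (MulAut.conj a).toMonoidHom with hU
  have hUmem : ∀ x, x ∈ U ↔ ∃ d : D, δ d ∈ A₀ ∧ x = a * (d : X) * a⁻¹ := by
    intro x
    constructor
    · rintro ⟨y, ⟨d, hd, rfl⟩, rfl⟩
      exact ⟨d, hd, by simp⟩
    · rintro ⟨d, hd, rfl⟩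
      exact ⟨(d : X), ⟨d, hd, rfl⟩, by simp⟩
  have hUcard : Nat.card U = Nat.card A₀ := by
    have h1 : Nat.card U = Nat.card (A₀.comap δ) := by
      rw [hU, Subgroup.card_map_of_injective (MulAut.conj a).injective,
        Subgroup.card_map_of_injective D.subtype_injective]
    have h2 : (A₀.comap δ).map δ = A₀ := by
      rw [Subgroup.map_comap_eq, inf_eq_right]
      intro x hx
      obtain ⟨d, hd⟩ := (hKmem x).mp (hA₀K hx)
      exact ⟨d, hd⟩
    have h3 : Nat.card ((A₀.comap δ).map δ) = Nat.card (A₀.comap δ) :=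
      Subgroup.card_map_of_injective hδinj
    rw [h2] at h3
    exact h1.trans h3.symm
  have hUcent : U ≤ Subgroup.centralizer (D : Set X) := by
    intro x hx
    obtain ⟨d, -, rfl⟩ := (hUmem x).mp hx
    rw [Subgroup.mem_centralizer_iff]
    intro e he
    exact hc e he d d.2
  have hUcomm : ∀ x ∈ U, ∀ y ∈ U, x * y = y * x := by
    intro x hx y hy
    obtain ⟨d, hd, rfl⟩ := (hUmem x).mp hx
    obtain ⟨e, he, rfl⟩ := (hUmem y).mp hy
    have h1 : δ d * δ e = δ e * δ d :=
      congrArg Subtype.val (hA₀.1.is_comm.comm ⟨δ d, hd⟩ ⟨δ e, he⟩)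
    rw [← map_mul, ← map_mul] at h1
    have h2 : ((d * e : D) : X) = ((e * d : D) : X) := congrArg Subtype.val (hδinj h1)
    simp only [Subgroup.coe_mul] at h2
    calc a * d * a⁻¹ * (a * e * a⁻¹) = a * ((d : X) * e) * a⁻¹ := by group
      _ = a * ((e : X) * d) * a⁻¹ := by rw [h2]
      _ = a * e * a⁻¹ * (a * d * a⁻¹) := by group
  have hUsq : ∀ x ∈ U, x ^ 2 = 1 := by
    intro x hx
    obtain ⟨d, hd, rfl⟩ := (hUmem x).mp hx
    have h1 : δ d ^ 2 = 1 := hA₀.2 _ hd
    rw [← map_pow] at h1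
    have h2 : d ^ 2 = 1 := hδinj (h1.trans (map_one δ).symm)
    have h3 : (d : X) ^ 2 = 1 := by
      have := congrArg Subtype.val h2
      simpa using this
    rw [conj_pow, h3]
    group
  -- B ⊓ U = ⊥
  have hBU : B₀ ⊓ U = ⊥ := by
    rw [eq_bot_iff]
    rintro x ⟨hxB, hxU⟩
    rw [Subgroup.mem_bot]
    obtain ⟨d, hd, rfl⟩ := (hUmem x).mp hxU
    have hxa := hBa' _ hxB.1
    -- a d a⁻¹ commutes with a, so equals d
    have e1 : a * (d : X) * a⁻¹ = d := by
      calc a * (d : X) * a⁻¹ = a⁻¹ * (a * (a * (d : X) * a⁻¹)) := by group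
        _ = a⁻¹ * ((a * (d : X) * a⁻¹) * a) := by rw [hxa]
        _ = d := by group
    have e2 : δ d = 1 := by
      rw [hδ, mcDiag_apply, e1]
      have := hBel.2 _ hxB.1
      rw [e1, pow_two] at this
      exact this
    have e3 : d = 1 := hδinj (e2.trans (map_one δ).symm)
    rw [e3]
    simp
  -- B₀ and U commute
  have hB₀U : ⁅B₀, U⁆ = ⊥ := by
    rw [Subgroup.commutator_eq_bot_iff_le_centralizer]
    intro β hβ
    rw [Subgroup.mem_centralizer_iff]
    intro x hx
    obtain ⟨d, -, rfl⟩ := (hUmem x).mp hx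
    have h1 := hBa' β hβ.1
    have h2 := Subgroup.mem_centralizer_iff.mp (hB₀cent hβ) d d.2
    have h1' : a⁻¹ * β = β * a⁻¹ := by
      calc a⁻¹ * β = a⁻¹ * (β * a) * a⁻¹ := by group
        _ = a⁻¹ * (a * β) * a⁻¹ := by rw [h1]
        _ = β * a⁻¹ := by group
    calc a * (d : X) * a⁻¹ * β = a * (d : X) * (a⁻¹ * β) := by group
      _ = a * (d : X) * (β * a⁻¹) := by rw [h1']
      _ = a * ((d : X) * β) * a⁻¹ := by group
      _ = a * (β * (d : X)) * a⁻¹ := by rw [h2]
      _ = (a * β) * (d : X) * a⁻¹ := by group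
      _ = (β * a) * (d : X) * a⁻¹ := by rw [h1]
      _ = β * (a * (d : X) * a⁻¹) := by group
  have hB₀U' : ∀ β ∈ B₀, ∀ u ∈ U, u * β = β * u := by
    intro β hβ u hu
    exact Subgroup.mem_centralizer_iff.mp
      (Subgroup.commutator_eq_bot_iff_le_centralizer.mp hB₀U hβ) u hu
  have hB₀comm : ∀ β ∈ B₀, ∀ β' ∈ B₀, β * β' = β' * β := by
    intro β hβ β' hβ'
    exact congrArg Subtype.val (hBel.1.is_comm.comm ⟨β, hβ.1⟩ ⟨β', hβ'.1⟩)
  have hB₀sq : ∀ β ∈ B₀, β * β = 1 := by
    intro β hβ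
    have := hBel.2 β hβ.1
    rwa [pow_two] at this
  have hUsq' : ∀ u ∈ U, u * u = 1 := by
    intro u hu
    have := hUsq u hu
    rwa [pow_two] at this
  refine ⟨B₀ ⊔ U, sup_le hB₀cent hUcent, ⟨⟨⟨?_⟩⟩, ?_⟩, ?_⟩
  · rintro ⟨v, hv⟩ ⟨v', hv'⟩
    apply Subtype.ext
    show v * v' = v' * v
    obtain ⟨β, hβ, u, hu, rfl⟩ := exists_mul_of_mem_sup_of_commutator_eq_bot hB₀U hv
    obtain ⟨β', hβ', u', hu', rfl⟩ := exists_mul_of_mem_sup_of_commutator_eq_bot hB₀U hv'
    have c1 := hB₀U' β' hβ' u hu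
    have c2 := hB₀U' β hβ u' hu'
    have c3 := hB₀comm β hβ β' hβ'
    have c4 := hUcomm u hu u' hu'
    calc β * u * (β' * u') = β * (u * β') * u' := by group
      _ = β * (β' * u) * u' := by rw [c1]
      _ = (β * β') * (u * u') := by group
      _ = (β' * β) * (u' * u) := by rw [c3, c4]
      _ = β' * (β * u') * u := by group
      _ = β' * (u' * β) * u := by rw [c2]
      _ = β' * u' * (β * u) := by group
  · intro v hv
    obtain ⟨β, hβ, u, hu, rfl⟩ := exists_mul_of_mem_sup_of_commutator_eq_bot hB₀U hv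
    have c1 := hB₀U' β hβ u hu
    rw [pow_two]
    calc β * u * (β * u) = β * (u * β) * u := by group
      _ = β * (β * u) * u := by rw [c1]
      _ = (β * β) * (u * u) := by group
      _ = 1 := by rw [hB₀sq β hβ, hUsq' u hu, one_mul]
  · calc Nat.card B * Nat.card A₀ ≤ (2 * Nat.card B₀) * Nat.card A₀ :=
          Nat.mul_le_mul_right _ hBcard
      _ = 2 * (Nat.card B₀ * Nat.card U) := by rw [hUcard]; ring
      _ ≤ 2 * Nat.card (B₀ ⊔ U : Subgroup X) :=
          Nat.mul_le_mul_left _ (mc_card_mul_le_card_sup B₀ U hBU)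

end Cfsg.Agent.Lib.MaxComp
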