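import Mathlib
import Cfsg.Agent.Lib.Helper1.SL2Sylow

/-!
# Explicit elements and relations in `SL_2(F)`

`wN = [[0,1],[-1,0]]`, `hD l = diag(l, l⁻¹)`, and the relations between them and the transvections
`t01`, `t10` of helper1.
-/

set_option autoImplicit false

namespace Cfsg.Agent.Lib.Helper3.ModD

open Cfsg.Agent.Lib.Helper1

variable {F : Type*} [Field F]

local notation "SL2" => Matrix.SpecialLinearGroup (Fin 2) F
local notation "M2" => Matrix (Fin 2) (Fin 2) F

/-- the Weyl element `[[0,1],[-1,0]]` -/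
noncomputable def wN : SL2 :=
  ⟨!![0, 1; -1, 0], by simp [Matrix.det_fin_two]⟩

theorem wN_val : ((wN : SL2) : M2) = !![0, 1; -1, 0] :=
  rfl

/-- the diagonal element `diag(l, l⁻¹)` -/
noncomputable def hD (l : Fˣ) : SL2 :=
  ⟨!![(l : F), 0; 0, ((l⁻¹ : Fˣ) : F)], by simp [Matrix.det_fin_two]⟩

theorem hD_val (l : Fˣ) :
    ((hD l : SL2) : M2) = !![(l : F), 0; 0, ((l⁻¹ : Fˣ) : F)] := rfl

theorem t01_add (s t : F) : t01 s * t01 t = t01 (s + t) := by
  have h : ((t01 s * t01 t : SL2) : M2) = ((t01 (s + t) : SL2) : M2) := by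
    rw [Matrix.SpecialLinearGroup.coe_mul, t01_val, t01_val, t01_val]
    ext i j
    fin_cases i <;> fin_cases j <;> simp [Matrix.mul_apply, Fin.sum_univ_two, add_comm]
  exact Subtype.ext h

theorem t01_zero : t01 (0 : F) = 1 := by
  have h : ((t01 (0 : F) : SL2) : M2) = ((1 : SL2) : M2) := by
    rw [t01_val, Matrix.SpecialLinearGroup.coe_one]
    ext i j
    fin_cases i <;> fin_cases j <;> simp
  exact Subtype.ext h

theorem wN_mul_t01 (t : F) : wN * t01 t = t10 (-t) * wN := by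
  have h : ((wN * t01 t : SL2) : M2) = ((t10 (-t) * wN : SL2) : M2) := by
    rw [Matrix.SpecialLinearGroup.coe_mul, Matrix.SpecialLinearGroup.coe_mul, t01_val, t10_val,
      wN_val]
    ext i j
    fin_cases i <;> fin_cases j <;> simp [Matrix.mul_apply, Fin.sum_univ_two]
  exact Subtype.ext h

theorem t10_eq (t : F) : t10 t = wN * t01 (-t) * wN⁻¹ := by
  rw [eq_mul_inv_iff_mul_eq, wN_mul_t01, neg_neg]

theorem hD_mul (l m : Fˣ) : hD (l * m) = (hD l * hD m : SL2) := by
  have h : ((hD (l * m) : SL2) : M2) = ((hD l * hD m : SL2) : M2) := by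
    rw [Matrix.SpecialLinearGroup.coe_mul, hD_val, hD_val, hD_val]
    ext i j
    fin_cases i <;> fin_cases j <;> simp [Matrix.mul_apply, Fin.sum_univ_two, mul_comm]
  exact Subtype.ext h

theorem hD_one : hD (1 : Fˣ) = (1 : SL2) := by
  have h : ((hD (1 : Fˣ) : SL2) : M2) = ((1 : SL2) : M2) := by
    rw [hD_val, Matrix.SpecialLinearGroup.coe_one]
    ext i j
    fin_cases i <;> fin_cases j <;> simp
  exact Subtype.ext h

theorem hD_inv (l : Fˣ) : hD l⁻¹ = ((hD l)⁻¹ : SL2) := by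
  rw [eq_inv_iff_mul_eq_one, ← hD_mul, inv_mul_cancel, hD_one]

theorem hD_mul_t01 (l : Fˣ) (t : F) : hD l * t01 t = t01 ((l : F) ^ 2 * t) * hD l := by
  have h : ((hD l * t01 t : SL2) : M2) = ((t01 ((l : F) ^ 2 * t) * hD l : SL2) : M2) := by
    rw [Matrix.SpecialLinearGroup.coe_mul, Matrix.SpecialLinearGroup.coe_mul, t01_val, t01_val,
      hD_val]
    ext i j
    fin_cases i <;> fin_cases j <;> simp [Matrix.mul_apply, Fin.sum_univ_two]
    field_simp
  exact Subtype.ext h

theorem hD_mul_wN (l : Fˣ) : hD l * wN = (wN * hD l⁻¹ : SL2) := by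
  have h : ((hD l * wN : SL2) : M2) = ((wN * hD l⁻¹ : SL2) : M2) := by
    rw [Matrix.SpecialLinearGroup.coe_mul, Matrix.SpecialLinearGroup.coe_mul, wN_val, hD_val,
      hD_val]
    ext i j
    fin_cases i <;> fin_cases j <;> simp [Matrix.mul_apply, Fin.sum_univ_two]
  exact Subtype.ext h

/-- the key relation `u(t) l(-1/t) u(t) = h(t) n` -/
theorem t01_t10_t01 (l : Fˣ) :
    t01 (l : F) * t10 (-((l⁻¹ : Fˣ) : F)) * t01 (l : F) = hD l * wN := by
  have h : ((t01 (l : F) * t10 (-((l⁻¹ : Fˣ) : F)) * t01 (l : F) : SL2) : M2) =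
      ((hD l * wN : SL2) : M2) := by
    rw [Matrix.SpecialLinearGroup.coe_mul, Matrix.SpecialLinearGroup.coe_mul,
      Matrix.SpecialLinearGroup.coe_mul, t01_val, t10_val, wN_val, hD_val]
    ext i j
    fin_cases i <;> fin_cases j <;> simp [Matrix.mul_apply, Fin.sum_univ_two]
  exact Subtype.ext h

/-- the central element `-1 = n²` -/
noncomputable def zC : SL2 := wN * wN

theorem zC_val : ((zC : SL2) : M2) = !![-1, 0; 0, -1] := by
  unfold zC
  rw [Matrix.SpecialLinearGroup.coe_mul, wN_val]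
  ext i j
  fin_cases i <;> fin_cases j <;> simp [Matrix.mul_apply, Fin.sum_univ_two]

theorem zC_comm (g : SL2) : zC * g = g * zC := by
  have h : ((zC * g : SL2) : M2) = ((g * zC : SL2) : M2) := by
    rw [Matrix.SpecialLinearGroup.coe_mul, Matrix.SpecialLinearGroup.coe_mul, zC_val]
    ext i j
    fin_cases i <;> fin_cases j <;> simp [Matrix.mul_apply, Fin.sum_univ_two]
  exact Subtype.ext h

theorem zC_mul_self : (zC * zC : SL2) = 1 := by
  have h : ((zC * zC : SL2) : M2) = ((1 : SL2) : M2) := by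
    rw [Matrix.SpecialLinearGroup.coe_mul, zC_val, Matrix.SpecialLinearGroup.coe_one]
    ext i j
    fin_cases i <;> fin_cases j <;> simp [Matrix.mul_apply, Fin.sum_univ_two]
  exact Subtype.ext h

theorem wN_inv : (wN⁻¹ : SL2) = wN * zC := by
  rw [inv_eq_iff_mul_eq_one, ← mul_assoc]
  show zC * zC = 1
  exact zC_mul_self

/-- `SL_2(F)` is generated by the upper transvections and the Weyl element. -/
theorem eq_top_of_t01_wN (K : Subgroup SL2)
    (h1 : ∀ t : F, t01 t ∈ K) (h2 : (wN : SL2) ∈ K) : K = ⊤ := by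
  have hu : uSL F ≤ K := by
    intro g hg
    obtain ⟨t, rfl⟩ := (mem_uSL_iff g).1 hg
    exact h1 t
  have hc : cj (wN : SL2) (uSL F) ≤ K := by
    intro g hg
    rw [mem_cj] at hg
    have : g = wN * (wN⁻¹ * g * wN) * wN⁻¹ := by group
    rw [this]
    exact K.mul_mem (K.mul_mem h2 (hu hg)) (K.inv_mem h2)
  have h := uSL_sup_cj_eq_top (wN : SL2) (by
    show ((wN : SL2) : M2) 1 0 ≠ 0
    simp [wN_val])
  rw [eq_top_iff, ← h]
  exact sup_le hu hc

end Cfsg.Agent.Lib.Helper3.ModD
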