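import Mathlib

/-!
# Fixed cosets for a `p`-group acting on a finite abelian group
-/

set_option autoImplicit false

namespace Cfsg.Agent.Lib.Helper3.ModD

variable {G : Type*} [Group G] {M : Type*} [AddCommGroup M] [DistribMulAction G M]

/-- the map induced on the quotient by an element preserving `N` -/
noncomputable def qmap (N : AddSubgroup M) (g : G) (h : ∀ m ∈ N, g • m ∈ N) : M ⧸ N →+ M ⧸ N :=
  QuotientAddGroup.map N N (DistribSMul.toAddMonoidHom M g) (by
    intro m hm
    rw [AddSubgroup.mem_comap]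
    exact h m hm)

theorem qmap_mk (N : AddSubgroup M) (g : G) (h : ∀ m ∈ N, g • m ∈ N) (m : M) :
    qmap N g h (m : M ⧸ N) = ((g • m : M) : M ⧸ N) := by
  unfold qmap
  rw [QuotientAddGroup.map_mk]
  rfl

/-- the action of a subgroup `K` on the quotient by a `K`-invariant subgroup -/
@[reducible] noncomputable def quotAct (K : Subgroup G) (N : AddSubgroup M) (h : ∀ g ∈ K, ∀ m ∈ N, g • m ∈ N) :
    MulAction ↥K (M ⧸ N) where
  smul g q := qmap N (g : G) (h g g.2) q
  one_smul q := by
    induction q using QuotientAddGroup.induction_on with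
    | H m =>
      show qmap N ((1 : ↥K) : G) _ (m : M ⧸ N) = (m : M ⧸ N)
      rw [qmap_mk]
      simp
  mul_smul a b q := by
    induction q using QuotientAddGroup.induction_on with
    | H m =>
      show qmap N ((a * b : ↥K) : G) _ (m : M ⧸ N) =
        qmap N (a : G) _ (qmap N (b : G) _ (m : M ⧸ N))
      rw [qmap_mk, qmap_mk, qmap_mk]
      simp [mul_smul]

theorem quotAct_smul_mk (K : Subgroup G) (N : AddSubgroup M) (h : ∀ g ∈ K, ∀ m ∈ N, g • m ∈ N)
    (g : ↥K) (m : M) :
    (quotAct K N h).smul g (m : M ⧸ N) = (((g : G) • m : M) : M ⧸ N) := by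
  show qmap N (g : G) _ (m : M ⧸ N) = _
  rw [qmap_mk]

/-- A `p`-group `K` acting on a finite abelian `p`-group `M`, `N` a proper `K`-invariant subgroup:
some `m ∉ N` has `g • m - m ∈ N` for all `g ∈ K`. -/
theorem exists_fixed_coset [Finite M] {p : ℕ} [Fact p.Prime] (K : Subgroup G) (hK : IsPGroup p K)
    (N : AddSubgroup M) (h : ∀ g ∈ K, ∀ m ∈ N, g • m ∈ N) (hM : ∃ k, Nat.card M = p ^ k)
    (hN : N ≠ ⊤) : ∃ m : M, m ∉ N ∧ ∀ g ∈ K, g • m - m ∈ N := by
  let _ := quotAct K N h
  have hdvd : p ∣ Nat.card (M ⧸ N) := by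
    obtain ⟨k, hk⟩ := hM
    have h1 : Nat.card (M ⧸ N) ∣ p ^ k := by
      rw [← hk]
      exact ⟨Nat.card N, AddSubgroup.card_eq_card_quotient_mul_card_addSubgroup N⟩
    obtain ⟨j, hj, hj2⟩ := (Nat.dvd_prime_pow (Fact.out : p.Prime)).1 h1
    rw [hj2]
    rcases Nat.eq_zero_or_pos j with rfl | hpos
    · exfalso
      apply hN
      rw [pow_zero] at hj2
      rw [eq_top_iff]
      intro m _
      have hsub : Subsingleton (M ⧸ N) := (Nat.card_eq_one_iff_unique.1 hj2).1
      have : ((0 : M) : M ⧸ N) = (m : M ⧸ N) := Subsingleton.elim _ _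
      rw [QuotientAddGroup.eq] at this
      simpa using this
    · exact dvd_pow_self p hpos.ne'
  have h0 : ((0 : M) : M ⧸ N) ∈ MulAction.fixedPoints ↥K (M ⧸ N) := by
    intro g
    have := quotAct_smul_mk K N h g 0
    rw [smul_zero] at this
    exact this
  obtain ⟨b, hb, hb0⟩ := hK.exists_fixed_point_of_prime_dvd_card_of_fixed_point (M ⧸ N) hdvd h0
  induction b using QuotientAddGroup.induction_on with
  | H m =>
    refine ⟨m, ?_, ?_⟩
    · intro hm
      apply hb0
      rw [QuotientAddGroup.eq]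
      simpa using hm
    · intro g hg
      have h1 := hb ⟨g, hg⟩
      have h2 := quotAct_smul_mk K N h ⟨g, hg⟩ m
      have h3 : (((g • m : M)) : M ⧸ N) = (m : M ⧸ N) := h2.symm.trans h1
      rw [QuotientAddGroup.eq] at h3
      have : g • m - m = -(-(g • m) + m) := by abel
      rw [this]
      exact N.neg_mem h3

end Cfsg.Agent.Lib.Helper3.ModD
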