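import Mathlib
import Cfsg.Agent.Lib.Helper3.ModD1
import Cfsg.Agent.Lib.Helper3.ModD2

/-!
# Modules for `SL_2(F)`: the fixed points of the unipotent group and the decomposition `W ⊕ nW`
-/

set_option autoImplicit false

namespace Cfsg.Agent.Lib.Helper3.ModD

open Cfsg.Agent.Lib.Helper1

variable {F : Type*} [Field F] {M : Type*} [AddCommGroup M]
  [DistribMulAction (Matrix.SpecialLinearGroup (Fin 2) F) M]

local notation "SL2" => Matrix.SpecialLinearGroup (Fin 2) F

variable (F M) in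
/-- the fixed points of the upper unitriangular group -/
def fixU : AddSubgroup M where
  carrier := {m | ∀ t : F, (t01 t : SL2) • m = m}
  zero_mem' := by intro t; exact smul_zero _
  add_mem' := by
    intro a b ha hb t
    rw [smul_add, ha t, hb t]
  neg_mem' := by
    intro a ha t
    rw [smul_neg, ha t]

theorem mem_fixU (m : M) : m ∈ fixU F M ↔ ∀ t : F, (t01 t : SL2) • m = m := Iff.rfl

theorem zC_smul_mem {m : M} (hm : m ∈ fixU F M) : (zC : SL2) • m ∈ fixU F M := by
  intro t
  rw [← mul_smul, ← zC_comm, mul_smul, hm t]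

theorem zC_smul_zC_smul (m : M) : (zC : SL2) • (zC : SL2) • m = m := by
  rw [← mul_smul, zC_mul_self, one_smul]

theorem wN_smul_wN_smul (m : M) : (wN : SL2) • (wN : SL2) • m = (zC : SL2) • m := by
  rw [← mul_smul]
  rfl

theorem wN_inv_smul (m : M) : (wN⁻¹ : SL2) • m = (wN : SL2) • (zC : SL2) • m := by
  rw [wN_inv, mul_smul]

theorem zC_smul_comm (g : SL2) (m : M) : (zC : SL2) • g • m = g • (zC : SL2) • m := by
  rw [← mul_smul, zC_comm, mul_smul]

theorem hD_smul_mem (l : Fˣ) {m : M} (hm : m ∈ fixU F M) : (hD l : SL2) • m ∈ fixU F M := by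
  intro t
  have h := hD_mul_t01 l (((l⁻¹ : Fˣ) : F) ^ 2 * t)
  have h2 : (l : F) ^ 2 * (((l⁻¹ : Fˣ) : F) ^ 2 * t) = t := by
    rw [← mul_assoc, ← mul_pow, ← Units.val_mul, mul_inv_cancel, Units.val_one, one_pow, one_mul]
  rw [h2] at h
  rw [← mul_smul, ← h, mul_smul, hm]

theorem t01_inv (t : F) : (t01 t : SL2)⁻¹ = t01 (-t) := by
  rw [inv_eq_iff_mul_eq_one, t01_add, add_neg_cancel, t01_zero]

/-- A subgroup of `M` invariant under the generators `t01 t`, `wN` is invariant under `SL_2(F)`. -/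
theorem invariant_of_gens (N : AddSubgroup M) (h1 : ∀ t : F, ∀ m ∈ N, (t01 t : SL2) • m ∈ N)
    (h2 : ∀ m ∈ N, (wN : SL2) • m ∈ N) (g : SL2) (m : M) (hm : m ∈ N) : g • m ∈ N := by
  let K : Subgroup SL2 :=
    { carrier := {g | (∀ m ∈ N, g • m ∈ N) ∧ (∀ m ∈ N, g⁻¹ • m ∈ N)}
      one_mem' := by
        constructor
        · intro m hm; rwa [one_smul]
        · intro m hm; rwa [inv_one, one_smul]
      mul_mem' := by
        rintro a b ⟨ha1, ha2⟩ ⟨hb1, hb2⟩
        constructor
        · intro m hm; rw [mul_smul]; exact ha1 _ (hb1 _ hm)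
        · intro m hm; rw [mul_inv_rev, mul_smul]; exact hb2 _ (ha2 _ hm)
      inv_mem' := by
        rintro a ⟨ha1, ha2⟩
        refine ⟨ha2, ?_⟩
        intro m hm; rw [inv_inv]; exact ha1 _ hm }
  have hK : K = ⊤ := by
    apply eq_top_of_t01_wN
    · intro t
      refine ⟨h1 t, ?_⟩
      intro m hm
      rw [t01_inv]
      exact h1 _ m hm
    · refine ⟨h2, ?_⟩
      intro m hm
      rw [wN_inv_smul]
      apply h2
      rw [← wN_smul_wN_smul]
      exact h2 _ (h2 _ hm)
  have : g ∈ K := by rw [hK]; trivial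
  exact this.1 m hm

/-- an element fixed by the upper and the lower unitriangular groups is fixed by `SL_2(F)` -/
theorem smul_eq_of_mem_of_wN {x y : M} (hx : x ∈ fixU F M) (hy : y ∈ fixU F M)
    (hxy : x = (wN : SL2) • y) (g : SL2) : g • x = x := by
  have h := uSL_sup_cj_eq_top (wN : SL2) (by
    show ((wN : SL2) : Matrix (Fin 2) (Fin 2) F) 1 0 ≠ 0
    simp [wN_val])
  have hle : uSL F ⊔ cj (wN : SL2) (uSL F) ≤ MulAction.stabilizer SL2 x := by
    apply sup_le
    · intro u hu
      obtain ⟨t, rfl⟩ := (mem_uSL_iff u).1 hu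
      rw [MulAction.mem_stabilizer_iff]
      exact hx t
    · intro u hu
      rw [mem_cj] at hu
      obtain ⟨t, ht⟩ := (mem_uSL_iff _).1 hu
      rw [MulAction.mem_stabilizer_iff]
      have hu' : u = wN * t01 t * wN⁻¹ := by
        rw [← ht]; group
      rw [hu', hxy, mul_smul, mul_smul, inv_smul_smul, hy t]
  rw [h] at hle
  exact MulAction.mem_stabilizer_iff.1 (hle (Subgroup.mem_top g))

end Cfsg.Agent.Lib.Helper3.ModD
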