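import Mathlib
import Cfsg.Agent.Lib.Helper3.ModD3

/-!
# Irreducible modules for `SL_2(F)`: the decomposition `M = W ⊕ nW`
-/

set_option autoImplicit false

namespace Cfsg.Agent.Lib.Helper3.ModD

open Cfsg.Agent.Lib.Helper1

variable {F : Type*} [Field F] {M : Type*} [AddCommGroup M]
  [DistribMulAction (Matrix.SpecialLinearGroup (Fin 2) F) M]

local notation "SL2" => Matrix.SpecialLinearGroup (Fin 2) F

/-- irreducibility and nontriviality of the action -/
structure IrrNT (F : Type*) [Field F] (M : Type*) [AddCommGroup M]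
    [DistribMulAction (Matrix.SpecialLinearGroup (Fin 2) F) M] : Prop where
  irr : ∀ N : AddSubgroup M,
    (∀ g : Matrix.SpecialLinearGroup (Fin 2) F, ∀ m ∈ N, g • m ∈ N) → N = ⊥ ∨ N = ⊤
  nt : ∃ g : Matrix.SpecialLinearGroup (Fin 2) F, ∃ m : M, g • m ≠ m

theorem IrrNT.fixed_eq_zero (H : IrrNT F M) {x : M} (h : ∀ g : SL2, g • x = x) : x = 0 := by
  let C : AddSubgroup M :=
    { carrier := {m | ∀ g : SL2, g • m = m}
      zero_mem' := by intro g; exact smul_zero _
      add_mem' := by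
        intro a b ha hb g
        rw [smul_add, ha g, hb g]
      neg_mem' := by
        intro a ha g
        rw [smul_neg, ha g] }
  have hC : ∀ g : SL2, ∀ m ∈ C, g • m ∈ C := by
    intro g m hm
    have : g • m = m := hm g
    rw [this]
    exact hm
  rcases H.irr C hC with h0 | h1
  · have hx : x ∈ C := h
    rw [h0] at hx
    exact (AddSubgroup.mem_bot).1 hx
  · exfalso
    obtain ⟨g, m, hgm⟩ := H.nt
    have hm : m ∈ C := by rw [h1]; trivial
    exact hgm (hm g)

theorem IrrNT.inter_eq_zero (H : IrrNT F M) {x y : M} (hx : x ∈ fixU F M) (hy : y ∈ fixU F M)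
    (hxy : x = (wN : SL2) • y) : x = 0 :=
  H.fixed_eq_zero (smul_eq_of_mem_of_wN hx hy hxy)

theorem IrrNT.decomp_unique (H : IrrNT F M) {x y x' y' : M} (hx : x ∈ fixU F M)
    (hy : y ∈ fixU F M) (hx' : x' ∈ fixU F M) (hy' : y' ∈ fixU F M)
    (h : x + (wN : SL2) • y = x' + (wN : SL2) • y') : x = x' ∧ y = y' := by
  have h1 : x - x' = (wN : SL2) • (y' - y) := by
    rw [smul_sub]
    have : x - x' = (x + (wN : SL2) • y) - x' - (wN : SL2) • y := by abel
    rw [this, h]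
    abel
  have h2 := H.inter_eq_zero ((fixU F M).sub_mem hx hx') ((fixU F M).sub_mem hy' hy) h1
  constructor
  · exact sub_eq_zero.1 h2
  · rw [h2] at h1
    have h3 : (wN⁻¹ : SL2) • (wN : SL2) • (y' - y) = 0 := by rw [← h1, smul_zero]
    rw [inv_smul_smul] at h3
    exact (sub_eq_zero.1 h3).symm

/-- the subgroup `W + nW` -/
def sumW (F : Type*) [Field F] (M : Type*) [AddCommGroup M]
    [DistribMulAction (Matrix.SpecialLinearGroup (Fin 2) F) M] : AddSubgroup M where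
  carrier := {m | ∃ x ∈ fixU F M, ∃ y ∈ fixU F M,
    m = x + (wN : Matrix.SpecialLinearGroup (Fin 2) F) • y}
  zero_mem' := ⟨0, (fixU F M).zero_mem, 0, (fixU F M).zero_mem, by simp⟩
  add_mem' := by
    rintro a b ⟨x, hx, y, hy, rfl⟩ ⟨x', hx', y', hy', rfl⟩
    refine ⟨x + x', (fixU F M).add_mem hx hx', y + y', (fixU F M).add_mem hy hy', ?_⟩
    rw [smul_add]
    abel
  neg_mem' := by
    rintro a ⟨x, hx, y, hy, rfl⟩
    refine ⟨-x, (fixU F M).neg_mem hx, -y, (fixU F M).neg_mem hy, ?_⟩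
    rw [smul_neg]
    abel

theorem mem_sumW (m : M) : m ∈ sumW F M ↔ ∃ x ∈ fixU F M, ∃ y ∈ fixU F M,
    m = x + (wN : SL2) • y := Iff.rfl

theorem wN_smul_mem_sumW {m : M} (hm : m ∈ sumW F M) : (wN : SL2) • m ∈ sumW F M := by
  obtain ⟨x, hx, y, hy, rfl⟩ := hm
  refine ⟨(zC : SL2) • y, zC_smul_mem hy, x, hx, ?_⟩
  rw [smul_add, wN_smul_wN_smul, add_comm]

/-- quadratic case: `M = W + nW` -/
theorem IrrNT.sumW_eq_top_of_quad (H : IrrNT F M)
    (hq : ∀ (t : F) (m : M), (t01 t : SL2) • m - m ∈ fixU F M) : sumW F M = ⊤ := by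
  have hinv : ∀ g : SL2, ∀ m ∈ sumW F M, g • m ∈ sumW F M := by
    apply invariant_of_gens
    · rintro t m ⟨x, hx, y, hy, rfl⟩
      refine ⟨x + ((t01 t : SL2) • ((wN : SL2) • y) - (wN : SL2) • y),
        (fixU F M).add_mem hx (hq t _), y, hy, ?_⟩
      rw [smul_add, hx t]
      abel
    · intro m hm
      exact wN_smul_mem_sumW hm
  rcases H.irr _ hinv with h0 | h1
  · exfalso
    obtain ⟨g, m, hgm⟩ := H.nt
    have hW : ∀ x ∈ fixU F M, x = 0 := by
      intro x hx
      have : x ∈ sumW F M := ⟨x, hx, 0, (fixU F M).zero_mem, by simp⟩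
      rw [h0] at this
      exact (AddSubgroup.mem_bot).1 this
    have hall : ∀ m : M, m ∈ fixU F M := by
      intro m t
      have := hW _ (hq t m)
      exact sub_eq_zero.1 this
    apply hgm
    rw [hW m (hall m), smul_zero]
  · exact h1

/-- small case: `M = W + nW` -/
theorem IrrNT.sumW_eq_top_of_small [Finite M] (H : IrrNT F M)
    (hs : Nat.card M ≤ Nat.card (fixU F M) ^ 2) : sumW F M = ⊤ := by
  let f : (fixU F M) × (fixU F M) → M := fun xy => (xy.1 : M) + (wN : SL2) • (xy.2 : M)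
  have hinj : Function.Injective f := by
    rintro ⟨⟨x, hx⟩, ⟨y, hy⟩⟩ ⟨⟨x', hx'⟩, ⟨y', hy'⟩⟩ h
    obtain ⟨h1, h2⟩ := H.decomp_unique hx hy hx' hy' h
    subst h1; subst h2
    rfl
  have hcard : Nat.card M ≤ Nat.card ((fixU F M) × (fixU F M)) := by
    rw [Nat.card_prod, ← sq]
    exact hs
  have hbij : Function.Bijective f := (Nat.bijective_iff_injective_and_card f).2
    ⟨hinj, le_antisymm (Nat.card_le_card_of_injective f hinj) hcard⟩
  rw [eq_top_iff]
  intro m _
  obtain ⟨⟨⟨x, hx⟩, ⟨y, hy⟩⟩, rfl⟩ := hbij.2 m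
  exact ⟨x, hx, y, hy, rfl⟩

end Cfsg.Agent.Lib.Helper3.ModD
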