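import Mathlib
import Cfsg.Agent.Lib.Helper3.ModD4

/-!
# Irreducible modules for `SL_2(F)`: the quadratic part of `W` and the key formula
-/

set_option autoImplicit false

namespace Cfsg.Agent.Lib.Helper3.ModD

open Cfsg.Agent.Lib.Helper1

variable {F : Type*} [Field F] {M : Type*} [AddCommGroup M]
  [DistribMulAction (Matrix.SpecialLinearGroup (Fin 2) F) M]

local notation "SL2" => Matrix.SpecialLinearGroup (Fin 2) F

/-- the elements `y` of `W` with `[ny, U] ≤ W` -/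
def quadW (F : Type*) [Field F] (M : Type*) [AddCommGroup M]
    [DistribMulAction (Matrix.SpecialLinearGroup (Fin 2) F) M] : AddSubgroup M where
  carrier := {y | y ∈ fixU F M ∧ ∀ t : F,
    (t01 t : Matrix.SpecialLinearGroup (Fin 2) F) • (wN : Matrix.SpecialLinearGroup (Fin 2) F) • y -
      (wN : Matrix.SpecialLinearGroup (Fin 2) F) • y ∈ fixU F M}
  zero_mem' := ⟨(fixU F M).zero_mem, fun t => by simp [(fixU F M).zero_mem]⟩
  add_mem' := by
    rintro a b ⟨ha, ha2⟩ ⟨hb, hb2⟩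
    refine ⟨(fixU F M).add_mem ha hb, fun t => ?_⟩
    have := (fixU F M).add_mem (ha2 t) (hb2 t)
    rw [smul_add, smul_add]
    convert this using 1
    abel
  neg_mem' := by
    rintro a ⟨ha, ha2⟩
    refine ⟨(fixU F M).neg_mem ha, fun t => ?_⟩
    have := (fixU F M).neg_mem (ha2 t)
    rw [smul_neg, smul_neg]
    convert this using 1
    abel

theorem mem_quadW (y : M) : y ∈ quadW F M ↔ y ∈ fixU F M ∧ ∀ t : F,
    (t01 t : SL2) • (wN : SL2) • y - (wN : SL2) • y ∈ fixU F M := Iff.rfl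

theorem quadW_le : quadW F M ≤ fixU F M := fun _ h => h.1

theorem zC_smul_mem_quadW {y : M} (hy : y ∈ quadW F M) : (zC : SL2) • y ∈ quadW F M := by
  refine ⟨zC_smul_mem hy.1, fun t => ?_⟩
  have := zC_smul_mem (hy.2 t)
  rw [smul_sub, zC_smul_comm, zC_smul_comm] at this
  exact this

theorem t01_mul_hD (l : Fˣ) (t : F) :
    (t01 t * hD l : SL2) = hD l * t01 (((l⁻¹ : Fˣ) : F) ^ 2 * t) := by
  have h := hD_mul_t01 l (((l⁻¹ : Fˣ) : F) ^ 2 * t)
  have h2 : (l : F) ^ 2 * (((l⁻¹ : Fˣ) : F) ^ 2 * t) = t := by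
    rw [← mul_assoc, ← mul_pow, ← Units.val_mul, mul_inv_cancel, Units.val_one, one_pow, one_mul]
  rw [h2] at h
  exact h.symm

theorem wN_mul_hD (l : Fˣ) : (wN * hD l : SL2) = hD l⁻¹ * wN := by
  rw [hD_mul_wN, inv_inv]

theorem hD_smul_mem_quadW (l : Fˣ) {y : M} (hy : y ∈ quadW F M) :
    (hD l : SL2) • y ∈ quadW F M := by
  refine ⟨hD_smul_mem l hy.1, fun t => ?_⟩
  have h1 : (wN : SL2) • (hD l : SL2) • y = (hD l⁻¹ : SL2) • (wN : SL2) • y := by
    rw [← mul_smul, wN_mul_hD, mul_smul]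
  rw [h1, ← mul_smul, t01_mul_hD, mul_smul, ← smul_sub]
  exact hD_smul_mem _ (hy.2 _)

/-- the lower transvection acts as `n u n⁻¹` -/
theorem t10_smul (t : F) (m : M) :
    (t10 t : SL2) • m = (wN : SL2) • (t01 (-t) : SL2) • (wN : SL2) • (zC : SL2) • m := by
  rw [t10_eq, mul_smul, mul_smul, wN_inv_smul]

/-- **Key formula**: for `y` in the quadratic part of `W`, `u(l) n y - n y = h(l) z y`. -/
theorem IrrNT.key_formula (H : IrrNT F M) (l : Fˣ) {y : M}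
    (hy : y ∈ quadW F M) :
    (t01 (l : F) : SL2) • (wN : SL2) • y - (wN : SL2) • y = (hD l : SL2) • (zC : SL2) • y := by
  -- apply the relation to `y₁ = z y` with the unit `l⁻¹`
  set y₁ : M := (zC : SL2) • y with hy₁
  have hy₁q : y₁ ∈ quadW F M := zC_smul_mem_quadW hy
  have hzy₁ : (zC : SL2) • y₁ = y := zC_smul_zC_smul y
  set a₂ : M := (t01 (l : F) : SL2) • (wN : SL2) • y - (wN : SL2) • y with ha₂
  have ha₂W : a₂ ∈ fixU F M := hy.2 _
  have hrel := congrArg (fun g : SL2 => g • y₁) (t01_t10_t01 (F := F) l⁻¹)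
  simp only [mul_smul, inv_inv] at hrel
  rw [hy₁q.1 _, t10_smul, neg_neg, hzy₁] at hrel
  have h1 : (t01 (l : F) : SL2) • (wN : SL2) • y = (wN : SL2) • y + a₂ := by
    rw [ha₂]; abel
  rw [h1, smul_add, wN_smul_wN_smul, smul_add, ← hy₁, hy₁q.1 _] at hrel
  -- now `hrel : y₁ + u(l⁻¹) n a₂ = h(l⁻¹) n y₁`
  have h2 : (hD l⁻¹ : SL2) • (wN : SL2) • y₁ = (wN : SL2) • (hD l : SL2) • y₁ := by
    rw [← mul_smul (hD l⁻¹ : SL2) (wN : SL2) y₁, ← wN_mul_hD, mul_smul]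
  rw [h2] at hrel
  set y₃ : M := (hD l : SL2) • y₁ with hy₃
  have hy₃q : y₃ ∈ quadW F M := hD_smul_mem_quadW l hy₁q
  -- `u(l⁻¹) n (a₂ - y₃) ∈ W`
  have h3 : (t01 ((l⁻¹ : Fˣ) : F) : SL2) • (wN : SL2) • (a₂ - y₃) ∈ fixU F M := by
    have h4 : (t01 ((l⁻¹ : Fˣ) : F) : SL2) • (wN : SL2) • (a₂ - y₃) =
        -y₁ - ((t01 ((l⁻¹ : Fˣ) : F) : SL2) • (wN : SL2) • y₃ - (wN : SL2) • y₃) := by
      rw [smul_sub, smul_sub]
      have : (t01 ((l⁻¹ : Fˣ) : F) : SL2) • (wN : SL2) • a₂ = (wN : SL2) • y₃ - y₁ := by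
        rw [← hrel]; abel
      rw [this]; abel
    rw [h4]
    exact (fixU F M).sub_mem ((fixU F M).neg_mem hy₁q.1) (hy₃q.2 _)
  have h5 : (wN : SL2) • (a₂ - y₃) ∈ fixU F M := by
    have h8 : (t01 ((l⁻¹ : Fˣ) : F) : SL2) • (wN : SL2) • (a₂ - y₃) = (wN : SL2) • (a₂ - y₃) := by
      have h7 := h3 (-((l⁻¹ : Fˣ) : F))
      rw [← mul_smul, t01_add, neg_add_cancel, t01_zero, one_smul] at h7
      exact h7.symm
    intro t
    have h9 := h3 t
    rw [h8] at h9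
    exact h9
  have h10 := H.inter_eq_zero h5 ((fixU F M).sub_mem ha₂W hy₃q.1) rfl
  have h11 : (wN⁻¹ : SL2) • (wN : SL2) • (a₂ - y₃) = 0 := by rw [h10, smul_zero]
  rw [inv_smul_smul] at h11
  exact sub_eq_zero.1 h11

end Cfsg.Agent.Lib.Helper3.ModD
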