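import Mathlib
import Cfsg.Agent.Lib.Helper3.ModD5

/-!
# Irreducible modules for `SL_2(F)`: the unipotent group acts quadratically
-/

set_option autoImplicit false

namespace Cfsg.Agent.Lib.Helper3.ModD

open Cfsg.Agent.Lib.Helper1

variable {F : Type*} [Field F] {M : Type*} [AddCommGroup M]
  [DistribMulAction (Matrix.SpecialLinearGroup (Fin 2) F) M]

local notation "SL2" => Matrix.SpecialLinearGroup (Fin 2) F

/-- the commutator `u(t) n y - n y` lies in the quadratic part, for `y` in the quadratic part -/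
theorem IrrNT.comm_mem_quadW (H : IrrNT F M) (t : F) {y : M} (hy : y ∈ quadW F M) :
    (t01 t : SL2) • (wN : SL2) • y - (wN : SL2) • y ∈ quadW F M := by
  rcases eq_or_ne t 0 with rfl | ht
  · rw [t01_zero, one_smul, sub_self]
    exact (quadW F M).zero_mem
  · have := H.key_formula (Units.mk0 t ht) hy
    rw [Units.val_mk0] at this
    rw [this]
    exact hD_smul_mem_quadW _ (zC_smul_mem_quadW hy)

theorem IrrNT.quadW_eq_fixU_of_ne_bot (H : IrrNT F M) (hne : quadW F M ≠ ⊥) :
    quadW F M = fixU F M := by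
  let N' : AddSubgroup M :=
    { carrier := {m | ∃ x ∈ quadW F M, ∃ y ∈ quadW F M, m = x + (wN : SL2) • y}
      zero_mem' := ⟨0, (quadW F M).zero_mem, 0, (quadW F M).zero_mem, by simp⟩
      add_mem' := by
        rintro a b ⟨x, hx, y, hy, rfl⟩ ⟨x', hx', y', hy', rfl⟩
        refine ⟨x + x', (quadW F M).add_mem hx hx', y + y', (quadW F M).add_mem hy hy', ?_⟩
        rw [smul_add]
        abel
      neg_mem' := by
        rintro a ⟨x, hx, y, hy, rfl⟩
        refine ⟨-x, (quadW F M).neg_mem hx, -y, (quadW F M).neg_mem hy, ?_⟩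
        rw [smul_neg]
        abel }
  have hinv : ∀ g : SL2, ∀ m ∈ N', g • m ∈ N' := by
    apply invariant_of_gens
    · rintro t m ⟨x, hx, y, hy, rfl⟩
      refine ⟨x + ((t01 t : SL2) • ((wN : SL2) • y) - (wN : SL2) • y),
        (quadW F M).add_mem hx (H.comm_mem_quadW t hy), y, hy, ?_⟩
      rw [smul_add, hx.1 t]
      abel
    · rintro m ⟨x, hx, y, hy, rfl⟩
      refine ⟨(zC : SL2) • y, zC_smul_mem_quadW hy, x, hx, ?_⟩
      rw [smul_add, wN_smul_wN_smul, add_comm]
  have hN' : N' = ⊤ := by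
    rcases H.irr N' hinv with h0 | h1
    · exfalso
      apply hne
      rw [eq_bot_iff]
      intro x hx
      have : x ∈ N' := ⟨x, hx, 0, (quadW F M).zero_mem, by simp⟩
      rw [h0] at this
      exact this
    · exact h1
  apply le_antisymm quadW_le
  intro w hw
  have : w ∈ N' := by rw [hN']; trivial
  obtain ⟨x, hx, y, hy, hxy⟩ := this
  have h1 : w + (wN : SL2) • (0 : M) = x + (wN : SL2) • y := by
    rw [smul_zero, add_zero]; exact hxy
  obtain ⟨h2, _⟩ := H.decomp_unique hw (fixU F M).zero_mem hx.1 hy.1 h1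
  rw [h2]
  exact hx

theorem quadW_eq_fixU_of_quad
    (hq : ∀ (t : F) (m : M), (t01 t : SL2) • m - m ∈ fixU F M) : quadW F M = fixU F M := by
  apply le_antisymm quadW_le
  intro w hw
  exact ⟨hw, fun t => hq t _⟩

theorem IrrNT.fixU_ne_top (H : IrrNT F M) : fixU F M ≠ ⊤ := by
  intro htop
  obtain ⟨g, m, hgm⟩ := H.nt
  have hall : ∀ m : M, m = 0 := by
    intro m
    have h1 : m ∈ fixU F M := by rw [htop]; trivial
    have h2 : (wN⁻¹ : SL2) • m ∈ fixU F M := by rw [htop]; trivial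
    exact H.inter_eq_zero h1 h2 (by rw [smul_inv_smul])
  apply hgm
  rw [hall m, smul_zero]

theorem IrrNT.quadW_ne_bot_of_small [Finite M] (H : IrrNT F M) (hsum : sumW F M = ⊤)
    {p : ℕ} [Fact p.Prime] (hU : IsPGroup p (uSL F)) (hM : ∃ k, Nat.card M = p ^ k) :
    quadW F M ≠ ⊥ := by
  have hinvU : ∀ g ∈ uSL F, ∀ m ∈ fixU F M, g • m ∈ fixU F M := by
    intro g hg m hm
    obtain ⟨t, rfl⟩ := (mem_uSL_iff g).1 hg
    rw [hm t]
    exact hm
  obtain ⟨m, hm, hm2⟩ := exists_fixed_coset (uSL F) hU (fixU F M) hinvU hM H.fixU_ne_top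
  have hms : m ∈ sumW F M := by rw [hsum]; trivial
  obtain ⟨x, hx, y, hy, rfl⟩ := hms
  intro hbot
  have hyq : y ∈ quadW F M := by
    refine ⟨hy, fun t => ?_⟩
    have h1 := hm2 (t01 t) (t01_mem t)
    rw [smul_add, hx t] at h1
    convert h1 using 1
    abel
  rw [hbot] at hyq
  have hy0 : y = 0 := hyq
  apply hm
  rw [hy0, smul_zero, add_zero]
  exact hx

end Cfsg.Agent.Lib.Helper3.ModD
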