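import Mathlib
import Cfsg.Agent.Lib.Helper3.ModD6

/-!
# Irreducible modules for `SL_2(F)`: the scalar action of `F` on `W`
-/

set_option autoImplicit false

namespace Cfsg.Agent.Lib.Helper3.ModD

open Cfsg.Agent.Lib.Helper1

variable {F : Type*} [Field F] {M : Type*} [AddCommGroup M]
  [DistribMulAction (Matrix.SpecialLinearGroup (Fin 2) F) M]

local notation "SL2" => Matrix.SpecialLinearGroup (Fin 2) F

/-- the central element acts as `-1` on `W` -/
theorem IrrNT.zC_smul_eq_neg (H : IrrNT F M) (hQ : quadW F M = fixU F M) {y : M}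
    (hy : y ∈ fixU F M) : (zC : SL2) • y = -y := by
  have hyq : y ∈ quadW F M := by rw [hQ]; exact hy
  set y₁ : M := (zC : SL2) • y with hy₁
  have hy₁q : y₁ ∈ quadW F M := zC_smul_mem_quadW hyq
  have hzy₁ : (zC : SL2) • y₁ = y := zC_smul_zC_smul y
  set y₃ : M := (hD (1 : Fˣ) : SL2) • y₁ with hy₃
  have hy₃' : y₃ = y₁ := by rw [hy₃, hD_one, one_smul]
  have hy₃q : y₃ ∈ quadW F M := hD_smul_mem_quadW _ hy₁q
  have hrel := congrArg (fun g : SL2 => g • y₁) (t01_t10_t01 (F := F) (1 : Fˣ))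
  simp only [mul_smul, inv_one, Units.val_one] at hrel
  rw [hy₁q.1 _, t10_smul, neg_neg, hzy₁] at hrel
  have k1 := H.key_formula (1 : Fˣ) hyq
  rw [Units.val_one, ← hy₁, ← hy₃] at k1
  have h1 : (t01 (1 : F) : SL2) • (wN : SL2) • y = (wN : SL2) • y + y₃ := by
    rw [← k1]; abel
  rw [h1, smul_add, wN_smul_wN_smul, ← hy₁, smul_add, hy₁q.1 _] at hrel
  have k2 := H.key_formula (1 : Fˣ) hy₃q
  rw [Units.val_one, hD_one, one_smul, hy₃', hzy₁] at k2
  have h2 : (t01 (1 : F) : SL2) • (wN : SL2) • y₃ = (wN : SL2) • y₃ + y := by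
    rw [hy₃', ← k2]; abel
  rw [h2, hD_one, one_smul, hy₃'] at hrel
  have h3 : y₁ + y = 0 := by
    have : y₁ + y = (y₁ + ((wN : SL2) • y₁ + y)) - (wN : SL2) • y₁ := by abel
    rw [this, hrel, sub_self]
  exact eq_neg_of_add_eq_zero_left h3

/-- the scalar action: `gam a y = n y - u(a) n y` -/
noncomputable def gam (a : F) (y : M) : M := (wN : SL2) • y - (t01 a : SL2) • (wN : SL2) • y

theorem gam_zero (y : M) : gam (0 : F) y = 0 := by
  unfold gam
  rw [t01_zero, one_smul, sub_self]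

theorem gam_smul_zero (a : F) : gam a (0 : M) = 0 := by
  unfold gam
  simp

theorem gam_mem (hQ : quadW F M = fixU F M) (a : F) {y : M} (hy : y ∈ fixU F M) :
    gam a y ∈ fixU F M := by
  have hyq : y ∈ quadW F M := by rw [hQ]; exact hy
  have := (fixU F M).neg_mem (hyq.2 a)
  unfold gam
  convert this using 1
  abel

theorem t01_smul_wN_smul (a : F) (y : M) :
    (t01 a : SL2) • (wN : SL2) • y = (wN : SL2) • y - gam a y := by
  unfold gam; abel

theorem gam_add (hQ : quadW F M = fixU F M) (a b : F) {y : M} (hy : y ∈ fixU F M) :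
    gam (a + b) y = gam a y + gam b y := by
  have h1 : (t01 (a + b) : SL2) • (wN : SL2) • y =
      (t01 a : SL2) • (t01 b : SL2) • (wN : SL2) • y := by
    rw [← t01_add, mul_smul]
  have h2 := gam_mem hQ b hy a
  show (wN : SL2) • y - (t01 (a + b) : SL2) • (wN : SL2) • y = _
  rw [h1, t01_smul_wN_smul b, smul_sub, h2, t01_smul_wN_smul a]
  abel

theorem gam_neg (hQ : quadW F M = fixU F M) (a : F) {y : M} (hy : y ∈ fixU F M) :
    gam (-a) y = -gam a y := by
  have := gam_add hQ a (-a) hy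
  rw [add_neg_cancel, gam_zero] at this
  exact (neg_eq_of_add_eq_zero_right this.symm).symm

theorem IrrNT.gam_unit (H : IrrNT F M) (hQ : quadW F M = fixU F M) (l : Fˣ) {y : M}
    (hy : y ∈ fixU F M) : gam (l : F) y = (hD l : SL2) • y := by
  have hyq : y ∈ quadW F M := by rw [hQ]; exact hy
  have k := H.key_formula l hyq
  rw [H.zC_smul_eq_neg hQ hy, smul_neg] at k
  unfold gam
  have : (wN : SL2) • y - (t01 (l : F) : SL2) • (wN : SL2) • y =
      -((t01 (l : F) : SL2) • (wN : SL2) • y - (wN : SL2) • y) := by abel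
  rw [this, k, neg_neg]

theorem IrrNT.gam_one (H : IrrNT F M) (hQ : quadW F M = fixU F M) {y : M}
    (hy : y ∈ fixU F M) : gam (1 : F) y = y := by
  have := H.gam_unit hQ (1 : Fˣ) hy
  rw [Units.val_one, hD_one, one_smul] at this
  exact this

theorem IrrNT.gam_mul (H : IrrNT F M) (hQ : quadW F M = fixU F M) (a b : F) {y : M}
    (hy : y ∈ fixU F M) : gam a (gam b y) = gam (a * b) y := by
  rcases eq_or_ne a 0 with rfl | ha
  · rw [zero_mul, gam_zero, gam_zero]
  rcases eq_or_ne b 0 with rfl | hb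
  · rw [mul_zero, gam_zero, gam_smul_zero]
  have h1 := H.gam_unit hQ (Units.mk0 b hb) hy
  rw [Units.val_mk0] at h1
  have h2 := H.gam_unit hQ (Units.mk0 a ha) (gam_mem hQ b hy)
  rw [Units.val_mk0] at h2
  have h3 := H.gam_unit hQ (Units.mk0 a ha * Units.mk0 b hb) hy
  rw [Units.val_mul, Units.val_mk0, Units.val_mk0] at h3
  rw [h2, h1, h3, hD_mul, mul_smul]

theorem IrrNT.gam_eq_zero (H : IrrNT F M) (hQ : quadW F M = fixU F M) {a : F} {y : M}
    (hy : y ∈ fixU F M) (hy0 : y ≠ 0) (h : gam a y = 0) : a = 0 := by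
  by_contra ha
  have h1 := H.gam_unit hQ (Units.mk0 a ha) hy
  rw [Units.val_mk0, h] at h1
  apply hy0
  have : ((hD (Units.mk0 a ha))⁻¹ : SL2) • (hD (Units.mk0 a ha) : SL2) • y = 0 := by
    rw [← h1, smul_zero]
  rw [inv_smul_smul] at this
  exact this

end Cfsg.Agent.Lib.Helper3.ModD
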