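import Mathlib
import Cfsg.Agent.Lib.Helper3.ModD7

/-!
# Irreducible modules for `SL_2(F)` that are quadratic or small are natural
-/

set_option autoImplicit false

namespace Cfsg.Agent.Lib.Helper3.ModD

open Cfsg.Agent.Lib.Helper1

variable {F : Type*} [Field F] {M : Type*} [AddCommGroup M]
  [DistribMulAction (Matrix.SpecialLinearGroup (Fin 2) F) M]

local notation "SL2" => Matrix.SpecialLinearGroup (Fin 2) F

/-- the coordinate map `(a, b) ↦ a w₀ - n (b w₀)` -/
noncomputable def phiFun (w₀ : M) (v : Fin 2 → F) : M :=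
  gam (v 0) w₀ - (wN : SL2) • gam (v 1) w₀

theorem t01_mulVec (t : F) (v : Fin 2 → F) :
    ((t01 t : SL2) : Matrix (Fin 2) (Fin 2) F).mulVec v = ![v 0 + t * v 1, v 1] := by
  rw [t01_val]
  ext i
  fin_cases i <;> simp [Matrix.mulVec, dotProduct, Fin.sum_univ_two]

theorem wN_mulVec (v : Fin 2 → F) :
    ((wN : SL2) : Matrix (Fin 2) (Fin 2) F).mulVec v = ![v 1, -v 0] := by
  rw [wN_val]
  ext i
  fin_cases i <;> simp [Matrix.mulVec, dotProduct, Fin.sum_univ_two]

section main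

variable (H : IrrNT F M) (hQ : quadW F M = fixU F M) {w₀ : M} (hw : w₀ ∈ fixU F M)

include H hQ hw

theorem IrrNT.phiFun_add (v v' : Fin 2 → F) :
    phiFun w₀ (v + v') = phiFun w₀ v + phiFun w₀ v' := by
  unfold phiFun
  rw [Pi.add_apply, Pi.add_apply, gam_add hQ _ _ hw, gam_add hQ _ _ hw, smul_add]
  abel

theorem IrrNT.t01_smul_phiFun (t : F) (v : Fin 2 → F) :
    (t01 t : SL2) • phiFun w₀ v = phiFun w₀ (((t01 t : SL2) : Matrix (Fin 2) (Fin 2) F).mulVec v) := by
  rw [t01_mulVec]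
  unfold phiFun
  simp only [Matrix.cons_val_zero, Matrix.cons_val_one]
  rw [smul_sub, gam_mem hQ (v 0) hw t, t01_smul_wN_smul, H.gam_mul hQ _ _ hw,
    gam_add hQ _ _ hw]
  abel

theorem IrrNT.wN_smul_phiFun (v : Fin 2 → F) :
    (wN : SL2) • phiFun w₀ v = phiFun w₀ (((wN : SL2) : Matrix (Fin 2) (Fin 2) F).mulVec v) := by
  rw [wN_mulVec]
  unfold phiFun
  simp only [Matrix.cons_val_zero, Matrix.cons_val_one]
  rw [smul_sub, wN_smul_wN_smul, H.zC_smul_eq_neg hQ (gam_mem hQ (v 1) hw), gam_neg hQ _ hw,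
    smul_neg]
  abel

theorem IrrNT.smul_phiFun (g : SL2) (v : Fin 2 → F) :
    g • phiFun w₀ v = phiFun w₀ ((g : Matrix (Fin 2) (Fin 2) F).mulVec v) := by
  let K : Subgroup SL2 :=
    { carrier := {g | ∀ v : Fin 2 → F,
        g • phiFun w₀ v = phiFun w₀ ((g : Matrix (Fin 2) (Fin 2) F).mulVec v)}
      one_mem' := by
        intro v
        rw [one_smul, Matrix.SpecialLinearGroup.coe_one, Matrix.one_mulVec]
      mul_mem' := by
        intro a b ha hb v
        rw [mul_smul, hb v, ha, Matrix.SpecialLinearGroup.coe_mul, Matrix.mulVec_mulVec]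
      inv_mem' := by
        intro a ha v
        have h1 := ha (((a⁻¹ : SL2) : Matrix (Fin 2) (Fin 2) F).mulVec v)
        rw [Matrix.mulVec_mulVec, ← Matrix.SpecialLinearGroup.coe_mul, mul_inv_cancel,
          Matrix.SpecialLinearGroup.coe_one, Matrix.one_mulVec] at h1
        rw [← h1, inv_smul_smul] }
  have hK : K = ⊤ := by
    apply eq_top_of_t01_wN
    · intro t v
      exact H.t01_smul_phiFun hQ hw t v
    · intro v
      exact H.wN_smul_phiFun hQ hw v
  have : g ∈ K := by rw [hK]; trivial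
  exact this v

theorem IrrNT.phiFun_injective (hw0 : w₀ ≠ 0) : Function.Injective (phiFun (F := F) w₀) := by
  intro v v' h
  unfold phiFun at h
  have h1 : gam (v 0) w₀ + (wN : SL2) • (-gam (v 1) w₀) =
      gam (v' 0) w₀ + (wN : SL2) • (-gam (v' 1) w₀) := by
    rw [smul_neg, smul_neg, ← sub_eq_add_neg, ← sub_eq_add_neg]
    exact h
  obtain ⟨h2, h3⟩ := H.decomp_unique (gam_mem hQ _ hw) ((fixU F M).neg_mem (gam_mem hQ _ hw))
    (gam_mem hQ _ hw) ((fixU F M).neg_mem (gam_mem hQ _ hw)) h1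
  have h4 : gam (v 0 - v' 0) w₀ = 0 := by
    rw [sub_eq_add_neg, gam_add hQ _ _ hw, gam_neg hQ _ hw, h2, add_neg_cancel]
  have h5 : gam (v 1 - v' 1) w₀ = 0 := by
    rw [sub_eq_add_neg, gam_add hQ _ _ hw, gam_neg hQ _ hw, neg_inj.1 h3, add_neg_cancel]
  have h6 := H.gam_eq_zero hQ hw hw0 h4
  have h7 := H.gam_eq_zero hQ hw hw0 h5
  ext i
  fin_cases i
  · exact sub_eq_zero.1 h6
  · exact sub_eq_zero.1 h7

theorem IrrNT.phiFun_surjective (hw0 : w₀ ≠ 0) : Function.Surjective (phiFun (F := F) w₀) := by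
  let R : AddSubgroup M :=
    { carrier := Set.range (phiFun (F := F) w₀)
      zero_mem' := ⟨0, by unfold phiFun; simp [gam_zero]⟩
      add_mem' := by
        rintro a b ⟨v, rfl⟩ ⟨v', rfl⟩
        exact ⟨v + v', H.phiFun_add hQ hw v v'⟩
      neg_mem' := by
        rintro a ⟨v, rfl⟩
        refine ⟨-v, ?_⟩
        have := H.phiFun_add hQ hw v (-v)
        rw [add_neg_cancel] at this
        have h0 : phiFun (F := F) w₀ 0 = 0 := by unfold phiFun; simp [gam_zero]
        rw [h0] at this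
        exact (neg_eq_of_add_eq_zero_right this.symm).symm }
  have hinv : ∀ g : SL2, ∀ m ∈ R, g • m ∈ R := by
    rintro g m ⟨v, rfl⟩
    exact ⟨_, (H.smul_phiFun hQ hw g v).symm⟩
  have hw₀R : w₀ ∈ R := by
    refine ⟨![1, 0], ?_⟩
    unfold phiFun
    simp only [Matrix.cons_val_zero, Matrix.cons_val_one]
    rw [H.gam_one hQ hw, gam_zero, smul_zero, sub_zero]
  rcases H.irr R hinv with h0 | h1
  · exfalso
    rw [h0] at hw₀R
    exact hw0 hw₀R
  · intro m
    have : m ∈ R := by rw [h1]; trivial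
    exact this

end main

/-- **Main theorem**: an irreducible nontrivial `SL_2(F)`-module on which the unipotent group `U`
acts quadratically, or of order at most `|C_M(U)|²`, is the natural module. -/
theorem natural_of_quadratic_or_small [Finite M] {p : ℕ} [Fact p.Prime] (H : IrrNT F M)
    (hU : IsPGroup p (uSL F)) (hM : ∃ k, Nat.card M = p ^ k)
    (hyp : (∀ (t : F) (m : M), (t01 t : SL2) • m - m ∈ fixU F M) ∨
      Nat.card M ≤ Nat.card (fixU F M) ^ 2) :
    ∃ ψ : M ≃+ (Fin 2 → F), ∀ (g : SL2) (m : M),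
      ψ (g • m) = (g : Matrix (Fin 2) (Fin 2) F).mulVec (ψ m) := by
  have hsum : sumW F M = ⊤ := by
    rcases hyp with hq | hs
    · exact H.sumW_eq_top_of_quad hq
    · exact H.sumW_eq_top_of_small hs
  have hQ : quadW F M = fixU F M := by
    rcases hyp with hq | hs
    · exact quadW_eq_fixU_of_quad hq
    · exact H.quadW_eq_fixU_of_ne_bot (H.quadW_ne_bot_of_small hsum hU hM)
  -- a nonzero element of `W`
  have hex : ∃ w₀ ∈ fixU F M, w₀ ≠ 0 := by
    by_contra hcon
    push Not at hcon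
    obtain ⟨g, m, hgm⟩ := H.nt
    have hm : m ∈ sumW F M := by rw [hsum]; trivial
    obtain ⟨x, hx, y, hy, rfl⟩ := hm
    apply hgm
    rw [hcon x hx, hcon y hy]
    simp
  obtain ⟨w₀, hw, hw0⟩ := hex
  let φ : (Fin 2 → F) →+ M := AddMonoidHom.mk' (phiFun w₀) (H.phiFun_add hQ hw)
  have hbij : Function.Bijective φ :=
    ⟨H.phiFun_injective hQ hw hw0, H.phiFun_surjective hQ hw hw0⟩
  let e : (Fin 2 → F) ≃+ M := AddEquiv.ofBijective φ hbij
  refine ⟨e.symm, ?_⟩
  intro g m
  obtain ⟨v, rfl⟩ := e.surjective m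
  rw [AddEquiv.symm_apply_apply]
  have : g • e v = e ((g : Matrix (Fin 2) (Fin 2) F).mulVec v) := H.smul_phiFun hQ hw g v
  rw [this, AddEquiv.symm_apply_apply]

end Cfsg.Agent.Lib.Helper3.ModD
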