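import Mathlib
import Cfsg.Agent.Lib.Helper3.ModD8

/-!
# The natural-module criterion for `SL_2(F)`, multiplicative form
-/

set_option autoImplicit false

namespace Cfsg.Agent.Lib.Helper3.ModD

open Cfsg.Agent.Lib.Helper1

variable {F : Type*} [Field F] {V : Type*} [CommGroup V]

local notation "SL2" => Matrix.SpecialLinearGroup (Fin 2) F

/-- the additive action attached to a multiplicative one -/
@[reducible] def actInst (act : Matrix.SpecialLinearGroup (Fin 2) F →* MulAut V) :
    DistribMulAction (Matrix.SpecialLinearGroup (Fin 2) F) (Additive V) where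
  smul g v := Additive.ofMul (act g (Additive.toMul v))
  one_smul v := by
    show Additive.ofMul (act 1 (Additive.toMul v)) = v
    rw [map_one]
    rfl
  mul_smul g h v := by
    show Additive.ofMul (act (g * h) (Additive.toMul v)) =
      Additive.ofMul (act g (Additive.toMul (Additive.ofMul (act h (Additive.toMul v)))))
    rw [map_mul]
    rfl
  smul_zero g := by
    show Additive.ofMul (act g (Additive.toMul (0 : Additive V))) = 0
    rw [toMul_zero, map_one]
    rfl
  smul_add g a b := by
    show Additive.ofMul (act g (Additive.toMul (a + b))) =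
      Additive.ofMul (act g (Additive.toMul a)) + Additive.ofMul (act g (Additive.toMul b))
    rw [toMul_add, map_mul]
    rfl

theorem actInst_smul (act : SL2 →* MulAut V) (g : SL2) (v : Additive V) :
    (actInst act).smul g v = Additive.ofMul (act g (Additive.toMul v)) := rfl

/-- **Natural module criterion, multiplicative form.** -/
theorem natural_mul [Finite V] {p : ℕ} [Fact p.Prime] (act : SL2 →* MulAut V)
    (hirr : ∀ N : Subgroup V, (∀ (g : SL2), ∀ v ∈ N, act g v ∈ N) → N = ⊥ ∨ N = ⊤)
    (hnt : ∃ (g : SL2) (v : V), act g v ≠ v)
    (hU : IsPGroup p (uSL F)) (hM : ∃ k, Nat.card V = p ^ k)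
    (W : Subgroup V) (hW : ∀ v, v ∈ W ↔ ∀ t : F, act (t01 t) v = v)
    (hyp : (∀ (t : F) (v : V), act (t01 t) v / v ∈ W) ∨ Nat.card V ≤ Nat.card W ^ 2) :
    ∃ ψ : V ≃* Multiplicative (Fin 2 → F), ∀ (g : SL2) (v : V),
      Multiplicative.toAdd (ψ (act g v)) =
        (g : Matrix (Fin 2) (Fin 2) F).mulVec (Multiplicative.toAdd (ψ v)) := by
  let _ : DistribMulAction SL2 (Additive V) := actInst act
  have hsm : ∀ (g : SL2) (v : Additive V), g • v = Additive.ofMul (act g (Additive.toMul v)) :=
    fun _ _ => rfl
  have hfix : ∀ v : Additive V, v ∈ fixU F (Additive V) ↔ Additive.toMul v ∈ W := by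
    intro v
    rw [hW, mem_fixU]
    constructor
    · intro h t
      have := h t
      rw [hsm] at this
      exact Additive.ofMul.injective this
    · intro h t
      rw [hsm, h t]
      rfl
  have H : IrrNT F (Additive V) := by
    constructor
    · intro N hN
      rcases hirr (AddSubgroup.toSubgroup' N) (by
        intro g v hv
        exact hN g (Additive.ofMul v) hv) with h0 | h1
      · left
        rw [eq_bot_iff]
        intro v hv
        have : Additive.toMul v ∈ AddSubgroup.toSubgroup' N := hv
        rw [h0] at this
        exact this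
      · right
        rw [eq_top_iff]
        intro v _
        have : Additive.toMul v ∈ AddSubgroup.toSubgroup' N := by rw [h1]; trivial
        exact this
    · obtain ⟨g, v, hgv⟩ := hnt
      refine ⟨g, Additive.ofMul v, ?_⟩
      intro h
      apply hgv
      rw [hsm] at h
      exact Additive.ofMul.injective h
  have hcardW : Nat.card (fixU F (Additive V)) = Nat.card W := by
    apply Nat.card_congr
    exact
      { toFun := fun v => ⟨Additive.toMul (v : Additive V), (hfix _).1 v.2⟩
        invFun := fun w => ⟨Additive.ofMul (w : V), (hfix _).2 w.2⟩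
        left_inv := fun _ => rfl
        right_inv := fun _ => rfl }
  have hyp' : (∀ (t : F) (m : Additive V), (t01 t : SL2) • m - m ∈ fixU F (Additive V)) ∨
      Nat.card (Additive V) ≤ Nat.card (fixU F (Additive V)) ^ 2 := by
    rcases hyp with hq | hs
    · left
      intro t m
      rw [hfix]
      exact hq t (Additive.toMul m)
    · right
      rw [hcardW]
      exact hs
  obtain ⟨ψ, hψ⟩ := natural_of_quadratic_or_small H hU hM hyp'
  refine ⟨AddEquiv.toMultiplicativeRight ψ, ?_⟩
  intro g v
  exact hψ g (Additive.ofMul v)

end Cfsg.Agent.Lib.Helper3.ModD
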