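import Mathlib
import Cfsg.Agent.Lib.Helper3.ModD9
import Cfsg.Agent.Lib.Lead.Quad9

/-!
# The natural-module criterion for `SL_2(F)`, for subgroups of an ambient group
-/

set_option autoImplicit false

namespace Cfsg.Agent.Lib.Helper3.ModD

open Cfsg.Agent.Lib.Helper1
open Cfsg.Agent.Lib.Lead.Quad (conjAct conjAct_apply)
open scoped commutatorElement

/-- `G ≅ SL_2(F)` acting irreducibly and nontrivially on the elementary abelian `p`-group `V`, with
`[V,S,S] = 1` or `|V| ≤ |C_V(S)|²` for a Sylow `p`-subgroup `S`: then `V` is the natural module. -/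
theorem acts_natural {X : Type*} [Group X] [Finite X] {p : ℕ} [Fact p.Prime] (G V : Subgroup X)
    (hcomm : ∀ a ∈ V, ∀ b ∈ V, a * b = b * a) (hexp : ∀ v ∈ V, v ^ p = 1)
    (hGV : G ≤ Subgroup.normalizer (V : Set X))
    {F : Type*} [Field F] [Fintype F] (n : ℕ) (hF : Fintype.card F = p ^ n)
    (e₀ : ↥G ≃* Matrix.SpecialLinearGroup (Fin 2) F)
    (hirr : ∀ U : Subgroup X, U ≤ V → G ≤ Subgroup.normalizer (U : Set X) → U = ⊥ ∨ U = V)
    (hnt : ⁅V, G⁆ ≠ ⊥) (S : Sylow p ↥G)
    (hyp : ⁅⁅V, (S : Subgroup ↥G).map G.subtype⁆, (S : Subgroup ↥G).map G.subtype⁆ = ⊥ ∨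
      Nat.card ↥V ≤ Nat.card ↥(V ⊓ Subgroup.centralizer
        (((S : Subgroup ↥G).map G.subtype : Subgroup X) : Set X)) ^ 2) :
    ∃ (ρ : ↥G ≃* Matrix.SpecialLinearGroup (Fin 2) F) (ψ : ↥V ≃* Multiplicative (Fin 2 → F)),
      ∀ (g : ↥G) (v : ↥V), Multiplicative.toAdd (ψ (conjAct V G hGV g v)) =
        ((ρ g : Matrix.SpecialLinearGroup (Fin 2) F) : Matrix (Fin 2) (Fin 2) F).mulVec
          (Multiplicative.toAdd (ψ v)) := by
  have : CharP F p := charP_of_card_eq_prime_pow hF
  -- move the Sylow subgroup to the upper unitriangular group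
  obtain ⟨g₀, hg₀⟩ := sylow_SL2_eq_cj p (S.mapSurjective (f := e₀.toMonoidHom) e₀.surjective)
  let e : ↥G ≃* Matrix.SpecialLinearGroup (Fin 2) F := e₀.trans (MulAut.conj g₀⁻¹)
  have he : ∀ x : ↥G, e x = g₀⁻¹ * e₀ x * g₀ := by
    intro x
    show MulAut.conj g₀⁻¹ (e₀ x) = _
    rw [MulAut.conj_apply, inv_inv]
  have hS : ∀ x : ↥G, x ∈ (S : Subgroup ↥G) ↔ e x ∈ uSL F := by
    intro x
    rw [he, ← mem_cj, ← hg₀]
    show _ ↔ e₀ x ∈ (S : Subgroup ↥G).map e₀.toMonoidHom
    rw [Subgroup.mem_map]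
    constructor
    · intro hx
      exact ⟨x, hx, rfl⟩
    · rintro ⟨y, hy, hyx⟩
      have : y = x := e₀.injective hyx
      rw [← this]
      exact hy
  let _ : CommGroup ↥V :=
    { (inferInstance : Group ↥V) with
      mul_comm := fun a b => Subtype.ext (hcomm a a.2 b b.2) }
  let act : Matrix.SpecialLinearGroup (Fin 2) F →* MulAut ↥V :=
    (conjAct V G hGV).comp e.symm.toMonoidHom
  have hact : ∀ (g : Matrix.SpecialLinearGroup (Fin 2) F) (v : ↥V),
      ((act g v : ↥V) : X) = ((e.symm g : ↥G) : X) * v * ((e.symm g : ↥G) : X)⁻¹ := by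
    intro g v
    rfl
  have hact' : ∀ (g : ↥G) (v : ↥V), act (e g) v = conjAct V G hGV g v := by
    intro g v
    show conjAct V G hGV (e.symm (e g)) v = _
    rw [MulEquiv.symm_apply_apply]
  set S' : Subgroup X := (S : Subgroup ↥G).map G.subtype with hS'
  have hmemS' : ∀ t : F, ((e.symm (t01 t) : ↥G) : X) ∈ S' := by
    intro t
    refine Subgroup.mem_map.2 ⟨e.symm (t01 t), ?_, rfl⟩
    rw [hS, MulEquiv.apply_symm_apply]
    exact t01_mem t
  -- irreducibility
  have hirr' : ∀ N : Subgroup ↥V,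
      (∀ (g : Matrix.SpecialLinearGroup (Fin 2) F), ∀ v ∈ N, act g v ∈ N) → N = ⊥ ∨ N = ⊤ := by
    intro N hN
    have hUV : N.map V.subtype ≤ V := by
      rintro _ ⟨v, _, rfl⟩
      exact v.2
    have hnorm : G ≤ Subgroup.normalizer ((N.map V.subtype : Subgroup X) : Set X) := by
      intro g hg
      rw [Subgroup.mem_normalizer_iff]
      intro h
      constructor
      · rintro ⟨v, hv, rfl⟩
        refine ⟨act (e ⟨g, hg⟩) v, hN _ v hv, ?_⟩
        rw [hact']
        rfl
      · rintro ⟨v, hv, hvh⟩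
        refine ⟨act (e ⟨g, hg⟩⁻¹) v, hN _ v hv, ?_⟩
        rw [hact']
        show ((⟨g, hg⟩⁻¹ : ↥G) : X) * (v : X) * ((⟨g, hg⟩⁻¹ : ↥G) : X)⁻¹ = h
        have : (V.subtype v : X) = (v : X) := rfl
        rw [this] at hvh
        rw [hvh]
        simp only [Subgroup.coe_inv, inv_inv]
        group
    rcases hirr _ hUV hnorm with h0 | h1
    · left
      rw [eq_bot_iff]
      intro v hv
      have : (v : X) ∈ N.map V.subtype := ⟨v, hv, rfl⟩
      rw [h0] at this
      rw [Subgroup.mem_bot]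
      exact Subtype.ext this
    · right
      rw [eq_top_iff]
      intro v _
      have : (v : X) ∈ N.map V.subtype := by rw [h1]; exact v.2
      obtain ⟨w, hw, hwv⟩ := this
      have : w = v := Subtype.ext hwv
      rw [← this]
      exact hw
  -- nontriviality
  have hnt' : ∃ (g : Matrix.SpecialLinearGroup (Fin 2) F) (v : ↥V), act g v ≠ v := by
    by_contra hcon
    push Not at hcon
    apply hnt
    rw [Subgroup.commutator_eq_bot_iff_le_centralizer]
    intro v hv
    rw [Subgroup.mem_centralizer_iff]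
    intro g hg
    have h1 := hcon (e ⟨g, hg⟩) ⟨v, hv⟩
    rw [hact'] at h1
    have h2 := congrArg Subtype.val h1
    rw [conjAct_apply] at h2
    simp only at h2
    rw [mul_inv_eq_iff_eq_mul] at h2
    exact h2
  have hU : IsPGroup p (uSL F) := by
    apply IsPGroup.of_card (n := n)
    rw [card_uSL, Nat.card_eq_fintype_card, hF]
  have hVp : IsPGroup p ↥V := by
    intro v
    refine ⟨1, ?_⟩
    rw [pow_one]
    exact Subtype.ext (hexp v v.2)
  have hM : ∃ k, Nat.card ↥V = p ^ k := IsPGroup.iff_card.1 hVp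
  -- the fixed points
  let W : Subgroup ↥V := (V ⊓ Subgroup.centralizer (S' : Set X)).subgroupOf V
  have hW : ∀ v : ↥V, v ∈ W ↔ ∀ t : F, act (t01 t) v = v := by
    intro v
    show (v : X) ∈ V ⊓ Subgroup.centralizer (S' : Set X) ↔ _
    rw [Subgroup.mem_inf, Subgroup.mem_centralizer_iff]
    constructor
    · rintro ⟨_, hc⟩ t
      apply Subtype.ext
      rw [hact]
      rw [hc _ (hmemS' t)]
      group
    · intro h
      refine ⟨v.2, ?_⟩
      rintro s ⟨s', hs', rfl⟩
      obtain ⟨t, ht⟩ := (mem_uSL_iff _).1 ((hS s').1 hs')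
      have h1 := h t
      rw [← ht, hact'] at h1
      have h2 := congrArg Subtype.val h1
      rw [conjAct_apply] at h2
      rw [mul_inv_eq_iff_eq_mul] at h2
      exact h2
  have hcardW : Nat.card W = Nat.card ↥(V ⊓ Subgroup.centralizer (S' : Set X)) :=
    Nat.card_congr (Subgroup.subgroupOfEquivOfLe inf_le_left).toEquiv
  have hyp' : (∀ (t : F) (v : ↥V), act (t01 t) v / v ∈ W) ∨ Nat.card ↥V ≤ Nat.card W ^ 2 := by
    rcases hyp with hq | hs
    · left
      intro t v
      show ((act (t01 t) v / v : ↥V) : X) ∈ V ⊓ Subgroup.centralizer (S' : Set X)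
      refine ⟨(act (t01 t) v / v : ↥V).2, ?_⟩
      have h1 : ((act (t01 t) v / v : ↥V) : X) = ⁅((e.symm (t01 t) : ↥G) : X), (v : X)⁆ := by
        rw [Subgroup.coe_div, hact, commutatorElement_def, div_eq_mul_inv]
      have h2 : ((act (t01 t) v / v : ↥V) : X) ∈ ⁅V, S'⁆ := by
        rw [h1, Subgroup.commutator_comm]
        exact Subgroup.commutator_mem_commutator (hmemS' t) v.2
      show ((act (t01 t) v / v : ↥V) : X) ∈ Subgroup.centralizer (S' : Set X)
      rw [Subgroup.mem_centralizer_iff]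
      intro s hs
      have h3 : ⁅((act (t01 t) v / v : ↥V) : X), s⁆ ∈ ⁅⁅V, S'⁆, S'⁆ :=
        Subgroup.commutator_mem_commutator h2 hs
      rw [hq, Subgroup.mem_bot, commutatorElement_eq_one_iff_mul_comm] at h3
      exact h3.symm
    · right
      rw [hcardW]
      exact hs
  obtain ⟨ψ, hψ⟩ := natural_mul act hirr' hnt' hU hM W hW hyp'
  refine ⟨e, ψ, ?_⟩
  intro g v
  rw [← hact']
  exact hψ (e g) v

end Cfsg.Agent.Lib.Helper3.ModD
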