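import Mathlib
import Cfsg.Agent.S0989
import Cfsg.Agent.S0990
import Cfsg.Agent.S0991

set_option autoImplicit false

namespace Cfsg.Agent.Lib.Helper3.NS

variable {G : Type*} [Group G] [Finite G]

omit [Finite G] in
theorem not_isMulCommutative_of_not_prime [IsSimpleGroup G] (h : ¬ (Nat.card G).Prime) :
    ¬ IsMulCommutative G := by
  intro hc
  apply h
  let _ : CommGroup G := { ‹Group G› with mul_comm := hc.is_comm.comm }
  exact IsSimpleGroup.prime_card (α := G)

/-- a nonabelian simple group with a subgroup of index `n` has order dividing `n!` (even `n!/2`) -/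
theorem two_mul_card_dvd_factorial [IsSimpleGroup G] (hG : ¬ IsMulCommutative G) (H : Subgroup G)
    (hH : H ≠ ⊤) : 2 * Nat.card G ∣ (H.index).factorial := by
  obtain ⟨f, hf⟩ := Cfsg.Agent.S0991.result hG H hH
  have h1 : Nat.card G ∣ Nat.card (alternatingGroup (Fin H.index)) := by
    have := Subgroup.card_subgroup_dvd_card f.range
    rwa [← Nat.card_congr (MonoidHom.ofInjective hf).toEquiv] at this
  have hidx : 2 ≤ H.index := by
    have h0 : H.index ≠ 0 := Subgroup.index_ne_zero_of_finite
    have h1 : H.index ≠ 1 := fun h => hH (Subgroup.index_eq_one.mp h)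
    omega
  have : Nontrivial (Fin H.index) := Fin.nontrivial_iff_two_le.mpr hidx
  have h2 := two_mul_card_alternatingGroup (α := Fin H.index)
  rw [Fintype.card_perm, Fintype.card_fin] at h2
  rw [← h2, ← Nat.card_eq_fintype_card]
  exact Nat.mul_dvd_mul_left 2 h1

/-- If a Sylow `p`-subgroup `P` of order `p` (`p` odd) of a nonabelian simple group has exactly
`p` or `p + 1` conjugates, then `2 |N(P)|` divides `p (p - 1)`. -/
theorem two_mul_card_normalizer_dvd [IsSimpleGroup G] (hG : ¬ IsMulCommutative G) {p : ℕ}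
    [hp : Fact p.Prime] (hp2 : p ≠ 2) (P : Sylow p G) (hP : Nat.card (P : Subgroup G) = p)
    (hidx : (Subgroup.normalizer ((P : Subgroup G) : Set G)).index = p ∨
      (Subgroup.normalizer ((P : Subgroup G) : Set G)).index = p + 1) :
    2 * Nat.card (Subgroup.normalizer ((P : Subgroup G) : Set G)) ∣ p * (p - 1) := by
  classical
  set N := Subgroup.normalizer ((P : Subgroup G) : Set G) with hN
  have hp' : p.Prime := hp.out
  have hNtop : N ≠ ⊤ := by
    intro h
    rw [h, Subgroup.index_top] at hidx
    have := hp'.two_le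
    omega
  set A := alternatingGroup (Fin N.index) with hA
  obtain ⟨f, hf⟩ : ∃ f : G →* ↥A, Function.Injective f := Cfsg.Agent.S0991.result hG N hNtop
  have hcardα : Fintype.card (Fin N.index) = p ∨ Fintype.card (Fin N.index) = p + 1 := by
    rw [Fintype.card_fin]; exact hidx
  have hα2 : 2 ≤ Fintype.card (Fin N.index) := by
    have := hp'.two_le
    rcases hcardα with h | h <;> omega
  set P₁ : Subgroup A := (P : Subgroup G).map f with hP₁
  set P₂ : Subgroup (Equiv.Perm (Fin N.index)) := P₁.map A.subtype with hP₂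
  have hcard₁ : Nat.card P₁ = p := by
    rw [← hP]
    exact (Nat.card_congr ((P : Subgroup G).equivMapOfInjective f hf).toEquiv).symm
  have hcard₂ : Nat.card P₂ = p := by
    rw [← hcard₁]
    exact (Nat.card_congr (P₁.equivMapOfInjective _ A.subtype_injective).toEquiv).symm
  have hfac : (Nat.card (Equiv.Perm (Fin N.index))).factorization p = 1 := by
    rw [Nat.card_eq_fintype_card, Fintype.card_perm]
    have h0 : (p.factorial).factorization p = 1 := by
      obtain ⟨q, hq⟩ : ∃ q, p = q + 1 := ⟨p - 1, by have := hp'.pos; omega⟩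
      have hnd : ¬ p ∣ q.factorial := by
        rw [hp'.dvd_factorial]; omega
      conv_lhs => rw [hq, Nat.factorial_succ, ← hq]
      rw [Nat.factorization_mul hp'.ne_zero (Nat.factorial_ne_zero _)]
      simp [hp'.factorization_self, Nat.factorization_eq_zero_of_not_dvd hnd]
    rcases hcardα with h | h
    · rw [h, h0]
    · rw [h, Nat.factorial_succ, Nat.factorization_mul (by omega) (Nat.factorial_ne_zero _)]
      have hnd : ¬ p ∣ p + 1 := by
        intro hd
        have : p ∣ 1 := (Nat.dvd_add_right (dvd_refl p)).mp hd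
        exact hp'.one_lt.ne' (Nat.dvd_one.mp this)
      simp [h0, Nat.factorization_eq_zero_of_not_dvd hnd]
  let Q : Sylow p (Equiv.Perm (Fin N.index)) := Sylow.ofCard P₂ (by rw [hcard₂, hfac, pow_one])
  have hQ : (Q : Subgroup (Equiv.Perm (Fin N.index))) = P₂ := rfl
  have h89 := Cfsg.Agent.S0989.result p hcardα Q
  obtain ⟨-, h90⟩ := Cfsg.Agent.S0990.result hα2 p hp2 Q
  rw [h89, hQ] at h90
  have hsub : P₂.subgroupOf A = P₁ := by
    rw [hP₂, Subgroup.subgroupOf, Subgroup.comap_map_eq_self_of_injective A.subtype_injective]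
  rw [hsub] at h90
  have hle : N.map f ≤ Subgroup.normalizer ((P₁ : Subgroup A) : Set A) := by
    rw [hP₁]
    exact Subgroup.le_normalizer_map f
  have hcardN : Nat.card (N.map f) = Nat.card N :=
    (Nat.card_congr (N.equivMapOfInjective f hf).toEquiv).symm
  have hdvd := Subgroup.card_dvd_of_le hle
  rw [hcardN] at hdvd
  rw [← h90]
  exact Nat.mul_dvd_mul_left 2 hdvd

end Cfsg.Agent.Lib.Helper3.NS
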