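import Mathlib
import Cfsg.Agent.Lib.Helper3.NS1
import Cfsg.Agent.Lib.Helper3.SylowCount

set_option autoImplicit false

namespace Cfsg.Agent.Lib.Helper3.NS

variable {G : Type*} [Group G] [Finite G]

/-- a subgroup containing two distinct Sylow `p`-subgroups has at least `p + 1` of them, and
their number divides the index of a Sylow subgroup -/
theorem card_sylow_subgroup_of_two {p : ℕ} [hp : Fact p.Prime] (H : Subgroup G) (P R : Sylow p G)
    (hP : (P : Subgroup G) ≤ H) (hR : (R : Subgroup G) ≤ H) (hne : P ≠ R) :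
    p + 1 ≤ Nat.card (Sylow p H) ∧
      Nat.card (Sylow p H) * Nat.card (P : Subgroup G) ∣ Nat.card H := by
  have hmod : Nat.card (Sylow p H) ≡ 1 [MOD p] := card_sylow_modEq_one p H
  have hne' : P.subtype hP ≠ R.subtype hR := by
    intro h
    apply hne
    apply Sylow.ext
    have h1 : ((P.subtype hP : Sylow p H) : Subgroup H) = ((R.subtype hR : Sylow p H) : Subgroup H) := by
      rw [h]
    rw [Sylow.coe_subtype, Sylow.coe_subtype] at h1
    have h2 := congrArg (Subgroup.map H.subtype) h1
    rwa [Subgroup.map_subgroupOf_eq_of_le hP, Subgroup.map_subgroupOf_eq_of_le hR] at h2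
  have h2 : 2 ≤ Nat.card (Sylow p H) := by
    have : Fintype (Sylow p H) := Fintype.ofFinite _
    rw [Nat.card_eq_fintype_card]
    exact Fintype.one_lt_card_iff.mpr ⟨_, _, hne'⟩
  constructor
  · have hp2 := hp.out.two_le
    have h3 : Nat.card (Sylow p H) % p = 1 := by
      have := hmod
      unfold Nat.ModEq at this
      rw [this, Nat.mod_eq_of_lt (by omega)]
    by_contra hcon
    push Not at hcon
    have h4 : Nat.card (Sylow p H) < p ∨ Nat.card (Sylow p H) = p := by omega
    rcases h4 with h4 | h4
    · rw [Nat.mod_eq_of_lt h4] at h3; omega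
    · rw [h4, Nat.mod_self] at h3; omega
  · have h3 := (P.subtype hP).card_dvd_index
    have h4 := ((P.subtype hP : Sylow p H) : Subgroup H).index_mul_card
    rw [Sylow.coe_subtype] at h3 h4
    have h5 : Nat.card ((P : Subgroup G).subgroupOf H) = Nat.card (P : Subgroup G) :=
      Nat.card_congr (Subgroup.subgroupOfEquivOfLe hP).toEquiv
    rw [h5] at h4
    rw [← h4]
    exact Nat.mul_dvd_mul_right h3 _

end Cfsg.Agent.Lib.Helper3.NS
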