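import Mathlib
import Cfsg.Agent.Lib.Helper8.SmTwoB
import Cfsg.Agent.Lib.Helper4.NgpDefs
import Cfsg.Agent.Lib.Helper5.NgpNE1lba

set_option autoImplicit false

/-! S1904, package NC, part a: class-two calculus (`NcCtx`), involutions are central, the squaring
homomorphism `X → Z / ℧¹(Z)` and the bound `|X : Z| ≤ 4`. -/

namespace Cfsg.Agent.Lib.Helper4.Ngp

open Cfsg.Agent.Lib.Helper8.SmTwo
open scoped commutatorElement

universe u

variable {G : Type u} [Group G]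

/-- class-two context: `Z` is central in `X` and contains all commutators and all squares -/
structure NcCtx (X Z : Subgroup G) : Prop where
  hZX : Z ≤ X
  cen : ∀ z ∈ Z, ∀ x ∈ X, z * x = x * z
  comm : ∀ x ∈ X, ∀ y ∈ X, ⁅x, y⁆ ∈ Z
  sq : ∀ x ∈ X, x ^ 2 ∈ Z

namespace NcCtx

variable {X Z : Subgroup G}

theorem comm_mul_right (hc : NcCtx X Z) {x u v : G} (hx : x ∈ X) (hu : u ∈ X) (hv : v ∈ X) :
    ⁅x, u * v⁆ = ⁅x, u⁆ * ⁅x, v⁆ := by
  have h1 : ⁅x, u * v⁆ = ⁅x, u⁆ * (u * ⁅x, v⁆ * u⁻¹) := by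
    simp only [commutatorElement_def]; group
  have h2 : u * ⁅x, v⁆ * u⁻¹ = ⁅x, v⁆ := by
    rw [← hc.cen _ (hc.comm x hx v hv) u hu, mul_inv_cancel_right]
  rw [h1, h2]

theorem comm_mul_left (hc : NcCtx X Z) {x u v : G} (hx : x ∈ X) (hu : u ∈ X) (hv : v ∈ X) :
    ⁅u * v, x⁆ = ⁅u, x⁆ * ⁅v, x⁆ := by
  have h1 : ⁅u * v, x⁆ = (u * ⁅v, x⁆ * u⁻¹) * ⁅u, x⁆ := by
    simp only [commutatorElement_def]; group
  have h2 : u * ⁅v, x⁆ * u⁻¹ = ⁅v, x⁆ := by
    rw [← hc.cen _ (hc.comm v hv x hx) u hu, mul_inv_cancel_right]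
  rw [h1, h2]
  exact hc.cen _ (hc.comm v hv x hx) _ (hc.hZX (hc.comm u hu x hx))

theorem comm_sq (hc : NcCtx X Z) {x y : G} (hx : x ∈ X) (hy : y ∈ X) : ⁅x, y⁆ ^ 2 = 1 := by
  rw [pow_two, ← hc.comm_mul_left hy hx hx, ← pow_two, SpCtx.comm_eq_one_iff]
  exact hc.cen _ (hc.sq x hx) y hy

theorem comm_symm (hc : NcCtx X Z) {x y : G} (hx : x ∈ X) (hy : y ∈ X) : ⁅y, x⁆ = ⁅x, y⁆ := by
  have h1 : ⁅y, x⁆ = ⁅x, y⁆⁻¹ := (commutatorElement_inv x y).symm
  have h2 := hc.comm_sq hx hy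
  rw [h1, inv_eq_iff_mul_eq_one, ← pow_two, h2]

theorem comm_inv_left (hc : NcCtx X Z) {g x : G} (hg : g ∈ X) (hx : x ∈ X) :
    ⁅g⁻¹, x⁆ = ⁅g, x⁆ := by
  have h1 : ⁅g, x⁆ * ⁅g⁻¹, x⁆ = 1 := by
    rw [← hc.comm_mul_left hx hg (X.inv_mem hg), mul_inv_cancel]
    simp [commutatorElement_def]
  have h2 : ⁅g, x⁆ * ⁅g, x⁆ = 1 := by
    rw [← pow_two]; exact hc.comm_sq hg hx
  exact mul_left_cancel (h1.trans h2.symm)

theorem comm_inv_right (hc : NcCtx X Z) {g x : G} (hg : g ∈ X) (hx : x ∈ X) :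
    ⁅x, g⁻¹⁆ = ⁅x, g⁆ := by
  rw [hc.comm_symm (X.inv_mem hg) hx, hc.comm_symm hg hx]
  exact hc.comm_inv_left hg hx

/-- `(u v)² = u² v² ⁅v, u⁆` -/
theorem sq_mul (hc : NcCtx X Z) {u v : G} (hu : u ∈ X) (hv : v ∈ X) :
    (u * v) ^ 2 = u ^ 2 * v ^ 2 * ⁅v, u⁆ := by
  have hcz := hc.cen _ (hc.comm v hv u hu)
  have h1 : v * u = ⁅v, u⁆ * (u * v) := by
    simp only [commutatorElement_def]; group
  calc (u * v) ^ 2 = u * (v * u) * v := by rw [pow_two]; group
    _ = u * (⁅v, u⁆ * (u * v)) * v := by rw [h1]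
    _ = (u * ⁅v, u⁆) * (u * v * v) := by group
    _ = (⁅v, u⁆ * u) * (u * v * v) := by rw [hcz u hu]
    _ = ⁅v, u⁆ * (u ^ 2 * v ^ 2) := by rw [pow_two, pow_two]; group
    _ = u ^ 2 * v ^ 2 * ⁅v, u⁆ := by
      rw [hcz _ (X.mul_mem (X.pow_mem hu 2) (X.pow_mem hv 2))]

/-- all commutators of `Z ⊔ ⟨x⟩ ⊔ ⟨y⟩` lie in `⟨⁅x, y⁆⟩` -/
theorem comm_mem_zpowers (hc : NcCtx X Z) {x y : G} (hx : x ∈ X) (hy : y ∈ X) :
    ∀ a ∈ Z ⊔ Subgroup.zpowers x ⊔ Subgroup.zpowers y,
      ∀ b ∈ Z ⊔ Subgroup.zpowers x ⊔ Subgroup.zpowers y, ⁅a, b⁆ ∈ Subgroup.zpowers ⁅x, y⁆ := by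
  set K := Subgroup.zpowers ⁅x, y⁆ with hK
  have hxy : ⁅x, y⁆ ∈ K := Subgroup.mem_zpowers _
  have hScl : Z ⊔ Subgroup.zpowers x ⊔ Subgroup.zpowers y
      = Subgroup.closure ((Z : Set G) ∪ {x} ∪ {y}) := by
    rw [Subgroup.closure_union, Subgroup.closure_union, Subgroup.closure_eq,
      ← Subgroup.zpowers_eq_closure, ← Subgroup.zpowers_eq_closure]
  have key1 : ∀ g ∈ Z ⊔ Subgroup.zpowers x ⊔ Subgroup.zpowers y,
      g ∈ X ∧ ⁅g, x⁆ ∈ K ∧ ⁅g, y⁆ ∈ K := by
    intro g hg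
    rw [hScl] at hg
    induction hg using Subgroup.closure_induction with
    | mem g hg =>
      rcases hg with (hg | hg) | hg
      · refine ⟨hc.hZX hg, ?_, ?_⟩
        · have : ⁅g, x⁆ = 1 := by rw [SpCtx.comm_eq_one_iff]; exact hc.cen g hg x hx
          rw [this]; exact K.one_mem
        · have : ⁅g, y⁆ = 1 := by rw [SpCtx.comm_eq_one_iff]; exact hc.cen g hg y hy
          rw [this]; exact K.one_mem
      · rw [Set.mem_singleton_iff] at hg
        subst hg
        refine ⟨hx, ?_, hxy⟩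
        rw [SpCtx.comm_self]; exact K.one_mem
      · rw [Set.mem_singleton_iff] at hg
        subst hg
        refine ⟨hy, ?_, ?_⟩
        · rw [hc.comm_symm hx hy]; exact hxy
        · rw [SpCtx.comm_self]; exact K.one_mem
    | one =>
      refine ⟨X.one_mem, ?_, ?_⟩ <;>
      · have : ∀ w : G, ⁅(1 : G), w⁆ = 1 := fun w => by simp [commutatorElement_def]
        rw [this]; exact K.one_mem
    | mul a b _ _ iha ihb =>
      refine ⟨X.mul_mem iha.1 ihb.1, ?_, ?_⟩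
      · rw [hc.comm_mul_left hx iha.1 ihb.1]; exact K.mul_mem iha.2.1 ihb.2.1
      · rw [hc.comm_mul_left hy iha.1 ihb.1]; exact K.mul_mem iha.2.2 ihb.2.2
    | inv a _ iha =>
      refine ⟨X.inv_mem iha.1, ?_, ?_⟩
      · rw [hc.comm_inv_left iha.1 hx]; exact iha.2.1
      · rw [hc.comm_inv_left iha.1 hy]; exact iha.2.2
  intro a ha b hb
  obtain ⟨haX, hax, hay⟩ := key1 a ha
  rw [hScl] at hb
  have key2 : b ∈ X ∧ ⁅a, b⁆ ∈ K := by
    induction hb using Subgroup.closure_induction with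
    | mem g hg =>
      rcases hg with (hg | hg) | hg
      · refine ⟨hc.hZX hg, ?_⟩
        have : ⁅a, g⁆ = 1 := by
          rw [SpCtx.comm_eq_one_iff]; exact (hc.cen g hg a haX).symm
        rw [this]; exact K.one_mem
      · rw [Set.mem_singleton_iff] at hg
        subst hg
        exact ⟨hx, hax⟩
      · rw [Set.mem_singleton_iff] at hg
        subst hg
        exact ⟨hy, hay⟩
    | one =>
      refine ⟨X.one_mem, ?_⟩
      rw [SpCtx.comm_one_right]; exact K.one_mem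
    | mul c d _ _ ihc ihd =>
      refine ⟨X.mul_mem ihc.1 ihd.1, ?_⟩
      rw [hc.comm_mul_right haX ihc.1 ihd.1]; exact K.mul_mem ihc.2 ihd.2
    | inv c _ ihc =>
      refine ⟨X.inv_mem ihc.1, ?_⟩
      rw [hc.comm_inv_right ihc.1 haX]; exact ihc.2
  exact key2.2

end NcCtx

/-- an involution `t` of `X` lies in the central four-group `E ⊇ X'`: otherwise `E⟨t⟩` is a
normal elementary abelian subgroup of order `8` -/
theorem nc_invol_mem [Finite G] {X E : Subgroup G} (hN : NoNormalE8 X) (hEX : E ≤ X)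
    (hcard : Nat.card E = 4) (hexp : ∀ e ∈ E, e ^ 2 = 1)
    (hcen : ∀ e ∈ E, ∀ x ∈ X, e * x = x * e)
    (hcomm : ∀ x ∈ X, ∀ y ∈ X, ⁅x, y⁆ ∈ E)
    {t : G} (ht : t ∈ X) (ht2 : t ^ 2 = 1) : t ∈ E := by
  by_contra htE
  have htt : t * t = 1 := by rw [← pow_two]; exact ht2
  have htinv : t⁻¹ = t := inv_eq_of_mul_eq_one_right htt
  -- elements `g` with `g t ∈ E` commute with `t`
  have hcomt : ∀ g : G, g * t ∈ E → g * t = t * g := by
    intro g hg
    have h1 := hcen _ hg t ht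
    -- g * t * t = t * (g * t)
    have h2 : g = t * (g * t) := by
      rw [← h1, mul_assoc, htt, mul_one]
    calc g * t = t * (t * (g * t)) := by rw [← mul_assoc, htt, one_mul]
      _ = t * g := by rw [← h2]
  let F : Subgroup G :=
    { carrier := {g | g ∈ E ∨ g * t ∈ E}
      one_mem' := Or.inl E.one_mem
      mul_mem' := by
        intro a b ha hb
        rcases ha with ha | ha <;> rcases hb with hb | hb
        · exact Or.inl (E.mul_mem ha hb)
        · right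
          rw [mul_assoc]
          exact E.mul_mem ha hb
        · right
          have h1 := hcen b hb t ht
          rw [mul_assoc, h1, ← mul_assoc]
          exact E.mul_mem ha hb
        · left
          have h1 := hcomt b hb
          have e : a * b = (a * t) * (b * t) := by
            rw [h1, mul_assoc, ← mul_assoc t t b, htt, one_mul]
          rw [e]
          exact E.mul_mem ha hb
      inv_mem' := by
        intro a ha
        rcases ha with ha | ha
        · exact Or.inl (E.inv_mem ha)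
        · right
          have h1 := hcomt a ha
          have e : a⁻¹ * t = (a * t)⁻¹ := by
            rw [h1, mul_inv_rev, htinv]
          rw [e]
          exact E.inv_mem ha }
  have hmemF : ∀ g : G, g ∈ F ↔ g ∈ E ∨ g * t ∈ E := fun g => Iff.rfl
  have hEF : E ≤ F := fun g hg => Or.inl hg
  have htF : t ∈ F := Or.inr (by rw [htt]; exact E.one_mem)
  have hFX : F ≤ X := by
    intro g hg
    rcases hg with hg | hg
    · exact hEX hg
    · have : g = (g * t) * t⁻¹ := by group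
      rw [this]
      exact X.mul_mem (hEX hg) (X.inv_mem ht)
  have hFexp : ∀ g ∈ F, g ^ 2 = 1 := by
    intro g hg
    rcases hg with hg | hg
    · exact hexp g hg
    · have h1 := hexp _ hg
      have h2 := hcomt g hg
      have e : (g * t) ^ 2 = g ^ 2 := by
        rw [pow_two, pow_two]
        nth_rewrite 2 [h2]
        rw [mul_assoc, ← mul_assoc t t g, htt, one_mul]
      rw [← e]; exact h1
  have hconj : ∀ x ∈ X, ∀ k ∈ F, x * k * x⁻¹ ∈ F := by
    intro x hx k hk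
    have hkX := hFX hk
    rcases hk with hk | hk
    · left
      have h1 := hcen k hk x hx
      have : x * k * x⁻¹ = k := by rw [← h1, mul_inv_cancel_right]
      rw [this]; exact hk
    · right
      have e : x * k * x⁻¹ * t = ⁅x, k⁆ * (k * t) := by
        rw [commutatorElement_def]; group
      rw [e]
      exact E.mul_mem (hcomm x hx k hkX) hk
  have hXF : X ≤ Subgroup.normalizer (F : Set G) := by
    intro x hx
    refine mem_normalizer_of_conj_mem (hconj x hx) (fun k hk => ?_)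
    have := hconj x⁻¹ (X.inv_mem hx) k hk
    simpa using this
  have h4 := hN F hFX hXF hFexp
  have hdvd := Subgroup.card_dvd_of_le hEF
  obtain ⟨m, hm⟩ := hdvd
  have hne : Nat.card F ≠ Nat.card E := by
    intro h
    have := Subgroup.eq_of_le_of_card_ge hEF (le_of_eq h)
    exact htE (this ▸ htF)
  have hpos : 0 < Nat.card F := Nat.card_pos
  rw [hcard] at hm hne
  rcases m with _ | _ | m
  · omega
  · omega
  · omega

/-- the squaring map induces an injection of `X / Z` into `Z / ℧¹(Z)`, so `|X| ≤ 4 |Z|` when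
`|Ω₁(Z)| = 4` -/
theorem nc_card_le [Finite G] {X Z : Subgroup G} (hc : NcCtx X Z) (hZab : IsAb Z)
    (hE : Nat.card (om Z 1) = 4)
    (hcommP : ∀ x ∈ X, ∀ y ∈ X, ⁅x, y⁆ ∈ pw Z 1)
    (hinv : ∀ t ∈ X, t ^ 2 = 1 → t ∈ Z) :
    Nat.card X ≤ 4 * Nat.card Z := by
  have hPZ : pw Z 1 ≤ Z := pw_le Z 1
  have hnorm : ((pw Z 1).subgroupOf Z).Normal := by
    refine ⟨fun n hn g => ?_⟩
    have : g * n * g⁻¹ = n := by
      apply Subtype.ext
      have h1 := hZab g g.2 n n.2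
      show (g : G) * n * (g : G)⁻¹ = n
      rw [h1, mul_inv_cancel_right]
    rw [this]; exact hn
  let σ : ↥X →* ↥Z ⧸ (pw Z 1).subgroupOf Z :=
    { toFun := fun x => QuotientGroup.mk (⟨(x : G) ^ 2, hc.sq x x.2⟩ : ↥Z)
      map_one' := by
        have : (⟨((1 : ↥X) : G) ^ 2, hc.sq _ (1 : ↥X).2⟩ : ↥Z) = 1 :=
          Subtype.ext (by simp)
        rw [this]; rfl
      map_mul' := by
        intro x y
        rw [← QuotientGroup.mk_mul, QuotientGroup.eq, Subgroup.mem_subgroupOf]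
        have h1 := hc.sq_mul x.2 y.2
        have h2 : ((x : G) * y) ^ 2 = ⁅(y : G), (x : G)⁆ * ((x : G) ^ 2 * (y : G) ^ 2) := by
          rw [h1]
          exact (hc.cen _ (hc.comm y y.2 x x.2) _
            (X.mul_mem (X.pow_mem x.2 2) (X.pow_mem y.2 2))).symm
        have e : (((⟨((x * y : ↥X) : G) ^ 2, hc.sq _ (x * y).2⟩ : ↥Z)⁻¹ *
            ((⟨(x : G) ^ 2, hc.sq x x.2⟩ : ↥Z) * (⟨(y : G) ^ 2, hc.sq y y.2⟩ : ↥Z)) : ↥Z) : G)
            = ⁅(y : G), (x : G)⁆⁻¹ := by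
          show (((x : G) * y) ^ 2)⁻¹ * ((x : G) ^ 2 * (y : G) ^ 2) = _
          rw [h1, mul_inv_rev, inv_mul_cancel_right]
        rw [e]
        exact (pw Z 1).inv_mem (hcommP y y.2 x x.2) }
  have hσ : ∀ x : ↥X, σ x = QuotientGroup.mk (⟨(x : G) ^ 2, hc.sq x x.2⟩ : ↥Z) := fun x => rfl
  -- the kernel is `Z`
  have hker : ∀ x : ↥X, x ∈ σ.ker → (x : G) ∈ Z := by
    intro x hx
    rw [MonoidHom.mem_ker, hσ, QuotientGroup.eq_one_iff, Subgroup.mem_subgroupOf] at hx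
    have hx' : (x : G) ^ 2 ∈ pw Z 1 := hx
    rw [mem_pw hZab] at hx'
    obtain ⟨w, hw, hxw⟩ := hx'
    rw [pow_one] at hxw
    have hcw : Commute (x : G) w⁻¹ := by
      have := hc.cen w⁻¹ (Z.inv_mem hw) x x.2
      exact this.symm
    have h1 : ((x : G) * w⁻¹) ^ 2 = 1 := by
      rw [hcw.mul_pow, hxw, inv_pow, mul_inv_cancel]
    have h2 := hinv _ (X.mul_mem x.2 (X.inv_mem (hc.hZX hw))) h1
    have : (x : G) = ((x : G) * w⁻¹) * w := by group
    rw [this]
    exact Z.mul_mem h2 hw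
  have hk : Nat.card σ.ker ≤ Nat.card Z :=
    Nat.card_le_card_of_injective (fun x : σ.ker => (⟨((x : ↥X) : G), hker x x.2⟩ : ↥Z))
      (fun a b hab => by
        have := congrArg Subtype.val hab
        exact Subtype.ext (Subtype.ext this))
  have h1 : Nat.card σ.ker * σ.ker.index = Nat.card X := Subgroup.card_mul_index σ.ker
  have h2 : σ.ker.index = Nat.card σ.range := Subgroup.index_ker σ
  have h3 : Nat.card σ.range ≤ Nat.card (↥Z ⧸ (pw Z 1).subgroupOf Z) :=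
    Nat.card_le_card_of_injective Subtype.val Subtype.val_injective
  have h4 : Nat.card (↥Z ⧸ (pw Z 1).subgroupOf Z) = (pw Z 1).relIndex Z := rfl
  have h5 : (pw Z 1).relIndex Z * Nat.card (pw Z 1) = Nat.card Z :=
by
    have := Subgroup.relIndex_mul_relIndex (⊥ : Subgroup G) (pw Z 1) Z bot_le hPZ
    rw [Subgroup.relIndex_bot_left, Subgroup.relIndex_bot_left] at this
    rw [mul_comm]; exact this
  have h6 := card_om_mul_card_pw hZab 1
  rw [hE] at h6
  have hpos : 0 < Nat.card (pw Z 1) := Nat.card_pos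
  have h7 : (pw Z 1).relIndex Z = 4 := by
    have : (pw Z 1).relIndex Z * Nat.card (pw Z 1) = 4 * Nat.card (pw Z 1) := by
      rw [h5, h6]
    exact Nat.eq_of_mul_eq_mul_right hpos this
  have h8 : σ.ker.index ≤ 4 := by
    rw [h2]; rw [h4, h7] at h3; exact h3
  calc Nat.card X = Nat.card σ.ker * σ.ker.index := h1.symm
    _ ≤ Nat.card Z * 4 := Nat.mul_le_mul hk h8
    _ = 4 * Nat.card Z := mul_comm _ _

/-- a subgroup of index at most four is supplemented by two cyclic subgroups -/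
theorem nc_two_generators [Finite G] {X Z : Subgroup G} (hZX : Z ≤ X)
    (hcard : Nat.card X ≤ 4 * Nat.card Z) :
    ∃ x ∈ X, ∃ y ∈ X, Z ⊔ Subgroup.zpowers x ⊔ Subgroup.zpowers y = X := by
  by_cases h0 : Z = X
  · refine ⟨1, X.one_mem, 1, X.one_mem, ?_⟩
    rw [Subgroup.zpowers_one_eq_bot, sup_bot_eq, sup_bot_eq]; exact h0
  obtain ⟨x, hx, hxZ, hW1X, hW1card⟩ := ne1_step hZX h0
  by_cases h1 : Z ⊔ Subgroup.zpowers x = X
  · refine ⟨x, hx, 1, X.one_mem, ?_⟩
    rw [Subgroup.zpowers_one_eq_bot, sup_bot_eq]; exact h1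
  · obtain ⟨y, hy, hyW, hW2X, hW2card⟩ := ne1_step hW1X h1
    refine ⟨x, hx, y, hy, ?_⟩
    have h2 := Subgroup.card_le_of_le hW2X
    exact Subgroup.eq_of_le_of_card_ge hW2X (by omega)

end Cfsg.Agent.Lib.Helper4.Ngp
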