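import Mathlib
import Cfsg.Agent.Lib.Helper8.SmTwoDefs
import Cfsg.Agent.Lib.Helper8.SmTwoB
import Cfsg.Agent.Lib.Lead.Frattini

set_option autoImplicit false

/-! S4409, package PF: the subgroup `phi2 Y` (commutators and squares) and Lemma 2B. -/

namespace Cfsg.Agent.Lib.Helper8.SmTwo

universe u

open scoped commutatorElement

variable {G : Type u} [Group G]

theorem phi2_le (Y : Subgroup G) : phi2 Y ≤ Y := by
  show ⁅Y, Y⁆ ⊔ Subgroup.closure {g : G | ∃ x ∈ Y, g = x ^ 2} ≤ Y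
  refine sup_le ?_ ?_
  · rw [Subgroup.commutator_le]
    intro a ha b hb
    rw [commutatorElement_def]
    exact Y.mul_mem (Y.mul_mem (Y.mul_mem ha hb) (Y.inv_mem ha)) (Y.inv_mem hb)
  · rw [Subgroup.closure_le]
    rintro g ⟨x, hx, rfl⟩
    exact Y.pow_mem hx 2

theorem commutator_le_phi2 (Y : Subgroup G) : ⁅Y, Y⁆ ≤ phi2 Y := by
  show ⁅Y, Y⁆ ≤ ⁅Y, Y⁆ ⊔ Subgroup.closure {g : G | ∃ x ∈ Y, g = x ^ 2}
  exact le_sup_left

theorem sq_mem_phi2 (Y : Subgroup G) {x : G} (hx : x ∈ Y) : x ^ 2 ∈ phi2 Y := by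
  show x ^ 2 ∈ ⁅Y, Y⁆ ⊔ Subgroup.closure {g : G | ∃ x ∈ Y, g = x ^ 2}
  exact (le_sup_right : Subgroup.closure {g : G | ∃ x ∈ Y, g = x ^ 2} ≤ _)
    (Subgroup.subset_closure ⟨x, hx, rfl⟩)

theorem pf_conj_mem_phi2 (Y : Subgroup G) {g : G} (hg : g ∈ Subgroup.normalizer (Y : Set G)) :
    ∀ x ∈ phi2 Y, g * x * g⁻¹ ∈ phi2 Y := by
  have hconj : ∀ y ∈ Y, g * y * g⁻¹ ∈ Y := fun y hy =>
    (Subgroup.mem_normalizer_iff.mp hg y).mp hy
  have key : ⁅Y, Y⁆ ⊔ Subgroup.closure {g : G | ∃ x ∈ Y, g = x ^ 2} ≤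
      (phi2 Y).comap (MulAut.conj g).toMonoidHom := by
    refine sup_le ?_ ?_
    · rw [Subgroup.commutator_le]
      intro a ha b hb
      rw [Subgroup.mem_comap]
      show g * ⁅a, b⁆ * g⁻¹ ∈ phi2 Y
      have e : g * ⁅a, b⁆ * g⁻¹ = ⁅g * a * g⁻¹, g * b * g⁻¹⁆ := by
        simp only [commutatorElement_def]
        group
      rw [e]
      exact commutator_le_phi2 Y (Subgroup.commutator_mem_commutator (hconj a ha) (hconj b hb))
    · rw [Subgroup.closure_le]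
      rintro _ ⟨y, hy, rfl⟩
      show g * y ^ 2 * g⁻¹ ∈ phi2 Y
      have e : g * y ^ 2 * g⁻¹ = (g * y * g⁻¹) ^ 2 := conj_pow.symm
      rw [e]
      exact sq_mem_phi2 Y (hconj y hy)
  intro x hx
  exact key hx

theorem normalizer_le_normalizer_phi2 (Y : Subgroup G) :
    Subgroup.normalizer (Y : Set G) ≤ Subgroup.normalizer (phi2 Y : Set G) := by
  intro g hg
  rw [Subgroup.mem_normalizer_iff]
  intro x
  constructor
  · exact pf_conj_mem_phi2 Y hg x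
  · intro hx
    have h1 := pf_conj_mem_phi2 Y (Subgroup.inv_mem _ hg) _ hx
    have e : g⁻¹ * (g * x * g⁻¹) * g⁻¹⁻¹ = x := by group
    rwa [e] at h1

theorem pf_commutator_mem_of_index_two {H : Type*} [Group H] {M : Subgroup H}
    (hM : M.index = 2) (a b : H) : ⁅a, b⁆ ∈ M := by
  rw [commutatorElement_def, mul_assoc (a * b), Subgroup.mul_mem_iff_of_index_two hM,
    Subgroup.mul_mem_iff_of_index_two hM, Subgroup.mul_mem_iff_of_index_two hM,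
    inv_mem_iff, inv_mem_iff]

/-- `phi2 Y` consists of non-generators -/
theorem eq_of_sup_phi2 [Finite G] (Y K : Subgroup G) (hY : IsPGroup 2 Y) (hK : K ≤ Y)
    (h : K ⊔ phi2 Y = Y) : K = Y := by
  by_contra hne
  have : Fact (Nat.Prime 2) := ⟨Nat.prime_two⟩
  have hK' : K.subgroupOf Y ≠ ⊤ := by
    intro htop
    rw [Subgroup.subgroupOf_eq_top] at htop
    exact hne (le_antisymm hK htop)
  obtain ⟨M, hM, hKM⟩ := (eq_top_or_exists_le_coatom (K.subgroupOf Y)).resolve_left hK'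
  obtain ⟨hMn, hMi⟩ := Cfsg.Agent.Lib.Lead.coatom_normal_index_of_isPGroup hY hM
  have hphi : ⁅Y, Y⁆ ⊔ Subgroup.closure {g : G | ∃ x ∈ Y, g = x ^ 2} ≤ M.map Y.subtype := by
    refine sup_le ?_ ?_
    · rw [Subgroup.commutator_le]
      intro a ha b hb
      exact ⟨⁅(⟨a, ha⟩ : ↥Y), (⟨b, hb⟩ : ↥Y)⁆, pf_commutator_mem_of_index_two hMi _ _, rfl⟩
    · rw [Subgroup.closure_le]
      rintro _ ⟨y, hy, rfl⟩
      exact ⟨(⟨y, hy⟩ : ↥Y) ^ 2, Subgroup.sq_mem_of_index_two hMi _, rfl⟩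
  have hKM' : K ≤ M.map Y.subtype := by
    intro k hk
    exact ⟨⟨k, hK hk⟩, hKM (Subgroup.mem_subgroupOf.mpr hk), rfl⟩
  have hle : Y ≤ M.map Y.subtype := le_trans h.ge (sup_le hKM' hphi)
  apply hM.1
  rw [eq_top_iff]
  intro y _
  obtain ⟨m, hm, hmy⟩ := hle y.2
  have e : m = y := Subtype.ext hmy
  rwa [← e]

theorem phi2_ne [Finite G] (Y : Subgroup G) (hY : IsPGroup 2 Y) (hne : Y ≠ ⊥) : phi2 Y ≠ Y := by
  intro h
  apply hne
  have h1 := eq_of_sup_phi2 Y ⊥ hY bot_le (by rw [bot_sup_eq]; exact h)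
  exact h1.symm

/-- `phi2 Y = ⊥` iff `Y` has exponent `2` -/
theorem phi2_eq_bot_iff (Y : Subgroup G) : phi2 Y = ⊥ ↔ ∀ y ∈ Y, y ^ 2 = 1 := by
  constructor
  · intro h y hy
    have h1 := sq_mem_phi2 Y hy
    rw [h, Subgroup.mem_bot] at h1
    exact h1
  · intro h
    rw [eq_bot_iff]
    show ⁅Y, Y⁆ ⊔ Subgroup.closure {g : G | ∃ x ∈ Y, g = x ^ 2} ≤ ⊥
    refine sup_le ?_ ?_
    · rw [Subgroup.commutator_le]
      intro a ha b hb
      rw [Subgroup.mem_bot]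
      have h1 := h a ha
      have h2 := h b hb
      have h3 := h (a * b) (Y.mul_mem ha hb)
      have e1 : a⁻¹ = a := inv_eq_of_mul_eq_one_right (by rw [← pow_two]; exact h1)
      have e2 : b⁻¹ = b := inv_eq_of_mul_eq_one_right (by rw [← pow_two]; exact h2)
      rw [commutatorElement_def, e1, e2, mul_assoc, ← pow_two]
      exact h3
    · rw [Subgroup.closure_le]
      rintro _ ⟨y, hy, rfl⟩
      rw [SetLike.mem_coe, Subgroup.mem_bot]
      exact h y hy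

/-- (Lemma 2B) -/
theorem lemma_2b (Y A : Subgroup G)
    (hAY : A ≤ Subgroup.normalizer (Y : Set G)) (hcomm : ⁅Y, A⁆ = Y)
    (hc : A ≤ Subgroup.centralizer (phi2 Y : Set G)) :
    phi2 Y ≤ Subgroup.centralizer (Y : Set G) ∧ (∀ x ∈ Y, x ^ 2 ∈ ⁅Y, Y⁆) ∧
      (∀ c ∈ ⁅Y, Y⁆, c ^ 2 = 1) := by
  -- (1) three subgroups
  have hAP : ⁅A, phi2 Y⁆ = ⊥ := Subgroup.commutator_eq_bot_iff_le_centralizer.mpr hc
  have hPA : ⁅phi2 Y, A⁆ = ⊥ := by rw [Subgroup.commutator_comm]; exact hAP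
  have hPY : ⁅phi2 Y, Y⁆ ≤ phi2 Y := by
    rw [Subgroup.commutator_le]
    intro q hq y hy
    have hyn : y ∈ Subgroup.normalizer (phi2 Y : Set G) :=
      normalizer_le_normalizer_phi2 Y (Subgroup.le_normalizer hy)
    have h1 : y * q⁻¹ * y⁻¹ ∈ phi2 Y :=
      (Subgroup.mem_normalizer_iff.mp hyn q⁻¹).mp ((phi2 Y).inv_mem hq)
    have e : ⁅q, y⁆ = q * (y * q⁻¹ * y⁻¹) := by rw [commutatorElement_def]; group
    rw [e]
    exact (phi2 Y).mul_mem hq h1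
  have h1 : ⁅⁅A, phi2 Y⁆, Y⁆ = ⊥ := by rw [hAP, Subgroup.commutator_bot_left]
  have h2 : ⁅⁅phi2 Y, Y⁆, A⁆ = ⊥ := by
    rw [eq_bot_iff, ← hPA]
    exact Subgroup.commutator_mono hPY le_rfl
  have h3 : ⁅⁅Y, A⁆, phi2 Y⁆ = ⊥ := Subgroup.commutator_commutator_eq_bot_of_rotate h1 h2
  rw [hcomm] at h3
  have hcen : phi2 Y ≤ Subgroup.centralizer (Y : Set G) := by
    rw [← Subgroup.commutator_eq_bot_iff_le_centralizer, Subgroup.commutator_comm]
    exact h3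
  have hder : ⁅Y, Y⁆ ≤ Y := (commutator_le_phi2 Y).trans (phi2_le Y)
  have hdc : ∀ c ∈ ⁅Y, Y⁆, ∀ y ∈ Y, y * c = c * y := fun c hc' y hy =>
    Subgroup.mem_centralizer_iff.mp (hcen (commutator_le_phi2 Y hc')) y hy
  refine ⟨hcen, ?_, ?_⟩
  · -- (2)
    let M : Subgroup G :=
      { carrier := {x | x ∈ Y ∧ x ^ 2 ∈ ⁅Y, Y⁆}
        one_mem' := ⟨Y.one_mem, by rw [one_pow]; exact Subgroup.one_mem _⟩
        mul_mem' := by
          rintro x y ⟨hx, hx2⟩ ⟨hy, hy2⟩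
          refine ⟨Y.mul_mem hx hy, ?_⟩
          have e : (x * y) ^ 2 = x ^ 2 * ⁅x⁻¹, y⁆ * y ^ 2 := by
            simp only [commutatorElement_def, pow_two]; group
          rw [e]
          exact Subgroup.mul_mem _ (Subgroup.mul_mem _ hx2
            (Subgroup.commutator_mem_commutator (Y.inv_mem hx) hy)) hy2
        inv_mem' := by
          rintro x ⟨hx, hx2⟩
          refine ⟨Y.inv_mem hx, ?_⟩
          rw [inv_pow]
          exact Subgroup.inv_mem _ hx2 }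
    have hYM : ⁅Y, A⁆ ≤ M := by
      rw [Subgroup.commutator_le]
      intro x hx a ha
      have han : a ∈ Subgroup.normalizer (Y : Set G) := hAY ha
      have hy : a * x⁻¹ * a⁻¹ ∈ Y := (Subgroup.mem_normalizer_iff.mp han x⁻¹).mp (Y.inv_mem hx)
      have e0 : ⁅x, a⁆ = x * (a * x⁻¹ * a⁻¹) := by rw [commutatorElement_def]; group
      have hmem : ⁅x, a⁆ ∈ Y := by rw [e0]; exact Y.mul_mem hx hy
      refine ⟨hmem, ?_⟩
      -- a commutes with x⁻¹ ^ 2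
      have hx2 : (x⁻¹) ^ 2 ∈ phi2 Y := sq_mem_phi2 Y (Y.inv_mem hx)
      have hax : (x⁻¹) ^ 2 * a = a * (x⁻¹) ^ 2 :=
        Subgroup.mem_centralizer_iff.mp (hc ha) _ hx2
      have e1 : (a * x⁻¹ * a⁻¹) ^ 2 = (x⁻¹) ^ 2 := by
        have : (a * x⁻¹ * a⁻¹) ^ 2 = a * (x⁻¹) ^ 2 * a⁻¹ := conj_pow
        rw [this, ← hax, mul_inv_cancel_right]
      have e2 : (x * (a * x⁻¹ * a⁻¹)) ^ 2 =
          x ^ 2 * ⁅x⁻¹, a * x⁻¹ * a⁻¹⁆ * (a * x⁻¹ * a⁻¹) ^ 2 := by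
        simp only [commutatorElement_def, pow_two]; group
      have hcm : ⁅x⁻¹, a * x⁻¹ * a⁻¹⁆ ∈ ⁅Y, Y⁆ :=
        Subgroup.commutator_mem_commutator (Y.inv_mem hx) hy
      have hcc := hdc _ hcm (x ^ 2) (Y.pow_mem hx 2)
      rw [e0, e2, e1, hcc, mul_assoc, inv_pow, mul_inv_cancel, mul_one]
      exact hcm
    intro x hx
    have : x ∈ M := hYM (by rw [hcomm]; exact hx)
    exact this.2
  · -- (3)
    let N : Subgroup G :=
      { carrier := {c | c ∈ ⁅Y, Y⁆ ∧ c ^ 2 = 1}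
        one_mem' := ⟨Subgroup.one_mem _, one_pow 2⟩
        mul_mem' := by
          rintro c d ⟨hc1, hc2⟩ ⟨hd1, hd2⟩
          refine ⟨Subgroup.mul_mem _ hc1 hd1, ?_⟩
          have hcd : Commute c d := (hdc c hc1 d (hder hd1)).symm
          rw [hcd.mul_pow, hc2, hd2, one_mul]
        inv_mem' := by
          rintro c ⟨hc1, hc2⟩
          refine ⟨Subgroup.inv_mem _ hc1, ?_⟩
          rw [inv_pow, hc2, inv_one] }
    have hN : ⁅Y, Y⁆ ≤ N := by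
      rw [Subgroup.commutator_le]
      intro x hx y hy
      have hm : ⁅x, y⁆ ∈ ⁅Y, Y⁆ := Subgroup.commutator_mem_commutator hx hy
      refine ⟨hm, ?_⟩
      have hxc : x * ⁅x, y⁆ = ⁅x, y⁆ * x := hdc _ hm x hx
      have hx2 : y * x ^ 2 = x ^ 2 * y :=
        Subgroup.mem_centralizer_iff.mp (hcen (sq_mem_phi2 Y hx)) y hy
      have e1 : ⁅x, y⁆ ^ 2 = (⁅x, y⁆ * x) * (y * x⁻¹ * y⁻¹) := by
        simp only [commutatorElement_def, pow_two]; group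
      have e2 : (x * ⁅x, y⁆) * (y * x⁻¹ * y⁻¹) = x ^ 2 * y * (x ^ 2)⁻¹ * y⁻¹ := by
        simp only [commutatorElement_def, pow_two]; group
      rw [e1, ← hxc, e2, ← hx2]
      group
    intro c hc'
    exact (hN hc').2

end Cfsg.Agent.Lib.Helper8.SmTwo
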