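import Mathlib
import Cfsg.Agent.Lib.Helper8.SmTwoB
import Cfsg.Agent.Lib.Helper4.NgpDefs
import Cfsg.Agent.Lib.Helper4.NgpNG
import Cfsg.Agent.Lib.Helper7.NgpNL
import Cfsg.Agent.Lib.Helper3.SmTwoPF
import Cfsg.Agent.Lib.Helper9.SmTwoPQa
import Cfsg.Agent.Lib.Helper5.NgpNE1lba
import Cfsg.Agent.Lib.Lead.CoprimeAction3
import Cfsg.Agent.Lib.Helper3.NgpNCa

set_option autoImplicit false

/-! S1904, package NC, part b: the central case, given `phi2 X ≤ C(X)` (package NH). -/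

namespace Cfsg.Agent.Lib.Helper4.Ngp

open Cfsg.Agent.Lib.Helper8.SmTwo
open scoped commutatorElement

universe u

variable {G : Type u} [Group G]

/-- the class-two context given by `phi2 X ≤ C(X)` -/
theorem nc_ctx (X : Subgroup G) (hphi : phi2 X ≤ Subgroup.centralizer (X : Set G)) :
    NcCtx X (X ⊓ Subgroup.centralizer (X : Set G)) where
  hZX := inf_le_left
  cen := fun z hz x hx =>
    (Subgroup.mem_centralizer_iff.mp (Subgroup.mem_inf.mp hz).2 x hx).symm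
  comm := fun x hx y hy => by
    have h1 : ⁅x, y⁆ ∈ ⁅X, X⁆ := Subgroup.commutator_mem_commutator hx hy
    exact Subgroup.mem_inf.mpr ⟨phi2_le X (commutator_le_phi2 X h1), hphi (commutator_le_phi2 X h1)⟩
  sq := fun x hx =>
    Subgroup.mem_inf.mpr ⟨phi2_le X (sq_mem_phi2 X hx), hphi (sq_mem_phi2 X hx)⟩

theorem nc_isAb_center (X : Subgroup G) : IsAb (X ⊓ Subgroup.centralizer (X : Set G)) :=
  fun _ ha b hb =>
    (Subgroup.mem_centralizer_iff.mp (Subgroup.mem_inf.mp ha).2 b (Subgroup.mem_inf.mp hb).1).symm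

theorem nc_commutator_ne_bot (X : Subgroup G) (hna : ¬ IsAb X) : ⁅X, X⁆ ≠ ⊥ := by
  intro h0
  apply hna
  intro a ha b hb
  have h1 : X ≤ Subgroup.centralizer (X : Set G) :=
    Subgroup.commutator_eq_bot_iff_le_centralizer.mp h0
  exact (Subgroup.mem_centralizer_iff.mp (h1 ha) b hb).symm

/-- Case `¬ A ≤ C(Z)` -/
theorem nc_case_two [Finite G] (X A : Subgroup G) (h : Hyp X A)
    (hphi : phi2 X ≤ Subgroup.centralizer (X : Set G))
    (hnc : ¬ A ≤ Subgroup.centralizer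
      ((X ⊓ Subgroup.centralizer (X : Set G) : Subgroup G) : Set G)) :
    SpecialData X 4 := by
  obtain ⟨Z, hZdef⟩ : ∃ Z : Subgroup G, Z = X ⊓ Subgroup.centralizer (X : Set G) := ⟨_, rfl⟩
  have hZ : Inv X A Z := hZdef ▸ inv_center X A h.hAX
  have hZab : IsAb Z := hZdef ▸ nc_isAb_center X
  have hctx : NcCtx X Z := hZdef ▸ nc_ctx X hphi
  rw [← hZdef] at hnc
  have L := lemma_L X A Z h hZ hZab hnc
  have hmemE : ∀ g : G, g ∈ om Z 1 ↔ g ∈ Z ∧ g ^ 2 = 1 := by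
    intro g
    rw [mem_om hZab, pow_one]
  have hEZ : om Z 1 ≤ Z := om_le Z 1
  have hXE : ⁅X, X⁆ ≤ om Z 1 :=
    Subgroup.commutator_le.mpr
      (fun x hx y hy => (hmemE _).mpr ⟨hctx.comm x hx y hy, hctx.comm_sq hx hy⟩)
  have hXne : ⁅X, X⁆ ≠ ⊥ := nc_commutator_ne_bot X h.hna
  have hAN : A ≤ Subgroup.normalizer ((⁅X, X⁆ : Subgroup G) : Set G) := fun a ha =>
    Cfsg.Agent.Lib.Lead.normalizer_inf_le_normalizer_commutator X X ⟨h.hAX ha, h.hAX ha⟩
  have hEX : om Z 1 ≤ ⁅X, X⁆ := L.min _ (hXE.trans hEZ) hAN hXne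
  have hXE' : ⁅X, X⁆ = om Z 1 := le_antisymm hXE hEX
  have hinv : ∀ t ∈ X, t ^ 2 = 1 → t ∈ Z := by
    intro t ht ht2
    apply hEZ
    exact nc_invol_mem h.hN (hEZ.trans hctx.hZX) L.v4.1 L.v4.2
      (fun e he x hx => hctx.cen e (hEZ he) x hx)
      (fun x hx y hy => hXE (Subgroup.commutator_mem_commutator hx hy)) ht ht2
  by_cases hZE : Z = om Z 1
  · refine ⟨?_, ?_, ?_⟩
    · rw [← hZdef, hXE', ← hZE]
    · intro x hx
      rw [hXE', ← hZE]
      exact hctx.sq x hx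
    · rw [← hZdef, hZE]
      exact L.v4.1
  · exfalso
    have hex : ∃ z ∈ Z, z ^ 2 ≠ 1 := by
      by_contra hcon
      have hcon : ∀ z ∈ Z, z ^ 2 = 1 := fun z hz => by
        by_contra h2
        exact hcon ⟨z, hz, h2⟩
      apply hZE
      exact le_antisymm (fun z hz => (hmemE z).mpr ⟨hz, hcon z hz⟩) hEZ
    obtain ⟨z, hz, hz2⟩ := hex
    have hPne : pw Z 1 ≠ ⊥ := by
      intro h0
      apply hz2
      have : z ^ 2 ∈ pw Z 1 := Subgroup.subset_closure ⟨z, hz, by rw [pow_one]⟩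
      rw [h0, Subgroup.mem_bot] at this
      exact this
    have hEP : om Z 1 ≤ pw Z 1 := L.min _ (pw_le Z 1) (hZ.pw 1).2.2 hPne
    have hcard := nc_card_le hctx hZab L.v4.1
      (fun x hx y hy => hEP (hXE (Subgroup.commutator_mem_commutator hx hy))) hinv
    obtain ⟨x, hx, y, hy, hgen⟩ := nc_two_generators hctx.hZX hcard
    have h1 := hctx.comm_mem_zpowers hx hy
    rw [hgen] at h1
    have h2 : ⁅X, X⁆ ≤ Subgroup.zpowers ⁅x, y⁆ := Subgroup.commutator_le.mpr h1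
    have h3 := Subgroup.card_le_of_le h2
    have h4 := SpCtx.ne1_card_zpowers_le (hctx.comm_sq hx hy)
    have h5 : Nat.card (⁅X, X⁆ : Subgroup G) = 4 := by rw [hXE']; exact L.v4.1
    omega

/-- Case `A ≤ C(Z)` -/
theorem nc_case_one [Finite G] (X A : Subgroup G) (h : Hyp X A)
    (hphi : phi2 X ≤ Subgroup.centralizer (X : Set G))
    (hcA : A ≤ Subgroup.centralizer
      ((X ⊓ Subgroup.centralizer (X : Set G) : Subgroup G) : Set G)) :
    SpecialData X 2 ∨ SpecialData X 4 := by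
  have : Fact (Nat.Prime 2) := ⟨Nat.prime_two⟩
  obtain ⟨Z, hZdef⟩ : ∃ Z : Subgroup G, Z = X ⊓ Subgroup.centralizer (X : Set G) := ⟨_, rfl⟩
  have hZ : Inv X A Z := hZdef ▸ inv_center X A h.hAX
  rw [← hZdef] at hcA
  have hZX : Z ≤ X := hZ.1
  -- coprimality
  obtain ⟨n, hn⟩ := IsPGroup.exists_card_eq h.hX
  have hcop : (Nat.card A).Coprime (Nat.card X) := by
    rw [hn]
    exact Nat.Coprime.pow_right _ h.hodd.coprime_two_right
  have hCF : X ⊓ Subgroup.centralizer (A : Set G) ≤ phi2 X :=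
    centralizer_le_of_commutator_eq X A (phi2 X) h.hAX
      (h.hAX.trans (normalizer_le_normalizer_phi2 X)) (phi2_le X) (commutator_le_phi2 X) hcop
      h.hcomm
  have hZA : Z ≤ Subgroup.centralizer (A : Set G) := Subgroup.le_centralizer_iff.mp hcA
  have hZphi : Z ≤ phi2 X := (le_inf hZX hZA).trans hCF
  have hphiZ : phi2 X ≤ Z := by
    rw [hZdef]; exact le_inf (phi2_le X) hphi
  have hphiEq : phi2 X = Z := le_antisymm hphiZ hZphi
  have hcphi : A ≤ Subgroup.centralizer (phi2 X : Set G) := by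
    rw [hphiEq]; exact hcA
  obtain ⟨-, hsq, hexp⟩ := lemma_2b X A h.hAX h.hcomm hcphi
  have hphiX' : phi2 X ≤ ⁅X, X⁆ := by
    refine sup_le le_rfl ?_
    rw [Subgroup.closure_le]
    rintro _ ⟨x, hx, rfl⟩
    exact hsq x hx
  have hX'Z : ⁅X, X⁆ = Z := by
    rw [← hphiEq]; exact le_antisymm (commutator_le_phi2 X) hphiX'
  have hZexp : ∀ e ∈ Z, e ^ 2 = 1 := fun e he => hexp e (hX'Z ▸ he)
  have hle4 : Nat.card Z ≤ 4 := h.hN Z hZX hZ.2.1 hZexp
  have hZp : IsPGroup 2 Z := h.hX.to_le hZX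
  obtain ⟨k, hk⟩ := IsPGroup.exists_card_eq hZp
  have hZne : Z ≠ ⊥ := by
    intro h0
    exact nc_commutator_ne_bot X h.hna (hX'Z.trans h0)
  have hk0 : k ≠ 0 := by
    intro h0
    rw [h0, pow_zero] at hk
    exact hZne (Subgroup.card_eq_one.mp hk)
  have hk2 : k ≤ 2 := by
    by_contra hgt
    have hgt : 3 ≤ k := by omega
    have : 2 ^ 3 ≤ 2 ^ k := Nat.pow_le_pow_right (by norm_num) hgt
    omega
  have hk12 : k = 1 ∨ k = 2 := by omega
  rcases hk12 with rfl | rfl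
  · left
    refine ⟨?_, hsq, ?_⟩
    · rw [← hZdef]; exact hX'Z
    · rw [← hZdef, hk]; norm_num
  · right
    refine ⟨?_, hsq, ?_⟩
    · rw [← hZdef]; exact hX'Z
    · rw [← hZdef, hk]; norm_num

/-- NC, given NH's conclusion -/
theorem nc_special_of_phi2 [Finite G] (X A : Subgroup G) (h : Hyp X A)
    (hphi : phi2 X ≤ Subgroup.centralizer (X : Set G)) :
    SpecialData X 2 ∨ SpecialData X 4 := by
  by_cases hcA : A ≤ Subgroup.centralizer
      ((X ⊓ Subgroup.centralizer (X : Set G) : Subgroup G) : Set G)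
  · exact nc_case_one X A h hphi hcA
  · exact Or.inr (nc_case_two X A h hphi hcA)

end Cfsg.Agent.Lib.Helper4.Ngp
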