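import Mathlib
import Cfsg.Agent.Lib.Helper8.SmTwoB
import Cfsg.Agent.Lib.Helper4.NgpDefs
import Cfsg.Agent.Lib.Helper1.NgpNH
import Cfsg.Agent.Lib.Helper3.NgpNCb

set_option autoImplicit false

/-! S1904, package NC: all invariant abelian subgroups central ⇒ `X` is special with centre of
order `2` or `4`. -/

namespace Cfsg.Agent.Lib.Helper4.Ngp

open Cfsg.Agent.Lib.Helper8.SmTwo
open scoped commutatorElement

universe u

variable {G : Type u} [Group G]

theorem special_of_central [Finite G] (X A : Subgroup G) (h : Hyp X A)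
    (hall : ∀ K : Subgroup G, Inv X A K → IsAb K → K ≤ Subgroup.centralizer (X : Set G)) :
    SpecialData X 2 ∨ SpecialData X 4 :=
  nc_special_of_phi2 X A h (phi2_le_center_of_central X A h.hX h.hAX hall)

end Cfsg.Agent.Lib.Helper4.Ngp
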