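import Mathlib
import Cfsg.Prelude
import Cfsg.Agent.Lib.Helper6.ODec0

set_option autoImplicit false
set_option linter.unusedSectionVars false

/-! # S5677 package PK-CONN (Step 1 of `notes/S5677_proof_helper6.md`)

An isometry that maps every nonzero singular block vector into some block permutes the blocks.
-/

namespace Cfsg.Agent.Lib.Helper6.ODec

open Matrix Module Cfsg.Agent.H9Orth Cfsg.Agent.Lib.Helper2.ReflGen Cfsg.Agent.Lib.Helper2.CDG
  Cfsg.Agent.Lib.Helper2.LongRoot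

variable {F : Type*} [Field F] [Fintype F] {ι : Type} [Fintype ι] [DecidableEq ι]
variable {Q : QuadraticForm F (ι → F)} {t k : ℕ} {D : Fin t → Submodule F (ι → F)}
  {M : Subgroup (Matrix.GeneralLinearGroup ι F)}

/-- for a hyperbolic pair `u, v` and `w ⊥ u, v` the vector `v + w - Q(w) u` is singular -/
theorem conn_sing {u v w : ι → F} (hu : Q u = 0) (hv : Q v = 0)
    (huv : QuadraticMap.polar (⇑Q) u v = 1) (huw : QuadraticMap.polar (⇑Q) u w = 0)
    (hvw : QuadraticMap.polar (⇑Q) v w = 0) : Q (v + w - Q w • u) = 0 := by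
  have e : v + w - Q w • u = (v + w) + (-(Q w)) • u := by
    rw [neg_smul, sub_eq_add_neg]
  have h1 : QuadraticMap.polar (⇑Q) v u = 1 := by rw [QuadraticMap.polar_comm]; exact huv
  have h2 : QuadraticMap.polar (⇑Q) w u = 0 := by rw [QuadraticMap.polar_comm]; exact huw
  rw [e, QuadraticMap.map_add Q, QuadraticMap.map_add Q v w, QuadraticMap.map_smul, hu, hv,
    QuadraticMap.polar_smul_right, QuadraticMap.polar_add_left, hvw, h1, h2]
  simp

/-- the polar form of `v + w - Q(w) u` against `x` -/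
theorem conn_polar (u v w x : ι → F) :
    QuadraticMap.polar (⇑Q) (v + w - Q w • u) x =
      QuadraticMap.polar (⇑Q) v x + QuadraticMap.polar (⇑Q) w x -
        Q w * QuadraticMap.polar (⇑Q) u x := by
  rw [QuadraticMap.polar_sub_left, QuadraticMap.polar_add_left, QuadraticMap.polar_smul_left,
    smul_eq_mul]

/-- the component of `y` orthogonal to a hyperbolic pair `u, v` -/
theorem conn_proj {u v y : ι → F} (hu : Q u = 0) (hv : Q v = 0)
    (huv : QuadraticMap.polar (⇑Q) u v = 1) :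
    QuadraticMap.polar (⇑Q) u
        (y - QuadraticMap.polar (⇑Q) y v • u - QuadraticMap.polar (⇑Q) y u • v) = 0 ∧
      QuadraticMap.polar (⇑Q) v
        (y - QuadraticMap.polar (⇑Q) y v • u - QuadraticMap.polar (⇑Q) y u • v) = 0 := by
  have huu : QuadraticMap.polar (⇑Q) u u = 0 := by rw [polar_self, hu, mul_zero]
  have hvv : QuadraticMap.polar (⇑Q) v v = 0 := by rw [polar_self, hv, mul_zero]
  have hvu : QuadraticMap.polar (⇑Q) v u = 1 := by rw [QuadraticMap.polar_comm]; exact huv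
  constructor
  · rw [QuadraticMap.polar_sub_right, QuadraticMap.polar_sub_right,
      QuadraticMap.polar_smul_right, QuadraticMap.polar_smul_right, huu, huv,
      QuadraticMap.polar_comm (⇑Q) u y]
    simp
  · rw [QuadraticMap.polar_sub_right, QuadraticMap.polar_sub_right,
      QuadraticMap.polar_smul_right, QuadraticMap.polar_smul_right, hvv, hvu,
      QuadraticMap.polar_comm (⇑Q) v y]
    simp

/-- two perpendicular nonzero singular vectors of a block are joined by a singular block vector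
perpendicular to neither -/
theorem conn_join (hQ : (QuadraticMap.polarBilin Q).Nondegenerate) (c : Ctx Q k D M)
    {i : Fin t} {u u' : ι → F} (hu : u ∈ D i) (hu' : u' ∈ D i) (hu0 : u ≠ 0) (hu'0 : u' ≠ 0)
    (hQu : Q u = 0) (huu' : QuadraticMap.polar (⇑Q) u u' = 0) :
    ∃ p ∈ D i, Q p = 0 ∧ QuadraticMap.polar (⇑Q) p u ≠ 0 ∧ QuadraticMap.polar (⇑Q) p u' ≠ 0 := by
  obtain ⟨v, hv, hQv, huv⟩ := (c.split i).exists_partner_in hQ hu hu0 hQu
  have hvu : QuadraticMap.polar (⇑Q) v u = 1 := by rw [QuadraticMap.polar_comm]; exact huv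
  by_cases h1 : QuadraticMap.polar (⇑Q) v u' = 0
  · obtain ⟨y, hy, hyu'⟩ : ∃ y ∈ D i, QuadraticMap.polar (⇑Q) u' y ≠ 0 := by
      by_contra hcon
      push Not at hcon
      exact hu'0 ((c.split i).nondeg hQ hu' hcon)
    obtain ⟨w, hw⟩ : ∃ w : ι → F,
      w = y - QuadraticMap.polar (⇑Q) y v • u - QuadraticMap.polar (⇑Q) y u • v := ⟨_, rfl⟩
    have hwD : w ∈ D i := by
      rw [hw]
      exact (D i).sub_mem ((D i).sub_mem hy ((D i).smul_mem _ hu)) ((D i).smul_mem _ hv)
    obtain ⟨huw, hvw⟩ := conn_proj (y := y) hQu hQv huv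
    rw [← hw] at huw hvw
    have hwu' : QuadraticMap.polar (⇑Q) w u' ≠ 0 := by
      rw [hw, QuadraticMap.polar_sub_left, QuadraticMap.polar_sub_left,
        QuadraticMap.polar_smul_left, QuadraticMap.polar_smul_left, huu', h1, smul_zero, smul_zero,
        sub_zero, sub_zero, QuadraticMap.polar_comm]
      exact hyu'
    refine ⟨v + w - Q w • u, (D i).sub_mem ((D i).add_mem hv hwD) ((D i).smul_mem _ hu),
      conn_sing hQu hQv huv huw hvw, ?_, ?_⟩
    · rw [conn_polar, hvu, QuadraticMap.polar_comm (⇑Q) w u, huw, polar_self, hQu]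
      simp
    · rw [conn_polar, h1, huu', mul_zero, sub_zero, zero_add]
      exact hwu'
  · exact ⟨v, hv, hQv, by rw [hvu]; exact one_ne_zero, h1⟩

section

variable (g : ↥(Cfsg.isometryGroup F ⇑Q))

/-- non-perpendicular singular block vectors go to the same block -/
theorem conn_adj (c : Ctx Q k D M)
    (hall : ∀ i, ∀ u ∈ D i, u ≠ 0 → Q u = 0 →
      ∃ j, ((g : Matrix.GeneralLinearGroup ι F) : Matrix ι ι F) *ᵥ u ∈ D j)
    {i : Fin t} {u u' : ι → F} (hu' : u' ∈ D i) (hu'0 : u' ≠ 0) (hQu' : Q u' = 0)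
    (huu' : QuadraticMap.polar (⇑Q) u u' ≠ 0) {j : Fin t}
    (hj : ((g : Matrix.GeneralLinearGroup ι F) : Matrix ι ι F) *ᵥ u ∈ D j) :
    ((g : Matrix.GeneralLinearGroup ι F) : Matrix ι ι F) *ᵥ u' ∈ D j := by
  obtain ⟨j', hj'⟩ := hall i u' hu' hu'0 hQu'
  by_cases hjj : j = j'
  · rw [hjj]; exact hj'
  · exfalso
    apply huu'
    rw [← iso_polar g]
    exact c.orth hjj hj hj'

/-- all nonzero singular vectors of a block go to the same block -/
theorem conn_same (hQ : (QuadraticMap.polarBilin Q).Nondegenerate) (c : Ctx Q k D M)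
    (hall : ∀ i, ∀ u ∈ D i, u ≠ 0 → Q u = 0 →
      ∃ j, ((g : Matrix.GeneralLinearGroup ι F) : Matrix ι ι F) *ᵥ u ∈ D j)
    {i : Fin t} {u u' : ι → F} (hu : u ∈ D i) (hu' : u' ∈ D i) (hu0 : u ≠ 0) (hu'0 : u' ≠ 0)
    (hQu : Q u = 0) (hQu' : Q u' = 0) {j : Fin t}
    (hj : ((g : Matrix.GeneralLinearGroup ι F) : Matrix ι ι F) *ᵥ u ∈ D j) :
    ((g : Matrix.GeneralLinearGroup ι F) : Matrix ι ι F) *ᵥ u' ∈ D j := by
  by_cases huu' : QuadraticMap.polar (⇑Q) u u' = 0
  · obtain ⟨p, hp, hQp, hpu, hpu'⟩ := conn_join hQ c hu hu' hu0 hu'0 hQu huu'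
    have hp0 : p ≠ 0 := by
      rintro rfl
      apply hpu
      simp [QuadraticMap.polar]
    have hup : QuadraticMap.polar (⇑Q) u p ≠ 0 := by rw [QuadraticMap.polar_comm]; exact hpu
    exact conn_adj g c hall hu' hu'0 hQu' hpu' (conn_adj g c hall hp hp0 hQp hup hj)
  · exact conn_adj g c hall hu' hu'0 hQu' huu' hj

/-- every block goes into a block -/
theorem conn_block (hQ : (QuadraticMap.polarBilin Q).Nondegenerate) (c : Ctx Q k D M)
    (hall : ∀ i, ∀ u ∈ D i, u ≠ 0 → Q u = 0 →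
      ∃ j, ((g : Matrix.GeneralLinearGroup ι F) : Matrix ι ι F) *ᵥ u ∈ D j) (i : Fin t) :
    ∃ j, ∀ x ∈ D i, ((g : Matrix.GeneralLinearGroup ι F) : Matrix ι ι F) *ᵥ x ∈ D j := by
  obtain ⟨u, hu, hu0, hQu⟩ := c.exists_sing hQ i
  obtain ⟨j, hj⟩ := hall i u hu hu0 hQu
  obtain ⟨v, hv, hQv, huv⟩ := (c.split i).exists_partner_in hQ hu hu0 hQu
  have hvu : QuadraticMap.polar (⇑Q) v u = 1 := by rw [QuadraticMap.polar_comm]; exact huv
  have hv0 : v ≠ 0 := by
    rintro rfl
    have : QuadraticMap.polar (⇑Q) u 0 = 0 := by simp [QuadraticMap.polar]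
    rw [this] at huv
    exact zero_ne_one huv
  have hgv := conn_same g hQ c hall hu hv hu0 hv0 hQu hQv hj
  refine ⟨j, fun x hx => ?_⟩
  obtain ⟨w, hw⟩ : ∃ w : ι → F,
    w = x - QuadraticMap.polar (⇑Q) x v • u - QuadraticMap.polar (⇑Q) x u • v := ⟨_, rfl⟩
  have hwD : w ∈ D i := by
    rw [hw]
    exact (D i).sub_mem ((D i).sub_mem hx ((D i).smul_mem _ hu)) ((D i).smul_mem _ hv)
  obtain ⟨huw, hvw⟩ := conn_proj (y := x) hQu hQv huv
  rw [← hw] at huw hvw
  obtain ⟨p, hp⟩ : ∃ p : ι → F, p = v + w - Q w • u := ⟨_, rfl⟩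
  have hpD : p ∈ D i := by
    rw [hp]
    exact (D i).sub_mem ((D i).add_mem hv hwD) ((D i).smul_mem _ hu)
  have hQp : Q p = 0 := by rw [hp]; exact conn_sing hQu hQv huv huw hvw
  have hpu : QuadraticMap.polar (⇑Q) p u ≠ 0 := by
    rw [hp, conn_polar, hvu, QuadraticMap.polar_comm (⇑Q) w u, huw, polar_self, hQu]
    simp
  have hp0 : p ≠ 0 := by
    rintro rfl
    apply hpu
    simp [QuadraticMap.polar]
  have hgp := conn_same g hQ c hall hu hpD hu0 hp0 hQu hQp hj
  have hx' : x = (QuadraticMap.polar (⇑Q) x v + Q w) • u +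
      (QuadraticMap.polar (⇑Q) x u - 1) • v + p := by
    rw [hp, hw]
    module
  rw [hx', Matrix.mulVec_add, Matrix.mulVec_add, Matrix.mulVec_smul, Matrix.mulVec_smul]
  exact (D j).add_mem ((D j).add_mem ((D j).smul_mem _ hj) ((D j).smul_mem _ hgv)) hgp

end

/-- **PK-CONN** (Step 1).  An isometry outside `Stab(D)` maps some singular block vector outside
every block. -/
theorem pk_conn (hQ : (QuadraticMap.polarBilin Q).Nondegenerate)
    (c : Ctx Q k D M) (g : ↥(Cfsg.isometryGroup F ⇑Q))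
    (hg : (g : Matrix.GeneralLinearGroup ι F) ∉ Cfsg.Geo.decompositionStabilizer D) :
    ∃ (i : Fin t) (u : ι → F), u ∈ D i ∧ u ≠ 0 ∧ Q u = 0 ∧
      ∀ j, ((g : Matrix.GeneralLinearGroup ι F) : Matrix ι ι F) *ᵥ u ∉ D j := by
  by_contra hcon
  apply hg
  have hall : ∀ i, ∀ u ∈ D i, u ≠ 0 → Q u = 0 →
      ∃ j, ((g : Matrix.GeneralLinearGroup ι F) : Matrix ι ι F) *ᵥ u ∈ D j := by
    intro i u hu hu0 hQu
    by_contra h'
    exact hcon ⟨i, u, hu, hu0, hQu, fun j hj => h' ⟨j, hj⟩⟩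
  choose σ hσ using conn_block g hQ c hall
  -- injectivity of `g`
  have hinj : Function.Injective (Matrix.toLin' ((g : Matrix.GeneralLinearGroup ι F) :
      Matrix ι ι F)) := by
    intro x y hxy
    rw [Matrix.toLin'_apply, Matrix.toLin'_apply] at hxy
    have h1 := inv_mulVec_mulVec g⁻¹ x
    have h2 := inv_mulVec_mulVec g⁻¹ y
    rw [inv_inv] at h1 h2
    rw [← h1, ← h2, hxy]
  have hmap : ∀ i, (D i).map (Matrix.toLin' ((g : Matrix.GeneralLinearGroup ι F) :
      Matrix ι ι F)) = D (σ i) := by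
    intro i
    apply Submodule.eq_of_le_of_finrank_eq
    · rintro _ ⟨x, hx, rfl⟩
      rw [Matrix.toLin'_apply]
      exact hσ i x hx
    · rw [← (Submodule.equivMapOfInjective _ hinj (D i)).finrank_eq, c.finrank_eq, c.finrank_eq]
  have hσinj : Function.Injective σ := by
    intro i i' hii
    by_contra hne
    have hDD : D i = D i' := by
      apply Submodule.map_injective_of_injective hinj
      rw [hmap, hmap, hii]
    obtain ⟨u, hu, hu0, -⟩ := c.exists_sing hQ i
    apply hu0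
    apply c.eq_zero_of_mem_of_perp hQ hu
    apply c.le_perp (Ne.symm hne)
    rw [← hDD]
    exact hu
  have hσbij : Function.Bijective σ := Finite.injective_iff_bijective.1 hσinj
  exact ⟨Equiv.ofBijective σ hσbij, fun i => by rw [hmap i]; rfl⟩

end Cfsg.Agent.Lib.Helper6.ODec
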