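import Mathlib
import Cfsg.Prelude
import Cfsg.Agent.Lib.Helper5.PlusLevi
import Cfsg.Agent.Lib.Lead.OrthCyc
import Cfsg.Agent.Lib.Helper9.Siegel1
import Cfsg.Agent.Lib.Helper9.OrthMax3

set_option autoImplicit false

/-! The concrete data for the two-generation of `Ω⁺_{2m}(q)`: the standard frame of the form
`Σ x_i y_i`, a torus element, a monomial element, and their actions on the frame. -/

namespace Cfsg.Agent.Lib.Helper3.OPlus

open Matrix Cfsg.Agent.H9Sieg Cfsg.Agent.Lib.Helper2 Cfsg.Agent.Lib.Helper2.CDG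
open Cfsg.Agent.Lib.Helper5.QuadGlue Cfsg.Agent.Lib.Helper2.QuadStd
open Cfsg.Agent.Lib.Helper5.SpinorDiag Cfsg.Agent.Lib.Helper5.PlusLevi

variable {F : Type*} [Field F] {m : ℕ}

/-- the frame vector `e_j` -/
def eF (F : Type*) [Field F] {m : ℕ} (j : Fin m) : Fin m ⊕ Fin m → F := Pi.single (Sum.inl j) 1

/-- the frame vector `f_j` -/
def fF (F : Type*) [Field F] {m : ℕ} (j : Fin m) : Fin m ⊕ Fin m → F := Pi.single (Sum.inr j) 1

theorem Q_eF (j : Fin m) : QP m F (eF F j) = 0 := (hyp_plus m).qa j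

theorem Q_fF (j : Fin m) : QP m F (fF F j) = 0 := (hyp_plus m).qb j

theorem polar_eF (j : Fin m) (x : Fin m ⊕ Fin m → F) :
    QuadraticMap.polar (⇑(QP m F)) (eF F j) x = x (Sum.inr j) := (hyp_plus m).pa j x

theorem polar_fF (j : Fin m) (x : Fin m ⊕ Fin m → F) :
    QuadraticMap.polar (⇑(QP m F)) (fF F j) x = x (Sum.inl j) := (hyp_plus m).pb j x

theorem polar_eF_fF (i j : Fin m) :
    QuadraticMap.polar (⇑(QP m F)) (eF F i) (fF F j) = if i = j then 1 else 0 := by
  rw [polar_eF, fF, Pi.single_apply]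
  simp only [Sum.inr.injEq]

theorem polar_eF_eF (i j : Fin m) : QuadraticMap.polar (⇑(QP m F)) (eF F i) (eF F j) = 0 := by
  rw [polar_eF, eF, Pi.single_apply]
  simp

theorem polar_fF_fF (i j : Fin m) : QuadraticMap.polar (⇑(QP m F)) (fF F i) (fF F j) = 0 := by
  rw [polar_fF, fF, Pi.single_apply]
  simp

/-- the frame vector `e_k`, indexed by natural numbers -/
def ev (F : Type*) [Field F] (m : ℕ) (k : ℕ) : Fin m ⊕ Fin m → F :=
  if h : k < m then eF F ⟨k, h⟩ else 0

/-- the frame vector `f_k`, indexed by natural numbers -/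
def fv (F : Type*) [Field F] (m : ℕ) (k : ℕ) : Fin m ⊕ Fin m → F :=
  if h : k < m then fF F ⟨k, h⟩ else 0

theorem ev_of_lt {k : ℕ} (h : k < m) : ev F m k = eF F ⟨k, h⟩ := dif_pos h

theorem fv_of_lt {k : ℕ} (h : k < m) : fv F m k = fF F ⟨k, h⟩ := dif_pos h

theorem ev_val (j : Fin m) : ev F m j.val = eF F j := by
  rw [ev_of_lt j.2]

theorem fv_val (j : Fin m) : fv F m j.val = fF F j := by
  rw [fv_of_lt j.2]

theorem vec_eq_sum (v : Fin m ⊕ Fin m → F) :
    v = ∑ k ∈ Finset.range m, ((if h : k < m then v (Sum.inl ⟨k, h⟩) else 0) • ev F m k +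
      (if h : k < m then v (Sum.inr ⟨k, h⟩) else 0) • fv F m k) := by
  rw [Finset.sum_range]
  have h1 : ∀ i : Fin m, ((if h : (i : ℕ) < m then v (Sum.inl ⟨i, h⟩) else 0) • ev F m i +
      (if h : (i : ℕ) < m then v (Sum.inr ⟨i, h⟩) else 0) • fv F m i) =
      v (Sum.inl i) • eF F i + v (Sum.inr i) • fF F i := by
    intro i
    rw [dif_pos i.2, dif_pos i.2, ev_val, fv_val]
  rw [Finset.sum_congr rfl (fun i _ => h1 i)]
  funext c
  rw [Finset.sum_apply]
  rcases c with c | c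
  · rw [Finset.sum_eq_single c]
    · simp [eF, fF]
    · intro b _ hb
      simp [eF, fF, hb.symm]
    · intro h; exact absurd (Finset.mem_univ c) h
  · rw [Finset.sum_eq_single c]
    · simp [eF, fF]
    · intro b _ hb
      simp [eF, fF, hb.symm]
    · intro h; exact absurd (Finset.mem_univ c) h


section leviact

/-- the action of a Levi element on `e_j` -/
theorem levi_eF (A : GL (Fin m) F) (j : Fin m) :
    mat (levi A) *ᵥ eF F j = ∑ i, (A : Matrix (Fin m) (Fin m) F) i j • eF F i := by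
  show ((leviGL A : GL (Fin m ⊕ Fin m) F) : Matrix (Fin m ⊕ Fin m) (Fin m ⊕ Fin m) F) *ᵥ _ = _
  rw [leviGL_coe, blocks_mulVec]
  funext c
  rw [Finset.sum_apply]
  rcases c with c | c
  · rw [Sum.elim_inl, Finset.sum_eq_single c]
    · have : (eF F j ∘ Sum.inl : Fin m → F) = Pi.single j 1 := by
        funext i
        simp [eF, Pi.single_apply]
      rw [this, Matrix.mulVec_single_one]
      simp [eF]
    · intro b _ hb
      simp [eF, hb.symm]
    · intro h; exact absurd (Finset.mem_univ c) h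
  · rw [Sum.elim_inr]
    have : (eF F j ∘ Sum.inr : Fin m → F) = 0 := by
      funext i
      simp [eF]
    rw [this, Matrix.mulVec_zero]
    simp [eF]

/-- the action of a Levi element on `f_j` -/
theorem levi_fF (A : GL (Fin m) F) (j : Fin m) :
    mat (levi A) *ᵥ fF F j =
      ∑ i, ((A⁻¹ : GL (Fin m) F) : Matrix (Fin m) (Fin m) F) j i • fF F i := by
  show ((leviGL A : GL (Fin m ⊕ Fin m) F) : Matrix (Fin m ⊕ Fin m) (Fin m ⊕ Fin m) F) *ᵥ _ = _
  rw [leviGL_coe, blocks_mulVec]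
  funext c
  rw [Finset.sum_apply]
  rcases c with c | c
  · rw [Sum.elim_inl]
    have : (fF F j ∘ Sum.inl : Fin m → F) = 0 := by
      funext i
      simp [fF]
    rw [this, Matrix.mulVec_zero]
    simp [fF]
  · rw [Sum.elim_inr, Finset.sum_eq_single c]
    · have : (fF F j ∘ Sum.inr : Fin m → F) = Pi.single j 1 := by
        funext i
        simp [fF, Pi.single_apply]
      rw [this, Matrix.mulVec_single_one]
      simp [fF]
    · intro b _ hb
      simp [fF, hb.symm]
    · intro h; exact absurd (Finset.mem_univ c) h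

theorem toGL_inv_coe (S : Matrix.SpecialLinearGroup (Fin m) F) :
    (((Matrix.SpecialLinearGroup.toGL S)⁻¹ : GL (Fin m) F) : Matrix (Fin m) (Fin m) F) =
      (S⁻¹ : Matrix.SpecialLinearGroup (Fin m) F).1 := by
  rw [← map_inv]
  rfl

end leviact


section torus
open Cfsg.Agent.Lib.Helper5.OrthGen

theorem torus_eF (μ : Fin m → Fˣ) (h : ∏ i, μ i = 1) (j : Fin m) :
    mat (levi (Matrix.SpecialLinearGroup.toGL (diagSL μ h))) *ᵥ eF F j = (μ j : F) • eF F j := by
  rw [levi_eF, Finset.sum_eq_single j]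
  · have : ((Matrix.SpecialLinearGroup.toGL (diagSL μ h) : GL (Fin m) F) :
        Matrix (Fin m) (Fin m) F) j j = (μ j : F) := by
      show (diagSL μ h : Matrix (Fin m) (Fin m) F) j j = _
      rw [diagSL_apply, if_pos rfl]
    rw [this]
  · intro b _ hb
    have : ((Matrix.SpecialLinearGroup.toGL (diagSL μ h) : GL (Fin m) F) :
        Matrix (Fin m) (Fin m) F) b j = 0 := by
      show (diagSL μ h : Matrix (Fin m) (Fin m) F) b j = _
      rw [diagSL_apply, if_neg hb]
    rw [this, zero_smul]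
  · intro h; exact absurd (Finset.mem_univ j) h

theorem torus_fF (μ : Fin m → Fˣ) (h : ∏ i, μ i = 1) (j : Fin m) :
    mat (levi (Matrix.SpecialLinearGroup.toGL (diagSL μ h))) *ᵥ fF F j =
      (((μ j)⁻¹ : Fˣ) : F) • fF F j := by
  rw [levi_fF, toGL_inv_coe, Finset.sum_eq_single j]
  · rw [diagSL_inv_apply, if_pos rfl]
  · intro b _ hb
    rw [diagSL_inv_apply, if_neg (Ne.symm hb), zero_smul]
  · intro h; exact absurd (Finset.mem_univ j) h

theorem cyc_eF (i j : Fin m) :
    mat (levi (Matrix.SpecialLinearGroup.toGL (cycSL F i))) *ᵥ eF F j =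
      (if j = i then (-1 : F) ^ (i : ℕ) else 1) • eF F (Fin.cycleRange i j) := by
  rw [levi_eF, Finset.sum_eq_single (Fin.cycleRange i j)]
  · have : ((Matrix.SpecialLinearGroup.toGL (cycSL F i) : GL (Fin m) F) :
        Matrix (Fin m) (Fin m) F) (Fin.cycleRange i j) j =
        (if j = i then (-1 : F) ^ (i : ℕ) else 1) := by
      show (cycSL F i : Matrix (Fin m) (Fin m) F) _ _ = _
      rw [cycSL_apply, if_pos rfl]
    rw [this]
  · intro b _ hb
    have : ((Matrix.SpecialLinearGroup.toGL (cycSL F i) : GL (Fin m) F) :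
        Matrix (Fin m) (Fin m) F) b j = 0 := by
      show (cycSL F i : Matrix (Fin m) (Fin m) F) _ _ = _
      rw [cycSL_apply, if_neg hb]
    rw [this, zero_smul]
  · intro h; exact absurd (Finset.mem_univ _) h

theorem cyc_fF (i j : Fin m) :
    mat (levi (Matrix.SpecialLinearGroup.toGL (cycSL F i))) *ᵥ fF F j =
      (if j = i then (-1 : F) ^ (i : ℕ) else 1) • fF F (Fin.cycleRange i j) := by
  rw [levi_fF, toGL_inv_coe, Finset.sum_eq_single (Fin.cycleRange i j)]
  · rw [cycSL_inv_apply, cycSL_apply, if_pos rfl]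
  · intro b _ hb
    rw [cycSL_inv_apply, cycSL_apply, if_neg hb, zero_smul]
  · intro h; exact absurd (Finset.mem_univ _) h

end torus


section refl

theorem Q_wvec_ne (j : Fin m) :
    QP m F (wvec (F := F) (Sum.inl : Fin m → Fin m ⊕ Fin m) Sum.inr j) ≠ 0 := by
  rw [Q_wvec (hyp_plus m)]
  exact neg_ne_zero.2 one_ne_zero

/-- the reflection swapping `e_j` and `f_j` -/
noncomputable def rhoR (F : Type*) [Field F] {m : ℕ} (j : Fin m) :
    ↥(Cfsg.isometryGroup F ⇑(QP m F)) :=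
  refl (QP m F) (wvec Sum.inl Sum.inr j) (Q_wvec_ne j)

theorem rhoR_mulVec (j : Fin m) (x : Fin m ⊕ Fin m → F) :
    mat (rhoR F j) *ᵥ x = x + (x (Sum.inr j) - x (Sum.inl j)) • (eF F j - fF F j) := by
  unfold rhoR
  rw [refl_mulVec, Q_wvec (hyp_plus m), polar_wvec (hyp_plus m)]
  have : (wvec (F := F) (Sum.inl : Fin m → Fin m ⊕ Fin m) Sum.inr j) = eF F j - fF F j := rfl
  rw [this]
  have h1 : ((-1 : F))⁻¹ = -1 := by
    rw [inv_neg, inv_one]
  rw [h1]
  module

theorem rhoR_eF_same (j : Fin m) : mat (rhoR F j) *ᵥ eF F j = fF F j := by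
  rw [rhoR_mulVec]
  have h1 : eF F j (Sum.inr j) = 0 := by simp [eF]
  have h2 : eF F j (Sum.inl j) = 1 := by simp [eF]
  rw [h1, h2]
  module

theorem rhoR_fF_same (j : Fin m) : mat (rhoR F j) *ᵥ fF F j = eF F j := by
  rw [rhoR_mulVec]
  have h1 : fF F j (Sum.inr j) = 1 := by simp [fF]
  have h2 : fF F j (Sum.inl j) = 0 := by simp [fF]
  rw [h1, h2]
  module

theorem rhoR_eF_ne {j k : Fin m} (h : k ≠ j) : mat (rhoR F j) *ᵥ eF F k = eF F k := by
  rw [rhoR_mulVec]
  have h1 : eF F k (Sum.inr j) = 0 := by simp [eF]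
  have h2 : eF F k (Sum.inl j) = 0 := by simp [eF, h]
  rw [h1, h2]
  module

theorem rhoR_fF_ne {j k : Fin m} (h : k ≠ j) : mat (rhoR F j) *ᵥ fF F k = fF F k := by
  rw [rhoR_mulVec]
  have h1 : fF F k (Sum.inr j) = 0 := by simp [fF, h]
  have h2 : fF F k (Sum.inl j) = 0 := by simp [fF]
  rw [h1, h2]
  module

end refl


section monomial
open Cfsg.Agent.Lib.Helper5.OrthGen

/-- the monomial element `n` -/
noncomputable def nP (F : Type*) [Field F] (p : ℕ) : ↥(Cfsg.isometryGroup F ⇑(QP (p + 2) F)) :=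
  rhoR F (⟨0, by omega⟩ : Fin (p + 2)) * rhoR F (⟨p + 1, by omega⟩ : Fin (p + 2)) *
    levi (Matrix.SpecialLinearGroup.toGL (cycSL F (⟨p, by omega⟩ : Fin (p + 2))))

theorem nP_mulVec (p : ℕ) (x : Fin (p + 2) ⊕ Fin (p + 2) → F) :
    mat (nP F p) *ᵥ x = mat (rhoR F (⟨0, by omega⟩ : Fin (p + 2))) *ᵥ
      (mat (rhoR F (⟨p + 1, by omega⟩ : Fin (p + 2))) *ᵥ
        (mat (levi (Matrix.SpecialLinearGroup.toGL (cycSL F (⟨p, by omega⟩ : Fin (p + 2))))) *ᵥ
          x)) := by
  unfold nP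
  rw [coe_mul_mulVec, coe_mul_mulVec]

theorem cyc_lt {p k : ℕ} (hk : k < p) :
    Fin.cycleRange (⟨p, by omega⟩ : Fin (p + 2)) (⟨k, by omega⟩ : Fin (p + 2)) =
      (⟨k + 1, by omega⟩ : Fin (p + 2)) := by
  apply Fin.ext
  rw [Fin.coe_cycleRange_of_lt]
  exact hk

theorem nP_ev {p k : ℕ} (hk : k < p) : mat (nP F p) *ᵥ ev F (p + 2) k = ev F (p + 2) (k + 1) := by
  rw [ev_of_lt (by omega : k < p + 2), ev_of_lt (by omega : k + 1 < p + 2), nP_mulVec, cyc_eF,
    cyc_lt hk, if_neg (by intro h; have := congrArg Fin.val h; simp at this; omega), one_smul,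
    rhoR_eF_ne (by intro h; have := congrArg Fin.val h; simp at this; omega),
    rhoR_eF_ne (by intro h; have := congrArg Fin.val h; simp at this)]

theorem nP_fv {p k : ℕ} (hk : k < p) : mat (nP F p) *ᵥ fv F (p + 2) k = fv F (p + 2) (k + 1) := by
  rw [fv_of_lt (by omega : k < p + 2), fv_of_lt (by omega : k + 1 < p + 2), nP_mulVec, cyc_fF,
    cyc_lt hk, if_neg (by intro h; have := congrArg Fin.val h; simp at this; omega), one_smul,
    rhoR_fF_ne (by intro h; have := congrArg Fin.val h; simp at this; omega),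
    rhoR_fF_ne (by intro h; have := congrArg Fin.val h; simp at this)]

theorem cyc_self (p : ℕ) :
    Fin.cycleRange (⟨p, by omega⟩ : Fin (p + 2)) (⟨p, by omega⟩ : Fin (p + 2)) =
      (⟨0, by omega⟩ : Fin (p + 2)) := by
  rw [Fin.cycleRange_self]
  rfl

theorem nP_ev_p (p : ℕ) (hp : 1 ≤ p) :
    mat (nP F p) *ᵥ ev F (p + 2) p = ((-1 : F) ^ p) • fv F (p + 2) 0 := by
  rw [ev_of_lt (by omega : p < p + 2), fv_of_lt (by omega : 0 < p + 2), nP_mulVec, cyc_eF,
    cyc_self, if_pos rfl, Matrix.mulVec_smul, Matrix.mulVec_smul,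
    rhoR_eF_ne (by intro h; have := congrArg Fin.val h; simp at this), rhoR_eF_same]

theorem nP_fv_p (p : ℕ) (hp : 1 ≤ p) :
    mat (nP F p) *ᵥ fv F (p + 2) p = ((-1 : F) ^ p) • ev F (p + 2) 0 := by
  rw [fv_of_lt (by omega : p < p + 2), ev_of_lt (by omega : 0 < p + 2), nP_mulVec, cyc_fF,
    cyc_self, if_pos rfl, Matrix.mulVec_smul, Matrix.mulVec_smul,
    rhoR_fF_ne (by intro h; have := congrArg Fin.val h; simp at this), rhoR_fF_same]

theorem cyc_last (p : ℕ) :
    Fin.cycleRange (⟨p, by omega⟩ : Fin (p + 2)) (⟨p + 1, by omega⟩ : Fin (p + 2)) =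
      (⟨p + 1, by omega⟩ : Fin (p + 2)) := by
  rw [Fin.cycleRange_of_gt]
  show p < p + 1
  omega

theorem nP_ev_l (p : ℕ) :
    mat (nP F p) *ᵥ ev F (p + 2) (p + 1) = fv F (p + 2) (p + 1) := by
  rw [ev_of_lt (by omega : p + 1 < p + 2), fv_of_lt (by omega : p + 1 < p + 2), nP_mulVec, cyc_eF,
    cyc_last, if_neg (by intro h; have := congrArg Fin.val h; simp at this), one_smul,
    rhoR_eF_same, rhoR_fF_ne (by intro h; have := congrArg Fin.val h; simp at this)]

theorem nP_fv_l (p : ℕ) :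
    mat (nP F p) *ᵥ fv F (p + 2) (p + 1) = ev F (p + 2) (p + 1) := by
  rw [ev_of_lt (by omega : p + 1 < p + 2), fv_of_lt (by omega : p + 1 < p + 2), nP_mulVec, cyc_fF,
    cyc_last, if_neg (by intro h; have := congrArg Fin.val h; simp at this), one_smul,
    rhoR_fF_same, rhoR_eF_ne (by intro h; have := congrArg Fin.val h; simp at this)]

end monomial


section membership
open Cfsg.Agent.Lib.Helper5.OrthGen Cfsg.Agent.Lib.Helper5.OmegaCrit

variable [Fintype F]

theorem card_idx (m : ℕ) : Fintype.card (Fin m ⊕ Fin m) = 2 * m := by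
  rw [Fintype.card_sum, Fintype.card_fin]; omega

/-- the Levi image of `SL_m` lies in `Ω` in every characteristic -/
theorem levi_SL_mem_all (hm : 3 ≤ m) (S : Matrix.SpecialLinearGroup (Fin m) F) :
    levi (Matrix.SpecialLinearGroup.toGL S) ∈ commutator ↥(Cfsg.isometryGroup F ⇑(QP m F)) := by
  by_cases h2 : (2 : F) = 0
  · exact levi_mem_even h2 (Or.inr (by rw [card_idx]; omega)) (by omega) _
  · exact levi_SL_mem h2 (by omega) S

/-- the product of two of the reflections lies in `Ω` -/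
theorem rhoR_mul_mem (hm : 3 ≤ m) (i j : Fin m) :
    rhoR F i * rhoR F j ∈ commutator ↥(Cfsg.isometryGroup F ⇑(QP m F)) := by
  have hcrit := criterion_all (QP_nondeg m) (Or.inr (by rw [card_idx]; omega))
    (by rw [card_idx]; omega) (rhoR F i * rhoR F j)
    [wvec Sum.inl Sum.inr i, wvec Sum.inl Sum.inr j] (by
      intro v hv
      rw [List.mem_cons, List.mem_singleton] at hv
      rcases hv with rfl | rfl
      · exact Q_wvec_ne _
      · exact Q_wvec_ne _) (by
      simp only [List.map_cons, List.map_nil, List.prod_cons, List.prod_nil, mul_one]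
      rfl)
  rw [hcrit]
  refine ⟨⟨1, rfl⟩, ?_⟩
  simp only [List.map_cons, List.map_nil, List.prod_cons, List.prod_nil, mul_one]
  rw [Q_wvec (hyp_plus m), Q_wvec (hyp_plus m)]
  exact ⟨1, by ring⟩

theorem nP_mem (p : ℕ) (hp : 1 ≤ p) :
    nP F p ∈ commutator ↥(Cfsg.isometryGroup F ⇑(QP (p + 2) F)) := by
  unfold nP
  exact Subgroup.mul_mem _ (rhoR_mul_mem (by omega) _ _) (levi_SL_mem_all (by omega) _)

end membership


section torusP
open Cfsg.Agent.Lib.Helper5.OrthGen

/-- the diagonal entries of the torus element -/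
def muP (p : ℕ) (lam : Fˣ) (i : Fin (p + 2)) : Fˣ :=
  if (i : ℕ) = 2 then lam⁻¹ else if (i : ℕ) = p + 1 then lam else 1

theorem prod_muP (p : ℕ) (hp : 2 ≤ p) (lam : Fˣ) : ∏ i, muP p lam i = 1 := by
  rw [Finset.prod_eq_mul (⟨2, by omega⟩ : Fin (p + 2)) (⟨p + 1, by omega⟩ : Fin (p + 2))]
  · unfold muP
    rw [if_pos rfl, if_neg (by show ¬ (p + 1 = 2); omega), if_pos rfl, inv_mul_cancel]
  · intro h
    have := congrArg Fin.val h
    simp at this
    omega
  · intro c _ hc
    unfold muP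
    rw [if_neg (by intro h; apply hc.1; exact Fin.ext h),
      if_neg (by intro h; apply hc.2; exact Fin.ext h)]
  · intro h; exact absurd (Finset.mem_univ _) h
  · intro h; exact absurd (Finset.mem_univ _) h

/-- the torus element `s` -/
noncomputable def sP (p : ℕ) (hp : 2 ≤ p) (lam : Fˣ) : ↥(Cfsg.isometryGroup F ⇑(QP (p + 2) F)) :=
  levi (Matrix.SpecialLinearGroup.toGL (diagSL (muP p lam) (prod_muP p hp lam)))

theorem sP_ev (p : ℕ) (hp : 2 ≤ p) (lam : Fˣ) {k : ℕ} (hk : k < 2) :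
    mat (sP p hp lam) *ᵥ ev F (p + 2) k = ev F (p + 2) k := by
  unfold sP
  rw [ev_of_lt (by omega : k < p + 2), torus_eF]
  unfold muP
  rw [if_neg (by show ¬ (k = 2); omega), if_neg (by show ¬ (k = p + 1); omega), Units.val_one,
    one_smul]

theorem sP_fv (p : ℕ) (hp : 2 ≤ p) (lam : Fˣ) {k : ℕ} (hk : k < 2) :
    mat (sP p hp lam) *ᵥ fv F (p + 2) k = fv F (p + 2) k := by
  unfold sP
  rw [fv_of_lt (by omega : k < p + 2), torus_fF]
  unfold muP
  rw [if_neg (by show ¬ (k = 2); omega), if_neg (by show ¬ (k = p + 1); omega), inv_one,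
    Units.val_one, one_smul]

theorem sP_fv_two (p : ℕ) (hp : 2 ≤ p) (lam : Fˣ) :
    mat (sP p hp lam) *ᵥ fv F (p + 2) 2 = (lam : F) • fv F (p + 2) 2 := by
  unfold sP
  rw [fv_of_lt (by omega : 2 < p + 2), torus_fF]
  unfold muP
  rw [if_pos rfl, inv_inv]

theorem sP_pow [Fintype F] (p : ℕ) (hp : 2 ≤ p) (lam : Fˣ) :
    sP p hp lam ^ (Fintype.card F - 1) = 1 := by
  unfold sP
  rw [← map_pow, ← map_pow, diagSL_pow, map_one, map_one]
  intro i
  classical
  rw [← Fintype.card_units]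
  exact pow_card_eq_one

theorem sP_mem [Fintype F] (p : ℕ) (hp : 2 ≤ p) (lam : Fˣ) :
    sP p hp lam ∈ commutator ↥(Cfsg.isometryGroup F ⇑(QP (p + 2) F)) :=
  levi_SL_mem_all (by omega) _

/-- a generator of the multiplicative group -/
theorem exists_gen [Fintype F] : ∃ lam : Fˣ, ∀ c : F, c ≠ 0 → ∃ k : ℕ, c = (lam : F) ^ k := by
  obtain ⟨lam, hlam⟩ := IsCyclic.exists_generator (α := Fˣ)
  refine ⟨lam, fun c hc => ?_⟩
  have h1 := hlam (Units.mk0 c hc)
  rw [← mem_powers_iff_mem_zpowers] at h1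
  obtain ⟨k, hk⟩ := Submonoid.mem_powers_iff _ _ |>.1 h1
  refine ⟨k, ?_⟩
  have := congrArg (fun u : Fˣ => (u : F)) hk
  simpa using this.symm

end torusP

end Cfsg.Agent.Lib.Helper3.OPlus
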