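import Mathlib
import Cfsg.Prelude
import Cfsg.Agent.Lib.Helper7.OmTwoA
import Cfsg.Agent.Lib.Helper9.Siegel1

set_option autoImplicit false

/-! Frame data for the root-group chase proving the two-generation of `Ω⁺_{2m}(q)`, `m = p + 2 ≥ 4`
(definitions only). -/

namespace Cfsg.Agent.Lib.Helper3.OPlus

open Matrix Cfsg.Agent.H9Orth Cfsg.Agent.H9Sieg Cfsg.Agent.Lib.Helper7.OmTwo

variable {F : Type*} [Field F] {ι : Type} [Fintype ι] [DecidableEq ι]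
variable {Q : QuadraticForm F (ι → F)}

/-- a hyperbolic frame `e k, f k` (`k ≤ p + 1`) spanning the space -/
structure FrP (Q : QuadraticForm F (ι → F)) (p : ℕ) (e f : ℕ → ι → F) : Prop where
  qe : ∀ i, i ≤ p + 1 → Q (e i) = 0
  qf : ∀ i, i ≤ p + 1 → Q (f i) = 0
  ef : ∀ i j, i ≤ p + 1 → j ≤ p + 1 → QuadraticMap.polar (⇑Q) (e i) (f j) = if i = j then 1 else 0
  ee : ∀ i j, i ≤ p + 1 → j ≤ p + 1 → QuadraticMap.polar (⇑Q) (e i) (e j) = 0
  ff : ∀ i j, i ≤ p + 1 → j ≤ p + 1 → QuadraticMap.polar (⇑Q) (f i) (f j) = 0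
  span : ∀ v : ι → F, ∃ a b : ℕ → F, v = ∑ k ∈ Finset.range (p + 2), (a k • e k + b k • f k)

/-- the action of the monomial element `n` on the frame -/
structure NAct (p : ℕ) (e f : ℕ → ι → F) (ε : F) (n : ↥(Cfsg.isometryGroup F ⇑Q)) : Prop where
  ne : ∀ k, k < p → mat n *ᵥ e k = e (k + 1)
  nf : ∀ k, k < p → mat n *ᵥ f k = f (k + 1)
  nep : mat n *ᵥ e p = ε • f 0
  nfp : mat n *ᵥ f p = ε • e 0
  nel : mat n *ᵥ e (p + 1) = f (p + 1)
  nfl : mat n *ᵥ f (p + 1) = e (p + 1)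
  hε : ε = 1 ∨ ε = -1

/-- the action of the torus element `s` on two frame vectors -/
structure SAct (e f : ℕ → ι → F) (μ : F) (s : ↥(Cfsg.isometryGroup F ⇑Q)) : Prop where
  se : mat s *ᵥ e 1 = e 1
  sf : mat s *ᵥ f 2 = μ • f 2
  gen : ∀ c : F, c ≠ 0 → ∃ k : ℕ, c = μ ^ k

end Cfsg.Agent.Lib.Helper3.OPlus
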