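import Mathlib
import Cfsg.Prelude
import Cfsg.Agent.Lib.Helper3.OPlus1
import Cfsg.Agent.Lib.Lead.OPlusChase
import Cfsg.Agent.Lib.Helper2.OrthTransfer

set_option autoImplicit false

/-! The two-generation of `Ω⁺_{2m}(q)`, `m ≥ 4`: assembly of the concrete data and the chase. -/

namespace Cfsg.Agent.Lib.Helper3.OPlus

open Matrix Cfsg.Agent.H9Sieg Cfsg.Agent.H9Orth Cfsg.Agent.Lib.Helper7.OmTwo
open Cfsg.Agent.Lib.Helper5.QuadGlue Cfsg.Agent.Lib.Helper2.QuadStd

/-- the two factors of a product of commuting elements of coprime orders -/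
theorem split_coprime {G : Type*} [Group G] (T : Subgroup G) (a b : G) (hc : Commute a b) (M N : ℕ)
    (ha : a ^ M = 1) (hb : b ^ N = 1) (hMN : Nat.Coprime M N) (hab : a * b ∈ T) : a ∈ T ∧ b ∈ T := by
  have key : a ∈ T := by
    have h1 : (a * b) ^ ((N : ℤ) * Nat.gcdB M N) ∈ T := T.zpow_mem hab _
    have e : (a * b) ^ ((N : ℤ) * Nat.gcdB M N) = a := by
      rw [hc.mul_zpow, _root_.zpow_mul b, zpow_natCast, hb, _root_.one_zpow, mul_one]
      have hbez : (M : ℤ) * Nat.gcdA M N + N * Nat.gcdB M N = 1 := by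
        have := Nat.gcd_eq_gcd_ab M N
        rw [hMN] at this
        simpa using this.symm
      have e2 : (N : ℤ) * Nat.gcdB M N = 1 - M * Nat.gcdA M N := by linarith
      rw [e2, _root_.zpow_sub, zpow_one, _root_.zpow_mul, zpow_natCast, ha, _root_.one_zpow, inv_one, mul_one]
    rwa [e] at h1
  refine ⟨key, ?_⟩
  have : b = a⁻¹ * (a * b) := by group
  rw [this]
  exact T.mul_mem (T.inv_mem key) hab

section generic
variable {F : Type*} [Field F] {ι : Type} [Fintype ι] [DecidableEq ι]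
variable {Q : QuadraticForm F (ι → F)}

/-- powers of an Eichler transformation -/
theorem eich_pow (hQ : (QuadraticMap.polarBilin Q).Nondegenerate) (u v : ι → F)
    (hu : Q u = 0) (huv : QuadraticMap.polar (⇑Q) u v = 0) (k : ℕ) :
    (eich hQ u v hu huv) ^ k = eich hQ u ((k : F) • v) hu
      (by rw [QuadraticMap.polar_smul_right, huv, smul_zero]) := by
  induction k with
  | zero =>
    rw [pow_zero]
    symm
    have := eich_zero hQ u hu
    rw [← this]
    exact eich_congr hQ rfl (by simp) _ _ _ _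
  | succ k ih =>
    rw [pow_succ, ih, eich_mul]
    exact eich_congr hQ rfl (by push_cast; module) _ _ _ _

theorem eich_pow_card [Fintype F] (hQ : (QuadraticMap.polarBilin Q).Nondegenerate) (u v : ι → F)
    (hu : Q u = 0) (huv : QuadraticMap.polar (⇑Q) u v = 0) :
    (eich hQ u v hu huv) ^ (Fintype.card F) = 1 := by
  rw [eich_pow, ← eich_zero hQ u hu]
  exact eich_congr hQ rfl (by rw [Nat.cast_card_eq_zero, zero_smul]) _ _ _ _

end generic

variable {F : Type*} [Field F]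

theorem frP (p : ℕ) : FrP (QP (p + 2) F) p (ev F (p + 2)) (fv F (p + 2)) where
  qe := fun i hi => by rw [ev_of_lt (by omega : i < p + 2)]; exact Q_eF _
  qf := fun i hi => by rw [fv_of_lt (by omega : i < p + 2)]; exact Q_fF _
  ef := fun i j hi hj => by
    rw [ev_of_lt (by omega : i < p + 2), fv_of_lt (by omega : j < p + 2), polar_eF_fF]
    simp only [Fin.mk.injEq]
  ee := fun i j hi hj => by
    rw [ev_of_lt (by omega : i < p + 2), ev_of_lt (by omega : j < p + 2), polar_eF_eF]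
  ff := fun i j hi hj => by
    rw [fv_of_lt (by omega : i < p + 2), fv_of_lt (by omega : j < p + 2), polar_fF_fF]
  span := fun v => ⟨_, _, vec_eq_sum v⟩

theorem nAct (p : ℕ) (hp : 1 ≤ p) :
    NAct p (ev F (p + 2)) (fv F (p + 2)) ((-1 : F) ^ p) (nP F p) where
  ne := fun k hk => nP_ev hk
  nf := fun k hk => nP_fv hk
  nep := nP_ev_p p hp
  nfp := nP_fv_p p hp
  nel := nP_ev_l p
  nfl := nP_fv_l p
  hε := by
    rcases Nat.even_or_odd p with h | h
    · left; exact h.neg_one_pow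
    · right; exact h.neg_one_pow

theorem sAct (p : ℕ) (hp : 2 ≤ p) (lam : Fˣ)
    (hlam : ∀ c : F, c ≠ 0 → ∃ k : ℕ, c = (lam : F) ^ k) :
    SAct (ev F (p + 2)) (fv F (p + 2)) (lam : F) (sP p hp lam) where
  se := sP_ev p hp lam (by omega)
  sf := sP_fv_two p hp lam
  gen := hlam

/-- two elements of `Ω⁺_{2(p+2)}(q)` generating it -/
theorem two_gen_plus [Fintype F] (p : ℕ) (hp : 2 ≤ p) :
    ∃ x y : ↥(Cfsg.isometryGroup F ⇑(QP (p + 2) F)),
      x ∈ commutator ↥(Cfsg.isometryGroup F ⇑(QP (p + 2) F)) ∧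
      y ∈ commutator ↥(Cfsg.isometryGroup F ⇑(QP (p + 2) F)) ∧
      commutator ↥(Cfsg.isometryGroup F ⇑(QP (p + 2) F)) ≤
        Subgroup.closure ({x, y} : Set ↥(Cfsg.isometryGroup F ⇑(QP (p + 2) F))) := by
  obtain ⟨lam, hlam⟩ := exists_gen (F := F)
  have hQ : (QuadraticMap.polarBilin (QP (p + 2) F)).Nondegenerate := QP_nondeg (p + 2)
  have hcard : 7 ≤ Fintype.card (Fin (p + 2) ⊕ Fin (p + 2)) := by rw [card_idx]; omega
  have fr := frP (F := F) p
  have hu0 : QP (p + 2) F (ev F (p + 2) 0) = 0 := fr.qe 0 (by omega)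
  have h01 : QuadraticMap.polar (⇑(QP (p + 2) F)) (ev F (p + 2) 0) (fv F (p + 2) 1) = 0 := by
    rw [fr.ef 0 1 (by omega) (by omega), if_neg (by omega)]
  have h0l : QuadraticMap.polar (⇑(QP (p + 2) F)) (ev F (p + 2) 0) (ev F (p + 2) (p + 1)) = 0 :=
    fr.ee 0 (p + 1) (by omega) (by omega)
  set t := eich hQ (ev F (p + 2) 0) (fv F (p + 2) 1) hu0 h01 with ht
  set r := eich hQ (ev F (p + 2) 0) (ev F (p + 2) (p + 1)) hu0 h0l with hr
  set s := sP p hp lam with hs
  set n := nP F p with hn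
  have htΩ : t ∈ commutator ↥(Cfsg.isometryGroup F ⇑(QP (p + 2) F)) :=
    eich_mem_Omega hQ hcard _ _ _ _
  have hrΩ : r ∈ commutator ↥(Cfsg.isometryGroup F ⇑(QP (p + 2) F)) :=
    eich_mem_Omega hQ hcard _ _ _ _
  refine ⟨s * t, n * r, Subgroup.mul_mem _ (sP_mem p hp lam) htΩ,
    Subgroup.mul_mem _ (nP_mem p (by omega)) hrΩ, ?_⟩
  set K := Subgroup.closure ({s * t, n * r} : Set ↥(Cfsg.isometryGroup F ⇑(QP (p + 2) F))) with hK
  have hxK : s * t ∈ K := Subgroup.subset_closure (by simp)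
  have hyK : n * r ∈ K := Subgroup.subset_closure (by simp)
  have hc : Commute s t := by
    have h1 := conj_eich hQ s (ev F (p + 2) 0) (fv F (p + 2) 1) hu0 h01
    have h2 : s * t * s⁻¹ = t := by
      rw [ht, h1]
      exact eich_congr hQ (sP_ev p hp lam (by omega)) (sP_fv p hp lam (by omega)) _ _ _ _
    show s * t = t * s
    calc s * t = s * t * s⁻¹ * s := by group
      _ = t * s := by rw [h2]
  have hcop : Nat.Coprime (Fintype.card F - 1) (Fintype.card F) := by
    have h1 : 1 ≤ Fintype.card F := Fintype.card_pos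
    have h2 : Fintype.card F = (Fintype.card F - 1) + 1 := by omega
    rw [h2, Nat.add_sub_cancel]
    exact Nat.coprime_self_add_right.2 (Nat.coprime_one_right _)
  obtain ⟨hsK, htK⟩ := split_coprime K s t hc (Fintype.card F - 1) (Fintype.card F)
    (sP_pow p hp lam) (eich_pow_card hQ _ _ _ _) hcop hxK
  exact omega_le_of_chase hQ hcard hp fr (nAct p (by omega)) (sAct p hp lam hlam) K hsK
    ⟨hu0, h01, htK⟩ (fun _ _ => hyK)

/-- **two-generation of `PΩ⁺_{2m}(q)`, `m ≥ 4`** -/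
theorem two_gen_POmega_plus [Fintype F] (m : ℕ) (hm : 4 ≤ m) :
    ∃ a b : Cfsg.POmega F (Cfsg.quadFormPlus m F),
      Subgroup.closure ({a, b} : Set (Cfsg.POmega F (Cfsg.quadFormPlus m F))) = ⊤ := by
  obtain ⟨p, rfl⟩ : ∃ p, m = p + 2 := ⟨m - 2, by omega⟩
  obtain ⟨x, y, hx, hy, h⟩ := two_gen_plus (F := F) p (by omega)
  exact Cfsg.Agent.Lib.Helper5.OrthGen.two_gen_POmega (Cfsg.quadFormPlus (p + 2) F)
    (⇑(QP (p + 2) F)) (LinearEquiv.refl F _) (fun v => QP_apply (p + 2) v) x y hx hy h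

end Cfsg.Agent.Lib.Helper3.OPlus
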