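import Mathlib
import Cfsg.Prelude
import Cfsg.Agent.Lib.Helper2.ReflGen
import Cfsg.Agent.Lib.Helper2.CDGen
import Cfsg.Agent.Lib.Helper2.LongRoot1
import Cfsg.Agent.Lib.Helper7.SubgDefs

set_option autoImplicit false
set_option linter.unusedSectionVars false
set_option linter.unusedVariables false

/-!
# Rational structures for quadratic forms: the bridge to the subfield

`Q : QuadraticForm F (ι → F)` takes values in the subfield `F₀` on the rational vectors (`QRat`).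
Then `Q` restricts to a quadratic form `Q₀` over the field `↥F₀` on `ι → ↥F₀`, and every statement of
"rational geometry" for `Q` is a statement about `Q₀`, to which the field-generic orthogonal library
(`Helper2.LongRoot*`, `Helper9.OrthMax*`, `OmMin_*`) applies.

* `up`, `upM`: vectors / matrices over `↥F₀` as vectors / matrices over `F`;
* `Q₀`, `Q₀_coe`, `polar_Q₀_coe`, `Q₀_nondeg`;
* `ext_rat`: two quadratic forms agreeing on the rational vectors are equal;
* `upO : O(Q₀) →* O(Q)` and its properties.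
-/

namespace Cfsg.Agent.Lib.Helper3.OrthRat

open Matrix Cfsg.Agent.Lib.Helper7.Subg Cfsg.Agent.Lib.Helper2.ReflGen

variable {F : Type*} [Field F] {ι : Type} [Fintype ι] [DecidableEq ι]
variable (F₀ : Subfield F)

/-! ## vectors and matrices -/

/-- a vector over the subfield as a vector over `F` -/
def up (v : ι → ↥F₀) : ι → F := fun i => (v i : F)

theorem up_apply (v : ι → ↥F₀) (i : ι) : up F₀ v i = (v i : F) := rfl

theorem rat_up (v : ι → ↥F₀) : Rat F₀ (up F₀ v) := fun i => (v i).2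

theorem up_add (v w : ι → ↥F₀) : up F₀ (v + w) = up F₀ v + up F₀ w := rfl

theorem up_sub (v w : ι → ↥F₀) : up F₀ (v - w) = up F₀ v - up F₀ w := rfl

theorem up_neg (v : ι → ↥F₀) : up F₀ (-v) = -up F₀ v := rfl

theorem up_zero : up F₀ (0 : ι → ↥F₀) = 0 := rfl

theorem up_smul (c : ↥F₀) (v : ι → ↥F₀) : up F₀ (c • v) = (c : F) • up F₀ v := rfl

theorem up_injective : Function.Injective (up F₀ (ι := ι)) := by
  intro v w h
  funext i
  exact Subtype.ext (congrFun h i)

theorem up_eq_zero {v : ι → ↥F₀} : up F₀ v = 0 ↔ v = 0 := by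
  rw [← up_zero F₀]
  exact (up_injective F₀).eq_iff

theorem up_single (i : ι) (c : ↥F₀) :
    up F₀ (Pi.single i c : ι → ↥F₀) = (Pi.single i (c : F) : ι → F) := by
  funext j
  rw [up_apply, Pi.single_apply, Pi.single_apply]
  split_ifs <;> rfl

/-- the vector over the subfield of a rational vector -/
def down {v : ι → F} (hv : Rat F₀ v) : ι → ↥F₀ := fun i => ⟨v i, hv i⟩

theorem up_down {v : ι → F} (hv : Rat F₀ v) : up F₀ (down F₀ hv) = v := rfl

theorem exists_up {v : ι → F} (hv : Rat F₀ v) : ∃ v₀ : ι → ↥F₀, up F₀ v₀ = v := ⟨down F₀ hv, rfl⟩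

/-- a matrix over the subfield as a matrix over `F` -/
def upM (A : Matrix ι ι ↥F₀) : Matrix ι ι F := A.map F₀.subtype

theorem upM_apply (A : Matrix ι ι ↥F₀) (i j : ι) : upM F₀ A i j = (A i j : F) := rfl

theorem ratMat_upM (A : Matrix ι ι ↥F₀) : RatMat F₀ (upM F₀ A) := fun i j => (A i j).2

theorem upM_mulVec (A : Matrix ι ι ↥F₀) (v : ι → ↥F₀) :
    upM F₀ A *ᵥ up F₀ v = up F₀ (A *ᵥ v) := by
  funext i
  rw [up_apply, Matrix.mulVec, Matrix.mulVec, dotProduct, dotProduct]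
  push_cast
  rfl

theorem upM_mul (A B : Matrix ι ι ↥F₀) : upM F₀ (A * B) = upM F₀ A * upM F₀ B :=
  Matrix.map_mul

theorem upM_one : upM F₀ (1 : Matrix ι ι ↥F₀) = 1 :=
  Matrix.map_one _ (map_zero _) (map_one _)

/-! ## the restricted quadratic form -/

variable {F₀}
variable {Q : QuadraticForm F (ι → F)}

/-- `Q` takes values in `F₀` on the rational vectors -/
def QRat (F₀ : Subfield F) (Q : QuadraticForm F (ι → F)) : Prop := ∀ v : ι → F, Rat F₀ v → Q v ∈ F₀

theorem QRat.polar_mem (hR : QRat F₀ Q) {x y : ι → F} (hx : Rat F₀ x) (hy : Rat F₀ y) :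
    QuadraticMap.polar (⇑Q) x y ∈ F₀ := by
  unfold QuadraticMap.polar
  exact F₀.sub_mem (F₀.sub_mem (hR _ (hx.add hy)) (hR _ hx)) (hR _ hy)

/-- the restriction of `Q` to the rational vectors, as a quadratic form over `↥F₀` -/
def Q₀ (hR : QRat F₀ Q) : QuadraticForm ↥F₀ (ι → ↥F₀) :=
  QuadraticMap.ofPolar (fun v => ⟨Q (up F₀ v), hR _ (rat_up F₀ v)⟩)
    (by
      intro a x
      apply Subtype.ext
      rw [smul_eq_mul]
      show Q (up F₀ (a • x)) = ((a : F) * (a : F)) * Q (up F₀ x)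
      rw [up_smul, QuadraticMap.map_smul, smul_eq_mul])
    (by
      intro x x' y
      apply Subtype.ext
      show Q (up F₀ (x + x' + y)) - Q (up F₀ (x + x')) - Q (up F₀ y) =
        (Q (up F₀ (x + y)) - Q (up F₀ x) - Q (up F₀ y)) +
        (Q (up F₀ (x' + y)) - Q (up F₀ x') - Q (up F₀ y))
      have h := QuadraticMap.polar_add_left Q (up F₀ x) (up F₀ x') (up F₀ y)
      unfold QuadraticMap.polar at h
      simp only [up_add]
      exact h)
    (by
      intro a x y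
      apply Subtype.ext
      show Q (up F₀ (a • x + y)) - Q (up F₀ (a • x)) - Q (up F₀ y) =
        (a : F) * (Q (up F₀ (x + y)) - Q (up F₀ x) - Q (up F₀ y))
      have h := QuadraticMap.polar_smul_left Q (a : F) (up F₀ x) (up F₀ y)
      unfold QuadraticMap.polar at h
      simp only [up_add, up_smul]
      exact h)

theorem Q₀_coe (hR : QRat F₀ Q) (v : ι → ↥F₀) : ((Q₀ hR v : ↥F₀) : F) = Q (up F₀ v) := rfl

theorem polar_Q₀_coe (hR : QRat F₀ Q) (x y : ι → ↥F₀) :
    ((QuadraticMap.polar (⇑(Q₀ hR)) x y : ↥F₀) : F) = QuadraticMap.polar (⇑Q) (up F₀ x) (up F₀ y) := rfl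

theorem Q₀_eq_zero (hR : QRat F₀ Q) (v : ι → ↥F₀) : Q₀ hR v = 0 ↔ Q (up F₀ v) = 0 := by
  rw [← Q₀_coe hR]
  exact ⟨fun h => by rw [h]; rfl, fun h => Subtype.ext h⟩

theorem polar_Q₀_eq_zero (hR : QRat F₀ Q) (x y : ι → ↥F₀) :
    QuadraticMap.polar (⇑(Q₀ hR)) x y = 0 ↔ QuadraticMap.polar (⇑Q) (up F₀ x) (up F₀ y) = 0 := by
  rw [← polar_Q₀_coe hR]
  exact ⟨fun h => by rw [h]; rfl, fun h => Subtype.ext h⟩

theorem polar_Q₀_eq_one (hR : QRat F₀ Q) (x y : ι → ↥F₀) :
    QuadraticMap.polar (⇑(Q₀ hR)) x y = 1 ↔ QuadraticMap.polar (⇑Q) (up F₀ x) (up F₀ y) = 1 := by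
  rw [← polar_Q₀_coe hR]
  exact ⟨fun h => by rw [h]; rfl, fun h => Subtype.ext h⟩

/-- every vector is the sum of its coordinates times the (rational) standard basis vectors -/
theorem eq_sum_single (v : ι → F) : v = ∑ i, v i • (Pi.single i (1 : F) : ι → F) := by
  funext j
  rw [Finset.sum_apply, Finset.sum_eq_single j]
  · simp
  · intro i _ hij
    simp [Ne.symm hij]
  · intro h
    exact absurd (Finset.mem_univ _) h

/-- nondegeneracy goes down to the subfield -/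
theorem Q₀_nondeg (hR : QRat F₀ Q) (hQ : (QuadraticMap.polarBilin Q).Nondegenerate) :
    (QuadraticMap.polarBilin (Q₀ hR)).Nondegenerate := by
  have hleft : ∀ x : ι → ↥F₀, (∀ y, QuadraticMap.polar (⇑(Q₀ hR)) x y = 0) → x = 0 := by
    intro x hx
    rw [← up_eq_zero F₀]
    apply hQ.1
    intro y
    show QuadraticMap.polar (⇑Q) (up F₀ x) y = 0
    rw [eq_sum_single y]
    have : QuadraticMap.polar (⇑Q) (up F₀ x) (∑ i, y i • (Pi.single i (1 : F) : ι → F)) =
        ∑ i, y i • QuadraticMap.polar (⇑Q) (up F₀ x) (Pi.single i (1 : F) : ι → F) := by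
      have := map_sum (QuadraticMap.polarBilin Q (up F₀ x)) (fun i => y i • (Pi.single i (1 : F) : ι → F))
        Finset.univ
      simp only [map_smul] at this
      exact this
    rw [this]
    apply Finset.sum_eq_zero
    intro i _
    have h := (polar_Q₀_eq_zero hR x (Pi.single i 1)).mp (hx _)
    rw [up_single] at h
    have h1 : ((1 : ↥F₀) : F) = 1 := rfl
    rw [h1] at h
    rw [h, smul_zero]
  constructor
  · intro x hx
    exact hleft x hx
  · intro y hy
    apply hleft y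
    intro x
    rw [QuadraticMap.polar_comm]
    exact hy x

/-! ## quadratic forms are determined by their values on rational vectors -/

theorem ext_rat (F₀ : Subfield F) {Q₁ Q₂ : QuadraticForm F (ι → F)}
    (h : ∀ v, Rat F₀ v → Q₁ v = Q₂ v) : Q₁ = Q₂ := by
  classical
  have hs (i : ι) : Rat F₀ (Pi.single i (1 : F) : ι → F) := Rat.single F₀ i F₀.one_mem
  have hpol : ∀ i j : ι, QuadraticMap.polar (⇑Q₁) (Pi.single i (1 : F)) (Pi.single j (1 : F)) =
      QuadraticMap.polar (⇑Q₂) (Pi.single i (1 : F)) (Pi.single j (1 : F)) := by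
    intro i j
    unfold QuadraticMap.polar
    rw [h _ ((hs i).add (hs j)), h _ (hs i), h _ (hs j)]
  -- the polar forms agree on (anything, basis vector)
  have hpol2 : ∀ (x : ι → F) (j : ι), QuadraticMap.polar (⇑Q₁) x (Pi.single j (1 : F)) =
      QuadraticMap.polar (⇑Q₂) x (Pi.single j (1 : F)) := by
    intro x j
    rw [eq_sum_single x, QuadraticMap.polar_comm (⇑Q₁), QuadraticMap.polar_comm (⇑Q₂)]
    have e1 := map_sum (QuadraticMap.polarBilin Q₁ (Pi.single j (1 : F)))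
      (fun i => x i • (Pi.single i (1 : F) : ι → F)) Finset.univ
    have e2 := map_sum (QuadraticMap.polarBilin Q₂ (Pi.single j (1 : F)))
      (fun i => x i • (Pi.single i (1 : F) : ι → F)) Finset.univ
    simp only [map_smul] at e1 e2
    show (QuadraticMap.polarBilin Q₁ (Pi.single j (1 : F))) _ = (QuadraticMap.polarBilin Q₂ (Pi.single j (1 : F))) _
    rw [e1, e2]
    refine Finset.sum_congr rfl (fun i _ => ?_)
    show x i • QuadraticMap.polar (⇑Q₁) (Pi.single j (1 : F)) (Pi.single i (1 : F)) =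
      x i • QuadraticMap.polar (⇑Q₂) (Pi.single j (1 : F)) (Pi.single i (1 : F))
    rw [hpol]
  -- induction on the support
  have key : ∀ (s : Finset ι) (x : ι → F),
      Q₁ (∑ i ∈ s, x i • (Pi.single i (1 : F) : ι → F)) = Q₂ (∑ i ∈ s, x i • (Pi.single i (1 : F) : ι → F)) := by
    intro s x
    induction s using Finset.induction_on with
    | empty => simp
    | insert a s ha ih =>
      rw [Finset.sum_insert ha, add_comm, map_add_smul, map_add_smul, ih, hpol2, h _ (hs a)]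
  apply QuadraticMap.ext
  intro v
  rw [eq_sum_single v]
  exact key Finset.univ v

/-! ## isometries -/

/-- a matrix over `↥F₀` preserving `Q₀` preserves `Q` -/
theorem Q_upM_mulVec (hR : QRat F₀ Q) (A : Matrix ι ι ↥F₀)
    (hA : ∀ v : ι → ↥F₀, Q₀ hR (A *ᵥ v) = Q₀ hR v) (x : ι → F) :
    Q (upM F₀ A *ᵥ x) = Q x := by
  have h : Q.comp (Matrix.toLin' (upM F₀ A)) = Q := by
    apply ext_rat F₀
    intro v hv
    obtain ⟨v₀, rfl⟩ := exists_up F₀ hv
    rw [QuadraticMap.comp_apply, Matrix.toLin'_apply, upM_mulVec, ← Q₀_coe hR, ← Q₀_coe hR, hA]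
  have := congrArg (fun q : QuadraticForm F (ι → F) => q x) h
  simpa [QuadraticMap.comp_apply, Matrix.toLin'_apply] using this

/-- the embedding `O(Q₀) →* O(Q)` -/
noncomputable def upO (hR : QRat F₀ Q) :
    ↥(Cfsg.isometryGroup ↥F₀ ⇑(Q₀ hR)) →* ↥(Cfsg.isometryGroup F ⇑Q) where
  toFun g := ⟨Matrix.GeneralLinearGroup.map (F₀.subtype : ↥F₀ →+* F) (g : GL ι ↥F₀), by
    intro u v
    show Q (upM F₀ ((g : GL ι ↥F₀) : Matrix ι ι ↥F₀) *ᵥ u) = Q u
    exact Q_upM_mulVec hR _ (fun v => g.2 v v) u⟩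
  map_one' := by
    apply Subtype.ext
    show Matrix.GeneralLinearGroup.map (F₀.subtype : ↥F₀ →+* F) ((1 : ↥(Cfsg.isometryGroup ↥F₀ ⇑(Q₀ hR))) : GL ι ↥F₀) = 1
    rw [Subgroup.coe_one, map_one]
  map_mul' a b := by
    apply Subtype.ext
    show Matrix.GeneralLinearGroup.map (F₀.subtype : ↥F₀ →+* F) ((a * b : ↥(Cfsg.isometryGroup ↥F₀ ⇑(Q₀ hR))) : GL ι ↥F₀) =
      Matrix.GeneralLinearGroup.map (F₀.subtype : ↥F₀ →+* F) (a : GL ι ↥F₀) *
        Matrix.GeneralLinearGroup.map (F₀.subtype : ↥F₀ →+* F) (b : GL ι ↥F₀)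
    rw [Subgroup.coe_mul, map_mul]

theorem upO_coe (hR : QRat F₀ Q) (g : ↥(Cfsg.isometryGroup ↥F₀ ⇑(Q₀ hR))) :
    ((upO hR g : GL ι F) : Matrix ι ι F) = upM F₀ ((g : GL ι ↥F₀) : Matrix ι ι ↥F₀) := rfl

theorem upO_coe_gl (hR : QRat F₀ Q) (g : ↥(Cfsg.isometryGroup ↥F₀ ⇑(Q₀ hR))) :
    (upO hR g : GL ι F) = Matrix.GeneralLinearGroup.map (F₀.subtype : ↥F₀ →+* F) (g : GL ι ↥F₀) := rfl

theorem upO_mulVec_up (hR : QRat F₀ Q) (g : ↥(Cfsg.isometryGroup ↥F₀ ⇑(Q₀ hR))) (v : ι → ↥F₀) :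
    ((upO hR g : GL ι F) : Matrix ι ι F) *ᵥ up F₀ v = up F₀ (((g : GL ι ↥F₀) : Matrix ι ι ↥F₀) *ᵥ v) := by
  rw [upO_coe, upM_mulVec]

theorem ratMat_upO (hR : QRat F₀ Q) (g : ↥(Cfsg.isometryGroup ↥F₀ ⇑(Q₀ hR))) :
    RatMat F₀ ((upO hR g : GL ι F) : Matrix ι ι F) := ratMat_upM F₀ _

/-- `Ω(Q₀)` goes into `Ω(Q)` -/
theorem upO_mem_Omega (hR : QRat F₀ Q) {g : ↥(Cfsg.isometryGroup ↥F₀ ⇑(Q₀ hR))}
    (hg : g ∈ Cfsg.Omega ↥F₀ ⇑(Q₀ hR)) : upO hR g ∈ Cfsg.Omega F ⇑Q := by
  have h1 : upO hR g ∈ (commutator ↥(Cfsg.isometryGroup ↥F₀ ⇑(Q₀ hR))).map (upO hR) :=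
    Subgroup.mem_map_of_mem _ hg
  rw [commutator_def, Subgroup.map_commutator] at h1
  show upO hR g ∈ commutator ↥(Cfsg.isometryGroup F ⇑Q)
  rw [commutator_def]
  exact Subgroup.commutator_mono le_top le_top h1

end Cfsg.Agent.Lib.Helper3.OrthRat
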