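import Mathlib
import Cfsg.Prelude
import Cfsg.Agent.Lib.Helper2.LongRoot1
import Cfsg.Agent.Lib.Helper2.LongRoot2
import Cfsg.Agent.Lib.Helper2.OmMin.Defs
import Cfsg.Agent.Lib.Helper6.OmMin_M
import Cfsg.Agent.Lib.Helper1.OmMin_CONJ
import Cfsg.Agent.Lib.Helper9.OrthMax2
import Cfsg.Agent.Lib.Helper3.OrthRat

set_option autoImplicit false
set_option linter.unusedSectionVars false
set_option linter.unusedVariables false

/-!
# Rational geometry of a quadratic form with a rational structure (transfers from `Q₀`)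

* `upO_LR`, `upO_eich`: the images of the long root / Eichler elements of `Q₀`;
* `rat_exists_hyp_perp`: a rational hyperbolic pair orthogonal to `k` given rational vectors;
* `rat_trans_lines`: the rational long root group is transitive on rational totally singular pairs;
* `rat_exists_hyp`: rational hyperbolic families.
-/

namespace Cfsg.Agent.Lib.Helper3.OrthRat

open Matrix Cfsg.Agent.Lib.Helper7.Subg Cfsg.Agent.Lib.Helper2.ReflGen Cfsg.Agent.Lib.Helper2.LongRoot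
open Cfsg.Agent.Lib.Helper2.OmMin

universe u

variable {F : Type u} [Field F] {ι : Type} [Fintype ι] [DecidableEq ι]
variable {F₀ : Subfield F} {Q : QuadraticForm F (ι → F)}

theorem coe_one' : ((1 : ↥F₀) : F) = 1 := rfl

theorem polarVec_up (hR : QRat F₀ Q) (u : ι → ↥F₀) (j : ι) :
    ((Cfsg.polarVec (⇑(Q₀ hR)) u j : ↥F₀) : F) = Cfsg.polarVec (⇑Q) (up F₀ u) j := by
  unfold Cfsg.polarVec
  rw [polar_Q₀_coe, up_single, coe_one']

theorem upM_siegelMatrix (hR : QRat F₀ Q) (u v : ι → ↥F₀) (c : ↥F₀) :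
    upM F₀ (Cfsg.siegelMatrix (⇑(Q₀ hR)) u v c) = Cfsg.siegelMatrix (⇑Q) (up F₀ u) (up F₀ v) (c : F) := by
  ext i j
  rw [upM_apply]
  unfold Cfsg.siegelMatrix
  simp only [Matrix.add_apply, Matrix.smul_apply, Matrix.sub_apply, Matrix.vecMulVec_apply, smul_eq_mul]
  push_cast
  rw [polarVec_up, polarVec_up]
  congr 1
  by_cases h : i = j
  · rw [h, Matrix.one_apply_eq, Matrix.one_apply_eq]; rfl
  · rw [Matrix.one_apply_ne h, Matrix.one_apply_ne h]; rfl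

/-- the image of a rational long root element -/
theorem upO_LR (hR : QRat F₀ Q) (hQ : (QuadraticMap.polarBilin Q).Nondegenerate) (u v : ι → ↥F₀)
    (hu : Q₀ hR u = 0) (hv : Q₀ hR v = 0) (huv : QuadraticMap.polar (⇑(Q₀ hR)) u v = 0) (c : ↥F₀) :
    upO hR (LR (Q₀_nondeg hR hQ) u v hu hv huv c) =
      LR hQ (up F₀ u) (up F₀ v) ((Q₀_eq_zero hR u).mp hu) ((Q₀_eq_zero hR v).mp hv)
        ((polar_Q₀_eq_zero hR u v).mp huv) (c : F) := by
  apply Subtype.ext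
  apply Units.ext
  show upM F₀ (Cfsg.siegelMatrix (⇑(Q₀ hR)) u v c) = Cfsg.siegelMatrix (⇑Q) (up F₀ u) (up F₀ v) (c : F)
  exact upM_siegelMatrix hR u v c

theorem upM_eichMat (hR : QRat F₀ Q) (u y : ι → ↥F₀) :
    upM F₀ (eichMat (Q₀ hR) u y) = eichMat Q (up F₀ u) (up F₀ y) := by
  ext i j
  rw [upM_apply]
  unfold eichMat
  simp only [Matrix.add_apply, Matrix.smul_apply, Matrix.sub_apply, Matrix.vecMulVec_apply, smul_eq_mul]
  push_cast
  rw [polarVec_up, polarVec_up, Q₀_coe]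
  congr 3
  by_cases h : i = j
  · rw [h, Matrix.one_apply_eq, Matrix.one_apply_eq]; rfl
  · rw [Matrix.one_apply_ne h, Matrix.one_apply_ne h]; rfl

/-- the image of a rational Eichler element -/
theorem upO_eich (hR : QRat F₀ Q) (hQ : (QuadraticMap.polarBilin Q).Nondegenerate) (u y : ι → ↥F₀) :
    upO hR (eich (Q₀_nondeg hR hQ) u y) = eich hQ (up F₀ u) (up F₀ y) := by
  classical
  by_cases h : Q₀ hR u = 0 ∧ QuadraticMap.polar (⇑(Q₀ hR)) u y = 0
  · have h' : Q (up F₀ u) = 0 ∧ QuadraticMap.polar (⇑Q) (up F₀ u) (up F₀ y) = 0 :=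
      ⟨(Q₀_eq_zero hR u).mp h.1, (polar_Q₀_eq_zero hR u y).mp h.2⟩
    apply Subtype.ext
    apply Units.ext
    show upM F₀ ((eich (Q₀_nondeg hR hQ) u y : GL ι ↥F₀) : Matrix ι ι ↥F₀) =
      ((eich hQ (up F₀ u) (up F₀ y) : GL ι F) : Matrix ι ι F)
    rw [eich_coe _ h.1 h.2, eich_coe _ h'.1 h'.2]
    exact upM_eichMat hR u y
  · have h' : ¬ (Q (up F₀ u) = 0 ∧ QuadraticMap.polar (⇑Q) (up F₀ u) (up F₀ y) = 0) := by
      intro hc
      exact h ⟨(Q₀_eq_zero hR u).mpr hc.1, (polar_Q₀_eq_zero hR u y).mpr hc.2⟩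
    unfold eich
    rw [dif_neg h, dif_neg h', map_one]

/-- a rational hyperbolic pair orthogonal to `k` given rational vectors -/
theorem rat_exists_hyp_perp [Finite F] (hR : QRat F₀ Q) (hQ : (QuadraticMap.polarBilin Q).Nondegenerate)
    {k : ℕ} (y : Fin k → ι → F) (hy : ∀ i, Rat F₀ (y i)) (hk : 2 * k + 3 ≤ Fintype.card ι) :
    ∃ p q : ι → F, Rat F₀ p ∧ Rat F₀ q ∧ Q p = 0 ∧ Q q = 0 ∧ QuadraticMap.polar (⇑Q) p q = 1 ∧
      ∀ i, QuadraticMap.polar (⇑Q) (y i) p = 0 ∧ QuadraticMap.polar (⇑Q) (y i) q = 0 := by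
  have hfin : Module.finrank ↥F₀ ↥(Submodule.span ↥F₀ (Set.range fun i => down F₀ (hy i))) ≤ k := by
    have := finrank_range_le_card (R := ↥F₀) (fun i => down F₀ (hy i))
    rwa [Fintype.card_fin] at this
  obtain ⟨p, q, hp, hq, hpq, hperp⟩ := Cfsg.Agent.H9Orth.exists_hyp_perp (Q₀_nondeg hR hQ)
    (Submodule.span ↥F₀ (Set.range fun i => down F₀ (hy i))) (by omega)
  refine ⟨up F₀ p, up F₀ q, rat_up F₀ p, rat_up F₀ q, (Q₀_eq_zero hR p).mp hp, (Q₀_eq_zero hR q).mp hq,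
    (polar_Q₀_eq_one hR p q).mp hpq, fun i => ?_⟩
  have hi := hperp (down F₀ (hy i)) (Submodule.subset_span ⟨i, rfl⟩)
  exact ⟨(polar_Q₀_eq_zero hR _ p).mp hi.1, (polar_Q₀_eq_zero hR _ q).mp hi.2⟩

/-- rational hyperbolic families -/
theorem rat_exists_hyp [Finite F] (hR : QRat F₀ Q) (hQ : (QuadraticMap.polarBilin Q).Nondegenerate)
    (j : ℕ) (h : 2 * j + 1 ≤ Fintype.card ι) :
    ∃ e f : Fin j → ι → F, (∀ i, Rat F₀ (e i) ∧ Rat F₀ (f i)) ∧ Cfsg.Agent.Lib.Helper5.HypFam Q e f := by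
  obtain ⟨e, f, hef⟩ := exists_hyp (Q₀_nondeg hR hQ) j h
  refine ⟨fun i => up F₀ (e i), fun i => up F₀ (f i), fun i => ⟨rat_up F₀ _, rat_up F₀ _⟩, ?_⟩
  constructor
  · intro i; exact (Q₀_eq_zero hR _).mp (hef.qe i)
  · intro i; exact (Q₀_eq_zero hR _).mp (hef.qf i)
  · intro i i'
    rw [← polar_Q₀_coe hR, hef.ef]
    split_ifs <;> rfl
  · intro i i'; exact (polar_Q₀_eq_zero hR _ _).mp (hef.ee i i')
  · intro i i'; exact (polar_Q₀_eq_zero hR _ _).mp (hef.ff i i')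

/-- the rational long root group is transitive on the rational totally singular pairs -/
theorem rat_trans_lines [Fintype F] (hR : QRat F₀ Q) (hQ : (QuadraticMap.polarBilin Q).Nondegenerate)
    (hn : 7 ≤ Fintype.card ι) {u v u' v' : ι → F}
    (hur : Rat F₀ u) (hvr : Rat F₀ v) (hur' : Rat F₀ u') (hvr' : Rat F₀ v')
    (hu : Q u = 0) (hv : Q v = 0) (huv : QuadraticMap.polar (⇑Q) u v = 0)
    (hu' : Q u' = 0) (hv' : Q v' = 0) (huv' : QuadraticMap.polar (⇑Q) u' v' = 0)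
    (hind : ∀ s t : F, s • u + t • v = 0 → s = 0 ∧ t = 0)
    (hind' : ∀ s t : F, s • u' + t • v' = 0 → s = 0 ∧ t = 0) :
    ∃ t ∈ T (Q₀ hR), ((upO hR t : GL ι F) : Matrix ι ι F) *ᵥ u = u' ∧
      ((upO hR t : GL ι F) : Matrix ι ι F) *ᵥ v = v' := by
  have : Fintype ↥F₀ := Fintype.ofFinite _
  have hi : ∀ {a b : ι → F} (ha : Rat F₀ a) (hb : Rat F₀ b),
      (∀ s t : F, s • a + t • b = 0 → s = 0 ∧ t = 0) →
      ∀ s t : ↥F₀, s • down F₀ ha + t • down F₀ hb = 0 → s = 0 ∧ t = 0 := by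
    intro a b ha hb h s t hst
    have h1 := congrArg (up F₀) hst
    rw [up_add, up_smul, up_smul, up_zero, up_down, up_down] at h1
    obtain ⟨hs, ht⟩ := h _ _ h1
    exact ⟨Subtype.ext hs, Subtype.ext ht⟩
  obtain ⟨t, ht, h1, h2⟩ := T_trans_lines (Q₀_nondeg hR hQ) hn (down F₀ hur) (down F₀ hvr)
    (down F₀ hur') (down F₀ hvr')
    ((Q₀_eq_zero hR _).mpr hu) ((Q₀_eq_zero hR _).mpr hv) ((polar_Q₀_eq_zero hR _ _).mpr huv)
    ((Q₀_eq_zero hR _).mpr hu') ((Q₀_eq_zero hR _).mpr hv') ((polar_Q₀_eq_zero hR _ _).mpr huv')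
    (hi hur hvr hind) (hi hur' hvr' hind')
  refine ⟨t, ht, ?_, ?_⟩
  · have := upO_mulVec_up hR t (down F₀ hur)
    rw [up_down] at this
    rw [this, h1, up_down]
  · have := upO_mulVec_up hR t (down F₀ hvr)
    rw [up_down] at this
    rw [this, h2, up_down]

/-- the elements of the rational long root group lie in `Ω(Q)` and are rational -/
theorem upO_T_mem_Omega [Fintype F] (hR : QRat F₀ Q) (hQ : (QuadraticMap.polarBilin Q).Nondegenerate)
    (hn : 5 ≤ Fintype.card ι) {t : ↥(Cfsg.isometryGroup ↥F₀ ⇑(Q₀ hR))} (ht : t ∈ T (Q₀ hR)) :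
    upO hR t ∈ Cfsg.Omega F ⇑Q := by
  have : Fintype ↥F₀ := Fintype.ofFinite _
  exact upO_mem_Omega hR (T_le_Omega (Q₀_nondeg hR hQ) hn ht)

end Cfsg.Agent.Lib.Helper3.OrthRat
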