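import Mathlib
import Cfsg.Prelude
import Cfsg.Agent.Lib.Helper7.OSubDefs
import Cfsg.Agent.Lib.Helper3.OrthRat2

set_option autoImplicit false
set_option linter.unusedSectionVars false
set_option linter.unusedVariables false

/-! S5683 / S5702 PK-BCA : rational geometry (`rat_hyp_perp`, `rat_trans`, `rat_partner`), from the
rational structure `Q₀` of `Helper3/OrthRat`. -/

namespace Cfsg.Agent.Lib.Helper7.OSub

open Matrix Cfsg.Agent.Lib.Helper7.Subg Cfsg.Agent.Lib.Helper2.LongRoot Cfsg.Agent.Lib.Helper2.OmMin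
  Cfsg.Agent.Lib.Helper2.CDG Cfsg.Agent.Lib.Helper3.OrthRat

variable {F : Type*} [Field F] [Fintype F] {ι : Type} [Fintype ι] [DecidableEq ι]
variable {Q : QuadraticForm F (ι → F)}

namespace PkBCA

/-- `RatQ` is `QRat` -/
theorem qrat {F₀ : Subfield F} (hR : RatQ F₀ Q) : QRat F₀ Q := hR

/-- the rational long root group lies in every subgroup containing the rational Eichler elements -/
theorem upO_T_mem (hQ : (QuadraticMap.polarBilin Q).Nondegenerate) {F₀ : Subfield F}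
    (M : Subgroup ↥(Cfsg.isometryGroup F ⇑Q)) (hR : RatQ F₀ Q) (hE : HasRatE hQ F₀ M)
    {t : ↥(Cfsg.isometryGroup ↥F₀ ⇑(Q₀ (qrat hR)))} (ht : t ∈ T (Q₀ (qrat hR))) :
    upO (qrat hR) t ∈ M := by
  have hle : T (Q₀ (qrat hR)) ≤ M.comap (upO (qrat hR)) := by
    unfold T
    rw [Subgroup.closure_le]
    rintro g ⟨u, v, c, hu, hv, huv, hg⟩
    have e := eq_LR_of_coe (Q₀_nondeg (qrat hR) hQ) g u v hu hv huv c hg
    show upO (qrat hR) g ∈ M
    rw [e, upO_LR (qrat hR) hQ u v hu hv huv c, LR_eq_eich]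
    exact hE _ _ (rat_up F₀ u) ((rat_up F₀ v).smul c.2)
  exact hle ht

end PkBCA

open PkBCA

/-- a rational hyperbolic pair orthogonal to `k` given rational vectors -/
theorem rat_hyp_perp (hQ : (QuadraticMap.polarBilin Q).Nondegenerate) (F₀ : Subfield F)
    (hR : RatQ F₀ Q) {k : ℕ} (a : Fin k → ι → F) (ha : ∀ i, Rat F₀ (a i))
    (hk : 2 * k + 3 ≤ Fintype.card ι) :
    ∃ p q : ι → F, Rat F₀ p ∧ Rat F₀ q ∧ Q p = 0 ∧ Q q = 0 ∧ QuadraticMap.polar (⇑Q) p q = 1 ∧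
      ∀ i, QuadraticMap.polar (⇑Q) (a i) p = 0 ∧ QuadraticMap.polar (⇑Q) (a i) q = 0 :=
  rat_exists_hyp_perp (qrat hR) hQ a ha hk

/-- `M` (containing the rational Eichler elements) is transitive on rational totally singular pairs, by
rational elements -/
theorem rat_trans (hQ : (QuadraticMap.polarBilin Q).Nondegenerate) (F₀ : Subfield F)
    (M : Subgroup ↥(Cfsg.isometryGroup F ⇑Q)) (hR : RatQ F₀ Q) (hn : 7 ≤ Fintype.card ι)
    (hE : HasRatE hQ F₀ M) {u w u' w' : ι → F} (h : RTSP F₀ Q u w) (h' : RTSP F₀ Q u' w') :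
    ∃ t ∈ M, RatMat F₀ (mat t) ∧ RatMat F₀ (mat t⁻¹) ∧ mat t *ᵥ u = u' ∧ mat t *ᵥ w = w' := by
  obtain ⟨hur, hwr, hu, hw, huw, hind⟩ := h
  obtain ⟨hur', hwr', hu', hw', huw', hind'⟩ := h'
  obtain ⟨t, ht, h1, h2⟩ := rat_trans_lines (qrat hR) hQ hn hur hwr hur' hwr' hu hw huw hu' hw' huw'
    hind hind'
  refine ⟨upO (qrat hR) t, upO_T_mem hQ M hR hE ht, ratMat_upO _ t, ?_, h1, h2⟩
  rw [← map_inv]
  exact ratMat_upO _ t⁻¹

/-- a rational singular partner -/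
theorem rat_partner (hQ : (QuadraticMap.polarBilin Q).Nondegenerate) (F₀ : Subfield F)
    (hR : RatQ F₀ Q) (hn : 5 ≤ Fintype.card ι) {u : ι → F} (hu : Rat F₀ u) (hu0 : u ≠ 0)
    (hQu : Q u = 0) :
    ∃ u' : ι → F, Rat F₀ u' ∧ Q u' = 0 ∧ QuadraticMap.polar (⇑Q) u u' = 1 := by
  have hnd := Q₀_nondeg (qrat hR) hQ
  have hu₀ : down F₀ hu ≠ 0 := by
    intro h0
    apply hu0
    have := congrArg (up F₀) h0
    rwa [up_down, up_zero] at this
  have hex : ∃ a₀ : ι → ↥F₀, QuadraticMap.polar (⇑(Q₀ (qrat hR))) (down F₀ hu) a₀ ≠ 0 := by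
    by_contra hcon
    apply hu₀
    apply hnd.1
    intro y
    by_contra hy
    exact hcon ⟨y, hy⟩
  obtain ⟨a₀, ha₀⟩ := hex
  have ha : QuadraticMap.polar (⇑Q) u (up F₀ a₀) ≠ 0 := by
    intro h0
    apply ha₀
    rw [polar_Q₀_eq_zero, up_down]
    exact h0
  have hcr : QuadraticMap.polar (⇑Q) u (up F₀ a₀) ∈ F₀ := rat_polar hR hu (rat_up F₀ a₀)
  obtain ⟨a, har, hua⟩ : ∃ a : ι → F, Rat F₀ a ∧ QuadraticMap.polar (⇑Q) u a = 1 := by
    refine ⟨(QuadraticMap.polar (⇑Q) u (up F₀ a₀))⁻¹ • up F₀ a₀, (rat_up F₀ a₀).smul (F₀.inv_mem hcr), ?_⟩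
    rw [QuadraticMap.polar_smul_right, smul_eq_mul, inv_mul_cancel₀ ha]
  have e : a - Q a • u = a + (-(Q a)) • u := by module
  have hau : QuadraticMap.polar (⇑Q) a u = 1 := by rw [QuadraticMap.polar_comm]; exact hua
  refine ⟨a - Q a • u, har.sub (hu.smul (hR a har)), ?_, ?_⟩
  · rw [e, QuadraticMap.map_add Q, QuadraticMap.map_smul, hQu, QuadraticMap.polar_smul_right, hau]
    simp
  · rw [e, QuadraticMap.polar_add_right, QuadraticMap.polar_smul_right, hua,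
      QuadraticMap.polar_self, hQu]
    simp

end Cfsg.Agent.Lib.Helper7.OSub
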