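import Mathlib
import Cfsg.Prelude
import Cfsg.Agent.Lib.Helper7.OSubDefs
import Cfsg.Agent.Lib.Helper3.OSub_BCA

set_option autoImplicit false
set_option linter.unusedSectionVars false
set_option linter.unusedVariables false

/-! S5683 / S5702 PK-COEF : an isometry mapping the rational totally singular lines to rational lines
is a scalar multiple of a rational matrix (`inN_of_linesRat`). -/

namespace Cfsg.Agent.Lib.Helper7.OSub

open Matrix Cfsg.Agent.Lib.Helper7.Subg Cfsg.Agent.Lib.Helper2.LongRoot Cfsg.Agent.Lib.Helper2.OmMin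
  Cfsg.Agent.Lib.Helper2.CDG

variable {F : Type*} [Field F] [Fintype F] {ι : Type} [Fintype ι] [DecidableEq ι]
variable {Q : QuadraticForm F (ι → F)}

namespace PkCOEF

/-- an `F₀`-linear retraction of `F` onto `F₀`, as a plain function -/
theorem exists_retr (F₀ : Subfield F) : ∃ φ : F → F, (∀ s, φ s ∈ F₀) ∧
    (∀ s t, φ (s + t) = φ s + φ t) ∧ (∀ s a, a ∈ F₀ → φ (s * a) = φ s * a) ∧
    (∀ a, a ∈ F₀ → φ a = a) := by
  obtain ⟨g, hg⟩ := LinearMap.exists_leftInverse_of_injective (Algebra.linearMap ↥F₀ F)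
    (LinearMap.ker_eq_bot.mpr (algebraMap ↥F₀ F).injective)
  refine ⟨fun s => ((g s : ↥F₀) : F), fun s => (g s).2, fun s t => ?_, fun s a ha => ?_, fun a ha => ?_⟩
  · simp [map_add]
  · have : s * a = (⟨a, ha⟩ : ↥F₀) • s := by
      rw [Subfield.smul_def]; simp [mul_comm]
    simp only [this, map_smul, smul_eq_mul, Subfield.coe_mul, mul_comm]
  · have := LinearMap.congr_fun hg ⟨a, ha⟩
    simp only [LinearMap.comp_apply, Algebra.linearMap_apply, LinearMap.id_apply] at this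
    show ((g a : ↥F₀) : F) = a
    have e : algebraMap ↥F₀ F ⟨a, ha⟩ = a := rfl
    rw [e] at this
    rw [this]

/-- coordinatewise twist by `φ (x * ·)` -/
def tw (φ : F → F) (x : F) (w : ι → F) : ι → F := fun l => φ (x * w l)

theorem tw_comb {F₀ : Subfield F} {φ : F → F} (hadd : ∀ s t, φ (s + t) = φ s + φ t)
    (hmul : ∀ s a, a ∈ F₀ → φ (s * a) = φ s * a) {r r' : ι → F} (hr : Rat F₀ r) (hr' : Rat F₀ r')
    (x s t : F) : tw φ x (s • r + t • r') = φ (x * s) • r + φ (x * t) • r' := by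
  funext l
  simp only [tw, Pi.add_apply, Pi.smul_apply, smul_eq_mul]
  rw [mul_add, hadd, ← mul_assoc, ← mul_assoc, hmul _ _ (hr l), hmul _ _ (hr' l)]

/-- the coefficients of a rational combination of two independent rational vectors are rational -/
theorem coef_rat (F₀ : Subfield F) {r r' : ι → F} (hr : Rat F₀ r) (hr' : Rat F₀ r')
    (hind : ∀ s t : F, s • r + t • r' = 0 → s = 0 ∧ t = 0) {s t : F}
    (h : Rat F₀ (s • r + t • r')) : s ∈ F₀ ∧ t ∈ F₀ := by
  obtain ⟨φ, hφm, hadd, hmul, hid⟩ := exists_retr F₀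
  have h1 : tw φ 1 (s • r + t • r') = s • r + t • r' := by
    funext l
    simp only [tw, one_mul]
    exact hid _ (h l)
  rw [tw_comb hadd hmul hr hr', one_mul, one_mul] at h1
  have h2 : (φ s - s) • r + (φ t - t) • r' = 0 := by
    have h3 := sub_eq_zero.mpr h1
    rw [← h3]
    module
  obtain ⟨e1, e2⟩ := hind _ _ h2
  refine ⟨?_, ?_⟩
  · rw [← sub_eq_zero.mp e1]; exact hφm s
  · rw [← sub_eq_zero.mp e2]; exact hφm t

/-- for an independent pair on a rational line, the coefficient determinant does not vanish -/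
theorem ratLine_det (F₀ : Subfield F) {x y : ι → F}
    (hind : ∀ s t : F, s • x + t • y = 0 → s = 0 ∧ t = 0) (h : RatLine F₀ x y) :
    ∃ (r₁ r₂ : ι → F) (a b c d : F), Rat F₀ r₁ ∧ Rat F₀ r₂ ∧ x = a • r₁ + b • r₂ ∧
      y = c • r₁ + d • r₂ ∧ a * d - b * c ≠ 0 := by
  obtain ⟨r₁, r₂, a, b, c, d, h1, h2, hx, hy⟩ := h
  refine ⟨r₁, r₂, a, b, c, d, h1, h2, hx, hy, fun hdet => ?_⟩
  have e1 : d • x + (-b) • y = 0 := by
    have : d • (a • r₁ + b • r₂) + (-b) • (c • r₁ + d • r₂) = (a * d - b * c) • r₁ := by module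
    rw [hx, hy, this, hdet, zero_smul]
  have e2 : (-c) • x + a • y = 0 := by
    have : (-c) • (a • r₁ + b • r₂) + a • (c • r₁ + d • r₂) = (a * d - b * c) • r₂ := by module
    rw [hx, hy, this, hdet, zero_smul]
  obtain ⟨hd, hb⟩ := hind _ _ e1
  obtain ⟨hc, ha⟩ := hind _ _ e2
  have hx0 : x = 0 := by
    rw [hx, ha, neg_eq_zero.mp hb]; simp
  have := hind 1 0 (by rw [hx0]; simp)
  exact one_ne_zero this.1

/-- independence from a dual vector -/
theorem indep_of_dual {p z z' : ι → F} (hp0 : p ≠ 0)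
    (hpz' : QuadraticMap.polar (⇑Q) p z' = 0) (hzz' : QuadraticMap.polar (⇑Q) z z' = 1) :
    ∀ s t : F, s • p + t • z = 0 → s = 0 ∧ t = 0 := by
  intro s t hst
  have h1 : QuadraticMap.polar (⇑Q) (s • p + t • z) z' = 0 := by
    rw [hst]; exact QuadraticMap.polar_zero_left _ _
  rw [QuadraticMap.polar_add_left, QuadraticMap.polar_smul_left, QuadraticMap.polar_smul_left,
    hpz', hzz', smul_zero, zero_add, smul_eq_mul, mul_one] at h1
  rw [h1, zero_smul, add_zero] at hst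
  exact ⟨(smul_eq_zero.mp hst).resolve_right hp0, h1⟩

/-- Step 1: the image of a rational singular point is a rational point -/
theorem ray_rat (hQ : (QuadraticMap.polarBilin Q).Nondegenerate) (F₀ : Subfield F)
    (hR : RatQ F₀ Q) (hn : 7 ≤ Fintype.card ι) (g : ↥(Cfsg.isometryGroup F ⇑Q))
    (h : LinesRat F₀ Q (mat g)) {p : ι → F} (hp : Rat F₀ p) (hp0 : p ≠ 0) (hQp : Q p = 0) :
    ∃ lam : F, lam ≠ 0 ∧ Rat F₀ (lam • (mat g *ᵥ p)) := by
  obtain ⟨z, z', hz, hz', hQz, hQz', hzz', hperp1⟩ :=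
    rat_hyp_perp hQ F₀ hR (fun _ : Fin 1 => p) (fun _ => hp) (by omega)
  have hpz : QuadraticMap.polar (⇑Q) p z = 0 := (hperp1 0).1
  have hpz' : QuadraticMap.polar (⇑Q) p z' = 0 := (hperp1 0).2
  obtain ⟨y, y', hy, hy', hQy, hQy', hyy', hperp2⟩ :=
    rat_hyp_perp hQ F₀ hR ![p, z] (by intro i; fin_cases i; exacts [hp, hz]) (by omega)
  have hpy : QuadraticMap.polar (⇑Q) p y = 0 := (hperp2 0).1
  have hpy' : QuadraticMap.polar (⇑Q) p y' = 0 := (hperp2 0).2
  have hzy : QuadraticMap.polar (⇑Q) z y = 0 := (hperp2 1).1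
  have hzy' : QuadraticMap.polar (⇑Q) z y' = 0 := (hperp2 1).2
  have T1 : RTSP F₀ Q p z := ⟨hp, hz, hQp, hQz, hpz, indep_of_dual hp0 hpz' hzz'⟩
  have T2 : RTSP F₀ Q p y := ⟨hp, hy, hQp, hQy, hpy, indep_of_dual hp0 hpy' hyy'⟩
  obtain ⟨r₁, r₂, a, b, c, d, hr₁, hr₂, e1, e2, hdet1⟩ :=
    ratLine_det F₀ (T1.2.2.map g).2.2.2 (h p z T1)
  obtain ⟨r₃, r₄, e, f, g', k, hr₃, hr₄, e3, e4, hdet2⟩ :=
    ratLine_det F₀ (T2.2.2.map g).2.2.2 (h p y T2)
  -- the functional `B(g y', ·)`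
  obtain ⟨ψ, hψ⟩ : ∃ ψ : (ι → F) →ₗ[F] F, ∀ v, ψ v = QuadraticMap.polar (⇑Q) (mat g *ᵥ y') v :=
    ⟨QuadraticMap.polarBilin Q (mat g *ᵥ y'), fun v => rfl⟩
  have ψp : ψ (mat g *ᵥ p) = 0 := by
    rw [hψ, iso_polar, QuadraticMap.polar_comm]; exact hpy'
  have ψz : ψ (mat g *ᵥ z) = 0 := by
    rw [hψ, iso_polar, QuadraticMap.polar_comm]; exact hzy'
  have ψy : ψ (mat g *ᵥ y) = 1 := by
    rw [hψ, iso_polar, QuadraticMap.polar_comm]; exact hyy'
  have ψ1 : ψ r₁ = 0 := by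
    have h1 : (a * d - b * c) • r₁ = d • (mat g *ᵥ p) + (-b) • (mat g *ᵥ z) := by
      rw [e1, e2]; module
    have h2 := congrArg ψ h1
    rw [map_smul, map_add, map_smul, map_smul, ψp, ψz, smul_zero, smul_zero, add_zero,
      smul_eq_mul] at h2
    exact (mul_eq_zero.mp h2).resolve_left hdet1
  have ψ2 : ψ r₂ = 0 := by
    have h1 : (a * d - b * c) • r₂ = (-c) • (mat g *ᵥ p) + a • (mat g *ᵥ z) := by
      rw [e1, e2]; module
    have h2 := congrArg ψ h1
    rw [map_smul, map_add, map_smul, map_smul, ψp, ψz, smul_zero, smul_zero, add_zero,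
      smul_eq_mul] at h2
    exact (mul_eq_zero.mp h2).resolve_left hdet1
  have ψ3 : (e * k - f * g') * ψ r₃ = -f := by
    have h1 : (e * k - f * g') • r₃ = k • (mat g *ᵥ p) + (-f) • (mat g *ᵥ y) := by
      rw [e3, e4]; module
    have h2 := congrArg ψ h1
    rw [map_smul, map_add, map_smul, map_smul, ψp, ψy, smul_zero, zero_add, smul_eq_mul,
      smul_eq_mul, mul_one] at h2
    exact h2
  have ψ4 : (e * k - f * g') * ψ r₄ = e := by
    have h1 : (e * k - f * g') • r₄ = (-g') • (mat g *ᵥ p) + e • (mat g *ᵥ y) := by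
      rw [e3, e4]; module
    have h2 := congrArg ψ h1
    rw [map_smul, map_add, map_smul, map_smul, ψp, ψy, smul_zero, zero_add, smul_eq_mul,
      smul_eq_mul, mul_one] at h2
    exact h2
  obtain ⟨φ, hφm, hadd, hmul, hid⟩ := exists_retr F₀
  have key : ∀ x : F, φ (x * f) * e = φ (x * e) * f := by
    intro x
    have t1 : tw φ x (mat g *ᵥ p) = φ (x * a) • r₁ + φ (x * b) • r₂ := by
      rw [e1]; exact tw_comb hadd hmul hr₁ hr₂ x a b
    have t2 : tw φ x (mat g *ᵥ p) = φ (x * e) • r₃ + φ (x * f) • r₄ := by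
      rw [e3]; exact tw_comb hadd hmul hr₃ hr₄ x e f
    have h0 : ψ (φ (x * a) • r₁ + φ (x * b) • r₂) = 0 := by
      rw [map_add, map_smul, map_smul, ψ1, ψ2, smul_zero, smul_zero, add_zero]
    rw [← t1, t2, map_add, map_smul, map_smul, smul_eq_mul, smul_eq_mul] at h0
    have h1 : φ (x * e) * ((e * k - f * g') * ψ r₃) + φ (x * f) * ((e * k - f * g') * ψ r₄) = 0 := by
      have : φ (x * e) * ((e * k - f * g') * ψ r₃) + φ (x * f) * ((e * k - f * g') * ψ r₄) =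
          (e * k - f * g') * (φ (x * e) * ψ r₃ + φ (x * f) * ψ r₄) := by ring
      rw [this, h0, mul_zero]
    rw [ψ3, ψ4] at h1
    linear_combination h1
  have hAp0 : mat g *ᵥ p ≠ 0 := (T1.2.2.map g).ne_zero_left
  by_cases he : e = 0
  · have hf : f ≠ 0 := by
      intro hf
      apply hAp0
      rw [e3, he, hf, zero_smul, zero_smul, add_zero]
    refine ⟨f⁻¹, inv_ne_zero hf, ?_⟩
    rw [e3, he, zero_smul, zero_add, smul_smul, inv_mul_cancel₀ hf, one_smul]
    exact hr₄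
  · refine ⟨e⁻¹, inv_ne_zero he, ?_⟩
    have hk := key e⁻¹
    rw [inv_mul_cancel₀ he, hid 1 F₀.one_mem, one_mul] at hk
    have hm : e⁻¹ * f ∈ F₀ := by
      have h1 : φ (e⁻¹ * f) = e⁻¹ * f := by
        calc φ (e⁻¹ * f) = e⁻¹ * (φ (e⁻¹ * f) * e) := by field_simp
          _ = e⁻¹ * f := by rw [hk]
      rw [← h1]
      exact hφm _
    have h2 : e⁻¹ • (e • r₃ + f • r₄) = r₃ + (e⁻¹ * f) • r₄ := by
      rw [smul_add, smul_smul, smul_smul, inv_mul_cancel₀ he, one_smul]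
    rw [e3, h2]
    exact hr₃.add (hr₄.smul hm)

/-- Step 2: the scalar is the same for two orthogonal independent rational singular points -/
theorem transfer (hQ : (QuadraticMap.polarBilin Q).Nondegenerate) (F₀ : Subfield F)
    (hR : RatQ F₀ Q) (hn : 7 ≤ Fintype.card ι) (g : ↥(Cfsg.isometryGroup F ⇑Q))
    (h : LinesRat F₀ Q (mat g)) {p z : ι → F} (hp : Rat F₀ p) (hz : Rat F₀ z)
    (hQp : Q p = 0) (hQz : Q z = 0) (hpz : QuadraticMap.polar (⇑Q) p z = 0)
    (hind : ∀ s t : F, s • p + t • z = 0 → s = 0 ∧ t = 0)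
    {lam : F} (hlam : lam ≠ 0) (hl : Rat F₀ (lam • (mat g *ᵥ p))) :
    Rat F₀ (lam • (mat g *ᵥ z)) := by
  have hz0 : z ≠ 0 := by
    rintro rfl
    have := hind 0 1 (by simp)
    exact one_ne_zero this.2
  have hpz0 : p + z ≠ 0 := by
    intro h0
    have := hind 1 1 (by simpa using h0)
    exact one_ne_zero this.1
  have hQpz : Q (p + z) = 0 := by
    rw [QuadraticMap.map_add Q, hQp, hQz, hpz]; simp
  obtain ⟨nu, hnu, hnur⟩ := ray_rat hQ F₀ hR hn g h hz hz0 hQz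
  obtain ⟨mu, hmu, hmur⟩ := ray_rat hQ F₀ hR hn g h (hp.add hz) hpz0 hQpz
  have hind' : ∀ s t : F, s • (lam • (mat g *ᵥ p)) + t • (nu • (mat g *ᵥ z)) = 0 →
      s = 0 ∧ t = 0 := by
    intro s t hst
    have h1 : mat g *ᵥ ((s * lam) • p + (t * nu) • z) = 0 := by
      rw [Matrix.mulVec_add, Matrix.mulVec_smul, Matrix.mulVec_smul, ← hst, smul_smul, smul_smul]
    have h2 := congrArg (fun v => mat g⁻¹ *ᵥ v) h1
    simp only [mat_inv_mulVec, Matrix.mulVec_zero] at h2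
    obtain ⟨h3, h4⟩ := hind _ _ h2
    exact ⟨(mul_eq_zero.mp h3).resolve_right hlam, (mul_eq_zero.mp h4).resolve_right hnu⟩
  have hcomb : mu • (mat g *ᵥ (p + z)) =
      (mu / lam) • (lam • (mat g *ᵥ p)) + (mu / nu) • (nu • (mat g *ᵥ z)) := by
    rw [Matrix.mulVec_add, smul_add, smul_smul, smul_smul, div_mul_cancel₀ _ hlam,
      div_mul_cancel₀ _ hnu]
  rw [hcomb] at hmur
  obtain ⟨h5, h6⟩ := coef_rat F₀ hl hnur hind' hmur
  have h7 : lam / nu ∈ F₀ := by
    have : lam / nu = (mu / nu) * (mu / lam)⁻¹ := by field_simp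
    rw [this]
    exact F₀.mul_mem h6 (F₀.inv_mem h5)
  have h8 : lam • (mat g *ᵥ z) = (lam / nu) • (nu • (mat g *ᵥ z)) := by
    rw [smul_smul, div_mul_cancel₀ _ hnu]
  rw [h8]
  exact hnur.smul h7

end PkCOEF

open PkCOEF

theorem inN_of_linesRat (hQ : (QuadraticMap.polarBilin Q).Nondegenerate) (F₀ : Subfield F)
    (hR : RatQ F₀ Q) (hn : 7 ≤ Fintype.card ι) (g : ↥(Cfsg.isometryGroup F ⇑Q))
    (h : LinesRat F₀ Q (mat g)) : InN F₀ (mat g) := by
  obtain ⟨p₀, q₀, hp₀, hq₀, hQp₀, hQq₀, hpq₀, -⟩ :=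
    rat_hyp_perp hQ F₀ hR (fun i : Fin 0 => i.elim0) (fun i => i.elim0) (by omega)
  have hp₀0 : p₀ ≠ 0 := by
    rintro rfl
    rw [QuadraticMap.polar_zero_left] at hpq₀
    exact zero_ne_one hpq₀
  obtain ⟨lam, hlam, hl⟩ := ray_rat hQ F₀ hR hn g h hp₀ hp₀0 hQp₀
  have good : ∀ p' : ι → F, Rat F₀ p' → Q p' = 0 → Rat F₀ (lam • (mat g *ᵥ p')) := by
    intro p' hp' hQp'
    by_cases hp'0 : p' = 0
    · rw [hp'0, Matrix.mulVec_zero, smul_zero]; exact Rat.zero F₀
    obtain ⟨z, z', hz, hz', hQz, hQz', hzz', hperp⟩ :=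
      rat_hyp_perp hQ F₀ hR ![p₀, p'] (by intro i; fin_cases i; exacts [hp₀, hp']) (by omega)
    have h1 : QuadraticMap.polar (⇑Q) p₀ z = 0 := (hperp 0).1
    have h1' : QuadraticMap.polar (⇑Q) p₀ z' = 0 := (hperp 0).2
    have h2 : QuadraticMap.polar (⇑Q) p' z = 0 := (hperp 1).1
    have h2' : QuadraticMap.polar (⇑Q) p' z' = 0 := (hperp 1).2
    have hzg := transfer hQ F₀ hR hn g h hp₀ hz hQp₀ hQz h1 (indep_of_dual hp₀0 h1' hzz') hlam hl
    have hind2 := indep_of_dual hp'0 h2' hzz'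
    refine transfer hQ F₀ hR hn g h hz hp' hQz hQp' (by rw [QuadraticMap.polar_comm]; exact h2)
      (fun s t hst => ?_) hlam hzg
    have := hind2 t s (by rw [add_comm]; exact hst)
    exact ⟨this.2, this.1⟩
  have all : ∀ b : ι → F, Rat F₀ b → Rat F₀ (lam • (mat g *ᵥ b)) := by
    intro b hb
    obtain ⟨z, z', hz, hz', hQz, hQz', hzz', hperp⟩ :=
      rat_hyp_perp hQ F₀ hR (fun _ : Fin 1 => b) (fun _ => hb) (by omega)
    have hbz : QuadraticMap.polar (⇑Q) b z = 0 := (hperp 0).1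
    have hbz' : QuadraticMap.polar (⇑Q) b z' = 0 := (hperp 0).2
    have hdec : b = (b + (z + (-(Q b)) • z')) + ((-1 : F) • z) + (Q b • z') := by module
    have hQ1 : Q (b + (z + (-(Q b)) • z')) = 0 := by
      rw [QuadraticMap.map_add Q, QuadraticMap.map_add Q, QuadraticMap.map_smul, hQz, hQz',
        QuadraticMap.polar_add_right, QuadraticMap.polar_smul_right, QuadraticMap.polar_smul_right,
        hbz, hbz', hzz']
      simp
    have hQ2 : Q ((-1 : F) • z) = 0 := by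
      rw [QuadraticMap.map_smul, hQz, smul_zero]
    have hQ3 : Q (Q b • z') = 0 := by
      rw [QuadraticMap.map_smul, hQz', smul_zero]
    have hr1 : Rat F₀ (b + (z + (-(Q b)) • z')) :=
      hb.add (hz.add (hz'.smul (F₀.neg_mem (hR b hb))))
    have hr2 : Rat F₀ ((-1 : F) • z) := hz.smul (F₀.neg_mem F₀.one_mem)
    have hr3 : Rat F₀ (Q b • z') := hz'.smul (hR b hb)
    have e : mat g *ᵥ b = mat g *ᵥ (b + (z + (-(Q b)) • z')) + mat g *ᵥ ((-1 : F) • z) +
        mat g *ᵥ (Q b • z') := by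
      rw [← Matrix.mulVec_add, ← Matrix.mulVec_add, ← hdec]
    rw [e, smul_add, smul_add]
    exact ((good _ hr1 hQ1).add (good _ hr2 hQ2)).add (good _ hr3 hQ3)
  refine ⟨lam, hlam, fun i j => ?_⟩
  have h1 := all (Pi.single j 1) (Rat.single F₀ j F₀.one_mem) i
  have e : (lam • mat g) i j = (lam • (mat g *ᵥ Pi.single j 1)) i := by
    rw [Matrix.mulVec_single_one]; rfl
  rw [e]
  exact h1

end Cfsg.Agent.Lib.Helper7.OSub
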