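import Mathlib
import Cfsg.Agent.Lib.Helper3.SylowIn

set_option autoImplicit false

/-!
Divisibility of the size of a set with a group action from divisibility of all orbit sizes.
-/

namespace Cfsg.Agent.Lib.Helper3

theorem dvd_card_of_forall_dvd_orbit {α β : Type*} [Group α] [MulAction α β] [Finite α] [Finite β]
    (m : ℕ) (h : ∀ b : β, m ∣ Nat.card α / Nat.card ↥(MulAction.stabilizer α b)) :
    m ∣ Nat.card β := by
  classical
  let _ : Fintype α := Fintype.ofFinite _
  let _ : Fintype β := Fintype.ofFinite _
  let _ : Fintype (Quotient (MulAction.orbitRel α β)) := Fintype.ofFinite _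
  rw [Nat.card_eq_fintype_card, MulAction.card_eq_sum_card_group_div_card_stabilizer α β]
  apply Finset.dvd_sum
  intro q _
  have := h q.out
  rwa [Nat.card_eq_fintype_card, Nat.card_eq_fintype_card] at this

end Cfsg.Agent.Lib.Helper3
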