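import Mathlib

set_option autoImplicit false

namespace Cfsg.Agent.Lib.Helper3

open MulAction

/-- If `x₀` is a fixed point and every other orbit has size divisible by `m`, then
`|α| ≡ 1 (mod m)`. -/
theorem card_modEq_one_of_orbits {H α : Type*} [Group H] [MulAction H α] [Finite α] (m : ℕ)
    (x₀ : α) (hfix : ∀ h : H, h • x₀ = x₀)
    (horb : ∀ x : α, x ≠ x₀ → m ∣ Nat.card (orbit H x)) : Nat.card α ≡ 1 [MOD m] := by
  classical
  have := Fintype.ofFinite (orbitRel.Quotient H α)
  rw [Nat.card_congr (selfEquivSigmaOrbits' H α), Nat.card_sigma]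
  have horb0 : orbit H x₀ = {x₀} := by
    ext y
    simp only [Set.mem_singleton_iff]
    constructor
    · rintro ⟨h, rfl⟩; exact hfix h
    · rintro rfl; exact mem_orbit_self _
  let ω₀ : orbitRel.Quotient H α := Quotient.mk'' x₀
  rw [← Finset.add_sum_erase Finset.univ _ (Finset.mem_univ ω₀)]
  have h1 : Nat.card (ω₀.orbit) = 1 := by
    rw [orbitRel.Quotient.orbit_mk, horb0]
    simp
  have h2 : m ∣ ∑ ω ∈ Finset.univ.erase ω₀, Nat.card (ω.orbit) := by
    apply Finset.dvd_sum
    intro ω hω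
    induction ω using Quotient.inductionOn' with
    | h x =>
      rw [orbitRel.Quotient.orbit_mk]
      apply horb
      rintro rfl
      exact (Finset.ne_of_mem_erase hω) rfl
  rw [h1]
  obtain ⟨c, hc⟩ := h2
  rw [hc]
  calc 1 + m * c ≡ 1 + 0 [MOD m] := Nat.ModEq.add_left 1 (by
        rw [Nat.modEq_zero_iff_dvd]; exact dvd_mul_right m c)
    _ = 1 := by norm_num

end Cfsg.Agent.Lib.Helper3
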