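import Mathlib
import Mathlib
import Cfsg.Agent.Lib.Helper3.NS2
import Cfsg.Agent.Lib.Helper3.NC
import Cfsg.Agent.Lib.Helper3.SylowCount
import Cfsg.Agent.Lib.Helper1.SylowSimple

set_option autoImplicit false

namespace Cfsg.Agent.Lib.Helper3.Ord168

open Subgroup Cfsg.Agent.Lib.Helper3 Cfsg.Agent.Lib.Helper3.NS Cfsg.Agent.Lib.Helper1.SylowSimple

variable {G : Type*} [Group G] [Finite G]

/-- Counting elements by their orders, when all orders lie in `D`. -/
theorem sum_card_orderOf_eq (D : Finset ℕ) (hD : ∀ g : G, orderOf g ∈ D) :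
    ∑ d ∈ D, Nat.card {g : G // orderOf g = d} = Nat.card G := by
  classical
  have := Fintype.ofFinite G
  have h1 : ∀ d, Nat.card {g : G // orderOf g = d} = (Finset.univ.filter (fun g : G => orderOf g = d)).card := by
    intro d
    rw [Nat.card_eq_fintype_card, Fintype.card_subtype]
  simp only [h1]
  rw [Nat.card_eq_fintype_card, ← Finset.card_univ]
  exact (Finset.card_eq_sum_card_fiberwise (fun x _ => hD x)).symm

/-- in a simple group, the centralizer of a Sylow subgroup `P` of prime order with `|N(P)| = p r`,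
`r` prime, is `P` itself -/
theorem centralizer_sylow_eq [IsSimpleGroup G] {p : ℕ} [hp : Fact p.Prime] (P : Sylow p G)
    (hP : Nat.card (P : Subgroup G) = p) {r : ℕ} (hr : r.Prime)
    (hN : Nat.card (normalizer ((P : Subgroup G) : Set G)) = p * r)
    (hG : p < Nat.card G) :
    centralizer ((P : Subgroup G) : Set G) = P := by
  have hcyc : IsCyclic (P : Subgroup G) := isCyclic_of_prime_card hP
  have hcomm : IsMulCommutative (P : Subgroup G) := ⟨⟨fun a b => hcyc.commGroup.mul_comm a b⟩⟩
  have hPC : (P : Subgroup G) ≤ centralizer ((P : Subgroup G) : Set G) :=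
    le_centralizer_of_isMulCommutative (P : Subgroup G)
  have hCN : centralizer ((P : Subgroup G) : Set G) ≤ normalizer ((P : Subgroup G) : Set G) :=
    Subgroup.centralizer_le_normalizer _
  rcases card_between hr hPC hCN hP hp.out.pos hN with h | h
  · exact h
  · exfalso
    rcases sylow_eq_bot_or_top_of_normalizer_le_centralizer P h.ge with h' | h'
    · rw [h', Subgroup.card_bot] at hP
      exact hp.out.one_lt.ne hP
    · rw [h', Subgroup.card_top] at hP
      omega

/-- a `p`-element normalizing a Sylow `p`-subgroup lies in it -/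
theorem mem_sylow_of_mem_normalizer {p : ℕ} [hp : Fact p.Prime] (P : Sylow p G) {a : G}
    (ha : a ∈ normalizer ((P : Subgroup G) : Set G)) {k : ℕ} (hk : a ^ p ^ k = 1) :
    a ∈ (P : Subgroup G) := by
  have h1 : IsPGroup p (zpowers a) := by
    rw [IsPGroup.iff_card]
    have : orderOf a ∣ p ^ k := orderOf_dvd_of_pow_eq_one hk
    obtain ⟨m, _, hm⟩ := (Nat.dvd_prime_pow hp.out).mp this
    exact ⟨m, by rw [Nat.card_zpowers, hm]⟩
  have h2 : zpowers a ≤ normalizer ((P : Subgroup G) : Set G) := by
    rw [zpowers_le]; exact ha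
  have h3 : IsPGroup p (zpowers a ⊔ (P : Subgroup G) : Subgroup G) :=
    IsPGroup.to_sup_of_normal_right' h1 P.2 h2
  have h4 := P.is_maximal' h3 le_sup_right
  have : zpowers a ≤ (P : Subgroup G) := by
    rw [← h4]; exact le_sup_left
  exact this (mem_zpowers a)

/-- the number of Sylow subgroups of a simple group is not one (unless the Sylow is trivial or
everything) -/
theorem card_sylow_ne_one [IsSimpleGroup G] {p : ℕ} [hp : Fact p.Prime] (P : Sylow p G)
    (h1 : 1 < Nat.card (P : Subgroup G)) (h2 : Nat.card (P : Subgroup G) < Nat.card G) :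
    Nat.card (Sylow p G) ≠ 1 := by
  intro h
  have := sylow_normal_of_card_eq_one P h
  rcases this.eq_bot_or_eq_top with h' | h'
  · rw [h', Subgroup.card_bot] at h1; omega
  · rw [h', Subgroup.card_top] at h2; omega

variable [IsSimpleGroup G]

theorem not_comm (h : Nat.card G = 168) : ¬ IsMulCommutative G :=
  not_isMulCommutative_of_not_prime (by rw [h]; norm_num)

theorem seven_le_index (h : Nat.card G = 168) (H : Subgroup G) (hH : H ≠ ⊤) : 7 ≤ H.index := by
  by_contra hlt
  push Not at hlt
  have h1 := two_mul_card_dvd_factorial (not_comm h) H hH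
  rw [h] at h1
  have h2 : (H.index).factorial ∣ (6).factorial := Nat.factorial_dvd_factorial (by omega)
  have := h1.trans h2
  norm_num [Nat.factorial] at this

theorem card_le (h : Nat.card G = 168) (H : Subgroup G) (hH : H ≠ ⊤) : Nat.card H ≤ 24 := by
  have h1 := H.index_mul_card
  rw [h] at h1
  have h2 := seven_le_index h H hH
  nlinarith

theorem ne_top_of_card_lt (h : Nat.card G = 168) (H : Subgroup G) (hH : Nat.card H < 168) :
    H ≠ ⊤ := by
  intro h'
  rw [h', Subgroup.card_top, h] at hH
  omega

section seven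

scoped instance fact7 : Fact (Nat.Prime 7) := ⟨by norm_num⟩

theorem card_sylow7_sub (h : Nat.card G = 168) (P : Sylow 7 G) : Nat.card (P : Subgroup G) = 7 := by
  have := sylow_card_eq_of_card_eq P 1 24 (by rw [h]; norm_num) (by norm_num)
  simpa using this

theorem card_sylow7 (h : Nat.card G = 168) : Nat.card (Sylow 7 G) = 8 := by
  obtain ⟨P⟩ : Nonempty (Sylow 7 G) := inferInstance
  have hPidx : (P : Subgroup G).index = 24 :=
    sylow_index_eq_of_card_eq P 1 24 (by rw [h]; norm_num) (by norm_num)
  have hdvd : Nat.card (Sylow 7 G) ∣ 24 := hPidx ▸ P.card_dvd_index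
  have hmod : Nat.card (Sylow 7 G) ≡ 1 [MOD 7] := card_sylow_modEq_one 7 G
  have hmem : Nat.card (Sylow 7 G) ∈ (Nat.divisors 24).filter (fun n => n % 7 = 1) := by
    rw [Finset.mem_filter, Nat.mem_divisors]
    exact ⟨⟨hdvd, by norm_num⟩, hmod⟩
  have hset : (Nat.divisors 24).filter (fun n => n % 7 = 1) = {1, 8} := by decide
  rw [hset] at hmem
  simp only [Finset.mem_insert, Finset.mem_singleton] at hmem
  rcases hmem with h' | h'
  · exact absurd h' (card_sylow_ne_one P (by rw [card_sylow7_sub h]; norm_num)
      (by rw [card_sylow7_sub h, h]; norm_num))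
  · exact h'

theorem card_normalizer_sylow7 (h : Nat.card G = 168) (P : Sylow 7 G) :
    Nat.card (normalizer ((P : Subgroup G) : Set G)) = 21 := by
  have h1 : (normalizer ((P : Subgroup G) : Set G)).index = 8 := by
    rw [← card_sylow7 h]; exact (Sylow.card_eq_index_normalizer P).symm
  have := (normalizer ((P : Subgroup G) : Set G)).index_mul_card
  rw [h1, h] at this
  omega

theorem centralizer_sylow7 (h : Nat.card G = 168) (P : Sylow 7 G) :
    centralizer ((P : Subgroup G) : Set G) = P :=
  centralizer_sylow_eq P (card_sylow7_sub h P) (r := 3) (by norm_num)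
    (by rw [card_normalizer_sylow7 h]) (by rw [h]; norm_num)

end seven

end Cfsg.Agent.Lib.Helper3.Ord168
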