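import Mathlib
import Cfsg.Agent.Lib.Helper3.Ord168_1

set_option autoImplicit false

namespace Cfsg.Agent.Lib.Helper3.Ord168

open Subgroup Cfsg.Agent.Lib.Helper3 Cfsg.Agent.Lib.Helper3.NS Cfsg.Agent.Lib.Helper1.SylowSimple

variable {G : Type*} [Group G] [Finite G]

omit [Finite G] in
theorem orderOf_conj' (g x : G) : orderOf (g * x * g⁻¹) = orderOf x := by
  rw [← MulAut.conj_apply]; exact MulEquiv.orderOf_eq _ _

/-- if the centralizer of every Sylow `p`-subgroup (of order `p`) is itself, elements of order
divisible by `p` have order `p` -/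
theorem orderOf_eq_of_dvd {p : ℕ} [hp : Fact p.Prime] (P : Sylow p G)
    (hP : Nat.card (P : Subgroup G) = p)
    (hC : ∀ Q : Sylow p G, centralizer ((Q : Subgroup G) : Set G) = Q) (g : G)
    (hg : p ∣ orderOf g) : orderOf g = p := by
  obtain ⟨m, hm⟩ := hg
  have hpos : 0 < orderOf g := orderOf_pos g
  have hm0 : m ≠ 0 := by
    rintro rfl
    rw [mul_zero] at hm; omega
  have ha : orderOf (g ^ m) = p := by
    rw [orderOf_pow_of_dvd hm0 ⟨p, by rw [hm, mul_comm]⟩, hm]
    exact Nat.mul_div_cancel _ (Nat.pos_of_ne_zero hm0)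
  have hcard : Nat.card (zpowers (g ^ m)) = p := by rw [Nat.card_zpowers, ha]
  have h1 := hC (sylowOfCardPrime P hP (zpowers (g ^ m)) hcard)
  rw [coe_sylowOfCardPrime] at h1
  have h2 : g ∈ centralizer ((zpowers (g ^ m) : Subgroup G) : Set G) := by
    rw [Subgroup.mem_centralizer_iff]
    intro y hy
    rw [SetLike.mem_coe] at hy
    obtain ⟨k, rfl⟩ := hy
    have : Commute g ((g ^ m) ^ k) := ((Commute.refl g).pow_right m).zpow_right k
    exact this.eq.symm
  rw [h1] at h2
  have h3 : orderOf g ∣ p := by
    have := Subgroup.orderOf_dvd_natCard _ h2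
    rwa [hcard] at this
  exact Nat.dvd_antisymm h3 ⟨m, hm⟩

variable [IsSimpleGroup G]

theorem orderOf_eq_seven (h : Nat.card G = 168) (g : G) (hg : 7 ∣ orderOf g) : orderOf g = 7 := by
  obtain ⟨P⟩ : Nonempty (Sylow 7 G) := inferInstance
  exact orderOf_eq_of_dvd P (card_sylow7_sub h P) (centralizer_sylow7 h) g hg

section three

theorem card_sylow3_sub (h : Nat.card G = 168) (P : Sylow 3 G) : Nat.card (P : Subgroup G) = 3 := by
  have := sylow_card_eq_of_card_eq P 1 56 (by rw [h]; norm_num) (by norm_num)
  simpa using this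

/-- elements of the normalizer of a Sylow 7 outside it have order 3 -/
theorem orderOf_eq_three_of_mem_normalizer (h : Nat.card G = 168) (P : Sylow 7 G) (g : G)
    (hg : g ∈ normalizer ((P : Subgroup G) : Set G)) (hgP : g ∉ (P : Subgroup G)) :
    orderOf g = 3 := by
  have h21 : g ^ 21 = 1 := by
    have := pow_card_eq_one' (x := (⟨g, hg⟩ : normalizer ((P : Subgroup G) : Set G)))
    rw [card_normalizer_sylow7 h] at this
    exact congrArg Subtype.val this
  have ha : (g ^ 3) ^ 7 ^ 1 = 1 := by rw [← pow_mul]; exact h21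
  have haN : g ^ 3 ∈ normalizer ((P : Subgroup G) : Set G) := Subgroup.pow_mem _ hg 3
  have haP := mem_sylow_of_mem_normalizer P haN ha
  by_cases h1 : g ^ 3 = 1
  · have hg1 : g ≠ 1 := by
      rintro rfl
      exact hgP (Subgroup.one_mem _)
    exact orderOf_eq_prime h1 hg1
  · exfalso
    have ho : orderOf (g ^ 3) = 7 := by
      apply orderOf_eq_prime _ h1
      rw [← pow_mul]; exact h21
    have hz : zpowers (g ^ 3) = (P : Subgroup G) := by
      apply Subgroup.eq_of_le_of_card_ge
      · rw [zpowers_le]; exact haP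
      · rw [Nat.card_zpowers, ho, card_sylow7_sub h]
    have h2 : g ∈ centralizer ((P : Subgroup G) : Set G) := by
      rw [← hz, Subgroup.mem_centralizer_iff]
      intro y hy
      rw [SetLike.mem_coe] at hy
      obtain ⟨k, rfl⟩ := hy
      have : Commute g ((g ^ 3) ^ k) := ((Commute.refl g).pow_right 3).zpow_right k
      exact this.eq.symm
    rw [centralizer_sylow7 h] at h2
    exact hgP h2

theorem card_sylow3 (h : Nat.card G = 168) : Nat.card (Sylow 3 G) = 28 := by
  obtain ⟨P⟩ : Nonempty (Sylow 3 G) := inferInstance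
  have hPidx : (P : Subgroup G).index = 56 :=
    sylow_index_eq_of_card_eq P 1 56 (by rw [h]; norm_num) (by norm_num)
  have hdvd : Nat.card (Sylow 3 G) ∣ 56 := hPidx ▸ P.card_dvd_index
  have hmod : Nat.card (Sylow 3 G) ≡ 1 [MOD 3] := card_sylow_modEq_one 3 G
  have hmem : Nat.card (Sylow 3 G) ∈ (Nat.divisors 56).filter (fun n => n % 3 = 1) := by
    rw [Finset.mem_filter, Nat.mem_divisors]
    exact ⟨⟨hdvd, by norm_num⟩, hmod⟩
  have hset : (Nat.divisors 56).filter (fun n => n % 3 = 1) = {1, 4, 7, 28} := by decide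
  rw [hset] at hmem
  simp only [Finset.mem_insert, Finset.mem_singleton] at hmem
  have hNidx : (normalizer ((P : Subgroup G) : Set G)).index = Nat.card (Sylow 3 G) :=
    (Sylow.card_eq_index_normalizer P).symm
  rcases hmem with h' | h' | h' | h'
  · exact absurd h' (card_sylow_ne_one P (by rw [card_sylow3_sub h]; norm_num)
      (by rw [card_sylow3_sub h, h]; norm_num))
  · exfalso
    have h7 := seven_le_index h (normalizer ((P : Subgroup G) : Set G)) (by
      intro htop
      rw [htop, Subgroup.index_top] at hNidx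
      omega)
    omega
  · exfalso
    -- 14 elements of order 3, all inside the normalizer of a Sylow 7
    obtain ⟨P7⟩ : Nonempty (Sylow 7 G) := inferInstance
    have hc3 : Nat.card {g : G // orderOf g = 3} = 14 := by
      rw [card_orderOf_eq_prime P (card_sylow3_sub h P), h']
    set N := normalizer ((P7 : Subgroup G) : Set G) with hN
    have hsub : ((N : Set G) \ ((P7 : Subgroup G) : Set G)) ⊆ {g : G | orderOf g = 3} := by
      intro g hg
      exact orderOf_eq_three_of_mem_normalizer h P7 g hg.1 hg.2
    have hcard1 : ((N : Set G) \ ((P7 : Subgroup G) : Set G)).ncard = 14 := by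
      rw [Set.ncard_sdiff (by exact_mod_cast (le_normalizer : (P7 : Subgroup G) ≤ N))]
      have e1 : (N : Set G).ncard = 21 := (card_normalizer_sylow7 h P7)
      have e2 : (((P7 : Subgroup G) : Set G)).ncard = 7 := (card_sylow7_sub h P7)
      rw [e1, e2]
    have hcard2 : {g : G | orderOf g = 3}.ncard = 14 := by
      rw [← hc3]; rfl
    have heq := Set.eq_of_subset_of_ncard_le hsub (by rw [hcard1, hcard2]) (Set.toFinite _)
    have hall : ∀ g : G, orderOf g = 3 → g ∈ N := by
      intro g hg
      have : g ∈ ((N : Set G) \ ((P7 : Subgroup G) : Set G)) := by rw [heq]; exact hg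
      exact this.1
    have hK : Subgroup.normalClosure {g : G | orderOf g = 3} ≤ N := by
      unfold Subgroup.normalClosure
      rw [Subgroup.closure_le]
      intro y hy
      rw [Group.mem_conjugatesOfSet_iff] at hy
      obtain ⟨a, ha, hay⟩ := hy
      rw [isConj_iff] at hay
      obtain ⟨c, rfl⟩ := hay
      apply hall
      rw [orderOf_conj']; exact ha
    obtain ⟨x, hx⟩ := exists_prime_orderOf_dvd_card' (G := G) 3 (by rw [h]; norm_num)
    have hxK : x ∈ Subgroup.normalClosure {g : G | orderOf g = 3} :=
      Subgroup.subset_normalClosure hx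
    rcases (Subgroup.normalClosure_normal (s := {g : G | orderOf g = 3})).eq_bot_or_eq_top
      with hb | ht
    · rw [hb, Subgroup.mem_bot] at hxK
      rw [hxK, orderOf_one] at hx
      omega
    · rw [ht, top_le_iff] at hK
      have := card_normalizer_sylow7 h P7
      rw [← hN, hK, Subgroup.card_top, h] at this
      omega
  · exact h'

theorem card_normalizer_sylow3 (h : Nat.card G = 168) (P : Sylow 3 G) :
    Nat.card (normalizer ((P : Subgroup G) : Set G)) = 6 := by
  have h1 : (normalizer ((P : Subgroup G) : Set G)).index = 28 := by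
    rw [← card_sylow3 h]; exact (Sylow.card_eq_index_normalizer P).symm
  have := (normalizer ((P : Subgroup G) : Set G)).index_mul_card
  rw [h1, h] at this
  omega

theorem centralizer_sylow3 (h : Nat.card G = 168) (P : Sylow 3 G) :
    centralizer ((P : Subgroup G) : Set G) = P :=
  centralizer_sylow_eq P (card_sylow3_sub h P) (r := 2) (by norm_num)
    (by rw [card_normalizer_sylow3 h]) (by rw [h]; norm_num)

theorem orderOf_eq_three (h : Nat.card G = 168) (g : G) (hg : 3 ∣ orderOf g) : orderOf g = 3 := by
  obtain ⟨P⟩ : Nonempty (Sylow 3 G) := inferInstance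
  exact orderOf_eq_of_dvd P (card_sylow3_sub h P) (centralizer_sylow3 h) g hg

end three

/-- the order of any element is `3`, `7` or divides `8` -/
theorem orderOf_cases (h : Nat.card G = 168) (g : G) :
    orderOf g = 3 ∨ orderOf g = 7 ∨ orderOf g ∣ 8 := by
  by_cases h3 : 3 ∣ orderOf g
  · exact Or.inl (orderOf_eq_three h g h3)
  by_cases h7 : 7 ∣ orderOf g
  · exact Or.inr (Or.inl (orderOf_eq_seven h g h7))
  right; right
  have hdvd : orderOf g ∣ 8 * 21 := by
    have := orderOf_dvd_natCard g
    rwa [h] at this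
  have hcop : Nat.Coprime (orderOf g) 21 := by
    have : (21 : ℕ) = 3 * 7 := by norm_num
    rw [this]
    apply Nat.Coprime.mul_right
    · exact ((Nat.Prime.coprime_iff_not_dvd (by norm_num)).mpr h3).symm
    · exact ((Nat.Prime.coprime_iff_not_dvd (by norm_num)).mpr h7).symm
  exact hcop.dvd_of_dvd_mul_right hdvd

/-- a 2-element commuting with an element of order 3 or 7 is trivial -/
theorem eq_one_of_commute (h : Nat.card G = 168) (x t : G) (hx : orderOf x = 3 ∨ orderOf x = 7)
    (ht : t ^ 8 = 1) (hc : Commute x t) : t = 1 := by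
  have hto : orderOf t ∣ 2 ^ 3 := orderOf_dvd_of_pow_eq_one ht
  obtain ⟨k, hk, hk'⟩ := (Nat.dvd_prime_pow Nat.prime_two).mp hto
  have hcop : Nat.Coprime (orderOf x) (orderOf t) := by
    rw [hk']
    apply Nat.Coprime.pow_right
    rcases hx with hx | hx <;> rw [hx] <;> norm_num
  have hmul := hc.orderOf_mul_eq_mul_orderOf_of_coprime hcop
  rcases hx with hx | hx
  · have := orderOf_eq_three h (x * t) (by rw [hmul, hx]; exact dvd_mul_right _ _)
    rw [hmul, hx] at this
    have : orderOf t = 1 := by omega
    exact orderOf_eq_one_iff.mp this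
  · have := orderOf_eq_seven h (x * t) (by rw [hmul, hx]; exact dvd_mul_right _ _)
    rw [hmul, hx] at this
    have : orderOf t = 1 := by omega
    exact orderOf_eq_one_iff.mp this

end Cfsg.Agent.Lib.Helper3.Ord168
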