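import Mathlib
import Cfsg.Agent.Lib.Helper3.Ord168_2
import Cfsg.Agent.Lib.Lead.FpfCyclic

set_option autoImplicit false

namespace Cfsg.Agent.Lib.Helper3.Ord168

open Subgroup Cfsg.Agent.Lib.Helper3 Cfsg.Agent.Lib.Helper3.NS Cfsg.Agent.Lib.Helper1.SylowSimple

variable {G : Type*} [Group G] [Finite G] [IsSimpleGroup G]

theorem card_sylow2_sub (h : Nat.card G = 168) (T : Sylow 2 G) : Nat.card (T : Subgroup G) = 8 := by
  have := sylow_card_eq_of_card_eq T 3 21 (by rw [h]; norm_num) (by norm_num)
  simpa using this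

theorem pow_eight_eq_one (h : Nat.card G = 168) (T : Sylow 2 G) {t : G} (ht : t ∈ (T : Subgroup G)) :
    t ^ 8 = 1 := by
  have := pow_card_eq_one' (x := (⟨t, ht⟩ : (T : Subgroup G)))
  rw [card_sylow2_sub h] at this
  exact congrArg Subtype.val this

/-- no element of order 3 normalizes a Sylow 2-subgroup -/
theorem not_mem_normalizer_sylow2 (h : Nat.card G = 168) (T : Sylow 2 G) (x : G)
    (hx : orderOf x = 3) : x ∉ normalizer ((T : Subgroup G) : Set G) := by
  intro hxN
  have hQq : IsPGroup 3 (zpowers x) := by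
    rw [IsPGroup.iff_card]
    exact ⟨1, by rw [Nat.card_zpowers, hx, pow_one]⟩
  have hQ : zpowers x ≤ normalizer ((T : Subgroup G) : Set G) := by
    rw [zpowers_le]; exact hxN
  have h1 := Cfsg.Agent.Lib.Lead.card_modEq_card_inf_centralizer (T : Subgroup G) (zpowers x) 3 hQq hQ
  rw [card_sylow2_sub h] at h1
  have h2 : ((T : Subgroup G) ⊓ centralizer ((zpowers x : Subgroup G) : Set G)) ≠ ⊥ := by
    intro hb
    rw [hb, Subgroup.card_bot] at h1
    exact absurd h1 (by decide)
  obtain ⟨t, ht1⟩ := (Subgroup.ne_bot_iff_exists_ne_one).mp h2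
  have htT : (t : G) ∈ (T : Subgroup G) := (Subgroup.mem_inf.mp t.2).1
  have htC : (t : G) ∈ centralizer ((zpowers x : Subgroup G) : Set G) := (Subgroup.mem_inf.mp t.2).2
  have hc : Commute x (t : G) := by
    rw [Subgroup.mem_centralizer_iff] at htC
    exact htC x (mem_zpowers x)
  have := eq_one_of_commute h x t (Or.inl hx) (pow_eight_eq_one h T htT) hc
  exact ht1 (Subtype.ext this)

theorem card_sylow2 (h : Nat.card G = 168) : Nat.card (Sylow 2 G) = 21 := by
  obtain ⟨P⟩ : Nonempty (Sylow 2 G) := inferInstance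
  have hPidx : (P : Subgroup G).index = 21 :=
    sylow_index_eq_of_card_eq P 3 21 (by rw [h]; norm_num) (by norm_num)
  have hdvd : Nat.card (Sylow 2 G) ∣ 21 := hPidx ▸ P.card_dvd_index
  have hmem : Nat.card (Sylow 2 G) ∈ Nat.divisors 21 := by
    rw [Nat.mem_divisors]
    exact ⟨hdvd, by norm_num⟩
  have hset : Nat.divisors 21 = {1, 3, 7, 21} := by decide
  rw [hset] at hmem
  simp only [Finset.mem_insert, Finset.mem_singleton] at hmem
  have hNidx : (normalizer ((P : Subgroup G) : Set G)).index = Nat.card (Sylow 2 G) :=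
    (Sylow.card_eq_index_normalizer P).symm
  rcases hmem with h' | h' | h' | h'
  · exact absurd h' (card_sylow_ne_one P (by rw [card_sylow2_sub h]; norm_num)
      (by rw [card_sylow2_sub h, h]; norm_num))
  · exfalso
    have h7 := seven_le_index h (normalizer ((P : Subgroup G) : Set G)) (by
      intro htop
      rw [htop, Subgroup.index_top] at hNidx
      omega)
    omega
  · exfalso
    have hNcard : Nat.card (normalizer ((P : Subgroup G) : Set G)) = 24 := by
      have := (normalizer ((P : Subgroup G) : Set G)).index_mul_card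
      rw [hNidx, h', h] at this
      omega
    obtain ⟨x, hx⟩ := exists_prime_orderOf_dvd_card'
      (G := normalizer ((P : Subgroup G) : Set G)) 3 (by rw [hNcard]; norm_num)
    rw [← Subgroup.orderOf_coe] at hx
    exact not_mem_normalizer_sylow2 h P (x : G) hx x.2
  · exact h'

theorem normalizer_sylow2 (h : Nat.card G = 168) (T : Sylow 2 G) :
    normalizer ((T : Subgroup G) : Set G) = T := by
  have h1 : (normalizer ((T : Subgroup G) : Set G)).index = 21 := by
    rw [← card_sylow2 h]; exact (Sylow.card_eq_index_normalizer T).symm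
  have h2 : Nat.card (normalizer ((T : Subgroup G) : Set G)) = 8 := by
    have := (normalizer ((T : Subgroup G) : Set G)).index_mul_card
    rw [h1, h] at this
    omega
  symm
  apply Subgroup.eq_of_le_of_card_ge le_normalizer
  rw [h2, card_sylow2_sub h]

theorem sylow2_not_comm (h : Nat.card G = 168) (T : Sylow 2 G) :
    ¬ IsMulCommutative (T : Subgroup G) := by
  intro hc
  have h1 : normalizer ((T : Subgroup G) : Set G) ≤ centralizer ((T : Subgroup G) : Set G) := by
    rw [normalizer_sylow2 h]
    exact le_centralizer_of_isMulCommutative (T : Subgroup G)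
  have hT := card_sylow2_sub h T
  rcases sylow_eq_bot_or_top_of_normalizer_le_centralizer T h1 with h' | h'
  · rw [h', Subgroup.card_bot] at hT; omega
  · rw [h', Subgroup.card_top, h] at hT; omega

theorem orderOf_ne_eight (h : Nat.card G = 168) (g : G) : orderOf g ≠ 8 := by
  intro hg
  have hcard : Nat.card (zpowers g) = 2 ^ (Nat.card G).factorization 2 := by
    rw [Nat.card_zpowers, hg, h]
    have : (168 : ℕ).factorization 2 = 3 := by
      have h168 : (168 : ℕ) = 2 ^ 3 * 21 := by norm_num
      rw [h168, Nat.factorization_mul (by norm_num) (by norm_num), Nat.Prime.factorization_pow Nat.prime_two,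
        Finsupp.add_apply, Nat.factorization_eq_zero_of_not_dvd (by norm_num : ¬ 2 ∣ 21)]
      simp
    rw [this]; norm_num
  let T : Sylow 2 G := Sylow.ofCard (zpowers g) hcard
  apply sylow2_not_comm h T
  show IsMulCommutative (zpowers g)
  infer_instance

theorem orderOf_mem (h : Nat.card G = 168) (g : G) :
    orderOf g = 1 ∨ orderOf g = 2 ∨ orderOf g = 3 ∨ orderOf g = 4 ∨ orderOf g = 7 := by
  rcases orderOf_cases h g with h3 | h7 | h8
  · exact Or.inr (Or.inr (Or.inl h3))
  · exact Or.inr (Or.inr (Or.inr (Or.inr h7)))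
  · have hmem : orderOf g ∈ Nat.divisors 8 := by
      rw [Nat.mem_divisors]; exact ⟨h8, by norm_num⟩
    have hset : Nat.divisors 8 = {1, 2, 4, 8} := by decide
    rw [hset] at hmem
    simp only [Finset.mem_insert, Finset.mem_singleton] at hmem
    rcases hmem with h' | h' | h' | h'
    · exact Or.inl h'
    · exact Or.inr (Or.inl h')
    · exact Or.inr (Or.inr (Or.inr (Or.inl h')))
    · exact absurd h' (orderOf_ne_eight h g)

end Cfsg.Agent.Lib.Helper3.Ord168
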