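import Mathlib
import Cfsg.Agent.Lib.Helper3.Ord168_3
import Cfsg.Agent.Lib.Helper3.Count

set_option autoImplicit false

namespace Cfsg.Agent.Lib.Helper3.Ord168

open Subgroup Cfsg.Agent.Lib.Helper3 Cfsg.Agent.Lib.Helper3.NS Cfsg.Agent.Lib.Helper1.SylowSimple

variable {G : Type*} [Group G] [Finite G]

/-- if a class is contained in a set of the same size, it is the whole set -/
theorem isConj_of_card_eq (x : G) (P : G → Prop) (hP : ∀ g, IsConj x g → P g)
    (hcard : Nat.card {g : G // P g} ≤ Nat.card {g : G // IsConj x g}) :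
    ∀ g, P g → IsConj x g := by
  intro g hg
  let ι : {g : G // IsConj x g} → {g : G // P g} := fun y => ⟨y.1, hP y.1 y.2⟩
  have hinj : Function.Injective ι := by
    intro a b hab
    apply Subtype.ext
    exact congrArg (fun z => z.1) hab
  have hbij := hinj.bijective_of_nat_card_le hcard
  obtain ⟨y, hy⟩ := hbij.2 ⟨g, hg⟩
  have : y.1 = g := congrArg Subtype.val hy
  rw [← this]; exact y.2

omit [Finite G] in
theorem orderOf_eq_of_isConj {x g : G} (hc : IsConj x g) : orderOf g = orderOf x := by
  rw [isConj_iff] at hc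
  obtain ⟨c, rfl⟩ := hc
  exact orderOf_conj' c x

theorem card_class_le (x : G) : Nat.card {g : G // IsConj x g} ≤ Nat.card {g : G // orderOf g = orderOf x} := by
  let ι : {g : G // IsConj x g} → {g : G // orderOf g = orderOf x} :=
    fun y => ⟨y.1, orderOf_eq_of_isConj y.2⟩
  apply Nat.card_le_card_of_injective ι
  intro a b hab
  apply Subtype.ext
  exact congrArg (fun z => z.1) hab

omit [Finite G] in
theorem centralizer_singleton_le_zpowers (x : G) :
    centralizer ({x} : Set G) ≤ centralizer ((zpowers x : Subgroup G) : Set G) := by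
  intro g hg
  rw [Subgroup.mem_centralizer_singleton_iff] at hg
  rw [Subgroup.mem_centralizer_iff]
  intro y hy
  rw [SetLike.mem_coe] at hy
  obtain ⟨k, rfl⟩ := hy
  have : Commute g x := hg
  exact (this.zpow_right k).eq.symm

omit [Finite G] in
theorem zpowers_le_centralizer_singleton (x : G) : zpowers x ≤ centralizer ({x} : Set G) := by
  rw [zpowers_le, Subgroup.mem_centralizer_singleton_iff]

variable [IsSimpleGroup G]

theorem card_orderOf_seven (h : Nat.card G = 168) : Nat.card {g : G // orderOf g = 7} = 48 := by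
  obtain ⟨P⟩ : Nonempty (Sylow 7 G) := inferInstance
  rw [card_orderOf_eq_prime P (card_sylow7_sub h P), card_sylow7 h]

theorem card_orderOf_three (h : Nat.card G = 168) : Nat.card {g : G // orderOf g = 3} = 56 := by
  obtain ⟨P⟩ : Nonempty (Sylow 3 G) := inferInstance
  rw [card_orderOf_eq_prime P (card_sylow3_sub h P), card_sylow3 h]

omit [Finite G] [IsSimpleGroup G] in
theorem card_orderOf_one : Nat.card {g : G // orderOf g = 1} = 1 := by
  rw [Nat.card_eq_one_iff_unique]
  refine ⟨⟨fun a b => ?_⟩, ⟨⟨1, orderOf_one⟩⟩⟩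
  apply Subtype.ext
  rw [orderOf_eq_one_iff.mp a.2, orderOf_eq_one_iff.mp b.2]

theorem card_two_add_four (h : Nat.card G = 168) :
    Nat.card {g : G // orderOf g = 2} + Nat.card {g : G // orderOf g = 4} = 63 := by
  have h1 := sum_card_orderOf_eq (G := G) ({1, 2, 3, 4, 7} : Finset ℕ) (by
    intro g
    simp only [Finset.mem_insert, Finset.mem_singleton]
    exact orderOf_mem h g)
  rw [Finset.sum_insert (by decide), Finset.sum_insert (by decide), Finset.sum_insert (by decide),
    Finset.sum_insert (by decide), Finset.sum_singleton, card_orderOf_one, card_orderOf_three h,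
    card_orderOf_seven h, h] at h1
  omega

/-- the centralizer of a nontrivial 2-element is a 2-group -/
theorem card_centralizer_dvd_eight (h : Nat.card G = 168) (t : G) (ht : t ^ 8 = 1) (ht1 : t ≠ 1) :
    Nat.card (centralizer ({t} : Set G)) ∣ 8 := by
  have hdvd : Nat.card (centralizer ({t} : Set G)) ∣ 8 * 21 := by
    have := Subgroup.card_subgroup_dvd_card (centralizer ({t} : Set G))
    rwa [h] at this
  have key : ∀ p : ℕ, p.Prime → (p = 3 ∨ p = 7) → ¬ p ∣ Nat.card (centralizer ({t} : Set G)) := by
    intro p hp hp37 hpd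
    have : Fact p.Prime := ⟨hp⟩
    obtain ⟨x, hx⟩ := exists_prime_orderOf_dvd_card' (G := centralizer ({t} : Set G)) p hpd
    rw [← Subgroup.orderOf_coe] at hx
    have hc : Commute (x : G) t := by
      have := x.2
      rw [Subgroup.mem_centralizer_singleton_iff] at this
      exact this
    apply ht1
    apply eq_one_of_commute h (x : G) t _ ht hc
    rcases hp37 with rfl | rfl
    · exact Or.inl hx
    · exact Or.inr hx
  have hcop : Nat.Coprime (Nat.card (centralizer ({t} : Set G))) 21 := by
    have : (21 : ℕ) = 3 * 7 := by norm_num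
    rw [this]
    apply Nat.Coprime.mul_right
    · exact ((Nat.Prime.coprime_iff_not_dvd (by norm_num)).mpr
        (key 3 (by norm_num) (Or.inl rfl))).symm
    · exact ((Nat.Prime.coprime_iff_not_dvd (by norm_num)).mpr
        (key 7 (by norm_num) (Or.inr rfl))).symm
  exact hcop.dvd_of_dvd_mul_right hdvd

theorem centralizer_eq_sylow (h : Nat.card G = 168) (T : Sylow 2 G) (z : G)
    (hz1 : z ≠ 1) (hc : ∀ t ∈ (T : Subgroup G), t * z = z * t) (hzT : z ∈ (T : Subgroup G)) :
    centralizer ({z} : Set G) = T := by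
  symm
  apply Subgroup.eq_of_le_of_card_ge
  · intro t ht
    rw [Subgroup.mem_centralizer_singleton_iff]
    exact hc t ht
  · rw [card_sylow2_sub h]
    exact Nat.le_of_dvd (by norm_num)
      (card_centralizer_dvd_eight h z (pow_eight_eq_one h T hzT) hz1)

/-- orders of elements of a Sylow 2-subgroup -/
theorem orderOf_mem_sylow2 (h : Nat.card G = 168) (T : Sylow 2 G) {t : G}
    (ht : t ∈ (T : Subgroup G)) : orderOf t = 1 ∨ orderOf t = 2 ∨ orderOf t = 4 := by
  have h8 : orderOf t ∣ 8 := orderOf_dvd_of_pow_eq_one (pow_eight_eq_one h T ht)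
  rcases orderOf_mem h t with h' | h' | h' | h' | h'
  · exact Or.inl h'
  · exact Or.inr (Or.inl h')
  · rw [h'] at h8; norm_num at h8
  · exact Or.inr (Or.inr h')
  · rw [h'] at h8; norm_num at h8

theorem exists_central_involution (h : Nat.card G = 168) (T : Sylow 2 G) :
    ∃ z ∈ (T : Subgroup G), orderOf z = 2 ∧ ∀ t ∈ (T : Subgroup G), t * z = z * t := by
  have hnt : Nontrivial (T : Subgroup G) := by
    rw [← Finite.one_lt_card_iff_nontrivial, card_sylow2_sub h]; norm_num
  have hcn := IsPGroup.center_nontrivial (T.2)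
  obtain ⟨z, hz1⟩ := exists_ne (1 : Subgroup.center (T : Subgroup G))
  have hzc : ∀ t ∈ (T : Subgroup G), t * (z : (T : Subgroup G)) = (z : (T : Subgroup G)) * t := by
    intro t ht
    have := (Subgroup.mem_center_iff.mp z.2) ⟨t, ht⟩
    exact congrArg Subtype.val this
  have hzT : ((z : (T : Subgroup G)) : G) ∈ (T : Subgroup G) := (z : (T : Subgroup G)).2
  have hz1' : ((z : (T : Subgroup G)) : G) ≠ 1 := by
    intro h1
    apply hz1
    apply Subtype.ext
    apply Subtype.ext
    exact h1
  rcases orderOf_mem_sylow2 h T hzT with h' | h' | h'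
  · exact absurd (orderOf_eq_one_iff.mp h') hz1'
  · exact ⟨_, hzT, h', hzc⟩
  · refine ⟨((z : (T : Subgroup G)) : G) ^ 2, Subgroup.pow_mem _ hzT 2, ?_, ?_⟩
    · rw [orderOf_pow_of_dvd (by norm_num) (by rw [h']; norm_num), h']
    · intro t ht
      have : Commute t ((z : (T : Subgroup G)) : G) := hzc t ht
      exact (this.pow_right 2).eq

end Cfsg.Agent.Lib.Helper3.Ord168
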