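import Mathlib
import Mathlib
import Cfsg.Prelude.Def_Local
import Cfsg.Agent.Lib.Lead.ThompsonPQ
import Cfsg.Agent.Lib.Helper3.Gen3
import Cfsg.Agent.S1324

set_option autoImplicit false

namespace Cfsg.Agent.Lib.Helper3.TD

open Cfsg.Agent.Lib.Lead Cfsg.Agent.Lib.Helper3.Sig Cfsg.Agent.Lib.Helper3.Gen

variable {G : Type*} [Group G]

theorem conj_inv_of_mul_self {a : G} (ha : a * a = 1) (y : G) :
    a * (y⁻¹ * (a * y * a⁻¹)) * a⁻¹ = (y⁻¹ * (a * y * a⁻¹))⁻¹ := by
  have h : a⁻¹ = a := inv_eq_of_mul_eq_one_left ha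
  rw [h]
  have : (y⁻¹ * (a * y * a))⁻¹ = a⁻¹ * y⁻¹ * a⁻¹ * y := by group
  rw [this, h]
  have : a * (y⁻¹ * (a * y * a)) * a = a * y⁻¹ * a * y * (a * a) := by group
  rw [this, ha, mul_one]

theorem eq_one_of_odd_card [Finite G] {R : Subgroup G} (hodd : Odd (Nat.card R)) {z : G} (hz : z ∈ R)
    (hzz : z = z⁻¹) : z = 1 := by
  have h1 : orderOf z ∣ Nat.card R := by
    have := orderOf_dvd_natCard (⟨z, hz⟩ : R)
    rwa [Subgroup.orderOf_mk] at this
  have hodd' : Odd (orderOf z) := Odd.of_dvd_nat hodd h1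
  have hzz2 : z ^ 2 = 1 := by
    rw [pow_two]; nth_rewrite 1 [hzz]; exact inv_mul_cancel z
  have hd2 : orderOf z ∣ 2 := orderOf_dvd_of_pow_eq_one hzz2
  have hd1 : orderOf z = 1 := by
    rcases (Nat.dvd_prime Nat.prime_two).mp hd2 with h | h
    · exact h
    · rw [h] at hodd'; exact absurd hodd' (by decide)
  exact orderOf_eq_one_iff.mp hd1

theorem mem_zpowers_of_mul_self {b h : G} (hb : b * b = 1) (hh : h ∈ Subgroup.zpowers b) :
    h = 1 ∨ h = b := by
  obtain ⟨i, rfl⟩ := Subgroup.mem_zpowers_iff.mp hh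
  rcases Int.even_or_odd i with ⟨k, rfl⟩ | ⟨k, rfl⟩
  · left
    rw [← two_mul, zpow_mul, zpow_two, hb, one_zpow]
  · right
    rw [zpow_add, zpow_mul, zpow_two, hb, one_zpow, one_mul, zpow_one]

theorem mem_centralizer_zpowers_iff {g x : G} :
    g ∈ Subgroup.centralizer ((Subgroup.zpowers x : Subgroup G) : Set G) ↔ g * x = x * g := by
  constructor
  · intro h
    exact (Subgroup.mem_centralizer_iff.mp h x (Subgroup.mem_zpowers x)).symm
  · intro h
    rw [Subgroup.mem_centralizer_iff]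
    intro y hy
    obtain ⟨i, rfl⟩ := Subgroup.mem_zpowers_iff.mp hy
    have : Commute g x := h
    exact (this.zpow_right i).eq.symm

theorem card_of_relIndex_two [Finite G] {A B : Subgroup G} (hBA : B ≤ A) (h2 : B.relIndex A = 2) :
    Nat.card A = 2 * Nat.card B := by
  have h1 := Subgroup.card_mul_index (B.subgroupOf A)
  have h3 : Nat.card (B.subgroupOf A) = Nat.card B :=
    Nat.card_congr (Subgroup.subgroupOfEquivOfLe hBA).toEquiv
  unfold Subgroup.relIndex at h2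
  rw [h2, h3] at h1
  omega

theorem mul_mem_of_relIndex_two {A B : Subgroup G} (h2 : B.relIndex A = 2) {a a' : G}
    (ha : a ∈ A) (ha' : a' ∈ A) (haB : a ∉ B) (ha'B : a' ∉ B) : a⁻¹ * a' ∈ B := by
  have h := Subgroup.mul_mem_iff_of_index_two (H := B.subgroupOf A) h2
    (a := (⟨a, ha⟩ : A)⁻¹) (b := ⟨a', ha'⟩)
  rw [Subgroup.mem_subgroupOf, Subgroup.mem_subgroupOf, Subgroup.mem_subgroupOf] at h
  simp only [Subgroup.coe_mul, Subgroup.coe_inv] at h
  rw [h]
  constructor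
  · intro hh; exact absurd (by simpa using B.inv_mem hh) haB
  · intro hh; exact absurd hh ha'B

end Cfsg.Agent.Lib.Helper3.TD
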