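import Mathlib
import Cfsg.Agent.Lib.Helper3.Ord168_4
import Cfsg.Agent.Lib.Helper3.TD2

set_option autoImplicit false

namespace Cfsg.Agent.Lib.Helper3.Ord168

open Subgroup Cfsg.Agent.Lib.Helper3 Cfsg.Agent.Lib.Helper3.NS Cfsg.Agent.Lib.Helper1.SylowSimple

variable {G : Type*} [Group G]

/-- if `y` conjugates an element `x` of order 4 into `⟨x⟩`, it centralizes `x²` -/
theorem commute_sq_of_conj_mem {x y : G} (hx : orderOf x = 4) (hy : y * x * y⁻¹ ∈ zpowers x) :
    y * (x * x) = (x * x) * y := by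
  obtain ⟨k, hk⟩ := Subgroup.mem_zpowers_iff.mp hy
  have hx4 : x ^ (4 : ℤ) = 1 := by
    have := pow_orderOf_eq_one x
    rw [hx] at this
    exact_mod_cast this
  have hsq : y * (x * x) * y⁻¹ = x ^ (k * 2) := by
    rw [zpow_mul, hk]
    show _ = (y * x * y⁻¹) ^ (2 : ℤ)
    rw [zpow_two]; group
  have hk2 : k * 2 = 4 * (k / 2) + 2 * (k % 2) := by omega
  rw [hk2, zpow_add, zpow_mul, hx4, one_zpow, one_mul] at hsq
  rcases Int.emod_two_eq_zero_or_one k with h0 | h1
  · exfalso
    rw [h0] at hsq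
    simp only [mul_zero, zpow_zero] at hsq
    have h1 : x * x = 1 := by
      have : x * x = y⁻¹ * (y * (x * x) * y⁻¹) * y := by group
      rw [this, hsq]; group
    have : orderOf x ∣ 2 := orderOf_dvd_of_pow_eq_one (by rw [pow_two]; exact h1)
    rw [hx] at this
    norm_num at this
  · rw [h1] at hsq
    have : x ^ ((2 : ℤ) * 1) = x * x := by
      rw [mul_one, zpow_two]
    rw [this] at hsq
    calc y * (x * x) = (y * (x * x) * y⁻¹) * y := by group
      _ = (x * x) * y := by rw [hsq]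

variable [Finite G] [IsSimpleGroup G]

theorem relIndex_zpowers (h : Nat.card G = 168) (T : Sylow 2 G) {x : G}
    (hxT : x ∈ (T : Subgroup G)) (hx : orderOf x = 4) :
    (zpowers x).relIndex (T : Subgroup G) = 2 := by
  have hle : zpowers x ≤ (T : Subgroup G) := by rw [zpowers_le]; exact hxT
  have h1 := Subgroup.card_mul_index ((zpowers x).subgroupOf (T : Subgroup G))
  have h3 : Nat.card ((zpowers x).subgroupOf (T : Subgroup G)) = Nat.card (zpowers x) :=
    Nat.card_congr (Subgroup.subgroupOfEquivOfLe hle).toEquiv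
  rw [h3, Nat.card_zpowers, hx, card_sylow2_sub h] at h1
  unfold Subgroup.relIndex
  omega

theorem conj_mem_zpowers (h : Nat.card G = 168) (T : Sylow 2 G) {x y : G}
    (hxT : x ∈ (T : Subgroup G)) (hx : orderOf x = 4) (hy : y ∈ (T : Subgroup G)) :
    y * x * y⁻¹ ∈ zpowers x := by
  by_cases hyB : y ∈ zpowers x
  · exact Subgroup.mul_mem _ (Subgroup.mul_mem _ hyB (mem_zpowers x)) (Subgroup.inv_mem _ hyB)
  · have h2 := relIndex_zpowers h T hxT hx
    have hy' : y⁻¹ ∉ zpowers x := fun hh => hyB (by simpa using Subgroup.inv_mem _ hh)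
    have hxy : x * y⁻¹ ∉ zpowers x := by
      intro hh
      apply hy'
      have : y⁻¹ = x⁻¹ * (x * y⁻¹) := by group
      rw [this]
      exact Subgroup.mul_mem _ (Subgroup.inv_mem _ (mem_zpowers x)) hh
    have := TD.mul_mem_of_relIndex_two h2 (Subgroup.inv_mem _ hy)
      (Subgroup.mul_mem _ hxT (Subgroup.inv_mem _ hy)) hy' hxy
    rw [inv_inv] at this
    rw [mul_assoc]; exact this

theorem sq_central (h : Nat.card G = 168) (T : Sylow 2 G) {x : G}
    (hxT : x ∈ (T : Subgroup G)) (hx : orderOf x = 4) :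
    ∀ t ∈ (T : Subgroup G), t * (x * x) = (x * x) * t := fun _ ht =>
  commute_sq_of_conj_mem hx (conj_mem_zpowers h T hxT hx ht)

omit [Finite G] [IsSimpleGroup G] in
theorem sq_ne_one {x : G} (hx : orderOf x = 4) : x * x ≠ 1 := by
  intro h1
  have : orderOf x ∣ 2 := orderOf_dvd_of_pow_eq_one (by rw [pow_two]; exact h1)
  rw [hx] at this
  norm_num at this

theorem centralizer_sq (h : Nat.card G = 168) (T : Sylow 2 G) {x : G}
    (hxT : x ∈ (T : Subgroup G)) (hx : orderOf x = 4) :
    centralizer ({x * x} : Set G) = T :=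
  centralizer_eq_sylow h T (x * x) (sq_ne_one hx) (sq_central h T hxT hx)
    (Subgroup.mul_mem _ hxT hxT)

/-- an element of order 4 is not central in a Sylow 2-subgroup -/
theorem not_central_of_order4 (h : Nat.card G = 168) (T : Sylow 2 G) {x : G}
    (hxT : x ∈ (T : Subgroup G)) (hx : orderOf x = 4) :
    ¬ ∀ t ∈ (T : Subgroup G), t * x = x * t := by
  intro hc
  apply sylow2_not_comm h T
  have h2 := relIndex_zpowers h T hxT hx
  have hcz : ∀ c ∈ zpowers x, ∀ t ∈ (T : Subgroup G), t * c = c * t := by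
    intro c hcm t ht
    obtain ⟨k, rfl⟩ := Subgroup.mem_zpowers_iff.mp hcm
    have : Commute t x := hc t ht
    exact (this.zpow_right k).eq
  refine ⟨⟨fun a b => ?_⟩⟩
  apply Subtype.ext
  show (a : G) * (b : G) = (b : G) * (a : G)
  by_cases ha : (a : G) ∈ zpowers x
  · exact (hcz _ ha _ b.2).symm
  by_cases hb : (b : G) ∈ zpowers x
  · exact hcz _ hb _ a.2
  have hab := TD.mul_mem_of_relIndex_two h2 a.2 b.2 ha hb
  have h1 := hcz _ hab _ a.2
  have hb' : (b : G) = (a : G) * ((a : G)⁻¹ * (b : G)) := by group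
  rw [hb']
  rw [mul_assoc, h1]

theorem exists_sylow2_mem (x : G) (hx : x ^ 8 = 1) : ∃ T : Sylow 2 G, x ∈ (T : Subgroup G) := by
  have h1 : IsPGroup 2 (zpowers x) := by
    rw [IsPGroup.iff_card]
    have : orderOf x ∣ 2 ^ 3 := orderOf_dvd_of_pow_eq_one hx
    obtain ⟨m, _, hm⟩ := (Nat.dvd_prime_pow Nat.prime_two).mp this
    exact ⟨m, by rw [Nat.card_zpowers, hm]⟩
  obtain ⟨T, hT⟩ := h1.exists_le_sylow
  exact ⟨T, hT (mem_zpowers x)⟩

theorem card_centralizer_order4 (h : Nat.card G = 168) {x : G} (hx : orderOf x = 4) :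
    Nat.card (centralizer ({x} : Set G)) = 4 := by
  have hx4 : x ^ 4 = 1 := by rw [← hx]; exact pow_orderOf_eq_one x
  have hx8 : x ^ 8 = 1 := by
    have : x ^ 8 = (x ^ 4) ^ 2 := by rw [← pow_mul]
    rw [this, hx4, one_pow]
  obtain ⟨T, hxT⟩ := exists_sylow2_mem x hx8
  have hx1 : x ≠ 1 := by
    rintro rfl
    rw [orderOf_one] at hx; omega
  have hle : centralizer ({x} : Set G) ≤ (T : Subgroup G) := by
    rw [← centralizer_sq h T hxT hx]
    intro g hg
    rw [Subgroup.mem_centralizer_singleton_iff] at hg ⊢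
    have : Commute g x := hg
    exact (this.mul_right this).eq
  have h8 := card_centralizer_dvd_eight h x hx8 hx1
  have h4 : 4 ∣ Nat.card (centralizer ({x} : Set G)) := by
    have := Subgroup.card_dvd_of_le (zpowers_le_centralizer_singleton x)
    rwa [Nat.card_zpowers, hx] at this
  have hmem : Nat.card (centralizer ({x} : Set G)) ∈ Nat.divisors 8 := by
    rw [Nat.mem_divisors]; exact ⟨h8, by norm_num⟩
  have hset : Nat.divisors 8 = {1, 2, 4, 8} := by decide
  rw [hset] at hmem
  simp only [Finset.mem_insert, Finset.mem_singleton] at hmem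
  rcases hmem with h' | h' | h' | h'
  · rw [h'] at h4; norm_num at h4
  · rw [h'] at h4; norm_num at h4
  · exact h'
  · exfalso
    have heq : centralizer ({x} : Set G) = (T : Subgroup G) := by
      apply Subgroup.eq_of_le_of_card_ge hle
      rw [h', card_sylow2_sub h]
    apply not_central_of_order4 h T hxT hx
    intro t ht
    rw [← heq, Subgroup.mem_centralizer_singleton_iff] at ht
    exact ht

theorem exists_order4 (h : Nat.card G = 168) (T : Sylow 2 G) :
    ∃ x ∈ (T : Subgroup G), orderOf x = 4 := by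
  by_contra hcon
  push Not at hcon
  apply sylow2_not_comm h T
  have hsq : ∀ t ∈ (T : Subgroup G), t * t = 1 := by
    intro t ht
    rcases orderOf_mem_sylow2 h T ht with h' | h' | h'
    · rw [orderOf_eq_one_iff.mp h', one_mul]
    · rw [← pow_two, ← h']; exact pow_orderOf_eq_one t
    · exact absurd h' (hcon t ht)
  refine ⟨⟨fun a b => ?_⟩⟩
  apply Subtype.ext
  show (a : G) * (b : G) = (b : G) * (a : G)
  have ha := hsq _ a.2
  have hb := hsq _ b.2
  have hab := hsq _ (Subgroup.mul_mem _ a.2 b.2)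
  have ha' : (a : G)⁻¹ = (a : G) := inv_eq_of_mul_eq_one_left ha
  have hb' : (b : G)⁻¹ = (b : G) := inv_eq_of_mul_eq_one_left hb
  have hab' : ((a : G) * (b : G))⁻¹ = (a : G) * (b : G) := inv_eq_of_mul_eq_one_left hab
  calc (a : G) * (b : G) = ((a : G) * (b : G))⁻¹ := hab'.symm
    _ = (b : G)⁻¹ * (a : G)⁻¹ := mul_inv_rev _ _
    _ = (b : G) * (a : G) := by rw [ha', hb']

end Cfsg.Agent.Lib.Helper3.Ord168
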