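import Mathlib
import Cfsg.Agent.Lib.Helper3.Ord168_5

set_option autoImplicit false

namespace Cfsg.Agent.Lib.Helper3.Ord168

open Subgroup Cfsg.Agent.Lib.Helper3 Cfsg.Agent.Lib.Helper3.NS Cfsg.Agent.Lib.Helper1.SylowSimple

variable {G : Type*} [Group G] [Finite G] [IsSimpleGroup G]

theorem card_class_order4 (h : Nat.card G = 168) {x : G} (hx : orderOf x = 4) :
    Nat.card {g : G // IsConj x g} = 42 := by
  have := card_conj_class_mul_card_centralizer x
  rw [card_centralizer_order4 h hx, h] at this
  omega

theorem card_orderOf_four_ge (h : Nat.card G = 168) : 42 ≤ Nat.card {g : G // orderOf g = 4} := by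
  obtain ⟨T⟩ : Nonempty (Sylow 2 G) := inferInstance
  obtain ⟨x, _, hx⟩ := exists_order4 h T
  have := card_class_le x
  rw [hx, card_class_order4 h hx] at this
  exact this

theorem pow_eight_of_orderOf_two {s : G} (hs : orderOf s = 2) : s ^ 8 = 1 := by
  have h2 : s ^ 2 = 1 := by rw [← hs]; exact pow_orderOf_eq_one s
  have : s ^ 8 = (s ^ 2) ^ 4 := by rw [← pow_mul]
  rw [this, h2, one_pow]

theorem ne_one_of_orderOf_two {s : G} (hs : orderOf s = 2) : s ≠ 1 := by
  rintro rfl
  rw [orderOf_one] at hs; omega

theorem card_class_involution_ge (h : Nat.card G = 168) {s : G} (hs : orderOf s = 2) :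
    21 ≤ Nat.card {g : G // IsConj s g} := by
  have h1 := card_conj_class_mul_card_centralizer s
  have h8 := card_centralizer_dvd_eight h s (pow_eight_of_orderOf_two hs) (ne_one_of_orderOf_two hs)
  have h8' : Nat.card (centralizer ({s} : Set G)) ≤ 8 := Nat.le_of_dvd (by norm_num) h8
  rw [h] at h1
  nlinarith

theorem card_orderOf_two (h : Nat.card G = 168) : Nat.card {g : G // orderOf g = 2} = 21 := by
  obtain ⟨s, hs⟩ := exists_prime_orderOf_dvd_card' (G := G) 2 (by rw [h]; norm_num)
  have h1 := card_class_le s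
  rw [hs] at h1
  have h2 := card_class_involution_ge h hs
  have h3 := card_orderOf_four_ge h
  have h4 := card_two_add_four h
  omega

theorem card_orderOf_four (h : Nat.card G = 168) : Nat.card {g : G // orderOf g = 4} = 42 := by
  have h4 := card_two_add_four h
  rw [card_orderOf_two h] at h4
  omega

theorem isConj_of_orderOf_two (h : Nat.card G = 168) (s t : G) (hs : orderOf s = 2)
    (ht : orderOf t = 2) : IsConj s t := by
  apply isConj_of_card_eq s (fun g => orderOf g = 2) (fun g hg => by
    rw [orderOf_eq_of_isConj hg, hs]) _ t ht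
  rw [card_orderOf_two h]
  exact card_class_involution_ge h hs

theorem isConj_of_orderOf_four (h : Nat.card G = 168) (s t : G) (hs : orderOf s = 4)
    (ht : orderOf t = 4) : IsConj s t := by
  apply isConj_of_card_eq s (fun g => orderOf g = 4) (fun g hg => by
    rw [orderOf_eq_of_isConj hg, hs]) _ t ht
  rw [card_orderOf_four h, card_class_order4 h hs]

theorem card_centralizer_involution (h : Nat.card G = 168) {s : G} (hs : orderOf s = 2) :
    Nat.card (centralizer ({s} : Set G)) = 8 := by
  have h1 := card_conj_class_mul_card_centralizer s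
  have h2 := card_class_le s
  rw [hs, card_orderOf_two h] at h2
  have h3 := card_class_involution_ge h hs
  have : Nat.card {g : G // IsConj s g} = 21 := le_antisymm h2 h3
  rw [this, h] at h1
  omega

/-- the centralizer of an element of prime order `p` generating a self-centralizing Sylow -/
theorem card_centralizer_of_sylow {p : ℕ} [hp : Fact p.Prime] (P : Sylow p G)
    (hP : Nat.card (P : Subgroup G) = p)
    (hC : ∀ Q : Sylow p G, centralizer ((Q : Subgroup G) : Set G) = Q) {x : G}
    (hx : orderOf x = p) : centralizer ({x} : Set G) = zpowers x := by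
  have hcard : Nat.card (zpowers x) = p := by rw [Nat.card_zpowers, hx]
  have h1 := hC (sylowOfCardPrime P hP (zpowers x) hcard)
  rw [coe_sylowOfCardPrime] at h1
  apply le_antisymm
  · rw [← h1]; exact centralizer_singleton_le_zpowers x
  · exact zpowers_le_centralizer_singleton x

theorem centralizer_order3 (h : Nat.card G = 168) {x : G} (hx : orderOf x = 3) :
    centralizer ({x} : Set G) = zpowers x := by
  obtain ⟨P⟩ : Nonempty (Sylow 3 G) := inferInstance
  exact card_centralizer_of_sylow P (card_sylow3_sub h P) (centralizer_sylow3 h) hx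

theorem centralizer_order7 (h : Nat.card G = 168) {x : G} (hx : orderOf x = 7) :
    centralizer ({x} : Set G) = zpowers x := by
  obtain ⟨P⟩ : Nonempty (Sylow 7 G) := inferInstance
  exact card_centralizer_of_sylow P (card_sylow7_sub h P) (centralizer_sylow7 h) hx

theorem card_class_order3 (h : Nat.card G = 168) {x : G} (hx : orderOf x = 3) :
    Nat.card {g : G // IsConj x g} = 56 := by
  have := card_conj_class_mul_card_centralizer x
  rw [centralizer_order3 h hx, Nat.card_zpowers, hx, h] at this
  omega

theorem card_class_order7 (h : Nat.card G = 168) {x : G} (hx : orderOf x = 7) :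
    Nat.card {g : G // IsConj x g} = 24 := by
  have := card_conj_class_mul_card_centralizer x
  rw [centralizer_order7 h hx, Nat.card_zpowers, hx, h] at this
  omega

theorem isConj_of_orderOf_three (h : Nat.card G = 168) (s t : G) (hs : orderOf s = 3)
    (ht : orderOf t = 3) : IsConj s t := by
  apply isConj_of_card_eq s (fun g => orderOf g = 3) (fun g hg => by
    rw [orderOf_eq_of_isConj hg, hs]) _ t ht
  rw [card_orderOf_three h, card_class_order3 h hs]

theorem not_isConj_inv (h : Nat.card G = 168) {x : G} (hx : orderOf x = 7) : ¬ IsConj x x⁻¹ := by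
  intro hc
  rw [isConj_iff] at hc
  obtain ⟨g, hg⟩ := hc
  have hcard : Nat.card (zpowers x) = 7 := by rw [Nat.card_zpowers, hx]
  obtain ⟨P0⟩ : Nonempty (Sylow 7 G) := inferInstance
  set P : Sylow 7 G := sylowOfCardPrime P0 (card_sylow7_sub h P0) (zpowers x) hcard with hP
  have hPc : (P : Subgroup G) = zpowers x := rfl
  have hxx : x * x ≠ 1 := by
    intro h1
    have : orderOf x ∣ 2 := orderOf_dvd_of_pow_eq_one (by rw [pow_two]; exact h1)
    rw [hx] at this; norm_num at this
  have hgN : g ∈ normalizer ((P : Subgroup G) : Set G) := by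
    rw [hPc, Subgroup.mem_normalizer_iff]
    have key : ∀ y ∈ zpowers x, g * y * g⁻¹ ∈ zpowers x := by
      intro y hy
      obtain ⟨k, rfl⟩ := Subgroup.mem_zpowers_iff.mp hy
      have : g * x ^ k * g⁻¹ = (g * x * g⁻¹) ^ k := by
        rw [← MulAut.conj_apply, map_zpow, MulAut.conj_apply]
      rw [this, hg]
      exact Subgroup.zpow_mem _ (Subgroup.inv_mem _ (mem_zpowers x)) k
    have key' : ∀ y ∈ zpowers x, g⁻¹ * y * g ∈ zpowers x := by
      intro y hy
      obtain ⟨k, rfl⟩ := Subgroup.mem_zpowers_iff.mp hy
      have hg' : g⁻¹ * x * g = x⁻¹ := by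
        have : x = g⁻¹ * x⁻¹ * g := by rw [← hg]; group
        calc g⁻¹ * x * g = (g⁻¹ * x⁻¹ * g)⁻¹ := by group
          _ = x⁻¹ := by rw [← this]
      have : g⁻¹ * x ^ k * g = (g⁻¹ * x * g) ^ k := by
        have := map_zpow (MulAut.conj g⁻¹) x k
        simp only [MulAut.conj_apply, inv_inv] at this
        exact this
      rw [this, hg']
      exact Subgroup.zpow_mem _ (Subgroup.inv_mem _ (mem_zpowers x)) k
    intro y
    constructor
    · intro hy; exact key y hy
    · intro hy
      have := key' _ hy
      have e : g⁻¹ * (g * y * g⁻¹) * g = y := by group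
      rwa [e] at this
  by_cases hgP : g ∈ (P : Subgroup G)
  · rw [hPc] at hgP
    obtain ⟨k, rfl⟩ := Subgroup.mem_zpowers_iff.mp hgP
    have hcomm : Commute (x ^ k) x := (Commute.refl x).zpow_left k
    have : x ^ k * x * (x ^ k)⁻¹ = x := by
      rw [hcomm.eq, mul_assoc, mul_inv_cancel, mul_one]
    rw [this] at hg
    apply hxx
    calc x * x = x * x⁻¹ := by rw [← hg]
      _ = 1 := mul_inv_cancel x
  · have h3 := orderOf_eq_three_of_mem_normalizer h P g hgN hgP
    have hg3 : g ^ 3 = 1 := by rw [← h3]; exact pow_orderOf_eq_one g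
    have hinv : g * x⁻¹ * g⁻¹ = x := by
      calc g * x⁻¹ * g⁻¹ = (g * x * g⁻¹)⁻¹ := by group
        _ = x := by rw [hg, inv_inv]
    have e3 : g ^ 3 * x * (g ^ 3)⁻¹ = x⁻¹ := by
      have hggg : g ^ 3 = g * g * g := by rw [pow_succ, pow_two]
      calc g ^ 3 * x * (g ^ 3)⁻¹ = g * (g * (g * x * g⁻¹) * g⁻¹) * g⁻¹ := by rw [hggg]; group
        _ = x⁻¹ := by rw [hg, hinv, hg]
    rw [hg3] at e3
    apply hxx
    have : x = x⁻¹ := by simpa using e3
    calc x * x = x * x⁻¹ := by rw [← this]
      _ = 1 := mul_inv_cancel x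

end Cfsg.Agent.Lib.Helper3.Ord168
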