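import Mathlib
import Cfsg.Agent.Lib.Helper3.Ord168_6
import Cfsg.Agent.Lib.Helper3.KGen2
import Cfsg.Agent.Lib.Helper6.Conj
import Cfsg.Agent.Lib.Helper1.DihedralIso

set_option autoImplicit false

namespace Cfsg.Agent.Lib.Helper3.Ord168

open Subgroup Cfsg.Agent.Lib.Helper3 Cfsg.Agent.Lib.Helper3.NS Cfsg.Agent.Lib.Helper1.SylowSimple
open Cfsg.Agent.Lib.Helper6

variable {G : Type*} [Group G] [Finite G]

omit [Finite G] in
theorem card_map_conj (U : Subgroup G) (g : G) :
    Nat.card (U.map (MulAut.conj g).toMonoidHom) = Nat.card U :=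
  (Nat.card_congr (U.equivMapOfInjective _ (MulAut.conj g).injective).toEquiv).symm

/-- Burnside: subgroups normal in a Sylow subgroup which are conjugate in `G` are conjugate in the
normalizer of the Sylow subgroup -/
theorem exists_normalizer_conj {p : ℕ} [Fact p.Prime] (T : Sylow p G) (U W : Subgroup G)
    (hU : (T : Subgroup G) ≤ normalizer (U : Set G)) (hW : (T : Subgroup G) ≤ normalizer (W : Set G))
    (g : G) (hg : U.map (MulAut.conj g).toMonoidHom = W) :
    ∃ n ∈ normalizer ((T : Subgroup G) : Set G), U.map (MulAut.conj n).toMonoidHom = W := by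
  set M := normalizer (W : Set G) with hM
  set Q := (T : Subgroup G).map (MulAut.conj g).toMonoidHom with hQ
  have hQM : Q ≤ M := by
    calc Q ≤ (normalizer (U : Set G)).map (MulAut.conj g).toMonoidHom := Subgroup.map_mono hU
      _ ≤ normalizer ((U.map (MulAut.conj g).toMonoidHom : Subgroup G) : Set G) :=
        KGen.map_conj_normalizer_le U g
      _ = M := by rw [hg]
  have hQp : IsPGroup p Q := T.2.map _
  obtain ⟨m, hmM, hm⟩ := KGen.exists_conj_le_sylow M (T.subtype hW) hQM hQp
  have hT' : ((T.subtype hW : Sylow p M) : Subgroup M).map M.subtype = (T : Subgroup G) := by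
    rw [Sylow.coe_subtype]
    exact Subgroup.map_subgroupOf_eq_of_le hW
  rw [hT', hQ, map_conj_map_conj] at hm
  have heq : (T : Subgroup G).map (MulAut.conj (m * g)).toMonoidHom = (T : Subgroup G) := by
    apply Subgroup.eq_of_le_of_card_ge hm
    rw [card_map_conj]
  refine ⟨m * g, mem_normalizer_of_map_conj_eq_self heq, ?_⟩
  rw [← map_conj_map_conj, hg]
  exact map_conj_eq_self_of_mem_normalizer hmM

omit [Finite G] in
theorem map_conj_zpowers (x g : G) :
    (zpowers x).map (MulAut.conj g).toMonoidHom = zpowers (g * x * g⁻¹) := by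
  rw [MonoidHom.map_zpowers]
  rfl

variable [IsSimpleGroup G]

theorem zpowers_le_normalizer (h : Nat.card G = 168) (T : Sylow 2 G) {x : G}
    (hxT : x ∈ (T : Subgroup G)) (hx : orderOf x = 4) :
    (T : Subgroup G) ≤ normalizer ((zpowers x : Subgroup G) : Set G) := by
  intro t ht
  rw [mem_normalizer_iff_map_conj_eq_self]
  apply Subgroup.eq_of_le_of_card_ge
  · rw [map_conj_zpowers, zpowers_le]
    exact conj_mem_zpowers h T hxT hx ht
  · rw [card_map_conj]

/-- the elements of order 4 of a Sylow 2-subgroup lie in one cyclic subgroup -/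
theorem mem_zpowers_of_order4 (h : Nat.card G = 168) (T : Sylow 2 G) {x w : G}
    (hxT : x ∈ (T : Subgroup G)) (hx : orderOf x = 4) (hwT : w ∈ (T : Subgroup G))
    (hw : orderOf w = 4) : w ∈ zpowers x := by
  have hc := isConj_of_orderOf_four h x w hx hw
  rw [isConj_iff] at hc
  obtain ⟨g, hg⟩ := hc
  have hmap : (zpowers x).map (MulAut.conj g).toMonoidHom = zpowers w := by
    rw [map_conj_zpowers, hg]
  obtain ⟨n, hn, hnmap⟩ := exists_normalizer_conj T (zpowers x) (zpowers w)
    (zpowers_le_normalizer h T hxT hx) (zpowers_le_normalizer h T hwT hw) g hmap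
  rw [normalizer_sylow2 h T] at hn
  have := map_conj_eq_self_of_mem_normalizer (zpowers_le_normalizer h T hxT hx hn)
  rw [hnmap] at this
  rw [← this]; exact mem_zpowers w

/-- elements of a Sylow 2-subgroup outside the cyclic subgroup of order 4 are involutions -/
theorem orderOf_eq_two_of_not_mem (h : Nat.card G = 168) (T : Sylow 2 G) {x y : G}
    (hxT : x ∈ (T : Subgroup G)) (hx : orderOf x = 4) (hyT : y ∈ (T : Subgroup G))
    (hy : y ∉ zpowers x) : orderOf y = 2 := by
  rcases orderOf_mem_sylow2 h T hyT with h' | h' | h'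
  · exfalso
    rw [orderOf_eq_one_iff.mp h'] at hy
    exact hy (Subgroup.one_mem _)
  · exact h'
  · exact absurd (mem_zpowers_of_order4 h T hxT hx hyT h') hy

theorem exists_not_mem_zpowers (h : Nat.card G = 168) (T : Sylow 2 G) {x : G}
    (hxT : x ∈ (T : Subgroup G)) (hx : orderOf x = 4) :
    ∃ y ∈ (T : Subgroup G), y ∉ zpowers x := by
  by_contra hcon
  push Not at hcon
  have hle : (T : Subgroup G) ≤ zpowers x := hcon
  have := Subgroup.card_le_of_le hle
  rw [card_sylow2_sub h, Nat.card_zpowers, hx] at this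
  omega

theorem sylow2_dihedral (h : Nat.card G = 168) (T : Sylow 2 G) :
    Nonempty (↥(T : Subgroup G) ≃* DihedralGroup 4) := by
  obtain ⟨x, hxT, hx⟩ := exists_order4 h T
  obtain ⟨y, hyT, hy⟩ := exists_not_mem_zpowers h T hxT hx
  have hy2 := orderOf_eq_two_of_not_mem h T hxT hx hyT hy
  have hyx : y * x ∉ zpowers x := by
    intro hh
    apply hy
    have : y = (y * x) * x⁻¹ := by group
    rw [this]
    exact Subgroup.mul_mem _ hh (Subgroup.inv_mem _ (mem_zpowers x))
  have hyx2 := orderOf_eq_two_of_not_mem h T hxT hx (Subgroup.mul_mem _ hyT hxT) hyx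
  have hyy : y * y = 1 := by rw [← pow_two, ← hy2]; exact pow_orderOf_eq_one y
  have hprod : y * (y * x) = x := by rw [← mul_assoc, hyy, one_mul]
  have hn : orderOf (y * (y * x)) ≠ 0 := by rw [hprod, hx]; norm_num
  obtain ⟨e⟩ := Cfsg.Agent.Lib.Helper1.DihedralIso.closure_equiv_dihedral y (y * x) hy2 hyx2 hn
  rw [hprod, hx] at e
  have hcl : Subgroup.closure ({y, y * x} : Set G) = (T : Subgroup G) := by
    apply Subgroup.eq_of_le_of_card_ge
    · rw [Subgroup.closure_le]
      intro z hz
      rcases hz with rfl | rfl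
      · exact hyT
      · exact Subgroup.mul_mem _ hyT hxT
    · rw [Nat.card_congr e.toEquiv, DihedralGroup.nat_card, card_sylow2_sub h]
  exact ⟨(MulEquiv.subgroupCongr hcl.symm).trans e⟩

end Cfsg.Agent.Lib.Helper3.Ord168
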