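import Mathlib
import Cfsg.Agent.Lib.Helper3.Ord168_7
import Cfsg.Agent.Lib.Helper3.Di12
import Cfsg.Agent.S1012

set_option autoImplicit false

namespace Cfsg.Agent.Lib.Helper3.Ord168

open Subgroup Cfsg.Agent.Lib.Helper3 Cfsg.Agent.Lib.Helper3.NS Cfsg.Agent.Lib.Helper1.SylowSimple
open Cfsg.Agent.Lib.Helper6

variable {G : Type*} [Group G]

theorem le_normalizer_of_relIndex_two {A B : Subgroup G} (hBA : B ≤ A) (h2 : B.relIndex A = 2) :
    A ≤ normalizer (B : Set G) := by
  have : (B.subgroupOf A).Normal := Subgroup.normal_of_index_eq_two h2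
  exact (Subgroup.normal_subgroupOf_iff_le_normalizer hBA).mp this

theorem le_normalizer_of_card [Finite G] {A B : Subgroup G} (hBA : B ≤ A) (hA : Nat.card A = 8)
    (hB : Nat.card B = 4) : A ≤ normalizer (B : Set G) := by
  apply le_normalizer_of_relIndex_two hBA
  have h1 := Subgroup.card_mul_index (B.subgroupOf A)
  have h3 : Nat.card (B.subgroupOf A) = Nat.card B :=
    Nat.card_congr (Subgroup.subgroupOfEquivOfLe hBA).toEquiv
  rw [h3, hA, hB] at h1
  unfold Subgroup.relIndex
  omega

section di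
variable {S : Subgroup G} {m : ℕ} (e : ↥S ≃* DihedralGroup m)

theorem diKlein_add_half (h : ZMod m) (hh2 : 2 * h = 0) (i : ZMod m) :
    diKlein e h hh2 (i + h) = diKlein e h hh2 i := by
  have hneg : -h = h := zmod_neg_of_two_mul h hh2
  ext g
  rw [mem_diKlein, mem_diKlein, diR_mul_diS, diR_mul_diS]
  have e1 : i + h - h = i := by ring
  have e2 : i - h = i + h := by rw [sub_eq_add_neg, hneg]
  rw [e1, e2]
  tauto

end di

variable [Finite G] [IsSimpleGroup G]

theorem exists_sylow2_eq (h : Nat.card G = 168) (H : Subgroup G) (hH : Nat.card H = 8) :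
    ∃ T : Sylow 2 G, (T : Subgroup G) = H := by
  have hcard : Nat.card H = 2 ^ (Nat.card G).factorization 2 := by
    rw [hH, h]
    have : (168 : ℕ).factorization 2 = 3 := by
      have h168 : (168 : ℕ) = 2 ^ 3 * 21 := by norm_num
      rw [h168, Nat.factorization_mul (by norm_num) (by norm_num), Nat.Prime.factorization_pow Nat.prime_two,
        Finsupp.add_apply, Nat.factorization_eq_zero_of_not_dvd (by norm_num : ¬ 2 ∣ 21)]
      simp
    rw [this]; norm_num
  exact ⟨Sylow.ofCard H hcard, rfl⟩

theorem klein_le_sylow (U : Subgroup G) (hU : IsKleinFour U) :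
    ∃ T : Sylow 2 G, U ≤ (T : Subgroup G) := by
  have hUp : IsPGroup 2 U := IsPGroup.of_card (n := 2) (by rw [hU.card_four]; norm_num)
  exact hUp.exists_le_sylow

theorem sylow_le_normalizer_klein (h : Nat.card G = 168) (T : Sylow 2 G) (U : Subgroup G)
    (hUT : U ≤ (T : Subgroup G)) (hU : IsKleinFour U) :
    (T : Subgroup G) ≤ normalizer (U : Set G) :=
  le_normalizer_of_card hUT (card_sylow2_sub h T) hU.card_four

/-- distinct four-subgroups of a Sylow 2-subgroup are not conjugate -/
theorem klein_not_conj (h : Nat.card G = 168) (T : Sylow 2 G) (U W : Subgroup G)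
    (hUT : U ≤ (T : Subgroup G)) (hWT : W ≤ (T : Subgroup G)) (hU : IsKleinFour U)
    (hW : IsKleinFour W) (hne : U ≠ W) (g : G) : U.map (MulAut.conj g).toMonoidHom ≠ W := by
  intro hg
  obtain ⟨n, hn, hnmap⟩ := exists_normalizer_conj T U W (sylow_le_normalizer_klein h T U hUT hU)
    (sylow_le_normalizer_klein h T W hWT hW) g hg
  rw [normalizer_sylow2 h T] at hn
  have := map_conj_eq_self_of_mem_normalizer (sylow_le_normalizer_klein h T U hUT hU hn)
  rw [hnmap] at this
  exact hne this.symm

theorem card_klein_le_sylow (h : Nat.card G = 168) (T : Sylow 2 G) :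
    Nat.card {U : Subgroup G // U ≤ (T : Subgroup G) ∧ IsKleinFour ↥U} = 2 := by
  obtain ⟨e⟩ := sylow2_dihedral h T
  have hh0 : (2 : ZMod 4) ≠ 0 := by decide
  have hh2 : (2 : ZMod 4) * 2 = 0 := by decide
  have hK : ∀ i, diKlein e 2 hh2 i ≤ (T : Subgroup G) ∧ IsKleinFour ↥(diKlein e 2 hh2 i) :=
    fun i => ⟨diKlein_le e 2 hh2 i, isKleinFour_diKlein e 2 hh0 hh2 i⟩
  rw [Nat.card_eq_two_iff]
  refine ⟨⟨diKlein e 2 hh2 0, hK 0⟩, ⟨diKlein e 2 hh2 1, hK 1⟩, ?_, ?_⟩
  · intro heq
    have heq' : diKlein e 2 hh2 0 = diKlein e 2 hh2 1 := congrArg Subtype.val heq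
    have hmem : diS e (1 : ZMod 4) ∈ diKlein e 2 hh2 1 := diS_mem_diKlein e 2 hh2 1
    rw [← heq', mem_diKlein, diR_mul_diS] at hmem
    rcases hmem with h1 | h1 | h1 | h1
    · exact diS_ne_one e _ h1
    · exact diR_ne_diS e _ _ h1.symm
    · rw [diS_inj] at h1; exact absurd h1 (by decide)
    · rw [diS_inj] at h1; exact absurd h1 (by decide)
  · rw [Set.eq_univ_iff_forall]
    rintro ⟨U, hUT, hU⟩
    obtain ⟨i, hi⟩ := di_klein_eq e 2 hh0 hh2 U hUT hU
    have h2 : diKlein e 2 hh2 2 = diKlein e 2 hh2 0 := by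
      have := diKlein_add_half e 2 hh2 0
      rwa [zero_add] at this
    have h3 : diKlein e 2 hh2 3 = diKlein e 2 hh2 1 := by
      have := diKlein_add_half e 2 hh2 1
      have e3 : (1 : ZMod 4) + 2 = 3 := by decide
      rwa [e3] at this
    simp only [Set.mem_insert_iff, Set.mem_singleton_iff, Subtype.mk.injEq]
    fin_cases i
    · left; exact hi
    · right; exact hi
    · left; rw [hi]; exact h2
    · right; rw [hi]; exact h3

theorem normalizer_klein_ne_top (h : Nat.card G = 168) (U : Subgroup G) (hU : IsKleinFour U) :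
    normalizer (U : Set G) ≠ ⊤ := by
  intro htop
  have hn : U.Normal := Subgroup.normalizer_eq_top_iff.mp htop
  have hc := hU.card_four
  rcases hn.eq_bot_or_eq_top with h' | h'
  · rw [h', Subgroup.card_bot] at hc; omega
  · rw [h', Subgroup.card_top, h] at hc; omega

theorem card_normalizer_klein (h : Nat.card G = 168) (U : Subgroup G) (hU : IsKleinFour U) :
    Nat.card (normalizer (U : Set G)) = 24 := by
  obtain ⟨T, hUT⟩ := klein_le_sylow U hU
  have hTN := sylow_le_normalizer_klein h T U hUT hU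
  have h8 : 8 ∣ Nat.card (normalizer (U : Set G)) := by
    have := Subgroup.card_dvd_of_le hTN
    rwa [card_sylow2_sub h] at this
  have hle := card_le h _ (normalizer_klein_ne_top h U hU)
  have hdvd : Nat.card (normalizer (U : Set G)) ∣ 168 := by
    have := Subgroup.card_subgroup_dvd_card (normalizer (U : Set G))
    rwa [h] at this
  obtain ⟨k, hk⟩ := h8
  have hk3 : k ≤ 3 := by omega
  have hk0 : k ≠ 0 := by
    rintro rfl
    rw [mul_zero] at hk
    have := Nat.card_pos (α := normalizer (U : Set G))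
    omega
  have hk2 : k ≠ 2 := by
    rintro rfl
    rw [hk] at hdvd; norm_num at hdvd
  have hk1 : k ≠ 1 := by
    rintro rfl
    -- the normalizer is `T`
    have hNT : normalizer (U : Set G) = (T : Subgroup G) := by
      symm
      apply Subgroup.eq_of_le_of_card_ge hTN
      rw [hk, card_sylow2_sub h]
    obtain ⟨e⟩ := sylow2_dihedral h T
    have hh0 : (2 : ZMod 4) ≠ 0 := by decide
    have hh2 : (2 : ZMod 4) * 2 = 0 := by decide
    obtain ⟨i, hi⟩ := di_klein_eq e 2 hh0 hh2 U hUT hU
    have hsU : diS e i ∈ U := by rw [hi]; exact diS_mem_diKlein e 2 hh2 i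
    have hs2 : orderOf (diS e i) = 2 := orderOf_diS e i
    obtain ⟨T', hT'⟩ := exists_sylow2_eq h _ (card_centralizer_involution h hs2)
    have hUT' : U ≤ (T' : Subgroup G) := by
      rw [hT']
      intro u hu
      rw [Subgroup.mem_centralizer_singleton_iff]
      exact Cfsg.Agent.Lib.Helper1.klein_comm hU hu hsU
    have hT'N := sylow_le_normalizer_klein h T' U hUT' hU
    rw [hNT] at hT'N
    have hTT' : (T' : Subgroup G) = (T : Subgroup G) := by
      apply Subgroup.eq_of_le_of_card_ge hT'N
      rw [card_sylow2_sub h, card_sylow2_sub h]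
    -- so the reflection is central in `T`
    have hr : diR e (1 : ZMod 4) ∈ centralizer ({diS e i} : Set G) := by
      rw [← hT', hTT']; exact diR_mem e 1
    rw [Subgroup.mem_centralizer_singleton_iff, diR_mul_diS, diS_mul_diR, diS_inj] at hr
    revert hr
    fin_cases i <;> decide
  have : k = 3 := by omega
  rw [hk, this]

theorem normalizer_klein_equiv (h : Nat.card G = 168) (U : Subgroup G) (hU : IsKleinFour U) :
    Nonempty (↥(normalizer (U : Set G)) ≃* Equiv.Perm (Fin 4)) := by
  apply Cfsg.Agent.S1012.result (card_normalizer_klein h U hU)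
  intro g hg
  rw [← Subgroup.orderOf_coe] at hg
  rcases orderOf_mem h (g : G) with h' | h' | h' | h' | h' <;> omega

end Cfsg.Agent.Lib.Helper3.Ord168
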