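import Mathlib
import Cfsg.Agent.Lib.Helper3.Ord168_8

set_option autoImplicit false

namespace Cfsg.Agent.Lib.Helper3.Ord168

open Subgroup Cfsg.Agent.Lib.Helper3 Cfsg.Agent.Lib.Helper3.NS Cfsg.Agent.Lib.Helper1.SylowSimple
open Cfsg.Agent.Lib.Helper6

variable {G : Type*} [Group G]

theorem isKleinFour_of_mulEquiv {A B : Type*} [Group A] [Group B] (e : A ≃* B) (hA : IsKleinFour A) :
    IsKleinFour B where
  card_four := by rw [← Nat.card_congr e.toEquiv]; exact hA.card_four
  exponent_two := by rw [← Monoid.exponent_eq_of_mulEquiv e]; exact hA.exponent_two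

theorem isKleinFour_map_conj (U : Subgroup G) (hU : IsKleinFour U) (g : G) :
    IsKleinFour (U.map (MulAut.conj g).toMonoidHom) :=
  isKleinFour_of_mulEquiv (U.equivMapOfInjective _ (MulAut.conj g).injective) hU

theorem normalizer_map_conj (U : Subgroup G) (g : G) :
    normalizer ((U.map (MulAut.conj g).toMonoidHom : Subgroup G) : Set G) =
      (normalizer (U : Set G)).map (MulAut.conj g).toMonoidHom := by
  apply le_antisymm
  · have h1 := KGen.map_conj_normalizer_le (U.map (MulAut.conj g).toMonoidHom) g⁻¹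
    rw [map_conj_map_conj, inv_mul_cancel, map_conj_one] at h1
    rw [map_conj_le_iff] at h1
    rw [inv_inv] at h1
    exact h1
  · exact KGen.map_conj_normalizer_le U g

theorem map_conj_inv_map_conj (U : Subgroup G) (g : G) :
    (U.map (MulAut.conj g⁻¹).toMonoidHom).map (MulAut.conj g).toMonoidHom = U := by
  rw [map_conj_map_conj, mul_inv_cancel, map_conj_one]

variable [Finite G]

theorem relIndex_mul_card' {H L : Subgroup G} (hHL : H ≤ L) :
    H.relIndex L * Nat.card H = Nat.card L := by
  have h1 := Subgroup.card_mul_index (H.subgroupOf L)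
  have h3 : Nat.card (H.subgroupOf L) = Nat.card H :=
    Nat.card_congr (Subgroup.subgroupOfEquivOfLe hHL).toEquiv
  rw [h3] at h1
  unfold Subgroup.relIndex
  rw [mul_comm]; exact h1

/-- if `P` is the only Sylow subgroup of `G` inside `M` then `M` normalizes it -/
theorem le_normalizer_of_unique_sylow {p : ℕ} [Fact p.Prime] (P : Sylow p G) (M : Subgroup G)
    (hPM : (P : Subgroup G) ≤ M) (huniq : ∀ R : Sylow p G, (R : Subgroup G) ≤ M → R = P) :
    M ≤ normalizer ((P : Subgroup G) : Set G) := by
  intro m hm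
  refine Sylow.smul_eq_iff_mem_normalizer.mp (huniq (m • P) ?_)
  rw [sylow_smul_eq_map_conj]
  rintro _ ⟨y, hy, rfl⟩
  show m * y * m⁻¹ ∈ M
  exact M.mul_mem (M.mul_mem hm (hPM hy)) (M.inv_mem hm)

theorem eq_of_isCoatom_of_le {M L : Subgroup G} (hM : IsCoatom M) (hL : L ≠ ⊤) (hML : M ≤ L) :
    M = L := by
  by_contra hne
  exact hL (hM.2 L (lt_of_le_of_ne hML hne))

variable [IsSimpleGroup G]

theorem isCoatom_of_card_24 (h : Nat.card G = 168) (M : Subgroup G) (hM : Nat.card M = 24) :
    IsCoatom M := by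
  refine ⟨ne_top_of_card_lt h M (by rw [hM]; norm_num), ?_⟩
  intro b hb
  by_contra hbt
  have h1 := card_le h b hbt
  have h2 := Subgroup.card_dvd_of_le hb.le
  rw [hM] at h2
  obtain ⟨k, hk⟩ := h2
  have hk1 : k = 1 := by
    have := Nat.card_pos (α := b)
    rcases k with _ | _ | k <;> omega
  have : M = b := by
    apply Subgroup.eq_of_le_of_card_ge hb.le
    rw [hM, hk, hk1]
  exact hb.ne this

theorem isCoatom_of_card_21 (h : Nat.card G = 168) (M : Subgroup G) (hM : Nat.card M = 21) :
    IsCoatom M := by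
  refine ⟨ne_top_of_card_lt h M (by rw [hM]; norm_num), ?_⟩
  intro b hb
  by_contra hbt
  have h1 := card_le h b hbt
  have h2 := Subgroup.card_dvd_of_le hb.le
  rw [hM] at h2
  obtain ⟨k, hk⟩ := h2
  have hk1 : k = 1 := by
    have := Nat.card_pos (α := b)
    rcases k with _ | _ | k <;> omega
  have : M = b := by
    apply Subgroup.eq_of_le_of_card_ge hb.le
    rw [hM, hk, hk1]
  exact hb.ne this

/-- a subgroup of order 4 of a Sylow 2-subgroup which is not a four-group has its normalizer
inside the Sylow subgroup -/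
theorem normalizer_le_of_not_klein (h : Nat.card G = 168) (T : Sylow 2 G) (D : Subgroup G)
    (hDT : D ≤ (T : Subgroup G)) (hD : Nat.card D = 4) (hnk : ¬ IsKleinFour D) :
    normalizer (D : Set G) ≤ (T : Subgroup G) := by
  have hex : ∃ v ∈ D, v * v ≠ 1 := by
    by_contra hcon
    push Not at hcon
    apply hnk
    apply isKleinFour_of_card_of_sq hD
    intro t
    apply Subtype.ext
    exact hcon t t.2
  obtain ⟨v, hvD, hv⟩ := hex
  have hv4 : orderOf v = 4 := by
    rcases orderOf_mem_sylow2 h T (hDT hvD) with h' | h' | h'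
    · exfalso; apply hv
      rw [orderOf_eq_one_iff.mp h', one_mul]
    · exfalso; apply hv
      rw [← pow_two, ← h']; exact pow_orderOf_eq_one v
    · exact h'
  have hDz : zpowers v = D := by
    apply Subgroup.eq_of_le_of_card_ge
    · rw [zpowers_le]; exact hvD
    · rw [Nat.card_zpowers, hv4, hD]
  intro n hn
  rw [← centralizer_sq h T (hDT hvD) hv4, Subgroup.mem_centralizer_singleton_iff]
  apply commute_sq_of_conj_mem hv4
  rw [hDz]
  exact (Subgroup.mem_normalizer_iff.mp hn v).mp hvD

/-- four-groups with the same normalizer are equal -/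
theorem klein_eq_of_normalizer_eq (h : Nat.card G = 168) (U W : Subgroup G) (hU : IsKleinFour U)
    (hW : IsKleinFour W) (hN : normalizer (U : Set G) = normalizer (W : Set G)) : U = W := by
  have hUW : U ≤ normalizer (W : Set G) := by rw [← hN]; exact le_normalizer
  have hUp : IsPGroup 2 U := IsPGroup.of_card (n := 2) (by rw [hU.card_four]; norm_num)
  have hWp : IsPGroup 2 W := IsPGroup.of_card (n := 2) (by rw [hW.card_four]; norm_num)
  have hsup : IsPGroup 2 (U ⊔ W : Subgroup G) := IsPGroup.to_sup_of_normal_right' hUp hWp hUW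
  obtain ⟨T, hT⟩ := hsup.exists_le_sylow
  have hdvd : Nat.card (U ⊔ W : Subgroup G) ∣ 8 := by
    have := Subgroup.card_dvd_of_le hT
    rwa [card_sylow2_sub h] at this
  have h4 : 4 ∣ Nat.card (U ⊔ W : Subgroup G) := by
    have := Subgroup.card_dvd_of_le (le_sup_left : U ≤ U ⊔ W)
    rwa [hU.card_four] at this
  have hmem : Nat.card (U ⊔ W : Subgroup G) ∈ Nat.divisors 8 := by
    rw [Nat.mem_divisors]; exact ⟨hdvd, by norm_num⟩
  have hset : Nat.divisors 8 = {1, 2, 4, 8} := by decide
  rw [hset] at hmem
  simp only [Finset.mem_insert, Finset.mem_singleton] at hmem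
  rcases hmem with h' | h' | h' | h'
  · rw [h'] at h4; norm_num at h4
  · rw [h'] at h4; norm_num at h4
  · have e1 : U = U ⊔ W := Subgroup.eq_of_le_of_card_ge le_sup_left (by rw [h', hU.card_four])
    have e2 : W = U ⊔ W := Subgroup.eq_of_le_of_card_ge le_sup_right (by rw [h', hW.card_four])
    rw [e1]; exact e2.symm
  · exfalso
    have e1 : (U ⊔ W : Subgroup G) = (T : Subgroup G) :=
      Subgroup.eq_of_le_of_card_ge hT (by rw [h', card_sylow2_sub h])
    have hle : normalizer (U : Set G) ≤ normalizer ((T : Subgroup G) : Set G) := by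
      intro n hn
      have hn' : n ∈ normalizer (W : Set G) := by rw [← hN]; exact hn
      rw [mem_normalizer_iff_map_conj_eq_self] at hn hn' ⊢
      rw [← e1, Subgroup.map_sup, hn, hn']
    rw [normalizer_sylow2 h T] at hle
    have := Subgroup.card_le_of_le hle
    rw [card_normalizer_klein h U hU, card_sylow2_sub h] at this
    omega

end Cfsg.Agent.Lib.Helper3.Ord168
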