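import Mathlib
import Cfsg.Agent.Lib.Helper3.Ord168_9

set_option autoImplicit false

namespace Cfsg.Agent.Lib.Helper3.Ord168

open Subgroup Cfsg.Agent.Lib.Helper3 Cfsg.Agent.Lib.Helper3.NS Cfsg.Agent.Lib.Helper1.SylowSimple
open Cfsg.Agent.Lib.Helper6

variable {G : Type*} [Group G] [Finite G] [IsSimpleGroup G]

/-- a subgroup of order 24 is the normalizer of a four-group -/
theorem exists_klein_normalizer_eq (h : Nat.card G = 168) (M : Subgroup G) (hM : Nat.card M = 24) :
    ∃ U : Subgroup G, IsKleinFour U ∧ M = normalizer (U : Set G) := by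
  obtain ⟨Q⟩ : Nonempty (Sylow 2 ↥M) := inferInstance
  have hQ : Nat.card (Q : Subgroup ↥M) = 8 := by
    have := sylow_card_eq_of_card_eq Q 3 3 (by rw [hM]; norm_num) (by norm_num)
    simpa using this
  have hT1card : Nat.card ((Q : Subgroup ↥M).map M.subtype) = 8 := by
    rw [Subgroup.card_map_of_injective M.subtype_injective, hQ]
  have hT1M : (Q : Subgroup ↥M).map M.subtype ≤ M := Subgroup.map_subtype_le _
  obtain ⟨T1, hT1⟩ := exists_sylow2_eq h _ hT1card
  have hT1M' : (T1 : Subgroup G) ≤ M := hT1 ▸ hT1M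
  obtain ⟨m, hmM, hmT⟩ : ∃ m ∈ M, m ∉ (T1 : Subgroup G) := by
    by_contra hcon
    push Not at hcon
    have := Subgroup.card_le_of_le (show M ≤ (T1 : Subgroup G) from hcon)
    rw [hM, card_sylow2_sub h] at this
    omega
  set T2 : Sylow 2 G := m • T1 with hT2
  have hT2M : (T2 : Subgroup G) ≤ M := by
    rw [hT2, sylow_smul_eq_map_conj]
    rintro _ ⟨y, hy, rfl⟩
    exact M.mul_mem (M.mul_mem hmM (hT1M' hy)) (M.inv_mem hmM)
  have hne : T2 ≠ T1 := by
    intro heq
    have : m ∈ normalizer ((T1 : Subgroup G) : Set G) := Sylow.smul_eq_iff_mem_normalizer.mp heq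
    rw [normalizer_sylow2 h T1] at this
    exact hmT this
  have hne' : ¬ (T2 : Subgroup G) ≤ (T1 : Subgroup G) := by
    intro hle
    have : (T2 : Subgroup G) = T1 :=
      Subgroup.eq_of_le_of_card_ge hle (by rw [card_sylow2_sub h, card_sylow2_sub h])
    exact hne (Sylow.ext this)
  set D := (T1 : Subgroup G) ⊓ (T2 : Subgroup G) with hD
  have hr1 : (T1 : Subgroup G).relIndex M = 3 := by
    have := relIndex_mul_card' hT1M'
    rw [card_sylow2_sub h, hM] at this
    omega
  have hr2 : (T2 : Subgroup G).relIndex M = 3 := by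
    have := relIndex_mul_card' hT2M
    rw [card_sylow2_sub h, hM] at this
    omega
  have hle : D.relIndex M ≤ (T1 : Subgroup G).relIndex M * (T2 : Subgroup G).relIndex M :=
    Subgroup.relIndex_inf_le (H := (T1 : Subgroup G)) (K := (T2 : Subgroup G)) (L := M)
  rw [hr1, hr2] at hle
  have hDM : D ≤ M := inf_le_left.trans hT1M'
  have hDcard := relIndex_mul_card' hDM
  rw [hM] at hDcard
  have hDdvd : Nat.card D ∣ 8 := by
    have := Subgroup.card_dvd_of_le (inf_le_left : D ≤ (T1 : Subgroup G))
    rwa [card_sylow2_sub h] at this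
  have hD4 : Nat.card D = 4 := by
    have hmem : Nat.card D ∈ Nat.divisors 8 := by
      rw [Nat.mem_divisors]; exact ⟨hDdvd, by norm_num⟩
    have hset : Nat.divisors 8 = {1, 2, 4, 8} := by decide
    rw [hset] at hmem
    simp only [Finset.mem_insert, Finset.mem_singleton] at hmem
    rcases hmem with h' | h' | h' | h'
    · exfalso; rw [h'] at hDcard; omega
    · exfalso; rw [h'] at hDcard; omega
    · exact h'
    · exfalso
      have e1 : D = (T1 : Subgroup G) :=
        Subgroup.eq_of_le_of_card_ge inf_le_left (by rw [h', card_sylow2_sub h])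
      have hle12 : (T1 : Subgroup G) ≤ (T2 : Subgroup G) := by rw [← e1]; exact inf_le_right
      have e2 : (T1 : Subgroup G) = (T2 : Subgroup G) :=
        Subgroup.eq_of_le_of_card_ge hle12 (by rw [card_sylow2_sub h, card_sylow2_sub h])
      exact hne' e2.ge
  have hN1 : (T1 : Subgroup G) ≤ normalizer (D : Set G) :=
    le_normalizer_of_card inf_le_left (card_sylow2_sub h T1) hD4
  have hN2 : (T2 : Subgroup G) ≤ normalizer (D : Set G) :=
    le_normalizer_of_card inf_le_right (card_sylow2_sub h T2) hD4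
  have hDK : IsKleinFour D := by
    by_contra hnk
    have := normalizer_le_of_not_klein h T1 D inf_le_left hD4 hnk
    exact hne' (hN2.trans this)
  refine ⟨D, hDK, ?_⟩
  have hNcard := card_normalizer_klein h D hDK
  have hJM : (T1 : Subgroup G) ⊔ (T2 : Subgroup G) ≤ M := sup_le hT1M' hT2M
  have hJN : (T1 : Subgroup G) ⊔ (T2 : Subgroup G) ≤ normalizer (D : Set G) := sup_le hN1 hN2
  have hJcard : Nat.card ((T1 : Subgroup G) ⊔ (T2 : Subgroup G) : Subgroup G) = 24 := by
    have h8 : 8 ∣ Nat.card ((T1 : Subgroup G) ⊔ (T2 : Subgroup G) : Subgroup G) := by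
      have := Subgroup.card_dvd_of_le (le_sup_left : (T1 : Subgroup G) ≤ (T1 : Subgroup G) ⊔ (T2 : Subgroup G))
      rwa [card_sylow2_sub h] at this
    have h24 : Nat.card ((T1 : Subgroup G) ⊔ (T2 : Subgroup G) : Subgroup G) ∣ 24 := by
      have := Subgroup.card_dvd_of_le hJM
      rwa [hM] at this
    obtain ⟨k, hk⟩ := h8
    have hk3 : k ∣ 3 := by
      rw [hk] at h24
      exact Nat.dvd_of_mul_dvd_mul_left (by norm_num : 0 < 8) (by simpa using h24)
    have hk13 : k = 1 ∨ k = 3 := (Nat.dvd_prime (by norm_num)).mp hk3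
    rcases hk13 with rfl | rfl
    · exfalso
      have e1 : (T1 : Subgroup G) = (T1 : Subgroup G) ⊔ (T2 : Subgroup G) :=
        Subgroup.eq_of_le_of_card_ge le_sup_left (by rw [hk, card_sylow2_sub h])
      apply hne'
      rw [e1]; exact le_sup_right
    · rw [hk]
  have e1 : (T1 : Subgroup G) ⊔ (T2 : Subgroup G) = M :=
    Subgroup.eq_of_le_of_card_ge hJM (by rw [hJcard, hM])
  have e2 : (T1 : Subgroup G) ⊔ (T2 : Subgroup G) = normalizer (D : Set G) :=
    Subgroup.eq_of_le_of_card_ge hJN (by rw [hJcard, hNcard])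
  rw [← e1, e2]

theorem exists_klein (h : Nat.card G = 168) : ∃ U : Subgroup G, IsKleinFour U := by
  obtain ⟨T⟩ : Nonempty (Sylow 2 G) := inferInstance
  have := card_klein_le_sylow h T
  have hne : Nonempty {U : Subgroup G // U ≤ (T : Subgroup G) ∧ IsKleinFour ↥U} :=
    (Nat.card_pos_iff.mp (by rw [this]; norm_num)).1
  obtain ⟨⟨U, _, hU⟩⟩ := hne
  exact ⟨U, hU⟩

/-- the normalizer of a Sylow 3-subgroup lies in a subgroup of order 24 -/
theorem exists_card_24_ge_normalizer_sylow3 (h : Nat.card G = 168) (P : Sylow 3 G) :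
    ∃ L : Subgroup G, Nat.card L = 24 ∧ normalizer ((P : Subgroup G) : Set G) ≤ L := by
  obtain ⟨U, hU⟩ := exists_klein h
  have hNcard := card_normalizer_klein h U hU
  obtain ⟨y, hy⟩ := exists_prime_orderOf_dvd_card'
    (G := normalizer (U : Set G)) 3 (by rw [hNcard]; norm_num)
  rw [← Subgroup.orderOf_coe] at hy
  have hP3 := card_sylow3_sub h P
  -- a generator of P
  obtain ⟨x, hxP, hx1⟩ : ∃ x ∈ (P : Subgroup G), x ≠ 1 := by
    by_contra hcon
    push Not at hcon
    have : (P : Subgroup G) = ⊥ := (Subgroup.eq_bot_iff_forall _).mpr hcon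
    rw [this, Subgroup.card_bot] at hP3
    omega
  have hx3 : orderOf x = 3 := by
    have hd : orderOf x ∣ 3 := by
      have := Subgroup.orderOf_dvd_natCard _ hxP
      rwa [hP3] at this
    rcases (Nat.dvd_prime (by norm_num)).mp hd with h' | h'
    · exact absurd (orderOf_eq_one_iff.mp h') hx1
    · exact h'
  obtain ⟨g, hg⟩ := isConj_iff.mp (isConj_of_orderOf_three h (y : G) x hy hx3)
  set L := (normalizer (U : Set G)).map (MulAut.conj g).toMonoidHom with hL
  have hLcard : Nat.card L = 24 := by rw [hL, card_map_conj, hNcard]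
  have hxL : x ∈ L := ⟨(y : G), y.2, by simpa using hg⟩
  have hPL : (P : Subgroup G) ≤ L := by
    have hz : zpowers x = (P : Subgroup G) := by
      apply Subgroup.eq_of_le_of_card_ge
      · rw [zpowers_le]; exact hxP
      · rw [Nat.card_zpowers, hx3, hP3]
    rw [← hz, zpowers_le]; exact hxL
  refine ⟨L, hLcard, ?_⟩
  have hNP := card_normalizer_sylow3 h P
  -- another Sylow 3-subgroup inside L
  have hex : ∃ R : Sylow 3 G, (R : Subgroup G) ≤ L ∧ R ≠ P := by
    by_contra hcon
    push Not at hcon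
    have := Subgroup.card_le_of_le (le_normalizer_of_unique_sylow P L hPL hcon)
    rw [hLcard, hNP] at this
    omega
  obtain ⟨R, hRL, hRP⟩ := hex
  obtain ⟨h4, hdvd⟩ := card_sylow_subgroup_of_two L P R hPL hRL (Ne.symm hRP)
  rw [hP3, hLcard] at hdvd
  have hmod : Nat.card (Sylow 3 L) ≡ 1 [MOD 3] := card_sylow_modEq_one 3 L
  have hn4 : Nat.card (Sylow 3 L) = 4 := by
    have h8 : Nat.card (Sylow 3 L) ∣ 8 :=
      Nat.dvd_of_mul_dvd_mul_right (by norm_num : 0 < 3) (by simpa using hdvd)
    have hmem : Nat.card (Sylow 3 L) ∈ Nat.divisors 8 := by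
      rw [Nat.mem_divisors]; exact ⟨h8, by norm_num⟩
    have hset : Nat.divisors 8 = {1, 2, 4, 8} := by decide
    rw [hset] at hmem
    simp only [Finset.mem_insert, Finset.mem_singleton] at hmem
    rcases hmem with h' | h' | h' | h'
    · omega
    · omega
    · exact h'
    · rw [h'] at hmod; exact absurd hmod (by decide)
  set P' : Sylow 3 L := P.subtype hPL with hP'
  have hidx : (normalizer ((P' : Subgroup L) : Set L)).index = 4 := by
    rw [← hn4]; exact (Sylow.card_eq_index_normalizer P').symm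
  have hcardN' : Nat.card (normalizer ((P' : Subgroup L) : Set L)) = 6 := by
    have := (normalizer ((P' : Subgroup L) : Set L)).index_mul_card
    rw [hidx, hLcard] at this
    omega
  have hmap : (P' : Subgroup L).map L.subtype = (P : Subgroup G) := by
    rw [hP', Sylow.coe_subtype]
    exact Subgroup.map_subgroupOf_eq_of_le hPL
  have hle : (normalizer ((P' : Subgroup L) : Set L)).map L.subtype ≤
      normalizer ((P : Subgroup G) : Set G) := by
    have := Subgroup.le_normalizer_map (H := (P' : Subgroup L)) L.subtype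
    rwa [hmap] at this
  have heq : (normalizer ((P' : Subgroup L) : Set L)).map L.subtype =
      normalizer ((P : Subgroup G) : Set G) := by
    apply Subgroup.eq_of_le_of_card_ge hle
    rw [Subgroup.card_map_of_injective L.subtype_injective, hcardN', hNP]
  rw [← heq]
  exact Subgroup.map_subtype_le _

end Cfsg.Agent.Lib.Helper3.Ord168
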