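import Mathlib
import Cfsg.Agent.Lib.Helper3.Ord168_10

set_option autoImplicit false

namespace Cfsg.Agent.Lib.Helper3.Ord168

open Subgroup Cfsg.Agent.Lib.Helper3 Cfsg.Agent.Lib.Helper3.NS Cfsg.Agent.Lib.Helper1.SylowSimple
open Cfsg.Agent.Lib.Helper6

variable {G : Type*} [Group G] [Finite G]

/-- a Sylow `p`-subgroup of `G` (of order `p`) inside `M` when `p ∣ |M|` -/
theorem exists_sylow_le_of_dvd {p : ℕ} [hp : Fact p.Prime] (P0 : Sylow p G)
    (hP0 : Nat.card (P0 : Subgroup G) = p) (M : Subgroup G) (hpM : p ∣ Nat.card M) :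
    ∃ P : Sylow p G, (P : Subgroup G) ≤ M := by
  obtain ⟨x, hx⟩ := exists_prime_orderOf_dvd_card' (G := M) p hpM
  rw [← Subgroup.orderOf_coe] at hx
  have hcard : Nat.card (zpowers (x : G)) = p := by rw [Nat.card_zpowers, hx]
  refine ⟨sylowOfCardPrime P0 hP0 (zpowers (x : G)) hcard, ?_⟩
  rw [coe_sylowOfCardPrime, zpowers_le]
  exact x.2

variable [IsSimpleGroup G]

theorem not_isCoatom_of_card_12 (h : Nat.card G = 168) (M : Subgroup G) (hM : Nat.card M = 12) :
    ¬ IsCoatom M := by
  intro hco
  obtain ⟨P0⟩ : Nonempty (Sylow 3 G) := inferInstance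
  obtain ⟨P, hPM⟩ := exists_sylow_le_of_dvd P0 (card_sylow3_sub h P0) M (by rw [hM]; norm_num)
  have hP3 := card_sylow3_sub h P
  have hNP := card_normalizer_sylow3 h P
  have hex : ∃ R : Sylow 3 G, (R : Subgroup G) ≤ M ∧ R ≠ P := by
    by_contra hcon
    push Not at hcon
    have := Subgroup.card_le_of_le (le_normalizer_of_unique_sylow P M hPM hcon)
    rw [hM, hNP] at this
    omega
  obtain ⟨R, hRM, hRP⟩ := hex
  obtain ⟨h4, hdvd⟩ := card_sylow_subgroup_of_two M P R hPM hRM (Ne.symm hRP)
  rw [hP3, hM] at hdvd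
  have hn4 : Nat.card (Sylow 3 M) = 4 := by
    have h4' : Nat.card (Sylow 3 M) ∣ 4 :=
      Nat.dvd_of_mul_dvd_mul_right (by norm_num : 0 < 3) (by simpa using hdvd)
    have := Nat.le_of_dvd (by norm_num) h4'
    omega
  set Q : Sylow 3 M := P.subtype hPM with hQ
  have hQcoe : (Q : Subgroup M) = (P : Subgroup G).subgroupOf M := by rw [hQ, Sylow.coe_subtype]
  have hQcard : Nat.card (Q : Subgroup M) = 3 := by
    rw [hQcoe, Nat.card_congr (Subgroup.subgroupOfEquivOfLe hPM).toEquiv, hP3]
  have hidx : (normalizer ((Q : Subgroup M) : Set M)).index = 4 := by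
    rw [← hn4]; exact (Sylow.card_eq_index_normalizer Q).symm
  have hcardN : Nat.card (normalizer ((Q : Subgroup M) : Set M)) = 3 := by
    have := (normalizer ((Q : Subgroup M) : Set M)).index_mul_card
    rw [hidx, hM] at this
    omega
  have hNQ : normalizer ((Q : Subgroup M) : Set M) = (Q : Subgroup M) := by
    symm
    apply Subgroup.eq_of_le_of_card_ge le_normalizer
    rw [hcardN, hQcard]
  have hcyc : IsCyclic (Q : Subgroup M) := isCyclic_of_prime_card hQcard
  have hcomm : IsMulCommutative (Q : Subgroup M) := ⟨⟨fun a b => hcyc.commGroup.mul_comm a b⟩⟩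
  have hle : normalizer ((Q : Subgroup M) : Set M) ≤ centralizer ((Q : Subgroup M) : Set M) := by
    rw [hNQ]
    exact le_centralizer_of_isMulCommutative (Q : Subgroup M)
  have hcompl := MonoidHom.ker_transferSylow_isComplement' Q hle
  set K : Subgroup M := (MonoidHom.transferSylow Q hle).ker with hK
  have hKn : K.Normal := by rw [hK]; infer_instance
  have hKcard : Nat.card K = 4 := by
    have := hcompl.card_mul_card
    rw [hQcard, hM] at this
    omega
  set V : Subgroup G := K.map M.subtype with hV
  have hVM : V ≤ M := Subgroup.map_subtype_le _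
  have hVcard : Nat.card V = 4 := by
    rw [hV, Subgroup.card_map_of_injective M.subtype_injective, hKcard]
  have hVsub : V.subgroupOf M = K := by
    rw [hV]
    exact Subgroup.comap_map_eq_self_of_injective M.subtype_injective K
  have hMN : M ≤ normalizer (V : Set G) := by
    rw [← Subgroup.normal_subgroupOf_iff_le_normalizer hVM, hVsub]
    exact hKn
  have hVp : IsPGroup 2 V := IsPGroup.of_card (n := 2) (by rw [hVcard]; norm_num)
  obtain ⟨T, hVT⟩ := hVp.exists_le_sylow
  by_cases hVK : IsKleinFour V
  · have := eq_of_isCoatom_of_le hco (normalizer_klein_ne_top h V hVK) hMN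
    have hc := card_normalizer_klein h V hVK
    rw [← this, hM] at hc
    omega
  · have := normalizer_le_of_not_klein h T V hVT hVcard hVK
    have := Subgroup.card_le_of_le (hMN.trans this)
    rw [hM, card_sylow2_sub h] at this
    omega

/-- the maximal subgroups have order 24 or are normalizers of Sylow 7-subgroups -/
theorem coatom_cases (h : Nat.card G = 168) (M : Subgroup G) (hM : IsCoatom M) :
    Nat.card M = 24 ∨ ∃ P : Sylow 7 G, M = normalizer ((P : Subgroup G) : Set G) := by
  have hle := card_le h M hM.1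
  have hdvd : Nat.card M ∣ 168 := by
    have := Subgroup.card_subgroup_dvd_card M
    rwa [h] at this
  by_cases h7 : 7 ∣ Nat.card M
  · right
    obtain ⟨P0⟩ : Nonempty (Sylow 7 G) := inferInstance
    obtain ⟨P, hPM⟩ := exists_sylow_le_of_dvd P0 (card_sylow7_sub h P0) M h7
    refine ⟨P, ?_⟩
    have huniq : ∀ R : Sylow 7 G, (R : Subgroup G) ≤ M → R = P := by
      intro R hRM
      by_contra hRP
      obtain ⟨h8, hd⟩ := card_sylow_subgroup_of_two M P R hPM hRM (Ne.symm hRP)
      rw [card_sylow7_sub h] at hd
      have := Nat.le_of_dvd (Nat.card_pos) hd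
      nlinarith
    apply eq_of_isCoatom_of_le hM _ (le_normalizer_of_unique_sylow P M hPM huniq)
    exact ne_top_of_card_lt h _ (by rw [card_normalizer_sylow7 h]; norm_num)
  · left
    have hcop7 : Nat.Coprime (Nat.card M) 7 :=
      ((Nat.Prime.coprime_iff_not_dvd (by norm_num)).mpr h7).symm
    have hd24 : Nat.card M ∣ 24 := by
      have : Nat.card M ∣ 24 * 7 := by norm_num; exact hdvd
      exact hcop7.dvd_of_dvd_mul_right this
    by_cases h3 : 3 ∣ Nat.card M
    · obtain ⟨P0⟩ : Nonempty (Sylow 3 G) := inferInstance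
      obtain ⟨P, hPM⟩ := exists_sylow_le_of_dvd P0 (card_sylow3_sub h P0) M h3
      by_cases huniq : ∀ R : Sylow 3 G, (R : Subgroup G) ≤ M → R = P
      · obtain ⟨L, hL, hNL⟩ := exists_card_24_ge_normalizer_sylow3 h P
        have hML : M ≤ L := (le_normalizer_of_unique_sylow P M hPM huniq).trans hNL
        have := eq_of_isCoatom_of_le hM (ne_top_of_card_lt h L (by rw [hL]; norm_num)) hML
        rw [this, hL]
      · push Not at huniq
        obtain ⟨R, hRM, hRP⟩ := huniq
        obtain ⟨h4, hd⟩ := card_sylow_subgroup_of_two M P R hPM hRM (Ne.symm hRP)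
        rw [card_sylow3_sub h] at hd
        have h12 : 12 ≤ Nat.card M := by
          have := Nat.le_of_dvd (Nat.card_pos) hd
          nlinarith
        have hmem : Nat.card M ∈ Nat.divisors 24 := by
          rw [Nat.mem_divisors]; exact ⟨hd24, by norm_num⟩
        have hset : Nat.divisors 24 = {1, 2, 3, 4, 6, 8, 12, 24} := by decide
        rw [hset] at hmem
        simp only [Finset.mem_insert, Finset.mem_singleton] at hmem
        rcases hmem with h' | h' | h' | h' | h' | h' | h' | h'
        · omega
        · omega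
        · omega
        · omega
        · omega
        · omega
        · exact absurd hM (not_isCoatom_of_card_12 h M h')
        · exact h'
    · exfalso
      have hcop3 : Nat.Coprime (Nat.card M) 3 :=
        ((Nat.Prime.coprime_iff_not_dvd (by norm_num)).mpr h3).symm
      have hd8 : Nat.card M ∣ 2 ^ 3 := by
        have : Nat.card M ∣ 8 * 3 := by norm_num; exact hd24
        exact hcop3.dvd_of_dvd_mul_right this
      obtain ⟨k, _, hk⟩ := (Nat.dvd_prime_pow Nat.prime_two).mp hd8
      have hMp : IsPGroup 2 M := IsPGroup.of_card hk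
      obtain ⟨T, hMT⟩ := hMp.exists_le_sylow
      have hc2 := card_klein_le_sylow h T
      have hne : Nonempty {U : Subgroup G // U ≤ (T : Subgroup G) ∧ IsKleinFour ↥U} :=
        (Nat.card_pos_iff.mp (by rw [hc2]; norm_num)).1
      obtain ⟨⟨U, hUT, hU⟩⟩ := hne
      have hMN : M ≤ normalizer (U : Set G) := hMT.trans (sylow_le_normalizer_klein h T U hUT hU)
      have := eq_of_isCoatom_of_le hM (normalizer_klein_ne_top h U hU) hMN
      have hc := card_normalizer_klein h U hU
      rw [← this] at hc
      have := Subgroup.card_le_of_le hMT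
      rw [hc, card_sylow2_sub h] at this
      omega

end Cfsg.Agent.Lib.Helper3.Ord168
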