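import Mathlib
import Cfsg.Agent.Lib.Helper3.Ord168_2

set_option autoImplicit false
set_option linter.style.haveILetI false
set_option linter.unusedSectionVars false

/-!
Simple groups of order 504: Sylow 7- and Sylow 3-subgroups.
-/

namespace Cfsg.Agent.Lib.Helper3.Ord504

open Subgroup Cfsg.Agent.Lib.Helper3 Cfsg.Agent.Lib.Helper3.NS Cfsg.Agent.Lib.Helper1.SylowSimple

variable {G : Type*} [Group G] [Finite G] [IsSimpleGroup G]

theorem not_comm (h : Nat.card G = 504) : ¬ IsMulCommutative G :=
  not_isMulCommutative_of_not_prime (by rw [h]; norm_num)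

theorem seven_le_index (h : Nat.card G = 504) (H : Subgroup G) (hH : H ≠ ⊤) : 7 ≤ H.index := by
  by_contra hlt
  push Not at hlt
  have h1 := two_mul_card_dvd_factorial (not_comm h) H hH
  rw [h] at h1
  have h2 : (H.index).factorial ∣ (6).factorial := Nat.factorial_dvd_factorial (by omega)
  have := h1.trans h2
  norm_num [Nat.factorial] at this

theorem card_alt7 : Nat.card (alternatingGroup (Fin 7)) = 2520 := by
  have h2 := two_mul_card_alternatingGroup (α := Fin 7)
  rw [Fintype.card_perm, Fintype.card_fin] at h2
  rw [Nat.card_eq_fintype_card]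
  have : (7 : ℕ).factorial = 5040 := by norm_num [Nat.factorial]
  omega

/-- a simple group of order 504 has no subgroup of index 7 -/
theorem index_ne_seven (h : Nat.card G = 504) (H : Subgroup G) : H.index ≠ 7 := by
  intro h7
  have hH : H ≠ ⊤ := by
    intro h'
    rw [h', Subgroup.index_top] at h7
    omega
  obtain ⟨f, hf⟩ : ∃ f : G →* alternatingGroup (Fin 7), Function.Injective f := by
    have := Cfsg.Agent.S0991.result (not_comm h) H hH
    rwa [h7] at this
  haveI : IsSimpleGroup (alternatingGroup (Fin 7)) := alternatingGroup.isSimpleGroup (by simp)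
  have hA : ¬ IsMulCommutative (alternatingGroup (Fin 7)) :=
    not_isMulCommutative_of_not_prime (by rw [card_alt7]; norm_num)
  have hcard : Nat.card f.range = 504 := by
    rw [← h]
    exact (Nat.card_congr (MonoidHom.ofInjective hf).toEquiv).symm
  have hne : f.range ≠ ⊤ := by
    intro h'
    rw [h', Subgroup.card_top, card_alt7] at hcard
    omega
  have hidx : f.range.index = 5 := by
    have := f.range.index_mul_card
    rw [hcard, card_alt7] at this
    omega
  have h1 := two_mul_card_dvd_factorial hA f.range hne
  rw [hidx, card_alt7] at h1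
  norm_num [Nat.factorial] at h1

theorem eight_le_index (h : Nat.card G = 504) (H : Subgroup G) (hH : H ≠ ⊤) : 8 ≤ H.index := by
  have h1 := seven_le_index h H hH
  have h2 := index_ne_seven h H
  omega

theorem card_le (h : Nat.card G = 504) (H : Subgroup G) (hH : H ≠ ⊤) : Nat.card H ≤ 63 := by
  have h1 := H.index_mul_card
  rw [h] at h1
  have h2 := eight_le_index h H hH
  nlinarith

/-- a subgroup of order at least 64 is everything -/
theorem eq_top_of_card_gt (h : Nat.card G = 504) (H : Subgroup G) (hH : 63 < Nat.card H) :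
    H = ⊤ := by
  by_contra hne
  have := card_le h H hne
  omega

section seven

local instance fact7' : Fact (Nat.Prime 7) := ⟨by norm_num⟩

theorem card_sylow7_sub (h : Nat.card G = 504) (P : Sylow 7 G) : Nat.card (P : Subgroup G) = 7 := by
  have := sylow_card_eq_of_card_eq P 1 72 (by rw [h]; norm_num) (by norm_num)
  simpa using this

theorem card_sylow7 (h : Nat.card G = 504) : Nat.card (Sylow 7 G) = 36 := by
  obtain ⟨P⟩ : Nonempty (Sylow 7 G) := inferInstance
  have hPidx : (P : Subgroup G).index = 72 :=
    sylow_index_eq_of_card_eq P 1 72 (by rw [h]; norm_num) (by norm_num)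
  have hdvd : Nat.card (Sylow 7 G) ∣ 72 := hPidx ▸ P.card_dvd_index
  have hmod : Nat.card (Sylow 7 G) ≡ 1 [MOD 7] := card_sylow_modEq_one 7 G
  have hmem : Nat.card (Sylow 7 G) ∈ (Nat.divisors 72).filter (fun n => n % 7 = 1) := by
    rw [Finset.mem_filter, Nat.mem_divisors]
    exact ⟨⟨hdvd, by norm_num⟩, hmod⟩
  have hset : (Nat.divisors 72).filter (fun n => n % 7 = 1) = {1, 8, 36} := by decide
  rw [hset] at hmem
  simp only [Finset.mem_insert, Finset.mem_singleton] at hmem
  rcases hmem with h' | h' | h'
  · exact absurd h' (Ord168.card_sylow_ne_one P (by rw [card_sylow7_sub h]; norm_num)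
      (by rw [card_sylow7_sub h, h]; norm_num))
  · exfalso
    have hidx : (normalizer ((P : Subgroup G) : Set G)).index = 7 + 1 := by
      have h0 : (normalizer ((P : Subgroup G) : Set G)).index = Nat.card (Sylow 7 G) :=
        (Sylow.card_eq_index_normalizer P).symm
      rw [h0, h']
    have h1 := two_mul_card_normalizer_dvd (not_comm h) (p := 7) (by norm_num) P
      (card_sylow7_sub h P) (Or.inr hidx)
    have h2 := (normalizer ((P : Subgroup G) : Set G)).index_mul_card
    rw [hidx, h] at h2
    have h3 : Nat.card (normalizer ((P : Subgroup G) : Set G)) = 63 := by omega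
    rw [h3] at h1
    norm_num at h1
  · exact h'

theorem card_normalizer_sylow7 (h : Nat.card G = 504) (P : Sylow 7 G) :
    Nat.card (normalizer ((P : Subgroup G) : Set G)) = 14 := by
  have h1 : (normalizer ((P : Subgroup G) : Set G)).index = 36 := by
    rw [← card_sylow7 h]; exact (Sylow.card_eq_index_normalizer P).symm
  have := (normalizer ((P : Subgroup G) : Set G)).index_mul_card
  rw [h1, h] at this
  omega

theorem centralizer_sylow7 (h : Nat.card G = 504) (P : Sylow 7 G) :
    centralizer ((P : Subgroup G) : Set G) = P :=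
  Ord168.centralizer_sylow_eq P (card_sylow7_sub h P) (r := 2) (by norm_num)
    (by rw [card_normalizer_sylow7 h]) (by rw [h]; norm_num)

theorem orderOf_eq_seven (h : Nat.card G = 504) (g : G) (hg : 7 ∣ orderOf g) : orderOf g = 7 := by
  obtain ⟨P⟩ : Nonempty (Sylow 7 G) := inferInstance
  exact Ord168.orderOf_eq_of_dvd P (card_sylow7_sub h P) (centralizer_sylow7 h) g hg

end seven

section three

local instance fact3' : Fact (Nat.Prime 3) := ⟨by norm_num⟩

theorem card_sylow3_sub (h : Nat.card G = 504) (P : Sylow 3 G) : Nat.card (P : Subgroup G) = 9 := by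
  have := sylow_card_eq_of_card_eq P 2 56 (by rw [h]; norm_num) (by norm_num)
  simpa using this

theorem sylow3_comm (h : Nat.card G = 504) (P : Sylow 3 G) :
    IsMulCommutative (P : Subgroup G) := by
  have h9 : Nat.card (P : Subgroup G) = 3 ^ 2 := by rw [card_sylow3_sub h P]; norm_num
  exact IsPGroup.isMulCommutative_of_card_eq_prime_sq h9

theorem card_sylow3 (h : Nat.card G = 504) : Nat.card (Sylow 3 G) = 28 := by
  obtain ⟨P⟩ : Nonempty (Sylow 3 G) := inferInstance
  have hPidx : (P : Subgroup G).index = 56 :=
    sylow_index_eq_of_card_eq P 2 56 (by rw [h]; norm_num) (by norm_num)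
  have hdvd : Nat.card (Sylow 3 G) ∣ 56 := hPidx ▸ P.card_dvd_index
  have hmod : Nat.card (Sylow 3 G) ≡ 1 [MOD 3] := card_sylow_modEq_one 3 G
  have hmem : Nat.card (Sylow 3 G) ∈ (Nat.divisors 56).filter (fun n => n % 3 = 1) := by
    rw [Finset.mem_filter, Nat.mem_divisors]
    exact ⟨⟨hdvd, by norm_num⟩, hmod⟩
  have hset : (Nat.divisors 56).filter (fun n => n % 3 = 1) = {1, 4, 7, 28} := by decide
  rw [hset] at hmem
  simp only [Finset.mem_insert, Finset.mem_singleton] at hmem
  have hidx : (normalizer ((P : Subgroup G) : Set G)).index = Nat.card (Sylow 3 G) :=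
    (Sylow.card_eq_index_normalizer P).symm
  have hne1 : Nat.card (Sylow 3 G) ≠ 1 :=
    Ord168.card_sylow_ne_one P (by rw [card_sylow3_sub h]; norm_num)
      (by rw [card_sylow3_sub h, h]; norm_num)
  have hNtop : normalizer ((P : Subgroup G) : Set G) ≠ ⊤ := by
    intro h'
    rw [h', Subgroup.index_top] at hidx
    exact hne1 hidx.symm
  have h8 := eight_le_index h _ hNtop
  rw [hidx] at h8
  rcases hmem with h' | h' | h' | h'
  · exact absurd h' hne1
  · omega
  · omega
  · exact h'

theorem card_normalizer_sylow3 (h : Nat.card G = 504) (P : Sylow 3 G) :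
    Nat.card (normalizer ((P : Subgroup G) : Set G)) = 18 := by
  have h1 : (normalizer ((P : Subgroup G) : Set G)).index = 28 := by
    rw [← card_sylow3 h]; exact (Sylow.card_eq_index_normalizer P).symm
  have := (normalizer ((P : Subgroup G) : Set G)).index_mul_card
  rw [h1, h] at this
  omega

theorem centralizer_sylow3 (h : Nat.card G = 504) (P : Sylow 3 G) :
    centralizer ((P : Subgroup G) : Set G) = P := by
  haveI := sylow3_comm h P
  have hPC : (P : Subgroup G) ≤ centralizer ((P : Subgroup G) : Set G) :=
    le_centralizer_of_isMulCommutative (P : Subgroup G)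
  have hCN : centralizer ((P : Subgroup G) : Set G) ≤ normalizer ((P : Subgroup G) : Set G) :=
    Subgroup.centralizer_le_normalizer _
  rcases card_between (p := 9) (r := 2) (by norm_num) hPC hCN (card_sylow3_sub h P) (by norm_num)
    (by rw [card_normalizer_sylow3 h]) with h' | h'
  · exact h'
  · exfalso
    rcases sylow_eq_bot_or_top_of_normalizer_le_centralizer P h'.ge with h'' | h''
    · have := card_sylow3_sub h P
      rw [h'', Subgroup.card_bot] at this
      omega
    · have := card_sylow3_sub h P
      rw [h'', Subgroup.card_top, h] at this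
      omega

end three

end Cfsg.Agent.Lib.Helper3.Ord504
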