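import Mathlib
import Cfsg.Agent.Lib.Helper3.Ord504_1
import Cfsg.Agent.Lib.Lead.Focal
import Cfsg.Agent.Lib.Helper1.Conj

set_option autoImplicit false
set_option linter.style.haveILetI false
set_option linter.unusedSectionVars false

/-!
Simple groups of order 504: the normalizer of a Sylow 3-subgroup inverts it.
-/

namespace Cfsg.Agent.Lib.Helper3.Ord504

open Subgroup Cfsg.Agent.Lib.Helper3 Cfsg.Agent.Lib.Helper3.NS Cfsg.Agent.Lib.Helper1.SylowSimple
open scoped commutatorElement

section generic

/-- a central element whose `[H : Q]`-th power is nontrivial, `Q` abelian of finite index,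
is not a product of commutators (transfer) -/
theorem notMem_commutator_of_central {H : Type*} [Group H] (Q : Subgroup H) [Q.FiniteIndex]
    (hQ : ∀ a ∈ Q, ∀ b ∈ Q, a * b = b * a) {z : H} (hz : ∀ a : H, a * z = z * a)
    (hpow : z ^ Q.index ≠ 1) : z ∉ commutator H := by
  intro hzc
  letI : CommGroup ↥Q :=
    { (inferInstance : Group ↥Q) with mul_comm := fun a b => Subtype.ext (hQ a a.2 b b.2) }
  have key : ∀ (k : ℕ) (g₀ : H), g₀⁻¹ * z ^ k * g₀ ∈ Q → g₀⁻¹ * z ^ k * g₀ = z ^ k := by
    intro k g₀ _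
    have hc : Commute g₀ (z ^ k) := (show Commute g₀ z from hz g₀).pow_right k
    rw [mul_assoc, ← hc.eq, inv_mul_cancel_left]
  have h1 := MonoidHom.transfer_eq_pow (MonoidHom.id ↥Q) z key
  have h2 : z ∈ (MonoidHom.transfer (MonoidHom.id ↥Q)).ker :=
    Abelianization.commutator_subset_ker _ hzc
  rw [MonoidHom.mem_ker, h1] at h2
  have := congrArg Subtype.val h2
  exact hpow this

end generic

variable {G : Type*} [Group G] [Finite G] [IsSimpleGroup G]

theorem commutator_eq_top (h : Nat.card G = 504) : commutator G = ⊤ := by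
  rcases (inferInstance : (commutator G).Normal).eq_bot_or_eq_top with h' | h'
  · exfalso
    apply not_comm h
    refine ⟨⟨fun a b => ?_⟩⟩
    have h1 : ⁅a, b⁆ ∈ commutator G := by
      rw [_root_.commutator_def]
      exact Subgroup.commutator_mem_commutator (Subgroup.mem_top a) (Subgroup.mem_top b)
    rw [h', Subgroup.mem_bot, commutatorElement_def] at h1
    calc a * b = (a * b * a⁻¹ * b⁻¹) * (b * a) := by group
      _ = b * a := by rw [h1, one_mul]
  · exact h'

section three

local instance fact3'' : Fact (Nat.Prime 3) := ⟨by norm_num⟩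

theorem sylow3_le_commutator_normalizer (h : Nat.card G = 504) (P : Sylow 3 G) :
    (P : Subgroup G) ≤ ⁅normalizer ((P : Subgroup G) : Set G), normalizer ((P : Subgroup G) : Set G)⁆ := by
  have hc := sylow3_comm h P
  have hab : ∀ a ∈ P, ∀ b ∈ P, a * b = b * a := fun a ha b hb =>
    congrArg Subtype.val (hc.is_comm.comm ⟨a, ha⟩ ⟨b, hb⟩)
  have h1 := Cfsg.Agent.Lib.Lead.commutator_inf_sylow_eq_of_control P
    (normalizer ((P : Subgroup G) : Set G)) Subgroup.le_normalizer
    (fun x hx g hg => Cfsg.Agent.Lib.Helper1.burnside_fusion P hab hx hg rfl)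
  rw [commutator_eq_top h, top_inf_eq] at h1
  intro x hx
  have : x ∈ ⁅normalizer ((P : Subgroup G) : Set G), normalizer ((P : Subgroup G) : Set G)⁆ ⊓
      (P : Subgroup G) := by
    rw [← h1]; exact hx
  exact this.1

/-- elements of `N(P) ∖ P` are either in `P` after multiplication -/
theorem mul_mem_sylow3 (h : Nat.card G = 504) (P : Sylow 3 G) {a b : G}
    (ha : a ∈ normalizer ((P : Subgroup G) : Set G)) (hb : b ∈ normalizer ((P : Subgroup G) : Set G))
    (haP : a ∉ (P : Subgroup G)) (hbP : b ∉ (P : Subgroup G)) : a * b ∈ (P : Subgroup G) := by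
  set N := normalizer ((P : Subgroup G) : Set G) with hN
  have hidx : ((P : Subgroup G).subgroupOf N).index = 2 := by
    have h1 := ((P : Subgroup G).subgroupOf N).index_mul_card
    have h2 : Nat.card ((P : Subgroup G).subgroupOf N) = 9 := by
      rw [← card_sylow3_sub h P]
      exact Nat.card_congr (Subgroup.subgroupOfEquivOfLe Subgroup.le_normalizer).toEquiv
    rw [h2, card_normalizer_sylow3 h P] at h1
    omega
  have h3 := Subgroup.mul_mem_iff_of_index_two hidx (a := (⟨a, ha⟩ : N)) (b := (⟨b, hb⟩ : N))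
  have h4 : (⟨a, ha⟩ : N) * ⟨b, hb⟩ ∈ (P : Subgroup G).subgroupOf N := by
    rw [h3]
    constructor
    · intro h5; exact absurd (Subgroup.mem_subgroupOf.mp h5) haP
    · intro h5; exact absurd (Subgroup.mem_subgroupOf.mp h5) hbP
  exact Subgroup.mem_subgroupOf.mp h4

/-- an element of `N(P) ∖ P` centralizes no nontrivial element of `P` -/
theorem eq_one_of_commute_normalizer (h : Nat.card G = 504) (P : Sylow 3 G) {g x : G}
    (hg : g ∈ normalizer ((P : Subgroup G) : Set G)) (hgP : g ∉ (P : Subgroup G))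
    (hx : x ∈ (P : Subgroup G)) (hgx : g * x = x * g) : x = 1 := by
  by_contra hx1
  set N := normalizer ((P : Subgroup G) : Set G) with hN
  have hc := sylow3_comm h P
  have hab : ∀ a ∈ P, ∀ b ∈ P, a * b = b * a := fun a ha b hb =>
    congrArg Subtype.val (hc.is_comm.comm ⟨a, ha⟩ ⟨b, hb⟩)
  have hxN : x ∈ N := Subgroup.le_normalizer hx
  -- `x` is central in `N`
  have hcent : ∀ a ∈ N, a * x = x * a := by
    intro a ha
    by_cases haP : a ∈ (P : Subgroup G)
    · exact hab a haP x hx
    · have hg' : g⁻¹ ∈ N := N.inv_mem hg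
      have hg'P : g⁻¹ ∉ (P : Subgroup G) := fun h' => hgP (by simpa using (P : Subgroup G).inv_mem h')
      have h1 := mul_mem_sylow3 h P ha hg' haP hg'P
      have h2 := hab _ h1 x hx
      calc a * x = (a * g⁻¹) * (g * x) := by group
        _ = (a * g⁻¹) * (x * g) := by rw [hgx]
        _ = ((a * g⁻¹) * x) * g := by group
        _ = (x * (a * g⁻¹)) * g := by rw [h2]
        _ = x * a := by group
  have hidx : ((P : Subgroup G).subgroupOf N).index = 2 := by
    have h1 := ((P : Subgroup G).subgroupOf N).index_mul_card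
    have h2 : Nat.card ((P : Subgroup G).subgroupOf N) = 9 := by
      rw [← card_sylow3_sub h P]
      exact Nat.card_congr (Subgroup.subgroupOfEquivOfLe Subgroup.le_normalizer).toEquiv
    rw [h2, card_normalizer_sylow3 h P] at h1
    omega
  have hnot := notMem_commutator_of_central (H := N) ((P : Subgroup G).subgroupOf N)
    (fun a ha b hb => Subtype.ext (hab a (Subgroup.mem_subgroupOf.mp ha) b (Subgroup.mem_subgroupOf.mp hb)))
    (z := ⟨x, hxN⟩) (fun a => Subtype.ext (hcent a a.2)) (by
      rw [hidx]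
      intro h2
      have h3 : x ^ 2 = 1 := by
        have := congrArg Subtype.val h2
        simpa using this
      have h4 : x ^ 9 = 1 := by
        have := pow_card_eq_one' (G := (P : Subgroup G)) (x := ⟨x, hx⟩)
        rw [card_sylow3_sub h P] at this
        have := congrArg Subtype.val this
        simpa using this
      have h5 : orderOf x ∣ 2 := orderOf_dvd_of_pow_eq_one h3
      have h6 : orderOf x ∣ 9 := orderOf_dvd_of_pow_eq_one h4
      have h7 : orderOf x ∣ Nat.gcd 2 9 := Nat.dvd_gcd h5 h6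
      have h8 : orderOf x = 1 := by
        have : Nat.gcd 2 9 = 1 := by norm_num
        rw [this] at h7
        exact Nat.dvd_one.mp h7
      exact hx1 (orderOf_eq_one_iff.mp h8))
  apply hnot
  have h1 := sylow3_le_commutator_normalizer h P hx
  rw [← Subgroup.map_subtype_commutator] at h1
  obtain ⟨c, hc1, hc2⟩ := h1
  have : c = ⟨x, hxN⟩ := Subtype.ext hc2
  rw [← this]
  exact hc1

/-- elements of `N(P) ∖ P` invert `P` -/
theorem conj_eq_inv (h : Nat.card G = 504) (P : Sylow 3 G) {g x : G}
    (hg : g ∈ normalizer ((P : Subgroup G) : Set G)) (hgP : g ∉ (P : Subgroup G))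
    (hx : x ∈ (P : Subgroup G)) : g * x * g⁻¹ = x⁻¹ := by
  have hc := sylow3_comm h P
  have hab : ∀ a ∈ P, ∀ b ∈ P, a * b = b * a := fun a ha b hb =>
    congrArg Subtype.val (hc.is_comm.comm ⟨a, ha⟩ ⟨b, hb⟩)
  have hgx : g * x * g⁻¹ ∈ (P : Subgroup G) := (Subgroup.mem_normalizer_iff.mp hg x).mp hx
  have hgg : g * g ∈ (P : Subgroup G) := mul_mem_sylow3 h P hg hg hgP hgP
  have h1 : x * (g * x * g⁻¹) ∈ (P : Subgroup G) := (P : Subgroup G).mul_mem hx hgx
  have h2 : g * (x * (g * x * g⁻¹)) = (x * (g * x * g⁻¹)) * g := by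
    have e1 := hab _ hgg x hx
    have e2 := hab _ hgx x hx
    calc g * (x * (g * x * g⁻¹)) = (g * x * g⁻¹) * ((g * g) * x) * g⁻¹ * g⁻¹ * g := by group
      _ = (g * x * g⁻¹) * (x * (g * g)) * g⁻¹ * g⁻¹ * g := by rw [e1]
      _ = ((g * x * g⁻¹) * x) * g := by group
      _ = (x * (g * x * g⁻¹)) * g := by rw [e2]
  have h3 := eq_one_of_commute_normalizer h P hg hgP h1 h2
  exact (eq_inv_of_mul_eq_one_right h3)

end three

end Cfsg.Agent.Lib.Helper3.Ord504
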