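import Mathlib
import Cfsg.Agent.Lib.Helper3.Ord504_2

set_option autoImplicit false
set_option linter.style.haveILetI false
set_option linter.unusedSectionVars false

/-!
Simple groups of order 504: the centralizer of an element of order 3 has order 9.
-/

namespace Cfsg.Agent.Lib.Helper3.Ord504

open Subgroup Cfsg.Agent.Lib.Helper3 Cfsg.Agent.Lib.Helper3.NS Cfsg.Agent.Lib.Helper1.SylowSimple

section generic

theorem mem_normalizer_of_conj_mem {G : Type*} [Group G] (T : Subgroup G) [Finite T] (g : G)
    (h : ∀ t ∈ T, g * t * g⁻¹ ∈ T) : g ∈ Subgroup.normalizer (T : Set G) := by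
  rw [Subgroup.mem_normalizer_iff_map_conj_eq]
  apply Subgroup.eq_of_le_of_card_ge
  · rintro _ ⟨t, ht, rfl⟩
    exact h t ht
  · rw [Subgroup.card_map_of_injective (MulAut.conj g).injective]

theorem mem_normalizer_zpowers_of_conj_mem {G : Type*} [Group G] [Finite G] (v s : G)
    (h : s * v * s⁻¹ ∈ Subgroup.zpowers v) :
    s ∈ Subgroup.normalizer (Subgroup.zpowers v : Set G) := by
  apply mem_normalizer_of_conj_mem
  rintro _ ⟨k, rfl⟩
  have : s * v ^ k * s⁻¹ = (s * v * s⁻¹) ^ k := (conj_zpow (a := s) (b := v) (i := k)).symm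
  show s * v ^ k * s⁻¹ ∈ Subgroup.zpowers v
  rw [this]
  exact Subgroup.zpow_mem _ h k

end generic

variable {G : Type*} [Group G] [Finite G] [IsSimpleGroup G]

local instance fact3''' : Fact (Nat.Prime 3) := ⟨by norm_num⟩
local instance fact7''' : Fact (Nat.Prime 7) := ⟨by norm_num⟩

/-- an element of order 3 lies in a Sylow 3-subgroup -/
theorem exists_sylow3_mem {x : G} (hx : x ^ 9 = 1) : ∃ P : Sylow 3 G, x ∈ (P : Subgroup G) := by
  have h1 : IsPGroup 3 (zpowers x) := by
    rw [IsPGroup.iff_card]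
    have : orderOf x ∣ 3 ^ 2 := orderOf_dvd_of_pow_eq_one (by simpa using hx)
    obtain ⟨m, _, hm⟩ := (Nat.dvd_prime_pow (by norm_num : Nat.Prime 3)).mp this
    exact ⟨m, by rw [Nat.card_zpowers, hm]⟩
  obtain ⟨P, hP⟩ := h1.exists_le_sylow
  exact ⟨P, hP (mem_zpowers x)⟩

/-- no element of order 7 commutes with an element of order 3 -/
theorem not_seven_dvd_card_centralizer (h : Nat.card G = 504) {x : G} (hx : orderOf x = 3) :
    ¬ 7 ∣ Nat.card (centralizer ({x} : Set G)) := by
  intro h7
  obtain ⟨y, hy⟩ := exists_prime_orderOf_dvd_card' (G := centralizer ({x} : Set G)) 7 h7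
  have hy' : orderOf (y : G) = 7 := by rw [Subgroup.orderOf_coe]; exact hy
  have hc : Commute x (y : G) := by
    have := y.2
    rw [Subgroup.mem_centralizer_singleton_iff] at this
    exact this.symm
  have hmul := hc.orderOf_mul_eq_mul_orderOf_of_coprime (by rw [hx, hy']; norm_num)
  have := orderOf_eq_seven h (x * (y : G)) (by rw [hmul, hy']; exact dvd_mul_left _ _)
  rw [hmul, hx, hy'] at this
  omega

/-- the centralizer of an element of order 3 has order 9 -/
theorem card_centralizer_three (h : Nat.card G = 504) {x : G} (hx : orderOf x = 3) :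
    Nat.card (centralizer ({x} : Set G)) = 9 := by
  set C := centralizer ({x} : Set G) with hC
  have hx3 : x ^ 3 = 1 := by rw [← hx]; exact pow_orderOf_eq_one x
  have hx1 : x ≠ 1 := by
    intro h1
    rw [h1, orderOf_one] at hx
    omega
  obtain ⟨P, hxP⟩ := exists_sylow3_mem (x := x) (by
    have : x ^ 9 = (x ^ 3) ^ 3 := by rw [← pow_mul]
    rw [this, hx3, one_pow])
  have hc := sylow3_comm h P
  have hab : ∀ a ∈ P, ∀ b ∈ P, a * b = b * a := fun a ha b hb =>
    congrArg Subtype.val (hc.is_comm.comm ⟨a, ha⟩ ⟨b, hb⟩)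
  have hPC : (P : Subgroup G) ≤ C := by
    intro a ha
    rw [hC, Subgroup.mem_centralizer_singleton_iff]
    exact hab a ha x hxP
  -- the normalizer of `P` in `C` is `P`
  have hNC : ∀ g ∈ C, g ∈ normalizer ((P : Subgroup G) : Set G) → g ∈ (P : Subgroup G) := by
    intro g hgC hgN
    by_contra hgP
    have h1 := conj_eq_inv h P hgN hgP hxP
    rw [hC, Subgroup.mem_centralizer_singleton_iff] at hgC
    have h2 : g * x * g⁻¹ = x := by rw [hgC]; group
    rw [h2] at h1
    have h3 : x ^ 2 = 1 := by
      rw [pow_two]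
      nth_rewrite 1 [h1]
      exact inv_mul_cancel x
    have h4 : orderOf x ∣ 2 := orderOf_dvd_of_pow_eq_one h3
    rw [hx] at h4
    omega
  -- Sylow counting in `C`
  let PC : Sylow 3 ↥C := P.subtype hPC
  have hPCcoe : (PC : Subgroup ↥C) = (P : Subgroup G).subgroupOf C := Sylow.coe_subtype P hPC
  have hcardPC : Nat.card (PC : Subgroup ↥C) = 9 := by
    rw [hPCcoe, ← card_sylow3_sub h P]
    exact Nat.card_congr (Subgroup.subgroupOfEquivOfLe hPC).toEquiv
  have hnorm : normalizer ((PC : Subgroup ↥C) : Set ↥C) = (PC : Subgroup ↥C) := by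
    apply le_antisymm _ Subgroup.le_normalizer
    intro g hg
    rw [hPCcoe, Subgroup.mem_subgroupOf]
    apply hNC g g.2
    apply mem_normalizer_of_conj_mem
    intro t ht
    have h1 := (Subgroup.mem_normalizer_iff.mp hg ⟨t, hPC ht⟩).mp
      (by rw [hPCcoe, Subgroup.mem_subgroupOf]; exact ht)
    rw [hPCcoe, Subgroup.mem_subgroupOf] at h1
    exact h1
  have hn3 : Nat.card (Sylow 3 ↥C) = (PC : Subgroup ↥C).index := by
    have h0 : Nat.card (Sylow 3 ↥C) = (normalizer ((PC : Subgroup ↥C) : Set ↥C)).index :=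
      Sylow.card_eq_index_normalizer PC
    rw [h0, hnorm]
  have hmod : Nat.card (Sylow 3 ↥C) ≡ 1 [MOD 3] := card_sylow_modEq_one 3 ↥C
  have hidx := (PC : Subgroup ↥C).index_mul_card
  rw [hcardPC, ← hn3] at hidx
  have hdvd : Nat.card C ∣ 504 := by
    rw [← h]; exact Subgroup.card_subgroup_dvd_card C
  have h7 := not_seven_dvd_card_centralizer h hx
  rw [← hC] at h7
  have hmem : Nat.card C ∈ (Nat.divisors 504).filter
      (fun n => 9 ∣ n ∧ ¬ 7 ∣ n ∧ (n / 9) % 3 = 1) := by
    rw [Finset.mem_filter, Nat.mem_divisors]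
    refine ⟨⟨hdvd, by norm_num⟩, ⟨Nat.card (Sylow 3 ↥C), by rw [← hidx]; ring⟩, h7, ?_⟩
    rw [← hidx, Nat.mul_div_cancel _ (by norm_num : 0 < 9)]
    exact hmod
  have hset : (Nat.divisors 504).filter (fun n => 9 ∣ n ∧ ¬ 7 ∣ n ∧ (n / 9) % 3 = 1) = {9, 36} := by
    decide
  rw [hset] at hmem
  simp only [Finset.mem_insert, Finset.mem_singleton] at hmem
  rcases hmem with h' | h'
  · exact h'
  · exfalso
    -- an element inverting `x`
    have hlt : (P : Subgroup G) < normalizer ((P : Subgroup G) : Set G) := by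
      refine lt_of_le_of_ne Subgroup.le_normalizer ?_
      intro heq
      have h1 := card_normalizer_sylow3 h P
      rw [← heq, card_sylow3_sub h P] at h1
      omega
    obtain ⟨s, hsN, hsP⟩ := SetLike.exists_of_lt hlt
    have hinv := conj_eq_inv h P hsN hsP hxP
    set M := normalizer ((zpowers x : Subgroup G) : Set G) with hM
    have hCM : C ≤ M := by
      intro c hc'
      apply mem_normalizer_zpowers_of_conj_mem
      rw [hC, Subgroup.mem_centralizer_singleton_iff] at hc'
      have : c * x * c⁻¹ = x := by rw [hc']; group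
      rw [this]
      exact mem_zpowers x
    have hsM : s ∈ M := by
      apply mem_normalizer_zpowers_of_conj_mem
      rw [hinv]
      exact Subgroup.inv_mem _ (mem_zpowers x)
    have hsC : s ∉ C := by
      intro hsC
      exact hsP (hNC s hsC hsN)
    have hlt2 : C < M := lt_of_le_of_ne hCM (fun heq => hsC (heq ▸ hsM))
    have hcardlt : Nat.card C < Nat.card M := by
      have := Set.ncard_lt_ncard (show (C : Set G) ⊂ (M : Set G) from hlt2) (Set.toFinite _)
      rw [← Nat.card_coe_set_eq, ← Nat.card_coe_set_eq] at this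
      exact this
    have hdvd2 : Nat.card C ∣ Nat.card M := Subgroup.card_dvd_of_le hCM
    rw [h'] at hcardlt hdvd2
    have h72 : 63 < Nat.card M := by
      obtain ⟨k, hk⟩ := hdvd2
      rw [hk] at hcardlt ⊢
      have : 2 ≤ k := by omega
      omega
    have hMtop := eq_top_of_card_gt h M h72
    have hnormal : (zpowers x).Normal := Subgroup.normalizer_eq_top_iff.mp hMtop
    rcases hnormal.eq_bot_or_eq_top with h1 | h1
    · have := mem_zpowers x
      rw [h1, Subgroup.mem_bot] at this
      exact hx1 this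
    · have h2 : Nat.card (zpowers x) = 3 := by rw [Nat.card_zpowers, hx]
      rw [h1, Subgroup.card_top, h] at h2
      omega

end Cfsg.Agent.Lib.Helper3.Ord504
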