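import Mathlib
import Cfsg.Agent.Lib.Helper3.Ord504_3
import Cfsg.Agent.Lib.Helper3.Ord168_4
import Cfsg.Agent.Lib.Helper3.Ree52

set_option autoImplicit false
set_option linter.style.haveILetI false
set_option linter.unusedSectionVars false

/-!
Simple groups of order 504: counting elements; the Sylow 2-subgroups are elementary abelian and
are the centralizers of their involutions.
-/

namespace Cfsg.Agent.Lib.Helper3.Ord504

open Subgroup Cfsg.Agent.Lib.Helper3 Cfsg.Agent.Lib.Helper3.NS Cfsg.Agent.Lib.Helper1.SylowSimple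
open Cfsg.Agent.Lib.Helper3.Ree

section generic

variable {G : Type*} [Group G]

/-- the nonidentity elements of a subgroup -/
def punc (S : Subgroup G) : Set G := {x | x ∈ S ∧ x ≠ 1}

theorem card_punc [Finite G] (S : Subgroup G) : Nat.card ↥(punc S) = Nat.card S - 1 := by
  have h1 : punc S = (S : Set G) \ {1} := by
    ext x
    simp [punc]
  rw [h1, Nat.card_coe_set_eq, Set.ncard_sdiff_singleton_of_mem S.one_mem, ← Nat.card_coe_set_eq]
  rfl

theorem mem_sylow_smul_iff {p : ℕ} (P : Sylow p G) (g x : G) :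
    x ∈ ((g • P : Sylow p G) : Subgroup G) ↔ g⁻¹ * x * g ∈ (P : Subgroup G) := by
  rw [Sylow.coe_subgroup_smul, Subgroup.mem_pointwise_smul_iff_inv_smul_mem]
  simp [MulAut.smul_def]

/-- a group of exponent two is commutative -/
theorem comm_of_sq_eq_one {a b : G} (ha : a * a = 1) (hb : b * b = 1) (hab : (a * b) * (a * b) = 1) :
    a * b = b * a := by
  calc a * b = a * ((a * b) * (a * b)) * b := by rw [hab, mul_one]
    _ = (a * a) * (b * a) * (b * b) := by group
    _ = b * a := by rw [ha, hb, one_mul, mul_one]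

end generic

variable {G : Type*} [Group G] [Finite G] [IsSimpleGroup G]

local instance fact2a : Fact (Nat.Prime 2) := ⟨by norm_num⟩
local instance fact3a : Fact (Nat.Prime 3) := ⟨by norm_num⟩
local instance fact7a : Fact (Nat.Prime 7) := ⟨by norm_num⟩

/-- two Sylow 3-subgroups with a common nontrivial element coincide -/
theorem sylow3_eq_of_mem (h : Nat.card G = 504) (P Q : Sylow 3 G) {x : G} (hxP : x ∈ (P : Subgroup G))
    (hxQ : x ∈ (Q : Subgroup G)) (hx1 : x ≠ 1) : P = Q := by
  -- an element `y` of order three in both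
  obtain ⟨y, hyP, hyQ, hy⟩ : ∃ y, y ∈ (P : Subgroup G) ∧ y ∈ (Q : Subgroup G) ∧ orderOf y = 3 := by
    have h9 : x ^ 9 = 1 := by
      have := pow_card_eq_one' (G := (P : Subgroup G)) (x := ⟨x, hxP⟩)
      rw [card_sylow3_sub h P] at this
      have := congrArg Subtype.val this
      simpa using this
    have hd : orderOf x ∣ 3 ^ 2 := orderOf_dvd_of_pow_eq_one (by simpa using h9)
    obtain ⟨k, hk, hk'⟩ := (Nat.dvd_prime_pow (by norm_num : Nat.Prime 3)).mp hd
    interval_cases k
    · exfalso
      rw [pow_zero] at hk'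
      exact hx1 (orderOf_eq_one_iff.mp hk')
    · exact ⟨x, hxP, hxQ, by simpa using hk'⟩
    · refine ⟨x ^ 3, Subgroup.pow_mem _ hxP 3, Subgroup.pow_mem _ hxQ 3, ?_⟩
      rw [orderOf_pow_of_dvd (by norm_num) (by rw [hk']; norm_num), hk']
      norm_num
  have hC := card_centralizer_three h hy
  have key : ∀ R : Sylow 3 G, y ∈ (R : Subgroup G) → (R : Subgroup G) = centralizer ({y} : Set G) := by
    intro R hyR
    have hc := sylow3_comm h R
    apply Subgroup.eq_of_le_of_card_ge
    · intro a ha
      rw [Subgroup.mem_centralizer_singleton_iff]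
      exact congrArg Subtype.val (hc.is_comm.comm ⟨a, ha⟩ ⟨y, hyR⟩)
    · rw [hC, card_sylow3_sub h R]
  apply Sylow.ext
  rw [key P hyP, key Q hyQ]

/-- the number of nonidentity 3-elements -/
theorem card_cjUnion_three (h : Nat.card G = 504) (P : Sylow 3 G) :
    Nat.card ↥(conjUnion (punc (P : Subgroup G))) = 224 := by
  have h1 := card_conjUnion (punc (P : Subgroup G)) (normalizer ((P : Subgroup G) : Set G)) ?_ ?_
  · rw [card_normalizer_sylow3 h P, h, card_punc, card_sylow3_sub h P] at h1
    omega
  · intro n hn x hx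
    refine ⟨(Subgroup.mem_normalizer_iff.mp hn x).mp hx.1, ?_⟩
    intro h2
    apply hx.2
    have : x = n⁻¹ * (n * x * n⁻¹) * n := by group
    rw [this, h2]; group
  · intro g x hx hgx
    have h2 : x ∈ ((g⁻¹ • P : Sylow 3 G) : Subgroup G) := by
      rw [mem_sylow_smul_iff, inv_inv]
      exact hgx.1
    have h3 := sylow3_eq_of_mem h P (g⁻¹ • P) hx.1 h2 hx.2
    have h4 : g⁻¹ ∈ normalizer ((P : Subgroup G) : Set G) :=
      Sylow.smul_eq_iff_mem_normalizer.mp h3.symm
    simpa using Subgroup.inv_mem _ h4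

theorem orderOf_of_mem_cjUnion_three (h : Nat.card G = 504) (P : Sylow 3 G) {y : G}
    (hy : y ∈ conjUnion (punc (P : Subgroup G))) : orderOf y = 3 ∨ orderOf y = 9 := by
  obtain ⟨g, hg⟩ := hy
  have h1 : orderOf y = orderOf (g⁻¹ * y * g) := by
    have := Ord168.orderOf_conj' g⁻¹ y
    rw [inv_inv] at this
    exact this.symm
  rw [h1]
  set x := g⁻¹ * y * g with hx
  have h9 : x ^ 9 = 1 := by
    have := pow_card_eq_one' (G := (P : Subgroup G)) (x := ⟨x, hg.1⟩)
    rw [card_sylow3_sub h P] at this
    have := congrArg Subtype.val this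
    simpa using this
  have hd : orderOf x ∣ 3 ^ 2 := orderOf_dvd_of_pow_eq_one (by simpa using h9)
  obtain ⟨k, hk, hk'⟩ := (Nat.dvd_prime_pow (by norm_num : Nat.Prime 3)).mp hd
  interval_cases k
  · exfalso
    rw [pow_zero] at hk'
    exact hg.2 (orderOf_eq_one_iff.mp hk')
  · left; simpa using hk'
  · right; simpa using hk'

/-- at least 224 elements have order 3 or 9 -/
theorem card_three_nine_ge (h : Nat.card G = 504) :
    224 ≤ Nat.card {g : G // orderOf g = 3} + Nat.card {g : G // orderOf g = 9} := by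
  classical
  obtain ⟨P⟩ : Nonempty (Sylow 3 G) := inferInstance
  rw [← card_cjUnion_three h P, ← Nat.card_sum]
  let ι : ↥(conjUnion (punc (P : Subgroup G))) → {g : G // orderOf g = 3} ⊕ {g : G // orderOf g = 9} :=
    fun y => if h3 : orderOf (y : G) = 3 then Sum.inl ⟨y, h3⟩ else
      Sum.inr ⟨y, (orderOf_of_mem_cjUnion_three h P y.2).resolve_left h3⟩
  apply Nat.card_le_card_of_injective ι
  intro a b hab
  apply Subtype.ext
  simp only [ι] at hab
  by_cases ha : orderOf (a : G) = 3 <;> by_cases hb : orderOf (b : G) = 3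
  · rw [dif_pos ha, dif_pos hb] at hab
    have := Sum.inl.inj hab
    exact congrArg (fun s : {g : G // orderOf g = 3} => (s : G)) this
  · rw [dif_pos ha, dif_neg hb] at hab
    exact absurd hab (by simp)
  · rw [dif_neg ha, dif_pos hb] at hab
    exact absurd hab (by simp)
  · rw [dif_neg ha, dif_neg hb] at hab
    have := Sum.inr.inj hab
    exact congrArg (fun s : {g : G // orderOf g = 9} => (s : G)) this

theorem card_orderOf_seven (h : Nat.card G = 504) : Nat.card {g : G // orderOf g = 7} = 216 := by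
  obtain ⟨P⟩ : Nonempty (Sylow 7 G) := inferInstance
  rw [card_orderOf_eq_prime P (card_sylow7_sub h P), card_sylow7 h]

/-- the centralizer of an involution is a 2-group -/
theorem card_centralizer_dvd_eight (h : Nat.card G = 504) {t : G} (ht : orderOf t = 2) :
    Nat.card (centralizer ({t} : Set G)) ∣ 8 := by
  have hdvd : Nat.card (centralizer ({t} : Set G)) ∣ 8 * 63 := by
    have := Subgroup.card_subgroup_dvd_card (centralizer ({t} : Set G))
    rwa [h] at this
  have h3 : ¬ 3 ∣ Nat.card (centralizer ({t} : Set G)) := by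
    intro hd
    obtain ⟨x, hx⟩ := exists_prime_orderOf_dvd_card' (G := centralizer ({t} : Set G)) 3 hd
    have hx' : orderOf (x : G) = 3 := by rw [Subgroup.orderOf_coe]; exact hx
    have hc : (x : G) * t = t * (x : G) := by
      have := x.2
      rw [Subgroup.mem_centralizer_singleton_iff] at this
      exact this
    have htC : t ∈ centralizer ({(x : G)} : Set G) := by
      rw [Subgroup.mem_centralizer_singleton_iff]
      exact hc.symm
    have := Subgroup.orderOf_dvd_natCard _ htC
    rw [card_centralizer_three h hx', ht] at this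
    omega
  have h7 : ¬ 7 ∣ Nat.card (centralizer ({t} : Set G)) := by
    intro hd
    obtain ⟨y, hy⟩ := exists_prime_orderOf_dvd_card' (G := centralizer ({t} : Set G)) 7 hd
    have hy' : orderOf (y : G) = 7 := by rw [Subgroup.orderOf_coe]; exact hy
    have hc : Commute t (y : G) := by
      have := y.2
      rw [Subgroup.mem_centralizer_singleton_iff] at this
      exact this.symm
    have hmul := hc.orderOf_mul_eq_mul_orderOf_of_coprime (by rw [ht, hy']; norm_num)
    have := orderOf_eq_seven h (t * (y : G)) (by rw [hmul, hy']; exact dvd_mul_left _ _)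
    rw [hmul, ht, hy'] at this
    omega
  have hcop : Nat.Coprime (Nat.card (centralizer ({t} : Set G))) 63 := by
    have : (63 : ℕ) = 3 * 3 * 7 := by norm_num
    rw [this]
    apply Nat.Coprime.mul_right
    · apply Nat.Coprime.mul_right
      · exact ((Nat.Prime.coprime_iff_not_dvd (by norm_num)).mpr h3).symm
      · exact ((Nat.Prime.coprime_iff_not_dvd (by norm_num)).mpr h3).symm
    · exact ((Nat.Prime.coprime_iff_not_dvd (by norm_num)).mpr h7).symm
  exact hcop.dvd_of_dvd_mul_right hdvd

theorem card_sylow2_sub (h : Nat.card G = 504) (T : Sylow 2 G) : Nat.card (T : Subgroup G) = 8 := by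
  have := sylow_card_eq_of_card_eq T 3 63 (by rw [h]; norm_num) (by norm_num)
  simpa using this

theorem pow_eight_eq_one (h : Nat.card G = 504) (T : Sylow 2 G) {t : G} (ht : t ∈ (T : Subgroup G)) :
    t ^ 8 = 1 := by
  have := pow_card_eq_one' (G := (T : Subgroup G)) (x := ⟨t, ht⟩)
  rw [card_sylow2_sub h T] at this
  have := congrArg Subtype.val this
  simpa using this

theorem exists_central_involution (h : Nat.card G = 504) (T : Sylow 2 G) :
    ∃ z ∈ (T : Subgroup G), orderOf z = 2 ∧ ∀ t ∈ (T : Subgroup G), t * z = z * t := by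
  have hnt : Nontrivial (T : Subgroup G) := by
    rw [← Finite.one_lt_card_iff_nontrivial, card_sylow2_sub h]; norm_num
  have hcn := IsPGroup.center_nontrivial (T.2)
  obtain ⟨z, hz1⟩ := exists_ne (1 : Subgroup.center (T : Subgroup G))
  have hzc : ∀ t ∈ (T : Subgroup G), t * (z : (T : Subgroup G)) = (z : (T : Subgroup G)) * t := by
    intro t ht
    have := (Subgroup.mem_center_iff.mp z.2) ⟨t, ht⟩
    exact congrArg Subtype.val this
  have hzT : ((z : (T : Subgroup G)) : G) ∈ (T : Subgroup G) := (z : (T : Subgroup G)).2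
  have hz1' : ((z : (T : Subgroup G)) : G) ≠ 1 := by
    intro h1
    apply hz1
    apply Subtype.ext
    apply Subtype.ext
    exact h1
  set w : G := ((z : (T : Subgroup G)) : G) with hw
  have hd : orderOf w ∣ 2 ^ 3 := orderOf_dvd_of_pow_eq_one (by simpa using pow_eight_eq_one h T hzT)
  obtain ⟨k, hk, hk'⟩ := (Nat.dvd_prime_pow (by norm_num : Nat.Prime 2)).mp hd
  have hcomm : ∀ j : ℕ, ∀ t ∈ (T : Subgroup G), t * w ^ j = w ^ j * t := by
    intro j t ht
    have : Commute t w := hzc t ht
    exact (this.pow_right j).eq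
  interval_cases k
  · exfalso
    rw [pow_zero] at hk'
    exact hz1' (orderOf_eq_one_iff.mp hk')
  · exact ⟨w, hzT, by simpa using hk', hzc⟩
  · refine ⟨w ^ 2, Subgroup.pow_mem _ hzT 2, ?_, hcomm 2⟩
    rw [orderOf_pow_of_dvd (by norm_num) (by rw [hk']; norm_num), hk']
    norm_num
  · refine ⟨w ^ 4, Subgroup.pow_mem _ hzT 4, ?_, hcomm 4⟩
    rw [orderOf_pow_of_dvd (by norm_num) (by rw [hk']; norm_num), hk']
    norm_num

/-- at least 63 elements have order 2 -/
theorem card_two_ge (h : Nat.card G = 504) : 63 ≤ Nat.card {g : G // orderOf g = 2} := by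
  obtain ⟨T⟩ : Nonempty (Sylow 2 G) := inferInstance
  obtain ⟨z, hzT, hz2, hzc⟩ := exists_central_involution h T
  have h1 := card_conj_class_mul_card_centralizer z
  have h2 : Nat.card (centralizer ({z} : Set G)) = 8 := by
    apply Nat.dvd_antisymm (card_centralizer_dvd_eight h hz2)
    rw [← card_sylow2_sub h T]
    apply Subgroup.card_dvd_of_le
    intro t ht
    rw [Subgroup.mem_centralizer_singleton_iff]
    exact hzc t ht
  rw [h2, h] at h1
  have h3 := Ord168.card_class_le z
  rw [hz2] at h3
  omega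

/-- every element has order 1, 2, 3, 7 or 9 -/
theorem orderOf_mem (h : Nat.card G = 504) (g : G) :
    orderOf g = 1 ∨ orderOf g = 2 ∨ orderOf g = 3 ∨ orderOf g = 7 ∨ orderOf g = 9 := by
  by_contra hcon
  push Not at hcon
  obtain ⟨h1, h2, h3, h7, h9⟩ := hcon
  set d := orderOf g with hd
  have hsum := sum_card_orderOf_le (G := G) ({1, 2, 3, 7, 9, d} : Finset ℕ)
  rw [Finset.sum_insert (by simp [h1.symm]),
    Finset.sum_insert (by simp [h2.symm]),
    Finset.sum_insert (by simp [h3.symm]),
    Finset.sum_insert (by simp [h7.symm]),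
    Finset.sum_insert (by simp [h9.symm]), Finset.sum_singleton] at hsum
  have c1 : 1 ≤ Nat.card {g : G // orderOf g = 1} :=
    Nat.one_le_iff_ne_zero.mpr (Nat.card_pos_iff.mpr ⟨⟨⟨1, orderOf_one⟩⟩, inferInstance⟩).ne'
  have cd : 1 ≤ Nat.card {x : G // orderOf x = d} :=
    Nat.one_le_iff_ne_zero.mpr (Nat.card_pos_iff.mpr ⟨⟨⟨g, rfl⟩⟩, inferInstance⟩).ne'
  have c2 := card_two_ge h
  have c39 := card_three_nine_ge h
  have c7 := card_orderOf_seven h
  rw [h] at hsum
  omega

end Cfsg.Agent.Lib.Helper3.Ord504
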