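import Mathlib
import Cfsg.Agent.Lib.Helper3.Ord504_4
import Cfsg.Agent.S1230
import Cfsg.Agent.Lib.Helper2.PSLRingEquiv

set_option autoImplicit false
set_option linter.style.haveILetI false
set_option linter.unusedSectionVars false

/-!
Simple groups of order 504 are isomorphic to `PSL₂(8)`.
-/

namespace Cfsg.Agent.Lib.Helper3.Ord504

open Subgroup Cfsg.Agent.Lib.Helper3 Cfsg.Agent.Lib.Helper3.NS Cfsg.Agent.Lib.Helper1.SylowSimple

variable {G : Type*} [Group G] [Finite G] [IsSimpleGroup G]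

local instance fact2b : Fact (Nat.Prime 2) := ⟨by norm_num⟩

theorem sylow2_sq (h : Nat.card G = 504) (T : Sylow 2 G) {t : G} (ht : t ∈ (T : Subgroup G)) :
    t * t = 1 := by
  have h8 : orderOf t ∣ 8 := orderOf_dvd_of_pow_eq_one (pow_eight_eq_one h T ht)
  have h2 : orderOf t ∣ 2 := by
    rcases orderOf_mem h t with h' | h' | h' | h' | h'
    · rw [h']; norm_num
    · rw [h']
    · rw [h'] at h8; norm_num at h8
    · rw [h'] at h8; norm_num at h8
    · rw [h'] at h8; norm_num at h8
  rw [← pow_two]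
  exact orderOf_dvd_iff_pow_eq_one.mp h2

theorem sylow2_comm (h : Nat.card G = 504) (T : Sylow 2 G) {a b : G} (ha : a ∈ (T : Subgroup G))
    (hb : b ∈ (T : Subgroup G)) : a * b = b * a :=
  comm_of_sq_eq_one (sylow2_sq h T ha) (sylow2_sq h T hb)
    (sylow2_sq h T ((T : Subgroup G).mul_mem ha hb))

theorem exists_sylow2_mem {t : G} (ht : orderOf t = 2) : ∃ T : Sylow 2 G, t ∈ (T : Subgroup G) := by
  have h1 : IsPGroup 2 (zpowers t) := by
    rw [IsPGroup.iff_card]
    exact ⟨1, by rw [Nat.card_zpowers, ht, pow_one]⟩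
  obtain ⟨T, hT⟩ := h1.exists_le_sylow
  exact ⟨T, hT (mem_zpowers t)⟩

/-- the centralizer of an involution is a Sylow 2-subgroup -/
theorem centralizer_involution (h : Nat.card G = 504) {t : G} (ht : orderOf t = 2) :
    ∃ T : Sylow 2 G, centralizer ({t} : Set G) = (T : Subgroup G) := by
  obtain ⟨T, htT⟩ := exists_sylow2_mem ht
  refine ⟨T, ?_⟩
  symm
  apply Subgroup.eq_of_le_of_card_ge
  · intro a ha
    rw [Subgroup.mem_centralizer_singleton_iff]
    exact sylow2_comm h T ha htT
  · rw [card_sylow2_sub h T]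
    exact Nat.le_of_dvd (by norm_num) (card_centralizer_dvd_eight h ht)

/-- a simple group of order 504 is `PSL₂` over a field with eight elements -/
theorem exists_equiv_psl (h : Nat.card G = 504) :
    ∃ (F : Type) (_ : Field F) (_ : Fintype F), Fintype.card F = 8 ∧
      Nonempty (G ≃* Matrix.ProjectiveSpecialLinearGroup (Fin 2) F) := by
  obtain ⟨T⟩ : Nonempty (Sylow 2 G) := inferInstance
  have hT8 := card_sylow2_sub h T
  have hnc : ¬ IsCyclic (T : Subgroup G) := by
    intro hcyc
    obtain ⟨g, hg⟩ := hcyc.exists_generator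
    have h1 : orderOf g = 8 := by
      rw [← hT8]
      exact orderOf_eq_card_of_forall_mem_zpowers hg
    have h2 : (g : G) * (g : G) = 1 := sylow2_sq h T g.2
    have h3 : g ^ 2 = 1 := by
      apply Subtype.ext
      rw [pow_two]
      exact h2
    have h4 : orderOf g ∣ 2 := orderOf_dvd_of_pow_eq_one h3
    rw [h1] at h4
    omega
  have hnn : ¬ (T : Subgroup G).Normal := by
    intro hn
    rcases hn.eq_bot_or_eq_top with h' | h'
    · rw [h', Subgroup.card_bot] at hT8; omega
    · rw [h', Subgroup.card_top, h] at hT8; omega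
  have hC : ∀ t : G, orderOf t = 2 → IsMulCommutative (Subgroup.centralizer ({t} : Set G)) ∧
      ∀ c ∈ Subgroup.centralizer ({t} : Set G), c ^ 2 = 1 := by
    intro t ht
    obtain ⟨T', hT'⟩ := centralizer_involution h ht
    rw [hT']
    refine ⟨⟨⟨fun a b => Subtype.ext (sylow2_comm h T' a.2 b.2)⟩⟩, ?_⟩
    intro c hc
    rw [pow_two]
    exact sylow2_sq h T' hc
  obtain ⟨F, hF1, hF2, hcard, hiso⟩ := Cfsg.Agent.S1230.result T hnc hnn hC
  exact ⟨F, hF1, hF2, by rw [hcard, hT8], hiso⟩

end Cfsg.Agent.Lib.Helper3.Ord504
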