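import Mathlib
import Cfsg.Prelude.Def_Solvable
import Cfsg.Prelude.Def_Transfer
import Cfsg.Agent.Lib.Lead.TateE
import Cfsg.Agent.Lib.Lead.Frattini

/-!
# S4587 swarm, package P6 (Tate glue)

`O_{p'}(G) = 1`, `N ⊴ G`, `P ∩ N ≤ P'` ⟹ `N` is a `p`-group.
-/

set_option autoImplicit false

namespace Cfsg.Agent.Lib.Helper2.PAb

variable {G : Type*} [Group G]

namespace P6

/-- A complement to a Sylow `p`-subgroup has order prime to `p`. -/
theorem card_coprime {N : Type*} [Group N] [Finite N] {p : ℕ} [hp : Fact p.Prime] (Q : Sylow p N)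
    (K : Subgroup N) (hKQ : K.IsComplement' (Q : Subgroup N)) : (Nat.card K).Coprime p := by
  have hcard : Nat.card K * Nat.card Q = Nat.card N := hKQ.card_mul_card
  have hQ : Nat.card Q = p ^ (Nat.card N).factorization p := Q.card_eq_multiplicity
  have hNpos : Nat.card N ≠ 0 := Nat.card_pos.ne'
  have h1 : Nat.card N = Nat.card K * p ^ (Nat.card N).factorization p := by
    rw [← hQ]; exact hcard.symm
  have hKcard : Nat.card N / p ^ (Nat.card N).factorization p = Nat.card K :=
    Nat.div_eq_of_eq_mul_left (pow_pos hp.out.pos _) h1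
  rw [← hKcard]
  exact (Nat.coprime_ordCompl hp.out hNpos).symm

/-- A normal subgroup `K` of `N` which is a complement to a Sylow `p`-subgroup consists exactly of
the elements of `N` of order prime to `p`. -/
theorem mem_iff_coprime {N : Type*} [Group N] [Finite N] {p : ℕ} [hp : Fact p.Prime] (Q : Sylow p N)
    (K : Subgroup N) [hKn : K.Normal] (hKQ : K.IsComplement' (Q : Subgroup N)) (x : N) :
    x ∈ K ↔ (orderOf x).Coprime p := by
  have hcard : Nat.card K * Nat.card Q = Nat.card N := hKQ.card_mul_card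
  have hQ : Nat.card Q = p ^ (Nat.card N).factorization p := Q.card_eq_multiplicity
  have hKcop : (Nat.card K).Coprime p := card_coprime Q K hKQ
  constructor
  · intro hx
    have h1 : orderOf (⟨x, hx⟩ : K) ∣ Nat.card K := orderOf_dvd_natCard _
    have h2 : orderOf (⟨x, hx⟩ : K) = orderOf x := by
      rw [← Subgroup.orderOf_coe]
    rw [h2] at h1
    exact Nat.Coprime.coprime_dvd_left h1 hKcop
  · intro hx
    have hidx : K.index = p ^ (Nat.card N).factorization p := by
      have h3 : Nat.card K * K.index = Nat.card N := K.card_mul_index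
      have hKpos : 0 < Nat.card K := Nat.card_pos
      have : Nat.card K * K.index = Nat.card K * Nat.card Q := by rw [h3, hcard]
      rw [← hQ]
      exact Nat.eq_of_mul_eq_mul_left hKpos this
    have h4 : orderOf (QuotientGroup.mk' K x) ∣ orderOf x := orderOf_map_dvd _ x
    have h5 : orderOf (QuotientGroup.mk' K x) ∣ p ^ (Nat.card N).factorization p := by
      rw [← hidx, Subgroup.index_eq_card]
      exact orderOf_dvd_natCard _
    have h6 : (orderOf (QuotientGroup.mk' K x)).Coprime p := Nat.Coprime.coprime_dvd_left h4 hx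
    have h7 : orderOf (QuotientGroup.mk' K x) = 1 :=
      Nat.Coprime.eq_one_of_dvd (Nat.Coprime.pow_right _ h6) h5
    have h8 : QuotientGroup.mk' K x = 1 := orderOf_eq_one_iff.mp h7
    exact (QuotientGroup.eq_one_iff x).mp h8

end P6

/-- **P6 (Tate glue)**: `O_{p'}(G) = 1`, `N ⊴ G`, `P ∩ N ≤ P'` ⟹ `N` is a `p`-group
(landed S0081 + `P' ≤ Φ(P)` + the normal `p`-complement of `N` is characteristic). -/
theorem isPGroup_of_inf_le_commutator [Finite G] {p : ℕ} [Fact p.Prime] (P : Sylow p G)
    (hcore : Cfsg.pPrimeCore p G = ⊥) (N : Subgroup G) [hNn : N.Normal]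
    (h : (P : Subgroup G) ⊓ N ≤ ⁅(P : Subgroup G), (P : Subgroup G)⁆) : IsPGroup p N := by
  have h1 : N ⊓ (P : Subgroup G) ≤ (frattini (P : Subgroup G)).map (P : Subgroup G).subtype := by
    rw [inf_comm]
    refine h.trans ?_
    rw [← Subgroup.map_subtype_commutator]
    exact Subgroup.map_mono (Cfsg.Agent.Lib.Lead.commutator_le_frattini_of_isPGroup P.isPGroup')
  obtain ⟨Q, K, hKn, hKQ⟩ := Cfsg.Agent.Lib.Lead.tate P N h1
  have := hKn
  have hmem := P6.mem_iff_coprime Q K hKQ
  have hcard : Nat.card K * Nat.card Q = Nat.card N := hKQ.card_mul_card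
  have hQ : Nat.card Q = p ^ (Nat.card N).factorization p := Q.card_eq_multiplicity
  -- the image of K in G is normal of order prime to p
  have hK₀n : (K.map N.subtype).Normal := by
    constructor
    rintro _ ⟨k, hk, rfl⟩ g
    have hgN : g * (k : G) * g⁻¹ ∈ N := hNn.conj_mem _ k.2 g
    refine ⟨⟨g * (k : G) * g⁻¹, hgN⟩, (hmem _).mpr ?_, rfl⟩
    have h2 : orderOf (⟨g * (k : G) * g⁻¹, hgN⟩ : N) = orderOf k := by
      rw [← Subgroup.orderOf_coe, ← Subgroup.orderOf_coe]
      have : g * (k : G) * g⁻¹ = MulAut.conj g (k : G) := by simp [MulAut.conj_apply]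
      show orderOf (g * (k : G) * g⁻¹) = orderOf (k : G)
      rw [this, MulEquiv.orderOf_eq]
    rw [h2]
    exact (hmem k).mp hk
  have hK₀c : (Nat.card (K.map N.subtype)).Coprime p := by
    rw [Subgroup.card_map_of_injective N.subtype_injective]
    exact P6.card_coprime Q K hKQ
  have hK₀ : K.map N.subtype ≤ Cfsg.pPrimeCore p G := le_sSup ⟨hK₀n, hK₀c⟩
  rw [hcore, le_bot_iff] at hK₀
  have hKbot : K = ⊥ := (Subgroup.map_eq_bot_iff_of_injective K N.subtype_injective).mp hK₀
  have hNcard : Nat.card N = p ^ (Nat.card N).factorization p := by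
    have h3 : Nat.card N = Nat.card Q := by
      rw [← hcard, hKbot, Subgroup.card_bot, one_mul]
    exact h3.trans hQ
  exact IsPGroup.of_card hNcard

end Cfsg.Agent.Lib.Helper2.PAb
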