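import Mathlib
import Cfsg.Agent.Lib.Helper9.Hyperfocal1

/-!
# S4587 swarm, packages P8a / P8b

Sylow subgroups meet subnormal subgroups of depth 2 in Sylow subgroups, and the Sylow subgroup of an
internal direct product of two normal subgroups of `N` is the product of its intersections.
-/

set_option autoImplicit false

namespace Cfsg.Agent.Lib.Helper2.PAb

variable {G : Type*} [Group G]

/-- **P8a (Sylow ∩ subnormal of depth 2)**. -/
theorem card_sylow_inf [Finite G] {p : ℕ} [Fact p.Prime] (P : Sylow p G) (N : Subgroup G)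
    [N.Normal] (S : Subgroup G) (hSN : S ≤ N) (hnS : N ≤ Subgroup.normalizer (S : Set G)) :
    Nat.card ↥((P : Subgroup G) ⊓ S) = p ^ (Nat.card S).factorization p := by
  obtain ⟨T, hT⟩ := Cfsg.Agent.Lib.Helper9.exists_sylow_map_eq_inf P N
  haveI : (S.subgroupOf N).Normal := Subgroup.normal_subgroupOf_of_le_normalizer hnS
  obtain ⟨T₂, hT₂⟩ := Cfsg.Agent.Lib.Helper9.exists_sylow_map_eq_inf T (S.subgroupOf N)
  have h1 : ((T : Subgroup N) ⊓ S.subgroupOf N).map N.subtype = (P : Subgroup G) ⊓ S := by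
    rw [Subgroup.map_inf _ _ _ N.subtype_injective, hT, Subgroup.subgroupOf_map_subtype]
    apply le_antisymm
    · exact le_inf (inf_le_left.trans inf_le_left) (inf_le_right.trans inf_le_left)
    · exact le_inf (le_inf inf_le_left (inf_le_right.trans hSN)) (le_inf inf_le_right (inf_le_right.trans hSN))
  have h2 : Nat.card ↥((P : Subgroup G) ⊓ S) = Nat.card ↥((T : Subgroup N) ⊓ S.subgroupOf N) := by
    rw [← h1, Subgroup.card_map_of_injective N.subtype_injective]
  have h3 : Nat.card ↥((T : Subgroup N) ⊓ S.subgroupOf N) = Nat.card (T₂ : Subgroup (S.subgroupOf N)) := by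
    rw [← hT₂, Subgroup.card_map_of_injective (S.subgroupOf N).subtype_injective]
  have h4 : Nat.card (S.subgroupOf N) = Nat.card S :=
    Nat.card_congr (Subgroup.subgroupOfEquivOfLe hSN).toEquiv
  rw [h2, h3, T₂.card_eq_multiplicity, h4]

namespace P8

/-- Elements of two normal subgroups of `N` with trivial intersection commute. -/
theorem commute_of_disjoint {N S V : Subgroup G} (hSN : S ≤ N) (hVN : V ≤ N)
    (hnS : N ≤ Subgroup.normalizer (S : Set G)) (hnV : N ≤ Subgroup.normalizer (V : Set G))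
    (hSV : S ⊓ V = ⊥) : ∀ s ∈ S, ∀ v ∈ V, s * v = v * s := by
  intro s hs v hv
  have h1 : s * v * s⁻¹ * v⁻¹ ∈ S := by
    have : v * s⁻¹ * v⁻¹ ∈ S :=
      (Subgroup.mem_normalizer_iff.mp (hnS (hVN hv)) s⁻¹).mp (S.inv_mem hs)
    have h := S.mul_mem hs this
    have e : s * (v * s⁻¹ * v⁻¹) = s * v * s⁻¹ * v⁻¹ := by group
    rwa [e] at h
  have h2 : s * v * s⁻¹ * v⁻¹ ∈ V := by
    have : s * v * s⁻¹ ∈ V := (Subgroup.mem_normalizer_iff.mp (hnV (hSN hs)) v).mp hv
    exact V.mul_mem this (V.inv_mem hv)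
  have h3 : s * v * s⁻¹ * v⁻¹ ∈ S ⊓ V := ⟨h1, h2⟩
  rw [hSV, Subgroup.mem_bot] at h3
  calc s * v = (s * v * s⁻¹ * v⁻¹) * (v * s) := by group
    _ = v * s := by rw [h3, one_mul]

/-- Lower bound for the order of the join of two subgroups with trivial intersection. -/
theorem card_mul_le_card_sup [Finite G] (A B : Subgroup G) (hAB : A ⊓ B = ⊥) :
    Nat.card A * Nat.card B ≤ Nat.card ↥(A ⊔ B) := by
  rw [← Nat.card_prod]
  let f : A × B → ↥(A ⊔ B) := fun x =>
    ⟨(x.1 : G) * (x.2 : G), (A ⊔ B).mul_mem (le_sup_left (a := A) x.1.2) (le_sup_right (b := B) x.2.2)⟩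
  apply Nat.card_le_card_of_injective f
  rintro ⟨a, b⟩ ⟨a', b'⟩ h
  have h1 : (a : G) * (b : G) = (a' : G) * (b' : G) := congrArg Subtype.val h
  have h2 : (a' : G)⁻¹ * (a : G) = (b' : G) * (b : G)⁻¹ := by
    have : (a' : G)⁻¹ * ((a : G) * (b : G)) * (b : G)⁻¹ = (a' : G)⁻¹ * ((a' : G) * (b' : G)) * (b : G)⁻¹ := by
      rw [h1]
    simpa [mul_assoc] using this
  have h3 : (a' : G)⁻¹ * (a : G) ∈ A ⊓ B := by
    refine ⟨A.mul_mem (A.inv_mem a'.2) a.2, ?_⟩
    rw [h2]
    exact B.mul_mem b'.2 (B.inv_mem b.2)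
  rw [hAB, Subgroup.mem_bot] at h3
  have ha : (a : G) = a' := by
    have := inv_mul_eq_one.mp h3
    exact this.symm
  have hb : (b : G) = b' := by
    rw [ha] at h1
    exact mul_left_cancel h1
  exact Prod.ext (Subtype.ext ha) (Subtype.ext hb)

/-- If the elements of `S` and `V` commute, every element of `S ⊔ V` is a product `s * v`. -/
theorem exists_mul_of_mem_sup {S V : Subgroup G} (hcomm : ∀ s ∈ S, ∀ v ∈ V, s * v = v * s)
    {x : G} (hx : x ∈ S ⊔ V) : ∃ s ∈ S, ∃ v ∈ V, x = s * v := by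
  let M : Subgroup G :=
    { carrier := {x | ∃ s ∈ S, ∃ v ∈ V, x = s * v}
      mul_mem' := by
        rintro _ _ ⟨s, hs, v, hv, rfl⟩ ⟨s', hs', v', hv', rfl⟩
        refine ⟨s * s', S.mul_mem hs hs', v * v', V.mul_mem hv hv', ?_⟩
        calc s * v * (s' * v') = s * (v * s') * v' := by group
          _ = s * (s' * v) * v' := by rw [hcomm s' hs' v hv]
          _ = s * s' * (v * v') := by group
      one_mem' := ⟨1, S.one_mem, 1, V.one_mem, by simp⟩
      inv_mem' := by
        rintro _ ⟨s, hs, v, hv, rfl⟩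
        refine ⟨s⁻¹, S.inv_mem hs, v⁻¹, V.inv_mem hv, ?_⟩
        rw [mul_inv_rev, ← hcomm s⁻¹ (S.inv_mem hs) v⁻¹ (V.inv_mem hv)] }
  have hS : S ≤ M := fun s hs => ⟨s, hs, 1, V.one_mem, by simp⟩
  have hV : V ≤ M := fun v hv => ⟨1, S.one_mem, v, hv, by simp⟩
  exact (sup_le hS hV) hx

/-- The order of an internal direct product. -/
theorem card_eq_mul [Finite G] {N S V : Subgroup G}
    (hcomm : ∀ s ∈ S, ∀ v ∈ V, s * v = v * s) (hSV : S ⊓ V = ⊥) (hsup : S ⊔ V = N) :
    Nat.card N = Nat.card S * Nat.card V := by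
  apply le_antisymm
  · rw [← Nat.card_prod]
    let f : S × V → N := fun x =>
      ⟨(x.1 : G) * (x.2 : G), by
        rw [← hsup]
        exact (S ⊔ V).mul_mem (le_sup_left (a := S) x.1.2) (le_sup_right (b := V) x.2.2)⟩
    apply Nat.card_le_card_of_surjective f
    rintro ⟨x, hx⟩
    rw [← hsup] at hx
    obtain ⟨s, hs, v, hv, rfl⟩ := exists_mul_of_mem_sup hcomm hx
    exact ⟨(⟨s, hs⟩, ⟨v, hv⟩), rfl⟩
  · have := card_mul_le_card_sup S V hSV
    rwa [hsup] at this

end P8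

/-- **P8b (Sylow of an internal direct product)**. -/
theorem sylow_inf_eq_sup [Finite G] {p : ℕ} [Fact p.Prime] (P : Sylow p G) (N : Subgroup G)
    [N.Normal] (S V : Subgroup G) (hSN : S ≤ N) (hVN : V ≤ N) (hnS : N ≤ Subgroup.normalizer (S : Set G))
    (hnV : N ≤ Subgroup.normalizer (V : Set G)) (hSV : S ⊓ V = ⊥) (hsup : S ⊔ V = N) :
    (P : Subgroup G) ⊓ N = ((P : Subgroup G) ⊓ S) ⊔ ((P : Subgroup G) ⊓ V) := by
  have hp : p.Prime := Fact.out
  have hcomm := P8.commute_of_disjoint hSN hVN hnS hnV hSV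
  have hle : ((P : Subgroup G) ⊓ S) ⊔ ((P : Subgroup G) ⊓ V) ≤ (P : Subgroup G) ⊓ N :=
    sup_le (inf_le_inf_left _ hSN) (inf_le_inf_left _ hVN)
  have hN : Nat.card ↥((P : Subgroup G) ⊓ N) = p ^ (Nat.card N).factorization p :=
    card_sylow_inf P N N le_rfl Subgroup.le_normalizer
  have hS : Nat.card ↥((P : Subgroup G) ⊓ S) = p ^ (Nat.card S).factorization p :=
    card_sylow_inf P N S hSN hnS
  have hV : Nat.card ↥((P : Subgroup G) ⊓ V) = p ^ (Nat.card V).factorization p :=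
    card_sylow_inf P N V hVN hnV
  have hcard : Nat.card N = Nat.card S * Nat.card V := P8.card_eq_mul hcomm hSV hsup
  have hfac : (Nat.card N).factorization p = (Nat.card S).factorization p + (Nat.card V).factorization p := by
    rw [hcard, Nat.factorization_mul Nat.card_pos.ne' Nat.card_pos.ne']
    rfl
  have hdisj : ((P : Subgroup G) ⊓ S) ⊓ ((P : Subgroup G) ⊓ V) = ⊥ := by
    rw [eq_bot_iff, ← hSV]
    exact inf_le_inf inf_le_right inf_le_right
  have hge : Nat.card ↥((P : Subgroup G) ⊓ N) ≤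
      Nat.card ↥(((P : Subgroup G) ⊓ S) ⊔ ((P : Subgroup G) ⊓ V)) := by
    have := P8.card_mul_le_card_sup _ _ hdisj
    rw [hS, hV, ← pow_add, ← hfac, ← hN] at this
    exact this
  exact (Subgroup.eq_of_le_of_card_ge hle hge).symm

end Cfsg.Agent.Lib.Helper2.PAb
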