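import Mathlib
import Cfsg.Agent.Lib.Helper9.Siegel6
set_option autoImplicit false
set_option linter.unusedSectionVars false

/-! Eichler transformations of a quadratic form: for a singular vector `u` and a vector `w` orthogonal to `u`,
the isometry `v ↦ v + B(v, w) u - B(v, u) w - Q(w) B(v, u) u`. -/

namespace Cfsg.Agent.Lib.Helper3.PB

open Cfsg.Agent.H9Sieg Matrix

variable {F : Type*} [Field F] {ι : Type} [Fintype ι] [DecidableEq ι]

/-- The hypotheses on the pair of vectors. -/
structure EPair (Q : QuadraticForm F (ι → F)) (u w : ι → F) : Prop where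
  hu : Q u = 0
  huw : bp Q u w = 0

variable {Q : QuadraticForm F (ι → F)}

namespace EPair

variable {u w w' : ι → F}

theorem hwu (h : EPair Q u w) : bp Q w u = 0 := by rw [bp_comm, h.huw]

theorem huu (h : EPair Q u w) : bp Q u u = 0 := bp_self_of_sing h.hu

theorem add (h : EPair Q u w) (h' : EPair Q u w') : EPair Q u (w + w') :=
  ⟨h.hu, by rw [map_add, h.huw, h'.huw, add_zero]⟩

theorem neg (h : EPair Q u w) : EPair Q u (-w) :=
  ⟨h.hu, by rw [map_neg, h.huw, neg_zero]⟩

theorem smul (h : EPair Q u w) (a : F) : EPair Q u (a • w) :=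
  ⟨h.hu, by rw [map_smul, h.huw, smul_zero]⟩

theorem zero (hu : Q u = 0) : EPair Q u 0 := ⟨hu, by rw [map_zero]⟩

theorem map (h : EPair Q u w) (g : ↥(Cfsg.isometryGroup F ⇑Q)) : EPair Q (mat g *ᵥ u) (mat g *ᵥ w) :=
  ⟨by rw [Q_mulVec, h.hu], by rw [bp_mulVec, h.huw]⟩

end EPair

/-- The Eichler transformation as a linear map. -/
noncomputable def eichL (Q : QuadraticForm F (ι → F)) (u w : ι → F) : (ι → F) →ₗ[F] (ι → F) where
  toFun v := v + bp Q v w • u - bp Q v u • w - (Q w * bp Q v u) • u
  map_add' v v' := by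
    simp only [map_add, LinearMap.add_apply]
    module
  map_smul' a v := by
    simp only [map_smul, LinearMap.smul_apply, smul_eq_mul, RingHom.id_apply]
    module

theorem eichL_apply (u w v : ι → F) :
    eichL Q u w v = v + bp Q v w • u - bp Q v u • w - (Q w * bp Q v u) • u := rfl

/-- The matrix of the Eichler transformation. -/
noncomputable def eichM (Q : QuadraticForm F (ι → F)) (u w : ι → F) : Matrix ι ι F :=
  LinearMap.toMatrix' (eichL Q u w)

theorem eichM_mulVec (u w v : ι → F) :
    eichM Q u w *ᵥ v = v + bp Q v w • u - bp Q v u • w - (Q w * bp Q v u) • u := by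
  unfold eichM
  rw [← Matrix.toLin'_apply, Matrix.toLin'_toMatrix', eichL_apply]

section pair

variable {u w w' : ι → F}

theorem bp_eich_u (h : EPair Q u w) (v : ι → F) :
    bp Q (v + bp Q v w • u - bp Q v u • w - (Q w * bp Q v u) • u) u = bp Q v u := by
  simp only [map_add, map_smul, map_sub, LinearMap.add_apply, LinearMap.smul_apply,
    LinearMap.sub_apply, smul_eq_mul, h.huu, h.hwu]
  ring

theorem bp_eich_w (h : EPair Q u w) (h' : EPair Q u w') (v : ι → F) :
    bp Q (v + bp Q v w' • u - bp Q v u • w' - (Q w' * bp Q v u) • u) w =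
      bp Q v w - bp Q v u * bp Q w' w := by
  simp only [map_add, map_smul, map_sub, LinearMap.add_apply, LinearMap.smul_apply,
    LinearMap.sub_apply, smul_eq_mul, h.huw]
  ring

theorem eichM_mul (h : EPair Q u w) (h' : EPair Q u w') :
    eichM Q u w * eichM Q u w' = eichM Q u (w + w') := by
  apply H9SLRoot.ext_mulVec
  intro v
  rw [← Matrix.mulVec_mulVec, eichM_mulVec, eichM_mulVec, eichM_mulVec, bp_eich_u h', bp_eich_w h h',
    Q_add, map_add, bp_comm w w']
  module

theorem eichM_zero : eichM Q u 0 = 1 := by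
  apply H9SLRoot.ext_mulVec
  intro v
  rw [eichM_mulVec, Matrix.one_mulVec, map_zero, map_zero]
  module

theorem Q_eichM (h : EPair Q u w) (v : ι → F) : Q (eichM Q u w *ᵥ v) = Q v := by
  have e : v + bp Q v w • u - bp Q v u • w - (Q w * bp Q v u) • u =
      v + ((bp Q v w - Q w * bp Q v u) • u - bp Q v u • w) := by module
  rw [eichM_mulVec, e, Q_add, Q_sub, Q_smul, Q_smul, h.hu]
  simp only [map_add, map_smul, map_sub, LinearMap.add_apply, LinearMap.smul_apply,
    LinearMap.sub_apply, smul_eq_mul, h.huw]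
  ring

end pair

open Classical in
/-- The Eichler transformation as an element of the isometry group. -/
noncomputable def eich (Q : QuadraticForm F (ι → F)) (u w : ι → F) : ↥(Cfsg.isometryGroup F ⇑Q) :=
  if h : EPair Q u w then
    ⟨⟨eichM Q u w, eichM Q u (-w), by rw [eichM_mul h h.neg, add_neg_cancel, eichM_zero],
      by rw [eichM_mul h.neg h, neg_add_cancel, eichM_zero]⟩, fun v _ => Q_eichM h v⟩
  else 1

section pair2

variable {u w w' : ι → F}

theorem eich_coe (h : EPair Q u w) : mat (eich Q u w) = eichM Q u w := by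
  unfold eich
  rw [dif_pos h]

theorem eich_mulVec (h : EPair Q u w) (v : ι → F) :
    mat (eich Q u w) *ᵥ v = v + bp Q v w • u - bp Q v u • w - (Q w * bp Q v u) • u := by
  rw [eich_coe h, eichM_mulVec]

theorem eich_mul (h : EPair Q u w) (h' : EPair Q u w') : eich Q u w * eich Q u w' = eich Q u (w + w') := by
  apply iso_ext
  intro v
  rw [coe_mul_mulVec, eich_coe h, eich_coe h', eich_coe (h.add h'), Matrix.mulVec_mulVec, eichM_mul h h']

theorem eich_zero (hu : Q u = 0) : eich Q u 0 = 1 := by
  apply iso_ext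
  intro v
  rw [eich_coe (EPair.zero hu), eichM_zero, coe_one_mulVec, Matrix.one_mulVec]

theorem eich_inv (h : EPair Q u w) : (eich Q u w)⁻¹ = eich Q u (-w) := by
  rw [inv_eq_iff_mul_eq_one, eich_mul h h.neg, add_neg_cancel, eich_zero h.hu]

theorem eich_conj (h : EPair Q u w) (g : ↥(Cfsg.isometryGroup F ⇑Q)) :
    g * eich Q u w * g⁻¹ = eich Q (mat g *ᵥ u) (mat g *ᵥ w) := by
  apply iso_ext
  intro v
  rw [coe_mul_mulVec, coe_mul_mulVec, eich_mulVec h, eich_mulVec (h.map g), bp_inv_mulVec,
    bp_inv_mulVec, Q_mulVec, Matrix.mulVec_sub, Matrix.mulVec_sub, Matrix.mulVec_add, mulVec_inv_mulVec,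
    Matrix.mulVec_smul, Matrix.mulVec_smul, Matrix.mulVec_smul]

theorem eich_smul_left (h : EPair Q u w) (a : F) : eich Q (a • u) w = eich Q u (a • w) := by
  have h1 : EPair Q (a • u) w := ⟨by rw [Q_smul, h.hu, mul_zero], by
    rw [map_smul, LinearMap.smul_apply, h.huw, smul_zero]⟩
  apply iso_ext
  intro v
  rw [eich_mulVec h1, eich_mulVec (h.smul a), Q_smul]
  simp only [map_smul, smul_eq_mul]
  module

end pair2

end Cfsg.Agent.Lib.Helper3.PB
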