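import Mathlib
import Cfsg.Agent.Lib.Helper3.PB1
import Cfsg.Agent.Lib.Helper5.QuadOdd
set_option autoImplicit false
set_option linter.unusedSectionVars false

/-! Coordinates for the five-dimensional quadratic form `x₀² + x₁y₁ + x₂y₂` and its root elements. -/

namespace Cfsg.Agent.Lib.Helper3.PB

open Cfsg.Agent.H9Sieg Cfsg.Agent.Lib.Helper5.QuadOdd Matrix

/-- The index type of the five-dimensional space. -/
abbrev I5 : Type := Unit ⊕ (Fin 2 ⊕ Fin 2)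

variable {F : Type*} [Field F]

/-- The five-dimensional form as a quadratic form. -/
noncomputable abbrev Qo (F : Type*) [Field F] : QuadraticForm F (I5 → F) := QO 2 F

/-- A vector given by its five coordinates. -/
def vec5 (a b c d e : F) : I5 → F := Sum.elim (fun _ => a) (Sum.elim ![b, c] ![d, e])

theorem vec5_eta (v : I5 → F) : v = vec5 (v (Sum.inl ())) (v (Sum.inr (Sum.inl 0))) (v (Sum.inr (Sum.inl 1)))
    (v (Sum.inr (Sum.inr 0))) (v (Sum.inr (Sum.inr 1))) := by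
  funext j
  rcases j with ⟨⟩ | j | j
  · rfl
  · fin_cases j <;> rfl
  · fin_cases j <;> rfl

theorem vec5_inj {a b c d e a' b' c' d' e' : F} (h : vec5 a b c d e = vec5 a' b' c' d' e') :
    a = a' ∧ b = b' ∧ c = c' ∧ d = d' ∧ e = e' :=
  ⟨congrFun h (Sum.inl ()), congrFun h (Sum.inr (Sum.inl 0)), congrFun h (Sum.inr (Sum.inl 1)),
    congrFun h (Sum.inr (Sum.inr 0)), congrFun h (Sum.inr (Sum.inr 1))⟩

theorem add_vec5 (a b c d e a' b' c' d' e' : F) :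
    vec5 a b c d e + vec5 a' b' c' d' e' = vec5 (a + a') (b + b') (c + c') (d + d') (e + e') := by
  funext j
  rcases j with ⟨⟩ | j | j
  · rfl
  · fin_cases j <;> rfl
  · fin_cases j <;> rfl

theorem sub_vec5 (a b c d e a' b' c' d' e' : F) :
    vec5 a b c d e - vec5 a' b' c' d' e' = vec5 (a - a') (b - b') (c - c') (d - d') (e - e') := by
  funext j
  rcases j with ⟨⟩ | j | j
  · rfl
  · fin_cases j <;> rfl
  · fin_cases j <;> rfl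

theorem smul_vec5 (x a b c d e : F) :
    x • vec5 a b c d e = vec5 (x * a) (x * b) (x * c) (x * d) (x * e) := by
  funext j
  rcases j with ⟨⟩ | j | j
  · rfl
  · fin_cases j <;> rfl
  · fin_cases j <;> rfl

theorem neg_vec5 (a b c d e : F) : -vec5 a b c d e = vec5 (-a) (-b) (-c) (-d) (-e) := by
  funext j
  rcases j with ⟨⟩ | j | j
  · rfl
  · fin_cases j <;> rfl
  · fin_cases j <;> rfl

theorem zero_vec5 : (0 : I5 → F) = vec5 0 0 0 0 0 := by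
  funext j
  rcases j with ⟨⟩ | j | j
  · rfl
  · fin_cases j <;> rfl
  · fin_cases j <;> rfl

theorem Qo_vec5 (a b c d e : F) : Qo F (vec5 a b c d e) = a ^ 2 + b * d + c * e := by
  rw [QO_apply]
  unfold Cfsg.quadFormOdd
  rw [Fin.sum_univ_two]
  simp only [vec5, Sum.elim_inl, Sum.elim_inr, Matrix.cons_val_zero, Matrix.cons_val_one]
  ring

theorem bp_vec5 (a b c d e a' b' c' d' e' : F) :
    bp (Qo F) (vec5 a b c d e) (vec5 a' b' c' d' e') = 2 * a * a' + b * d' + b' * d + c * e' + c' * e := by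
  rw [bp_apply, add_vec5, Qo_vec5, Qo_vec5, Qo_vec5]
  ring

/-- The general formula for an Eichler transformation in coordinates. -/
theorem eich_vec5 (u₀ u₁ u₂ u₃ u₄ w₀ w₁ w₂ w₃ w₄ : F)
    (h : EPair (Qo F) (vec5 u₀ u₁ u₂ u₃ u₄) (vec5 w₀ w₁ w₂ w₃ w₄)) (a b c d e : F) :
    mat (eich (Qo F) (vec5 u₀ u₁ u₂ u₃ u₄) (vec5 w₀ w₁ w₂ w₃ w₄)) *ᵥ vec5 a b c d e =
      vec5
        (a + (2 * a * w₀ + b * w₃ + w₁ * d + c * w₄ + w₂ * e) * u₀ - (2 * a * u₀ + b * u₃ + u₁ * d + c * u₄ + u₂ * e) * w₀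
          - (w₀ ^ 2 + w₁ * w₃ + w₂ * w₄) * (2 * a * u₀ + b * u₃ + u₁ * d + c * u₄ + u₂ * e) * u₀)
        (b + (2 * a * w₀ + b * w₃ + w₁ * d + c * w₄ + w₂ * e) * u₁ - (2 * a * u₀ + b * u₃ + u₁ * d + c * u₄ + u₂ * e) * w₁
          - (w₀ ^ 2 + w₁ * w₃ + w₂ * w₄) * (2 * a * u₀ + b * u₃ + u₁ * d + c * u₄ + u₂ * e) * u₁)
        (c + (2 * a * w₀ + b * w₃ + w₁ * d + c * w₄ + w₂ * e) * u₂ - (2 * a * u₀ + b * u₃ + u₁ * d + c * u₄ + u₂ * e) * w₂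
          - (w₀ ^ 2 + w₁ * w₃ + w₂ * w₄) * (2 * a * u₀ + b * u₃ + u₁ * d + c * u₄ + u₂ * e) * u₂)
        (d + (2 * a * w₀ + b * w₃ + w₁ * d + c * w₄ + w₂ * e) * u₃ - (2 * a * u₀ + b * u₃ + u₁ * d + c * u₄ + u₂ * e) * w₃
          - (w₀ ^ 2 + w₁ * w₃ + w₂ * w₄) * (2 * a * u₀ + b * u₃ + u₁ * d + c * u₄ + u₂ * e) * u₃)
        (e + (2 * a * w₀ + b * w₃ + w₁ * d + c * w₄ + w₂ * e) * u₄ - (2 * a * u₀ + b * u₃ + u₁ * d + c * u₄ + u₂ * e) * w₄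
          - (w₀ ^ 2 + w₁ * w₃ + w₂ * w₄) * (2 * a * u₀ + b * u₃ + u₁ * d + c * u₄ + u₂ * e) * u₄) := by
  rw [eich_mulVec h, bp_vec5, bp_vec5, Qo_vec5, smul_vec5, smul_vec5, smul_vec5, add_vec5, sub_vec5, sub_vec5]

theorem epair_vec5 (u₀ u₁ u₂ u₃ u₄ w₀ w₁ w₂ w₃ w₄ : F) (h1 : u₀ ^ 2 + u₁ * u₃ + u₂ * u₄ = 0)
    (h2 : 2 * u₀ * w₀ + u₁ * w₃ + w₁ * u₃ + u₂ * w₄ + w₂ * u₄ = 0) :
    EPair (Qo F) (vec5 u₀ u₁ u₂ u₃ u₄) (vec5 w₀ w₁ w₂ w₃ w₄) :=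
  ⟨by rw [Qo_vec5, h1], by rw [bp_vec5, h2]⟩

end Cfsg.Agent.Lib.Helper3.PB
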