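import Mathlib
import Cfsg.Prelude.Def_Steinberg
import Cfsg.Prelude.Def_SteinbergCover
import Cfsg.Prelude.Def_ChevB2
import Cfsg.Agent.Lib.Helper3.PB2
import Cfsg.Agent.Lib.Helper3.StB1
set_option autoImplicit false
set_option linter.unusedSectionVars false
set_option linter.unusedSimpArgs false
set_option linter.unusedTactic false

/-! The root elements of type B₂ in the orthogonal group of `x₀² + x₁y₁ + x₂y₂`, and Steinberg's relations. -/

namespace Cfsg.Agent.Lib.Helper3.PB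

open Cfsg.Agent.H9Sieg Cfsg.Agent.Lib.Helper5.QuadOdd Matrix Cfsg.Lie
open Cfsg.Agent.Lib.Helper3.StB

variable {F : Type*} [Field F]

/-- The root elements. -/
noncomputable def X5 (r : ℕ) (t : F) : ↥(Cfsg.isometryGroup F ⇑(Qo F)) :=
  match r with
  | 0 => eich (Qo F) (vec5 0 0 0 1 0) (vec5 0 0 0 0 (-t))
  | 1 => eich (Qo F) (vec5 0 0 0 1 0) (vec5 (-t) 0 0 0 0)
  | 2 => eich (Qo F) (vec5 0 0 0 0 1) (vec5 (-t) 0 0 0 0)
  | 3 => eich (Qo F) (vec5 0 0 0 1 0) (vec5 0 0 (-t) 0 0)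
  | 4 => eich (Qo F) (vec5 0 1 0 0 0) (vec5 0 0 0 0 t)
  | 5 => eich (Qo F) (vec5 0 0 1 0 0) (vec5 t 0 0 0 0)
  | 6 => eich (Qo F) (vec5 0 1 0 0 0) (vec5 t 0 0 0 0)
  | 7 => eich (Qo F) (vec5 0 1 0 0 0) (vec5 0 0 t 0 0)
  | _ => 1

theorem X5_0_vec (t a b c d e : F) :
    mat (X5 0 t) *ᵥ vec5 a b c d e = vec5 a b c (d + (-t) * c) (e - (-t) * b) := by
  show mat (eich (Qo F) _ _) *ᵥ _ = _
  rw [eich_vec5 _ _ _ _ _ _ _ _ _ _ (epair_vec5 _ _ _ _ _ _ _ _ _ _ (by ring) (by ring))]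
  congr 1 <;> ring

theorem X5_1_vec (t a b c d e : F) :
    mat (X5 1 t) *ᵥ vec5 a b c d e = vec5 (a - (-t) * b) b c (d + 2 * (-t) * a - (-t) ^ 2 * b) e := by
  show mat (eich (Qo F) _ _) *ᵥ _ = _
  rw [eich_vec5 _ _ _ _ _ _ _ _ _ _ (epair_vec5 _ _ _ _ _ _ _ _ _ _ (by ring) (by ring))]
  congr 1 <;> ring

theorem X5_2_vec (t a b c d e : F) :
    mat (X5 2 t) *ᵥ vec5 a b c d e = vec5 (a - (-t) * c) b c d (e + 2 * (-t) * a - (-t) ^ 2 * c) := by
  show mat (eich (Qo F) _ _) *ᵥ _ = _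
  rw [eich_vec5 _ _ _ _ _ _ _ _ _ _ (epair_vec5 _ _ _ _ _ _ _ _ _ _ (by ring) (by ring))]
  congr 1 <;> ring

theorem X5_3_vec (t a b c d e : F) :
    mat (X5 3 t) *ᵥ vec5 a b c d e = vec5 a b (c - (-t) * b) (d + (-t) * e) e := by
  show mat (eich (Qo F) _ _) *ᵥ _ = _
  rw [eich_vec5 _ _ _ _ _ _ _ _ _ _ (epair_vec5 _ _ _ _ _ _ _ _ _ _ (by ring) (by ring))]
  congr 1 <;> ring

theorem X5_4_vec (t a b c d e : F) :
    mat (X5 4 t) *ᵥ vec5 a b c d e = vec5 a (b + t * c) c d (e - t * d) := by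
  show mat (eich (Qo F) _ _) *ᵥ _ = _
  rw [eich_vec5 _ _ _ _ _ _ _ _ _ _ (epair_vec5 _ _ _ _ _ _ _ _ _ _ (by ring) (by ring))]
  congr 1 <;> ring

theorem X5_5_vec (t a b c d e : F) :
    mat (X5 5 t) *ᵥ vec5 a b c d e = vec5 (a - t * e) b (c + 2 * t * a - t ^ 2 * e) d e := by
  show mat (eich (Qo F) _ _) *ᵥ _ = _
  rw [eich_vec5 _ _ _ _ _ _ _ _ _ _ (epair_vec5 _ _ _ _ _ _ _ _ _ _ (by ring) (by ring))]
  congr 1 <;> ring

theorem X5_6_vec (t a b c d e : F) :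
    mat (X5 6 t) *ᵥ vec5 a b c d e = vec5 (a - t * d) (b + 2 * t * a - t ^ 2 * d) c d e := by
  show mat (eich (Qo F) _ _) *ᵥ _ = _
  rw [eich_vec5 _ _ _ _ _ _ _ _ _ _ (epair_vec5 _ _ _ _ _ _ _ _ _ _ (by ring) (by ring))]
  congr 1 <;> ring

theorem X5_7_vec (t a b c d e : F) :
    mat (X5 7 t) *ᵥ vec5 a b c d e = vec5 a (b + t * e) (c - t * d) d e := by
  show mat (eich (Qo F) _ _) *ᵥ _ = _
  rw [eich_vec5 _ _ _ _ _ _ _ _ _ _ (epair_vec5 _ _ _ _ _ _ _ _ _ _ (by ring) (by ring))]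
  congr 1 <;> ring

theorem X5_add (r : ℕ) (x y : F) : X5 r (x + y) = X5 r x * X5 r y := by
  by_cases hr : r < 8
  · apply iso_ext
    intro v
    rw [vec5_eta v]
    interval_cases r <;>
    · simp only [coe_mul_mulVec, X5_0_vec, X5_1_vec, X5_2_vec, X5_3_vec, X5_4_vec, X5_5_vec, X5_6_vec, X5_7_vec]
      congr 1 <;> ring
  · have : ∀ z : F, X5 r z = 1 := by
      intro z
      unfold X5
      split <;> first | omega | rfl
    rw [this, this, this, one_mul]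

theorem X5_zero (r : ℕ) : X5 r (0 : F) = 1 := by
  have h := X5_add r (0 : F) 0
  rw [add_zero] at h
  exact (mul_eq_left.1 h.symm)

theorem X5_inv (r : ℕ) (x : F) : (X5 r x)⁻¹ = X5 r (-x) := by
  rw [inv_eq_iff_mul_eq_one, ← X5_add, add_neg_cancel, X5_zero]

theorem X5_comm_0_1 (t u : F) :
    X5 1 (-u) * X5 0 (-t) * X5 1 u * X5 0 t = 1 := by
  apply iso_ext
  intro v
  rw [vec5_eta v]
  simp only [coe_mul_mulVec, coe_one_mulVec, X5_0_vec, X5_1_vec, X5_2_vec, X5_3_vec, X5_4_vec, X5_5_vec, X5_6_vec, X5_7_vec]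
  congr 1 <;> (push_cast; ring)

theorem commTerms_0_1 : chevB2.commTerms 0 1 = [] := by decide +kernel

theorem X5_comm_0_2 (t u : F) :
    X5 2 (-u) * X5 0 (-t) * X5 2 u * X5 0 t = 1 := by
  apply iso_ext
  intro v
  rw [vec5_eta v]
  simp only [coe_mul_mulVec, coe_one_mulVec, X5_0_vec, X5_1_vec, X5_2_vec, X5_3_vec, X5_4_vec, X5_5_vec, X5_6_vec, X5_7_vec]
  congr 1 <;> (push_cast; ring)

theorem commTerms_0_2 : chevB2.commTerms 0 2 = [] := by decide +kernel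

theorem X5_comm_0_3 (t u : F) :
    X5 3 (-u) * X5 0 (-t) * X5 3 u * X5 0 t = 1 := by
  apply iso_ext
  intro v
  rw [vec5_eta v]
  simp only [coe_mul_mulVec, coe_one_mulVec, X5_0_vec, X5_1_vec, X5_2_vec, X5_3_vec, X5_4_vec, X5_5_vec, X5_6_vec, X5_7_vec]
  congr 1 <;> (push_cast; ring)

theorem commTerms_0_3 : chevB2.commTerms 0 3 = [] := by decide +kernel

theorem X5_comm_0_4 (t u : F) :
    X5 4 (-u) * X5 0 (-t) * X5 4 u * X5 0 t = 1 := by
  apply iso_ext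
  intro v
  rw [vec5_eta v]
  simp only [coe_mul_mulVec, coe_one_mulVec, X5_0_vec, X5_1_vec, X5_2_vec, X5_3_vec, X5_4_vec, X5_5_vec, X5_6_vec, X5_7_vec]
  congr 1 <;> (push_cast; ring)

theorem commTerms_0_4 : chevB2.commTerms 0 4 = [] := by decide +kernel

theorem X5_comm_0_5 (t u : F) :
    X5 5 (-u) * X5 0 (-t) * X5 5 u * X5 0 t = X5 1 (((1 : ℤ) : F) * (-t) ^ 1 * u ^ 1) * X5 3 (((-1 : ℤ) : F) * (-t) ^ 1 * u ^ 2) := by
  apply iso_ext
  intro v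
  rw [vec5_eta v]
  simp only [coe_mul_mulVec, coe_one_mulVec, X5_0_vec, X5_1_vec, X5_2_vec, X5_3_vec, X5_4_vec, X5_5_vec, X5_6_vec, X5_7_vec]
  congr 1 <;> (push_cast; ring)

theorem commTerms_0_5 : chevB2.commTerms 0 5 = [(1, 1, 1, 1), (3, -1, 1, 2)] := by decide +kernel

theorem X5_comm_0_6 (t u : F) :
    X5 6 (-u) * X5 0 (-t) * X5 6 u * X5 0 t = X5 2 (((-1 : ℤ) : F) * (-t) ^ 1 * u ^ 1) * X5 4 (((1 : ℤ) : F) * (-t) ^ 1 * u ^ 2) := by
  apply iso_ext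
  intro v
  rw [vec5_eta v]
  simp only [coe_mul_mulVec, coe_one_mulVec, X5_0_vec, X5_1_vec, X5_2_vec, X5_3_vec, X5_4_vec, X5_5_vec, X5_6_vec, X5_7_vec]
  congr 1 <;> (push_cast; ring)

theorem commTerms_0_6 : chevB2.commTerms 0 6 = [(2, -1, 1, 1), (4, 1, 1, 2)] := by decide +kernel

theorem X5_comm_1_0 (t u : F) :
    X5 0 (-u) * X5 1 (-t) * X5 0 u * X5 1 t = 1 := by
  apply iso_ext
  intro v
  rw [vec5_eta v]
  simp only [coe_mul_mulVec, coe_one_mulVec, X5_0_vec, X5_1_vec, X5_2_vec, X5_3_vec, X5_4_vec, X5_5_vec, X5_6_vec, X5_7_vec]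
  congr 1 <;> (push_cast; ring)

theorem commTerms_1_0 : chevB2.commTerms 1 0 = [] := by decide +kernel

theorem X5_comm_1_2 (t u : F) :
    X5 2 (-u) * X5 1 (-t) * X5 2 u * X5 1 t = X5 0 (((2 : ℤ) : F) * (-t) ^ 1 * u ^ 1) := by
  apply iso_ext
  intro v
  rw [vec5_eta v]
  simp only [coe_mul_mulVec, coe_one_mulVec, X5_0_vec, X5_1_vec, X5_2_vec, X5_3_vec, X5_4_vec, X5_5_vec, X5_6_vec, X5_7_vec]
  congr 1 <;> (push_cast; ring)

theorem commTerms_1_2 : chevB2.commTerms 1 2 = [(0, 2, 1, 1)] := by decide +kernel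

theorem X5_comm_1_3 (t u : F) :
    X5 3 (-u) * X5 1 (-t) * X5 3 u * X5 1 t = 1 := by
  apply iso_ext
  intro v
  rw [vec5_eta v]
  simp only [coe_mul_mulVec, coe_one_mulVec, X5_0_vec, X5_1_vec, X5_2_vec, X5_3_vec, X5_4_vec, X5_5_vec, X5_6_vec, X5_7_vec]
  congr 1 <;> (push_cast; ring)

theorem commTerms_1_3 : chevB2.commTerms 1 3 = [] := by decide +kernel

theorem X5_comm_1_4 (t u : F) :
    X5 4 (-u) * X5 1 (-t) * X5 4 u * X5 1 t = X5 2 (((1 : ℤ) : F) * (-t) ^ 1 * u ^ 1) * X5 0 (((1 : ℤ) : F) * (-t) ^ 2 * u ^ 1) := by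
  apply iso_ext
  intro v
  rw [vec5_eta v]
  simp only [coe_mul_mulVec, coe_one_mulVec, X5_0_vec, X5_1_vec, X5_2_vec, X5_3_vec, X5_4_vec, X5_5_vec, X5_6_vec, X5_7_vec]
  congr 1 <;> (push_cast; ring)

theorem commTerms_1_4 : chevB2.commTerms 1 4 = [(2, 1, 1, 1), (0, 1, 2, 1)] := by decide +kernel

theorem X5_comm_1_5 (t u : F) :
    X5 5 (-u) * X5 1 (-t) * X5 5 u * X5 1 t = X5 3 (((-2 : ℤ) : F) * (-t) ^ 1 * u ^ 1) := by
  apply iso_ext
  intro v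
  rw [vec5_eta v]
  simp only [coe_mul_mulVec, coe_one_mulVec, X5_0_vec, X5_1_vec, X5_2_vec, X5_3_vec, X5_4_vec, X5_5_vec, X5_6_vec, X5_7_vec]
  congr 1 <;> (push_cast; ring)

theorem commTerms_1_5 : chevB2.commTerms 1 5 = [(3, -2, 1, 1)] := by decide +kernel

theorem X5_comm_1_7 (t u : F) :
    X5 7 (-u) * X5 1 (-t) * X5 7 u * X5 1 t = X5 5 (((-1 : ℤ) : F) * (-t) ^ 1 * u ^ 1) * X5 3 (((1 : ℤ) : F) * (-t) ^ 2 * u ^ 1) := by
  apply iso_ext
  intro v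
  rw [vec5_eta v]
  simp only [coe_mul_mulVec, coe_one_mulVec, X5_0_vec, X5_1_vec, X5_2_vec, X5_3_vec, X5_4_vec, X5_5_vec, X5_6_vec, X5_7_vec]
  congr 1 <;> (push_cast; ring)

theorem commTerms_1_7 : chevB2.commTerms 1 7 = [(5, -1, 1, 1), (3, 1, 2, 1)] := by decide +kernel

theorem X5_comm_2_0 (t u : F) :
    X5 0 (-u) * X5 2 (-t) * X5 0 u * X5 2 t = 1 := by
  apply iso_ext
  intro v
  rw [vec5_eta v]
  simp only [coe_mul_mulVec, coe_one_mulVec, X5_0_vec, X5_1_vec, X5_2_vec, X5_3_vec, X5_4_vec, X5_5_vec, X5_6_vec, X5_7_vec]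
  congr 1 <;> (push_cast; ring)

theorem commTerms_2_0 : chevB2.commTerms 2 0 = [] := by decide +kernel

theorem X5_comm_2_1 (t u : F) :
    X5 1 (-u) * X5 2 (-t) * X5 1 u * X5 2 t = X5 0 (((-2 : ℤ) : F) * (-t) ^ 1 * u ^ 1) := by
  apply iso_ext
  intro v
  rw [vec5_eta v]
  simp only [coe_mul_mulVec, coe_one_mulVec, X5_0_vec, X5_1_vec, X5_2_vec, X5_3_vec, X5_4_vec, X5_5_vec, X5_6_vec, X5_7_vec]
  congr 1 <;> (push_cast; ring)

theorem commTerms_2_1 : chevB2.commTerms 2 1 = [(0, -2, 1, 1)] := by decide +kernel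

theorem X5_comm_2_3 (t u : F) :
    X5 3 (-u) * X5 2 (-t) * X5 3 u * X5 2 t = X5 1 (((1 : ℤ) : F) * (-t) ^ 1 * u ^ 1) * X5 0 (((-1 : ℤ) : F) * (-t) ^ 2 * u ^ 1) := by
  apply iso_ext
  intro v
  rw [vec5_eta v]
  simp only [coe_mul_mulVec, coe_one_mulVec, X5_0_vec, X5_1_vec, X5_2_vec, X5_3_vec, X5_4_vec, X5_5_vec, X5_6_vec, X5_7_vec]
  congr 1 <;> (push_cast; ring)

theorem commTerms_2_3 : chevB2.commTerms 2 3 = [(1, 1, 1, 1), (0, -1, 2, 1)] := by decide +kernel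

theorem X5_comm_2_4 (t u : F) :
    X5 4 (-u) * X5 2 (-t) * X5 4 u * X5 2 t = 1 := by
  apply iso_ext
  intro v
  rw [vec5_eta v]
  simp only [coe_mul_mulVec, coe_one_mulVec, X5_0_vec, X5_1_vec, X5_2_vec, X5_3_vec, X5_4_vec, X5_5_vec, X5_6_vec, X5_7_vec]
  congr 1 <;> (push_cast; ring)

theorem commTerms_2_4 : chevB2.commTerms 2 4 = [] := by decide +kernel

theorem X5_comm_2_6 (t u : F) :
    X5 6 (-u) * X5 2 (-t) * X5 6 u * X5 2 t = X5 4 (((-2 : ℤ) : F) * (-t) ^ 1 * u ^ 1) := by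
  apply iso_ext
  intro v
  rw [vec5_eta v]
  simp only [coe_mul_mulVec, coe_one_mulVec, X5_0_vec, X5_1_vec, X5_2_vec, X5_3_vec, X5_4_vec, X5_5_vec, X5_6_vec, X5_7_vec]
  congr 1 <;> (push_cast; ring)

theorem commTerms_2_6 : chevB2.commTerms 2 6 = [(4, -2, 1, 1)] := by decide +kernel

theorem X5_comm_2_7 (t u : F) :
    X5 7 (-u) * X5 2 (-t) * X5 7 u * X5 2 t = X5 6 (((1 : ℤ) : F) * (-t) ^ 1 * u ^ 1) * X5 4 (((-1 : ℤ) : F) * (-t) ^ 2 * u ^ 1) := by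
  apply iso_ext
  intro v
  rw [vec5_eta v]
  simp only [coe_mul_mulVec, coe_one_mulVec, X5_0_vec, X5_1_vec, X5_2_vec, X5_3_vec, X5_4_vec, X5_5_vec, X5_6_vec, X5_7_vec]
  congr 1 <;> (push_cast; ring)

theorem commTerms_2_7 : chevB2.commTerms 2 7 = [(6, 1, 1, 1), (4, -1, 2, 1)] := by decide +kernel

theorem X5_comm_3_0 (t u : F) :
    X5 0 (-u) * X5 3 (-t) * X5 0 u * X5 3 t = 1 := by
  apply iso_ext
  intro v
  rw [vec5_eta v]
  simp only [coe_mul_mulVec, coe_one_mulVec, X5_0_vec, X5_1_vec, X5_2_vec, X5_3_vec, X5_4_vec, X5_5_vec, X5_6_vec, X5_7_vec]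
  congr 1 <;> (push_cast; ring)

theorem commTerms_3_0 : chevB2.commTerms 3 0 = [] := by decide +kernel

theorem X5_comm_3_1 (t u : F) :
    X5 1 (-u) * X5 3 (-t) * X5 1 u * X5 3 t = 1 := by
  apply iso_ext
  intro v
  rw [vec5_eta v]
  simp only [coe_mul_mulVec, coe_one_mulVec, X5_0_vec, X5_1_vec, X5_2_vec, X5_3_vec, X5_4_vec, X5_5_vec, X5_6_vec, X5_7_vec]
  congr 1 <;> (push_cast; ring)

theorem commTerms_3_1 : chevB2.commTerms 3 1 = [] := by decide +kernel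

theorem X5_comm_3_2 (t u : F) :
    X5 2 (-u) * X5 3 (-t) * X5 2 u * X5 3 t = X5 1 (((-1 : ℤ) : F) * (-t) ^ 1 * u ^ 1) * X5 0 (((-1 : ℤ) : F) * (-t) ^ 1 * u ^ 2) := by
  apply iso_ext
  intro v
  rw [vec5_eta v]
  simp only [coe_mul_mulVec, coe_one_mulVec, X5_0_vec, X5_1_vec, X5_2_vec, X5_3_vec, X5_4_vec, X5_5_vec, X5_6_vec, X5_7_vec]
  congr 1 <;> (push_cast; ring)

theorem commTerms_3_2 : chevB2.commTerms 3 2 = [(1, -1, 1, 1), (0, -1, 1, 2)] := by decide +kernel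

theorem X5_comm_3_5 (t u : F) :
    X5 5 (-u) * X5 3 (-t) * X5 5 u * X5 3 t = 1 := by
  apply iso_ext
  intro v
  rw [vec5_eta v]
  simp only [coe_mul_mulVec, coe_one_mulVec, X5_0_vec, X5_1_vec, X5_2_vec, X5_3_vec, X5_4_vec, X5_5_vec, X5_6_vec, X5_7_vec]
  congr 1 <;> (push_cast; ring)

theorem commTerms_3_5 : chevB2.commTerms 3 5 = [] := by decide +kernel

theorem X5_comm_3_6 (t u : F) :
    X5 6 (-u) * X5 3 (-t) * X5 6 u * X5 3 t = X5 5 (((1 : ℤ) : F) * (-t) ^ 1 * u ^ 1) * X5 7 (((1 : ℤ) : F) * (-t) ^ 1 * u ^ 2) := by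
  apply iso_ext
  intro v
  rw [vec5_eta v]
  simp only [coe_mul_mulVec, coe_one_mulVec, X5_0_vec, X5_1_vec, X5_2_vec, X5_3_vec, X5_4_vec, X5_5_vec, X5_6_vec, X5_7_vec]
  congr 1 <;> (push_cast; ring)

theorem commTerms_3_6 : chevB2.commTerms 3 6 = [(5, 1, 1, 1), (7, 1, 1, 2)] := by decide +kernel

theorem X5_comm_3_7 (t u : F) :
    X5 7 (-u) * X5 3 (-t) * X5 7 u * X5 3 t = 1 := by
  apply iso_ext
  intro v
  rw [vec5_eta v]
  simp only [coe_mul_mulVec, coe_one_mulVec, X5_0_vec, X5_1_vec, X5_2_vec, X5_3_vec, X5_4_vec, X5_5_vec, X5_6_vec, X5_7_vec]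
  congr 1 <;> (push_cast; ring)

theorem commTerms_3_7 : chevB2.commTerms 3 7 = [] := by decide +kernel

theorem X5_comm_4_0 (t u : F) :
    X5 0 (-u) * X5 4 (-t) * X5 0 u * X5 4 t = 1 := by
  apply iso_ext
  intro v
  rw [vec5_eta v]
  simp only [coe_mul_mulVec, coe_one_mulVec, X5_0_vec, X5_1_vec, X5_2_vec, X5_3_vec, X5_4_vec, X5_5_vec, X5_6_vec, X5_7_vec]
  congr 1 <;> (push_cast; ring)

theorem commTerms_4_0 : chevB2.commTerms 4 0 = [] := by decide +kernel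

theorem X5_comm_4_1 (t u : F) :
    X5 1 (-u) * X5 4 (-t) * X5 1 u * X5 4 t = X5 2 (((-1 : ℤ) : F) * (-t) ^ 1 * u ^ 1) * X5 0 (((1 : ℤ) : F) * (-t) ^ 1 * u ^ 2) := by
  apply iso_ext
  intro v
  rw [vec5_eta v]
  simp only [coe_mul_mulVec, coe_one_mulVec, X5_0_vec, X5_1_vec, X5_2_vec, X5_3_vec, X5_4_vec, X5_5_vec, X5_6_vec, X5_7_vec]
  congr 1 <;> (push_cast; ring)

theorem commTerms_4_1 : chevB2.commTerms 4 1 = [(2, -1, 1, 1), (0, 1, 1, 2)] := by decide +kernel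

theorem X5_comm_4_2 (t u : F) :
    X5 2 (-u) * X5 4 (-t) * X5 2 u * X5 4 t = 1 := by
  apply iso_ext
  intro v
  rw [vec5_eta v]
  simp only [coe_mul_mulVec, coe_one_mulVec, X5_0_vec, X5_1_vec, X5_2_vec, X5_3_vec, X5_4_vec, X5_5_vec, X5_6_vec, X5_7_vec]
  congr 1 <;> (push_cast; ring)

theorem commTerms_4_2 : chevB2.commTerms 4 2 = [] := by decide +kernel

theorem X5_comm_4_5 (t u : F) :
    X5 5 (-u) * X5 4 (-t) * X5 5 u * X5 4 t = X5 6 (((1 : ℤ) : F) * (-t) ^ 1 * u ^ 1) * X5 7 (((-1 : ℤ) : F) * (-t) ^ 1 * u ^ 2) := by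
  apply iso_ext
  intro v
  rw [vec5_eta v]
  simp only [coe_mul_mulVec, coe_one_mulVec, X5_0_vec, X5_1_vec, X5_2_vec, X5_3_vec, X5_4_vec, X5_5_vec, X5_6_vec, X5_7_vec]
  congr 1 <;> (push_cast; ring)

theorem commTerms_4_5 : chevB2.commTerms 4 5 = [(6, 1, 1, 1), (7, -1, 1, 2)] := by decide +kernel

theorem X5_comm_4_6 (t u : F) :
    X5 6 (-u) * X5 4 (-t) * X5 6 u * X5 4 t = 1 := by
  apply iso_ext
  intro v
  rw [vec5_eta v]
  simp only [coe_mul_mulVec, coe_one_mulVec, X5_0_vec, X5_1_vec, X5_2_vec, X5_3_vec, X5_4_vec, X5_5_vec, X5_6_vec, X5_7_vec]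
  congr 1 <;> (push_cast; ring)

theorem commTerms_4_6 : chevB2.commTerms 4 6 = [] := by decide +kernel

theorem X5_comm_4_7 (t u : F) :
    X5 7 (-u) * X5 4 (-t) * X5 7 u * X5 4 t = 1 := by
  apply iso_ext
  intro v
  rw [vec5_eta v]
  simp only [coe_mul_mulVec, coe_one_mulVec, X5_0_vec, X5_1_vec, X5_2_vec, X5_3_vec, X5_4_vec, X5_5_vec, X5_6_vec, X5_7_vec]
  congr 1 <;> (push_cast; ring)

theorem commTerms_4_7 : chevB2.commTerms 4 7 = [] := by decide +kernel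

theorem X5_comm_5_0 (t u : F) :
    X5 0 (-u) * X5 5 (-t) * X5 0 u * X5 5 t = X5 1 (((-1 : ℤ) : F) * (-t) ^ 1 * u ^ 1) * X5 3 (((-1 : ℤ) : F) * (-t) ^ 2 * u ^ 1) := by
  apply iso_ext
  intro v
  rw [vec5_eta v]
  simp only [coe_mul_mulVec, coe_one_mulVec, X5_0_vec, X5_1_vec, X5_2_vec, X5_3_vec, X5_4_vec, X5_5_vec, X5_6_vec, X5_7_vec]
  congr 1 <;> (push_cast; ring)

theorem commTerms_5_0 : chevB2.commTerms 5 0 = [(1, -1, 1, 1), (3, -1, 2, 1)] := by decide +kernel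

theorem X5_comm_5_1 (t u : F) :
    X5 1 (-u) * X5 5 (-t) * X5 1 u * X5 5 t = X5 3 (((2 : ℤ) : F) * (-t) ^ 1 * u ^ 1) := by
  apply iso_ext
  intro v
  rw [vec5_eta v]
  simp only [coe_mul_mulVec, coe_one_mulVec, X5_0_vec, X5_1_vec, X5_2_vec, X5_3_vec, X5_4_vec, X5_5_vec, X5_6_vec, X5_7_vec]
  congr 1 <;> (push_cast; ring)

theorem commTerms_5_1 : chevB2.commTerms 5 1 = [(3, 2, 1, 1)] := by decide +kernel

theorem X5_comm_5_3 (t u : F) :
    X5 3 (-u) * X5 5 (-t) * X5 3 u * X5 5 t = 1 := by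
  apply iso_ext
  intro v
  rw [vec5_eta v]
  simp only [coe_mul_mulVec, coe_one_mulVec, X5_0_vec, X5_1_vec, X5_2_vec, X5_3_vec, X5_4_vec, X5_5_vec, X5_6_vec, X5_7_vec]
  congr 1 <;> (push_cast; ring)

theorem commTerms_5_3 : chevB2.commTerms 5 3 = [] := by decide +kernel

theorem X5_comm_5_4 (t u : F) :
    X5 4 (-u) * X5 5 (-t) * X5 4 u * X5 5 t = X5 6 (((-1 : ℤ) : F) * (-t) ^ 1 * u ^ 1) * X5 7 (((-1 : ℤ) : F) * (-t) ^ 2 * u ^ 1) := by
  apply iso_ext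
  intro v
  rw [vec5_eta v]
  simp only [coe_mul_mulVec, coe_one_mulVec, X5_0_vec, X5_1_vec, X5_2_vec, X5_3_vec, X5_4_vec, X5_5_vec, X5_6_vec, X5_7_vec]
  congr 1 <;> (push_cast; ring)

theorem commTerms_5_4 : chevB2.commTerms 5 4 = [(6, -1, 1, 1), (7, -1, 2, 1)] := by decide +kernel

theorem X5_comm_5_6 (t u : F) :
    X5 6 (-u) * X5 5 (-t) * X5 6 u * X5 5 t = X5 7 (((2 : ℤ) : F) * (-t) ^ 1 * u ^ 1) := by
  apply iso_ext
  intro v
  rw [vec5_eta v]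
  simp only [coe_mul_mulVec, coe_one_mulVec, X5_0_vec, X5_1_vec, X5_2_vec, X5_3_vec, X5_4_vec, X5_5_vec, X5_6_vec, X5_7_vec]
  congr 1 <;> (push_cast; ring)

theorem commTerms_5_6 : chevB2.commTerms 5 6 = [(7, 2, 1, 1)] := by decide +kernel

theorem X5_comm_5_7 (t u : F) :
    X5 7 (-u) * X5 5 (-t) * X5 7 u * X5 5 t = 1 := by
  apply iso_ext
  intro v
  rw [vec5_eta v]
  simp only [coe_mul_mulVec, coe_one_mulVec, X5_0_vec, X5_1_vec, X5_2_vec, X5_3_vec, X5_4_vec, X5_5_vec, X5_6_vec, X5_7_vec]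
  congr 1 <;> (push_cast; ring)

theorem commTerms_5_7 : chevB2.commTerms 5 7 = [] := by decide +kernel

theorem X5_comm_6_0 (t u : F) :
    X5 0 (-u) * X5 6 (-t) * X5 0 u * X5 6 t = X5 2 (((1 : ℤ) : F) * (-t) ^ 1 * u ^ 1) * X5 4 (((1 : ℤ) : F) * (-t) ^ 2 * u ^ 1) := by
  apply iso_ext
  intro v
  rw [vec5_eta v]
  simp only [coe_mul_mulVec, coe_one_mulVec, X5_0_vec, X5_1_vec, X5_2_vec, X5_3_vec, X5_4_vec, X5_5_vec, X5_6_vec, X5_7_vec]
  congr 1 <;> (push_cast; ring)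

theorem commTerms_6_0 : chevB2.commTerms 6 0 = [(2, 1, 1, 1), (4, 1, 2, 1)] := by decide +kernel

theorem X5_comm_6_2 (t u : F) :
    X5 2 (-u) * X5 6 (-t) * X5 2 u * X5 6 t = X5 4 (((2 : ℤ) : F) * (-t) ^ 1 * u ^ 1) := by
  apply iso_ext
  intro v
  rw [vec5_eta v]
  simp only [coe_mul_mulVec, coe_one_mulVec, X5_0_vec, X5_1_vec, X5_2_vec, X5_3_vec, X5_4_vec, X5_5_vec, X5_6_vec, X5_7_vec]
  congr 1 <;> (push_cast; ring)

theorem commTerms_6_2 : chevB2.commTerms 6 2 = [(4, 2, 1, 1)] := by decide +kernel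

theorem X5_comm_6_3 (t u : F) :
    X5 3 (-u) * X5 6 (-t) * X5 3 u * X5 6 t = X5 5 (((-1 : ℤ) : F) * (-t) ^ 1 * u ^ 1) * X5 7 (((1 : ℤ) : F) * (-t) ^ 2 * u ^ 1) := by
  apply iso_ext
  intro v
  rw [vec5_eta v]
  simp only [coe_mul_mulVec, coe_one_mulVec, X5_0_vec, X5_1_vec, X5_2_vec, X5_3_vec, X5_4_vec, X5_5_vec, X5_6_vec, X5_7_vec]
  congr 1 <;> (push_cast; ring)

theorem commTerms_6_3 : chevB2.commTerms 6 3 = [(5, -1, 1, 1), (7, 1, 2, 1)] := by decide +kernel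

theorem X5_comm_6_4 (t u : F) :
    X5 4 (-u) * X5 6 (-t) * X5 4 u * X5 6 t = 1 := by
  apply iso_ext
  intro v
  rw [vec5_eta v]
  simp only [coe_mul_mulVec, coe_one_mulVec, X5_0_vec, X5_1_vec, X5_2_vec, X5_3_vec, X5_4_vec, X5_5_vec, X5_6_vec, X5_7_vec]
  congr 1 <;> (push_cast; ring)

theorem commTerms_6_4 : chevB2.commTerms 6 4 = [] := by decide +kernel

theorem X5_comm_6_5 (t u : F) :
    X5 5 (-u) * X5 6 (-t) * X5 5 u * X5 6 t = X5 7 (((-2 : ℤ) : F) * (-t) ^ 1 * u ^ 1) := by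
  apply iso_ext
  intro v
  rw [vec5_eta v]
  simp only [coe_mul_mulVec, coe_one_mulVec, X5_0_vec, X5_1_vec, X5_2_vec, X5_3_vec, X5_4_vec, X5_5_vec, X5_6_vec, X5_7_vec]
  congr 1 <;> (push_cast; ring)

theorem commTerms_6_5 : chevB2.commTerms 6 5 = [(7, -2, 1, 1)] := by decide +kernel

theorem X5_comm_6_7 (t u : F) :
    X5 7 (-u) * X5 6 (-t) * X5 7 u * X5 6 t = 1 := by
  apply iso_ext
  intro v
  rw [vec5_eta v]
  simp only [coe_mul_mulVec, coe_one_mulVec, X5_0_vec, X5_1_vec, X5_2_vec, X5_3_vec, X5_4_vec, X5_5_vec, X5_6_vec, X5_7_vec]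
  congr 1 <;> (push_cast; ring)

theorem commTerms_6_7 : chevB2.commTerms 6 7 = [] := by decide +kernel

theorem X5_comm_7_1 (t u : F) :
    X5 1 (-u) * X5 7 (-t) * X5 1 u * X5 7 t = X5 5 (((1 : ℤ) : F) * (-t) ^ 1 * u ^ 1) * X5 3 (((1 : ℤ) : F) * (-t) ^ 1 * u ^ 2) := by
  apply iso_ext
  intro v
  rw [vec5_eta v]
  simp only [coe_mul_mulVec, coe_one_mulVec, X5_0_vec, X5_1_vec, X5_2_vec, X5_3_vec, X5_4_vec, X5_5_vec, X5_6_vec, X5_7_vec]
  congr 1 <;> (push_cast; ring)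

theorem commTerms_7_1 : chevB2.commTerms 7 1 = [(5, 1, 1, 1), (3, 1, 1, 2)] := by decide +kernel

theorem X5_comm_7_2 (t u : F) :
    X5 2 (-u) * X5 7 (-t) * X5 2 u * X5 7 t = X5 6 (((-1 : ℤ) : F) * (-t) ^ 1 * u ^ 1) * X5 4 (((-1 : ℤ) : F) * (-t) ^ 1 * u ^ 2) := by
  apply iso_ext
  intro v
  rw [vec5_eta v]
  simp only [coe_mul_mulVec, coe_one_mulVec, X5_0_vec, X5_1_vec, X5_2_vec, X5_3_vec, X5_4_vec, X5_5_vec, X5_6_vec, X5_7_vec]
  congr 1 <;> (push_cast; ring)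

theorem commTerms_7_2 : chevB2.commTerms 7 2 = [(6, -1, 1, 1), (4, -1, 1, 2)] := by decide +kernel

theorem X5_comm_7_3 (t u : F) :
    X5 3 (-u) * X5 7 (-t) * X5 3 u * X5 7 t = 1 := by
  apply iso_ext
  intro v
  rw [vec5_eta v]
  simp only [coe_mul_mulVec, coe_one_mulVec, X5_0_vec, X5_1_vec, X5_2_vec, X5_3_vec, X5_4_vec, X5_5_vec, X5_6_vec, X5_7_vec]
  congr 1 <;> (push_cast; ring)

theorem commTerms_7_3 : chevB2.commTerms 7 3 = [] := by decide +kernel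

theorem X5_comm_7_4 (t u : F) :
    X5 4 (-u) * X5 7 (-t) * X5 4 u * X5 7 t = 1 := by
  apply iso_ext
  intro v
  rw [vec5_eta v]
  simp only [coe_mul_mulVec, coe_one_mulVec, X5_0_vec, X5_1_vec, X5_2_vec, X5_3_vec, X5_4_vec, X5_5_vec, X5_6_vec, X5_7_vec]
  congr 1 <;> (push_cast; ring)

theorem commTerms_7_4 : chevB2.commTerms 7 4 = [] := by decide +kernel

theorem X5_comm_7_5 (t u : F) :
    X5 5 (-u) * X5 7 (-t) * X5 5 u * X5 7 t = 1 := by
  apply iso_ext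
  intro v
  rw [vec5_eta v]
  simp only [coe_mul_mulVec, coe_one_mulVec, X5_0_vec, X5_1_vec, X5_2_vec, X5_3_vec, X5_4_vec, X5_5_vec, X5_6_vec, X5_7_vec]
  congr 1 <;> (push_cast; ring)

theorem commTerms_7_5 : chevB2.commTerms 7 5 = [] := by decide +kernel

theorem X5_comm_7_6 (t u : F) :
    X5 6 (-u) * X5 7 (-t) * X5 6 u * X5 7 t = 1 := by
  apply iso_ext
  intro v
  rw [vec5_eta v]
  simp only [coe_mul_mulVec, coe_one_mulVec, X5_0_vec, X5_1_vec, X5_2_vec, X5_3_vec, X5_4_vec, X5_5_vec, X5_6_vec, X5_7_vec]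
  congr 1 <;> (push_cast; ring)

theorem commTerms_7_6 : chevB2.commTerms 7 6 = [] := by decide +kernel

/-- Steinberg's relation (R2) for the root elements of type B₂ in the orthogonal group. -/
theorem X5_comm (r s : ℕ) (hr : r < 8) (hs : s < 8) (hsr : s ≠ r) (hsn : s ≠ chevB2.neg r) (t u : F) :
    (X5 s u)⁻¹ * (X5 r t)⁻¹ * X5 s u * X5 r t = wordS X5 (chevB2.commWord F r s t u) := by
  rw [X5_inv, X5_inv]
  interval_cases r <;> interval_cases s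
  · exact absurd rfl hsr
  · rw [X5_comm_0_1]; unfold ChevalleyDatum.commWord; rw [commTerms_0_1]; rfl
  · rw [X5_comm_0_2]; unfold ChevalleyDatum.commWord; rw [commTerms_0_2]; rfl
  · rw [X5_comm_0_3]; unfold ChevalleyDatum.commWord; rw [commTerms_0_3]; rfl
  · rw [X5_comm_0_4]; unfold ChevalleyDatum.commWord; rw [commTerms_0_4]; rfl
  · rw [X5_comm_0_5]; unfold ChevalleyDatum.commWord; rw [commTerms_0_5]; simp only [List.map_cons, List.map_nil, wordS_cons, wordS_nil, mul_one]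
  · rw [X5_comm_0_6]; unfold ChevalleyDatum.commWord; rw [commTerms_0_6]; simp only [List.map_cons, List.map_nil, wordS_cons, wordS_nil, mul_one]
  · exact absurd (by decide) hsn
  · rw [X5_comm_1_0]; unfold ChevalleyDatum.commWord; rw [commTerms_1_0]; rfl
  · exact absurd rfl hsr
  · rw [X5_comm_1_2]; unfold ChevalleyDatum.commWord; rw [commTerms_1_2]; simp only [List.map_cons, List.map_nil, wordS_cons, wordS_nil, mul_one]
  · rw [X5_comm_1_3]; unfold ChevalleyDatum.commWord; rw [commTerms_1_3]; rfl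
  · rw [X5_comm_1_4]; unfold ChevalleyDatum.commWord; rw [commTerms_1_4]; simp only [List.map_cons, List.map_nil, wordS_cons, wordS_nil, mul_one]
  · rw [X5_comm_1_5]; unfold ChevalleyDatum.commWord; rw [commTerms_1_5]; simp only [List.map_cons, List.map_nil, wordS_cons, wordS_nil, mul_one]
  · exact absurd (by decide) hsn
  · rw [X5_comm_1_7]; unfold ChevalleyDatum.commWord; rw [commTerms_1_7]; simp only [List.map_cons, List.map_nil, wordS_cons, wordS_nil, mul_one]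
  · rw [X5_comm_2_0]; unfold ChevalleyDatum.commWord; rw [commTerms_2_0]; rfl
  · rw [X5_comm_2_1]; unfold ChevalleyDatum.commWord; rw [commTerms_2_1]; simp only [List.map_cons, List.map_nil, wordS_cons, wordS_nil, mul_one]
  · exact absurd rfl hsr
  · rw [X5_comm_2_3]; unfold ChevalleyDatum.commWord; rw [commTerms_2_3]; simp only [List.map_cons, List.map_nil, wordS_cons, wordS_nil, mul_one]
  · rw [X5_comm_2_4]; unfold ChevalleyDatum.commWord; rw [commTerms_2_4]; rfl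
  · exact absurd (by decide) hsn
  · rw [X5_comm_2_6]; unfold ChevalleyDatum.commWord; rw [commTerms_2_6]; simp only [List.map_cons, List.map_nil, wordS_cons, wordS_nil, mul_one]
  · rw [X5_comm_2_7]; unfold ChevalleyDatum.commWord; rw [commTerms_2_7]; simp only [List.map_cons, List.map_nil, wordS_cons, wordS_nil, mul_one]
  · rw [X5_comm_3_0]; unfold ChevalleyDatum.commWord; rw [commTerms_3_0]; rfl
  · rw [X5_comm_3_1]; unfold ChevalleyDatum.commWord; rw [commTerms_3_1]; rfl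
  · rw [X5_comm_3_2]; unfold ChevalleyDatum.commWord; rw [commTerms_3_2]; simp only [List.map_cons, List.map_nil, wordS_cons, wordS_nil, mul_one]
  · exact absurd rfl hsr
  · exact absurd (by decide) hsn
  · rw [X5_comm_3_5]; unfold ChevalleyDatum.commWord; rw [commTerms_3_5]; rfl
  · rw [X5_comm_3_6]; unfold ChevalleyDatum.commWord; rw [commTerms_3_6]; simp only [List.map_cons, List.map_nil, wordS_cons, wordS_nil, mul_one]
  · rw [X5_comm_3_7]; unfold ChevalleyDatum.commWord; rw [commTerms_3_7]; rfl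
  · rw [X5_comm_4_0]; unfold ChevalleyDatum.commWord; rw [commTerms_4_0]; rfl
  · rw [X5_comm_4_1]; unfold ChevalleyDatum.commWord; rw [commTerms_4_1]; simp only [List.map_cons, List.map_nil, wordS_cons, wordS_nil, mul_one]
  · rw [X5_comm_4_2]; unfold ChevalleyDatum.commWord; rw [commTerms_4_2]; rfl
  · exact absurd (by decide) hsn
  · exact absurd rfl hsr
  · rw [X5_comm_4_5]; unfold ChevalleyDatum.commWord; rw [commTerms_4_5]; simp only [List.map_cons, List.map_nil, wordS_cons, wordS_nil, mul_one]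
  · rw [X5_comm_4_6]; unfold ChevalleyDatum.commWord; rw [commTerms_4_6]; rfl
  · rw [X5_comm_4_7]; unfold ChevalleyDatum.commWord; rw [commTerms_4_7]; rfl
  · rw [X5_comm_5_0]; unfold ChevalleyDatum.commWord; rw [commTerms_5_0]; simp only [List.map_cons, List.map_nil, wordS_cons, wordS_nil, mul_one]
  · rw [X5_comm_5_1]; unfold ChevalleyDatum.commWord; rw [commTerms_5_1]; simp only [List.map_cons, List.map_nil, wordS_cons, wordS_nil, mul_one]
  · exact absurd (by decide) hsn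
  · rw [X5_comm_5_3]; unfold ChevalleyDatum.commWord; rw [commTerms_5_3]; rfl
  · rw [X5_comm_5_4]; unfold ChevalleyDatum.commWord; rw [commTerms_5_4]; simp only [List.map_cons, List.map_nil, wordS_cons, wordS_nil, mul_one]
  · exact absurd rfl hsr
  · rw [X5_comm_5_6]; unfold ChevalleyDatum.commWord; rw [commTerms_5_6]; simp only [List.map_cons, List.map_nil, wordS_cons, wordS_nil, mul_one]
  · rw [X5_comm_5_7]; unfold ChevalleyDatum.commWord; rw [commTerms_5_7]; rfl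
  · rw [X5_comm_6_0]; unfold ChevalleyDatum.commWord; rw [commTerms_6_0]; simp only [List.map_cons, List.map_nil, wordS_cons, wordS_nil, mul_one]
  · exact absurd (by decide) hsn
  · rw [X5_comm_6_2]; unfold ChevalleyDatum.commWord; rw [commTerms_6_2]; simp only [List.map_cons, List.map_nil, wordS_cons, wordS_nil, mul_one]
  · rw [X5_comm_6_3]; unfold ChevalleyDatum.commWord; rw [commTerms_6_3]; simp only [List.map_cons, List.map_nil, wordS_cons, wordS_nil, mul_one]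
  · rw [X5_comm_6_4]; unfold ChevalleyDatum.commWord; rw [commTerms_6_4]; rfl
  · rw [X5_comm_6_5]; unfold ChevalleyDatum.commWord; rw [commTerms_6_5]; simp only [List.map_cons, List.map_nil, wordS_cons, wordS_nil, mul_one]
  · exact absurd rfl hsr
  · rw [X5_comm_6_7]; unfold ChevalleyDatum.commWord; rw [commTerms_6_7]; rfl
  · exact absurd (by decide) hsn
  · rw [X5_comm_7_1]; unfold ChevalleyDatum.commWord; rw [commTerms_7_1]; simp only [List.map_cons, List.map_nil, wordS_cons, wordS_nil, mul_one]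
  · rw [X5_comm_7_2]; unfold ChevalleyDatum.commWord; rw [commTerms_7_2]; simp only [List.map_cons, List.map_nil, wordS_cons, wordS_nil, mul_one]
  · rw [X5_comm_7_3]; unfold ChevalleyDatum.commWord; rw [commTerms_7_3]; rfl
  · rw [X5_comm_7_4]; unfold ChevalleyDatum.commWord; rw [commTerms_7_4]; rfl
  · rw [X5_comm_7_5]; unfold ChevalleyDatum.commWord; rw [commTerms_7_5]; rfl
  · rw [X5_comm_7_6]; unfold ChevalleyDatum.commWord; rw [commTerms_7_6]; rfl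
  · exact absurd rfl hsr

end Cfsg.Agent.Lib.Helper3.PB
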