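import Mathlib
import Cfsg.Agent.Lib.Helper3.PB3
set_option autoImplicit false
set_option linter.unusedSectionVars false
set_option linter.unusedSimpArgs false
set_option linter.unusedTactic false

/-! Transitivity properties of the subgroup generated by the root elements of type B₂ in the orthogonal group of
`x₀² + x₁y₁ + x₂y₂`. -/

namespace Cfsg.Agent.Lib.Helper3.PB

open Cfsg.Agent.H9Sieg Cfsg.Agent.Lib.Helper5.QuadOdd Matrix Cfsg.Lie

variable {F : Type*} [Field F]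

variable (F) in
/-- The subgroup generated by the root elements. -/
noncomputable def E5 : Subgroup ↥(Cfsg.isometryGroup F ⇑(Qo F)) :=
  Subgroup.closure {g | ∃ (r : ℕ) (t : F), r < 8 ∧ g = X5 r t}

theorem X5_mem (r : ℕ) (hr : r < 8) (t : F) : X5 r t ∈ E5 F := Subgroup.subset_closure ⟨r, t, hr, rfl⟩

/-- Clearing the first coordinate. -/
theorem phaseA (a b c d e : F) (h : b ≠ 0 ∨ c ≠ 0 ∨ d ≠ 0 ∨ e ≠ 0) :
    ∃ g ∈ E5 F, (mat g *ᵥ vec5 a b c d e) (Sum.inl ()) = 0 := by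
  by_cases hd : d ≠ 0
  · refine ⟨X5 6 (a / d), X5_mem 6 (by norm_num) _, ?_⟩
    rw [X5_6_vec]
    show a - a / d * d = 0
    field_simp
    ring
  by_cases hb : b ≠ 0
  · refine ⟨X5 1 (-a / b), X5_mem 1 (by norm_num) _, ?_⟩
    rw [X5_1_vec]
    show a - -(-a / b) * b = 0
    field_simp
    ring
  by_cases he : e ≠ 0
  · refine ⟨X5 5 (a / e), X5_mem 5 (by norm_num) _, ?_⟩
    rw [X5_5_vec]
    show a - a / e * e = 0
    field_simp
    ring
  by_cases hc : c ≠ 0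
  · refine ⟨X5 2 (-a / c), X5_mem 2 (by norm_num) _, ?_⟩
    rw [X5_2_vec]
    show a - -(-a / c) * c = 0
    field_simp
    ring
  exfalso
  rcases h with h | h | h | h
  · exact hb h
  · exact hc h
  · exact hd h
  · exact he h

/-- Making the second coordinate nonzero. -/
theorem phaseB (b c d e : F) (h : b ≠ 0 ∨ c ≠ 0 ∨ d ≠ 0 ∨ e ≠ 0) :
    ∃ g ∈ E5 F, ∃ b' c' d' e' : F, b' ≠ 0 ∧ mat g *ᵥ vec5 0 b c d e = vec5 0 b' c' d' e' := by
  by_cases hb : b = 0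
  · subst hb
    by_cases he : e = 0
    · subst he
      by_cases hc : c = 0
      · subst hc
        have hd : d ≠ 0 := by
          rcases h with h | h | h | h
          · exact absurd rfl h
          · exact absurd rfl h
          · exact h
          · exact absurd rfl h
        refine ⟨X5 4 1 * X5 7 1, Subgroup.mul_mem _ (X5_mem 4 (by norm_num) _) (X5_mem 7 (by norm_num) _),
          -d, -d, d, -d, neg_ne_zero.mpr hd, ?_⟩
        rw [coe_mul_mulVec, X5_7_vec, X5_4_vec]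
        congr 1 <;> ring
      · refine ⟨X5 4 1, X5_mem 4 (by norm_num) _, c, c, d, -d, hc, ?_⟩
        rw [X5_4_vec]
        congr 1 <;> ring
    · refine ⟨X5 7 1, X5_mem 7 (by norm_num) _, e, c - d, d, e, he, ?_⟩
      rw [X5_7_vec]
      congr 1 <;> ring
  · refine ⟨1, Subgroup.one_mem _, b, c, d, e, hb, ?_⟩
    rw [coe_one_mulVec]

/-- Clearing the third and fifth coordinates. -/
theorem phaseC (b c d e : F) (hb : b ≠ 0) :
    ∃ g ∈ E5 F, ∃ d' : F, mat g *ᵥ vec5 0 b c d e = vec5 0 b 0 d' 0 := by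
  refine ⟨X5 0 (-e / b) * X5 3 (-c / b),
    Subgroup.mul_mem _ (X5_mem 0 (by norm_num) _) (X5_mem 3 (by norm_num) _), d - (-c / b) * e, ?_⟩
  rw [coe_mul_mulVec, X5_3_vec, X5_0_vec]
  congr 1
  · field_simp
    ring
  · field_simp
    ring
  · field_simp
    ring

/-- Rescaling. -/
theorem phaseD (b : F) (hb : b ≠ 0) :
    ∃ g ∈ E5 F, mat g *ᵥ vec5 0 b 0 0 0 = vec5 0 1 0 0 0 := by
  refine ⟨X5 3 (-1) * X5 4 (1 - b) * X5 3 (1 / b),
    Subgroup.mul_mem _ (Subgroup.mul_mem _ (X5_mem 3 (by norm_num) _) (X5_mem 4 (by norm_num) _))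
      (X5_mem 3 (by norm_num) _), ?_⟩
  rw [coe_mul_mulVec, coe_mul_mulVec, X5_3_vec, X5_4_vec, X5_3_vec]
  congr 1
  · field_simp
    ring
  · field_simp
    ring
  · ring
  · ring

theorem vec5_ne_zero_iff (a b c d e : F) : vec5 a b c d e ≠ 0 ↔ (a ≠ 0 ∨ b ≠ 0 ∨ c ≠ 0 ∨ d ≠ 0 ∨ e ≠ 0) := by
  constructor
  · intro h
    by_contra hcon
    push Not at hcon
    obtain ⟨rfl, rfl, rfl, rfl, rfl⟩ := hcon
    exact h zero_vec5.symm
  · intro h h0
    rw [zero_vec5] at h0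
    obtain ⟨rfl, rfl, rfl, rfl, rfl⟩ := vec5_inj h0
    simp at h

theorem mulVec_ne_zero (g : ↥(Cfsg.isometryGroup F ⇑(Qo F))) (v : I5 → F) (hv : v ≠ 0) : mat g *ᵥ v ≠ 0 := by
  intro h
  have h0 : mat g *ᵥ v = mat g *ᵥ 0 := by rw [h, Matrix.mulVec_zero]
  exact hv (mulVec_injective g h0)

/-- The subgroup generated by the root elements is transitive on the nonzero singular vectors. -/
theorem exists_map_to_e1 (v : I5 → F) (hq : Qo F v = 0) (hv : v ≠ 0) :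
    ∃ g ∈ E5 F, mat g *ᵥ v = vec5 0 1 0 0 0 := by
  rw [vec5_eta v] at hq hv ⊢
  set a := v (Sum.inl ())
  set b := v (Sum.inr (Sum.inl 0))
  set c := v (Sum.inr (Sum.inl 1))
  set d := v (Sum.inr (Sum.inr 0))
  set e := v (Sum.inr (Sum.inr 1))
  have h1 : b ≠ 0 ∨ c ≠ 0 ∨ d ≠ 0 ∨ e ≠ 0 := by
    by_contra hcon
    push Not at hcon
    obtain ⟨hb, hc, hd, he⟩ := hcon
    rw [Qo_vec5, hb, hc, hd, he] at hq
    have ha : a = 0 := by
      have : a ^ 2 = 0 := by linear_combination hq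
      exact pow_eq_zero_iff (two_ne_zero) |>.mp this
    apply hv
    rw [ha, hb, hc, hd, he, zero_vec5]
  obtain ⟨g1, hg1, E1'⟩ := phaseA a b c d e h1
  have E1 := vec5_eta (mat g1 *ᵥ vec5 a b c d e)
  rw [E1'] at E1
  set b1 := (mat g1 *ᵥ vec5 a b c d e) (Sum.inr (Sum.inl 0))
  set c1 := (mat g1 *ᵥ vec5 a b c d e) (Sum.inr (Sum.inl 1))
  set d1 := (mat g1 *ᵥ vec5 a b c d e) (Sum.inr (Sum.inr 0))
  set e1 := (mat g1 *ᵥ vec5 a b c d e) (Sum.inr (Sum.inr 1))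
  have hv1 : vec5 0 b1 c1 d1 e1 ≠ 0 := by rw [← E1]; exact mulVec_ne_zero g1 _ hv
  have h2 : b1 ≠ 0 ∨ c1 ≠ 0 ∨ d1 ≠ 0 ∨ e1 ≠ 0 := by
    rcases (vec5_ne_zero_iff _ _ _ _ _).mp hv1 with h | h
    · exact absurd rfl h
    · exact h
  obtain ⟨g2, hg2, b2, c2, d2, e2, hb2, E2⟩ := phaseB b1 c1 d1 e1 h2
  obtain ⟨g3, hg3, d3, E3⟩ := phaseC b2 c2 d2 e2 hb2
  have hq3 : Qo F (vec5 0 b2 0 d3 0) = 0 := by
    rw [← E3, Q_mulVec, ← E2, Q_mulVec, ← E1, Q_mulVec, hq]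
  have hd3 : d3 = 0 := by
    rw [Qo_vec5] at hq3
    have : b2 * d3 = 0 := by linear_combination hq3
    rcases mul_eq_zero.mp this with h | h
    · exact absurd h hb2
    · exact h
  subst hd3
  obtain ⟨g4, hg4, E4⟩ := phaseD b2 hb2
  refine ⟨g4 * g3 * g2 * g1, Subgroup.mul_mem _ (Subgroup.mul_mem _ (Subgroup.mul_mem _ hg4 hg3) hg2) hg1, ?_⟩
  rw [coe_mul_mulVec, coe_mul_mulVec, coe_mul_mulVec, E1, E2, E3, E4]

end Cfsg.Agent.Lib.Helper3.PB
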