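import Mathlib
import Cfsg.Agent.Lib.Helper3.PB4
set_option autoImplicit false
set_option linter.unusedSectionVars false
set_option linter.unusedSimpArgs false
set_option linter.unusedTactic false

/-! Every isometry of `x₀² + x₁y₁ + x₂y₂` is the product of an element of the subgroup generated by the root
elements and a diagonal isometry. -/

namespace Cfsg.Agent.Lib.Helper3.PB

open Cfsg.Agent.H9Sieg Cfsg.Agent.Lib.Helper5.QuadOdd Matrix Cfsg.Lie

variable {F : Type*} [Field F]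

theorem vec5_z (a b c d e : F) : vec5 a b c d e (Sum.inl ()) = a := rfl
theorem vec5_e1 (a b c d e : F) : vec5 a b c d e (Sum.inr (Sum.inl 0)) = b := rfl
theorem vec5_e2 (a b c d e : F) : vec5 a b c d e (Sum.inr (Sum.inl 1)) = c := rfl
theorem vec5_f1 (a b c d e : F) : vec5 a b c d e (Sum.inr (Sum.inr 0)) = d := rfl
theorem vec5_f2 (a b c d e : F) : vec5 a b c d e (Sum.inr (Sum.inr 1)) = e := rfl

/-- Coordinates as values of the polar form. -/
theorem bp_e1 (v : I5 → F) : bp (Qo F) v (vec5 0 1 0 0 0) = v (Sum.inr (Sum.inr 0)) := by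
  conv_lhs => rw [vec5_eta v]
  rw [bp_vec5]; ring

theorem bp_f1 (v : I5 → F) : bp (Qo F) v (vec5 0 0 0 1 0) = v (Sum.inr (Sum.inl 0)) := by
  conv_lhs => rw [vec5_eta v]
  rw [bp_vec5]; ring

theorem bp_e2 (v : I5 → F) : bp (Qo F) v (vec5 0 0 1 0 0) = v (Sum.inr (Sum.inr 1)) := by
  conv_lhs => rw [vec5_eta v]
  rw [bp_vec5]; ring

theorem bp_f2 (v : I5 → F) : bp (Qo F) v (vec5 0 0 0 0 1) = v (Sum.inr (Sum.inl 1)) := by
  conv_lhs => rw [vec5_eta v]
  rw [bp_vec5]; ring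

/-- Moving the partner of the first basis vector. -/
theorem exists_map_partner (a b c e : F) (hq : Qo F (vec5 a b c 1 e) = 0) :
    ∃ g ∈ E5 F, mat g *ᵥ vec5 0 1 0 0 0 = vec5 0 1 0 0 0 ∧ mat g *ᵥ vec5 a b c 1 e = vec5 0 0 0 1 0 := by
  refine ⟨X5 4 e * X5 7 c * X5 6 a,
    Subgroup.mul_mem _ (Subgroup.mul_mem _ (X5_mem 4 (by norm_num) _) (X5_mem 7 (by norm_num) _))
      (X5_mem 6 (by norm_num) _), ?_, ?_⟩
  · rw [coe_mul_mulVec, coe_mul_mulVec, X5_6_vec, X5_7_vec, X5_4_vec]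
    congr 1 <;> ring
  · rw [coe_mul_mulVec, coe_mul_mulVec, X5_6_vec, X5_7_vec, X5_4_vec]
    rw [Qo_vec5] at hq
    congr 1
    · ring
    · linear_combination hq
    · ring
    · ring

/-- Reduction inside the three-dimensional space: a singular vector is moved to a multiple of a basis vector by
elements fixing the first hyperbolic pair. -/
theorem exists_map_three (a c e : F) (hq : Qo F (vec5 a 0 c 0 e) = 0) (hv : a ≠ 0 ∨ c ≠ 0 ∨ e ≠ 0) :
    ∃ g ∈ E5 F, mat g *ᵥ vec5 0 1 0 0 0 = vec5 0 1 0 0 0 ∧ mat g *ᵥ vec5 0 0 0 1 0 = vec5 0 0 0 1 0 ∧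
      ∃ l : F, l ≠ 0 ∧ mat g *ᵥ vec5 a 0 c 0 e = vec5 0 0 l 0 0 := by
  rw [Qo_vec5] at hq
  by_cases he : e = 0
  · subst he
    have ha : a = 0 := by
      have : a ^ 2 = 0 := by linear_combination hq
      exact pow_eq_zero_iff (two_ne_zero) |>.mp this
    subst ha
    have hc : c ≠ 0 := by
      rcases hv with h | h | h
      · exact absurd rfl h
      · exact h
      · exact absurd rfl h
    refine ⟨1, Subgroup.one_mem _, coe_one_mulVec _, coe_one_mulVec _, c, hc, coe_one_mulVec _⟩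
  · refine ⟨X5 2 (-1) * X5 5 1 * X5 5 (a / e),
      Subgroup.mul_mem _ (Subgroup.mul_mem _ (X5_mem 2 (by norm_num) _) (X5_mem 5 (by norm_num) _))
        (X5_mem 5 (by norm_num) _), ?_, ?_, -e, neg_ne_zero.mpr he, ?_⟩
    · rw [coe_mul_mulVec, coe_mul_mulVec, X5_5_vec, X5_5_vec, X5_2_vec]
      congr 1 <;> ring
    · rw [coe_mul_mulVec, coe_mul_mulVec, X5_5_vec, X5_5_vec, X5_2_vec]
      congr 1 <;> ring
    · rw [coe_mul_mulVec, coe_mul_mulVec, X5_5_vec, X5_5_vec, X5_2_vec]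
      have hc : c = -a ^ 2 / e := by
        field_simp
        linear_combination hq
      subst hc
      congr 1
      all_goals first | ring1 | (field_simp; ring1) | field_simp

/-- The second step inside the three-dimensional space. -/
theorem exists_map_three' (a c m : F) (hm : m ≠ 0) (hq : Qo F (vec5 a 0 c 0 m) = 0) :
    ∃ g ∈ E5 F, mat g *ᵥ vec5 0 1 0 0 0 = vec5 0 1 0 0 0 ∧ mat g *ᵥ vec5 0 0 0 1 0 = vec5 0 0 0 1 0 ∧
      (∀ l : F, mat g *ᵥ vec5 0 0 l 0 0 = vec5 0 0 l 0 0) ∧ mat g *ᵥ vec5 a 0 c 0 m = vec5 0 0 0 0 m := by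
  rw [Qo_vec5] at hq
  refine ⟨X5 5 (a / m), X5_mem 5 (by norm_num) _, ?_, ?_, ?_, ?_⟩
  · rw [X5_5_vec]
    congr 1 <;> ring
  · rw [X5_5_vec]
    congr 1 <;> ring
  · intro l
    rw [X5_5_vec]
    congr 1 <;> ring
  · rw [X5_5_vec]
    have hc : c = -a ^ 2 / m := by
      field_simp
      linear_combination hq
    subst hc
    congr 1
    all_goals first | ring1 | (field_simp; ring1) | field_simp

end Cfsg.Agent.Lib.Helper3.PB
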