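import Mathlib
import Cfsg.Agent.Lib.Helper3.PB5
set_option autoImplicit false
set_option linter.unusedSectionVars false
set_option linter.unusedSimpArgs false
set_option linter.unusedTactic false

/-! The commutator subgroup of the orthogonal group of `x₀² + x₁y₁ + x₂y₂` lies in the subgroup generated by the
root elements. -/

namespace Cfsg.Agent.Lib.Helper3.PB

open Cfsg.Agent.H9Sieg Cfsg.Agent.Lib.Helper5.QuadOdd Matrix Cfsg.Lie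
open scoped commutatorElement

variable {F : Type*} [Field F]

/-- Diagonal isometries. -/
def IsDiag (g : ↥(Cfsg.isometryGroup F ⇑(Qo F))) : Prop :=
  ∃ x₀ x₁ x₂ x₃ x₄ : F, ∀ a b c d e : F,
    mat g *ᵥ vec5 a b c d e = vec5 (x₀ * a) (x₁ * b) (x₂ * c) (x₃ * d) (x₄ * e)

theorem vec5_decomp (a b c d e : F) : vec5 a b c d e =
    a • vec5 1 0 0 0 0 + b • vec5 0 1 0 0 0 + c • vec5 0 0 1 0 0 + d • vec5 0 0 0 1 0 + e • vec5 0 0 0 0 1 := by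
  rw [smul_vec5, smul_vec5, smul_vec5, smul_vec5, smul_vec5, add_vec5, add_vec5, add_vec5, add_vec5]
  congr 1 <;> ring

theorem isDiag_of_basis (g : ↥(Cfsg.isometryGroup F ⇑(Qo F))) (x₀ x₁ x₂ x₃ x₄ : F)
    (h0 : mat g *ᵥ vec5 1 0 0 0 0 = vec5 x₀ 0 0 0 0) (h1 : mat g *ᵥ vec5 0 1 0 0 0 = vec5 0 x₁ 0 0 0)
    (h2 : mat g *ᵥ vec5 0 0 1 0 0 = vec5 0 0 x₂ 0 0) (h3 : mat g *ᵥ vec5 0 0 0 1 0 = vec5 0 0 0 x₃ 0)
    (h4 : mat g *ᵥ vec5 0 0 0 0 1 = vec5 0 0 0 0 x₄) : IsDiag g := by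
  refine ⟨x₀, x₁, x₂, x₃, x₄, ?_⟩
  intro a b c d e
  rw [vec5_decomp a b c d e, Matrix.mulVec_add, Matrix.mulVec_add, Matrix.mulVec_add, Matrix.mulVec_add,
    Matrix.mulVec_smul, Matrix.mulVec_smul, Matrix.mulVec_smul, Matrix.mulVec_smul, Matrix.mulVec_smul,
    h0, h1, h2, h3, h4, smul_vec5, smul_vec5, smul_vec5, smul_vec5, smul_vec5, add_vec5, add_vec5, add_vec5,
    add_vec5]
  congr 1 <;> ring

theorem commute_of_isDiag (g₁ g₂ : ↥(Cfsg.isometryGroup F ⇑(Qo F))) (h₁ : IsDiag g₁) (h₂ : IsDiag g₂) :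
    g₁ * g₂ = g₂ * g₁ := by
  obtain ⟨x₀, x₁, x₂, x₃, x₄, hx⟩ := h₁
  obtain ⟨y₀, y₁, y₂, y₃, y₄, hy⟩ := h₂
  apply iso_ext
  intro v
  rw [vec5_eta v, coe_mul_mulVec, coe_mul_mulVec, hy, hx, hx, hy]
  congr 1 <;> ring

/-- Conjugating a root element by a diagonal isometry. -/
theorem conj_X5_diag (g : ↥(Cfsg.isometryGroup F ⇑(Qo F))) (hg : IsDiag g) (r : ℕ) (hr : r < 8) (t : F) :
    g * X5 r t * g⁻¹ ∈ E5 F := by
  obtain ⟨x₀, x₁, x₂, x₃, x₄, hx⟩ := hg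
  interval_cases r
  · show g * eich (Qo F) (vec5 0 0 0 1 0) (vec5 0 0 0 0 (-t)) * g⁻¹ ∈ E5 F
    rw [eich_conj (epair_vec5 _ _ _ _ _ _ _ _ _ _ (by ring) (by ring)), hx, hx]
    have e1 : vec5 (x₀ * 0) (x₁ * 0) (x₂ * 0) (x₃ * 1) (x₄ * 0) = x₃ • vec5 0 0 0 1 0 := by
      rw [smul_vec5]; congr 1 <;> ring
    rw [e1, eich_smul_left (epair_vec5 _ _ _ _ _ _ _ _ _ _ (by ring) (by ring)), smul_vec5]
    have e2 : eich (Qo F) (vec5 0 0 0 1 0) (vec5 (x₃ * (x₀ * 0)) (x₃ * (x₁ * 0)) (x₃ * (x₂ * 0)) (x₃ * (x₃ * 0)) (x₃ * (x₄ * (-t)))) = X5 0 (x₃ * x₄ * t) := by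
      show _ = eich _ _ _
      congr 1
      congr 1 <;> ring
    rw [e2]
    exact X5_mem 0 (by norm_num) _
  · show g * eich (Qo F) (vec5 0 0 0 1 0) (vec5 (-t) 0 0 0 0) * g⁻¹ ∈ E5 F
    rw [eich_conj (epair_vec5 _ _ _ _ _ _ _ _ _ _ (by ring) (by ring)), hx, hx]
    have e1 : vec5 (x₀ * 0) (x₁ * 0) (x₂ * 0) (x₃ * 1) (x₄ * 0) = x₃ • vec5 0 0 0 1 0 := by
      rw [smul_vec5]; congr 1 <;> ring
    rw [e1, eich_smul_left (epair_vec5 _ _ _ _ _ _ _ _ _ _ (by ring) (by ring)), smul_vec5]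
    have e2 : eich (Qo F) (vec5 0 0 0 1 0) (vec5 (x₃ * (x₀ * (-t))) (x₃ * (x₁ * 0)) (x₃ * (x₂ * 0)) (x₃ * (x₃ * 0)) (x₃ * (x₄ * 0))) = X5 1 (x₃ * x₀ * t) := by
      show _ = eich _ _ _
      congr 1
      congr 1 <;> ring
    rw [e2]
    exact X5_mem 1 (by norm_num) _
  · show g * eich (Qo F) (vec5 0 0 0 0 1) (vec5 (-t) 0 0 0 0) * g⁻¹ ∈ E5 F
    rw [eich_conj (epair_vec5 _ _ _ _ _ _ _ _ _ _ (by ring) (by ring)), hx, hx]
    have e1 : vec5 (x₀ * 0) (x₁ * 0) (x₂ * 0) (x₃ * 0) (x₄ * 1) = x₄ • vec5 0 0 0 0 1 := by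
      rw [smul_vec5]; congr 1 <;> ring
    rw [e1, eich_smul_left (epair_vec5 _ _ _ _ _ _ _ _ _ _ (by ring) (by ring)), smul_vec5]
    have e2 : eich (Qo F) (vec5 0 0 0 0 1) (vec5 (x₄ * (x₀ * (-t))) (x₄ * (x₁ * 0)) (x₄ * (x₂ * 0)) (x₄ * (x₃ * 0)) (x₄ * (x₄ * 0))) = X5 2 (x₄ * x₀ * t) := by
      show _ = eich _ _ _
      congr 1
      congr 1 <;> ring
    rw [e2]
    exact X5_mem 2 (by norm_num) _
  · show g * eich (Qo F) (vec5 0 0 0 1 0) (vec5 0 0 (-t) 0 0) * g⁻¹ ∈ E5 F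
    rw [eich_conj (epair_vec5 _ _ _ _ _ _ _ _ _ _ (by ring) (by ring)), hx, hx]
    have e1 : vec5 (x₀ * 0) (x₁ * 0) (x₂ * 0) (x₃ * 1) (x₄ * 0) = x₃ • vec5 0 0 0 1 0 := by
      rw [smul_vec5]; congr 1 <;> ring
    rw [e1, eich_smul_left (epair_vec5 _ _ _ _ _ _ _ _ _ _ (by ring) (by ring)), smul_vec5]
    have e2 : eich (Qo F) (vec5 0 0 0 1 0) (vec5 (x₃ * (x₀ * 0)) (x₃ * (x₁ * 0)) (x₃ * (x₂ * (-t))) (x₃ * (x₃ * 0)) (x₃ * (x₄ * 0))) = X5 3 (x₃ * x₂ * t) := by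
      show _ = eich _ _ _
      congr 1
      congr 1 <;> ring
    rw [e2]
    exact X5_mem 3 (by norm_num) _
  · show g * eich (Qo F) (vec5 0 1 0 0 0) (vec5 0 0 0 0 t) * g⁻¹ ∈ E5 F
    rw [eich_conj (epair_vec5 _ _ _ _ _ _ _ _ _ _ (by ring) (by ring)), hx, hx]
    have e1 : vec5 (x₀ * 0) (x₁ * 1) (x₂ * 0) (x₃ * 0) (x₄ * 0) = x₁ • vec5 0 1 0 0 0 := by
      rw [smul_vec5]; congr 1 <;> ring
    rw [e1, eich_smul_left (epair_vec5 _ _ _ _ _ _ _ _ _ _ (by ring) (by ring)), smul_vec5]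
    have e2 : eich (Qo F) (vec5 0 1 0 0 0) (vec5 (x₁ * (x₀ * 0)) (x₁ * (x₁ * 0)) (x₁ * (x₂ * 0)) (x₁ * (x₃ * 0)) (x₁ * (x₄ * t))) = X5 4 (x₁ * x₄ * t) := by
      show _ = eich _ _ _
      congr 1
      congr 1 <;> ring
    rw [e2]
    exact X5_mem 4 (by norm_num) _
  · show g * eich (Qo F) (vec5 0 0 1 0 0) (vec5 t 0 0 0 0) * g⁻¹ ∈ E5 F
    rw [eich_conj (epair_vec5 _ _ _ _ _ _ _ _ _ _ (by ring) (by ring)), hx, hx]
    have e1 : vec5 (x₀ * 0) (x₁ * 0) (x₂ * 1) (x₃ * 0) (x₄ * 0) = x₂ • vec5 0 0 1 0 0 := by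
      rw [smul_vec5]; congr 1 <;> ring
    rw [e1, eich_smul_left (epair_vec5 _ _ _ _ _ _ _ _ _ _ (by ring) (by ring)), smul_vec5]
    have e2 : eich (Qo F) (vec5 0 0 1 0 0) (vec5 (x₂ * (x₀ * t)) (x₂ * (x₁ * 0)) (x₂ * (x₂ * 0)) (x₂ * (x₃ * 0)) (x₂ * (x₄ * 0))) = X5 5 (x₂ * x₀ * t) := by
      show _ = eich _ _ _
      congr 1
      congr 1 <;> ring
    rw [e2]
    exact X5_mem 5 (by norm_num) _
  · show g * eich (Qo F) (vec5 0 1 0 0 0) (vec5 t 0 0 0 0) * g⁻¹ ∈ E5 F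
    rw [eich_conj (epair_vec5 _ _ _ _ _ _ _ _ _ _ (by ring) (by ring)), hx, hx]
    have e1 : vec5 (x₀ * 0) (x₁ * 1) (x₂ * 0) (x₃ * 0) (x₄ * 0) = x₁ • vec5 0 1 0 0 0 := by
      rw [smul_vec5]; congr 1 <;> ring
    rw [e1, eich_smul_left (epair_vec5 _ _ _ _ _ _ _ _ _ _ (by ring) (by ring)), smul_vec5]
    have e2 : eich (Qo F) (vec5 0 1 0 0 0) (vec5 (x₁ * (x₀ * t)) (x₁ * (x₁ * 0)) (x₁ * (x₂ * 0)) (x₁ * (x₃ * 0)) (x₁ * (x₄ * 0))) = X5 6 (x₁ * x₀ * t) := by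
      show _ = eich _ _ _
      congr 1
      congr 1 <;> ring
    rw [e2]
    exact X5_mem 6 (by norm_num) _
  · show g * eich (Qo F) (vec5 0 1 0 0 0) (vec5 0 0 t 0 0) * g⁻¹ ∈ E5 F
    rw [eich_conj (epair_vec5 _ _ _ _ _ _ _ _ _ _ (by ring) (by ring)), hx, hx]
    have e1 : vec5 (x₀ * 0) (x₁ * 1) (x₂ * 0) (x₃ * 0) (x₄ * 0) = x₁ • vec5 0 1 0 0 0 := by
      rw [smul_vec5]; congr 1 <;> ring
    rw [e1, eich_smul_left (epair_vec5 _ _ _ _ _ _ _ _ _ _ (by ring) (by ring)), smul_vec5]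
    have e2 : eich (Qo F) (vec5 0 1 0 0 0) (vec5 (x₁ * (x₀ * 0)) (x₁ * (x₁ * 0)) (x₁ * (x₂ * t)) (x₁ * (x₃ * 0)) (x₁ * (x₄ * 0))) = X5 7 (x₁ * x₂ * t) := by
      show _ = eich _ _ _
      congr 1
      congr 1 <;> ring
    rw [e2]
    exact X5_mem 7 (by norm_num) _

theorem conj_E5_le (g : ↥(Cfsg.isometryGroup F ⇑(Qo F))) (hg : IsDiag g)
    (x : ↥(Cfsg.isometryGroup F ⇑(Qo F))) (hx : x ∈ E5 F) : g * x * g⁻¹ ∈ E5 F := by
  have : E5 F ≤ (E5 F).comap (MulAut.conj g).toMonoidHom := by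
    unfold E5
    rw [Subgroup.closure_le]
    rintro y ⟨r, t, hr, rfl⟩
    rw [SetLike.mem_coe, Subgroup.mem_comap]
    exact conj_X5_diag g hg r hr t
  exact this hx

/-- Every isometry is the product of an element of the subgroup generated by the root elements and a diagonal
isometry. -/
theorem reduce_diag (g : ↥(Cfsg.isometryGroup F ⇑(Qo F))) : ∃ h ∈ E5 F, IsDiag (h * g) := by
  -- first step: the first basis vector
  have hq1 : Qo F (mat g *ᵥ vec5 0 1 0 0 0) = 0 := by rw [Q_mulVec, Qo_vec5]; ring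
  have hv1 : mat g *ᵥ (vec5 0 1 0 0 0 : I5 → F) ≠ 0 :=
    mulVec_ne_zero g _ ((vec5_ne_zero_iff _ _ _ _ _).mpr (Or.inr (Or.inl one_ne_zero)))
  obtain ⟨h1, hh1, E1⟩ := exists_map_to_e1 _ hq1 hv1
  set g1 := h1 * g with hg1
  have G1e : mat g1 *ᵥ (vec5 0 1 0 0 0 : I5 → F) = vec5 0 1 0 0 0 := by rw [hg1, coe_mul_mulVec, E1]
  -- second step: its partner
  set w := mat g1 *ᵥ (vec5 0 0 0 1 0 : I5 → F) with hw
  have hwd : w (Sum.inr (Sum.inr 0)) = 1 := by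
    rw [← bp_e1 w, ← G1e, hw, bp_mulVec, bp_vec5]; ring
  have hwq : Qo F w = 0 := by rw [hw, Q_mulVec, Qo_vec5]; ring
  have hweta := vec5_eta w
  rw [hwd] at hweta
  rw [hweta] at hwq
  obtain ⟨h2, hh2, H2e, H2w⟩ := exists_map_partner _ _ _ _ hwq
  rw [← hweta] at H2w
  set g2 := h2 * g1 with hg2
  have G2e : mat g2 *ᵥ (vec5 0 1 0 0 0 : I5 → F) = vec5 0 1 0 0 0 := by rw [hg2, coe_mul_mulVec, G1e, H2e]
  have G2f : mat g2 *ᵥ (vec5 0 0 0 1 0 : I5 → F) = vec5 0 0 0 1 0 := by rw [hg2, coe_mul_mulVec, ← hw, H2w]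
  -- third step: the second basis vector
  set v := mat g2 *ᵥ (vec5 0 0 1 0 0 : I5 → F) with hv
  have hvd : v (Sum.inr (Sum.inr 0)) = 0 := by
    rw [← bp_e1 v, ← G2e, hv, bp_mulVec, bp_vec5]; ring
  have hvb : v (Sum.inr (Sum.inl 0)) = 0 := by
    rw [← bp_f1 v, ← G2f, hv, bp_mulVec, bp_vec5]; ring
  have hvq : Qo F v = 0 := by rw [hv, Q_mulVec, Qo_vec5]; ring
  have hvne : v ≠ 0 := mulVec_ne_zero g2 _ ((vec5_ne_zero_iff _ _ _ _ _).mpr (Or.inr (Or.inr (Or.inl one_ne_zero))))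
  have hveta := vec5_eta v
  rw [hvd, hvb] at hveta
  rw [hveta] at hvq hvne
  have hvne' : v (Sum.inl ()) ≠ 0 ∨ v (Sum.inr (Sum.inl 1)) ≠ 0 ∨ v (Sum.inr (Sum.inr 1)) ≠ 0 := by
    rcases (vec5_ne_zero_iff _ _ _ _ _).mp hvne with h | h | h | h | h
    · exact Or.inl h
    · exact absurd rfl h
    · exact Or.inr (Or.inl h)
    · exact absurd rfl h
    · exact Or.inr (Or.inr h)
  obtain ⟨h3, hh3, H3e, H3f, l, hl, H3v⟩ := exists_map_three _ _ _ hvq hvne'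
  rw [← hveta] at H3v
  set g3 := h3 * g2 with hg3
  have G3e : mat g3 *ᵥ (vec5 0 1 0 0 0 : I5 → F) = vec5 0 1 0 0 0 := by rw [hg3, coe_mul_mulVec, G2e, H3e]
  have G3f : mat g3 *ᵥ (vec5 0 0 0 1 0 : I5 → F) = vec5 0 0 0 1 0 := by rw [hg3, coe_mul_mulVec, G2f, H3f]
  have G3e2 : mat g3 *ᵥ (vec5 0 0 1 0 0 : I5 → F) = vec5 0 0 l 0 0 := by rw [hg3, coe_mul_mulVec, ← hv, H3v]
  -- fourth step: its partner
  set w' := mat g3 *ᵥ (vec5 0 0 0 0 1 : I5 → F) with hw'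
  have hw'd : w' (Sum.inr (Sum.inr 0)) = 0 := by
    rw [← bp_e1 w', ← G3e, hw', bp_mulVec, bp_vec5]; ring
  have hw'b : w' (Sum.inr (Sum.inl 0)) = 0 := by
    rw [← bp_f1 w', ← G3f, hw', bp_mulVec, bp_vec5]; ring
  have hw'm : l * w' (Sum.inr (Sum.inr 1)) = 1 := by
    have h := bp_mulVec g3 (vec5 0 0 0 0 1 : I5 → F) (vec5 0 0 1 0 0)
    rw [G3e2, ← hw', bp_vec5] at h
    have h' : bp (Qo F) w' (vec5 0 0 l 0 0) = l * w' (Sum.inr (Sum.inr 1)) := by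
      conv_lhs => rw [vec5_eta w']
      rw [bp_vec5]; ring
    rw [← h', h]; ring
  have hm : w' (Sum.inr (Sum.inr 1)) ≠ 0 := by
    intro h0
    rw [h0, mul_zero] at hw'm
    exact zero_ne_one hw'm
  have hw'q : Qo F w' = 0 := by rw [hw', Q_mulVec, Qo_vec5]; ring
  have hw'eta := vec5_eta w'
  rw [hw'd, hw'b] at hw'eta
  rw [hw'eta] at hw'q
  obtain ⟨h4, hh4, H4e, H4f, H4l, H4w⟩ := exists_map_three' _ _ _ hm hw'q
  rw [← hw'eta] at H4w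
  set g4 := h4 * g3 with hg4
  have G4e : mat g4 *ᵥ (vec5 0 1 0 0 0 : I5 → F) = vec5 0 1 0 0 0 := by rw [hg4, coe_mul_mulVec, G3e, H4e]
  have G4f : mat g4 *ᵥ (vec5 0 0 0 1 0 : I5 → F) = vec5 0 0 0 1 0 := by rw [hg4, coe_mul_mulVec, G3f, H4f]
  have G4e2 : mat g4 *ᵥ (vec5 0 0 1 0 0 : I5 → F) = vec5 0 0 l 0 0 := by rw [hg4, coe_mul_mulVec, G3e2, H4l]
  have G4f2 : mat g4 *ᵥ (vec5 0 0 0 0 1 : I5 → F) = vec5 0 0 0 0 (w' (Sum.inr (Sum.inr 1))) := by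
    rw [hg4, coe_mul_mulVec, ← hw', H4w]
  -- last step: the anisotropic basis vector
  set z := mat g4 *ᵥ (vec5 1 0 0 0 0 : I5 → F) with hz
  have hzd : z (Sum.inr (Sum.inr 0)) = 0 := by
    rw [← bp_e1 z, ← G4e, hz, bp_mulVec, bp_vec5]; ring
  have hzb : z (Sum.inr (Sum.inl 0)) = 0 := by
    rw [← bp_f1 z, ← G4f, hz, bp_mulVec, bp_vec5]; ring
  have hze : z (Sum.inr (Sum.inr 1)) = 0 := by
    have h := bp_mulVec g4 (vec5 1 0 0 0 0 : I5 → F) (vec5 0 0 1 0 0)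
    rw [G4e2, ← hz, bp_vec5] at h
    have h' : bp (Qo F) z (vec5 0 0 l 0 0) = l * z (Sum.inr (Sum.inr 1)) := by
      conv_lhs => rw [vec5_eta z]
      rw [bp_vec5]; ring
    rw [h'] at h
    have h2 : l * z (Sum.inr (Sum.inr 1)) = 0 := by rw [h]; ring
    rcases mul_eq_zero.mp h2 with h3 | h3
    · exact absurd h3 hl
    · exact h3
  have hzc : z (Sum.inr (Sum.inl 1)) = 0 := by
    have h := bp_mulVec g4 (vec5 1 0 0 0 0 : I5 → F) (vec5 0 0 0 0 1)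
    rw [G4f2, ← hz, bp_vec5] at h
    have h' : bp (Qo F) z (vec5 0 0 0 0 (w' (Sum.inr (Sum.inr 1)))) =
        w' (Sum.inr (Sum.inr 1)) * z (Sum.inr (Sum.inl 1)) := by
      conv_lhs => rw [vec5_eta z]
      rw [bp_vec5]; ring
    rw [h'] at h
    have h2 : w' (Sum.inr (Sum.inr 1)) * z (Sum.inr (Sum.inl 1)) = 0 := by rw [h]; ring
    rcases mul_eq_zero.mp h2 with h3 | h3
    · exact absurd h3 hm
    · exact h3
  have hzeta := vec5_eta z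
  rw [hzd, hzb, hze, hzc] at hzeta
  refine ⟨h4 * h3 * h2 * h1, Subgroup.mul_mem _ (Subgroup.mul_mem _ (Subgroup.mul_mem _ hh4 hh3) hh2) hh1, ?_⟩
  have e : h4 * h3 * h2 * h1 * g = g4 := by
    rw [hg4, hg3, hg2, hg1]; group
  rw [e]
  exact isDiag_of_basis g4 _ _ _ _ _ hzeta G4e G4e2 G4f G4f2

/-- The subgroup generated by the root elements is normal. -/
theorem E5_normal : (E5 F).Normal := by
  constructor
  intro x hx g
  obtain ⟨h, hh, hf⟩ := reduce_diag (F := F) g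
  have e : g * x * g⁻¹ = h⁻¹ * ((h * g) * x * (h * g)⁻¹) * h := by group
  rw [e]
  exact Subgroup.mul_mem _ (Subgroup.mul_mem _ (Subgroup.inv_mem _ hh) (conj_E5_le _ hf x hx)) hh

/-- The commutator subgroup is contained in the subgroup generated by the root elements. -/
theorem commutator_le_E5 : commutator ↥(Cfsg.isometryGroup F ⇑(Qo F)) ≤ E5 F := by
  have := E5_normal (F := F)
  rw [commutator_def, Subgroup.commutator_le]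
  intro g₁ _ g₂ _
  obtain ⟨a₁, ha₁, hf₁⟩ := reduce_diag (F := F) g₁
  obtain ⟨a₂, ha₂, hf₂⟩ := reduce_diag (F := F) g₂
  have hcomm := commute_of_isDiag _ _ hf₁ hf₂
  rw [← QuotientGroup.eq_one_iff]
  have e₀ : ((⁅g₁, g₂⁆ : ↥(Cfsg.isometryGroup F ⇑(Qo F))) : _ ⧸ E5 F) =
      ⁅(QuotientGroup.mk g₁ : _ ⧸ E5 F), QuotientGroup.mk g₂⁆ :=
    map_commutatorElement (QuotientGroup.mk' (E5 F)) g₁ g₂
  rw [e₀]
  have e₁ : (QuotientGroup.mk g₁ : _ ⧸ E5 F) = QuotientGroup.mk (a₁ * g₁) := by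
    rw [QuotientGroup.mk_mul, (QuotientGroup.eq_one_iff a₁).mpr ha₁, one_mul]
  have e₂ : (QuotientGroup.mk g₂ : _ ⧸ E5 F) = QuotientGroup.mk (a₂ * g₂) := by
    rw [QuotientGroup.mk_mul, (QuotientGroup.eq_one_iff a₂).mpr ha₂, one_mul]
  rw [e₁, e₂, commutatorElement_eq_one_iff_mul_comm, ← QuotientGroup.mk_mul, ← QuotientGroup.mk_mul, hcomm]

end Cfsg.Agent.Lib.Helper3.PB
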