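import Mathlib
import Cfsg.Prelude.Def_Steinberg
import Cfsg.Prelude.Def_SteinbergCover
import Cfsg.Agent.Lib.Helper3.PB6
import Cfsg.Agent.Lib.Helper3.PO8
import Cfsg.Agent.Lib.Helper3.StB14
import Cfsg.Agent.Lib.Helper3.ChevData.B2St
import Cfsg.Agent.Lib.Helper3.ChevData.B2Rel
import Cfsg.Agent.Lib.Helper3.ChevData.B2Hdec
import Cfsg.Agent.Lib.Helper3.ChevData.B2Tri
import Cfsg.Agent.Lib.Helper3.ChevData.B2NegTri
import Cfsg.Agent.Lib.Helper3.ChevData.B2Opp
import Cfsg.Agent.Lib.Helper3.ChevData.B2NegRefl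
import Cfsg.Agent.Lib.Helper3.ChevData.B2Rwc
import Cfsg.Agent.Lib.Helper3.ChevData.B2Inj
import Cfsg.Agent.Lib.Helper3.ChevData.B2Simple
import Cfsg.Agent.S2395
set_option autoImplicit false
set_option linter.unusedSectionVars false
set_option maxRecDepth 1000000
open Cfsg Cfsg.Lie

/-! The Chevalley group of type B₂ is isomorphic to `PΩ₅`. -/

namespace Cfsg.Agent.Lib.Helper3.PB

open Cfsg.Agent.H9Sieg Cfsg.Agent.Lib.Helper5.QuadOdd Matrix
open Cfsg.Agent.Lib.Helper3.ChevM Cfsg.Agent.Lib.Helper3.StB Cfsg.Agent.Lib.Helper3.PO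

section
variable (F : Type*) [Field F]

/-- The homomorphism from the free group sending the symbols to the root elements of the orthogonal group. -/
noncomputable def lift5 : FreeGroup (Fin chevB2.nroots × F) →* ↥(Cfsg.isometryGroup F ⇑(Qo F)) :=
  FreeGroup.lift fun p => X5 p.1.val p.2

variable {F}

theorem X5_of_not_lt (r : ℕ) (hr : ¬ r < 8) (t : F) : X5 r t = 1 := by
  unfold X5
  split <;> first | omega | rfl

theorem lift5_stX (r : ℕ) (t : F) : lift5 F (chevB2.stX r t) = X5 r t := by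
  by_cases hr : r < chevB2.nroots
  · rw [stX_of_lt _ r hr]
    unfold lift5
    rw [FreeGroup.lift_apply_of]
  · rw [stX_of_not_lt _ r hr, map_one]
    have hr' : ¬ r < 8 := hr
    rw [X5_of_not_lt r hr']

theorem lift5_stWord (w : List (ℕ × F)) : lift5 F (chevB2.stWord w) = wordS X5 w := by
  rw [map_stWord]
  unfold wordS
  congr 1
  apply List.map_congr_left
  intro p _
  exact lift5_stX p.1 p.2

theorem lift5_rels : ∀ g ∈ chevB2.steinbergRelsAB F, lift5 F g = 1 := by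
  rintro g (⟨r, a, b, hr, rfl⟩ | ⟨r, s, t, u, hr, hs, hsr, hsn, rfl⟩)
  · rw [map_mul, map_mul, map_inv, lift5_stX, lift5_stX, lift5_stX, X5_add, mul_inv_cancel]
  · rw [map_mul, map_mul, map_mul, map_mul, map_inv, map_inv, map_inv, lift5_stX, lift5_stX, lift5_stWord,
      mul_inv_eq_one]
    exact X5_comm r s hr hs hsr hsn t u

/-- The homomorphism from the group presented by (R1) and (R2) to the orthogonal group. -/
noncomputable def psi5 : chevB2.SteinbergCover F →* ↥(Cfsg.isometryGroup F ⇑(Qo F)) :=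
  PresentedGroup.toGroup (f := fun p : Fin chevB2.nroots × F => X5 p.1.val p.2)
    (show ∀ r ∈ chevB2.steinbergRelsAB F,
      FreeGroup.lift (fun p : Fin chevB2.nroots × F => X5 p.1.val p.2) r = 1 from lift5_rels)

theorem psi5_of (p : Fin chevB2.nroots × F) : psi5 (PresentedGroup.of p) = X5 p.1.val p.2 := by
  unfold psi5
  rw [PresentedGroup.toGroup.of]

theorem psi5_range : (psi5 (F := F)).range = E5 F := by
  apply le_antisymm
  · rw [MonoidHom.range_eq_map, ← PresentedGroup.closure_range_of, MonoidHom.map_closure, Subgroup.closure_le]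
    rintro _ ⟨_, ⟨p, rfl⟩, rfl⟩
    rw [psi5_of]
    exact X5_mem _ p.1.isLt _
  · unfold E5
    rw [Subgroup.closure_le]
    rintro g ⟨r, t, hr, rfl⟩
    have hr' : r < chevB2.nroots := hr
    exact ⟨PresentedGroup.of ((⟨r, hr'⟩ : Fin chevB2.nroots), t), by rw [psi5_of]⟩

theorem X5_ne_one : X5 7 (1 : F) ≠ 1 := by
  intro h
  have e : mat (X5 7 (1 : F)) *ᵥ vec5 0 0 0 1 0 = mat (1 : ↥(Cfsg.isometryGroup F ⇑(Qo F))) *ᵥ vec5 0 0 0 1 0 := by
    rw [h]
  rw [X5_7_vec, coe_one_mulVec] at e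
  have := (vec5_inj e).2.2.1
  have h1 : (1 : F) = 0 := by linear_combination -this
  exact one_ne_zero h1

theorem E5_noncomm : ∃ a b : ↥(E5 F), a * b ≠ b * a := by
  refine ⟨⟨X5 4 1, X5_mem 4 (by norm_num) _⟩, ⟨X5 5 1, X5_mem 5 (by norm_num) _⟩, ?_⟩
  intro hc
  have hc' : X5 4 (1 : F) * X5 5 1 = X5 5 1 * X5 4 1 := congrArg Subtype.val hc
  have e : mat (X5 4 (1 : F) * X5 5 1) *ᵥ vec5 0 0 0 1 0 = mat (X5 5 (1 : F) * X5 4 1) *ᵥ vec5 0 0 0 1 0 := by
    rw [hc']
  rw [coe_mul_mulVec, coe_mul_mulVec, X5_5_vec, X5_4_vec, X5_4_vec, X5_5_vec] at e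
  have := (vec5_inj e).1
  have h1 : (1 : F) = 0 := by linear_combination -this
  exact one_ne_zero h1

/-- The commutator subgroup of the orthogonal group of `x₀² + x₁y₁ + x₂y₂` is generated by the root elements, when
the field has more than two elements. -/
theorem Omega_eq_E5 (hF : ∃ a : F, a ≠ 0 ∧ a ≠ 1) : Cfsg.Omega F ⇑(Qo F) = E5 F := by
  apply le_antisymm commutator_le_E5
  rw [← psi5_range]
  have hperf : commutator (chevB2.SteinbergCover F) = ⊤ :=
    Cfsg.Agent.S2395.result (K := F) chevB2 (by simp) (fun _ => hF)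
  rintro _ ⟨x, rfl⟩
  have hx : x ∈ commutator (chevB2.SteinbergCover F) := by rw [hperf]; exact Subgroup.mem_top x
  have hle : commutator (chevB2.SteinbergCover F) ≤
      (commutator ↥(Cfsg.isometryGroup F ⇑(Qo F))).comap (psi5 (F := F)) := by
    rw [commutator_def, Subgroup.commutator_le]
    intro a _ b _
    rw [Subgroup.mem_comap, map_commutatorElement]
    exact Subgroup.commutator_mem_commutator (Subgroup.mem_top _) (Subgroup.mem_top _)
  exact hle hx

/-- `B₂(F) ≃ PΩ₅(F)`, for the quadratic form given as a `QuadraticForm`. -/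
theorem b2_iso_aux (hF : ∃ a : F, a ≠ 0 ∧ a ≠ 1) :
    Nonempty (↥(chevB2.group F) ≃* Cfsg.POmega F ⇑(Qo F)) := by
  obtain ⟨θ, hθs, hθk, -⟩ := pres_exists relB2 commB2 stHypB2
    (relB2.borel_core_trivial (of_pairRange (m := 8) (n := 8) b2Hdec) b2Tri b2NegTri w0B2 w0rB2 w0B2_lt b2Opp
      (of_pairRange (m := 2) (n := 8) b2NegRefl) rwB2 b2Rwc b2Inj) _ (fun g hg => hg)
    (stLift_relsAB (F := F) relB2 commB2)
  obtain ⟨hsimple, hnc⟩ : IsSimpleGroup ↥(chevB2.group F) ∧ ¬ IsMulCommutative ↥(chevB2.group F) :=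
    commB2.simple (F := F) simpleB2 (Or.inr hF)
  have hG : ∃ a b : ↥(chevB2.group F), a * b ≠ b * a := by
    by_contra hcon
    push Not at hcon
    exact hnc ⟨⟨hcon⟩⟩
  have hΩ : Cfsg.Omega F ⇑(Qo F) = E5 F := Omega_eq_E5 hF
  have hrange : ∀ x, psi5 (F := F) x ∈ Cfsg.Omega F ⇑(Qo F) := by
    intro x
    rw [hΩ, ← psi5_range]
    exact ⟨x, rfl⟩
  let ψ : chevB2.SteinbergCover F →* ↥(Cfsg.Omega F ⇑(Qo F)) := psi5.codRestrict _ hrange
  have hψ : Function.Surjective ψ := by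
    rintro ⟨y, hy⟩
    have hy' : y ∈ (psi5 (F := F)).range := by rw [psi5_range, ← hΩ]; exact hy
    obtain ⟨x, rfl⟩ := hy'
    exact ⟨x, rfl⟩
  have hE : ∃ a b : ↥(Cfsg.Omega F ⇑(Qo F)), a * b ≠ b * a := by
    obtain ⟨a, b, hab⟩ := E5_noncomm (F := F)
    refine ⟨⟨a.1, by rw [hΩ]; exact a.2⟩, ⟨b.1, by rw [hΩ]; exact b.2⟩, ?_⟩
    intro h
    apply hab
    apply Subtype.ext
    have := congrArg Subtype.val h
    exact this
  have := hsimple
  exact center_quot_iso θ hθs hθk hG ψ hψ hE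

/-- `B₂(F) ≃ PΩ₅(F)`. -/
theorem b2_iso (hF : ∃ a : F, a ≠ 0 ∧ a ≠ 1) :
    Nonempty (↥(chevB2.group F) ≃* Cfsg.POmega F (Cfsg.quadFormOdd 2 F)) := by
  have h := b2_iso_aux (F := F) hF
  have e : ⇑(Qo F) = Cfsg.quadFormOdd 2 F := QO_coe 2
  rw [e] at h
  exact h

end

end Cfsg.Agent.Lib.Helper3.PB
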