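import Mathlib
import Cfsg.Agent.Lib.Helper4.FM1

set_option autoImplicit false
set_option linter.unusedVariables false
set_option linter.unusedSectionVars false

/-! S3793 (Shult–Gross), package M-B: the orbit sum of a weight vector, and the commutative case of
the module theorem for an element of prime-power order without fixed vectors. -/

namespace Cfsg.Agent.Lib.Helper3.PPMB

open Module Cfsg.Agent.Lib.Helper4.FM

section MB

variable {K : Type*} [Field K] {G : Type*} [Group G] {V : Type*} [AddCommGroup V] [Module K V]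
  (ρ : Representation K G V) (M : Subgroup G) [hMn : M.Normal]

/-- `ρ (x ^ (i+1)) v = ρ x (ρ (x ^ i) v)` -/
theorem rho_pow_succ (x : G) (i : ℕ) (v : V) : ρ (x ^ (i + 1)) v = ρ x (ρ (x ^ i) v) := by
  rw [pow_succ', map_mul, Module.End.mul_apply]

/-- if `x ^ i` moves the weight `χ` for `0 < i < s` and `v ∈ wt χ` is fixed by `x ^ s`, then
`∑_{i<s} ρ (x^i) v` is a fixed vector of `x`, non-zero unless `v = 0`. -/
theorem orbit_sum_fixed (hcomm : ∀ a b : M, Commute (ρ (a : G)) (ρ (b : G)))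
    (x : G) (s : ℕ) (hs : 0 < s) (χ : M → K)
    (hmin : ∀ i, 0 < i → i < s → conjWt M (x ^ i) χ ≠ χ)
    (v : V) (hv : v ∈ wt ρ M χ) (hfix : ρ (x ^ s) v = v)
    (hx : ∀ w : V, ρ x w = w → w = 0) : v = 0 := by
  classical
  obtain ⟨t, rfl⟩ : ∃ t, s = t + 1 := ⟨s - 1, by omega⟩
  set f : ℕ → V := fun i => ρ (x ^ i) v with hf
  have hf0 : f 0 = v := by
    simp only [hf, pow_zero, map_one, Module.End.one_apply]
  -- the orbit sum is fixed by `x`
  have hw : ρ x (∑ i ∈ Finset.range (t + 1), f i) = ∑ i ∈ Finset.range (t + 1), f i := by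
    rw [map_sum]
    have h1 : ∑ i ∈ Finset.range (t + 1), ρ x (f i) = ∑ i ∈ Finset.range (t + 1), f (i + 1) :=
      Finset.sum_congr rfl (fun i _ => (rho_pow_succ ρ x i v).symm)
    rw [h1]
    have h2 := Finset.sum_range_succ' f (t + 1)
    have h3 := Finset.sum_range_succ f (t + 1)
    have h4 : f (t + 1) = f 0 := by rw [hf0]; exact hfix
    rw [h4] at h3
    exact add_right_cancel (h2.symm.trans h3)
  have hz := hx _ hw
  rw [Finset.sum_range_succ', hf0] at hz
  -- `v` lies in the weight space of `χ` and in the span of the other weight spaces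
  have hmem : ∑ i ∈ Finset.range t, f (i + 1) ∈ ⨆ ψ, ⨆ (_ : ψ ≠ χ), wt ρ M ψ := by
    apply Submodule.sum_mem
    intro i hi
    have hi' : i < t := Finset.mem_range.1 hi
    have h5 : f (i + 1) ∈ wt ρ M (conjWt M (x ^ (i + 1)) χ) := map_mem_wt ρ M _ χ v hv
    have h6 : conjWt M (x ^ (i + 1)) χ ≠ χ := hmin (i + 1) (by omega) (by omega)
    exact Submodule.mem_iSup_of_mem _ (Submodule.mem_iSup_of_mem h6 h5)
  have hv' : v = - ∑ i ∈ Finset.range t, f (i + 1) := by
    rw [eq_neg_iff_add_eq_zero, add_comm]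
    exact hz
  have hdis := (iSupIndep_wt ρ M hcomm) χ
  have hvm : v ∈ ⨆ ψ, ⨆ (_ : ψ ≠ χ), wt ρ M ψ := by
    rw [hv']
    exact Submodule.neg_mem _ hmem
  have := hdis.le_bot ⟨hv, hvm⟩
  exact (Submodule.mem_bot K).1 this

/-- the stabilizer of a weight -/
def wtStab (χ : M → K) : Subgroup G where
  carrier := {g | conjWt M g χ = χ}
  one_mem' := conjWt_one M χ
  mul_mem' := by
    intro a b ha hb
    show conjWt M (a * b) χ = χ
    rw [conjWt_mul]
    have hb' : conjWt M b χ = χ := hb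
    rw [hb']
    exact ha
  inv_mem' := by
    intro a ha
    show conjWt M a⁻¹ χ = χ
    have ha' : conjWt M a χ = χ := ha
    have h := conjWt_mul (K := K) M a⁻¹ a χ
    rw [inv_mul_cancel, conjWt_one, ha'] at h
    exact h.symm

theorem mem_wtStab (χ : M → K) (g : G) : g ∈ wtStab M χ ↔ conjWt M g χ = χ := Iff.rfl

/-- an element stabilizing the weight `χ` commutes with `M` on the weight space of `χ` -/
theorem comm_fix_of_stab (χ : M → K) (τ : G) (hτ : conjWt M τ χ = χ) (m : G) (hm : m ∈ M)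
    (v : V) (hv : v ∈ wt ρ M χ) : ρ (m⁻¹ * τ⁻¹ * m * τ) v = v := by
  have h1 : ρ τ v ∈ wt ρ M χ := by
    have := map_mem_wt ρ M τ χ v hv
    rwa [hτ] at this
  have h2 : ρ m (ρ τ v) = χ ⟨m, hm⟩ • ρ τ v := (mem_wt ρ M χ _).1 h1 ⟨m, hm⟩
  have h3 : ρ m v = χ ⟨m, hm⟩ • v := (mem_wt ρ M χ _).1 hv ⟨m, hm⟩
  have h4 : ρ τ⁻¹ (ρ τ v) = v := by
    rw [← Module.End.mul_apply, ← map_mul, inv_mul_cancel, map_one, Module.End.one_apply]
  have h5 : ρ m⁻¹ (ρ m v) = v := by
    rw [← Module.End.mul_apply, ← map_mul, inv_mul_cancel, map_one, Module.End.one_apply]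
  rw [map_mul, map_mul, map_mul, Module.End.mul_apply, Module.End.mul_apply, Module.End.mul_apply,
    h2, map_smul, h4, ← h3, h5]

/-- `M` acts commutatively, `x` has no fixed vector, `τ` lies in every non-trivial subgroup of
`⟨x⟩`: then `τ` stabilizes every weight with a non-zero weight space. -/
theorem tau_stab (hcomm : ∀ a b : M, Commute (ρ (a : G)) (ρ (b : G)))
    (x τ : G) (hfin : IsOfFinOrder x)
    (hτ : ∀ e ∈ Subgroup.zpowers x, e ≠ 1 → τ ∈ Subgroup.zpowers e)
    (H4 : ∀ w : V, ρ x w = w → w = 0) (χ : M → K) (hχ : wt ρ M χ ≠ ⊥) :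
    conjWt M τ χ = χ := by
  classical
  have hex : ∃ s, 0 < s ∧ conjWt M (x ^ s) χ = χ :=
    ⟨orderOf x, hfin.orderOf_pos, by rw [pow_orderOf_eq_one, conjWt_one]⟩
  obtain ⟨hs0, hs⟩ := Nat.find_spec hex
  have hmin : ∀ i, 0 < i → i < Nat.find hex → conjWt M (x ^ i) χ ≠ χ := by
    intro i hi0 hi h
    exact Nat.find_min hex hi ⟨hi0, h⟩
  obtain ⟨v, hv, hv0⟩ := (Submodule.ne_bot_iff _).1 hχ
  have hne : x ^ Nat.find hex ≠ 1 := by
    intro h1
    apply hv0
    apply orbit_sum_fixed ρ M hcomm x (Nat.find hex) hs0 χ hmin v hv _ H4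
    rw [h1, map_one, Module.End.one_apply]
  have hmem := hτ (x ^ Nat.find hex) (Subgroup.pow_mem _ (Subgroup.mem_zpowers x) _) hne
  have hle : Subgroup.zpowers (x ^ Nat.find hex) ≤ wtStab M χ := by
    rw [Subgroup.zpowers_le]
    exact hs
  exact hle hmem

/-- `M` acts commutatively, `x` has no fixed vector, `τ` lies in every non-trivial subgroup of
`⟨x⟩`: then `[M, τ]` acts trivially. -/
theorem ab_comm_trivial_pp [IsAlgClosed K] [FiniteDimensional K V] [Finite M]
    (hM : (Nat.card M : K) ≠ 0)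
    (hcomm : ∀ a b : M, Commute (ρ (a : G)) (ρ (b : G)))
    (x τ : G) (hfin : IsOfFinOrder x)
    (hτ : ∀ e ∈ Subgroup.zpowers x, e ≠ 1 → τ ∈ Subgroup.zpowers e)
    (H4 : ∀ w : V, ρ x w = w → w = 0) :
    ∀ m ∈ M, ρ (m⁻¹ * τ⁻¹ * m * τ) = 1 := by
  classical
  intro m hm
  have hspan := iSup_wt_eq_top ρ M hcomm hM
  have hle : (⨆ χ : M → K, wt ρ M χ) ≤ LinearMap.eqLocus (ρ (m⁻¹ * τ⁻¹ * m * τ)) 1 := by
    apply iSup_le
    intro χ v hv
    rw [LinearMap.mem_eqLocus, Module.End.one_apply]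
    by_cases hχ : wt ρ M χ = ⊥
    · rw [hχ, Submodule.mem_bot] at hv
      rw [hv, map_zero]
    · exact comm_fix_of_stab ρ M χ τ (tau_stab ρ M hcomm x τ hfin hτ H4 χ hχ) m hm v hv
  rw [hspan] at hle
  apply LinearMap.ext
  intro v
  exact hle (Submodule.mem_top : v ∈ ⊤)

end MB

end Cfsg.Agent.Lib.Helper3.PPMB
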