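import Mathlib
import Cfsg.Agent.Lib.Helper8.WardA
import Cfsg.Agent.Lib.Lead.CoprimeAction
import Cfsg.Agent.Lib.Lead.S3Defs

/-!
# S4305, case (b): general tools

`Tm Z Y g` : `g` acts trivially on `Z / Y`; conjugate subgroups `cj`; the averaging lemma `av2`
(from the fixed-points-on-quotients lemma for coprime action).
-/

set_option autoImplicit false
set_option linter.unusedSectionVars false
set_option linter.unusedVariables false

namespace Cfsg.Agent.Lib.Helper3.S3B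

open Cfsg.Agent.Lib.Helper8.Ward

universe w

variable {T : Type w} [Group T]

/-- the conjugate subgroup `g K g⁻¹`. -/
abbrev cj (g : T) (K : Subgroup T) : Subgroup T := K.map (MulAut.conj g).toMonoidHom

theorem mem_cj {g y : T} {K : Subgroup T} : y ∈ cj g K ↔ g⁻¹ * y * g ∈ K := by
  constructor
  · rintro ⟨x, hx, rfl⟩
    have : g⁻¹ * ((MulAut.conj g).toMonoidHom x) * g = x := by
      simp [MulAut.conj_apply, mul_assoc]
    rw [this]
    exact hx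
  · intro h
    refine ⟨g⁻¹ * y * g, h, ?_⟩
    simp [MulAut.conj_apply, mul_assoc]

theorem cj_cj (g h : T) (K : Subgroup T) : cj g (cj h K) = cj (g * h) K := by
  ext y
  rw [mem_cj, mem_cj, mem_cj]
  have : h⁻¹ * (g⁻¹ * y * g) * h = (g * h)⁻¹ * y * (g * h) := by group
  rw [this]

theorem cj_one (K : Subgroup T) : cj 1 K = K := by
  ext y
  rw [mem_cj]
  simp

theorem cj_inv_cj (g : T) (K : Subgroup T) : cj g⁻¹ (cj g K) = K := by
  rw [cj_cj, inv_mul_cancel, cj_one]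

theorem cj_le {g : T} {K Z : Subgroup T} (hK : K ≤ Z) (hg : ∀ z ∈ Z, g * z * g⁻¹ ∈ Z) :
    cj g K ≤ Z := by
  rintro _ ⟨x, hx, rfl⟩
  exact hg x (hK hx)

/-- conjugation by powers. -/
theorem conj_pow_mem {K : Subgroup T} {g : T} (h : ∀ y ∈ K, g * y * g⁻¹ ∈ K) (n : ℕ) :
    ∀ y ∈ K, g ^ n * y * (g ^ n)⁻¹ ∈ K := by
  induction n with
  | zero => intro y hy; simpa using hy
  | succ n ih =>
    intro y hy
    have h1 := h _ (ih y hy)
    have : g ^ (n + 1) * y * (g ^ (n + 1))⁻¹ = g * (g ^ n * y * (g ^ n)⁻¹) * g⁻¹ := by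
      rw [pow_succ']; group
    rw [this]
    exact h1

theorem conj_inv_mem [Finite T] {K : Subgroup T} {g : T} (h : ∀ y ∈ K, g * y * g⁻¹ ∈ K) :
    ∀ y ∈ K, g⁻¹ * y * g ∈ K := by
  intro y hy
  have h1 := conj_pow_mem h (orderOf g - 1) y hy
  rw [← inv_eq_pow_pred, inv_inv] at h1
  exact h1

theorem conj_zpow_mem [Finite T] {K : Subgroup T} {g : T} (h : ∀ y ∈ K, g * y * g⁻¹ ∈ K) (n : ℤ) :
    ∀ y ∈ K, g ^ n * y * (g ^ n)⁻¹ ∈ K := by
  intro y hy
  rcases Int.eq_nat_or_neg n with ⟨m, rfl | rfl⟩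
  · rw [zpow_natCast]; exact conj_pow_mem h m y hy
  · rw [zpow_neg, zpow_natCast, ← inv_pow]
    exact conj_pow_mem (g := g⁻¹) (K := K) (by
      intro y hy; rw [inv_inv]; exact conj_inv_mem h y hy) m y hy

theorem le_normalizer_of_conj {K N : Subgroup T} (h : ∀ k ∈ K, ∀ n ∈ N, k * n * k⁻¹ ∈ N) :
    K ≤ Subgroup.normalizer (N : Set T) := by
  intro k hk
  rw [Subgroup.mem_normalizer_iff]
  intro n
  refine ⟨h k hk n, fun hn => ?_⟩
  have := h k⁻¹ (K.inv_mem hk) _ hn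
  simpa [mul_assoc] using this

/-- `g` acts trivially on `Z / Y`. -/
def Tm (Z Y : Subgroup T) (g : T) : Prop := ∀ z ∈ Z, g * z * g⁻¹ * z⁻¹ ∈ Y

section tm

variable [Finite T] {Z Y : Subgroup T}

theorem tm_iff (hYZ : Y ≤ Z) {g : T} : Tm Z Y g ↔ g ∈ trivMod Z Y hYZ := Iff.rfl

theorem tm_one : Tm Z Y (1 : T) := by
  intro z hz
  simp

theorem tm_mul (hYZ : Y ≤ Z) {g h : T} (hg : Tm Z Y g) (hh : Tm Z Y h) : Tm Z Y (g * h) :=
  (trivMod Z Y hYZ).mul_mem hg hh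

theorem tm_inv (hYZ : Y ≤ Z) {g : T} (hg : Tm Z Y g) : Tm Z Y g⁻¹ :=
  (trivMod Z Y hYZ).inv_mem hg

theorem tm_pow (hYZ : Y ≤ Z) {g : T} (hg : Tm Z Y g) (n : ℕ) : Tm Z Y (g ^ n) :=
  (trivMod Z Y hYZ).pow_mem hg n

theorem tm_zpow (hYZ : Y ≤ Z) {g : T} (hg : Tm Z Y g) (n : ℤ) : Tm Z Y (g ^ n) :=
  (trivMod Z Y hYZ).zpow_mem hg n

theorem tm_conj_mem (hYZ : Y ≤ Z) {g : T} (hg : Tm Z Y g) {z : T} (hz : z ∈ Z) :
    g * z * g⁻¹ ∈ Z :=
  conj_mem_of_mem_trivMod (hYZ := hYZ) hg hz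

theorem tm_conj_mem_Y (hYZ : Y ≤ Z) {g : T} (hg : Tm Z Y g) {y : T} (hy : y ∈ Y) :
    g * y * g⁻¹ ∈ Y :=
  conj_mem_Y_of_mem_trivMod (hYZ := hYZ) hg hy

/-- transport under conjugation by an element normalizing `Z`. -/
theorem tm_conj {g n : T} (hg : Tm Z Y g) (hn : ∀ z ∈ Z, n⁻¹ * z * n ∈ Z) :
    Tm Z (cj n Y) (n * g * n⁻¹) := by
  intro z hz
  rw [mem_cj]
  have h1 := hg _ (hn z hz)
  have : n⁻¹ * (n * g * n⁻¹ * z * (n * g * n⁻¹)⁻¹ * z⁻¹) * n
      = g * (n⁻¹ * z * n) * g⁻¹ * (n⁻¹ * z * n)⁻¹ := by group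
  rw [this]
  exact h1

/-- an element without fixed points on `Z` cannot act trivially on a proper quotient. -/
theorem tm_fpf (hYZ : Y ≤ Z) {g : T} (hg : Tm Z Y g) (hfix : ∀ z ∈ Z, g * z = z * g → z = 1) :
    Z ≤ Y := by
  intro y hy
  have hbR : ∀ x ∈ Z, (g⁻¹)⁻¹ * x * g⁻¹ ∈ Z := by
    intro x hx
    rw [inv_inv]
    exact tm_conj_mem hYZ hg hx
  have hfix' : ∀ x ∈ Z, g⁻¹ * x = x * g⁻¹ → x = 1 := by
    intro x hx h
    apply hfix x hx
    have h1 : g * (g⁻¹ * x) * g = g * (x * g⁻¹) * g := by rw [h]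
    have h2 : g * (g⁻¹ * x) * g = x * g := by group
    have h3 : g * (x * g⁻¹) * g = g * x := by group
    rw [h2, h3] at h1
    exact h1.symm
  obtain ⟨x, hx, hxy⟩ := exists_comm_eq hbR hfix' hy
  rw [inv_inv] at hxy
  have h1 := hg x⁻¹ (Z.inv_mem hx)
  rw [inv_inv] at h1
  rw [hxy]
  exact h1

end tm

/-- **averaging**: a group `K` and an element `g` normalizing it, both acting trivially on
`Z / Y`, of orders prime to `|Z|`, `Z` abelian, and all common fixed points in `Z` lie in `Y`: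
then `Z = Y`. -/
theorem av2 [Finite T] (Z Y K : Subgroup T) (g : T) (hYZ : Y ≤ Z)
    (hZc : ∀ x ∈ Z, ∀ y ∈ Z, x * y = y * x)
    (hK : ∀ k ∈ K, Tm Z Y k) (hg : Tm Z Y g) (hgK : ∀ k ∈ K, g⁻¹ * k * g ∈ K)
    (hcopK : (Nat.card K).Coprime (Nat.card Z)) (hcopg : (orderOf g).Coprime (Nat.card Z))
    (hfix : ∀ c ∈ Z, (∀ k ∈ K, k * c = c * k) → g * c = c * g → c ∈ Y) : Z ≤ Y := by
  intro z hz
  have hsolvZ : Group.IsSolvable Z :=
    Group.isSolvable_of_comm (fun a b => Subtype.ext (hZc a a.2 b b.2))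
  have hKZ : K ≤ Subgroup.normalizer (Z : Set T) :=
    le_normalizer_of_conj (fun k hk z hz => tm_conj_mem hYZ (hK k hk) hz)
  have hZY : Z ≤ Subgroup.normalizer (Y : Set T) := by
    apply le_normalizer_of_conj
    intro k hk n hn
    have : k * n * k⁻¹ = n := by
      rw [hZc k hk n (hYZ hn)]; group
    rw [this]; exact hn
  have hKY : K ≤ Subgroup.normalizer (Y : Set T) :=
    le_normalizer_of_conj (fun k hk y hy => tm_conj_mem_Y hYZ (hK k hk) hy)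
  obtain ⟨c, hc, hzc⟩ := Cfsg.Agent.Lib.Lead.coprime_fixed_coset K Z hKZ hcopK (Or.inr hsolvZ) Y hYZ
    hZY hKY z hz (fun a ha => hK a ha z hz)
  -- second step, with `zpowers g` on `W = C_Z(K)`
  set W : Subgroup T := Z ⊓ Subgroup.centralizer (K : Set T) with hW
  have hWZ : W ≤ Z := inf_le_left
  have hWc : ∀ x ∈ W, ∀ y ∈ W, x * y = y * x := fun x hx y hy => hZc x (hWZ hx) y (hWZ hy)
  have hsolvW : Group.IsSolvable W :=
    Group.isSolvable_of_comm (fun a b => Subtype.ext (hWc a a.2 b b.2))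
  have hgW : ∀ w ∈ W, g * w * g⁻¹ ∈ W := by
    intro w hw
    refine Subgroup.mem_inf.2 ⟨tm_conj_mem hYZ hg (hWZ hw), ?_⟩
    rw [Subgroup.mem_centralizer_iff]
    intro k hk
    have h1 := (Subgroup.mem_centralizer_iff.1 (Subgroup.mem_inf.1 hw).2) _ (hgK k hk)
    -- (g⁻¹ k g) w = w (g⁻¹ k g)
    have h2 : k * (g * w * g⁻¹) = g * ((g⁻¹ * k * g) * w) * g⁻¹ := by group
    have h3 : g * w * g⁻¹ * k = g * (w * (g⁻¹ * k * g)) * g⁻¹ := by group
    rw [h2, h3, h1]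
  have hGW : ∀ a ∈ Subgroup.zpowers g, ∀ w ∈ W, a * w * a⁻¹ ∈ W := by
    intro a ha w hw
    obtain ⟨n, rfl⟩ := Subgroup.mem_zpowers_iff.1 ha
    exact conj_zpow_mem hgW n w hw
  have hgZW : Subgroup.zpowers g ≤ Subgroup.normalizer (W : Set T) :=
    le_normalizer_of_conj hGW
  have hcopgW : (Nat.card (Subgroup.zpowers g)).Coprime (Nat.card W) := by
    rw [Nat.card_zpowers]
    exact Nat.Coprime.coprime_dvd_right (Subgroup.card_dvd_of_le hWZ) hcopg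
  have hgtm : ∀ a ∈ Subgroup.zpowers g, Tm Z Y a := by
    rintro _ ⟨n, rfl⟩
    exact tm_zpow hYZ hg n
  have hWY : W ≤ Subgroup.normalizer ((Y ⊓ W : Subgroup T) : Set T) := by
    apply le_normalizer_of_conj
    intro k hk n hn
    have : k * n * k⁻¹ = n := by
      rw [hZc k (hWZ hk) n (hWZ hn.2)]; group
    rw [this]; exact hn
  have hgYW : Subgroup.zpowers g ≤ Subgroup.normalizer ((Y ⊓ W : Subgroup T) : Set T) := by
    apply le_normalizer_of_conj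
    intro a ha n hn
    exact ⟨tm_conj_mem_Y hYZ (hgtm a ha) hn.1, hGW a ha n hn.2⟩
  obtain ⟨d, hd, hcd⟩ := Cfsg.Agent.Lib.Lead.coprime_fixed_coset (Subgroup.zpowers g) W hgZW
    hcopgW (Or.inr hsolvW) (Y ⊓ W) inf_le_right hWY hgYW c hc (by
      intro a ha
      refine ⟨hgtm a ha c (hWZ hc), ?_⟩
      exact W.mul_mem (hGW a ha c hc) (W.inv_mem hc))
  have hdY : d ∈ Y := by
    apply hfix d (hWZ hd.1)
    · intro k hk
      exact (Subgroup.mem_centralizer_iff.1 hd.1.2) k hk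
    · have := (Subgroup.mem_centralizer_iff.1 hd.2) g (Subgroup.mem_zpowers g)
      exact this
  have hcY : c ∈ Y := by
    have h1 : c⁻¹ ∈ Y := by
      have : c⁻¹ = (c⁻¹ * d) * d⁻¹ := by group
      rw [this]
      exact Y.mul_mem hcd.1 (Y.inv_mem hdY)
    simpa using Y.inv_mem h1
  have h2 : z⁻¹ ∈ Y := by
    have : z⁻¹ = (z⁻¹ * c) * c⁻¹ := by group
    rw [this]
    exact Y.mul_mem hzc (Y.inv_mem hcY)
  simpa using Y.inv_mem h2

end Cfsg.Agent.Lib.Helper3.S3B
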