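import Mathlib
import Cfsg.Agent.Lib.Helper3.S3B1
import Cfsg.Agent.Lib.Helper2.PQA
import Cfsg.Agent.Lib.Lead.CoprimeAction

/-!
# S4306, package T-Ab: the tower configuration with `Q` abelian (case `Z = 1`)

`A = F ⊔ H₀` a non-abelian group of order `pq` (helper2's `IsPQ`), `S` normalized by `A`, `Q` abelian
normalized by `S` (and `A`), all orders pairwise coprime, `C_Q(A) = 1`, Lemma U as a hypothesis
(`C_Q([S,a]⟨a⟩) = 1` for `1 ≠ a ∈ A`), and a proper subgroup `Q₀ < Q` such that for every `x ∈ S`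
some non-trivial element of `A` acts trivially on `Q / x Q₀ x⁻¹` (output of (L-star) on an
`S`-invariant family).  Then `False`.

No minimality hypothesis is needed: the full Schur–Zassenhaus theorem (complements of `S` in `S ⋊ A`
are conjugate since `A` is solvable) replaces the reduction to `S / C_S(Q)` abelian.
-/

set_option autoImplicit false
set_option linter.unusedSectionVars false
set_option linter.unusedVariables false
set_option linter.style.haveILetI false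

namespace Cfsg.Agent.Lib.Helper3.PQAb

open Cfsg.Agent.Lib.Helper8.Ward Cfsg.Agent.Lib.Helper3.S3B Cfsg.Agent.Lib.Helper2.PQA

open scoped Pointwise

universe w

variable {T : Type w} [Group T]

/-- a group of order `pq` given as `F ⊔ H₀` is solvable. -/
theorem isSolvable_of_isPQ {p q : ℕ} {F H₀ : Subgroup T} (hpq : IsPQ p q F H₀) :
    Group.IsSolvable ↥(F ⊔ H₀) := by
  have hFA : F ≤ F ⊔ H₀ := le_sup_left
  haveI hn : (F.subgroupOf (F ⊔ H₀)).Normal := by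
    refine ⟨fun f hf a => ?_⟩
    rw [Subgroup.mem_subgroupOf] at hf ⊢
    exact hpq.norm_sup a.2 hf
  haveI h1 : Group.IsSolvable (F.subgroupOf (F ⊔ H₀)) :=
    Group.isSolvable_of_comm (fun a b => Subtype.ext (Subtype.ext (hpq.commF a.2 b.2)))
  have hcardF' : Nat.card (F.subgroupOf (F ⊔ H₀)) = q := by
    rw [Nat.card_congr (Subgroup.subgroupOfEquivOfLe hFA).toEquiv, hpq.cardF]
  have hidx : Nat.card (↥(F ⊔ H₀) ⧸ F.subgroupOf (F ⊔ H₀)) = p := by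
    rw [← Subgroup.index_eq_card]
    have h := (F.subgroupOf (F ⊔ H₀)).card_mul_index
    rw [hcardF', hpq.card_sup, mul_comm p q] at h
    exact Nat.eq_of_mul_eq_mul_left hpq.hq.pos h
  haveI : Fact p.Prime := ⟨hpq.hp⟩
  haveI hcyc : IsCyclic (↥(F ⊔ H₀) ⧸ F.subgroupOf (F ⊔ H₀)) := isCyclic_of_prime_card hidx
  haveI h2 : Group.IsSolvable (↥(F ⊔ H₀) ⧸ F.subgroupOf (F ⊔ H₀)) :=
    Group.isSolvable_of_comm (fun a b => (IsCyclic.commGroup).mul_comm a b)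
  exact Group.isSolvable_of_ker_le_range (F.subgroupOf (F ⊔ H₀)).subtype
    (QuotientGroup.mk' (F.subgroupOf (F ⊔ H₀))) (by
      rw [QuotientGroup.ker_mk', Subgroup.range_subtype])

/-- internal Schur–Zassenhaus (existence). -/
theorem exists_compl_card [Finite T] (C M : Subgroup T) (hCM : C ≤ M)
    (hMC : ∀ m ∈ M, ∀ c ∈ C, m * c * m⁻¹ ∈ C) (n : ℕ)
    (hcard : Nat.card M = Nat.card C * n) (hcop : (Nat.card C).Coprime n) :
    ∃ B : Subgroup T, B ≤ M ∧ Nat.card B = n := by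
  haveI : (C.subgroupOf M).Normal := ⟨fun c hc m => by
    rw [Subgroup.mem_subgroupOf] at hc ⊢; exact hMC m m.2 c hc⟩
  have hcardC' : Nat.card (C.subgroupOf M) = Nat.card C :=
    Nat.card_congr (Subgroup.subgroupOfEquivOfLe hCM).toEquiv
  have hidx : (C.subgroupOf M).index = n := by
    have h := (C.subgroupOf M).card_mul_index
    rw [hcardC', hcard] at h
    exact Nat.eq_of_mul_eq_mul_left Nat.card_pos h
  obtain ⟨H, hH⟩ := Subgroup.exists_right_complement'_of_coprime (N := C.subgroupOf M)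
    (by rw [hcardC', hidx]; exact hcop)
  refine ⟨H.map M.subtype, ?_, ?_⟩
  · rintro _ ⟨x, _, rfl⟩; exact x.2
  · rw [← Nat.card_congr (Subgroup.equivMapOfInjective H M.subtype M.subtype_injective).toEquiv]
    have h := hH.card_mul_card
    rw [hcardC', hcard] at h
    exact Nat.eq_of_mul_eq_mul_left Nat.card_pos h

/-- the elements of `A` covered, modulo `S`, by `N`. -/
def cov (A S N : Subgroup T) (hAS : ∀ a ∈ A, ∀ s ∈ S, a * s * a⁻¹ ∈ S) : Subgroup T where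
  carrier := {a | a ∈ A ∧ ∃ s ∈ S, s * a ∈ N}
  one_mem' := ⟨A.one_mem, 1, S.one_mem, by simp⟩
  mul_mem' := by
    rintro a b ⟨ha, s, hs, hsa⟩ ⟨hb, s', hs', hsb⟩
    refine ⟨A.mul_mem ha hb, s * (a * s' * a⁻¹), S.mul_mem hs (hAS a ha s' hs'), ?_⟩
    have : s * (a * s' * a⁻¹) * (a * b) = (s * a) * (s' * b) := by group
    rw [this]; exact N.mul_mem hsa hsb
  inv_mem' := by
    rintro a ⟨ha, s, hs, hsa⟩
    refine ⟨A.inv_mem ha, a⁻¹ * s⁻¹ * a⁻¹⁻¹, hAS a⁻¹ (A.inv_mem ha) s⁻¹ (S.inv_mem hs), ?_⟩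
    have : a⁻¹ * s⁻¹ * a⁻¹⁻¹ * a⁻¹ = (s * a)⁻¹ := by group
    rw [this]; exact N.inv_mem hsa

theorem mem_cov {A S N : Subgroup T} {hAS : ∀ a ∈ A, ∀ s ∈ S, a * s * a⁻¹ ∈ S} {a : T} :
    a ∈ cov A S N hAS ↔ a ∈ A ∧ ∃ s ∈ S, s * a ∈ N := Iff.rfl

/-- **T-Ab** (S4306, case `Z = 1`): the tower configuration with `Q` abelian does not exist. -/
theorem tower_ab_false [Finite T] {p q : ℕ} {F H₀ : Subgroup T} (hpq : IsPQ p q F H₀)
    (Q S Q₀ : Subgroup T)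
    (hQc : ∀ x ∈ Q, ∀ y ∈ Q, x * y = y * x)
    (hSQ : ∀ s ∈ S, ∀ u ∈ Q, s * u * s⁻¹ ∈ Q)
    (hAS : ∀ a ∈ F ⊔ H₀, ∀ s ∈ S, a * s * a⁻¹ ∈ S)
    (hcSQ : (Nat.card S).Coprime (Nat.card Q))
    (hcAQ : (p * q).Coprime (Nat.card Q))
    (hcAS : (p * q).Coprime (Nat.card S))
    (hfixA : ∀ u ∈ Q, (∀ a ∈ F ⊔ H₀, a * u = u * a) → u = 1)
    (hU : ∀ a ∈ F ⊔ H₀, a ≠ 1 → ∀ u ∈ Q, a * u = u * a →
      (∀ x ∈ S, (x * a * x⁻¹ * a⁻¹) * u = u * (x * a * x⁻¹ * a⁻¹)) → u = 1)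
    (hQ₀ : Q₀ ≤ Q) (hQ₀ne : ¬ Q ≤ Q₀)
    (hstar : ∀ x ∈ S, ∃ b ∈ F ⊔ H₀, b ≠ 1 ∧ Tm Q Q₀ (x⁻¹ * b * x)) : False := by
  classical
  set A : Subgroup T := F ⊔ H₀ with hA
  set N : Subgroup T := trivMod Q Q₀ hQ₀ with hN
  have hSQ' : ∀ s ∈ S, ∀ u ∈ Q, s⁻¹ * u * s ∈ Q := fun s hs u hu => by
    have := hSQ s⁻¹ (S.inv_mem hs) u hu
    rwa [inv_inv] at this
  have hAS' : ∀ a ∈ A, ∀ s ∈ S, a⁻¹ * s * a ∈ S := fun a ha s hs => by
    have := hAS a⁻¹ (A.inv_mem ha) s hs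
    rwa [inv_inv] at this
  have hordA : ∀ a ∈ A, (orderOf a).Coprime (Nat.card Q) := by
    intro a ha
    have : orderOf a ∣ p * q := by
      rw [← hpq.card_sup]; exact Subgroup.orderOf_dvd_natCard _ ha
    exact Nat.Coprime.coprime_dvd_left this hcAQ
  -- (i)
  set cv : Subgroup T := cov A S N hAS with hcv
  have hcvA : cv ≤ A := fun a ha => ha.1
  have hbcv : ∀ x ∈ S, ∀ b ∈ A, x⁻¹ * b * x ∈ N → b ∈ cv := by
    intro x hx b hb h
    refine ⟨hb, x⁻¹ * (b * x * b⁻¹), S.mul_mem (S.inv_mem hx) (hAS b hb x hx), ?_⟩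
    have : x⁻¹ * (b * x * b⁻¹) * b = x⁻¹ * b * x := by group
    rw [this]; exact h
  obtain ⟨a₁, ha₁A, ha₁1, ha₁N⟩ := hstar 1 S.one_mem
  have ha₁N' : a₁ ∈ N := by
    have : (1 : T)⁻¹ * a₁ * 1 = a₁ := by group
    rw [this] at ha₁N; exact ha₁N
  have ha₁cv : a₁ ∈ cv := hbcv 1 S.one_mem a₁ ha₁A ha₁N
  -- (iii)
  have key3 : ∀ r : ℕ, r.Prime → Nat.card cv = r → False := by
    intro r hr hcard
    have hall : ∀ x ∈ S, x⁻¹ * a₁ * x ∈ N := by
      intro x hx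
      obtain ⟨b, hbA, hb1, hbN⟩ := hstar x hx
      have hbcv' : b ∈ cv := hbcv x hx b hbA hbN
      have hmem : a₁ ∈ Subgroup.zpowers b := mem_zpowers_of_card_prime hr hcard hbcv' hb1 ha₁cv
      obtain ⟨k, hk⟩ := Subgroup.mem_zpowers_iff.1 hmem
      have h1 : x⁻¹ * b ^ k * x = (x⁻¹ * b * x) ^ k := by
        have := conj_zpow (a := x⁻¹) (b := b) (i := k)
        rw [inv_inv] at this
        exact this.symm
      rw [← hk, h1]
      exact N.zpow_mem hbN k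
    set gens : Set T := {g | ∃ x ∈ S, g = x * a₁ * x⁻¹ * a₁⁻¹} with hgens
    set K : Subgroup T := Subgroup.closure gens with hK
    have hgensN : gens ⊆ N := by
      rintro _ ⟨x, hx, rfl⟩
      have h1 := hall x⁻¹ (S.inv_mem hx)
      rw [inv_inv] at h1
      exact N.mul_mem h1 (N.inv_mem ha₁N')
    have hgensS : gens ⊆ S := by
      rintro _ ⟨x, hx, rfl⟩
      have : x * a₁ * x⁻¹ * a₁⁻¹ = x * (a₁ * x⁻¹ * a₁⁻¹) := by group
      rw [this]; exact S.mul_mem hx (hAS a₁ ha₁A x⁻¹ (S.inv_mem hx))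
    have hKN : K ≤ N := (Subgroup.closure_le N).2 hgensN
    have hKS : K ≤ S := (Subgroup.closure_le S).2 hgensS
    have hKa : ∀ k ∈ K, a₁⁻¹ * k * a₁ ∈ K := by
      intro k hk
      refine Subgroup.closure_induction (p := fun k _ => a₁⁻¹ * k * a₁ ∈ K) ?_ ?_ ?_ ?_ hk
      · rintro _ ⟨x, hx, rfl⟩
        apply Subgroup.subset_closure
        exact ⟨a₁⁻¹ * x * a₁, hAS' a₁ ha₁A x hx, by group⟩
      · have : a₁⁻¹ * 1 * a₁ = 1 := by group
        rw [this]; exact K.one_mem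
      · intro x y _ _ hx hy
        have : a₁⁻¹ * (x * y) * a₁ = (a₁⁻¹ * x * a₁) * (a₁⁻¹ * y * a₁) := by group
        rw [this]; exact K.mul_mem hx hy
      · intro x _ hx
        have : a₁⁻¹ * x⁻¹ * a₁ = (a₁⁻¹ * x * a₁)⁻¹ := by group
        rw [this]; exact K.inv_mem hx
    apply hQ₀ne
    apply av2 Q Q₀ K a₁ hQ₀ hQc (fun k hk => hKN hk) ha₁N' hKa
    · exact Nat.Coprime.coprime_dvd_left (Subgroup.card_dvd_of_le hKS) hcSQ
    · exact hordA a₁ ha₁A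
    · intro c hc hKc hac
      have : c = 1 := hU a₁ ha₁A ha₁1 c hc hac
        (fun x hx => hKc _ (Subgroup.subset_closure ⟨x, hx, rfl⟩))
      rw [this]; exact Q₀.one_mem
  -- (ii)
  have key2 : cv = A → False := by
    intro hcvA'
    have hcover : ∀ a ∈ A, ∃ s ∈ S, s * a ∈ N := by
      intro a ha
      have : a ∈ cv := by rw [hcvA']; exact ha
      exact this.2
    set Γ : Subgroup T := A ⊔ S with hΓ
    set M : Subgroup T := N ⊓ Γ with hM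
    have hSΓ : S ≤ Γ := le_sup_right
    have hAΓ : A ≤ Γ := le_sup_left
    have hAnS : A ≤ Subgroup.normalizer (S : Set T) := le_normalizer_of_conj hAS
    have hΓnS : Γ ≤ Subgroup.normalizer (S : Set T) := sup_le hAnS Subgroup.le_normalizer
    have hcardA : Nat.card A = p * q := hpq.card_sup
    have hcopAS : (Nat.card A).Coprime (Nat.card S) := by rw [hcardA]; exact hcAS
    have hdisj : A ⊓ S = ⊥ := (Subgroup.disjoint_of_coprime_natCard hcopAS).eq_bot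
    have hcardΓ : Nat.card Γ = Nat.card A * Nat.card S :=
      Cfsg.Agent.Lib.Lead.card_sup_of_disjoint A S hAnS hdisj
    have hMS : M ⊓ S = N ⊓ S := by
      rw [hM, inf_assoc, inf_eq_right.2 hSΓ]
    have hMsupS : M ⊔ S = Γ := by
      apply le_antisymm (sup_le inf_le_right hSΓ)
      apply sup_le _ le_sup_right
      intro a ha
      obtain ⟨s, hs, hsa⟩ := hcover a ha
      have hsaM : s * a ∈ M := ⟨hsa, Γ.mul_mem (hSΓ hs) (hAΓ ha)⟩
      have : a = s⁻¹ * (s * a) := by group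
      rw [this]
      exact Subgroup.mul_mem _ (Subgroup.mem_sup_right (S.inv_mem hs)) (Subgroup.mem_sup_left hsaM)
    have hMnS : M ≤ Subgroup.normalizer (S : Set T) := inf_le_right.trans hΓnS
    have hprod := Cfsg.Agent.Lib.Lead.card_sup_mul_card_inf M S hMnS
    rw [hMsupS, hMS, hcardΓ, hcardA] at hprod
    have hcardM : Nat.card M = Nat.card (N ⊓ S : Subgroup T) * (p * q) := by
      have hSpos : 0 < Nat.card S := Nat.card_pos
      have : Nat.card M * Nat.card S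
          = (Nat.card (N ⊓ S : Subgroup T) * (p * q)) * Nat.card S := by
        rw [← hprod]; ring
      exact Nat.eq_of_mul_eq_mul_right hSpos this
    have hCM : N ⊓ S ≤ M := fun c hc => ⟨hc.1, hSΓ hc.2⟩
    have hMC : ∀ m ∈ M, ∀ c ∈ N ⊓ S, m * c * m⁻¹ ∈ N ⊓ S := by
      intro m hm c hc
      refine ⟨N.mul_mem (N.mul_mem hm.1 hc.1) (N.inv_mem hm.1), ?_⟩
      exact (Subgroup.mem_normalizer_iff.1 (hMnS hm) c).1 hc.2
    have hcopC : (Nat.card (N ⊓ S : Subgroup T)).Coprime (p * q) :=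
      (Nat.Coprime.coprime_dvd_right (Subgroup.card_dvd_of_le inf_le_right) hcAS).symm
    obtain ⟨B, hBM, hBcard⟩ := exists_compl_card (N ⊓ S) M hCM hMC (p * q) hcardM hcopC
    haveI hsolvA : Group.IsSolvable A := isSolvable_of_isPQ hpq
    obtain ⟨y, hy, hyB⟩ := Cfsg.Agent.Lib.Lead.coprime_conj_complement A S hAnS hcopAS
      (Or.inl hsolvA) B (hBM.trans inf_le_right) (by rw [hBcard, hcardA])
    have hyN : ∀ a ∈ A, y * a * y⁻¹ ∈ N := by
      intro a ha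
      have h1 : y * a * y⁻¹ ∈ MulAut.conj y • A := by
        rw [Cfsg.Agent.Lib.Lead.mem_conj_smul_iff']
        have : y⁻¹ * (y * a * y⁻¹) * y = a := by group
        rw [this]; exact ha
      rw [hyB] at h1
      exact (hBM h1).1
    have hAtm : ∀ a ∈ A, Tm Q (cj y⁻¹ Q₀) a := by
      intro a ha
      have h1 := tm_conj (n := y⁻¹) (hyN a ha)
        (by intro z hz; rw [inv_inv]; exact hSQ y hy z hz)
      have : y⁻¹ * (y * a * y⁻¹) * y⁻¹⁻¹ = a := by group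
      rw [this] at h1; exact h1
    have hY : cj y⁻¹ Q₀ ≤ Q := cj_le hQ₀ (fun z hz => hSQ y⁻¹ (S.inv_mem hy) z hz)
    obtain ⟨h₀, hh₀, hh₀1⟩ := hpq.exists_H_ne_one
    have hQle : Q ≤ cj y⁻¹ Q₀ := by
      apply av2 Q (cj y⁻¹ Q₀) F h₀ hY hQc (fun k hk => hAtm k (Subgroup.mem_sup_left hk))
        (hAtm h₀ (Subgroup.mem_sup_right hh₀)) (fun k hk => hpq.norm' hh₀ hk)
      · rw [hpq.cardF]; exact Nat.Coprime.coprime_dvd_left (dvd_mul_left q p) hcAQ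
      · exact hordA h₀ (Subgroup.mem_sup_right hh₀)
      · intro c hc hFc hhc
        have : c = 1 := by
          apply hfixA c hc
          intro a ha
          obtain ⟨f, hf, h, hh, rfl⟩ := hpq.mem_sup.1 ha
          have hhz : h ∈ Subgroup.zpowers h₀ :=
            mem_zpowers_of_card_prime hpq.hp hpq.cardH hh₀ hh₀1 hh
          obtain ⟨k, rfl⟩ := Subgroup.mem_zpowers_iff.1 hhz
          have h1 : Commute h₀ c := hhc
          have h2 : Commute (h₀ ^ k) c := h1.zpow_left k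
          have h3 : Commute f c := hFc f hf
          exact (h3.mul_left h2).eq
        rw [this]; exact Subgroup.one_mem _
    apply hQ₀ne
    intro u hu
    have h1 := hQle (hSQ' y hy u hu)
    rw [mem_cj] at h1
    have : y⁻¹⁻¹ * (y⁻¹ * u * y) * y⁻¹ = u := by group
    rw [this] at h1; exact h1
  rcases hpq.subgroup_cases hcvA with h | h | h | ⟨x₀, hx₀, h⟩
  · rw [h, Subgroup.mem_bot] at ha₁cv; exact ha₁1 ha₁cv
  · exact key3 q hpq.hq (by rw [h]; exact hpq.cardF)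
  · exact key2 h
  · exact key3 p hpq.hp (by rw [h, IsPQ.card_conj]; exact hpq.cardH)

/-- **T-Ab**, with the (L-star) output stated for the conjugates `x Q₀ x⁻¹`. -/
theorem tower_ab_false' [Finite T] {p q : ℕ} {F H₀ : Subgroup T} (hpq : IsPQ p q F H₀)
    (Q S Q₀ : Subgroup T)
    (hQc : ∀ x ∈ Q, ∀ y ∈ Q, x * y = y * x)
    (hSQ : ∀ s ∈ S, ∀ u ∈ Q, s * u * s⁻¹ ∈ Q)
    (hAS : ∀ a ∈ F ⊔ H₀, ∀ s ∈ S, a * s * a⁻¹ ∈ S)
    (hcSQ : (Nat.card S).Coprime (Nat.card Q))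
    (hcAQ : (p * q).Coprime (Nat.card Q))
    (hcAS : (p * q).Coprime (Nat.card S))
    (hfixA : ∀ u ∈ Q, (∀ a ∈ F ⊔ H₀, a * u = u * a) → u = 1)
    (hU : ∀ a ∈ F ⊔ H₀, a ≠ 1 → ∀ u ∈ Q, a * u = u * a →
      (∀ x ∈ S, (x * a * x⁻¹ * a⁻¹) * u = u * (x * a * x⁻¹ * a⁻¹)) → u = 1)
    (hQ₀ : Q₀ ≤ Q) (hQ₀ne : ¬ Q ≤ Q₀)
    (hstar : ∀ x ∈ S, ∃ b ∈ F ⊔ H₀, b ≠ 1 ∧ Tm Q (cj x Q₀) b) : False := by
  refine tower_ab_false hpq Q S Q₀ hQc hSQ hAS hcSQ hcAQ hcAS hfixA hU hQ₀ hQ₀ne ?_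
  intro x hx
  obtain ⟨b, hb, hb1, hbt⟩ := hstar x hx
  refine ⟨b, hb, hb1, ?_⟩
  have h1 := tm_conj (n := x⁻¹) hbt (by intro z hz; rw [inv_inv]; exact hSQ x hx z hz)
  rw [cj_inv_cj, inv_inv] at h1
  exact h1

/-- **T-Ab**, family form: a non-empty family of proper subgroups of `Q`, closed under conjugation by
`S`, each member `Q₀` having some non-trivial element of `A` acting trivially on `Q / Q₀`. -/
theorem tower_ab_false_fam [Finite T] {p q : ℕ} {F H₀ : Subgroup T} (hpq : IsPQ p q F H₀)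
    (Q S : Subgroup T)
    (hQc : ∀ x ∈ Q, ∀ y ∈ Q, x * y = y * x)
    (hSQ : ∀ s ∈ S, ∀ u ∈ Q, s * u * s⁻¹ ∈ Q)
    (hAS : ∀ a ∈ F ⊔ H₀, ∀ s ∈ S, a * s * a⁻¹ ∈ S)
    (hcSQ : (Nat.card S).Coprime (Nat.card Q))
    (hcAQ : (p * q).Coprime (Nat.card Q))
    (hcAS : (p * q).Coprime (Nat.card S))
    (hfixA : ∀ u ∈ Q, (∀ a ∈ F ⊔ H₀, a * u = u * a) → u = 1)
    (hU : ∀ a ∈ F ⊔ H₀, a ≠ 1 → ∀ u ∈ Q, a * u = u * a →
      (∀ x ∈ S, (x * a * x⁻¹ * a⁻¹) * u = u * (x * a * x⁻¹ * a⁻¹)) → u = 1)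
    (𝓗 : Set (Subgroup T)) (hne : 𝓗.Nonempty)
    (hsub : ∀ Q₀ ∈ 𝓗, Q₀ ≤ Q ∧ ¬ Q ≤ Q₀)
    (hinv : ∀ Q₀ ∈ 𝓗, ∀ x ∈ S, cj x Q₀ ∈ 𝓗)
    (hstar : ∀ Q₀ ∈ 𝓗, ∃ b ∈ F ⊔ H₀, b ≠ 1 ∧ Tm Q Q₀ b) : False := by
  obtain ⟨Q₀, hQ₀⟩ := hne
  exact tower_ab_false' hpq Q S Q₀ hQc hSQ hAS hcSQ hcAQ hcAS hfixA hU (hsub Q₀ hQ₀).1
    (hsub Q₀ hQ₀).2 (fun x hx => hstar _ (hinv Q₀ hQ₀ x hx))

end Cfsg.Agent.Lib.Helper3.PQAb
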