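import Mathlib
import Cfsg.Agent.Lib.Helper3.PQAb
import Cfsg.Agent.Lib.Helper7.PQSp1
import Cfsg.Agent.Lib.Helper4.PQDefs

/-!
# S4306, package T-Ab against helper4's `Tower`

`false_of_Zc_eq_bot_of` : the skeleton statement `Tower.false_of_Zc_eq_bot`, with the three facts it
consumes from T-struct / T-U ((T3) `comm_mem_Zc`, `pow_mem_Zc`, and Lemma U) as explicit hypotheses,
stated exactly as in `notes/S4306_skeleton.lean.txt`.
-/

set_option autoImplicit false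
set_option linter.unusedSectionVars false
set_option linter.unusedVariables false
set_option linter.style.haveILetI false

namespace Cfsg.Agent.Lib.Helper3.PQAb

open Cfsg.Agent.Lib.Helper8.SBS Cfsg.Agent.Lib.Helper8.Ward Cfsg.Agent.Lib.Helper2.PQA
  Cfsg.Agent.Lib.Helper4.PQ Cfsg.Agent.Lib.Helper3.S3B

universe u w

variable {V : Type u} [AddCommGroup V] [Finite V] {T : Type w} [Group T] [Finite T]
  [DistribMulAction T V] {r t s p q : ℕ} {Q S A F H₀ : Subgroup T}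

/-- **T-Ab** (`Tower.false_of_Zc_eq_bot` of the skeleton), modulo (T3) and Lemma U. -/
theorem false_of_Zc_eq_bot_of (h : Tower V r t s p q Q S A F H₀) (hZ : Zc Q S = ⊥)
    (hcomm : ∀ u ∈ Q, ∀ v ∈ Q, u * v * u⁻¹ * v⁻¹ ∈ Zc Q S)
    (hpow : ∀ u ∈ Q, u ^ t ∈ Zc Q S)
    (hU : ∀ a ∈ A, a ≠ 1 → (orderOf a).Prime → ∀ u ∈ Q, a * u * a⁻¹ * u⁻¹ ∈ Zc Q S →
      (∀ c ∈ S, (a * c * a⁻¹ * c⁻¹) * u * (a * c * a⁻¹ * c⁻¹)⁻¹ * u⁻¹ ∈ Zc Q S) →
      u ∈ Zc Q S) : False := by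
  classical
  obtain ⟨hpq, hAeq⟩ := Cfsg.Agent.Lib.Helper7.PQSp1.isPQ_of_frob h.frob
  haveI htf : Fact t.Prime := ⟨h.ht⟩
  haveI hsf : Fact s.Prime := ⟨h.hs⟩
  haveI hQn : Q.Normal := h.hQn
  have hbot : ∀ x, x ∈ Zc Q S → x = 1 := by
    intro x hx
    rw [hZ] at hx
    exact Subgroup.mem_bot.1 hx
  -- `Q` is elementary abelian
  have hQc : ∀ x ∈ Q, ∀ y ∈ Q, x * y = y * x := by
    intro x hx y hy
    have h1 := hbot _ (hcomm x hx y hy)
    calc x * y = (x * y * x⁻¹ * y⁻¹) * (y * x) := by group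
      _ = y * x := by rw [h1, one_mul]
  have hQe : ∀ z ∈ Q, z ^ t = 1 := fun z hz => hbot _ (hpow z hz)
  have hQne : Q ≠ ⊥ := by
    intro hQ
    obtain ⟨u, hu, c, hc, huc⟩ := h.hQS
    rw [hQ, Subgroup.mem_bot] at hu
    apply huc
    rw [hu, one_mul, mul_one]
  -- coprimality
  have hcopt : (Nat.card V).Coprime t :=
    Cfsg.Agent.Lib.Helper7.PQSp1.coprime_card_V h.hr h.hVr
      ((Nat.coprime_primes h.hr h.ht).2 (Ne.symm h.htr))
  have hcopA : (Nat.card V).Coprime (Nat.card A) := by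
    rw [h.frob.hA]
    exact Cfsg.Agent.Lib.Helper7.PQSp1.coprime_card_V h.hr h.hVr h.hrA
  obtain ⟨k, hk⟩ := IsPGroup.iff_card.1 h.hQ
  obtain ⟨m, hm⟩ := IsPGroup.iff_card.1 h.hS
  have hcopQ : (Nat.card V).Coprime (Nat.card Q) := by
    rw [hk]; exact Nat.Coprime.pow_right k hcopt
  have hcSQ : (Nat.card S).Coprime (Nat.card Q) := by
    rw [hk, hm]
    exact Nat.Coprime.pow _ _ ((Nat.coprime_primes h.hs h.ht).2 (Ne.symm h.hts))
  have hcAQ : (p * q).Coprime (Nat.card Q) := by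
    rw [hk]; exact (Nat.Coprime.pow_left k h.htA).symm
  have hcAS : (p * q).Coprime (Nat.card S) := by
    rw [hm]; exact (Nat.Coprime.pow_left m h.hsA).symm
  -- fixed points
  have hQ0 : fixedPts (V := V) Q = ⊥ :=
    Cfsg.Agent.Lib.Helper7.PQSp1.fixedPts_eq_bot_of_normal' h.hirr h.hQn h.hfaith hQne
  have hAfix : fixedPts (V := V) A = ⊥ := by
    rw [eq_bot_iff]
    intro v hv
    exact (AddSubgroup.mem_bot).2 (h.hfpfV v hv)
  -- a hyperplane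
  obtain ⟨Q₀, hQ₀⟩ := Cfsg.Agent.Lib.Helper7.PQSp1.exists_isHyp hcopt h.hV Q hQc hQe hQ0
  have hQ₀le : Q₀ ≤ Q := hQ₀.1
  have hQ₀ne : ¬ Q ≤ Q₀ := by
    intro hle
    have heq : Q₀ = Q := le_antisymm hQ₀le hle
    have h2 := hQ₀.2.1
    rw [heq] at h2
    have hpos : 0 < Nat.card Q := Nat.card_pos
    have : Nat.card Q * t = Nat.card Q * 1 := by rw [h2, mul_one]
    have := Nat.eq_of_mul_eq_mul_left hpos this
    exact h.ht.one_lt.ne' this
  subst hAeq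
  refine tower_ab_false' hpq Q S Q₀ hQc (fun c _ u hu => h.hQn.conj_mem u hu c) h.hAS hcSQ hcAQ hcAS
    h.hfpfQ ?_ hQ₀le hQ₀ne ?_
  · -- Lemma U
    intro a ha ha1 u hu hau hSu
    have hao : (orderOf a).Prime := by
      rcases hpq.orderOf_cases ha with h1 | h1 | h1
      · exact absurd h1 ha1
      · rw [h1]; exact hpq.hp
      · rw [h1]; exact hpq.hq
    apply hbot
    apply hU a ha ha1 hao u hu
    · have : a * u * a⁻¹ * u⁻¹ = 1 := by rw [hau]; group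
      rw [this]; exact Subgroup.one_mem _
    · intro c hc
      have h1 := hSu c hc
      have h2 : a * c * a⁻¹ * c⁻¹ = (c * a * c⁻¹ * a⁻¹)⁻¹ := by group
      have h3 : (c * a * c⁻¹ * a⁻¹)⁻¹ * u * (c * a * c⁻¹ * a⁻¹)⁻¹⁻¹ * u⁻¹ = 1 := by
        rw [inv_inv]
        calc (c * a * c⁻¹ * a⁻¹)⁻¹ * u * (c * a * c⁻¹ * a⁻¹) * u⁻¹
            = (c * a * c⁻¹ * a⁻¹)⁻¹ * (u * (c * a * c⁻¹ * a⁻¹)) * u⁻¹ := by group
          _ = (c * a * c⁻¹ * a⁻¹)⁻¹ * ((c * a * c⁻¹ * a⁻¹) * u) * u⁻¹ := by rw [h1]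
          _ = 1 := by group
      rw [h2, h3]; exact Subgroup.one_mem _
  · -- (L-star) on the conjugates of `Q₀`
    intro x hx
    have hx' : IsHyp (V := V) t Q (conjSub x Q₀) := isHyp_conjSub hQ₀ x
    obtain ⟨b, hbA, hbo, -, hb⟩ :=
      Cfsg.Agent.Lib.Helper7.S3L2.exists_prime_trivial_mod_hyp (V := V) (E := Q) (A := F ⊔ H₀)
        hQc hQ0 hcopQ hcopA hAfix hx'
    refine ⟨b, hbA, ?_, hb⟩
    rintro rfl
    rw [orderOf_one] at hbo
    exact Nat.not_prime_one hbo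

end Cfsg.Agent.Lib.Helper3.PQAb
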