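import Mathlib
import Cfsg.Prelude.Def_CaseTheorems

set_option autoImplicit false

namespace Cfsg.Agent.Lib.Helper3
theorem pRankLE_of_mulEquiv {p k : ℕ} {G G' : Type*} [Group G] [Group G'] (e : G ≃* G')
    (h : Cfsg.PRankLE p k G) : Cfsg.PRankLE p k G' := by
  intro A' hc he
  have hinj : Function.Injective e.symm.toMonoidHom := e.symm.injective
  have h1 := h (A'.map e.symm.toMonoidHom) (Subgroup.map_isMulCommutative _ _) (by
    rintro _ ⟨a, ha, rfl⟩
    rw [← map_pow, he a ha, map_one])
  rwa [Subgroup.card_map_of_injective hinj] at h1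
end Cfsg.Agent.Lib.Helper3
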