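import Cfsg.Agent.Lib.Lead.PSingDefs

/-!
# S4321 package Q0: the `p`-part of a `p`-singular element

If `p ∣ orderOf x` and `p ∤ |Z(G)|` then a suitable power `u` of `x` is a nontrivial
`p`-element whose class size divides that of `x` and is larger than one.
-/

set_option autoImplicit false

namespace Cfsg.Agent.Lib.Helper3.PSing

open Cfsg.Agent.Lib.Lead.PSing

universe u

variable {G : Type u} [Group G] [Finite G] {p : ℕ} [Fact p.Prime]

theorem ppart_exists (hZ : ¬ p ∣ Nat.card ↥(Subgroup.center G)) (x : G) (hx : p ∣ orderOf x) :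
    ∃ u : G, IsPEl p u ∧ u ≠ 1 ∧ p ∣ orderOf u ∧ cs u ∣ cs x ∧ 1 < cs u := by
  have hp : p.Prime := Fact.out
  have hn0 : orderOf x ≠ 0 := (orderOf_pos x).ne'
  obtain ⟨e, m, hpm, hnm⟩ := Nat.exists_eq_pow_mul_and_not_dvd hn0 p hp.ne_one
  have he : e ≠ 0 := by
    rintro rfl
    rw [pow_zero, one_mul] at hnm
    exact hpm (hnm ▸ hx)
  have hm0 : m ≠ 0 := by
    rintro rfl
    exact hn0 (by rw [hnm, mul_zero])
  have hmdvd : m ∣ orderOf x := ⟨p ^ e, by rw [hnm, mul_comm]⟩
  have hord : orderOf (x ^ m) = p ^ e := by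
    rw [orderOf_pow_of_dvd hm0 hmdvd, hnm]
    exact Nat.mul_div_cancel _ (Nat.pos_of_ne_zero hm0)
  have hpu : p ∣ orderOf (x ^ m) := by
    rw [hord]; exact dvd_pow_self p he
  have hu1 : x ^ m ≠ 1 := by
    intro h1
    rw [h1, orderOf_one] at hpu
    exact hp.one_lt.ne' (Nat.dvd_one.mp hpu)
  have hle : Subgroup.centralizer ({x} : Set G) ≤ Subgroup.centralizer ({x ^ m} : Set G) := by
    intro g hg
    rw [Subgroup.mem_centralizer_singleton_iff] at hg ⊢
    exact ((Commute.pow_right (show Commute g x from hg) m)).eq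
  have hdvd : cs (x ^ m) ∣ cs x := Subgroup.index_dvd_of_le hle
  refine ⟨x ^ m, ⟨e, hord⟩, hu1, hpu, hdvd, ?_⟩
  have hne0 : cs (x ^ m) ≠ 0 := Subgroup.index_ne_zero_of_finite
  have hne1 : cs (x ^ m) ≠ 1 := by
    intro h1
    have htop : Subgroup.centralizer ({x ^ m} : Set G) = ⊤ := Subgroup.index_eq_one.mp h1
    have hmem : x ^ m ∈ Subgroup.center G := by
      rw [Subgroup.mem_center_iff]
      intro g
      have hg : g ∈ Subgroup.centralizer ({x ^ m} : Set G) := htop ▸ Subgroup.mem_top g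
      rw [Subgroup.mem_centralizer_singleton_iff] at hg
      exact hg
    have hdiv : orderOf (x ^ m) ∣ Nat.card ↥(Subgroup.center G) := by
      have := orderOf_dvd_natCard (⟨x ^ m, hmem⟩ : ↥(Subgroup.center G))
      rwa [Subgroup.orderOf_mk] at this
    exact hZ (hpu.trans hdiv)
  omega

end Cfsg.Agent.Lib.Helper3.PSing
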