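import Mathlib
import Cfsg.Agent.Lib.Helper3.Ord168_9
import Cfsg.Agent.S0144

set_option autoImplicit false

namespace Cfsg.Agent.Lib.Helper3.PSqQR

open Subgroup Cfsg.Agent.Lib.Helper3 Cfsg.Agent.Lib.Helper3.NS Cfsg.Agent.Lib.Helper3.Ord168

variable {G : Type*} [Group G] [Finite G] [IsSimpleGroup G]

/-- in a nonabelian simple group, a prime dividing the order exactly once is not the least prime
divisor -/
theorem minFac_ne_of_exact {s : ℕ} [hs : Fact s.Prime] (m : ℕ)
    (hG : Nat.card G = s * m) (hm : ¬ s ∣ m) (hm1 : 1 < m) : (Nat.card G).minFac ≠ s := by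
  intro hmin
  obtain ⟨S⟩ : Nonempty (Sylow s G) := inferInstance
  have hScard : Nat.card (S : Subgroup G) = s := by
    have := sylow_card_eq_of_card_eq S 1 m (by rw [hG, pow_one]) hm
    simpa using this
  have hcyc : IsCyclic (S : Subgroup G) := isCyclic_of_prime_card hScard
  have hNC := IsCyclic.normalizer_le_centralizer hmin hcyc
  rcases sylow_eq_bot_or_top_of_normalizer_le_centralizer S hNC with h' | h'
  · rw [h', Subgroup.card_bot] at hScard
    have := hs.out.one_lt
    omega
  · rw [h', Subgroup.card_top, hG] at hScard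
    have := hs.out.pos
    nlinarith

theorem card_12t {t : ℕ} (hG : Nat.card G = 12 * t) (ht : t.Prime) (ht2 : t ≠ 2) (ht3 : t ≠ 3) :
    Nat.card G = 60 := by
  have : Fact t.Prime := ⟨ht⟩
  have ht5 : 5 ≤ t := by
    have h2 := ht.two_le
    by_contra hcon
    push Not at hcon
    have h4 : t = 4 := by omega
    rw [h4] at ht
    norm_num at ht
  have hnd : ¬ t ∣ 12 := by
    intro hd
    have hle := Nat.le_of_dvd (by norm_num) hd
    interval_cases t <;> first | (norm_num at hd; done) | (norm_num at ht; done)
  obtain ⟨P⟩ : Nonempty (Sylow t G) := inferInstance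
  have hPcard : Nat.card (P : Subgroup G) = t := by
    have := sylow_card_eq_of_card_eq P 1 12 (by rw [hG, pow_one, mul_comm]) hnd
    simpa using this
  have hPidx : (P : Subgroup G).index = 12 :=
    sylow_index_eq_of_card_eq P 1 12 (by rw [hG, pow_one, mul_comm]) hnd
  have hdvd : Nat.card (Sylow t G) ∣ 12 := hPidx ▸ P.card_dvd_index
  have hmod : Nat.card (Sylow t G) ≡ 1 [MOD t] := card_sylow_modEq_one t G
  have hne1 : Nat.card (Sylow t G) ≠ 1 :=
    card_sylow_ne_one P (by rw [hPcard]; omega) (by rw [hPcard, hG]; omega)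
  have hpos : 1 ≤ Nat.card (Sylow t G) := Nat.card_pos
  have htd : t ∣ Nat.card (Sylow t G) - 1 := (Nat.modEq_iff_dvd' hpos).mp hmod.symm
  have hmem : Nat.card (Sylow t G) ∈ Nat.divisors 12 := by
    rw [Nat.mem_divisors]; exact ⟨hdvd, by norm_num⟩
  have hset : Nat.divisors 12 = {1, 2, 3, 4, 6, 12} := by decide
  rw [hset] at hmem
  simp only [Finset.mem_insert, Finset.mem_singleton] at hmem
  rcases hmem with h' | h' | h' | h' | h' | h'
  · exact absurd h' hne1
  · rw [h'] at htd
    have := Nat.le_of_dvd (by norm_num) htd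
    omega
  · rw [h'] at htd
    have := Nat.le_of_dvd (by norm_num) htd
    omega
  · rw [h'] at htd
    have := Nat.le_of_dvd (by norm_num) htd
    omega
  · rw [h'] at htd
    have : t = 5 := (Nat.prime_dvd_prime_iff_eq ht (by norm_num)).mp htd
    rw [hG, this]
  · exfalso
    rw [h'] at htd
    have h11 : t = 11 := (Nat.prime_dvd_prime_iff_eq ht (by norm_num)).mp htd
    have hNidx : (normalizer ((P : Subgroup G) : Set G)).index = 12 := by
      rw [← h']; exact (Sylow.card_eq_index_normalizer P).symm
    have hNcard : Nat.card (normalizer ((P : Subgroup G) : Set G)) = t := by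
      have := (normalizer ((P : Subgroup G) : Set G)).index_mul_card
      rw [hNidx, hG] at this
      omega
    have hNP : normalizer ((P : Subgroup G) : Set G) = (P : Subgroup G) := by
      symm
      apply Subgroup.eq_of_le_of_card_ge le_normalizer
      rw [hNcard, hPcard]
    have hcyc : IsCyclic (P : Subgroup G) := isCyclic_of_prime_card hPcard
    have hcomm : IsMulCommutative (P : Subgroup G) := ⟨⟨fun a b => hcyc.commGroup.mul_comm a b⟩⟩
    have hNC : normalizer ((P : Subgroup G) : Set G) ≤ centralizer ((P : Subgroup G) : Set G) := by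
      rw [hNP]
      exact le_centralizer_of_isMulCommutative (P : Subgroup G)
    rcases sylow_eq_bot_or_top_of_normalizer_le_centralizer P hNC with h'' | h''
    · rw [h'', Subgroup.card_bot] at hPcard; omega
    · rw [h'', Subgroup.card_top, hG] at hPcard; omega

end Cfsg.Agent.Lib.Helper3.PSqQR
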