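import Mathlib
import Cfsg.Prelude.Def_LieExceptional
import Cfsg.Agent.Lib.Helper3.StCh6
set_option autoImplicit false
set_option linter.unusedSectionVars false
set_option linter.unusedVariables false

/-! The (B,N)-pair induced on a standard parabolic subgroup of a group with a (B,N)-pair. -/

namespace Cfsg.Agent.Lib.Helper3.PU

open DoubleCoset Cfsg.Agent.Lib.Helper3.StCh

theorem subgroupOf_inf' {G : Type*} [Group G] (A A' K : Subgroup G) :
    (A ⊓ A').subgroupOf K = A.subgroupOf K ⊓ A'.subgroupOf K := by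
  ext x
  simp only [Subgroup.mem_subgroupOf, Subgroup.mem_inf]

variable {G : Type*} [Group G] (P : Cfsg.BNPair G)

/-- The part of `N` generated by a set of distinguished representatives and `B ⊓ N`. -/
def nPart (J : Set G) : Subgroup G := Subgroup.closure J ⊔ (P.B ⊓ P.N)

theorem nPart_le_N {J : Set G} (hJ : J ⊆ P.S) : nPart P J ≤ P.N := by
  refine sup_le ?_ inf_le_right
  rw [Subgroup.closure_le]
  exact fun x hx => P.subset (hJ hx)

theorem nPart_le_parabolic (J : Set G) : nPart P J ≤ P.parabolic J := by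
  refine sup_le le_sup_right (le_trans inf_le_left le_sup_left)

theorem B_le_parabolic (J : Set G) : P.B ≤ P.parabolic J := le_sup_left

theorem closure_le_parabolic (J : Set G) : Subgroup.closure J ≤ P.parabolic J := le_sup_right

theorem subset_parabolic (J : Set G) : J ⊆ (P.parabolic J : Set G) :=
  fun x hx => closure_le_parabolic P J (Subgroup.subset_closure hx)

theorem parabolic_mono {K J : Set G} (h : K ⊆ J) : P.parabolic K ≤ P.parabolic J :=
  sup_le_sup_left (Subgroup.closure_mono h) _

/-- The (B,N)-pair of a standard parabolic subgroup. -/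
def restrictBN (J : Set G) (hJ : J ⊆ P.S) : Cfsg.BNPair ↥(P.parabolic J) where
  B := P.B.subgroupOf (P.parabolic J)
  N := (nPart P J).subgroupOf (P.parabolic J)
  S := {x | (x : G) ∈ J}
  sup_eq_top := by
    rw [← Subgroup.subgroupOf_sup (B_le_parabolic P J) (nPart_le_parabolic P J), Subgroup.subgroupOf_eq_top]
    exact sup_le le_sup_left (le_trans le_sup_left le_sup_right)
  conj_mem := by
    intro n hn t ht
    obtain ⟨htB, htN⟩ := Subgroup.mem_inf.1 ht
    rw [Subgroup.mem_subgroupOf] at hn htB htN ⊢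
    exact P.conj_mem _ (nPart_le_N P hJ hn) _ ⟨htB, nPart_le_N P hJ htN⟩
  subset := by
    intro x hx
    show x ∈ (nPart P J).subgroupOf (P.parabolic J)
    rw [Subgroup.mem_subgroupOf]
    exact le_sup_left (α := Subgroup G) (Subgroup.subset_closure hx)
  sq_mem := by
    intro s hs
    rw [Subgroup.mem_subgroupOf]
    exact P.sq_mem _ (hJ hs)
  inj := by
    intro s hs s' hs' h
    rw [Subgroup.mem_subgroupOf] at h
    exact Subtype.ext (P.inj _ (hJ hs) _ (hJ hs') h)
  closure_sup := by
    have e1 : Subgroup.closure {x : ↥(P.parabolic J) | (x : G) ∈ J} =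
        (Subgroup.closure J).subgroupOf (P.parabolic J) := by
      rw [closure_subgroupOf _ _ (subset_parabolic P J)]
      rfl
    rw [e1, ← subgroupOf_inf', ← Subgroup.subgroupOf_sup (closure_le_parabolic P J)
      (le_trans inf_le_left (B_le_parabolic P J))]
    congr 1
    apply le_antisymm
    · exact sup_le le_sup_left inf_le_right
    · exact sup_le le_sup_left (le_trans (le_inf inf_le_left (le_trans (le_refl _) le_sup_right)) le_sup_right)
  mul_mem_union := by
    intro s hs n hn b hb
    rw [Subgroup.mem_subgroupOf] at hn hb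
    have h := P.mul_mem_union _ (hJ hs) _ (nPart_le_N P hJ hn) _ hb
    rcases h with h | h
    · left
      rw [mem_doubleCoset] at h ⊢
      obtain ⟨b1, hb1, b2, hb2, e⟩ := h
      exact ⟨⟨b1, B_le_parabolic P J hb1⟩, hb1, ⟨b2, B_le_parabolic P J hb2⟩, hb2, Subtype.ext e⟩
    · right
      rw [mem_doubleCoset] at h ⊢
      obtain ⟨b1, hb1, b2, hb2, e⟩ := h
      exact ⟨⟨b1, B_le_parabolic P J hb1⟩, hb1, ⟨b2, B_le_parabolic P J hb2⟩, hb2, Subtype.ext e⟩
  conj_ne := by
    intro s hs hEq
    apply P.conj_ne _ (hJ hs)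
    ext g
    constructor
    · rintro ⟨b, hb, rfl⟩
      have : (s * ⟨b, B_le_parabolic P J hb⟩ * s : ↥(P.parabolic J)) ∈
          ((P.B.subgroupOf (P.parabolic J) : Subgroup ↥(P.parabolic J)) : Set ↥(P.parabolic J)) := by
        rw [← hEq]
        exact ⟨⟨b, B_le_parabolic P J hb⟩, hb, rfl⟩
      exact this
    · intro hg
      have hg' : (⟨g, B_le_parabolic P J hg⟩ : ↥(P.parabolic J)) ∈
          ((P.B.subgroupOf (P.parabolic J) : Subgroup ↥(P.parabolic J)) : Set ↥(P.parabolic J)) := hg
      rw [← hEq] at hg'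
      obtain ⟨b, hb, e⟩ := hg'
      exact ⟨b, hb, congrArg Subtype.val e⟩

theorem restrictBN_B (J : Set G) (hJ : J ⊆ P.S) :
    (restrictBN P J hJ).B = P.B.subgroupOf (P.parabolic J) := rfl

theorem restrictBN_S (J : Set G) (hJ : J ⊆ P.S) :
    (restrictBN P J hJ).S = {x : ↥(P.parabolic J) | (x : G) ∈ J} := rfl

/-- The standard parabolic subgroups of the induced pair. -/
theorem restrictBN_parabolic (J : Set G) (hJ : J ⊆ P.S) (K : Set G) (hK : K ⊆ J) :
    (restrictBN P J hJ).parabolic {x : ↥(P.parabolic J) | (x : G) ∈ K} =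
      (P.parabolic K).subgroupOf (P.parabolic J) := by
  have e1 : Subgroup.closure {x : ↥(P.parabolic J) | (x : G) ∈ K} =
      (Subgroup.closure K).subgroupOf (P.parabolic J) := by
    rw [closure_subgroupOf _ _ (fun x hx => subset_parabolic P J (hK hx))]
    rfl
  show P.B.subgroupOf (P.parabolic J) ⊔ Subgroup.closure {x : ↥(P.parabolic J) | (x : G) ∈ K} = _
  rw [e1, ← Subgroup.subgroupOf_sup (B_le_parabolic P J)
    (le_trans (Subgroup.closure_mono hK) (closure_le_parabolic P J))]
  rfl

end Cfsg.Agent.Lib.Helper3.PU
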