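import Mathlib
import Cfsg.Prelude.Def_ParabolicCharacters
import Cfsg.Agent.Lib.Helper3.StCh5
set_option autoImplicit false
set_option linter.unusedSectionVars false
set_option linter.unusedVariables false

/-! The alternating sum of the permutation characters on the standard parabolic subgroups, for a set of
representatives indexed by an arbitrary finite set of natural numbers: its restriction to `B`. -/

namespace Cfsg.Agent.Lib.Helper3.PU

open Cfsg.Agent.Lib.Helper1 Cfsg.Agent.Lib.Helper4 Cfsg.Agent.Lib.Helper5 DoubleCoset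
open Cfsg.Agent.Lib.Helper3.StCh

section BN

variable {G : Type*} [Group G] (P : Cfsg.BNPair G) (I : Finset ℕ) (nrep : ℕ → G)

/-- The representatives indexed by a finite set. -/
def repSetI (J : Finset ℕ) : Set G := {n | ∃ j ∈ J, n = nrep j}

/-- The generators of the Weyl group by their indices. -/
noncomputable def sigI (hn : ∀ j ∈ I, nrep j ∈ P.S) (j : ℕ) : bnW P :=
  if h : j ∈ I then bnπ P ⟨nrep j, P.subset (hn j h)⟩ else 1

/-- The alternating sum of the permutation characters on the standard parabolic subgroups. -/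
noncomputable def stFunI : G → ℂ := fun g => ∑ J ∈ I.powerset,
  (-1 : ℂ) ^ J.card * Cfsg.fixedPointCharacter (P.parabolic (repSetI nrep J)) g

variable (hn : ∀ j ∈ I, nrep j ∈ P.S) (hS : ∀ s ∈ P.S, ∃ j ∈ I, nrep j = s)

include hn in
theorem repSetI_subset (J : Finset ℕ) (hJ : J ⊆ I) : repSetI nrep J ⊆ P.S := by
  rintro n ⟨j, hj, rfl⟩
  exact hn j (hJ hj)

theorem sigI_mem (j : ℕ) (hj : j ∈ I) : sigI P I nrep hn j ∈ (bnData P).S := by
  rw [sigI, dif_pos hj]
  exact (mem_bnS P).2 ⟨nrep j, hn j hj, rfl⟩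

include hS in
theorem sigI_surj : ∀ s ∈ (bnData P).S, ∃ i ∈ I, sigI P I nrep hn i = s := by
  intro s hs
  obtain ⟨t, ht, rfl⟩ := (mem_bnS P).1 hs
  obtain ⟨j, hj, rfl⟩ := hS t ht
  exact ⟨j, hj, by rw [sigI, dif_pos hj]⟩

theorem parabolic_eq_parJI (J : Finset ℕ) (hJ : J ⊆ I) :
    P.parabolic (repSetI nrep J) = parJ (bnData P) (sigI P I nrep hn) J := by
  rw [parabolic_eq_par P (repSetI_subset P I nrep hn J hJ)]
  unfold parJ
  apply par_congr
  ext w
  constructor
  · rintro ⟨s, ⟨j, hjJ, rfl⟩, hs, rfl⟩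
    exact ⟨⟨j, hjJ, by rw [sigI, dif_pos (hJ hjJ)]⟩, (mem_bnS P).2 ⟨nrep j, hs, rfl⟩⟩
  · rintro ⟨⟨j, hjJ, rfl⟩, hw⟩
    rw [sigI, dif_pos (hJ hjJ)]
    exact ⟨nrep j, ⟨j, hjJ, rfl⟩, hn j (hJ hjJ), rfl⟩

include hn hS in
/-- The value of the alternating sum on `B`. -/
theorem stFunI_apply_B [Finite G] {n₀ : G}
    (hn₀ : ∀ j ∈ I, ∃ x ∈ doubleCoset (nrep j) (P.B : Set G) P.B, n₀⁻¹ * x * n₀ ∈ P.B)
    {b : G} (hb : b ∈ P.B) (T : Subgroup P.B)
    (hT : ∀ β : P.B, β ∈ T ↔ n₀⁻¹ * (β : G) * n₀ ∈ P.B) :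
    stFunI P I nrep b = Cfsg.fixedPointCharacter T (⟨b, hb⟩ : P.B) := by
  have E := exW_of_tits (bnData P)
  have hL : ∀ s ∈ (bnData P).S,
      wlen (bnData P).S (s * typ (bnData P) n₀) < wlen (bnData P).S (typ (bnData P) n₀) := by
    intro s hs
    obtain ⟨t, ht, rfl⟩ := (mem_bnS P).1 hs
    obtain ⟨j, hj, rfl⟩ := hS t ht
    obtain ⟨x, hx, hxn⟩ := hn₀ j hj
    by_contra hnot
    have hle : wlen (bnData P).S (typ (bnData P) n₀) ≤
        wlen (bnData P).S (bnπ P ⟨nrep j, P.subset ht⟩ * typ (bnData P) n₀) := by omega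
    have hxC : x ∈ (bnData P).C (bnπ P ⟨nrep j, P.subset ht⟩) := by
      show x ∈ bnC P (bnπ P ⟨nrep j, P.subset ht⟩)
      rw [bnC_π]; exact hx
    have h1 := (bnData P).mul_sub_of_le hs hle hxC (mem_typ (bnData P) n₀)
    have h2 : x * n₀ ∈ (bnData P).C (typ (bnData P) n₀) := by
      have e : x * n₀ = n₀ * (n₀⁻¹ * x * n₀) := by group
      rw [e]
      exact (bnData P).right_mul_mem_C (mem_typ (bnData P) n₀) hxn
    have h3 := (bnData P).eq_of_mem_of_mem h1 h2
    exact (bnData P).ne_one_of_mem_S hs (mul_eq_right.1 h3)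
  obtain ⟨w, hwL, hwR⟩ := E.exists_longest
  have hw : typ (bnData P) n₀ = w := (hwL _).1 hL
  have hR : ∀ s ∈ (bnData P).S,
      wlen (bnData P).S (typ (bnData P) n₀ * s) < wlen (bnData P).S (typ (bnData P) n₀) := by
    rw [hw]; exact (hwR w).2 rfl
  have key := sum_fixed (bnData P) (I := I) (σ := sigI P I nrep hn)
    (sigI_mem P I nrep hn) (sigI_surj P I nrep hn hS) hR (b := b) hb
  rw [card_fixed_cell (bnData P) (mem_typ (bnData P) n₀) hb T hT] at key
  have key' := congrArg (Int.cast : ℤ → ℂ) key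
  push_cast at key'
  unfold stFunI Cfsg.fixedPointCharacter
  refine Eq.trans ?_ key'
  apply Finset.sum_congr rfl
  intro J hJ
  rw [parabolic_eq_parJI P I nrep hn J (Finset.mem_powerset.1 hJ)]

end BN

end Cfsg.Agent.Lib.Helper3.PU
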