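import Mathlib
import Cfsg.Prelude.Def_ParabolicCharacters
set_option autoImplicit false
set_option linter.unusedSectionVars false
set_option linter.unusedVariables false

/-! Counting lemmas: the sum of a permutation character over a conjugation-invariant set, and elements of prime
power order in Sylow subgroups. -/

namespace Cfsg.Agent.Lib.Helper3.PU

open scoped Pointwise

theorem smul_mk_eq_iff {G : Type*} [Group G] (Q : Subgroup G) (v x : G) :
    v • (x : G ⧸ Q) = (x : G ⧸ Q) ↔ x⁻¹ * v * x ∈ Q := by
  rw [MulAction.Quotient.smul_mk, QuotientGroup.eq, smul_eq_mul, mul_inv_rev]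
  constructor
  · intro h
    have := Q.inv_mem h
    simpa [mul_assoc] using this
  · intro h
    have := Q.inv_mem h
    simpa [mul_assoc] using this

open Classical in
/-- The sum of a permutation character over a conjugation-invariant set. -/
theorem sum_card_fixedBy {G : Type*} [Group G] [Fintype G] (Q : Subgroup G) (S : Finset G)
    (hS : ∀ g x : G, g ∈ S → x * g * x⁻¹ ∈ S) :
    ∑ v ∈ S, Nat.card (MulAction.fixedBy (G ⧸ Q) v) = Q.index * (S.filter fun w => w ∈ Q).card := by
  have h1 : ∀ v : G, Nat.card (MulAction.fixedBy (G ⧸ Q) v) =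
      ∑ c : G ⧸ Q, if v • c = c then 1 else 0 := by
    intro v
    rw [Nat.card_eq_fintype_card, Fintype.card_subtype, Finset.card_filter]
    rfl
  simp_rw [h1]
  rw [Finset.sum_comm]
  have h2 : ∀ c : G ⧸ Q, (∑ v ∈ S, if v • c = c then 1 else 0) = (S.filter fun w => w ∈ Q).card := by
    intro c
    induction c using Quotient.inductionOn with
    | h x =>
      rw [← Finset.card_filter]
      apply Finset.card_bij (fun v _ => x⁻¹ * v * x)
      · intro v hv
        rw [Finset.mem_filter] at hv ⊢
        refine ⟨?_, (smul_mk_eq_iff Q v x).1 hv.2⟩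
        have := hS v x⁻¹ hv.1
        rwa [inv_inv] at this
      · intro v _ w _ h
        have := congrArg (fun y => x * y * x⁻¹) h
        simpa [mul_assoc] using this
      · intro w hw
        rw [Finset.mem_filter] at hw
        refine ⟨x * w * x⁻¹, ?_, by group⟩
        rw [Finset.mem_filter]
        refine ⟨hS w x hw.1, (smul_mk_eq_iff Q _ x).2 ?_⟩
        have e : x⁻¹ * (x * w * x⁻¹) * x = w := by group
        rw [e]; exact hw.2
  rw [Finset.sum_congr rfl fun c _ => h2 c, Finset.sum_const, Finset.card_univ, smul_eq_mul,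
    Subgroup.index, Nat.card_eq_fintype_card]

open Classical in
theorem sum_fixedPointCharacter {G : Type*} [Group G] [Fintype G] (Q : Subgroup G) (S : Finset G)
    (hS : ∀ g x : G, g ∈ S → x * g * x⁻¹ ∈ S) :
    ∑ v ∈ S, Cfsg.fixedPointCharacter Q v = (Q.index : ℂ) * ((S.filter fun w => w ∈ Q).card : ℂ) := by
  unfold Cfsg.fixedPointCharacter
  rw [← Nat.cast_sum, sum_card_fixedBy Q S hS, Nat.cast_mul]

/-- An element of prime power order is conjugate to an element of a given Sylow subgroup. -/
theorem exists_conj_mem_sylow {H : Type*} [Group H] [Finite H] {p : ℕ} [Fact p.Prime] (P : Sylow p H) (v : H)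
    (hv : ∃ k, orderOf v = p ^ k) : ∃ x : H, x * v * x⁻¹ ∈ (P : Subgroup H) := by
  obtain ⟨k, hk⟩ := hv
  have hZ : IsPGroup p ↥(Subgroup.zpowers v) := by
    apply IsPGroup.of_card (n := k)
    rw [Nat.card_zpowers, hk]
  obtain ⟨Q, hQ⟩ := hZ.exists_le_sylow
  obtain ⟨x, hx⟩ := MulAction.exists_smul_eq H Q P
  refine ⟨x, ?_⟩
  have h1 : v ∈ (Q : Subgroup H) := hQ (Subgroup.mem_zpowers v)
  have h2 : MulAut.conj x • v ∈ MulAut.conj x • (Q : Subgroup H) :=
    Subgroup.smul_mem_pointwise_smul _ _ _ h1
  have h3 : MulAut.conj x • (Q : Subgroup H) = ((x • Q : Sylow p H) : Subgroup H) := by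
    rw [Sylow.smul_def, Sylow.pointwise_smul_def]
  rw [h3, hx] at h2
  simpa [MulAut.smul_def] using h2

end Cfsg.Agent.Lib.Helper3.PU
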