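import Mathlib
import Cfsg.Prelude.Def_ParabolicCharacters
import Cfsg.Agent.Lib.Helper3.PU3
set_option autoImplicit false
set_option linter.unusedSectionVars false
set_option linter.unusedVariables false

/-! An abstract counting theorem: the sum over the elements of prime power order of a class function whose
restriction to a subgroup `B` is the permutation character on `B / T`. -/

namespace Cfsg.Agent.Lib.Helper3.PU

open scoped Pointwise

section
variable {Γ : Type*} [Group Γ]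

/-- A permutation character is a class function. -/
theorem fpc_conj (Q : Subgroup Γ) (x g : Γ) :
    Cfsg.fixedPointCharacter Q (x * g * x⁻¹) = Cfsg.fixedPointCharacter Q g := by
  unfold Cfsg.fixedPointCharacter
  congr 1
  rw [← MulAction.smul_fixedBy]
  exact Nat.card_image_of_injective (MulAction.injective x) _

theorem fpc_one (Q : Subgroup Γ) : Cfsg.fixedPointCharacter Q 1 = (Q.index : ℂ) := by
  unfold Cfsg.fixedPointCharacter
  rw [MulAction.fixedBy_one_eq_univ, Subgroup.index_eq_card]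
  congr 1
  exact Nat.card_congr (Equiv.Set.univ _)

open Classical in
/-- The value of the permutation character on `B / T` at an element of `U`. -/
theorem fpc_eq_ite (B : Subgroup Γ) (T : Subgroup B) (U V : Subgroup Γ) (hUB : U ≤ B)
    (hVn : ∀ β ∈ B, ∀ v : Γ, β⁻¹ * v * β ∈ V ↔ v ∈ V)
    (hUn : ∀ β ∈ B, ∀ u ∈ U, β⁻¹ * u * β ∈ U)
    (hkey : ∀ (u : Γ) (hu : u ∈ U), (⟨u, hUB hu⟩ : B) ∈ T ↔ u ∈ V)
    (u : Γ) (hu : u ∈ U) :
    Cfsg.fixedPointCharacter T (⟨u, hUB hu⟩ : B) = if u ∈ V then (T.index : ℂ) else 0 := by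
  unfold Cfsg.fixedPointCharacter
  have hfix : ∀ c : B ⧸ T, c ∈ MulAction.fixedBy (B ⧸ T) (⟨u, hUB hu⟩ : B) ↔ u ∈ V := by
    intro c
    induction c using Quotient.inductionOn with
    | h β =>
      rw [MulAction.mem_fixedBy]
      show (⟨u, hUB hu⟩ : B) • ((β : B) : B ⧸ T) = ((β : B) : B ⧸ T) ↔ _
      rw [smul_mk_eq_iff]
      have h1 : β⁻¹ * (⟨u, hUB hu⟩ : B) * β = ⟨(β : Γ)⁻¹ * u * β, hUB (hUn β β.2 u hu)⟩ :=
        Subtype.ext rfl
      rw [h1, hkey _ (hUn β β.2 u hu)]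
      exact hVn β β.2 u
  split_ifs with h
  · have e : MulAction.fixedBy (B ⧸ T) (⟨u, hUB hu⟩ : B) = Set.univ := by
      ext c
      simp only [hfix c, h, Set.mem_univ]
    rw [e, Subgroup.index_eq_card]
    congr 1
    exact Nat.card_congr (Equiv.Set.univ _)
  · have e : MulAction.fixedBy (B ⧸ T) (⟨u, hUB hu⟩ : B) = ∅ := by
      ext c
      simp only [hfix c, h, Set.mem_empty_iff_false]
    rw [e]
    simp

/-- The index of `T` in `B = U T`. -/
theorem index_mul_card [Finite Γ] (B : Subgroup Γ) (T : Subgroup B) (U V : Subgroup Γ) (hUB : U ≤ B)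
    (hVU : V ≤ U)
    (hkey : ∀ (u : Γ) (hu : u ∈ U), (⟨u, hUB hu⟩ : B) ∈ T ↔ u ∈ V)
    (hdec : ∀ β : B, ∃ u : Γ, ∃ hu : u ∈ U, ∃ h : B, h ∈ T ∧ β = ⟨u, hUB hu⟩ * h) :
    T.index * Nat.card V = Nat.card U := by
  let U' : Subgroup B := U.subgroupOf B
  have key : ∀ c : B ⧸ T, ∃ g : U', g • ((1 : B) : B ⧸ T) = c := by
    intro c
    induction c using Quotient.inductionOn with
    | h β =>
      obtain ⟨u, hu, h, hT, e⟩ := hdec β
      refine ⟨⟨⟨u, hUB hu⟩, hu⟩, ?_⟩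
      show (⟨u, hUB hu⟩ : B) • ((1 : B) : B ⧸ T) = ((β : B) : B ⧸ T)
      rw [MulAction.Quotient.smul_mk, smul_eq_mul, mul_one, e]
      exact (QuotientGroup.mk_mul_of_mem _ hT).symm
  have : MulAction.IsPretransitive U' (B ⧸ T) := by
    constructor
    intro x y
    obtain ⟨g, hg⟩ := key x
    obtain ⟨g', hg'⟩ := key y
    exact ⟨g' * g⁻¹, by rw [← hg, ← hg', mul_smul, inv_smul_smul]⟩
  have h1 := MulAction.index_stabilizer_of_transitive U' (((1 : B) : B ⧸ T))
  have h2 := Subgroup.card_mul_index (MulAction.stabilizer U' (((1 : B) : B ⧸ T)))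
  have h3 : Nat.card U' = Nat.card U := Nat.card_congr (Subgroup.subgroupOfEquivOfLe hUB).toEquiv
  have hst : ∀ g : U', g ∈ MulAction.stabilizer U' (((1 : B) : B ⧸ T)) ↔ ((g : B) : Γ) ∈ V := by
    intro g
    rw [MulAction.mem_stabilizer_iff]
    show (g : B) • ((1 : B) : B ⧸ T) = ((1 : B) : B ⧸ T) ↔ _
    rw [smul_mk_eq_iff, inv_one, one_mul, mul_one]
    exact hkey ((g : B) : Γ) g.2
  have h4 : Nat.card (MulAction.stabilizer U' (((1 : B) : B ⧸ T))) = Nat.card V := by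
    refine Nat.card_congr ⟨fun g => ⟨((g : U') : B), (hst g).1 g.2⟩,
      fun v => ⟨⟨⟨v, hUB (hVU v.2)⟩, hVU v.2⟩, (hst _).2 v.2⟩, ?_, ?_⟩
    · intro g; rfl
    · intro v; rfl
  rw [h1, h4, h3, ← Subgroup.index_eq_card] at h2
  rw [mul_comm]; exact h2

open Classical in
/-- The sum, over the elements of `p`-power order, of a class function which is given on `B` by the
permutation character on `B / T`. -/
theorem sum_pElements [Fintype Γ] (p : ℕ) [Fact p.Prime] (B : Subgroup Γ) (T : Subgroup B)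
    (U V : Subgroup Γ) (hUB : U ≤ B) (hVU : V ≤ U)
    (Us : Sylow p Γ) (hUs : (Us : Subgroup Γ) = U)
    (hVn : ∀ g v : Γ, g⁻¹ * v * g ∈ V ↔ v ∈ V)
    (hUn : ∀ β ∈ B, ∀ u ∈ U, β⁻¹ * u * β ∈ U)
    (hkey : ∀ (u : Γ) (hu : u ∈ U), (⟨u, hUB hu⟩ : B) ∈ T ↔ u ∈ V)
    (hdec : ∀ β : B, ∃ u : Γ, ∃ hu : u ∈ U, ∃ h : B, h ∈ T ∧ β = ⟨u, hUB hu⟩ * h)
    (f : Γ → ℂ) (hf : ∀ g x : Γ, f (x * g * x⁻¹) = f g)
    (hfB : ∀ (b : Γ) (hb : b ∈ B), f b = Cfsg.fixedPointCharacter T (⟨b, hb⟩ : B)) :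
    ∑ v ∈ Finset.univ.filter (fun v : Γ => ∃ k : ℕ, orderOf v = p ^ k), f v = (Nat.card U : ℂ) := by
  have hval : ∀ v ∈ Finset.univ.filter (fun v : Γ => ∃ k : ℕ, orderOf v = p ^ k),
      f v = if v ∈ V then (T.index : ℂ) else 0 := by
    intro v hv
    rw [Finset.mem_filter] at hv
    obtain ⟨x, hx⟩ := exists_conj_mem_sylow Us v hv.2
    rw [hUs] at hx
    rw [← hf v x, hfB _ (hUB hx),
      fpc_eq_ite B T U V hUB (fun β _ v => hVn β v) hUn hkey _ hx]
    have : x * v * x⁻¹ ∈ V ↔ v ∈ V := by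
      have := hVn x⁻¹ v
      rwa [inv_inv] at this
    simp only [this]
  rw [Finset.sum_congr rfl hval, ← Finset.sum_filter, Finset.sum_const, nsmul_eq_mul]
  have hcard : ((Finset.univ.filter (fun v : Γ => ∃ k : ℕ, orderOf v = p ^ k)).filter
      (fun v => v ∈ V)).card = Nat.card V := by
    rw [Nat.card_eq_fintype_card, Fintype.card_subtype]
    congr 1
    ext v
    simp only [Finset.mem_filter, Finset.mem_univ, true_and, and_iff_right_iff_imp]
    intro hv
    have hp : IsPGroup p ↥(Us : Subgroup Γ) := Us.isPGroup'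
    obtain ⟨k, hk⟩ := (IsPGroup.iff_orderOf.1 hp) ⟨v, by rw [hUs]; exact hVU hv⟩
    refine ⟨k, ?_⟩
    rw [← hk]
    exact (Subgroup.orderOf_mk v _).symm
  rw [hcard, ← index_mul_card B T U V hUB hVU hkey hdec]
  push_cast
  ring

end

end Cfsg.Agent.Lib.Helper3.PU
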