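import Mathlib
import Cfsg.Agent.Lib.Helper3.StCh6
import Cfsg.Agent.Lib.Helper3.ChevO3
import Cfsg.Agent.Lib.Helper5.DefectZero
set_option autoImplicit false
set_option linter.unusedSectionVars false
set_option linter.unusedVariables false
set_option linter.style.haveILetI false
open Cfsg Cfsg.Lie

/-!
Steinberg character, part 7: its degree, its irreducibility and its vanishing at the `p`-singular
elements.
-/

namespace Cfsg.Agent.Lib.Helper3.StCh

open Cfsg.Agent.Lib.Helper3.ChevM Cfsg.Agent.Lib.Helper3.ChevSp Cfsg.Agent.Lib.Helper3 ChevU ChevT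
open Cfsg.Agent.Lib.Helper3.ChevAt Cfsg.Agent.Lib.Helper3.ChevAut Cfsg.Agent.Lib.Helper1
open Cfsg.Agent.Lib.Helper4

theorem card_subgroupOf_subgroupOf {Γ : Type*} [Group Γ] (A B G : Subgroup Γ) (hAB : A ≤ B)
    (hBG : B ≤ G) : Nat.card ↥((A.subgroupOf G).subgroupOf (B.subgroupOf G)) = Nat.card A := by
  have h1 : A.subgroupOf G ≤ B.subgroupOf G := by
    intro x hx
    rw [Subgroup.mem_subgroupOf] at hx ⊢
    exact hAB hx
  rw [Nat.card_congr (Subgroup.subgroupOfEquivOfLe h1).toEquiv,
    Nat.card_congr (Subgroup.subgroupOfEquivOfLe (hAB.trans hBG)).toEquiv]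

section
variable {K : Type*} [Field K] [Fintype K] {C : CDatum} {R : RelData C} (Y : AutHyp C R)
include Y

/-- The degree of the Steinberg character. -/
theorem steinberg_one
    (hU : Nat.card (C.D.posUnipotent K) = Fintype.card K ^ (C.D.nroots / 2)) :
    C.D.steinbergCharacter K 1 = (Fintype.card K : ℂ) ^ (C.D.nroots / 2) := by
  have hBG : C.D.borelSubgroup K ≤ C.D.group K := borel_le_group Y.A
  have hHB : C.D.diagonalSubgroup K ≤ C.D.borelSubgroup K := le_sup_right
  have h1 := steinberg_apply_B (K := K) Y 1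
  rw [map_one] at h1
  rw [h1]
  unfold Cfsg.fixedPointCharacter
  set T := ((C.D.diagonalSubgroup K).subgroupOf (C.D.group K)).subgroupOf
    ((C.D.borelSubgroup K).subgroupOf (C.D.group K)) with hT
  have h2 : Nat.card (MulAction.fixedBy
      (↥((C.D.borelSubgroup K).subgroupOf (C.D.group K)) ⧸ T)
      (1 : ↥((C.D.borelSubgroup K).subgroupOf (C.D.group K)))) = T.index := by
    rw [MulAction.fixedBy_one_eq_univ, Subgroup.index_eq_card]
    exact Nat.card_congr (Equiv.Set.univ _)
  rw [h2]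
  have h3 := Subgroup.card_mul_index T
  have h4 : Nat.card T = Nat.card (C.D.diagonalSubgroup K) :=
    card_subgroupOf_subgroupOf _ _ _ hHB hBG
  have h5 : Nat.card ↥((C.D.borelSubgroup K).subgroupOf (C.D.group K)) =
      Nat.card (C.D.borelSubgroup K) :=
    Nat.card_congr (Subgroup.subgroupOfEquivOfLe hBG).toEquiv
  obtain ⟨hN, hd⟩ := R.diagonal_normalizes (F := K) Y.A.B.dec Y.A.B.mono.tri
  have h6 : Nat.card (C.D.borelSubgroup K) =
      Nat.card (C.D.posUnipotent K) * Nat.card (C.D.diagonalSubgroup K) :=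
    card_sup_of_le_normalizer _ _ hN hd
  rw [h4, h5, h6, hU] at h3
  have hpos : 0 < Nat.card (C.D.diagonalSubgroup K) := Nat.card_pos
  have h7 : T.index = Fintype.card K ^ (C.D.nroots / 2) := by
    have : Nat.card (C.D.diagonalSubgroup K) * T.index =
        Nat.card (C.D.diagonalSubgroup K) * Fintype.card K ^ (C.D.nroots / 2) := by
      rw [h3]; ring
    exact Nat.eq_of_mul_eq_mul_left hpos this
  rw [h7]
  push_cast
  rfl

/-- The Steinberg character is irreducible. -/
theorem steinberg_irr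
    (hU : Nat.card (C.D.posUnipotent K) = Fintype.card K ^ (C.D.nroots / 2)) :
    Cfsg.IsIrrCharacter ↥(C.D.group K) (C.D.steinbergCharacter K) := by
  classical
  have : Fintype ↥(C.D.group K) := Fintype.ofFinite _
  obtain ⟨ψ, hψ, h | h⟩ := genChar_norm_one (isGenChar_steinberg (K := K) Y)
    (classInner_steinberg (K := K) Y)
  · rw [h]; exact hψ
  · exfalso
    obtain ⟨n, hn, h1⟩ := irr_apply_one_pos hψ
    have h2 := steinberg_one (K := K) Y hU
    rw [h, Pi.neg_apply, h1] at h2
    have h3 : ((-(n : ℤ) : ℤ) : ℂ) = (((Fintype.card K ^ (C.D.nroots / 2) : ℕ) : ℤ) : ℂ) := by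
      push_cast; exact h2
    have h4 := Int.cast_injective h3
    have h5 : (0 : ℤ) ≤ ((Fintype.card K ^ (C.D.nroots / 2) : ℕ) : ℤ) := Int.natCast_nonneg _
    omega

/-- The Steinberg character vanishes at the `p`-singular elements. -/
theorem steinberg_vanish (p : ℕ) [Fact p.Prime]
    (hU : Nat.card (C.D.posUnipotent K) = Fintype.card K ^ (C.D.nroots / 2))
    (hsyl : ∃ P : Sylow p ↥(C.D.group K),
      (P : Subgroup ↥(C.D.group K)) = (C.D.posUnipotent K).subgroupOf (C.D.group K))
    (g : ↥(C.D.group K)) (hg : p ∣ orderOf g) : C.D.steinbergCharacter K g = 0 := by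
  have hp : p.Prime := Fact.out
  have hirr := steinberg_irr (K := K) Y hU
  have h1 := steinberg_one (K := K) Y hU
  have hUG : C.D.posUnipotent K ≤ C.D.group K :=
    le_trans le_sup_left (borel_le_group Y.A)
  have hdeg : Cfsg.charDegree (C.D.steinbergCharacter K) = Fintype.card K ^ (C.D.nroots / 2) := by
    unfold Cfsg.charDegree
    rw [h1]
    have : ((Fintype.card K : ℂ) ^ (C.D.nroots / 2)).re =
        ((Fintype.card K ^ (C.D.nroots / 2) : ℕ) : ℝ) := by
      rw [← Nat.cast_pow, Complex.natCast_re]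
    rw [this, Nat.floor_natCast]
  refine Cfsg.Agent.Lib.Helper5.DefectZero.defect_zero_vanishes p
    (⟨C.D.steinbergCharacter K, hirr⟩ : Cfsg.IrrCharacter ↥(C.D.group K)) ?_ g hg ?_
  · show ¬ p ∣ Nat.card ↥(C.D.group K) / Cfsg.charDegree (C.D.steinbergCharacter K)
    rw [hdeg]
    obtain ⟨P, hP⟩ := hsyl
    have hc := P.card_eq_multiplicity
    have hc2 : Nat.card ↥(P : Subgroup ↥(C.D.group K)) =
        Nat.card ↥((C.D.posUnipotent K).subgroupOf (C.D.group K)) :=
      congrArg (fun S : Subgroup ↥(C.D.group K) => Nat.card S) hP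
    rw [hc2, Nat.card_congr (Subgroup.subgroupOfEquivOfLe hUG).toEquiv, hU] at hc
    rw [hc]
    exact Nat.not_dvd_ordCompl hp Nat.card_pos.ne'
  · show C.D.steinbergCharacter K 1 ≠ 0
    rw [h1]
    exact pow_ne_zero _ (Nat.cast_ne_zero.mpr Fintype.card_pos.ne')

end

end Cfsg.Agent.Lib.Helper3.StCh
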