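import Mathlib
import Cfsg.Prelude.Def_ChevStructure
import Cfsg.Agent.Lib.Helper3.StCh7
import Cfsg.Agent.Lib.Helper3.ChevL3
import Cfsg.Agent.Lib.Helper3.ChevAt4
set_option autoImplicit false
set_option linter.unusedSectionVars false
set_option linter.unusedVariables false
set_option linter.style.haveILetI false
open Cfsg Cfsg.Lie

/-! Conjugation by a representative of the longest element of a parabolic subgroup of the Weyl group: the elements of
`U` which stay in `B` are those of the unipotent radical. -/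

namespace Cfsg.Agent.Lib.Helper3.PU

open Cfsg.Agent.Lib.Helper3.ChevM Cfsg.Agent.Lib.Helper3.ChevSp Cfsg.Agent.Lib.Helper3 ChevU ChevT
open Cfsg.Agent.Lib.Helper3.ChevAt Cfsg.Agent.Lib.Helper3.ChevAut Cfsg.Agent.Lib.Helper1

section
variable {K : Type*} [Field K] {C : CDatum} {R : RelData C} (Y : AutHyp C R) (L : LeviHyp C R)

omit Y L in
theorem lprod_mem' (S : Subgroup (GL C.D.Idx K)) (M : List ℕ) (t : ℕ → K)
    (h : ∀ r ∈ M, R.xU r (t r) ∈ S) : RootSys.lprod (fun r (t : K) => R.xU r t) M t ∈ S := by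
  unfold RootSys.lprod
  apply Subgroup.list_prod_mem
  intro x hx
  obtain ⟨r, hr, rfl⟩ := List.mem_map.mp hx
  exact h r hr

omit Y L in
theorem nWordU_mem_parabolic (J : Set ℕ) (l : List ℕ) (hl : ∀ i ∈ l, i < C.D.rank) (hlJ : ∀ i ∈ l, i ∈ J) :
    R.nWordU (F := K) l ∈ C.D.parabolicSubgroup K J := by
  unfold RelData.nWordU
  apply Subgroup.list_prod_mem
  intro x hx
  obtain ⟨i, hi, rfl⟩ := List.mem_map.mp hx
  exact Subgroup.mem_sup_right (Subgroup.subset_closure ⟨i, hlJ i hi, hl i hi, R.nU_val _ _⟩)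

omit Y L in
theorem unipotentRadical_le_pos (J : Set ℕ) : C.D.unipotentRadical K J ≤ C.D.posUnipotent K := by
  unfold ChevalleyDatum.unipotentRadical ChevalleyDatum.posUnipotent
  apply Subgroup.closure_mono
  rintro g ⟨r, t, h1, -, h3⟩
  exact ⟨r, t, h1, h3⟩

include Y L in
/-- The elements of `U` which are conjugated into `B` by the representative of the longest element of `W_J`. -/
theorem conj_mem_borel_iff (J : Set ℕ) (l : List ℕ) (hl : ∀ i ∈ l, i < C.D.rank) (hlJ : ∀ i ∈ l, i ∈ J)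
    (hW : ∀ r, C.D.IsPosRoot r → C.D.InRootSub J r → C.D.IsNegRoot (reflW R.refl l r))
    (u : GL C.D.Idx K) (hu : u ∈ C.D.posUnipotent K) :
    R.nWordU l * u * (R.nWordU l)⁻¹ ∈ C.D.borelSubgroup K ↔ u ∈ C.D.unipotentRadical K J := by
  classical
  set n := R.nWordU (F := K) l with hn
  constructor
  · intro h
    let M₁ := C.D.posRoots.filter fun r => ¬ C.D.IsNegRoot (reflW R.refl l r)
    let M₂ := C.D.posRoots.filter fun r => C.D.IsNegRoot (reflW R.refl l r)
    have hnd : (M₁ ++ M₂).Nodup := by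
      rw [List.nodup_append]
      refine ⟨(nodup_posRoots C.D).filter _, (nodup_posRoots C.D).filter _, ?_⟩
      intro a ha b hb e
      subst e
      simp only [M₁, M₂, List.mem_filter, decide_eq_true_eq] at ha hb
      exact ha.2 hb.2
    have hM : ∀ r, r ∈ M₁ ++ M₂ ↔ C.D.IsPosRoot r := by
      intro r
      simp only [M₁, M₂, List.mem_append, List.mem_filter, decide_eq_true_eq, mem_posRoots]
      tauto
    obtain ⟨t, -, e⟩ := Y.A.U.K.exists_word (F := K) Y.A.U.col Y.A.U.inj (M₁ ++ M₂) hnd hM u hu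
    rw [RootSys.lprod_append] at e
    set a := RootSys.lprod (fun r (t : K) => R.xU r t) M₁ t with ha
    set b := RootSys.lprod (fun r (t : K) => R.xU r t) M₂ t with hb
    have h1 : n * a * n⁻¹ ∈ C.D.posUnipotent K := by
      apply conj_lprod_mem_pos Y.A l hl
      intro r hr
      simp only [M₁, List.mem_filter, decide_eq_true_eq, mem_posRoots] at hr
      exact hr
    have h2 : b ∈ uMinus C.D K n := by
      apply lprod_mem'
      intro r hr
      simp only [M₂, List.mem_filter, decide_eq_true_eq, mem_posRoots] at hr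
      exact xU_mem_uMinus Y.A l hl r hr.1 hr.2 _
    have h3 : n * b * n⁻¹ ∈ C.D.negUnipotent K := conj_uMinus_le C.D n b h2
    have h4 : n * b * n⁻¹ ∈ C.D.borelSubgroup K := by
      have e2 : n * b * n⁻¹ = (n * a * n⁻¹)⁻¹ * (n * u * n⁻¹) := by rw [e]; group
      rw [e2]
      exact Subgroup.mul_mem _ (Subgroup.inv_mem _ (Subgroup.mem_sup_left h1)) h
    have h5 : n * b * n⁻¹ = 1 := by
      have := (R.borel_inf_neg (F := K) Y.A.B.dec Y.A.B.mono.tri Y.A.ntri).1
      rw [← Subgroup.mem_bot, ← this]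
      exact ⟨h4, h3⟩
    have h6 : b = 1 := by
      have : b = n⁻¹ * (n * b * n⁻¹) * n := by group
      rw [this, h5]; group
    rw [e, h6, mul_one]
    apply lprod_mem'
    intro r hr
    simp only [M₁, List.mem_filter, decide_eq_true_eq, mem_posRoots] at hr
    refine Subgroup.subset_closure ⟨r, t r, hr.1, fun hin => hr.2 (hW r hr.1 hin), R.xU_val _ _⟩
  · intro h
    have hnP : n ∈ C.D.parabolicSubgroup K J := nWordU_mem_parabolic J l hl hlJ
    have h1 := L.parabolic_le_normalizer (F := K) Y.A.U.K J hnP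
    have h2 := (Subgroup.mem_normalizer_iff.mp h1 u).mp h
    exact Subgroup.mem_sup_left (unipotentRadical_le_pos J h2)

include Y in
/-- The root element of the negative of a fundamental root of `J` is conjugated into `U`. -/
theorem conj_neg_simple_mem (l : List ℕ) (hl : ∀ i ∈ l, i < C.D.rank) (j : ℕ) (hj : j < C.D.rank)
    (hW : C.D.IsPosRoot (reflW R.refl l (C.D.neg (C.D.simple j)))) :
    R.nWordU l * R.xU (C.D.neg (C.D.simple j)) (1 : K) * (R.nWordU l)⁻¹ ∈ C.D.posUnipotent K := by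
  have hlt : C.D.neg (C.D.simple j) < C.D.nroots := (neg_simple_neg Y.A j hj).1
  rw [R.conj_units (R.conjRel_word (F := K) l hl) (R.nWordU l) (R.nWordU_val l) _ hlt 1]
  exact xU_mem_pos Y.A _ hW _

omit Y L in
/-- The root element of the negative of a root in the double coset of the reflection. -/
theorem xU_neg_eq (α : ℕ) :
    R.xU (C.D.neg α) (1 : K) =
      R.xU α 1 * R.nU α 1 * ((R.nU α (1 : K) * R.nU α 1)⁻¹ * R.xU α 1) := by
  have h1 := R.nU_eq (F := K) α (-1)
  have e1 : -(-1 : K)⁻¹ = 1 := by rw [inv_neg, inv_one, neg_neg]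
  rw [e1] at h1
  have h2 : R.xU (C.D.neg α) (1 : K) = (R.xU α (-1))⁻¹ * R.nU α (-1) * (R.xU α (-1))⁻¹ := by
    rw [h1]; group
  rw [h2, R.xU_inv, neg_neg, ← R.nU_inv α 1]
  group

include Y in
theorem borel_le_normalizer_pos :
    C.D.borelSubgroup K ≤ Subgroup.normalizer (C.D.posUnipotent K : Set (GL C.D.Idx K)) :=
  sup_le Subgroup.le_normalizer (R.diagonal_normalizes (F := K) Y.A.B.dec Y.A.B.mono.tri).1

include Y in
theorem borel_exists_mul (b : GL C.D.Idx K) (hb : b ∈ C.D.borelSubgroup K) :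
    ∃ u ∈ C.D.posUnipotent K, ∃ h ∈ C.D.diagonalSubgroup K, b = u * h := by
  have hN := (R.diagonal_normalizes (F := K) Y.A.B.dec Y.A.B.mono.tri).1
  have h1 : b ∈ ((C.D.posUnipotent K ⊔ C.D.diagonalSubgroup K : Subgroup _) : Set (GL C.D.Idx K)) := hb
  rw [Subgroup.coe_mul_of_right_le_normalizer_left _ _ hN] at h1
  obtain ⟨u, hu, h, hh, e⟩ := h1
  exact ⟨u, hu, h, hh, e.symm⟩

include Y in
theorem conj_diag_mem (l : List ℕ) (hl : ∀ i ∈ l, i < C.D.rank) (h : GL C.D.Idx K)
    (hh : h ∈ C.D.diagonalSubgroup K) :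
    R.nWordU l * h * (R.nWordU l)⁻¹ ∈ C.D.diagonalSubgroup K :=
  Y.A.B.mono.conj_mem _ (R.nWordU_mem l hl) h hh

end

end Cfsg.Agent.Lib.Helper3.PU
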