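import Mathlib
import Cfsg.Prelude.Def_ChevStructure
import Cfsg.Agent.Lib.Helper3.PU1
import Cfsg.Agent.Lib.Helper3.PU2
import Cfsg.Agent.Lib.Helper3.PU5
import Cfsg.Agent.Lib.Helper3.PU6
set_option autoImplicit false
set_option linter.unusedSectionVars false
set_option linter.unusedVariables false
set_option linter.style.haveILetI false
open Cfsg Cfsg.Lie

/-! The standard parabolic subgroups of a Chevalley group as groups with a (B,N)-pair: notation and the basic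
membership facts. -/

namespace Cfsg.Agent.Lib.Helper3.PU

open Cfsg.Agent.Lib.Helper3.ChevM Cfsg.Agent.Lib.Helper3.ChevSp Cfsg.Agent.Lib.Helper3 ChevU ChevT
open Cfsg.Agent.Lib.Helper3.ChevAt Cfsg.Agent.Lib.Helper3.ChevAut Cfsg.Agent.Lib.Helper1
open Cfsg.Agent.Lib.Helper3.StCh DoubleCoset

/-- Words for the longest elements of the standard parabolic subgroups of the Weyl group. -/
structure WJHyp (C : CDatum) (R : RelData C) where
  w : Finset ℕ → List ℕ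
  mem : ∀ J : Finset ℕ, J ⊆ Finset.range C.D.rank → ∀ i ∈ w J, i ∈ J
  neg : ∀ J : Finset ℕ, J ⊆ Finset.range C.D.rank → ∀ r, C.D.IsPosRoot r → C.D.InRootSub (↑J : Set ℕ) r →
    C.D.IsNegRoot (reflW R.refl (w J) r)
  pos : ∀ J : Finset ℕ, J ⊆ Finset.range C.D.rank → ∀ j ∈ J,
    C.D.IsPosRoot (reflW R.refl (w J) (C.D.neg (C.D.simple j)))

/-- The number of elements of `p`-power order of a subgroup. -/
noncomputable def pCount {G₀ : Type*} [Group G₀] (p : ℕ) (A : Subgroup G₀) : ℕ :=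
  Nat.card {w : ↥A // ∃ k : ℕ, orderOf w = p ^ k}

open Classical in
theorem card_filter_subgroupOf {G₀ : Type*} [Group G₀] (A B' : Subgroup G₀) (hAB : A ≤ B') [Fintype ↥B']
    (p : ℕ) :
    ((Finset.univ.filter (fun v : ↥B' => ∃ k : ℕ, orderOf v = p ^ k)).filter
      (fun v => v ∈ A.subgroupOf B')).card = pCount p A := by
  rw [Finset.filter_filter, ← Fintype.card_subtype, ← Nat.card_eq_fintype_card]
  unfold pCount
  refine Nat.card_congr ⟨fun v => ⟨⟨((v : ↥B') : G₀), v.2.2⟩, ?_⟩,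
    fun w => ⟨⟨((w : ↥A) : G₀), hAB w.1.2⟩, ?_, w.1.2⟩, ?_, ?_⟩
  · obtain ⟨k, hk⟩ := v.2.1
    refine ⟨k, ?_⟩
    calc orderOf (⟨((v : ↥B') : G₀), v.2.2⟩ : ↥A) = orderOf ((v : ↥B') : G₀) := Subgroup.orderOf_mk _ _
      _ = orderOf (v : ↥B') := Subgroup.orderOf_coe _
      _ = p ^ k := hk
  · obtain ⟨k, hk⟩ := w.2
    refine ⟨k, ?_⟩
    calc orderOf (⟨((w : ↥A) : G₀), hAB w.1.2⟩ : ↥B') = orderOf ((w : ↥A) : G₀) := Subgroup.orderOf_mk _ _
      _ = orderOf (w : ↥A) := Subgroup.orderOf_coe _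
      _ = p ^ k := hk
  · intro v; rfl
  · intro w; rfl

section
variable {K : Type*} [Field K] {C : CDatum} {R : RelData C} (Y : AutHyp C R)

/-- The representatives indexed by `J`. -/
abbrev SJ (J : Finset ℕ) : Set ↥(C.D.group K) := repSetI (nrep R K) J

theorem SJ_subset (J : Finset ℕ) (hJ : J ⊆ Finset.range C.D.rank) :
    SJ (K := K) (R := R) J ⊆ (bnP (K := K) Y).S := by
  rintro n ⟨j, hj, rfl⟩
  exact nrep_mem Y j (Finset.mem_range.1 (hJ hj))

/-- The standard parabolic subgroup. -/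
noncomputable abbrev PJ (J : Finset ℕ) : Subgroup ↥(C.D.group K) := (bnP (K := K) Y).parabolic (SJ (K := K) (R := R) J)

theorem PJ_eq_parabolicIn (J : Finset ℕ) (hJ : J ⊆ Finset.range C.D.rank) :
    PJ (K := K) Y J = C.D.parabolicIn K J := by
  have e : SJ (K := K) (R := R) J = repSet C.D.rank (nrep R K) J := by
    ext n
    constructor
    · rintro ⟨j, hj, rfl⟩
      exact ⟨j, hj, Finset.mem_range.1 (hJ hj), rfl⟩
    · rintro ⟨j, hj, -, rfl⟩
      exact ⟨j, hj, rfl⟩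
  rw [parabolicIn_eq Y J, ← e]

theorem mem_PJ_iff (J : Finset ℕ) (hJ : J ⊆ Finset.range C.D.rank) (g : ↥(C.D.group K)) :
    g ∈ PJ (K := K) Y J ↔ (g : GL C.D.Idx K) ∈ C.D.parabolicSubgroup K (↑J : Set ℕ) := by
  rw [PJ_eq_parabolicIn Y J hJ]
  rfl

theorem PJ_mono {M J : Finset ℕ} (h : M ⊆ J) : PJ (K := K) Y M ≤ PJ (K := K) Y J := by
  apply parabolic_mono
  rintro n ⟨j, hj, rfl⟩
  exact ⟨j, h hj, rfl⟩

/-- The (B,N)-pair of the standard parabolic subgroup. -/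
noncomputable abbrev PrJ (J : Finset ℕ) (hJ : J ⊆ Finset.range C.D.rank) : Cfsg.BNPair ↥(PJ (K := K) Y J) :=
  restrictBN (bnP (K := K) Y) (SJ (K := K) (R := R) J) (SJ_subset Y J hJ)

open Classical in
/-- The representatives inside the parabolic subgroup. -/
noncomputable def nrJ (J : Finset ℕ) (j : ℕ) : ↥(PJ (K := K) Y J) :=
  if h : j ∈ J then ⟨nrep R K j, subset_parabolic _ _ ⟨j, h, rfl⟩⟩ else 1

theorem nrJ_val (J : Finset ℕ) (j : ℕ) (hj : j ∈ J) : ((nrJ (K := K) Y J j : ↥(PJ (K := K) Y J)) : ↥(C.D.group K)) = nrep R K j := by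
  rw [nrJ, dif_pos hj]

theorem nrJ_mem (J : Finset ℕ) (hJ : J ⊆ Finset.range C.D.rank) (j : ℕ) (hj : j ∈ J) :
    nrJ (K := K) Y J j ∈ (PrJ (K := K) Y J hJ).S := by
  show ((nrJ (K := K) Y J j : ↥(PJ (K := K) Y J)) : ↥(C.D.group K)) ∈ SJ (K := K) (R := R) J
  rw [nrJ_val Y J j hj]
  exact ⟨j, hj, rfl⟩

theorem nrJ_surj (J : Finset ℕ) (hJ : J ⊆ Finset.range C.D.rank) (s : ↥(PJ (K := K) Y J))
    (hs : s ∈ (PrJ (K := K) Y J hJ).S) : ∃ j ∈ J, nrJ (K := K) Y J j = s := by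
  obtain ⟨j, hj, e⟩ := (hs : (s : ↥(C.D.group K)) ∈ SJ (K := K) (R := R) J)
  refine ⟨j, hj, Subtype.ext ?_⟩
  rw [nrJ_val Y J j hj, e]

theorem PrJ_parabolic (J : Finset ℕ) (hJ : J ⊆ Finset.range C.D.rank) (M : Finset ℕ) (hM : M ⊆ J) :
    (PrJ (K := K) Y J hJ).parabolic (repSetI (nrJ (K := K) Y J) M) =
      (PJ (K := K) Y M).subgroupOf (PJ (K := K) Y J) := by
  have hMJ : SJ (K := K) (R := R) M ⊆ SJ (K := K) (R := R) J := by
    rintro n ⟨j, hj, rfl⟩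
    exact ⟨j, hM hj, rfl⟩
  rw [← restrictBN_parabolic (bnP (K := K) Y) _ (SJ_subset Y J hJ) _ hMJ]
  congr 1
  ext x
  constructor
  · rintro ⟨j, hj, rfl⟩
    show ((nrJ (K := K) Y J j : ↥(PJ (K := K) Y J)) : ↥(C.D.group K)) ∈ SJ (K := K) (R := R) M
    rw [nrJ_val Y J j (hM hj)]
    exact ⟨j, hj, rfl⟩
  · rintro ⟨j, hj, e⟩
    refine ⟨j, hj, Subtype.ext ?_⟩
    rw [nrJ_val Y J j (hM hj), e]

theorem PJ_top : PJ (K := K) Y (Finset.range C.D.rank) = ⊤ := by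
  have hS : SJ (K := K) (R := R) (Finset.range C.D.rank) = (bnP (K := K) Y).S := by
    apply Set.Subset.antisymm (SJ_subset Y _ (Finset.Subset.refl _))
    intro s hs
    obtain ⟨j, hj, rfl⟩ := nrep_surj Y s hs
    exact ⟨j, Finset.mem_range.2 hj, rfl⟩
  unfold PJ
  rw [hS, eq_top_iff, ← (bnP (K := K) Y).sup_eq_top]
  unfold BNPair.parabolic
  refine sup_le le_sup_left ?_
  rw [← (bnP (K := K) Y).closure_sup]
  exact sup_le le_sup_right (le_trans inf_le_left le_sup_left)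

end

end Cfsg.Agent.Lib.Helper3.PU
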