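import Mathlib
import Cfsg.Prelude.Def_ChevStructure
import Cfsg.Agent.Lib.Helper3.PU7
set_option autoImplicit false
set_option linter.unusedSectionVars false
set_option linter.unusedVariables false
open Cfsg Cfsg.Lie

/-! The table check for the words of the longest elements of the standard parabolic subgroups of the Weyl group, the
subsets of the fundamental roots being indexed by their bit masks. -/

namespace Cfsg.Agent.Lib.Helper3.PU

open Cfsg.Agent.Lib.Helper3.ChevM Cfsg.Agent.Lib.Helper3.ChevAut

/-- The root `r` is supported on the fundamental roots of the mask `m`. -/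
def inSubB (D : ChevalleyDatum) (m r : ℕ) : Bool :=
  (List.range D.rank).all fun i => Nat.testBit m i || decide ((D.coroot.getD r #[]).getD i 0 = 0)

/-- The word `l` represents the longest element of the parabolic subgroup of the Weyl group with mask `m`. -/
def wJCheck (D : ChevalleyDatum) (refl : ℕ → ℕ → ℕ) (m : ℕ) (l : List ℕ) : Bool :=
  (l.all fun i => decide (i < D.rank) && Nat.testBit m i) &&
  ((List.range D.nroots).all fun r =>
      !(decide (D.IsPosRoot r)) || !(inSubB D m r) || decide (D.IsNegRoot (reflW refl l r))) &&
  (List.range D.rank).all fun j =>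
    !(Nat.testBit m j) || decide (D.IsPosRoot (reflW refl l (D.neg (D.simple j))))

/-- The bit mask of a finite set. -/
def maskOf (J : Finset ℕ) : ℕ := ∑ i ∈ J, 2 ^ i

theorem testBit_maskOf (J : Finset ℕ) (i : ℕ) : Nat.testBit (maskOf J) i = true ↔ i ∈ J := by
  rw [← Nat.mem_bitIndices, ← List.mem_toFinset]
  unfold maskOf
  rw [Finset.toFinset_bitIndices_sum_two_pow]

theorem maskOf_lt (J : Finset ℕ) (n : ℕ) (hJ : J ⊆ Finset.range n) : maskOf J < 2 ^ n := by
  apply Nat.lt_pow_two_of_testBit
  intro i hi
  by_contra h
  rw [Bool.not_eq_false] at h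
  have := (testBit_maskOf J i).1 h
  have := Finset.mem_range.1 (hJ this)
  omega

/-- The words from a checked table. -/
def wjOfTab (C : CDatum) (R : RelData C) (tab : List (List ℕ))
    (h : ∀ m < 2 ^ C.D.rank, wJCheck C.D R.refl m (tab.getD m []) = true) : WJHyp C R where
  w := fun J => tab.getD (maskOf J) []
  mem := by
    intro J hJ i hi
    have := h (maskOf J) (maskOf_lt J _ hJ)
    simp only [wJCheck, Bool.and_eq_true, List.all_eq_true, decide_eq_true_eq] at this
    exact (testBit_maskOf J i).1 (this.1.1 i hi).2
  neg := by
    intro J hJ r hpos hin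
    have := h (maskOf J) (maskOf_lt J _ hJ)
    simp only [wJCheck, Bool.and_eq_true, List.all_eq_true, decide_eq_true_eq, List.mem_range,
      Bool.or_eq_true, Bool.not_eq_true', decide_eq_false_iff_not] at this
    rcases this.1.2 r hpos.1 with (h1 | h1) | h1
    · exact absurd hpos h1
    · exfalso
      have h2 : inSubB C.D (maskOf J) r = true := by
        simp only [inSubB, List.all_eq_true, List.mem_range, Bool.or_eq_true, decide_eq_true_eq]
        intro i hi
        by_cases hiJ : i ∈ J
        · left; exact (testBit_maskOf J i).2 hiJ
        · right; exact hin.2 i hi (by simpa using hiJ)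
      rw [h2] at h1
      exact Bool.noConfusion h1
    · exact h1
  pos := by
    intro J hJ j hj
    have := h (maskOf J) (maskOf_lt J _ hJ)
    simp only [wJCheck, Bool.and_eq_true, List.all_eq_true, decide_eq_true_eq, List.mem_range,
      Bool.or_eq_true, Bool.not_eq_true'] at this
    rcases this.2 j (Finset.mem_range.1 (hJ hj)) with h1 | h1
    · have := (testBit_maskOf J j).2 hj
      rw [this] at h1
      exact Bool.noConfusion h1
    · exact h1

end Cfsg.Agent.Lib.Helper3.PU
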