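import Mathlib
set_option autoImplicit false
set_option linter.unusedSectionVars false
set_option linter.unusedVariables false

/-! A triangular system over the subsets of a finite set (an inversion over the Boolean lattice). -/

namespace Cfsg.Agent.Lib.Helper3.PU

theorem sum_interval_neg_one {M J : Finset ℕ} (hMJ : M ⊆ J) :
    ∑ K ∈ J.powerset.filter (fun K => M ⊆ K), (-1 : ℤ) ^ K.card = if M = J then (-1) ^ J.card else 0 := by
  have h1 : ∑ K ∈ J.powerset.filter (fun K => M ⊆ K), (-1 : ℤ) ^ K.card =
      ∑ K' ∈ (J \ M).powerset, (-1 : ℤ) ^ M.card * (-1) ^ K'.card := by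
    apply Finset.sum_bij' (fun K _ => K \ M) (fun K' _ => M ∪ K')
    · intro K hK
      rw [Finset.mem_filter, Finset.mem_powerset] at hK
      rw [Finset.mem_powerset]
      exact Finset.sdiff_subset_sdiff hK.1 (le_refl _)
    · intro K' hK'
      rw [Finset.mem_powerset] at hK'
      rw [Finset.mem_filter, Finset.mem_powerset]
      exact ⟨Finset.union_subset hMJ (hK'.trans Finset.sdiff_subset), Finset.subset_union_left⟩
    · intro K hK
      rw [Finset.mem_filter] at hK
      exact Finset.union_sdiff_of_subset hK.2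
    · intro K' hK'
      rw [Finset.mem_powerset] at hK'
      have hd : Disjoint M K' := by
        rw [Finset.disjoint_left]
        intro a ha ha'
        exact (Finset.mem_sdiff.1 (hK' ha')).2 ha
      rw [Finset.union_sdiff_left]
      exact Finset.sdiff_eq_self_of_disjoint hd.symm
    · intro K hK
      rw [Finset.mem_filter] at hK
      rw [← pow_add, ← Finset.card_union_of_disjoint Finset.disjoint_sdiff, Finset.union_sdiff_of_subset hK.2]
  rw [h1, ← Finset.mul_sum, Finset.sum_powerset_neg_one_pow_card]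
  by_cases h : M = J
  · subst h
    simp
  · rw [if_neg h, if_neg, mul_zero]
    intro h0
    rw [Finset.sdiff_eq_empty_iff_subset] at h0
    exact h (Finset.Subset.antisymm hMJ h0)

/-- The solution of a triangular system over the subsets of a finite set. -/
theorem mobius_solve (I : Finset ℕ) (idx : Finset ℕ → Finset ℕ → ℤ) (π : Finset ℕ → ℤ) (c : ℤ)
    (hself : ∀ J ⊆ I, idx J J = 1)
    (hmul : ∀ J ⊆ I, ∀ K ⊆ J, ∀ M ⊆ K, idx J K * idx K M = idx J M)
    (hstar : ∀ J ⊆ I, ∑ K ∈ J.powerset, (-1 : ℤ) ^ K.card * idx J K * π K = c) :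
    ∀ J ⊆ I, π J = c * ∑ K ∈ J.powerset, (-1 : ℤ) ^ K.card * idx J K := by
  set a : Finset ℕ → ℤ := fun J => ∑ K ∈ J.powerset, (-1 : ℤ) ^ K.card * idx J K with ha
  have hF : ∀ J ⊆ I, ∑ K ∈ J.powerset, (-1 : ℤ) ^ K.card * idx J K * a K = 1 := by
    intro J hJ
    have e1 : ∑ K ∈ J.powerset, (-1 : ℤ) ^ K.card * idx J K * a K =
        ∑ K ∈ J.powerset, ∑ M ∈ K.powerset, (-1 : ℤ) ^ K.card * ((-1) ^ M.card * idx J M) := by
      apply Finset.sum_congr rfl
      intro K hK
      rw [Finset.mem_powerset] at hK
      rw [ha]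
      simp only
      rw [Finset.mul_sum]
      apply Finset.sum_congr rfl
      intro M hM
      rw [Finset.mem_powerset] at hM
      rw [← hmul J hJ K hK M hM]
      ring
    rw [e1]
    rw [Finset.sum_comm' (t' := J.powerset) (s' := fun M => J.powerset.filter fun K => M ⊆ K)]
    · have e2 : ∀ M ∈ J.powerset,
          ∑ K ∈ J.powerset.filter (fun K => M ⊆ K), (-1 : ℤ) ^ K.card * ((-1) ^ M.card * idx J M) =
            if M = J then 1 else 0 := by
        intro M hM
        rw [Finset.mem_powerset] at hM
        rw [← Finset.sum_mul, sum_interval_neg_one hM]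
        by_cases h : M = J
        · subst h
          rw [if_pos rfl, if_pos rfl, hself M hJ, mul_one, ← pow_add, ← two_mul]
          exact Even.neg_one_pow ⟨M.card, by ring⟩
        · rw [if_neg h, if_neg h, zero_mul]
      rw [Finset.sum_congr rfl e2, Finset.sum_ite_eq']
      simp
    · intro K M
      simp only [Finset.mem_powerset, Finset.mem_filter]
      constructor
      · rintro ⟨h1, h2⟩
        exact ⟨⟨h1, h2⟩, h2.trans h1⟩
      · rintro ⟨⟨h1, h2⟩, _⟩
        exact ⟨h1, h2⟩
  intro J
  induction J using Finset.strongInduction with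
  | H J ih =>
    intro hJ
    have h1 := hstar J hJ
    have h2 := hF J hJ
    have hJmem : J ∈ J.powerset := Finset.mem_powerset.2 (le_refl _)
    rw [← Finset.add_sum_erase _ _ hJmem] at h1 h2
    have h3 : ∑ K ∈ J.powerset.erase J, (-1 : ℤ) ^ K.card * idx J K * π K =
        c * ∑ K ∈ J.powerset.erase J, (-1 : ℤ) ^ K.card * idx J K * a K := by
      rw [Finset.mul_sum]
      apply Finset.sum_congr rfl
      intro K hK
      rw [Finset.mem_erase, Finset.mem_powerset] at hK
      have hss : K ⊂ J := Finset.ssubset_iff_subset_ne.2 ⟨hK.2, hK.1⟩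
      rw [ih K hss (hK.2.trans hJ)]
      ring
    rw [h3, hself J hJ] at h1
    rw [hself J hJ] at h2
    have h4 : ∑ K ∈ J.powerset.erase J, (-1 : ℤ) ^ K.card * idx J K * a K = 1 - (-1) ^ J.card * 1 * a J := by
      linarith
    rw [h4] at h1
    have h5 : ((-1 : ℤ) ^ J.card) * ((-1) ^ J.card) = 1 := by
      rw [← pow_add, ← two_mul]
      exact Even.neg_one_pow ⟨J.card, by ring⟩
    have h6 : (-1 : ℤ) ^ J.card * (π J - c * a J) = 0 := by
      have : (-1 : ℤ) ^ J.card * 1 * π J + c * (1 - (-1) ^ J.card * 1 * a J) = c := h1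
      linarith
    have h7 : π J - c * a J = 0 := by
      have := congrArg (fun z => (-1 : ℤ) ^ J.card * z) h6
      simp only [mul_zero] at this
      rw [← mul_assoc, h5, one_mul] at this
      exact this
    show π J = c * a J
    linarith

end Cfsg.Agent.Lib.Helper3.PU
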