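import Mathlib
import Cfsg.Prelude.Def_ChevStructure
import Cfsg.Agent.Lib.Helper3.PU7
set_option autoImplicit false
set_option linter.unusedSectionVars false
set_option linter.unusedVariables false
set_option linter.style.haveILetI false
set_option maxHeartbeats 1000000
open Cfsg Cfsg.Lie

/-! The sum of the Steinberg character of a standard parabolic subgroup over its elements of `p`-power order. -/

namespace Cfsg.Agent.Lib.Helper3.PU

open Cfsg.Agent.Lib.Helper3.ChevM Cfsg.Agent.Lib.Helper3.ChevSp Cfsg.Agent.Lib.Helper3 ChevU ChevT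
open Cfsg.Agent.Lib.Helper3.ChevAt Cfsg.Agent.Lib.Helper3.ChevAut Cfsg.Agent.Lib.Helper1
open Cfsg.Agent.Lib.Helper3.StCh DoubleCoset

section
variable {K : Type*} [Field K] [Fintype K] {C : CDatum} {R : RelData C} (Y : AutHyp C R) (L : LeviHyp C R)
  (W : WJHyp C R)

include L W in
/-- The alternating sum over the subsets of `J` of the numbers of elements of `p`-power order of the standard
parabolic subgroups, weighted by the indices, is the order of `U`. -/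
theorem star (p : ℕ) [Fact p.Prime]
    (hsyl : ∃ P₀ : Sylow p ↥(C.D.group K),
      (P₀ : Subgroup ↥(C.D.group K)) = (C.D.posUnipotent K).subgroupOf (C.D.group K))
    (J : Finset ℕ) (hJ : J ⊆ Finset.range C.D.rank) :
    ∑ M ∈ J.powerset, (-1 : ℤ) ^ M.card *
        (((PJ (K := K) Y M).relIndex (PJ (K := K) Y J) : ℕ) : ℤ) * ((pCount p (PJ (K := K) Y M) : ℕ) : ℤ) =
      ((Nat.card (C.D.posUnipotent K) : ℕ) : ℤ) := by
  classical
  have hfinG : Finite ↥(C.D.group K) := inferInstance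
  haveI : Fintype ↥(PJ (K := K) Y J) := Fintype.ofFinite _
  -- basic inclusions
  have hBG : C.D.borelSubgroup K ≤ C.D.group K := borel_le_group Y.A
  have hUB0 : C.D.posUnipotent K ≤ C.D.borelSubgroup K := le_sup_left
  have hHB0 : C.D.diagonalSubgroup K ≤ C.D.borelSubgroup K := le_sup_right
  have hBP0 : C.D.borelSubgroup K ≤ C.D.parabolicSubgroup K (↑J : Set ℕ) := le_sup_left
  have hVU0 : C.D.unipotentRadical K (↑J : Set ℕ) ≤ C.D.posUnipotent K := unipotentRadical_le_pos _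
  set l := W.w J with hl
  have hlJ : ∀ i ∈ l, i ∈ (↑J : Set ℕ) := fun i hi => W.mem J hJ i hi
  have hlr : ∀ i ∈ l, i < C.D.rank := fun i hi => Finset.mem_range.1 (hJ (W.mem J hJ i hi))
  have hnG : R.nWordU (F := K) l ∈ C.D.group K := R.monomialSubgroup_le_group (R.nWordU_mem l hlr)
  have hnP : (⟨R.nWordU (F := K) l, hnG⟩ : ↥(C.D.group K)) ∈ PJ (K := K) Y J :=
    (mem_PJ_iff Y J hJ _).2 (nWordU_mem_parabolic _ l hlr hlJ)
  set nJ : ↥(PJ (K := K) Y J) := ⟨⟨R.nWordU (F := K) l, hnG⟩, hnP⟩ with hnJ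
  set Pr := PrJ (K := K) Y J hJ with hPr
  -- the subgroups
  set B : Subgroup ↥(PJ (K := K) Y J) := Pr.B with hB
  have memB : ∀ x : ↥(PJ (K := K) Y J), x ∈ B ↔
      ((x : ↥(C.D.group K)) : GL C.D.Idx K) ∈ C.D.borelSubgroup K := fun x => Iff.rfl
  set T : Subgroup ↥B := (B.comap (MulAut.conj nJ).toMonoidHom).subgroupOf B with hT
  have memT : ∀ β : ↥B, β ∈ T ↔ nJ * (β : ↥(PJ (K := K) Y J)) * nJ⁻¹ ∈ B := fun β => Iff.rfl
  set U : Subgroup ↥(PJ (K := K) Y J) :=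
    ((C.D.posUnipotent K).subgroupOf (C.D.group K)).subgroupOf (PJ (K := K) Y J) with hU
  set V : Subgroup ↥(PJ (K := K) Y J) :=
    ((C.D.unipotentRadical K (↑J : Set ℕ)).subgroupOf (C.D.group K)).subgroupOf (PJ (K := K) Y J) with hV
  have memU : ∀ x : ↥(PJ (K := K) Y J), x ∈ U ↔
      ((x : ↥(C.D.group K)) : GL C.D.Idx K) ∈ C.D.posUnipotent K := fun x => Iff.rfl
  have memV : ∀ x : ↥(PJ (K := K) Y J), x ∈ V ↔
      ((x : ↥(C.D.group K)) : GL C.D.Idx K) ∈ C.D.unipotentRadical K (↑J : Set ℕ) := fun x => Iff.rfl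
  have hUB : U ≤ B := fun x hx => (memB x).2 (hUB0 ((memU x).1 hx))
  have hVU : V ≤ U := fun x hx => (memU x).2 (hVU0 ((memV x).1 hx))
  -- Sylow
  obtain ⟨P₀, hP₀⟩ := hsyl
  have hP₀le : (P₀ : Subgroup ↥(C.D.group K)) ≤ PJ (K := K) Y J := by
    rw [hP₀]
    intro x hx
    exact (mem_PJ_iff Y J hJ x).2 (hBP0 (hUB0 hx))
  set Us : Sylow p ↥(PJ (K := K) Y J) := P₀.subtype hP₀le with hUs
  have hUsU : (Us : Subgroup ↥(PJ (K := K) Y J)) = U := by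
    rw [hUs, Sylow.coe_subtype, hP₀]
  -- normality
  have hVn : ∀ g v : ↥(PJ (K := K) Y J), g⁻¹ * v * g ∈ V ↔ v ∈ V := by
    intro g v
    have h1 : ((g : ↥(C.D.group K)) : GL C.D.Idx K) ∈ C.D.parabolicSubgroup K (↑J : Set ℕ) :=
      (mem_PJ_iff Y J hJ _).1 g.2
    have h2 := L.parabolic_le_normalizer (F := K) Y.A.U.K (↑J : Set ℕ) (Subgroup.inv_mem _ h1)
    have h3 := Subgroup.mem_normalizer_iff.mp h2 ((v : ↥(C.D.group K)) : GL C.D.Idx K)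
    rw [inv_inv] at h3
    exact h3.symm
  have hUn : ∀ β ∈ B, ∀ u ∈ U, β⁻¹ * u * β ∈ U := by
    intro β hβ u hu
    have h2 := borel_le_normalizer_pos (K := K) Y (Subgroup.inv_mem _ ((memB β).1 hβ))
    have h3 := Subgroup.mem_normalizer_iff.mp h2 ((u : ↥(C.D.group K)) : GL C.D.Idx K)
    rw [inv_inv] at h3
    exact h3.mp ((memU u).1 hu)
  have hkey : ∀ (u : ↥(PJ (K := K) Y J)) (hu : u ∈ U), (⟨u, hUB hu⟩ : ↥B) ∈ T ↔ u ∈ V := by
    intro u hu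
    rw [memT, memB, memV]
    exact conj_mem_borel_iff Y L (↑J : Set ℕ) l hlr hlJ (W.neg J hJ) _ ((memU u).1 hu)
  have hdec : ∀ β : ↥B, ∃ u : ↥(PJ (K := K) Y J), ∃ hu : u ∈ U, ∃ h : ↥B,
      h ∈ T ∧ β = ⟨u, hUB hu⟩ * h := by
    intro β
    obtain ⟨u₀, hu₀, h₀, hh₀, e⟩ := borel_exists_mul (K := K) Y _ ((memB (β : ↥(PJ (K := K) Y J))).1 β.2)
    have hu₀G : u₀ ∈ C.D.group K := hBG (hUB0 hu₀)
    have hh₀G : h₀ ∈ C.D.group K := hBG (hHB0 hh₀)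
    have hu₀P : (⟨u₀, hu₀G⟩ : ↥(C.D.group K)) ∈ PJ (K := K) Y J :=
      (mem_PJ_iff Y J hJ _).2 (hBP0 (hUB0 hu₀))
    have hh₀P : (⟨h₀, hh₀G⟩ : ↥(C.D.group K)) ∈ PJ (K := K) Y J :=
      (mem_PJ_iff Y J hJ _).2 (hBP0 (hHB0 hh₀))
    have hh₀B : (⟨⟨h₀, hh₀G⟩, hh₀P⟩ : ↥(PJ (K := K) Y J)) ∈ B := (memB _).2 (hHB0 hh₀)
    refine ⟨⟨⟨u₀, hu₀G⟩, hu₀P⟩, (memU _).2 hu₀, ⟨⟨⟨h₀, hh₀G⟩, hh₀P⟩, hh₀B⟩, ?_, ?_⟩
    · rw [memT, memB]
      exact hHB0 (conj_diag_mem (K := K) Y l hlr h₀ hh₀)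
    · exact Subtype.ext (Subtype.ext (Subtype.ext e))
  -- the class function
  set f : ↥(PJ (K := K) Y J) → ℂ := stFunI Pr J (nrJ (K := K) Y J) with hf
  have hfc : ∀ g x : ↥(PJ (K := K) Y J), f (x * g * x⁻¹) = f g := by
    intro g x
    rw [hf]
    unfold stFunI
    apply Finset.sum_congr rfl
    intro M _
    rw [fpc_conj]
  have hn₀ : ∀ j ∈ J, ∃ x ∈ doubleCoset (nrJ (K := K) Y J j) (Pr.B : Set ↥(PJ (K := K) Y J)) Pr.B,
      (nJ⁻¹)⁻¹ * x * nJ⁻¹ ∈ Pr.B := by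
    intro j hjJ
    have hj : j < C.D.rank := Finset.mem_range.1 (hJ hjJ)
    set α := C.D.simple j with hα
    have hαpos : C.D.IsPosRoot α := simple_pos Y.A j hj
    have hxV : R.xU (C.D.neg α) (1 : K) ∈ C.D.negUnipotent K :=
      xU_mem_neg Y.A _ (neg_simple_neg Y.A j hj) _
    have hxU : R.xU α (1 : K) ∈ C.D.posUnipotent K := xU_mem_pos Y.A α hαpos 1
    have hsq : R.nU α (1 : K) * R.nU α 1 ∈ C.D.diagonalSubgroup K := R.nU_sq_mem _ hαpos.1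
    have hb2 : (R.nU α (1 : K) * R.nU α 1)⁻¹ * R.xU α 1 ∈ C.D.borelSubgroup K :=
      Subgroup.mul_mem _ (hHB0 (Subgroup.inv_mem _ hsq)) (hUB0 hxU)
    have hid := xU_neg_eq (K := K) (R := R) α
    have hxG : R.xU (C.D.neg α) (1 : K) ∈ C.D.group K := negUnipotent_le_group (K := K) Y.A hxV
    have hnα : R.nU α (1 : K) ∈ C.D.parabolicSubgroup K (↑J : Set ℕ) :=
      Subgroup.mem_sup_right (Subgroup.subset_closure ⟨j, hjJ, hj, R.nU_val _ _⟩)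
    have hxP0 : R.xU (C.D.neg α) (1 : K) ∈ C.D.parabolicSubgroup K (↑J : Set ℕ) := by
      rw [hid]
      exact Subgroup.mul_mem _ (Subgroup.mul_mem _ (hBP0 (hUB0 hxU)) hnα) (hBP0 hb2)
    have hxP : (⟨R.xU (C.D.neg α) (1 : K), hxG⟩ : ↥(C.D.group K)) ∈ PJ (K := K) Y J :=
      (mem_PJ_iff Y J hJ _).2 hxP0
    have hb1P : (⟨R.xU α (1 : K), hBG (hUB0 hxU)⟩ : ↥(C.D.group K)) ∈ PJ (K := K) Y J :=
      (mem_PJ_iff Y J hJ _).2 (hBP0 (hUB0 hxU))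
    have hb2P : (⟨(R.nU α (1 : K) * R.nU α 1)⁻¹ * R.xU α 1, hBG hb2⟩ : ↥(C.D.group K)) ∈ PJ (K := K) Y J :=
      (mem_PJ_iff Y J hJ _).2 (hBP0 hb2)
    refine ⟨⟨⟨R.xU (C.D.neg α) 1, hxG⟩, hxP⟩, ?_, ?_⟩
    · rw [mem_doubleCoset]
      refine ⟨⟨⟨R.xU α 1, hBG (hUB0 hxU)⟩, hb1P⟩, ?_, ⟨⟨_, hBG hb2⟩, hb2P⟩, ?_, ?_⟩
      · exact (memB _).2 (hUB0 hxU)
      · exact (memB _).2 hb2
      · apply Subtype.ext
        apply Subtype.ext
        show R.xU (C.D.neg α) (1 : K) =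
          R.xU α 1 * (((nrJ (K := K) Y J j : ↥(PJ (K := K) Y J)) : ↥(C.D.group K)) : GL C.D.Idx K) *
            ((R.nU α (1 : K) * R.nU α 1)⁻¹ * R.xU α 1)
        rw [nrJ_val Y J j hjJ, nrep, dif_pos hj]
        exact hid
    · rw [inv_inv]
      show nJ * _ * nJ⁻¹ ∈ B
      rw [memB]
      exact hUB0 (conj_neg_simple_mem (K := K) Y l hlr j hj (W.pos J hJ j hjJ))
  have hTn : ∀ β : ↥Pr.B, β ∈ T ↔ (nJ⁻¹)⁻¹ * (β : ↥(PJ (K := K) Y J)) * nJ⁻¹ ∈ Pr.B := by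
    intro β
    rw [inv_inv]
    exact memT β
  have hfB : ∀ (b : ↥(PJ (K := K) Y J)) (hb : b ∈ B), f b = Cfsg.fixedPointCharacter T (⟨b, hb⟩ : ↥B) := by
    intro b hb
    exact stFunI_apply_B Pr J (nrJ (K := K) Y J) (nrJ_mem Y J hJ) (nrJ_surj Y J hJ)
      (n₀ := nJ⁻¹) hn₀ hb T hTn
  have hsum := sum_pElements p B T U V hUB hVU Us hUsU hVn hUn hkey hdec f hfc hfB
  -- the cardinality of `U`
  have hcardU : Nat.card U = Nat.card (C.D.posUnipotent K) := by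
    have h1 : (C.D.posUnipotent K).subgroupOf (C.D.group K) ≤ PJ (K := K) Y J := by
      intro x hx
      exact (mem_PJ_iff Y J hJ x).2 (hBP0 (hUB0 hx))
    rw [hU, Nat.card_congr (Subgroup.subgroupOfEquivOfLe h1).toEquiv,
      Nat.card_congr (Subgroup.subgroupOfEquivOfLe (hUB0.trans hBG)).toEquiv]
  -- expansion of the left-hand side
  have hS : ∀ g x : ↥(PJ (K := K) Y J),
      g ∈ Finset.univ.filter (fun v : ↥(PJ (K := K) Y J) => ∃ k : ℕ, orderOf v = p ^ k) →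
      x * g * x⁻¹ ∈ Finset.univ.filter (fun v : ↥(PJ (K := K) Y J) => ∃ k : ℕ, orderOf v = p ^ k) := by
    intro g x hg
    rw [Finset.mem_filter] at hg ⊢
    refine ⟨Finset.mem_univ _, ?_⟩
    obtain ⟨k, hk⟩ := hg.2
    refine ⟨k, ?_⟩
    rw [← hk]
    have := orderOf_injective (MulAut.conj x).toMonoidHom (MulAut.conj x).injective g
    simpa [MulAut.conj_apply] using this
  have hexp : ∑ v ∈ Finset.univ.filter (fun v : ↥(PJ (K := K) Y J) => ∃ k : ℕ, orderOf v = p ^ k), f v =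
      ∑ M ∈ J.powerset, (-1 : ℂ) ^ M.card *
        ((((PJ (K := K) Y M).relIndex (PJ (K := K) Y J) : ℕ) : ℂ) * ((pCount p (PJ (K := K) Y M) : ℕ) : ℂ)) := by
    rw [hf]
    unfold stFunI
    rw [Finset.sum_comm]
    apply Finset.sum_congr rfl
    intro M hM
    have hMJ := Finset.mem_powerset.1 hM
    rw [← Finset.mul_sum, PrJ_parabolic Y J hJ M hMJ, sum_fixedPointCharacter _ _ hS,
      card_filter_subgroupOf _ _ (PJ_mono Y hMJ) p]
    rfl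
  rw [hexp, hcardU] at hsum
  have hfin : ((∑ M ∈ J.powerset, (-1 : ℤ) ^ M.card *
        (((PJ (K := K) Y M).relIndex (PJ (K := K) Y J) : ℕ) : ℤ) * ((pCount p (PJ (K := K) Y M) : ℕ) : ℤ) : ℤ) : ℂ) =
      (((Nat.card (C.D.posUnipotent K) : ℕ) : ℤ) : ℂ) := by
    push_cast
    rw [← hsum]
    apply Finset.sum_congr rfl
    intro M _
    ring
  exact_mod_cast hfin

end

end Cfsg.Agent.Lib.Helper3.PU
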