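import Mathlib
import Cfsg.Prelude.Def_ChevStructure
import Cfsg.Agent.Lib.Helper3.PU4
import Cfsg.Agent.Lib.Helper3.PU8
set_option autoImplicit false
set_option linter.unusedSectionVars false
set_option linter.unusedVariables false
set_option linter.style.haveILetI false
set_option maxHeartbeats 1000000
open Cfsg Cfsg.Lie

/-! The number of elements of `p`-power order of a Chevalley group in characteristic `p`. -/

namespace Cfsg.Agent.Lib.Helper3.PU

open Cfsg.Agent.Lib.Helper3.ChevM Cfsg.Agent.Lib.Helper3.ChevSp Cfsg.Agent.Lib.Helper3 ChevU ChevT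
open Cfsg.Agent.Lib.Helper3.ChevAt Cfsg.Agent.Lib.Helper3.ChevAut Cfsg.Agent.Lib.Helper1
open Cfsg.Agent.Lib.Helper3.StCh DoubleCoset

theorem pCount_top {G₀ : Type*} [Group G₀] (p : ℕ) :
    pCount p (⊤ : Subgroup G₀) = Nat.card {g : G₀ // ∃ k : ℕ, orderOf g = p ^ k} := by
  unfold pCount
  refine Nat.card_congr (Equiv.subtypeEquiv Subgroup.topEquiv.toEquiv ?_)
  intro w
  have : orderOf (Subgroup.topEquiv w) = orderOf w := MulEquiv.orderOf_eq Subgroup.topEquiv w
  simp only [MulEquiv.toEquiv_eq_coe, MulEquiv.coe_toEquiv, this]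

section
variable {K : Type*} [Field K] [Fintype K] {C : CDatum} {R : RelData C} (Y : AutHyp C R) (L : LeviHyp C R)
  (W : WJHyp C R)

include Y L W in
/-- Steinberg's count of the elements of `p`-power order. -/
theorem card_pElements (p : ℕ) [Fact p.Prime]
    (hU : Nat.card (C.D.posUnipotent K) = Fintype.card K ^ (C.D.nroots / 2))
    (hsyl : ∃ P₀ : Sylow p ↥(C.D.group K),
      (P₀ : Subgroup ↥(C.D.group K)) = (C.D.posUnipotent K).subgroupOf (C.D.group K)) :
    Nat.card {g : ↥(C.D.group K) // ∃ k : ℕ, orderOf g = p ^ k} =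
      Fintype.card K ^ (2 * (C.D.nroots / 2)) := by
  classical
  set I := Finset.range C.D.rank with hI
  have hmob := mobius_solve I
    (fun J M => (((PJ (K := K) Y M).relIndex (PJ (K := K) Y J) : ℕ) : ℤ))
    (fun J => ((pCount p (PJ (K := K) Y J) : ℕ) : ℤ))
    ((Nat.card (C.D.posUnipotent K) : ℕ) : ℤ)
    (by
      intro J _
      show (((PJ (K := K) Y J).relIndex (PJ (K := K) Y J) : ℕ) : ℤ) = 1
      rw [Subgroup.relIndex_self]; rfl)
    (by
      intro J _ M hM N hN
      show (((PJ (K := K) Y M).relIndex (PJ (K := K) Y J) : ℕ) : ℤ) *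
        (((PJ (K := K) Y N).relIndex (PJ (K := K) Y M) : ℕ) : ℤ) =
        (((PJ (K := K) Y N).relIndex (PJ (K := K) Y J) : ℕ) : ℤ)
      rw [← Subgroup.relIndex_mul_relIndex _ _ _ (PJ_mono Y hN) (PJ_mono Y hM)]
      push_cast
      ring)
    (fun J hJ => star Y L W p hsyl J hJ)
    I (Finset.Subset.refl _)
  -- the alternating sum of the indices is the degree of the Steinberg character
  have hdeg : (∑ M ∈ I.powerset, (-1 : ℤ) ^ M.card *
      (((PJ (K := K) Y M).relIndex (PJ (K := K) Y I) : ℕ) : ℤ)) = ((Fintype.card K ^ (C.D.nroots / 2) : ℕ) : ℤ) := by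
    have h1 := steinberg_one (K := K) Y hU
    unfold ChevalleyDatum.steinbergCharacter at h1
    have h2 : ((∑ M ∈ I.powerset, (-1 : ℤ) ^ M.card *
        (((PJ (K := K) Y M).relIndex (PJ (K := K) Y I) : ℕ) : ℤ) : ℤ) : ℂ) =
        (((Fintype.card K ^ (C.D.nroots / 2) : ℕ) : ℤ) : ℂ) := by
      push_cast
      rw [← h1]
      apply Finset.sum_congr rfl
      intro M hM
      have hMI := Finset.mem_powerset.1 hM
      rw [fpc_one, ← PJ_eq_parabolicIn Y M hMI, PJ_top Y, Subgroup.relIndex_top_right]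
    exact_mod_cast h2
  rw [hdeg, PJ_top Y, pCount_top, hU] at hmob
  have : ((Nat.card {g : ↥(C.D.group K) // ∃ k : ℕ, orderOf g = p ^ k} : ℕ) : ℤ) =
      ((Fintype.card K ^ (2 * (C.D.nroots / 2)) : ℕ) : ℤ) := by
    rw [hmob]
    push_cast
    ring
  exact_mod_cast this

end

end Cfsg.Agent.Lib.Helper3.PU
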