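import Mathlib
import Cfsg.Prelude.Def_ChevStructure
import Cfsg.Agent.Lib.Helper3.PU9
import Cfsg.Agent.Lib.Helper3.PU10
import Cfsg.Agent.Lib.Helper3.ChevAutB2
import Cfsg.Agent.Lib.Helper3.ChevData.B2Levi
set_option autoImplicit false
set_option maxRecDepth 1000000
open Cfsg Cfsg.Lie

/-! The number of elements of `p`-power order of the Chevalley groups of type B2. -/

namespace Cfsg.Agent.Lib.Helper3.PU

open Cfsg.Agent.Lib.Helper3.ChevM Cfsg.Agent.Lib.Helper3.ChevAut

/-- Words for the longest elements of the parabolic subgroups of the Weyl group of type B2, indexed by the bit masks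
of the sets of fundamental roots. -/
def wTabB2 : List (List ℕ) :=
  [[], [0], [1], [0,1,0,1]]

theorem b2WJ_0 : allRange 0 4 (fun m => wJCheck chevB2 reflB2 m (wTabB2.getD m [])) = true := by
  decide +kernel

theorem b2WJ : ∀ m < 2 ^ cdB2.D.rank, wJCheck cdB2.D relB2.refl m (wTabB2.getD m []) = true := by
  intro m hm
  have hm' : m < 4 := hm
  exact allRange_spec b2WJ_0 m (Nat.zero_le _) hm'

/-- The words for the longest elements of the parabolic subgroups of the Weyl group of type B2. -/
def wjB2 : WJHyp cdB2 relB2 := wjOfTab cdB2 relB2 wTabB2 b2WJ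

theorem cardPB2 {F : Type*} [Field F] [Fintype F] (p : ℕ) [Fact p.Prime]
    (hU : Nat.card (chevB2.posUnipotent F) = Fintype.card F ^ (chevB2.nroots / 2))
    (hsyl : ∃ P₀ : Sylow p ↥(chevB2.group F),
      (P₀ : Subgroup ↥(chevB2.group F)) = (chevB2.posUnipotent F).subgroupOf (chevB2.group F)) :
    Nat.card {g : ↥(chevB2.group F) // ∃ k : ℕ, orderOf g = p ^ k} =
      Fintype.card F ^ (2 * (chevB2.nroots / 2)) :=
  card_pElements autHypB2 leviB2 wjB2 p hU hsyl

end Cfsg.Agent.Lib.Helper3.PU
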