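import Mathlib
import Cfsg.Prelude.Def_ChevStructure
import Cfsg.Agent.Lib.Helper3.PU9
import Cfsg.Agent.Lib.Helper3.PU10
import Cfsg.Agent.Lib.Helper3.ChevAutD4
import Cfsg.Agent.Lib.Helper3.ChevData.D4Levi
set_option autoImplicit false
set_option maxRecDepth 1000000
open Cfsg Cfsg.Lie

/-! The number of elements of `p`-power order of the Chevalley groups of type D4. -/

namespace Cfsg.Agent.Lib.Helper3.PU

open Cfsg.Agent.Lib.Helper3.ChevM Cfsg.Agent.Lib.Helper3.ChevAut

/-- Words for the longest elements of the parabolic subgroups of the Weyl group of type D4, indexed by the bit masks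
of the sets of fundamental roots. -/
def wTabD4 : List (List ℕ) :=
  [[], [0], [1], [0,1,0], [2], [0,2], [1,2,1], [0,1,0,2,1,0], [3], [0,3], [1,3,1], [0,1,0,3,1,0], [2,3],
   [0,2,3], [1,2,1,3,1,2], [0,1,0,2,1,0,3,1,0,2,1,3]]

theorem d4WJ_0 : allRange 0 16 (fun m => wJCheck chevD4 reflD4 m (wTabD4.getD m [])) = true := by
  decide +kernel

theorem d4WJ : ∀ m < 2 ^ cdD4.D.rank, wJCheck cdD4.D relD4.refl m (wTabD4.getD m []) = true := by
  intro m hm
  have hm' : m < 16 := hm
  exact allRange_spec d4WJ_0 m (Nat.zero_le _) hm'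

/-- The words for the longest elements of the parabolic subgroups of the Weyl group of type D4. -/
def wjD4 : WJHyp cdD4 relD4 := wjOfTab cdD4 relD4 wTabD4 d4WJ

theorem cardPD4 {F : Type*} [Field F] [Fintype F] (p : ℕ) [Fact p.Prime]
    (hU : Nat.card (chevD4.posUnipotent F) = Fintype.card F ^ (chevD4.nroots / 2))
    (hsyl : ∃ P₀ : Sylow p ↥(chevD4.group F),
      (P₀ : Subgroup ↥(chevD4.group F)) = (chevD4.posUnipotent F).subgroupOf (chevD4.group F)) :
    Nat.card {g : ↥(chevD4.group F) // ∃ k : ℕ, orderOf g = p ^ k} =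
      Fintype.card F ^ (2 * (chevD4.nroots / 2)) :=
  card_pElements autHypD4 leviD4 wjD4 p hU hsyl

end Cfsg.Agent.Lib.Helper3.PU
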