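import Mathlib
import Cfsg.Prelude.Def_ChevStructure
import Cfsg.Agent.Lib.Helper3.PU9
import Cfsg.Agent.Lib.Helper3.PU10
import Cfsg.Agent.Lib.Helper3.ChevAutE6
import Cfsg.Agent.Lib.Helper3.ChevData.E6Levi
set_option autoImplicit false
set_option maxRecDepth 1000000
open Cfsg Cfsg.Lie

/-! The number of elements of `p`-power order of the Chevalley groups of type E6. -/

namespace Cfsg.Agent.Lib.Helper3.PU

open Cfsg.Agent.Lib.Helper3.ChevM Cfsg.Agent.Lib.Helper3.ChevAut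

/-- Words for the longest elements of the parabolic subgroups of the Weyl group of type E6, indexed by the bit masks
of the sets of fundamental roots. -/
def wTabE6 : List (List ℕ) :=
  [[], [0], [1], [0,1], [2], [0,2,0], [1,2], [0,1,2,0], [3], [0,3], [1,3,1], [0,1,3,1], [2,3,2],
   [0,2,0,3,2,0], [1,2,3,1,2,3], [0,1,2,0,3,1,2,0,3,2], [4], [0,4], [1,4], [0,1,4], [2,4], [0,2,0,4], [1,2,4],
   [0,1,2,0,4], [3,4,3], [0,3,4,3], [1,3,1,4,3,1], [0,1,3,1,4,3,1], [2,3,2,4,3,2], [0,2,0,3,2,0,4,3,2,0],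
   [1,2,3,1,2,3,4,3,1,2,3,4], [0,1,2,0,3,1,2,0,3,2,4,3,1,2,0,3,2,4,3,1], [5], [0,5], [1,5], [0,1,5], [2,5],
   [0,2,0,5], [1,2,5], [0,1,2,0,5], [3,5], [0,3,5], [1,3,1,5], [0,1,3,1,5], [2,3,2,5], [0,2,0,3,2,0,5],
   [1,2,3,1,2,3,5], [0,1,2,0,3,1,2,0,3,2,5], [4,5,4], [0,4,5,4], [1,4,5,4], [0,1,4,5,4], [2,4,5,4],
   [0,2,0,4,5,4], [1,2,4,5,4], [0,1,2,0,4,5,4], [3,4,3,5,4,3], [0,3,4,3,5,4,3], [1,3,1,4,3,1,5,4,3,1],
   [0,1,3,1,4,3,1,5,4,3,1], [2,3,2,4,3,2,5,4,3,2], [0,2,0,3,2,0,4,3,2,0,5,4,3,2,0],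
   [1,2,3,1,2,3,4,3,1,2,3,4,5,4,3,1,2,3,4,5],
   [0,1,2,0,3,1,2,0,3,2,4,3,1,2,0,3,2,4,3,1,5,4,3,1,2,0,3,2,4,3,1,5,4,3,2,0]]

theorem e6WJ_0 : allRange 0 64 (fun m => wJCheck chevE6 reflE6 m (wTabE6.getD m [])) = true := by
  decide +kernel

theorem e6WJ : ∀ m < 2 ^ cdE6.D.rank, wJCheck cdE6.D relE6.refl m (wTabE6.getD m []) = true := by
  intro m hm
  have hm' : m < 64 := hm
  exact allRange_spec e6WJ_0 m (Nat.zero_le _) hm'

/-- The words for the longest elements of the parabolic subgroups of the Weyl group of type E6. -/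
def wjE6 : WJHyp cdE6 relE6 := wjOfTab cdE6 relE6 wTabE6 e6WJ

theorem cardPE6 {F : Type*} [Field F] [Fintype F] (p : ℕ) [Fact p.Prime]
    (hU : Nat.card (chevE6.posUnipotent F) = Fintype.card F ^ (chevE6.nroots / 2))
    (hsyl : ∃ P₀ : Sylow p ↥(chevE6.group F),
      (P₀ : Subgroup ↥(chevE6.group F)) = (chevE6.posUnipotent F).subgroupOf (chevE6.group F)) :
    Nat.card {g : ↥(chevE6.group F) // ∃ k : ℕ, orderOf g = p ^ k} =
      Fintype.card F ^ (2 * (chevE6.nroots / 2)) :=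
  card_pElements autHypE6 leviE6 wjE6 p hU hsyl

end Cfsg.Agent.Lib.Helper3.PU
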