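import Mathlib
import Cfsg.Prelude.Def_ChevStructure
import Cfsg.Agent.Lib.Helper3.PU9
import Cfsg.Agent.Lib.Helper3.PU10
import Cfsg.Agent.Lib.Helper3.ChevAutE7
import Cfsg.Agent.Lib.Helper3.ChevData.E7Levi
set_option autoImplicit false
set_option maxRecDepth 1000000
open Cfsg Cfsg.Lie

/-! The number of elements of `p`-power order of the Chevalley groups of type E7. -/

namespace Cfsg.Agent.Lib.Helper3.PU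

open Cfsg.Agent.Lib.Helper3.ChevM Cfsg.Agent.Lib.Helper3.ChevAut

/-- Words for the longest elements of the parabolic subgroups of the Weyl group of type E7, indexed by the bit masks
of the sets of fundamental roots. -/
def wTabE7 : List (List ℕ) :=
  [[], [0], [1], [0,1], [2], [0,2,0], [1,2], [0,1,2,0], [3], [0,3], [1,3,1], [0,1,3,1], [2,3,2],
   [0,2,0,3,2,0], [1,2,3,1,2,3], [0,1,2,0,3,1,2,0,3,2], [4], [0,4], [1,4], [0,1,4], [2,4], [0,2,0,4], [1,2,4],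
   [0,1,2,0,4], [3,4,3], [0,3,4,3], [1,3,1,4,3,1], [0,1,3,1,4,3,1], [2,3,2,4,3,2], [0,2,0,3,2,0,4,3,2,0],
   [1,2,3,1,2,3,4,3,1,2,3,4], [0,1,2,0,3,1,2,0,3,2,4,3,1,2,0,3,2,4,3,1], [5], [0,5], [1,5], [0,1,5], [2,5],
   [0,2,0,5], [1,2,5], [0,1,2,0,5], [3,5], [0,3,5], [1,3,1,5], [0,1,3,1,5], [2,3,2,5], [0,2,0,3,2,0,5],
   [1,2,3,1,2,3,5], [0,1,2,0,3,1,2,0,3,2,5], [4,5,4], [0,4,5,4], [1,4,5,4], [0,1,4,5,4], [2,4,5,4],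
   [0,2,0,4,5,4], [1,2,4,5,4], [0,1,2,0,4,5,4], [3,4,3,5,4,3], [0,3,4,3,5,4,3], [1,3,1,4,3,1,5,4,3,1],
   [0,1,3,1,4,3,1,5,4,3,1], [2,3,2,4,3,2,5,4,3,2], [0,2,0,3,2,0,4,3,2,0,5,4,3,2,0],
   [1,2,3,1,2,3,4,3,1,2,3,4,5,4,3,1,2,3,4,5],
   [0,1,2,0,3,1,2,0,3,2,4,3,1,2,0,3,2,4,3,1,5,4,3,1,2,0,3,2,4,3,1,5,4,3,2,0], [6], [0,6], [1,6], [0,1,6],
   [2,6], [0,2,0,6], [1,2,6], [0,1,2,0,6], [3,6], [0,3,6], [1,3,1,6], [0,1,3,1,6], [2,3,2,6], [0,2,0,3,2,0,6],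
   [1,2,3,1,2,3,6], [0,1,2,0,3,1,2,0,3,2,6], [4,6], [0,4,6], [1,4,6], [0,1,4,6], [2,4,6], [0,2,0,4,6],
   [1,2,4,6], [0,1,2,0,4,6], [3,4,3,6], [0,3,4,3,6], [1,3,1,4,3,1,6], [0,1,3,1,4,3,1,6], [2,3,2,4,3,2,6],
   [0,2,0,3,2,0,4,3,2,0,6], [1,2,3,1,2,3,4,3,1,2,3,4,6], [0,1,2,0,3,1,2,0,3,2,4,3,1,2,0,3,2,4,3,1,6], [5,6,5],
   [0,5,6,5], [1,5,6,5], [0,1,5,6,5], [2,5,6,5], [0,2,0,5,6,5], [1,2,5,6,5], [0,1,2,0,5,6,5], [3,5,6,5],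
   [0,3,5,6,5], [1,3,1,5,6,5], [0,1,3,1,5,6,5], [2,3,2,5,6,5], [0,2,0,3,2,0,5,6,5], [1,2,3,1,2,3,5,6,5],
   [0,1,2,0,3,1,2,0,3,2,5,6,5], [4,5,4,6,5,4], [0,4,5,4,6,5,4], [1,4,5,4,6,5,4], [0,1,4,5,4,6,5,4],
   [2,4,5,4,6,5,4], [0,2,0,4,5,4,6,5,4], [1,2,4,5,4,6,5,4], [0,1,2,0,4,5,4,6,5,4], [3,4,3,5,4,3,6,5,4,3],
   [0,3,4,3,5,4,3,6,5,4,3], [1,3,1,4,3,1,5,4,3,1,6,5,4,3,1], [0,1,3,1,4,3,1,5,4,3,1,6,5,4,3,1],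
   [2,3,2,4,3,2,5,4,3,2,6,5,4,3,2], [0,2,0,3,2,0,4,3,2,0,5,4,3,2,0,6,5,4,3,2,0],
   [1,2,3,1,2,3,4,3,1,2,3,4,5,4,3,1,2,3,4,5,6,5,4,3,1,2,3,4,5,6],
   [0,1,2,0,3,1,2,0,3,2,4,3,1,2,0,3,2,4,3,1,5,4,3,1,2,0,3,2,4,3,1,5,4,3,2,0,6,5,4,3,1,2,0,3,2,4,3,1,5,4,3,2,0,6,5,4,3,1,2,3,4,5,6]]

theorem e7WJ_0 : allRange 0 64 (fun m => wJCheck chevE7 reflE7 m (wTabE7.getD m [])) = true := by
  decide +kernel

theorem e7WJ_1 : allRange 64 128 (fun m => wJCheck chevE7 reflE7 m (wTabE7.getD m [])) = true := by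
  decide +kernel

theorem e7WJ : ∀ m < 2 ^ cdE7.D.rank, wJCheck cdE7.D relE7.refl m (wTabE7.getD m []) = true := by
  intro m hm
  have hm' : m < 128 := hm
  by_cases h0 : m < 64
  · exact allRange_spec e7WJ_0 m (by omega) h0
  exact allRange_spec e7WJ_1 m (by omega) hm'

/-- The words for the longest elements of the parabolic subgroups of the Weyl group of type E7. -/
def wjE7 : WJHyp cdE7 relE7 := wjOfTab cdE7 relE7 wTabE7 e7WJ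

theorem cardPE7 {F : Type*} [Field F] [Fintype F] (p : ℕ) [Fact p.Prime]
    (hU : Nat.card (chevE7.posUnipotent F) = Fintype.card F ^ (chevE7.nroots / 2))
    (hsyl : ∃ P₀ : Sylow p ↥(chevE7.group F),
      (P₀ : Subgroup ↥(chevE7.group F)) = (chevE7.posUnipotent F).subgroupOf (chevE7.group F)) :
    Nat.card {g : ↥(chevE7.group F) // ∃ k : ℕ, orderOf g = p ^ k} =
      Fintype.card F ^ (2 * (chevE7.nroots / 2)) :=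
  card_pElements autHypE7 leviE7 wjE7 p hU hsyl

end Cfsg.Agent.Lib.Helper3.PU
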