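import Mathlib
import Cfsg.Prelude.Def_ChevStructure
import Cfsg.Agent.Lib.Helper3.PU9
import Cfsg.Agent.Lib.Helper3.PU10
import Cfsg.Agent.Lib.Helper3.ChevAutE8
import Cfsg.Agent.Lib.Helper3.ChevData.E8Levi
set_option autoImplicit false
set_option maxRecDepth 1000000
open Cfsg Cfsg.Lie

/-! The number of elements of `p`-power order of the Chevalley groups of type E8. -/

namespace Cfsg.Agent.Lib.Helper3.PU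

open Cfsg.Agent.Lib.Helper3.ChevM Cfsg.Agent.Lib.Helper3.ChevAut

/-- Words for the longest elements of the parabolic subgroups of the Weyl group of type E8, indexed by the bit masks
of the sets of fundamental roots. -/
def wTabE8 : List (List ℕ) :=
  [[], [0], [1], [0,1], [2], [0,2,0], [1,2], [0,1,2,0], [3], [0,3], [1,3,1], [0,1,3,1], [2,3,2],
   [0,2,0,3,2,0], [1,2,3,1,2,3], [0,1,2,0,3,1,2,0,3,2], [4], [0,4], [1,4], [0,1,4], [2,4], [0,2,0,4], [1,2,4],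
   [0,1,2,0,4], [3,4,3], [0,3,4,3], [1,3,1,4,3,1], [0,1,3,1,4,3,1], [2,3,2,4,3,2], [0,2,0,3,2,0,4,3,2,0],
   [1,2,3,1,2,3,4,3,1,2,3,4], [0,1,2,0,3,1,2,0,3,2,4,3,1,2,0,3,2,4,3,1], [5], [0,5], [1,5], [0,1,5], [2,5],
   [0,2,0,5], [1,2,5], [0,1,2,0,5], [3,5], [0,3,5], [1,3,1,5], [0,1,3,1,5], [2,3,2,5], [0,2,0,3,2,0,5],
   [1,2,3,1,2,3,5], [0,1,2,0,3,1,2,0,3,2,5], [4,5,4], [0,4,5,4], [1,4,5,4], [0,1,4,5,4], [2,4,5,4],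
   [0,2,0,4,5,4], [1,2,4,5,4], [0,1,2,0,4,5,4], [3,4,3,5,4,3], [0,3,4,3,5,4,3], [1,3,1,4,3,1,5,4,3,1],
   [0,1,3,1,4,3,1,5,4,3,1], [2,3,2,4,3,2,5,4,3,2], [0,2,0,3,2,0,4,3,2,0,5,4,3,2,0],
   [1,2,3,1,2,3,4,3,1,2,3,4,5,4,3,1,2,3,4,5],
   [0,1,2,0,3,1,2,0,3,2,4,3,1,2,0,3,2,4,3,1,5,4,3,1,2,0,3,2,4,3,1,5,4,3,2,0], [6], [0,6], [1,6], [0,1,6],
   [2,6], [0,2,0,6], [1,2,6], [0,1,2,0,6], [3,6], [0,3,6], [1,3,1,6], [0,1,3,1,6], [2,3,2,6], [0,2,0,3,2,0,6],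
   [1,2,3,1,2,3,6], [0,1,2,0,3,1,2,0,3,2,6], [4,6], [0,4,6], [1,4,6], [0,1,4,6], [2,4,6], [0,2,0,4,6],
   [1,2,4,6], [0,1,2,0,4,6], [3,4,3,6], [0,3,4,3,6], [1,3,1,4,3,1,6], [0,1,3,1,4,3,1,6], [2,3,2,4,3,2,6],
   [0,2,0,3,2,0,4,3,2,0,6], [1,2,3,1,2,3,4,3,1,2,3,4,6], [0,1,2,0,3,1,2,0,3,2,4,3,1,2,0,3,2,4,3,1,6], [5,6,5],
   [0,5,6,5], [1,5,6,5], [0,1,5,6,5], [2,5,6,5], [0,2,0,5,6,5], [1,2,5,6,5], [0,1,2,0,5,6,5], [3,5,6,5],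
   [0,3,5,6,5], [1,3,1,5,6,5], [0,1,3,1,5,6,5], [2,3,2,5,6,5], [0,2,0,3,2,0,5,6,5], [1,2,3,1,2,3,5,6,5],
   [0,1,2,0,3,1,2,0,3,2,5,6,5], [4,5,4,6,5,4], [0,4,5,4,6,5,4], [1,4,5,4,6,5,4], [0,1,4,5,4,6,5,4],
   [2,4,5,4,6,5,4], [0,2,0,4,5,4,6,5,4], [1,2,4,5,4,6,5,4], [0,1,2,0,4,5,4,6,5,4], [3,4,3,5,4,3,6,5,4,3],
   [0,3,4,3,5,4,3,6,5,4,3], [1,3,1,4,3,1,5,4,3,1,6,5,4,3,1], [0,1,3,1,4,3,1,5,4,3,1,6,5,4,3,1],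
   [2,3,2,4,3,2,5,4,3,2,6,5,4,3,2], [0,2,0,3,2,0,4,3,2,0,5,4,3,2,0,6,5,4,3,2,0],
   [1,2,3,1,2,3,4,3,1,2,3,4,5,4,3,1,2,3,4,5,6,5,4,3,1,2,3,4,5,6],
   [0,1,2,0,3,1,2,0,3,2,4,3,1,2,0,3,2,4,3,1,5,4,3,1,2,0,3,2,4,3,1,5,4,3,2,0,6,5,4,3,1,2,0,3,2,4,3,1,5,4,3,2,0,6,5,4,3,1,2,3,4,5,6],
   [7], [0,7], [1,7], [0,1,7], [2,7], [0,2,0,7], [1,2,7], [0,1,2,0,7], [3,7], [0,3,7], [1,3,1,7], [0,1,3,1,7],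
   [2,3,2,7], [0,2,0,3,2,0,7], [1,2,3,1,2,3,7], [0,1,2,0,3,1,2,0,3,2,7], [4,7], [0,4,7], [1,4,7], [0,1,4,7],
   [2,4,7], [0,2,0,4,7], [1,2,4,7], [0,1,2,0,4,7], [3,4,3,7], [0,3,4,3,7], [1,3,1,4,3,1,7], [0,1,3,1,4,3,1,7],
   [2,3,2,4,3,2,7], [0,2,0,3,2,0,4,3,2,0,7], [1,2,3,1,2,3,4,3,1,2,3,4,7],
   [0,1,2,0,3,1,2,0,3,2,4,3,1,2,0,3,2,4,3,1,7], [5,7], [0,5,7], [1,5,7], [0,1,5,7], [2,5,7], [0,2,0,5,7],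
   [1,2,5,7], [0,1,2,0,5,7], [3,5,7], [0,3,5,7], [1,3,1,5,7], [0,1,3,1,5,7], [2,3,2,5,7], [0,2,0,3,2,0,5,7],
   [1,2,3,1,2,3,5,7], [0,1,2,0,3,1,2,0,3,2,5,7], [4,5,4,7], [0,4,5,4,7], [1,4,5,4,7], [0,1,4,5,4,7],
   [2,4,5,4,7], [0,2,0,4,5,4,7], [1,2,4,5,4,7], [0,1,2,0,4,5,4,7], [3,4,3,5,4,3,7], [0,3,4,3,5,4,3,7],
   [1,3,1,4,3,1,5,4,3,1,7], [0,1,3,1,4,3,1,5,4,3,1,7], [2,3,2,4,3,2,5,4,3,2,7],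
   [0,2,0,3,2,0,4,3,2,0,5,4,3,2,0,7], [1,2,3,1,2,3,4,3,1,2,3,4,5,4,3,1,2,3,4,5,7],
   [0,1,2,0,3,1,2,0,3,2,4,3,1,2,0,3,2,4,3,1,5,4,3,1,2,0,3,2,4,3,1,5,4,3,2,0,7], [6,7,6], [0,6,7,6], [1,6,7,6],
   [0,1,6,7,6], [2,6,7,6], [0,2,0,6,7,6], [1,2,6,7,6], [0,1,2,0,6,7,6], [3,6,7,6], [0,3,6,7,6], [1,3,1,6,7,6],
   [0,1,3,1,6,7,6], [2,3,2,6,7,6], [0,2,0,3,2,0,6,7,6], [1,2,3,1,2,3,6,7,6], [0,1,2,0,3,1,2,0,3,2,6,7,6],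
   [4,6,7,6], [0,4,6,7,6], [1,4,6,7,6], [0,1,4,6,7,6], [2,4,6,7,6], [0,2,0,4,6,7,6], [1,2,4,6,7,6],
   [0,1,2,0,4,6,7,6], [3,4,3,6,7,6], [0,3,4,3,6,7,6], [1,3,1,4,3,1,6,7,6], [0,1,3,1,4,3,1,6,7,6],
   [2,3,2,4,3,2,6,7,6], [0,2,0,3,2,0,4,3,2,0,6,7,6], [1,2,3,1,2,3,4,3,1,2,3,4,6,7,6],
   [0,1,2,0,3,1,2,0,3,2,4,3,1,2,0,3,2,4,3,1,6,7,6], [5,6,5,7,6,5], [0,5,6,5,7,6,5], [1,5,6,5,7,6,5],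
   [0,1,5,6,5,7,6,5], [2,5,6,5,7,6,5], [0,2,0,5,6,5,7,6,5], [1,2,5,6,5,7,6,5], [0,1,2,0,5,6,5,7,6,5],
   [3,5,6,5,7,6,5], [0,3,5,6,5,7,6,5], [1,3,1,5,6,5,7,6,5], [0,1,3,1,5,6,5,7,6,5], [2,3,2,5,6,5,7,6,5],
   [0,2,0,3,2,0,5,6,5,7,6,5], [1,2,3,1,2,3,5,6,5,7,6,5], [0,1,2,0,3,1,2,0,3,2,5,6,5,7,6,5],
   [4,5,4,6,5,4,7,6,5,4], [0,4,5,4,6,5,4,7,6,5,4], [1,4,5,4,6,5,4,7,6,5,4], [0,1,4,5,4,6,5,4,7,6,5,4],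
   [2,4,5,4,6,5,4,7,6,5,4], [0,2,0,4,5,4,6,5,4,7,6,5,4], [1,2,4,5,4,6,5,4,7,6,5,4],
   [0,1,2,0,4,5,4,6,5,4,7,6,5,4], [3,4,3,5,4,3,6,5,4,3,7,6,5,4,3], [0,3,4,3,5,4,3,6,5,4,3,7,6,5,4,3],
   [1,3,1,4,3,1,5,4,3,1,6,5,4,3,1,7,6,5,4,3,1], [0,1,3,1,4,3,1,5,4,3,1,6,5,4,3,1,7,6,5,4,3,1],
   [2,3,2,4,3,2,5,4,3,2,6,5,4,3,2,7,6,5,4,3,2], [0,2,0,3,2,0,4,3,2,0,5,4,3,2,0,6,5,4,3,2,0,7,6,5,4,3,2,0],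
   [1,2,3,1,2,3,4,3,1,2,3,4,5,4,3,1,2,3,4,5,6,5,4,3,1,2,3,4,5,6,7,6,5,4,3,1,2,3,4,5,6,7],
   [0,1,2,0,3,1,2,0,3,2,4,3,1,2,0,3,2,4,3,1,5,4,3,1,2,0,3,2,4,3,1,5,4,3,2,0,6,5,4,3,1,2,0,3,2,4,3,1,5,4,3,2,0,6,5,4,3,1,2,3,4,5,6,7,6,5,4,3,1,2,0,3,2,4,3,1,5,4,3,2,0,6,5,4,3,1,2,3,4,5,6,7,6,5,4,3,1,2,0,3,2,4,3,1,5,4,3,2,0,6,5,4,3,1,2,3,4,5,6,7]]

theorem e8WJ_0 : allRange 0 64 (fun m => wJCheck chevE8 reflE8 m (wTabE8.getD m [])) = true := by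
  decide +kernel

theorem e8WJ_1 : allRange 64 128 (fun m => wJCheck chevE8 reflE8 m (wTabE8.getD m [])) = true := by
  decide +kernel

theorem e8WJ_2 : allRange 128 192 (fun m => wJCheck chevE8 reflE8 m (wTabE8.getD m [])) = true := by
  decide +kernel

theorem e8WJ_3 : allRange 192 256 (fun m => wJCheck chevE8 reflE8 m (wTabE8.getD m [])) = true := by
  decide +kernel

theorem e8WJ : ∀ m < 2 ^ cdE8.D.rank, wJCheck cdE8.D relE8.refl m (wTabE8.getD m []) = true := by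
  intro m hm
  have hm' : m < 256 := hm
  by_cases h0 : m < 64
  · exact allRange_spec e8WJ_0 m (by omega) h0
  by_cases h1 : m < 128
  · exact allRange_spec e8WJ_1 m (by omega) h1
  by_cases h2 : m < 192
  · exact allRange_spec e8WJ_2 m (by omega) h2
  exact allRange_spec e8WJ_3 m (by omega) hm'

/-- The words for the longest elements of the parabolic subgroups of the Weyl group of type E8. -/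
def wjE8 : WJHyp cdE8 relE8 := wjOfTab cdE8 relE8 wTabE8 e8WJ

theorem cardPE8 {F : Type*} [Field F] [Fintype F] (p : ℕ) [Fact p.Prime]
    (hU : Nat.card (chevE8.posUnipotent F) = Fintype.card F ^ (chevE8.nroots / 2))
    (hsyl : ∃ P₀ : Sylow p ↥(chevE8.group F),
      (P₀ : Subgroup ↥(chevE8.group F)) = (chevE8.posUnipotent F).subgroupOf (chevE8.group F)) :
    Nat.card {g : ↥(chevE8.group F) // ∃ k : ℕ, orderOf g = p ^ k} =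
      Fintype.card F ^ (2 * (chevE8.nroots / 2)) :=
  card_pElements autHypE8 leviE8 wjE8 p hU hsyl

end Cfsg.Agent.Lib.Helper3.PU
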