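import Mathlib
import Cfsg.Agent.S3430

set_option autoImplicit false

/-!
The primitive part of `q ^ n - 1` is at least `3 n + 1`, apart from thirteen pairs `(q, n)`
(general structure part).
-/

namespace Cfsg.Agent.Lib.Helper3.PrimPart

open Polynomial Cfsg.Agent.S3430

theorem cast_dvd_of_dvd_cA {r q n : ℕ} (h : r ∣ cA n q) :
    (r : ℤ) ∣ (cyclotomic n ℤ).eval (q : ℤ) := by
  unfold cA at h
  exact Int.natCast_dvd.2 h

theorem cA_dvd (q n : ℕ) (hq : 0 < q) : cA n q ∣ q ^ n - 1 := by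
  have := Int.natAbs_dvd_natAbs.2 (Cfsg.Agent.S2904.psi_dvd n q)
  rwa [Cfsg.Agent.S2904.natAbs_pow_sub_one q n hq] at this

theorem prim_of_not_dvd {r q n : ℕ} (hr : r.Prime) (hq : 2 ≤ q) (hn : 3 ≤ n)
    (hrP : r ∣ cA n q) (hrn : ¬ r ∣ n) :
    n ∣ r - 1 ∧ ∀ i : ℕ, 1 ≤ i → i < n → ¬ r ∣ q ^ i - 1 := by
  obtain ⟨e, m, hnm, hm, hk⟩ :=
    Cfsg.Agent.S2904.key hr (show 0 < n by omega) (show 0 < q by omega) (cast_dvd_of_dvd_cA hrP)
  rcases Nat.eq_zero_or_pos e with he | he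
  · subst he
    rw [pow_zero, one_mul] at hnm
    subst hnm
    refine ⟨hm, ?_⟩
    intro i hi1 hin hri
    have := Nat.le_of_dvd (by omega) (hk i hri)
    omega
  · exfalso
    apply hrn
    rw [hnm]
    exact Dvd.dvd.mul_right (dvd_pow_self r he.ne') m

theorem not_sq_of_dvd {r q n : ℕ} (hr : r.Prime) (hq : 2 ≤ q) (hn : 3 ≤ n)
    (hrP : r ∣ cA n q) (hrn : r ∣ n) : ¬ r ^ 2 ∣ cA n q := by
  intro hsq
  have hsq' : (r : ℤ) ^ 2 ∣ (cyclotomic n ℤ).eval (q : ℤ) := by
    have := cast_dvd_of_dvd_cA hsq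
    push_cast at this
    exact this
  rcases hr.eq_two_or_odd' with h2 | hodd
  · subst h2
    obtain ⟨e, m, hnm, hm, hk⟩ :=
      Cfsg.Agent.S2904.key hr (show 0 < n by omega) (show 0 < q by omega) (cast_dvd_of_dvd_cA hrP)
    have hm1 : m = 1 := by simpa using hm
    subst hm1
    rw [mul_one] at hnm
    have he2 : 2 ≤ e := by
      by_contra hlt
      have : e = 0 ∨ e = 1 := by omega
      rcases this with h0 | h1
      · subst h0; simp at hnm; omega
      · subst h1; simp at hnm; omega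
    exact Cfsg.Agent.S2904.not_four_dvd hq he2 hnm hsq'
  · exact Cfsg.Agent.S2904.not_sq_dvd_odd hr hodd hq hrn (by omega) (cast_dvd_of_dvd_cA hrP) hsq'

/-- if no primitive divisor is at least `3 n + 1` then `Φₙ(q) ≤ n (2 n + 1)` -/
theorem struct' (q n : ℕ) (hq : 2 ≤ q) (hn : 3 ≤ n)
    (hno : ∀ m : ℕ, m ∣ q ^ n - 1 → (∀ i : ℕ, 1 ≤ i → i < n → Nat.Coprime m (q ^ i - 1)) →
      m < 3 * n + 1) :
    cA n q ≤ n * (2 * n + 1) := by
  set P : ℕ := cA n q with hP
  have hPdvd : P ∣ q ^ n - 1 := cA_dvd q n (by omega)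
  have hP0 : P ≠ 0 := by
    intro h0
    have h1 := cA_lb (m := n) (x := q) (by omega) hq
    rw [← hP, h0] at h1
    omega
  have hprim : ∀ r : ℕ, r.Prime → r ∣ P → ¬ r ∣ n →
      n + 1 ≤ r ∧ r ≤ 2 * n + 1 ∧ ¬ r ^ 2 ∣ P ∧
        (∀ i : ℕ, 1 ≤ i → i < n → Nat.Coprime r (q ^ i - 1)) := by
    intro r hr hrP hrn
    obtain ⟨h1, h2⟩ := prim_of_not_dvd hr hq hn hrP hrn
    have hcop : ∀ i : ℕ, 1 ≤ i → i < n → Nat.Coprime r (q ^ i - 1) :=
      fun i hi hin => (Nat.Prime.coprime_iff_not_dvd hr).2 (h2 i hi hin)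
    have hlt := hno r (hrP.trans hPdvd) hcop
    have hrge : n + 1 ≤ r := by
      have := hr.two_le
      have := Nat.le_of_dvd (by omega) h1
      omega
    refine ⟨hrge, ?_, ?_, hcop⟩
    · obtain ⟨c, hc⟩ := h1
      have := hr.two_le
      have hc3 : c < 3 := by
        by_contra hge
        push Not at hge
        have : n * 3 ≤ n * c := Nat.mul_le_mul_left n hge
        omega
      have : n * c ≤ n * 2 := Nat.mul_le_mul_left n (by omega)
      omega
    · intro hsq
      have hlt2 := hno (r ^ 2) (hsq.trans hPdvd)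
        (fun i hi hin => Nat.Coprime.pow_left 2 (hcop i hi hin))
      have : (n + 1) ^ 2 ≤ r ^ 2 := Nat.pow_le_pow_left hrge 2
      nlinarith
  have huniq : ∀ r₁ r₂ : ℕ, r₁.Prime → r₂.Prime → r₁ ∣ P → r₂ ∣ P → ¬ r₁ ∣ n → ¬ r₂ ∣ n →
      r₁ = r₂ := by
    intro r₁ r₂ hr₁ hr₂ h1 h2 hn1 hn2
    by_contra hne
    obtain ⟨hge1, -, -, hc1⟩ := hprim r₁ hr₁ h1 hn1
    obtain ⟨hge2, -, -, hc2⟩ := hprim r₂ hr₂ h2 hn2
    have hcop : Nat.Coprime r₁ r₂ := (Nat.coprime_primes hr₁ hr₂).2 hne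
    have hdvd : r₁ * r₂ ∣ q ^ n - 1 :=
      Nat.Coprime.mul_dvd_of_dvd_of_dvd hcop (h1.trans hPdvd) (h2.trans hPdvd)
    have hlt := hno (r₁ * r₂) hdvd (fun i hi hin => Nat.Coprime.mul_left (hc1 i hi hin) (hc2 i hi hin))
    have : (n + 1) * (n + 1) ≤ r₁ * r₂ := Nat.mul_le_mul hge1 hge2
    nlinarith
  have hsq : Squarefree P := by
    rw [Nat.squarefree_iff_prime_squarefree]
    intro r hr h
    rw [← pow_two] at h
    by_cases hrn : r ∣ n
    · exact not_sq_of_dvd hr hq hn (dvd_of_mul_left_dvd (by rw [pow_two] at h; exact h)) hrn h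
    · exact (hprim r hr (dvd_of_mul_left_dvd (by rw [pow_two] at h; exact h)) hrn).2.2.1 h
  by_cases hex : ∃ r : ℕ, r.Prime ∧ r ∣ P ∧ ¬ r ∣ n
  · obtain ⟨r₀, hr₀, hr₀P, hr₀n⟩ := hex
    have hdvd : P ∣ n * r₀ := by
      rw [← Nat.prod_primeFactors_of_squarefree hsq]
      apply Finset.prod_primes_dvd
      · intro a ha
        exact (Nat.prime_of_mem_primeFactors ha).prime
      · intro a ha
        have hap := Nat.prime_of_mem_primeFactors ha
        have haP := Nat.dvd_of_mem_primeFactors ha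
        by_cases han : a ∣ n
        · exact Dvd.dvd.mul_right han r₀
        · rw [huniq a r₀ hap hr₀ haP hr₀P han hr₀n]
          exact Dvd.intro_left n rfl
    have hle : P ≤ n * r₀ := Nat.le_of_dvd (Nat.mul_pos (by omega) hr₀.pos) hdvd
    have := (hprim r₀ hr₀ hr₀P hr₀n).2.1
    calc P ≤ n * r₀ := hle
      _ ≤ n * (2 * n + 1) := Nat.mul_le_mul_left n this
  · push Not at hex
    have hdvd : P ∣ n := by
      rw [← Nat.prod_primeFactors_of_squarefree hsq]
      apply Finset.prod_primes_dvd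
      · intro a ha
        exact (Nat.prime_of_mem_primeFactors ha).prime
      · intro a ha
        exact hex a (Nat.prime_of_mem_primeFactors ha) (Nat.dvd_of_mem_primeFactors ha)
    have hle : P ≤ n := Nat.le_of_dvd (by omega) hdvd
    nlinarith

/-! ### bounds -/

theorem pow_bound' (t : ℕ) (ht : 39 ≤ t) : 405 * t ^ 6 ≤ 2 ^ (t + 2) := by
  induction t, ht using Nat.le_induction with
  | base => norm_num
  | succ t ht ih =>
    have h1 : (t + 1) ^ 6 ≤ 2 * t ^ 6 := by
      have h2 : 9 * (t + 1) ≤ 10 * t := by omega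
      have h3 : (9 * (t + 1)) ^ 6 ≤ (10 * t) ^ 6 := Nat.pow_le_pow_left h2 6
      rw [mul_pow, mul_pow] at h3
      norm_num at h3
      omega
    calc 405 * (t + 1) ^ 6 ≤ 405 * (2 * t ^ 6) := Nat.mul_le_mul_left _ h1
      _ = 2 * (405 * t ^ 6) := by ring
      _ ≤ 2 * 2 ^ (t + 2) := Nat.mul_le_mul_left _ ih
      _ = 2 ^ (t + 1 + 2) := by rw [pow_succ 2 (t + 2)]; ring

theorem large_n' (n : ℕ) (hn : 500 ≤ n) : n ^ 2 * (2 * n + 1) ^ 2 ≤ 2 ^ Nat.totient n := by
  have hc := cube_bound n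
  set t := Nat.totient n with ht
  have ht39 : 39 ≤ t := by
    by_contra hlt
    have h38 : t ≤ 38 := by omega
    have h1 : t ^ 3 ≤ 38 ^ 3 := Nat.pow_le_pow_left h38 3
    have h2 : 500 ^ 2 ≤ n ^ 2 := Nat.pow_le_pow_left hn 2
    norm_num at h1 h2
    omega
  have h3 := pow_bound' t ht39
  have h4 : (2 * n ^ 2) ^ 2 ≤ (9 * t ^ 3) ^ 2 := Nat.pow_le_pow_left hc 2
  have h5 : (2 * n + 1) ^ 2 ≤ 5 * n ^ 2 := by nlinarith
  have h6 : 4 * (n ^ 2 * (2 * n + 1) ^ 2) ≤ 4 * 2 ^ t := by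
    calc 4 * (n ^ 2 * (2 * n + 1) ^ 2) ≤ 4 * (n ^ 2 * (5 * n ^ 2)) :=
          Nat.mul_le_mul_left _ (Nat.mul_le_mul_left _ h5)
      _ = 5 * (2 * n ^ 2) ^ 2 := by ring
      _ ≤ 5 * (9 * t ^ 3) ^ 2 := Nat.mul_le_mul_left _ h4
      _ = 405 * t ^ 6 := by ring
      _ ≤ 2 ^ (t + 2) := h3
      _ = 4 * 2 ^ t := by rw [pow_add]; ring
  omega

set_option maxRecDepth 100000 in
theorem tabA : ∀ n < 500, 90 < n → n ^ 2 * (2 * n + 1) ^ 2 ≤ 2 ^ (tot n) := by decide +kernel

set_option maxRecDepth 100000 in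
theorem tabB : ∀ n < 91, 3 ≤ n → 2 ^ (tot n) < n ^ 2 * (2 * n + 1) ^ 2 →
    n ∈ [3, 4, 5, 6, 7, 8, 9, 10, 11, 12, 13, 14, 15, 16, 17, 18, 19, 20, 21, 22, 24, 25, 26, 27, 28, 30, 32, 33, 34, 36, 38, 40, 42, 44, 46, 48, 50, 52, 54, 56, 60, 66, 70, 72, 78, 84, 90] := by decide +kernel

set_option maxRecDepth 100000 in
theorem tabC : ∀ n < 91, 3 ≤ n → 2 ^ (tot n) < n * (2 * n + 1) →
    n ∈ [3, 4, 5, 6, 7, 8, 9, 10, 12, 14, 15, 16, 18, 20, 24, 30] := by decide +kernel

set_option maxRecDepth 100000 in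
theorem tabD : ∀ n ∈ [3, 4, 5, 6, 7, 8, 9, 10, 12, 14, 15, 16, 18, 20, 24, 30], ∀ q < 44, 3 ≤ q →
    (q - 1) ^ (tot n) < n * (2 * n + 1) →
    (q, n) ∈ [(3, 3), (4, 3), (5, 3), (3, 4), (4, 4), (5, 4), (6, 4), (3, 5), (3, 6), (4, 6), (5, 6), (6, 6), (7, 6), (8, 6), (9, 6), (3, 7), (3, 8), (4, 8), (3, 9), (3, 10), (4, 10), (3, 12), (4, 12), (5, 12), (3, 14), (3, 15), (3, 16), (3, 18), (3, 20), (3, 24), (3, 30)] := by decide +kernel

/-- `n ≤ 90` as soon as `2 ^ φ(n) < n² (2 n + 1)²` -/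
theorem small_n' (n : ℕ) (h : 2 ^ Nat.totient n < n ^ 2 * (2 * n + 1) ^ 2) : n < 91 := by
  by_contra hlt
  rcases Nat.lt_or_ge n 500 with h1 | h1
  · have := tabA n h1 (by omega)
    rw [← tot_eq] at this
    omega
  · have := large_n' n h1
    omega

/-! ### the witnesses -/

/-- the conclusion -/
def Goal' (q n : ℕ) : Prop :=
  ∃ m : ℕ, m ∣ q ^ n - 1 ∧ (∀ i : ℕ, 1 ≤ i → i < n → Nat.Coprime m (q ^ i - 1)) ∧ 3 * n + 1 ≤ m

theorem wit' (q n m : ℕ)
    (h : m ∣ q ^ n - 1 ∧ (∀ i < n, 1 ≤ i → Nat.Coprime m (q ^ i - 1)) ∧ 3 * n + 1 ≤ m) :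
    Goal' q n :=
  ⟨m, h.1, fun i hi1 hin => h.2.1 i hin hi1, h.2.2⟩

set_option maxRecDepth 100000 in
theorem w_2_5 : Goal' 2 5 := wit' 2 5 31 (by decide +kernel)

set_option maxRecDepth 100000 in
theorem w_2_7 : Goal' 2 7 := wit' 2 7 127 (by decide +kernel)

set_option maxRecDepth 100000 in
theorem w_2_9 : Goal' 2 9 := wit' 2 9 73 (by decide +kernel)

set_option maxRecDepth 100000 in
theorem w_2_11 : Goal' 2 11 := wit' 2 11 89 (by decide +kernel)

set_option maxRecDepth 100000 in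
theorem w_2_13 : Goal' 2 13 := wit' 2 13 8191 (by decide +kernel)

set_option maxRecDepth 100000 in
theorem w_2_14 : Goal' 2 14 := wit' 2 14 43 (by decide +kernel)

set_option maxRecDepth 100000 in
theorem w_2_15 : Goal' 2 15 := wit' 2 15 151 (by decide +kernel)

set_option maxRecDepth 100000 in
theorem w_2_16 : Goal' 2 16 := wit' 2 16 257 (by decide +kernel)

set_option maxRecDepth 100000 in
theorem w_2_17 : Goal' 2 17 := wit' 2 17 131071 (by decide +kernel)

set_option maxRecDepth 100000 in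
theorem w_2_19 : Goal' 2 19 := wit' 2 19 524287 (by decide +kernel)

set_option maxRecDepth 100000 in
theorem w_2_21 : Goal' 2 21 := wit' 2 21 337 (by decide +kernel)

set_option maxRecDepth 100000 in
theorem w_2_22 : Goal' 2 22 := wit' 2 22 683 (by decide +kernel)

set_option maxRecDepth 100000 in
theorem w_2_24 : Goal' 2 24 := wit' 2 24 241 (by decide +kernel)

set_option maxRecDepth 100000 in
theorem w_2_25 : Goal' 2 25 := wit' 2 25 601 (by decide +kernel)

set_option maxRecDepth 100000 in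
theorem w_2_26 : Goal' 2 26 := wit' 2 26 2731 (by decide +kernel)

set_option maxRecDepth 100000 in
theorem w_2_27 : Goal' 2 27 := wit' 2 27 262657 (by decide +kernel)

set_option maxRecDepth 100000 in
theorem w_2_28 : Goal' 2 28 := wit' 2 28 113 (by decide +kernel)

set_option maxRecDepth 100000 in
theorem w_2_30 : Goal' 2 30 := wit' 2 30 331 (by decide +kernel)

set_option maxRecDepth 100000 in
theorem w_2_32 : Goal' 2 32 := wit' 2 32 65537 (by decide +kernel)

set_option maxRecDepth 100000 in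
theorem w_2_33 : Goal' 2 33 := wit' 2 33 599479 (by decide +kernel)

set_option maxRecDepth 100000 in
theorem w_2_34 : Goal' 2 34 := wit' 2 34 43691 (by decide +kernel)

set_option maxRecDepth 100000 in
theorem w_2_36 : Goal' 2 36 := wit' 2 36 109 (by decide +kernel)

set_option maxRecDepth 100000 in
theorem w_2_38 : Goal' 2 38 := wit' 2 38 174763 (by decide +kernel)

set_option maxRecDepth 100000 in
theorem w_2_40 : Goal' 2 40 := wit' 2 40 61681 (by decide +kernel)

set_option maxRecDepth 100000 in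
theorem w_2_42 : Goal' 2 42 := wit' 2 42 5419 (by decide +kernel)

set_option maxRecDepth 100000 in
theorem w_2_44 : Goal' 2 44 := wit' 2 44 397 (by decide +kernel)

set_option maxRecDepth 100000 in
theorem w_2_46 : Goal' 2 46 := wit' 2 46 2796203 (by decide +kernel)

set_option maxRecDepth 100000 in
theorem w_2_48 : Goal' 2 48 := wit' 2 48 673 (by decide +kernel)

set_option maxRecDepth 100000 in
theorem w_2_50 : Goal' 2 50 := wit' 2 50 251 (by decide +kernel)

set_option maxRecDepth 100000 in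
theorem w_2_52 : Goal' 2 52 := wit' 2 52 157 (by decide +kernel)

set_option maxRecDepth 100000 in
theorem w_2_54 : Goal' 2 54 := wit' 2 54 87211 (by decide +kernel)

set_option maxRecDepth 100000 in
theorem w_2_56 : Goal' 2 56 := wit' 2 56 15790321 (by decide +kernel)

set_option maxRecDepth 100000 in
theorem w_2_60 : Goal' 2 60 := wit' 2 60 1321 (by decide +kernel)

set_option maxRecDepth 100000 in
theorem w_2_66 : Goal' 2 66 := wit' 2 66 20857 (by decide +kernel)

set_option maxRecDepth 100000 in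
theorem w_2_70 : Goal' 2 70 := wit' 2 70 281 (by decide +kernel)

set_option maxRecDepth 100000 in
theorem w_2_72 : Goal' 2 72 := wit' 2 72 433 (by decide +kernel)

set_option maxRecDepth 100000 in
theorem w_2_78 : Goal' 2 78 := wit' 2 78 22366891 (by decide +kernel)

set_option maxRecDepth 100000 in
theorem w_2_84 : Goal' 2 84 := wit' 2 84 1429 (by decide +kernel)

set_option maxRecDepth 100000 in
theorem w_2_90 : Goal' 2 90 := wit' 2 90 18837001 (by decide +kernel)

set_option maxRecDepth 100000 in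
theorem w_3_3 : Goal' 3 3 := wit' 3 3 13 (by decide +kernel)

set_option maxRecDepth 100000 in
theorem w_5_3 : Goal' 5 3 := wit' 5 3 31 (by decide +kernel)

set_option maxRecDepth 100000 in
theorem w_4_4 : Goal' 4 4 := wit' 4 4 17 (by decide +kernel)

set_option maxRecDepth 100000 in
theorem w_5_4 : Goal' 5 4 := wit' 5 4 13 (by decide +kernel)

set_option maxRecDepth 100000 in
theorem w_6_4 : Goal' 6 4 := wit' 6 4 37 (by decide +kernel)

set_option maxRecDepth 100000 in
theorem w_3_5 : Goal' 3 5 := wit' 3 5 121 (by decide +kernel)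

set_option maxRecDepth 100000 in
theorem w_6_6 : Goal' 6 6 := wit' 6 6 31 (by decide +kernel)

set_option maxRecDepth 100000 in
theorem w_7_6 : Goal' 7 6 := wit' 7 6 43 (by decide +kernel)

set_option maxRecDepth 100000 in
theorem w_8_6 : Goal' 8 6 := wit' 8 6 19 (by decide +kernel)

set_option maxRecDepth 100000 in
theorem w_9_6 : Goal' 9 6 := wit' 9 6 73 (by decide +kernel)

set_option maxRecDepth 100000 in
theorem w_3_7 : Goal' 3 7 := wit' 3 7 1093 (by decide +kernel)

set_option maxRecDepth 100000 in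
theorem w_3_8 : Goal' 3 8 := wit' 3 8 41 (by decide +kernel)

set_option maxRecDepth 100000 in
theorem w_4_8 : Goal' 4 8 := wit' 4 8 257 (by decide +kernel)

set_option maxRecDepth 100000 in
theorem w_3_9 : Goal' 3 9 := wit' 3 9 757 (by decide +kernel)

set_option maxRecDepth 100000 in
theorem w_3_10 : Goal' 3 10 := wit' 3 10 61 (by decide +kernel)

set_option maxRecDepth 100000 in
theorem w_4_10 : Goal' 4 10 := wit' 4 10 41 (by decide +kernel)

set_option maxRecDepth 100000 in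
theorem w_3_12 : Goal' 3 12 := wit' 3 12 73 (by decide +kernel)

set_option maxRecDepth 100000 in
theorem w_4_12 : Goal' 4 12 := wit' 4 12 241 (by decide +kernel)

set_option maxRecDepth 100000 in
theorem w_5_12 : Goal' 5 12 := wit' 5 12 601 (by decide +kernel)

set_option maxRecDepth 100000 in
theorem w_3_14 : Goal' 3 14 := wit' 3 14 547 (by decide +kernel)

set_option maxRecDepth 100000 in
theorem w_3_15 : Goal' 3 15 := wit' 3 15 4561 (by decide +kernel)

set_option maxRecDepth 100000 in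
theorem w_3_16 : Goal' 3 16 := wit' 3 16 193 (by decide +kernel)

set_option maxRecDepth 100000 in
theorem w_3_18 : Goal' 3 18 := wit' 3 18 703 (by decide +kernel)

set_option maxRecDepth 100000 in
theorem w_3_20 : Goal' 3 20 := wit' 3 20 1181 (by decide +kernel)

set_option maxRecDepth 100000 in
theorem w_3_24 : Goal' 3 24 := wit' 3 24 6481 (by decide +kernel)

set_option maxRecDepth 100000 in
theorem w_3_30 : Goal' 3 30 := wit' 3 30 271 (by decide +kernel)

end Cfsg.Agent.Lib.Helper3.PrimPart
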