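import Mathlib
import Cfsg.Agent.Lib.Helper3.WrCent1

set_option autoImplicit false

namespace Cfsg.Agent.Lib.Helper3
open Cfsg.Agent.Lib.Lead

section
variable {G : Type*} [Group G] [Finite G] (S : Sylow 2 G) (d : WrData ↥(S : Subgroup G))

/-- the standard quaternion subgroup of a wreathed Sylow subgroup -/
noncomputable def wrQ8 : Subgroup G := (d.q8Sub 0).map (S : Subgroup G).subtype

omit [Finite G] in
theorem wrQ8_le : wrQ8 S d ≤ S := Subgroup.map_subtype_le _

theorem wrQ8_equiv : Nonempty (↥(wrQ8 S d) ≃* QuaternionGroup 2) := by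
  obtain ⟨e⟩ := d.q8Sub_equiv 0
  exact ⟨((d.q8Sub 0).equivMapOfInjective _ (Subgroup.subtype_injective _)).symm.trans e⟩

omit [Finite G] in
include S d in
theorem two_dvd_card_of_sylow_wr : 2 ∣ Nat.card G := by
  have h1 : Nat.card ↥(S : Subgroup G) ∣ Nat.card G := Subgroup.card_subgroup_dvd_card _
  rw [d.card] at h1
  exact (dvd_pow_self 2 (by omega)).trans h1

/-- a group with wreathed Sylow `2`-subgroup and no subgroup of index two: all involutions are
conjugate, and some element of odd order centralizes the central involution of `S` and normalizes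
but does not centralize a subgroup of `S` -/
theorem wr_no_index_two_data (hG : ∀ H : Subgroup G, H.index ≠ 2) :
    (∀ t : G, orderOf t = 2 →
      IsConj t ((d.c (z2half d.n) (z2half d.n) : ↥(S : Subgroup G)) : G)) ∧
    ∃ (V : Subgroup G) (τ : G), V ≤ S ∧ (orderOf τ).Coprime 2 ∧ (∀ v ∈ V, τ * v * τ⁻¹ ∈ V) ∧
      τ * ((d.c (z2half d.n) (z2half d.n) : ↥(S : Subgroup G)) : G) =
        ((d.c (z2half d.n) (z2half d.n) : ↥(S : Subgroup G)) : G) * τ ∧
      ¬ (∀ v ∈ V, τ * v * τ⁻¹ = v) := by
  obtain ⟨eQ⟩ := wrQ8_equiv S d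
  have hQS := wrQ8_le S d
  set Q := wrQ8 S d with hQ
  rcases wr_index_U S d with h₁ | h₁
  · exfalso
    rcases wr_index_V S d Q hQS eQ with h₂ | h₂
    · obtain ⟨H, hH⟩ := exists_index_two_of_npc (wr_case_two_two S d Q hQS eQ h₁ h₂).1
        (two_dvd_card_of_sylow_wr S d)
      exact hG H hH
    · obtain ⟨K, hKn, hKi, -⟩ := wr_two_six_K S d Q hQS eQ h₁ h₂
      obtain ⟨H, hH⟩ := exists_index_two_of_normal_index_pow K d.n d.n_pos hKi
      exact hG H hH
  · rcases wr_index_V S d Q hQS eQ with h₂ | h₂
    · exfalso
      obtain ⟨⟨K, -, hKi, -⟩, -⟩ := wr_case_six_two S d Q hQS eQ h₁ h₂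
      exact hG K hKi
    · obtain ⟨hzu, -⟩ := wr_six_U S d h₁
      obtain ⟨hut, -⟩ := wr_six_V S d Q hQS eQ h₂
      constructor
      · intro t ht
        rcases wr_involution_cases S d t ht with h | h | h
        · exact h
        · exact h.trans hzu.symm
        · exact (h.trans hut.symm).trans hzu.symm
      · obtain ⟨k', hV, -⟩ := wr_V_eq S d Q hQS eQ
        set V : Subgroup G := Q ⊔ wrZ S with hVdef
        set N := Subgroup.normalizer (V : Set G) with hN
        have hVN : V ≤ N := Subgroup.le_normalizer
        have hCN : Subgroup.centralizer (V : Set G) ≤ N := Subgroup.centralizer_le_normalizer _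
        have hCn : ((V ⊔ Subgroup.centralizer (V : Set G)).subgroupOf N).Normal := by
          rw [Subgroup.subgroupOf_sup hVN hCN]
          have h1 : (V.subgroupOf N).Normal := Subgroup.normal_in_normalizer
          have h2 : ((Subgroup.centralizer (V : Set G)).subgroupOf N).Normal := by
            rw [hN, ← Subgroup.normalizerMonoidHom_ker]; infer_instance
          infer_instance
        obtain ⟨τ, hτN, hτo, hτC⟩ := exists_odd_order_not_mem _ _ hCn h₂
        refine ⟨V, τ, ?_, hτo, ?_, ?_, ?_⟩
        · exact sup_le hQS (Subgroup.map_subtype_le _)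
        · exact fun v hv => (Subgroup.mem_normalizer_iff.mp hτN v).mp hv
        · have hgZ : τ ∈ Subgroup.normalizer (wrZ S : Set G) := by
            rw [hN, hV] at hτN
            exact normalizer_wrV_le_normalizer_wrZ S d _ hτN
          have := isCyclic_wrZ S d
          have h3 := odd_centralizes_cyclic (wrZ S) d.n (card_wrZ S d) τ hgZ hτo
          have := h3 _ ((mem_wrZ_iff S d _).mpr ⟨z2half d.n, rfl⟩)
          exact this.symm
        · intro hcen
          apply hτC
          apply Subgroup.mem_sup_right
          rw [Subgroup.mem_centralizer_iff]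
          intro v hv
          have := hcen v hv
          calc v * τ = (τ * v * τ⁻¹) * τ := by rw [this]
            _ = τ * v := by group

end

end Cfsg.Agent.Lib.Helper3
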