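import Mathlib
import Cfsg.Agent.Lib.Helper3.WrCent2

set_option autoImplicit false

namespace Cfsg.Agent.Lib.Helper3
open Cfsg.Agent.Lib.Lead

section
variable {G : Type*} [Group G] (S : Sylow 2 G) (x : G)
  (hle : (S : Subgroup G) ≤ Subgroup.centralizer ({x} : Set G))

/-- the Sylow subgroup `S ≤ C_G(x)` viewed inside `C_G(x)` -/
noncomputable def centSylow : Sylow 2 ↥(Subgroup.centralizer ({x} : Set G)) := S.subtype hle

theorem coe_centSylow :
    (centSylow S x hle : Subgroup ↥(Subgroup.centralizer ({x} : Set G))) =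
      (S : Subgroup G).subgroupOf (Subgroup.centralizer ({x} : Set G)) :=
  Sylow.coe_subtype _ _

noncomputable def centSylowEquiv :
    ↥(centSylow S x hle : Subgroup ↥(Subgroup.centralizer ({x} : Set G))) ≃* ↥(S : Subgroup G) :=
  (MulEquiv.subgroupCongr (coe_centSylow S x hle)).trans (Subgroup.subgroupOfEquivOfLe hle)

theorem card_centSylow :
    Nat.card ↥(centSylow S x hle : Subgroup ↥(Subgroup.centralizer ({x} : Set G))) =
      Nat.card ↥(S : Subgroup G) :=
  Nat.card_congr (centSylowEquiv S x hle).toEquiv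

theorem mem_centSylow_iff (c : ↥(Subgroup.centralizer ({x} : Set G))) :
    c ∈ (centSylow S x hle : Subgroup ↥(Subgroup.centralizer ({x} : Set G))) ↔
      (c : G) ∈ (S : Subgroup G) := by
  rw [coe_centSylow, Subgroup.mem_subgroupOf]

end

section
variable {G : Type*} [Group G] [Finite G] (S : Sylow 2 G) (d : WrData ↥(S : Subgroup G))

/-- an odd-order element of `C_G(x)` which normalizes but does not centralize a `2`-subgroup
prevents `C_G(x)` from having a normal `2`-complement -/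
theorem not_npc_centralizer (x : G) (V : Subgroup G)
    (hVp : IsPGroup 2 ↥V) (hVC : V ≤ Subgroup.centralizer ({x} : Set G)) (τ : G)
    (hτo : (orderOf τ).Coprime 2) (hτN : ∀ v ∈ V, τ * v * τ⁻¹ ∈ V) (hτx : τ * x = x * τ)
    (hτV : ¬ ∀ v ∈ V, τ * v * τ⁻¹ = v) :
    ¬ Cfsg.HasNormalPComplement 2 ↥(Subgroup.centralizer ({x} : Set G)) := by
  intro hnpc
  apply hτV
  have hτC : τ ∈ Subgroup.centralizer ({x} : Set G) :=
    Subgroup.mem_centralizer_singleton_iff.mpr hτx
  set V' : Subgroup ↥(Subgroup.centralizer ({x} : Set G)) :=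
    V.subgroupOf (Subgroup.centralizer ({x} : Set G)) with hV'
  have hV'p : IsPGroup 2 ↥V' :=
    hVp.of_injective (Subgroup.subgroupOfEquivOfLe hVC).toMonoidHom
      (Subgroup.subgroupOfEquivOfLe hVC).injective
  have key := npc_odd_centralizes hnpc V' hV'p ⟨τ, hτC⟩ (by rw [Subgroup.orderOf_mk]; exact hτo)
    (by
      intro v hv
      rw [hV', Subgroup.mem_subgroupOf] at hv ⊢
      exact hτN _ hv)
  intro v hv
  have := key ⟨v, hVC hv⟩ (by rw [hV', Subgroup.mem_subgroupOf]; exact hv)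
  exact congrArg Subtype.val this

theorem wr_centralizer_main (x : G)
    (hx : x = ((d.c (z2half d.n) (z2half d.n) : ↥(S : Subgroup G)) : G))
    (V : Subgroup G) (hVS : V ≤ S) (τ : G) (hτo : (orderOf τ).Coprime 2)
    (hτN : ∀ v ∈ V, τ * v * τ⁻¹ ∈ V) (hτx : τ * x = x * τ)
    (hτV : ¬ ∀ v ∈ V, τ * v * τ⁻¹ = v) :
    ∃ R : Sylow 2 ↥(Subgroup.centralizer ({x} : Set G)),
      Nat.card ↥(R : Subgroup ↥(Subgroup.centralizer ({x} : Set G))) = Nat.card ↥(S : Subgroup G) ∧
      (∃ K : Subgroup ↥(Subgroup.centralizer ({x} : Set G)), K.Normal ∧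
        (∃ a : ℕ, K.index = 2 ^ a) ∧ (∀ H : Subgroup ↥K, H.index ≠ 2) ∧
        (∀ P : Sylow 2 ↥K, ∃ m : ℕ, 1 ≤ m ∧
          Nonempty ((P : Subgroup ↥K) ≃* QuaternionGroup (2 ^ m)))) ∧
      (∀ Z₀ : Subgroup ↥(Subgroup.centralizer ({x} : Set G)),
        Z₀ ≤ ((Subgroup.center (R : Subgroup ↥(Subgroup.centralizer ({x} : Set G)))).map
          (R : Subgroup ↥(Subgroup.centralizer ({x} : Set G))).subtype) →
        Cfsg.IsWeaklyClosed Z₀ (R : Subgroup ↥(Subgroup.centralizer ({x} : Set G)))) := by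
  have hle : (S : Subgroup G) ≤ Subgroup.centralizer ({x} : Set G) := by
    intro s hs
    rw [Subgroup.mem_centralizer_singleton_iff, hx]
    exact coe_chh_central S d s hs
  set R := centSylow S x hle with hR
  have hRwr : Cfsg.IsWreathed ↥(R : Subgroup ↥(Subgroup.centralizer ({x} : Set G))) :=
    isWreathed_of_equiv (centSylowEquiv S x hle).symm ((isWreathed_iff _).mpr ⟨d⟩)
  obtain ⟨d'⟩ := (isWreathed_iff _).mp hRwr
  -- the central involution
  have hxC : x ∈ Subgroup.centralizer ({x} : Set G) :=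
    Subgroup.mem_centralizer_singleton_iff.mpr rfl
  have hxS : x ∈ (S : Subgroup G) := by rw [hx]; exact Subtype.property _
  have hxR : (⟨x, hxC⟩ : ↥(Subgroup.centralizer ({x} : Set G))) ∈
      (R : Subgroup ↥(Subgroup.centralizer ({x} : Set G))) :=
    (mem_centSylow_iff S x hle _).mpr hxS
  have hxcen : ∀ c : ↥(Subgroup.centralizer ({x} : Set G)), c * ⟨x, hxC⟩ = ⟨x, hxC⟩ * c := by
    intro c
    apply Subtype.ext
    exact Subgroup.mem_centralizer_singleton_iff.mp c.2
  have hxo : orderOf x = 2 := by rw [hx]; exact orderOf_coe_chh S d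
  have hxd' : (⟨⟨x, hxC⟩, hxR⟩ : ↥(R : Subgroup ↥(Subgroup.centralizer ({x} : Set G)))) =
      d'.c (z2half d'.n) (z2half d'.n) := by
    apply d'.center_involution
    · rw [Subgroup.mem_center_iff]
      intro r
      apply Subtype.ext
      exact hxcen r
    · rw [Subgroup.orderOf_mk, Subgroup.orderOf_mk, hxo]
  have hxd'' : ((d'.c (z2half d'.n) (z2half d'.n) :
      ↥(R : Subgroup ↥(Subgroup.centralizer ({x} : Set G)))) :
      ↥(Subgroup.centralizer ({x} : Set G))) = ⟨x, hxC⟩ := by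
    rw [← hxd']
  -- `|N(U) : C(U)| = 2`
  have h₁ : (Subgroup.centralizer (wrU R d' : Set ↥(Subgroup.centralizer ({x} : Set G)))).relIndex
      (Subgroup.normalizer (wrU R d' : Set ↥(Subgroup.centralizer ({x} : Set G)))) = 2 := by
    rcases wr_index_U R d' with h | h
    · exact h
    · exfalso
      obtain ⟨hc, -⟩ := wr_six_U R d' h
      obtain ⟨g, hg⟩ := isConj_iff.mp hc
      rw [hxd'', hxcen g, mul_inv_cancel_right, ← hxd''] at hg
      have h1 := Subtype.ext_iff.mp hg
      have h2 := (d'.c_inj _ _ _ _).mp (Subtype.ext hg)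
      exact d'.half_ne_zero h2.2
  obtain ⟨eQ⟩ := wrQ8_equiv R d'
  have hQR := wrQ8_le R d'
  have hVp : IsPGroup 2 ↥V := isPGroup_of_le_sylow S V hVS
  have hnpc := not_npc_centralizer x V hVp (hVS.trans hle) τ hτo hτN hτx hτV
  rcases wr_index_V R d' (wrQ8 R d') hQR eQ with h₂ | h₂
  · exact absurd (wr_case_two_two R d' _ hQR eQ h₁ h₂).1 hnpc
  · obtain ⟨K, hKn, hKi, hKP, hKH⟩ := wr_two_six_K R d' _ hQR eQ h₁ h₂
    exact ⟨R, card_centSylow S x hle, ⟨K, hKn, ⟨d'.n, hKi⟩, hKH, hKP⟩,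
      (wr_case_two_six R d' _ hQR eQ h₁ h₂).1⟩

end

end Cfsg.Agent.Lib.Helper3
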