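import Mathlib
import Cfsg.Agent.Lib.Helper3.WrCent3

set_option autoImplicit false

namespace Cfsg.Agent.Lib.Helper3
open Cfsg.Agent.Lib.Lead

/-- a quaternion group of order eight from generators and relations -/
theorem exists_q8_of_rel {G : Type*} [Group G] [Finite G] (A X : G) (hA : orderOf A = 4)
    (hX : X * X = A * A) (hXA : X * A * X⁻¹ = A⁻¹) :
    ∃ Q : Subgroup G, A ∈ Q ∧ X ∈ Q ∧ (∀ H : Subgroup G, A ∈ H → X ∈ H → Q ≤ H) ∧
      Nonempty (↥Q ≃* QuaternionGroup 2) := by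
  set Z : Subgroup G := Subgroup.zpowers A with hZ
  have hAZ : A ∈ Z := Subgroup.mem_zpowers A
  have hXn : ∀ z ∈ Z, X * z * X⁻¹ ∈ Z := by
    rintro _ ⟨k, rfl⟩
    have : X * A ^ k * X⁻¹ = (A⁻¹) ^ k := by
      rw [← hXA, conj_zpow]
    rw [this]
    exact Z.zpow_mem (Z.inv_mem hAZ) k
  have hXA' : X⁻¹ * A * X = A⁻¹ := by
    have h1 : A = X⁻¹ * A⁻¹ * X := by rw [← hXA]; group
    calc X⁻¹ * A * X = (X⁻¹ * A⁻¹ * X)⁻¹ := by group
      _ = A⁻¹ := by rw [← h1]
  have hXn' : ∀ z ∈ Z, X⁻¹ * z * X ∈ Z := by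
    rintro _ ⟨k, rfl⟩
    have : X⁻¹ * A ^ k * X = (A⁻¹) ^ k := by
      rw [← hXA']
      have := conj_zpow (a := X⁻¹) (b := A) (i := k)
      rw [inv_inv] at this
      exact this.symm
    rw [this]
    exact Z.zpow_mem (Z.inv_mem hAZ) k
  have hX2 : X * X ∈ Z := by rw [hX]; exact Z.mul_mem hAZ hAZ
  have hX2' : X⁻¹ * X⁻¹ ∈ Z := by
    have := Z.inv_mem hX2
    rwa [mul_inv_rev] at this
  let Q : Subgroup G :=
    { carrier := {g | g ∈ Z ∨ g * X ∈ Z}
      one_mem' := Or.inl Z.one_mem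
      mul_mem' := by
        rintro g h (hg | hg) (hh | hh)
        · exact Or.inl (Z.mul_mem hg hh)
        · right
          rw [mul_assoc]; exact Z.mul_mem hg hh
        · right
          have : g * h * X = (g * X) * (X⁻¹ * h * X) := by group
          rw [this]; exact Z.mul_mem hg (hXn' h hh)
        · left
          have : g * h = (g * X) * (X⁻¹ * (h * X) * X) * (X⁻¹ * X⁻¹) := by group
          rw [this]; exact Z.mul_mem (Z.mul_mem hg (hXn' _ hh)) hX2'
      inv_mem' := by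
        rintro g (hg | hg)
        · exact Or.inl (Z.inv_mem hg)
        · right
          have : g⁻¹ * X = (X * (g * X)⁻¹ * X⁻¹) * (X * X) := by group
          rw [this]; exact Z.mul_mem (hXn _ (Z.inv_mem hg)) hX2 }
  have hmemQ : ∀ g, g ∈ Q ↔ g ∈ Z ∨ g * X ∈ Z := fun g => Iff.rfl
  have hAQ : A ∈ Q := Or.inl hAZ
  have hXQ : X ∈ Q := Or.inr hX2
  have hZQ : Z ≤ Q := fun g hg => Or.inl hg
  have hXZ : X ∉ Z := by
    intro hXmem
    obtain ⟨k, hk⟩ := hXmem
    have hcomm : X * A = A * X := by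
      rw [← hk]
      exact (Commute.zpow_left (Commute.refl A) k).eq
    have h1 : A = A⁻¹ := by
      rw [← hXA, hcomm, mul_inv_cancel_right]
    have h2 : A ^ 2 = 1 := by
      rw [pow_two]
      nth_rewrite 2 [h1]
      exact mul_inv_cancel A
    have := orderOf_dvd_of_pow_eq_one h2
    rw [hA] at this
    norm_num at this
  have hidx : Z.relIndex Q = 2 := by
    rw [Subgroup.relIndex_eq_two_iff]
    refine ⟨X, hXQ, ?_⟩
    intro b hb
    rcases hb with hb | hb
    · right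
      refine ⟨hb, ?_⟩
      intro hbX
      apply hXZ
      have : X = b⁻¹ * (b * X) := by group
      rw [this]; exact Z.mul_mem (Z.inv_mem hb) hbX
    · left
      refine ⟨hb, ?_⟩
      intro hb'
      apply hXZ
      have : X = b⁻¹ * (b * X) := by group
      rw [this]; exact Z.mul_mem (Z.inv_mem hb') hb
  have hcardZ : Nat.card ↥Z = 4 := by rw [hZ, Nat.card_zpowers, hA]
  have hcardQ : Nat.card ↥Q = 8 := by
    rw [card_eq_card_mul_relIndex hZQ, hcardZ, hidx]
  refine ⟨Q, hAQ, hXQ, ?_, ?_⟩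
  · intro H hAH hXH g hg
    have hZH : Z ≤ H := by rw [hZ, Subgroup.zpowers_le]; exact hAH
    rcases hg with hg | hg
    · exact hZH hg
    · have : g = (g * X) * X⁻¹ := by group
      rw [this]; exact H.mul_mem (hZH hg) (H.inv_mem hXH)
  · apply quaternion_recognition 2 (⟨A, hAQ⟩ : ↥Q) ⟨X, hXQ⟩
    · rw [Subgroup.orderOf_mk, hA]
    · apply Subtype.ext
      simp only [pow_two]
      exact hX
    · apply Subtype.ext
      simp only [Subgroup.coe_mul, Subgroup.coe_inv]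
      exact hXA
    · rintro ⟨k, hk⟩
      apply hXZ
      refine ⟨k, ?_⟩
      have := congrArg Subtype.val hk
      simpa using this
    · rw [hcardQ]


section
variable {G : Type*} [Group G] [Finite G] (S : Sylow 2 G) (d : QDData ↥(S : Subgroup G))

omit [Finite G] in
theorem qd_coe_zz_sq : ((d.zz : ↥(S : Subgroup G)) : G) * ((d.zz : ↥(S : Subgroup G)) : G) = 1 := by
  rw [← Subgroup.coe_mul, d.zz_mul_zz, Subgroup.coe_one]

omit [Finite G] in
theorem qd_coe_b0_sq : ((d.b 0 : ↥(S : Subgroup G)) : G) * ((d.b 0 : ↥(S : Subgroup G)) : G) = 1 := by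
  have := d.b_even_sq 0
  rw [mul_zero] at this
  rw [← Subgroup.coe_mul, this, Subgroup.coe_one]

omit [Finite G] in
theorem qd_coe_zz_b0_comm : ((d.zz : ↥(S : Subgroup G)) : G) * ((d.b 0 : ↥(S : Subgroup G)) : G) =
    ((d.b 0 : ↥(S : Subgroup G)) : G) * ((d.zz : ↥(S : Subgroup G)) : G) := by
  rw [← Subgroup.coe_mul, ← Subgroup.coe_mul, d.zz_central]

/-- the standard four-subgroup of a quasi-dihedral Sylow subgroup -/
noncomputable def qdT : Subgroup G :=
  kleinOf _ _ (qd_coe_zz_sq S d) (qd_coe_b0_sq S d) (qd_coe_zz_b0_comm S d)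

omit [Finite G] in
theorem isKleinFour_qdT : IsKleinFour ↥(qdT S d) := by
  apply isKleinFour_kleinOf
  · intro h
    apply d.zz_ne_one
    apply Subtype.ext
    rw [h, Subgroup.coe_one]
  · intro h
    apply d.b_ne_one 0
    apply Subtype.ext
    rw [h, Subgroup.coe_one]
  · intro h
    have h1 : d.zz = d.b 0 := Subtype.ext h
    exact d.a_ne_b _ _ h1

omit [Finite G] in
theorem qdT_le : qdT S d ≤ S := by
  intro g hg
  rcases (mem_kleinOf _ _ _ _ _ g).mp hg with rfl | rfl | rfl | rfl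
  · exact Subgroup.one_mem _
  · exact Subtype.property _
  · exact Subtype.property _
  · exact Subgroup.mul_mem _ (Subtype.property _) (Subtype.property _)

end


section
variable {G : Type*} [Group G] [Finite G] (S : Sylow 2 G) (d : QDData ↥(S : Subgroup G))

include d in
/-- a quaternion subgroup of order eight of a quasi-dihedral Sylow subgroup -/
theorem qd_exists_q8 : ∃ Q : Subgroup G, Q ≤ S ∧ Nonempty (↥Q ≃* QuaternionGroup 2) := by
  have hA : orderOf ((d.qq : ↥(S : Subgroup G)) : G) = 4 := by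
    rw [Subgroup.orderOf_coe]; exact (d.orderOf_eq_four_iff _).mpr (Or.inl rfl)
  have hb1 : d.b 1 * d.b 1 = d.zz := by
    have := d.b_odd_sq 0
    rwa [mul_zero, zero_add] at this
  have hX : ((d.b 1 : ↥(S : Subgroup G)) : G) * ((d.b 1 : ↥(S : Subgroup G)) : G) =
      ((d.qq : ↥(S : Subgroup G)) : G) * ((d.qq : ↥(S : Subgroup G)) : G) := by
    rw [← Subgroup.coe_mul, ← Subgroup.coe_mul, hb1, d.qq_mul_qq]
  have hXA : ((d.b 1 : ↥(S : Subgroup G)) : G) * ((d.qq : ↥(S : Subgroup G)) : G) *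
      ((d.b 1 : ↥(S : Subgroup G)) : G)⁻¹ = ((d.qq : ↥(S : Subgroup G)) : G)⁻¹ := by
    rw [← Subgroup.coe_inv, ← Subgroup.coe_mul, ← Subgroup.coe_mul, ← Subgroup.coe_inv]
    congr 1
    unfold QDData.qq
    rw [d.b_conj_a, d.kk_mul_quarter, d.a_neg]
  obtain ⟨Q, hAQ, hXQ, hmin, hQ⟩ := exists_q8_of_rel _ _ hA hX hXA
  exact ⟨Q, hmin _ (Subtype.property _) (Subtype.property _), hQ⟩

omit [Finite G] in
include S d in
theorem two_dvd_card_of_sylow_qd : 2 ∣ Nat.card G := by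
  have h1 : Nat.card ↥(S : Subgroup G) ∣ Nat.card G := Subgroup.card_subgroup_dvd_card _
  rw [d.card] at h1
  exact (dvd_pow_self 2 (by omega)).trans h1

/-- no fusion of involutions and of elements of order four: normal `2`-complement -/
theorem qd_npc_of_not_conj
    (nf1 : ¬ IsConj ((d.zz : ↥(S : Subgroup G)) : G) ((d.b 0 : ↥(S : Subgroup G)) : G))
    (nf2 : ¬ IsConj ((d.qq : ↥(S : Subgroup G)) : G) ((d.b 1 : ↥(S : Subgroup G)) : G)) :
    Cfsg.HasNormalPComplement 2 G := by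
  obtain ⟨M₁, hM₁n, hM₁i, hM₁b⟩ := qd_exists_index_two_of_not_conj_inv S d nf1
  obtain ⟨M₂, hM₂n, hM₂i, hM₂b⟩ := qd_exists_index_two_of_not_conj_four S d nf2
  have : (M₁ ⊓ M₂).Normal := Subgroup.normal_inf_normal M₁ M₂
  have hidx : ∃ k, (M₁ ⊓ M₂).index = 2 ^ k := by
    have h1 := Subgroup.relIndex_inf_mul_relIndex M₁ M₂ ⊤
    rw [Subgroup.relIndex_top_right, Subgroup.relIndex_top_right, inf_top_eq, hM₂i] at h1
    have h2 : M₁.relIndex M₂ ∣ 2 := by
      have := Subgroup.relIndex_dvd_index_of_normal M₁ M₂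
      rwa [hM₁i] at this
    rcases (Nat.dvd_prime Nat.prime_two).mp h2 with h3 | h3
    · exact ⟨1, by rw [← h1, h3]; norm_num⟩
    · exact ⟨2, by rw [← h1, h3]; norm_num⟩
  obtain ⟨k, hk⟩ := hidx
  have hb : ∀ i, ((d.b i : ↥(S : Subgroup G)) : G) ∉ M₁ ⊓ M₂ := by
    intro i hmem
    obtain ⟨j, hj | hj⟩ := z2_parity d.n i
    · apply hM₁b
      have hc := qd_isConj_b_even S d j 0
      rw [mul_zero, ← hj] at hc
      exact isConj_mem_normal M₁ _ _ hc hmem.1
    · apply hM₂b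
      have hc := qd_isConj_b_odd S d j 0
      rw [mul_zero, zero_add, ← hj] at hc
      exact isConj_mem_normal M₂ _ _ hc hmem.2
  obtain ⟨P⟩ : Nonempty (Sylow 2 ↥(M₁ ⊓ M₂)) := inferInstance
  exact hasNormalPComplement_two_of_normal_cyclic (M₁ ⊓ M₂) k hk P
    (qd_cyclic_sylow_of_no_b S d (M₁ ⊓ M₂) hb P)

end

end Cfsg.Agent.Lib.Helper3
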