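import Mathlib
import Cfsg.Agent.Lib.Helper3.WrCent4

set_option autoImplicit false

namespace Cfsg.Agent.Lib.Helper3
open Cfsg.Agent.Lib.Lead

section
variable {G : Type*} [Group G] [Finite G] (S : Sylow 2 G) (d : QDData ↥(S : Subgroup G))

/-- a group with quasi-dihedral Sylow `2`-subgroup and no subgroup of index two: all involutions
are conjugate, and some element of odd order centralizes the central involution of `S` and
normalizes but does not centralize a subgroup of `S` -/
theorem qd_no_index_two_data (hG : ∀ H : Subgroup G, H.index ≠ 2) :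
    (∀ t : G, orderOf t = 2 → IsConj t ((d.zz : ↥(S : Subgroup G)) : G)) ∧
    ∃ (V : Subgroup G) (τ : G), V ≤ S ∧ (orderOf τ).Coprime 2 ∧ (∀ v ∈ V, τ * v * τ⁻¹ ∈ V) ∧
      τ * ((d.zz : ↥(S : Subgroup G)) : G) = ((d.zz : ↥(S : Subgroup G)) : G) * τ ∧
      ¬ (∀ v ∈ V, τ * v * τ⁻¹ = v) := by
  obtain ⟨Q, hQS, ⟨eQ⟩⟩ := qd_exists_q8 S d
  have hT := isKleinFour_qdT S d
  have hTS := qdT_le S d
  rcases qd_klein_index (S : Subgroup G) d (qdT S d) hT hTS with h₁ | h₁
  · exfalso
    have nf1 := qd_not_conj_zz_b_of_two S d _ hT hTS h₁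
    obtain ⟨M, -, hMi, -⟩ := qd_exists_index_two_of_not_conj_inv S d nf1
    exact hG M hMi
  rcases qd_q8_index (S : Subgroup G) d Q hQS eQ with h₂ | h₂
  · exfalso
    have nf2 := qd_not_conj_qq_b_of_two S d Q hQS eQ h₂
    obtain ⟨M, -, hMi, -⟩ := qd_exists_index_two_of_not_conj_four S d nf2
    exact hG M hMi
  have hinv := qd_zz_conj_b_of_six S d _ hT hTS h₁
  constructor
  · intro t ht
    rcases qd_involution_cases S d t ht with h | h
    · exact h
    · exact h.trans hinv.symm
  · have hCn : ((Q ⊔ Subgroup.centralizer (Q : Set G)).subgroupOf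
        (Subgroup.normalizer (Q : Set G))).Normal := by
      rw [← q8_ker_ordFour Q eQ]; exact MonoidHom.normal_ker _
    obtain ⟨τ, hτN, hτo, hτK⟩ := exists_odd_order_not_mem _ _ hCn h₂
    have hτQ : ∀ v ∈ Q, τ * v * τ⁻¹ ∈ Q :=
      fun v hv => (Subgroup.mem_normalizer_iff.mp hτN v).mp hv
    refine ⟨Q, τ, hQS, hτo, hτQ, ?_, ?_⟩
    · -- `zz` is the unique involution of `Q`
      let e' : ↥(Q.subgroupOf S) ≃* QuaternionGroup 2 := (Subgroup.subgroupOfEquivOfLe hQS).trans eQ
      have hqQ : ((d.qq : ↥(S : Subgroup G)) : G) ∈ Q := by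
        have := d.q8_qq_mem _ e'
        exact Subgroup.mem_subgroupOf.mp this
      have hzQ : ((d.zz : ↥(S : Subgroup G)) : G) ∈ Q := by
        rw [← d.qq_mul_qq, Subgroup.coe_mul]; exact Q.mul_mem hqQ hqQ
      obtain ⟨z, hz⟩ := q8_sub_sq_eq_one Q eQ
      have hz1 : ((d.zz : ↥(S : Subgroup G)) : G) ≠ 1 := by
        intro h
        apply d.zz_ne_one
        apply Subtype.ext
        rw [h, Subgroup.coe_one]
      have hzz : ((d.zz : ↥(S : Subgroup G)) : G) = z := by
        rcases hz _ hzQ (by rw [pow_two]; exact qd_coe_zz_sq S d) with h | h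
        · exact absurd h hz1
        · exact h
      have h2 : (τ * ((d.zz : ↥(S : Subgroup G)) : G) * τ⁻¹) ^ 2 = 1 := by
        rw [pow_two]
        have : τ * ((d.zz : ↥(S : Subgroup G)) : G) * τ⁻¹ *
            (τ * ((d.zz : ↥(S : Subgroup G)) : G) * τ⁻¹) =
            τ * (((d.zz : ↥(S : Subgroup G)) : G) * ((d.zz : ↥(S : Subgroup G)) : G)) * τ⁻¹ := by
          group
        rw [this, qd_coe_zz_sq S d]; group
      rcases hz _ (hτQ _ hzQ) h2 with h | h
      · exfalso
        apply hz1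
        have : ((d.zz : ↥(S : Subgroup G)) : G) = τ⁻¹ * (τ * ((d.zz : ↥(S : Subgroup G)) : G) * τ⁻¹) * τ := by
          group
        rw [this, h]; group
      · rw [← hzz] at h
        calc τ * ((d.zz : ↥(S : Subgroup G)) : G) = (τ * ((d.zz : ↥(S : Subgroup G)) : G) * τ⁻¹) * τ := by
              group
          _ = ((d.zz : ↥(S : Subgroup G)) : G) * τ := by rw [h]
    · intro hcen
      apply hτK
      apply Subgroup.mem_sup_right
      rw [Subgroup.mem_centralizer_iff]
      intro v hv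
      have := hcen v hv
      calc v * τ = (τ * v * τ⁻¹) * τ := by rw [this]
        _ = τ * v := by group

end


open Cfsg.Agent.Lib.Lead

namespace QDData
variable {S : Type*} [Group S] (d : QDData S)

/-- the centre of a quasi-dihedral group is `{1, zz}` -/
theorem mem_center_cases (g : S) (hg : g ∈ Subgroup.center S) : g = 1 ∨ g = d.zz := by
  rw [d.center_eq] at hg
  obtain ⟨k, rfl⟩ := hg
  rcases Int.even_or_odd k with ⟨m, rfl⟩ | ⟨m, rfl⟩
  · left
    show d.zz ^ (m + m) = 1
    rw [← two_mul, zpow_mul, zpow_two, d.zz_mul_zz, one_zpow]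
  · right
    show d.zz ^ (2 * m + 1) = d.zz
    rw [zpow_add, zpow_one, zpow_mul, zpow_two, d.zz_mul_zz, one_zpow, one_mul]

end QDData


open Cfsg.Agent.Lib.Lead

section
variable {G : Type*} [Group G] [Finite G] (S : Sylow 2 G) (d : QDData ↥(S : Subgroup G))

theorem qd_centralizer_main (x : G)
    (hx : x = ((d.zz : ↥(S : Subgroup G)) : G))
    (V : Subgroup G) (hVS : V ≤ S) (τ : G) (hτo : (orderOf τ).Coprime 2)
    (hτN : ∀ v ∈ V, τ * v * τ⁻¹ ∈ V) (hτx : τ * x = x * τ)
    (hτV : ¬ ∀ v ∈ V, τ * v * τ⁻¹ = v) :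
    ∃ R : Sylow 2 ↥(Subgroup.centralizer ({x} : Set G)),
      Nat.card ↥(R : Subgroup ↥(Subgroup.centralizer ({x} : Set G))) = Nat.card ↥(S : Subgroup G) ∧
      (∃ K : Subgroup ↥(Subgroup.centralizer ({x} : Set G)), K.Normal ∧
        (∃ a : ℕ, K.index = 2 ^ a) ∧ (∀ H : Subgroup ↥K, H.index ≠ 2) ∧
        (∀ P : Sylow 2 ↥K, ∃ m : ℕ, 1 ≤ m ∧
          Nonempty ((P : Subgroup ↥K) ≃* QuaternionGroup (2 ^ m)))) ∧
      (∀ Z₀ : Subgroup ↥(Subgroup.centralizer ({x} : Set G)),
        Z₀ ≤ ((Subgroup.center (R : Subgroup ↥(Subgroup.centralizer ({x} : Set G)))).map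
          (R : Subgroup ↥(Subgroup.centralizer ({x} : Set G))).subtype) →
        Cfsg.IsWeaklyClosed Z₀ (R : Subgroup ↥(Subgroup.centralizer ({x} : Set G)))) := by
  have hle : (S : Subgroup G) ≤ Subgroup.centralizer ({x} : Set G) := by
    intro s hs
    rw [Subgroup.mem_centralizer_singleton_iff, hx]
    have := d.zz_central ⟨s, hs⟩
    exact (congrArg Subtype.val this).symm
  set R := centSylow S x hle with hR
  have hRqd : Cfsg.IsQuasiDihedral ↥(R : Subgroup ↥(Subgroup.centralizer ({x} : Set G))) :=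
    isQuasiDihedral_of_equiv (centSylowEquiv S x hle).symm ((isQuasiDihedral_iff _).mpr ⟨d⟩)
  obtain ⟨d'⟩ := (isQuasiDihedral_iff _).mp hRqd
  -- the central involution
  have hxC : x ∈ Subgroup.centralizer ({x} : Set G) :=
    Subgroup.mem_centralizer_singleton_iff.mpr rfl
  have hxS : x ∈ (S : Subgroup G) := by rw [hx]; exact Subtype.property _
  have hxR : (⟨x, hxC⟩ : ↥(Subgroup.centralizer ({x} : Set G))) ∈
      (R : Subgroup ↥(Subgroup.centralizer ({x} : Set G))) :=
    (mem_centSylow_iff S x hle _).mpr hxS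
  have hxcen : ∀ c : ↥(Subgroup.centralizer ({x} : Set G)), c * ⟨x, hxC⟩ = ⟨x, hxC⟩ * c := by
    intro c
    apply Subtype.ext
    exact Subgroup.mem_centralizer_singleton_iff.mp c.2
  have hx1 : x ≠ 1 := by
    rw [hx]
    intro h
    apply d.zz_ne_one
    apply Subtype.ext
    rw [h, Subgroup.coe_one]
  have hxd' : (⟨⟨x, hxC⟩, hxR⟩ : ↥(R : Subgroup ↥(Subgroup.centralizer ({x} : Set G)))) =
      d'.zz := by
    have hc : (⟨⟨x, hxC⟩, hxR⟩ : ↥(R : Subgroup ↥(Subgroup.centralizer ({x} : Set G)))) ∈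
        Subgroup.center ↥(R : Subgroup ↥(Subgroup.centralizer ({x} : Set G))) := by
      rw [Subgroup.mem_center_iff]
      intro r
      apply Subtype.ext
      exact hxcen r
    rcases d'.mem_center_cases _ hc with h | h
    · exfalso
      apply hx1
      have := congrArg (fun r : ↥(R : Subgroup ↥(Subgroup.centralizer ({x} : Set G))) =>
        ((r : ↥(Subgroup.centralizer ({x} : Set G))) : G)) h
      exact this
    · exact h
  have hxd'' : ((d'.zz : ↥(R : Subgroup ↥(Subgroup.centralizer ({x} : Set G)))) :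
      ↥(Subgroup.centralizer ({x} : Set G))) = ⟨x, hxC⟩ := by
    rw [← hxd']
  -- no fusion of involutions
  have nf1 : ¬ IsConj ((d'.zz : ↥(R : Subgroup ↥(Subgroup.centralizer ({x} : Set G)))) :
      ↥(Subgroup.centralizer ({x} : Set G)))
      ((d'.b 0 : ↥(R : Subgroup ↥(Subgroup.centralizer ({x} : Set G)))) :
        ↥(Subgroup.centralizer ({x} : Set G))) := by
    intro hc
    obtain ⟨g, hg⟩ := isConj_iff.mp hc
    rw [hxd'', hxcen g, mul_inv_cancel_right, ← hxd''] at hg
    exact d'.a_ne_b _ _ (Subtype.ext hg)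
  obtain ⟨Q, hQR, ⟨eQ⟩⟩ := qd_exists_q8 R d'
  have hVp : IsPGroup 2 ↥V := isPGroup_of_le_sylow S V hVS
  have hnpc := not_npc_centralizer x V hVp (hVS.trans hle) τ hτo hτN hτx hτV
  rcases qd_q8_index (R : Subgroup ↥(Subgroup.centralizer ({x} : Set G))) d' Q hQR eQ with h₂ | h₂
  · exfalso
    have nf2 := qd_not_conj_qq_b_of_two R d' Q hQR eQ h₂
    exact hnpc (qd_npc_of_not_conj R d' nf1 nf2)
  · have hfour := qd_qq_conj_b_of_six R d' Q hQR eQ h₂
    refine ⟨R, card_centSylow S x hle, ?_, ?_⟩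
    · obtain ⟨K, hKn, hKi, -⟩ := qd_exists_index_two_of_not_conj_inv R d' nf1
      have hleK := qd_subQ_le_of_index_two R d' K hKi hfour
      have hcard : Nat.card ↥(d'.subQ.map
          (R : Subgroup ↥(Subgroup.centralizer ({x} : Set G))).subtype) * 2 =
          Nat.card ↥(R : Subgroup ↥(Subgroup.centralizer ({x} : Set G))) := by
        rw [Subgroup.card_map_of_injective
          (R : Subgroup ↥(Subgroup.centralizer ({x} : Set G))).subtype_injective,
          d'.card_subQ, d'.card, pow_succ]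
      refine ⟨K, hKn, ⟨1, by rw [hKi, pow_one]⟩, ?_, ?_⟩
      · obtain ⟨w, hwO, hwo⟩ := qd_exists_four_mem_pResidual R d' Q hQR eQ h₂
        have hO : (Cfsg.pResidual 2 ↥(Subgroup.centralizer ({x} : Set G))).Normal :=
          pResidual_normal 2
        have hle' := qd_subQ_le_normal_of_four R d'
          (Cfsg.pResidual 2 ↥(Subgroup.centralizer ({x} : Set G))) w hwO hwo hfour
        exact no_index_two_of_le_pResidual K hKi R _ hle' hcard
      · intro P
        obtain ⟨e1⟩ := sylow_equiv_of_le_of_card K hKi R _ hleK hcard P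
        obtain ⟨e2⟩ := d'.subQ_equiv
        refine ⟨d'.n - 2, by have := d'.hn; omega, ⟨e1.trans
          ((Subgroup.equivMapOfInjective _ _
            (R : Subgroup ↥(Subgroup.centralizer ({x} : Set G))).subtype_injective).symm.trans e2)⟩⟩
    · -- subgroups of the centre are centralized by `C_G(x)`
      intro Z₀ hZ₀
      have hfix : ∀ z ∈ Z₀, ∀ g : ↥(Subgroup.centralizer ({x} : Set G)), g * z * g⁻¹ = z := by
        intro z hz g
        obtain ⟨r, hr, rfl⟩ := hZ₀ hz
        rcases d'.mem_center_cases r hr with h | h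
        · rw [h]; simp
        · rw [h]
          show g * ((d'.zz : ↥(R : Subgroup ↥(Subgroup.centralizer ({x} : Set G)))) :
            ↥(Subgroup.centralizer ({x} : Set G))) * g⁻¹ = _
          rw [hxd'', hxcen g, mul_inv_cancel_right]
          exact hxd''.symm
      refine ⟨hZ₀.trans (Subgroup.map_subtype_le _), ?_⟩
      intro g _
      ext y
      constructor
      · rintro ⟨z, hz, rfl⟩
        show g * z * g⁻¹ ∈ Z₀
        rw [hfix z hz g]; exact hz
      · intro hy
        exact ⟨y, hy, hfix y hy g⟩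

end

end Cfsg.Agent.Lib.Helper3
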