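import Mathlib
import Cfsg.Agent.Lib.Helper3.WrCent5
import Cfsg.Agent.Lib.Helper3.WrFus22
import Cfsg.Agent.Lib.Helper3.WrFus20
import Cfsg.Agent.Lib.Helper3.Isolated2
import Cfsg.Agent.Lib.Helper3.Di8

set_option autoImplicit false

/-!
Groups with quasi-dihedral or wreathed Sylow `2`-subgroups having an isolated involution:
`O(X) Z(S)` is a normal subgroup.
-/

namespace Cfsg.Agent.Lib.Helper3
open Cfsg.Agent.Lib.Lead

section
variable {X : Type*} [Group X]

/-- if `X = O C_X(Z)` with `O` normal, then `O Z` is normal -/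
theorem normal_sup_of_factor (O Z : Subgroup X) [hO : O.Normal]
    (h : ∀ g : X, ∃ o ∈ O, ∃ c ∈ Subgroup.centralizer (Z : Set X), g = o * c) : (O ⊔ Z).Normal := by
  have key : ∀ g : X, (O ⊔ Z).map (MulAut.conj g).toMonoidHom ≤ O ⊔ Z := by
    intro g
    rw [Subgroup.map_sup]
    refine sup_le ?_ ?_
    · rintro _ ⟨o, ho, rfl⟩
      exact Subgroup.mem_sup_left (hO.conj_mem o ho g)
    · rintro _ ⟨z, hz, rfl⟩
      obtain ⟨o, ho, c, hc, rfl⟩ := h g
      show o * c * z * (o * c)⁻¹ ∈ O ⊔ Z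
      have hcz : c * z * c⁻¹ = z := by
        have := (Subgroup.mem_centralizer_iff.mp hc) z hz
        rw [← this]; group
      have e : o * c * z * (o * c)⁻¹ = (o * (z * o⁻¹ * z⁻¹)) * z := by
        calc o * c * z * (o * c)⁻¹ = o * (c * z * c⁻¹) * o⁻¹ := by group
          _ = o * z * o⁻¹ := by rw [hcz]
          _ = (o * (z * o⁻¹ * z⁻¹)) * z := by group
      rw [e]
      exact Subgroup.mul_mem _ (Subgroup.mem_sup_left (O.mul_mem ho (hO.conj_mem o⁻¹ (O.inv_mem ho) z)))
        (Subgroup.mem_sup_right hz)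
  constructor
  intro n hn g
  exact key g ⟨n, hn, rfl⟩

end

section
variable {X : Type*} [Group X] [Finite X]

/-- with a normal `2`-complement, `O(X) Z(S)` is normal -/
theorem normal_core_sup_center_of_npc (h : Cfsg.HasNormalPComplement 2 X) (S : Sylow 2 X) :
    (Cfsg.oddCore X ⊔ (Subgroup.center (S : Subgroup X)).map (S : Subgroup X).subtype).Normal := by
  obtain ⟨K, hKn, hKc, hdec⟩ := npc_decomp h S
  apply normal_sup_of_factor
  intro g
  obtain ⟨k, hk, s, hs, rfl⟩ := hdec g
  refine ⟨k, ?_, s, ?_, rfl⟩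
  · have : K ≤ Cfsg.oddCore X := le_sSup ⟨hKn, hKc⟩
    exact this hk
  · rw [Subgroup.mem_centralizer_iff]
    rintro _ ⟨z, hz, rfl⟩
    have := Subgroup.mem_center_iff.mp hz ⟨s, hs⟩
    have h2 := congrArg Subtype.val this
    simp only [Subgroup.coe_mul] at h2
    exact h2.symm

/-- the decomposition `X = O(X) C_X(Z(S))` gives normality of `O(X) Z(S)` -/
theorem normal_core_sup_center_of_decomp (S : Sylow 2 X)
    (h : ∀ g : X, ∃ o ∈ Cfsg.oddCore X, ∃ c ∈ Subgroup.centralizer
      (((Subgroup.center (S : Subgroup X)).map (S : Subgroup X).subtype : Subgroup X) : Set X), g = o * c) :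
    (Cfsg.oddCore X ⊔ (Subgroup.center (S : Subgroup X)).map (S : Subgroup X).subtype).Normal :=
  normal_sup_of_factor _ _ h

end

end Cfsg.Agent.Lib.Helper3
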