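import Mathlib
import Cfsg.Agent.Lib.Helper3.PComp1
import Cfsg.Agent.Lib.Helper3.WrCent5
import Cfsg.Agent.Lib.Helper3.Wr10
import Cfsg.Agent.Lib.Helper3.Basic
import Cfsg.Agent.Lib.Helper6.Modular2
import Cfsg.Agent.Lib.Lead.Nilpotent

set_option autoImplicit false

/-!
Groups with quasi-dihedral or wreathed Sylow `2`-subgroups, no subgroup of index two and trivial
odd core: the normal closure of an involution is a non-abelian simple normal subgroup of odd index.
-/

namespace Cfsg.Agent.Lib.Helper3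
open Cfsg.Agent.Lib.Lead

/-- a hom on a quasi-dihedral group killing the involutions has cyclic image generated by the
image of `x` -/
theorem QDData.map_eq_pow {S H : Type*} [Group S] [Group H] (d : QDData S) (f : S →* H)
    (hf : ∀ t : S, orderOf t = 2 → f t = 1) (s : S) : ∃ k : ℕ, f s = f d.x ^ k := by
  have ha : ∀ i, f (d.a i) = f d.x ^ i.val := by
    intro i
    have h1 : d.a i = d.x ^ i.val := by
      have := d.a_natCast i.val
      rwa [ZMod.natCast_zmod_val] at this
    rw [h1, map_pow]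
  rcases d.cases s with ⟨i, rfl⟩ | ⟨i, rfl⟩
  · exact ⟨i.val, ha i⟩
  · refine ⟨i.val, ?_⟩
    unfold QDData.b
    rw [map_mul, hf d.y d.hy, mul_one, ha]

/-- a hom on a wreathed group killing the involutions has cyclic image generated by the
image of `x` -/
theorem WrData.map_eq_pow {S H : Type*} [Group S] [Group H] (d : WrData S) (f : S →* H)
    (hf : ∀ t : S, orderOf t = 2 → f t = 1) (s : S) : ∃ k : ℕ, f s = f d.x ^ k := by
  have hz : f d.z = 1 := hf d.z d.hz
  have he : f (d.e 1 (-1)) = 1 :=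
    hf _ ((d.orderOf_eq_two_iff _).mpr (Or.inr (Or.inr (Or.inr ⟨1, rfl⟩))))
  have hxy : f d.y = f d.x := by
    unfold WrData.e WrData.c at he
    rw [map_mul, hz, mul_one, map_mul, d.ax_one, d.ay_neg, d.ay_one, map_inv] at he
    exact (mul_inv_eq_one.mp he).symm
  have hc : ∀ i j, f (d.c i j) = f d.x ^ (i.val + j.val) := by
    intro i j
    unfold WrData.c
    rw [map_mul, d.ax_eq_pow, d.ay_eq_pow, map_pow, map_pow, hxy, pow_add]
  rcases d.cases s with ⟨i, j, rfl⟩ | ⟨i, j, rfl⟩
  · exact ⟨_, hc i j⟩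
  · refine ⟨i.val + j.val, ?_⟩
    unfold WrData.e
    rw [map_mul, hz, mul_one, hc]

section
variable {G : Type*} [Group G] [Finite G]

/-- the Frattini argument for a Sylow subgroup contained in a normal subgroup -/
theorem frattini_of_sylow_le {p : ℕ} [Fact p.Prime] (S : Sylow p G) (N : Subgroup G) [N.Normal]
    (hSN : (S : Subgroup G) ≤ N) (g : G) :
    ∃ n ∈ N, ∃ h ∈ Subgroup.normalizer ((S : Subgroup G) : Set G), g = n * h := by
  have hF := Sylow.normalizer_sup_eq_top (S.subtype hSN)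
  rw [Sylow.coe_subtype, Subgroup.subgroupOf_map_subtype, inf_eq_left.mpr hSN] at hF
  have hg : g ∈ Subgroup.normalizer ((S : Subgroup G) : Set G) ⊔ N := by rw [hF]; trivial
  obtain ⟨y, hy, z, hz, rfl⟩ := Subgroup.mem_sup_of_normal_right.mp hg
  exact ⟨y * z * y⁻¹, ‹N.Normal›.conj_mem z hz y, y, hy, by group⟩

/-- structural data for a quasi-dihedral or wreathed Sylow `2`-subgroup of a group without
subgroups of index two -/
theorem qdwr_struct (S : Sylow 2 G)
    (hS : Cfsg.IsQuasiDihedral (S : Subgroup G) ∨ Cfsg.IsWreathed (S : Subgroup G))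
    (hG : ∀ H : Subgroup G, H.index ≠ 2) :
    ∃ z₀ g₀ : G, z₀ ∈ (S : Subgroup G) ∧ g₀ ∈ (S : Subgroup G) ∧ orderOf z₀ = 2 ∧
      (∀ t : G, orderOf t = 2 → IsConj t z₀) ∧
      (∀ s ∈ (S : Subgroup G), z₀ * s = s * z₀) ∧
      (∀ c : ↥(S : Subgroup G), c ∈ Subgroup.center ↥(S : Subgroup G) → orderOf c = 2 →
        (c : G) = z₀) ∧
      (∃ p q : ↥(S : Subgroup G), p * q ≠ q * p) ∧
      (∀ (N : Subgroup G) [N.Normal], (∀ t : G, orderOf t = 2 → t ∈ N) →
        ∀ s ∈ (S : Subgroup G), ∃ k : ℕ,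
          (QuotientGroup.mk' N) s = (QuotientGroup.mk' N) g₀ ^ k) := by
  rcases hS with hQD | hWr
  · obtain ⟨d⟩ := (isQuasiDihedral_iff _).mp hQD
    refine ⟨((d.zz : ↥(S : Subgroup G)) : G), ((d.x : ↥(S : Subgroup G)) : G), (d.zz).2, (d.x).2,
      ?_, (qd_no_index_two_data S d hG).1, ?_, ?_, ?_, ?_⟩
    · rw [Subgroup.orderOf_coe]; exact d.orderOf_zz
    · intro s hs
      exact congrArg Subtype.val (d.zz_central ⟨s, hs⟩)
    · intro c hc hc2
      rcases d.mem_center_cases c hc with h | h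
      · rw [h, orderOf_one] at hc2; omega
      · rw [h]
    · by_contra hcon
      push Not at hcon
      have hy : d.y ∈ Subgroup.center ↥(S : Subgroup G) := by
        rw [Subgroup.mem_center_iff]; intro g; exact hcon g d.y
      rcases d.mem_center_cases d.y hy with h | h
      · exact d.y_ne_one h
      · apply d.y_not_mem
        rw [h]; exact d.a_mem_zpowers _
    · intro N hN hinv s hs
      let f : ↥(S : Subgroup G) →* G ⧸ N := (QuotientGroup.mk' N).comp (S : Subgroup G).subtype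
      have hf : ∀ t : ↥(S : Subgroup G), orderOf t = 2 → f t = 1 := by
        intro t ht
        have h1 : orderOf (t : G) = 2 := by rw [Subgroup.orderOf_coe]; exact ht
        exact (QuotientGroup.eq_one_iff _).mpr (hinv _ h1)
      obtain ⟨k, hk⟩ := d.map_eq_pow f hf ⟨s, hs⟩
      exact ⟨k, hk⟩
  · obtain ⟨d⟩ := (isWreathed_iff _).mp hWr
    refine ⟨((d.c (z2half d.n) (z2half d.n) : ↥(S : Subgroup G)) : G),
      ((d.x : ↥(S : Subgroup G)) : G), (d.c _ _).2, (d.x).2,
      ?_, (wr_no_index_two_data S d hG).1, ?_, ?_, ?_, ?_⟩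
    · rw [Subgroup.orderOf_coe]; exact d.orderOf_chh
    · intro s hs
      have hcen : d.c (z2half d.n) (z2half d.n) ∈ Subgroup.center ↥(S : Subgroup G) :=
        (d.mem_center_iff _).mpr ⟨_, rfl⟩
      exact (congrArg Subtype.val (Subgroup.mem_center_iff.mp hcen ⟨s, hs⟩)).symm
    · intro c hc hc2
      rw [d.center_involution c hc hc2]
    · by_contra hcon
      push Not at hcon
      have hz : d.z ∈ Subgroup.center ↥(S : Subgroup G) := by
        rw [Subgroup.mem_center_iff]; intro g; exact hcon g d.z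
      obtain ⟨i, hi⟩ := (d.mem_center_iff _).mp hz
      rw [← d.e_zero] at hi
      exact d.c_ne_e i i 0 0 hi.symm
    · intro N hN hinv s hs
      let f : ↥(S : Subgroup G) →* G ⧸ N := (QuotientGroup.mk' N).comp (S : Subgroup G).subtype
      have hf : ∀ t : ↥(S : Subgroup G), orderOf t = 2 → f t = 1 := by
        intro t ht
        have h1 : orderOf (t : G) = 2 := by rw [Subgroup.orderOf_coe]; exact ht
        exact (QuotientGroup.eq_one_iff _).mpr (hinv _ h1)
      obtain ⟨k, hk⟩ := d.map_eq_pow f hf ⟨s, hs⟩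
      exact ⟨k, hk⟩


/-- core-free main lemma: the normal closure of the central involution is simple of odd index -/
theorem exists_simple_normal_aux (S : Sylow 2 G) (z₀ g₀ : G) (hz₀S : z₀ ∈ (S : Subgroup G))
    (hg₀S : g₀ ∈ (S : Subgroup G)) (hz₀ : orderOf z₀ = 2)
    (hconj : ∀ t : G, orderOf t = 2 → IsConj t z₀)
    (hz₀c : ∀ s ∈ (S : Subgroup G), z₀ * s = s * z₀)
    (hcen : ∀ c : ↥(S : Subgroup G), c ∈ Subgroup.center ↥(S : Subgroup G) → orderOf c = 2 →
      (c : G) = z₀)
    (hnc : ∃ p q : ↥(S : Subgroup G), p * q ≠ q * p)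
    (hcyc : ∀ (N : Subgroup G) [N.Normal], (∀ t : G, orderOf t = 2 → t ∈ N) →
      ∀ s ∈ (S : Subgroup G), ∃ k : ℕ, (QuotientGroup.mk' N) s = (QuotientGroup.mk' N) g₀ ^ k)
    (hG : ∀ H : Subgroup G, H.index ≠ 2) (hO : Cfsg.oddCore G = ⊥) :
    ∃ L : Subgroup G, L.Normal ∧ Odd L.index ∧ IsSimpleGroup L ∧ ¬ IsMulCommutative L := by
  have : Fact (Nat.Prime 2) := ⟨Nat.prime_two⟩
  have hz₀1 : z₀ ≠ 1 := by
    intro h; rw [h, orderOf_one] at hz₀; omega
  have hconjord : ∀ g : G, orderOf (g * z₀ * g⁻¹) = 2 := by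
    intro g
    have := MulEquiv.orderOf_eq (MulAut.conj g) z₀
    rw [MulAut.conj_apply] at this
    rw [this, hz₀]
  -- every nontrivial normal subgroup contains `S` and has odd index
  have star : ∀ (N : Subgroup G), N.Normal → N ≠ ⊥ →
      z₀ ∈ N ∧ (S : Subgroup G) ≤ N ∧ Odd N.index := by
    intro N hN hNb
    have := hN
    have heven : 2 ∣ Nat.card N := by
      by_contra h
      have hcop : (Nat.card N).Coprime 2 := by
        rw [Nat.coprime_comm]; exact (Nat.Prime.coprime_iff_not_dvd Nat.prime_two).mpr h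
      have h1 := Cfsg.Agent.Lib.Helper6.le_pPrimeCore hN hcop
      apply hNb
      rw [eq_bot_iff]
      refine h1.trans ?_
      rw [show Cfsg.pPrimeCore 2 G = Cfsg.oddCore G from rfl, hO]
    obtain ⟨t, ht⟩ := exists_prime_orderOf_dvd_card' 2 heven
    have htG : orderOf (t : G) = 2 := by rw [Subgroup.orderOf_coe]; exact ht
    have hz₀N : z₀ ∈ N := isConj_mem_normal N _ _ (hconj _ htG) t.2
    have hinvN : ∀ u : G, orderOf u = 2 → u ∈ N := by
      intro u hu
      exact isConj_mem_normal N _ _ (hconj u hu).symm hz₀N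
    let S' : Sylow 2 (G ⧸ N) := S.mapSurjective (QuotientGroup.mk'_surjective N)
    have hS' : (S' : Subgroup (G ⧸ N)) = (S : Subgroup G).map (QuotientGroup.mk' N) :=
      Sylow.coe_mapSurjective _ _
    have hcycl : IsCyclic ↥(S' : Subgroup (G ⧸ N)) := by
      refine ⟨⟨⟨(QuotientGroup.mk' N) g₀, by rw [hS']; exact Subgroup.mem_map_of_mem _ hg₀S⟩, ?_⟩⟩
      rintro ⟨y, hy⟩
      have hy' := hy
      rw [hS'] at hy'
      obtain ⟨s, hs, rfl⟩ := hy'
      obtain ⟨k, hk⟩ := hcyc N hinvN s hs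
      refine ⟨(k : ℤ), Subtype.ext ?_⟩
      simp only [zpow_natCast]
      exact hk.symm
    have hnpc := Cfsg.Agent.Lib.Helper6.hasNormalPComplement_two_of_cyclic S' hcycl
    have hodd : ¬ 2 ∣ Nat.card (G ⧸ N) := by
      intro h2
      obtain ⟨H, hH⟩ := exists_index_two_of_npc hnpc h2
      apply hG (H.comap (QuotientGroup.mk' N))
      rw [Subgroup.index_comap_of_surjective _ (QuotientGroup.mk'_surjective N), hH]
    have hoddi : Odd N.index := by
      rw [Subgroup.index_eq_card, ← Nat.not_even_iff_odd, even_iff_two_dvd]; exact hodd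
    refine ⟨hz₀N, ?_, hoddi⟩
    have hbot : (S' : Subgroup (G ⧸ N)) = ⊥ := by
      rcases S'.isPGroup'.card_eq_or_dvd with h | h
      · exact Subgroup.card_eq_one.mp h
      · exact absurd (h.trans (Subgroup.card_subgroup_dvd_card _)) hodd
    rw [hS', Subgroup.map_eq_bot_iff, QuotientGroup.ker_mk'] at hbot
    exact hbot
  -- the minimal normal subgroup
  have hN₀n : (Subgroup.normalClosure ({z₀} : Set G)).Normal := Subgroup.normalClosure_normal
  have hz₀N₀ : z₀ ∈ Subgroup.normalClosure ({z₀} : Set G) :=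
    Subgroup.subset_normalClosure (Set.mem_singleton z₀)
  have hN₀b : Subgroup.normalClosure ({z₀} : Set G) ≠ ⊥ := by
    intro h; rw [h, Subgroup.mem_bot] at hz₀N₀; exact hz₀1 hz₀N₀
  obtain ⟨-, hSN₀, hoddN₀⟩ := star _ hN₀n hN₀b
  refine ⟨Subgroup.normalClosure ({z₀} : Set G), hN₀n, hoddN₀, ?_, ?_⟩
  · -- simplicity
    have : Nontrivial ↥(Subgroup.normalClosure ({z₀} : Set G)) :=
      ⟨⟨⟨z₀, hz₀N₀⟩, 1, fun h => hz₀1 (congrArg Subtype.val h)⟩⟩
    refine { eq_bot_or_eq_top_of_normal := ?_ }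
    intro H hH
    by_cases hHb : H = ⊥
    · exact Or.inl hHb
    right
    have hMN : H.map (Subgroup.normalClosure ({z₀} : Set G)).subtype ≤
        Subgroup.normalClosure ({z₀} : Set G) := Subgroup.map_subtype_le H
    have hMb : H.map (Subgroup.normalClosure ({z₀} : Set G)).subtype ≠ ⊥ := by
      intro h
      apply hHb
      rwa [Subgroup.map_eq_bot_iff_of_injective _ (Subgroup.subtype_injective _)] at h
    have hmemM : ∀ x : ↥(Subgroup.normalClosure ({z₀} : Set G)),
        (x : G) ∈ H.map (Subgroup.normalClosure ({z₀} : Set G)).subtype ↔ x ∈ H := by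
      intro x
      constructor
      · rintro ⟨y, hy, hyx⟩
        have : y = x := Subtype.ext hyx
        rwa [← this]
      · intro hx; exact ⟨x, hx, rfl⟩
    have hMconj : ∀ n ∈ Subgroup.normalClosure ({z₀} : Set G),
        ∀ m ∈ H.map (Subgroup.normalClosure ({z₀} : Set G)).subtype,
        n * m * n⁻¹ ∈ H.map (Subgroup.normalClosure ({z₀} : Set G)).subtype := by
      intro n hn m hm
      have hmN := hMN hm
      have h1 : (⟨m, hmN⟩ : ↥(Subgroup.normalClosure ({z₀} : Set G))) ∈ H := (hmemM _).mp hm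
      have h2 := hH.conj_mem _ h1 ⟨n, hn⟩
      exact (hmemM _).mpr h2
    have hMsub : (H.map (Subgroup.normalClosure ({z₀} : Set G)).subtype).IsSubnormal :=
      Subgroup.IsSubnormal.trans' hH.isSubnormal hN₀n.isSubnormal
    have hMeven : 2 ∣ Nat.card (H.map (Subgroup.normalClosure ({z₀} : Set G)).subtype) := by
      by_contra h
      have hcop : (Nat.card (H.map (Subgroup.normalClosure ({z₀} : Set G)).subtype)).Coprime 2 := by
        rw [Nat.coprime_comm]; exact (Nat.Prime.coprime_iff_not_dvd Nat.prime_two).mpr h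
      have h1 := le_pPrimeCore_of_isSubnormal hMsub hcop
      apply hMb
      rw [eq_bot_iff]
      refine h1.trans ?_
      rw [show Cfsg.pPrimeCore 2 G = Cfsg.oddCore G from rfl, hO]
    obtain ⟨t, ht⟩ := exists_prime_orderOf_dvd_card' 2 hMeven
    have htG : orderOf (t : G) = 2 := by rw [Subgroup.orderOf_coe]; exact ht
    have hpt : IsPGroup 2 (Subgroup.zpowers (t : G)) :=
      IsPGroup.of_card (n := 1) (by rw [Nat.card_zpowers, htG, pow_one])
    obtain ⟨c, hcN₀, hcS⟩ := exists_conj_mem_of_le_sylow S _ hSN₀ (t : G) hpt (hMN t.2)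
    have hcM := hMconj c hcN₀ t t.2
    -- `R = M ⊓ S` as a normal subgroup of `S`
    have hRn : ((H.map (Subgroup.normalClosure ({z₀} : Set G)).subtype).subgroupOf
        (S : Subgroup G)).Normal := by
      constructor
      intro r hr s
      rw [Subgroup.mem_subgroupOf] at hr ⊢
      exact hMconj s (hSN₀ s.2) r hr
    have hRb : (H.map (Subgroup.normalClosure ({z₀} : Set G)).subtype).subgroupOf
        (S : Subgroup G) ≠ ⊥ := by
      intro h
      have h0 : (⟨c * t * c⁻¹, hcS⟩ : ↥(S : Subgroup G)) ∈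
          (H.map (Subgroup.normalClosure ({z₀} : Set G)).subtype).subgroupOf (S : Subgroup G) :=
        Subgroup.mem_subgroupOf.mpr hcM
      rw [h, Subgroup.mem_bot] at h0
      have h1 : c * (t : G) * c⁻¹ = 1 := congrArg Subtype.val h0
      have h2 : (t : G) = 1 := conj_eq_one_iff.mp h1
      rw [h2, orderOf_one] at htG; omega
    have : Group.IsNilpotent ↥(S : Subgroup G) := S.isPGroup'.isNilpotent
    have hRc := inf_center_ne_bot _ hRb
    have hp2 : IsPGroup 2 ↥((H.map (Subgroup.normalClosure ({z₀} : Set G)).subtype).subgroupOf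
        (S : Subgroup G) ⊓ Subgroup.center ↥(S : Subgroup G)) := S.isPGroup'.to_subgroup _
    have hdvd : 2 ∣ Nat.card ↥((H.map (Subgroup.normalClosure ({z₀} : Set G)).subtype).subgroupOf
        (S : Subgroup G) ⊓ Subgroup.center ↥(S : Subgroup G)) := by
      rcases hp2.card_eq_or_dvd with h | h
      · exact absurd (Subgroup.card_eq_one.mp h) hRc
      · exact h
    obtain ⟨c₀, hc₀⟩ := exists_prime_orderOf_dvd_card' 2 hdvd
    have hc₀' : orderOf (c₀ : ↥(S : Subgroup G)) = 2 := by rw [Subgroup.orderOf_coe]; exact hc₀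
    have hz₀M : z₀ ∈ H.map (Subgroup.normalClosure ({z₀} : Set G)).subtype := by
      have h5 := hcen c₀ c₀.2.2 hc₀'
      have h6 : ((c₀ : ↥(S : Subgroup G)) : G) ∈
          H.map (Subgroup.normalClosure ({z₀} : Set G)).subtype :=
        Subgroup.mem_subgroupOf.mp c₀.2.1
      rwa [h5] at h6
    -- all involutions lie in `M`
    have hinvM : ∀ g : G, g * z₀ * g⁻¹ ∈ H.map (Subgroup.normalClosure ({z₀} : Set G)).subtype := by
      intro g
      obtain ⟨n, hn, h, hh, rfl⟩ := frattini_of_sylow_le S _ hSN₀ g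
      have hhS : ∀ s, s ∈ (S : Subgroup G) ↔ h * s * h⁻¹ ∈ (S : Subgroup G) :=
        Subgroup.mem_normalizer_iff.mp hh
      have hmem : h * z₀ * h⁻¹ ∈ (S : Subgroup G) := (hhS z₀).mp hz₀S
      have hcc : (⟨h * z₀ * h⁻¹, hmem⟩ : ↥(S : Subgroup G)) ∈
          Subgroup.center ↥(S : Subgroup G) := by
        rw [Subgroup.mem_center_iff]
        intro s
        apply Subtype.ext
        show (s : G) * (h * z₀ * h⁻¹) = h * z₀ * h⁻¹ * s
        have hs' : h⁻¹ * s * h ∈ (S : Subgroup G) := by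
          rw [hhS]; convert s.2 using 1; group
        have h3 := hz₀c _ hs'
        calc (s : G) * (h * z₀ * h⁻¹) = h * ((h⁻¹ * s * h) * z₀) * h⁻¹ := by group
          _ = h * (z₀ * (h⁻¹ * s * h)) * h⁻¹ := by rw [h3]
          _ = h * z₀ * h⁻¹ * s := by group
      have hord : orderOf (⟨h * z₀ * h⁻¹, hmem⟩ : ↥(S : Subgroup G)) = 2 := by
        rw [← Subgroup.orderOf_coe]
        exact hconjord h
      have hfix : h * z₀ * h⁻¹ = z₀ := hcen _ hcc hord
      have h4 : n * h * z₀ * (n * h)⁻¹ = n * (h * z₀ * h⁻¹) * n⁻¹ := by group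
      rw [h4, hfix]
      exact hMconj n hn z₀ hz₀M
    have hN₀M : Subgroup.normalClosure ({z₀} : Set G) ≤
        H.map (Subgroup.normalClosure ({z₀} : Set G)).subtype := by
      unfold Subgroup.normalClosure
      rw [Subgroup.closure_le]
      intro u hu
      rw [Group.mem_conjugatesOfSet_iff] at hu
      obtain ⟨b, hb, hbu⟩ := hu
      rw [Set.mem_singleton_iff] at hb
      subst hb
      obtain ⟨g, rfl⟩ := isConj_iff.mp hbu
      exact hinvM g
    rw [eq_top_iff]
    intro x _
    exact (hmemM x).mp (hN₀M x.2)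
  · intro hcomm
    obtain ⟨p, q, hpq⟩ := hnc
    apply hpq
    have h1 := hcomm.is_comm.comm
      (⟨p, hSN₀ p.2⟩ : ↥(Subgroup.normalClosure ({z₀} : Set G))) ⟨q, hSN₀ q.2⟩
    have h2 : (p : G) * (q : G) = (q : G) * (p : G) := congrArg Subtype.val h1
    exact Subtype.ext h2

/-- a core-free group with quasi-dihedral or wreathed Sylow `2`-subgroups and no subgroup of
index two has a non-abelian simple normal subgroup of odd index -/
theorem exists_simple_normal_of_qdwr (S : Sylow 2 G)
    (hS : Cfsg.IsQuasiDihedral (S : Subgroup G) ∨ Cfsg.IsWreathed (S : Subgroup G))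
    (hG : ∀ H : Subgroup G, H.index ≠ 2) (hO : Cfsg.oddCore G = ⊥) :
    ∃ L : Subgroup G, L.Normal ∧ Odd L.index ∧ IsSimpleGroup L ∧ ¬ IsMulCommutative L := by
  obtain ⟨z₀, g₀, h1, h2, h3, h4, h5, h6, h7, h8⟩ := qdwr_struct S hS hG
  exact exists_simple_normal_aux S z₀ g₀ h1 h2 h3 h4 h5 h6 h7 h8 hG hO

end

end Cfsg.Agent.Lib.Helper3
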