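import Mathlib
import Cfsg.Agent.S0016
import Cfsg.Agent.S0215
import Cfsg.Agent.Lib.Helper6.Modular2
import Cfsg.Agent.Lib.Helper3.Components1

set_option autoImplicit false

/-!
Quasisimple groups of even order and 2-rank one: the Sylow 2-subgroups are generalized quaternion
(of order at least 8) and the unique involution of a Sylow 2-subgroup is central.
-/

namespace Cfsg.Agent.Lib.Helper3.QuatComp

open Cfsg

variable {X : Type*} [Group X] [Finite X]

/-- In a group of 2-rank at most one, two commuting involutions are equal. -/
theorem eq_of_commute_of_prank (hrk : Cfsg.PRankLE 2 1 X) {a b : X} (ha : orderOf a = 2)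
    (hb : orderOf b = 2) (hab : a * b = b * a) : a = b := by
  classical
  by_contra hne
  have ha2 : a ^ 2 = 1 := by rw [← ha]; exact pow_orderOf_eq_one a
  have hb2 : b ^ 2 = 1 := by rw [← hb]; exact pow_orderOf_eq_one b
  have ha1 : a ≠ 1 := by rintro rfl; simp at ha
  have hb1 : b ≠ 1 := by rintro rfl; simp at hb
  set A : Subgroup X := Subgroup.closure {a, b} with hA
  have hcomm : IsMulCommutative A := by
    have : ∀ x ∈ ({a, b} : Set X), ∀ y ∈ ({a, b} : Set X), x * y = y * x := by
      intro x hx y hy
      rcases hx with rfl | rfl <;> rcases hy with rfl | rfl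
      · rfl
      · exact hab
      · exact hab.symm
      · rfl
    exact ⟨⟨fun x y => by
      have h := Subgroup.closure_induction₂ (p := fun x y _ _ => x * y = y * x)
        (fun x y hx hy => this x hx y hy) (fun x _ => by simp) (fun x _ => by simp)
        (fun x y z _ _ _ h1 h2 => by rw [mul_assoc, h2, ← mul_assoc, h1, mul_assoc])
        (fun x y z _ _ _ h1 h2 => by rw [← mul_assoc, h1, mul_assoc, h2, ← mul_assoc])
        (fun x y _ _ h => by
          have : x⁻¹ * y = x⁻¹ * (y * x) * x⁻¹ := by group
          rw [this, ← h]; group)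
        (fun x y _ _ h => by
          have : x * y⁻¹ = y⁻¹ * (y * x) * y⁻¹ := by group
          rw [this, ← h]; group) x.2 y.2
      exact Subtype.ext h⟩⟩
  have hexp : ∀ x ∈ A, x ^ 2 = 1 := by
    intro x hx
    induction hx using Subgroup.closure_induction with
    | mem x hx => rcases hx with rfl | rfl <;> assumption
    | one => simp
    | mul x y hx hy h1 h2 =>
      have hc : Commute x y := by
        have := hcomm.is_comm.comm ⟨x, hx⟩ ⟨y, hy⟩
        exact congrArg Subtype.val this
      rw [hc.mul_pow, h1, h2, one_mul]
    | inv x _ h => rw [inv_pow, h, inv_one]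
  have hcard := hrk A hcomm hexp
  have haA : a ∈ A := Subgroup.subset_closure (by simp)
  have hbA : b ∈ A := Subgroup.subset_closure (by simp)
  have h3 : 3 ≤ Nat.card A := by
    have : Fintype A := Fintype.ofFinite A
    rw [Nat.card_eq_fintype_card]
    have hsub : ({(1 : A), ⟨a, haA⟩, ⟨b, hbA⟩} : Finset A) ⊆ Finset.univ := Finset.subset_univ _
    have hc3 : ({(1 : A), ⟨a, haA⟩, ⟨b, hbA⟩} : Finset A).card = 3 := by
      rw [Finset.card_insert_of_notMem, Finset.card_insert_of_notMem, Finset.card_singleton]
      · simp only [Finset.mem_singleton, Subtype.mk.injEq]; exact hne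
      · simp only [Finset.mem_insert, Finset.mem_singleton]
        rintro (h | h)
        · exact ha1 (congrArg Subtype.val h).symm
        · exact hb1 (congrArg Subtype.val h).symm
    calc 3 = _ := hc3.symm
      _ ≤ _ := Finset.card_le_card hsub
  omega

end Cfsg.Agent.Lib.Helper3.QuatComp
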