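import Mathlib
import Cfsg.Agent.Lib.Helper3.QuatComp1

set_option autoImplicit false

namespace Cfsg.Agent.Lib.Helper3.QuatComp

open Cfsg
open scoped commutatorElement

variable {X : Type*} [Group X] [Finite X]

/-- A perfect group of even order has no normal 2-complement. -/
theorem not_hasNormalPComplement_of_perfect [Group.IsPerfect X] (heven : Even (Nat.card X)) :
    ¬ Cfsg.HasNormalPComplement 2 X := by
  haveI : Fact (Nat.Prime 2) := ⟨Nat.prime_two⟩
  rintro ⟨P, N, hN, hc⟩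
  have hidx : N.index = Nat.card (P : Subgroup X) := by
    have h1 := hc.card_mul_card
    have h2 := N.card_mul_index
    have hpos : 0 < Nat.card N := Nat.card_pos
    have : Nat.card N * Nat.card (P : Subgroup X) = Nat.card N * N.index := by rw [h1, h2]
    exact (Nat.eq_of_mul_eq_mul_left hpos this).symm
  have hpq : IsPGroup 2 (X ⧸ N) := by
    obtain ⟨k, hk⟩ := IsPGroup.iff_card.mp P.isPGroup'
    refine IsPGroup.of_card (n := k) ?_
    rw [← Subgroup.index_eq_card, hidx, hk]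
  have hsolv : Group.IsSolvable (X ⧸ N) := by
    haveI := hpq.isNilpotent
    exact IsNilpotent.to_isSolvable
  have hsub : Subsingleton (X ⧸ N) := by
    by_contra hns
    rw [not_subsingleton_iff_nontrivial] at hns
    exact Group.IsPerfect.not_isSolvable (X ⧸ N) hsolv
  have hNtop : N = ⊤ := by
    rw [← Subgroup.index_eq_one, Subgroup.index_eq_card]
    exact Nat.card_eq_one_iff_unique.mpr ⟨hsub, ⟨1⟩⟩
  have hP1 : Nat.card (P : Subgroup X) = 1 := by rw [← hidx, hNtop, Subgroup.index_top]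
  have h2 : 2 ∣ Nat.card (P : Subgroup X) := by
    have hd : 2 ∣ Nat.card X := heven.two_dvd
    have := P.card_eq_multiplicity
    rw [this]
    have hf : 0 < (Nat.card X).factorization 2 :=
      Nat.Prime.factorization_pos_of_dvd Nat.prime_two Nat.card_pos.ne' hd
    exact dvd_pow_self 2 hf.ne'
  rw [hP1] at h2
  omega

/-- If all commutators `z g z⁻¹ g⁻¹` are central in a perfect group then `z` is central. -/
theorem mem_center_of_comm_mem_center [Group.IsPerfect X] (z : X)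
    (h : ∀ g : X, z * g * z⁻¹ * g⁻¹ ∈ Subgroup.center X) : z ∈ Subgroup.center X := by
  have hsub : commutatorSet X ⊆ (Subgroup.centralizer ({z} : Set X) : Set X) := by
    rintro _ ⟨g, k, rfl⟩
    rw [SetLike.mem_coe, Subgroup.mem_centralizer_iff]
    intro y hy
    rw [Set.mem_singleton_iff] at hy
    subst hy
    have ha := h g
    have hb := h k
    set a := y * g * y⁻¹ * g⁻¹ with hadef
    set b := y * k * y⁻¹ * k⁻¹ with hbdef
    have hg : y * g * y⁻¹ = a * g := by rw [hadef]; group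
    have hk : y * k * y⁻¹ = b * k := by rw [hbdef]; group
    have hac : ∀ w : X, w * a = a * w := fun w => (Subgroup.mem_center_iff.mp ha) w
    have hbc : ∀ w : X, w * b = b * w := fun w => (Subgroup.mem_center_iff.mp hb) w
    have key : y * ⁅g, k⁆ * y⁻¹ = ⁅g, k⁆ := by
      have e1 : y * ⁅g, k⁆ * y⁻¹ = ⁅y * g * y⁻¹, y * k * y⁻¹⁆ := by
        simp only [commutatorElement_def]; group
      rw [e1, hg, hk, commutatorElement_def, commutatorElement_def]
      have i1 : (a * g)⁻¹ = a⁻¹ * g⁻¹ := by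
        rw [mul_inv_rev]
        have := hac g⁻¹
        have h2 : g⁻¹ * a⁻¹ = a⁻¹ * g⁻¹ := by
          have : a * g⁻¹ = g⁻¹ * a := (hac g⁻¹).symm
          calc g⁻¹ * a⁻¹ = a⁻¹ * (a * g⁻¹) * a⁻¹ := by group
            _ = a⁻¹ * (g⁻¹ * a) * a⁻¹ := by rw [this]
            _ = a⁻¹ * g⁻¹ := by group
        exact h2
      have i2 : (b * k)⁻¹ = b⁻¹ * k⁻¹ := by
        rw [mul_inv_rev]
        have : b * k⁻¹ = k⁻¹ * b := (hbc k⁻¹).symm
        calc k⁻¹ * b⁻¹ = b⁻¹ * (b * k⁻¹) * b⁻¹ := by group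
          _ = b⁻¹ * (k⁻¹ * b) * b⁻¹ := by rw [this]
          _ = b⁻¹ * k⁻¹ := by group
      rw [i1, i2]
      calc a * g * (b * k) * (a⁻¹ * g⁻¹) * (b⁻¹ * k⁻¹)
          = a * (g * b) * k * a⁻¹ * g⁻¹ * b⁻¹ * k⁻¹ := by group
        _ = a * (b * g) * k * a⁻¹ * g⁻¹ * b⁻¹ * k⁻¹ := by rw [hbc g]
        _ = a * b * (g * k * a⁻¹) * g⁻¹ * b⁻¹ * k⁻¹ := by group
        _ = a * b * (a⁻¹ * (a * (g * k)) * a⁻¹) * g⁻¹ * b⁻¹ * k⁻¹ := by group
        _ = a * b * (a⁻¹ * ((g * k) * a) * a⁻¹) * g⁻¹ * b⁻¹ * k⁻¹ := by rw [hac (g * k)]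
        _ = a * (b * a⁻¹) * g * k * g⁻¹ * b⁻¹ * k⁻¹ := by group
        _ = a * (a⁻¹ * (a * b) * a⁻¹) * g * k * g⁻¹ * b⁻¹ * k⁻¹ := by group
        _ = a * (a⁻¹ * (b * a) * a⁻¹) * g * k * g⁻¹ * b⁻¹ * k⁻¹ := by rw [hbc a]
        _ = b * (g * k * g⁻¹) * b⁻¹ * k⁻¹ := by group
        _ = (g * k * g⁻¹) * b * b⁻¹ * k⁻¹ := by rw [← hbc (g * k * g⁻¹)]
        _ = g * k * g⁻¹ * k⁻¹ := by group
    calc y * ⁅g, k⁆ = (y * ⁅g, k⁆ * y⁻¹) * y := by group
      _ = ⁅g, k⁆ * y := by rw [key]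
  have hle : commutator X ≤ Subgroup.centralizer ({z} : Set X) := by
    rw [commutator_eq_closure]
    exact (Subgroup.closure_le _).mpr hsub
  rw [Group.IsPerfect.commutator_eq_top] at hle
  rw [Subgroup.mem_center_iff]
  intro g
  have := hle (Subgroup.mem_top g)
  rw [Subgroup.mem_centralizer_iff] at this
  exact (this z rfl).symm

end Cfsg.Agent.Lib.Helper3.QuatComp
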