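import Mathlib
import Cfsg.Agent.Lib.Helper3.QuatComp2

set_option autoImplicit false

namespace Cfsg.Agent.Lib.Helper3.QuatComp

open Cfsg

variable {X : Type*} [Group X] [Finite X]

/-- A quasisimple group of even order and 2-rank one has generalized quaternion Sylow 2-subgroups
of order at least 8, and a central involution. -/
theorem main (hq : Cfsg.IsQuasisimple X) (heven : Even (Nat.card X)) (hrk : Cfsg.PRankLE 2 1 X) :
    ∃ t : X, orderOf t = 2 ∧ t ∈ Subgroup.center X ∧ ∃ S : Sylow 2 X, ∃ n : ℕ,
      Nonempty (↥(S : Subgroup X) ≃* QuaternionGroup (2 ^ (n + 1))) := by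
  classical
  haveI : Fact (Nat.Prime 2) := ⟨Nat.prime_two⟩
  haveI : Group.IsPerfect X := hq.1
  obtain ⟨S⟩ : Nonempty (Sylow 2 X) := inferInstance
  have h2X : 2 ∣ Nat.card X := heven.two_dvd
  have hScard : 2 ∣ Nat.card (S : Subgroup X) := by
    rw [S.card_eq_multiplicity]
    have hf : 0 < (Nat.card X).factorization 2 :=
      Nat.Prime.factorization_pos_of_dvd Nat.prime_two Nat.card_pos.ne' h2X
    exact dvd_pow_self 2 hf.ne'
  haveI hSnt : Nontrivial (S : Subgroup X) := by
    rw [← Finite.one_lt_card_iff_nontrivial]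
    have : 0 < Nat.card (S : Subgroup X) := Nat.card_pos
    rcases hScard with ⟨c, hc⟩
    omega
  have hSp : IsPGroup 2 (S : Subgroup X) := S.isPGroup'
  -- a central involution of S
  haveI hZnt : Nontrivial (Subgroup.center (S : Subgroup X)) := hSp.center_nontrivial
  have hZp : IsPGroup 2 (Subgroup.center (S : Subgroup X)) := hSp.to_subgroup _
  have hZ2 : 2 ∣ Nat.card (Subgroup.center (S : Subgroup X)) := by
    obtain ⟨k, hk⟩ := IsPGroup.iff_card.mp hZp
    rw [hk]
    have : k ≠ 0 := by
      rintro rfl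
      rw [pow_zero] at hk
      have := Finite.one_lt_card_iff_nontrivial.mpr hZnt
      omega
    exact dvd_pow_self 2 this
  obtain ⟨z0, hz0⟩ := exists_prime_orderOf_dvd_card' 2 hZ2
  set z : (S : Subgroup X) := (z0 : (S : Subgroup X)) with hzdef
  have hzo : orderOf z = 2 := by rw [hzdef, Subgroup.orderOf_coe]; exact hz0
  have hzX : orderOf (z : X) = 2 := by rw [Subgroup.orderOf_coe]; exact hzo
  have hzc : ∀ s : (S : Subgroup X), s * z = z * s := fun s =>
    Subgroup.mem_center_iff.mp z0.2 s
  -- uniqueness of the involution in S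
  have huz : ∀ s : (S : Subgroup X), orderOf s = 2 → s = z := by
    intro s hs
    have hsX : orderOf (s : X) = 2 := by rw [Subgroup.orderOf_coe]; exact hs
    have hc : (s : X) * (z : X) = (z : X) * (s : X) := by
      have := congrArg Subtype.val (hzc s)
      simpa using this
    exact Subtype.ext (eq_of_commute_of_prank hrk hsX hzX hc)
  have hH : ∀ H : Subgroup (S : Subgroup X), Nat.card H = 2 → H = Subgroup.zpowers z := by
    intro H hH2
    obtain ⟨h, hh⟩ := exists_prime_orderOf_dvd_card' (G := H) 2 (by rw [hH2])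
    have hh' : orderOf (h : (S : Subgroup X)) = 2 := by rw [Subgroup.orderOf_coe]; exact hh
    have hzH : z ∈ H := by rw [← huz _ hh']; exact h.2
    symm
    apply Subgroup.eq_of_le_of_card_ge
    · rw [Subgroup.zpowers_le]; exact hzH
    · rw [Nat.card_zpowers, hzo, hH2]
  have huniq : ∀ H K : Subgroup (S : Subgroup X), Nat.card H = 2 → Nat.card K = 2 → H = K := by
    intro H K h1 h2
    rw [hH H h1, hH K h2]
  have hncyc : ¬ IsCyclic (S : Subgroup X) := by
    intro hcyc
    exact not_hasNormalPComplement_of_perfect heven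
      (Cfsg.Agent.Lib.Helper6.hasNormalPComplement_two_of_cyclic S hcyc)
  rcases Cfsg.Agent.S0016.result 2 hSp huniq with hcyc | ⟨-, n, ⟨e⟩⟩
  · exact absurd hcyc hncyc
  rcases n with _ | n
  · exfalso
    apply hncyc
    have hc1 : IsCyclic (QuaternionGroup (2 ^ 0)) := by
      rw [pow_zero]; exact QuaternionGroup.quaternionGroup_one_isCyclic
    exact isCyclic_of_surjective e.symm e.symm.surjective
  -- now Glauberman
  have hiso : ∀ g : X, g * (z : X) * g⁻¹ ∈ S → g * (z : X) * g⁻¹ = (z : X) := by
    intro g hg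
    have ho : orderOf (g * (z : X) * g⁻¹) = 2 := by
      have : g * (z : X) * g⁻¹ = MulAut.conj g (z : X) := by simp [MulAut.conj_apply]
      rw [this, MulEquiv.orderOf_eq]; exact hzX
    have := huz ⟨_, hg⟩ (by rw [← Subgroup.orderOf_coe]; exact ho)
    exact congrArg Subtype.val this
  obtain ⟨N, hNn, hNodd, hN⟩ := Cfsg.Agent.S0215.result S (z : X) hzX z.2 hiso
  have hNtop : N ≠ ⊤ := by
    rintro rfl
    rw [Subgroup.card_top] at hNodd
    exact (Nat.not_even_iff_odd.mpr hNodd) heven
  have hNc : N ≤ Subgroup.center X := by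
    rcases Cfsg.Agent.Lib.Helper3.IsQuasisimple.normal_eq_top_or_le_center hq N with h | h
    · exact absurd h hNtop
    · exact h
  have hzcen : (z : X) ∈ Subgroup.center X :=
    mem_center_of_comm_mem_center (z : X) (fun g => hNc (hN g))
  exact ⟨(z : X), hzX, hzcen, S, n, ⟨e⟩⟩

end Cfsg.Agent.Lib.Helper3.QuatComp
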