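import Mathlib
import Cfsg.Agent.Lib.Helper3.RUDefs

set_option autoImplicit false
set_option linter.unusedSectionVars false
set_option linter.unusedVariables false

/-!
# S2522, PK-R1: four proper subspaces do not cover (|K| ≥ 4)
-/

namespace Cfsg.Agent.Lib.Helper3.RUProd

open Module

universe u v

variable {K : Type u} [Field K] {V : Type v} [AddCommGroup V] [Module K V]

/-- one more proper subspace can be avoided as long as the field has more elements than
there are subspaces already avoided -/
theorem avoid_step {k : ℕ} (Us : Fin k → Submodule K V) (v : V) (hv : ∀ i, v ∉ Us i)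
    (U : Submodule K V) (hU : U ≠ ⊤) (T : Finset K) (hT : k < T.card) :
    ∃ v' : V, v' ∉ U ∧ ∀ i, v' ∉ Us i := by
  classical
  by_cases hvU : v ∈ U
  · obtain ⟨u, hu⟩ : ∃ u : V, u ∉ U := by
      by_contra h
      push Not at h
      exact hU (Submodule.eq_top_iff'.mpr h)
    rcases Nat.eq_zero_or_pos k with hk0 | hk
    · subst hk0
      exact ⟨u, hu, fun i => i.elim0⟩
    haveI : Nonempty (Fin k) := ⟨⟨0, hk⟩⟩
    let bad : Finset K := T.filter (fun t => ∃ i, u + t • v ∈ Us i)
    have hbad : bad.card ≤ k := by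
      have hch : ∀ t ∈ bad, ∃ i, u + t • v ∈ Us i := by
        intro t ht
        exact (Finset.mem_filter.mp ht).2
      choose! f hf using hch
      have : bad.card ≤ (Finset.univ : Finset (Fin k)).card := by
        apply Finset.card_le_card_of_injOn f
        · intro t _
          exact Finset.mem_univ _
        · intro t ht t' ht' hEq
          by_contra hne
          have h1 := hf t ht
          have h2 := hf t' ht'
          rw [hEq] at h1
          have h3 : (t - t') • v ∈ Us (f t') := by
            have := (Us (f t')).sub_mem h1 h2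
            rwa [add_sub_add_left_eq_sub, ← sub_smul] at this
          have h4 : v ∈ Us (f t') := by
            have := (Us (f t')).smul_mem (t - t')⁻¹ h3
            rwa [smul_smul, inv_mul_cancel₀ (sub_ne_zero.mpr hne), one_smul] at this
          exact hv _ h4
      simpa using this
    obtain ⟨t, htT, htb⟩ := Finset.exists_mem_notMem_of_card_lt_card (lt_of_le_of_lt hbad hT)
    refine ⟨u + t • v, ?_, ?_⟩
    · intro h
      apply hu
      have := U.sub_mem h (U.smul_mem t hvU)
      rwa [add_sub_cancel_right] at this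
    · intro i hi
      apply htb
      exact Finset.mem_filter.mpr ⟨htT, i, hi⟩
  · exact ⟨v, hvU, hv⟩

theorem exists_not_mem_four (hK : ∃ s : Finset K, s.card = 4) (U1 U2 U3 U4 : Submodule K V)
    (h1 : U1 ≠ ⊤) (h2 : U2 ≠ ⊤) (h3 : U3 ≠ ⊤) (h4 : U4 ≠ ⊤) :
    ∃ v : V, v ∉ U1 ∧ v ∉ U2 ∧ v ∉ U3 ∧ v ∉ U4 := by
  obtain ⟨T, hT⟩ := hK
  obtain ⟨v1, hv1⟩ : ∃ u : V, u ∉ U1 := by
    by_contra h
    push Not at h
    exact h1 (Submodule.eq_top_iff'.mpr h)
  obtain ⟨v2, hv2, hv2'⟩ := avoid_step (k := 1) ![U1] v1
    (by intro i; fin_cases i; exact hv1) U2 h2 T (by omega)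
  obtain ⟨v3, hv3, hv3'⟩ := avoid_step (k := 2) ![U1, U2] v2
    (by
      intro i
      fin_cases i
      · exact hv2' 0
      · exact hv2) U3 h3 T (by omega)
  obtain ⟨v4, hv4, hv4'⟩ := avoid_step (k := 3) ![U1, U2, U3] v3
    (by
      intro i
      fin_cases i
      · exact hv3' 0
      · exact hv3' 1
      · exact hv3) U4 h4 T (by omega)
  exact ⟨v4, hv4' 0, hv4' 1, hv4' 2, hv4⟩

end Cfsg.Agent.Lib.Helper3.RUProd
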