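import Mathlib
import Cfsg.Agent.Lib.Helper3.RUDefs

set_option autoImplicit false
set_option linter.unusedSectionVars false
set_option linter.unusedVariables false

/-!
# S2522, PK-R10: the extension step
-/

namespace Cfsg.Agent.Lib.Helper3.RUProd

open Module

universe u v

variable {K : Type u} [Field K] {V : Type v} [AddCommGroup V] [Module K V]

/-- a map `1 + nilpotent` has a two-sided inverse -/
theorem exists_inv_of_pow_eq_zero {W : Type*} [AddCommGroup W] [Module K W] (L : Module.End K W)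
    (k : ℕ) (h : (L - 1) ^ k = 0) : ∃ Li : Module.End K W, L * Li = 1 ∧ Li * L = 1 := by
  have hnil : IsNilpotent (L - 1) := ⟨k, h⟩
  have hu : IsUnit (L - 1 + 1) := hnil.isUnit_add_one
  rw [sub_add_cancel] at hu
  obtain ⟨u, hu⟩ := hu
  refine ⟨((u⁻¹ : (Module.End K W)ˣ) : Module.End K W), ?_, ?_⟩
  · rw [← hu]; exact Units.mul_inv u
  · rw [← hu]; exact Units.inv_mul u

theorem good_of_cmpr [FiniteDimensional K V] {n : ℕ} (hn : 1 ≤ n) (hV : finrank K V = n + 1)
    (A : Module.End K V) (hA : Function.Bijective A) (z : V) (η : Module.Dual K V)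
    (hη : η ∈ Aff A z) (A' : Module.End K (LinearMap.ker η)) (hA' : IsCmpr A z η A')
    (c0 : V) (r0 : Module.Dual K V) (h1 : η c0 ≠ 0) (h2 : r0 (A z) ≠ 0)
    (ctil : LinearMap.ker η) (hctil : (ctil : V) = A z - z)
    (rtil : Module.Dual K (LinearMap.ker η))
    (hrtil : ∀ (w : LinearMap.ker η) (v : V), A v = (w : V) → rtil w = η v)
    (hgood : Good n A' ctil rtil) : Good (n + 1) A c0 r0 := by
  obtain ⟨m, rfl⟩ := Nat.exists_eq_add_of_le' hn
  obtain ⟨L', U', hLU, ⟨hL0, hL1⟩, ⟨hU0, hU1⟩, hc, hr⟩ := hgood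
  simp only [Nat.add_sub_cancel] at hL1 hU1 hc hr
  have hηz : η z = 1 := hη.1
  have hηy : η (A z) = 1 := by
    have h := hη.2
    rw [map_sub, hηz] at h
    exact sub_eq_zero.mp h
  -- the projection onto `ker η` along `y`
  obtain ⟨P0, hP0⟩ : ∃ P0 : V →ₗ[K] V, ∀ v, P0 v = v - η v • A z :=
    ⟨LinearMap.id - η.smulRight (A z), fun v => rfl⟩
  have hPmem : ∀ v : V, P0 v ∈ LinearMap.ker η := by
    intro v
    rw [LinearMap.mem_ker, hP0, map_sub, map_smul, hηy, smul_eq_mul, mul_one, sub_self]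
  obtain ⟨P, hP⟩ : ∃ P : V →ₗ[K] LinearMap.ker η, ∀ v, ((P v : LinearMap.ker η) : V) = v - η v • A z :=
    ⟨LinearMap.codRestrict (LinearMap.ker η) P0 hPmem,
      fun v => by rw [LinearMap.codRestrict_apply, hP0]⟩
  have hηι : ∀ w : LinearMap.ker η, η (w : V) = 0 := fun w => LinearMap.mem_ker.mp w.2
  have hdec : ∀ v : V, v = ((P v : LinearMap.ker η) : V) + η v • A z := by
    intro v
    rw [hP]
    abel
  have hPι : ∀ w : LinearMap.ker η, P (w : V) = w := by
    intro w
    apply Subtype.ext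
    rw [hP, hηι, zero_smul, sub_zero]
  have hPy : P (A z) = 0 := by
    apply Subtype.ext
    rw [hP, hηy, one_smul, sub_self]
    rfl
  -- inverses
  obtain ⟨Li, hLLi, hLiL⟩ := exists_inv_of_pow_eq_zero L' (m + 1) hL0
  obtain ⟨Ui, hUUi, hUiU⟩ := exists_inv_of_pow_eq_zero U' (m + 1) hU0
  have hLLi' : ∀ w, L' (Li w) = w := fun w => by
    have := LinearMap.congr_fun hLLi w; simpa using this
  have hLiL' : ∀ w, Li (L' w) = w := fun w => by
    have := LinearMap.congr_fun hLiL w; simpa using this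
  have hUUi' : ∀ w, U' (Ui w) = w := fun w => by
    have := LinearMap.congr_fun hUUi w; simpa using this
  have hUiU' : ∀ w, Ui (U' w) = w := fun w => by
    have := LinearMap.congr_fun hUiU w; simpa using this
  have hA'app : ∀ w, A' w = L' (U' w) := fun w => by rw [hLU]; rfl
  -- the functional `r w = η (A w)`
  obtain ⟨r, hrdef⟩ : ∃ r : Module.Dual K (LinearMap.ker η), ∀ w : LinearMap.ker η, r w = η (A (w : V)) :=
    ⟨η ∘ₗ A ∘ₗ (LinearMap.ker η).subtype, fun w => rfl⟩
  have hF3 : ∀ w : LinearMap.ker η, A (w : V) = ((A' w : LinearMap.ker η) : V) + r w • A z := by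
    intro w
    rw [hA' w, hrdef]
    abel
  -- `c`
  have hF4 : A (A z) = ((P (A (A z)) : LinearMap.ker η) : V) + η (A (A z)) • A z := hdec (A (A z))
  have hF5 : A' ctil = P (A (A z)) := by
    apply Subtype.ext
    rw [hA' ctil, hctil, hP, map_sub, map_sub, hηy]
    module
  have hAi : ∀ w, Ui (Li (A' w)) = w := by
    intro w
    rw [hA'app, hLiL', hUiU']
  have hAi' : ∀ w, A' (Ui (Li w)) = w := by
    intro w
    rw [hA'app, hUUi', hLLi']
  have hrct : r ctil = η (A (A z)) - 1 := by
    rw [hrdef, hctil, map_sub, map_sub, hηy]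
  -- `u`, `l`
  obtain ⟨uu, huu⟩ : ∃ uu : LinearMap.ker η, uu = Li (P (A (A z))) := ⟨_, rfl⟩
  obtain ⟨l, hl⟩ : ∃ l : Module.Dual K (LinearMap.ker η), ∀ w, l w = r (Ui w) := ⟨r ∘ₗ Ui, fun w => rfl⟩
  have hUiu : Ui uu = ctil := by
    rw [huu, ← hF5, hAi]
  have hlu : l uu = η (A (A z)) - 1 := by
    rw [hl, hUiu, hrct]
  have hL'u : L' uu = P (A (A z)) := by rw [huu, hLLi']
  -- `L` and `U`
  obtain ⟨L, hLdef⟩ : ∃ L : Module.End K V, ∀ v, L v = ((L' (P v) : LinearMap.ker η) : V) + (l (P v) + η v) • A z :=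
    ⟨(LinearMap.ker η).subtype ∘ₗ L' ∘ₗ P + (l ∘ₗ P + η).smulRight (A z), fun v => rfl⟩
  obtain ⟨U, hUdef⟩ : ∃ U : Module.End K V, ∀ v, U v = ((U' (P v) : LinearMap.ker η) : V) + η v • (A z + (uu : V)) :=
    ⟨(LinearMap.ker η).subtype ∘ₗ U' ∘ₗ P + η.smulRight (A z + (uu : V)), fun v => rfl⟩
  have hLι : ∀ w : LinearMap.ker η, L (w : V) = ((L' w : LinearMap.ker η) : V) + l w • A z := by
    intro w
    rw [hLdef, hPι, hηι, add_zero]
  have hLy : L (A z) = A z := by
    rw [hLdef, hPy, map_zero, map_zero, hηy, zero_add, one_smul]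
    simp
  have hUι : ∀ w : LinearMap.ker η, U (w : V) = ((U' w : LinearMap.ker η) : V) := by
    intro w
    rw [hUdef, hPι, hηι, zero_smul, add_zero]
  have hUy : U (A z) = A z + (uu : V) := by
    rw [hUdef, hPy, map_zero, hηy, one_smul]
    simp
  -- extensionality along `V = ker η ⊕ K y`
  have hext : ∀ f g : Module.End K V, (∀ w : LinearMap.ker η, f (w : V) = g (w : V)) →
      f (A z) = g (A z) → f = g := by
    intro f g h1 h2
    apply LinearMap.ext
    intro v
    rw [hdec v, map_add, map_add, map_smul, map_smul, h1, h2]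
  -- `A = L * U`
  have hALU : A = L * U := by
    apply hext
    · intro w
      rw [Module.End.mul_apply, hUι, hLι, hl, hUiU', hF3, hA'app]
    · rw [Module.End.mul_apply, hUy, map_add, hLy, hLι, hL'u, hlu]
      conv_lhs => rw [hF4]
      module
  -- powers of `L - 1`
  have hLm1ι : ∀ w : LinearMap.ker η, (L - 1) (w : V) = (((L' - 1) w : LinearMap.ker η) : V) + l w • A z := by
    intro w
    rw [LinearMap.sub_apply, hLι, Module.End.one_apply, LinearMap.sub_apply, Module.End.one_apply,
      Submodule.coe_sub]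
    abel
  have hLm1y : (L - 1) (A z) = 0 := by
    rw [LinearMap.sub_apply, hLy, Module.End.one_apply, sub_self]
  have hpowLy : ∀ k : ℕ, ((L - 1) ^ (k + 1)) (A z) = 0 := by
    intro k
    rw [pow_succ, Module.End.mul_apply, hLm1y, map_zero]
  have hpowLι : ∀ (k : ℕ) (w : LinearMap.ker η), ((L - 1) ^ (k + 1)) (w : V) =
      ((((L' - 1) ^ (k + 1)) w : LinearMap.ker η) : V) + l (((L' - 1) ^ k) w) • A z := by
    intro k
    induction k with
    | zero =>
      intro w
      rw [zero_add, pow_one, pow_one, pow_zero, Module.End.one_apply]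
      exact hLm1ι w
    | succ k ih =>
      intro w
      rw [pow_succ ((L - 1)) (k + 1), Module.End.mul_apply, hLm1ι, map_add, map_smul, hpowLy,
        smul_zero, add_zero, ih]
      simp only [pow_succ, Module.End.mul_apply]
  have hL'pow2 : (L' - 1) ^ (m + 1 + 1) = 0 := by rw [pow_succ, hL0, zero_mul]
  have hy0 : A z ≠ 0 := by
    intro h
    rw [h, map_zero] at hηy
    exact zero_ne_one hηy
  -- facts about `M = (L' - 1)^m`
  have hLM : ∀ w, L' (((L' - 1) ^ m) w) = ((L' - 1) ^ m) w := by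
    intro w
    have h : ((L' - 1) * (L' - 1) ^ m) w = 0 := by
      rw [← pow_succ', hL0]; rfl
    rw [Module.End.mul_apply, LinearMap.sub_apply, Module.End.one_apply, sub_eq_zero] at h
    exact h
  have hLiM : ∀ w, Li (((L' - 1) ^ m) w) = ((L' - 1) ^ m) w := by
    intro w
    conv_lhs => rw [← hLM w]
    rw [hLiL']
  have hrAi : ∀ w, r (Ui (Li w)) = - rtil w := by
    intro w
    have h3 := hF3 (Ui (Li w))
    rw [hAi'] at h3
    have h4 : A (((Ui (Li w) : LinearMap.ker η) : V) - r (Ui (Li w)) • z) = (w : V) := by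
      rw [map_sub, map_smul, h3]
      abel
    have h5 := hrtil w _ h4
    rw [h5, map_sub, map_smul, hηι, hηz]
    simp
  have hlM : ∀ w, l (((L' - 1) ^ m) w) = - rtil (((L' - 1) ^ m) w) := by
    intro w
    rw [hl]
    conv_lhs => rw [← hLiM w]
    exact hrAi _
  have hLtop : ∀ w : LinearMap.ker η, ((L - 1) ^ (m + 1)) (w : V) = l (((L' - 1) ^ m) w) • A z := by
    intro w
    rw [hpowLι m w, hL0]
    simp
  have hRUL : RU (m + 1 + 1) L := by
    constructor
    · apply hext
      · intro w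
        rw [hpowLι (m + 1) w, hL'pow2, hL0]
        simp
      · rw [hpowLy]; simp
    · rw [Nat.add_sub_cancel]
      intro h0
      apply hr
      apply LinearMap.ext
      intro w
      have h5 := hLtop w
      rw [h0] at h5
      simp only [LinearMap.zero_apply] at h5
      have h6 : l (((L' - 1) ^ m) w) = 0 := by
        rcases smul_eq_zero.mp h5.symm with h | h
        · exact h
        · exact absurd h hy0
      rw [hlM] at h6
      rw [LinearMap.comp_apply, LinearMap.zero_apply]
      exact neg_eq_zero.mp h6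
  -- powers of `U - 1`
  have hUm1ι : ∀ w : LinearMap.ker η, (U - 1) (w : V) = (((U' - 1) w : LinearMap.ker η) : V) := by
    intro w
    rw [LinearMap.sub_apply, hUι, Module.End.one_apply, LinearMap.sub_apply, Module.End.one_apply,
      Submodule.coe_sub]
  have hUm1y : (U - 1) (A z) = (uu : V) := by
    rw [LinearMap.sub_apply, hUy, Module.End.one_apply]
    abel
  have hpowUι : ∀ (k : ℕ) (w : LinearMap.ker η), ((U - 1) ^ k) (w : V) =
      ((((U' - 1) ^ k) w : LinearMap.ker η) : V) := by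
    intro k
    induction k with
    | zero => intro w; simp
    | succ k ih =>
      intro w
      rw [pow_succ, Module.End.mul_apply, hUm1ι, ih, pow_succ (U' - 1) k, Module.End.mul_apply]
  have hpowUy : ∀ k : ℕ, ((U - 1) ^ (k + 1)) (A z) = ((((U' - 1) ^ k) uu : LinearMap.ker η) : V) := by
    intro k
    rw [pow_succ, Module.End.mul_apply, hUm1y, hpowUι]
  have hU'pow2 : (U' - 1) ^ (m + 1 + 1) = 0 := by rw [pow_succ, hU0, zero_mul]
  have hMU : ∀ w, ((U' - 1) ^ m) (U' w) = ((U' - 1) ^ m) w := by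
    intro w
    have h : ((U' - 1) ^ m * (U' - 1)) w = 0 := by
      rw [← pow_succ, hU0]; rfl
    rw [Module.End.mul_apply, LinearMap.sub_apply, Module.End.one_apply, map_sub, sub_eq_zero] at h
    exact h
  have hMUu : ((U' - 1) ^ m) uu = ((U' - 1) ^ m) ctil := by
    rw [← hUiu, ← hMU (Ui uu), hUUi']
  have hUc0 : ((U - 1) ^ (m + 1)) c0 = η c0 • ((((U' - 1) ^ m) ctil : LinearMap.ker η) : V) := by
    conv_lhs => rw [hdec c0]
    rw [map_add, map_smul, hpowUι, hpowUy, hU0, hMUu]
    simp
  have hUc0ne : ((U - 1) ^ (m + 1)) c0 ≠ 0 := by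
    rw [hUc0]
    intro h
    rcases smul_eq_zero.mp h with h | h
    · exact h1 h
    · apply hc
      apply Subtype.ext
      rw [h]
      rfl
  have hRUU : RU (m + 1 + 1) U := by
    constructor
    · apply hext
      · intro w
        rw [hpowUι, hU'pow2]
        simp
      · rw [hpowUy, hU0]
        simp
    · rw [Nat.add_sub_cancel]
      intro h0
      apply hUc0ne
      rw [h0]
      rfl
  refine ⟨L, U, hALU, hRUL, hRUU, ?_, ?_⟩
  · rw [Nat.add_sub_cancel]
    exact hUc0ne
  · rw [Nat.add_sub_cancel]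
    obtain ⟨w, hw⟩ : ∃ w, rtil (((L' - 1) ^ m) w) ≠ 0 := by
      by_contra hcon
      push Not at hcon
      apply hr
      apply LinearMap.ext
      intro w
      rw [LinearMap.comp_apply, LinearMap.zero_apply]
      exact hcon w
    intro h0
    have h5 := LinearMap.congr_fun h0 (w : V)
    rw [LinearMap.comp_apply, hLtop, map_smul, hlM, LinearMap.zero_apply, smul_eq_mul] at h5
    rcases mul_eq_zero.mp h5 with h | h
    · exact hw (neg_eq_zero.mp h)
    · exact h2 h

end Cfsg.Agent.Lib.Helper3.RUProd
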