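import Mathlib
import Cfsg.Agent.Lib.Helper3.RUDefs

set_option autoImplicit false
set_option linter.unusedSectionVars false
set_option linter.unusedVariables false

/-!
# S2522, PK-R3: three line-affine conditions can be avoided simultaneously (|K| ≥ 4)
-/

namespace Cfsg.Agent.Lib.Helper3.RUProd

open Module

universe u v

variable {K : Type u} [Field K]

/-- finitely many conditions, each bad for at most one parameter, leave a good parameter -/
theorem exists_good_param {k : ℕ} (T : Finset K) (hT : k < T.card) (bad : Fin k → K → Prop)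
    (hbad : ∀ i, ∀ t ∈ T, ∀ t' ∈ T, bad i t → bad i t' → t = t') :
    ∃ t ∈ T, ∀ i, ¬ bad i t := by
  classical
  rcases Nat.eq_zero_or_pos k with hk0 | hk
  · subst hk0
    obtain ⟨t, ht⟩ := Finset.card_pos.mp hT
    exact ⟨t, ht, fun i => i.elim0⟩
  have : Nonempty (Fin k) := ⟨⟨0, hk⟩⟩
  let B : Finset K := T.filter (fun t => ∃ i, bad i t)
  have hB : B.card ≤ k := by
    have hch : ∀ t ∈ B, ∃ i, bad i t := fun t ht => (Finset.mem_filter.mp ht).2
    choose! f hf using hch
    have : B.card ≤ (Finset.univ : Finset (Fin k)).card := by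
      apply Finset.card_le_card_of_injOn f
      · intro t _
        exact Finset.mem_univ _
      · intro t ht t' ht' hEq
        have h1 := hf t ht
        have h2 := hf t' ht'
        rw [hEq] at h1
        exact hbad (f t') t (Finset.mem_filter.mp ht).1 t' (Finset.mem_filter.mp ht').1 h1 h2
    simpa using this
  obtain ⟨t, htT, htb⟩ := Finset.exists_mem_notMem_of_card_lt_card (lt_of_le_of_lt hB hT)
  refine ⟨t, htT, ?_⟩
  intro i hi
  exact htb (Finset.mem_filter.mpr ⟨htT, i, hi⟩)

/-- a line-affine function with two distinct zeros on a line vanishes on the whole line -/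
theorem line_zero_of_two {E : Type*} [AddCommGroup E] [Module K E] {X : Type*} [AddCommGroup X]
    [Module K X] (S : Set E) (l : E → X)
    (hl : ∀ a ∈ S, ∀ b ∈ S, ∀ s : K, l (a + s • (b - a)) = l a + s • (l b - l a))
    (a b : E) (ha : a ∈ S) (hb : b ∈ S) (s s' : K) (hne : s ≠ s')
    (h0 : l (a + s • (b - a)) = 0) (h0' : l (a + s' • (b - a)) = 0) :
    ∀ t : K, l (a + t • (b - a)) = 0 := by
  rw [hl a ha b hb] at h0 h0'
  have hd : (s - s') • (l b - l a) = 0 := by
    rw [sub_smul]
    have : s • (l b - l a) = s' • (l b - l a) := by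
      have h := h0.trans h0'.symm
      exact add_left_cancel h
    rw [this, sub_self]
  have hd0 : l b - l a = 0 := by
    rcases smul_eq_zero.mp hd with h | h
    · exact absurd (sub_eq_zero.mp h) hne
    · exact h
  have ha0 : l a = 0 := by
    rw [hd0, smul_zero, add_zero] at h0
    exact h0
  intro t
  rw [hl a ha b hb, hd0, smul_zero, add_zero, ha0]

theorem exists_avoid_three {E : Type*} [AddCommGroup E] [Module K E]
    {X1 : Type*} [AddCommGroup X1] [Module K X1] {X2 : Type*} [AddCommGroup X2] [Module K X2]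
    {X3 : Type*} [AddCommGroup X3] [Module K X3]
    (hK : ∃ s : Finset K, s.card = 4) (S : Set E)
    (hS : ∀ a ∈ S, ∀ b ∈ S, ∀ s : K, a + s • (b - a) ∈ S)
    (l1 : E → X1) (l2 : E → X2) (l3 : E → X3)
    (hl1 : ∀ a ∈ S, ∀ b ∈ S, ∀ s : K, l1 (a + s • (b - a)) = l1 a + s • (l1 b - l1 a))
    (hl2 : ∀ a ∈ S, ∀ b ∈ S, ∀ s : K, l2 (a + s • (b - a)) = l2 a + s • (l2 b - l2 a))
    (hl3 : ∀ a ∈ S, ∀ b ∈ S, ∀ s : K, l3 (a + s • (b - a)) = l3 a + s • (l3 b - l3 a))
    (h1 : ∃ a ∈ S, l1 a ≠ 0) (h2 : ∃ a ∈ S, l2 a ≠ 0) (h3 : ∃ a ∈ S, l3 a ≠ 0) :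
    ∃ a ∈ S, l1 a ≠ 0 ∧ l2 a ≠ 0 ∧ l3 a ≠ 0 := by
  obtain ⟨T, hT⟩ := hK
  obtain ⟨a1, ha1, g1⟩ := h1
  obtain ⟨a2, ha2, g2⟩ := h2
  obtain ⟨a3, ha3, g3⟩ := h3
  have e0 : ∀ a b : E, a + (0 : K) • (b - a) = a := fun a b => by rw [zero_smul, add_zero]
  have e1 : ∀ a b : E, a + (1 : K) • (b - a) = b := fun a b => by rw [one_smul]; abel
  -- stage 1: a point good for `l1` and `l2`
  obtain ⟨a12, ha12, g12a, g12b⟩ : ∃ a ∈ S, l1 a ≠ 0 ∧ l2 a ≠ 0 := by
    obtain ⟨t, _, ht⟩ := exists_good_param (k := 2) T (by omega)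
      (fun i t => if i = 0 then l1 (a1 + t • (a2 - a1)) = 0 else l2 (a1 + t • (a2 - a1)) = 0)
      (by
        intro i t _ t' _ hb hb'
        by_contra hne
        fin_cases i
        · simp only [Fin.zero_eta, if_true] at hb hb'
          have := line_zero_of_two S l1 hl1 a1 a2 ha1 ha2 t t' hne hb hb' 0
          rw [e0] at this
          exact g1 this
        · simp only [Fin.mk_one, one_ne_zero, if_false] at hb hb'
          have := line_zero_of_two S l2 hl2 a1 a2 ha1 ha2 t t' hne hb hb' 1
          rw [e1] at this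
          exact g2 this)
    refine ⟨a1 + t • (a2 - a1), hS a1 ha1 a2 ha2 t, ?_, ?_⟩
    · have := ht 0
      simpa using this
    · have := ht 1
      simpa using this
  -- stage 2
  obtain ⟨t, _, ht⟩ := exists_good_param (k := 3) T (by omega)
    (fun i t => if i = 0 then l1 (a12 + t • (a3 - a12)) = 0
      else if i = 1 then l2 (a12 + t • (a3 - a12)) = 0 else l3 (a12 + t • (a3 - a12)) = 0)
    (by
      intro i t _ t' _ hb hb'
      by_contra hne
      fin_cases i
      · simp only [Fin.zero_eta, if_true] at hb hb'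
        have := line_zero_of_two S l1 hl1 a12 a3 ha12 ha3 t t' hne hb hb' 0
        rw [e0] at this
        exact g12a this
      · simp only [Fin.mk_one, one_ne_zero, if_false, if_true] at hb hb'
        have := line_zero_of_two S l2 hl2 a12 a3 ha12 ha3 t t' hne hb hb' 0
        rw [e0] at this
        exact g12b this
      · have h20 : ((⟨2, by omega⟩ : Fin 3) = 0) = False := by simp [Fin.ext_iff]
        have h21 : ((⟨2, by omega⟩ : Fin 3) = 1) = False := by simp [Fin.ext_iff]
        simp only [h20, h21, if_false] at hb hb'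
        have := line_zero_of_two S l3 hl3 a12 a3 ha12 ha3 t t' hne hb hb' 1
        rw [e1] at this
        exact g3 this)
  refine ⟨a12 + t • (a3 - a12), hS a12 ha12 a3 ha3 t, ?_, ?_, ?_⟩
  · have := ht 0
    simpa using this
  · have := ht 1
    simpa using this
  · have := ht 2
    have h20 : ((2 : Fin 3) = 0) = False := by simp [Fin.ext_iff]
    have h21 : ((2 : Fin 3) = 1) = False := by simp [Fin.ext_iff]
    simpa [h20, h21] using this

end Cfsg.Agent.Lib.Helper3.RUProd
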