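import Mathlib
import Cfsg.Agent.Lib.Helper3.RUDefs

set_option autoImplicit false
set_option linter.unusedSectionVars false
set_option linter.unusedVariables false

/-!
# S2522, PK-R4: the affine family `Aff A z`
-/

namespace Cfsg.Agent.Lib.Helper3.RUProd

open Module

universe u v

variable {K : Type u} [Field K] {V : Type v} [AddCommGroup V] [Module K V]

theorem aff_line (A : Module.End K V) (z : V) :
    ∀ a ∈ Aff A z, ∀ b ∈ Aff A z, ∀ s : K, a + s • (b - a) ∈ Aff A z := by
  intro a ha b hb s
  constructor
  · simp [ha.1, hb.1]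
  · simp only [LinearMap.add_apply, LinearMap.smul_apply, LinearMap.sub_apply, ha.2, hb.2]
    simp

theorem z_not_mem_span (A : Module.End K V) (z : V) (hz : LinearIndependent K ![z, A z - z]) :
    z ∉ Submodule.span K {A z - z} := by
  intro h
  obtain ⟨a, ha⟩ := Submodule.mem_span_singleton.mp h
  have := (LinearIndependent.pair_iff.mp hz) 1 (-a) (by rw [one_smul, neg_smul, ha, add_neg_cancel])
  exact one_ne_zero this.1

/-- adding a functional that kills `z` and `N z` stays in the family -/
theorem aff_add (A : Module.End K V) (z : V) (η f : Module.Dual K V) (hη : η ∈ Aff A z)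
    (hf : Submodule.span K {z, A z - z} ≤ LinearMap.ker f) : η + f ∈ Aff A z := by
  have h1 : f z = 0 := hf (Submodule.subset_span (by simp))
  have h2 : f (A z - z) = 0 := hf (Submodule.subset_span (by simp))
  constructor
  · rw [LinearMap.add_apply, hη.1, h1, add_zero]
  · rw [LinearMap.add_apply, hη.2, h2, add_zero]

theorem aff_nonempty [FiniteDimensional K V] (A : Module.End K V) (z : V)
    (hz : LinearIndependent K ![z, A z - z]) : (Aff A z).Nonempty := by
  obtain ⟨f, hfz, hf⟩ := Submodule.exists_le_ker_of_notMem (z_not_mem_span A z hz)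
  refine ⟨(f z)⁻¹ • f, ?_, ?_⟩
  · rw [LinearMap.smul_apply, smul_eq_mul, inv_mul_cancel₀ hfz]
  · have : f (A z - z) = 0 := hf (Submodule.mem_span_singleton_self _)
    rw [LinearMap.smul_apply, this, smul_zero]

/-- the common kernel of the family is the line spanned by `N z` -/
theorem mem_span_of_aff_vanish [FiniteDimensional K V] (A : Module.End K V) (z : V)
    (hz : LinearIndependent K ![z, A z - z]) (x : V) (h : ∀ η ∈ Aff A z, η x = 0) :
    x ∈ Submodule.span K {A z - z} := by
  obtain ⟨η0, hη0⟩ := aff_nonempty A z hz
  by_cases hx : x ∈ Submodule.span K {z, A z - z}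
  · obtain ⟨a, b, hab⟩ := Submodule.mem_span_pair.mp hx
    have h0 := h η0 hη0
    rw [← hab, map_add, map_smul, map_smul, hη0.1, hη0.2] at h0
    have ha : a = 0 := by simpa using h0
    rw [ha, zero_smul, zero_add] at hab
    rw [← hab]
    exact Submodule.smul_mem _ _ (Submodule.mem_span_singleton_self _)
  · exfalso
    obtain ⟨f, hfx, hf⟩ := Submodule.exists_le_ker_of_notMem hx
    have h0 := h η0 hη0
    have h1 := h (η0 + f) (aff_add A z η0 f hη0 hf)
    rw [LinearMap.add_apply, h0, zero_add] at h1
    exact hfx h1

theorem exists_aff_ne [FiniteDimensional K V] (hV : 3 ≤ finrank K V) (A : Module.End K V) (z : V)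
    (hz : LinearIndependent K ![z, A z - z]) (ηa : Module.Dual K V) (ha : ηa ∈ Aff A z) :
    ∃ η ∈ Aff A z, η ≠ ηa := by
  have hne : Submodule.span K {z, A z - z} ≠ ⊤ := by
    intro h
    classical
    have h1 : finrank K (Submodule.span K (({z, A z - z} : Finset V) : Set V)) ≤
        ({z, A z - z} : Finset V).card := finrank_span_finset_le_card _
    have h2 : ({z, A z - z} : Finset V).card ≤ 2 := Finset.card_le_two
    rw [Finset.coe_insert, Finset.coe_singleton, h, finrank_top] at h1
    omega
  obtain ⟨x, hx⟩ : ∃ x : V, x ∉ Submodule.span K {z, A z - z} := by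
    by_contra hcon
    push Not at hcon
    exact hne (Submodule.eq_top_iff'.mpr hcon)
  obtain ⟨f, hfx, hf⟩ := Submodule.exists_le_ker_of_notMem hx
  refine ⟨ηa + f, aff_add A z ηa f ha hf, ?_⟩
  intro h
  have : f = 0 := by
    have := congrArg (fun g => g - ηa) h
    simpa using this
  rw [this] at hfx
  exact hfx rfl

/-- in dimension two the (unique) member of the family does not kill `c0` -/
theorem aff_c0_of_dim_two [FiniteDimensional K V] (hV : finrank K V = 2) (A : Module.End K V)
    (z : V) (hz : LinearIndependent K ![z, A z - z]) (η : Module.Dual K V) (hη : η ∈ Aff A z)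
    (c0 : V) (hc0 : c0 ∉ Submodule.span K {A z - z}) : η c0 ≠ 0 := by
  intro h0
  apply hc0
  have hη0 : η ≠ 0 := by
    intro h
    have := hη.1
    rw [h] at this
    simp at this
  have hk : finrank K (LinearMap.ker η) = 1 := by
    have := Module.Dual.finrank_ker_add_one_of_ne_zero hη0
    omega
  have hNz : A z - z ≠ 0 := by
    have := hz.ne_zero (1 : Fin 2)
    simpa using this
  have hle : Submodule.span K {A z - z} ≤ LinearMap.ker η := by
    rw [Submodule.span_singleton_le_iff_mem, LinearMap.mem_ker]
    exact hη.2
  have heq : Submodule.span K {A z - z} = LinearMap.ker η := by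
    apply Submodule.eq_of_le_of_finrank_eq hle
    rw [hk, finrank_span_singleton hNz]
  rw [heq, LinearMap.mem_ker]
  exact h0

end Cfsg.Agent.Lib.Helper3.RUProd
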