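import Mathlib
import Cfsg.Agent.Lib.Helper3.RUDefs

set_option autoImplicit false
set_option linter.unusedSectionVars false
set_option linter.unusedVariables false

/-!
# S2522, PK-R6: the rank of `Ntil`
-/

namespace Cfsg.Agent.Lib.Helper3.RUProd

open Module

universe u v

variable {K : Type u} [Field K] {V : Type v} [AddCommGroup V] [Module K V]

theorem Ntil_eq_zero_iff (A : Module.End K V) (z : V) (η : Module.Dual K V) (v : V) :
    Ntil A z η v = 0 ↔ (A - 1) (v - η v • z) = η ((A - 1) v) • A z := by
  rw [Ntil_apply]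
  simp only [LinearMap.sub_apply, Module.End.one_apply, map_sub, map_smul]
  constructor
  · intro h
    rw [← sub_eq_zero, ← h]
    try module
  · intro h
    rw [← sub_eq_zero] at h
    rw [← h]
    try module

theorem rank_Ntil_singular [FiniteDimensional K V] (A : Module.End K V) (z : V)
    (η : Module.Dual K V) (hη : η ∈ Aff A z) (hz : z ∉ LinearMap.range (A - 1))
    (k : V) (hk : (A - 1) k = 0) (hηk : η k ≠ 0) :
    finrank K (LinearMap.range (A - 1)) ≤ finrank K (LinearMap.range (Ntil A z η)) := by
  -- on `ker (Ntil)`: `η (N v) = 0` and `N (v - η v • z) = 0`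
  have hkey : ∀ v, Ntil A z η v = 0 → (A - 1) (v - η v • z) = 0 := by
    intro v hv
    rw [Ntil_eq_zero_iff] at hv
    by_cases ht : η ((A - 1) v) = 0
    · rw [hv, ht, zero_smul]
    · exfalso
      apply hz
      have h1 : A z = (A - 1) ((η ((A - 1) v))⁻¹ • (v - η v • z)) := by
        rw [map_smul, hv, smul_smul, inv_mul_cancel₀ ht, one_smul]
      have h2 : z = (A - 1) ((η ((A - 1) v))⁻¹ • (v - η v • z) - z) := by
        rw [map_sub, ← h1, LinearMap.sub_apply, Module.End.one_apply]
        abel
      rw [h2]
      exact LinearMap.mem_range_self _ _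
  obtain ⟨Φ, hΦ⟩ : ∃ Φ : V →ₗ[K] V, ∀ v, Φ v = v - η v • z + ((η k)⁻¹ * η v) • k :=
    ⟨LinearMap.id - η.smulRight z + ((η k)⁻¹ • η).smulRight k, fun v => by simp⟩
  have hmem : ∀ v : LinearMap.ker (Ntil A z η), (Φ ∘ₗ (LinearMap.ker (Ntil A z η)).subtype) v ∈
      LinearMap.ker (A - 1) := by
    intro v
    rw [LinearMap.mem_ker, LinearMap.comp_apply, Submodule.subtype_apply, hΦ, map_add, map_smul, hk,
      smul_zero, add_zero]
    exact hkey v (LinearMap.mem_ker.mp v.2)
  let Ψ : LinearMap.ker (Ntil A z η) →ₗ[K] LinearMap.ker (A - 1) :=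
    LinearMap.codRestrict _ _ hmem
  have hinj : Function.Injective Ψ := by
    rw [← LinearMap.ker_eq_bot, LinearMap.ker_eq_bot']
    intro v hv
    have h1 : Φ (v : V) = 0 := by
      have := congrArg Subtype.val hv
      simpa [Ψ] using this
    rw [hΦ] at h1
    have h2 := congrArg η h1
    rw [map_add, map_sub, map_smul, map_smul, hη.1, map_zero, smul_eq_mul, mul_one, sub_self,
      zero_add, smul_eq_mul, mul_assoc, mul_comm (η (v : V)), ← mul_assoc,
      inv_mul_cancel₀ hηk, one_mul] at h2
    rw [h2, zero_smul, sub_zero, mul_zero, zero_smul, add_zero] at h1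
    exact Subtype.ext h1
  have h1 := LinearMap.finrank_le_finrank_of_injective hinj
  have h2 := LinearMap.finrank_range_add_finrank_ker (A - 1)
  have h3 := LinearMap.finrank_range_add_finrank_ker (Ntil A z η)
  omega

theorem ker_Ntil_le_of_inj (A : Module.End K V) (z : V)
    (η : Module.Dual K V) (hη : η ∈ Aff A z) (hN : LinearMap.ker (A - 1) = ⊥)
    (x : V) (hx : (A - 1) x = A z) (v : V) (hv : Ntil A z η v = 0) :
    v = η v • z + η ((A - 1) v) • x := by
  rw [Ntil_eq_zero_iff] at hv
  have h1 : (A - 1) (v - η v • z - η ((A - 1) v) • x) = 0 := by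
    rw [map_sub, hv, map_smul, hx, sub_self]
  have h2 := LinearMap.ker_eq_bot'.mp hN _ h1
  have h3 := sub_eq_zero.mp h2
  have h4 := sub_eq_iff_eq_add.mp h3
  rw [add_comm] at h4
  exact h4

theorem rank_Ntil_inj_of_ne [FiniteDimensional K V] (A : Module.End K V) (z : V)
    (η : Module.Dual K V) (hη : η ∈ Aff A z) (hN : LinearMap.ker (A - 1) = ⊥)
    (x : V) (hx : (A - 1) x = A z) (hηx : η x ≠ 0) :
    finrank K V ≤ finrank K (LinearMap.range (Ntil A z η)) + 1 := by
  have hle : LinearMap.ker (Ntil A z η) ≤ Submodule.span K {z} := by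
    intro v hv
    have h1 := ker_Ntil_le_of_inj A z η hη hN x hx v (LinearMap.mem_ker.mp hv)
    have h2 := congrArg η h1
    rw [map_add, map_smul, map_smul, hη.1, smul_eq_mul, mul_one, smul_eq_mul] at h2
    have h3 : η ((A - 1) v) * η x = 0 := by
      have := sub_eq_zero.mpr h2.symm
      simpa using this
    have h4 : η ((A - 1) v) = 0 := by
      rcases mul_eq_zero.mp h3 with h | h
      · exact h
      · exact absurd h hηx
    rw [h4, zero_smul, add_zero] at h1
    rw [h1]
    exact Submodule.smul_mem _ _ (Submodule.mem_span_singleton_self _)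
  have h1 := Submodule.finrank_mono hle
  have h2 : finrank K (Submodule.span K ({z} : Set V)) ≤ 1 := by
    have := finrank_span_le_card (R := K) ({z} : Set V)
    simpa using this
  have h3 := LinearMap.finrank_range_add_finrank_ker (Ntil A z η)
  omega

theorem rank_Ntil_inj [FiniteDimensional K V] (A : Module.End K V) (z : V)
    (η : Module.Dual K V) (hη : η ∈ Aff A z) (hN : LinearMap.ker (A - 1) = ⊥) :
    finrank K V ≤ finrank K (LinearMap.range (Ntil A z η)) + 2 := by
  have hsurj : Function.Surjective ⇑(A - 1) :=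
    LinearMap.injective_iff_surjective.mp (LinearMap.ker_eq_bot.mp hN)
  obtain ⟨x, hx⟩ := hsurj (A z)
  have hle : LinearMap.ker (Ntil A z η) ≤ Submodule.span K {z, x} := by
    intro v hv
    have h1 := ker_Ntil_le_of_inj A z η hη hN x hx v (LinearMap.mem_ker.mp hv)
    rw [h1]
    exact Submodule.add_mem _
      (Submodule.smul_mem _ _ (Submodule.subset_span (by simp)))
      (Submodule.smul_mem _ _ (Submodule.subset_span (by simp)))
  have h1 := Submodule.finrank_mono hle
  have h2 : finrank K (Submodule.span K ({z, x} : Set V)) ≤ 2 := by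
    classical
    have h1 : finrank K (Submodule.span K (({z, x} : Finset V) : Set V)) ≤
        ({z, x} : Finset V).card := finrank_span_finset_le_card _
    have h2 : ({z, x} : Finset V).card ≤ 2 := Finset.card_le_two
    rw [Finset.coe_insert, Finset.coe_singleton] at h1
    omega
  have h3 := LinearMap.finrank_range_add_finrank_ker (Ntil A z η)
  omega

/-- in dimension two, determinant one and a fixed vector force unipotence -/
theorem det_two_fixed {W : Type*} [AddCommGroup W] [Module K W] [FiniteDimensional K W]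
    (hW : finrank K W = 2) (T : Module.End K W) (hdet : LinearMap.det T = 1) (u : W) (hu : u ≠ 0)
    (hTu : T u = u) : ∀ w, ∃ t : K, T w - w = t • u := by
  intro w
  by_cases hw : ∃ a : K, a • u = w
  · obtain ⟨a, rfl⟩ := hw
    refine ⟨0, ?_⟩
    rw [map_smul, hTu, sub_self, zero_smul]
  · push Not at hw
    have hli : LinearIndependent K ![u, w] := (LinearIndependent.pair_iff' hu).mpr hw
    let b : Basis (Fin 2) K W := basisOfLinearIndependentOfCardEqFinrank hli (by simp [hW])
    have hb0 : b 0 = u := by simp [b]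
    have hb1 : b 1 = w := by simp [b]
    have hd := LinearMap.det_toMatrix b T
    rw [hdet, Matrix.det_fin_two] at hd
    simp only [LinearMap.toMatrix_apply, hb0, hb1, hTu] at hd
    have h00 : b.repr u 0 = 1 := by
      rw [← hb0, Basis.repr_self]; simp
    have h10 : b.repr u 1 = 0 := by
      rw [← hb0, Basis.repr_self]; simp
    rw [h00, h10, mul_zero, sub_zero, one_mul] at hd
    have hsum := b.sum_repr (T w)
    rw [Fin.sum_univ_two, hb0, hb1, hd, one_smul] at hsum
    obtain ⟨a, ha⟩ : ∃ a : K, a = b.repr (T w) 0 := ⟨_, rfl⟩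
    rw [← ha] at hsum
    refine ⟨a, ?_⟩
    rw [← hsum]
    abel

/-- dimension three: if `N (t • N z) = A z` then `N` is not injective -/
theorem not_inj_of_dim_three [FiniteDimensional K V] (hV : finrank K V = 3) (A : Module.End K V)
    (z : V) (hz1 : LinearIndependent K ![z, A z - z]) (t : K)
    (hx : (A - 1) (t • (A z - z)) = A z)
    (η : Module.Dual K V) (hη : η ∈ Aff A z) (A' : Module.End K (LinearMap.ker η))
    (hA' : IsCmpr A z η A') (hdet : LinearMap.det A' = 1) : LinearMap.ker (A - 1) ≠ ⊥ := by
  intro hN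
  have hηy : η (A z) = 1 := by
    have h := hη.2
    rw [map_sub, hη.1] at h
    exact sub_eq_zero.mp h
  have ht : t ≠ 0 := by
    intro h
    rw [h, zero_smul, map_zero] at hx
    rw [← hx, map_zero] at hηy
    exact zero_ne_one hηy
  have hANz : A (A z - z) = (A z - z) + t⁻¹ • A z := by
    rw [map_smul, LinearMap.sub_apply, Module.End.one_apply] at hx
    have h1 : A (A z - z) - (A z - z) = t⁻¹ • A z := by
      have h0 : t⁻¹ • (t • (A (A z - z) - (A z - z))) = t⁻¹ • A z :=
        congrArg (fun w => t⁻¹ • w) hx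
      rw [smul_smul, inv_mul_cancel₀ ht, one_smul] at h0
      exact h0
    rw [← h1]
    abel
  have hu0 : (⟨A z - z, hη.2⟩ : LinearMap.ker η) ≠ 0 := by
    intro h
    have h1 : A z - z = 0 := congrArg Subtype.val h
    have h2 := hz1.ne_zero (1 : Fin 2)
    simp at h2
    exact h2 h1
  have hfix : A' ⟨A z - z, hη.2⟩ = ⟨A z - z, hη.2⟩ := by
    apply Subtype.ext
    rw [hA']
    show A (A z - z) - η (A (A z - z)) • A z = A z - z
    rw [hANz, map_add, map_smul, hη.2, hηy, zero_add, smul_eq_mul, mul_one]
    abel
  have hη0 : η ≠ 0 := by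
    intro h
    have := hη.1
    rw [h] at this
    simp at this
  have hdim : finrank K (LinearMap.ker η) = 2 := by
    have := Module.Dual.finrank_ker_add_one_of_ne_zero hη0
    omega
  have h2 := det_two_fixed hdim A' hdet _ hu0 hfix
  -- `range N ≤ span {z, N z}`
  have hle : LinearMap.range (A - 1) ≤ Submodule.span K {z, A z - z} := by
    rintro _ ⟨v, rfl⟩
    have hw : v - η v • z ∈ LinearMap.ker η := by
      rw [LinearMap.mem_ker, map_sub, map_smul, hη.1, smul_eq_mul, mul_one, sub_self]
    obtain ⟨s, hs⟩ := h2 ⟨v - η v • z, hw⟩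
    have hs' := congrArg Subtype.val hs
    rw [Submodule.coe_sub, hA', Submodule.coe_smul] at hs'
    simp only at hs'
    -- `A w - η (A w) • A z - w = s • N z`
    have hNw : (A - 1) (v - η v • z) = s • (A z - z) + η (A (v - η v • z)) • A z := by
      rw [LinearMap.sub_apply, Module.End.one_apply, ← hs']
      abel
    have hNv : (A - 1) v = (A - 1) (v - η v • z) + η v • (A z - z) := by
      rw [map_sub, map_smul, LinearMap.sub_apply (A) 1 z, Module.End.one_apply]
      abel
    rw [hNv, hNw]
    have hz_mem : z ∈ Submodule.span K {z, A z - z} := Submodule.subset_span (by simp)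
    have hNz_mem : A z - z ∈ Submodule.span K {z, A z - z} := Submodule.subset_span (by simp)
    have hy_mem : A z ∈ Submodule.span K {z, A z - z} := by
      have h0 := Submodule.add_mem _ hz_mem hNz_mem
      rwa [add_sub_cancel] at h0
    exact Submodule.add_mem _
      (Submodule.add_mem _ (Submodule.smul_mem _ _ hNz_mem) (Submodule.smul_mem _ _ hy_mem))
      (Submodule.smul_mem _ _ hNz_mem)
  have h3 := Submodule.finrank_mono hle
  have h4 : finrank K (Submodule.span K ({z, A z - z} : Set V)) ≤ 2 := by
    classical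
    have h1 : finrank K (Submodule.span K (({z, A z - z} : Finset V) : Set V)) ≤
        ({z, A z - z} : Finset V).card := finrank_span_finset_le_card _
    have h2 : ({z, A z - z} : Finset V).card ≤ 2 := Finset.card_le_two
    rw [Finset.coe_insert, Finset.coe_singleton] at h1
    omega
  have h5 := LinearMap.finrank_range_add_finrank_ker (A - 1)
  rw [hN, finrank_bot] at h5
  omega

end Cfsg.Agent.Lib.Helper3.RUProd
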