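import Mathlib
import Cfsg.Agent.Lib.Helper3.RUDefs

set_option autoImplicit false
set_option linter.unusedSectionVars false
set_option linter.unusedVariables false

/-!
# S2522, PK-R8: the compression exists; bridge `AdmC → Adm`; the functional `η ∘ A⁻¹` on `ker η`;
dimension one
-/

namespace Cfsg.Agent.Lib.Helper3.RUProd

open Module

universe u v

variable {K : Type u} [Field K] {V : Type v} [AddCommGroup V] [Module K V]

theorem exists_cmpr (A : Module.End K V) (z : V) (η : Module.Dual K V) (hη : η (A z) = 1) :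
    ∃ A' : Module.End K (LinearMap.ker η), IsCmpr A z η A' := by
  obtain ⟨B, hB⟩ : ∃ B : LinearMap.ker η →ₗ[K] V, ∀ w : LinearMap.ker η,
      B w = A (w : V) - η (A (w : V)) • A z :=
    ⟨(A - (η ∘ₗ A).smulRight (A z)) ∘ₗ (LinearMap.ker η).subtype, fun w => rfl⟩
  have hmem : ∀ w, B w ∈ LinearMap.ker η := by
    intro w
    rw [LinearMap.mem_ker, hB, map_sub, map_smul, hη, smul_eq_mul, mul_one, sub_self]
  refine ⟨LinearMap.codRestrict (LinearMap.ker η) B hmem, ?_⟩
  intro w
  rw [LinearMap.codRestrict_apply, hB]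

theorem Ntil_z (A : Module.End K V) (z : V) (η : Module.Dual K V) (hη : η ∈ Aff A z) :
    Ntil A z η z = 0 := by
  rw [Ntil_apply, hη.1, hη.2, one_smul, zero_smul, sub_self, sub_zero]

theorem Ntil_ker (A : Module.End K V) (z : V) (η : Module.Dual K V)
    (A' : Module.End K (LinearMap.ker η)) (hA' : IsCmpr A z η A') (w : LinearMap.ker η) :
    Ntil A z η (w : V) = (((A' - 1) w : LinearMap.ker η) : V) := by
  have hw : η (w : V) = 0 := LinearMap.mem_ker.mp w.2
  rw [Ntil_apply, hw, zero_smul, sub_zero, map_sub, hw, sub_zero, LinearMap.sub_apply,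
    Module.End.one_apply, Submodule.coe_sub, hA' w]
  abel

theorem adm_of_admC [FiniteDimensional K V] (A : Module.End K V) (z : V) (η : Module.Dual K V)
    (hη : η ∈ Aff A z) (A' : Module.End K (LinearMap.ker η)) (hA' : IsCmpr A z η A')
    (h : AdmC A z η) : Adm A' := by
  obtain ⟨hns, hrk⟩ := h
  constructor
  · rintro ⟨c, hc⟩
    apply hns
    refine ⟨c - 1, ?_⟩
    intro w hw
    have h1 := Ntil_ker A z η A' hA' ⟨w, LinearMap.mem_ker.mpr hw⟩
    rw [hc] at h1
    simp only [LinearMap.sub_apply, LinearMap.smul_apply, Module.End.one_apply, Submodule.coe_sub,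
      Submodule.coe_smul] at h1
    rw [h1, sub_smul, one_smul]
  · have hle : LinearMap.range (Ntil A z η) ≤
        (LinearMap.range (A' - 1)).map (LinearMap.ker η).subtype := by
      rintro _ ⟨v, rfl⟩
      have hw : v - η v • z ∈ LinearMap.ker η := by
        rw [LinearMap.mem_ker, map_sub, map_smul, hη.1, smul_eq_mul, mul_one, sub_self]
      have h1 : Ntil A z η v = Ntil A z η (v - η v • z) := by
        rw [map_sub, map_smul, Ntil_z A z η hη, smul_zero, sub_zero]
      rw [h1]
      have h2 := Ntil_ker A z η A' hA' ⟨v - η v • z, hw⟩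
      rw [h2]
      exact Submodule.mem_map_of_mem (LinearMap.mem_range_self _ _)
    have h3 := Submodule.finrank_mono hle
    have h4 : finrank K ((LinearMap.range (A' - 1)).map (LinearMap.ker η).subtype) =
        finrank K (LinearMap.range (A' - 1)) :=
      (Submodule.equivMapOfInjective _ (Submodule.injective_subtype _) _).symm.finrank_eq
    omega

theorem exists_rtil (A : Module.End K V) (hA : Function.Bijective A) (z : V)
    (η : Module.Dual K V) (hη : η ∈ Aff A z) (hne : η ∘ₗ (A - 1) ≠ 0) :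
    ∃ rtil : Module.Dual K (LinearMap.ker η), rtil ≠ 0 ∧
      ∀ (w : LinearMap.ker η) (v : V), A v = (w : V) → rtil w = η v := by
  let e : V ≃ₗ[K] V := LinearEquiv.ofBijective A hA
  have he : ∀ v, e v = A v := fun v => rfl
  have hηy : η (A z) = 1 := by
    have h := hη.2
    rw [map_sub, hη.1] at h
    exact sub_eq_zero.mp h
  obtain ⟨rtil, hr⟩ : ∃ rtil : Module.Dual K (LinearMap.ker η), ∀ w : LinearMap.ker η,
      rtil w = η (e.symm (w : V)) :=
    ⟨η ∘ₗ (e.symm : V →ₗ[K] V) ∘ₗ (LinearMap.ker η).subtype, fun w => rfl⟩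
  have hspec : ∀ (w : LinearMap.ker η) (v : V), A v = (w : V) → rtil w = η v := by
    intro w v hv
    rw [hr, ← hv, ← he, LinearEquiv.symm_apply_apply]
  refine ⟨rtil, ?_, hspec⟩
  intro h0
  apply hne
  apply LinearMap.ext
  intro v
  rw [LinearMap.comp_apply, LinearMap.zero_apply, LinearMap.sub_apply, Module.End.one_apply, map_sub,
    sub_eq_zero]
  -- `η (A v) = η v`
  have hv' : A (v - η (A v) • z) ∈ LinearMap.ker η := by
    rw [LinearMap.mem_ker, map_sub, map_smul, map_sub, map_smul, hηy, smul_eq_mul, mul_one, sub_self]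
  have h1 := hspec ⟨A (v - η (A v) • z), hv'⟩ (v - η (A v) • z) rfl
  rw [h0, LinearMap.zero_apply, map_sub, map_smul, hη.1, smul_eq_mul, mul_one] at h1
  exact (sub_eq_zero.mp h1.symm).symm

theorem eq_one_of_dim_one [FiniteDimensional K V] (hV : finrank K V = 1) (A : Module.End K V)
    (hdet : LinearMap.det A = 1) : A = 1 := by
  obtain ⟨v0, hv0, hsp⟩ := finrank_eq_one_iff'.mp hV
  obtain ⟨c, hc⟩ := hsp (A v0)
  have hA : A = c • (1 : Module.End K V) := by
    apply LinearMap.ext
    intro w
    obtain ⟨t, rfl⟩ := hsp w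
    rw [map_smul, ← hc, LinearMap.smul_apply, Module.End.one_apply, smul_comm]
  have hd : LinearMap.det A = c := by
    rw [hA, LinearMap.det_smul, hV, pow_one, map_one, mul_one]
  rw [hd] at hdet
  rw [hA, hdet, one_smul]

end Cfsg.Agent.Lib.Helper3.RUProd
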