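import Mathlib
import Cfsg.Agent.Lib.Helper3.RUDefs
import Cfsg.Agent.Lib.Helper3.RU_R3
import Cfsg.Agent.Lib.Helper3.RU_R4
import Cfsg.Agent.Lib.Helper3.RU_R6
import Cfsg.Agent.Lib.Helper3.RU_R8
import Cfsg.Agent.Lib.Helper2.RU_R5
import Cfsg.Agent.Lib.Helper2.RU_R9

/-! # S2522, PK-R7: choice of the functional `η` (assembly) -/

set_option autoImplicit false
set_option linter.unusedSectionVars false
set_option linter.unusedVariables false

namespace Cfsg.Agent.Lib.Helper3.RUProd

open Module

universe u v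

variable {K : Type u} [Field K] {V : Type v} [AddCommGroup V] [Module K V]

theorem exists_eta [FiniteDimensional K V] (hK : ∃ s : Finset K, s.card = 4)
    (hV : 3 ≤ finrank K V) (A : Module.End K V) (hA : Function.Bijective A)
    (hdet : LinearMap.det A = 1) (hadm : Adm A) (c0 : V) (r0 : Module.Dual K V) (z : V)
    (hz : ZOk A c0 r0 z) :
    ∃ η ∈ Aff A z, η c0 ≠ 0 ∧ η ∘ₗ (A - 1) ≠ 0 ∧ AdmC A z η := by
  obtain ⟨hz1, hz2, hz3, hz4, hz5⟩ := hz
  have hline := aff_line A z
  let l1 : Module.Dual K V → K := fun η => η c0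
  let l2 : Module.Dual K V → Module.Dual K V := fun η => η ∘ₗ (A - 1)
  have hl1 : ∀ a ∈ Aff A z, ∀ b ∈ Aff A z, ∀ s : K,
      l1 (a + s • (b - a)) = l1 a + s • (l1 b - l1 a) := by
    intro a _ b _ s
    simp [l1]
  have hl2 : ∀ a ∈ Aff A z, ∀ b ∈ Aff A z, ∀ s : K,
      l2 (a + s • (b - a)) = l2 a + s • (l2 b - l2 a) := by
    intro a _ b _ s
    ext v
    simp [l2]
  have e1 : ∃ a ∈ Aff A z, l1 a ≠ 0 := by
    by_contra h
    push Not at h
    exact hz3 (mem_span_of_aff_vanish A z hz1 c0 h)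
  have e2 : ∃ a ∈ Aff A z, l2 a ≠ 0 := by
    by_contra h
    push Not at h
    have hle : LinearMap.range (A - 1) ≤ Submodule.span K {A z - z} := by
      rintro _ ⟨v, rfl⟩
      apply mem_span_of_aff_vanish A z hz1
      intro η hη
      exact LinearMap.congr_fun (h η hη) v
    have h2 := Submodule.finrank_mono hle
    have h3 : finrank K (Submodule.span K ({A z - z} : Set V)) ≤ 1 := by
      have := finrank_span_le_card (R := K) ({A z - z} : Set V)
      simpa using this
    have h4 := hadm.2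
    omega
  by_cases hs : ∃ ηa ∈ Aff A z, ScalarAt A z ηa
  · obtain ⟨ηa, ha, hsa⟩ := hs
    let l3 : Module.Dual K V → Module.Dual K V := fun η => η - ηa
    have hl3 : ∀ a ∈ Aff A z, ∀ b ∈ Aff A z, ∀ s : K,
        l3 (a + s • (b - a)) = l3 a + s • (l3 b - l3 a) := by
      intro a _ b _ s
      simp only [l3]
      module
    have e3 : ∃ a ∈ Aff A z, l3 a ≠ 0 := by
      obtain ⟨η, hη, hne⟩ := exists_aff_ne hV A z hz1 ηa ha
      exact ⟨η, hη, sub_ne_zero.mpr hne⟩
    obtain ⟨η, hη, g1, g2, g3⟩ :=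
      exists_avoid_three hK (Aff A z) hline l1 l2 l3 hl1 hl2 hl3 e1 e2 e3
    refine ⟨η, hη, g1, g2, ?_, ?_⟩
    · intro hsc
      exact g3 (sub_eq_zero.mpr (scalarAt_unique hV A hA z hz1 η ηa hη ha hsc hsa))
    · exact rank_of_scalarAt hV A hadm.2 z hz1 hz4 ηa ha hsa η hη
  · push Not at hs
    by_cases hN : LinearMap.ker (A - 1) = ⊥
    · have hsurj : Function.Surjective ⇑(A - 1) :=
        LinearMap.injective_iff_surjective.mp (LinearMap.ker_eq_bot.mp hN)
      obtain ⟨x, hx⟩ := hsurj (A z)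
      by_cases h3 : ∃ η ∈ Aff A z, η x ≠ 0
      · let l3 : Module.Dual K V → K := fun η => η x
        have hl3 : ∀ a ∈ Aff A z, ∀ b ∈ Aff A z, ∀ s : K,
            l3 (a + s • (b - a)) = l3 a + s • (l3 b - l3 a) := by
          intro a _ b _ s
          simp [l3]
        obtain ⟨η, hη, g1, g2, g3⟩ :=
          exists_avoid_three hK (Aff A z) hline l1 l2 l3 hl1 hl2 hl3 e1 e2 h3
        refine ⟨η, hη, g1, g2, hs η hη, ?_⟩
        have := rank_Ntil_inj_of_ne A z η hη hN x hx g3
        omega
      · push Not at h3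
        have hxs := mem_span_of_aff_vanish A z hz1 x h3
        obtain ⟨t, ht⟩ := Submodule.mem_span_singleton.mp hxs
        by_cases hV3 : finrank K V = 3
        · exfalso
          obtain ⟨η, hη⟩ := aff_nonempty A z hz1
          have hηy : η (A z) = 1 := by
            have h1 := hη.1
            have h2 := hη.2
            rw [map_sub, h1] at h2
            exact sub_eq_zero.mp h2
          obtain ⟨A', hA'⟩ := exists_cmpr A z η hηy
          have hd := det_cmpr A z η hη A' hA'
          exact not_inj_of_dim_three hV3 A z hz1 t (by rw [ht]; exact hx) η hη A' hA'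
            (hd.trans hdet) hN
        · obtain ⟨η, hη, g1, g2, _⟩ :=
            exists_avoid_three hK (Aff A z) hline l1 l2 l1 hl1 hl2 hl1 e1 e2 e1
          refine ⟨η, hη, g1, g2, hs η hη, ?_⟩
          have := rank_Ntil_inj A z η hη hN
          omega
    · let l3 : Module.Dual K V → Module.Dual K (LinearMap.ker (A - 1)) :=
        fun η => η ∘ₗ (LinearMap.ker (A - 1)).subtype
      have hl3 : ∀ a ∈ Aff A z, ∀ b ∈ Aff A z, ∀ s : K,
          l3 (a + s • (b - a)) = l3 a + s • (l3 b - l3 a) := by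
        intro a _ b _ s
        ext v
        simp [l3]
      have e3 : ∃ a ∈ Aff A z, l3 a ≠ 0 := by
        by_contra h
        push Not at h
        apply hz5 hN
        intro k hk
        apply mem_span_of_aff_vanish A z hz1
        intro η hη
        exact LinearMap.congr_fun (h η hη) ⟨k, hk⟩
      obtain ⟨η, hη, g1, g2, g3⟩ :=
        exists_avoid_three hK (Aff A z) hline l1 l2 l3 hl1 hl2 hl3 e1 e2 e3
      obtain ⟨k, hk⟩ : ∃ k : LinearMap.ker (A - 1), η k ≠ 0 := by
        by_contra h
        push Not at h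
        exact g3 (LinearMap.ext h)
      refine ⟨η, hη, g1, g2, hs η hη, ?_⟩
      have := rank_Ntil_singular A z η hη (hz4 hN) k (LinearMap.mem_ker.mp k.2) hk
      exact le_trans hadm.2 this

end Cfsg.Agent.Lib.Helper3.RUProd
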