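import Mathlib
import Cfsg.Agent.Lib.Helper3.RUDefs
import Cfsg.Agent.Lib.Helper3.RU_R7
import Cfsg.Agent.Lib.Helper3.RU_R10
import Cfsg.Agent.Lib.Helper4.RU_R2
import Cfsg.Agent.Lib.Lead.RU_R12
import Cfsg.Agent.Lib.Lead.RU_R13

/-! # S2522, PK-R11: the induction on the dimension, and the matrix statement -/

set_option autoImplicit false
set_option linter.unusedSectionVars false
set_option linter.unusedVariables false

namespace Cfsg.Agent.Lib.Helper3.RUProd

open Module

universe u v

variable {K : Type u} [Field K] {V : Type v} [AddCommGroup V] [Module K V]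

/-! ## PK-R11 (helper3)  the induction -/
theorem good_of_adm (hK : ∃ s : Finset K, s.card = 4) (n : ℕ) (hn : 1 ≤ n) :
    ∀ (V : Type v) [AddCommGroup V] [Module K V] [FiniteDimensional K V], finrank K V = n →
    ∀ (A : Module.End K V), LinearMap.det A = 1 → (2 ≤ n → Adm A) →
    ∀ (c0 : V), c0 ≠ 0 → ∀ (r0 : Module.Dual K V), r0 ≠ 0 → Good n A c0 r0 := by
  induction n, hn using Nat.le_induction with
  | base =>
    intro V _ _ _ hV A hdet _ c0 hc0 r0 hr0
    have hA1 : A = 1 := eq_one_of_dim_one hV A hdet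
    have hnt : Nontrivial V := Module.nontrivial_of_finrank_pos (R := K) (by omega)
    refine ⟨1, 1, by rw [hA1, mul_one], ?_, ?_, ?_, ?_⟩
    · exact ⟨by simp, by simp⟩
    · exact ⟨by simp, by simp⟩
    · simpa using hc0
    · intro h
      apply hr0
      ext v
      have := LinearMap.congr_fun h v
      simpa using this
  | succ n hn ih =>
    intro V _ _ _ hV A hdet hadm c0 hc0 r0 hr0
    have hadm' := hadm (by omega)
    have hA : Function.Bijective A := by
      rw [← Module.End.isUnit_iff, LinearMap.isUnit_iff_isUnit_det, hdet]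
      exact isUnit_one
    obtain ⟨z, hz⟩ := exists_z hK (by omega) A hA hadm' c0 hc0 r0 hr0
    have key : ∃ η ∈ Aff A z, η c0 ≠ 0 ∧ η ∘ₗ (A - 1) ≠ 0 ∧ (2 ≤ n → AdmC A z η) := by
      by_cases h2 : 2 ≤ n
      · obtain ⟨η, hη, g1, g2, g3⟩ := exists_eta hK (by omega) A hA hdet hadm' c0 r0 z hz
        exact ⟨η, hη, g1, g2, fun _ => g3⟩
      · obtain ⟨η, hη⟩ := aff_nonempty A z hz.1
        refine ⟨η, hη, aff_c0_of_dim_two (by omega) A z hz.1 η hη c0 hz.2.2.1, ?_,
          fun h => absurd h h2⟩
        intro h0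
        have hsurj : LinearMap.range (A - 1) = ⊤ := by
          apply Submodule.eq_top_of_finrank_eq
          have h1 := hadm'.2
          have h3 := Submodule.finrank_le (LinearMap.range (A - 1))
          omega
        have hzr : z ∈ LinearMap.range (A - 1) := by rw [hsurj]; trivial
        obtain ⟨x, hx⟩ := hzr
        have h4 := LinearMap.congr_fun h0 x
        rw [LinearMap.comp_apply, hx, hη.1] at h4
        simp at h4
    obtain ⟨η, hη, g1, g2, g3⟩ := key
    have hηy : η (A z) = 1 := by
      have h1 := hη.1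
      have h2 := hη.2
      rw [map_sub, h1] at h2
      exact sub_eq_zero.mp h2
    obtain ⟨A', hA'⟩ := exists_cmpr A z η hηy
    have hd : LinearMap.det A' = 1 := (det_cmpr A z η hη A' hA').trans hdet
    obtain ⟨rtil, hr0', hrtil⟩ := exists_rtil A hA z η hη g2
    have hct : (⟨A z - z, hη.2⟩ : LinearMap.ker η) ≠ 0 := by
      intro h
      have h1 : A z - z = 0 := congrArg Subtype.val h
      have h2 := hz.1.ne_zero (1 : Fin 2)
      simp at h2
      exact h2 h1
    have hη0 : η ≠ 0 := by
      intro h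
      have := hη.1
      rw [h] at this
      simp at this
    have hdim : finrank K (LinearMap.ker η) = n := by
      have := Module.Dual.finrank_ker_add_one_of_ne_zero hη0
      omega
    have hgood := ih (LinearMap.ker η) hdim A' hd
      (fun h => adm_of_admC A z η hη A' hA' (g3 h)) ⟨A z - z, hη.2⟩ hct rtil hr0'
    exact good_of_cmpr hn hV A hA z η hη A' hA' c0 r0 g1 hz.2.1 ⟨A z - z, hη.2⟩ rfl rtil hrtil hgood

/-! ## the matrix statement -/
theorem prod_two_regular_unipotent (hK : 4 ≤ Cardinal.mk K) (n : ℕ) (hn : 3 ≤ n) (J g : GL (Fin n) K)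
    (hJ : ∀ i j : Fin n, (J : Matrix (Fin n) (Fin n) K) i j =
      if i = j then 1 else if j.val = i.val + 1 then 1 else 0)
    (hg : ¬ ∃ c : K, (g : Matrix (Fin n) (Fin n) K) = c • (1 : Matrix (Fin n) (Fin n) K))
    (hdet : (g : Matrix (Fin n) (Fin n) K).det = 1) :
    ∃ x y : GL (Fin n) K, g = (x * J * x⁻¹) * (y * J * y⁻¹) := by
  have hK4 : ∃ s : Finset K, s.card = 4 := by
    obtain ⟨s, hs⟩ := Cardinal.exists_finset_le_card K 4 (by exact_mod_cast hK)
    obtain ⟨t, _, ht⟩ := Finset.exists_subset_card_eq hs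
    exact ⟨t, ht⟩
  let A : Module.End K (Fin n → K) := Matrix.toLin' (g : Matrix (Fin n) (Fin n) K)
  have hdetA : LinearMap.det A = 1 := by
    show LinearMap.det (Matrix.toLin' (g : Matrix (Fin n) (Fin n) K)) = 1
    rw [LinearMap.det_toLin', hdet]
  have hns : ¬ ∃ c : K, A = c • (1 : Module.End K (Fin n → K)) := by
    rintro ⟨c, hc⟩
    apply hg
    refine ⟨c, ?_⟩
    apply Matrix.toLin'.injective
    rw [map_smul, Matrix.toLin'_one]
    exact hc
  have hfin : finrank K (Fin n → K) = n := Module.finrank_fin_fun K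
  have hLU : ∃ L U : Module.End K (Fin n → K), A = L * U ∧ RU n L ∧ RU n U := by
    by_cases hr : 2 ≤ finrank K (LinearMap.range (A - 1))
    · have i0 : Fin n := ⟨0, by omega⟩
      have hc0 : (Pi.single i0 (1 : K) : Fin n → K) ≠ 0 := by
        intro h
        have := congrFun h i0
        simp at this
      have hr0 : (LinearMap.proj i0 : Module.Dual K (Fin n → K)) ≠ 0 := by
        intro h
        have := LinearMap.congr_fun h (Pi.single i0 (1 : K))
        simp at this
      obtain ⟨L, U, h, hL, hU, _, _⟩ := good_of_adm hK4 n (by omega) (Fin n → K) hfin A hdetA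
        (fun _ => ⟨hns, hr⟩) _ hc0 _ hr0
      exact ⟨L, U, h, hL, hU⟩
    · have h1 : finrank K (LinearMap.range (A - 1)) = 1 := by
        have h0 : finrank K (LinearMap.range (A - 1)) ≠ 0 := by
          intro h0
          apply hns
          refine ⟨1, ?_⟩
          rw [one_smul]
          have hb : LinearMap.range (A - 1) = ⊥ := Submodule.finrank_eq_zero.mp h0
          have hz : A - 1 = 0 := LinearMap.range_eq_bot.mp hb
          exact sub_eq_zero.mp hz
        omega
      exact exists_RU_factor_of_rank_one hn hfin A hdetA h1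
  obtain ⟨L, U, h, hL, hU⟩ := hLU
  obtain ⟨x, hx⟩ := exists_gl_conj_of_RU (by omega) J hJ L hL
  obtain ⟨y, hy⟩ := exists_gl_conj_of_RU (by omega) J hJ U hU
  refine ⟨x, y, ?_⟩
  apply Units.ext
  apply Matrix.toLin'.injective
  show A = Matrix.toLin' ((x * J * x⁻¹ * (y * J * y⁻¹) : GL (Fin n) K) : Matrix (Fin n) (Fin n) K)
  rw [Units.val_mul (x * J * x⁻¹) (y * J * y⁻¹), Matrix.toLin'_mul, h, hx, hy]
  rfl

end Cfsg.Agent.Lib.Helper3.RUProd
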