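import Mathlib
import Cfsg.Prelude.Def_LieRecognition
import Cfsg.Agent.Lib.Helper3.Isolated

set_option autoImplicit false

namespace Cfsg.Agent.Lib.Helper3.RankOne

open MulAction
open scoped Pointwise

variable {G Ω : Type*} [Group G] [MulAction G Ω] {a : Ω} {t : G} {Q : Subgroup G}

theorem ta_ne (hS : Cfsg.IsRankOneSetup G Ω a t Q) : t • a ≠ a := fun h =>
  hS.not_mem (mem_stabilizer_iff.mpr h)

theorem t_inv (hS : Cfsg.IsRankOneSetup G Ω a t Q) : t⁻¹ = t :=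
  inv_eq_of_mul_eq_one_right hS.mul_self

theorem tta (hS : Cfsg.IsRankOneSetup G Ω a t Q) : t • t • a = a := by
  rw [← mul_smul, hS.mul_self, one_smul]

/-- every element of `G_a` is `x * d` with `x ∈ Q`, `d ∈ D` -/
theorem exists_mul_of_mem_stabilizer (hS : Cfsg.IsRankOneSetup G Ω a t Q) {h : G}
    (hh : h ∈ stabilizer G a) :
    ∃ x ∈ Q, ∃ d ∈ stabilizer G a ⊓ stabilizer G (t • a), h = x * d := by
  have h1 : h ∈ Q ⊔ (stabilizer G a ⊓ stabilizer G (t • a)) := by rw [hS.sup_eq]; exact hh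
  -- Q is normalized by D
  have hnorm : (stabilizer G a ⊓ stabilizer G (t • a)) ≤ Subgroup.normalizer (Q : Set G) := by
    intro d hd
    rw [Subgroup.mem_normalizer_iff]
    intro x
    constructor
    · intro hx; exact hS.conj_mem d hd.1 x hx
    · intro hx
      have := hS.conj_mem d⁻¹ ((stabilizer G a).inv_mem hd.1) _ hx
      simpa [mul_assoc] using this
  rw [sup_comm, Subgroup.sup_eq_closure_mul] at h1
  have key : ∀ z ∈ Subgroup.closure ((((stabilizer G a ⊓ stabilizer G (t • a)) : Subgroup G) : Set G) * (Q : Set G)),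
      ∃ x ∈ Q, ∃ d ∈ stabilizer G a ⊓ stabilizer G (t • a), z = x * d := by
    intro z hz
    induction hz using Subgroup.closure_induction with
    | mem z hz =>
      obtain ⟨d, hd, x, hx, rfl⟩ := hz
      refine ⟨d * x * d⁻¹, hS.conj_mem d hd.1 x hx, d, hd, by group⟩
    | one => exact ⟨1, Q.one_mem, 1, Subgroup.one_mem _, by simp⟩
    | mul z w _ _ ihz ihw =>
      obtain ⟨x, hx, d, hd, rfl⟩ := ihz
      obtain ⟨y, hy, e, he, rfl⟩ := ihw
      refine ⟨x * (d * y * d⁻¹), Q.mul_mem hx (hS.conj_mem d hd.1 y hy), d * e,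
        Subgroup.mul_mem _ hd he, by group⟩
    | inv z _ ihz =>
      obtain ⟨x, hx, d, hd, rfl⟩ := ihz
      refine ⟨d⁻¹ * x⁻¹ * (d⁻¹)⁻¹, hS.conj_mem d⁻¹ ((stabilizer G a).inv_mem hd.1) _ (Q.inv_mem hx),
        d⁻¹, Subgroup.inv_mem _ hd, by group⟩
  exact key h h1

/-- `Q` is transitive on the points other than `a`. -/
theorem exists_mem_Q_smul_ta (hS : Cfsg.IsRankOneSetup G Ω a t Q) {c : Ω} (hc : c ≠ a) :
    ∃ x ∈ Q, x • (t • a) = c := by
  have h2 : ∀ {a b c d : Ω}, a ≠ b → c ≠ d → ∃ g : G, g • a = c ∧ g • b = d :=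
    is_two_pretransitive_iff.mp hS.two_transitive
  obtain ⟨g, hg1, hg2⟩ := h2 (ta_ne hS).symm hc.symm
  obtain ⟨x, hx, d, hd, rfl⟩ := exists_mul_of_mem_stabilizer hS (mem_stabilizer_iff.mpr hg1)
  refine ⟨x, hx, ?_⟩
  rw [mul_smul, mem_stabilizer_iff.mp hd.2] at hg2
  exact hg2

/-- A nonidentity element of `Q` fixes only `a`. -/
theorem eq_one_of_smul_eq (hS : Cfsg.IsRankOneSetup G Ω a t Q) {x : G} (hx : x ∈ Q) {c : Ω}
    (hc : c ≠ a) (hxc : x • c = c) : x = 1 := by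
  obtain ⟨y, hy, rfl⟩ := exists_mem_Q_smul_ta hS hc
  have h1 : (y⁻¹ * x * y) • (t • a) = t • a := by
    rw [mul_smul, mul_smul, hxc, ← mul_smul, inv_mul_cancel, one_smul]
  have h2 : y⁻¹ * x * y ∈ Q ⊓ stabilizer G (t • a) :=
    ⟨Q.mul_mem (Q.mul_mem (Q.inv_mem hy) hx) hy, mem_stabilizer_iff.mpr h1⟩
  rw [hS.inf_eq_bot, Subgroup.mem_bot] at h2
  calc x = y * (y⁻¹ * x * y) * y⁻¹ := by group
    _ = 1 := by rw [h2]; group

theorem smul_a_of_mem_Q (hS : Cfsg.IsRankOneSetup G Ω a t Q) {x : G} (hx : x ∈ Q) : x • a = a :=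
  mem_stabilizer_iff.mp (hS.le hx)

theorem smul_ne_a (g : G) {c : Ω} (hg : g • a = a) (hc : c ≠ a) : g • c ≠ a := by
  intro h
  apply hc
  have : g • c = g • a := by rw [h, hg]
  exact smul_left_cancel g this

/-- regularity of `Q` on the points other than `a` -/
theorem existsUnique_mem_Q_smul (hS : Cfsg.IsRankOneSetup G Ω a t Q) {b c : Ω} (hb : b ≠ a)
    (hc : c ≠ a) : ∃! x : Q, (x : G) • b = c := by
  obtain ⟨y, hy, rfl⟩ := exists_mem_Q_smul_ta hS hb
  obtain ⟨z, hz, rfl⟩ := exists_mem_Q_smul_ta hS hc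
  refine ⟨⟨z * y⁻¹, Q.mul_mem hz (Q.inv_mem hy)⟩, ?_, ?_⟩
  · simp only [mul_smul, inv_smul_smul]
  · rintro ⟨x, hx⟩ hxe
    simp only at hxe
    apply Subtype.ext
    simp only
    have h1 : (z⁻¹ * x * y) • (t • a) = t • a := by
      rw [mul_smul, mul_smul, hxe, inv_smul_smul]
    have h2 := eq_one_of_smul_eq hS (Q.mul_mem (Q.mul_mem (Q.inv_mem hz) hx) hy) (ta_ne hS) h1
    calc x = z * (z⁻¹ * x * y) * y⁻¹ := by group
      _ = z * y⁻¹ := by rw [h2]; group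

/-- `Q` has a non-identity element -/
theorem exists_ne_one (hS : Cfsg.IsRankOneSetup G Ω a t Q) : ∃ x ∈ Q, x ≠ 1 := by
  by_contra h
  push Not at h
  have : Subsingleton Q := ⟨fun x y => Subtype.ext ((h x x.2).trans (h y y.2).symm)⟩
  have h1 : Nat.card Q = 1 := Nat.card_eq_one_iff_unique.mpr ⟨this, ⟨1⟩⟩
  have := hS.even_card
  rw [h1] at this
  exact absurd this (by decide)

/-- an involution of `G_a` lies in `Q` -/
theorem involution_mem_Q [Finite G] (hS : Cfsg.IsRankOneSetup G Ω a t Q) {s : G}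
    (hs : s ∈ stabilizer G a) (hss : s * s = 1) : s ∈ Q := by
  obtain ⟨x, hx, d, hd, rfl⟩ := exists_mul_of_mem_stabilizer hS hs
  -- d * d ∈ Q ∩ D ... use: (x d)(x d) = x (d x d⁻¹) d² so d² ∈ Q
  have h1 : d * d ∈ Q := by
    have e : d * d = (d * x * d⁻¹)⁻¹ * x⁻¹ * (x * d * (x * d)) := by group
    rw [e, hss, mul_one]
    exact Q.mul_mem (Q.inv_mem (hS.conj_mem d hd.1 x hx)) (Q.inv_mem hx)
  have h2 : d * d ∈ Q ⊓ stabilizer G (t • a) := ⟨h1, (Subgroup.mul_mem _ hd hd).2⟩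
  rw [hS.inf_eq_bot, Subgroup.mem_bot] at h2
  -- d has odd order
  have hodd : Odd (orderOf d) := by
    have h3 : orderOf (⟨d, hd⟩ : (stabilizer G a ⊓ stabilizer G (t • a) : Subgroup G)) ∣ _ :=
      orderOf_dvd_natCard _
    rw [← Subgroup.orderOf_coe] at h3
    exact Odd.of_dvd_nat hS.odd_card h3
  have hd1 : d = 1 := eq_one_of_odd_of_mul_self d hodd h2
  rw [hd1, mul_one]; exact hx

end Cfsg.Agent.Lib.Helper3.RankOne
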