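import Mathlib
import Cfsg.Prelude.Def_LieRecognition
import Cfsg.Agent.Lib.Helper3.RankOne

set_option autoImplicit false

namespace Cfsg.Agent.Lib.Helper3.RankOne

open MulAction
open scoped Pointwise

variable {G Ω : Type*} [Group G] [MulAction G Ω] {a : Ω} {t : G} {Q : Subgroup G}

/-- `Q ∩ D = 1` in the form used for uniqueness of `x * d` decompositions -/
theorem mul_unique (hS : Cfsg.IsRankOneSetup G Ω a t Q) {x y d e : G} (hx : x ∈ Q) (hy : y ∈ Q)
    (hd : d ∈ stabilizer G a ⊓ stabilizer G (t • a))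
    (he : e ∈ stabilizer G a ⊓ stabilizer G (t • a)) (h : x * d = y * e) : x = y ∧ d = e := by
  have h1 : y⁻¹ * x = e * d⁻¹ := by
    have : y⁻¹ * x = y⁻¹ * (x * d) * d⁻¹ := by group
    rw [this, h]; group
  have h2 : y⁻¹ * x ∈ Q ⊓ stabilizer G (t • a) := by
    refine ⟨Q.mul_mem (Q.inv_mem hy) hx, ?_⟩
    rw [h1]
    exact Subgroup.mul_mem _ he.2 (Subgroup.inv_mem _ hd.2)
  rw [hS.inf_eq_bot, Subgroup.mem_bot] at h2
  have hxy : x = y := by
    calc x = y * (y⁻¹ * x) := by group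
      _ = y := by rw [h2, mul_one]
  refine ⟨hxy, ?_⟩
  subst hxy
  exact mul_left_cancel h

/-- `|G_a| = |Q| |D|` -/
theorem card_stabilizer (hS : Cfsg.IsRankOneSetup G Ω a t Q) :
    Nat.card (stabilizer G a) =
      Nat.card Q * Nat.card ↥(stabilizer G a ⊓ stabilizer G (t • a)) := by
  rw [← Nat.card_prod]
  symm
  refine Nat.card_congr (Equiv.ofBijective
    (fun p : Q × ↥(stabilizer G a ⊓ stabilizer G (t • a)) =>
      (⟨(p.1 : G) * (p.2 : G), Subgroup.mul_mem _ (hS.le p.1.2) p.2.2.1⟩ : stabilizer G a)) ⟨?_, ?_⟩)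
  · rintro ⟨⟨x, hx⟩, ⟨d, hd⟩⟩ ⟨⟨y, hy⟩, ⟨e, he⟩⟩ h
    simp only [Subtype.mk.injEq] at h
    obtain ⟨h1, h2⟩ := mul_unique hS hx hy hd he h
    subst h1; subst h2; rfl
  · rintro ⟨h, hh⟩
    obtain ⟨x, hx, d, hd, rfl⟩ := exists_mul_of_mem_stabilizer hS hh
    exact ⟨⟨⟨x, hx⟩, ⟨d, hd⟩⟩, rfl⟩

/-- the points other than `a` are in bijection with `Q` -/
noncomputable def equivNe (hS : Cfsg.IsRankOneSetup G Ω a t Q) : Q ≃ {c : Ω // c ≠ a} :=
  Equiv.ofBijective
    (fun x => ⟨(x : G) • (t • a), smul_ne_a (x : G) (smul_a_of_mem_Q hS x.2) (ta_ne hS)⟩)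
    ⟨by
      intro x y h
      simp only [Subtype.mk.injEq] at h
      obtain ⟨z, _, hz⟩ := existsUnique_mem_Q_smul hS (ta_ne hS)
        (smul_ne_a (y : G) (smul_a_of_mem_Q hS y.2) (ta_ne hS))
      rw [hz x h, hz y rfl],
    by
      rintro ⟨c, hc⟩
      obtain ⟨x, hx, rfl⟩ := exists_mem_Q_smul_ta hS hc
      exact ⟨⟨x, hx⟩, rfl⟩⟩

theorem finite_omega [Finite G] (hS : Cfsg.IsRankOneSetup G Ω a t Q) : Finite Ω := by
  have h2 : ∀ {a b c d : Ω}, a ≠ b → c ≠ d → ∃ g : G, g • a = c ∧ g • b = d :=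
    is_two_pretransitive_iff.mp hS.two_transitive
  have hsurj : Function.Surjective (fun g : G => g • a) := by
    intro c
    by_cases hc : c = a
    · exact ⟨1, by simp [hc]⟩
    · obtain ⟨g, hg, -⟩ := h2 (ta_ne hS).symm hc
      exact ⟨g, hg⟩
  exact Finite.of_surjective _ hsurj

theorem isPretransitive (hS : Cfsg.IsRankOneSetup G Ω a t Q) : IsPretransitive G Ω := by
  have h2 : ∀ {a b c d : Ω}, a ≠ b → c ≠ d → ∃ g : G, g • a = c ∧ g • b = d :=
    is_two_pretransitive_iff.mp hS.two_transitive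
  have hsurj : ∀ c : Ω, ∃ g : G, g • a = c := by
    intro c
    by_cases hc : c = a
    · exact ⟨1, by simp [hc]⟩
    · obtain ⟨g, hg, -⟩ := h2 (ta_ne hS).symm hc
      exact ⟨g, hg⟩
  refine ⟨fun x y => ?_⟩
  obtain ⟨g, rfl⟩ := hsurj x
  obtain ⟨h, rfl⟩ := hsurj y
  exact ⟨h * g⁻¹, by simp [mul_smul]⟩

theorem card_omega [Finite G] (hS : Cfsg.IsRankOneSetup G Ω a t Q) :
    Nat.card Ω = Nat.card Q + 1 := by
  classical
  have := finite_omega hS
  rw [Nat.card_congr (equivNe hS)]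
  have e : Ω ≃ Option {c : Ω // c ≠ a} :=
    { toFun := fun c => if h : c = a then none else some ⟨c, h⟩
      invFun := fun o => o.elim a (fun c => c.1)
      left_inv := by
        intro c
        by_cases h : c = a
        · simp [h]
        · simp [h]
      right_inv := by
        intro o
        cases o with
        | none => simp
        | some c => simp [c.2] }
  rw [Nat.card_congr e, Finite.card_option]

theorem card_group [Finite G] (hS : Cfsg.IsRankOneSetup G Ω a t Q) :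
    Nat.card G = Nat.card Q * Nat.card ↥(stabilizer G a ⊓ stabilizer G (t • a)) *
      (Nat.card Q + 1) := by
  have := isPretransitive hS
  have h1 := (stabilizer G a).card_mul_index
  rw [MulAction.index_stabilizer_of_transitive, card_omega hS, card_stabilizer hS] at h1
  exact h1.symm

/-- canonical form: existence -/
theorem exists_canonical (hS : Cfsg.IsRankOneSetup G Ω a t Q) {g : G}
    (hg : g ∉ stabilizer G a) : ∃ h ∈ stabilizer G a, ∃ y ∈ Q, g = h * t * y := by
  have h1 : g⁻¹ • a ≠ a := by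
    intro h
    apply hg
    have : g⁻¹ ∈ stabilizer G a := mem_stabilizer_iff.mpr h
    simpa using (stabilizer G a).inv_mem this
  obtain ⟨z, hz, hze⟩ := exists_mem_Q_smul_ta hS h1
  refine ⟨g * z * t, ?_, z⁻¹, Q.inv_mem hz, ?_⟩
  · rw [mem_stabilizer_iff, mul_smul, mul_smul, hze, smul_inv_smul]
  · have := hS.mul_self
    calc g = g * z * (t * t) * z⁻¹ := by rw [this]; group
      _ = g * z * t * t * z⁻¹ := by group

/-- canonical form: uniqueness -/
theorem canonical_unique (hS : Cfsg.IsRankOneSetup G Ω a t Q) {h h' y y' : G}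
    (hh : h ∈ stabilizer G a) (hh' : h' ∈ stabilizer G a) (hy : y ∈ Q) (hy' : y' ∈ Q)
    (e : h * t * y = h' * t * y') : h = h' ∧ y = y' := by
  have h1 : (h * t * y)⁻¹ • a = y⁻¹ • (t • a) := by
    have : (h * t * y)⁻¹ = y⁻¹ * t⁻¹ * h⁻¹ := by group
    rw [this, mul_smul, mul_smul, t_inv hS]
    congr 2
    exact mem_stabilizer_iff.mp ((stabilizer G a).inv_mem hh)
  have h2 : (h' * t * y')⁻¹ • a = y'⁻¹ • (t • a) := by
    have : (h' * t * y')⁻¹ = y'⁻¹ * t⁻¹ * h'⁻¹ := by group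
    rw [this, mul_smul, mul_smul, t_inv hS]
    congr 2
    exact mem_stabilizer_iff.mp ((stabilizer G a).inv_mem hh')
  rw [e, h2] at h1
  have h3 : (y * y'⁻¹) • (t • a) = t • a := by
    rw [mul_smul, h1, smul_inv_smul]
  have h4 := eq_one_of_smul_eq hS (Q.mul_mem hy (Q.inv_mem hy')) (ta_ne hS) h3
  have hyy : y = y' := by
    calc y = y * y'⁻¹ * y' := by group
      _ = y' := by rw [h4, one_mul]
  refine ⟨?_, hyy⟩
  subst hyy
  exact mul_right_cancel (mul_right_cancel e)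

/-- A Sylow 2-subgroup of `G` inside `Q`. -/
theorem exists_sylow_le [Finite G] (hS : Cfsg.IsRankOneSetup G Ω a t Q) :
    ∃ P : Sylow 2 G, (P : Subgroup G) ≤ Q := by
  have : Fact (Nat.Prime 2) := ⟨Nat.prime_two⟩
  obtain ⟨P₀⟩ : Nonempty (Sylow 2 Q) := inferInstance
  have hcardG := card_group hS
  have hP₀ : Nat.card (P₀ : Subgroup Q) = 2 ^ (Nat.card Q).factorization 2 :=
    P₀.card_eq_multiplicity
  have hQpos : Nat.card Q ≠ 0 := Nat.card_pos.ne'
  have hDpos : Nat.card ↥(stabilizer G a ⊓ stabilizer G (t • a)) ≠ 0 := Nat.card_pos.ne'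
  have hodd1 : ¬ 2 ∣ Nat.card ↥(stabilizer G a ⊓ stabilizer G (t • a)) := by
    rw [← even_iff_two_dvd, Nat.not_even_iff_odd]; exact hS.odd_card
  have hodd2 : ¬ 2 ∣ Nat.card Q + 1 := by
    rw [← even_iff_two_dvd, Nat.not_even_iff_odd]; exact hS.even_card.add_one
  have hfac : (Nat.card G).factorization 2 = (Nat.card Q).factorization 2 := by
    rw [hcardG, Nat.factorization_mul (Nat.mul_ne_zero hQpos hDpos) (by omega),
      Nat.factorization_mul hQpos hDpos]
    simp only [Finsupp.coe_add, Pi.add_apply]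
    rw [Nat.factorization_eq_zero_of_not_dvd hodd1, Nat.factorization_eq_zero_of_not_dvd hodd2]
    omega
  have hmap : Nat.card ((P₀ : Subgroup Q).map Q.subtype) = 2 ^ (Nat.card G).factorization 2 := by
    rw [Subgroup.card_subtype, hP₀, hfac] <;> exact Q.subtype_injective
  refine ⟨Sylow.ofCard _ hmap, ?_⟩
  rw [Sylow.coe_ofCard]
  exact Subgroup.map_subtype_le _

end Cfsg.Agent.Lib.Helper3.RankOne
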