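import Mathlib
import Cfsg.Prelude.Def_LieRecognition
import Cfsg.Agent.Lib.Helper3.RankOne2

set_option autoImplicit false

namespace Cfsg.Agent.Lib.Helper3.RankOne

open MulAction
open scoped Pointwise

variable {G Ω : Type*} [Group G] [MulAction G Ω] {a : Ω} {t : G} {Q : Subgroup G}

/-- `t` normalizes the two point stabilizer `D` -/
theorem t_conj_mem_D (hS : Cfsg.IsRankOneSetup G Ω a t Q) {c : G}
    (hc : c ∈ stabilizer G a ⊓ stabilizer G (t • a)) :
    t * c * t ∈ stabilizer G a ⊓ stabilizer G (t • a) := by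
  have h1 : c • a = a := mem_stabilizer_iff.mp hc.1
  have h2 : c • (t • a) = t • a := mem_stabilizer_iff.mp hc.2
  refine Subgroup.mem_inf.mpr ⟨?_, ?_⟩
  · rw [mem_stabilizer_iff, mul_smul, mul_smul, h2, tta hS]
  · rw [mem_stabilizer_iff, mul_smul, mul_smul, tta hS, h1]

theorem ttc (hS : Cfsg.IsRankOneSetup G Ω a t Q) (c : G) : t * (t * c * t) * t = c := by
  have := hS.mul_self
  calc t * (t * c * t) * t = (t * t) * c * (t * t) := by group
    _ = c := by rw [this]; group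

/-- uniqueness of the decomposition `g * h * t * f` with `g, f ∈ Q`, `h ∈ D` -/
theorem decomp_unique (hS : Cfsg.IsRankOneSetup G Ω a t Q) {g h f g' h' f' : G}
    (hg : g ∈ Q) (hh : h ∈ stabilizer G a ⊓ stabilizer G (t • a)) (hf : f ∈ Q)
    (hg' : g' ∈ Q) (hh' : h' ∈ stabilizer G a ⊓ stabilizer G (t • a)) (hf' : f' ∈ Q)
    (e : g * h * t * f = g' * h' * t * f') : g = g' ∧ h = h' ∧ f = f' := by
  obtain ⟨e1, e2⟩ := canonical_unique hS (Subgroup.mul_mem _ (hS.le hg) hh.1)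
    (Subgroup.mul_mem _ (hS.le hg') hh'.1) hf hf' e
  obtain ⟨e3, e4⟩ := mul_unique hS hg hg' hh hh' e1
  exact ⟨e3, e4, e2⟩

theorem conj_mem_Q_of_mem_D (hS : Cfsg.IsRankOneSetup G Ω a t Q) {c x : G}
    (hc : c ∈ stabilizer G a ⊓ stabilizer G (t • a)) (hx : x ∈ Q) : c * x * c⁻¹ ∈ Q :=
  hS.conj_mem c hc.1 x hx

theorem conj_mem_Q_of_mem_D' (hS : Cfsg.IsRankOneSetup G Ω a t Q) {c x : G}
    (hc : c ∈ stabilizer G a ⊓ stabilizer G (t • a)) (hx : x ∈ Q) : c⁻¹ * x * c ∈ Q := by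
  have := hS.conj_mem c⁻¹ ((stabilizer G a).inv_mem hc.1) x hx
  simpa using this

end Cfsg.Agent.Lib.Helper3.RankOne
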