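import Mathlib
import Cfsg.Agent.S1121
import Cfsg.Agent.Lib.Helper3.RankOne3
import Cfsg.Agent.Lib.Helper3.InvFix

set_option autoImplicit false

namespace Cfsg.Agent.Lib.Helper3.RankOne

open MulAction
open Cfsg.Agent.Lib.Helper1 Cfsg.Agent.Lib.Helper3 Cfsg.Agent.Lib.Helper3.StrEmb
open Cfsg.Agent.Lib.Helper3.InvFix

variable {G Ω : Type*} [Group G] [Finite G] [MulAction G Ω] {a : Ω} {t : G} {Q : Subgroup G}

omit [Finite G] in
theorem orderOf_two_iff {u : G} : orderOf u = 2 ↔ (u ≠ 1 ∧ u * u = 1) := by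
  constructor
  · intro h
    exact ⟨fun h1 => by rw [h1, orderOf_one] at h; omega, invol_mul_self h⟩
  · rintro ⟨h1, h2⟩
    exact orderOf_two_of_mul_self h2 h1

/-- `Q` contains an involution -/
theorem exists_involution_mem_Q (hS : Cfsg.IsRankOneSetup G Ω a t Q) :
    ∃ s ∈ Q, orderOf s = 2 := by
  have : Fact (Nat.Prime 2) := ⟨Nat.prime_two⟩
  obtain ⟨s₀, hs₀⟩ : ∃ s : Q, orderOf s = 2 := by
    have := Fintype.ofFinite Q
    apply exists_prime_orderOf_dvd_card 2
    rw [← Nat.card_eq_fintype_card]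
    exact even_iff_two_dvd.mp hS.even_card
  exact ⟨s₀, s₀.2, by rw [Subgroup.orderOf_coe]; exact hs₀⟩

omit [Finite G] in
/-- an involution of `Q` fixes only `a` -/
theorem involution_fix_iff (hS : Cfsg.IsRankOneSetup G Ω a t Q) {s : G} (hs : s ∈ Q)
    (hs2 : orderOf s = 2) (c : Ω) : s • c = c ↔ c = a := by
  constructor
  · intro h
    by_contra hc
    have := eq_one_of_smul_eq hS hs hc h
    rw [this, orderOf_one] at hs2; omega
  · rintro rfl; exact smul_a_of_mem_Q hS hs

/-- in the rank-one set-up every involution fixes exactly one point -/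
theorem uniqueFix (hS : Cfsg.IsRankOneSetup G Ω a t Q) : UniqueFix G Ω := by
  intro u hu
  obtain ⟨s₀, hs₀Q, hs₀2⟩ := exists_involution_mem_Q hS
  have h1 := orderOf_two_iff.mp hs₀2
  have h2 := orderOf_two_iff.mp hu
  obtain ⟨g, hg⟩ := (Cfsg.Agent.S1121.result hS).2 s₀ u h1.1 h1.2 h2.1 h2.2
  refine ⟨g • a, ?_, ?_⟩
  · show u • g • a = g • a
    rw [← hg, ← mul_smul]
    have : g * s₀ * g⁻¹ * g = g * s₀ := by group
    rw [this, mul_smul, smul_a_of_mem_Q hS hs₀Q]
  · intro c hc
    have h3 : s₀ • (g⁻¹ • c) = g⁻¹ • c := by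
      have : s₀ = g⁻¹ * u * g := by rw [← hg]; group
      rw [this, ← mul_smul]
      have e : g⁻¹ * u * g * g⁻¹ = g⁻¹ * u := by group
      rw [e, mul_smul, hc]
    have h4 := (involution_fix_iff hS hs₀Q hs₀2 _).mp h3
    rw [← h4, smul_inv_smul]

/-- an involution of `G_a` fixes only `a` -/
theorem involution_stab_fix_iff (hS : Cfsg.IsRankOneSetup G Ω a t Q) {s : G}
    (hs : s ∈ stabilizer G a) (hs2 : orderOf s = 2) (c : Ω) : s • c = c ↔ c = a :=
  involution_fix_iff hS (involution_mem_Q hS hs (invol_mul_self hs2)) hs2 c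

omit [Finite G] in
/-- an involution mapping `a` to `t • a` is `k * t` with `k ∈ D` inverted by `t` -/
theorem swap_mul_t_mem (hS : Cfsg.IsRankOneSetup G Ω a t Q) {w : G} (hw : orderOf w = 2)
    (hwa : w • a = t • a) :
    w * t ∈ Cfsg.invertedBy (stabilizer G a ⊓ stabilizer G (t • a)) t := by
  have hww := invol_mul_self hw
  have hwta : w • t • a = a := by rw [← hwa, ← mul_smul, hww, one_smul]
  have h1 : w * t ∈ stabilizer G a := by rw [mem_stabilizer_iff, mul_smul, hwta]
  have h2 : w * t ∈ stabilizer G (t • a) := by rw [mem_stabilizer_iff, mul_smul, tta hS, hwa]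
  refine ⟨⟨h1, h2⟩, ?_⟩
  · rw [t_inv hS]
    have e1 : t * (w * t) * t = t * w * (t * t) := by group
    rw [e1, hS.mul_self, mul_one, mul_inv_rev, t_inv hS, invol_inv hw]

omit [Finite G] in
/-- conversely `k * t` is an involution mapping `a` to `t • a` -/
theorem mul_t_swap (hS : Cfsg.IsRankOneSetup G Ω a t Q) {k : G}
    (hk : k ∈ Cfsg.invertedBy (stabilizer G a ⊓ stabilizer G (t • a)) t) :
    orderOf (k * t) = 2 ∧ (k * t) • a = t • a := by
  obtain ⟨⟨hka, hkta⟩, hinv⟩ := hk
  rw [t_inv hS] at hinv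
  constructor
  · apply orderOf_two_of_mul_self
    · calc k * t * (k * t) = k * (t * k * t) := by group
        _ = 1 := by rw [hinv, mul_inv_cancel]
    · intro h
      apply hS.not_mem
      have : t = k⁻¹ := by
        calc t = k⁻¹ * (k * t) := by group
          _ = k⁻¹ := by rw [h, mul_one]
      rw [this]; exact Subgroup.inv_mem _ hka
  · rw [mul_smul, mem_stabilizer_iff.mp hkta]

end Cfsg.Agent.Lib.Helper3.RankOne
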