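import Mathlib
import Cfsg.Agent.Lib.Helper3.RankOne4

set_option autoImplicit false

namespace Cfsg.Agent.Lib.Helper3.RankOne
open MulAction
open Cfsg.Agent.Lib.Helper3 Cfsg.Agent.Lib.Helper3.InvFix Cfsg.Agent.Lib.Helper3.StrEmb

variable {G Ω : Type*} [Group G] [Finite G] [MulAction G Ω] {a : Ω} {t : G} {Q : Subgroup G}

/-- the transitivity part of the counting lemma: the elements of `D` inverted by `t` permute the
involutions of `G_a` transitively -/
theorem inverted_transitive (hS : Cfsg.IsRankOneSetup G Ω a t Q) {s s' : G}
    (hs : s ∈ stabilizer G a) (hs2 : orderOf s = 2) (hs' : s' ∈ stabilizer G a)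
    (hs'2 : orderOf s' = 2) :
    ∃ k ∈ Cfsg.invertedBy (stabilizer G a ⊓ stabilizer G (t • a)) t, k⁻¹ * s * k = s' := by
  have hU := uniqueFix hS
  have hv2 : orderOf (t * s' * t) = 2 := by
    have := orderOf_conj t s'
    rw [t_inv hS] at this
    rw [this]; exact hs'2
  have hvfix : (t * s' * t) • (t • a) = t • a := by
    rw [← mul_smul]
    have : t * s' * t * t = t * s' * (t * t) := by group
    rw [this, hS.mul_self, mul_one, mul_smul, mem_stabilizer_iff.mp hs']
  obtain ⟨i, hi2, hconj, hia⟩ := exists_involution_conj hU hs2 hv2 (mem_stabilizer_iff.mp hs) hvfix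
    (ta_ne hS).symm
  refine ⟨i * t, swap_mul_t_mem hS hi2 hia, ?_⟩
  rw [mul_inv_rev, t_inv hS]
  have hii := invol_inv hi2
  calc t * i⁻¹ * s * (i * t) = t * (i * s * i⁻¹) * t := by rw [hii]; group
    _ = t * (t * s' * t) * t := by rw [hconj]
    _ = (t * t) * s' * (t * t) := by group
    _ = s' := by rw [hS.mul_self, one_mul, mul_one]

/-- the counting part -/
theorem card_inverted (hS : Cfsg.IsRankOneSetup G Ω a t Q) :
    Nat.card (Cfsg.invertedBy (stabilizer G a ⊓ stabilizer G (t • a)) t) =
      Nat.card (Cfsg.involutionsIn (stabilizer G a : Set G)) := by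
  have hU := uniqueFix hS
  obtain ⟨s₀, hs₀Q, hs₀2⟩ := exists_involution_mem_Q hS
  have h1 := card_involutions_smul_eq hU (ta_ne hS).symm s₀ hs₀2 (smul_a_of_mem_Q hS hs₀Q)
  -- inverted elements ↔ involutions swapping
  have e1 : Nat.card (Cfsg.invertedBy (stabilizer G a ⊓ stabilizer G (t • a)) t) =
      Nat.card {i : G // orderOf i = 2 ∧ i • a = t • a} := by
    refine Nat.card_congr
      { toFun := fun k => ⟨k.1 * t, mul_t_swap hS k.2⟩
        invFun := fun i => ⟨i.1 * t, swap_mul_t_mem hS i.2.1 i.2.2⟩
        left_inv := fun k => by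
          apply Subtype.ext
          show k.1 * t * t = k.1
          rw [mul_assoc, hS.mul_self, mul_one]
        right_inv := fun i => by
          apply Subtype.ext
          show i.1 * t * t = i.1
          rw [mul_assoc, hS.mul_self, mul_one] }
  -- involutions fixing `t • a` ↔ involutions of `G_a`
  have e2 : Nat.card {u : G // orderOf u = 2 ∧ u • (t • a) = t • a} =
      Nat.card (Cfsg.involutionsIn (stabilizer G a : Set G)) := by
    refine Nat.card_congr
      { toFun := fun u => ⟨t * u.1 * t, by
          have ho : orderOf (t * u.1 * t) = 2 := by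
            have := orderOf_conj t u.1
            rw [t_inv hS] at this
            rw [this]; exact u.2.1
          have ho' := orderOf_two_iff.mp ho
          refine ⟨?_, ho'.1, ho'.2⟩
          show t * u.1 * t ∈ stabilizer G a
          rw [mem_stabilizer_iff, mul_smul, mul_smul, u.2.2, tta hS]⟩
        invFun := fun s => ⟨t * s.1 * t, by
          obtain ⟨hsa, hs1, hss⟩ := s.2
          have ho : orderOf (t * s.1 * t) = 2 := by
            have := orderOf_conj t s.1
            rw [t_inv hS] at this
            rw [this]; exact orderOf_two_iff.mpr ⟨hs1, hss⟩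
          refine ⟨ho, ?_⟩
          have hsa' : s.1 • a = a := mem_stabilizer_iff.mp hsa
          rw [mul_smul, mul_smul, tta hS, hsa']⟩
        left_inv := fun u => by
          apply Subtype.ext
          show t * (t * u.1 * t) * t = u.1
          calc t * (t * u.1 * t) * t = (t * t) * u.1 * (t * t) := by group
            _ = u.1 := by rw [hS.mul_self, one_mul, mul_one]
        right_inv := fun s => by
          apply Subtype.ext
          show t * (t * s.1 * t) * t = s.1
          calc t * (t * s.1 * t) * t = (t * t) * s.1 * (t * t) := by group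
            _ = s.1 := by rw [hS.mul_self, one_mul, mul_one] }
  rw [e1, h1, e2]

end Cfsg.Agent.Lib.Helper3.RankOne
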