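import Mathlib
import Cfsg.Agent.Lib.Helper3.RankOne5

set_option autoImplicit false

namespace Cfsg.Agent.Lib.Helper3.RankOne
open MulAction
open Cfsg.Agent.Lib.Helper3 Cfsg.Agent.Lib.Helper3.InvFix Cfsg.Agent.Lib.Helper3.StrEmb

variable {G Ω : Type*} [Group G] [Finite G] [MulAction G Ω] {a : Ω} {t : G} {Q : Subgroup G}

omit [Finite G] in
theorem orderOf_t (hS : Cfsg.IsRankOneSetup G Ω a t Q) : orderOf t = 2 :=
  orderOf_two_iff.mpr ⟨hS.ne_one, hS.mul_self⟩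

/-- the structure equation: existence -/
theorem structure_exists (hS : Cfsg.IsRankOneSetup G Ω a t Q) :
    ∃ s r : G, ∃ γ : Ω, s ∈ stabilizer G a ∧ orderOf s = 2 ∧ r ∈ Q ∧ t • γ = γ ∧ r • (t • a) = γ ∧
      t * s * t = r⁻¹ * t * r := by
  have hU := uniqueFix hS
  obtain ⟨γ, hγ⟩ := exists_fixed hU (orderOf_t hS)
  have hγa : γ ≠ a := by
    intro h; rw [h] at hγ; exact ta_ne hS hγ
  obtain ⟨⟨r, hrQ⟩, hr, -⟩ := existsUnique_mem_Q_smul hS (ta_ne hS) hγa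
  simp only at hr
  refine ⟨t * (r⁻¹ * t * r) * t, r, γ, ?_, ?_, hrQ, hγ, hr, ?_⟩
  · rw [mem_stabilizer_iff]
    simp only [mul_smul]
    rw [hr, hγ, ← hr, inv_smul_smul, tta hS]
  · have h1 : orderOf (r⁻¹ * t * r) = 2 := by rw [orderOf_conj_inv]; exact orderOf_t hS
    have := orderOf_conj t (r⁻¹ * t * r)
    rw [t_inv hS] at this
    rw [this]; exact h1
  · calc t * (t * (r⁻¹ * t * r) * t) * t = (t * t) * (r⁻¹ * t * r) * (t * t) := by group
      _ = r⁻¹ * t * r := by rw [hS.mul_self, one_mul, mul_one]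

end Cfsg.Agent.Lib.Helper3.RankOne
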