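import Mathlib
import Cfsg.Agent.Lib.Helper3.RankOne6

set_option autoImplicit false

namespace Cfsg.Agent.Lib.Helper3.RankOne
open MulAction
open Cfsg.Agent.Lib.Helper3 Cfsg.Agent.Lib.Helper3.InvFix Cfsg.Agent.Lib.Helper3.StrEmb

variable {G Ω : Type*} [Group G] [Finite G] [MulAction G Ω] {a : Ω} {t : G} {Q : Subgroup G}

omit [Finite G] in
/-- the set-up is symmetric in `a` and `t • a` -/
theorem setup_swap (hS : Cfsg.IsRankOneSetup G Ω a t Q) :
    Cfsg.IsRankOneSetup G Ω (t • a) t (Q.map (MulAut.conj t).toMonoidHom) := by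
  have htt := tta hS
  have hinj : Function.Injective (MulAut.conj t).toMonoidHom := (MulAut.conj t).injective
  have hD : (stabilizer G a ⊓ stabilizer G (t • a)).map (MulAut.conj t).toMonoidHom =
      stabilizer G (t • a) ⊓ stabilizer G a := by
    rw [Subgroup.map_inf _ _ _ hinj, ← stabilizer_smul_eq_stabilizer_map_conj,
      ← stabilizer_smul_eq_stabilizer_map_conj, htt]
  refine ⟨hS.two_transitive, hS.mul_self, hS.ne_one, ?_, ?_, ?_, ?_, ?_, ?_, ?_⟩
  · intro h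
    rw [mem_stabilizer_iff, htt] at h
    exact ta_ne hS h.symm
  · rw [stabilizer_smul_eq_stabilizer_map_conj]
    exact Subgroup.map_mono hS.le
  · rintro h hh _ ⟨x, hx, rfl⟩
    refine ⟨(t⁻¹ * h * t) * x * (t⁻¹ * h * t)⁻¹, hS.conj_mem _ ?_ x hx, ?_⟩
    · rw [mem_stabilizer_iff, mul_smul, mul_smul, mem_stabilizer_iff.mp hh, inv_smul_smul]
    · simp only [MulEquiv.coe_toMonoidHom, MulAut.conj_apply]; group
  · rw [htt]
    have : stabilizer G a = (stabilizer G (t • a)).map (MulAut.conj t).toMonoidHom := by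
      rw [← stabilizer_smul_eq_stabilizer_map_conj, htt]
    rw [this, ← Subgroup.map_inf _ _ _ hinj, hS.inf_eq_bot, Subgroup.map_bot]
  · rw [htt, ← hD, ← Subgroup.map_sup, hS.sup_eq, ← stabilizer_smul_eq_stabilizer_map_conj]
  · rw [Subgroup.card_map_of_injective hinj]; exact hS.even_card
  · rw [htt, ← hD, Subgroup.card_map_of_injective hinj]; exact hS.odd_card


open MulAction
open Cfsg.Agent.Lib.Helper3 Cfsg.Agent.Lib.Helper3.InvFix Cfsg.Agent.Lib.Helper3.StrEmb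

variable {G Ω : Type*} [Group G] [Finite G] [MulAction G Ω] {a : Ω} {t : G} {Q : Subgroup G}

omit [Finite G] in
/-- an element of `Q` moving `t • a` to a fixed point of `X ⊆ D` centralizes `X` -/
theorem mem_centralizer_of_fix (hS : Cfsg.IsRankOneSetup G Ω a t Q) {X : Set G}
    (hX : X ⊆ ((stabilizer G a ⊓ stabilizer G (t • a) : Subgroup G) : Set G)) {y : G} (hy : y ∈ Q)
    (hc : ∀ x ∈ X, x • (y • (t • a)) = y • (t • a)) : y ∈ Subgroup.centralizer X := by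
  rw [Subgroup.mem_centralizer_iff]
  intro x hx
  have hxD := hX hx
  have h1 : x * y * x⁻¹ ∈ Q := hS.conj_mem x hxD.1 y hy
  have h2 : (x * y * x⁻¹) • (t • a) = y • (t • a) := by
    rw [mul_smul, mul_smul, (inv_smul_eq_iff.mpr (mem_stabilizer_iff.mp hxD.2).symm), hc x hx]
  have h3 : (y⁻¹ * (x * y * x⁻¹)) • (t • a) = t • a := by rw [mul_smul, h2, inv_smul_smul]
  have h4 := eq_one_of_smul_eq hS (Q.mul_mem (Q.inv_mem hy) h1) (ta_ne hS) h3
  calc x * y = y * (y⁻¹ * (x * y * x⁻¹)) * x := by group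
    _ = y * x := by rw [h4, mul_one]

omit [Finite G] in
theorem smul_fix_of_mem_centralizer {X : Set G} {g : G} (hg : g ∈ Subgroup.centralizer X) {c : Ω}
    (hc : ∀ x ∈ X, x • c = c) : ∀ x ∈ X, x • (g • c) = g • c := by
  intro x hx
  rw [← mul_smul, Subgroup.mem_centralizer_iff.mp hg x hx, mul_smul, hc x hx]

omit [Finite G] in
/-- `C_Q(X)` is transitive on the fixed points of `X` other than `a` -/
theorem exists_centralizer_Q_smul (hS : Cfsg.IsRankOneSetup G Ω a t Q) {X : Set G}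
    (hX : X ⊆ ((stabilizer G a ⊓ stabilizer G (t • a) : Subgroup G) : Set G)) {c c' : Ω}
    (hc : c ≠ a) (hc' : c' ≠ a)
    (hcF : ∀ x ∈ X, x • c = c) (hcF' : ∀ x ∈ X, x • c' = c') :
    ∃ y ∈ Subgroup.centralizer X ⊓ Q, y • c = c' := by
  obtain ⟨y, hy, rfl⟩ := exists_mem_Q_smul_ta hS hc
  obtain ⟨z, hz, rfl⟩ := exists_mem_Q_smul_ta hS hc'
  refine ⟨z * y⁻¹, ⟨Subgroup.mul_mem _ (mem_centralizer_of_fix hS hX hz hcF')
    (Subgroup.inv_mem _ (mem_centralizer_of_fix hS hX hy hcF)), Q.mul_mem hz (Q.inv_mem hy)⟩, ?_⟩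
  rw [mul_smul, inv_smul_smul]

omit [Finite G] in
/-- `C(X)` is transitive on the fixed points of `X` other than `t • a` -/
theorem exists_centralizer_smul_of_ne_ta (hS : Cfsg.IsRankOneSetup G Ω a t Q) {X : Set G}
    (hX : X ⊆ ((stabilizer G a ⊓ stabilizer G (t • a) : Subgroup G) : Set G)) {c c' : Ω}
    (hc : c ≠ t • a) (hc' : c' ≠ t • a)
    (hcF : ∀ x ∈ X, x • c = c) (hcF' : ∀ x ∈ X, x • c' = c') :
    ∃ y ∈ Subgroup.centralizer X, y • c = c' := by
  have hX' : X ⊆ ((stabilizer G (t • a) ⊓ stabilizer G (t • t • a) : Subgroup G) : Set G) := by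
    rw [tta hS]
    intro x hx
    exact ⟨(hX hx).2, (hX hx).1⟩
  obtain ⟨y, hy, h⟩ := exists_centralizer_Q_smul (setup_swap hS) hX' hc hc' hcF hcF'
  exact ⟨y, hy.1, h⟩

omit [Finite G] in
/-- `C(X)` is transitive on the fixed points of `X` when there are at least three -/
theorem exists_centralizer_smul_eq_a (hS : Cfsg.IsRankOneSetup G Ω a t Q) {X : Set G}
    (hX : X ⊆ ((stabilizer G a ⊓ stabilizer G (t • a) : Subgroup G) : Set G))
    (h3 : ∃ e : Ω, e ≠ a ∧ e ≠ t • a ∧ ∀ x ∈ X, x • e = e) {b : Ω}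
    (hbF : ∀ x ∈ X, x • b = b) : ∃ g ∈ Subgroup.centralizer X, g • b = a := by
  have haF : ∀ x ∈ X, x • a = a := fun x hx => mem_stabilizer_iff.mp (hX hx).1
  have htaF : ∀ x ∈ X, x • (t • a) = t • a := fun x hx => mem_stabilizer_iff.mp (hX hx).2
  by_cases hb : b = t • a
  · obtain ⟨e, he1, he2, heF⟩ := h3
    obtain ⟨y, hy, hye⟩ := exists_centralizer_Q_smul hS hX (ta_ne hS) he1 htaF heF
    obtain ⟨z, hz, hze⟩ := exists_centralizer_smul_of_ne_ta hS hX he2 (ta_ne hS).symm heF haF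
    refine ⟨z * y, Subgroup.mul_mem _ hz hy.1, ?_⟩
    rw [hb, mul_smul, hye, hze]
  · exact exists_centralizer_smul_of_ne_ta hS hX hb (ta_ne hS).symm hbF haF

omit [Finite G] in
/-- `C(X)` maps any two fixed points of `X` to `a`, `t • a` -/
theorem exists_centralizer_smul_pair (hS : Cfsg.IsRankOneSetup G Ω a t Q) {X : Set G}
    (hX : X ⊆ ((stabilizer G a ⊓ stabilizer G (t • a) : Subgroup G) : Set G))
    (h3 : ∃ e : Ω, e ≠ a ∧ e ≠ t • a ∧ ∀ x ∈ X, x • e = e) {b₁ b₂ : Ω}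
    (hbF₁ : ∀ x ∈ X, x • b₁ = b₁) (hbF₂ : ∀ x ∈ X, x • b₂ = b₂) (hb : b₁ ≠ b₂) :
    ∃ g ∈ Subgroup.centralizer X, g • b₁ = a ∧ g • b₂ = t • a := by
  have htaF : ∀ x ∈ X, x • (t • a) = t • a := fun x hx => mem_stabilizer_iff.mp (hX hx).2
  obtain ⟨g₁, hg₁, hg₁b⟩ := exists_centralizer_smul_eq_a hS hX h3 hbF₁
  have h1 : g₁ • b₂ ≠ a := by
    rw [← hg₁b]; intro h; exact hb (smul_left_cancel g₁ h).symm
  obtain ⟨y, hy, hye⟩ := exists_centralizer_Q_smul hS hX h1 (ta_ne hS)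
    (smul_fix_of_mem_centralizer hg₁ hbF₂) htaF
  refine ⟨y * g₁, Subgroup.mul_mem _ hy.1 hg₁, ?_, ?_⟩
  · rw [mul_smul, hg₁b, smul_a_of_mem_Q hS hy.2]
  · rw [mul_smul, hye]

omit [Finite G] in
/-- `C(X)` is doubly transitive on the fixed points of `X` when there are at least three -/
theorem centralizer_two_transitive (hS : Cfsg.IsRankOneSetup G Ω a t Q) {X : Set G}
    (hX : X ⊆ ((stabilizer G a ⊓ stabilizer G (t • a) : Subgroup G) : Set G))
    (h3 : ∃ e : Ω, e ≠ a ∧ e ≠ t • a ∧ ∀ x ∈ X, x • e = e) {b₁ b₂ c₁ c₂ : Ω}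
    (hbF₁ : ∀ x ∈ X, x • b₁ = b₁) (hbF₂ : ∀ x ∈ X, x • b₂ = b₂) (hb : b₁ ≠ b₂)
    (hcF₁ : ∀ x ∈ X, x • c₁ = c₁) (hcF₂ : ∀ x ∈ X, x • c₂ = c₂) (hc : c₁ ≠ c₂) :
    ∃ g ∈ Subgroup.centralizer X, g • b₁ = c₁ ∧ g • b₂ = c₂ := by
  obtain ⟨g, hg, hg1, hg2⟩ := exists_centralizer_smul_pair hS hX h3 hbF₁ hbF₂ hb
  obtain ⟨g', hg', hg1', hg2'⟩ := exists_centralizer_smul_pair hS hX h3 hcF₁ hcF₂ hc
  refine ⟨g'⁻¹ * g, Subgroup.mul_mem _ (Subgroup.inv_mem _ hg') hg, ?_, ?_⟩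
  · rw [mul_smul, hg1, ← hg1', inv_smul_smul]
  · rw [mul_smul, hg2, ← hg2', inv_smul_smul]

omit [Finite G] in
/-- a third fixed point from three distinct fixed points -/
theorem exists_third {X : Set G} (x y : Ω)
    (h3 : ∃ b c d : Ω, b ≠ c ∧ b ≠ d ∧ c ≠ d ∧ ∀ x ∈ X, x • b = b ∧ x • c = c ∧ x • d = d) :
    ∃ e : Ω, e ≠ x ∧ e ≠ y ∧ ∀ x ∈ X, x • e = e := by
  obtain ⟨b, c, d, hbc, hbd, hcd, h⟩ := h3
  by_cases h1 : b ≠ x ∧ b ≠ y
  · exact ⟨b, h1.1, h1.2, fun x hx => (h x hx).1⟩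
  by_cases h2 : c ≠ x ∧ c ≠ y
  · exact ⟨c, h2.1, h2.2, fun x hx => (h x hx).2.1⟩
  refine ⟨d, ?_, ?_, fun x hx => (h x hx).2.2⟩
  · rintro rfl
    rw [not_and_or, not_not, not_not] at h1 h2
    rcases h1 with h1 | h1
    · exact hbd h1
    · rcases h2 with h2 | h2
      · exact hcd h2
      · exact hbc (h1.trans h2.symm)
  · rintro rfl
    rw [not_and_or, not_not, not_not] at h1 h2
    rcases h1 with h1 | h1
    · rcases h2 with h2 | h2
      · exact hbc (h1.trans h2.symm)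
      · exact hcd h2
    · exact hbd h1


open MulAction
open Cfsg.Agent.Lib.Helper3 Cfsg.Agent.Lib.Helper3.InvFix Cfsg.Agent.Lib.Helper3.StrEmb

variable {G Ω : Type*} [Group G] [Finite G] [MulAction G Ω] {a : Ω} {t : G} {Q : Subgroup G}

omit [Finite G] in
/-- an element moving `a` whose square fixes `a` has even order -/
theorem even_orderOf_of_swap {w : G} (h1 : w • a ≠ a) (h2 : w • w • a = a) : Even (orderOf w) := by
  by_contra hodd
  rw [Nat.not_even_iff_odd] at hodd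
  obtain ⟨k, hk⟩ := hodd
  have e : w = (w * w) ^ (k + 1) := by
    rw [← pow_two, ← pow_mul]
    have : 2 * (k + 1) = orderOf w + 1 := by omega
    rw [this, pow_succ, pow_orderOf_eq_one, one_mul]
  have h3 : w * w ∈ stabilizer G a := by rw [mem_stabilizer_iff, mul_smul, h2]
  have h4 : w ∈ stabilizer G a := by rw [e]; exact Subgroup.pow_mem _ h3 _
  exact h1 (mem_stabilizer_iff.mp h4)

/-- a power of an element of even order is an involution -/
theorem exists_pow_involution {w : G} (h : Even (orderOf w)) : ∃ m : ℕ, orderOf (w ^ m) = 2 := by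
  obtain ⟨m, hm⟩ := h
  have hpos : 0 < orderOf w := orderOf_pos w
  have hm0 : m ≠ 0 := by omega
  refine ⟨m, ?_⟩
  rw [orderOf_pow_of_dvd hm0 ⟨2, by omega⟩, hm]
  have : m + m = 2 * m := by ring
  rw [this, Nat.mul_div_cancel _ (by omega)]

/-- `|C_Q(X)|` is even -/
theorem even_card_centralizer_inf_Q (hS : Cfsg.IsRankOneSetup G Ω a t Q) {X : Set G}
    (hX : X ⊆ ((stabilizer G a ⊓ stabilizer G (t • a) : Subgroup G) : Set G))
    (h3 : ∃ e : Ω, e ≠ a ∧ e ≠ t • a ∧ ∀ x ∈ X, x • e = e) :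
    Even (Nat.card ↥(Subgroup.centralizer X ⊓ Q)) := by
  have haF : ∀ x ∈ X, x • a = a := fun x hx => mem_stabilizer_iff.mp (hX hx).1
  have htaF : ∀ x ∈ X, x • (t • a) = t • a := fun x hx => mem_stabilizer_iff.mp (hX hx).2
  obtain ⟨w, hw, hw1, hw2⟩ := centralizer_two_transitive hS hX h3 haF htaF (ta_ne hS).symm
    htaF haF (ta_ne hS)
  have hwe : Even (orderOf w) :=
    even_orderOf_of_swap (a := a) (by rw [hw1]; exact ta_ne hS) (by rw [hw1, hw2])
  obtain ⟨m, hu⟩ := exists_pow_involution hwe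
  have huC : w ^ m ∈ Subgroup.centralizer X := Subgroup.pow_mem _ hw _
  have hU := uniqueFix hS
  obtain ⟨δ, hδ⟩ := exists_fixed hU hu
  have hδF : ∀ x ∈ X, x • δ = δ := by
    intro x hx
    apply fixed_unique hU hu _ hδ
    rw [← mul_smul, ← Subgroup.mem_centralizer_iff.mp huC x hx, mul_smul, hδ]
  obtain ⟨g, hg, hgδ⟩ := exists_centralizer_smul_eq_a hS hX h3 hδF
  have hv2 : orderOf (g * w ^ m * g⁻¹) = 2 := by rw [orderOf_conj]; exact hu
  have hvC : g * w ^ m * g⁻¹ ∈ Subgroup.centralizer X :=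
    Subgroup.mul_mem _ (Subgroup.mul_mem _ hg huC) (Subgroup.inv_mem _ hg)
  have hva : g * w ^ m * g⁻¹ ∈ stabilizer G a := by
    rw [mem_stabilizer_iff, mul_smul, mul_smul, ← hgδ, inv_smul_smul, hδ]
  have hvQ : g * w ^ m * g⁻¹ ∈ Q := involution_mem_Q hS hva (invol_mul_self hv2)
  have h5 : orderOf (⟨g * w ^ m * g⁻¹, ⟨hvC, hvQ⟩⟩ : ↥(Subgroup.centralizer X ⊓ Q)) = 2 := by
    rw [← Subgroup.orderOf_coe]; exact hv2
  rw [even_iff_two_dvd, ← h5]
  exact orderOf_dvd_natCard _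

omit [Finite G] in
/-- `C_{G_a}(X) = C_Q(X) C_D(X)` -/
theorem centralizer_inf_stabilizer_eq (hS : Cfsg.IsRankOneSetup G Ω a t Q) {X : Set G}
    (hX : X ⊆ ((stabilizer G a ⊓ stabilizer G (t • a) : Subgroup G) : Set G)) :
    (Subgroup.centralizer X ⊓ Q) ⊔
      (Subgroup.centralizer X ⊓ (stabilizer G a ⊓ stabilizer G (t • a))) =
      Subgroup.centralizer X ⊓ stabilizer G a := by
  have htaF : ∀ x ∈ X, x • (t • a) = t • a := fun x hx => mem_stabilizer_iff.mp (hX hx).2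
  apply le_antisymm
  · apply sup_le
    · exact inf_le_inf_left _ hS.le
    · exact inf_le_inf_left _ inf_le_left
  · rintro g ⟨hgC, hga⟩
    have h1 : g • (t • a) ≠ a := smul_ne_a g (mem_stabilizer_iff.mp hga) (ta_ne hS)
    obtain ⟨y, hy, hye⟩ := exists_centralizer_Q_smul hS hX (ta_ne hS) h1 htaF
      (smul_fix_of_mem_centralizer hgC htaF)
    have h2 : y⁻¹ * g ∈ Subgroup.centralizer X ⊓ (stabilizer G a ⊓ stabilizer G (t • a)) := by
      refine ⟨Subgroup.mul_mem _ (Subgroup.inv_mem _ hy.1) hgC, ?_, ?_⟩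
      · exact Subgroup.mul_mem _ (Subgroup.inv_mem _ (hS.le hy.2)) hga
      · show y⁻¹ * g ∈ stabilizer G (t • a)
        rw [mem_stabilizer_iff, mul_smul, ← hye, inv_smul_smul]
    have e : g = y * (y⁻¹ * g) := by group
    rw [e]
    exact Subgroup.mul_mem _ (Subgroup.mem_sup_left hy) (Subgroup.mem_sup_right h2)

end Cfsg.Agent.Lib.Helper3.RankOne
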