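import Mathlib
import Cfsg.Agent.Lib.Helper3.RankOne7

set_option autoImplicit false

namespace Cfsg.Agent.Lib.Helper3.RankOne
open MulAction
open Cfsg.Agent.Lib.Helper1 Cfsg.Agent.Lib.Helper3 Cfsg.Agent.Lib.Helper3.InvFix Cfsg.Agent.Lib.Helper3.StrEmb

variable {G Ω : Type*} [Group G] [Finite G] [MulAction G Ω] {a : Ω} {t : G} {Q : Subgroup G}

omit [Finite G] in
/-- an odd power of an element swapping two points swaps them -/
theorem pow_smul_of_swap {w : G} {b c : Ω} (h1 : w • b = c) (h2 : w • c = b) {n : ℕ} (hn : Odd n) :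
    w ^ n • b = c := by
  obtain ⟨k, rfl⟩ := hn
  have h3 : w * w ∈ stabilizer G c := by rw [mem_stabilizer_iff, mul_smul, h2, h1]
  have h4 : (w * w) ^ k ∈ stabilizer G c := Subgroup.pow_mem _ h3 _
  rw [pow_succ, pow_mul, pow_two, mul_smul, h1, mem_stabilizer_iff.mp h4]

omit [Finite G] in
/-- powers of an element inverted by `t` are inverted by `t` -/
theorem pow_inverted {k : G} (hk : t * k * t⁻¹ = k⁻¹) (n : ℕ) : t * k ^ n * t⁻¹ = (k ^ n)⁻¹ := by
  rw [← inv_pow, ← hk, conj_pow]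

omit [Finite G] in
/-- an involution of `C(X)` interchanging `a` and `t • a` -/
theorem exists_involution_centralizer_swap (hS : Cfsg.IsRankOneSetup G Ω a t Q) {X : Set G}
    (hX : X ⊆ ((stabilizer G a ⊓ stabilizer G (t • a) : Subgroup G) : Set G))
    (h3 : ∃ e : Ω, e ≠ a ∧ e ≠ t • a ∧ ∀ x ∈ X, x • e = e) :
    ∃ u ∈ Subgroup.centralizer X, orderOf u = 2 ∧ u • a = t • a := by
  have haF : ∀ x ∈ X, x • a = a := fun x hx => mem_stabilizer_iff.mp (hX hx).1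
  have htaF : ∀ x ∈ X, x • (t • a) = t • a := fun x hx => mem_stabilizer_iff.mp (hX hx).2
  obtain ⟨w, hw, hw1, hw2⟩ := centralizer_two_transitive hS hX h3 haF htaF (ta_ne hS).symm
    htaF haF (ta_ne hS)
  set n := Nat.card ↥(stabilizer G a ⊓ stabilizer G (t • a)) with hn
  have hnodd : Odd n := hS.odd_card
  have hwwD : w * w ∈ stabilizer G a ⊓ stabilizer G (t • a) := by
    refine Subgroup.mem_inf.mpr ⟨?_, ?_⟩
    · rw [mem_stabilizer_iff, mul_smul, hw1, hw2]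
    · rw [mem_stabilizer_iff, mul_smul, hw2, hw1]
  have h1 : (w * w) ^ n = 1 := by
    have := pow_card_eq_one' (x := (⟨w * w, hwwD⟩ : ↥(stabilizer G a ⊓ stabilizer G (t • a))))
    have h2 := congrArg Subtype.val this
    rw [Subgroup.coe_pow, Subgroup.coe_one] at h2
    exact h2
  have hua : w ^ n • a = t • a := pow_smul_of_swap hw1 hw2 hnodd
  refine ⟨w ^ n, Subgroup.pow_mem _ hw _, ?_, hua⟩
  apply orderOf_two_of_mul_self
  · rw [← pow_add, ← two_mul, pow_mul, pow_two, h1]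
  · intro h
    rw [h, one_smul] at hua
    exact ta_ne hS hua.symm

omit [Finite G] in
/-- a subset of `D` fixing at least three points is `D`-conjugate into `C_D(t)` -/
theorem exists_conj_into_centralizer_t (hS : Cfsg.IsRankOneSetup G Ω a t Q) {X : Set G}
    (hX : X ⊆ ((stabilizer G a ⊓ stabilizer G (t • a) : Subgroup G) : Set G))
    (h3 : ∃ e : Ω, e ≠ a ∧ e ≠ t • a ∧ ∀ x ∈ X, x • e = e) :
    ∃ k ∈ stabilizer G a ⊓ stabilizer G (t • a), ∀ x ∈ X,
      (k * x * k⁻¹) * t = t * (k * x * k⁻¹) := by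
  obtain ⟨u, huC, hu2, hua⟩ := exists_involution_centralizer_swap hS hX h3
  obtain ⟨hkD, hkinv⟩ := swap_mul_t_mem hS hu2 hua
  have hodd : Odd (orderOf (u * t)) := by
    have h3 : orderOf (⟨u * t, hkD⟩ : (stabilizer G a ⊓ stabilizer G (t • a) : Subgroup G)) ∣ _ :=
      orderOf_dvd_natCard _
    rw [← Subgroup.orderOf_coe] at h3
    exact Odd.of_dvd_nat hS.odd_card h3
  obtain ⟨n, hn⟩ := exists_pow_sq_eq_of_odd_order (u * t) hodd
  have hk1D : (u * t) ^ n ∈ stabilizer G a ⊓ stabilizer G (t • a) := Subgroup.pow_mem _ hkD _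
  have hk1inv := pow_inverted hkinv n
  set k₁ := (u * t) ^ n with hk₁
  -- u = k₁ * t * k₁⁻¹
  have htk : t * k₁⁻¹ = k₁ * t := by
    have : t * k₁ = k₁⁻¹ * t := by
      calc t * k₁ = (t * k₁ * t⁻¹) * t := by group
        _ = k₁⁻¹ * t := by rw [hk1inv]
    calc t * k₁⁻¹ = k₁ * (k₁⁻¹ * t) * k₁⁻¹ := by group
      _ = k₁ * (t * k₁) * k₁⁻¹ := by rw [this]
      _ = k₁ * t := by group
  have hu : u = k₁ * t * k₁⁻¹ := by
    calc u = (u * t) * t⁻¹ := by group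
      _ = k₁ * k₁ * t⁻¹ := by rw [hn]
      _ = k₁ * (k₁ * t) := by rw [t_inv hS]; group
      _ = k₁ * (t * k₁⁻¹) := by rw [htk]
      _ = k₁ * t * k₁⁻¹ := by group
  refine ⟨k₁⁻¹, Subgroup.inv_mem _ hk1D, ?_⟩
  intro x hx
  have hc : x * u = u * x := Subgroup.mem_centralizer_iff.mp huC x hx
  have ht : t = k₁⁻¹ * u * k₁ := by rw [hu]; group
  rw [inv_inv]
  calc k₁⁻¹ * x * k₁ * t = k₁⁻¹ * x * k₁ * (k₁⁻¹ * u * k₁) := by rw [← ht]
    _ = k₁⁻¹ * (x * u) * k₁ := by group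
    _ = k₁⁻¹ * (u * x) * k₁ := by rw [hc]
    _ = (k₁⁻¹ * u * k₁) * (k₁⁻¹ * x * k₁) := by group
    _ = t * (k₁⁻¹ * x * k₁) := by rw [← ht]

end Cfsg.Agent.Lib.Helper3.RankOne
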