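import Mathlib
import Cfsg.Agent.S1124
import Cfsg.Agent.Lib.Helper3.RankOne8

set_option autoImplicit false

namespace Cfsg.Agent.Lib.Helper3.RankOne
open MulAction
open Cfsg.Agent.Lib.Helper1 Cfsg.Agent.Lib.Helper3 Cfsg.Agent.Lib.Helper3.InvFix Cfsg.Agent.Lib.Helper3.StrEmb

variable {G Ω : Type*} [Group G] [Finite G] [MulAction G Ω] {a : Ω} {t : G} {Q : Subgroup G}

/-- `k ↦ k⁻¹ s k` is injective on the elements of `D` inverted by `t` -/
theorem inverted_conj_injective (hS : Cfsg.IsRankOneSetup G Ω a t Q) {s : G}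
    (hs : s ∈ stabilizer G a) (hs2 : orderOf s = 2) {k k' : G}
    (hk : k ∈ Cfsg.invertedBy (stabilizer G a ⊓ stabilizer G (t • a)) t)
    (hk' : k' ∈ Cfsg.invertedBy (stabilizer G a ⊓ stabilizer G (t • a)) t)
    (h : k⁻¹ * s * k = k'⁻¹ * s * k') : k = k' := by
  have hU := uniqueFix hS
  obtain ⟨hi2, hia⟩ := mul_t_swap hS hk
  obtain ⟨hi'2, hi'a⟩ := mul_t_swap hS hk'
  have hc : (k * t) * s * (k * t)⁻¹ = (k' * t) * s * (k' * t)⁻¹ := by
    have e1 : (k * t) * s * (k * t)⁻¹ = t * (k⁻¹ * s * k) * t := by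
      rw [← invol_inv hi2, inv_inv, mul_inv_rev, t_inv hS]; group
    have e2 : (k' * t) * s * (k' * t)⁻¹ = t * (k'⁻¹ * s * k') * t := by
      rw [← invol_inv hi'2, inv_inv, mul_inv_rev, t_inv hS]; group
    rw [e1, e2, h]
  have := involution_conj_unique hU hs2 (mem_stabilizer_iff.mp hs) (ta_ne hS).symm hi2 hi'2 hia hi'a hc
  exact mul_right_cancel this

omit [Finite G] in
/-- the fixed point of `t` from the structure equation -/
theorem t_smul_r_smul (hS : Cfsg.IsRankOneSetup G Ω a t Q) {s r : G}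
    (hs : s ∈ stabilizer G a) (h : t * s * t = r⁻¹ * t * r) :
    t • (r • (t • a)) = r • (t • a) := by
  have h1 : (t * s * t) • (t • a) = t • a := by
    rw [mul_smul, mul_smul, tta hS, mem_stabilizer_iff.mp hs]
  rw [h, mul_smul, mul_smul, inv_smul_eq_iff] at h1
  exact h1

/-- `C_D(t) ≤ C_D(s)` -/
theorem centralizer_t_le_centralizer_s (hS : Cfsg.IsRankOneSetup G Ω a t Q) {s r : G}
    (hs : s ∈ stabilizer G a) (hr : r ∈ Q) (h : t * s * t = r⁻¹ * t * r) {d : G}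
    (hd : d ∈ stabilizer G a ⊓ stabilizer G (t • a)) (hdt : t * d = d * t) : s * d = d * s := by
  have hU := uniqueFix hS
  have hγ := t_smul_r_smul hS hs h
  have hdγ : d • (r • (t • a)) = r • (t • a) := by
    apply fixed_unique hU (orderOf_t hS) _ hγ
    rw [← mul_smul, hdt, mul_smul, hγ]
  have h1 : d * r * d⁻¹ ∈ Q := hS.conj_mem d hd.1 r hr
  have h2 : (r⁻¹ * (d * r * d⁻¹)) • (t • a) = t • a := by
    rw [mul_smul, mul_smul, mul_smul, inv_smul_eq_iff.mpr (mem_stabilizer_iff.mp hd.2).symm, hdγ,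
      inv_smul_smul]
  have h3 := eq_one_of_smul_eq hS (Q.mul_mem (Q.inv_mem hr) h1) (ta_ne hS) h2
  have hdr : d * r = r * d := by
    calc d * r = r * (r⁻¹ * (d * r * d⁻¹)) * d := by group
      _ = r * d := by rw [h3, mul_one]
  have hdr' : d * r⁻¹ = r⁻¹ * d := by
    calc d * r⁻¹ = r⁻¹ * (r * d) * r⁻¹ := by group
      _ = r⁻¹ * (d * r) * r⁻¹ := by rw [hdr]
      _ = r⁻¹ * d := by group
  have hs' : s = t * (r⁻¹ * t * r) * t := by
    rw [← h]
    calc s = (t * t) * s * (t * t) := by rw [hS.mul_self, one_mul, mul_one]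
      _ = t * (t * s * t) * t := by group
  have hdt' : d * t = t * d := hdt.symm
  rw [hs']
  calc t * (r⁻¹ * t * r) * t * d = t * r⁻¹ * t * r * (t * d) := by group
    _ = t * r⁻¹ * t * r * (d * t) := by rw [hdt]
    _ = t * r⁻¹ * t * (r * d) * t := by group
    _ = t * r⁻¹ * t * (d * r) * t := by rw [hdr]
    _ = t * r⁻¹ * (t * d) * r * t := by group
    _ = t * r⁻¹ * (d * t) * r * t := by rw [hdt]
    _ = t * (r⁻¹ * d) * t * r * t := by group
    _ = t * (d * r⁻¹) * t * r * t := by rw [hdr']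
    _ = (t * d) * r⁻¹ * t * r * t := by group
    _ = (d * t) * r⁻¹ * t * r * t := by rw [hdt]
    _ = d * (t * (r⁻¹ * t * r) * t) := by group

/-- `C_D(s) ≤ C_D(t)` -/
theorem centralizer_s_le_centralizer_t (hS : Cfsg.IsRankOneSetup G Ω a t Q) {s r : G}
    (hs : s ∈ stabilizer G a) (hs2 : orderOf s = 2) (hr : r ∈ Q) (h : t * s * t = r⁻¹ * t * r)
    {d : G} (hd : d ∈ stabilizer G a ⊓ stabilizer G (t • a)) (hds : s * d = d * s) :
    t * d = d * t := by
  have hnorm : ∀ x ∈ stabilizer G a ⊓ stabilizer G (t • a),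
      t * x * t⁻¹ ∈ stabilizer G a ⊓ stabilizer G (t • a) := by
    intro x hx; rw [t_inv hS]; exact t_conj_mem_D hS hx
  obtain ⟨⟨y, z⟩, ⟨hy, hz, hyz⟩, -⟩ := (Cfsg.Agent.S1124.result t (orderOf_t hS)
    (stabilizer G a ⊓ stabilizer G (t • a)) hS.odd_card hnorm).1 d hd
  simp only at hy hz hyz
  have hyt : t * y = y * t :=
    (Subgroup.mem_centralizer_singleton_iff.mp (show y ∈ Subgroup.centralizer {t} from hy.2)).symm
  have hys : s * y = y * s := centralizer_t_le_centralizer_s hS hs hr h hy.1 hyt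
  have hzs : s * z = z * s := by
    have hz' : z = y⁻¹ * d := by rw [hyz]; group
    have hys' : s * y⁻¹ = y⁻¹ * s := by
      calc s * y⁻¹ = y⁻¹ * (y * s) * y⁻¹ := by group
        _ = y⁻¹ * (s * y) * y⁻¹ := by rw [hys]
        _ = y⁻¹ * s := by group
    rw [hz']
    calc s * (y⁻¹ * d) = (s * y⁻¹) * d := by group
      _ = y⁻¹ * (s * d) := by rw [hys']; group
      _ = y⁻¹ * d * s := by rw [hds]; group
  have h1 : (1 : G) ∈ Cfsg.invertedBy (stabilizer G a ⊓ stabilizer G (t • a)) t :=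
    ⟨Subgroup.one_mem _, by group⟩
  have hz1 : z = 1 := by
    apply inverted_conj_injective hS hs hs2 hz h1
    calc z⁻¹ * s * z = z⁻¹ * (s * z) := by group
      _ = z⁻¹ * (z * s) := by rw [hzs]
      _ = 1⁻¹ * s * 1 := by group
  rw [hyz, hz1, mul_one]
  exact hyt


open MulAction
open Cfsg.Agent.Lib.Helper1 Cfsg.Agent.Lib.Helper3 Cfsg.Agent.Lib.Helper3.InvFix Cfsg.Agent.Lib.Helper3.StrEmb

variable {G Ω : Type*} [Group G] [Finite G] [MulAction G Ω] {a : Ω} {t : G} {Q : Subgroup G}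

omit [Finite G] in
theorem mem_involutionsIn_iff {s : G} :
    s ∈ Cfsg.involutionsIn (stabilizer G a : Set G) ↔ s ∈ stabilizer G a ∧ orderOf s = 2 := by
  constructor
  · rintro ⟨h1, h2, h3⟩
    exact ⟨h1, orderOf_two_iff.mpr ⟨h2, h3⟩⟩
  · rintro ⟨h1, h2⟩
    have := orderOf_two_iff.mp h2
    exact ⟨h1, this.1, this.2⟩

/-- `C_D(t) ⊓ C_D(K) = C_D(I_a)` -/
theorem centralizer_t_inf_centralizer_inverted (hS : Cfsg.IsRankOneSetup G Ω a t Q) :
    (stabilizer G a ⊓ stabilizer G (t • a)) ⊓ Subgroup.centralizer {t} ⊓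
      Subgroup.centralizer (Cfsg.invertedBy (stabilizer G a ⊓ stabilizer G (t • a)) t) =
    (stabilizer G a ⊓ stabilizer G (t • a)) ⊓
      Subgroup.centralizer (Cfsg.involutionsIn (stabilizer G a : Set G)) := by
  obtain ⟨s₀, r, γ, hs₀, hs₀2, hr, -, -, hrel⟩ := structure_exists hS
  ext d
  constructor
  · rintro ⟨⟨hdD, hdt⟩, hdK⟩
    refine ⟨hdD, ?_⟩
    have hdt' : t * d = d * t := (Subgroup.mem_centralizer_singleton_iff.mp hdt).symm
    have hds₀ : s₀ * d = d * s₀ := centralizer_t_le_centralizer_s hS hs₀ hr hrel hdD hdt'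
    show d ∈ Subgroup.centralizer (Cfsg.involutionsIn (stabilizer G a : Set G))
    rw [Subgroup.mem_centralizer_iff]
    intro s' hs'
    obtain ⟨hs'a, hs'2⟩ := mem_involutionsIn_iff.mp hs'
    obtain ⟨k, hk, rfl⟩ := inverted_transitive hS hs₀ hs₀2 hs'a hs'2
    have hkd : k * d = d * k := Subgroup.mem_centralizer_iff.mp hdK k hk
    have hkd' : k⁻¹ * d = d * k⁻¹ := by
      calc k⁻¹ * d = k⁻¹ * (d * k) * k⁻¹ := by group
        _ = k⁻¹ * (k * d) * k⁻¹ := by rw [hkd]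
        _ = d * k⁻¹ := by group
    calc k⁻¹ * s₀ * k * d = k⁻¹ * s₀ * (k * d) := by group
      _ = k⁻¹ * (s₀ * d) * k := by rw [hkd]; group
      _ = (k⁻¹ * d) * s₀ * k := by rw [hds₀]; group
      _ = d * (k⁻¹ * s₀ * k) := by rw [hkd']; group
  · rintro ⟨hdD, hdI⟩
    have hdI' : ∀ s' ∈ Cfsg.involutionsIn (stabilizer G a : Set G), s' * d = d * s' :=
      Subgroup.mem_centralizer_iff.mp hdI
    have hds₀ : s₀ * d = d * s₀ := hdI' s₀ (mem_involutionsIn_iff.mpr ⟨hs₀, hs₀2⟩)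
    have hdt : t * d = d * t := centralizer_s_le_centralizer_t hS hs₀ hs₀2 hr hrel hdD hds₀
    refine ⟨⟨hdD, Subgroup.mem_centralizer_singleton_iff.mpr hdt.symm⟩, ?_⟩
    show d ∈ Subgroup.centralizer (Cfsg.invertedBy (stabilizer G a ⊓ stabilizer G (t • a)) t)
    rw [Subgroup.mem_centralizer_iff]
    intro k hk
    obtain ⟨hkD, hkinv⟩ := hk
    -- d k d⁻¹ ∈ K
    have hdt'' : t * d⁻¹ = d⁻¹ * t := by
      calc t * d⁻¹ = d⁻¹ * (d * t) * d⁻¹ := by group
        _ = d⁻¹ * (t * d) * d⁻¹ := by rw [hdt]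
        _ = d⁻¹ * t := by group
    have hK' : d * k * d⁻¹ ∈ Cfsg.invertedBy (stabilizer G a ⊓ stabilizer G (t • a)) t := by
      refine ⟨Subgroup.mul_mem _ (Subgroup.mul_mem _ hdD hkD) (Subgroup.inv_mem _ hdD), ?_⟩
      calc t * (d * k * d⁻¹) * t⁻¹ = (t * d) * k * d⁻¹ * t⁻¹ := by group
        _ = d * (t * k * t⁻¹) * (t * d⁻¹) * t⁻¹ := by rw [hdt]; group
        _ = d * k⁻¹ * d⁻¹ := by rw [hkinv, hdt'']; group
        _ = (d * k * d⁻¹)⁻¹ := by group
    have hmem : k⁻¹ * s₀ * k ∈ Cfsg.involutionsIn (stabilizer G a : Set G) := by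
      rw [mem_involutionsIn_iff]
      refine ⟨Subgroup.mul_mem _ (Subgroup.mul_mem _ (Subgroup.inv_mem _ hkD.1) hs₀) hkD.1, ?_⟩
      rw [orderOf_conj_inv]; exact hs₀2
    have hcomm := hdI' _ hmem
    have heq : (d * k * d⁻¹)⁻¹ * s₀ * (d * k * d⁻¹) = k⁻¹ * s₀ * k := by
      have hds₀' : d⁻¹ * s₀ = s₀ * d⁻¹ := by
        calc d⁻¹ * s₀ = d⁻¹ * (s₀ * d) * d⁻¹ := by group
          _ = d⁻¹ * (d * s₀) * d⁻¹ := by rw [hds₀]
          _ = s₀ * d⁻¹ := by group
      calc (d * k * d⁻¹)⁻¹ * s₀ * (d * k * d⁻¹) = d * k⁻¹ * (d⁻¹ * s₀) * d * k * d⁻¹ := by group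
        _ = d * k⁻¹ * (s₀ * d⁻¹) * d * k * d⁻¹ := by rw [hds₀']
        _ = d * (k⁻¹ * s₀ * k) * d⁻¹ := by group
        _ = (k⁻¹ * s₀ * k) * d * d⁻¹ := by rw [hcomm]
        _ = k⁻¹ * s₀ * k := by group
    have := inverted_conj_injective hS hs₀ hs₀2 hK' ⟨hkD, hkinv⟩ heq
    calc k * d = (d * k * d⁻¹) * d := by rw [this]
      _ = d * k := by group

end Cfsg.Agent.Lib.Helper3.RankOne
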