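import Mathlib
import Cfsg.Agent.Lib.Helper3.RankOne9

set_option autoImplicit false

namespace Cfsg.Agent.Lib.Helper3.RankOne
open MulAction
open Cfsg.Agent.Lib.Helper1 Cfsg.Agent.Lib.Helper3 Cfsg.Agent.Lib.Helper3.InvFix Cfsg.Agent.Lib.Helper3.StrEmb

variable {G Ω : Type*} [Group G] [Finite G] [MulAction G Ω] {a : Ω} {t : G} {Q : Subgroup G}

omit [Finite G] in
/-- powers of an inverting element invert or centralize -/
theorem pow_conj_of_inverts {g x : G} (h : g * x * g⁻¹ = x⁻¹) (j : ℕ) :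
    g ^ j * x * (g ^ j)⁻¹ = x ∨ g ^ j * x * (g ^ j)⁻¹ = x⁻¹ := by
  induction j with
  | zero => left; simp
  | succ j ih =>
    have e : g ^ (j + 1) * x * (g ^ (j + 1))⁻¹ = g * (g ^ j * x * (g ^ j)⁻¹) * g⁻¹ := by
      rw [pow_succ']; group
    rcases ih with ih | ih
    · right; rw [e, ih, h]
    · left
      rw [e, ih]
      calc g * x⁻¹ * g⁻¹ = (g * x * g⁻¹)⁻¹ := by group
        _ = x := by rw [h, inv_inv]

/-- a nonidentity element of `D` inverted by `t` centralizes no nonidentity element of `Q` -/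
theorem inverted_fpf (hS : Cfsg.IsRankOneSetup G Ω a t Q) {x : G}
    (hx : x ∈ Cfsg.invertedBy (stabilizer G a ⊓ stabilizer G (t • a)) t) (hx1 : x ≠ 1) :
    Q ⊓ Subgroup.centralizer {x} = ⊥ := by
  rw [eq_bot_iff]
  rintro y ⟨hyQ, hyC⟩
  rw [Subgroup.mem_bot]
  by_contra hy1
  have hU := uniqueFix hS
  obtain ⟨hxD, hxinv⟩ := hx
  have hyx : y * x = x * y :=
    Subgroup.mem_centralizer_singleton_iff.mp (show y ∈ Subgroup.centralizer {x} from hyC)
  have hX : ({x} : Set G) ⊆ ((stabilizer G a ⊓ stabilizer G (t • a) : Subgroup G) : Set G) := by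
    intro z hz; rw [Set.mem_singleton_iff] at hz; rw [hz]; exact hxD
  have h3 : ∃ e : Ω, e ≠ a ∧ e ≠ t • a ∧ ∀ x' ∈ ({x} : Set G), x' • e = e := by
    refine ⟨y • (t • a), smul_ne_a y (smul_a_of_mem_Q hS hyQ) (ta_ne hS), ?_, ?_⟩
    · intro h
      exact hy1 (eq_one_of_smul_eq hS hyQ (ta_ne hS) h)
    · intro x' hx'
      rw [Set.mem_singleton_iff] at hx'
      rw [hx', ← mul_smul, ← hyx, mul_smul, mem_stabilizer_iff.mp hxD.2]
  have hev := even_card_centralizer_inf_Q hS hX h3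
  have : Fact (Nat.Prime 2) := ⟨Nat.prime_two⟩
  obtain ⟨s₀, hs₀⟩ : ∃ s : ↥(Subgroup.centralizer ({x} : Set G) ⊓ Q), orderOf s = 2 := by
    have := Fintype.ofFinite ↥(Subgroup.centralizer ({x} : Set G) ⊓ Q)
    apply exists_prime_orderOf_dvd_card 2
    rw [← Nat.card_eq_fintype_card]
    exact even_iff_two_dvd.mp hev
  obtain ⟨s, ⟨hsC, hsQ⟩⟩ := s₀
  rw [← Subgroup.orderOf_coe] at hs₀
  simp only at hs₀
  have hsx : s * x = x * s :=
    Subgroup.mem_centralizer_singleton_iff.mp (show s ∈ Subgroup.centralizer {x} from hsC)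
  have hss := invol_mul_self hs₀
  obtain ⟨γ, hγ⟩ := exists_fixed hU (orderOf_t hS)
  have hγa : a ≠ γ := by
    intro h; rw [← h] at hγ; exact ta_ne hS hγ
  obtain ⟨j, hj⟩ := odd_orderOf_mul hU hs₀ (orderOf_t hS) (smul_a_of_mem_Q hS hsQ) hγ hγa
  have hpow : (s * t) ^ (2 * j + 1) = 1 := by rw [← hj]; exact pow_orderOf_eq_one _
  obtain ⟨hw1, -⟩ := dihedral_odd_conj s t hss hS.mul_self j hpow
  have hst : (s * t) * x * (s * t)⁻¹ = x⁻¹ := by
    calc (s * t) * x * (s * t)⁻¹ = s * (t * x * t⁻¹) * s⁻¹ := by group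
      _ = s * x⁻¹ * s⁻¹ := by rw [hxinv]
      _ = (s * x * s⁻¹)⁻¹ := by group
      _ = x⁻¹ := by rw [hsx]; group
  have hw := pow_conj_of_inverts hst j
  generalize (s * t) ^ j = w at hw hw1
  -- t commutes with w x w⁻¹
  have htc : t * (w * x * w⁻¹) = (w * x * w⁻¹) * t := by
    rw [← hw1]
    calc w * s * w⁻¹ * (w * x * w⁻¹) = w * (s * x) * w⁻¹ := by group
      _ = w * (x * s) * w⁻¹ := by rw [hsx]
      _ = w * x * w⁻¹ * (w * s * w⁻¹) := by group
  have htx : t * x = x * t := by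
    rcases hw with hw | hw
    · rw [hw] at htc; exact htc
    · rw [hw] at htc
      calc t * x = x * (x⁻¹ * t) * x := by group
        _ = x * (t * x⁻¹) * x := by rw [htc]
        _ = x * t := by group
  have hxx : x * x = 1 := by
    have : x = x⁻¹ := by
      calc x = (x * t) * t⁻¹ := by group
        _ = t * x * t⁻¹ := by rw [htx]
        _ = x⁻¹ := hxinv
    calc x * x = x * x⁻¹ := by rw [← this]
      _ = 1 := mul_inv_cancel x
  have hodd : Odd (orderOf x) := by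
    have h3 : orderOf (⟨x, hxD⟩ : (stabilizer G a ⊓ stabilizer G (t • a) : Subgroup G)) ∣ _ :=
      orderOf_dvd_natCard _
    rw [← Subgroup.orderOf_coe] at h3
    exact Odd.of_dvd_nat hS.odd_card h3
  exact hx1 (eq_one_of_odd_of_mul_self x hodd hxx)

end Cfsg.Agent.Lib.Helper3.RankOne
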