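import Mathlib
import Cfsg.Agent.S1324
import Cfsg.Agent.Lib.Helper6.PPrimeCore
import Cfsg.Agent.Lib.Helper3.RankOne10

set_option autoImplicit false

namespace Cfsg.Agent.Lib.Helper3.RankOne
open MulAction
open Cfsg.Agent.Lib.Helper1 Cfsg.Agent.Lib.Helper3 Cfsg.Agent.Lib.Helper3.InvFix Cfsg.Agent.Lib.Helper3.StrEmb

variable {G Ω : Type*} [Group G] [Finite G] [MulAction G Ω] {a : Ω} {t : G} {Q : Subgroup G}

/-- two distinct commuting involutions generate an elementary abelian group of order at least 4 -/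
theorem closure_pair_involutions {x y : G} (hx1 : x ≠ 1) (hy1 : y ≠ 1) (hxy : x ≠ y)
    (hxx : x * x = 1) (hyy : y * y = 1) (hc : x * y = y * x) :
    Cfsg.IsElementaryAbelian 2 (Subgroup.closure {x, y}) ∧
      4 ≤ Nat.card (Subgroup.closure ({x, y} : Set G)) := by
  set E : Subgroup G := Subgroup.closure {x, y} with hE
  have hEcomm : IsMulCommutative E := by
    apply Subgroup.isMulCommutative_closure
    intro a ha b hb
    simp only [Set.mem_insert_iff, Set.mem_singleton_iff] at ha hb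
    rcases ha with rfl | rfl <;> rcases hb with rfl | rfl
    · rfl
    · exact hc
    · exact hc.symm
    · rfl
  have hEexp : ∀ e ∈ E, e ^ 2 = 1 := by
    intro e he
    induction he using Subgroup.closure_induction with
    | mem z hz =>
      simp only [Set.mem_insert_iff, Set.mem_singleton_iff] at hz
      rcases hz with rfl | rfl
      · rw [pow_two]; exact hxx
      · rw [pow_two]; exact hyy
    | one => exact one_pow 2
    | mul a b ha hb iha ihb =>
      have hc1 : (⟨a, ha⟩ : E) * ⟨b, hb⟩ = ⟨b, hb⟩ * ⟨a, ha⟩ := hEcomm.is_comm.comm _ _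
      have hc' : Commute a b := congrArg Subtype.val hc1
      rw [hc'.mul_pow, iha, ihb, one_mul]
    | inv a ha iha => rw [inv_pow, iha, inv_one]
  refine ⟨⟨hEcomm, hEexp⟩, ?_⟩
  have hxE : x ∈ E := Subgroup.subset_closure (by simp)
  have hyE : y ∈ E := Subgroup.subset_closure (by simp)
  have hsub : ({1, x, y, x * y} : Set G) ⊆ (E : Set G) := by
    intro z hz
    simp only [Set.mem_insert_iff, Set.mem_singleton_iff] at hz
    rcases hz with rfl | rfl | rfl | rfl
    · exact E.one_mem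
    · exact hxE
    · exact hyE
    · exact E.mul_mem hxE hyE
  have hcard : ({1, x, y, x * y} : Set G).ncard = 4 := by
    have hyinv : y⁻¹ = y := inv_eq_of_mul_eq_one_right hyy
    rw [Set.ncard_insert_of_notMem, Set.ncard_insert_of_notMem, Set.ncard_insert_of_notMem,
      Set.ncard_singleton]
    · simp only [Set.mem_singleton_iff]
      intro h
      exact hx1 (by simpa using h.symm)
    · simp only [Set.mem_insert_iff, Set.mem_singleton_iff, not_or]
      refine ⟨hxy, ?_⟩
      intro h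
      exact hy1 (by simpa using h.symm)
    · simp only [Set.mem_insert_iff, Set.mem_singleton_iff, not_or]
      refine ⟨fun h => hx1 h.symm, fun h => hy1 h.symm, ?_⟩
      intro h
      have : x = y⁻¹ := eq_inv_of_mul_eq_one_left h.symm
      rw [hyinv] at this
      exact hxy this
  have hcE : Nat.card E = (E : Set G).ncard := Nat.card_coe_set_eq (E : Set G)
  rw [← hcard, hcE]
  exact Set.ncard_le_ncard hsub (Set.toFinite _)


open MulAction
open Cfsg.Agent.Lib.Helper1 Cfsg.Agent.Lib.Helper3 Cfsg.Agent.Lib.Helper3.InvFix Cfsg.Agent.Lib.Helper3.StrEmb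

variable {G Ω : Type*} [Group G] [Finite G] [MulAction G Ω] {a : Ω} {t : G} {Q : Subgroup G}

/-- an element commuting with an involution of `G_a` fixes `a` -/
theorem smul_a_of_commute_involution (hS : Cfsg.IsRankOneSetup G Ω a t Q) {e m : G}
    (he : e ∈ stabilizer G a) (he2 : orderOf e = 2) (hc : m * e = e * m) : m • a = a := by
  apply (involution_stab_fix_iff hS he he2 _).mp
  rw [← mul_smul, ← hc, mul_smul, mem_stabilizer_iff.mp he]

/-- commuting involutions fixing `a`, from any pair of commuting involutions -/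
theorem exists_commuting_involutions_stab (hS : Cfsg.IsRankOneSetup G Ω a t Q)
    (h2 : ∃ x y : G, x ≠ 1 ∧ y ≠ 1 ∧ x ≠ y ∧ x * x = 1 ∧ y * y = 1 ∧ x * y = y * x) :
    ∃ x y : G, x ≠ 1 ∧ y ≠ 1 ∧ x ≠ y ∧ x * x = 1 ∧ y * y = 1 ∧ x * y = y * x ∧
      x ∈ stabilizer G a ∧ y ∈ stabilizer G a := by
  obtain ⟨x, y, hx1, hy1, hxy, hxx, hyy, hc⟩ := h2
  have hU := uniqueFix hS
  have hx2 : orderOf x = 2 := orderOf_two_iff.mpr ⟨hx1, hxx⟩
  obtain ⟨δ, hδ⟩ := exists_fixed hU hx2
  have hyδ : y • δ = δ := by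
    apply fixed_unique hU hx2 _ hδ
    rw [← mul_smul, hc, mul_smul, hδ]
  have := isPretransitive hS
  obtain ⟨g, hg⟩ := exists_smul_eq G δ a
  refine ⟨g * x * g⁻¹, g * y * g⁻¹, ?_, ?_, ?_, ?_, ?_, ?_, ?_, ?_⟩
  · intro h; apply hx1
    calc x = g⁻¹ * (g * x * g⁻¹) * g := by group
      _ = 1 := by rw [h]; group
  · intro h; apply hy1
    calc y = g⁻¹ * (g * y * g⁻¹) * g := by group
      _ = 1 := by rw [h]; group
  · intro h; apply hxy
    calc x = g⁻¹ * (g * x * g⁻¹) * g := by group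
      _ = g⁻¹ * (g * y * g⁻¹) * g := by rw [h]
      _ = y := by group
  · calc g * x * g⁻¹ * (g * x * g⁻¹) = g * (x * x) * g⁻¹ := by group
      _ = 1 := by rw [hxx]; group
  · calc g * y * g⁻¹ * (g * y * g⁻¹) = g * (y * y) * g⁻¹ := by group
      _ = 1 := by rw [hyy]; group
  · calc g * x * g⁻¹ * (g * y * g⁻¹) = g * (x * y) * g⁻¹ := by group
      _ = g * (y * x) * g⁻¹ := by rw [hc]
      _ = g * y * g⁻¹ * (g * x * g⁻¹) := by group
  · rw [mem_stabilizer_iff, mul_smul, mul_smul, ← hg, inv_smul_smul, hδ]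
  · rw [mem_stabilizer_iff, mul_smul, mul_smul, ← hg, inv_smul_smul, hyδ]

/-- with 2-rank at least two, `O(G)` fixes `a` -/
theorem pPrimeCore_le_stabilizer (hS : Cfsg.IsRankOneSetup G Ω a t Q)
    (h2 : ∃ x y : G, x ≠ 1 ∧ y ≠ 1 ∧ x ≠ y ∧ x * x = 1 ∧ y * y = 1 ∧ x * y = y * x) :
    Cfsg.pPrimeCore 2 G ≤ stabilizer G a := by
  obtain ⟨x, y, hx1, hy1, hxy, hxx, hyy, hc, hxa, hya⟩ := exists_commuting_involutions_stab hS h2
  obtain ⟨hEA, hE4⟩ := closure_pair_involutions hx1 hy1 hxy hxx hyy hc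
  set E : Subgroup G := Subgroup.closure {x, y} with hE
  have hEa : E ≤ stabilizer G a := by
    rw [hE, Subgroup.closure_le]
    intro z hz
    simp only [Set.mem_insert_iff, Set.mem_singleton_iff] at hz
    rcases hz with rfl | rfl
    · exact hxa
    · exact hya
  have : Fact (Nat.Prime 2) := ⟨Nat.prime_two⟩
  obtain ⟨hMn, hMc⟩ := Cfsg.Agent.Lib.Helper6.pPrimeCore_mem_set (G := G) 2
  have hM2 : ¬ 2 ∣ Nat.card ↥(Cfsg.pPrimeCore 2 G) := by
    rw [← Nat.Prime.coprime_iff_not_dvd Nat.prime_two]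
    exact hMc.symm
  have hnorm : E ≤ Subgroup.normalizer ((Cfsg.pPrimeCore 2 G : Subgroup G) : Set G) := by
    rw [Subgroup.normalizer_eq_top_iff.mpr hMn]; exact le_top
  have key := Cfsg.Agent.S1324.result 2 E (Cfsg.pPrimeCore 2 G) hEA (by norm_num; exact hE4) hM2 hnorm
  rw [key]
  apply iSup_le
  rintro ⟨B, hBE, hBi⟩
  simp only
  -- `B` is nontrivial
  have hB : B ≠ ⊥ := by
    rintro rfl
    rw [Subgroup.relIndex_bot_left] at hBi
    omega
  obtain ⟨⟨e, heB⟩, he1⟩ := (Subgroup.ne_bot_iff_exists_ne_one).mp hB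
  have he1' : e ≠ 1 := fun h => he1 (Subtype.ext h)
  have heE : e ∈ E := hBE heB
  have he2 : orderOf e = 2 := by
    apply orderOf_two_iff.mpr ⟨he1', ?_⟩
    rw [← pow_two]; exact hEA.2 e heE
  rintro m ⟨-, hmC⟩
  have hme : e * m = m * e := Subgroup.mem_centralizer_iff.mp hmC e heB
  exact mem_stabilizer_iff.mpr (smul_a_of_commute_involution hS (hEa heE) he2 hme.symm)


open MulAction
open Cfsg.Agent.Lib.Helper1 Cfsg.Agent.Lib.Helper3 Cfsg.Agent.Lib.Helper3.InvFix Cfsg.Agent.Lib.Helper3.StrEmb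

variable {G Ω : Type*} [Group G] [Finite G] [MulAction G Ω] {a : Ω} {t : G} {Q : Subgroup G}

omit [Finite G] in
/-- the core of `G_a` lies in the two point stabilizer -/
theorem normalCore_le_D (a : Ω) (t : G) :
    (stabilizer G a).normalCore ≤ stabilizer G a ⊓ stabilizer G (t • a) := by
  intro n hn
  refine ⟨Subgroup.normalCore_le _ hn, ?_⟩
  have h1 : t⁻¹ * n * t⁻¹⁻¹ ∈ (stabilizer G a).normalCore :=
    (Subgroup.normalCore_normal _).conj_mem n hn t⁻¹
  have h2 := Subgroup.normalCore_le _ h1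
  rw [mem_stabilizer_iff, mul_smul, mul_smul, inv_inv, inv_smul_eq_iff] at h2
  exact mem_stabilizer_iff.mpr h2

/-- with 2-rank at least two, `O(G)` is the core of `G_a` -/
theorem pPrimeCore_eq_normalCore (hS : Cfsg.IsRankOneSetup G Ω a t Q)
    (h2 : ∃ x y : G, x ≠ 1 ∧ y ≠ 1 ∧ x ≠ y ∧ x * x = 1 ∧ y * y = 1 ∧ x * y = y * x) :
    Cfsg.pPrimeCore 2 G = (stabilizer G a).normalCore := by
  apply le_antisymm
  · have hMn := (Cfsg.Agent.Lib.Helper6.pPrimeCore_mem_set (G := G) 2).1
    rw [Subgroup.normal_le_normalCore]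
    exact pPrimeCore_le_stabilizer hS h2
  · apply Cfsg.Agent.Lib.Helper6.le_pPrimeCore (Subgroup.normalCore_normal _)
    have h1 : Nat.card ↥(stabilizer G a).normalCore ∣
        Nat.card ↥(stabilizer G a ⊓ stabilizer G (t • a)) :=
      Subgroup.card_dvd_of_le (normalCore_le_D a t)
    have h2 : Odd (Nat.card ↥(stabilizer G a).normalCore) := Odd.of_dvd_nat hS.odd_card h1
    exact Nat.Coprime.symm (Nat.coprime_two_left.mpr h2)

end Cfsg.Agent.Lib.Helper3.RankOne
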