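import Mathlib
import Cfsg.Agent.S0033
import Cfsg.Agent.Lib.Helper3.RankOne11

set_option autoImplicit false

namespace Cfsg.Agent.Lib.Helper3.RankOne
open MulAction
open Cfsg.Agent.Lib.Helper1 Cfsg.Agent.Lib.Helper3 Cfsg.Agent.Lib.Helper3.InvFix Cfsg.Agent.Lib.Helper3.StrEmb

variable {G Ω : Type*} [Group G] [Finite G] [MulAction G Ω] {a : Ω} {t : G} {Q : Subgroup G}

/-- conjugation by a normalizing element as an automorphism of the subgroup -/
def conjEquiv (Q : Subgroup G) (x : G) (h : ∀ q ∈ Q, x * q * x⁻¹ ∈ Q)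
    (h' : ∀ q ∈ Q, x⁻¹ * q * x ∈ Q) : Q ≃* Q where
  toFun q := ⟨x * q * x⁻¹, h q q.2⟩
  invFun q := ⟨x⁻¹ * q * x, h' q q.2⟩
  left_inv q := Subtype.ext (by simp only; group)
  right_inv q := Subtype.ext (by simp only; group)
  map_mul' q r := Subtype.ext (by simp only [Subgroup.coe_mul]; group)

omit [Finite G] in
theorem conjEquiv_apply (Q : Subgroup G) (x : G) (h : ∀ q ∈ Q, x * q * x⁻¹ ∈ Q)
    (h' : ∀ q ∈ Q, x⁻¹ * q * x ∈ Q) (q : Q) : ((conjEquiv Q x h h') q : G) = x * q * x⁻¹ := rfl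

omit [Finite G] in
theorem conjEquiv_pow (Q : Subgroup G) (x : G) (h : ∀ q ∈ Q, x * q * x⁻¹ ∈ Q)
    (h' : ∀ q ∈ Q, x⁻¹ * q * x ∈ Q) (n : ℕ) (q : Q) :
    (((conjEquiv Q x h h') ^ n) q : G) = x ^ n * q * (x ^ n)⁻¹ := by
  induction n generalizing q with
  | zero => simp
  | succ n ih =>
    rw [pow_succ, MulAut.mul_apply, ih, conjEquiv_apply, pow_succ]
    group

/-- `Q` is nilpotent when `G` has 2-rank at least two -/
theorem Q_nilpotent (hS : Cfsg.IsRankOneSetup G Ω a t Q)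
    (h2 : ∃ x y : G, x ≠ 1 ∧ y ≠ 1 ∧ x ≠ y ∧ x * x = 1 ∧ y * y = 1 ∧ x * y = y * x) :
    Group.IsNilpotent Q := by
  obtain ⟨x', y', hx1, hy1, hxy, hxx, hyy, hc, hxa, hya⟩ := exists_commuting_involutions_stab hS h2
  have hx2 : orderOf x' = 2 := orderOf_two_iff.mpr ⟨hx1, hxx⟩
  have hy2 : orderOf y' = 2 := orderOf_two_iff.mpr ⟨hy1, hyy⟩
  obtain ⟨k, hk, hkxy⟩ := inverted_transitive hS hxa hx2 hya hy2
  have hk1 : k ≠ 1 := by
    rintro rfl
    rw [inv_one, one_mul, mul_one] at hkxy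
    exact hxy hkxy
  -- a power of prime order
  have hok : orderOf k ≠ 1 := fun h => hk1 (orderOf_eq_one_iff.mp h)
  have hok0 : orderOf k ≠ 0 := (orderOf_pos k).ne'
  set p := (orderOf k).minFac with hp
  have hpp : p.Prime := Nat.minFac_prime hok
  have hz := orderOf_pow_orderOf_div hok0 (Nat.minFac_dvd (orderOf k))
  set z := k ^ (orderOf k / p) with hzdef
  have hzK : z ∈ Cfsg.invertedBy (stabilizer G a ⊓ stabilizer G (t • a)) t :=
    ⟨Subgroup.pow_mem _ hk.1 _, pow_inverted hk.2 _⟩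
  have hz1 : z ≠ 1 := by
    intro h
    rw [h, orderOf_one] at hz
    exact hpp.one_lt.ne hz
  have hfpf := inverted_fpf hS hzK hz1
  have hn1 : ∀ q ∈ Q, z * q * z⁻¹ ∈ Q := fun q hq => hS.conj_mem z hzK.1.1 q hq
  have hn2 : ∀ q ∈ Q, z⁻¹ * q * z ∈ Q := fun q hq => by
    have := hS.conj_mem z⁻¹ (Subgroup.inv_mem _ hzK.1.1) q hq
    rwa [inv_inv] at this
  set φ := conjEquiv Q z hn1 hn2 with hφ
  have hφfpf : MonoidHom.FixedPointFree (φ : Q →* Q) := by
    intro q hq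
    have h1 : z * (q : G) * z⁻¹ = q := congrArg Subtype.val hq
    have h2 : (q : G) ∈ Q ⊓ Subgroup.centralizer {z} := by
      refine ⟨q.2, Subgroup.mem_centralizer_singleton_iff.mpr ?_⟩
      calc (q : G) * z = (z * (q : G) * z⁻¹) * z := by rw [h1]
        _ = z * q := by group
    rw [hfpf, Subgroup.mem_bot] at h2
    exact Subtype.ext h2
  have hφp : φ ^ p = 1 := by
    ext q
    have hzp : z ^ p = 1 := by rw [hp, ← hz]; exact pow_orderOf_eq_one z
    rw [conjEquiv_pow, hzp]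
    simp
  have hφ1 : φ ≠ 1 := by
    intro h
    obtain ⟨q, hqQ, hq1⟩ := exists_ne_one hS
    apply hq1
    have := hφfpf ⟨q, hqQ⟩ (by rw [MonoidHom.coe_coe, h]; rfl)
    exact congrArg Subtype.val this
  have : Fact p.Prime := ⟨hpp⟩
  exact Cfsg.Agent.S0033.result φ hφfpf p hpp (orderOf_eq_prime hφp hφ1)

end Cfsg.Agent.Lib.Helper3.RankOne
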