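import Mathlib
import Cfsg.Agent.Lib.Lead.Nilpotent
import Cfsg.Agent.Lib.Helper3.RankOne12

set_option autoImplicit false

namespace Cfsg.Agent.Lib.Helper3.RankOne
open MulAction
open Cfsg.Agent.Lib.Helper1 Cfsg.Agent.Lib.Helper3 Cfsg.Agent.Lib.Helper3.InvFix Cfsg.Agent.Lib.Helper3.StrEmb

variable {G Ω : Type*} [Group G] [Finite G] [MulAction G Ω] {a : Ω} {t : G} {Q : Subgroup G}

/-- a finite nilpotent group of even order has a central involution -/
theorem exists_central_involution_of_nilpotent {H : Type*} [Group H] [Finite H]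
    [Group.IsNilpotent H] (h : Even (Nat.card H)) : ∃ s ∈ Subgroup.center H, orderOf s = 2 := by
  have : Fact (Nat.Prime 2) := ⟨Nat.prime_two⟩
  obtain ⟨P⟩ : Nonempty (Sylow 2 H) := inferInstance
  have hPn : (P : Subgroup H).Normal := inferInstance
  have hP : (P : Subgroup H) ≠ ⊥ := P.ne_bot_of_dvd_card (even_iff_two_dvd.mp h)
  have hN := Cfsg.Agent.Lib.Lead.inf_center_ne_bot (P : Subgroup H) hP
  have hN2 : IsPGroup 2 ↥((P : Subgroup H) ⊓ Subgroup.center H) := P.isPGroup'.to_le inf_le_left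
  obtain ⟨n, hn⟩ := IsPGroup.iff_card.mp hN2
  have hn0 : n ≠ 0 := by
    rintro rfl
    rw [pow_zero, Subgroup.card_eq_one] at hn
    exact hN hn
  have h2 : 2 ∣ Nat.card ↥((P : Subgroup H) ⊓ Subgroup.center H) := by
    rw [hn]; exact dvd_pow_self 2 hn0
  have := Fintype.ofFinite ↥((P : Subgroup H) ⊓ Subgroup.center H)
  rw [Nat.card_eq_fintype_card] at h2
  obtain ⟨s, hs⟩ := exists_prime_orderOf_dvd_card 2 h2
  refine ⟨(s : H), s.2.2, ?_⟩
  rw [Subgroup.orderOf_coe]; exact hs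

/-- `Q` has a central involution -/
theorem exists_central_involution (hS : Cfsg.IsRankOneSetup G Ω a t Q)
    (h2 : ∃ x y : G, x ≠ 1 ∧ y ≠ 1 ∧ x ≠ y ∧ x * x = 1 ∧ y * y = 1 ∧ x * y = y * x) :
    ∃ s ∈ Q, orderOf s = 2 ∧ ∀ x ∈ Q, s * x = x * s := by
  have := Q_nilpotent hS h2
  obtain ⟨s, hsZ, hs2⟩ := exists_central_involution_of_nilpotent (H := Q) hS.even_card
  refine ⟨(s : G), s.2, by rw [Subgroup.orderOf_coe]; exact hs2, ?_⟩
  intro x hx
  have := Subgroup.mem_center_iff.mp hsZ ⟨x, hx⟩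
  exact (congrArg Subtype.val this).symm

/-- the involutions of `G_a` are central in `Q` -/
theorem involution_central (hS : Cfsg.IsRankOneSetup G Ω a t Q)
    (h2 : ∃ x y : G, x ≠ 1 ∧ y ≠ 1 ∧ x ≠ y ∧ x * x = 1 ∧ y * y = 1 ∧ x * y = y * x) {s : G}
    (hs : s ∈ stabilizer G a) (hs2 : orderOf s = 2) : ∀ x ∈ Q, s * x = x * s := by
  obtain ⟨s₀, hs₀Q, hs₀2, hs₀c⟩ := exists_central_involution hS h2
  obtain ⟨k, hk, rfl⟩ := inverted_transitive hS (hS.le hs₀Q) hs₀2 hs hs2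
  intro x hx
  have h1 : k * x * k⁻¹ ∈ Q := hS.conj_mem k hk.1.1 x hx
  have h3 := hs₀c _ h1
  calc k⁻¹ * s₀ * k * x = k⁻¹ * (s₀ * (k * x * k⁻¹)) * k := by group
    _ = k⁻¹ * ((k * x * k⁻¹) * s₀) * k := by rw [h3]
    _ = x * (k⁻¹ * s₀ * k) := by group

/-- the product of two involutions of `G_a` is trivial or an involution of `G_a` -/
theorem involution_mul (hS : Cfsg.IsRankOneSetup G Ω a t Q)
    (h2 : ∃ x y : G, x ≠ 1 ∧ y ≠ 1 ∧ x ≠ y ∧ x * x = 1 ∧ y * y = 1 ∧ x * y = y * x) {s s' : G}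
    (hs : s ∈ stabilizer G a) (hs2 : orderOf s = 2) (hs' : s' ∈ stabilizer G a)
    (hs'2 : orderOf s' = 2) : s * s' = 1 ∨ (s * s' ∈ stabilizer G a ∧ orderOf (s * s') = 2) := by
  by_cases h : s * s' = 1
  · left; exact h
  right
  refine ⟨Subgroup.mul_mem _ hs hs', ?_⟩
  have hc := involution_central hS h2 hs hs2 s' (involution_mem_Q hS hs' (invol_mul_self hs'2))
  apply orderOf_two_of_mul_self _ h
  calc s * s' * (s * s') = s * (s' * s) * s' := by group
    _ = s * (s * s') * s' := by rw [hc]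
    _ = (s * s) * (s' * s') := by group
    _ = 1 := by rw [invol_mul_self hs2, invol_mul_self hs'2, one_mul]

end Cfsg.Agent.Lib.Helper3.RankOne
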