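import Mathlib
import Cfsg.Agent.Lib.Helper3.RankOne13

set_option autoImplicit false

namespace Cfsg.Agent.Lib.Helper3.RankOne
open MulAction
open Cfsg.Agent.Lib.Helper1 Cfsg.Agent.Lib.Helper3 Cfsg.Agent.Lib.Helper3.InvFix Cfsg.Agent.Lib.Helper3.StrEmb

variable {G Ω : Type*} [Group G] [Finite G] [MulAction G Ω] {a : Ω} {t : G} {Q : Subgroup G}

omit [Finite G] in
/-- an element of odd order commuting with the square commutes -/
theorem commute_of_commute_sq {x z : G} (hz : Odd (orderOf z)) (h : x * (z * z) = (z * z) * x) :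
    x * z = z * x := by
  obtain ⟨n, hn⟩ := exists_pow_sq_eq_of_odd_order z hz
  have h1 : z = (z * z) ^ n := by
    conv_lhs => rw [← hn]
    rw [← pow_two, ← pow_two, ← pow_mul, ← pow_mul, mul_comm]
  have h2 : Commute x (z * z) := h
  have h3 : Commute x ((z * z) ^ n) := h2.pow_right n
  rw [← h1] at h3
  exact h3

/-- subsets of `V = C_D(t)` conjugate in `G` are conjugate in `V` -/
theorem fusion_in_V (hS : Cfsg.IsRankOneSetup G Ω a t Q) (X : Set G)
    (hX : X ⊆ (((stabilizer G a ⊓ stabilizer G (t • a)) ⊓ Subgroup.centralizer {t} : Subgroup G) : Set G))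
    (g : G)
    (hY : (fun x => g * x * g⁻¹) '' X ⊆
      (((stabilizer G a ⊓ stabilizer G (t • a)) ⊓ Subgroup.centralizer {t} : Subgroup G) : Set G)) :
    ∃ v ∈ (stabilizer G a ⊓ stabilizer G (t • a)) ⊓ Subgroup.centralizer {t},
      (fun x => v * x * v⁻¹) '' X = (fun x => g * x * g⁻¹) '' X := by
  have hU := uniqueFix hS
  have hXD : X ⊆ ((stabilizer G a ⊓ stabilizer G (t • a) : Subgroup G) : Set G) :=
    fun x hx => (hX hx).1
  have hXt : ∀ x ∈ X, t * x = x * t := fun x hx =>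
    (Subgroup.mem_centralizer_singleton_iff.mp (show x ∈ Subgroup.centralizer {t} from (hX hx).2)).symm
  have hYD : ∀ x ∈ X, g * x * g⁻¹ ∈ stabilizer G a ⊓ stabilizer G (t • a) :=
    fun x hx => (hY ⟨x, hx, rfl⟩).1
  have hYt : ∀ x ∈ X, t * (g * x * g⁻¹) = (g * x * g⁻¹) * t := fun x hx =>
    (Subgroup.mem_centralizer_singleton_iff.mp
      (show g * x * g⁻¹ ∈ Subgroup.centralizer {t} from (hY ⟨x, hx, rfl⟩).2)).symm
  obtain ⟨γ, hγ⟩ := exists_fixed hU (orderOf_t hS)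
  have hγa : γ ≠ a := by
    intro h; rw [h] at hγ; exact ta_ne hS hγ
  have hγta : γ ≠ t • a := by
    intro h
    rw [h, tta hS] at hγ
    exact ta_ne hS hγ.symm
  have hγF : ∀ x ∈ X, x • γ = γ := by
    intro x hx
    apply fixed_unique hU (orderOf_t hS) _ hγ
    rw [← mul_smul, hXt x hx, mul_smul, hγ]
  have h3 : ∃ e : Ω, e ≠ a ∧ e ≠ t • a ∧ ∀ x ∈ X, x • e = e := ⟨γ, hγa, hγta, hγF⟩
  have haF : ∀ x ∈ X, x • a = a := fun x hx => mem_stabilizer_iff.mp (hXD hx).1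
  have htaF : ∀ x ∈ X, x • (t • a) = t • a := fun x hx => mem_stabilizer_iff.mp (hXD hx).2
  have h1F : ∀ x ∈ X, x • (g⁻¹ • a) = g⁻¹ • a := by
    intro x hx
    have := mem_stabilizer_iff.mp (hYD x hx).1
    rw [mul_smul, mul_smul] at this
    rw [smul_eq_iff_eq_inv_smul] at this
    exact this
  have h2F : ∀ x ∈ X, x • (g⁻¹ • (t • a)) = g⁻¹ • (t • a) := by
    intro x hx
    have := mem_stabilizer_iff.mp (hYD x hx).2
    rw [mul_smul, mul_smul] at this
    rw [smul_eq_iff_eq_inv_smul] at this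
    exact this
  have hne : g⁻¹ • a ≠ g⁻¹ • (t • a) := fun h => ta_ne hS (smul_left_cancel _ h).symm
  obtain ⟨c, hc, hc1, hc2⟩ := centralizer_two_transitive hS hXD h3 haF htaF (ta_ne hS).symm
    h1F h2F hne
  have hg'D : g * c ∈ stabilizer G a ⊓ stabilizer G (t • a) := by
    refine Subgroup.mem_inf.mpr ⟨?_, ?_⟩
    · rw [mem_stabilizer_iff, mul_smul, hc1, smul_inv_smul]
    · rw [mem_stabilizer_iff, mul_smul, hc2, smul_inv_smul]
  have hg'x : ∀ x ∈ X, (g * c) * x * (g * c)⁻¹ = g * x * g⁻¹ := by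
    intro x hx
    have := Subgroup.mem_centralizer_iff.mp hc x hx
    calc (g * c) * x * (g * c)⁻¹ = g * (c * x) * c⁻¹ * g⁻¹ := by group
      _ = g * (x * c) * c⁻¹ * g⁻¹ := by rw [this]
      _ = g * x * g⁻¹ := by group
  have hnorm : ∀ x ∈ stabilizer G a ⊓ stabilizer G (t • a),
      t * x * t⁻¹ ∈ stabilizer G a ⊓ stabilizer G (t • a) := by
    intro x hx; rw [t_inv hS]; exact t_conj_mem_D hS hx
  obtain ⟨⟨y, z⟩, ⟨hy, hz, hyz⟩, -⟩ := (Cfsg.Agent.S1124.result t (orderOf_t hS)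
    (stabilizer G a ⊓ stabilizer G (t • a)) hS.odd_card hnorm).1 (g * c) hg'D
  simp only at hy hz hyz
  have hyt : t * y = y * t :=
    (Subgroup.mem_centralizer_singleton_iff.mp (show y ∈ Subgroup.centralizer {t} from hy.2)).symm
  have hzodd : Odd (orderOf z) := by
    have h3 : orderOf (⟨z, hz.1⟩ : (stabilizer G a ⊓ stabilizer G (t • a) : Subgroup G)) ∣ _ :=
      orderOf_dvd_natCard _
    rw [← Subgroup.orderOf_coe] at h3
    exact Odd.of_dvd_nat hS.odd_card h3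
  have hzx : ∀ x ∈ X, x * z = z * x := by
    intro x hx
    apply commute_of_commute_sq hzodd
    -- z x z⁻¹ commutes with t
    have h4 : z * x * z⁻¹ = y⁻¹ * (g * x * g⁻¹) * y := by
      rw [← hg'x x hx, hyz]; group
    have hyt' : t * y⁻¹ = y⁻¹ * t := by
      calc t * y⁻¹ = y⁻¹ * (y * t) * y⁻¹ := by group
        _ = y⁻¹ * (t * y) * y⁻¹ := by rw [hyt]
        _ = y⁻¹ * t := by group
    have h5 : t * (z * x * z⁻¹) = (z * x * z⁻¹) * t := by
      rw [h4]
      calc t * (y⁻¹ * (g * x * g⁻¹) * y) = (t * y⁻¹) * (g * x * g⁻¹) * y := by group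
        _ = y⁻¹ * (t * (g * x * g⁻¹)) * y := by rw [hyt']; group
        _ = y⁻¹ * ((g * x * g⁻¹) * t) * y := by rw [hYt x hx]
        _ = y⁻¹ * (g * x * g⁻¹) * (t * y) := by group
        _ = y⁻¹ * (g * x * g⁻¹) * (y * t) := by rw [hyt]
        _ = y⁻¹ * (g * x * g⁻¹) * y * t := by group
    have hzinv : t * z * t⁻¹ = z⁻¹ := hz.2
    have hzinv' : t * z⁻¹ * t⁻¹ = z := by
      calc t * z⁻¹ * t⁻¹ = (t * z * t⁻¹)⁻¹ := by group
        _ = z := by rw [hzinv, inv_inv]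
    have h6 : z⁻¹ * x * z = z * x * z⁻¹ := by
      calc z⁻¹ * x * z = (t * z * t⁻¹) * x * (t * z⁻¹ * t⁻¹) := by rw [hzinv, hzinv']
        _ = t * z * (t⁻¹ * x * t) * z⁻¹ * t⁻¹ := by group
        _ = t * z * x * z⁻¹ * t⁻¹ := by
            have : t⁻¹ * x * t = x := by
              calc t⁻¹ * x * t = t⁻¹ * (x * t) := by group
                _ = t⁻¹ * (t * x) := by rw [hXt x hx]
                _ = x := by group
            rw [this]
        _ = (t * (z * x * z⁻¹)) * t⁻¹ := by group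
        _ = (z * x * z⁻¹) * t * t⁻¹ := by rw [h5]
        _ = z * x * z⁻¹ := by group
    calc x * (z * z) = z * (z⁻¹ * x * z) * z := by group
      _ = z * (z * x * z⁻¹) * z := by rw [h6]
      _ = z * z * x := by group
  refine ⟨y, hy, ?_⟩
  apply Set.image_congr
  intro x hx
  show y * x * y⁻¹ = g * x * g⁻¹
  rw [← hg'x x hx, hyz]
  calc y * x * y⁻¹ = y * (x * z) * z⁻¹ * y⁻¹ := by group
    _ = y * (z * x) * z⁻¹ * y⁻¹ := by rw [hzx x hx]
    _ = y * z * x * (y * z)⁻¹ := by group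

end Cfsg.Agent.Lib.Helper3.RankOne
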