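import Mathlib
import Cfsg.Agent.Lib.Helper3.RankOne14

set_option autoImplicit false

namespace Cfsg.Agent.Lib.Helper3.RankOne
open MulAction
open Cfsg.Agent.Lib.Helper1 Cfsg.Agent.Lib.Helper3 Cfsg.Agent.Lib.Helper3.InvFix Cfsg.Agent.Lib.Helper3.StrEmb

variable {G Ω : Type*} [Group G] [Finite G] [MulAction G Ω] {a : Ω} {t : G} {Q : Subgroup G}

/-- a finite set with a fixed point free involution has even cardinality -/
theorem even_ncard_of_involution {α : Type*} (F : Set α) (hF : F.Finite) (f : α → α)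
    (hmem : ∀ x ∈ F, f x ∈ F) (hinv : ∀ x ∈ F, f (f x) = x) (hne : ∀ x ∈ F, f x ≠ x) :
    Even F.ncard := by
  classical
  rw [Set.ncard_eq_toFinset_card F hF]
  have h := Finset.sum_involution (s := hF.toFinset) (f := fun _ => (1 : ZMod 2))
    (fun x _ => f x) (fun _ _ => by decide)
    (fun x hx _ => hne x (hF.mem_toFinset.mp hx))
    (fun x hx => hF.mem_toFinset.mpr (hmem x (hF.mem_toFinset.mp hx)))
    (fun x hx => hinv x (hF.mem_toFinset.mp hx))
  rw [Finset.sum_const, nsmul_eq_mul, mul_one, ZMod.natCast_eq_zero_iff] at h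
  exact even_iff_two_dvd.mpr h

/-- the number of fixed points of `X ⊆ D` is `|C_Q(X)| + 1` -/
theorem ncard_fixed_eq (hS : Cfsg.IsRankOneSetup G Ω a t Q) {X : Set G}
    (hX : X ⊆ ((stabilizer G a ⊓ stabilizer G (t • a) : Subgroup G) : Set G)) :
    {ω : Ω | ∀ x ∈ X, x • ω = ω}.ncard = Nat.card ↥(Subgroup.centralizer X ⊓ Q) + 1 := by
  have hfin : Finite Ω := finite_omega hS
  have haF : ∀ x ∈ X, x • a = a := fun x hx => mem_stabilizer_iff.mp (hX hx).1
  have htaF : ∀ x ∈ X, x • (t • a) = t • a := fun x hx => mem_stabilizer_iff.mp (hX hx).2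
  have hEq : {ω : Ω | ∀ x ∈ X, x • ω = ω} =
      insert a ((fun y : G => y • (t • a)) '' ((Subgroup.centralizer X ⊓ Q : Subgroup G) : Set G)) := by
    ext ω
    simp only [Set.mem_ofPred_eq, Set.mem_insert_iff, Set.mem_image, SetLike.mem_coe]
    constructor
    · intro hω
      by_cases hωa : ω = a
      · left; exact hωa
      · right
        obtain ⟨y, hy, hyω⟩ := exists_centralizer_Q_smul hS hX (ta_ne hS) hωa htaF hω
        exact ⟨y, hy, hyω⟩
    · rintro (rfl | ⟨y, hy, rfl⟩)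
      · exact haF
      · exact smul_fix_of_mem_centralizer hy.1 htaF
  rw [hEq, Set.ncard_insert_of_notMem _ (Set.toFinite _), Set.InjOn.ncard_image]
  · rw [← Nat.card_coe_set_eq]; rfl
  · intro y hy y' hy' h
    simp only at h
    have h1 : (y'⁻¹ * y) • (t • a) = t • a := by rw [mul_smul, h, inv_smul_smul]
    have h2 := eq_one_of_smul_eq hS (Q.mul_mem (Q.inv_mem hy'.2) hy.2) (ta_ne hS) h1
    calc y = y' * (y'⁻¹ * y) := by group
      _ = y' := by rw [h2, mul_one]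
  · rintro ⟨y, hy, h⟩
    simp only at h
    exact smul_ne_a y (smul_a_of_mem_Q hS hy.2) (ta_ne hS) h

/-- an involution inverting a nonidentity element of odd order has no common fixed point with it -/
theorem no_common_fixed_point (hS : Cfsg.IsRankOneSetup G Ω a t Q)
    (h2 : ∃ x y : G, x ≠ 1 ∧ y ≠ 1 ∧ x ≠ y ∧ x * x = 1 ∧ y * y = 1 ∧ x * y = y * x) {u x : G}
    (hu : orderOf u = 2) (hxodd : Odd (orderOf x)) (hx1 : x ≠ 1) (hinv : u * x * u⁻¹ = x⁻¹)
    {ω : Ω} (huω : u • ω = ω) : x • ω ≠ ω := by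
  intro hxω
  have := isPretransitive hS
  obtain ⟨g, hg⟩ := exists_smul_eq G ω a
  have hu'a : g * u * g⁻¹ ∈ stabilizer G a := by
    rw [mem_stabilizer_iff, mul_smul, mul_smul, ← hg, inv_smul_smul, huω]
  have hx'a : g * x * g⁻¹ ∈ stabilizer G a := by
    rw [mem_stabilizer_iff, mul_smul, mul_smul, ← hg, inv_smul_smul, hxω]
  have hu'2 : orderOf (g * u * g⁻¹) = 2 := by rw [orderOf_conj]; exact hu
  have hu'Q : g * u * g⁻¹ ∈ Q := involution_mem_Q hS hu'a (invol_mul_self hu'2)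
  have hinv' : (g * u * g⁻¹) * (g * x * g⁻¹) * (g * u * g⁻¹)⁻¹ = (g * x * g⁻¹)⁻¹ := by
    calc (g * u * g⁻¹) * (g * x * g⁻¹) * (g * u * g⁻¹)⁻¹ = g * (u * x * u⁻¹) * g⁻¹ := by group
      _ = (g * x * g⁻¹)⁻¹ := by rw [hinv]; group
  set u' := g * u * g⁻¹
  set x' := g * x * g⁻¹
  have hsq : x' * x' ∈ Q := by
    have h3 : x' * u' * x'⁻¹ ∈ Q := hS.conj_mem x' hx'a u' hu'Q
    have h4 : x' * x' = (x' * u' * x'⁻¹) * u'⁻¹ := by
      have : u' * x'⁻¹ * u'⁻¹ = x' := by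
        calc u' * x'⁻¹ * u'⁻¹ = (u' * x' * u'⁻¹)⁻¹ := by group
          _ = x' := by rw [hinv', inv_inv]
      calc x' * x' = x' * (u' * x'⁻¹ * u'⁻¹) := by rw [this]
        _ = (x' * u' * x'⁻¹) * u'⁻¹ := by group
    rw [h4]
    exact Q.mul_mem h3 (Q.inv_mem hu'Q)
  have hx'odd : Odd (orderOf x') := by rw [orderOf_conj]; exact hxodd
  obtain ⟨n, hn⟩ := exists_pow_sq_eq_of_odd_order x' hx'odd
  have hx'Q : x' ∈ Q := by
    have h1 : x' = (x' * x') ^ n := by
      conv_lhs => rw [← hn]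
      rw [← pow_two, ← pow_two, ← pow_mul, ← pow_mul, mul_comm]
    rw [h1]; exact Q.pow_mem hsq n
  have hcomm := involution_central hS h2 hu'a hu'2 x' hx'Q
  have hxx : x' * x' = 1 := by
    have : x' = x'⁻¹ := by
      calc x' = (x' * u') * u'⁻¹ := by group
        _ = u' * x' * u'⁻¹ := by rw [hcomm]
        _ = x'⁻¹ := hinv'
    calc x' * x' = x' * x'⁻¹ := by rw [← this]
      _ = 1 := mul_inv_cancel x'
  have hx'1 : x' = 1 := eq_one_of_odd_of_mul_self x' hx'odd hxx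
  apply hx1
  calc x = g⁻¹ * x' * g := by simp only [x']; group
    _ = 1 := by rw [hx'1]; group


open MulAction
open Cfsg.Agent.Lib.Helper1 Cfsg.Agent.Lib.Helper3 Cfsg.Agent.Lib.Helper3.InvFix Cfsg.Agent.Lib.Helper3.StrEmb

variable {G Ω : Type*} [Group G] [Finite G] [MulAction G Ω] {a : Ω} {t : G} {Q : Subgroup G}

/-- a nonidentity element of `D` inverted by an involution centralizes no involution of `Q` -/
theorem no_involution_of_inverted (hS : Cfsg.IsRankOneSetup G Ω a t Q)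
    (h2 : ∃ x y : G, x ≠ 1 ∧ y ≠ 1 ∧ x ≠ y ∧ x * x = 1 ∧ y * y = 1 ∧ x * y = y * x) {u x w : G}
    (hxD : x ∈ stabilizer G a ⊓ stabilizer G (t • a)) (hx1 : x ≠ 1)
    (hu : orderOf u = 2) (hinv : u * x * u⁻¹ = x⁻¹)
    (hwQ : w ∈ Q) (hw : orderOf w = 2) (hwx : w * x = x * w) : False := by
  have hfin : Finite Ω := finite_omega hS
  have hxodd : Odd (orderOf x) := by
    have h3 : orderOf (⟨x, hxD⟩ : (stabilizer G a ⊓ stabilizer G (t • a) : Subgroup G)) ∣ _ :=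
      orderOf_dvd_natCard _
    rw [← Subgroup.orderOf_coe] at h3
    exact Odd.of_dvd_nat hS.odd_card h3
  have hX : ({x} : Set G) ⊆ ((stabilizer G a ⊓ stabilizer G (t • a) : Subgroup G) : Set G) := by
    intro z hz; rw [Set.mem_singleton_iff] at hz; rw [hz]; exact hxD
  have huu := invol_mul_self hu
  have huinv := invol_inv hu
  -- `u` permutes the fixed points of `x` without fixed points
  have hperm : ∀ ω : Ω, x • ω = ω → x • (u • ω) = u • ω := by
    intro ω hω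
    have h1 : x * u = u * x⁻¹ := by
      have e : u * x⁻¹ * u⁻¹ = x := by
        calc u * x⁻¹ * u⁻¹ = (u * x * u⁻¹)⁻¹ := by group
          _ = x := by rw [hinv, inv_inv]
      calc x * u = (u * x⁻¹ * u⁻¹) * u := by rw [e]
        _ = u * x⁻¹ := by group
    rw [← mul_smul, h1, mul_smul, inv_smul_eq_iff.mpr hω.symm]
  have hnofix : ∀ ω : Ω, x • ω = ω → u • ω ≠ ω := by
    intro ω hω huω
    exact no_common_fixed_point hS h2 hu hxodd hx1 hinv huω hω
  by_cases h3 : ∃ e : Ω, e ≠ a ∧ e ≠ t • a ∧ ∀ x' ∈ ({x} : Set G), x' • e = e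
  · -- at least three fixed points: odd number, contradiction
    have hcard := ncard_fixed_eq hS hX
    have hev := even_card_centralizer_inf_Q hS hX h3
    have hEven : Even {ω : Ω | ∀ x' ∈ ({x} : Set G), x' • ω = ω}.ncard := by
      apply even_ncard_of_involution _ (Set.toFinite _) (fun ω => u • ω)
      · intro ω hω x' hx'
        rw [Set.mem_singleton_iff] at hx'; rw [hx']
        exact hperm ω (hω x rfl)
      · intro ω _
        show u • u • ω = ω
        rw [← mul_smul, huu, one_smul]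
      · intro ω hω
        exact hnofix ω (hω x rfl)
    rw [hcard] at hEven
    obtain ⟨m, hm⟩ := hev
    obtain ⟨m', hm'⟩ := hEven
    omega
  · -- exactly two fixed points
    push Not at h3
    have hxa : x • a = a := mem_stabilizer_iff.mp hxD.1
    have hxta : x • (t • a) = t • a := mem_stabilizer_iff.mp hxD.2
    have hua : u • a = t • a := by
      by_contra hne
      obtain ⟨x', hx', hx'e⟩ := h3 (u • a) (hnofix a hxa) hne
      rw [Set.mem_singleton_iff] at hx'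
      rw [hx'] at hx'e
      exact hx'e (hperm a hxa)
    obtain ⟨hkD, hkinv⟩ := swap_mul_t_mem hS hu hua
    have hodd : Odd (orderOf (u * t)) := by
      have h3 : orderOf (⟨u * t, hkD⟩ : (stabilizer G a ⊓ stabilizer G (t • a) : Subgroup G)) ∣ _ :=
        orderOf_dvd_natCard _
      rw [← Subgroup.orderOf_coe] at h3
      exact Odd.of_dvd_nat hS.odd_card h3
    obtain ⟨n, hn⟩ := exists_pow_sq_eq_of_odd_order (u * t) hodd
    have hk1D : (u * t) ^ n ∈ stabilizer G a ⊓ stabilizer G (t • a) := Subgroup.pow_mem _ hkD _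
    have hk1inv := pow_inverted hkinv n
    set k₁ := (u * t) ^ n with hk₁
    have htk : t * k₁⁻¹ = k₁ * t := by
      have : t * k₁ = k₁⁻¹ * t := by
        calc t * k₁ = (t * k₁ * t⁻¹) * t := by group
          _ = k₁⁻¹ * t := by rw [hk1inv]
      calc t * k₁⁻¹ = k₁ * (k₁⁻¹ * t) * k₁⁻¹ := by group
        _ = k₁ * (t * k₁) * k₁⁻¹ := by rw [this]
        _ = k₁ * t := by group
    have hueq : u = k₁ * t * k₁⁻¹ := by
      calc u = (u * t) * t⁻¹ := by group
        _ = k₁ * k₁ * t⁻¹ := by rw [hn]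
        _ = k₁ * (k₁ * t) := by rw [t_inv hS]; group
        _ = k₁ * (t * k₁⁻¹) := by rw [htk]
        _ = k₁ * t * k₁⁻¹ := by group
    have ht : t = k₁⁻¹ * u * k₁ := by rw [hueq]; group
    -- `x'' = k₁⁻¹ x k₁` is inverted by `t`
    have hx''K : k₁⁻¹ * x * k₁ ∈ Cfsg.invertedBy (stabilizer G a ⊓ stabilizer G (t • a)) t := by
      refine ⟨Subgroup.mul_mem _ (Subgroup.mul_mem _ (Subgroup.inv_mem _ hk1D) hxD) hk1D, ?_⟩
      have e1 : t⁻¹ = k₁⁻¹ * u⁻¹ * k₁ := by rw [ht]; group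
      conv_lhs => rw [e1]
      rw [ht]
      calc k₁⁻¹ * u * k₁ * (k₁⁻¹ * x * k₁) * (k₁⁻¹ * u⁻¹ * k₁) = k₁⁻¹ * (u * x * u⁻¹) * k₁ := by group
        _ = (k₁⁻¹ * x * k₁)⁻¹ := by rw [hinv]; group
    have hx''1 : k₁⁻¹ * x * k₁ ≠ 1 := by
      intro h; apply hx1
      calc x = k₁ * (k₁⁻¹ * x * k₁) * k₁⁻¹ := by group
        _ = 1 := by rw [h]; group
    have hfpf := inverted_fpf hS hx''K hx''1
    have hw'' : k₁⁻¹ * w * k₁ ∈ Q ⊓ Subgroup.centralizer {k₁⁻¹ * x * k₁} := by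
      refine ⟨conj_mem_Q_of_mem_D' hS hk1D hwQ, Subgroup.mem_centralizer_singleton_iff.mpr ?_⟩
      calc k₁⁻¹ * w * k₁ * (k₁⁻¹ * x * k₁) = k₁⁻¹ * (w * x) * k₁ := by group
        _ = k₁⁻¹ * (x * w) * k₁ := by rw [hwx]
        _ = k₁⁻¹ * x * k₁ * (k₁⁻¹ * w * k₁) := by group
    rw [hfpf, Subgroup.mem_bot] at hw''
    have hw1 : w = 1 := by
      calc w = k₁ * (k₁⁻¹ * w * k₁) * k₁⁻¹ := by group
        _ = 1 := by rw [hw'']; group
    rw [hw1, orderOf_one] at hw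
    omega


open MulAction
open Cfsg.Agent.Lib.Helper1 Cfsg.Agent.Lib.Helper3 Cfsg.Agent.Lib.Helper3.InvFix Cfsg.Agent.Lib.Helper3.StrEmb

variable {G Ω : Type*} [Group G] [Finite G] [MulAction G Ω] {a : Ω} {t : G} {Q : Subgroup G}

/-- involutions with a common fixed point commute -/
theorem involutions_commute_of_common_fixed (hS : Cfsg.IsRankOneSetup G Ω a t Q)
    (h2 : ∃ x y : G, x ≠ 1 ∧ y ≠ 1 ∧ x ≠ y ∧ x * x = 1 ∧ y * y = 1 ∧ x * y = y * x) {u v : G}
    (hu : orderOf u = 2) (hv : orderOf v = 2) {ω : Ω} (huω : u • ω = ω) (hvω : v • ω = ω) :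
    u * v = v * u := by
  have := isPretransitive hS
  obtain ⟨g, hg⟩ := exists_smul_eq G ω a
  have hu'a : g * u * g⁻¹ ∈ stabilizer G a := by
    rw [mem_stabilizer_iff, mul_smul, mul_smul, ← hg, inv_smul_smul, huω]
  have hv'a : g * v * g⁻¹ ∈ stabilizer G a := by
    rw [mem_stabilizer_iff, mul_smul, mul_smul, ← hg, inv_smul_smul, hvω]
  have hu'2 : orderOf (g * u * g⁻¹) = 2 := by rw [orderOf_conj]; exact hu
  have hv'2 : orderOf (g * v * g⁻¹) = 2 := by rw [orderOf_conj]; exact hv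
  have hc := involution_central hS h2 hu'a hu'2 _ (involution_mem_Q hS hv'a (invol_mul_self hv'2))
  calc u * v = g⁻¹ * ((g * u * g⁻¹) * (g * v * g⁻¹)) * g := by group
    _ = g⁻¹ * ((g * v * g⁻¹) * (g * u * g⁻¹)) * g := by rw [hc]
    _ = v * u := by group

/-- the fixed points of two involutions whose product is not of order at most two differ -/
theorem fixed_ne_of_mul_sq_ne_one (hS : Cfsg.IsRankOneSetup G Ω a t Q)
    (h2 : ∃ x y : G, x ≠ 1 ∧ y ≠ 1 ∧ x ≠ y ∧ x * x = 1 ∧ y * y = 1 ∧ x * y = y * x) {u v : G}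
    (hu : orderOf u = 2) (hv : orderOf v = 2) (hx : (u * v) * (u * v) ≠ 1) {α β : Ω}
    (huα : u • α = α) (hvβ : v • β = β) : α ≠ β := by
  rintro rfl
  apply hx
  have hc := involutions_commute_of_common_fixed hS h2 hu hv huα hvβ
  calc u * v * (u * v) = u * (v * u) * v := by group
    _ = u * (u * v) * v := by rw [hc]
    _ = (u * u) * (v * v) := by group
    _ = 1 := by rw [invol_mul_self hu, invol_mul_self hv, one_mul]

/-- a strongly real element of order greater than two has a centralizer of odd order -/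
theorem odd_card_centralizer_strongly_real (hS : Cfsg.IsRankOneSetup G Ω a t Q)
    (h2 : ∃ x y : G, x ≠ 1 ∧ y ≠ 1 ∧ x ≠ y ∧ x * x = 1 ∧ y * y = 1 ∧ x * y = y * x) {u v : G}
    (hu : orderOf u = 2) (hv : orderOf v = 2) (hx : (u * v) * (u * v) ≠ 1) :
    Odd (Nat.card ↥(Subgroup.centralizer {u * v})) := by
  have hU := uniqueFix hS
  obtain ⟨α, hα⟩ := exists_fixed hU hu
  obtain ⟨β, hβ⟩ := exists_fixed hU hv
  have hαβ := fixed_ne_of_mul_sq_ne_one hS h2 hu hv hx hα hβ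
  have hxodd : Odd (orderOf (u * v)) := odd_orderOf_mul hU hu hv hα hβ hαβ
  have hx1 : u * v ≠ 1 := by
    intro h; apply hx; rw [h, one_mul]
  have hinv : u * (u * v) * u⁻¹ = (u * v)⁻¹ := by
    rw [mul_inv_rev, invol_inv hu, invol_inv hv]
    calc u * (u * v) * u = (u * u) * v * u := by group
      _ = v * u := by rw [invol_mul_self hu, one_mul]
  by_contra hodd
  rw [Nat.not_odd_iff_even] at hodd
  have : Fact (Nat.Prime 2) := ⟨Nat.prime_two⟩
  obtain ⟨w₀, hw₀⟩ : ∃ w : ↥(Subgroup.centralizer ({u * v} : Set G)), orderOf w = 2 := by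
    have := Fintype.ofFinite ↥(Subgroup.centralizer ({u * v} : Set G))
    apply exists_prime_orderOf_dvd_card 2
    rw [← Nat.card_eq_fintype_card]
    exact even_iff_two_dvd.mp hodd
  obtain ⟨w, hwC⟩ := w₀
  rw [← Subgroup.orderOf_coe] at hw₀
  simp only at hw₀
  have hwx : w * (u * v) = (u * v) * w := Subgroup.mem_centralizer_singleton_iff.mp hwC
  obtain ⟨δ, hδ⟩ := exists_fixed hU hw₀
  have hxδ : (u * v) • δ = δ := by
    apply fixed_unique hU hw₀ _ hδ
    rw [← mul_smul, hwx, mul_smul, hδ]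
  have huδ : u • δ ≠ δ := fun h => no_common_fixed_point hS h2 hu hxodd hx1 hinv h hxδ
  have hxuδ : (u * v) • (u • δ) = u • δ := by
    have e : u * (u * v)⁻¹ * u⁻¹ = u * v := by
      calc u * (u * v)⁻¹ * u⁻¹ = (u * (u * v) * u⁻¹)⁻¹ := by group
        _ = u * v := by rw [hinv, inv_inv]
    have h1 : (u * v) * u = u * (u * v)⁻¹ := by
      calc (u * v) * u = (u * (u * v)⁻¹ * u⁻¹) * u := by rw [e]
        _ = u * (u * v)⁻¹ := by group
    rw [← mul_smul, h1, mul_smul, inv_smul_eq_iff.mpr hxδ.symm]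
  obtain ⟨g, hg1, hg2⟩ := is_two_pretransitive_iff.mp hS.two_transitive huδ.symm (ta_ne hS).symm
  have hx'D : g * (u * v) * g⁻¹ ∈ stabilizer G a ⊓ stabilizer G (t • a) := by
    refine Subgroup.mem_inf.mpr ⟨?_, ?_⟩
    · rw [mem_stabilizer_iff, mul_smul, mul_smul, ← hg1, inv_smul_smul, hxδ]
    · rw [mem_stabilizer_iff, mul_smul, mul_smul, ← hg2, inv_smul_smul, hxuδ]
  have hx'1 : g * (u * v) * g⁻¹ ≠ 1 := by
    intro h; apply hx1
    calc u * v = g⁻¹ * (g * (u * v) * g⁻¹) * g := by group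
      _ = 1 := by rw [h]; group
  have hu'2 : orderOf (g * u * g⁻¹) = 2 := by rw [orderOf_conj]; exact hu
  have hw'2 : orderOf (g * w * g⁻¹) = 2 := by rw [orderOf_conj]; exact hw₀
  have hw'a : g * w * g⁻¹ ∈ stabilizer G a := by
    rw [mem_stabilizer_iff, mul_smul, mul_smul, ← hg1, inv_smul_smul, hδ]
  have hw'Q : g * w * g⁻¹ ∈ Q := involution_mem_Q hS hw'a (invol_mul_self hw'2)
  have hinv' : (g * u * g⁻¹) * (g * (u * v) * g⁻¹) * (g * u * g⁻¹)⁻¹ = (g * (u * v) * g⁻¹)⁻¹ := by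
    calc (g * u * g⁻¹) * (g * (u * v) * g⁻¹) * (g * u * g⁻¹)⁻¹
        = g * (u * (u * v) * u⁻¹) * g⁻¹ := by group
      _ = (g * (u * v) * g⁻¹)⁻¹ := by rw [hinv]; group
  have hw'x : (g * w * g⁻¹) * (g * (u * v) * g⁻¹) = (g * (u * v) * g⁻¹) * (g * w * g⁻¹) := by
    calc (g * w * g⁻¹) * (g * (u * v) * g⁻¹) = g * (w * (u * v)) * g⁻¹ := by group
      _ = g * ((u * v) * w) * g⁻¹ := by rw [hwx]
      _ = (g * (u * v) * g⁻¹) * (g * w * g⁻¹) := by group
  exact no_involution_of_inverted hS h2 hx'D hx'1 hu'2 hinv' hw'Q hw'2 hw'x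

/-- a strongly real element of order greater than two is conjugate to `u' t` with `u'` an
involution of `G_a` -/
theorem strongly_real_conj (hS : Cfsg.IsRankOneSetup G Ω a t Q)
    (h2 : ∃ x y : G, x ≠ 1 ∧ y ≠ 1 ∧ x ≠ y ∧ x * x = 1 ∧ y * y = 1 ∧ x * y = y * x) {u v : G}
    (hu : orderOf u = 2) (hv : orderOf v = 2) (hx : (u * v) * (u * v) ≠ 1) :
    ∃ g u' : G, u' ∈ stabilizer G a ∧ orderOf u' = 2 ∧ g * (u * v) * g⁻¹ = u' * t := by
  have hU := uniqueFix hS
  obtain ⟨α, hα⟩ := exists_fixed hU hu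
  obtain ⟨β, hβ⟩ := exists_fixed hU hv
  have hαβ := fixed_ne_of_mul_sq_ne_one hS h2 hu hv hx hα hβ
  obtain ⟨γ, hγ⟩ := exists_fixed hU (orderOf_t hS)
  have hγa : γ ≠ a := by
    intro h; rw [h] at hγ; exact ta_ne hS hγ
  obtain ⟨g₁, hg1, hg2⟩ := is_two_pretransitive_iff.mp hS.two_transitive hαβ hγa.symm
  obtain ⟨r, hrQ, hr⟩ := exists_mem_Q_smul_ta hS hγa
  have hS' := setup_swap hS
  have hv₁γ : (g₁ * v * g₁⁻¹) • γ = γ := by
    rw [mul_smul, mul_smul, ← hg2, inv_smul_smul, hβ]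
  have hs : r⁻¹ * (g₁ * v * g₁⁻¹) * r ∈ stabilizer G (t • a) := by
    rw [mem_stabilizer_iff, mul_smul, mul_smul, hr, hv₁γ, ← hr, inv_smul_smul]
  have hs' : r⁻¹ * t * r ∈ stabilizer G (t • a) := by
    rw [mem_stabilizer_iff, mul_smul, mul_smul, hr, hγ, ← hr, inv_smul_smul]
  have hs2 : orderOf (r⁻¹ * (g₁ * v * g₁⁻¹) * r) = 2 := by
    rw [orderOf_conj_inv, orderOf_conj]; exact hv
  have hs'2 : orderOf (r⁻¹ * t * r) = 2 := by rw [orderOf_conj_inv]; exact orderOf_t hS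
  obtain ⟨k, hk, hkc⟩ := inverted_transitive hS' hs hs2 hs' hs'2
  have hka : k • a = a := by
    have := mem_stabilizer_iff.mp hk.1.2
    rwa [tta hS] at this
  have hra : r • a = a := smul_a_of_mem_Q hS hrQ
  refine ⟨r * k⁻¹ * r⁻¹ * g₁, (r * k⁻¹ * r⁻¹ * g₁) * u * (r * k⁻¹ * r⁻¹ * g₁)⁻¹, ?_, ?_, ?_⟩
  · rw [mem_stabilizer_iff]
    simp only [mul_smul]
    have e : (r * k⁻¹ * r⁻¹ * g₁)⁻¹ • a = α := by
      rw [inv_smul_eq_iff]
      simp only [mul_smul]
      rw [hg1, inv_smul_eq_iff.mpr hra.symm, inv_smul_eq_iff.mpr hka.symm, hra]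
    rw [e, hα, hg1, inv_smul_eq_iff.mpr hra.symm, inv_smul_eq_iff.mpr hka.symm, hra]
  · rw [orderOf_conj]; exact hu
  · have ht : t = r * (k⁻¹ * (r⁻¹ * (g₁ * v * g₁⁻¹) * r) * k) * r⁻¹ := by
      rw [hkc]; group
    calc r * k⁻¹ * r⁻¹ * g₁ * (u * v) * (r * k⁻¹ * r⁻¹ * g₁)⁻¹
        = (r * k⁻¹ * r⁻¹ * g₁) * u * (r * k⁻¹ * r⁻¹ * g₁)⁻¹ *
          (r * (k⁻¹ * (r⁻¹ * (g₁ * v * g₁⁻¹) * r) * k) * r⁻¹) := by group
      _ = (r * k⁻¹ * r⁻¹ * g₁) * u * (r * k⁻¹ * r⁻¹ * g₁)⁻¹ * t := by rw [← ht]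

end Cfsg.Agent.Lib.Helper3.RankOne
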