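import Mathlib
import Cfsg.Agent.Lib.Lead.Focal
import Cfsg.Agent.Lib.Helper3.NC
import Cfsg.Agent.Lib.Helper3.PComp1
import Cfsg.Agent.Lib.Helper6.PPrimeCore
import Cfsg.Agent.Lib.Helper3.Ree44
set_option autoImplicit false
set_option linter.unusedSectionVars false
set_option linter.style.haveILetI false

/-!
A group of order 1512 with the local structure of the smallest twisted group of type `G₂`: its
derived subgroup is simple of order 504.
-/

namespace Cfsg.Agent.Lib.Helper3.Ree

open Subgroup
open scoped commutatorElement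

section
variable {G : Type*} [Group G] [Finite G]

/-- a normal subgroup of order divisible by 7 cannot have index divisible by 9 -/
theorem frattini_contra (hG : Nat.card G = 1512) (U B : Subgroup G) (hU : Nat.card U = 27)
    (hB : Nat.card B = 54)
    (hctl : ∀ g x : G, x ∈ U → x ≠ 1 → g * x * g⁻¹ ∈ U → g ∈ B)
    (N₁ : Subgroup G) [hN₁ : N₁.Normal] (h7 : 7 ∣ Nat.card N₁) (h9 : 9 ∣ N₁.index) : False := by
  haveI : Fact (Nat.Prime 7) := ⟨by norm_num⟩
  haveI : Fact (Nat.Prime 3) := ⟨by norm_num⟩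
  obtain ⟨P₁⟩ : Nonempty (Sylow 7 N₁) := inferInstance
  set Pm : Subgroup G := (P₁ : Subgroup N₁).map N₁.subtype with hPm
  have hN1dvd : Nat.card N₁ ∣ 1512 := hG ▸ Subgroup.card_subgroup_dvd_card N₁
  have hPcard : Nat.card Pm = 7 := by
    have h1 : Nat.card Pm = Nat.card (P₁ : Subgroup N₁) :=
      (Nat.card_congr (Subgroup.equivMapOfInjective _ N₁.subtype N₁.subtype_injective).toEquiv).symm
    rw [h1, Sylow.card_eq_multiplicity]
    have hpos : 0 < (Nat.card N₁).factorization 7 :=
      Nat.Prime.factorization_pos_of_dvd (by norm_num) Nat.card_pos.ne' h7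
    have hle : (Nat.card N₁).factorization 7 ≤ 1 := by
      by_contra hlt
      push Not at hlt
      have h49 : 7 ^ 2 ∣ Nat.card N₁ :=
        (pow_dvd_pow 7 hlt).trans (Nat.ordProj_dvd (Nat.card N₁) 7)
      have := h49.trans hN1dvd
      norm_num at this
    have : (Nat.card N₁).factorization 7 = 1 := by omega
    rw [this, pow_one]
  have hfr : normalizer (Pm : Set G) ⊔ N₁ = ⊤ := Sylow.normalizer_sup_eq_top P₁
  set Nm : Subgroup G := normalizer (Pm : Set G) with hNm
  have h9N : 9 ∣ Nat.card Nm := by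
    have h1 : N₁.relIndex Nm = N₁.index := by
      rw [← relIndex_sup_right, hfr, relIndex_top_right]
    have h2 : N₁.relIndex Nm ∣ Nat.card Nm := relIndex_dvd_card N₁ Nm
    rw [h1] at h2
    exact h9.trans h2
  set C : Subgroup G := centralizer (Pm : Set G) with hC
  have hCN : C ≤ Nm := centralizer_le_normalizer _
  haveI : Finite Pm := inferInstance
  have hcyc : IsCyclic Pm := isCyclic_of_prime_card hPcard
  have hr6 : C.relIndex Nm ∣ 6 := by
    have h1 := Cfsg.Agent.Lib.Helper3.relIndex_centralizer_normalizer_dvd_card_mulAut Pm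
    rw [IsCyclic.card_mulAut Pm, hPcard, Nat.totient_prime (by norm_num)] at h1
    exact h1
  have hcardNm : Nat.card Nm = Nat.card C * C.relIndex Nm := by
    have h1 := (C.subgroupOf Nm).card_mul_index
    rw [Nat.card_congr (subgroupOfEquivOfLe hCN).toEquiv] at h1
    exact h1.symm
  have h3C : 3 ∣ Nat.card C := by
    rw [hcardNm] at h9N
    have hr : C.relIndex Nm ∈ Nat.divisors 6 := Nat.mem_divisors.mpr ⟨hr6, by norm_num⟩
    have hd : Nat.divisors 6 = {1, 2, 3, 6} := by decide
    rw [hd] at hr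
    simp only [Finset.mem_insert, Finset.mem_singleton] at hr
    rcases hr with h1 | h1 | h1 | h1 <;> rw [h1] at h9N <;> omega
  obtain ⟨y, hy⟩ := exists_prime_orderOf_dvd_card' (G := C) 3 h3C
  obtain ⟨p, hp⟩ := exists_prime_orderOf_dvd_card' (G := Pm) 7 (by rw [hPcard])
  have hy3 : orderOf (y : G) = 3 := by rw [Subgroup.orderOf_coe]; exact hy
  have hp7 : orderOf (p : G) = 7 := by rw [Subgroup.orderOf_coe]; exact hp
  have hcomm : (y : G) * (p : G) = (p : G) * (y : G) := by
    have h1 : (y : G) ∈ centralizer (Pm : Set G) := y.2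
    rw [mem_centralizer_iff] at h1
    exact (h1 p p.2).symm
  have hUidx : ¬ 3 ∣ U.index := by
    have := U.card_mul_index
    rw [hU, hG] at this
    have : U.index = 56 := by omega
    rw [this]; norm_num
  have hpy : IsPGroup 3 (zpowers (y : G)) := isPGroup_zpowers_of_orderOf 3 _ 1 (by rw [hy3, pow_one])
  obtain ⟨a, ha⟩ := exists_conj_mem_of_not_dvd_index 3 U hUidx (y : G) hpy
  have hne : a * (y : G) * a⁻¹ ≠ 1 := by
    intro h
    have : (y : G) = 1 := by
      calc (y : G) = a⁻¹ * (a * (y : G) * a⁻¹) * a := by group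
        _ = 1 := by rw [h]; group
    rw [this, orderOf_one] at hy3
    norm_num at hy3
  have hmemB : a * (p : G) * a⁻¹ ∈ B := by
    apply hctl _ _ ha hne
    have : a * (p : G) * a⁻¹ * (a * (y : G) * a⁻¹) * (a * (p : G) * a⁻¹)⁻¹ =
        a * ((p : G) * (y : G) * (p : G)⁻¹) * a⁻¹ := by group
    rw [this, ← hcomm]
    have : a * ((y : G) * (p : G) * (p : G)⁻¹) * a⁻¹ = a * (y : G) * a⁻¹ := by group
    rw [this]
    exact ha
  have ho : orderOf (a * (p : G) * a⁻¹) = 7 := by
    have := (MulAut.conj a).orderOf_eq (p : G)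
    rw [MulAut.conj_apply] at this
    rw [this]; exact hp7
  have hdvd : orderOf (a * (p : G) * a⁻¹) ∣ Nat.card B := by
    have := orderOf_dvd_natCard (⟨_, hmemB⟩ : B)
    rwa [← Subgroup.orderOf_coe] at this
  rw [ho, hB] at hdvd
  norm_num at hdvd

end

end Cfsg.Agent.Lib.Helper3.Ree
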