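import Mathlib
import Cfsg.Agent.Lib.Helper3.Ree99
set_option autoImplicit false
set_option linter.unusedSectionVars false
set_option linter.style.haveILetI false

/-!
A group of order 1512 with the local structure of the smallest twisted group of type `G₂`: its
derived subgroup has order 504 and every nontrivial normal subgroup contains it.
-/

namespace Cfsg.Agent.Lib.Helper3.Ree

open Subgroup
open scoped commutatorElement

/-- the hypotheses on a group of order 1512 -/
structure R3Hyp (G : Type*) [Group G] (U B : Subgroup G) : Prop where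
  cardG : Nat.card G = 1512
  cardU : Nat.card U = 27
  cardB : Nat.card B = 54
  le : U ≤ B
  ctl : ∀ g x : G, x ∈ U → x ≠ 1 → g * x * g⁻¹ ∈ U → g ∈ B
  max : ∀ N : Subgroup G, N.Normal → N ≠ ⊥ → N ⊔ B = ⊤
  gen : Subgroup.normalClosure (U : Set G) = ⊤
  comm_le : ⁅B, B⁆ ≤ U
  card_comm : Nat.card ↥⁅B, B⁆ = 9

section
variable {G : Type*} [Group G] [Finite G]

theorem card_mul_relIndex_of_le {H K : Subgroup G} (h : H ≤ K) : Nat.card H * H.relIndex K = Nat.card K := by
  have := relIndex_mul_relIndex (⊥ : Subgroup G) H K bot_le h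
  rwa [relIndex_bot_left, relIndex_bot_left] at this

/-- a subgroup containing the derived subgroup is normal -/
theorem normal_of_commutator_le {T : Subgroup G} (h : commutator G ≤ T) : T.Normal := by
  constructor
  intro n hn g
  have h1 : ⁅g, n⁆ ∈ commutator G := by
    rw [_root_.commutator_def]
    exact commutator_mem_commutator (mem_top _) (mem_top _)
  have e : g * n * g⁻¹ = ⁅g, n⁆ * n := by rw [commutatorElement_def]; group
  rw [e]
  exact T.mul_mem (h h1) hn

variable {U B : Subgroup G}

theorem R3Hyp.inf_eq (H : R3Hyp G U B) : commutator G ⊓ U = ⁅B, B⁆ := by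
  haveI : Fact (Nat.Prime 3) := ⟨by norm_num⟩
  have hpU : IsPGroup 3 U := IsPGroup.of_card (n := 3) (by rw [H.cardU]; norm_num)
  have hidx : ¬ 3 ∣ U.index := by
    have := U.card_mul_index
    rw [H.cardU, H.cardG] at this
    have : U.index = 56 := by omega
    rw [this]; norm_num
  set P : Sylow 3 G := hpU.toSylow hidx with hP
  have hPc : (P : Subgroup G) = U := IsPGroup.toSylow_coe _ _
  have h1 := Cfsg.Agent.Lib.Lead.commutator_inf_sylow_eq_of_control P B (hPc ▸ H.le) (by
    intro x hx g hgx
    have hx : x ∈ U := by rw [← hPc]; exact hx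
    have hgx : g * x * g⁻¹ ∈ U := by rw [← hPc]; exact hgx
    by_cases hx1 : x = 1
    · exact ⟨1, B.one_mem, by rw [hx1]; group⟩
    · exact ⟨g, H.ctl g x hx hx1 hgx, rfl⟩)
  rw [hPc] at h1
  rw [h1]
  exact inf_of_le_left H.comm_le

theorem R3Hyp.sup_eq (H : R3Hyp G U B) : commutator G ⊔ U = ⊤ := by
  have hn : (commutator G ⊔ U).Normal := normal_of_commutator_le le_sup_left
  rw [eq_top_iff, ← H.gen]
  exact normalClosure_le_normal (le_sup_right : U ≤ commutator G ⊔ U)

theorem R3Hyp.index_commutator (H : R3Hyp G U B) : (commutator G).index = 3 := by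
  have h1 : (commutator G).relIndex U = (commutator G).index := by
    rw [← relIndex_sup_left, H.sup_eq, relIndex_top_right]
  have h2 : (commutator G ⊓ U).relIndex U = (commutator G).relIndex U := inf_relIndex_right _ _
  have h3 := card_mul_relIndex_of_le (inf_le_right : commutator G ⊓ U ≤ U)
  rw [h2, h1, H.inf_eq, H.card_comm, H.cardU] at h3
  omega

theorem R3Hyp.card_commutator (H : R3Hyp G U B) : Nat.card (commutator G) = 504 := by
  have := (commutator G).card_mul_index
  rw [H.index_commutator, H.cardG] at this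
  omega

theorem R3Hyp.comm_le_commutator (_H : R3Hyp G U B) : ⁅B, B⁆ ≤ commutator G := by
  rw [_root_.commutator_def]
  exact commutator_mono le_top le_top

/-- every nontrivial normal subgroup contains the derived subgroup -/
theorem R3Hyp.commutator_le (H : R3Hyp G U B) (N : Subgroup G) (hN : N.Normal) (hN1 : N ≠ ⊥) :
    commutator G ≤ N := by
  set L : Subgroup G := commutator G with hL
  have hLcard := H.card_commutator
  have hLidx := H.index_commutator
  by_cases hbot : N ⊓ L = ⊥
  · exfalso
    -- `N` has order dividing 3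
    have h1 : L.relIndex N = Nat.card N := by
      rw [← inf_relIndex_right, inf_comm, hbot, relIndex_bot_left]
    have h2 : L.relIndex N ∣ L.index := relIndex_dvd_index_of_normal L N
    rw [h1, hLidx] at h2
    have h3 : Nat.card N ≤ 3 := Nat.le_of_dvd (by norm_num) h2
    have h4 := card_mul_relIndex_of_le (le_sup_left : N ≤ N ⊔ B)
    rw [relIndex_sup_left, H.max N hN hN1, card_top, H.cardG] at h4
    have h5 : N.relIndex B ∣ Nat.card B := relIndex_dvd_card N B
    rw [H.cardB] at h5
    have h6 : N.relIndex B ≤ 54 := Nat.le_of_dvd (by norm_num) h5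
    nlinarith
  · set N₁ : Subgroup G := N ⊓ L with hN₁
    haveI : N.Normal := hN
    haveI hN₁n : N₁.Normal := inferInstance
    have hN₁L : N₁ ≤ L := inf_le_right
    have hsupB : N₁ ⊔ B = ⊤ := H.max N₁ hN₁n hbot
    set M : Subgroup G := ⁅B, B⁆ with hM
    have hML : M ≤ L := H.comm_le_commutator
    -- `L ≤ N₁ ⊔ M`
    have hα : L ≤ N₁ ⊔ M := by
      rw [hL, _root_.commutator_def, Subgroup.commutator_le]
      intro g₁ _ g₂ _
      have hg₁ : g₁ ∈ ((N₁ ⊔ B : Subgroup G) : Set G) := by rw [hsupB]; exact Set.mem_univ _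
      have hg₂ : g₂ ∈ ((N₁ ⊔ B : Subgroup G) : Set G) := by rw [hsupB]; exact Set.mem_univ _
      rw [normal_mul] at hg₁ hg₂
      obtain ⟨n₁, hn₁, b₁, hb₁, rfl⟩ := Set.mem_mul.mp hg₁
      obtain ⟨n₂, hn₂, b₂, hb₂, rfl⟩ := Set.mem_mul.mp hg₂
      have hq : (QuotientGroup.mk' N₁) ⁅n₁ * b₁, n₂ * b₂⁆ = (QuotientGroup.mk' N₁) ⁅b₁, b₂⁆ := by
        rw [map_commutatorElement, map_commutatorElement, map_mul, map_mul]
        have e1 : (QuotientGroup.mk' N₁) n₁ = 1 := (QuotientGroup.eq_one_iff n₁).mpr hn₁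
        have e2 : (QuotientGroup.mk' N₁) n₂ = 1 := (QuotientGroup.eq_one_iff n₂).mpr hn₂
        rw [e1, e2, one_mul, one_mul]
      have hq' : (⁅b₁, b₂⁆)⁻¹ * ⁅n₁ * b₁, n₂ * b₂⁆ ∈ N₁ := QuotientGroup.eq.mp hq.symm
      have hb : ⁅b₁, b₂⁆ ∈ M := commutator_mem_commutator hb₁ hb₂
      have e : ⁅n₁ * b₁, n₂ * b₂⁆ = ⁅b₁, b₂⁆ * ((⁅b₁, b₂⁆)⁻¹ * ⁅n₁ * b₁, n₂ * b₂⁆) := by group
      rw [e]
      exact (N₁ ⊔ M).mul_mem (mem_sup_right hb) (mem_sup_left hq')
    have hLeq : L = N₁ ⊔ M := le_antisymm hα (sup_le hN₁L hML)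
    -- the index of `N₁` in `L` divides 9
    have hrel : N₁.relIndex L ∣ 9 := by
      rw [hLeq, relIndex_sup_left]
      have := relIndex_dvd_card N₁ M
      rwa [H.card_comm] at this
    by_contra hcon
    have hne : N₁.relIndex L ≠ 1 := by
      intro h1
      rw [relIndex_eq_one] at h1
      exact hcon (h1.trans inf_le_left)
    have h3 : 3 ∣ N₁.relIndex L := by
      have hr : N₁.relIndex L ∈ Nat.divisors 9 := Nat.mem_divisors.mpr ⟨hrel, by norm_num⟩
      have hd : Nat.divisors 9 = {1, 3, 9} := by decide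
      rw [hd] at hr
      simp only [Finset.mem_insert, Finset.mem_singleton] at hr
      rcases hr with h1 | h1 | h1
      · exact absurd h1 hne
      · rw [h1]
      · rw [h1]; norm_num
    have hidx : N₁.index = N₁.relIndex L * 3 := by
      have := relIndex_mul_index hN₁L
      rw [hLidx] at this
      exact this.symm
    have h9 : 9 ∣ N₁.index := by
      rw [hidx]
      obtain ⟨k, hk⟩ := h3
      exact ⟨k, by rw [hk]; ring⟩
    have hc := card_mul_relIndex_of_le hN₁L
    rw [hLcard] at hc
    have h7 : 7 ∣ Nat.card N₁ := by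
      have h7' : 7 ∣ Nat.card N₁ * N₁.relIndex L := by rw [hc]; norm_num
      rcases (Nat.Prime.dvd_mul (by norm_num : Nat.Prime 7)).mp h7' with h | h
      · exact h
      · exfalso
        have := h.trans hrel
        norm_num at this
    exact frattini_contra H.cardG U B H.cardU H.cardB H.ctl N₁ h7 h9

end

end Cfsg.Agent.Lib.Helper3.Ree
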