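import Mathlib
import Cfsg.Agent.Lib.Helper3.Ree100
set_option autoImplicit false
set_option linter.unusedSectionVars false
set_option linter.style.haveILetI false

/-!
A group of order 1512 with the local structure of the smallest twisted group of type `G₂`: its
derived subgroup is simple.
-/

namespace Cfsg.Agent.Lib.Helper3.Ree

open Subgroup
open scoped commutatorElement

section
variable {G : Type*} [Group G]

/-- the subgroup generated by a set closed under conjugation is normal -/
theorem closure_normal_of_conj {S : Set G} (hS : ∀ s ∈ S, ∀ g : G, g * s * g⁻¹ ∈ S) :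
    (closure S).Normal := by
  constructor
  intro n hn g
  induction hn using closure_induction with
  | mem x hx => exact subset_closure (hS x hx g)
  | one => simp
  | mul x y _ _ hx hy =>
    have : g * (x * y) * g⁻¹ = (g * x * g⁻¹) * (g * y * g⁻¹) := by group
    rw [this]
    exact (closure S).mul_mem hx hy
  | inv x _ hx =>
    have : g * x⁻¹ * g⁻¹ = (g * x * g⁻¹)⁻¹ := by group
    rw [this]
    exact (closure S).inv_mem hx

end

section
variable {G : Type*} [Group G] [Finite G] {U B : Subgroup G}

/-- the derived subgroup is simple -/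
theorem R3Hyp.simple (H : R3Hyp G U B) : IsSimpleGroup ↥(commutator G) := by
  haveI : Fact (Nat.Prime 7) := ⟨by norm_num⟩
  set L : Subgroup G := commutator G with hL
  have hLcard := H.card_commutator
  have hLidx := H.index_commutator
  haveI hLn : L.Normal := inferInstance
  haveI : Nontrivial ↥L := by
    rw [← Finite.one_lt_card_iff_nontrivial, hLcard]
    norm_num
  refine ⟨fun K hK => ?_⟩
  by_cases hKbot : K = ⊥
  · exact Or.inl hKbot
  right
  set N' : Subgroup G := K.map L.subtype with hN'
  have hN'L : N' ≤ L := by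
    rintro _ ⟨y, _, rfl⟩
    exact y.2
  have hsubof : N'.subgroupOf L = K := by
    rw [hN', subgroupOf, comap_map_eq_self_of_injective L.subtype_injective]
  have hN'sub : N'.IsSubnormal :=
    IsSubnormal.step N' L hN'L (Normal.isSubnormal hLn) (by rw [hsubof]; exact hK)
  have hcardN' : Nat.card N' = Nat.card K :=
    (Nat.card_congr (equivMapOfInjective K L.subtype L.subtype_injective).toEquiv).symm
  have hN'bot : N' ≠ ⊥ := by
    intro h
    apply hKbot
    rw [eq_bot_iff]
    intro k hk
    have : (k : G) ∈ N' := ⟨k, hk, rfl⟩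
    rw [h, mem_bot] at this
    rw [mem_bot]
    exact Subtype.ext this
  by_cases hcop : (Nat.card N').Coprime 7
  · exfalso
    have h1 : N' ≤ Cfsg.pPrimeCore 7 G := Cfsg.Agent.Lib.Helper3.le_pPrimeCore_of_isSubnormal hN'sub hcop
    obtain ⟨hOn, hOc⟩ := Cfsg.Agent.Lib.Helper6.pPrimeCore_mem_set (G := G) 7
    have hObot : Cfsg.pPrimeCore 7 G ≠ ⊥ := by
      intro h
      rw [h, le_bot_iff] at h1
      exact hN'bot h1
    have h2 : L ≤ Cfsg.pPrimeCore 7 G := H.commutator_le _ hOn hObot
    have h3 := Subgroup.card_dvd_of_le h2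
    rw [hLcard] at h3
    have h4 : (504 : ℕ).Coprime 7 := Nat.Coprime.coprime_dvd_left h3 hOc
    norm_num at h4
  · have h7 : 7 ∣ Nat.card K := by
      rw [← hcardN']
      by_contra h
      exact hcop ((Nat.Prime.coprime_iff_not_dvd (by norm_num : Nat.Prime 7)).mpr h).symm
    obtain ⟨x, hx⟩ := exists_prime_orderOf_dvd_card' (G := K) 7 h7
    have hxL : orderOf (x : ↥L) = 7 := by rw [Subgroup.orderOf_coe]; exact hx
    -- every element of order 7 of `L` lies in `K`
    have hall : ∀ y : ↥L, orderOf y = 7 → y ∈ K := by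
      intro y hy
      have hidx : ¬ 7 ∣ (zpowers (x : ↥L)).index := by
        have := (zpowers (x : ↥L)).card_mul_index
        rw [Nat.card_zpowers, hxL, hLcard] at this
        have : (zpowers (x : ↥L)).index = 72 := by omega
        rw [this]; norm_num
      have hpy : IsPGroup 7 (zpowers y) := isPGroup_zpowers_of_orderOf 7 y 1 (by rw [hy, pow_one])
      obtain ⟨l, hl⟩ := exists_conj_mem_of_not_dvd_index 7 (zpowers (x : ↥L)) hidx y hpy
      have hlK : l * y * l⁻¹ ∈ K := (zpowers_le.mpr x.2) hl
      have := hK.conj_mem _ hlK l⁻¹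
      have e : l⁻¹ * (l * y * l⁻¹) * l⁻¹⁻¹ = y := by group
      rwa [e] at this
    set S₇ : Subgroup G := closure {z : G | orderOf z = 7} with hS₇
    have hS₇n : S₇.Normal := by
      apply closure_normal_of_conj
      intro s hs g
      show orderOf (g * s * g⁻¹) = 7
      have := (MulAut.conj g).orderOf_eq s
      rw [MulAut.conj_apply] at this
      rw [this]; exact hs
    have hxG : orderOf ((x : ↥L) : G) = 7 := by rw [Subgroup.orderOf_coe]; exact hxL
    have hS₇bot : S₇ ≠ ⊥ := by
      intro h
      have : ((x : ↥L) : G) ∈ S₇ := subset_closure hxG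
      rw [h, mem_bot] at this
      rw [this, orderOf_one] at hxG
      norm_num at hxG
    have h1 : L ≤ S₇ := H.commutator_le _ hS₇n hS₇bot
    have h2 : S₇ ≤ N' := by
      rw [hS₇, closure_le]
      intro z hz
      have hz7 : z ^ 7 = 1 := by rw [← (show orderOf z = 7 from hz)]; exact pow_orderOf_eq_one z
      have hz3 : z ^ 3 ∈ L := by
        have := Subgroup.pow_index_mem L z
        rwa [hLidx] at this
      have hzL : z ∈ L := by
        have e : z = (z ^ 3) ^ 5 * ((z ^ 7) ^ 2)⁻¹ := by
          rw [hz7, one_pow, inv_one, mul_one, ← pow_mul]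
          have : z ^ (3 * 5) = z ^ 7 * z ^ 7 * z := by
            rw [← pow_add, ← pow_succ]
          rw [this, hz7, one_mul, one_mul]
        rw [e, hz7, one_pow, inv_one, mul_one]
        exact L.pow_mem hz3 5
      have ho : orderOf (⟨z, hzL⟩ : ↥L) = 7 := by
        rw [← Subgroup.orderOf_coe]; exact hz
      exact ⟨⟨z, hzL⟩, hall _ ho, rfl⟩
    rw [eq_top_iff]
    intro l _
    obtain ⟨k, hk, hkl⟩ := h2 (h1 l.2)
    have : k = l := Subtype.ext hkl
    rw [← this]; exact hk

end

end Cfsg.Agent.Lib.Helper3.Ree
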