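import Mathlib
set_option autoImplicit false
set_option linter.unusedSectionVars false
set_option linter.style.haveILetI false

/-!
The derived subgroup of a group of order 54 of the shape of the Borel subgroup of the smallest
twisted group of type `G₂`.
-/

namespace Cfsg.Agent.Lib.Helper3.Ree

open Subgroup
open scoped commutatorElement

section
variable {B : Type*} [Group B]

/-- an involution inverting an element inverts all of its powers -/
theorem inv_of_mem_zpowers_of_inverts {h g z : B} (hg : h * g * h⁻¹ = g⁻¹) (hz : z ∈ zpowers g) :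
    h * z * h⁻¹ = z⁻¹ := by
  obtain ⟨k, rfl⟩ := hz
  have h1 : h * g ^ k * h⁻¹ = (h * g * h⁻¹) ^ k := by
    have := map_zpow (MulAut.conj h) g k
    simp only [MulAut.conj_apply] at this
    exact this
  rw [h1, hg, inv_zpow]

/-- an element of order dividing three which is centralized and inverted is trivial -/
theorem eq_one_of_inverted_of_fixed {h x : B} (hx3 : x ^ 3 = 1) (h1 : h * x * h⁻¹ = x)
    (h2 : h * x * h⁻¹ = x⁻¹) : x = 1 := by
  have e : x = x⁻¹ := h1.symm.trans h2
  have e2 : x * x = 1 := by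
    nth_rewrite 2 [e]
    exact mul_inv_cancel x
  calc x = x ^ 3 * (x * x)⁻¹ := by rw [pow_succ, pow_two]; group
    _ = 1 := by rw [hx3, e2]; simp

end

section
variable {B : Type*} [Group B] [Finite B]

/-- the derived subgroup of a group of order 54 with a subgroup of order 27 on which an involution
acts in the way it does in the Borel subgroup of the twisted group of type `G₂` over the field with
three elements -/
theorem borel_commutator (hB : Nat.card B = 54) (U : Subgroup B)
    (hU : Nat.card U = 27) (h y₀ x₀ : B) (hh : h * h = 1) (hhU : h ∉ U) (hy : y₀ ∈ U) (hx : x₀ ∈ U)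
    (hx1 : x₀ ≠ 1) (hx3 : x₀ ^ 3 = 1) (hxh : h * x₀ * h⁻¹ = x₀)
    (hg : (y₀⁻¹ * h * y₀ * h⁻¹) ^ 3 ≠ 1) :
    commutator B ≤ U ∧ Nat.card (commutator B) = 9 := by
  have hinv : h⁻¹ = h := inv_eq_of_mul_eq_one_right hh
  have hidx : U.index = 2 := by
    have := U.card_mul_index
    rw [hU, hB] at this
    omega
  haveI hUn : U.Normal := normal_of_index_eq_two hidx
  set g : B := y₀⁻¹ * h * y₀ * h⁻¹ with hgdef
  have hgU : g ∈ U := by
    have h1 : h * y₀ * h⁻¹ ∈ U := hUn.conj_mem y₀ hy h
    have : g = y₀⁻¹ * (h * y₀ * h⁻¹) := by rw [hgdef]; group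
    rw [this]
    exact U.mul_mem (U.inv_mem hy) h1
  have hgc : g ∈ commutator B := by
    have : g = ⁅y₀⁻¹, h⁆ := by rw [commutatorElement_def, hgdef, inv_inv]
    rw [this, _root_.commutator_def]
    exact commutator_mem_commutator (mem_top _) (mem_top _)
  have hginv : h * g * h⁻¹ = g⁻¹ := by
    rw [hgdef, hinv]
    have e1 : h * (y₀⁻¹ * h * y₀ * h) * h = h * y₀⁻¹ * h * y₀ * (h * h) := by group
    have e2 : (y₀⁻¹ * h * y₀ * h)⁻¹ = h⁻¹ * y₀⁻¹ * h⁻¹ * y₀ := by group
    rw [e1, e2, hh, hinv, mul_one]
  -- the order of `g`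
  have hord27 : orderOf g ∣ 27 := by
    have := orderOf_dvd_natCard (⟨g, hgU⟩ : U)
    rw [hU] at this
    have e : orderOf (⟨g, hgU⟩ : U) = orderOf g := by
      rw [← Subgroup.orderOf_coe]
    rwa [e] at this
  have hx0notin : ∀ z : B, z ∈ zpowers g → z ^ 3 = 1 → h * z * h⁻¹ = z → z = 1 := by
    intro z hz hz3 hzh
    exact eq_one_of_inverted_of_fixed hz3 hzh (inv_of_mem_zpowers_of_inverts hginv hz)
  have hxnot : x₀ ∉ zpowers g := fun hmem => hx1 (hx0notin x₀ hmem hx3 hxh)
  have hord : orderOf g = 9 := by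
    have hdiv : orderOf g ∈ Nat.divisors 27 := Nat.mem_divisors.mpr ⟨hord27, by norm_num⟩
    have hdivs : Nat.divisors 27 = {1, 3, 9, 27} := by decide
    rw [hdivs] at hdiv
    simp only [Finset.mem_insert, Finset.mem_singleton] at hdiv
    rcases hdiv with h1 | h1 | h1 | h1
    · exfalso; apply hg
      have := pow_orderOf_eq_one g
      rw [h1, pow_one] at this
      rw [this, one_pow]
    · exfalso; apply hg
      have := pow_orderOf_eq_one g
      rwa [h1] at this
    · exact h1
    · exfalso
      have hc : Nat.card (zpowers g) = 27 := by rw [Nat.card_zpowers, h1]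
      have hle : zpowers g ≤ U := (zpowers_le).mpr hgU
      have heq : zpowers g = U := by
        apply Subgroup.eq_of_le_of_card_ge hle
        rw [hc, hU]
      exact hxnot (heq ▸ hx)
  set M : Subgroup B := zpowers g with hMdef
  have hMcard : Nat.card M = 9 := by rw [hMdef, Nat.card_zpowers, hord]
  have hMU : M ≤ U := (zpowers_le).mpr hgU
  -- `M` is normal in `U`
  have hMUn : (M.subgroupOf U).Normal := by
    apply normal_of_index_eq_minFac_card
    have h1 : (M.subgroupOf U).index = 3 := by
      have := (M.subgroupOf U).card_mul_index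
      rw [hU] at this
      have e : Nat.card (M.subgroupOf U) = 9 := by
        rw [← hMcard]
        exact Nat.card_congr (subgroupOfEquivOfLe hMU).toEquiv
      rw [e] at this
      omega
    rw [h1, hU]
    norm_num
  have hconjU : ∀ b ∈ U, ∀ z ∈ M, b * z * b⁻¹ ∈ M := by
    intro b hb z hz
    have := hMUn.conj_mem ⟨z, hMU hz⟩ (mem_subgroupOf.mpr hz) ⟨b, hb⟩
    exact mem_subgroupOf.mp this
  have hconjh : ∀ z ∈ M, h * z * h⁻¹ ∈ M := by
    intro z hz
    rw [inv_of_mem_zpowers_of_inverts hginv hz]
    exact M.inv_mem hz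
  haveI hMn : M.Normal := by
    constructor
    intro z hz b
    by_cases hb : b ∈ U
    · exact hconjU b hb z hz
    · have hbh : b * h ∈ U := by
        rw [mul_mem_iff_of_index_two hidx]
        exact ⟨fun hb' => absurd hb' hb, fun hh' => absurd hh' hhU⟩
      have e : b * z * b⁻¹ = (b * h) * (h * z * h⁻¹) * (b * h)⁻¹ := by
        rw [hinv]
        have : (b * h) * (h * z * h) * (b * h)⁻¹ = b * (h * h) * z * (h * h⁻¹) * b⁻¹ := by group
        rw [this, hh]; group
      rw [e]
      exact hconjU _ hbh _ (hconjh z hz)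
  -- the quotient is commutative
  have hQcard : Nat.card (B ⧸ M) = 6 := by
    have := M.card_mul_index
    rw [hMcard, hB] at this
    have : M.index = 6 := by omega
    rwa [Subgroup.index] at this
  set a : B ⧸ M := QuotientGroup.mk x₀ with hadef
  set c : B ⧸ M := QuotientGroup.mk h with hcdef
  have ha1 : a ≠ 1 := by
    intro ha
    exact hxnot ((QuotientGroup.eq_one_iff x₀).mp ha)
  have hc1 : c ≠ 1 := by
    intro hc
    exact hhU (hMU ((QuotientGroup.eq_one_iff h).mp hc))
  have ha3 : a ^ 3 = 1 := by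
    rw [hadef, ← QuotientGroup.mk_pow, hx3]; rfl
  have hc2 : c ^ 2 = 1 := by
    rw [hcdef, ← QuotientGroup.mk_pow, pow_two, hh]; rfl
  have hac : a * c = c * a := by
    rw [hadef, hcdef, ← QuotientGroup.mk_mul, ← QuotientGroup.mk_mul]
    congr 1
    calc x₀ * h = (h * x₀ * h⁻¹) * h := by rw [hxh]
      _ = h * x₀ := by group
  have hoa : orderOf a = 3 := orderOf_eq_prime ha3 ha1
  have hoc : orderOf c = 2 := orderOf_eq_prime hc2 hc1
  have hcl : closure ({a, c} : Set (B ⧸ M)) = ⊤ := by
    apply Subgroup.eq_top_of_card_eq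
    have h3 : 3 ∣ Nat.card (closure ({a, c} : Set (B ⧸ M))) := by
      rw [← hoa]
      have hmem : a ∈ closure ({a, c} : Set (B ⧸ M)) := subset_closure (by simp)
      have := orderOf_dvd_natCard (⟨a, hmem⟩ : closure ({a, c} : Set (B ⧸ M)))
      rwa [← Subgroup.orderOf_coe] at this
    have h2 : 2 ∣ Nat.card (closure ({a, c} : Set (B ⧸ M))) := by
      rw [← hoc]
      have hmem : c ∈ closure ({a, c} : Set (B ⧸ M)) := subset_closure (by simp)
      have := orderOf_dvd_natCard (⟨c, hmem⟩ : closure ({a, c} : Set (B ⧸ M)))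
      rwa [← Subgroup.orderOf_coe] at this
    have h6 : 6 ∣ Nat.card (closure ({a, c} : Set (B ⧸ M))) :=
      Nat.Coprime.mul_dvd_of_dvd_of_dvd (by norm_num : Nat.Coprime 2 3) h2 h3
    have hle := Subgroup.card_le_card_group (closure ({a, c} : Set (B ⧸ M)))
    rw [hQcard] at hle ⊢
    have hpos : 0 < Nat.card (closure ({a, c} : Set (B ⧸ M))) := Nat.card_pos
    obtain ⟨k, hk⟩ := h6
    omega
  have hcomm : ∀ p q : B ⧸ M, p * q = q * p := by
    have hc' : IsMulCommutative (closure ({a, c} : Set (B ⧸ M))) := by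
      apply isMulCommutative_closure
      intro x hx y hy
      simp only [Set.mem_insert_iff, Set.mem_singleton_iff] at hx hy
      rcases hx with rfl | rfl <;> rcases hy with rfl | rfl
      · rfl
      · exact hac
      · exact hac.symm
      · rfl
    intro p q
    have hp : p ∈ closure ({a, c} : Set (B ⧸ M)) := by rw [hcl]; exact mem_top _
    have hq : q ∈ closure ({a, c} : Set (B ⧸ M)) := by rw [hcl]; exact mem_top _
    have := hc'.is_comm.comm ⟨p, hp⟩ ⟨q, hq⟩
    exact congrArg Subtype.val this
  have hle : commutator B ≤ M := by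
    letI : CommGroup (B ⧸ M) := { (inferInstance : Group (B ⧸ M)) with mul_comm := hcomm }
    have := Abelianization.commutator_subset_ker (QuotientGroup.mk' M)
    rwa [QuotientGroup.ker_mk'] at this
  have hge : M ≤ commutator B := (zpowers_le).mpr hgc
  have heq : commutator B = M := le_antisymm hle hge
  rw [heq]
  exact ⟨hMU, hMcard⟩

end

end Cfsg.Agent.Lib.Helper3.Ree
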