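import Mathlib
import Cfsg.Agent.Lib.Helper3.Ree54
import Cfsg.Agent.Lib.Helper3.Ree98
import Cfsg.Agent.Lib.Helper3.Ree101
set_option autoImplicit false
set_option linter.unusedSectionVars false
set_option linter.style.haveILetI false
set_option linter.unusedSimpArgs false
open Cfsg Cfsg.Lie

/-!
The twisted group of type `G₂` over the field with three elements satisfies the hypotheses of the
abstract lemmas on groups of order 1512.
-/

namespace Cfsg.Agent.Lib.Helper3.Ree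

open Cfsg.Agent.Lib.Helper3.ChevM Cfsg.Agent.Lib.Helper3.SL2P
open Matrix Subgroup
open scoped Pointwise commutatorElement

section
variable {K : Type*} [Field K] [Fintype K] [CharP K 3]

/-- a nontrivial normal subgroup together with the Borel subgroup generates the group -/
theorem normal_sup_bSub (m : ℕ) (hK : Fintype.card K = 3 ^ (2 * m + 1))
    (N : Subgroup ↥(tG2 K (3 ^ m))) (hN : N.Normal) (hN1 : N ≠ ⊥) : N ⊔ bSub K (3 ^ m) = ⊤ := by
  -- an element of `N` outside the Borel subgroup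
  have hex : ∃ x ∈ N, x ∉ bSub K (3 ^ m) := by
    by_contra hcon
    push Not at hcon
    apply hN1
    rw [eq_bot_iff]
    intro z hz
    rw [mem_bot]
    apply Subtype.ext
    refine core_aux (K := K) m hK z.1 z.2 ?_
    intro g hg
    have h1 : (⟨g, hg⟩ : ↥(tG2 K (3 ^ m))) * z * (⟨g, hg⟩ : ↥(tG2 K (3 ^ m)))⁻¹ ∈ bSub K (3 ^ m) :=
      hcon _ (hN.conj_mem z hz ⟨g, hg⟩)
    exact mem_subgroupOf.mp h1
  obtain ⟨x, hxN, hxB⟩ := hex
  have hn : nSub m hK ∈ N ⊔ bSub K (3 ^ m) := by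
    rcases tG2_cases m hK x.1 x.2 with h | ⟨b, hb, b', hb', e⟩
    · exact absurd (mem_subgroupOf.mpr h) hxB
    · have hbB : (⟨b, hb.2⟩ : ↥(tG2 K (3 ^ m))) ∈ bSub K (3 ^ m) := mem_subgroupOf.mpr hb
      have hb'B : (⟨b', hb'.2⟩ : ↥(tG2 K (3 ^ m))) ∈ bSub K (3 ^ m) := mem_subgroupOf.mpr hb'
      have e' : nSub m hK = (⟨b, hb.2⟩ : ↥(tG2 K (3 ^ m)))⁻¹ * x * (⟨b', hb'.2⟩ : ↥(tG2 K (3 ^ m)))⁻¹ := by
        apply Subtype.ext
        show n1 m hK = b⁻¹ * x.1 * b'⁻¹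
        rw [e]; group
      rw [e']
      exact mul_mem (mul_mem (inv_mem (mem_sup_right hbB)) (mem_sup_left hxN)) (inv_mem (mem_sup_right hb'B))
  rw [eq_top_iff]
  intro g _
  rcases tG2_cases m hK g.1 g.2 with h | ⟨b, hb, b', hb', e⟩
  · exact mem_sup_right (mem_subgroupOf.mpr h)
  · have hbB : (⟨b, hb.2⟩ : ↥(tG2 K (3 ^ m))) ∈ bSub K (3 ^ m) := mem_subgroupOf.mpr hb
    have hb'B : (⟨b', hb'.2⟩ : ↥(tG2 K (3 ^ m))) ∈ bSub K (3 ^ m) := mem_subgroupOf.mpr hb'
    have e' : g = (⟨b, hb.2⟩ : ↥(tG2 K (3 ^ m))) * nSub m hK * (⟨b', hb'.2⟩ : ↥(tG2 K (3 ^ m))) :=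
      Subtype.ext e
    rw [e']
    exact mul_mem (mul_mem (mem_sup_right hbB) hn) (mem_sup_right hb'B)

/-- the twisted group is generated by the conjugates of its unipotent part -/
theorem normalClosure_uSub (m : ℕ) (hK : Fintype.card K = 3 ^ (2 * m + 1)) :
    normalClosure ((uSub K (3 ^ m) : Subgroup ↥(tG2 K (3 ^ m))) : Set ↥(tG2 K (3 ^ m))) = ⊤ := by
  set T : Subgroup (GL cdG2.D.Idx K) :=
    (normalClosure ((uSub K (3 ^ m) : Subgroup ↥(tG2 K (3 ^ m))) : Set ↥(tG2 K (3 ^ m)))).map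
      (tG2 K (3 ^ m)).subtype with hT
  have hU : ∀ t u v : K, reeU (3 ^ m) t u v ∈ T := fun t u v =>
    ⟨uG m t u v, subset_normalClosure (uG_mem m hK t u v), rfl⟩
  have hle : tG2 K (3 ^ m) ≤ T := by
    unfold tG2 ChevalleyDatum.genSubgroup
    rw [closure_le]
    rintro g ⟨w, ⟨t, u, v, rfl | rfl⟩, hg⟩
    · have : g = reeU (3 ^ m) t u v := Units.ext (hg.trans (reeU_val _ t u v).symm)
      rw [this]
      exact hU t u v
    · have : g = reeV (3 ^ m) t u v := Units.ext (hg.trans (reeV_val _ t u v).symm)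
      rw [this]
      have hUm := conj_neg_mem_pos m hK _ (reeV_mem_neg (3 ^ m) t u v)
      have hF : (n1 m hK)⁻¹ * reeV (3 ^ m) t u v * n1 m hK ∈ fixG K m :=
        mul_mem (mul_mem (inv_mem (n1_mem_fixG m hK)) (reeV_mem_fixG m hK t u v)) (n1_mem_fixG m hK)
      obtain ⟨a, b, c, e⟩ := fixed_posUnipotent m hK _ hUm hF.2
      have e2 : reeV (3 ^ m) t u v = n1 m hK * reeU (3 ^ m) a b c * (n1 m hK)⁻¹ := by
        rw [← e]; group
      rw [e2]
      refine ⟨nSub m hK * uG m a b c * (nSub m hK)⁻¹, ?_, rfl⟩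
      exact (normalClosure_normal).conj_mem _ (subset_normalClosure (uG_mem m hK a b c)) _
  rw [eq_top_iff]
  intro x _
  obtain ⟨y, hy, hyx⟩ := hle x.2
  have : y = x := Subtype.ext hyx
  rw [← this]; exact hy

end

end Cfsg.Agent.Lib.Helper3.Ree
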