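import Mathlib
import Cfsg.Agent.Lib.Helper3.Ree102
set_option autoImplicit false
set_option linter.unusedSectionVars false
set_option linter.style.haveILetI false
set_option linter.unusedSimpArgs false
open Cfsg Cfsg.Lie

/-!
The twisted group of type `G₂` over the field with three elements: the derived subgroup is simple
of order 504.
-/

namespace Cfsg.Agent.Lib.Helper3.Ree

open Cfsg.Agent.Lib.Helper3.ChevM Cfsg.Agent.Lib.Helper3.SL2P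
open Matrix Subgroup
open scoped Pointwise commutatorElement

section
variable {K : Type*} [Field K] [Fintype K] [CharP K 3]

/-- a commutator of a unipotent element with the involution of the diagonal part has order 9 -/
theorem gl_cube_ne (hK : Fintype.card K = 3 ^ (2 * 0 + 1)) :
    ((reeU (3 ^ 0) (1 : K) 0 0)⁻¹ * hRee (3 ^ 0) (-1 : K) * reeU (3 ^ 0) (1 : K) 0 0 *
      (hRee (3 ^ 0) (-1 : K))⁻¹) ^ 3 ≠ 1 := by
  have hs : (-1 : K) ≠ 0 := neg_ne_zero.mpr one_ne_zero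
  have hθ : (3 : ℕ) ^ 0 ≠ 0 := three_pow_ne_zero 0
  set A : GL cdG2.D.Idx K := reeU (3 ^ 0) (1 : K) 0 0 with hA
  have hAmem : A ∈ cdG2.D.posUnipotent K ⊓ tG2 K (3 ^ 0) :=
    (mem_pos_inf_tG2 0 hK A).mpr ⟨1, 0, 0, rfl⟩
  obtain ⟨t₁, u₁, v₁, e₁⟩ := (mem_pos_inf_tG2 0 hK A⁻¹).mp (inv_mem hAmem)
  have ht₁ : t₁ = -1 := by
    have h1 : A * A⁻¹ = reeU (3 ^ 0) (0 : K) 0 0 := by
      rw [mul_inv_cancel, reeU_zero _ hθ]
    rw [e₁, hA] at h1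
    have := reeU_mul_first _ _ _ _ _ _ _ _ _ _ h1
    linear_combination -this
  obtain ⟨u', v', e₂, -⟩ := conj_reeU 0 hK (-1 : K) hs 1 0 0
  have hχ : chi ((-1 : K) ^ 3 ^ 0) (-1) 6 = -1 := by
    rw [chi_6]
    norm_num
  rw [hχ] at e₂
  have e₃ : A⁻¹ * hRee (3 ^ 0) (-1 : K) * A * (hRee (3 ^ 0) (-1 : K))⁻¹ =
      A⁻¹ * (hRee (3 ^ 0) (-1 : K) * A * (hRee (3 ^ 0) (-1 : K))⁻¹) := by group
  rw [e₃, e₂, e₁]
  have hmem : reeU (3 ^ 0) t₁ u₁ v₁ * reeU (3 ^ 0) (-1 * 1 : K) u' v' ∈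
      cdG2.D.posUnipotent K ⊓ tG2 K (3 ^ 0) :=
    mul_mem ((mem_pos_inf_tG2 0 hK _).mpr ⟨_, _, _, rfl⟩) ((mem_pos_inf_tG2 0 hK _).mpr ⟨_, _, _, rfl⟩)
  obtain ⟨t₂, u₂, v₂, e₄⟩ := (mem_pos_inf_tG2 0 hK _).mp hmem
  have ht₂ : t₂ = t₁ + (-1 * 1) := reeU_mul_first _ _ _ _ _ _ _ _ _ _ e₄
  rw [e₄]
  apply reeU_cube_ne _ hθ
  rw [ht₂, ht₁]
  have h2 := two_ne_zero_three (K := K)
  intro h
  apply h2
  linear_combination -h

/-- the derived subgroup of the Borel subgroup -/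
theorem bSub_commutator (hK : Fintype.card K = 3 ^ (2 * 0 + 1)) :
    ⁅bSub K (3 ^ 0), bSub K (3 ^ 0)⁆ ≤ uSub K (3 ^ 0) ∧
      Nat.card ↥⁅bSub K (3 ^ 0), bSub K (3 ^ 0)⁆ = 9 := by
  have hs : (-1 : K) ≠ 0 := neg_ne_zero.mpr one_ne_zero
  have hle := uSub_le_bSub 0 hK
  set hG : ↥(tG2 K (3 ^ 0)) := ⟨hRee (3 ^ 0) (-1 : K), hRee_mem_tG2 0 hK (-1) hs⟩ with hhG
  have hGB : hG ∈ bSub K (3 ^ 0) := mem_subgroupOf.mpr (hRee_mem_bT 0 hK (-1) hs)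
  set h : ↥(bSub K (3 ^ 0)) := ⟨hG, hGB⟩ with hh
  set y₀ : ↥(bSub K (3 ^ 0)) := ⟨uG 0 1 0 0, hle (uG_mem 0 hK 1 0 0)⟩ with hy₀
  set x₀ : ↥(bSub K (3 ^ 0)) := ⟨uG 0 0 1 0, hle (uG_mem 0 hK 0 1 0)⟩ with hx₀
  have hB : Nat.card ↥(bSub K (3 ^ 0)) = 54 := by
    rw [card_bSub 0 hK]; norm_num
  have hU : Nat.card ↥((uSub K (3 ^ 0)).subgroupOf (bSub K (3 ^ 0))) = 27 := by
    rw [Nat.card_congr (subgroupOfEquivOfLe hle).toEquiv, card_uSub 0 hK]; norm_num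
  have hhh : h * h = 1 := Subtype.ext (Subtype.ext (hRee_neg_one_sq (3 ^ 0)))
  have hh1 : h ≠ 1 := by
    intro e
    apply hRee_neg_one_ne (K := K) (3 ^ 0)
    exact congrArg (fun z : ↥(bSub K (3 ^ 0)) => ((z : ↥(tG2 K (3 ^ 0))) : GL cdG2.D.Idx K)) e
  have hhU : h ∉ (uSub K (3 ^ 0)).subgroupOf (bSub K (3 ^ 0)) := by
    intro hmem
    have h2 : orderOf h = 2 := orderOf_eq_prime (by rw [pow_two]; exact hhh) hh1
    have hd := orderOf_dvd_natCard (⟨h, hmem⟩ : ↥((uSub K (3 ^ 0)).subgroupOf (bSub K (3 ^ 0))))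
    rw [hU, ← Subgroup.orderOf_coe] at hd
    simp only at hd
    rw [h2] at hd
    norm_num at hd
  have hyU : y₀ ∈ (uSub K (3 ^ 0)).subgroupOf (bSub K (3 ^ 0)) := mem_subgroupOf.mpr (uG_mem 0 hK 1 0 0)
  have hxU : x₀ ∈ (uSub K (3 ^ 0)).subgroupOf (bSub K (3 ^ 0)) := mem_subgroupOf.mpr (uG_mem 0 hK 0 1 0)
  have hx1 : x₀ ≠ 1 := by
    intro e
    apply reeU_010_ne (K := K) 0
    exact congrArg (fun z : ↥(bSub K (3 ^ 0)) => ((z : ↥(tG2 K (3 ^ 0))) : GL cdG2.D.Idx K)) e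
  have hx3 : x₀ ^ 3 = 1 := Subtype.ext (Subtype.ext (zU_cube 0 (1 : K) 0))
  have hxh : h * x₀ * h⁻¹ = x₀ := Subtype.ext (Subtype.ext (hRee_neg_one_comm 0 hK))
  have hg : (y₀⁻¹ * h * y₀ * h⁻¹) ^ 3 ≠ 1 := by
    intro e
    apply gl_cube_ne hK
    exact congrArg (fun z : ↥(bSub K (3 ^ 0)) => ((z : ↥(tG2 K (3 ^ 0))) : GL cdG2.D.Idx K)) e
  obtain ⟨k1, k2⟩ := borel_commutator hB _ hU h y₀ x₀ hhh hhU hyU hxU hx1 hx3 hxh hg
  rw [← map_subtype_commutator]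
  constructor
  · rw [map_le_iff_le_comap]
    exact k1
  · rw [← k2]
    exact (Nat.card_congr (equivMapOfInjective _ (bSub K (3 ^ 0)).subtype
      (bSub K (3 ^ 0)).subtype_injective).toEquiv).symm

/-- the hypotheses of the abstract lemma -/
theorem ree3_hyp (hK : Fintype.card K = 3 ^ (2 * 0 + 1)) :
    R3Hyp ↥(tG2 K (3 ^ 0)) (uSub K (3 ^ 0)) (bSub K (3 ^ 0)) where
  cardG := by rw [card_tG2 0 hK]; norm_num
  cardU := by rw [card_uSub 0 hK]; norm_num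
  cardB := by rw [card_bSub 0 hK]; norm_num
  le := uSub_le_bSub 0 hK
  ctl := fun g x hx hx1 hgx => mem_bSub_of_conj_uSub 0 hK g x hx hx1 hgx
  max := normal_sup_bSub 0 hK
  gen := normalClosure_uSub 0 hK
  comm_le := (bSub_commutator hK).1
  card_comm := (bSub_commutator hK).2

/-- the derived subgroup of the twisted group of type `G₂` over the field with three elements -/
theorem ree3_derived (hK : Fintype.card K = 3 ^ (2 * 0 + 1)) :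
    Nat.card ↥(commutator ↥(tG2 K (3 ^ 0))) = 504 ∧ IsSimpleGroup ↥(commutator ↥(tG2 K (3 ^ 0))) :=
  ⟨(ree3_hyp hK).card_commutator, (ree3_hyp hK).simple⟩

end

end Cfsg.Agent.Lib.Helper3.Ree
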