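import Mathlib
import Cfsg.Agent.Lib.Helper3.Ree79
set_option autoImplicit false
set_option linter.unusedSectionVars false
set_option linter.style.haveILetI false
set_option linter.unusedSimpArgs false
open Cfsg Cfsg.Lie

/-!
The normalizers of the centralizers of the elements of the twisted group of type `G₂` whose order
divides `q² - q + 1`: the index of the centralizer divides six.
-/

namespace Cfsg.Agent.Lib.Helper3.Ree

open Cfsg.Agent.Lib.Helper3.ChevM Cfsg.Agent.Lib.Helper3.SL2P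
open Matrix

section
variable {G : Type*} [Group G]

/-- the powers of an element of prime order `p` dividing `q² - q + 1` with exponents `q ^ a` depend on
`a` modulo six -/
theorem pow_q_pow_mod (x : G) (p q : ℕ) [hp : Fact p.Prime] (hpq : p ∣ q ^ 2 - q + 1) (hx : x ^ p = 1)
    (a : ℕ) : x ^ (q ^ a) = x ^ (q ^ (a % 6)) := by
  have h6 := pow_six_mod p q hpq
  have h1 : q ^ a ≡ q ^ (a % 6) [MOD p] := by
    conv_lhs => rw [← Nat.div_add_mod a 6, pow_add, pow_mul]
    have := (h6.pow (a / 6)).mul_right (q ^ (a % 6))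
    rw [one_pow, one_mul] at this
    exact this
  rw [pow_eq_pow_mod (q ^ a) hx, pow_eq_pow_mod (q ^ (a % 6)) hx, h1]

theorem neg_eq_five_smul (k : ZMod 6) : -k = k + k + k + k + k := by
  revert k; decide

end

section
variable {K : Type*} [Field K] [Fintype K] [CharP K 3]

/-- the index of the centralizer of an element whose order divides `q² - q + 1` in its normalizer
divides six -/
theorem card_normalizer_of_ySet (m : ℕ) (hm : 1 ≤ m) (hK : Fintype.card K = 3 ^ (2 * m + 1))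
    (y : ↥(tG2 K (3 ^ m))) (hy : y ∈ ySet K m) :
    ∃ e : ℕ, e ∣ 6 ∧ Nat.card ↥(Subgroup.normalizer
      ((Subgroup.centralizer {y} : Subgroup ↥(tG2 K (3 ^ m))) : Set ↥(tG2 K (3 ^ m)))) =
      e * Nat.card ↥(Subgroup.centralizer {y}) := by
  classical
  obtain ⟨p, k, hpp, hp3, hpN, hxo⟩ := exists_prime_pow_of_ySet m y hy
  haveI : Fact p.Prime := ⟨hpp⟩
  set x := y ^ k with hx
  set q := 3 ^ (2 * m + 1) with hq
  have hx1 : x ≠ 1 := ne_one_of_orderOf_prime x p hpp hxo
  have hxp : x ^ p = 1 := by rw [← hxo]; exact pow_orderOf_eq_one x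
  have hxy : x * y = y * x := by rw [hx, ← pow_succ, ← pow_succ']
  have hCx : Subgroup.centralizer {x} = Subgroup.centralizer {y} := centralizer_eq_of_ySet m hm hK y x hy hx1 hxy
  set A := Subgroup.centralizer ({y} : Set ↥(tG2 K (3 ^ m))) with hA
  set Nm := Subgroup.normalizer ((A : Subgroup ↥(tG2 K (3 ^ m))) : Set ↥(tG2 K (3 ^ m))) with hNm
  have hxA : x ∈ A := Subgroup.mem_centralizer_singleton_iff.mpr hxy
  haveI : IsCyclic ↥A := isCyclic_centralizer_of_ySet m hm hK y hy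
  -- orbit and stabilizer
  have h1 := card_conj_orbit Nm x
  have hstab : Nm ⊓ Subgroup.centralizer {x} = A := by
    rw [hCx]
    exact inf_eq_right.mpr Subgroup.le_normalizer
  rw [hstab] at h1
  set O : Set ↥(tG2 K (3 ^ m)) := {w | ∃ h ∈ Nm, h * x * h⁻¹ = w} with hO
  -- the elements of the orbit are the powers `x ^ (q ^ k)`
  have hOpow : ∀ w ∈ O, ∃ k' < 6, w = x ^ (q ^ k') := by
    rintro w ⟨h, hh, rfl⟩
    have hmemA : h * x * h⁻¹ ∈ A := (Subgroup.mem_normalizer_iff.mp hh x).mp hxA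
    have hz : h * x * h⁻¹ ∈ Subgroup.zpowers x := by
      apply mem_of_pow_card_eq_one_of_cyclic A (Subgroup.zpowers x) (by rw [Subgroup.zpowers_le]; exact hxA)
        _ hmemA
      rw [Nat.card_zpowers, hxo, conj_pow, hxp]; group
    obtain ⟨j, hj⟩ := (mem_powers_iff_mem_zpowers (x := x)).mpr hz
    have hj' : h * x * h⁻¹ = x ^ j := hj.symm
    obtain ⟨k', hk', e⟩ := conj_pow_of_prime m hm hK p hp3 hpN x hxo h j hj'
    exact ⟨k', hk', by rw [hj', e]⟩
  -- the subgroup of exponents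
  let S₆ : AddSubgroup (ZMod 6) :=
    { carrier := {a | x ^ (q ^ a.val) ∈ O}
      zero_mem' := by
        show x ^ (q ^ (0 : ZMod 6).val) ∈ O
        rw [ZMod.val_zero, pow_zero, pow_one]
        exact ⟨1, Subgroup.one_mem _, by group⟩
      add_mem' := by
        rintro a b ⟨h₁, hh₁, e₁⟩ ⟨h₂, hh₂, e₂⟩
        refine ⟨h₁ * h₂, Subgroup.mul_mem _ hh₁ hh₂, ?_⟩
        have e3 : h₁ * h₂ * x * (h₁ * h₂)⁻¹ = h₁ * (h₂ * x * h₂⁻¹) * h₁⁻¹ := by group
        rw [e3, e₂, ← conj_pow, e₁, ← pow_mul, ← pow_add, pow_q_pow_mod x p q hpN hxp (a.val + b.val),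
          ZMod.val_add]
      neg_mem' := by
        intro a ha
        have hadd : ∀ b c : ZMod 6, x ^ (q ^ b.val) ∈ O → x ^ (q ^ c.val) ∈ O → x ^ (q ^ (b + c).val) ∈ O := by
          rintro b c ⟨h₁, hh₁, e₁⟩ ⟨h₂, hh₂, e₂⟩
          refine ⟨h₁ * h₂, Subgroup.mul_mem _ hh₁ hh₂, ?_⟩
          have e3 : h₁ * h₂ * x * (h₁ * h₂)⁻¹ = h₁ * (h₂ * x * h₂⁻¹) * h₁⁻¹ := by group
          rw [e3, e₂, ← conj_pow, e₁, ← pow_mul, ← pow_add, pow_q_pow_mod x p q hpN hxp (b.val + c.val),
            ZMod.val_add]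
        show x ^ (q ^ (-a).val) ∈ O
        rw [neg_eq_five_smul]
        exact hadd _ _ (hadd _ _ (hadd _ _ (hadd _ _ ha ha) ha) ha) ha }
  have hS₆ : Nat.card ↥S₆ ∣ 6 := by
    have := AddSubgroup.card_addSubgroup_dvd_card S₆
    rw [Nat.card_eq_fintype_card (α := ZMod 6), ZMod.card] at this
    exact this
  -- the bijection with the orbit
  have hbij : Nat.card ↥S₆ = Nat.card ↥O := by
    apply Nat.card_congr
    refine Equiv.ofBijective (fun a => ⟨x ^ (q ^ (a : ZMod 6).val), a.2⟩) ⟨?_, ?_⟩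
    · intro a b hab
      have h2 : x ^ (q ^ (a : ZMod 6).val) = x ^ (q ^ (b : ZMod 6).val) := congrArg Subtype.val hab
      have h3 := pow_eq_pow_iff_modEq.mp h2
      rw [hxo] at h3
      have h4 := pow_inj_mod p q _ _ hp3 hpN (ZMod.val_lt _) (ZMod.val_lt _) h3
      exact Subtype.ext (ZMod.val_injective 6 h4)
    · rintro ⟨w, hw⟩
      obtain ⟨k', hk', e⟩ := hOpow w hw
      have hv : ((k' : ℕ) : ZMod 6).val = k' := ZMod.val_natCast_of_lt hk'
      refine ⟨⟨(k' : ZMod 6), ?_⟩, ?_⟩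
      · show x ^ (q ^ ((k' : ℕ) : ZMod 6).val) ∈ O
        rw [hv, ← e]; exact hw
      · apply Subtype.ext
        show x ^ (q ^ ((k' : ℕ) : ZMod 6).val) = w
        rw [hv, e]
  refine ⟨Nat.card ↥O, by rw [← hbij]; exact hS₆, h1.symm⟩

end

end Cfsg.Agent.Lib.Helper3.Ree
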