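import Mathlib
import Cfsg.Agent.Lib.Helper3.Ree80
set_option autoImplicit false
set_option linter.unusedSectionVars false
set_option linter.style.haveILetI false
set_option linter.unusedSimpArgs false
open Cfsg Cfsg.Lie

/-!
The classes of the elements of the twisted group of type `G₂` whose order divides `q² - q + 1`:
the union of the conjugates of the nontrivial elements of the centralizer.
-/

namespace Cfsg.Agent.Lib.Helper3.Ree

open Cfsg.Agent.Lib.Helper3.ChevM Cfsg.Agent.Lib.Helper3.SL2P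
open Matrix

section
variable {K : Type*} [Field K] [Fintype K] [CharP K 3]

/-- the union of the conjugates of the nontrivial elements of the centralizer -/
def yCls (m : ℕ) (y : ↥(tG2 K (3 ^ m))) : Set ↥(tG2 K (3 ^ m)) :=
  conjUnion (punct (Subgroup.centralizer {y}))

theorem mem_yCls_iff (m : ℕ) (y w : ↥(tG2 K (3 ^ m))) :
    w ∈ yCls m y ↔ ∃ g : ↥(tG2 K (3 ^ m)), g⁻¹ * w * g * y = y * (g⁻¹ * w * g) ∧ g⁻¹ * w * g ≠ 1 := by
  constructor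
  · rintro ⟨g, hg, hg1⟩
    exact ⟨g, Subgroup.mem_centralizer_singleton_iff.mp hg, hg1⟩
  · rintro ⟨g, hg, hg1⟩
    exact ⟨g, Subgroup.mem_centralizer_singleton_iff.mpr hg, hg1⟩

theorem mem_yCls_self (m : ℕ) (y : ↥(tG2 K (3 ^ m))) (hy : y ≠ 1) : y ∈ yCls m y := by
  rw [mem_yCls_iff]
  refine ⟨1, ?_, ?_⟩
  · group
  · simpa using hy

theorem conj_mem_yCls (m : ℕ) (y w g : ↥(tG2 K (3 ^ m))) (hw : w ∈ yCls m y) :
    g * w * g⁻¹ ∈ yCls m y :=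
  conj_mem_conjUnion _ g w hw

theorem yCls_subset_ySet (m : ℕ) (hm : 1 ≤ m) (hK : Fintype.card K = 3 ^ (2 * m + 1))
    (y : ↥(tG2 K (3 ^ m))) (hy : y ∈ ySet K m) : yCls m y ⊆ ySet K m := by
  intro w hw
  rw [mem_yCls_iff] at hw
  obtain ⟨g, hg, hg1⟩ := hw
  have h1 := mem_ySet_of_comm m hm hK y _ hy hg1 hg
  refine ⟨?_, ?_⟩
  · rintro rfl
    apply h1.1
    group
  · have := h1.2
    rwa [orderOf_conj''] at this

/-- the centralizer of an element of the class -/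
theorem centralizer_of_mem_yCls (m : ℕ) (hm : 1 ≤ m) (hK : Fintype.card K = 3 ^ (2 * m + 1))
    (y w : ↥(tG2 K (3 ^ m))) (hy : y ∈ ySet K m) (hw : w ∈ yCls m y) :
    ∃ g : ↥(tG2 K (3 ^ m)), g⁻¹ * w * g ≠ 1 ∧ g⁻¹ * w * g * y = y * (g⁻¹ * w * g) ∧
      Subgroup.centralizer {g⁻¹ * w * g} = Subgroup.centralizer {y} := by
  rw [mem_yCls_iff] at hw
  obtain ⟨g, hg, hg1⟩ := hw
  exact ⟨g, hg1, hg, centralizer_eq_of_ySet m hm hK y _ hy hg1 hg⟩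

theorem card_centralizer_of_mem_yCls (m : ℕ) (hm : 1 ≤ m) (hK : Fintype.card K = 3 ^ (2 * m + 1))
    (y w : ↥(tG2 K (3 ^ m))) (hy : y ∈ ySet K m) (hw : w ∈ yCls m y) :
    Nat.card ↥(Subgroup.centralizer {w}) = Nat.card ↥(Subgroup.centralizer {y}) := by
  obtain ⟨g, hg1, hg, hC⟩ := centralizer_of_mem_yCls m hm hK y w hy hw
  rw [← hC]
  have := card_centralizer_conj g⁻¹ w
  rw [inv_inv] at this
  exact this.symm

/-- the classes are equal or disjoint -/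
theorem mem_yCls_of_inter (m : ℕ) (hm : 1 ≤ m) (hK : Fintype.card K = 3 ^ (2 * m + 1))
    (y₁ y₂ w : ↥(tG2 K (3 ^ m))) (hy₁ : y₁ ∈ ySet K m) (hy₂ : y₂ ∈ ySet K m)
    (hw₁ : w ∈ yCls m y₁) (hw₂ : w ∈ yCls m y₂) : y₂ ∈ yCls m y₁ := by
  obtain ⟨g, hg1, hg, hC⟩ := centralizer_of_mem_yCls m hm hK y₁ w hy₁ hw₁
  obtain ⟨h, hh1, hh, hD⟩ := centralizer_of_mem_yCls m hm hK y₂ w hy₂ hw₂
  -- `y₂` commutes with `h⁻¹ w h`, so `h y₂ h⁻¹` commutes with `w`, so `g⁻¹ h y₂ h⁻¹ g` commutes with `g⁻¹ w g`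
  have h1 : g⁻¹ * (h * y₂ * h⁻¹) * g ∈ Subgroup.centralizer {g⁻¹ * w * g} := by
    rw [Subgroup.mem_centralizer_singleton_iff]
    have e1 : g⁻¹ * (h * y₂ * h⁻¹) * g * (g⁻¹ * w * g) = g⁻¹ * h * (y₂ * (h⁻¹ * w * h)) * h⁻¹ * g := by group
    have e2 : g⁻¹ * w * g * (g⁻¹ * (h * y₂ * h⁻¹) * g) = g⁻¹ * h * ((h⁻¹ * w * h) * y₂) * h⁻¹ * g := by group
    rw [e1, e2, hh]
  rw [hC, Subgroup.mem_centralizer_singleton_iff] at h1
  rw [mem_yCls_iff]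
  refine ⟨h⁻¹ * g, ?_, ?_⟩
  · have e : (h⁻¹ * g)⁻¹ * y₂ * (h⁻¹ * g) = g⁻¹ * (h * y₂ * h⁻¹) * g := by group
    rw [e]; exact h1
  · intro h0
    apply hy₂.1
    have e : y₂ = (h⁻¹ * g) * ((h⁻¹ * g)⁻¹ * y₂ * (h⁻¹ * g)) * (h⁻¹ * g)⁻¹ := by group
    rw [e, h0]; group

/-- the number of elements of the class -/
theorem card_yCls (m : ℕ) (hm : 1 ≤ m) (hK : Fintype.card K = 3 ^ (2 * m + 1))
    (y : ↥(tG2 K (3 ^ m))) (hy : y ∈ ySet K m) :
    Nat.card ↥(yCls m y) * Nat.card ↥(Subgroup.normalizer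
      ((Subgroup.centralizer {y} : Subgroup ↥(tG2 K (3 ^ m))) : Set ↥(tG2 K (3 ^ m)))) =
      Nat.card ↥(tG2 K (3 ^ m)) * (Nat.card ↥(Subgroup.centralizer {y}) - 1) := by
  have h := card_conjUnion (punct (Subgroup.centralizer {y}))
    (Subgroup.normalizer ((Subgroup.centralizer {y} : Subgroup ↥(tG2 K (3 ^ m))) : Set ↥(tG2 K (3 ^ m))))
    (punct_invariant _ _ le_rfl) ?_
  · rw [card_punct] at h
    exact h
  · rintro g x ⟨hx, hx1⟩ ⟨hgx, _⟩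
    rw [Subgroup.mem_centralizer_singleton_iff] at hx hgx
    exact mem_normalizer_of_conj_mem_of_ySet m hm hK y x g hy hx hx1 hgx

end

end Cfsg.Agent.Lib.Helper3.Ree
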