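import Mathlib
import Cfsg.Agent.Lib.Helper3.Ree81
set_option autoImplicit false
set_option linter.unusedSectionVars false
set_option linter.style.haveILetI false
set_option linter.unusedSimpArgs false
open Cfsg Cfsg.Lie

/-!
Counting the classes of the elements of the twisted group of type `G₂` whose order divides
`q² - q + 1`: there are exactly two classes.
-/

namespace Cfsg.Agent.Lib.Helper3.Ree

open Cfsg.Agent.Lib.Helper3.ChevM Cfsg.Agent.Lib.Helper3.SL2P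
open Matrix

section arith

theorem cls_bound (G c e a : ℕ) (h : c * (e * a) = G * (a - 1)) (he : e ∣ 6) (ha : 5 ≤ a) :
    2 * G ≤ 15 * c := by
  have he6 : e ≤ 6 := Nat.le_of_dvd (by norm_num) he
  obtain ⟨a', rfl⟩ : ∃ a', a = a' + 5 := ⟨a - 5, by omega⟩
  have h1 : a' + 5 - 1 = a' + 4 := by omega
  rw [h1] at h
  have h2 : c * (e * (a' + 5)) ≤ c * (6 * (a' + 5)) :=
    Nat.mul_le_mul_left _ (Nat.mul_le_mul_right _ he6)
  rw [h] at h2
  have h3 : 4 * G * (a' + 5) ≤ 5 * (G * (a' + 4)) := by nlinarith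
  have h4 : 4 * G * (a' + 5) ≤ 30 * c * (a' + 5) := by nlinarith
  have h5 := Nat.le_of_mul_le_mul_right h4 (by omega)
  omega

theorem cls_rel (G c e f a b N : ℕ) (h : c * (e * a) = G * (a - 1)) (hN : N = a * b) (hef : e * f = 6) :
    6 * c * N = f * G * (N - b) := by
  subst hN
  have h1 : a * b - b = (a - 1) * b := by rw [Nat.sub_mul, one_mul]
  rw [h1, ← hef]
  calc e * f * c * (a * b) = f * (c * (e * a)) * b := by ring
    _ = f * (G * (a - 1)) * b := by rw [h]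
    _ = f * G * ((a - 1) * b) := by ring

theorem quad_k (k : ℕ) : (k + 3) ^ 2 - (k + 3) + 1 = k ^ 2 + 5 * k + 7 := by
  have : (k + 3) ^ 2 = (k ^ 2 + 5 * k + 6) + (k + 3) := by ring
  rw [this, Nat.add_sub_cancel]

theorem one_class_absurd (k f b : ℕ) (hk : 24 ≤ k) (hf : f ∣ 6) (hb5 : 5 * b ≤ k ^ 2 + 5 * k + 7)
    (hb : b ≠ k + 4) (h : f * (k ^ 2 + 5 * k + 7 - b) = 2 * (k ^ 2 + 4 * k + 3)) : False := by
  have hf6 : f ≤ 6 := Nat.le_of_dvd (by norm_num) hf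
  have hk2 : 24 * k ≤ k ^ 2 := by nlinarith
  interval_cases f
  · omega
  · omega
  · omega
  · omega
  · exact absurd hf (by norm_num)
  · exact absurd hf (by norm_num)
  · omega

theorem two_class_arith (k f₁ f₂ b₁ b₂ : ℕ) (hf₁ : f₁ ∣ 6) (hf₂ : f₂ ∣ 6)
    (hb₁ : 5 * b₁ ≤ k ^ 2 + 5 * k + 7) (hb₂ : 5 * b₂ ≤ k ^ 2 + 5 * k + 7)
    (h : f₁ * (k ^ 2 + 5 * k + 7 - b₁) + f₂ * (k ^ 2 + 5 * k + 7 - b₂) = 2 * (k ^ 2 + 4 * k + 3)) :
    f₁ = 1 ∧ f₂ = 1 ∧ b₁ + b₂ = 2 * (k + 4) := by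
  have hf6 : f₁ ≤ 6 := Nat.le_of_dvd (by norm_num) hf₁
  have hf6' : f₂ ≤ 6 := Nat.le_of_dvd (by norm_num) hf₂
  have h1 : 0 < f₁ := Nat.pos_of_dvd_of_pos hf₁ (by norm_num)
  have h2 : 0 < f₂ := Nat.pos_of_dvd_of_pos hf₂ (by norm_num)
  interval_cases f₁ <;> interval_cases f₂ <;> omega

end arith

section
variable {K : Type*} [Field K] [Fintype K] [CharP K 3]

/-- the numerical data of a class -/
theorem cls_data (m : ℕ) (hm : 1 ≤ m) (hK : Fintype.card K = 3 ^ (2 * m + 1))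
    (y : ↥(tG2 K (3 ^ m))) (hy : y ∈ ySet K m) :
    ∃ b f : ℕ, (3 ^ (2 * m + 1)) ^ 2 - 3 ^ (2 * m + 1) + 1 = Nat.card ↥(Subgroup.centralizer {y}) * b ∧
      f ∣ 6 ∧
      f * Nat.card ↥(Subgroup.normalizer
        ((Subgroup.centralizer {y} : Subgroup ↥(tG2 K (3 ^ m))) : Set ↥(tG2 K (3 ^ m)))) =
        6 * Nat.card ↥(Subgroup.centralizer {y}) ∧
      5 * b ≤ (3 ^ (2 * m + 1)) ^ 2 - 3 ^ (2 * m + 1) + 1 ∧
      6 * Nat.card ↥(yCls m y) * ((3 ^ (2 * m + 1)) ^ 2 - 3 ^ (2 * m + 1) + 1) =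
        f * Nat.card ↥(tG2 K (3 ^ m)) * ((3 ^ (2 * m + 1)) ^ 2 - 3 ^ (2 * m + 1) + 1 - b) ∧
      2 * Nat.card ↥(tG2 K (3 ^ m)) ≤ 15 * Nat.card ↥(yCls m y) := by
  obtain ⟨e, he, hNe⟩ := card_normalizer_of_ySet m hm hK y hy
  obtain ⟨b, hb⟩ := card_centralizer_dvd_of_ySet m hm hK y hy
  have h5 := five_le_card_centralizer_of_ySet m hm hK y hy
  have hc := card_yCls m hm hK y hy
  rw [hNe] at hc
  obtain ⟨f, hf⟩ := he
  refine ⟨b, f, hb, ⟨e, by rw [hf, mul_comm]⟩, ?_, ?_, ?_, ?_⟩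
  · rw [hNe, hf]; ring
  · rw [hb]
    exact Nat.mul_le_mul_right b h5
  · exact cls_rel _ _ e f _ b _ hc hb hf.symm
  · exact cls_bound _ _ e _ hc ⟨f, hf⟩ h5

end

end Cfsg.Agent.Lib.Helper3.Ree
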