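import Mathlib
import Cfsg.Agent.Lib.Helper3.Ree82
set_option autoImplicit false
set_option linter.unusedSectionVars false
set_option linter.style.haveILetI false
set_option linter.unusedSimpArgs false
open Cfsg Cfsg.Lie

/-!
There are exactly two classes of elements of the twisted group of type `G₂` whose order divides
`q² - q + 1`.
-/

namespace Cfsg.Agent.Lib.Helper3.Ree

open Cfsg.Agent.Lib.Helper3.ChevM Cfsg.Agent.Lib.Helper3.SL2P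
open Matrix

section arith

theorem y_rel (k G Y : ℕ) (hG : G = (k + 3) ^ 3 * ((k + 3 - 1) * ((k + 3 + 1) * (k ^ 2 + 5 * k + 7))))
    (hY : 3 * Y = (k + 3) ^ 4 * ((k + 3) ^ 2 - 1) * (k + 3 - 2)) :
    3 * (k ^ 2 + 5 * k + 7) * Y = G * (k ^ 2 + 4 * k + 3) := by
  have h1 : k + 3 - 1 = k + 2 := by omega
  have h2 : k + 3 - 2 = k + 1 := by omega
  have h3 : (k + 3) ^ 2 - 1 = (k + 2) * (k + 4) := by
    have : (k + 3) ^ 2 = (k + 2) * (k + 4) + 1 := by ring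
    rw [this, Nat.add_sub_cancel]
  rw [h1] at hG
  rw [h2, h3] at hY
  calc 3 * (k ^ 2 + 5 * k + 7) * Y = (k ^ 2 + 5 * k + 7) * (3 * Y) := by ring
    _ = (k ^ 2 + 5 * k + 7) * ((k + 3) ^ 4 * ((k + 2) * (k + 4)) * (k + 1)) := by rw [hY]
    _ = G * (k ^ 2 + 4 * k + 3) := by rw [hG]; ring

end arith

section
variable {K : Type*} [Field K] [Fintype K] [CharP K 3]

theorem q_ge_27 (m : ℕ) (hm : 1 ≤ m) : 27 ≤ 3 ^ (2 * m + 1) := by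
  calc 27 = 3 ^ 3 := by norm_num
    _ ≤ 3 ^ (2 * m + 1) := Nat.pow_le_pow_right (by norm_num) (by omega)

/-- there are exactly two classes of elements whose order divides `q² - q + 1` -/
theorem exists_two_classes (m : ℕ) (hm : 1 ≤ m) (hK : Fintype.card K = 3 ^ (2 * m + 1)) :
    ∃ y₁ y₂ : ↥(tG2 K (3 ^ m)), y₁ ∈ ySet K m ∧ y₂ ∈ ySet K m ∧ y₂ ∉ yCls m y₁ ∧
      (∀ y ∈ ySet K m, y ∈ yCls m y₁ ∨ y ∈ yCls m y₂) ∧
      Nat.card ↥(Subgroup.normalizer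
        ((Subgroup.centralizer {y₁} : Subgroup ↥(tG2 K (3 ^ m))) : Set ↥(tG2 K (3 ^ m)))) =
        6 * Nat.card ↥(Subgroup.centralizer {y₁}) ∧
      Nat.card ↥(Subgroup.normalizer
        ((Subgroup.centralizer {y₂} : Subgroup ↥(tG2 K (3 ^ m))) : Set ↥(tG2 K (3 ^ m)))) =
        6 * Nat.card ↥(Subgroup.centralizer {y₂}) ∧
      ∃ b₁ b₂ : ℕ,
        (3 ^ (2 * m + 1)) ^ 2 - 3 ^ (2 * m + 1) + 1 = Nat.card ↥(Subgroup.centralizer {y₁}) * b₁ ∧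
        (3 ^ (2 * m + 1)) ^ 2 - 3 ^ (2 * m + 1) + 1 = Nat.card ↥(Subgroup.centralizer {y₂}) * b₂ ∧
        b₁ + b₂ = 2 * (3 ^ (2 * m + 1) + 1) := by
  classical
  have hq27 := q_ge_27 m hm
  have hG := card_tG2_factor m hK
  have hY := card_ySet m hm hK
  have hdata := cls_data m hm hK
  have hgcd := eq_one_of_dvd_add_quad m
  obtain ⟨q, hq⟩ : ∃ q, q = 3 ^ (2 * m + 1) := ⟨_, rfl⟩
  rw [← hq] at hG hY hdata hq27 hgcd ⊢
  obtain ⟨k, rfl⟩ : ∃ k, q = k + 3 := ⟨q - 3, by omega⟩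
  have hk : 24 ≤ k := by omega
  simp only [quad_k] at hdata hG hgcd ⊢
  have hrel := y_rel k _ _ hG hY
  have hGpos : 0 < Nat.card ↥(tG2 K (3 ^ m)) := Nat.card_pos
  have hk2 : 0 < k ^ 2 + 5 * k + 7 := by positivity
  have hYlt : 3 * Nat.card ↥(ySet K m) < Nat.card ↥(tG2 K (3 ^ m)) := by
    have h1 : Nat.card ↥(tG2 K (3 ^ m)) * (k ^ 2 + 4 * k + 3) <
        Nat.card ↥(tG2 K (3 ^ m)) * (k ^ 2 + 5 * k + 7) := by
      apply Nat.mul_lt_mul_of_pos_left _ hGpos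
      omega
    rw [← hrel] at h1
    have h2 : (k ^ 2 + 5 * k + 7) * (3 * Nat.card ↥(ySet K m)) <
        (k ^ 2 + 5 * k + 7) * Nat.card ↥(tG2 K (3 ^ m)) := by
      calc (k ^ 2 + 5 * k + 7) * (3 * Nat.card ↥(ySet K m))
          = 3 * (k ^ 2 + 5 * k + 7) * Nat.card ↥(ySet K m) := by ring
        _ < Nat.card ↥(tG2 K (3 ^ m)) * (k ^ 2 + 5 * k + 7) := h1
        _ = (k ^ 2 + 5 * k + 7) * Nat.card ↥(tG2 K (3 ^ m)) := by ring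
    exact Nat.lt_of_mul_lt_mul_left h2
  have hYpos : 0 < Nat.card ↥(ySet K m) := by
    by_contra h0
    have h0' : Nat.card ↥(ySet K m) = 0 := by omega
    rw [h0', mul_zero] at hrel
    have : 0 < Nat.card ↥(tG2 K (3 ^ m)) * (k ^ 2 + 4 * k + 3) := by positivity
    omega
  obtain ⟨⟨y₁, hy₁⟩⟩ : Nonempty ↥(ySet K m) := (Nat.card_pos_iff.mp hYpos).1
  have hS₁ := yCls_subset_ySet m hm hK y₁ hy₁
  obtain ⟨b₁, f₁, hb₁, hf₁, hn₁, hb5₁, hrel₁, hbd₁⟩ := hdata y₁ hy₁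
  -- one class is not enough
  have hex₂ : ∃ y₂ ∈ ySet K m, y₂ ∉ yCls m y₁ := by
    by_contra hall
    push Not at hall
    have hEq : yCls m y₁ = ySet K m := Set.Subset.antisymm hS₁ hall
    rw [hEq] at hrel₁
    have h1 : Nat.card ↥(tG2 K (3 ^ m)) * (f₁ * (k ^ 2 + 5 * k + 7 - b₁)) =
        Nat.card ↥(tG2 K (3 ^ m)) * (2 * (k ^ 2 + 4 * k + 3)) := by
      calc Nat.card ↥(tG2 K (3 ^ m)) * (f₁ * (k ^ 2 + 5 * k + 7 - b₁))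
          = f₁ * Nat.card ↥(tG2 K (3 ^ m)) * (k ^ 2 + 5 * k + 7 - b₁) := by ring
        _ = 6 * Nat.card ↥(ySet K m) * (k ^ 2 + 5 * k + 7) := hrel₁.symm
        _ = 2 * (3 * (k ^ 2 + 5 * k + 7) * Nat.card ↥(ySet K m)) := by ring
        _ = Nat.card ↥(tG2 K (3 ^ m)) * (2 * (k ^ 2 + 4 * k + 3)) := by rw [hrel]; ring
    have h2 := Nat.eq_of_mul_eq_mul_left hGpos h1
    refine one_class_absurd k f₁ b₁ hk hf₁ hb5₁ ?_ h2
    intro hb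
    have := hgcd b₁ (by rw [hb]) ⟨_, by rw [hb₁]; ring⟩
    omega
  obtain ⟨y₂, hy₂, hy₂n⟩ := hex₂
  have hS₂ := yCls_subset_ySet m hm hK y₂ hy₂
  obtain ⟨b₂, f₂, hb₂, hf₂, hn₂, hb5₂, hrel₂, hbd₂⟩ := hdata y₂ hy₂
  have hdisj : Disjoint (yCls m y₁) (yCls m y₂) :=
    Set.disjoint_left.mpr (fun w hw₁ hw₂ => hy₂n (mem_yCls_of_inter m hm hK y₁ y₂ w hy₁ hy₂ hw₁ hw₂))
  -- three classes are too many
  have hall₂ : ∀ y ∈ ySet K m, y ∈ yCls m y₁ ∨ y ∈ yCls m y₂ := by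
    by_contra hall
    push Not at hall
    obtain ⟨y₃, hy₃, hy₃n₁, hy₃n₂⟩ := hall
    have hS₃ := yCls_subset_ySet m hm hK y₃ hy₃
    obtain ⟨b₃, f₃, hb₃, hf₃, hn₃, hb5₃, hrel₃, hbd₃⟩ := hdata y₃ hy₃
    have hdisj₁ : Disjoint (yCls m y₁) (yCls m y₃) :=
      Set.disjoint_left.mpr (fun w hw₁ hw₂ => hy₃n₁ (mem_yCls_of_inter m hm hK y₁ y₃ w hy₁ hy₃ hw₁ hw₂))
    have hdisj₂ : Disjoint (yCls m y₂) (yCls m y₃) :=
      Set.disjoint_left.mpr (fun w hw₁ hw₂ => hy₃n₂ (mem_yCls_of_inter m hm hK y₂ y₃ w hy₂ hy₃ hw₁ hw₂))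
    have hdisj₃ : Disjoint (yCls m y₁ ∪ yCls m y₂) (yCls m y₃) :=
      Set.disjoint_union_left.mpr ⟨hdisj₁, hdisj₂⟩
    have hsub : (yCls m y₁ ∪ yCls m y₂) ∪ yCls m y₃ ⊆ ySet K m :=
      Set.union_subset (Set.union_subset hS₁ hS₂) hS₃
    have hle := Set.ncard_le_ncard hsub (Set.toFinite _)
    rw [Set.ncard_union_eq hdisj₃ (Set.toFinite _) (Set.toFinite _),
      Set.ncard_union_eq hdisj (Set.toFinite _) (Set.toFinite _)] at hle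
    simp only [← Nat.card_coe_set_eq] at hle
    omega
  -- two classes
  have hEq : yCls m y₁ ∪ yCls m y₂ = ySet K m :=
    Set.Subset.antisymm (Set.union_subset hS₁ hS₂) (fun y hy => hall₂ y hy)
  have hcard : Nat.card ↥(yCls m y₁) + Nat.card ↥(yCls m y₂) = Nat.card ↥(ySet K m) := by
    rw [← hEq]
    simp only [Nat.card_coe_set_eq]
    exact (Set.ncard_union_eq hdisj (Set.toFinite _) (Set.toFinite _)).symm
  have h1 : Nat.card ↥(tG2 K (3 ^ m)) * (f₁ * (k ^ 2 + 5 * k + 7 - b₁) + f₂ * (k ^ 2 + 5 * k + 7 - b₂)) =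
      Nat.card ↥(tG2 K (3 ^ m)) * (2 * (k ^ 2 + 4 * k + 3)) := by
    calc Nat.card ↥(tG2 K (3 ^ m)) * (f₁ * (k ^ 2 + 5 * k + 7 - b₁) + f₂ * (k ^ 2 + 5 * k + 7 - b₂))
        = f₁ * Nat.card ↥(tG2 K (3 ^ m)) * (k ^ 2 + 5 * k + 7 - b₁) +
          f₂ * Nat.card ↥(tG2 K (3 ^ m)) * (k ^ 2 + 5 * k + 7 - b₂) := by ring
      _ = 6 * Nat.card ↥(yCls m y₁) * (k ^ 2 + 5 * k + 7) +
          6 * Nat.card ↥(yCls m y₂) * (k ^ 2 + 5 * k + 7) := by rw [hrel₁, hrel₂]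
      _ = 2 * (3 * (k ^ 2 + 5 * k + 7) * (Nat.card ↥(yCls m y₁) + Nat.card ↥(yCls m y₂))) := by ring
      _ = Nat.card ↥(tG2 K (3 ^ m)) * (2 * (k ^ 2 + 4 * k + 3)) := by rw [hcard, hrel]; ring
  have h2 := Nat.eq_of_mul_eq_mul_left hGpos h1
  obtain ⟨e₁, e₂, e₃⟩ := two_class_arith k f₁ f₂ b₁ b₂ hf₁ hf₂ hb5₁ hb5₂ h2
  rw [e₁, one_mul] at hn₁
  rw [e₂, one_mul] at hn₂
  refine ⟨y₁, y₂, hy₁, hy₂, hy₂n, hall₂, hn₁, hn₂, b₁, b₂, hb₁, hb₂, ?_⟩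
  rw [e₃]

end

end Cfsg.Agent.Lib.Helper3.Ree
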