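import Mathlib
import Cfsg.Agent.Lib.Helper3.Ree83
set_option autoImplicit false
set_option linter.unusedSectionVars false
set_option linter.style.haveILetI false
set_option linter.unusedSimpArgs false
open Cfsg Cfsg.Lie

/-!
The orders of the centralizers of the two classes of elements of the twisted group of type `G₂`
whose order divides `q² - q + 1` are coprime with product `q² - q + 1`.
-/

namespace Cfsg.Agent.Lib.Helper3.Ree

open Cfsg.Agent.Lib.Helper3.ChevM Cfsg.Agent.Lib.Helper3.SL2P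
open Matrix

section
variable {K : Type*} [Field K] [Fintype K] [CharP K 3]

/-- two elements of the same prime order dividing `q² - q + 1`: one is conjugate to a power of
the other -/
theorem conj_mem_zpowers_of_prime (m : ℕ) (hm : 1 ≤ m) (hK : Fintype.card K = 3 ^ (2 * m + 1))
    (p : ℕ) [hp : Fact p.Prime] (hp3 : 3 < p) (x₁ x₂ : ↥(tG2 K (3 ^ m)))
    (hx₁ : orderOf x₁ = p) (hx₂ : orderOf x₂ = p) :
    ∃ g : ↥(tG2 K (3 ^ m)), g * x₁ * g⁻¹ ∈ Subgroup.zpowers x₂ := by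
  obtain ⟨P, hP⟩ := IsPGroup.exists_le_sylow
    (isPGroup_zpowers_of_orderOf p x₂ 1 (by rw [hx₂, pow_one]))
  obtain ⟨g, hg⟩ := exists_conj_mem_of_not_dvd_index p (P : Subgroup ↥(tG2 K (3 ^ m))) P.not_dvd_index x₁
    (isPGroup_zpowers_of_orderOf p x₁ 1 (by rw [hx₁, pow_one]))
  haveI : IsCyclic ↥(P : Subgroup ↥(tG2 K (3 ^ m))) := ree_sylow_cyclic m hm hK p hp3 P
  refine ⟨g, mem_of_pow_card_eq_one_of_cyclic (P : Subgroup ↥(tG2 K (3 ^ m))) (Subgroup.zpowers x₂) hP _ hg ?_⟩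
  rw [Nat.card_zpowers, hx₂, conj_pow, ← hx₁, pow_orderOf_eq_one]
  group

/-- the orders of the centralizers of elements of distinct classes are coprime -/
theorem coprime_card_centralizer (m : ℕ) (hm : 1 ≤ m) (hK : Fintype.card K = 3 ^ (2 * m + 1))
    (y₁ y₂ : ↥(tG2 K (3 ^ m))) (hy₁ : y₁ ∈ ySet K m) (hy₂ : y₂ ∈ ySet K m) (hn : y₂ ∉ yCls m y₁) :
    Nat.Coprime (Nat.card ↥(Subgroup.centralizer {y₁})) (Nat.card ↥(Subgroup.centralizer {y₂})) := by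
  by_contra hnc
  obtain ⟨p, hp, hp₁, hp₂⟩ := Nat.Prime.not_coprime_iff_dvd.mp hnc
  haveI : Fact p.Prime := ⟨hp⟩
  have hpN := dvd_trans hp₁ (card_centralizer_dvd_of_ySet m hm hK y₁ hy₁)
  have hp3 : 3 < p := prime_gt_three_of_dvd_quad m p hp hpN
  obtain ⟨x₁, hx₁⟩ := exists_prime_orderOf_dvd_card' (G := ↥(Subgroup.centralizer {y₁})) p hp₁
  obtain ⟨x₂, hx₂⟩ := exists_prime_orderOf_dvd_card' (G := ↥(Subgroup.centralizer {y₂})) p hp₂
  rw [← Subgroup.orderOf_coe] at hx₁ hx₂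
  obtain ⟨g, hg⟩ := conj_mem_zpowers_of_prime m hm hK p hp3 (x₁ : ↥(tG2 K (3 ^ m))) x₂ hx₁ hx₂
  have hx₁1 : (x₁ : ↥(tG2 K (3 ^ m))) ≠ 1 := ne_one_of_orderOf_prime _ p hp hx₁
  have hgC : g * x₁ * g⁻¹ ∈ Subgroup.centralizer {y₂} := by
    have hle : Subgroup.zpowers (x₂ : ↥(tG2 K (3 ^ m))) ≤ Subgroup.centralizer {y₂} := by
      rw [Subgroup.zpowers_le]; exact x₂.2
    exact hle hg
  have h1 : (x₁ : ↥(tG2 K (3 ^ m))) ∈ yCls m y₁ := by
    rw [mem_yCls_iff]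
    refine ⟨1, ?_, ?_⟩
    · have := Subgroup.mem_centralizer_singleton_iff.mp x₁.2
      simpa using this
    · simpa using hx₁1
  have h2 : (x₁ : ↥(tG2 K (3 ^ m))) ∈ yCls m y₂ := by
    rw [mem_yCls_iff]
    refine ⟨g⁻¹, ?_, ?_⟩
    · rw [inv_inv]
      exact Subgroup.mem_centralizer_singleton_iff.mp hgC
    · rw [inv_inv]
      exact conj_ne_one g _ hx₁1
  exact hn (mem_yCls_of_inter m hm hK y₁ y₂ _ hy₁ hy₂ h1 h2)

/-- a generator of a Sylow subgroup for a prime dividing `q² - q + 1` -/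
theorem exists_sylow_generator (m : ℕ) (hm : 1 ≤ m) (hK : Fintype.card K = 3 ^ (2 * m + 1))
    (p j : ℕ) (hp : p.Prime) (hj : 1 ≤ j)
    (hpj : p ^ j ∣ (3 ^ (2 * m + 1)) ^ 2 - 3 ^ (2 * m + 1) + 1) :
    ∃ u : ↥(tG2 K (3 ^ m)), u ∈ ySet K m ∧ p ^ j ∣ orderOf u := by
  haveI : Fact p.Prime := ⟨hp⟩
  have hpN : p ∣ (3 ^ (2 * m + 1)) ^ 2 - 3 ^ (2 * m + 1) + 1 :=
    dvd_trans (dvd_pow_self p (by omega)) hpj
  have hp3 : 3 < p := prime_gt_three_of_dvd_quad m p hp hpN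
  have hNG : (3 ^ (2 * m + 1)) ^ 2 - 3 ^ (2 * m + 1) + 1 ∣ Nat.card ↥(tG2 K (3 ^ m)) := by
    rw [card_tG2_factor m hK]
    exact Dvd.dvd.mul_left (Dvd.dvd.mul_left (Dvd.dvd.mul_left dvd_rfl _) _) _
  obtain P : Sylow p ↥(tG2 K (3 ^ m)) := default
  haveI : IsCyclic ↥(P : Subgroup ↥(tG2 K (3 ^ m))) := ree_sylow_cyclic m hm hK p hp3 P
  have hPj : p ^ j ∣ Nat.card ↥(P : Subgroup ↥(tG2 K (3 ^ m))) :=
    P.pow_dvd_card_of_pow_dvd_card (dvd_trans hpj hNG)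
  have hPp : p ∣ Nat.card ↥(P : Subgroup ↥(tG2 K (3 ^ m))) :=
    dvd_trans (dvd_pow_self p (by omega)) hPj
  obtain ⟨u, hu⟩ := IsCyclic.exists_generator (α := ↥(P : Subgroup ↥(tG2 K (3 ^ m))))
  have huo : orderOf u = Nat.card ↥(P : Subgroup ↥(tG2 K (3 ^ m))) := orderOf_eq_card_of_forall_mem_zpowers hu
  obtain ⟨x, hx⟩ := exists_prime_orderOf_dvd_card' (G := ↥(P : Subgroup ↥(tG2 K (3 ^ m)))) p hPp
  rw [← Subgroup.orderOf_coe] at hx huo
  have hx1 : (x : ↥(tG2 K (3 ^ m))) ≠ 1 := ne_one_of_orderOf_prime _ p hp hx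
  have hxY : (x : ↥(tG2 K (3 ^ m))) ∈ ySet K m := ⟨hx1, by rw [hx]; exact hpN⟩
  have hu1 : (u : ↥(tG2 K (3 ^ m))) ≠ 1 := by
    intro h
    rw [h, orderOf_one] at huo
    rw [← huo] at hPp
    exact hp.one_lt.ne' (Nat.dvd_one.mp hPp)
  have hcomm : (u : ↥(tG2 K (3 ^ m))) * x = x * u := by
    have h1 : u * x = x * u := by
      obtain ⟨a, ha⟩ := hu x
      rw [← ha]
      exact (Commute.zpow_right (Commute.refl u) a).eq
    exact_mod_cast congrArg Subtype.val h1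
  refine ⟨u, mem_ySet_of_comm m hm hK x u hxY hu1 hcomm, ?_⟩
  rw [huo]; exact hPj

/-- every prime power dividing `q² - q + 1` divides the order of the centralizer of an element
whose order divides `q² - q + 1` -/
theorem quad_dvd_mul_of_classes (m : ℕ) (hm : 1 ≤ m) (hK : Fintype.card K = 3 ^ (2 * m + 1))
    (y₁ y₂ : ↥(tG2 K (3 ^ m))) (hy₁ : y₁ ∈ ySet K m) (hy₂ : y₂ ∈ ySet K m)
    (hall : ∀ y ∈ ySet K m, y ∈ yCls m y₁ ∨ y ∈ yCls m y₂) :
    (3 ^ (2 * m + 1)) ^ 2 - 3 ^ (2 * m + 1) + 1 ∣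
      Nat.card ↥(Subgroup.centralizer {y₁}) * Nat.card ↥(Subgroup.centralizer {y₂}) := by
  rw [Nat.dvd_iff_prime_pow_dvd_dvd]
  intro p j hp hpj
  rcases Nat.eq_zero_or_pos j with rfl | hj
  · simp
  obtain ⟨u, huY, hu⟩ := exists_sylow_generator m hm hK p j hp hj hpj
  have h1 : orderOf u ∣ Nat.card ↥(Subgroup.centralizer {u}) :=
    orderOf_dvd_card_centralizer u u rfl
  rcases hall u huY with h | h
  · rw [card_centralizer_of_mem_yCls m hm hK y₁ u hy₁ h] at h1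
    exact Dvd.dvd.mul_right (dvd_trans hu h1) _
  · rw [card_centralizer_of_mem_yCls m hm hK y₂ u hy₂ h] at h1
    exact Dvd.dvd.mul_left (dvd_trans hu h1) _

end

end Cfsg.Agent.Lib.Helper3.Ree
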