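import Mathlib
import Cfsg.Agent.Lib.Helper3.Ree84
set_option autoImplicit false
set_option linter.unusedSectionVars false
set_option linter.style.haveILetI false
set_option linter.unusedSimpArgs false
open Cfsg Cfsg.Lie

/-!
The two classes of cyclic Hall subgroups of orders `q - r + 1` and `q + r + 1` of the twisted
group of type `G₂`, where `r² = 3 q`.
-/

namespace Cfsg.Agent.Lib.Helper3.Ree

open Cfsg.Agent.Lib.Helper3.ChevM Cfsg.Agent.Lib.Helper3.SL2P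
open Matrix

section arith

theorem tori_arith (a₁ a₂ q r : ℕ) (h1 : a₁ + a₂ = 2 * (q + 1)) (h2 : a₁ * a₂ = q ^ 2 - q + 1)
    (hq : 1 ≤ q) (hr : r ^ 2 = 3 * q) (hle : a₁ ≤ a₂) : a₁ = q - r + 1 ∧ a₂ = q + r + 1 := by
  obtain ⟨t, rfl⟩ : ∃ t, a₂ = a₁ + t := ⟨a₂ - a₁, by omega⟩
  have hq2 : q ≤ q ^ 2 := by nlinarith
  have h3 : a₁ * (a₁ + t) + q = q ^ 2 + 1 := by omega
  have h4 : t ^ 2 = (2 * r) ^ 2 := by
    zify at h1 h3 hr ⊢
    linear_combination (2 * (a₁ : ℤ) + t + 2 * (q + 1)) * h1 - 4 * h3 - 4 * hr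
  have h5 : t = 2 * r := Nat.pow_left_injective (n := 2) (by norm_num) h4
  subst h5
  have h6 : a₁ + r = q + 1 := by omega
  have h7 : 1 ≤ a₁ := by
    by_contra h
    have : a₁ = 0 := by omega
    rw [this, zero_mul] at h2
    omega
  omega

theorem r_sq (m : ℕ) : (3 ^ (m + 1)) ^ 2 = 3 * 3 ^ (2 * m + 1) := by
  rw [← pow_mul, ← pow_succ']
  congr 1
  ring

end arith

section
variable {K : Type*} [Field K] [Fintype K] [CharP K 3]

/-- the two classes of elements whose order divides `q² - q + 1`, with the orders of the centralizers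
and of their normalizers -/
theorem ward_tori (m : ℕ) (hm : 1 ≤ m) (hK : Fintype.card K = 3 ^ (2 * m + 1)) :
    ∃ y₁ y₂ : ↥(tG2 K (3 ^ m)), y₁ ∈ ySet K m ∧ y₂ ∈ ySet K m ∧
      Disjoint (yCls m y₁) (yCls m y₂) ∧
      (∀ y ∈ ySet K m, y ∈ yCls m y₁ ∨ y ∈ yCls m y₂) ∧
      Nat.card ↥(Subgroup.centralizer {y₁}) = 3 ^ (2 * m + 1) - 3 ^ (m + 1) + 1 ∧
      Nat.card ↥(Subgroup.centralizer {y₂}) = 3 ^ (2 * m + 1) + 3 ^ (m + 1) + 1 ∧
      Nat.card ↥(Subgroup.normalizer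
        ((Subgroup.centralizer {y₁} : Subgroup ↥(tG2 K (3 ^ m))) : Set ↥(tG2 K (3 ^ m)))) =
        6 * (3 ^ (2 * m + 1) - 3 ^ (m + 1) + 1) ∧
      Nat.card ↥(Subgroup.normalizer
        ((Subgroup.centralizer {y₂} : Subgroup ↥(tG2 K (3 ^ m))) : Set ↥(tG2 K (3 ^ m)))) =
        6 * (3 ^ (2 * m + 1) + 3 ^ (m + 1) + 1) := by
  obtain ⟨y₁, y₂, hy₁, hy₂, hn, hall, hn₁, hn₂, b₁, b₂, hb₁, hb₂, hb⟩ := exists_two_classes m hm hK
  have hcop := coprime_card_centralizer m hm hK y₁ y₂ hy₁ hy₂ hn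
  have hd₁ := card_centralizer_dvd_of_ySet m hm hK y₁ hy₁
  have hd₂ := card_centralizer_dvd_of_ySet m hm hK y₂ hy₂
  have hmul : Nat.card ↥(Subgroup.centralizer {y₁}) * Nat.card ↥(Subgroup.centralizer {y₂}) =
      (3 ^ (2 * m + 1)) ^ 2 - 3 ^ (2 * m + 1) + 1 :=
    Nat.dvd_antisymm (Nat.Coprime.mul_dvd_of_dvd_of_dvd hcop hd₁ hd₂)
      (quad_dvd_mul_of_classes m hm hK y₁ y₂ hy₁ hy₂ hall)
  have ha₁ : 0 < Nat.card ↥(Subgroup.centralizer {y₁}) := Nat.card_pos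
  have ha₂ : 0 < Nat.card ↥(Subgroup.centralizer {y₂}) := Nat.card_pos
  have e₁ : b₁ = Nat.card ↥(Subgroup.centralizer {y₂}) := by
    rw [← hmul] at hb₁
    exact (Nat.eq_of_mul_eq_mul_left ha₁ hb₁).symm
  have e₂ : b₂ = Nat.card ↥(Subgroup.centralizer {y₁}) := by
    rw [← hmul, mul_comm] at hb₂
    exact (Nat.eq_of_mul_eq_mul_left ha₂ hb₂).symm
  rw [e₁, e₂] at hb
  have hdisj : Disjoint (yCls m y₁) (yCls m y₂) :=
    Set.disjoint_left.mpr (fun w hw₁ hw₂ => hn (mem_yCls_of_inter m hm hK y₁ y₂ w hy₁ hy₂ hw₁ hw₂))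
  have hq := q_ge m
  rcases le_total (Nat.card ↥(Subgroup.centralizer {y₁})) (Nat.card ↥(Subgroup.centralizer {y₂})) with hle | hle
  · obtain ⟨h1, h2⟩ := tori_arith _ _ (3 ^ (2 * m + 1)) (3 ^ (m + 1)) (by rw [← hb, add_comm]) hmul
      (by omega) (r_sq m) hle
    refine ⟨y₁, y₂, hy₁, hy₂, hdisj, hall, h1, h2, ?_, ?_⟩
    · rw [hn₁, h1]
    · rw [hn₂, h2]
  · obtain ⟨h1, h2⟩ := tori_arith _ _ (3 ^ (2 * m + 1)) (3 ^ (m + 1)) (by rw [← hb]) (by rw [mul_comm]; exact hmul)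
      (by omega) (r_sq m) hle
    refine ⟨y₂, y₁, hy₂, hy₁, hdisj.symm, fun y hy => (hall y hy).symm, h1, h2, ?_, ?_⟩
    · rw [hn₂, h1]
    · rw [hn₁, h2]

end

end Cfsg.Agent.Lib.Helper3.Ree
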