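import Mathlib
import Cfsg.Agent.Lib.Helper3.Ree85
set_option autoImplicit false
set_option linter.unusedSectionVars false
set_option linter.style.haveILetI false
set_option linter.unusedSimpArgs false
open Cfsg Cfsg.Lie

/-!
The four classes of cyclic Hall subgroups of the twisted group of type `G₂` and their normalizers.
-/

namespace Cfsg.Agent.Lib.Helper3.Ree

open Cfsg.Agent.Lib.Helper3.ChevM Cfsg.Agent.Lib.Helper3.SL2P
open Matrix

section
variable {G : Type*} [Group G]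

/-- the normalizers of the nontrivial subgroups of a cyclic subgroup whose nontrivial elements are
conjugated into the subgroup only by the elements of the normalizer -/
theorem normalizer_sub_cyclic_of_ti (A : Subgroup G) [Finite ↥A] [IsCyclic ↥A]
    (hTI : ∀ a ∈ A, a ≠ 1 → ∀ g : G, g * a * g⁻¹ ∈ A → g ∈ Subgroup.normalizer (A : Set G))
    (A₀ : Subgroup G) (hA₀ : A₀ ≤ A) (hne : A₀ ≠ ⊥) :
    Subgroup.normalizer (A₀ : Set G) = Subgroup.normalizer (A : Set G) := by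
  haveI : Finite ↥A₀ := Finite.of_injective (Subgroup.inclusion hA₀) (Subgroup.inclusion_injective hA₀)
  apply le_antisymm
  · intro g hg
    obtain ⟨a, ha1⟩ := (Subgroup.ne_bot_iff_exists_ne_one (H := A₀)).mp hne
    exact hTI a (hA₀ a.2) (fun h1 => ha1 (Subtype.ext h1)) g
      (hA₀ ((Subgroup.mem_normalizer_iff.mp hg a).mp a.2))
  · intro g hg
    apply mem_normalizer_of_conj_mem
    intro x hx
    have h1 : g * x * g⁻¹ ∈ A := (Subgroup.mem_normalizer_iff.mp hg x).mp (hA₀ hx)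
    apply mem_of_pow_card_eq_one_of_cyclic A A₀ hA₀ _ h1
    rw [conj_pow]
    have : x ^ Nat.card ↥A₀ = 1 := by
      have h2 := pow_card_eq_one' (G := ↥A₀) (x := ⟨x, hx⟩)
      have h3 := congrArg Subtype.val h2
      rw [Subgroup.coe_pow] at h3
      exact h3
    rw [this]; group

end

section
variable {K : Type*} [Field K] [Fintype K] [CharP K 3]

/-- the subgroup of index two of the split torus -/
theorem exists_half_torus (m : ℕ) (hm : 1 ≤ m) (hK : Fintype.card K = 3 ^ (2 * m + 1)) :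
    ∃ A : Subgroup ↥(tG2 K (3 ^ m)), IsCyclic ↥A ∧ A ≤ torusSplit (K := K) m ∧
      Nat.card ↥A = (3 ^ (2 * m + 1) - 1) / 2 := by
  haveI := torusSplit_cyclic (K := K) m hK
  obtain ⟨t, ht⟩ := IsCyclic.exists_generator (α := ↥(torusSplit (K := K) m))
  have hto : orderOf t = 3 ^ (2 * m + 1) - 1 := by
    rw [orderOf_eq_card_of_forall_mem_zpowers ht, card_torusSplit m hK]
  rw [← Subgroup.orderOf_coe] at hto
  obtain ⟨hodd, h2⟩ := half_odd m
  refine ⟨Subgroup.zpowers ((t : ↥(tG2 K (3 ^ m))) ^ 2), inferInstance, ?_, ?_⟩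
  · rw [Subgroup.zpowers_le]
    exact Subgroup.pow_mem _ t.2 2
  · rw [Nat.card_zpowers, orderOf_pow_of_dvd (by norm_num) (by rw [hto, h2]; exact dvd_mul_right 2 _), hto]

/-- the four classes of cyclic Hall subgroups with the orders of their normalizers -/
theorem ward_four_tori (m : ℕ) (hm : 1 ≤ m) (hK : Fintype.card K = 3 ^ (2 * m + 1))
    (kn : ℕ × ℕ)
    (hkn : kn ∈ ({((3 ^ (2 * m + 1) - 1) / 2, 2 * (3 ^ (2 * m + 1) - 1)),
        ((3 ^ (2 * m + 1) + 1) / 4, 6 * (3 ^ (2 * m + 1) + 1)),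
        (3 ^ (2 * m + 1) - 3 ^ (m + 1) + 1, 6 * (3 ^ (2 * m + 1) - 3 ^ (m + 1) + 1)),
        (3 ^ (2 * m + 1) + 3 ^ (m + 1) + 1, 6 * (3 ^ (2 * m + 1) + 3 ^ (m + 1) + 1))} : Set (ℕ × ℕ))) :
    ∃ A : Subgroup ↥(tG2 K (3 ^ m)), IsCyclic A ∧ Nat.card A = kn.1 ∧
      Nat.card (Subgroup.normalizer (A : Set ↥(tG2 K (3 ^ m)))) = kn.2 ∧
      ∀ A₀ : Subgroup ↥(tG2 K (3 ^ m)), A₀ ≤ A → A₀ ≠ ⊥ →
        Subgroup.normalizer (A₀ : Set ↥(tG2 K (3 ^ m))) = Subgroup.normalizer (A : Set ↥(tG2 K (3 ^ m))) := by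
  haveI : Fact (Nat.Prime 3) := ⟨by norm_num⟩
  have hq27 := q_ge_27 m hm
  obtain ⟨y₁, y₂, hy₁, hy₂, -, -, ha₁, ha₂, hn₁, hn₂⟩ := ward_tori m hm hK
  have hcyc : ∀ y ∈ ySet K m, ∀ A₀ : Subgroup ↥(tG2 K (3 ^ m)), A₀ ≤ Subgroup.centralizer {y} → A₀ ≠ ⊥ →
      Subgroup.normalizer (A₀ : Set ↥(tG2 K (3 ^ m))) =
        Subgroup.normalizer ((Subgroup.centralizer {y} : Subgroup ↥(tG2 K (3 ^ m))) : Set ↥(tG2 K (3 ^ m))) := by
    intro y hy A₀ hA₀ hne
    haveI := isCyclic_centralizer_of_ySet m hm hK y hy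
    apply normalizer_sub_cyclic_of_ti _ _ A₀ hA₀ hne
    intro a ha ha1 g hg
    rw [Subgroup.mem_centralizer_singleton_iff] at ha hg
    exact mem_normalizer_of_conj_mem_of_ySet m hm hK y a g hy ha ha1 hg
  simp only [Set.mem_insert_iff, Set.mem_singleton_iff] at hkn
  rcases hkn with rfl | rfl | rfl | rfl
  · -- the split torus
    obtain ⟨A, hAc, hAT, hAcard⟩ := exists_half_torus m hm hK
    obtain ⟨hodd, h2⟩ := half_odd m
    have hel : ∀ A₀ : Subgroup ↥(tG2 K (3 ^ m)), A₀ ≤ A → A₀ ≠ ⊥ → ∃ a ∈ A₀, a * a ≠ 1 := by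
      intro A₀ hA₀ hne
      obtain ⟨a, ha1⟩ := (Subgroup.ne_bot_iff_exists_ne_one (H := A₀)).mp hne
      refine ⟨a, a.2, sq_ne_one_of_odd _ ?_ (fun h => ha1 (Subtype.ext h))⟩
      have h1 := orderOf_dvd_card_of_mem A _ (hA₀ a.2)
      rw [hAcard] at h1
      exact Odd.of_dvd_nat hodd h1
    have hAne : A ≠ ⊥ := by
      intro h
      rw [h, Subgroup.card_bot] at hAcard
      omega
    obtain ⟨a, ha, ha2⟩ := hel A le_rfl hAne
    refine ⟨A, hAc, hAcard, card_normalizer_sub_torus m hK A hAT a ha ha2, ?_⟩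
    intro A₀ hA₀ hne
    obtain ⟨a', ha', ha2'⟩ := hel A₀ hA₀ hne
    exact normalizer_sub_torus_eq m hK A₀ (le_trans hA₀ hAT) a' ha' ha2' A hAT a ha ha2
  · -- the nonsplit torus
    obtain ⟨g₀, hg₀⟩ := Cfsg.Agent.Lib.Helper5.exists_orderOf_eq_card_add_one (F := K) 3
    rw [hK] at hg₀
    have hAne : torusA m g₀ ≠ ⊥ := by
      intro h
      have hc := card_torusA m hm g₀ hg₀
      rw [h, Subgroup.card_bot] at hc
      omega
    have hN := normalizer_sub_torusA m hm hK g₀ hg₀ (torusA m g₀) le_rfl hAne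
    refine ⟨torusA m g₀, ?_, card_torusA m hm g₀ hg₀, ?_, ?_⟩
    · unfold torusA; infer_instance
    · rw [hN]; exact card_nD m hm hK g₀ hg₀
    · intro A₀ hA₀ hne
      rw [hN]
      exact normalizer_sub_torusA m hm hK g₀ hg₀ A₀ hA₀ hne
  · exact ⟨Subgroup.centralizer {y₁}, isCyclic_centralizer_of_ySet m hm hK y₁ hy₁, ha₁, hn₁, hcyc y₁ hy₁⟩
  · exact ⟨Subgroup.centralizer {y₂}, isCyclic_centralizer_of_ySet m hm hK y₂ hy₂, ha₂, hn₂, hcyc y₂ hy₂⟩

end

end Cfsg.Agent.Lib.Helper3.Ree
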