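import Mathlib
import Cfsg.Agent.Lib.Helper3.Ree86
set_option autoImplicit false
set_option linter.unusedSectionVars false
set_option linter.style.haveILetI false
set_option linter.unusedSimpArgs false
open Cfsg Cfsg.Lie

/-!
The orders of the elements of the twisted group of type `G₂`.
-/

namespace Cfsg.Agent.Lib.Helper3.Ree

open Cfsg.Agent.Lib.Helper3.ChevM Cfsg.Agent.Lib.Helper3.SL2P
open Matrix

section
variable {G : Type*} [Group G]

theorem exists_orderOf_of_dvd (g : G) (d : ℕ) (hd : d ∣ orderOf g) (h0 : orderOf g ≠ 0) :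
    ∃ g' : G, orderOf g' = d := by
  obtain ⟨e, he⟩ := hd
  have hd0 : d ≠ 0 := by
    rintro rfl
    rw [zero_mul] at he
    exact h0 he
  have he0 : e ≠ 0 := by
    rintro rfl
    rw [mul_zero] at he
    exact h0 he
  refine ⟨g ^ e, ?_⟩
  rw [orderOf_pow_of_dvd he0 ⟨d, by rw [he, mul_comm]⟩, he]
  exact Nat.mul_div_cancel _ (Nat.pos_of_ne_zero he0)

theorem exists_orderOf_eq_card_of_cyclic (A : Subgroup G) [IsCyclic ↥A] :
    ∃ g : G, g ∈ A ∧ orderOf g = Nat.card ↥A := by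
  obtain ⟨t, ht⟩ := IsCyclic.exists_generator (α := ↥A)
  refine ⟨t, t.2, ?_⟩
  rw [Subgroup.orderOf_coe]
  exact orderOf_eq_card_of_forall_mem_zpowers ht

end

section
variable {K : Type*} [Field K] [Fintype K] [CharP K 3]

/-- the orders of the elements: existence -/
theorem exists_orderOf_ree (m : ℕ) (hm : 1 ≤ m) (hK : Fintype.card K = 3 ^ (2 * m + 1)) (n : ℕ)
    (hn : n = 6 ∨ n = 9 ∨ n = 3 ^ (2 * m + 1) - 1 ∨ n = (3 ^ (2 * m + 1) + 1) / 2 ∨
      n = 3 ^ (2 * m + 1) - 3 ^ (m + 1) + 1 ∨ n = 3 ^ (2 * m + 1) + 3 ^ (m + 1) + 1) :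
    ∃ g : ↥(tG2 K (3 ^ m)), orderOf g = n := by
  haveI : Fact (Nat.Prime 3) := ⟨by norm_num⟩
  have hq27 := q_ge_27 m hm
  rcases hn with rfl | rfl | rfl | rfl | rfl | rfl
  · have h := card_order_six_ree (K := K) m hK
    have hpos : 0 < Nat.card {g : ↥(tG2 K (3 ^ m)) // orderOf g = 6} := by
      rw [h]
      have : 0 < 3 ^ (2 * m + 1) - 1 := by omega
      positivity
    obtain ⟨⟨g, hg⟩⟩ := (Nat.card_pos_iff.mp hpos).1
    exact ⟨g, hg⟩
  · have h := card_order_nine_ree (K := K) m hK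
    have hpos : 0 < Nat.card {g : ↥(tG2 K (3 ^ m)) // orderOf g = 9} := by
      rw [h]
      have : 0 < 3 ^ (2 * m + 1) - 1 := by omega
      positivity
    obtain ⟨⟨g, hg⟩⟩ := (Nat.card_pos_iff.mp hpos).1
    exact ⟨g, hg⟩
  · haveI := torusSplit_cyclic (K := K) m hK
    obtain ⟨g, -, hg⟩ := exists_orderOf_eq_card_of_cyclic (torusSplit (K := K) m)
    exact ⟨g, by rw [hg, card_torusSplit m hK]⟩
  · obtain ⟨g₀, hg₀⟩ := Cfsg.Agent.Lib.Helper5.exists_orderOf_eq_card_add_one (F := K) 3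
    rw [hK] at hg₀
    obtain ⟨k₀, hk₀, hk1, hq⟩ := quarter_odd m hm
    have hcard := card_torusA m hm g₀ hg₀
    unfold torusA at hcard
    rw [Nat.card_zpowers] at hcard
    have hz : orderOf (zG (K := K) m hK) = 2 := by
      apply orderOf_eq_prime
      · rw [pow_two]; exact zG_sq m hK
      · exact zG_ne_one m hK
    refine ⟨zG m hK * psiR m (g₀ ^ 4), ?_⟩
    rw [Commute.orderOf_mul_eq_mul_orderOf_of_coprime (zG_comm_psiR m hK _), hz, hcard]
    · omega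
    · rw [hz, hcard, Nat.coprime_two_left]
      have : (3 ^ (2 * m + 1) + 1) / 4 = k₀ := by omega
      rw [this]; exact hk₀
  · obtain ⟨y₁, y₂, hy₁, hy₂, -, -, ha₁, ha₂, -, -⟩ := ward_tori m hm hK
    haveI := isCyclic_centralizer_of_ySet m hm hK y₁ hy₁
    obtain ⟨g, -, hg⟩ := exists_orderOf_eq_card_of_cyclic (Subgroup.centralizer {y₁})
    exact ⟨g, by rw [hg, ha₁]⟩
  · obtain ⟨y₁, y₂, hy₁, hy₂, -, -, ha₁, ha₂, -, -⟩ := ward_tori m hm hK
    haveI := isCyclic_centralizer_of_ySet m hm hK y₂ hy₂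
    obtain ⟨g, -, hg⟩ := exists_orderOf_eq_card_of_cyclic (Subgroup.centralizer {y₂})
    exact ⟨g, by rw [hg, ha₂]⟩

/-- an element whose order divides `q² - q + 1` is conjugate into one of the two cyclic Hall
subgroups -/
theorem orderOf_dvd_of_ySet (m : ℕ) (hm : 1 ≤ m) (hK : Fintype.card K = 3 ^ (2 * m + 1))
    (g : ↥(tG2 K (3 ^ m))) (hg : orderOf g ∣ (3 ^ (2 * m + 1)) ^ 2 - 3 ^ (2 * m + 1) + 1) :
    orderOf g ∣ 3 ^ (2 * m + 1) - 3 ^ (m + 1) + 1 ∨ orderOf g ∣ 3 ^ (2 * m + 1) + 3 ^ (m + 1) + 1 := by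
  by_cases hg1 : g = 1
  · left; rw [hg1, orderOf_one]; exact one_dvd _
  obtain ⟨y₁, y₂, hy₁, hy₂, -, hall, ha₁, ha₂, -, -⟩ := ward_tori m hm hK
  have key : ∀ y : ↥(tG2 K (3 ^ m)), g ∈ yCls m y → orderOf g ∣ Nat.card ↥(Subgroup.centralizer {y}) := by
    intro y hy
    rw [mem_yCls_iff] at hy
    obtain ⟨h, hh, -⟩ := hy
    have := orderOf_dvd_card_centralizer y _ hh
    rwa [orderOf_conj''] at this
  rcases hall g ⟨hg1, hg⟩ with h | h
  · left; rw [← ha₁]; exact key y₁ h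
  · right; rw [← ha₂]; exact key y₂ h

/-- the orders of the elements -/
theorem orderOf_cases_ree (m : ℕ) (hm : 1 ≤ m) (hK : Fintype.card K = 3 ^ (2 * m + 1))
    (g : ↥(tG2 K (3 ^ m))) :
    orderOf g ∣ 6 ∨ orderOf g ∣ 9 ∨ orderOf g ∣ 3 ^ (2 * m + 1) - 1 ∨ orderOf g ∣ (3 ^ (2 * m + 1) + 1) / 2 ∨
      orderOf g ∣ 3 ^ (2 * m + 1) - 3 ^ (m + 1) + 1 ∨ orderOf g ∣ 3 ^ (2 * m + 1) + 3 ^ (m + 1) + 1 := by
  haveI : Fact (Nat.Prime 3) := ⟨by norm_num⟩
  obtain ⟨g₀, hg₀⟩ := Cfsg.Agent.Lib.Helper5.exists_orderOf_eq_card_add_one (F := K) 3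
  rw [hK] at hg₀
  rcases element_cases m hm hK g₀ hg₀ g with h | h | h | h | h
  · left
    exact dvd_trans ((sq_eq_one_iff_orderOf g).mp h) (by norm_num)
  · rcases orderOf_of_three_dvd m hK g h with h | h | h
    · left; rw [h]; norm_num
    · right; left; rw [h]
    · left; rw [h]
  · right; right; left
    exact (orderOf_conjUnion_tSet m hK g h).1
  · right; right; right; left
    obtain ⟨x, hx, -⟩ := h
    have := orderOf_dvd_of_pow_eq_one (pow_half_torusD m hm hK g₀ hg₀ _ hx)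
    rwa [orderOf_conj''] at this
  · right; right; right; right
    exact orderOf_dvd_of_ySet m hm hK g h

/-- the set of the orders of the elements -/
theorem orderOf_iff_ree (m : ℕ) (hm : 1 ≤ m) (hK : Fintype.card K = 3 ^ (2 * m + 1)) (d : ℕ) :
    (∃ g : ↥(tG2 K (3 ^ m)), orderOf g = d) ↔
      (d ∣ 6 ∨ d ∣ 9 ∨ d ∣ 3 ^ (2 * m + 1) - 1 ∨ d ∣ (3 ^ (2 * m + 1) + 1) / 2 ∨
        d ∣ 3 ^ (2 * m + 1) - 3 ^ (m + 1) + 1 ∨ d ∣ 3 ^ (2 * m + 1) + 3 ^ (m + 1) + 1) := by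
  constructor
  · rintro ⟨g, rfl⟩
    exact orderOf_cases_ree m hm hK g
  · intro h
    have key : ∀ n : ℕ, n ≠ 0 → d ∣ n → (∃ g : ↥(tG2 K (3 ^ m)), orderOf g = n) →
        ∃ g : ↥(tG2 K (3 ^ m)), orderOf g = d := by
      rintro n hn hd ⟨g, rfl⟩
      exact exists_orderOf_of_dvd g d hd hn
    have hq27 := q_ge_27 m hm
    have hr : 3 ^ (m + 1) ≤ 3 ^ (2 * m + 1) := Nat.pow_le_pow_right (by norm_num) (by omega)
    rcases h with h | h | h | h | h | h
    · exact key 6 (by norm_num) h (exists_orderOf_ree m hm hK 6 (Or.inl rfl))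
    · exact key 9 (by norm_num) h (exists_orderOf_ree m hm hK 9 (Or.inr (Or.inl rfl)))
    · exact key _ (by omega) h (exists_orderOf_ree m hm hK _ (Or.inr (Or.inr (Or.inl rfl))))
    · exact key _ (by omega) h (exists_orderOf_ree m hm hK _ (Or.inr (Or.inr (Or.inr (Or.inl rfl)))))
    · exact key _ (by omega) h (exists_orderOf_ree m hm hK _ (Or.inr (Or.inr (Or.inr (Or.inr (Or.inl rfl))))))
    · exact key _ (by omega) h (exists_orderOf_ree m hm hK _ (Or.inr (Or.inr (Or.inr (Or.inr (Or.inr rfl))))))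

end

end Cfsg.Agent.Lib.Helper3.Ree
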