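import Mathlib
import Cfsg.Agent.Lib.Helper3.Ree87
set_option autoImplicit false
set_option linter.unusedSectionVars false
set_option linter.style.haveILetI false
set_option linter.unusedSimpArgs false
open Cfsg Cfsg.Lie

/-!
Conjugating the elements of the twisted group of type `G₂` into the four tori.
-/

namespace Cfsg.Agent.Lib.Helper3.Ree

open Cfsg.Agent.Lib.Helper3.ChevM Cfsg.Agent.Lib.Helper3.SL2P
open Matrix

section
variable {G : Type*} [Group G]

/-- two elements of the same order of a finite cyclic subgroup generate the same subgroup -/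
theorem zpowers_eq_of_cyclic (H : Subgroup G) [Finite ↥H] [IsCyclic ↥H] (a b : G) (ha : a ∈ H) (hb : b ∈ H)
    (hab : orderOf a = orderOf b) : Subgroup.zpowers a = Subgroup.zpowers b := by
  have key : ∀ a b : G, a ∈ H → b ∈ H → orderOf a = orderOf b → Subgroup.zpowers b ≤ Subgroup.zpowers a := by
    intro a b ha hb hab
    rw [Subgroup.zpowers_le]
    apply mem_of_pow_card_eq_one_of_cyclic H (Subgroup.zpowers a) (by rw [Subgroup.zpowers_le]; exact ha) b hb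
    rw [Nat.card_zpowers, hab, pow_orderOf_eq_one]
  exact le_antisymm (key b a hb ha hab.symm) (key a b ha hb hab)

/-- two elements of the same order which are conjugate into a finite cyclic subgroup generate
conjugate subgroups -/
theorem zpowers_conj_of_cyclic (H : Subgroup G) [Finite ↥H] [IsCyclic ↥H] (a b h h' : G)
    (ha : h * a * h⁻¹ ∈ H) (hb : h' * b * h'⁻¹ ∈ H) (hab : orderOf a = orderOf b) :
    Subgroup.zpowers b = (Subgroup.zpowers a).map (MulAut.conj (h'⁻¹ * h)).toMonoidHom := by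
  have h1 := zpowers_eq_of_cyclic H _ _ ha hb (by rw [orderOf_conj', orderOf_conj', hab])
  rw [MonoidHom.map_zpowers]
  have e1 : (MulAut.conj (h'⁻¹ * h)).toMonoidHom a = h'⁻¹ * (h * a * h⁻¹) * h' := by
    show (MulAut.conj (h'⁻¹ * h)) a = _
    rw [MulAut.conj_apply]; group
  have e2 : b = (MulAut.conj h'⁻¹).toMonoidHom (h' * b * h'⁻¹) := by
    show b = (MulAut.conj h'⁻¹) (h' * b * h'⁻¹)
    rw [MulAut.conj_apply]; group
  have e3 : h'⁻¹ * (h * a * h⁻¹) * h' = (MulAut.conj h'⁻¹).toMonoidHom (h * a * h⁻¹) := by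
    show _ = (MulAut.conj h'⁻¹) (h * a * h⁻¹)
    rw [MulAut.conj_apply, inv_inv]
  rw [e1, e3, ← MonoidHom.map_zpowers, h1, MonoidHom.map_zpowers, ← e2]

/-- a finite cyclic subgroup is generated by an element -/
theorem exists_zpowers_eq_of_cyclic (A : Subgroup G) [Finite ↥A] [IsCyclic ↥A] :
    ∃ a : G, A = Subgroup.zpowers a ∧ orderOf a = Nat.card ↥A := by
  obtain ⟨a, ha, hao⟩ := exists_orderOf_eq_card_of_cyclic A
  refine ⟨a, ?_, hao⟩
  symm
  apply Subgroup.eq_of_le_of_card_ge (by rw [Subgroup.zpowers_le]; exact ha)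
  rw [Nat.card_zpowers, hao]

/-- an element of odd order is a power of its fourth power -/
theorem eq_pow_four_pow_of_odd (a : G) (hodd : Odd (orderOf a)) :
    ∃ s : ℕ, a = (a ^ 4) ^ s := by
  obtain ⟨j, hj⟩ := hodd
  refine ⟨(j + 1) ^ 2, ?_⟩
  rw [← pow_mul]
  have e : 4 * (j + 1) ^ 2 = orderOf a * (orderOf a + 2) + 1 := by rw [hj]; ring
  rw [e, pow_succ, pow_mul, pow_orderOf_eq_one, one_pow, one_mul]

end

section
variable {K : Type*} [Field K] [Fintype K] [CharP K 3]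

/-- the elements whose order divides `q - 1` but not two are conjugate into the split torus -/
theorem conj_mem_torusSplit_of_orderOf (m : ℕ) (hm : 1 ≤ m) (hK : Fintype.card K = 3 ^ (2 * m + 1))
    (g : ↥(tG2 K (3 ^ m))) (hg : orderOf g ∣ 3 ^ (2 * m + 1) - 1) (hg2 : ¬ orderOf g ∣ 2) :
    ∃ h : ↥(tG2 K (3 ^ m)), h⁻¹ * g * h ∈ torusSplit (K := K) m := by
  haveI : Fact (Nat.Prime 3) := ⟨by norm_num⟩
  obtain ⟨g₀, hg₀⟩ := Cfsg.Agent.Lib.Helper5.exists_orderOf_eq_card_add_one (F := K) 3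
  rw [hK] at hg₀
  have hq := q_ge m
  rcases element_cases m hm hK g₀ hg₀ g with h | h | h | h | h
  · exact absurd ((sq_eq_one_iff_orderOf g).mp h) hg2
  · exact absurd (dvd_trans h hg) (not_three_dvd_sub_one m)
  · obtain ⟨x, hx, -⟩ := h
    exact ⟨x, hx⟩
  · have h1 := (orderOf_conjUnion_dSet m hm hK g₀ hg₀ g h).1
    exact absurd (dvd_two_of_dvd_sub_add _ _ (by omega) hg h1) hg2
  · have h1 := eq_one_of_dvd_sub_quad _ _ (by omega) hg h
    rw [h1] at hg2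
    exact absurd (one_dvd 2) hg2

/-- the elements whose order divides `q + 1` but not two are conjugate into the nonsplit torus -/
theorem conj_mem_torusD_of_orderOf (m : ℕ) (hm : 1 ≤ m) (hK : Fintype.card K = 3 ^ (2 * m + 1))
    (g₀ : SpecialLinearGroup (Fin 2) K) (hg₀ : orderOf g₀ = 3 ^ (2 * m + 1) + 1)
    (g : ↥(tG2 K (3 ^ m))) (hg : orderOf g ∣ 3 ^ (2 * m + 1) + 1) (hg2 : ¬ orderOf g ∣ 2) :
    ∃ h : ↥(tG2 K (3 ^ m)), h⁻¹ * g * h ∈ torusD m hK g₀ := by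
  have hq := q_ge m
  rcases element_cases m hm hK g₀ hg₀ g with h | h | h | h | h
  · exact absurd ((sq_eq_one_iff_orderOf g).mp h) hg2
  · exact absurd (dvd_trans h hg) (not_three_dvd_add_one m)
  · have h1 := (orderOf_conjUnion_tSet m hK g h).1
    exact absurd (dvd_two_of_dvd_sub_add _ _ (by omega) h1 hg) hg2
  · obtain ⟨x, hx, -⟩ := h
    exact ⟨x, hx⟩
  · have h1 := eq_one_of_dvd_add_quad m _ hg h
    rw [h1] at hg2
    exact absurd (one_dvd 2) hg2

/-- the elements of odd order of the nonsplit torus -/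
theorem mem_torusA_of_odd (m : ℕ) (hK : Fintype.card K = 3 ^ (2 * m + 1))
    (g₀ : SpecialLinearGroup (Fin 2) K) (a : ↥(tG2 K (3 ^ m))) (ha : a ∈ torusD m hK g₀)
    (hodd : Odd (orderOf a)) : a ∈ torusA m g₀ := by
  obtain ⟨s, hs⟩ := eq_pow_four_pow_of_odd a hodd
  rw [hs]
  exact Subgroup.pow_mem _ (pow_four_mem_torusA m hK g₀ a ha) s

/-- the elements of odd order dividing `q + 1` are conjugate into the odd part of the nonsplit
torus -/
theorem conj_mem_torusA_of_orderOf (m : ℕ) (hm : 1 ≤ m) (hK : Fintype.card K = 3 ^ (2 * m + 1))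
    (g₀ : SpecialLinearGroup (Fin 2) K) (hg₀ : orderOf g₀ = 3 ^ (2 * m + 1) + 1)
    (g : ↥(tG2 K (3 ^ m))) (hg : orderOf g ∣ 3 ^ (2 * m + 1) + 1) (hodd : Odd (orderOf g)) (hg1 : g ≠ 1) :
    ∃ h : ↥(tG2 K (3 ^ m)), h⁻¹ * g * h ∈ torusA m g₀ := by
  have hg2 : ¬ orderOf g ∣ 2 := by
    intro h
    have hcop : Nat.Coprime (orderOf g) 2 := Nat.Coprime.symm (Nat.coprime_two_left.mpr hodd)
    have : orderOf g ∣ 1 := hcop.dvd_of_dvd_mul_left (show orderOf g ∣ 2 * 1 from h)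
    exact hg1 (orderOf_eq_one_iff.mp (Nat.eq_one_of_dvd_one this))
  obtain ⟨h, hh⟩ := conj_mem_torusD_of_orderOf m hm hK g₀ hg₀ g hg hg2
  exact ⟨h, mem_torusA_of_odd m hK g₀ _ hh (by rw [orderOf_conj'']; exact hodd)⟩

theorem orderOf_dvd_of_mem_yCls (m : ℕ) (y g : ↥(tG2 K (3 ^ m))) (hg : g ∈ yCls m y) :
    orderOf g ∣ Nat.card ↥(Subgroup.centralizer {y}) := by
  rw [mem_yCls_iff] at hg
  obtain ⟨h, hh, -⟩ := hg
  have := orderOf_dvd_card_centralizer y _ hh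
  rwa [orderOf_conj''] at this

/-- the elements whose order divides the order of the centralizer of one of the two classes lie in
this class -/
theorem mem_yCls_of_orderOf_dvd (m : ℕ) (hm : 1 ≤ m) (hK : Fintype.card K = 3 ^ (2 * m + 1))
    (y₁ y₂ : ↥(tG2 K (3 ^ m))) (hy₁ : y₁ ∈ ySet K m)
    (hall : ∀ y ∈ ySet K m, y ∈ yCls m y₁ ∨ y ∈ yCls m y₂)
    (hcop : Nat.Coprime (Nat.card ↥(Subgroup.centralizer {y₁})) (Nat.card ↥(Subgroup.centralizer {y₂})))
    (g : ↥(tG2 K (3 ^ m))) (hg1 : g ≠ 1) (hg : orderOf g ∣ Nat.card ↥(Subgroup.centralizer {y₁})) :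
    g ∈ yCls m y₁ := by
  have hgY : g ∈ ySet K m := ⟨hg1, dvd_trans hg (card_centralizer_dvd_of_ySet m hm hK y₁ hy₁)⟩
  rcases hall g hgY with h | h
  · exact h
  · have h2 := orderOf_dvd_of_mem_yCls m y₂ g h
    have h3 : orderOf g ∣ 1 := by
      rw [← Nat.Coprime.gcd_eq_one hcop]
      exact Nat.dvd_gcd hg h2
    exact absurd (orderOf_eq_one_iff.mp (Nat.eq_one_of_dvd_one h3)) hg1

/-- the two classes with coprime orders of the centralizers -/
theorem ward_tori_coprime (m : ℕ) (hm : 1 ≤ m) (hK : Fintype.card K = 3 ^ (2 * m + 1)) :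
    ∃ y₁ y₂ : ↥(tG2 K (3 ^ m)), y₁ ∈ ySet K m ∧ y₂ ∈ ySet K m ∧
      (∀ y ∈ ySet K m, y ∈ yCls m y₁ ∨ y ∈ yCls m y₂) ∧
      Nat.Coprime (Nat.card ↥(Subgroup.centralizer {y₁})) (Nat.card ↥(Subgroup.centralizer {y₂})) ∧
      Nat.card ↥(Subgroup.centralizer {y₁}) = 3 ^ (2 * m + 1) - 3 ^ (m + 1) + 1 ∧
      Nat.card ↥(Subgroup.centralizer {y₂}) = 3 ^ (2 * m + 1) + 3 ^ (m + 1) + 1 ∧
      Nat.card ↥(Subgroup.normalizer
        ((Subgroup.centralizer {y₁} : Subgroup ↥(tG2 K (3 ^ m))) : Set ↥(tG2 K (3 ^ m)))) =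
        6 * (3 ^ (2 * m + 1) - 3 ^ (m + 1) + 1) ∧
      Nat.card ↥(Subgroup.normalizer
        ((Subgroup.centralizer {y₂} : Subgroup ↥(tG2 K (3 ^ m))) : Set ↥(tG2 K (3 ^ m)))) =
        6 * (3 ^ (2 * m + 1) + 3 ^ (m + 1) + 1) := by
  obtain ⟨y₁, y₂, hy₁, hy₂, hdisj, hall, ha₁, ha₂, hn₁, hn₂⟩ := ward_tori m hm hK
  refine ⟨y₁, y₂, hy₁, hy₂, hall, ?_, ha₁, ha₂, hn₁, hn₂⟩
  apply coprime_card_centralizer m hm hK y₁ y₂ hy₁ hy₂
  intro h
  exact Set.disjoint_left.mp hdisj h (mem_yCls_self m y₂ hy₂.1)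

end

end Cfsg.Agent.Lib.Helper3.Ree
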