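import Mathlib
import Cfsg.Agent.Lib.Helper3.Ree88
set_option autoImplicit false
set_option linter.unusedSectionVars false
set_option linter.style.haveILetI false
set_option linter.unusedSimpArgs false
open Cfsg Cfsg.Lie

/-!
The cyclic subgroups of the twisted group of type `G₂` whose order divides the order of one of the
four cyclic Hall subgroups are conjugate.
-/

namespace Cfsg.Agent.Lib.Helper3.Ree

open Cfsg.Agent.Lib.Helper3.ChevM Cfsg.Agent.Lib.Helper3.SL2P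
open Matrix

section
variable {G : Type*} [Group G]

theorem zpowers_conj_of_exists (H : Subgroup G) [Finite ↥H] [IsCyclic ↥H] (a b : G)
    (hab : orderOf a = orderOf b) (ha : ∃ h : G, h⁻¹ * a * h ∈ H) (hb : ∃ h : G, h⁻¹ * b * h ∈ H) :
    ∃ g : G, Subgroup.zpowers b = (Subgroup.zpowers a).map (MulAut.conj g).toMonoidHom := by
  obtain ⟨h, hh⟩ := ha
  obtain ⟨h', hh'⟩ := hb
  exact ⟨_, zpowers_conj_of_cyclic H a b h⁻¹ h'⁻¹ (by rw [inv_inv]; exact hh) (by rw [inv_inv]; exact hh') hab⟩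

theorem not_dvd_two_of_odd (d : ℕ) (hodd : Odd d) (hd1 : d ≠ 1) : ¬ d ∣ 2 := by
  intro h
  have hcop : Nat.Coprime d 2 := Nat.Coprime.symm (Nat.coprime_two_left.mpr hodd)
  have : d ∣ 1 := hcop.dvd_of_dvd_mul_left (show d ∣ 2 * 1 from h)
  exact hd1 (Nat.eq_one_of_dvd_one this)

end

section
variable {K : Type*} [Field K] [Fintype K] [CharP K 3]

theorem conj_cyclic_ree (m : ℕ) (hm : 1 ≤ m) (hK : Fintype.card K = 3 ^ (2 * m + 1)) (d : ℕ)
    (hd : d ∣ (3 ^ (2 * m + 1) - 1) / 2 ∨ d ∣ (3 ^ (2 * m + 1) + 1) / 4 ∨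
      d ∣ 3 ^ (2 * m + 1) - 3 ^ (m + 1) + 1 ∨ d ∣ 3 ^ (2 * m + 1) + 3 ^ (m + 1) + 1)
    (A B : Subgroup ↥(tG2 K (3 ^ m))) (hA : IsCyclic A) (hB : IsCyclic B)
    (hAd : Nat.card A = d) (hBd : Nat.card B = d) :
    ∃ g : ↥(tG2 K (3 ^ m)), B = A.map (MulAut.conj g).toMonoidHom := by
  haveI : Fact (Nat.Prime 3) := ⟨by norm_num⟩
  obtain ⟨a, rfl, hao⟩ := exists_zpowers_eq_of_cyclic A
  obtain ⟨b, rfl, hbo⟩ := exists_zpowers_eq_of_cyclic B
  rw [hAd] at hao
  rw [hBd] at hbo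
  have hab : orderOf a = orderOf b := by rw [hao, hbo]
  by_cases hd1 : d = 1
  · rw [hd1, orderOf_eq_one_iff] at hao hbo
    refine ⟨1, ?_⟩
    rw [hao, hbo, Subgroup.zpowers_one_eq_bot, Subgroup.map_bot]
  have ha1 : a ≠ 1 := fun h => hd1 (by rw [← hao, h, orderOf_one])
  have hb1 : b ≠ 1 := fun h => hd1 (by rw [← hbo, h, orderOf_one])
  rcases hd with hd | hd | hd | hd
  · obtain ⟨hodd, h2⟩ := half_odd m
    have hdodd : Odd d := Odd.of_dvd_nat hodd hd
    have hd' : d ∣ 3 ^ (2 * m + 1) - 1 := by rw [h2]; exact Dvd.dvd.mul_left hd 2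
    have hn2 := not_dvd_two_of_odd d hdodd hd1
    haveI := torusSplit_cyclic (K := K) m hK
    exact zpowers_conj_of_exists (torusSplit (K := K) m) a b hab
      (conj_mem_torusSplit_of_orderOf m hm hK a (by rw [hao]; exact hd') (by rw [hao]; exact hn2))
      (conj_mem_torusSplit_of_orderOf m hm hK b (by rw [hbo]; exact hd') (by rw [hbo]; exact hn2))
  · obtain ⟨g₀, hg₀⟩ := Cfsg.Agent.Lib.Helper5.exists_orderOf_eq_card_add_one (F := K) 3
    rw [hK] at hg₀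
    obtain ⟨k₀, hk₀, hk1, hq⟩ := quarter_odd m hm
    have hk : (3 ^ (2 * m + 1) + 1) / 4 = k₀ := by omega
    rw [hk] at hd
    have hdodd : Odd d := Odd.of_dvd_nat hk₀ hd
    have hd' : d ∣ 3 ^ (2 * m + 1) + 1 := by rw [hq]; exact Dvd.dvd.mul_left hd 4
    haveI : IsCyclic ↥(torusA (K := K) m g₀) := by unfold torusA; infer_instance
    exact zpowers_conj_of_exists (torusA m g₀) a b hab
      (conj_mem_torusA_of_orderOf m hm hK g₀ hg₀ a (by rw [hao]; exact hd') (by rw [hao]; exact hdodd) ha1)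
      (conj_mem_torusA_of_orderOf m hm hK g₀ hg₀ b (by rw [hbo]; exact hd') (by rw [hbo]; exact hdodd) hb1)
  · obtain ⟨y₁, y₂, hy₁, hy₂, hall, hcop, ha₁, ha₂, -, -⟩ := ward_tori_coprime m hm hK
    haveI := isCyclic_centralizer_of_ySet m hm hK y₁ hy₁
    have key : ∀ g : ↥(tG2 K (3 ^ m)), g ≠ 1 → orderOf g = d →
        ∃ h : ↥(tG2 K (3 ^ m)), h⁻¹ * g * h ∈ Subgroup.centralizer {y₁} := by
      intro g hg1 hgo
      have := mem_yCls_of_orderOf_dvd m hm hK y₁ y₂ hy₁ hall hcop g hg1 (by rw [hgo, ha₁]; exact hd)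
      rw [mem_yCls_iff] at this
      obtain ⟨h, hh, -⟩ := this
      exact ⟨h, Subgroup.mem_centralizer_singleton_iff.mpr hh⟩
    exact zpowers_conj_of_exists (Subgroup.centralizer {y₁}) a b hab (key a ha1 hao) (key b hb1 hbo)
  · obtain ⟨y₁, y₂, hy₁, hy₂, hall, hcop, ha₁, ha₂, -, -⟩ := ward_tori_coprime m hm hK
    haveI := isCyclic_centralizer_of_ySet m hm hK y₂ hy₂
    have key : ∀ g : ↥(tG2 K (3 ^ m)), g ≠ 1 → orderOf g = d →
        ∃ h : ↥(tG2 K (3 ^ m)), h⁻¹ * g * h ∈ Subgroup.centralizer {y₂} := by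
      intro g hg1 hgo
      have := mem_yCls_of_orderOf_dvd m hm hK y₂ y₁ hy₂ (fun y hy => (hall y hy).symm) hcop.symm g hg1
        (by rw [hgo, ha₂]; exact hd)
      rw [mem_yCls_iff] at this
      obtain ⟨h, hh, -⟩ := this
      exact ⟨h, Subgroup.mem_centralizer_singleton_iff.mpr hh⟩
    exact zpowers_conj_of_exists (Subgroup.centralizer {y₂}) a b hab (key a ha1 hao) (key b hb1 hbo)

end

end Cfsg.Agent.Lib.Helper3.Ree
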