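import Mathlib
import Cfsg.Agent.Lib.Helper3.Ree89
set_option autoImplicit false
set_option linter.unusedSectionVars false
set_option linter.style.haveILetI false
set_option linter.unusedSimpArgs false
open Cfsg Cfsg.Lie

/-!
Counting the elements of a given order of a subgroup.
-/

namespace Cfsg.Agent.Lib.Helper3.Ree

section
variable {G : Type*} [Group G]

/-- the elements of a given order of a subgroup -/
theorem card_orderOf_subgroup (H : Subgroup G) (i : ℕ) :
    Nat.card ↥{a : G | a ∈ H ∧ orderOf a = i} = Nat.card {a : ↥H // orderOf a = i} :=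
  Nat.card_congr
    ⟨fun x => ⟨⟨x.1, x.2.1⟩, by rw [← Subgroup.orderOf_coe]; exact x.2.2⟩,
      fun x => ⟨x.1.1, x.1.2, by rw [Subgroup.orderOf_coe]; exact x.2⟩,
      fun _ => rfl, fun _ => rfl⟩

/-- the number of elements of a given order of a cyclic subgroup -/
theorem card_orderOf_subgroup_cyclic (H : Subgroup G) [Finite ↥H] [IsCyclic ↥H] (i : ℕ)
    (hi : i ∣ Nat.card ↥H) :
    Nat.card ↥{a : G | a ∈ H ∧ orderOf a = i} = Nat.totient i := by
  classical
  haveI : Fintype ↥H := Fintype.ofFinite _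
  rw [card_orderOf_subgroup, Nat.card_eq_fintype_card, Fintype.card_subtype,
    IsCyclic.card_orderOf_eq_totient (by rwa [← Nat.card_eq_fintype_card])]

theorem gcd_two_mul_succ (i : ℕ) (hi : Odd i) : Nat.gcd (2 * i) (i + 1) = 2 := by
  obtain ⟨j, rfl⟩ := hi
  apply Nat.dvd_antisymm
  · have h1 : Nat.gcd (2 * (2 * j + 1)) (2 * j + 1 + 1) ∣ 2 * (2 * j + 1) := Nat.gcd_dvd_left _ _
    have h2 : Nat.gcd (2 * (2 * j + 1)) (2 * j + 1 + 1) ∣ 2 * (2 * j + 1 + 1) :=
      Dvd.dvd.mul_left (Nat.gcd_dvd_right _ _) 2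
    have e : 2 * (2 * j + 1 + 1) = 2 * (2 * j + 1) + 2 := by ring
    rw [e] at h2
    exact (Nat.dvd_add_right h1).mp h2
  · exact Nat.dvd_gcd (dvd_mul_right 2 _) ⟨j + 1, by ring⟩

/-- in a finite commutative group the elements of order `2 i`, `i` odd, are the products of the
elements of order `2` and the elements of order `i` -/
theorem card_orderOf_two_mul {H : Type*} [Group H] (hcomm : ∀ a b : H, a * b = b * a)
    (i : ℕ) (hi : Odd i) :
    Nat.card {b : H // orderOf b = 2 * i} =
      Nat.card {v : H // orderOf v = 2} * Nat.card {a : H // orderOf a = i} := by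
  rw [← Nat.card_prod]
  have hi0 : i ≠ 0 := by
    rintro rfl
    exact (Nat.not_odd_iff_even.mpr (by decide)) hi
  obtain ⟨j, hj⟩ := hi
  have hi' : Odd i := ⟨j, hj⟩
  apply Nat.card_congr
  refine ⟨fun b => (⟨b.1 ^ i, ?_⟩, ⟨b.1 ^ (i + 1), ?_⟩), fun va => ⟨va.1.1 * va.2.1, ?_⟩, ?_, ?_⟩
  · rw [orderOf_pow_of_dvd hi0 (by rw [b.2]; exact dvd_mul_left i 2), b.2]
    exact Nat.mul_div_cancel _ (Nat.pos_of_ne_zero hi0)
  · rw [orderOf_pow' _ (by omega), b.2, gcd_two_mul_succ i hi']
    exact Nat.mul_div_cancel_left _ (by norm_num)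
  · rw [Commute.orderOf_mul_eq_mul_orderOf_of_coprime (hcomm _ _), va.1.2, va.2.2]
    rw [va.1.2, va.2.2]
    exact Nat.coprime_two_left.mpr hi'
  · intro b
    apply Subtype.ext
    show b.1 ^ i * b.1 ^ (i + 1) = b.1
    have h1 : b.1 ^ (2 * i) = 1 := by
      have := pow_orderOf_eq_one b.1
      rwa [b.2] at this
    rw [← pow_add, show i + (i + 1) = 2 * i + 1 by ring, pow_succ, h1, one_mul]
  · rintro ⟨⟨v, hv⟩, ⟨a, ha⟩⟩
    have hv2 : v ^ 2 = 1 := by rw [← hv]; exact pow_orderOf_eq_one _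
    have hai : a ^ i = 1 := by rw [← ha]; exact pow_orderOf_eq_one _
    have hc : Commute v a := hcomm v a
    apply Prod.ext
    · apply Subtype.ext
      show (v * a) ^ i = v
      rw [hc.mul_pow, hai, mul_one, hj, pow_succ, pow_mul, hv2, one_pow, one_mul]
    · apply Subtype.ext
      show (v * a) ^ (i + 1) = a
      rw [hc.mul_pow, pow_succ a, hai, one_mul, hj, show 2 * j + 1 + 1 = 2 * (j + 1) by ring, pow_mul, hv2,
        one_pow, one_mul]

/-- the elements of order `2 i`, `i` odd, of a commutative subgroup -/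
theorem card_orderOf_two_mul_subgroup (D : Subgroup G) (hcomm : ∀ a ∈ D, ∀ b ∈ D, a * b = b * a)
    (i : ℕ) (hi : Odd i) :
    Nat.card ↥{b : G | b ∈ D ∧ orderOf b = 2 * i} =
      Nat.card ↥{v : G | v ∈ D ∧ orderOf v = 2} * Nat.card ↥{a : G | a ∈ D ∧ orderOf a = i} := by
  rw [card_orderOf_subgroup, card_orderOf_subgroup, card_orderOf_subgroup]
  exact card_orderOf_two_mul (fun a b => Subtype.ext (hcomm a a.2 b b.2)) i hi

/-- the elements of a given order are the conjugates of the elements of this order of a subgroup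
into which they can all be conjugated -/
theorem orderOf_set_eq_conjUnion (H : Subgroup G) (i : ℕ)
    (h : ∀ g : G, orderOf g = i → ∃ x : G, x⁻¹ * g * x ∈ H) :
    {g : G | orderOf g = i} = conjUnion {a : G | a ∈ H ∧ orderOf a = i} := by
  ext g
  constructor
  · intro hg
    obtain ⟨x, hx⟩ := h g hg
    exact ⟨x, hx, by rw [orderOf_conj'']; exact hg⟩
  · rintro ⟨x, -, hx⟩
    rw [orderOf_conj''] at hx
    exact hx

theorem card_orderOf_subtype (i : ℕ) :
    Nat.card {g : G // orderOf g = i} = Nat.card ↥{g : G | orderOf g = i} := rfl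

end

end Cfsg.Agent.Lib.Helper3.Ree
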