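import Mathlib
import Cfsg.Agent.Lib.Helper3.Ree90
set_option autoImplicit false
set_option linter.unusedSectionVars false
set_option linter.style.haveILetI false
set_option linter.unusedSimpArgs false
open Cfsg Cfsg.Lie

/-!
The number of elements of each order of the twisted group of type `G₂`: the involutions and the
elements of the split and nonsplit tori.
-/

namespace Cfsg.Agent.Lib.Helper3.Ree

open Cfsg.Agent.Lib.Helper3.ChevM Cfsg.Agent.Lib.Helper3.SL2P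
open Matrix

section
variable {G : Type*} [Group G]

theorem orderOf_eq_two_iff' (g : G) : orderOf g = 2 ↔ g * g = 1 ∧ g ≠ 1 := by
  constructor
  · intro h
    refine ⟨?_, ?_⟩
    · have := pow_orderOf_eq_one g
      rwa [h, pow_two] at this
    · rintro rfl
      rw [orderOf_one] at h
      omega
  · rintro ⟨h1, h2⟩
    exact orderOf_eq_prime (by rw [pow_two]; exact h1) h2

theorem not_dvd_two_of_lt (i : ℕ) (hi : 2 < i) : ¬ i ∣ 2 := fun h => by
  have := Nat.le_of_dvd (by norm_num) h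
  omega

end

section
variable {K : Type*} [Field K] [Fintype K] [CharP K 3]

/-- the number of involutions -/
theorem card_order_two_ree (m : ℕ) (hm : 1 ≤ m) (hK : Fintype.card K = 3 ^ (2 * m + 1)) :
    Nat.card {g : ↥(tG2 K (3 ^ m)) // orderOf g = 2} =
      (3 ^ (2 * m + 1)) ^ 2 * ((3 ^ (2 * m + 1)) ^ 2 - 3 ^ (2 * m + 1) + 1) := by
  rw [← card_invSet m hm hK]
  exact Nat.card_congr (Equiv.subtypeEquivRight (fun g => orderOf_eq_two_iff' g))

/-- the number of elements of an order dividing `q - 1` -/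
theorem card_order_split_ree (m : ℕ) (hm : 1 ≤ m) (hK : Fintype.card K = 3 ^ (2 * m + 1))
    (i : ℕ) (hi2 : 2 < i) (hi : i ∣ 3 ^ (2 * m + 1) - 1) :
    2 * Nat.card {g : ↥(tG2 K (3 ^ m)) // orderOf g = i} =
      Nat.totient i * (3 ^ (2 * m + 1)) ^ 3 * ((3 ^ (2 * m + 1)) ^ 3 + 1) := by
  haveI := torusSplit_cyclic (K := K) m hK
  have hn2 := not_dvd_two_of_lt i hi2
  rw [card_orderOf_subtype, orderOf_set_eq_conjUnion (torusSplit (K := K) m) i
    (fun g hg => conj_mem_torusSplit_of_orderOf m hm hK g (by rw [hg]; exact hi) (by rw [hg]; exact hn2)),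
    card_conjUnion_torus m hK _ (fun a ha => ha.1) ?_ ?_,
    card_orderOf_subgroup_cyclic (torusSplit (K := K) m) i (by rw [card_torusSplit m hK]; exact hi)]
  · ring
  · rintro a ⟨-, ha⟩ h
    apply hn2
    rw [← ha]
    exact (sq_eq_one_iff_orderOf a).mp h
  · rintro a ⟨ha1, ha2⟩
    exact ⟨Subgroup.inv_mem _ ha1, by rw [orderOf_inv]; exact ha2⟩

/-- the number of elements of an order dividing `(q + 1) / 4` -/
theorem card_order_nonsplit_ree (m : ℕ) (hm : 1 ≤ m) (hK : Fintype.card K = 3 ^ (2 * m + 1))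
    (i : ℕ) (hi1 : 1 < i) (hi : i ∣ (3 ^ (2 * m + 1) + 1) / 4) :
    6 * Nat.card {g : ↥(tG2 K (3 ^ m)) // orderOf g = i} =
      Nat.totient i * (3 ^ (2 * m + 1)) ^ 3 * (3 ^ (2 * m + 1) - 1) *
        ((3 ^ (2 * m + 1)) ^ 2 - 3 ^ (2 * m + 1) + 1) := by
  haveI : Fact (Nat.Prime 3) := ⟨by norm_num⟩
  obtain ⟨g₀, hg₀⟩ := Cfsg.Agent.Lib.Helper5.exists_orderOf_eq_card_add_one (F := K) 3
  rw [hK] at hg₀
  obtain ⟨k₀, hk₀, hk1, hq⟩ := quarter_odd m hm
  have hk : (3 ^ (2 * m + 1) + 1) / 4 = k₀ := by omega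
  rw [hk] at hi
  have hiodd : Odd i := Odd.of_dvd_nat hk₀ hi
  have hi' : i ∣ 3 ^ (2 * m + 1) + 1 := by rw [hq]; exact Dvd.dvd.mul_left hi 4
  have hn2 := not_dvd_two_of_odd i hiodd (by omega)
  haveI : IsCyclic ↥(torusA (K := K) m g₀) := by unfold torusA; infer_instance
  have hS : {a : ↥(tG2 K (3 ^ m)) | a ∈ torusD m hK g₀ ∧ orderOf a = i} =
      {a : ↥(tG2 K (3 ^ m)) | a ∈ torusA m g₀ ∧ orderOf a = i} := by
    ext a
    constructor
    · rintro ⟨h1, h2⟩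
      exact ⟨mem_torusA_of_odd m hK g₀ a h1 (by rw [h2]; exact hiodd), h2⟩
    · rintro ⟨h1, h2⟩
      exact ⟨torusA_le_torusD m hK g₀ h1, h2⟩
  rw [card_orderOf_subtype, orderOf_set_eq_conjUnion (torusD m hK g₀) i
    (fun g hg => conj_mem_torusD_of_orderOf m hm hK g₀ hg₀ g (by rw [hg]; exact hi') (by rw [hg]; exact hn2)),
    card_conjUnion_torusD m hm hK g₀ hg₀ _ (fun a ha => ha.1) ?_ ?_, hS,
    card_orderOf_subgroup_cyclic (torusA m g₀) i (by rw [card_torusA m hm g₀ hg₀, hk]; exact hi)]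
  · ring
  · rintro a ⟨-, ha⟩ h
    apply hn2
    rw [← ha]
    exact (sq_eq_one_iff_orderOf a).mp h
  · rintro n hn a ⟨ha1, ha2⟩
    exact ⟨(Subgroup.mem_normalizer_iff.mp hn a).mp ha1, by rw [orderOf_conj']; exact ha2⟩

/-- the three involutions of the nonsplit torus -/
theorem card_order_two_torusD (m : ℕ) (hm : 1 ≤ m) (hK : Fintype.card K = 3 ^ (2 * m + 1))
    (g₀ : SpecialLinearGroup (Fin 2) K) (hg₀ : orderOf g₀ = 3 ^ (2 * m + 1) + 1) :
    Nat.card ↥{v : ↥(tG2 K (3 ^ m)) | v ∈ torusD m hK g₀ ∧ orderOf v = 2} = 3 := by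
  obtain ⟨hne1, hne2⟩ := zG_mul_tD_ne m hm hK g₀ hg₀
  have hzt : zG m hK * tD m g₀ = tD m g₀ * zG m hK := zG_comm_psiR m hK _
  rw [Nat.card_coe_set_eq, Set.ncard_eq_three]
  refine ⟨zG m hK, tD m g₀, zG m hK * tD m g₀, zG_ne_tD m hK g₀, hne1.symm, hne2.symm, ?_⟩
  ext v
  simp only [Set.mem_ofPred_eq, Set.mem_insert_iff, Set.mem_singleton_iff]
  constructor
  · rintro ⟨hv, hv2⟩
    rw [orderOf_eq_two_iff'] at hv2
    rcases involution_torusD m hm hK g₀ hg₀ v hv hv2.1 with h | h | h | h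
    · exact absurd h hv2.2
    · exact Or.inl h
    · exact Or.inr (Or.inl h)
    · exact Or.inr (Or.inr h)
  · rintro (rfl | rfl | rfl)
    · exact ⟨zG_mem_torusD m hK g₀, (orderOf_eq_two_iff' _).mpr ⟨zG_sq m hK, zG_ne_one m hK⟩⟩
    · exact ⟨tD_mem_torusD m hK g₀, (orderOf_eq_two_iff' _).mpr ⟨tD_sq m hm g₀ hg₀, tD_ne_one m hm g₀ hg₀⟩⟩
    · refine ⟨Subgroup.mul_mem _ (zG_mem_torusD m hK g₀) (tD_mem_torusD m hK g₀),
        (orderOf_eq_two_iff' _).mpr ⟨?_, ?_⟩⟩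
      · calc zG m hK * tD m g₀ * (zG m hK * tD m g₀)
            = zG m hK * (tD m g₀ * zG m hK) * tD m g₀ := by group
          _ = zG m hK * (zG m hK * tD m g₀) * tD m g₀ := by rw [hzt]
          _ = (zG m hK * zG m hK) * (tD m g₀ * tD m g₀) := by group
          _ = 1 := by rw [zG_sq, tD_sq m hm g₀ hg₀, one_mul]
      · intro h
        apply zG_ne_tD m hK g₀
        have h1 : zG m hK * tD m g₀ = tD m g₀ * tD m g₀ := by rw [h, tD_sq m hm g₀ hg₀]
        exact mul_right_cancel h1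

/-- the number of elements of an order twice a divisor of `(q + 1) / 4` -/
theorem card_order_two_mul_nonsplit_ree (m : ℕ) (hm : 1 ≤ m) (hK : Fintype.card K = 3 ^ (2 * m + 1))
    (i : ℕ) (hi1 : 1 < i) (hi : i ∣ (3 ^ (2 * m + 1) + 1) / 4) :
    2 * Nat.card {g : ↥(tG2 K (3 ^ m)) // orderOf g = 2 * i} =
      Nat.totient i * (3 ^ (2 * m + 1)) ^ 3 * (3 ^ (2 * m + 1) - 1) *
        ((3 ^ (2 * m + 1)) ^ 2 - 3 ^ (2 * m + 1) + 1) := by
  haveI : Fact (Nat.Prime 3) := ⟨by norm_num⟩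
  obtain ⟨g₀, hg₀⟩ := Cfsg.Agent.Lib.Helper5.exists_orderOf_eq_card_add_one (F := K) 3
  rw [hK] at hg₀
  obtain ⟨k₀, hk₀, hk1, hq⟩ := quarter_odd m hm
  have hk : (3 ^ (2 * m + 1) + 1) / 4 = k₀ := by omega
  rw [hk] at hi
  have hiodd : Odd i := Odd.of_dvd_nat hk₀ hi
  have hi' : 2 * i ∣ 3 ^ (2 * m + 1) + 1 := by
    rw [hq, show 4 * k₀ = 2 * (2 * k₀) by ring]
    exact Nat.mul_dvd_mul_left 2 (Dvd.dvd.mul_left hi 2)
  have hn2 : ¬ 2 * i ∣ 2 := by
    intro h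
    have := Nat.le_of_dvd (by norm_num) h
    omega
  haveI : IsCyclic ↥(torusA (K := K) m g₀) := by unfold torusA; infer_instance
  have hS : {a : ↥(tG2 K (3 ^ m)) | a ∈ torusD m hK g₀ ∧ orderOf a = i} =
      {a : ↥(tG2 K (3 ^ m)) | a ∈ torusA m g₀ ∧ orderOf a = i} := by
    ext a
    constructor
    · rintro ⟨h1, h2⟩
      exact ⟨mem_torusA_of_odd m hK g₀ a h1 (by rw [h2]; exact hiodd), h2⟩
    · rintro ⟨h1, h2⟩
      exact ⟨torusA_le_torusD m hK g₀ h1, h2⟩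
  have h6 : 6 * Nat.card {g : ↥(tG2 K (3 ^ m)) // orderOf g = 2 * i} =
      (3 ^ (2 * m + 1)) ^ 3 * (3 ^ (2 * m + 1) - 1) *
        ((3 ^ (2 * m + 1)) ^ 2 - 3 ^ (2 * m + 1) + 1) * (3 * Nat.totient i) := by
    rw [card_orderOf_subtype, orderOf_set_eq_conjUnion (torusD m hK g₀) (2 * i)
      (fun g hg => conj_mem_torusD_of_orderOf m hm hK g₀ hg₀ g (by rw [hg]; exact hi') (by rw [hg]; exact hn2)),
      card_conjUnion_torusD m hm hK g₀ hg₀ _ (fun a ha => ha.1) ?_ ?_,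
      card_orderOf_two_mul_subgroup (torusD m hK g₀) (fun a ha b hb => torusD_comm m hK g₀ a b ha hb) i hiodd,
      card_order_two_torusD m hm hK g₀ hg₀, hS,
      card_orderOf_subgroup_cyclic (torusA m g₀) i (by rw [card_torusA m hm g₀ hg₀, hk]; exact hi)]
    · rintro a ⟨-, ha⟩ h
      apply hn2
      rw [← ha]
      exact (sq_eq_one_iff_orderOf a).mp h
    · rintro n hn a ⟨ha1, ha2⟩
      exact ⟨(Subgroup.mem_normalizer_iff.mp hn a).mp ha1, by rw [orderOf_conj']; exact ha2⟩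
  apply Nat.eq_of_mul_eq_mul_left (show 0 < 3 by norm_num)
  calc 3 * (2 * Nat.card {g : ↥(tG2 K (3 ^ m)) // orderOf g = 2 * i})
      = 6 * Nat.card {g : ↥(tG2 K (3 ^ m)) // orderOf g = 2 * i} := by ring
    _ = _ := h6
    _ = _ := by ring

end

end Cfsg.Agent.Lib.Helper3.Ree
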