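import Mathlib
import Cfsg.Agent.Lib.Helper3.Ree91
set_option autoImplicit false
set_option linter.unusedSectionVars false
set_option linter.style.haveILetI false
set_option linter.unusedSimpArgs false
open Cfsg Cfsg.Lie

/-!
The number of elements of each order of the twisted group of type `G₂`: the elements of the two
cyclic Hall subgroups of orders `q - r + 1` and `q + r + 1`.
-/

namespace Cfsg.Agent.Lib.Helper3.Ree

open Cfsg.Agent.Lib.Helper3.ChevM Cfsg.Agent.Lib.Helper3.SL2P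
open Matrix

section arith

theorem tori_mul (q r : ℕ) (hr : r ^ 2 = 3 * q) (hrq : r ≤ q) :
    (q - r + 1) * (q + r + 1) = q ^ 2 - q + 1 := by
  obtain ⟨t, rfl⟩ : ∃ t, q = r + t := ⟨q - r, by omega⟩
  rw [Nat.add_sub_cancel_left]
  have h1 : (r + t) ^ 2 = (t ^ 2 + 2 * r * t + 2 * t + 2 * r) + (r + t) := by nlinarith
  rw [h1, Nat.add_sub_cancel]
  ring

theorem r_le_q (m : ℕ) : 3 ^ (m + 1) ≤ 3 ^ (2 * m + 1) :=
  Nat.pow_le_pow_right (by norm_num) (by omega)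

theorem sq_sub_one_eq (q : ℕ) (hq : 1 ≤ q) : q ^ 2 - 1 = (q - 1) * (q + 1) := by
  obtain ⟨k, rfl⟩ : ∃ k, q = k + 1 := ⟨q - 1, by omega⟩
  rw [Nat.add_sub_cancel]
  have : (k + 1) ^ 2 = k * (k + 1 + 1) + 1 := by ring
  rw [this, Nat.add_sub_cancel]

end arith

section
variable {K : Type*} [Field K] [Fintype K] [CharP K 3]

/-- the number of elements of an order dividing the order of the centralizer of one of the two
classes -/
theorem card_order_yCls (m : ℕ) (hm : 1 ≤ m) (hK : Fintype.card K = 3 ^ (2 * m + 1))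
    (y₁ y₂ : ↥(tG2 K (3 ^ m))) (hy₁ : y₁ ∈ ySet K m)
    (hall : ∀ y ∈ ySet K m, y ∈ yCls m y₁ ∨ y ∈ yCls m y₂)
    (hcop : Nat.Coprime (Nat.card ↥(Subgroup.centralizer {y₁})) (Nat.card ↥(Subgroup.centralizer {y₂})))
    (i : ℕ) (hi1 : 1 < i) (hi : i ∣ Nat.card ↥(Subgroup.centralizer {y₁})) :
    Nat.card {g : ↥(tG2 K (3 ^ m)) // orderOf g = i} * Nat.card ↥(Subgroup.normalizer
        ((Subgroup.centralizer {y₁} : Subgroup ↥(tG2 K (3 ^ m))) : Set ↥(tG2 K (3 ^ m)))) =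
      Nat.card ↥(tG2 K (3 ^ m)) * Nat.totient i := by
  haveI := isCyclic_centralizer_of_ySet m hm hK y₁ hy₁
  have hne1 : ∀ g : ↥(tG2 K (3 ^ m)), orderOf g = i → g ≠ 1 := by
    rintro g hg rfl
    rw [orderOf_one] at hg
    omega
  rw [card_orderOf_subtype, orderOf_set_eq_conjUnion (Subgroup.centralizer {y₁}) i ?_,
    card_conjUnion _ (Subgroup.normalizer
        ((Subgroup.centralizer {y₁} : Subgroup ↥(tG2 K (3 ^ m))) : Set ↥(tG2 K (3 ^ m)))) ?_ ?_,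
    card_orderOf_subgroup_cyclic (Subgroup.centralizer {y₁}) i hi]
  · rintro n hn a ⟨ha1, ha2⟩
    exact ⟨(Subgroup.mem_normalizer_iff.mp hn a).mp ha1, by rw [orderOf_conj']; exact ha2⟩
  · rintro g x ⟨hx, hxo⟩ ⟨hgx, -⟩
    rw [Subgroup.mem_centralizer_singleton_iff] at hx hgx
    exact mem_normalizer_of_conj_mem_of_ySet m hm hK y₁ x g hy₁ hx (hne1 x hxo) hgx
  · intro g hg
    have := mem_yCls_of_orderOf_dvd m hm hK y₁ y₂ hy₁ hall hcop g (hne1 g hg) (by rw [hg]; exact hi)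
    rw [mem_yCls_iff] at this
    obtain ⟨h, hh, -⟩ := this
    exact ⟨h, Subgroup.mem_centralizer_singleton_iff.mpr hh⟩

/-- the number of elements of an order dividing `q - r + 1` or `q + r + 1` -/
theorem card_order_hall_ree (m : ℕ) (hm : 1 ≤ m) (hK : Fintype.card K = 3 ^ (2 * m + 1)) :
    (∀ i : ℕ, 1 < i → i ∣ 3 ^ (2 * m + 1) - 3 ^ (m + 1) + 1 →
      6 * Nat.card {g : ↥(tG2 K (3 ^ m)) // orderOf g = i} =
        Nat.totient i * (3 ^ (2 * m + 1)) ^ 3 * ((3 ^ (2 * m + 1)) ^ 2 - 1) *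
          (3 ^ (2 * m + 1) + 3 ^ (m + 1) + 1)) ∧
    (∀ i : ℕ, 1 < i → i ∣ 3 ^ (2 * m + 1) + 3 ^ (m + 1) + 1 →
      6 * Nat.card {g : ↥(tG2 K (3 ^ m)) // orderOf g = i} =
        Nat.totient i * (3 ^ (2 * m + 1)) ^ 3 * ((3 ^ (2 * m + 1)) ^ 2 - 1) *
          (3 ^ (2 * m + 1) - 3 ^ (m + 1) + 1)) := by
  obtain ⟨y₁, y₂, hy₁, hy₂, hall, hcop, ha₁, ha₂, hn₁, hn₂⟩ := ward_tori_coprime m hm hK
  have hG := card_tG2_factor m hK
  have hq := q_ge m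
  have hmul := tori_mul (3 ^ (2 * m + 1)) (3 ^ (m + 1)) (r_sq m) (r_le_q m)
  have hsq := sq_sub_one_eq (3 ^ (2 * m + 1)) (by omega)
  have hpos₁ : 0 < 3 ^ (2 * m + 1) - 3 ^ (m + 1) + 1 := by omega
  have hpos₂ : 0 < 3 ^ (2 * m + 1) + 3 ^ (m + 1) + 1 := by omega
  constructor
  · intro i hi1 hi
    have h := card_order_yCls m hm hK y₁ y₂ hy₁ hall hcop i hi1 (by rw [ha₁]; exact hi)
    rw [hn₁, hG, ← hmul] at h
    apply Nat.eq_of_mul_eq_mul_right hpos₁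
    rw [hsq]
    calc 6 * Nat.card {g : ↥(tG2 K (3 ^ m)) // orderOf g = i} * (3 ^ (2 * m + 1) - 3 ^ (m + 1) + 1)
        = Nat.card {g : ↥(tG2 K (3 ^ m)) // orderOf g = i} * (6 * (3 ^ (2 * m + 1) - 3 ^ (m + 1) + 1)) := by
          ring
      _ = _ := h
      _ = _ := by ring
  · intro i hi1 hi
    have h := card_order_yCls m hm hK y₂ y₁ hy₂ (fun y hy => (hall y hy).symm) hcop.symm i hi1
      (by rw [ha₂]; exact hi)
    rw [hn₂, hG, ← hmul] at h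
    apply Nat.eq_of_mul_eq_mul_right hpos₂
    rw [hsq]
    calc 6 * Nat.card {g : ↥(tG2 K (3 ^ m)) // orderOf g = i} * (3 ^ (2 * m + 1) + 3 ^ (m + 1) + 1)
        = Nat.card {g : ↥(tG2 K (3 ^ m)) // orderOf g = i} * (6 * (3 ^ (2 * m + 1) + 3 ^ (m + 1) + 1)) := by
          ring
      _ = _ := h
      _ = _ := by ring

/-- the number of elements of each order -/
theorem card_order_ree (m : ℕ) (hm : 1 ≤ m) (hK : Fintype.card K = 3 ^ (2 * m + 1)) :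
    Nat.card {g : ↥(tG2 K (3 ^ m)) // orderOf g = 2} = (3 ^ (2 * m + 1)) ^ 2 * ((3 ^ (2 * m + 1)) ^ 2 - 3 ^ (2 * m + 1) + 1) ∧
    Nat.card {g : ↥(tG2 K (3 ^ m)) // orderOf g = 3} = ((3 ^ (2 * m + 1)) ^ 2 - 1) * ((3 ^ (2 * m + 1)) ^ 3 + 1) ∧
    Nat.card {g : ↥(tG2 K (3 ^ m)) // orderOf g = 6} = (3 ^ (2 * m + 1)) ^ 2 * (3 ^ (2 * m + 1) - 1) * ((3 ^ (2 * m + 1)) ^ 3 + 1) ∧
    Nat.card {g : ↥(tG2 K (3 ^ m)) // orderOf g = 9} = (3 ^ (2 * m + 1)) ^ 2 * (3 ^ (2 * m + 1) - 1) * ((3 ^ (2 * m + 1)) ^ 3 + 1) ∧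
    (∀ i : ℕ, 2 < i → i ∣ 3 ^ (2 * m + 1) - 1 →
      2 * Nat.card {g : ↥(tG2 K (3 ^ m)) // orderOf g = i} = Nat.totient i * (3 ^ (2 * m + 1)) ^ 3 * ((3 ^ (2 * m + 1)) ^ 3 + 1)) ∧
    (∀ i : ℕ, 1 < i → i ∣ (3 ^ (2 * m + 1) + 1) / 4 →
      6 * Nat.card {g : ↥(tG2 K (3 ^ m)) // orderOf g = i} =
          Nat.totient i * (3 ^ (2 * m + 1)) ^ 3 * (3 ^ (2 * m + 1) - 1) * ((3 ^ (2 * m + 1)) ^ 2 - 3 ^ (2 * m + 1) + 1) ∧
        2 * Nat.card {g : ↥(tG2 K (3 ^ m)) // orderOf g = 2 * i} =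
          Nat.totient i * (3 ^ (2 * m + 1)) ^ 3 * (3 ^ (2 * m + 1) - 1) * ((3 ^ (2 * m + 1)) ^ 2 - 3 ^ (2 * m + 1) + 1)) ∧
    (∀ i : ℕ, 1 < i → i ∣ 3 ^ (2 * m + 1) - 3 ^ (m + 1) + 1 →
      6 * Nat.card {g : ↥(tG2 K (3 ^ m)) // orderOf g = i} =
        Nat.totient i * (3 ^ (2 * m + 1)) ^ 3 * ((3 ^ (2 * m + 1)) ^ 2 - 1) * (3 ^ (2 * m + 1) + 3 ^ (m + 1) + 1)) ∧
    (∀ i : ℕ, 1 < i → i ∣ 3 ^ (2 * m + 1) + 3 ^ (m + 1) + 1 →
      6 * Nat.card {g : ↥(tG2 K (3 ^ m)) // orderOf g = i} =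
        Nat.totient i * (3 ^ (2 * m + 1)) ^ 3 * ((3 ^ (2 * m + 1)) ^ 2 - 1) * (3 ^ (2 * m + 1) - 3 ^ (m + 1) + 1)) :=
  ⟨card_order_two_ree m hm hK, card_order_three_ree m hK, card_order_six_ree m hK, card_order_nine_ree m hK,
    fun i hi2 hi => card_order_split_ree m hm hK i hi2 hi,
    fun i hi1 hi => ⟨card_order_nonsplit_ree m hm hK i hi1 hi, card_order_two_mul_nonsplit_ree m hm hK i hi1 hi⟩,
    (card_order_hall_ree m hm hK).1, (card_order_hall_ree m hm hK).2⟩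

end

end Cfsg.Agent.Lib.Helper3.Ree
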