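import Mathlib
import Cfsg.Agent.Lib.Helper3.Ree92
set_option autoImplicit false
set_option linter.unusedSectionVars false
set_option linter.style.haveILetI false
set_option linter.unusedSimpArgs false
open Cfsg Cfsg.Lie

/-!
The cyclic Hall subgroups of the twisted group of type `G₂`: each is the set of the elements of odd
order of the centralizer of each of its nontrivial elements.
-/

namespace Cfsg.Agent.Lib.Helper3.Ree

open Cfsg.Agent.Lib.Helper3.ChevM Cfsg.Agent.Lib.Helper3.SL2P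
open Matrix

section
variable {G : Type*} [Group G]

theorem mem_map_conj_iff (A : Subgroup G) (g b : G) :
    b ∈ A.map (MulAut.conj g).toMonoidHom ↔ g⁻¹ * b * g ∈ A := by
  rw [Subgroup.mem_map_equiv, MulAut.conj_symm_apply]

theorem isCyclic_map_conj (A : Subgroup G) [IsCyclic ↥A] (g : G) :
    IsCyclic ↥(A.map (MulAut.conj g).toMonoidHom) := by
  let f : ↥A →* ↥(A.map (MulAut.conj g).toMonoidHom) :=
    ((MulAut.conj g).toMonoidHom.comp A.subtype).codRestrict _ (fun x => Subgroup.mem_map_of_mem _ x.2)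
  apply isCyclic_of_surjective f
  rintro ⟨y, hy⟩
  obtain ⟨x, hx, rfl⟩ := Subgroup.mem_map.mp hy
  exact ⟨⟨x, hx⟩, rfl⟩

theorem card_map_conj (A : Subgroup G) (g : G) :
    Nat.card ↥(A.map (MulAut.conj g).toMonoidHom) = Nat.card ↥A :=
  Subgroup.card_map_of_injective (MulAut.conj g).injective

theorem odd_of_sq_eq_one_of_odd (b : G) (hodd : Odd (orderOf b)) (h : b * b = 1) : b = 1 := by
  by_contra h1
  exact sq_ne_one_of_odd b hodd h1 h

end

section
variable {K : Type*} [Field K] [Fintype K] [CharP K 3]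

/-- a cyclic Hall subgroup of one of the four orders which is the set of the elements of odd order of
the centralizer of each of its nontrivial elements -/
def IsWardTorus (m : ℕ) (A : Subgroup ↥(tG2 K (3 ^ m))) : Prop :=
  IsCyclic ↥A ∧
  (Nat.card ↥A = (3 ^ (2 * m + 1) - 1) / 2 ∨ Nat.card ↥A = (3 ^ (2 * m + 1) + 1) / 4 ∨
    Nat.card ↥A = 3 ^ (2 * m + 1) - 3 ^ (m + 1) + 1 ∨ Nat.card ↥A = 3 ^ (2 * m + 1) + 3 ^ (m + 1) + 1) ∧
  ∀ a ∈ A, a ≠ 1 → ∀ b : ↥(tG2 K (3 ^ m)), b ∈ A ↔ (b * a = a * b ∧ Odd (orderOf b))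

theorem IsWardTorus.map_conj {m : ℕ} {A : Subgroup ↥(tG2 K (3 ^ m))} (hA : IsWardTorus m A)
    (g : ↥(tG2 K (3 ^ m))) : IsWardTorus m (A.map (MulAut.conj g).toMonoidHom) := by
  obtain ⟨hc, hcard, hprop⟩ := hA
  refine ⟨isCyclic_map_conj A g, by rw [card_map_conj]; exact hcard, ?_⟩
  intro a ha ha1 b
  rw [mem_map_conj_iff] at ha ⊢
  have ha1' : g⁻¹ * a * g ≠ 1 := by
    intro h
    apply ha1
    calc a = g * (g⁻¹ * a * g) * g⁻¹ := by group
      _ = 1 := by rw [h]; group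
  rw [hprop _ ha ha1' (g⁻¹ * b * g), orderOf_conj'']
  constructor
  · rintro ⟨h1, h2⟩
    refine ⟨?_, h2⟩
    calc b * a = g * (g⁻¹ * b * g * (g⁻¹ * a * g)) * g⁻¹ := by group
      _ = g * (g⁻¹ * a * g * (g⁻¹ * b * g)) * g⁻¹ := by rw [h1]
      _ = a * b := by group
  · rintro ⟨h1, h2⟩
    refine ⟨?_, h2⟩
    calc g⁻¹ * b * g * (g⁻¹ * a * g) = g⁻¹ * (b * a) * g := by group
      _ = g⁻¹ * (a * b) * g := by rw [h1]
      _ = _ := by group

/-- the nontrivial elements of a cyclic Hall subgroup are conjugated into it only by the elements of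
its normalizer -/
theorem IsWardTorus.mem_normalizer {m : ℕ} {A : Subgroup ↥(tG2 K (3 ^ m))} (hA : IsWardTorus m A)
    (a s : ↥(tG2 K (3 ^ m))) (ha : a ∈ A) (ha1 : a ≠ 1) (hs : s * a * s⁻¹ ∈ A) :
    s ∈ Subgroup.normalizer (A : Set ↥(tG2 K (3 ^ m))) := by
  obtain ⟨hc, hcard, hprop⟩ := hA
  apply mem_normalizer_of_conj_mem
  intro b hb
  rw [hprop _ hs (conj_ne_one s a ha1), orderOf_conj']
  obtain ⟨h1, h2⟩ := (hprop a ha ha1 b).mp hb
  refine ⟨?_, h2⟩
  calc s * b * s⁻¹ * (s * a * s⁻¹) = s * (b * a) * s⁻¹ := by group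
    _ = s * (a * b) * s⁻¹ := by rw [h1]
    _ = _ := by group

theorem IsWardTorus.odd_of_mem {m : ℕ} {A : Subgroup ↥(tG2 K (3 ^ m))} (hA : IsWardTorus m A)
    (b : ↥(tG2 K (3 ^ m))) (hb : b ∈ A) : Odd (orderOf b) := by
  by_cases hb1 : b = 1
  · rw [hb1, orderOf_one]; exact odd_one
  · exact ((hA.2.2 b hb hb1 b).mp hb).2

/-- the subgroup of index two of the split torus is a cyclic Hall subgroup -/
theorem exists_wardTorus_split (m : ℕ) (hm : 1 ≤ m) (hK : Fintype.card K = 3 ^ (2 * m + 1)) :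
    ∃ A : Subgroup ↥(tG2 K (3 ^ m)), IsWardTorus m A ∧ A ≤ torusSplit (K := K) m ∧
      ∀ b ∈ torusSplit (K := K) m, Odd (orderOf b) → b ∈ A := by
  obtain ⟨A, hAc, hAT, hAcard⟩ := exists_half_torus m hm hK
  obtain ⟨hodd, h2⟩ := half_odd m
  haveI := torusSplit_cyclic (K := K) m hK
  have hoddA : ∀ b ∈ A, Odd (orderOf b) := by
    intro b hb
    have h1 := orderOf_dvd_card_of_mem A _ hb
    rw [hAcard] at h1
    exact Odd.of_dvd_nat hodd h1
  have hmemA : ∀ b ∈ torusSplit (K := K) m, Odd (orderOf b) → b ∈ A := by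
    intro b hb hbo
    apply mem_of_pow_card_eq_one_of_cyclic (torusSplit (K := K) m) A hAT b hb
    rw [hAcard]
    apply orderOf_dvd_iff_pow_eq_one.mp
    have h3 := orderOf_dvd_card_of_mem _ _ hb
    rw [card_torusSplit m hK, h2] at h3
    exact (Nat.Coprime.symm (Nat.coprime_two_left.mpr hbo)).dvd_of_dvd_mul_left h3
  refine ⟨A, ⟨hAc, Or.inl hAcard, ?_⟩, hAT, hmemA⟩
  intro a ha ha1 b
  have ha2 : a * a ≠ 1 := sq_ne_one_of_odd a (hoddA a ha) ha1
  have hC := centralizer_torusSplit m hK a (hAT ha) ha2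
  constructor
  · intro hb
    exact ⟨torusSplit_comm m hK b a (hAT hb) (hAT ha), hoddA b hb⟩
  · rintro ⟨h1, h2⟩
    have hbT : b ∈ torusSplit (K := K) m := by
      rw [← hC]; exact Subgroup.mem_centralizer_singleton_iff.mpr h1
    exact hmemA b hbT h2

/-- the odd part of the nonsplit torus is a cyclic Hall subgroup -/
theorem isWardTorus_torusA (m : ℕ) (hm : 1 ≤ m) (hK : Fintype.card K = 3 ^ (2 * m + 1))
    (g₀ : SpecialLinearGroup (Fin 2) K) (hg₀ : orderOf g₀ = 3 ^ (2 * m + 1) + 1) :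
    IsWardTorus m (torusA (K := K) m g₀) := by
  obtain ⟨k₀, hk₀, hk1, hq⟩ := quarter_odd m hm
  have hk : (3 ^ (2 * m + 1) + 1) / 4 = k₀ := by omega
  have hcard := card_torusA m hm g₀ hg₀
  have hoddA : ∀ b ∈ torusA (K := K) m g₀, Odd (orderOf b) := by
    intro b hb
    have h1 := orderOf_dvd_card_of_mem _ _ hb
    rw [hcard, hk] at h1
    exact Odd.of_dvd_nat hk₀ h1
  refine ⟨by unfold torusA; infer_instance, Or.inr (Or.inl hcard), ?_⟩
  intro a ha ha1 b
  have haD := torusA_le_torusD m hK g₀ ha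
  have ha2 : a * a ≠ 1 := sq_ne_one_of_odd a (hoddA a ha) ha1
  have hC := centralizer_of_sq_ne_torusD m hm hK g₀ hg₀ a haD ha2
  constructor
  · intro hb
    exact ⟨torusD_comm m hK g₀ b a (torusA_le_torusD m hK g₀ hb) haD, hoddA b hb⟩
  · rintro ⟨h1, h2⟩
    have hbD : b ∈ torusD m hK g₀ := by
      rw [← hC]; exact Subgroup.mem_centralizer_singleton_iff.mpr h1
    exact mem_torusA_of_odd m hK g₀ b hbD h2

/-- the centralizer of an element whose order divides `q² - q + 1` is a cyclic Hall subgroup -/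
theorem isWardTorus_centralizer (m : ℕ) (hm : 1 ≤ m) (hK : Fintype.card K = 3 ^ (2 * m + 1))
    (y : ↥(tG2 K (3 ^ m))) (hy : y ∈ ySet K m)
    (hcard : Nat.card ↥(Subgroup.centralizer {y}) = 3 ^ (2 * m + 1) - 3 ^ (m + 1) + 1 ∨
      Nat.card ↥(Subgroup.centralizer {y}) = 3 ^ (2 * m + 1) + 3 ^ (m + 1) + 1) :
    IsWardTorus m (Subgroup.centralizer {y}) := by
  have hoddA : ∀ b ∈ Subgroup.centralizer {y}, Odd (orderOf b) := by
    intro b hb
    have h1 := orderOf_dvd_card_of_mem _ _ hb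
    exact Odd.of_dvd_nat (odd_quad m) (dvd_trans h1 (card_centralizer_dvd_of_ySet m hm hK y hy))
  refine ⟨isCyclic_centralizer_of_ySet m hm hK y hy, Or.inr (Or.inr hcard), ?_⟩
  intro a ha ha1 b
  rw [Subgroup.mem_centralizer_singleton_iff] at ha
  have hC := centralizer_eq_of_ySet m hm hK y a hy ha1 ha
  constructor
  · intro hb
    refine ⟨?_, hoddA b hb⟩
    rw [← hC] at hb
    exact Subgroup.mem_centralizer_singleton_iff.mp hb
  · rintro ⟨h1, -⟩
    rw [← hC]
    exact Subgroup.mem_centralizer_singleton_iff.mpr h1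

/-- every nontrivial element of odd order prime to three lies in a cyclic Hall subgroup -/
theorem exists_wardTorus_of_odd (m : ℕ) (hm : 1 ≤ m) (hK : Fintype.card K = 3 ^ (2 * m + 1))
    (x : ↥(tG2 K (3 ^ m))) (hodd : Odd (orderOf x)) (h3 : ¬ 3 ∣ orderOf x) :
    ∃ A : Subgroup ↥(tG2 K (3 ^ m)), IsWardTorus m A ∧ x ∈ A := by
  haveI : Fact (Nat.Prime 3) := ⟨by norm_num⟩
  obtain ⟨g₀, hg₀⟩ := Cfsg.Agent.Lib.Helper5.exists_orderOf_eq_card_add_one (F := K) 3
  rw [hK] at hg₀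
  have key : ∀ (A : Subgroup ↥(tG2 K (3 ^ m))) (h : ↥(tG2 K (3 ^ m))), IsWardTorus m A → h⁻¹ * x * h ∈ A →
      ∃ A' : Subgroup ↥(tG2 K (3 ^ m)), IsWardTorus m A' ∧ x ∈ A' := by
    intro A h hA hx
    exact ⟨A.map (MulAut.conj h).toMonoidHom, hA.map_conj h, (mem_map_conj_iff A h x).mpr hx⟩
  rcases element_cases m hm hK g₀ hg₀ x with h | h | h | h | h
  · rw [odd_of_sq_eq_one_of_odd x hodd h]
    exact ⟨torusA m g₀, isWardTorus_torusA m hm hK g₀ hg₀, Subgroup.one_mem _⟩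
  · exact absurd h h3
  · obtain ⟨c, hc, -⟩ := h
    obtain ⟨A, hA, -, hmem⟩ := exists_wardTorus_split (K := K) m hm hK
    exact key A c hA (hmem _ hc (by rw [orderOf_conj'']; exact hodd))
  · obtain ⟨c, hc, -⟩ := h
    exact key _ c (isWardTorus_torusA m hm hK g₀ hg₀)
      (mem_torusA_of_odd m hK g₀ _ hc (by rw [orderOf_conj'']; exact hodd))
  · by_cases hx1 : x = 1
    · rw [hx1]
      exact ⟨torusA m g₀, isWardTorus_torusA m hm hK g₀ hg₀, Subgroup.one_mem _⟩
    obtain ⟨y₁, y₂, hy₁, hy₂, -, hall, ha₁, ha₂, -, -⟩ := ward_tori m hm hK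
    rcases hall x ⟨hx1, h⟩ with hx | hx
    · rw [mem_yCls_iff] at hx
      obtain ⟨c, hc, -⟩ := hx
      exact key _ c (isWardTorus_centralizer m hm hK y₁ hy₁ (Or.inl ha₁))
        (Subgroup.mem_centralizer_singleton_iff.mpr hc)
    · rw [mem_yCls_iff] at hx
      obtain ⟨c, hc, -⟩ := hx
      exact key _ c (isWardTorus_centralizer m hm hK y₂ hy₂ (Or.inr ha₂))
        (Subgroup.mem_centralizer_singleton_iff.mpr hc)

end

end Cfsg.Agent.Lib.Helper3.Ree
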