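import Mathlib
import Cfsg.Agent.Lib.Helper3.Ree93
set_option autoImplicit false
set_option linter.unusedSectionVars false
set_option linter.style.haveILetI false
set_option linter.unusedSimpArgs false
open Cfsg Cfsg.Lie

/-!
The normalizers of the four-subgroups of the twisted group of type `G₂`.
-/

namespace Cfsg.Agent.Lib.Helper3.Ree

open Cfsg.Agent.Lib.Helper3.ChevM Cfsg.Agent.Lib.Helper3.SL2P
open Matrix

section
variable {G : Type*} [Group G]

theorem mem_normalizer_map_conj_iff (A : Subgroup G) (g s : G) :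
    s ∈ Subgroup.normalizer ((A.map (MulAut.conj g).toMonoidHom : Subgroup G) : Set G) ↔
      g⁻¹ * s * g ∈ Subgroup.normalizer (A : Set G) := by
  rw [← Subgroup.map_normalizer_eq_of_bijective A (MulAut.conj g).bijective, mem_map_conj_iff]

end

section
variable {K : Type*} [Field K] [Fintype K] [CharP K 3]

/-- an involution commuting with `zG` is conjugate in the centralizer of `zG` to one of the two
other involutions of the nonsplit torus -/
theorem four_group_conj (m : ℕ) (hm : 1 ≤ m) (hK : Fintype.card K = 3 ^ (2 * m + 1))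
    (g₀ : SpecialLinearGroup (Fin 2) K) (hg₀ : orderOf g₀ = 3 ^ (2 * m + 1) + 1)
    (s : ↥(tG2 K (3 ^ m))) (hs2 : s * s = 1) (hs1 : s ≠ 1) (hsz : s ≠ zG m hK)
    (hzs : zG m hK * s = s * zG m hK) :
    ∃ p : ↥(tG2 K (3 ^ m)), p * zG m hK * p⁻¹ = zG m hK ∧
      (p * s * p⁻¹ = tD m g₀ ∨ p * s * p⁻¹ = zG m hK * tD m g₀) := by
  obtain ⟨A, hA⟩ := centralizer_zG m hK s hzs
  have hA2 : psiR m A * psiR m A = 1 := by
    rcases hA with hA | hA
    · rw [← hA]; exact hs2
    · have h1 : s * s = (zG m hK * zG m hK) * (psiR m A * psiR m A) := by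
        rw [hA]
        calc zG m hK * psiR m A * (zG m hK * psiR m A)
            = zG m hK * (psiR m A * zG m hK) * psiR m A := by group
          _ = zG m hK * (zG m hK * psiR m A) * psiR m A := by rw [zG_comm_psiR m hK A]
          _ = _ := by group
      rw [hs2, zG_sq, one_mul] at h1
      exact h1.symm
  have hA1 : psiR m A ≠ 1 := by
    intro h
    rcases hA with hA | hA
    · exact hs1 (by rw [hA, h])
    · exact hsz (by rw [hA, h, mul_one])
  have hAsq : A * A = wE * wE := by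
    have h1 : psiR m (A * A) = psiR m 1 := by rw [map_mul, hA2, map_one]
    rcases psiR_eq_iff m _ _ h1 with h2 | h2
    · exfalso
      rcases Cfsg.Agent.Lib.Helper5.eq_one_or_negOne_of_mul_self two_ne_zero_three' A h2 with h3 | h3
      · exact hA1 (by rw [h3, map_one])
      · exact hA1 (by rw [h3, ← negE_eq, psiR_wE_sq])
    · rw [h2, mul_one]
  obtain ⟨P, hP⟩ := isConj_iff.mp (isConj_of_sq A (t0 m g₀) hAsq (t0_sq m hm g₀ hg₀))
  have hPs : psiR m P * psiR m A * (psiR m P)⁻¹ = tD m g₀ := by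
    rw [tD_eq, ← hP, map_mul, map_mul, map_inv]
  have hPz : psiR m P * zG m hK * (psiR m P)⁻¹ = zG m hK := by
    rw [← zG_comm_psiR m hK P]; group
  refine ⟨psiR m P, hPz, ?_⟩
  rcases hA with hA | hA
  · left; rw [hA, hPs]
  · right
    rw [hA]
    calc psiR m P * (zG m hK * psiR m A) * (psiR m P)⁻¹
        = (psiR m P * zG m hK * (psiR m P)⁻¹) * (psiR m P * psiR m A * (psiR m P)⁻¹) := by group
      _ = _ := by rw [hPz, hPs]

theorem ncard_four_group (m : ℕ) (hm : 1 ≤ m) (hK : Fintype.card K = 3 ^ (2 * m + 1))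
    (g₀ : SpecialLinearGroup (Fin 2) K) (hg₀ : orderOf g₀ = 3 ^ (2 * m + 1) + 1) :
    ({1, zG m hK, tD m g₀, zG m hK * tD m g₀} : Set ↥(tG2 K (3 ^ m))).ncard = 4 := by
  obtain ⟨hne1, hne2⟩ := zG_mul_tD_ne m hm hK g₀ hg₀
  rw [Set.ncard_eq_succ (Set.toFinite _)]
  refine ⟨1, {zG m hK, tD m g₀, zG m hK * tD m g₀}, ?_, rfl, ?_⟩
  · simp only [Set.mem_insert_iff, Set.mem_singleton_iff, not_or]
    refine ⟨(zG_ne_one m hK).symm, (tD_ne_one m hm g₀ hg₀).symm, ?_⟩
    intro h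
    apply zG_ne_tD (K := K) m hK g₀
    have ht2 := tD_sq m hm g₀ hg₀
    calc zG m hK = zG m hK * tD m g₀ * tD m g₀ := by rw [mul_assoc, ht2, mul_one]
      _ = tD m g₀ := by rw [← h, one_mul]
  · rw [Set.ncard_eq_three]
    exact ⟨_, _, _, zG_ne_tD m hK g₀, fun h => hne1 h.symm, fun h => hne2 h.symm, rfl⟩

/-- a subgroup of order four containing `zG` and `tD` lies in the nonsplit torus -/
theorem four_group_le_torusD (m : ℕ) (hm : 1 ≤ m) (hK : Fintype.card K = 3 ^ (2 * m + 1))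
    (g₀ : SpecialLinearGroup (Fin 2) K) (hg₀ : orderOf g₀ = 3 ^ (2 * m + 1) + 1)
    (V : Subgroup ↥(tG2 K (3 ^ m))) (hV4 : Nat.card ↥V = 4) (hz : zG m hK ∈ V) (ht : tD m g₀ ∈ V) :
    V ≤ torusD m hK g₀ := by
  have hsub : ({1, zG m hK, tD m g₀, zG m hK * tD m g₀} : Set ↥(tG2 K (3 ^ m))) ⊆ (V : Set ↥(tG2 K (3 ^ m))) := by
    intro x hx
    simp only [Set.mem_insert_iff, Set.mem_singleton_iff] at hx
    rcases hx with rfl | rfl | rfl | rfl
    · exact V.one_mem
    · exact hz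
    · exact ht
    · exact V.mul_mem hz ht
  have heq := Set.eq_of_subset_of_ncard_le hsub
    (by rw [ncard_four_group m hm hK g₀ hg₀, ← Nat.card_coe_set_eq]; exact hV4.le) (Set.toFinite _)
  intro x hx
  have hx' : x ∈ ({1, zG m hK, tD m g₀, zG m hK * tD m g₀} : Set ↥(tG2 K (3 ^ m))) := by
    rw [heq]; exact hx
  simp only [Set.mem_insert_iff, Set.mem_singleton_iff] at hx'
  rcases hx' with rfl | rfl | rfl | rfl
  · exact Subgroup.one_mem _
  · exact zG_mem_torusD m hK g₀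
  · exact tD_mem_torusD m hK g₀
  · exact Subgroup.mul_mem _ (zG_mem_torusD m hK g₀) (tD_mem_torusD m hK g₀)

/-- the normalizer of the four-group of the nonsplit torus normalizes the torus -/
theorem normalizer_four_le (m : ℕ) (hm : 1 ≤ m) (hK : Fintype.card K = 3 ^ (2 * m + 1))
    (g₀ : SpecialLinearGroup (Fin 2) K) (hg₀ : orderOf g₀ = 3 ^ (2 * m + 1) + 1)
    (V : Subgroup ↥(tG2 K (3 ^ m))) (hV4 : Nat.card ↥V = 4) (hz : zG m hK ∈ V) (ht : tD m g₀ ∈ V) :
    Subgroup.normalizer (V : Set ↥(tG2 K (3 ^ m))) ≤ nD m hK g₀ := by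
  have hVD := four_group_le_torusD m hm hK g₀ hg₀ V hV4 hz ht
  intro n hn
  apply mem_normalizer_torusD_of_cV m hm hK g₀ hg₀
  intro x hx
  have key : ∀ w ∈ V, (n * x * n⁻¹) * w = w * (n * x * n⁻¹) := by
    intro w hw
    have hw' : n⁻¹ * w * n ∈ V := by
      rw [Subgroup.mem_normalizer_iff] at hn
      rw [hn (n⁻¹ * w * n)]
      have : n * (n⁻¹ * w * n) * n⁻¹ = w := by group
      rw [this]; exact hw
    have hc := torusD_comm m hK g₀ x _ hx (hVD hw')
    calc n * x * n⁻¹ * w = n * (x * (n⁻¹ * w * n)) * n⁻¹ := by group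
      _ = n * ((n⁻¹ * w * n) * x) * n⁻¹ := by rw [hc]
      _ = _ := by group
  exact Subgroup.mem_inf.mpr ⟨Subgroup.mem_centralizer_singleton_iff.mpr (key _ hz),
    Subgroup.mem_centralizer_singleton_iff.mpr (key _ ht)⟩

/-- the normalizer of a subgroup of order four normalizes a cyclic Hall subgroup -/
theorem exists_wardTorus_of_four (m : ℕ) (hm : 1 ≤ m) (hK : Fintype.card K = 3 ^ (2 * m + 1))
    (V : Subgroup ↥(tG2 K (3 ^ m))) (hV4 : Nat.card ↥V = 4) :
    ∃ A : Subgroup ↥(tG2 K (3 ^ m)), IsWardTorus m A ∧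
      Subgroup.normalizer (V : Set ↥(tG2 K (3 ^ m))) ≤ Subgroup.normalizer (A : Set ↥(tG2 K (3 ^ m))) := by
  haveI : Fact (Nat.Prime 3) := ⟨by norm_num⟩
  haveI : Fact (Nat.Prime 2) := ⟨Nat.prime_two⟩
  obtain ⟨g₀, hg₀⟩ := Cfsg.Agent.Lib.Helper5.exists_orderOf_eq_card_add_one (F := K) 3
  rw [hK] at hg₀
  -- `V` has exponent two
  have hVp : IsPGroup 2 ↥V := IsPGroup.of_card (n := 2) (by rw [hV4]; norm_num)
  obtain ⟨P, hP⟩ := hVp.exists_le_sylow
  have hexp : ∀ x ∈ V, x * x = 1 := fun x hx => (ree_sylow_two m hK P).2 x (hP hx)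
  have hcomm := comm_of_exp_two V hexp
  -- two involutions of `V`
  obtain ⟨u, hu1⟩ : ∃ u : ↥V, u ≠ 1 := by
    haveI : Nontrivial ↥V := by
      rw [← Finite.one_lt_card_iff_nontrivial, hV4]; norm_num
    exact exists_ne 1
  have hu1' : (u : ↥(tG2 K (3 ^ m))) ≠ 1 := fun h => hu1 (Subtype.ext h)
  have huo : orderOf (u : ↥(tG2 K (3 ^ m))) = 2 := (orderOf_eq_two_iff' _).mpr ⟨hexp u u.2, hu1'⟩
  have hlt : Subgroup.zpowers (u : ↥(tG2 K (3 ^ m))) < V := by
    apply lt_of_le_of_ne (by rw [Subgroup.zpowers_le]; exact u.2)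
    intro h
    have := congrArg (fun H : Subgroup ↥(tG2 K (3 ^ m)) => Nat.card ↥H) h
    simp only [Nat.card_zpowers, huo, hV4] at this
    omega
  obtain ⟨v, hvV, hvu⟩ := SetLike.exists_of_lt hlt
  have hv1 : v ≠ 1 := fun h => hvu (by rw [h]; exact Subgroup.one_mem _)
  have hvu' : v ≠ u := fun h => hvu (by rw [h]; exact Subgroup.mem_zpowers _)
  -- conjugate `u` to `zG`
  obtain ⟨g, hg⟩ := involution_conj m hm hK u (hexp u u.2) hu1'
  set s := g⁻¹ * v * g with hs
  have hs2 : s * s = 1 := by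
    calc s * s = g⁻¹ * (v * v) * g := by rw [hs]; group
      _ = 1 := by rw [hexp v hvV]; group
  have hs1 : s ≠ 1 := by
    intro h
    apply hv1
    calc v = g * s * g⁻¹ := by rw [hs]; group
      _ = 1 := by rw [h]; group
  have hsz : s ≠ zG m hK := by
    intro h
    apply hvu'
    calc v = g * s * g⁻¹ := by rw [hs]; group
      _ = u := by rw [h, hg]
  have hzs : zG m hK * s = s * zG m hK := by
    have h1 : zG m hK = g⁻¹ * u * g := by rw [← hg]; group
    rw [h1, hs]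
    calc g⁻¹ * ↑u * g * (g⁻¹ * v * g) = g⁻¹ * (↑u * v) * g := by group
      _ = g⁻¹ * (v * ↑u) * g := by rw [hcomm _ u.2 _ hvV]
      _ = _ := by group
  obtain ⟨p, hpz, hps⟩ := four_group_conj m hm hK g₀ hg₀ s hs2 hs1 hsz hzs
  -- the conjugate of `V`
  set h := p * g⁻¹ with hh
  have hhz : h⁻¹ * zG m hK * h = u := by
    have h1 : p⁻¹ * zG m hK * p = zG m hK := by
      calc p⁻¹ * zG m hK * p = p⁻¹ * (p * zG m hK * p⁻¹) * p := by rw [hpz]
        _ = zG m hK := by group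
    calc h⁻¹ * zG m hK * h = g * (p⁻¹ * zG m hK * p) * g⁻¹ := by rw [hh]; group
      _ = u := by rw [h1, hg]
  have hhs : h⁻¹ * (p * s * p⁻¹) * h = v := by
    rw [hh, hs]; group
  have hht : h⁻¹ * tD m g₀ * h ∈ V := by
    rcases hps with e | e
    · rw [← e, hhs]; exact hvV
    · have h1 : tD m g₀ = zG m hK * (p * s * p⁻¹) := by
        rw [e, ← mul_assoc, zG_sq, one_mul]
      have h2 : h⁻¹ * tD m g₀ * h = (h⁻¹ * zG m hK * h) * (h⁻¹ * (p * s * p⁻¹) * h) := by
        rw [h1]; group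
      rw [h2, hhz, hhs]
      exact V.mul_mem u.2 hvV
  set V₂ := V.map (MulAut.conj h).toMonoidHom with hV₂
  have hV₂4 : Nat.card ↥V₂ = 4 := by rw [hV₂, card_map_conj]; exact hV4
  have hzV₂ : zG m hK ∈ V₂ := by rw [hV₂, mem_map_conj_iff, hhz]; exact u.2
  have htV₂ : tD m g₀ ∈ V₂ := by rw [hV₂, mem_map_conj_iff]; exact hht
  have hN₂ := normalizer_four_le m hm hK g₀ hg₀ V₂ hV₂4 hzV₂ htV₂
  have hAne : torusA (K := K) m g₀ ≠ ⊥ := by
    intro h0
    have hc := card_torusA m hm g₀ hg₀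
    rw [h0, Subgroup.card_bot] at hc
    have := q_ge_27 m hm
    omega
  have hNA := normalizer_sub_torusA m hm hK g₀ hg₀ (torusA m g₀) le_rfl hAne
  refine ⟨(torusA m g₀).map (MulAut.conj h⁻¹).toMonoidHom, (isWardTorus_torusA m hm hK g₀ hg₀).map_conj _, ?_⟩
  intro n hn
  rw [mem_normalizer_map_conj_iff, inv_inv, hNA]
  apply hN₂
  rw [hV₂, mem_normalizer_map_conj_iff]
  have : h⁻¹ * (h * n * h⁻¹) * h = n := by group
  rw [this]; exact hn

end

end Cfsg.Agent.Lib.Helper3.Ree
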