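import Mathlib
import Cfsg.Agent.Lib.Helper3.Ree94
set_option autoImplicit false
set_option linter.unusedSectionVars false
set_option linter.style.haveILetI false
set_option linter.unusedSimpArgs false
open Cfsg Cfsg.Lie

/-!
Subgroups of the twisted group of type `G₂` normalizing a nontrivial abelian subgroup.
-/

namespace Cfsg.Agent.Lib.Helper3.Ree

open Cfsg.Agent.Lib.Helper3.ChevM Cfsg.Agent.Lib.Helper3.SL2P
open Matrix

section
variable {K : Type*} [Field K] [Fintype K] [CharP K 3]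

/-- a subgroup normalizing a Sylow `2`-subgroup, a Sylow `3`-subgroup or a cyclic Hall subgroup -/
def SolvGood (m : ℕ) (S : Subgroup ↥(tG2 K (3 ^ m))) : Prop :=
  ∃ A : Subgroup ↥(tG2 K (3 ^ m)), S ≤ Subgroup.normalizer (A : Set ↥(tG2 K (3 ^ m))) ∧
    ((∃ P : Sylow 2 ↥(tG2 K (3 ^ m)), A = P) ∨
     (∃ P : Sylow 3 ↥(tG2 K (3 ^ m)), A = P) ∨
     (IsCyclic A ∧ (Nat.card A = (3 ^ (2 * m + 1) - 1) / 2 ∨ Nat.card A = (3 ^ (2 * m + 1) + 1) / 4 ∨
        Nat.card A = 3 ^ (2 * m + 1) - 3 ^ (m + 1) + 1 ∨ Nat.card A = 3 ^ (2 * m + 1) + 3 ^ (m + 1) + 1)))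

theorem solvGood_of_wardTorus (m : ℕ) (S A : Subgroup ↥(tG2 K (3 ^ m))) (hA : IsWardTorus m A)
    (hS : S ≤ Subgroup.normalizer (A : Set ↥(tG2 K (3 ^ m)))) : SolvGood m S :=
  ⟨A, hS, Or.inr (Or.inr ⟨hA.1, hA.2.1⟩)⟩

/-- a subgroup normalizing an abelian subgroup whose order is divisible by a prime greater than
three -/
theorem solvGood_of_abelian_prime (m : ℕ) (hm : 1 ≤ m) (hK : Fintype.card K = 3 ^ (2 * m + 1))
    (S V : Subgroup ↥(tG2 K (3 ^ m))) (hSV : S ≤ Subgroup.normalizer (V : Set ↥(tG2 K (3 ^ m))))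
    (hab : ∀ a ∈ V, ∀ b ∈ V, a * b = b * a) (p : ℕ) [hp : Fact p.Prime] (hp3 : 3 < p)
    (hpV : p ∣ Nat.card ↥V) : SolvGood m S := by
  obtain ⟨x, hx⟩ := exists_prime_orderOf_dvd_card' (G := ↥V) p hpV
  rw [← Subgroup.orderOf_coe] at hx
  have hpodd : Odd p := hp.out.odd_of_ne_two (by omega)
  have hx1 : (x : ↥(tG2 K (3 ^ m))) ≠ 1 := ne_one_of_orderOf_prime _ p hp.out hx
  obtain ⟨A, hA, hxA⟩ := exists_wardTorus_of_odd m hm hK (x : ↥(tG2 K (3 ^ m))) (by rw [hx]; exact hpodd)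
    (by
      rw [hx]
      intro h
      have := (Nat.prime_dvd_prime_iff_eq (by norm_num) hp.out).mp h
      omega)
  apply solvGood_of_wardTorus m S A hA
  intro s hs
  apply hA.mem_normalizer (x : ↥(tG2 K (3 ^ m))) s hxA hx1
  have hsV : s * x * s⁻¹ ∈ V := (Subgroup.mem_normalizer_iff.mp (hSV hs) x).mp x.2
  rw [hA.2.2 _ hxA hx1]
  exact ⟨hab _ hsV _ x.2, by rw [orderOf_conj', hx]; exact hpodd⟩

/-- a subgroup normalizing an abelian subgroup whose order is divisible by three -/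
theorem solvGood_of_abelian_three (m : ℕ) (hK : Fintype.card K = 3 ^ (2 * m + 1))
    (S V : Subgroup ↥(tG2 K (3 ^ m))) (hSV : S ≤ Subgroup.normalizer (V : Set ↥(tG2 K (3 ^ m))))
    (hab : ∀ a ∈ V, ∀ b ∈ V, a * b = b * a) (h3V : 3 ∣ Nat.card ↥V) : SolvGood m S := by
  haveI : Fact (Nat.Prime 3) := ⟨by norm_num⟩
  obtain ⟨x, hx⟩ := exists_prime_orderOf_dvd_card' (G := ↥V) 3 h3V
  rw [← Subgroup.orderOf_coe] at hx
  have hx1 : (x : ↥(tG2 K (3 ^ m))) ≠ 1 := ne_one_of_orderOf_prime _ 3 (by norm_num) hx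
  -- the elements of `V` of exponent three
  let V₃ : Subgroup ↥(tG2 K (3 ^ m)) :=
    { carrier := {v | v ∈ V ∧ v ^ 3 = 1}
      one_mem' := ⟨V.one_mem, one_pow 3⟩
      mul_mem' := by
        rintro a b ⟨ha, ha3⟩ ⟨hb, hb3⟩
        refine ⟨V.mul_mem ha hb, ?_⟩
        rw [(show Commute a b from hab a ha b hb).mul_pow, ha3, hb3, one_mul]
      inv_mem' := by
        rintro a ⟨ha, ha3⟩
        exact ⟨V.inv_mem ha, by rw [inv_pow, ha3, inv_one]⟩ }
  have hV₃p : IsPGroup 3 ↥V₃ := by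
    intro v
    refine ⟨1, ?_⟩
    apply Subtype.ext
    rw [pow_one, Subgroup.coe_pow, Subgroup.coe_one]
    exact v.2.2
  obtain ⟨P, hP⟩ := hV₃p.exists_le_sylow
  have hxV₃ : (x : ↥(tG2 K (3 ^ m))) ∈ V₃ := by
    refine ⟨x.2, ?_⟩
    have h0 := pow_orderOf_eq_one (x : ↥(tG2 K (3 ^ m)))
    rw [hx] at h0
    exact h0
  refine ⟨P, ?_, Or.inr (Or.inl ⟨P, rfl⟩)⟩
  intro s hs
  by_contra hn
  have hne : s • P ≠ P := fun h => hn (Sylow.smul_eq_iff_mem_normalizer.mp h)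
  have h1 := ree_sylow_ti m hK (s • P) P hne
  have h2 : (x : ↥(tG2 K (3 ^ m))) ∈ ((s • P : Sylow 3 ↥(tG2 K (3 ^ m))) : Subgroup ↥(tG2 K (3 ^ m))) ⊓ P := by
    refine Subgroup.mem_inf.mpr ⟨?_, hP hxV₃⟩
    rw [Sylow.coe_subgroup_smul, Cfsg.Agent.Lib.Helper3.mem_conj_smul_iff]
    apply hP
    have hs' : s⁻¹ ∈ Subgroup.normalizer (V : Set ↥(tG2 K (3 ^ m))) := Subgroup.inv_mem _ (hSV hs)
    have h3 := (Subgroup.mem_normalizer_iff.mp hs' x).mp x.2
    rw [inv_inv] at h3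
    refine ⟨h3, ?_⟩
    have h4 : (s⁻¹ * ↑x * s) ^ 3 = s⁻¹ * (x : ↥(tG2 K (3 ^ m))) ^ 3 * s := by
      have := conj_pow (a := s⁻¹) (b := (x : ↥(tG2 K (3 ^ m)))) (i := 3)
      rw [inv_inv] at this
      exact this
    rw [h4, hxV₃.2]; group
  rw [h1, Subgroup.mem_bot] at h2
  exact hx1 h2

/-- a subgroup normalizing a subgroup of order eight -/
theorem solvGood_of_eight (m : ℕ) (hK : Fintype.card K = 3 ^ (2 * m + 1))
    (S V : Subgroup ↥(tG2 K (3 ^ m))) (hSV : S ≤ Subgroup.normalizer (V : Set ↥(tG2 K (3 ^ m))))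
    (hV8 : Nat.card ↥V = 8) : SolvGood m S := by
  haveI : Fact (Nat.Prime 2) := ⟨Nat.prime_two⟩
  obtain ⟨k, hk, hG⟩ := card_tG2_eq (K := K) m hK
  have hfac := factorization_two_of_eight_mul _ k hk hG
  refine ⟨V, hSV, Or.inl ⟨Sylow.ofCard V (by rw [hV8, hfac]; norm_num), (Sylow.coe_ofCard _ _).symm⟩⟩

/-- a two-subgroup normalizes a Sylow `2`-subgroup -/
theorem solvGood_of_two_group (m : ℕ) (hK : Fintype.card K = 3 ^ (2 * m + 1))
    (S : Subgroup ↥(tG2 K (3 ^ m))) (hS : IsPGroup 2 ↥S) : SolvGood m S := by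
  haveI : Fact (Nat.Prime 2) := ⟨Nat.prime_two⟩
  obtain ⟨P, hP⟩ := hS.exists_le_sylow
  exact ⟨P, le_trans hP Subgroup.le_normalizer, Or.inl ⟨P, rfl⟩⟩

/-- a subgroup normalizing a nontrivial abelian subgroup whose order is not two -/
theorem solvGood_of_abelian (m : ℕ) (hm : 1 ≤ m) (hK : Fintype.card K = 3 ^ (2 * m + 1))
    (S V : Subgroup ↥(tG2 K (3 ^ m))) (hSV : S ≤ Subgroup.normalizer (V : Set ↥(tG2 K (3 ^ m))))
    (hab : ∀ a ∈ V, ∀ b ∈ V, a * b = b * a) (hV : V ≠ ⊥) :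
    SolvGood m S ∨ Nat.card ↥V = 2 := by
  haveI : Fact (Nat.Prime 2) := ⟨Nat.prime_two⟩
  rcases Nat.eq_two_pow_or_exists_odd_prime_and_dvd (Nat.card ↥V) with ⟨k, hk⟩ | ⟨p, hp, hpV, hpodd⟩
  · have hVp : IsPGroup 2 ↥V := IsPGroup.of_card hk
    obtain ⟨P, hP⟩ := hVp.exists_le_sylow
    have hd := Subgroup.card_dvd_of_le hP
    have h8 : Nat.card ↥(P : Subgroup ↥(tG2 K (3 ^ m))) = 8 := (ree_sylow_two m hK P).1
    rw [h8, hk] at hd
    have hk3 : k ≤ 3 := by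
      by_contra h
      push Not at h
      have h16 : 2 ^ 4 ∣ 2 ^ k := pow_dvd_pow 2 h
      have := Nat.le_of_dvd (by norm_num) (dvd_trans h16 hd)
      omega
    interval_cases k
    · exfalso
      apply hV
      rw [← Subgroup.card_eq_one]
      simpa using hk
    · right; simpa using hk
    · left
      obtain ⟨A, hA, hNA⟩ := exists_wardTorus_of_four m hm hK V (by simpa using hk)
      exact solvGood_of_wardTorus m S A hA (le_trans hSV hNA)
    · left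
      exact solvGood_of_eight m hK S V hSV (by simpa using hk)
  · left
    haveI : Fact p.Prime := ⟨hp⟩
    by_cases hp3 : p = 3
    · rw [hp3] at hpV
      exact solvGood_of_abelian_three m hK S V hSV hab hpV
    · have h2 : p ≠ 2 := by
        rintro rfl
        exact (Nat.not_odd_iff_even.mpr (by decide)) hpodd
      have := hp.two_le
      exact solvGood_of_abelian_prime m hm hK S V hSV hab p (by omega) hpV

end

end Cfsg.Agent.Lib.Helper3.Ree
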