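import Mathlib
import Cfsg.Agent.Lib.Helper3.Ree95
set_option autoImplicit false
set_option linter.unusedSectionVars false
set_option linter.style.haveILetI false
set_option linter.unusedSimpArgs false
open Cfsg Cfsg.Lie

/-!
Solvable groups all of whose nontrivial normal abelian subgroups have order two.
-/

namespace Cfsg.Agent.Lib.Helper3.Ree

section
variable {H : Type*} [Group H]

theorem eq_of_card_two (V : Subgroup H) (hV2 : Nat.card ↥V = 2) (a b : H) (ha : a ∈ V) (hb : b ∈ V)
    (ha1 : a ≠ 1) (hb1 : b ≠ 1) : a = b := by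
  by_contra hab
  haveI : Finite ↥V := Nat.finite_of_card_ne_zero (by rw [hV2]; norm_num)
  have h3 : 3 ≤ Nat.card ↥V := by
    classical
    haveI : Fintype ↥V := Fintype.ofFinite _
    rw [Nat.card_eq_fintype_card]
    have hF : ({⟨1, V.one_mem⟩, ⟨a, ha⟩, ⟨b, hb⟩} : Finset ↥V).card = 3 := by
      rw [Finset.card_eq_three]
      refine ⟨_, _, _, ?_, ?_, ?_, rfl⟩
      · intro h; exact ha1 (congrArg Subtype.val h).symm
      · intro h; exact hb1 (congrArg Subtype.val h).symm
      · intro h; exact hab (congrArg Subtype.val h)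
    rw [← hF]
    exact Finset.card_le_univ _
  omega

theorem sq_eq_one_of_card_two (V : Subgroup H) (hV2 : Nat.card ↥V = 2) (a : H) (ha : a ∈ V) :
    a * a = 1 := by
  have h := pow_card_eq_one' (G := ↥V) (x := ⟨a, ha⟩)
  rw [hV2] at h
  have h2 := congrArg Subtype.val h
  rw [Subgroup.coe_pow, pow_two] at h2
  exact h2

/-- a normal subgroup of order two is central -/
theorem central_of_card_two (V : Subgroup H) [hn : V.Normal] (hV2 : Nat.card ↥V = 2) (v s : H) (hv : v ∈ V) :
    s * v = v * s := by
  by_cases hv1 : v = 1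
  · rw [hv1, mul_one, one_mul]
  have h1 : s * v * s⁻¹ ∈ V := hn.conj_mem v hv s
  have h2 : s * v * s⁻¹ ≠ 1 := by
    intro h
    apply hv1
    calc v = s⁻¹ * (s * v * s⁻¹) * s := by group
      _ = 1 := by rw [h]; group
  have h3 := eq_of_card_two V hV2 _ _ h1 hv h2 hv1
  calc s * v = (s * v * s⁻¹) * s := by group
    _ = v * s := by rw [h3]

/-- a solvable group in which every nontrivial normal abelian subgroup has order two, and the
subgroups of exponent dividing four are abelian, has order at most two -/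
theorem solvable_reduction (Φ : Prop) [hsolv : Group.IsSolvable H]
    (h1 : ∀ V : Subgroup H, V.Normal → (∀ a ∈ V, ∀ b ∈ V, a * b = b * a) → V ≠ ⊥ → Φ ∨ Nat.card ↥V = 2)
    (h2 : ∀ W : Subgroup H, (∀ a ∈ W, a ^ 4 = 1) → ∀ a ∈ W, ∀ b ∈ W, a * b = b * a)
    (h3 : Nat.card H = 2 → Φ) (h0 : Subsingleton H → Φ) : Φ := by
  classical
  by_cases hsub : Subsingleton H
  · exact h0 hsub
  haveI : Nontrivial H := not_subsingleton_iff_nontrivial.mp hsub
  have hex : ∃ n, derivedSeries H n = ⊥ := hsolv.solvable
  set n := Nat.find hex with hn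
  have hn0 : n ≠ 0 := by
    intro h
    have := Nat.find_spec hex
    rw [← hn, h, derivedSeries_zero] at this
    exact top_ne_bot this
  obtain ⟨k, hk⟩ : ∃ k, n = k + 1 := ⟨n - 1, by omega⟩
  have hDn : derivedSeries H (k + 1) = ⊥ := by rw [← hk]; exact Nat.find_spec hex
  have hDk : derivedSeries H k ≠ ⊥ := Nat.find_min hex (by omega)
  have hVab : ∀ a ∈ derivedSeries H k, ∀ b ∈ derivedSeries H k, a * b = b * a := by
    intro a ha b hb
    rw [derivedSeries_succ, Subgroup.commutator_eq_bot_iff_le_centralizer] at hDn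
    exact ((Subgroup.mem_centralizer_iff.mp (hDn ha)) b hb).symm
  rcases h1 _ (derivedSeries_normal H k) hVab hDk with hΦ | hV2
  · exact hΦ
  rcases Nat.eq_zero_or_pos k with hk0 | hkpos
  · -- `H` is abelian of order two
    apply h3
    rw [hk0, derivedSeries_zero] at hV2
    rw [← hV2]
    exact (Nat.card_congr Subgroup.topEquiv.toEquiv).symm
  obtain ⟨j, hj⟩ : ∃ j, k = j + 1 := ⟨k - 1, by omega⟩
  set V := derivedSeries H k with hVdef
  set W := derivedSeries H j with hWdef
  haveI hVn : V.Normal := derivedSeries_normal H k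
  haveI hWn : W.Normal := derivedSeries_normal H j
  have hVW : V ≤ W := by
    rw [hVdef, hWdef, hj]
    exact derivedSeries_antitone H (Nat.le_succ j)
  have hcomm : ∀ a ∈ W, ∀ b ∈ W, a * b * a⁻¹ * b⁻¹ ∈ V := by
    intro a ha b hb
    have h5 := Subgroup.commutator_mem_commutator ha hb
    rw [commutatorElement_def] at h5
    rw [hVdef, hj, derivedSeries_succ]
    exact h5
  have hVc : ∀ v ∈ V, ∀ s : H, s * v = v * s := fun v hv s => central_of_card_two V hV2 v s hv
  -- the center of `W`
  set U := W ⊓ Subgroup.centralizer (W : Set H) with hUdef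
  haveI hUn : U.Normal := Subgroup.normal_inf_normal _ _
  have hVU : V ≤ U := by
    intro v hv
    refine Subgroup.mem_inf.mpr ⟨hVW hv, ?_⟩
    rw [Subgroup.mem_centralizer_iff]
    intro w _
    exact hVc v hv w
  have hUne : U ≠ ⊥ := by
    intro h
    apply hDk
    rw [eq_bot_iff, ← h]
    exact hVU
  have hUab : ∀ a ∈ U, ∀ b ∈ U, a * b = b * a := by
    intro a ha b hb
    have h4 := (Subgroup.mem_inf.mp ha).2
    rw [Subgroup.mem_centralizer_iff] at h4
    exact (h4 b (Subgroup.mem_inf.mp hb).1).symm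
  rcases h1 U hUn hUab hUne with hΦ | hU2
  · exact hΦ
  exfalso
  haveI : Finite ↥U := Nat.finite_of_card_ne_zero (by rw [hU2]; norm_num)
  have hUV : V = U := Subgroup.eq_of_le_of_card_ge hVU (by rw [hU2, hV2])
  -- the squares of the elements of `W` are central in `W`
  have hsq : ∀ a ∈ W, a * a ∈ U := by
    intro a ha
    refine Subgroup.mem_inf.mpr ⟨W.mul_mem ha ha, ?_⟩
    rw [Subgroup.mem_centralizer_iff]
    intro b hb
    set c := a * b * a⁻¹ * b⁻¹ with hc
    have hcV := hcomm a ha b hb
    have hc2 : c * c = 1 := sq_eq_one_of_card_two V hV2 c hcV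
    have hab : a * b = c * b * a := by rw [hc]; group
    have hca : a * c = c * a := hVc c hcV a
    calc b * (a * a) = 1 * b * a * a := by group
      _ = (c * c) * b * a * a := by rw [hc2]
      _ = c * (c * b * a) * a := by group
      _ = c * (a * b) * a := by rw [hab]
      _ = (c * a) * b * a := by group
      _ = (a * c) * b * a := by rw [hca]
      _ = a * (c * b * a) := by group
      _ = a * (a * b) := by rw [hab]
      _ = a * a * b := by group
  have h4 : ∀ a ∈ W, a ^ 4 = 1 := by
    intro a ha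
    have h5 := hsq a ha
    rw [← hUV] at h5
    have := sq_eq_one_of_card_two V hV2 _ h5
    calc a ^ 4 = a * a * (a * a) := by rw [show 4 = 2 + 2 from rfl, pow_add, pow_two]
      _ = 1 := this
  have hWab := h2 W h4
  apply hDk
  rw [hVdef, hj, derivedSeries_succ, Subgroup.commutator_eq_bot_iff_le_centralizer]
  intro a ha
  rw [Subgroup.mem_centralizer_iff]
  intro b hb
  exact hWab b hb a ha

end

end Cfsg.Agent.Lib.Helper3.Ree
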