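import Mathlib
import Cfsg.Agent.Lib.Helper3.Ree96
set_option autoImplicit false
set_option linter.unusedSectionVars false
set_option linter.style.haveILetI false
set_option linter.unusedSimpArgs false
open Cfsg Cfsg.Lie

/-!
The solvable subgroups of the twisted group of type `G₂` normalize a Sylow `2`-subgroup, a Sylow
`3`-subgroup or a cyclic Hall subgroup.
-/

namespace Cfsg.Agent.Lib.Helper3.Ree

open Cfsg.Agent.Lib.Helper3.ChevM Cfsg.Agent.Lib.Helper3.SL2P
open Matrix

section
variable {G : Type*} [Group G]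

theorem le_normalizer_map_subtype (S : Subgroup G) (V : Subgroup ↥S) [hVn : V.Normal]
    [Finite ↥(V.map S.subtype)] :
    S ≤ Subgroup.normalizer ((V.map S.subtype : Subgroup G) : Set G) := by
  intro s hs
  apply mem_normalizer_of_conj_mem
  intro x hx
  obtain ⟨v, hv, rfl⟩ := Subgroup.mem_map.mp hx
  refine Subgroup.mem_map.mpr ⟨(⟨s, hs⟩ : ↥S) * v * (⟨s, hs⟩ : ↥S)⁻¹, hVn.conj_mem v hv ⟨s, hs⟩, ?_⟩
  rw [map_mul, map_mul, map_inv]
  rfl

theorem comm_map_subtype (S : Subgroup G) (V : Subgroup ↥S) (hVab : ∀ a ∈ V, ∀ b ∈ V, a * b = b * a) :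
    ∀ a ∈ V.map S.subtype, ∀ b ∈ V.map S.subtype, a * b = b * a := by
  intro a ha b hb
  obtain ⟨a', ha', rfl⟩ := Subgroup.mem_map.mp ha
  obtain ⟨b', hb', rfl⟩ := Subgroup.mem_map.mp hb
  rw [← map_mul, ← map_mul, hVab a' ha' b' hb']

theorem isPGroup_map_subtype_of_pow_four (S : Subgroup G) (W : Subgroup ↥S) (hW : ∀ a ∈ W, a ^ 4 = 1) :
    IsPGroup 2 ↥(W.map S.subtype) := by
  intro x
  refine ⟨2, ?_⟩
  obtain ⟨w, hw, hx⟩ := Subgroup.mem_map.mp x.2
  apply Subtype.ext
  rw [Subgroup.coe_pow, Subgroup.coe_one, ← hx, ← map_pow]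
  have : w ^ 2 ^ 2 = 1 := hW w hw
  rw [this, map_one]

end

section
variable {K : Type*} [Field K] [Fintype K] [CharP K 3]

theorem solvable_ree (m : ℕ) (hm : 1 ≤ m) (hK : Fintype.card K = 3 ^ (2 * m + 1))
    (S : Subgroup ↥(tG2 K (3 ^ m))) (hS : Group.IsSolvable ↥S) : SolvGood m S := by
  haveI : Fact (Nat.Prime 2) := ⟨Nat.prime_two⟩
  apply solvable_reduction (H := ↥S) (SolvGood m S)
  · -- normal abelian subgroups
    intro V hVn hVab hVne
    have hcard : Nat.card ↥(V.map S.subtype) = Nat.card ↥V :=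
      Subgroup.card_map_of_injective S.subtype_injective
    rw [← hcard]
    apply solvGood_of_abelian m hm hK S (V.map S.subtype) (le_normalizer_map_subtype S V)
      (comm_map_subtype S V hVab)
    intro h
    exact hVne ((Subgroup.map_eq_bot_iff_of_injective V S.subtype_injective).mp h)
  · -- subgroups of exponent four
    intro W hW a ha b hb
    have hWp := isPGroup_map_subtype_of_pow_four S W hW
    obtain ⟨P, hP⟩ := hWp.exists_le_sylow
    have hexp : ∀ x ∈ W.map S.subtype, x * x = 1 := fun x hx => (ree_sylow_two m hK P).2 x (hP hx)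
    have hcomm := comm_of_exp_two _ hexp
    apply Subtype.ext
    rw [Subgroup.coe_mul, Subgroup.coe_mul]
    exact hcomm _ (Subgroup.mem_map_of_mem _ ha) _ (Subgroup.mem_map_of_mem _ hb)
  · intro h2
    exact solvGood_of_two_group m hK S (IsPGroup.of_card (n := 1) (by rw [h2, pow_one]))
  · intro hsub
    apply solvGood_of_two_group m hK S
    apply IsPGroup.of_card (n := 0)
    rw [pow_zero]
    exact Nat.card_of_subsingleton (1 : ↥S)

end

end Cfsg.Agent.Lib.Helper3.Ree
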