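import Mathlib
import Cfsg.Agent.Lib.Helper3.Ree53
set_option autoImplicit false
set_option linter.unusedSectionVars false
set_option linter.style.haveILetI false
set_option linter.unusedSimpArgs false
open Cfsg Cfsg.Lie

/-!
The three layers of the unipotent part of the twisted group of type `G₂`: further identities between the root elements
in characteristic 3, and the commutators of the layers.
-/

namespace Cfsg.Agent.Lib.Helper3.Ree

open Cfsg.Agent.Lib.Helper3.ChevM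

section
variable {K : Type*} [Field K] [CharP K 3]

/-- further commuting pairs of root elements -/
theorem comm_mid (p : ℕ × ℕ) (hp : p ∈ [(6, 8), (6, 9), (6, 11), (7, 9), (7, 10), (7, 11)]) (c c' : K) :
    relG2.xU p.1 c * relG2.xU p.2 c' = relG2.xU p.2 c' * relG2.xU p.1 c := by
  by_cases hc : c = 0
  · subst hc
    simp [xU_zero]
  by_cases hc' : c' = 0
  · subst hc'
    simp [xU_zero]
  have key : ∀ p ∈ [(6, 8), (6, 9), (6, 11), (7, 9), (7, 10), (7, 11)],
      checkMWmod 3 (cdG2.D.rank + cdG2.D.nroots)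
        ([(p.1, 1, 1, 0), (p.2, 1, 0, 1)].map fun q : ℕ × ℤ × ℤ × ℤ => cdG2.xMono q.1 q.2.1 q.2.2.1 q.2.2.2)
        ([(p.2, 1, 0, 1), (p.1, 1, 1, 0)].map fun q : ℕ × ℤ × ℤ × ℤ => cdG2.xMono q.1 q.2.1 q.2.2.1 q.2.2.2) = true := by
    decide +kernel
  have hlt : p.1 < cdG2.D.nroots ∧ p.2 < cdG2.D.nroots := by
    simp only [List.mem_cons, List.not_mem_nil, or_false] at hp
    rcases hp with rfl | rfl | rfl | rfl | rfl | rfl <;> decide
  have := word_eq_of_check c c' hc hc'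
    [(p.1, 1, 1, 0), (p.2, 1, 0, 1)] [(p.2, 1, 0, 1), (p.1, 1, 1, 0)]
    (by
      intro q hq
      simp only [List.mem_cons, List.not_mem_nil, or_false] at hq
      rcases hq with rfl | rfl
      · exact hlt.1
      · exact hlt.2)
    (by
      intro q hq
      simp only [List.mem_cons, List.not_mem_nil, or_false] at hq
      rcases hq with rfl | rfl
      · exact hlt.2
      · exact hlt.1)
    (key p hp)
  simpa [mul_assoc] using this

theorem x7_x8 (c c' : K) :
    relG2.xU 7 c * relG2.xU 8 c' = relG2.xU 8 c' * relG2.xU 7 c * relG2.xU 9 (c * c') := by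
  by_cases hc : c = 0
  · subst hc
    simp [xU_zero]
  by_cases hc' : c' = 0
  · subst hc'
    simp [xU_zero]
  have := word_eq_of_check c c' hc hc'
    [(7, 1, 1, 0), (8, 1, 0, 1)] [(8, 1, 0, 1), (7, 1, 1, 0), (9, 1, 1, 1)]
    (by decide) (by decide) (by decide +kernel)
  simpa [mul_assoc] using this

theorem x6_x10 (c c' : K) :
    relG2.xU 6 c * relG2.xU 10 c' = relG2.xU 10 c' * relG2.xU 6 c * relG2.xU 11 (c * c') := by
  by_cases hc : c = 0
  · subst hc
    simp [xU_zero]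
  by_cases hc' : c' = 0
  · subst hc'
    simp [xU_zero]
  have := word_eq_of_check c c' hc hc'
    [(6, 1, 1, 0), (10, 1, 0, 1)] [(10, 1, 0, 1), (6, 1, 1, 0), (11, 1, 1, 1)]
    (by decide) (by decide) (by decide +kernel)
  simpa [mul_assoc] using this

theorem cm (r s : ℕ) (h : (r, s) ∈ [(6, 8), (6, 9), (6, 11), (7, 9), (7, 10), (7, 11)]) (c c' : K) :
    Commute (relG2.xU r c) (relG2.xU s c') := comm_mid (r, s) h c c'

theorem ch (r s : ℕ) (hr : r ∈ [8, 9, 10, 11]) (hs : s ∈ [8, 9, 10, 11]) (c c' : K) :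
    Commute (relG2.xU r c) (relG2.xU s c') := comm_high r s hr hs c c'

theorem conj_of_commute {G : Type*} [Group G] {g x : G} (h : Commute g x) : MulAut.conj g x = x := by
  rw [MulAut.conj_apply, h.eq, mul_inv_cancel_right]

theorem reeU_00v (θ : ℕ) (hθ : θ ≠ 0) (v : K) : reeU θ 0 0 v = relG2.xU 9 (v ^ θ) * relG2.xU 11 v := by
  rw [reeU_coe]
  simp [xU_zero, zero_pow hθ]

theorem reeU_0u0 (θ : ℕ) (hθ : θ ≠ 0) (u : K) : reeU θ 0 u 0 = relG2.xU 8 (u ^ θ) * relG2.xU 10 u :=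
  xR_eq θ hθ u

/-- the third layer is central -/
theorem reeU_comm_third (θ : ℕ) (hθ : θ ≠ 0) (a c : K) :
    reeU θ a 0 0 * reeU θ 0 0 c = reeU θ 0 0 c * reeU θ a 0 0 := by
  rw [reeU_t00 θ hθ, reeU_00v θ hθ]
  have h9 : Commute (relG2.xU 6 a * relG2.xU 7 (a ^ θ) * relG2.xU 10 (a * (a ^ θ) ^ 3) *
      relG2.xU 11 (a ^ 2 * (a ^ θ) ^ 3)) (relG2.xU 9 (c ^ θ)) :=
    (((cm 6 9 (by decide) _ _).mul_left (cm 7 9 (by decide) _ _)).mul_left
      (ch 10 9 (by decide) (by decide) _ _)).mul_left (ch 11 9 (by decide) (by decide) _ _)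
  have h11 : Commute (relG2.xU 6 a * relG2.xU 7 (a ^ θ) * relG2.xU 10 (a * (a ^ θ) ^ 3) *
      relG2.xU 11 (a ^ 2 * (a ^ θ) ^ 3)) (relG2.xU 11 c) :=
    (((cm 6 11 (by decide) _ _).mul_left (cm 7 11 (by decide) _ _)).mul_left
      (ch 10 11 (by decide) (by decide) _ _)).mul_left (ch 11 11 (by decide) (by decide) _ _)
  exact (h9.mul_right h11).eq

/-- the first layer acts on the second layer modulo the third layer trivially -/
theorem reeU_conj_second (θ : ℕ) (hθ : θ ≠ 0) (a b : K) :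
    reeU θ a 0 0 * reeU θ 0 b 0 * (reeU θ a 0 0)⁻¹ = reeU θ 0 b 0 * reeU θ 0 0 (a * b) := by
  rw [reeU_t00 θ hθ, reeU_0u0 θ hθ, reeU_00v θ hθ, mul_pow]
  set A := a ^ θ
  set B := b ^ θ
  set p := a * A ^ 3
  set q := a ^ 2 * A ^ 3
  have e : ∀ g x : GL cdG2.D.Idx K, g * x * g⁻¹ = MulAut.conj g x := fun g x => rfl
  rw [e]
  have c1 : MulAut.conj (relG2.xU 11 q) (relG2.xU 8 B) = relG2.xU 8 B :=
    conj_of_commute (ch 11 8 (by decide) (by decide) _ _)
  have c2 : MulAut.conj (relG2.xU 10 p) (relG2.xU 8 B) = relG2.xU 8 B :=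
    conj_of_commute (ch 10 8 (by decide) (by decide) _ _)
  have c3 : MulAut.conj (relG2.xU 11 q) (relG2.xU 10 b) = relG2.xU 10 b :=
    conj_of_commute (ch 11 10 (by decide) (by decide) _ _)
  have c4 : MulAut.conj (relG2.xU 10 p) (relG2.xU 10 b) = relG2.xU 10 b :=
    conj_of_commute (ch 10 10 (by decide) (by decide) _ _)
  have c5 : MulAut.conj (relG2.xU 7 A) (relG2.xU 10 b) = relG2.xU 10 b :=
    conj_of_commute (cm 7 10 (by decide) _ _)
  have c6 : MulAut.conj (relG2.xU 6 a) (relG2.xU 8 B) = relG2.xU 8 B :=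
    conj_of_commute (cm 6 8 (by decide) _ _)
  have c7 : MulAut.conj (relG2.xU 6 a) (relG2.xU 9 (A * B)) = relG2.xU 9 (A * B) :=
    conj_of_commute (cm 6 9 (by decide) _ _)
  have c8 : MulAut.conj (relG2.xU 7 A) (relG2.xU 8 B) = relG2.xU 8 B * relG2.xU 9 (A * B) := by
    rw [MulAut.conj_apply, x7_x8, mul_assoc (relG2.xU 8 B), (cm 7 9 (by decide) A (A * B)).eq]
    group
  have c9 : MulAut.conj (relG2.xU 6 a) (relG2.xU 10 b) = relG2.xU 10 b * relG2.xU 11 (a * b) := by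
    rw [MulAut.conj_apply, x6_x10, mul_assoc (relG2.xU 10 b), (cm 6 11 (by decide) a (a * b)).eq]
    group
  simp only [map_mul, MulAut.mul_apply, c1, c2, c3, c4, c5, c6, c7, c8, c9]
  have h1 : Commute (relG2.xU 9 (A * B)) (relG2.xU 10 b) := ch 9 10 (by decide) (by decide) _ _
  calc relG2.xU 8 B * relG2.xU 9 (A * B) * (relG2.xU 10 b * relG2.xU 11 (a * b))
      = relG2.xU 8 B * (relG2.xU 9 (A * B) * relG2.xU 10 b) * relG2.xU 11 (a * b) := by group
    _ = relG2.xU 8 B * (relG2.xU 10 b * relG2.xU 9 (A * B)) * relG2.xU 11 (a * b) := by rw [h1.eq]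
    _ = relG2.xU 8 B * relG2.xU 10 b * (relG2.xU 9 (A * B) * relG2.xU 11 (a * b)) := by group

end

end Cfsg.Agent.Lib.Helper3.Ree
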