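import Mathlib
import Cfsg.Agent.Lib.Helper3.ReeM1
import Cfsg.Agent.Lib.Helper3.CExt6
set_option autoImplicit false
set_option linter.unusedSectionVars false
set_option linter.style.haveILetI false
set_option linter.unusedSimpArgs false
open Cfsg Cfsg.Lie

/-!
The three layers of the unipotent part of the twisted group of type `G₂`, with the action of the diagonal part.
-/

namespace Cfsg.Agent.Lib.Helper3.Ree

open Cfsg.Agent.Lib.Helper3.ChevM Cfsg.Agent.Lib.Helper3.CExt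
open scoped commutatorElement

section
variable {K : Type*} [Field K] [Fintype K] [CharP K 3]

/-- the exact action of the diagonal part on the first layer -/
theorem conj_reeU_first (m : ℕ) (hK : Fintype.card K = 3 ^ (2 * m + 1)) (s : K) (hs : s ≠ 0) (a : K) :
    hRee (3 ^ m) s * reeU (3 ^ m) a 0 0 * (hRee (3 ^ m) s)⁻¹ = reeU (3 ^ m) (chi (s ^ 3 ^ m) s 6 * a) 0 0 := by
  have hsθ : s ^ 3 ^ m ≠ 0 := pow_ne_zero _ hs
  have hθ := three_pow_ne_zero m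
  obtain ⟨u', v', e, -⟩ := conj_reeU m hK s hs a 0 0
  have e2 := e
  rw [reeU_coe, reeU_coe] at e2
  unfold hRee at e2
  rw [hT_conj_pw _ _ hsθ hs] at e2
  obtain ⟨-, -, k3, k4, -, -⟩ := pw_inj _ _ _ _ _ _ _ _ _ _ _ _ e2
  rw [zero_pow hθ, mul_zero] at k3 k4
  have hu : u' = 0 := pow_eq_zero_iff hθ |>.mp k3.symm
  have hv : v' = 0 := pow_eq_zero_iff hθ |>.mp k4.symm
  rw [e, hu, hv]

/-- the exact action of the diagonal part on the two deepest layers -/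
theorem conj_reeU_zU (m : ℕ) (hK : Fintype.card K = 3 ^ (2 * m + 1)) (s : K) (hs : s ≠ 0) (u v : K) :
    hRee (3 ^ m) s * reeU (3 ^ m) 0 u v * (hRee (3 ^ m) s)⁻¹ =
      reeU (3 ^ m) 0 (chi (s ^ 3 ^ m) s 10 * u) (s * v) := by
  obtain ⟨u', v', e, e2⟩ := conj_reeU m hK s hs 0 u v
  obtain ⟨e3, e4⟩ := e2 rfl
  rw [e, mul_zero, e3, e4, chi_11]

/-- the first coordinate of a commutator vanishes -/
theorem comm_first_zero (m : ℕ) (hK : Fintype.card K = 3 ^ (2 * m + 1)) (t u v t' u' v' : K) :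
    ∃ u'' v'' : K, ⁅reeU (3 ^ m) t u v, reeU (3 ^ m) t' u' v'⁆ = reeU (3 ^ m) 0 u'' v'' := by
  have h1 : reeU (3 ^ m) t u v ∈ cdG2.D.posUnipotent K ⊓ tG2 K (3 ^ m) :=
    (mem_pos_inf_tG2 m hK _).mpr ⟨_, _, _, rfl⟩
  have h2 : reeU (3 ^ m) t' u' v' ∈ cdG2.D.posUnipotent K ⊓ tG2 K (3 ^ m) :=
    (mem_pos_inf_tG2 m hK _).mpr ⟨_, _, _, rfl⟩
  have h3 : ⁅reeU (3 ^ m) t u v, reeU (3 ^ m) t' u' v'⁆ ∈ cdG2.D.posUnipotent K ⊓ tG2 K (3 ^ m) := by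
    rw [commutatorElement_def]
    exact Subgroup.mul_mem _ (Subgroup.mul_mem _ (Subgroup.mul_mem _ h1 h2) (Subgroup.inv_mem _ h1))
      (Subgroup.inv_mem _ h2)
  obtain ⟨t'', u'', v'', e⟩ := (mem_pos_inf_tG2 m hK _).mp h3
  refine ⟨u'', v'', ?_⟩
  have he := congrArg eps e
  rw [commutatorElement_def, eps_mul _ _ (Subgroup.mul_mem _ (Subgroup.mul_mem _ h1.1 h2.1)
    (Subgroup.inv_mem _ h1.1)) (Subgroup.inv_mem _ h2.1), eps_mul _ _ (Subgroup.mul_mem _ h1.1 h2.1)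
    (Subgroup.inv_mem _ h1.1), eps_mul _ _ h1.1 h2.1, eps_inv _ h1.1, eps_inv _ h2.1, eps_reeU, eps_reeU,
    eps_reeU] at he
  have h0 : (kap : K) * t'' = 0 := by rw [← he]; ring
  have ht : t'' = 0 := by
    rcases mul_eq_zero.mp h0 with h | h
    · exact absurd h kap_ne_zero
    · exact h
  rw [e, ht]

/-- the product of two elements of the first layer -/
theorem mul_first (m : ℕ) (hK : Fintype.card K = 3 ^ (2 * m + 1)) (a a' : K) :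
    ∃ b c : K, reeU (3 ^ m) a 0 0 * reeU (3 ^ m) a' 0 0 =
      reeU (3 ^ m) (a + a') 0 0 * (reeU (3 ^ m) 0 b 0 * reeU (3 ^ m) 0 0 c) := by
  have hθ := three_pow_ne_zero m
  have h1 : reeU (3 ^ m) a 0 0 ∈ cdG2.D.posUnipotent K ⊓ tG2 K (3 ^ m) :=
    (mem_pos_inf_tG2 m hK _).mpr ⟨_, _, _, rfl⟩
  have h2 : reeU (3 ^ m) a' 0 0 ∈ cdG2.D.posUnipotent K ⊓ tG2 K (3 ^ m) :=
    (mem_pos_inf_tG2 m hK _).mpr ⟨_, _, _, rfl⟩
  obtain ⟨t, u, v, e⟩ := (mem_pos_inf_tG2 m hK _).mp (Subgroup.mul_mem _ h1 h2)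
  have ht := reeU_mul_first _ _ _ _ _ _ _ _ _ _ e
  refine ⟨u, v, ?_⟩
  rw [e, ht, reeU_split _ hθ, zU_mul, add_zero, zero_add]

/-- the unipotent part with its three layers -/
noncomputable def reeU3 (m : ℕ) (hK : Fintype.card K = 3 ^ (2 * m + 1)) : U3Data K ↥(tG2 K (3 ^ m)) where
  X1 := fun a => uG m a 0 0
  X2 := fun b => uG m 0 b 0
  X3 := fun c => uG m 0 0 c
  a2 := fun a b => Subtype.ext (by
    show reeU (3 ^ m) 0 (a + b) 0 = reeU (3 ^ m) 0 a 0 * reeU (3 ^ m) 0 b 0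
    rw [zU_mul, add_zero])
  a3 := fun a b => Subtype.ext (by
    show reeU (3 ^ m) 0 0 (a + b) = reeU (3 ^ m) 0 0 a * reeU (3 ^ m) 0 0 b
    rw [zU_mul, add_zero])
  c23 := fun a b => Subtype.ext (by
    show reeU (3 ^ m) 0 a 0 * reeU (3 ^ m) 0 0 b = reeU (3 ^ m) 0 0 b * reeU (3 ^ m) 0 a 0
    rw [zU_mul, zU_mul, add_comm a, add_comm 0 b])
  c13 := fun a b => Subtype.ext (reeU_comm_third _ (three_pow_ne_zero m) a b)
  c12 := fun a b => ⟨a * b, Subtype.ext (reeU_conj_second _ (three_pow_ne_zero m) a b)⟩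
  m11 := fun a a' => by
    obtain ⟨b, c, h⟩ := mul_first m hK a a'
    exact ⟨b, c, Subtype.ext h⟩
  inj := fun b c h => by
    have h1 : reeU (3 ^ m) (0 : K) b 0 * reeU (3 ^ m) 0 0 c = 1 := congrArg Subtype.val h
    rw [zU_mul, add_zero, zero_add, ← reeU_zero (K := K) _ (three_pow_ne_zero m)] at h1
    obtain ⟨-, hb, hc⟩ := reeU_inj _ _ _ _ _ _ _ h1
    exact ⟨hb, hc⟩
  Tor := {t | ∃ s : K, s ≠ 0 ∧ (t.1 : GL cdG2.D.Idx K) = hRee (3 ^ m) s ∧ t.2.1 = chi (s ^ 3 ^ m) s 6 ∧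
    t.2.2.1 = chi (s ^ 3 ^ m) s 10 ∧ t.2.2.2 = s}
  tor1 := by
    rintro t ⟨s, hs, e, e1, -, -⟩ a
    apply Subtype.ext
    show (t.1 : GL cdG2.D.Idx K) * reeU (3 ^ m) a 0 0 * (t.1 : GL cdG2.D.Idx K)⁻¹ = reeU (3 ^ m) (t.2.1 * a) 0 0
    rw [e, e1, conj_reeU_first m hK s hs]
  tor2 := by
    rintro t ⟨s, hs, e, -, e2, -⟩ a
    apply Subtype.ext
    show (t.1 : GL cdG2.D.Idx K) * reeU (3 ^ m) 0 a 0 * (t.1 : GL cdG2.D.Idx K)⁻¹ = reeU (3 ^ m) 0 (t.2.2.1 * a) 0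
    rw [e, e2, conj_reeU_zU m hK s hs, mul_zero]
  tor3 := by
    rintro t ⟨s, hs, e, -, -, e3⟩ a
    apply Subtype.ext
    show (t.1 : GL cdG2.D.Idx K) * reeU (3 ^ m) 0 0 a * (t.1 : GL cdG2.D.Idx K)⁻¹ = reeU (3 ^ m) 0 0 (t.2.2.2 * a)
    rw [e, e3, conj_reeU_zU m hK s hs, mul_zero]
  torc := by
    rintro t ⟨s, hs, e, -, -, -⟩ t' ⟨s', hs', e', -, -, -⟩
    apply Subtype.ext
    show (t.1 : GL cdG2.D.Idx K) * (t'.1 : GL cdG2.D.Idx K) = (t'.1 : GL cdG2.D.Idx K) * (t.1 : GL cdG2.D.Idx K)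
    rw [e, e', hRee_comm _ s s' hs hs']

theorem reeU3_isUnip (m : ℕ) (hK : Fintype.card K = 3 ^ (2 * m + 1)) : (reeU3 m hK).IsUnip (uSub K (3 ^ m)) where
  mem := by
    intro g hg
    obtain ⟨t, u, v, e⟩ := (mem_uSub_iff m hK g).mp hg
    refine ⟨t, uG m 0 u 0 * uG m 0 0 v, ⟨u, v, rfl⟩, Subtype.ext ?_⟩
    show (g : GL cdG2.D.Idx K) = reeU (3 ^ m) t 0 0 * (reeU (3 ^ m) 0 u 0 * reeU (3 ^ m) 0 0 v)
    rw [e, zU_mul, add_zero, zero_add, ← reeU_split _ (three_pow_ne_zero m)]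
  X1_mem := fun a => uG_mem m hK a 0 0
  U2_le := by
    rintro g ⟨b, c, rfl⟩
    exact Subgroup.mul_mem _ (uG_mem m hK 0 b 0) (uG_mem m hK 0 0 c)
  comm := by
    intro g hg g' hg'
    obtain ⟨t, u, v, e⟩ := (mem_uSub_iff m hK g).mp hg
    obtain ⟨t', u', v', e'⟩ := (mem_uSub_iff m hK g').mp hg'
    obtain ⟨u'', v'', h⟩ := comm_first_zero m hK t u v t' u' v'
    refine ⟨u'', v'', Subtype.ext ?_⟩
    show ⁅(g : GL cdG2.D.Idx K), (g' : GL cdG2.D.Idx K)⁆ = reeU (3 ^ m) 0 u'' 0 * reeU (3 ^ m) 0 0 v''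
    rw [e, e', h, zU_mul, add_zero, zero_add]

end

end Cfsg.Agent.Lib.Helper3.Ree
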