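import Mathlib
import Cfsg.Agent.Lib.Helper3.ReeM2
import Cfsg.Agent.Lib.Helper3.SzM7
set_option autoImplicit false
set_option linter.unusedSectionVars false
set_option linter.style.haveILetI false
set_option linter.unusedSimpArgs false
open Cfsg Cfsg.Lie

/-!
The field of `3 ^ (2 * m + 1)` elements: the twisting map, and elements avoiding the roots of certain polynomials.
-/

namespace Cfsg.Agent.Lib.Helper3.Ree

open Polynomial

section
variable {K : Type*} [Field K] [Fintype K] [CharP K 3]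

/-- the twisting map -/
def tau (m : ℕ) (x : K) : K := (x ^ 3 ^ m) ^ 3

theorem tau_eq_pow (m : ℕ) (x : K) : tau m x = x ^ (3 * 3 ^ m) := by
  unfold tau
  rw [← pow_mul, mul_comm]

theorem tau_add (m : ℕ) (x y : K) : tau m (x + y) = tau m x + tau m y := by
  have e : 3 * 3 ^ m = 3 ^ (m + 1) := by ring
  rw [tau_eq_pow, tau_eq_pow, tau_eq_pow, e]
  exact add_pow_three_pow (m + 1) x y

theorem tau_mul (m : ℕ) (x y : K) : tau m (x * y) = tau m x * tau m y := by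
  rw [tau_eq_pow, tau_eq_pow, tau_eq_pow, mul_pow]

theorem tau_one (m : ℕ) : tau m (1 : K) = 1 := by
  rw [tau_eq_pow, one_pow]

theorem tau_ne_zero (m : ℕ) {x : K} (hx : x ≠ 0) : tau m x ≠ 0 := by
  rw [tau_eq_pow]
  exact pow_ne_zero _ hx

theorem tau_tau (m : ℕ) (hK : Fintype.card K = 3 ^ (2 * m + 1)) (x : K) : tau m (tau m x) = x ^ 3 := by
  rw [tau_eq_pow, tau_eq_pow, ← pow_mul]
  have e : 3 * 3 ^ m * (3 * 3 ^ m) = 3 ^ (2 * m + 1) * 3 := by ring
  rw [e, pow_mul, ← hK, FiniteField.pow_card]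

theorem three_eq_zero' : (3 : K) = 0 := by
  have := CharP.cast_eq_zero K 3
  exact_mod_cast this

theorem card_ge (m : ℕ) (hm : 1 ≤ m) (hK : Fintype.card K = 3 ^ (2 * m + 1)) :
    3 ≤ 3 ^ m ∧ Fintype.card K = 3 * 3 ^ m * 3 ^ m ∧ 9 * 3 ^ m ≤ 3 * 3 ^ m * 3 ^ m := by
  have h3 : 3 ≤ 3 ^ m := by
    calc 3 = 3 ^ 1 := by norm_num
      _ ≤ 3 ^ m := Nat.pow_le_pow_right (by norm_num) hm
  refine ⟨h3, ?_, ?_⟩
  · rw [hK]
    ring
  · nlinarith

theorem deg_lt_of_natDegree_le {p : K[X]} {n : ℕ} (h : p.natDegree ≤ n) :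
    p.degree < ((n + 1 : ℕ) : WithBot ℕ) :=
  lt_of_le_of_lt degree_le_natDegree (by exact_mod_cast Nat.lt_succ_of_le h)

/-- an element avoiding `0`, `-1` and the roots of a polynomial -/
theorem exists_avoid (P : K[X]) (hP : P.Monic) (hd : P.natDegree + 2 < Fintype.card K) :
    ∃ s : K, s ≠ 0 ∧ 1 + s ≠ 0 ∧ P.eval s ≠ 0 := by
  have h1 : (X + 1 : K[X]) ≠ 0 := by
    intro h
    have := congrArg (eval 0) h
    simp at this
  have hQ : (X * (X + 1) * P : K[X]) ≠ 0 := mul_ne_zero (mul_ne_zero X_ne_zero h1) hP.ne_zero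
  have hdeg : (X * (X + 1) * P : K[X]).natDegree < Fintype.card K := by
    have h2 : (X * (X + 1) : K[X]).natDegree ≤ 2 := by compute_degree
    have h3 := natDegree_mul_le (p := (X * (X + 1) : K[X])) (q := P)
    omega
  obtain ⟨s, hs⟩ := Cfsg.Agent.Lib.Helper3.SzM.exists_not_root _ hQ hdeg
  rw [eval_mul, eval_mul, eval_X, eval_add, eval_X, eval_one] at hs
  refine ⟨s, ?_, ?_, ?_⟩
  · rintro rfl
    apply hs
    ring
  · intro h
    apply hs
    have : s + 1 = 0 := by rw [add_comm]; exact h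
    rw [this]
    ring
  · intro h
    apply hs
    rw [h, mul_zero]

/-- an element different from `0`, `1` and `-1` -/
theorem exists_ne_three (m : ℕ) (hm : 1 ≤ m) (hK : Fintype.card K = 3 ^ (2 * m + 1)) :
    ∃ s : K, s ≠ 0 ∧ 1 + s ≠ 0 ∧ s ≠ 1 := by
  obtain ⟨h3, hq, h9⟩ := card_ge (K := K) m hm hK
  obtain ⟨s, h1, h2, h3⟩ := exists_avoid (X - 1 : K[X]) (monic_X_sub_C 1) (by
    have : (X - 1 : K[X]).natDegree ≤ 1 := by compute_degree
    omega)
  refine ⟨s, h1, h2, ?_⟩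
  rintro rfl
  apply h3
  simp

/-- the inverses in characteristic 3 -/
theorem inv_add_inv_ne {s : K} (h0 : s ≠ 0) (h1 : 1 + s ≠ 0) (h2 : s ≠ 1) : (1 : K)⁻¹ + s⁻¹ ≠ (1 + s)⁻¹ := by
  intro e
  rw [inv_one] at e
  field_simp at e
  have h3 := three_eq_zero' (K := K)
  have : (s - 1) ^ 2 = 0 := by linear_combination e - s * h3
  exact h2 (sub_eq_zero.mp (pow_eq_zero_iff (by norm_num) |>.mp this))

/-- for the second and the third layer -/
theorem exists_avoid_23 (m : ℕ) (hm : 1 ≤ m) (hK : Fintype.card K = 3 ^ (2 * m + 1)) :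
    ∃ s : K, s ≠ 0 ∧ 1 + s ≠ 0 ∧ tau m s ^ 2 + s ≠ 0 := by
  obtain ⟨h3, hq, h9⟩ := card_ge (K := K) m hm hK
  set θ := 3 ^ m with hθ
  have hmon : (X ^ (6 * θ - 1 + 1) + X : K[X]).Monic := by
    apply monic_X_pow_add
    apply deg_lt_of_natDegree_le
    compute_degree
    omega
  have hdeg : (X ^ (6 * θ - 1 + 1) + X : K[X]).natDegree ≤ 6 * θ := by
    compute_degree
    omega
  obtain ⟨s, h1, h2, h4⟩ := exists_avoid _ hmon (by omega)
  refine ⟨s, h1, h2, ?_⟩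
  rw [eval_add, eval_pow, eval_X] at h4
  have e : 6 * θ - 1 + 1 = 3 * θ * 2 := by omega
  rw [e, pow_mul, ← tau_eq_pow] at h4
  exact h4

/-- for the first and the third layer -/
theorem exists_avoid_13 (m : ℕ) (hm : 1 ≤ m) (hK : Fintype.card K = 3 ^ (2 * m + 1)) :
    ∃ s : K, s ≠ 0 ∧ 1 + s ≠ 0 ∧ s ^ 4 + 2 * s ^ 3 + tau m s * (1 + 2 * s) ≠ 0 := by
  obtain ⟨h3, hq, h9⟩ := card_ge (K := K) m hm hK
  set θ := 3 ^ m with hθ
  have hmon : (X ^ (3 * θ + 1) + (C 2 * X ^ (3 * θ) + C 2 * X ^ 4 + X ^ 3) : K[X]).Monic := by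
    apply monic_X_pow_add
    apply deg_lt_of_natDegree_le
    compute_degree
    omega
  have hdeg : (X ^ (3 * θ + 1) + (C 2 * X ^ (3 * θ) + C 2 * X ^ 4 + X ^ 3) : K[X]).natDegree ≤ 3 * θ + 1 := by
    compute_degree
    omega
  obtain ⟨s, h1, h2, h4⟩ := exists_avoid _ hmon (by omega)
  refine ⟨s, h1, h2, ?_⟩
  simp only [eval_add, eval_mul, eval_pow, eval_X, eval_C] at h4
  rw [pow_succ, ← tau_eq_pow] at h4
  intro h
  apply h4
  have h3 := three_eq_zero' (K := K)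
  linear_combination 2 * h - (s ^ 3 + s * tau m s) * h3

/-- for the first and the second layer -/
theorem exists_avoid_12 (m : ℕ) (hm : 1 ≤ m) (hK : Fintype.card K = 3 ^ (2 * m + 1)) :
    ∃ s : K, s ≠ 0 ∧ 1 + s ≠ 0 ∧ (s * tau m s + 1) * (1 + s) * (1 + tau m s) - s * tau m s ≠ 0 := by
  obtain ⟨h3, hq, h9⟩ := card_ge (K := K) m hm hK
  set θ := 3 ^ m with hθ
  have hmon : (X ^ (6 * θ + 1 + 1) + (X ^ (3 * θ + 2) + X ^ (6 * θ + 1) + X ^ (3 * θ + 1) + X + X ^ (3 * θ) + 1) :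
      K[X]).Monic := by
    apply monic_X_pow_add
    apply deg_lt_of_natDegree_le
    compute_degree
    omega
  have hdeg : (X ^ (6 * θ + 1 + 1) + (X ^ (3 * θ + 2) + X ^ (6 * θ + 1) + X ^ (3 * θ + 1) + X + X ^ (3 * θ) + 1) :
      K[X]).natDegree ≤ 6 * θ + 2 := by
    compute_degree
    omega
  obtain ⟨s, h1, h2, h4⟩ := exists_avoid _ hmon (by omega)
  refine ⟨s, h1, h2, ?_⟩
  simp only [eval_add, eval_mul, eval_pow, eval_X, eval_one] at h4
  intro h
  apply h4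
  rw [tau_eq_pow] at h
  rw [← h]
  ring

end

end Cfsg.Agent.Lib.Helper3.Ree
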