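import Mathlib
import Cfsg.Agent.Lib.Helper3.ReeM3
set_option autoImplicit false
set_option linter.unusedSectionVars false
set_option linter.style.haveILetI false
set_option linter.unusedSimpArgs false
open Cfsg Cfsg.Lie

/-!
The weights of the diagonal part of the twisted group of type `G₂` on the three layers of the unipotent part satisfy the
hypotheses on the existence of triples.
-/

namespace Cfsg.Agent.Lib.Helper3.Ree

open Cfsg.Agent.Lib.Helper3.ChevM Cfsg.Agent.Lib.Helper3.CExt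

section
variable {K : Type*} [Field K] [Fintype K] [CharP K 3]

/-- the first weight -/
def wt1 (m : ℕ) (s : K) : K := (tau m s)⁻¹ * s ^ 2

/-- the second weight -/
def wt2 (m : ℕ) (s : K) : K := tau m s * s⁻¹

theorem tor_mem (m : ℕ) (hK : Fintype.card K = 3 ^ (2 * m + 1)) (s : K) (hs : s ≠ 0) :
    ((⟨hRee (3 ^ m) s, hRee_mem_tG2 m hK s hs⟩ : ↥(tG2 K (3 ^ m))), wt1 m s, wt2 m s, s) ∈ (reeU3 m hK).Tor := by
  refine ⟨s, hs, rfl, ?_, ?_, rfl⟩
  · rw [chi_6]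
    rfl
  · rw [chi_10]
    rfl

theorem wt1_one (m : ℕ) : wt1 m (1 : K) = 1 := by
  unfold wt1
  rw [tau_one]
  simp

theorem wt2_one (m : ℕ) : wt2 m (1 : K) = 1 := by
  unfold wt2
  rw [tau_one]
  simp

theorem wt1_ne_zero (m : ℕ) {s : K} (hs : s ≠ 0) : wt1 m s ≠ 0 :=
  mul_ne_zero (inv_ne_zero (tau_ne_zero m hs)) (pow_ne_zero _ hs)

theorem wt2_ne_zero (m : ℕ) {s : K} (hs : s ≠ 0) : wt2 m s ≠ 0 :=
  mul_ne_zero (tau_ne_zero m hs) (inv_ne_zero hs)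

/-- the parametrization with the first weight as the parameter -/
theorem wt_lam (m : ℕ) (hK : Fintype.card K = 3 ^ (2 * m + 1)) (l : K) (hl : l ≠ 0) :
    l ^ 2 * tau m l ≠ 0 ∧ wt1 m (l ^ 2 * tau m l) = l ∧ wt2 m (l ^ 2 * tau m l) = l * tau m l := by
  have hT := tau_ne_zero m hl
  refine ⟨mul_ne_zero (pow_ne_zero _ hl) hT, ?_, ?_⟩
  · unfold wt1
    rw [tau_mul, tau_tau m hK, tau_eq_pow m (l ^ 2), ← pow_mul, mul_comm 2, pow_mul, ← tau_eq_pow]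
    field_simp
  · unfold wt2
    rw [tau_mul, tau_tau m hK, tau_eq_pow m (l ^ 2), ← pow_mul, mul_comm 2, pow_mul, ← tau_eq_pow]
    field_simp

/-- the parametrization with the square root of the second weight as the parameter -/
theorem wt_mu (m : ℕ) (hK : Fintype.card K = 3 ^ (2 * m + 1)) (x : K) (hx : x ≠ 0) :
    x * tau m x ≠ 0 ∧ wt2 m (x * tau m x) = x ^ 2 := by
  have hT := tau_ne_zero m hx
  refine ⟨mul_ne_zero hx hT, ?_⟩
  unfold wt2
  rw [tau_mul, tau_tau m hK]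
  field_simp

theorem two_ne_zero_char3 : (2 : K) ≠ 0 := by
  intro h
  have h3 := three_eq_zero' (K := K)
  have : (1 : K) = 0 := by linear_combination h3 - h
  exact one_ne_zero this

theorem reeU3_hyp (m : ℕ) (hm : 1 ≤ m) (hK : Fintype.card K = 3 ^ (2 * m + 1)) : (reeU3 m hK).Hyp where
  h33 := by
    obtain ⟨s, h0, h1, h2⟩ := exists_ne_three (K := K) m hm hK
    refine ⟨(1, 1), (s, s), (1 + s, 1 + s), ⟨_, tor_mem m hK 1 one_ne_zero, rfl⟩, ⟨_, tor_mem m hK s h0, rfl⟩,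
      ⟨_, tor_mem m hK (1 + s) h1, rfl⟩, rfl, one_ne_zero, h0, h1, inv_add_inv_ne h0 h1 h2⟩
  h22 := by
    obtain ⟨h3, hq, h9⟩ := card_ge (K := K) m hm hK
    obtain ⟨x, y, z, hx, hy, hz, e, hne⟩ := Cfsg.Agent.Lib.Helper3.SzM.exists_square_triple_odd (F := K)
      two_ne_zero_char3 (by omega)
    obtain ⟨hx', ex⟩ := wt_mu m hK x hx
    obtain ⟨hy', ey⟩ := wt_mu m hK y hy
    obtain ⟨hz', ez⟩ := wt_mu m hK z hz
    refine ⟨(x ^ 2, x ^ 2), (y ^ 2, y ^ 2), (z ^ 2, z ^ 2), ⟨_, tor_mem m hK _ hx', ?_⟩,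
      ⟨_, tor_mem m hK _ hy', ?_⟩, ⟨_, tor_mem m hK _ hz', ?_⟩, e, pow_ne_zero _ hx, pow_ne_zero _ hy,
      pow_ne_zero _ hz, ?_⟩
    · show (x ^ 2, x ^ 2) = (wt2 m (x * tau m x), wt2 m (x * tau m x))
      rw [ex]
    · show (y ^ 2, y ^ 2) = (wt2 m (y * tau m y), wt2 m (y * tau m y))
      rw [ey]
    · show (z ^ 2, z ^ 2) = (wt2 m (z * tau m z), wt2 m (z * tau m z))
      rw [ez]
    · show (x ^ 2)⁻¹ + (y ^ 2)⁻¹ ≠ (z ^ 2)⁻¹
      rw [← e]
      exact hne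
  h11 := by
    obtain ⟨s, h0, h1, h2⟩ := exists_ne_three (K := K) m hm hK
    obtain ⟨hs', e1, -⟩ := wt_lam m hK s h0
    obtain ⟨hs'', e1', -⟩ := wt_lam m hK (1 + s) h1
    refine ⟨(1, 1), (s, s), (1 + s, 1 + s), ⟨_, tor_mem m hK 1 one_ne_zero, ?_⟩, ⟨_, tor_mem m hK _ hs', ?_⟩,
      ⟨_, tor_mem m hK _ hs'', ?_⟩, rfl, one_ne_zero, h0, h1, inv_add_inv_ne h0 h1 h2⟩
    · show ((1 : K), (1 : K)) = (wt1 m 1, wt1 m 1)
      rw [wt1_one]
    · show (s, s) = (wt1 m (s ^ 2 * tau m s), wt1 m (s ^ 2 * tau m s))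
      rw [e1]
    · show (1 + s, 1 + s) = (wt1 m ((1 + s) ^ 2 * tau m (1 + s)), wt1 m ((1 + s) ^ 2 * tau m (1 + s)))
      rw [e1']
  h23 := by
    right
    obtain ⟨s, h0, h1, h2⟩ := exists_avoid_23 (K := K) m hm hK
    refine ⟨(1, 1), (s, wt2 m s), (1 + s, wt2 m (1 + s)), ⟨(wt2 m 1, 1), ⟨_, tor_mem m hK 1 one_ne_zero, rfl⟩, ?_⟩,
      ⟨(wt2 m s, s), ⟨_, tor_mem m hK s h0, rfl⟩, rfl⟩, ⟨(wt2 m (1 + s), 1 + s), ⟨_, tor_mem m hK (1 + s) h1, rfl⟩, rfl⟩,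
      rfl, one_ne_zero, wt2_ne_zero m h0, wt2_ne_zero m h1, ?_⟩
    · rw [wt2_one]
      rfl
    · show (1 : K)⁻¹ + (wt2 m s)⁻¹ ≠ (wt2 m (1 + s))⁻¹
      unfold wt2
      rw [tau_add, tau_one]
      have hT := tau_ne_zero m h0
      have hT1 : 1 + tau m s ≠ 0 := by
        have := tau_ne_zero m h1
        rwa [tau_add, tau_one] at this
      intro e
      apply h2
      field_simp at e
      linear_combination e
  h13 := by
    right
    obtain ⟨s, h0, h1, h2⟩ := exists_avoid_13 (K := K) m hm hK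
    refine ⟨(1, 1), (s, wt1 m s), (1 + s, wt1 m (1 + s)), ⟨(wt1 m 1, 1), ⟨_, tor_mem m hK 1 one_ne_zero, rfl⟩, ?_⟩,
      ⟨(wt1 m s, s), ⟨_, tor_mem m hK s h0, rfl⟩, rfl⟩, ⟨(wt1 m (1 + s), 1 + s), ⟨_, tor_mem m hK (1 + s) h1, rfl⟩, rfl⟩,
      rfl, one_ne_zero, wt1_ne_zero m h0, wt1_ne_zero m h1, ?_⟩
    · rw [wt1_one]
      rfl
    · show (1 : K)⁻¹ + (wt1 m s)⁻¹ ≠ (wt1 m (1 + s))⁻¹
      unfold wt1
      rw [tau_add, tau_one]
      have hT := tau_ne_zero m h0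
      have hT1 : 1 + tau m s ≠ 0 := by
        have := tau_ne_zero m h1
        rwa [tau_add, tau_one] at this
      intro e
      apply h2
      field_simp at e
      linear_combination e
  h12 := by
    left
    obtain ⟨s, h0, h1, h2⟩ := exists_avoid_12 (K := K) m hm hK
    obtain ⟨hs', e1, e2⟩ := wt_lam m hK s h0
    obtain ⟨hs'', e1', e2'⟩ := wt_lam m hK (1 + s) h1
    have hT := tau_ne_zero m h0
    have hT1 : 1 + tau m s ≠ 0 := by
      have := tau_ne_zero m h1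
      rwa [tau_add, tau_one] at this
    refine ⟨(1, 1), (s, s * tau m s), (1 + s, (1 + s) * tau m (1 + s)), ⟨_, tor_mem m hK 1 one_ne_zero, ?_⟩,
      ⟨_, tor_mem m hK _ hs', ?_⟩, ⟨_, tor_mem m hK _ hs'', ?_⟩, rfl, one_ne_zero, mul_ne_zero h0 hT,
      mul_ne_zero h1 (tau_ne_zero m h1), ?_⟩
    · show ((1 : K), (1 : K)) = (wt1 m 1, wt2 m 1)
      rw [wt1_one, wt2_one]
    · show (s, s * tau m s) = (wt1 m (s ^ 2 * tau m s), wt2 m (s ^ 2 * tau m s))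
      rw [e1, e2]
    · show (1 + s, (1 + s) * tau m (1 + s)) =
        (wt1 m ((1 + s) ^ 2 * tau m (1 + s)), wt2 m ((1 + s) ^ 2 * tau m (1 + s)))
      rw [e1', e2']
    · show (1 : K)⁻¹ + (s * tau m s)⁻¹ ≠ ((1 + s) * tau m (1 + s))⁻¹
      rw [tau_add, tau_one]
      intro e
      apply h2
      field_simp at e
      linear_combination e
  t2 := by
    obtain ⟨s, hs⟩ := exists_not_fixed (K := K) m hm hK
    have hs0 : s ≠ 0 := by
      rintro rfl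
      apply hs
      rw [zero_pow (three_pow_ne_zero _)]
    refine ⟨_, tor_mem m hK s hs0, ?_⟩
    show wt2 m s ≠ 1
    unfold wt2
    intro h
    apply hs
    have e : 3 ^ (m + 1) = 3 * 3 ^ m := by ring
    rw [e, ← tau_eq_pow]
    field_simp at h
    exact h
  t3 := ⟨_, tor_mem m hK (-1) (neg_ne_zero.mpr one_ne_zero), neg_one_ne_one⟩

end

end Cfsg.Agent.Lib.Helper3.Ree
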