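import Mathlib
import Cfsg.Agent.Lib.Helper3.ReeM2
import Cfsg.Agent.Lib.Helper3.ChevFld1
set_option autoImplicit false
set_option linter.unusedSectionVars false
set_option linter.style.haveILetI false
set_option linter.unusedSimpArgs false
open Cfsg Cfsg.Lie

/-!
The field automorphisms of the twisted group of type `G₂`.
-/

namespace Cfsg.Agent.Lib.Helper3.Ree

open Cfsg.Agent.Lib.Helper3.ChevM

section
variable {K : Type*} [Field K] [CharP K 3]

/-- entrywise application of a field automorphism -/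
noncomputable def glF (f : K ≃+* K) : GL cdG2.D.Idx K →* GL cdG2.D.Idx K :=
  Matrix.GeneralLinearGroup.map (f : K →+* K)

theorem glF_xU (f : K ≃+* K) (r : ℕ) (t : K) : glF f (relG2.xU r t) = relG2.xU r (f t) :=
  relG2.map_xU' (f : K →+* K) r t

theorem glF_hU (f : K ≃+* K) (r : ℕ) (t : K) : glF f (relG2.hU r t) = relG2.hU r (f t) :=
  relG2.map_hU' (f : K →+* K) r t

theorem glF_reeU (f : K ≃+* K) (θ : ℕ) (t u v : K) : glF f (reeU θ t u v) = reeU θ (f t) (f u) (f v) := by
  rw [reeU_coe, reeU_coe]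
  simp only [map_mul, glF_xU, map_pow, map_add]

theorem reeV_coe (θ : ℕ) (t u v : K) :
    reeV θ t u v = relG2.xU 4 (-(t ^ θ)) * relG2.xU 5 (-t) * relG2.xU 3 (-(t ^ (θ + 1) + u ^ θ)) *
      relG2.xU 2 (-(t ^ (2 * θ + 1) + v ^ θ)) * relG2.xU 1 (-u) * relG2.xU 0 (-v) := by
  unfold reeV RSys.ree
  simp only [reeSysNeg, Subgroup.coe_mul]
  rfl

theorem glF_reeV (f : K ≃+* K) (θ : ℕ) (t u v : K) : glF f (reeV θ t u v) = reeV θ (f t) (f u) (f v) := by
  rw [reeV_coe, reeV_coe]
  simp only [map_mul, glF_xU, map_pow, map_add, map_neg]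

theorem glF_hRee (f : K ≃+* K) (θ : ℕ) (s : K) : glF f (hRee θ s) = hRee θ (f s) := by
  unfold hRee hT
  rw [map_mul, glF_hU, glF_hU, map_pow]

theorem glF_comp (f g : K ≃+* K) (x : GL cdG2.D.Idx K) : glF (f * g) x = glF f (glF g x) := by
  apply Units.ext
  ext i j
  rfl

theorem glF_one (x : GL cdG2.D.Idx K) : glF (1 : K ≃+* K) x = x := by
  apply Units.ext
  ext i j
  rfl

theorem glF_mem (f : K ≃+* K) (θ : ℕ) (g : GL cdG2.D.Idx K) (hg : g ∈ tG2 K θ) : glF f g ∈ tG2 K θ := by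
  unfold tG2 ChevalleyDatum.genSubgroup at hg
  induction hg using Subgroup.closure_induction with
  | mem x hx =>
    obtain ⟨w, ⟨t, u, v, hw | hw⟩, e⟩ := hx
    · have : x = reeU θ t u v := by
        apply Units.ext
        rw [e, hw, reeU_val]
        rfl
      rw [this, glF_reeU]
      exact reeU_mem_tG2 _ _ _ _
    · have : x = reeV θ t u v := by
        apply Units.ext
        rw [e, hw, reeV_val]
        rfl
      rw [this, glF_reeV]
      exact reeV_mem_tG2 _ _ _ _
  | one => rw [map_one]; exact Subgroup.one_mem _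
  | mul _ _ _ _ hx hy => rw [map_mul]; exact Subgroup.mul_mem _ hx hy
  | inv _ _ hx => rw [map_inv]; exact Subgroup.inv_mem _ hx

/-- the field automorphisms of the twisted group, as endomorphisms -/
noncomputable def fieldHomR (θ : ℕ) (f : K ≃+* K) : ↥(tG2 K θ) →* ↥(tG2 K θ) where
  toFun g := ⟨glF f (g : GL cdG2.D.Idx K), glF_mem f θ _ g.2⟩
  map_one' := Subtype.ext (map_one _)
  map_mul' x y := Subtype.ext (map_mul _ _ _)

theorem fieldHomR_coe (θ : ℕ) (f : K ≃+* K) (g : ↥(tG2 K θ)) :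
    ((fieldHomR θ f g : ↥(tG2 K θ)) : GL cdG2.D.Idx K) = glF f (g : GL cdG2.D.Idx K) := rfl

theorem fieldHomR_comp (θ : ℕ) (f g : K ≃+* K) (x : ↥(tG2 K θ)) :
    fieldHomR θ (f * g) x = fieldHomR θ f (fieldHomR θ g x) :=
  Subtype.ext (glF_comp f g _)

theorem fieldHomR_one (θ : ℕ) (x : ↥(tG2 K θ)) : fieldHomR θ (1 : K ≃+* K) x = x :=
  Subtype.ext (glF_one _)

/-- the field automorphisms of the twisted group -/
noncomputable def fieldAutR (θ : ℕ) : (K ≃+* K) →* MulAut ↥(tG2 K θ) where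
  toFun f :=
    { toFun := fieldHomR θ f
      invFun := fieldHomR θ f⁻¹
      left_inv := fun x => by rw [← fieldHomR_comp, inv_mul_cancel, fieldHomR_one]
      right_inv := fun x => by rw [← fieldHomR_comp, mul_inv_cancel, fieldHomR_one]
      map_mul' := map_mul _ }
  map_one' := by
    apply MulEquiv.ext
    intro x
    exact fieldHomR_one θ x
  map_mul' f g := by
    apply MulEquiv.ext
    intro x
    exact fieldHomR_comp θ f g x

theorem fieldAutR_coe (θ : ℕ) (f : K ≃+* K) (g : ↥(tG2 K θ)) :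
    ((fieldAutR θ f g : ↥(tG2 K θ)) : GL cdG2.D.Idx K) = glF f (g : GL cdG2.D.Idx K) := rfl

end

end Cfsg.Agent.Lib.Helper3.Ree
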