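import Mathlib
import Cfsg.Agent.Lib.Helper3.ReeO1
import Cfsg.Agent.Lib.Helper3.ReeM4
set_option autoImplicit false
set_option linter.unusedSectionVars false
set_option linter.style.haveILetI false
set_option linter.unusedSimpArgs false
open Cfsg Cfsg.Lie

/-!
The twisted group of type `G₂`: the unipotent and the diagonal elements as elements of the group, and their relations.
-/

namespace Cfsg.Agent.Lib.Helper3.Ree

open Cfsg.Agent.Lib.Helper3.ChevM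

section
variable {K : Type*} [Field K] [Fintype K] [CharP K 3]

/-- the diagonal elements as elements of the twisted group -/
noncomputable def hGu (m : ℕ) (hK : Fintype.card K = 3 ^ (2 * m + 1)) (s : Kˣ) : ↥(tG2 K (3 ^ m)) :=
  ⟨hRee (3 ^ m) (s : K), hRee_mem_tG2 m hK s s.ne_zero⟩

theorem hGu_coe (m : ℕ) (hK : Fintype.card K = 3 ^ (2 * m + 1)) (s : Kˣ) :
    ((hGu m hK s : ↥(tG2 K (3 ^ m))) : GL cdG2.D.Idx K) = hRee (3 ^ m) (s : K) := rfl

theorem hGu_mem (m : ℕ) (hK : Fintype.card K = 3 ^ (2 * m + 1)) (s : Kˣ) : hGu m hK s ∈ torusSplit (K := K) m :=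
  (mem_torusSplit_iff m hK _).mpr ⟨s, s.ne_zero, rfl⟩

theorem exists_hGu (m : ℕ) (hK : Fintype.card K = 3 ^ (2 * m + 1)) {a : ↥(tG2 K (3 ^ m))}
    (ha : a ∈ torusSplit (K := K) m) : ∃ s : Kˣ, a = hGu m hK s := by
  obtain ⟨s, hs, e⟩ := (mem_torusSplit_iff m hK a).mp ha
  exact ⟨Units.mk0 s hs, Subtype.ext e⟩

theorem hGu_mul (m : ℕ) (hK : Fintype.card K = 3 ^ (2 * m + 1)) (s s' : Kˣ) :
    hGu m hK (s * s') = hGu m hK s * hGu m hK s' := by
  apply Subtype.ext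
  show hRee (3 ^ m) ((s * s' : Kˣ) : K) = hRee (3 ^ m) (s : K) * hRee (3 ^ m) (s' : K)
  rw [Units.val_mul, hRee_mul _ _ _ s.ne_zero s'.ne_zero]

theorem hGu_one (m : ℕ) (hK : Fintype.card K = 3 ^ (2 * m + 1)) : hGu m hK (1 : Kˣ) = 1 := by
  apply Subtype.ext
  show hRee (3 ^ m) ((1 : Kˣ) : K) = 1
  rw [Units.val_one, hRee_one]

theorem hGu_inv (m : ℕ) (hK : Fintype.card K = 3 ^ (2 * m + 1)) (s : Kˣ) : hGu m hK s⁻¹ = (hGu m hK s)⁻¹ := by
  apply eq_inv_of_mul_eq_one_left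
  rw [← hGu_mul, inv_mul_cancel, hGu_one]

theorem hGu_inj (m : ℕ) (hK : Fintype.card K = 3 ^ (2 * m + 1)) {s s' : Kˣ} (h : hGu m hK s = hGu m hK s') :
    s = s' := by
  apply Units.ext
  exact hRee_inj _ _ _ s.ne_zero s'.ne_zero (congrArg Subtype.val h)

theorem hGu_comm (m : ℕ) (hK : Fintype.card K = 3 ^ (2 * m + 1)) (s s' : Kˣ) :
    hGu m hK s * hGu m hK s' = hGu m hK s' * hGu m hK s := by
  rw [← hGu_mul, ← hGu_mul, mul_comm]

theorem zG_eq_hGu (m : ℕ) (hK : Fintype.card K = 3 ^ (2 * m + 1)) : zG (K := K) m hK = hGu m hK (-1) := by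
  apply Subtype.ext
  show hRee (3 ^ m) (-1 : K) = hRee (3 ^ m) (((-1 : Kˣ)) : K)
  rw [Units.val_neg, Units.val_one]

theorem uG_coe (m : ℕ) (t u v : K) : ((uG m t u v : ↥(tG2 K (3 ^ m))) : GL cdG2.D.Idx K) = reeU (3 ^ m) t u v := rfl

theorem uG_inj (m : ℕ) {t u v t' u' v' : K} (h : uG m t u v = uG m t' u' v') : t = t' ∧ u = u' ∧ v = v' := by
  have h1 : ((uG m t u v : ↥(tG2 K (3 ^ m))) : GL cdG2.D.Idx K) = (uG m t' u' v' : ↥(tG2 K (3 ^ m))) := by rw [h]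
  rw [uG_coe, uG_coe] at h1
  exact reeU_inj (3 ^ m) _ _ _ _ _ _ h1

theorem uG_zero (m : ℕ) : uG m (0 : K) 0 0 = 1 :=
  Subtype.ext (reeU_zero _ (three_pow_ne_zero m))

theorem uG_mul_zU (m : ℕ) (t u v u' v' : K) : uG m t u v * uG m 0 u' v' = uG m t (u + u') (v + v') := by
  apply Subtype.ext
  show reeU (3 ^ m) t u v * reeU (3 ^ m) 0 u' v' = reeU (3 ^ m) t (u + u') (v + v')
  rw [reeU_split _ (three_pow_ne_zero m) t u v, mul_assoc, zU_mul, ← reeU_split _ (three_pow_ne_zero m)]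

theorem zU_mul_G (m : ℕ) (u v u' v' : K) : uG m 0 u v * uG m 0 u' v' = uG m (0 : K) (u + u') (v + v') :=
  uG_mul_zU m 0 u v u' v'

theorem zU_inv_G (m : ℕ) (u v : K) : (uG m (0 : K) u v)⁻¹ = uG m 0 (-u) (-v) := by
  apply inv_eq_of_mul_eq_one_right
  rw [zU_mul_G, add_neg_cancel, add_neg_cancel, uG_zero]

theorem uG_split (m : ℕ) (t u v : K) : uG m t u v = uG m t 0 0 * uG m 0 u v := by
  rw [uG_mul_zU, zero_add, zero_add]

theorem zU_comm_G (m : ℕ) (u v u' v' : K) : uG m (0 : K) u v * uG m 0 u' v' = uG m 0 u' v' * uG m 0 u v := by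
  rw [zU_mul_G, zU_mul_G, add_comm u, add_comm v]

/-- the first coordinate of a product -/
theorem uG_mul_first (m : ℕ) (hK : Fintype.card K = 3 ^ (2 * m + 1)) (t u v t' u' v' : K) :
    ∃ u'' v'' : K, uG m t u v * uG m t' u' v' = uG m (t + t') u'' v'' := by
  have h := Subgroup.mul_mem _ (uG_mem m hK t u v) (uG_mem m hK t' u' v')
  obtain ⟨t'', u'', v'', e⟩ := (mem_uSub_iff m hK _).mp h
  have e' : reeU (3 ^ m) t u v * reeU (3 ^ m) t' u' v' = reeU (3 ^ m) t'' u'' v'' := e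
  have ht := reeU_mul_first _ _ _ _ _ _ _ _ _ _ e'
  exact ⟨u'', v'', Subtype.ext (by rw [← ht]; exact e')⟩

theorem uG_inv_first (m : ℕ) (hK : Fintype.card K = 3 ^ (2 * m + 1)) (t u v : K) :
    ∃ u'' v'' : K, (uG m t u v)⁻¹ = uG m (-t) u'' v'' := by
  have h := Subgroup.inv_mem _ (uG_mem m hK t u v)
  obtain ⟨t'', u'', v'', e⟩ := (mem_uSub_iff m hK _).mp h
  have e1 : (uG m t u v)⁻¹ = uG m t'' u'' v'' := Subtype.ext e
  obtain ⟨u₃, v₃, e2⟩ := uG_mul_first m hK t u v t'' u'' v''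
  rw [← e1, mul_inv_cancel, ← uG_zero m] at e2
  have ht : (0 : K) = t + t'' := (uG_inj m e2).1
  have : t'' = -t := by linear_combination -ht
  exact ⟨u'', v'', by rw [e1, this]⟩

/-- the action of the diagonal part on the first layer -/
theorem hGu_conj_first (m : ℕ) (hK : Fintype.card K = 3 ^ (2 * m + 1)) (s : Kˣ) (a : K) :
    hGu m hK s * uG m a 0 0 * (hGu m hK s)⁻¹ = uG m (wt1 m (s : K) * a) 0 0 := by
  apply Subtype.ext
  show hRee (3 ^ m) (s : K) * reeU (3 ^ m) a 0 0 * (hRee (3 ^ m) (s : K))⁻¹ = reeU (3 ^ m) (wt1 m (s : K) * a) 0 0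
  rw [conj_reeU_first m hK _ s.ne_zero, chi_6]
  rfl

/-- the action of the diagonal part on the two deepest layers -/
theorem hGu_conj_zU (m : ℕ) (hK : Fintype.card K = 3 ^ (2 * m + 1)) (s : Kˣ) (u v : K) :
    hGu m hK s * uG m 0 u v * (hGu m hK s)⁻¹ = uG m 0 (wt2 m (s : K) * u) ((s : K) * v) := by
  apply Subtype.ext
  show hRee (3 ^ m) (s : K) * reeU (3 ^ m) 0 u v * (hRee (3 ^ m) (s : K))⁻¹ =
    reeU (3 ^ m) 0 (wt2 m (s : K) * u) ((s : K) * v)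
  rw [conj_reeU_zU m hK _ s.ne_zero, chi_10]
  rfl

/-- the action of the diagonal part on the unipotent part -/
theorem hGu_conj_uG (m : ℕ) (hK : Fintype.card K = 3 ^ (2 * m + 1)) (s : Kˣ) (t u v : K) :
    hGu m hK s * uG m t u v * (hGu m hK s)⁻¹ = uG m (wt1 m (s : K) * t) (wt2 m (s : K) * u) ((s : K) * v) := by
  rw [uG_split m t u v]
  calc hGu m hK s * (uG m t 0 0 * uG m 0 u v) * (hGu m hK s)⁻¹
      = (hGu m hK s * uG m t 0 0 * (hGu m hK s)⁻¹) * (hGu m hK s * uG m 0 u v * (hGu m hK s)⁻¹) := by group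
    _ = _ := by rw [hGu_conj_first, hGu_conj_zU, ← uG_split]

/-- the action of the unipotent part on the second layer -/
theorem uG_conj_second (m : ℕ) (t u v b : K) :
    uG m t u v * uG m 0 b 0 * (uG m t u v)⁻¹ = uG m 0 b (t * b) := by
  have h1 : uG m t 0 0 * uG m 0 b 0 * (uG m t 0 0)⁻¹ = uG m 0 b (t * b) := by
    apply Subtype.ext
    show reeU (3 ^ m) t 0 0 * reeU (3 ^ m) 0 b 0 * (reeU (3 ^ m) t 0 0)⁻¹ = reeU (3 ^ m) 0 b (t * b)
    rw [reeU_conj_second _ (three_pow_ne_zero m), zU_mul, add_zero, zero_add]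
  rw [uG_split m t u v]
  calc uG m t 0 0 * uG m 0 u v * uG m 0 b 0 * (uG m t 0 0 * uG m 0 u v)⁻¹
      = uG m t 0 0 * (uG m 0 u v * uG m 0 b 0 * (uG m 0 u v)⁻¹) * (uG m t 0 0)⁻¹ := by group
    _ = uG m t 0 0 * uG m 0 b 0 * (uG m t 0 0)⁻¹ := by
        rw [zU_comm_G m u v b 0, mul_inv_cancel_right]
    _ = _ := h1

theorem fieldAutR_uG (m : ℕ) (f : K ≃+* K) (t u v : K) :
    fieldAutR (3 ^ m) f (uG m t u v) = uG m (f t) (f u) (f v) :=
  Subtype.ext (glF_reeU f _ t u v)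

theorem fieldAutR_hGu (m : ℕ) (hK : Fintype.card K = 3 ^ (2 * m + 1)) (f : K ≃+* K) (s : Kˣ) :
    fieldAutR (3 ^ m) f (hGu m hK s) = hGu m hK (Units.map (f : K →* K) s) :=
  Subtype.ext (glF_hRee f _ s)

end

end Cfsg.Agent.Lib.Helper3.Ree
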