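import Mathlib
import Cfsg.Agent.Lib.Helper3.ReeO2
set_option autoImplicit false
set_option linter.unusedSectionVars false
set_option linter.style.haveILetI false
set_option linter.unusedSimpArgs false
open Cfsg Cfsg.Lie

/-!
Automorphisms of the twisted group of type `G₂`: up to an inner automorphism, they preserve the unipotent part and the
diagonal part.
-/

namespace Cfsg.Agent.Lib.Helper3.Ree

open Cfsg.Agent.Lib.Helper3.ChevM
open scoped Pointwise

section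
variable {K : Type*} [Field K] [Fintype K] [CharP K 3]

/-- the unipotent part as a Sylow `3`-subgroup -/
noncomputable def sylU3 (m : ℕ) (hK : Fintype.card K = 3 ^ (2 * m + 1)) : Sylow 3 ↥(tG2 K (3 ^ m)) :=
  haveI : Fact (Nat.Prime 3) := ⟨by norm_num⟩
  (isPGroup_uSub m hK).toSylow (not_dvd_index_uSub m hK)

theorem sylU3_coe (m : ℕ) (hK : Fintype.card K = 3 ^ (2 * m + 1)) :
    (sylU3 m hK : Subgroup ↥(tG2 K (3 ^ m))) = uSub K (3 ^ m) :=
  haveI : Fact (Nat.Prime 3) := ⟨by norm_num⟩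
  IsPGroup.toSylow_coe _ _

/-- after an inner automorphism, an automorphism maps the unipotent part into itself -/
theorem aut_exists_conj_uSub (m : ℕ) (hK : Fintype.card K = 3 ^ (2 * m + 1)) (α : MulAut ↥(tG2 K (3 ^ m))) :
    ∃ y : ↥(tG2 K (3 ^ m)), ∀ u ∈ uSub K (3 ^ m), ((MulAut.conj y)⁻¹ * α) u ∈ uSub K (3 ^ m) := by
  haveI : Fact (Nat.Prime 3) := ⟨by norm_num⟩
  obtain ⟨y, hy⟩ := MulAction.exists_smul_eq ↥(tG2 K (3 ^ m)) (sylU3 m hK) (α • sylU3 m hK)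
  refine ⟨y, ?_⟩
  intro u hu
  rw [MulAut.mul_apply, MulAut.conj_inv_apply]
  have h1 : α u ∈ ((α • sylU3 m hK : Sylow 3 ↥(tG2 K (3 ^ m))) : Subgroup ↥(tG2 K (3 ^ m))) := by
    rw [Sylow.pointwise_smul_def, sylU3_coe]
    have := Subgroup.smul_mem_pointwise_smul u α (uSub K (3 ^ m)) hu
    rwa [MulAut.smul_def] at this
  rw [← hy] at h1
  have hcoe : ((y • sylU3 m hK : Sylow 3 ↥(tG2 K (3 ^ m))) : Subgroup ↥(tG2 K (3 ^ m))) =
      (uSub K (3 ^ m)).map (MulAut.conj y).toMonoidHom := by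
    rw [Sylow.coe_subgroup_smul, sylU3_coe, Subgroup.pointwise_smul_def]
    rfl
  rw [hcoe, Subgroup.mem_map_equiv, MulAut.conj_symm_apply] at h1
  exact h1

/-- an automorphism mapping the unipotent part into itself maps it onto itself -/
theorem aut_uSub_surj (m : ℕ) (α : MulAut ↥(tG2 K (3 ^ m)))
    (h : ∀ u ∈ uSub K (3 ^ m), α u ∈ uSub K (3 ^ m)) :
    ∀ u ∈ uSub K (3 ^ m), ∃ u' ∈ uSub K (3 ^ m), α u' = u := by
  let f : uSub K (3 ^ m) → uSub K (3 ^ m) := fun u => ⟨α u, h u u.2⟩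
  have hf : Function.Injective f := by
    intro u u' e
    have : α (u : ↥(tG2 K (3 ^ m))) = α (u' : ↥(tG2 K (3 ^ m))) := congrArg Subtype.val e
    exact Subtype.ext (EquivLike.injective α this)
  have hs := Finite.injective_iff_surjective.mp hf
  intro u hu
  obtain ⟨u', hu'⟩ := hs ⟨u, hu⟩
  exact ⟨u', u'.2, congrArg Subtype.val hu'⟩

theorem aut_mem_uSub_iff (m : ℕ) (α : MulAut ↥(tG2 K (3 ^ m)))
    (h : ∀ u ∈ uSub K (3 ^ m), α u ∈ uSub K (3 ^ m)) (x : ↥(tG2 K (3 ^ m))) :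
    α x ∈ uSub K (3 ^ m) ↔ x ∈ uSub K (3 ^ m) := by
  constructor
  · intro hx
    obtain ⟨u', hu', e⟩ := aut_uSub_surj m α h _ hx
    rw [← EquivLike.injective α e]
    exact hu'
  · exact h x

/-- such an automorphism preserves the Borel subgroup -/
theorem aut_bSub (m : ℕ) (hK : Fintype.card K = 3 ^ (2 * m + 1)) (α : MulAut ↥(tG2 K (3 ^ m)))
    (h : ∀ u ∈ uSub K (3 ^ m), α u ∈ uSub K (3 ^ m)) :
    ∀ b ∈ bSub K (3 ^ m), α b ∈ bSub K (3 ^ m) := by
  intro b hb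
  apply normalizer_uSub_le m hK
  apply mem_normalizer_of_conj_mem
  intro x hx
  obtain ⟨x', hx', rfl⟩ := aut_uSub_surj m α h x hx
  rw [← map_inv, ← map_mul, ← map_mul]
  exact h _ (bSub_conj_uSub m hK b x' hb hx')

/-- an element of the diagonal part which is not an involution -/
theorem exists_hGu_sq_ne (m : ℕ) (hm : 1 ≤ m) (hK : Fintype.card K = 3 ^ (2 * m + 1)) :
    ∃ s : Kˣ, hGu m hK s * hGu m hK s ≠ 1 := by
  obtain ⟨s, h0, h1, h2⟩ := exists_ne_three (K := K) m hm hK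
  refine ⟨Units.mk0 s h0, ?_⟩
  rw [← hGu_mul, ← hGu_one m hK]
  intro h
  have h3 := hGu_inj m hK h
  have h4 : s * s = 1 := by
    have := congrArg (fun x : Kˣ => (x : K)) h3
    simpa using this
  rcases mul_self_eq_one_iff.mp h4 with h5 | h5
  · exact h2 h5
  · apply h1
    rw [h5]
    ring

/-- after an inner automorphism, an automorphism preserves the unipotent part and the diagonal part -/
theorem aut_exists_conj_preserve (m : ℕ) (hm : 1 ≤ m) (hK : Fintype.card K = 3 ^ (2 * m + 1))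
    (α : MulAut ↥(tG2 K (3 ^ m))) :
    ∃ g : ↥(tG2 K (3 ^ m)), (∀ u ∈ uSub K (3 ^ m), ((MulAut.conj g)⁻¹ * α) u ∈ uSub K (3 ^ m)) ∧
      ∀ a ∈ torusSplit (K := K) m, ((MulAut.conj g)⁻¹ * α) a ∈ torusSplit (K := K) m := by
  obtain ⟨y, hy⟩ := aut_exists_conj_uSub m hK α
  set α₀ := (MulAut.conj y)⁻¹ * α with hα₀
  obtain ⟨s₀, hs₀⟩ := exists_hGu_sq_ne (K := K) m hm hK
  set a₀ := hGu m hK s₀ with ha₀
  have ha₀H : a₀ ∈ torusSplit (K := K) m := hGu_mem m hK s₀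
  have hb := aut_bSub m hK α₀ hy a₀ (torusSplit_le_bSub m hK ha₀H)
  obtain ⟨u, hu, a, ha, e⟩ := (mem_bSub_iff' m hK _).mp hb
  have haB := torusSplit_le_bSub m hK ha
  have ha2 : a * a ≠ 1 := by
    intro haa
    have h1 : α₀ (a₀ * a₀) ∈ uSub K (3 ^ m) := by
      rw [map_mul, e]
      have : u * a * (u * a) = u * (a * u * a⁻¹) * (a * a) := by group
      rw [this, haa, mul_one]
      exact Subgroup.mul_mem _ hu (bSub_conj_uSub m hK a u haB hu)
    have h2 := (aut_mem_uSub_iff m α₀ hy _).mp h1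
    have h3 : a₀ * a₀ ∈ uSub K (3 ^ m) ⊓ torusSplit (K := K) m := ⟨h2, Subgroup.mul_mem _ ha₀H ha₀H⟩
    rw [uSub_inf_torusSplit m hK, Subgroup.mem_bot] at h3
    exact hs₀ h3
  obtain ⟨w, hw, hwa⟩ := conj_to_torus m hK a u ha ha2 hu
  refine ⟨y * w, ?_, ?_⟩
  · intro x hx
    have : ((MulAut.conj (y * w))⁻¹ * α) x = w⁻¹ * α₀ x * w := by
      rw [hα₀, MulAut.mul_apply, MulAut.mul_apply, MulAut.conj_inv_apply, MulAut.conj_inv_apply]
      group
    rw [this]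
    exact Subgroup.mul_mem _ (Subgroup.mul_mem _ (Subgroup.inv_mem _ hw) (hy x hx)) hw
  · intro x hx
    have e1 : ((MulAut.conj (y * w))⁻¹ * α) x = w⁻¹ * α₀ x * w := by
      rw [hα₀, MulAut.mul_apply, MulAut.mul_apply, MulAut.conj_inv_apply, MulAut.conj_inv_apply]
      group
    rw [e1]
    have hcomm : α₀ x * α₀ a₀ = α₀ a₀ * α₀ x := by
      rw [← map_mul, ← map_mul, torusSplit_comm m hK x a₀ hx ha₀H]
    have hmem : w⁻¹ * α₀ x * w ∈ Subgroup.centralizer ({a} : Set ↥(tG2 K (3 ^ m))) := by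
      rw [Subgroup.mem_centralizer_singleton_iff]
      have e2 : a = w⁻¹ * α₀ a₀ * w := by
        rw [e, ← hwa]
        group
      rw [e2]
      calc w⁻¹ * α₀ x * w * (w⁻¹ * α₀ a₀ * w) = w⁻¹ * (α₀ x * α₀ a₀) * w := by group
        _ = w⁻¹ * (α₀ a₀ * α₀ x) * w := by rw [hcomm]
        _ = w⁻¹ * α₀ a₀ * w * (w⁻¹ * α₀ x * w) := by group
    rw [centralizer_torusSplit m hK a ha ha2] at hmem
    exact hmem

end

end Cfsg.Agent.Lib.Helper3.Ree
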