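import Mathlib
import Cfsg.Agent.Lib.Helper3.ReeO3
import Cfsg.Agent.Lib.Helper3.Ree54
set_option autoImplicit false
set_option linter.unusedSectionVars false
set_option linter.style.haveILetI false
set_option linter.unusedSimpArgs false
open Cfsg Cfsg.Lie

/-!
Automorphisms of the twisted group of type `G₂` preserving the unipotent part and the diagonal part: after a field
automorphism, they fix the diagonal part pointwise.
-/

namespace Cfsg.Agent.Lib.Helper3.Ree

open Cfsg.Agent.Lib.Helper3.ChevM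

section
variable {K : Type*} [Field K] [Fintype K]

/-- an additive injective map which is semilinear with respect to a map of the units comes from an automorphism of the
field -/
theorem exists_ringEquiv_of_semilinear (f : K → K) (g : Kˣ → Kˣ) (hadd : ∀ x y, f (x + y) = f x + f y)
    (hinj : Function.Injective f) (hsl : ∀ (s : Kˣ) (c : K), f ((s : K) * c) = (g s : K) * f c) :
    ∃ φ : K ≃+* K, ∀ s : Kˣ, ((g s : Kˣ) : K) = φ (s : K) := by
  have h0 : f 0 = 0 := by
    have := hadd 0 0
    rw [add_zero] at this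
    exact left_eq_add.mp this
  have hc : f 1 ≠ 0 := by
    intro h
    rw [← h0] at h
    exact one_ne_zero (hinj h)
  have hg : ∀ s : Kˣ, f (s : K) = (g s : K) * f 1 := by
    intro s
    have := hsl s 1
    rwa [mul_one] at this
  let φ₀ : K →+* K :=
    { toFun := fun x => f x / f 1
      map_one' := div_self hc
      map_mul' := by
        intro x y
        by_cases hx : x = 0
        · subst hx
          simp [h0]
        · have := hsl (Units.mk0 x hx) y
          rw [Units.val_mk0] at this
          have h2 := hg (Units.mk0 x hx)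
          rw [Units.val_mk0] at h2
          show f (x * y) / f 1 = f x / f 1 * (f y / f 1)
          rw [this, h2]
          field_simp
      map_zero' := by
        show f 0 / f 1 = 0
        rw [h0, zero_div]
      map_add' := by
        intro x y
        show f (x + y) / f 1 = f x / f 1 + f y / f 1
        rw [hadd, add_div] }
  have hbij : Function.Bijective φ₀ := Finite.injective_iff_bijective.mp φ₀.injective
  refine ⟨RingEquiv.ofBijective φ₀ hbij, ?_⟩
  intro s
  show (g s : K) = f (s : K) / f 1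
  rw [hg s]
  field_simp

end

section
variable {K : Type*} [Field K] [Fintype K] [CharP K 3]

theorem wt2_neg_one (m : ℕ) : wt2 m (-1 : K) = 1 := by
  unfold wt2 tau
  rw [neg_one_pow_theta]
  norm_num

theorem wt1_neg_one (m : ℕ) : wt1 m (-1 : K) = -1 := by
  unfold wt1 tau
  rw [neg_one_pow_theta]
  norm_num

/-- the second layer commutes with the involution of the diagonal part -/
theorem zG_conj_second (m : ℕ) (hK : Fintype.card K = 3 ^ (2 * m + 1)) (b : K) :
    zG m hK * uG m 0 b 0 * (zG m hK)⁻¹ = uG m 0 b 0 := by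
  rw [zG_eq_hGu, hGu_conj_zU, Units.val_neg, Units.val_one, wt2_neg_one, one_mul, mul_zero]

variable (m : ℕ) (hK : Fintype.card K = 3 ^ (2 * m + 1)) (α : MulAut ↥(tG2 K (3 ^ m)))
  (hU : ∀ u ∈ uSub K (3 ^ m), α u ∈ uSub K (3 ^ m))
  (hH : ∀ a ∈ torusSplit (K := K) m, α a ∈ torusSplit (K := K) m)

include hH in
/-- the involution of the diagonal part is fixed -/
theorem aut_zG : α (zG m hK) = zG m hK := by
  apply eq_zG m hK
  · have := hH _ (zG_mem_torusSplit m hK)
    unfold torusSplit at this
    exact (Subgroup.mem_subgroupOf.mp this).1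
  · intro h
    rw [map_eq_one_iff α (EquivLike.injective α)] at h
    exact zG_ne_one m hK h
  · rw [← map_mul, zG_sq, map_one]

include hK hU hH in
/-- the second layer is preserved -/
theorem aut_second (b : K) : ∃ b' : K, α (uG m 0 b 0) = uG m 0 b' 0 := by
  obtain ⟨t, u, v, e⟩ := (mem_uSub_iff m hK _).mp (hU _ (uG_mem m hK 0 b 0))
  have h1 : zG m hK * α (uG m 0 b 0) * (zG m hK)⁻¹ = α (uG m 0 b 0) := by
    nth_rewrite 1 2 [← aut_zG m hK α hH]
    rw [← map_inv, ← map_mul, ← map_mul, zG_conj_second]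
  have h2 : hRee (3 ^ m) (-1 : K) * reeU (3 ^ m) t u v * (hRee (3 ^ m) (-1 : K))⁻¹ = reeU (3 ^ m) t u v := by
    rw [← e]
    exact congrArg Subtype.val h1
  obtain ⟨rfl, rfl⟩ := reeU_of_conj_zR m hK t u v h2
  exact ⟨u, Subtype.ext e⟩

include hK hU hH in
/-- the third layer is preserved -/
theorem aut_third (c : K) : ∃ c' : K, α (uG m 0 0 c) = uG m 0 0 c' := by
  obtain ⟨b', hb'⟩ := aut_second m hK α hU hH c
  obtain ⟨t, u, v, e⟩ := (mem_uSub_iff m hK _).mp (hU _ (uG_mem m hK 1 0 0))
  have e' : α (uG m 1 0 0) = uG m t u v := Subtype.ext e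
  have h1 : uG m (0 : K) 0 c = (uG m 0 c 0)⁻¹ * (uG m 1 0 0 * uG m 0 c 0 * (uG m 1 0 0)⁻¹) := by
    rw [uG_conj_second, zU_inv_G, zU_mul_G, neg_add_cancel, neg_zero, zero_add, one_mul]
  refine ⟨t * b', ?_⟩
  rw [h1, map_mul, map_inv, map_mul, map_mul, map_inv, hb', e', uG_conj_second, zU_inv_G, zU_mul_G, neg_add_cancel,
    neg_zero, zero_add]

include hU hH in
/-- after a field automorphism, the diagonal part is fixed pointwise -/
theorem aut_exists_field :
    ∃ φ : K ≃+* K, (∀ u ∈ uSub K (3 ^ m), ((fieldAutR (3 ^ m) φ)⁻¹ * α) u ∈ uSub K (3 ^ m)) ∧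
      ∀ s : Kˣ, ((fieldAutR (3 ^ m) φ)⁻¹ * α) (hGu m hK s) = hGu m hK s := by
  choose f3 hf3 using aut_third m hK α hU hH
  have hg' : ∀ s : Kˣ, ∃ s' : Kˣ, α (hGu m hK s) = hGu m hK s' := fun s => exists_hGu m hK (hH _ (hGu_mem m hK s))
  choose g hg using hg'
  have hadd : ∀ x y, f3 (x + y) = f3 x + f3 y := by
    intro x y
    have h1 : uG m (0 : K) 0 (x + y) = uG m 0 0 x * uG m 0 0 y := by rw [zU_mul_G, add_zero]
    have h2 := congrArg α h1
    rw [map_mul, hf3, hf3, hf3, zU_mul_G] at h2
    exact (uG_inj m h2).2.2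
  have hinj : Function.Injective f3 := by
    intro x y h
    have h1 : α (uG m 0 0 x) = α (uG m 0 0 y) := by rw [hf3, hf3, h]
    exact (uG_inj m (EquivLike.injective α h1)).2.2
  have hsl : ∀ (s : Kˣ) (c : K), f3 ((s : K) * c) = (g s : K) * f3 c := by
    intro s c
    have h1 := hGu_conj_zU m hK s 0 c
    rw [mul_zero] at h1
    have h2 := congrArg α h1
    rw [map_mul, map_mul, map_inv, hg, hf3, hf3, hGu_conj_zU, mul_zero] at h2
    exact ((uG_inj m h2).2.2).symm
  obtain ⟨φ, hφ⟩ := exists_ringEquiv_of_semilinear f3 g hadd hinj hsl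
  refine ⟨φ, ?_, ?_⟩
  · intro u hu
    rw [MulAut.mul_apply, ← map_inv]
    obtain ⟨t, u', v, e⟩ := (mem_uSub_iff m hK _).mp (hU u hu)
    have e' : α u = uG m t u' v := Subtype.ext e
    rw [e', fieldAutR_uG]
    exact uG_mem m hK _ _ _
  · intro s
    rw [MulAut.mul_apply, ← map_inv, hg, fieldAutR_hGu]
    congr 1
    apply Units.ext
    show (φ⁻¹ : K ≃+* K) ((g s : Kˣ) : K) = (s : K)
    rw [hφ s]
    exact φ.symm_apply_apply _

end

end Cfsg.Agent.Lib.Helper3.Ree
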