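import Mathlib
import Cfsg.Agent.Lib.Helper3.ReeO4
set_option autoImplicit false
set_option linter.unusedSectionVars false
set_option linter.style.haveILetI false
set_option linter.unusedSimpArgs false
open Cfsg Cfsg.Lie

/-!
The unipotent part of the twisted group of type `G₂`: conjugation of the two deepest layers, cubes.
-/

namespace Cfsg.Agent.Lib.Helper3.Ree

open Cfsg.Agent.Lib.Helper3.ChevM

section
variable {G : Type*} [Group G]

/-- the cube of a product -/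
theorem cube_mul_of_comm {x w z : G} (hwx : w * x = x * w * z⁻¹) (hzx : z * x = x * z) (hzw : z * w = w * z) :
    (x * w) ^ 3 = x ^ 3 * w ^ 3 * (z ^ 3)⁻¹ := by
  have hzx' : z⁻¹ * x = x * z⁻¹ := by
    calc z⁻¹ * x = z⁻¹ * (x * z) * z⁻¹ := by group
      _ = z⁻¹ * (z * x) * z⁻¹ := by rw [hzx]
      _ = x * z⁻¹ := by group
  have hzw' : z⁻¹ * w = w * z⁻¹ := by
    calc z⁻¹ * w = z⁻¹ * (w * z) * z⁻¹ := by group
      _ = z⁻¹ * (z * w) * z⁻¹ := by rw [hzw]
      _ = w * z⁻¹ := by group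
  calc (x * w) ^ 3 = x * (w * x) * (w * x) * w := by
        rw [pow_succ, pow_succ, pow_one]
        group
    _ = x * (x * w * z⁻¹) * (x * w * z⁻¹) * w := by rw [hwx]
    _ = x * x * w * (z⁻¹ * x) * w * z⁻¹ * w := by group
    _ = x * x * w * (x * z⁻¹) * w * z⁻¹ * w := by rw [hzx']
    _ = x * x * (w * x) * (z⁻¹ * w) * z⁻¹ * w := by group
    _ = x * x * (x * w * z⁻¹) * (w * z⁻¹) * z⁻¹ * w := by rw [hwx, hzw']
    _ = x * x * x * w * (z⁻¹ * w) * z⁻¹ * z⁻¹ * w := by group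
    _ = x * x * x * w * (w * z⁻¹) * z⁻¹ * z⁻¹ * w := by rw [hzw']
    _ = x * x * x * w * w * z⁻¹ * z⁻¹ * (z⁻¹ * w) := by group
    _ = x * x * x * w * w * z⁻¹ * z⁻¹ * (w * z⁻¹) := by rw [hzw']
    _ = x * x * x * w * w * z⁻¹ * (z⁻¹ * w) * z⁻¹ := by group
    _ = x * x * x * w * w * z⁻¹ * (w * z⁻¹) * z⁻¹ := by rw [hzw']
    _ = x * x * x * w * w * (z⁻¹ * w) * z⁻¹ * z⁻¹ := by group
    _ = x * x * x * w * w * (w * z⁻¹) * z⁻¹ * z⁻¹ := by rw [hzw']
    _ = x ^ 3 * w ^ 3 * (z ^ 3)⁻¹ := by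
        rw [pow_succ, pow_succ, pow_one, pow_succ, pow_succ, pow_one, pow_succ, pow_succ, pow_one]
        group

end

section
variable {K : Type*} [Field K] [Fintype K] [CharP K 3]

/-- the third layer is central in the unipotent part -/
theorem uG_comm_third (m : ℕ) (t u v c : K) : uG m t u v * uG m 0 0 c = uG m 0 0 c * uG m t u v := by
  have h1 : uG m t 0 0 * uG m 0 0 c = uG m 0 0 c * uG m t 0 0 :=
    Subtype.ext (reeU_comm_third _ (three_pow_ne_zero m) t c)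
  rw [uG_split m t u v, mul_assoc, zU_comm_G m u v 0 c, ← mul_assoc, h1, mul_assoc]

/-- conjugation of the two deepest layers by a unipotent element -/
theorem uG_conj_zU (m : ℕ) (t u v b c : K) :
    uG m t u v * uG m 0 b c * (uG m t u v)⁻¹ = uG m 0 b (c + t * b) := by
  have h1 : uG m (0 : K) b c = uG m 0 b 0 * uG m 0 0 c := by rw [zU_mul_G, add_zero, zero_add]
  rw [h1]
  calc uG m t u v * (uG m 0 b 0 * uG m 0 0 c) * (uG m t u v)⁻¹
      = (uG m t u v * uG m 0 b 0 * (uG m t u v)⁻¹) * (uG m t u v * uG m 0 0 c) * (uG m t u v)⁻¹ := by group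
    _ = uG m 0 b (t * b) * (uG m 0 0 c * uG m t u v) * (uG m t u v)⁻¹ := by rw [uG_conj_second, uG_comm_third]
    _ = uG m 0 b (t * b) * uG m 0 0 c := by group
    _ = _ := by rw [zU_mul_G, add_zero, add_comm]

theorem zU_cube_G (m : ℕ) (u v : K) : uG m (0 : K) u v ^ 3 = 1 := by
  apply Subtype.ext
  show (reeU (3 ^ m) (0 : K) u v) ^ 3 = 1
  exact zU_cube m u v

/-- the cube of a unipotent element depends only on its first coordinate -/
theorem uG_cube (m : ℕ) (hK : Fintype.card K = 3 ^ (2 * m + 1)) (t u v : K) :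
    uG m t u v ^ 3 = uG m t 0 0 ^ 3 := by
  obtain ⟨u'', v'', hinv⟩ := uG_inv_first m hK t 0 0
  have hwx : uG m 0 u v * uG m t 0 0 = uG m t 0 0 * uG m 0 u v * (uG m 0 0 (t * u))⁻¹ := by
    have h1 : (uG m t 0 0)⁻¹ * uG m 0 u v * uG m t 0 0 = uG m 0 u (v + -t * u) := by
      have := uG_conj_zU m (-t) u'' v'' u v
      rw [← hinv, inv_inv] at this
      exact this
    have h2 : uG m (0 : K) u (v + -t * u) = uG m 0 u v * (uG m 0 0 (t * u))⁻¹ := by
      rw [zU_inv_G, zU_mul_G, neg_zero, add_zero, neg_mul]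
    calc uG m 0 u v * uG m t 0 0 = uG m t 0 0 * ((uG m t 0 0)⁻¹ * uG m 0 u v * uG m t 0 0) := by group
      _ = uG m t 0 0 * (uG m 0 u v * (uG m 0 0 (t * u))⁻¹) := by rw [h1, h2]
      _ = _ := by group
  have hzx : uG m 0 0 (t * u) * uG m t 0 0 = uG m t 0 0 * uG m 0 0 (t * u) := (uG_comm_third m t 0 0 (t * u)).symm
  have hzw : uG m 0 0 (t * u) * uG m 0 u v = uG m 0 u v * uG m 0 0 (t * u) := zU_comm_G m 0 (t * u) u v
  rw [uG_split m t u v, cube_mul_of_comm hwx hzx hzw, zU_cube_G, zU_cube_G, inv_one, mul_one, mul_one]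

/-- the cube of an element of the first layer -/
theorem exists_cube_first (m : ℕ) (hK : Fintype.card K = 3 ^ (2 * m + 1)) (t : K) (ht : t ≠ 0) :
    ∃ r₂ r₃ : K, uG m t 0 0 ^ 3 = uG m 0 r₂ r₃ ∧ (r₂ ≠ 0 ∨ r₃ ≠ 0) := by
  obtain ⟨u₁, v₁, e1⟩ := uG_mul_first m hK t 0 0 t 0 0
  obtain ⟨u₂, v₂, e2⟩ := uG_mul_first m hK (t + t) u₁ v₁ t 0 0
  have e3 : uG m t 0 0 ^ 3 = uG m 0 u₂ v₂ := by
    rw [pow_succ, pow_succ, pow_one, e1, e2, three_mul_eq_zero]
  refine ⟨u₂, v₂, e3, ?_⟩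
  by_contra hcon
  push Not at hcon
  obtain ⟨rfl, rfl⟩ := hcon
  rw [uG_zero] at e3
  have h1 : (reeU (3 ^ m) t 0 0) ^ 3 = 1 := by
    have := congrArg (fun x : ↥(tG2 K (3 ^ m)) => (x : GL cdG2.D.Idx K)) e3
    simp only [Subgroup.coe_pow, Subgroup.coe_one, uG_coe] at this
    exact this
  exact reeU_cube_ne _ (three_pow_ne_zero m) t 0 0 ht h1

/-- the product of two unipotent elements in terms of the product of their first layer parts -/
theorem uG_mul_general (m : ℕ) (hK : Fintype.card K = 3 ^ (2 * m + 1)) (a u v a' u' v' b₁ c₁ : K)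
    (h : uG m a 0 0 * uG m a' 0 0 = uG m (a + a') b₁ c₁) :
    uG m a u v * uG m a' u' v' = uG m (a + a') (b₁ + u + u') (c₁ + v + v' - a' * u) := by
  obtain ⟨u'', v'', hinv⟩ := uG_inv_first m hK a' 0 0
  have h1 : (uG m a' 0 0)⁻¹ * uG m 0 u v * uG m a' 0 0 = uG m 0 u (v + -a' * u) := by
    have := uG_conj_zU m (-a') u'' v'' u v
    rw [← hinv, inv_inv] at this
    exact this
  calc uG m a u v * uG m a' u' v' = uG m a 0 0 * uG m 0 u v * (uG m a' 0 0 * uG m 0 u' v') := by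
        rw [← uG_split, ← uG_split]
    _ = uG m a 0 0 * uG m a' 0 0 * ((uG m a' 0 0)⁻¹ * uG m 0 u v * uG m a' 0 0) * uG m 0 u' v' := by group
    _ = uG m (a + a') b₁ c₁ * uG m 0 u (v + -a' * u) * uG m 0 u' v' := by rw [h, h1]
    _ = _ := by
        rw [uG_mul_zU, uG_mul_zU]
        congr 1
        ring

end

end Cfsg.Agent.Lib.Helper3.Ree
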