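import Mathlib
import Cfsg.Agent.Lib.Helper3.ReeO5
set_option autoImplicit false
set_option linter.unusedSectionVars false
set_option linter.style.haveILetI false
set_option linter.unusedSimpArgs false
open Cfsg Cfsg.Lie

/-!
Automorphisms of the twisted group of type `G₂` preserving the unipotent part and fixing the diagonal part pointwise:
after conjugation by an element of the diagonal part, they fix the unipotent part pointwise.
-/

namespace Cfsg.Agent.Lib.Helper3.Ree

open Cfsg.Agent.Lib.Helper3.ChevM Polynomial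

section
variable {K : Type*} [Field K] [Fintype K] [CharP K 3]

/-- for the last coordinate of the first layer -/
theorem exists_avoid_gamma (m : ℕ) (hm : 1 ≤ m) (hK : Fintype.card K = 3 ^ (2 * m + 1)) :
    ∃ s : K, s ≠ 0 ∧ 1 + s ≠ 0 ∧ tau m s + 2 * s + 2 * s * tau m s + s ^ 2 ≠ 0 := by
  obtain ⟨h3, hq, h9⟩ := card_ge (K := K) m hm hK
  set θ := 3 ^ m with hθ
  have hmon : (X ^ (3 * θ + 1) + (C 2 * X ^ (3 * θ) + C 2 * X ^ 2 + X) : K[X]).Monic := by
    apply monic_X_pow_add
    apply deg_lt_of_natDegree_le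
    compute_degree
    omega
  have hdeg : (X ^ (3 * θ + 1) + (C 2 * X ^ (3 * θ) + C 2 * X ^ 2 + X) : K[X]).natDegree ≤ 3 * θ + 1 := by
    compute_degree
    omega
  obtain ⟨s, h1, h2, h4⟩ := exists_avoid _ hmon (by omega)
  refine ⟨s, h1, h2, ?_⟩
  simp only [eval_add, eval_mul, eval_pow, eval_X, eval_C] at h4
  rw [pow_succ, ← tau_eq_pow] at h4
  intro h
  apply h4
  have h3 := three_eq_zero' (K := K)
  linear_combination 2 * h - (s + s * tau m s) * h3

variable (m : ℕ) (hK : Fintype.card K = 3 ^ (2 * m + 1)) (α : MulAut ↥(tG2 K (3 ^ m)))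
  (hU : ∀ u ∈ uSub K (3 ^ m), α u ∈ uSub K (3 ^ m))
  (hHfix : ∀ s : Kˣ, α (hGu m hK s) = hGu m hK s)

include hHfix in
theorem aut_torus_of_fix : ∀ a ∈ torusSplit (K := K) m, α a ∈ torusSplit (K := K) m := by
  intro a ha
  obtain ⟨s, rfl⟩ := exists_hGu m hK ha
  rw [hHfix]
  exact hGu_mem m hK s

include hU hHfix in
/-- the action on the first coordinate of the first layer is the multiplication by a scalar -/
theorem aut_first_scalar : ∃ a₀ : K, a₀ ≠ 0 ∧ ∀ a : K, ∃ u v : K, α (uG m a 0 0) = uG m (a * a₀) u v := by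
  have hF : ∀ a : K, ∃ t u v : K, α (uG m a 0 0) = uG m t u v := by
    intro a
    obtain ⟨t, u, v, e⟩ := (mem_uSub_iff m hK _).mp (hU _ (uG_mem m hK a 0 0))
    exact ⟨t, u, v, Subtype.ext e⟩
  choose f1 β γ hF using hF
  have htor : ∀ (l : K), l ≠ 0 → ∀ a, f1 (l * a) = l * f1 a := by
    intro l hl a
    obtain ⟨hs, e1, -⟩ := wt_lam m hK l hl
    have h1 := hGu_conj_first m hK (Units.mk0 _ hs) a
    have h2 := congrArg α h1
    rw [map_mul, map_mul, map_inv, hHfix, hF, hF, hGu_conj_uG, Units.val_mk0, e1] at h2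
    exact ((uG_inj m h2).1).symm
  have h0 : f1 0 = 0 := by
    have h1 : α (uG m 0 0 0) = uG m 0 0 0 := by rw [uG_zero, map_one]
    rw [hF] at h1
    exact (uG_inj m h1).1
  refine ⟨f1 1, ?_, ?_⟩
  · intro h
    have h1 : α (uG m 1 0 0 ^ 3) = 1 := by
      rw [map_pow, hF, h, zU_cube_G]
    rw [map_eq_one_iff α (EquivLike.injective α)] at h1
    obtain ⟨r₂, r₃, e3, hne⟩ := exists_cube_first m hK (1 : K) one_ne_zero
    rw [e3, ← uG_zero m] at h1
    obtain ⟨-, rfl, rfl⟩ := uG_inj m h1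
    rcases hne with h | h <;> exact h rfl
  · intro a
    by_cases ha : a = 0
    · subst ha
      refine ⟨β 0, γ 0, ?_⟩
      rw [hF, h0, zero_mul]
    · refine ⟨β a, γ a, ?_⟩
      have := htor a ha 1
      rw [mul_one] at this
      rw [hF, this]

include hU hHfix in
/-- after conjugation by an element of the diagonal part, the first coordinate of the first layer is fixed -/
theorem aut_exists_torus :
    ∃ s₁ : Kˣ, (∀ u ∈ uSub K (3 ^ m), (MulAut.conj (hGu m hK s₁) * α) u ∈ uSub K (3 ^ m)) ∧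
      (∀ s : Kˣ, (MulAut.conj (hGu m hK s₁) * α) (hGu m hK s) = hGu m hK s) ∧
      ∀ a : K, ∃ u v : K, (MulAut.conj (hGu m hK s₁) * α) (uG m a 0 0) = uG m a u v := by
  obtain ⟨a₀, ha₀, hF⟩ := aut_first_scalar m hK α hU hHfix
  obtain ⟨hs, e1, -⟩ := wt_lam m hK a₀⁻¹ (inv_ne_zero ha₀)
  refine ⟨Units.mk0 _ hs, ?_, ?_, ?_⟩
  · intro u hu
    rw [MulAut.mul_apply, MulAut.conj_apply]
    exact bSub_conj_uSub m hK _ _ (torusSplit_le_bSub m hK (hGu_mem m hK _)) (hU u hu)
  · intro s
    rw [MulAut.mul_apply, MulAut.conj_apply, hHfix, hGu_comm, mul_inv_cancel_right]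
  · intro a
    obtain ⟨u, v, e⟩ := hF a
    have e2 : a₀⁻¹ * (a * a₀) = a := by field_simp
    rw [MulAut.mul_apply, MulAut.conj_apply, e, hGu_conj_uG, Units.val_mk0, e1, e2]
    exact ⟨_, _, rfl⟩

include hU hHfix in
/-- an automorphism preserving the unipotent part and the first coordinate of the first layer and fixing the diagonal
part pointwise fixes the unipotent part pointwise -/
theorem aut_fix_uSub (hm : 1 ≤ m) (hF : ∀ a : K, ∃ u v : K, α (uG m a 0 0) = uG m a u v) :
    ∀ t u v : K, α (uG m t u v) = uG m t u v := by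
  have hH := aut_torus_of_fix m hK α hHfix
  choose f2 hf2 using aut_second m hK α hU hH
  choose f3 hf3 using aut_third m hK α hU hH
  choose β γ hβγ using hF
  have hsplit : ∀ u v : K, uG m (0 : K) u v = uG m 0 u 0 * uG m 0 0 v := by
    intro u v
    rw [zU_mul_G, add_zero, zero_add]
  have hf3s : ∀ (s : Kˣ) (c : K), f3 ((s : K) * c) = (s : K) * f3 c := by
    intro s c
    have h1 := hGu_conj_zU m hK s 0 c
    rw [mul_zero] at h1
    have h2 := congrArg α h1
    rw [map_mul, map_mul, map_inv, hHfix, hf3, hf3, hGu_conj_zU, mul_zero] at h2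
    exact ((uG_inj m h2).2.2).symm
  have hf3_0 : f3 0 = 0 := by
    have h1 : α (uG m 0 0 0) = uG m 0 0 0 := by rw [uG_zero, map_one]
    rw [hf3] at h1
    exact (uG_inj m h1).2.2
  have hf3c : ∀ c, f3 c = c * f3 1 := by
    intro c
    by_cases hc : c = 0
    · subst hc
      rw [hf3_0, zero_mul]
    · have := hf3s (Units.mk0 c hc) 1
      rwa [Units.val_mk0, mul_one] at this
  have hf23 : ∀ b, f2 b = f3 b := by
    intro b
    have h1 := uG_conj_second m 1 0 0 b
    have h2 := congrArg α h1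
    rw [map_mul, map_mul, map_inv, hβγ, hf2, uG_conj_second, one_mul, one_mul, hsplit b b, map_mul, hf2, hf3,
      zU_mul_G, add_zero, zero_add] at h2
    exact (uG_inj m h2).2.2
  have hc₀ : f3 1 = 1 := by
    obtain ⟨r₂, r₃, e3, hne⟩ := exists_cube_first m hK (1 : K) one_ne_zero
    have h1 : α (uG m 0 r₂ r₃) = uG m 0 r₂ r₃ := by
      rw [← e3, map_pow, hβγ, uG_cube m hK]
    have h2 : α (uG m 0 r₂ r₃) = uG m 0 (r₂ * f3 1) (r₃ * f3 1) := by
      rw [hsplit r₂ r₃, map_mul, hf2, hf3, zU_mul_G, add_zero, zero_add, hf23, hf3c r₂, hf3c r₃]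
    rw [h2] at h1
    obtain ⟨-, e2, e3'⟩ := uG_inj m h1
    rcases hne with h | h
    · exact mul_left_cancel₀ h (by rw [e2, mul_one])
    · exact mul_left_cancel₀ h (by rw [e3', mul_one])
  have hzU : ∀ u v, α (uG m 0 u v) = uG m 0 u v := by
    intro u v
    rw [hsplit u v, map_mul, hf2, hf3, hf23, hf3c u, hf3c v, hc₀, mul_one, mul_one]
  have htor : ∀ (s : Kˣ) (a : K), β (wt1 m (s : K) * a) = wt2 m (s : K) * β a ∧
      γ (wt1 m (s : K) * a) = (s : K) * γ a := by
    intro s a
    have h1 := hGu_conj_first m hK s a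
    have h2 := congrArg α h1
    rw [map_mul, map_mul, map_inv, hHfix, hβγ, hβγ, hGu_conj_uG] at h2
    obtain ⟨-, e2, e3⟩ := uG_inj m h2
    exact ⟨e2.symm, e3.symm⟩
  have hadd : ∀ a a', β (a + a') = β a + β a' ∧ γ (a + a') = γ a + γ a' - a' * β a := by
    intro a a'
    obtain ⟨b₁, c₁, e⟩ := uG_mul_first m hK a 0 0 a' 0 0
    have h1 := congrArg α e
    rw [map_mul, hβγ, hβγ, uG_mul_general m hK a (β a) (γ a) a' (β a') (γ a') b₁ c₁ e,
      uG_split m (a + a') b₁ c₁, map_mul, hβγ, hzU, uG_mul_zU] at h1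
    obtain ⟨-, e2, e3⟩ := uG_inj m h1
    constructor
    · linear_combination -e2
    · linear_combination -e3
  have hβ0 : β 0 = 0 := by
    have := (hadd 0 0).1
    rw [add_zero] at this
    exact left_eq_add.mp this
  have hβ1 : β 1 = 0 := by
    have h1 := (htor (-1) 1).1
    rw [Units.val_neg, Units.val_one, wt1_neg_one, wt2_neg_one, one_mul, mul_one] at h1
    have h2 := (hadd (-1) 1).1
    rw [neg_add_cancel, hβ0, h1] at h2
    have h3 : (2 : K) * β 1 = 0 := by linear_combination -h2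
    rcases mul_eq_zero.mp h3 with h | h
    · exact absurd h two_ne_zero_char3
    · exact h
  have hβ : ∀ a, β a = 0 := by
    intro a
    by_cases ha : a = 0
    · subst ha
      exact hβ0
    · obtain ⟨hs, e1, e2⟩ := wt_lam m hK a ha
      have := (htor (Units.mk0 _ hs) 1).1
      rw [Units.val_mk0, e1, e2, mul_one, hβ1, mul_zero] at this
      exact this
  have hγadd : ∀ a a', γ (a + a') = γ a + γ a' := by
    intro a a'
    have := (hadd a a').2
    rw [hβ, mul_zero, sub_zero] at this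
    exact this
  have hγ0 : γ 0 = 0 := by
    have := hγadd 0 0
    rw [add_zero] at this
    exact left_eq_add.mp this
  have hγl : ∀ l : K, l ≠ 0 → γ l = l ^ 2 * tau m l * γ 1 := by
    intro l hl
    obtain ⟨hs, e1, -⟩ := wt_lam m hK l hl
    have := (htor (Units.mk0 _ hs) 1).2
    rw [Units.val_mk0, e1, mul_one] at this
    exact this
  have hγ1 : γ 1 = 0 := by
    obtain ⟨l, h0, h1, hP⟩ := exists_avoid_gamma (K := K) m hm hK
    have h2 := hγadd 1 l
    rw [hγl l h0, hγl (1 + l) h1, tau_add, tau_one] at h2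
    have : (tau m l + 2 * l + 2 * l * tau m l + l ^ 2) * γ 1 = 0 := by linear_combination h2
    rcases mul_eq_zero.mp this with h | h
    · exact absurd h hP
    · exact h
  have hγ : ∀ a, γ a = 0 := by
    intro a
    by_cases ha : a = 0
    · subst ha
      exact hγ0
    · rw [hγl a ha, hγ1, mul_zero]
  intro t u v
  rw [uG_split m t u v, map_mul, hβγ, hβ, hγ, hzU]

end

end Cfsg.Agent.Lib.Helper3.Ree
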