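import Mathlib
import Cfsg.Agent.Lib.Helper3.ReeO6
set_option autoImplicit false
set_option linter.unusedSectionVars false
set_option linter.style.haveILetI false
set_option linter.unusedSimpArgs false
open Cfsg Cfsg.Lie

/-!
Automorphisms of the twisted group of type `G₂` fixing the unipotent part and the diagonal part pointwise are trivial.
-/

namespace Cfsg.Agent.Lib.Helper3.Ree

open Cfsg.Agent.Lib.Helper3.ChevM

section
variable {K : Type*} [Field K] [Fintype K] [CharP K 3]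

/-- the canonical form of the elements of the twisted group -/
theorem normal_form_G (m : ℕ) (hK : Fintype.card K = 3 ^ (2 * m + 1)) (g : ↥(tG2 K (3 ^ m))) :
    (∃ (t u v : K) (s : Kˣ), g = uG m t u v * hGu m hK s) ∨
    (∃ (t u v : K) (s : Kˣ) (a b c : K), g = uG m t u v * (hGu m hK s * nSub m hK) * uG m a b c) := by
  rcases fixG_normal_form' m hK g.1 (tG2_le_fixG m hK g.2) with
    ⟨t, u, v, s, hs, e⟩ | ⟨t, u, v, s, a, b, c, hs, e⟩
  · left
    exact ⟨t, u, v, Units.mk0 s hs, Subtype.ext e⟩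
  · right
    exact ⟨t, u, v, Units.mk0 s hs, a, b, c, Subtype.ext e⟩

/-- uniqueness of the diagonal part in the canonical form -/
theorem form2_inj_G (m : ℕ) (hK : Fintype.card K = 3 ^ (2 * m + 1)) (t u v : K) (s : Kˣ) (a b c t' u' v' : K)
    (s' : Kˣ) (a' b' c' : K)
    (e : uG m t u v * (hGu m hK s * nSub m hK) * uG m a b c =
      uG m t' u' v' * (hGu m hK s' * nSub m hK) * uG m a' b' c') : s = s' := by
  have e' : reeU (3 ^ m) t u v * (hRee (3 ^ m) (s : K) * n1 m hK) * reeU (3 ^ m) a b c =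
      reeU (3 ^ m) t' u' v' * (hRee (3 ^ m) (s' : K) * n1 m hK) * reeU (3 ^ m) a' b' c' :=
    congrArg (fun x : ↥(tG2 K (3 ^ m)) => (x : GL cdG2.D.Idx K)) e
  obtain ⟨-, -, -, h, -⟩ := form2_inj m hK _ _ _ _ _ _ _ _ _ _ _ _ _ _ s.ne_zero s'.ne_zero e'
  exact Units.ext h

/-- a conjugate of a unipotent element by the representative of the Weyl group element, in the canonical form -/
theorem exists_nSub_conj (m : ℕ) (hK : Fintype.card K = 3 ^ (2 * m + 1)) :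
    ∃ (t u v : K) (s : Kˣ) (a b c : K),
      nSub m hK * uG m 1 0 0 * (nSub m hK)⁻¹ = uG m t u v * (hGu m hK s * nSub m hK) * uG m a b c := by
  rcases normal_form_G m hK (nSub m hK * uG m 1 0 0 * (nSub m hK)⁻¹) with ⟨t, u, v, s, e⟩ | h
  · exfalso
    apply n1_conj_not_mem (K := K) m hK
    have e' : n1 m hK * reeU (3 ^ m) 1 0 0 * (n1 m hK)⁻¹ = reeU (3 ^ m) t u v * hRee (3 ^ m) (s : K) :=
      congrArg (fun x : ↥(tG2 K (3 ^ m)) => (x : GL cdG2.D.Idx K)) e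
    rw [e']
    exact (Subgroup.mul_mem _ (reeU_mem_bT _ t u v) (hRee_mem_bT m hK _ s.ne_zero)).1
  · exact h

theorem nSub_conj_hGu (m : ℕ) (hK : Fintype.card K = 3 ^ (2 * m + 1)) (s : Kˣ) :
    nSub m hK * hGu m hK s * (nSub m hK)⁻¹ = hGu m hK s⁻¹ := by
  rw [nSub_conj_torus m hK _ (hGu_mem m hK s), hGu_inv]

theorem nSub_mul_hGu (m : ℕ) (hK : Fintype.card K = 3 ^ (2 * m + 1)) (s : Kˣ) :
    nSub m hK * hGu m hK s = hGu m hK s⁻¹ * nSub m hK := by
  rw [← nSub_conj_hGu]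
  group

/-- an automorphism fixing the unipotent part and the diagonal part pointwise fixes the representative of the Weyl group
element -/
theorem aut_fix_nSub (m : ℕ) (hm : 1 ≤ m) (hK : Fintype.card K = 3 ^ (2 * m + 1)) (α : MulAut ↥(tG2 K (3 ^ m)))
    (hU : ∀ t u v : K, α (uG m t u v) = uG m t u v) (hH : ∀ s : Kˣ, α (hGu m hK s) = hGu m hK s) :
    α (nSub m hK) = nSub m hK := by
  set n := nSub m hK with hn
  -- the image of `n` is the product of `n` and an element of the diagonal part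
  have hinv : ∀ s : Kˣ, α n * hGu m hK s * (α n)⁻¹ = hGu m hK s⁻¹ := by
    intro s
    nth_rewrite 1 [← hH s]
    rw [← map_inv, ← map_mul, ← map_mul, nSub_conj_hGu, hH]
  obtain ⟨s₀, hs₀⟩ := exists_hGu_sq_ne (K := K) m hm hK
  have hmem : n⁻¹ * α n ∈ Subgroup.centralizer ({hGu m hK s₀} : Set ↥(tG2 K (3 ^ m))) := by
    rw [Subgroup.mem_centralizer_singleton_iff]
    have h1 : α n * hGu m hK s₀ = hGu m hK s₀⁻¹ * α n := by
      rw [← hinv s₀]
      group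
    have h2 : n⁻¹ * hGu m hK s₀⁻¹ = hGu m hK s₀ * n⁻¹ := by
      have := nSub_mul_hGu m hK s₀
      rw [← hn] at this
      calc n⁻¹ * hGu m hK s₀⁻¹ = n⁻¹ * (hGu m hK s₀⁻¹ * n) * n⁻¹ := by group
        _ = n⁻¹ * (n * hGu m hK s₀) * n⁻¹ := by rw [this]
        _ = hGu m hK s₀ * n⁻¹ := by group
    symm
    calc hGu m hK s₀ * (n⁻¹ * α n) = (hGu m hK s₀ * n⁻¹) * α n := by group
      _ = (n⁻¹ * hGu m hK s₀⁻¹) * α n := by rw [h2]
      _ = n⁻¹ * (hGu m hK s₀⁻¹ * α n) := by group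
      _ = n⁻¹ * (α n * hGu m hK s₀) := by rw [h1]
      _ = n⁻¹ * α n * hGu m hK s₀ := by group
  rw [centralizer_torusSplit m hK _ (hGu_mem m hK s₀) hs₀] at hmem
  obtain ⟨k₀, hk₀⟩ := exists_hGu m hK hmem
  have hαn : α n = n * hGu m hK k₀ := by
    rw [← hk₀]
    group
  -- the comparison of two canonical forms
  obtain ⟨t, u, v, k, a, b, c, e⟩ := exists_nSub_conj (K := K) m hK
  rw [← hn] at e
  have e1 := congrArg α e
  rw [map_mul, map_mul, map_inv, map_mul, map_mul, map_mul, hU, hU, hU, hH, hαn] at e1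
  -- the left side
  have hL : n * hGu m hK k₀ * uG m 1 0 0 * (n * hGu m hK k₀)⁻¹ =
      (hGu m hK k₀⁻¹ * uG m t u v * (hGu m hK k₀⁻¹)⁻¹) * (hGu m hK (k₀⁻¹ * k * k₀⁻¹) * n) *
        (hGu m hK k₀⁻¹ * uG m a b c * (hGu m hK k₀⁻¹)⁻¹) := by
    have h3 : n * hGu m hK k₀ = hGu m hK k₀⁻¹ * n := by
      rw [hn, nSub_mul_hGu]
    calc n * hGu m hK k₀ * uG m 1 0 0 * (n * hGu m hK k₀)⁻¹
        = hGu m hK k₀⁻¹ * (n * uG m 1 0 0 * n⁻¹) * (hGu m hK k₀⁻¹)⁻¹ := by
          rw [h3]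
          group
      _ = hGu m hK k₀⁻¹ * (uG m t u v * (hGu m hK k * n) * uG m a b c) * (hGu m hK k₀⁻¹)⁻¹ := by rw [e]
      _ = (hGu m hK k₀⁻¹ * uG m t u v * (hGu m hK k₀⁻¹)⁻¹) * (hGu m hK k₀⁻¹ * hGu m hK k * (n * hGu m hK k₀)) *
          (hGu m hK k₀⁻¹ * uG m a b c * (hGu m hK k₀⁻¹)⁻¹) := by
          rw [hGu_inv]
          group
      _ = _ := by
          rw [h3, ← mul_assoc (hGu m hK k₀⁻¹ * hGu m hK k), ← hGu_mul, ← hGu_mul]
  have hR : uG m t u v * (hGu m hK k * (n * hGu m hK k₀)) * uG m a b c =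
      uG m t u v * (hGu m hK (k * k₀⁻¹) * n) * uG m a b c := by
    have h3 : n * hGu m hK k₀ = hGu m hK k₀⁻¹ * n := by
      rw [hn, nSub_mul_hGu]
    rw [h3, ← mul_assoc (hGu m hK k), ← hGu_mul]
  rw [hL, hR, hGu_conj_uG, hGu_conj_uG] at e1
  have h4 := form2_inj_G m hK _ _ _ _ _ _ _ _ _ _ _ _ _ _ e1
  have hk₀1 : k₀ = 1 := by
    have h5 : k₀⁻¹ * k * k₀⁻¹ = k * k₀⁻¹ := h4
    have h6 : k₀⁻¹ * (k * k₀⁻¹) = 1 * (k * k₀⁻¹) := by rw [one_mul, ← mul_assoc, h5]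
    have h7 := mul_right_cancel h6
    exact inv_eq_one.mp h7
  rw [hαn, hk₀1, hGu_one, mul_one]

/-- an automorphism fixing the unipotent part and the diagonal part pointwise is trivial -/
theorem aut_eq_one_of_fix (m : ℕ) (hm : 1 ≤ m) (hK : Fintype.card K = 3 ^ (2 * m + 1))
    (α : MulAut ↥(tG2 K (3 ^ m)))
    (hU : ∀ t u v : K, α (uG m t u v) = uG m t u v) (hH : ∀ s : Kˣ, α (hGu m hK s) = hGu m hK s) : α = 1 := by
  have hn := aut_fix_nSub m hm hK α hU hH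
  apply MulEquiv.ext
  intro g
  show α g = g
  rcases normal_form_G m hK g with ⟨t, u, v, s, rfl⟩ | ⟨t, u, v, s, a, b, c, rfl⟩
  · rw [map_mul, hU, hH]
  · rw [map_mul, map_mul, map_mul, hU, hU, hH, hn]

end

end Cfsg.Agent.Lib.Helper3.Ree
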