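import Mathlib
import Cfsg.Prelude.Def_KGroupFacts
import Cfsg.Agent.Lib.Helper3.ReeO7
set_option autoImplicit false
set_option linter.unusedSectionVars false
set_option linter.style.haveILetI false
set_option linter.unusedSimpArgs false
open Cfsg Cfsg.Lie

/-!
The outer automorphism group of the twisted group of type `G₂` over the field of `3 ^ (2 * m + 1)` elements, `m ≥ 1`,
has order `2 * m + 1`.
-/

namespace Cfsg.Agent.Lib.Helper3.Ree

open Cfsg.Agent.Lib.Helper3.ChevM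

section generic

theorem card_ringAut_three {F : Type*} [Field F] [CharP F 3] [Fintype F] {n : ℕ}
    (hF : Nat.card F = 3 ^ n) : Nat.card (F ≃+* F) = n := by
  haveI : Fact (Nat.Prime 3) := ⟨by norm_num⟩
  letI : Algebra (ZMod 3) F := ZMod.algebra F 3
  let e : (F ≃+* F) ≃ (F ≃ₐ[ZMod 3] F) :=
    { toFun := fun σ => AlgEquiv.ofRingEquiv (f := σ) (by
        intro x
        have : (σ : F →+* F).comp (algebraMap (ZMod 3) F) = algebraMap (ZMod 3) F :=
          Subsingleton.elim _ _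
        exact congrFun (congrArg DFunLike.coe this) x)
      invFun := fun τ => τ.toRingEquiv
      left_inv := fun σ => by ext x; rfl
      right_inv := fun τ => by ext x; rfl }
  rw [Nat.card_congr e]
  have h1 := FiniteField.bijective_frobeniusAlgEquivOfAlgebraic_pow (ZMod 3) F
  rw [← Nat.card_congr (Equiv.ofBijective _ h1), Nat.card_eq_fintype_card, Fintype.card_fin]
  have h2 := Module.card_eq_pow_finrank (K := ZMod 3) (V := F)
  rw [ZMod.card, ← Nat.card_eq_fintype_card, hF] at h2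
  exact (Nat.pow_right_injective (by norm_num : 2 ≤ 3) h2).symm

theorem aut_mul_conj {G : Type*} [Group G] (β : MulAut G) (h : G) : β * MulAut.conj h = MulAut.conj (β h) * β := by
  apply MulEquiv.ext
  intro x
  simp [MulAut.mul_apply, MulAut.conj_apply]

end generic

section
variable {K : Type*} [Field K] [Fintype K] [CharP K 3]

/-- every automorphism is the product of an inner automorphism and a field automorphism -/
theorem aut_eq_conj_mul_field (m : ℕ) (hm : 1 ≤ m) (hK : Fintype.card K = 3 ^ (2 * m + 1))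
    (α : MulAut ↥(tG2 K (3 ^ m))) :
    ∃ (g : ↥(tG2 K (3 ^ m))) (φ : K ≃+* K), α = MulAut.conj g * fieldAutR (3 ^ m) φ := by
  obtain ⟨g₁, hU₁, hH₁⟩ := aut_exists_conj_preserve m hm hK α
  set α₁ := (MulAut.conj g₁)⁻¹ * α with hα₁
  obtain ⟨φ, hU₂, hH₂⟩ := aut_exists_field m hK α₁ hU₁ hH₁
  set α₂ := (fieldAutR (3 ^ m) φ)⁻¹ * α₁ with hα₂
  obtain ⟨s₁, hU₃, hH₃, hF₃⟩ := aut_exists_torus m hK α₂ hU₂ hH₂
  set α₃ := MulAut.conj (hGu m hK s₁) * α₂ with hα₃
  have hfix := aut_fix_uSub m hK α₃ hU₃ hH₃ hm hF₃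
  have h1 : α₃ = 1 := aut_eq_one_of_fix m hm hK α₃ hfix hH₃
  have h2 : α = MulAut.conj g₁ * (fieldAutR (3 ^ m) φ * (MulAut.conj (hGu m hK s₁))⁻¹) := by
    have h3 : MulAut.conj (hGu m hK s₁) * ((fieldAutR (3 ^ m) φ)⁻¹ * ((MulAut.conj g₁)⁻¹ * α)) = 1 := by
      rw [← h1, hα₃, hα₂, hα₁]
    calc α = MulAut.conj g₁ * (fieldAutR (3 ^ m) φ * (MulAut.conj (hGu m hK s₁))⁻¹) *
          (MulAut.conj (hGu m hK s₁) * ((fieldAutR (3 ^ m) φ)⁻¹ * ((MulAut.conj g₁)⁻¹ * α))) := by group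
      _ = _ := by rw [h3, mul_one]
  refine ⟨g₁ * fieldAutR (3 ^ m) φ (hGu m hK s₁)⁻¹, φ, ?_⟩
  rw [h2, ← map_inv, aut_mul_conj, map_mul, mul_assoc]

/-- an inner field automorphism is trivial -/
theorem fieldAutR_inner (m : ℕ) (hK : Fintype.card K = 3 ^ (2 * m + 1)) {φ : K ≃+* K} {y : ↥(tG2 K (3 ^ m))}
    (h : fieldAutR (3 ^ m) φ = MulAut.conj y) : φ = 1 := by
  have hy : y ∈ bSub K (3 ^ m) := by
    apply normalizer_uSub_le m hK
    apply mem_normalizer_of_conj_mem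
    intro x hx
    obtain ⟨t, u, v, e⟩ := (mem_uSub_iff m hK x).mp hx
    have e' : x = uG m t u v := Subtype.ext e
    rw [← MulAut.conj_apply, ← h, e', fieldAutR_uG]
    exact uG_mem m hK _ _ _
  obtain ⟨u, hu, a, ha, rfl⟩ := (mem_bSub_iff' m hK y).mp hy
  obtain ⟨s₀, rfl⟩ := exists_hGu m hK ha
  obtain ⟨t, u', v, e⟩ := (mem_uSub_iff m hK u).mp hu
  have e' : u = uG m t u' v := Subtype.ext e
  have key : ∀ c : K, φ c = (s₀ : K) * c := by
    intro c
    have h1 : fieldAutR (3 ^ m) φ (uG m 0 0 c) = uG m 0 0 (φ c) := by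
      rw [fieldAutR_uG, map_zero]
    have h2 : MulAut.conj (u * hGu m hK s₀) (uG m 0 0 c) = uG m 0 0 ((s₀ : K) * c) := by
      rw [MulAut.conj_apply]
      calc u * hGu m hK s₀ * uG m 0 0 c * (u * hGu m hK s₀)⁻¹
          = u * (hGu m hK s₀ * uG m 0 0 c * (hGu m hK s₀)⁻¹) * u⁻¹ := by group
        _ = u * uG m 0 0 ((s₀ : K) * c) * u⁻¹ := by rw [hGu_conj_zU, mul_zero]
        _ = uG m 0 0 ((s₀ : K) * c) := by rw [e', uG_comm_third, mul_inv_cancel_right]
    rw [h, h2] at h1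
    exact ((uG_inj m h1).2.2).symm
  have hs₀ : (s₀ : K) = 1 := by
    have := key 1
    rw [map_one, mul_one] at this
    exact this.symm
  apply RingEquiv.ext
  intro c
  rw [key c, hs₀, one_mul]
  rfl

theorem card_out_tG2 (m : ℕ) (hm : 1 ≤ m) (hK : Fintype.card K = 3 ^ (2 * m + 1)) :
    Nat.card (Cfsg.Out ↥(tG2 K (3 ^ m))) = 2 * m + 1 := by
  have hq : Nat.card K = 3 ^ (2 * m + 1) := by rw [Nat.card_eq_fintype_card, hK]
  rw [← card_ringAut_three hq]
  symm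
  let Ψ : (K ≃+* K) →* Cfsg.Out ↥(tG2 K (3 ^ m)) :=
    (QuotientGroup.mk' (Cfsg.Inn ↥(tG2 K (3 ^ m)))).comp (fieldAutR (3 ^ m))
  apply Nat.card_congr
  apply Equiv.ofBijective Ψ
  constructor
  · rw [injective_iff_map_eq_one]
    intro σ hσ
    have h1 : fieldAutR (3 ^ m) σ ∈ Cfsg.Inn ↥(tG2 K (3 ^ m)) := (QuotientGroup.eq_one_iff _).mp hσ
    obtain ⟨y, hy⟩ := h1
    exact fieldAutR_inner m hK hy.symm
  · intro x
    obtain ⟨α, rfl⟩ := QuotientGroup.mk_surjective x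
    obtain ⟨g, σ, rfl⟩ := aut_eq_conj_mul_field m hm hK α
    refine ⟨σ, ?_⟩
    show (QuotientGroup.mk (fieldAutR (3 ^ m) σ) : Cfsg.Out ↥(tG2 K (3 ^ m))) = _
    rw [QuotientGroup.mk_mul]
    have : (QuotientGroup.mk (MulAut.conj g) : Cfsg.Out ↥(tG2 K (3 ^ m))) = 1 :=
      (QuotientGroup.eq_one_iff _).mpr ⟨g, rfl⟩
    rw [this, one_mul]

end

end Cfsg.Agent.Lib.Helper3.Ree
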