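import Mathlib
import Cfsg.Agent.Lib.Helper3.ReeO8
set_option autoImplicit false
set_option linter.unusedSectionVars false
set_option linter.style.haveILetI false
set_option linter.unusedSimpArgs false
open Cfsg Cfsg.Lie

/-!
The unipotent part of the twisted group of type `G₂`: the explicit second coordinate of the product of two elements of
the first layer, one of them with the first coordinate `1`.
-/

namespace Cfsg.Agent.Lib.Helper3.Ree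

open Cfsg.Agent.Lib.Helper3.ChevM

section
variable {K : Type*} [Field K] [CharP K 3]

theorem word_one_mul (x X : K) (hx : x ≠ 0) (hX : X ≠ 0) :
    relG2.xU 6 1 * relG2.xU 7 1 * relG2.xU 10 1 * relG2.xU 11 1 *
      (relG2.xU 6 x * relG2.xU 7 X * relG2.xU 10 (x * X ^ 3) * relG2.xU 11 (x ^ 2 * X ^ 3)) =
    relG2.xU 6 (1 + x) * relG2.xU 7 (1 + X) * (relG2.xU 8 (-x) * relG2.xU 9 (x * X - x) *
      relG2.xU 10 (x + 1 + x * X ^ 3) * relG2.xU 11 (x ^ 2 - x + 1 + x ^ 2 * X ^ 3)) := by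
  have := word_eq_of_check x X hx hX
    [(6, 1, 0, 0), (7, 1, 0, 0), (10, 1, 0, 0), (11, 1, 0, 0), (6, 1, 1, 0), (7, 1, 0, 1), (10, 1, 1, 3), (11, 1, 2, 3)]
    [(6, 1, 0, 0), (6, 1, 1, 0), (7, 1, 0, 0), (7, 1, 0, 1), (8, -1, 1, 0), (9, 1, 1, 1), (9, -1, 1, 0),
      (10, 1, 1, 0), (10, 1, 0, 0), (10, 1, 1, 3), (11, 1, 2, 0), (11, -1, 1, 0), (11, 1, 0, 0), (11, 1, 2, 3)]
    (by decide) (by decide) (by decide +kernel)
  simpa [mul_assoc, ← relG2.xU_add, sub_eq_add_neg] using this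

theorem word_mul_one (x X : K) (hx : x ≠ 0) (hX : X ≠ 0) :
    relG2.xU 6 x * relG2.xU 7 X * relG2.xU 10 (x * X ^ 3) * relG2.xU 11 (x ^ 2 * X ^ 3) *
      (relG2.xU 6 1 * relG2.xU 7 1 * relG2.xU 10 1 * relG2.xU 11 1) =
    relG2.xU 6 (x + 1) * relG2.xU 7 (X + 1) * (relG2.xU 8 (-X) * relG2.xU 9 (X - X ^ 2) *
      relG2.xU 10 (X ^ 3 + x * X ^ 3 + 1) * relG2.xU 11 (X ^ 3 - x * X ^ 3 + x ^ 2 * X ^ 3 + 1)) := by
  have := word_eq_of_check x X hx hX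
    [(6, 1, 1, 0), (7, 1, 0, 1), (10, 1, 1, 3), (11, 1, 2, 3), (6, 1, 0, 0), (7, 1, 0, 0), (10, 1, 0, 0), (11, 1, 0, 0)]
    [(6, 1, 1, 0), (6, 1, 0, 0), (7, 1, 0, 1), (7, 1, 0, 0), (8, -1, 0, 1), (9, 1, 0, 1), (9, -1, 0, 2),
      (10, 1, 0, 3), (10, 1, 1, 3), (10, 1, 0, 0), (11, 1, 0, 3), (11, -1, 1, 3), (11, 1, 2, 3), (11, 1, 0, 0)]
    (by decide) (by decide) (by decide +kernel)
  simpa [mul_assoc, ← relG2.xU_add, sub_eq_add_neg] using this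

end

section
variable {K : Type*} [Field K] [Fintype K] [CharP K 3]

/-- the second coordinate of a product of two elements of the first layer -/
theorem uG_one_mul (m : ℕ) (hK : Fintype.card K = 3 ^ (2 * m + 1)) (x : K) (hx : x ≠ 0) :
    ∃ c : K, uG m 1 0 0 * uG m x 0 0 = uG m (1 + x) (-tau m x) c := by
  obtain ⟨b, c, e⟩ := uG_mul_first m hK 1 0 0 x 0 0
  have e' : reeU (3 ^ m) 1 0 0 * reeU (3 ^ m) x 0 0 = reeU (3 ^ m) (1 + x) b c :=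
    congrArg (fun g : ↥(tG2 K (3 ^ m)) => (g : GL cdG2.D.Idx K)) e
  have hθ : (3 : ℕ) ^ m ≠ 0 := three_pow_ne_zero m
  rw [reeU_t00 _ hθ, reeU_t00 _ hθ, one_pow, one_pow, one_pow, mul_one,
    word_one_mul x (x ^ 3 ^ m) hx (pow_ne_zero _ hx), reeU_coe, add_pow_three_pow, one_pow] at e'
  obtain ⟨-, -, -, -, h5, -⟩ := pw_inj _ _ _ _ _ _ _ _ _ _ _ _ e'
  refine ⟨c, ?_⟩
  rw [e]
  congr 1
  unfold tau
  have h3 := three_eq_zero' (K := K)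
  have : (1 + x ^ 3 ^ m) ^ 3 = 1 + (x ^ 3 ^ m) ^ 3 := by
    linear_combination (x ^ 3 ^ m + (x ^ 3 ^ m) ^ 2) * h3
  rw [this] at h5
  linear_combination -h5

theorem uG_mul_one (m : ℕ) (hK : Fintype.card K = 3 ^ (2 * m + 1)) (x : K) (hx : x ≠ 0) :
    ∃ c : K, uG m x 0 0 * uG m 1 0 0 = uG m (x + 1) (-x) c := by
  obtain ⟨b, c, e⟩ := uG_mul_first m hK x 0 0 1 0 0
  have e' : reeU (3 ^ m) x 0 0 * reeU (3 ^ m) 1 0 0 = reeU (3 ^ m) (x + 1) b c :=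
    congrArg (fun g : ↥(tG2 K (3 ^ m)) => (g : GL cdG2.D.Idx K)) e
  have hθ : (3 : ℕ) ^ m ≠ 0 := three_pow_ne_zero m
  rw [reeU_t00 _ hθ, reeU_t00 _ hθ, one_pow, one_pow, one_pow, mul_one,
    word_mul_one x (x ^ 3 ^ m) hx (pow_ne_zero _ hx), reeU_coe, add_pow_three_pow, one_pow] at e'
  obtain ⟨-, -, -, -, h5, -⟩ := pw_inj _ _ _ _ _ _ _ _ _ _ _ _ e'
  refine ⟨c, ?_⟩
  rw [e]
  congr 1
  have h3 := three_eq_zero' (K := K)
  have : (x ^ 3 ^ m + 1) ^ 3 = (x ^ 3 ^ m) ^ 3 + 1 := by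
    linear_combination (x ^ 3 ^ m + (x ^ 3 ^ m) ^ 2) * h3
  rw [this] at h5
  linear_combination -h5

end

end Cfsg.Agent.Lib.Helper3.Ree
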