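import Mathlib
import Cfsg.Agent.Lib.Helper3.ReeG1
set_option autoImplicit false
set_option linter.unusedSectionVars false
set_option linter.style.haveILetI false
set_option linter.unusedSimpArgs false
open Cfsg Cfsg.Lie

/-!
The twisted group of type `G₂` is generated by two elements.
-/

namespace Cfsg.Agent.Lib.Helper3.Ree

open Cfsg.Agent.Lib.Helper3.ChevM Polynomial

section
variable {K : Type*} [Field K] [Fintype K] [CharP K 3]

/-- an element not fixed by the twisting map -/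
theorem exists_tau_ne (m : ℕ) (hm : 1 ≤ m) (hK : Fintype.card K = 3 ^ (2 * m + 1)) :
    ∃ x : K, x ≠ 0 ∧ tau m x ≠ x := by
  obtain ⟨h3, hq, h9⟩ := card_ge (K := K) m hm hK
  set θ := 3 ^ m with hθ
  have hmon : (X ^ (3 * θ) - X : K[X]).Monic := by
    apply monic_X_pow_sub
    rw [degree_X]
    exact_mod_cast (by omega : 1 < 3 * θ)
  have hdeg : (X ^ (3 * θ) - X : K[X]).natDegree ≤ 3 * θ := by
    compute_degree
    omega
  obtain ⟨s, h1, -, h4⟩ := exists_avoid _ hmon (by omega)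
  refine ⟨s, h1, ?_⟩
  rw [eval_sub, eval_pow, eval_X, ← tau_eq_pow] at h4
  intro h
  exact h4 (sub_eq_zero.mpr h)

/-- a subgroup containing the diagonal part and one unipotent element with a nonzero first coordinate contains the
unipotent part -/
theorem uG_mem_of_torus (m : ℕ) (hm : 1 ≤ m) (hK : Fintype.card K = 3 ^ (2 * m + 1))
    (L : Subgroup ↥(tG2 K (3 ^ m))) (hH : ∀ s : Kˣ, hGu m hK s ∈ L) {a₀ u₀ v₀ : K} (ha₀ : a₀ ≠ 0)
    (hv : uG m a₀ u₀ v₀ ∈ L) : ∀ t u v : K, uG m t u v ∈ L := by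
  have h3 := three_eq_zero' (K := K)
  -- all the first coordinates occur
  have h1 : ∀ x : K, x ≠ 0 → ∃ u v : K, uG m x u v ∈ L := by
    intro x hx
    obtain ⟨hs, e1, -⟩ := wt_lam m hK (x / a₀) (div_ne_zero hx ha₀)
    have h2 := L.mul_mem (L.mul_mem (hH (Units.mk0 _ hs)) hv) (L.inv_mem (hH (Units.mk0 _ hs)))
    rw [hGu_conj_uG, Units.val_mk0, e1, div_mul_cancel₀ _ ha₀] at h2
    exact ⟨_, _, h2⟩
  have hconj : ∀ x b c : K, uG m 0 b c ∈ L → uG m 0 b (c + x * b) ∈ L := by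
    intro x b c h
    by_cases hx : x = 0
    · subst hx
      rwa [zero_mul, add_zero]
    · obtain ⟨u, v, h2⟩ := h1 x hx
      have := L.mul_mem (L.mul_mem h2 h) (L.inv_mem h2)
      rwa [uG_conj_zU] at this
  -- the third layer
  have hZ : ∀ c : K, uG m 0 0 c ∈ L := by
    obtain ⟨u, v, h2⟩ := h1 1 one_ne_zero
    obtain ⟨r₂, r₃, e3, hne⟩ := exists_cube_first m hK (1 : K) one_ne_zero
    have h4 : uG m 0 r₂ r₃ ∈ L := by
      rw [← e3, ← uG_cube m hK 1 u v]
      exact L.pow_mem h2 3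
    intro c
    by_cases hr : r₂ = 0
    · subst hr
      have hr3 : r₃ ≠ 0 := by
        rcases hne with h | h
        · exact absurd rfl h
        · exact h
      by_cases hc : c = 0
      · subst hc
        rw [uG_zero]
        exact L.one_mem
      · have h5 := L.mul_mem (L.mul_mem (hH (Units.mk0 (c / r₃) (div_ne_zero hc hr3))) h4)
          (L.inv_mem (hH (Units.mk0 (c / r₃) (div_ne_zero hc hr3))))
        rwa [hGu_conj_zU, Units.val_mk0, mul_zero, div_mul_cancel₀ _ hr3] at h5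
    · have h5 := hconj (c / r₂) r₂ r₃ h4
      rw [div_mul_cancel₀ _ hr] at h5
      have h6 := L.mul_mem (L.inv_mem h4) h5
      rwa [zU_inv_G, zU_mul_G, neg_add_cancel, neg_add_cancel_left] at h6
  -- a nontrivial element of the second layer
  have hB : ∃ b : K, b ≠ 0 ∧ uG m 0 b 0 ∈ L := by
    obtain ⟨x, hx0, hx⟩ := exists_tau_ne (K := K) m hm hK
    obtain ⟨u, v, g1⟩ := h1 1 one_ne_zero
    obtain ⟨u', v', g2⟩ := h1 x hx0
    obtain ⟨c₁, e1⟩ := uG_one_mul m hK x hx0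
    obtain ⟨c₂, e2⟩ := uG_mul_one m hK x hx0
    have p1 := uG_mul_general m hK 1 u v x u' v' _ _ e1
    have p2 := uG_mul_general m hK x u' v' 1 u v _ _ e2
    have h5 : uG m 1 u v * uG m x u' v' =
        uG m x u' v' * uG m 1 u v * uG m 0 (x - tau m x) (c₁ + v + v' - x * u - (c₂ + v' + v - 1 * u')) := by
      rw [p1, p2, uG_mul_zU, add_comm 1 x]
      congr 1 <;> ring
    have h6 : uG m 0 (x - tau m x) (c₁ + v + v' - x * u - (c₂ + v' + v - 1 * u')) ∈ L := by
      have : uG m 0 (x - tau m x) (c₁ + v + v' - x * u - (c₂ + v' + v - 1 * u')) =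
          (uG m x u' v' * uG m 1 u v)⁻¹ * (uG m 1 u v * uG m x u' v') := by
        rw [h5]
        group
      rw [this]
      exact L.mul_mem (L.inv_mem (L.mul_mem g2 g1)) (L.mul_mem g1 g2)
    refine ⟨x - tau m x, sub_ne_zero.mpr (Ne.symm hx), ?_⟩
    have h7 := L.mul_mem h6 (hZ (-(c₁ + v + v' - x * u - (c₂ + v' + v - 1 * u'))))
    rwa [zU_mul_G, add_zero, add_neg_cancel] at h7
  -- the second layer
  have hB2 : ∀ b : K, uG m 0 b 0 ∈ L := by
    obtain ⟨b₀, hb₀, hb⟩ := hB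
    have hsq : ∀ y : K, uG m 0 (y ^ 2 * b₀) 0 ∈ L := by
      intro y
      by_cases hy : y = 0
      · subst hy
        rw [zero_pow two_ne_zero, zero_mul, uG_zero]
        exact L.one_mem
      · obtain ⟨hs, e⟩ := wt_mu m hK y hy
        have h5 := L.mul_mem (L.mul_mem (hH (Units.mk0 _ hs)) hb) (L.inv_mem (hH (Units.mk0 _ hs)))
        rwa [hGu_conj_zU, Units.val_mk0, mul_zero, e] at h5
    intro b
    have h5 := L.mul_mem (hsq (b / b₀ + 1)) (L.inv_mem (hsq (b / b₀ - 1)))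
    rw [zU_inv_G, zU_mul_G, neg_zero, add_zero] at h5
    have e : (b / b₀ + 1) ^ 2 * b₀ + -((b / b₀ - 1) ^ 2 * b₀) = b := by
      field_simp
      linear_combination b * b₀ * h3
    rwa [e] at h5
  intro t u v
  by_cases ht : t = 0
  · subst ht
    have := L.mul_mem (hB2 u) (hZ v)
    rwa [zU_mul_G, add_zero, zero_add] at this
  · obtain ⟨u', v', h2⟩ := h1 t ht
    have h5 : uG m (0 : K) (u - u') (v - v') ∈ L := by
      have := L.mul_mem (hB2 (u - u')) (hZ (v - v'))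
      rwa [zU_mul_G, add_zero, zero_add] at this
    have := L.mul_mem h2 h5
    rwa [uG_mul_zU, add_sub_cancel, add_sub_cancel] at this

/-- the parametrization of the diagonal part as a homomorphism -/
noncomputable def hGuHom (m : ℕ) (hK : Fintype.card K = 3 ^ (2 * m + 1)) : Kˣ →* ↥(tG2 K (3 ^ m)) where
  toFun := hGu m hK
  map_one' := hGu_one m hK
  map_mul' := hGu_mul m hK

theorem hGu_zpow (m : ℕ) (hK : Fintype.card K = 3 ^ (2 * m + 1)) (k : Kˣ) (j : ℤ) :
    hGu m hK (k ^ j) = hGu m hK k ^ j := map_zpow (hGuHom m hK) k j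

theorem ree_two_generated (m : ℕ) (hm : 1 ≤ m) (hK : Fintype.card K = 3 ^ (2 * m + 1)) :
    ∃ a b : ↥(tG2 K (3 ^ m)), Subgroup.closure ({a, b} : Set ↥(tG2 K (3 ^ m))) = ⊤ := by
  obtain ⟨k, hk⟩ := IsCyclic.exists_generator (α := Kˣ)
  refine ⟨hGu m hK k, uG m 1 0 0 * nSub m hK, ?_⟩
  set L := Subgroup.closure ({hGu m hK k, uG m 1 0 0 * nSub m hK} : Set ↥(tG2 K (3 ^ m))) with hL
  have ha : hGu m hK k ∈ L := Subgroup.subset_closure (by simp)
  have hb : uG m 1 0 0 * nSub m hK ∈ L := Subgroup.subset_closure (by simp)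
  have hH : ∀ s : Kˣ, hGu m hK s ∈ L := by
    intro s
    obtain ⟨j, rfl⟩ := Subgroup.mem_zpowers_iff.mp (hk s)
    rw [hGu_zpow]
    exact L.zpow_mem ha j
  have hinv : (hGu m hK (-1))⁻¹ = hGu m hK (-1) := by
    rw [← hGu_inv, inv_neg_one]
  have hc : uG m (-1) 0 0 * (uG m (1 : K) 0 0)⁻¹ ∈ L := by
    have e : uG m (-1) 0 0 * (uG m (1 : K) 0 0)⁻¹ =
        hGu m hK (-1) * ((uG m 1 0 0 * nSub m hK) * hGu m hK (-1) * (uG m 1 0 0 * nSub m hK)⁻¹) := by
      have e1 : uG m 1 0 0 * nSub m hK * hGu m hK (-1) * (uG m 1 0 0 * nSub m hK)⁻¹ =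
          uG m 1 0 0 * (nSub m hK * hGu m hK (-1) * (nSub m hK)⁻¹) * (uG m 1 0 0)⁻¹ := by group
      rw [e1, nSub_conj_hGu, inv_neg_one]
      have e2 := hGu_conj_first m hK (-1) (1 : K)
      rw [Units.val_neg, Units.val_one, wt1_neg_one, mul_one, hinv] at e2
      rw [← e2]
      group
    rw [e]
    exact L.mul_mem (hH _) (L.mul_mem (L.mul_mem hb (hH _)) (L.inv_mem hb))
  obtain ⟨u'', v'', e1⟩ := uG_inv_first m hK (1 : K) 0 0
  obtain ⟨u₃, v₃, e2⟩ := uG_mul_first m hK (-1 : K) 0 0 (-1) u'' v''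
  rw [e1, e2] at hc
  have h2 : (-1 + -1 : K) ≠ 0 := by
    intro h
    apply two_ne_zero_char3 (K := K)
    linear_combination -h
  have hU := uG_mem_of_torus m hm hK L hH h2 hc
  have hn : nSub m hK ∈ L := by
    have := L.mul_mem (L.inv_mem (hU 1 0 0)) hb
    rwa [inv_mul_cancel_left] at this
  rw [eq_top_iff]
  intro g _
  rcases normal_form_G m hK g with ⟨t, u, v, s, rfl⟩ | ⟨t, u, v, s, a, b, c, rfl⟩
  · exact L.mul_mem (hU _ _ _) (hH _)
  · exact L.mul_mem (L.mul_mem (hU _ _ _) (L.mul_mem (hH _) hn)) (hU _ _ _)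

end

end Cfsg.Agent.Lib.Helper3.Ree
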