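import Mathlib
import Cfsg.Agent.Lib.Helper3.ReeM4
import Cfsg.Agent.Lib.Helper3.CExt7
import Cfsg.Agent.Lib.Helper3.SzM1
set_option autoImplicit false
set_option linter.unusedSectionVars false
set_option linter.style.haveILetI false
set_option linter.unusedSimpArgs false
open Cfsg Cfsg.Lie

/-!
The stem extensions of the twisted groups of type `G₂` over the field of `3 ^ (2 * m + 1)` elements, `m ≥ 1`, have
trivial kernel.
-/

namespace Cfsg.Agent.Lib.Helper3.Ree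

open Cfsg.Agent.Lib.Helper3.ChevM Cfsg.Agent.Lib.Helper3.CExt Cfsg.Agent.Lib.Helper3.SzM
open scoped commutatorElement

section
variable {K : Type*} [Field K] [Fintype K] [CharP K 3]

/-- an element of order `7` normalizing a Sylow `2`-subgroup without centralizing it -/
theorem exists_seven (m : ℕ) (hm : 1 ≤ m) (hK : Fintype.card K = 3 ^ (2 * m + 1)) (S : Sylow 2 ↥(tG2 K (3 ^ m))) :
    ∃ g : ↥(tG2 K (3 ^ m)), g ^ 7 = 1 ∧ (∀ x ∈ S, g * x * g⁻¹ ∈ S) ∧ ∃ t₀ ∈ S, g * t₀ * g⁻¹ ≠ t₀ := by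
  haveI : Fact (Nat.Prime 7) := ⟨by norm_num⟩
  obtain ⟨hC, hN⟩ := ree_sylow_two_normalizer m hm hK S
  obtain ⟨hS8, -⟩ := ree_sylow_two m hK S
  have hdvd : 7 ∣ Nat.card (Subgroup.normalizer ((S : Subgroup ↥(tG2 K (3 ^ m))) : Set ↥(tG2 K (3 ^ m)))) := by
    rw [hN]
    norm_num
  obtain ⟨g, hg⟩ := exists_prime_orderOf_dvd_card' 7 hdvd
  have hg7 : (g : ↥(tG2 K (3 ^ m))) ^ 7 = 1 := by
    have := pow_orderOf_eq_one g
    rw [hg] at this
    exact_mod_cast congrArg Subtype.val this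
  have hgN := g.2
  refine ⟨g, hg7, ?_, ?_⟩
  · intro x hx
    exact (Subgroup.mem_normalizer_iff.mp hgN x).mp hx
  · by_contra hall
    push Not at hall
    have hgC : (g : ↥(tG2 K (3 ^ m))) ∈
        Subgroup.centralizer ((S : Subgroup ↥(tG2 K (3 ^ m))) : Set ↥(tG2 K (3 ^ m))) := by
      rw [Subgroup.mem_centralizer_iff]
      intro x hx
      have := hall x hx
      calc x * (g : ↥(tG2 K (3 ^ m))) = ((g : ↥(tG2 K (3 ^ m))) * x * (g : ↥(tG2 K (3 ^ m)))⁻¹) * g := by rw [this]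
        _ = g * x := by group
    rw [hC] at hgC
    have h1 : orderOf (g : ↥(tG2 K (3 ^ m))) = 7 := by rw [Subgroup.orderOf_coe, hg]
    have h2 : orderOf (⟨(g : ↥(tG2 K (3 ^ m))), hgC⟩ : ↥(S : Subgroup ↥(tG2 K (3 ^ m)))) ∣ Nat.card S :=
      orderOf_dvd_natCard _
    rw [← Subgroup.orderOf_coe] at h2
    have hS8' : Nat.card ↥(S : Subgroup ↥(tG2 K (3 ^ m))) = 8 := hS8
    rw [h1, hS8'] at h2
    omega

/-- The stem extensions of the twisted groups of type `G₂` have trivial kernel. -/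
theorem ree_stem_ker (m : ℕ) (hm : 1 ≤ m) (hK : Fintype.card K = 3 ^ (2 * m + 1)) {Γ : Type*} [Group Γ] [Finite Γ]
    (σ : Γ →* ↥(tG2 K (3 ^ m))) (hσ : Cfsg.IsStemExtension σ) : σ.ker = ⊥ := by
  have hσ' := hσ
  obtain ⟨hsurj, hcen, hcomm⟩ := hσ'
  let E : CE Γ ↥(tG2 K (3 ^ m)) := ⟨σ, hsurj, hcen⟩
  apply stem_ker_eq_bot_of_sylow σ hσ
  intro r hr
  by_cases hr3 : r = 3
  · subst hr3
    refine ⟨uSub K (3 ^ m), not_dvd_index_uSub m hK, ?_⟩
    intro z hz hz' _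
    exact (reeU3 m hK).eq_one_of_mem_commutator E (reeU3_hyp m hm hK) (reeU3_isUnip m hK) hz hz'
  by_cases hr2 : r = 2
  · subst hr2
    haveI : Fact (Nat.Prime 2) := ⟨hr⟩
    obtain ⟨S⟩ : Nonempty (Sylow 2 ↥(tG2 K (3 ^ m))) := inferInstance
    obtain ⟨hS8, hS2⟩ := ree_sylow_two m hK S
    obtain ⟨g, hg7, hgS, t₀, ht₀, hne⟩ := exists_seven m hm hK S
    refine ⟨(S : Subgroup ↥(tG2 K (3 ^ m))), S.not_dvd_index, ?_⟩
    intro z hz hz' _
    have hle : ⁅(S : Subgroup ↥(tG2 K (3 ^ m))).comap σ, (S : Subgroup ↥(tG2 K (3 ^ m))).comap σ⁆ ≤ ⊥ := by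
      rw [Subgroup.commutator_le]
      intro x hx y hy
      rw [Subgroup.mem_bot, commutatorElement_eq_one_iff_mul_comm]
      exact E.e8_lifts_commute (S : Subgroup ↥(tG2 K (3 ^ m))) hS2 hS8 g hg7 hgS t₀ ht₀ hne hx hy
    exact Subgroup.mem_bot.mp (hle hz')
  · have : Fact r.Prime := ⟨hr⟩
    have hr5 : 3 < r := by
      have := hr.two_le
      omega
    obtain ⟨P⟩ : Nonempty (Sylow r ↥(tG2 K (3 ^ m))) := inferInstance
    refine ⟨(P : Subgroup ↥(tG2 K (3 ^ m))), P.not_dvd_index, ?_⟩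
    intro z hz hz' _
    have : IsCyclic (P : Subgroup ↥(tG2 K (3 ^ m))) := ree_sylow_cyclic m hm hK r hr5 P
    rw [commutator_comap_eq_bot_of_isCyclic σ hcen (P : Subgroup ↥(tG2 K (3 ^ m)))] at hz'
    exact Subgroup.mem_bot.mp hz'

end

end Cfsg.Agent.Lib.Helper3.Ree
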