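import Mathlib
import Cfsg.Prelude.Def_Characters
import Cfsg.Agent.Lib.Helper4.Characters
import Cfsg.Agent.Lib.Helper4.CharBound
import Cfsg.Agent.Lib.Helper1.CharFound6
import Cfsg.Agent.Lib.Helper1.CharFound7
import Cfsg.Agent.Lib.Helper8.GL5
import Cfsg.Agent.S0148

set_option autoImplicit false
set_option linter.unusedSectionVars false
set_option linter.style.haveILetI false

/-!
Abstract character-theoretic lemmas for lower bounds on character degrees.
-/

namespace Cfsg.Agent.Lib.Helper3.SzRep

open Cfsg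
open scoped ComplexConjugate
open Cfsg.Agent.Lib.Helper1 Cfsg.Agent.Lib.Helper4 Cfsg.Agent.Lib.Helper8

universe u

section

variable {U : Type u} [Group U] [Fintype U]

/-- the sum of the squared norms of an irreducible character is the group order -/
theorem sum_normSq_irr {ψ : U → ℂ} (hψ : IsIrrCharacter U ψ) :
    ∑ u : U, Complex.normSq (ψ u) = Fintype.card U := by
  have h1 := classInner_irr_self hψ
  rw [classInner_def] at h1
  have hG0 : (Nat.card U : ℂ) ≠ 0 := Nat.cast_ne_zero.2 Nat.card_pos.ne'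
  have h2 : ∑ u : U, ψ u * conj (ψ u) = (Nat.card U : ℂ) := by
    field_simp at h1
    exact h1
  have h3 : ∑ u : U, ψ u * conj (ψ u) = ((∑ u : U, Complex.normSq (ψ u) : ℝ) : ℂ) := by
    rw [Complex.ofReal_sum]
    refine Finset.sum_congr rfl fun u _ => ?_
    rw [Complex.mul_conj]
  rw [h3, Nat.card_eq_fintype_card] at h2
  exact_mod_cast h2

/-- degree bound for an irreducible character vanishing off a set `W` -/
theorem card_le_of_vanish {ψ : U → ℂ} (hψ : IsIrrCharacter U ψ) (W : Finset U)
    (hvan : ∀ u, u ∉ W → ψ u = 0) :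
    (Fintype.card U : ℝ) ≤ W.card * (ψ 1).re ^ 2 := by
  rw [← sum_normSq_irr hψ]
  have h1 : ∑ u : U, Complex.normSq (ψ u) = ∑ u ∈ W, Complex.normSq (ψ u) := by
    symm
    apply Finset.sum_subset (Finset.subset_univ _)
    intro u _ hu
    rw [hvan u hu, map_zero]
  rw [h1]
  have h2 : ∀ u ∈ W, Complex.normSq (ψ u) ≤ (ψ 1).re ^ 2 := by
    intro u _
    have h3 := isCharacter_norm_le (isCharacter_of_irr hψ) u
    rw [Complex.normSq_eq_norm_sq]
    exact pow_le_pow_left₀ (norm_nonneg _) h3 2
  calc ∑ u ∈ W, Complex.normSq (ψ u) ≤ ∑ _u ∈ W, (ψ 1).re ^ 2 := Finset.sum_le_sum h2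
    _ = W.card * (ψ 1).re ^ 2 := by rw [Finset.sum_const, nsmul_eq_mul]

omit [Fintype U] in
/-- an irreducible character vanishes at `u` when some conjugate of `u` is a translate of `u` by
a central element on which the central character is non-trivial -/
theorem apply_eq_zero_of_conj {A : Type u} [Group A] (ι : A →* U) {ψ : U → ℂ}
    (hψ : IsIrrCharacter U ψ) (μ : A →* ℂˣ)
    (hμ : ∀ x a, ψ (x * ι a) = ψ x * ((μ a : ℂˣ) : ℂ)) {u v : U} {a : A}
    (hconj : v * u * v⁻¹ = u * ι a) (ha : μ a ≠ 1) : ψ u = 0 := by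
  have h1 : ψ (v * u * v⁻¹) = ψ u := isClassFunction_irr hψ u v
  rw [hconj, hμ] at h1
  have h2 : ψ u * (((μ a : ℂˣ) : ℂ) - 1) = 0 := by rw [mul_sub, h1, mul_one, sub_self]
  rcases mul_eq_zero.mp h2 with h | h
  · exact h
  · exfalso
    apply ha
    apply Units.ext
    rw [Units.val_one]
    exact sub_eq_zero.mp h

end

section Orbit

variable {G : Type u} [Group G] [Fintype G]

/-- conjugation by a normalising element, as an automorphism of the subgroup -/
def conjEquiv (U : Subgroup G) (s : G) (hs : s ∈ Subgroup.normalizer (U : Set G)) : ↥U ≃* ↥U where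
  toFun u := ⟨s * u * s⁻¹, (Subgroup.mem_normalizer_iff.mp hs u).mp u.2⟩
  invFun u := ⟨s⁻¹ * u * s, by
    have := (Subgroup.mem_normalizer_iff.mp hs (s⁻¹ * u * s)).mpr
    apply this
    have e : s * (s⁻¹ * (u : G) * s) * s⁻¹ = u := by group
    rw [e]
    exact u.2⟩
  left_inv u := by
    apply Subtype.ext
    simp only
    group
  right_inv u := by
    apply Subtype.ext
    simp only
    group
  map_mul' u v := by
    apply Subtype.ext
    simp only [Subgroup.coe_mul]
    group

theorem conjEquiv_apply (U : Subgroup G) (s : G) (hs : s ∈ Subgroup.normalizer (U : Set G))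
    (u : U) : ((conjEquiv U s hs u : U) : G) = s * u * s⁻¹ := rfl

/-- multiplicities in the restriction of a class function are invariant under the normaliser -/
theorem classInner_restrict_conj (U : Subgroup G) [Fintype U] {χ : G → ℂ}
    (hχ : IsClassFunction G χ) (ψ : U → ℂ) (s : G) (hs : s ∈ Subgroup.normalizer (U : Set G)) :
    classInner (fun u : U => χ u) (fun u => ψ (conjEquiv U s hs u)) =
      classInner (fun u : U => χ u) ψ := by
  rw [classInner_def, classInner_def]
  congr 1
  rw [← Equiv.sum_comp (conjEquiv U s hs).toEquiv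
    (fun u : U => χ (u : G) * conj (ψ u))]
  refine Finset.sum_congr rfl fun u _ => ?_
  simp only [MulEquiv.toEquiv_eq_coe, EquivLike.coe_coe]
  rw [conjEquiv_apply, hχ]

/-- the orbit bound: distinct conjugates of a constituent of the restriction all contribute -/
theorem orbit_bound (U : Subgroup G) [Fintype U] {χ : G → ℂ} (hχ : IsCharacter G χ)
    {ψ : U → ℂ} (hψ : IsIrrCharacter U ψ)
    (hne : classInner (fun u : U => χ u) ψ ≠ 0)
    (S : Finset G) (hS : ∀ s ∈ S, s ∈ Subgroup.normalizer (U : Set G))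
    (hdist : ∀ s (hs : s ∈ S) s' (hs' : s' ∈ S), s ≠ s' →
      (fun u => ψ (conjEquiv U s (hS s hs) u)) ≠ (fun u => ψ (conjEquiv U s' (hS s' hs') u))) :
    (S.card : ℝ) * (ψ 1).re ≤ (χ 1).re := by
  classical
  set χU : U → ℂ := fun u : U => χ u with hχU
  have hχUc : IsCharacter U χU := Cfsg.Agent.S0148.isCharacter_restrict U hχ
  have hχcf : IsClassFunction G χ := isClassFunction_of_isCharacter hχ
  obtain ⟨n, hn⟩ := classInner_char_irr_nat hχUc hψ
  have hn1 : 1 ≤ n := by
    rcases Nat.eq_zero_or_pos n with h | h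
    · exfalso
      apply hne
      rw [hn, h, Nat.cast_zero]
    · exact h
  -- the conjugate characters
  set ψc : S → (U → ℂ) := fun s => fun u => ψ (conjEquiv U s.1 (hS s.1 s.2) u) with hψc
  have hψcirr : ∀ s : S, IsIrrCharacter U (ψc s) := fun s =>
    isIrrCharacter_comp_mulEquiv hψ (conjEquiv U s.1 (hS s.1 s.2))
  have hψcn : ∀ s : S, classInner χU (ψc s) = n := by
    intro s
    rw [← hn]
    exact classInner_restrict_conj U hχcf ψ s.1 (hS s.1 s.2)
  have hψcinj : Function.Injective ψc := by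
    intro s s' h
    by_contra hss
    exact hdist s.1 s.2 s'.1 s'.2 (fun h' => hss (Subtype.ext h')) h
  have hψc1 : ∀ s : S, ψc s 1 = ψ 1 := by
    intro s
    show ψ (conjEquiv U s.1 (hS s.1 s.2) 1) = ψ 1
    rw [map_one]
  -- the difference is a character
  set θ : U → ℂ := χU - ∑ s : S, (n : ℂ) • ψc s with hθ
  have hθcf : IsClassFunction U θ := by
    apply isClassFunction_sub (isClassFunction_of_isCharacter hχUc)
    apply isClassFunction_sum
    intro s _
    exact isClassFunction_smul _ (isClassFunction_irr (hψcirr s))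
  have hθc : IsCharacter U θ := by
    apply isCharacter_of_nat_mult θ hθcf
    intro ξ hξ
    rw [hθ, classInner_sub_left, classInner_sum_left]
    simp only [classInner_smul_left]
    by_cases hex : ∃ s₀ : S, ψc s₀ = ξ
    · obtain ⟨s₀, rfl⟩ := hex
      refine ⟨0, ?_⟩
      rw [Finset.sum_eq_single s₀]
      · rw [classInner_irr_self (hψcirr s₀), mul_one, hψcn, sub_self, Nat.cast_zero]
      · intro s _ hs
        rw [classInner_irr_ne (hψcirr s) (hψcirr s₀) (fun h => hs (hψcinj h)), mul_zero]
      · intro h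
        exact absurd (Finset.mem_univ _) h
    · push Not at hex
      obtain ⟨k, hk⟩ := classInner_char_irr_nat hχUc hξ
      refine ⟨k, ?_⟩
      rw [Finset.sum_eq_zero, sub_zero, hk]
      intro s _
      rw [classInner_irr_ne (hψcirr s) hξ (hex s), mul_zero]
  obtain ⟨d, hd⟩ := isCharacter_apply_one hθc
  have h1 : θ 1 = χ 1 - (S.card : ℂ) * ((n : ℂ) * ψ 1) := by
    rw [hθ]
    simp only [Pi.sub_apply, Finset.sum_apply, Pi.smul_apply, smul_eq_mul, hψc1]
    rw [Finset.sum_const, Finset.card_univ, Fintype.card_coe, nsmul_eq_mul]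
    rfl
  have h2 : (χ 1).re - (S.card : ℝ) * ((n : ℝ) * (ψ 1).re) = d := by
    have := congrArg Complex.re (h1.symm.trans hd)
    simpa using this
  have hψ1 : 0 ≤ (ψ 1).re := by
    have := isCharacter_norm_le (isCharacter_of_irr hψ) 1
    exact (norm_nonneg _).trans this
  have hd0 : (0 : ℝ) ≤ d := Nat.cast_nonneg d
  have hn1' : (1 : ℝ) ≤ n := by exact_mod_cast hn1
  have h3 : (S.card : ℝ) * (ψ 1).re ≤ (S.card : ℝ) * ((n : ℝ) * (ψ 1).re) := by
    apply mul_le_mul_of_nonneg_left _ (Nat.cast_nonneg _)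
    nlinarith
  linarith

end Orbit

end Cfsg.Agent.Lib.Helper3.SzRep
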