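import Mathlib
import Cfsg.Agent.Lib.Helper3.SzRep1

set_option autoImplicit false
set_option linter.unusedSectionVars false
set_option linter.style.haveILetI false

/-!
Abstract lemmas on characters and representations for the lower bound on the degrees of the twisted group of
type `G₂`: the decomposition of the restriction at equality in the orbit bound, the vanishing of a character at an
element inverting a subgroup without fixed vectors, and the divisibility of the degree by four.
-/

namespace Cfsg.Agent.Lib.Helper3.ReeRep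

open Cfsg
open scoped ComplexConjugate
open Cfsg.Agent.Lib.Helper1 Cfsg.Agent.Lib.Helper4 Cfsg.Agent.Lib.Helper8 Cfsg.Agent.Lib.Helper3.SzRep

universe u

section Orbit

variable {G : Type u} [Group G] [Fintype G]

/-- at equality in the orbit bound, the restriction is the sum of the conjugates -/
theorem orbit_decomp (U : Subgroup G) [Fintype U] {χ : G → ℂ} (hχ : IsCharacter G χ)
    {ψ : U → ℂ} (hψ : IsIrrCharacter U ψ)
    (hne : classInner (fun u : U => χ u) ψ ≠ 0)
    (S : Finset G) (hS : ∀ s ∈ S, s ∈ Subgroup.normalizer (U : Set G))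
    (hdist : ∀ s (hs : s ∈ S) s' (hs' : s' ∈ S), s ≠ s' →
      (fun u => ψ (conjEquiv U s (hS s hs) u)) ≠ (fun u => ψ (conjEquiv U s' (hS s' hs') u)))
    (hSne : S.Nonempty) (hle : (χ 1).re ≤ (S.card : ℝ) * (ψ 1).re) :
    ∀ u : U, χ u = ∑ s : S, ψ (conjEquiv U s.1 (hS s.1 s.2) u) := by
  classical
  set χU : U → ℂ := fun u : U => χ u with hχU
  have hχUc : IsCharacter U χU := Cfsg.Agent.S0148.isCharacter_restrict U hχ
  have hχcf : IsClassFunction G χ := isClassFunction_of_isCharacter hχ
  obtain ⟨n, hn⟩ := classInner_char_irr_nat hχUc hψ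
  have hn1 : 1 ≤ n := by
    rcases Nat.eq_zero_or_pos n with h | h
    · exfalso
      apply hne
      rw [hn, h, Nat.cast_zero]
    · exact h
  -- the conjugate characters
  set ψc : S → (U → ℂ) := fun s => fun u => ψ (conjEquiv U s.1 (hS s.1 s.2) u) with hψc
  have hψcirr : ∀ s : S, IsIrrCharacter U (ψc s) := fun s =>
    isIrrCharacter_comp_mulEquiv hψ (conjEquiv U s.1 (hS s.1 s.2))
  have hψcn : ∀ s : S, classInner χU (ψc s) = n := by
    intro s
    rw [← hn]
    exact classInner_restrict_conj U hχcf ψ s.1 (hS s.1 s.2)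
  have hψcinj : Function.Injective ψc := by
    intro s s' h
    by_contra hss
    exact hdist s.1 s.2 s'.1 s'.2 (fun h' => hss (Subtype.ext h')) h
  have hψc1 : ∀ s : S, ψc s 1 = ψ 1 := by
    intro s
    show ψ (conjEquiv U s.1 (hS s.1 s.2) 1) = ψ 1
    rw [map_one]
  -- the difference is a character
  set θ : U → ℂ := χU - ∑ s : S, (n : ℂ) • ψc s with hθ
  have hθcf : IsClassFunction U θ := by
    apply isClassFunction_sub (isClassFunction_of_isCharacter hχUc)
    apply isClassFunction_sum
    intro s _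
    exact isClassFunction_smul _ (isClassFunction_irr (hψcirr s))
  have hθc : IsCharacter U θ := by
    apply isCharacter_of_nat_mult θ hθcf
    intro ξ hξ
    rw [hθ, classInner_sub_left, classInner_sum_left]
    simp only [classInner_smul_left]
    by_cases hex : ∃ s₀ : S, ψc s₀ = ξ
    · obtain ⟨s₀, rfl⟩ := hex
      refine ⟨0, ?_⟩
      rw [Finset.sum_eq_single s₀]
      · rw [classInner_irr_self (hψcirr s₀), mul_one, hψcn, sub_self, Nat.cast_zero]
      · intro s _ hs
        rw [classInner_irr_ne (hψcirr s) (hψcirr s₀) (fun h => hs (hψcinj h)), mul_zero]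
      · intro h
        exact absurd (Finset.mem_univ _) h
    · push Not at hex
      obtain ⟨k, hk⟩ := classInner_char_irr_nat hχUc hξ
      refine ⟨k, ?_⟩
      rw [Finset.sum_eq_zero, sub_zero, hk]
      intro s _
      rw [classInner_irr_ne (hψcirr s) hξ (hex s), mul_zero]
  obtain ⟨d, hd⟩ := isCharacter_apply_one hθc
  have h1 : θ 1 = χ 1 - (S.card : ℂ) * ((n : ℂ) * ψ 1) := by
    rw [hθ]
    simp only [Pi.sub_apply, Finset.sum_apply, Pi.smul_apply, smul_eq_mul, hψc1]
    rw [Finset.sum_const, Finset.card_univ, Fintype.card_coe, nsmul_eq_mul]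
    rfl
  have h2 : (χ 1).re - (S.card : ℝ) * ((n : ℝ) * (ψ 1).re) = d := by
    have := congrArg Complex.re (h1.symm.trans hd)
    simpa using this
  -- the degree of `ψ` is positive
  obtain ⟨e, he⟩ := isCharacter_apply_one (isCharacter_of_irr hψ)
  have he0 : e ≠ 0 := by
    intro h
    apply irr_apply_one_ne_zero hψ
    rw [he, h, Nat.cast_zero]
  have hψ1 : (ψ 1).re = e := by rw [he]; simp
  have hepos : (1 : ℝ) ≤ e := by exact_mod_cast Nat.one_le_iff_ne_zero.mpr he0
  have hSpos : (1 : ℝ) ≤ S.card := by exact_mod_cast hSne.card_pos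
  have hd0 : (0 : ℝ) ≤ d := Nat.cast_nonneg d
  have hn1' : (1 : ℝ) ≤ n := by exact_mod_cast hn1
  rw [hψ1] at h2 hle
  have hprod : (1 : ℝ) ≤ S.card * e := by nlinarith
  have hn_eq : (n : ℝ) = 1 := by
    by_contra hcon
    have hlt : (1 : ℝ) < n := lt_of_le_of_ne hn1' (Ne.symm hcon)
    nlinarith
  have hd_eq : (d : ℝ) = 0 := by
    rw [hn_eq, one_mul] at h2
    linarith
  have hn_eq' : n = 1 := by exact_mod_cast hn_eq
  have hd_eq' : d = 0 := by exact_mod_cast hd_eq
  intro u
  have h3 := isCharacter_norm_le hθc u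
  rw [hd, hd_eq', Nat.cast_zero, Complex.zero_re] at h3
  have h4 : θ u = 0 := norm_le_zero_iff.mp h3
  rw [hθ, hn_eq'] at h4
  simp only [Pi.sub_apply, Finset.sum_apply, Pi.smul_apply, smul_eq_mul, Nat.cast_one, one_mul] at h4
  exact sub_eq_zero.mp h4

end Orbit

section Operators

variable {G : Type*} [Group G] {k : ℕ} (ρ : Representation ℂ G (Fin k → ℂ))

/-- a character vanishes at an element all of whose translates by a subgroup without fixed vectors are conjugate -/
theorem character_eq_zero_of_translates {A : Type*} [Group A] [Fintype A] (ι : A →* G) (t : G)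
    (hconj : ∀ a : A, ∃ w : G, w * t * w⁻¹ = ι a * t)
    (hsum : ∑ a : A, ρ.character (ι a) = 0) : ρ.character t = 0 := by
  classical
  set P : Module.End ℂ (Fin k → ℂ) := ∑ a : A, ρ (ι a) with hP
  have hcard : (Fintype.card A : ℂ) ≠ 0 := Nat.cast_ne_zero.mpr Fintype.card_ne_zero
  have hPP : P * P = (Fintype.card A : ℂ) • P := by
    rw [hP, Finset.sum_mul]
    have h1 : ∀ a : A, ρ (ι a) * ∑ b : A, ρ (ι b) = ∑ b : A, ρ (ι b) := by
      intro a
      rw [Finset.mul_sum]
      rw [← Equiv.sum_comp (Equiv.mulLeft a) (fun b : A => ρ (ι b))]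
      refine Finset.sum_congr rfl fun b _ => ?_
      rw [← map_mul, ← map_mul]
      rfl
    rw [Finset.sum_congr rfl fun a _ => h1 a, Finset.sum_const, Finset.card_univ, ← Nat.cast_smul_eq_nsmul ℂ]
  set E : Module.End ℂ (Fin k → ℂ) := (Fintype.card A : ℂ)⁻¹ • P with hE
  have hEi : IsIdempotentElem E := by
    unfold IsIdempotentElem
    rw [hE, smul_mul_smul_comm, hPP, smul_smul, mul_assoc, inv_mul_cancel₀ hcard, mul_one]
  have htr : LinearMap.trace ℂ (Fin k → ℂ) E = 0 := by
    rw [hE, map_smul, hP, map_sum]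
    have : ∑ a : A, LinearMap.trace ℂ (Fin k → ℂ) (ρ (ι a)) = 0 := hsum
    rw [this, smul_zero]
  have hE0 : E = 0 := LinearMap.IsIdempotentElem.eq_zero_of_trace_eq_zero hEi htr
  have hP0 : P = 0 := by
    have : (Fintype.card A : ℂ) • E = P := by rw [hE, smul_smul, mul_inv_cancel₀ hcard, one_smul]
    rw [← this, hE0, smul_zero]
  have h2 : ∑ a : A, ρ.character (ι a * t) = 0 := by
    have h3 : LinearMap.trace ℂ (Fin k → ℂ) (P * ρ t) = 0 := by rw [hP0, zero_mul, map_zero]
    rw [hP, Finset.sum_mul, map_sum] at h3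
    rw [← h3]
    refine Finset.sum_congr rfl fun a _ => ?_
    rw [← map_mul]
    rfl
  have h4 : ∀ a : A, ρ.character (ι a * t) = ρ.character t := by
    intro a
    obtain ⟨w, hw⟩ := hconj a
    rw [← hw]
    exact Representation.char_conj ρ t w
  rw [Finset.sum_congr rfl fun a _ => h4 a, Finset.sum_const, Finset.card_univ, nsmul_eq_mul] at h2
  rcases mul_eq_zero.mp h2 with h | h
  · exact absurd h hcard
  · exact h

/-- the degree is divisible by four when the character vanishes at the involutions of a four-group -/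
theorem four_dvd_of_klein (a b : G) (ha : a * a = 1) (hb : b * b = 1) (hab : a * b = b * a)
    (h1 : ρ.character a = 0) (h2 : ρ.character b = 0) (h3 : ρ.character (a * b) = 0) : 4 ∣ k := by
  classical
  set F : Module.End ℂ (Fin k → ℂ) := (4 : ℂ)⁻¹ • (1 + ρ a + ρ b + ρ (a * b)) with hF
  have haa : ρ a * ρ a = 1 := by rw [← map_mul, ha, map_one]
  have hbb : ρ b * ρ b = 1 := by rw [← map_mul, hb, map_one]
  have hba : ρ b * ρ a = ρ a * ρ b := by rw [← map_mul, ← map_mul, hab]
  have hmul : ρ (a * b) = ρ a * ρ b := map_mul ρ a b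
  have hFi : IsIdempotentElem F := by
    unfold IsIdempotentElem
    rw [hF, smul_mul_smul_comm, hmul]
    have e : (1 + ρ a + ρ b + ρ a * ρ b) * (1 + ρ a + ρ b + ρ a * ρ b) =
        (4 : ℂ) • (1 + ρ a + ρ b + ρ a * ρ b) := by
      have e1 : ρ a * ρ b * ρ a = ρ b := by rw [mul_assoc, hba, ← mul_assoc, haa, one_mul]
      have e2 : ρ a * ρ b * ρ b = ρ a := by rw [mul_assoc, hbb, mul_one]
      have e3 : ρ a * ρ b * (ρ a * ρ b) = 1 := by
        rw [← mul_assoc, e1, hbb]
      have e4 : ρ b * (ρ a * ρ b) = ρ a := by rw [← mul_assoc, hba, e2]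
      have e5 : ρ a * (ρ a * ρ b) = ρ b := by rw [← mul_assoc, haa, one_mul]
      simp only [mul_add, add_mul, mul_one, one_mul, haa, hbb, hba, e1, e2, e3, e4, e5]
      rw [show (4 : ℂ) = 1 + 1 + 1 + 1 by norm_num]
      simp only [add_smul, one_smul]
      abel
    rw [e, smul_smul]
    norm_num
  have htr : LinearMap.trace ℂ (Fin k → ℂ) F = (4 : ℂ)⁻¹ * k := by
    rw [hF, map_smul, map_add, map_add, map_add, smul_eq_mul]
    have t1 : LinearMap.trace ℂ (Fin k → ℂ) (ρ a) = 0 := h1
    have t2 : LinearMap.trace ℂ (Fin k → ℂ) (ρ b) = 0 := h2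
    have t3 : LinearMap.trace ℂ (Fin k → ℂ) (ρ (a * b)) = 0 := h3
    rw [t1, t2, t3, LinearMap.trace_one, Module.finrank_fin_fun]
    simp
  have h5 := (LinearMap.IsIdempotentElem.isProj_range F hFi).trace
  rw [htr] at h5
  refine ⟨Module.finrank ℂ (LinearMap.range F), ?_⟩
  have h6 : (k : ℂ) = 4 * (Module.finrank ℂ (LinearMap.range F) : ℂ) := by
    rw [← h5]
    ring
  exact_mod_cast h6

end Operators

end Cfsg.Agent.Lib.Helper3.ReeRep
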