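import Mathlib
import Cfsg.Agent.Lib.Helper3.ReeRep1
import Cfsg.Agent.Lib.Helper3.ReeO8
import Cfsg.Agent.Lib.Helper8.CharKernel

set_option autoImplicit false
set_option linter.unusedSectionVars false
set_option linter.style.haveILetI false

/-!
Irreducible characters of the unipotent part of the twisted group of type `G₂` which are non-trivial on the centre
have degree at least `q`, and every non-linear irreducible character of the twisted group has such a constituent.
-/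

namespace Cfsg.Agent.Lib.Helper3.ReeRep

open Cfsg Cfsg.Lie
open scoped ComplexConjugate
open Cfsg.Agent.Lib.Helper3.Ree Cfsg.Agent.Lib.Helper3.ChevM
open Cfsg.Agent.Lib.Helper1 Cfsg.Agent.Lib.Helper4 Cfsg.Agent.Lib.Helper8 Cfsg.Agent.Lib.Helper3.SzRep

universe u

variable {K : Type u} [Field K] [Fintype K] [CharP K 3]

/-- the elements of the unipotent part -/
def uU (m : ℕ) (hK : Fintype.card K = 3 ^ (2 * m + 1)) (t u v : K) : ↥(uSub K (3 ^ m)) :=
  ⟨uG m t u v, uG_mem m hK t u v⟩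

theorem uU_surj (m : ℕ) (hK : Fintype.card K = 3 ^ (2 * m + 1)) (g : ↥(uSub K (3 ^ m))) :
    ∃ t u v : K, g = uU m hK t u v := by
  obtain ⟨t, u, v, e⟩ := (mem_uSub_iff m hK g.1).mp g.2
  exact ⟨t, u, v, Subtype.ext (Subtype.ext e)⟩

/-- the central elements as a homomorphism from the additive group of the field -/
def zHom (m : ℕ) (hK : Fintype.card K = 3 ^ (2 * m + 1)) : Multiplicative K →* ↥(uSub K (3 ^ m)) where
  toFun c := uU m hK 0 0 (Multiplicative.toAdd c)
  map_one' := Subtype.ext (uG_zero m)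
  map_mul' c c' := Subtype.ext (by
    show uG m 0 0 (Multiplicative.toAdd c + Multiplicative.toAdd c') =
      uG m 0 0 (Multiplicative.toAdd c) * uG m 0 0 (Multiplicative.toAdd c')
    rw [zU_mul_G, add_zero])

theorem zHom_apply (m : ℕ) (hK : Fintype.card K = 3 ^ (2 * m + 1)) (c : K) :
    zHom m hK (Multiplicative.ofAdd c) = uU m hK 0 0 c := rfl

theorem zHom_central (m : ℕ) (hK : Fintype.card K = 3 ^ (2 * m + 1)) (c : Multiplicative K) :
    zHom m hK c ∈ Subgroup.center ↥(uSub K (3 ^ m)) := by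
  rw [Subgroup.mem_center_iff]
  intro g
  obtain ⟨t, u, v, rfl⟩ := uU_surj m hK g
  apply Subtype.ext
  show uG m t u v * uG m 0 0 _ = uG m 0 0 _ * uG m t u v
  exact uG_comm_third m t u v _

theorem card_uSub_fintype (m : ℕ) (hK : Fintype.card K = 3 ^ (2 * m + 1)) [Fintype ↥(uSub K (3 ^ m))] :
    Fintype.card ↥(uSub K (3 ^ m)) = (3 ^ (2 * m + 1)) ^ 3 := by
  rw [← Nat.card_eq_fintype_card, card_uSub m hK]

/-- irreducible characters of the unipotent part non-trivial on the centre have degree at least `q` -/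
theorem degree_bound (m : ℕ) (hK : Fintype.card K = 3 ^ (2 * m + 1)) [Fintype ↥(uSub K (3 ^ m))]
    {ψ : ↥(uSub K (3 ^ m)) → ℂ} (hψ : IsIrrCharacter ↥(uSub K (3 ^ m)) ψ) (μ : Multiplicative K →* ℂˣ)
    (hμ : ∀ x b, ψ (x * zHom m hK b) = ψ x * ((μ b : ℂˣ) : ℂ)) (hμ1 : μ ≠ 1) :
    ((3 : ℝ) ^ (2 * m + 1)) ≤ (ψ 1).re := by
  classical
  obtain ⟨c₀, hc₀⟩ : ∃ c₀ : K, μ (Multiplicative.ofAdd c₀) ≠ 1 := by
    by_contra h
    push Not at h
    apply hμ1
    apply MonoidHom.ext
    intro b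
    exact h (Multiplicative.toAdd b)
  set W : Finset ↥(uSub K (3 ^ m)) := Finset.univ.image (fun c : K => uU m hK 0 0 c) with hW
  have hWcard : W.card ≤ 3 ^ (2 * m + 1) := by
    calc W.card ≤ (Finset.univ : Finset K).card := Finset.card_image_le
      _ = 3 ^ (2 * m + 1) := by rw [Finset.card_univ, hK]
  have hvan : ∀ g, g ∉ W → ψ g = 0 := by
    intro g hg
    obtain ⟨t, u, v, rfl⟩ := uU_surj m hK g
    by_cases ht : t = 0
    · subst ht
      by_cases hu : u = 0
      · subst hu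
        exfalso
        apply hg
        rw [hW, Finset.mem_image]
        exact ⟨v, Finset.mem_univ _, rfl⟩
      · have hconj : uU m hK (c₀ / u) 0 0 * uU m hK 0 u v * (uU m hK (c₀ / u) 0 0)⁻¹ =
            uU m hK 0 u v * zHom m hK (Multiplicative.ofAdd c₀) := by
          apply Subtype.ext
          show uG m (c₀ / u) 0 0 * uG m 0 u v * (uG m (c₀ / u) 0 0)⁻¹ = uG m 0 u v * uG m 0 0 c₀
          rw [uG_conj_zU, zU_mul_G, add_zero, div_mul_cancel₀ _ hu]
        exact apply_eq_zero_of_conj (zHom m hK) hψ μ hμ hconj hc₀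
    · have hconj : (uU m hK 0 (c₀ / t) 0)⁻¹ * uU m hK t u v * ((uU m hK 0 (c₀ / t) 0)⁻¹)⁻¹ =
          uU m hK t u v * zHom m hK (Multiplicative.ofAdd c₀) := by
        apply Subtype.ext
        show (uG m 0 (c₀ / t) 0)⁻¹ * uG m t u v * ((uG m 0 (c₀ / t) 0)⁻¹)⁻¹ = uG m t u v * uG m 0 0 c₀
        have h1 := uG_conj_second m t u v (c₀ / t)
        rw [mul_div_cancel₀ _ ht] at h1
        have h2 : uG m (0 : K) (c₀ / t) c₀ = uG m 0 (c₀ / t) 0 * uG m 0 0 c₀ := by
          rw [zU_mul_G, add_zero, zero_add]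
        rw [h2] at h1
        calc (uG m 0 (c₀ / t) 0)⁻¹ * uG m t u v * ((uG m 0 (c₀ / t) 0)⁻¹)⁻¹
            = (uG m 0 (c₀ / t) 0)⁻¹ * (uG m t u v * uG m 0 (c₀ / t) 0 * (uG m t u v)⁻¹) * uG m t u v := by
              group
          _ = uG m 0 0 c₀ * uG m t u v := by
              rw [h1]
              group
          _ = uG m t u v * uG m 0 0 c₀ := (uG_comm_third m t u v c₀).symm
      exact apply_eq_zero_of_conj (zHom m hK) hψ μ hμ hconj hc₀
  have h1 := card_le_of_vanish hψ W hvan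
  rw [card_uSub_fintype m hK] at h1
  have hd0 : 0 ≤ (ψ 1).re := by
    have := isCharacter_norm_le (isCharacter_of_irr hψ) 1
    exact (norm_nonneg _).trans this
  set q : ℝ := (3 : ℝ) ^ (2 * m + 1) with hq
  have hqpos : 0 < q := by positivity
  have h2 : q ^ 3 ≤ q * (ψ 1).re ^ 2 := by
    calc q ^ 3 = (((3 ^ (2 * m + 1)) ^ 3 : ℕ) : ℝ) := by rw [hq]; push_cast; ring
      _ ≤ W.card * (ψ 1).re ^ 2 := h1
      _ ≤ q * (ψ 1).re ^ 2 := by
          apply mul_le_mul_of_nonneg_right _ (sq_nonneg _)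
          rw [hq]
          exact_mod_cast hWcard
  have h3 : q ^ 2 ≤ (ψ 1).re ^ 2 := by
    have : q * q ^ 2 ≤ q * (ψ 1).re ^ 2 := by
      calc q * q ^ 2 = q ^ 3 := by ring
        _ ≤ _ := h2
    exact le_of_mul_le_mul_left this hqpos
  exact (pow_le_pow_iff_left₀ hqpos.le hd0 two_ne_zero).mp h3

/-- an irreducible character of degree `≠ 1` has a constituent on the unipotent part non-trivial on its centre -/
theorem exists_constituent (m : ℕ) (hm : 1 ≤ m) (hK : Fintype.card K = 3 ^ (2 * m + 1))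
    [Fintype ↥(tG2 K (3 ^ m))] [Fintype ↥(uSub K (3 ^ m))] {χ : ↥(tG2 K (3 ^ m)) → ℂ}
    (hχ : IsIrrCharacter ↥(tG2 K (3 ^ m)) χ) (hne : χ 1 ≠ 1) :
    ∃ ψ : ↥(uSub K (3 ^ m)) → ℂ, IsIrrCharacter ↥(uSub K (3 ^ m)) ψ ∧
      classInner (fun u : ↥(uSub K (3 ^ m)) => χ u) ψ ≠ 0 ∧
      ∃ μ : Multiplicative K →* ℂˣ, (∀ x b, ψ (x * zHom m hK b) = ψ x * ((μ b : ℂˣ) : ℂ)) ∧ μ ≠ 1 := by
  classical
  by_contra hcon
  push Not at hcon
  haveI : Fintype (IrrCharacter ↥(uSub K (3 ^ m))) := Fintype.ofFinite _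
  set χU : ↥(uSub K (3 ^ m)) → ℂ := fun u => χ u with hχU
  have hχc : IsCharacter ↥(tG2 K (3 ^ m)) χ := isCharacter_of_irr hχ
  have hχUc : IsCharacter ↥(uSub K (3 ^ m)) χU := Cfsg.Agent.S0148.isCharacter_restrict (uSub K (3 ^ m)) hχc
  have hexp := class_function_expansion χU (isClassFunction_of_isCharacter hχUc)
  -- χ is constant on the centre of the unipotent part
  have hconst : ∀ b : Multiplicative K, χU (zHom m hK b) = χU 1 := by
    intro b
    have h1 : ∀ ξ : IrrCharacter ↥(uSub K (3 ^ m)),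
        (classInner χU ξ • (ξ : ↥(uSub K (3 ^ m)) → ℂ)) (zHom m hK b) =
        (classInner χU ξ • (ξ : ↥(uSub K (3 ^ m)) → ℂ)) 1 := by
      intro ξ
      simp only [Pi.smul_apply, smul_eq_mul]
      by_cases hc : classInner χU ξ = 0
      · rw [hc, zero_mul, zero_mul]
      · obtain ⟨μ, hμ⟩ := exists_hom_central (zHom m hK) (zHom_central m hK) ξ.2
        have := hcon ξ ξ.2 hc μ hμ
        have h2 := hμ 1 b
        rw [one_mul, this] at h2
        rw [h2]
        simp
    have h2 := congrFun hexp (zHom m hK b)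
    have h3 := congrFun hexp 1
    rw [Finset.sum_apply] at h2 h3
    rw [h2, h3]
    exact Finset.sum_congr rfl fun ξ _ => h1 ξ
  -- the kernel
  obtain ⟨N, hNn, hN⟩ := exists_normal_ker hχc
  have hmem : uG m 0 0 1 ∈ N := by
    rw [hN]
    have := hconst (Multiplicative.ofAdd 1)
    rw [zHom_apply] at this
    exact this
  haveI := (ree_simple (K := K) m hm hK).1
  have hNtop : N = ⊤ := by
    rcases hNn.eq_bot_or_eq_top with h | h
    · exfalso
      rw [h, Subgroup.mem_bot, ← uG_zero m] at hmem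
      exact one_ne_zero (uG_inj m hmem).2.2
    · exact h
  have hall : ∀ g : ↥(tG2 K (3 ^ m)), χ g = χ 1 := by
    intro g
    rw [← hN, hNtop]
    exact Subgroup.mem_top g
  have h1 := classInner_irr_self hχ
  rw [classInner_def] at h1
  obtain ⟨n, hn⟩ := isCharacter_apply_one hχc
  have hG0 : (Nat.card ↥(tG2 K (3 ^ m)) : ℂ) ≠ 0 := Nat.cast_ne_zero.2 Nat.card_pos.ne'
  have h2 : ∑ g : ↥(tG2 K (3 ^ m)), χ g * conj (χ g) =
      (Nat.card ↥(tG2 K (3 ^ m)) : ℂ) * ((n : ℂ) * (n : ℂ)) := by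
    rw [Finset.sum_congr rfl (fun g _ => by rw [hall g, hn, Complex.conj_natCast]),
      Finset.sum_const, Finset.card_univ, nsmul_eq_mul, Nat.card_eq_fintype_card]
  rw [h2, ← mul_assoc, inv_mul_cancel₀ hG0, one_mul] at h1
  have h3 : n * n = 1 := by exact_mod_cast h1
  have h4 : n = 1 := Nat.eq_one_of_mul_eq_one_left h3
  apply hne
  rw [hn, h4, Nat.cast_one]

end Cfsg.Agent.Lib.Helper3.ReeRep
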