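import Mathlib
import Cfsg.Agent.Lib.Helper3.ReeRep2

set_option autoImplicit false
set_option linter.unusedSectionVars false
set_option linter.style.haveILetI false

/-!
The minimal degree of a non-linear irreducible representation of the twisted group of type `G₂`.
-/

namespace Cfsg.Agent.Lib.Helper3.ReeRep

open Cfsg Cfsg.Lie
open scoped ComplexConjugate
open Cfsg.Agent.Lib.Helper3.Ree Cfsg.Agent.Lib.Helper3.ChevM
open Cfsg.Agent.Lib.Helper1 Cfsg.Agent.Lib.Helper4 Cfsg.Agent.Lib.Helper8 Cfsg.Agent.Lib.Helper3.SzRep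

universe u

variable {K : Type u} [Field K] [Fintype K] [CharP K 3]

theorem hGu_mem_normalizer_uSub (m : ℕ) (hK : Fintype.card K = 3 ^ (2 * m + 1)) (s : Kˣ) :
    hGu m hK s ∈ Subgroup.normalizer ((uSub K (3 ^ m) : Subgroup ↥(tG2 K (3 ^ m))) : Set ↥(tG2 K (3 ^ m))) := by
  apply bSub_le_normalizer_uSub m hK
  apply Subgroup.mem_subgroupOf.mpr
  show hRee (3 ^ m) (s : K) ∈ bT K (3 ^ m)
  exact hRee_mem_bT m hK _ s.ne_zero

theorem conjEquiv_hGu_zHom (m : ℕ) (hK : Fintype.card K = 3 ^ (2 * m + 1)) [Fintype ↥(tG2 K (3 ^ m))] (l : Kˣ)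
    (h : hGu m hK l ∈ Subgroup.normalizer ((uSub K (3 ^ m) : Subgroup ↥(tG2 K (3 ^ m))) : Set ↥(tG2 K (3 ^ m))))
    (c : K) :
    conjEquiv (uSub K (3 ^ m)) (hGu m hK l) h (zHom m hK (Multiplicative.ofAdd c)) =
      1 * zHom m hK (Multiplicative.ofAdd ((l : K) * c)) := by
  apply Subtype.ext
  rw [conjEquiv_apply, one_mul]
  show hGu m hK l * uG m 0 0 c * (hGu m hK l)⁻¹ = uG m 0 0 ((l : K) * c)
  rw [hGu_conj_zU, mul_zero]

/-- the translates of the involution of the diagonal part by the central elements of the unipotent part are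
conjugate to it -/
theorem exists_conj_zU_mul (m : ℕ) (hK : Fintype.card K = 3 ^ (2 * m + 1)) (c : K) :
    ∃ w : ↥(tG2 K (3 ^ m)), w * hGu m hK (-1) * w⁻¹ = uG m 0 0 c * hGu m hK (-1) := by
  refine ⟨uG m 0 0 (-c), ?_⟩
  have h3 := three_eq_zero' (K := K)
  have h1 : (uG m (0 : K) 0 (-c))⁻¹ = uG m 0 0 c := by
    rw [zU_inv_G, neg_zero, neg_neg]
  have h2 : hGu m hK (-1) * uG m 0 0 c * (hGu m hK (-1))⁻¹ = uG m 0 0 (-c) := by
    rw [hGu_conj_zU, mul_zero, Units.val_neg, Units.val_one, neg_one_mul]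
  calc uG m 0 0 (-c) * hGu m hK (-1) * (uG m 0 0 (-c))⁻¹
      = uG m 0 0 (-c) * (hGu m hK (-1) * (uG m 0 0 (-c))⁻¹ * (hGu m hK (-1))⁻¹) * hGu m hK (-1) := by group
    _ = uG m 0 0 (-c) * uG m 0 0 (-c) * hGu m hK (-1) := by rw [h1, h2]
    _ = uG m 0 0 c * hGu m hK (-1) := by
        rw [zU_mul_G, add_zero]
        congr 2
        linear_combination -c * h3

/-- the involutions of a four-group are conjugate to the involution of the diagonal part -/
theorem exists_conj_involutions (m : ℕ) (hm : 1 ≤ m) (hK : Fintype.card K = 3 ^ (2 * m + 1)) :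
    (∃ n : ↥(tG2 K (3 ^ m)), n * hGu m hK (-1) * n⁻¹ = aG m) ∧
    (∃ n : ↥(tG2 K (3 ^ m)), n * hGu m hK (-1) * n⁻¹ = bG m) ∧
    (∃ n : ↥(tG2 K (3 ^ m)), n * hGu m hK (-1) * n⁻¹ = aG m * bG m) := by
  haveI : Fact (Nat.Prime 2) := ⟨Nat.prime_two⟩
  obtain ⟨E, hE8, hexp, hz, ha, hb, hform⟩ := exists_e8_ree (K := K) m hK
  obtain ⟨k, hk, hG⟩ := card_tG2_eq (K := K) m hK
  have hfac := factorization_two_of_eight_mul _ k hk hG
  set S₀ : Sylow 2 ↥(tG2 K (3 ^ m)) := Sylow.ofCard E (by rw [hE8, hfac]; norm_num) with hS₀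
  have hS₀E : (S₀ : Subgroup ↥(tG2 K (3 ^ m))) = E := Sylow.coe_ofCard _ _
  have hone : (1 : ↥(tG2 K (3 ^ m))) ∈ borelG K (3 ^ m) := Subgroup.one_mem _
  have ha1 : aG (K := K) m ≠ 1 := by
    intro h
    apply psiR_not_mem_borelG (K := K) m _ wE_10
    show aG m ∈ borelG K (3 ^ m)
    rw [h]
    exact hone
  have hb1 : bG (K := K) m ≠ 1 := by
    intro h
    apply psiR_not_mem_borelG (K := K) m _ mE_10
    show bG m ∈ borelG K (3 ^ m)
    rw [h]
    exact hone
  have hab1 : aG (K := K) m * bG m ≠ 1 := by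
    intro h
    apply psiR_not_mem_borelG (K := K) m _ wE_mE_10
    rw [← aG_mul_bG, h]
    exact hone
  have hz' : hGu m hK (-1) ∈ (S₀ : Subgroup ↥(tG2 K (3 ^ m))) := by
    rw [hS₀E, ← zG_eq_hGu]
    exact hz
  have hz1 : hGu m hK (-1) ≠ 1 := by
    rw [← zG_eq_hGu]
    exact zG_ne_one m hK
  have key : ∀ y : ↥(tG2 K (3 ^ m)), y ∈ E → y ≠ 1 → ∃ n : ↥(tG2 K (3 ^ m)), n * hGu m hK (-1) * n⁻¹ = y := by
    intro y hy hy1
    obtain ⟨n, -, hn⟩ := normalizer_transitive_e8 k hk hG (ree_perfect m hm hK) S₀ (by rw [hS₀E]; exact hE8)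
      (by rw [hS₀E]; exact hexp) (hGu m hK (-1)) y hz' hz1 (by rw [hS₀E]; exact hy) hy1
    exact ⟨n, hn⟩
  exact ⟨key _ ha ha1, key _ hb hb1, key _ (E.mul_mem ha hb) hab1⟩

/-- the minimal degree of a non-linear irreducible representation of the twisted group of type `G₂` -/
theorem min_degree_tG2 (m : ℕ) (hm : 1 ≤ m) (hK : Fintype.card K = 3 ^ (2 * m + 1)) (k : ℕ)
    (ρ : Representation ℂ ↥(tG2 K (3 ^ m)) (Fin k → ℂ)) (hρ : ρ.IsIrreducible) (hk : 2 ≤ k) :
    (3 ^ (2 * m + 1)) ^ 2 - 3 ^ (2 * m + 1) + 1 ≤ k := by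
  classical
  letI : Fintype ↥(tG2 K (3 ^ m)) := Fintype.ofFinite _
  letI : Fintype ↥(uSub K (3 ^ m)) := Fintype.ofFinite _
  have h3 := three_eq_zero' (K := K)
  set χ : ↥(tG2 K (3 ^ m)) → ℂ := ρ.character with hχdef
  have hχ : IsIrrCharacter ↥(tG2 K (3 ^ m)) χ := ⟨k, ρ, hρ, rfl⟩
  have hχ1 : χ 1 = (k : ℂ) := by
    rw [hχdef, Representation.char_one]
    simp
  have hne : χ 1 ≠ 1 := by
    rw [hχ1]
    intro h
    have : k = 1 := by exact_mod_cast h
    omega
  obtain ⟨ψ, hψ, hψne, μ, hμ, hμ1⟩ := exists_constituent m hm hK hχ hne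
  have hdeg := degree_bound m hK hψ μ hμ hμ1
  set S : Finset ↥(tG2 K (3 ^ m)) := Finset.univ.image (fun l : Kˣ => hGu m hK l) with hS
  have hScard : S.card = Fintype.card K - 1 := by
    rw [hS, Finset.card_image_of_injective _ (fun l l' h => hGu_inj m hK h), Finset.card_univ,
      Fintype.card_units]
  have hSn : ∀ s ∈ S, s ∈ Subgroup.normalizer ((uSub K (3 ^ m) : Subgroup ↥(tG2 K (3 ^ m))) :
      Set ↥(tG2 K (3 ^ m))) := by
    intro s hs
    rw [hS, Finset.mem_image] at hs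
    obtain ⟨l, -, rfl⟩ := hs
    exact hGu_mem_normalizer_uSub m hK l
  have hSmem : ∀ g ∈ S, ∃ l : Kˣ, hGu m hK l = g := by
    intro g hg
    rw [hS, Finset.mem_image] at hg
    obtain ⟨l, -, hl⟩ := hg
    exact ⟨l, hl⟩
  set ν : K → ℂˣ := fun b => μ (Multiplicative.ofAdd b) with hν
  have hadd : ∀ x y, ν (x + y) = ν x * ν y := by
    intro x y
    rw [hν]
    simp only [ofAdd_add, map_mul]
  have hν0 : ν 0 = 1 := by
    rw [hν]
    simp
  have hψ1 : ψ 1 ≠ 0 := irr_apply_one_ne_zero hψ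
  have hval : ∀ (l : Kˣ) (hl : hGu m hK l ∈ S) (c : K),
      ψ (conjEquiv (uSub K (3 ^ m)) (hGu m hK l) (hSn _ hl) (zHom m hK (Multiplicative.ofAdd c))) =
        ψ 1 * ((ν ((l : K) * c) : ℂˣ) : ℂ) := by
    intro l hl c
    rw [conjEquiv_hGu_zHom, hμ]
  have hdist : ∀ s (hs : s ∈ S) s' (hs' : s' ∈ S), s ≠ s' →
      (fun u => ψ (conjEquiv (uSub K (3 ^ m)) s (hSn s hs) u)) ≠
        (fun u => ψ (conjEquiv (uSub K (3 ^ m)) s' (hSn s' hs') u)) := by
    intro s hs s' hs' hss hfun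
    have hs0 := hs
    have hs0' := hs'
    rw [hS, Finset.mem_image] at hs0 hs0'
    obtain ⟨l, -, hl⟩ := hs0
    obtain ⟨l', -, hl'⟩ := hs0'
    subst hl
    subst hl'
    have hll : (l : K) - (l' : K) ≠ 0 := by
      intro h
      apply hss
      rw [Units.ext (sub_eq_zero.mp h)]
    have heq : ∀ c : K, ν ((l : K) * c) = ν ((l' : K) * c) := by
      intro c
      have h1 : ψ (conjEquiv (uSub K (3 ^ m)) (hGu m hK l) (hSn _ hs) (zHom m hK (Multiplicative.ofAdd c))) =
          ψ (conjEquiv (uSub K (3 ^ m)) (hGu m hK l') (hSn _ hs') (zHom m hK (Multiplicative.ofAdd c))) :=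
        congrFun hfun (zHom m hK (Multiplicative.ofAdd c))
      rw [hval l hs c, hval l' hs' c] at h1
      exact Units.ext (mul_left_cancel₀ hψ1 h1)
    have hall : ∀ y : K, ν y = 1 := by
      intro y
      have h1 := hadd (((l : K) - (l' : K)) * (y / ((l : K) - (l' : K)))) ((l' : K) * (y / ((l : K) - (l' : K))))
      rw [← add_mul, sub_add_cancel, heq, mul_div_cancel₀ _ hll] at h1
      exact (mul_eq_right (a := ν y)).mp h1.symm
    apply hμ1
    apply MonoidHom.ext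
    intro b
    exact hall (Multiplicative.toAdd b)
  have hbound := orbit_bound (uSub K (3 ^ m)) (isCharacter_of_irr hχ) hψ hψne S hSn hdist
  -- the numerical data
  obtain ⟨j, hj⟩ := three_pow_odd_eq m
  have hScard' : S.card = 8 * j + 2 := by
    rw [hScard, hK, hj]
    omega
  have hqR : ((3 : ℝ) ^ (2 * m + 1)) = 8 * j + 3 := by
    have : ((3 ^ (2 * m + 1) : ℕ) : ℝ) = ((8 * j + 3 : ℕ) : ℝ) := by rw [hj]
    push_cast at this
    exact this
  rw [hqR] at hdeg
  rw [hScard', hχ1] at hbound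
  simp only [Complex.natCast_re] at hbound
  push_cast at hbound
  have hlow : ((8 * j + 2 : ℝ)) * (8 * j + 3) ≤ k := by
    have : ((8 * j + 2 : ℝ)) * (8 * j + 3) ≤ (8 * j + 2) * (ψ 1).re :=
      mul_le_mul_of_nonneg_left hdeg (by positivity)
    linarith
  have hlowN : (8 * j + 2) * (8 * j + 3) ≤ k := by exact_mod_cast hlow
  rw [hj]
  by_contra hlt
  push Not at hlt
  have hkeq : k = (8 * j + 2) * (8 * j + 3) := by
    have e : (8 * j + 3) ^ 2 - (8 * j + 3) + 1 = (8 * j + 2) * (8 * j + 3) + 1 := by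
      have : (8 * j + 3) ^ 2 = (8 * j + 2) * (8 * j + 3) + (8 * j + 3) := by ring
      rw [this]
      omega
    rw [e] at hlt
    omega
  -- the restriction to the unipotent part
  have hle : (χ 1).re ≤ (S.card : ℝ) * (ψ 1).re := by
    rw [hχ1, hScard', Complex.natCast_re, hkeq]
    push_cast
    exact mul_le_mul_of_nonneg_left hdeg (by positivity)
  have hSne : S.Nonempty := by
    rw [← Finset.card_pos, hScard']
    omega
  have hdec := orbit_decomp (uSub K (3 ^ m)) (isCharacter_of_irr hχ) hψ hψne S hSn hdist hSne hle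
  -- the sum of the values on the centre of the unipotent part
  have hμsum : ∑ c : K, ((ν c : ℂˣ) : ℂ) = 0 := by
    have hf : ((Units.coeHom ℂ).comp μ : Multiplicative K →* ℂ) ≠ 1 := by
      intro h
      apply hμ1
      apply MonoidHom.ext
      intro b
      apply Units.ext
      have := congrArg (fun f : Multiplicative K →* ℂ => f b) h
      simpa using this
    have := sum_hom_units_eq_zero ((Units.coeHom ℂ).comp μ) hf
    rw [← this]
    exact Fintype.sum_equiv Multiplicative.ofAdd _ _ (fun c => rfl)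
  have hsum : ∑ a : Multiplicative K, ρ.character
      (((uSub K (3 ^ m)).subtype.comp (zHom m hK)) a) = 0 := by
    have h1 : ∀ a : Multiplicative K, ρ.character (((uSub K (3 ^ m)).subtype.comp (zHom m hK)) a) =
        ∑ s : S, ψ (conjEquiv (uSub K (3 ^ m)) s.1 (hSn s.1 s.2) (zHom m hK a)) := by
      intro a
      exact hdec (zHom m hK a)
    rw [Finset.sum_congr rfl fun a _ => h1 a, Finset.sum_comm]
    apply Finset.sum_eq_zero
    intro s _
    obtain ⟨l, hl⟩ := hSmem s.1 s.2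
    have h2 : ∀ a : Multiplicative K,
        ψ (conjEquiv (uSub K (3 ^ m)) s.1 (hSn s.1 s.2) (zHom m hK a)) =
          ψ 1 * ((ν ((l : K) * Multiplicative.toAdd a) : ℂˣ) : ℂ) := by
      intro a
      have hl' : hGu m hK l ∈ S := by rw [hl]; exact s.2
      have := hval l hl' (Multiplicative.toAdd a)
      rw [← this]
      have hce : ∀ (g g' : ↥(tG2 K (3 ^ m))) (hg : g ∈ S) (hg' : g' ∈ S), g = g' →
          ∀ z, conjEquiv (uSub K (3 ^ m)) g (hSn g hg) z = conjEquiv (uSub K (3 ^ m)) g' (hSn g' hg') z := by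
        intro g g' hg hg' e z
        subst e
        rfl
      rw [hce s.1 (hGu m hK l) s.2 hl' hl.symm]
      rfl
    rw [Finset.sum_congr rfl fun a _ => h2 a, ← Finset.mul_sum]
    have h4 : ∑ a : Multiplicative K, ((ν ((l : K) * Multiplicative.toAdd a) : ℂˣ) : ℂ) =
        ∑ c : K, ((ν c : ℂˣ) : ℂ) := by
      rw [← Equiv.sum_comp (Equiv.mulLeft₀ (l : K) l.ne_zero) (fun c : K => ((ν c : ℂˣ) : ℂ))]
      exact Fintype.sum_equiv Multiplicative.toAdd _ _ (fun a => rfl)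
    rw [h4, hμsum, mul_zero]
  -- the value at the involution
  have hz0 : ρ.character (hGu m hK (-1)) = 0 := by
    apply character_eq_zero_of_translates ρ ((uSub K (3 ^ m)).subtype.comp (zHom m hK)) (hGu m hK (-1)) _ hsum
    intro a
    exact exists_conj_zU_mul m hK (Multiplicative.toAdd a)
  obtain ⟨⟨n₁, e₁⟩, ⟨n₂, e₂⟩, ⟨n₃, e₃⟩⟩ := exists_conj_involutions (K := K) m hm hK
  have ha : ρ.character (aG m) = 0 := by
    rw [← e₁, Representation.char_conj]
    exact hz0
  have hb : ρ.character (bG m) = 0 := by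
    rw [← e₂, Representation.char_conj]
    exact hz0
  have hab : ρ.character (aG m * bG m) = 0 := by
    rw [← e₃, Representation.char_conj]
    exact hz0
  obtain ⟨r, hr⟩ := four_dvd_of_klein ρ (aG m) (bG m) (aG_sq m) (bG_sq m) (aG_comm_bG m) ha hb hab
  rw [hkeq] at hr
  have : (8 * j + 2) * (8 * j + 3) = 64 * (j * j) + 40 * j + 6 := by ring
  rw [this] at hr
  omega

end Cfsg.Agent.Lib.Helper3.ReeRep
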