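import Mathlib
import Cfsg.Agent.Lib.Lead.Frattini

/-!
# Rows S3174 / S3175 (2-groups with the Sylow conditions of Rudvalis type): shared definitions

`Hyp W` bundles the hypotheses of the two rows on a finite 2-group `T` and its subgroup `W`.
`Str W` bundles the numerical part of the structure theorem, `Full W` everything that is known
before the centre of `W` is computed, so that the packages can be developed independently, taking
the others' outputs as hypotheses.
-/

set_option autoImplicit false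

namespace Cfsg.Agent.Lib.Helper3.Ru2

open scoped commutatorElement

variable {T : Type*} [Group T]

/-- the Frattini subgroup of `W`, as a subgroup of `T` -/
def Phi (W : Subgroup T) : Subgroup T := (frattini ↥W).map W.subtype

theorem Phi_le (W : Subgroup T) : Phi W ≤ W := by
  rintro _ ⟨f, _, rfl⟩
  exact f.2

theorem mem_Phi_iff (W : Subgroup T) (x : T) :
    x ∈ Phi W ↔ ∃ hx : x ∈ W, (⟨x, hx⟩ : ↥W) ∈ frattini ↥W := by
  constructor
  · rintro ⟨f, hf, rfl⟩
    exact ⟨f.2, hf⟩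
  · rintro ⟨hx, hf⟩
    exact ⟨⟨x, hx⟩, hf, rfl⟩

/-- `Phi W` is normalised by `W` -/
theorem Phi_conj_mem (W : Subgroup T) {f w : T} (hf : f ∈ Phi W) (hw : w ∈ W) :
    w * f * w⁻¹ ∈ Phi W := by
  obtain ⟨hfW, hf'⟩ := (mem_Phi_iff W f).mp hf
  have hn : (frattini ↥W).Normal := Subgroup.normal_of_characteristic _
  have := hn.conj_mem _ hf' ⟨w, hw⟩
  exact (mem_Phi_iff W _).mpr ⟨W.mul_mem (W.mul_mem hw hfW) (W.inv_mem hw), this⟩

/-- `Phi W` is normal in `T` if `W` is -/
instance Phi_normal (W : Subgroup T) [W.Normal] : (Phi W).Normal :=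
  ConjAct.normal_of_characteristic_of_normal

theorem card_Phi (W : Subgroup T) : Nat.card ↥(Phi W) = Nat.card ↥(frattini ↥W) :=
  Nat.card_congr ((frattini ↥W).equivMapOfInjective W.subtype W.subtype_injective).symm.toEquiv

/-- the hypotheses of the rows S3174 / S3175 -/
structure Hyp (W : Subgroup T) : Prop where
  finite : Finite T
  pgroup : IsPGroup 2 T
  card_ge : 2 ^ 14 ≤ Nat.card T
  card_Z4 : Nat.card ↥(Subgroup.upperCentralSeries T 4) = 16
  hW : W = Subgroup.centralizer ((Subgroup.upperCentralSeries T 3 : Subgroup T) : Set T)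
  card_frat : Nat.card ↥(frattini ↥W) ≤ 8
  frat_le : ∀ U : Subgroup ↥W, U.index ≤ 16 → frattini ↥W ≤ U

/-- commutators of elements of `W` lie in `Phi W` (in a finite 2-group) -/
theorem comm_mem_Phi [Finite T] (hT : IsPGroup 2 T) (W : Subgroup T) {a b : T} (ha : a ∈ W)
    (hb : b ∈ W) : ⁅a, b⁆ ∈ Phi W := by
  have : Fact (Nat.Prime 2) := ⟨Nat.prime_two⟩
  have hW : IsPGroup 2 ↥W := hT.to_subgroup W
  have h1 : ⁅(⟨a, ha⟩ : ↥W), ⟨b, hb⟩⁆ ∈ frattini ↥W :=
    Cfsg.Agent.Lib.Lead.commutator_le_frattini_of_isPGroup hW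
      (Subgroup.commutator_mem_commutator (Subgroup.mem_top _) (Subgroup.mem_top _))
  exact (mem_Phi_iff W _).mpr ⟨_, h1⟩

/-- squares of elements of `W` lie in `Phi W` (in a finite 2-group) -/
theorem sq_mem_Phi [Finite T] (hT : IsPGroup 2 T) (W : Subgroup T) {a : T} (ha : a ∈ W) :
    a ^ 2 ∈ Phi W := by
  have : Fact (Nat.Prime 2) := ⟨Nat.prime_two⟩
  have hW : IsPGroup 2 ↥W := hT.to_subgroup W
  have h1 : (⟨a, ha⟩ : ↥W) ^ 2 ∈ frattini ↥W :=
    Cfsg.Agent.Lib.Lead.pow_mem_frattini_of_isPGroup hW _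
  exact (mem_Phi_iff W _).mpr ⟨_, h1⟩

/-- the elements of `W` which every element of `S` centralises modulo `Phi W` (the preimage in `W`
of the fixed points of `S` on `W / Phi W`) -/
def fixMod (W S : Subgroup T) : Subgroup T where
  carrier := {w | w ∈ W ∧ ∀ s ∈ S, ⁅w, s⁆ ∈ Phi W}
  one_mem' := by
    refine ⟨W.one_mem, fun s _ => ?_⟩
    rw [commutatorElement_def]
    simp only [one_mul, inv_one, mul_one, mul_inv_cancel]
    exact Subgroup.one_mem _
  mul_mem' := by
    rintro a b ⟨haW, ha⟩ ⟨hbW, hb⟩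
    refine ⟨W.mul_mem haW hbW, fun s hs => ?_⟩
    have e : ⁅a * b, s⁆ = a * ⁅b, s⁆ * a⁻¹ * ⁅a, s⁆ := by
      simp only [commutatorElement_def]
      group
    rw [e]
    exact (Phi W).mul_mem (Phi_conj_mem W (hb s hs) haW) (ha s hs)
  inv_mem' := by
    rintro a ⟨haW, ha⟩
    refine ⟨W.inv_mem haW, fun s hs => ?_⟩
    have e : ⁅a⁻¹, s⁆ = a⁻¹ * ⁅a, s⁆⁻¹ * a⁻¹⁻¹ := by
      simp only [commutatorElement_def]
      group
    rw [e]
    exact Phi_conj_mem W ((Phi W).inv_mem (ha s hs)) (W.inv_mem haW)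

theorem mem_fixMod (W S : Subgroup T) (w : T) :
    w ∈ fixMod W S ↔ w ∈ W ∧ ∀ s ∈ S, ⁅w, s⁆ ∈ Phi W := Iff.rfl

theorem fixMod_le (W S : Subgroup T) : fixMod W S ≤ W := fun _ h => h.1

theorem fixMod_anti (W : Subgroup T) {S S' : Subgroup T} (h : S ≤ S') :
    fixMod W S' ≤ fixMod W S := fun _ hw => ⟨hw.1, fun s hs => hw.2 s (h hs)⟩

/-- the fixed points of `W` on `W / Phi W` are everything -/
theorem fixMod_self [Finite T] (hT : IsPGroup 2 T) (W : Subgroup T) : fixMod W W = W :=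
  le_antisymm (fixMod_le W W) fun _ hw => ⟨hw, fun _ hs => comm_mem_Phi hT W hw hs⟩

/-- the numerical part of the structure theorem -/
structure Str (W : Subgroup T) : Prop where
  normal : W.Normal
  card_T : Nat.card T = 2 ^ 14
  index_W : W.index = 8
  card_ucs : ∀ i : ℕ, i ≤ 4 → Nat.card ↥(Subgroup.upperCentralSeries T i) = 2 ^ i
  phi_eq : Phi W = Subgroup.upperCentralSeries T 3
  phi_central : ∀ f ∈ Phi W, ∀ w ∈ W, f * w = w * f
  z4_le : Subgroup.upperCentralSeries T 4 ≤ W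
  fix_top : fixMod W ⊤ = Subgroup.upperCentralSeries T 4

/-- the conclusion of Lemma (U1): a subgroup of `W` which is abelian modulo a maximal subgroup of
`Phi W` has index at least eight -/
def U1Prop (W : Subgroup T) : Prop :=
  ∀ A K : Subgroup T, Phi W ≤ A → A ≤ W → K ≤ Phi W → K.relIndex (Phi W) = 2 →
    (∀ a ∈ A, ∀ b ∈ A, ⁅a, b⁆ ∈ K) → 8 ≤ A.relIndex W

/-- the conclusion of the fixed point estimate: for `W ≤ S` the fixed points of `S` on `W / Phi W`
number at most `2 ^ |T : S|` -/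
def FixProp (W : Subgroup T) : Prop :=
  ∀ S : Subgroup T, W ≤ S → Nat.card ↥(fixMod W S) ≤ 8 * 2 ^ S.index

/-- everything that is known about `T` and `W` before the centre of `W` is computed -/
structure Full (W : Subgroup T) : Prop where
  hyp : Hyp W
  str : Str W
  fix : FixProp W
  u1 : U1Prop W
  phi_sq : ∀ f ∈ Phi W, f ^ 2 = 1

end Cfsg.Agent.Lib.Helper3.Ru2
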