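import Mathlib
import Cfsg.Agent.Lib.Helper3.Ru2Defs

/-!
# Rows S3174 / S3175: shared commutator calculus under `Full W`

`W` has class two with `Phi W = Z_3(T)` central in `W` and elementary abelian, so the commutator
is "bilinear" on `W`; moreover `⁅Phi W, T⁆ ≤ Z_2(T)`.
-/

set_option autoImplicit false

namespace Cfsg.Agent.Lib.Helper3.Ru2

open scoped commutatorElement

variable {T : Type*} [Group T] {W : Subgroup T}

/-! ### general identities -/

theorem comm_mul_left_gen (a b c : T) : ⁅a * b, c⁆ = a * ⁅b, c⁆ * a⁻¹ * ⁅a, c⁆ := by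
  simp only [commutatorElement_def]; group

theorem comm_mul_right_gen (a b c : T) : ⁅a, b * c⁆ = ⁅a, b⁆ * (b * ⁅a, c⁆ * b⁻¹) := by
  simp only [commutatorElement_def]; group

theorem conj_comm_gen (t a b : T) : t * ⁅a, b⁆ * t⁻¹ = ⁅t * a * t⁻¹, t * b * t⁻¹⁆ := by
  simp only [commutatorElement_def]; group

theorem comm_eq_mul_conj_inv (u t : T) : ⁅u, t⁆ = u * (t * u * t⁻¹)⁻¹ := by
  simp only [commutatorElement_def]; group

theorem comm_eq_conj_mul_inv (t u : T) : ⁅t, u⁆ = t * u * t⁻¹ * u⁻¹ := rfl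

/-- `|H| * |K : H| = |K|` for `H ≤ K` -/
theorem card_mul_relIndex {H K : Subgroup T} (h : H ≤ K) :
    Nat.card ↥H * H.relIndex K = Nat.card ↥K := by
  have h1 := (H.subgroupOf K).card_mul_index
  rw [Nat.card_congr (Subgroup.subgroupOfEquivOfLe h).toEquiv] at h1
  exact h1

/-! ### consequences of `Full W` -/

namespace Full

variable (F : Full W)
include F

theorem comm_mem {a b : T} (ha : a ∈ W) (hb : b ∈ W) : ⁅a, b⁆ ∈ Phi W :=
  have := F.hyp.finite
  comm_mem_Phi F.hyp.pgroup W ha hb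

theorem sq_mem {a : T} (ha : a ∈ W) : a ^ 2 ∈ Phi W :=
  have := F.hyp.finite
  sq_mem_Phi F.hyp.pgroup W ha

theorem conj_mem_W {w : T} (hw : w ∈ W) (t : T) : t * w * t⁻¹ ∈ W :=
  F.str.normal.conj_mem w hw t

theorem conj_mem_Phi {f : T} (hf : f ∈ Phi W) (t : T) : t * f * t⁻¹ ∈ Phi W :=
  have := F.str.normal
  (Phi_normal W).conj_mem f hf t

/-- `Phi W` is central in `W` -/
theorem conj_phi {f w : T} (hf : f ∈ Phi W) (hw : w ∈ W) : w * f * w⁻¹ = f := by
  rw [← F.str.phi_central f hf w hw]; group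

theorem comm_phi_right {w f : T} (hw : w ∈ W) (hf : f ∈ Phi W) : ⁅w, f⁆ = 1 := by
  rw [commutatorElement_def, F.conj_phi hf hw, mul_inv_cancel]

theorem comm_phi_left {w f : T} (hf : f ∈ Phi W) (hw : w ∈ W) : ⁅f, w⁆ = 1 := by
  rw [← commutatorElement_inv, F.comm_phi_right hw hf, inv_one]

/-- elements of `Phi W` are involutions -/
theorem phi_inv {f : T} (hf : f ∈ Phi W) : f⁻¹ = f := by
  have h := F.phi_sq f hf
  rw [pow_two] at h
  exact inv_eq_of_mul_eq_one_left h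

theorem phi_mul_self {f : T} (hf : f ∈ Phi W) : f * f = 1 := by
  have h := F.phi_sq f hf
  rwa [pow_two] at h

/-- `Phi W` is abelian -/
theorem phi_comm {f g : T} (hf : f ∈ Phi W) (hg : g ∈ Phi W) : f * g = g * f :=
  F.str.phi_central f hf g (Phi_le W hg)

/-- bilinearity in the second variable -/
theorem comm_mul_right {w a b : T} (hw : w ∈ W) (ha : a ∈ W) (hb : b ∈ W) :
    ⁅w, a * b⁆ = ⁅w, a⁆ * ⁅w, b⁆ := by
  rw [comm_mul_right_gen, F.conj_phi (F.comm_mem hw hb) ha]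

/-- bilinearity in the first variable -/
theorem comm_mul_left {a b w : T} (ha : a ∈ W) (hb : b ∈ W) (hw : w ∈ W) :
    ⁅a * b, w⁆ = ⁅a, w⁆ * ⁅b, w⁆ := by
  rw [comm_mul_left_gen, F.conj_phi (F.comm_mem hb hw) ha,
    F.phi_comm (F.comm_mem hb hw) (F.comm_mem ha hw)]

/-- the commutator is symmetric on `W` -/
theorem comm_swap {a b : T} (ha : a ∈ W) (hb : b ∈ W) : ⁅a, b⁆ = ⁅b, a⁆ := by
  rw [← commutatorElement_inv, F.phi_inv (F.comm_mem hb ha)]

theorem comm_inv_right {w a : T} (hw : w ∈ W) (ha : a ∈ W) : ⁅w, a⁻¹⁆ = ⁅w, a⁆ := by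
  have h := F.comm_mul_right hw ha (W.inv_mem ha)
  rw [mul_inv_cancel, commutatorElement_one_right] at h
  -- 1 = ⁅w,a⁆ * ⁅w,a⁻¹⁆
  have h2 : ⁅w, a⁻¹⁆ = ⁅w, a⁆⁻¹ := (inv_eq_of_mul_eq_one_right h.symm).symm
  rw [h2, F.phi_inv (F.comm_mem hw ha)]

theorem comm_inv_left {w a : T} (ha : a ∈ W) (hw : w ∈ W) : ⁅a⁻¹, w⁆ = ⁅a, w⁆ := by
  rw [F.comm_swap (W.inv_mem ha) hw, F.comm_inv_right hw ha, F.comm_swap hw ha]

theorem comm_mul_phi_right {w a f : T} (hw : w ∈ W) (ha : a ∈ W) (hf : f ∈ Phi W) :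
    ⁅w, a * f⁆ = ⁅w, a⁆ := by
  rw [F.comm_mul_right hw ha (Phi_le W hf), F.comm_phi_right hw hf, mul_one]

theorem comm_phi_mul_right {w a f : T} (hw : w ∈ W) (ha : a ∈ W) (hf : f ∈ Phi W) :
    ⁅w, f * a⁆ = ⁅w, a⁆ := by
  rw [F.comm_mul_right hw (Phi_le W hf) ha, F.comm_phi_right hw hf, one_mul]

theorem comm_mul_phi_left {w a f : T} (ha : a ∈ W) (hf : f ∈ Phi W) (hw : w ∈ W) :
    ⁅a * f, w⁆ = ⁅a, w⁆ := by
  rw [F.comm_mul_left ha (Phi_le W hf) hw, F.comm_phi_left hf hw, mul_one]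

/-! ### the upper central series -/

theorem card_Phi_eq : Nat.card ↥(Phi W) = 8 := by
  rw [F.str.phi_eq]; exact F.str.card_ucs 3 (by norm_num)

theorem card_W : Nat.card ↥W = 2 ^ 11 := by
  have h := W.card_mul_index
  rw [F.str.index_W, F.str.card_T] at h
  omega

theorem Z2_le_Phi : Subgroup.upperCentralSeries T 2 ≤ Phi W := by
  rw [F.str.phi_eq]
  exact Subgroup.upperCentralSeries_mono T (by norm_num)

theorem Z1_le_Z2 : Subgroup.upperCentralSeries T 1 ≤ Subgroup.upperCentralSeries T 2 :=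
  have := F
  Subgroup.upperCentralSeries_mono T (by norm_num)

/-- `⁅Phi W, T⁆ ≤ Z_2(T)` -/
theorem comm_phi_T {f : T} (hf : f ∈ Phi W) (t : T) :
    ⁅f, t⁆ ∈ Subgroup.upperCentralSeries T 2 := by
  rw [F.str.phi_eq] at hf
  exact (Subgroup.mem_upperCentralSeries_succ_iff.mp hf) t

theorem comm_T_phi {f : T} (hf : f ∈ Phi W) (t : T) :
    ⁅t, f⁆ ∈ Subgroup.upperCentralSeries T 2 := by
  rw [← commutatorElement_inv]
  exact Subgroup.inv_mem _ (F.comm_phi_T hf t)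

/-- conjugation by `T` is trivial on `Phi W / Z_2(T)` -/
theorem conj_mem_Z2_iff (f t : T) :
    t * f * t⁻¹ ∈ Subgroup.upperCentralSeries T 2 ↔ f ∈ Subgroup.upperCentralSeries T 2 := by
  have hn : (Subgroup.upperCentralSeries T 2).Normal := inferInstance
  have := F
  constructor
  · intro h
    have := hn.conj_mem _ h t⁻¹
    simpa [mul_assoc] using this
  · intro h
    exact hn.conj_mem _ h t

/-- `⁅Z_2(T), T⁆ ≤ Z_1(T)` -/
theorem comm_Z2_T {y : T} (hy : y ∈ Subgroup.upperCentralSeries T 2) (t : T) :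
    ⁅y, t⁆ ∈ Subgroup.upperCentralSeries T 1 :=
  have := F
  (Subgroup.mem_upperCentralSeries_succ_iff.mp hy) t

/-- `Z_2(T)` has index two in `Phi W` -/
theorem relIndex_Z2_Phi : (Subgroup.upperCentralSeries T 2).relIndex (Phi W) = 2 := by
  have h := card_mul_relIndex F.Z2_le_Phi
  rw [F.card_Phi_eq, F.str.card_ucs 2 (by norm_num)] at h
  omega

end Full

end Cfsg.Agent.Lib.Helper3.Ru2
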