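import Mathlib
import Cfsg.Prelude.Def_Transfer
import Cfsg.Agent.Lib.Helper3.Ru2Defs
import Cfsg.Agent.Lib.Helper3.Ru2Comm

/-!
# S3174 / S3175 swarm, packages WC (`weakly_closed_of_unique`) and QUO (`quot_of_full`)
-/

set_option autoImplicit false

namespace Cfsg.Agent.Lib.Helper3.Ru2

open scoped commutatorElement

/-- WC (general): uniqueness up to isomorphism gives weak closure -/
theorem weakly_closed_of_unique {G : Type*} [Group G] (P : Subgroup G) (W : Subgroup ↥P)
    (huniq : ∀ W₁ : Subgroup ↥P, Nonempty (↥W ≃* ↥W₁) → W₁ = W) :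
    Cfsg.IsWeaklyClosed (W.map P.subtype) P := by
  refine ⟨Subgroup.map_subtype_le W, fun g hle => ?_⟩
  set c : G →* G := (MulAut.conj g).toMonoidHom with hc
  have hcinj : Function.Injective c := (MulAut.conj g).injective
  set W₁ : Subgroup ↥P := ((W.map P.subtype).map c).subgroupOf P with hW₁
  have e1 : ↥W ≃* ↥(W.map P.subtype) := W.equivMapOfInjective P.subtype P.subtype_injective
  have e2 : ↥(W.map P.subtype) ≃* ↥((W.map P.subtype).map c) :=
    (W.map P.subtype).equivMapOfInjective c hcinj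
  have e3 : ↥W₁ ≃* ↥((W.map P.subtype).map c) := Subgroup.subgroupOfEquivOfLe hle
  have h1 : W₁ = W := huniq W₁ ⟨(e1.trans e2).trans e3.symm⟩
  have h2 : W₁.map P.subtype = (W.map P.subtype).map c := by
    rw [hW₁, Subgroup.subgroupOf_map_subtype, inf_eq_left]
    exact hle
  rw [← h2, h1]

variable {T : Type*} [Group T] {W : Subgroup T}

/-- QUO: `W / W'` is elementary abelian of order `2 ^ 8` -/
theorem quot_of_full (F : Full W) (hder : commutator ↥W = frattini ↥W) :
    Nat.card (↥W ⧸ commutator ↥W) = 2 ^ 8 ∧ ∀ x : ↥W ⧸ commutator ↥W, x ^ 2 = 1 := by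
  have := F.hyp.finite
  have : Fact (Nat.Prime 2) := ⟨Nat.prime_two⟩
  constructor
  · have h1 := Subgroup.card_eq_card_quotient_mul_card_subgroup (commutator ↥W)
    have hc : Nat.card ↥(commutator ↥W) = 8 := by rw [hder, ← card_Phi W, F.card_Phi_eq]
    rw [F.card_W, hc] at h1
    omega
  · intro x
    obtain ⟨w, rfl⟩ := QuotientGroup.mk_surjective x
    rw [← QuotientGroup.mk_pow, QuotientGroup.eq_one_iff, hder]
    exact Cfsg.Agent.Lib.Lead.pow_mem_frattini_of_isPGroup (F.hyp.pgroup.to_subgroup W) w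

end Cfsg.Agent.Lib.Helper3.Ru2
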