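import Mathlib
import Cfsg.Agent.Lib.Helper3.Ru2Defs
import Cfsg.Agent.Lib.Helper3.Ru2Comm

/-!
# S3174 / S3175 swarm, package STEPB (`delta_diag`)

If `Z_4(T)` is central in `W`, then for the central involution `z` of `T / W` the form
`delta(v, v') = beta_0(v, (1 + z) v')` vanishes on all pairs `(v, q v)`, `q ∈ T / W`.
-/

set_option autoImplicit false

namespace Cfsg.Agent.Lib.Helper3.Ru2

open scoped commutatorElement
open DihedralGroup

/-! ### facts on the dihedral group of order eight -/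

theorem sb_d4_central : ∀ x : DihedralGroup 4, x * r 2 = r 2 * x := by decide
theorem sb_d4_r2_ne : (r 2 : DihedralGroup 4) ≠ 1 := by decide
theorem sb_d4_r2_sq : (r 2 : DihedralGroup 4) * r 2 = 1 := by decide
theorem sb_d4_sq : ∀ x : DihedralGroup 4, x * x ≠ 1 → r 2 * x = x⁻¹ := by decide
theorem sb_d4_r1 : (r 1 : DihedralGroup 4) * r 1 = r 2 := by decide
theorem sb_d4_center : ∀ x : DihedralGroup 4, (∀ y, y * x = x * y) → x = 1 ∨ x = r 2 := by decide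
theorem sb_d4_refl : ∀ g : DihedralGroup 4, g * g = 1 → g ≠ 1 → g ≠ r 2 →
    ((g * r 1) * g⁻¹) * ((g * r 1) * g⁻¹) ≠ 1 := by decide
theorem sb_d4_B : ∀ g x : DihedralGroup 4, g * g = 1 → g ≠ 1 → g ≠ r 2 → x * x = 1 →
    (x * (g * r 1)⁻¹) * (x * (g * r 1)⁻¹) = 1 →
    (x = 1 ∨ x = r 2) ∨ (x * (g * r 1)⁻¹ = 1 ∨ x * (g * r 1)⁻¹ = r 2) := by decide

variable {T : Type*} [Group T] {W : Subgroup T}

/-! ### the step lemma -/

/-- if `u` is fixed by `S` modulo `Phi W`, `t` normalises `S`, `t² ∈ S` and `S' ⊆ S ∪ S t`, then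
`⁅u, t⁆` is fixed by `S'` modulo `Phi W` -/
theorem sb_step [Finite T] (hT : IsPGroup 2 T) (hW : W.Normal) {S S' : Subgroup T} (t : T)
    (hconj : ∀ s ∈ S, t⁻¹ * s * t ∈ S) (ht2 : t * t ∈ S)
    (hS' : ∀ s' ∈ S', s' ∈ S ∨ ∃ s ∈ S, s' = s * t) {u : T} (hu : u ∈ fixMod W S) :
    ⁅u, t⁆ ∈ fixMod W S' := by
  have hPn : (Phi W).Normal := Phi_normal W
  have huW : u ∈ W := hu.1
  -- the conjugate `v = t u t⁻¹` is again fixed by `S`
  have hv : t * u * t⁻¹ ∈ fixMod W S := by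
    refine ⟨hW.conj_mem u huW t, fun s hs => ?_⟩
    have e : ⁅t * u * t⁻¹, s⁆ = t * ⁅u, t⁻¹ * s * t⁆ * t⁻¹ := by
      simp only [commutatorElement_def]; group
    rw [e]
    exact hPn.conj_mem _ (hu.2 _ (hconj s hs)) t
  have hc : ⁅u, t⁆ ∈ fixMod W S := by
    rw [comm_eq_mul_conj_inv]
    exact (fixMod W S).mul_mem hu ((fixMod W S).inv_mem hv)
  have haW : u * (t * u * t⁻¹)⁻¹ ∈ W := W.mul_mem huW (W.inv_mem hv.1)
  -- the double commutator
  have hct : ⁅⁅u, t⁆, t⁆ ∈ Phi W := by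
    have e : ⁅⁅u, t⁆, t⁆ = (u * (t * u * t⁻¹)⁻¹) ^ 2 *
        ((u * (t * u * t⁻¹)⁻¹)⁻¹ * ⁅u, t * t⁆⁻¹ * (u * (t * u * t⁻¹)⁻¹)⁻¹⁻¹) := by
      simp only [commutatorElement_def, pow_two]; group
    rw [e]
    exact (Phi W).mul_mem (sq_mem_Phi hT W haW)
      (Phi_conj_mem W ((Phi W).inv_mem (hu.2 _ ht2)) (W.inv_mem haW))
  refine ⟨hc.1, fun s' hs' => ?_⟩
  rcases hS' s' hs' with hs | ⟨s, hs, rfl⟩
  · exact hc.2 s' hs
  · rw [comm_mul_right_gen]
    exact (Phi W).mul_mem (hc.2 s hs) (hPn.conj_mem _ hct s)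

/-! ### the centraliser `B` of `Z_2(T)` -/

/-- `B := C_T(Z_2(T))` -/
def sbB (T : Type*) [Group T] : Subgroup T :=
  Subgroup.centralizer ((Subgroup.upperCentralSeries T 2 : Subgroup T) : Set T)

theorem sb_mem_B {t : T} : t ∈ sbB T ↔ ∀ y ∈ Subgroup.upperCentralSeries T 2, y * t = t * y :=
  Subgroup.mem_centralizer_iff

theorem sb_B_normal : (sbB T).Normal := by
  unfold sbB
  infer_instance

theorem sb_W_le_B (F : Full W) : W ≤ sbB T := by
  intro w hw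
  rw [sb_mem_B]
  intro y hy
  rw [F.hyp.hW, Subgroup.mem_centralizer_iff] at hw
  exact hw y (Subgroup.upperCentralSeries_mono T (by norm_num) hy)

/-- elements of `Z_1(T)` are central -/
theorem sb_Z1_comm {c : T} (hc : c ∈ Subgroup.upperCentralSeries T 1) (t : T) : t * c = c * t := by
  rw [Subgroup.upperCentralSeries_one] at hc
  exact Subgroup.mem_center_iff.mp hc t

/-- squares lie in `B` -/
theorem sb_sq_mem_B (F : Full W) (t : T) : t * t ∈ sbB T := by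
  rw [sb_mem_B]
  intro y hy
  have hc1 : ⁅t, y⁆ ∈ Subgroup.upperCentralSeries T 1 := by
    rw [← commutatorElement_inv]
    exact Subgroup.inv_mem _ (F.comm_Z2_T hy t)
  have hcΦ : ⁅t, y⁆ ∈ Phi W := F.Z2_le_Phi (F.Z1_le_Z2 hc1)
  have hsq := F.phi_mul_self hcΦ
  have hcomm := sb_Z1_comm hc1 t
  -- `t y t⁻¹ = c y`
  have e1 : t * y = ⁅t, y⁆ * y * t := by simp only [commutatorElement_def]; group
  calc y * (t * t) = (⁅t, y⁆ * ⁅t, y⁆) * y * (t * t) := by rw [hsq, one_mul]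
    _ = ⁅t, y⁆ * (⁅t, y⁆ * y * t) * t := by group
    _ = ⁅t, y⁆ * (t * y) * t := by rw [← e1]
    _ = (⁅t, y⁆ * t) * y * t := by group
    _ = (t * ⁅t, y⁆) * y * t := by rw [hcomm]
    _ = t * (⁅t, y⁆ * y * t) := by group
    _ = t * (t * y) := by rw [← e1]
    _ = t * t * y := by group

/-- squares of elements of `B` lie in `W` -/
theorem sb_sq_mem_W (F : Full W) {t : T} (ht : t ∈ sbB T) : t * t ∈ W := by
  rw [F.hyp.hW, Subgroup.mem_centralizer_iff]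
  intro z hz
  rw [SetLike.mem_coe, ← F.str.phi_eq] at hz
  have hd2 : ⁅t, z⁆ ∈ Subgroup.upperCentralSeries T 2 := F.comm_T_phi hz t
  have hsq := F.phi_mul_self (F.Z2_le_Phi hd2)
  have hcomm : ⁅t, z⁆ * t = t * ⁅t, z⁆ := (sb_mem_B.mp ht) _ hd2
  have e1 : t * z = ⁅t, z⁆ * z * t := by simp only [commutatorElement_def]; group
  calc z * (t * t) = (⁅t, z⁆ * ⁅t, z⁆) * z * (t * t) := by rw [hsq, one_mul]
    _ = ⁅t, z⁆ * (⁅t, z⁆ * z * t) * t := by group
    _ = ⁅t, z⁆ * (t * z) * t := by rw [← e1]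
    _ = (⁅t, z⁆ * t) * z * t := by group
    _ = (t * ⁅t, z⁆) * z * t := by rw [hcomm]
    _ = t * (⁅t, z⁆ * z * t) := by group
    _ = t * (t * z) := by rw [← e1]
    _ = t * t * z := by group

/-- `B` has index at most two: two elements outside `B` differ by an element of `B` -/
theorem sb_mul_inv_mem_B (F : Full W) {s t : T} (hs : s ∉ sbB T) (ht : t ∉ sbB T) :
    s * t⁻¹ ∈ sbB T := by
  have hc1 : Nat.card ↥(Subgroup.upperCentralSeries T 1) = 2 := by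
    have := F.str.card_ucs 1 (by norm_num); simpa using this
  have hc2 : Nat.card ↥(Subgroup.upperCentralSeries T 2) = 4 := by
    have := F.str.card_ucs 2 (by norm_num); simpa using this
  have hrel : (Subgroup.upperCentralSeries T 1).relIndex (Subgroup.upperCentralSeries T 2) = 2 := by
    have h := card_mul_relIndex F.Z1_le_Z2
    rw [hc1, hc2] at h
    omega
  obtain ⟨y, hy, hxor⟩ := Subgroup.relIndex_eq_two_iff.mp hrel
  -- the two elements of `Z_1`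
  obtain ⟨z₁, hz₁, huniq⟩ := (Nat.card_eq_two_iff' (1 : ↥(Subgroup.upperCentralSeries T 1))).mp hc1
  have hZ1 : ∀ c ∈ Subgroup.upperCentralSeries T 1, c ≠ 1 → c = (z₁ : T) := by
    intro c hc hne
    have := huniq ⟨c, hc⟩ (fun h => hne (congrArg Subtype.val h))
    exact congrArg Subtype.val this
  -- membership in `B` is tested on `y`
  have hB : ∀ x : T, y * x = x * y → x ∈ sbB T := by
    intro x hx
    rw [sb_mem_B]
    intro b hb
    rcases hxor b hb with ⟨h1, -⟩ | ⟨h1, -⟩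
    · -- `b * y ∈ Z_1`
      have hcomm := sb_Z1_comm h1 x
      calc b * x = (b * y) * y⁻¹ * x := by group
        _ = (b * y) * (x * y⁻¹) := by
          have : y⁻¹ * x = x * y⁻¹ := by
            calc y⁻¹ * x = y⁻¹ * (x * y) * y⁻¹ := by group
              _ = y⁻¹ * (y * x) * y⁻¹ := by rw [hx]
              _ = x * y⁻¹ := by group
          rw [mul_assoc, this]
        _ = (b * y) * x * y⁻¹ := by group
        _ = x * (b * y) * y⁻¹ := by rw [hcomm]
        _ = x * b := by group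
    · exact (sb_Z1_comm h1 x).symm
  have hcomm_ne : ∀ x : T, x ∉ sbB T → ⁅x, y⁆ = (z₁ : T) := by
    intro x hx
    apply hZ1
    · rw [← commutatorElement_inv]
      exact Subgroup.inv_mem _ (F.comm_Z2_T hy x)
    · intro h1
      apply hx
      apply hB
      rw [commutatorElement_eq_one_iff_mul_comm] at h1
      exact h1.symm
  have e1 := hcomm_ne s hs
  have e2 := hcomm_ne t ht
  have e3 : ⁅s, y⁆ = ⁅t, y⁆ := by rw [e1, e2]
  have h4 : y * (t⁻¹ * s) = (t⁻¹ * s) * y := by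
    simp only [commutatorElement_def] at e3
    have e4 : s * y * s⁻¹ = t * y * t⁻¹ := by
      calc s * y * s⁻¹ = (s * y * s⁻¹ * y⁻¹) * y := by group
        _ = (t * y * t⁻¹ * y⁻¹) * y := by rw [e3]
        _ = t * y * t⁻¹ := by group
    calc y * (t⁻¹ * s) = t⁻¹ * (t * y * t⁻¹) * s := by group
      _ = t⁻¹ * (s * y * s⁻¹) * s := by rw [e4]
      _ = t⁻¹ * s * y := by group
  have h5 : t⁻¹ * s ∈ sbB T := hB _ h4
  have h6 := sb_B_normal.conj_mem _ h5 t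
  have e5 : t * (t⁻¹ * s) * t⁻¹ = s * t⁻¹ := by group
  rwa [e5] at h6

/-! ### the function `c_w(t) = ⁅w, t w t⁻¹⁆` -/

/-- (★): for `t ∈ B` the commutator `⁅w, t w t⁻¹⁆` lies in `Z_2(T)` -/
theorem sb_star (F : Full W) {t : T} (ht : t ∈ sbB T) {w : T} (hw : w ∈ W) :
    ⁅w, t * w * t⁻¹⁆ ∈ Subgroup.upperCentralSeries T 2 := by
  have htw : t * w * t⁻¹ ∈ W := F.conj_mem_W hw t
  have hcΦ : ⁅w, t * w * t⁻¹⁆ ∈ Phi W := F.comm_mem hw htw
  have ht2 : t * t ∈ W := sb_sq_mem_W F ht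
  -- `t` commutes with `c`
  have hcomm : t * ⁅w, t * w * t⁻¹⁆ * t⁻¹ = ⁅w, t * w * t⁻¹⁆ := by
    rw [conj_comm_gen]
    have e1 : t * (t * w * t⁻¹) * t⁻¹ = ⁅t * t, w⁆ * w := by
      simp only [commutatorElement_def]; group
    rw [e1, F.comm_phi_mul_right htw hw (F.comm_mem ht2 hw), F.comm_swap htw hw]
  by_contra hc
  -- then `t` centralises `Phi W`, so `t ∈ W`
  have hrel := F.relIndex_Z2_Phi
  obtain ⟨a, ha, hxor⟩ := Subgroup.relIndex_eq_two_iff.mp hrel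
  have hca : ⁅w, t * w * t⁻¹⁆ * a ∈ Subgroup.upperCentralSeries T 2 := by
    rcases hxor _ hcΦ with ⟨h1, -⟩ | ⟨h1, -⟩
    · exact h1
    · exact absurd h1 hc
  have htc : ⁅w, t * w * t⁻¹⁆ * t = t * ⁅w, t * w * t⁻¹⁆ := by
    calc ⁅w, t * w * t⁻¹⁆ * t = (t * ⁅w, t * w * t⁻¹⁆ * t⁻¹) * t := by rw [hcomm]
      _ = t * ⁅w, t * w * t⁻¹⁆ := by group
  have hta : a * t = t * a := by
    have h1 := (sb_mem_B.mp ht) _ hca
    -- (c a) t = t (c a), c t = t c
    calc a * t = ⁅w, t * w * t⁻¹⁆⁻¹ * ((⁅w, t * w * t⁻¹⁆ * a) * t) := by group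
      _ = ⁅w, t * w * t⁻¹⁆⁻¹ * (t * (⁅w, t * w * t⁻¹⁆ * a)) := by rw [h1]
      _ = ⁅w, t * w * t⁻¹⁆⁻¹ * (t * ⁅w, t * w * t⁻¹⁆) * a := by group
      _ = ⁅w, t * w * t⁻¹⁆⁻¹ * (⁅w, t * w * t⁻¹⁆ * t) * a := by rw [htc]
      _ = t * a := by group
  have htW : t ∈ W := by
    rw [F.hyp.hW, Subgroup.mem_centralizer_iff]
    intro f hf
    rw [SetLike.mem_coe, ← F.str.phi_eq] at hf
    rcases hxor f hf with ⟨h1, -⟩ | ⟨h1, -⟩
    · -- `f * a ∈ Z_2`
      have h2 := (sb_mem_B.mp ht) _ h1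
      calc f * t = (f * a) * (a⁻¹ * t) := by group
        _ = (f * a) * (t * a⁻¹) := by
          have : a⁻¹ * t = t * a⁻¹ := by
            calc a⁻¹ * t = a⁻¹ * (t * a) * a⁻¹ := by group
              _ = a⁻¹ * (a * t) * a⁻¹ := by rw [hta]
              _ = t * a⁻¹ := by group
          rw [this]
        _ = ((f * a) * t) * a⁻¹ := by group
        _ = (t * (f * a)) * a⁻¹ := by rw [h2]
        _ = t * f := by group
    · exact (sb_mem_B.mp ht) _ h1
  apply hc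
  have e2 : t * w * t⁻¹ = ⁅t, w⁆ * w := by simp only [commutatorElement_def]; group
  rw [e2, F.comm_phi_mul_right hw hw (F.comm_mem htW hw), commutatorElement_self]
  exact Subgroup.one_mem _

/-- `c_w` is constant on the cosets of `W` -/
theorem sb_c_coset (F : Full W) {w : T} (hw : w ∈ W) {t t' : T} (h : t⁻¹ * t' ∈ W) :
    ⁅w, t' * w * t'⁻¹⁆ = ⁅w, t * w * t⁻¹⁆ := by
  have e1 : t' * w * t'⁻¹ = (t * ⁅t⁻¹ * t', w⁆ * t⁻¹) * (t * w * t⁻¹) := by
    simp only [commutatorElement_def]; group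
  rw [e1, F.comm_phi_mul_right hw (F.conj_mem_W hw t) (F.conj_mem_Phi (F.comm_mem h hw) t)]

/-- `c_w(t⁻¹) ≡ c_w(t)` modulo `Z_2(T)` -/
theorem sb_c_inv (F : Full W) {w : T} (hw : w ∈ W) (t : T) :
    ⁅w, t⁻¹ * w * t⁆ * ⁅w, t * w * t⁻¹⁆ ∈ Subgroup.upperCentralSeries T 2 := by
  have htw : t * w * t⁻¹ ∈ W := F.conj_mem_W hw t
  have hcΦ : ⁅w, t * w * t⁻¹⁆ ∈ Phi W := F.comm_mem hw htw
  have e1 : ⁅w, t⁻¹ * w * t⁆ = t⁻¹ * ⁅t * w * t⁻¹, w⁆ * t⁻¹⁻¹ := by
    simp only [commutatorElement_def]; group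
  rw [e1, F.comm_swap htw hw]
  have e2 : t⁻¹ * ⁅w, t * w * t⁻¹⁆ * t⁻¹⁻¹ * ⁅w, t * w * t⁻¹⁆ =
      ⁅t⁻¹, ⁅w, t * w * t⁻¹⁆⁆ * (⁅w, t * w * t⁻¹⁆ * ⁅w, t * w * t⁻¹⁆) := by
    rw [commutatorElement_def t⁻¹]; group
  rw [e2, F.phi_mul_self hcΦ, mul_one]
  exact F.comm_T_phi hcΦ t⁻¹

/-- expansion of `⁅w, s ⁅u, x⁆ s⁻¹⁆` -/
theorem sb_expand (F : Full W) {w u : T} (hw : w ∈ W) (hu : u ∈ W) (s x : T) :
    ⁅w, s * ⁅u, x⁆ * s⁻¹⁆ = ⁅w, s * u * s⁻¹⁆ * ⁅w, (s * x) * u * (s * x)⁻¹⁆ := by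
  have e1 : s * ⁅u, x⁆ * s⁻¹ = (s * u * s⁻¹) * ((s * x) * u * (s * x)⁻¹)⁻¹ := by
    simp only [commutatorElement_def]; group
  have h1 : s * u * s⁻¹ ∈ W := F.conj_mem_W hu s
  have h2 : (s * x) * u * (s * x)⁻¹ ∈ W := F.conj_mem_W hu (s * x)
  rw [e1, F.comm_mul_right hw h1 (W.inv_mem h2), F.comm_inv_right hw h2]

/-- the value of `delta` in terms of `c_w` -/
theorem sb_target (F : Full W) {w : T} (hw : w ∈ W) (tz t : T) :
    ⁅w, ⁅tz, t * w * t⁻¹⁆⁆ = ⁅w, (tz * t) * w * (tz * t)⁻¹⁆ * ⁅w, t * w * t⁻¹⁆ := by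
  have h1 : t * w * t⁻¹ ∈ W := F.conj_mem_W hw t
  have h2 : (tz * t) * w * (tz * t)⁻¹ ∈ W := F.conj_mem_W hw (tz * t)
  have e1 : ⁅tz, t * w * t⁻¹⁆ = ((tz * t) * w * (tz * t)⁻¹) * (t * w * t⁻¹)⁻¹ := by
    simp only [commutatorElement_def]; group
  rw [e1, F.comm_mul_right hw h2 (W.inv_mem h1), F.comm_inv_right hw h1]

/-! ### the main statement -/

/-- STEPB: if `Z_4(T)` is central in `W`, the form `delta` vanishes on the pairs `(v, q v)` -/
theorem delta_diag (F : Full W) (hW : W.Normal) (hQ : Nonempty (T ⧸ W ≃* DihedralGroup 4))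
    (hZ : ∀ x ∈ Subgroup.upperCentralSeries T 4, ∀ w ∈ W, x * w = w * x) :
    ∃ tz : T, tz ∉ W ∧ tz * tz ∈ W ∧ (∀ t : T, ⁅t, tz⁆ ∈ W) ∧
      ∀ w ∈ W, ∀ t : T, ⁅w, ⁅tz, t * w * t⁻¹⁆⁆ ∈ Subgroup.upperCentralSeries T 2 := by
  have := F.hyp.finite
  have hT := F.hyp.pgroup
  obtain ⟨φ⟩ := hQ
  set q : T →* DihedralGroup 4 := φ.toMonoidHom.comp (QuotientGroup.mk' W) with hq
  have hqW : ∀ t : T, q t = 1 ↔ t ∈ W := by
    intro t
    rw [hq, MonoidHom.comp_apply, MulEquiv.coe_toMonoidHom, MulEquiv.map_eq_one_iff,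
      QuotientGroup.mk'_apply, QuotientGroup.eq_one_iff]
  have hqs : Function.Surjective q := φ.surjective.comp (QuotientGroup.mk'_surjective W)
  have hqeq : ∀ t t' : T, q t = q t' → t⁻¹ * t' ∈ W := by
    intro t t' h
    rw [← hqW, map_mul, map_inv, h, inv_mul_cancel]
  obtain ⟨tz, htz⟩ := hqs (r 2)
  obtain ⟨t₁, ht₁⟩ := hqs (r 1)
  have htzW : tz ∉ W := by rw [← hqW, htz]; exact sb_d4_r2_ne
  have htz2 : tz * tz ∈ W := by rw [← hqW, map_mul, htz]; exact sb_d4_r2_sq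
  have htzc : ∀ t : T, ⁅t, tz⁆ ∈ W := by
    intro t
    rw [← hqW, map_commutatorElement, htz, commutatorElement_eq_one_iff_mul_comm]
    exact sb_d4_central (q t)
  have hWB := sb_W_le_B F
  have hBn : (sbB T).Normal := sb_B_normal
  have htzB : tz ∈ sbB T := by
    have h1 := sb_sq_mem_B F t₁
    have h2 : (t₁ * t₁)⁻¹ * tz ∈ W := hqeq _ _ (by rw [map_mul, ht₁, htz]; exact sb_d4_r1)
    have h3 := (sbB T).mul_mem h1 (hWB h2)
    have e : t₁ * t₁ * ((t₁ * t₁)⁻¹ * tz) = tz := by group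
    rwa [e] at h3
  refine ⟨tz, htzW, htz2, htzc, ?_⟩
  intro w hw t
  rw [sb_target F hw]
  by_cases ht2 : t * t ∈ W
  · by_cases htB : t ∈ sbB T
    · -- `t ∈ B`
      exact Subgroup.mul_mem _ (sb_star F ((sbB T).mul_mem htzB htB) hw) (sb_star F htB hw)
    · -- `t ∉ B`, `t² ∈ W`: the norm argument
      have hg2 : q t * q t = 1 := by rw [← map_mul]; exact (hqW _).mpr ht2
      have hg1 : q t ≠ 1 := fun h => htB (hWB ((hqW t).mp h))
      have hgr : q t ≠ r 2 := by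
        intro h
        have h1 : tz⁻¹ * t ∈ W := hqeq _ _ (by rw [htz, h])
        have h3 := (sbB T).mul_mem htzB (hWB h1)
        have e : tz * (tz⁻¹ * t) = t := by group
        rw [e] at h3
        exact htB h3
      obtain ⟨tb, htb⟩ := hqs (q t * r 1)
      have htbB : tb ∈ sbB T := by
        by_contra h
        have h1 := sb_sq_mem_W F (sb_mul_inv_mem_B F h htB)
        rw [← hqW] at h1
        simp only [map_mul, map_inv, htb] at h1
        exact sb_d4_refl (q t) hg2 hg1 hgr h1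
      have htb2 : tb * tb ∈ W := sb_sq_mem_W F htbB
      -- the chain `W ≤ S₁ ≤ B ≤ ⊤`
      set S₁ : Subgroup T := (Subgroup.center (DihedralGroup 4)).comap q with hS₁
      have hS₁n : S₁.Normal := (inferInstance : (Subgroup.center (DihedralGroup 4)).Normal).comap q
      have hmemS₁ : ∀ s : T, s ∈ S₁ ↔ (q s = 1 ∨ q s = r 2) := by
        intro s
        rw [hS₁, Subgroup.mem_comap, Subgroup.mem_center_iff]
        constructor
        · exact sb_d4_center (q s)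
        · rintro (h | h) y
          · rw [h, mul_one, one_mul]
          · rw [h]; exact sb_d4_central y
      have hWS₁ : W ≤ S₁ := fun s hs => (hmemS₁ s).mpr (Or.inl ((hqW s).mpr hs))
      have hS₁elt : ∀ s ∈ S₁, s ∈ W ∨ ∃ s₀ ∈ W, s = s₀ * tz := by
        intro s hs
        rcases (hmemS₁ s).mp hs with h | h
        · exact Or.inl ((hqW s).mp h)
        · refine Or.inr ⟨s * tz⁻¹, ?_, by group⟩
          rw [← hqW, map_mul, map_inv, h, htz, mul_inv_cancel]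
      have hBelt : ∀ s' ∈ sbB T, s' ∈ S₁ ∨ ∃ s ∈ S₁, s' = s * tb := by
        intro s' hs'
        have hx2 : q s' * q s' = 1 := by rw [← map_mul]; exact (hqW _).mpr (sb_sq_mem_W F hs')
        have hx3 : (q s' * (q t * r 1)⁻¹) * (q s' * (q t * r 1)⁻¹) = 1 := by
          have h1 := sb_sq_mem_W F ((sbB T).mul_mem hs' ((sbB T).inv_mem htbB))
          rw [← hqW] at h1
          simpa only [map_mul, map_inv, htb] using h1
        rcases sb_d4_B (q t) (q s') hg2 hg1 hgr hx2 hx3 with h | h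
        · exact Or.inl ((hmemS₁ s').mpr h)
        · refine Or.inr ⟨s' * tb⁻¹, (hmemS₁ _).mpr ?_, by group⟩
          rw [map_mul, map_inv, htb]
          exact h
      have hTelt : ∀ s' ∈ (⊤ : Subgroup T), s' ∈ sbB T ∨ ∃ s ∈ sbB T, s' = s * t := by
        intro s' _
        by_cases h : s' ∈ sbB T
        · exact Or.inl h
        · exact Or.inr ⟨s' * t⁻¹, sb_mul_inv_mem_B F h htB, by group⟩
      have hw' : w ∈ fixMod W W := by rw [fixMod_self hT W]; exact hw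
      have hu₁ : ⁅w, tz⁆ ∈ fixMod W S₁ :=
        sb_step hT hW tz (fun s hs => by simpa using hW.conj_mem s hs tz⁻¹) htz2 hS₁elt hw'
      have hu₂ : ⁅⁅w, tz⁆, tb⁆ ∈ fixMod W (sbB T) :=
        sb_step hT hW tb (fun s hs => by simpa using hS₁n.conj_mem s hs tb⁻¹) (hWS₁ htb2) hBelt hu₁
      have hn : ⁅⁅⁅w, tz⁆, tb⁆, t⁆ ∈ fixMod W ⊤ :=
        sb_step hT hW t (fun s hs => by simpa using hBn.conj_mem s hs t⁻¹) (sb_sq_mem_B F t)
          hTelt hu₂
      have hnZ4 : ⁅⁅⁅w, tz⁆, tb⁆, t⁆ ∈ Subgroup.upperCentralSeries T 4 := by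
        rw [← F.str.fix_top]; exact hn
      have hone : ⁅w, ⁅⁅⁅w, tz⁆, tb⁆, t⁆⁆ = 1 :=
        commutatorElement_eq_one_iff_mul_comm.mpr (hZ _ hnZ4 w hw).symm
      -- expand
      have hu₁W : ⁅w, tz⁆ ∈ W := hu₁.1
      have hu₂W : ⁅⁅w, tz⁆, tb⁆ ∈ W := hu₂.1
      have e3 := sb_expand F hw hu₂W 1 t
      have e2a := sb_expand F hw hu₁W 1 tb
      have e2b := sb_expand F hw hu₁W t tb
      have e1a := sb_expand F hw hw 1 tz
      have e1b := sb_expand F hw hw (1 * tb) tz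
      have e1c := sb_expand F hw hw t tz
      have e1d := sb_expand F hw hw (t * tb) tz
      simp only [one_mul, inv_one, mul_one] at e3 e2a e1a e1b
      rw [e2a, e2b, e1a, e1b, e1c, e1d, commutatorElement_self, one_mul] at e3
      rw [hone] at e3
      -- memberships
      have m1 := sb_star F htzB hw
      have m2 := sb_star F htbB hw
      have m3 := sb_star F ((sbB T).mul_mem htbB htzB) hw
      have hx : q (t * tb) * q (t * tb) ≠ 1 := by
        have e : q (t * tb) = r 1 := by rw [map_mul, htb, ← mul_assoc, hg2, one_mul]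
        rw [e, sb_d4_r1]; exact sb_d4_r2_ne
      have h5 : ((t * tb)⁻¹)⁻¹ * (t * tb * tz) ∈ W := hqeq _ _ (by
        rw [map_inv, map_mul _ (t * tb) tz, htz, sb_d4_central]
        exact (sb_d4_sq _ hx).symm)
      have m4 : ⁅w, t * tb * w * (t * tb)⁻¹⁆ * ⁅w, t * tb * tz * w * (t * tb * tz)⁻¹⁆ ∈
          Subgroup.upperCentralSeries T 2 := by
        rw [sb_c_coset F hw h5, inv_inv]
        rw [F.phi_comm (F.comm_mem hw (F.conj_mem_W hw _))
          (F.comm_mem hw (by simpa using F.conj_mem_W hw (t * tb)⁻¹))]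
        exact sb_c_inv F hw (t * tb)
      have h6 : (t * tz)⁻¹ * (tz * t) ∈ W := hqeq _ _ (by
        rw [map_mul, map_mul, htz]; exact sb_d4_central (q t))
      rw [sb_c_coset F hw h6, F.phi_comm (F.comm_mem hw (F.conj_mem_W hw _))
        (F.comm_mem hw (F.conj_mem_W hw _))]
      -- e3 : 1 = A * (X * D)
      set A := ⁅w, tz * w * tz⁻¹⁆ * (⁅w, tb * w * tb⁻¹⁆ * ⁅w, tb * tz * w * (tb * tz)⁻¹⁆) with hA
      set X := ⁅w, t * w * t⁻¹⁆ * ⁅w, t * tz * w * (t * tz)⁻¹⁆ with hX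
      set D := ⁅w, t * tb * w * (t * tb)⁻¹⁆ * ⁅w, t * tb * tz * w * (t * tb * tz)⁻¹⁆ with hD
      have hAm : A ∈ Subgroup.upperCentralSeries T 2 :=
        Subgroup.mul_mem _ m1 (Subgroup.mul_mem _ m2 m3)
      have hXe : X = A⁻¹ * D⁻¹ := by
        have : A * (X * D) = 1 := e3.symm
        calc X = A⁻¹ * (A * (X * D)) * D⁻¹ := by group
          _ = A⁻¹ * D⁻¹ := by rw [this, mul_one]
      rw [hXe]
      exact Subgroup.mul_mem _ (Subgroup.inv_mem _ hAm) (Subgroup.inv_mem _ m4)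
  · -- `t² ∉ W`
    have hx : q t * q t ≠ 1 := by
      intro h; apply ht2; rw [← hqW, map_mul]; exact h
    have h1 := sb_d4_sq (q t) hx
    have h2 : (t⁻¹)⁻¹ * (tz * t) ∈ W := hqeq _ _ (by rw [map_mul, map_inv, htz]; exact h1.symm)
    rw [sb_c_coset F hw h2, inv_inv]
    exact sb_c_inv F hw t

end Cfsg.Agent.Lib.Helper3.Ru2
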