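import Mathlib
import Cfsg.Agent.Lib.Helper3.Ru2Defs
import Cfsg.Agent.Lib.Helper3.Ru2Comm

/-!
# S3174 / S3175 swarm, package STEPC (`delta_zero`)

The form `delta(w, w') = ⁅w, ⁅tz, w'⁆⁆` modulo `Z_2(T)` is bilinear and `T`-invariant; since it
vanishes on the pairs `(w₀, t w₀ t⁻¹)` and `W / Phi W` is generated by the conjugates of `w₀`, it
vanishes identically.
-/

set_option autoImplicit false

namespace Cfsg.Agent.Lib.Helper3.Ru2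

open scoped commutatorElement

variable {T : Type*} [Group T] {W : Subgroup T}

/-- `⁅tz, w'⁆ ∈ W` for `w' ∈ W` -/
theorem sc_comm_mem_W (F : Full W) (tz : T) {a : T} (ha : a ∈ W) : ⁅tz, a⁆ ∈ W := by
  rw [commutatorElement_def]
  exact W.mul_mem (F.conj_mem_W ha tz) (W.inv_mem ha)

/-- additivity of `delta` in the second variable -/
theorem sc_mul_right (F : Full W) (tz : T) {w a b : T} (hw : w ∈ W) (ha : a ∈ W) (hb : b ∈ W) :
    ⁅w, ⁅tz, a * b⁆⁆ = ⁅w, ⁅tz, a⁆⁆ * ⁅w, ⁅tz, b⁆⁆ := by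
  have hta := sc_comm_mem_W F tz ha
  have htb := sc_comm_mem_W F tz hb
  have e : ⁅tz, a * b⁆ = ⁅tz, a⁆ * (⁅a, ⁅tz, b⁆⁆ * ⁅tz, b⁆) := by
    simp only [commutatorElement_def]; group
  rw [e, F.comm_mul_right hw hta (W.mul_mem (Phi_le W (F.comm_mem ha htb)) htb),
    F.comm_phi_mul_right hw htb (F.comm_mem ha htb)]

/-- additivity of `delta` in the first variable -/
theorem sc_mul_left (F : Full W) (tz : T) {a b x : T} (ha : a ∈ W) (hb : b ∈ W) (hx : x ∈ W) :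
    ⁅a * b, ⁅tz, x⁆⁆ = ⁅a, ⁅tz, x⁆⁆ * ⁅b, ⁅tz, x⁆⁆ :=
  F.comm_mul_left ha hb (sc_comm_mem_W F tz hx)

/-- `T`-invariance of `delta` -/
theorem sc_conj (F : Full W) {tz : T} (htz : ∀ t : T, ⁅t, tz⁆ ∈ W) {w w' : T} (hw : w ∈ W)
    (hw' : w' ∈ W) (s : T) :
    ⁅s * w * s⁻¹, ⁅tz, s * w' * s⁻¹⁆⁆ = s * ⁅w, ⁅tz, w'⁆⁆ * s⁻¹ := by
  have hsw : s * w * s⁻¹ ∈ W := F.conj_mem_W hw s
  have hx : s * w' * s⁻¹ ∈ W := F.conj_mem_W hw' s
  have hu : ⁅s, tz⁆ ∈ W := htz s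
  have htx := sc_comm_mem_W F tz hx
  rw [conj_comm_gen, conj_comm_gen]
  -- `s tz s⁻¹ = u tz`
  have e1 : ⁅s * tz * s⁻¹, s * w' * s⁻¹⁆ =
      (⁅⁅s, tz⁆, ⁅tz, s * w' * s⁻¹⁆⁆ * ⁅tz, s * w' * s⁻¹⁆) * ⁅⁅s, tz⁆, s * w' * s⁻¹⁆ := by
    simp only [commutatorElement_def]; group
  rw [e1, F.comm_mul_phi_right hsw (W.mul_mem (Phi_le W (F.comm_mem hu htx)) htx)
    (F.comm_mem hu hx), F.comm_phi_mul_right hsw htx (F.comm_mem hu htx)]

/-- STEPC: by cyclicity, `delta` vanishes identically -/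
theorem delta_zero (F : Full W) {tz : T} (htz : ∀ t : T, ⁅t, tz⁆ ∈ W) {w₀ : T} (hw₀ : w₀ ∈ W)
    (hcyc : ∀ H : Subgroup T, Phi W ≤ H → (∀ t : T, t * w₀ * t⁻¹ ∈ H) → W ≤ H)
    (hB : ∀ t : T, ⁅w₀, ⁅tz, t * w₀ * t⁻¹⁆⁆ ∈ Subgroup.upperCentralSeries T 2) :
    ∀ w ∈ W, ∀ w' ∈ W, ⁅w, ⁅tz, w'⁆⁆ ∈ Subgroup.upperCentralSeries T 2 := by
  have hZn : (Subgroup.upperCentralSeries T 2).Normal := inferInstance
  -- step 1: the pairs of conjugates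
  have h1 : ∀ s t : T, ⁅s * w₀ * s⁻¹, ⁅tz, t * w₀ * t⁻¹⁆⁆ ∈ Subgroup.upperCentralSeries T 2 := by
    intro s t
    have h := hB (s⁻¹ * t)
    have e := sc_conj F htz hw₀ (F.conj_mem_W hw₀ (s⁻¹ * t)) s
    have e2 : s * (s⁻¹ * t * w₀ * (s⁻¹ * t)⁻¹) * s⁻¹ = t * w₀ * t⁻¹ := by group
    rw [e2] at e
    rw [e]
    exact hZn.conj_mem _ h s
  -- step 2: the second variable
  let H₁ : Subgroup T :=
    { carrier := {w' | w' ∈ W ∧ ∀ s : T, ⁅s * w₀ * s⁻¹, ⁅tz, w'⁆⁆ ∈ Subgroup.upperCentralSeries T 2}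
      one_mem' := by
        refine ⟨W.one_mem, fun s => ?_⟩
        rw [commutatorElement_one_right, commutatorElement_one_right]
        exact Subgroup.one_mem _
      mul_mem' := by
        rintro a b ⟨ha, ha'⟩ ⟨hb, hb'⟩
        refine ⟨W.mul_mem ha hb, fun s => ?_⟩
        rw [sc_mul_right F tz (F.conj_mem_W hw₀ s) ha hb]
        exact Subgroup.mul_mem _ (ha' s) (hb' s)
      inv_mem' := by
        rintro a ⟨ha, ha'⟩
        refine ⟨W.inv_mem ha, fun s => ?_⟩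
        have h := sc_mul_right F tz (F.conj_mem_W hw₀ s) ha (W.inv_mem ha)
        rw [mul_inv_cancel, commutatorElement_one_right, commutatorElement_one_right] at h
        have h2 : ⁅s * w₀ * s⁻¹, ⁅tz, a⁻¹⁆⁆ = ⁅s * w₀ * s⁻¹, ⁅tz, a⁆⁆⁻¹ :=
          (inv_eq_of_mul_eq_one_right h.symm).symm
        rw [h2]
        exact Subgroup.inv_mem _ (ha' s) }
  have hH₁Φ : Phi W ≤ H₁ := by
    intro f hf
    refine ⟨Phi_le W hf, fun s => ?_⟩
    rw [F.comm_phi_right (F.conj_mem_W hw₀ s) (F.Z2_le_Phi (F.comm_T_phi hf tz))]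
    exact Subgroup.one_mem _
  have hWH₁ : W ≤ H₁ := hcyc H₁ hH₁Φ (fun t => ⟨F.conj_mem_W hw₀ t, fun s => h1 s t⟩)
  -- step 3: the first variable
  let H₂ : Subgroup T :=
    { carrier := {w | w ∈ W ∧ ∀ w' ∈ W, ⁅w, ⁅tz, w'⁆⁆ ∈ Subgroup.upperCentralSeries T 2}
      one_mem' := by
        refine ⟨W.one_mem, fun w' _ => ?_⟩
        rw [commutatorElement_one_left]
        exact Subgroup.one_mem _
      mul_mem' := by
        rintro a b ⟨ha, ha'⟩ ⟨hb, hb'⟩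
        refine ⟨W.mul_mem ha hb, fun w' hw' => ?_⟩
        rw [sc_mul_left F tz ha hb hw']
        exact Subgroup.mul_mem _ (ha' w' hw') (hb' w' hw')
      inv_mem' := by
        rintro a ⟨ha, ha'⟩
        refine ⟨W.inv_mem ha, fun w' hw' => ?_⟩
        rw [F.comm_inv_left ha (sc_comm_mem_W F tz hw')]
        exact ha' w' hw' }
  have hH₂Φ : Phi W ≤ H₂ := by
    intro f hf
    refine ⟨Phi_le W hf, fun w' hw' => ?_⟩
    rw [F.comm_phi_left hf (sc_comm_mem_W F tz hw')]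
    exact Subgroup.one_mem _
  have hWH₂ : W ≤ H₂ :=
    hcyc H₂ hH₂Φ (fun s => ⟨F.conj_mem_W hw₀ s, fun w' hw' => (hWH₁ hw').2 s⟩)
  intro w hw w' hw'
  exact (hWH₂ hw).2 w' hw'

end Cfsg.Agent.Lib.Helper3.Ru2
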