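import Mathlib
import Cfsg.Agent.Lib.Helper3.Ru2Defs
import Cfsg.Agent.Lib.Helper3.Ru2Comm

/-!
# S3174 / S3175 swarm, package STEPDE (`false_of_delta_zero`)

If `delta = 0` then `R := {w ∈ W | ⁅w, W⁆ ≤ Z_2}` has index at most `16` in `W`, and a subgroup
`A ≥ R` with `A' ≤ Z_2` and `|W : A| ≤ 4` contradicts (U1).
-/

set_option autoImplicit false

namespace Cfsg.Agent.Lib.Helper3.Ru2

open scoped commutatorElement

variable {T : Type*} [Group T] {W : Subgroup T}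

/-- the elements of `W` which commute with all elements of `X ⊆ W` modulo `Z_2(T)` -/
def sdPerp (F : Full W) (X : Set T) (hX : X ⊆ (W : Set T)) : Subgroup T where
  carrier := {w | w ∈ W ∧ ∀ a ∈ X, ⁅w, a⁆ ∈ Subgroup.upperCentralSeries T 2}
  one_mem' := by
    refine ⟨W.one_mem, fun a _ => ?_⟩
    rw [commutatorElement_one_left]
    exact Subgroup.one_mem _
  mul_mem' := by
    rintro a b ⟨ha, ha'⟩ ⟨hb, hb'⟩
    refine ⟨W.mul_mem ha hb, fun x hx => ?_⟩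
    rw [F.comm_mul_left ha hb (hX hx)]
    exact Subgroup.mul_mem _ (ha' x hx) (hb' x hx)
  inv_mem' := by
    rintro a ⟨ha, ha'⟩
    refine ⟨W.inv_mem ha, fun x hx => ?_⟩
    rw [F.comm_inv_left ha (hX hx)]
    exact ha' x hx

theorem mem_sdPerp (F : Full W) (X : Set T) (hX : X ⊆ (W : Set T)) (w : T) :
    w ∈ sdPerp F X hX ↔ w ∈ W ∧ ∀ a ∈ X, ⁅w, a⁆ ∈ Subgroup.upperCentralSeries T 2 := Iff.rfl

theorem sdPerp_le (F : Full W) (X : Set T) (hX : X ⊆ (W : Set T)) : sdPerp F X hX ≤ W :=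
  fun _ h => h.1

theorem Phi_le_sdPerp (F : Full W) (X : Set T) (hX : X ⊆ (W : Set T)) : Phi W ≤ sdPerp F X hX := by
  intro f hf
  refine ⟨Phi_le W hf, fun a ha => ?_⟩
  rw [F.comm_phi_left hf (hX ha)]
  exact Subgroup.one_mem _

/-- extension of an isotropic subgroup by an element of its orthogonal -/
theorem sd_iso_sup (F : Full W) {A : Subgroup T} (hAW : A ≤ W)
    (hiso : ∀ a ∈ A, ∀ b ∈ A, ⁅a, b⁆ ∈ Subgroup.upperCentralSeries T 2) {x : T} (hx : x ∈ W)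
    (hxA : ∀ a ∈ A, ⁅x, a⁆ ∈ Subgroup.upperCentralSeries T 2) :
    A ⊔ Subgroup.zpowers x ≤ W ∧
      ∀ a ∈ A ⊔ Subgroup.zpowers x, ∀ b ∈ A ⊔ Subgroup.zpowers x,
        ⁅a, b⁆ ∈ Subgroup.upperCentralSeries T 2 := by
  have hA'W : A ⊔ Subgroup.zpowers x ≤ W := sup_le hAW ((Subgroup.zpowers_le).mpr hx)
  refine ⟨hA'W, ?_⟩
  have hX1 : ((A : Set T) ∪ {x}) ⊆ (W : Set T) := by
    rintro a (ha | ha)
    · exact hAW ha
    · rw [Set.mem_singleton_iff] at ha; rw [ha]; exact hx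
  have h1 : A ⊔ Subgroup.zpowers x ≤ sdPerp F ((A : Set T) ∪ {x}) hX1 := by
    apply sup_le
    · intro w hw
      refine ⟨hAW hw, ?_⟩
      rintro a (ha | ha)
      · exact hiso w hw a ha
      · rw [Set.mem_singleton_iff] at ha
        rw [ha, F.comm_swap (hAW hw) hx]
        exact hxA w hw
    · rw [Subgroup.zpowers_le]
      refine ⟨hx, ?_⟩
      rintro a (ha | ha)
      · exact hxA a ha
      · rw [Set.mem_singleton_iff] at ha
        rw [ha, commutatorElement_self]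
        exact Subgroup.one_mem _
  have h2 : A ⊔ Subgroup.zpowers x ≤ sdPerp F ((A ⊔ Subgroup.zpowers x : Subgroup T) : Set T) hA'W := by
    apply sup_le
    · intro w hw
      refine ⟨hAW hw, fun b hb => ?_⟩
      rw [F.comm_swap (hAW hw) (hA'W hb)]
      exact (h1 hb).2 w (Or.inl hw)
    · rw [Subgroup.zpowers_le]
      refine ⟨hx, fun b hb => ?_⟩
      rw [F.comm_swap hx (hA'W hb)]
      exact (h1 hb).2 x (Or.inr rfl)
  intro a ha b hb
  exact (h2 ha).2 b hb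

/-- a strictly larger subgroup has at least twice the order -/
theorem sd_card_lt [Finite T] {A A' : Subgroup T} (h : A ≤ A') (hne : ¬ A' ≤ A) :
    2 * Nat.card ↥A ≤ Nat.card ↥A' := by
  have h1 := card_mul_relIndex h
  have h2 : A.relIndex A' ≠ 1 := fun h3 => hne (Subgroup.relIndex_eq_one.mp h3)
  have h3 : A.relIndex A' ≠ 0 := by
    intro h0
    rw [h0, mul_zero] at h1
    exact Nat.card_pos.ne h1
  have h4 : 2 ≤ A.relIndex A' := by omega
  calc 2 * Nat.card ↥A = Nat.card ↥A * 2 := by ring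
    _ ≤ Nat.card ↥A * A.relIndex A' := Nat.mul_le_mul_left _ h4
    _ = Nat.card ↥A' := h1

/-- the orthogonal of a single element has index at most two -/
theorem sd_card_perp_singleton (F : Full W) {w₁ : T} (hw₁ : w₁ ∈ W) :
    Nat.card ↥W ≤ 2 * Nat.card ↥(sdPerp F {w₁} (Set.singleton_subset_iff.mpr hw₁)) := by
  have := F.hyp.finite
  set Z2 := Subgroup.upperCentralSeries T 2 with hZ2
  set C := sdPerp F {w₁} (Set.singleton_subset_iff.mpr hw₁) with hC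
  let χ : ↥W →* T ⧸ Z2 := MonoidHom.mk' (fun w => (QuotientGroup.mk ⁅(w : T), w₁⁆ : T ⧸ Z2))
    (by
      intro a b
      rw [Subgroup.coe_mul, F.comm_mul_left a.2 b.2 hw₁, QuotientGroup.mk_mul])
  have hker : χ.ker = C.subgroupOf W := by
    ext w
    rw [MonoidHom.mem_ker, Subgroup.mem_subgroupOf]
    change (QuotientGroup.mk ⁅(w : T), w₁⁆ : T ⧸ Z2) = 1 ↔ _
    rw [QuotientGroup.eq_one_iff, hC, mem_sdPerp]
    constructor
    · intro h
      refine ⟨w.2, fun a ha => ?_⟩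
      rw [Set.mem_singleton_iff] at ha
      rw [ha]; exact h
    · intro h
      exact h.2 w₁ rfl
  have hrange : χ.range ≤ (Phi W).map (QuotientGroup.mk' Z2) := by
    rintro _ ⟨w, rfl⟩
    exact ⟨⁅(w : T), w₁⁆, F.comm_mem w.2 hw₁, rfl⟩
  have hcr : Nat.card ↥((Phi W).map (QuotientGroup.mk' Z2)) = 2 := by
    rw [← Subgroup.relIndex_ker, QuotientGroup.ker_mk']
    exact F.relIndex_Z2_Phi
  have h1 := χ.ker.card_mul_index
  rw [Subgroup.index_ker, hker,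
    Nat.card_congr (Subgroup.subgroupOfEquivOfLe (sdPerp_le F _ _)).toEquiv] at h1
  have h2 : Nat.card ↥χ.range ≤ 2 := le_trans (Subgroup.card_le_of_le hrange) hcr.le
  calc Nat.card ↥W = Nat.card ↥C * Nat.card ↥χ.range := h1.symm
    _ ≤ Nat.card ↥C * 2 := Nat.mul_le_mul_left _ h2
    _ = 2 * Nat.card ↥C := by ring

/-- if `delta = 0` then `R` has order at least `2 ^ 7` -/
theorem sd_card_R (F : Full W) {tz : T} (htz : tz ∉ W)
    (hC : ∀ w ∈ W, ∀ w' ∈ W, ⁅w, ⁅tz, w'⁆⁆ ∈ Subgroup.upperCentralSeries T 2) :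
    2 ^ 7 ≤ Nat.card ↥(sdPerp F (W : Set T) subset_rfl) := by
  have := F.hyp.finite
  have hWn := F.str.normal
  have hPn : (Phi W).Normal := Phi_normal W
  set R := sdPerp F (W : Set T) subset_rfl with hR
  have htW : ∀ a ∈ W, ⁅tz, a⁆ ∈ W := by
    intro a ha
    rw [commutatorElement_def]
    exact W.mul_mem (F.conj_mem_W ha tz) (W.inv_mem ha)
  have htR : ∀ a ∈ W, ⁅tz, a⁆ ∈ R := by
    intro a ha
    refine ⟨htW a ha, fun b hb => ?_⟩
    rw [F.comm_swap (htW a ha) hb]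
    exact hC b hb a ha
  let Ψ : ↥W →* T ⧸ Phi W := MonoidHom.mk' (fun w => (QuotientGroup.mk ⁅tz, (w : T)⁆ : T ⧸ Phi W))
    (by
      intro a b
      have e : ⁅tz, (a : T) * b⁆ = ⁅tz, (a : T)⁆ * (⁅(a : T), ⁅tz, (b : T)⁆⁆ * ⁅tz, (b : T)⁆) := by
        simp only [commutatorElement_def]; group
      rw [Subgroup.coe_mul, e, QuotientGroup.mk_mul, QuotientGroup.mk_mul,
        (QuotientGroup.eq_one_iff _).mpr (F.comm_mem a.2 (htW b b.2)), one_mul])
  -- the kernel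
  let S : Subgroup T :=
    { carrier := {s | ∀ w' ∈ W, ⁅tz, w'⁆ ∈ Phi W → ⁅w', s⁆ ∈ Phi W}
      one_mem' := by
        intro w' _ _
        rw [commutatorElement_one_right]
        exact Subgroup.one_mem _
      mul_mem' := by
        intro a b ha hb w' hw' h
        rw [comm_mul_right_gen]
        exact (Phi W).mul_mem (ha w' hw' h) (hPn.conj_mem _ (hb w' hw' h) a)
      inv_mem' := by
        intro a ha w' hw' h
        have e : ⁅w', a⁻¹⁆ = a⁻¹ * ⁅w', a⁆⁻¹ * a⁻¹⁻¹ := by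
          simp only [commutatorElement_def]; group
        rw [e]
        exact hPn.conj_mem _ ((Phi W).inv_mem (ha w' hw' h)) a⁻¹ }
  have hWS : W ≤ S := fun s hs w' hw' _ => F.comm_mem hw' hs
  have htzS : tz ∈ S := by
    intro w' _ h
    rw [← commutatorElement_inv]
    exact (Phi W).inv_mem h
  have hSidx : S.index ≤ 4 := by
    have h1 := sd_card_lt hWS (fun h => htz (h htzS))
    have h2 := S.card_mul_index
    rw [F.str.card_T] at h2
    rw [F.card_W] at h1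
    by_contra hcon
    have h3 : 5 ≤ S.index := by omega
    have : 2 * 2 ^ 11 * 5 ≤ Nat.card ↥S * S.index := Nat.mul_le_mul h1 h3
    omega
  have hfix : Nat.card ↥(fixMod W S) ≤ 2 ^ 7 := by
    have h1 := F.fix S hWS
    have h2 : 2 ^ S.index ≤ 2 ^ 4 := Nat.pow_le_pow_right (by norm_num) hSidx
    omega
  have hker : Ψ.ker.map W.subtype ≤ fixMod W S := by
    rintro _ ⟨w, hw, rfl⟩
    rw [SetLike.mem_coe, MonoidHom.mem_ker] at hw
    change (QuotientGroup.mk ⁅tz, (w : T)⁆ : T ⧸ Phi W) = 1 at hw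
    rw [QuotientGroup.eq_one_iff] at hw
    exact ⟨w.2, fun s hs => hs w.1 w.2 hw⟩
  have hkercard : Nat.card ↥Ψ.ker ≤ 2 ^ 7 := by
    rw [Nat.card_congr (Ψ.ker.equivMapOfInjective W.subtype W.subtype_injective).toEquiv]
    exact le_trans (Subgroup.card_le_of_le hker) hfix
  have hrange : Ψ.range ≤ R.map (QuotientGroup.mk' (Phi W)) := by
    rintro _ ⟨w, rfl⟩
    exact ⟨⁅tz, (w : T)⁆, htR w.1 w.2, rfl⟩
  have hcr : Nat.card ↥(R.map (QuotientGroup.mk' (Phi W))) * 8 = Nat.card ↥R := by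
    rw [← Subgroup.relIndex_ker, QuotientGroup.ker_mk']
    have h := card_mul_relIndex (Phi_le_sdPerp F (W : Set T) subset_rfl)
    rw [F.card_Phi_eq] at h
    rw [← h]; ring
  have h1 := Ψ.ker.card_mul_index
  rw [Subgroup.index_ker, F.card_W] at h1
  have h2 : Nat.card ↥Ψ.range ≤ Nat.card ↥(R.map (QuotientGroup.mk' (Phi W))) :=
    Subgroup.card_le_of_le hrange
  -- 2^11 = |ker| * |range| ≤ 2^7 * |R| / 8
  by_contra hcon
  have h3 : Nat.card ↥R < 2 ^ 7 := by omega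
  have h4 : Nat.card ↥(R.map (QuotientGroup.mk' (Phi W))) < 2 ^ 4 := by omega
  have h5 : Nat.card ↥Ψ.range < 2 ^ 4 := lt_of_le_of_lt h2 h4
  have h6 : Nat.card ↥Ψ.ker * Nat.card ↥Ψ.range < 2 ^ 7 * 2 ^ 4 := by
    have hpos : 0 < Nat.card ↥Ψ.ker := Nat.card_pos
    calc Nat.card ↥Ψ.ker * Nat.card ↥Ψ.range < Nat.card ↥Ψ.ker * 2 ^ 4 :=
          Nat.mul_lt_mul_of_pos_left h5 hpos
      _ ≤ 2 ^ 7 * 2 ^ 4 := Nat.mul_le_mul_right _ hkercard
  omega

/-- STEPDE: `delta = 0` contradicts (U1) -/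
theorem false_of_delta_zero (F : Full W) {tz : T} (htz : tz ∉ W) (_htz2 : tz * tz ∈ W)
    (_hc : ∀ t : T, ⁅t, tz⁆ ∈ W)
    (hC : ∀ w ∈ W, ∀ w' ∈ W, ⁅w, ⁅tz, w'⁆⁆ ∈ Subgroup.upperCentralSeries T 2) : False := by
  have := F.hyp.finite
  set R := sdPerp F (W : Set T) subset_rfl with hR
  have hRcard : 2 ^ 7 ≤ Nat.card ↥R := sd_card_R F htz hC
  have hRW : R ≤ W := sdPerp_le F _ _
  have hΦR : Phi W ≤ R := Phi_le_sdPerp F _ _
  have hRiso : ∀ a ∈ R, ∀ b ∈ R, ⁅a, b⁆ ∈ Subgroup.upperCentralSeries T 2 :=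
    fun a ha b hb => ha.2 b (hRW hb)
  -- an isotropic subgroup has order less than `2 ^ 9`, by (U1)
  have hU : ∀ A : Subgroup T, Phi W ≤ A → A ≤ W →
      (∀ a ∈ A, ∀ b ∈ A, ⁅a, b⁆ ∈ Subgroup.upperCentralSeries T 2) → Nat.card ↥A < 2 ^ 9 := by
    intro A h1 h2 h3
    have h8 := F.u1 A (Subgroup.upperCentralSeries T 2) h1 h2 F.Z2_le_Phi F.relIndex_Z2_Phi h3
    have h4 := card_mul_relIndex h2
    rw [F.card_W] at h4
    by_contra hcon
    have h5 : 2 ^ 9 * 8 ≤ Nat.card ↥A * A.relIndex W := Nat.mul_le_mul (by omega) h8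
    omega
  have h1 := hU R hΦR hRW hRiso
  have hne : ¬ W ≤ R := by
    intro h
    have h2 := Subgroup.card_le_of_le h
    rw [F.card_W] at h2
    omega
  obtain ⟨w₁, hw₁W, hw₁R⟩ := SetLike.not_le_iff_exists.mp hne
  have hw₁perp : ∀ a ∈ R, ⁅w₁, a⁆ ∈ Subgroup.upperCentralSeries T 2 := by
    intro a ha
    rw [F.comm_swap hw₁W (hRW ha)]
    exact ha.2 w₁ hw₁W
  obtain ⟨hA₁W, hA₁iso⟩ := sd_iso_sup F hRW hRiso hw₁W hw₁perp
  set A₁ := R ⊔ Subgroup.zpowers w₁ with hA₁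
  have hRA₁ : R ≤ A₁ := le_sup_left
  have hw₁A₁ : w₁ ∈ A₁ := (le_sup_right : Subgroup.zpowers w₁ ≤ A₁) (Subgroup.mem_zpowers w₁)
  have hcardA₁ : 2 * Nat.card ↥R ≤ Nat.card ↥A₁ := sd_card_lt hRA₁ (fun h => hw₁R (h hw₁A₁))
  have h2 := hU A₁ (hΦR.trans hRA₁) hA₁W hA₁iso
  -- the orthogonal of `w₁`
  set C := sdPerp F {w₁} (Set.singleton_subset_iff.mpr hw₁W) with hCdef
  have hCcard : Nat.card ↥W ≤ 2 * Nat.card ↥C := sd_card_perp_singleton F hw₁W
  rw [F.card_W] at hCcard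
  have hA₁C : A₁ ≤ C := by
    apply sup_le
    · intro a ha
      refine ⟨hRW ha, fun x hx => ?_⟩
      rw [Set.mem_singleton_iff] at hx
      rw [hx]; exact ha.2 w₁ hw₁W
    · rw [Subgroup.zpowers_le]
      refine ⟨hw₁W, fun x hx => ?_⟩
      rw [Set.mem_singleton_iff] at hx
      rw [hx, commutatorElement_self]
      exact Subgroup.one_mem _
  have hCne : ¬ C ≤ A₁ := by
    intro h
    have h3 := Subgroup.card_le_of_le h
    omega
  obtain ⟨w₂, hw₂C, hw₂A₁⟩ := SetLike.not_le_iff_exists.mp hCne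
  have hw₂W : w₂ ∈ W := hw₂C.1
  have hw₂perp : ∀ a ∈ A₁, ⁅w₂, a⁆ ∈ Subgroup.upperCentralSeries T 2 := by
    have h3 : A₁ ≤ sdPerp F {w₂} (Set.singleton_subset_iff.mpr hw₂W) := by
      apply sup_le
      · intro a ha
        refine ⟨hRW ha, fun x hx => ?_⟩
        rw [Set.mem_singleton_iff] at hx
        rw [hx]; exact ha.2 w₂ hw₂W
      · rw [Subgroup.zpowers_le]
        refine ⟨hw₁W, fun x hx => ?_⟩
        rw [Set.mem_singleton_iff] at hx
        rw [hx, F.comm_swap hw₁W hw₂W]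
        exact hw₂C.2 w₁ rfl
    intro a ha
    rw [F.comm_swap hw₂W (hA₁W ha)]
    exact (h3 ha).2 w₂ rfl
  obtain ⟨hA₂W, hA₂iso⟩ := sd_iso_sup F hA₁W hA₁iso hw₂W hw₂perp
  have hA₁A₂ : A₁ ≤ A₁ ⊔ Subgroup.zpowers w₂ := le_sup_left
  have hw₂A₂ : w₂ ∈ A₁ ⊔ Subgroup.zpowers w₂ :=
    (le_sup_right : Subgroup.zpowers w₂ ≤ A₁ ⊔ Subgroup.zpowers w₂) (Subgroup.mem_zpowers w₂)
  have hcardA₂ : 2 * Nat.card ↥A₁ ≤ Nat.card ↥(A₁ ⊔ Subgroup.zpowers w₂ : Subgroup T) :=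
    sd_card_lt hA₁A₂ (fun h => hw₂A₁ (h hw₂A₂))
  have h3 := hU _ ((hΦR.trans hRA₁).trans hA₁A₂) hA₂W hA₂iso
  omega

end Cfsg.Agent.Lib.Helper3.Ru2
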