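import Mathlib
import Cfsg.Agent.Lib.Helper3.Ru2Defs
import Cfsg.Agent.Lib.Helper3.Ru2Comm
import Cfsg.Agent.Lib.Helper3.Ru2StepB
import Cfsg.Agent.Lib.Helper3.Ru2StepDE
import Cfsg.Agent.Lib.Lead.Ru2_CEN0
import Cfsg.Agent.Lib.Helper9.ExtraTransport

/-!
# S3174 / S3175 swarm, package UNI (`unique_iso`)

`W` is the only subgroup of `T` isomorphic to `W`.
-/

set_option autoImplicit false

namespace Cfsg.Agent.Lib.Helper3.Ru2

open scoped commutatorElement
open DihedralGroup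

variable {T : Type*} [Group T] {W : Subgroup T}

/-- transport of the hypothesis (hd) along an isomorphism -/
theorem uni_hd {X Y : Type*} [Group X] [Group Y] (e : X ≃* Y)
    (hd : ∀ U : Subgroup X, U.index ≤ 16 → frattini X ≤ U) :
    ∀ U : Subgroup Y, U.index ≤ 16 → frattini Y ≤ U := by
  intro U hU
  have h1 : (U.comap e.toMonoidHom).index = U.index :=
    Subgroup.index_comap_of_surjective U e.surjective
  have h2 := hd (U.comap e.toMonoidHom) (by rw [h1]; exact hU)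
  rw [← Cfsg.Agent.Lib.Helper9.frattini_map_mulEquiv e]
  rintro _ ⟨x, hx, rfl⟩
  exact h2 hx

/-- a proper subgroup of a finite 2-group lies in a subgroup of index two -/
theorem uni_exists_index_two [Finite T] (hT : IsPGroup 2 T) {E P : Subgroup T} (hEP : E ≤ P)
    (hne : ¬ P ≤ E) : ∃ K : Subgroup T, E ≤ K ∧ K ≤ P ∧ K.relIndex P = 2 := by
  have : Fact (Nat.Prime 2) := ⟨Nat.prime_two⟩
  have hP : IsPGroup 2 ↥P := hT.to_subgroup P
  have hE' : E.subgroupOf P ≠ ⊤ := by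
    intro h
    exact hne (Subgroup.subgroupOf_eq_top.mp h)
  obtain ⟨M, hM, hEM⟩ := (eq_top_or_exists_le_coatom (E.subgroupOf P)).resolve_left hE'
  obtain ⟨-, hMi⟩ := Cfsg.Agent.Lib.Lead.coatom_normal_index_of_isPGroup hP hM
  refine ⟨M.map P.subtype, ?_, Subgroup.map_subtype_le M, ?_⟩
  · intro x hx
    exact ⟨⟨x, hEP hx⟩, hEM (Subgroup.mem_subgroupOf.mpr hx), rfl⟩
  · rw [Subgroup.relIndex, Subgroup.subgroupOf,
      Subgroup.comap_map_eq_self_of_injective P.subtype_injective]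
    exact hMi

theorem uni_d4_r1_ne : (r 1 : DihedralGroup 4) ≠ 1 := by decide
theorem uni_d4_r1_ne' : (r 1 : DihedralGroup 4) ≠ r 2 := by decide

/-- UNI: `W` is the only subgroup of `T` isomorphic to `W` -/
theorem unique_iso (F : Full W) (hW : W.Normal) (hQ : Nonempty (T ⧸ W ≃* DihedralGroup 4))
    (W₁ : Subgroup T) (e : Nonempty (↥W ≃* ↥W₁)) : W₁ = W := by
  have := F.hyp.finite
  have hT := F.hyp.pgroup
  have : Fact (Nat.Prime 2) := ⟨Nat.prime_two⟩
  obtain ⟨e⟩ := e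
  have hPn : (Phi W).Normal := Phi_normal W
  -- transported facts
  have hcard₁ : Nat.card ↥W₁ = 2 ^ 11 := by rw [← Nat.card_congr e.toEquiv, F.card_W]
  have hfr₁ : Nat.card ↥(frattini ↥W₁) = 8 := by
    rw [← Cfsg.Agent.Lib.Helper9.frattini_map_mulEquiv e,
      Nat.card_congr ((frattini ↥W).equivMapOfInjective e.toMonoidHom e.injective).symm.toEquiv,
      ← card_Phi W, F.card_Phi_eq]
  have hcΦ₁ : Nat.card ↥(Phi W₁) = 8 := by rw [card_Phi, hfr₁]
  have hd₁ := uni_hd e F.hyp.frat_le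
  have hcen₁ : ∀ f ∈ Phi W₁, ∀ w ∈ W₁, f * w = w * f := by
    intro f hf w hw
    obtain ⟨hfW, hf'⟩ := (mem_Phi_iff W₁ f).mp hf
    have h1 := frattini_le_center (hT.to_subgroup W₁) hfr₁.le hd₁ hf'
    have h2 := Subgroup.mem_center_iff.mp h1 ⟨w, hw⟩
    exact (congrArg Subtype.val h2).symm
  -- the intersection
  set A := W ⊓ W₁ with hA
  have hAW : A ≤ W := inf_le_left
  have hAW₁ : A ≤ W₁ := inf_le_right
  have hk1 := card_mul_relIndex hAW
  have hk2 := card_mul_relIndex hAW₁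
  rw [F.card_W] at hk1
  rw [hcard₁] at hk2
  have hrel2 : A.relIndex W₁ = W.relIndex W₁ := Subgroup.inf_relIndex_right W W₁
  have hsup : Nat.card ↥(W₁ ⊔ W) = 2 ^ 11 * W.relIndex W₁ := by
    have h := card_mul_relIndex (le_sup_right : W ≤ W₁ ⊔ W)
    rw [Subgroup.relIndex_sup_right, F.card_W] at h
    exact h.symm
  have hsuple : Nat.card ↥(W₁ ⊔ W) ≤ 2 ^ 14 := by
    rw [← F.str.card_T]; exact Subgroup.card_le_card_group _
  have hrel12 : A.relIndex W = A.relIndex W₁ :=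
    Nat.eq_of_mul_eq_mul_left (Nat.card_pos : 0 < Nat.card ↥A) (hk1.trans hk2.symm)
  have hk8 : A.relIndex W ≤ 8 := by
    have h1 : W.relIndex W₁ ≤ 8 := by omega
    omega
  have hΦA : Phi W ≤ A := by
    intro f hf
    obtain ⟨hfW, hf'⟩ := (mem_Phi_iff W f).mp hf
    have h1 : (A.subgroupOf W).index ≤ 16 := by
      change A.relIndex W ≤ 16; omega
    exact Subgroup.mem_subgroupOf.mp (F.hyp.frat_le _ h1 hf')
  have hΦ₁A : Phi W₁ ≤ A := by
    intro f hf
    obtain ⟨hfW, hf'⟩ := (mem_Phi_iff W₁ f).mp hf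
    have h1 : (A.subgroupOf W₁).index ≤ 16 := by
      change A.relIndex W₁ ≤ 16; omega
    exact Subgroup.mem_subgroupOf.mp (hd₁ _ h1 hf')
  by_cases hle : Phi W ≤ Phi W₁
  · -- `Phi W₁ = Phi W = Z_3`, so `W₁ ≤ C_T(Z_3) = W`
    have heq : Phi W = Phi W₁ :=
      Subgroup.eq_of_le_of_card_ge hle (by rw [hcΦ₁, F.card_Phi_eq])
    have hW₁W : W₁ ≤ W := by
      intro w hw
      rw [F.hyp.hW, Subgroup.mem_centralizer_iff]
      intro z hz
      rw [SetLike.mem_coe, ← F.str.phi_eq, heq] at hz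
      exact hcen₁ z hz w hw
    exact Subgroup.eq_of_le_of_card_ge hW₁W (by rw [hcard₁, F.card_W])
  · exfalso
    obtain ⟨K, hEK, hKΦ, hKrel⟩ := uni_exists_index_two hT
      (inf_le_left : Phi W ⊓ Phi W₁ ≤ Phi W) (fun h => hle (h.trans inf_le_right))
    have h8 := F.u1 A K hΦA hAW hKΦ hKrel (fun a ha b hb =>
      hEK ⟨comm_mem_Phi hT W (hAW ha) (hAW hb), comm_mem_Phi hT W₁ (hAW₁ ha) (hAW₁ hb)⟩)
    have hrelA : A.relIndex W = 8 := le_antisymm hk8 h8
    have hcardA : Nat.card ↥A = 2 ^ 8 := by rw [hrelA] at hk1; omega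
    have htop : W₁ ⊔ W = ⊤ := by
      rw [← Subgroup.card_eq_iff_eq_top, hsup, F.str.card_T, ← hrel2, ← hrel12, hrelA]
      norm_num
    have hdecomp : ∀ t : T, ∃ w₁ ∈ W₁, ∃ w ∈ W, t = w₁ * w := by
      intro t
      have h1 : t ∈ ((W₁ ⊔ W : Subgroup T) : Set T) := by rw [htop]; exact Set.mem_univ t
      rw [Subgroup.mul_normal W₁ W] at h1
      obtain ⟨w₁, hw₁, w, hw, rfl⟩ := Set.mem_mul.mp h1
      exact ⟨w₁, hw₁, w, hw, rfl⟩
    -- the quotient map onto the dihedral group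
    obtain ⟨φ⟩ := hQ
    set q : T →* DihedralGroup 4 := φ.toMonoidHom.comp (QuotientGroup.mk' W) with hq
    have hqW : ∀ t : T, q t = 1 ↔ t ∈ W := by
      intro t
      rw [hq, MonoidHom.comp_apply, MulEquiv.coe_toMonoidHom, MulEquiv.map_eq_one_iff,
        QuotientGroup.mk'_apply, QuotientGroup.eq_one_iff]
    have hqs : Function.Surjective q := φ.surjective.comp (QuotientGroup.mk'_surjective W)
    obtain ⟨t₀, ht₀⟩ := hqs (r 1)
    obtain ⟨c, hc, w₀, hw₀, rfl⟩ := hdecomp t₀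
    have hqc : q c = r 1 := by
      rw [map_mul, (hqW w₀).mpr hw₀, mul_one] at ht₀
      exact ht₀
    -- `Phi W₁ ≤ Z_4`
    have hΦ₁Z : Phi W₁ ≤ Subgroup.upperCentralSeries T 4 := by
      intro f₁ hf₁
      rw [← F.str.fix_top]
      refine ⟨hAW (hΦ₁A hf₁), fun s _ => ?_⟩
      obtain ⟨w₁, hw₁, w, hw, rfl⟩ := hdecomp s
      rw [comm_mul_right_gen,
        commutatorElement_eq_one_iff_mul_comm.mpr (hcen₁ f₁ hf₁ w₁ hw₁), one_mul]
      exact hPn.conj_mem _ (comm_mem_Phi hT W (hAW (hΦ₁A hf₁)) hw) w₁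
    have hcA : ∀ a ∈ A, ⁅c, a⁆ ∈ Phi W₁ := fun a ha => comm_mem_Phi hT W₁ hc (hAW₁ ha)
    have hcAW : ∀ a ∈ A, ⁅c, a⁆ ∈ W := fun a ha => hAW (hΦ₁A (hcA a ha))
    let Ψ : ↥A →* T ⧸ Phi W := MonoidHom.mk' (fun a => (QuotientGroup.mk ⁅c, (a : T)⁆ : T ⧸ Phi W))
      (by
        intro a b
        have e1 : ⁅c, (a : T) * b⁆ = ⁅c, (a : T)⁆ * (⁅(a : T), ⁅c, (b : T)⁆⁆ * ⁅c, (b : T)⁆) := by
          simp only [commutatorElement_def]; group
        rw [Subgroup.coe_mul, e1, QuotientGroup.mk_mul, QuotientGroup.mk_mul,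
          (QuotientGroup.eq_one_iff _).mpr (comm_mem_Phi hT W (hAW a.2) (hcAW b b.2)), one_mul])
    let S : Subgroup T :=
      { carrier := {s | ∀ a ∈ A, ⁅c, a⁆ ∈ Phi W → ⁅a, s⁆ ∈ Phi W}
        one_mem' := by
          intro a _ _
          rw [commutatorElement_one_right]
          exact Subgroup.one_mem _
        mul_mem' := by
          intro x y hx hy a ha h
          rw [comm_mul_right_gen]
          exact (Phi W).mul_mem (hx a ha h) (hPn.conj_mem _ (hy a ha h) x)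
        inv_mem' := by
          intro x hx a ha h
          have e1 : ⁅a, x⁻¹⁆ = x⁻¹ * ⁅a, x⁆⁻¹ * x⁻¹⁻¹ := by
            simp only [commutatorElement_def]; group
          rw [e1]
          exact hPn.conj_mem _ ((Phi W).inv_mem (hx a ha h)) x⁻¹ }
    have hWS : W ≤ S := fun s hs a ha _ => comm_mem_Phi hT W (hAW ha) hs
    have hcS : c ∈ S := by
      intro a _ h
      rw [← commutatorElement_inv]
      exact (Phi W).inv_mem h
    -- `S` has index at most two
    set S₀ : Subgroup T := (Subgroup.center (DihedralGroup 4)).comap q with hS₀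
    have hmemS₀ : ∀ s : T, s ∈ S₀ ↔ (q s = 1 ∨ q s = r 2) := by
      intro s
      rw [hS₀, Subgroup.mem_comap, Subgroup.mem_center_iff]
      constructor
      · exact sb_d4_center (q s)
      · rintro (h | h) y
        · rw [h, mul_one, one_mul]
        · rw [h]; exact sb_d4_central y
    have hWS₀ : W ≤ S₀ := fun s hs => (hmemS₀ s).mpr (Or.inl ((hqW s).mpr hs))
    have hqcc : q (c * c) = r 2 := by rw [map_mul, hqc]; exact sb_d4_r1
    have hccS₀ : c * c ∈ S₀ := (hmemS₀ _).mpr (Or.inr hqcc)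
    have hccW : c * c ∉ W := by
      rw [← hqW, hqcc]; exact sb_d4_r2_ne
    have hS₀S : S₀ ≤ S := by
      intro s hs
      rcases (hmemS₀ s).mp hs with h | h
      · exact hWS ((hqW s).mp h)
      · have h1 : (c * c)⁻¹ * s ∈ W := by
          rw [← hqW, map_mul, map_inv, hqcc, h, inv_mul_cancel]
        have h2 := S.mul_mem (S.mul_mem hcS hcS) (hWS h1)
        have e1 : c * c * ((c * c)⁻¹ * s) = s := by group
        rwa [e1] at h2
    have hcS₀ : c ∉ S₀ := by
      rw [hmemS₀, hqc]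
      rintro (h | h)
      · exact uni_d4_r1_ne h
      · exact uni_d4_r1_ne' h
    have hc1 := sd_card_lt hWS₀ (fun h => hccW (h hccS₀))
    have hc2 := sd_card_lt hS₀S (fun h => hcS₀ (h hcS))
    rw [F.card_W] at hc1
    have hSidx : S.index ≤ 2 := by
      have h2 := S.card_mul_index
      rw [F.str.card_T] at h2
      by_contra hcon
      have h3 : 3 ≤ S.index := by omega
      have : 2 * (2 * 2 ^ 11) * 3 ≤ Nat.card ↥S * S.index :=
        Nat.mul_le_mul (le_trans (Nat.mul_le_mul_left 2 hc1) hc2) h3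
      omega
    have hfix : Nat.card ↥(fixMod W S) ≤ 32 := by
      have h1 := F.fix S hWS
      have h2 : 2 ^ S.index ≤ 2 ^ 2 := Nat.pow_le_pow_right (by norm_num) hSidx
      omega
    have hker : Ψ.ker.map A.subtype ≤ fixMod W S := by
      rintro _ ⟨a, ha, rfl⟩
      rw [SetLike.mem_coe, MonoidHom.mem_ker] at ha
      change (QuotientGroup.mk ⁅c, (a : T)⁆ : T ⧸ Phi W) = 1 at ha
      rw [QuotientGroup.eq_one_iff] at ha
      exact ⟨hAW a.2, fun s hs => hs a.1 a.2 ha⟩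
    have hkercard : Nat.card ↥Ψ.ker ≤ 32 := by
      rw [Nat.card_congr (Ψ.ker.equivMapOfInjective A.subtype A.subtype_injective).toEquiv]
      exact le_trans (Subgroup.card_le_of_le hker) hfix
    have hrange : Ψ.range ≤ (Subgroup.upperCentralSeries T 4).map (QuotientGroup.mk' (Phi W)) := by
      rintro _ ⟨a, rfl⟩
      exact ⟨⁅c, (a : T)⁆, hΦ₁Z (hcA a.1 a.2), rfl⟩
    have hΦZ4 : Phi W ≤ Subgroup.upperCentralSeries T 4 := by
      rw [F.str.phi_eq]; exact Subgroup.upperCentralSeries_mono T (by norm_num)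
    have hcr : Nat.card ↥((Subgroup.upperCentralSeries T 4).map (QuotientGroup.mk' (Phi W))) = 2 := by
      rw [← Subgroup.relIndex_ker, QuotientGroup.ker_mk']
      have h := card_mul_relIndex hΦZ4
      rw [F.card_Phi_eq, F.hyp.card_Z4] at h
      omega
    have h1 := Ψ.ker.card_mul_index
    rw [Subgroup.index_ker, hcardA] at h1
    have h2 : Nat.card ↥Ψ.range ≤ 2 := le_trans (Subgroup.card_le_of_le hrange) hcr.le
    have h3 : Nat.card ↥Ψ.ker * Nat.card ↥Ψ.range ≤ 32 * 2 := Nat.mul_le_mul hkercard h2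
    omega

end Cfsg.Agent.Lib.Helper3.Ru2
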