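import Mathlib
import Cfsg.Prelude.Def_Transfer
import Cfsg.Agent.Lib.Helper3.Ru2Defs
import Cfsg.Agent.Lib.Helper3.Ru2Comm
import Cfsg.Agent.Lib.Helper3.Ru2Glue1
import Cfsg.Agent.Lib.Helper3.Ru2StepB
import Cfsg.Agent.Lib.Helper3.Ru2StepC
import Cfsg.Agent.Lib.Helper3.Ru2StepDE
import Cfsg.Agent.Lib.Helper3.Ru2Uni
import Cfsg.Agent.Lib.Lead.Ru2_UCS
import Cfsg.Agent.Lib.Lead.Ru2_IDX
import Cfsg.Agent.Lib.Lead.Ru2_CEN0
import Cfsg.Agent.Lib.Lead.Ru2_NUM
import Cfsg.Agent.Lib.Lead.Ru2_U1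
import Cfsg.Agent.Lib.Lead.Ru2_DER
import Cfsg.Agent.Lib.Helper4.Ru2_LIFT
import Cfsg.Agent.Lib.Helper4.Ru2_STEP
import Cfsg.Agent.Lib.Helper4.Ru2_CYC
import Cfsg.Agent.Lib.Helper7.Ru2_AUT13
import Cfsg.Agent.Lib.Helper7.Ru2_AUT2
import Cfsg.Agent.Lib.Helper7.Ru2_NC
import Cfsg.Agent.Lib.Helper7.Ru2_D8

/-!
# Rows S3174 / S3175: assembly of the swarm packages

Paper proof: `notes/S3174_S3175_paper_helper3.md`.  Packages by lead (UCS, IDX, CEN0, NUM, U1, DER),
helper4 (LIFT, STEP, CYC), helper7 (AUT13, AUT2, NC, D8) and helper3 (STEPB, STEPC, STEPDE, UNI, WC,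
QUO).
-/

set_option autoImplicit false

namespace Cfsg.Agent.Lib.Helper3.Ru2

open scoped commutatorElement

variable {T : Type*} [Group T] {W : Subgroup T}

theorem full_of_hyp (h : Hyp W) : Full W := by
  have := h.finite
  have hucs := ucs_card h
  have hidx := index_le h hucs
  have hWn := hidx.1
  have : Fact (Nat.Prime 2) := ⟨Nat.prime_two⟩
  have hcen : ∀ f ∈ Phi W, ∀ w ∈ W, f * w = w * f := by
    intro f hf w hw
    obtain ⟨hfW, hf'⟩ := (mem_Phi_iff W f).mp hf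
    have h1 := frattini_le_center (h.pgroup.to_subgroup W) h.card_frat h.frat_le hf'
    have h2 := Subgroup.mem_center_iff.mp h1 ⟨w, hw⟩
    exact (congrArg Subtype.val h2).symm
  have hchain : ∀ S : Subgroup T, W ≤ S →
      Nat.card ↥(fixMod W S) * Nat.card ↥(Phi W) ^ (S.index - 1) ≤
        Nat.card ↥(fixMod W ⊤) ^ S.index := by
    intro S hWS
    have := fix_chain h.pgroup W hWn S ⊤ hWS le_top
    rwa [Subgroup.relIndex_top_right] at this
  have hfix0 := hchain W le_rfl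
  rw [fixMod_self h.pgroup W] at hfix0
  have hs : Str W := str_of_hyp h hucs hidx hcen hfix0
    (fun a ha => normal_le_ucs h.pgroup (Phi W) (@Phi_normal _ _ W hWn) a ha)
  have hu := u1_of_str h hs
  exact ⟨h, hs, fixProp_of_str h hs hchain, hu, (der_of_u1 h hs hu).2⟩

/-- KFIN: the centre of `W` has order eight -/
theorem card_center_of_full (F : Full W) : Nat.card ↥(Subgroup.center ↥W) = 8 := by
  have := F.hyp.finite
  have hWn := F.str.normal
  obtain ⟨_, hQ⟩ := d8_of_full F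
  set D : Subgroup T := (Subgroup.center ↥W).map W.subtype with hD
  have hDn : D.Normal := ConjAct.normal_of_characteristic_of_normal
  have hDW : D ≤ W := by
    rintro _ ⟨x, _, rfl⟩
    exact x.2
  have hPD : Phi W ≤ D := by
    intro f hf
    obtain ⟨hfW, -⟩ := (mem_Phi_iff W f).mp hf
    refine ⟨⟨f, hfW⟩, ?_, rfl⟩
    rw [SetLike.mem_coe, Subgroup.mem_center_iff]
    intro w
    exact Subtype.ext (F.str.phi_central f hf w.1 w.2).symm
  have hcardD : Nat.card ↥D = Nat.card ↥(Subgroup.center ↥W) :=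
    Nat.card_congr
      ((Subgroup.center ↥W).equivMapOfInjective W.subtype W.subtype_injective).symm.toEquiv
  rcases eq_or_lt_of_le hPD with heq | hlt
  · rw [← hcardD, ← heq, F.str.phi_eq]
    exact F.str.card_ucs 3 (by norm_num)
  · exfalso
    have hlift := z4_le_of_normal F
    have hZ4D := hlift D hDn hlt hDW
    have hZ : ∀ x ∈ Subgroup.upperCentralSeries T 4, ∀ w ∈ W, x * w = w * x := by
      intro x hx w hw
      obtain ⟨c, hc, rfl⟩ := hZ4D hx
      have := Subgroup.mem_center_iff.mp hc ⟨w, hw⟩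
      exact (congrArg Subtype.val this).symm
    obtain ⟨tz, htzW, htz2, htzc, hB⟩ := delta_diag F hWn hQ hZ
    obtain ⟨w₀, hw₀, hcyc⟩ := exists_cyclic F hlift
    exact false_of_delta_zero F htzW htz2 htzc
      (delta_zero F htzc hw₀ hcyc (fun t => hB w₀ hw₀ t))

/-- an automorphism of odd order of `T` is trivial -/
theorem aut_trivial (F : Full W) (α : MulAut T) (hodd : Odd (orderOf α)) : α = 1 := by
  have := F.hyp.finite
  have hWn := F.str.normal
  have h1 := aut_fix_phi F α hodd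
  have h2 := aut_fix_mod F (z4_le_of_normal F) α hodd h1
  have h3 := aut_fix_of_series F.hyp.pgroup α hodd (Phi W) W h1 h2
  have h4 : ∀ t ∈ (⊤ : Subgroup T), α t * t⁻¹ ∈ W := by
    intro t _
    have hPn : (Phi W).Normal := @Phi_normal _ _ W hWn
    rw [F.hyp.hW, Subgroup.mem_centralizer_iff]
    intro f hf
    rw [SetLike.mem_coe, ← F.str.phi_eq] at hf
    have hc : t⁻¹ * f * t ∈ Phi W := by
      have := hPn.conj_mem f hf t⁻¹
      rwa [inv_inv] at this
    have e1 := h1 _ hc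
    rw [map_mul, map_mul, map_inv, h1 f hf] at e1
    calc f * (α t * t⁻¹) = α t * ((α t)⁻¹ * f * α t) * t⁻¹ := by group
      _ = α t * (t⁻¹ * f * t) * t⁻¹ := by rw [e1]
      _ = α t * t⁻¹ * f := by group
  have h5 := aut_fix_of_series F.hyp.pgroup α hodd W ⊤ h3 h4
  ext t
  exact h5 t (Subgroup.mem_top t)

/-- S3174 -/
theorem main_3174 {T : Type*} [Group T] [Finite T]
    (hT : IsPGroup 2 T) (ha : 2 ^ 14 ≤ Nat.card T)
    (hb : Nat.card ↥(Subgroup.upperCentralSeries T 4) = 16)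
    (W : Subgroup T)
    (hW : W = Subgroup.centralizer ((Subgroup.upperCentralSeries T 3 : Subgroup T) : Set T))
    (hc : Nat.card ↥(frattini ↥W) ≤ 8) (hd : ∀ U : Subgroup ↥W, U.index ≤ 16 → frattini ↥W ≤ U) :
    Nat.card T = 2 ^ 14 ∧
      (commutator ↥W).map W.subtype = Subgroup.upperCentralSeries T 3 ∧
      (frattini ↥W).map W.subtype = Subgroup.upperCentralSeries T 3 ∧
      Nat.card ↥(Subgroup.center ↥W) = 8 ∧
      Nat.card ↥(Subgroup.upperCentralSeries T 3) = 8 ∧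
      (∀ z ∈ Subgroup.upperCentralSeries T 3, z ^ 2 = 1) ∧
      (∃ (_ : W.Normal), Nonempty (T ⧸ W ≃* DihedralGroup 4)) ∧
      Nat.card (↥W ⧸ commutator ↥W) = 2 ^ 8 ∧ (∀ x : ↥W ⧸ commutator ↥W, x ^ 2 = 1) := by
  have h : Hyp W := ⟨inferInstance, hT, ha, hb, hW, hc, hd⟩
  have F := full_of_hyp h
  have hder := (der_of_u1 h F.str F.u1).1
  have hq := quot_of_full F hder
  refine ⟨F.str.card_T, ?_, F.str.phi_eq, card_center_of_full F, F.str.card_ucs 3 (by norm_num), ?_,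
    d8_of_full F, hq.1, hq.2⟩
  · rw [hder]; exact F.str.phi_eq
  · intro z hz
    rw [← F.str.phi_eq] at hz
    exact F.phi_sq z hz

/-- S3175 -/
theorem main_3175 {G : Type*} [Group G] [Finite G]
    (T : Sylow 2 G) (ha : 2 ^ 14 ≤ Nat.card ↥(T : Subgroup G))
    (hb : Nat.card ↥(Subgroup.upperCentralSeries ↥(T : Subgroup G) 4) = 16)
    (W : Subgroup ↥(T : Subgroup G))
    (hW : W = Subgroup.centralizer ((Subgroup.upperCentralSeries ↥(T : Subgroup G) 3 :
      Subgroup ↥(T : Subgroup G)) : Set ↥(T : Subgroup G)))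
    (hc : Nat.card ↥(frattini ↥W) ≤ 8)
    (hd : ∀ U : Subgroup ↥W, U.index ≤ 16 → frattini ↥W ≤ U) :
    Cfsg.HasNormalPComplement 2 ↥(Subgroup.normalizer ((T : Subgroup G) : Set G)) ∧
      Cfsg.IsWeaklyClosed (W.map (T : Subgroup G).subtype) (T : Subgroup G) := by
  have h : Hyp W := ⟨inferInstance, T.isPGroup', ha, hb, hW, hc, hd⟩
  have F := full_of_hyp h
  obtain ⟨hWn, hQ⟩ := d8_of_full F
  exact ⟨normal_complement_of_aut T (fun α hα => aut_trivial F α hα),
    weakly_closed_of_unique (T : Subgroup G) W (fun W₁ e => unique_iso F hWn hQ W₁ e)⟩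

end Cfsg.Agent.Lib.Helper3.Ru2
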