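import Mathlib
import Cfsg.Agent.Lib.Helper5.S3452_Base

/-!
# S3452 package MFC (helper3): `f_c ∈ V_k` for `c = t₀²`, and `2^k ≤ |V_k|`
-/

set_option autoImplicit false
set_option linter.unusedSectionVars false
set_option linter.unusedVariables false

namespace Cfsg.Agent.Lib.S3452

open Matrix

section mfc
variable (p : ℕ) [Fact p.Prime]

theorem trace_mul_eq_zero_isSquare (n B : Matrix (Fin 2) (Fin 2) (ZMod p)) (hn : n ≠ 0) (hn2 : n ^ 2 = 0)
    (hB : B.det = 1) (hR : (n * B).trace = 0) : IsSquare (B.trace ^ 2 - 4) := by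
  have h00 : n 0 0 * n 0 0 + n 0 1 * n 1 0 = 0 := by
    have := congrFun (congrFun hn2 0) 0
    simpa [pow_two, Matrix.mul_apply, Fin.sum_univ_two] using this
  have h01 : n 0 0 * n 0 1 + n 0 1 * n 1 1 = 0 := by
    have := congrFun (congrFun hn2 0) 1
    simpa [pow_two, Matrix.mul_apply, Fin.sum_univ_two] using this
  have h10 : n 1 0 * n 0 0 + n 1 1 * n 1 0 = 0 := by
    have := congrFun (congrFun hn2 1) 0
    simpa [pow_two, Matrix.mul_apply, Fin.sum_univ_two] using this
  have h11 : n 1 0 * n 0 1 + n 1 1 * n 1 1 = 0 := by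
    have := congrFun (congrFun hn2 1) 1
    simpa [pow_two, Matrix.mul_apply, Fin.sum_univ_two] using this
  have hdet : B 0 0 * B 1 1 - B 0 1 * B 1 0 = 1 := by
    rw [← Matrix.det_fin_two]; exact hB
  have hR' : n 0 0 * B 0 0 + n 0 1 * B 1 0 + (n 1 0 * B 0 1 + n 1 1 * B 1 1) = 0 := by
    have := hR
    simpa [Matrix.trace_fin_two, Matrix.mul_apply, Fin.sum_univ_two] using this
  have htr : B.trace = B 0 0 + B 1 1 := Matrix.trace_fin_two B
  rw [htr]
  by_cases hb : n 0 1 = 0
  · -- then n 0 0 = 0, n 1 1 = 0, n 1 0 ≠ 0, so B 0 1 = 0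
    have ha : n 0 0 = 0 := by
      have : n 0 0 * n 0 0 = 0 := by rw [hb] at h00; simpa using h00
      exact mul_self_eq_zero.1 this
    have hd : n 1 1 = 0 := by
      have : n 1 1 * n 1 1 = 0 := by rw [hb] at h11; simpa using h11
      exact mul_self_eq_zero.1 this
    have hc : n 1 0 ≠ 0 := by
      intro hc
      apply hn
      ext i j
      fin_cases i <;> fin_cases j <;> simp [ha, hb, hc, hd]
    have hy : B 0 1 = 0 := by
      rw [ha, hb, hd] at hR'
      have : n 1 0 * B 0 1 = 0 := by simpa using hR'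
      rcases mul_eq_zero.1 this with h | h
      · exact absurd h hc
      · exact h
    refine ⟨B 0 0 - B 1 1, ?_⟩
    rw [hy] at hdet
    linear_combination (4 : ZMod p) * hdet
  · have had : n 0 0 + n 1 1 = 0 := by
      have : n 0 1 * (n 0 0 + n 1 1) = 0 := by linear_combination h01
      rcases mul_eq_zero.1 this with h | h
      · exact absurd h hb
      · exact h
    have key : ((B 0 0 + B 1 1) ^ 2 - 4) * (n 0 1) ^ 2 =
        (n 0 1 * (B 0 0 - B 1 1) - 2 * n 0 0 * B 0 1) ^ 2 := by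
      linear_combination (4 * (n 0 1) ^ 2) * hdet + (4 * B 0 1 * n 0 1) * hR' - (4 * (B 0 1) ^ 2) * h00
        - (4 * n 0 1 * B 0 1 * B 1 1) * had
    refine ⟨(n 0 1 * (B 0 0 - B 1 1) - 2 * n 0 0 * B 0 1) / n 0 1, ?_⟩
    field_simp
    linear_combination key

/-- powers of `1 + N` with `N² = 0` -/
theorem mfc_pow_aux (N : Matrix (Fin 2) (Fin 2) (ZMod p)) (hN : N * N = 0) (i : ℕ) :
    (1 + N) ^ i = 1 + (i : ZMod p) • N := by
  induction i with
  | zero => simp
  | succ i ih =>
    rw [pow_succ, ih, Matrix.add_mul, Matrix.mul_add, Matrix.mul_add, Matrix.one_mul, Matrix.mul_one,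
      Matrix.smul_mul, hN, smul_zero, add_zero, Matrix.one_mul]
    push_cast
    rw [add_smul, one_smul]
    abel

/-- powers of a unipotent matrix -/
theorem mfc_pow (M : Matrix (Fin 2) (Fin 2) (ZMod p)) (hM : (M - 1) ^ 2 = 0) (i : ℕ) :
    M ^ i = 1 + (i : ZMod p) • (M - 1) := by
  have hM' : (M - 1) * (M - 1) = 0 := by rw [← pow_two]; exact hM
  have e : M = 1 + (M - 1) := by abel
  have := mfc_pow_aux p (M - 1) hM' i
  rw [← e] at this
  exact this

theorem mfc_trace (M B : Matrix (Fin 2) (Fin 2) (ZMod p)) (hM : (M - 1) ^ 2 = 0) (i : ℕ) :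
    (M ^ i * B).trace = B.trace + (i : ZMod p) * ((M - 1) * B).trace := by
  rw [mfc_pow p M hM i, Matrix.add_mul, Matrix.one_mul, Matrix.smul_mul, Matrix.trace_add,
    Matrix.trace_smul, smul_eq_mul]

/-- reindexing a sum over `range p` as a sum over `ZMod p` -/
theorem mfc_sum_range {β : Type*} [AddCommMonoid β] (g : ZMod p → β) :
    ∑ i ∈ Finset.range p, g (i : ZMod p) = ∑ x : ZMod p, g x := by
  have : NeZero p := ⟨(Fact.out : p.Prime).ne_zero⟩
  refine Finset.sum_nbij' (fun i => (i : ZMod p)) (fun x => x.val) ?_ ?_ ?_ ?_ ?_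
  · intro a _; exact Finset.mem_univ _
  · intro a _; exact Finset.mem_range.2 (ZMod.val_lt a)
  · intro a ha; exact ZMod.val_natCast_of_lt (Finset.mem_range.1 ha)
  · intro a _; exact ZMod.natCast_zmod_val a
  · intro a _; rfl

theorem mfc_count (hp : p ≠ 2) (t₀ : ZMod p) (ht₀ : t₀ ≠ 0) :
    (∑ y : ZMod p, (if y ^ 2 = t₀ ^ 2 then (1 : ZMod 2) else 0)) = 0 := by
  rw [Finset.sum_boole]
  have h2 : (2 : ZMod p) ≠ 0 := by
    intro h
    have : ((2 : ℕ) : ZMod p) = 0 := by exact_mod_cast h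
    rw [ZMod.natCast_eq_zero_iff] at this
    have hp2 := (Nat.prime_dvd_prime_iff_eq (Fact.out : p.Prime) Nat.prime_two).1 this
    exact hp hp2
  have hne : t₀ ≠ -t₀ := by
    intro h
    have : (2 : ZMod p) * t₀ = 0 := by linear_combination h
    rcases mul_eq_zero.1 this with h' | h'
    · exact h2 h'
    · exact ht₀ h'
  have hset : (Finset.univ.filter fun y : ZMod p => y ^ 2 = t₀ ^ 2) = {t₀, -t₀} := by
    ext y
    simp only [Finset.mem_filter, Finset.mem_univ, true_and, Finset.mem_insert, Finset.mem_singleton]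
    constructor
    · intro h
      have : (y - t₀) * (y + t₀) = 0 := by linear_combination h
      rcases mul_eq_zero.1 this with h' | h'
      · left; linear_combination h'
      · right; linear_combination h'
    · rintro (h | h)
      · rw [h]
      · rw [h]; ring
  rw [hset, Finset.card_pair hne]
  decide

theorem fc_mem (hp : p ≠ 2) (k : ℕ) (t₀ : ZMod p) (ht₀ : t₀ ≠ 0) (hns : ¬ IsSquare (t₀ ^ 2 - 4))
    (j₀ : Fin k) : fc p k (t₀ ^ 2) j₀ ∈ VK p k := by
  intro A hA hA2 j h
  obtain ⟨B, rfl⟩ := cls_surjective p h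
  by_cases hj : j = j₀
  swap
  · apply Finset.sum_eq_zero
    intro i _
    rw [fc_apply, if_neg]
    exact fun h => hj h.1
  subst hj
  set M : Matrix (Fin 2) (Fin 2) (ZMod p) := (A : Matrix (Fin 2) (Fin 2) (ZMod p)) with hM
  set Bm : Matrix (Fin 2) (Fin 2) (ZMod p) := (B : Matrix (Fin 2) (Fin 2) (ZMod p)) with hBm
  have hn : M - 1 ≠ 0 := by
    intro h0
    apply hA
    apply Subtype.ext
    show M = 1
    exact sub_eq_zero.1 h0
  have hdetB : Bm.det = 1 := B.2
  -- the i-th term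
  set g : ZMod p → ZMod 2 := fun x =>
    if (Bm.trace + x * ((M - 1) * Bm).trace) ^ 2 = t₀ ^ 2 then (1 : ZMod 2) else 0 with hg
  have hterm : ∀ i : ℕ, fc p k (t₀ ^ 2) j (j, cls p A ^ i * cls p B) = g (i : ZMod p) := by
    intro i
    rw [fc_apply, ← cls_pow, ← cls_mul, trsq_cls]
    have e : ((A ^ i * B : SLp p) : Matrix (Fin 2) (Fin 2) (ZMod p)) = M ^ i * Bm := by
      rw [Matrix.SpecialLinearGroup.coe_mul, Matrix.SpecialLinearGroup.coe_pow]
    rw [e, mfc_trace p M Bm hA2 i]
    simp [hg]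
  rw [Finset.sum_congr rfl (fun i _ => hterm i), mfc_sum_range p g]
  by_cases hR : ((M - 1) * Bm).trace = 0
  · -- all terms vanish
    apply Finset.sum_eq_zero
    intro x _
    show (if (Bm.trace + x * ((M - 1) * Bm).trace) ^ 2 = t₀ ^ 2 then (1 : ZMod 2) else 0) = 0
    rw [hR, mul_zero, add_zero, if_neg]
    intro hP
    apply hns
    rw [← hP]
    exact trace_mul_eq_zero_isSquare p (M - 1) Bm hn hA2 hdetB hR
  · -- bijection
    let e : ZMod p ≃ ZMod p := (Equiv.mulRight₀ _ hR).trans (Equiv.addLeft Bm.trace)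
    have he : ∀ x : ZMod p, e x = Bm.trace + x * ((M - 1) * Bm).trace := by
      intro x; rfl
    rw [← mfc_count p hp t₀ ht₀]
    refine Fintype.sum_equiv e _ _ ?_
    intro x
    show (if (Bm.trace + x * ((M - 1) * Bm).trace) ^ 2 = t₀ ^ 2 then (1 : ZMod 2) else 0) = _
    rw [he]

/-- `a ↦ ∑_j a_j • f_c(·, j)` is injective `(Fin k → ZMod 2) → V_k` -/
theorem two_pow_le_card_VK (k : ℕ) (c : ZMod p) (hmem : ∀ j₀ : Fin k, fc p k c j₀ ∈ VK p k)
    (hc : ∃ x : PSL p, trsq p x = c) : 2 ^ k ≤ Nat.card (VK p k) := by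
  obtain ⟨x₀, hx₀⟩ := hc
  let Φ : (Fin k → ZMod 2) → VK p k := fun a =>
    ⟨∑ j : Fin k, (a j).val • fc p k c j, by
      apply AddSubgroup.sum_mem
      intro j _
      exact AddSubgroup.nsmul_mem _ (hmem j) _⟩
  have hΦ : Function.Injective Φ := by
    intro a b hab
    funext j'
    have h1 := congrArg (fun v : VK p k => v.1 (j', x₀)) hab
    simp only [Φ, Finset.sum_apply, Pi.smul_apply, fc_apply, hx₀, and_true] at h1
    simp only [smul_ite, smul_zero, Finset.sum_ite_eq, Finset.mem_univ, if_true, nsmul_eq_mul, mul_one,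
      ZMod.natCast_val, ZMod.cast_id', id_eq] at h1
    exact h1
  have hfin : Finite (VK p k) := inferInstance
  have := Nat.card_le_card_of_injective Φ hΦ
  have hcard : Nat.card (Fin k → ZMod 2) = 2 ^ k := by
    rw [Nat.card_eq_fintype_card, Fintype.card_fun, ZMod.card, Fintype.card_fin]
  rw [hcard] at this
  exact this

end mfc

end Cfsg.Agent.Lib.S3452
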