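import Mathlib
import Cfsg.Agent.Lib.Helper5.S3452_Base
import Cfsg.Agent.Lib.Helper5.SL2Class
import Cfsg.Agent.Lib.Helper2.S3452_CORE

/-!
# S3452 package MTP1 (helper3): a generator of the non-split torus in companion form
-/

set_option autoImplicit false
set_option linter.unusedSectionVars false
set_option linter.unusedVariables false

namespace Cfsg.Agent.Lib.S3452

open Matrix

section mtp1
variable (p : ℕ) [Fact p.Prime]

/-- the companion matrix of `X² - t X + 1` -/
def mtp1C (t : ZMod p) : SLp p :=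
  ⟨!![0, -1; 1, t], by rw [Matrix.det_fin_two_of]; ring⟩

theorem mtp1C_coe (t : ZMod p) : ((mtp1C p t : SLp p) : Matrix (Fin 2) (Fin 2) (ZMod p)) = !![0, -1; 1, t] :=
  rfl

theorem mtp1C_trace (t : ZMod p) :
    ((mtp1C p t : SLp p) : Matrix (Fin 2) (Fin 2) (ZMod p)).trace = t := by
  rw [mtp1C_coe, Matrix.trace_fin_two_of, zero_add]

/-- equality in `SL₂` from equality of the underlying matrix powers -/
theorem mtp1_pow_eq_one_of_coe (A : SLp p) (n : ℕ)
    (h : (A : Matrix (Fin 2) (Fin 2) (ZMod p)) ^ n = 1) : A ^ n = 1 := by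
  apply Subtype.ext
  rw [Matrix.SpecialLinearGroup.coe_pow, h]
  rfl

theorem mtp1_two_ne (hp : p ≠ 2) : (2 : ZMod p) ≠ 0 := core_two_ne (F := ZMod p) p hp

/-- order of the class of an element of even order -/
theorem mtp1_orderOf_cls (hp : p ≠ 2) (C : SLp p) (m : ℕ) (hm : 0 < m) (hC : orderOf C = 2 * m) :
    orderOf (cls p C) = m := by
  have h2 := mtp1_two_ne p hp
  have key : ∀ k : ℕ, cls p C ^ k = 1 ↔ m ∣ k := by
    intro k
    have := Cfsg.Agent.Lib.Helper5.mk_pow_eq_one_iff_odd h2 C k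
    rw [show cls p C ^ k = (QuotientGroup.mk C : PSL p) ^ k from rfl, this, ← orderOf_dvd_iff_pow_eq_one, hC]
    exact Nat.mul_dvd_mul_iff_left (by norm_num)
  apply Nat.dvd_antisymm
  · exact orderOf_dvd_of_pow_eq_one ((key m).2 dvd_rfl)
  · exact (key _).1 (pow_orderOf_eq_one _)

theorem exists_t0 (hp : 5 ≤ p) : ∃ t₀ : ZMod p, t₀ ≠ 0 ∧ ¬ IsSquare (t₀ ^ 2 - 4) ∧
    ∃ C : SLp p, (C : Matrix (Fin 2) (Fin 2) (ZMod p)) = !![0, -1; 1, t₀] ∧ orderOf C = p + 1 ∧
      2 * orderOf (cls p C) = p + 1 := by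
  have hp2 : p ≠ 2 := by omega
  have h2 := mtp1_two_ne p hp2
  obtain ⟨A, hA⟩ := Cfsg.Agent.Lib.Helper5.exists_orderOf_eq_card_add_one (F := ZMod p) p
  rw [ZMod.card] at hA
  set M : Matrix (Fin 2) (Fin 2) (ZMod p) := (A : Matrix (Fin 2) (Fin 2) (ZMod p)) with hM
  have hdet : M.det = 1 := A.2
  set t₀ : ZMod p := M.trace with ht₀
  have hcard : Fintype.card (ZMod p) = p := ZMod.card p
  -- t₀ ≠ 0
  have h1 : t₀ ≠ 0 := by
    intro h0
    have hc := Cfsg.Agent.Lib.Helper5.cayley_two_sl A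
    rw [← hM, ← ht₀, h0, zero_smul] at hc
    have hsq : M * M = -1 := eq_neg_of_add_eq_zero_left hc
    have h4 : M ^ 4 = 1 := by
      rw [show (4 : ℕ) = 2 + 2 from rfl, pow_add, pow_two, hsq]; simp
    have := mtp1_pow_eq_one_of_coe p A 4 h4
    have hd := orderOf_dvd_of_pow_eq_one this
    rw [hA] at hd
    have := Nat.le_of_dvd (by norm_num) hd
    omega
  -- t₀² - 4 is not a square
  have h3 : ¬ IsSquare (t₀ ^ 2 - 4) := by
    rintro ⟨e, he⟩
    by_cases he0 : e = 0
    · -- unipotent case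
      have ht4 : M.trace ^ 2 = 4 := by
        rw [he0, mul_zero] at he
        exact sub_eq_zero.1 he
      have hpow := Cfsg.Agent.Lib.Helper5.mk_pow_char_eq_one (F := ZMod p) p A ht4
      rw [Cfsg.Agent.Lib.Helper5.mk_pow_eq_one_iff_odd h2 A p] at hpow
      have hd := orderOf_dvd_of_pow_eq_one hpow
      rw [hA] at hd
      have hcop : Nat.Coprime (p + 1) p := by
        rw [Nat.coprime_comm]; exact (Nat.coprime_self_add_right).2 (Nat.coprime_one_right p)
      have hd2 : p + 1 ∣ 2 := (Nat.Coprime.dvd_mul_right hcop).1 hd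
      have := Nat.le_of_dvd (by norm_num) hd2
      omega
    · have hΔ : M.trace ^ 2 - 4 * M.det = e ^ 2 := by
        rw [hdet, mul_one, pow_two e]; exact he
      have hsplit := core_split (F := ZMod p) p hp2 M e he0 hΔ
      rw [hcard] at hsplit
      -- A^p = A so A^(p-1) = 1
      have hAp : A ^ p = A := by
        apply Subtype.ext
        rw [Matrix.SpecialLinearGroup.coe_pow]
        exact hsplit
      have hAp1 : A ^ (p - 1) = 1 := by
        have hpp : p = (p - 1) + 1 := by omega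
        have : A ^ (p - 1) * A = 1 * A := by
          rw [← pow_succ, ← hpp, hAp, one_mul]
        exact mul_right_cancel this
      have hd := orderOf_dvd_of_pow_eq_one hAp1
      rw [hA] at hd
      have := Nat.le_of_dvd (by omega) hd
      omega
  have hC : orderOf (mtp1C p t₀) = p + 1 := by
    have hne4 : ((mtp1C p t₀ : SLp p) : Matrix (Fin 2) (Fin 2) (ZMod p)).trace ^ 2 ≠ 4 := by
      rw [mtp1C_trace]
      intro h4
      apply h3
      rw [h4, sub_self]
      exact ⟨0, by ring⟩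
    have hconj := Cfsg.Agent.Lib.Helper5.isConj_of_trace_eq (mtp1C p t₀) A
      (by rw [mtp1C_trace]) hne4
    obtain ⟨c, hc⟩ := hconj
    rw [← hA]
    exact SemiconjBy.orderOf_eq _ hc
  refine ⟨t₀, h1, h3, mtp1C p t₀, mtp1C_coe p t₀, hC, ?_⟩
  -- p + 1 is even
  have hodd : p % 2 = 1 := by
    rcases (Fact.out : p.Prime).eq_two_or_odd with h | h
    · omega
    · exact h
  have hm : p + 1 = 2 * ((p + 1) / 2) := by omega
  have := mtp1_orderOf_cls p hp2 (mtp1C p t₀) ((p + 1) / 2) (by omega) (by rw [hC]; exact hm)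
  rw [this]; omega

end mtp1

end Cfsg.Agent.Lib.S3452
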