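import Mathlib
import Cfsg.Agent.Lib.Helper3.S3B1

/-!
# S4305, case (b): the configuration `CoreB` and its first consequences
-/

set_option autoImplicit false
set_option linter.unusedSectionVars false
set_option linter.unusedVariables false

namespace Cfsg.Agent.Lib.Helper3.S3B

open Cfsg.Agent.Lib.Helper8.Ward

universe w

variable {T : Type w} [Group T] [Finite T]

/-- the group-theoretic configuration of case (b). -/
structure CoreB (Q R : Subgroup T) (s t : T) : Prop where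
  hs3 : orderOf s = 3
  ht2 : orderOf t = 2
  hts : t * s * t⁻¹ = s⁻¹
  hQc : ∀ x ∈ Q, ∀ y ∈ Q, x * y = y * x
  hRc : ∀ x ∈ R, ∀ y ∈ R, x * y = y * x
  hQ6 : (Nat.card Q).Coprime 6
  hR6 : (Nat.card R).Coprime 6
  hQR : (Nat.card Q).Coprime (Nat.card R)
  hRQ : ∀ x ∈ R, ∀ y ∈ Q, x * y * x⁻¹ ∈ Q
  hsQ : ∀ y ∈ Q, s * y * s⁻¹ ∈ Q
  htQ : ∀ y ∈ Q, t * y * t⁻¹ ∈ Q
  hsR : ∀ y ∈ R, s * y * s⁻¹ ∈ R
  htR : ∀ y ∈ R, t * y * t⁻¹ ∈ R
  hfixQ : ∀ y ∈ Q, s * y = y * s → t * y = y * t → y = 1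
  hfixR : ∀ y ∈ R, s * y = y * s → t * y = y * t → y = 1
  hirr : ∀ Q1 : Subgroup T, Q1 ≤ Q → (∀ x ∈ R, ∀ y ∈ Q1, x * y * x⁻¹ ∈ Q1) →
    (∀ y ∈ Q1, s * y * s⁻¹ ∈ Q1) → (∀ y ∈ Q1, t * y * t⁻¹ ∈ Q1) → Q1 = ⊥ ∨ Q1 = Q
  hmin : ∀ R1 : Subgroup T, R1 ≤ R → (∀ y ∈ R1, s * y * s⁻¹ ∈ R1) →
    (∀ y ∈ R1, t * y * t⁻¹ ∈ R1) → R1 = R ∨ ∀ x ∈ R1, ∀ y ∈ Q, x * y = y * x
  hne : ∃ x ∈ R, ∃ y ∈ Q, x * y ≠ y * x

/-- the rotations `1, s, s⁻¹`. -/
def IsRot (s c : T) : Prop := c = 1 ∨ c = s ∨ c = s⁻¹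

namespace CoreB

variable {Q R : Subgroup T} {s t : T} (h : CoreB Q R s t)

include h

theorem s3 : s ^ 3 = 1 := by
  rw [← h.hs3]; exact pow_orderOf_eq_one s

theorem t2' : t ^ 2 = 1 := by
  rw [← h.ht2]; exact pow_orderOf_eq_one t

theorem t2 : t * t = 1 := by
  rw [← pow_two]; exact h.t2'

theorem tinv : t⁻¹ = t := inv_eq_of_mul_eq_one_right h.t2

theorem sss : s * (s * s) = 1 := by
  have := h.s3
  rwa [pow_succ', pow_two] at this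

theorem sinv : s⁻¹ = s * s := inv_eq_of_mul_eq_one_right h.sss

theorem sinv2 : s⁻¹ * s⁻¹ = s := by
  rw [h.sinv]
  have := h.sss
  calc s * s * (s * s) = (s * (s * s)) * s := by group
    _ = s := by rw [this, one_mul]

/-- `t s = s⁻¹ t`. -/
theorem ts : t * s = s⁻¹ * t := by
  have h1 : t * s = (t * s * t⁻¹) * t := by group
  rw [h1, h.hts]

/-- `t s⁻¹ t⁻¹ = s`. -/
theorem hts' : t * s⁻¹ * t⁻¹ = s := by
  have h1 : t * s⁻¹ * t⁻¹ = (t * s * t⁻¹)⁻¹ := by group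
  rw [h1, h.hts, inv_inv]

theorem tsi : t * s⁻¹ = s * t := by
  have h1 : t * s⁻¹ = (t * s⁻¹ * t⁻¹) * t := by group
  rw [h1, h.hts']

/-- `t⁻¹ s t = s⁻¹`. -/
theorem tst : t⁻¹ * s * t = s⁻¹ := by
  calc t⁻¹ * s * t = t * s * t⁻¹ := by rw [h.tinv]
    _ = s⁻¹ := h.hts

theorem tsit : t⁻¹ * s⁻¹ * t = s := by
  calc t⁻¹ * s⁻¹ * t = t * s⁻¹ * t⁻¹ := by rw [h.tinv]
    _ = s := h.hts'

omit h in
theorem isRot_one : IsRot s (1 : T) := Or.inl rfl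

omit h in
theorem isRot_s : IsRot s s := Or.inr (Or.inl rfl)

omit h in
theorem isRot_sinv : IsRot s s⁻¹ := Or.inr (Or.inr rfl)

omit h in
theorem isRot_inv {c : T} (hc : IsRot s c) : IsRot s c⁻¹ := by
  rcases hc with rfl | rfl | rfl
  · left; simp
  · right; right; rfl
  · right; left; simp

/-- `t c t⁻¹ = c⁻¹` for a rotation. -/
theorem rot_t {c : T} (hc : IsRot s c) : t * c * t⁻¹ = c⁻¹ := by
  rcases hc with rfl | rfl | rfl
  · simp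
  · exact h.hts
  · rw [inv_inv]; exact h.hts'

theorem rot_sq {c : T} (hc : IsRot s c) : c⁻¹ * c⁻¹ = c := by
  rcases hc with rfl | rfl | rfl
  · simp
  · exact h.sinv2
  · rw [inv_inv]; exact h.sinv.symm

theorem rot_sq_isRot {c : T} (hc : IsRot s c) : IsRot s (c⁻¹ * c⁻¹) := by
  rw [h.rot_sq hc]; exact hc

/-- rotations normalize any `s`-invariant subgroup. -/
theorem rot_conj {K : Subgroup T} (hK : ∀ y ∈ K, s * y * s⁻¹ ∈ K) {c : T} (hc : IsRot s c) :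
    ∀ y ∈ K, c * y * c⁻¹ ∈ K := by
  rcases hc with rfl | rfl | rfl
  · intro y hy; simpa using hy
  · exact hK
  · intro y hy
    have := conj_inv_mem hK y hy
    rwa [inv_inv]

theorem rot_conj' {K : Subgroup T} (hK : ∀ y ∈ K, s * y * s⁻¹ ∈ K) {c : T} (hc : IsRot s c) :
    ∀ y ∈ K, c⁻¹ * y * c ∈ K := by
  intro y hy
  have := h.rot_conj hK (isRot_inv hc) y hy
  rwa [inv_inv] at this

/-- a rotation commutes with what `s` commutes with. -/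
theorem rot_comm {c x : T} (hc : IsRot s c) (hx : s * x = x * s) : c * x = x * c := by
  rcases hc with rfl | rfl | rfl
  · simp
  · exact hx
  · have h1 : s⁻¹ * x = s⁻¹ * (x * s) * s⁻¹ := by group
    rw [h1, ← hx]; group

theorem rot_cube {c : T} (hc : IsRot s c) : c ^ 3 = 1 := by
  rcases hc with rfl | rfl | rfl
  · simp
  · exact h.s3
  · rw [inv_pow, h.s3, inv_one]

theorem tm_rot {Q0 : Subgroup T} (hQ0 : Q0 ≤ Q) (hs : Tm Q Q0 s) {c : T} (hc : IsRot s c) :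
    Tm Q Q0 c := by
  rcases hc with rfl | rfl | rfl
  · exact tm_one
  · exact hs
  · exact tm_inv hQ0 hs

theorem htQ' : ∀ y ∈ Q, t⁻¹ * y * t ∈ Q := conj_inv_mem h.htQ

theorem htR' : ∀ y ∈ R, t⁻¹ * y * t ∈ R := conj_inv_mem h.htR

theorem hsQ' : ∀ y ∈ Q, s⁻¹ * y * s ∈ Q := conj_inv_mem h.hsQ

theorem hsR' : ∀ y ∈ R, s⁻¹ * y * s ∈ R := conj_inv_mem h.hsR

theorem hRQ' : ∀ x ∈ R, ∀ y ∈ Q, x⁻¹ * y * x ∈ Q := by
  intro x hx y hy
  have := h.hRQ x⁻¹ (R.inv_mem hx) y hy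
  rwa [inv_inv] at this

theorem cop3Q : Nat.Coprime 3 (Nat.card Q) :=
  (Nat.Coprime.coprime_dvd_right (by norm_num : 3 ∣ 6) h.hQ6).symm

theorem cop2Q : Nat.Coprime 2 (Nat.card Q) :=
  (Nat.Coprime.coprime_dvd_right (by norm_num : 2 ∣ 6) h.hQ6).symm

theorem cop3R : Nat.Coprime 3 (Nat.card R) :=
  (Nat.Coprime.coprime_dvd_right (by norm_num : 3 ∣ 6) h.hR6).symm

theorem cop2R : Nat.Coprime 2 (Nat.card R) :=
  (Nat.Coprime.coprime_dvd_right (by norm_num : 2 ∣ 6) h.hR6).symm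

/-- if a power `x ^ k`, `k` prime to `|R|`, centralizes `Q`, so does `x`. -/
theorem cent_of_pow {x : T} (hx : x ∈ R) {k : ℕ} (hk : Nat.Coprime k (Nat.card R))
    (hc : ∀ y ∈ Q, x ^ k * y = y * x ^ k) : ∀ y ∈ Q, x * y = y * x := by
  have hk' : Nat.Coprime k (orderOf x) :=
    Nat.Coprime.coprime_dvd_right (Subgroup.orderOf_dvd_natCard R hx) hk
  obtain ⟨m, hm⟩ := exists_pow_eq_self_of_coprime hk'
  intro y hy
  have h1 : Commute (x ^ k) y := hc y hy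
  have h2 : Commute ((x ^ k) ^ m) y := h1.pow_left m
  rw [hm] at h2
  exact h2

/-- **(b.i)**: `C_Q(R) = 1`. -/
theorem cQR : ∀ y ∈ Q, (∀ x ∈ R, x * y = y * x) → y = 1 := by
  intro y hy hyR
  set Q1 : Subgroup T := Q ⊓ Subgroup.centralizer (R : Set T) with hQ1def
  have hQ1 : Q1 ≤ Q := inf_le_left
  have key : ∀ g : T, (∀ z ∈ Q, g * z * g⁻¹ ∈ Q) → (∀ x ∈ R, g⁻¹ * x * g ∈ R) →
      ∀ z ∈ Q1, g * z * g⁻¹ ∈ Q1 := by
    intro g hgQ hgR z hz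
    have hz' := Subgroup.mem_inf.1 hz
    refine Subgroup.mem_inf.2 ⟨hgQ z hz'.1, ?_⟩
    rw [Subgroup.mem_centralizer_iff]
    intro x hx
    have h1 := (Subgroup.mem_centralizer_iff.1 hz'.2) _ (hgR x hx)
    have h2 : x * (g * z * g⁻¹) = g * ((g⁻¹ * x * g) * z) * g⁻¹ := by group
    have h3 : g * z * g⁻¹ * x = g * (z * (g⁻¹ * x * g)) * g⁻¹ := by group
    rw [h2, h3, h1]
  have hRinv : ∀ x ∈ R, ∀ y ∈ Q1, x * y * x⁻¹ ∈ Q1 := by
    intro x hx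
    exact key x (h.hRQ x hx) (fun x' hx' => R.mul_mem (R.mul_mem (R.inv_mem hx) hx') hx)
  rcases h.hirr Q1 hQ1 hRinv (key s h.hsQ h.hsR') (key t h.htQ h.htR') with h0 | h0
  · have hy1 : y ∈ Q1 := by
      refine Subgroup.mem_inf.2 ⟨hy, ?_⟩
      rw [Subgroup.mem_centralizer_iff]
      exact hyR
    rw [h0] at hy1
    exact Subgroup.mem_bot.1 hy1
  · exfalso
    obtain ⟨x, hx, y', hy', hxy⟩ := h.hne
    have hy1 : y' ∈ Q1 := by rw [h0]; exact hy'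
    exact hxy ((Subgroup.mem_centralizer_iff.1 (Subgroup.mem_inf.1 hy1).2) x hx)

/-- `R` cannot act trivially on a proper quotient of `Q`. -/
theorem kb {Q1 : Subgroup T} (hQ1 : Q1 ≤ Q) (hR : ∀ x ∈ R, Tm Q Q1 x) : Q ≤ Q1 := by
  apply av2 Q Q1 R 1 hQ1 h.hQc hR tm_one
  · intro k hk; simpa using hk
  · exact h.hQR.symm
  · rw [orderOf_one]; exact Nat.coprime_one_left _
  · intro c hc hcR _
    rw [h.cQR c hc hcR]
    exact Q1.one_mem

/-- `s` and `t` cannot both act trivially on a proper quotient of `Q`. -/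
theorem kst {Q1 : Subgroup T} (hQ1 : Q1 ≤ Q) (hs : Tm Q Q1 s) (ht : Tm Q Q1 t) : Q ≤ Q1 := by
  apply av2 Q Q1 (Subgroup.zpowers s) t hQ1 h.hQc
  · intro k hk
    obtain ⟨n, rfl⟩ := Subgroup.mem_zpowers_iff.1 hk
    exact tm_zpow hQ1 hs n
  · exact ht
  · intro k hk
    obtain ⟨n, rfl⟩ := Subgroup.mem_zpowers_iff.1 hk
    have e : t⁻¹ * s ^ n * t = (t⁻¹ * s * t⁻¹⁻¹) ^ n := by rw [conj_zpow, inv_inv]
    rw [e, inv_inv, h.tst]
    exact Subgroup.zpow_mem _ (Subgroup.inv_mem _ (Subgroup.mem_zpowers s)) n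
  · rw [Nat.card_zpowers, h.hs3]; exact h.cop3Q
  · rw [h.ht2]; exact h.cop2Q
  · intro c hc hcs hct
    rw [h.hfixQ c hc (hcs s (Subgroup.mem_zpowers s)) hct]
    exact Q1.one_mem

/-- the elements of `⟨s, t⟩`. -/
theorem mem_AA {a : T} (ha : a ∈ Subgroup.closure ({s, t} : Set T)) :
    a = 1 ∨ a = s ∨ a = s⁻¹ ∨ ∃ c, IsRot s c ∧ a = c * t * c⁻¹ := by
  rcases (Cfsg.Agent.Lib.Lead.S3.mem_closure_iff h.s3 h.t2' h.hts).1 ha with
    rfl | rfl | rfl | rfl | rfl | rfl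
  · left; rfl
  · right; left; rfl
  · right; right; left
    rw [h.sinv, pow_two]
  · right; right; right
    exact ⟨1, isRot_one, by simp⟩
  · right; right; right
    refine ⟨s⁻¹, isRot_sinv, ?_⟩
    rw [inv_inv, mul_assoc, h.ts, ← mul_assoc, h.sinv2]
  · right; right; right
    refine ⟨s, isRot_s, ?_⟩
    rw [mul_assoc, h.tsi, ← mul_assoc, pow_two]

end CoreB

end Cfsg.Agent.Lib.Helper3.S3B
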