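import Mathlib
import Cfsg.Agent.Lib.Helper3.S3B2

/-!
# S4305, case (b): the family of hyperplanes, and the case where `s` centralizes `R`
-/

set_option autoImplicit false
set_option linter.unusedSectionVars false
set_option linter.unusedVariables false

namespace Cfsg.Agent.Lib.Helper3.S3B

open Cfsg.Agent.Lib.Helper8.Ward

universe w

variable {T : Type w} [Group T] [Finite T]

/-- the hypotheses on the family `𝓗`. -/
structure Fam (Q R : Subgroup T) (s t : T) (𝓗 : Set (Subgroup T)) : Prop where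
  hlt : ∀ Q0 ∈ 𝓗, Q0 < Q
  hinv : ∀ Q0 ∈ 𝓗, ∀ g : T, (g ∈ R ∨ g = s ∨ g = t) → cj g Q0 ∈ 𝓗
  hstar : ∀ Q0 ∈ 𝓗, ∃ a ∈ Subgroup.closure ({s, t} : Set T), a ≠ 1 ∧ Tm Q Q0 a

namespace CoreB

variable {Q R : Subgroup T} {s t : T} (h : CoreB Q R s t) {𝓗 : Set (Subgroup T)}
  (f : Fam Q R s t 𝓗)

include h f

theorem fam_le {Q0 : Subgroup T} (hQ0 : Q0 ∈ 𝓗) : Q0 ≤ Q := (f.hlt Q0 hQ0).le

theorem fam_not_le {Q0 : Subgroup T} (hQ0 : Q0 ∈ 𝓗) : ¬ Q ≤ Q0 := fun hle =>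
  (f.hlt Q0 hQ0).not_ge hle

theorem fam_rot {Q0 : Subgroup T} (hQ0 : Q0 ∈ 𝓗) {c : T} (hc : IsRot s c) : cj c Q0 ∈ 𝓗 := by
  rcases hc with hc | hc | hc
  · rw [hc, cj_one]; exact hQ0
  · rw [hc]; exact f.hinv Q0 hQ0 s (Or.inr (Or.inl rfl))
  · rw [hc, h.sinv, ← cj_cj]
    exact f.hinv _ (f.hinv Q0 hQ0 s (Or.inr (Or.inl rfl))) s (Or.inr (Or.inl rfl))

/-- the alternative given by `(L-star)`. -/
theorem star_cases {Q0 : Subgroup T} (hQ0 : Q0 ∈ 𝓗) :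
    Tm Q Q0 s ∨ ∃ c, IsRot s c ∧ Tm Q Q0 (c * t * c⁻¹) := by
  obtain ⟨a, ha, ha1, hta⟩ := f.hstar Q0 hQ0
  rcases h.mem_AA ha with rfl | rfl | rfl | ⟨c, hc, rfl⟩
  · exact absurd rfl ha1
  · exact Or.inl hta
  · left
    have := tm_inv (h.fam_le f hQ0) hta
    rwa [inv_inv] at this
  · exact Or.inr ⟨c, hc, hta⟩

/-- transport back from a conjugate by an element of `R`. -/
theorem tm_of_cj {Q0 : Subgroup T} {x g : T} (hx : x ∈ R) (hg : Tm Q (cj x Q0) g) :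
    Tm Q Q0 (x⁻¹ * g * x) := by
  have h1 := tm_conj (n := x⁻¹) hg (by
    intro z hz
    rw [inv_inv]
    exact h.hRQ x hx z hz)
  rwa [cj_inv_cj, inv_inv] at h1

/-- if no member of `𝓗` is centralized modulo by `s`, some member is by `t`, and then
for every `x ∈ R` a further element. -/
theorem caseB_data (hB : ∀ Q0 ∈ 𝓗, ¬ Tm Q Q0 s) (hne : 𝓗.Nonempty) :
    ∃ Q0 ∈ 𝓗, Tm Q Q0 t ∧
      ∀ x ∈ R, ∃ c, IsRot s c ∧ Tm Q Q0 ((t * x⁻¹ * t⁻¹) * c * x) := by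
  obtain ⟨Q1, hQ1⟩ := hne
  rcases h.star_cases f hQ1 with h1 | ⟨c, hc, h1⟩
  · exact absurd h1 (hB Q1 hQ1)
  have hQ0 : cj c⁻¹ Q1 ∈ 𝓗 := h.fam_rot f hQ1 (isRot_inv hc)
  have ht : Tm Q (cj c⁻¹ Q1) t := by
    have h2 := tm_conj (n := c⁻¹) h1 (by
      intro z hz
      rw [inv_inv]
      exact h.rot_conj h.hsQ hc z hz)
    have e : c⁻¹ * (c * t * c⁻¹) * c⁻¹⁻¹ = t := by group
    rwa [e] at h2
  refine ⟨_, hQ0, ht, ?_⟩
  intro x hx
  have hxQ0 : cj x (cj c⁻¹ Q1) ∈ 𝓗 := f.hinv _ hQ0 x (Or.inl hx)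
  rcases h.star_cases f hxQ0 with h3 | ⟨d, hd, h3⟩
  · exact absurd h3 (hB _ hxQ0)
  have h4 := h.tm_of_cj f hx h3
  have h5 := tm_mul (h.fam_le f hQ0) ht h4
  refine ⟨d⁻¹ * d⁻¹, h.rot_sq_isRot hd, ?_⟩
  have e : t * (x⁻¹ * (d * t * d⁻¹) * x)
      = (t * x⁻¹ * t⁻¹) * (t * d * t⁻¹) * (t * t) * d⁻¹ * x := by group
  rw [e, h.rot_t hd, h.t2, mul_one] at h5
  have e2 : t * x⁻¹ * t⁻¹ * d⁻¹ * d⁻¹ * x = t * x⁻¹ * t⁻¹ * (d⁻¹ * d⁻¹) * x := by group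
  rw [e2] at h5
  exact h5

omit f in
/-- `C_Q(g)` is `1` or `Q` for suitable `g`. -/
theorem cQ_dichotomy (g : T) (hR : ∀ x ∈ R, x * g = g * x) (hs : s * g = g * s)
    (ht : t * g * t⁻¹ = g ∨ t * g * t⁻¹ = g⁻¹) :
    (∀ y ∈ Q, g * y = y * g → y = 1) ∨ (∀ y ∈ Q, g * y = y * g) := by
  set Q1 : Subgroup T := Q ⊓ Subgroup.centralizer ({g} : Set T) with hQ1def
  have hQ1 : Q1 ≤ Q := inf_le_left
  have hmem : ∀ y, y ∈ Q1 ↔ y ∈ Q ∧ g * y = y * g := by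
    intro y
    rw [hQ1def, Subgroup.mem_inf, Subgroup.mem_centralizer_iff]
    constructor
    · rintro ⟨h1, h2⟩
      exact ⟨h1, h2 g rfl⟩
    · rintro ⟨h1, h2⟩
      refine ⟨h1, ?_⟩
      rintro _ rfl
      exact h2
  -- an element commuting with `g` preserves `Q1`
  have key : ∀ n : T, (∀ z ∈ Q, n * z * n⁻¹ ∈ Q) → n * g = g * n → ∀ z ∈ Q1, n * z * n⁻¹ ∈ Q1 := by
    intro n hnQ hng z hz
    rw [hmem] at hz ⊢
    refine ⟨hnQ z hz.1, ?_⟩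
    have h1 : Commute n g := hng
    have h2 : Commute g z := hz.2
    have h3 : Commute g (n * z * n⁻¹) :=
      (h1.symm.mul_right h2).mul_right h1.symm.inv_right
    exact h3
  have htQ1 : ∀ z ∈ Q1, t * z * t⁻¹ ∈ Q1 := by
    intro z hz
    rw [hmem] at hz ⊢
    refine ⟨h.htQ z hz.1, ?_⟩
    have h2 : Commute g z := hz.2
    have h3 : Commute (t * g * t⁻¹) (t * z * t⁻¹) := by
      show t * g * t⁻¹ * (t * z * t⁻¹) = t * z * t⁻¹ * (t * g * t⁻¹)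
      have e1 : t * g * t⁻¹ * (t * z * t⁻¹) = t * (g * z) * t⁻¹ := by group
      have e2 : t * z * t⁻¹ * (t * g * t⁻¹) = t * (z * g) * t⁻¹ := by group
      rw [e1, e2, h2.eq]
    rcases ht with ht | ht
    · rw [ht] at h3; exact h3
    · rw [ht] at h3; exact (Commute.inv_left_iff.1 h3)
  rcases h.hirr Q1 hQ1 (fun x hx => key x (h.hRQ x hx) (hR x hx)) (key s h.hsQ hs) htQ1 with h0 | h0
  · left
    intro y hy hgy
    have : y ∈ Q1 := (hmem y).2 ⟨hy, hgy⟩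
    rw [h0] at this
    exact Subgroup.mem_bot.1 this
  · right
    intro y hy
    have : y ∈ Q1 := by rw [h0]; exact hy
    exact ((hmem y).1 this).2

omit f in
/-- `t` inverts an abelian invariant subgroup centralized by `s` without common fixed points. -/
theorem t_inverts {K : Subgroup T} (hKc : ∀ x ∈ K, ∀ y ∈ K, x * y = y * x)
    (htK : ∀ y ∈ K, t * y * t⁻¹ ∈ K)
    (hfix : ∀ y ∈ K, s * y = y * s → t * y = y * t → y = 1) (hsK : ∀ y ∈ K, s * y = y * s) :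
    ∀ x ∈ K, t * x * t⁻¹ = x⁻¹ := by
  intro x hx
  have hx' := htK x hx
  have hzK : x * (t * x * t⁻¹) ∈ K := K.mul_mem hx hx'
  have h1 : s * (x * (t * x * t⁻¹)) = (x * (t * x * t⁻¹)) * s := hsK _ hzK
  have h2 : t * (x * (t * x * t⁻¹)) = (x * (t * x * t⁻¹)) * t := by
    have e1 : t * (x * (t * x * t⁻¹)) * t⁻¹ = (t * x * t⁻¹) * (t * t * x * (t⁻¹ * t⁻¹)) := by group
    have e2 : t⁻¹ * t⁻¹ = 1 := by rw [h.tinv, h.t2]
    rw [h.t2, e2, one_mul, mul_one, hKc _ hx' _ hx] at e1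
    have : t * (x * (t * x * t⁻¹)) = (t * (x * (t * x * t⁻¹)) * t⁻¹) * t := by group
    rw [this, e1]
  have h3 := hfix _ hzK h1 h2
  exact eq_inv_of_mul_eq_one_right h3

section b1

variable (hcs : ∀ x ∈ R, s * x = x * s)

include hcs

omit f in
theorem b1_tinvR : ∀ x ∈ R, t * x * t⁻¹ = x⁻¹ :=
  h.t_inverts h.hRc h.htR h.hfixR hcs

omit f in
/-- `C_Q(s) = 1` when `s` centralizes `R`. -/
theorem b1_cQs : ∀ y ∈ Q, s * y = y * s → y = 1 := by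
  rcases h.cQ_dichotomy s (fun x hx => (hcs x hx).symm) rfl (Or.inr h.hts) with h0 | h0
  · exact h0
  · exfalso
    have htQinv : ∀ y ∈ Q, t * y * t⁻¹ = y⁻¹ := h.t_inverts h.hQc h.htQ h.hfixQ h0
    obtain ⟨x, hx, y, hy, hxy⟩ := h.hne
    apply hxy
    have hsq : ∀ y ∈ Q, x ^ 2 * y = y * x ^ 2 := by
      intro y hy
      have e1 : t * (x * y * x⁻¹) * t⁻¹ = (t * x * t⁻¹) * (t * y * t⁻¹) * (t * x * t⁻¹)⁻¹ := by
        group
      rw [h.b1_tinvR hcs x hx, htQinv y hy] at e1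
      have e2 := htQinv (x * y * x⁻¹) (h.hRQ x hx y hy)
      have e3 : x⁻¹ * y⁻¹ * x⁻¹⁻¹ = (x * y * x⁻¹)⁻¹ := e1.symm.trans e2
      have e4 : y⁻¹ * (x * x) = x * x * y⁻¹ := by
        calc y⁻¹ * (x * x) = x * (x⁻¹ * y⁻¹ * x⁻¹⁻¹) * x := by group
          _ = x * (x * y * x⁻¹)⁻¹ * x := by rw [e3]
          _ = x * x * y⁻¹ := by group
      have e5 : Commute (x * x) y⁻¹ := e4.symm
      rw [pow_two]
      exact (Commute.inv_right_iff.1 e5)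
    exact h.cent_of_pow hx h.cop2R hsq y hy

omit f in
/-- the rotations `c z`, `z ∈ R` not centralizing `Q`, have no fixed points on `Q`. -/
theorem b1_claim1 {c z : T} (hc : IsRot s c) (hz : z ∈ R) (hzQ : ∃ y ∈ Q, z * y ≠ y * z) :
    ∀ y ∈ Q, (c * z) * y = y * (c * z) → y = 1 := by
  have hcz : Commute c z := h.rot_comm hc (hcs z hz)
  have hcs' : Commute c s := h.rot_comm hc rfl
  have hR : ∀ x ∈ R, x * (c * z) = (c * z) * x := by
    intro x hx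
    have h1 : Commute x c := (show Commute c x from h.rot_comm hc (hcs x hx)).symm
    have h2 : Commute x z := h.hRc x hx z hz
    exact h1.mul_right h2
  have hs : s * (c * z) = (c * z) * s := by
    have h2 : Commute s z := hcs z hz
    exact hcs'.symm.mul_right h2
  have ht : t * (c * z) * t⁻¹ = (c * z)⁻¹ := by
    have e : t * (c * z) * t⁻¹ = (t * c * t⁻¹) * (t * z * t⁻¹) := by group
    rw [e, h.rot_t hc, h.b1_tinvR hcs z hz, hcz.eq, mul_inv_rev]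
  rcases h.cQ_dichotomy (c * z) hR hs (Or.inr ht) with h0 | h0
  · exact h0
  · exfalso
    obtain ⟨y, hy, hzy⟩ := hzQ
    apply hzy
    have h3 : (c * z) ^ 3 = z ^ 3 := by
      rw [hcz.mul_pow, h.rot_cube hc, one_mul]
    refine h.cent_of_pow hz h.cop3R (fun y hy => ?_) y hy
    rw [← h3]
    exact ((show Commute (c * z) y from h0 y hy).pow_left 3)

/-- **case (b1)**: `s` cannot centralize `R`. -/
theorem b1_false (hne𝓗 : 𝓗.Nonempty) : False := by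
  have hcQs := h.b1_cQs hcs
  have hB : ∀ Q0 ∈ 𝓗, ¬ Tm Q Q0 s := by
    intro Q0 hQ0 hs
    exact h.fam_not_le f hQ0 (tm_fpf (h.fam_le f hQ0) hs hcQs)
  obtain ⟨Q0, hQ0, ht, hx⟩ := h.caseB_data f hB hne𝓗
  obtain ⟨x, hxR, y, hy, hxy⟩ := h.hne
  obtain ⟨c, hc, hg⟩ := hx x hxR
  have e1 : t * x⁻¹ * t⁻¹ = x := by
    rw [h.b1_tinvR hcs x⁻¹ (R.inv_mem hxR), inv_inv]
  rw [e1] at hg
  have hcx : c * x = x * c := h.rot_comm hc (hcs x hxR)
  have e2 : x * c * x = c * (x * x) := by rw [← hcx]; group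
  rw [e2] at hg
  apply h.fam_not_le f hQ0
  apply tm_fpf (h.fam_le f hQ0) hg
  apply h.b1_claim1 hcs hc (R.mul_mem hxR hxR)
  by_contra hcon
  push Not at hcon
  exact hxy (h.cent_of_pow hxR h.cop2R (fun y hy => by rw [pow_two]; exact hcon y hy) y hy)

end b1

end CoreB

end Cfsg.Agent.Lib.Helper3.S3B
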