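import Mathlib
import Cfsg.Agent.Lib.Helper3.S3B3

/-!
# S4305, case (b): the case where `C_R(s)` centralizes `Q`, first half
-/

set_option autoImplicit false
set_option linter.unusedSectionVars false
set_option linter.unusedVariables false

namespace Cfsg.Agent.Lib.Helper3.S3B

open Cfsg.Agent.Lib.Helper8.Ward

universe w

variable {T : Type w} [Group T]

/-- `[R, g]` for an abelian `R` normalized by `g`, as the image of `x ↦ g⁻¹ x g x⁻¹`. -/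
def commImg (R : Subgroup T) (g : T) (hRc : ∀ x ∈ R, ∀ y ∈ R, x * y = y * x)
    (hg : ∀ y ∈ R, g⁻¹ * y * g ∈ R) : Subgroup T where
  carrier := {z | ∃ x ∈ R, z = g⁻¹ * x * g * x⁻¹}
  one_mem' := ⟨1, R.one_mem, by simp⟩
  mul_mem' := by
    rintro _ _ ⟨x, hx, rfl⟩ ⟨x', hx', rfl⟩
    refine ⟨x * x', R.mul_mem hx hx', ?_⟩
    have c1 : x⁻¹ * (g⁻¹ * x' * g) = (g⁻¹ * x' * g) * x⁻¹ := hRc _ (R.inv_mem hx) _ (hg x' hx')
    have c2 : x⁻¹ * x'⁻¹ = x'⁻¹ * x⁻¹ := hRc _ (R.inv_mem hx) _ (R.inv_mem hx')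
    calc g⁻¹ * x * g * x⁻¹ * (g⁻¹ * x' * g * x'⁻¹)
        = g⁻¹ * x * g * (x⁻¹ * (g⁻¹ * x' * g)) * x'⁻¹ := by group
      _ = g⁻¹ * x * g * ((g⁻¹ * x' * g) * x⁻¹) * x'⁻¹ := by rw [c1]
      _ = g⁻¹ * (x * x') * g * (x⁻¹ * x'⁻¹) := by group
      _ = g⁻¹ * (x * x') * g * (x'⁻¹ * x⁻¹) := by rw [c2]
      _ = g⁻¹ * (x * x') * g * (x * x')⁻¹ := by group
  inv_mem' := by
    rintro _ ⟨x, hx, rfl⟩
    refine ⟨x⁻¹, R.inv_mem hx, ?_⟩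
    have c1 : x * (g⁻¹ * x⁻¹ * g) = (g⁻¹ * x⁻¹ * g) * x := hRc _ hx _ (hg _ (R.inv_mem hx))
    calc (g⁻¹ * x * g * x⁻¹)⁻¹ = x * (g⁻¹ * x⁻¹ * g) := by group
      _ = (g⁻¹ * x⁻¹ * g) * x := c1
      _ = g⁻¹ * x⁻¹ * g * x⁻¹⁻¹ := by group

theorem mem_commImg {R : Subgroup T} {g : T} {hRc : ∀ x ∈ R, ∀ y ∈ R, x * y = y * x}
    {hg : ∀ y ∈ R, g⁻¹ * y * g ∈ R} {z : T} :
    z ∈ commImg R g hRc hg ↔ ∃ x ∈ R, z = g⁻¹ * x * g * x⁻¹ := Iff.rfl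

variable [Finite T]

namespace CoreB

variable {Q R : Subgroup T} {s t : T} (h : CoreB Q R s t) {𝓗 : Set (Subgroup T)}
  (f : Fam Q R s t 𝓗)

include h

/-- in case (b2), `s` has no fixed points on `R`. -/
theorem b2_cRs (hb2 : ∀ x ∈ R, s * x = x * s → ∀ y ∈ Q, x * y = y * x) :
    ∀ x ∈ R, s * x = x * s → x = 1 := by
  have hPhR : commImg R s h.hRc h.hsR' ≤ R := by
    rintro _ ⟨x, hx, rfl⟩
    exact R.mul_mem (h.hsR' x hx) (R.inv_mem hx)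
  have hPhs : ∀ y ∈ commImg R s h.hRc h.hsR', s * y * s⁻¹ ∈ commImg R s h.hRc h.hsR' := by
    rintro _ ⟨x, hx, rfl⟩
    exact ⟨s * x * s⁻¹, h.hsR x hx, by group⟩
  have hPht : ∀ y ∈ commImg R s h.hRc h.hsR', t * y * t⁻¹ ∈ commImg R s h.hRc h.hsR' := by
    rintro _ ⟨x, hx, rfl⟩
    have hx' := h.htR x hx
    refine ⟨s * (t * x * t⁻¹)⁻¹ * s⁻¹, h.hsR _ (R.inv_mem hx'), ?_⟩
    have c1 : (t * x * t⁻¹)⁻¹ * (s * (t * x * t⁻¹) * s⁻¹)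
        = (s * (t * x * t⁻¹) * s⁻¹) * (t * x * t⁻¹)⁻¹ :=
      h.hRc _ (R.inv_mem hx') _ (h.hsR _ hx')
    calc t * (s⁻¹ * x * s * x⁻¹) * t⁻¹
        = (t * s⁻¹ * t⁻¹) * (t * x * t⁻¹) * (t * s⁻¹ * t⁻¹)⁻¹ * (t * x * t⁻¹)⁻¹ := by group
      _ = s * (t * x * t⁻¹) * s⁻¹ * (t * x * t⁻¹)⁻¹ := by rw [h.hts']
      _ = (t * x * t⁻¹)⁻¹ * (s * (t * x * t⁻¹) * s⁻¹) := c1.symm
      _ = s⁻¹ * (s * (t * x * t⁻¹)⁻¹ * s⁻¹) * s * (s * (t * x * t⁻¹)⁻¹ * s⁻¹)⁻¹ := by group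
  rcases h.hmin _ hPhR hPhs hPht with h0 | h0
  · intro x hx hsx
    let φ : R → R := fun x => ⟨s⁻¹ * x * s * (x : T)⁻¹,
      R.mul_mem (h.hsR' x x.2) (R.inv_mem x.2)⟩
    have hsurj : Function.Surjective φ := by
      rintro ⟨y, hy⟩
      have hy' : y ∈ commImg R s h.hRc h.hsR' := by rw [h0]; exact hy
      obtain ⟨x, hx, rfl⟩ := hy'
      exact ⟨⟨x, hx⟩, rfl⟩
    have hinj := Finite.injective_iff_surjective.2 hsurj
    have e : φ ⟨x, hx⟩ = φ ⟨1, R.one_mem⟩ := by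
      apply Subtype.ext
      show s⁻¹ * x * s * x⁻¹ = s⁻¹ * 1 * s * 1⁻¹
      have e1 : s⁻¹ * x * s = x := by
        rw [mul_assoc, ← hsx]; group
      rw [e1]; simp
    exact congrArg Subtype.val (hinj e)
  · exfalso
    have hR0R : R ⊓ Subgroup.centralizer (Q : Set T) ≤ R := inf_le_left
    have hmem : ∀ x, x ∈ R → (∀ y ∈ Q, x * y = y * x) →
        x ∈ R ⊓ Subgroup.centralizer (Q : Set T) := by
      intro x hx hxQ
      refine Subgroup.mem_inf.2 ⟨hx, ?_⟩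
      rw [Subgroup.mem_centralizer_iff]
      intro y hy; exact (hxQ y hy).symm
    have htm : Tm R (R ⊓ Subgroup.centralizer (Q : Set T)) s⁻¹ := by
      intro x hx
      rw [inv_inv]
      exact hmem _ (hPhR ⟨x, hx, rfl⟩) (h0 _ ⟨x, hx, rfl⟩)
    have hle : R ≤ R ⊓ Subgroup.centralizer (Q : Set T) := by
      apply av2 R _ ⊥ s⁻¹ hR0R h.hRc
      · intro k hk; rw [Subgroup.mem_bot.1 hk]; exact tm_one
      · exact htm
      · intro k hk; rw [Subgroup.mem_bot.1 hk]; simp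
      · rw [Subgroup.card_bot]; exact Nat.coprime_one_left _
      · rw [orderOf_inv, h.hs3]; exact h.cop3R
      · intro c hc _ hsc
        have h1 : Commute s⁻¹ c := hsc
        exact hmem c hc (hb2 c hc (Commute.inv_left_iff.1 h1))
    obtain ⟨x, hx, y, hy, hxy⟩ := h.hne
    have := (Subgroup.mem_centralizer_iff.1 (Subgroup.mem_inf.1 (hle hx)).2) y hy
    exact hxy this.symm

section b2

variable (hcRs : ∀ x ∈ R, s * x = x * s → x = 1)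

include hcRs

/-- if `s` and `t u`, `u ∈ R`, act trivially on `Q / Q0`, so does `t`. -/
theorem b2_claim4 {Q0 : Subgroup T} (hQ0 : Q0 ≤ Q) (hs : Tm Q Q0 s) {u : T} (hu : u ∈ R)
    (htu : Tm Q Q0 (t * u)) : Tm Q Q0 t := by
  have hsN : s ∈ trivMod Q Q0 hQ0 := hs
  have htuN : t * u ∈ trivMod Q Q0 hQ0 := htu
  have hMs : ∀ m ∈ trivMod Q Q0 hQ0 ⊓ R, s⁻¹ * m * s ∈ trivMod Q Q0 hQ0 ⊓ R := by
    intro m hm
    have hm' := Subgroup.mem_inf.1 hm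
    exact Subgroup.mem_inf.2 ⟨Subgroup.mul_mem _ (Subgroup.mul_mem _ (Subgroup.inv_mem _ hsN) hm'.1)
      hsN, h.hsR' m hm'.2⟩
  have hMfix : ∀ m ∈ trivMod Q Q0 hQ0 ⊓ R, s * m = m * s → m = 1 :=
    fun m hm => hcRs m (Subgroup.mem_inf.1 hm).2
  have hMt : ∀ m ∈ trivMod Q Q0 hQ0 ⊓ R, t * m * t⁻¹ ∈ trivMod Q Q0 hQ0 ⊓ R := by
    intro m hm
    have hm' := Subgroup.mem_inf.1 hm
    refine Subgroup.mem_inf.2 ⟨?_, h.htR m hm'.2⟩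
    have h1 : (t * u) * m * (t * u)⁻¹ ∈ trivMod Q Q0 hQ0 :=
      Subgroup.mul_mem _ (Subgroup.mul_mem _ htuN hm'.1) (Subgroup.inv_mem _ htuN)
    have e : (t * u) * m * (t * u)⁻¹ = t * (u * m * u⁻¹) * t⁻¹ := by group
    have e2 : u * m * u⁻¹ = m := by rw [h.hRc u hu m hm'.2]; group
    rwa [e, e2] at h1
  have hMt' : ∀ m ∈ trivMod Q Q0 hQ0 ⊓ R, t⁻¹ * m * t ∈ trivMod Q Q0 hQ0 ⊓ R :=
    conj_inv_mem hMt
  have hφuR : s⁻¹ * u * s * u⁻¹ ∈ R := R.mul_mem (h.hsR' u hu) (R.inv_mem hu)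
  have hw : t * (s⁻¹ * u * s * u⁻¹) * t⁻¹ ∈ trivMod Q Q0 hQ0 ⊓ R := by
    refine Subgroup.mem_inf.2 ⟨?_, h.htR _ hφuR⟩
    have h1 : s * ((t * u) * s * (t * u)⁻¹) ∈ trivMod Q Q0 hQ0 :=
      Subgroup.mul_mem _ hsN (Subgroup.mul_mem _ (Subgroup.mul_mem _ htuN hsN)
        (Subgroup.inv_mem _ htuN))
    have e : s * ((t * u) * s * (t * u)⁻¹) = t * ((t⁻¹ * s * t) * u * s * u⁻¹) * t⁻¹ := by group
    rwa [e, h.tst] at h1
  have hφu : s⁻¹ * u * s * u⁻¹ ∈ trivMod Q Q0 hQ0 ⊓ R := by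
    have h1 := hMt' _ hw
    have e : t⁻¹ * (t * (s⁻¹ * u * s * u⁻¹) * t⁻¹) * t = s⁻¹ * u * s * u⁻¹ := by group
    rwa [e] at h1
  obtain ⟨x, hxM, hx⟩ := exists_comm_eq hMs hMfix hφu
  have hxR := (Subgroup.mem_inf.1 hxM).2
  have hxu : x * u = 1 := by
    apply hcRs _ (R.mul_mem hxR hu)
    have e1 : u * s * u⁻¹ = x⁻¹ * s * x := by
      have h2 := congrArg (fun w => s * w) hx
      simpa [mul_assoc] using h2
    calc s * (x * u) = x * (x⁻¹ * s * x) * u := by group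
      _ = x * (u * s * u⁻¹) * u := by rw [e1]
      _ = (x * u) * s := by group
  have huN : u ∈ trivMod Q Q0 hQ0 := by
    have e : u = x⁻¹ := eq_inv_of_mul_eq_one_right hxu
    rw [e]; exact Subgroup.inv_mem _ (Subgroup.mem_inf.1 hxM).1
  have e : t = (t * u) * u⁻¹ := by group
  show t ∈ trivMod Q Q0 hQ0
  rw [e]; exact Subgroup.mul_mem _ htuN (Subgroup.inv_mem _ huN)

include f

/-- no member of `𝓗` is centralized modulo by `s`. -/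
theorem b2_caseA {Q0 : Subgroup T} (hQ0 : Q0 ∈ 𝓗) (hs : Tm Q Q0 s) : False := by
  have hle := h.fam_le f hQ0
  have key : ∀ x ∈ R, Tm Q Q0 (x⁻¹ * s * x) := by
    intro x hx
    have hxQ0 : cj x Q0 ∈ 𝓗 := f.hinv Q0 hQ0 x (Or.inl hx)
    rcases h.star_cases f hxQ0 with h1 | ⟨c, hc, h1⟩
    · exact h.tm_of_cj f hx h1
    · exfalso
      have h2 := h.tm_of_cj f hx h1
      have hcN : Tm Q Q0 c := h.tm_rot hle hs hc
      have h3 : Tm Q Q0 (c⁻¹ * (x⁻¹ * (c * t * c⁻¹) * x) * c) :=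
        tm_mul hle (tm_mul hle (tm_inv hle hcN) h2) hcN
      have hx' : c⁻¹ * x * c ∈ R := h.rot_conj' h.hsR hc x hx
      have e : c⁻¹ * (x⁻¹ * (c * t * c⁻¹) * x) * c
          = t * (t⁻¹ * (c⁻¹ * x * c)⁻¹ * t * (c⁻¹ * x * c)) := by group
      rw [e] at h3
      have hu : t⁻¹ * (c⁻¹ * x * c)⁻¹ * t * (c⁻¹ * x * c) ∈ R :=
        R.mul_mem (h.htR' _ (R.inv_mem hx')) hx'
      have ht := h.b2_claim4 hcRs hle hs hu h3
      exact h.fam_not_le f hQ0 (h.kst hle hs ht)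
  apply h.fam_not_le f hQ0
  apply h.kb hle
  intro y hy
  obtain ⟨x, hx, rfl⟩ := exists_comm_eq h.hsR' hcRs hy
  have e : s⁻¹ * x⁻¹ * s * x = s⁻¹ * (x⁻¹ * s * x) := by group
  rw [e]
  exact tm_mul hle (tm_inv hle hs) (key x hx)

/-- no element of `s R` acts trivially modulo a member of `𝓗`. -/
theorem b2_no_sr (hB : ∀ Q0 ∈ 𝓗, ¬ Tm Q Q0 s) {Q0 : Subgroup T} (hQ0 : Q0 ∈ 𝓗) {r : T}
    (hr : r ∈ R) : ¬ Tm Q Q0 (s * r) := by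
  intro hsr
  obtain ⟨z, hz, hrz⟩ := exists_comm_eq h.hsR' hcRs hr
  have e : s * r = z⁻¹ * s * z := by rw [hrz]; group
  rw [e] at hsr
  have h1 := tm_conj (n := z) hsr (h.hRQ' z hz)
  have e2 : z * (z⁻¹ * s * z) * z⁻¹ = s := by group
  rw [e2] at h1
  exact hB _ (f.hinv Q0 hQ0 z (Or.inl hz)) h1

end b2

end CoreB

end Cfsg.Agent.Lib.Helper3.S3B
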