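import Mathlib
import Cfsg.Agent.Lib.Helper3.S3B4

/-!
# S4305, case (b): end of the case where `s` has no fixed points on `R`, and the core theorem
-/

set_option autoImplicit false
set_option linter.unusedSectionVars false
set_option linter.unusedVariables false

namespace Cfsg.Agent.Lib.Helper3.S3B

open Cfsg.Agent.Lib.Helper8.Ward

universe w

variable {T : Type w} [Group T] [Finite T]

namespace CoreB

variable {Q R : Subgroup T} {s t : T} (h : CoreB Q R s t) {𝓗 : Set (Subgroup T)}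
  (f : Fam Q R s t 𝓗)

include h f

/-- the case where `t` acts trivially modulo a member of `𝓗`, and `s` modulo none. -/
theorem b2_caseB (hcRs : ∀ x ∈ R, s * x = x * s → x = 1) (hB : ∀ Q0 ∈ 𝓗, ¬ Tm Q Q0 s)
    (hne𝓗 : 𝓗.Nonempty) : False := by
  obtain ⟨Q0, hQ0, ht, hdata⟩ := h.caseB_data f hB hne𝓗
  have hle := h.fam_le f hQ0
  -- all the further elements are conjugates of `t`
  have hψ : ∀ x ∈ R, Tm Q Q0 (t * x⁻¹ * t⁻¹ * x) := by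
    intro x hx
    obtain ⟨c, hc, hg⟩ := hdata x hx
    have hx1 : t * x⁻¹ * t⁻¹ ∈ R := h.htR _ (R.inv_mem hx)
    rcases hc with hc | hc | hc
    · rw [hc, mul_one] at hg
      exact hg
    · exfalso
      rw [hc] at hg
      have e : t * x⁻¹ * t⁻¹ * s * x = s * ((s⁻¹ * (t * x⁻¹ * t⁻¹) * s) * x) := by group
      rw [e] at hg
      exact h.b2_no_sr f hcRs hB hQ0 (R.mul_mem (h.hsR' _ hx1) hx) hg
    · exfalso
      rw [hc] at hg
      have hg' := tm_inv hle hg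
      have e : (t * x⁻¹ * t⁻¹ * s⁻¹ * x)⁻¹
          = s * ((s⁻¹ * x⁻¹ * s) * (t * x⁻¹ * t⁻¹)⁻¹) := by group
      rw [e] at hg'
      exact h.b2_no_sr f hcRs hB hQ0
        (R.mul_mem (h.hsR' _ (R.inv_mem hx)) (R.inv_mem hx1)) hg'
  have htN : t ∈ trivMod Q Q0 hle := ht
  have hN0R : trivMod Q Q0 hle ⊓ R ≤ R := inf_le_right
  have hψN0 : ∀ x ∈ R, t * x⁻¹ * t⁻¹ * x ∈ trivMod Q Q0 hle ⊓ R := fun x hx =>
    Subgroup.mem_inf.2 ⟨hψ x hx, R.mul_mem (h.htR _ (R.inv_mem hx)) hx⟩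
  -- the subgroup `M' = N0 (s N0 s⁻¹)` is all of `R`
  have hM'R : (trivMod Q Q0 hle ⊓ R) ⊔ cj s (trivMod Q Q0 hle ⊓ R) ≤ R :=
    sup_le hN0R (cj_le hN0R h.hsR)
  have hM't : ∀ m ∈ (trivMod Q Q0 hle ⊓ R) ⊔ cj s (trivMod Q Q0 hle ⊓ R),
      t * m * t⁻¹ ∈ (trivMod Q Q0 hle ⊓ R) ⊔ cj s (trivMod Q Q0 hle ⊓ R) := by
    intro m hm
    have h1 : t * m⁻¹⁻¹ * t⁻¹ * m⁻¹ ∈ (trivMod Q Q0 hle ⊓ R) ⊔ cj s (trivMod Q Q0 hle ⊓ R) :=
      Subgroup.mem_sup_left (hψN0 m⁻¹ (R.inv_mem (hM'R hm)))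
    have e : t * m * t⁻¹ = (t * m⁻¹⁻¹ * t⁻¹ * m⁻¹) * m := by group
    rw [e]
    exact Subgroup.mul_mem _ h1 hm
  have hM't' : ∀ m ∈ (trivMod Q Q0 hle ⊓ R) ⊔ cj s (trivMod Q Q0 hle ⊓ R),
      (s * t * s⁻¹) * m * (s * t * s⁻¹)⁻¹ ∈
        (trivMod Q Q0 hle ⊓ R) ⊔ cj s (trivMod Q Q0 hle ⊓ R) := by
    intro m hm
    have hmR := hM'R hm
    have hm1 : s⁻¹ * m * s ∈ R := h.hsR' m hmR
    have h1 : s * (t * (s⁻¹ * m * s)⁻¹⁻¹ * t⁻¹ * (s⁻¹ * m * s)⁻¹) * s⁻¹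
        ∈ cj s (trivMod Q Q0 hle ⊓ R) := by
      rw [mem_cj]
      have h2 := hψN0 (s⁻¹ * m * s)⁻¹ (R.inv_mem hm1)
      have e : s⁻¹ * (s * (t * (s⁻¹ * m * s)⁻¹⁻¹ * t⁻¹ * (s⁻¹ * m * s)⁻¹) * s⁻¹) * s
          = t * (s⁻¹ * m * s)⁻¹⁻¹ * t⁻¹ * (s⁻¹ * m * s)⁻¹ := by group
      rw [e]; exact h2
    have e : (s * t * s⁻¹) * m * (s * t * s⁻¹)⁻¹
        = (s * (t * (s⁻¹ * m * s)⁻¹⁻¹ * t⁻¹ * (s⁻¹ * m * s)⁻¹) * s⁻¹) * m := by group
    rw [e]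
    exact Subgroup.mul_mem _ (Subgroup.mem_sup_right h1) hm
  have hM'ss : ∀ m ∈ (trivMod Q Q0 hle ⊓ R) ⊔ cj s (trivMod Q Q0 hle ⊓ R),
      (s * s) * m * (s * s)⁻¹ ∈ (trivMod Q Q0 hle ⊓ R) ⊔ cj s (trivMod Q Q0 hle ⊓ R) := by
    intro m hm
    have h1 := hM't' _ (hM't m hm)
    have e : (s * t * s⁻¹) * (t * m * t⁻¹) * (s * t * s⁻¹)⁻¹
        = (s * (t * s⁻¹ * t⁻¹)) * ((t * t) * m * (t * t)⁻¹) * (s * (t * s⁻¹ * t⁻¹))⁻¹ := by group
    rw [e, h.hts', h.t2, one_mul, inv_one, mul_one] at h1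
    exact h1
  have hM's : ∀ m ∈ (trivMod Q Q0 hle ⊓ R) ⊔ cj s (trivMod Q Q0 hle ⊓ R),
      s * m * s⁻¹ ∈ (trivMod Q Q0 hle ⊓ R) ⊔ cj s (trivMod Q Q0 hle ⊓ R) := by
    intro m hm
    have h1 := hM'ss _ (hM'ss m hm)
    have e : (s * s) * ((s * s) * m * (s * s)⁻¹) * (s * s)⁻¹
        = ((s * (s * s)) * s) * m * ((s * (s * s)) * s)⁻¹ := by group
    rw [e, h.sss, one_mul] at h1
    exact h1
  have hM'eq : (trivMod Q Q0 hle ⊓ R) ⊔ cj s (trivMod Q Q0 hle ⊓ R) = R := by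
    rcases h.hmin _ hM'R hM's hM't with h0 | h0
    · exact h0
    · exfalso
      have hR0R : R ⊓ Subgroup.centralizer (Q : Set T) ≤ R := inf_le_left
      have hmem : ∀ x, x ∈ (trivMod Q Q0 hle ⊓ R) ⊔ cj s (trivMod Q Q0 hle ⊓ R) →
          x ∈ R ⊓ Subgroup.centralizer (Q : Set T) := by
        intro x hx
        refine Subgroup.mem_inf.2 ⟨hM'R hx, ?_⟩
        rw [Subgroup.mem_centralizer_iff]
        intro y hy; exact (h0 x hx y hy).symm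
      have htm1 : Tm R (R ⊓ Subgroup.centralizer (Q : Set T)) t := by
        intro x hx
        have h2 := hψN0 x⁻¹ (R.inv_mem hx)
        rw [inv_inv] at h2
        exact hmem _ (Subgroup.mem_sup_left h2)
      have htm2 : Tm R (R ⊓ Subgroup.centralizer (Q : Set T)) (s * t * s⁻¹) := by
        intro x hx
        apply hmem
        apply Subgroup.mem_sup_right
        rw [mem_cj]
        have hx1 := h.hsR' x hx
        have h2 := hψN0 (s⁻¹ * x * s)⁻¹ (R.inv_mem hx1)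
        rw [inv_inv] at h2
        have e : s⁻¹ * (s * t * s⁻¹ * x * (s * t * s⁻¹)⁻¹ * x⁻¹) * s
            = t * (s⁻¹ * x * s) * t⁻¹ * (s⁻¹ * x * s)⁻¹ := by group
        rw [e]; exact h2
      have htm3 : Tm R (R ⊓ Subgroup.centralizer (Q : Set T)) (s * s) := by
        have h2 := tm_mul hR0R htm2 htm1
        have e : s * t * s⁻¹ * t = s * (t * s⁻¹ * t⁻¹) * (t * t) := by group
        rw [e, h.hts', h.t2, mul_one] at h2
        exact h2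
      have htm4 : Tm R (R ⊓ Subgroup.centralizer (Q : Set T)) s := by
        have h2 := tm_mul hR0R htm3 htm3
        have e : s * s * (s * s) = (s * (s * s)) * s := by group
        rw [e, h.sss, one_mul] at h2
        exact h2
      have hle' : R ≤ R ⊓ Subgroup.centralizer (Q : Set T) := tm_fpf hR0R htm4 hcRs
      obtain ⟨x, hx, y, hy, hxy⟩ := h.hne
      have h3 := (Subgroup.mem_centralizer_iff.1 (Subgroup.mem_inf.1 (hle' hx)).2) y hy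
      exact hxy h3.symm
  -- fixed points of `N0` and of `s N0 s⁻¹`
  have P1 : ∀ y ∈ Q, (∀ l ∈ trivMod Q Q0 hle ⊓ R, l * y = y * l) →
      (∀ l ∈ trivMod Q Q0 hle ⊓ R, (s * l * s⁻¹) * y = y * (s * l * s⁻¹)) → y = 1 := by
    intro y hy h1 h2
    apply h.cQR y hy
    have hle' : (trivMod Q Q0 hle ⊓ R) ⊔ cj s (trivMod Q Q0 hle ⊓ R)
        ≤ Subgroup.centralizer ({y} : Set T) := by
      apply sup_le
      · intro l hl
        rw [Subgroup.mem_centralizer_iff]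
        rintro _ rfl
        exact (h1 l hl).symm
      · rintro _ ⟨l, hl, rfl⟩
        rw [Subgroup.mem_centralizer_iff]
        rintro _ rfl
        simp only [MulEquiv.coe_toMonoidHom, MulAut.conj_apply]
        exact (h2 l hl).symm
    intro x hx
    have hx' : x ∈ (trivMod Q Q0 hle ⊓ R) ⊔ cj s (trivMod Q Q0 hle ⊓ R) := by
      rw [hM'eq]; exact hx
    exact ((Subgroup.mem_centralizer_iff.1 (hle' hx')) y rfl).symm
  have P2 : ∀ y ∈ Q,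
      (∀ l ∈ trivMod Q Q0 hle ⊓ R, (s * l * s⁻¹) * y = y * (s * l * s⁻¹)) →
      (∀ l ∈ trivMod Q Q0 hle ⊓ R, (s⁻¹ * l * s) * y = y * (s⁻¹ * l * s)) → y = 1 := by
    intro y hy h1 h2
    have hy' : s⁻¹ * y * s ∈ Q := h.hsQ' y hy
    have h3 : s⁻¹ * y * s = 1 := by
      apply P1 _ hy'
      · intro l hl
        have h4 := h1 l hl
        calc l * (s⁻¹ * y * s) = s⁻¹ * ((s * l * s⁻¹) * y) * s := by group
          _ = s⁻¹ * (y * (s * l * s⁻¹)) * s := by rw [h4]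
          _ = s⁻¹ * y * s * l := by group
      · intro l hl
        have h4 := h2 l hl
        have e1 : s * l * s⁻¹ = s⁻¹ * (s⁻¹ * l * s) * s := by
          calc s * l * s⁻¹ = (s⁻¹ * s⁻¹) * l * (s * s) := by rw [h.sinv2, ← h.sinv]
            _ = s⁻¹ * (s⁻¹ * l * s) * s := by group
        calc s * l * s⁻¹ * (s⁻¹ * y * s) = s⁻¹ * ((s⁻¹ * l * s) * y) * s := by rw [e1]; group
          _ = s⁻¹ * (y * (s⁻¹ * l * s)) * s := by rw [h4]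
          _ = s⁻¹ * y * s * (s * l * s⁻¹) := by rw [e1]; group
    have e : y = s * (s⁻¹ * y * s) * s⁻¹ := by group
    rw [e, h3]; group
  -- the common fixed points of `N0` and `t` on `Q`
  have F4 : ∀ y ∈ Q, (∀ l ∈ trivMod Q Q0 hle ⊓ R, l * y = y * l) → t * y = y * t → y = 1 := by
    intro y hy hyN hyt
    have hAQ : s * y * s⁻¹ ∈ Q := h.hsQ y hy
    have hBQ : s⁻¹ * y * s ∈ Q := h.hsQ' y hy
    have ty : t * y * t⁻¹ = y := by rw [hyt]; group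
    have sA : s * (s * y * s⁻¹) * s⁻¹ = s⁻¹ * y * s := by
      calc s * (s * y * s⁻¹) * s⁻¹ = (s * s) * y * (s⁻¹ * s⁻¹) := by group
        _ = s⁻¹ * y * s := by rw [← h.sinv, h.sinv2]
    have sB : s * (s⁻¹ * y * s) * s⁻¹ = y := by group
    have tA : t * (s * y * s⁻¹) * t⁻¹ = s⁻¹ * y * s := by
      calc t * (s * y * s⁻¹) * t⁻¹ = (t * s * t⁻¹) * (t * y * t⁻¹) * (t * s * t⁻¹)⁻¹ := by group
        _ = s⁻¹ * y * s := by rw [h.hts, ty, inv_inv]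
    have tB : t * (s⁻¹ * y * s) * t⁻¹ = s * y * s⁻¹ := by
      calc t * (s⁻¹ * y * s) * t⁻¹
          = (t * s⁻¹ * t⁻¹) * (t * y * t⁻¹) * (t * s⁻¹ * t⁻¹)⁻¹ := by group
        _ = s * y * s⁻¹ := by rw [h.hts', ty]
    have hprod : y * (s * y * s⁻¹) * (s⁻¹ * y * s) = 1 := by
      have hP : y * (s * y * s⁻¹) * (s⁻¹ * y * s) ∈ Q := Q.mul_mem (Q.mul_mem hy hAQ) hBQ
      apply h.hfixQ _ hP
      · have e1 : s * (y * (s * y * s⁻¹) * (s⁻¹ * y * s)) * s⁻¹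
            = (s * y * s⁻¹) * (s * (s * y * s⁻¹) * s⁻¹) * (s * (s⁻¹ * y * s) * s⁻¹) := by group
        rw [sA, sB] at e1
        have e2 : (s * y * s⁻¹) * (s⁻¹ * y * s) * y = y * (s * y * s⁻¹) * (s⁻¹ * y * s) :=
          (h.hQc _ (Q.mul_mem hAQ hBQ) y hy).trans (mul_assoc _ _ _).symm
        rw [e2] at e1
        have e3 : s * (y * (s * y * s⁻¹) * (s⁻¹ * y * s))
            = (s * (y * (s * y * s⁻¹) * (s⁻¹ * y * s)) * s⁻¹) * s := by group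
        rw [e3, e1]
      · have e1 : t * (y * (s * y * s⁻¹) * (s⁻¹ * y * s)) * t⁻¹
            = (t * y * t⁻¹) * (t * (s * y * s⁻¹) * t⁻¹) * (t * (s⁻¹ * y * s) * t⁻¹) := by group
        rw [ty, tA, tB] at e1
        have e2 : y * (s⁻¹ * y * s) * (s * y * s⁻¹) = y * (s * y * s⁻¹) * (s⁻¹ * y * s) := by
          rw [mul_assoc, h.hQc _ hBQ _ hAQ, ← mul_assoc]
        rw [e2] at e1
        have e3 : t * (y * (s * y * s⁻¹) * (s⁻¹ * y * s))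
            = (t * (y * (s * y * s⁻¹) * (s⁻¹ * y * s)) * t⁻¹) * t := by group
        rw [e3, e1]
    -- `A = s y s⁻¹` commutes with `N0`
    have hAN : ∀ l ∈ trivMod Q Q0 hle ⊓ R, l * (s * y * s⁻¹) = (s * y * s⁻¹) * l := by
      intro l hl
      have hlR : l ∈ R := (Subgroup.mem_inf.1 hl).2
      have hly : l * y * l⁻¹ = y := by rw [hyN l hl]; group
      have hA'Q : l * (s * y * s⁻¹) * l⁻¹ ∈ Q := h.hRQ l hlR _ hAQ
      have hB'Q : l * (s⁻¹ * y * s) * l⁻¹ ∈ Q := h.hRQ l hlR _ hBQ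
      have e1 : y * (l * (s * y * s⁻¹) * l⁻¹) * (l * (s⁻¹ * y * s) * l⁻¹) = 1 := by
        calc y * (l * (s * y * s⁻¹) * l⁻¹) * (l * (s⁻¹ * y * s) * l⁻¹)
            = (l * y * l⁻¹) * (l * (s * y * s⁻¹) * l⁻¹) * (l * (s⁻¹ * y * s) * l⁻¹) := by rw [hly]
          _ = l * (y * (s * y * s⁻¹) * (s⁻¹ * y * s)) * l⁻¹ := by group
          _ = 1 := by rw [hprod]; group
      have e2 : (l * (s * y * s⁻¹) * l⁻¹) * (l * (s⁻¹ * y * s) * l⁻¹)
          = (s * y * s⁻¹) * (s⁻¹ * y * s) := by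
        have e3 : y * ((l * (s * y * s⁻¹) * l⁻¹) * (l * (s⁻¹ * y * s) * l⁻¹))
            = y * ((s * y * s⁻¹) * (s⁻¹ * y * s)) := by
          rw [(mul_assoc y _ _).symm, e1, (mul_assoc y _ _).symm, hprod]
        exact mul_left_cancel e3
      -- `z = A' A⁻¹ = B B'⁻¹`
      have ez : (l * (s * y * s⁻¹) * l⁻¹) * (s * y * s⁻¹)⁻¹
          = (s⁻¹ * y * s) * (l * (s⁻¹ * y * s) * l⁻¹)⁻¹ := by
        have e4 : l * (s * y * s⁻¹) * l⁻¹
            = (s * y * s⁻¹) * (s⁻¹ * y * s) * (l * (s⁻¹ * y * s) * l⁻¹)⁻¹ :=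
          eq_mul_inv_of_mul_eq e2
        have hW : (s⁻¹ * y * s) * (l * (s⁻¹ * y * s) * l⁻¹)⁻¹ ∈ Q :=
          Q.mul_mem hBQ (Q.inv_mem hB'Q)
        have e5 := h.hQc _ hAQ _ hW
        rw [e4, mul_assoc (s * y * s⁻¹), e5]; group
      have hzQ : (l * (s * y * s⁻¹) * l⁻¹) * (s * y * s⁻¹)⁻¹ ∈ Q :=
        Q.mul_mem hA'Q (Q.inv_mem hAQ)
      have hz1 : (l * (s * y * s⁻¹) * l⁻¹) * (s * y * s⁻¹)⁻¹ = 1 := by
        apply P2 _ hzQ
        · intro l' hl'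
          have hl'R : l' ∈ R := (Subgroup.mem_inf.1 hl').2
          have hmR : s * l' * s⁻¹ ∈ R := h.hsR l' hl'R
          have hml : Commute (s * l' * s⁻¹) l := h.hRc _ hmR _ hlR
          have hmA : Commute (s * l' * s⁻¹) (s * y * s⁻¹) := by
            show s * l' * s⁻¹ * (s * y * s⁻¹) = s * y * s⁻¹ * (s * l' * s⁻¹)
            have e6 : s * l' * s⁻¹ * (s * y * s⁻¹) = s * (l' * y) * s⁻¹ := by group
            have e7 : s * y * s⁻¹ * (s * l' * s⁻¹) = s * (y * l') * s⁻¹ := by group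
            rw [e6, e7, hyN l' hl']
          exact ((hml.mul_right hmA).mul_right hml.inv_right).mul_right hmA.inv_right
        · intro l' hl'
          rw [ez]
          have hl'R : l' ∈ R := (Subgroup.mem_inf.1 hl').2
          have hmR : s⁻¹ * l' * s ∈ R := h.hsR' l' hl'R
          have hml : Commute (s⁻¹ * l' * s) l := h.hRc _ hmR _ hlR
          have hmB : Commute (s⁻¹ * l' * s) (s⁻¹ * y * s) := by
            show s⁻¹ * l' * s * (s⁻¹ * y * s) = s⁻¹ * y * s * (s⁻¹ * l' * s)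
            have e6 : s⁻¹ * l' * s * (s⁻¹ * y * s) = s⁻¹ * (l' * y) * s := by group
            have e7 : s⁻¹ * y * s * (s⁻¹ * l' * s) = s⁻¹ * (y * l') * s := by group
            rw [e6, e7, hyN l' hl']
          exact hmB.mul_right ((hml.mul_right hmB).mul_right hml.inv_right).inv_right
      have e8 : l * (s * y * s⁻¹) * l⁻¹ = s * y * s⁻¹ := mul_inv_eq_one.1 hz1
      calc l * (s * y * s⁻¹) = (l * (s * y * s⁻¹) * l⁻¹) * l := by group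
        _ = (s * y * s⁻¹) * l := by rw [e8]
    have hA1 : s * y * s⁻¹ = 1 := by
      apply P1 _ hAQ hAN
      intro l hl
      show s * l * s⁻¹ * (s * y * s⁻¹) = s * y * s⁻¹ * (s * l * s⁻¹)
      have e6 : s * l * s⁻¹ * (s * y * s⁻¹) = s * (l * y) * s⁻¹ := by group
      have e7 : s * y * s⁻¹ * (s * l * s⁻¹) = s * (y * l) * s⁻¹ := by group
      rw [e6, e7, hyN l hl]
    have e : y = s⁻¹ * (s * y * s⁻¹) * s := by group
    rw [e, hA1]; group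
  -- conclusion by averaging
  apply h.fam_not_le f hQ0
  apply av2 Q Q0 (trivMod Q Q0 hle ⊓ R) t hle h.hQc
  · intro k hk; exact (Subgroup.mem_inf.1 hk).1
  · exact ht
  · intro k hk
    have hk' := Subgroup.mem_inf.1 hk
    exact Subgroup.mem_inf.2 ⟨Subgroup.mul_mem _ (Subgroup.mul_mem _ (Subgroup.inv_mem _ htN) hk'.1)
      htN, h.htR' k hk'.2⟩
  · exact Nat.Coprime.coprime_dvd_left (Subgroup.card_dvd_of_le hN0R) h.hQR.symm
  · rw [h.ht2]; exact h.cop2Q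
  · intro c hc hcN hct
    rw [F4 c hc hcN hct]; exact Q0.one_mem

/-- the configuration of case (b) together with a family `𝓗` is contradictory. -/
theorem false_of_fam (hne𝓗 : 𝓗.Nonempty) : False := by
  -- `C_R(s)` is invariant
  have hCR : R ⊓ Subgroup.centralizer ({s} : Set T) ≤ R := inf_le_left
  have hmem : ∀ x, x ∈ R ⊓ Subgroup.centralizer ({s} : Set T) ↔ x ∈ R ∧ s * x = x * s := by
    intro x
    rw [Subgroup.mem_inf, Subgroup.mem_centralizer_iff]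
    constructor
    · rintro ⟨h1, h2⟩
      exact ⟨h1, h2 s rfl⟩
    · rintro ⟨h1, h2⟩
      refine ⟨h1, ?_⟩
      rintro _ rfl
      exact h2
  have hCs : ∀ y ∈ R ⊓ Subgroup.centralizer ({s} : Set T),
      s * y * s⁻¹ ∈ R ⊓ Subgroup.centralizer ({s} : Set T) := by
    intro y hy
    rw [hmem] at hy ⊢
    have e : s * y * s⁻¹ = y := by rw [hy.2]; group
    rw [e]; exact hy
  have hCt : ∀ y ∈ R ⊓ Subgroup.centralizer ({s} : Set T),
      t * y * t⁻¹ ∈ R ⊓ Subgroup.centralizer ({s} : Set T) := by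
    intro y hy
    rw [hmem] at hy ⊢
    refine ⟨h.htR y hy.1, ?_⟩
    have h1 : Commute s⁻¹ y := Commute.inv_left_iff.2 hy.2
    calc s * (t * y * t⁻¹) = t * ((t⁻¹ * s * t) * y) * t⁻¹ := by group
      _ = t * (s⁻¹ * y) * t⁻¹ := by rw [h.tst]
      _ = t * (y * s⁻¹) * t⁻¹ := by rw [h1.eq]
      _ = (t * y * t⁻¹) * (t * s⁻¹ * t⁻¹) := by group
      _ = (t * y * t⁻¹) * s := by rw [h.hts']
  rcases h.hmin _ hCR hCs hCt with h0 | h0
  · -- (b1)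
    apply h.b1_false f _ hne𝓗
    intro x hx
    have hx' : x ∈ R ⊓ Subgroup.centralizer ({s} : Set T) := by rw [h0]; exact hx
    exact ((hmem x).1 hx').2
  · -- (b2)
    have hcRs := h.b2_cRs (fun x hx hsx => h0 x ((hmem x).2 ⟨hx, hsx⟩))
    by_cases hA : ∃ Q0 ∈ 𝓗, Tm Q Q0 s
    · obtain ⟨Q0, hQ0, hs⟩ := hA
      exact h.b2_caseA f hcRs hQ0 hs
    · push Not at hA
      exact h.b2_caseB f hcRs hA hne𝓗

end CoreB

/-- **Case (b), group-theoretic core.** -/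
theorem caseB_core {T : Type*} [Group T] [Finite T] (Q R : Subgroup T) (s t : T)
    (hs3 : orderOf s = 3) (ht2 : orderOf t = 2) (hts : t * s * t⁻¹ = s⁻¹)
    (hQc : ∀ x ∈ Q, ∀ y ∈ Q, x * y = y * x) (hRc : ∀ x ∈ R, ∀ y ∈ R, x * y = y * x)
    (hQ6 : (Nat.card Q).Coprime 6) (hR6 : (Nat.card R).Coprime 6)
    (hQR : (Nat.card Q).Coprime (Nat.card R))
    (hRQ : ∀ x ∈ R, ∀ y ∈ Q, x * y * x⁻¹ ∈ Q)
    (hsQ : ∀ y ∈ Q, s * y * s⁻¹ ∈ Q) (htQ : ∀ y ∈ Q, t * y * t⁻¹ ∈ Q)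
    (hsR : ∀ y ∈ R, s * y * s⁻¹ ∈ R) (htR : ∀ y ∈ R, t * y * t⁻¹ ∈ R)
    (hfixQ : ∀ y ∈ Q, s * y = y * s → t * y = y * t → y = 1)
    (hfixR : ∀ y ∈ R, s * y = y * s → t * y = y * t → y = 1)
    (hirr : ∀ Q1 : Subgroup T, Q1 ≤ Q → (∀ x ∈ R, ∀ y ∈ Q1, x * y * x⁻¹ ∈ Q1) →
      (∀ y ∈ Q1, s * y * s⁻¹ ∈ Q1) → (∀ y ∈ Q1, t * y * t⁻¹ ∈ Q1) → Q1 = ⊥ ∨ Q1 = Q)
    (hmin : ∀ R1 : Subgroup T, R1 ≤ R → (∀ y ∈ R1, s * y * s⁻¹ ∈ R1) →
      (∀ y ∈ R1, t * y * t⁻¹ ∈ R1) → R1 = R ∨ ∀ x ∈ R1, ∀ y ∈ Q, x * y = y * x)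
    (hne : ∃ x ∈ R, ∃ y ∈ Q, x * y ≠ y * x)
    (𝓗 : Set (Subgroup T)) (h𝓗 : 𝓗.Nonempty) (hlt : ∀ Q0 ∈ 𝓗, Q0 < Q)
    (hinv : ∀ Q0 ∈ 𝓗, ∀ g : T, (g ∈ R ∨ g = s ∨ g = t) →
      Q0.map (MulAut.conj g).toMonoidHom ∈ 𝓗)
    (hstar : ∀ Q0 ∈ 𝓗, ∃ a ∈ Subgroup.closure {s, t}, a ≠ 1 ∧
      ∀ y ∈ Q, a * y * a⁻¹ * y⁻¹ ∈ Q0) : False := by
  have h : CoreB Q R s t :=
    ⟨hs3, ht2, hts, hQc, hRc, hQ6, hR6, hQR, hRQ, hsQ, htQ, hsR, htR, hfixQ, hfixR, hirr, hmin, hne⟩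
  have f : Fam Q R s t 𝓗 := ⟨hlt, hinv, hstar⟩
  exact h.false_of_fam f h𝓗

end Cfsg.Agent.Lib.Helper3.S3B
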