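import Mathlib
import Cfsg.Agent.Lib.Lead.S3Defs
import Cfsg.Agent.Lib.Lead.S3Basic
import Cfsg.Agent.Lib.Helper3.S3B5
import Cfsg.Agent.Lib.Helper8.S3BFam
import Cfsg.Agent.Lib.Helper9.S3B0

/-!
# S4305, case (b): the critical configuration with `H = Q R` is contradictory
-/

set_option autoImplicit false

namespace Cfsg.Agent.Lib.Helper3.S3B

open Cfsg.Agent.Lib.Lead.S3

universe u w

variable {V : Type u} [AddCommGroup V] [Finite V] {T : Type w} [Group T] [Finite T]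
  [DistribMulAction T V] {p : ℕ} {H : Subgroup T} {s t : T}

/-- **P-b** (plan §3: `H = QR`). -/
theorem crit_split_false (h : Crit V p H s t) (hmin : MinNonab H s t)
    (hnab : ¬ ∀ x ∈ H, ∀ y ∈ H, x * y = y * x)
    {q r : ℕ} (hq : q.Prime) (hr : r.Prime) (hqr : q ≠ r) (hqp : q ≠ p) {Q R : Subgroup T}
    (hQn : Q.Normal) (hQH : Q ≤ H) (hRH : R ≤ H) (hQq : IsPGroup q Q) (hRr : IsPGroup r R)
    (hQc : ∀ x ∈ Q, ∀ y ∈ Q, x * y = y * x)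
    (hRs : ∀ x ∈ R, s * x * s⁻¹ ∈ R) (hRt : ∀ x ∈ R, t * x * t⁻¹ ∈ R) (hQR : Q ⊔ R = H)
    (hQ1 : Q ≠ ⊥) : False := by
  obtain ⟨hRc, hne, hQe, hirr, hminR⟩ :=
    Cfsg.Agent.Lib.Helper9.S3B0.caseB_setup h hmin hnab hq hr hqr hQn hQH hRH hQq hRr hQc hRs hRt
      hQR hQ1
  obtain ⟨𝓗, h𝓗, hlt, hinv, hstar⟩ :=
    Cfsg.Agent.Lib.Helper8.S3BFam.exists_family h hq hqp hQn hQH hQq hQc hQ1 hQe
  have hQ6 : (Nat.card Q).Coprime 6 :=
    Nat.Coprime.coprime_dvd_left (Subgroup.card_dvd_of_le hQH) h.hcop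
  have hR6 : (Nat.card R).Coprime 6 :=
    Nat.Coprime.coprime_dvd_left (Subgroup.card_dvd_of_le hRH) h.hcop
  have hcopQR : (Nat.card Q).Coprime (Nat.card R) := by
    have : Fact q.Prime := ⟨hq⟩
    have : Fact r.Prime := ⟨hr⟩
    obtain ⟨n, hn⟩ := IsPGroup.exists_card_eq hQq
    obtain ⟨m, hm⟩ := IsPGroup.exists_card_eq hRr
    rw [hn, hm]
    exact Nat.Coprime.pow _ _ ((Nat.coprime_primes hq hr).2 hqr)
  exact caseB_core Q R s t h.orderOf_s h.orderOf_t h.hts hQc hRc hQ6 hR6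
    hcopQR (fun x _ y hy => hQn.conj_mem y hy x) (fun y hy => hQn.conj_mem y hy s)
    (fun y hy => hQn.conj_mem y hy t) hRs hRt
    (fun y hy => h.hfpfH y (hQH hy)) (fun y hy => h.hfpfH y (hRH hy)) hirr hminR hne
    𝓗 h𝓗 hlt (fun Q0 hQ0 g _ => hinv Q0 hQ0 g) hstar

end Cfsg.Agent.Lib.Helper3.S3B
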