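import Mathlib
import Cfsg.Prelude
import Cfsg.Agent.Lib.Helper9.OrthNM5
import Cfsg.Agent.Lib.Helper9.OrthMax2

set_option autoImplicit false
set_option linter.unusedSectionVars false

/-!
# S5693, groundwork for the even cases

Characteristic 2 helpers, the Eichler elements in additive form, and a hyperbolic basis of a
non-degenerate 4-space of plus type.
-/

namespace Cfsg.Agent.Lib.Helper3.S5693

open Matrix Cfsg.Agent.Lib.Helper2.ReflGen Cfsg.Agent.Lib.Helper2.CDG Cfsg.Agent.H9Orth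

variable {F : Type*} [Field F] {ι : Type} [Fintype ι] [DecidableEq ι]
variable {Q : QuadraticForm F (ι → F)}

theorem vadd_self (h2 : (2 : F) = 0) (v : ι → F) : v + v = 0 := by
  rw [← two_smul F v, h2, zero_smul]

theorem vneg (h2 : (2 : F) = 0) (v : ι → F) : -v = v := by
  rw [neg_eq_iff_add_eq_zero]; exact vadd_self h2 v

theorem vsub (h2 : (2 : F) = 0) (v w : ι → F) : v - w = v + w := by
  rw [sub_eq_add_neg, vneg h2]

theorem polar_self2 (h2 : (2 : F) = 0) (v : ι → F) : QuadraticMap.polar (⇑Q) v v = 0 := by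
  rw [polar_self, h2, zero_mul]

/-- the Eichler element in characteristic 2, additive form -/
theorem eich2 (hQ : (QuadraticMap.polarBilin Q).Nondegenerate) (h2 : (2 : F) = 0) (u v : ι → F)
    (hu : Q u = 0) (huv : QuadraticMap.polar (⇑Q) u v = 0) (x : ι → F) :
    ((eich hQ u v hu huv : Matrix.GeneralLinearGroup ι F) : Matrix ι ι F) *ᵥ x =
      x + QuadraticMap.polar (⇑Q) u x • v + QuadraticMap.polar (⇑Q) v x • u
        + (Q v * QuadraticMap.polar (⇑Q) u x) • u := by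
  rw [eich_mulVec, vsub h2, vsub h2]

/-- two vectors of a totally singular subspace are orthogonal -/
theorem polar_of_ts (U : Submodule F (ι → F)) (hU : Cfsg.Geo.IsTotallySingularQuad ⇑Q U)
    {a b : ι → F} (ha : a ∈ U) (hb : b ∈ U) : QuadraticMap.polar (⇑Q) a b = 0 := by
  unfold QuadraticMap.polar
  rw [hU _ (U.add_mem ha hb), hU _ ha, hU _ hb]; ring

/-- a hyperbolic basis of a non-degenerate 4-space of plus type -/
theorem exists_hyp4 (U : Submodule F (ι → F)) (hdim : Module.finrank F U = 4)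
    (hU : Cfsg.Geo.IsNondegenerateOn (QuadraticMap.polar ⇑Q) U)
    (hUp : Cfsg.Geo.IsPlusTypeOn ⇑Q U) :
    ∃ e₁ f₁ e₂ f₂ : ι → F, e₁ ∈ U ∧ f₁ ∈ U ∧ e₂ ∈ U ∧ f₂ ∈ U ∧
      Q e₁ = 0 ∧ Q f₁ = 0 ∧ Q e₂ = 0 ∧ Q f₂ = 0 ∧
      QuadraticMap.polar (⇑Q) e₁ f₁ = 1 ∧ QuadraticMap.polar (⇑Q) e₂ f₂ = 1 ∧
      QuadraticMap.polar (⇑Q) e₁ e₂ = 0 ∧ QuadraticMap.polar (⇑Q) e₁ f₂ = 0 ∧
      QuadraticMap.polar (⇑Q) f₁ e₂ = 0 ∧ QuadraticMap.polar (⇑Q) f₁ f₂ = 0 ∧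
      ∀ w ∈ U, ∃ a b c d : F, w = a • e₁ + b • f₁ + c • e₂ + d • f₂ := by
  obtain ⟨U', hU'U, hts, hd⟩ := hUp
  have hU'2 : Module.finrank F U' = 2 := by omega
  have hU'ne : U' ≠ ⊥ := by
    intro h
    rw [h, finrank_bot] at hU'2
    omega
  obtain ⟨e₁, he₁U', he₁0⟩ := Submodule.exists_mem_ne_zero_of_ne_bot hU'ne
  have he₁U : e₁ ∈ U := hU'U he₁U'
  have hQe₁ : Q e₁ = 0 := hts e₁ he₁U'
  -- a second vector of `U'` outside the line of `e₁`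
  have hlt : Submodule.span F {e₁} < U' := by
    apply lt_of_le_of_ne
    · rw [Submodule.span_le]; intro x hx; rw [Set.mem_singleton_iff.1 hx]; exact he₁U'
    · intro h
      have := finrank_span_singleton (K := F) he₁0
      rw [h] at this
      omega
  obtain ⟨e₂', he₂'U', he₂'n⟩ := SetLike.exists_of_lt hlt
  -- `f₁`
  obtain ⟨⟨x, hxU, hx⟩, -⟩ := hU e₁ he₁U he₁0
  have hex : QuadraticMap.polar (⇑Q) e₁ x ≠ 0 := by rwa [QuadraticMap.polar_comm]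
  have hee : QuadraticMap.polar (⇑Q) e₁ e₁ = 0 := by rw [polar_self, hQe₁, mul_zero]
  obtain ⟨f₀, hf₀U, hef₀⟩ : ∃ f₀ ∈ U, QuadraticMap.polar (⇑Q) e₁ f₀ = 1 := by
    refine ⟨(QuadraticMap.polar (⇑Q) e₁ x)⁻¹ • x, U.smul_mem _ hxU, ?_⟩
    rw [QuadraticMap.polar_smul_right, smul_eq_mul, inv_mul_cancel₀ hex]
  obtain ⟨f₁, hf₁U, hef₁, hQf₁⟩ : ∃ f ∈ U, QuadraticMap.polar (⇑Q) e₁ f = 1 ∧ Q f = 0 := by
    refine ⟨f₀ - Q f₀ • e₁, U.sub_mem hf₀U (U.smul_mem _ he₁U), ?_, ?_⟩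
    · rw [QuadraticMap.polar_sub_right, QuadraticMap.polar_smul_right, hee, smul_zero, sub_zero,
        hef₀]
    · have : f₀ - Q f₀ • e₁ = f₀ + (-Q f₀) • e₁ := by rw [neg_smul, sub_eq_add_neg]
      rw [this, map_add_smul, hQe₁, QuadraticMap.polar_comm, hef₀]; ring
  have hfe₁ : QuadraticMap.polar (⇑Q) f₁ e₁ = 1 := by rw [QuadraticMap.polar_comm]; exact hef₁
  have hff₁ : QuadraticMap.polar (⇑Q) f₁ f₁ = 0 := by rw [polar_self, hQf₁, mul_zero]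
  -- `e₂`
  set e₂ := e₂' - QuadraticMap.polar (⇑Q) e₂' f₁ • e₁ with he₂
  have he₂U' : e₂ ∈ U' := U'.sub_mem he₂'U' (U'.smul_mem _ he₁U')
  have he₂U : e₂ ∈ U := hU'U he₂U'
  have hQe₂ : Q e₂ = 0 := hts e₂ he₂U'
  have he₁e₂ : QuadraticMap.polar (⇑Q) e₁ e₂ = 0 := polar_of_ts U' hts he₁U' he₂U'
  have he₂e₁ : QuadraticMap.polar (⇑Q) e₂ e₁ = 0 := polar_of_ts U' hts he₂U' he₁U'
  have hf₁e₂ : QuadraticMap.polar (⇑Q) f₁ e₂ = 0 := by
    rw [he₂, QuadraticMap.polar_sub_right, QuadraticMap.polar_smul_right, hfe₁,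
      QuadraticMap.polar_comm (⇑Q) f₁ e₂']
    simp
  have he₂f₁ : QuadraticMap.polar (⇑Q) e₂ f₁ = 0 := by rw [QuadraticMap.polar_comm]; exact hf₁e₂
  have he₂0 : e₂ ≠ 0 := by
    intro h
    apply he₂'n
    have : e₂' = QuadraticMap.polar (⇑Q) e₂' f₁ • e₁ := by
      rw [he₂, sub_eq_zero] at h; exact h
    rw [this]
    exact Submodule.smul_mem _ _ (Submodule.subset_span rfl)
  have he₂e₂ : QuadraticMap.polar (⇑Q) e₂ e₂ = 0 := by rw [polar_self, hQe₂, mul_zero]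
  -- `f₂`
  obtain ⟨⟨x₂, hx₂U, hx₂⟩, -⟩ := hU e₂ he₂U he₂0
  have hex₂ : QuadraticMap.polar (⇑Q) e₂ x₂ ≠ 0 := by rwa [QuadraticMap.polar_comm]
  obtain ⟨g₀, hg₀U, heg₀⟩ : ∃ g₀ ∈ U, QuadraticMap.polar (⇑Q) e₂ g₀ = 1 := by
    refine ⟨(QuadraticMap.polar (⇑Q) e₂ x₂)⁻¹ • x₂, U.smul_mem _ hx₂U, ?_⟩
    rw [QuadraticMap.polar_smul_right, smul_eq_mul, inv_mul_cancel₀ hex₂]
  set g₁ := g₀ - QuadraticMap.polar (⇑Q) g₀ f₁ • e₁ - QuadraticMap.polar (⇑Q) g₀ e₁ • f₁ with hg₁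
  have hg₁U : g₁ ∈ U := U.sub_mem (U.sub_mem hg₀U (U.smul_mem _ he₁U)) (U.smul_mem _ hf₁U)
  have he₁g₁ : QuadraticMap.polar (⇑Q) e₁ g₁ = 0 := by
    rw [hg₁, QuadraticMap.polar_sub_right, QuadraticMap.polar_sub_right,
      QuadraticMap.polar_smul_right, QuadraticMap.polar_smul_right, hee, hef₁,
      QuadraticMap.polar_comm (⇑Q) e₁ g₀]
    simp
  have hf₁g₁ : QuadraticMap.polar (⇑Q) f₁ g₁ = 0 := by
    rw [hg₁, QuadraticMap.polar_sub_right, QuadraticMap.polar_sub_right,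
      QuadraticMap.polar_smul_right, QuadraticMap.polar_smul_right, hfe₁, hff₁,
      QuadraticMap.polar_comm (⇑Q) f₁ g₀]
    simp
  have he₂g₁ : QuadraticMap.polar (⇑Q) e₂ g₁ = 1 := by
    rw [hg₁, QuadraticMap.polar_sub_right, QuadraticMap.polar_sub_right,
      QuadraticMap.polar_smul_right, QuadraticMap.polar_smul_right, he₂e₁, he₂f₁, heg₀]
    simp
  set f₂ := g₁ - Q g₁ • e₂ with hf₂
  have hf₂U : f₂ ∈ U := U.sub_mem hg₁U (U.smul_mem _ he₂U)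
  have hQf₂ : Q f₂ = 0 := by
    have : g₁ - Q g₁ • e₂ = g₁ + (-Q g₁) • e₂ := by rw [neg_smul, sub_eq_add_neg]
    rw [hf₂, this, map_add_smul, hQe₂, QuadraticMap.polar_comm, he₂g₁]; ring
  have he₁f₂ : QuadraticMap.polar (⇑Q) e₁ f₂ = 0 := by
    rw [hf₂, QuadraticMap.polar_sub_right, QuadraticMap.polar_smul_right, he₁g₁, he₁e₂]; simp
  have hf₁f₂ : QuadraticMap.polar (⇑Q) f₁ f₂ = 0 := by
    rw [hf₂, QuadraticMap.polar_sub_right, QuadraticMap.polar_smul_right, hf₁g₁, hf₁e₂]; simp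
  have he₂f₂ : QuadraticMap.polar (⇑Q) e₂ f₂ = 1 := by
    rw [hf₂, QuadraticMap.polar_sub_right, QuadraticMap.polar_smul_right, he₂g₁, he₂e₂]; simp
  have hf₂e₁ : QuadraticMap.polar (⇑Q) f₂ e₁ = 0 := by rw [QuadraticMap.polar_comm]; exact he₁f₂
  have hf₂f₁ : QuadraticMap.polar (⇑Q) f₂ f₁ = 0 := by rw [QuadraticMap.polar_comm]; exact hf₁f₂
  have hf₂e₂ : QuadraticMap.polar (⇑Q) f₂ e₂ = 1 := by rw [QuadraticMap.polar_comm]; exact he₂f₂
  have hf₂f₂ : QuadraticMap.polar (⇑Q) f₂ f₂ = 0 := by rw [polar_self, hQf₂, mul_zero]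
  refine ⟨e₁, f₁, e₂, f₂, he₁U, hf₁U, he₂U, hf₂U, hQe₁, hQf₁, hQe₂, hQf₂, hef₁, he₂f₂, he₁e₂,
    he₁f₂, hf₁e₂, hf₁f₂, ?_⟩
  have hli : LinearIndependent F ![e₁, f₁, e₂, f₂] := by
    rw [Fintype.linearIndependent_iff]
    intro c hc
    rw [Fin.sum_univ_four] at hc
    replace hc : c 0 • e₁ + c 1 • f₁ + c 2 • e₂ + c 3 • f₂ = 0 := hc
    have k0 := congrArg (fun v => QuadraticMap.polar (⇑Q) f₁ v) hc
    have k1 := congrArg (fun v => QuadraticMap.polar (⇑Q) e₁ v) hc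
    have k2 := congrArg (fun v => QuadraticMap.polar (⇑Q) f₂ v) hc
    have k3 := congrArg (fun v => QuadraticMap.polar (⇑Q) e₂ v) hc
    simp only [QuadraticMap.polar_add_right, QuadraticMap.polar_smul_right, hee, hef₁, hfe₁, hff₁,
      he₁e₂, he₂e₁, he₁f₂, hf₂e₁, hf₁e₂, he₂f₁, hf₁f₂, hf₂f₁, he₂e₂, he₂f₂, hf₂e₂, hf₂f₂,
      smul_eq_mul, mul_zero, mul_one, zero_add, add_zero,
      QuadraticMap.polar_zero_right] at k0 k1 k2 k3
    intro i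
    fin_cases i
    · exact k0
    · exact k1
    · exact k2
    · exact k3
  have hspan : Submodule.span F (Set.range ![e₁, f₁, e₂, f₂]) = U := by
    apply Submodule.eq_of_le_of_finrank_eq
    · rw [Submodule.span_le]
      rintro _ ⟨i, rfl⟩
      fin_cases i
      · exact he₁U
      · exact hf₁U
      · exact he₂U
      · exact hf₂U
    · rw [finrank_span_eq_card hli, hdim]; simp
  intro w hw
  rw [← hspan] at hw
  obtain ⟨c, hc⟩ := (Submodule.mem_span_range_iff_exists_fun F).1 hw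
  rw [Fin.sum_univ_four] at hc
  replace hc : c 0 • e₁ + c 1 • f₁ + c 2 • e₂ + c 3 • f₂ = w := hc
  exact ⟨c 0, c 1, c 2, c 3, hc.symm⟩

end Cfsg.Agent.Lib.Helper3.S5693
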