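import Mathlib
import Cfsg.Prelude
import Cfsg.Agent.Lib.Helper3.S5693_G1

set_option autoImplicit false
set_option linter.unusedSectionVars false

/-!
# S5693, case `k = 4`, `q = 2`: the engine

The members contain two orthogonal anisotropic planes carrying all their non-singular vectors;
`K` is the stabilizer of the set of these vectors.
-/

namespace Cfsg.Agent.Lib.Helper3.S5693

open Matrix Cfsg.Agent.Lib.Helper2.ReflGen Cfsg.Agent.Lib.Helper2.CDG Cfsg.Agent.H9Orth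

variable {F : Type*} [Field F] {ι : Type} [Fintype ι] [DecidableEq ι]
variable {Q : QuadraticForm F (ι → F)}

/-- refinement to anisotropic planes in characteristic 2: the decomposition stabilizer is not
maximal in `Ω` -/
theorem planes_not_max [Fintype F] (hQ : (QuadraticMap.polarBilin Q).Nondegenerate)
    (h2 : (2 : F) = 0) (hn : 7 ≤ Fintype.card ι)
    {t : ℕ} (ht : 3 ≤ t) (D : Fin t → Submodule F (ι → F))
    (hindep : ∀ i j, i ≠ j → ∀ v, v ∈ D i → v ∈ D j → v = 0)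
    (horth : ∀ i j, i ≠ j → Cfsg.Geo.AreOrthogonalFor (QuadraticMap.polar ⇑Q) (D i) (D j))
    (hframe : ∀ i, ∃ x y x' : ι → F, x ∈ D i ∧ y ∈ D i ∧ x' ∈ D i ∧ Q x = 1 ∧ Q y = 1 ∧
      QuadraticMap.polar (⇑Q) x y = 1 ∧ x' ≠ 0 ∧ QuadraticMap.polar (⇑Q) x x' = 0 ∧
      QuadraticMap.polar (⇑Q) y x' = 0 ∧
      ∀ s ∈ D i, Q s = 1 → (s = x ∨ s = y ∨ s = x + y) ∨
        (QuadraticMap.polar (⇑Q) x s = 0 ∧ QuadraticMap.polar (⇑Q) y s = 0)) :
    ∃ K : Subgroup (Matrix.GeneralLinearGroup ι F),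
      Cfsg.Geo.decompositionStabilizer D ⊓ Cfsg.Geo.omegaGL ⇑Q < K ∧
        K < Cfsg.Geo.omegaGL ⇑Q := by
  set S : Set (ι → F) := {v | Q v = 1 ∧ ∃ i, v ∈ D i} with hS
  have h11 : (1 : F) + 1 = 0 := by rw [one_add_one_eq_two]; exact h2
  obtain ⟨x₀, y₀, z₀, hx₀, hy₀, hz₀, qx₀, qy₀, pxy₀, z₀ne, pxz₀, pyz₀, rig₀⟩ :=
    hframe ⟨0, by omega⟩
  obtain ⟨x₁, y₁, z₁, hx₁, hy₁, hz₁, qx₁, qy₁, pxy₁, z₁ne, pxz₁, pyz₁, rig₁⟩ :=
    hframe ⟨1, by omega⟩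
  obtain ⟨x₂, y₂, z₂, hx₂, hy₂, hz₂, qx₂, qy₂, pxy₂, z₂ne, pxz₂, pyz₂, rig₂⟩ :=
    hframe ⟨2, by omega⟩
  have h01 : (⟨0, by omega⟩ : Fin t) ≠ ⟨1, by omega⟩ := by
    intro h; have := congrArg Fin.val h; simp at this
  have h02 : (⟨0, by omega⟩ : Fin t) ≠ ⟨2, by omega⟩ := by
    intro h; have := congrArg Fin.val h; simp at this
  have h12 : (⟨1, by omega⟩ : Fin t) ≠ ⟨2, by omega⟩ := by
    intro h; have := congrArg Fin.val h; simp at this
  have pc := QuadraticMap.polar_comm (⇑Q)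
  -- the singular vector `u = x₀ + x₁`
  have px₀x₁ : QuadraticMap.polar (⇑Q) x₀ x₁ = 0 := horth _ _ h01 x₀ hx₀ x₁ hx₁
  have px₀y₁ : QuadraticMap.polar (⇑Q) x₀ y₁ = 0 := horth _ _ h01 x₀ hx₀ y₁ hy₁
  have py₀x₁ : QuadraticMap.polar (⇑Q) y₀ x₁ = 0 := horth _ _ h01 y₀ hy₀ x₁ hx₁
  have py₀y₁ : QuadraticMap.polar (⇑Q) y₀ y₁ = 0 := horth _ _ h01 y₀ hy₀ y₁ hy₁
  have hu : Q (x₀ + x₁) = 0 := by
    rw [QuadraticMap.map_add Q, qx₀, qx₁, px₀x₁, add_zero]; exact h11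
  have hw : Q (y₀ + y₁) = 0 := by
    rw [QuadraticMap.map_add Q, qy₀, qy₁, py₀y₁, add_zero]; exact h11
  have huw : QuadraticMap.polar (⇑Q) (x₀ + x₁) (y₀ + y₁) = 0 := by
    rw [QuadraticMap.polar_add_left, QuadraticMap.polar_add_right, QuadraticMap.polar_add_right,
      pxy₀, px₀y₁, pc x₁ y₀, py₀x₁, pxy₁]
    linear_combination h11
  refine ⟨Cfsg.stabilizing (Cfsg.glToMat ι F) S ⊓ Cfsg.Geo.omegaGL ⇑Q, ?_, ?_⟩
  · apply lt_of_le_of_ne
    · intro g hg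
      obtain ⟨hgD, hgΩ⟩ := Subgroup.mem_inf.1 hg
      refine Subgroup.mem_inf.2 ⟨?_, hgΩ⟩
      apply mem_stabilizing_of_mapsTo
      rintro v ⟨hv, i, hi⟩
      obtain ⟨σ, hσ⟩ := hgD
      refine ⟨by rw [omegaGL_Q hgΩ, hv], σ i, ?_⟩
      rw [← hσ i]
      exact ⟨v, hi, by rw [Matrix.toLin'_apply]⟩
    · intro heq
      set g : Matrix.GeneralLinearGroup ι F :=
        ((eich hQ (x₀ + x₁) (y₀ + y₁) hu huw : ↥(Cfsg.isometryGroup F ⇑Q)) :
          Matrix.GeneralLinearGroup ι F) with hg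
      have hgΩ : g ∈ Cfsg.Geo.omegaGL ⇑Q := eich_mem_omegaGL hQ hn _ _ hu huw
      have hgv : ∀ s, (g : Matrix ι ι F) *ᵥ s = s +
          (QuadraticMap.polar (⇑Q) x₀ s + QuadraticMap.polar (⇑Q) x₁ s) • (y₀ + y₁) +
          (QuadraticMap.polar (⇑Q) y₀ s + QuadraticMap.polar (⇑Q) y₁ s) • (x₀ + x₁) := by
        intro s
        rw [hg, eich2 hQ h2, hw, zero_mul, zero_smul, add_zero, QuadraticMap.polar_add_left,
          QuadraticMap.polar_add_left]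
      have g_fix : ∀ s, QuadraticMap.polar (⇑Q) x₀ s = 0 → QuadraticMap.polar (⇑Q) y₀ s = 0 →
          QuadraticMap.polar (⇑Q) x₁ s = 0 → QuadraticMap.polar (⇑Q) y₁ s = 0 →
          (g : Matrix ι ι F) *ᵥ s = s := by
        intro s a b c d
        rw [hgv, a, b, c, d]; simp
      have gx₀ : (g : Matrix ι ι F) *ᵥ x₀ = x₁ := by
        rw [hgv, polar_self2 h2, pc x₁ x₀, px₀x₁, pc y₀ x₀, pxy₀, pc y₁ x₀, px₀y₁]
        simp only [add_zero, zero_smul, one_smul]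
        rw [← add_assoc, vadd_self h2, zero_add]
      have gy₀ : (g : Matrix ι ι F) *ᵥ y₀ = y₁ := by
        rw [hgv, polar_self2 h2, pxy₀, pc x₁ y₀, py₀x₁, pc y₁ y₀, py₀y₁]
        simp only [add_zero, zero_smul, one_smul]
        rw [← add_assoc, vadd_self h2, zero_add]
      have gx₁ : (g : Matrix ι ι F) *ᵥ x₁ = x₀ := by
        rw [hgv, polar_self2 h2, px₀x₁, py₀x₁, pc y₁ x₁, pxy₁]
        simp only [add_zero, zero_add, zero_smul, one_smul]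
        rw [add_comm x₀ x₁, ← add_assoc, vadd_self h2, zero_add]
      have gy₁ : (g : Matrix ι ι F) *ᵥ y₁ = y₀ := by
        rw [hgv, polar_self2 h2, px₀y₁, py₀y₁, pxy₁]
        simp only [add_zero, zero_add, zero_smul, one_smul]
        rw [add_comm y₀ y₁, ← add_assoc, vadd_self h2, zero_add]
      have qxy₀ : Q (x₀ + y₀) = 1 := by
        rw [QuadraticMap.map_add Q, qx₀, qy₀, pxy₀]; linear_combination h11
      have qxy₁ : Q (x₁ + y₁) = 1 := by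
        rw [QuadraticMap.map_add Q, qx₁, qy₁, pxy₁]; linear_combination h11
      have hgK : g ∈ Cfsg.stabilizing (Cfsg.glToMat ι F) S ⊓ Cfsg.Geo.omegaGL ⇑Q := by
        refine Subgroup.mem_inf.2 ⟨?_, hgΩ⟩
        apply mem_stabilizing_of_mapsTo
        rintro s ⟨hs, i, hi⟩
        have r0 : (s = x₀ ∨ s = y₀ ∨ s = x₀ + y₀) ∨
            (QuadraticMap.polar (⇑Q) x₀ s = 0 ∧ QuadraticMap.polar (⇑Q) y₀ s = 0) := by
          by_cases hi0 : i = ⟨0, by omega⟩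
          · subst hi0
            exact rig₀ s hi hs
          · right
            exact ⟨by rw [pc]; exact horth i _ hi0 s hi x₀ hx₀,
              by rw [pc]; exact horth i _ hi0 s hi y₀ hy₀⟩
        have r1 : (s = x₁ ∨ s = y₁ ∨ s = x₁ + y₁) ∨
            (QuadraticMap.polar (⇑Q) x₁ s = 0 ∧ QuadraticMap.polar (⇑Q) y₁ s = 0) := by
          by_cases hi1 : i = ⟨1, by omega⟩
          · subst hi1
            exact rig₁ s hi hs
          · right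
            exact ⟨by rw [pc]; exact horth i _ hi1 s hi x₁ hx₁,
              by rw [pc]; exact horth i _ hi1 s hi y₁ hy₁⟩
        rcases r0 with (rfl | rfl | rfl) | ⟨a, b⟩
        · rw [gx₀]; exact ⟨qx₁, _, hx₁⟩
        · rw [gy₀]; exact ⟨qy₁, _, hy₁⟩
        · rw [Matrix.mulVec_add, gx₀, gy₀]; exact ⟨qxy₁, _, (D _).add_mem hx₁ hy₁⟩
        rcases r1 with (rfl | rfl | rfl) | ⟨c, d⟩
        · rw [gx₁]; exact ⟨qx₀, _, hx₀⟩
        · rw [gy₁]; exact ⟨qy₀, _, hy₀⟩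
        · rw [Matrix.mulVec_add, gx₁, gy₁]; exact ⟨qxy₀, _, (D _).add_mem hx₀ hy₀⟩
        rw [g_fix s a b c d]
        exact ⟨hs, i, hi⟩
      rw [← heq] at hgK
      obtain ⟨σ, hσ⟩ := (Subgroup.mem_inf.1 hgK).1
      have e1 : (g : Matrix ι ι F) *ᵥ x₀ ∈ D (σ ⟨0, by omega⟩) := by
        rw [← hσ]; exact ⟨x₀, hx₀, by rw [Matrix.toLin'_apply]⟩
      have e2 : (g : Matrix ι ι F) *ᵥ z₀ ∈ D (σ ⟨0, by omega⟩) := by
        rw [← hσ]; exact ⟨z₀, hz₀, by rw [Matrix.toLin'_apply]⟩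
      rw [gx₀] at e1
      rw [g_fix z₀ pxz₀ pyz₀ (by rw [pc]; exact horth _ _ h01 z₀ hz₀ x₁ hx₁)
        (by rw [pc]; exact horth _ _ h01 z₀ hz₀ y₁ hy₁)] at e2
      have x₁ne : x₁ ≠ 0 := by
        intro h; rw [h, map_zero] at qx₁; exact zero_ne_one qx₁
      have k1 : σ ⟨0, by omega⟩ = ⟨1, by omega⟩ := by
        by_contra hne
        exact x₁ne (hindep _ _ hne x₁ e1 hx₁)
      have k2 : σ ⟨0, by omega⟩ = ⟨0, by omega⟩ := by
        by_contra hne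
        exact z₀ne (hindep _ _ hne z₀ e2 hz₀)
      exact h01 (k2.symm.trans k1)
  · apply lt_of_le_of_ne inf_le_right
    intro heq
    have px₀x₂ : QuadraticMap.polar (⇑Q) x₀ x₂ = 0 := horth _ _ h02 x₀ hx₀ x₂ hx₂
    have px₁x₂ : QuadraticMap.polar (⇑Q) x₁ x₂ = 0 := horth _ _ h12 x₁ hx₁ x₂ hx₂
    have hux : QuadraticMap.polar (⇑Q) (x₀ + x₁) x₂ = 0 := by
      rw [QuadraticMap.polar_add_left, px₀x₂, px₁x₂, add_zero]
    set g : Matrix.GeneralLinearGroup ι F :=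
      ((eich hQ (x₀ + x₁) x₂ hu hux : ↥(Cfsg.isometryGroup F ⇑Q)) :
        Matrix.GeneralLinearGroup ι F) with hg
    have hgΩ : g ∈ Cfsg.Geo.omegaGL ⇑Q := eich_mem_omegaGL hQ hn _ _ hu hux
    have gy₀ : (g : Matrix ι ι F) *ᵥ y₀ = y₀ + x₂ + (x₀ + x₁) := by
      rw [hg, eich2 hQ h2, QuadraticMap.polar_add_left, pxy₀, pc x₁ y₀, py₀x₁,
        pc x₂ y₀, horth _ _ h02 y₀ hy₀ x₂ hx₂, qx₂]
      simp
    rw [← heq] at hgΩ
    have hgS := (Subgroup.mem_inf.1 hgΩ).1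
    have hv_S : (g : Matrix ι ι F) *ᵥ y₀ ∈ S := (hgS y₀).1 ⟨qy₀, _, hy₀⟩
    rw [gy₀] at hv_S
    obtain ⟨-, i, hi⟩ := hv_S
    have k1 : i = ⟨1, by omega⟩ := by
      by_contra hne
      have := horth i _ hne _ hi y₁ hy₁
      rw [QuadraticMap.polar_add_left, QuadraticMap.polar_add_left, QuadraticMap.polar_add_left,
        py₀y₁, pc x₂ y₁, horth _ _ h12 y₁ hy₁ x₂ hx₂, px₀y₁, pxy₁] at this
      simp at this
    have k2 : i = ⟨2, by omega⟩ := by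
      by_contra hne
      have := horth i _ hne _ hi y₂ hy₂
      rw [QuadraticMap.polar_add_left, QuadraticMap.polar_add_left, QuadraticMap.polar_add_left,
        horth _ _ h02 y₀ hy₀ y₂ hy₂, pxy₂, horth _ _ h02 x₀ hx₀ y₂ hy₂,
        horth _ _ h12 x₁ hx₁ y₂ hy₂] at this
      simp at this
    exact h12 (k1.symm.trans k2)

end Cfsg.Agent.Lib.Helper3.S5693
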