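import Mathlib
import Cfsg.Prelude
import Cfsg.Agent.Lib.Helper3.S5693_G2
import Cfsg.Agent.Lib.Helper9.OrthNM9

set_option autoImplicit false
set_option linter.unusedSectionVars false

/-!
# S5693, case `k = 4`, `q = 2`

A non-degenerate 4-space of plus type over the field with two elements is the orthogonal sum of
two anisotropic planes, which carry all its non-singular vectors.
-/

namespace Cfsg.Agent.Lib.Helper3.S5693

open Matrix Cfsg.Agent.Lib.Helper2.ReflGen Cfsg.Agent.Lib.Helper2.CDG Cfsg.Agent.H9Orth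

variable {F : Type*} [Field F] {ι : Type} [Fintype ι] [DecidableEq ι]
variable {Q : QuadraticForm F (ι → F)}

theorem two_eq_zero_of_card [Fintype F] (hq : Fintype.card F = 2) : (2 : F) = 0 := by
  have := Nat.cast_card_eq_zero F
  rw [hq] at this
  exact_mod_cast this

theorem eq_zero_or_one_of_card [Fintype F] (hq : Fintype.card F = 2) (a : F) : a = 0 ∨ a = 1 := by
  by_cases h : a = 0
  · left; exact h
  · right
    have := FiniteField.pow_card_sub_one_eq_one a h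
    rw [hq] at this
    simpa using this

/-- the value of `Q` on a combination of a hyperbolic basis -/
theorem Q_hyp4 (e₁ f₁ e₂ f₂ : ι → F) (q1 : Q e₁ = 0) (q2 : Q f₁ = 0) (q3 : Q e₂ = 0)
    (q4 : Q f₂ = 0) (p1 : QuadraticMap.polar (⇑Q) e₁ f₁ = 1)
    (p2 : QuadraticMap.polar (⇑Q) e₂ f₂ = 1) (p3 : QuadraticMap.polar (⇑Q) e₁ e₂ = 0)
    (p4 : QuadraticMap.polar (⇑Q) e₁ f₂ = 0) (p5 : QuadraticMap.polar (⇑Q) f₁ e₂ = 0)
    (p6 : QuadraticMap.polar (⇑Q) f₁ f₂ = 0) (a b c d : F) :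
    Q (a • e₁ + b • f₁ + c • e₂ + d • f₂) = a * b + c * d := by
  rw [QuadraticMap.map_add Q, QuadraticMap.map_add Q, QuadraticMap.map_add Q]
  simp only [QuadraticMap.map_smul, QuadraticMap.polar_add_left, QuadraticMap.polar_smul_left,
    QuadraticMap.polar_smul_right, q1, q2, q3, q4, p1, p2, p3, p4, p5, p6, smul_eq_mul]
  ring

/-- the polar form against a combination of a hyperbolic basis -/
theorem polar_hyp4 (e₁ f₁ e₂ f₂ : ι → F) (q1 : Q e₁ = 0) (q2 : Q f₁ = 0) (q3 : Q e₂ = 0)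
    (q4 : Q f₂ = 0) (p1 : QuadraticMap.polar (⇑Q) e₁ f₁ = 1)
    (p2 : QuadraticMap.polar (⇑Q) e₂ f₂ = 1) (p3 : QuadraticMap.polar (⇑Q) e₁ e₂ = 0)
    (p4 : QuadraticMap.polar (⇑Q) e₁ f₂ = 0) (p5 : QuadraticMap.polar (⇑Q) f₁ e₂ = 0)
    (p6 : QuadraticMap.polar (⇑Q) f₁ f₂ = 0) (a b c d a' b' c' d' : F) :
    QuadraticMap.polar (⇑Q) (a • e₁ + b • f₁ + c • e₂ + d • f₂)
      (a' • e₁ + b' • f₁ + c' • e₂ + d' • f₂) = a * b' + b * a' + c * d' + d * c' := by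
  have pc := QuadraticMap.polar_comm (⇑Q)
  simp only [QuadraticMap.polar_add_left, QuadraticMap.polar_add_right,
    QuadraticMap.polar_smul_left, QuadraticMap.polar_smul_right, polar_self, q1, q2, q3, q4,
    p1, p2, p3, p4, p5, p6, pc f₁ e₁, pc f₂ e₂, pc e₂ e₁, pc f₂ e₁, pc e₂ f₁, pc f₂ f₁,
    smul_eq_mul]
  ring

/-- rigidity of the non-singular vectors of a 4-space of plus type over the field with two
elements -/
theorem rig4 [Fintype F] (hq : Fintype.card F = 2) (U : Submodule F (ι → F))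
    (hdim : Module.finrank F U = 4)
    (hU : Cfsg.Geo.IsNondegenerateOn (QuadraticMap.polar ⇑Q) U)
    (hUp : Cfsg.Geo.IsPlusTypeOn ⇑Q U) :
    ∃ x y x' : ι → F, x ∈ U ∧ y ∈ U ∧ x' ∈ U ∧ Q x = 1 ∧ Q y = 1 ∧
      QuadraticMap.polar (⇑Q) x y = 1 ∧ x' ≠ 0 ∧ QuadraticMap.polar (⇑Q) x x' = 0 ∧
      QuadraticMap.polar (⇑Q) y x' = 0 ∧
      ∀ s ∈ U, Q s = 1 → (s = x ∨ s = y ∨ s = x + y) ∨
        (QuadraticMap.polar (⇑Q) x s = 0 ∧ QuadraticMap.polar (⇑Q) y s = 0) := by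
  have h2 := two_eq_zero_of_card hq
  have h11 : (1 : F) + 1 = 0 := by rw [one_add_one_eq_two]; exact h2
  obtain ⟨e₁, f₁, e₂, f₂, he₁, hf₁, he₂, hf₂, q1, q2, q3, q4, p1, p2, p3, p4, p5, p6, hsp⟩ :=
    exists_hyp4 U hdim hU hUp
  have hQ := Q_hyp4 e₁ f₁ e₂ f₂ q1 q2 q3 q4 p1 p2 p3 p4 p5 p6
  have hP := polar_hyp4 e₁ f₁ e₂ f₂ q1 q2 q3 q4 p1 p2 p3 p4 p5 p6
  have ex : e₁ + f₁ + e₂ = (1 : F) • e₁ + (1 : F) • f₁ + (1 : F) • e₂ + (0 : F) • f₂ := by
    simp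
  have ey : e₁ + f₁ + f₂ = (1 : F) • e₁ + (1 : F) • f₁ + (0 : F) • e₂ + (1 : F) • f₂ := by
    simp
  have ez : e₁ + f₁ = (1 : F) • e₁ + (1 : F) • f₁ + (0 : F) • e₂ + (0 : F) • f₂ := by
    simp
  have qz : Q (e₁ + f₁) = 1 := by rw [ez, hQ]; simp
  refine ⟨e₁ + f₁ + e₂, e₁ + f₁ + f₂, e₁ + f₁, U.add_mem (U.add_mem he₁ hf₁) he₂,
    U.add_mem (U.add_mem he₁ hf₁) hf₂, U.add_mem he₁ hf₁, ?_, ?_, ?_, ?_, ?_, ?_, ?_⟩
  · rw [ex, hQ]; simp
  · rw [ey, hQ]; simp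
  · rw [ex, ey, hP]; simp [h11]
  · intro h; rw [h, map_zero] at qz; exact zero_ne_one qz
  · rw [ex, ez, hP]; simp [h11]
  · rw [ey, ez, hP]; simp [h11]
  · intro s hs hQs
    obtain ⟨a, b, c, d, rfl⟩ := hsp s hs
    rw [hQ] at hQs
    rw [ex, ey, hP, hP]
    have sum_eq : (1 : F) • e₁ + (1 : F) • f₁ + (1 : F) • e₂ + (0 : F) • f₂ +
        ((1 : F) • e₁ + (1 : F) • f₁ + (0 : F) • e₂ + (1 : F) • f₂) =
        (0 : F) • e₁ + (0 : F) • f₁ + (1 : F) • e₂ + (1 : F) • f₂ := by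
      have e1 := vadd_self h2 e₁
      have e2 := vadd_self h2 f₁
      simp only [one_smul, zero_smul, add_zero, zero_add]
      calc e₁ + f₁ + e₂ + (e₁ + f₁ + f₂) = (e₁ + e₁) + (f₁ + f₁) + e₂ + f₂ := by abel
        _ = e₂ + f₂ := by rw [e1, e2]; simp
    rw [sum_eq]
    rcases eq_zero_or_one_of_card hq a with rfl | rfl <;>
    rcases eq_zero_or_one_of_card hq b with rfl | rfl <;>
    rcases eq_zero_or_one_of_card hq c with rfl | rfl <;>
    rcases eq_zero_or_one_of_card hq d with rfl | rfl <;>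
    simp [h11] at hQs ⊢

/-- **S5693, case `k = 4`, `q = 2`, members of plus type.** -/
theorem k4q2_not_max [Fintype F] (hQ : (QuadraticMap.polarBilin Q).Nondegenerate)
    (hq : Fintype.card F = 2) (hn : 9 ≤ Fintype.card ι) {t : ℕ}
    (D : Fin t → Submodule F (ι → F)) (hD : Cfsg.Geo.IsOrthogonalMDecomposition ⇑Q 4 D)
    (hplus : ∀ i, Cfsg.Geo.IsPlusTypeOn ⇑Q (D i)) :
    ∃ K : Subgroup (Matrix.GeneralLinearGroup ι F),
      Cfsg.Geo.decompositionStabilizer D ⊓ Cfsg.Geo.omegaGL ⇑Q < K ∧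
        K < Cfsg.Geo.omegaGL ⇑Q := by
  have hc := decomp_card D hD.decomp.decomp
  have ht : 3 ≤ t := by omega
  refine planes_not_max hQ (two_eq_zero_of_card hq) (by omega) ht D ?_ hD.decomp.orthogonal ?_
  · intro i j hij v hi hj
    have := hD.decomp.decomp.indep.pairwiseDisjoint hij
    exact (Submodule.disjoint_def.1 this) v hi hj
  · intro i
    exact rig4 hq (D i) (hD.decomp.decomp.finrank_eq i) (hD.decomp.nondegenerate i) (hplus i)

end Cfsg.Agent.Lib.Helper3.S5693
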