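import Mathlib
import Cfsg.Prelude
import Cfsg.Agent.Lib.Helper3.S5693_G3

set_option autoImplicit false

/-! S5693, package PK-E (`k = 4`, `q = 2`, members of plus type), in the vocabulary of
`notes/S5693_packages.lean.txt`. -/

namespace Cfsg.Agent.Lib.Helper5.S5693Pk

open Cfsg.Geo

/-- PK-E: k = 4, q = 2, plus-type members (each block is the sum of two anisotropic planes). -/
theorem pkE {F : Type*} [Field F] [Fintype F] {n : ℕ} (hn : 13 ≤ n) (Q : (Fin n → F) → F)
    (hQ : IsNondegenerateQuadraticForm Q) {t : ℕ} (D : Fin t → Submodule F (Fin n → F))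
    (hD : IsOrthogonalMDecomposition Q 4 D) (hp : ∀ i, IsPlusTypeOn Q (D i))
    (hq : Fintype.card F = 2) :
    ∃ K : Subgroup (Matrix.GeneralLinearGroup (Fin n) F),
      decompositionStabilizer D ⊓ omegaGL Q < K ∧ K < omegaGL Q := by
  obtain ⟨Q', rfl, hnd⟩ := Cfsg.Agent.H9Orth.exists_quadForm Q hQ
  exact Cfsg.Agent.Lib.Helper3.S5693.k4q2_not_max hnd hq (by rw [Fintype.card_fin]; omega) D hD hp

end Cfsg.Agent.Lib.Helper5.S5693Pk
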