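import Mathlib
import Cfsg.Prelude.Def_ChevStructure
import Cfsg.Prelude.Def_ChevE6
import Cfsg.Agent.Lib.Helper3.SLBridge5
import Cfsg.Agent.Lib.Helper3.ChevAutE6
set_option autoImplicit false
set_option linter.unusedSectionVars false
set_option linter.unusedVariables false
set_option linter.style.haveILetI false
set_option maxRecDepth 1000000
open Cfsg Cfsg.Lie

/-!
The classes of involutions of the groups of type `E₆` in characteristic two: the table checks, and the reduction of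
every involution to one of three products of root elements.
-/

namespace Cfsg.Agent.Lib.Helper3.SLInv

open Cfsg.Agent.Lib.Helper3.ChevM Cfsg.Agent.Lib.Helper3 ChevU ChevT
open Cfsg.Agent.Lib.Helper3.ChevAt Cfsg.Agent.Lib.Helper3.ChevAut

/-- the weights of the height function of type `E₆` -/
def wE6 : ℕ → ℤ := fun i => 16 ^ (5 - i)

/-- the table checks of type `E₆` -/
def invHypE6 : SLHyp cdE6 relE6 where
  A := ⟨uhypE6, bnE6, e6NegTri, e6Sign⟩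
  hcs := by decide +kernel
  w := wE6
  cart := by decide +kernel
  sym := by decide +kernel
  key := by decide +kernel
  neg := by decide +kernel
  pr := by decide +kernel

theorem e6CascCheck : cascCheck cdE6.D relE6.pair wE6 [] [71, 60, 44, 39] = true := by decide +kernel

/-- the nodes of the tree of type E6 -/
def e6Nodes : List (List ℕ) :=
  [[39, 44, 60, 71],
   [44, 60, 71],
   [60, 71],
   [71],
   []]

/-- the descent table of type E6 -/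
def e6DscTab : List (List ℕ × List ℕ) :=
  [([], [0, 25, 24, 23, 22, 21, 20, 19, 18, 17, 16, 8, 9, 10, 10, 10, 10, 9, 8, 7, 6, 5, 4, 3, 2, 1, 19, 20, 21, 21, 22, 23, 24, 22, 23, 22, 23, 24, 24, 25, 25, 25, 24, 25, 25, 25, 1, 2, 3, 4, 5, 6, 7, 8, 9, 10, 21, 24, 25, 25, 25, 16, 17, 18, 19, 20, 21, 22, 23, 24, 25, 72]),
   ([71], [0, 0, 0, 0, 0, 0, 0, 0, 0, 0, 0, 11, 35, 33, 30, 26, 0, 0, 0, 0, 0, 0, 0, 0, 0, 0, 15, 26, 26, 26, 14, 30, 30, 13, 33, 12, 12, 35, 13, 33, 35, 14, 30, 33, 35, 15, 0, 0, 0, 0, 0, 0, 0, 0, 0, 0, 26, 30, 33, 35, 72, 0, 0, 0, 0, 0, 0, 0, 0, 0, 0, 0]),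
   ([60, 71], [0, 0, 0, 0, 0, 0, 0, 0, 0, 0, 0, 0, 0, 0, 0, 0, 0, 0, 0, 0, 0, 0, 0, 0, 0, 0, 0, 27, 34, 31, 0, 29, 31, 0, 28, 0, 0, 28, 0, 34, 29, 0, 31, 34, 72, 0, 0, 0, 0, 0, 0, 0, 0, 0, 0, 0, 0, 0, 0, 0, 0, 0, 0, 0, 0, 0, 0, 0, 0, 0, 0, 0]),
   ([44, 60, 71], [0, 0, 0, 0, 0, 0, 0, 0, 0, 0, 0, 0, 0, 0, 0, 0, 0, 0, 0, 0, 0, 0, 0, 0, 0, 0, 0, 0, 0, 0, 0, 0, 32, 0, 0, 0, 0, 0, 0, 72, 0, 0, 0, 0, 0, 0, 0, 0, 0, 0, 0, 0, 0, 0, 0, 0, 0, 0, 0, 0, 0, 0, 0, 0, 0, 0, 0, 0, 0, 0, 0, 0]),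
   ([39, 44, 60, 71], [0, 0, 0, 0, 0, 0, 0, 0, 0, 0, 0, 0, 0, 0, 0, 0, 0, 0, 0, 0, 0, 0, 0, 0, 0, 0, 0, 0, 0, 0, 0, 0, 0, 0, 0, 0, 0, 0, 0, 0, 0, 0, 0, 0, 0, 0, 0, 0, 0, 0, 0, 0, 0, 0, 0, 0, 0, 0, 0, 0, 0, 0, 0, 0, 0, 0, 0, 0, 0, 0, 0, 0])]

/-- the words to the representatives of type E6 -/
def e6KindATab : List (List ℕ × (List ℕ × ℕ)) :=
  [([], ([], 0)),
   ([71], ([], 1)),
   ([60, 71], ([21], 2)),
   ([44, 60, 71], ([22, 33], 3))]

/-- the quadruples of type E6 -/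
def e6KindBTab : List (List ℕ × (ℕ × ℕ × ℕ × ℕ × ℕ × List ℕ)) :=
  [([39, 44, 60, 71], (2, 39, 44, 60, 71, []))]

/-- the tree of representatives of type E6 -/
def orbE6 : OrbData where
  nodes := e6Nodes
  dsc := fun N r => ((e6DscTab.lookup N).getD []).getD r 0
  fuel := 4
  reps := [[], [71], [68, 66], [55, 65, 67]]
  kindA := fun N => (e6KindATab.lookup N).getD ([], 0)
  kindB := fun N => e6KindBTab.lookup N

theorem e6TreeOK : treeOK cdE6.D relE6.pair orbE6 = true := by decide +kernel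

end Cfsg.Agent.Lib.Helper3.SLInv
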