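import Mathlib
import Cfsg.Prelude.Def_ChevStructure
import Cfsg.Prelude.Def_ChevE6
import Cfsg.Agent.Lib.Helper3.SLBridge6
import Cfsg.Agent.Lib.Helper3.SLE6a
import Cfsg.Agent.Lib.Helper3.SLE6b
set_option autoImplicit false
set_option linter.unusedSectionVars false
set_option linter.unusedVariables false
set_option linter.unusedSimpArgs false
set_option linter.style.haveILetI false
set_option maxRecDepth 1000000
open Cfsg Cfsg.Lie

/-!
The classes of involutions of the groups of type `E₆` in characteristic two.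
-/

namespace Cfsg.Agent.Lib.Helper3.SLInv

open Cfsg.Agent.Lib.Helper3.ChevM Cfsg.Agent.Lib.Helper3 ChevU ChevT
open Cfsg.Agent.Lib.Helper3.ChevAt Cfsg.Agent.Lib.Helper3.ChevAut

section
variable (F : Type*) [Field F] [Fintype F] [CharP F 2]

theorem e6_val1 : ((xsI relE6 F [71] : GL cdE6.D.Idx F) : Matrix cdE6.D.Idx cdE6.D.Idx F) =
    cdE6.D.x F 71 1 := by
  simp [xsI, mul_assoc]

theorem e6_orth1 : OrthI cdE6.D relE6.pair [71] := ⟨by decide, by decide +kernel⟩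

theorem e6_rk1 : (cdE6.D.x F 71 1 - 1).rank = 22 := e6_rank1 F

theorem e6_val2 : ((xsI relE6 F [68, 66] : GL cdE6.D.Idx F) : Matrix cdE6.D.Idx cdE6.D.Idx F) =
    cdE6.D.x F 68 1 * cdE6.D.x F 66 1 := by
  simp [xsI, mul_assoc]

theorem e6_orth2 : OrthI cdE6.D relE6.pair [68, 66] := ⟨by decide, by decide +kernel⟩

theorem e6_rk2 : (cdE6.D.x F 68 1 * cdE6.D.x F 66 1 - 1).rank = 32 := e6_rank2 F

theorem e6_val3 : ((xsI relE6 F [55, 65, 67] : GL cdE6.D.Idx F) : Matrix cdE6.D.Idx cdE6.D.Idx F) =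
    cdE6.D.x F 55 1 * cdE6.D.x F 65 1 * cdE6.D.x F 67 1 := by
  simp [xsI, mul_assoc]

theorem e6_orth3 : OrthI cdE6.D relE6.pair [55, 65, 67] := ⟨by decide, by decide +kernel⟩

theorem e6_rk3 : (cdE6.D.x F 55 1 * cdE6.D.x F 65 1 * cdE6.D.x F 67 1 - 1).rank = 38 := e6_rank3 F

/-- a product over an orthogonal list with a nonzero rank is an involution of the group -/
theorem e6_inv_of {O : List ℕ} (hO : OrthI cdE6.D relE6.pair O) {k : ℕ} (hk : 0 < k)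
    (hrank : (((xsI relE6 F O : GL cdE6.D.Idx F) : Matrix cdE6.D.Idx cdE6.D.Idx F) - 1).rank = k) :
    xsI relE6 F O ∈ cdE6.D.group F ∧ orderOf (xsI relE6 F O) = 2 := by
  refine ⟨invHypE6.xsI_mem F hO.1, ?_⟩
  apply orderOf_eq_prime
  · rw [pow_two]; exact invHypE6.xsI_mul_self F hO
  · intro h1
    rw [h1] at hrank
    simp at hrank
    omega

theorem e6_partA : ∀ y : GL cdE6.D.Idx F, ((y : GL cdE6.D.Idx F) : Matrix cdE6.D.Idx cdE6.D.Idx F) ∈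
      [cdE6.D.x F 71 1, cdE6.D.x F 68 1 * cdE6.D.x F 66 1, cdE6.D.x F 55 1 * cdE6.D.x F 65 1 * cdE6.D.x F 67 1] →
    y ∈ cdE6.D.group F ∧ orderOf y = 2 := by
  intro y hy
  simp only [List.mem_cons, List.not_mem_nil, or_false] at hy
  rcases hy with h | h | h
  · have : y = xsI relE6 F [71] := Units.ext (by rw [h, e6_val1])
    rw [this]
    exact e6_inv_of F e6_orth1 (by norm_num : 0 < 22) (by rw [e6_val1]; exact e6_rk1 F)
  · have : y = xsI relE6 F [68, 66] := Units.ext (by rw [h, e6_val2])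
    rw [this]
    exact e6_inv_of F e6_orth2 (by norm_num : 0 < 32) (by rw [e6_val2]; exact e6_rk2 F)
  · have : y = xsI relE6 F [55, 65, 67] := Units.ext (by rw [h, e6_val3])
    rw [this]
    exact e6_inv_of F e6_orth3 (by norm_num : 0 < 38) (by rw [e6_val3]; exact e6_rk3 F)

theorem e6_partB : ∀ g ∈ cdE6.D.group F, orderOf g = 2 → ∃ y ∈ cdE6.D.group F,
    ((y : GL cdE6.D.Idx F) : Matrix cdE6.D.Idx cdE6.D.Idx F) ∈
      [cdE6.D.x F 71 1, cdE6.D.x F 68 1 * cdE6.D.x F 66 1, cdE6.D.x F 55 1 * cdE6.D.x F 65 1 * cdE6.D.x F 67 1] ∧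
    ∃ h ∈ cdE6.D.group F, h * g * h⁻¹ = y := by
  intro g hg h2
  obtain ⟨rep, hrep, hne, h, hh, e⟩ :=
    invHypE6.involution_rep F e6CascCheck (e6_sylow 2) orbE6 e6TreeOK g hg h2
  have hreps : orbE6.reps = [[], [71], [68, 66], [55, 65, 67]] := rfl
  rw [hreps] at hrep
  simp only [List.mem_cons, List.not_mem_nil, or_false] at hrep
  rcases hrep with rfl | rfl | rfl | rfl
  · exact absurd rfl hne
  · exact ⟨xsI relE6 F [71], invHypE6.xsI_mem F e6_orth1.1, by rw [e6_val1]; simp, h, hh, e⟩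
  · exact ⟨xsI relE6 F [68, 66], invHypE6.xsI_mem F e6_orth2.1, by rw [e6_val2]; simp, h, hh, e⟩
  · exact ⟨xsI relE6 F [55, 65, 67], invHypE6.xsI_mem F e6_orth3.1, by rw [e6_val3]; simp, h, hh, e⟩

theorem e6_partC : ∀ y₁ ∈ cdE6.D.group F, ∀ y₂ ∈ cdE6.D.group F,
    ((y₁ : GL cdE6.D.Idx F) : Matrix cdE6.D.Idx cdE6.D.Idx F) ∈
      [cdE6.D.x F 71 1, cdE6.D.x F 68 1 * cdE6.D.x F 66 1, cdE6.D.x F 55 1 * cdE6.D.x F 65 1 * cdE6.D.x F 67 1] →
    ((y₂ : GL cdE6.D.Idx F) : Matrix cdE6.D.Idx cdE6.D.Idx F) ∈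
      [cdE6.D.x F 71 1, cdE6.D.x F 68 1 * cdE6.D.x F 66 1, cdE6.D.x F 55 1 * cdE6.D.x F 65 1 * cdE6.D.x F 67 1] →
    (∃ h ∈ cdE6.D.group F, h * y₁ * h⁻¹ = y₂) →
    ((y₁ : GL cdE6.D.Idx F) : Matrix cdE6.D.Idx cdE6.D.Idx F) =
      ((y₂ : GL cdE6.D.Idx F) : Matrix cdE6.D.Idx cdE6.D.Idx F) := by
  intro y₁ _ y₂ _ h1 h2 ⟨h, _, e⟩
  have hr := rank_conj_sub_one h y₁
  rw [e] at hr
  simp only [List.mem_cons, List.not_mem_nil, or_false] at h1 h2
  rcases h1 with h1 | h1 | h1 <;> rcases h2 with h2 | h2 | h2 <;> rw [h1, h2] at hr ⊢ <;>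
    (exfalso; norm_num [e6_rk1 F, e6_rk2 F, e6_rk3 F] at hr)

end

end Cfsg.Agent.Lib.Helper3.SLInv
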