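import Mathlib
import Cfsg.Prelude.Def_ChevStructure
import Cfsg.Prelude.Def_ChevE7
import Cfsg.Agent.Lib.Helper3.SLE7p
set_option autoImplicit false
set_option linter.unusedSectionVars false
set_option linter.unusedVariables false
set_option linter.style.haveILetI false
set_option maxRecDepth 1000000
open Cfsg Cfsg.Lie

/-!
The checks of the rows of the table of pairs of roots of type `E₇`, part 2.
-/

namespace Cfsg.Agent.Lib.Helper3.SLInv

open Cfsg.Agent.Lib.Helper3.ChevM Cfsg.Agent.Lib.Helper3 ChevU ChevT
open Cfsg.Agent.Lib.Helper3.ChevAt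

theorem e7Pr_100 : allRange 100 110 e7PrRow = true := by decide +kernel
theorem e7Pr_110 : allRange 110 120 e7PrRow = true := by decide +kernel
theorem e7Pr_120 : allRange 120 126 e7PrRow = true := by decide +kernel

end Cfsg.Agent.Lib.Helper3.SLInv
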