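import Mathlib
import Cfsg.Prelude.Def_ChevStructure
import Cfsg.Prelude.Def_ChevE7
import Cfsg.Agent.Lib.Helper3.SLBridge5
import Cfsg.Agent.Lib.Helper3.ChevAutE7
import Cfsg.Agent.Lib.Helper3.SLE7p0
import Cfsg.Agent.Lib.Helper3.SLE7p1
import Cfsg.Agent.Lib.Helper3.SLE7p2
set_option autoImplicit false
set_option linter.unusedSectionVars false
set_option linter.unusedVariables false
set_option linter.style.haveILetI false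
set_option maxRecDepth 1000000
open Cfsg Cfsg.Lie

/-!
The classes of involutions of the groups of type `E₇` in characteristic two: the table checks, the cascade of
highest roots and the tree of representatives of the lists of orthogonal roots.
-/

namespace Cfsg.Agent.Lib.Helper3.SLInv

open Cfsg.Agent.Lib.Helper3.ChevM Cfsg.Agent.Lib.Helper3 ChevU ChevT
open Cfsg.Agent.Lib.Helper3.ChevAt
open Cfsg.Agent.Lib.Helper3.ChevAut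

/-- the weights of the height function of type `E₇` -/
def wE7 : ℕ → ℤ := fun i => 16 ^ (6 - i)

theorem e7Pr : ∀ r < 126, ∀ s < 126, slPairCheck cdE7.D relE7.pair r s = true := by
  intro r hr s hs
  have h : e7PrRow r = true := by
    by_cases c0 : r < 10
    · exact allRange_spec e7Pr_0 r (by omega) c0
    by_cases c10 : r < 20
    · exact allRange_spec e7Pr_10 r (by omega) c10
    by_cases c20 : r < 30
    · exact allRange_spec e7Pr_20 r (by omega) c20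
    by_cases c30 : r < 40
    · exact allRange_spec e7Pr_30 r (by omega) c30
    by_cases c40 : r < 50
    · exact allRange_spec e7Pr_40 r (by omega) c40
    by_cases c50 : r < 60
    · exact allRange_spec e7Pr_50 r (by omega) c50
    by_cases c60 : r < 70
    · exact allRange_spec e7Pr_60 r (by omega) c60
    by_cases c70 : r < 80
    · exact allRange_spec e7Pr_70 r (by omega) c70
    by_cases c80 : r < 90
    · exact allRange_spec e7Pr_80 r (by omega) c80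
    by_cases c90 : r < 100
    · exact allRange_spec e7Pr_90 r (by omega) c90
    by_cases c100 : r < 110
    · exact allRange_spec e7Pr_100 r (by omega) c100
    by_cases c110 : r < 120
    · exact allRange_spec e7Pr_110 r (by omega) c110
    exact allRange_spec e7Pr_120 r (by omega) hr
  simp only [e7PrRow, List.all_eq_true, List.mem_range] at h
  exact h s hs

theorem e7CartAll : allRange 0 7 (fun i => allRange 0 126 (fun s => slCartCheck cdE7.D i s)) = true := by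
  decide +kernel

theorem e7KeyAll : allRange 0 126 (fun r => slKeyCheck cdE7.D wE7 r) = true := by decide +kernel

theorem e7NegAll : allRange 0 126 (fun r => slNegCheck cdE7.D r) = true := by decide +kernel

/-- the table checks of type `E₇` -/
def invHypE7 : SLHyp cdE7 relE7 where
  A := autHypE7.A
  hcs := by decide +kernel
  w := wE7
  cart := fun i hi s hs => allRange_spec (allRange_spec e7CartAll i (Nat.zero_le _) hi) s (Nat.zero_le _) hs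
  sym := by decide +kernel
  key := fun r hr => allRange_spec e7KeyAll r (Nat.zero_le _) hr
  neg := fun r hr => allRange_spec e7NegAll r (Nat.zero_le _) hr
  pr := e7Pr

theorem e7CascCheck : cascCheck cdE7.D relE7.pair wE7 [] [125, 92, 63, 87, 66, 73, 78] = true := by
  decide +kernel

/-- the nodes of the tree of type E7 -/
def e7Nodes : List (List ℕ) :=
  [[66, 87, 63, 92, 125],
   [73, 87, 63, 92, 125],
   [78, 87, 63, 92, 125],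
   [87, 63, 92, 125],
   [63, 92, 125],
   [66, 63, 87, 92, 125],
   [73, 63, 87, 92, 125],
   [78, 63, 87, 92, 125],
   [63, 87, 92, 125],
   [63, 66, 87, 92, 125],
   [73, 66, 87, 92, 125],
   [78, 66, 87, 92, 125],
   [66, 87, 92, 125],
   [63, 73, 87, 92, 125],
   [66, 73, 87, 92, 125],
   [78, 73, 87, 92, 125],
   [73, 87, 92, 125],
   [63, 78, 87, 92, 125],
   [66, 78, 87, 92, 125],
   [73, 78, 87, 92, 125],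
   [78, 87, 92, 125],
   [87, 92, 125],
   [92, 125],
   [125],
   []]

/-- the descent table of type E7 -/
def e7DscTab : List (List ℕ × List ℕ) :=
  [([], [0, 32, 31, 30, 29, 28, 27, 26, 25, 24, 23, 22, 21, 20, 19, 18, 17, 16, 15, 14, 13, 12, 11, 10, 9, 8, 7, 6, 5, 4, 3, 2, 1, 17, 18, 19, 20, 21, 22, 23, 24, 25, 26, 23, 24, 25, 26, 26, 27, 28, 29, 30, 31, 27, 28, 29, 30, 27, 28, 29, 27, 28, 27, 28, 29, 29, 30, 30, 30, 31, 31, 31, 31, 32, 32, 32, 32, 32, 30, 31, 31, 31, 31, 32, 32, 32, 32, 32, 32, 32, 32, 32, 32, 1, 2, 3, 4, 5, 6, 7, 8, 9, 10, 11, 12, 13, 14, 15, 16, 17, 18, 19, 20, 21, 22, 23, 24, 25, 26, 27, 28, 29, 30, 31, 32, 126]),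
   ([125], [0, 0, 0, 0, 0, 0, 0, 0, 0, 0, 0, 0, 0, 0, 0, 0, 0, 0, 0, 0, 0, 0, 0, 0, 0, 0, 0, 0, 0, 0, 0, 0, 0, 33, 61, 60, 58, 57, 37, 54, 53, 40, 40, 49, 48, 44, 44, 44, 44, 43, 49, 49, 49, 40, 39, 54, 54, 37, 36, 58, 35, 34, 60, 61, 34, 35, 61, 36, 37, 58, 61, 39, 40, 54, 58, 61, 43, 44, 54, 58, 61, 48, 49, 58, 61, 53, 54, 61, 57, 58, 60, 61, 126, 0, 0, 0, 0, 0, 0, 0, 0, 0, 0, 0, 0, 0, 0, 0, 0, 0, 0, 0, 0, 0, 0, 0, 0, 0, 0, 0, 0, 0, 0, 0, 0, 0]),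
   ([92, 125], [0, 0, 0, 0, 0, 0, 0, 0, 0, 0, 0, 0, 0, 0, 0, 0, 0, 0, 0, 0, 0, 0, 0, 0, 0, 0, 0, 0, 0, 0, 0, 0, 0, 0, 0, 0, 0, 0, 38, 0, 0, 56, 55, 0, 0, 51, 50, 46, 0, 0, 46, 45, 51, 0, 0, 42, 41, 0, 0, 55, 0, 0, 62, 126, 0, 0, 56, 0, 0, 41, 42, 0, 0, 56, 45, 46, 0, 0, 56, 50, 51, 0, 0, 55, 56, 0, 0, 126, 0, 0, 0, 0, 0, 0, 0, 0, 0, 0, 0, 0, 0, 0, 0, 0, 0, 0, 0, 0, 0, 0, 0, 0, 0, 0, 0, 0, 0, 0, 0, 0, 0, 0, 0, 0, 0, 0]),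
   ([87, 92, 125], [0, 0, 0, 0, 0, 0, 0, 0, 0, 0, 0, 0, 0, 0, 0, 0, 0, 0, 0, 0, 0, 0, 0, 0, 0, 0, 0, 0, 0, 0, 0, 0, 0, 0, 0, 0, 0, 0, 0, 0, 0, 0, 0, 0, 0, 0, 0, 47, 0, 0, 0, 0, 52, 0, 0, 0, 0, 0, 0, 59, 0, 0, 62, 126, 0, 0, 126, 0, 0, 0, 0, 0, 0, 126, 0, 0, 0, 0, 126, 0, 0, 0, 0, 0, 0, 0, 0, 0, 0, 0, 0, 0, 0, 0, 0, 0, 0, 0, 0, 0, 0, 0, 0, 0, 0, 0, 0, 0, 0, 0, 0, 0, 0, 0, 0, 0, 0, 0, 0, 0, 0, 0, 0, 0, 0, 0]),
   ([78, 87, 92, 125], [0, 0, 0, 0, 0, 0, 0, 0, 0, 0, 0, 0, 0, 0, 0, 0, 0, 0, 0, 0, 0, 0, 0, 0, 0, 0, 0, 0, 0, 0, 0, 0, 0, 0, 0, 0, 0, 0, 0, 0, 0, 0, 0, 0, 0, 0, 0, 0, 0, 0, 0, 0, 52, 0, 0, 0, 0, 0, 0, 59, 0, 0, 62, 126, 0, 0, 126, 0, 0, 0, 0, 0, 0, 126, 0, 0, 0, 0, 0, 0, 0, 0, 0, 0, 0, 0, 0, 0, 0, 0, 0, 0, 0, 0, 0, 0, 0, 0, 0, 0, 0, 0, 0, 0, 0, 0, 0, 0, 0, 0, 0, 0, 0, 0, 0, 0, 0, 0, 0, 0, 0, 0, 0, 0, 0, 0]),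
   ([73, 87, 92, 125], [0, 0, 0, 0, 0, 0, 0, 0, 0, 0, 0, 0, 0, 0, 0, 0, 0, 0, 0, 0, 0, 0, 0, 0, 0, 0, 0, 0, 0, 0, 0, 0, 0, 0, 0, 0, 0, 0, 0, 0, 0, 0, 0, 0, 0, 0, 0, 47, 0, 0, 0, 0, 0, 0, 0, 0, 0, 0, 0, 59, 0, 0, 62, 126, 0, 0, 126, 0, 0, 0, 0, 0, 0, 0, 0, 0, 0, 0, 126, 0, 0, 0, 0, 0, 0, 0, 0, 0, 0, 0, 0, 0, 0, 0, 0, 0, 0, 0, 0, 0, 0, 0, 0, 0, 0, 0, 0, 0, 0, 0, 0, 0, 0, 0, 0, 0, 0, 0, 0, 0, 0, 0, 0, 0, 0, 0]),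
   ([66, 87, 92, 125], [0, 0, 0, 0, 0, 0, 0, 0, 0, 0, 0, 0, 0, 0, 0, 0, 0, 0, 0, 0, 0, 0, 0, 0, 0, 0, 0, 0, 0, 0, 0, 0, 0, 0, 0, 0, 0, 0, 0, 0, 0, 0, 0, 0, 0, 0, 0, 47, 0, 0, 0, 0, 52, 0, 0, 0, 0, 0, 0, 0, 0, 0, 62, 126, 0, 0, 0, 0, 0, 0, 0, 0, 0, 126, 0, 0, 0, 0, 126, 0, 0, 0, 0, 0, 0, 0, 0, 0, 0, 0, 0, 0, 0, 0, 0, 0, 0, 0, 0, 0, 0, 0, 0, 0, 0, 0, 0, 0, 0, 0, 0, 0, 0, 0, 0, 0, 0, 0, 0, 0, 0, 0, 0, 0, 0, 0]),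
   ([63, 87, 92, 125], [0, 0, 0, 0, 0, 0, 0, 0, 0, 0, 0, 0, 0, 0, 0, 0, 0, 0, 0, 0, 0, 0, 0, 0, 0, 0, 0, 0, 0, 0, 0, 0, 0, 0, 0, 0, 0, 0, 0, 0, 0, 0, 0, 0, 0, 0, 0, 47, 0, 0, 0, 0, 52, 0, 0, 0, 0, 0, 0, 59, 0, 0, 0, 0, 0, 0, 126, 0, 0, 0, 0, 0, 0, 126, 0, 0, 0, 0, 126, 0, 0, 0, 0, 0, 0, 0, 0, 0, 0, 0, 0, 0, 0, 0, 0, 0, 0, 0, 0, 0, 0, 0, 0, 0, 0, 0, 0, 0, 0, 0, 0, 0, 0, 0, 0, 0, 0, 0, 0, 0, 0, 0, 0, 0, 0, 0]),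
   ([63, 92, 125], [0, 0, 0, 0, 0, 0, 0, 0, 0, 0, 0, 0, 0, 0, 0, 0, 0, 0, 0, 0, 0, 0, 0, 0, 0, 0, 0, 0, 0, 0, 0, 0, 0, 0, 0, 0, 0, 0, 38, 0, 0, 56, 55, 0, 0, 51, 50, 46, 0, 0, 46, 45, 51, 0, 0, 42, 41, 0, 0, 55, 0, 0, 0, 0, 0, 0, 56, 0, 0, 41, 42, 0, 0, 56, 45, 46, 0, 0, 56, 50, 51, 0, 0, 55, 56, 0, 0, 126, 0, 0, 0, 0, 0, 0, 0, 0, 0, 0, 0, 0, 0, 0, 0, 0, 0, 0, 0, 0, 0, 0, 0, 0, 0, 0, 0, 0, 0, 0, 0, 0, 0, 0, 0, 0, 0, 0]),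
   ([87, 63, 92, 125], [0, 0, 0, 0, 0, 0, 0, 0, 0, 0, 0, 0, 0, 0, 0, 0, 0, 0, 0, 0, 0, 0, 0, 0, 0, 0, 0, 0, 0, 0, 0, 0, 0, 0, 0, 0, 0, 0, 0, 0, 0, 0, 0, 0, 0, 0, 0, 47, 0, 0, 0, 0, 52, 0, 0, 0, 0, 0, 0, 59, 0, 0, 0, 0, 0, 0, 126, 0, 0, 0, 0, 0, 0, 126, 0, 0, 0, 0, 126, 0, 0, 0, 0, 0, 0, 0, 0, 0, 0, 0, 0, 0, 0, 0, 0, 0, 0, 0, 0, 0, 0, 0, 0, 0, 0, 0, 0, 0, 0, 0, 0, 0, 0, 0, 0, 0, 0, 0, 0, 0, 0, 0, 0, 0, 0, 0])]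

/-- the words to the representatives of type E7 -/
def e7KindATab : List (List ℕ × (List ℕ × ℕ)) :=
  [([], ([], 0)),
   ([125], ([], 1)),
   ([92, 125], ([], 2)),
   ([63, 92, 125], ([], 3)),
   ([87, 92, 125], ([], 4)),
   ([87, 63, 92, 125], ([], 5)),
   ([63, 87, 92, 125], ([], 5)),
   ([66, 87, 92, 125], ([61, 57, 59], 5)),
   ([78, 87, 92, 125], ([32, 11, 61, 57, 51, 41], 5))]

/-- the quadruples of type E7 -/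
def e7KindBTab : List (List ℕ × (ℕ × ℕ × ℕ × ℕ × ℕ × List ℕ)) :=
  [([73, 78, 87, 92, 125], (2, 73, 87, 92, 125, [78])),
   ([66, 78, 87, 92, 125], (4, 66, 78, 92, 125, [87])),
   ([63, 78, 87, 92, 125], (6, 63, 78, 87, 125, [92])),
   ([73, 87, 92, 125], (2, 73, 87, 92, 125, [])),
   ([78, 73, 87, 92, 125], (2, 73, 87, 92, 125, [78])),
   ([66, 73, 87, 92, 125], (2, 73, 87, 92, 125, [66])),
   ([63, 73, 87, 92, 125], (2, 73, 87, 92, 125, [63])),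
   ([78, 66, 87, 92, 125], (7, 78, 66, 92, 125, [87])),
   ([73, 66, 87, 92, 125], (2, 73, 87, 92, 125, [66])),
   ([63, 66, 87, 92, 125], (35, 63, 66, 87, 92, [125])),
   ([78, 63, 87, 92, 125], (9, 78, 63, 87, 125, [92])),
   ([73, 63, 87, 92, 125], (2, 73, 87, 92, 125, [63])),
   ([66, 63, 87, 92, 125], (36, 66, 63, 87, 92, [125])),
   ([78, 87, 63, 92, 125], (9, 78, 87, 63, 125, [92])),
   ([73, 87, 63, 92, 125], (2, 73, 87, 92, 125, [63])),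
   ([66, 87, 63, 92, 125], (36, 66, 87, 63, 92, [125]))]

/-- the tree of representatives of type E7 -/
def orbE7 : OrbData where
  nodes := e7Nodes
  dsc := fun N r => ((e7DscTab.lookup N).getD []).getD r 0
  fuel := 4
  reps := [[], [125], [92, 125], [63, 92, 125], [87, 92, 125], [87, 63, 92, 125]]
  kindA := fun N => (e7KindATab.lookup N).getD ([], 0)
  kindB := fun N => e7KindBTab.lookup N

theorem e7TreeOK : treeOK cdE7.D relE7.pair orbE7 = true := by decide +kernel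

end Cfsg.Agent.Lib.Helper3.SLInv
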