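import Mathlib
import Cfsg.Prelude.Def_ChevStructure
import Cfsg.Prelude.Def_ChevE7
import Cfsg.Agent.Lib.Helper3.SLBridge6
import Cfsg.Agent.Lib.Helper3.SLE7a
import Cfsg.Agent.Lib.Helper3.SLE7b
set_option autoImplicit false
set_option linter.unusedSectionVars false
set_option linter.unusedVariables false
set_option linter.unusedSimpArgs false
set_option linter.style.haveILetI false
set_option maxRecDepth 1000000
open Cfsg Cfsg.Lie

/-!
The five classes of involutions of the groups of type `E₇` in characteristic two.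
-/

namespace Cfsg.Agent.Lib.Helper3.SLInv

open Cfsg.Agent.Lib.Helper3.ChevM Cfsg.Agent.Lib.Helper3 ChevU ChevT
open Cfsg.Agent.Lib.Helper3.ChevAt Cfsg.Agent.Lib.Helper3.ChevAut

/-- the representatives of the classes of involutions of type `E₇` -/
def e7Reps : Fin 5 → List ℕ := ![[125], [92, 125], [63, 92, 125], [87, 92, 125], [87, 63, 92, 125]]

/-- the ranks of the representatives minus one -/
def e7Ranks : Fin 5 → ℕ := ![34, 52, 53, 62, 63]

theorem e7Ranks_inj : Function.Injective e7Ranks := by decide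

theorem e7Ranks_pos (i : Fin 5) : 0 < e7Ranks i := by revert i; decide

theorem e7_orth (i : Fin 5) : OrthI cdE7.D relE7.pair (e7Reps i) := by
  fin_cases i <;> exact ⟨by decide, by decide +kernel⟩

section
variable (F : Type*) [Field F] [Fintype F] [CharP F 2]

theorem e7_rank (i : Fin 5) :
    (((xsI relE7 F (e7Reps i) : GL cdE7.D.Idx F) : Matrix cdE7.D.Idx cdE7.D.Idx F) - 1).rank = e7Ranks i := by
  fin_cases i
  · have h : ((xsI relE7 F [125] : GL cdE7.D.Idx F) : Matrix cdE7.D.Idx cdE7.D.Idx F) = cdE7.D.x F 125 1 := by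
      simp [xsI]
    show (((xsI relE7 F [125] : GL cdE7.D.Idx F) : Matrix cdE7.D.Idx cdE7.D.Idx F) - 1).rank = 34
    rw [h]; exact e7_rank1 F
  · have h : ((xsI relE7 F [92, 125] : GL cdE7.D.Idx F) : Matrix cdE7.D.Idx cdE7.D.Idx F) =
        cdE7.D.x F 92 1 * cdE7.D.x F 125 1 := by
      simp [xsI]
    show (((xsI relE7 F [92, 125] : GL cdE7.D.Idx F) : Matrix cdE7.D.Idx cdE7.D.Idx F) - 1).rank = 52
    rw [h]; exact e7_rank2 F
  · have h : ((xsI relE7 F [63, 92, 125] : GL cdE7.D.Idx F) : Matrix cdE7.D.Idx cdE7.D.Idx F) =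
        cdE7.D.x F 63 1 * cdE7.D.x F 92 1 * cdE7.D.x F 125 1 := by
      simp [xsI, mul_assoc]
    show (((xsI relE7 F [63, 92, 125] : GL cdE7.D.Idx F) : Matrix cdE7.D.Idx cdE7.D.Idx F) - 1).rank = 53
    rw [h]; exact e7_rank3 F
  · have h : ((xsI relE7 F [87, 92, 125] : GL cdE7.D.Idx F) : Matrix cdE7.D.Idx cdE7.D.Idx F) =
        cdE7.D.x F 87 1 * cdE7.D.x F 92 1 * cdE7.D.x F 125 1 := by
      simp [xsI, mul_assoc]
    show (((xsI relE7 F [87, 92, 125] : GL cdE7.D.Idx F) : Matrix cdE7.D.Idx cdE7.D.Idx F) - 1).rank = 62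
    rw [h]; exact e7_rank4 F
  · have h : ((xsI relE7 F [87, 63, 92, 125] : GL cdE7.D.Idx F) : Matrix cdE7.D.Idx cdE7.D.Idx F) =
        cdE7.D.x F 87 1 * cdE7.D.x F 63 1 * cdE7.D.x F 92 1 * cdE7.D.x F 125 1 := by
      simp [xsI, mul_assoc]
    show (((xsI relE7 F [87, 63, 92, 125] : GL cdE7.D.Idx F) : Matrix cdE7.D.Idx cdE7.D.Idx F) - 1).rank = 63
    rw [h]; exact e7_rank5 F

/-- the representatives as elements of the group -/
def e7RepG (i : Fin 5) : ↥(cdE7.D.group F) := ⟨xsI relE7 F (e7Reps i), invHypE7.xsI_mem F (e7_orth i).1⟩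

theorem e7_repG_order (i : Fin 5) : orderOf (e7RepG F i) = 2 := by
  have h : orderOf (xsI relE7 F (e7Reps i)) = 2 := by
    apply orderOf_eq_prime
    · rw [pow_two]; exact invHypE7.xsI_mul_self F (e7_orth i)
    · intro h1
      have := e7_rank F i
      rw [h1] at this
      simp at this
      have := e7Ranks_pos i
      omega
  rw [← h]
  exact Subgroup.orderOf_mk _ _

theorem e7_inj : Function.Injective (fun i : Fin 5 => ConjClasses.mk (e7RepG F i)) := by
  intro i j h
  simp only [ConjClasses.mk_eq_mk_iff_isConj, isConj_iff] at h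
  obtain ⟨c, hc⟩ := h
  have hc' : (c : GL cdE7.D.Idx F) * xsI relE7 F (e7Reps i) * (c : GL cdE7.D.Idx F)⁻¹ = xsI relE7 F (e7Reps j) := by
    have := congrArg Subtype.val hc
    simpa [e7RepG] using this
  have hr := rank_conj_sub_one (c : GL cdE7.D.Idx F) (xsI relE7 F (e7Reps i))
  rw [hc', e7_rank, e7_rank] at hr
  exact (e7Ranks_inj hr).symm

theorem e7_set_eq : ConjClasses.mk '' {g : ↥(cdE7.D.group F) | orderOf g = 2} =
    (fun i : Fin 5 => ConjClasses.mk (e7RepG F i)) '' Set.univ := by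
  apply Set.eq_of_subset_of_subset
  · rintro _ ⟨g, hg, rfl⟩
    have hg2 : orderOf (g : GL cdE7.D.Idx F) = 2 := by
      rw [Subgroup.orderOf_coe]; exact hg
    obtain ⟨rep, hrep, hne, h, hh, e⟩ :=
      invHypE7.involution_rep F e7CascCheck (e7_sylow 2) orbE7 e7TreeOK g g.2 hg2
    have hreps : orbE7.reps = [[], [125], [92, 125], [63, 92, 125], [87, 92, 125], [87, 63, 92, 125]] := rfl
    rw [hreps] at hrep
    simp only [List.mem_cons, List.not_mem_nil, or_false] at hrep
    have key : ∀ i : Fin 5, rep = e7Reps i → ConjClasses.mk g ∈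
        (fun i : Fin 5 => ConjClasses.mk (e7RepG F i)) '' Set.univ := by
      intro i hi
      refine ⟨i, Set.mem_univ _, ?_⟩
      show ConjClasses.mk (e7RepG F i) = ConjClasses.mk g
      rw [ConjClasses.mk_eq_mk_iff_isConj, isConj_comm, isConj_iff]
      refine ⟨⟨h, hh⟩, ?_⟩
      apply Subtype.ext
      simp only [e7RepG, Subgroup.coe_mul, Subgroup.coe_inv]
      rw [e, hi]
    rcases hrep with rfl | rfl | rfl | rfl | rfl | rfl
    · exact absurd rfl hne
    · exact key 0 rfl
    · exact key 1 rfl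
    · exact key 2 rfl
    · exact key 3 rfl
    · exact key 4 rfl
  · rintro _ ⟨i, -, rfl⟩
    exact ⟨e7RepG F i, e7_repG_order F i, rfl⟩

theorem e7_count : (ConjClasses.mk '' {g : ↥(cdE7.D.group F) | orderOf g = 2}).ncard = 5 := by
  rw [e7_set_eq, Set.ncard_image_of_injective _ (e7_inj F), Set.ncard_univ, Nat.card_eq_fintype_card,
    Fintype.card_fin]

end

end Cfsg.Agent.Lib.Helper3.SLInv
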