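import Mathlib
import Cfsg.Prelude.Def_ChevStructure
import Cfsg.Prelude.Def_ChevE8
import Cfsg.Agent.Lib.Helper3.SLBridge1
import Cfsg.Agent.Lib.Helper3.ChevData.E8Rel
set_option autoImplicit false
set_option linter.unusedSectionVars false
set_option linter.unusedVariables false
set_option linter.style.haveILetI false
set_option maxRecDepth 1000000
open Cfsg Cfsg.Lie

/-!
The check of a row of the table of pairs of roots of type `E₈`.
-/

namespace Cfsg.Agent.Lib.Helper3.SLInv

open Cfsg.Agent.Lib.Helper3.ChevM Cfsg.Agent.Lib.Helper3 ChevU ChevT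
open Cfsg.Agent.Lib.Helper3.ChevAt

/-- the check of a row of the table of pairs of roots of type `E₈` -/
def e8PrRow (r : ℕ) : Bool := (List.range 240).all fun s => slPairCheck cdE8.D relE8.pair r s

end Cfsg.Agent.Lib.Helper3.SLInv
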