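import Mathlib
import Cfsg.Prelude.Def_ChevStructure
import Cfsg.Prelude.Def_ChevE8
import Cfsg.Agent.Lib.Helper3.SLBridge5
import Cfsg.Agent.Lib.Helper3.ChevAutE8
import Cfsg.Agent.Lib.Helper3.SLE8p0
import Cfsg.Agent.Lib.Helper3.SLE8p1
import Cfsg.Agent.Lib.Helper3.SLE8p2
import Cfsg.Agent.Lib.Helper3.SLE8p3
import Cfsg.Agent.Lib.Helper3.SLE8p4
import Cfsg.Agent.Lib.Helper3.SLE8p5
import Cfsg.Agent.Lib.Helper3.SLE8p6
import Cfsg.Agent.Lib.Helper3.SLE8p7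
set_option autoImplicit false
set_option linter.unusedSectionVars false
set_option linter.unusedVariables false
set_option linter.style.haveILetI false
set_option maxRecDepth 1000000
open Cfsg Cfsg.Lie

/-!
The classes of involutions of the groups of type `E₈` in characteristic two: the table checks, the cascade of
highest roots and the tree of representatives of the lists of orthogonal roots.
-/

namespace Cfsg.Agent.Lib.Helper3.SLInv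

open Cfsg.Agent.Lib.Helper3.ChevM Cfsg.Agent.Lib.Helper3 ChevU ChevT
open Cfsg.Agent.Lib.Helper3.ChevAt
open Cfsg.Agent.Lib.Helper3.ChevAut

/-- the weights of the height function of type `E₈` -/
def wE8 : ℕ → ℤ := fun i => 16 ^ (7 - i)

theorem e8Pr : ∀ r < 240, ∀ s < 240, slPairCheck cdE8.D relE8.pair r s = true := by
  intro r hr s hs
  have h : e8PrRow r = true := by
    by_cases c0 : r < 10
    · exact allRange_spec e8Pr_0 r (by omega) c0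
    by_cases c10 : r < 20
    · exact allRange_spec e8Pr_10 r (by omega) c10
    by_cases c20 : r < 30
    · exact allRange_spec e8Pr_20 r (by omega) c20
    by_cases c30 : r < 40
    · exact allRange_spec e8Pr_30 r (by omega) c30
    by_cases c40 : r < 50
    · exact allRange_spec e8Pr_40 r (by omega) c40
    by_cases c50 : r < 60
    · exact allRange_spec e8Pr_50 r (by omega) c50
    by_cases c60 : r < 70
    · exact allRange_spec e8Pr_60 r (by omega) c60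
    by_cases c70 : r < 80
    · exact allRange_spec e8Pr_70 r (by omega) c70
    by_cases c80 : r < 90
    · exact allRange_spec e8Pr_80 r (by omega) c80
    by_cases c90 : r < 100
    · exact allRange_spec e8Pr_90 r (by omega) c90
    by_cases c100 : r < 110
    · exact allRange_spec e8Pr_100 r (by omega) c100
    by_cases c110 : r < 120
    · exact allRange_spec e8Pr_110 r (by omega) c110
    by_cases c120 : r < 130
    · exact allRange_spec e8Pr_120 r (by omega) c120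
    by_cases c130 : r < 140
    · exact allRange_spec e8Pr_130 r (by omega) c130
    by_cases c140 : r < 150
    · exact allRange_spec e8Pr_140 r (by omega) c140
    by_cases c150 : r < 160
    · exact allRange_spec e8Pr_150 r (by omega) c150
    by_cases c160 : r < 170
    · exact allRange_spec e8Pr_160 r (by omega) c160
    by_cases c170 : r < 180
    · exact allRange_spec e8Pr_170 r (by omega) c170
    by_cases c180 : r < 190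
    · exact allRange_spec e8Pr_180 r (by omega) c180
    by_cases c190 : r < 200
    · exact allRange_spec e8Pr_190 r (by omega) c190
    by_cases c200 : r < 210
    · exact allRange_spec e8Pr_200 r (by omega) c200
    by_cases c210 : r < 220
    · exact allRange_spec e8Pr_210 r (by omega) c210
    by_cases c220 : r < 230
    · exact allRange_spec e8Pr_220 r (by omega) c220
    exact allRange_spec e8Pr_230 r (by omega) hr
  simp only [e8PrRow, List.all_eq_true, List.mem_range] at h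
  exact h s hs

theorem e8CartAll : allRange 0 8 (fun i => allRange 0 240 (fun s => slCartCheck cdE8.D i s)) = true := by
  decide +kernel

theorem e8KeyAll : allRange 0 240 (fun r => slKeyCheck cdE8.D wE8 r) = true := by decide +kernel

theorem e8NegAll : allRange 0 240 (fun r => slNegCheck cdE8.D r) = true := by decide +kernel

/-- the table checks of type `E₈` -/
def invHypE8 : SLHyp cdE8 relE8 where
  A := autHypE8.A
  hcs := by decide +kernel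
  w := wE8
  cart := fun i hi s hs => allRange_spec (allRange_spec e8CartAll i (Nat.zero_le _) hi) s (Nat.zero_le _) hs
  sym := by decide +kernel
  key := fun r hr => allRange_spec e8KeyAll r (Nat.zero_le _) hr
  neg := fun r hr => allRange_spec e8NegAll r (Nat.zero_le _) hr
  pr := e8Pr

theorem e8CascCheck : cascCheck cdE8.D relE8.pair wE8 [] [239, 226, 159, 121, 152, 126, 135, 141] = true := by
  decide +kernel

/-- the nodes of the tree of type E8 -/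
def e8Nodes : List (List ℕ) :=
  [[152, 121, 159, 226, 239],
   [121, 159, 226, 239],
   [121, 152, 159, 226, 239],
   [126, 152, 159, 226, 239],
   [135, 152, 159, 226, 239],
   [141, 152, 159, 226, 239],
   [152, 159, 226, 239],
   [159, 226, 239],
   [226, 239],
   [239],
   []]

/-- the descent table of type E8 -/
def e8DscTab : List (List ℕ × List ℕ) :=
  [([], [0, 119, 117, 114, 110, 105, 99, 93, 88, 84, 81, 79, 78, 12, 71, 66, 62, 59, 57, 56, 19, 52, 49, 47, 46, 24, 43, 41, 40, 28, 38, 37, 31, 36, 33, 33, 33, 31, 30, 38, 28, 27, 41, 26, 43, 43, 24, 23, 47, 22, 49, 49, 21, 52, 52, 52, 19, 18, 57, 17, 59, 59, 16, 62, 62, 62, 15, 66, 66, 66, 66, 14, 71, 71, 71, 71, 71, 71, 12, 11, 79, 10, 81, 81, 9, 84, 84, 84, 8, 88, 88, 88, 88, 7, 93, 93, 93, 93, 93, 6, 99, 99, 99, 99, 99, 5, 105, 105, 105, 105, 4, 110, 110, 110, 3, 114, 114, 2, 117, 1, 1,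 119, 2, 117, 119, 3, 114, 117, 119, 4, 110, 114, 117, 119, 5, 105, 110, 114, 117, 119, 6, 105, 110, 114, 117, 119, 7, 110, 114, 117, 119, 8, 114, 117, 119, 9, 117, 119, 10, 119, 11, 12, 99, 105, 110, 114, 117, 119, 14, 110, 114, 117, 119, 15, 114, 117, 119, 16, 117, 119, 17, 119, 18, 19, 114, 117, 119, 21, 117, 119, 22, 119, 23, 24, 117, 119, 26, 119, 27, 28, 119, 30, 31, 33, 117, 119, 36, 119, 37, 38, 119, 40, 41, 43, 119, 46, 47, 49, 52, 119, 56, 57, 59, 62, 66, 71, 119, 78, 79, 81, 84, 88, 93, 99, 105, 110, 114, 117, 119, 240]),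
   ([239], [0, 0, 0, 0, 0, 0, 0, 0, 0, 0, 0, 0, 0, 13, 0, 0, 0, 0, 0, 0, 77, 0, 0, 0, 0, 76, 0, 0, 0, 75, 0, 0, 74, 0, 73, 72, 0, 0, 0, 70, 0, 0, 69, 0, 68, 67, 0, 0, 65, 0, 64, 63, 0, 61, 60, 58, 0, 0, 55, 0, 54, 53, 0, 51, 50, 48, 0, 45, 44, 42, 39, 0, 35, 34, 32, 29, 25, 20, 0, 0, 58, 0, 60, 61, 0, 63, 64, 65, 0, 67, 68, 69, 70, 0, 67, 68, 69, 70, 70, 0, 72, 73, 74, 75, 76, 0, 72, 73, 74, 75, 0, 72, 73, 74, 0, 72, 73, 0, 72, 0, 0, 73, 0, 74, 74, 0, 75, 75, 75, 0, 76, 76, 76, 76, 0, 77, 77, 77, 77, 77, 0, 75, 76, 76, 76, 76, 0, 77, 77, 77, 77, 0, 77, 77, 77, 0, 77, 77, 0, 77, 0, 0, 20, 25, 29, 32, 34, 35, 0, 39, 42, 44, 45, 0, 48, 50, 51, 0, 53, 54, 0, 55, 0, 0, 58, 60, 61, 0, 63, 64, 0, 65, 0, 0, 67, 68, 0, 69, 0, 0, 70, 0, 0, 0, 72, 73, 0, 74, 0, 0, 75, 0, 0, 0, 76, 0, 0, 0, 0, 77, 0, 0, 0, 0, 0, 0, 240, 0, 0, 0, 0, 0, 0, 0, 0, 0, 0, 0, 0, 0]),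
   ([226, 239], [0, 0, 0, 0, 0, 0, 0, 0, 0, 0, 0, 0, 0, 0, 0, 0, 0, 0, 0, 0, 0, 0, 0, 0, 0, 0, 0, 0, 0, 0, 0, 0, 0, 0, 0, 0, 0, 0, 0, 0, 0, 0, 0, 0, 0, 0, 0, 0, 0, 0, 0, 0, 0, 0, 0, 0, 0, 0, 0, 0, 0, 0, 0, 0, 0, 0, 0, 0, 0, 0, 0, 0, 0, 0, 0, 0, 0, 0, 0, 0, 80, 0, 116, 115, 0, 112, 111, 86, 0, 107, 106, 90, 90, 0, 101, 100, 95, 95, 95, 0, 95, 94, 101, 101, 101, 0, 90, 89, 107, 107, 0, 86, 85, 112, 0, 83, 82, 0, 115, 0, 0, 116, 0, 82, 83, 0, 116, 85, 86, 0, 112, 116, 89, 90, 0, 107, 112, 116, 94, 95, 0, 107, 112, 116, 100, 101, 0, 112, 116, 106, 107, 0, 116, 111, 112, 0, 115, 116, 0, 240, 0, 0, 0, 0, 0, 0, 0, 0, 0, 0, 0, 0, 0, 0, 0, 0, 0, 0, 0, 0, 0, 0, 0, 0, 0, 0, 0, 0, 0, 0, 0, 0, 0, 0, 0, 0, 0, 0, 0, 0, 0, 0, 0, 0, 0, 0, 0, 0, 0, 0, 0, 0, 0, 0, 0, 0, 0, 0, 0, 0, 0, 0, 0, 0, 0, 0, 0, 0, 0, 0, 0, 0, 0, 0, 0, 0, 0, 0, 0, 0]),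
   ([159, 226, 239], [0, 0, 0, 0, 0, 0, 0, 0, 0, 0, 0, 0, 0, 0, 0, 0, 0, 0, 0, 0, 0, 0, 0, 0, 0, 0, 0, 0, 0, 0, 0, 0, 0, 0, 0, 0, 0, 0, 0, 0, 0, 0, 0, 0, 0, 0, 0, 0, 0, 0, 0, 0, 0, 0, 0, 0, 0, 0, 0, 0, 0, 0, 0, 0, 0, 0, 0, 0, 0, 0, 0, 0, 0, 0, 0, 0, 0, 0, 0, 0, 0, 0, 0, 0, 0, 0, 0, 87, 0, 0, 0, 109, 108, 0, 0, 0, 103, 102, 97, 0, 0, 0, 97, 96, 103, 0, 0, 0, 92, 91, 0, 0, 0, 108, 0, 0, 0, 0, 118, 0, 0, 240, 0, 0, 0, 0, 109, 0, 0, 0, 91, 92, 0, 0, 0, 109, 96, 97, 0, 0, 0, 109, 102, 103, 0, 0, 0, 108, 109, 0, 0, 0, 240, 0, 0, 0, 0, 0, 0, 0, 0, 0, 0, 0, 0, 0, 0, 0, 0, 0, 0, 0, 0, 0, 0, 0, 0, 0, 0, 0, 0, 0, 0, 0, 0, 0, 0, 0, 0, 0, 0, 0, 0, 0, 0, 0, 0, 0, 0, 0, 0, 0, 0, 0, 0, 0, 0, 0, 0, 0, 0, 0, 0, 0, 0, 0, 0, 0, 0, 0, 0, 0, 0, 0, 0, 0, 0, 0, 0, 0, 0, 0, 0, 0, 0, 0, 0, 0, 0, 0]),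
   ([152, 159, 226, 239], [0, 0, 0, 0, 0, 0, 0, 0, 0, 0, 0, 0, 0, 0, 0, 0, 0, 0, 0, 0, 0, 0, 0, 0, 0, 0, 0, 0, 0, 0, 0, 0, 0, 0, 0, 0, 0, 0, 0, 0, 0, 0, 0, 0, 0, 0, 0, 0, 0, 0, 0, 0, 0, 0, 0, 0, 0, 0, 0, 0, 0, 0, 0, 0, 0, 0, 0, 0, 0, 0, 0, 0, 0, 0, 0, 0, 0, 0, 0, 0, 0, 0, 0, 0, 0, 0, 0, 0, 0, 0, 0, 0, 0, 0, 0, 0, 0, 0, 98, 0, 0, 0, 0, 0, 104, 0, 0, 0, 0, 0, 0, 0, 0, 113, 0, 0, 0, 0, 118, 0, 0, 240, 0, 0, 0, 0, 240, 0, 0, 0, 0, 0, 0, 0, 0, 240, 0, 0, 0, 0, 0, 240, 0, 0, 0, 0, 0, 0, 0, 0, 0, 0, 0, 0, 0, 0, 0, 0, 0, 0, 0, 0, 0, 0, 0, 0, 0, 0, 0, 0, 0, 0, 0, 0, 0, 0, 0, 0, 0, 0, 0, 0, 0, 0, 0, 0, 0, 0, 0, 0, 0, 0, 0, 0, 0, 0, 0, 0, 0, 0, 0, 0, 0, 0, 0, 0, 0, 0, 0, 0, 0, 0, 0, 0, 0, 0, 0, 0, 0, 0, 0, 0, 0, 0, 0, 0, 0, 0, 0, 0, 0, 0, 0, 0, 0, 0, 0, 0, 0, 0]),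
   ([121, 159, 226, 239], [0, 0, 0, 0, 0, 0, 0, 0, 0, 0, 0, 0, 0, 0, 0, 0, 0, 0, 0, 0, 0, 0, 0, 0, 0, 0, 0, 0, 0, 0, 0, 0, 0, 0, 0, 0, 0, 0, 0, 0, 0, 0, 0, 0, 0, 0, 0, 0, 0, 0, 0, 0, 0, 0, 0, 0, 0, 0, 0, 0, 0, 0, 0, 0, 0, 0, 0, 0, 0, 0, 0, 0, 0, 0, 0, 0, 0, 0, 0, 0, 0, 0, 0, 0, 0, 0, 0, 87, 0, 0, 0, 109, 108, 0, 0, 0, 103, 102, 97, 0, 0, 0, 97, 96, 103, 0, 0, 0, 92, 91, 0, 0, 0, 108, 0, 0, 0, 0, 0, 0, 0, 0, 0, 0, 0, 0, 109, 0, 0, 0, 91, 92, 0, 0, 0, 109, 96, 97, 0, 0, 0, 109, 102, 103, 0, 0, 0, 108, 109, 0, 0, 0, 240, 0, 0, 0, 0, 0, 0, 0, 0, 0, 0, 0, 0, 0, 0, 0, 0, 0, 0, 0, 0, 0, 0, 0, 0, 0, 0, 0, 0, 0, 0, 0, 0, 0, 0, 0, 0, 0, 0, 0, 0, 0, 0, 0, 0, 0, 0, 0, 0, 0, 0, 0, 0, 0, 0, 0, 0, 0, 0, 0, 0, 0, 0, 0, 0, 0, 0, 0, 0, 0, 0, 0, 0, 0, 0, 0, 0, 0, 0, 0, 0, 0, 0, 0, 0, 0, 0, 0])]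

/-- the words to the representatives of type E8 -/
def e8KindATab : List (List ℕ × (List ℕ × ℕ)) :=
  [([], ([], 0)),
   ([239], ([], 1)),
   ([226, 239], ([99], 2)),
   ([159, 226, 239], ([52, 77, 55, 116], 3)),
   ([152, 159, 226, 239], ([47, 76, 45, 89, 80, 103, 91], 4))]

/-- the quadruples of type E8 -/
def e8KindBTab : List (List ℕ × (ℕ × ℕ × ℕ × ℕ × ℕ × List ℕ)) :=
  [([141, 152, 159, 226, 239], (15, 141, 152, 159, 239, [226])),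
   ([135, 152, 159, 226, 239], (25, 135, 152, 159, 226, [239])),
   ([126, 152, 159, 226, 239], (4, 126, 152, 226, 239, [159])),
   ([121, 152, 159, 226, 239], (2, 121, 159, 226, 239, [152])),
   ([121, 159, 226, 239], (2, 121, 159, 226, 239, [])),
   ([152, 121, 159, 226, 239], (2, 121, 159, 226, 239, [152]))]

/-- the tree of representatives of type E8 -/
def orbE8 : OrbData where
  nodes := e8Nodes
  dsc := fun N r => ((e8DscTab.lookup N).getD []).getD r 0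
  fuel := 4
  reps := [[], [239], [232, 233], [228, 222, 218], [226, 220, 213, 216]]
  kindA := fun N => (e8KindATab.lookup N).getD ([], 0)
  kindB := fun N => e8KindBTab.lookup N

theorem e8TreeOK : treeOK cdE8.D relE8.pair orbE8 = true := by decide +kernel

end Cfsg.Agent.Lib.Helper3.SLInv
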