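import Mathlib
import Cfsg.Prelude.Def_ChevStructure
import Cfsg.Prelude.Def_ChevE8
import Cfsg.Agent.Lib.Helper3.SLBridge6
import Cfsg.Agent.Lib.Helper3.SLE8a
import Cfsg.Agent.Lib.Helper3.SLE8b
set_option autoImplicit false
set_option linter.unusedSectionVars false
set_option linter.unusedVariables false
set_option linter.unusedSimpArgs false
set_option linter.style.haveILetI false
set_option maxRecDepth 1000000
open Cfsg Cfsg.Lie

/-!
The classes of involutions of the groups of type `E₈` in characteristic two.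
-/

namespace Cfsg.Agent.Lib.Helper3.SLInv

open Cfsg.Agent.Lib.Helper3.ChevM Cfsg.Agent.Lib.Helper3 ChevU ChevT
open Cfsg.Agent.Lib.Helper3.ChevAt Cfsg.Agent.Lib.Helper3.ChevAut

section
variable (F : Type*) [Field F] [Fintype F] [CharP F 2]

theorem e8_val1 : ((xsI relE8 F [239] : GL cdE8.D.Idx F) : Matrix cdE8.D.Idx cdE8.D.Idx F) =
    cdE8.D.x F 239 1 := by
  simp [xsI, mul_assoc]

theorem e8_orth1 : OrthI cdE8.D relE8.pair [239] := ⟨by decide, by decide +kernel⟩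

theorem e8_rk1 : (cdE8.D.x F 239 1 - 1).rank = 58 := e8_rank1 F

theorem e8_val2 : ((xsI relE8 F [232, 233] : GL cdE8.D.Idx F) : Matrix cdE8.D.Idx cdE8.D.Idx F) =
    cdE8.D.x F 232 1 * cdE8.D.x F 233 1 := by
  simp [xsI, mul_assoc]

theorem e8_orth2 : OrthI cdE8.D relE8.pair [232, 233] := ⟨by decide, by decide +kernel⟩

theorem e8_rk2 : (cdE8.D.x F 232 1 * cdE8.D.x F 233 1 - 1).rank = 92 := e8_rank2 F

theorem e8_val3 : ((xsI relE8 F [228, 222, 218] : GL cdE8.D.Idx F) : Matrix cdE8.D.Idx cdE8.D.Idx F) =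
    cdE8.D.x F 228 1 * cdE8.D.x F 222 1 * cdE8.D.x F 218 1 := by
  simp [xsI, mul_assoc]

theorem e8_orth3 : OrthI cdE8.D relE8.pair [228, 222, 218] := ⟨by decide, by decide +kernel⟩

theorem e8_rk3 : (cdE8.D.x F 228 1 * cdE8.D.x F 222 1 * cdE8.D.x F 218 1 - 1).rank = 110 := e8_rank3 F

theorem e8_val4 : ((xsI relE8 F [226, 220, 213, 216] : GL cdE8.D.Idx F) : Matrix cdE8.D.Idx cdE8.D.Idx F) =
    cdE8.D.x F 226 1 * cdE8.D.x F 220 1 * cdE8.D.x F 213 1 * cdE8.D.x F 216 1 := by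
  simp [xsI, mul_assoc]

theorem e8_orth4 : OrthI cdE8.D relE8.pair [226, 220, 213, 216] := ⟨by decide, by decide +kernel⟩

theorem e8_rk4 : (cdE8.D.x F 226 1 * cdE8.D.x F 220 1 * cdE8.D.x F 213 1 * cdE8.D.x F 216 1 - 1).rank = 120 := e8_rank4 F

/-- a product over an orthogonal list with a nonzero rank is an involution of the group -/
theorem e8_inv_of {O : List ℕ} (hO : OrthI cdE8.D relE8.pair O) {k : ℕ} (hk : 0 < k)
    (hrank : (((xsI relE8 F O : GL cdE8.D.Idx F) : Matrix cdE8.D.Idx cdE8.D.Idx F) - 1).rank = k) :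
    xsI relE8 F O ∈ cdE8.D.group F ∧ orderOf (xsI relE8 F O) = 2 := by
  refine ⟨invHypE8.xsI_mem F hO.1, ?_⟩
  apply orderOf_eq_prime
  · rw [pow_two]; exact invHypE8.xsI_mul_self F hO
  · intro h1
    rw [h1] at hrank
    simp at hrank
    omega

theorem e8_partA : ∀ y : GL cdE8.D.Idx F, ((y : GL cdE8.D.Idx F) : Matrix cdE8.D.Idx cdE8.D.Idx F) ∈
      [cdE8.D.x F 239 1, cdE8.D.x F 232 1 * cdE8.D.x F 233 1, cdE8.D.x F 228 1 * cdE8.D.x F 222 1 * cdE8.D.x F 218 1, cdE8.D.x F 226 1 * cdE8.D.x F 220 1 * cdE8.D.x F 213 1 * cdE8.D.x F 216 1] →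
    y ∈ cdE8.D.group F ∧ orderOf y = 2 := by
  intro y hy
  simp only [List.mem_cons, List.not_mem_nil, or_false] at hy
  rcases hy with h | h | h | h
  · have : y = xsI relE8 F [239] := Units.ext (by rw [h, e8_val1])
    rw [this]
    exact e8_inv_of F e8_orth1 (by norm_num : 0 < 58) (by rw [e8_val1]; exact e8_rk1 F)
  · have : y = xsI relE8 F [232, 233] := Units.ext (by rw [h, e8_val2])
    rw [this]
    exact e8_inv_of F e8_orth2 (by norm_num : 0 < 92) (by rw [e8_val2]; exact e8_rk2 F)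
  · have : y = xsI relE8 F [228, 222, 218] := Units.ext (by rw [h, e8_val3])
    rw [this]
    exact e8_inv_of F e8_orth3 (by norm_num : 0 < 110) (by rw [e8_val3]; exact e8_rk3 F)
  · have : y = xsI relE8 F [226, 220, 213, 216] := Units.ext (by rw [h, e8_val4])
    rw [this]
    exact e8_inv_of F e8_orth4 (by norm_num : 0 < 120) (by rw [e8_val4]; exact e8_rk4 F)

theorem e8_partB : ∀ g ∈ cdE8.D.group F, orderOf g = 2 → ∃ y ∈ cdE8.D.group F,
    ((y : GL cdE8.D.Idx F) : Matrix cdE8.D.Idx cdE8.D.Idx F) ∈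
      [cdE8.D.x F 239 1, cdE8.D.x F 232 1 * cdE8.D.x F 233 1, cdE8.D.x F 228 1 * cdE8.D.x F 222 1 * cdE8.D.x F 218 1, cdE8.D.x F 226 1 * cdE8.D.x F 220 1 * cdE8.D.x F 213 1 * cdE8.D.x F 216 1] ∧
    ∃ h ∈ cdE8.D.group F, h * g * h⁻¹ = y := by
  intro g hg h2
  obtain ⟨rep, hrep, hne, h, hh, e⟩ :=
    invHypE8.involution_rep F e8CascCheck (e8_sylow 2) orbE8 e8TreeOK g hg h2
  have hreps : orbE8.reps = [[], [239], [232, 233], [228, 222, 218], [226, 220, 213, 216]] := rfl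
  rw [hreps] at hrep
  simp only [List.mem_cons, List.not_mem_nil, or_false] at hrep
  rcases hrep with rfl | rfl | rfl | rfl | rfl
  · exact absurd rfl hne
  · exact ⟨xsI relE8 F [239], invHypE8.xsI_mem F e8_orth1.1, by rw [e8_val1]; simp, h, hh, e⟩
  · exact ⟨xsI relE8 F [232, 233], invHypE8.xsI_mem F e8_orth2.1, by rw [e8_val2]; simp, h, hh, e⟩
  · exact ⟨xsI relE8 F [228, 222, 218], invHypE8.xsI_mem F e8_orth3.1, by rw [e8_val3]; simp, h, hh, e⟩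
  · exact ⟨xsI relE8 F [226, 220, 213, 216], invHypE8.xsI_mem F e8_orth4.1, by rw [e8_val4]; simp, h, hh, e⟩

theorem e8_partC : ∀ y₁ ∈ cdE8.D.group F, ∀ y₂ ∈ cdE8.D.group F,
    ((y₁ : GL cdE8.D.Idx F) : Matrix cdE8.D.Idx cdE8.D.Idx F) ∈
      [cdE8.D.x F 239 1, cdE8.D.x F 232 1 * cdE8.D.x F 233 1, cdE8.D.x F 228 1 * cdE8.D.x F 222 1 * cdE8.D.x F 218 1, cdE8.D.x F 226 1 * cdE8.D.x F 220 1 * cdE8.D.x F 213 1 * cdE8.D.x F 216 1] →
    ((y₂ : GL cdE8.D.Idx F) : Matrix cdE8.D.Idx cdE8.D.Idx F) ∈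
      [cdE8.D.x F 239 1, cdE8.D.x F 232 1 * cdE8.D.x F 233 1, cdE8.D.x F 228 1 * cdE8.D.x F 222 1 * cdE8.D.x F 218 1, cdE8.D.x F 226 1 * cdE8.D.x F 220 1 * cdE8.D.x F 213 1 * cdE8.D.x F 216 1] →
    (∃ h ∈ cdE8.D.group F, h * y₁ * h⁻¹ = y₂) →
    ((y₁ : GL cdE8.D.Idx F) : Matrix cdE8.D.Idx cdE8.D.Idx F) =
      ((y₂ : GL cdE8.D.Idx F) : Matrix cdE8.D.Idx cdE8.D.Idx F) := by
  intro y₁ _ y₂ _ h1 h2 ⟨h, _, e⟩
  have hr := rank_conj_sub_one h y₁
  rw [e] at hr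
  simp only [List.mem_cons, List.not_mem_nil, or_false] at h1 h2
  rcases h1 with h1 | h1 | h1 | h1 <;> rcases h2 with h2 | h2 | h2 | h2 <;> rw [h1, h2] at hr ⊢ <;>
    (exfalso; norm_num [e8_rk1 F, e8_rk2 F, e8_rk3 F, e8_rk4 F] at hr)

end

end Cfsg.Agent.Lib.Helper3.SLInv
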