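import Mathlib
set_option autoImplicit false
set_option linter.unusedSectionVars false
set_option linter.unusedVariables false
set_option linter.unusedSimpArgs false

/-!
Root elements of a simply laced group in characteristic two, abstractly: a finite set of integer vectors with a
bilinear form taking the values of a simply laced root system, a linear functional separating the roots, and
root elements `x r a` subject to the commutator relations (without signs).  This file holds the data and the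
first consequences.
-/

namespace Cfsg.Agent.Lib.Helper3.SLInv

/-- integer vectors -/
abbrev Vec (l : ℕ) := Fin l → ℤ

/-- The data and the relations. -/
structure SLSys (G : Type*) [Group G] (F : Type*) [Field F] (l : ℕ) where
  roots : List (Vec l)
  B : Vec l → Vec l → ℤ
  key : Vec l → ℤ
  x : Vec l → F → G
  h : Vec l → F → G
  nodup : roots.Nodup
  B_add_left : ∀ u v w, B (u + v) w = B u w + B v w
  B_symm : ∀ u v, B u v = B v u
  key_add : ∀ u v, key (u + v) = key u + key v
  neg_mem : ∀ r ∈ roots, -r ∈ roots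
  B_self : ∀ r ∈ roots, B r r = 2
  B_cases : ∀ r ∈ roots, ∀ s ∈ roots, s = r ∨ s = -r ∨ B r s = 1 ∨ B r s = 0 ∨ B r s = -1
  add_mem : ∀ r ∈ roots, ∀ s ∈ roots, B r s = -1 → r + s ∈ roots
  key_ne : ∀ r ∈ roots, key r ≠ 0
  key_inj : ∀ r ∈ roots, ∀ s ∈ roots, key r = key s → r = s
  two : (2 : F) = 0
  sq_surj : ∀ a : F, ∃ b : F, b * b = a
  x_add : ∀ r ∈ roots, ∀ a b, x r (a + b) = x r a * x r b
  x_inj : ∀ r ∈ roots, ∀ a, x r a = 1 → a = 0
  x_comm : ∀ r ∈ roots, ∀ s ∈ roots, 0 ≤ B r s → ∀ a b, x r a * x s b = x s b * x r a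
  x_comm_add : ∀ r ∈ roots, ∀ s ∈ roots, B r s = -1 → ∀ a b,
    x s b * x r a = x r a * x s b * x (r + s) (a * b)
  n_conj : ∀ r ∈ roots, ∀ a,
    (x r 1 * x (-r) 1 * x r 1) * x r a * (x r 1 * x (-r) 1 * x r 1)⁻¹ = x (-r) a
  h_mem : ∀ r ∈ roots, ∀ c : F, c ≠ 0 →
    h r c ∈ Subgroup.closure {g : G | ∃ a, g = x r a ∨ g = x (-r) a}
  h_conj : ∀ r ∈ roots, ∀ c : F, c ≠ 0 → ∀ s ∈ roots, ∀ a,
    h r c * x s a * (h r c)⁻¹ = x s (c ^ (B s r) * a)
  pos_inf_neg :
    Subgroup.closure {g : G | ∃ r ∈ roots, ∃ a, 0 < key r ∧ g = x r a} ⊓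
      Subgroup.closure {g : G | ∃ r ∈ roots, ∃ a, key r < 0 ∧ g = x r a} = ⊥

namespace SLSys

variable {G : Type*} [Group G] {F : Type*} [Field F] {l : ℕ} (S : SLSys G F l)

theorem B_zero_left (w : Vec l) : S.B 0 w = 0 := by
  have := S.B_add_left 0 0 w
  rw [add_zero] at this
  omega

theorem B_neg_left (u w : Vec l) : S.B (-u) w = - S.B u w := by
  have := S.B_add_left (-u) u w
  rw [neg_add_cancel, S.B_zero_left] at this
  omega

theorem B_add_right (u v w : Vec l) : S.B u (v + w) = S.B u v + S.B u w := by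
  rw [S.B_symm, S.B_add_left, S.B_symm v, S.B_symm w]

theorem B_neg_right (u w : Vec l) : S.B u (-w) = - S.B u w := by
  rw [S.B_symm, S.B_neg_left, S.B_symm]

theorem B_sub_left (u v w : Vec l) : S.B (u - v) w = S.B u w - S.B v w := by
  rw [sub_eq_add_neg, S.B_add_left, S.B_neg_left]; ring

theorem B_sub_right (u v w : Vec l) : S.B u (v - w) = S.B u v - S.B u w := by
  rw [sub_eq_add_neg, S.B_add_right, S.B_neg_right]; ring

theorem key_zero : S.key 0 = 0 := by
  have := S.key_add 0 0
  rw [add_zero] at this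
  omega

theorem key_neg (u : Vec l) : S.key (-u) = - S.key u := by
  have := S.key_add (-u) u
  rw [neg_add_cancel, S.key_zero] at this
  omega

theorem key_sub (u v : Vec l) : S.key (u - v) = S.key u - S.key v := by
  rw [sub_eq_add_neg, S.key_add, S.key_neg]; ring

theorem x_zero {r : Vec l} (hr : r ∈ S.roots) : S.x r 0 = 1 := by
  have := S.x_add r hr 0 0
  rw [add_zero] at this
  exact (mul_eq_left.mp this.symm)

include S in
theorem add_self (a : F) : a + a = 0 := by
  rw [← two_mul, S.two, zero_mul]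

theorem x_sq {r : Vec l} (hr : r ∈ S.roots) (a : F) : S.x r a * S.x r a = 1 := by
  rw [← S.x_add r hr, S.add_self, S.x_zero hr]

theorem x_inv {r : Vec l} (hr : r ∈ S.roots) (a : F) : (S.x r a)⁻¹ = S.x r a :=
  inv_eq_of_mul_eq_one_right (S.x_sq hr a)

theorem x_injective {r : Vec l} (hr : r ∈ S.roots) {a b : F} (h : S.x r a = S.x r b) : a = b := by
  have h1 : S.x r (a + b) = 1 := by
    rw [S.x_add r hr, h, S.x_sq hr]
  have h2 := S.x_inj r hr _ h1
  have h3 : a = a + (b + b) := by rw [S.add_self, add_zero]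
  rw [h3, ← add_assoc, h2, zero_add]

/-- the value of the form on two roots with a root as sum -/
theorem B_of_add_mem {r s : Vec l} (hr : r ∈ S.roots) (hs : s ∈ S.roots) (h : r + s ∈ S.roots) :
    S.B r s = -1 := by
  have h1 := S.B_self _ h
  rw [S.B_add_left, S.B_add_right, S.B_add_right, S.B_self r hr, S.B_self s hs, S.B_symm s r] at h1
  omega

theorem B_neg_self {r : Vec l} (hr : r ∈ S.roots) : S.B r (-r) = -2 := by
  rw [S.B_neg_right, S.B_self r hr]

theorem neg_ne_self {r : Vec l} (hr : r ∈ S.roots) : -r ≠ r := by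
  intro h
  have := S.B_neg_self hr
  rw [h, S.B_self r hr] at this
  omega

/-- roots with form value two are equal -/
theorem eq_of_B_eq_two {r s : Vec l} (hr : r ∈ S.roots) (hs : s ∈ S.roots) (h : S.B r s = 2) : s = r := by
  rcases S.B_cases r hr s hs with h1 | h1 | h1 | h1 | h1
  · exact h1
  · rw [h1, S.B_neg_self hr] at h; omega
  all_goals omega

theorem eq_neg_of_B_eq_neg_two {r s : Vec l} (hr : r ∈ S.roots) (hs : s ∈ S.roots) (h : S.B r s = -2) :
    s = -r := by
  rcases S.B_cases r hr s hs with h1 | h1 | h1 | h1 | h1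
  · rw [h1, S.B_self r hr] at h; omega
  · exact h1
  all_goals omega

theorem B_le_two {r s : Vec l} (hr : r ∈ S.roots) (hs : s ∈ S.roots) : S.B r s ≤ 2 ∧ -2 ≤ S.B r s := by
  rcases S.B_cases r hr s hs with h1 | h1 | h1 | h1 | h1
  · rw [h1, S.B_self r hr]; omega
  · rw [h1, S.B_neg_self hr]; omega
  all_goals omega

/-- difference of two roots with form value one is a root -/
theorem sub_mem {r s : Vec l} (hr : r ∈ S.roots) (hs : s ∈ S.roots) (h : S.B r s = 1) : r - s ∈ S.roots := by
  rw [sub_eq_add_neg]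
  exact S.add_mem r hr (-s) (S.neg_mem s hs) (by rw [S.B_neg_right, h])

/-- conjugation of a root element by a root element, the sum being a root -/
theorem conj_add {r s : Vec l} (hr : r ∈ S.roots) (hs : s ∈ S.roots) (h : S.B r s = -1) (a b : F) :
    S.x s b * S.x r a * (S.x s b)⁻¹ = S.x r a * S.x (r + s) (a * b) := by
  have hrs := S.add_mem r hr s hs h
  have h1 : 0 ≤ S.B (r + s) s := by
    rw [S.B_add_left, h, S.B_self s hs]; omega
  rw [S.x_comm_add r hr s hs h, mul_assoc, mul_assoc, ← mul_assoc (S.x s b), ← S.x_comm _ hrs s hs h1,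
    mul_assoc, mul_inv_cancel, mul_one]

/-- conjugation of a root element by a root element, the form being nonnegative -/
theorem conj_comm {r s : Vec l} (hr : r ∈ S.roots) (hs : s ∈ S.roots) (h : 0 ≤ S.B r s) (a b : F) :
    S.x s b * S.x r a * (S.x s b)⁻¹ = S.x r a := by
  rw [← S.x_comm r hr s hs h, mul_assoc, mul_inv_cancel, mul_one]

/-- orthogonality to a list of vectors -/
def perp (T : List (Vec l)) (r : Vec l) : Prop := ∀ t ∈ T, S.B r t = 0

theorem perp_nil (r : Vec l) : S.perp [] r := fun _ h => absurd h (List.not_mem_nil)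

theorem perp_cons {T : List (Vec l)} {γ r : Vec l} : S.perp (γ :: T) r ↔ S.B r γ = 0 ∧ S.perp T r := by
  unfold perp
  simp

theorem perp_append {T T' : List (Vec l)} {r : Vec l} : S.perp (T ++ T') r ↔ S.perp T r ∧ S.perp T' r := by
  unfold perp
  simp only [List.mem_append]
  constructor
  · intro h
    exact ⟨fun t ht => h t (Or.inl ht), fun t ht => h t (Or.inr ht)⟩
  · rintro ⟨h1, h2⟩ t (ht | ht)
    · exact h1 t ht
    · exact h2 t ht

theorem perp_add {T : List (Vec l)} {r s : Vec l} (hr : S.perp T r) (hs : S.perp T s) : S.perp T (r + s) := by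
  intro t ht
  rw [S.B_add_left, hr t ht, hs t ht, add_zero]

theorem perp_neg {T : List (Vec l)} {r : Vec l} (hr : S.perp T r) : S.perp T (-r) := by
  intro t ht
  rw [S.B_neg_left, hr t ht, neg_zero]

theorem perp_sub {T : List (Vec l)} {r s : Vec l} (hr : S.perp T r) (hs : S.perp T s) : S.perp T (r - s) := by
  rw [sub_eq_add_neg]
  exact S.perp_add hr (S.perp_neg hs)

/-- the group generated by the root elements of the roots orthogonal to `T` -/
def GT (T : List (Vec l)) : Subgroup G :=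
  Subgroup.closure {g : G | ∃ r ∈ S.roots, ∃ a, S.perp T r ∧ g = S.x r a}

/-- the group generated by the root elements of the positive roots orthogonal to `T` -/
def UT (T : List (Vec l)) : Subgroup G :=
  Subgroup.closure {g : G | ∃ r ∈ S.roots, ∃ a, 0 < S.key r ∧ S.perp T r ∧ g = S.x r a}

/-- the group generated by the root elements of the roots orthogonal to `T` with positive form on `γ` -/
def QT (T : List (Vec l)) (γ : Vec l) : Subgroup G :=
  Subgroup.closure {g : G | ∃ r ∈ S.roots, ∃ a, S.perp T r ∧ 1 ≤ S.B r γ ∧ g = S.x r a}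

theorem x_mem_GT {T : List (Vec l)} {r : Vec l} (hr : r ∈ S.roots) (hp : S.perp T r) (a : F) :
    S.x r a ∈ S.GT T :=
  Subgroup.subset_closure ⟨r, hr, a, hp, rfl⟩

theorem x_mem_UT {T : List (Vec l)} {r : Vec l} (hr : r ∈ S.roots) (hk : 0 < S.key r) (hp : S.perp T r)
    (a : F) : S.x r a ∈ S.UT T :=
  Subgroup.subset_closure ⟨r, hr, a, hk, hp, rfl⟩

theorem x_mem_QT {T : List (Vec l)} {γ r : Vec l} (hr : r ∈ S.roots) (hp : S.perp T r) (h1 : 1 ≤ S.B r γ)
    (a : F) : S.x r a ∈ S.QT T γ :=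
  Subgroup.subset_closure ⟨r, hr, a, hp, h1, rfl⟩

theorem UT_le_GT (T : List (Vec l)) : S.UT T ≤ S.GT T := by
  apply Subgroup.closure_mono
  rintro g ⟨r, hr, a, -, hp, rfl⟩
  exact ⟨r, hr, a, hp, rfl⟩

theorem GT_cons_le (T : List (Vec l)) (γ : Vec l) : S.GT (γ :: T) ≤ S.GT T := by
  apply Subgroup.closure_mono
  rintro g ⟨r, hr, a, hp, rfl⟩
  exact ⟨r, hr, a, (S.perp_cons.mp hp).2, rfl⟩

theorem GT_append_le (T T' : List (Vec l)) : S.GT (T ++ T') ≤ S.GT T' := by
  apply Subgroup.closure_mono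
  rintro g ⟨r, hr, a, hp, rfl⟩
  exact ⟨r, hr, a, (S.perp_append.mp hp).2, rfl⟩

/-- the product of the root elements with parameter one -/
def xs (O : List (Vec l)) : G := (O.map fun r => S.x r 1).prod

theorem xs_nil : S.xs [] = 1 := rfl

theorem xs_cons (r : Vec l) (O : List (Vec l)) : S.xs (r :: O) = S.x r 1 * S.xs O := by
  simp [xs]

theorem xs_append (O O' : List (Vec l)) : S.xs (O ++ O') = S.xs O * S.xs O' := by
  simp [xs]

/-- dominance of a root among the roots orthogonal to `T` -/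
structure Dom (T : List (Vec l)) (γ : Vec l) : Prop where
  mem : γ ∈ S.roots
  pos : 0 < S.key γ
  perp : S.perp T γ
  dom : ∀ r ∈ S.roots, 0 < S.key r → S.perp T r → 0 ≤ S.B r γ

theorem Dom.pos_of_one_le {T : List (Vec l)} {γ : Vec l} (D : S.Dom T γ) {r : Vec l} (hr : r ∈ S.roots)
    (hp : S.perp T r) (h1 : 1 ≤ S.B r γ) : 0 < S.key r := by
  by_contra hk
  have hk' : 0 < S.key (-r) := by
    rw [S.key_neg]
    have := S.key_ne r hr
    omega
  have := D.dom (-r) (S.neg_mem r hr) hk' (S.perp_neg hp)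
  rw [S.B_neg_left] at this
  omega

/-- the roots of the radical: the dominant root, or form value one -/
theorem Dom.eq_or_one {T : List (Vec l)} {γ : Vec l} (D : S.Dom T γ) {r : Vec l} (hr : r ∈ S.roots)
    (h1 : 1 ≤ S.B r γ) : r = γ ∨ S.B r γ = 1 := by
  rcases S.B_cases γ D.mem r hr with h | h | h | h | h
  · exact Or.inl h
  · rw [h, S.B_neg_left, S.B_self γ D.mem] at h1; omega
  · right; rw [S.B_symm]; exact h
  · rw [S.B_symm] at h; omega
  · rw [S.B_symm] at h; omega

theorem QT_le_UT {T : List (Vec l)} {γ : Vec l} (D : S.Dom T γ) : S.QT T γ ≤ S.UT T := by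
  apply Subgroup.closure_mono
  rintro g ⟨r, hr, a, hp, h1, rfl⟩
  exact ⟨r, hr, a, D.pos_of_one_le S hr hp h1, hp, rfl⟩

theorem UT_cons_le (T : List (Vec l)) (γ : Vec l) : S.UT (γ :: T) ≤ S.UT T := by
  apply Subgroup.closure_mono
  rintro g ⟨r, hr, a, hk, hp, rfl⟩
  exact ⟨r, hr, a, hk, (S.perp_cons.mp hp).2, rfl⟩

end SLSys

end Cfsg.Agent.Lib.Helper3.SLInv
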