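import Cfsg.Agent.Lib.Helper3.SLInv9
set_option autoImplicit false
set_option linter.unusedSectionVars false
set_option linter.unusedVariables false
set_option linter.unusedSimpArgs false

/-!
Every involution of the unipotent group is conjugate to a product of root elements of pairwise orthogonal
roots, given a cascade of dominant roots exhausting the positive roots.
-/

namespace Cfsg.Agent.Lib.Helper3.SLInv

namespace SLSys

variable {G : Type*} [Group G] {F : Type*} [Field F] {l : ℕ} (S : SLSys G F l)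
variable {T : List (Vec l)} {γ : Vec l}

/-- the involutions of the unipotent group orthogonal to `T` are conjugate to orthogonal products -/
def PT (T : List (Vec l)) : Prop :=
  ∀ u ∈ S.UT T, u * u = 1 → ∃ g ∈ S.GT T, ∃ O : List (Vec l),
    (∀ o ∈ O, o ∈ S.roots ∧ S.perp T o) ∧ S.Orth O ∧ g * u * g⁻¹ = S.xs O

theorem QT_le_GT (T : List (Vec l)) (γ : Vec l) : S.QT T γ ≤ S.GT T := by
  apply Subgroup.closure_mono
  rintro g ⟨r, hr, a, hp, -, rfl⟩
  exact ⟨r, hr, a, hp, rfl⟩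

theorem PT_base (h : ∀ r ∈ S.roots, 0 < S.key r → ¬ S.perp T r) : S.PT T := by
  intro u hu _
  have : S.UT T = ⊥ := by
    unfold UT
    rw [Subgroup.closure_eq_bot_iff]
    rintro g ⟨r, hr, a, hk, hp, rfl⟩
    exact absurd hp (h r hr hk)
  rw [this, Subgroup.mem_bot] at hu
  refine ⟨1, Subgroup.one_mem _, [], fun _ h => absurd h List.not_mem_nil, Orth.nil S, ?_⟩
  rw [hu, S.xs_nil]; group

theorem dom_append (D : S.Dom T γ) {O : List (Vec l)} (hO : ∀ β ∈ O, S.B β γ = 0) : S.Dom (O ++ T) γ where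
  mem := D.mem
  pos := D.pos
  perp := S.perp_append.mpr ⟨fun β hβ => by rw [S.B_symm]; exact hO β hβ, D.perp⟩
  dom := fun r hr hk hp => D.dom r hr hk (S.perp_append.mp hp).2

theorem orth_append {O O' : List (Vec l)} (hO : S.Orth O) (hO' : S.Orth O') (h : ∀ a ∈ O, ∀ b ∈ O', S.B a b = 0) :
    S.Orth (O ++ O') := by
  refine ⟨?_, List.pairwise_append.mpr ⟨hO.2, hO'.2, h⟩⟩
  intro β hβ
  rcases List.mem_append.mp hβ with h1 | h1
  · exact hO.1 β h1
  · exact hO'.1 β h1

/-- the inductive step along a dominant root -/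
theorem PT_step (D : S.Dom T γ) (ih : S.PT (γ :: T)) : S.PT T := by
  intro u hu hsq
  obtain ⟨q, hq, m, hm, rfl⟩ := S.exists_decomp D hu
  have hmsq := S.sq_decomp D hq hm hsq
  obtain ⟨g', hg', O', hO'1, hO', e'⟩ := ih m hm hmsq
  -- first conjugation
  set q1 := g' * q * g'⁻¹ with hq1
  have hq1m : q1 ∈ S.QT T γ := S.conj_QT_mem hg' hq
  have hu1 : g' * (q * m) * g'⁻¹ = q1 * S.xs O' := by rw [conj_mul_conj, e']
  -- second conjugation
  set c := S.xs (O'.map Neg.neg) with hc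
  have hcm : c ∈ S.GT (γ :: T) := by
    apply S.xs_mem_GT
    intro β hβ
    obtain ⟨b, hb, rfl⟩ := List.mem_map.mp hβ
    exact ⟨S.neg_mem b (hO'1 b hb).1, S.perp_neg (hO'1 b hb).2⟩
  set q2 := c * q1 * c⁻¹ with hq2
  have hq2m : q2 ∈ S.QT T γ := S.conj_QT_mem hcm hq1m
  have hu2 : c * (q1 * S.xs O') * c⁻¹ = q2 * S.ns O' := by rw [conj_mul_conj, S.conj_xs_neg hO']
  have hu2sq : (q2 * S.ns O') * (q2 * S.ns O') = 1 := by
    rw [← hu2, ← hu1]
    exact conj_sq (conj_sq hsq)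
  -- elimination
  obtain ⟨y, hy, q3, hq3, e3⟩ := S.pair_elim D hO' (fun β hβ => (hO'1 β hβ).2) hq2m hu2sq
  have hcomm3 : q3 * S.ns O' = S.ns O' * q3 :=
    S.GT_comm_ns hO'.1 (S.QT_le_GT _ _ hq3) O' (fun _ h => h)
  have hu3sq : (q3 * S.ns O') * (q3 * S.ns O') = 1 := by
    rw [← e3]
    exact conj_sq hu2sq
  have hq3sq : q3 * q3 = 1 := by
    have : (q3 * S.ns O') * (q3 * S.ns O') = (q3 * q3) * (S.ns O' * S.ns O') := by
      calc q3 * S.ns O' * (q3 * S.ns O') = q3 * (S.ns O' * q3) * S.ns O' := by group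
        _ = q3 * q3 * (S.ns O' * S.ns O') := by rw [← hcomm3]; group
    rw [this, S.ns_mul_self hO', mul_one] at hu3sq
    exact hu3sq
  -- the radical problem
  have D' : S.Dom (O' ++ T) γ := S.dom_append D (fun β hβ => (S.perp_cons.mp (hO'1 β hβ).2).1)
  obtain ⟨g4, hg4, O'', hO''1, hO'', e4⟩ := S.QP D' hq3 hq3sq
  have hcomm4 : g4 * S.ns O' = S.ns O' * g4 := S.GT_comm_ns hO'.1 hg4 O' (fun _ h => h)
  have hu4 : g4 * (q3 * S.ns O') * g4⁻¹ = S.xs O'' * S.ns O' := by
    rw [conj_mul_conj, e4]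
    congr 1
    rw [hcomm4]; group
  -- back to root elements
  have hcO'' : c ∈ S.GT O'' := by
    apply S.xs_mem_GT
    intro β hβ
    obtain ⟨b, hb, rfl⟩ := List.mem_map.mp hβ
    refine ⟨S.neg_mem b (hO'1 b hb).1, ?_⟩
    intro o ho
    rw [S.B_neg_left, S.B_symm, (S.perp_append.mp (hO''1 o ho).2).1 b hb, neg_zero]
  have hcomm5 : c * S.xs O'' = S.xs O'' * c := (S.perp_comm hO''.1 hcO'').2.1
  have hu5 : c⁻¹ * (S.xs O'' * S.ns O') * c = S.xs (O'' ++ O') := by
    rw [S.xs_append, ← S.conj_xs_neg hO', ← hc]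
    calc c⁻¹ * (S.xs O'' * (c * S.xs O' * c⁻¹)) * c = c⁻¹ * (S.xs O'' * c) * S.xs O' := by group
      _ = S.xs O'' * S.xs O' := by rw [← hcomm5]; group
  refine ⟨c⁻¹ * g4 * y * c * g', ?_, O'' ++ O', ?_, ?_, ?_⟩
  · have h1 : g' ∈ S.GT T := S.GT_cons_le T γ hg'
    have h2 : c ∈ S.GT T := S.GT_cons_le T γ hcm
    have h3 : y ∈ S.GT T := S.QT_le_GT _ _ hy
    have h4 : g4 ∈ S.GT T := S.GT_append_le O' T hg4
    exact Subgroup.mul_mem _ (Subgroup.mul_mem _ (Subgroup.mul_mem _ (Subgroup.mul_mem _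
      (Subgroup.inv_mem _ h2) h4) h3) h2) h1
  · intro o ho
    rcases List.mem_append.mp ho with h | h
    · exact ⟨(hO''1 o h).1, (S.perp_append.mp (hO''1 o h).2).2⟩
    · exact ⟨(hO'1 o h).1, (S.perp_cons.mp (hO'1 o h).2).2⟩
  · exact S.orth_append hO'' hO' (fun a ha b hb => (S.perp_append.mp (hO''1 a ha).2).1 b hb)
  · rw [← hu5, ← hu4, ← e3, ← hu2, ← hu1]
    group

/-- a cascade of dominant roots exhausting the positive roots orthogonal to `T` -/
inductive Casc (S : SLSys G F l) : List (Vec l) → Prop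
  | base (T : List (Vec l)) : (∀ r ∈ S.roots, 0 < S.key r → ¬ S.perp T r) → Casc S T
  | step (T : List (Vec l)) (γ : Vec l) : S.Dom T γ → Casc S (γ :: T) → Casc S T

theorem PT_of_casc (h : S.Casc T) : S.PT T := by
  induction h with
  | base T h => exact S.PT_base h
  | step T γ D _ ih => exact S.PT_step D ih

/-- involutions of the unipotent group are conjugate to products of root elements of orthogonal roots -/
theorem involution_conj (h : S.Casc []) {u : G} (hu : u ∈ S.UPos) (hsq : u * u = 1) :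
    ∃ g ∈ S.GT [], ∃ O : List (Vec l), S.Orth O ∧ g * u * g⁻¹ = S.xs O := by
  rw [← S.UT_nil] at hu
  obtain ⟨g, hg, O, -, hO, e⟩ := S.PT_of_casc h u hu hsq
  exact ⟨g, hg, O, hO, e⟩

end SLSys

end Cfsg.Agent.Lib.Helper3.SLInv
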