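import Cfsg.Agent.Lib.Helper3.SLInv10
set_option autoImplicit false
set_option linter.unusedSectionVars false
set_option linter.unusedVariables false
set_option linter.unusedSimpArgs false

/-!
Conjugacy of products of root elements of pairwise orthogonal roots: permutation of the factors and
reflection of the roots.
-/

namespace Cfsg.Agent.Lib.Helper3.SLInv

namespace SLSys

variable {G : Type*} [Group G] {F : Type*} [Field F] {l : ℕ} (S : SLSys G F l)

theorem xs_perm {O O' : List (Vec l)} (hO : S.Orth O) (h : O.Perm O') : S.xs O = S.xs O' := by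
  unfold xs
  apply List.Perm.prod_eq' (h.map _)
  rw [List.pairwise_map]
  have h1 : O.Pairwise fun a b => a ∈ O ∧ b ∈ O ∧ S.B a b = 0 := by
    have := hO.2
    rw [List.pairwise_iff_getElem] at this ⊢
    intro i j hi hj hij
    exact ⟨List.getElem_mem hi, List.getElem_mem hj, this i j hi hj hij⟩
  refine h1.imp ?_
  rintro a b ⟨ha, hb, hab⟩
  exact S.x_comm a (hO.1 a ha) b (hO.1 b hb) (by omega) 1 1

theorem n_conj_xs {β : Vec l} (hβ : β ∈ S.roots) : ∀ {O : List (Vec l)}, (∀ o ∈ O, o ∈ S.roots) →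
    S.n β * S.xs O * (S.n β)⁻¹ = S.xs (O.map (S.sr β)) := by
  intro O
  induction O with
  | nil => intro _; rw [List.map_nil, S.xs_nil]; group
  | cons o O ih =>
    intro hO
    rw [List.map_cons, S.xs_cons, S.xs_cons, conj_mul_conj, S.n_conj_x hβ (hO o List.mem_cons_self),
      ih fun v hv => hO v (List.mem_cons_of_mem _ hv)]

theorem B_sr_sr {β : Vec l} (hβ : β ∈ S.roots) (r s : Vec l) : S.B (S.sr β r) (S.sr β s) = S.B r s := by
  rw [S.B_sr]
  unfold sr
  rw [S.B_sub_right, S.B_sub_right, S.B_symm r (S.B s β • β), S.B_symm β (S.B s β • β),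
    S.B_smul_left, S.B_smul_left, S.B_self β hβ, S.B_symm β r, S.B_symm β s]
  ring

theorem orth_map_sr {β : Vec l} (hβ : β ∈ S.roots) {O : List (Vec l)} (hO : S.Orth O) :
    S.Orth (O.map (S.sr β)) := by
  refine ⟨?_, ?_⟩
  · intro v hv
    obtain ⟨o, ho, rfl⟩ := List.mem_map.mp hv
    exact S.sr_mem hβ (hO.1 o ho)
  · rw [List.pairwise_map]
    refine hO.2.imp ?_
    intro a b hab
    rw [S.B_sr_sr hβ, hab]

/-- conjugacy of the products of root elements of two lists under the group generated by the root elements -/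
def Cj (O O' : List (Vec l)) : Prop := ∃ g ∈ S.GT [], g * S.xs O * g⁻¹ = S.xs O'

theorem Cj.rfl' (O : List (Vec l)) : S.Cj O O := ⟨1, Subgroup.one_mem _, by group⟩

theorem Cj.trans {O O' O'' : List (Vec l)} (h : S.Cj O O') (h' : S.Cj O' O'') : S.Cj O O'' := by
  obtain ⟨g, hg, e⟩ := h
  obtain ⟨g', hg', e'⟩ := h'
  exact ⟨g' * g, Subgroup.mul_mem _ hg' hg, by rw [← conj_conj, e, e']⟩

theorem Cj.symm {O O' : List (Vec l)} (h : S.Cj O O') : S.Cj O' O := by
  obtain ⟨g, hg, e⟩ := h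
  exact ⟨g⁻¹, Subgroup.inv_mem _ hg, by rw [← e]; group⟩

theorem Cj.of_perm {O O' : List (Vec l)} (hO : S.Orth O) (h : O.Perm O') : S.Cj O O' :=
  ⟨1, Subgroup.one_mem _, by rw [S.xs_perm hO h]; group⟩

theorem Cj.of_refl {β : Vec l} (hβ : β ∈ S.roots) {O : List (Vec l)} (hO : ∀ o ∈ O, o ∈ S.roots) :
    S.Cj O (O.map (S.sr β)) :=
  ⟨S.n β, S.n_mem_GT hβ (S.perp_nil β), S.n_conj_xs hβ hO⟩

theorem orth_perm {O O' : List (Vec l)} (hO : S.Orth O) (h : O.Perm O') : S.Orth O' := by
  refine ⟨fun v hv => hO.1 v (h.symm.subset hv), ?_⟩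
  have hsymm : ∀ a b : Vec l, S.B a b = 0 → S.B b a = 0 := fun a b h => by rw [S.B_symm]; exact h
  exact h.pairwise hO.2 (fun {a b} h => hsymm a b h)

end SLSys

end Cfsg.Agent.Lib.Helper3.SLInv
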