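import Cfsg.Agent.Lib.Helper3.SLInv1
set_option autoImplicit false
set_option linter.unusedSectionVars false
set_option linter.unusedVariables false
set_option linter.unusedSimpArgs false

/-!
The radical `QT T γ` of a dominant root: it is normalised by the root elements orthogonal to `γ`, the unipotent
group decomposes, the root subgroup of `γ` is central in it, and the coordinates of its elements (defined
through commutators) are additive.
-/

namespace Cfsg.Agent.Lib.Helper3.SLInv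

section Helpers

variable {G : Type*} [Group G]

theorem conj_mem_closure_of_gens {K : Set G} {g : G} (h : ∀ k ∈ K, g * k * g⁻¹ ∈ Subgroup.closure K) :
    ∀ q ∈ Subgroup.closure K, g * q * g⁻¹ ∈ Subgroup.closure K := by
  intro q hq
  induction hq using Subgroup.closure_induction with
  | mem k hk => exact h k hk
  | one => simp
  | mul a b _ _ ha hb =>
    have : g * (a * b) * g⁻¹ = (g * a * g⁻¹) * (g * b * g⁻¹) := by group
    rw [this]; exact Subgroup.mul_mem _ ha hb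
  | inv a _ ha =>
    have : g * a⁻¹ * g⁻¹ = (g * a * g⁻¹)⁻¹ := by group
    rw [this]; exact Subgroup.inv_mem _ ha

theorem conj_mem_of_closure {A K : Set G} (h : ∀ a ∈ A, ∀ k ∈ K, a * k * a⁻¹ ∈ Subgroup.closure K)
    (h' : ∀ a ∈ A, ∀ k ∈ K, a⁻¹ * k * a ∈ Subgroup.closure K) :
    ∀ g ∈ Subgroup.closure A, (∀ q ∈ Subgroup.closure K, g * q * g⁻¹ ∈ Subgroup.closure K) ∧
      (∀ q ∈ Subgroup.closure K, g⁻¹ * q * g ∈ Subgroup.closure K) := by
  intro g hg
  induction hg using Subgroup.closure_induction with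
  | mem a ha =>
    refine ⟨conj_mem_closure_of_gens (h a ha), ?_⟩
    have := conj_mem_closure_of_gens (g := a⁻¹) (K := K) (fun k hk => by rw [inv_inv]; exact h' a ha k hk)
    intro q hq
    have h2 := this q hq
    rwa [inv_inv] at h2
  | one => exact ⟨fun q hq => by simpa using hq, fun q hq => by simpa using hq⟩
  | mul a b _ _ ha hb =>
    refine ⟨fun q hq => ?_, fun q hq => ?_⟩
    · have : a * b * q * (a * b)⁻¹ = a * (b * q * b⁻¹) * a⁻¹ := by group
      rw [this]; exact ha.1 _ (hb.1 q hq)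
    · have : (a * b)⁻¹ * q * (a * b) = b⁻¹ * (a⁻¹ * q * a) * b := by group
      rw [this]; exact hb.2 _ (ha.2 q hq)
  | inv a _ ha =>
    refine ⟨fun q hq => ?_, fun q hq => ?_⟩
    · rw [inv_inv]; exact ha.2 q hq
    · rw [inv_inv]; exact ha.1 q hq

end Helpers

namespace SLSys

variable {G : Type*} [Group G] {F : Type*} [Field F] {l : ℕ} (S : SLSys G F l)
variable {T : List (Vec l)} {γ : Vec l}

/-- conjugating a generator of the radical by a root element orthogonal to `γ` -/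
theorem conj_gen_QT {r s : Vec l} (hr : r ∈ S.roots) (hp : S.perp T r) (h1 : 1 ≤ S.B r γ)
    (hs : s ∈ S.roots) (hsp : S.perp (γ :: T) s) (a b : F) :
    S.x s b * S.x r a * (S.x s b)⁻¹ ∈ S.QT T γ := by
  have hsγ : S.B s γ = 0 := (S.perp_cons.mp hsp).1
  rcases S.B_cases r hr s hs with h | h | h | h | h
  · rw [h] at hsγ; omega
  · rw [h, S.B_neg_left] at hsγ; omega
  · rw [S.conj_comm hr hs (by omega)]
    exact S.x_mem_QT hr hp h1 a
  · rw [S.conj_comm hr hs (by omega)]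
    exact S.x_mem_QT hr hp h1 a
  · rw [S.conj_add hr hs h]
    refine Subgroup.mul_mem _ (S.x_mem_QT hr hp h1 a) (S.x_mem_QT (S.add_mem r hr s hs h)
      (S.perp_add hp (S.perp_cons.mp hsp).2) ?_ _)
    rw [S.B_add_left, hsγ]; omega

/-- the radical is normalised by the group of the roots orthogonal to `γ` -/
theorem conj_QT_mem {g : G} (hg : g ∈ S.GT (γ :: T)) {q : G} (hq : q ∈ S.QT T γ) :
    g * q * g⁻¹ ∈ S.QT T γ := by
  refine (conj_mem_of_closure (A := {g : G | ∃ r ∈ S.roots, ∃ a, S.perp (γ :: T) r ∧ g = S.x r a})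
    (K := {g : G | ∃ r ∈ S.roots, ∃ a, S.perp T r ∧ 1 ≤ S.B r γ ∧ g = S.x r a}) ?_ ?_ g hg).1 q hq
  · rintro _ ⟨s, hs, b, hsp, rfl⟩ _ ⟨r, hr, a, hp, h1, rfl⟩
    exact S.conj_gen_QT hr hp h1 hs hsp a b
  · rintro _ ⟨s, hs, b, hsp, rfl⟩ _ ⟨r, hr, a, hp, h1, rfl⟩
    have := S.conj_gen_QT hr hp h1 hs hsp a b
    rw [S.x_inv hs] at this ⊢
    exact this

theorem conj_QT_mem' {g : G} (hg : g ∈ S.GT (γ :: T)) {q : G} (hq : q ∈ S.QT T γ) :
    g⁻¹ * q * g ∈ S.QT T γ := by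
  have := S.conj_QT_mem (Subgroup.inv_mem _ hg) hq
  rwa [inv_inv] at this

/-- the unipotent group is the product of the radical and the unipotent group orthogonal to `γ` -/
theorem exists_decomp (D : S.Dom T γ) {u : G} (hu : u ∈ S.UT T) :
    ∃ q ∈ S.QT T γ, ∃ m ∈ S.UT (γ :: T), u = q * m := by
  induction hu using Subgroup.closure_induction with
  | mem u hu =>
    obtain ⟨r, hr, a, hk, hp, rfl⟩ := hu
    have h0 := D.dom r hr hk hp
    by_cases h : S.B r γ = 0
    · exact ⟨1, Subgroup.one_mem _, S.x r a, S.x_mem_UT hr hk (S.perp_cons.mpr ⟨h, hp⟩) a, by rw [one_mul]⟩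
    · exact ⟨S.x r a, S.x_mem_QT hr hp (by omega) a, 1, Subgroup.one_mem _, by rw [mul_one]⟩
  | one => exact ⟨1, Subgroup.one_mem _, 1, Subgroup.one_mem _, by rw [mul_one]⟩
  | mul u v _ _ hu hv =>
    obtain ⟨q, hq, m, hm, rfl⟩ := hu
    obtain ⟨q', hq', m', hm', rfl⟩ := hv
    refine ⟨q * (m * q' * m⁻¹), Subgroup.mul_mem _ hq (S.conj_QT_mem (S.UT_le_GT _ hm) hq'), m * m',
      Subgroup.mul_mem _ hm hm', by group⟩
  | inv u _ hu =>
    obtain ⟨q, hq, m, hm, rfl⟩ := hu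
    refine ⟨m⁻¹ * q⁻¹ * m, S.conj_QT_mem' (S.UT_le_GT _ hm) (Subgroup.inv_mem _ hq), m⁻¹,
      Subgroup.inv_mem _ hm, by group⟩

/-- the root subgroup of `γ` is central in the radical -/
theorem xγ_comm (D : S.Dom T γ) {q : G} (hq : q ∈ S.QT T γ) (c : F) : S.x γ c * q = q * S.x γ c := by
  have : S.QT T γ ≤ Subgroup.centralizer {S.x γ c} := by
    unfold QT
    rw [Subgroup.closure_le]
    rintro _ ⟨r, hr, a, hp, h1, rfl⟩
    rw [SetLike.mem_coe, Subgroup.mem_centralizer_iff]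
    intro h hh
    rw [Set.mem_singleton_iff] at hh
    subst hh
    exact S.x_comm γ D.mem r hr (by rw [S.B_symm]; omega) c a
  have h2 := this hq
  rw [Subgroup.mem_centralizer_iff] at h2
  exact h2 _ rfl

/-- the partner of a root of the radical -/
theorem partner_mem (D : S.Dom T γ) {r : Vec l} (hr : r ∈ S.roots) (h1 : S.B r γ = 1) : γ - r ∈ S.roots :=
  S.sub_mem D.mem hr (by rw [S.B_symm]; exact h1)

theorem partner_B (D : S.Dom T γ) {r : Vec l} (hr : r ∈ S.roots) (h1 : S.B r γ = 1) :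
    S.B (γ - r) γ = 1 := by
  rw [S.B_sub_left, S.B_self γ D.mem, h1]; rfl

theorem partner_perp (D : S.Dom T γ) {r : Vec l} (hp : S.perp T r) : S.perp T (γ - r) :=
  S.perp_sub D.perp hp

/-- the commutator with the partner root element lies in the root subgroup of `γ` -/
theorem exists_phi (D : S.Dom T γ) {r : Vec l} (hr : r ∈ S.roots) (hp : S.perp T r) (h1 : S.B r γ = 1)
    {q : G} (hq : q ∈ S.QT T γ) :
    ∃ a : F, S.x (γ - r) 1 * q * (S.x (γ - r) 1)⁻¹ * q⁻¹ = S.x γ a := by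
  have hr' := S.partner_mem D hr h1
  induction hq using Subgroup.closure_induction with
  | mem q hq =>
    obtain ⟨s, hs, b, hsp, hs1, rfl⟩ := hq
    by_cases hsr : s = r
    · subst hsr
      have hB : S.B s (γ - s) = -1 := by
        rw [S.B_sub_right, h1, S.B_self s hs]; rfl
      refine ⟨b, ?_⟩
      rw [S.conj_add hs hr' hB, add_sub_cancel, mul_one,
        S.conj_comm D.mem hs (by rw [S.B_symm]; omega)]
    · have hB : 0 ≤ S.B s (γ - r) := by
        rw [S.B_sub_right]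
        rcases D.eq_or_one S hs hs1 with h | h
        · rw [h, S.B_self γ D.mem, S.B_symm, h1]; omega
        · rw [h]
          have h2 := (S.B_le_two hs hr).1
          have h3 : S.B s r ≠ 2 := fun e => hsr (S.eq_of_B_eq_two hr hs (by rw [S.B_symm]; exact e))
          omega
      refine ⟨0, ?_⟩
      rw [S.conj_comm hs hr' hB, mul_inv_cancel, S.x_zero D.mem]
  | one => exact ⟨0, by rw [S.x_zero D.mem]; group⟩
  | mul q q' hq hq' ih ih' =>
    obtain ⟨a, ha⟩ := ih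
    obtain ⟨a', ha'⟩ := ih'
    refine ⟨a + a', ?_⟩
    have e : S.x (γ - r) 1 * (q * q') * (S.x (γ - r) 1)⁻¹ * (q * q')⁻¹ =
        (S.x (γ - r) 1 * q * (S.x (γ - r) 1)⁻¹ * q⁻¹) * q *
          (S.x (γ - r) 1 * q' * (S.x (γ - r) 1)⁻¹ * q'⁻¹) * q⁻¹ := by group
    rw [e, ha, ha', mul_assoc (S.x γ a), ← S.xγ_comm D hq, mul_assoc, mul_assoc, mul_inv_cancel, mul_one,
      S.x_add γ D.mem]
  | inv q hq ih =>
    obtain ⟨a, ha⟩ := ih
    refine ⟨a, ?_⟩
    have e : S.x (γ - r) 1 * q⁻¹ * (S.x (γ - r) 1)⁻¹ * q⁻¹⁻¹ =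
        q⁻¹ * (S.x (γ - r) 1 * q * (S.x (γ - r) 1)⁻¹ * q⁻¹)⁻¹ * q := by group
    rw [e, ha, S.x_inv D.mem, mul_assoc, S.xγ_comm D hq, ← mul_assoc, inv_mul_cancel, one_mul]

open Classical in
/-- the coordinate of an element of the radical at the root `r` -/
noncomputable def phi (γ r : Vec l) (q : G) : F :=
  if h : ∃ a : F, S.x (γ - r) 1 * q * (S.x (γ - r) 1)⁻¹ * q⁻¹ = S.x γ a then h.choose else 0

theorem phi_spec (D : S.Dom T γ) {r : Vec l} (hr : r ∈ S.roots) (hp : S.perp T r) (h1 : S.B r γ = 1)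
    {q : G} (hq : q ∈ S.QT T γ) :
    S.x (γ - r) 1 * q * (S.x (γ - r) 1)⁻¹ * q⁻¹ = S.x γ (S.phi γ r q) := by
  have h := S.exists_phi D hr hp h1 hq
  unfold phi
  rw [dif_pos h]
  exact h.choose_spec

theorem phi_eq (D : S.Dom T γ) {r : Vec l} (hr : r ∈ S.roots) (hp : S.perp T r) (h1 : S.B r γ = 1)
    {q : G} (hq : q ∈ S.QT T γ) {a : F}
    (h : S.x (γ - r) 1 * q * (S.x (γ - r) 1)⁻¹ * q⁻¹ = S.x γ a) : S.phi γ r q = a := by
  have := S.phi_spec D hr hp h1 hq
  rw [h] at this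
  exact (S.x_injective D.mem this).symm

theorem phi_mul (D : S.Dom T γ) {r : Vec l} (hr : r ∈ S.roots) (hp : S.perp T r) (h1 : S.B r γ = 1)
    {q q' : G} (hq : q ∈ S.QT T γ) (hq' : q' ∈ S.QT T γ) :
    S.phi γ r (q * q') = S.phi γ r q + S.phi γ r q' := by
  apply S.phi_eq D hr hp h1 (Subgroup.mul_mem _ hq hq')
  have e : S.x (γ - r) 1 * (q * q') * (S.x (γ - r) 1)⁻¹ * (q * q')⁻¹ =
      (S.x (γ - r) 1 * q * (S.x (γ - r) 1)⁻¹ * q⁻¹) * q *
        (S.x (γ - r) 1 * q' * (S.x (γ - r) 1)⁻¹ * q'⁻¹) * q⁻¹ := by group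
  rw [e, S.phi_spec D hr hp h1 hq, S.phi_spec D hr hp h1 hq', mul_assoc (S.x γ _), ← S.xγ_comm D hq,
    mul_assoc, mul_assoc, mul_inv_cancel, mul_one, S.x_add γ D.mem]

theorem phi_one (D : S.Dom T γ) {r : Vec l} (hr : r ∈ S.roots) (hp : S.perp T r) (h1 : S.B r γ = 1) :
    S.phi γ r 1 = 0 := by
  apply S.phi_eq D hr hp h1 (Subgroup.one_mem _)
  rw [S.x_zero D.mem]; group

theorem phi_gen_self (D : S.Dom T γ) {r : Vec l} (hr : r ∈ S.roots) (hp : S.perp T r) (h1 : S.B r γ = 1)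
    (b : F) : S.phi γ r (S.x r b) = b := by
  apply S.phi_eq D hr hp h1 (S.x_mem_QT hr hp (by omega) b)
  have hr' := S.partner_mem D hr h1
  have hB : S.B r (γ - r) = -1 := by
    rw [S.B_sub_right, h1, S.B_self r hr]; rfl
  rw [S.conj_add hr hr' hB, add_sub_cancel, mul_one, S.conj_comm D.mem hr (by rw [S.B_symm]; omega)]

theorem phi_gen_ne (D : S.Dom T γ) {r : Vec l} (hr : r ∈ S.roots) (hp : S.perp T r) (h1 : S.B r γ = 1)
    {s : Vec l} (hs : s ∈ S.roots) (hsp : S.perp T s) (hs1 : 1 ≤ S.B s γ) (hsr : s ≠ r) (b : F) :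
    S.phi γ r (S.x s b) = 0 := by
  apply S.phi_eq D hr hp h1 (S.x_mem_QT hs hsp hs1 b)
  have hr' := S.partner_mem D hr h1
  have hB : 0 ≤ S.B s (γ - r) := by
    rw [S.B_sub_right]
    rcases D.eq_or_one S hs hs1 with h | h
    · rw [h, S.B_self γ D.mem, S.B_symm, h1]; omega
    · rw [h]
      have h2 := (S.B_le_two hs hr).1
      have h3 : S.B s r ≠ 2 := fun e => hsr (S.eq_of_B_eq_two hr hs (by rw [S.B_symm]; exact e))
      omega
  rw [S.conj_comm hs hr' hB, mul_inv_cancel, S.x_zero D.mem]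

end SLSys

end Cfsg.Agent.Lib.Helper3.SLInv
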