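import Cfsg.Agent.Lib.Helper3.SLInv2
set_option autoImplicit false
set_option linter.unusedSectionVars false
set_option linter.unusedVariables false
set_option linter.unusedSimpArgs false

/-!
The elements `n β = x β 1 * x (-β) 1 * x β 1`: they are involutions and conjugate the root element of `r` to the
root element of the reflected root.
-/

namespace Cfsg.Agent.Lib.Helper3.SLInv

theorem conj_mul_conj {G : Type*} [Group G] (g a b : G) : g * (a * b) * g⁻¹ = (g * a * g⁻¹) * (g * b * g⁻¹) := by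
  group

namespace SLSys

variable {G : Type*} [Group G] {F : Type*} [Field F] {l : ℕ} (S : SLSys G F l)

/-- the reflection in `β` -/
def sr (β r : Vec l) : Vec l := r - S.B r β • β

/-- the element representing the reflection in `β` -/
def n (β : Vec l) : G := S.x β 1 * S.x (-β) 1 * S.x β 1

theorem B_cases' {r β : Vec l} (hr : r ∈ S.roots) (hβ : β ∈ S.roots) :
    r = β ∨ r = -β ∨ S.B r β = 1 ∨ S.B r β = 0 ∨ S.B r β = -1 := by
  rw [S.B_symm r β]
  exact S.B_cases β hβ r hr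

theorem sr_self (β : Vec l) (hβ : β ∈ S.roots) : S.sr β β = -β := by
  unfold sr
  rw [S.B_self β hβ]
  ext i
  simp only [Pi.sub_apply, Pi.smul_apply, Pi.neg_apply, smul_eq_mul]
  ring

theorem sr_neg_self (β : Vec l) (hβ : β ∈ S.roots) : S.sr β (-β) = β := by
  unfold sr
  rw [S.B_neg_left, S.B_self β hβ]
  ext i
  simp only [Pi.sub_apply, Pi.smul_apply, Pi.neg_apply, smul_eq_mul]
  ring

theorem sr_of_one {β r : Vec l} (h : S.B r β = 1) : S.sr β r = r - β := by
  unfold sr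
  rw [h, one_smul]

theorem sr_of_zero {β r : Vec l} (h : S.B r β = 0) : S.sr β r = r := by
  unfold sr
  rw [h, zero_smul, sub_zero]

theorem sr_of_neg_one {β r : Vec l} (h : S.B r β = -1) : S.sr β r = r + β := by
  unfold sr
  rw [h, neg_smul, one_smul, sub_neg_eq_add]

theorem sr_mem {β r : Vec l} (hβ : β ∈ S.roots) (hr : r ∈ S.roots) : S.sr β r ∈ S.roots := by
  rcases S.B_cases' hr hβ with h | h | h | h | h
  · rw [h, S.sr_self β hβ]; exact S.neg_mem β hβ
  · rw [h, S.sr_neg_self β hβ]; exact hβ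
  · rw [S.sr_of_one h]; exact S.sub_mem hr hβ h
  · rw [S.sr_of_zero h]; exact hr
  · rw [S.sr_of_neg_one h]; exact S.add_mem r hr β hβ h

theorem B_sr (β r v : Vec l) : S.B (S.sr β r) v = S.B r v - S.B r β * S.B β v := by
  unfold sr
  rw [S.B_sub_left]
  congr 1
  -- B (k • β) v = k * B β v
  generalize S.B r β = k
  induction k using Int.induction_on with
  | zero => rw [zero_smul, S.B_zero_left, zero_mul]
  | succ k ih => rw [add_smul, one_smul, S.B_add_left, ih]; ring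
  | pred k ih =>
    rw [sub_smul, one_smul, S.B_sub_left, ih]; ring

theorem n_mul_self {β : Vec l} (hβ : β ∈ S.roots) : S.n β * S.n β = 1 := by
  unfold n
  have h1 := S.x_sq hβ (1 : F)
  have h2 := S.x_sq (S.neg_mem β hβ) (1 : F)
  calc S.x β 1 * S.x (-β) 1 * S.x β 1 * (S.x β 1 * S.x (-β) 1 * S.x β 1)
      = S.x β 1 * S.x (-β) 1 * (S.x β 1 * S.x β 1) * S.x (-β) 1 * S.x β 1 := by group
    _ = S.x β 1 * (S.x (-β) 1 * S.x (-β) 1) * S.x β 1 := by rw [h1]; group
    _ = 1 := by rw [h2, mul_one, h1]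

theorem n_inv {β : Vec l} (hβ : β ∈ S.roots) : (S.n β)⁻¹ = S.n β :=
  inv_eq_of_mul_eq_one_right (S.n_mul_self hβ)

theorem n_conj_expand (β : Vec l) (g : G) :
    S.n β * g * (S.n β)⁻¹ =
      S.x β 1 * (S.x (-β) 1 * (S.x β 1 * g * (S.x β 1)⁻¹) * (S.x (-β) 1)⁻¹) * (S.x β 1)⁻¹ := by
  unfold n
  group

/-- conjugation by `n β` reflects the root elements -/
theorem n_conj_x {β r : Vec l} (hβ : β ∈ S.roots) (hr : r ∈ S.roots) (a : F) :
    S.n β * S.x r a * (S.n β)⁻¹ = S.x (S.sr β r) a := by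
  have hβ' := S.neg_mem β hβ
  rcases S.B_cases' hr hβ with h | h | h | h | h
  · rw [h, S.sr_self β hβ]
    exact S.n_conj β hβ a
  · rw [h, S.sr_neg_self β hβ]
    have := S.n_conj β hβ a
    change S.n β * S.x β a * (S.n β)⁻¹ = S.x (-β) a at this
    rw [← this, S.n_inv hβ]
    calc S.n β * (S.n β * S.x β a * S.n β) * S.n β
        = (S.n β * S.n β) * S.x β a * (S.n β * S.n β) := by group
      _ = S.x β a := by rw [S.n_mul_self hβ, one_mul, mul_one]
  · -- `B r β = 1`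
    rw [S.sr_of_one h, S.n_conj_expand]
    have hrb : r - β ∈ S.roots := S.sub_mem hr hβ h
    have e1 : S.x β 1 * S.x r a * (S.x β 1)⁻¹ = S.x r a := S.conj_comm hr hβ (by omega) a 1
    have e2 : S.x (-β) 1 * S.x r a * (S.x (-β) 1)⁻¹ = S.x r a * S.x (r - β) a := by
      have := S.conj_add hr hβ' (by rw [S.B_neg_right, h]) a 1
      rwa [mul_one, ← sub_eq_add_neg] at this
    have e3 : S.x β 1 * S.x r a * (S.x β 1)⁻¹ = S.x r a := e1
    have e4 : S.x β 1 * S.x (r - β) a * (S.x β 1)⁻¹ = S.x (r - β) a * S.x r a := by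
      have := S.conj_add hrb hβ (by rw [S.B_sub_left, h, S.B_self β hβ]; rfl) a 1
      rwa [mul_one, sub_add_cancel] at this
    rw [e1, e2, conj_mul_conj (S.x β 1) (S.x r a) (S.x (r - β) a), e3, e4]
    have hc : S.x r a * S.x (r - β) a = S.x (r - β) a * S.x r a :=
      S.x_comm r hr (r - β) hrb (by rw [S.B_sub_right, h, S.B_self r hr]; omega) a a
    rw [← mul_assoc, hc, mul_assoc, S.x_sq hr, mul_one]
  · -- `B r β = 0`
    rw [S.sr_of_zero h, S.n_conj_expand]
    have e1 : S.x β 1 * S.x r a * (S.x β 1)⁻¹ = S.x r a := S.conj_comm hr hβ (by omega) a 1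
    have e2 : S.x (-β) 1 * S.x r a * (S.x (-β) 1)⁻¹ = S.x r a :=
      S.conj_comm hr hβ' (by rw [S.B_neg_right, h]; omega) a 1
    rw [e1, e2, e1]
  · -- `B r β = -1`
    rw [S.sr_of_neg_one h, S.n_conj_expand]
    have hrb : r + β ∈ S.roots := S.add_mem r hr β hβ h
    have e1 : S.x β 1 * S.x r a * (S.x β 1)⁻¹ = S.x r a * S.x (r + β) a := by
      have := S.conj_add hr hβ h a 1
      rwa [mul_one] at this
    have e2 : S.x (-β) 1 * S.x r a * (S.x (-β) 1)⁻¹ = S.x r a :=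
      S.conj_comm hr hβ' (by rw [S.B_neg_right, h]; omega) a 1
    have e3 : S.x (-β) 1 * S.x (r + β) a * (S.x (-β) 1)⁻¹ = S.x (r + β) a * S.x r a := by
      have := S.conj_add hrb hβ' (by rw [S.B_neg_right, S.B_add_left, h, S.B_self β hβ]; rfl) a 1
      rwa [mul_one, add_neg_cancel_right] at this
    have e4 : S.x β 1 * S.x (r + β) a * (S.x β 1)⁻¹ = S.x (r + β) a :=
      S.conj_comm hrb hβ (by rw [S.B_add_left, h, S.B_self β hβ]; omega) a 1
    rw [e1, conj_mul_conj (S.x (-β) 1) (S.x r a) (S.x (r + β) a), e2, e3]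
    have hc : S.x r a * S.x (r + β) a = S.x (r + β) a * S.x r a :=
      S.x_comm r hr (r + β) hrb (by rw [S.B_add_right, h, S.B_self r hr]; omega) a a
    have e5 : S.x r a * (S.x (r + β) a * S.x r a) = S.x (r + β) a := by
      rw [← mul_assoc, hc, mul_assoc, S.x_sq hr, mul_one]
    rw [e5, e4]

/-- the braid relation in rank one -/
theorem braid {β : Vec l} (hβ : β ∈ S.roots) :
    S.x β 1 * S.x (-β) 1 * S.x β 1 = S.x (-β) 1 * S.x β 1 * S.x (-β) 1 := by
  have h := S.n_conj β hβ 1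
  have hβ' := S.neg_mem β hβ
  have hi : (S.x β 1 * S.x (-β) 1 * S.x β 1)⁻¹ = S.x β 1 * S.x (-β) 1 * S.x β (1 : F) := by
    rw [mul_inv_rev, mul_inv_rev, S.x_inv hβ, S.x_inv hβ', mul_assoc]
  rw [hi] at h
  have h1 := S.x_sq hβ (1 : F)
  have h2 : S.x β 1 * S.x (-β) 1 * S.x β 1 * S.x (-β) 1 * S.x β 1 = S.x (-β) (1 : F) := by
    calc S.x β 1 * S.x (-β) 1 * S.x β 1 * S.x (-β) 1 * S.x β 1
        = S.x β 1 * S.x (-β) 1 * (S.x β 1 * (S.x β 1 * S.x β 1)) * S.x (-β) 1 * S.x β 1 := by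
          rw [h1, mul_one]
      _ = S.x β 1 * S.x (-β) 1 * S.x β 1 * S.x β 1 * (S.x β 1 * S.x (-β) 1 * S.x β 1) := by group
      _ = S.x (-β) 1 := h
  calc S.x β 1 * S.x (-β) 1 * S.x β 1
      = (S.x β 1 * S.x (-β) 1 * S.x β 1 * S.x (-β) 1 * S.x β 1) * (S.x β 1 * S.x (-β) 1) := by
        have h3 := S.x_sq hβ' (1 : F)
        calc S.x β 1 * S.x (-β) 1 * S.x β 1
            = S.x β 1 * S.x (-β) 1 * S.x β 1 * (S.x (-β) 1 * ((S.x β 1 * S.x β 1) * S.x (-β) 1)) := by
              rw [h1, one_mul, h3, mul_one]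
          _ = _ := by group
    _ = S.x (-β) 1 * S.x β 1 * S.x (-β) 1 := by rw [h2]; group

theorem n_neg {β : Vec l} (hβ : β ∈ S.roots) : S.n (-β) = S.n β := by
  unfold n
  rw [neg_neg]
  exact (S.braid hβ).symm

end SLSys

end Cfsg.Agent.Lib.Helper3.SLInv
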