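import Cfsg.Agent.Lib.Helper3.SLInv4
set_option autoImplicit false
set_option linter.unusedSectionVars false
set_option linter.unusedVariables false
set_option linter.unusedSimpArgs false

/-!
Normal form in the radical of a dominant root: every element is a product of root elements in a fixed order
whose parameters are the coordinates `phi`, times an element of the root subgroup of the dominant root.
-/

namespace Cfsg.Agent.Lib.Helper3.SLInv

namespace SLSys

variable {G : Type*} [Group G] {F : Type*} [Field F] {l : ℕ} (S : SLSys G F l)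
variable {T : List (Vec l)} {γ : Vec l}

open Classical in
/-- the roots of the radical other than the dominant root -/
noncomputable def Lq (T : List (Vec l)) (γ : Vec l) : List (Vec l) :=
  S.roots.filter fun r => decide (S.perp T r ∧ S.B r γ = 1)

theorem mem_Lq {r : Vec l} : r ∈ S.Lq T γ ↔ r ∈ S.roots ∧ S.perp T r ∧ S.B r γ = 1 := by
  unfold Lq
  simp

theorem nodup_Lq : (S.Lq T γ).Nodup := S.nodup.filter _

/-- a product of root elements along a list -/
def pr (L : List (Vec l)) (t : Vec l → F) : G := (L.map fun r => S.x r (t r)).prod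

theorem pr_nil (t : Vec l → F) : S.pr [] t = 1 := rfl

theorem pr_cons (r : Vec l) (L : List (Vec l)) (t : Vec l → F) : S.pr (r :: L) t = S.x r (t r) * S.pr L t := by
  simp [pr]

theorem pr_congr {L : List (Vec l)} {t t' : Vec l → F} (h : ∀ r ∈ L, t r = t' r) : S.pr L t = S.pr L t' := by
  unfold pr
  congr 1
  apply List.map_congr_left
  intro r hr
  rw [h r hr]

theorem pr_zero {L : List (Vec l)} (hL : ∀ r ∈ L, r ∈ S.roots) : S.pr L (fun _ => (0 : F)) = 1 := by
  induction L with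
  | nil => rfl
  | cons r L ih =>
    rw [S.pr_cons, S.x_zero (hL r List.mem_cons_self), one_mul]
    exact ih fun s hs => hL s (List.mem_cons_of_mem _ hs)

theorem pr_mem_QT {L : List (Vec l)} (hL : ∀ r ∈ L, r ∈ S.Lq T γ) (t : Vec l → F) : S.pr L t ∈ S.QT T γ := by
  induction L with
  | nil => exact Subgroup.one_mem _
  | cons r L ih =>
    rw [S.pr_cons]
    obtain ⟨h1, h2, h3⟩ := S.mem_Lq.mp (hL r List.mem_cons_self)
    exact Subgroup.mul_mem _ (S.x_mem_QT h1 h2 (by omega) _) (ih fun s hs => hL s (List.mem_cons_of_mem _ hs))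

theorem xγ_mem_QT (D : S.Dom T γ) (c : F) : S.x γ c ∈ S.QT T γ :=
  S.x_mem_QT D.mem D.perp (by rw [S.B_self γ D.mem]; omega) c

/-- two root elements of the radical commute up to the root subgroup of `γ` -/
theorem comm_gen (D : S.Dom T γ) {r s : Vec l} (hr : r ∈ S.Lq T γ) (hs : s ∈ S.Lq T γ) (a b : F) :
    ∃ ε : F, S.x s b * S.x r a = S.x r a * S.x s b * S.x γ ε := by
  obtain ⟨hr1, hr2, hr3⟩ := S.mem_Lq.mp hr
  obtain ⟨hs1, hs2, hs3⟩ := S.mem_Lq.mp hs
  by_cases h : 0 ≤ S.B r s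
  · exact ⟨0, by rw [S.x_zero D.mem, mul_one, S.x_comm r hr1 s hs1 h]⟩
  · have h1 : S.B r s = -1 := by
      rcases S.B_cases r hr1 s hs1 with h' | h' | h' | h' | h'
      · rw [h', S.B_self r hr1] at h; omega
      · rw [h', S.B_neg_left, hr3] at hs3; omega
      all_goals omega
    have h2 : r + s = γ := by
      have hrs := S.add_mem r hr1 s hs1 h1
      exact S.eq_of_B_eq_two D.mem hrs (by rw [S.B_symm, S.B_add_left, hr3, hs3]; rfl)
    exact ⟨a * b, by rw [S.x_comm_add r hr1 s hs1 h1, h2]⟩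

/-- moving a root element into its place in a product -/
theorem insert_pr (D : S.Dom T γ) : ∀ (L : List (Vec l)), (∀ r ∈ L, r ∈ S.Lq T γ) → L.Nodup →
    ∀ s ∈ L, ∀ (b : F) (t : Vec l → F), ∃ (t' : Vec l → F) (c : F), (∀ r, r ≠ s → t' r = t r) ∧
      S.x s b * S.pr L t = S.pr L t' * S.x γ c := by
  intro L
  induction L with
  | nil => intro _ _ s hs; exact absurd hs List.not_mem_nil
  | cons r L ih =>
    intro hL hnd s hs b t
    have hrL : r ∈ S.Lq T γ := hL r List.mem_cons_self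
    have hL' : ∀ v ∈ L, v ∈ S.Lq T γ := fun v hv => hL v (List.mem_cons_of_mem _ hv)
    obtain ⟨hr1, hr2, hr3⟩ := S.mem_Lq.mp hrL
    by_cases hsr : s = r
    · subst hsr
      refine ⟨Function.update t s (b + t s), 0, fun v hv => Function.update_of_ne hv _ _, ?_⟩
      rw [S.pr_cons, S.pr_cons, Function.update_self, S.x_zero D.mem, mul_one, ← mul_assoc, ← S.x_add s hr1]
      congr 1
      apply S.pr_congr
      intro v hv
      have : v ≠ s := fun e => (List.nodup_cons.mp hnd).1 (e ▸ hv)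
      rw [Function.update_of_ne this]
    · have hsL : s ∈ L := by
        rcases List.mem_cons.mp hs with h | h
        · exact absurd h hsr
        · exact h
      obtain ⟨t', c, ht', e⟩ := ih hL' (List.nodup_cons.mp hnd).2 s hsL b t
      obtain ⟨ε, hε⟩ := S.comm_gen D hrL (hL' s hsL) (t r) b
      refine ⟨t', c + ε, ht', ?_⟩
      rw [S.pr_cons, S.pr_cons, ht' r (Ne.symm hsr), ← mul_assoc, hε, S.x_add γ D.mem]
      have hc := S.xγ_comm D (S.pr_mem_QT hL' t) ε
      calc S.x r (t r) * S.x s b * S.x γ ε * S.pr L t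
          = S.x r (t r) * S.x s b * (S.x γ ε * S.pr L t) := by group
        _ = S.x r (t r) * (S.x s b * S.pr L t) * S.x γ ε := by rw [hc]; group
        _ = S.x r (t r) * S.pr L t' * (S.x γ c * S.x γ ε) := by rw [e]; group

/-- existence of a normal form -/
theorem nf_exists (D : S.Dom T γ) {q : G} (hq : q ∈ S.QT T γ) :
    ∃ (t : Vec l → F) (c : F), q = S.pr (S.Lq T γ) t * S.x γ c := by
  have key : ∀ (r : Vec l), r ∈ S.roots → S.perp T r → 1 ≤ S.B r γ → ∀ (a : F) (y : G),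
      (∃ (t : Vec l → F) (c : F), y = S.pr (S.Lq T γ) t * S.x γ c) →
      ∃ (t : Vec l → F) (c : F), S.x r a * y = S.pr (S.Lq T γ) t * S.x γ c := by
    rintro r hr hp h1 a y ⟨t, c, rfl⟩
    rcases D.eq_or_one S hr h1 with h | h
    · subst h
      refine ⟨t, a + c, ?_⟩
      rw [← mul_assoc, S.xγ_comm D (S.pr_mem_QT (fun _ h => h) t), mul_assoc, ← S.x_add r hr]
    · obtain ⟨t', c', -, e⟩ := S.insert_pr D (S.Lq T γ) (fun _ h => h) S.nodup_Lq r
        (S.mem_Lq.mpr ⟨hr, hp, h⟩) a t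
      refine ⟨t', c' + c, ?_⟩
      rw [← mul_assoc, e, mul_assoc, ← S.x_add γ D.mem]
  induction hq using Subgroup.closure_induction_left with
  | one =>
    refine ⟨fun _ => 0, 0, ?_⟩
    rw [S.x_zero D.mem, mul_one, S.pr_zero (fun r hr => (S.mem_Lq.mp hr).1)]
  | mul_left x hx y hy ih =>
    obtain ⟨r, hr, a, hp, h1, rfl⟩ := hx
    exact key r hr hp h1 a y ih
  | inv_mul_cancel x hx y hy ih =>
    obtain ⟨r, hr, a, hp, h1, rfl⟩ := hx
    rw [S.x_inv hr]
    exact key r hr hp h1 a y ih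

theorem ne_γ_of_mem_Lq (D : S.Dom T γ) {r : Vec l} (hr : r ∈ S.Lq T γ) : γ ≠ r := by
  intro h
  have := (S.mem_Lq.mp hr).2.2
  rw [← h, S.B_self γ D.mem] at this
  omega

theorem phi_xγ (D : S.Dom T γ) {r : Vec l} (hr : r ∈ S.Lq T γ) (c : F) : S.phi γ r (S.x γ c) = 0 := by
  obtain ⟨h1, h2, h3⟩ := S.mem_Lq.mp hr
  exact S.phi_gen_ne D h1 h2 h3 D.mem D.perp (by rw [S.B_self γ D.mem]; omega) (S.ne_γ_of_mem_Lq D hr) c

/-- the coordinates of a product of root elements -/
theorem phi_pr (D : S.Dom T γ) {r : Vec l} (hr : r ∈ S.Lq T γ) : ∀ (L : List (Vec l)),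
    (∀ v ∈ L, v ∈ S.Lq T γ) → L.Nodup → ∀ t : Vec l → F,
    S.phi γ r (S.pr L t) = if r ∈ L then t r else 0 := by
  obtain ⟨h1, h2, h3⟩ := S.mem_Lq.mp hr
  intro L
  induction L with
  | nil => intro _ _ t; rw [S.pr_nil, S.phi_one D h1 h2 h3]; simp
  | cons v L ih =>
    intro hL hnd t
    have hL' : ∀ w ∈ L, w ∈ S.Lq T γ := fun w hw => hL w (List.mem_cons_of_mem _ hw)
    obtain ⟨hv1, hv2, hv3⟩ := S.mem_Lq.mp (hL v List.mem_cons_self)
    rw [S.pr_cons, S.phi_mul D h1 h2 h3 (S.x_mem_QT hv1 hv2 (by omega) _) (S.pr_mem_QT hL' t),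
      ih hL' (List.nodup_cons.mp hnd).2 t]
    by_cases hvr : v = r
    · subst hvr
      rw [S.phi_gen_self D h1 h2 h3, if_neg (List.nodup_cons.mp hnd).1, add_zero,
        if_pos List.mem_cons_self]
    · rw [S.phi_gen_ne D h1 h2 h3 hv1 hv2 (by omega) hvr, zero_add]
      by_cases hrL : r ∈ L
      · rw [if_pos hrL, if_pos (List.mem_cons_of_mem _ hrL)]
      · rw [if_neg hrL, if_neg]
        intro h
        rcases List.mem_cons.mp h with h | h
        · exact hvr h.symm
        · exact hrL h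

/-- the normal form, with the coordinates as parameters -/
theorem nf (D : S.Dom T γ) {q : G} (hq : q ∈ S.QT T γ) :
    ∃ c : F, q = S.pr (S.Lq T γ) (fun r => S.phi γ r q) * S.x γ c := by
  obtain ⟨t, c, e⟩ := S.nf_exists D hq
  refine ⟨c, ?_⟩
  have : S.pr (S.Lq T γ) (fun r => S.phi γ r q) = S.pr (S.Lq T γ) t := by
    apply S.pr_congr
    intro r hr
    obtain ⟨h1, h2, h3⟩ := S.mem_Lq.mp hr
    show S.phi γ r q = t r
    rw [e, S.phi_mul D h1 h2 h3 (S.pr_mem_QT (fun _ h => h) t) (S.xγ_mem_QT D c), S.phi_xγ D hr, add_zero,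
      S.phi_pr D hr _ (fun _ h => h) S.nodup_Lq, if_pos hr]
  rw [this]
  exact e

open Classical in
theorem pr_filter (R : Vec l → Prop) : ∀ (L : List (Vec l)), (∀ r ∈ L, r ∈ S.roots) → ∀ t : Vec l → F,
    (∀ r ∈ L, ¬ R r → t r = 0) → S.pr L t = S.pr (L.filter fun r => decide (R r)) t := by
  intro L
  induction L with
  | nil => intro _ _ _; rfl
  | cons v L ih =>
    intro hL t ht
    have hL' : ∀ w ∈ L, w ∈ S.roots := fun w hw => hL w (List.mem_cons_of_mem _ hw)
    have ih' := ih hL' t (fun r hr => ht r (List.mem_cons_of_mem _ hr))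
    by_cases hv : R v
    · rw [List.filter_cons_of_pos (by simpa using hv), S.pr_cons, S.pr_cons, ih']
    · rw [List.filter_cons_of_neg (by simpa using hv), S.pr_cons, ht v List.mem_cons_self hv,
        S.x_zero (hL v List.mem_cons_self), one_mul, ih']

open Classical in
/-- the normal form of an element whose coordinates vanish outside `R` -/
theorem nf_support (D : S.Dom T γ) {q : G} (hq : q ∈ S.QT T γ) (R : Vec l → Prop)
    (h : ∀ r ∈ S.Lq T γ, ¬ R r → S.phi γ r q = 0) :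
    ∃ c : F, q = S.pr ((S.Lq T γ).filter fun r => decide (R r)) (fun r => S.phi γ r q) * S.x γ c := by
  obtain ⟨c, e⟩ := S.nf D hq
  refine ⟨c, ?_⟩
  rw [← S.pr_filter R _ (fun r hr => (S.mem_Lq.mp hr).1) _ h]
  exact e

/-- two additive functions on the radical agreeing on the generators agree -/
theorem add_ext {f g : G → F} (hf : ∀ q ∈ S.QT T γ, ∀ q' ∈ S.QT T γ, f (q * q') = f q + f q')
    (hg : ∀ q ∈ S.QT T γ, ∀ q' ∈ S.QT T γ, g (q * q') = g q + g q')
    (h : ∀ r ∈ S.roots, S.perp T r → 1 ≤ S.B r γ → ∀ a, f (S.x r a) = g (S.x r a)) :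
    ∀ q ∈ S.QT T γ, f q = g q := by
  have f1 : f 1 = 0 := by
    have := hf 1 (Subgroup.one_mem _) 1 (Subgroup.one_mem _)
    rw [mul_one] at this
    exact left_eq_add.mp this
  have g1 : g 1 = 0 := by
    have := hg 1 (Subgroup.one_mem _) 1 (Subgroup.one_mem _)
    rw [mul_one] at this
    exact left_eq_add.mp this
  intro q hq
  induction hq using Subgroup.closure_induction_left with
  | one => rw [f1, g1]
  | mul_left x hx y hy ih =>
    obtain ⟨r, hr, a, hp, h1, rfl⟩ := hx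
    rw [hf _ (S.x_mem_QT hr hp h1 a) _ hy, hg _ (S.x_mem_QT hr hp h1 a) _ hy, ih, h r hr hp h1 a]
  | inv_mul_cancel x hx y hy ih =>
    obtain ⟨r, hr, a, hp, h1, rfl⟩ := hx
    rw [S.x_inv hr, hf _ (S.x_mem_QT hr hp h1 a) _ hy, hg _ (S.x_mem_QT hr hp h1 a) _ hy, ih, h r hr hp h1 a]

theorem phi_inv (D : S.Dom T γ) {r : Vec l} (hr : r ∈ S.Lq T γ) {q : G} (hq : q ∈ S.QT T γ) :
    S.phi γ r q⁻¹ = S.phi γ r q := by
  obtain ⟨h1, h2, h3⟩ := S.mem_Lq.mp hr
  have := S.phi_mul D h1 h2 h3 hq (Subgroup.inv_mem _ hq)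
  rw [mul_inv_cancel, S.phi_one D h1 h2 h3] at this
  have h4 : S.phi γ r q⁻¹ = S.phi γ r q⁻¹ + (S.phi γ r q + S.phi γ r q) := by rw [S.add_self, add_zero]
  rw [h4, add_comm (S.phi γ r q⁻¹), add_assoc, ← this, add_zero]

/-- the commutator with a partner root element with arbitrary parameter -/
theorem phi_scaled (D : S.Dom T γ) {r : Vec l} (hr : r ∈ S.Lq T γ) (b : F) {q : G} (hq : q ∈ S.QT T γ) :
    S.x (γ - r) b * q * (S.x (γ - r) b)⁻¹ * q⁻¹ = S.x γ (b * S.phi γ r q) := by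
  obtain ⟨h1, h2, h3⟩ := S.mem_Lq.mp hr
  have hr' := S.partner_mem D h1 h3
  have gen : ∀ s ∈ S.roots, S.perp T s → 1 ≤ S.B s γ → ∀ a : F,
      S.x (γ - r) b * S.x s a * (S.x (γ - r) b)⁻¹ * (S.x s a)⁻¹ = S.x γ (b * S.phi γ r (S.x s a)) := by
    intro s hs hsp hs1 a
    by_cases hsr : s = r
    · subst hsr
      have hB : S.B s (γ - s) = -1 := by
        rw [S.B_sub_right, h3, S.B_self s hs]; rfl
      rw [S.conj_add hs hr' hB, add_sub_cancel, S.phi_gen_self D h1 h2 h3, mul_comm a b,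
        S.conj_comm D.mem hs (by rw [S.B_symm]; omega)]
    · rw [S.phi_gen_ne D h1 h2 h3 hs hsp hs1 hsr, mul_zero, S.x_zero D.mem]
      have hB : 0 ≤ S.B s (γ - r) := by
        rw [S.B_sub_right]
        rcases D.eq_or_one S hs hs1 with h | h
        · rw [h, S.B_self γ D.mem, S.B_symm, h3]; omega
        · rw [h]
          have h2' := (S.B_le_two hs h1).1
          have h3' : S.B s r ≠ 2 := fun e => hsr (S.eq_of_B_eq_two h1 hs (by rw [S.B_symm]; exact e))
          omega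
      rw [S.conj_comm hs hr' hB, mul_inv_cancel]
  have step : ∀ s ∈ S.roots, S.perp T s → 1 ≤ S.B s γ → ∀ (a : F) (y : G), y ∈ S.QT T γ →
      S.x (γ - r) b * y * (S.x (γ - r) b)⁻¹ * y⁻¹ = S.x γ (b * S.phi γ r y) →
      S.x (γ - r) b * (S.x s a * y) * (S.x (γ - r) b)⁻¹ * (S.x s a * y)⁻¹ =
        S.x γ (b * S.phi γ r (S.x s a * y)) := by
    intro s hs hsp hs1 a y hy ih
    have hxm := S.x_mem_QT hs hsp hs1 a
    have e : S.x (γ - r) b * (S.x s a * y) * (S.x (γ - r) b)⁻¹ * (S.x s a * y)⁻¹ =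
        (S.x (γ - r) b * S.x s a * (S.x (γ - r) b)⁻¹ * (S.x s a)⁻¹) *
          (S.x s a * (S.x (γ - r) b * y * (S.x (γ - r) b)⁻¹ * y⁻¹) * (S.x s a)⁻¹) := by group
    rw [e, gen s hs hsp hs1 a, ih, S.conj_comm D.mem hs (by rw [S.B_symm]; omega),
      S.phi_mul D h1 h2 h3 hxm hy, mul_add, S.x_add γ D.mem]
  induction hq using Subgroup.closure_induction_left with
  | one => rw [S.phi_one D h1 h2 h3, mul_zero, S.x_zero D.mem]; group
  | mul_left x hx y hy ih =>
    obtain ⟨s, hs, a, hsp, hs1, rfl⟩ := hx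
    exact step s hs hsp hs1 a y hy ih
  | inv_mul_cancel x hx y hy ih =>
    obtain ⟨s, hs, a, hsp, hs1, rfl⟩ := hx
    rw [S.x_inv hs]
    exact step s hs hsp hs1 a y hy ih

end SLSys

end Cfsg.Agent.Lib.Helper3.SLInv
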