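import Cfsg.Agent.Lib.Helper3.SLInv6
set_option autoImplicit false
set_option linter.unusedSectionVars false
set_option linter.unusedVariables false
set_option linter.unusedSimpArgs false

/-!
Products of reflection elements for pairwise orthogonal roots: their action on the root elements, the
conjugation turning a product of root elements into a product of reflection elements, and the elimination
of the coordinates of the radical moved by such a product.
-/

namespace Cfsg.Agent.Lib.Helper3.SLInv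

namespace SLSys

variable {G : Type*} [Group G] {F : Type*} [Field F] {l : ℕ} (S : SLSys G F l)
variable {T : List (Vec l)} {γ : Vec l}

theorem B_smul_left (k : ℤ) (u v : Vec l) : S.B (k • u) v = k * S.B u v := by
  induction k using Int.induction_on with
  | zero => rw [zero_smul, S.B_zero_left, zero_mul]
  | succ k ih => rw [add_smul, one_smul, S.B_add_left, ih]; ring
  | pred k ih => rw [sub_smul, one_smul, S.B_sub_left, ih]; ring

theorem B_sum_left (L : List (Vec l)) (f : Vec l → Vec l) (v : Vec l) :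
    S.B ((L.map f).sum) v = (L.map fun β => S.B (f β) v).sum := by
  induction L with
  | nil => simp [S.B_zero_left]
  | cons a L ih => simp only [List.map_cons, List.sum_cons]; rw [S.B_add_left, ih]

/-- a list of pairwise orthogonal roots -/
def Orth (O : List (Vec l)) : Prop := (∀ β ∈ O, β ∈ S.roots) ∧ O.Pairwise (fun a b => S.B a b = 0)

theorem Orth.nil : S.Orth [] := ⟨fun _ h => absurd h List.not_mem_nil, List.Pairwise.nil⟩

theorem Orth.tail {β : Vec l} {O : List (Vec l)} (h : S.Orth (β :: O)) : S.Orth O :=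
  ⟨fun b hb => h.1 b (List.mem_cons_of_mem _ hb), (List.pairwise_cons.mp h.2).2⟩

theorem Orth.head {β : Vec l} {O : List (Vec l)} (h : S.Orth (β :: O)) : β ∈ S.roots := h.1 β List.mem_cons_self

theorem Orth.head_perp {β : Vec l} {O : List (Vec l)} (h : S.Orth (β :: O)) : ∀ o ∈ O, S.B β o = 0 :=
  (List.pairwise_cons.mp h.2).1

/-- the product of the reflections in the roots of the list -/
def wv (O : List (Vec l)) (r : Vec l) : Vec l := r - (O.map fun β => S.B r β • β).sum

theorem wv_nil (r : Vec l) : S.wv [] r = r := by simp [wv]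

theorem wv_cons (β : Vec l) (O : List (Vec l)) (r : Vec l) :
    S.wv (β :: O) r = S.wv O r - S.B r β • β := by
  simp only [wv, List.map_cons, List.sum_cons]
  abel

theorem B_wv (O : List (Vec l)) (r v : Vec l) :
    S.B (S.wv O r) v = S.B r v - (O.map fun β => S.B r β * S.B β v).sum := by
  unfold wv
  rw [S.B_sub_left, S.B_sum_left]
  congr 2
  apply List.map_congr_left
  intro β _
  rw [S.B_smul_left]

theorem B_wv_of_perp {O : List (Vec l)} {v : Vec l} (h : ∀ β ∈ O, S.B β v = 0) (r : Vec l) :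
    S.B (S.wv O r) v = S.B r v := by
  rw [S.B_wv]
  have : (O.map fun β => S.B r β * S.B β v) = O.map fun _ => (0 : ℤ) := by
    apply List.map_congr_left
    intro β hβ
    rw [h β hβ, mul_zero]
  rw [this]
  simp

theorem sum_orth {O : List (Vec l)} (hO : S.Orth O) (c : Vec l → ℤ) {β' : Vec l} (hβ' : β' ∈ O) :
    (O.map fun β => c β * S.B β β').sum = 2 * c β' := by
  induction O with
  | nil => exact absurd hβ' List.not_mem_nil
  | cons β O ih =>
    simp only [List.map_cons, List.sum_cons]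
    rcases List.mem_cons.mp hβ' with h | h
    · subst h
      have : (O.map fun β => c β * S.B β β') = O.map fun _ => (0 : ℤ) := by
        apply List.map_congr_left
        intro b hb
        rw [S.B_symm, hO.head_perp S b hb, mul_zero]
      rw [this, S.B_self β' (hO.head S)]
      simp
      ring
    · rw [ih (hO.tail S) h, hO.head_perp S β' h, mul_zero, zero_add]

theorem B_wv_mem {O : List (Vec l)} (hO : S.Orth O) (r : Vec l) {β' : Vec l} (hβ' : β' ∈ O) :
    S.B (S.wv O r) β' = - S.B r β' := by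
  rw [S.B_wv, S.sum_orth hO (fun β => S.B r β) hβ']
  ring

theorem sum_map_neg_vec (L : List (Vec l)) (f : Vec l → Vec l) :
    (L.map fun β => -(f β)).sum = -(L.map f).sum := by
  induction L with
  | nil => simp
  | cons a L ih => simp only [List.map_cons, List.sum_cons]; rw [ih]; abel

theorem wv_wv {O : List (Vec l)} (hO : S.Orth O) (r : Vec l) : S.wv O (S.wv O r) = r := by
  have : (O.map fun β => S.B (S.wv O r) β • β) = O.map fun β => -(S.B r β • β) := by
    apply List.map_congr_left
    intro β hβ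
    rw [S.B_wv_mem hO r hβ, neg_smul]
  have e : S.wv O (S.wv O r) = S.wv O r - (O.map fun β => S.B (S.wv O r) β • β).sum := rfl
  rw [e, this, sum_map_neg_vec]
  unfold wv
  abel

theorem perp_of_wv_fix {O : List (Vec l)} (hO : S.Orth O) {r : Vec l} (h : S.wv O r = r) : S.perp O r := by
  intro β' hβ'
  have := S.B_wv_mem hO r hβ'
  rw [h] at this
  omega

theorem wv_of_perp {O : List (Vec l)} {r : Vec l} (h : ∀ β ∈ O, S.B r β = 0) : S.wv O r = r := by
  unfold wv
  have : (O.map fun β => S.B r β • β) = O.map fun _ => (0 : Vec l) := by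
    apply List.map_congr_left
    intro β hβ
    rw [h β hβ, zero_smul]
  rw [this]
  simp

theorem n_mem_GT {β : Vec l} (hβ : β ∈ S.roots) (hp : S.perp T β) : S.n β ∈ S.GT T := by
  unfold n
  exact Subgroup.mul_mem _ (Subgroup.mul_mem _ (S.x_mem_GT hβ hp 1) (S.x_mem_GT (S.neg_mem β hβ) (S.perp_neg hp) 1))
    (S.x_mem_GT hβ hp 1)

theorem ns_mem_GT {O : List (Vec l)} (hO : ∀ β ∈ O, β ∈ S.roots ∧ S.perp T β) : S.ns O ∈ S.GT T := by
  induction O with
  | nil => exact Subgroup.one_mem _
  | cons β O ih =>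
    rw [S.ns_cons]
    exact Subgroup.mul_mem _ (S.n_mem_GT (hO β List.mem_cons_self).1 (hO β List.mem_cons_self).2)
      (ih fun b hb => hO b (List.mem_cons_of_mem _ hb))

theorem xs_mem_GT {O : List (Vec l)} (hO : ∀ β ∈ O, β ∈ S.roots ∧ S.perp T β) : S.xs O ∈ S.GT T := by
  induction O with
  | nil => exact Subgroup.one_mem _
  | cons β O ih =>
    rw [S.xs_cons]
    exact Subgroup.mul_mem _ (S.x_mem_GT (hO β List.mem_cons_self).1 (hO β List.mem_cons_self).2 1)
      (ih fun b hb => hO b (List.mem_cons_of_mem _ hb))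

/-- an element generated by root elements orthogonal to the list commutes with the products over the list -/
theorem perp_comm {O : List (Vec l)} (hO : ∀ β ∈ O, β ∈ S.roots) {g : G} (hg : g ∈ S.GT O) :
    g * S.ns O = S.ns O * g ∧ g * S.xs O = S.xs O * g ∧
      g * S.xs (O.map Neg.neg) = S.xs (O.map Neg.neg) * g := by
  have hg' : g ∈ S.GT (O ++ []) := by rwa [List.append_nil]
  refine ⟨S.GT_comm_ns hO hg' O (fun _ h => h), S.GT_comm_xs hO hg' O (fun _ h => h), ?_⟩
  have hO' : ∀ β ∈ O.map Neg.neg, β ∈ S.roots := by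
    intro β hβ
    obtain ⟨b, hb, rfl⟩ := List.mem_map.mp hβ
    exact S.neg_mem b (hO b hb)
  have hg'' : g ∈ S.GT (O.map Neg.neg ++ []) := by
    rw [List.append_nil]
    revert hg
    apply Subgroup.closure_mono
    rintro _ ⟨r, hr, a, hp, rfl⟩
    refine ⟨r, hr, a, ?_, rfl⟩
    intro β hβ
    obtain ⟨b, hb, rfl⟩ := List.mem_map.mp hβ
    rw [S.B_neg_right, hp b hb, neg_zero]
  exact S.GT_comm_xs hO' hg'' _ (fun _ h => h)

theorem ns_mul_self {O : List (Vec l)} (hO : S.Orth O) : S.ns O * S.ns O = 1 := by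
  induction O with
  | nil => rw [S.ns_nil, mul_one]
  | cons β O ih =>
    have hβ := hO.head S
    have hm : S.n β ∈ S.GT O := S.n_mem_GT hβ (fun o ho => hO.head_perp S o ho)
    have hc := (S.perp_comm (hO.tail S).1 hm).1
    rw [S.ns_cons]
    calc S.n β * S.ns O * (S.n β * S.ns O) = S.n β * (S.ns O * S.n β) * S.ns O := by group
      _ = (S.n β * S.n β) * (S.ns O * S.ns O) := by rw [← hc]; group
      _ = 1 := by rw [S.n_mul_self hβ, ih (hO.tail S), mul_one]

/-- conjugation by the product of the reflection elements -/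
theorem ns_conj_x {O : List (Vec l)} (hO : S.Orth O) {r : Vec l} (hr : r ∈ S.roots) (a : F) :
    S.wv O r ∈ S.roots ∧ S.ns O * S.x r a * (S.ns O)⁻¹ = S.x (S.wv O r) a := by
  induction O with
  | nil => rw [S.wv_nil, S.ns_nil]; exact ⟨hr, by group⟩
  | cons β O ih =>
    obtain ⟨h1, h2⟩ := ih (hO.tail S)
    have hβ := hO.head S
    have e : S.wv (β :: O) r = S.sr β (S.wv O r) := by
      rw [S.wv_cons]
      unfold sr
      rw [S.B_wv_of_perp (fun b hb => by rw [S.B_symm]; exact hO.head_perp S b hb)]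
    rw [e]
    refine ⟨S.sr_mem hβ h1, ?_⟩
    rw [S.ns_cons, ← S.n_conj_x hβ h1, ← h2]
    group

/-- the product of reflection elements permutes the root subgroups of the radical -/
theorem permQ_ns (D : S.Dom T γ) {O : List (Vec l)} (hO : S.Orth O) (hOp : ∀ β ∈ O, S.perp (γ :: T) β) :
    S.PermQ T γ (S.ns O) (S.wv O) where
  sq := S.ns_mul_self hO
  conj := fun v hv _ _ a => (S.ns_conj_x hO hv a).2
  mem := by
    intro v hv hvp hv1
    refine ⟨(S.ns_conj_x hO hv (0 : F)).1, ?_, ?_⟩
    · intro t ht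
      rw [S.B_wv_of_perp (fun β hβ => (S.perp_cons.mp (hOp β hβ)).2 t ht)]
      exact hvp t ht
    · exact S.B_wv_of_perp (fun β hβ => (S.perp_cons.mp (hOp β hβ)).1) v
  invol := fun v _ _ _ => S.wv_wv hO v
  fix := S.wv_of_perp (fun β hβ => by rw [S.B_symm]; exact (S.perp_cons.mp (hOp β hβ)).1)

theorem pr_mem {L : List (Vec l)} {H : Subgroup G} (t : Vec l → F) (h : ∀ r ∈ L, S.x r (t r) ∈ H) :
    S.pr L t ∈ H := by
  induction L with
  | nil => exact Subgroup.one_mem _
  | cons r L ih =>
    rw [S.pr_cons]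
    exact Subgroup.mul_mem _ (h r List.mem_cons_self) (ih fun s hs => h s (List.mem_cons_of_mem _ hs))

/-- an involution `q * ns O` is conjugate under the radical to one with `q` in the radical orthogonal to `O` -/
theorem pair_elim (D : S.Dom T γ) {O : List (Vec l)} (hO : S.Orth O) (hOp : ∀ β ∈ O, S.perp (γ :: T) β)
    {q : G} (hq : q ∈ S.QT T γ) (h : (q * S.ns O) * (q * S.ns O) = 1) :
    ∃ y ∈ S.QT T γ, ∃ q' ∈ S.QT (O ++ T) γ, y * (q * S.ns O) * y⁻¹ = q' * S.ns O := by
  classical
  have P := S.permQ_ns D hO hOp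
  obtain ⟨y, hy, q', hq', e, hz⟩ := P.eliminate S D _ q hq h rfl
  refine ⟨y, hy, q', ?_, e⟩
  obtain ⟨c, hc⟩ := S.nf_support D hq' (fun r => S.wv O r = r) (fun r hr hne => hz r hr hne)
  rw [hc]
  have hγO : S.perp O γ := fun β hβ => by rw [S.B_symm]; exact (S.perp_cons.mp (hOp β hβ)).1
  refine Subgroup.mul_mem _ (S.pr_mem _ ?_) (S.x_mem_QT D.mem (S.perp_append.mpr ⟨hγO, D.perp⟩)
    (by rw [S.B_self γ D.mem]; omega) c)
  intro r hr
  obtain ⟨hr1, hr2⟩ := List.mem_filter.mp hr
  obtain ⟨k1, k2, k3⟩ := S.mem_Lq.mp hr1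
  have hfix : S.wv O r = r := by simpa using hr2
  exact S.x_mem_QT k1 (S.perp_append.mpr ⟨S.perp_of_wv_fix hO hfix, k2⟩) (by omega) _

theorem orth_neg {O : List (Vec l)} (hO : S.Orth O) : S.Orth (O.map Neg.neg) := by
  refine ⟨?_, ?_⟩
  · intro β hβ
    obtain ⟨b, hb, rfl⟩ := List.mem_map.mp hβ
    exact S.neg_mem b (hO.1 b hb)
  · rw [List.pairwise_map]
    refine hO.2.imp ?_
    intro a b hab
    rw [S.B_neg_left, S.B_neg_right, hab]; rfl

/-- conjugating a product of root elements to the product of the reflection elements -/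
theorem conj_xs_neg {O : List (Vec l)} (hO : S.Orth O) :
    S.xs (O.map Neg.neg) * S.xs O * (S.xs (O.map Neg.neg))⁻¹ = S.ns O := by
  induction O with
  | nil => simp [S.xs_nil, S.ns_nil]
  | cons β O ih =>
    have hβ := hO.head S
    have hβ' := S.neg_mem β hβ
    have hp : S.perp O β := fun o ho => hO.head_perp S o ho
    have c1 := S.perp_comm (hO.tail S).1 (S.x_mem_GT hβ hp (1 : F))
    have c2 := S.perp_comm (hO.tail S).1 (S.x_mem_GT hβ' (S.perp_neg hp) (1 : F))
    rw [List.map_cons, S.xs_cons, S.xs_cons, S.ns_cons, ← ih (hO.tail S)]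
    have e : S.n β = S.x (-β) 1 * S.x β 1 * (S.x (-β) 1)⁻¹ := by
      rw [← S.n_neg hβ, S.x_inv hβ']
      unfold n
      rw [neg_neg]
    rw [e]
    set A := S.xs (O.map Neg.neg)
    set B := S.xs O
    set xb := S.x β (1 : F)
    set xn := S.x (-β) (1 : F)
    have d1 : xb * A = A * xb := c1.2.2
    have d2 : xn * A = A * xn := c2.2.2
    have d3 : xn * B = B * xn := c2.2.1
    have d2' : A⁻¹ * xn⁻¹ = xn⁻¹ * A⁻¹ := by
      rw [← mul_inv_rev, ← mul_inv_rev, d2]
    have d3' : B * xn⁻¹ = xn⁻¹ * B := by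
      have : xn⁻¹ * (xn * B) * xn⁻¹ = xn⁻¹ * (B * xn) * xn⁻¹ := by rw [d3]
      calc B * xn⁻¹ = xn⁻¹ * (xn * B) * xn⁻¹ := by group
        _ = xn⁻¹ * (B * xn) * xn⁻¹ := this
        _ = xn⁻¹ * B := by group
    have d2'' : A * xn⁻¹ = xn⁻¹ * A := by
      calc A * xn⁻¹ = xn⁻¹ * (xn * A) * xn⁻¹ := by group
        _ = xn⁻¹ * (A * xn) * xn⁻¹ := by rw [d2]
        _ = xn⁻¹ * A := by group
    calc xn * A * (xb * B) * (xn * A)⁻¹ = xn * (A * xb) * B * A⁻¹ * xn⁻¹ := by group
      _ = xn * xb * A * B * (A⁻¹ * xn⁻¹) := by rw [← d1]; group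
      _ = xn * xb * A * (B * xn⁻¹) * A⁻¹ := by rw [d2']; group
      _ = xn * xb * (A * xn⁻¹) * B * A⁻¹ := by rw [d3']; group
      _ = xn * xb * xn⁻¹ * (A * B * A⁻¹) := by rw [d2'']; group

end SLSys

end Cfsg.Agent.Lib.Helper3.SLInv
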