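import Cfsg.Agent.Lib.Helper3.SLInv7
set_option autoImplicit false
set_option linter.unusedSectionVars false
set_option linter.unusedVariables false
set_option linter.unusedSimpArgs false

/-!
Involutions of the radical of a dominant root: clearing the coordinates not orthogonal to a root of least
height in the support.
-/

namespace Cfsg.Agent.Lib.Helper3.SLInv

namespace SLSys

variable {G : Type*} [Group G] {F : Type*} [Field F] {l : ℕ} (S : SLSys G F l)
variable {T : List (Vec l)} {γ : Vec l}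

/-- the state of the clearing procedure -/
structure QSt (T : List (Vec l)) (γ : Vec l) (Of : List (Vec l)) (r0 : Vec l) (q : G) : Prop where
  mem : q ∈ S.QT T γ
  inv : ∀ r ∈ S.Lq T γ, S.phi γ r q ≠ 0 → r ∈ Of ∨ S.perp Of r
  mink : ∀ r ∈ S.Lq T γ, S.perp Of r → S.phi γ r q ≠ 0 → S.key r0 ≤ S.key r

/-- one step of the clearing procedure -/
theorem clean_step (D : S.Dom T γ) {Of : List (Vec l)} (hOf : ∀ o ∈ Of, o ∈ S.Lq T γ)
    {r0 : Vec l} (hr0 : r0 ∈ S.Lq T γ) (hr0p : S.perp Of r0) {q : G} (hq : S.QSt T γ Of r0 q)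
    (h0 : S.phi γ r0 q ≠ 0) (k : ℕ)
    (hc : ∀ r1 ∈ S.Lq T γ, S.B r1 r0 = 1 → S.key r1 < S.key r0 + k → S.phi γ r1 q = 0)
    {r1 : Vec l} (hr1 : r1 ∈ S.Lq T γ) (hB : S.B r1 r0 = 1) (hk : S.key r1 = S.key r0 + k)
    (h1 : S.phi γ r1 q ≠ 0) :
    ∃ g ∈ S.GT (γ :: T), S.QSt T γ Of r0 (g * q * g⁻¹) ∧ S.phi γ r0 (g * q * g⁻¹) = S.phi γ r0 q ∧
      (∀ o ∈ Of, S.phi γ o (g * q * g⁻¹) = S.phi γ o q) ∧
      ∀ r ∈ S.Lq T γ, S.B r r0 = 1 → S.key r < S.key r0 + (k + 1 : ℕ) → S.phi γ r (g * q * g⁻¹) = 0 := by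
  obtain ⟨a1, a2, a3⟩ := S.mem_Lq.mp hr0
  obtain ⟨b1, b2, b3⟩ := S.mem_Lq.mp hr1
  set δ := r1 - r0 with hδdef
  have hδ : δ ∈ S.roots := S.sub_mem b1 a1 hB
  have hδγ : S.B δ γ = 0 := by rw [hδdef, S.B_sub_left, a3, b3]; rfl
  have hδp : S.perp (γ :: T) δ := S.perp_cons.mpr ⟨hδγ, S.perp_sub b2 a2⟩
  have hr1Of : S.perp Of r1 := by
    rcases hq.inv r1 hr1 h1 with h | h
    · have := hr0p r1 h
      rw [S.B_symm] at this
      omega
    · exact h
  have hδOf : S.perp Of δ := S.perp_sub hr1Of hr0p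
  have hkδ : S.key δ = k := by rw [hδdef, S.key_sub, hk]; ring
  set t0 := S.phi γ r0 q with ht0
  set s := S.phi γ r1 q * t0⁻¹ with hs
  have hst : s * t0 = S.phi γ r1 q := by rw [hs, mul_assoc, inv_mul_cancel₀ h0, mul_one]
  have hform : ∀ r ∈ S.Lq T γ, S.phi γ r (S.x δ s * q * (S.x δ s)⁻¹) =
      S.phi γ r q + (if S.B r δ = 1 then s * S.phi γ (r - δ) q else 0) :=
    fun r hr => S.phi_conj_x D hδ hδp s hr hq.mem
  -- a root `r - δ` with non-zero coordinate is orthogonal to `Of`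
  have hsub : ∀ r ∈ S.Lq T γ, S.B r δ = 1 → S.phi γ (r - δ) q ≠ 0 → S.perp Of (r - δ) := by
    intro r hr hBr hne
    rcases hq.inv (r - δ) (S.sub_mem_Lq D hr hδ hδp hBr) hne with h | h
    · exfalso
      have h2 := hδOf (r - δ) h
      rw [S.B_symm, S.B_sub_left, hBr, S.B_self δ hδ] at h2
      omega
    · exact h
  refine ⟨S.x δ s, S.x_mem_GT hδ hδp s, ⟨S.conj_QT_mem (S.x_mem_GT hδ hδp s) hq.mem, ?_, ?_⟩, ?_, ?_, ?_⟩
  · -- the invariant
    intro r hr hne
    rw [hform r hr] at hne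
    by_cases h : S.phi γ r q = 0
    · rw [h, zero_add] at hne
      by_cases hBr : S.B r δ = 1
      · rw [if_pos hBr] at hne
        have hne' : S.phi γ (r - δ) q ≠ 0 := fun e => hne (by rw [e, mul_zero])
        right
        have := S.perp_add (hsub r hr hBr hne') hδOf
        rwa [sub_add_cancel] at this
      · rw [if_neg hBr] at hne; exact absurd rfl hne
    · exact hq.inv r hr h
  · -- minimality
    intro r hr hrp hne
    rw [hform r hr] at hne
    by_cases h : S.phi γ r q = 0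
    · rw [h, zero_add] at hne
      by_cases hBr : S.B r δ = 1
      · rw [if_pos hBr] at hne
        have hne' : S.phi γ (r - δ) q ≠ 0 := fun e => hne (by rw [e, mul_zero])
        have := hq.mink (r - δ) (S.sub_mem_Lq D hr hδ hδp hBr) (hsub r hr hBr hne') hne'
        rw [S.key_sub, hkδ] at this
        omega
      · rw [if_neg hBr] at hne; exact absurd rfl hne
    · exact hq.mink r hr hrp h
  · -- the coordinate at `r0`
    rw [hform r0 hr0, if_neg, add_zero]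
    rw [hδdef, S.B_sub_right, S.B_self r0 a1, S.B_symm, hB]
    omega
  · -- the coordinates at `Of`
    intro o ho
    rw [hform o (hOf o ho), if_neg, add_zero]
    rw [S.B_symm, hδOf o ho]
    omega
  · -- the cleared coordinates
    intro r hr hBr hkr
    rw [hform r hr]
    by_cases e : r = r1
    · subst e
      have hB1 : S.B r δ = 1 := by rw [hδdef, S.B_sub_right, S.B_self r b1, hB]; rfl
      have e2 : r - δ = r0 := by rw [hδdef]; abel
      rw [if_pos hB1, e2, hst, S.add_self]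
    · have hkne : S.key r ≠ S.key r1 := fun e2 => e (S.key_inj r (S.mem_Lq.mp hr).1 r1 b1 e2)
      have hz : S.phi γ r q = 0 := hc r hr hBr (by push_cast at hkr; omega)
      rw [hz, zero_add]
      by_cases hBδ : S.B r δ = 1
      · rw [if_pos hBδ]
        have : S.phi γ (r - δ) q = 0 := by
          by_contra hne
          have := hq.mink (r - δ) (S.sub_mem_Lq D hr hδ hδp hBδ) (hsub r hr hBδ hne) hne
          rw [S.key_sub, hkδ] at this
          push_cast at hkr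
          omega
        rw [this, mul_zero]
      · rw [if_neg hBδ]

/-- the clearing procedure up to a height bound -/
theorem clean (D : S.Dom T γ) {Of : List (Vec l)} (hOf : ∀ o ∈ Of, o ∈ S.Lq T γ)
    {r0 : Vec l} (hr0 : r0 ∈ S.Lq T γ) (hr0p : S.perp Of r0) {q : G} (hq : S.QSt T γ Of r0 q)
    (h0 : S.phi γ r0 q ≠ 0) (k : ℕ) :
    ∃ g ∈ S.GT (γ :: T), S.QSt T γ Of r0 (g * q * g⁻¹) ∧ S.phi γ r0 (g * q * g⁻¹) = S.phi γ r0 q ∧
      (∀ o ∈ Of, S.phi γ o (g * q * g⁻¹) = S.phi γ o q) ∧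
      ∀ r ∈ S.Lq T γ, S.B r r0 = 1 → S.key r < S.key r0 + k → S.phi γ r (g * q * g⁻¹) = 0 := by
  induction k with
  | zero =>
    refine ⟨1, Subgroup.one_mem _, by simpa using hq, by simp, fun o _ => by simp, ?_⟩
    intro r hr hBr hkr
    by_contra hne
    have hne' : S.phi γ r q ≠ 0 := by simpa using hne
    rcases hq.inv r hr hne' with h | h
    · have := hr0p r h
      rw [S.B_symm] at this
      omega
    · have := hq.mink r hr h hne'
      push_cast at hkr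
      omega
  | succ k ih =>
    obtain ⟨g, hg, hst, e0, eOf, hc⟩ := ih
    by_cases hex : ∃ r1 ∈ S.Lq T γ, S.B r1 r0 = 1 ∧ S.key r1 = S.key r0 + k ∧ S.phi γ r1 (g * q * g⁻¹) ≠ 0
    · obtain ⟨r1, hr1, hB, hk, h1⟩ := hex
      obtain ⟨g', hg', hst', e0', eOf', hc'⟩ := S.clean_step D hOf hr0 hr0p hst (by rw [e0]; exact h0) k hc hr1 hB hk h1
      have e : g' * (g * q * g⁻¹) * g'⁻¹ = (g' * g) * q * (g' * g)⁻¹ := by group
      rw [e] at hst' e0' eOf' hc'
      refine ⟨g' * g, Subgroup.mul_mem _ hg' hg, hst', by rw [e0', e0], fun o ho => by rw [eOf' o ho, eOf o ho], hc'⟩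
    · refine ⟨g, hg, hst, e0, eOf, ?_⟩
      intro r hr hBr hkr
      by_cases hk : S.key r = S.key r0 + k
      · by_contra hne
        exact hex ⟨r, hr, hBr, hk, hne⟩
      · exact hc r hr hBr (by push_cast at hkr; omega)

theorem exists_key_bound (L : List (Vec l)) : ∃ M : ℕ, ∀ r ∈ L, S.key r < M := by
  induction L with
  | nil => exact ⟨0, fun _ h => absurd h List.not_mem_nil⟩
  | cons a L ih =>
    obtain ⟨M, hM⟩ := ih
    refine ⟨M + (S.key a).natAbs + 1, ?_⟩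
    intro r hr
    have hle := Int.le_natAbs (a := S.key a)
    rcases List.mem_cons.mp hr with h | h
    · rw [h]; omega
    · have := hM r h; omega

/-- the clearing procedure -/
theorem clean_all (D : S.Dom T γ) {Of : List (Vec l)} (hOf : ∀ o ∈ Of, o ∈ S.Lq T γ)
    {r0 : Vec l} (hr0 : r0 ∈ S.Lq T γ) (hr0p : S.perp Of r0) {q : G} (hq : S.QSt T γ Of r0 q)
    (h0 : S.phi γ r0 q ≠ 0) :
    ∃ g ∈ S.GT (γ :: T), S.QSt T γ Of r0 (g * q * g⁻¹) ∧ S.phi γ r0 (g * q * g⁻¹) = S.phi γ r0 q ∧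
      (∀ o ∈ Of, S.phi γ o (g * q * g⁻¹) = S.phi γ o q) ∧
      ∀ r ∈ S.Lq T γ, S.B r r0 = 1 → S.phi γ r (g * q * g⁻¹) = 0 := by
  obtain ⟨M, hM⟩ := S.exists_key_bound S.roots
  obtain ⟨g, hg, h1, h2, h3, h4⟩ := S.clean D hOf hr0 hr0p hq h0 (M + (S.key r0).natAbs)
  refine ⟨g, hg, h1, h2, h3, fun r hr hB => h4 r hr hB ?_⟩
  have := hM r (S.mem_Lq.mp hr).1
  have hle := Int.le_natAbs (a := -S.key r0)
  rw [Int.natAbs_neg] at hle
  omega

theorem x_comm_pr {r : Vec l} (hr : r ∈ S.roots) (a : F) : ∀ (L : List (Vec l)),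
    (∀ v ∈ L, v ∈ S.roots ∧ 0 ≤ S.B r v) → ∀ t : Vec l → F, S.x r a * S.pr L t = S.pr L t * S.x r a := by
  intro L
  induction L with
  | nil => intro _ t; rw [S.pr_nil, mul_one, one_mul]
  | cons v L ih =>
    intro hL t
    rw [S.pr_cons, ← mul_assoc, S.x_comm r hr v (hL v List.mem_cons_self).1 (hL v List.mem_cons_self).2,
      mul_assoc, ih (fun w hw => hL w (List.mem_cons_of_mem _ hw)) t, mul_assoc]

theorem pr_sq : ∀ (L : List (Vec l)), (∀ v ∈ L, v ∈ S.roots) → (∀ v ∈ L, ∀ w ∈ L, 0 ≤ S.B v w) →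
    ∀ t : Vec l → F, S.pr L t * S.pr L t = 1 := by
  intro L
  induction L with
  | nil => intro _ _ t; rw [S.pr_nil, mul_one]
  | cons v L ih =>
    intro hL hB t
    have hv := hL v List.mem_cons_self
    have hc := S.x_comm_pr hv (t v) L (fun w hw => ⟨hL w (List.mem_cons_of_mem _ hw),
      hB v List.mem_cons_self w (List.mem_cons_of_mem _ hw)⟩) t
    rw [S.pr_cons]
    calc S.x v (t v) * S.pr L t * (S.x v (t v) * S.pr L t)
        = S.x v (t v) * (S.pr L t * S.x v (t v)) * S.pr L t := by group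
      _ = (S.x v (t v) * S.x v (t v)) * (S.pr L t * S.pr L t) := by rw [← hc]; group
      _ = 1 := by
        rw [S.x_sq hv, one_mul]
        exact ih (fun w hw => hL w (List.mem_cons_of_mem _ hw))
          (fun a ha b hb => hB a (List.mem_cons_of_mem _ ha) b (List.mem_cons_of_mem _ hb)) t

/-- the coordinate at the partner of a cleared root vanishes for an involution -/
theorem sq_zero (D : S.Dom T γ) {r0 : Vec l} (hr0 : r0 ∈ S.Lq T γ) {q : G} (hq : q ∈ S.QT T γ)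
    (hsq : q * q = 1) (h0 : S.phi γ r0 q ≠ 0)
    (hc : ∀ r ∈ S.Lq T γ, S.B r r0 = 1 → S.phi γ r q = 0) : S.phi γ (γ - r0) q = 0 := by
  classical
  obtain ⟨a1, a2, a3⟩ := S.mem_Lq.mp hr0
  have hp0 : γ - r0 ∈ S.Lq T γ := S.mem_Lq.mpr ⟨S.partner_mem D a1 a3, S.partner_perp D a2, S.partner_B D a1 a3⟩
  obtain ⟨b1, b2, b3⟩ := S.mem_Lq.mp hp0
  set p0 := γ - r0 with hp0def
  set t0 := S.phi γ r0 q
  set t1 := S.phi γ p0 q
  have hx0 : S.x r0 t0 ∈ S.QT T γ := S.x_mem_QT a1 a2 (by omega) t0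
  have hx1 : S.x p0 t1 ∈ S.QT T γ := S.x_mem_QT b1 b2 (by omega) t1
  have hne : p0 ≠ r0 := by
    intro e
    have : S.B p0 r0 = 2 := by rw [e, S.B_self r0 a1]
    rw [hp0def, S.B_sub_left, S.B_self r0 a1, S.B_symm, a3] at this
    omega
  set q2 := S.x p0 t1 * (S.x r0 t0 * q) with hq2
  have hq2m : q2 ∈ S.QT T γ := Subgroup.mul_mem _ hx1 (Subgroup.mul_mem _ hx0 hq)
  have hcoord : ∀ r ∈ S.Lq T γ, S.phi γ r q2 = S.phi γ r (S.x p0 t1) + (S.phi γ r (S.x r0 t0) + S.phi γ r q) := by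
    intro r hr
    obtain ⟨m1, m2, m3⟩ := S.mem_Lq.mp hr
    rw [hq2, S.phi_mul D m1 m2 m3 hx1 (Subgroup.mul_mem _ hx0 hq), S.phi_mul D m1 m2 m3 hx0 hq]
  -- the support of `q2`
  have hsupp : ∀ r ∈ S.Lq T γ, ¬ (S.B r r0 = 0) → S.phi γ r q2 = 0 := by
    intro r hr hB
    obtain ⟨m1, m2, m3⟩ := S.mem_Lq.mp hr
    rw [hcoord r hr]
    by_cases e0 : r = r0
    · subst e0
      rw [S.phi_gen_ne D m1 m2 m3 b1 b2 (by omega) hne, S.phi_gen_self D m1 m2 m3, zero_add, S.add_self]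
    · by_cases e1 : r = p0
      · subst e1
        rw [S.phi_gen_self D m1 m2 m3, S.phi_gen_ne D m1 m2 m3 a1 a2 (by omega) (Ne.symm e0), zero_add, S.add_self]
      · rw [S.phi_gen_ne D m1 m2 m3 b1 b2 (by omega) (Ne.symm e1),
          S.phi_gen_ne D m1 m2 m3 a1 a2 (by omega) (Ne.symm e0), zero_add, zero_add]
        apply hc r hr
        rcases S.B_cases' m1 a1 with h | h | h | h | h
        · exact absurd h e0
        · rw [h, S.B_neg_left, a3] at m3; omega
        · exact h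
        · exact absurd h hB
        · exfalso
          apply e1
          have hrs := S.add_mem r m1 r0 a1 h
          have := S.eq_of_B_eq_two D.mem hrs (by rw [S.B_symm, S.B_add_left, m3, a3]; rfl)
          rw [hp0def, ← this]; abel
  obtain ⟨c, hcq⟩ := S.nf_support D hq2m (fun r => S.B r r0 = 0) hsupp
  generalize hL0 : List.filter _ (S.Lq T γ) = L0 at hcq
  set P := S.pr L0 (fun r => S.phi γ r q2) with hP
  have hL0mem : ∀ v ∈ L0, v ∈ S.Lq T γ ∧ S.B v r0 = 0 := by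
    intro v hv
    rw [← hL0] at hv
    obtain ⟨h1, h2⟩ := List.mem_filter.mp hv
    exact ⟨h1, by simpa using h2⟩
  have hPm : P ∈ S.QT T γ := S.pr_mem_QT (fun v hv => (hL0mem v hv).1) _
  -- `q2` is an involution commuting with the two root elements
  have hPsq : P * P = 1 := by
    apply S.pr_sq L0 (fun v hv => (S.mem_Lq.mp (hL0mem v hv).1).1)
    intro v hv w hw
    obtain ⟨hv1, hv0⟩ := hL0mem v hv
    obtain ⟨hw1, hw0⟩ := hL0mem w hw
    obtain ⟨m1, m2, m3⟩ := S.mem_Lq.mp hv1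
    obtain ⟨n1, n2, n3⟩ := S.mem_Lq.mp hw1
    by_contra hneg
    have hB : S.B v w = -1 := by
      rcases S.B_cases v m1 w n1 with h' | h' | h' | h' | h'
      · rw [h', S.B_self v m1] at hneg; omega
      · rw [h', S.B_neg_left, m3] at n3; omega
      all_goals omega
    have hvw := S.add_mem v m1 w n1 hB
    have := S.eq_of_B_eq_two D.mem hvw (by rw [S.B_symm, S.B_add_left, m3, n3]; rfl)
    have h2 : S.B (v + w) r0 = 0 := by rw [S.B_add_left, hv0, hw0]; rfl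
    rw [this, S.B_symm, a3] at h2
    omega
  have hq2sq : q2 * q2 = 1 := by
    rw [hcq]
    have := S.xγ_comm D hPm c
    calc P * S.x γ c * (P * S.x γ c) = P * (S.x γ c * P) * S.x γ c := by group
      _ = (P * P) * (S.x γ c * S.x γ c) := by rw [this]; group
      _ = 1 := by rw [hPsq, S.x_sq D.mem, mul_one]
  have hcomm0 : S.x r0 t0 * q2 = q2 * S.x r0 t0 := by
    rw [hcq]
    have e1 := S.x_comm_pr a1 t0 L0 (fun v hv => ⟨(S.mem_Lq.mp (hL0mem v hv).1).1, by
      rw [S.B_symm, (hL0mem v hv).2]⟩) (fun r => S.phi γ r q2)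
    have e2 := S.x_comm r0 a1 γ D.mem (by omega) t0 c
    rw [← mul_assoc, e1, mul_assoc, e2, mul_assoc]
  have hcomm1 : S.x p0 t1 * q2 = q2 * S.x p0 t1 := by
    rw [hcq]
    have e1 := S.x_comm_pr b1 t1 L0 (fun v hv => ⟨(S.mem_Lq.mp (hL0mem v hv).1).1, by
      rw [S.B_symm, hp0def, S.B_sub_right, (hL0mem v hv).2, (S.mem_Lq.mp (hL0mem v hv).1).2.2]; omega⟩)
      (fun r => S.phi γ r q2)
    have e2 := S.x_comm p0 b1 γ D.mem (by omega) t1 c
    rw [← mul_assoc, e1, mul_assoc, e2, mul_assoc]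
  have hq : q = S.x r0 t0 * (S.x p0 t1 * q2) := by
    rw [hq2, ← mul_assoc (S.x p0 t1), S.x_sq b1, one_mul, ← mul_assoc, S.x_sq a1, one_mul]
  have hB01 : S.B r0 p0 = -1 := by rw [hp0def, S.B_sub_right, a3, S.B_self r0 a1]; rfl
  have hswap := S.x_comm_add r0 a1 p0 b1 hB01 t0 t1
  have hsum : r0 + p0 = γ := by rw [hp0def]; abel
  rw [hsum] at hswap
  have hγ1 := S.x_comm p0 b1 γ D.mem (by omega) t1 (t0 * t1)
  have : S.x γ (t0 * t1) = 1 := by
    rw [← hsq]
    conv_rhs => rw [hq]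
    symm
    calc S.x r0 t0 * (S.x p0 t1 * q2) * (S.x r0 t0 * (S.x p0 t1 * q2))
        = S.x r0 t0 * S.x p0 t1 * (q2 * S.x r0 t0) * S.x p0 t1 * q2 := by group
      _ = S.x r0 t0 * S.x p0 t1 * (S.x r0 t0 * q2) * S.x p0 t1 * q2 := by rw [hcomm0]
      _ = S.x r0 t0 * S.x p0 t1 * S.x r0 t0 * (q2 * S.x p0 t1) * q2 := by group
      _ = S.x r0 t0 * S.x p0 t1 * S.x r0 t0 * (S.x p0 t1 * q2) * q2 := by rw [hcomm1]
      _ = S.x r0 t0 * (S.x p0 t1 * S.x r0 t0) * S.x p0 t1 * (q2 * q2) := by group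
      _ = S.x r0 t0 * (S.x r0 t0 * S.x p0 t1 * S.x γ (t0 * t1)) * S.x p0 t1 * 1 := by rw [hswap, hq2sq]
      _ = (S.x r0 t0 * S.x r0 t0) * S.x p0 t1 * (S.x γ (t0 * t1) * S.x p0 t1) := by group
      _ = S.x p0 t1 * (S.x p0 t1 * S.x γ (t0 * t1)) := by rw [S.x_sq a1, one_mul, ← hγ1]
      _ = S.x γ (t0 * t1) := by rw [← mul_assoc, S.x_sq b1, one_mul]
  have h2 := S.x_inj γ D.mem _ this
  rcases mul_eq_zero.mp h2 with h | h
  · exact absurd h h0
  · exact h

end SLSys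

end Cfsg.Agent.Lib.Helper3.SLInv
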