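import Mathlib

set_option autoImplicit false

/-!
Block matrices `diag(A, a)` in dimension `m + 1` (last coordinate split off) and the centralizer
of `diag(-1, ..., -1, 1)`.
-/

namespace Cfsg.Agent.Lib.Helper3.SLStd
open Matrix

variable {F : Type*} [Field F] {m : ℕ}

/-- reindexing from `Fin m ⊕ Fin 1` to `Fin (m + 1)` -/
noncomputable def rho (F : Type*) [Field F] (m : ℕ) :
    Matrix (Fin m ⊕ Fin 1) (Fin m ⊕ Fin 1) F ≃ₐ[F] Matrix (Fin (m + 1)) (Fin (m + 1)) F :=
  Matrix.reindexAlgEquiv F F finSumFinEquiv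

/-- the block diagonal matrix `diag(A, a)` -/
noncomputable def blk (A : Matrix (Fin m) (Fin m) F) (a : F) :
    Matrix (Fin (m + 1)) (Fin (m + 1)) F :=
  rho F m (Matrix.fromBlocks A 0 0 (a • (1 : Matrix (Fin 1) (Fin 1) F)))

theorem blk_mul (a b : F) (A B : Matrix (Fin m) (Fin m) F) :
    blk A a * blk B b = blk (A * B) (a * b) := by
  unfold blk
  rw [← map_mul, Matrix.fromBlocks_multiply]
  simp [smul_smul, mul_comm]

theorem blk_one : blk (1 : Matrix (Fin m) (Fin m) F) (1 : F) = 1 := by
  unfold blk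
  rw [one_smul, Matrix.fromBlocks_one, map_one]

theorem det_blk (a : F) (A : Matrix (Fin m) (Fin m) F) : (blk A a).det = A.det * a := by
  unfold blk rho
  rw [Matrix.det_reindexAlgEquiv, Matrix.det_fromBlocks_zero₂₁, Matrix.det_smul, Matrix.det_one]
  simp

theorem blk_inj {a b : F} {A B : Matrix (Fin m) (Fin m) F} (h : blk A a = blk B b) :
    A = B ∧ a = b := by
  unfold blk at h
  have h1 := (rho F m).injective h
  rw [Matrix.fromBlocks_inj] at h1
  refine ⟨h1.1, ?_⟩
  have := congrFun (congrFun h1.2.2.2 0) 0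
  simpa using this

/-- a matrix commuting with `diag(-1, 1)` is block diagonal -/
theorem exists_blk_of_commute (h2 : (2 : F) ≠ 0) (M : Matrix (Fin (m + 1)) (Fin (m + 1)) F)
    (hM : blk (-1) 1 * M = M * blk (-1) 1) : ∃ A a, M = blk A a := by
  obtain ⟨N, rfl⟩ := (rho F m).surjective M
  unfold blk at hM
  rw [← map_mul, ← map_mul] at hM
  have h1 := (rho F m).injective hM
  rw [← Matrix.fromBlocks_toBlocks N, Matrix.fromBlocks_multiply, Matrix.fromBlocks_multiply,
    Matrix.fromBlocks_inj] at h1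
  obtain ⟨-, h12, h21, -⟩ := h1
  have e12 : N.toBlocks₁₂ = 0 := by
    have : (2 : F) • N.toBlocks₁₂ = 0 := by
      have h : -N.toBlocks₁₂ = N.toBlocks₁₂ := by simpa using h12
      rw [two_smul]
      nth_rewrite 1 [← h]
      simp
    rcases smul_eq_zero.mp this with h | h
    · exact absurd h h2
    · exact h
  have e21 : N.toBlocks₂₁ = 0 := by
    have : (2 : F) • N.toBlocks₂₁ = 0 := by
      have h : N.toBlocks₂₁ = -N.toBlocks₂₁ := by simpa using h21
      rw [two_smul]
      nth_rewrite 2 [h]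
      simp
    rcases smul_eq_zero.mp this with h | h
    · exact absurd h h2
    · exact h
  refine ⟨N.toBlocks₁₁, N.toBlocks₂₂ 0 0, ?_⟩
  unfold blk
  congr 1
  conv_lhs => rw [← Matrix.fromBlocks_toBlocks N, e12, e21]
  congr 1
  ext i j
  have hi : i = 0 := Subsingleton.elim _ _
  have hj : j = 0 := Subsingleton.elim _ _
  subst hi hj
  simp

theorem blk_commute_neg_one (A : Matrix (Fin m) (Fin m) F) (a : F) :
    blk (-1) 1 * blk A a = blk A a * blk (-1) 1 := by
  rw [blk_mul, blk_mul]
  simp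

theorem blk_neg_one_eq_diagonal :
    blk (-1 : Matrix (Fin m) (Fin m) F) (1 : F) =
      Matrix.diagonal (fun i : Fin (m + 1) => if (i : ℕ) + 1 = m + 1 then (1 : F) else -1) := by
  unfold blk rho
  have h1 : Matrix.fromBlocks (-1 : Matrix (Fin m) (Fin m) F) 0 0
      ((1 : F) • (1 : Matrix (Fin 1) (Fin 1) F)) =
      Matrix.diagonal (Sum.elim (fun _ : Fin m => (-1 : F)) (fun _ : Fin 1 => (1 : F))) := by
    rw [← Matrix.fromBlocks_diagonal, one_smul]
    congr 1
    · ext i j
      by_cases h : i = j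
      · subst h; simp
      · simp [h]
  rw [h1]
  ext i j
  rw [Matrix.coe_reindexAlgEquiv, Matrix.reindex_apply, Matrix.submatrix_apply,
    Matrix.diagonal_apply, Matrix.diagonal_apply]
  by_cases hij : i = j
  · subst hij
    simp only [if_true]
    refine Fin.lastCases ?_ (fun k => ?_) i
    · rw [finSumFinEquiv_symm_last]; simp
    · have : finSumFinEquiv.symm (Fin.castSucc k) = (Sum.inl k : Fin m ⊕ Fin 1) :=
        finSumFinEquiv_symm_apply_castAdd k
      rw [this]
      have hk : ¬ ((Fin.castSucc k : Fin (m + 1)) : ℕ) + 1 = m + 1 := by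
        simp only [Fin.val_castSucc]; have := k.2; omega
      rw [if_neg hk]
      simp
  · have : finSumFinEquiv.symm i ≠ finSumFinEquiv.symm j :=
      fun h => hij (finSumFinEquiv.symm.injective h)
    simp [hij, this]

end Cfsg.Agent.Lib.Helper3.SLStd
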