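import Mathlib
import Cfsg.Agent.Lib.Helper3.SLStd1

set_option autoImplicit false

namespace Cfsg.Agent.Lib.Helper3.SLStd
open Matrix

variable {F : Type*} [Field F] {m : ℕ}

/-- the block embedding `SL_m → SL_{m+1}`, `A ↦ diag(A, 1)` -/
noncomputable def phi (F : Type*) [Field F] (m : ℕ) :
    Matrix.SpecialLinearGroup (Fin m) F →* Matrix.SpecialLinearGroup (Fin (m + 1)) F where
  toFun A := ⟨blk (A : Matrix (Fin m) (Fin m) F) 1, by
    rw [det_blk, Matrix.SpecialLinearGroup.det_coe, one_mul]⟩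
  map_one' := by
    apply Matrix.SpecialLinearGroup.ext
    intro i j
    rw [Matrix.SpecialLinearGroup.coe_mk, Matrix.SpecialLinearGroup.coe_one, Matrix.SpecialLinearGroup.coe_one, blk_one]
  map_mul' A B := by
    apply Matrix.SpecialLinearGroup.ext
    intro i j
    show (blk ((A : Matrix (Fin m) (Fin m) F) * (B : Matrix (Fin m) (Fin m) F)) 1) i j =
      (blk (A : Matrix (Fin m) (Fin m) F) 1 * blk (B : Matrix (Fin m) (Fin m) F) 1) i j
    rw [blk_mul, one_mul]

theorem phi_val (A : Matrix.SpecialLinearGroup (Fin m) F) :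
    ((phi F m A : Matrix.SpecialLinearGroup (Fin (m + 1)) F) : Matrix (Fin (m + 1)) (Fin (m + 1)) F) =
      blk (A : Matrix (Fin m) (Fin m) F) 1 := rfl

theorem phi_injective : Function.Injective (phi F m) := by
  intro A B h
  have h1 := congrArg (fun x : Matrix.SpecialLinearGroup (Fin (m + 1)) F =>
    (x : Matrix (Fin (m + 1)) (Fin (m + 1)) F)) h
  simp only [phi_val] at h1
  apply Matrix.SpecialLinearGroup.ext
  intro i j
  rw [(blk_inj h1).1]

section cent

variable (t : Matrix.SpecialLinearGroup (Fin (m + 1)) F)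
  (ht : (t : Matrix (Fin (m + 1)) (Fin (m + 1)) F) = blk (-1) 1)

include ht

theorem mem_centralizer_iff (h2 : (2 : F) ≠ 0) (g : Matrix.SpecialLinearGroup (Fin (m + 1)) F) :
    g ∈ Subgroup.centralizer ({t} : Set (Matrix.SpecialLinearGroup (Fin (m + 1)) F)) ↔
      ∃ A a, (g : Matrix (Fin (m + 1)) (Fin (m + 1)) F) = blk A a := by
  rw [Subgroup.mem_centralizer_iff]
  constructor
  · intro h
    have h1 := h t rfl
    have h3 := congrArg (fun x : Matrix.SpecialLinearGroup (Fin (m + 1)) F =>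
      (x : Matrix (Fin (m + 1)) (Fin (m + 1)) F)) h1
    simp only [Matrix.SpecialLinearGroup.coe_mul, ht] at h3
    exact exists_blk_of_commute h2 _ h3
  · rintro ⟨A, a, hg⟩ x hx
    rw [Set.mem_singleton_iff] at hx
    subst hx
    apply Matrix.SpecialLinearGroup.ext
    intro i j
    rw [Matrix.SpecialLinearGroup.coe_mul, Matrix.SpecialLinearGroup.coe_mul, ht, hg, blk_commute_neg_one A a]

/-- block data for an element of the centralizer together with its inverse -/
theorem exists_blk_pair (h2 : (2 : F) ≠ 0) (g : Matrix.SpecialLinearGroup (Fin (m + 1)) F)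
    (hg : g ∈ Subgroup.centralizer ({t} : Set (Matrix.SpecialLinearGroup (Fin (m + 1)) F))) :
    ∃ A A' : Matrix (Fin m) (Fin m) F, ∃ a a' : F,
      (g : Matrix (Fin (m + 1)) (Fin (m + 1)) F) = blk A a ∧
      ((g⁻¹ : Matrix.SpecialLinearGroup (Fin (m + 1)) F) : Matrix (Fin (m + 1)) (Fin (m + 1)) F) = blk A' a' ∧
      A * A' = 1 ∧ a * a' = 1 ∧ A' * A = 1 ∧ A.det * a = 1 := by
  obtain ⟨A, a, hA⟩ := (mem_centralizer_iff t ht h2 g).mp hg
  obtain ⟨A', a', hA'⟩ := (mem_centralizer_iff t ht h2 g⁻¹).mp (Subgroup.inv_mem _ hg)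
  have h1 : (g : Matrix (Fin (m + 1)) (Fin (m + 1)) F) *
      ((g⁻¹ : Matrix.SpecialLinearGroup (Fin (m + 1)) F) : Matrix (Fin (m + 1)) (Fin (m + 1)) F) = 1 := by
    have := congrArg (fun x : Matrix.SpecialLinearGroup (Fin (m + 1)) F =>
      (x : Matrix (Fin (m + 1)) (Fin (m + 1)) F)) (mul_inv_cancel g)
    simpa only [Matrix.SpecialLinearGroup.coe_mul, Matrix.SpecialLinearGroup.coe_one] using this
  rw [hA, hA', blk_mul, ← blk_one] at h1
  obtain ⟨h3, h4⟩ := blk_inj h1
  have hdet : A.det * a = 1 := by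
    have := Matrix.SpecialLinearGroup.det_coe g
    rw [hA, det_blk] at this
    exact this
  exact ⟨A, A', a, a', hA, hA', h3, h4, mul_eq_one_comm.mp h3, hdet⟩

theorem range_le_centralizer :
    (phi F m).range ≤ Subgroup.centralizer ({t} : Set (Matrix.SpecialLinearGroup (Fin (m + 1)) F)) := by
  rintro _ ⟨A, rfl⟩
  rw [Subgroup.mem_centralizer_iff]
  intro x hx
  rw [Set.mem_singleton_iff] at hx
  subst hx
  apply Matrix.SpecialLinearGroup.ext
  intro i j
  rw [Matrix.SpecialLinearGroup.coe_mul, Matrix.SpecialLinearGroup.coe_mul, ht, phi_val, blk_commute_neg_one]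

theorem conj_mem_range (h2 : (2 : F) ≠ 0) :
    ∀ c ∈ Subgroup.centralizer ({t} : Set (Matrix.SpecialLinearGroup (Fin (m + 1)) F)),
      ∀ x ∈ (phi F m).range, c * x * c⁻¹ ∈ (phi F m).range := by
  rintro c hc _ ⟨A, rfl⟩
  obtain ⟨B, B', b, b', hB, hB', h3, h4, h5, -⟩ := exists_blk_pair t ht h2 c hc
  have hdet : (B * (A : Matrix (Fin m) (Fin m) F) * B').det = 1 := by
    rw [Matrix.det_mul, Matrix.det_mul, Matrix.SpecialLinearGroup.det_coe, mul_one, ← Matrix.det_mul, h3,
      Matrix.det_one]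
  refine ⟨⟨B * (A : Matrix (Fin m) (Fin m) F) * B', hdet⟩, ?_⟩
  apply Matrix.SpecialLinearGroup.ext
  intro i j
  show (blk (B * (A : Matrix (Fin m) (Fin m) F) * B') 1) i j =
    ((c : Matrix (Fin (m + 1)) (Fin (m + 1)) F) * blk (A : Matrix (Fin m) (Fin m) F) 1 *
      ((c⁻¹ : Matrix.SpecialLinearGroup (Fin (m + 1)) F) : Matrix (Fin (m + 1)) (Fin (m + 1)) F)) i j
  rw [hB, hB', blk_mul, blk_mul, mul_one, h4]

theorem comm_mem_range (h2 : (2 : F) ≠ 0) :
    ∀ a ∈ Subgroup.centralizer ({t} : Set (Matrix.SpecialLinearGroup (Fin (m + 1)) F)),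
      ∀ b ∈ Subgroup.centralizer ({t} : Set (Matrix.SpecialLinearGroup (Fin (m + 1)) F)),
        a * b * a⁻¹ * b⁻¹ ∈ (phi F m).range := by
  intro a ha b hb
  obtain ⟨A, A', α, α', hA, hA', h3, h4, -, -⟩ := exists_blk_pair t ht h2 a ha
  obtain ⟨B, B', β, β', hB, hB', h5, h6, -, -⟩ := exists_blk_pair t ht h2 b hb
  have hdet : (A * B * A' * B').det = 1 := by
    rw [Matrix.det_mul, Matrix.det_mul, Matrix.det_mul]
    have e1 : A.det * A'.det = 1 := by rw [← Matrix.det_mul, h3, Matrix.det_one]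
    have e2 : B.det * B'.det = 1 := by rw [← Matrix.det_mul, h5, Matrix.det_one]
    calc A.det * B.det * A'.det * B'.det = (A.det * A'.det) * (B.det * B'.det) := by ring
      _ = 1 := by rw [e1, e2, one_mul]
  refine ⟨⟨A * B * A' * B', hdet⟩, ?_⟩
  have hs : α * β * α' * β' = 1 := by
    calc α * β * α' * β' = (α * α') * (β * β') := by ring
      _ = 1 := by rw [h4, h6, one_mul]
  apply Matrix.SpecialLinearGroup.ext
  intro i j
  show (blk (A * B * A' * B') 1) i j =
    ((a : Matrix (Fin (m + 1)) (Fin (m + 1)) F) * (b : Matrix (Fin (m + 1)) (Fin (m + 1)) F) *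
      ((a⁻¹ : Matrix.SpecialLinearGroup (Fin (m + 1)) F) : Matrix (Fin (m + 1)) (Fin (m + 1)) F) *
      ((b⁻¹ : Matrix.SpecialLinearGroup (Fin (m + 1)) F) : Matrix (Fin (m + 1)) (Fin (m + 1)) F)) i j
  rw [hA, hA', hB, hB', blk_mul, blk_mul, blk_mul, hs]

end cent

end Cfsg.Agent.Lib.Helper3.SLStd
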