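import Mathlib
import Cfsg.Agent.Lib.Helper3.SLStd2
import Cfsg.Agent.Lib.Helper2.GLInv3
import Cfsg.Agent.Lib.Helper3.Components1

set_option autoImplicit false

namespace Cfsg.Agent.Lib.Helper3.SLStd
open Matrix

variable {F : Type*} [Field F] {m : ℕ}

theorem isQuasisimple_range [Fintype F] (hm : 3 ≤ m) :
    Cfsg.IsQuasisimple ↥(phi F m).range := by
  have h1 : Cfsg.IsQuasisimple (Matrix.SpecialLinearGroup (Fin m) F) :=
    Cfsg.Agent.Lib.Helper2.GLInv.isQuasisimple_SL (by omega) (fun h => by omega)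
  exact Cfsg.Agent.Lib.Helper3.isQuasisimple_of_mulEquiv
    (MonoidHom.ofInjective (phi_injective (F := F) (m := m))) h1

section cent

variable (t : Matrix.SpecialLinearGroup (Fin (m + 1)) F)
  (ht : (t : Matrix (Fin (m + 1)) (Fin (m + 1)) F) = blk (-1) 1)

include ht

theorem t_mem_range (hm : Even m) : t ∈ (phi F m).range := by
  have hdet : (-1 : Matrix (Fin m) (Fin m) F).det = 1 := by
    rw [Matrix.det_neg, Matrix.det_one, mul_one, Fintype.card_fin, hm.neg_one_pow]
  refine ⟨⟨-1, hdet⟩, ?_⟩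
  apply Matrix.SpecialLinearGroup.ext
  intro i j
  show (blk (-1 : Matrix (Fin m) (Fin m) F) 1) i j = (t : Matrix (Fin (m + 1)) (Fin (m + 1)) F) i j
  rw [ht]

/-- elements centralizing the block `SL_m` are of the form `diag(λ, ..., λ, μ)` -/
theorem exists_scalar_of_mem_centralizer (h2 : (2 : F) ≠ 0) (hm : Even m)
    (g : Matrix.SpecialLinearGroup (Fin (m + 1)) F)
    (hg : g ∈ Subgroup.centralizer (((phi F m).range : Subgroup _) : Set (Matrix.SpecialLinearGroup (Fin (m + 1)) F))) :
    ∃ l μ : F, (g : Matrix (Fin (m + 1)) (Fin (m + 1)) F) = blk (Matrix.scalar (Fin m) l) μ := by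
  rw [Subgroup.mem_centralizer_iff] at hg
  have hgt : g ∈ Subgroup.centralizer ({t} : Set (Matrix.SpecialLinearGroup (Fin (m + 1)) F)) := by
    rw [Subgroup.mem_centralizer_iff]
    intro x hx
    rw [Set.mem_singleton_iff] at hx
    subst hx
    exact hg x (t_mem_range x ht hm)
  obtain ⟨B, b, hB⟩ := (mem_centralizer_iff t ht h2 g).mp hgt
  have hcomm : ∀ A : Matrix.SpecialLinearGroup (Fin m) F,
      (A : Matrix (Fin m) (Fin m) F) * B = B * (A : Matrix (Fin m) (Fin m) F) := by
    intro A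
    have h1 := hg (phi F m A) ⟨A, rfl⟩
    have h3 := congrArg (fun x : Matrix.SpecialLinearGroup (Fin (m + 1)) F =>
      (x : Matrix (Fin (m + 1)) (Fin (m + 1)) F)) h1
    simp only [Matrix.SpecialLinearGroup.coe_mul, phi_val, hB, blk_mul] at h3
    exact (blk_inj h3).1
  obtain ⟨r, hr⟩ := Matrix.mem_range_scalar_of_commute_transvectionStruct (M := B) (fun s => by
    have := hcomm ⟨s.toMatrix, by simp⟩
    exact this)
  exact ⟨r, b, by rw [hB, ← hr]⟩

theorem centralizer_comm (h2 : (2 : F) ≠ 0) (hm : Even m) :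
    ∀ a ∈ Subgroup.centralizer (((phi F m).range : Subgroup _) : Set (Matrix.SpecialLinearGroup (Fin (m + 1)) F)),
    ∀ b ∈ Subgroup.centralizer (((phi F m).range : Subgroup _) : Set (Matrix.SpecialLinearGroup (Fin (m + 1)) F)),
      a * b = b * a := by
  intro a ha b hb
  obtain ⟨l, μ, hA⟩ := exists_scalar_of_mem_centralizer t ht h2 hm a ha
  obtain ⟨l', μ', hB⟩ := exists_scalar_of_mem_centralizer t ht h2 hm b hb
  apply Matrix.SpecialLinearGroup.ext
  intro i j
  rw [Matrix.SpecialLinearGroup.coe_mul, Matrix.SpecialLinearGroup.coe_mul, hA, hB, blk_mul, blk_mul,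
    ← map_mul, ← map_mul, mul_comm l l', mul_comm μ μ']

theorem eq_of_involution (h2 : (2 : F) ≠ 0) (hm : Even m) (hm1 : 1 ≤ m)
    (s : Matrix.SpecialLinearGroup (Fin (m + 1)) F)
    (hs : s ∈ Subgroup.centralizer (((phi F m).range : Subgroup _) : Set (Matrix.SpecialLinearGroup (Fin (m + 1)) F)))
    (ho : orderOf s = 2) : s = t := by
  obtain ⟨l, μ, hS⟩ := exists_scalar_of_mem_centralizer t ht h2 hm s hs
  have hsq : s * s = 1 := by rw [← pow_two, ← ho]; exact pow_orderOf_eq_one s
  have hne : s ≠ 1 := by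
    intro h; rw [h, orderOf_one] at ho; omega
  have h1 := congrArg (fun x : Matrix.SpecialLinearGroup (Fin (m + 1)) F =>
    (x : Matrix (Fin (m + 1)) (Fin (m + 1)) F)) hsq
  simp only [Matrix.SpecialLinearGroup.coe_mul, Matrix.SpecialLinearGroup.coe_one, hS, blk_mul] at h1
  rw [← blk_one, ← map_mul] at h1
  obtain ⟨h3, h4⟩ := blk_inj h1
  have hl : l * l = 1 := by
    have := congrFun (congrFun h3 ⟨0, by omega⟩) ⟨0, by omega⟩
    simpa [Matrix.scalar_apply] using this
  have hdet := Matrix.SpecialLinearGroup.det_coe s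
  rw [hS, det_blk, Matrix.scalar_apply, Matrix.det_diagonal, Finset.prod_const, Finset.card_univ,
    Fintype.card_fin] at hdet
  obtain ⟨k, hk⟩ := hm
  have hlm : l ^ m = 1 := by
    rw [hk, ← two_mul, pow_mul, pow_two, hl, one_pow]
  rw [hlm, one_mul] at hdet
  have hl' : l = 1 ∨ l = -1 := by
    have : (l - 1) * (l + 1) = 0 := by ring_nf; rw [pow_two, hl]; ring
    rcases mul_eq_zero.mp this with h | h
    · left; exact sub_eq_zero.mp h
    · right; exact eq_neg_of_add_eq_zero_left h
  rcases hl' with rfl | rfl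
  · exfalso
    apply hne
    apply Matrix.SpecialLinearGroup.ext
    intro i j
    rw [hS, hdet, map_one, blk_one, Matrix.SpecialLinearGroup.coe_one]
  · apply Matrix.SpecialLinearGroup.ext
    intro i j
    rw [hS, ht, hdet, map_neg, map_one]

end cent

end Cfsg.Agent.Lib.Helper3.SLStd
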