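import Mathlib
import Cfsg.Prelude
import Cfsg.Agent.Lib.Helper4.SUClass.Defs
import Cfsg.Agent.Lib.Helper2.HermDecomp
import Cfsg.Agent.Lib.Helper2.GUIsom
import Cfsg.Agent.Lib.Helper2.WittHerm
import Cfsg.Agent.Lib.Helper2.SU3Inv2

set_option autoImplicit false
set_option linter.unusedSectionVars false
set_option linter.unusedVariables false

/-! S2481 PK-UD2 : a unitary element of the centraliser from a nondegenerate invariant subspace. -/

namespace Cfsg.Agent.Lib.Helper4.SUClass

open Polynomial Matrix Cfsg.Agent.S0278 Cfsg.Agent.Lib.Helper5.GLClass Cfsg.Agent.Lib.Helper5.SLClass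
open Cfsg.Agent.Lib.Helper5.Wall

universe u

variable {K : Type u} [Field K] [Fintype K] {q : ℕ}

namespace PkUD2

open Cfsg.Agent.Lib.Helper5.PSLCoset Cfsg.Agent.Lib.Helper2 Cfsg.Agent.Lib.Helper2.IsomDecomp
  Cfsg.Agent.Lib.Helper2.HermDecomp

section abs

variable {σ : K ≃+* K} {V : Type u} [AddCommGroup V] [Module K V] {H : V → V → K}

/-- a polynomial in `a` commutes with whatever commutes with `a` -/
theorem commute_aeval {A : Type*} [Ring A] [Algebra K A] {a x : A} (h : Commute a x) (P : K[X]) :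
    Commute (aeval a P) x := by
  induction P using Polynomial.induction_on' with
  | add p r hp hr => rw [map_add]; exact hp.add_left hr
  | monomial n c =>
    rw [aeval_monomial]
    exact (Algebra.commute_algebraMap_left c x).mul_left (h.pow_left n)

/-- adjoint pairs of endomorphisms -/
def Adj (H : V → V → K) (a a' : Module.End K V) : Prop := ∀ u v, H (a u) v = H u (a' v)

theorem Adj.one : Adj H 1 1 := fun u v => rfl

theorem Adj.mul {a a' c c' : Module.End K V} (h1 : Adj H a a') (h2 : Adj H c c') :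
    Adj H (a * c) (c' * a') := fun u v => by
  show H (a (c u)) v = H u (c' (a' v))
  rw [h1, h2]

theorem Adj.add (h : IsHerm σ H) {a a' c c' : Module.End K V} (h1 : Adj H a a')
    (h2 : Adj H c c') : Adj H (a + c) (a' + c') := fun u v => by
  show H (a u + c u) v = H u (a' v + c' v)
  rw [h.add_left, h.add_right, h1, h2]

theorem Adj.sub (h : IsHerm σ H) {a a' c c' : Module.End K V} (h1 : Adj H a a')
    (h2 : Adj H c c') : Adj H (a - c) (a' - c') := fun u v => by
  show H (a u - c u) v = H u (a' v - c' v)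
  rw [h.sub_left, h.sub_right, h1, h2]

theorem Adj.smul (h : IsHerm σ H) (hσ2 : ∀ a, σ (σ a) = a) {a a' : Module.End K V} (k : K)
    (h1 : Adj H a a') : Adj H (k • a) (σ k • a') := fun u v => by
  show H (k • a u) v = H u (σ k • a' v)
  rw [h.smul_left, h.smul_right, hσ2, h1]

theorem Adj.symm (h : IsHerm σ H) {a a' : Module.End K V} (h1 : Adj H a a') : Adj H a' a :=
  fun u v => by
  rw [h.symm v (a' u), ← h1, ← h.symm]

theorem Adj.pow {a a' : Module.End K V} (h1 : Adj H a a') (n : ℕ) : Adj H (a ^ n) (a' ^ n) := by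
  induction n with
  | zero => rw [pow_zero, pow_zero]; exact Adj.one
  | succ n ih =>
    rw [pow_succ, pow_succ']
    exact ih.mul h1

theorem Adj.aeval (h : IsHerm σ H) (hσ2 : ∀ a, σ (σ a) = a) {a a' : Module.End K V}
    (h1 : Adj H a a') (P : K[X]) :
    Adj H (aeval a P) (aeval a' (P.map (σ : K →+* K))) := by
  induction P using Polynomial.induction_on' with
  | add p r hp hr =>
    rw [map_add, Polynomial.map_add, map_add]
    exact hp.add h hr
  | monomial n c =>
    rw [Polynomial.map_monomial, aeval_monomial, aeval_monomial, ← Algebra.smul_def,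
      ← Algebra.smul_def]
    exact (h1.pow n).smul h hσ2 c

/-- the abstract construction -/
theorem abstract_main (h : IsHerm σ H) (hσ2 : ∀ a, σ (σ a) = a) [FiniteDimensional K V]
    (hnd : ∀ v, (∀ u, H u v = 0) → v = 0)
    (G Gi pW : Module.End K V) (hGGi : G * Gi = 1) (hGiG : Gi * G = 1) (hadj : Adj H G Gi)
    (hp : Adj H pW pW) (hcomm : Commute G pW) (P : K[X])
    (hdet : LinearMap.det (1 + (aeval G P - 1) * pW) ≠ 0) :
    ∃ (y : V ≃ₗ[K] V) (b' : Module.End K V), (∀ u v, H (y u) (y v) = H u v) ∧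
      (∀ v, y (G v) = G (y v)) ∧ Adj H (1 + (aeval G P - 1) * pW) b' ∧
      LinearMap.det (y : V →ₗ[K] V) * LinearMap.det b' =
        LinearMap.det (1 + (aeval G P - 1) * pW) := by
  obtain ⟨PG, hPG⟩ : ∃ PG : Module.End K V, PG = aeval G P := ⟨_, rfl⟩
  obtain ⟨PGi, hPGi⟩ : ∃ PGi : Module.End K V, PGi = aeval Gi (P.map (σ : K →+* K)) := ⟨_, rfl⟩
  rw [← hPG] at hdet ⊢
  obtain ⟨b, hb⟩ : ∃ b : Module.End K V, b = 1 + (PG - 1) * pW := ⟨_, rfl⟩
  obtain ⟨b', hb'⟩ : ∃ b' : Module.End K V, b' = 1 + pW * (PGi - 1) := ⟨_, rfl⟩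
  rw [← hb] at hdet ⊢
  have hGG : Commute G Gi := by
    show G * Gi = Gi * G
    rw [hGGi, hGiG]
  have cGi : Commute Gi pW := by
    show Gi * pW = pW * Gi
    calc Gi * pW = Gi * pW * (G * Gi) := by rw [hGGi, mul_one]
      _ = Gi * (pW * G) * Gi := by simp only [mul_assoc]
      _ = Gi * (G * pW) * Gi := by rw [hcomm.eq]
      _ = (Gi * G) * pW * Gi := by simp only [mul_assoc]
      _ = pW * Gi := by rw [hGiG, one_mul]
  have c1 : Commute PG pW := by rw [hPG]; exact commute_aeval hcomm P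
  have c2 : Commute PGi pW := by rw [hPGi]; exact commute_aeval cGi _
  have c3 : Commute PG PGi := by
    rw [hPG, hPGi]
    exact commute_aeval (commute_aeval hGG.symm _).symm P
  have c4 : Commute PG G := by rw [hPG]; exact commute_aeval (Commute.refl G) P
  have c5 : Commute PGi G := by rw [hPGi]; exact commute_aeval hGG.symm _
  have hadjb : Adj H b b' := by
    rw [hb, hb']
    refine Adj.one.add h (Adj.mul (Adj.sub h ?_ Adj.one) hp)
    rw [hPG, hPGi]
    exact hadj.aeval h hσ2 P
  have hbb' : Commute b b' := by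
    have e1 : Commute PG b' := by
      rw [hb']
      exact (Commute.one_right _).add_right (c1.mul_right (c3.sub_right (Commute.one_right _)))
    have e2 : Commute pW b' := by
      rw [hb']
      exact (Commute.one_right _).add_right
        ((Commute.refl pW).mul_right (c2.symm.sub_right (Commute.one_right _)))
    rw [hb]
    exact (Commute.one_left _).add_left ((e1.sub_left (Commute.one_left _)).mul_left e2)
  have hbG : Commute b G := by
    rw [hb]
    exact (Commute.one_left _).add_left ((c4.sub_left (Commute.one_left _)).mul_left hcomm.symm)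
  have hb'G : Commute b' G := by
    rw [hb']
    exact (Commute.one_left _).add_left (hcomm.symm.mul_left (c5.sub_left (Commute.one_left _)))
  -- invertibility
  obtain ⟨eb, heb⟩ : ∃ eb : V ≃ₗ[K] V, ∀ v, eb v = b v :=
    ⟨LinearMap.equivOfDetNeZero b hdet, fun v => rfl⟩
  have hb'inj : Function.Injective b' := by
    rw [← LinearMap.ker_eq_bot, LinearMap.ker_eq_bot']
    intro v hv
    apply hnd
    intro x
    obtain ⟨u, rfl⟩ := eb.surjective x
    rw [heb, hadjb u v, hv, h.zero_right]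
  obtain ⟨eb', heb'⟩ : ∃ eb' : V ≃ₗ[K] V, ∀ v, eb' v = b' v :=
    ⟨LinearEquiv.ofBijective b' ⟨hb'inj, LinearMap.injective_iff_surjective.mp hb'inj⟩,
      fun v => rfl⟩
  refine ⟨eb'.symm.trans eb, b', ?_, ?_, hadjb, ?_⟩
  · intro u v
    obtain ⟨u₀, rfl⟩ := eb'.surjective u
    obtain ⟨v₀, rfl⟩ := eb'.surjective v
    simp only [LinearEquiv.trans_apply, LinearEquiv.symm_apply_apply]
    rw [heb, heb, heb', heb', hadjb]
    have e1 : b' (b v₀) = b (b' v₀) := by
      have := congrArg (fun f : Module.End K V => f v₀) hbb'.eq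
      exact this.symm
    rw [e1]
    exact (hadjb.symm h u₀ (b' v₀)).symm
  · intro v
    obtain ⟨v₀, rfl⟩ := eb'.surjective v
    have e1 : G (eb' v₀) = eb' (G v₀) := by
      rw [heb', heb']
      have := congrArg (fun f : Module.End K V => f v₀) hb'G.eq
      exact this.symm
    rw [e1]
    simp only [LinearEquiv.trans_apply, LinearEquiv.symm_apply_apply]
    rw [heb, heb]
    have := congrArg (fun f : Module.End K V => f v₀) hbG.eq
    exact this
  · rw [← LinearMap.det.map_mul]
    congr 1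
    apply LinearMap.ext
    intro v
    show (eb'.symm.trans eb) (b' v) = b v
    rw [← heb' v]
    simp only [LinearEquiv.trans_apply, LinearEquiv.symm_apply_apply]
    exact heb v

end abs

section concrete

theorem herm_single_left (hK : Fintype.card K = q ^ 2) {n : ℕ} (i : Fin n) (v : Fin n → K) :
    Cfsg.hermForm n K q (Pi.single i 1) v = v i ^ q := by
  classical
  unfold Cfsg.hermForm
  rw [Finset.sum_eq_single i]
  · rw [Pi.single_eq_same, one_mul]
  · intro j _ hj
    rw [Pi.single_eq_of_ne hj, zero_mul]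
  · intro hi
    exact absurd (Finset.mem_univ i) hi

theorem herm_single_right (hK : Fintype.card K = q ^ 2) {n : ℕ} (i : Fin n) (v : Fin n → K) :
    Cfsg.hermForm n K q v (Pi.single i 1) = v i := by
  classical
  unfold Cfsg.hermForm
  rw [Finset.sum_eq_single i]
  · rw [Pi.single_eq_same, one_pow, mul_one]
  · intro j _ hj
    have hq : q ≠ 0 := by
      have := Cfsg.Agent.Lib.Helper1.HermCount.two_le_q hK
      omega
    rw [Pi.single_eq_of_ne hj, zero_pow hq, mul_zero]
  · intro hi
    exact absurd (Finset.mem_univ i) hi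

theorem herm_nondeg (hK : Fintype.card K = q ^ 2) {n : ℕ} (v : Fin n → K)
    (hv : ∀ u, Cfsg.hermForm n K q u v = 0) : v = 0 := by
  funext i
  have h1 := hv (Pi.single i 1)
  rw [herm_single_left hK] at h1
  exact pow_eq_zero_iff (by
    have := Cfsg.Agent.Lib.Helper1.HermCount.two_le_q hK
    omega) |>.mp h1

/-- the determinant of the adjoint -/
theorem det_adj (hK : Fintype.card K = q ^ 2) {n : ℕ} (b b' : Module.End K (Fin n → K))
    (hadj : Adj (Cfsg.hermForm n K q) b b') : LinearMap.det b' = LinearMap.det b ^ q := by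
  classical
  have e : LinearMap.toMatrix' b' = ct hK (LinearMap.toMatrix' b) := by
    ext i j
    have h1 := hadj (Pi.single i 1) (Pi.single j 1)
    rw [herm_single_right hK, herm_single_left hK] at h1
    simp only [ct, Matrix.transpose_apply, Matrix.map_apply, LinearMap.toMatrix'_apply]
    rw [powQ_apply, h1, ← powQ_apply hK, ← powQ_apply hK, powQ_powQ]
  rw [← LinearMap.det_toMatrix' b', ← LinearMap.det_toMatrix' b, e]
  unfold ct
  rw [Matrix.det_transpose, ← powQ_apply hK, RingHom.map_det]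
  rfl

end concrete

end PkUD2

open PkUD2 Cfsg.Agent.Lib.Helper5.PSLCoset Cfsg.Agent.Lib.Helper2 Cfsg.Agent.Lib.Helper2.IsomDecomp
  Cfsg.Agent.Lib.Helper2.HermDecomp

theorem exists_unitary_of_nondeg (hK : Fintype.card K = q ^ 2) {n : ℕ}
    (g : Matrix.GeneralLinearGroup (Fin n) K) (hg : g ∈ Cfsg.GU n K q)
    (W : Submodule K (Fin n → K)) (hW : ∀ x ∈ W, Matrix.toLin' g.val x ∈ W)
    (hnd : W ⊓ perpU q W = ⊥) (P : K[X])
    (hPW : ∀ x ∈ W, aeval (Matrix.toLin' g.val) P x ∈ W) (D : K) (hD : D ≠ 0)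
    (hdet : LinearMap.det ((aeval (Matrix.toLin' g.val) P).restrict hPW) = D) :
    ∃ y : Matrix.GeneralLinearGroup (Fin n) K, y ∈ Cfsg.GU n K q ∧ Commute y g ∧
      (Matrix.GeneralLinearGroup.det y : K) * D ^ q = D := by
  classical
  obtain ⟨σ, hσo, hσq⟩ := exists_sigma hK
  have hσ2 := WittHerm.sigma_sigma hσo
  have h : IsHerm σ (Cfsg.hermForm n K q) := GUIsom.isHerm_hermForm n q σ hσ2 hσq
  have hWnd : ∀ u ∈ W, (∀ v ∈ W, Cfsg.hermForm n K q u v = 0) → u = 0 := by
    intro u hu huv
    have h1 : u ∈ W ⊓ perpU q W := ⟨hu, fun w hw => huv w hw⟩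
    rw [hnd] at h1
    exact (Submodule.mem_bot K).mp h1
  have hd := orthoDecomp hσo h W hWnd
  obtain ⟨W', hW'⟩ : ∃ W' : Submodule K (Fin n → K), W' = orthoCompl h W := ⟨_, rfl⟩
  rw [← hW'] at hd
  have hgu : ∀ u v, Cfsg.hermForm n K q (g.val *ᵥ u) (g.val *ᵥ v) = Cfsg.hermForm n K q u v :=
    fun u v => hg u v
  obtain ⟨G, hG⟩ : ∃ G : Module.End K (Fin n → K), G = Matrix.toLin' g.val := ⟨_, rfl⟩
  obtain ⟨Gi, hGi⟩ : ∃ Gi : Module.End K (Fin n → K), Gi = Matrix.toLin' (g⁻¹).val := ⟨_, rfl⟩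
  have hGGi : G * Gi = 1 := by
    rw [hG, hGi, Module.End.mul_eq_comp, ← Matrix.toLin'_mul, Units.mul_inv, Matrix.toLin'_one]
    rfl
  have hGiG : Gi * G = 1 := by
    rw [hG, hGi, Module.End.mul_eq_comp, ← Matrix.toLin'_mul, Units.inv_mul, Matrix.toLin'_one]
    rfl
  have hGapp : ∀ v, G v = g.val *ᵥ v := by
    intro v
    rw [hG, Matrix.toLin'_apply]
  have hGGi' : ∀ v, G (Gi v) = v := fun v => by
    have := congrArg (fun f : Module.End K (Fin n → K) => f v) hGGi
    exact this
  have hGiG' : ∀ v, Gi (G v) = v := fun v => by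
    have := congrArg (fun f : Module.End K (Fin n → K) => f v) hGiG
    exact this
  have hGiso : ∀ u v, Cfsg.hermForm n K q (G u) (G v) = Cfsg.hermForm n K q u v := by
    intro u v
    rw [hGapp, hGapp]
    exact hgu u v
  have hadj : Adj (Cfsg.hermForm n K q) G Gi := by
    intro u v
    have := hGiso u (Gi v)
    rw [hGGi'] at this
    exact this
  -- the projection
  obtain ⟨pW, hpW1, hpW2⟩ : ∃ pW : Module.End K (Fin n → K), (∀ w ∈ W, pW w = w) ∧
      (∀ w' ∈ W', pW w' = 0) := by
    refine ⟨W.subtype ∘ₗ Submodule.linearProjOfIsCompl W W' hd.compl, ?_, ?_⟩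
    · intro w hw
      have := Submodule.linearProjOfIsCompl_apply_left hd.compl ⟨w, hw⟩
      show ((Submodule.linearProjOfIsCompl W W' hd.compl) w : Fin n → K) = w
      have h2 : (Submodule.linearProjOfIsCompl W W' hd.compl) w = ⟨w, hw⟩ := this
      rw [h2]
    · intro w' hw'
      have := Submodule.linearProjOfIsCompl_apply_right hd.compl ⟨w', hw'⟩
      show ((Submodule.linearProjOfIsCompl W W' hd.compl) w' : Fin n → K) = 0
      have h2 : (Submodule.linearProjOfIsCompl W W' hd.compl) w' = 0 := this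
      rw [h2]
      rfl
  have hp : Adj (Cfsg.hermForm n K q) pW pW := by
    intro u v
    obtain ⟨w₁, w₁', rfl⟩ := exists_decomp hd u
    obtain ⟨w₂, w₂', rfl⟩ := exists_decomp hd v
    have e1 : pW (↑w₁ + ↑w₁') = (w₁ : Fin n → K) := by
      rw [map_add, hpW1 _ w₁.2, hpW2 _ w₁'.2, add_zero]
    have e2 : pW (↑w₂ + ↑w₂') = (w₂ : Fin n → K) := by
      rw [map_add, hpW1 _ w₂.2, hpW2 _ w₂'.2, add_zero]
    rw [e1, e2, h.add_right, h.add_left, hd.ortho _ w₁.2 _ w₂'.2, hd.ortho' _ w₂.2 _ w₁'.2]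
  -- invariance
  have hGW : ∀ x ∈ W, G x ∈ W := by
    intro x hx
    rw [hG]
    exact hW x hx
  have hGinj : Function.Injective G := by
    intro a b hab
    have := congrArg Gi hab
    rwa [hGiG', hGiG'] at this
  have hGsurjW : ∀ w ∈ W, ∃ w₀ ∈ W, G w₀ = w := by
    have hinj : Function.Injective (G.restrict hGW) := by
      intro a b hab
      apply Subtype.ext
      apply hGinj
      have := congrArg Subtype.val hab
      exact this
    have hsurj := LinearMap.injective_iff_surjective.mp hinj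
    intro w hw
    obtain ⟨w₀, hw₀⟩ := hsurj ⟨w, hw⟩
    refine ⟨w₀, w₀.2, ?_⟩
    have := congrArg Subtype.val hw₀
    exact this
  have hGW' : ∀ x ∈ W', G x ∈ W' := by
    intro x hx
    rw [hW'] at hx ⊢
    intro w hw
    obtain ⟨w₀, hw₀, rfl⟩ := hGsurjW w hw
    rw [hGiso]
    exact hx w₀ hw₀
  have hcomm : Commute G pW := by
    apply LinearMap.ext
    intro v
    obtain ⟨w, w', rfl⟩ := exists_decomp hd v
    show G (pW (↑w + ↑w')) = pW (G (↑w + ↑w'))
    have e1 : pW (↑w + ↑w') = (w : Fin n → K) := by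
      rw [map_add, hpW1 _ w.2, hpW2 _ w'.2, add_zero]
    have e2 : pW (G (↑w + ↑w')) = G (w : Fin n → K) := by
      rw [map_add G, map_add pW, hpW1 _ (hGW _ w.2), hpW2 _ (hGW' _ w'.2), add_zero]
    rw [e1, e2]
  -- the determinant of b
  have hdet0 : LinearMap.det ((aeval (Matrix.toLin' g.val) P).restrict hPW) ≠ 0 := by
    rw [hdet]; exact hD
  have hbdet : LinearMap.det (1 + (aeval G P - 1) * pW) = D := by
    have hglue : (1 + (aeval G P - 1) * pW : Module.End K (Fin n → K)) =
        ((glue hd (LinearMap.equivOfDetNeZero _ hdet0) (LinearEquiv.refl K W') :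
          (Fin n → K) ≃ₗ[K] (Fin n → K)) : (Fin n → K) →ₗ[K] (Fin n → K)) := by
      apply LinearMap.ext
      intro v
      obtain ⟨w, w', rfl⟩ := exists_decomp hd v
      rw [LinearEquiv.coe_coe, glue_apply]
      show (↑w + ↑w' : Fin n → K) + (aeval G P (pW (↑w + ↑w')) - pW (↑w + ↑w')) = _
      rw [map_add, hpW1 _ w.2, hpW2 _ w'.2, add_zero]
      have e1 : ((LinearMap.equivOfDetNeZero _ hdet0 w : W) : Fin n → K) = aeval G P (w : Fin n → K) := by
        rw [hG]; rfl
      rw [e1]
      show _ = aeval G P (w : Fin n → K) + (w' : Fin n → K)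
      abel
    rw [hglue, ← LinearEquiv.coe_det, SU3Inv.det_glue]
    have e2 : ((LinearMap.equivOfDetNeZero _ hdet0 : W ≃ₗ[K] W) : W →ₗ[K] W) =
        (aeval (Matrix.toLin' g.val) P).restrict hPW := by
      apply LinearMap.ext
      intro x
      rfl
    have e3 : ((LinearEquiv.refl K W' : W' ≃ₗ[K] W') : W' →ₗ[K] W') = LinearMap.id := rfl
    rw [e2, e3, LinearMap.det_id, mul_one, hdet]
  obtain ⟨y, b', hyiso, hyG, hadjb, hdety⟩ := abstract_main h hσ2 (herm_nondeg hK) G Gi pW hGGi hGiG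
    hadj hp hcomm P (by rw [hbdet]; exact hD)
  rw [det_adj hK _ b' hadjb, hbdet] at hdety
  -- back to matrices
  have hY1 : LinearMap.toMatrix' (y : (Fin n → K) →ₗ[K] (Fin n → K)) *
      LinearMap.toMatrix' (y.symm : (Fin n → K) →ₗ[K] (Fin n → K)) = 1 := by
    rw [← LinearMap.toMatrix'_comp]
    have : (y : (Fin n → K) →ₗ[K] (Fin n → K)) ∘ₗ (y.symm : (Fin n → K) →ₗ[K] (Fin n → K)) =
        LinearMap.id := by
      apply LinearMap.ext
      intro v
      simp
    rw [this, LinearMap.toMatrix'_id]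
  have hY2 : LinearMap.toMatrix' (y.symm : (Fin n → K) →ₗ[K] (Fin n → K)) *
      LinearMap.toMatrix' (y : (Fin n → K) →ₗ[K] (Fin n → K)) = 1 := by
    rw [← LinearMap.toMatrix'_comp]
    have : (y.symm : (Fin n → K) →ₗ[K] (Fin n → K)) ∘ₗ (y : (Fin n → K) →ₗ[K] (Fin n → K)) =
        LinearMap.id := by
      apply LinearMap.ext
      intro v
      simp
    rw [this, LinearMap.toMatrix'_id]
  have hYv : ∀ v, LinearMap.toMatrix' (y : (Fin n → K) →ₗ[K] (Fin n → K)) *ᵥ v = y v := by
    intro v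
    rw [← Matrix.toLin'_apply, Matrix.toLin'_toMatrix']
    rfl
  refine ⟨⟨LinearMap.toMatrix' (y : (Fin n → K) →ₗ[K] (Fin n → K)),
    LinearMap.toMatrix' (y.symm : (Fin n → K) →ₗ[K] (Fin n → K)), hY1, hY2⟩, ?_, ?_, ?_⟩
  · intro u v
    show Cfsg.hermForm n K q (LinearMap.toMatrix' (y : (Fin n → K) →ₗ[K] (Fin n → K)) *ᵥ u)
      (LinearMap.toMatrix' (y : (Fin n → K) →ₗ[K] (Fin n → K)) *ᵥ v) = _
    rw [hYv, hYv]
    exact hyiso u v
  · apply Units.ext
    show LinearMap.toMatrix' (y : (Fin n → K) →ₗ[K] (Fin n → K)) * g.val =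
      g.val * LinearMap.toMatrix' (y : (Fin n → K) →ₗ[K] (Fin n → K))
    apply Matrix.toLin'.injective
    apply LinearMap.ext
    intro v
    rw [Matrix.toLin'_mul, Matrix.toLin'_mul, LinearMap.comp_apply, LinearMap.comp_apply,
      Matrix.toLin'_toMatrix', ← hG]
    exact hyG v
  · show (LinearMap.toMatrix' (y : (Fin n → K) →ₗ[K] (Fin n → K))).det * D ^ q = D
    rw [LinearMap.det_toMatrix']
    exact hdety

end Cfsg.Agent.Lib.Helper4.SUClass
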