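import Mathlib
import Cfsg.Prelude
import Cfsg.Agent.Lib.Helper4.SUClass.Defs
import Cfsg.Agent.Lib.Helper4.SUClass.TL
import Cfsg.Agent.Lib.Helper5.SLClass.UniqueGL
import Cfsg.Agent.Lib.Helper2.HermFrames
import Cfsg.Agent.Lib.Helper3.SUClass_UD2

set_option autoImplicit false
set_option linter.unusedSectionVars false
set_option linter.unusedVariables false

/-! S2481 PK-UD1 : a block `(p, e)` of a unitary matrix is detected by the Hermitian form. -/

namespace Cfsg.Agent.Lib.Helper4.SUClass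

open Polynomial Matrix Cfsg.Agent.S0278 Cfsg.Agent.Lib.Helper5.GLClass Cfsg.Agent.Lib.Helper5.SLClass
open Cfsg.Agent.Lib.Helper5.Wall

universe u

variable {K : Type u} [Field K] [Fintype K] {q : ℕ}

namespace PkUD1

open PkUD2 PkTL Cfsg.Agent.Lib.Helper5.PSLCoset Cfsg.Agent.Lib.Helper2
  Cfsg.Agent.Lib.Helper2.HermDecomp Cfsg.Agent.Lib.Helper2.HermFrames

theorem aeval_toLin' {n : ℕ} (M : Matrix (Fin n) (Fin n) K) (Q : K[X]) :
    aeval (Matrix.toLin' M) Q = Matrix.toLin' (aeval M Q) := by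
  have := Polynomial.aeval_algHom_apply
    (Matrix.toLinAlgEquiv' : Matrix (Fin n) (Fin n) K ≃ₐ[K] _).toAlgHom M Q
  exact this

/-- the conjugate transpose is the adjoint for the Hermitian form -/
theorem adj_ct (hK : Fintype.card K = q ^ 2) {n : ℕ} (N : Matrix (Fin n) (Fin n) K) :
    Adj (Cfsg.hermForm n K q) (Matrix.toLin' N) (Matrix.toLin' (ct hK N)) := by
  intro u v
  rw [Matrix.toLin'_apply, Matrix.toLin'_apply]
  unfold Cfsg.hermForm
  have h1 : ∀ j, ((ct hK N *ᵥ v) j) ^ q = ∑ i, N i j * (v i) ^ q := by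
    intro j
    rw [← powQ_apply hK, Matrix.mulVec, dotProduct, map_sum]
    apply Finset.sum_congr rfl
    intro i _
    rw [map_mul, powQ_apply, powQ_apply]
    congr 1
    show ((N i j) ^ q) ^ q = N i j
    exact pow_q_sq hK _
  simp_rw [h1, Matrix.mulVec, dotProduct, Finset.sum_mul, Finset.mul_sum]
  rw [Finset.sum_comm]
  apply Finset.sum_congr rfl
  intro j _
  apply Finset.sum_congr rfl
  intro i _
  ring

/-- the orthogonal of the kernel of `(tl Q)(g)` is the image of `Q(g)` -/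
theorem perp_ker_tl (hK : Fintype.card K = q ^ 2) {n : ℕ} (g : Matrix.GeneralLinearGroup (Fin n) K)
    (hg : g ∈ Cfsg.GU n K q) (Q : K[X]) (hQm : Q.Monic) (hQ0 : Q.coeff 0 ≠ 0) (x : Fin n → K)
    (hx : ∀ w, aeval (Matrix.toLin' g.val) (tl hK Q) w = 0 → Cfsg.hermForm n K q x w = 0) :
    ∃ z, x = aeval (Matrix.toLin' g.val) Q z := by
  classical
  obtain ⟨σ, hσo, hσq⟩ := exists_sigma hK
  have hσ2 := WittHerm.sigma_sigma hσo
  have h : IsHerm σ (Cfsg.hermForm n K q) := GUIsom.isHerm_hermForm n q σ hσ2 hσq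
  have hMMi : g.val * (g⁻¹).val = 1 := Units.mul_inv g
  have hMiM : (g⁻¹).val * g.val = 1 := Units.inv_mul g
  have hct : ct hK g.val = (g⁻¹).val := by
    have h1 := (mem_GU_iff hK g).mp hg
    calc ct hK g.val = ct hK g.val * (g.val * (g⁻¹).val) := by rw [hMMi, mul_one]
      _ = (ct hK g.val * g.val) * (g⁻¹).val := by rw [mul_assoc]
      _ = (g⁻¹).val := by rw [h1, one_mul]
  obtain ⟨X, hXdef⟩ : ∃ X : Matrix (Fin n) (Fin n) K, X = aeval g.val (tl hK Q) := ⟨_, rfl⟩
  have hX : ct hK X = (tl hK Q).coeff 0 ^ q •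
      ((g⁻¹).val ^ (tl hK Q).natDegree * aeval g.val Q) := by
    rw [hXdef, ct_aeval hK g.val (g⁻¹).val hMMi hct (tl hK Q) (tl_coeff_zero_ne hK hQ0),
      tl_tl hK hQm hQ0]
  have hadj : Adj (Cfsg.hermForm n K q) (Matrix.toLin' (ct hK X)) (Matrix.toLin' X) := by
    have := adj_ct hK (ct hK X)
    rwa [ct_ct] at this
  have hndl : ∀ v : Fin n → K, (∀ w, Cfsg.hermForm n K q v w = 0) → v = 0 := by
    intro v hv
    funext i
    have := hv (Pi.single i 1)
    rwa [herm_single_right hK] at this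
  have hker : orthoCompl h (LinearMap.range (Matrix.toLin' (ct hK X))) =
      LinearMap.ker (Matrix.toLin' X) := by
    ext v
    rw [mem_orthoCompl, LinearMap.mem_ker]
    constructor
    · intro hv
      apply herm_nondeg hK
      intro u
      rw [← hadj]
      exact hv _ ⟨u, rfl⟩
    · rintro hv w ⟨u, rfl⟩
      rw [hadj, hv, h.zero_right]
  have hx' : x ∈ orthoCompl h (LinearMap.ker (Matrix.toLin' X)) := by
    intro w hw
    have hw' : aeval (Matrix.toLin' g.val) (tl hK Q) w = 0 := by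
      rw [aeval_toLin', ← hXdef]
      exact hw
    rw [h.symm x w, hx w hw', map_zero]
  rw [← hker, orthoCompl_orthoCompl hσo h hndl] at hx'
  obtain ⟨z', hz'⟩ := hx'
  have hcomm : Commute (aeval g.val Q) ((g⁻¹).val ^ (tl hK Q).natDegree) := by
    apply Commute.pow_right
    apply commute_aeval
    show g.val * (g⁻¹).val = (g⁻¹).val * g.val
    rw [hMMi, hMiM]
  have e : ct hK X = aeval g.val Q *
      ((tl hK Q).coeff 0 ^ q • (g⁻¹).val ^ (tl hK Q).natDegree) := by
    rw [hX, ← hcomm.eq, Matrix.mul_smul]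
  refine ⟨Matrix.toLin' ((tl hK Q).coeff 0 ^ q • (g⁻¹).val ^ (tl hK Q).natDegree) z', ?_⟩
  rw [← hz', e, Matrix.toLin'_mul, LinearMap.comp_apply, aeval_toLin']

/-- rank–nullity on a subspace containing the kernel -/
theorem finrank_map_add {V : Type u} [AddCommGroup V] [Module K V] [FiniteDimensional K V]
    (f : Module.End K V) (N : Submodule K V) (hle : LinearMap.ker f ≤ N) :
    Module.finrank K (N.map f) + Module.finrank K (LinearMap.ker f) = Module.finrank K N := by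
  have h1 := LinearMap.finrank_range_add_finrank_ker (f.domRestrict N)
  rw [LinearMap.range_domRestrict, LinearMap.ker_domRestrict,
    (Submodule.comapSubtypeEquivOfLe hle).finrank_eq] at h1
  exact h1

/-- the dimension inequality -/
theorem kap_ineq {n : ℕ} (g : Matrix.GeneralLinearGroup (Fin n) K) (p : K[X]) (e : ℕ) (he : 1 ≤ e)
    (hyp : ∀ v, aeval (Matrix.toLin' g.val) (p ^ e) v = 0 →
      ∃ z, aeval (Matrix.toLin' g.val) (p ^ (e - 1)) v = aeval (Matrix.toLin' g.val) (p ^ e) z) :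
    2 * kap g p e ≤ kap g p (e - 1) + kap g p (e + 1) := by
  obtain ⟨G, hG⟩ : ∃ G : Module.End K (Fin n → K), G = Matrix.toLin' g.val := ⟨_, rfl⟩
  rw [← hG] at hyp
  unfold kap
  rw [← hG]
  have hsucc : ∀ k : ℕ, ∀ v, aeval G (p ^ (k + 1)) v = aeval G p (aeval G (p ^ k) v) := by
    intro k v
    rw [pow_succ', map_mul]
    rfl
  have hmono : ∀ k : ℕ, LinearMap.ker (aeval G (p ^ k)) ≤ LinearMap.ker (aeval G (p ^ (k + 1))) := by
    intro k v hv
    rw [LinearMap.mem_ker] at hv ⊢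
    rw [hsucc, hv, map_zero]
  have hee : e - 1 + 1 = e := by omega
  have h1 := finrank_map_add (aeval G (p ^ (e - 1))) (LinearMap.ker (aeval G (p ^ e)))
    (by have := hmono (e - 1); rwa [hee] at this)
  have h2 := finrank_map_add (aeval G (p ^ e)) (LinearMap.ker (aeval G (p ^ (e + 1)))) (hmono e)
  have hle : (LinearMap.ker (aeval G (p ^ e))).map (aeval G (p ^ (e - 1))) ≤
      (LinearMap.ker (aeval G (p ^ (e + 1)))).map (aeval G (p ^ e)) := by
    rintro x ⟨v, hv, rfl⟩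
    have hv' : aeval G (p ^ e) v = 0 := hv
    obtain ⟨z, hz⟩ := hyp v hv'
    refine ⟨z, ?_, hz.symm⟩
    show aeval G (p ^ (e + 1)) z = 0
    rw [hsucc, ← hz, ← hsucc, hee, hv']
  have h3 := Submodule.finrank_mono hle
  omega

end PkUD1

open PkUD1 PkUD2 PkTL Cfsg.Agent.Lib.Helper5.PSLCoset Cfsg.Agent.Lib.Helper2
  Cfsg.Agent.Lib.Helper2.HermDecomp

theorem exists_pair (hK : Fintype.card K = q ^ 2) {n : ℕ} (g : Matrix.GeneralLinearGroup (Fin n) K)
    (hg : g ∈ Cfsg.GU n K q) {m : Multiset (K[X] × ℕ)} (hm : IsType g m) (p : K[X]) (e : ℕ)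
    (hpe : (p, e) ∈ m) :
    ∃ v w : Fin n → K, aeval (Matrix.toLin' g.val) (p ^ e) v = 0 ∧
      aeval (Matrix.toLin' g.val) ((tl hK p) ^ e) w = 0 ∧
      Cfsg.hermForm n K q (aeval (Matrix.toLin' g.val) (p ^ (e - 1)) v) w ≠ 0 := by
  classical
  obtain ⟨hgood, h0, _⟩ := hm.facts
  obtain ⟨hirr, hmon, he1, _⟩ := hgood (p, e) hpe
  have hp0 : p.coeff 0 ≠ 0 := h0 (p, e) hpe
  by_contra hcon
  have hcon' : ∀ v w : Fin n → K, aeval (Matrix.toLin' g.val) (p ^ e) v = 0 →
      aeval (Matrix.toLin' g.val) ((tl hK p) ^ e) w = 0 →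
      Cfsg.hermForm n K q (aeval (Matrix.toLin' g.val) (p ^ (e - 1)) v) w = 0 := by
    intro v w hv hw
    by_contra hne
    exact hcon ⟨v, w, hv, hw, hne⟩
  have hyp : ∀ v, aeval (Matrix.toLin' g.val) (p ^ e) v = 0 →
      ∃ z, aeval (Matrix.toLin' g.val) (p ^ (e - 1)) v = aeval (Matrix.toLin' g.val) (p ^ e) z := by
    intro v hv
    apply perp_ker_tl hK g hg (p ^ e) (hmon.pow e) (pow_coeff_zero_ne hp0 e)
    intro w hw
    rw [tl_pow hK hp0] at hw
    exact hcon' v w hv hw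
  have h1 := kap_ineq g p e he1 hyp
  have h2 := isType_count hm p hirr hmon e he1
  have h3 : 1 ≤ Multiset.count (p, e) m := Multiset.one_le_count_iff_mem.mpr hpe
  have h4 : 1 ≤ p.natDegree := hirr.natDegree_pos
  have h5 : 1 ≤ Multiset.count (p, e) m * p.natDegree := Nat.mul_le_mul h3 h4
  omega

theorem exists_self (hK : Fintype.card K = q ^ 2) {n : ℕ} (g : Matrix.GeneralLinearGroup (Fin n) K)
    (hg : g ∈ Cfsg.GU n K q) {m : Multiset (K[X] × ℕ)} (hm : IsType g m) (p : K[X]) (e : ℕ)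
    (hpe : (p, e) ∈ m) (hself : tl hK p = p) :
    ∃ v : Fin n → K, aeval (Matrix.toLin' g.val) (p ^ e) v = 0 ∧
      Cfsg.hermForm n K q (aeval (Matrix.toLin' g.val) (p ^ (e - 1)) v) v ≠ 0 := by
  classical
  obtain ⟨σ, hσo, hσq⟩ := exists_sigma hK
  have hσ2 := WittHerm.sigma_sigma hσo
  have h : IsHerm σ (Cfsg.hermForm n K q) := GUIsom.isHerm_hermForm n q σ hσ2 hσq
  obtain ⟨v, w, hv, hw, hvw⟩ := exists_pair hK g hg hm p e hpe
  rw [hself] at hw
  by_contra hcon
  have hcon' : ∀ u : Fin n → K, aeval (Matrix.toLin' g.val) (p ^ e) u = 0 →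
      Cfsg.hermForm n K q (aeval (Matrix.toLin' g.val) (p ^ (e - 1)) u) u = 0 := by
    intro u hu
    by_contra hne
    exact hcon ⟨u, hu, hne⟩
  obtain ⟨A, hA⟩ : ∃ A : Module.End K (Fin n → K), A = aeval (Matrix.toLin' g.val) (p ^ e) :=
    ⟨_, rfl⟩
  obtain ⟨π, hπ⟩ : ∃ π : Module.End K (Fin n → K), π = aeval (Matrix.toLin' g.val) (p ^ (e - 1)) :=
    ⟨_, rfl⟩
  rw [← hA] at hv hw hcon'
  rw [← hπ] at hvw hcon'
  have key : ∀ θ : K, θ ^ q * Cfsg.hermForm n K q (π v) w + θ * Cfsg.hermForm n K q (π w) v = 0 := by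
    intro θ
    have h1 := hcon' (v + θ • w) (by rw [map_add, map_smul, hv, hw, smul_zero, add_zero])
    rw [map_add, map_smul, h.add_left, h.add_right, h.add_right, h.smul_left, h.smul_left,
      h.smul_right, h.smul_right, hcon' v hv, hcon' w hw, hσq] at h1
    linear_combination h1
  obtain ⟨θ, hθ⟩ := exists_pow_ne hK
  have k1 := key 1
  have k2 := key θ
  rw [one_pow, one_mul, one_mul] at k1
  have k3 : (θ ^ q - θ) * Cfsg.hermForm n K q (π v) w = 0 := by
    linear_combination k2 - θ * k1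
  rcases mul_eq_zero.mp k3 with h6 | h6
  · exact hθ (sub_eq_zero.mp h6)
  · exact hvw h6

end Cfsg.Agent.Lib.Helper4.SUClass
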