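import Mathlib
import Cfsg.Prelude.Def_GeometricClasses
import Cfsg.Agent.Lib.Helper7.SubfDefs
import Cfsg.Agent.Lib.Helper7.SubfDefs2

/-! # S5639, PK-N: the group `N = F^* · GL_n(F₀)` -/

set_option autoImplicit false

namespace Cfsg.Agent.Lib.Helper7.Subf

open Matrix

variable {F : Type*} [Field F] {n : ℕ}

/-- a rational matrix comes from a matrix over the subfield -/
theorem ratMat_exists_map {F₀ : Subfield F} {A : Matrix (Fin n) (Fin n) F} (hA : RatMat F₀ A) :
    ∃ B : Matrix (Fin n) (Fin n) F₀, B.map (F₀.subtype : F₀ →+* F) = A :=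
  ⟨fun i j => ⟨A i j, hA i j⟩, by ext i j; rfl⟩

theorem ratMat_map (F₀ : Subfield F) (B : Matrix (Fin n) (Fin n) F₀) :
    RatMat F₀ (B.map (F₀.subtype : F₀ →+* F)) := fun i j => by
  simp only [Matrix.map_apply]
  exact (B i j).2

theorem RatMat.smul {F₀ : Subfield F} {c : F} (hc : c ∈ F₀) {A : Matrix (Fin n) (Fin n) F}
    (hA : RatMat F₀ A) : RatMat F₀ (c • A) := fun i j => by
  rw [Matrix.smul_apply]
  exact F₀.mul_mem hc (hA i j)

theorem RatMat.det {F₀ : Subfield F} {A : Matrix (Fin n) (Fin n) F} (hA : RatMat F₀ A) :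
    A.det ∈ F₀ := by
  obtain ⟨B, rfl⟩ := ratMat_exists_map hA
  have h := (F₀.subtype : F₀ →+* F).map_det B
  rw [RingHom.mapMatrix_apply] at h
  rw [← h]
  exact (B.det).2

theorem RatMat.adjugate {F₀ : Subfield F} {A : Matrix (Fin n) (Fin n) F} (hA : RatMat F₀ A) :
    RatMat F₀ A.adjugate := by
  obtain ⟨B, rfl⟩ := ratMat_exists_map hA
  have h := (F₀.subtype : F₀ →+* F).map_adjugate B
  rw [RingHom.mapMatrix_apply, RingHom.mapMatrix_apply] at h
  rw [← h]
  exact ratMat_map F₀ _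

theorem RatMat.inv {F₀ : Subfield F} {A : Matrix (Fin n) (Fin n) F} (hA : RatMat F₀ A) :
    RatMat F₀ A⁻¹ := by
  rw [Matrix.inv_def]
  apply RatMat.smul _ hA.adjugate
  rw [Ring.inverse_eq_inv']
  exact F₀.inv_mem hA.det

theorem InN.mul {F₀ : Subfield F} {A B : Matrix (Fin n) (Fin n) F} (hA : InN F₀ A) (hB : InN F₀ B) :
    InN F₀ (A * B) := by
  obtain ⟨c, hc, hcA⟩ := hA
  obtain ⟨d, hd, hdB⟩ := hB
  refine ⟨c * d, mul_ne_zero hc hd, ?_⟩
  have e : (c * d) • (A * B) = (c • A) * (d • B) := by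
    rw [smul_mul_smul_comm]
  rw [e]
  exact hcA.mul hdB

theorem InN.one (F₀ : Subfield F) : InN F₀ (1 : Matrix (Fin n) (Fin n) F) :=
  ⟨1, one_ne_zero, by rw [one_smul]; exact RatMat.one F₀⟩

theorem inN_inv (F₀ : Subfield F) (g : GL (Fin n) F) (h : InN F₀ (g : Matrix (Fin n) (Fin n) F)) :
    InN F₀ ((g⁻¹ : GL (Fin n) F) : Matrix (Fin n) (Fin n) F) := by
  obtain ⟨c, hc, hcA⟩ := h
  refine ⟨c⁻¹, inv_ne_zero hc, ?_⟩
  have h1 : (g : Matrix (Fin n) (Fin n) F) * ((g⁻¹ : GL (Fin n) F) : Matrix (Fin n) (Fin n) F) = 1 := by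
    rw [← Units.val_mul, mul_inv_cancel, Units.val_one]
  have h2 : (c • (g : Matrix (Fin n) (Fin n) F)) *
      (c⁻¹ • ((g⁻¹ : GL (Fin n) F) : Matrix (Fin n) (Fin n) F)) = 1 := by
    rw [smul_mul_smul_comm, h1, mul_inv_cancel₀ hc, one_smul]
  rw [← Matrix.inv_eq_right_inv h2]
  exact hcA.inv

/-- the elements of `GL_n(F)` whose matrix is in `N`, as a subgroup -/
def nnSubgroup (F₀ : Subfield F) : Subgroup (GL (Fin n) F) where
  carrier := {g | InN F₀ (g : Matrix (Fin n) (Fin n) F)}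
  mul_mem' := fun {a b} ha hb => by
    show InN F₀ ((a * b : GL (Fin n) F) : Matrix (Fin n) (Fin n) F)
    rw [Units.val_mul]
    exact InN.mul ha hb
  one_mem' := by
    show InN F₀ ((1 : GL (Fin n) F) : Matrix (Fin n) (Fin n) F)
    rw [Units.val_one]
    exact InN.one F₀
  inv_mem' := fun {a} ha => inN_inv F₀ a ha

theorem mem_nnSubgroup (F₀ : Subfield F) (g : GL (Fin n) F) :
    g ∈ nnSubgroup (n := n) F₀ ↔ InN F₀ (g : Matrix (Fin n) (Fin n) F) := Iff.rfl

theorem inN_iff_mem (F₀ : Subfield F) (g : GL (Fin n) F) :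
    InN F₀ (g : Matrix (Fin n) (Fin n) F) ↔
      g ∈ (Matrix.GeneralLinearGroup.map (F₀.subtype : F₀ →+* F)).range ⊔ Cfsg.Geo.scalars (Fin n) F := by
  constructor
  · rintro ⟨c, hc, hcA⟩
    obtain ⟨B, hB⟩ := ratMat_exists_map hcA
    -- `B` is invertible
    have hdet : (c • (g : Matrix (Fin n) (Fin n) F)).det ≠ 0 := by
      rw [Matrix.det_smul]
      apply mul_ne_zero (pow_ne_zero _ hc)
      have := g.isUnit.map (Matrix.detMonoidHom (n := Fin n) (R := F))
      have hu : IsUnit (g : Matrix (Fin n) (Fin n) F).det := by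
        simpa using (Matrix.isUnit_iff_isUnit_det _).mp g.isUnit
      exact hu.ne_zero
    have hBdet : B.det ≠ 0 := by
      intro h0
      apply hdet
      rw [← hB]
      have h := (F₀.subtype : F₀ →+* F).map_det B
      rw [RingHom.mapMatrix_apply] at h
      rw [← h, h0, map_zero]
    let b : GL (Fin n) F₀ := Matrix.GeneralLinearGroup.mkOfDetNeZero B hBdet
    have hb : ((Matrix.GeneralLinearGroup.map (F₀.subtype : F₀ →+* F) b : GL (Fin n) F) :
        Matrix (Fin n) (Fin n) F) = c • (g : Matrix (Fin n) (Fin n) F) := by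
      rw [← hB]
      ext i j
      simp [b, Matrix.GeneralLinearGroup.mkOfDetNeZero]
    -- the scalar `c⁻¹`
    let s : GL (Fin n) F := Units.map (Matrix.scalar (Fin n) : F →+* Matrix (Fin n) (Fin n) F).toMonoidHom
      (Units.mk0 c⁻¹ (inv_ne_zero hc))
    have hs : (s : Matrix (Fin n) (Fin n) F) = c⁻¹ • (1 : Matrix (Fin n) (Fin n) F) := by
      simp [s, Matrix.smul_one_eq_diagonal]
    have hg : g = Matrix.GeneralLinearGroup.map (F₀.subtype : F₀ →+* F) b * s := by
      apply Units.ext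
      rw [Units.val_mul, hb, hs, smul_mul_smul_comm, mul_one, mul_inv_cancel₀ hc, one_smul]
    rw [hg]
    exact Subgroup.mul_mem_sup (MonoidHom.mem_range.mpr ⟨b, rfl⟩) (MonoidHom.mem_range.mpr ⟨_, rfl⟩)
  · intro hg
    have hle : (Matrix.GeneralLinearGroup.map (F₀.subtype : F₀ →+* F)).range ⊔
        Cfsg.Geo.scalars (Fin n) F ≤ nnSubgroup (n := n) F₀ := by
      apply sup_le
      · rintro _ ⟨b, rfl⟩
        refine ⟨1, one_ne_zero, ?_⟩
        rw [one_smul]
        intro i j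
        rw [Matrix.GeneralLinearGroup.map_apply]
        exact (b i j).2
      · intro x hx
        obtain ⟨c, hc⟩ := (Cfsg.Geo.mem_scalars_iff x).mp hx
        refine ⟨(c : F)⁻¹, inv_ne_zero c.ne_zero, ?_⟩
        rw [hc, smul_smul, inv_mul_cancel₀ c.ne_zero, one_smul]
        exact RatMat.one F₀
    exact hle hg

theorem det_tvm (a : F) (v φ : Fin n → F) : (tvm a v φ).det = 1 + a * (φ ⬝ᵥ v) := by
  have h : tvm a v φ = 1 + Matrix.replicateCol (Fin 1) (a • v) * Matrix.replicateRow (Fin 1) φ := by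
    rw [tvm]
    congr 1
    ext i j
    simp [Matrix.mul_apply, vecMulVec_apply, mul_assoc]
  have h2 := Matrix.det_one_add_replicateCol_mul_replicateRow (ι := Fin 1) (a • v) φ
  rw [h]
  refine Eq.trans ?_ (h2.trans (by rw [dotProduct_smul, smul_eq_mul]))
  congr 2

/-- the rational transvections lie in `GL_n(F₀)` (image) and in `SL_n(F)` -/
theorem ratTv_mem (F₀ : Subfield F) (v φ : Fin n → F) (hv : Rat F₀ v) (hφ : Rat F₀ φ) (h : φ ⬝ᵥ v = 0) :
    ∃ g : GL (Fin n) F, (g : Matrix (Fin n) (Fin n) F) = tvm 1 v φ ∧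
      g ∈ (Matrix.GeneralLinearGroup.map (F₀.subtype : F₀ →+* F)).range ∧
      g ∈ Cfsg.Geo.specialLinear (Fin n) F := by
  have hrat : RatMat F₀ (tvm 1 v φ) := ratMat_tvm F₀.one_mem hv hφ
  obtain ⟨B, hB⟩ := ratMat_exists_map hrat
  have hd : (tvm 1 v φ).det = 1 := by rw [det_tvm, h, mul_zero, add_zero]
  have hBdet : B.det = 1 := by
    have h' := (F₀.subtype : F₀ →+* F).map_det B
    rw [RingHom.mapMatrix_apply, hB, hd] at h'
    apply Subtype.ext
    simpa using h'
  let b : GL (Fin n) F₀ := Matrix.GeneralLinearGroup.mkOfDetNeZero B (by rw [hBdet]; exact one_ne_zero)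
  refine ⟨Matrix.GeneralLinearGroup.map (F₀.subtype : F₀ →+* F) b, ?_, MonoidHom.mem_range.mpr ⟨b, rfl⟩, ?_⟩
  · rw [← hB]
    ext i j
    simp [b, Matrix.GeneralLinearGroup.mkOfDetNeZero]
  · have hm : ((Matrix.GeneralLinearGroup.map (F₀.subtype : F₀ →+* F) b : GL (Fin n) F) :
        Matrix (Fin n) (Fin n) F) = tvm 1 v φ := by
      rw [← hB]
      ext i j
      simp [b, Matrix.GeneralLinearGroup.mkOfDetNeZero]
    show Matrix.GeneralLinearGroup.det _ = 1
    apply Units.ext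
    rw [Matrix.GeneralLinearGroup.val_det_apply, hm, hd, Units.val_one]

/-- a transvection with a non-rational coefficient is in `SL_n(F)` but not in `N` -/
theorem exists_sl_not_inN (hn : 2 ≤ n) (F₀ : Subfield F) (a : F) (ha : a ∉ F₀) :
    ∃ g : GL (Fin n) F, g ∈ Cfsg.Geo.specialLinear (Fin n) F ∧ ¬ InN F₀ (g : Matrix (Fin n) (Fin n) F) := by
  let i0 : Fin n := ⟨0, by omega⟩
  let i1 : Fin n := ⟨1, by omega⟩
  have h01 : i0 ≠ i1 := by
    intro h
    have := congrArg Fin.val h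
    simp [i0, i1] at this
  let v : Fin n → F := Pi.single i0 1
  let φ : Fin n → F := Pi.single i1 1
  have hinc : φ ⬝ᵥ v = 0 := by
    simp [v, φ, h01.symm]
  have hd : (tvm a v φ).det = 1 := by rw [det_tvm, hinc, mul_zero, add_zero]
  let g : GL (Fin n) F := Matrix.GeneralLinearGroup.mkOfDetNeZero (tvm a v φ) (by rw [hd]; exact one_ne_zero)
  have hg : (g : Matrix (Fin n) (Fin n) F) = tvm a v φ := rfl
  refine ⟨g, ?_, ?_⟩
  · show Matrix.GeneralLinearGroup.det _ = 1
    apply Units.ext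
    rw [Matrix.GeneralLinearGroup.val_det_apply, hg, hd, Units.val_one]
  · rintro ⟨c, hc, hcA⟩
    rw [hg] at hcA
    have h00 := hcA i0 i0
    have h01' := hcA i0 i1
    simp only [tvm, Matrix.smul_apply, Matrix.add_apply, vecMulVec_apply, smul_eq_mul, v, φ,
      Matrix.one_apply_eq, Pi.single_eq_same, Pi.single_eq_of_ne h01, mul_zero, add_zero, mul_one,
      Matrix.one_apply_ne h01, zero_add] at h00 h01'
    apply ha
    have : a = c⁻¹ * (c * a) := by field_simp
    rw [this]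
    exact F₀.mul_mem (F₀.inv_mem h00) h01'

end Cfsg.Agent.Lib.Helper7.Subf
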