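import Mathlib
import Cfsg.Prelude.Def_Involutions
import Cfsg.Agent.Lib.Helper5.SUf.Defs2
import Cfsg.Agent.Lib.Helper3.Subf_E
import Cfsg.Agent.Lib.Helper3.StrEmb
import Cfsg.Agent.Lib.Helper9.SUf_Geo1

set_option autoImplicit false
set_option linter.unusedSectionVars false
set_option linter.unusedVariables false

/-!
# S5658, package PK-EVEN: characteristic two (`case_two_even`)

`H = N ∩ M` is strongly embedded in `M` unless `M ≤ N`; then the two rational involutions `tu 1 v`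
(`- 1` of rank one) and `tu 1 v * tu 1 v'` (`- 1` of rank two) of `H` would be conjugate in `M`.
-/

namespace Cfsg.Agent.Lib.Helper5.SUf

open Matrix Cfsg.Agent.Lib.Helper7.Subf

variable {F : Type*} [Field F] {n : ℕ} {F₀ : Subfield F} {σ : F ≃+* F}
  {J : Matrix (Fin n) (Fin n) F}
variable {M : Subgroup (GL (Fin n) F)}

namespace PkEven

/-- characteristic two: the image of `Y - 1` is totally isotropic for an isometric involution `Y` -/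
theorem bf_invol (h2 : (2 : F) = 0) {Y : Matrix (Fin n) (Fin n) F} (hY : IsoU σ J Y) (hYY : Y * Y = 1)
    (x y : Fin n → F) : bf σ J ((Y - 1) *ᵥ x) ((Y - 1) *ᵥ y) = 0 := by
  rw [Matrix.sub_mulVec, Matrix.sub_mulVec, Matrix.one_mulVec, Matrix.one_mulVec, bf_sub_left, bf_sub_right,
    bf_sub_right, hY x y]
  have e : bf σ J x (Y *ᵥ y) = bf σ J (Y *ᵥ x) y := by
    have := hY x (Y *ᵥ y)
    rw [Matrix.mulVec_mulVec, hYY, Matrix.one_mulVec] at this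
    exact this.symm
  rw [e]
  linear_combination (bf σ J x y - bf σ J (Y *ᵥ x) y) * h2

theorem exists_entry_ne {A : Matrix (Fin n) (Fin n) F} (hA : A ≠ 0) : ∃ i j, A i j ≠ 0 := by
  by_contra hcon
  simp only [not_exists, not_not] at hcon
  exact hA (by ext i j; exact hcon i j)

theorem ratMat_sub_one {Y : Matrix (Fin n) (Fin n) F} (hY : RatMat F₀ Y) : RatMat F₀ (Y - 1) :=
  fun a b => F₀.sub_mem (hY a b) (RatMat.one F₀ a b)

/-- the key step: `g ∈ M` outside `N` cannot conjugate a rational involution of `M` to a rational matrix -/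
theorem even_star_u (h2 : (2 : F) = 0) (hNK : NKU F₀ σ J M)
    (g : GL (Fin n) F) (hg : g ∈ M) (hgN : ¬ InN F₀ (g : Matrix (Fin n) (Fin n) F))
    (X Y : Matrix (Fin n) (Fin n) F) (hX : RatMat F₀ X) (hY : RatMat F₀ Y)
    (hXi : IsoU σ J X) (hXX : X * X = 1) (hYi : IsoU σ J Y) (hYY : Y * Y = 1)
    (hY1 : Y ≠ 1) (hc : (g : Matrix (Fin n) (Fin n) F) * Y = X * (g : Matrix (Fin n) (Fin n) F)) :
    False := by
  have hX1 : X ≠ 1 := by
    intro h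
    rw [h, one_mul] at hc
    apply hY1
    have hinv : ((g⁻¹ : GL (Fin n) F) : Matrix (Fin n) (Fin n) F) * (g : Matrix (Fin n) (Fin n) F) = 1 := by
      rw [← Units.val_mul, inv_mul_cancel, Units.val_one]
    calc Y = (((g⁻¹ : GL (Fin n) F) : Matrix (Fin n) (Fin n) F) * (g : Matrix (Fin n) (Fin n) F)) * Y := by
          rw [hinv, one_mul]
      _ = 1 := by rw [mul_assoc, hc, hinv]
  obtain ⟨i, j, hij⟩ := exists_entry_ne (sub_ne_zero.mpr hY1)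
  obtain ⟨k, l, hkl⟩ := exists_entry_ne (sub_ne_zero.mpr hX1)
  have hv : Rat F₀ ((Y - 1) *ᵥ (Pi.single j (1 : F) : Fin n → F)) :=
    (ratMat_sub_one hY).mulVec (Rat.single F₀ j F₀.one_mem)
  have hu : Rat F₀ ((X - 1) *ᵥ (Pi.single l (1 : F) : Fin n → F)) :=
    (ratMat_sub_one hX).mulVec (Rat.single F₀ l F₀.one_mem)
  have hv0 : (Y - 1) *ᵥ (Pi.single j (1 : F) : Fin n → F) ≠ 0 := by
    intro h
    apply hij
    have := congrFun h i
    rwa [Matrix.mulVec_single_one] at this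
  have hu0 : (X - 1) *ᵥ (Pi.single l (1 : F) : Fin n → F) ≠ 0 := by
    intro h
    apply hkl
    have := congrFun h k
    rwa [Matrix.mulVec_single_one] at this
  have hgv : (g : Matrix (Fin n) (Fin n) F) *ᵥ ((Y - 1) *ᵥ (Pi.single j (1 : F) : Fin n → F)) =
      (X - 1) *ᵥ ((g : Matrix (Fin n) (Fin n) F) *ᵥ (Pi.single j (1 : F) : Fin n → F)) := by
    rw [Matrix.mulVec_mulVec, Matrix.mulVec_mulVec, mul_sub, sub_mul, hc, mul_one, one_mul]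
  refine hNK g hg hgN _ _ hv hu hv0 hu0 (bf_invol h2 hYi hYY _ _) (bf_invol h2 hXi hXX _ _) ?_
  rw [hgv]
  exact bf_invol h2 hXi hXX _ _

open PkE in
/-- `N ∩ M` is strongly embedded in `M` when `M` is not contained in `N` (characteristic two) -/
theorem even_stronglyEmbedded_u [Finite F] (h2 : (2 : F) = 0) (hn : 0 < n)
    (hM : MIso σ J M) (hNK : NKU F₀ σ J M)
    (g₀ : ↥M) (hg₀ : ¬ InN F₀ (matOf M g₀))
    (s : ↥M) (hs : orderOf s = 2) (hsN : InN F₀ (matOf M s)) :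
    Cfsg.IsStronglyEmbedded ((nnSubgroup (n := n) F₀).subgroupOf M) := by
  refine ⟨?_, ?_, ?_⟩
  · intro htop
    have h : g₀ ∈ (nnSubgroup (n := n) F₀).subgroupOf M := by rw [htop]; exact Subgroup.mem_top _
    exact hg₀ (Subgroup.mem_subgroupOf.mp h)
  · rw [even_iff_two_dvd]
    have hsH : s ∈ (nnSubgroup (n := n) F₀).subgroupOf M := Subgroup.mem_subgroupOf.mpr hsN
    have h : orderOf (⟨s, hsH⟩ : ↥((nnSubgroup (n := n) F₀).subgroupOf M)) = 2 := by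
      rw [← hs]
      exact Subgroup.orderOf_mk _ _
    rw [← h]
    exact orderOf_dvd_natCard _
  · intro g hg
    by_contra hodd
    rw [Nat.not_odd_iff_even, even_iff_two_dvd] at hodd
    have : Fact (Nat.Prime 2) := ⟨Nat.prime_two⟩
    obtain ⟨x, hx⟩ := exists_prime_orderOf_dvd_card' 2 hodd
    have hxmem := x.2
    rw [Subgroup.mem_inf] at hxmem
    obtain ⟨hxH, hxmap⟩ := hxmem
    rw [Subgroup.mem_map] at hxmap
    obtain ⟨y, hyH, hyx⟩ := hxmap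
    have hx2 : orderOf (x : ↥M) = 2 := by rw [Subgroup.orderOf_coe]; exact hx
    have hyx' : g * y * g⁻¹ = (x : ↥M) := hyx
    have hy : y = g⁻¹ * (x : ↥M) * g := by rw [← hyx']; group
    have hy2 : orderOf y = 2 := by
      rw [hy, Cfsg.Agent.Lib.Helper3.StrEmb.orderOf_conj_inv]; exact hx2
    have hc : g * y = (x : ↥M) * g := by rw [← hyx']; group
    have hXr : RatMat F₀ (matOf M (x : ↥M)) :=
      ratMat_of_inN_of_mul_self h2 hn F₀ (Subgroup.mem_subgroupOf.mp hxH) (matOf_mul_self_of_orderOf M hx2)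
    have hYr : RatMat F₀ (matOf M y) :=
      ratMat_of_inN_of_mul_self h2 hn F₀ (Subgroup.mem_subgroupOf.mp hyH) (matOf_mul_self_of_orderOf M hy2)
    exact even_star_u h2 hNK (g : GL (Fin n) F) g.2
      (fun h => hg (Subgroup.mem_subgroupOf.mpr h)) _ _ hXr hYr
      (hM _ (x : ↥M).2).1 (matOf_mul_self_of_orderOf M hx2)
      (hM _ y.2).1 (matOf_mul_self_of_orderOf M hy2)
      (matOf_ne_one_of_orderOf M hy2) (congrArg (matOf M) hc)

/-- two orthogonal rational hyperbolic pairs -/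
theorem exists_frame2 [Finite F] (hn : 13 ≤ n) (hU : USet F₀ σ J) :
    ∃ e₀ f₀ e₁ f₁ : Fin n → F, Rat F₀ e₀ ∧ Rat F₀ e₁ ∧ bf σ J e₀ e₀ = 0 ∧ bf σ J e₁ e₁ = 0 ∧
      bf σ J e₁ e₀ = 0 ∧ bf σ J f₀ e₀ = 1 ∧ bf σ J f₀ e₁ = 0 ∧ bf σ J f₁ e₀ = 0 ∧ bf σ J f₁ e₁ = 1 := by
  obtain ⟨e₀, f₀, he₀, hf₀, he₀e₀, -, he₀f₀, -⟩ := exists_hyp_perp hn hU (fun _ => 0) (fun _ => Rat.zero F₀)
  obtain ⟨e₁, f₁, he₁, hf₁, he₁e₁, -, he₁f₁, hperp⟩ :=
    exists_hyp_perp hn hU (fun i : Fin 5 => if i = 0 then e₀ else f₀)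
      (fun i => by by_cases h : i = 0 <;> simp [h, he₀, hf₀])
  have h0 := hperp 0
  have h1 := hperp 1
  simp only [if_true] at h0
  rw [if_neg (by decide : ¬ (1 : Fin 5) = 0)] at h1
  refine ⟨e₀, f₀, e₁, f₁, he₀, he₁, he₀e₀, he₁e₁, h0.1, ?_, ?_, h0.2, ?_⟩
  · rw [hU.bf_symm e₀ f₀, he₀f₀, map_one]
  · exact hU.bf_eq_zero_symm h1.1
  · rw [hU.bf_symm e₁ f₁, he₁f₁, map_one]

end PkEven

open PkE PkEven in
theorem case_two_even [Fintype F] (h2 : (2 : F) = 0) (hn : 13 ≤ n) (hU : USet F₀ σ J)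
    (hM : MIso σ J M) (hN : HasNIso F₀ σ J M) (hNK : NKU F₀ σ J M) :
    ∀ g ∈ M, InN F₀ (g : Matrix (Fin n) (Fin n) F) := by
  by_contra hcon
  simp only [not_forall] at hcon
  obtain ⟨g₀, hg₀M, hg₀N⟩ := hcon
  obtain ⟨e₀, f₀, e₁, f₁, he₀, he₁, h00, h11, h10, hf00, hf01, hf10, hf11⟩ := exists_frame2 hn hU
  have hσ1 : σ (1 : F) = -1 := by
    rw [map_one]
    linear_combination h2
  have hR := hN.hasRatIso
  obtain ⟨gs, hgsM, hgs⟩ := hR.mm_tu hU F₀.one_mem hσ1 he₀ h00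
  obtain ⟨gs', hgs'M, hgs'⟩ := hR.mm_tu hU F₀.one_mem hσ1 he₁ h11
  have hS : matOf M ⟨gs, hgsM⟩ = tu σ J 1 e₀ := hgs
  have hS' : matOf M ⟨gs', hgs'M⟩ = tu σ J 1 e₁ := hgs'
  have hTm : matOf M (⟨gs, hgsM⟩ * ⟨gs', hgs'M⟩) = tu σ J 1 e₀ * tu σ J 1 e₁ := by
    rw [matOf_mul, hS, hS']
  -- `s` is an involution
  have hSS : matOf M ⟨gs, hgsM⟩ * matOf M ⟨gs, hgsM⟩ = 1 := by
    rw [hS, tu_mul_tu _ _ _ h00, one_add_one_eq_two, h2, tu_zero]
  have hS1 : matOf M ⟨gs, hgsM⟩ ≠ 1 := by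
    intro h
    rw [hS] at h
    have := congrArg (fun A : Matrix (Fin n) (Fin n) F => A *ᵥ f₀) h
    simp only [tu_mulVec, Matrix.one_mulVec, one_mul, hf00, one_smul] at this
    have he0 : e₀ = 0 := by
      have h' : f₀ + e₀ = f₀ + 0 := by rw [add_zero]; exact this
      exact add_left_cancel h'
    rw [he0, bf_zero_right] at hf00
    exact zero_ne_one hf00
  have hs2 : orderOf (⟨gs, hgsM⟩ : ↥M) = 2 := orderOf_eq_two_of_matOf M hSS hS1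
  -- `s'` and `s` commute
  have hcomm : tu σ J 1 e₁ * tu σ J (1 : F) e₀ = tu σ J 1 e₀ * tu σ J 1 e₁ := by
    have h01 : bf σ J e₀ e₁ = 0 := hU.bf_eq_zero_symm h10
    unfold tu tvm
    simp only [one_smul, add_mul, mul_add, one_mul, mul_one, vmv_mul, fl_dot, h01, h10, zero_smul, add_zero]
    abel
  -- `t` is an involution
  have hTT : matOf M (⟨gs, hgsM⟩ * ⟨gs', hgs'M⟩) * matOf M (⟨gs, hgsM⟩ * ⟨gs', hgs'M⟩) = 1 := by
    rw [hTm]
    calc tu σ J 1 e₀ * tu σ J 1 e₁ * (tu σ J 1 e₀ * tu σ J 1 e₁)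
        = tu σ J 1 e₀ * (tu σ J 1 e₁ * tu σ J 1 e₀) * tu σ J 1 e₁ := by simp only [mul_assoc]
      _ = (tu σ J 1 e₀ * tu σ J 1 e₀) * (tu σ J 1 e₁ * tu σ J 1 e₁) := by rw [hcomm]; simp only [mul_assoc]
      _ = 1 := by
          rw [tu_mul_tu _ _ _ h00, tu_mul_tu _ _ _ h11, one_add_one_eq_two, h2, tu_zero, tu_zero, one_mul]
  have hTf0 : (tu σ J 1 e₀ * tu σ J 1 e₁) *ᵥ f₀ = f₀ + e₀ := by
    have i0 : tu σ J 1 e₁ *ᵥ f₀ = f₀ := by rw [tu_mulVec, hf01, mul_zero, zero_smul, add_zero]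
    rw [← Matrix.mulVec_mulVec, i0, tu_mulVec, hf00, mul_one, one_smul]
  have hTf1 : (tu σ J 1 e₀ * tu σ J 1 e₁) *ᵥ f₁ = f₁ + e₁ := by
    have i1 : tu σ J 1 e₁ *ᵥ f₁ = f₁ + e₁ := by rw [tu_mulVec, hf11, mul_one, one_smul]
    rw [← Matrix.mulVec_mulVec, i1, tu_mulVec, bf_add_left, hf10, h10, add_zero, mul_zero, zero_smul,
      add_zero]
  have hT1 : matOf M (⟨gs, hgsM⟩ * ⟨gs', hgs'M⟩) ≠ 1 := by
    intro h
    rw [hTm] at h
    have := congrArg (fun A : Matrix (Fin n) (Fin n) F => A *ᵥ f₀) h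
    simp only [hTf0, Matrix.one_mulVec] at this
    have he0 : e₀ = 0 := by
      have h' : f₀ + e₀ = f₀ + 0 := by rw [add_zero]; exact this
      exact add_left_cancel h'
    rw [he0, bf_zero_right] at hf00
    exact zero_ne_one hf00
  have ht2 : orderOf ((⟨gs, hgsM⟩ : ↥M) * ⟨gs', hgs'M⟩) = 2 := orderOf_eq_two_of_matOf M hTT hT1
  -- both lie in `N`
  have hsN : InN F₀ (matOf M ⟨gs, hgsM⟩) := by
    refine ⟨1, one_ne_zero, ?_⟩
    rw [one_smul, hS]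
    exact hU.ratMat_tu F₀.one_mem he₀
  have hs'N : InN F₀ (matOf M ⟨gs', hgs'M⟩) := by
    refine ⟨1, one_ne_zero, ?_⟩
    rw [one_smul, hS']
    exact hU.ratMat_tu F₀.one_mem he₁
  have htN : InN F₀ (matOf M (⟨gs, hgsM⟩ * ⟨gs', hgs'M⟩)) := by
    rw [matOf_mul]
    exact InN.mul hsN hs'N
  have hSE := even_stronglyEmbedded_u h2 (by omega) hM hNK ⟨g₀, hg₀M⟩ hg₀N ⟨gs, hgsM⟩ hs2 hsN
  have hsH : (⟨gs, hgsM⟩ : ↥M) ∈ (nnSubgroup (n := n) F₀).subgroupOf M := Subgroup.mem_subgroupOf.mpr hsN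
  have htH : (⟨gs, hgsM⟩ : ↥M) * ⟨gs', hgs'M⟩ ∈ (nnSubgroup (n := n) F₀).subgroupOf M :=
    Subgroup.mem_subgroupOf.mpr htN
  -- an involution outside `H`
  have hu2 : orderOf ((⟨g₀, hg₀M⟩ : ↥M) * ⟨gs, hgsM⟩ * (⟨g₀, hg₀M⟩ : ↥M)⁻¹) = 2 := by
    rw [Cfsg.Agent.Lib.Helper3.StrEmb.orderOf_conj]
    exact hs2
  have huH : (⟨g₀, hg₀M⟩ : ↥M) * ⟨gs, hgsM⟩ * (⟨g₀, hg₀M⟩ : ↥M)⁻¹ ∉
      (nnSubgroup (n := n) F₀).subgroupOf M := by
    intro h
    have hmem : (⟨g₀, hg₀M⟩ : ↥M) ∈ (nnSubgroup (n := n) F₀).subgroupOf M := by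
      refine Cfsg.Agent.Lib.Helper3.StrEmb.se_mem hSE h hu2 ?_
      have e : (⟨g₀, hg₀M⟩ : ↥M)⁻¹ * ((⟨g₀, hg₀M⟩ : ↥M) * ⟨gs, hgsM⟩ * (⟨g₀, hg₀M⟩ : ↥M)⁻¹) *
          (⟨g₀, hg₀M⟩ : ↥M) = ⟨gs, hgsM⟩ := by group
      rw [e]
      exact hsH
    exact hg₀N (Subgroup.mem_subgroupOf.mp hmem)
  obtain ⟨d, -, hd⟩ :=
    Cfsg.Agent.Lib.Helper3.StrEmb.exists_conj_mem_inf hSE hu2 huH hs2 hsH ht2 htH
  have hm : ((d : GL (Fin n) F) : Matrix (Fin n) (Fin n) F) * matOf M ⟨gs, hgsM⟩ *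
      (((d : GL (Fin n) F)⁻¹ : GL (Fin n) F) : Matrix (Fin n) (Fin n) F) =
        matOf M (⟨gs, hgsM⟩ * ⟨gs', hgs'M⟩) := congrArg (matOf M) hd
  rw [hS, conj_tu (hM _ d.2).1, hTm] at hm
  -- `tu 1 (d e₀) = tu 1 e₀ * tu 1 e₁` is impossible
  have k0 := congrArg (fun A : Matrix (Fin n) (Fin n) F => A *ᵥ f₀) hm
  have k1 := congrArg (fun A : Matrix (Fin n) (Fin n) F => A *ᵥ f₁) hm
  simp only [hTf0, hTf1, tu_mulVec, one_mul] at k0 k1
  have k0' : bf σ J f₀ (((d : GL (Fin n) F) : Matrix (Fin n) (Fin n) F) *ᵥ e₀) •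
      (((d : GL (Fin n) F) : Matrix (Fin n) (Fin n) F) *ᵥ e₀) = e₀ := add_left_cancel k0
  have k1' : bf σ J f₁ (((d : GL (Fin n) F) : Matrix (Fin n) (Fin n) F) *ᵥ e₀) •
      (((d : GL (Fin n) F) : Matrix (Fin n) (Fin n) F) *ᵥ e₀) = e₁ := add_left_cancel k1
  -- pair with `f₀`
  have m0 : bf σ J f₀ e₀ = 1 := hf00
  have m1 : bf σ J f₀ e₁ = 0 := hf01
  rw [← k0', bf_smul_right] at m0
  rw [← k1', bf_smul_right] at m1
  rcases mul_eq_zero.mp m1 with hz | hz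
  · rw [EmbeddingLike.map_eq_zero_iff] at hz
    rw [hz, zero_smul] at k1'
    rw [← k1', bf_zero_right] at hf11
    exact zero_ne_one hf11
  · rw [hz, mul_zero] at m0
    exact zero_ne_one m0

end Cfsg.Agent.Lib.Helper5.SUf
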