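import Mathlib
import Cfsg.Agent.Lib.Lead.SchDefs

/-!
# S4395 (swarm): coprime operators and the subgroup `℧(N)` generated by `p`-th powers and commutators

* `agemoC p N` : closure of the `p`-th powers and the commutators of `N`
  (exactly the generating set of `SD.C_gen`).
* `fixed_mem_agemoC_of_comm` : if `A` (finite, of order prime to `p`) normalizes `N` and
  `N = [N, A]`, then every element of `N` centralized by `A` lies in `℧(N)` (norm argument).
* `comm_zpowers_eq` : `[N, <m>]` is generated by the `m n m⁻¹ n⁻¹`, `n ∈ N`.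
* `fixed_mem_agemoC` : the cyclic version, in closure form.
-/

set_option autoImplicit false
universe u

namespace Cfsg.Agent.Lib.Lead.Sch

open scoped commutatorElement

variable {Γ : Type u} [Group Γ]

/-- `℧(N)`: the subgroup generated by the `p`-th powers and the commutators of `N`. -/
def agemoC (p : ℕ) (N : Subgroup Γ) : Subgroup Γ :=
  Subgroup.closure ({x : Γ | ∃ u ∈ N, x = u ^ p} ∪
    {x : Γ | ∃ u ∈ N, ∃ v ∈ N, x = u * v * u⁻¹ * v⁻¹})

theorem agemoC_le (p : ℕ) (N : Subgroup Γ) : agemoC p N ≤ N := by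
  unfold agemoC
  rw [Subgroup.closure_le]
  rintro x (⟨u, hu, rfl⟩ | ⟨u, hu, v, hv, rfl⟩)
  · exact N.pow_mem hu p
  · exact N.mul_mem (N.mul_mem (N.mul_mem hu hv) (N.inv_mem hu)) (N.inv_mem hv)

theorem pow_mem_agemoC (p : ℕ) (N : Subgroup Γ) {u : Γ} (hu : u ∈ N) : u ^ p ∈ agemoC p N :=
  Subgroup.subset_closure (Or.inl ⟨u, hu, rfl⟩)

theorem comm_mem_agemoC (p : ℕ) (N : Subgroup Γ) {u v : Γ} (hu : u ∈ N) (hv : v ∈ N) :
    u * v * u⁻¹ * v⁻¹ ∈ agemoC p N :=
  Subgroup.subset_closure (Or.inr ⟨u, hu, v, hv, rfl⟩)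

/-- `℧(N)` is invariant under every conjugation that maps `N` into itself. -/
theorem agemoC_conj_mem (p : ℕ) (N : Subgroup Γ) (g : Γ) (hg : ∀ n ∈ N, g * n * g⁻¹ ∈ N)
    {x : Γ} (hx : x ∈ agemoC p N) : g * x * g⁻¹ ∈ agemoC p N := by
  have hle : agemoC p N ≤ (agemoC p N).comap (MulAut.conj g).toMonoidHom := by
    unfold agemoC
    rw [Subgroup.closure_le]
    rintro x (⟨u, hu, rfl⟩ | ⟨u, hu, v, hv, rfl⟩)
    · rw [SetLike.mem_coe, Subgroup.mem_comap]
      show g * u ^ p * g⁻¹ ∈ Subgroup.closure _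
      have : g * u ^ p * g⁻¹ = (g * u * g⁻¹) ^ p := by
        rw [conj_pow]
      rw [this]
      exact pow_mem_agemoC p N (hg u hu)
    · rw [SetLike.mem_coe, Subgroup.mem_comap]
      show g * (u * v * u⁻¹ * v⁻¹) * g⁻¹ ∈ Subgroup.closure _
      have : g * (u * v * u⁻¹ * v⁻¹) * g⁻¹ =
          (g * u * g⁻¹) * (g * v * g⁻¹) * (g * u * g⁻¹)⁻¹ * (g * v * g⁻¹)⁻¹ := by group
      rw [this]
      exact comm_mem_agemoC p N (hg u hu) (hg v hv)
  exact hle hx

/-- `℧(N)` is normal in `N`. -/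
theorem agemoC_subgroupOf_normal (p : ℕ) (N : Subgroup Γ) : ((agemoC p N).subgroupOf N).Normal := by
  constructor
  intro n hn g
  rw [Subgroup.mem_subgroupOf] at hn ⊢
  have := agemoC_conj_mem p N (g : Γ) (fun n hn => N.mul_mem (N.mul_mem g.2 hn) (N.inv_mem g.2)) hn
  simpa using this

/-- **Norm argument.** `A` finite of order prime to `p`, normalizing `N`, with `N = [N, A]`:
every element of `N` centralized by `A` lies in `℧(N)`. -/
theorem fixed_mem_agemoC_of_comm (p : ℕ) (N A : Subgroup Γ) [Finite A]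
    (hcop : p.Coprime (Nat.card A)) (hAN : ∀ a ∈ A, ∀ n ∈ N, a * n * a⁻¹ ∈ N)
    (hN : N ≤ ⁅N, A⁆) (c : Γ) (hc : c ∈ N) (hfix : ∀ a ∈ A, a * c * a⁻¹ = c) :
    c ∈ agemoC p N := by
  classical
  have : Fintype A := Fintype.ofFinite A
  set U' : Subgroup N := (agemoC p N).subgroupOf N with hU'
  have hU'n : U'.Normal := agemoC_subgroupOf_normal p N
  have hcomm : ∀ a b : (↥N ⧸ U'), a * b = b * a := by
    intro a b
    induction a using QuotientGroup.induction_on with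
    | H a =>
    induction b using QuotientGroup.induction_on with
    | H b =>
    rw [← QuotientGroup.mk_mul, ← QuotientGroup.mk_mul, QuotientGroup.eq]
    rw [hU', Subgroup.mem_subgroupOf]
    have : (((a * b)⁻¹ * (b * a) : N) : Γ) = (b : Γ)⁻¹ * (a : Γ)⁻¹ * ((b : Γ)⁻¹)⁻¹ * ((a : Γ)⁻¹)⁻¹ := by
      push_cast; group
    rw [this]
    exact comm_mem_agemoC p N (N.inv_mem b.2) (N.inv_mem a.2)
  let _ : CommGroup (↥N ⧸ U') := { (inferInstance : Group (↥N ⧸ U')) with mul_comm := hcomm }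
  let π : ↥N →* (↥N ⧸ U') := QuotientGroup.mk' U'
  -- conjugation by `a ∈ A` on `N`
  let cj : A → (↥N →* ↥N) := fun a =>
    (((MulAut.conj (a : Γ)).toMonoidHom).comp N.subtype).codRestrict N (fun n => hAN a a.2 n n.2)
  have cj_val : ∀ (a : A) (n : N), ((cj a n : N) : Γ) = (a : Γ) * n * (a : Γ)⁻¹ := fun a n => rfl
  let ν : ↥N →* (↥N ⧸ U') := ∏ a : A, π.comp (cj a)
  have ν_apply : ∀ n : N, ν n = ∏ a : A, π (cj a n) := by
    intro n
    simp only [ν, MonoidHom.finsetProd_apply, MonoidHom.comp_apply]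
  -- ν is invariant under conjugation by `A`
  have ν_conj : ∀ (b : A) (n : N), ν (cj b n) = ν n := by
    intro b n
    rw [ν_apply, ν_apply]
    refine Fintype.prod_equiv (Equiv.mulRight b) _ _ ?_
    intro a
    congr 1
    apply Subtype.ext
    rw [cj_val, cj_val, cj_val]
    simp only [Equiv.coe_mulRight, Subgroup.coe_mul, mul_inv_rev]
    group
  -- ν kills `[N, A]`
  have hker : ⁅N, A⁆ ≤ (ν.ker).map N.subtype := by
    rw [Subgroup.commutator_le]
    intro n hn a ha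
    have h1 : ⁅n, a⁆ = n * (a * n⁻¹ * a⁻¹) := by
      rw [commutatorElement_def]; group
    refine ⟨⟨n, hn⟩ * cj ⟨a, ha⟩ ⟨n⁻¹, N.inv_mem hn⟩, ?_, ?_⟩
    · rw [SetLike.mem_coe, MonoidHom.mem_ker, map_mul, ν_conj]
      rw [← map_mul]
      have : (⟨n, hn⟩ * ⟨n⁻¹, N.inv_mem hn⟩ : N) = 1 := by
        apply Subtype.ext; simp
      rw [this, map_one]
    · rw [h1]; rfl
  have hν : ∀ n : N, ν n = 1 := by
    intro n
    obtain ⟨n', hn', hnn'⟩ := hker (hN n.2)
    have : n' = n := Subtype.ext hnn'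
    rw [← this]; exact hn'
  -- evaluate at the fixed element
  have h2 : ν ⟨c, hc⟩ = (π ⟨c, hc⟩) ^ (Nat.card A) := by
    rw [ν_apply]
    have : ∀ a : A, π (cj a ⟨c, hc⟩) = π ⟨c, hc⟩ := by
      intro a
      congr 1
      apply Subtype.ext
      rw [cj_val]
      exact hfix a a.2
    rw [Finset.prod_congr rfl (fun a _ => this a), Finset.prod_const, Finset.card_univ,
      Nat.card_eq_fintype_card]
  have h3 : (π ⟨c, hc⟩) ^ p = 1 := by
    rw [← map_pow]
    show ((QuotientGroup.mk (⟨c, hc⟩ ^ p : N)) : ↥N ⧸ U') = 1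
    rw [QuotientGroup.eq_one_iff, hU', Subgroup.mem_subgroupOf]
    exact pow_mem_agemoC p N hc
  have h4 : (π ⟨c, hc⟩) ^ (Nat.card A) = 1 := by rw [← h2]; exact hν _
  have h5 : orderOf (π ⟨c, hc⟩) = 1 := by
    have d1 := orderOf_dvd_of_pow_eq_one h3
    have d2 := orderOf_dvd_of_pow_eq_one h4
    exact Nat.eq_one_of_dvd_coprimes hcop d1 d2
  have h6 : π ⟨c, hc⟩ = 1 := orderOf_eq_one_iff.mp h5
  have h7 : (⟨c, hc⟩ : N) ∈ U' := (QuotientGroup.eq_one_iff _).mp h6
  rw [hU', Subgroup.mem_subgroupOf] at h7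
  exact h7

/-- `[N, <m>]` is generated by the commutators `m n m⁻¹ n⁻¹`, `n ∈ N` (`m` of finite order
normalizing `N`). -/
theorem comm_zpowers_eq (N : Subgroup Γ) (m : Γ) (hm : IsOfFinOrder m)
    (hmN : ∀ n ∈ N, m * n * m⁻¹ ∈ N) :
    ⁅N, Subgroup.zpowers m⁆ = Subgroup.closure {x : Γ | ∃ n ∈ N, x = m * n * m⁻¹ * n⁻¹} := by
  set R := Subgroup.closure {x : Γ | ∃ n ∈ N, x = m * n * m⁻¹ * n⁻¹} with hR
  apply le_antisymm
  · -- R is invariant under conjugation by m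
    have hRm : ∀ x ∈ R, m * x * m⁻¹ ∈ R := by
      have hle : R ≤ R.comap (MulAut.conj m).toMonoidHom := by
        rw [hR, Subgroup.closure_le]
        rintro x ⟨n, hn, rfl⟩
        rw [SetLike.mem_coe, Subgroup.mem_comap]
        show m * (m * n * m⁻¹ * n⁻¹) * m⁻¹ ∈ Subgroup.closure _
        have : m * (m * n * m⁻¹ * n⁻¹) * m⁻¹ = m * (m * n * m⁻¹) * m⁻¹ * (m * n * m⁻¹)⁻¹ := by group
        rw [this]
        exact Subgroup.subset_closure ⟨m * n * m⁻¹, hmN n hn, rfl⟩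
      intro x hx; exact hle hx
    have hpow : ∀ k : ℕ, ∀ n ∈ N, m ^ k * n * (m ^ k)⁻¹ * n⁻¹ ∈ R := by
      intro k
      induction k with
      | zero => intro n _; simp
      | succ k ih =>
        intro n hn
        have : m ^ (k + 1) * n * (m ^ (k + 1))⁻¹ * n⁻¹ =
            m * (m ^ k * n * (m ^ k)⁻¹ * n⁻¹) * m⁻¹ * (m * n * m⁻¹ * n⁻¹) := by
          rw [pow_succ']; group
        rw [this]
        exact R.mul_mem (hRm _ (ih n hn)) (Subgroup.subset_closure ⟨n, hn, rfl⟩)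
    rw [Subgroup.commutator_le]
    intro n hn a ha
    obtain ⟨k, rfl⟩ := (hm.mem_powers_iff_mem_zpowers.mpr ha)
    have : ⁅n, m ^ k⁆ = (m ^ k * n * (m ^ k)⁻¹ * n⁻¹)⁻¹ := by
      rw [commutatorElement_def]; group
    rw [this]
    exact R.inv_mem (hpow k n hn)
  · rw [hR, Subgroup.closure_le]
    rintro x ⟨n, hn, rfl⟩
    rw [SetLike.mem_coe, Subgroup.commutator_comm]
    exact Subgroup.commutator_mem_commutator (Subgroup.mem_zpowers m) hn

/-- cyclic, closure form of the norm argument. -/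
theorem fixed_mem_agemoC (p o : ℕ) (hpo : p.Coprime o) (ho : 0 < o) (N : Subgroup Γ) (m : Γ)
    (hm : m ^ o = 1) (hmN : ∀ n ∈ N, m * n * m⁻¹ ∈ N)
    (hN : N ≤ Subgroup.closure {x : Γ | ∃ n ∈ N, x = m * n * m⁻¹ * n⁻¹})
    (c : Γ) (hc : c ∈ N) (hfix : m * c * m⁻¹ = c) : c ∈ agemoC p N := by
  have hfin : IsOfFinOrder m := isOfFinOrder_iff_pow_eq_one.mpr ⟨o, ho, hm⟩
  have hfinA : Finite (Subgroup.zpowers m) := Set.finite_coe_iff.mpr hfin.finite_zpowers
  have hcard : p.Coprime (Nat.card (Subgroup.zpowers m)) := by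
    rw [Nat.card_zpowers]
    exact Nat.Coprime.coprime_dvd_right (orderOf_dvd_of_pow_eq_one hm) hpo
  have hmem : ∀ a ∈ Subgroup.zpowers m, (∀ n ∈ N, a * n * a⁻¹ ∈ N) ∧ a * c * a⁻¹ = c := by
    intro a ha
    obtain ⟨k, rfl⟩ := (hfin.mem_powers_iff_mem_zpowers.mpr ha)
    induction k with
    | zero => simp
    | succ k ih =>
      have ih' := ih (Subgroup.npow_mem_zpowers m k)
      refine ⟨fun n hn => ?_, ?_⟩
      · have : m ^ (k + 1) * n * (m ^ (k + 1))⁻¹ = m * (m ^ k * n * (m ^ k)⁻¹) * m⁻¹ := by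
          rw [pow_succ']; group
        rw [this]; exact hmN _ (ih'.1 n hn)
      · have : m ^ (k + 1) * c * (m ^ (k + 1))⁻¹ = m * (m ^ k * c * (m ^ k)⁻¹) * m⁻¹ := by
          rw [pow_succ']; group
        rw [this, ih'.2, hfix]
  refine fixed_mem_agemoC_of_comm p N (Subgroup.zpowers m) hcard (fun a ha => (hmem a ha).1) ?_ c hc
    (fun a ha => (hmem a ha).2)
  rw [comm_zpowers_eq N m hfin hmN]
  exact hN

end Cfsg.Agent.Lib.Lead.Sch
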