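import Mathlib
import Cfsg.Agent.Lib.Lead.SchDefs
import Cfsg.Agent.Lib.Lead.CoprimeAction2
import Cfsg.Agent.Lib.Helper3.SchCop

set_option autoImplicit false
universe u

namespace Cfsg.Agent.Lib.Lead.Sch

open scoped commutatorElement

variable {Γ : Type u} [Group Γ]

/-- an element of finite order which conjugates `H` into itself normalizes `H`. -/
theorem mem_normalizer_of_conj_mem (H : Subgroup Γ) (m : Γ) (hm : IsOfFinOrder m)
    (h : ∀ n ∈ H, m * n * m⁻¹ ∈ H) : m ∈ Subgroup.normalizer (H : Set Γ) := by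
  have hpow : ∀ k : ℕ, ∀ n ∈ H, m ^ k * n * (m ^ k)⁻¹ ∈ H := by
    intro k
    induction k with
    | zero => intro n hn; simpa using hn
    | succ k ih =>
      intro n hn
      have : m ^ (k + 1) * n * (m ^ (k + 1))⁻¹ = m * (m ^ k * n * (m ^ k)⁻¹) * m⁻¹ := by
        rw [pow_succ']; group
      rw [this]; exact h _ (ih n hn)
  have hinv : ∀ n ∈ H, m⁻¹ * n * m ∈ H := by
    intro n hn
    obtain ⟨k, hk⟩ : ∃ k : ℕ, m ^ k = m⁻¹ := by
      have : m⁻¹ ∈ Submonoid.powers m :=
        hm.mem_powers_iff_mem_zpowers.mpr (Subgroup.inv_mem _ (Subgroup.mem_zpowers m))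
      exact this
    have := hpow k n hn
    rw [hk] at this
    simpa using this
  rw [Subgroup.mem_normalizer_iff]
  intro n
  constructor
  · exact h n
  · intro hn
    have := hinv _ hn
    have e : m⁻¹ * (m * n * m⁻¹) * m = n := by group
    rwa [e] at this

/-- `zpowers (y ^ j) = zpowers y` for `j` prime to the order of `y`. -/
theorem zpowers_pow_of_coprime (y : Γ) (j : ℕ) (hj : j.Coprime (orderOf y)) :
    Subgroup.zpowers (y ^ j) = Subgroup.zpowers y := by
  apply le_antisymm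
  · rw [Subgroup.zpowers_le]
    exact Subgroup.npow_mem_zpowers y j
  · rw [Subgroup.zpowers_le]
    obtain ⟨k, hk⟩ := exists_pow_eq_self_of_coprime hj
    have h2 : (y ^ j) ^ k ∈ Subgroup.zpowers (y ^ j) := Subgroup.npow_mem_zpowers (y ^ j) k
    rw [hk] at h2
    exact h2

variable {X : Type u} [Group X] {p q : ℕ}

/-- an element of `P` of `q`-power order is trivial. -/
theorem SD.eq_one_of_mem_P [Fact p.Prime] [Fact q.Prime] (hpq : p ≠ q) (sd : SD p q X) (x : X)
    (hx : x ∈ sd.P) (k : ℕ) (hxq : x ^ q ^ k = 1) : x = 1 := by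
  obtain ⟨l, hl⟩ := sd.P_pgroup ⟨x, hx⟩
  have hl' : x ^ p ^ l = 1 := by simpa using congrArg Subtype.val hl
  have hcop : (p ^ l).Coprime (q ^ k) :=
    Nat.Coprime.pow l k ((Nat.coprime_primes (Fact.out) (Fact.out)).mpr hpq)
  have d1 := orderOf_dvd_of_pow_eq_one hl'
  have d2 := orderOf_dvd_of_pow_eq_one hxq
  exact orderOf_eq_one_iff.mp (Nat.eq_one_of_dvd_coprimes hcop d1 d2)

/-- `[P, <y>] = P` for a Schmidt datum. -/
theorem SD.comm_zpowers [Finite X] [Fact p.Prime] [Fact q.Prime] (hpq : p ≠ q) (sd : SD p q X) :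
    ⁅sd.P, Subgroup.zpowers sd.y⁆ = sd.P := by
  have := sd.P_normal
  set A := Subgroup.zpowers sd.y with hA
  set R : Subgroup X := ⁅sd.P, A⁆ with hR
  have hRP : R ≤ sd.P := Subgroup.commutator_le_left _ _
  have hAnP : A ≤ Subgroup.normalizer (sd.P : Set X) := by
    rw [Subgroup.normalizer_eq_top]; exact le_top
  have hAnR : A ≤ Subgroup.normalizer (R : Set X) :=
    Cfsg.Agent.Lib.Lead.le_normalizer_commutator_right sd.P A hAnP
  have hyR : ∀ x ∈ R, sd.y * x * sd.y⁻¹ ∈ R := by
    intro x hx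
    exact (Subgroup.mem_normalizer_iff.mp (hAnR (Subgroup.mem_zpowers sd.y)) x).mp hx
  have hinv : ∀ d ∈ R ⊔ sd.C, sd.y * d * sd.y⁻¹ ∈ R ⊔ sd.C := by
    have hle : R ⊔ sd.C ≤ (R ⊔ sd.C).comap (MulAut.conj sd.y).toMonoidHom := by
      apply sup_le
      · intro x hx
        rw [Subgroup.mem_comap]
        exact Subgroup.mem_sup_left (hyR x hx)
      · intro c hc
        rw [Subgroup.mem_comap]
        show sd.y * c * sd.y⁻¹ ∈ _
        have := Subgroup.mem_center_iff.mp (sd.C_central hc) sd.y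
        rw [this, mul_inv_cancel_right]
        exact Subgroup.mem_sup_right hc
    intro d hd; exact hle hd
  rcases sd.irr (R ⊔ sd.C) le_sup_right (sup_le hRP sd.C_le) hinv with h | h
  · -- R ≤ C: then y centralizes P, contradiction
    exfalso
    have hRC : R ≤ sd.C := by rw [← h]; exact le_sup_left
    obtain ⟨u, hu, hmv⟩ := sd.moved
    apply hmv
    obtain ⟨c, hc⟩ : ∃ c : X, c = sd.y * u * sd.y⁻¹ * u⁻¹ := ⟨_, rfl⟩
    have hcR : c ∈ R := by
      have : c = ⁅sd.y, u⁆ := hc
      rw [this, hR, Subgroup.commutator_comm]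
      exact Subgroup.commutator_mem_commutator (Subgroup.mem_zpowers sd.y) hu
    have hcC : c ∈ sd.C := hRC hcR
    have hcZ : ∀ g : X, g * c = c * g := fun g => Subgroup.mem_center_iff.mp (sd.C_central hcC) g
    have hyu : sd.y * u * sd.y⁻¹ = c * u := by rw [hc]; group
    have hpow : ∀ n : ℕ, sd.y ^ n * u * (sd.y ^ n)⁻¹ = c ^ n * u := by
      intro n
      induction n with
      | zero => simp
      | succ n ih =>
        have : sd.y ^ (n + 1) * u * (sd.y ^ (n + 1))⁻¹ = sd.y * (sd.y ^ n * u * (sd.y ^ n)⁻¹) * sd.y⁻¹ := by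
          rw [pow_succ']; group
        rw [this, ih]
        have : sd.y * (c ^ n * u) * sd.y⁻¹ = (sd.y * c ^ n * sd.y⁻¹) * (sd.y * u * sd.y⁻¹) := by group
        rw [this, hyu]
        have hcn : sd.y * c ^ n = c ^ n * sd.y := by
          have := Subgroup.mem_center_iff.mp ((Subgroup.center X).pow_mem (sd.C_central hcC) n) sd.y
          exact this
        rw [hcn, mul_inv_cancel_right, pow_succ, mul_assoc]
    obtain ⟨k, hk⟩ := sd.y_order
    have h1 := hpow (q ^ k)
    rw [← hk, pow_orderOf_eq_one] at h1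
    have hcq : c ^ orderOf sd.y = 1 := by
      have : u = c ^ orderOf sd.y * u := by simpa using h1
      exact (mul_eq_right).mp this.symm
    rw [hk] at hcq
    have hc1 : c = 1 := sd.eq_one_of_mem_P hpq c (sd.C_le hcC) k hcq
    rw [hyu, hc1, one_mul]
  · exact sd.nongen R hRP h

end Cfsg.Agent.Lib.Lead.Sch
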