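import Mathlib
import Cfsg.Agent.Lib.Lead.SchDefs
import Cfsg.Agent.Lib.Helper3.SchCop

/-!
# S4395 (swarm): a Schmidt datum on a subgroup `↥M`, from data stated in the ambient group
-/

set_option autoImplicit false
universe u

namespace Cfsg.Agent.Lib.Lead.Sch

variable {Γ : Type u} [Group Γ]

theorem eq_subgroupOf_of_map_eq (M : Subgroup Γ) (D' : Subgroup M) (H : Subgroup Γ)
    (h : D'.map M.subtype = H) : D' = H.subgroupOf M := by
  rw [← h]
  exact (Subgroup.comap_map_eq_self_of_injective M.subtype_injective D').symm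

/-- transport: an `SD` on `↥M` from hypotheses stated in `Γ`. -/
theorem SD.ofSub (p q : ℕ) (M N C : Subgroup Γ) (m : Γ)
    (hNM : N ≤ M) (hmM : m ∈ M)
    (hNn : ∀ g ∈ M, ∀ n ∈ N, g * n * g⁻¹ ∈ N) (hNp : IsPGroup p N)
    (hm : ∃ k : ℕ, orderOf m = q ^ k) (hgen : M ≤ N ⊔ Subgroup.zpowers m)
    (hmq : ∀ g ∈ M, g * m ^ q = m ^ q * g) (hCN : C ≤ N)
    (hCZ : ∀ c ∈ C, ∀ g ∈ M, g * c = c * g) (hCexp : ∀ c ∈ C, c ^ p = 1)
    (hcomm : ∀ u ∈ N, ∀ v ∈ N, u * v * u⁻¹ * v⁻¹ ∈ C) (hexp : ∀ u ∈ N, u ^ p ∈ C)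
    (hCgen : C ≤ agemoC p N)
    (hirr : ∀ D : Subgroup Γ, C ≤ D → D ≤ N → (∀ d ∈ D, m * d * m⁻¹ ∈ D) → D = C ∨ D = N)
    (hnongen : ∀ D : Subgroup Γ, D ≤ N → D ⊔ C = N → D = N)
    (hmoved : ∃ u ∈ N, m * u * m⁻¹ ≠ u) :
    ∃ sd : SD p q ↥M, sd.P = N.subgroupOf M ∧ sd.C = C.subgroupOf M ∧ sd.y = ⟨m, hmM⟩ := by
  have hCM : C ≤ M := hCN.trans hNM
  refine ⟨{ P := N.subgroupOf M, C := C.subgroupOf M, y := ⟨m, hmM⟩,
            P_normal := ?_, P_pgroup := ?_, y_order := ?_, gen := ?_, yq_central := ?_,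
            C_le := ?_, C_central := ?_, C_exp := ?_, quot_comm := ?_, quot_exp := ?_,
            C_gen := ?_, irr := ?_, nongen := ?_, moved := ?_ }, rfl, rfl, rfl⟩
  · -- P_normal
    constructor
    intro n hn g
    rw [Subgroup.mem_subgroupOf] at hn ⊢
    have := hNn g g.2 n hn
    simpa using this
  · -- P_pgroup
    exact hNp.comap_subtype
  · -- y_order
    obtain ⟨k, hk⟩ := hm
    exact ⟨k, by rw [← hk]; exact Subgroup.orderOf_mk m hmM⟩
  · -- gen
    rw [eq_top_iff]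
    intro x _
    have hx := hgen x.2
    have hmap : (N.subgroupOf M ⊔ Subgroup.zpowers (⟨m, hmM⟩ : M)).map M.subtype =
        N ⊔ Subgroup.zpowers m := by
      rw [Subgroup.map_sup, Subgroup.subgroupOf_map_subtype, MonoidHom.map_zpowers,
        inf_eq_left.mpr hNM]
      rfl
    rw [← hmap] at hx
    obtain ⟨x', hx', hxx'⟩ := hx
    have : x' = x := Subtype.ext hxx'
    rw [← this]; exact hx'
  · -- yq_central
    rw [Subgroup.mem_center_iff]
    intro g
    apply Subtype.ext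
    have := hmq g g.2
    simpa using this
  · -- C_le
    intro x hx
    rw [Subgroup.mem_subgroupOf] at hx ⊢
    exact hCN hx
  · -- C_central
    intro x hx
    rw [Subgroup.mem_subgroupOf] at hx
    rw [Subgroup.mem_center_iff]
    intro g
    apply Subtype.ext
    have := hCZ _ hx g g.2
    simpa using this
  · -- C_exp
    intro c hc
    rw [Subgroup.mem_subgroupOf] at hc
    apply Subtype.ext
    have := hCexp _ hc
    simpa using this
  · -- quot_comm
    intro u hu v hv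
    rw [Subgroup.mem_subgroupOf] at hu hv ⊢
    have := hcomm _ hu _ hv
    simpa using this
  · -- quot_exp
    intro u hu
    rw [Subgroup.mem_subgroupOf] at hu ⊢
    have := hexp _ hu
    simpa using this
  · -- C_gen
    intro x hx
    rw [Subgroup.mem_subgroupOf] at hx
    have h1 : (x : Γ) ∈ agemoC p N := hCgen hx
    have h2 : agemoC p N ≤ (Subgroup.closure
        ({x : M | ∃ u ∈ N.subgroupOf M, x = u ^ p} ∪
          {x : M | ∃ u ∈ N.subgroupOf M, ∃ v ∈ N.subgroupOf M, x = u * v * u⁻¹ * v⁻¹})).map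
          M.subtype := by
      unfold agemoC
      rw [Subgroup.closure_le]
      rintro y (⟨u, hu, rfl⟩ | ⟨u, hu, v, hv, rfl⟩)
      · refine ⟨⟨u, hNM hu⟩ ^ p, Subgroup.subset_closure (Or.inl ⟨⟨u, hNM hu⟩, ?_, rfl⟩), rfl⟩
        exact Subgroup.mem_subgroupOf.mpr hu
      · refine ⟨⟨u, hNM hu⟩ * ⟨v, hNM hv⟩ * ⟨u, hNM hu⟩⁻¹ * ⟨v, hNM hv⟩⁻¹,
          Subgroup.subset_closure (Or.inr ⟨⟨u, hNM hu⟩, ?_, ⟨v, hNM hv⟩, ?_, rfl⟩), rfl⟩
        · exact Subgroup.mem_subgroupOf.mpr hu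
        · exact Subgroup.mem_subgroupOf.mpr hv
    obtain ⟨x', hx', hxx'⟩ := h2 h1
    have : x' = x := Subtype.ext hxx'
    rw [← this]; exact hx'
  · -- irr
    intro D' hCD hDP hinv
    have h := hirr (D'.map M.subtype) ?_ ?_ ?_
    · rcases h with h | h
      · left; exact eq_subgroupOf_of_map_eq M D' C h
      · right; exact eq_subgroupOf_of_map_eq M D' N h
    · intro c hc
      exact ⟨⟨c, hCM hc⟩, hCD (Subgroup.mem_subgroupOf.mpr hc), rfl⟩
    · rintro _ ⟨d, hd, rfl⟩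
      exact Subgroup.mem_subgroupOf.mp (hDP hd)
    · rintro _ ⟨d, hd, rfl⟩
      exact ⟨_, hinv d hd, by simp⟩
  · -- nongen
    intro D' hDP hsup
    have h := hnongen (D'.map M.subtype) ?_ ?_
    · exact eq_subgroupOf_of_map_eq M D' N h
    · rintro _ ⟨d, hd, rfl⟩
      exact Subgroup.mem_subgroupOf.mp (hDP hd)
    · have h3 : (D' ⊔ C.subgroupOf M).map M.subtype = (N.subgroupOf M).map M.subtype := by
        rw [hsup]
      rw [Subgroup.map_sup, Subgroup.subgroupOf_map_subtype, Subgroup.subgroupOf_map_subtype,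
        inf_eq_left.mpr hCM, inf_eq_left.mpr hNM] at h3
      exact h3
  · -- moved
    obtain ⟨u, hu, hne⟩ := hmoved
    refine ⟨⟨u, hNM hu⟩, Subgroup.mem_subgroupOf.mpr hu, fun h => hne ?_⟩
    have := congrArg Subtype.val h
    simpa using this

end Cfsg.Agent.Lib.Lead.Sch
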