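import Mathlib
import Cfsg.Agent.Lib.Lead.SchFibA
import Cfsg.Agent.Lib.Lead.CoprimeAction2
import Cfsg.Agent.Lib.Helper3.SchCop
import Cfsg.Agent.Lib.Helper3.SchFibB0
import Cfsg.Agent.Lib.Helper3.SchSub
import Cfsg.Agent.Lib.Helper7.SchLA3

/-!
# S4395 (swarm), package FIBB: from the fibre product to the epimorphism `G₀ ↠ X`

`N := [PY, <m>]`, `M := N <m>`; `(M; N, N ∩ (C₀ × C_X), m)` is a Schmidt datum, so `|N| ≤ |P₀|` by
`bound`; hence `pr₁ : M → G₀` is an isomorphism and `φ := pr₂ ∘ pr₁⁻¹`.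
-/

set_option autoImplicit false
set_option maxHeartbeats 1600000
universe u

namespace Cfsg.Agent.Lib.Lead.Sch

open scoped commutatorElement

variable {G₀ X : Type u} [Group G₀] [Finite G₀] [Group X] [Finite X] {p q : ℕ}
  [Fact p.Prime] [Fact q.Prime]

/-- commutators do not see central factors. -/
theorem comm_mul_central {G : Type u} [Group G] (d c d' c' : G) (hc : ∀ g : G, g * c = c * g)
    (hc' : ∀ g : G, g * c' = c' * g) :
    d * c * (d' * c') * (d * c)⁻¹ * (d' * c')⁻¹ = d * d' * d⁻¹ * d'⁻¹ := by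
  have hcz : c ∈ Subgroup.center G := Subgroup.mem_center_iff.mpr hc
  have hcz' : c' ∈ Subgroup.center G := Subgroup.mem_center_iff.mpr hc'
  have hx : d * c = c * d := hc d
  have hy : d' * c' = c' * d' := hc' d'
  rw [hx, hy, mul_inv_rev, mul_inv_rev]
  -- c * d * (c' * d') * (d⁻¹ * c⁻¹) * (d'⁻¹ * c'⁻¹)
  have hci : ∀ g : G, g * c⁻¹ = c⁻¹ * g := fun g =>
    Subgroup.mem_center_iff.mp ((Subgroup.center G).inv_mem hcz) g
  have hci' : ∀ g : G, g * c'⁻¹ = c'⁻¹ * g := fun g =>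
    Subgroup.mem_center_iff.mp ((Subgroup.center G).inv_mem hcz') g
  calc c * d * (c' * d') * (d⁻¹ * c⁻¹) * (d'⁻¹ * c'⁻¹)
      = c * (d * c') * d' * (d⁻¹ * c⁻¹) * (d'⁻¹ * c'⁻¹) := by group
    _ = c * (c' * d) * d' * (c⁻¹ * d⁻¹) * (c'⁻¹ * d'⁻¹) := by rw [hc' d, hci d⁻¹, hci' d'⁻¹]
    _ = c * c' * ((d * d') * c⁻¹) * (d⁻¹ * c'⁻¹) * d'⁻¹ := by group
    _ = c * c' * (c⁻¹ * (d * d')) * (c'⁻¹ * d⁻¹) * d'⁻¹ := by rw [hci (d * d'), hci' d⁻¹]
    _ = (c * c' * c⁻¹) * ((d * d') * c'⁻¹) * d⁻¹ * d'⁻¹ := by group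
    _ = (c * c' * c⁻¹) * (c'⁻¹ * (d * d')) * d⁻¹ * d'⁻¹ := by rw [hci' (d * d')]
    _ = (c' * c * c⁻¹) * (c'⁻¹ * (d * d')) * d⁻¹ * d'⁻¹ := by rw [hc' c]
    _ = d * d' * d⁻¹ * d'⁻¹ := by group

theorem fibB (hpq : p ≠ q) (r : ℕ) (sd₀ : SD p q G₀) (sdX : SD p q X) (θ : sd₀.V ≃+ sdX.V)
    (j : ℕ) (hj : j.Coprime q) (hθ : ∀ v, θ (sd₀.T v) = (⇑sdX.T)^[j] (θ v))
    (h0 : orderOf sd₀.y = q ^ r) (hX : orderOf sdX.y = q ^ r)
    (hb : ∀ (Y : Type u) [Group Y] [Finite Y] (sd : SD p q Y), Nat.card sd.P ≤ Nat.card sd₀.P) :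
    ∃ φ : G₀ →* X, Function.Surjective φ ∧ φ.ker ≤ Subgroup.center G₀ := by
  classical
  have hpqc : Nat.Coprime p q := (Nat.coprime_primes Fact.out Fact.out).mpr hpq
  obtain ⟨PY, hPY⟩ : ∃ PY : Subgroup (G₀ × X), PY = fibPY sd₀ sdX θ := ⟨_, rfl⟩
  obtain ⟨m, hm⟩ : ∃ m : G₀ × X, m = (sd₀.y, sdX.y ^ j) := ⟨_, rfl⟩
  obtain ⟨A, hA⟩ : ∃ A : Subgroup (G₀ × X), A = Subgroup.zpowers m := ⟨_, rfl⟩
  have hmo : orderOf m = q ^ r := by rw [hm]; exact fibm_order sd₀ sdX j r hj h0 hX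
  have hmfin : IsOfFinOrder m := isOfFinOrder_of_finite m
  have hmPY : ∀ n ∈ PY, m * n * m⁻¹ ∈ PY := by
    rw [hPY, hm]; exact fibPY_conj sd₀ sdX θ j hθ
  have hAPY : A ≤ Subgroup.normalizer (PY : Set (G₀ × X)) := by
    rw [hA, Subgroup.zpowers_le]; exact mem_normalizer_of_conj_mem PY m hmfin hmPY
  have hPYp : IsPGroup p PY := by rw [hPY]; exact fibPY_pgroup sd₀ sdX θ
  have hcardA : Nat.card A = q ^ r := by rw [hA, Nat.card_zpowers, hmo]
  have hcop : (Nat.card A).Coprime (Nat.card PY) := by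
    obtain ⟨k, hk⟩ := hPYp.exists_card_eq
    rw [hcardA, hk]; exact Nat.Coprime.pow _ _ hpqc.symm
  have hsolv : Group.IsSolvable A := by
    rw [hA]
    refine Group.isSolvable_of_comm (fun a b => ?_)
    obtain ⟨a, ha⟩ := a
    obtain ⟨b, hb⟩ := b
    obtain ⟨k, rfl⟩ := Subgroup.mem_zpowers_iff.mp ha
    obtain ⟨l, rfl⟩ := Subgroup.mem_zpowers_iff.mp hb
    apply Subtype.ext
    show m ^ k * m ^ l = m ^ l * m ^ k
    rw [← zpow_add, ← zpow_add, add_comm]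
  obtain ⟨N, hN⟩ : ∃ N : Subgroup (G₀ × X), N = ⁅PY, A⁆ := ⟨_, rfl⟩
  have hNPY : N ≤ PY := by
    rw [hN]; exact Cfsg.Agent.Lib.Lead.commutator_le_left_of_le_normalizer PY A hAPY
  have hNN : ⁅N, A⁆ = N := by
    rw [hN]; exact Cfsg.Agent.Lib.Lead.coprime_commutator_stable A PY hAPY hcop (Or.inl hsolv)
  have hAN : A ≤ Subgroup.normalizer (N : Set (G₀ × X)) := by
    rw [hN]; exact Cfsg.Agent.Lib.Lead.le_normalizer_commutator_right PY A hAPY
  -- projections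
  have hfstPY : PY.map (MonoidHom.fst G₀ X) = sd₀.P := by
    apply le_antisymm
    · rintro _ ⟨n, hn, rfl⟩
      rw [SetLike.mem_coe, hPY] at hn
      exact fibPY_fst_mem sd₀ sdX θ hn
    · intro g hg
      obtain ⟨x, hx⟩ := fibPY_fst_surj sd₀ sdX θ g hg
      exact ⟨(g, x), by rw [hPY]; exact hx, rfl⟩
  have hsndPY : PY.map (MonoidHom.snd G₀ X) = sdX.P := by
    apply le_antisymm
    · rintro _ ⟨n, hn, rfl⟩
      rw [SetLike.mem_coe, hPY] at hn
      exact fibPY_snd_mem sd₀ sdX θ hn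
    · intro x hx
      obtain ⟨g, hg⟩ := fibPY_snd_surj sd₀ sdX θ x hx
      exact ⟨(g, x), by rw [hPY]; exact hg, rfl⟩
  have hfstA : A.map (MonoidHom.fst G₀ X) = Subgroup.zpowers sd₀.y := by
    rw [hA, MonoidHom.map_zpowers, hm]; rfl
  have hsndA : A.map (MonoidHom.snd G₀ X) = Subgroup.zpowers sdX.y := by
    rw [hA, MonoidHom.map_zpowers, hm]
    show Subgroup.zpowers (sdX.y ^ j) = _
    exact zpowers_pow_of_coprime _ _ (by rw [hX]; exact Nat.Coprime.pow_right r hj)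
  have hfstN : N.map (MonoidHom.fst G₀ X) = sd₀.P := by
    rw [hN, Subgroup.map_commutator, hfstPY, hfstA, sd₀.comm_zpowers hpq]
  have hsndN : N.map (MonoidHom.snd G₀ X) = sdX.P := by
    rw [hN, Subgroup.map_commutator, hsndPY, hsndA, sdX.comm_zpowers hpq]
  -- the central subgroup `Z = C₀ × C_X`
  obtain ⟨Z, hZ⟩ : ∃ Z : Subgroup (G₀ × X), Z = sd₀.C.prod sdX.C := ⟨_, rfl⟩
  have hZc : Z ≤ Subgroup.center (G₀ × X) := by rw [hZ]; exact prodC_central sd₀ sdX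
  have hZPY : Z ≤ PY := by rw [hZ, hPY]; exact fibPY_prodC_le sd₀ sdX θ
  have hZcomm : ∀ c ∈ Z, ∀ g : G₀ × X, g * c = c * g := fun c hc g =>
    Subgroup.mem_center_iff.mp (hZc hc) g
  have hK : ∀ z ∈ PY, z.1 ∈ sd₀.C → z ∈ Z := by
    rintro ⟨g, x⟩ hz hg
    have hg' : g ∈ sd₀.C := hg
    have h1 : ((g, 1) : G₀ × X) ∈ PY :=
      hZPY (by rw [hZ]; exact Subgroup.mem_prod.mpr ⟨hg', sdX.C.one_mem⟩)
    have h2 : ((1, x) : G₀ × X) ∈ PY := by
      have := PY.mul_mem (PY.inv_mem h1) hz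
      simpa using this
    rw [hPY] at h2
    rw [hZ]
    exact Subgroup.mem_prod.mpr ⟨hg', fibPY_right sd₀ sdX θ x h2⟩
  obtain ⟨CM, hCM⟩ : ∃ CM : Subgroup (G₀ × X), CM = N ⊓ Z := ⟨_, rfl⟩
  obtain ⟨M, hM⟩ : ∃ M : Subgroup (G₀ × X), M = N ⊔ A := ⟨_, rfl⟩
  have hNM : N ≤ M := by rw [hM]; exact le_sup_left
  have hmA : m ∈ A := by rw [hA]; exact Subgroup.mem_zpowers m
  have hmM : m ∈ M := by rw [hM]; exact Subgroup.mem_sup_right hmA
  have hMn : M ≤ Subgroup.normalizer (N : Set (G₀ × X)) := by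
    rw [hM]; exact sup_le Subgroup.le_normalizer hAN
  have hNn : ∀ g ∈ M, ∀ n ∈ N, g * n * g⁻¹ ∈ N := fun g hg n hn =>
    (Subgroup.mem_normalizer_iff.mp (hMn hg) n).mp hn
  have hNp : IsPGroup p N := hPYp.to_le hNPY
  have hCMN : CM ≤ N := by rw [hCM]; exact inf_le_left
  have hCMZ : CM ≤ Z := by rw [hCM]; exact inf_le_right
  have hNfst : ∀ n ∈ N, n.1 ∈ sd₀.P := fun n hn => by
    rw [← hfstN]; exact ⟨n, hn, rfl⟩
  have hNsnd : ∀ n ∈ N, n.2 ∈ sdX.P := fun n hn => by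
    rw [← hsndN]; exact ⟨n, hn, rfl⟩
  have hCexp : ∀ c ∈ CM, c ^ p = 1 := by
    intro c hc
    have hcZ := hCMZ hc
    rw [hZ, Subgroup.mem_prod] at hcZ
    exact Prod.ext (by rw [Prod.pow_fst]; exact sd₀.C_exp _ hcZ.1)
      (by rw [Prod.pow_snd]; exact sdX.C_exp _ hcZ.2)
  have hcomm : ∀ u ∈ N, ∀ v ∈ N, u * v * u⁻¹ * v⁻¹ ∈ CM := by
    intro u hu v hv
    rw [hCM]
    refine ⟨N.mul_mem (N.mul_mem (N.mul_mem hu hv) (N.inv_mem hu)) (N.inv_mem hv), ?_⟩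
    rw [hZ]
    exact Subgroup.mem_prod.mpr ⟨sd₀.quot_comm _ (hNfst u hu) _ (hNfst v hv),
      sdX.quot_comm _ (hNsnd u hu) _ (hNsnd v hv)⟩
  have hexp : ∀ u ∈ N, u ^ p ∈ CM := by
    intro u hu
    rw [hCM]
    refine ⟨N.pow_mem hu p, ?_⟩
    rw [hZ]
    exact Subgroup.mem_prod.mpr ⟨by rw [Prod.pow_fst]; exact sd₀.quot_exp _ (hNfst u hu),
      by rw [Prod.pow_snd]; exact sdX.quot_exp _ (hNsnd u hu)⟩
  have hfinA : Finite A := inferInstance
  have hCgen : CM ≤ agemoC p N := by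
    intro c hc
    refine fixed_mem_agemoC_of_comm p N A ?_ ?_ hNN.ge c (hCMN hc) ?_
    · rw [hcardA]; exact Nat.Coprime.pow_right r hpqc
    · intro a ha n hn
      exact (Subgroup.mem_normalizer_iff.mp (hAN ha) n).mp hn
    · intro a _
      rw [hZcomm c (hCMZ hc) a, mul_inv_cancel_right]
  -- elements of `N` over `C₀` lie in `CM`
  have hK' : ∀ z ∈ N, z.1 ∈ sd₀.C → z ∈ CM := by
    intro z hz h1
    rw [hCM]; exact ⟨hz, hK z (hNPY hz) h1⟩
  have hmconj_fst : ∀ z : G₀ × X, (m * z * m⁻¹).1 = sd₀.y * z.1 * sd₀.y⁻¹ := by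
    intro z; rw [hm]; rfl
  have hirr : ∀ D : Subgroup (G₀ × X), CM ≤ D → D ≤ N → (∀ d ∈ D, m * d * m⁻¹ ∈ D) →
      D = CM ∨ D = N := by
    intro D hCD hDN hDinv
    have hD1P : D.map (MonoidHom.fst G₀ X) ≤ sd₀.P := by
      rw [← hfstN]; exact Subgroup.map_mono hDN
    have hinv1 : ∀ d ∈ D.map (MonoidHom.fst G₀ X) ⊔ sd₀.C,
        sd₀.y * d * sd₀.y⁻¹ ∈ D.map (MonoidHom.fst G₀ X) ⊔ sd₀.C := by
      have hle : D.map (MonoidHom.fst G₀ X) ⊔ sd₀.C ≤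
          (D.map (MonoidHom.fst G₀ X) ⊔ sd₀.C).comap (MulAut.conj sd₀.y).toMonoidHom := by
        apply sup_le
        · rintro _ ⟨z, hz, rfl⟩
          rw [Subgroup.mem_comap]
          refine Subgroup.mem_sup_left ⟨m * z * m⁻¹, hDinv z hz, ?_⟩
          exact hmconj_fst z
        · intro c hc
          rw [Subgroup.mem_comap]
          show sd₀.y * c * sd₀.y⁻¹ ∈ _
          have := Subgroup.mem_center_iff.mp (sd₀.C_central hc) sd₀.y
          rw [this, mul_inv_cancel_right]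
          exact Subgroup.mem_sup_right hc
      intro d hd; exact hle hd
    rcases sd₀.irr (D.map (MonoidHom.fst G₀ X) ⊔ sd₀.C) le_sup_right (sup_le hD1P sd₀.C_le) hinv1
      with h | h
    · left
      apply le_antisymm _ hCD
      intro z hz
      apply hK' z (hDN hz)
      rw [← h]
      exact Subgroup.mem_sup_left ⟨z, hz, rfl⟩
    · right
      have h2 : D.map (MonoidHom.fst G₀ X) = sd₀.P := sd₀.nongen _ hD1P h
      apply le_antisymm hDN
      intro n hn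
      have : n.1 ∈ D.map (MonoidHom.fst G₀ X) := by rw [h2]; exact hNfst n hn
      obtain ⟨d, hd, hdn⟩ := this
      have hdn' : d.1 = n.1 := hdn
      have hz : d⁻¹ * n ∈ CM := by
        apply hK' _ (N.mul_mem (N.inv_mem (hDN hd)) hn)
        have : (d⁻¹ * n).1 = 1 := by
          rw [Prod.fst_mul, Prod.fst_inv, hdn', inv_mul_cancel]
        rw [this]; exact sd₀.C.one_mem
      have : n = d * (d⁻¹ * n) := by group
      rw [this]
      exact D.mul_mem hd (hCD hz)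
  have hCMnormal : CM.Normal := by
    constructor
    intro c hc g
    rw [hZcomm c (hCMZ hc) g, mul_inv_cancel_right]
    exact hc
  have hnongen : ∀ D : Subgroup (G₀ × X), D ≤ N → D ⊔ CM = N → D = N := by
    intro D hDN hsup
    have hdecomp : ∀ u ∈ N, ∃ d ∈ D, ∃ c ∈ CM, u = d * c := by
      intro u hu
      rw [← hsup] at hu
      have : u ∈ ((D ⊔ CM : Subgroup (G₀ × X)) : Set (G₀ × X)) := hu
      rw [Subgroup.mul_normal D CM] at this
      obtain ⟨d, hd, c, hc, rfl⟩ := this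
      exact ⟨d, hd, c, hc, rfl⟩
    have hagemo : agemoC p N ≤ D := by
      unfold agemoC
      rw [Subgroup.closure_le]
      rintro x (⟨u, hu, rfl⟩ | ⟨u, hu, v, hv, rfl⟩)
      · obtain ⟨d, hd, c, hc, rfl⟩ := hdecomp u hu
        have hcomm' : Commute d c := (hZcomm c (hCMZ hc) d)
        rw [SetLike.mem_coe, hcomm'.mul_pow, hCexp c hc, mul_one]
        exact D.pow_mem hd p
      · obtain ⟨d, hd, c, hc, rfl⟩ := hdecomp u hu
        obtain ⟨d', hd', c', hc', rfl⟩ := hdecomp v hv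
        have e : d * c * (d' * c') * (d * c)⁻¹ * (d' * c')⁻¹ = d * d' * d⁻¹ * d'⁻¹ :=
          comm_mul_central d c d' c' (hZcomm c (hCMZ hc)) (hZcomm c' (hCMZ hc'))
        rw [SetLike.mem_coe, e]
        exact D.mul_mem (D.mul_mem (D.mul_mem hd hd') (D.inv_mem hd)) (D.inv_mem hd')
    have hCD : CM ≤ D := hCgen.trans hagemo
    rw [← hsup]
    exact (sup_eq_left.mpr hCD).symm
  have hmoved : ∃ u ∈ N, m * u * m⁻¹ ≠ u := by
    obtain ⟨u0, hu0, hne⟩ := sd₀.moved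
    have : u0 ∈ N.map (MonoidHom.fst G₀ X) := by rw [hfstN]; exact hu0
    obtain ⟨n, hn, hnu⟩ := this
    have hnu' : n.1 = u0 := hnu
    refine ⟨n, hn, fun h => hne ?_⟩
    have := congrArg Prod.fst h
    rw [hmconj_fst, hnu'] at this
    exact this
  -- the Schmidt datum on `↥M`
  obtain ⟨sd, hsdP, -, -⟩ := SD.ofSub p q M N CM m hNM hmM hNn hNp ⟨r, hmo⟩
    (by rw [hM, hA]) (fun g _ => Subgroup.mem_center_iff.mp
      (by rw [hm]; exact fibm_pow_central sd₀ sdX j) g) hCMN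
    (fun c hc g _ => hZcomm c (hCMZ hc) g) hCexp hcomm hexp hCgen hirr hnongen hmoved
  have hcardN : Nat.card N ≤ Nat.card sd₀.P := by
    have h1 := hb ↥M sd
    rw [hsdP] at h1
    have h2 : Nat.card (N.subgroupOf M) = Nat.card N :=
      Nat.card_congr (Subgroup.subgroupOfEquivOfLe hNM).toEquiv
    rw [h2] at h1
    exact h1
  -- `pr₁` is injective on `N`
  have hinjN : ∀ n ∈ N, n.1 = 1 → n = 1 := by
    let f : ↥N →* ↥sd₀.P :=
      ((MonoidHom.fst G₀ X).comp N.subtype).codRestrict sd₀.P (fun n => hNfst n.1 n.2)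
    have hfs : Function.Surjective f := by
      rintro ⟨g, hg⟩
      have : g ∈ N.map (MonoidHom.fst G₀ X) := by rw [hfstN]; exact hg
      obtain ⟨n, hn, hng⟩ := this
      exact ⟨⟨n, hn⟩, Subtype.ext hng⟩
    have hfb : Function.Bijective f := hfs.bijective_of_nat_card_le hcardN
    intro n hn h1
    have : f ⟨n, hn⟩ = f 1 := by
      rw [map_one]
      exact Subtype.ext h1
    have := hfb.1 this
    exact congrArg Subtype.val this
  -- decomposition of the elements of `M`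
  have hMdec : ∀ z ∈ M, ∃ n ∈ N, ∃ i : ℤ, z = n * m ^ i := by
    intro z hz
    rw [hM] at hz
    have : z ∈ ((N ⊔ A : Subgroup (G₀ × X)) : Set (G₀ × X)) := hz
    rw [Subgroup.coe_mul_of_right_le_normalizer_left N A hAN] at this
    obtain ⟨n, hn, a, ha, rfl⟩ := this
    rw [SetLike.mem_coe, hA, Subgroup.mem_zpowers_iff] at ha
    obtain ⟨i, rfl⟩ := ha
    exact ⟨n, hn, i, rfl⟩
  have hm1 : ∀ i : ℤ, (m ^ i).1 = sd₀.y ^ i := by
    intro i; rw [hm]; rfl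
  have hm2 : ∀ i : ℤ, (m ^ i).2 = (sdX.y ^ j) ^ i := by
    intro i; rw [hm]; rfl
  have hoy1 : orderOf (sdX.y ^ j) = q ^ r := by
    rw [Nat.Coprime.orderOf_pow, hX]
    rw [hX]; exact Nat.Coprime.pow_left r hj.symm
  -- a power of `y₀` in `P₀` is trivial, and then the same power of `m` is trivial
  have hpow0 : ∀ i : ℤ, sd₀.y ^ i ∈ sd₀.P → m ^ i = 1 := by
    intro i hi
    have h1 : (sd₀.y ^ i) ^ q ^ r = 1 := by
      rw [← zpow_natCast, ← zpow_mul, mul_comm, zpow_mul, zpow_natCast, ← h0, pow_orderOf_eq_one,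
        one_zpow]
    have h2 : sd₀.y ^ i = 1 := sd₀.eq_one_of_mem_P hpq _ hi r h1
    have h3 : (orderOf sd₀.y : ℤ) ∣ i := orderOf_dvd_iff_zpow_eq_one.mpr h2
    rw [h0, ← hmo] at h3
    exact orderOf_dvd_iff_zpow_eq_one.mp h3
  have hpowX : ∀ i : ℤ, (sdX.y ^ j) ^ i ∈ sdX.P → m ^ i = 1 := by
    intro i hi
    have h1 : ((sdX.y ^ j) ^ i) ^ q ^ r = 1 := by
      rw [← zpow_natCast, ← zpow_mul, mul_comm, zpow_mul, zpow_natCast, ← hoy1, pow_orderOf_eq_one,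
        one_zpow]
    have h2 : (sdX.y ^ j) ^ i = 1 := sdX.eq_one_of_mem_P hpq _ hi r h1
    have h3 : (orderOf (sdX.y ^ j) : ℤ) ∣ i := orderOf_dvd_iff_zpow_eq_one.mpr h2
    rw [hoy1, ← hmo] at h3
    exact orderOf_dvd_iff_zpow_eq_one.mp h3
  have hker1 : ∀ z ∈ M, z.1 = 1 → z = 1 := by
    intro z hz h1
    obtain ⟨n, hn, i, rfl⟩ := hMdec z hz
    have h2 : n.1 * sd₀.y ^ i = 1 := by
      have : (n * m ^ i).1 = n.1 * (m ^ i).1 := rfl
      rw [this, hm1] at h1; exact h1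
    have h3 : sd₀.y ^ i ∈ sd₀.P := by
      have : sd₀.y ^ i = (n.1)⁻¹ := (eq_inv_of_mul_eq_one_right h2)
      rw [this]; exact sd₀.P.inv_mem (hNfst n hn)
    have h4 := hpow0 i h3
    rw [h4, mul_one] at h1 ⊢
    exact hinjN n hn h1
  have hker2 : ∀ z ∈ M, z.2 = 1 → z.1 ∈ sd₀.C := by
    intro z hz h1
    obtain ⟨n, hn, i, rfl⟩ := hMdec z hz
    have h2 : n.2 * (sdX.y ^ j) ^ i = 1 := by
      have : (n * m ^ i).2 = n.2 * (m ^ i).2 := rfl
      rw [this, hm2] at h1; exact h1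
    have h3 : (sdX.y ^ j) ^ i ∈ sdX.P := by
      have : (sdX.y ^ j) ^ i = (n.2)⁻¹ := (eq_inv_of_mul_eq_one_right h2)
      rw [this]; exact sdX.P.inv_mem (hNsnd n hn)
    have h4 := hpowX i h3
    rw [h4, mul_one] at h1 ⊢
    have h5 : n ∈ fibPY sd₀ sdX θ := by rw [← hPY]; exact hNPY hn
    have h6 : n = (n.1, 1) := Prod.ext rfl h1
    rw [h6] at h5
    exact fibPY_left sd₀ sdX θ n.1 h5
  have hMfst : M.map (MonoidHom.fst G₀ X) = ⊤ := by
    rw [hM, Subgroup.map_sup, hfstN, hfstA]; exact sd₀.gen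
  have hMsnd : M.map (MonoidHom.snd G₀ X) = ⊤ := by
    rw [hM, Subgroup.map_sup, hsndN, hsndA]; exact sdX.gen
  -- the isomorphism `pr₁ : M ≃ G₀` and `φ`
  let f1 : ↥M →* G₀ := (MonoidHom.fst G₀ X).comp M.subtype
  let f2 : ↥M →* X := (MonoidHom.snd G₀ X).comp M.subtype
  have hf1i : Function.Injective f1 := by
    rw [injective_iff_map_eq_one]
    intro z hz
    exact Subtype.ext (hker1 z.1 z.2 hz)
  have hf1s : Function.Surjective f1 := by
    intro g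
    have : g ∈ M.map (MonoidHom.fst G₀ X) := by rw [hMfst]; trivial
    obtain ⟨z, hz, hzg⟩ := this
    exact ⟨⟨z, hz⟩, hzg⟩
  have hf2s : Function.Surjective f2 := by
    intro x
    have : x ∈ M.map (MonoidHom.snd G₀ X) := by rw [hMsnd]; trivial
    obtain ⟨z, hz, hzx⟩ := this
    exact ⟨⟨z, hz⟩, hzx⟩
  let e : ↥M ≃* G₀ := MulEquiv.ofBijective f1 ⟨hf1i, hf1s⟩
  refine ⟨f2.comp e.symm.toMonoidHom, ?_, ?_⟩
  · exact hf2s.comp e.symm.surjective
  · intro g hg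
    rw [MonoidHom.mem_ker] at hg
    have h1 : f2 (e.symm g) = 1 := hg
    have h2 : f1 (e.symm g) = g := e.apply_symm_apply g
    have h3 := hker2 (e.symm g).1 (e.symm g).2 h1
    have h4 : ((e.symm g : ↥M) : G₀ × X).1 = g := h2
    rw [h4] at h3
    exact sd₀.C_central h3

/-- `fiber`, with `bound` as a hypothesis. -/
theorem fiber_of_bound (r : ℕ) (hpq : p ≠ q) (sd₀ : SD p q G₀) (sdX : SD p q X)
    (h0 : orderOf sd₀.y = q ^ r) (hX : orderOf sdX.y = q ^ r)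
    (hmax : Nat.card sd₀.P = p ^ a0 p q)
    (hb : ∀ (Y : Type u) [Group Y] [Finite Y] (sd : SD p q Y), Nat.card sd.P ≤ p ^ a0 p q) :
    ∃ φ : G₀ →* X, Function.Surjective φ ∧ φ.ker ≤ Subgroup.center G₀ := by
  obtain ⟨j, hj, θ, hθ⟩ := irr_match p q hpq sd₀.T sdX.T (sd₀.irrMod hpq) (sdX.irrMod hpq)
  exact fibB hpq r sd₀ sdX θ j hj hθ h0 hX (fun Y _ _ sd => by rw [hmax]; exact hb Y sd)

end Cfsg.Agent.Lib.Lead.Sch
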