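import Mathlib
import Cfsg.Agent.Lib.Helper8.SchBoundFinal
import Cfsg.Agent.Lib.Helper3.SchFibB

/-!
# S4395: `fiber` (exact stub signature) = `fiber_of_bound` fed with `bound`
-/

set_option autoImplicit false
universe u

namespace Cfsg.Agent.Lib.Lead.Sch

/-! ### FIBER -/
theorem fiber {G₀ X : Type u} [Group G₀] [Finite G₀] [Group X] [Finite X] (p q r : ℕ) [Fact p.Prime] [Fact q.Prime]
    (hpq : p ≠ q) (_hr : 1 ≤ r) (sd₀ : SD p q G₀) (sdX : SD p q X)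
    (h0 : orderOf sd₀.y = q ^ r) (hX : orderOf sdX.y = q ^ r) (hmax : Nat.card sd₀.P = p ^ a0 p q) :
    ∃ φ : G₀ →* X, Function.Surjective φ ∧ φ.ker ≤ Subgroup.center G₀ :=
  fiber_of_bound r hpq sd₀ sdX h0 hX hmax (fun _ _ _ sd => bound p q hpq sd)

end Cfsg.Agent.Lib.Lead.Sch
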