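import Cfsg.Agent.Lib.Helper5.SchmDefs

/-!
# S4394 package PA2: from an automorphism to the structure `SE`

`T` is a finite non-abelian `p`-group of class two with an automorphism `φ` of prime order
`q ≠ p` that fixes the centre pointwise, such that the centre lies in the derived subgroup and
every proper `φ`-invariant subgroup is central.  Then `SE p T` holds.
-/

set_option autoImplicit false
set_option linter.unusedSectionVars false
set_option linter.unusedVariables false

namespace Cfsg.Agent.Lib.Helper3.Schm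

open Cfsg.Agent.Lib.Helper5.Schm
open scoped commutatorElement

universe u

section Class2

variable {T : Type u} [Group T]

/-- class two: every commutator is central -/
def Cl2 (T : Type u) [Group T] : Prop := ∀ x y : T, ⁅x, y⁆ ∈ Subgroup.center T

theorem Cl2.comm (h : Cl2 T) (x y w : T) : ⁅x, y⁆ * w = w * ⁅x, y⁆ :=
  (Subgroup.mem_center_iff.mp (h x y) w).symm

theorem Cl2.mul_right (h : Cl2 T) (x y z : T) : ⁅x, y * z⁆ = ⁅x, y⁆ * ⁅x, z⁆ := by
  rw [commutatorElement_mul_right_eq_mul_conj]
  have h1 := h.comm x z y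
  rw [mul_assoc ⁅x, y⁆ y, ← h1, ← mul_assoc, mul_assoc, mul_inv_cancel, mul_one]

theorem Cl2.mul_left (h : Cl2 T) (x y z : T) : ⁅x * y, z⁆ = ⁅x, z⁆ * ⁅y, z⁆ := by
  rw [commutatorElement_mul_left_eq_conj_mul]
  have h1 := h.comm y z x⁻¹
  have h2 := h.comm y z ⁅x, z⁆
  rw [mul_assoc x, h1, ← mul_assoc x, mul_inv_cancel, one_mul, h2]

/-- `x ↦ ⁅y, x⁆` as a homomorphism -/
def Cl2.homR (h : Cl2 T) (y : T) : T →* T where
  toFun x := ⁅y, x⁆
  map_one' := commutatorElement_one_right y
  map_mul' a b := h.mul_right y a b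

/-- `y ↦ ⁅y, x⁆` as a homomorphism -/
def Cl2.homL (h : Cl2 T) (x : T) : T →* T where
  toFun y := ⁅y, x⁆
  map_one' := commutatorElement_one_left x
  map_mul' a b := h.mul_left a b x

@[simp] theorem Cl2.homR_apply (h : Cl2 T) (y x : T) : h.homR y x = ⁅y, x⁆ := rfl
@[simp] theorem Cl2.homL_apply (h : Cl2 T) (x y : T) : h.homL x y = ⁅y, x⁆ := rfl

theorem Cl2.pow_left (h : Cl2 T) (x y : T) (n : ℕ) : ⁅x ^ n, y⁆ = ⁅x, y⁆ ^ n :=
  map_pow (h.homL y) x n

theorem Cl2.pow_right (h : Cl2 T) (x y : T) (n : ℕ) : ⁅x, y ^ n⁆ = ⁅x, y⁆ ^ n :=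
  map_pow (h.homR x) y n

theorem mul_eq_br_mul (a b : T) : a * b = ⁅a, b⁆ * b * a := by
  rw [commutatorElement_def]; group

theorem Cl2.pow_comm (h : Cl2 T) (x y w : T) (n : ℕ) : ⁅x, y⁆ ^ n * w = w * ⁅x, y⁆ ^ n := by
  have hc : ⁅x, y⁆ ^ n ∈ Subgroup.center T := Subgroup.pow_mem _ (h x y) n
  exact (Subgroup.mem_center_iff.mp hc w).symm

/-- the power of a product in class two -/
theorem Cl2.mul_pow (h : Cl2 T) (x y : T) (n : ℕ) :
    (x * y) ^ n = x ^ n * y ^ n * ⁅y, x⁆ ^ (n.choose 2) := by
  induction n with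
  | zero => simp
  | succ n ih =>
    have hch : (n + 1).choose 2 = n + n.choose 2 := by
      rw [Nat.choose_succ_succ' n 1, Nat.choose_one_right]
    rw [pow_succ (x * y), ih, hch, pow_add ⁅y, x⁆ n]
    set K := ⁅y, x⁆ ^ (n.choose 2) with hK
    set C := ⁅y, x⁆ ^ n with hC
    have hKc : ∀ w, K * w = w * K := fun w => h.pow_comm y x w _
    have hCc : ∀ w, C * w = w * C := fun w => h.pow_comm y x w _
    have e1 : y ^ n * x = C * x * y ^ n := by
      rw [mul_eq_br_mul (y ^ n) x, h.pow_left]
    calc x ^ n * y ^ n * K * (x * y)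
        = x ^ n * (y ^ n * x) * y * K := by
          rw [mul_assoc (x ^ n * y ^ n) K, hKc (x * y)]; simp only [mul_assoc]
      _ = x ^ n * (C * x * y ^ n) * y * K := by rw [e1]
      _ = x ^ n * (x * y ^ n * C) * y * K := by rw [mul_assoc C x, hCc (x * y ^ n)]
      _ = x ^ n * x * (y ^ n * (C * y)) * K := by simp only [mul_assoc]
      _ = x ^ n * x * (y ^ n * (y * C)) * K := by rw [hCc y]
      _ = x ^ (n + 1) * y ^ (n + 1) * (C * K) := by
          rw [pow_succ x, pow_succ y]; simp only [mul_assoc]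

end Class2

section Aut

variable {T : Type u} [Group T] [Finite T]

theorem map_eq_of_map_le (φ : T ≃* T) (N : Subgroup T)
    (h : N.map φ.toMonoidHom ≤ N) : N.map φ.toMonoidHom = N :=
  Subgroup.eq_of_le_of_card_ge h
    (le_of_eq (Subgroup.card_map_of_injective (f := φ.toMonoidHom) φ.injective).symm)

/-- the hypotheses on the automorphism `φ` -/
structure AutHyp (φ : T ≃* T) : Prop where
  cl2 : Cl2 T
  na : ∃ a b : T, a * b ≠ b * a
  zfix : ∀ z ∈ Subgroup.center T, φ z = z
  zd : Subgroup.center T ≤ commutator T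
  inv : ∀ N : Subgroup T, N.map φ.toMonoidHom ≤ N → N ≠ ⊤ → N ≤ Subgroup.center T

variable {φ : T ≃* T}

theorem AutHyp.center_ne_top (H : AutHyp φ) : Subgroup.center T ≠ ⊤ := by
  intro htop
  obtain ⟨a, b, hab⟩ := H.na
  have ha : a ∈ Subgroup.center T := htop ▸ Subgroup.mem_top a
  exact hab (Subgroup.mem_center_iff.mp ha b).symm

theorem AutHyp.not_mem_center_of_ne (H : AutHyp φ) {a b : T} (hab : a * b ≠ b * a) :
    a ∉ Subgroup.center T := fun ha => hab (Subgroup.mem_center_iff.mp ha b).symm

/-- a commuting set which `φ` maps into the subgroup it generates with the centre is central -/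
theorem AutHyp.central_of_commuting (H : AutHyp φ) (S : Set T)
    (hS : ∀ a ∈ S, ∀ b ∈ S, a * b = b * a)
    (hφ : ∀ a ∈ S, φ a ∈ Subgroup.closure (S ∪ (Subgroup.center T : Set T))) :
    S ⊆ (Subgroup.center T : Set T) := by
  set N := Subgroup.closure (S ∪ (Subgroup.center T : Set T)) with hN
  have hNφ : N.map φ.toMonoidHom ≤ N := by
    rw [Subgroup.map_le_iff_le_comap, hN, Subgroup.closure_le]
    rintro x (hx | hx)
    · exact hφ x hx
    · show φ x ∈ N
      rw [H.zfix x hx]
      exact Subgroup.subset_closure (Or.inr hx)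
  have hNtop : N ≠ ⊤ := by
    intro htop
    have hSZ : S ⊆ (Subgroup.center T : Set T) := by
      intro a ha
      have hle : N ≤ Subgroup.centralizer ({a} : Set T) := by
        rw [hN, Subgroup.closure_le]
        rintro x (hx | hx)
        · show x ∈ Subgroup.centralizer ({a} : Set T)
          rw [Subgroup.mem_centralizer_singleton_iff]
          exact hS x hx a ha
        · show x ∈ Subgroup.centralizer ({a} : Set T)
          rw [Subgroup.mem_centralizer_singleton_iff]
          exact (Subgroup.mem_center_iff.mp hx a).symm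
      show a ∈ Subgroup.center T
      rw [Subgroup.mem_center_iff]
      intro g
      have hg : g ∈ Subgroup.centralizer ({a} : Set T) := hle (htop ▸ Subgroup.mem_top g)
      rw [Subgroup.mem_centralizer_singleton_iff] at hg
      exact hg
    have hNZ : N ≤ Subgroup.center T := by
      rw [hN, Subgroup.closure_le]
      rintro x (hx | hx)
      · exact hSZ hx
      · exact hx
    exact H.center_ne_top (top_le_iff.mp (htop ▸ hNZ))
  have hNZ := H.inv N hNφ hNtop
  intro a ha
  exact hNZ (Subgroup.subset_closure (Or.inl ha))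

/-- fixed points of `φ` are central -/
theorem AutHyp.fixed_mem_center (H : AutHyp φ) (y : T) (hy : φ y = y) :
    y ∈ Subgroup.center T := by
  have := H.central_of_commuting {y} (by
    intro a ha b hb
    rw [Set.mem_singleton_iff] at ha hb
    rw [ha, hb]) (by
    intro a ha
    rw [Set.mem_singleton_iff] at ha
    rw [ha, hy]
    exact Subgroup.subset_closure (Or.inl rfl))
  exact this rfl

/-! ### `p`-th powers of commutators -/

/-- the elements all of whose commutators have `p`-th power one -/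
def powKer (h : Cl2 T) (p : ℕ) : Subgroup T where
  carrier := {x : T | ∀ y : T, ⁅x, y⁆ ^ p = 1}
  one_mem' := fun y => by rw [commutatorElement_one_left, one_pow]
  mul_mem' := fun {a b} ha hb y => by
    have hc : Commute ⁅a, y⁆ ⁅b, y⁆ := h.comm a y ⁅b, y⁆
    rw [h.mul_left, hc.mul_pow, ha y, hb y, one_mul]
  inv_mem' := fun {a} ha y => by
    have : ⁅a⁻¹, y⁆ = (⁅a, y⁆)⁻¹ := map_inv (h.homL y) a
    rw [this, inv_pow, ha y, inv_one]

theorem mem_powKer (h : Cl2 T) (p : ℕ) (x : T) : x ∈ powKer h p ↔ ∀ y : T, ⁅x, y⁆ ^ p = 1 := Iff.rfl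

theorem exists_not_center_pow_mem {p : ℕ} (hT : IsPGroup p T)
    (hZ : Subgroup.center T ≠ ⊤) : ∃ x : T, x ∉ Subgroup.center T ∧ x ^ p ∈ Subgroup.center T := by
  classical
  have hex : ∃ x : T, x ∉ Subgroup.center T := by
    by_contra hcon
    push Not at hcon
    exact hZ (eq_top_iff.mpr fun x _ => hcon x)
  obtain ⟨x, hx⟩ := hex
  obtain ⟨k, hk⟩ := hT x
  have hP : ∃ m : ℕ, x ^ p ^ m ∈ Subgroup.center T := ⟨k, hk ▸ Subgroup.one_mem _⟩
  have hm0 : Nat.find hP ≠ 0 := by
    intro h0
    have := Nat.find_spec hP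
    rw [h0, pow_zero, pow_one] at this
    exact hx this
  obtain ⟨m', hm'⟩ := Nat.exists_eq_succ_of_ne_zero hm0
  refine ⟨x ^ p ^ m', ?_, ?_⟩
  · exact Nat.find_min hP (by omega)
  · have := Nat.find_spec hP
    rw [hm', pow_succ, pow_mul] at this
    exact this

variable {p : ℕ}

theorem AutHyp.powKer_eq_top (H : AutHyp φ) (hT : IsPGroup p T) : powKer H.cl2 p = ⊤ := by
  by_contra hne
  have hinv : (powKer H.cl2 p).map φ.toMonoidHom ≤ powKer H.cl2 p := by
    rintro _ ⟨x, hx, rfl⟩
    show φ x ∈ powKer H.cl2 p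
    rw [mem_powKer]
    intro y
    have hy : y = φ (φ.symm y) := (φ.apply_symm_apply y).symm
    have h1 : ⁅φ x, y⁆ = φ ⁅x, φ.symm y⁆ := by
      conv_lhs => rw [hy]
      exact (map_commutatorElement φ x (φ.symm y)).symm
    rw [h1, ← map_pow, (mem_powKer _ _ _).mp hx, map_one]
  have hle := H.inv _ hinv hne
  obtain ⟨x, hx, hxp⟩ := exists_not_center_pow_mem hT H.center_ne_top
  apply hx
  apply hle
  rw [mem_powKer]
  intro y
  rw [← H.cl2.pow_left]
  rw [commutatorElement_eq_one_iff_commute]
  exact (Subgroup.mem_center_iff.mp hxp y).symm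

theorem AutHyp.comm_pow (H : AutHyp φ) (hT : IsPGroup p T) (x y : T) : ⁅x, y⁆ ^ p = 1 := by
  have hx : x ∈ powKer H.cl2 p := H.powKer_eq_top hT ▸ Subgroup.mem_top x
  exact hx y

theorem AutHyp.pow_mem_center (H : AutHyp φ) (hT : IsPGroup p T) (x : T) :
    x ^ p ∈ Subgroup.center T := by
  rw [Subgroup.mem_center_iff]
  intro g
  have h1 : ⁅x ^ p, g⁆ = 1 := by rw [H.cl2.pow_left, H.comm_pow hT]
  exact (commutatorElement_eq_one_iff_commute.mp h1).eq.symm

/-! ### every central element is a commutator with a given non-central element -/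

/-- the elements all of whose commutators lie in `I` -/
def brInto (h : Cl2 T) (I : Subgroup T) : Subgroup T where
  carrier := {y' : T | ∀ x : T, ⁅y', x⁆ ∈ I}
  one_mem' := fun x => by rw [commutatorElement_one_left]; exact I.one_mem
  mul_mem' := fun {a b} ha hb x => by rw [h.mul_left]; exact I.mul_mem (ha x) (hb x)
  inv_mem' := fun {a} ha x => by
    have : ⁅a⁻¹, x⁆ = (⁅a, x⁆)⁻¹ := map_inv (h.homL x) a
    rw [this]; exact I.inv_mem (ha x)

theorem mem_brInto (h : Cl2 T) (I : Subgroup T) (y : T) : y ∈ brInto h I ↔ ∀ x : T, ⁅y, x⁆ ∈ I :=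
  Iff.rfl

theorem AutHyp.range_homR (H : AutHyp φ) (y : T) (hy : y ∉ Subgroup.center T) :
    (H.cl2.homR y).range = Subgroup.center T := by
  apply le_antisymm
  · rintro _ ⟨x, rfl⟩
    exact H.cl2 y x
  · set I := (H.cl2.homR y).range with hI
    have hIZ : I ≤ Subgroup.center T := by
      rintro _ ⟨x, rfl⟩
      exact H.cl2 y x
    have hinv : (brInto H.cl2 I).map φ.toMonoidHom ≤ brInto H.cl2 I := by
      rintro _ ⟨a, ha, rfl⟩
      show φ a ∈ brInto H.cl2 I
      rw [mem_brInto]
      intro x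
      have hx : x = φ (φ.symm x) := (φ.apply_symm_apply x).symm
      have h1 : ⁅φ a, x⁆ = φ ⁅a, φ.symm x⁆ := by
        conv_lhs => rw [hx]
        exact (map_commutatorElement φ a (φ.symm x)).symm
      have h2 : ⁅a, φ.symm x⁆ ∈ I := (mem_brInto _ _ _).mp ha _
      rw [h1, H.zfix _ (hIZ h2)]
      exact h2
    have hyN : y ∈ brInto H.cl2 I := by
      rw [mem_brInto]
      intro x
      exact ⟨x, rfl⟩
    have htop : brInto H.cl2 I = ⊤ := by
      by_contra hne
      exact hy (H.inv _ hinv hne hyN)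
    have hcomm : commutator T ≤ I := by
      rw [commutator_def, Subgroup.commutator_le]
      intro a _ b _
      have ha : a ∈ brInto H.cl2 I := htop ▸ Subgroup.mem_top a
      exact ha b
    exact H.zd.trans hcomm

theorem AutHyp.semi (H : AutHyp φ) (y : T) (hy : ∃ x : T, y * x ≠ x * y) (z : T)
    (hz : ∀ x : T, z * x = x * z) : ∃ g : T, y * g * y⁻¹ * g⁻¹ = z := by
  obtain ⟨x, hx⟩ := hy
  have hyZ : y ∉ Subgroup.center T := H.not_mem_center_of_ne hx
  have hzZ : z ∈ Subgroup.center T := by
    rw [Subgroup.mem_center_iff]; intro g; exact (hz g).symm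
  have : z ∈ (H.cl2.homR y).range := by rw [H.range_homR y hyZ]; exact hzZ
  obtain ⟨g, hg⟩ := this
  exact ⟨g, by rw [← hg]; rfl⟩

/-- counting with a non-central element -/
theorem AutHyp.card_eq (H : AutHyp φ) (y : T) (hy : y ∉ Subgroup.center T) :
    Nat.card T = Nat.card (H.cl2.homR y).ker * Nat.card (Subgroup.center T) ∧
      Nat.card (Subgroup.center T) < Nat.card (H.cl2.homR y).ker := by
  constructor
  · rw [← Subgroup.card_mul_index (H.cl2.homR y).ker, Subgroup.index_ker, H.range_homR y hy]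
  · by_contra hcon
    push Not at hcon
    have hle : Subgroup.center T ≤ (H.cl2.homR y).ker := by
      intro z hz
      rw [MonoidHom.mem_ker, Cl2.homR_apply, commutatorElement_eq_one_iff_commute]
      exact (Subgroup.mem_center_iff.mp hz y)
    have heq := Subgroup.eq_of_le_of_card_ge hle hcon
    apply hy
    rw [heq, MonoidHom.mem_ker, Cl2.homR_apply, commutatorElement_self]

/-- the square of the order of the centre is smaller than the order of `T` -/
theorem AutHyp.card_center_sq_lt (H : AutHyp φ) :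
    Nat.card (Subgroup.center T) * Nat.card (Subgroup.center T) < Nat.card T := by
  obtain ⟨a, b, hab⟩ := H.na
  have hy := H.not_mem_center_of_ne hab
  obtain ⟨h1, h2⟩ := H.card_eq a hy
  rw [h1]
  exact Nat.mul_lt_mul_of_lt_of_le h2 le_rfl Nat.card_pos

/-! ### exponent `p` for odd `p` -/

/-- the `p`-th power map for odd `p` -/
def AutHyp.powHom (H : AutHyp φ) (hp : p.Prime) (hp2 : p ≠ 2) (hT : IsPGroup p T) : T →* T where
  toFun x := x ^ p
  map_one' := one_pow p
  map_mul' a b := by
    rw [H.cl2.mul_pow]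
    have hdvd : p ∣ p.choose 2 :=
      hp.dvd_choose_self (by norm_num) (lt_of_le_of_ne hp.two_le (Ne.symm hp2))
    obtain ⟨k, hk⟩ := hdvd
    rw [hk, pow_mul, H.comm_pow hT, one_pow, mul_one]

theorem AutHyp.exp (H : AutHyp φ) (hp : p.Prime) (hp2 : p ≠ 2) (hT : IsPGroup p T) (x : T) :
    x ^ p = 1 := by
  set π := H.powHom hp hp2 hT with hπ
  by_cases htop : π.ker = ⊤
  · have hx : x ∈ π.ker := htop ▸ Subgroup.mem_top x
    exact hx
  · exfalso
    have hinv : π.ker.map φ.toMonoidHom ≤ π.ker := by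
      rintro _ ⟨a, ha, rfl⟩
      show φ a ∈ π.ker
      rw [MonoidHom.mem_ker]
      have ha' : a ^ p = 1 := ha
      show (φ a) ^ p = 1
      rw [← map_pow, ha', map_one]
    have hle := H.inv _ hinv htop
    have hrange : π.range ≤ Subgroup.center T := by
      rintro _ ⟨a, rfl⟩
      exact H.pow_mem_center hT a
    have h1 : Nat.card T = Nat.card π.ker * Nat.card π.range := by
      rw [← Subgroup.card_mul_index π.ker, Subgroup.index_ker]
    have h2 := Subgroup.card_le_of_le hle
    have h3 := Subgroup.card_le_of_le hrange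
    have h4 := H.card_center_sq_lt
    have h5 : Nat.card T ≤ Nat.card (Subgroup.center T) * Nat.card (Subgroup.center T) := by
      rw [h1]; exact Nat.mul_le_mul h2 h3
    omega

/-! ### counting fixed points -/

theorem AutHyp.card_modEq (H : AutHyp φ) (q : ℕ) [hq : Fact q.Prime] (hφq : ∀ x, φ^[q] x = x) :
    Nat.card T ≡ Nat.card (Subgroup.center T) [MOD q] := by
  let Φ : MulAut T := φ
  have hpow : ∀ (n : ℕ) (x : T), (Φ ^ n) x = φ^[n] x := by
    intro n
    induction n with
    | zero => intro x; simp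
    | succ n ih =>
      intro x
      rw [pow_succ, MulAut.mul_apply, Function.iterate_succ_apply, ih]
  have hΦq : Φ ^ q = 1 := by
    ext x
    rw [hpow, hφq]
    rfl
  have hPG : IsPGroup q (Subgroup.zpowers Φ) := by
    rintro ⟨g, hg⟩
    obtain ⟨k, rfl⟩ := Subgroup.mem_zpowers_iff.mp hg
    refine ⟨1, ?_⟩
    apply Subtype.ext
    show (Φ ^ k) ^ q ^ 1 = 1
    rw [pow_one, ← zpow_natCast, ← zpow_mul, mul_comm, zpow_mul, zpow_natCast, hΦq, one_zpow]
  have hfix : MulAction.fixedPoints (Subgroup.zpowers Φ) T = (Subgroup.center T : Set T) := by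
    ext x
    constructor
    · intro hx
      have h1 := hx ⟨Φ, Subgroup.mem_zpowers Φ⟩
      exact H.fixed_mem_center x h1
    · intro hx g
      have hle : Subgroup.zpowers Φ ≤ MulAction.stabilizer (MulAut T) x := by
        rw [Subgroup.zpowers_le, MulAction.mem_stabilizer_iff]
        exact H.zfix x hx
      exact hle g.2
  have h1 := hPG.card_modEq_card_fixedPoints T
  rw [hfix] at h1
  exact h1

theorem AutHyp.card_center (H : AutHyp φ) (hp : p.Prime) (hcard : Nat.card T = p ^ 3) :
    Nat.card (Subgroup.center T) = p := by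
  have hdvd : Nat.card (Subgroup.center T) ∣ p ^ 3 :=
    hcard ▸ Subgroup.card_subgroup_dvd_card (Subgroup.center T)
  obtain ⟨a, ha3, ha⟩ := (Nat.dvd_prime_pow hp).mp hdvd
  have hlt := H.card_center_sq_lt
  rw [ha, hcard, ← pow_add] at hlt
  have h2 : a + a < 3 := (Nat.pow_lt_pow_iff_right hp.one_lt).mp hlt
  have hT : IsPGroup p T := IsPGroup.of_card hcard
  have : Fact p.Prime := ⟨hp⟩
  have : Nontrivial T := by
    obtain ⟨x, y, hxy⟩ := H.na
    exact ⟨⟨x, y, fun h => hxy (by rw [h])⟩⟩
  have := hT.center_nontrivial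
  have h1 : 1 < Nat.card (Subgroup.center T) := Finite.one_lt_card
  have ha0 : a ≠ 0 := by
    rintro rfl
    rw [pow_zero] at ha
    omega
  have ha1 : a = 1 := by omega
  rw [ha, ha1, pow_one]

/-! ### the small cases -/

/-- `q = 2`: no such group -/
theorem AutHyp.false_of_two (H : AutHyp φ) (hφ2 : ∀ x, φ (φ x) = x) : False := by
  have hall : ∀ y : T, y ∈ Subgroup.center T := by
    intro y
    set n := y * φ y with hn
    have hφn : φ n = φ y * y := by rw [hn, map_mul, hφ2]
    have hc : n⁻¹ * φ n ∈ Subgroup.center T := by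
      have e : n⁻¹ * φ n = ⁅(φ y)⁻¹, y⁻¹⁆ := by
        rw [hφn, commutatorElement_def, hn]; group
      rw [e]; exact H.cl2 _ _
    have hnZ : n ∈ Subgroup.center T := by
      have h1 := H.central_of_commuting {n} (by
        intro a ha b hb
        rw [Set.mem_singleton_iff] at ha hb
        rw [ha, hb]) (by
        intro a ha
        rw [Set.mem_singleton_iff] at ha
        rw [ha]
        have e : φ n = n * (n⁻¹ * φ n) := by rw [mul_inv_cancel_left]
        rw [e]
        exact Subgroup.mul_mem _ (Subgroup.subset_closure (Or.inl rfl))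
          (Subgroup.subset_closure (Or.inr hc)))
      exact h1 rfl
    have hcomm : y * φ y = φ y * y := by
      have h1 := Subgroup.mem_center_iff.mp hnZ y
      -- y * n = n * y
      rw [hn] at h1
      have h2 : y * (y * φ y) = y * (φ y * y) := by rw [h1, mul_assoc]
      exact mul_left_cancel h2
    have h2 := H.central_of_commuting {y, φ y} (by
      intro a ha b hb
      rcases ha with rfl | ha <;> rcases hb with rfl | hb
      · rfl
      · rw [Set.mem_singleton_iff] at hb; rw [hb]; exact hcomm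
      · rw [Set.mem_singleton_iff] at ha; rw [ha]; exact hcomm.symm
      · rw [Set.mem_singleton_iff] at ha hb; rw [ha, hb]) (by
      intro a ha
      rcases ha with rfl | ha
      · exact Subgroup.subset_closure (Or.inl (Or.inr rfl))
      · rw [Set.mem_singleton_iff] at ha
        rw [ha, hφ2]
        exact Subgroup.subset_closure (Or.inl (Or.inl rfl)))
    exact h2 (Or.inl rfl)
  obtain ⟨a, b, hab⟩ := H.na
  exact hab (Subgroup.mem_center_iff.mp (hall a) b).symm

/-- `q = 3`, `|Z| = 2`: an element of order at most two is central -/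
theorem AutHyp.mem_center_of_three (H : AutHyp φ) (hφ3 : ∀ x, φ (φ (φ x)) = x)
    (hZ : Nat.card (Subgroup.center T) = 2) (r : T) (hr : r ^ 2 = 1) :
    r ∈ Subgroup.center T := by
  set r1 := φ r with hr1
  set r2 := φ r1 with hr2
  have hφr2 : φ r2 = r := hφ3 r
  have hr1sq : r1 ^ 2 = 1 := by rw [hr1, ← map_pow, hr, map_one]
  have hr2sq : r2 ^ 2 = 1 := by rw [hr2, ← map_pow, hr1sq, map_one]
  set n := r * r1 * r2 with hn
  have hφn : φ n = r1 * r2 * r := by rw [hn, map_mul, map_mul, hφr2]
  have hc : n⁻¹ * φ n ∈ Subgroup.center T := by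
    have e : n⁻¹ * φ n = ⁅n⁻¹, r⁻¹⁆ := by
      rw [hφn, commutatorElement_def, inv_inv, inv_inv]
      have : r1 * r2 * r = r⁻¹ * n * r := by rw [hn]; group
      rw [this]; group
    rw [e]; exact H.cl2 _ _
  have hnZ : n ∈ Subgroup.center T := by
    have h1 := H.central_of_commuting {n} (by
      intro a ha b hb
      rw [Set.mem_singleton_iff] at ha hb
      rw [ha, hb]) (by
      intro a ha
      rw [Set.mem_singleton_iff] at ha
      rw [ha]
      have e : φ n = n * (n⁻¹ * φ n) := by rw [mul_inv_cancel_left]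
      rw [e]
      exact Subgroup.mul_mem _ (Subgroup.subset_closure (Or.inl rfl))
        (Subgroup.subset_closure (Or.inr hc)))
    exact h1 rfl
  have hnsq : n ^ 2 = 1 := by
    have h1 : (⟨n, hnZ⟩ : Subgroup.center T) ^ Nat.card (Subgroup.center T) = 1 :=
      pow_card_eq_one'
    rw [hZ] at h1
    have h2 := congrArg Subtype.val h1
    simpa using h2
  have hncomm : ∀ w : T, n * w = w * n := fun w => (Subgroup.mem_center_iff.mp hnZ w).symm
  -- the square of `r * r1`
  have hsq1 : (r * r1) ^ 2 = ⁅r1, r⁆ := by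
    rw [H.cl2.mul_pow, hr, hr1sq, one_mul, one_mul]
    norm_num
  have hsq2 : (r * r1) ^ 2 = 1 := by
    have e : r * r1 = n * r2⁻¹ := by rw [hn]; group
    rw [e, pow_two]
    calc n * r2⁻¹ * (n * r2⁻¹) = n * (r2⁻¹ * n) * r2⁻¹ := by simp only [mul_assoc]
      _ = n * (n * r2⁻¹) * r2⁻¹ := by rw [hncomm r2⁻¹]
      _ = n ^ 2 * (r2 ^ 2)⁻¹ := by rw [pow_two, pow_two, mul_inv_rev]; simp only [mul_assoc]
      _ = 1 := by rw [hnsq, hr2sq, inv_one, mul_one]
  have hc01 : r1 * r = r * r1 := by
    have h1 : ⁅r1, r⁆ = 1 := by rw [← hsq1, hsq2]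
    exact (commutatorElement_eq_one_iff_commute.mp h1).eq
  have hc12 : r2 * r1 = r1 * r2 := by
    have := congrArg φ hc01
    rwa [map_mul, map_mul] at this
  have hc20 : r * r2 = r2 * r := by
    have := congrArg φ hc12
    rwa [map_mul, map_mul, hφr2] at this
  have h2 := H.central_of_commuting {r, r1, r2} (by
    intro a ha b hb
    rcases ha with rfl | ha | ha <;> rcases hb with rfl | hb | hb
    · rfl
    · rw [hb]; exact hc01.symm
    · rw [Set.mem_singleton_iff] at hb; rw [hb]; exact hc20
    · rw [ha]; exact hc01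
    · rw [ha, hb]
    · rw [Set.mem_singleton_iff] at hb; rw [ha, hb]; exact hc12.symm
    · rw [Set.mem_singleton_iff] at ha; rw [ha]; exact hc20.symm
    · rw [Set.mem_singleton_iff] at ha; rw [ha, hb]; exact hc12
    · rw [Set.mem_singleton_iff] at ha hb; rw [ha, hb]) (by
    intro a ha
    rcases ha with rfl | ha | ha
    · exact Subgroup.subset_closure (Or.inl (Or.inr (Or.inl rfl)))
    · rw [ha]
      exact Subgroup.subset_closure (Or.inl (Or.inr (Or.inr rfl)))
    · rw [Set.mem_singleton_iff] at ha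
      rw [ha, hφr2]
      exact Subgroup.subset_closure (Or.inl (Or.inl rfl)))
  exact h2 (Or.inl rfl)

theorem AutHyp.small (H : AutHyp φ) (hp : p.Prime) (q : ℕ) (hq : q.Prime) (hqp : q ≠ p)
    (hφq : ∀ x, φ^[q] x = x) (hp3 : p ≤ 3) :
    ¬ (Nat.card T = p ^ 3 ∧
      ∃ R : Subgroup T, Nat.card R = p ^ 2 ∧ ∀ x ∈ R, x ^ p = 1) := by
  rintro ⟨hcard, R, hRcard, hRexp⟩
  have hZ := H.card_center hp hcard
  have : Fact q.Prime := ⟨hq⟩
  have hmod := H.card_modEq q hφq
  rw [hcard, hZ] at hmod
  have hp2 := hp.two_le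
  have hp23 : p = 2 ∨ p = 3 := by omega
  rcases hp23 with rfl | rfl
  · -- p = 2, so q = 3
    have hdvd : q ∣ 2 ^ 3 - 2 := (Nat.modEq_iff_dvd' (by norm_num)).mp hmod.symm
    have hq3 : q = 3 := by
      have h6 : q ∣ 2 * 3 := by norm_num at hdvd ⊢; exact hdvd
      rcases (Nat.Prime.dvd_mul hq).mp h6 with h | h
      · exact absurd ((Nat.prime_dvd_prime_iff_eq hq Nat.prime_two).mp h) hqp
      · exact (Nat.prime_dvd_prime_iff_eq hq Nat.prime_three).mp h
    subst hq3
    have hφ3 : ∀ x, φ (φ (φ x)) = x := fun x => hφq x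
    -- an element of `R` outside the centre
    have hex : ∃ r ∈ R, r ∉ Subgroup.center T := by
      by_contra hcon
      push Not at hcon
      have hle : R ≤ Subgroup.center T := hcon
      have := Subgroup.card_le_of_le hle
      rw [hRcard, hZ] at this
      norm_num at this
    obtain ⟨r, hrR, hrZ⟩ := hex
    exact hrZ (H.mem_center_of_three hφ3 hZ r (hRexp r hrR))
  · -- p = 3, so q = 2
    have hdvd : q ∣ 3 ^ 3 - 3 := (Nat.modEq_iff_dvd' (by norm_num)).mp hmod.symm
    have hq2 : q = 2 := by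
      have h24 : q ∣ 2 ^ 3 * 3 := by norm_num at hdvd ⊢; exact hdvd
      rcases (Nat.Prime.dvd_mul hq).mp h24 with h | h
      · exact (Nat.prime_dvd_prime_iff_eq hq Nat.prime_two).mp (hq.dvd_of_dvd_pow h)
      · exact absurd ((Nat.prime_dvd_prime_iff_eq hq Nat.prime_three).mp h) hqp
    subst hq2
    exact H.false_of_two (fun x => hφq x)

end Aut

/-- **Package PA2.**  A finite non-abelian `p`-group `T` of class two with an automorphism `φ`
of prime order `q ≠ p` fixing the centre pointwise, whose centre lies in the derived subgroup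
and all of whose proper `φ`-invariant subgroups are central, has the structure `SE p T`. -/
theorem se_of_aut {T : Type u} [Group T] [Finite T] (p q : ℕ) [Fact p.Prime] (hq : q.Prime)
    (hqp : q ≠ p) (hT : IsPGroup p T) (φ : T ≃* T) (hφq : ∀ x, φ^[q] x = x)
    (hna : ∃ a b : T, a * b ≠ b * a)
    (hcls : ∀ x y z : T, (x * y * x⁻¹ * y⁻¹) * z = z * (x * y * x⁻¹ * y⁻¹))
    (hZfix : ∀ z : T, (∀ x, z * x = x * z) → φ z = z)
    (hZD : ∀ z : T, (∀ x, z * x = x * z) → z ∈ commutator T)
    (hinv : ∀ N : Subgroup T, N.map φ.toMonoidHom = N → N ≠ ⊤ → N ≤ Subgroup.center T) :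
    SE p T := by
  have hp : p.Prime := Fact.out
  have H : AutHyp φ :=
    { cl2 := by
        intro x y
        rw [Subgroup.mem_center_iff]
        intro g
        rw [commutatorElement_def]
        exact (hcls x y g).symm
      na := hna
      zfix := by
        intro z hz
        exact hZfix z (fun x => (Subgroup.mem_center_iff.mp hz x).symm)
      zd := by
        intro z hz
        exact hZD z (fun x => (Subgroup.mem_center_iff.mp hz x).symm)
      inv := by
        intro N hN hne
        exact hinv N (map_eq_of_map_le φ N hN) hne }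
  exact
    { cls := hcls
      pw := by
        intro x z
        exact (Subgroup.mem_center_iff.mp (H.pow_mem_center hT x) z).symm
      semi := H.semi
      exp := fun hp2 x => H.exp hp hp2 hT x
      small := H.small hp q hq hqp hφq }

end Cfsg.Agent.Lib.Helper3.Schm
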