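import Mathlib
import Cfsg.Prelude.Def_Local
import Cfsg.Agent.Lib.Helper9.PCore

/-!
# S4394 package PD: three abstract auxiliary lemmas

* `minpoly_of_sq_zero`: an endomorphism `f ≠ 1` with `(f - 1) ^ 2 = 0` has minimal polynomial
  `(X - 1) ^ 2`.
* `isPSolvable_of_normal_coprime`: a group with a normal `p'`-subgroup of `p`-power index is
  `p`-solvable.
* `pCore_eq_bot_of_not_inner`: `H = N⟨x⟩`, `N` a normal `p'`-subgroup, `x ^ p = 1`, `x` not
  inducing an inner automorphism of `N`: then `O_p(H) = 1`.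
-/

set_option autoImplicit false

namespace Cfsg.Agent.Lib.Helper3.Schm

open Polynomial

universe u v

theorem minpoly_of_sq_zero {F : Type u} {V : Type v} [Field F] [AddCommGroup V] [Module F V]
    [FiniteDimensional F V] (f : Module.End F V) (h2 : (f - 1) ^ 2 = 0) (h1 : f ≠ 1) :
    minpoly F f = (X - 1) ^ 2 := by
  have hint : IsIntegral F f := LinearMap.isIntegral f
  have hmon := minpoly.monic hint
  have haev : aeval f ((X - 1 : F[X]) ^ 2) = 0 := by
    simp [h2]
  have hdvd : minpoly F f ∣ (X - 1 : F[X]) ^ 2 := minpoly.dvd F f haev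
  have hprime : Prime (X - 1 : F[X]) := by
    have := prime_X_sub_C (1 : F)
    rwa [C_1] at this
  obtain ⟨i, hi, hassoc⟩ := (dvd_prime_pow hprime 2).mp hdvd
  have hmon2 : ((X - 1 : F[X]) ^ i).Monic := by
    have : (X - 1 : F[X]).Monic := by
      have := monic_X_sub_C (1 : F)
      rwa [C_1] at this
    exact this.pow i
  have heq := eq_of_monic_of_associated hmon hmon2 hassoc
  interval_cases i
  · exfalso
    rw [pow_zero] at heq
    have hnt : Nontrivial (Module.End F V) := ⟨⟨f, 1, h1⟩⟩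
    exact minpoly.ne_one F f heq
  · exfalso
    rw [pow_one] at heq
    have h0 := minpoly.aeval F f
    rw [heq] at h0
    simp at h0
    exact h1 (sub_eq_zero.mp h0)
  · exact heq

/-- pointwise form for a linear equivalence -/
theorem minpoly_of_sq_zero_equiv {F : Type u} {V : Type v} [Field F] [AddCommGroup V]
    [Module F V] [FiniteDimensional F V] (x : V ≃ₗ[F] V)
    (h2 : ∀ v : V, x (x v - v) = x v - v) (h1 : ∃ v : V, x v ≠ v) :
    minpoly F (x : Module.End F V) = (X - 1) ^ 2 := by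
  apply minpoly_of_sq_zero
  · apply LinearMap.ext
    intro v
    have := h2 v
    simp only [pow_two, Module.End.mul_apply, LinearMap.sub_apply, Module.End.one_apply,
      LinearEquiv.coe_coe, LinearMap.zero_apply, map_sub] at this ⊢
    rw [this]
    abel
  · intro h
    obtain ⟨v, hv⟩ := h1
    apply hv
    have := congrArg (fun g : Module.End F V => g v) h
    simpa using this

theorem isPSolvable_of_normal_coprime {H : Type u} [Group H] {p : ℕ} (N : Subgroup H)
    [hNn : N.Normal] (hN : (Nat.card N).Coprime p) (hq : ∃ m : ℕ, N.index = p ^ m) :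
    Cfsg.IsPSolvable p H := by
  refine ⟨2, ![⊥, N, ⊤], rfl, rfl, ?_, ?_, ?_⟩
  · rw [Fin.monotone_iff_le_succ]
    intro i
    fin_cases i
    · exact bot_le
    · exact le_top
  · intro i
    fin_cases i
    · show (⊥ : Subgroup H).Normal
      infer_instance
    · exact hNn
    · show (⊤ : Subgroup H).Normal
      infer_instance
  · intro i
    fin_cases i
    · right
      show ((⊥ : Subgroup H).relIndex N).Coprime p
      rw [Subgroup.relIndex_bot_left]
      exact hN
    · left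
      obtain ⟨m, hm⟩ := hq
      refine ⟨m, ?_⟩
      show N.relIndex ⊤ = p ^ m
      rw [Subgroup.relIndex_top_right]
      exact hm

theorem pCore_eq_bot_of_not_inner {H : Type u} [Group H] [Finite H] {p : ℕ} [hp : Fact p.Prime]
    (N : Subgroup H) [hNn : N.Normal] (hN : (Nat.card N).Coprime p) (x : H)
    (hx : ∀ h : H, ∃ n ∈ N, ∃ i : ℕ, h = n * x ^ i) (hxp : x ^ p = 1)
    (hninn : ∀ n₀ ∈ N, ∃ n ∈ N, x * n * x⁻¹ ≠ n₀ * n * n₀⁻¹) : Cfsg.pCore p H = ⊥ := by
  set P := Cfsg.pCore p H with hP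
  have hPn : P.Normal := Cfsg.Agent.Lib.Helper9.pCore_normal' p
  have hPp : IsPGroup p P := Cfsg.Agent.Lib.Helper9.pCore_isPGroup' p
  -- `P ∩ N = 1`
  have hdisj : ∀ g : H, g ∈ P → g ∈ N → g = 1 := by
    intro g hgP hgN
    have h1 : orderOf g ∣ Nat.card N := by
      have := orderOf_dvd_natCard (⟨g, hgN⟩ : N)
      rwa [Subgroup.orderOf_mk] at this
    obtain ⟨k, hk⟩ := hPp ⟨g, hgP⟩
    have h2 : orderOf g ∣ p ^ k := by
      apply orderOf_dvd_of_pow_eq_one
      have := congrArg Subtype.val hk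
      simpa using this
    have h3 : (Nat.card N).Coprime (p ^ k) := Nat.Coprime.pow_right k hN
    have h4 : orderOf g = 1 := Nat.eq_one_of_dvd_coprimes h3 h1 h2
    exact orderOf_eq_one_iff.mp h4
  -- `P` centralizes `N`
  have hcent : ∀ g ∈ P, ∀ n ∈ N, g * n * g⁻¹ = n := by
    intro g hg n hn
    have h1 : g * n * g⁻¹ * n⁻¹ ∈ P := by
      have : n * g⁻¹ * n⁻¹ ∈ P := hPn.conj_mem g⁻¹ (P.inv_mem hg) n
      have h2 := P.mul_mem hg this
      have e : g * (n * g⁻¹ * n⁻¹) = g * n * g⁻¹ * n⁻¹ := by group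
      rwa [e] at h2
    have h2 : g * n * g⁻¹ * n⁻¹ ∈ N := by
      have : g * n * g⁻¹ ∈ N := hNn.conj_mem n hn g
      exact N.mul_mem this (N.inv_mem hn)
    have h3 := hdisj _ h1 h2
    exact mul_inv_eq_one.mp h3
  rw [eq_bot_iff]
  intro h hh
  rw [Subgroup.mem_bot]
  obtain ⟨n, hn, i, hi⟩ := hx h
  by_cases hpi : p ∣ i
  · obtain ⟨k, rfl⟩ := hpi
    rw [pow_mul, hxp, one_pow, mul_one] at hi
    exact hdisj h hh (hi ▸ hn)
  · exfalso
    -- `i * j ≡ 1 mod p`
    have hcop : Nat.Coprime i p := ((Nat.Prime.coprime_iff_not_dvd hp.out).mpr hpi).symm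
    obtain ⟨j, -, hj⟩ := Nat.exists_mul_mod_eq_one_of_coprime hcop hp.out.one_lt
    -- the element `h ^ j * x⁻¹` lies in `N`
    have hquot : ((h ^ j * x⁻¹ : H) : H ⧸ N) = 1 := by
      have e1 : ((h : H) : H ⧸ N) = ((x : H) : H ⧸ N) ^ i := by
        rw [hi, QuotientGroup.mk_mul, (QuotientGroup.eq_one_iff n).mpr hn, one_mul,
          QuotientGroup.mk_pow]
      have e2 : ((x : H) : H ⧸ N) ^ (i * j) = ((x : H) : H ⧸ N) := by
        have hdiv := Nat.div_add_mod (i * j) p
        rw [hj] at hdiv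
        rw [← hdiv, pow_add, pow_mul, ← QuotientGroup.mk_pow, hxp, QuotientGroup.mk_one, one_pow,
          one_mul, pow_one]
      rw [QuotientGroup.mk_mul, QuotientGroup.mk_pow, e1, ← pow_mul, e2, QuotientGroup.mk_inv,
        mul_inv_cancel]
    have hn' : h ^ j * x⁻¹ ∈ N := (QuotientGroup.eq_one_iff _).mp hquot
    set n' := h ^ j * x⁻¹ with hn'def
    have hhj : h ^ j = n' * x := by rw [hn'def]; group
    have hhjP : n' * x ∈ P := hhj ▸ P.pow_mem hh j
    obtain ⟨m, hm, hne⟩ := hninn n'⁻¹ (N.inv_mem hn')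
    apply hne
    have h5 := hcent _ hhjP m hm
    -- n' x m x⁻¹ n'⁻¹ = m
    rw [inv_inv]
    have e : x * m * x⁻¹ = n'⁻¹ * (n' * x * m * (n' * x)⁻¹) * n' := by group
    rw [e, h5]

end Cfsg.Agent.Lib.Helper3.Schm
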