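import Cfsg.Agent.Lib.Helper5.SchmDefs
import Cfsg.Agent.Lib.Helper4.SchmPC1
import Cfsg.Agent.Lib.Helper4.PL3
import Cfsg.Agent.Lib.Helper4.HallHigman
import Cfsg.Agent.Lib.Helper7.PSolvable

/-!
# S4394 package PE: the glue

* `SE.of_mulEquiv`: transport of the structure `SE` along a group isomorphism.
* `plength_le_one_of_se`: a `p`-solvable group whose Sylow `p`-subgroup is abelian or `SE` has
  `p`-length at most one, given that no configuration exists.
* `s4394_of`: the statement of S4394 from the two packages PA and PC2 taken as hypotheses.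
-/

set_option autoImplicit false
set_option linter.unusedSectionVars false
set_option linter.unusedVariables false

namespace Cfsg.Agent.Lib.Helper3.Schm

open Cfsg Cfsg.Agent.Lib.Helper5.Schm

universe u v

/-- the statement of package PC2 -/
def NoConfigStatement : Prop :=
  ∀ {G : Type u} [Group G] [Finite G] {p : ℕ} [Fact p.Prime] (hG : Cfsg.IsPSolvable p G)
    (hO : Cfsg.pPrimeCore p G = ⊥) (S : Sylow p G) (hS : SE p ↥(S : Subgroup G))
    (M : Subgroup G) (r : ℕ) (s : G) (h : Config p G (S : Subgroup G) M r s), False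

theorem SE.of_mulEquiv {p : ℕ} {T : Type u} {T' : Type v} [Group T] [Group T'] (e : T ≃* T')
    (h : SE p T) : SE p T' where
  cls := by
    intro x y z
    apply e.symm.injective
    simp only [map_mul, map_inv]
    exact h.cls _ _ _
  pw := by
    intro x z
    apply e.symm.injective
    simp only [map_mul, map_pow]
    exact h.pw _ _
  semi := by
    intro y hy z hz
    obtain ⟨x, hx⟩ := hy
    have hy' : ∃ x' : T, e.symm y * x' ≠ x' * e.symm y := by
      refine ⟨e.symm x, ?_⟩
      intro hcon
      apply hx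
      apply e.symm.injective
      simpa only [map_mul] using hcon
    have hz' : ∀ x' : T, e.symm z * x' = x' * e.symm z := by
      intro x'
      have := hz (e x')
      have h2 := congrArg e.symm this
      simpa only [map_mul, e.symm_apply_apply] using h2
    obtain ⟨g, hg⟩ := h.semi (e.symm y) hy' (e.symm z) hz'
    refine ⟨e g, ?_⟩
    apply e.symm.injective
    simpa only [map_mul, map_inv, e.symm_apply_apply] using hg
  exp := by
    intro hp2 x
    apply e.symm.injective
    rw [map_pow, map_one]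
    exact h.exp hp2 _
  small := by
    intro hp3 hcon
    apply h.small hp3
    obtain ⟨hcard, R, hR, hRexp⟩ := hcon
    refine ⟨?_, R.map e.symm.toMonoidHom, ?_, ?_⟩
    · rw [← hcard]
      exact Nat.card_congr e.toEquiv
    · rw [Subgroup.card_map_of_injective (f := e.symm.toMonoidHom) e.symm.injective, hR]
    · rintro _ ⟨x, hx, rfl⟩
      show (e.symm x) ^ p = 1
      rw [← map_pow, hRexp x hx, map_one]

section Main

variable {G : Type u} [Group G] [Finite G]

/-- a `p`-subgroup maps isomorphically into the quotient by a normal `p'`-subgroup -/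
noncomputable def equivMapMk {p : ℕ} [Fact p.Prime] (K : Subgroup G) [K.Normal]
    (hK : (Nat.card K).Coprime p) (Q : Subgroup G) (hQ : IsPGroup p Q) :
    ↥Q ≃* ↥(Q.map (QuotientGroup.mk' K)) := by
  have hinj : Function.Injective ((QuotientGroup.mk' K).comp Q.subtype) := by
    rw [injective_iff_map_eq_one]
    intro a ha
    have haK : (a : G) ∈ K := by
      have : (QuotientGroup.mk' K) (a : G) = 1 := ha
      rwa [QuotientGroup.mk'_apply, QuotientGroup.eq_one_iff] at this
    have h1 : orderOf (a : G) ∣ Nat.card K := by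
      have := orderOf_dvd_natCard (⟨(a : G), haK⟩ : K)
      rwa [Subgroup.orderOf_mk] at this
    obtain ⟨k, hk⟩ := hQ a
    have h2 : orderOf (a : G) ∣ p ^ k := by
      apply orderOf_dvd_of_pow_eq_one
      have := congrArg Subtype.val hk
      simpa using this
    have h3 : (Nat.card K).Coprime (p ^ k) := Nat.Coprime.pow_right k hK
    have h4 : orderOf (a : G) = 1 := Nat.eq_one_of_dvd_coprimes h3 h1 h2
    exact Subtype.ext (orderOf_eq_one_iff.mp h4)
  have hrange : ((QuotientGroup.mk' K).comp Q.subtype).range = Q.map (QuotientGroup.mk' K) := by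
    rw [MonoidHom.range_comp, Subgroup.range_subtype]
  exact (MonoidHom.ofInjective hinj).trans (MulEquiv.subgroupCongr hrange)

theorem plength_le_one_of_se (hNC : NoConfigStatement.{u}) (p : ℕ) [hp : Fact p.Prime]
    (hG : Cfsg.IsPSolvable p G) (Q : Sylow p G)
    (hQ : (∀ a b : ↥(Q : Subgroup G), a * b = b * a) ∨ SE p ↥(Q : Subgroup G)) :
    Cfsg.PLengthLE p 1 G := by
  have hKn : (pPrimeCore p G).Normal := Cfsg.Agent.Lib.Helper7.SylNorm.pPrimeCore_normal' p
  apply Cfsg.Agent.Lib.Helper4.PL.pLengthLE_one_of_normal Q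
  apply Cfsg.Agent.Lib.Helper4.PL.sup_sylow_normal_of_quotient Q
  intro T
  have hred : pPrimeCore p (G ⧸ pPrimeCore p G) = ⊥ :=
    Cfsg.Agent.Lib.Helper4.pPrimeCore_quotient_self p
  have hGq : Cfsg.IsPSolvable p (G ⧸ pPrimeCore p G) :=
    Cfsg.Agent.Lib.Helper7.isPSolvable_quotient hG _
  have hc := Cfsg.Agent.Lib.Helper4.centralizer_pCore_le_of_isPSolvable hGq hred
  set π := QuotientGroup.mk' (pPrimeCore p G) with hπ
  have hπs : Function.Surjective π := QuotientGroup.mk'_surjective _
  set T₀ : Sylow p (G ⧸ pPrimeCore p G) := Q.mapSurjective hπs with hT₀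
  have hT₀coe : (T₀ : Subgroup (G ⧸ pPrimeCore p G)) = (Q : Subgroup G).map π := rfl
  -- the isomorphism `Q ≃* T₀`
  have e : ↥(Q : Subgroup G) ≃* ↥(T₀ : Subgroup (G ⧸ pPrimeCore p G)) :=
    equivMapMk (pPrimeCore p G) (Cfsg.Agent.Lib.Helper6.pPrimeCore_coprime p) (Q : Subgroup G)
      Q.isPGroup'
  have hT₀le : (T₀ : Subgroup (G ⧸ pPrimeCore p G)) ≤ pCore p (G ⧸ pPrimeCore p G) := by
    rcases hQ with hab | hse
    · -- abelian
      have hT₀ab : ∀ a ∈ (T₀ : Subgroup (G ⧸ pPrimeCore p G)),
          ∀ b ∈ (T₀ : Subgroup (G ⧸ pPrimeCore p G)), a * b = b * a := by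
        rw [hT₀coe]
        rintro a ⟨a', ha', rfl⟩ b ⟨b', hb', rfl⟩
        have := hab ⟨a', ha'⟩ ⟨b', hb'⟩
        have h2 := congrArg Subtype.val this
        simp only [Subgroup.coe_mul] at h2
        rw [← map_mul, ← map_mul, h2]
      intro t ht
      apply hc
      rw [Subgroup.mem_centralizer_iff]
      intro z hz
      exact hT₀ab z (Cfsg.Agent.Lib.Helper6.pCore_le_sylow T₀ hz) t ht
    · -- SE
      have hse' : SE p ↥(T₀ : Subgroup (G ⧸ pPrimeCore p G)) := SE.of_mulEquiv e hse
      by_contra hnot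
      obtain ⟨M, r, s, hcfg⟩ :=
        Cfsg.Agent.Lib.Helper4.Schm.exists_config hGq hred T₀ hse' hnot
      exact hNC hGq hred T₀ hse' M r s hcfg
  -- all Sylow subgroups lie in the normal p-core once one does
  obtain ⟨g, hg⟩ := MulAction.exists_smul_eq (G ⧸ pPrimeCore p G) T₀ T
  rw [← hg, Sylow.smul_def, Sylow.pointwise_smul_def]
  intro x hx
  rw [Subgroup.mem_smul_pointwise_iff_exists] at hx
  obtain ⟨s, hs, rfl⟩ := hx
  rw [MulAut.smul_def, MulAut.conj_apply]
  exact (Cfsg.Agent.Lib.Lead.pCore_normal (G := G ⧸ pPrimeCore p G) p).conj_mem s (hT₀le hs) g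

end Main

/-- **S4394 from the packages PA and PC2.** -/
theorem s4394_of {G : Type u} {X : Type v} [Group G] [Finite G] [Group X] [Finite X] (p : ℕ)
    [Fact p.Prime] (hNC : NoConfigStatement.{u}) (P : Sylow p X)
    (hPA : (∀ a b : ↥(P : Subgroup X), a * b = b * a) ∨ SE p ↥(P : Subgroup X))
    (hG : Cfsg.IsPSolvable p G) (Q : Sylow p G)
    (hQ : Nonempty (↥(Q : Subgroup G) ≃* ↥(P : Subgroup X))) : Cfsg.PLengthLE p 1 G := by
  obtain ⟨e⟩ := hQ
  apply plength_le_one_of_se hNC p hG Q
  rcases hPA with hab | hse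
  · left
    intro a b
    apply e.injective
    rw [map_mul, map_mul]
    exact hab _ _
  · right
    exact SE.of_mulEquiv e.symm hse

end Cfsg.Agent.Lib.Helper3.Schm
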