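import Mathlib

/-!
# A semilinear self-map of a finite field of order `p ^ q` whose `p`-th iterate is the identity

Algebraic core of step (S3) of the S1472 blueprint: if `T : F → F` is additive, satisfies
`T (l * c) = τ l * T c` for all `l` in an additively spanning set `S`, and `T^[p] = id`, where
`|F| = p ^ q` with primes `p ≠ q`, then `T = id`.
-/

set_option autoImplicit false

namespace Cfsg.Agent.Lib.Helper3.SemilinId

open Function

theorem semilinear_eq_id {F : Type*} [Field F] [Fintype F] {p q : ℕ} [hp : Fact p.Prime]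
    [hq : Fact q.Prime] (hpq : p ≠ q) (hF : Fintype.card F = p ^ q) (S : Set F)
    (hS : AddSubgroup.closure S = ⊤) (T τ : F → F) (hTadd : ∀ a b, T (a + b) = T a + T b)
    (hsemi : ∀ l ∈ S, ∀ c, T (l * c) = τ l * T c) (hTp : T^[p] = id) : ∀ c, T c = c := by
  classical
  have hp1 : 1 ≤ p := hp.out.one_lt.le
  -- characteristic
  haveI hchar : CharP F p := by
    obtain ⟨r, hr⟩ := CharP.exists F
    haveI := hr
    obtain ⟨n, hrp, hcard⟩ := FiniteField.card F r
    have h1 : p ∣ r ^ (n : ℕ) := by
      rw [← hcard, hF]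
      exact dvd_pow_self p hq.out.ne_zero
    have h2 : p ∣ r := hp.out.dvd_of_dvd_pow h1
    have h3 : p = r := (Nat.prime_dvd_prime_iff_eq hp.out hrp).mp h2
    subst h3
    exact hr
  -- T is injective, T 0 = 0
  have hTinj : Injective T := by
    have h : LeftInverse (T^[p - 1]) T := by
      intro a
      have : T^[p - 1] (T a) = T^[p] a := by
        rw [← Function.iterate_succ_apply]
        congr 1
        omega
      rw [this, hTp]
      rfl
    exact h.injective
  have hT0 : T 0 = 0 := by
    have := hTadd 0 0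
    rw [add_zero] at this
    exact left_eq_add.mp this
  have hTne : ∀ c, c ≠ 0 → T c ≠ 0 := by
    intro c hc h
    exact hc (hTinj (h.trans hT0.symm))
  -- the additive maps g c
  let Tadd : F →+ F := AddMonoidHom.mk' T hTadd
  let g : F → (F →+ F) := fun c =>
    (AddMonoidHom.mulRight (T c)⁻¹).comp (Tadd.comp (AddMonoidHom.mulRight c))
  have hg : ∀ c a, g c a = T (a * c) * (T c)⁻¹ := fun c a => rfl
  have hgS : ∀ c, c ≠ 0 → ∀ l ∈ S, g c l = τ l := by
    intro c hc l hl
    rw [hg, hsemi l hl c, mul_assoc, mul_inv_cancel₀ (hTne c hc), mul_one]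
  have hgeq : ∀ c, c ≠ 0 → g c = g 1 := by
    intro c hc
    apply AddMonoidHom.eq_of_eqOn_dense hS
    intro l hl
    rw [hgS c hc l hl, hgS 1 one_ne_zero l hl]
  set σ : F → F := fun a => g 1 a with hσ
  have hσT : ∀ a c, T (a * c) = σ a * T c := by
    intro a c
    by_cases hc : c = 0
    · subst hc
      simp [hT0]
    · have h1 : g c a = σ a := by rw [hgeq c hc]
      rw [hg] at h1
      rw [← h1, mul_assoc, inv_mul_cancel₀ (hTne c hc), mul_one]
  have hσadd : ∀ a b, σ (a + b) = σ a + σ b := fun a b => map_add (g 1) a b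
  have hσ1 : σ 1 = 1 := by
    simp only [hσ, hg, one_mul]
    exact mul_inv_cancel₀ (hTne 1 one_ne_zero)
  have hσmul : ∀ a b, σ (a * b) = σ a * σ b := by
    intro a b
    have h1 : T (a * b * 1) = σ (a * b) * T 1 := hσT (a * b) 1
    have h2 : T (a * b * 1) = σ a * (σ b * T 1) := by
      rw [mul_assoc, hσT a (b * 1), hσT b 1]
    have h3 : σ (a * b) * T 1 = σ a * σ b * T 1 := by
      rw [← h1, h2, mul_assoc]
    exact mul_right_cancel₀ (hTne 1 one_ne_zero) h3
  have hσ0 : σ 0 = 0 := map_zero (g 1)
  let σR : F →+* F :=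
    { toFun := σ
      map_one' := hσ1
      map_mul' := hσmul
      map_zero' := hσ0
      map_add' := hσadd }
  -- iterates
  have hiter : ∀ k : ℕ, ∀ a c, T^[k] (a * c) = σ^[k] a * T^[k] c := by
    intro k
    induction k with
    | zero => intro a c; rfl
    | succ k ih =>
      intro a c
      rw [Function.iterate_succ_apply', Function.iterate_succ_apply',
        Function.iterate_succ_apply', ih, hσT]
  have hσp : ∀ a, σ^[p] a = a := by
    intro a
    have := hiter p a 1
    rw [hTp] at this
    simpa using this.symm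
  -- the Galois group has order q
  letI : Algebra (ZMod p) F := ZMod.algebra F p
  let σA : F →ₐ[ZMod p] F :=
    { σR with
      commutes' := fun r =>
        RingHom.congr_fun
          (Subsingleton.elim (σR.comp (algebraMap (ZMod p) F)) (algebraMap (ZMod p) F)) r }
  have hσbij : Bijective σA := by
    have : Injective σA := σR.injective
    exact Finite.injective_iff_bijective.mp this
  let σE : F ≃ₐ[ZMod p] F := AlgEquiv.ofBijective σA hσbij
  have hσE : ∀ a, σE a = σ a := fun a => rfl
  have hσEp : σE ^ p = 1 := by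
    ext a
    rw [AlgEquiv.coe_pow]
    have : (⇑σE)^[p] = σ^[p] := by
      congr 1
    rw [this, hσp]
    rfl
  have hcard : Nat.card (F ≃ₐ[ZMod p] F) = q := by
    rw [IsGalois.card_aut_eq_finrank]
    have h1 : Fintype.card F = Fintype.card (ZMod p) ^ Module.finrank (ZMod p) F :=
      Module.card_eq_pow_finrank
    rw [ZMod.card, hF] at h1
    exact (Nat.pow_right_injective hp.out.two_le h1).symm
  have hσEq : σE ^ q = 1 := by
    rw [← hcard]
    exact pow_card_eq_one'
  have hσE1 : σE = 1 := by
    have h1 : orderOf σE ∣ p := orderOf_dvd_of_pow_eq_one hσEp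
    have h2 : orderOf σE ∣ q := orderOf_dvd_of_pow_eq_one hσEq
    have hcop : Nat.Coprime p q := (Nat.coprime_primes hp.out hq.out).mpr hpq
    have h3 : orderOf σE ∣ 1 := by
      have := Nat.dvd_gcd h1 h2
      rwa [hcop.gcd_eq_one] at this
    exact orderOf_eq_one_iff.mp (Nat.dvd_one.mp h3)
  have hσid : ∀ a, σ a = a := by
    intro a
    rw [← hσE, hσE1]
    rfl
  -- T is multiplication by c0 = T 1 and c0 ^ p = 1
  have hTmul : ∀ a, T a = a * T 1 := by
    intro a
    have := hσT a 1
    rwa [mul_one, hσid] at this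
  have hTk : ∀ k : ℕ, ∀ a, T^[k] a = a * (T 1) ^ k := by
    intro k
    induction k with
    | zero => intro a; simp
    | succ k ih =>
      intro a
      rw [Function.iterate_succ_apply', ih, hTmul, pow_succ, mul_assoc]
  have hc0 : (T 1) ^ p = 1 := by
    have := hTk p 1
    rw [hTp, one_mul] at this
    exact this.symm
  have hc01 : T 1 = 1 := by
    have h : (T 1 - 1) ^ p = 0 := by
      rw [sub_pow_char, hc0, one_pow, sub_self]
    exact sub_eq_zero.mp (pow_eq_zero_iff (hp.out.ne_zero) |>.mp h)
  intro c
  rw [hTmul, hc01, mul_one]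

end Cfsg.Agent.Lib.Helper3.SemilinId
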