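import Mathlib
import Cfsg.Prelude.Def_Balance

set_option autoImplicit false

/-!
A signalizer functor on a four-group in the symmetric group of degree five that is not complete.
-/

namespace Cfsg.Agent.Lib.Helper3.SigExample

abbrev P5 := Equiv.Perm (Fin 5)

def s : P5 := Equiv.swap 0 1
def t : P5 := Equiv.swap 2 3
def c₁ : P5 := Equiv.swap 2 3 * Equiv.swap 3 4
def c₂ : P5 := Equiv.swap 0 1 * Equiv.swap 1 4

/-- the four group -/
def A4 : Subgroup P5 where
  carrier := {x | x = 1 ∨ x = s ∨ x = t ∨ x = s * t}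
  mul_mem' := by
    rintro x y (rfl | rfl | rfl | rfl) (rfl | rfl | rfl | rfl) <;>
      simp only [Set.mem_ofPred_eq] <;> decide
  one_mem' := Or.inl rfl
  inv_mem' := by
    rintro x (rfl | rfl | rfl | rfl) <;> simp only [Set.mem_ofPred_eq] <;> decide

def T1 : Subgroup P5 where
  carrier := {x | x = 1 ∨ x = c₁ ∨ x = c₁⁻¹}
  mul_mem' := by
    rintro x y (rfl | rfl | rfl) (rfl | rfl | rfl) <;> simp only [Set.mem_ofPred_eq] <;> decide
  one_mem' := Or.inl rfl
  inv_mem' := by
    rintro x (rfl | rfl | rfl) <;> simp only [Set.mem_ofPred_eq] <;> decide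

def T2 : Subgroup P5 where
  carrier := {x | x = 1 ∨ x = c₂ ∨ x = c₂⁻¹}
  mul_mem' := by
    rintro x y (rfl | rfl | rfl) (rfl | rfl | rfl) <;> simp only [Set.mem_ofPred_eq] <;> decide
  one_mem' := Or.inl rfl
  inv_mem' := by
    rintro x (rfl | rfl | rfl) <;> simp only [Set.mem_ofPred_eq] <;> decide

theorem mem_A4 {x : P5} : x ∈ A4 ↔ x = 1 ∨ x = s ∨ x = t ∨ x = s * t := Iff.rfl
theorem mem_T1 {x : P5} : x ∈ T1 ↔ x = 1 ∨ x = c₁ ∨ x = c₁⁻¹ := Iff.rfl
theorem mem_T2 {x : P5} : x ∈ T2 ↔ x = 1 ∨ x = c₂ ∨ x = c₂⁻¹ := Iff.rfl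

open Classical in
noncomputable def θ : P5 → Subgroup P5 := fun x => if x = s then T1 else if x = t then T2 else ⊥

theorem θ_s : θ s = T1 := by simp [θ]
theorem θ_t : θ t = T2 := by
  have : t ≠ s := by decide
  simp [θ, this]
theorem θ_st : θ (s * t) = ⊥ := by
  have h1 : s * t ≠ s := by decide
  have h2 : s * t ≠ t := by decide
  simp [θ, h1, h2]

theorem card_T1 : Nat.card T1 = 3 := by
  have h1 : (T1 : Set P5) = {1, c₁, c₁⁻¹} := rfl
  have h2 : Nat.card T1 = (T1 : Set P5).ncard := rfl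
  rw [h2, h1, Set.ncard_eq_three]
  exact ⟨1, c₁, c₁⁻¹, by decide, by decide, by decide, rfl⟩

theorem card_T2 : Nat.card T2 = 3 := by
  have h1 : (T2 : Set P5) = {1, c₂, c₂⁻¹} := rfl
  have h2 : Nat.card T2 = (T2 : Set P5).ncard := rfl
  rw [h2, h1, Set.ncard_eq_three]
  exact ⟨1, c₂, c₂⁻¹, by decide, by decide, by decide, rfl⟩

theorem card_A4 : Nat.card A4 = 4 := by
  have h1 : (A4 : Set P5) = {1, s, t, s * t} := rfl
  have h2 : Nat.card A4 = (A4 : Set P5).ncard := rfl
  rw [h2, h1]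
  have h3 : ({s, t, s * t} : Set P5).ncard = 3 := by
    rw [Set.ncard_eq_three]
    exact ⟨s, t, s * t, by decide, by decide, by decide, rfl⟩
  rw [Set.ncard_insert_of_notMem, h3]
  simp only [Set.mem_insert_iff, Set.mem_singleton_iff]
  decide

theorem ea_A4 : Cfsg.IsElementaryAbelian 2 A4 := by
  refine ⟨⟨⟨?_⟩⟩, ?_⟩
  · rintro ⟨x, hx⟩ ⟨y, hy⟩
    apply Subtype.ext
    show x * y = y * x
    rcases mem_A4.mp hx with rfl | rfl | rfl | rfl <;> rcases mem_A4.mp hy with rfl | rfl | rfl | rfl <;>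
      decide
  · intro a ha
    rcases mem_A4.mp ha with rfl | rfl | rfl | rfl <;> decide

theorem sigFunctor : Cfsg.IsSignalizerFunctor 2 A4 θ := by
  refine ⟨?_, ?_, ?_, ?_⟩
  · intro a ha ha1
    rcases mem_A4.mp ha with rfl | rfl | rfl | rfl
    · exact (ha1 rfl).elim
    · rw [θ_s]
      intro x hx
      rw [Subgroup.mem_centralizer_singleton_iff]
      rcases mem_T1.mp hx with rfl | rfl | rfl <;> decide
    · rw [θ_t]
      intro x hx
      rw [Subgroup.mem_centralizer_singleton_iff]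
      rcases mem_T2.mp hx with rfl | rfl | rfl <;> decide
    · rw [θ_st]; exact bot_le
  · intro a ha ha1
    rcases mem_A4.mp ha with rfl | rfl | rfl | rfl
    · exact (ha1 rfl).elim
    · rw [θ_s, card_T1]; decide
    · rw [θ_t, card_T2]; decide
    · rw [θ_st, Subgroup.card_bot]; decide
  · intro a ha ha1 b hb x hx
    rcases mem_A4.mp ha with rfl | rfl | rfl | rfl
    · exact (ha1 rfl).elim
    · rw [θ_s] at hx ⊢
      rw [mem_T1] at hx ⊢
      rcases mem_A4.mp hb with rfl | rfl | rfl | rfl <;> rcases hx with rfl | rfl | rfl <;> decide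
    · rw [θ_t] at hx ⊢
      rw [mem_T2] at hx ⊢
      rcases mem_A4.mp hb with rfl | rfl | rfl | rfl <;> rcases hx with rfl | rfl | rfl <;> decide
    · rw [θ_st] at hx ⊢
      rw [Subgroup.mem_bot] at hx ⊢
      rw [hx]; group
  · intro a ha ha1 b hb hb1 x hx
    obtain ⟨hxa, hxb⟩ := Subgroup.mem_inf.mp hx
    rw [Subgroup.mem_centralizer_singleton_iff] at hxb
    rcases mem_A4.mp ha with rfl | rfl | rfl | rfl
    · exact (ha1 rfl).elim
    · rw [θ_s] at hxa
      rcases mem_A4.mp hb with rfl | rfl | rfl | rfl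
      · exact (hb1 rfl).elim
      · rw [θ_s]; exact hxa
      · rcases mem_T1.mp hxa with rfl | rfl | rfl
        · exact Subgroup.one_mem _
        · exact absurd hxb (by decide)
        · exact absurd hxb (by decide)
      · rcases mem_T1.mp hxa with rfl | rfl | rfl
        · exact Subgroup.one_mem _
        · exact absurd hxb (by decide)
        · exact absurd hxb (by decide)
    · rw [θ_t] at hxa
      rcases mem_A4.mp hb with rfl | rfl | rfl | rfl
      · exact (hb1 rfl).elim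
      · rcases mem_T2.mp hxa with rfl | rfl | rfl
        · exact Subgroup.one_mem _
        · exact absurd hxb (by decide)
        · exact absurd hxb (by decide)
      · rw [θ_t]; exact hxa
      · rcases mem_T2.mp hxa with rfl | rfl | rfl
        · exact Subgroup.one_mem _
        · exact absurd hxb (by decide)
        · exact absurd hxb (by decide)
    · rw [θ_st, Subgroup.mem_bot] at hxa
      rw [hxa]; exact Subgroup.one_mem _

theorem solvable_θ : ∀ a ∈ A4, a ≠ 1 → Group.IsSolvable (θ a) := by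
  intro a ha ha1
  rcases mem_A4.mp ha with rfl | rfl | rfl | rfl
  · exact (ha1 rfl).elim
  · rw [θ_s]
    apply Group.isSolvable_of_comm
    rintro ⟨x, hx⟩ ⟨y, hy⟩
    apply Subtype.ext
    show x * y = y * x
    rcases mem_T1.mp hx with rfl | rfl | rfl <;> rcases mem_T1.mp hy with rfl | rfl | rfl <;> decide
  · rw [θ_t]
    apply Group.isSolvable_of_comm
    rintro ⟨x, hx⟩ ⟨y, hy⟩
    apply Subtype.ext
    show x * y = y * x
    rcases mem_T2.mp hx with rfl | rfl | rfl <;> rcases mem_T2.mp hy with rfl | rfl | rfl <;> decide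
  · rw [θ_st]; infer_instance

theorem not_complete : ¬ Cfsg.IsCompleteSignalizerFunctor 2 A4 θ := by
  rintro ⟨-, W, -, hodd, hW⟩
  have hs : s ∈ A4 := mem_A4.mpr (Or.inr (Or.inl rfl))
  have ht : t ∈ A4 := mem_A4.mpr (Or.inr (Or.inr (Or.inl rfl)))
  have h1 : c₁ ∈ W := by
    have h := hW s hs (by decide)
    rw [θ_s] at h
    have : c₁ ∈ W ⊓ Subgroup.centralizer {s} := by rw [h]; exact mem_T1.mpr (Or.inr (Or.inl rfl))
    exact (Subgroup.mem_inf.mp this).1
  have h2 : c₂ ∈ W := by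
    have h := hW t ht (by decide)
    rw [θ_t] at h
    have : c₂ ∈ W ⊓ Subgroup.centralizer {t} := by rw [h]; exact mem_T2.mpr (Or.inr (Or.inl rfl))
    exact (Subgroup.mem_inf.mp this).1
  have h3 : c₁ * c₂ * c₁ * c₂⁻¹ ∈ W :=
    Subgroup.mul_mem _ (Subgroup.mul_mem _ (Subgroup.mul_mem _ h1 h2) h1) (Subgroup.inv_mem _ h2)
  have h4 : orderOf (c₁ * c₂ * c₁ * c₂⁻¹) = 2 := by
    apply orderOf_eq_prime
    · decide
    · decide
  apply hodd
  have h5 : orderOf (⟨c₁ * c₂ * c₁ * c₂⁻¹, h3⟩ : W) ∣ Nat.card W := orderOf_dvd_natCard _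
  rw [← Subgroup.orderOf_coe] at h5
  rw [← h4]
  exact h5

end Cfsg.Agent.Lib.Helper3.SigExample
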