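import Mathlib
import Cfsg.Agent.Lib.Lead.Frattini
import Cfsg.Agent.Lib.Lead.SmallExp

set_option autoImplicit false

/-! Equivariant version of `Lead.SmallExp.smallexp_fix` (a family `K` of automorphisms of prime order `q ≠ p`,
closed under conjugation by a group `G` of automorphisms, and `G`-invariant subgroups), and the abstract
"levels" argument used for S5297. -/

namespace Cfsg.Agent.Lib.Helper3.SmallExpEq

open Cfsg.Agent.Lib.Lead Cfsg.Agent.Lib.Lead.SmallExp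
open scoped commutatorElement

universe u

variable {X : Type*} [Group X]

/-- **Lemma E.** -/
theorem smallexp_fix_family [Finite X] (p q : ℕ) (hp : p.Prime) (hq : q.Prime) (hqp : q ≠ p)
    (hX : IsPGroup p X) (G : Subgroup (MulAut X)) (K : Set (MulAut X)) (hKG : K ⊆ G)
    (hKq : ∀ χ ∈ K, χ ^ q = 1) (hKconj : ∀ g ∈ G, ∀ χ ∈ K, g * χ * g⁻¹ ∈ K)
    (Y₀ : Subgroup X)
    (hyp : ∀ U : Subgroup X, U ≤ Y₀ → (∀ g ∈ G, ∀ u ∈ U, g u ∈ U) →
      (∀ u ∈ U, u ^ p = 1 ∨ (p = 2 ∧ u ^ 4 = 1)) → ∀ χ ∈ K, ∀ u ∈ U, χ u = u) :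
    ∀ Y : Subgroup X, Y ≤ Y₀ → (∀ g ∈ G, ∀ y ∈ Y, g y ∈ Y) → ∀ χ ∈ K, ∀ y ∈ Y, χ y = y := by
  intro Y
  induction' hn : Nat.card Y using Nat.strong_induction_on with n ih generalizing Y
  intro hY0 hinv
  have : Fact p.Prime := ⟨hp⟩
  set D : Subgroup X := Subgroup.closure {d : X | ∃ y ∈ Y, ∃ χ ∈ K, d = y⁻¹ * χ y} with hDdef
  have hDY : D ≤ Y := by
    rw [hDdef, Subgroup.closure_le]
    rintro d ⟨y, hy, χ, hχ, rfl⟩
    exact Y.mul_mem (Y.inv_mem hy) (hinv χ (hKG hχ) y hy)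
  have hDinv : ∀ g ∈ G, ∀ d ∈ D, g d ∈ D := by
    intro g hg
    have : D.map g.toMonoidHom ≤ D := by
      rw [hDdef, MonoidHom.map_closure, Subgroup.closure_le]
      rintro _ ⟨d, ⟨y, hy, χ, hχ, rfl⟩, rfl⟩
      apply Subgroup.subset_closure
      refine ⟨g y, hinv g hg y hy, g * χ * g⁻¹, hKconj g hg χ hχ, ?_⟩
      simp
    intro d hd
    exact this ⟨d, hd, rfl⟩
  have hfin : ∀ χ ∈ K, ∀ (y : X), χ (y⁻¹ * χ y) = y⁻¹ * χ y → χ y = y := by
    intro χ hχ y hfix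
    obtain ⟨k, hk⟩ := hX (y⁻¹ * χ y)
    exact fixed_of_comm_fixed χ p q hp hq hqp (hKq χ hχ) y hfix k hk
  by_cases hD : D = Y
  swap
  · have hlt : Nat.card D < Nat.card Y :=
      lt_of_le_of_ne (Subgroup.card_le_of_le hDY)
        (fun h => hD (Subgroup.eq_of_le_of_card_ge hDY h.ge))
    rw [hn] at hlt
    have hfix := ih _ hlt D rfl (hDY.trans hY0) hDinv
    intro χ hχ y hy
    exact hfin χ hχ y (hfix χ hχ _ (Subgroup.subset_closure ⟨y, hy, χ, hχ, rfl⟩))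
  · by_cases hbot : Y = ⊥
    · intro χ _ y hy
      rw [hbot, Subgroup.mem_bot] at hy
      rw [hy, map_one]
    have : Nontrivial Y := (Subgroup.nontrivial_iff_ne_bot Y).mpr hbot
    have hYp : IsPGroup p Y := hX.to_subgroup Y
    -- the Frattini subgroup of `Y`, as a subgroup of `X`, is `G`-invariant
    set M : Subgroup X := (frattini Y).map Y.subtype with hM
    have hMY : M ≤ Y := by rw [hM]; exact Subgroup.map_subtype_le _
    have hMinv : ∀ g ∈ G, ∀ m ∈ M, g m ∈ M := by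
      intro g hg
      -- restricted automorphism
      let f : Y →* Y := (g.toMonoidHom.comp Y.subtype).codRestrict Y (fun y => hinv g hg y y.2)
      have hfinj : Function.Injective f := by
        intro a b hab
        apply Subtype.ext
        have := congrArg Subtype.val hab
        exact g.injective this
      let gY : Y ≃* Y := MulEquiv.ofBijective f (Finite.injective_iff_bijective.mp hfinj)
      have hgY : ∀ y : Y, ((gY y : Y) : X) = g y := fun y => rfl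
      have hΦchar : ∀ m ∈ frattini Y, gY m ∈ frattini Y := by
        intro m hm
        have h1 : (frattini Y).map gY.toMonoidHom = frattini Y :=
          Subgroup.characteristic_iff_map_eq.mp frattini_characteristic gY
        rw [← h1]
        exact ⟨m, hm, rfl⟩
      rintro _ ⟨m, hm, rfl⟩
      exact ⟨gY m, hΦchar m hm, rfl⟩
    have hΦtop : frattini Y ≠ ⊤ := by
      intro htop
      have : (⊥ : Subgroup Y) = ⊤ := frattini_nongenerating (by rw [htop, bot_sup_eq])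
      exact bot_ne_top this
    have hMlt : Nat.card M < n := by
      rw [← hn, hM, Subgroup.card_map_of_injective Y.subtype_injective]
      exact lt_of_le_of_ne (Subgroup.card_le_card_group _)
        (fun h => hΦtop (Subgroup.eq_top_of_card_eq _ h))
    have hMfix : ∀ χ ∈ K, ∀ m ∈ M, χ m = m := ih _ hMlt M rfl (hMY.trans hY0) hMinv
    have hMnorm : ∀ y ∈ Y, ∀ m ∈ M, y * m * y⁻¹ ∈ M := by
      rintro y hy _ ⟨m, hm, rfl⟩
      have hN : (frattini Y).Normal := inferInstance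
      exact ⟨⟨y, hy⟩ * m * ⟨y, hy⟩⁻¹, hN.conj_mem m hm ⟨y, hy⟩, rfl⟩
    have hMcent : ∀ m ∈ M, ∀ y ∈ Y, m * y = y * m := by
      intro m hm y hy
      rw [← hD] at hy
      induction hy using Subgroup.closure_induction with
      | mem d hd =>
        obtain ⟨z, hz, χ, hχ, rfl⟩ := hd
        have h1 := hMfix χ hχ _ (hMnorm z hz m hm)
        rw [map_mul, map_mul, map_inv, hMfix χ hχ m hm] at h1
        calc m * (z⁻¹ * χ z) = z⁻¹ * (z * m * z⁻¹) * χ z := by group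
          _ = z⁻¹ * (χ z * m * (χ z)⁻¹) * χ z := by rw [h1]
          _ = z⁻¹ * χ z * m := by group
      | one => simp
      | mul a b _ _ ha hb => rw [← mul_assoc, ha, mul_assoc, hb, mul_assoc]
      | inv a _ ha =>
        calc m * a⁻¹ = a⁻¹ * (a * m) * a⁻¹ := by group
          _ = a⁻¹ * (m * a) * a⁻¹ := by rw [ha]
          _ = a⁻¹ * m := by group
    have hcommM : ∀ a ∈ Y, ∀ b ∈ Y, ⁅a, b⁆ ∈ M := by
      intro a ha b hb
      have h1 : ⁅(⟨a, ha⟩ : Y), ⟨b, hb⟩⁆ ∈ frattini Y :=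
        commutator_le_frattini_of_isPGroup hYp (by
          rw [commutator_def]
          exact Subgroup.commutator_mem_commutator (Subgroup.mem_top _) (Subgroup.mem_top _))
      exact ⟨_, h1, by simp [commutatorElement_def]⟩
    have hpowM : ∀ a ∈ Y, a ^ p ∈ M := by
      intro a ha
      exact ⟨⟨a, ha⟩ ^ p, pow_mem_frattini_of_isPGroup hYp ⟨a, ha⟩, by simp⟩
    -- commutators have order dividing p
    have hcp : ∀ a ∈ Y, ∀ b ∈ Y, ⁅b, a⁆ ^ p = 1 := by
      intro a ha b hb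
      have hc := hcommM b hb a ha
      have h1 := pow_mul_class_two a b (hMcent _ hc b hb) p
      have h2 := hMcent _ (hpowM b hb) a ha
      rw [h2] at h1
      have : 1 * (a * b ^ p) = ⁅b, a⁆ ^ p * (a * b ^ p) := by rw [one_mul, ← mul_assoc]; exact h1
      exact (mul_right_cancel this).symm
    -- the exponent
    obtain ⟨e, hE1, hE2, hE3⟩ : ∃ e : ℕ, (∀ a ∈ Y, a ^ e ∈ M) ∧
        (∀ c : X, c ^ p = 1 → c ^ (e * (e - 1) / 2) = 1) ∧
        (∀ u : X, u ^ e = 1 → u ^ p = 1 ∨ (p = 2 ∧ u ^ 4 = 1)) := by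
      by_cases h2 : p = 2
      · refine ⟨4, ?_, ?_, ?_⟩
        · intro a ha
          have := M.pow_mem (hpowM a ha) 2
          rw [← pow_mul, h2] at this
          exact this
        · intro c hc
          rw [h2] at hc
          have : (4 * (4 - 1) / 2 : ℕ) = 2 * 3 := by norm_num
          rw [this, pow_mul, hc, one_pow]
        · intro u hu
          exact Or.inr ⟨h2, hu⟩
      · refine ⟨p, hpowM, ?_, fun u hu => Or.inl hu⟩
        intro c hc
        obtain ⟨k, hk⟩ := hp.eq_two_or_odd'.resolve_left h2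
        have : p * (p - 1) / 2 = p * k := by
          have h3 : p - 1 = 2 * k := by omega
          rw [h3, ← mul_assoc, mul_comm p 2, mul_assoc, Nat.mul_div_cancel_left _ (by norm_num : 0 < 2)]
        rw [this, pow_mul, hc, one_pow]
    have hmulpow : ∀ a ∈ Y, ∀ b ∈ Y, (a * b) ^ e = a ^ e * b ^ e := by
      intro a ha b hb
      have hc := hcommM b hb a ha
      rw [mul_pow_class_two a b (hMcent _ hc a ha) (hMcent _ hc b hb) e, hE2 _ (hcp a ha b hb), mul_one]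
    let U : Subgroup X :=
      { carrier := {y | y ∈ Y ∧ y ^ e = 1}
        mul_mem' := by
          rintro a b ⟨ha, ha'⟩ ⟨hb, hb'⟩
          exact ⟨Y.mul_mem ha hb, by rw [hmulpow a ha b hb, ha', hb', mul_one]⟩
        one_mem' := ⟨Y.one_mem, one_pow _⟩
        inv_mem' := by
          rintro a ⟨ha, ha'⟩
          exact ⟨Y.inv_mem ha, by rw [inv_pow, ha', inv_one]⟩ }
    have hUY : U ≤ Y := fun u hu => hu.1
    have hUfix : ∀ χ ∈ K, ∀ u ∈ U, χ u = u := by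
      apply hyp U (hUY.trans hY0)
      · rintro g hg u ⟨hu, hu'⟩
        exact ⟨hinv g hg u hu, by rw [← map_pow, hu', map_one]⟩
      · rintro u ⟨_, hu'⟩
        exact hE3 u hu'
    intro χ hχ y hy
    apply hfin χ hχ y
    apply hUfix χ hχ
    have hχy : χ y ∈ Y := hinv χ (hKG hχ) y hy
    refine ⟨Y.mul_mem (Y.inv_mem hy) hχy, ?_⟩
    rw [hmulpow _ (Y.inv_mem hy) _ hχy, inv_pow, ← map_pow, hMfix χ hχ _ (hE1 y hy), inv_mul_cancel]

/-- conjugation-closure of the subgroup generated by the `G`-conjugates of `Gen` -/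
theorem conj_mem_closure_conj (G : Subgroup (MulAut X)) (Gen : Set (MulAut X)) :
    ∀ g ∈ G, ∀ k ∈ Subgroup.closure {k : MulAut X | ∃ g ∈ G, ∃ a ∈ Gen, k = g * a * g⁻¹},
      g * k * g⁻¹ ∈ Subgroup.closure {k : MulAut X | ∃ g ∈ G, ∃ a ∈ Gen, k = g * a * g⁻¹} := by
  intro g hg k hk
  induction hk using Subgroup.closure_induction with
  | mem k hk =>
    obtain ⟨g', hg', a, ha, rfl⟩ := hk
    apply Subgroup.subset_closure
    refine ⟨g * g', G.mul_mem hg hg', a, ha, ?_⟩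
    group
  | one => simp
  | mul a b _ _ ha hb =>
    have : g * (a * b) * g⁻¹ = (g * a * g⁻¹) * (g * b * g⁻¹) := by group
    rw [this]
    exact Subgroup.mul_mem _ ha hb
  | inv a _ ha =>
    have : g * a⁻¹ * g⁻¹ = (g * a * g⁻¹)⁻¹ := by group
    rw [this]
    exact Subgroup.inv_mem _ ha

/-- **The levels argument.**  `G ≤ Aut X` for a finite `p`-group `X`; `Gen ⊆ G` lowers the levels `Z i`;
a subgroup `H` contains all `y⁻¹ χ(y)` for `p'`-elements `χ` of `G`; and `G` preserves the level of the small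
elements of `H`.  Then the normal closure in `G` of `⟨Gen⟩` is a `p`-group. -/
theorem isPGroup_closure_conj_of_levels [Finite X] (p : ℕ) (hp : p.Prime) (hX : IsPGroup p X)
    (G : Subgroup (MulAut X)) (Gen : Set (MulAut X)) (hGen : Gen ⊆ G)
    (Z : ℕ → Subgroup X) (hZ0 : Z 0 = ⊥) (n : ℕ) (hZn : Z n = ⊤)
    (hlow : ∀ a ∈ Gen, ∀ i : ℕ, ∀ u ∈ Z (i + 1), u⁻¹ * a u ∈ Z i)
    (H : Subgroup X)
    (hH : ∀ χ ∈ G, (orderOf χ).Coprime p → ∀ y : X, y⁻¹ * χ y ∈ H)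
    (hL : ∀ g ∈ G, ∀ u ∈ H, g u ∈ H → (u ^ p = 1 ∨ (p = 2 ∧ u ^ 4 = 1)) →
      ∀ i : ℕ, u ∈ Z i → g u ∈ Z i) :
    IsPGroup p (Subgroup.closure {k : MulAut X | ∃ g ∈ G, ∃ a ∈ Gen, k = g * a * g⁻¹}) := by
  classical
  set Kc : Subgroup (MulAut X) :=
    Subgroup.closure {k : MulAut X | ∃ g ∈ G, ∃ a ∈ Gen, k = g * a * g⁻¹} with hKc
  have : Fact p.Prime := ⟨hp⟩
  have hKcG : Kc ≤ G := by
    rw [hKc, Subgroup.closure_le]
    rintro _ ⟨g, hg, a, ha, rfl⟩
    exact G.mul_mem (G.mul_mem hg (hGen ha)) (G.inv_mem hg)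
  have hKcconj : ∀ g ∈ G, ∀ k ∈ Kc, g * k * g⁻¹ ∈ Kc := conj_mem_closure_conj G Gen
  -- it suffices to kill the elements of prime order `q ≠ p`
  rw [IsPGroup.iff_orderOf]
  intro k
  have hkpos : 0 < orderOf k := orderOf_pos k
  obtain ⟨a, m', hm', hm⟩ := Nat.exists_eq_pow_mul_and_not_dvd hkpos.ne' p hp.ne_one
  by_cases hm1 : m' = 1
  · exact ⟨a, by rw [hm, hm1, mul_one]⟩
  exfalso
  obtain ⟨q, hq, hqm⟩ := Nat.exists_prime_and_dvd hm1
  have hqp : q ≠ p := by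
    rintro rfl
    exact hm' hqm
  have hqk : q ∣ orderOf k := by rw [hm]; exact Dvd.dvd.mul_left hqm _
  set χ₀ : Kc := k ^ (orderOf k / q) with hχ₀
  have hχ₀ord : orderOf χ₀ = q := orderOf_pow_orderOf_div hkpos.ne' hqk
  set χ : MulAut X := (χ₀ : MulAut X) with hχ
  have hχord : orderOf χ = q := by rw [hχ, Subgroup.orderOf_coe]; exact hχ₀ord
  have hχKc : χ ∈ Kc := χ₀.2
  have hχq : χ ^ q = 1 := by rw [← hχord]; exact pow_orderOf_eq_one χ
  -- the family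
  set K : Set (MulAut X) := {χ | χ ∈ Kc ∧ χ ^ q = 1} with hK
  have hKG : K ⊆ G := fun χ hχ => hKcG hχ.1
  have hKq : ∀ χ ∈ K, χ ^ q = 1 := fun χ hχ => hχ.2
  have hKconj : ∀ g ∈ G, ∀ χ ∈ K, g * χ * g⁻¹ ∈ K := by
    intro g hg χ hχ
    refine ⟨hKcconj g hg χ hχ.1, ?_⟩
    rw [conj_pow, hχ.2]; group
  have hKcop : ∀ χ ∈ K, (orderOf χ).Coprime p := by
    intro χ hχ
    have h1 : orderOf χ ∣ q := orderOf_dvd_of_pow_eq_one hχ.2
    exact Nat.Coprime.coprime_dvd_left h1 ((Nat.coprime_primes hq hp).2 hqp)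
  set Y₀ : Subgroup X := Subgroup.closure {d : X | ∃ y : X, ∃ χ ∈ K, d = y⁻¹ * χ y} with hY₀
  have hY₀inv : ∀ g ∈ G, ∀ y ∈ Y₀, g y ∈ Y₀ := by
    intro g hg
    have : Y₀.map g.toMonoidHom ≤ Y₀ := by
      rw [hY₀, MonoidHom.map_closure, Subgroup.closure_le]
      rintro _ ⟨d, ⟨y, χ, hχ, rfl⟩, rfl⟩
      apply Subgroup.subset_closure
      refine ⟨g y, g * χ * g⁻¹, hKconj g hg χ hχ, ?_⟩
      simp
    intro y hy
    exact this ⟨y, hy, rfl⟩
  have hY₀H : Y₀ ≤ H := by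
    rw [hY₀, Subgroup.closure_le]
    rintro _ ⟨y, χ, hχ, rfl⟩
    exact hH χ (hKG hχ) (hKcop χ hχ) y
  -- Step 1
  have hstep1 : ∀ U : Subgroup X, U ≤ Y₀ → (∀ g ∈ G, ∀ u ∈ U, g u ∈ U) →
      (∀ u ∈ U, u ^ p = 1 ∨ (p = 2 ∧ u ^ 4 = 1)) → ∀ χ ∈ K, ∀ u ∈ U, χ u = u := by
    intro U hUY hUinv hUsmall
    have hVinv : ∀ g ∈ G, ∀ i : ℕ, ∀ u ∈ U ⊓ Z i, g u ∈ U ⊓ Z i := by
      intro g hg i u hu
      refine ⟨hUinv g hg u hu.1, ?_⟩
      exact hL g hg u (hY₀H (hUY hu.1)) (hY₀H (hUY (hUinv g hg u hu.1))) (hUsmall u hu.1) i hu.2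
    let Stab : Subgroup (MulAut X) :=
      { carrier := {g | g ∈ G ∧ ∀ i : ℕ, ∀ u ∈ U ⊓ Z (i + 1), u⁻¹ * g u ∈ U ⊓ Z i}
        one_mem' := by
          refine ⟨G.one_mem, fun i u _ => ?_⟩
          rw [MulAut.one_apply, inv_mul_cancel]
          exact Subgroup.one_mem _
        mul_mem' := by
          rintro g h ⟨hg, hg'⟩ ⟨hh, hh'⟩
          refine ⟨G.mul_mem hg hh, fun i u hu => ?_⟩
          have h1 : u⁻¹ * (g * h) u = (u⁻¹ * g u) * g (u⁻¹ * h u) := by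
            rw [MulAut.mul_apply, map_mul, map_inv]; group
          rw [h1]
          exact Subgroup.mul_mem _ (hg' i u hu) (hVinv g hg i _ (hh' i u hu))
        inv_mem' := by
          rintro g ⟨hg, hg'⟩
          refine ⟨G.inv_mem hg, fun i u hu => ?_⟩
          have h1 : u⁻¹ * g⁻¹ u = g⁻¹ ((u⁻¹ * g u)⁻¹) := by
            rw [mul_inv_rev, inv_inv, map_mul, map_inv, MulAut.inv_apply_self]
          rw [h1]
          exact hVinv g⁻¹ (G.inv_mem hg) i _ (Subgroup.inv_mem _ (hg' i u hu)) }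
    have hmemStab : ∀ g : MulAut X, g ∈ Stab ↔
        g ∈ G ∧ ∀ i : ℕ, ∀ u ∈ U ⊓ Z (i + 1), u⁻¹ * g u ∈ U ⊓ Z i := fun g => Iff.rfl
    have hKcStab : Kc ≤ Stab := by
      rw [hKc, Subgroup.closure_le]
      rintro _ ⟨g, hg, a, ha, rfl⟩
      rw [SetLike.mem_coe, hmemStab]
      refine ⟨G.mul_mem (G.mul_mem hg (hGen ha)) (G.inv_mem hg), fun i u hu => ?_⟩
      have hv : g⁻¹ u ∈ U ⊓ Z (i + 1) := hVinv g⁻¹ (G.inv_mem hg) (i + 1) u hu
      have h1 : u⁻¹ * (g * a * g⁻¹) u = g ((g⁻¹ u)⁻¹ * a (g⁻¹ u)) := by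
        rw [MulAut.mul_apply, MulAut.mul_apply, map_mul, map_inv, MulAut.apply_inv_self]
      rw [h1]
      apply hVinv g hg i
      refine ⟨U.mul_mem (U.inv_mem hv.1) (hUinv a (hGen ha) _ hv.1), hlow a ha i _ hv.2⟩
    intro χ hχ
    have hind : ∀ i : ℕ, ∀ u ∈ U ⊓ Z i, χ u = u := by
      intro i
      induction i with
      | zero =>
        intro u hu
        rw [hZ0] at hu
        have : u = 1 := Subgroup.mem_bot.mp hu.2
        rw [this, map_one]
      | succ i ih =>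
        intro u hu
        have hd : u⁻¹ * χ u ∈ U ⊓ Z i := ((hmemStab χ).mp (hKcStab hχ.1)).2 i u hu
        obtain ⟨k', hk'⟩ := hX (u⁻¹ * χ u)
        exact fixed_of_comm_fixed χ p q hp hq hqp hχ.2 u (ih _ hd) k' hk'
    intro u hu
    apply hind n u
    rw [hZn]
    exact ⟨hu, Subgroup.mem_top u⟩
  -- Step 2
  have hfixY₀ := smallexp_fix_family p q hp hq hqp hX G K hKG hKq hKconj Y₀ hstep1 Y₀ le_rfl hY₀inv
  -- Step 3
  have hχK : χ ∈ K := ⟨hχKc, hχq⟩
  have hχone : χ = 1 := by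
    apply MulEquiv.ext
    intro y
    rw [MulAut.one_apply]
    obtain ⟨k', hk'⟩ := hX (y⁻¹ * χ y)
    apply fixed_of_comm_fixed χ p q hp hq hqp hχq y _ k' hk'
    exact hfixY₀ χ hχK _ (Subgroup.subset_closure ⟨y, χ, hχK, rfl⟩)
  rw [hχone, orderOf_one] at hχord
  exact hq.one_lt.ne hχord

end Cfsg.Agent.Lib.Helper3.SmallExpEq
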