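import Mathlib
import Cfsg.Prelude.Def_GeometricClasses
import Cfsg.Prelude.Def_Involutions
import Cfsg.Agent.Lib.Helper7.SpSubDefs
import Cfsg.Agent.Lib.Helper7.Subg_N
import Cfsg.Agent.Lib.Helper7.Subg_E
import Cfsg.Agent.Lib.Helper7.SpSub_TR
import Cfsg.Agent.Lib.Helper7.SpSubBridge
import Cfsg.Agent.Lib.Helper3.StrEmb

set_option autoImplicit false
set_option linter.unusedSectionVars false
set_option linter.unusedVariables false

/-!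
# S5650, package PK-E2: characteristic two (`even_sp`)

`N ∩ M` is strongly embedded in the image of `M` in `GL` unless `M ≤ N`; then the transvection `T e₁ 1`
(`s - 1` of rank one) and the short root element `sig e₁ e₂ 1` (`t - 1` of rank two) would be conjugate.
-/

namespace Cfsg.Agent.Lib.Helper7.SpSub

open Matrix Cfsg.Agent.Lib.Helper1.SpBasic Cfsg.Agent.Lib.Helper2.Symp Cfsg.Agent.Lib.Helper7.Subg
open Cfsg.Agent.H9SpMax

variable {F : Type*} [Field F] {m : ℕ}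

namespace PkE2

theorem J_mulVec_single_inl (j : Fin m) :
    Matrix.J (Fin m) F *ᵥ (Pi.single (Sum.inl j) (1 : F) : Fin m ⊕ Fin m → F) =
      (Pi.single (Sum.inr j) (1 : F) : Fin m ⊕ Fin m → F) := by
  rw [Matrix.mulVec_single_one]
  ext k
  rcases k with a | a
  · simp [Matrix.J, Matrix.col_apply]
  · simp [Matrix.J, Matrix.col_apply, Matrix.one_apply, Pi.single_apply]

theorem form_single_inl_inl (i j : Fin m) :
    Cfsg.sympForm m F (Pi.single (Sum.inl i) (1 : F)) (Pi.single (Sum.inl j) (1 : F)) = 0 := by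
  unfold Cfsg.sympForm
  rw [J_mulVec_single_inl, single_dotProduct, one_mul, Pi.single_eq_of_ne]
  exact Sum.inl_ne_inr

end PkE2

open PkE PkE2 in
theorem even_sp [Fintype F] (h2 : (2 : F) = 0) (hm : 2 ≤ m) (F₀ : Subfield F)
    (M : Subgroup (Matrix.symplecticGroup (Fin m) F)) (hT : HasRatT F₀ M) (hNK : NKs F₀ M) :
    ∀ g ∈ M, InN F₀ (g : Matrix (Fin m ⊕ Fin m) (Fin m ⊕ Fin m) F) := by
  by_contra hcon
  simp only [not_forall] at hcon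
  obtain ⟨g₀, hg₀M, hg₀N⟩ := hcon
  have hNK' : NK F₀ (MG M) := nk_of_nks F₀ M hNK
  obtain ⟨j1, j2, hj⟩ : ∃ j1 j2 : Fin m, j1 ≠ j2 :=
    ⟨⟨0, by omega⟩, ⟨1, by omega⟩, fun h => by simpa using congrArg Fin.val h⟩
  have he (k : Fin m ⊕ Fin m) : Rat F₀ (Pi.single k (1 : F) : Fin m ⊕ Fin m → F) :=
    Rat.single F₀ k F₀.one_mem
  have hB12 : Cfsg.sympForm m F (Pi.single (Sum.inl j1) (1 : F)) (Pi.single (Sum.inl j2) (1 : F)) = 0 :=
    form_single_inl_inl j1 j2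
  -- the two elements of `M`
  have hsM : T (Pi.single (Sum.inl j1) (1 : F)) (1 : F) ∈ M := hT _ (he _) 1 F₀.one_mem
  have hs2M : T (Pi.single (Sum.inl j2) (1 : F)) (1 : F) ∈ M := hT _ (he _) 1 F₀.one_mem
  have hs12M : T ((Pi.single (Sum.inl j1) (1 : F) : Fin m ⊕ Fin m → F) + Pi.single (Sum.inl j2) (1 : F)) (1 : F) ∈ M :=
    hT _ ((he _).add (he _)) 1 F₀.one_mem
  have htM : sig (Pi.single (Sum.inl j1) (1 : F)) (Pi.single (Sum.inl j2) (1 : F)) (1 : F) ∈ M :=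
    sig_mem hs12M hsM hs2M
  have hsG : toGL m F (T (Pi.single (Sum.inl j1) (1 : F)) (1 : F)) ∈ MG M := (toGL_mem_MG_iff M _).2 hsM
  have htG : toGL m F (sig (Pi.single (Sum.inl j1) (1 : F)) (Pi.single (Sum.inl j2) (1 : F)) (1 : F)) ∈ MG M :=
    (toGL_mem_MG_iff M _).2 htM
  have hgG : toGL m F g₀ ∈ MG M := (toGL_mem_MG_iff M _).2 hg₀M
  -- their matrices
  have hS : matOf (MG M) ⟨_, hsG⟩ =
      tvm 1 (Pi.single (Sum.inl j1) (1 : F)) (Pi.single (Sum.inr j1) (1 : F)) := by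
    show ((T (Pi.single (Sum.inl j1) (1 : F)) (1 : F) : Matrix.symplecticGroup (Fin m) F) :
      Matrix (Fin m ⊕ Fin m) (Fin m ⊕ Fin m) F) = _
    rw [T_coe_tvm, J_mulVec_single_inl]
  have hTm : matOf (MG M) ⟨_, htG⟩ =
      1 + vecMulVec (Pi.single (Sum.inl j1) (1 : F)) (Pi.single (Sum.inr j2) (1 : F)) +
        vecMulVec (Pi.single (Sum.inl j2) (1 : F)) (Pi.single (Sum.inr j1) (1 : F)) := by
    show ((sig (Pi.single (Sum.inl j1) (1 : F)) (Pi.single (Sum.inl j2) (1 : F)) (1 : F) :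
      Matrix.symplecticGroup (Fin m) F) : Matrix (Fin m ⊕ Fin m) (Fin m ⊕ Fin m) F) = _
    rw [sig_coe _ _ hB12, J_mulVec_single_inl, J_mulVec_single_inl, one_smul, add_assoc]
  -- `s` is an involution
  have hSS : matOf (MG M) ⟨_, hsG⟩ * matOf (MG M) ⟨_, hsG⟩ = 1 := by
    show ((T (Pi.single (Sum.inl j1) (1 : F)) (1 : F) : Matrix.symplecticGroup (Fin m) F) :
      Matrix (Fin m ⊕ Fin m) (Fin m ⊕ Fin m) F) * ((T (Pi.single (Sum.inl j1) (1 : F)) (1 : F) :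
      Matrix.symplecticGroup (Fin m) F) : Matrix (Fin m ⊕ Fin m) (Fin m ⊕ Fin m) F) = 1
    rw [← Submonoid.coe_mul, T_add, one_add_one_eq_two, h2, T_zero]
    rfl
  have hS1 : matOf (MG M) ⟨_, hsG⟩ ≠ 1 := by
    intro h
    rw [hS] at h
    have := congrFun (congrFun h (Sum.inl j1)) (Sum.inr j1)
    simp [tvm, Matrix.add_apply, vecMulVec_apply] at this
  have hs2 : orderOf (⟨_, hsG⟩ : ↥(MG M)) = 2 := orderOf_eq_two_of_matOf (MG M) hSS hS1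
  -- `t` is an involution
  have hTT : matOf (MG M) ⟨_, htG⟩ * matOf (MG M) ⟨_, htG⟩ = 1 := by
    show ((sig (Pi.single (Sum.inl j1) (1 : F)) (Pi.single (Sum.inl j2) (1 : F)) (1 : F) :
      Matrix.symplecticGroup (Fin m) F) : Matrix (Fin m ⊕ Fin m) (Fin m ⊕ Fin m) F) *
      ((sig (Pi.single (Sum.inl j1) (1 : F)) (Pi.single (Sum.inl j2) (1 : F)) (1 : F) :
      Matrix.symplecticGroup (Fin m) F) : Matrix (Fin m ⊕ Fin m) (Fin m ⊕ Fin m) F) = 1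
    rw [← Submonoid.coe_mul, sig_add _ _ hB12, one_add_one_eq_two, h2, sig_zero]
    rfl
  have hT1 : matOf (MG M) ⟨_, htG⟩ ≠ 1 := by
    intro h
    rw [hTm] at h
    have := congrFun (congrFun h (Sum.inl j1)) (Sum.inr j2)
    simp [Matrix.add_apply, vecMulVec_apply, hj] at this
  have ht2 : orderOf (⟨_, htG⟩ : ↥(MG M)) = 2 := orderOf_eq_two_of_matOf (MG M) hTT hT1
  -- both lie in `N`
  have hsN : InN F₀ (matOf (MG M) ⟨_, hsG⟩) := by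
    refine ⟨1, one_ne_zero, ?_⟩
    rw [one_smul, hS]
    exact ratMat_tvm F₀.one_mem (he _) (he _)
  have htN : InN F₀ (matOf (MG M) ⟨_, htG⟩) := by
    refine ⟨1, one_ne_zero, ?_⟩
    rw [one_smul]
    show RatMat F₀ ((sig (Pi.single (Sum.inl j1) (1 : F)) (Pi.single (Sum.inl j2) (1 : F)) (1 : F) :
      Matrix.symplecticGroup (Fin m) F) : Matrix (Fin m ⊕ Fin m) (Fin m ⊕ Fin m) F)
    unfold sig
    rw [Submonoid.coe_mul, Submonoid.coe_mul]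
    exact (ratMat_T ((he _).add (he _)) F₀.one_mem).mul
      ((ratMat_T (he _) (F₀.neg_mem F₀.one_mem)).mul (ratMat_T (he _) (F₀.neg_mem F₀.one_mem)))
  have hg₀N' : ¬ InN F₀ (matOf (MG M) ⟨_, hgG⟩) := hg₀N
  have hSE := even_stronglyEmbedded h2 (Sum.inl j1 : Fin m ⊕ Fin m) F₀ (MG M) hNK' ⟨_, hgG⟩ hg₀N'
    ⟨_, hsG⟩ hs2 hsN
  have hsH : (⟨_, hsG⟩ : ↥(MG M)) ∈ (nnSubgroup (ι := Fin m ⊕ Fin m) F₀).subgroupOf (MG M) :=
    Subgroup.mem_subgroupOf.mpr hsN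
  have htH : (⟨_, htG⟩ : ↥(MG M)) ∈ (nnSubgroup (ι := Fin m ⊕ Fin m) F₀).subgroupOf (MG M) :=
    Subgroup.mem_subgroupOf.mpr htN
  -- an involution outside `H`
  have hu2 : orderOf ((⟨_, hgG⟩ : ↥(MG M)) * ⟨_, hsG⟩ * (⟨_, hgG⟩ : ↥(MG M))⁻¹) = 2 := by
    rw [Cfsg.Agent.Lib.Helper3.StrEmb.orderOf_conj]
    exact hs2
  have huH : (⟨_, hgG⟩ : ↥(MG M)) * ⟨_, hsG⟩ * (⟨_, hgG⟩ : ↥(MG M))⁻¹ ∉
      (nnSubgroup (ι := Fin m ⊕ Fin m) F₀).subgroupOf (MG M) := by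
    intro h
    have hmem : (⟨_, hgG⟩ : ↥(MG M)) ∈ (nnSubgroup (ι := Fin m ⊕ Fin m) F₀).subgroupOf (MG M) := by
      refine Cfsg.Agent.Lib.Helper3.StrEmb.se_mem hSE h hu2 ?_
      have e : (⟨_, hgG⟩ : ↥(MG M))⁻¹ * ((⟨_, hgG⟩ : ↥(MG M)) * ⟨_, hsG⟩ * (⟨_, hgG⟩ : ↥(MG M))⁻¹) *
          (⟨_, hgG⟩ : ↥(MG M)) = ⟨_, hsG⟩ := by group
      rw [e]
      exact hsH
    exact hg₀N' (Subgroup.mem_subgroupOf.mp hmem)
  obtain ⟨d, -, hd⟩ :=
    Cfsg.Agent.Lib.Helper3.StrEmb.exists_conj_mem_inf hSE hu2 huH hs2 hsH ht2 htH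
  have hm' : ((d : GL (Fin m ⊕ Fin m) F) : Matrix (Fin m ⊕ Fin m) (Fin m ⊕ Fin m) F) *
      matOf (MG M) ⟨_, hsG⟩ *
      (((d : GL (Fin m ⊕ Fin m) F)⁻¹ : GL (Fin m ⊕ Fin m) F) : Matrix (Fin m ⊕ Fin m) (Fin m ⊕ Fin m) F) =
        matOf (MG M) ⟨_, htG⟩ := congrArg (matOf (MG M)) hd
  rw [hS, conj_tvm, hTm] at hm'
  exact even_final _ _ (Sum.inl j1) (Sum.inr j2) (Sum.inl j2) (Sum.inr j1) Sum.inl_ne_inr
    (fun h => hj (Sum.inl_injective h)) Sum.inl_ne_inr (fun h => hj (Sum.inr_injective h).symm)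
    Sum.inl_ne_inr hm'

end Cfsg.Agent.Lib.Helper7.SpSub
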