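import Cfsg.Agent.Lib.Helper4.SpTwoPw
import Cfsg.Agent.Lib.Helper4.SpRUFin
import Cfsg.Agent.Lib.Lead.SpTwoOrd
import Cfsg.Agent.Lib.Helper7.SpRUChase
set_option autoImplicit false
open Matrix

/-!
Two generators for the symplectic groups, part 1: a subgroup containing the regular unipotent element of the Siegel
Levi subgroup, a plane-wise element of order prime to the characteristic and the transvections of the last basis
vector is the whole group.
-/

namespace Cfsg.Agent.Lib.Helper3.SpTwo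

open Cfsg.Agent.Lib.Helper5.SpRU Cfsg.Agent.Lib.Helper2.Symp

variable {F : Type*} [Field F] {m : ℕ}

/-- the unipotent element `D(U)` -/
def dU (m : ℕ) (F : Type*) [Field F] : Matrix.symplecticGroup (Fin (m + 1)) F :=
  DS (Ublk m F) (Vblk m F) Ublk_mul_Vblk

/-- its inverse -/
def dV (m : ℕ) (F : Type*) [Field F] : Matrix.symplecticGroup (Fin (m + 1)) F :=
  DS (Vblk m F) (Ublk m F) Vblk_mul_Ublk

theorem dU_mul_dV : dU m F * dV m F = 1 := by
  apply Subtype.ext
  show DD (Ublk m F) (Vblk m F) * DD (Vblk m F) (Ublk m F) = 1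
  rw [DD_mul, Ublk_mul_Vblk, DD_one]

theorem dV_eq : dV m F = (dU m F)⁻¹ := eq_inv_of_mul_eq_one_right dU_mul_dV

theorem DD_mulVec (k k' : Matrix (Fin (m + 1)) (Fin (m + 1)) F) (x y : Fin (m + 1) → F) :
    DD k k' *ᵥ Sum.elim x y = Sum.elim (k *ᵥ x) (k'ᵀ *ᵥ y) := by
  unfold DD
  rw [Matrix.fromBlocks_mulVec]
  simp

theorem dU_eV (i j : Fin (m + 1)) (h : i.val + 1 = j.val) :
    ((dU m F : Matrix.symplecticGroup (Fin (m + 1)) F) : Matrix _ _ F) *ᵥ eV j = eV j + eV i := by
  show DD (Ublk m F) (Vblk m F) *ᵥ eV j = eV j + eV i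
  rw [eV_eq, eV_eq, DD_mulVec, Ublk_mulVec_succ i j h, elim_add]
  simp

theorem dV_fV (i j : Fin (m + 1)) (h : i.val + 1 = j.val) :
    ((dV m F : Matrix.symplecticGroup (Fin (m + 1)) F) : Matrix _ _ F) *ᵥ fV i = fV j + fV i := by
  show DD (Vblk m F) (Ublk m F) *ᵥ fV i = fV j + fV i
  rw [fV_eq, fV_eq, DD_mulVec, UblkT_mulVec i j h, elim_add]
  simp

variable {H : Subgroup (Matrix.symplecticGroup (Fin (m + 1)) F)}

/-- the value of the form on two vectors of one plane -/
theorem sf_plane (i : Fin (m + 1)) (a1 b1 a2 b2 : F) :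
    Cfsg.sympForm (m + 1) F (a1 • eV i + b1 • fV i) (a2 • eV i + b2 • fV i) = -(a1 * b2 - a2 * b1) := by
  rw [Cfsg.Agent.Lib.Helper2.Symp.sympForm_add_right, Cfsg.Agent.Lib.Helper2.Symp.sympForm_smul_right,
    Cfsg.Agent.Lib.Helper2.Symp.sympForm_smul_right, sf_eV, sf_fV]
  simp only [Pi.add_apply, Pi.smul_apply, eV_inl, eV_inr, fV_inl, fV_inr, if_true, smul_eq_mul]
  ring

/-- two independent vectors of a plane in `D` give the whole plane -/
theorem InD_of_basis {i : Fin (m + 1)} (a1 b1 a2 b2 : F) (hdet : a1 * b2 - a2 * b1 ≠ 0)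
    (hv : InD H (a1 • eV i + b1 • fV i : Fin (m + 1) ⊕ Fin (m + 1) → F))
    (hw : InD H (a2 • eV i + b2 • fV i : Fin (m + 1) ⊕ Fin (m + 1) → F)) :
    InD H (eV i : Fin (m + 1) ⊕ Fin (m + 1) → F) ∧ InD H (fV i : Fin (m + 1) ⊕ Fin (m + 1) → F) := by
  have hB : Cfsg.sympForm (m + 1) F (a1 • eV i + b1 • fV i) (a2 • eV i + b2 • fV i) ≠ 0 := by
    rw [sf_plane]
    exact neg_ne_zero.mpr hdet
  have hB' : Cfsg.sympForm (m + 1) F (a2 • eV i + b2 • fV i) (a1 • eV i + b1 • fV i) ≠ 0 := by
    rw [sf_plane]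
    intro h
    apply hdet
    linear_combination h
  obtain ⟨d, hd⟩ : ∃ d, d = a1 * b2 - a2 * b1 := ⟨_, rfl⟩
  have hd0 : d ≠ 0 := by rw [hd]; exact hdet
  constructor
  · by_cases hb2 : b2 = 0
    · have h1 := InD_smul hw (-b1 / d)
      have e : (-b1 / d) • (a2 • eV i + b2 • fV i : Fin (m + 1) ⊕ Fin (m + 1) → F) = eV i := by
        rw [smul_add, smul_smul, smul_smul, hb2, mul_zero, zero_smul, add_zero]
        have e1 : -b1 / d * a2 = 1 := by
          rw [div_mul_eq_mul_div, div_eq_one_iff_eq hd0, hd, hb2]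
          ring
        rw [e1, one_smul]
      rwa [e] at h1
    · have h1 := InD_smul (InD_move hv hw hB (-b1 / b2)) (b2 / d)
      have e : (b2 / d) •
          ((a1 • eV i + b1 • fV i) + (-b1 / b2) • (a2 • eV i + b2 • fV i) : Fin (m + 1) ⊕ Fin (m + 1) → F) = eV i := by
        have e1 : (b2 / d) •
            ((a1 • eV i + b1 • fV i) + (-b1 / b2) • (a2 • eV i + b2 • fV i) : Fin (m + 1) ⊕ Fin (m + 1) → F) =
            ((b2 / d) * (a1 + (-b1 / b2) * a2)) • eV i + ((b2 / d) * (b1 + (-b1 / b2) * b2)) • fV i := by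
          module
        have e2 : (b2 / d) * (a1 + (-b1 / b2) * a2) = 1 := by
          have : (b2 / d) * (a1 + (-b1 / b2) * a2) = (a1 * b2 - a2 * b1) / d := by
            field_simp
            ring
          rw [this, ← hd, div_self hd0]
        have e3 : (b2 / d) * (b1 + (-b1 / b2) * b2) = 0 := by
          have : b1 + (-b1 / b2) * b2 = 0 := by
            field_simp
            ring
          rw [this, mul_zero]
        rw [e1, e2, e3, one_smul, zero_smul, add_zero]
      rwa [e] at h1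
  · by_cases ha1 : a1 = 0
    · have h1 := InD_smul hv (-a2 / d)
      have e : (-a2 / d) • (a1 • eV i + b1 • fV i : Fin (m + 1) ⊕ Fin (m + 1) → F) = fV i := by
        rw [smul_add, smul_smul, smul_smul, ha1, mul_zero, zero_smul, zero_add]
        have e1 : -a2 / d * b1 = 1 := by
          rw [div_mul_eq_mul_div, div_eq_one_iff_eq hd0, hd, ha1]
          ring
        rw [e1, one_smul]
      rwa [e] at h1
    · have h1 := InD_smul (InD_move hw hv hB' (-a2 / a1)) (a1 / d)
      have e : (a1 / d) •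
          ((a2 • eV i + b2 • fV i) + (-a2 / a1) • (a1 • eV i + b1 • fV i) : Fin (m + 1) ⊕ Fin (m + 1) → F) = fV i := by
        have e1 : (a1 / d) •
            ((a2 • eV i + b2 • fV i) + (-a2 / a1) • (a1 • eV i + b1 • fV i) : Fin (m + 1) ⊕ Fin (m + 1) → F) =
            ((a1 / d) * (a2 + (-a2 / a1) * a1)) • eV i + ((a1 / d) * (b2 + (-a2 / a1) * b1)) • fV i := by
          module
        have e2 : (a1 / d) * (a2 + (-a2 / a1) * a1) = 0 := by
          have : a2 + (-a2 / a1) * a1 = 0 := by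
            field_simp
            ring
          rw [this, mul_zero]
        have e3 : (a1 / d) * (b2 + (-a2 / a1) * b1) = 1 := by
          have : (a1 / d) * (b2 + (-a2 / a1) * b1) = (a1 * b2 - a2 * b1) / d := by
            field_simp
            ring
          rw [this, ← hd, div_self hd0]
        rw [e1, e2, e3, one_smul, zero_smul, zero_add]
      rwa [e] at h1

end Cfsg.Agent.Lib.Helper3.SpTwo
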