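import Cfsg.Agent.Lib.Helper3.SpTwo1
set_option autoImplicit false
open Matrix

/-!
Two generators for the symplectic groups, part 2: the descent along the planes.
-/

namespace Cfsg.Agent.Lib.Helper3.SpTwo

open Cfsg.Agent.Lib.Helper5.SpRU Cfsg.Agent.Lib.Helper2.Symp

variable {F : Type*} [Field F] {m : ℕ} {H : Subgroup (Matrix.symplecticGroup (Fin (m + 1)) F)}

/-- the action of the plane-wise element on a vector of a plane -/
theorem pw_plane (S : Matrix.SpecialLinearGroup (Fin 2) F) (i : Fin (m + 1)) (hi : i ≠ Fin.last m) (a b : F) :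
    ((pwHom m F S : Matrix.symplecticGroup (Fin (m + 1)) F) : Matrix _ _ F) *ᵥ (a • eV i + b • fV i) =
      (S.1 0 0 * a + S.1 0 1 * b) • eV i + (S.1 1 0 * a + S.1 1 1 * b) • fV i := by
  rw [Matrix.mulVec_add, Matrix.mulVec_smul, Matrix.mulVec_smul, pwHom_eV S i hi, pwHom_fV S i hi]
  module

/-- the core of a step: from `e_j + e_i` and `e_j + S e_i` to the plane `i` -/
theorem step_core (S : Matrix.SpecialLinearGroup (Fin 2) F) (hγ : S.1 1 0 ≠ 0) (htr : S.1 0 0 + S.1 1 1 ≠ 2)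
    (hS : pwHom m F S ∈ H) (i j : Fin (m + 1)) (hij : i ≠ j) (hi : i ≠ Fin.last m)
    (h0 : InD H (eV j + eV i : Fin (m + 1) ⊕ Fin (m + 1) → F))
    (h1 : InD H (eV j + (S.1 0 0 • eV i + S.1 1 0 • fV i) : Fin (m + 1) ⊕ Fin (m + 1) → F)) :
    InD H (eV i : Fin (m + 1) ⊕ Fin (m + 1) → F) ∧ InD H (fV i : Fin (m + 1) ⊕ Fin (m + 1) → F) := by
  have hdet : S.1 0 0 * S.1 1 1 - S.1 0 1 * S.1 1 0 = 1 := by
    have := S.2
    rwa [Matrix.det_fin_two] at this
  have hB : Cfsg.sympForm (m + 1) F (eV j + eV i) (eV j + (S.1 0 0 • eV i + S.1 1 0 • fV i)) ≠ 0 := by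
    rw [sympForm_add_right, sympForm_add_right, sympForm_smul_right, sympForm_smul_right, sf_eV, sf_eV, sf_fV]
    simp only [Pi.add_apply, eV_inl, eV_inr, if_true, if_neg hij, add_zero, zero_add, mul_zero]
    simpa using hγ
  have hx0 := InD_move h0 h1 hB (-1)
  have e0 : (eV j + eV i + (-1 : F) • (eV j + (S.1 0 0 • eV i + S.1 1 0 • fV i)) : Fin (m + 1) ⊕ Fin (m + 1) → F) =
      (1 - S.1 0 0) • eV i + (-S.1 1 0) • fV i := by
    module
  rw [e0] at hx0
  have hx1 := chD_act hS hx0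
  rw [pw_plane S i hi] at hx1
  apply InD_of_basis _ _ _ _ _ hx0 hx1
  have e : (1 - S.1 0 0) * (S.1 1 0 * (1 - S.1 0 0) + S.1 1 1 * -S.1 1 0) -
      (S.1 0 0 * (1 - S.1 0 0) + S.1 0 1 * -S.1 1 0) * -S.1 1 0 = S.1 1 0 * (2 - (S.1 0 0 + S.1 1 1)) := by
    linear_combination (S.1 1 0) * hdet
  rw [e]
  apply mul_ne_zero hγ
  intro h
  apply htr
  linear_combination -h

/-- the first step: from the last basis vector to the plane before the last -/
theorem step_last (S : Matrix.SpecialLinearGroup (Fin 2) F) (hγ : S.1 1 0 ≠ 0) (htr : S.1 0 0 + S.1 1 1 ≠ 2)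
    (hS : pwHom m F S ∈ H) (hU : dU m F ∈ H) (i : Fin (m + 1)) (hi : i.val + 1 = m)
    (hl : InD H (eV (Fin.last m) : Fin (m + 1) ⊕ Fin (m + 1) → F)) :
    InD H (eV i : Fin (m + 1) ⊕ Fin (m + 1) → F) ∧ InD H (fV i : Fin (m + 1) ⊕ Fin (m + 1) → F) := by
  have hil : i ≠ Fin.last m := by
    intro h
    rw [h] at hi
    simp at hi
  have h0 := chD_act hU hl
  rw [dU_eV i (Fin.last m) (by simpa using hi)] at h0
  have h1 := chD_act hS h0
  rw [Matrix.mulVec_add, pwHom_eV_last, pwHom_eV S i hil] at h1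
  exact step_core S hγ htr hS i (Fin.last m) hil hil h0 h1

/-- a middle step: from the plane `j` to the plane before it -/
theorem step_mid (S : Matrix.SpecialLinearGroup (Fin 2) F) (hγ : S.1 1 0 ≠ 0) (htr : S.1 0 0 + S.1 1 1 ≠ 2)
    (hS : pwHom m F S ∈ H) (hU : dU m F ∈ H) (i j : Fin (m + 1)) (hij : i.val + 1 = j.val) (hj : j ≠ Fin.last m)
    (hej : InD H (eV j : Fin (m + 1) ⊕ Fin (m + 1) → F)) (hfj : InD H (fV j : Fin (m + 1) ⊕ Fin (m + 1) → F)) :
    InD H (eV i : Fin (m + 1) ⊕ Fin (m + 1) → F) ∧ InD H (fV i : Fin (m + 1) ⊕ Fin (m + 1) → F) := by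
  have hne : i ≠ j := by
    intro h
    rw [h] at hij
    omega
  have hil : i ≠ Fin.last m := by
    intro h
    have h1 : i.val = m := by rw [h]; rfl
    have h2 := j.isLt
    omega
  have h0 := chD_act hU hej
  rw [dU_eV i j hij] at h0
  have h1 := chD_act hS h0
  rw [Matrix.mulVec_add, pwHom_eV S j hj, pwHom_eV S i hil] at h1
  have h2 := InD_plane hej hfj h1 (Or.inr (by
    simp only [Pi.add_apply, Pi.smul_apply, eV_inr, fV_inr, if_true, if_neg hne.symm, smul_eq_mul, mul_zero, mul_one,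
      add_zero, zero_add]
    exact hγ)) 1 0 (Or.inl one_ne_zero)
  have e : (S.1 0 0 • eV j + S.1 1 0 • fV j + (S.1 0 0 • eV i + S.1 1 0 • fV i) +
      ((1 : F) - (S.1 0 0 • eV j + S.1 1 0 • fV j + (S.1 0 0 • eV i + S.1 1 0 • fV i) :
        Fin (m + 1) ⊕ Fin (m + 1) → F) (Sum.inl j)) • eV j +
      ((0 : F) - (S.1 0 0 • eV j + S.1 1 0 • fV j + (S.1 0 0 • eV i + S.1 1 0 • fV i) :
        Fin (m + 1) ⊕ Fin (m + 1) → F) (Sum.inr j)) • fV j : Fin (m + 1) ⊕ Fin (m + 1) → F) =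
      eV j + (S.1 0 0 • eV i + S.1 1 0 • fV i) := by
    simp only [Pi.add_apply, Pi.smul_apply, eV_inl, eV_inr, fV_inl, fV_inr, if_true, if_neg hne.symm, smul_eq_mul,
      mul_zero, mul_one, add_zero, zero_add]
    module
  rw [e] at h2
  exact step_core S hγ htr hS i j hne hil h0 h2

/-- all the planes before the last -/
theorem planes_below (S : Matrix.SpecialLinearGroup (Fin 2) F) (hγ : S.1 1 0 ≠ 0)
    (htr : S.1 0 0 + S.1 1 1 ≠ 2) (hS : pwHom m F S ∈ H) (hU : dU m F ∈ H)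
    (hl : InD H (eV (Fin.last m) : Fin (m + 1) ⊕ Fin (m + 1) → F)) :
    ∀ d k : ℕ, ∀ hk : k + d + 1 = m,
      InD H (eV (⟨k, by omega⟩ : Fin (m + 1)) : Fin (m + 1) ⊕ Fin (m + 1) → F) ∧
      InD H (fV (⟨k, by omega⟩ : Fin (m + 1)) : Fin (m + 1) ⊕ Fin (m + 1) → F) := by
  intro d
  induction d with
  | zero =>
    intro k hk
    exact step_last S hγ htr hS hU ⟨k, by omega⟩ (by simpa using hk) hl
  | succ d ih =>
    intro k hk
    obtain ⟨h1, h2⟩ := ih (k + 1) (by omega)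
    refine step_mid S hγ htr hS hU ⟨k, by omega⟩ ⟨k + 1, by omega⟩ rfl ?_ h1 h2
    intro h
    have := congrArg Fin.val h
    simp at this
    omega

/-- the last vector `f` -/
theorem fV_last_mem (hU : dU m F ∈ H) (i : Fin (m + 1)) (hi : i.val + 1 = m)
    (hl : InD H (eV (Fin.last m) : Fin (m + 1) ⊕ Fin (m + 1) → F))
    (hei : InD H (eV i : Fin (m + 1) ⊕ Fin (m + 1) → F)) (hfi : InD H (fV i : Fin (m + 1) ⊕ Fin (m + 1) → F)) :
    InD H (fV (Fin.last m) : Fin (m + 1) ⊕ Fin (m + 1) → F) := by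
  have hil : i ≠ Fin.last m := by
    intro h
    rw [h] at hi
    simp at hi
  have hV : dV m F ∈ H := by
    rw [dV_eq]
    exact H.inv_mem hU
  have h0 := chD_act hU hl
  rw [dU_eV i (Fin.last m) (by simpa using hi)] at h0
  have hz := chD_act hV hfi
  rw [dV_fV i (Fin.last m) (by simpa using hi)] at hz
  have h2 := InD_plane hei hfi hz (Or.inr (by
    simp only [Pi.add_apply, fV_inr, if_true, if_neg hil]
    simp)) 1 0 (Or.inl one_ne_zero)
  have e : (fV (Fin.last m) + fV i +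
      ((1 : F) - (fV (Fin.last m) + fV i : Fin (m + 1) ⊕ Fin (m + 1) → F) (Sum.inl i)) • eV i +
      ((0 : F) - (fV (Fin.last m) + fV i : Fin (m + 1) ⊕ Fin (m + 1) → F) (Sum.inr i)) • fV i :
        Fin (m + 1) ⊕ Fin (m + 1) → F) = fV (Fin.last m) + eV i := by
    simp only [Pi.add_apply, fV_inl, fV_inr, if_true, if_neg hil, add_zero, zero_add]
    module
  rw [e] at h2
  have hB : Cfsg.sympForm (m + 1) F (fV (Fin.last m) + eV i) (eV (Fin.last m) + eV i) ≠ 0 := by
    rw [sympForm_add_right, sf_eV, sf_eV]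
    simp only [Pi.add_apply, eV_inr, fV_inr, if_true, if_neg hil, add_zero]
    exact one_ne_zero
  have h3 := InD_move h2 h0 hB (-1)
  have e3 : (fV (Fin.last m) + eV i + (-1 : F) • (eV (Fin.last m) + eV i) : Fin (m + 1) ⊕ Fin (m + 1) → F) =
      fV (Fin.last m) + (-1 : F) • eV (Fin.last m) := by
    module
  rw [e3] at h3
  have hB2 : Cfsg.sympForm (m + 1) F (fV (Fin.last m) + (-1 : F) • eV (Fin.last m)) (eV (Fin.last m)) ≠ 0 := by
    rw [sf_eV]
    simp only [Pi.add_apply, Pi.smul_apply, eV_inr, fV_inr, if_true, smul_eq_mul, mul_zero, add_zero]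
    exact one_ne_zero
  have h4 := InD_move h3 hl hB2 1
  have e4 : (fV (Fin.last m) + (-1 : F) • eV (Fin.last m) + (1 : F) • eV (Fin.last m) :
      Fin (m + 1) ⊕ Fin (m + 1) → F) = fV (Fin.last m) := by
    module
  rwa [e4] at h4

/-- A subgroup containing `D(U)`, a plane-wise element with the two properties and all the transvections of the
last basis vector is the whole group. -/
theorem sp_top_of (hm : 1 ≤ m) (H : Subgroup (Matrix.symplecticGroup (Fin (m + 1)) F))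
    (S : Matrix.SpecialLinearGroup (Fin 2) F) (hγ : S.1 1 0 ≠ 0) (htr : S.1 0 0 + S.1 1 1 ≠ 2)
    (hS : pwHom m F S ∈ H) (hU : dU m F ∈ H)
    (hl : InD H (eV (Fin.last m) : Fin (m + 1) ⊕ Fin (m + 1) → F)) : H = ⊤ := by
  have hP := planes_below S hγ htr hS hU hl
  have hfl : InD H (fV (Fin.last m) : Fin (m + 1) ⊕ Fin (m + 1) → F) := by
    obtain ⟨h1, h2⟩ := hP 0 (m - 1) (by omega)
    exact fV_last_mem hU ⟨m - 1, by omega⟩ (by simp; omega) hl h1 h2
  have hall : ∀ i : Fin (m + 1), InD H (eV i : Fin (m + 1) ⊕ Fin (m + 1) → F) ∧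
      InD H (fV i : Fin (m + 1) ⊕ Fin (m + 1) → F) := by
    intro i
    by_cases hi : i = Fin.last m
    · rw [hi]
      exact ⟨hl, hfl⟩
    · have hlt : i.val < m := by
        have h1 := i.isLt
        have h2 : i.val ≠ m := fun h => hi (Fin.ext (by simpa using h))
        omega
      have := hP (m - 1 - i.val) i.val (by omega)
      exact this
  apply fin_top H (fun i => (hall i).1) (fun i => (hall i).2)
  intro i j hij c
  have h0 := chD_act hU (hall j).1
  rw [dU_eV i j hij, add_comm] at h0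
  exact h0 c

end Cfsg.Agent.Lib.Helper3.SpTwo
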