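import Cfsg.Agent.Lib.Helper3.SpTwo2
import Cfsg.Agent.Lib.Helper3.ChevGen2a
set_option autoImplicit false
open Matrix

/-!
Two generators for the symplectic groups, part 3: the two generators.
-/

namespace Cfsg.Agent.Lib.Helper3.SpTwo

open Cfsg.Agent.Lib.Helper5.SpRU Cfsg.Agent.Lib.Helper2.Symp Cfsg.Agent.Lib.Helper3.ChevGen2

/-- the two factors of a product of commuting elements of coprime orders -/
theorem split_coprime {G : Type*} [Group G] (T : Subgroup G) (a b : G) (hc : Commute a b) (M N : ℕ)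
    (ha : a ^ M = 1) (hb : b ^ N = 1) (hMN : Nat.Coprime M N) (hab : a * b ∈ T) : a ∈ T ∧ b ∈ T := by
  have key : a ∈ T := by
    have h1 : (a * b) ^ ((N : ℤ) * Nat.gcdB M N) ∈ T := T.zpow_mem hab _
    have e : (a * b) ^ ((N : ℤ) * Nat.gcdB M N) = a := by
      rw [hc.mul_zpow, _root_.zpow_mul b, zpow_natCast, hb, _root_.one_zpow, mul_one]
      have hbez : (M : ℤ) * Nat.gcdA M N + N * Nat.gcdB M N = 1 := by
        have := Nat.gcd_eq_gcd_ab M N
        rw [hMN] at this
        simpa using this.symm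
      have e2 : (N : ℤ) * Nat.gcdB M N = 1 - M * Nat.gcdA M N := by linarith
      rw [e2, _root_.zpow_sub, zpow_one, _root_.zpow_mul, zpow_natCast, ha, _root_.one_zpow, inv_one, mul_one]
    rwa [e] at h1
  refine ⟨key, ?_⟩
  have : b = a⁻¹ * (a * b) := by group
  rw [this]
  exact T.mul_mem (T.inv_mem key) hab

variable {F : Type*} [Field F] {m : ℕ}

/-- a matrix of determinant one, of order prime to the characteristic, not fixing the first basis line and of
trace different from two -/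
theorem exists_sl2 (p : ℕ) [hp : Fact p.Prime] [CharP F p] :
    ∃ (S : Matrix.SpecialLinearGroup (Fin 2) F) (M : ℕ),
      S.1 1 0 ≠ 0 ∧ S.1 0 0 + S.1 1 1 ≠ 2 ∧ S ^ M = 1 ∧ Nat.Coprime M p := by
  by_cases h2 : p = 2
  · subst h2
    have h20 : (2 : F) = 0 := CharTwo.two_eq_zero
    have h11 : (1 : F) + 1 = 0 := by rw [one_add_one_eq_two, h20]
    obtain ⟨S, hS⟩ : ∃ S : Matrix.SpecialLinearGroup (Fin 2) F, S.1 = !![0, 1; 1, 1] := by
      refine ⟨⟨!![0, 1; 1, 1], ?_⟩, rfl⟩
      rw [Matrix.det_fin_two_of]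
      linear_combination (-1 : F) * h11
    refine ⟨S, 3, ?_, ?_, ?_, by norm_num⟩
    · rw [hS]
      simp
    · rw [hS]
      simp only [Matrix.of_apply, Matrix.cons_val', Matrix.cons_val_zero, Matrix.cons_val_one, zero_add]
      rw [h20]
      exact one_ne_zero
    · apply Subtype.ext
      rw [Matrix.SpecialLinearGroup.coe_pow, Matrix.SpecialLinearGroup.coe_one, hS]
      ext i j
      fin_cases i <;> fin_cases j <;>
        simp [pow_succ, Matrix.mul_apply, Fin.sum_univ_two, h11]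
  · have h20 : (2 : F) ≠ 0 := by
      intro h
      have h3 : ((2 : ℕ) : F) = 0 := by exact_mod_cast h
      rw [CharP.cast_eq_zero_iff F p 2] at h3
      exact h2 ((Nat.prime_dvd_prime_iff_eq hp.out Nat.prime_two).mp h3)
    obtain ⟨S, hS⟩ : ∃ S : Matrix.SpecialLinearGroup (Fin 2) F, S.1 = !![0, -1; 1, 0] := by
      refine ⟨⟨!![0, -1; 1, 0], ?_⟩, rfl⟩
      rw [Matrix.det_fin_two_of]
      ring
    refine ⟨S, 4, ?_, ?_, ?_, ?_⟩
    · rw [hS]
      simp
    · rw [hS]
      simp only [Matrix.of_apply, Matrix.cons_val', Matrix.cons_val_zero, Matrix.cons_val_one, zero_add]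
      exact fun h => h20 h.symm
    · apply Subtype.ext
      rw [Matrix.SpecialLinearGroup.coe_pow, Matrix.SpecialLinearGroup.coe_one, hS]
      ext i j
      fin_cases i <;> fin_cases j <;>
        simp [pow_succ, Matrix.mul_apply, Fin.sum_univ_two]
    · have : Nat.Coprime 2 p := (Nat.coprime_primes Nat.prime_two hp.out).mpr (fun h => h2 h.symm)
      exact Nat.Coprime.pow_left 2 this

/-- the scalar elements of the Siegel Levi subgroup -/
def scS (m : ℕ) {F : Type*} [Field F] (l : Fˣ) : Matrix.symplecticGroup (Fin (m + 1)) F :=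
  DS ((l : F) • (1 : Matrix (Fin (m + 1)) (Fin (m + 1)) F)) (((l⁻¹ : Fˣ) : F) • 1) (by
    rw [smul_mul_smul_comm, one_mul, ← Units.val_mul, mul_inv_cancel, Units.val_one, one_smul])

theorem scS_mul (l l' : Fˣ) : scS m l * scS m l' = scS m (l * l') := by
  apply Subtype.ext
  show DD _ _ * DD _ _ = DD _ _
  rw [DD_mul, smul_mul_smul_comm, smul_mul_smul_comm, one_mul, _root_.mul_inv_rev, Units.val_mul, Units.val_mul]

theorem scS_one : scS m (1 : Fˣ) = (1 : Matrix.symplecticGroup (Fin (m + 1)) F) := by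
  apply Subtype.ext
  show DD _ _ = 1
  rw [inv_one, Units.val_one, one_smul, DD_one]

theorem scS_pow (l : Fˣ) (k : ℕ) : scS m l ^ k = scS m (l ^ k) := by
  induction k with
  | zero => rw [pow_zero, pow_zero, scS_one]
  | succ k ih => rw [pow_succ, ih, scS_mul, ← pow_succ]

theorem scS_commute (l : Fˣ) : Commute (scS m l) (dU m F) := by
  apply Subtype.ext
  show DD _ _ * DD _ _ = DD _ _ * DD _ _
  rw [DD_mul, DD_mul, Matrix.smul_mul, Matrix.mul_smul, Matrix.smul_mul, Matrix.mul_smul, one_mul, mul_one, one_mul,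
    mul_one]

theorem scS_eV (l : Fˣ) (i : Fin (m + 1)) :
    ((scS m l : Matrix.symplecticGroup (Fin (m + 1)) F) : Matrix _ _ F) *ᵥ eV i = (l : F) • eV i := by
  show DD _ _ *ᵥ eV i = (l : F) • eV i
  rw [eV_eq, DD_mulVec, elim_smul, Matrix.smul_mulVec, Matrix.one_mulVec]
  simp

theorem tS_pow (v : Fin (m + 1) ⊕ Fin (m + 1) → F) (c : F) (k : ℕ) : tS v c ^ k = tS v ((k : F) * c) := by
  induction k with
  | zero => rw [pow_zero, Nat.cast_zero, zero_mul, tS_zero]
  | succ k ih =>
    rw [pow_succ, ih, tS_mul]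
    congr 1
    push_cast
    ring

/-- the plane-wise element commutes with the transvections of the last basis vector -/
theorem pw_commute (S : Matrix.SpecialLinearGroup (Fin 2) F) (c : F) :
    Commute (pwHom m F S) (tS (eV (Fin.last m)) c) := by
  have h := tS_conj (pwHom m F S) (eV (Fin.last m)) c
  rw [pwHom_eV_last] at h
  exact mul_inv_eq_iff_eq_mul.mp h

section
variable [Fintype F]

/-- all the transvections of the last basis vector -/
theorem InD_last (H : Subgroup (Matrix.symplecticGroup (Fin (m + 1)) F)) (ζ : Fˣ)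
    (hζ : ∀ x : Fˣ, x ∈ Subgroup.zpowers ζ) (hs : scS m ζ ∈ H) (ht : tS (eV (Fin.last m)) (1 : F) ∈ H) :
    InD H (eV (Fin.last m) : Fin (m + 1) ⊕ Fin (m + 1) → F) := by
  let Γ : AddSubgroup F :=
    { carrier := {c | tS (eV (Fin.last m)) c ∈ H}
      zero_mem' := by
        show tS (eV (Fin.last m)) (0 : F) ∈ H
        rw [tS_zero]
        exact H.one_mem
      add_mem' := by
        intro a b ha hb
        show tS (eV (Fin.last m)) (a + b) ∈ H
        rw [← tS_mul]
        exact H.mul_mem ha hb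
      neg_mem' := by
        intro a ha
        show tS (eV (Fin.last m)) (-a) ∈ H
        rw [← tS_inv]
        exact H.inv_mem ha }
  intro c
  apply addSubgroup_eq_top Γ ζ hζ 2 (Or.inr (Or.inr (Or.inl rfl))) _ 1 one_ne_zero ht
  intro c hc
  have h1 : scS m ζ * tS (eV (Fin.last m)) c * (scS m ζ)⁻¹ ∈ H := H.mul_mem (H.mul_mem hs hc) (H.inv_mem hs)
  rw [tS_conj, scS_eV, tS_smul] at h1
  show tS (eV (Fin.last m)) (((ζ ^ (2 : ℤ) : Fˣ) : F) * c) ∈ H
  have e : ((ζ ^ (2 : ℤ) : Fˣ) : F) * c = c * (ζ : F) * (ζ : F) := by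
    rw [zpow_ofNat, Units.val_pow_eq_pow_val]
    ring
  rw [e]
  exact h1

/-- the symplectic groups of rank at least two over finite fields are generated by two elements -/
theorem sp_two_gen (hm : 1 ≤ m) :
    ∃ a b : Matrix.symplecticGroup (Fin (m + 1)) F,
      Subgroup.closure ({a, b} : Set (Matrix.symplecticGroup (Fin (m + 1)) F)) = ⊤ := by
  classical
  obtain ⟨p, hchar⟩ := CharP.exists F
  have hp : Fact p.Prime := ⟨CharP.char_is_prime F p⟩
  obtain ⟨S, M, hγ, htr, hSM, hMp⟩ := exists_sl2 (F := F) p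
  obtain ⟨ζ, hζ⟩ := IsCyclic.exists_generator (α := Fˣ)
  obtain ⟨k, hk⟩ := DS_Ublk_pow (F := F) (m := m) p
  refine ⟨scS m ζ * dU m F, pwHom m F S * tS (eV (Fin.last m)) 1, ?_⟩
  obtain ⟨H, hH⟩ : ∃ H, H = Subgroup.closure ({scS m ζ * dU m F, pwHom m F S * tS (eV (Fin.last m)) 1} :
      Set (Matrix.symplecticGroup (Fin (m + 1)) F)) := ⟨_, rfl⟩
  rw [← hH]
  have hx : scS m ζ * dU m F ∈ H := by
    rw [hH]
    exact Subgroup.subset_closure (by simp)
  have hy : pwHom m F S * tS (eV (Fin.last m)) 1 ∈ H := by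
    rw [hH]
    exact Subgroup.subset_closure (by simp)
  -- the first generator
  have hcop1 : Nat.Coprime (Fintype.card Fˣ) (p ^ k) := by
    apply Nat.Coprime.pow_right
    obtain ⟨n, -, hn⟩ := FiniteField.card F p
    rw [Fintype.card_units, hn]
    have h1 : p ∣ p ^ (n : ℕ) := dvd_pow_self p n.ne_zero
    have h2 : 1 ≤ p ^ (n : ℕ) := Nat.one_le_pow _ _ hp.out.pos
    rw [Nat.coprime_comm, Nat.Prime.coprime_iff_not_dvd hp.out]
    intro h3
    have h4 : p ∣ 1 := by
      have := Nat.dvd_sub h1 h3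
      rwa [Nat.sub_sub_self h2] at this
    exact hp.out.one_lt.ne' (Nat.dvd_one.mp h4)
  have hs1 : scS m ζ ^ Fintype.card Fˣ = 1 := by
    rw [scS_pow, pow_card_eq_one, scS_one]
  obtain ⟨hs, hU⟩ := split_coprime H _ _ (scS_commute ζ) _ _ hs1 hk hcop1 hx
  -- the second generator
  have hS1 : pwHom m F S ^ M = 1 := by
    rw [← map_pow, hSM, map_one]
  have ht1 : tS (eV (Fin.last m)) (1 : F) ^ p = 1 := by
    rw [tS_pow, CharP.cast_eq_zero, zero_mul, tS_zero]
  obtain ⟨hS, ht⟩ := split_coprime H _ _ (pw_commute S 1) _ _ hS1 ht1 hMp hy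
  exact sp_top_of hm H S hγ htr hS hU (InD_last H ζ hζ hs ht)

end

end Cfsg.Agent.Lib.Helper3.SpTwo
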