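import Mathlib

set_option autoImplicit false

namespace Cfsg.Agent.Lib.Helper3.SpUnE

open Finset

/-- the Pochhammer product `(x; x)_k = ∏_{i < k} (1 - x^(i+1))`. -/
noncomputable def poch (x : ℚ) (k : ℕ) : ℚ := ∏ i ∈ range k, (1 - x ^ (i + 1))

theorem poch_zero (x : ℚ) : poch x 0 = 1 := by simp [poch]

theorem poch_succ (x : ℚ) (k : ℕ) : poch x (k + 1) = poch x k * (1 - x ^ (k + 1)) := by
  simp [poch, prod_range_succ]

theorem one_sub_pow_pos {x : ℚ} (h0 : 0 ≤ x) (h1 : x < 1) (i : ℕ) : 0 < 1 - x ^ (i + 1) := by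
  have : x ^ (i + 1) < 1 := pow_lt_one₀ h0 h1 (Nat.succ_ne_zero i)
  linarith

theorem poch_pos {x : ℚ} (h0 : 0 ≤ x) (h1 : x < 1) (k : ℕ) : 0 < poch x k := by
  unfold poch
  exact prod_pos (fun i _ => one_sub_pow_pos h0 h1 i)

theorem key_step (t : ℚ) (A : ℕ → ℚ)
    (hA : ∀ k, A (k + 1) * (1 - (t ^ 2) ^ (k + 1)) = A k) (n : ℕ) :
    (∑ k ∈ range (n + 1 + 1), t ^ k * A k * A (n + 1 - k)) * (1 - (t ^ 2) ^ (n + 1)) =
      (1 + t ^ (n + 1)) * ∑ k ∈ range (n + 1), t ^ k * A k * A (n - k) := by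
  set Q := t ^ 2 with hQ
  have hsplit : ∀ k ∈ range (n + 1 + 1), t ^ k * A k * A (n + 1 - k) * (1 - Q ^ (n + 1)) =
      t ^ k * A k * (A (n + 1 - k) * (1 - Q ^ (n + 1 - k))) +
      t ^ k * Q ^ (n + 1 - k) * A (n + 1 - k) * (A k * (1 - Q ^ k)) := by
    intro k hk
    have hk' : k ≤ n + 1 := Nat.lt_succ_iff.mp (mem_range.mp hk)
    have e : Q ^ (n + 1) = Q ^ (n + 1 - k) * Q ^ k := by
      rw [← pow_add, Nat.sub_add_cancel hk']
    rw [e]; ring
  rw [sum_mul, sum_congr rfl hsplit, sum_add_distrib]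
  have h1 : ∑ k ∈ range (n + 1 + 1), t ^ k * A k * (A (n + 1 - k) * (1 - Q ^ (n + 1 - k))) =
      ∑ k ∈ range (n + 1), t ^ k * A k * A (n - k) := by
    rw [sum_range_succ]
    have h0 : A (n + 1 - (n + 1)) * (1 - Q ^ (n + 1 - (n + 1))) = 0 := by simp
    rw [h0, mul_zero, add_zero]
    apply sum_congr rfl
    intro k hk
    have hk' : k ≤ n := Nat.lt_succ_iff.mp (mem_range.mp hk)
    have e : n + 1 - k = (n - k) + 1 := by omega
    rw [e, hA]
  have h2 : ∑ k ∈ range (n + 1 + 1), t ^ k * Q ^ (n + 1 - k) * A (n + 1 - k) * (A k * (1 - Q ^ k)) =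
      t ^ (n + 1) * ∑ k ∈ range (n + 1), t ^ k * A k * A (n - k) := by
    rw [sum_range_succ']
    have h0 : A 0 * (1 - Q ^ 0) = 0 := by simp
    rw [h0, mul_zero, add_zero]
    have h3 : ∀ j ∈ range (n + 1), t ^ (j + 1) * Q ^ (n + 1 - (j + 1)) * A (n + 1 - (j + 1)) *
        (A (j + 1) * (1 - Q ^ (j + 1))) = t ^ (j + 1) * Q ^ (n - j) * A (n - j) * A j := by
      intro j _
      rw [hA, Nat.add_sub_add_right]
    rw [sum_congr rfl h3, mul_sum]
    rw [← sum_range_reflect (fun j => t ^ (j + 1) * Q ^ (n - j) * A (n - j) * A j) (n + 1)]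
    apply sum_congr rfl
    intro j hj
    have hj' : j ≤ n := Nat.lt_succ_iff.mp (mem_range.mp hj)
    have e1 : n + 1 - 1 - j = n - j := by omega
    have e2 : n - (n - j) = j := by omega
    simp only [e1, e2]
    have e3 : t ^ (n - j + 1) * Q ^ j = t ^ (n + 1) * t ^ j := by
      rw [hQ, ← pow_mul, ← pow_add, ← pow_add]
      congr 1; omega
    calc t ^ (n - j + 1) * Q ^ j * A j * A (n - j)
        = (t ^ (n - j + 1) * Q ^ j) * (A j * A (n - j)) := by ring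
      _ = (t ^ (n + 1) * t ^ j) * (A j * A (n - j)) := by rw [e3]
      _ = t ^ (n + 1) * (t ^ j * A j * A (n - j)) := by ring
  rw [h1, h2]; ring

theorem conv_eq (t : ℚ) (h0 : 0 ≤ t) (h1 : t < 1) (n : ℕ) :
    ∑ k ∈ range (n + 1), t ^ k * (poch (t ^ 2) k)⁻¹ * (poch (t ^ 2) (n - k))⁻¹ = (poch t n)⁻¹ := by
  have hQ0 : 0 ≤ t ^ 2 := by positivity
  have hQ1 : t ^ 2 < 1 := pow_lt_one₀ h0 h1 (by norm_num)
  induction n with
  | zero => simp [poch_zero]
  | succ n ih =>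
    have hA : ∀ k, (poch (t ^ 2) (k + 1))⁻¹ * (1 - (t ^ 2) ^ (k + 1)) = (poch (t ^ 2) k)⁻¹ := by
      intro k
      rw [poch_succ, mul_inv]
      have h3 := (one_sub_pow_pos hQ0 hQ1 k).ne'
      rw [mul_assoc, inv_mul_cancel₀ h3, mul_one]
    have hk := key_step t (fun k => (poch (t ^ 2) k)⁻¹) hA n
    rw [ih] at hk
    have hfac : 1 - (t ^ 2) ^ (n + 1) = (1 - t ^ (n + 1)) * (1 + t ^ (n + 1)) := by ring
    have hpos : (1 + t ^ (n + 1)) ≠ 0 := by positivity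
    have hpos2 := (one_sub_pow_pos h0 h1 n).ne'
    rw [hfac] at hk
    have h4 : (∑ k ∈ range (n + 1 + 1), t ^ k * (poch (t ^ 2) k)⁻¹ * (poch (t ^ 2) (n + 1 - k))⁻¹) *
        (1 - t ^ (n + 1)) = (poch t n)⁻¹ := by
      apply mul_right_cancel₀ hpos
      linear_combination hk
    rw [poch_succ, mul_inv, ← h4, mul_assoc, mul_inv_cancel₀ hpos2, mul_one]

theorem tele (t : ℚ) (h0 : 0 ≤ t) (h1 : t < 1) (n : ℕ) :
    ∑ r ∈ range (n + 1), t ^ r * (poch t r)⁻¹ = (poch t n)⁻¹ := by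
  induction n with
  | zero => simp [poch_zero]
  | succ n ih =>
    rw [sum_range_succ, ih, poch_succ, mul_inv]
    have hp := (poch_pos h0 h1 n).ne'
    have h2 := (one_sub_pow_pos h0 h1 n).ne'
    field_simp
    ring

theorem coeff_mk_mul_mk (f g : ℕ → ℚ) (n : ℕ) :
    PowerSeries.coeff n (PowerSeries.mk f * PowerSeries.mk g) =
      ∑ k ∈ range (n + 1), f k * g (n - k) := by
  rw [PowerSeries.coeff_mul, Finset.Nat.sum_antidiagonal_eq_sum_range_succ_mk]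
  simp [PowerSeries.coeff_mk]

/-- the abstract cancellation argument. -/
theorem alpha_eq (t : ℚ) (h0 : 0 ≤ t) (h1 : t < 1) (α b : ℕ → ℚ)
    (hab : ∀ n, ∑ k ∈ range (n + 1), α k * b (n - k) = 1)
    (hlb : ∀ n, ∑ k ∈ range (n + 1), (t ^ k * (poch t k)⁻¹) * b (n - k) = (poch (t ^ 2) n)⁻¹) :
    ∀ k, α k = t ^ k * (poch (t ^ 2) k)⁻¹ := by
  set Aα : PowerSeries ℚ := PowerSeries.mk α with hAα
  set B : PowerSeries ℚ := PowerSeries.mk b with hB
  set Λ : PowerSeries ℚ := PowerSeries.mk (fun k => t ^ k * (poch t k)⁻¹) with hΛ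
  set Gs : PowerSeries ℚ := PowerSeries.mk (fun n => (poch (t ^ 2) n)⁻¹) with hGs
  set A0 : PowerSeries ℚ := PowerSeries.mk (fun k => t ^ k * (poch (t ^ 2) k)⁻¹) with hA0
  set One : PowerSeries ℚ := PowerSeries.mk (fun _ => (1 : ℚ)) with hOne
  have e1 : Aα * B = One := by
    ext n
    rw [hAα, hB, coeff_mk_mul_mk, hab n, hOne, PowerSeries.coeff_mk]
  have e2 : Λ * B = Gs := by
    ext n
    rw [hΛ, hB, coeff_mk_mul_mk, hlb n, hGs, PowerSeries.coeff_mk]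
  have e3 : A0 * Gs = Λ * One := by
    ext n
    rw [hA0, hGs, hΛ, hOne, coeff_mk_mul_mk, coeff_mk_mul_mk]
    simp only [mul_one]
    rw [tele t h0 h1 n, ← conv_eq t h0 h1 n]
  have hΛ0 : Λ ≠ 0 := by
    intro hz
    have := congrArg (PowerSeries.coeff 0) hz
    rw [hΛ, PowerSeries.coeff_mk] at this
    simp [poch_zero] at this
  have hB0 : B ≠ 0 := by
    intro hz
    have h2 := hab 0
    simp only [zero_add, sum_range_one, Nat.sub_zero] at h2
    have := congrArg (PowerSeries.coeff 0) hz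
    rw [hB, PowerSeries.coeff_mk] at this
    simp only [map_zero] at this
    rw [this, mul_zero] at h2
    exact zero_ne_one h2
  have e4 : Λ * (A0 * B) = Λ * (Aα * B) := by
    calc Λ * (A0 * B) = A0 * (Λ * B) := by ring
      _ = A0 * Gs := by rw [e2]
      _ = Λ * One := e3
      _ = Λ * (Aα * B) := by rw [e1]
  have e5 : A0 * B = Aα * B := mul_left_cancel₀ hΛ0 e4
  have e6 : A0 = Aα := mul_right_cancel₀ hB0 e5
  intro k
  have := congrArg (PowerSeries.coeff k) e6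
  rw [hA0, hAα, PowerSeries.coeff_mk, PowerSeries.coeff_mk] at this
  exact this.symm

theorem prod_sp (qq t : ℚ) (hqt : qq * t = 1) (k : ℕ) :
    ∏ j ∈ range k, (qq ^ (2 * (j + 1)) - 1) = qq ^ (k ^ 2 + k) * poch (t ^ 2) k := by
  induction k with
  | zero => simp [poch_zero]
  | succ k ih =>
    rw [prod_range_succ, ih, poch_succ]
    have e : qq ^ (2 * (k + 1)) * (t ^ 2) ^ (k + 1) = 1 := by
      rw [← pow_mul, ← mul_pow, hqt, one_pow]
    have e2 : qq ^ (2 * (k + 1)) - 1 = qq ^ (2 * (k + 1)) * (1 - (t ^ 2) ^ (k + 1)) := by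
      rw [mul_sub, mul_one, e]
    rw [e2]
    have e3 : (k + 1) ^ 2 + (k + 1) = (k ^ 2 + k) + 2 * (k + 1) := by ring
    rw [e3, pow_add]
    ring

theorem prod_gl (qq t : ℚ) (hqt : qq * t = 1) (k : ℕ) :
    ∏ j ∈ range k, (qq ^ k - qq ^ j) = qq ^ (k ^ 2) * poch t k := by
  have h1 : ∀ j ∈ range k, qq ^ k - qq ^ j = qq ^ k * (1 - t ^ (k - 1 - j + 1)) := by
    intro j hj
    have hj' : j < k := mem_range.mp hj
    have e1 : k - 1 - j + 1 = k - j := by omega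
    have e2 : qq ^ k = qq ^ j * qq ^ (k - j) := by
      rw [← pow_add]; congr 1; omega
    rw [e1, mul_sub, mul_one]
    congr 1
    rw [e2, mul_assoc, ← mul_pow, hqt, one_pow, mul_one]
  rw [prod_congr rfl h1, prod_mul_distrib, prod_const, card_range, ← pow_mul, ← sq]
  congr 1
  unfold poch
  exact prod_range_reflect (fun i => 1 - t ^ (i + 1)) k

/-- **PACKAGE E (pure arithmetic).**  The two Fitting relations determine the number of
unipotents. -/
theorem uN_eq_of_relations (q : ℕ) (hq : 2 ≤ q) (s u e a i h gl nil : ℕ → ℕ) (t1 t3 : ℕ → ℕ → ℕ)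
    (hs : ∀ n, s n = q ^ (n ^ 2) * ∏ j ∈ Finset.range n, (q ^ (2 * (j + 1)) - 1))
    (hgl : ∀ n, (gl n : ℚ) = ∏ j : Fin n, ((q : ℚ) ^ n - (q : ℚ) ^ (j : ℕ)))
    (hnil : ∀ n, nil n = q ^ (n * (n - 1)))
    (ha : ∀ n, a n = q ^ (n * (2 * n + 1)))
    (hie : ∀ n, i n = e n)
    (hh : ∀ n, h n * gl n = s n * nil n)
    (h1 : ∀ n k, k ≤ n → t1 n k * (s k * s (n - k)) = s n * (u k * e (n - k)))
    (h1s : ∀ n, ∑ k ∈ Finset.range (n + 1), t1 n k = s n)
    (h3 : ∀ n k, k ≤ n → t3 n k * (s k * s (n - k)) = s n * (h k * i (n - k)))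
    (h3s : ∀ n, ∑ k ∈ Finset.range (n + 1), t3 n k = a n) :
    ∀ n, u n = q ^ (2 * n ^ 2) := by
  obtain ⟨qq, hqq⟩ : ∃ qq : ℚ, qq = (q : ℚ) := ⟨_, rfl⟩
  have hq1 : (1 : ℚ) < qq := by
    rw [hqq]; exact_mod_cast (by omega : 1 < q)
  have hq0 : (0 : ℚ) < qq := by linarith
  obtain ⟨t, ht⟩ : ∃ t : ℚ, t = qq⁻¹ := ⟨_, rfl⟩
  have ht0 : 0 ≤ t := by rw [ht]; positivity
  have ht1 : t < 1 := by rw [ht]; exact inv_lt_one_of_one_lt₀ hq1
  have hqt : qq * t = 1 := by rw [ht]; exact mul_inv_cancel₀ hq0.ne'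
  have hQ0 : 0 ≤ t ^ 2 := by positivity
  have hQ1 : t ^ 2 < 1 := pow_lt_one₀ ht0 ht1 (by norm_num)
  -- casts of the given closed formulas
  have hsQ : ∀ k, (s k : ℚ) = qq ^ (2 * k ^ 2 + k) * poch (t ^ 2) k := by
    intro k
    rw [hs k, Nat.cast_mul, Nat.cast_prod, Nat.cast_pow, ← hqq]
    have hc : ∀ j ∈ range k, ((q ^ (2 * (j + 1)) - 1 : ℕ) : ℚ) = qq ^ (2 * (j + 1)) - 1 := by
      intro j _
      rw [Nat.cast_pred (pow_pos (by omega) _), Nat.cast_pow, ← hqq]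
    rw [prod_congr rfl hc, prod_sp qq t hqt k, ← mul_assoc, ← pow_add]
    congr 2
    ring
  have hglQ : ∀ k, (gl k : ℚ) = qq ^ (k ^ 2) * poch t k := by
    intro k
    rw [hgl k, ← hqq, Fin.prod_univ_eq_prod_range (fun j => qq ^ k - qq ^ j) k, prod_gl qq t hqt k]
  have hs0 : ∀ k, (s k : ℚ) ≠ 0 := by
    intro k
    rw [hsQ k]
    exact (mul_pos (pow_pos hq0 _) (poch_pos hQ0 hQ1 k)).ne'
  have hgl0 : ∀ k, (gl k : ℚ) ≠ 0 := by
    intro k
    rw [hglQ k]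
    exact (mul_pos (pow_pos hq0 _) (poch_pos ht0 ht1 k)).ne'
  -- lambda
  have hlam : ∀ k, (h k : ℚ) / s k = t ^ k * (poch t k)⁻¹ := by
    intro k
    have e1 : (h k : ℚ) * gl k = s k * nil k := by exact_mod_cast hh k
    have e2 : (h k : ℚ) / s k = (nil k : ℚ) / gl k := by
      rw [div_eq_div_iff (hs0 k) (hgl0 k)]
      linear_combination e1
    rw [e2, hglQ k, hnil k, Nat.cast_pow, ← hqq]
    have e3 : k ^ 2 = k * (k - 1) + k := by
      cases k with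
      | zero => rfl
      | succ k => simp only [Nat.add_sub_cancel]; ring
    have hp := (poch_pos ht0 ht1 k).ne'
    have e4 : qq ^ k * t ^ k = 1 := by rw [← mul_pow, hqt, one_pow]
    rw [e3, pow_add]
    have hqk : qq ^ (k * (k - 1)) ≠ 0 := (pow_pos hq0 _).ne'
    have hqk2 : qq ^ k ≠ 0 := (pow_pos hq0 _).ne'
    field_simp
    linear_combination (-1 : ℚ) * e4
  have hg : ∀ n, (a n : ℚ) / s n = (poch (t ^ 2) n)⁻¹ := by
    intro n
    rw [ha n, hsQ n, Nat.cast_pow, ← hqq]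
    have e : n * (2 * n + 1) = 2 * n ^ 2 + n := by ring
    rw [e]
    have hp := (poch_pos hQ0 hQ1 n).ne'
    have hqk : qq ^ (2 * n ^ 2 + n) ≠ 0 := (pow_pos hq0 _).ne'
    field_simp
  -- the two convolution relations
  have hab : ∀ n, ∑ k ∈ range (n + 1), ((u k : ℚ) / s k) * ((e (n - k) : ℚ) / s (n - k)) = 1 := by
    intro n
    have e1 : ∀ k ∈ range (n + 1), (t1 n k : ℚ) =
        s n * (((u k : ℚ) / s k) * ((e (n - k) : ℚ) / s (n - k))) := by
      intro k hk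
      have hk' : k ≤ n := Nat.lt_succ_iff.mp (mem_range.mp hk)
      have e2 : (t1 n k : ℚ) * (s k * s (n - k)) = s n * (u k * e (n - k)) := by
        exact_mod_cast h1 n k hk'
      have := hs0 k
      have := hs0 (n - k)
      field_simp
      linear_combination e2
    have e3 : (∑ k ∈ range (n + 1), (t1 n k : ℚ)) = s n := by exact_mod_cast h1s n
    rw [sum_congr rfl e1, ← mul_sum] at e3
    have := hs0 n
    field_simp at e3 ⊢
    linear_combination e3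
  have hlb : ∀ n, ∑ k ∈ range (n + 1), (t ^ k * (poch t k)⁻¹) * ((e (n - k) : ℚ) / s (n - k)) =
      (poch (t ^ 2) n)⁻¹ := by
    intro n
    have e1 : ∀ k ∈ range (n + 1), (t3 n k : ℚ) =
        s n * ((t ^ k * (poch t k)⁻¹) * ((e (n - k) : ℚ) / s (n - k))) := by
      intro k hk
      have hk' : k ≤ n := Nat.lt_succ_iff.mp (mem_range.mp hk)
      have e2 : (t3 n k : ℚ) * (s k * s (n - k)) = s n * (h k * i (n - k)) := by
        exact_mod_cast h3 n k hk'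
      rw [← hlam k, hie] at *
      have := hs0 k
      have := hs0 (n - k)
      field_simp
      linear_combination e2
    have e3 : (∑ k ∈ range (n + 1), (t3 n k : ℚ)) = a n := by exact_mod_cast h3s n
    rw [sum_congr rfl e1, ← mul_sum] at e3
    rw [← hg n, eq_div_iff (hs0 n)]
    linear_combination e3
  have hmain := alpha_eq t ht0 ht1 (fun k => (u k : ℚ) / s k) (fun k => (e k : ℚ) / s k) hab hlb
  intro n
  have h5 := hmain n
  have h6 : (u n : ℚ) = qq ^ (2 * n ^ 2) := by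
    have hp := (poch_pos hQ0 hQ1 n).ne'
    have e4 : qq ^ n * t ^ n = 1 := by rw [← mul_pow, hqt, one_pow]
    rw [div_eq_iff (hs0 n), hsQ n, pow_add] at h5
    rw [h5]
    have e5 : t ^ n * (poch (t ^ 2) n)⁻¹ * (qq ^ (2 * n ^ 2) * qq ^ n * poch (t ^ 2) n) =
        qq ^ (2 * n ^ 2) * (qq ^ n * t ^ n) * ((poch (t ^ 2) n)⁻¹ * poch (t ^ 2) n) := by ring
    rw [e5, e4, inv_mul_cancel₀ hp, mul_one, mul_one]
  rw [hqq] at h6
  exact_mod_cast h6

end Cfsg.Agent.Lib.Helper3.SpUnE
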