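import Mathlib
import Cfsg.Agent.Lib.Helper3.StCh7
set_option autoImplicit false
open Cfsg Cfsg.Lie

/-!
Steinberg character, part 8: the degree, in a form convenient for the tabulated data.
-/

namespace Cfsg.Agent.Lib.Helper3.StCh

open Cfsg.Agent.Lib.Helper3.ChevM Cfsg.Agent.Lib.Helper3.ChevAut

theorem steinberg_one' {F : Type*} [Field F] [Fintype F] {C : CDatum} {R : RelData C}
    (Y : AutHyp C R) (D : Cfsg.Lie.ChevalleyDatum) (hD : D = C.D)
    (hU : Nat.card (D.posUnipotent F) = Fintype.card F ^ (D.nroots / 2)) :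
    D.steinbergCharacter F 1 = (Fintype.card F : ℂ) ^ (D.nroots / 2) := by
  subst hD
  exact steinberg_one Y hU

end Cfsg.Agent.Lib.Helper3.StCh
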