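import Mathlib
import Cfsg.Agent.Lib.Helper3.SL2Pres3
set_option autoImplicit false

/-! Matrix identities in `SL₂` for the rank one Steinberg presentation. -/

namespace Cfsg.Agent.Lib.Helper3.StRk

open Cfsg.Agent.Lib.Helper3

variable {K : Type*} [Field K]

theorem nx_eq (t : K) (ht : t ≠ 0) :
    (SL2P.xE t * SL2P.yE (-t⁻¹) * SL2P.xE t).1 = !![0, t; -t⁻¹, 0] := by
  show (SL2P.xE t).1 * (SL2P.yE (-t⁻¹)).1 * (SL2P.xE t).1 = _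
  simp only [SL2P.xE, SL2P.yE]
  ext i j
  fin_cases i <;> fin_cases j <;> simp [Matrix.mul_apply, Fin.sum_univ_two, ht]

theorem ny_eq (t : K) (ht : t ≠ 0) :
    (SL2P.yE t * SL2P.xE (-t⁻¹) * SL2P.yE t).1 = !![0, -t⁻¹; t, 0] := by
  show (SL2P.yE t).1 * (SL2P.xE (-t⁻¹)).1 * (SL2P.yE t).1 = _
  simp only [SL2P.xE, SL2P.yE]
  ext i j
  fin_cases i <;> fin_cases j <;> simp [Matrix.mul_apply, Fin.sum_univ_two, ht]

theorem relx (t u : K) (ht : t ≠ 0) :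
    SL2P.xE t * SL2P.yE (-t⁻¹) * SL2P.xE t * SL2P.xE u =
      SL2P.yE (-(t⁻¹ ^ 2 * u)) * (SL2P.xE t * SL2P.yE (-t⁻¹) * SL2P.xE t) := by
  apply Subtype.ext
  show (SL2P.xE t * SL2P.yE (-t⁻¹) * SL2P.xE t).1 * (SL2P.xE u).1 =
    (SL2P.yE (-(t⁻¹ ^ 2 * u))).1 * (SL2P.xE t * SL2P.yE (-t⁻¹) * SL2P.xE t).1
  rw [nx_eq t ht]
  simp only [SL2P.xE, SL2P.yE]
  ext i j
  fin_cases i <;> fin_cases j <;> simp [Matrix.mul_apply, Fin.sum_univ_two]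
  field_simp

theorem rely (t u : K) (ht : t ≠ 0) :
    SL2P.yE t * SL2P.xE (-t⁻¹) * SL2P.yE t * SL2P.yE u =
      SL2P.xE (-(t⁻¹ ^ 2 * u)) * (SL2P.yE t * SL2P.xE (-t⁻¹) * SL2P.yE t) := by
  apply Subtype.ext
  show (SL2P.yE t * SL2P.xE (-t⁻¹) * SL2P.yE t).1 * (SL2P.yE u).1 =
    (SL2P.xE (-(t⁻¹ ^ 2 * u))).1 * (SL2P.yE t * SL2P.xE (-t⁻¹) * SL2P.yE t).1
  rw [ny_eq t ht]
  simp only [SL2P.xE, SL2P.yE]
  ext i j
  fin_cases i <;> fin_cases j <;> simp [Matrix.mul_apply, Fin.sum_univ_two]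
  field_simp

end Cfsg.Agent.Lib.Helper3.StRk
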