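import Mathlib
import Cfsg.Agent.Lib.Helper3.StU1
import Cfsg.Agent.Lib.Helper3.ChevU1
set_option autoImplicit false
set_option linter.unusedSectionVars false

/-! Finite central extensions with kernel of order prime to `p`: the `p`-elements lift canonically, and the lift is
multiplicative on every `p`-subgroup. Also: Schur's finiteness of the commutator subgroup in the form used for perfect
central extensions, tail groups of abstract root systems over additive groups of exponent `p` are `p`-groups, and the
centre of a general linear group in characteristic `p` has no element of order `p`. -/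

namespace Cfsg.Agent.Lib.Helper3.StW

open scoped commutatorElement
open Cfsg.Agent.Lib.Helper3.StU Cfsg.Agent.Lib.Helper3.ChevU

section
variable {G : Type*} [Group G]

/-- If the centre has finite index there are only finitely many commutators. -/
theorem finite_commutatorSet_of_finiteIndex [(Subgroup.center G).FiniteIndex] : Finite (commutatorSet G) := by
  classical
  have hQ : Finite (G ⧸ Subgroup.center G) := Subgroup.finite_quotient_of_finiteIndex
  let f : (G ⧸ Subgroup.center G) × (G ⧸ Subgroup.center G) → G := fun q => ⁅q.1.out, q.2.out⁆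
  have hsub : commutatorSet G ⊆ Set.range f := by
    rintro g ⟨a, b, rfl⟩
    refine ⟨(QuotientGroup.mk a, QuotientGroup.mk b), ?_⟩
    obtain ⟨za, hza⟩ := QuotientGroup.mk_out_eq_mul (Subgroup.center G) a
    obtain ⟨zb, hzb⟩ := QuotientGroup.mk_out_eq_mul (Subgroup.center G) b
    show ⁅(QuotientGroup.mk a : G ⧸ Subgroup.center G).out, (QuotientGroup.mk b : G ⧸ Subgroup.center G).out⁆ = _
    rw [hza, hzb, comm_mul_central_left za.2, comm_mul_central_right zb.2]
  exact Set.finite_coe_iff.mpr (Set.Finite.subset (Set.finite_range f) hsub)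

/-- A perfect group which is a central extension of a finite group is finite. -/
theorem finite_of_perfect_central {H : Type*} [Group H] [Finite H] (θ : G →* H)
    (hc : θ.ker ≤ Subgroup.center G) (hperf : commutator G = ⊤) : Finite G := by
  have h1 : θ.ker.FiniteIndex := ⟨by rw [Subgroup.index_ker]; exact Nat.card_pos.ne'⟩
  have h2 : (Subgroup.center G).FiniteIndex := Subgroup.finiteIndex_of_le hc
  have := finite_commutatorSet_of_finiteIndex (G := G)
  have h3 : Finite (commutator G) := inferInstance
  rw [hperf] at h3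
  exact Finite.of_equiv _ Subgroup.topEquiv.toEquiv

/-- The commutator subgroup of a central extension of a finite group is finite. -/
theorem finite_commutator_of_central {H : Type*} [Group H] [Finite H] (θ : G →* H)
    (hc : θ.ker ≤ Subgroup.center G) : Finite (commutator G) := by
  have h1 : θ.ker.FiniteIndex := ⟨by rw [Subgroup.index_ker]; exact Nat.card_pos.ne'⟩
  have h2 : (Subgroup.center G).FiniteIndex := Subgroup.finiteIndex_of_le hc
  have := finite_commutatorSet_of_finiteIndex (G := G)
  exact inferInstance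

end

section
variable {E Δ : Type*} [Group E] [Group Δ] (π : E →* Δ) (p : ℕ)

/-- Elements of `p`-power order. -/
def IsPE {E : Type*} [Group E] (p : ℕ) (e : E) : Prop := ∃ k : ℕ, e ^ p ^ k = 1

theorem IsPE.pow_of_le {p : ℕ} {e : E} {k K : ℕ} (h : e ^ p ^ k = 1) (hk : k ≤ K) : e ^ p ^ K = 1 := by
  obtain ⟨d, rfl⟩ := Nat.exists_eq_add_of_le hk
  rw [pow_add, pow_mul, h, one_pow]

variable [Finite E] [hp : Fact p.Prime]

/-- Two `p`-elements with the same image are equal. -/
theorem pe_unique (hc : π.ker ≤ Subgroup.center E) (hA : (Nat.card π.ker).Coprime p) {e e' : E}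
    (h : π e = π e') (he : IsPE p e) (he' : IsPE p e') : e = e' := by
  obtain ⟨k, hk⟩ := he
  obtain ⟨k', hk'⟩ := he'
  set z := e⁻¹ * e' with hz
  have hzk : z ∈ π.ker := by rw [MonoidHom.mem_ker, hz, map_mul, map_inv, h, inv_mul_cancel]
  have hzc : z ∈ Subgroup.center E := hc hzk
  have e1 : e' = e * z := by rw [hz, mul_inv_cancel_left]
  have hcomm : Commute e z := (Subgroup.mem_center_iff.mp hzc e)
  have h1 : e ^ p ^ (k + k') = 1 := IsPE.pow_of_le hk (Nat.le_add_right _ _)
  have h2 : e' ^ p ^ (k + k') = 1 := IsPE.pow_of_le hk' (Nat.le_add_left _ _)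
  have h3 : z ^ p ^ (k + k') = 1 := by
    have := h2
    rw [e1, hcomm.mul_pow, h1, one_mul] at this
    exact this
  have d1 : orderOf z ∣ p ^ (k + k') := orderOf_dvd_of_pow_eq_one h3
  have d2 : orderOf z ∣ Nat.card π.ker := Subgroup.orderOf_dvd_natCard _ hzk
  have hcop : (Nat.card π.ker).Coprime (p ^ (k + k')) := Nat.Coprime.pow_right _ hA
  have : orderOf z = 1 := Nat.eq_one_of_dvd_coprimes hcop d2 d1
  rw [orderOf_eq_one_iff] at this
  rw [e1, this, mul_one]

/-- Every `p`-element of the quotient has a `p`-element above it. -/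
theorem pe_exists (hπ : Function.Surjective π) (hA : (Nat.card π.ker).Coprime p) {x : Δ}
    (hx : IsPE p x) : ∃ e : E, π e = x ∧ IsPE p e := by
  obtain ⟨k, hk⟩ := hx
  obtain ⟨e₀, he₀⟩ := hπ x
  have hp1 : 1 < p := hp.out.one_lt
  rcases Nat.eq_zero_or_pos k with rfl | hkpos
  · refine ⟨1, ?_, 0, by simp⟩
    rw [map_one]
    simpa using hk.symm
  have hpk : 1 < p ^ k := Nat.one_lt_pow hkpos.ne' hp1
  have hcop : (Nat.card π.ker).Coprime (p ^ k) := Nat.Coprime.pow_right _ hA
  obtain ⟨n, -, hn⟩ := Nat.exists_mul_mod_eq_one_of_coprime hcop hpk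
  set m := Nat.card π.ker with hm
  have hz : e₀ ^ p ^ k ∈ π.ker := by rw [MonoidHom.mem_ker, map_pow, he₀, hk]
  have hzm : (e₀ ^ p ^ k) ^ m = 1 := by
    have : (⟨e₀ ^ p ^ k, hz⟩ : π.ker) ^ Nat.card π.ker = 1 := pow_card_eq_one'
    have := congrArg Subtype.val this
    rw [SubmonoidClass.coe_pow, OneMemClass.coe_one] at this
    exact this
  refine ⟨e₀ ^ (m * n), ?_, k, ?_⟩
  · rw [map_pow, he₀]
    have : x ^ (m * n) = x ^ (m * n % p ^ k) := pow_eq_pow_mod _ hk
    rw [this, hn, pow_one]
  · rw [← pow_mul, mul_comm, pow_mul, pow_mul, hzm, one_pow]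

/-- The canonical lift of `p`-elements. -/
noncomputable def pLift (x : Δ) : E :=
  open Classical in if h : ∃ e : E, π e = x ∧ IsPE p e then h.choose else 1

theorem pLift_spec (hπ : Function.Surjective π) (hA : (Nat.card π.ker).Coprime p) {x : Δ} (hx : IsPE p x) :
    π (pLift π p x) = x ∧ IsPE p (pLift π p x) := by
  have h := pe_exists π p hπ hA hx
  unfold pLift
  rw [dif_pos h]
  exact h.choose_spec

theorem pLift_eq (hπ : Function.Surjective π) (hc : π.ker ≤ Subgroup.center E)
    (hA : (Nat.card π.ker).Coprime p) {x : Δ} {e : E} (he : π e = x) (hpe : IsPE p e) : pLift π p x = e := by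
  have hx : IsPE p x := by
    obtain ⟨k, hk⟩ := hpe
    exact ⟨k, by rw [← he, ← map_pow, hk, map_one]⟩
  have := pLift_spec π p hπ hA hx
  exact pe_unique π p hc hA (this.1.trans he.symm) this.2 hpe

/-- On a `p`-subgroup the canonical lift is a homomorphism. -/
theorem exists_hom_pLift (hπ : Function.Surjective π) (hc : π.ker ≤ Subgroup.center E)
    (hA : (Nat.card π.ker).Coprime p) (P : Subgroup Δ) (hP : IsPGroup p P) :
    ∃ σ : P →* E, ∀ y : P, σ y = pLift π p (y : Δ) ∧ π (σ y) = y := by
  classical
  have hΔ : Finite Δ := Finite.of_surjective π hπ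
  -- the preimage of `P`
  let Q : Subgroup E := P.comap π
  let f : Q →* P := π.subgroupComap P
  have hf : ∀ g : Q, ((f g : P) : Δ) = π (g : E) := fun g => rfl
  have hker : f.ker ≤ Subgroup.center Q := by
    intro g hg
    rw [MonoidHom.mem_ker] at hg
    have h1 : π (g : E) = 1 := by rw [← hf, hg]; rfl
    have h2 : (g : E) ∈ Subgroup.center E := hc h1
    rw [Subgroup.mem_center_iff]
    intro h
    apply Subtype.ext
    exact Subgroup.mem_center_iff.mp h2 (h : E)
  have hPnil : Group.IsNilpotent P := hP.isNilpotent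
  have hQnil : Group.IsNilpotent Q := Subgroup.isNilpotent_of_ker_le_center f hker
  let S : Sylow p Q := default
  have hSn : (S : Subgroup Q).Normal := inferInstance
  have hSu : ∀ S' : Sylow p Q, S' = S := by
    intro S'
    have := Sylow.unique_of_normal S hSn
    exact Subsingleton.elim _ _
  -- `p`-elements of `Q` lie in `S`
  have hmem : ∀ g : Q, IsPE p (g : E) → g ∈ (S : Subgroup Q) := by
    intro g ⟨k, hk⟩
    have hz : IsPGroup p (Subgroup.zpowers g) := by
      rintro ⟨y, hy⟩
      obtain ⟨n, rfl⟩ := Subgroup.mem_zpowers_iff.mp hy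
      refine ⟨k, ?_⟩
      apply Subtype.ext
      apply Subtype.ext
      simp only [Subgroup.coe_pow, Subgroup.coe_zpow, Subgroup.coe_one]
      rw [← zpow_natCast, ← zpow_mul, mul_comm, zpow_mul, zpow_natCast, hk, one_zpow]
    obtain ⟨S', hS'⟩ := hz.exists_le_sylow
    rw [hSu S'] at hS'
    exact hS' (Subgroup.mem_zpowers g)
  have hyP : ∀ y : P, IsPE p (y : Δ) := by
    intro y
    obtain ⟨k, hk⟩ := hP y
    exact ⟨k, by have := congrArg Subtype.val hk; simpa using this⟩
  -- the lift of `y ∈ P` as an element of `Q`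
  have hl : ∀ y : P, pLift π p (y : Δ) ∈ Q := by
    intro y
    show π (pLift π p (y : Δ)) ∈ P
    rw [(pLift_spec π p hπ hA (hyP y)).1]
    exact y.2
  have hlS : ∀ y : P, (⟨pLift π p (y : Δ), hl y⟩ : Q) ∈ (S : Subgroup Q) :=
    fun y => hmem _ (pLift_spec π p hπ hA (hyP y)).2
  have hmul : ∀ y y' : P, pLift π p ((y * y' : P) : Δ) = pLift π p (y : Δ) * pLift π p (y' : Δ) := by
    intro y y'
    apply pLift_eq π p hπ hc hA
    · rw [map_mul, (pLift_spec π p hπ hA (hyP y)).1, (pLift_spec π p hπ hA (hyP y')).1]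
      rfl
    · have hprod := Subgroup.mul_mem _ (hlS y) (hlS y')
      obtain ⟨k, hk⟩ := S.isPGroup' ⟨_, hprod⟩
      refine ⟨k, ?_⟩
      have := congrArg (fun z : (S : Subgroup Q) => ((z : Q) : E)) hk
      simpa using this
  refine ⟨MonoidHom.mk' (fun y => pLift π p (y : Δ)) hmul, fun y => ⟨rfl, ?_⟩⟩
  exact (pLift_spec π p hπ hA (hyP y)).1

end

section
variable {G : Type*} [Group G] {F : Type*} [AddGroup F] {x : ℕ → F → G} {P : ℕ → Prop} {pos : ℕ → ℕ}

theorem RootSys.x_nsmul (H : RootSys x P pos) (r : ℕ) (a : F) (n : ℕ) : x r (n • a) = x r a ^ n := by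
  induction n with
  | zero => rw [zero_smul, pow_zero, H.x_zero]
  | succ n ih => rw [succ_nsmul, H.add, ih, pow_succ]

/-- Over an additive group of exponent `p` the tail groups are `p`-groups. -/
theorem RootSys.tail_isPE (H : RootSys x P pos) (p : ℕ) (hp : ∀ a : F, p • a = 0) (K : ℕ)
    (hK : ∀ r, P r → pos r < K) : ∀ j k : ℕ, k + j = K → ∀ z ∈ tailGrp x P pos k, IsPE p z := by
  intro j
  induction j with
  | zero =>
    intro k hk z hz
    have : tailGrp x P pos k = ⊥ := by
      unfold tailGrp
      rw [Subgroup.closure_eq_bot_iff]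
      rintro g ⟨r, t, hr, hle, rfl⟩
      have := hK r hr
      omega
    rw [this, Subgroup.mem_bot] at hz
    exact ⟨0, by rw [hz, one_pow]⟩
  | succ j ih =>
    intro k hk z hz
    by_cases hex : ∃ r, P r ∧ pos r = k
    · obtain ⟨r₀, hr₀, hpos⟩ := hex
      -- powers of `z` modulo the next tail
      have key : ∀ n : ℕ, ∀ z ∈ tailGrp x P pos k, ∀ a : F, ∀ z' ∈ tailGrp x P pos (k + 1), z = x r₀ a * z' →
          ∃ z'' ∈ tailGrp x P pos (k + 1), z ^ n = x r₀ (n • a) * z'' := by
        intro n
        induction n with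
        | zero =>
          intro z _ a z' _ _
          exact ⟨1, Subgroup.one_mem _, by rw [pow_zero, zero_smul, H.x_zero, one_mul]⟩
        | succ n ihn =>
          intro z hz a z' hz' e
          obtain ⟨z'', hz'', e'⟩ := ihn z hz a z' hz' e
          have hxa : x r₀ a ∈ tailGrp x P pos 0 := gen_mem x P pos hr₀ (Nat.zero_le _) a
          refine ⟨(x r₀ a)⁻¹ * z'' * x r₀ a * z', Subgroup.mul_mem _ (H.conj_mem' hxa hz'') hz', ?_⟩
          rw [pow_succ, e', succ_nsmul, H.add]
          conv_lhs => rw [e]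
          group
      obtain ⟨a, z', hz', e⟩ := H.split hr₀ hpos hz
      obtain ⟨z'', hz'', e'⟩ := key p z hz a z' hz' e
      rw [hp a, H.x_zero, one_mul] at e'
      obtain ⟨i, hi⟩ := ih (k + 1) (by omega) z'' hz''
      refine ⟨i + 1, ?_⟩
      rw [pow_succ', pow_mul, e', hi]
    · rw [H.tail_succ_of_no_root hex] at hz
      exact ih (k + 1) (by omega) z hz

end

section
variable {L : Type*} [Field L] {n : ℕ}

/-- In characteristic `p` the centre of the general linear group has no element of order `p`. -/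
theorem center_GL_pow_char (p : ℕ) [hp : Fact p.Prime] [CharP L p] (g : GL (Fin n) L)
    (hg : g ∈ Subgroup.center (GL (Fin n) L)) (h : g ^ p = 1) : g = 1 := by
  rcases isEmpty_or_nonempty (Fin n) with hn | hn
  · apply Units.ext
    exact Subsingleton.elim _ _
  obtain ⟨a, ha⟩ := Matrix.GeneralLinearGroup.mem_center_iff_val_mem_range_scalar.mp hg
  have h1 : (g ^ p : GL (Fin n) L).val = 1 := by rw [h]; rfl
  rw [Units.val_pow_eq_pow_val, ← ha, ← map_pow] at h1
  have h2 : a ^ p = 1 := by
    have : Matrix.scalar (Fin n) (a ^ p) = Matrix.scalar (Fin n) (1 : L) := by rw [h1, map_one]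
    exact Matrix.scalar_inj.mp this
  have h3 : (a - 1) ^ p = 0 := by rw [sub_pow_char, h2, one_pow, sub_self]
  have h4 : a = 1 := by
    have := pow_eq_zero_iff (hp.out.ne_zero) |>.mp h3
    exact sub_eq_zero.mp this
  apply Units.ext
  rw [← ha, h4, map_one]
  rfl

end

end Cfsg.Agent.Lib.Helper3.StW
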