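import Mathlib
import Cfsg.Prelude.Def_ChevStructure
import Cfsg.Prelude.Def_SteinbergCover
import Cfsg.Agent.Lib.Helper3.StU11
import Cfsg.Agent.Lib.Helper3.StW1
set_option autoImplicit false
set_option linter.unusedSectionVars false
open Cfsg Cfsg.Lie

/-! Over a finite field of characteristic `p`, the central extensions of the group presented by Steinberg's relators
(R1), (R2) whose kernel has no element of order `p` split. -/

namespace Cfsg.Agent.Lib.Helper3.StW

open ChevM ChevU ChevT ChevH StB StU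

section
variable {C : CDatum} {R : RelData C}

/-- Every pair of independent roots is moved into the positive system, together with the roots of its commutator
formula, by a word in the fundamental reflections. -/
theorem exists_pos_word (H : UnivHyp C R) :
    ∀ r < C.D.nroots, ∀ s < C.D.nroots, s ≠ r → s ≠ C.D.neg r →
      ∃ l : List ℕ, (∀ i ∈ l, i < C.D.rank) ∧ C.D.IsPosRoot (reflW R.refl l r) ∧
        C.D.IsPosRoot (reflW R.refl l s) ∧
        ∀ c ∈ C.D.commTerms r s, c.1 < C.D.nroots ∧ C.D.IsPosRoot (reflW R.refl l c.1) := by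
  suffices h : ∀ m r s, rho C.D.nroots r s = m → r < C.D.nroots → s < C.D.nroots → s ≠ r → s ≠ C.D.neg r →
      ∃ l : List ℕ, (∀ i ∈ l, i < C.D.rank) ∧ C.D.IsPosRoot (reflW R.refl l r) ∧
        C.D.IsPosRoot (reflW R.refl l s) ∧
        ∀ c ∈ C.D.commTerms r s, c.1 < C.D.nroots ∧ C.D.IsPosRoot (reflW R.refl l c.1) from
    fun r hr s hs h1 h2 => h _ r s rfl hr hs h1 h2
  intro m
  induction m using Nat.strong_induction_on with
  | _ m ih =>
    intro r s hm hr hs h1 h2
    by_cases hw : Nat.blt (H.Y.U.K.wit r s) C.D.rank = true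
    · have hk := H.Y.U.K.ok r hr s hs
      simp only [commOKk, h1, h2, decide_false, Bool.false_or] at hk
      unfold commOK at hk
      rw [hw, cond_true] at hk
      simp only [commStep, Bool.and_eq_true, decide_eq_true_eq, List.all_eq_true] at hk
      obtain ⟨⟨⟨⟨⟨⟨⟨⟨e1, e2⟩, e3⟩, e4⟩, e5⟩, e6⟩, e7⟩, e8⟩, e9⟩ := hk
      have hi : H.Y.U.K.wit r s < C.D.rank := by rwa [Nat.blt_eq] at hw
      set i := H.Y.U.K.wit r s with hidef
      obtain ⟨l₁, hl₁, p1, p2, p3⟩ := ih _ (hm ▸ e7) _ _ rfl e3 e4 e5 e6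
      refine ⟨l₁ ++ [i], ?_, ?_, ?_, ?_⟩
      · intro j hj
        rcases List.mem_append.mp hj with hj | hj
        · exact hl₁ j hj
        · rw [List.mem_singleton] at hj
          rw [hj]; exact hi
      · rw [reflW_append]; exact p1
      · rw [reflW_append]; exact p2
      · intro c hc
        rw [e9, List.mem_map] at hc
        obtain ⟨c', hc', rfl⟩ := hc
        have hlt := (p3 c' hc').1
        refine ⟨R.refl_lt i hi _ hlt, ?_⟩
        rw [reflW_append]
        show C.D.IsPosRoot (reflW R.refl l₁ (R.refl i (R.refl i c'.1)))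
        have hinv := H.Y.B.mono.inv i hi c'.1 hlt
        simp only [reflInvCheck, decide_eq_true_eq] at hinv
        rw [hinv]
        exact (p3 c' hc').2
    · have hb := H.base r hr s hs
      simp only [baseOK, h1, h2, hw, decide_false, Bool.false_or, Bool.or_eq_true, Bool.and_eq_true,
        decide_eq_true_eq] at hb
      rcases hb with hb | hb
      · refine ⟨[], by simp, hb.1, hb.2, ?_⟩
        intro c hc
        have := (UHyp.col_spec H.Y.U hb.1 hb.2 h1).2 c hc
        exact ⟨this.1.1, this.1⟩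
      · simp only [wordOK, Bool.and_eq_true, List.all_eq_true, decide_eq_true_eq] at hb
        obtain ⟨⟨⟨⟨hl, q1⟩, q2⟩, _⟩, q4⟩ := hb
        exact ⟨_, hl, q1, q2, q4⟩

end

section
variable {F : Type*} [Field F] {Γ : Type*} [Group Γ]

/-- The value of a word under a homomorphism defined on a subgroup containing its letters. -/
theorem hom_wordS {E : Type*} [Group E] (X : ℕ → F → Γ) (P : Subgroup Γ) (σ : P →* E) (lam : Γ → E)
    (hσ : ∀ y : P, σ y = lam (y : Γ)) (w : List (ℕ × F)) (hw : ∀ q ∈ w, X q.1 q.2 ∈ P) :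
    ∃ y : P, (y : Γ) = wordS X w ∧ σ y = wordS (fun r t => lam (X r t)) w := by
  induction w with
  | nil => exact ⟨1, by rw [wordS_nil]; rfl, by rw [wordS_nil]; exact map_one σ⟩
  | cons q w ih =>
    obtain ⟨y, hy, e⟩ := ih (fun q' hq' => hw q' (List.mem_cons_of_mem _ hq'))
    have hq := hw q List.mem_cons_self
    refine ⟨⟨X q.1 q.2, hq⟩ * y, ?_, ?_⟩
    · rw [wordS_cons, ← hy]; rfl
    · rw [map_mul, e, hσ, wordS_cons]

end

section
universe u v
variable {C : CDatum} {R : RelData C} {F : Type u} [Field F]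

/-- Over a finite field of characteristic `p`, a central extension of the (finite, perfect) group presented by (R1),
(R2) whose kernel has no element of order `p` splits. -/
theorem cover_small_split (K : CommData C R) (H : UnivHyp C R) (p : ℕ) [hp : Fact p.Prime] [CharP F p]
    [hfin : Finite (C.D.SteinbergCover F)] (hperf : commutator (C.D.SteinbergCover F) = ⊤)
    {E : Type v} [Group E] (ψ : E →* C.D.SteinbergCover F) (hsurj : Function.Surjective ψ)
    (hc : ψ.ker ≤ Subgroup.center E) (htor : ∀ z ∈ ψ.ker, z ^ p = 1 → z = 1) :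
    ∃ s : C.D.SteinbergCover F →* E, ψ.comp s = MonoidHom.id _ := by
  classical
  have hAB : C.D.steinbergRelsAB F ⊆ C.D.steinbergRelsAB F := fun g hg => hg
  set φ : PresentedGroup (C.D.steinbergRelsAB F) →* GL C.D.Idx F :=
    (C.D.group F).subtype.comp (presHom R (C.D.steinbergRelsAB F) (stLift_relsAB R K)) with hφdef
  have hφ : ∀ r < C.D.nroots, ∀ t : F,
      φ (PresentedGroup.mk (C.D.steinbergRelsAB F) (C.D.stX r t)) = R.xU r t := by
    intro r _ t
    rw [hφdef, MonoidHom.comp_apply, Subgroup.coe_subtype, presHom_mk, stLift_stX]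
  set S := presData R (C.D.steinbergRelsAB F) hAB φ hφ with hS
  have hgen := presData_gen R (C.D.steinbergRelsAB F) hAB φ hφ
  -- the commutator subgroup of `E`
  have hE1fin : Finite (commutator E) := finite_commutator_of_central ψ hc
  set π : commutator E →* C.D.SteinbergCover F := ψ.comp (commutator E).subtype with hπdef
  have hπsurj : Function.Surjective π := by
    intro d
    have h1 : (commutator E).map ψ = ⊤ := by
      rw [commutator_def, Subgroup.map_commutator, ← MonoidHom.range_eq_map,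
        MonoidHom.range_eq_top.mpr hsurj, ← commutator_def, hperf]
    have h2 : d ∈ (commutator E).map ψ := by rw [h1]; exact Subgroup.mem_top d
    obtain ⟨e, he, rfl⟩ := h2
    exact ⟨⟨e, he⟩, rfl⟩
  have hπc : π.ker ≤ Subgroup.center (commutator E) := by
    intro g hg
    have h1 : ψ (g : E) = 1 := hg
    have h2 : (g : E) ∈ Subgroup.center E := hc h1
    rw [Subgroup.mem_center_iff]
    intro h
    apply Subtype.ext
    exact Subgroup.mem_center_iff.mp h2 (h : E)
  have hπA : (Nat.card π.ker).Coprime p := by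
    rw [Nat.coprime_comm, Nat.Prime.coprime_iff_not_dvd hp.out]
    intro hdvd
    obtain ⟨z, hz⟩ := exists_prime_orderOf_dvd_card' (G := π.ker) p hdvd
    have h1 : z ^ p = 1 := by rw [← hz]; exact pow_orderOf_eq_one z
    have h2 : ψ ((z : commutator E) : E) = 1 := z.2
    have h3 : ((z : commutator E) : E) ^ p = 1 := by
      have := congrArg (fun y : π.ker => ((y : commutator E) : E)) h1
      simpa using this
    have h4 : ((z : commutator E) : E) = 1 := htor _ h2 h3
    have h5 : z = 1 := by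
      apply Subtype.ext
      apply Subtype.ext
      exact h4
    rw [h5, orderOf_one] at hz
    exact hp.out.one_lt.ne hz
  -- the canonical lifts
  set lam : C.D.SteinbergCover F → E := fun d => ((pLift π p d : commutator E) : E) with hlam
  have hhom : ∀ P : Subgroup (C.D.SteinbergCover F), IsPGroup p P →
      ∃ σ : P →* E, ∀ y : P, σ y = lam (y : C.D.SteinbergCover F) ∧ ψ (σ y) = y := by
    intro P hP
    obtain ⟨σ, hσ⟩ := exists_hom_pLift π p hπsurj hπc hπA P hP
    refine ⟨(commutator E).subtype.comp σ, fun y => ⟨?_, ?_⟩⟩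
    · rw [MonoidHom.comp_apply, (hσ y).1]; rfl
    · exact (hσ y).2
  -- the unipotent group is a `p`-group
  have hpF : ∀ a : F, p • a = 0 := by
    intro a
    rw [nsmul_eq_mul, CharP.cast_eq_zero, zero_mul]
  have hU : IsPGroup p (S.Ubar H.Y.U) := by
    intro y
    obtain ⟨k, hk⟩ := RootSys.tail_isPE (S.rootSys H.Y.U) p hpF C.D.nroots
      (fun r hr => UHyp.hpos_lt H.Y.U hr) C.D.nroots 0 (by omega) (y : C.D.SteinbergCover F) y.2
    exact ⟨k, Subtype.ext (by simpa using hk)⟩
  have hroot : ∀ r, IsPGroup p (S.rootGrp r) := by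
    intro r y
    obtain ⟨t, ht⟩ := (S.mem_rootGrp r _).mp y.2
    refine ⟨1, Subtype.ext ?_⟩
    have hx : ∀ n : ℕ, S.X r (n • t) = S.X r t ^ n := by
      intro n
      induction n with
      | zero => rw [zero_smul, pow_zero, S.X_zero]
      | succ n ih => rw [succ_nsmul, S.add, ih, pow_succ]
    simp only [pow_one, Subgroup.coe_pow, Subgroup.coe_one]
    rw [ht, ← hx, hpF, S.X_zero]
  -- the symbols
  set x : ℕ → F → E := fun r t => if r < C.D.nroots then lam (S.X r t) else 1 with hx
  have hx1 : ∀ r < C.D.nroots, ∀ t, x r t = lam (S.X r t) := fun r hr t => by rw [hx]; exact if_pos hr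
  have h0 : ∀ r, ¬ r < C.D.nroots → ∀ t, x r t = 1 := fun r hr t => by rw [hx]; exact if_neg hr
  have hadd : ∀ r < C.D.nroots, ∀ a b, x r (a + b) = x r a * x r b := by
    intro r hr a b
    obtain ⟨σ, hσ⟩ := hhom _ (hroot r)
    rw [hx1 r hr, hx1 r hr, hx1 r hr]
    have e1 := (hσ ⟨S.X r a, S.X_mem_rootGrp r a⟩).1
    have e2 := (hσ ⟨S.X r b, S.X_mem_rootGrp r b⟩).1
    have e3 := (hσ ⟨S.X r (a + b), S.X_mem_rootGrp r (a + b)⟩).1
    rw [← e1, ← e2, ← e3, ← map_mul]
    congr 1
    apply Subtype.ext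
    exact S.add r a b
  have hxψ : ∀ r < C.D.nroots, ∀ t, ψ (x r t) = S.X r t := by
    intro r hr t
    obtain ⟨σ, hσ⟩ := hhom _ (hroot r)
    rw [hx1 r hr, ← (hσ ⟨S.X r t, S.X_mem_rootGrp r t⟩).1]
    exact (hσ ⟨S.X r t, S.X_mem_rootGrp r t⟩).2
  have hcomm : ∀ r < C.D.nroots, ∀ s < C.D.nroots, s ≠ r → s ≠ C.D.neg r → ∀ t u : F,
      (x s u)⁻¹ * (x r t)⁻¹ * x s u * x r t = wordS x (C.D.commWord F r s t u) := by
    intro r hr s hs hsr hneg t u
    obtain ⟨l, hl, p1, p2, p3⟩ := exists_pos_word H r hr s hs hsr hneg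
    set n := S.wordN l with hn
    -- the conjugate of the unipotent group by `n⁻¹`
    set P : Subgroup (C.D.SteinbergCover F) := (S.Ubar H.Y.U).map (MulAut.conj n⁻¹).toMonoidHom with hPdef
    have hP : IsPGroup p P := hU.map _
    have hmemP : ∀ k < C.D.nroots, C.D.IsPosRoot (reflW R.refl l k) → ∀ v : F, S.X k v ∈ P := by
      intro k hk hpos v
      refine ⟨n * S.X k v * n⁻¹, ?_, ?_⟩
      · rw [hn, S.wordN_conj H.Y l hl k hk v]
        exact S.X_mem_Ubar H.Y.U _ hpos _
      · simp [mul_assoc]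
    obtain ⟨σ, hσ⟩ := hhom P hP
    have ha := hmemP r hr p1 t
    have hb := hmemP s hs p2 u
    have hw : ∀ q ∈ C.D.commWord F r s t u, S.X q.1 q.2 ∈ P := by
      intro q hq
      simp only [ChevalleyDatum.commWord, List.mem_map] at hq
      obtain ⟨c, hc, rfl⟩ := hq
      exact hmemP c.1 (p3 c hc).1 (p3 c hc).2 _
    obtain ⟨yw, hyw, ew⟩ := hom_wordS S.X P σ lam (fun y => (hσ y).1) _ hw
    have e1 : x r t = σ ⟨S.X r t, ha⟩ := by rw [hx1 r hr, (hσ _).1]
    have e2 : x s u = σ ⟨S.X s u, hb⟩ := by rw [hx1 s hs, (hσ _).1]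
    have e3 : wordS x (C.D.commWord F r s t u) = wordS (fun r t => lam (S.X r t)) (C.D.commWord F r s t u) := by
      apply wordS_congr
      intro q hq
      simp only [ChevalleyDatum.commWord, List.mem_map] at hq
      obtain ⟨c, hc, rfl⟩ := hq
      exact hx1 c.1 (p3 c hc).1 _
    rw [e1, e2, e3, ← ew, ← map_inv, ← map_inv, ← map_mul, ← map_mul, ← map_mul]
    congr 1
    apply Subtype.ext
    rw [hyw]
    exact S.comm r hr s hs hsr hneg t u
  obtain ⟨f, hf⟩ := cover_hpres x h0 hadd hcomm
  refine ⟨f, ?_⟩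
  apply MonoidHom.eq_of_eqOn_dense hgen
  rintro g ⟨r, t, hr, rfl⟩
  rw [MonoidHom.comp_apply, MonoidHom.id_apply]
  have : f (S.X r t) = x r t := hf r hr t
  rw [this, hxψ r hr t]

end

end Cfsg.Agent.Lib.Helper3.StW
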