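import Mathlib
import Cfsg.Agent.Lib.Helper3.StU1
set_option autoImplicit false
set_option linter.unusedSectionVars false

/-! Unique lifting through central extensions whose kernel has no element of order `p`, from the splitting of the
central extensions of that kind. -/

namespace Cfsg.Agent.Lib.Helper3.StW

open Cfsg.Agent.Lib.Helper3.StU

section
universe u v w
variable {Δ : Type u} [Group Δ]

/-- If the central extensions of a perfect group with kernel free of `p`-torsion split, homomorphisms from it lift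
uniquely through central extensions of that kind. -/
theorem existsUnique_lift_tor (p : ℕ) (hΔ : commutator Δ = ⊤)
    (H : ∀ (E' : Type (max u v)) [Group E'] (ψ' : E' →* Δ), Function.Surjective ψ' → ψ'.ker ≤ Subgroup.center E' →
      (∀ z ∈ ψ'.ker, z ^ p = 1 → z = 1) → ∃ s : Δ →* E', ψ'.comp s = MonoidHom.id Δ)
    {G₁ : Type w} {E : Type v} [Group G₁] [Group E] (π₁ : E →* G₁) (hπ : Function.Surjective π₁)
    (hc : π₁.ker ≤ Subgroup.center E) (htor : ∀ z ∈ π₁.ker, z ^ p = 1 → z = 1)
    (σ : Δ →* G₁) : ∃! τ : Δ →* E, π₁.comp τ = σ := by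
  let P : Subgroup (Δ × E) :=
    { carrier := {x | σ x.1 = π₁ x.2}
      mul_mem' := by
        intro x y hx hy
        simp only [Set.mem_ofPred_eq, Prod.fst_mul, Prod.snd_mul, map_mul] at hx hy ⊢
        rw [hx, hy]
      one_mem' := by simp
      inv_mem' := by
        intro x hx
        simp only [Set.mem_ofPred_eq, Prod.fst_inv, Prod.snd_inv, map_inv] at hx ⊢
        rw [hx] }
  have hkerP : ∀ x : P, x ∈ ((MonoidHom.fst Δ E).comp P.subtype).ker →
      (x : Δ × E).1 = 1 ∧ (x : Δ × E).2 ∈ π₁.ker := by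
    intro x hx
    rw [MonoidHom.mem_ker] at hx
    have hx1 : (x : Δ × E).1 = 1 := hx
    refine ⟨hx1, ?_⟩
    rw [MonoidHom.mem_ker]
    have := x.2
    simp only [P, Subgroup.mem_mk] at this
    rw [← this, hx1, map_one]
  obtain ⟨s, hs⟩ := H ↥P ((MonoidHom.fst Δ E).comp P.subtype)
    (by
      intro d
      obtain ⟨e, he⟩ := hπ (σ d)
      exact ⟨⟨(d, e), he.symm⟩, rfl⟩)
    (by
      intro x hx
      obtain ⟨hx1, hx2'⟩ := hkerP x hx
      have hx2 : (x : Δ × E).2 ∈ Subgroup.center E := hc hx2'
      rw [Subgroup.mem_center_iff] at hx2 ⊢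
      intro g
      apply Subtype.ext
      apply Prod.ext
      · show (g : Δ × E).1 * (x : Δ × E).1 = (x : Δ × E).1 * (g : Δ × E).1
        rw [hx1, mul_one, one_mul]
      · exact hx2 _)
    (by
      intro x hx hxp
      obtain ⟨hx1, hx2⟩ := hkerP x hx
      have h2 : (x : Δ × E).2 ^ p = 1 := by
        have := congrArg (fun y : P => (y : Δ × E).2) hxp
        simpa using this
      have h3 := htor _ hx2 h2
      apply Subtype.ext
      apply Prod.ext
      · exact hx1
      · exact h3)
  have hs' : ∀ d, ((s d : Δ × E)).1 = d := fun d => DFunLike.congr_fun hs d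
  refine ⟨(MonoidHom.snd Δ E).comp (P.subtype.comp s), ?_, ?_⟩
  · ext d
    have := (s d).2
    simp only [P, Subgroup.mem_mk] at this
    show π₁ ((s d : Δ × E)).2 = σ d
    rw [← this, hs']
  · intro τ' hτ'
    set τ := (MonoidHom.snd Δ E).comp (P.subtype.comp s) with hτdef
    have hτ : π₁.comp τ = σ := by
      ext d
      have := (s d).2
      simp only [P, Subgroup.mem_mk] at this
      show π₁ ((s d : Δ × E)).2 = σ d
      rw [← this, hs']
    have hcen : ∀ d, τ' d * (τ d)⁻¹ ∈ Subgroup.center E := fun d => hc (by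
      rw [MonoidHom.mem_ker, map_mul, map_inv]
      have h1 : π₁ (τ' d) = σ d := DFunLike.congr_fun hτ' d
      have h2 : π₁ (τ d) = σ d := DFunLike.congr_fun hτ d
      rw [h1, h2, mul_inv_cancel])
    let f : Δ →* Subgroup.center E :=
      { toFun := fun d => ⟨τ' d * (τ d)⁻¹, hcen d⟩
        map_one' := by
          apply Subtype.ext
          simp
        map_mul' := by
          intro a b
          apply Subtype.ext
          show τ' (a * b) * (τ (a * b))⁻¹ = τ' a * (τ a)⁻¹ * (τ' b * (τ b)⁻¹)
          have hz := Subgroup.mem_center_iff.mp (hcen b)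
          rw [map_mul, map_mul, mul_inv_rev]
          calc τ' a * τ' b * ((τ b)⁻¹ * (τ a)⁻¹) = τ' a * (τ' b * (τ b)⁻¹) * (τ a)⁻¹ := by group
            _ = (τ' b * (τ b)⁻¹) * τ' a * (τ a)⁻¹ := by rw [hz]
            _ = (τ' b * (τ b)⁻¹) * (τ' a * (τ a)⁻¹) := by group
            _ = τ' a * (τ a)⁻¹ * (τ' b * (τ b)⁻¹) := by rw [hz] }
    ext d
    have h1 : f d = 1 := hom_trivial_of_perfect center_comm hΔ f d
    have h2 : τ' d * (τ d)⁻¹ = 1 := congrArg Subtype.val h1
    exact mul_inv_eq_one.mp h2

end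

end Cfsg.Agent.Lib.Helper3.StW
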