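import Mathlib
import Cfsg.Prelude.Def_ChevStructure
import Cfsg.Prelude.Def_SteinbergCover
import Cfsg.Agent.Lib.Helper3.StU11
import Cfsg.Agent.Lib.Helper3.StW2
import Cfsg.Agent.Lib.Helper3.StW3
set_option autoImplicit false
set_option linter.unusedSectionVars false
open Cfsg Cfsg.Lie

/-! Projective representations in the natural characteristic of the group presented by Steinberg's relators (R1),
(R2) lift uniquely to linear representations. -/

namespace Cfsg.Agent.Lib.Helper3.StW

open ChevM ChevU ChevT ChevH StB StU

universe u v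

theorem cover_proj_lift {C : CDatum} {R : RelData C} (Kc : CommData C R) (H : UnivHyp C R) {K : Type u} [Field K]
    (hperf : commutator (C.D.SteinbergCover K) = ⊤)
    (θ₀ : C.D.SteinbergCover K →* ↥(C.D.group K)) (hθ₀ : θ₀.ker ≤ Subgroup.center (C.D.SteinbergCover K))
    {L : Type v} [Field L] (hL : ringChar L = ringChar K) {n : ℕ}
    (σ : C.D.SteinbergCover K →* GL (Fin n) L ⧸ Subgroup.center (GL (Fin n) L)) :
    ∃! ψ : C.D.SteinbergCover K →* GL (Fin n) L,
      (QuotientGroup.mk' (Subgroup.center (GL (Fin n) L))).comp ψ = σ := by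
  have hπ := QuotientGroup.mk'_surjective (Subgroup.center (GL (Fin n) L))
  have hc : (QuotientGroup.mk' (Subgroup.center (GL (Fin n) L))).ker ≤ Subgroup.center (GL (Fin n) L) := by
    rw [QuotientGroup.ker_mk']
  by_cases hbig : ∃ s : Finset K, 4 < s.card
  · exact cover_lift_unique Kc H hbig hperf _ hπ hc σ
  · have hfinK : Finite K := by
      by_contra hinf
      rw [not_finite_iff_infinite] at hinf
      obtain ⟨s, hs⟩ := Infinite.exists_subset_card_eq K 5
      exact hbig ⟨s, by omega⟩
    have hp : (ringChar K).Prime := CharP.char_is_prime K (ringChar K)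
    have : Fact (ringChar K).Prime := ⟨hp⟩
    have : CharP K (ringChar K) := ringChar.charP K
    have : CharP L (ringChar K) := hL ▸ ringChar.charP L
    have hΔfin : Finite (C.D.SteinbergCover K) := finite_of_perfect_central θ₀ hθ₀ hperf
    refine existsUnique_lift_tor (ringChar K) hperf ?_ _ hπ hc ?_ σ
    · intro E' _ ψ' hs' hc' ht'
      exact cover_small_split Kc H (ringChar K) hperf ψ' hs' hc' ht'
    · intro z hz hzp
      rw [QuotientGroup.ker_mk'] at hz
      exact center_GL_pow_char (ringChar K) z hz hzp

end Cfsg.Agent.Lib.Helper3.StW
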