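import Mathlib
import Cfsg.Prelude.Def_Local
import Cfsg.Agent.Lib.Helper3.Components2
import Cfsg.Agent.Lib.Helper3.AltStd1

set_option autoImplicit false

/-!
An abstract criterion for `E(C_G(t))` to be a standard subgroup: `M ≤ C = C_G(t)` normal
quasisimple with `C/M` abelian, `C_G(M)` abelian with `t` as its only involution.
-/

namespace Cfsg.Agent.Lib.Helper3.StdCrit

open Cfsg Subgroup
open scoped commutatorElement

variable {G : Type*} [Group G]

theorem mem_normalizer_of_conj_mem {M : Subgroup G} {C : Subgroup G}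
    (hMn : ∀ c ∈ C, ∀ x ∈ M, c * x * c⁻¹ ∈ M) {g : G} (hg : g ∈ C) :
    g ∈ Subgroup.normalizer (M : Set G) := by
  rw [Subgroup.mem_normalizer_iff]
  intro h
  constructor
  · exact hMn g hg h
  · intro hh
    have := hMn g⁻¹ (C.inv_mem hg) _ hh
    have e : g⁻¹ * (g * h * g⁻¹) * g⁻¹⁻¹ = h := by group
    rwa [e] at this

theorem layer_eq (t : G) (M : Subgroup G)
    (hMC : M ≤ Subgroup.centralizer ({t} : Set G))
    (hMn : ∀ c ∈ Subgroup.centralizer ({t} : Set G), ∀ x ∈ M, c * x * c⁻¹ ∈ M)
    (hMq : Cfsg.IsQuasisimple M)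
    (hab : ∀ a ∈ Subgroup.centralizer ({t} : Set G), ∀ b ∈ Subgroup.centralizer ({t} : Set G),
      a * b * a⁻¹ * b⁻¹ ∈ M) :
    (Cfsg.layer ↥(Subgroup.centralizer ({t} : Set G))).map
      (Subgroup.centralizer ({t} : Set G)).subtype = M := by
  set C : Subgroup G := Subgroup.centralizer ({t} : Set G) with hC
  set M' : Subgroup C := M.subgroupOf C with hM'
  have hM'n : M'.Normal := by
    constructor
    intro n hn g
    rw [hM', Subgroup.mem_subgroupOf] at hn ⊢
    have := hMn g g.2 _ hn
    simpa using this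
  have e0 : ↥M' ≃* ↥M := Subgroup.subgroupOfEquivOfLe hMC
  have hM'q : Cfsg.IsQuasisimple ↥M' :=
    Cfsg.Agent.Lib.Helper3.isQuasisimple_of_mulEquiv e0.symm hMq
  have hM'c : Cfsg.IsComponent M' := ⟨hM'n.isSubnormal, hM'q⟩
  have hcomp : ∀ Q : Subgroup C, Cfsg.IsComponent Q → Q = M' := by
    intro Q hQ
    have hQM : Q ≤ M' := by
      have h1 : ⁅Q, Q⁆ = Q := Cfsg.Agent.Lib.Helper3.IsQuasisimple.commutator_eq_self hQ.2
      rw [← h1, Subgroup.commutator_le]
      intro a _ b _
      rw [hM', Subgroup.mem_subgroupOf, commutatorElement_def]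
      have := hab a a.2 b b.2
      simpa using this
    have hsn : (Q.subgroupOf M').IsSubnormal := hQ.1.subgroupOf
    rcases Cfsg.Agent.Lib.Helper3.IsQuasisimple.subnormal_eq_top_or_le_center hM'q
      (Q.subgroupOf M') hsn with h | h
    · rw [Subgroup.subgroupOf_eq_top] at h
      exact le_antisymm hQM h
    · exfalso
      apply Cfsg.Agent.Lib.Helper3.IsQuasisimple.not_isMulCommutative hQ.2
      refine ⟨⟨fun x y => ?_⟩⟩
      have hx : (⟨x.1, hQM x.2⟩ : M') ∈ Q.subgroupOf M' := by
        rw [Subgroup.mem_subgroupOf]; exact x.2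
      have := Subgroup.mem_center_iff.mp (h hx) ⟨y.1, hQM y.2⟩
      have h2 := congrArg Subtype.val this
      apply Subtype.ext
      simpa using h2.symm
  have hlayer : Cfsg.layer ↥C = M' := by
    unfold Cfsg.layer
    apply le_antisymm
    · apply sSup_le
      intro Q hQ
      exact (hcomp Q hQ).le
    · exact le_sSup hM'c
  rw [hlayer, hM']
  exact Subgroup.map_subgroupOf_eq_of_le hMC

theorem isStandard [Finite G] (t : G) (ht : orderOf t = 2) (M : Subgroup G)
    (hMn : ∀ c ∈ Subgroup.centralizer ({t} : Set G), ∀ x ∈ M, c * x * c⁻¹ ∈ M)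
    (hMq : Cfsg.IsQuasisimple M)
    (htK : t ∈ Subgroup.centralizer (M : Set G))
    (huniq : ∀ s ∈ Subgroup.centralizer (M : Set G), orderOf s = 2 → s = t)
    (hKab : ∀ a ∈ Subgroup.centralizer (M : Set G), ∀ b ∈ Subgroup.centralizer (M : Set G),
      a * b = b * a) :
    Cfsg.IsStandardSubgroup M := by
  classical
  set K : Subgroup G := Subgroup.centralizer (M : Set G) with hK
  have hfix : ∀ g : G, g * t * g⁻¹ ∈ K → g ∈ Subgroup.centralizer ({t} : Set G) := by
    intro g hg
    have ho : orderOf (g * t * g⁻¹) = 2 := by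
      have : g * t * g⁻¹ = MulAut.conj g t := by simp [MulAut.conj_apply]
      rw [this, MulEquiv.orderOf_eq]; exact ht
    have h1 := huniq _ hg ho
    rw [Subgroup.mem_centralizer_iff]
    intro h hh
    rw [Set.mem_singleton_iff] at hh
    subst hh
    calc h * g = g⁻¹ * (g * h * g⁻¹) * g * g := by group
      _ = g⁻¹ * h * g * g := by rw [h1]
      _ = g * h := by
        have : g * h * g⁻¹ = h := h1
        calc g⁻¹ * h * g * g = g⁻¹ * (g * h * g⁻¹) * g * g := by rw [this]
          _ = h * g := by group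
          _ = (g * h * g⁻¹) * g := by rw [this]
          _ = g * h := by group
  have hCN : ∀ g : G, g ∈ Subgroup.centralizer ({t} : Set G) →
      g ∈ Subgroup.normalizer (M : Set G) := fun g hg => mem_normalizer_of_conj_mem hMn hg
  refine ⟨hMq, ⟨?_, ?_⟩, ?_, ?_⟩
  · -- even order
    have h2 : orderOf (⟨t, htK⟩ : K) = 2 := by
      rw [← Subgroup.orderOf_coe]; exact ht
    have := orderOf_dvd_natCard (⟨t, htK⟩ : K)
    rw [h2] at this
    exact (even_iff_two_dvd).mpr this
  · intro g hg
    by_contra hodd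
    rw [Nat.not_odd_iff_even] at hodd
    haveI : Fact (Nat.Prime 2) := ⟨Nat.prime_two⟩
    obtain ⟨s, hs⟩ := exists_prime_orderOf_dvd_card' (G := ↥(K ⊓ K.map (MulAut.conj g).toMonoidHom))
      2 hodd.two_dvd
    have hs2 : orderOf (s : G) = 2 := by rw [Subgroup.orderOf_coe]; exact hs
    have hsK : (s : G) ∈ K := s.2.1
    have hsg : (s : G) ∈ K.map (MulAut.conj g).toMonoidHom := s.2.2
    have hst : (s : G) = t := huniq _ hsK hs2
    obtain ⟨s', hs'K, hs'⟩ := hsg
    have hs'eq : g * s' * g⁻¹ = (s : G) := by simpa [MulAut.conj_apply] using hs'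
    have hs'2 : orderOf s' = 2 := by
      have : g * s' * g⁻¹ = MulAut.conj g s' := by simp [MulAut.conj_apply]
      rw [← hs2, ← hs'eq, this, MulEquiv.orderOf_eq]
    have hs't : s' = t := huniq _ hs'K hs'2
    have hgt : g * t * g⁻¹ ∈ K := by
      rw [← hs't, hs'eq]; exact hsK
    exact hg (Cfsg.Agent.Lib.Helper3.AltStd.normalizer_le_normalizer_centralizer M
      (hCN g (hfix g hgt)))
  · intro g hne hbot
    rw [Subgroup.commutator_eq_bot_iff_le_centralizer] at hbot
    -- M ≤ centralizer (M^g), so M^g ≤ centralizer M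
    have hle : M.map (MulAut.conj g).toMonoidHom ≤ K := by
      intro x hx
      rw [hK, Subgroup.mem_centralizer_iff]
      intro m hm
      have := hbot hm
      rw [Subgroup.mem_centralizer_iff] at this
      exact (this x hx).symm
    apply Cfsg.Agent.Lib.Helper3.IsQuasisimple.not_isMulCommutative hMq
    refine ⟨⟨fun x y => ?_⟩⟩
    have hx : g * (x : G) * g⁻¹ ∈ M.map (MulAut.conj g).toMonoidHom :=
      ⟨x, x.2, by simp [MulAut.conj_apply]⟩
    have hy : g * (y : G) * g⁻¹ ∈ M.map (MulAut.conj g).toMonoidHom :=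
      ⟨y, y.2, by simp [MulAut.conj_apply]⟩
    have := hKab _ (hle hx) _ (hle hy)
    apply Subtype.ext
    have h3 : (x : G) * (y : G) = g⁻¹ * ((g * x * g⁻¹) * (g * y * g⁻¹)) * g := by group
    have h4 : (y : G) * (x : G) = g⁻¹ * ((g * y * g⁻¹) * (g * x * g⁻¹)) * g := by group
    show (x : G) * (y : G) = (y : G) * (x : G)
    rw [h3, h4, this]
  · apply le_antisymm
    · exact Cfsg.Agent.Lib.Helper3.AltStd.normalizer_le_normalizer_centralizer M
    · intro g hg
      have := (Subgroup.mem_normalizer_iff.mp hg t).mp htK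
      exact hCN g (hfix g this)

end Cfsg.Agent.Lib.Helper3.StdCrit
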