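import Mathlib
import Cfsg.Agent.Lib.Helper3.U3g

set_option autoImplicit false
set_option linter.unusedSectionVars false

/-!
Automorphisms of the Sylow `2`-subgroup of `SU₃(2ⁿ)`, part 1: additive maps compatible with the norm
and trace forms of the quadratic extension are semilinear.
-/

namespace Cfsg.Agent.Lib.Helper3.SuAut

open Cfsg.Agent.Lib.Helper2.Herm Cfsg.Agent.Lib.Helper1.HermCount Cfsg.Agent.Lib.Helper3.U3

variable {F : Type*} [Field F] [CharP F 2] [Fintype F] {q : ℕ}

theorem mul_pow_q (a b : F) : (a * b) ^ q = a ^ q * b ^ q := mul_pow a b q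

theorem zero_pow_q (hF : Fintype.card F = q ^ 2) : (0 : F) ^ q = 0 := by
  have hq := two_le_q hF
  exact zero_pow (by omega)

theorem div_pow_q (a b : F) : (a / b) ^ q = a ^ q / b ^ q := div_pow a b q

/-- the orthogonal of `u` for the trace form is the line through `u` -/
theorem perp_fixed {u v : F} (hu : u ≠ 0)
    (h : u ^ q * v + v ^ q * u = 0) : (v / u) ^ q = v / u := by
  have h1 : u ^ q * v = v ^ q * u := CharTwo.add_eq_zero.mp h
  have huq : u ^ q ≠ 0 := pow_ne_zero q hu
  rw [div_pow, div_eq_div_iff huq hu, ← h1]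
  ring

/-- the trace form is onto the fixed field in each variable -/
theorem exists_form_eq (hF : Fintype.card F = q ^ 2) {u : F} (hu : u ≠ 0) {x : F} (hx : x ^ q = x) :
    ∃ v : F, u ^ q * v + v ^ q * u = x := by
  obtain ⟨y, hy⟩ := exists_tr_eq hF hx
  have huq : u ^ q ≠ 0 := pow_ne_zero q hu
  refine ⟨y / u ^ q, ?_⟩
  rw [div_pow, pow_q_pow_q hF, mul_div_cancel₀ _ huq, div_mul_cancel₀ _ hu]
  exact hy

/-- decomposition in the basis `1, x ^ q` -/
theorem exists_decomp (hF : Fintype.card F = q ^ 2) {x : F} (hx : x ^ q ≠ x) (y : F) :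
    ∃ s t : F, s ^ q = s ∧ t ^ q = t ∧ y = s + t * x ^ q := by
  have h2 : ∀ z : F, z + z = 0 := CharTwo.add_self_eq_zero
  have hne : x ^ q + x ≠ 0 := fun h => hx (CharTwo.add_eq_zero.mp h)
  have ht : ((y + y ^ q) / (x ^ q + x)) ^ q = (y + y ^ q) / (x ^ q + x) := by
    rw [div_pow, add_pow_q hF, add_pow_q hF, pow_q_pow_q hF, pow_q_pow_q hF, add_comm (y ^ q),
      add_comm x]
  refine ⟨y + (y + y ^ q) / (x ^ q + x) * x ^ q, (y + y ^ q) / (x ^ q + x), ?_, ht, ?_⟩
  · rw [add_pow_q hF, mul_pow, ht, pow_q_pow_q hF]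
    have : (y + y ^ q) / (x ^ q + x) * (x ^ q + x) = y + y ^ q := div_mul_cancel₀ _ hne
    generalize (y + y ^ q) / (x ^ q + x) = t at this
    linear_combination this + h2 (y ^ q) - h2 (t * x ^ q)
  · rw [add_assoc, h2, add_zero]

/-- the hypotheses on the pair of maps induced by an automorphism -/
structure UPair (hF : Fintype.card F = q ^ 2) (a : F →+ F) (b : F → F) : Prop where
  inj_a : Function.Injective a
  hN : ∀ β, b (β ^ (q + 1)) = (a β) ^ (q + 1)
  hB : ∀ β β', b (β ^ q * β' + β' ^ q * β) = (a β) ^ q * a β' + (a β') ^ q * a β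
  hb0 : ∀ t, t ^ q = t → b t = 0 → t = 0
  hbk : ∀ t, t ^ q = t → (b t) ^ q = b t

namespace UPair

variable {hF : Fintype.card F = q ^ 2} {a : F →+ F} {b : F → F} (h : UPair hF a b)
include h

theorem a_ne_zero {β : F} (hβ : β ≠ 0) : a β ≠ 0 :=
  fun h0 => hβ (h.inj_a (by rw [h0, map_zero]))

theorem b_zero : b 0 = 0 := by
  have hq := two_le_q hF
  have := h.hN 0
  rwa [map_zero, zero_pow (by omega)] at this

theorem b_one_ne_zero : b 1 ≠ 0 := fun h0 => one_ne_zero (h.hb0 1 (one_pow q) h0)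

theorem ratio_fixed {β : F} (hβ : β ≠ 0) {t : F} (ht : t ^ q = t) :
    (a (β * t) / a β) ^ q = a (β * t) / a β := by
  apply perp_fixed (h.a_ne_zero hβ)
  rw [← h.hB, mul_pow, ht]
  have : β ^ q * (β * t) + β ^ q * t * β = 0 := by
    have h2 : ∀ z : F, z + z = 0 := CharTwo.add_self_eq_zero
    linear_combination h2 (β ^ q * β * t)
  rw [this, h.b_zero]

theorem b_mul_aux {β : F} (hβ : β ≠ 0) {t x : F} (ht : t ^ q = t) (hx : x ^ q = x) :
    b (t * x) = a (β * t) / a β * b x := by
  obtain ⟨β', hβ'⟩ := exists_form_eq hF hβ hx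
  have hne := h.a_ne_zero hβ
  have e1 := h.hB (β * t) β'
  have e2 : (β * t) ^ q * β' + β' ^ q * (β * t) = t * x := by
    rw [mul_pow, ht, ← hβ']; ring
  rw [e2] at e1
  have e3 : a (β * t) = a β * (a (β * t) / a β) := by field_simp
  have e4 := h.ratio_fixed hβ ht
  rw [e1, ← hβ', h.hB]
  generalize a (β * t) / a β = g at e3 e4
  rw [e3, mul_pow, e4]
  ring

theorem a_mul_fixed {β t : F} (ht : t ^ q = t) : a (β * t) = a β * (b t / b 1) := by
  by_cases hβ : β = 0
  · subst hβ; simp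
  · have h1 := h.b_mul_aux hβ ht (one_pow q)
    rw [mul_one] at h1
    have hne := h.a_ne_zero hβ
    have hb1 := h.b_one_ne_zero
    rw [h1]
    field_simp

theorem b_mul {t x : F} (ht : t ^ q = t) (hx : x ^ q = x) : b (t * x) = b t / b 1 * b x := by
  have h1 := h.b_mul_aux one_ne_zero ht hx
  rw [one_mul] at h1
  have h2 := h.a_mul_fixed (β := 1) ht
  rw [one_mul] at h2
  have hne := h.a_ne_zero (one_ne_zero)
  rw [h1, h2]
  field_simp

/-- the main semilinearity theorem -/
theorem exists_semilinear : ∃ (l : F) (σ : F ≃+* F), l ≠ 0 ∧ (∀ β, a β = l * σ β) ∧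
    (∀ t, t ^ q = t → b t = l ^ (q + 1) * σ t) := by
  have h2 : ∀ z : F, z + z = 0 := CharTwo.add_self_eq_zero
  set l := a 1 with hl
  have hl0 : l ≠ 0 := h.a_ne_zero one_ne_zero
  have hb1 := h.b_one_ne_zero
  have hNl : l ^ (q + 1) = b 1 := by
    have := h.hN 1
    rw [one_pow] at this
    exact this.symm
  let s : F →+ F := (AddMonoidHom.mulLeft l⁻¹).comp a
  have hs : ∀ x, s x = l⁻¹ * a x := fun x => rfl
  have hsa : ∀ x, a x = l * s x := by
    intro x
    rw [hs, ← mul_assoc, mul_inv_cancel₀ hl0, one_mul]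
  have s1 : s 1 = 1 := by rw [hs, ← hl, inv_mul_cancel₀ hl0]
  have sinj : Function.Injective s := by
    intro x y hxy
    rw [hs, hs] at hxy
    exact h.inj_a (mul_left_cancel₀ (inv_ne_zero hl0) hxy)
  -- values on the fixed field
  have sfix : ∀ t, t ^ q = t → s t = b t / b 1 := by
    intro t ht
    have := h.a_mul_fixed (β := 1) ht
    rw [one_mul, ← hl] at this
    rw [hs, this, ← mul_assoc, inv_mul_cancel₀ hl0, one_mul]
  have sfixq : ∀ t, t ^ q = t → (s t) ^ q = s t := by
    intro t ht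
    rw [sfix t ht, div_pow, h.hbk t ht, h.hbk 1 (one_pow q)]
  have bfix : ∀ t, t ^ q = t → b t = b 1 * s t := by
    intro t ht
    rw [sfix t ht]
    field_simp
  -- semilinearity
  have ssemi : ∀ β t, t ^ q = t → s (β * t) = s β * s t := by
    intro β t ht
    rw [hs, h.a_mul_fixed ht, sfix t ht, hs]
    ring
  -- norm
  have nfix : ∀ β : F, (β ^ (q + 1)) ^ q = β ^ (q + 1) := nrm_fixed hF
  have snorm : ∀ β, (s β) ^ (q + 1) = s (β ^ (q + 1)) := by
    intro β
    rw [sfix _ (nfix β), h.hN, hsa, mul_pow, hNl]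
    field_simp
  -- Frobenius
  have sfrob : ∀ β, s (β ^ q) = (s β) ^ q := by
    intro β
    have e1 := h.hB β 1
    rw [one_pow, one_mul, mul_one, ← hl] at e1
    have hfix : (β ^ q + β) ^ q = β ^ q + β := by
      rw [add_pow_q hF, pow_q_pow_q hF, add_comm]
    rw [bfix _ hfix, map_add, hsa β, mul_pow, ← hNl] at e1
    have e2 : l ^ (q + 1) * (s (β ^ q) + s β) = l ^ (q + 1) * ((s β) ^ q + s β) := by
      rw [e1, pow_succ]; ring
    have e3 := mul_left_cancel₀ (pow_ne_zero _ hl0) e2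
    exact add_right_cancel e3
  have snorm' : ∀ β, s (β ^ q * β) = s (β ^ q) * s β := by
    intro β
    rw [sfrob, ← pow_succ, ← snorm, pow_succ]
  -- multiplicativity
  have smul : ∀ x y, s (x * y) = s x * s y := by
    intro x y
    by_cases hx : x ^ q = x
    · rw [mul_comm, ssemi y x hx, mul_comm]
    · obtain ⟨u, t, hu, ht, rfl⟩ := exists_decomp hF hx y
      have hxx : (x ^ q * x) ^ q = x ^ q * x := by
        rw [mul_pow, pow_q_pow_q hF, mul_comm]
      have e1 : x * (u + t * x ^ q) = x * u + (x ^ q * x) * t := by ring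
      rw [e1, map_add, ssemi x u hu, ssemi _ t ht, snorm', map_add, mul_comm t (x ^ q),
        ssemi _ t ht]
      ring
  have sbij : Function.Bijective s := ⟨sinj, Finite.surjective_of_injective sinj⟩
  let σ : F ≃+* F := RingEquiv.ofBijective
    ({ toFun := s, map_one' := s1, map_mul' := smul, map_zero' := map_zero s,
       map_add' := map_add s } : F →+* F) sbij
  have hσ : ∀ x, σ x = s x := fun x => rfl
  refine ⟨l, σ, hl0, fun β => by rw [hσ, hsa], fun t ht => ?_⟩
  rw [hσ, hNl, bfix t ht]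

end UPair

end Cfsg.Agent.Lib.Helper3.SuAut
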