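import Mathlib
import Cfsg.Agent.Lib.Helper3.SuAut1

set_option autoImplicit false
set_option linter.unusedSectionVars false

/-!
Automorphisms of the Sylow `2`-subgroup of `SU₃(2ⁿ)`, part 2: coordinate functions and the shape of an
automorphism.
-/

namespace Cfsg.Agent.Lib.Helper3.SuAut

open Cfsg.Agent.Lib.Helper2.Herm Cfsg.Agent.Lib.Helper1.HermCount Cfsg.Agent.Lib.Helper3.U3
open scoped commutatorElement

variable {F : Type*} [Field F] [CharP F 2] [Fintype F] {q : ℕ}
variable {hF : Fintype.card F = q ^ 2} {G : Type*} [Group G] (c : Coord hF G)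

/-- first coordinate -/
noncomputable def cb (g : G) : F := Classical.choose (c.x_surj g)

/-- second coordinate -/
noncomputable def cg (g : G) : F := Classical.choose (Classical.choose_spec (c.x_surj g))

theorem valid (g : G) : cg c g + cg c g ^ q = cb c g ^ (q + 1) :=
  Classical.choose (Classical.choose_spec (Classical.choose_spec (c.x_surj g)))

theorem x_cb_cg (g : G) : c.x (cb c g) (cg c g) (valid c g) = g :=
  (Classical.choose_spec (Classical.choose_spec (Classical.choose_spec (c.x_surj g)))).symm

theorem cb_x {β γ : F} (h : γ + γ ^ q = β ^ (q + 1)) : cb c (c.x β γ h) = β :=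
  (c.x_inj (x_cb_cg c (c.x β γ h))).1

theorem cg_x {β γ : F} (h : γ + γ ^ q = β ^ (q + 1)) : cg c (c.x β γ h) = γ :=
  (c.x_inj (x_cb_cg c (c.x β γ h))).2

theorem ext' {g g' : G} (h1 : cb c g = cb c g') (h2 : cg c g = cg c g') : g = g' := by
  rw [← x_cb_cg c g, ← x_cb_cg c g']
  exact c.x_congr _ h1 h2

theorem cb_mul (g g' : G) : cb c (g * g') = cb c g + cb c g' := by
  conv_lhs => rw [← x_cb_cg c g, ← x_cb_cg c g', c.x_mul, cb_x]

theorem cg_mul (g g' : G) : cg c (g * g') = cg c g + cg c g' + cb c g ^ q * cb c g' := by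
  conv_lhs => rw [← x_cb_cg c g, ← x_cb_cg c g', c.x_mul, cg_x]

theorem cb_one : cb c (1 : G) = 0 := by
  rw [← c.x_zero, cb_x]

theorem cg_one : cg c (1 : G) = 0 := by
  rw [← c.x_zero, cg_x]

theorem cb_inv (g : G) : cb c g⁻¹ = cb c g := by
  have := cb_mul c g⁻¹ g
  rw [inv_mul_cancel, cb_one] at this
  exact CharTwo.add_eq_zero.mp this.symm

theorem mem_center_iff' (g : G) : g ∈ Subgroup.center G ↔ cb c g = 0 := by
  conv_lhs => rw [← x_cb_cg c g, c.mem_center_iff]

theorem cg_fixed_of_center {g : G} (hg : g ∈ Subgroup.center G) : cg c g ^ q = cg c g := by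
  have hq := two_le_q hF
  have h := valid c g
  rw [(mem_center_iff' c g).mp hg, zero_pow (by omega)] at h
  exact (CharTwo.add_eq_zero.mp h).symm

theorem cg_mul_self (g : G) : cg c (g * g) = cb c g ^ (q + 1) := by
  rw [cg_mul, CharTwo.add_self_eq_zero, zero_add, pow_succ]

theorem cb_mul_self (g : G) : cb c (g * g) = 0 := by
  rw [cb_mul, CharTwo.add_self_eq_zero]

theorem cb_comm (g g' : G) : cb c ⁅g, g'⁆ = 0 := by
  conv_lhs => rw [← x_cb_cg c g, ← x_cb_cg c g', c.comm_eq, cb_x]

theorem cg_comm (g g' : G) : cg c ⁅g, g'⁆ = cb c g ^ q * cb c g' + cb c g' ^ q * cb c g := by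
  conv_lhs => rw [← x_cb_cg c g, ← x_cb_cg c g', c.comm_eq, cg_x]

/-- a section of the first coordinate -/
noncomputable def lift (β : F) : G :=
  c.x β (Classical.choose (exists_tr_eq hF (nrm_fixed hF β)))
    (Classical.choose_spec (exists_tr_eq hF (nrm_fixed hF β)))

theorem cb_lift (β : F) : cb c (lift c β) = β := cb_x c _

theorem valid_zel (hF : Fintype.card F = q ^ 2) {t : F} (ht : t ^ q = t) :
    t + t ^ q = (0 : F) ^ (q + 1) := by
  have hq := two_le_q hF
  rw [ht, zero_pow (by omega), CharTwo.add_self_eq_zero]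

open Classical in
/-- central elements -/
noncomputable def zel (t : F) : G := if ht : t ^ q = t then c.x 0 t (valid_zel hF ht) else 1

theorem zel_of_fix {t : F} (ht : t ^ q = t) : zel c t = c.x 0 t (valid_zel hF ht) := dif_pos ht

theorem cb_zel (t : F) : cb c (zel c t) = 0 := by
  unfold zel
  split_ifs with ht
  · rw [cb_x]
  · rw [cb_one]

theorem cg_zel {t : F} (ht : t ^ q = t) : cg c (zel c t) = t := by
  rw [zel_of_fix c ht, cg_x]

theorem zel_mem_center (t : F) : zel c t ∈ Subgroup.center G :=
  (mem_center_iff' c _).mpr (cb_zel c t)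

theorem eq_zel_of_center {g : G} (hg : g ∈ Subgroup.center G) : g = zel c (cg c g) := by
  apply ext' c
  · rw [cb_zel, (mem_center_iff' c g).mp hg]
  · rw [cg_zel c (cg_fixed_of_center c hg)]

section analysis

variable (φ : G ≃* G)

omit c in
theorem map_center {g : G} (hg : g ∈ Subgroup.center G) : φ g ∈ Subgroup.center G := by
  rw [Subgroup.mem_center_iff] at hg ⊢
  intro y
  have := congrArg φ (hg (φ.symm y))
  simpa using this

theorem cb_map_eq {g g' : G} (h : cb c g = cb c g') : cb c (φ g) = cb c (φ g') := by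
  have h1 : g⁻¹ * g' ∈ Subgroup.center G := by
    rw [mem_center_iff' c, cb_mul, cb_inv, h, CharTwo.add_self_eq_zero]
  have h2 := (mem_center_iff' c _).mp (map_center φ h1)
  rw [map_mul, map_inv, cb_mul, cb_inv] at h2
  exact CharTwo.add_eq_zero.mp h2

/-- the map induced on `G / Z` -/
noncomputable def aMap (β : F) : F := cb c (φ (lift c β))

/-- the map induced on `Z` -/
noncomputable def bMap (t : F) : F := cg c (φ (zel c t))

theorem cb_map (g : G) : cb c (φ g) = aMap c φ (cb c g) :=
  cb_map_eq c φ (cb_lift c _).symm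

theorem aMap_add (β β' : F) : aMap c φ (β + β') = aMap c φ β + aMap c φ β' := by
  have h1 : cb c (lift c β * lift c β') = β + β' := by rw [cb_mul, cb_lift, cb_lift]
  rw [← h1, ← cb_map, map_mul, cb_mul, cb_map, cb_map, cb_lift, cb_lift]

/-- the additive map induced on `G / Z` -/
noncomputable def aHom : F →+ F := AddMonoidHom.mk' (aMap c φ) (aMap_add c φ)

theorem aHom_apply (β : F) : aHom c φ β = aMap c φ β := rfl

theorem cg_map_center {g : G} (hg : g ∈ Subgroup.center G) : cg c (φ g) = bMap c φ (cg c g) := by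
  unfold bMap
  rw [← eq_zel_of_center c hg]

theorem upair : UPair hF (aHom c φ) (bMap c φ) where
  inj_a := by
    rw [injective_iff_map_eq_zero]
    intro β hβ
    rw [aHom_apply] at hβ
    have h1 : φ (lift c β) ∈ Subgroup.center G := (mem_center_iff' c _).mpr hβ
    have h2 : lift c β ∈ Subgroup.center G := by
      have := map_center φ.symm h1
      rwa [MulEquiv.symm_apply_apply] at this
    have := (mem_center_iff' c _).mp h2
    rwa [cb_lift] at this
  hN := by
    intro β
    rw [aHom_apply]
    have hc : lift c β * lift c β ∈ Subgroup.center G :=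
      (mem_center_iff' c _).mpr (cb_mul_self c _)
    have h1 := cg_map_center c φ hc
    rw [cg_mul_self, cb_lift, map_mul, cg_mul_self, cb_map, cb_lift] at h1
    exact h1.symm
  hB := by
    intro β β'
    rw [aHom_apply, aHom_apply]
    have hc : ⁅lift c β, lift c β'⁆ ∈ Subgroup.center G :=
      (mem_center_iff' c _).mpr (cb_comm c _ _)
    have h1 := cg_map_center c φ hc
    rw [cg_comm, cb_lift, cb_lift, map_commutatorElement, cg_comm, cb_map, cb_map, cb_lift,
      cb_lift] at h1
    exact h1.symm
  hb0 := by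
    intro t ht h0
    have h1 : φ (zel c t) = 1 := by
      apply ext' c
      · rw [cb_one]
        exact (mem_center_iff' c _).mp (map_center φ (zel_mem_center c t))
      · rw [cg_one]; exact h0
    have h2 : zel c t = 1 := by
      apply φ.injective; rw [h1, map_one]
    have := cg_zel c ht
    rw [h2, cg_one] at this
    exact this.symm
  hbk := by
    intro t _
    exact cg_fixed_of_center c (map_center φ (zel_mem_center c t))

end analysis

end Cfsg.Agent.Lib.Helper3.SuAut
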