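import Mathlib
import Cfsg.Agent.Lib.Helper3.SuAut2

set_option autoImplicit false
set_option linter.unusedSectionVars false

/-!
Automorphisms of the Sylow `2`-subgroup of `SU₃(2ⁿ)`, part 3: parametrisation of the automorphism group.
-/

namespace Cfsg.Agent.Lib.Helper3.SuAut

open Cfsg.Agent.Lib.Helper2.Herm Cfsg.Agent.Lib.Helper1.HermCount Cfsg.Agent.Lib.Helper3.U3
open scoped commutatorElement

variable {F : Type*} [Field F] [CharP F 2] [Fintype F] {q : ℕ}
variable {hF : Fintype.card F = q ^ 2} {G : Type*} [Group G] (c : Coord hF G)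

/-- every automorphism has the standard shape -/
theorem exists_params (φ : G ≃* G) : ∃ (l : F) (σ : F ≃+* F) (ζ : F →+ F), l ≠ 0 ∧
    (∀ β, ζ β ^ q = ζ β) ∧ ∀ g, cb c (φ g) = l * σ (cb c g) ∧
      cg c (φ g) = l ^ (q + 1) * σ (cg c g) + ζ (cb c g) := by
  have h2 : ∀ z : F, z + z = 0 := CharTwo.add_self_eq_zero
  obtain ⟨l, σ, hl, ha, hb⟩ := (upair c φ).exists_semilinear
  have hcb : ∀ g, cb c (φ g) = l * σ (cb c g) := by
    intro g
    rw [cb_map c φ g]
    exact ha _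
  set ζf : F → F := fun β => cg c (φ (lift c β)) + l ^ (q + 1) * σ (cg c (lift c β)) with hζf
  have key : ∀ g, cg c (φ g) = l ^ (q + 1) * σ (cg c g) + ζf (cb c g) := by
    intro g
    set β := cb c g with hβ
    set z := (lift c β)⁻¹ * g with hz
    have hzc : cb c z = 0 := by rw [hz, cb_mul, cb_inv, cb_lift, ← hβ, h2]
    have hzC : z ∈ Subgroup.center G := (mem_center_iff' c z).mpr hzc
    have hg : g = lift c β * z := by rw [hz, mul_inv_cancel_left]
    have e1 : cg c g = cg c (lift c β) + cg c z := by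
      conv_lhs => rw [hg, cg_mul, hzc, mul_zero, add_zero]
    have e2 : cg c (φ g) = cg c (φ (lift c β)) + l ^ (q + 1) * σ (cg c z) := by
      conv_lhs => rw [hg, map_mul, cg_mul, (mem_center_iff' c _).mp (map_center φ hzC), mul_zero,
        add_zero, cg_map_center c φ hzC]
      rw [hb _ (cg_fixed_of_center c hzC)]
    rw [e2, e1, hζf, map_add]
    simp only
    linear_combination (-1 : F) * h2 (l ^ (q + 1) * σ (cg c (lift c β)))
  have hadd : ∀ β β', ζf (β + β') = ζf β + ζf β' := by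
    intro β β'
    have e1 := key (lift c β * lift c β')
    rw [map_mul, cg_mul, key, key, hcb, hcb, cb_mul, cg_mul, cb_lift, cb_lift] at e1
    simp only [map_add, map_mul, map_pow, mul_pow] at e1
    linear_combination (-1 : F) * e1 + (l ^ q * σ β ^ q * σ β') * (pow_succ l q)
  have hfix : ∀ β, ζf β ^ q = ζf β := by
    intro β
    have e1 := valid c (φ (lift c β))
    have e2 := valid c (lift c β)
    rw [hcb, cb_lift] at e1
    rw [cb_lift] at e2
    have e3 : (l ^ (q + 1)) ^ q = l ^ (q + 1) := nrm_fixed hF l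
    have e4 := congrArg σ e2
    simp only [map_add, map_pow] at e4
    apply CharTwo.add_eq_zero.mp
    rw [hζf]
    simp only
    rw [add_pow_q hF, mul_pow, e3]
    rw [mul_pow] at e1
    linear_combination e1 + l ^ (q + 1) * e4 + h2 (l ^ (q + 1) * σ β ^ (q + 1))
  exact ⟨l, σ, AddMonoidHom.mk' ζf hadd, hl, hfix, fun g => ⟨hcb g, key g⟩⟩

theorem valid_mk (hF' : Fintype.card F = q ^ 2) (l : F) (σ : F ≃+* F) {z : F} (hz : z ^ q = z)
    {β γ : F} (h : γ + γ ^ q = β ^ (q + 1)) :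
    (l ^ (q + 1) * σ γ + z) + (l ^ (q + 1) * σ γ + z) ^ q = (l * σ β) ^ (q + 1) := by
  have h2 : ∀ z : F, z + z = 0 := CharTwo.add_self_eq_zero
  have e3 : (l ^ (q + 1)) ^ q = l ^ (q + 1) := nrm_fixed hF' l
  have e4 := congrArg σ h
  simp only [map_add, map_pow] at e4
  rw [add_pow_q hF', mul_pow, e3, hz, mul_pow]
  linear_combination l ^ (q + 1) * e4 + h2 z

/-- the type of the additive parameters -/
abbrev ZHom (_hF : Fintype.card F = q ^ 2) : Type _ := {ζ : F →+ F // ∀ β, ζ β ^ q = ζ β}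

/-- the standard map attached to `(l, σ, ζ)` -/
noncomputable def mkFun (l : F) (σ : F ≃+* F) (ζ : ZHom hF) (g : G) : G :=
  c.x (l * σ (cb c g)) (l ^ (q + 1) * σ (cg c g) + ζ.1 (cb c g))
    (valid_mk hF l σ (ζ.2 _) (valid c g))

theorem cb_mkFun (l : F) (σ : F ≃+* F) (ζ : ZHom hF) (g : G) :
    cb c (mkFun c l σ ζ g) = l * σ (cb c g) := cb_x c _

theorem cg_mkFun (l : F) (σ : F ≃+* F) (ζ : ZHom hF) (g : G) :
    cg c (mkFun c l σ ζ g) = l ^ (q + 1) * σ (cg c g) + ζ.1 (cb c g) := cg_x c _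

/-- the standard map is a homomorphism -/
noncomputable def mkHom (l : F) (σ : F ≃+* F) (ζ : ZHom hF) : G →* G :=
  MonoidHom.mk' (mkFun c l σ ζ) (by
    intro g g'
    apply ext' c
    · rw [cb_mul, cb_mkFun, cb_mkFun, cb_mkFun, cb_mul, map_add]; ring
    · rw [cg_mul, cg_mkFun, cg_mkFun, cg_mkFun, cb_mkFun, cb_mkFun, cb_mul, cg_mul]
      simp only [map_add, map_mul, map_pow, mul_pow]
      rw [pow_succ]; ring)

theorem mkHom_apply (l : F) (σ : F ≃+* F) (ζ : ZHom hF) (g : G) :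
    mkHom c l σ ζ g = mkFun c l σ ζ g := rfl

theorem mkHom_injective {l : F} (hl : l ≠ 0) (σ : F ≃+* F) (ζ : ZHom hF) :
    Function.Injective (mkHom c l σ ζ) := by
  intro g g' h
  have h1 := congrArg (cb c) h
  have h2 := congrArg (cg c) h
  rw [mkHom_apply, mkHom_apply, cb_mkFun, cb_mkFun] at h1
  rw [mkHom_apply, mkHom_apply, cg_mkFun, cg_mkFun] at h2
  have e1 : cb c g = cb c g' := σ.injective (mul_left_cancel₀ hl h1)
  rw [e1] at h2
  have e2 : cg c g = cg c g' :=
    σ.injective (mul_left_cancel₀ (pow_ne_zero _ hl) (add_right_cancel h2))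
  exact ext' c e1 e2

/-- the standard automorphism attached to `(l, σ, ζ)` -/
noncomputable def mkAut (l : Fˣ) (σ : F ≃+* F) (ζ : ZHom hF) : MulAut G :=
  haveI := c.finite
  MulEquiv.ofBijective (mkHom c (l : F) σ ζ)
    ⟨mkHom_injective c l.ne_zero σ ζ, Finite.surjective_of_injective (mkHom_injective c l.ne_zero σ ζ)⟩

theorem cb_mkAut (l : Fˣ) (σ : F ≃+* F) (ζ : ZHom hF) (g : G) :
    cb c (mkAut c l σ ζ g) = (l : F) * σ (cb c g) := cb_mkFun c l σ ζ g

theorem cg_mkAut (l : Fˣ) (σ : F ≃+* F) (ζ : ZHom hF) (g : G) :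
    cg c (mkAut c l σ ζ g) = (l : F) ^ (q + 1) * σ (cg c g) + ζ.1 (cb c g) := cg_mkFun c l σ ζ g

theorem mkAut_injective :
    Function.Injective (fun p : Fˣ × (F ≃+* F) × ZHom hF => mkAut c p.1 p.2.1 p.2.2) := by
  rintro ⟨l, σ, ζ⟩ ⟨l', σ', ζ'⟩ h
  have h1 : ∀ g, (l : F) * σ (cb c g) = (l' : F) * σ' (cb c g) := by
    intro g
    rw [← cb_mkAut c l σ ζ, ← cb_mkAut c l' σ' ζ']
    exact congrArg (fun f : MulAut G => cb c (f g)) h
  have h2 : ∀ g, (l : F) ^ (q + 1) * σ (cg c g) + ζ.1 (cb c g) =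
      (l' : F) ^ (q + 1) * σ' (cg c g) + ζ'.1 (cb c g) := by
    intro g
    rw [← cg_mkAut c l σ ζ, ← cg_mkAut c l' σ' ζ']
    exact congrArg (fun f : MulAut G => cg c (f g)) h
  have hl : l = l' := by
    have := h1 (lift c 1)
    rw [cb_lift, map_one, map_one, mul_one, mul_one] at this
    exact Units.ext this
  subst hl
  have hσ : σ = σ' := by
    ext β
    have := h1 (lift c β)
    rw [cb_lift] at this
    exact mul_left_cancel₀ l.ne_zero this
  subst hσ
  have hζ : ζ = ζ' := by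
    apply Subtype.ext
    ext β
    have := h2 (lift c β)
    rw [cb_lift] at this
    exact add_left_cancel this
  subst hζ
  rfl

theorem mkAut_surjective :
    Function.Surjective (fun p : Fˣ × (F ≃+* F) × ZHom hF => mkAut c p.1 p.2.1 p.2.2) := by
  intro φ
  obtain ⟨l, σ, ζ, hl, hζ, h⟩ := exists_params c φ
  refine ⟨(Units.mk0 l hl, σ, ⟨ζ, hζ⟩), ?_⟩
  apply MulEquiv.ext
  intro g
  apply ext' c
  · show cb c (mkAut c (Units.mk0 l hl) σ ⟨ζ, hζ⟩ g) = _
    rw [cb_mkAut, (h g).1]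
    rfl
  · show cg c (mkAut c (Units.mk0 l hl) σ ⟨ζ, hζ⟩ g) = _
    rw [cg_mkAut, (h g).2]
    rfl

/-- the parametrisation of `Aut G` -/
noncomputable def paramEquiv : Fˣ × (F ≃+* F) × ZHom hF ≃ MulAut G :=
  Equiv.ofBijective _ ⟨mkAut_injective c, mkAut_surjective c⟩

include c in
theorem card_aut : Nat.card (MulAut G) =
    Nat.card Fˣ * (Nat.card (F ≃+* F) * Nat.card (ZHom hF)) := by
  rw [← Nat.card_congr (paramEquiv c), Nat.card_prod, Nat.card_prod]

end Cfsg.Agent.Lib.Helper3.SuAut
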