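import Mathlib
import Cfsg.Agent.Lib.Helper3.Sz29

set_option autoImplicit false
set_option linter.unusedSectionVars false

/-!
Suzuki groups, part 30: fixed-point-free elements; the Suzuki groups are CN-groups.
-/

namespace Cfsg.Agent.Lib.Helper3.Sz

open Matrix
open scoped Pointwise

section generic

variable {G : Type*} [Group G]

theorem isNilpotent_of_injective {H : Type*} [Group H] (f : G →* H) (hf : Function.Injective f)
    [hH : Group.IsNilpotent H] : Group.IsNilpotent G := by
  apply Subgroup.isNilpotent_of_ker_le_center f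
  rw [(MonoidHom.ker_eq_bot_iff f).mpr hf]
  exact bot_le

theorem isNilpotent_of_le {K C : Subgroup G} [Group.IsNilpotent K] (h : C ≤ K) :
    Group.IsNilpotent C :=
  isNilpotent_of_injective (Subgroup.inclusion h) (Subgroup.inclusion_injective h)

theorem isNilpotent_of_comm (C : Subgroup G) (h : ∀ x ∈ C, ∀ y ∈ C, x * y = y * x) :
    Group.IsNilpotent C := by
  let _ : CommGroup C := { (inferInstance : Group C) with
    mul_comm := fun x y => Subtype.ext (h x x.2 y y.2) }
  exact CommGroup.isNilpotent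

/-- conjugation as a homomorphism between centralisers -/
def conjCentralizer (z g : G) :
    Subgroup.centralizer ({g} : Set G) →* Subgroup.centralizer ({z⁻¹ * g * z} : Set G) where
  toFun x := ⟨z⁻¹ * x * z, by
    have hx := Subgroup.mem_centralizer_singleton_iff.mp x.2
    rw [Subgroup.mem_centralizer_singleton_iff]
    calc z⁻¹ * x * z * (z⁻¹ * g * z) = z⁻¹ * (x * g) * z := by group
      _ = z⁻¹ * (g * x) * z := by rw [hx]
      _ = z⁻¹ * g * z * (z⁻¹ * x * z) := by group⟩
  map_one' := by
    apply Subtype.ext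
    show z⁻¹ * 1 * z = 1
    group
  map_mul' x y := by
    apply Subtype.ext
    show z⁻¹ * (x * y) * z = z⁻¹ * x * z * (z⁻¹ * y * z)
    group

theorem conjCentralizer_injective (z g : G) : Function.Injective (conjCentralizer z g) := by
  intro x y h
  have h1 : z⁻¹ * (x : G) * z = z⁻¹ * y * z := congrArg Subtype.val h
  exact Subtype.ext (mul_left_cancel (mul_right_cancel h1))

end generic

variable {F : Type*} [Field F] [CharP F 2] (T : Tits F)

local notation "SL4" => Matrix.SpecialLinearGroup (Fin 4) F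
local notation "PP" => Projectivization F (Fin 4 → F)

/-- an element of prime order `p ∤ q² + 1` has a fixed point on the ovoid -/
theorem exists_fix_of_prime_order [Fintype F] {g : Gam T} {p : ℕ} (hp : p.Prime)
    (hg : orderOf g = p) (hpq : ¬ p ∣ Nat.card F ^ 2 + 1) : ∃ P : ovoid T, g • P = P := by
  have : Fact p.Prime := ⟨hp⟩
  have hpg : IsPGroup p (Subgroup.zpowers g) := by
    apply IsPGroup.of_card (n := 1)
    rw [Nat.card_zpowers, hg, pow_one]
  have hmod := hpg.card_modEq_card_fixedPoints (ovoid T)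
  rw [card_ovoid] at hmod
  by_contra hne
  push Not at hne
  have hfix : MulAction.fixedPoints (Subgroup.zpowers g) (ovoid T) = ∅ := by
    rw [Set.eq_empty_iff_forall_notMem]
    intro P hP
    rw [MulAction.mem_fixedPoints] at hP
    exact hne P (hP ⟨g, Subgroup.mem_zpowers g⟩)
  rw [hfix] at hmod
  have hempty : Nat.card (↑(∅ : Set (ovoid T))) = 0 := by simp
  rw [hempty] at hmod
  exact hpq ((Nat.modEq_zero_iff_dvd).mp hmod)

/-- an element of `G` commuting with an element fixing exactly ... : fixed-point-free elements have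
a power of prime order `p ∣ q² + 1` -/
theorem fpf_prime [Fintype F] (hT : T.IsPow) {g : Gam T} (hg1 : g ≠ 1)
    (hfpf : ∀ P : ovoid T, g • P ≠ P) :
    ∃ p : ℕ, p.Prime ∧ p ∣ Nat.card F ^ 2 + 1 ∧ ∃ j : ℕ, orderOf (g ^ j) = p := by
  have hn0 : orderOf g ≠ 0 := (orderOf_pos g).ne'
  have hn1 : orderOf g ≠ 1 := fun h => hg1 (orderOf_eq_one_iff.mp h)
  obtain ⟨p, hp, hpn⟩ := Nat.exists_prime_and_dvd hn1
  have hord := orderOf_pow_orderOf_div hn0 hpn
  by_cases hpq : p ∣ Nat.card F ^ 2 + 1
  · exact ⟨p, hp, hpq, _, hord⟩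
  exfalso
  set g' := g ^ (orderOf g / p) with hg'
  obtain ⟨P, hP⟩ := exists_fix_of_prime_order T hp hord hpq
  have hg'1 : g' ≠ 1 := by
    intro h
    rw [h, orderOf_one] at hord
    exact hp.one_lt.ne hord
  have hcomm : g * g' = g' * g := by
    rw [hg']
    exact (Commute.pow_right (Commute.refl g) _).eq
  have hfix : ∀ Q : ovoid T, g' • Q = Q → g' • (g • Q) = g • Q := by
    intro Q hQ
    rw [← mul_smul, ← hcomm, mul_smul, hQ]
  set Q := g • P with hQ
  have hQP : Q ≠ P := hfpf P
  have hQfix := hfix P hP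
  have hgQ : g • Q = P := by
    by_contra hne
    have h3 := hfix Q hQfix
    have := eq_one_of_fix_three T hT (a := P) (b := Q) (c := g • Q) hQP.symm (hfpf Q).symm
      (Ne.symm hne) hP hQfix h3
    exact hg'1 this
  -- g² fixes P and Q
  have h2P : (g * g) • P = P := by rw [mul_smul, ← hQ, hgQ]
  have h2Q : (g * g) • Q = Q := by rw [mul_smul, hgQ]
  by_cases hsq : g * g = 1
  · -- g is an involution, so g' = g
    have h2 : orderOf g = 2 := orderOf_eq_prime (by rw [pow_two]; exact hsq) hg1
    have hp2 : p = 2 := by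
      rw [h2] at hpn
      exact (Nat.prime_dvd_prime_iff_eq hp Nat.prime_two).mp hpn
    have : g' = g := by
      rw [hg', h2, hp2]
      norm_num
    rw [this] at hP
    exact hfpf P hP
  · obtain ⟨z, hz1, hz2⟩ := exists_smul_pair T hQP.symm
    have h0 : (z⁻¹ * (g * g) * z) • oInf T = oInf T := by
      rw [mul_smul, mul_smul, hz1, h2P, ← hz1, inv_smul_smul]
    have h1 : (z⁻¹ * (g * g) * z) • oPt T 0 0 = oPt T 0 0 := by
      rw [mul_smul, mul_smul, hz2, h2Q, ← hz2, inv_smul_smul]
    obtain ⟨k, hk⟩ := key_lemma_G T hT h0 h1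
    have hk1 : k ≠ 1 := by
      rintro rfl
      rw [hG_one] at hk
      apply hsq
      have : g * g = z * (z⁻¹ * (g * g) * z) * z⁻¹ := by group
      rw [this, hk]; group
    have hmem : z⁻¹ * g * z ∈ Subgroup.centralizer ({hG T k} : Set (Gam T)) := by
      rw [Subgroup.mem_centralizer_singleton_iff, ← hk]
      group
    obtain ⟨l, hl⟩ := centralizer_hG_le T hT hk1 hmem
    have : g • P = P := by
      have e : g = z * hG T l * z⁻¹ := by
        have : hG T l = z⁻¹ * g * z := hl
        rw [this]; group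
      rw [e, mul_smul, mul_smul, ← hz1, inv_smul_smul, hG_smul_oInf]
    exact hfpf P this

theorem irr_of_prime_order [Fintype F] (hT : T.IsPow) {g : Gam T} {p : ℕ} (hp : p.Prime)
    (hg : orderOf g = p) (hpq : p ∣ Nat.card F ^ 2 + 1) : Irr T g :=
  fun W hW => irreducible_of_prime_order T hT hp hg hpq W hW

/-- elements commuting with an irreducible element commute with each other -/
theorem comm_of_irr {g : Gam T} (hI : Irr T g) {x y : Gam T} (hx : x * g = g * x)
    (hy : y * g = g * y) : x * y = y * x := by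
  apply matG_injective T
  rw [matG_mul, matG_mul]
  apply commute_of_commute hI
  · rw [← matG_mul, ← matG_mul, hx]
  · rw [← matG_mul, ← matG_mul, hy]

theorem centralizer_comm_of_fpf [Fintype F] (hT : T.IsPow) {g : Gam T} (hg1 : g ≠ 1)
    (hfpf : ∀ P : ovoid T, g • P ≠ P) :
    ∀ x ∈ Subgroup.centralizer ({g} : Set (Gam T)),
      ∀ y ∈ Subgroup.centralizer ({g} : Set (Gam T)), x * y = y * x := by
  obtain ⟨p, hp, hpq, j, hj⟩ := fpf_prime T hT hg1 hfpf
  have hI := irr_of_prime_order T hT hp hj hpq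
  intro x hx y hy
  rw [Subgroup.mem_centralizer_singleton_iff] at hx hy
  have hx' : x * g ^ j = g ^ j * x := (Commute.pow_right (show Commute x g from hx) j).eq
  have hy' : y * g ^ j = g ^ j * y := (Commute.pow_right (show Commute y g from hy) j).eq
  exact comm_of_irr T hI hx' hy'

theorem torus_range_comm : ∀ x ∈ (torusHom T).range, ∀ y ∈ (torusHom T).range, x * y = y * x := by
  rintro _ ⟨k, rfl⟩ _ ⟨l, rfl⟩
  rw [← map_mul, ← map_mul, mul_comm]

/-- reduction of an element with a fixed point to `u(a,b)` or `h(k)` -/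
theorem exists_conj_of_fix [Fintype F] (hT : T.IsPow) {g : Gam T} (hg1 : g ≠ 1) {P : ovoid T}
    (hP : g • P = P) :
    ∃ z : Gam T, (∃ a b, ¬ (a = 0 ∧ b = 0) ∧ z⁻¹ * g * z = uG T a b) ∨
      (∃ k, k ≠ 1 ∧ z⁻¹ * g * z = hG T k) := by
  obtain ⟨z, hz⟩ := exists_smul_oInf_eq T P
  have h0 : (z⁻¹ * g * z) • oInf T = oInf T := by
    rw [mul_smul, mul_smul, hz, hP, ← hz, inv_smul_smul]
  obtain ⟨a, b, k, hk⟩ := borel_decomp T hT h0
  have hne : z⁻¹ * g * z ≠ 1 := by
    intro h
    apply hg1
    have : g = z * (z⁻¹ * g * z) * z⁻¹ := by group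
    rw [this, h]; group
  by_cases hk1 : k = 1
  · subst hk1
    rw [hG_one, mul_one] at hk
    refine ⟨z, Or.inl ⟨a, b, ?_, hk⟩⟩
    rintro ⟨rfl, rfl⟩
    rw [uG_zero] at hk
    exact hne hk
  · obtain ⟨x, y, hxy⟩ := exists_fix_of_borel T (a := a) (b := b) hk1
    obtain ⟨z', hz1, hz2⟩ := exists_smul_pair T (oPt_ne_oInf T x y).symm
    have h0' : (z'⁻¹ * (z⁻¹ * g * z) * z') • oInf T = oInf T := by
      rw [mul_smul, mul_smul, hz1, h0, inv_smul_eq_iff, hz1]
    have h1' : (z'⁻¹ * (z⁻¹ * g * z) * z') • oPt T 0 0 = oPt T 0 0 := by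
      rw [mul_smul, mul_smul, hz2, hk, hxy, inv_smul_eq_iff, hz2]
    obtain ⟨k', hk'⟩ := key_lemma_G T hT h0' h1'
    refine ⟨z * z', Or.inr ⟨k', ?_, ?_⟩⟩
    · rintro rfl
      rw [hG_one] at hk'
      apply hne
      have : z⁻¹ * g * z = z' * (z'⁻¹ * (z⁻¹ * g * z) * z') * z'⁻¹ := by group
      rw [this, hk']; group
    · rw [← hk']; group

/-- **CN property**: the centraliser of every non-identity element is nilpotent -/
theorem centralizer_isNilpotent [Fintype F] (hT : T.IsPow) {g : Gam T} (hg1 : g ≠ 1) :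
    Group.IsNilpotent (Subgroup.centralizer ({g} : Set (Gam T))) := by
  by_cases hfix : ∃ P : ovoid T, g • P = P
  · obtain ⟨P, hP⟩ := hfix
    obtain ⟨z, h | h⟩ := exists_conj_of_fix T hT hg1 hP
    · obtain ⟨a, b, hab, e⟩ := h
      have hle := centralizer_uG_le T hT hab
      rw [← e] at hle
      have : Fact (Nat.Prime 2) := ⟨Nat.prime_two⟩
      have : Group.IsNilpotent (Usub T) := (isPGroup_Usub T).isNilpotent
      have : Group.IsNilpotent (Subgroup.centralizer ({z⁻¹ * g * z} : Set (Gam T))) :=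
        isNilpotent_of_le hle
      exact isNilpotent_of_injective (conjCentralizer z g) (conjCentralizer_injective z g)
    · obtain ⟨k, hk1, e⟩ := h
      have hle := centralizer_hG_le T hT hk1
      rw [← e] at hle
      have : Group.IsNilpotent (Subgroup.centralizer ({z⁻¹ * g * z} : Set (Gam T))) :=
        isNilpotent_of_comm _ (fun x hx y hy => torus_range_comm T x (hle hx) y (hle hy))
      exact isNilpotent_of_injective (conjCentralizer z g) (conjCentralizer_injective z g)
  · push Not at hfix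
    exact isNilpotent_of_comm _ (centralizer_comm_of_fpf T hT hg1 hfix)

theorem isCNGroup_of_eq [Fintype F] (hT : T.IsPow) (O : Set PP) (hO : O = ovoid T) :
    Cfsg.IsCNGroup (MulAction.stabilizer SL4 O) := by
  subst hO
  intro g hg
  exact centralizer_isNilpotent T hT hg

end Cfsg.Agent.Lib.Helper3.Sz
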