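import Mathlib
import Cfsg.Agent.Lib.Helper3.Sz30

set_option autoImplicit false
set_option linter.unusedSectionVars false

/-!
Suzuki groups, part 31: centralisers of non-2-elements are cyclic; odd Sylow subgroups are cyclic.
-/

namespace Cfsg.Agent.Lib.Helper3.Sz

open Matrix Polynomial
open scoped Pointwise

variable {F : Type*} [Field F] [CharP F 2] (T : Tits F)

local notation "SL4" => Matrix.SpecialLinearGroup (Fin 4) F
local notation "PP" => Projectivization F (Fin 4 → F)
local notation "M4" => Matrix (Fin 4) (Fin 4) F

/-- the centraliser of an irreducible element is cyclic -/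
theorem isCyclic_centralizer_of_irr [Fintype F] {g : Gam T} (hI : Irr T g) :
    IsCyclic (Subgroup.centralizer ({g} : Set (Gam T))) := by
  classical
  let R := Subalgebra.centralizer F ({matG T g} : Set M4)
  have hmem : ∀ c : R, (c : M4) * matG T g = matG T g * c := fun c =>
    ((Subalgebra.mem_centralizer_iff F).mp c.2 _ rfl).symm
  let _ : CommRing R := { (inferInstance : Ring R) with
    mul_comm := fun c d => Subtype.ext (commute_of_commute hI (hmem c) (hmem d)) }
  have hnz : NoZeroDivisors R := by
    refine ⟨?_⟩
    intro c d hcd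
    by_cases hc : c = 0
    · exact Or.inl hc
    · right
      have hc0 : (c : M4) ≠ 0 := fun h => hc (Subtype.ext h)
      have hcd' : (c : M4) * d = 0 := congrArg Subtype.val hcd
      exact Subtype.ext (eq_zero_of_mul_eq_zero hI (hmem c) hc0 hcd')
  have hnt : Nontrivial R := ⟨⟨0, 1, fun h => zero_ne_one (α := M4) (congrArg Subtype.val h)⟩⟩
  have : IsDomain R := NoZeroDivisors.to_isDomain R
  let f : Subgroup.centralizer ({g} : Set (Gam T)) →* R :=
    { toFun := fun x => ⟨matG T x, by
        rw [Subalgebra.mem_centralizer_iff]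
        intro a ha
        rw [Set.mem_singleton_iff] at ha
        subst ha
        have hx := Subgroup.mem_centralizer_singleton_iff.mp x.2
        rw [← matG_mul, ← matG_mul, hx]⟩
      map_one' := rfl
      map_mul' := fun x y => rfl }
  have hf : Function.Injective f := by
    intro x y hxy
    have : matG T x = matG T y := congrArg (fun r : R => (r : M4)) hxy
    exact Subtype.ext (matG_injective T this)
  exact isCyclic_of_injective_ringHom f hf

theorem isCyclic_torus_range [Fintype F] : IsCyclic (torusHom T).range := by
  have : IsCyclic Fˣ := inferInstance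
  exact isCyclic_of_surjective (torusHom T).rangeRestrict (torusHom T).rangeRestrict_surjective

/-- the centraliser of an element of odd prime order is cyclic -/
theorem isCyclic_centralizer_of_odd [Fintype F] (hT : T.IsPow) {g : Gam T} {p : ℕ} (hp : p.Prime)
    (hp2 : p ≠ 2) (hg : orderOf g = p) :
    IsCyclic (Subgroup.centralizer ({g} : Set (Gam T))) := by
  have hg1 : g ≠ 1 := by
    rintro rfl
    rw [orderOf_one] at hg
    exact hp.one_lt.ne hg
  by_cases hpq : p ∣ Nat.card F ^ 2 + 1
  · exact isCyclic_centralizer_of_irr T (irr_of_prime_order T hT hp hg hpq)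
  · obtain ⟨P, hP⟩ := exists_fix_of_prime_order T hp hg hpq
    obtain ⟨z, h | h⟩ := exists_conj_of_fix T hT hg1 hP
    · exfalso
      obtain ⟨a, b, -, e⟩ := h
      have h4 : g ^ 4 = 1 := by
        have : g = z * uG T a b * z⁻¹ := by rw [← e]; group
        rw [this, conj_pow, uG_pow_four]; group
      have hdvd : p ∣ 4 := hg ▸ orderOf_dvd_of_pow_eq_one h4
      have : p ∣ 2 ^ 2 := by norm_num; exact hdvd
      exact hp2 ((Nat.prime_dvd_prime_iff_eq hp Nat.prime_two).mp (hp.dvd_of_dvd_pow this))
    · obtain ⟨k, hk1, e⟩ := h
      have hle := centralizer_hG_le T hT hk1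
      rw [← e] at hle
      have := isCyclic_torus_range T
      have : IsCyclic (Subgroup.centralizer ({z⁻¹ * g * z} : Set (Gam T))) :=
        isCyclic_of_injective (Subgroup.inclusion hle) (Subgroup.inclusion_injective hle)
      exact isCyclic_of_injective (conjCentralizer z g) (conjCentralizer_injective z g)

/-- Sylow subgroups for odd primes are cyclic -/
theorem isCyclic_sylow_odd [Fintype F] (hT : T.IsPow) {p : ℕ} [hp : Fact p.Prime] (hp2 : p ≠ 2)
    (P : Sylow p (Gam T)) : IsCyclic P := by
  by_cases htriv : Subsingleton P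
  · exact isCyclic_of_subsingleton
  rw [not_subsingleton_iff_nontrivial] at htriv
  have hPp : IsPGroup p P := P.isPGroup'
  have hcen : Nontrivial (Subgroup.center P) := hPp.center_nontrivial
  have hpc : p ∣ Nat.card (Subgroup.center P) := by
    obtain ⟨n, hn⟩ := (IsPGroup.iff_card.mp (hPp.to_subgroup (Subgroup.center P)))
    rw [hn]
    have hn0 : n ≠ 0 := by
      rintro rfl
      rw [pow_zero] at hn
      have := (Nat.card_eq_one_iff_unique.mp hn).1
      exact not_subsingleton _ this
    exact dvd_pow_self p hn0
  obtain ⟨z, hz⟩ := exists_prime_orderOf_dvd_card' p hpc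
  have hz' : orderOf ((z : P) : Gam T) = p := by
    rw [Subgroup.orderOf_coe, Subgroup.orderOf_coe, hz]
  have hcyc := isCyclic_centralizer_of_odd T hT hp.out hp2 hz'
  have hle : (P : Subgroup (Gam T)) ≤ Subgroup.centralizer ({((z : P) : Gam T)} : Set (Gam T)) := by
    intro x hx
    rw [Subgroup.mem_centralizer_singleton_iff]
    have hzc := Subgroup.mem_center_iff.mp z.2 ⟨x, hx⟩
    have := congrArg Subtype.val hzc
    exact this
  exact isCyclic_of_injective (Subgroup.inclusion hle) (Subgroup.inclusion_injective hle)

theorem isCyclic_sylow_of_eq [Fintype F] (hT : T.IsPow) (O : Set PP) (hO : O = ovoid T)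
    {p : ℕ} [Fact p.Prime] (hp2 : p ≠ 2) (P : Sylow p (MulAction.stabilizer SL4 O)) :
    IsCyclic P := by
  subst hO
  exact isCyclic_sylow_odd T hT hp2 P

end Cfsg.Agent.Lib.Helper3.Sz
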