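import Mathlib
import Cfsg.Agent.Lib.Helper3.Sz31

set_option autoImplicit false
set_option linter.unusedSectionVars false

/-!
Suzuki groups, part 32: fixed-point-free elements and their centralisers (the "exceptional tori").
-/

namespace Cfsg.Agent.Lib.Helper3.Sz

open Matrix Polynomial
open scoped Pointwise

variable {F : Type*} [Field F] [CharP F 2] (T : Tits F)

local notation "SL4" => Matrix.SpecialLinearGroup (Fin 4) F
local notation "PP" => Projectivization F (Fin 4 → F)
local notation "M4" => Matrix (Fin 4) (Fin 4) F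

/-- fixed-point-free elements -/
def Fpf (g : Gam T) : Prop := ∀ P : ovoid T, g • P ≠ P

variable {T}

theorem Fpf.ne_one {g : Gam T} (h : Fpf T g) : g ≠ 1 := by
  rintro rfl
  exact h (oInf T) (one_smul _ _)

theorem Fpf.conj {g : Gam T} (h : Fpf T g) (y : Gam T) : Fpf T (y * g * y⁻¹) := by
  intro P hP
  apply h (y⁻¹ • P)
  have h1 : y⁻¹ • ((y * g * y⁻¹) • P) = y⁻¹ • P := by rw [hP]
  rw [← mul_smul] at h1
  rw [← mul_smul, ← h1]
  congr 1
  group

theorem hG_pow_card [Fintype F] (k : Fˣ) : hG T k ^ (Nat.card F - 1) = 1 := by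
  have h1 : k ^ (Nat.card F - 1) = 1 := by
    rw [← Nat.card_units]
    exact pow_card_eq_one'
  have : hG T k ^ (Nat.card F - 1) = torusHom T (k ^ (Nat.card F - 1)) := by
    rw [map_pow]; rfl
  rw [this, h1, map_one]

/-- elements of prime order `p ∣ q² + 1` are fixed-point-free -/
theorem fpf_of_prime_order [Fintype F] (hT : T.IsPow) {g : Gam T} {p : ℕ} (hp : p.Prime)
    (hg : orderOf g = p) (hpq : p ∣ Nat.card F ^ 2 + 1) : Fpf T g := by
  intro P hP
  have hg1 : g ≠ 1 := by
    rintro rfl
    rw [orderOf_one] at hg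
    exact hp.one_lt.ne hg
  have hq0 : 0 < Nat.card F := Nat.card_pos
  obtain ⟨hp2, -, hpq1, -, -⟩ := prime_dvd_sq_add_one (even_card (F := F)) hq0 hp hpq
  obtain ⟨z, h | h⟩ := exists_conj_of_fix T hT hg1 hP
  · obtain ⟨a, b, -, e⟩ := h
    have h4 : g ^ 4 = 1 := by
      have : g = z * uG T a b * z⁻¹ := by rw [← e]; group
      rw [this, conj_pow, uG_pow_four]; group
    have hdvd : p ∣ 4 := hg ▸ orderOf_dvd_of_pow_eq_one h4
    have : p ∣ 2 ^ 2 := by norm_num; exact hdvd
    exact hp2 ((Nat.prime_dvd_prime_iff_eq hp Nat.prime_two).mp (hp.dvd_of_dvd_pow this))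
  · obtain ⟨k, -, e⟩ := h
    have h4 : g ^ (Nat.card F - 1) = 1 := by
      have : g = z * hG T k * z⁻¹ := by rw [← e]; group
      rw [this, conj_pow, hG_pow_card]; group
    exact hpq1 (hg ▸ orderOf_dvd_of_pow_eq_one h4)

/-- the main structure lemma for centralisers of fixed-point-free elements -/
theorem Fpf.exists_irr [Fintype F] (hT : T.IsPow) {g : Gam T} (h : Fpf T g) :
    ∃ z : Gam T, Irr T z ∧ Fpf T z ∧ (∃ p : ℕ, p.Prime ∧ p ∣ Nat.card F ^ 2 + 1 ∧ orderOf z = p) ∧
      Subgroup.centralizer ({g} : Set (Gam T)) = Subgroup.centralizer ({z} : Set (Gam T)) := by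
  obtain ⟨p, hp, hpq, j, hj⟩ := fpf_prime T hT h.ne_one h
  refine ⟨g ^ j, irr_of_prime_order T hT hp hj hpq, fpf_of_prime_order hT hp hj hpq,
    ⟨p, hp, hpq, hj⟩, ?_⟩
  have hI := irr_of_prime_order T hT hp hj hpq
  apply le_antisymm
  · intro x hx
    rw [Subgroup.mem_centralizer_singleton_iff] at hx ⊢
    exact (Commute.pow_right (show Commute x g from hx) j).eq
  · intro x hx
    rw [Subgroup.mem_centralizer_singleton_iff] at hx ⊢
    have hg : g * g ^ j = g ^ j * g := (Commute.pow_right (Commute.refl g) j).eq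
    exact comm_of_irr T hI hx hg

theorem Fpf.centralizer_comm [Fintype F] (hT : T.IsPow) {g : Gam T} (h : Fpf T g) :
    ∀ x ∈ Subgroup.centralizer ({g} : Set (Gam T)),
      ∀ y ∈ Subgroup.centralizer ({g} : Set (Gam T)), x * y = y * x :=
  centralizer_comm_of_fpf T hT h.ne_one h

theorem Fpf.isCyclic_centralizer [Fintype F] (hT : T.IsPow) {g : Gam T} (h : Fpf T g) :
    IsCyclic (Subgroup.centralizer ({g} : Set (Gam T))) := by
  obtain ⟨z, hI, -, -, e⟩ := h.exists_irr hT
  rw [e]
  exact isCyclic_centralizer_of_irr T hI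

/-- non-identity elements of the centraliser of a fixed-point-free element are fixed-point-free -/
theorem Fpf.of_mem_centralizer [Fintype F] (hT : T.IsPow) {g : Gam T} (h : Fpf T g) {a : Gam T}
    (ha : a ∈ Subgroup.centralizer ({g} : Set (Gam T))) (ha1 : a ≠ 1) : Fpf T a := by
  obtain ⟨z, -, hz, ⟨p, hp, hpq, hzp⟩, e⟩ := h.exists_irr hT
  rw [e, Subgroup.mem_centralizer_singleton_iff] at ha
  intro P hP
  -- `z` and `z²` are fixed-point-free
  have hq0 : 0 < Nat.card F := Nat.card_pos
  obtain ⟨hp2, -, -, -, -⟩ := prime_dvd_sq_add_one (even_card (F := F)) hq0 hp hpq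
  have hz2 : Fpf T (z ^ 2) := by
    apply fpf_of_prime_order hT hp _ hpq
    rw [Nat.Coprime.orderOf_pow, hzp]
    rw [hzp]
    exact (Nat.coprime_primes hp Nat.prime_two).mpr hp2
  have hfix : ∀ Q : ovoid T, a • Q = Q → a • (z • Q) = z • Q := by
    intro Q hQ
    rw [← mul_smul, ha, mul_smul, hQ]
  have h1 := hfix P hP
  have h2 := hfix _ h1
  apply ha1
  apply eq_one_of_fix_three T hT (a := P) (b := z • P) (c := z • z • P) _ _ _ hP h1 h2
  · exact (hz P).symm
  · exact (hz (z • P)).symm
  · intro h3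
    apply hz2 P
    rw [pow_two, mul_smul]
    exact h3.symm

/-- the centraliser of a fixed-point-free element is the centraliser of each of its non-identity
elements -/
theorem Fpf.centralizer_eq [Fintype F] (hT : T.IsPow) {g : Gam T} (h : Fpf T g) {a : Gam T}
    (ha : a ∈ Subgroup.centralizer ({g} : Set (Gam T))) (ha1 : a ≠ 1) :
    Subgroup.centralizer ({a} : Set (Gam T)) = Subgroup.centralizer ({g} : Set (Gam T)) := by
  have hfa := h.of_mem_centralizer hT ha ha1
  have hg : g ∈ Subgroup.centralizer ({a} : Set (Gam T)) := by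
    rw [Subgroup.mem_centralizer_singleton_iff] at ha ⊢
    exact ha.symm
  have hgg : g ∈ Subgroup.centralizer ({g} : Set (Gam T)) :=
    Subgroup.mem_centralizer_singleton_iff.mpr rfl
  have haa : a ∈ Subgroup.centralizer ({a} : Set (Gam T)) :=
    Subgroup.mem_centralizer_singleton_iff.mpr rfl
  apply le_antisymm
  · intro x hx
    have := hfa.centralizer_comm hT x hx g hg
    exact Subgroup.mem_centralizer_singleton_iff.mpr this
  · intro x hx
    have := h.centralizer_comm hT x hx a ha
    exact Subgroup.mem_centralizer_singleton_iff.mpr this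

end Cfsg.Agent.Lib.Helper3.Sz
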