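import Mathlib
import Cfsg.Agent.Lib.Helper3.Sz32

set_option autoImplicit false
set_option linter.unusedSectionVars false
set_option linter.style.haveILetI false

/-!
Suzuki groups, part 33: counting the fixed-point-free elements.
-/

namespace Cfsg.Agent.Lib.Helper3.Sz

open Matrix Polynomial
open scoped Pointwise

variable {F : Type*} [Field F] [CharP F 2] (T : Tits F)

local notation "SL4" => Matrix.SpecialLinearGroup (Fin 4) F
local notation "PP" => Projectivization F (Fin 4 → F)
local notation "M4" => Matrix (Fin 4) (Fin 4) F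

theorem finite_ovoid [Fintype F] : Finite (ovoid T) := by
  apply Nat.finite_of_card_ne_zero
  rw [card_ovoid]
  positivity

theorem card_stabilizer [Fintype F] (hT : T.IsPow) (P : ovoid T) :
    Nat.card (MulAction.stabilizer (Gam T) P) = Nat.card F ^ 2 * (Nat.card F - 1) := by
  obtain ⟨y, rfl⟩ := exists_smul_oInf_eq T P
  rw [MulAction.stabilizer_smul_eq_stabilizer_map_conj]
  rw [Nat.card_congr ((Subgroup.equivMapOfInjective _ _ (MulAut.conj y).injective).symm.toEquiv)]
  exact card_Borel T hT

theorem card_stabilizer_pair [Fintype F] (hT : T.IsPow) {P Q : ovoid T} (hPQ : P ≠ Q) :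
    Nat.card ↥(MulAction.stabilizer (Gam T) P ⊓ MulAction.stabilizer (Gam T) Q) =
      Nat.card F - 1 := by
  obtain ⟨y, rfl, rfl⟩ := exists_smul_pair T hPQ
  rw [MulAction.stabilizer_smul_eq_stabilizer_map_conj,
    MulAction.stabilizer_smul_eq_stabilizer_map_conj,
    ← Subgroup.map_inf _ _ _ (MulAut.conj y).injective, ← torusHom_range T hT]
  rw [Nat.card_congr ((Subgroup.equivMapOfInjective _ _ (MulAut.conj y).injective).symm.toEquiv)]
  rw [Nat.card_congr (MonoidHom.ofInjective (torusHom_injective T)).symm.toEquiv, Nat.card_units]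


section counting

open Classical

variable [Fintype F]

/-- the number of fixed points -/
noncomputable def fixN (g : Gam T) : ℕ :=
  haveI := finite_ovoid T
  haveI := Fintype.ofFinite (ovoid T)
  (Finset.univ.filter (fun P : ovoid T => g • P = P)).card

theorem sum_fixN (hT : T.IsPow) :
    haveI := Fintype.ofFinite (Gam T)
    ∑ g : Gam T, fixN T g = Nat.card (Gam T) := by
  haveI := finite_ovoid T
  letI := Fintype.ofFinite (ovoid T)
  letI := Fintype.ofFinite (Gam T)
  have h1 : ∀ g : Gam T, fixN T g = ∑ P : ovoid T, if g • P = P then 1 else 0 := by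
    intro g
    unfold fixN
    rw [Finset.card_filter]
  simp_rw [h1]
  rw [Finset.sum_comm]
  have h2 : ∀ P : ovoid T, (∑ g : Gam T, if g • P = P then 1 else 0) =
      Nat.card F ^ 2 * (Nat.card F - 1) := by
    intro P
    rw [← Finset.card_filter, ← card_stabilizer T hT P, Nat.card_eq_fintype_card,
      Fintype.card_subtype]
    rfl
  simp_rw [h2]
  rw [Finset.sum_const, Finset.card_univ, ← Nat.card_eq_fintype_card, card_ovoid, card_Gam T hT,
    smul_eq_mul]

theorem sum_fixN_sq (hT : T.IsPow) :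
    haveI := Fintype.ofFinite (Gam T)
    ∑ g : Gam T, fixN T g ^ 2 = 2 * Nat.card (Gam T) := by
  haveI := finite_ovoid T
  letI := Fintype.ofFinite (ovoid T)
  letI := Fintype.ofFinite (Gam T)
  have h1 : ∀ g : Gam T, fixN T g ^ 2 =
      ∑ P : ovoid T, ∑ Q : ovoid T, if g • P = P ∧ g • Q = Q then 1 else 0 := by
    intro g
    have h0 : fixN T g = ∑ P : ovoid T, if g • P = P then 1 else 0 := by
      unfold fixN
      rw [Finset.card_filter]
    rw [pow_two, h0, Finset.sum_mul_sum]
    apply Finset.sum_congr rfl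
    intro P _
    apply Finset.sum_congr rfl
    intro Q _
    by_cases hP : g • P = P <;> by_cases hQ : g • Q = Q <;> simp [hP, hQ]
  simp_rw [h1]
  rw [Finset.sum_comm]
  have h2 : ∀ P : ovoid T, (∑ g : Gam T, ∑ Q : ovoid T, if g • P = P ∧ g • Q = Q then 1 else 0) =
      2 * (Nat.card F ^ 2 * (Nat.card F - 1)) := by
    intro P
    rw [Finset.sum_comm]
    have h3 : ∀ Q : ovoid T, (∑ g : Gam T, if g • P = P ∧ g • Q = Q then 1 else 0) =
        (Nat.card F - 1) + if Q = P then (Nat.card F ^ 2 - 1) * (Nat.card F - 1) else 0 := by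
      intro Q
      rw [← Finset.card_filter]
      by_cases hQP : Q = P
      · subst hQP
        rw [if_pos rfl]
        have : (Finset.univ.filter (fun g : Gam T => g • Q = Q ∧ g • Q = Q)).card =
            Nat.card F ^ 2 * (Nat.card F - 1) := by
          rw [← card_stabilizer T hT Q, Nat.card_eq_fintype_card, Fintype.card_subtype]
          congr 1
          ext g
          simp [MulAction.mem_stabilizer_iff]
        rw [this]
        have hq : 1 ≤ Nat.card F ^ 2 := Nat.one_le_pow _ _ Nat.card_pos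
        obtain ⟨c, hc⟩ := Nat.exists_eq_add_of_le hq
        rw [hc]
        simp only [Nat.add_sub_cancel_left]
        ring
      · rw [if_neg hQP, add_zero]
        rw [← card_stabilizer_pair T hT (Ne.symm hQP), Nat.card_eq_fintype_card,
          Fintype.card_subtype]
        congr 1
        ext g
        simp [Subgroup.mem_inf, MulAction.mem_stabilizer_iff]
    simp_rw [h3]
    rw [Finset.sum_add_distrib, Finset.sum_const, Finset.card_univ, ← Nat.card_eq_fintype_card,
      card_ovoid, Finset.sum_ite_eq' Finset.univ P, if_pos (Finset.mem_univ _), smul_eq_mul]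
    have hq : 1 ≤ Nat.card F ^ 2 := Nat.one_le_pow _ _ Nat.card_pos
    obtain ⟨c, hc⟩ := Nat.exists_eq_add_of_le hq
    rw [hc]
    simp only [Nat.add_sub_cancel_left]
    ring
  simp_rw [h2]
  rw [Finset.sum_const, Finset.card_univ, ← Nat.card_eq_fintype_card, card_ovoid, card_Gam T hT,
    smul_eq_mul]
  ring

theorem fixN_one : fixN T 1 = Nat.card F ^ 2 + 1 := by
  haveI := finite_ovoid T
  letI := Fintype.ofFinite (ovoid T)
  unfold fixN
  rw [← card_ovoid T, Nat.card_eq_fintype_card, ← Finset.card_univ]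
  congr 1
  ext P
  simp

theorem fixN_eq_zero {g : Gam T} (h : Fpf T g) : fixN T g = 0 := by
  haveI := finite_ovoid T
  letI := Fintype.ofFinite (ovoid T)
  unfold fixN
  rw [Finset.card_eq_zero, Finset.filter_eq_empty_iff]
  intro P _
  exact h P

theorem fixN_pos {g : Gam T} (h : ¬ Fpf T g) : 1 ≤ fixN T g := by
  haveI := finite_ovoid T
  letI := Fintype.ofFinite (ovoid T)
  unfold Fpf at h
  push Not at h
  obtain ⟨P, hP⟩ := h
  unfold fixN
  rw [Nat.one_le_iff_ne_zero, Finset.card_ne_zero]
  exact ⟨P, by simp [hP]⟩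

theorem fixN_le_two (hT : T.IsPow) {g : Gam T} (h : g ≠ 1) : fixN T g ≤ 2 := by
  haveI := finite_ovoid T
  letI := Fintype.ofFinite (ovoid T)
  unfold fixN
  by_contra hlt
  push Not at hlt
  rw [Finset.two_lt_card] at hlt
  obtain ⟨a, ha, b, hb, c, hc, hab, hac, hbc⟩ := hlt
  simp only [Finset.mem_filter, Finset.mem_univ, true_and] at ha hb hc
  exact h (eq_one_of_fix_three T hT hab hbc hac ha hb hc)

theorem two_mul_card_fpf (hT : T.IsPow) :
    2 * Nat.card {g : Gam T // Fpf T g} = Nat.card F ^ 3 * (Nat.card F - 1) ^ 2 := by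
  letI := Fintype.ofFinite (Gam T)
  have hq1 : 1 ≤ Nat.card F := Nat.card_pos
  have key : ∀ g : Gam T, ((fixN T g : ℤ)) ^ 2 - 3 * fixN T g + 2 =
      (if g = 1 then ((Nat.card F : ℤ) ^ 4 - (Nat.card F : ℤ) ^ 2) else 0) +
        (if Fpf T g then 2 else 0) := by
    intro g
    by_cases h1 : g = 1
    · subst h1
      have : ¬ Fpf T (1 : Gam T) := fun h => h.ne_one rfl
      rw [if_pos rfl, if_neg this, fixN_one]
      push_cast
      ring
    · rw [if_neg h1]
      by_cases hf : Fpf T g
      · rw [if_pos hf, fixN_eq_zero T hf]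
        simp
      · rw [if_neg hf]
        have h2 := fixN_le_two T hT h1
        have h3 := fixN_pos T hf
        have : fixN T g = 1 ∨ fixN T g = 2 := by omega
        rcases this with h | h <;> rw [h] <;> norm_num
  have hsum := Finset.sum_congr (s₁ := (Finset.univ : Finset (Gam T))) rfl (fun g _ => key g)
  have hL : (∑ g : Gam T, (((fixN T g : ℤ)) ^ 2 - 3 * fixN T g + 2)) =
      (∑ g : Gam T, ((fixN T g : ℤ)) ^ 2) - 3 * (∑ g : Gam T, ((fixN T g : ℤ))) +
        ∑ _g : Gam T, (2 : ℤ) := by
    rw [Finset.sum_add_distrib, Finset.sum_sub_distrib, ← Finset.mul_sum]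
  have hR : (∑ g : Gam T, ((if g = 1 then ((Nat.card F : ℤ) ^ 4 - (Nat.card F : ℤ) ^ 2) else 0) +
        (if Fpf T g then (2 : ℤ) else 0))) =
      ((Nat.card F : ℤ) ^ 4 - (Nat.card F : ℤ) ^ 2) +
        ∑ g : Gam T, (if Fpf T g then (2 : ℤ) else 0) := by
    rw [Finset.sum_add_distrib, Finset.sum_ite_eq' Finset.univ (1 : Gam T),
      if_pos (Finset.mem_univ _)]
  rw [hL, hR] at hsum
  have e1 : (∑ g : Gam T, ((fixN T g : ℤ)) ^ 2) = 2 * (Nat.card (Gam T) : ℤ) := by
    have := sum_fixN_sq T hT
    exact_mod_cast this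
  have e2 : (∑ g : Gam T, ((fixN T g : ℤ))) = (Nat.card (Gam T) : ℤ) := by
    have := sum_fixN T hT
    exact_mod_cast this
  have e3 : (∑ g : Gam T, if Fpf T g then (2 : ℤ) else 0) =
      2 * (Nat.card {g : Gam T // Fpf T g} : ℤ) := by
    rw [← Finset.sum_filter, Finset.sum_const, Nat.card_eq_fintype_card, Fintype.card_subtype]
    simp
    ring
  rw [e1, e2, e3, Finset.sum_const, Finset.card_univ, ← Nat.card_eq_fintype_card,
    nsmul_eq_mul] at hsum
  have hcast : ((Nat.card F - 1 : ℕ) : ℤ) = (Nat.card F : ℤ) - 1 := by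
    rw [Nat.cast_sub hq1]; simp
  have hG : (Nat.card (Gam T) : ℤ) =
      ((Nat.card F : ℤ) ^ 2 + 1) * ((Nat.card F : ℤ) ^ 2 * ((Nat.card F : ℤ) - 1)) := by
    rw [card_Gam T hT]
    push_cast
    rw [hcast]
  rw [hG] at hsum
  have : (2 * (Nat.card {g : Gam T // Fpf T g} : ℤ)) =
      ((Nat.card F ^ 3 * (Nat.card F - 1) ^ 2 : ℕ) : ℤ) := by
    push_cast
    rw [hcast]
    linear_combination -hsum
  exact_mod_cast this

end counting

end Cfsg.Agent.Lib.Helper3.Sz
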