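import Mathlib
import Cfsg.Agent.Lib.Helper3.Sz33

set_option autoImplicit false
set_option linter.unusedSectionVars false
set_option linter.style.haveILetI false

/-!
Suzuki groups, part 34: orders of the exceptional tori and of their normalisers.
-/

namespace Cfsg.Agent.Lib.Helper3.Sz

open Matrix Polynomial
open scoped Pointwise

variable {F : Type*} [Field F] [CharP F 2] (T : Tits F)

local notation "SL4" => Matrix.SpecialLinearGroup (Fin 4) F
local notation "PP" => Projectivization F (Fin 4 → F)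
local notation "M4" => Matrix (Fin 4) (Fin 4) F

/-- the centraliser of an element -/
abbrev Tor (g : Gam T) : Subgroup (Gam T) := Subgroup.centralizer ({g} : Set (Gam T))

variable {T}

theorem mem_Tor_iff {g x : Gam T} : x ∈ Tor T g ↔ x * g = g * x :=
  Subgroup.mem_centralizer_singleton_iff

theorem self_mem_Tor (g : Gam T) : g ∈ Tor T g := mem_Tor_iff.mpr rfl

theorem mem_Tor_conj {g x y : Gam T} : x ∈ Tor T (y * g * y⁻¹) ↔ y⁻¹ * x * y ∈ Tor T g := by
  rw [mem_Tor_iff, mem_Tor_iff]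
  constructor
  · intro h
    calc y⁻¹ * x * y * g = y⁻¹ * (x * (y * g * y⁻¹)) * y := by group
      _ = y⁻¹ * ((y * g * y⁻¹) * x) * y := by rw [h]
      _ = g * (y⁻¹ * x * y) := by group
  · intro h
    calc x * (y * g * y⁻¹) = y * ((y⁻¹ * x * y) * g) * y⁻¹ := by group
      _ = y * (g * (y⁻¹ * x * y)) * y⁻¹ := by rw [h]
      _ = y * g * y⁻¹ * x := by group

/-- every prime divisor of the order of an exceptional torus divides `q² + 1` -/
theorem Fpf.prime_dvd [Fintype F] (hT : T.IsPow) {g : Gam T} (h : Fpf T g) {p : ℕ} (hp : p.Prime)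
    (hpt : p ∣ Nat.card (Tor T g)) : p ∣ Nat.card F ^ 2 + 1 := by
  have : Fact p.Prime := ⟨hp⟩
  obtain ⟨a, ha⟩ := exists_prime_orderOf_dvd_card' p hpt
  have ha' : orderOf (a : Gam T) = p := by rw [Subgroup.orderOf_coe, ha]
  have ha1 : (a : Gam T) ≠ 1 := by
    intro h1
    rw [h1, orderOf_one] at ha'
    exact hp.one_lt.ne ha'
  have hfa := h.of_mem_centralizer hT a.2 ha1
  by_contra hpq
  obtain ⟨P, hP⟩ := exists_fix_of_prime_order T hp ha' hpq
  exact hfa P hP

theorem Fpf.card_dvd [Fintype F] (hT : T.IsPow) {g : Gam T} (h : Fpf T g) :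
    Nat.card (Tor T g) ∣ Nat.card F ^ 2 + 1 := by
  have h1 : Nat.card (Tor T g) ∣ Nat.card (Gam T) := Subgroup.card_subgroup_dvd_card _
  rw [card_Gam T hT] at h1
  refine Nat.Coprime.dvd_of_dvd_mul_right ?_ h1
  apply Nat.coprime_of_dvd
  intro p hp hpt hpq
  have hq0 : 0 < Nat.card F := Nat.card_pos
  obtain ⟨-, hq1, hq2, -, -⟩ :=
    prime_dvd_sq_add_one (even_card (F := F)) hq0 hp (h.prime_dvd hT hp hpt)
  rcases (Nat.Prime.dvd_mul hp).mp hpq with h3 | h3
  · exact hq1 (hp.dvd_of_dvd_pow h3)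
  · exact hq2 h3

theorem Fpf.one_lt_card [Fintype F] {g : Gam T} (h : Fpf T g) : 1 < Nat.card (Tor T g) := by
  rw [Finite.one_lt_card_iff_nontrivial]
  exact ⟨⟨⟨g, self_mem_Tor g⟩, 1, fun e => h.ne_one (congrArg Subtype.val e)⟩⟩

theorem sq_add_one_mod_three {m : ℕ} : ((2 ^ (2 * m + 1)) ^ 2 + 1) % 3 = 2 := by
  have h1 : (2 ^ (2 * m + 1)) ^ 2 = 4 ^ (2 * m + 1) := by
    rw [← pow_mul, mul_comm, pow_mul]; norm_num
  rw [h1, Nat.add_mod, Nat.pow_mod]
  norm_num

theorem Fpf.five_le_card [Fintype F] (hT : T.IsPow) {m : ℕ} (hq : Nat.card F = 2 ^ (2 * m + 1))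
    {g : Gam T} (h : Fpf T g) : 5 ≤ Nat.card (Tor T g) := by
  have h1 := h.card_dvd hT
  have h2 := h.one_lt_card
  have h3 : (Nat.card F ^ 2 + 1) % 3 = 2 := by rw [hq]; exact sq_add_one_mod_three
  have h4 : (Nat.card F ^ 2 + 1) % 2 = 1 := by
    have := even_card (F := F)
    rw [hq] at this ⊢
    have h5 : (2 ^ (2 * m + 1)) ^ 2 = 2 * (2 ^ (2 * m) * 2 ^ (2 * m + 1)) := by ring
    rw [h5]
    omega
  by_contra hlt
  push Not at hlt
  have : Nat.card (Tor T g) = 2 ∨ Nat.card (Tor T g) = 3 ∨ Nat.card (Tor T g) = 4 := by omega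
  rcases this with h5 | h5 | h5 <;> rw [h5] at h1 <;> omega

theorem three_not_dvd_card [Fintype F] (hT : T.IsPow) {m : ℕ}
    (hq : Nat.card F = 2 ^ (2 * m + 1)) : ¬ 3 ∣ Nat.card (Gam T) := by
  rw [card_Gam T hT]
  intro h
  have h3 : (Nat.card F ^ 2 + 1) % 3 = 2 := by rw [hq]; exact sq_add_one_mod_three
  have hq3 : Nat.card F % 3 = 2 := by
    rw [hq, pow_succ, pow_mul, Nat.mul_mod, Nat.pow_mod]
    norm_num
  have hq1 : 1 ≤ Nat.card F := Nat.card_pos
  have p3 : Nat.Prime 3 := by norm_num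
  rcases (Nat.Prime.dvd_mul p3).mp h with h | h
  · omega
  rcases (Nat.Prime.dvd_mul p3).mp h with h | h
  · have := p3.dvd_of_dvd_pow h
    omega
  · omega

/-- the TI property in normaliser form -/
theorem Fpf.mem_normalizer [Fintype F] (hT : T.IsPow) {g : Gam T} (h : Fpf T g) {a y : Gam T}
    (ha : a ∈ Tor T g) (ha1 : a ≠ 1) (hy : y * a * y⁻¹ ∈ Tor T g) :
    y ∈ Subgroup.normalizer (Tor T g : Set (Gam T)) := by
  have hne : y * a * y⁻¹ ≠ 1 := by
    intro e
    apply ha1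
    have : a = y⁻¹ * (y * a * y⁻¹) * y := by group
    rw [this, e]; group
  have e1 := h.centralizer_eq hT ha ha1
  have e2 := h.centralizer_eq hT hy hne
  rw [Subgroup.mem_normalizer_iff]
  intro x
  change x ∈ Tor T g ↔ y * x * y⁻¹ ∈ Tor T g
  have e1' : Tor T a = Tor T g := e1
  have e2' : Tor T (y * a * y⁻¹) = Tor T g := e2
  have h3 : y * x * y⁻¹ ∈ Tor T (y * a * y⁻¹) ↔ x ∈ Tor T a := by
    rw [mem_Tor_conj]
    have : y⁻¹ * (y * x * y⁻¹) * y = x := by group
    rw [this]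
  rw [e2', e1'] at h3
  exact h3.symm

end Cfsg.Agent.Lib.Helper3.Sz
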