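import Mathlib
import Cfsg.Agent.Lib.Helper3.Sz34

set_option autoImplicit false
set_option linter.unusedSectionVars false
set_option linter.style.haveILetI false

/-!
Suzuki groups, part 35: the normaliser of an exceptional torus has index at most four over it.
-/

namespace Cfsg.Agent.Lib.Helper3.Sz

open Matrix Polynomial
open scoped Pointwise

variable {F : Type*} [Field F] [CharP F 2] {T : Tits F}

local notation "SL4" => Matrix.SpecialLinearGroup (Fin 4) F
local notation "PP" => Projectivization F (Fin 4 → F)
local notation "M4" => Matrix (Fin 4) (Fin 4) F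

theorem matG_one : matG T 1 = 1 := rfl

theorem charpoly_conj_of_mul_eq_one (A B Z : M4) (h2 : B * A = 1) :
    (A * Z * B).charpoly = Z.charpoly := by
  rw [mul_assoc, Matrix.charpoly_mul_comm, mul_assoc, h2, mul_one]

theorem aeval_charpoly_of_eq (A : M4) (f : F[X]) (hf : A.charpoly = f) : aeval A f = 0 := by
  subst hf
  exact Matrix.aeval_self_charpoly A

theorem aeval_conj_charpoly (x z : Gam T) :
    aeval (matG T (x * z * x⁻¹)) (matG T z).charpoly = 0 := by
  apply aeval_charpoly_of_eq
  rw [matG_mul, matG_mul]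
  apply charpoly_conj_of_mul_eq_one
  rw [← matG_mul, inv_mul_cancel, matG_one]

theorem card_normalizer_le [Fintype F] {z : Gam T} (hI : Irr T z) :
    Nat.card (Subgroup.normalizer (Tor T z : Set (Gam T))) ≤ Nat.card (Tor T z) * 4 := by
  classical
  let R := Subalgebra.centralizer F ({matG T z} : Set M4)
  have hmem : ∀ c : R, (c : M4) * matG T z = matG T z * c := fun c =>
    ((Subalgebra.mem_centralizer_iff F).mp c.2 _ rfl).symm
  let _ : CommRing R := { (inferInstance : Ring R) with
    mul_comm := fun c d => Subtype.ext (commute_of_commute hI (hmem c) (hmem d)) }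
  have hnz : NoZeroDivisors R := by
    refine ⟨?_⟩
    intro c d hcd
    by_cases hc : c = 0
    · exact Or.inl hc
    · right
      have hc0 : (c : M4) ≠ 0 := fun h => hc (Subtype.ext h)
      have hcd' : (c : M4) * d = 0 := congrArg Subtype.val hcd
      exact Subtype.ext (eq_zero_of_mul_eq_zero hI (hmem c) hc0 hcd')
  have hnt : Nontrivial R := ⟨⟨0, 1, fun h => zero_ne_one (α := M4) (congrArg Subtype.val h)⟩⟩
  have : IsDomain R := NoZeroDivisors.to_isDomain R
  have hconj : ∀ x : Subgroup.normalizer (Tor T z : Set (Gam T)),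
      matG T ((x : Gam T) * z * (x : Gam T)⁻¹) ∈ R := by
    intro x
    rw [Subalgebra.mem_centralizer_iff]
    intro a ha
    rw [Set.mem_singleton_iff] at ha
    subst ha
    have h1 : (x : Gam T) * z * (x : Gam T)⁻¹ ∈ Tor T z :=
      (Subgroup.mem_normalizer_iff.mp x.2 z).mp (self_mem_Tor z)
    rw [mem_Tor_iff] at h1
    rw [← matG_mul, ← matG_mul, h1]
  let ρ : Subgroup.normalizer (Tor T z : Set (Gam T)) → R := fun x => ⟨_, hconj x⟩
  let fR : R[X] := (matG T z).charpoly.map (algebraMap F R)
  have hfR : fR.Monic := (Matrix.charpoly_monic _).map _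
  have hroot : ∀ x, ρ x ∈ fR.roots.toFinset := by
    intro x
    rw [Multiset.mem_toFinset, Polynomial.mem_roots hfR.ne_zero, IsRoot, eval_map_algebraMap]
    apply Subtype.ext
    rw [aeval_subalgebra_coe]
    exact aeval_conj_charpoly _ _
  have hdeg : fR.roots.toFinset.card ≤ 4 := by
    calc fR.roots.toFinset.card ≤ Multiset.card fR.roots := Multiset.toFinset_card_le _
      _ ≤ fR.natDegree := Polynomial.card_roots' _
      _ = 4 := by
        rw [(Matrix.charpoly_monic _).natDegree_map, Matrix.charpoly_natDegree_eq_dim]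
        simp
  letI := Fintype.ofFinite (Subgroup.normalizer (Tor T z : Set (Gam T)))
  letI := Fintype.ofFinite (Gam T)
  have h1 := Finset.card_le_mul_card_image (f := ρ) Finset.univ (Nat.card (Tor T z)) (by
    intro a ha
    rw [Finset.mem_image] at ha
    obtain ⟨x₀, -, rfl⟩ := ha
    have : Nat.card (Tor T z) = (Finset.univ.filter (fun y : Gam T => y ∈ Tor T z)).card := by
      rw [Nat.card_eq_fintype_card, Fintype.card_subtype]
    rw [this]
    apply Finset.card_le_card_of_injOn
      (fun x : Subgroup.normalizer (Tor T z : Set (Gam T)) => (x₀ : Gam T)⁻¹ * (x : Gam T))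
    · intro x hx
      simp only [Finset.mem_univ, true_and, Finset.coe_filter,
        Set.mem_ofPred_eq] at hx ⊢
      have e : matG T ((x : Gam T) * z * (x : Gam T)⁻¹) =
          matG T ((x₀ : Gam T) * z * (x₀ : Gam T)⁻¹) := congrArg (fun r : R => (r : M4)) hx
      have e' := matG_injective T e
      rw [mem_Tor_iff]
      calc (x₀ : Gam T)⁻¹ * x * z = (x₀ : Gam T)⁻¹ * ((x : Gam T) * z * (x : Gam T)⁻¹) * x := by
            group
        _ = (x₀ : Gam T)⁻¹ * ((x₀ : Gam T) * z * (x₀ : Gam T)⁻¹) * x := by rw [e']
        _ = z * ((x₀ : Gam T)⁻¹ * x) := by group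
    · intro x _ y _ hxy
      exact Subtype.ext (mul_left_cancel hxy))
  rw [Finset.card_univ, ← Nat.card_eq_fintype_card] at h1
  calc Nat.card (Subgroup.normalizer (Tor T z : Set (Gam T)))
      ≤ Nat.card (Tor T z) * (Finset.univ.image ρ).card := h1
    _ ≤ Nat.card (Tor T z) * fR.roots.toFinset.card := by
        apply Nat.mul_le_mul_left
        apply Finset.card_le_card
        intro a ha
        rw [Finset.mem_image] at ha
        obtain ⟨x, -, rfl⟩ := ha
        exact hroot x
    _ ≤ Nat.card (Tor T z) * 4 := Nat.mul_le_mul_left _ hdeg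

end Cfsg.Agent.Lib.Helper3.Sz
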