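import Mathlib
import Cfsg.Agent.Lib.Helper3.Sz35

set_option autoImplicit false
set_option linter.unusedSectionVars false
set_option linter.style.haveILetI false

/-!
Suzuki groups, part 36: counting the conjugates of an exceptional torus; tori with a common prime
divisor are conjugate.
-/

namespace Cfsg.Agent.Lib.Helper3.Sz

open Matrix Polynomial
open scoped Pointwise

section generic

variable {G : Type*} [Group G] [Finite G]

/-- counting the non-identity elements of the conjugates of a TI subgroup -/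
theorem card_conj_class_mul (A : Subgroup G)
    (hTI : ∀ a ∈ A, a ≠ 1 → ∀ y : G, y * a * y⁻¹ ∈ A → y ∈ Subgroup.normalizer (A : Set G)) :
    Nat.card {x : G // x ≠ 1 ∧ ∃ y : G, y⁻¹ * x * y ∈ A} *
        Nat.card (Subgroup.normalizer (A : Set G)) = Nat.card G * (Nat.card A - 1) := by
  classical
  have hA' : Nat.card {a : A // a ≠ 1} = Nat.card A - 1 := by
    letI := Fintype.ofFinite A
    rw [Nat.card_eq_fintype_card, Nat.card_eq_fintype_card, Fintype.card_subtype_compl,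
      Fintype.card_subtype_eq]
  rw [← hA', ← Nat.card_prod, ← Nat.card_prod]
  let ys : {x : G // x ≠ 1 ∧ ∃ y : G, y⁻¹ * x * y ∈ A} → G := fun x => Classical.choose x.2.2
  have hys : ∀ x, (ys x)⁻¹ * (x : G) * ys x ∈ A := fun x => Classical.choose_spec x.2.2
  have hne : ∀ x : {x : G // x ≠ 1 ∧ ∃ y : G, y⁻¹ * x * y ∈ A},
      ∀ n : G, n⁻¹ * ((ys x)⁻¹ * (x : G) * ys x) * n ≠ 1 := by
    intro x n e
    apply x.2.1
    have : (x : G) = (ys x * n) * (n⁻¹ * ((ys x)⁻¹ * (x : G) * ys x) * n) * (ys x * n)⁻¹ := by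
      group
    rw [this, e]; group
  let Φ : {x : G // x ≠ 1 ∧ ∃ y : G, y⁻¹ * x * y ∈ A} × Subgroup.normalizer (A : Set G) →
      G × {a : A // a ≠ 1} := fun p =>
    (ys p.1 * p.2, ⟨⟨(p.2 : G)⁻¹ * ((ys p.1)⁻¹ * (p.1 : G) * ys p.1) * p.2,
      (Subgroup.mem_normalizer_iff''.mp p.2.2 _).mp (hys p.1)⟩,
      fun e => hne p.1 p.2 (congrArg Subtype.val e)⟩)
  have hrec : ∀ p, (Φ p).1 * (((Φ p).2 : A) : G) * (Φ p).1⁻¹ = p.1 := by
    intro p
    show ys p.1 * p.2 * ((p.2 : G)⁻¹ * ((ys p.1)⁻¹ * (p.1 : G) * ys p.1) * p.2) *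
      (ys p.1 * p.2)⁻¹ = p.1
    group
  apply Nat.card_congr
  apply Equiv.ofBijective Φ
  constructor
  · intro p p' hpp
    have h1 : p.1 = p'.1 := by
      apply Subtype.ext
      rw [← hrec p, ← hrec p', hpp]
    have h2 : ys p.1 * p.2 = ys p'.1 * p'.2 := congrArg Prod.fst hpp
    rw [h1] at h2
    have h3 : p.2 = p'.2 := Subtype.ext (mul_left_cancel h2)
    exact Prod.ext h1 h3
  · rintro ⟨y, ⟨⟨a, haA⟩, ha1⟩⟩
    have ha1' : a ≠ 1 := fun e => ha1 (Subtype.ext e)
    have hx : y * a * y⁻¹ ≠ 1 ∧ ∃ y' : G, y'⁻¹ * (y * a * y⁻¹) * y' ∈ A := by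
      refine ⟨?_, y, ?_⟩
      · intro e
        apply ha1'
        have : a = y⁻¹ * (y * a * y⁻¹) * y := by group
        rw [this, e]; group
      · have : y⁻¹ * (y * a * y⁻¹) * y = a := by group
        rw [this]; exact haA
    let x : {x : G // x ≠ 1 ∧ ∃ y : G, y⁻¹ * x * y ∈ A} := ⟨y * a * y⁻¹, hx⟩
    have hn : (ys x)⁻¹ * y ∈ Subgroup.normalizer (A : Set G) := by
      apply hTI a haA ha1'
      have : (ys x)⁻¹ * y * a * ((ys x)⁻¹ * y)⁻¹ = (ys x)⁻¹ * (y * a * y⁻¹) * ys x := by group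
      rw [this]
      exact hys x
    refine ⟨(x, ⟨_, hn⟩), ?_⟩
    apply Prod.ext
    · show ys x * ((ys x)⁻¹ * y) = y
      group
    · apply Subtype.ext
      apply Subtype.ext
      show ((ys x)⁻¹ * y)⁻¹ * ((ys x)⁻¹ * (y * a * y⁻¹) * ys x) * ((ys x)⁻¹ * y) = a
      group

end generic

variable {F : Type*} [Field F] [CharP F 2] {T : Tits F}

local notation "SL4" => Matrix.SpecialLinearGroup (Fin 4) F
local notation "PP" => Projectivization F (Fin 4 → F)
local notation "M4" => Matrix (Fin 4) (Fin 4) F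

/-- the class of a torus: non-identity elements conjugate into it -/
def Kcl (T : Tits F) (g : Gam T) : Set (Gam T) := {x | x ≠ 1 ∧ ∃ y : Gam T, y⁻¹ * x * y ∈ Tor T g}

theorem Fpf.card_Kcl [Fintype F] (hT : T.IsPow) {g : Gam T} (h : Fpf T g) :
    (Kcl T g).ncard * Nat.card (Subgroup.normalizer (Tor T g : Set (Gam T))) =
      Nat.card (Gam T) * (Nat.card (Tor T g) - 1) := by
  have := card_conj_class_mul (Tor T g) (fun a ha ha1 y hy => h.mem_normalizer hT ha ha1 hy)
  rw [← this]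
  rfl

/-- the index of an exceptional torus in its normaliser is 1, 2 or 4 -/
theorem Fpf.card_normalizer [Fintype F] (hT : T.IsPow) {m : ℕ}
    (hq : Nat.card F = 2 ^ (2 * m + 1)) {g : Gam T} (h : Fpf T g) :
    ∃ w : ℕ, (w = 1 ∨ w = 2 ∨ w = 4) ∧
      Nat.card (Subgroup.normalizer (Tor T g : Set (Gam T))) = w * Nat.card (Tor T g) := by
  obtain ⟨z, hI, -, -, e⟩ := h.exists_irr hT
  have e' : Tor T g = Tor T z := e
  rw [e']
  have h1 := card_normalizer_le hI
  have h2 : Nat.card (Tor T z) ∣ Nat.card (Subgroup.normalizer (Tor T z : Set (Gam T))) :=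
    Subgroup.card_dvd_of_le Subgroup.le_normalizer
  obtain ⟨w, hw⟩ := h2
  have hpos : 0 < Nat.card (Tor T z) := Nat.card_pos
  have h3 : ¬ 3 ∣ Nat.card (Gam T) := three_not_dvd_card hT hq
  have h4 : Nat.card (Subgroup.normalizer (Tor T z : Set (Gam T))) ∣ Nat.card (Gam T) :=
    Subgroup.card_subgroup_dvd_card _
  refine ⟨w, ?_, by rw [hw, mul_comm]⟩
  rw [hw] at h1 h4
  have hw4 : w ≤ 4 := Nat.le_of_mul_le_mul_left h1 hpos
  have hw0 : w ≠ 0 := by
    rintro rfl
    rw [mul_zero] at hw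
    exact (Nat.card_pos (α := Subgroup.normalizer (Tor T z : Set (Gam T)))).ne' hw
  have hw3 : w ≠ 3 := by
    rintro rfl
    exact h3 (dvd_trans (dvd_mul_left 3 _) h4)
  omega

end Cfsg.Agent.Lib.Helper3.Sz
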