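import Mathlib
import Cfsg.Agent.Lib.Helper3.Sz36

set_option autoImplicit false
set_option linter.unusedSectionVars false
set_option linter.style.haveILetI false

/-!
Suzuki groups, part 37: classes of exceptional tori.
-/

namespace Cfsg.Agent.Lib.Helper3.Sz

open Matrix Polynomial
open scoped Pointwise

variable {F : Type*} [Field F] [CharP F 2] {T : Tits F}

local notation "SL4" => Matrix.SpecialLinearGroup (Fin 4) F
local notation "PP" => Projectivization F (Fin 4 → F)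
local notation "M4" => Matrix (Fin 4) (Fin 4) F

theorem Fpf.self_mem_Kcl {g : Gam T} (h : Fpf T g) : g ∈ Kcl T g := by
  refine ⟨h.ne_one, 1, ?_⟩
  have : (1 : Gam T)⁻¹ * g * 1 = g := by group
  rw [this]
  exact self_mem_Tor g

/-- the torus of an element of the class of `g` is a conjugate of the torus of `g` -/
theorem Fpf.tor_eq_map [Fintype F] (hT : T.IsPow) {g : Gam T} (h : Fpf T g) {x y : Gam T}
    (hx1 : x ≠ 1) (hy : y⁻¹ * x * y ∈ Tor T g) :
    Fpf T x ∧ Tor T x = (Tor T g).map (MulAut.conj y).toMonoidHom := by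
  have ha1 : y⁻¹ * x * y ≠ 1 := by
    intro e
    apply hx1
    have : x = y * (y⁻¹ * x * y) * y⁻¹ := by group
    rw [this, e]; group
  have hfa := h.of_mem_centralizer hT hy ha1
  have e1 : Tor T (y⁻¹ * x * y) = Tor T g := h.centralizer_eq hT hy ha1
  have hx : x = y * (y⁻¹ * x * y) * y⁻¹ := by group
  constructor
  · rw [hx]
    exact hfa.conj y
  · ext u
    rw [Subgroup.mem_map_equiv, MulAut.conj_symm_apply, ← e1]
    conv_lhs => rw [hx]
    exact mem_Tor_conj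

theorem Fpf.of_mem_Kcl [Fintype F] (hT : T.IsPow) {g : Gam T} (h : Fpf T g) {x : Gam T}
    (hx : x ∈ Kcl T g) : Fpf T x := by
  obtain ⟨hx1, y, hy⟩ := hx
  exact (h.tor_eq_map hT hx1 hy).1

theorem Fpf.card_tor_of_mem_Kcl [Fintype F] (hT : T.IsPow) {g : Gam T} (h : Fpf T g) {x : Gam T}
    (hx : x ∈ Kcl T g) : Nat.card (Tor T x) = Nat.card (Tor T g) ∧
      Nat.card (Subgroup.normalizer (Tor T x : Set (Gam T))) =
        Nat.card (Subgroup.normalizer (Tor T g : Set (Gam T))) := by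
  obtain ⟨hx1, y, hy⟩ := hx
  obtain ⟨-, e⟩ := h.tor_eq_map hT hx1 hy
  rw [e]
  constructor
  · exact Nat.card_congr
      (Subgroup.equivMapOfInjective _ _ (MulAut.conj y).injective).symm.toEquiv
  · rw [← Subgroup.map_equiv_normalizer_eq]
    exact Nat.card_congr
      (Subgroup.equivMapOfInjective _ _ (MulAut.conj y).injective).symm.toEquiv

theorem Fpf.Kcl_eq_of_mem [Fintype F] (hT : T.IsPow) {g : Gam T} (h : Fpf T g) {x : Gam T}
    (hx : x ∈ Kcl T g) : Kcl T x = Kcl T g := by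
  obtain ⟨hx1, y, hy⟩ := hx
  obtain ⟨-, e⟩ := h.tor_eq_map hT hx1 hy
  ext u
  unfold Kcl
  simp only [Set.mem_ofPred_eq]
  rw [e]
  constructor
  · rintro ⟨hu1, y', hy'⟩
    refine ⟨hu1, y' * y, ?_⟩
    rw [Subgroup.mem_map_equiv, MulAut.conj_symm_apply] at hy'
    have : (y' * y)⁻¹ * u * (y' * y) = y⁻¹ * (y'⁻¹ * u * y') * y := by group
    rw [this]
    exact hy'
  · rintro ⟨hu1, y', hy'⟩
    refine ⟨hu1, y' * y⁻¹, ?_⟩
    rw [Subgroup.mem_map_equiv, MulAut.conj_symm_apply]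
    have : y⁻¹ * ((y' * y⁻¹)⁻¹ * u * (y' * y⁻¹)) * y = y'⁻¹ * u * y' := by group
    rw [this]
    exact hy'

/-- two classes are equal or disjoint -/
theorem Kcl_eq_of_inter [Fintype F] (hT : T.IsPow) {g₁ g₂ : Gam T} (h₁ : Fpf T g₁)
    (h₂ : Fpf T g₂) {x : Gam T} (hx1 : x ∈ Kcl T g₁) (hx2 : x ∈ Kcl T g₂) :
    Kcl T g₁ = Kcl T g₂ := by
  rw [← h₁.Kcl_eq_of_mem hT hx1, ← h₂.Kcl_eq_of_mem hT hx2]

/-- tori whose orders have a common prime divisor are conjugate -/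
theorem Fpf.mem_Kcl_of_common_prime [Fintype F] (hT : T.IsPow) {g₁ g₂ : Gam T} (h₁ : Fpf T g₁)
    (h₂ : Fpf T g₂) {p : ℕ} (hp : p.Prime) (hp1 : p ∣ Nat.card (Tor T g₁))
    (hp2 : p ∣ Nat.card (Tor T g₂)) : g₂ ∈ Kcl T g₁ := by
  have : Fact p.Prime := ⟨hp⟩
  have hq0 : 0 < Nat.card F := Nat.card_pos
  obtain ⟨hpne2, -, -, -, -⟩ :=
    prime_dvd_sq_add_one (even_card (F := F)) hq0 hp (h₁.prime_dvd hT hp hp1)
  obtain ⟨z₁, hz₁⟩ := exists_prime_orderOf_dvd_card' p hp1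
  obtain ⟨z₂, hz₂⟩ := exists_prime_orderOf_dvd_card' p hp2
  have ho1 : orderOf (z₁ : Gam T) = p := by rw [Subgroup.orderOf_coe, hz₁]
  have ho2 : orderOf (z₂ : Gam T) = p := by rw [Subgroup.orderOf_coe, hz₂]
  have hz11 : (z₁ : Gam T) ≠ 1 := by
    intro e
    rw [e, orderOf_one] at ho1
    exact hp.one_lt.ne ho1
  have hz21 : (z₂ : Gam T) ≠ 1 := by
    intro e
    rw [e, orderOf_one] at ho2
    exact hp.one_lt.ne ho2
  have hP1 : IsPGroup p (Subgroup.zpowers (z₁ : Gam T)) := by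
    apply IsPGroup.of_card (n := 1)
    rw [Nat.card_zpowers, ho1, pow_one]
  have hP2 : IsPGroup p (Subgroup.zpowers (z₂ : Gam T)) := by
    apply IsPGroup.of_card (n := 1)
    rw [Nat.card_zpowers, ho2, pow_one]
  obtain ⟨P₁, hP₁⟩ := hP1.exists_le_sylow
  obtain ⟨P₂, hP₂⟩ := hP2.exists_le_sylow
  obtain ⟨y, hy⟩ := MulAction.exists_smul_eq (Gam T) P₁ P₂
  have hz1' : y * z₁ * y⁻¹ ∈ (P₂ : Subgroup (Gam T)) := by
    rw [← hy, Sylow.coe_subgroup_smul]
    have := Subgroup.smul_mem_pointwise_smul (z₁ : Gam T) (MulAut.conj y) (P₁ : Subgroup (Gam T))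
      (hP₁ (Subgroup.mem_zpowers _))
    rwa [MulAut.smul_def, MulAut.conj_apply] at this
  have hz2' : (z₂ : Gam T) ∈ (P₂ : Subgroup (Gam T)) := hP₂ (Subgroup.mem_zpowers _)
  have hcyc : IsCyclic P₂ := isCyclic_sylow_odd T hT hpne2 P₂
  have hcomm : (y * z₁ * y⁻¹) * (z₂ : Gam T) = (z₂ : Gam T) * (y * z₁ * y⁻¹) := by
    have := (IsCyclic.isMulCommutative (α := P₂)).is_comm.comm ⟨_, hz1'⟩ ⟨_, hz2'⟩
    exact congrArg Subtype.val this
  -- now assemble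
  have e2 : Tor T (z₂ : Gam T) = Tor T g₂ := h₂.centralizer_eq hT z₂.2 hz21
  have e1 : Tor T (z₁ : Gam T) = Tor T g₁ := h₁.centralizer_eq hT z₁.2 hz11
  have hmem : y * z₁ * y⁻¹ ∈ Tor T g₂ := by
    rw [← e2, mem_Tor_iff]
    exact hcomm
  have hne : y * (z₁ : Gam T) * y⁻¹ ≠ 1 := by
    intro e
    apply hz11
    have : (z₁ : Gam T) = y⁻¹ * (y * z₁ * y⁻¹) * y := by group
    rw [this, e]; group
  have e3 : Tor T (y * z₁ * y⁻¹) = Tor T g₂ := h₂.centralizer_eq hT hmem hne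
  refine ⟨h₂.ne_one, y, ?_⟩
  rw [← e1, ← mem_Tor_conj, e3]
  exact self_mem_Tor g₂

end Cfsg.Agent.Lib.Helper3.Sz
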