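import Mathlib
import Cfsg.Agent.Lib.Helper3.Sz37

set_option autoImplicit false
set_option linter.unusedSectionVars false
set_option linter.style.haveILetI false

/-!
Suzuki groups, part 38: the class equation for the exceptional tori.
-/

namespace Cfsg.Agent.Lib.Helper3.Sz

section arith

/-- E1 -/
theorem arith_class_lower {G k w t : ℕ} (h : k * (w * t) = G * (t - 1)) (hw : w ≤ 4) (ht : 5 ≤ t) :
    G ≤ 5 * k := by
  obtain ⟨v, rfl⟩ : ∃ v, t = v + 1 := ⟨t - 1, by omega⟩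
  simp only [Nat.add_sub_cancel] at h
  by_contra hlt
  push Not at hlt
  have h1 : k * (w * (v + 1)) ≤ k * (4 * (v + 1)) :=
    Nat.mul_le_mul_left _ (Nat.mul_le_mul_right _ hw)
  nlinarith

/-- E1' -/
theorem arith_class_lower' {G k w t : ℕ} (h : k * (w * t) = G * (t - 1)) (hw : w ≤ 2)
    (ht : 5 ≤ t) : 2 * G ≤ 5 * k := by
  obtain ⟨v, rfl⟩ : ∃ v, t = v + 1 := ⟨t - 1, by omega⟩
  simp only [Nat.add_sub_cancel] at h
  by_contra hlt
  push Not at hlt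
  have h1 : k * (w * (v + 1)) ≤ k * (2 * (v + 1)) :=
    Nat.mul_le_mul_left _ (Nat.mul_le_mul_right _ hw)
  nlinarith

/-- E3 -/
theorem arith_total_lt {q n G : ℕ} (hq : 2 ≤ q) (hn : 2 * n = q ^ 3 * (q - 1) ^ 2)
    (hG : G = (q ^ 2 + 1) * (q ^ 2 * (q - 1))) : 5 * n < 3 * G := by
  obtain ⟨u, rfl⟩ : ∃ u, q = u + 1 := ⟨q - 1, by omega⟩
  simp only [Nat.add_sub_cancel] at hn hG
  have hu : 1 ≤ u := by omega
  have h1 : 0 < (u + 1) ^ 2 * u := by positivity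
  have h2 : 5 * ((u + 1) * u) < 6 * ((u + 1) ^ 2 + 1) := by nlinarith
  have h3 : 10 * n < 6 * G := by
    rw [hG]
    calc 10 * n = 5 * (2 * n) := by ring
      _ = (5 * ((u + 1) * u)) * ((u + 1) ^ 2 * u) := by rw [hn]; ring
      _ < (6 * ((u + 1) ^ 2 + 1)) * ((u + 1) ^ 2 * u) := Nat.mul_lt_mul_of_pos_right h2 h1
      _ = 6 * (((u + 1) ^ 2 + 1) * ((u + 1) ^ 2 * u)) := by ring
  omega

/-- E4: a single class is impossible -/
theorem arith_single_class {q k w t G : ℕ} (hq : 8 ≤ q) (ht : 5 ≤ t) (htd : t ∣ q ^ 2 + 1)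
    (hw : w = 1 ∨ w = 2 ∨ w = 4) (h : k * (w * t) = G * (t - 1))
    (hk : 2 * k = q ^ 3 * (q - 1) ^ 2) (hG : G = (q ^ 2 + 1) * (q ^ 2 * (q - 1))) : False := by
  obtain ⟨s, hs⟩ := htd
  have hq1 : 1 ≤ q := by omega
  have ht1 : 1 ≤ t := by omega
  -- move to ℤ
  have hZ : (k : ℤ) * (w * t) = (G : ℤ) * ((t : ℤ) - 1) := by
    have := congrArg (fun n : ℕ => (n : ℤ)) h
    simp only [Nat.cast_mul] at this
    rw [this, Nat.cast_sub ht1]; simp
  have hkZ : 2 * (k : ℤ) = (q : ℤ) ^ 3 * ((q : ℤ) - 1) ^ 2 := by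
    have := congrArg (fun n : ℕ => (n : ℤ)) hk
    simp only [Nat.cast_mul, Nat.cast_pow] at this
    rw [Nat.cast_sub hq1] at this
    simpa using this
  have hGZ : (G : ℤ) = ((q : ℤ) ^ 2 + 1) * ((q : ℤ) ^ 2 * ((q : ℤ) - 1)) := by
    have := congrArg (fun n : ℕ => (n : ℤ)) hG
    simp only [Nat.cast_mul, Nat.cast_pow, Nat.cast_add] at this
    rw [Nat.cast_sub hq1] at this
    simpa using this
  have hsZ : (q : ℤ) ^ 2 + 1 = t * s := by exact_mod_cast hs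
  have hqpos : (0 : ℤ) < (q : ℤ) ^ 2 * ((q : ℤ) - 1) := by
    have h8 : (8 : ℤ) ≤ q := by exact_mod_cast hq
    have h9 : (0 : ℤ) < (q : ℤ) - 1 := by linarith
    have h10 : (0 : ℤ) < (q : ℤ) := by linarith
    exact mul_pos (pow_pos h10 2) h9
  have htpos : (0 : ℤ) < t := by exact_mod_cast (show 0 < t by omega)
  -- cancel
  have h1 : (q : ℤ) * ((q : ℤ) - 1) * w * t = 2 * ((q : ℤ) ^ 2 + 1) * ((t : ℤ) - 1) := by
    apply mul_left_cancel₀ hqpos.ne'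
    rw [hGZ] at hZ
    linear_combination (-(w : ℤ) * t) * hkZ + 2 * hZ
  have h2 : (q : ℤ) * ((q : ℤ) - 1) * w = 2 * ((q : ℤ) ^ 2 + 1) - 2 * s := by
    apply mul_left_cancel₀ htpos.ne'
    linear_combination h1 - 2 * hsZ
  have hq8 : (8 : ℤ) ≤ q := by exact_mod_cast hq
  have ht5 : (5 : ℤ) ≤ t := by exact_mod_cast ht
  have hs0 : (0 : ℤ) ≤ s := by positivity
  have hs1 : (1 : ℤ) ≤ s := by
    rcases Nat.eq_zero_or_pos s with h0 | h0
    · rw [h0] at hs; omega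
    · exact_mod_cast h0
  rcases hw with rfl | rfl | rfl
  · -- w = 1
    have : 5 * (s : ℤ) ≤ (q : ℤ) ^ 2 + 1 := by rw [hsZ]; nlinarith
    push_cast at h2
    nlinarith
  · -- w = 2
    push_cast at h2
    have hs' : (s : ℤ) = q + 1 := by linarith
    rw [hs'] at hsZ
    rcases le_or_gt (t : ℤ) ((q : ℤ) - 1) with h3 | h3
    · nlinarith
    · have : (q : ℤ) ≤ t := by linarith
      nlinarith
  · -- w = 4
    push_cast at h2
    nlinarith

/-- E5: two classes -/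
theorem arith_two_classes {q r k₁ k₂ t₁ t₂ G : ℕ} (hq : 8 ≤ q) (hqr : q = 2 * r ^ 2)
    (ht₁ : 5 ≤ t₁) (ht₂ : 5 ≤ t₂)
    (htd₁ : t₁ ∣ q ^ 2 + 1) (htd₂ : t₂ ∣ q ^ 2 + 1) (hco : Nat.Coprime t₁ t₂)
    (h₁ : k₁ * (4 * t₁) = G * (t₁ - 1)) (h₂ : k₂ * (4 * t₂) = G * (t₂ - 1))
    (hk : 2 * (k₁ + k₂) = q ^ 3 * (q - 1) ^ 2) (hG : G = (q ^ 2 + 1) * (q ^ 2 * (q - 1))) :
    (t₁ = q + 2 * r + 1 ∧ t₂ + 2 * r = q + 1) ∨ (t₂ = q + 2 * r + 1 ∧ t₁ + 2 * r = q + 1) := by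
  have hq1 : 1 ≤ q := by omega
  have ht11 : 1 ≤ t₁ := by omega
  have ht21 : 1 ≤ t₂ := by omega
  obtain ⟨c, hc⟩ := hco.mul_dvd_of_dvd_of_dvd htd₁ htd₂
  -- move to ℤ
  have hZ₁ : (k₁ : ℤ) * (4 * t₁) = (G : ℤ) * ((t₁ : ℤ) - 1) := by
    have := congrArg (fun n : ℕ => (n : ℤ)) h₁
    simp only [Nat.cast_mul, Nat.cast_ofNat] at this
    rw [this, Nat.cast_sub ht11]; simp
  have hZ₂ : (k₂ : ℤ) * (4 * t₂) = (G : ℤ) * ((t₂ : ℤ) - 1) := by
    have := congrArg (fun n : ℕ => (n : ℤ)) h₂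
    simp only [Nat.cast_mul, Nat.cast_ofNat] at this
    rw [this, Nat.cast_sub ht21]; simp
  have hkZ : 2 * ((k₁ : ℤ) + k₂) = (q : ℤ) ^ 3 * ((q : ℤ) - 1) ^ 2 := by
    have := congrArg (fun n : ℕ => (n : ℤ)) hk
    simp only [Nat.cast_mul, Nat.cast_pow, Nat.cast_add] at this
    rw [Nat.cast_sub hq1] at this
    simpa using this
  have hGZ : (G : ℤ) = ((q : ℤ) ^ 2 + 1) * ((q : ℤ) ^ 2 * ((q : ℤ) - 1)) := by
    have := congrArg (fun n : ℕ => (n : ℤ)) hG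
    simp only [Nat.cast_mul, Nat.cast_pow, Nat.cast_add] at this
    rw [Nat.cast_sub hq1] at this
    simpa using this
  have hqpos : (0 : ℤ) < (q : ℤ) ^ 2 * ((q : ℤ) - 1) := by
    have h8 : (8 : ℤ) ≤ q := by exact_mod_cast hq
    have h9 : (0 : ℤ) < (q : ℤ) - 1 := by linarith
    have h10 : (0 : ℤ) < (q : ℤ) := by linarith
    exact mul_pos (pow_pos h10 2) h9
  rw [hGZ] at hZ₁ hZ₂
  -- E5a
  have hE : ((q : ℤ) ^ 2 + 1) * ((t₁ : ℤ) + t₂) = 2 * (t₁ * t₂) * ((q : ℤ) + 1) := by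
    apply mul_left_cancel₀ hqpos.ne'
    linear_combination (-2 * (t₁ : ℤ) * t₂) * hkZ + (t₂ : ℤ) * hZ₁ + (t₁ : ℤ) * hZ₂
  -- back to ℕ
  have hE' : (q ^ 2 + 1) * (t₁ + t₂) = 2 * (t₁ * t₂) * (q + 1) := by exact_mod_cast hE
  rw [hc] at hE'
  have htt : 0 < t₁ * t₂ := by positivity
  have hE2 : c * (t₁ + t₂) = 2 * (q + 1) := by
    apply Nat.eq_of_mul_eq_mul_left htt
    rw [← mul_assoc, hE']; ring
  -- c is odd
  have hqeven : Even q := ⟨r ^ 2, by rw [hqr]; ring⟩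
  have hNodd : ¬ 2 ∣ q ^ 2 + 1 := by
    obtain ⟨a, ha⟩ := hqeven
    rw [ha]
    intro h
    have : (a + a) ^ 2 + 1 = 2 * (2 * a ^ 2) + 1 := by ring
    omega
  have hcN : c ∣ q ^ 2 + 1 := ⟨t₁ * t₂, by rw [hc]; ring⟩
  have hc2 : Nat.Coprime c 2 := by
    rw [Nat.coprime_comm, Nat.Prime.coprime_iff_not_dvd Nat.prime_two]
    intro h
    exact hNodd (dvd_trans h hcN)
  have hcq : c ∣ q + 1 := by
    have : c ∣ 2 * (q + 1) := ⟨_, hE2.symm⟩
    exact hc2.dvd_of_dvd_mul_left this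
  have hc2' : c ∣ 2 := by
    have h3 : c ∣ (q + 1) * (q - 1) := dvd_mul_of_dvd_left hcq _
    have h4 : q ^ 2 + 1 - (q + 1) * (q - 1) = 2 := by
      obtain ⟨u, rfl⟩ : ∃ u, q = u + 1 := ⟨q - 1, by omega⟩
      simp only [Nat.add_sub_cancel]
      have : (u + 1) ^ 2 + 1 = (u + 1 + 1) * u + 2 := by ring
      omega
    rw [← h4]
    exact Nat.dvd_sub hcN h3
  have hc1 : c = 1 := by
    have : c ≤ 2 := Nat.le_of_dvd (by norm_num) hc2'
    interval_cases c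
    · simp at hc2'
    · rfl
    · exact absurd hcN hNodd
  subst hc1
  rw [one_mul] at hE2
  rw [mul_one] at hc
  -- now solve the quadratic
  have hs : ((t₁ : ℤ) - t₂) ^ 2 = (4 * (r : ℤ)) ^ 2 := by
    have e1 : ((t₁ : ℤ) + t₂) = 2 * ((q : ℤ) + 1) := by exact_mod_cast hE2
    have e2 : (q : ℤ) ^ 2 + 1 = t₁ * t₂ := by exact_mod_cast hc
    have e3 : (q : ℤ) = 2 * (r : ℤ) ^ 2 := by exact_mod_cast hqr
    have : ((t₁ : ℤ) - t₂) ^ 2 = ((t₁ : ℤ) + t₂) ^ 2 - 4 * (t₁ * t₂) := by ring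
    rw [this, e1, ← e2]
    linear_combination 8 * e3
  rcases sq_eq_sq_iff_eq_or_eq_neg.mp hs with h | h
  · left
    have e1 : ((t₁ : ℤ) + t₂) = 2 * ((q : ℤ) + 1) := by exact_mod_cast hE2
    constructor
    · have : (t₁ : ℤ) = q + 2 * r + 1 := by linarith
      exact_mod_cast this
    · have : (t₂ : ℤ) + 2 * r = q + 1 := by linarith
      exact_mod_cast this
  · right
    have e1 : ((t₁ : ℤ) + t₂) = 2 * ((q : ℤ) + 1) := by exact_mod_cast hE2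
    constructor
    · have : (t₂ : ℤ) = q + 2 * r + 1 := by linarith
      exact_mod_cast this
    · have : (t₁ : ℤ) + 2 * r = q + 1 := by linarith
      exact_mod_cast this

end arith

open Matrix Polynomial
open scoped Pointwise

variable {F : Type*} [Field F] [CharP F 2] {T : Tits F}

local notation "SL4" => Matrix.SpecialLinearGroup (Fin 4) F
local notation "PP" => Projectivization F (Fin 4 → F)
local notation "M4" => Matrix (Fin 4) (Fin 4) F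

theorem Kcl_subset [Fintype F] (hT : T.IsPow) {g : Gam T} (h : Fpf T g) :
    Kcl T g ⊆ {x | Fpf T x} := fun _ hx => h.of_mem_Kcl hT hx

theorem two_mul_ncard_fpf [Fintype F] (hT : T.IsPow) :
    2 * ({x | Fpf T x} : Set (Gam T)).ncard = Nat.card F ^ 3 * (Nat.card F - 1) ^ 2 := by
  rw [← two_mul_card_fpf T hT]
  rfl

/-- the class data of a fixed-point-free element -/
theorem Fpf.class_data [Fintype F] (hT : T.IsPow) {m : ℕ}
    (hq : Nat.card F = 2 ^ (2 * m + 1)) {g : Gam T} (h : Fpf T g) :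
    ∃ w : ℕ, (w = 1 ∨ w = 2 ∨ w = 4) ∧
      Nat.card (Subgroup.normalizer (Tor T g : Set (Gam T))) = w * Nat.card (Tor T g) ∧
      (Kcl T g).ncard * (w * Nat.card (Tor T g)) = Nat.card (Gam T) * (Nat.card (Tor T g) - 1) := by
  obtain ⟨w, hw, e⟩ := h.card_normalizer hT hq
  refine ⟨w, hw, e, ?_⟩
  rw [← e]
  exact h.card_Kcl hT

theorem Fpf.card_le_five_mul [Fintype F] (hT : T.IsPow) {m : ℕ}
    (hq : Nat.card F = 2 ^ (2 * m + 1)) {g : Gam T} (h : Fpf T g) :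
    Nat.card (Gam T) ≤ 5 * (Kcl T g).ncard := by
  obtain ⟨w, hw, -, e⟩ := h.class_data hT hq
  exact arith_class_lower e (by omega) (h.five_le_card hT hq)

end Cfsg.Agent.Lib.Helper3.Sz
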