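import Mathlib
import Cfsg.Agent.Lib.Helper3.Sz38

set_option autoImplicit false
set_option linter.unusedSectionVars false
set_option linter.style.haveILetI false

/-!
Suzuki groups, part 39: there are exactly two classes of exceptional tori, of orders
`q + 2r + 1` and `q - 2r + 1`, each of index four in its normaliser.
-/

namespace Cfsg.Agent.Lib.Helper3.Sz

open Matrix Polynomial
open scoped Pointwise

variable {F : Type*} [Field F] [CharP F 2] {T : Tits F}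

local notation "SL4" => Matrix.SpecialLinearGroup (Fin 4) F
local notation "PP" => Projectivization F (Fin 4 → F)
local notation "M4" => Matrix (Fin 4) (Fin 4) F

theorem fpf_classes [Fintype F] (hT : T.IsPow) {m : ℕ} (hm : 1 ≤ m)
    (hq : Nat.card F = 2 ^ (2 * m + 1)) :
    ∃ g₁ g₂ : Gam T, Fpf T g₁ ∧ Fpf T g₂ ∧
      Nat.card (Tor T g₁) = 2 ^ (2 * m + 1) + 2 ^ (m + 1) + 1 ∧
      Nat.card (Tor T g₂) + 2 ^ (m + 1) = 2 ^ (2 * m + 1) + 1 ∧
      Nat.card (Subgroup.normalizer (Tor T g₁ : Set (Gam T))) = 4 * Nat.card (Tor T g₁) ∧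
      Nat.card (Subgroup.normalizer (Tor T g₂ : Set (Gam T))) = 4 * Nat.card (Tor T g₂) ∧
      ∀ g, Fpf T g → g ∈ Kcl T g₁ ∨ g ∈ Kcl T g₂ := by
  classical
  have hq8 : 8 ≤ Nat.card F := by
    rw [hq]
    calc 8 = 2 ^ 3 := by norm_num
      _ ≤ 2 ^ (2 * m + 1) := Nat.pow_le_pow_right (by norm_num) (by omega)
  have hn := two_mul_ncard_fpf (T := T) hT
  have hG := card_Gam T hT
  have hlt : 5 * ({x | Fpf T x} : Set (Gam T)).ncard < 3 * Nat.card (Gam T) :=
    arith_total_lt (by omega) hn hG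
  have hfin : ({x | Fpf T x} : Set (Gam T)).Finite := Set.toFinite _
  -- nonempty
  have hne : ({x | Fpf T x} : Set (Gam T)).Nonempty := by
    apply Set.nonempty_of_ncard_ne_zero
    intro h0
    rw [h0] at hn
    have h1 : 0 < Nat.card F ^ 3 := by positivity
    have h2 : 0 < (Nat.card F - 1) ^ 2 := by
      apply pow_pos
      omega
    have := Nat.mul_pos h1 h2
    omega
  obtain ⟨g₁, hg₁'⟩ := hne
  have hg₁ : Fpf T g₁ := hg₁'
  obtain ⟨w₁, hw₁, hN₁, hK₁⟩ := hg₁.class_data hT hq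
  have hsub₁ := Kcl_subset hT hg₁
  have hne₁ : ∃ g₂, Fpf T g₂ ∧ g₂ ∉ Kcl T g₁ := by
    by_contra hcon
    push Not at hcon
    have heq : Kcl T g₁ = {x | Fpf T x} := Set.Subset.antisymm hsub₁ (fun x hx => hcon x hx)
    rw [heq] at hK₁
    exact arith_single_class hq8 (hg₁.five_le_card hT hq) (hg₁.card_dvd hT) hw₁ hK₁ hn hG
  obtain ⟨g₂, hg₂, hg₂n⟩ := hne₁
  obtain ⟨w₂, hw₂, hN₂, hK₂⟩ := hg₂.class_data hT hq
  have hsub₂ := Kcl_subset hT hg₂
  have hdisj : Disjoint (Kcl T g₁) (Kcl T g₂) := by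
    rw [Set.disjoint_left]
    intro x hx1 hx2
    have := Kcl_eq_of_inter hT hg₁ hg₂ hx1 hx2
    exact hg₂n (this ▸ hg₂.self_mem_Kcl)
  have hcard12 : (Kcl T g₁).ncard + (Kcl T g₂).ncard ≤ ({x | Fpf T x} : Set (Gam T)).ncard := by
    rw [← Set.ncard_union_eq hdisj]
    exact Set.ncard_le_ncard (Set.union_subset hsub₁ hsub₂) hfin
  have a1 := hg₁.card_le_five_mul hT hq
  have a2 := hg₂.card_le_five_mul hT hq
  -- cover
  have hcover : ∀ g, Fpf T g → g ∈ Kcl T g₁ ∨ g ∈ Kcl T g₂ := by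
    intro g₃ hg₃
    by_contra hcon
    push Not at hcon
    have hd13 : Disjoint (Kcl T g₁) (Kcl T g₃) := by
      rw [Set.disjoint_left]
      intro x hx1 hx2
      have := Kcl_eq_of_inter hT hg₁ hg₃ hx1 hx2
      exact hcon.1 (this ▸ hg₃.self_mem_Kcl)
    have hd23 : Disjoint (Kcl T g₂) (Kcl T g₃) := by
      rw [Set.disjoint_left]
      intro x hx1 hx2
      have := Kcl_eq_of_inter hT hg₂ hg₃ hx1 hx2
      exact hcon.2 (this ▸ hg₃.self_mem_Kcl)
    have hsub₃ := Kcl_subset hT hg₃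
    have h3 : (Kcl T g₁).ncard + (Kcl T g₂).ncard + (Kcl T g₃).ncard ≤
        ({x | Fpf T x} : Set (Gam T)).ncard := by
      rw [← Set.ncard_union_eq hdisj,
        ← Set.ncard_union_eq (Set.disjoint_union_left.mpr ⟨hd13, hd23⟩)]
      exact Set.ncard_le_ncard (Set.union_subset (Set.union_subset hsub₁ hsub₂) hsub₃) hfin
    have a3 := hg₃.card_le_five_mul hT hq
    omega
  have hw₁4 : w₁ = 4 := by
    by_contra hne4
    have hw : w₁ ≤ 2 := by omega
    have b1 := arith_class_lower' hK₁ hw (hg₁.five_le_card hT hq)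
    omega
  have hw₂4 : w₂ = 4 := by
    by_contra hne4
    have hw : w₂ ≤ 2 := by omega
    have b1 := arith_class_lower' hK₂ hw (hg₂.five_le_card hT hq)
    omega
  subst hw₁4 hw₂4
  have hsum : (Kcl T g₁).ncard + (Kcl T g₂).ncard = ({x | Fpf T x} : Set (Gam T)).ncard := by
    rw [← Set.ncard_union_eq hdisj]
    congr 1
    apply Set.Subset.antisymm (Set.union_subset hsub₁ hsub₂)
    intro x hx
    exact hcover x hx
  have hco : Nat.Coprime (Nat.card (Tor T g₁)) (Nat.card (Tor T g₂)) := by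
    apply Nat.coprime_of_dvd
    intro p hp h1 h2
    exact hg₂n (hg₁.mem_Kcl_of_common_prime hT hg₂ hp h1 h2)
  have hqr : Nat.card F = 2 * (2 ^ m) ^ 2 := by rw [hq]; ring
  have hk : 2 * ((Kcl T g₁).ncard + (Kcl T g₂).ncard) =
      Nat.card F ^ 3 * (Nat.card F - 1) ^ 2 := by rw [hsum]; exact hn
  have h2r : 2 * 2 ^ m = 2 ^ (m + 1) := by ring
  rcases arith_two_classes hq8 hqr (hg₁.five_le_card hT hq) (hg₂.five_le_card hT hq)
    (hg₁.card_dvd hT) (hg₂.card_dvd hT) hco hK₁ hK₂ hk hG with ⟨e1, e2⟩ | ⟨e1, e2⟩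
  · refine ⟨g₁, g₂, hg₁, hg₂, ?_, ?_, hN₁, hN₂, hcover⟩
    · rw [e1, hq, h2r]
    · rw [← h2r, e2, hq]
  · refine ⟨g₂, g₁, hg₂, hg₁, ?_, ?_, hN₂, hN₁, fun g hg => (hcover g hg).symm⟩
    · rw [e1, hq, h2r]
    · rw [← h2r, e2, hq]

end Cfsg.Agent.Lib.Helper3.Sz
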