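import Mathlib
import Cfsg.Agent.Lib.Helper3.Sz39

set_option autoImplicit false
set_option linter.unusedSectionVars false
set_option linter.style.haveILetI false

/-!
Suzuki groups, part 40: the exceptional cyclic subgroups.
-/

namespace Cfsg.Agent.Lib.Helper3.Sz

open Matrix Polynomial
open scoped Pointwise

variable {F : Type*} [Field F] [CharP F 2] {T : Tits F}

local notation "SL4" => Matrix.SpecialLinearGroup (Fin 4) F
local notation "PP" => Projectivization F (Fin 4 → F)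
local notation "M4" => Matrix (Fin 4) (Fin 4) F

theorem two_pow_succ_le (m : ℕ) : 2 ^ (m + 1) ≤ 2 ^ (2 * m + 1) :=
  Nat.pow_le_pow_right (by norm_num) (by omega)

theorem exceptional_of_eq [Fintype F] (hT : T.IsPow) {m : ℕ} (hm : 1 ≤ m)
    (hq : Nat.card F = 2 ^ (2 * m + 1)) (O : Set PP) (hO : O = ovoid T) :
    ∀ k ∈ ({2 ^ (2 * m + 1) + 2 ^ (m + 1) + 1, 2 ^ (2 * m + 1) - 2 ^ (m + 1) + 1} : Set ℕ),
      ∃ U : Subgroup (MulAction.stabilizer SL4 O), IsCyclic U ∧ Nat.card U = k ∧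
        (∀ u ∈ U, u ≠ 1 → Subgroup.centralizer {u} = U) ∧
        Nat.card (Subgroup.normalizer (U : Set (MulAction.stabilizer SL4 O))) = 4 * k := by
  subst hO
  obtain ⟨g₁, g₂, hg₁, hg₂, e1, e2, n1, n2, -⟩ := fpf_classes hT hm hq
  intro k hk
  rcases hk with rfl | hk
  · exact ⟨Tor T g₁, hg₁.isCyclic_centralizer hT, e1,
      fun u hu hu1 => hg₁.centralizer_eq hT hu hu1, by rw [n1, e1]⟩
  · rw [Set.mem_singleton_iff] at hk
    subst hk
    have hle := two_pow_succ_le m
    have e2' : Nat.card (Tor T g₂) = 2 ^ (2 * m + 1) - 2 ^ (m + 1) + 1 := by omega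
    exact ⟨Tor T g₂, hg₂.isCyclic_centralizer hT, e2',
      fun u hu hu1 => hg₂.centralizer_eq hT hu hu1, by rw [n2, e2']⟩

end Cfsg.Agent.Lib.Helper3.Sz
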