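import Mathlib
import Cfsg.Agent.Lib.Helper3.Sz40

set_option autoImplicit false
set_option linter.unusedSectionVars false
set_option linter.style.haveILetI false

/-!
Suzuki groups, part 41: the partition of the Suzuki group.
-/

namespace Cfsg.Agent.Lib.Helper3.Sz

open Matrix Polynomial
open scoped Pointwise

section arith

theorem arith_partition_aux {m : ℕ} (hm : 1 ≤ m) :
    (2 ^ (m + 1)) * (2 ^ (m + 1)) = 2 * 2 ^ (2 * m + 1) ∧ 4 ≤ 2 ^ (m + 1) ∧
      2 * 2 ^ (m + 1) ≤ 2 ^ (2 * m + 1) := by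
  have h1 : (2 ^ (m + 1)) * (2 ^ (m + 1)) = 2 * 2 ^ (2 * m + 1) := by ring
  have h2 : 4 ≤ 2 ^ (m + 1) := by
    calc 4 = 2 ^ 2 := by norm_num
      _ ≤ 2 ^ (m + 1) := Nat.pow_le_pow_right (by norm_num) (by omega)
  refine ⟨h1, h2, ?_⟩
  nlinarith

theorem arith_partition_odd {m : ℕ} (hm : 1 ≤ m) {c : ℕ}
    (hc : c ∈ ({2 ^ (2 * m + 1) - 1, 2 ^ (2 * m + 1) + 2 ^ (m + 1) + 1,
      2 ^ (2 * m + 1) - 2 ^ (m + 1) + 1} : Set ℕ)) : ¬ 2 ∣ c ∧ 5 ≤ c := by
  obtain ⟨h1, h2, h3⟩ := arith_partition_aux hm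
  have e1 : 2 ^ (2 * m + 1) = 2 * 2 ^ (2 * m) := by ring
  have e2 : 2 ^ (m + 1) = 2 * 2 ^ m := by ring
  have e3 : 1 ≤ 2 ^ (2 * m) := Nat.one_le_two_pow
  have e4 : 1 ≤ 2 ^ m := Nat.one_le_two_pow
  rcases hc with rfl | rfl | hc
  · omega
  · omega
  · rw [Set.mem_singleton_iff] at hc
    subst hc
    omega

theorem arith_partition {m : ℕ} (hm : 1 ≤ m) {c c' : ℕ}
    (hc : c ∈ ({2 ^ (2 * m + 1) - 1, 2 ^ (2 * m + 1) + 2 ^ (m + 1) + 1,
      2 ^ (2 * m + 1) - 2 ^ (m + 1) + 1} : Set ℕ))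
    (hc' : c' ∈ ({2 ^ (2 * m + 1) - 1, 2 ^ (2 * m + 1) + 2 ^ (m + 1) + 1,
      2 ^ (2 * m + 1) - 2 ^ (m + 1) + 1} : Set ℕ)) (hd : c' ∣ c) : c' = c := by
  obtain ⟨h1, h2, h3⟩ := arith_partition_aux hm
  have ho := fun c hc => (arith_partition_odd hm (c := c) hc)
  set q := 2 ^ (2 * m + 1) with hq
  set s := 2 ^ (m + 1) with hs
  have hA := ho (q - 1) (by simp)
  have hB := ho (q + s + 1) (by simp)
  have hC := ho (q - s + 1) (by simp)
  have hBC : (q + s + 1) * (q - s + 1) = (q - 1) * (q + 1) + 2 := by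
    obtain ⟨d, hd⟩ : ∃ d, q = s + d := ⟨q - s, by omega⟩
    have h1' : s * s = 2 * (s + d) := by rw [← hd]; exact h1
    rw [hd]
    have e1 : s + d - s = d := by omega
    have e2 : s + d - 1 = s + d - 1 := rfl
    rw [e1]
    obtain ⟨e, he⟩ : ∃ e, s + d = e + 1 := ⟨s + d - 1, by omega⟩
    rw [he] at h1' ⊢
    simp only [Nat.add_sub_cancel]
    have hd' : d + 1 = e + 2 - s := by omega
    nlinarith [h1', he]
  have cA2 : Nat.Coprime (q - 1) 2 := by
    rw [Nat.coprime_comm, Nat.Prime.coprime_iff_not_dvd Nat.prime_two]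
    exact hA.1
  have cABC : Nat.Coprime (q - 1) ((q + s + 1) * (q - s + 1)) := by
    rw [hBC, add_comm]
    exact (Nat.coprime_add_mul_left_right (q - 1) 2 (q + 1)).mpr cA2
  have cAB : Nat.Coprime (q - 1) (q + s + 1) := cABC.coprime_mul_right_right
  have cAC : Nat.Coprime (q - 1) (q - s + 1) := cABC.coprime_mul_left_right
  have cC2 : Nat.Coprime (q - s + 1) 2 := by
    rw [Nat.coprime_comm, Nat.Prime.coprime_iff_not_dvd Nat.prime_two]
    exact hC.1
  have cCB : Nat.Coprime (q - s + 1) (q + s + 1) := by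
    have e : q + s + 1 = (q - s + 1) + 2 ^ (m + 2) := by
      have : 2 ^ (m + 2) = 2 * s := by rw [hs]; ring
      omega
    rw [e]
    rw [Nat.coprime_self_add_right]
    exact cC2.pow_right _
  rcases hc with rfl | rfl | hc
  · rcases hc' with rfl | rfl | hc'
    · rfl
    · exact absurd (cAB.symm.eq_one_of_dvd hd) (by omega)
    · rw [Set.mem_singleton_iff] at hc'
      subst hc'
      exact absurd (cAC.symm.eq_one_of_dvd hd) (by omega)
  · rcases hc' with rfl | rfl | hc'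
    · exact absurd (cAB.eq_one_of_dvd hd) (by omega)
    · rfl
    · rw [Set.mem_singleton_iff] at hc'
      subst hc'
      exact absurd (cCB.eq_one_of_dvd hd) (by omega)
  · rw [Set.mem_singleton_iff] at hc
    subst hc
    rcases hc' with rfl | rfl | hc'
    · exact absurd (cAC.eq_one_of_dvd hd) (by omega)
    · exact absurd (cCB.symm.eq_one_of_dvd hd) (by omega)
    · rw [Set.mem_singleton_iff] at hc'
      subst hc'
      rfl

end arith

variable {F : Type*} [Field F] [CharP F 2] {T : Tits F}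

local notation "SL4" => Matrix.SpecialLinearGroup (Fin 4) F
local notation "PP" => Projectivization F (Fin 4 → F)
local notation "M4" => Matrix (Fin 4) (Fin 4) F

theorem tor_conj_eq_map (a y : Gam T) :
    Tor T (y * a * y⁻¹) = (Tor T a).map (MulAut.conj y).toMonoidHom := by
  ext u
  rw [Subgroup.mem_map_equiv, MulAut.conj_symm_apply]
  exact mem_Tor_conj

/-- a commutative subgroup containing `g` lies in the centraliser of `g` -/
theorem le_Tor_of_isCyclic {U : Subgroup (Gam T)} (hU : IsCyclic U) {g : Gam T} (hg : g ∈ U) :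
    U ≤ Tor T g := by
  intro u hu
  rw [mem_Tor_iff]
  have := (IsCyclic.isMulCommutative (α := U)).is_comm.comm ⟨u, hu⟩ ⟨g, hg⟩
  exact congrArg Subtype.val this

theorem eq_of_le_of_card_eq {G : Type*} [Group G] [Finite G] {U V : Subgroup G} (h : U ≤ V)
    (hc : Nat.card U = Nat.card V) : U = V :=
  Subgroup.eq_of_le_of_card_ge h hc.ge

/-- the torus is the centraliser of each of its non-identity elements -/
theorem tor_hG [Fintype F] (hT : T.IsPow) {k : Fˣ} (hk : k ≠ 1) :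
    Tor T (hG T k) = (torusHom T).range := by
  apply le_antisymm (centralizer_hG_le T hT hk)
  rintro _ ⟨l, rfl⟩
  rw [mem_Tor_iff]
  show hG T l * hG T k = hG T k * hG T l
  rw [hG_mul, hG_mul, mul_comm]

theorem card_torus_range [Fintype F] : Nat.card (torusHom T).range = Nat.card F - 1 := by
  rw [Nat.card_congr (MonoidHom.ofInjective (torusHom_injective T)).symm.toEquiv, Nat.card_units]

/-- Sylow 2-subgroups are TI -/
theorem sylow_two_eq_of_mem [Fintype F] (hT : T.IsPow) {P Q : Sylow 2 (Gam T)} {g : Gam T}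
    (hg : g ≠ 1) (hP : g ∈ P) (hQ : g ∈ Q) : P = Q := by
  obtain ⟨x, hx⟩ := exists_conj_sylow T hT P
  obtain ⟨y, hy⟩ := exists_conj_sylow T hT Q
  have hP' : g ∈ (P : Subgroup (Gam T)) := hP
  have hQ' : g ∈ (Q : Subgroup (Gam T)) := hQ
  rw [hx, Subgroup.mem_map_equiv, MulAut.conj_symm_apply] at hP'
  rw [hy, Subgroup.mem_map_equiv, MulAut.conj_symm_apply] at hQ'
  obtain ⟨a, b, hab⟩ := hP'
  obtain ⟨c, d, hcd⟩ := hQ'
  -- `g` fixes `x • ∞`, and only that point
  have hne : ¬ (c = 0 ∧ d = 0) := by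
    rintro ⟨rfl, rfl⟩
    rw [uG_zero] at hcd
    apply hg
    have : g = y * (y⁻¹ * g * y) * y⁻¹ := by group
    rw [this, hcd]; group
  have hfix : g • (x • oInf T) = x • oInf T := by
    have : g = x * (x⁻¹ * g * x) * x⁻¹ := by group
    rw [this, hab, mul_smul, mul_smul, inv_smul_smul, uG_smul_oInf]
  have hfix' : uG T c d • ((y⁻¹ * x) • oInf T) = (y⁻¹ * x) • oInf T := by
    rw [← hcd, ← mul_smul]
    have : y⁻¹ * g * y * (y⁻¹ * x) = y⁻¹ * (g * x) := by group
    rw [this, mul_smul, mul_smul, hfix, mul_smul]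
  have hmem : y⁻¹ * x ∈ Borel T := by
    by_contra hcon
    exact hne (uG_fix T hfix' hcon)
  rw [← normalizer_Usub T hT] at hmem
  apply Sylow.ext
  rw [hx, hy]
  ext v
  rw [Subgroup.mem_map_equiv, MulAut.conj_symm_apply, Subgroup.mem_map_equiv,
    MulAut.conj_symm_apply]
  have h1 := (Subgroup.mem_normalizer_iff.mp hmem) (x⁻¹ * v * x)
  have h2 : y⁻¹ * x * (x⁻¹ * v * x) * (y⁻¹ * x)⁻¹ = y⁻¹ * v * y := by group
  rw [h2] at h1
  exact h1

end Cfsg.Agent.Lib.Helper3.Sz
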