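import Mathlib
import Cfsg.Agent.Lib.Helper3.Sz41

set_option autoImplicit false
set_option linter.unusedSectionVars false
set_option linter.style.haveILetI false

/-!
Suzuki groups, part 42: the partition of the Suzuki group (main theorem).
-/

namespace Cfsg.Agent.Lib.Helper3.Sz

open Matrix Polynomial
open scoped Pointwise

variable {F : Type*} [Field F] [CharP F 2] {T : Tits F}

local notation "SL4" => Matrix.SpecialLinearGroup (Fin 4) F
local notation "PP" => Projectivization F (Fin 4 → F)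
local notation "M4" => Matrix (Fin 4) (Fin 4) F

/-- elements whose centraliser is cyclic of one of the three odd orders -/
theorem partition_of_tor [Fintype F] {m : ℕ} (hm : 1 ≤ m) {g : Gam T} (hg : g ≠ 1)
    (hcyc : IsCyclic (Tor T g))
    (hcard : Nat.card (Tor T g) ∈ ({2 ^ (2 * m + 1) - 1, 2 ^ (2 * m + 1) + 2 ^ (m + 1) + 1,
      2 ^ (2 * m + 1) - 2 ^ (m + 1) + 1} : Set ℕ)) :
    ∃! U : Subgroup (Gam T), ((∃ P : Sylow 2 (Gam T), U = (P : Subgroup (Gam T))) ∨
      (IsCyclic U ∧ Nat.card U ∈ ({2 ^ (2 * m + 1) - 1, 2 ^ (2 * m + 1) + 2 ^ (m + 1) + 1,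
        2 ^ (2 * m + 1) - 2 ^ (m + 1) + 1} : Set ℕ))) ∧ g ∈ U := by
  refine ⟨Tor T g, ⟨Or.inr ⟨hcyc, hcard⟩, self_mem_Tor g⟩, ?_⟩
  rintro U' ⟨hU' | ⟨hc', hcard'⟩, hgU'⟩
  · exfalso
    obtain ⟨P, rfl⟩ := hU'
    obtain ⟨j, hj⟩ := P.isPGroup' ⟨g, hgU'⟩
    have h1 : orderOf g ∣ 2 ^ j := by
      apply orderOf_dvd_of_pow_eq_one
      exact congrArg Subtype.val hj
    have h2 : orderOf g ∣ Nat.card (Tor T g) := by
      have := orderOf_dvd_natCard (⟨g, self_mem_Tor g⟩ : Tor T g)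
      rwa [Subgroup.orderOf_mk] at this
    have hodd := (arith_partition_odd hm hcard).1
    have hco : Nat.Coprime (2 ^ j) (Nat.card (Tor T g)) :=
      ((Nat.Prime.coprime_iff_not_dvd Nat.prime_two).mpr hodd).pow_left j
    have : orderOf g = 1 := (Nat.Coprime.coprime_dvd_left h1 hco).eq_one_of_dvd h2
    exact hg (orderOf_eq_one_iff.mp this)
  · have hle := le_Tor_of_isCyclic hc' hgU'
    have hdvd := Subgroup.card_dvd_of_le hle
    exact eq_of_le_of_card_eq hle (arith_partition hm hcard hcard' hdvd)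

/-- 2-elements -/
theorem partition_of_two [Fintype F] (hT : T.IsPow) {m : ℕ} (hm : 1 ≤ m) {g : Gam T} (hg : g ≠ 1)
    {x : Gam T} {a b : F} (e : x⁻¹ * g * x = uG T a b) :
    ∃! U : Subgroup (Gam T), ((∃ P : Sylow 2 (Gam T), U = (P : Subgroup (Gam T))) ∨
      (IsCyclic U ∧ Nat.card U ∈ ({2 ^ (2 * m + 1) - 1, 2 ^ (2 * m + 1) + 2 ^ (m + 1) + 1,
        2 ^ (2 * m + 1) - 2 ^ (m + 1) + 1} : Set ℕ))) ∧ g ∈ U := by
  have hgx : g = x * uG T a b * x⁻¹ := by rw [← e]; group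
  have hcoe : ((x • sylU T hT : Sylow 2 (Gam T)) : Subgroup (Gam T)) =
      (Usub T).map (MulAut.conj x).toMonoidHom := by
    rw [Sylow.coe_subgroup_smul, sylU_coe, Subgroup.pointwise_smul_def]
    rfl
  have hmem : g ∈ ((x • sylU T hT : Sylow 2 (Gam T)) : Subgroup (Gam T)) := by
    rw [hcoe, Subgroup.mem_map_equiv, MulAut.conj_symm_apply, e]
    exact uG_mem_Usub T a b
  refine ⟨_, ⟨Or.inl ⟨x • sylU T hT, rfl⟩, hmem⟩, ?_⟩
  rintro U' ⟨hU' | ⟨hc', hcard'⟩, hgU'⟩
  · obtain ⟨P, rfl⟩ := hU'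
    congr 1
    exact sylow_two_eq_of_mem hT hg hgU' hmem
  · exfalso
    have h4 : g ^ 4 = 1 := by
      rw [hgx, conj_pow, uG_pow_four]; group
    have h1 : orderOf g ∣ 2 ^ 2 := by
      norm_num
      exact orderOf_dvd_of_pow_eq_one h4
    have h2 : orderOf g ∣ Nat.card U' := by
      have := orderOf_dvd_natCard (⟨g, hgU'⟩ : U')
      rwa [Subgroup.orderOf_mk] at this
    have hodd := (arith_partition_odd hm hcard').1
    have hco : Nat.Coprime (2 ^ 2) (Nat.card U') :=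
      ((Nat.Prime.coprime_iff_not_dvd Nat.prime_two).mpr hodd).pow_left 2
    have : orderOf g = 1 := (Nat.Coprime.coprime_dvd_left h1 hco).eq_one_of_dvd h2
    exact hg (orderOf_eq_one_iff.mp this)

theorem partition_Gam [Fintype F] (hT : T.IsPow) {m : ℕ} (hm : 1 ≤ m)
    (hq : Nat.card F = 2 ^ (2 * m + 1)) (g : Gam T) (hg : g ≠ 1) :
    ∃! U : Subgroup (Gam T), ((∃ P : Sylow 2 (Gam T), U = (P : Subgroup (Gam T))) ∨
      (IsCyclic U ∧ Nat.card U ∈ ({2 ^ (2 * m + 1) - 1, 2 ^ (2 * m + 1) + 2 ^ (m + 1) + 1,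
        2 ^ (2 * m + 1) - 2 ^ (m + 1) + 1} : Set ℕ))) ∧ g ∈ U := by
  by_cases hf : Fpf T g
  · obtain ⟨g₁, g₂, hg₁, hg₂, e1, e2, -, -, hcov⟩ := fpf_classes hT hm hq
    apply partition_of_tor hm hg (hf.isCyclic_centralizer hT)
    rcases hcov g hf with h | h
    · rw [(hg₁.card_tor_of_mem_Kcl hT h).1, e1]
      simp
    · rw [(hg₂.card_tor_of_mem_Kcl hT h).1]
      have hle := two_pow_succ_le m
      have e2' : Nat.card (Tor T g₂) = 2 ^ (2 * m + 1) - 2 ^ (m + 1) + 1 := by omega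
      rw [e2']
      simp
  · unfold Fpf at hf
    push Not at hf
    obtain ⟨P, hP⟩ := hf
    obtain ⟨z, h | h⟩ := exists_conj_of_fix T hT hg hP
    · obtain ⟨a, b, -, e⟩ := h
      exact partition_of_two hT hm hg e
    · obtain ⟨k, hk1, e⟩ := h
      have hgz : g = z * hG T k * z⁻¹ := by rw [← e]; group
      have htor : Tor T g = ((torusHom T).range).map (MulAut.conj z).toMonoidHom := by
        rw [hgz, tor_conj_eq_map, tor_hG hT hk1]
      let eqv := Subgroup.equivMapOfInjective (torusHom T).range (MulAut.conj z).toMonoidHom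
        (MulAut.conj z).injective
      apply partition_of_tor hm hg
      · rw [htor]
        have := isCyclic_torus_range T
        exact isCyclic_of_surjective eqv eqv.surjective
      · rw [htor, Nat.card_congr eqv.symm.toEquiv, card_torus_range, hq]
        simp

theorem partition_of_eq [Fintype F] (hT : T.IsPow) {m : ℕ} (hm : 1 ≤ m)
    (hq : Nat.card F = 2 ^ (2 * m + 1)) (O : Set PP) (hO : O = ovoid T)
    (g : MulAction.stabilizer SL4 O) (hg : g ≠ 1) :
    ∃! U : Subgroup (MulAction.stabilizer SL4 O),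
      ((∃ P : Sylow 2 (MulAction.stabilizer SL4 O), U = (P : Subgroup (MulAction.stabilizer SL4 O))) ∨
      (IsCyclic U ∧ Nat.card U ∈ ({2 ^ (2 * m + 1) - 1, 2 ^ (2 * m + 1) + 2 ^ (m + 1) + 1,
        2 ^ (2 * m + 1) - 2 ^ (m + 1) + 1} : Set ℕ))) ∧ g ∈ U := by
  subst hO
  exact partition_Gam hT hm hq g hg

end Cfsg.Agent.Lib.Helper3.Sz
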