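import Mathlib
import Cfsg.Agent.Lib.Helper3.Sz42

set_option autoImplicit false
set_option linter.unusedSectionVars false
set_option linter.style.haveILetI false

/-!
Suzuki groups, part 43: field automorphisms acting on the Suzuki group.
-/

namespace Cfsg.Agent.Lib.Helper3.Sz

open Matrix
open scoped Pointwise

variable {F : Type*} [Field F] [CharP F 2] {T : Tits F}

local notation "SL4" => Matrix.SpecialLinearGroup (Fin 4) F
local notation "PP" => Projectivization F (Fin 4 → F)
local notation "M4" => Matrix (Fin 4) (Fin 4) F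

theorem Tits.IsPow.comm [Fintype F] (hT : T.IsPow) (σ : F ≃+* F) (x : F) :
    σ (T.θ x) = T.θ (σ x) := by
  obtain ⟨s, -, -, hs⟩ := hT
  rw [hs, hs, map_pow]

/-- entrywise application of a field automorphism -/
def slMap (σ : F ≃+* F) : SL4 →* SL4 := Matrix.SpecialLinearGroup.map (σ : F →+* F)

theorem slMap_coe (σ : F ≃+* F) (g : SL4) : ((slMap σ g : SL4) : M4) = (g : M4).map σ := rfl

theorem slMap_uS [Fintype F] (hT : T.IsPow) (σ : F ≃+* F) (a b : F) :
    slMap σ (uS T a b) = uS T (σ a) (σ b) := by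
  apply Subtype.ext
  rw [slMap_coe]
  show (uM T a b).map σ = uM T (σ a) (σ b)
  ext i j
  fin_cases i <;> fin_cases j <;> simp [uM, Tits.f, hT.comm σ]

theorem slMap_hS [Fintype F] (hT : T.IsPow) (σ : F ≃+* F) (k : Fˣ) :
    slMap σ (hS T k) = hS T (Units.map (σ : F →* F) k) := by
  apply Subtype.ext
  rw [slMap_coe]
  show (hM T (k : F)).map σ = hM T (σ k)
  ext i j
  fin_cases i <;> fin_cases j <;> simp [hM, hT.comm σ]

theorem slMap_tS (σ : F ≃+* F) : slMap σ (tS : SL4) = tS := by
  apply Subtype.ext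
  rw [slMap_coe]
  show (tM : M4).map σ = tM
  ext i j
  fin_cases i <;> fin_cases j <;> simp [tM]

theorem slMap_comp (σ τ : F ≃+* F) (g : SL4) : slMap (σ * τ) g = slMap σ (slMap τ g) := by
  apply Subtype.ext
  rw [slMap_coe, slMap_coe, slMap_coe]
  ext i j
  rfl

theorem slMap_one (g : SL4) : slMap (1 : F ≃+* F) g = g := by
  apply Subtype.ext
  rw [slMap_coe]
  ext i j
  rfl

theorem slMap_mem [Fintype F] (hT : T.IsPow) (σ : F ≃+* F) (g : Gam T) :
    slMap σ (g : SL4) ∈ Gam T := by
  by_cases h0 : g • oInf T = oInf T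
  · obtain ⟨a, b, k, rfl⟩ := borel_decomp T hT h0
    have : ((uG T a b * hG T k : Gam T) : SL4) = uS T a b * hS T k := rfl
    rw [this, map_mul, slMap_uS hT, slMap_hS hT]
    exact (uG T _ _ * hG T _).2
  · obtain ⟨a, b, c, d, k, rfl⟩ := bruhat_decomp T hT h0
    have : ((uG T a b * tG T * (uG T c d * hG T k) : Gam T) : SL4) =
        uS T a b * tS * (uS T c d * hS T k) := rfl
    rw [this, map_mul, map_mul, map_mul, slMap_uS hT, slMap_uS hT, slMap_hS hT, slMap_tS]
    exact (uG T _ _ * tG T * (uG T _ _ * hG T _)).2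

/-- a field automorphism as an endomorphism of the Suzuki group -/
def fieldHom [Fintype F] (hT : T.IsPow) (σ : F ≃+* F) : Gam T →* Gam T where
  toFun g := ⟨slMap σ (g : SL4), slMap_mem hT σ g⟩
  map_one' := Subtype.ext (map_one (slMap σ))
  map_mul' g h := Subtype.ext (map_mul (slMap σ) (g : SL4) (h : SL4))

theorem fieldHom_comp [Fintype F] (hT : T.IsPow) (σ τ : F ≃+* F) (g : Gam T) :
    fieldHom hT (σ * τ) g = fieldHom hT σ (fieldHom hT τ g) :=
  Subtype.ext (slMap_comp σ τ (g : SL4))

theorem fieldHom_one [Fintype F] (hT : T.IsPow) (g : Gam T) : fieldHom hT 1 g = g :=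
  Subtype.ext (slMap_one (g : SL4))

/-- a field automorphism as an automorphism of the Suzuki group -/
def fieldAut [Fintype F] (hT : T.IsPow) : (F ≃+* F) →* MulAut (Gam T) where
  toFun σ :=
    { toFun := fieldHom hT σ
      invFun := fieldHom hT σ⁻¹
      left_inv := fun g => by rw [← fieldHom_comp, inv_mul_cancel, fieldHom_one]
      right_inv := fun g => by rw [← fieldHom_comp, mul_inv_cancel, fieldHom_one]
      map_mul' := map_mul (fieldHom hT σ) }
  map_one' := by
    apply MulEquiv.ext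
    intro g
    exact fieldHom_one hT g
  map_mul' σ τ := by
    apply MulEquiv.ext
    intro g
    exact fieldHom_comp hT σ τ g

theorem fieldAut_apply [Fintype F] (hT : T.IsPow) (σ : F ≃+* F) (g : Gam T) :
    fieldAut hT σ g = fieldHom hT σ g := rfl

theorem fieldAut_uG [Fintype F] (hT : T.IsPow) (σ : F ≃+* F) (a b : F) :
    fieldAut hT σ (uG T a b) = uG T (σ a) (σ b) :=
  Subtype.ext (slMap_uS hT σ a b)

theorem fieldAut_hG [Fintype F] (hT : T.IsPow) (σ : F ≃+* F) (k : Fˣ) :
    fieldAut hT σ (hG T k) = hG T (Units.map (σ : F →* F) k) :=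
  Subtype.ext (slMap_hS hT σ k)

theorem fieldAut_tG [Fintype F] (hT : T.IsPow) (σ : F ≃+* F) :
    fieldAut hT σ (tG T) = tG T :=
  Subtype.ext (slMap_tS σ)

end Cfsg.Agent.Lib.Helper3.Sz
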