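import Mathlib
import Cfsg.Agent.Lib.Helper3.Sz43

set_option autoImplicit false
set_option linter.unusedSectionVars false

/-!
Automorphisms of the Sylow `2`-subgroup of a Suzuki group, part 1: additive maps `α β` of a field with
a Tits endomorphism such that `β (a θ a) = α a θ (α a)` are semilinear.
-/

namespace Cfsg.Agent.Lib.Helper3.SzAut

open Cfsg.Agent.Lib.Helper3.Sz

variable {F : Type*} [Field F] [CharP F 2] (T : Tits F)

/-- the additive map `t ↦ t + θ t` -/
def trMap : F →+ F := AddMonoidHom.id F + T.θ.toAddMonoidHom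

theorem trMap_apply (t : F) : trMap T t = t + T.θ t := rfl

/-- the additive subgroup of all `t + θ t` -/
def H0 : AddSubgroup F := (trMap T).range

theorem mem_H0_iff {x : F} : x ∈ H0 T ↔ ∃ t, t + T.θ t = x := Iff.rfl

theorem ker_trMap (t : F) : t ∈ (trMap T).ker ↔ t = 0 ∨ t = 1 := by
  rw [AddMonoidHom.mem_ker, trMap_apply]
  constructor
  · intro h
    have h1 : T.θ t = t := (CharTwo.add_eq_zero.mp h).symm
    have h2 : t ^ 2 = t := by rw [← T.sq, h1, h1]
    have : t * (t - 1) = 0 := by rw [mul_sub, mul_one, ← pow_two, h2, sub_self]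
    rcases mul_eq_zero.mp this with h | h
    · left; exact h
    · right; exact sub_eq_zero.mp h
  · rintro (rfl | rfl)
    · simp
    · simp [CharTwo.add_self_eq_zero]

theorem index_H0 [Finite F] : (H0 T).index = 2 := by
  have hk : Nat.card (trMap T).ker = 2 := by
    rw [Nat.card_eq_two_iff]
    refine ⟨⟨0, (ker_trMap T 0).mpr (Or.inl rfl)⟩, ⟨1, (ker_trMap T 1).mpr (Or.inr rfl)⟩, ?_, ?_⟩
    · intro h; exact zero_ne_one (congrArg Subtype.val h)
    · ext ⟨x, hx⟩
      simp only [Set.mem_insert_iff, Set.mem_singleton_iff, Set.mem_univ, iff_true]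
      rcases (ker_trMap T x).mp hx with rfl | rfl
      · left; rfl
      · right; rfl
  have h1 : (trMap T).ker.index = Nat.card (H0 T) := AddSubgroup.index_ker (trMap T)
  have h2 := AddSubgroup.index_mul_card (trMap T).ker
  have h3 := AddSubgroup.index_mul_card (H0 T)
  rw [hk, h1] at h2
  have hpos : 0 < Nat.card (H0 T) := Nat.card_pos
  have : (H0 T).index * Nat.card (H0 T) = 2 * Nat.card (H0 T) := by rw [h3, ← h2]; ring
  exact Nat.eq_of_mul_eq_mul_right hpos this

theorem H0_add_iff [Finite F] {a b : F} : a + b ∈ H0 T ↔ (a ∈ H0 T ↔ b ∈ H0 T) :=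
  AddSubgroup.add_mem_iff_of_index_two (index_H0 T)

theorem exists_not_mem_H0 [Finite F] : ∃ x : F, x ∉ H0 T := by
  by_contra h
  push Not at h
  have : H0 T = ⊤ := (AddSubgroup.eq_top_iff' _).mpr h
  have h2 := index_H0 T
  rw [this, AddSubgroup.index_top] at h2
  omega

/-- the hypotheses on the pair `(α, β)` -/
structure Pair (α β : F →+ F) : Prop where
  inj_α : Function.Injective α
  inj_β : Function.Injective β
  h1 : ∀ a, β (a * T.θ a) = α a * T.θ (α a)

variable {T} {α β : F →+ F}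

theorem Pair.ne_zero_α (h : Pair T α β) {a : F} (ha : a ≠ 0) : α a ≠ 0 :=
  fun h0 => ha (h.inj_α (by rw [h0, map_zero]))

theorem Pair.ne_zero_β (h : Pair T α β) {a : F} (ha : a ≠ 0) : β a ≠ 0 :=
  fun h0 => ha (h.inj_β (by rw [h0, map_zero]))

theorem Pair.pol (h : Pair T α β) (a c : F) :
    β (a * T.θ c + c * T.θ a) = α a * T.θ (α c) + α c * T.θ (α a) := by
  have e1 := h.h1 (a + c)
  have e2 := h.h1 a
  have e3 := h.h1 c
  have : (a + c) * T.θ (a + c) = a * T.θ a + c * T.θ c + (a * T.θ c + c * T.θ a) := by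
    rw [map_add]; ring
  rw [this, map_add β, map_add β, e2, e3, map_add α, map_add T.θ] at e1
  linear_combination e1

theorem Pair.step (h : Pair T α β) {a : F} (ha : a ≠ 0) (t : F) :
    ∃ s, β (a * T.θ a * (t + T.θ t)) = α a * T.θ (α a) * (s + T.θ s) := by
  have hαa : α a ≠ 0 := h.ne_zero_α ha
  have hθ : T.θ (α a) ≠ 0 := fun h0 => hαa (T.eq_zero_iff.mp h0)
  refine ⟨α (a * t) / α a, ?_⟩
  have e := h.pol a (a * t)
  have : a * T.θ (a * t) + a * t * T.θ a = a * T.θ a * (t + T.θ t) := by rw [map_mul]; ring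
  rw [this] at e
  rw [e, map_div₀]
  field_simp
  ring

theorem Pair.mem_of_mem [Finite F] (h : Pair T α β) {y : F} (hy : y ≠ 0) {x : F}
    (hx : x / y ∈ H0 T) : β x / β y ∈ H0 T := by
  obtain ⟨a, rfl⟩ := T.norm_surjective y
  have ha : a ≠ 0 := by rintro rfl; simp at hy
  obtain ⟨t, ht⟩ := hx
  rw [trMap_apply] at ht
  obtain ⟨s, hs⟩ := h.step ha t
  refine ⟨s, ?_⟩
  rw [trMap_apply]
  have hθa : T.θ a ≠ 0 := fun h0 => ha (T.eq_zero_iff.mp h0)
  have hx' : x = a * T.θ a * (t + T.θ t) := by rw [ht]; field_simp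
  have hαa : α a ≠ 0 := h.ne_zero_α ha
  have hθ : T.θ (α a) ≠ 0 := fun h0 => hαa (T.eq_zero_iff.mp h0)
  rw [hx', hs, h.h1]
  field_simp

theorem Pair.mem_iff [Finite F] (h : Pair T α β) {y : F} (hy : y ≠ 0) (x : F) :
    x / y ∈ H0 T ↔ β x / β y ∈ H0 T := by
  refine ⟨h.mem_of_mem hy, fun hx => ?_⟩
  by_contra hn
  obtain ⟨w, hw⟩ := exists_not_mem_H0 T
  have hβy : β y ≠ 0 := h.ne_zero_β hy
  have hsurj : Function.Surjective β := Finite.surjective_of_injective h.inj_β
  obtain ⟨v, hv⟩ := hsurj (β y * w)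
  apply hw
  have : w = β v / β y := by rw [hv]; field_simp
  rw [this]
  by_cases hvy : v / y ∈ H0 T
  · exact h.mem_of_mem hy hvy
  · have h1 : (v + x) / y ∈ H0 T := by
      rw [add_div, H0_add_iff]
      exact ⟨fun h' => absurd h' hvy, fun h' => absurd h' hn⟩
    have h2 := h.mem_of_mem hy h1
    rw [map_add, add_div, H0_add_iff] at h2
    exact h2.mpr hx

theorem Pair.mul_mem_iff [Finite F] (h : Pair T α β) (x z : F) :
    x * z ∈ H0 T ↔ β x * (β z⁻¹)⁻¹ ∈ H0 T := by
  by_cases hz : z = 0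
  · subst hz; simp [(H0 T).zero_mem]
  · have := h.mem_iff (inv_ne_zero hz) x
    rwa [div_inv_eq_mul, div_eq_mul_inv] at this

theorem Pair.hh_add [Finite F] (h : Pair T α β) (z₁ z₂ : F) :
    (β (z₁ + z₂)⁻¹)⁻¹ = (β z₁⁻¹)⁻¹ + (β z₂⁻¹)⁻¹ := by
  have hsurj : Function.Surjective β := Finite.surjective_of_injective h.inj_β
  set w := (β (z₁ + z₂)⁻¹)⁻¹ + ((β z₁⁻¹)⁻¹ + (β z₂⁻¹)⁻¹) with hw
  have key : ∀ y, y * w ∈ H0 T := by
    intro y
    obtain ⟨x, rfl⟩ := hsurj y
    rw [hw, mul_add, mul_add, H0_add_iff, H0_add_iff, ← h.mul_mem_iff, ← h.mul_mem_iff,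
      ← h.mul_mem_iff, mul_add, H0_add_iff]
  have hw0 : w = 0 := by
    by_contra hne
    obtain ⟨u, hu⟩ := exists_not_mem_H0 T
    apply hu
    have := key (u / w)
    rwa [div_mul_cancel₀ _ hne] at this
  exact CharTwo.add_eq_zero.mp hw0

end Cfsg.Agent.Lib.Helper3.SzAut
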