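import Mathlib
import Cfsg.Agent.Lib.Helper3.SzAut1

set_option autoImplicit false
set_option linter.unusedSectionVars false

/-!
Automorphisms of the Sylow `2`-subgroup of a Suzuki group, part 2: Hua's identity in characteristic two
and the semilinearity theorem.
-/

namespace Cfsg.Agent.Lib.Helper3.SzAut

open Cfsg.Agent.Lib.Helper3.Sz

variable {F : Type*} [Field F] [CharP F 2]

theorem hua_identity {A B : F} (hA : A ≠ 0) (hB : B ≠ 0) (hAB : B⁻¹ + A ≠ 0) :
    A + (A⁻¹ + (B⁻¹ + A)⁻¹)⁻¹ = A ^ 2 * B := by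
  have e0 : B⁻¹ + A = (1 + A * B) / B := by field_simp
  have h1 : 1 + A * B ≠ 0 := by
    intro h; apply hAB
    rw [e0, h, zero_div]
  have e1 : (B⁻¹ + A)⁻¹ = B / (1 + A * B) := by
    rw [e0, inv_div]
  have e2 : A⁻¹ + B / (1 + A * B) = (A * (1 + A * B))⁻¹ := by
    have h2 : A * B + A * B = 0 := CharTwo.add_self_eq_zero _
    field_simp
    linear_combination h2
  rw [e1, e2, inv_inv]
  have h2 : A + A = 0 := CharTwo.add_self_eq_zero _
  linear_combination h2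

/-- an additive bijection `g` with `g 1 = 1` such that `x ↦ (g x⁻¹)⁻¹` is additive is multiplicative -/
theorem mul_of_inv_additive [Finite F] (g k : F →+ F) (hg : Function.Injective g) (hg1 : g 1 = 1)
    (hk : ∀ x, k x = (g x⁻¹)⁻¹) : ∀ x y, g (x * y) = g x * g y := by
  have hne : ∀ {x : F}, x ≠ 0 → g x ≠ 0 := fun {x} hx h0 => hx (hg (by rw [h0, map_zero]))
  have main : ∀ a b : F, g (a ^ 2 * b) = (g a) ^ 2 * k b := by
    intro a b
    by_cases ha : a = 0
    · subst ha; simp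
    by_cases hb : b = 0
    · subst hb; simp
    by_cases hab : b⁻¹ + a = 0
    · have hab' : a = b⁻¹ := (CharTwo.add_eq_zero.mp hab).symm
      have e1 : a ^ 2 * b = a := by
        rw [hab']; field_simp
      rw [e1, hk, ← hab', pow_two, mul_assoc, mul_inv_cancel₀ (hne ha), mul_one]
    · have hA : g a ≠ 0 := hne ha
      have hB : k b ≠ 0 := by
        rw [hk]; exact inv_ne_zero (hne (inv_ne_zero hb))
      have hAB : (k b)⁻¹ + g a ≠ 0 := by
        rw [hk, inv_inv, ← map_add]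
        exact hne hab
      calc g (a ^ 2 * b) = g (a + (a⁻¹ + (b⁻¹ + a)⁻¹)⁻¹) := by rw [hua_identity ha hb hab]
        _ = g a + g ((a⁻¹ + (b⁻¹ + a)⁻¹)⁻¹) := map_add _ _ _
        _ = g a + (k (a⁻¹ + (b⁻¹ + a)⁻¹))⁻¹ := by rw [hk, inv_inv]
        _ = g a + (k a⁻¹ + k (b⁻¹ + a)⁻¹)⁻¹ := by rw [map_add]
        _ = g a + ((g a)⁻¹ + (g (b⁻¹ + a))⁻¹)⁻¹ := by rw [hk a⁻¹, hk (b⁻¹ + a)⁻¹, inv_inv, inv_inv]
        _ = g a + ((g a)⁻¹ + (g b⁻¹ + g a)⁻¹)⁻¹ := by rw [map_add]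
        _ = g a + ((g a)⁻¹ + ((k b)⁻¹ + g a)⁻¹)⁻¹ := by rw [hk b, inv_inv]
        _ = (g a) ^ 2 * k b := hua_identity hA hB hAB
  have hk1 : k 1 = 1 := by rw [hk, inv_one, hg1, inv_one]
  have hsq : ∀ a, g (a ^ 2) = (g a) ^ 2 := by
    intro a
    have := main a 1
    rwa [mul_one, hk1, mul_one] at this
  have hgk : ∀ b, g b = k b := by
    intro b
    have := main 1 b
    rwa [one_pow, one_mul, hg1, one_pow, one_mul] at this
  intro x y
  obtain ⟨a, rfl⟩ := exists_sq x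
  rw [main, hsq, hgk y]

variable {T : Tits F} {α β : F →+ F}

theorem Pair.exists_semilinear [Fintype F] (hT : T.IsPow) (h : Pair T α β) :
    ∃ (l : F) (σ : F ≃+* F), l ≠ 0 ∧ (∀ a, α a = l * σ a) ∧ (∀ b, β b = l * T.θ l * σ b) := by
  set c := β 1 with hc
  have hc0 : c ≠ 0 := h.ne_zero_β one_ne_zero
  let g : F →+ F := (AddMonoidHom.mulLeft c⁻¹).comp β
  have hg : ∀ x, g x = c⁻¹ * β x := fun x => rfl
  have ginj : Function.Injective g := by
    intro x y hxy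
    rw [hg, hg] at hxy
    exact h.inj_β (mul_left_cancel₀ (inv_ne_zero hc0) hxy)
  have g1 : g 1 = 1 := by rw [hg, ← hc, inv_mul_cancel₀ hc0]
  let k : F →+ F := AddMonoidHom.mk' (fun z => (g z⁻¹)⁻¹) (by
    intro z₁ z₂
    show (g (z₁ + z₂)⁻¹)⁻¹ = (g z₁⁻¹)⁻¹ + (g z₂⁻¹)⁻¹
    rw [hg, hg, hg, mul_inv, mul_inv, mul_inv, inv_inv, h.hh_add, mul_add])
  have hmul := mul_of_inv_additive g k ginj g1 (fun x => rfl)
  have gbij : Function.Bijective g := ⟨ginj, Finite.surjective_of_injective ginj⟩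
  let σ : F ≃+* F := RingEquiv.ofBijective
    ({ toFun := g, map_one' := g1, map_mul' := hmul, map_zero' := map_zero g,
       map_add' := map_add g } : F →+* F) gbij
  have hσ : ∀ x, σ x = c⁻¹ * β x := fun x => rfl
  have hβ : ∀ b, β b = c * σ b := by
    intro b
    rw [hσ, ← mul_assoc, mul_inv_cancel₀ hc0, one_mul]
  obtain ⟨l, hl⟩ := T.norm_surjective c
  have hl0 : l ≠ 0 := by
    rintro rfl
    rw [zero_mul] at hl
    exact hc0 hl.symm
  refine ⟨l, σ, hl0, ?_, ?_⟩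
  · intro a
    apply T.norm_injective
    rw [← h.h1, hβ, map_mul, map_mul, ← hT.comm, ← hl]
    ring
  · intro b
    rw [hl, hβ]

end Cfsg.Agent.Lib.Helper3.SzAut
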