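import Mathlib
import Cfsg.Agent.Lib.Helper3.SzAut2

set_option autoImplicit false
set_option linter.unusedSectionVars false

/-!
Automorphisms of the Sylow `2`-subgroup of a Suzuki group, part 3: the shape of an automorphism.
-/

namespace Cfsg.Agent.Lib.Helper3.SzAut

open Cfsg.Agent.Lib.Helper3.Sz

variable {F : Type*} [Field F] [CharP F 2] (T : Tits F)

/-- coordinates on `U` -/
noncomputable def uE : F × F ≃ Usub T := Equiv.ofBijective _ (uU_bijective T)

/-- first coordinate -/
noncomputable def c1 (g : Usub T) : F := ((uE T).symm g).1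

/-- second coordinate -/
noncomputable def c2 (g : Usub T) : F := ((uE T).symm g).2

theorem uU_c1_c2 (g : Usub T) : uU T (c1 T g) (c2 T g) = g := (uE T).apply_symm_apply g

theorem c1_uU (a b : F) : c1 T (uU T a b) = a := by
  have : (uE T).symm (uU T a b) = (a, b) := (uE T).symm_apply_apply (a, b)
  unfold c1; rw [this]

theorem c2_uU (a b : F) : c2 T (uU T a b) = b := by
  have : (uE T).symm (uU T a b) = (a, b) := (uE T).symm_apply_apply (a, b)
  unfold c2; rw [this]

instance [Finite F] : Finite (Usub T) := Finite.of_equiv _ (uE T)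

theorem uU_split (a b : F) : uU T a b = uU T a 0 * uU T 0 b := by
  rw [uU_mul]; simp

section analysis

variable (φ : Usub T ≃* Usub T)

/-- the map induced on `U / Z` -/
noncomputable def aMap (a : F) : F := c1 T (φ (uU T a 0))

/-- the cocycle part -/
noncomputable def gMap (a : F) : F := c2 T (φ (uU T a 0))

/-- the map induced on `Z` -/
noncomputable def bMap (b : F) : F := c2 T (φ (uU T 0 b))

theorem phi_a0 (a : F) : φ (uU T a 0) = uU T (aMap T φ a) (gMap T φ a) :=
  (uU_c1_c2 T _).symm

variable [Fintype F] (hT : T.IsPow)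
include hT

theorem c1_map_center (b : F) : c1 T (φ (uU T 0 b)) = 0 := by
  have h1 : uU T 0 b ∈ Subgroup.center (Usub T) := by rw [center_Usub T hT]; exact ⟨b, rfl⟩
  have h2 : φ (uU T 0 b) ∈ Subgroup.center (Usub T) := by
    rw [mem_center_of_equiv φ]; simpa using h1
  rw [center_Usub T hT] at h2
  obtain ⟨d, hd⟩ := h2
  rw [hd, c1_uU]

theorem phi_center (b : F) : φ (uU T 0 b) = uU T 0 (bMap T φ b) := by
  have := uU_c1_c2 T (φ (uU T 0 b))
  rw [c1_map_center T φ hT b] at this
  exact this.symm

theorem phi_uU (a b : F) : φ (uU T a b) = uU T (aMap T φ a) (gMap T φ a + bMap T φ b) := by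
  rw [uU_split, map_mul, phi_center T φ hT, phi_a0 T φ a, uU_mul]
  simp

theorem bMap_add (b d : F) : bMap T φ (b + d) = bMap T φ b + bMap T φ d := by
  have : uU T 0 (b + d) = uU T 0 b * uU T 0 d := by rw [uU_mul]; simp
  have h := congrArg φ this
  rw [map_mul, phi_center T φ hT b, phi_center T φ hT d, phi_center T φ hT (b + d), uU_mul] at h
  have := (uU_inj T h).2
  simpa using this

theorem aMap_add (a c : F) :
    aMap T φ (a + c) = aMap T φ a + aMap T φ c ∧
    gMap T φ (a + c) + bMap T φ (T.θ a * c) =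
      gMap T φ a + gMap T φ c + T.θ (aMap T φ a) * aMap T φ c := by
  have : uU T a 0 * uU T c 0 = uU T (a + c) (T.θ a * c) := by rw [uU_mul]; simp
  have h := congrArg φ this
  rw [map_mul, phi_a0 T φ a, phi_a0 T φ c, phi_uU T φ hT, uU_mul] at h
  exact ⟨((uU_inj T h).1).symm, ((uU_inj T h).2).symm⟩

/-- the map induced on `U / Z` -/
noncomputable def aHom : F →+ F := AddMonoidHom.mk' (aMap T φ)
  (fun a c => (aMap_add T φ hT a c).1)

/-- the map induced on `Z` -/
noncomputable def bHom : F →+ F := AddMonoidHom.mk' (bMap T φ)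
  (fun b d => bMap_add T φ hT b d)

theorem aHom_apply (a : F) : aHom T φ hT a = aMap T φ a := rfl

theorem bHom_apply (b : F) : bHom T φ hT b = bMap T φ b := rfl

theorem pair_of_aut : Pair T (aHom T φ hT) (bHom T φ hT) where
  inj_α := by
    rw [injective_iff_map_eq_zero]
    intro a ha
    rw [aHom_apply] at ha
    have h1 : φ (uU T a 0) = uU T 0 (gMap T φ a) := by
      rw [phi_a0 T φ a, ha]
    have h2 : φ (uU T a 0) ∈ Subgroup.center (Usub T) := by
      rw [center_Usub T hT, h1]; exact ⟨_, rfl⟩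
    rw [mem_center_of_equiv φ, MulEquiv.symm_apply_apply, center_Usub T hT, mem_Zsub_iff] at h2
    exact h2
  inj_β := by
    rw [injective_iff_map_eq_zero]
    intro b hb
    rw [bHom_apply] at hb
    have h1 : φ (uU T 0 b) = 1 := by
      rw [phi_center T φ hT b, hb, uU_zero]
    have h2 : uU T 0 b = 1 := by
      apply φ.injective; rw [h1, map_one]
    exact ((uU_eq_one_iff T).mp h2).2
  h1 := by
    intro a
    rw [aHom_apply, bHom_apply]
    have h1 : uU T 0 (a * T.θ a) = uU T a 0 ^ 2 := (uU_sq T a 0).symm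
    have h2 := congrArg φ h1
    rw [map_pow, phi_center T φ hT, phi_a0 T φ a, uU_sq] at h2
    exact (uU_inj T h2).2

/-- every automorphism of `U` is of the standard shape -/
theorem exists_params : ∃ (l : F) (σ : F ≃+* F) (γ : F →+ F), l ≠ 0 ∧
    ∀ a b, φ (uU T a b) = uU T (l * σ a) (γ a + l * T.θ l * σ b) := by
  obtain ⟨l, σ, hl, hα, hβ⟩ := (pair_of_aut T φ hT).exists_semilinear hT
  have hadd : ∀ a c, gMap T φ (a + c) = gMap T φ a + gMap T φ c := by
    intro a c
    have h2 := (aMap_add T φ hT a c).2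
    have e1 : bMap T φ (T.θ a * c) = l * T.θ l * σ (T.θ a * c) := hβ _
    have e2 : aMap T φ a = l * σ a := hα a
    have e3 : aMap T φ c = l * σ c := hα c
    rw [e1, e2, e3, map_mul, map_mul, hT.comm] at h2
    have : l * T.θ l * (T.θ (σ a) * σ c) = T.θ l * T.θ (σ a) * (l * σ c) := by ring
    rw [this] at h2
    exact add_right_cancel h2
  refine ⟨l, σ, AddMonoidHom.mk' (gMap T φ) hadd, hl, ?_⟩
  intro a b
  rw [phi_uU T φ hT]
  have e2 : aMap T φ a = l * σ a := hα a
  have e1 : bMap T φ b = l * T.θ l * σ b := hβ _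
  rw [e1, e2]
  rfl

end analysis

end Cfsg.Agent.Lib.Helper3.SzAut
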