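import Mathlib
import Cfsg.Agent.Lib.Helper3.SzAut3

set_option autoImplicit false
set_option linter.unusedSectionVars false

/-!
Automorphisms of the Sylow `2`-subgroup of a Suzuki group, part 4: construction of the automorphisms and
the parametrisation of the automorphism group.
-/

namespace Cfsg.Agent.Lib.Helper3.SzAut

open Cfsg.Agent.Lib.Helper3.Sz

variable {F : Type*} [Field F] [CharP F 2] (T : Tits F)

/-- the standard map attached to `(l, σ, γ)` -/
noncomputable def mkFun (l : F) (σ : F ≃+* F) (γ : F →+ F) (g : Usub T) : Usub T :=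
  uU T (l * σ (c1 T g)) (γ (c1 T g) + l * T.θ l * σ (c2 T g))

theorem mkFun_uU (l : F) (σ : F ≃+* F) (γ : F →+ F) (a b : F) :
    mkFun T l σ γ (uU T a b) = uU T (l * σ a) (γ a + l * T.θ l * σ b) := by
  unfold mkFun; rw [c1_uU, c2_uU]

/-- the automorphisms acting trivially on the centre -/
def kerSub : Subgroup (MulAut (Usub T)) where
  carrier := {φ | ∀ b, φ (uU T 0 b) = uU T 0 b}
  mul_mem' := by
    intro φ ψ hφ hψ b
    rw [MulAut.mul_apply, hψ b, hφ b]
  one_mem' := fun b => rfl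
  inv_mem' := by
    intro φ hφ b
    rw [MulAut.inv_apply, MulEquiv.symm_apply_eq, hφ b]

theorem mem_kerSub_iff {φ : MulAut (Usub T)} : φ ∈ kerSub T ↔ ∀ b, φ (uU T 0 b) = uU T 0 b := Iff.rfl

variable [Fintype F] (hT : T.IsPow)
include hT

/-- the standard map is a homomorphism -/
noncomputable def mkHom (l : F) (σ : F ≃+* F) (γ : F →+ F) : Usub T →* Usub T :=
  MonoidHom.mk' (mkFun T l σ γ) (by
    intro x y
    obtain ⟨a, b, rfl⟩ := uU_surj T x
    obtain ⟨c, d, rfl⟩ := uU_surj T y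
    rw [uU_mul, mkFun_uU, mkFun_uU, mkFun_uU, uU_mul]
    congr 1
    · rw [map_add]; ring
    · simp only [map_add, map_mul, hT.comm]; ring)

theorem mkHom_uU (l : F) (σ : F ≃+* F) (γ : F →+ F) (a b : F) :
    mkHom T hT l σ γ (uU T a b) = uU T (l * σ a) (γ a + l * T.θ l * σ b) := mkFun_uU T l σ γ a b

theorem mkHom_injective {l : F} (hl : l ≠ 0) (σ : F ≃+* F) (γ : F →+ F) :
    Function.Injective (mkHom T hT l σ γ) := by
  intro x y hxy
  obtain ⟨a, b, rfl⟩ := uU_surj T x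
  obtain ⟨c, d, rfl⟩ := uU_surj T y
  rw [mkHom_uU, mkHom_uU] at hxy
  obtain ⟨h1, h2⟩ := uU_inj T hxy
  have hac : a = c := σ.injective (mul_left_cancel₀ hl h1)
  subst hac
  have hθ : T.θ l ≠ 0 := fun h0 => hl (T.eq_zero_iff.mp h0)
  have hbd : b = d := σ.injective (mul_left_cancel₀ (mul_ne_zero hl hθ) (add_left_cancel h2))
  rw [hbd]

/-- the standard automorphism attached to `(l, σ, γ)` -/
noncomputable def mkAut (l : Fˣ) (σ : F ≃+* F) (γ : F →+ F) : MulAut (Usub T) :=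
  MulEquiv.ofBijective (mkHom T hT (l : F) σ γ)
    ⟨mkHom_injective T hT l.ne_zero σ γ, Finite.surjective_of_injective (mkHom_injective T hT l.ne_zero σ γ)⟩

theorem mkAut_uU (l : Fˣ) (σ : F ≃+* F) (γ : F →+ F) (a b : F) :
    mkAut T hT l σ γ (uU T a b) = uU T ((l : F) * σ a) (γ a + (l : F) * T.θ l * σ b) :=
  mkHom_uU T hT l σ γ a b

theorem mkAut_injective :
    Function.Injective (fun p : Fˣ × (F ≃+* F) × (F →+ F) => mkAut T hT p.1 p.2.1 p.2.2) := by
  rintro ⟨l, σ, γ⟩ ⟨l', σ', γ'⟩ h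
  have h' : ∀ a b, uU T ((l : F) * σ a) (γ a + (l : F) * T.θ l * σ b) =
      uU T ((l' : F) * σ' a) (γ' a + (l' : F) * T.θ l' * σ' b) := by
    intro a b
    rw [← mkAut_uU T hT, ← mkAut_uU T hT]
    exact congrArg (fun f : MulAut (Usub T) => f (uU T a b)) h
  have hl : l = l' := by
    have := (uU_inj T (h' 1 0)).1
    simp only [map_one, mul_one] at this
    exact Units.ext this
  subst hl
  have hσ : σ = σ' := by
    ext a
    have := (uU_inj T (h' a 0)).1
    exact mul_left_cancel₀ l.ne_zero this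
  subst hσ
  have hγ : γ = γ' := by
    ext a
    have := (uU_inj T (h' a 0)).2
    simpa using this
  subst hγ
  rfl

theorem mkAut_surjective :
    Function.Surjective (fun p : Fˣ × (F ≃+* F) × (F →+ F) => mkAut T hT p.1 p.2.1 p.2.2) := by
  intro φ
  obtain ⟨l, σ, γ, hl, h⟩ := exists_params T φ hT
  refine ⟨(Units.mk0 l hl, σ, γ), ?_⟩
  apply MulEquiv.ext
  intro g
  obtain ⟨a, b, rfl⟩ := uU_surj T g
  show mkAut T hT (Units.mk0 l hl) σ γ (uU T a b) = _
  rw [mkAut_uU, h]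
  rfl

/-- the parametrisation of `Aut U` -/
noncomputable def paramEquiv : Fˣ × (F ≃+* F) × (F →+ F) ≃ MulAut (Usub T) :=
  Equiv.ofBijective _ ⟨mkAut_injective T hT, mkAut_surjective T hT⟩

theorem paramEquiv_apply (p : Fˣ × (F ≃+* F) × (F →+ F)) :
    paramEquiv T hT p = mkAut T hT p.1 p.2.1 p.2.2 := rfl

theorem kerSub_normal : (kerSub T).Normal := by
  constructor
  intro φ hφ ψ b
  rw [MulAut.mul_apply, MulAut.mul_apply, MulAut.inv_apply]
  have h1 : ψ.symm (uU T 0 b) = uU T 0 (bMap T ψ.symm b) := phi_center T ψ.symm hT b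
  rw [h1, hφ, ← h1, MulEquiv.apply_symm_apply]

theorem mkAut_one_mem (γ : F →+ F) : mkAut T hT 1 (RingEquiv.refl F) γ ∈ kerSub T := by
  intro b
  rw [mkAut_uU]
  simp

theorem mem_kerSub_iff_exists {φ : MulAut (Usub T)} :
    φ ∈ kerSub T ↔ ∃ γ : F →+ F, φ = mkAut T hT 1 (RingEquiv.refl F) γ := by
  constructor
  · intro hφ
    obtain ⟨⟨l, σ, γ⟩, rfl⟩ := mkAut_surjective T hT φ
    have h1 : ∀ b, (l : F) * T.θ l * σ b = b := by
      intro b
      have := hφ b
      rw [mkAut_uU] at this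
      have := (uU_inj T this).2
      simpa using this
    have hl : l = 1 := by
      have := h1 1
      rw [map_one, mul_one] at this
      exact Units.ext (T.norm_eq_one this)
    subst hl
    have hσ : σ = RingEquiv.refl F := by
      ext b
      have := h1 b
      simpa using this
    subst hσ
    exact ⟨γ, rfl⟩
  · rintro ⟨γ, rfl⟩
    exact mkAut_one_mem T hT γ

theorem mkAut_one_mul (γ γ' : F →+ F) :
    mkAut T hT 1 (RingEquiv.refl F) γ * mkAut T hT 1 (RingEquiv.refl F) γ' =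
      mkAut T hT 1 (RingEquiv.refl F) (γ + γ') := by
  apply MulEquiv.ext
  intro g
  obtain ⟨a, b, rfl⟩ := uU_surj T g
  rw [MulAut.mul_apply, mkAut_uU, mkAut_uU, mkAut_uU]
  simp only [Units.val_one, map_one, mul_one, one_mul, RingEquiv.refl_apply, AddMonoidHom.add_apply]
  rw [add_assoc]

theorem card_kerSub : Nat.card (kerSub T) = Nat.card (F →+ F) := by
  symm
  apply Nat.card_eq_of_bijective
    (fun γ : F →+ F => (⟨mkAut T hT 1 (RingEquiv.refl F) γ, mkAut_one_mem T hT γ⟩ : kerSub T))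
  constructor
  · intro γ γ' h
    have h1 := congrArg Subtype.val h
    have h2 := mkAut_injective T hT (a₁ := (1, RingEquiv.refl F, γ)) (a₂ := (1, RingEquiv.refl F, γ')) h1
    exact (Prod.ext_iff.mp (Prod.ext_iff.mp h2).2).2
  · rintro ⟨φ, hφ⟩
    obtain ⟨γ, rfl⟩ := (mem_kerSub_iff_exists T hT).mp hφ
    exact ⟨γ, rfl⟩

theorem kerSub_comm {φ ψ : MulAut (Usub T)} (hφ : φ ∈ kerSub T) (hψ : ψ ∈ kerSub T) :
    φ * ψ = ψ * φ := by
  obtain ⟨γ, rfl⟩ := (mem_kerSub_iff_exists T hT).mp hφ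
  obtain ⟨γ', rfl⟩ := (mem_kerSub_iff_exists T hT).mp hψ
  rw [mkAut_one_mul, mkAut_one_mul, add_comm]

theorem kerSub_sq {φ : MulAut (Usub T)} (hφ : φ ∈ kerSub T) : φ ^ 2 = 1 := by
  obtain ⟨γ, rfl⟩ := (mem_kerSub_iff_exists T hT).mp hφ
  rw [pow_two, mkAut_one_mul]
  have : γ + γ = 0 := by
    ext a
    exact CharTwo.add_self_eq_zero _
  rw [this]
  apply MulEquiv.ext
  intro g
  obtain ⟨a, b, rfl⟩ := uU_surj T g
  rw [mkAut_uU]
  simp

theorem card_aut : Nat.card (MulAut (Usub T)) =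
    Nat.card Fˣ * (Nat.card (F ≃+* F) * Nat.card (F →+ F)) := by
  rw [← Nat.card_congr (paramEquiv T hT), Nat.card_prod, Nat.card_prod]

end Cfsg.Agent.Lib.Helper3.SzAut
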