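import Mathlib
import Cfsg.Agent.Lib.Helper3.SzAut4
import Cfsg.Agent.Lib.Helper6.PCore
import Cfsg.Prelude.Def_Transfer
import Cfsg.Prelude.Def_Solvable

set_option autoImplicit false
set_option linter.unusedSectionVars false
set_option linter.style.haveILetI false

/-!
Automorphisms of the Sylow `2`-subgroup of a Suzuki group, part 5: cardinalities and the `2`-core.
-/

namespace Cfsg.Agent.Lib.Helper3.SzAut

open Cfsg.Agent.Lib.Helper3.Sz

section card

variable {F : Type*} [Field F] [Finite F] [Algebra (ZMod 2) F]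

theorem finrank_eq {n : ℕ} (hF : Nat.card F = 2 ^ n) : Module.finrank (ZMod 2) F = n := by
  have h := Module.natCard_eq_pow_finrank (K := ZMod 2) (V := F)
  rw [hF, Nat.card_zmod] at h
  exact (Nat.pow_right_injective (le_refl 2) h).symm

theorem card_ringAut_aux {n : ℕ} (hF : Nat.card F = 2 ^ n) : Nat.card (F ≃+* F) = n := by
  have e : (F ≃+* F) ≃ (F ≃ₐ[ZMod 2] F) :=
    { toFun := fun σ => AlgEquiv.ofRingEquiv (f := σ) (fun x => by
          have := Subsingleton.elim ((σ : F →+* F).comp (algebraMap (ZMod 2) F))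
            (algebraMap (ZMod 2) F)
          exact RingHom.congr_fun this x)
      invFun := fun e => e.toRingEquiv
      left_inv := fun σ => by ext; rfl
      right_inv := fun e => by ext; rfl }
  rw [Nat.card_congr e, IsGalois.card_aut_eq_finrank]
  exact finrank_eq hF

theorem card_addHom_aux {n : ℕ} (hF : Nat.card F = 2 ^ n) : Nat.card (F →+ F) = 2 ^ (n ^ 2) := by
  rw [Nat.card_congr (AddMonoidHom.toZModLinearMapEquiv 2 (M := F) (M₁ := F)).toEquiv,
    Module.natCard_eq_pow_finrank (K := ZMod 2), Nat.card_zmod, Module.finrank_linearMap,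
    finrank_eq hF, pow_two]

end card

theorem card_ringAut {F : Type*} [Field F] [Finite F] [CharP F 2] {n : ℕ} (hF : Nat.card F = 2 ^ n) :
    Nat.card (F ≃+* F) = n := by
  letI := ZMod.algebra F 2
  exact card_ringAut_aux hF

theorem card_addHom {F : Type*} [Field F] [Finite F] [CharP F 2] {n : ℕ} (hF : Nat.card F = 2 ^ n) :
    Nat.card (F →+ F) = 2 ^ (n ^ 2) := by
  letI := ZMod.algebra F 2
  exact card_addHom_aux hF

/-- a normal `p`-subgroup of `p'`-index is the `p`-core -/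
theorem pCore_eq_of_index {G : Type*} [Group G] [Finite G] {p : ℕ} [Fact p.Prime] {K : Subgroup G}
    (hK : K.Normal) (hp : IsPGroup p K) (hi : ¬ p ∣ K.index) : Cfsg.pCore p G = K := by
  apply le_antisymm
  · have := Cfsg.Agent.Lib.Helper6.pCore_le_sylow (hp.toSylow hi)
    rwa [IsPGroup.toSylow_coe] at this
  · exact Cfsg.Agent.Lib.Helper6.le_pCore hK hp

variable {F : Type*} [Field F] [CharP F 2] (T : Tits F) [Fintype F] (hT : T.IsPow)
include hT

theorem card_aut_eq {m : ℕ} (hF : Nat.card F = 2 ^ (2 * m + 1)) :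
    Nat.card (MulAut (Usub T)) =
      2 ^ ((2 * m + 1) ^ 2) * ((2 * m + 1) * (2 ^ (2 * m + 1) - 1)) := by
  rw [card_aut T hT, Nat.card_units, card_ringAut hF, card_addHom hF, hF]
  ring

theorem card_kerSub_eq {m : ℕ} (hF : Nat.card F = 2 ^ (2 * m + 1)) :
    Nat.card (kerSub T) = 2 ^ ((2 * m + 1) ^ 2) := by
  rw [card_kerSub T hT, card_addHom hF]

theorem pCore_aut {m : ℕ} (hF : Nat.card F = 2 ^ (2 * m + 1)) :
    Cfsg.pCore 2 (MulAut (Usub T)) = kerSub T := by
  haveI : Fact (Nat.Prime 2) := ⟨Nat.prime_two⟩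
  haveI : Finite (MulAut (Usub T)) := inferInstance
  apply pCore_eq_of_index (kerSub_normal T hT)
  · exact IsPGroup.of_card (card_kerSub_eq T hT hF)
  · have h1 := (kerSub T).card_mul_index
    rw [card_kerSub_eq T hT hF, card_aut_eq T hT hF] at h1
    have h2 : (kerSub T).index = (2 * m + 1) * (2 ^ (2 * m + 1) - 1) :=
      Nat.eq_of_mul_eq_mul_left (by positivity) h1
    rw [h2]
    intro h
    rcases (Nat.Prime.dvd_mul Nat.prime_two).mp h with h | h
    · omega
    · have : 2 ∣ 2 ^ (2 * m + 1) := dvd_pow_self 2 (by omega)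
      have hpos : 0 < 2 ^ (2 * m + 1) := by positivity
      omega

/-- the main theorem for `U` -/
theorem aut_main {m : ℕ} (hF : Nat.card F = 2 ^ (2 * m + 1)) :
    Cfsg.IsElementaryAbelian 2 (Cfsg.pCore 2 (MulAut (Usub T))) ∧
    Nat.card (Cfsg.pCore 2 (MulAut (Usub T))) = 2 ^ ((2 * m + 1) ^ 2) ∧
    Nat.card (MulAut (Usub T)) = 2 ^ ((2 * m + 1) ^ 2) * ((2 * m + 1) * (2 ^ (2 * m + 1) - 1)) := by
  rw [pCore_aut T hT hF]
  refine ⟨⟨⟨⟨fun a b => Subtype.ext (kerSub_comm T hT a.2 b.2)⟩⟩, fun a ha => kerSub_sq T hT ha⟩,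
    card_kerSub_eq T hT hF, card_aut_eq T hT hF⟩

omit hT in
/-- transfer along an isomorphism -/
theorem transfer_aut {S : Type*} [Group S] {U : Type*} [Group U] (e : S ≃* U) {a b : ℕ}
    (h : Cfsg.IsElementaryAbelian 2 (Cfsg.pCore 2 (MulAut U)) ∧
      Nat.card (Cfsg.pCore 2 (MulAut U)) = a ∧ Nat.card (MulAut U) = b) :
    Cfsg.IsElementaryAbelian 2 (Cfsg.pCore 2 (MulAut S)) ∧
      Nat.card (Cfsg.pCore 2 (MulAut S)) = a ∧ Nat.card (MulAut S) = b := by
  obtain ⟨⟨hc, hsq⟩, hcard, hb⟩ := h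
  let E : MulAut S ≃* MulAut U := MulAut.congr e
  have hmap := Cfsg.Agent.Lib.Helper6.pCore_map_equiv 2 E
  have hmem : ∀ {x : MulAut S}, x ∈ Cfsg.pCore 2 (MulAut S) → E x ∈ Cfsg.pCore 2 (MulAut U) := by
    intro x hx
    rw [← hmap]
    exact ⟨x, hx, rfl⟩
  refine ⟨⟨⟨⟨fun x y => ?_⟩⟩, fun x hx => ?_⟩, ?_, ?_⟩
  · apply Subtype.ext
    apply E.injective
    have := hc.is_comm.comm ⟨E x, hmem x.2⟩ ⟨E y, hmem y.2⟩
    have h2 := congrArg Subtype.val this
    simpa using h2
  · apply E.injective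
    rw [map_pow, map_one]
    exact hsq _ (hmem hx)
  · rw [← hcard, ← hmap]
    exact (Nat.card_congr ((Cfsg.pCore 2 (MulAut S)).equivMapOfInjective E.toMonoidHom
      E.injective).toEquiv)
  · rw [← hb]
    exact Nat.card_congr E.toEquiv

end Cfsg.Agent.Lib.Helper3.SzAut
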