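import Mathlib
import Cfsg.Agent.Lib.Helper3.SuAut3
import Cfsg.Agent.Lib.Helper3.SzAut5

set_option autoImplicit false
set_option linter.unusedSectionVars false
set_option linter.style.haveILetI false

/-!
Automorphisms of the Sylow `2`-subgroup of `SU₃(2ⁿ)`, part 4: the `2`-core of the automorphism group and the
orders.
-/

namespace Cfsg.Agent.Lib.Helper3.SuAut

open Cfsg.Agent.Lib.Helper2.Herm Cfsg.Agent.Lib.Helper1.HermCount Cfsg.Agent.Lib.Helper3.U3

section general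

variable {G : Type*} [Group G]

/-- the automorphisms acting trivially modulo the centre -/
def kerSub (G : Type*) [Group G] : Subgroup (MulAut G) where
  carrier := {φ | ∀ g, g⁻¹ * φ g ∈ Subgroup.center G}
  mul_mem' := by
    intro φ ψ hφ hψ g
    have : g⁻¹ * (φ * ψ) g = (g⁻¹ * ψ g) * ((ψ g)⁻¹ * φ (ψ g)) := by
      rw [MulAut.mul_apply]; group
    rw [this]
    exact Subgroup.mul_mem _ (hψ g) (hφ (ψ g))
  one_mem' := by
    intro g
    simp
  inv_mem' := by
    intro φ hφ g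
    have h1 := hφ (φ⁻¹ g)
    rw [MulAut.apply_inv_self] at h1
    have : g⁻¹ * φ⁻¹ g = ((φ⁻¹ g)⁻¹ * g)⁻¹ := by group
    rw [this]
    exact Subgroup.inv_mem _ h1

theorem mem_kerSub_iff {φ : MulAut G} : φ ∈ kerSub G ↔ ∀ g, g⁻¹ * φ g ∈ Subgroup.center G := Iff.rfl

theorem kerSub_normal : (kerSub G).Normal := by
  constructor
  intro φ hφ ψ g
  have h1 := hφ (ψ⁻¹ g)
  have h2 := map_center ψ h1
  rw [map_mul, map_inv, MulAut.apply_inv_self] at h2
  exact h2

end general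

section cardZ

variable {F : Type*} [Field F] [Fintype F] [Algebra (ZMod 2) F] {q : ℕ}

theorem card_hom_aux (hF : Fintype.card F = q ^ 2) {n : ℕ} (hq : q = 2 ^ n) (K : AddSubgroup F)
    (hK : Nat.card K = q) : Nat.card {ζ : F →+ F // ∀ β, ζ β ∈ K} = 2 ^ (2 * n ^ 2) := by
  let K' : Submodule (ZMod 2) F := AddSubgroup.toZModSubmodule 2 K
  have e : {ζ : F →+ F // ∀ β, ζ β ∈ K} ≃ (F →ₗ[ZMod 2] K') :=
    { toFun := fun ζ => LinearMap.codRestrict K' (ζ.1.toZModLinearMap 2) ζ.2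
      invFun := fun f => ⟨(K'.subtype.comp f).toAddMonoidHom, fun β => (f β).2⟩
      left_inv := fun ζ => by ext; rfl
      right_inv := fun f => by ext; rfl }
  have h1 : Module.finrank (ZMod 2) F = 2 * n := by
    apply Cfsg.Agent.Lib.Helper3.SzAut.finrank_eq
    rw [Nat.card_eq_fintype_card, hF, hq, ← pow_mul, mul_comm]
  have h2 : Module.finrank (ZMod 2) K' = n := by
    have h := Module.natCard_eq_pow_finrank (K := ZMod 2) (V := K')
    have : Nat.card K' = q := hK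
    rw [this, Nat.card_zmod, hq] at h
    exact (Nat.pow_right_injective (le_refl 2) h).symm
  rw [Nat.card_congr e, Module.natCard_eq_pow_finrank (K := ZMod 2), Nat.card_zmod,
    Module.finrank_linearMap, h1, h2]
  ring_nf

end cardZ

variable {F : Type*} [Field F] [CharP F 2] [Fintype F] {q : ℕ}
variable {hF : Fintype.card F = q ^ 2}

theorem card_ZHom {n : ℕ} (hq : q = 2 ^ n) : Nat.card (ZHom hF) = 2 ^ (2 * n ^ 2) := by
  letI := ZMod.algebra F 2
  exact card_hom_aux hF hq (fixAdd hF) (card_fixAdd hF)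

variable {G : Type*} [Group G] (c : Coord hF G)

theorem mem_kerSub_iff_cb {φ : MulAut G} : φ ∈ kerSub G ↔ ∀ g, cb c (φ g) = cb c g := by
  rw [mem_kerSub_iff]
  constructor
  · intro h g
    have := (mem_center_iff' c _).mp (h g)
    rw [cb_mul, cb_inv] at this
    exact (CharTwo.add_eq_zero.mp this).symm
  · intro h g
    rw [mem_center_iff' c, cb_mul, cb_inv, h g, CharTwo.add_self_eq_zero]

theorem mkAut_mem_kerSub_iff (l : Fˣ) (σ : F ≃+* F) (ζ : ZHom hF) :
    mkAut c l σ ζ ∈ kerSub G ↔ l = 1 ∧ σ = RingEquiv.refl F := by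
  rw [mem_kerSub_iff_cb c]
  constructor
  · intro h
    have hl : l = 1 := by
      have := h (lift c 1)
      rw [cb_mkAut, cb_lift, map_one, mul_one] at this
      exact Units.ext this
    subst hl
    refine ⟨rfl, ?_⟩
    ext β
    have := h (lift c β)
    rw [cb_mkAut, cb_lift, Units.val_one, one_mul] at this
    exact this
  · rintro ⟨rfl, rfl⟩ g
    rw [cb_mkAut]
    simp

theorem mem_kerSub_iff_exists {φ : MulAut G} :
    φ ∈ kerSub G ↔ ∃ ζ : ZHom hF, φ = mkAut c 1 (RingEquiv.refl F) ζ := by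
  constructor
  · intro hφ
    obtain ⟨⟨l, σ, ζ⟩, rfl⟩ := mkAut_surjective c φ
    obtain ⟨rfl, rfl⟩ := (mkAut_mem_kerSub_iff c l σ ζ).mp hφ
    exact ⟨ζ, rfl⟩
  · rintro ⟨ζ, rfl⟩
    exact (mkAut_mem_kerSub_iff c 1 _ ζ).mpr ⟨rfl, rfl⟩

include c in
theorem card_kerSub : Nat.card (kerSub G) = Nat.card (ZHom hF) := by
  symm
  apply Nat.card_eq_of_bijective
    (fun ζ : ZHom hF => (⟨mkAut c 1 (RingEquiv.refl F) ζ,
      (mkAut_mem_kerSub_iff c 1 _ ζ).mpr ⟨rfl, rfl⟩⟩ : kerSub G))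
  constructor
  · intro ζ ζ' h
    have h1 := congrArg Subtype.val h
    have h2 := mkAut_injective c (a₁ := (1, RingEquiv.refl F, ζ)) (a₂ := (1, RingEquiv.refl F, ζ')) h1
    exact (Prod.ext_iff.mp (Prod.ext_iff.mp h2).2).2
  · rintro ⟨φ, hφ⟩
    obtain ⟨ζ, rfl⟩ := (mem_kerSub_iff_exists c).mp hφ
    exact ⟨ζ, rfl⟩

include c in
theorem kerSub_comm {φ ψ : MulAut G} (hφ : φ ∈ kerSub G) (hψ : ψ ∈ kerSub G) :
    φ * ψ = ψ * φ := by
  obtain ⟨ζ, rfl⟩ := (mem_kerSub_iff_exists c).mp hφ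
  obtain ⟨ζ', rfl⟩ := (mem_kerSub_iff_exists c).mp hψ
  apply MulEquiv.ext
  intro g
  apply ext' c
  · simp only [MulAut.mul_apply, cb_mkAut, Units.val_one, one_mul, RingEquiv.refl_apply]
  · simp only [MulAut.mul_apply, cg_mkAut, cb_mkAut, Units.val_one, one_mul, RingEquiv.refl_apply,
      one_pow]
    ring

include c in
theorem kerSub_sq {φ : MulAut G} (hφ : φ ∈ kerSub G) : φ ^ 2 = 1 := by
  obtain ⟨ζ, rfl⟩ := (mem_kerSub_iff_exists c).mp hφ
  apply MulEquiv.ext
  intro g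
  apply ext' c
  · simp only [pow_two, MulAut.mul_apply, cb_mkAut, Units.val_one, one_mul, RingEquiv.refl_apply,
      MulAut.one_apply]
  · simp only [pow_two, MulAut.mul_apply, cg_mkAut, cb_mkAut, Units.val_one, one_mul,
      RingEquiv.refl_apply, one_pow, MulAut.one_apply]
    rw [add_assoc, CharTwo.add_self_eq_zero, add_zero]

/-- an automorphism of `2`-power order scaling the first coordinate scales it trivially -/
theorem scalar_eq_one {χ : MulAut G} {ν : F} (hν : ∀ g, cb c (χ g) = ν * cb c g) {k : ℕ}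
    (hk : χ ^ 2 ^ k = 1) : ν = 1 := by
  have hpow : ∀ j : ℕ, ∀ g, cb c ((χ ^ j) g) = ν ^ j * cb c g := by
    intro j
    induction j with
    | zero => intro g; simp
    | succ j ih =>
      intro g
      rw [pow_succ, MulAut.mul_apply, ih, hν, pow_succ]
      ring
  have h1 : ν ^ 2 ^ k = 1 := by
    have := hpow (2 ^ k) (lift c 1)
    rw [hk, MulAut.one_apply, cb_lift, mul_one] at this
    exact this.symm
  have hν0 : ν ≠ 0 := by
    rintro rfl
    rw [zero_pow (by positivity)] at h1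
    exact zero_ne_one h1
  have h2 : ν ^ (Fintype.card F - 1) = 1 := FiniteField.pow_card_sub_one_eq_one ν hν0
  have hq := two_le_q hF
  have hcop : Nat.Coprime (2 ^ k) (Fintype.card F - 1) := by
    apply Nat.Coprime.pow_left
    rw [Nat.coprime_two_left]
    have heven : Even (Fintype.card F) := by
      obtain ⟨m, hpr, hm⟩ := FiniteField.card F 2
      rw [hm]
      exact (Nat.even_pow.mpr ⟨even_two, m.ne_zero⟩)
    have hpos : 0 < Fintype.card F := Fintype.card_pos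
    exact Nat.Even.sub_odd hpos heven odd_one
  have h3 : ν ^ Nat.gcd (2 ^ k) (Fintype.card F - 1) = 1 := pow_gcd_eq_one.mpr ⟨h1, h2⟩
  rwa [hcop, pow_one] at h3

include c in
theorem pCore_le_kerSub : Cfsg.pCore 2 (MulAut G) ≤ kerSub G := by
  intro φ hφ
  have hN : (Cfsg.pCore 2 (MulAut G)).Normal := Cfsg.pCore_normal 2 _
  have hP : IsPGroup 2 (Cfsg.pCore 2 (MulAut G)) := Cfsg.Agent.Lib.Helper6.pCore_isPGroup 2
  have h2pow : ∀ χ ∈ Cfsg.pCore 2 (MulAut G), ∃ k : ℕ, χ ^ 2 ^ k = 1 := by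
    intro χ hχ
    obtain ⟨k, hk⟩ := hP ⟨χ, hχ⟩
    exact ⟨k, by simpa using congrArg Subtype.val hk⟩
  obtain ⟨⟨l, σ, ζ⟩, rfl⟩ := mkAut_surjective c φ
  simp only at hφ
  have hζ0 : ∀ β : F, (0 : F →+ F) β ^ q = (0 : F →+ F) β := by
    intro β
    have hq := two_le_q hF
    simp [zero_pow (by omega : q ≠ 0)]
  -- first `σ = 1`
  have hσ : σ = RingEquiv.refl F := by
    ext μ
    by_cases hμ : μ = 0
    · subst hμ; simp
    set ψ : MulAut G := mkAut c (Units.mk0 μ hμ) (RingEquiv.refl F) ⟨0, hζ0⟩ with hψ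
    set χ : MulAut G := mkAut c l σ ζ * (ψ * (mkAut c l σ ζ)⁻¹ * ψ⁻¹) with hχ
    have hχN : χ ∈ Cfsg.pCore 2 (MulAut G) :=
      Subgroup.mul_mem _ hφ (hN.conj_mem _ (Subgroup.inv_mem _ hφ) ψ)
    obtain ⟨k, hk⟩ := h2pow χ hχN
    have hcb : ∀ g, cb c (χ g) = (σ μ / μ) * cb c g := by
      intro g
      set g₁ := ψ⁻¹ g with hg₁
      set g₂ := (mkAut c l σ ζ)⁻¹ g₁ with hg₂
      have e1 : cb c g = μ * cb c g₁ := by
        have : g = ψ g₁ := by rw [hg₁, MulAut.apply_inv_self]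
        conv_lhs => rw [this, hψ, cb_mkAut]
        simp
      have e2 : cb c g₁ = (l : F) * σ (cb c g₂) := by
        have : g₁ = mkAut c l σ ζ g₂ := by rw [hg₂, MulAut.apply_inv_self]
        conv_lhs => rw [this, cb_mkAut]
      have e3 : χ g = mkAut c l σ ζ (ψ g₂) := by
        rw [hχ]
        simp only [MulAut.mul_apply]
        rfl
      rw [e3, cb_mkAut, hψ, cb_mkAut, e1, e2]
      simp only [Units.val_mk0, RingEquiv.refl_apply, map_mul]
      field_simp
    have := scalar_eq_one c hcb hk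
    rw [div_eq_one_iff_eq hμ] at this
    exact this
  subst hσ
  have hl : l = 1 := by
    obtain ⟨k, hk⟩ := h2pow _ hφ
    have hcb : ∀ g, cb c (mkAut c l (RingEquiv.refl F) ζ g) = (l : F) * cb c g := by
      intro g
      rw [cb_mkAut]
      rfl
    exact Units.ext (scalar_eq_one c hcb hk)
  subst hl
  exact (mkAut_mem_kerSub_iff c 1 _ ζ).mpr ⟨rfl, rfl⟩

include c in
theorem pCore_eq_kerSub {n : ℕ} (hq : q = 2 ^ n) : Cfsg.pCore 2 (MulAut G) = kerSub G := by
  apply le_antisymm (pCore_le_kerSub c)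
  apply Cfsg.Agent.Lib.Helper6.le_pCore kerSub_normal
  have : Nat.card (kerSub G) = 2 ^ (2 * n ^ 2) := by
    rw [card_kerSub c, card_ZHom hq]
  exact IsPGroup.of_card this

include c in
/-- the main theorem for a coordinatised group -/
theorem aut_main {n : ℕ} (hq : q = 2 ^ n) :
    Cfsg.IsElementaryAbelian 2 (Cfsg.pCore 2 (MulAut G)) ∧
    Nat.card (Cfsg.pCore 2 (MulAut G)) = 2 ^ (2 * n ^ 2) ∧
    Nat.card (MulAut G) = 2 ^ (2 * n ^ 2) * (2 * n * ((2 ^ n) ^ 2 - 1)) := by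
  rw [pCore_eq_kerSub c hq]
  refine ⟨⟨⟨⟨fun a b => Subtype.ext (kerSub_comm c a.2 b.2)⟩⟩, fun a ha => kerSub_sq c ha⟩, ?_, ?_⟩
  · rw [card_kerSub c, card_ZHom hq]
  · have hF2 : Nat.card F = 2 ^ (2 * n) := by
      rw [Nat.card_eq_fintype_card, hF, hq, ← pow_mul, mul_comm]
    rw [card_aut c, Nat.card_units, Cfsg.Agent.Lib.Helper3.SzAut.card_ringAut hF2, card_ZHom hq,
      Nat.card_eq_fintype_card, hF, hq]
    ring

end Cfsg.Agent.Lib.Helper3.SuAut
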