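import Mathlib
import Cfsg.Agent.Lib.Helper3.SuAut4

set_option autoImplicit false
set_option linter.unusedSectionVars false
set_option linter.style.haveILetI false

/-!
Automorphisms of the Sylow `2`-subgroup of `SU₃(2ⁿ)`, part 5: the Sylow `2`-subgroups of `SU₃(2ⁿ)` have
unipotent coordinates.
-/

namespace Cfsg.Agent.Lib.Helper3.SuAut

open Cfsg.Agent.Lib.Helper2.Herm Cfsg.Agent.Lib.Helper1.HermCount Cfsg.Agent.Lib.Helper3.U3

variable {F : Type*} [Field F] [CharP F 2] [Fintype F]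

theorem card_SU_factorization {n : ℕ} (hn : 1 ≤ n) (hF : Fintype.card F = (2 ^ n) ^ 2) :
    (Nat.card (Cfsg.SU 3 F (2 ^ n))).factorization 2 = 3 * n := by
  have h1 : Nat.card (Cfsg.SU 3 F (2 ^ n)) =
      Nat.card (Cfsg.PSU 3 F (2 ^ n)) * Nat.card (Subgroup.center (Cfsg.SU 3 F (2 ^ n))) :=
    Subgroup.card_eq_card_quotient_mul_card_subgroup _
  have h2 : Nat.card (Subgroup.center (Cfsg.SU 3 F (2 ^ n))) = Nat.gcd 3 (2 ^ n + 1) :=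
    Cfsg.Agent.S0279.result hF 3 le_rfl
  have h3 := card_PSU_factorization hn hF
  have hpos1 : Nat.card (Cfsg.PSU 3 F (2 ^ n)) ≠ 0 := Nat.card_pos.ne'
  have hg0 : Nat.gcd 3 (2 ^ n + 1) ≠ 0 := (Nat.gcd_pos_of_pos_left _ (by norm_num)).ne'
  have hodd : ¬ 2 ∣ Nat.gcd 3 (2 ^ n + 1) := by
    intro hd
    have h4 : 2 ∣ 2 ^ n + 1 := hd.trans (Nat.gcd_dvd_right _ _)
    have h5 : 2 ∣ 2 ^ n := dvd_pow_self 2 (by omega)
    omega
  rw [h1, h2, Nat.factorization_mul hpos1 hg0, Finsupp.add_apply, h3,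
    Nat.factorization_eq_zero_of_not_dvd hodd, add_zero]

/-- every Sylow `2`-subgroup of `SU₃(2ⁿ)` has unipotent coordinates -/
theorem exists_coord_sylow_SU {n : ℕ} (hn : 1 ≤ n) (hF : Fintype.card F = (2 ^ n) ^ 2)
    (S : Sylow 2 (Cfsg.SU 3 F (2 ^ n))) :
    Nonempty (Coord hF ↥(S : Subgroup (Cfsg.SU 3 F (2 ^ n)))) := by
  haveI : Fact (Nat.Prime 2) := ⟨Nat.prime_two⟩
  have hcard : Nat.card (Usu hF) = 2 ^ (Nat.card (Cfsg.SU 3 F (2 ^ n))).factorization 2 := by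
    rw [card_SU_factorization hn hF, (usuCoord hF).card_eq, ← pow_mul, mul_comm]
  let P0 : Sylow 2 (Cfsg.SU 3 F (2 ^ n)) := Sylow.ofCard (Usu hF) hcard
  let e2 : Usu hF ≃* ↥(P0 : Subgroup (Cfsg.SU 3 F (2 ^ n))) :=
    MulEquiv.subgroupCongr (Sylow.coe_ofCard _ hcard).symm
  let e3 : ↥(P0 : Subgroup (Cfsg.SU 3 F (2 ^ n))) ≃* ↥(S : Subgroup (Cfsg.SU 3 F (2 ^ n))) :=
    Sylow.equiv P0 S
  exact ⟨(usuCoord hF).map (e2.trans e3)⟩

/-- the theorem for a group isomorphic to a Sylow `2`-subgroup of `SU₃(2ⁿ)` -/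
theorem aut_sylow_SU {S : Type*} [Group S] {n : ℕ} (hn : 1 ≤ n) (hF : Fintype.card F = (2 ^ n) ^ 2)
    (P : Sylow 2 (Cfsg.SU 3 F (2 ^ n)))
    (e : S ≃* ↥(P : Subgroup (Cfsg.SU 3 F (2 ^ n)))) :
    Cfsg.IsElementaryAbelian 2 (Cfsg.pCore 2 (MulAut S)) ∧
    Nat.card (Cfsg.pCore 2 (MulAut S)) = 2 ^ (2 * n ^ 2) ∧
    Nat.card (MulAut S) = 2 ^ (2 * n ^ 2) * (2 * n * ((2 ^ n) ^ 2 - 1)) := by
  obtain ⟨c⟩ := exists_coord_sylow_SU hn hF P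
  exact aut_main (c.map e.symm) rfl

end Cfsg.Agent.Lib.Helper3.SuAut
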