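/-
S5965 package PK-CYC (for helper6): a cyclic subspace whose annihilating polynomial has coefficients in `F₀`
carries a basis in which the operator has entries in `F₀` (companion matrix).
-/
import Mathlib
import Cfsg.Agent.Lib.Helper9.GReal1

set_option autoImplicit false

namespace Cfsg.Agent.Lib.Helper6.SubF

open Module Polynomial Cfsg.Agent.Lib.Helper9.H9GReal

/-- PK-CYC -/
theorem realOver_of_cyclic {F : Type*} [Field F] {V : Type*} [AddCommGroup V] [Module F V]
    (F₀ : Subfield F) (y : V →ₗ[F] V) (v : V) (G : F[X]) (hG : G.Monic)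
    (hcoef : ∀ j, G.coeff j ∈ F₀) (hGv : aeval y G v = 0)
    (hli : LinearIndependent F (fun j : Fin G.natDegree => (y ^ (j : ℕ)) v))
    (W : Submodule F V)
    (hW : W = Submodule.span F (Set.range fun j : Fin G.natDegree => (y ^ (j : ℕ)) v)) :
    ∃ hinv : ∀ w ∈ W, y w ∈ W, RealOver F₀ (y.restrict hinv) := by
  classical
  subst hW
  have hkey : (y ^ G.natDegree) v = - ∑ i : Fin G.natDegree, G.coeff i • (y ^ (i : ℕ)) v := by
    have h1 := hG.as_sum
    have h2 : aeval y G v
        = (y ^ G.natDegree) v + ∑ i ∈ Finset.range G.natDegree, G.coeff i • (y ^ i) v := by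
      conv_lhs => rw [h1]
      simp only [map_add, map_sum, map_mul, map_pow, aeval_X, aeval_C, LinearMap.add_apply,
        LinearMap.sum_apply, Module.End.mul_apply, Module.algebraMap_end_apply]
    rw [hGv] at h2
    rw [Fin.sum_univ_eq_sum_range (fun i => G.coeff i • (y ^ i) v) G.natDegree]
    exact eq_neg_of_add_eq_zero_left h2.symm
  -- the coefficients of the companion matrix
  let c : Fin G.natDegree → Fin G.natDegree → F := fun j i =>
    if h : (j : ℕ) + 1 < G.natDegree then (if i = ⟨(j : ℕ) + 1, h⟩ then 1 else 0) else - G.coeff i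
  have hc : ∀ j i, c j i ∈ F₀ := by
    intro j i
    show (if h : (j : ℕ) + 1 < G.natDegree then (if i = ⟨(j : ℕ) + 1, h⟩ then (1 : F) else 0)
      else - G.coeff i) ∈ F₀
    split_ifs
    · exact F₀.one_mem
    · exact F₀.zero_mem
    · exact F₀.neg_mem (hcoef i)
  have hyu : ∀ j : Fin G.natDegree,
      y ((y ^ (j : ℕ)) v) = ∑ i : Fin G.natDegree, c j i • (y ^ (i : ℕ)) v := by
    intro j
    by_cases h : (j : ℕ) + 1 < G.natDegree
    · have h1 : ∀ i, c j i = if i = ⟨(j : ℕ) + 1, h⟩ then 1 else 0 := fun i => dif_pos h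
      simp only [h1, ite_smul, one_smul, zero_smul, Finset.sum_ite_eq', Finset.mem_univ, if_true]
      rw [← Module.End.mul_apply, ← pow_succ']
    · have h1 : ∀ i, c j i = - G.coeff i := fun i => dif_neg h
      have h2 : (j : ℕ) + 1 = G.natDegree := by have := j.2; omega
      simp only [h1, neg_smul, Finset.sum_neg_distrib]
      rw [← Module.End.mul_apply, ← pow_succ', h2, hkey]
  have hinv : ∀ w ∈ Submodule.span F (Set.range fun j : Fin G.natDegree => (y ^ (j : ℕ)) v),
      y w ∈ Submodule.span F (Set.range fun j : Fin G.natDegree => (y ^ (j : ℕ)) v) := by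
    intro w hw
    have hle : Submodule.map y (Submodule.span F (Set.range fun j : Fin G.natDegree => (y ^ (j : ℕ)) v))
        ≤ Submodule.span F (Set.range fun j : Fin G.natDegree => (y ^ (j : ℕ)) v) := by
      rw [Submodule.map_span_le]
      rintro _ ⟨j, rfl⟩
      show y ((y ^ (j : ℕ)) v) ∈ _
      rw [hyu j]
      exact Submodule.sum_mem _ (fun i _ => Submodule.smul_mem _ _ (Submodule.subset_span ⟨i, rfl⟩))
    exact hle (Submodule.mem_map_of_mem hw)
  refine ⟨hinv, Fin G.natDegree, inferInstance, Basis.span hli, ?_⟩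
  intro i j
  have hb : ∀ k, ((Basis.span hli k :
      Submodule.span F (Set.range fun j : Fin G.natDegree => (y ^ (j : ℕ)) v)) : V) = (y ^ (k : ℕ)) v :=
    fun k => congrArg Subtype.val (Basis.span_apply hli k)
  have h1 : (y.restrict hinv) (Basis.span hli j) = ∑ k, c j k • Basis.span hli k := by
    apply Subtype.ext
    rw [LinearMap.restrict_coe_apply, Submodule.coe_sum]
    simp only [Submodule.coe_smul, hb]
    exact hyu j
  rw [h1, Basis.repr_sum_self]
  exact hc j i

end Cfsg.Agent.Lib.Helper6.SubF
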