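/-
S5965 package PK-POLY (for helper6): a monic irreducible factor over `F` (`|F| = q₀ ^ r`) of `X ^ r - 1` has
its coefficients in the subfield with `q₀` elements.  Mathlib only.
-/
import Mathlib

set_option autoImplicit false
set_option linter.style.haveILetI false

namespace Cfsg.Agent.Lib.Helper6.SubF

open Polynomial

/-- elements of a finite field fixed by `a ↦ a ^ q₀` lie in the subfield with `q₀` elements -/
theorem poly_mem_of_pow_eq {F : Type*} [Field F] [Fintype F] (F₀ : Subfield F) {q₀ : ℕ}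
    (hF₀ : Nat.card ↥F₀ = q₀) {a : F} (ha : a ^ q₀ = a) : a ∈ F₀ := by
  classical
  have hq1 : 1 < q₀ := by rw [← hF₀]; exact Finite.one_lt_card
  have hp : (X ^ q₀ - X : F[X]) ≠ 0 := FiniteField.X_pow_card_sub_X_ne_zero F hq1
  have hdeg : (X ^ q₀ - X : F[X]).natDegree = q₀ := FiniteField.X_pow_card_sub_X_natDegree_eq F hq1
  have hroots : ∀ b : F, b ^ q₀ = b → b ∈ (X ^ q₀ - X : F[X]).roots.toFinset := by
    intro b hb
    rw [Multiset.mem_toFinset, mem_roots hp, IsRoot, eval_sub, eval_pow, eval_X, hb, sub_self]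
  have hsub : ∀ x : F₀, (x : F) ^ q₀ = x := by
    intro x
    have h1 := FiniteField.pow_card x
    rw [← Nat.card_eq_fintype_card, hF₀] at h1
    have h2 := congrArg (Subtype.val) h1
    simpa using h2
  set S : Finset F := Finset.univ.image (fun x : F₀ => (x : F)) with hS
  have hScard : S.card = q₀ := by
    rw [hS, Finset.card_image_of_injective _ Subtype.val_injective, Finset.card_univ,
      ← Nat.card_eq_fintype_card, hF₀]
  have hSsub : S ⊆ (X ^ q₀ - X : F[X]).roots.toFinset := by
    intro b hb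
    rw [hS, Finset.mem_image] at hb
    obtain ⟨x, -, rfl⟩ := hb
    exact hroots _ (hsub x)
  have hle : (X ^ q₀ - X : F[X]).roots.toFinset.card ≤ S.card := by
    rw [hScard]
    calc _ ≤ Multiset.card (X ^ q₀ - X : F[X]).roots := Multiset.toFinset_card_le _
      _ ≤ (X ^ q₀ - X : F[X]).natDegree := card_roots' _
      _ = q₀ := hdeg
  have heq := Finset.eq_of_subset_of_card_le hSsub hle
  have := hroots a ha
  rw [← heq, hS, Finset.mem_image] at this
  obtain ⟨x, -, rfl⟩ := this
  exact x.2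

/-- PK-POLY -/
theorem coeff_mem_of_irreducible_dvd {F : Type*} [Field F] [Fintype F] (F₀ : Subfield F)
    (q₀ r : ℕ) (hr : r.Prime) (hF₀ : Nat.card ↥F₀ = q₀) (hq : Fintype.card F = q₀ ^ r)
    (g : F[X]) (hg : Irreducible g) (hmon : g.Monic) (hdvd : g ∣ X ^ r - 1) (j : ℕ) :
    g.coeff j ∈ F₀ := by
  classical
  -- the characteristic
  obtain ⟨p, hpc⟩ := CharP.exists F
  have := hpc
  have hpp : p.Prime := CharP.char_is_prime F p
  have : Fact p.Prime := ⟨hpp⟩
  obtain ⟨f, -, hf⟩ := FiniteField.card F p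
  have hq₀dvd : q₀ ∣ p ^ (f : ℕ) := by
    rw [← hf, hq]; exact dvd_pow_self q₀ hr.ne_zero
  obtain ⟨e, -, he⟩ := (Nat.dvd_prime_pow hpp).1 hq₀dvd
  -- the extension field
  have : Fact (Irreducible g) := ⟨hg⟩
  let K := AdjoinRoot g
  let α : K := AdjoinRoot.root g
  have : CharP K p := charP_of_injective_algebraMap (algebraMap F K).injective p
  have hα : eval₂ (algebraMap F K) α g = 0 := AdjoinRoot.eval₂_root g
  -- `α ^ r = 1`
  have hαr : α ^ r = 1 := by
    obtain ⟨c, hc⟩ := hdvd
    have h1 : eval₂ (algebraMap F K) α (X ^ r - 1) = 0 := by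
      rw [hc, eval₂_mul, hα, zero_mul]
    rw [eval₂_sub, eval₂_pow, eval₂_X, eval₂_one] at h1
    exact sub_eq_zero.1 h1
  -- `α ^ q = α ^ q₀`
  have hmod : q₀ ^ r ≡ q₀ [MOD r] := by
    have : Fact r.Prime := ⟨hr⟩
    have h1 : ((q₀ : ZMod r)) ^ r = (q₀ : ZMod r) := ZMod.pow_card _
    have h2 : ((q₀ ^ r : ℕ) : ZMod r) = ((q₀ : ℕ) : ZMod r) := by push_cast; exact h1
    exact (ZMod.natCast_eq_natCast_iff _ _ _).1 h2
  have hαq : α ^ (q₀ ^ r) = α ^ q₀ := by
    have hle : q₀ ≤ q₀ ^ r := Nat.le_self_pow hr.ne_zero q₀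
    obtain ⟨t, ht⟩ := (Nat.modEq_iff_dvd' hle).1 hmod.symm
    have h1 : q₀ ^ r = q₀ + r * t := by omega
    rw [h1, pow_add, pow_mul, hαr, one_pow, mul_one]
  -- Frobenius maps
  have hσF : ∀ c : F, (iterateFrobenius F p f) c = c := by
    intro c
    rw [iterateFrobenius_def, ← hf, FiniteField.pow_card]
  -- `g (α ^ q) = 0`
  have h3 : eval₂ (algebraMap F K) (α ^ (q₀ ^ r)) g = 0 := by
    have h4 := congrArg (iterateFrobenius K p f) hα
    rw [map_zero, Polynomial.hom_eval₂] at h4
    have h5 : (iterateFrobenius K p (f : ℕ)).comp (algebraMap F K) = algebraMap F K := by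
      ext c
      rw [RingHom.comp_apply, iterateFrobenius_def, ← map_pow, ← hf, FiniteField.pow_card]
    rw [h5, iterateFrobenius_def, ← hf, hq] at h4
    exact h4
  -- `g^σ (α ^ q₀) = 0`
  have h6 : eval₂ (algebraMap F K) (α ^ q₀) (g.map (iterateFrobenius F p e)) = 0 := by
    have h4 := congrArg (iterateFrobenius K p e) hα
    rw [map_zero, Polynomial.hom_eval₂] at h4
    have h5 : (iterateFrobenius K p e).comp (algebraMap F K)
        = (algebraMap F K).comp (iterateFrobenius F p e) := by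
      ext c
      rw [RingHom.comp_apply, RingHom.comp_apply, iterateFrobenius_def, iterateFrobenius_def, map_pow]
    rw [h5, iterateFrobenius_def, ← he] at h4
    rw [eval₂_map]
    exact h4
  rw [hαq] at h3
  -- `g` is the minimal polynomial of `α ^ q₀`
  have hmin : g = minpoly F (α ^ q₀) := by
    apply minpoly.eq_of_irreducible_of_monic hg _ hmon
    rw [aeval_def]; exact h3
  have hdvd2 : g ∣ g.map (iterateFrobenius F p e) := by
    rw [hmin]
    apply minpoly.dvd
    rw [aeval_def, ← hmin]; exact h6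
  have heq : g = g.map (iterateFrobenius F p e) := by
    refine (Polynomial.eq_of_monic_of_dvd_of_natDegree_le hmon (hmon.map _) hdvd2 ?_).symm
    rw [Polynomial.natDegree_map]
  apply poly_mem_of_pow_eq F₀ hF₀
  have h7 := congrArg (fun P : F[X] => P.coeff j) heq
  simp only [coeff_map, iterateFrobenius_def, ← he] at h7
  exact h7.symm

end Cfsg.Agent.Lib.Helper6.SubF
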