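/-
S5965 package PK-REAL (for helper6): over `F` with `q₀ ^ r` elements every `y` with `y ^ r = 1` (`r` a prime
different from the characteristic) has a basis in which its matrix has entries in the subfield with `q₀` elements.
-/
import Mathlib
import Cfsg.Agent.Lib.Helper9.GReal1
import Cfsg.Agent.Lib.Helper9.Elus3
import Cfsg.Agent.Lib.Helper3.SubF_POLY
import Cfsg.Agent.Lib.Helper3.SubF_CYC

set_option autoImplicit false

namespace Cfsg.Agent.Lib.Helper6.SubF

open Module Polynomial Cfsg.Agent.Lib.Helper9.H9GReal Cfsg.Agent.Lib.Helper9.H9Elus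

universe u v

section
variable {F : Type v} [Field F] {V : Type u} [AddCommGroup V] [Module F V]

/-- the kernel of an irreducible factor of the minimal polynomial is nonzero -/
theorem real_exists_ker_ne_zero [FiniteDimensional F V] (y : V →ₗ[F] V) (g : F[X]) (hg : Irreducible g)
    (hdvd : g ∣ minpoly F y) : ∃ v : V, v ≠ 0 ∧ aeval y g v = 0 := by
  by_contra hcon
  simp only [not_exists, not_and] at hcon
  obtain ⟨h, hh⟩ := hdvd
  have hint : IsIntegral F y := Algebra.IsIntegral.isIntegral y
  have hmin0 : minpoly F y ≠ 0 := minpoly.ne_zero hint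
  have hh0 : h ≠ 0 := by
    intro h0; rw [h0, mul_zero] at hh; exact hmin0 hh
  have hzero : aeval y h = 0 := by
    ext v
    by_contra hv
    apply hcon (aeval y h v) hv
    rw [← Module.End.mul_apply, ← map_mul, ← hh, minpoly.aeval]
    rfl
  obtain ⟨k, hk⟩ := minpoly.dvd F y hzero
  rw [hh] at hk
  have h1 : h * 1 = h * (g * k) := by
    rw [mul_one]
    conv_lhs => rw [hk]
    ring
  have h2 : 1 = g * k := mul_left_cancel₀ hh0 h1
  exact hg.not_isUnit (IsUnit.of_mul_eq_one k h2.symm)

/-- the iterates of a vector killed by an irreducible polynomial are independent -/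
theorem real_linearIndependent_iterates (y : V →ₗ[F] V) (g : F[X]) (hg : Irreducible g) (v : V)
    (hv : v ≠ 0) (hgv : aeval y g v = 0) :
    LinearIndependent F (fun j : Fin g.natDegree => (y ^ (j : ℕ)) v) := by
  classical
  rw [Fintype.linearIndependent_iff]
  intro c hc
  have hCpv : aeval y (∑ j : Fin g.natDegree, C (c j) * X ^ (j : ℕ)) v = 0 := by
    simp only [map_sum, map_mul, map_pow, aeval_X, aeval_C, LinearMap.sum_apply, Module.End.mul_apply,
      Module.algebraMap_end_apply]
    exact hc
  have hdeg : (∑ j : Fin g.natDegree, C (c j) * X ^ (j : ℕ)).degree < (g.natDegree : WithBot ℕ) :=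
    Polynomial.degree_sum_fin_lt c
  have hcoef : ∀ j : Fin g.natDegree,
      (∑ i : Fin g.natDegree, C (c i) * X ^ (i : ℕ)).coeff j = c j := by
    intro j
    rw [Polynomial.finset_sum_coeff]
    simp only [coeff_C_mul, coeff_X_pow]
    rw [Finset.sum_eq_single j]
    · simp
    · intro i _ hij
      have : (j : ℕ) ≠ (i : ℕ) := fun h => hij (Fin.ext h.symm)
      simp [this]
    · intro h; exact absurd (Finset.mem_univ j) h
  by_cases h0 : (∑ j : Fin g.natDegree, C (c j) * X ^ (j : ℕ)) = 0
  · intro j
    rw [← hcoef j, h0, coeff_zero]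
  · exfalso
    have hndvd : ¬ g ∣ (∑ j : Fin g.natDegree, C (c j) * X ^ (j : ℕ)) := by
      intro hd
      have h1 := Polynomial.degree_le_of_dvd hd h0
      rw [Polynomial.degree_eq_natDegree hg.ne_zero] at h1
      exact absurd (lt_of_le_of_lt h1 hdeg) (lt_irrefl _)
    obtain ⟨a, b, hab⟩ := hg.coprime_iff_not_dvd.2 hndvd
    have h2 := congrArg (fun P : F[X] => aeval y P v) hab
    simp only [map_add, map_mul, map_one, LinearMap.add_apply, Module.End.mul_apply, hgv, hCpv, map_zero,
      add_zero, Module.End.one_apply] at h2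
    exact hv h2.symm

end

/-- the induction for PK-REAL -/
theorem real_aux {F : Type v} [Field F] [Fintype F] {p : ℕ} [Fact p.Prime]
    [CharP F p] (F₀ : Subfield F) (q₀ r : ℕ) [Fact r.Prime] (hrp : r ≠ p)
    (hF₀ : Nat.card ↥F₀ = q₀) (hq : Fintype.card F = q₀ ^ r) :
    ∀ (k : ℕ) (V : Type u) [AddCommGroup V] [Module F V] [FiniteDimensional F V] (y : V →ₗ[F] V),
      y ^ r = 1 → finrank F V = k → RealOver F₀ y := by
  intro k
  induction k using Nat.strong_induction_on with
  | _ k ih =>
    intro V _ _ _ y hy hk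
    by_cases hk0 : k = 0
    · have hsub : Subsingleton V := Module.finrank_zero_iff.1 (hk.trans hk0)
      have hy1 : y = (1 : F) • (1 : V →ₗ[F] V) := LinearMap.ext fun x => Subsingleton.elim _ _
      rw [hy1]
      exact realOver_smul_one F₀ 1 F₀.one_mem
    · have hpos : 0 < finrank F V := by omega
      have hVnt : Nontrivial V := Module.nontrivial_of_finrank_pos hpos
      have hmin_dvd : minpoly F y ∣ X ^ r - 1 := by
        apply minpoly.dvd
        rw [map_sub, map_pow, aeval_X, map_one, hy, sub_self]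
      have hnu : ¬ IsUnit (minpoly F y) := minpoly.not_isUnit F y
      obtain ⟨g, hgm, hgi, hgd⟩ := Polynomial.exists_monic_irreducible_factor _ hnu
      obtain ⟨v, hv0, hgv⟩ := real_exists_ker_ne_zero y g hgi hgd
      have hli := real_linearIndependent_iterates y g hgi v hv0 hgv
      have hcoef : ∀ j, g.coeff j ∈ F₀ :=
        coeff_mem_of_irreducible_dvd F₀ q₀ r Fact.out hF₀ hq g hgi hgm (hgd.trans hmin_dvd)
      obtain ⟨hinvW, hWreal⟩ := realOver_of_cyclic F₀ y v g hgm hcoef hgv hli _ rfl
      have hss := isSemisimple_of_pow_eq_one r hrp y hy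
      obtain ⟨C, hC, hWC⟩ := Module.End.isSemisimple_iff.mp hss
        (Submodule.span F (Set.range fun j : Fin g.natDegree => (y ^ (j : ℕ)) v))
        ((Module.End.mem_invtSubmodule_iff_forall_mem_of_mem y).2 hinvW)
      have hC' : ∀ c ∈ C, y c ∈ C := (Module.End.mem_invtSubmodule_iff_forall_mem_of_mem y).1 hC
      have hCr : (y.restrict hC') ^ r = 1 := by
        rw [Module.End.pow_restrict]
        ext c
        simp [hy]
      have hvW : v ∈ Submodule.span F (Set.range fun j : Fin g.natDegree => (y ^ (j : ℕ)) v) := by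
        apply Submodule.subset_span
        exact ⟨⟨0, hgi.natDegree_pos⟩, by simp⟩
      have hWpos : 0 < finrank F
          (Submodule.span F (Set.range fun j : Fin g.natDegree => (y ^ (j : ℕ)) v)) := by
        rw [Module.finrank_pos_iff_exists_ne_zero]
        exact ⟨⟨v, hvW⟩, fun h => hv0 (congrArg Subtype.val h)⟩
      have hlt : finrank F C < k := by
        have := Submodule.finrank_add_eq_of_isCompl hWC
        omega
      have hCreal := ih (finrank F C) hlt C (y.restrict hC') hCr rfl
      exact realOver_of_isCompl F₀ y _ C hWC hinvW hC' hWreal hCreal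

/-- PK-REAL -/
theorem realOver_of_pow_prime_eq_one {F : Type*} [Field F] [Fintype F] {p : ℕ} [Fact p.Prime]
    [CharP F p] (F₀ : Subfield F) (q₀ r : ℕ) [Fact r.Prime] (hrp : r ≠ p)
    (hF₀ : Nat.card ↥F₀ = q₀) (hq : Fintype.card F = q₀ ^ r)
    {V : Type u} [AddCommGroup V] [Module F V] [FiniteDimensional F V] (y : V →ₗ[F] V)
    (hy : y ^ r = 1) : RealOver F₀ y :=
  real_aux F₀ q₀ r hrp hF₀ hq (finrank F V) V y hy rfl

end Cfsg.Agent.Lib.Helper6.SubF
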