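import Mathlib
import Cfsg.Agent.Lib.Helper7.SubfDefs
import Cfsg.Agent.Lib.Helper7.SubfDefs2
import Cfsg.Agent.Lib.Helper3.Subf_N

/-! # S5639, PK-D: the no-kill lemma -/

set_option autoImplicit false

namespace Cfsg.Agent.Lib.Helper7.Subf

open Matrix

variable {F : Type*} [Field F] {n : ℕ}

/-- a non-zero rational vector killed by a non-zero rational functional (`n ≥ 2`) -/
theorem exists_rat_ne_zero_kill (hn : 2 ≤ n) (F₀ : Subfield F) (φ : Fin n → F) (hφ : Rat F₀ φ)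
    (hφ0 : φ ≠ 0) : ∃ u : Fin n → F, Rat F₀ u ∧ u ≠ 0 ∧ φ ⬝ᵥ u = 0 := by
  classical
  obtain ⟨i, hi⟩ := Function.ne_iff.mp hφ0
  rw [Pi.zero_apply] at hi
  obtain ⟨j, hj⟩ : ∃ j : Fin n, j ≠ i := by
    by_contra hcon
    push Not at hcon
    have h1 : (⟨0, by omega⟩ : Fin n) = i := hcon _
    have h2 : (⟨1, by omega⟩ : Fin n) = i := hcon _
    have := congrArg Fin.val (h1.trans h2.symm)
    simp at this
  refine ⟨Pi.single j (φ i) - Pi.single i (φ j), (Rat.single F₀ j (hφ i)).sub (Rat.single F₀ i (hφ j)),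
    ?_, ?_⟩
  · intro h0
    have := congrFun h0 j
    rw [Pi.sub_apply, Pi.single_eq_same, Pi.single_eq_of_ne hj, sub_zero, Pi.zero_apply] at this
    exact hi this
  · rw [dotProduct_sub, dotProduct_single, dotProduct_single]
    ring

theorem no_kill (hn : 3 ≤ n) (F₀ : Subfield F) (M : Subgroup (GL (Fin n) F)) (hT : HasRatTv F₀ M)
    (hSL3 : SL3 F₀ M) : NK F₀ M := by
  classical
  intro g hg hnot v φ hv hφ hv0 hφ0 hzero
  apply hnot
  set A : Matrix (Fin n) (Fin n) F := (g : Matrix (Fin n) (Fin n) F) with hA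
  set B : Matrix (Fin n) (Fin n) F := ((g⁻¹ : GL (Fin n) F) : Matrix (Fin n) (Fin n) F) with hB
  have hAB : A * B = 1 := by
    rw [hA, hB, ← Units.val_mul, mul_inv_cancel, Units.val_one]
  obtain ⟨u, hu, hu0, hφu⟩ := exists_rat_ne_zero_kill (by omega) F₀ φ hφ hφ0
  obtain ⟨t, htM, ht⟩ := hT u φ hu hφ hφu
  -- the conjugate `x = g⁻¹ t g`
  have hxM : g⁻¹ * t * g ∈ M := M.mul_mem (M.mul_mem (M.inv_mem hg) htM) hg
  have hX : ((g⁻¹ * t * g : GL (Fin n) F) : Matrix (Fin n) (Fin n) F) =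
      tvm 1 (B *ᵥ u) (φ ᵥ* A) := by
    have h := conj_tvm (g⁻¹ : GL (Fin n) F) (1 : F) u φ
    rw [inv_inv] at h
    rw [Units.val_mul, Units.val_mul, ht]
    exact h
  set y : Fin n → F := φ ᵥ* A with hy
  set z : Fin n → F := B *ᵥ u with hz
  have hyv : y ⬝ᵥ v = 0 := by
    rw [hy, ← dotProduct_mulVec]
    exact hzero
  have hfix : ((g⁻¹ * t * g : GL (Fin n) F) : Matrix (Fin n) (Fin n) F) *ᵥ v = (1 : F) • v := by
    rw [hX, tvm_mulVec, hyv, mul_zero, zero_smul, add_zero, one_smul]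
  have hXrat : RatMat F₀ (tvm 1 z y) := by
    have h := hSL3 _ hxM v v 1 hv hv hv0 one_ne_zero hfix
    rw [inv_one, one_smul, hX] at h
    exact h
  -- `y ≠ 0`
  have hy0 : y ≠ 0 := by
    intro h0
    apply hφ0
    have : y ᵥ* B = φ := by rw [hy, vecMul_vecMul, hAB, vecMul_one]
    rw [← this, h0, zero_vecMul]
  obtain ⟨j₀, hj₀⟩ := Function.ne_iff.mp hy0
  rw [Pi.zero_apply] at hj₀
  -- the column `j₀` of `x - 1`
  have hr : Rat F₀ (fun i => z i * y j₀) := by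
    intro i
    have h1 := hXrat i j₀
    have h2 := RatMat.one F₀ (n := n) i j₀
    have e : z i * y j₀ = tvm 1 z y i j₀ - (1 : Matrix (Fin n) (Fin n) F) i j₀ := by
      rw [tvm, Matrix.add_apply, Matrix.smul_apply, vecMulVec_apply, one_smul]
      ring
    show z i * y j₀ ∈ F₀
    rw [e]
    exact F₀.sub_mem h1 h2
  have hzr : B *ᵥ u = (y j₀)⁻¹ • (fun i => z i * y j₀) := by
    ext i
    rw [Pi.smul_apply, smul_eq_mul]
    show z i = _
    field_simp
  have hBrat := hSL3 _ (M.inv_mem hg) u _ (y j₀)⁻¹ hu hr hu0 (inv_ne_zero hj₀) hzr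
  have hBN : InN F₀ B := ⟨((y j₀)⁻¹)⁻¹, inv_ne_zero (inv_ne_zero hj₀), hBrat⟩
  have := inN_inv F₀ (g⁻¹ : GL (Fin n) F) hBN
  rwa [inv_inv] at this

end Cfsg.Agent.Lib.Helper7.Subf
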