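import Mathlib
import Cfsg.Agent.Lib.Helper7.SubfDefs
import Cfsg.Agent.Lib.Helper7.SubfDefs2

/-! # S5639, PK-H: all products rational ⟹ rational points go to rational points -/

set_option autoImplicit false

namespace Cfsg.Agent.Lib.Helper7.Subf

open Matrix

variable {F : Type*} [Field F] {n : ℕ}

/-- a vector outside the line of a rational vector is detected by a rational functional killing that vector -/
theorem exists_rat_kill_not_kill (F₀ : Subfield F) (v' u : Fin n → F) (hv' : Rat F₀ v') (i : Fin n)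
    (hi : v' i ≠ 0) (hu : ¬ ∃ t : F, u = t • v') :
    ∃ φ' : Fin n → F, Rat F₀ φ' ∧ φ' ⬝ᵥ v' = 0 ∧ φ' ⬝ᵥ u ≠ 0 := by
  by_contra hcon
  push Not at hcon
  apply hu
  refine ⟨u i / v' i, ?_⟩
  ext j
  have hr : Rat F₀ (Pi.single j (v' i) - Pi.single i (v' j) : Fin n → F) :=
    (Rat.single F₀ j (hv' i)).sub (Rat.single F₀ i (hv' j))
  have h0 : (Pi.single j (v' i) - Pi.single i (v' j) : Fin n → F) ⬝ᵥ v' = 0 := by
    rw [sub_dotProduct, single_dotProduct, single_dotProduct]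
    ring
  have h1 := hcon _ hr h0
  rw [sub_dotProduct, single_dotProduct, single_dotProduct] at h1
  rw [Pi.smul_apply, smul_eq_mul]
  field_simp
  linear_combination h1

/-- two distinct indices outside `{a, b}` when `n ≥ 4` -/
theorem exists_two_ne (hn : 4 ≤ n) (a b : Fin n) :
    ∃ k₁ k₂ : Fin n, k₁ ≠ k₂ ∧ k₁ ≠ a ∧ k₁ ≠ b ∧ k₂ ≠ a ∧ k₂ ≠ b := by
  classical
  have hc : 1 < ((Finset.univ.erase a).erase b : Finset (Fin n)).card := by
    have h1 : (Finset.univ.erase a : Finset (Fin n)).card = n - 1 := by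
      rw [Finset.card_erase_of_mem (Finset.mem_univ a), Finset.card_univ, Fintype.card_fin]
    have h2 := Finset.pred_card_le_card_erase (s := (Finset.univ.erase a : Finset (Fin n))) (a := b)
    omega
  obtain ⟨k₁, hk₁, k₂, hk₂, hne⟩ := Finset.one_lt_card.mp hc
  simp only [Finset.mem_erase, Finset.mem_univ, and_true] at hk₁ hk₂
  exact ⟨k₁, k₂, hne, hk₁.2, hk₁.1, hk₂.2, hk₂.1⟩

theorem rank_one_of_products (hn : 4 ≤ n) (F₀ : Subfield F) (g : GL (Fin n) F) (v' : Fin n → F)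
    (hv' : Rat F₀ v') (hv'0 : v' ≠ 0)
    (H : ∀ v φ φ' : Fin n → F, Rat F₀ v → Rat F₀ φ → Rat F₀ φ' → φ ⬝ᵥ v = 0 → φ' ⬝ᵥ v' = 0 →
      (φ ⬝ᵥ ((g : Matrix (Fin n) (Fin n) F) *ᵥ v')) *
        (φ' ⬝ᵥ (((g⁻¹ : GL (Fin n) F) : Matrix (Fin n) (Fin n) F) *ᵥ v)) ∈ F₀) :
    ∃ (c : F) (v₂ : Fin n → F), c ≠ 0 ∧ Rat F₀ v₂ ∧
      (g : Matrix (Fin n) (Fin n) F) *ᵥ v' = c • v₂ := by
  classical
  set A : Matrix (Fin n) (Fin n) F := (g : Matrix (Fin n) (Fin n) F) with hA
  set B : Matrix (Fin n) (Fin n) F := ((g⁻¹ : GL (Fin n) F) : Matrix (Fin n) (Fin n) F) with hB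
  have hAB : A * B = 1 := by
    rw [hA, hB, ← Units.val_mul, mul_inv_cancel, Units.val_one]
  have hBA : B * A = 1 := by
    rw [hA, hB, ← Units.val_mul, inv_mul_cancel, Units.val_one]
  set w : Fin n → F := A *ᵥ v' with hw
  have hw0 : w ≠ 0 := by
    intro h0
    apply hv'0
    have : B *ᵥ w = v' := by rw [hw, mulVec_mulVec, hBA, one_mulVec]
    rw [← this, h0, mulVec_zero]
  obtain ⟨a, ha⟩ := Function.ne_iff.mp hw0
  rw [Pi.zero_apply] at ha
  obtain ⟨i, hi⟩ := Function.ne_iff.mp hv'0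
  rw [Pi.zero_apply] at hi
  -- the key claim
  have key : ∀ b : Fin n, w b * (w a)⁻¹ ∈ F₀ := by
    intro b
    obtain ⟨k₁, k₂, hne, h1a, h1b, h2a, h2b⟩ := exists_two_ne hn a b
    -- one of the two `B e_k` is not on the line of `v'`
    have hex : ∃ k : Fin n, k ≠ a ∧ k ≠ b ∧ ¬ ∃ t : F, B *ᵥ (Pi.single k 1) = t • v' := by
      by_contra hcon
      push Not at hcon
      obtain ⟨t₁, ht₁⟩ := hcon k₁ h1a h1b
      obtain ⟨t₂, ht₂⟩ := hcon k₂ h2a h2b
      have e₁ : (Pi.single k₁ 1 : Fin n → F) = t₁ • w := by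
        have : A *ᵥ (B *ᵥ (Pi.single k₁ 1)) = Pi.single k₁ 1 := by
          rw [mulVec_mulVec, hAB, one_mulVec]
        rw [← this, ht₁, mulVec_smul]
      have e₂ : (Pi.single k₂ 1 : Fin n → F) = t₂ • w := by
        have : A *ᵥ (B *ᵥ (Pi.single k₂ 1)) = Pi.single k₂ 1 := by
          rw [mulVec_mulVec, hAB, one_mulVec]
        rw [← this, ht₂, mulVec_smul]
      have f1 := congrFun e₁ k₁
      have f2 := congrFun e₂ k₁
      have f3 := congrFun e₂ k₂
      rw [Pi.single_eq_same, Pi.smul_apply, smul_eq_mul] at f1 f3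
      rw [Pi.single_eq_of_ne hne, Pi.smul_apply, smul_eq_mul] at f2
      have hwk : w k₁ ≠ 0 := by
        intro h0
        rw [h0, mul_zero] at f1
        exact one_ne_zero f1
      have ht20 : t₂ = 0 := by
        rcases mul_eq_zero.mp f2.symm with h | h
        · exact h
        · exact absurd h hwk
      rw [ht20, zero_mul] at f3
      exact one_ne_zero f3
    obtain ⟨k, hka, hkb, hk⟩ := hex
    obtain ⟨φ', hφ'r, hφ'v, hφ'u⟩ := exists_rat_kill_not_kill F₀ v' _ hv' i hi hk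
    set c' : F := φ' ⬝ᵥ (B *ᵥ (Pi.single k 1)) with hc'
    have Ha := H (Pi.single k 1) (Pi.single a 1) φ' (Rat.single F₀ k F₀.one_mem)
      (Rat.single F₀ a F₀.one_mem) hφ'r
      (by rw [single_dotProduct, one_mul, Pi.single_eq_of_ne (Ne.symm hka)]) hφ'v
    have Hb := H (Pi.single k 1) (Pi.single b 1) φ' (Rat.single F₀ k F₀.one_mem)
      (Rat.single F₀ b F₀.one_mem) hφ'r
      (by rw [single_dotProduct, one_mul, Pi.single_eq_of_ne (Ne.symm hkb)]) hφ'v
    rw [single_dotProduct, one_mul] at Ha Hb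
    have e : w b * (w a)⁻¹ = (w b * c') * (w a * c')⁻¹ := by
      field_simp
    rw [e]
    exact F₀.mul_mem Hb (F₀.inv_mem Ha)
  refine ⟨w a, (w a)⁻¹ • w, ha, ?_, ?_⟩
  · intro b
    rw [Pi.smul_apply, smul_eq_mul, mul_comm]
    exact key b
  · rw [smul_smul, mul_inv_cancel₀ ha, one_smul]

end Cfsg.Agent.Lib.Helper7.Subf
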