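import Mathlib
import Cfsg.Prelude.Def_LieTwisted
import Cfsg.Agent.Lib.Helper3.SylAbGen2
import Cfsg.Agent.Lib.Helper3.F4T15
import Cfsg.Agent.S1068
import Cfsg.Agent.S1090
set_option autoImplicit false
set_option linter.unusedSectionVars false
open Cfsg Cfsg.Lie

/-!
The Sylow 2-subgroups of the Ree groups `²F₄(q)`, `q = 2^(2m+1) ≥ 8`, have an elementary abelian abelianisation.
-/

namespace Cfsg.Agent.Lib.Helper3.SylAb

open Cfsg.Agent.Lib.Helper3.ChevM Cfsg.Agent.Lib.Helper3.ChevSp Cfsg.Agent.Lib.Helper3.ChevAt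
open Cfsg.Agent.Lib.Helper3 ChevU ChevT
open scoped commutatorElement

section abs
variable {K : Type*} [Field K] {C : CDatum} {R : RelData C} (A : AbsTw C R K) (H : AtHyp C R)

/-- the fixed points of the twisting automorphism on `U_w⁻`, as a subgroup -/
def fixUSub (w : List ℕ) : Subgroup (GL C.D.Idx K) where
  carrier := A.fixU w
  mul_mem' := by
    rintro x y ⟨hx, hxf⟩ ⟨hy, hyf⟩
    have hxG : x ∈ C.D.group K := R.posUnipotent_le_group (uMinus_le_posUnipotent C.D _ hx)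
    have hyG : y ∈ C.D.group K := R.posUnipotent_le_group (uMinus_le_posUnipotent C.D _ hy)
    refine ⟨Subgroup.mul_mem _ hx hy, ?_⟩
    rw [A.sg_mul hxG hyG, hxf, hyf]
  one_mem' := ⟨Subgroup.one_mem _, A.sg_one⟩
  inv_mem' := by
    rintro x ⟨hx, hxf⟩
    have hxG : x ∈ C.D.group K := R.posUnipotent_le_group (uMinus_le_posUnipotent C.D _ hx)
    refine ⟨Subgroup.inv_mem _ hx, ?_⟩
    rw [A.sg_inv hxG, hxf]

theorem mem_fixUSub (w : List ℕ) (g : GL C.D.Idx K) : g ∈ fixUSub A w ↔ g ∈ A.fixU w := Iff.rfl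

include H in
theorem genSq_fixUSub_append (w' J : List ℕ) (hw' : ∀ i ∈ w', i < C.D.rank) (hJ : ∀ i ∈ J, i < C.D.rank)
    (hadd : addCheck C.D R.refl w' J = true) (hadd2 : addCheck2 C.D R.refl w' J = true)
    (hfJ : A.sg (R.nWordU (F := K) J) = R.nWordU J) (hfw : A.sg (R.nWordU (F := K) w') = R.nWordU w')
    (gJ : GenSq (fixUSub A J)) (gw : GenSq (fixUSub A w')) : GenSq (fixUSub A (w' ++ J)) := by
  have e : fixUSub A (w' ++ J) =
      fixUSub A J ⊔ (fixUSub A w').map (MulAut.conj (R.nWordU (F := K) J)⁻¹).toMonoidHom := by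
    apply le_antisymm
    · intro g hg
      obtain ⟨x, hx, y, hy, rfl⟩ := A.fixU_factor H w' J hw' hJ hadd hfJ hfw g hg
      refine Subgroup.mul_mem _ (Subgroup.mem_sup_left hx) (Subgroup.mem_sup_right ⟨y, hy, ?_⟩)
      simp
    · apply sup_le
      · intro x hx
        have := A.fixU_factor_mem H w' J hw' hJ hadd hadd2 hfJ x 1 hx (fixUSub A w').one_mem
        rw [mem_fixUSub]
        simpa using this
      · rintro _ ⟨y, hy, rfl⟩
        have := A.fixU_factor_mem H w' J hw' hJ hadd hadd2 hfJ 1 y (fixUSub A J).one_mem hy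
        rw [mem_fixUSub]
        simpa [MulAut.conj_apply] using this
  rw [e]
  exact gJ.sup (gw.map _)

end abs

open Cfsg.Agent.Lib.Helper3.RF4

section f4
variable {K : Type*} [Field K] [Fintype K] [CharP K 2]

theorem pow_succ_injective (m : ℕ) (hK : Fintype.card K = 2 ^ (2 * m + 1)) {x y : K}
    (h : x ^ (2 ^ m + 1) = y ^ (2 ^ m + 1)) : x = y := by
  by_cases hy : y = 0
  · subst hy
    rw [zero_pow (Nat.succ_ne_zero _)] at h
    exact pow_eq_zero_iff (Nat.succ_ne_zero _) |>.mp h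
  · have hx : x ≠ 0 := by
      rintro rfl
      rw [zero_pow (Nat.succ_ne_zero _)] at h
      exact hy (pow_eq_zero_iff (Nat.succ_ne_zero _) |>.mp h.symm)
    set z := x / y with hz
    have hz1 : z ^ (2 ^ m + 1) = 1 := by
      rw [hz, div_pow, h, div_self (pow_ne_zero _ hy)]
    have hz0 : z ≠ 0 := div_ne_zero hx hy
    have hzq : z ^ (Fintype.card K - 1) = 1 := FiniteField.pow_card_sub_one_eq_one z hz0
    have hθ1 : 1 ≤ 2 ^ m := Nat.one_le_two_pow
    have e : Fintype.card K - 1 = (2 ^ m + 1) * (2 * 2 ^ m - 2) + 1 := by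
      rw [hK]
      have h1 : 2 ^ (2 * m + 1) = 2 * (2 ^ m * 2 ^ m) := by
        rw [← pow_add, ← pow_succ']; congr 1; omega
      rw [h1]
      have h2 : (2 ^ m + 1) * (2 * 2 ^ m - 2) = 2 * (2 ^ m * 2 ^ m) - 2 := by
        zify [hθ1, (by nlinarith : 2 ≤ 2 * 2 ^ m), (by nlinarith : 2 ≤ 2 * (2 ^ m * 2 ^ m))]
        ring
      rw [h2]
      have : 2 ≤ 2 * (2 ^ m * 2 ^ m) := by nlinarith
      omega
    rw [e, pow_succ, pow_mul, hz1, one_pow, one_mul] at hzq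
    rw [hz, div_eq_one_iff_eq hy] at hzq
    exact hzq

theorem pow_succ_surjective (m : ℕ) (hK : Fintype.card K = 2 ^ (2 * m + 1)) (y : K) :
    ∃ x : K, x ^ (2 ^ m + 1) = y := by
  have : Function.Injective (fun x : K => x ^ (2 ^ m + 1)) := fun a b h => pow_succ_injective m hK h
  exact (Finite.injective_iff_bijective.mp this).2 y

theorem exists_pow_ne (m : ℕ) (hm : 1 ≤ m) (hK : Fintype.card K = 2 ^ (2 * m + 1)) :
    ∃ c : K, c ^ 2 ^ m ≠ c := by
  by_contra h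
  simp only [not_exists, not_not] at h
  have hθ := thetaHyp2_of_card (K := K) m hK
  obtain ⟨τ, h0, h1⟩ := exists_ne_zero_one m hm hK
  have e1 := hθ.inv τ
  rw [h τ, pow_mul, h (τ ^ 2)] at e1
  have : τ * (τ - 1) = 0 := by rw [mul_sub, mul_one, ← pow_two, e1, sub_self]
  rcases mul_eq_zero.mp this with h2 | h2
  · exact h0 h2
  · exact h1 (sub_eq_zero.mp h2)

theorem clsP_commutator (m : ℕ) (hK : Fintype.card K = 2 ^ (2 * m + 1)) (a c : K) :
    ⁅clsP (2 ^ m) a 0, clsP (2 ^ m) c 0⁆ = clsP (2 ^ m) 0 (a ^ 2 ^ m * c + c ^ 2 ^ m * a) := by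
  have hθ := thetaHyp2_of_card (K := K) m hK
  have hθ0 : (2 : ℕ) ^ m ≠ 0 := pow_ne_zero _ (by norm_num)
  rw [commutatorElement_def, mul_inv_eq_iff_eq_mul, mul_inv_eq_iff_eq_mul, clsP_mul hθ, clsP_mul hθ, clsP_mul hθ]
  congr 1
  · rw [zero_add, add_comm]
  · have h2 : c ^ 2 ^ m * a + c ^ 2 ^ m * a = 0 := CharTwo.add_self_eq_zero _
    simp only [zero_pow hθ0, zero_add, add_zero, zero_mul]
    linear_combination (-1 : K) * h2

theorem genSq_fixUSub_wJ1 (m : ℕ) (hK : Fintype.card K = 2 ^ (2 * m + 1)) :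
    GenSq (fixUSub (f4Tw (K := K) m) wJ1) := by
  have hθ := thetaHyp2_of_card (K := K) m hK
  have hθ0 : (2 : ℕ) ^ m ≠ 0 := pow_ne_zero _ (by norm_num)
  apply genSq_of_sq_eq_one
  intro x hx
  obtain ⟨t, rfl⟩ := (fixU_wJ1 m hK x).mp hx
  rw [pow_two, ← pairP_add hθ, CharTwo.add_self_eq_zero, pairP_zero _ hθ0]

theorem genSq_fixUSub_wJ2 (m : ℕ) (hm : 1 ≤ m) (hK : Fintype.card K = 2 ^ (2 * m + 1)) :
    GenSq (fixUSub (f4Tw (K := K) m) wJ2) := by
  have hθ := thetaHyp2_of_card (K := K) m hK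
  have hθ0 : (2 : ℕ) ^ m ≠ 0 := pow_ne_zero _ (by norm_num)
  intro x hx
  obtain ⟨t, u, rfl⟩ := (fixU_wJ2 m hK x).mp hx
  have hmem : ∀ t u : K, clsP (2 ^ m) t u ∈ fixUSub (f4Tw (K := K) m) wJ2 :=
    fun t u => (fixU_wJ2 m hK _).mpr ⟨t, u, rfl⟩
  have hsq : clsP (2 ^ m) t u ^ 2 = clsP (2 ^ m) 0 (t ^ 2 ^ m * t) := by
    rw [pow_two, clsP_mul hθ, CharTwo.add_self_eq_zero, CharTwo.add_self_eq_zero, zero_add]
  rw [hsq]
  obtain ⟨c, hc⟩ := exists_pow_ne (K := K) m hm hK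
  have hw : c + c ^ 2 ^ m ≠ 0 := by
    intro h
    apply hc
    have : c ^ 2 ^ m = -c := by rw [eq_neg_iff_add_eq_zero, add_comm]; exact h
    rw [this, CharTwo.neg_eq]
  obtain ⟨l, hl⟩ := pow_succ_surjective (K := K) m hK ((t ^ 2 ^ m * t) * (c + c ^ 2 ^ m)⁻¹)
  have e : clsP (2 ^ m) 0 (t ^ 2 ^ m * t) = ⁅clsP (2 ^ m) l 0, clsP (2 ^ m) (l * c) 0⁆ := by
    rw [clsP_commutator m hK]
    congr 1
    have : l ^ 2 ^ m * (l * c) + (l * c) ^ 2 ^ m * l = l ^ (2 ^ m + 1) * (c + c ^ 2 ^ m) := by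
      rw [mul_pow, pow_succ]; ring
    rw [this, hl, inv_mul_cancel_right₀ hw]
  rw [e]
  exact Subgroup.commutator_mem_commutator (hmem _ _) (hmem _ _)

/-- the fixed points on `U_w⁻` for the alternating words -/
theorem genSq_chain (m : ℕ) (hm : 1 ≤ m) (hK : Fintype.card K = 2 ^ (2 * m + 1)) (k : ℕ) (hk : k ≤ 8) :
    GenSq (fixUSub (f4Tw (K := K) m) (altWord k)) ∧ GenSq (fixUSub (f4Tw (K := K) m) (altWord' k)) := by
  have h1 : ∀ i ∈ wJ1, i < cdF4.D.rank := by decide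
  have h2 : ∀ i ∈ wJ2, i < cdF4.D.rank := by decide
  induction k with
  | zero =>
    have e0 : altWord 0 = [] := rfl
    have e0' : altWord' 0 = [] := rfl
    have hb : GenSq (fixUSub (f4Tw (K := K) m) []) := by
      apply genSq_of_sq_eq_one
      intro x hx
      rw [mem_fixUSub, (f4Tw (K := K) m).fixU_nil atHypF4, Set.mem_singleton_iff] at hx
      rw [hx, one_pow]
    rw [e0, e0']
    exact ⟨hb, hb⟩
  | succ k ih =>
    have hk8 : k < 8 := by omega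
    obtain ⟨g1, g2⟩ := ih (by omega)
    obtain ⟨ew, ew'⟩ := altWord_succ_eq k hk8
    obtain ⟨a1, a2, a3, a4⟩ := alt_addCheck k hk8
    refine ⟨?_, ?_⟩
    · rw [ew]
      exact genSq_fixUSub_append (f4Tw (K := K) m) atHypF4 (altWord' k) wJ1 (altWord'_lt k) h1 a1 a2
        (sg_wJ1 m hK) (sg_altWord' m hK k) (genSq_fixUSub_wJ1 m hK) g2
    · rw [ew']
      exact genSq_fixUSub_append (f4Tw (K := K) m) atHypF4 (altWord k) wJ2 (altWord_lt k) h2 a3 a4
        (sg_wJ2 m hK) (sg_altWord m hK k) (genSq_fixUSub_wJ2 m hm hK) g1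

theorem genSq_pos_inf_tF4 (m : ℕ) (hm : 1 ≤ m) (hK : Fintype.card K = 2 ^ (2 * m + 1)) :
    GenSq (cdF4.D.posUnipotent K ⊓ tF4 K (2 ^ m)) := by
  have e : cdF4.D.posUnipotent K ⊓ tF4 K (2 ^ m) = fixUSub (f4Tw (K := K) m) (altWord 8) := by
    ext g
    rw [mem_fixUSub]
    exact mem_pos_inf_tF4 m hK g
  rw [e]
  exact (genSq_chain m hm hK 8 le_rfl).1

end f4

/-- PK-2F4 -/
theorem sqComm_twistedF4 {K : Type*} [Field K] [Fintype K] (m : ℕ) (hm : 1 ≤ m)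
    (hK : Fintype.card K = 2 ^ (2 * m + 1)) : SqComm (Cfsg.Lie.twistedF4 K (2 ^ m)) := by
  have : Fact (Nat.Prime 2) := ⟨by norm_num⟩
  have : CharP K 2 := charP_of_card_eq_prime_pow hK
  have hev : Even (2 ^ (2 * m + 1)) := (Nat.even_pow.mpr ⟨even_two, by omega⟩)
  have hpos : 0 < 2 ^ (2 * m + 1) := by positivity
  have hcardU := Cfsg.Agent.S1090.result hK
  have hcardG := Cfsg.Agent.S1068.result hK
  have hgen : GenSq (Cfsg.Lie.chevF4.posUnipotent K ⊓ Cfsg.Lie.twistedF4 K (2 ^ m)) :=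
    genSq_pos_inf_tF4 (K := K) m hm hK
  apply sqComm_subgroup_of_card_inf (Cfsg.Lie.twistedF4 K (2 ^ m)) (Cfsg.Lie.chevF4.posUnipotent K)
    ((2 * m + 1) * 12) 1
    ((2 ^ (2 * m + 1) - 1) * ((2 ^ (2 * m + 1)) ^ 3 + 1) * ((2 ^ (2 * m + 1)) ^ 4 - 1) *
      ((2 ^ (2 * m + 1)) ^ 6 + 1)) _ _ _ hgen
  · rw [hcardU, ← pow_mul]
  · rw [hcardG, pow_mul]; ring
  · have h1 : Odd (2 ^ (2 * m + 1) - 1) := by
      have := odd_pow_sub_one hev hpos 1 (by norm_num)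
      rwa [pow_one] at this
    exact ((h1.mul (odd_pow_add_one hev 3 (by norm_num))).mul (odd_pow_sub_one hev hpos 4 (by norm_num))).mul
      (odd_pow_add_one hev 6 (by norm_num))

end Cfsg.Agent.Lib.Helper3.SylAb
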