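import Mathlib
import Cfsg.Prelude.Def_Sz
import Cfsg.Agent.Lib.Helper3.SylAbGen
import Cfsg.Agent.Lib.Helper3.Sz21
set_option autoImplicit false
set_option linter.unusedSectionVars false

/-!
The Sylow 2-subgroups of the Suzuki groups have an elementary abelian abelianisation.
-/

namespace Cfsg.Agent.Lib.Helper3.SylAb

open Cfsg.Agent.Lib.Helper3.Sz
open scoped commutatorElement

section
variable {F : Type*} [Field F] [CharP F 2] (T : Tits F)

theorem uG_commutator (a c : F) : ⁅uG T a 0, uG T c 0⁆ = uG T 0 (T.θ a * c + T.θ c * a) := by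
  rw [commutatorElement_def, mul_inv_eq_iff_eq_mul, mul_inv_eq_iff_eq_mul, uG_mul, uG_mul, uG_mul]
  congr 1
  · rw [zero_add, add_comm]
  · have h2 : T.θ c * a + T.θ c * a = 0 := CharTwo.add_self_eq_zero _
    simp only [map_zero, zero_add, add_zero, zero_mul]
    linear_combination (-1 : F) * h2

theorem exists_theta_ne [Fintype F] (hT : T.IsPow) : ∃ c : F, T.θ c ≠ c := by
  classical
  by_contra h
  simp only [not_exists, not_not] at h
  obtain ⟨s, hs2, hs, -⟩ := hT
  have hsq : ∀ x : F, x ^ 2 = x := by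
    intro x
    rw [← T.sq, h, h]
  have hsub : (Finset.univ : Finset F) ⊆ {0, 1} := by
    intro x _
    have h1 : x * (x - 1) = 0 := by
      have := hsq x
      rw [mul_sub, mul_one, ← pow_two, this, sub_self]
    rcases mul_eq_zero.mp h1 with h2 | h2
    · simp [h2]
    · have : x = 1 := by rwa [sub_eq_zero] at h2
      simp [this]
  have h1 := Finset.card_le_card hsub
  have h2 : ({0, 1} : Finset F).card ≤ 2 := Finset.card_le_two
  rw [Finset.card_univ] at h1
  omega

theorem genSq_Usub [Fintype F] (hT : T.IsPow) : GenSq (Usub T) := by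
  rintro x ⟨a, b, rfl⟩
  rw [uG_sq]
  obtain ⟨c, hc⟩ := exists_theta_ne T hT
  have hw : c + T.θ c ≠ 0 := by
    intro h
    apply hc
    have : T.θ c = -c := by rw [eq_neg_iff_add_eq_zero, add_comm]; exact h
    rw [this, CharTwo.neg_eq]
  obtain ⟨l, hl⟩ := T.norm_surjective ((a * T.θ a) * (c + T.θ c)⁻¹)
  have e : uG T 0 (a * T.θ a) = ⁅uG T l 0, uG T (l * c) 0⁆ := by
    rw [uG_commutator]
    congr 1
    have : T.θ l * (l * c) + T.θ (l * c) * l = (l * T.θ l) * (c + T.θ c) := by
      rw [map_mul]; ring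
    rw [this, hl, inv_mul_cancel_right₀ hw]
  rw [e]
  exact Subgroup.commutator_mem_commutator (uG_mem_Usub T _ _) (uG_mem_Usub T _ _)

end

/-- PK-SZ -/
theorem sqComm_Sz {F : Type*} [Field F] [Fintype F] (m : ℕ) (hm : 1 ≤ m)
    (hF : Fintype.card F = 2 ^ (2 * m + 1)) : SqComm (Cfsg.Lie.Sz F (2 ^ (m + 1))) := by
  have := charP_two_of_card hF
  have hT := titsOfCard_isPow hm hF
  have he : ∀ x, (titsOfCard hF).θ x = x ^ 2 ^ (m + 1) := titsOfCard_apply hF
  have hL : Cfsg.Lie.Sz F (2 ^ (m + 1)) = GamGL (titsOfCard hF) := lieSz_eq (titsOfCard hF) hT he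
  let E : Gam (titsOfCard hF) ≃* ↥(Cfsg.Lie.Sz F (2 ^ (m + 1))) :=
    (gamEquiv (titsOfCard hF)).trans (MulEquiv.subgroupCongr hL.symm)
  have h1 : SqComm (Gam (titsOfCard hF)) := by
    apply sqComm_of_sylow (sylU (titsOfCard hF) hT)
    rw [sylU_coe]
    exact genSq_Usub (titsOfCard hF) hT
  exact h1.of_mulEquiv E

end Cfsg.Agent.Lib.Helper3.SylAb
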