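import Mathlib
import Cfsg.Prelude.Def_LieTwisted
import Cfsg.Agent.Lib.Helper3.SylAbGen2
import Cfsg.Agent.Lib.Helper3.ChevTw10
import Cfsg.Agent.S1066
import Cfsg.Agent.S1067
import Cfsg.Agent.S1086
import Cfsg.Agent.S1088
set_option autoImplicit false
set_option linter.unusedSectionVars false
open Cfsg Cfsg.Lie

/-!
The Sylow 2-subgroups of the twisted groups `²E₆(q)` and `³D₄(q)`, `q` even, have an elementary abelian
abelianisation: `U ∩ G¹` is generated by involutions.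
-/

namespace Cfsg.Agent.Lib.Helper3.SylAb

open Cfsg.Agent.Lib.Helper3.ChevM Cfsg.Agent.Lib.Helper3 ChevU

section
variable {K : Type*} [Field K] [Fintype K] [CharP K 2] {C : CDatum} {R : RelData C} (H : TwHyp C R) (φ : K →+* K)

/-- the fixed points of the twisting automorphism on `U` are generated by involutions -/
theorem genSq_posUnipotent_inf_grp : GenSq (C.D.posUnipotent K ⊓ H.grp φ) := by
  apply genSq_of_forall_mem_closure
  intro g hg
  have hg' := hg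
  rw [H.posUnipotent_inf_grp φ] at hg'
  obtain ⟨hgU, hgfix⟩ := Subgroup.mem_inf.mp hg'
  rw [mem_fixG] at hgfix
  obtain ⟨t, -, rfl, htw'⟩ := H.U.exists_fix_coords H.G φ H.CL H.clOk H.len g hgU hgfix
  obtain ⟨hnd, hmem, hS⟩ := twPosClsCheck_spec H.clOk
  rw [R.lp_flatten]
  apply Subgroup.list_prod_mem
  intro x hx
  obtain ⟨S, hSm, rfl⟩ := List.mem_map.mp hx
  apply Subgroup.subset_closure
  obtain ⟨-, hperm, hcomm⟩ := hS S hSm
  have hpos : ∀ r ∈ S, C.D.IsPosRoot r := fun r hr => (hmem r).mp (List.mem_flatten.mpr ⟨S, hSm, hr⟩)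
  have hlt : ∀ r ∈ S, r < C.D.nroots := fun r hr => (hpos r hr).1
  have hc : ∀ r ∈ S, ∀ s ∈ S, ∀ a b : K, R.xU r a * R.xU s b = R.xU s b * R.xU r a :=
    fun r hr s hs a b => H.U.K.xU_comm r s (hlt r hr) (hlt s hs) (hcomm r hr s hs) a b
  have hsq : R.lp S t ^ 2 = 1 := by
    rw [pow_two, R.lp_add S hc]
    have : (fun r => t r + t r) = fun _ => (0 : K) := by
      funext r; exact CharTwo.add_self_eq_zero _
    rw [this, R.lp_zero]
  have hmemP : R.lp S t ∈ C.D.posUnipotent K ⊓ H.grp φ := by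
    rw [H.posUnipotent_inf_grp φ]
    refine Subgroup.mem_inf.mpr ⟨?_, ?_⟩
    · have hle : R.xGrp K S ≤ C.D.posUnipotent K := by
        unfold RelData.xGrp ChevalleyDatum.posUnipotent
        apply Subgroup.closure_mono
        rintro x ⟨s, hs, a, rfl⟩
        exact ⟨s, a, hpos s hs, rfl⟩
      exact hle (R.lp_mem_xGrp S t)
    · rw [mem_fixG]
      rw [H.G.sig_lp φ S hlt t]
      have hc' : ∀ r ∈ S.map H.G.rho, ∀ s ∈ S.map H.G.rho, ∀ a b : K,
          R.xU r a * R.xU s b = R.xU s b * R.xU r a := by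
        intro r hr s hs a b
        exact hc r (hperm.subset hr) s (hperm.subset hs) a b
      rw [R.lp_perm _ _ hperm _ hc']
      apply R.lp_congr
      intro s hs
      exact htw' s (List.mem_flatten.mpr ⟨S, hSm, hs⟩)
  refine ⟨hmemP, ?_⟩
  rw [hsq]
  exact Subgroup.one_mem _

end

/-- PK-TW, `²E₆` -/
theorem sqComm_twistedE6 {K : Type*} [Field K] [Fintype K] [CharP K 2] (q : ℕ) (hq : IsPrimePow q)
    (hK : Fintype.card K = q ^ 2) : SqComm (Cfsg.Lie.twistedE6 K q) := by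
  obtain ⟨n, hn0, hn⟩ := exists_card_eq_two_pow K
  obtain ⟨j, hj0, rfl⟩ := exists_two_pow_of_pow_eq hq.one_lt (by norm_num : 0 < 2) (hK.symm.trans hn)
  have hev : Even (2 ^ j) := (Nat.even_pow.mpr ⟨even_two, by omega⟩)
  have hpos : 0 < 2 ^ j := by positivity
  have hcardU := Cfsg.Agent.S1086.result hq hK
  have hcardG := Cfsg.Agent.S1066.result hq hK
  have hgen : GenSq (Cfsg.Lie.chevE6.posUnipotent K ⊓ Cfsg.Lie.twistedE6 K (2 ^ j)) := by
    obtain ⟨φ, hφ, hφd, hφ1⟩ := exists_frob K (2 ^ j) 2 hq (by norm_num) hK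
    rw [twistedE6_eq K (2 ^ j) φ hφ (fun t => hφd t)]
    exact genSq_posUnipotent_inf_grp twE6A φ
  apply sqComm_subgroup_of_card_inf (Cfsg.Lie.twistedE6 K (2 ^ j)) (Cfsg.Lie.chevE6.posUnipotent K) (j * 36)
    (Nat.gcd 3 (2 ^ j + 1))
    (((2 ^ j) ^ 2 - 1) * ((2 ^ j) ^ 5 + 1) * ((2 ^ j) ^ 6 - 1) * ((2 ^ j) ^ 8 - 1) * ((2 ^ j) ^ 9 + 1) *
      ((2 ^ j) ^ 12 - 1)) _ _ _ hgen
  · rw [hcardU, ← pow_mul]
  · rw [hcardG, pow_mul]; ring
  · exact ((((((odd_pow_sub_one hev hpos 2 (by norm_num)).mul (odd_pow_add_one hev 5 (by norm_num))).mul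
      (odd_pow_sub_one hev hpos 6 (by norm_num))).mul (odd_pow_sub_one hev hpos 8 (by norm_num))).mul
      (odd_pow_add_one hev 9 (by norm_num))).mul (odd_pow_sub_one hev hpos 12 (by norm_num)))

/-- PK-TW, `³D₄` -/
theorem sqComm_twistedD4 {K : Type*} [Field K] [Fintype K] [CharP K 2] (q : ℕ) (hq : IsPrimePow q)
    (hK : Fintype.card K = q ^ 3) : SqComm (Cfsg.Lie.twistedD4 K q) := by
  obtain ⟨n, hn0, hn⟩ := exists_card_eq_two_pow K
  obtain ⟨j, hj0, rfl⟩ := exists_two_pow_of_pow_eq hq.one_lt (by norm_num : 0 < 3) (hK.symm.trans hn)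
  have hev : Even (2 ^ j) := (Nat.even_pow.mpr ⟨even_two, by omega⟩)
  have hpos : 0 < 2 ^ j := by positivity
  have hcardU := Cfsg.Agent.S1088.result hq hK
  have hcardG := Cfsg.Agent.S1067.result hq hK
  have hgen : GenSq (Cfsg.Lie.chevD4.posUnipotent K ⊓ Cfsg.Lie.twistedD4 K (2 ^ j)) := by
    obtain ⟨φ, hφ, hφd, hφ1⟩ := exists_frob K (2 ^ j) 3 hq (by norm_num) hK
    rw [twistedD4_eq K (2 ^ j) φ hφ (fun t => hφd t)]
    exact genSq_posUnipotent_inf_grp twD4A φ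
  apply sqComm_subgroup_of_card_inf (Cfsg.Lie.twistedD4 K (2 ^ j)) (Cfsg.Lie.chevD4.posUnipotent K) (j * 12)
    1 (((2 ^ j) ^ 2 - 1) * ((2 ^ j) ^ 6 - 1) * ((2 ^ j) ^ 8 + (2 ^ j) ^ 4 + 1)) _ _ _ hgen
  · rw [hcardU, ← pow_mul]
  · rw [hcardG, pow_mul]; ring
  · refine ((odd_pow_sub_one hev hpos 2 (by norm_num)).mul (odd_pow_sub_one hev hpos 6 (by norm_num))).mul ?_
    have h1 : Even ((2 ^ j) ^ 8 + (2 ^ j) ^ 4) :=
      (Nat.even_pow.mpr ⟨hev, by norm_num⟩).add (Nat.even_pow.mpr ⟨hev, by norm_num⟩)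
    exact h1.add_one

end Cfsg.Agent.Lib.Helper3.SylAb
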