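import Mathlib
import Cfsg.Prelude.Def_LieTypeChar
import Cfsg.Agent.Lib.Helper3.SylAbGen2
import Cfsg.Agent.Lib.Helper3.SylAbSz
import Cfsg.Agent.Lib.Helper3.SylAbTw
import Cfsg.Agent.Lib.Helper3.SylAbF4
import Cfsg.Agent.Lib.Helper1.SylAb_SU
import Cfsg.Agent.Lib.Helper6.SylAb_SP
import Cfsg.Agent.Lib.Helper7.SylAb_SL
import Cfsg.Agent.Lib.Lead.SylAb_OP
import Cfsg.Agent.Lib.Lead.SylAb_OM
set_option autoImplicit false
open Cfsg

/-!
Assembly of the family packages: the Sylow 2-subgroups of the groups of Lie type in characteristic 2 have an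
elementary abelian abelianisation. The exceptional Chevalley groups enter as a hypothesis.
-/

namespace Cfsg.Agent.Lib.Helper3.SylAb

theorem sqComm_of_isLieTypeChar
    (hEXC : ∀ (F : Type) [Field F] [Fintype F] [CharP F 2] (D : Cfsg.Lie.ChevalleyDatum)
      (_ : D ∈ [Cfsg.Lie.chevG2, Cfsg.Lie.chevF4, Cfsg.Lie.chevE6, Cfsg.Lie.chevE7, Cfsg.Lie.chevE8]),
      SqComm (D.group F))
    {G : Type*} [Group G] [Finite G] (hG : Cfsg.IsLieTypeChar 2 G) : SqComm G := by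
  have key : ∀ {X : Type} [Group X], SqComm X → (G ≃* X) → SqComm G := by
    intro X _ h e
    have : Finite X := Finite.of_equiv G e.toEquiv
    exact h.of_mulEquiv e.symm
  rcases hG with h | h | h | h | h | h | h | h | h | h | h
  · obtain ⟨F, _, _, _, n, hn, hex, ⟨e⟩⟩ := h
    exact key (sqComm_PSL n hn hex) e
  · obtain ⟨F, _, _, _, m, hm, hex, ⟨e⟩⟩ := h
    exact key (sqComm_PSp m hm hex) e
  · obtain ⟨F, _, _, _, n, q, hq, hn, hex, ⟨e⟩⟩ := h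
    exact key (sqComm_PSU n q hq hn hex) e
  · obtain ⟨F, _, _, _, m, hm, hodd, -⟩ := h
    exfalso
    obtain ⟨n, hn0, hn⟩ := exists_card_eq_two_pow F
    rw [hn] at hodd
    exact (Nat.not_even_iff_odd.mpr hodd) (Nat.even_pow.mpr ⟨even_two, by omega⟩)
  · obtain ⟨F, _, _, _, m, hm, ⟨e⟩⟩ := h
    exact key (sqComm_POmegaPlus m hm) e
  · obtain ⟨F, _, _, _, m, a, b, hm, hab, ⟨e⟩⟩ := h
    exact key (sqComm_POmegaMinus m hm a b hab) e
  · obtain ⟨F, _, _, _, h⟩ := h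
    rcases h with ⟨-, ⟨e⟩⟩ | ⟨⟨e⟩⟩ | ⟨⟨e⟩⟩ | ⟨⟨e⟩⟩ | ⟨⟨e⟩⟩
    · exact key (hEXC F Cfsg.Lie.chevG2 (by simp)) e
    · exact key (hEXC F Cfsg.Lie.chevF4 (by simp)) e
    · exact key (hEXC F Cfsg.Lie.chevE6 (by simp)) e
    · exact key (hEXC F Cfsg.Lie.chevE7 (by simp)) e
    · exact key (hEXC F Cfsg.Lie.chevE8 (by simp)) e
  · obtain ⟨K, _, _, _, q, hq, h⟩ := h
    rcases h with ⟨hK, ⟨e⟩⟩ | ⟨hK, ⟨e⟩⟩
    · exact key (sqComm_twistedE6 q hq hK) e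
    · exact key (sqComm_twistedD4 q hq hK) e
  · obtain ⟨-, F, _, _, m, hm, hF, ⟨e⟩⟩ := h
    exact key (sqComm_Sz m hm hF) e
  · obtain ⟨-, K, _, _, m, hm, hK, ⟨e⟩⟩ := h
    exact key (sqComm_twistedF4 m hm hK) e
  · exact absurd h.1 (by norm_num)

end Cfsg.Agent.Lib.Helper3.SylAb
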