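import Mathlib
import Cfsg.Prelude.Def_LieChev
import Cfsg.Agent.Lib.Helper3.SylAbGen2
import Cfsg.Agent.S1027
import Cfsg.Agent.S1059
import Cfsg.Agent.S1062
import Cfsg.Agent.S1063
import Cfsg.Agent.S1064
import Cfsg.Agent.S1065
set_option autoImplicit false
set_option linter.unusedSectionVars false
open Cfsg Cfsg.Lie

/-!
The Sylow 2-subgroups of the exceptional Chevalley groups over fields of characteristic 2 have an elementary
abelian abelianisation: `U` is generated by the root elements, which are involutions.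
-/

namespace Cfsg.Agent.Lib.Helper3.SylAbExc

open Cfsg.Agent.Lib.Helper3.ChevM Cfsg.Agent.Lib.Helper3.SylAb

section
variable {F : Type*} [Field F] [CharP F 2] {C : CDatum} (R : RelData C)

include R in
theorem genSq_posUnipotent : GenSq (C.D.posUnipotent F) := by
  unfold ChevalleyDatum.posUnipotent
  apply genSq_of_involutions _ _ rfl
  rintro g ⟨r, t, -, hg⟩
  have : g = R.xU r t := Units.ext (by rw [hg, R.xU_val])
  rw [this, pow_two, R.xU_add, CharTwo.add_self_eq_zero, R.xU_zero]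

end

variable {F : Type*} [Field F] [Fintype F] [CharP F 2]

theorem sqComm_G2 : SqComm (Cfsg.Lie.chevG2.group F) := by
  obtain ⟨n, hn0, hn⟩ := exists_card_eq_two_pow F
  have hev : Even (2 ^ n) := (Nat.even_pow.mpr ⟨even_two, by omega⟩)
  have hpos : 0 < 2 ^ n := by positivity
  have hU := Cfsg.Agent.S1027.result (F := F) Cfsg.Lie.chevG2 (by simp)
  have hG := Cfsg.Agent.S1059.result hn
  have e : Cfsg.Lie.chevG2.nroots / 2 = 6 := by decide
  rw [e, hn] at hU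
  apply sqComm_subgroup_of_card (Cfsg.Lie.chevG2.group F) (Cfsg.Lie.chevG2.posUnipotent F)
    (relG2.posUnipotent_le_group) (n * 6) 1 (((2 ^ n) ^ 2 - 1) * ((2 ^ n) ^ 6 - 1)) _ _ _
    (genSq_posUnipotent relG2)
  · rw [hU, ← pow_mul]
  · rw [hG, pow_mul]; ring
  · exact (odd_pow_sub_one hev hpos 2 (by norm_num)).mul (odd_pow_sub_one hev hpos 6 (by norm_num))

theorem sqComm_F4 : SqComm (Cfsg.Lie.chevF4.group F) := by
  obtain ⟨n, hn0, hn⟩ := exists_card_eq_two_pow F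
  have hev : Even (2 ^ n) := (Nat.even_pow.mpr ⟨even_two, by omega⟩)
  have hpos : 0 < 2 ^ n := by positivity
  have hU := Cfsg.Agent.S1027.result (F := F) Cfsg.Lie.chevF4 (by simp)
  have hG := Cfsg.Agent.S1062.result hn
  have e : Cfsg.Lie.chevF4.nroots / 2 = 24 := by decide
  rw [e, hn] at hU
  apply sqComm_subgroup_of_card (Cfsg.Lie.chevF4.group F) (Cfsg.Lie.chevF4.posUnipotent F)
    (relF4.posUnipotent_le_group) (n * 24) 1
    (((2 ^ n) ^ 2 - 1) * ((2 ^ n) ^ 6 - 1) * ((2 ^ n) ^ 8 - 1) * ((2 ^ n) ^ 12 - 1)) _ _ _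
    (genSq_posUnipotent relF4)
  · rw [hU, ← pow_mul]
  · rw [hG, pow_mul]; ring
  · exact (((odd_pow_sub_one hev hpos 2 (by norm_num)).mul (odd_pow_sub_one hev hpos 6 (by norm_num))).mul
      (odd_pow_sub_one hev hpos 8 (by norm_num))).mul (odd_pow_sub_one hev hpos 12 (by norm_num))

theorem sqComm_E6 : SqComm (Cfsg.Lie.chevE6.group F) := by
  obtain ⟨n, hn0, hn⟩ := exists_card_eq_two_pow F
  have hev : Even (2 ^ n) := (Nat.even_pow.mpr ⟨even_two, by omega⟩)
  have hpos : 0 < 2 ^ n := by positivity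
  have hU := Cfsg.Agent.S1027.result (F := F) Cfsg.Lie.chevE6 (by simp)
  have hG := Cfsg.Agent.S1063.result hn
  have e : Cfsg.Lie.chevE6.nroots / 2 = 36 := by decide
  rw [e, hn] at hU
  apply sqComm_subgroup_of_card (Cfsg.Lie.chevE6.group F) (Cfsg.Lie.chevE6.posUnipotent F)
    (relE6.posUnipotent_le_group) (n * 36) (Nat.gcd 3 (2 ^ n - 1))
    (((2 ^ n) ^ 2 - 1) * ((2 ^ n) ^ 5 - 1) * ((2 ^ n) ^ 6 - 1) * ((2 ^ n) ^ 8 - 1) * ((2 ^ n) ^ 9 - 1) *
      ((2 ^ n) ^ 12 - 1)) _ _ _ (genSq_posUnipotent relE6)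
  · rw [hU, ← pow_mul]
  · rw [hG, pow_mul]; ring
  · exact (((((odd_pow_sub_one hev hpos 2 (by norm_num)).mul (odd_pow_sub_one hev hpos 5 (by norm_num))).mul
      (odd_pow_sub_one hev hpos 6 (by norm_num))).mul (odd_pow_sub_one hev hpos 8 (by norm_num))).mul
      (odd_pow_sub_one hev hpos 9 (by norm_num))).mul (odd_pow_sub_one hev hpos 12 (by norm_num))

theorem sqComm_E7 : SqComm (Cfsg.Lie.chevE7.group F) := by
  obtain ⟨n, hn0, hn⟩ := exists_card_eq_two_pow F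
  have hev : Even (2 ^ n) := (Nat.even_pow.mpr ⟨even_two, by omega⟩)
  have hpos : 0 < 2 ^ n := by positivity
  have hU := Cfsg.Agent.S1027.result (F := F) Cfsg.Lie.chevE7 (by simp)
  have hG := Cfsg.Agent.S1064.result hn
  have e : Cfsg.Lie.chevE7.nroots / 2 = 63 := by decide
  rw [e, hn] at hU
  apply sqComm_subgroup_of_card (Cfsg.Lie.chevE7.group F) (Cfsg.Lie.chevE7.posUnipotent F)
    (relE7.posUnipotent_le_group) (n * 63) (Nat.gcd 2 (2 ^ n - 1))
    (((2 ^ n) ^ 2 - 1) * ((2 ^ n) ^ 6 - 1) * ((2 ^ n) ^ 8 - 1) * ((2 ^ n) ^ 10 - 1) * ((2 ^ n) ^ 12 - 1) *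
      ((2 ^ n) ^ 14 - 1) * ((2 ^ n) ^ 18 - 1)) _ _ _ (genSq_posUnipotent relE7)
  · rw [hU, ← pow_mul]
  · rw [hG, pow_mul]; ring
  · exact ((((((odd_pow_sub_one hev hpos 2 (by norm_num)).mul (odd_pow_sub_one hev hpos 6 (by norm_num))).mul
      (odd_pow_sub_one hev hpos 8 (by norm_num))).mul (odd_pow_sub_one hev hpos 10 (by norm_num))).mul
      (odd_pow_sub_one hev hpos 12 (by norm_num))).mul (odd_pow_sub_one hev hpos 14 (by norm_num))).mul
      (odd_pow_sub_one hev hpos 18 (by norm_num))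

theorem sqComm_E8 : SqComm (Cfsg.Lie.chevE8.group F) := by
  obtain ⟨n, hn0, hn⟩ := exists_card_eq_two_pow F
  have hev : Even (2 ^ n) := (Nat.even_pow.mpr ⟨even_two, by omega⟩)
  have hpos : 0 < 2 ^ n := by positivity
  have hU := Cfsg.Agent.S1027.result (F := F) Cfsg.Lie.chevE8 (by simp)
  have hG := Cfsg.Agent.S1065.result hn
  have e : Cfsg.Lie.chevE8.nroots / 2 = 120 := by decide
  rw [e, hn] at hU
  apply sqComm_subgroup_of_card (Cfsg.Lie.chevE8.group F) (Cfsg.Lie.chevE8.posUnipotent F)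
    (relE8.posUnipotent_le_group) (n * 120) 1
    (((2 ^ n) ^ 2 - 1) * ((2 ^ n) ^ 8 - 1) * ((2 ^ n) ^ 12 - 1) * ((2 ^ n) ^ 14 - 1) * ((2 ^ n) ^ 18 - 1) *
      ((2 ^ n) ^ 20 - 1) * ((2 ^ n) ^ 24 - 1) * ((2 ^ n) ^ 30 - 1)) _ _ _ (genSq_posUnipotent relE8)
  · rw [hU, ← pow_mul]
  · rw [hG, pow_mul]; ring
  · exact (((((((odd_pow_sub_one hev hpos 2 (by norm_num)).mul (odd_pow_sub_one hev hpos 8 (by norm_num))).mul
      (odd_pow_sub_one hev hpos 12 (by norm_num))).mul (odd_pow_sub_one hev hpos 14 (by norm_num))).mul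
      (odd_pow_sub_one hev hpos 18 (by norm_num))).mul (odd_pow_sub_one hev hpos 20 (by norm_num))).mul
      (odd_pow_sub_one hev hpos 24 (by norm_num))).mul (odd_pow_sub_one hev hpos 30 (by norm_num))

/-- PK-EXC (fallback copy) -/
theorem sqComm_chev' (D : Cfsg.Lie.ChevalleyDatum)
    (hD : D ∈ [Cfsg.Lie.chevG2, Cfsg.Lie.chevF4, Cfsg.Lie.chevE6, Cfsg.Lie.chevE7, Cfsg.Lie.chevE8]) :
    SqComm (D.group F) := by
  simp only [List.mem_cons, List.not_mem_nil, or_false] at hD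
  rcases hD with rfl | rfl | rfl | rfl | rfl
  · exact sqComm_G2
  · exact sqComm_F4
  · exact sqComm_E6
  · exact sqComm_E7
  · exact sqComm_E8

end Cfsg.Agent.Lib.Helper3.SylAbExc
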