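import Mathlib
import Cfsg.Prelude.Def_CaseTheorems
import Cfsg.Agent.Lib.Helper3.SylGL2

set_option autoImplicit false
set_option linter.unusedSectionVars false
set_option linter.style.haveILetI false

/-!
The Sylow `2`-subgroups of `GL₂(q)`, `q ≡ 1 (mod 4)`, are wreathed: arithmetic.
-/

namespace Cfsg.Agent.Lib.Helper3.SylGL

open Matrix

variable {F : Type*} [Field F] [Fintype F]

/-- elements of every order dividing `q - 1` in the multiplicative group -/
theorem exists_unit_orderOf (d : ℕ) (hd : d ∣ Fintype.card F - 1) :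
    ∃ ζ : Fˣ, orderOf ζ = d := by
  classical
  obtain ⟨g, hg⟩ := IsCyclic.exists_ofOrder_eq_natCard (α := Fˣ)
  rw [Nat.card_eq_fintype_card, Fintype.card_units] at hg
  obtain ⟨e, he⟩ := hd
  have hq : 0 < Fintype.card F - 1 := by
    have := Fintype.one_lt_card (α := F)
    omega
  have he0 : e ≠ 0 := by
    rintro rfl
    rw [mul_zero] at he
    omega
  have hd0 : d ≠ 0 := by
    rintro rfl
    rw [zero_mul] at he
    omega
  refine ⟨g ^ e, ?_⟩
  rw [orderOf_pow' g he0, hg, he, Nat.gcd_mul_left_left, Nat.mul_div_cancel _ (Nat.pos_of_ne_zero he0)]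

/-- the order of `GL₂` -/
theorem card_GL_two (a : ℕ) (ha : Fintype.card F = a + 1) :
    Nat.card (GL (Fin 2) F) = a * (a + 2) * ((a + 1) * a) := by
  rw [Matrix.card_GL_field, Fin.prod_univ_two, ha]
  have h1 : (a + 1) ^ 2 - (a + 1) ^ ((0 : Fin 2) : ℕ) = a * (a + 2) := by
    show (a + 1) ^ 2 - (a + 1) ^ 0 = a * (a + 2)
    rw [pow_zero]
    apply Nat.sub_eq_of_eq_add
    ring
  have h2 : (a + 1) ^ 2 - (a + 1) ^ ((1 : Fin 2) : ℕ) = (a + 1) * a := by
    show (a + 1) ^ 2 - (a + 1) ^ 1 = (a + 1) * a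
    rw [pow_one]
    apply Nat.sub_eq_of_eq_add
    ring
  rw [h1, h2]

/-- the Sylow `2`-subgroups of `GL₂(q)`, `q ≡ 1 (mod 4)`, are wreathed -/
theorem isWreathed_sylow (hq : Fintype.card F % 4 = 1) (P : Sylow 2 (GL (Fin 2) F)) :
    Cfsg.IsWreathed (P : Subgroup (GL (Fin 2) F)) := by
  classical
  have hq2 := Fintype.one_lt_card (α := F)
  obtain ⟨a, ha⟩ : ∃ a, Fintype.card F = a + 1 := ⟨Fintype.card F - 1, by omega⟩
  have ha0 : a ≠ 0 := by omega
  obtain ⟨n, m₁, hm₁, hnm⟩ := Nat.exists_eq_two_pow_mul_odd ha0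
  obtain ⟨c, hc⟩ := hm₁
  have hn : 2 ≤ n := by
    rcases n with _ | _ | n
    · rw [pow_zero, one_mul] at hnm; omega
    · rw [pow_one] at hnm; omega
    · omega
  obtain ⟨m₂, hm₂, h2⟩ : ∃ m₂, Odd m₂ ∧ a + 2 = 2 * m₂ := by
    refine ⟨(a + 2) / 2, ?_, ?_⟩
    · rw [Nat.odd_iff]; omega
    · omega
  have hcard : Nat.card (GL (Fin 2) F) = 2 ^ (2 * n + 1) * (m₁ * m₂ * ((a + 1) * m₁)) := by
    rw [card_GL_two a ha, h2]
    have : a * (2 * m₂) * ((a + 1) * a) = 2 ^ (2 * n + 1) * (m₁ * m₂ * ((a + 1) * m₁)) := by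
      rw [hnm]
      ring
    exact this
  have hodd : Odd (m₁ * m₂ * ((a + 1) * m₁)) := by
    have h1 : Odd m₁ := ⟨c, hc⟩
    have h3 : Odd (a + 1) := by rw [Nat.odd_iff]; omega
    exact (h1.mul hm₂).mul (h3.mul h1)
  have hP := card_sylow_two P (2 * n + 1) _ hodd hcard
  obtain ⟨ζ, hζ⟩ := exists_unit_orderOf (F := F) (2 ^ n) (by
    rw [ha, Nat.add_sub_cancel, hnm]
    exact dvd_mul_right _ _)
  exact isWreathed_of_card P n hn ζ hζ hP

end Cfsg.Agent.Lib.Helper3.SylGL
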