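import Mathlib
import Cfsg.Prelude.Def_CaseTheorems
import Cfsg.Agent.Lib.Helper3.SylGL3

set_option autoImplicit false
set_option linter.unusedSectionVars false
set_option linter.style.haveILetI false

/-!
The quadratic extension `F(i)` inside the `2 × 2` matrices, for the Sylow `2`-subgroups of
`GL₂(q)`, `q ≡ 3 (mod 4)`.
-/

namespace Cfsg.Agent.Lib.Helper3.SylGL

open Matrix QuadraticAlgebra

variable {F : Type*} [Field F]

/-- the matrix of multiplication by `z` -/
def embMat (z : QuadraticAlgebra F (-1) 0) : Matrix (Fin 2) (Fin 2) F :=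
  !![z.re, -z.im; z.im, z.re]

/-- the regular representation of `F(i)` -/
def embHom : QuadraticAlgebra F (-1) 0 →+* Matrix (Fin 2) (Fin 2) F where
  toFun := embMat
  map_one' := by
    ext i j; fin_cases i <;> fin_cases j <;> simp [embMat]
  map_mul' z w := by
    ext i j; fin_cases i <;> fin_cases j <;>
      simp [embMat, Matrix.mul_apply, Fin.sum_univ_two] <;> ring
  map_zero' := by
    ext i j; fin_cases i <;> fin_cases j <;> simp [embMat]
  map_add' z w := by
    ext i j; fin_cases i <;> fin_cases j <;> simp [embMat] <;> ring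

theorem embHom_apply (z : QuadraticAlgebra F (-1) 0) : embHom z = embMat z := rfl

theorem embHom_injective : Function.Injective (embHom : QuadraticAlgebra F (-1) 0 →+* _) := by
  intro z w h
  have h1 : embMat z = embMat w := h
  have h00 := congrFun (congrFun h1 0) 0
  have h10 := congrFun (congrFun h1 1) 0
  simp [embMat] at h00 h10
  exact QuadraticAlgebra.ext h00 h10

/-- the matrix of the conjugation -/
def cjm : GL (Fin 2) F :=
  ⟨!![1, 0; 0, -1], !![1, 0; 0, -1], by
    ext i j; fin_cases i <;> fin_cases j <;> simp [Matrix.mul_apply, Fin.sum_univ_two], by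
    ext i j; fin_cases i <;> fin_cases j <;> simp [Matrix.mul_apply, Fin.sum_univ_two]⟩

theorem cjm_mul_cjm : (cjm : GL (Fin 2) F) * cjm = 1 := by
  apply Units.ext
  show !![(1 : F), 0; 0, -1] * !![(1 : F), 0; 0, -1] = 1
  ext i j; fin_cases i <;> fin_cases j <;> simp [Matrix.mul_apply, Fin.sum_univ_two]

theorem cjm_inv : (cjm : GL (Fin 2) F)⁻¹ = cjm := inv_eq_of_mul_eq_one_right cjm_mul_cjm

theorem cjm_ne_one (h2 : (2 : F) ≠ 0) : (cjm : GL (Fin 2) F) ≠ 1 := by
  intro h
  have h1 : (!![(1 : F), 0; 0, -1] : Matrix (Fin 2) (Fin 2) F) = 1 := congrArg Units.val h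
  have := congrFun (congrFun h1 1) 1
  simp at this
  apply h2
  have e : (2 : F) = 1 - (-1) := by ring
  rw [e, this, sub_self]

theorem orderOf_cjm (h2 : (2 : F) ≠ 0) : orderOf (cjm : GL (Fin 2) F) = 2 := by
  haveI : Fact (Nat.Prime 2) := ⟨Nat.prime_two⟩
  apply orderOf_eq_prime
  · rw [sq]; exact cjm_mul_cjm
  · exact cjm_ne_one h2

theorem cjm_embMat (z : QuadraticAlgebra F (-1) 0) :
    !![(1 : F), 0; 0, -1] * embMat z * !![(1 : F), 0; 0, -1] = embMat (star z) := by
  ext i j; fin_cases i <;> fin_cases j <;>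
    simp [embMat, Matrix.mul_apply, Fin.sum_univ_two]

section finite

variable [Fintype F]

/-- the Frobenius of `F(i)` is the conjugation when `q ≡ 3 (mod 4)` -/
theorem pow_card_eq_star (hq : Fintype.card F % 4 = 3) (z : QuadraticAlgebra F (-1) 0) :
    z ^ Fintype.card F = star z := by
  have h1 : z ^ Fintype.card F = FiniteField.frobeniusAlgHom F (QuadraticAlgebra F (-1) 0) z := by
    rw [FiniteField.coe_frobeniusAlgHom]
  obtain ⟨x, y⟩ := z
  rw [h1, mk_eq_add_smul_omega, map_add, map_smul, AlgHom.commutes, FiniteField.coe_frobeniusAlgHom]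
  obtain ⟨m, hm⟩ : ∃ m, Fintype.card F = 2 * (2 * m + 1) + 1 := ⟨Fintype.card F / 4, by omega⟩
  have hω : (ω : QuadraticAlgebra F (-1) 0) ^ Fintype.card F = -ω := by
    rw [hm, pow_succ, pow_mul, sq, omega_mul_omega_eq_mk]
    have : (⟨-1, 0⟩ : QuadraticAlgebra F (-1) 0) = -1 := by
      ext <;> simp
    rw [this, Odd.neg_one_pow ⟨m, rfl⟩, neg_one_mul]
  show algebraMap F _ x + y • (ω : QuadraticAlgebra F (-1) 0) ^ Fintype.card F = _
  rw [hω]
  ext <;> simp

/-- `F(i)` is finite -/
noncomputable instance instFintypeQuad : Fintype (QuadraticAlgebra F (-1) 0) :=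
  Fintype.ofEquiv (F × F) (equivProd (-1) 0).symm

theorem card_quad : Fintype.card (QuadraticAlgebra F (-1) 0) = Fintype.card F * Fintype.card F := by
  rw [Fintype.card_congr (equivProd (-1 : F) 0), Fintype.card_prod]

theorem fact_nonsquare (hq : Fintype.card F % 4 = 3) :
    Fact (∀ r : F, r ^ 2 ≠ (-1 : F) + 0 * r) := by
  constructor
  intro r hr
  have h1 : IsSquare (-1 : F) := ⟨r, by rw [← sq, hr]; ring⟩
  exact (FiniteField.isSquare_neg_one_iff.mp h1) hq

end finite

end Cfsg.Agent.Lib.Helper3.SylGL
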