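import Mathlib
import Cfsg.Prelude.Def_CaseTheorems
import Cfsg.Agent.Lib.Helper3.SylGL4

set_option autoImplicit false
set_option linter.unusedSectionVars false
set_option linter.style.haveILetI false

/-!
The Sylow `2`-subgroups of `GL₂(q)`, `q ≡ 3 (mod 4)`, are quasi-dihedral.
-/

namespace Cfsg.Agent.Lib.Helper3.SylGL

open Matrix QuadraticAlgebra

variable {F : Type*} [Field F] [Fintype F]

/-- the quasi-dihedral configuration inside an arbitrary Sylow `2`-subgroup -/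
theorem isQuasiDihedral_of_elements {G : Type*} [Group G] [Finite G] (P : Sylow 2 G) (n : ℕ)
    (hn : 3 ≤ n) (hP : Nat.card P = 2 ^ (n + 1)) (x y : G) (hx : orderOf x = 2 ^ n)
    (hy : orderOf y = 2) (hxy : y * x * y⁻¹ = x ^ (2 ^ (n - 1) - 1)) :
    Cfsg.IsQuasiDihedral (P : Subgroup G) := by
  haveI : Fact (Nat.Prime 2) := ⟨Nat.prime_two⟩
  have h1 : IsPGroup 2 (Subgroup.zpowers x) :=
    isPGroup_zpowers x n (by rw [← hx]; exact pow_orderOf_eq_one x)
  have h2 : IsPGroup 2 (Subgroup.zpowers y) :=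
    isPGroup_zpowers y 1 (by rw [pow_one, ← hy]; exact pow_orderOf_eq_one y)
  have hM := isPGroup_sup_zpowers x y h1 h2 _ hxy
  obtain ⟨g, hg⟩ := exists_conj_mem_sylow P _ hM
  have hxM : x ∈ Subgroup.zpowers y ⊔ Subgroup.zpowers x :=
    (le_sup_right : Subgroup.zpowers x ≤ _) (Subgroup.mem_zpowers x)
  have hyM : y ∈ Subgroup.zpowers y ⊔ Subgroup.zpowers x :=
    (le_sup_left : Subgroup.zpowers y ≤ _) (Subgroup.mem_zpowers y)
  refine ⟨n, hn, hP, ⟨g * x * g⁻¹, hg x hxM⟩, ⟨g * y * g⁻¹, hg y hyM⟩, ?_, ?_, ?_⟩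
  · rw [Subgroup.orderOf_mk]
    have e : g * x * g⁻¹ = MulAut.conj g x := rfl
    rw [e, MulEquiv.orderOf_eq, hx]
  · rw [Subgroup.orderOf_mk]
    have e : g * y * g⁻¹ = MulAut.conj g y := rfl
    rw [e, MulEquiv.orderOf_eq, hy]
  · apply Subtype.ext
    show g * y * g⁻¹ * (g * x * g⁻¹) * (g * y * g⁻¹)⁻¹ = (g * x * g⁻¹) ^ (2 ^ (n - 1) - 1)
    rw [conj_pow, ← hxy]
    group

/-- the Sylow `2`-subgroups of `GL₂(q)`, `q ≡ 3 (mod 4)`, are quasi-dihedral -/
theorem isQuasiDihedral_sylow (hq : Fintype.card F % 4 = 3) (P : Sylow 2 (GL (Fin 2) F)) :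
    Cfsg.IsQuasiDihedral (P : Subgroup (GL (Fin 2) F)) := by
  classical
  haveI := fact_nonsquare hq
  obtain ⟨a', ha'⟩ : ∃ a', Fintype.card F = a' + 1 := ⟨Fintype.card F - 1, by omega⟩
  -- `q + 1 = 2 ^ a * m₂`
  obtain ⟨a, m₂, hm₂, ham⟩ := Nat.exists_eq_two_pow_mul_odd (show a' + 2 ≠ 0 by omega)
  obtain ⟨e, he⟩ := hm₂
  have ha : 2 ≤ a := by
    rcases a with _ | _ | a
    · rw [pow_zero, one_mul] at ham; omega
    · rw [pow_one] at ham; omega
    · omega
  obtain ⟨m₁, hm₁, h2⟩ : ∃ m₁, Odd m₁ ∧ a' = 2 * m₁ := by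
    refine ⟨a' / 2, ?_, ?_⟩
    · rw [Nat.odd_iff]; omega
    · omega
  have hcard : Nat.card (GL (Fin 2) F) = 2 ^ (a + 1 + 1) * (m₁ * m₂ * ((a' + 1) * m₁)) := by
    rw [card_GL_two a' ha', ham]
    have : a' * (2 ^ a * m₂) * ((a' + 1) * a') =
        2 ^ (a + 1 + 1) * (m₁ * m₂ * ((a' + 1) * m₁)) := by
      rw [h2]
      ring
    exact this
  have hodd : Odd (m₁ * m₂ * ((a' + 1) * m₁)) := by
    have h3 : Odd (a' + 1) := by rw [Nat.odd_iff]; omega
    exact (hm₁.mul ⟨e, he⟩).mul (h3.mul hm₁)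
  have hP := card_sylow_two P (a + 1 + 1) _ hodd hcard
  -- the element of order `2 ^ (a + 1)` of the quadratic extension
  obtain ⟨x₀, hx₀⟩ := exists_unit_orderOf (F := QuadraticAlgebra F (-1) 0) (2 ^ (a + 1)) (by
    rw [card_quad, ha']
    have : (a' + 1) * (a' + 1) - 1 = a' * (a' + 2) := by
      apply Nat.sub_eq_of_eq_add; ring
    rw [this, ham, h2]
    exact ⟨m₁ * m₂, by ring⟩)
  have h2F : (2 : F) ≠ 0 := by
    intro h
    have hch : ringChar F = 2 := by
      have : ringChar F ∣ 2 := by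
        apply ringChar.dvd
        exact_mod_cast h
      rcases (Nat.dvd_prime Nat.prime_two).mp this with h1 | h1
      · exfalso
        haveI := ringChar.charP F
        rw [h1] at this
        exact CharP.char_ne_one F 1 rfl
      · exact h1
    have := FiniteField.even_card_of_char_two hch
    omega
  let emb : (QuadraticAlgebra F (-1) 0)ˣ →* GL (Fin 2) F := Units.map (embHom : _ →+* _).toMonoidHom
  have hemb : Function.Injective emb := Units.map_injective embHom_injective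
  refine isQuasiDihedral_of_elements P (a + 1) (by omega) hP (emb x₀) cjm ?_ (orderOf_cjm h2F) ?_
  · rw [orderOf_injective emb hemb, hx₀]
  · -- the relation
    have h3 : cjm * emb x₀ * cjm⁻¹ = emb x₀ ^ Fintype.card F := by
      rw [cjm_inv, ← map_pow]
      apply Units.ext
      show !![(1 : F), 0; 0, -1] * embMat (x₀ : QuadraticAlgebra F (-1) 0) * !![(1 : F), 0; 0, -1] =
        embMat (((x₀ ^ Fintype.card F : (QuadraticAlgebra F (-1) 0)ˣ)) : QuadraticAlgebra F (-1) 0)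
      rw [cjm_embMat, Units.val_pow_eq_pow_val, pow_card_eq_star hq]
    rw [h3, pow_eq_pow_iff_modEq, orderOf_injective emb hemb, hx₀]
    show Fintype.card F % 2 ^ (a + 1) = (2 ^ (a + 1 - 1) - 1) % 2 ^ (a + 1)
    have hpos : 1 ≤ 2 ^ a := Nat.one_le_two_pow
    have e1 : Fintype.card F = (2 ^ a - 1) + 2 ^ (a + 1) * e := by
      have : a' + 2 = 2 ^ a * (2 * e + 1) := by rw [ham, he]
      rw [ha', pow_succ]
      have h5 : 2 ^ a * (2 * e + 1) = 2 ^ a * 2 * e + 2 ^ a := by ring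
      omega
    rw [e1, Nat.add_mul_mod_self_left, Nat.add_sub_cancel]

end Cfsg.Agent.Lib.Helper3.SylGL
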