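import Mathlib
import Cfsg.Prelude.Def_CaseTheorems
import Cfsg.Prelude.Def_LieClassical
import Cfsg.Agent.Lib.Helper3.SylGL5

set_option autoImplicit false
set_option linter.unusedSectionVars false
set_option linter.style.haveILetI false

/-!
Tools for the Sylow `2`-subgroups of `GU₂(q)`: the wreathed configuration from elements, the
`q`-power map as a ring homomorphism, and a membership criterion for `GU₂`.
-/

namespace Cfsg.Agent.Lib.Helper3.SylGL

open Matrix

/-- the wreathed configuration inside an arbitrary Sylow `2`-subgroup, from elements of the group -/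
theorem isWreathed_of_elements {G : Type*} [Group G] [Finite G] (P : Sylow 2 G) (n : ℕ)
    (hn : 2 ≤ n) (hP : Nat.card P = 2 ^ (2 * n + 1)) (x y z : G) (hx : orderOf x = 2 ^ n)
    (hxy : x * y = y * x) (hdisj : Subgroup.zpowers x ⊓ Subgroup.zpowers y = ⊥)
    (hz : orderOf z = 2) (hzx : z * x * z⁻¹ = y) :
    Cfsg.IsWreathed (P : Subgroup G) := by
  haveI : Fact (Nat.Prime 2) := ⟨Nat.prime_two⟩
  have hy : orderOf y = 2 ^ n := by
    have e : y = MulAut.conj z x := hzx.symm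
    rw [e, MulEquiv.orderOf_eq, hx]
  have hz2 : z * z = 1 := by
    have := pow_orderOf_eq_one z
    rwa [hz, sq] at this
  have hzi : z⁻¹ = z := inv_eq_of_mul_eq_one_right hz2
  have hzy : z * y * z⁻¹ = x := by
    rw [← hzx, hzi]
    calc z * (z * x * z) * z = (z * z) * x * (z * z) := by group
      _ = x := by rw [hz2, one_mul, mul_one]
  have h1 : IsPGroup 2 (Subgroup.zpowers x) :=
    isPGroup_zpowers x n (by rw [← hx]; exact pow_orderOf_eq_one x)
  have h2 : IsPGroup 2 (Subgroup.zpowers y) :=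
    isPGroup_zpowers y n (by rw [← hy]; exact pow_orderOf_eq_one y)
  have h3 : IsPGroup 2 (Subgroup.zpowers z) :=
    isPGroup_zpowers z 1 (by rw [pow_one, sq, hz2])
  have hA : IsPGroup 2 (Subgroup.zpowers x ⊔ Subgroup.zpowers y : Subgroup G) := by
    have := isPGroup_sup_zpowers y x h2 h1 1 (by
      rw [pow_one, hxy, mul_inv_cancel_right])
    exact this
  have hzA : Subgroup.zpowers z ≤
      Subgroup.normalizer ((Subgroup.zpowers x ⊔ Subgroup.zpowers y : Subgroup G) : Set G) := by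
    rw [Subgroup.zpowers_le, Subgroup.mem_normalizer_iff_map_conj_eq]
    rw [Subgroup.map_sup, MonoidHom.map_zpowers, MonoidHom.map_zpowers]
    have e1 : ((MulAut.conj z : G ≃* G) : G →* G) x = y := hzx
    have e2 : ((MulAut.conj z : G ≃* G) : G →* G) y = x := hzy
    rw [e1, e2, sup_comm]
  have hM := IsPGroup.to_sup_of_normal_right' h3 hA hzA
  obtain ⟨g, hg⟩ := exists_conj_mem_sylow P _ hM
  have hxM : x ∈ Subgroup.zpowers z ⊔ (Subgroup.zpowers x ⊔ Subgroup.zpowers y) :=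
    (le_sup_right : _ ≤ Subgroup.zpowers z ⊔ (Subgroup.zpowers x ⊔ Subgroup.zpowers y))
      ((le_sup_left : Subgroup.zpowers x ≤ _) (Subgroup.mem_zpowers x))
  have hyM : y ∈ Subgroup.zpowers z ⊔ (Subgroup.zpowers x ⊔ Subgroup.zpowers y) :=
    (le_sup_right : _ ≤ Subgroup.zpowers z ⊔ (Subgroup.zpowers x ⊔ Subgroup.zpowers y))
      ((le_sup_right : Subgroup.zpowers y ≤ _) (Subgroup.mem_zpowers y))
  have hzM : z ∈ Subgroup.zpowers z ⊔ (Subgroup.zpowers x ⊔ Subgroup.zpowers y) :=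
    (le_sup_left : Subgroup.zpowers z ≤ _) (Subgroup.mem_zpowers z)
  refine ⟨n, hn, hP, ⟨g * x * g⁻¹, hg x hxM⟩, ⟨g * y * g⁻¹, hg y hyM⟩,
    ⟨g * z * g⁻¹, hg z hzM⟩, ?_, ?_, ?_, ?_, ?_⟩
  · rw [Subgroup.orderOf_mk]
    have e : g * x * g⁻¹ = MulAut.conj g x := rfl
    rw [e, MulEquiv.orderOf_eq, hx]
  · apply Subtype.ext
    show g * x * g⁻¹ * (g * y * g⁻¹) = g * y * g⁻¹ * (g * x * g⁻¹)
    calc g * x * g⁻¹ * (g * y * g⁻¹) = g * (x * y) * g⁻¹ := by group
      _ = g * (y * x) * g⁻¹ := by rw [hxy]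
      _ = _ := by group
  · rw [eq_bot_iff]
    rintro w ⟨⟨i, hi⟩, ⟨j, hj⟩⟩
    rw [Subgroup.mem_bot]
    have hi' : (g * x * g⁻¹) ^ i = (w : G) := by
      have := congrArg Subtype.val hi
      simpa using this
    have hj' : (g * y * g⁻¹) ^ j = (w : G) := by
      have := congrArg Subtype.val hj
      simpa using this
    rw [conj_zpow] at hi' hj'
    have e : x ^ i = y ^ j := by
      have h5 : g * x ^ i * g⁻¹ = g * y ^ j * g⁻¹ := by rw [hi', hj']
      have h6 := mul_right_cancel h5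
      exact mul_left_cancel h6
    have hmem : x ^ i ∈ Subgroup.zpowers x ⊓ Subgroup.zpowers y :=
      ⟨⟨i, rfl⟩, ⟨j, e.symm⟩⟩
    rw [hdisj, Subgroup.mem_bot] at hmem
    apply Subtype.ext
    rw [← hi', hmem]
    simp
  · rw [Subgroup.orderOf_mk]
    have e : g * z * g⁻¹ = MulAut.conj g z := rfl
    rw [e, MulEquiv.orderOf_eq, hz]
  · apply Subtype.ext
    show g * z * g⁻¹ * (g * x * g⁻¹) * (g * z * g⁻¹)⁻¹ = g * y * g⁻¹
    rw [← hzx]
    group

section field

variable {F : Type*} [Field F] [Fintype F] {q : ℕ}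

/-- the `q`-power map as a ring homomorphism -/
theorem exists_frob (hF : Fintype.card F = q ^ 2) :
    ∃ σ : F →+* F, (∀ x, σ x = x ^ q) ∧ ∀ x, σ (σ x) = x := by
  obtain ⟨p, hp⟩ := CharP.exists F
  obtain ⟨n, hpp, hn⟩ := FiniteField.card F p
  haveI : Fact p.Prime := ⟨hpp⟩
  have hq : q ∣ p ^ (n : ℕ) := by
    rw [← hn, hF]; exact dvd_pow_self q (by norm_num)
  obtain ⟨k, _, rfl⟩ := (Nat.dvd_prime_pow hpp).mp hq
  refine ⟨iterateFrobenius F p k, fun x => iterateFrobenius_def p k x, fun x => ?_⟩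
  rw [iterateFrobenius_def, iterateFrobenius_def, ← pow_mul, ← sq, ← hF, FiniteField.pow_card]

/-- membership criterion for `GU₂` -/
theorem mem_GU_two (σ : F →+* F) (hσ : ∀ x, σ x = x ^ q) (g : GL (Fin 2) F) (a b c d : F)
    (hg : (g : Matrix (Fin 2) (Fin 2) F) = !![a, b; c, d])
    (h1 : a * σ a + c * σ c = 1) (h2 : a * σ b + c * σ d = 0) (h3 : b * σ a + d * σ c = 0)
    (h4 : b * σ b + d * σ d = 1) : g ∈ Cfsg.GU 2 F q := by
  intro u v
  show Cfsg.hermForm 2 F q ((g : Matrix (Fin 2) (Fin 2) F) *ᵥ u)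
    ((g : Matrix (Fin 2) (Fin 2) F) *ᵥ v) = Cfsg.hermForm 2 F q u v
  unfold Cfsg.hermForm
  rw [hg, Fin.sum_univ_two, Fin.sum_univ_two]
  simp only [Matrix.mulVec, dotProduct, Fin.sum_univ_two, Matrix.of_apply, Matrix.cons_val_zero,
    Matrix.cons_val_one, ← hσ, map_add, map_mul]
  linear_combination (u 0 * σ (v 0)) * h1 + (u 0 * σ (v 1)) * h2 + (u 1 * σ (v 0)) * h3 +
    (u 1 * σ (v 1)) * h4

end field

end Cfsg.Agent.Lib.Helper3.SylGL
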