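import Mathlib
import Cfsg.Agent.Lib.Helper3.SylGU1
import Cfsg.Agent.S0277

set_option autoImplicit false
set_option linter.unusedSectionVars false
set_option linter.style.haveILetI false

/-!
The Sylow `2`-subgroups of `GU₂(q)`, `q ≡ 3 (mod 4)`, are wreathed.
-/

namespace Cfsg.Agent.Lib.Helper3.SylGL

open Matrix

variable {F : Type*} [Field F] [Fintype F] {q : ℕ}

/-- the order of `GU₂(q)` -/
theorem card_GU_two (hF : Fintype.card F = q ^ 2) :
    Nat.card (Cfsg.GU 2 F q) = q * ((q + 1) * (q ^ 2 - 1)) := by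
  rw [Cfsg.Agent.S0277.result hF 2]
  simp [Finset.prod_range_succ]

theorem dg_mem_GU (σ : F →+* F) (hσ : ∀ x, σ x = x ^ q) (a b : Fˣ)
    (ha : (a : F) ^ (q + 1) = 1) (hb : (b : F) ^ (q + 1) = 1) : dg a b ∈ Cfsg.GU 2 F q := by
  apply mem_GU_two σ hσ (dg a b) (a : F) 0 0 (b : F) rfl
  · rw [hσ, map_zero, mul_zero, add_zero, ← pow_succ', ha]
  · rw [map_zero, mul_zero, zero_mul, add_zero]
  · rw [map_zero, mul_zero, zero_mul, add_zero]
  · rw [map_zero, mul_zero, zero_add, hσ, ← pow_succ', hb]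

theorem sw_mem_GU (σ : F →+* F) (hσ : ∀ x, σ x = x ^ q) : (sw : GL (Fin 2) F) ∈ Cfsg.GU 2 F q := by
  apply mem_GU_two σ hσ sw 0 1 1 0 rfl
  · rw [map_one, map_zero, mul_zero, zero_add, mul_one]
  · rw [map_one, map_zero, mul_zero, zero_mul, add_zero]
  · rw [map_one, map_zero, mul_zero, zero_mul, add_zero]
  · rw [map_one, map_zero, mul_zero, add_zero, mul_one]

/-- the Sylow `2`-subgroups of `GU₂(q)`, `q ≡ 3 (mod 4)`, are wreathed -/
theorem isWreathed_sylow_GU (hF : Fintype.card F = q ^ 2) (hq : q % 4 = 3)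
    (P : Sylow 2 (Cfsg.GU 2 F q)) : Cfsg.IsWreathed (P : Subgroup (Cfsg.GU 2 F q)) := by
  classical
  obtain ⟨σ, hσ, -⟩ := exists_frob hF
  have hq1 : q + 1 ≠ 0 := by omega
  obtain ⟨n, m₁, hm₁, hnm⟩ := Nat.exists_eq_two_pow_mul_odd hq1
  have hn : 2 ≤ n := by
    rcases n with _ | _ | n
    · rw [pow_zero, one_mul] at hnm
      rw [Nat.odd_iff] at hm₁; omega
    · rw [pow_one] at hnm
      rw [Nat.odd_iff] at hm₁; omega
    · omega
  obtain ⟨m₂, hm₂, h2⟩ : ∃ m₂, Odd m₂ ∧ q = 2 * m₂ + 1 := by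
    refine ⟨(q - 1) / 2, ?_, ?_⟩
    · rw [Nat.odd_iff]; omega
    · omega
  have hqq : q ^ 2 - 1 = (q + 1) * (2 * m₂) := by
    apply Nat.sub_eq_of_eq_add
    rw [h2]; ring
  have hcard : Nat.card (Cfsg.GU 2 F q) = 2 ^ (2 * n + 1) * (q * (m₁ * m₁ * m₂)) := by
    rw [card_GU_two hF, hqq, hnm]
    ring
  have hodd : Odd (q * (m₁ * m₁ * m₂)) := by
    have h3 : Odd q := by rw [Nat.odd_iff]; omega
    exact h3.mul ((hm₁.mul hm₁).mul hm₂)
  have hP := card_sylow_two P (2 * n + 1) _ hodd hcard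
  obtain ⟨ζ, hζ⟩ := exists_unit_orderOf (F := F) (2 ^ n) (by
    rw [hF, hqq, hnm]
    exact Dvd.dvd.mul_right (dvd_mul_right _ _) _)
  have hζ1 : (ζ : F) ^ (q + 1) = 1 := by
    have : ζ ^ (q + 1) = 1 := by
      rw [hnm, pow_mul, ← hζ, pow_orderOf_eq_one, one_pow]
    have := congrArg Units.val this
    simpa using this
  have h11 : ((1 : Fˣ) : F) ^ (q + 1) = 1 := by simp
  have hx := dg_mem_GU σ hσ ζ 1 hζ1 h11
  have hy := dg_mem_GU σ hσ 1 ζ h11 hζ1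
  have hz := sw_mem_GU (F := F) σ hσ
  apply isWreathed_of_elements P n hn hP ⟨dg ζ 1, hx⟩ ⟨dg 1 ζ, hy⟩ ⟨sw, hz⟩
  · rw [Subgroup.orderOf_mk]
    have h2 : dg ζ 1 = dgHom (ζ, 1) := rfl
    rw [h2, orderOf_injective dgHom dgHom_injective, Prod.orderOf_mk, orderOf_one, hζ]
    simp
  · apply Subtype.ext
    show dg ζ 1 * dg 1 ζ = dg 1 ζ * dg ζ 1
    rw [dg_mul, dg_mul, mul_one, one_mul]
  · rw [eq_bot_iff]
    rintro w ⟨⟨i, hi⟩, ⟨j, hj⟩⟩
    rw [Subgroup.mem_bot]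
    have hi' : (dg ζ 1) ^ i = (w : GL (Fin 2) F) := by
      have := congrArg Subtype.val hi
      simpa using this
    have hj' : (dg 1 ζ) ^ j = (w : GL (Fin 2) F) := by
      have := congrArg Subtype.val hj
      simpa using this
    rw [dg_zpow] at hi' hj'
    have e : dg (ζ ^ i) (1 ^ i) = dg (1 ^ j) (ζ ^ j) := by rw [hi', hj']
    obtain ⟨e1, -⟩ := dg_injective e
    rw [_root_.one_zpow] at e1
    apply Subtype.ext
    rw [← hi', e1, _root_.one_zpow, dg_one]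
    simp
  · rw [Subgroup.orderOf_mk]
    exact orderOf_sw
  · apply Subtype.ext
    show sw * dg ζ 1 * sw⁻¹ = dg 1 ζ
    exact sw_dg ζ 1

end Cfsg.Agent.Lib.Helper3.SylGL
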