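import Mathlib
import Cfsg.Agent.Lib.Helper3.SylGU2

set_option autoImplicit false
set_option linter.unusedSectionVars false
set_option linter.style.haveILetI false

/-!
The Sylow `2`-subgroups of `GU₂(q)`, `q ≡ 1 (mod 4)`, are quasi-dihedral: the torus of order
`q ^ 2 - 1` acting on the isotropic vectors `(1, ε)`, `(1, -ε)`, where `ε ^ (q + 1) = -1`.
-/

namespace Cfsg.Agent.Lib.Helper3.SylGL

open Matrix

variable {F : Type*} [Field F]

theorem mat2_ext {a b c d a' b' c' d' : F} (h1 : a = a') (h2 : b = b') (h3 : c = c')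
    (h4 : d = d') : (!![a, b; c, d] : Matrix (Fin 2) (Fin 2) F) = !![a', b'; c', d'] := by
  rw [h1, h2, h3, h4]

section tor

variable (ε ε' c : F)

/-- the matrix acting as `p.1`, `p.2` on the vectors `(1, ε)`, `(1, -ε)` -/
def torMat (p : F × F) : Matrix (Fin 2) (Fin 2) F :=
  !![c * (p.1 + p.2), c * ε' * (p.1 - p.2); c * ε * (p.1 - p.2), c * (p.1 + p.2)]

/-- the torus as a ring homomorphism -/
def torHom (hε : ε * ε' = 1) (hc : 2 * c = 1) : F × F →+* Matrix (Fin 2) (Fin 2) F where
  toFun := torMat ε ε' c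
  map_one' := by
    rw [Matrix.one_fin_two]
    unfold torMat
    apply mat2_ext
    · show c * (1 + 1) = 1
      linear_combination hc
    · show c * ε' * (1 - 1) = 0
      ring
    · show c * ε * (1 - 1) = 0
      ring
    · show c * (1 + 1) = 1
      linear_combination hc
  map_mul' := by
    rintro ⟨l, m⟩ ⟨l', m'⟩
    unfold torMat
    rw [Matrix.mul_fin_two]
    apply mat2_ext
    · show c * (l * l' + m * m') = _
      linear_combination (-c * (l * l' + m * m')) * hc - c ^ 2 * (l - m) * (l' - m') * hε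
    · show c * ε' * (l * l' - m * m') = _
      linear_combination (-c * ε' * (l * l' - m * m')) * hc
    · show c * ε * (l * l' - m * m') = _
      linear_combination (-c * ε * (l * l' - m * m')) * hc
    · show c * (l * l' + m * m') = _
      linear_combination (-c * (l * l' + m * m')) * hc - c ^ 2 * (l - m) * (l' - m') * hε
  map_zero' := by
    unfold torMat
    ext i j; fin_cases i <;> fin_cases j <;> simp
  map_add' := by
    rintro ⟨l, m⟩ ⟨l', m'⟩
    unfold torMat
    ext i j; fin_cases i <;> fin_cases j <;> simp <;> ring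

theorem torHom_apply (hε : ε * ε' = 1) (hc : 2 * c = 1) (p : F × F) :
    torHom ε ε' c hε hc p = torMat ε ε' c p := rfl

theorem torHom_injective (hε : ε * ε' = 1) (hc : 2 * c = 1) :
    Function.Injective (torHom ε ε' c hε hc) := by
  rw [injective_iff_map_eq_zero]
  rintro ⟨l, m⟩ h
  have h1 : torMat ε ε' c (l, m) = 0 := h
  have h00 := congrFun (congrFun h1 0) 0
  have h10 := congrFun (congrFun h1 1) 0
  simp only [torMat, Matrix.of_apply, Matrix.cons_val_zero, Matrix.cons_val_one,
    Matrix.zero_apply] at h00 h10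
  have e1 : l = 0 := by
    linear_combination h00 + ε' * h10 - l * hc - c * (l - m) * hε
  have e2 : m = 0 := by
    linear_combination h00 - ε' * h10 - m * hc + c * (l - m) * hε
  rw [e1, e2]
  rfl

/-- the torus as a homomorphism of unit groups -/
noncomputable def torU (hε : ε * ε' = 1) (hc : 2 * c = 1) : Fˣ × Fˣ →* GL (Fin 2) F :=
  (Units.map (torHom ε ε' c hε hc).toMonoidHom).comp (MulEquiv.prodUnits.symm.toMonoidHom)

theorem torU_val (hε : ε * ε' = 1) (hc : 2 * c = 1) (l m : Fˣ) :
    ((torU ε ε' c hε hc (l, m) : GL (Fin 2) F) : Matrix (Fin 2) (Fin 2) F) =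
      torMat ε ε' c ((l : F), (m : F)) := rfl

theorem torU_injective (hε : ε * ε' = 1) (hc : 2 * c = 1) :
    Function.Injective (torU ε ε' c hε hc) := by
  unfold torU
  exact (Units.map_injective (torHom_injective ε ε' c hε hc)).comp (MulEquiv.injective _)

theorem cjm_torU (hε : ε * ε' = 1) (hc : 2 * c = 1) (l m : Fˣ) :
    cjm * torU ε ε' c hε hc (l, m) * cjm⁻¹ = torU ε ε' c hε hc (m, l) := by
  rw [cjm_inv]
  apply Units.ext
  show !![(1 : F), 0; 0, -1] * torMat ε ε' c ((l : F), (m : F)) * !![(1 : F), 0; 0, -1] =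
    torMat ε ε' c ((m : F), (l : F))
  unfold torMat
  rw [Matrix.mul_fin_two, Matrix.mul_fin_two]
  apply mat2_ext <;> ring

end tor

section unitary

variable [Fintype F] {q : ℕ}

theorem torMat_mem_GU (σ : F →+* F) (hσ : ∀ x, σ x = x ^ q) (g : GL (Fin 2) F)
    (ε ε' c l m : F) (hg : (g : Matrix (Fin 2) (Fin 2) F) = torMat ε ε' c (l, m))
    (hε : ε * ε' = 1) (hc : 2 * c = 1) (hσε : ε * σ ε = -1) (hlm : l * σ m = 1)
    (hml : m * σ l = 1) : g ∈ Cfsg.GU 2 F q := by
  have hσc : σ c = c := by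
    have h := congrArg σ hc
    rw [map_mul, map_ofNat, map_one] at h
    linear_combination c * h - σ c * hc
  have hσε1 : σ ε = -ε' := by
    linear_combination ε' * hσε - σ ε * hε
  have hσ' : σ ε * σ ε' = 1 := by rw [← map_mul, hε, map_one]
  have hσε2 : σ ε' = -ε := by
    linear_combination (-ε) * hσ' + σ ε' * hσε
  apply mem_GU_two σ hσ g (c * (l + m)) (c * ε' * (l - m)) (c * ε * (l - m)) (c * (l + m)) hg
  · simp only [map_mul, map_add, map_sub, hσc, hσε1, hσε2]
    linear_combination 2 * c ^ 2 * hlm + 2 * c ^ 2 * hml + (2 * c + 1) * hc -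
      c ^ 2 * (l - m) * (σ l - σ m) * hε
  · simp only [map_mul, map_add, map_sub, hσc, hσε1, hσε2]
    linear_combination 2 * c ^ 2 * ε * hlm - 2 * c ^ 2 * ε * hml
  · simp only [map_mul, map_add, map_sub, hσc, hσε1, hσε2]
    linear_combination 2 * c ^ 2 * ε' * hlm - 2 * c ^ 2 * ε' * hml
  · simp only [map_mul, map_add, map_sub, hσc, hσε1, hσε2]
    linear_combination 2 * c ^ 2 * hlm + 2 * c ^ 2 * hml + (2 * c + 1) * hc -
      c ^ 2 * (l - m) * (σ l - σ m) * hε

theorem cjm_mem_GU (σ : F →+* F) (hσ : ∀ x, σ x = x ^ q) :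
    (cjm : GL (Fin 2) F) ∈ Cfsg.GU 2 F q := by
  apply mem_GU_two σ hσ cjm 1 0 0 (-1) rfl
  · rw [map_one, map_zero, mul_zero, add_zero, mul_one]
  · rw [map_zero, map_neg, map_one, mul_zero, zero_mul, add_zero]
  · rw [map_one, map_zero, mul_zero, zero_mul, add_zero]
  · rw [map_zero, map_neg, map_one, mul_zero, zero_add, neg_mul_neg, mul_one]

end unitary

end Cfsg.Agent.Lib.Helper3.SylGL
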