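import Mathlib
import Cfsg.Agent.Lib.Helper3.SylGU3

set_option autoImplicit false
set_option linter.unusedSectionVars false
set_option linter.style.haveILetI false

/-!
The Sylow `2`-subgroups of `GU₂(q)`, `q ≡ 1 (mod 4)`, are quasi-dihedral.
-/

namespace Cfsg.Agent.Lib.Helper3.SylGL

open Matrix

variable {F : Type*} [Field F] [Fintype F] {q : ℕ}

theorem two_ne_zero_of_odd_card (h : Odd (Fintype.card F)) : (2 : F) ≠ 0 := by
  intro h0
  have hch : ringChar F = 2 := by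
    have : ringChar F ∣ 2 := by
      apply ringChar.dvd
      exact_mod_cast h0
    rcases (Nat.dvd_prime Nat.prime_two).mp this with h1 | h1
    · exfalso
      haveI := ringChar.charP F
      rw [h1] at this
      exact CharP.char_ne_one F 1 rfl
    · exact h1
  have := FiniteField.even_card_of_char_two hch
  rw [Nat.odd_iff] at h
  omega

/-- the Sylow `2`-subgroups of `GU₂(q)`, `q ≡ 1 (mod 4)`, are quasi-dihedral -/
theorem isQuasiDihedral_sylow_GU (hF : Fintype.card F = q ^ 2) (hq : q % 4 = 1)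
    (P : Sylow 2 (Cfsg.GU 2 F q)) : Cfsg.IsQuasiDihedral (P : Subgroup (Cfsg.GU 2 F q)) := by
  classical
  obtain ⟨σ, hσ, -⟩ := exists_frob hF
  have hq2 := Fintype.one_lt_card (α := F)
  have hq1 : q ≠ 1 := by
    rintro rfl
    rw [hF] at hq2
    norm_num at hq2
  obtain ⟨a', ha'⟩ : ∃ a', q = a' + 1 := ⟨q - 1, by omega⟩
  have ha0 : a' ≠ 0 := by omega
  obtain ⟨a, m₁, hm₁, ham⟩ := Nat.exists_eq_two_pow_mul_odd ha0
  obtain ⟨e, he⟩ := hm₁
  have ha : 2 ≤ a := by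
    rcases a with _ | _ | a
    · rw [pow_zero, one_mul] at ham; omega
    · rw [pow_one] at ham; omega
    · omega
  obtain ⟨m₂, hm₂, h2⟩ : ∃ m₂, Odd m₂ ∧ a' + 2 = 2 * m₂ := by
    refine ⟨(a' + 2) / 2, ?_, ?_⟩
    · rw [Nat.odd_iff]; omega
    · omega
  have hqq : q ^ 2 - 1 = a' * (a' + 2) := by
    apply Nat.sub_eq_of_eq_add
    rw [ha']; ring
  have hcard : Nat.card (Cfsg.GU 2 F q) = 2 ^ (a + 1 + 1) * (q * (m₂ * m₁ * m₂)) := by
    rw [card_GU_two hF, hqq]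
    have : q + 1 = a' + 2 := by omega
    rw [this, h2, ham]
    ring
  have hodd : Odd (q * (m₂ * m₁ * m₂)) := by
    have h3 : Odd q := by rw [Nat.odd_iff]; omega
    exact h3.mul ((hm₂.mul ⟨e, he⟩).mul hm₂)
  have hP := card_sylow_two P (a + 1 + 1) _ hodd hcard
  -- the element of order `2 ^ (a + 1)`
  obtain ⟨l, hl⟩ := exists_unit_orderOf (F := F) (2 ^ (a + 1)) (by
    rw [hF, hqq, h2, ham]
    exact ⟨m₁ * m₂, by ring⟩)
  -- the element with `ε ^ (q + 1) = -1`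
  obtain ⟨ω, hω⟩ := exists_unit_orderOf (F := F) (2 * (q + 1)) (by
    rw [hF, hqq]
    have : q + 1 = a' + 2 := by omega
    rw [this, ham]
    exact ⟨2 ^ (a - 1) * m₁, by
      obtain ⟨b, rfl⟩ : ∃ b, a = b + 1 := ⟨a - 1, by omega⟩
      rw [Nat.add_sub_cancel, pow_succ]; ring⟩)
  have h2F : (2 : F) ≠ 0 := by
    apply two_ne_zero_of_odd_card
    rw [hF]
    apply Odd.pow
    rw [Nat.odd_iff]; omega
  have hω1 : (ω : F) ^ (q + 1) = -1 := by
    have h3 : ((ω : F) ^ (q + 1)) ^ 2 = 1 := by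
      rw [← pow_mul, mul_comm, ← Units.val_pow_eq_pow_val, ← hω, pow_orderOf_eq_one,
        Units.val_one]
    have h4 : (ω : F) ^ (q + 1) ≠ 1 := by
      intro h
      have h5 : ω ^ (q + 1) = 1 := by
        apply Units.ext
        rw [Units.val_pow_eq_pow_val, h, Units.val_one]
      have := orderOf_dvd_of_pow_eq_one h5
      rw [hω] at this
      have := Nat.le_of_dvd (by omega) this
      omega
    rw [sq] at h3
    rcases mul_self_eq_one_iff.mp h3 with h | h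
    · exact absurd h h4
    · exact h
  -- parameters of the torus
  have hε : (ω : F) * ((ω⁻¹ : Fˣ) : F) = 1 := by
    rw [← Units.val_mul, mul_inv_cancel, Units.val_one]
  have hc : 2 * (2 : F)⁻¹ = 1 := mul_inv_cancel₀ h2F
  have hσε : (ω : F) * σ (ω : F) = -1 := by rw [hσ, ← pow_succ', hω1]
  obtain ⟨m, hm⟩ : ∃ m : Fˣ, m = (l ^ q)⁻¹ := ⟨_, rfl⟩
  have hml : (m : F) * σ (l : F) = 1 := by
    rw [hσ, ← Units.val_pow_eq_pow_val, ← Units.val_mul, hm, inv_mul_cancel, Units.val_one]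
  have hlq2 : l ^ (q ^ 2) = l := by
    apply Units.ext
    rw [Units.val_pow_eq_pow_val, ← hF, FiniteField.pow_card]
  have hlmq : l * m ^ q = 1 := by
    rw [hm, inv_pow, ← pow_mul, ← sq, hlq2, mul_inv_cancel]
  have hlm : (l : F) * σ (m : F) = 1 := by
    rw [hσ, ← Units.val_pow_eq_pow_val, ← Units.val_mul, hlmq, Units.val_one]
  have hT : Function.Injective (torU (ω : F) ((ω⁻¹ : Fˣ) : F) (2 : F)⁻¹ hε hc) :=
    torU_injective _ _ _ hε hc
  have hx : torU (ω : F) ((ω⁻¹ : Fˣ) : F) (2 : F)⁻¹ hε hc (l, m) ∈ Cfsg.GU 2 F q :=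
    torMat_mem_GU σ hσ _ _ _ _ (l : F) (m : F) (torU_val _ _ _ hε hc l m) hε hc hσε hlm hml
  have hy := cjm_mem_GU (F := F) σ hσ
  have hk : 2 ^ a - 1 + q = 2 ^ (a + 1) * (e + 1) := by
    have hpos : 1 ≤ 2 ^ a := Nat.one_le_two_pow
    rw [ha', ham, he, pow_succ]
    have h5 : 2 ^ a * (2 * e + 1) = 2 ^ a * 2 * e + 2 ^ a := by ring
    have h6 : 2 ^ a * 2 * (e + 1) = 2 ^ a * 2 * e + 2 ^ a * 2 := by ring
    omega
  have hlm2 : l ^ (2 ^ a - 1) = m := by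
    rw [hm]
    apply eq_inv_of_mul_eq_one_left
    rw [← pow_add, hk, pow_mul, ← hl, pow_orderOf_eq_one, one_pow]
  have hml2 : m ^ (2 ^ a - 1) = l := by
    have h7 : m ^ (2 ^ a - 1) = (m ^ q)⁻¹ := by
      conv_lhs => rw [hm]
      rw [inv_pow, ← pow_mul, mul_comm, pow_mul, hlm2]
    rw [h7]
    exact (eq_inv_of_mul_eq_one_left hlmq).symm
  apply isQuasiDihedral_of_elements P (a + 1) (by omega) hP
    ⟨torU (ω : F) ((ω⁻¹ : Fˣ) : F) (2 : F)⁻¹ hε hc (l, m), hx⟩ ⟨cjm, hy⟩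
  · rw [Subgroup.orderOf_mk, orderOf_injective _ hT, Prod.orderOf_mk, hl]
    apply Nat.lcm_eq_left
    rw [← hl, ← hlm2]
    exact orderOf_pow_dvd _
  · rw [Subgroup.orderOf_mk]
    exact orderOf_cjm h2F
  · apply Subtype.ext
    show cjm * torU (ω : F) ((ω⁻¹ : Fˣ) : F) (2 : F)⁻¹ hε hc (l, m) * cjm⁻¹ =
      torU (ω : F) ((ω⁻¹ : Fˣ) : F) (2 : F)⁻¹ hε hc (l, m) ^ (2 ^ (a + 1 - 1) - 1)
    rw [Nat.add_sub_cancel, ← map_pow, Prod.pow_mk, hlm2, hml2]
    exact cjm_torU _ _ _ hε hc l m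

end Cfsg.Agent.Lib.Helper3.SylGL
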