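import Mathlib
import Cfsg.Agent.S2623
import Cfsg.Agent.Lib.Helper5.SpU0

set_option autoImplicit false
set_option linter.unusedSectionVars false
set_option linter.unusedSimpArgs false

/-!
Package F1 of the S2676 swarm: over a finite field of odd characteristic the invertible symmetric
matrices on a nonempty finite index type fall into exactly two congruence classes (one class on
the empty index type).
-/

namespace Cfsg.Agent.Lib.Helper3.SymForms

open Matrix Cfsg.Agent.Lib.Helper5.SpU

section qf

variable {F : Type*} [Field F] {n : ℕ}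

/-- the quadratic form `v ↦ vᵀ B v / 2`, whose polar Gram matrix is `B` when `B` is symmetric. -/
noncomputable def qf (B : Matrix (Fin n) (Fin n) F) : QuadraticForm F (Fin n → F) :=
  LinearMap.BilinMap.toQuadraticMap (Matrix.toLinearMap₂' F ((2 : F)⁻¹ • B))

theorem qf_apply (B : Matrix (Fin n) (Fin n) F) (v : Fin n → F) :
    qf B v = (2 : F)⁻¹ * (v ⬝ᵥ B *ᵥ v) := by
  rw [qf, LinearMap.BilinMap.toQuadraticMap_apply, Matrix.toLinearMap₂'_apply',
    Matrix.smul_mulVec, dotProduct_smul, smul_eq_mul]

theorem gram_qf (h2 : (2 : F) ≠ 0) (B : Matrix (Fin n) (Fin n) F) (hB : Bᵀ = B) :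
    Cfsg.Agent.S2623.gram (qf B) = B := by
  ext i j
  have hji : B j i = B i j := by
    have := congrFun (congrFun hB i) j
    rwa [Matrix.transpose_apply] at this
  rw [Cfsg.Agent.S2623.gram, Matrix.of_apply, qf, LinearMap.BilinMap.polar_toQuadraticMap,
    Matrix.toLinearMap₂'_apply', Matrix.toLinearMap₂'_apply']
  simp only [Matrix.mulVec_single_one, single_one_dotProduct, Matrix.col_apply,
    Matrix.smul_apply, smul_eq_mul, hji]
  field_simp
  ring

theorem nondegenerate_qf (h2 : (2 : F) ≠ 0) (B : Matrix (Fin n) (Fin n) F) (hB : Bᵀ = B)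
    (hdet : B.det ≠ 0) : (QuadraticMap.polarBilin (qf B)).Nondegenerate := by
  have hg := gram_qf h2 B hB
  constructor
  · intro x hx
    apply Matrix.eq_zero_of_vecMul_eq_zero hdet
    funext b
    have := hx (Pi.single b 1)
    rw [QuadraticMap.polarBilin_apply_apply, Cfsg.Agent.S2623.polar_eq_gram, hg] at this
    simp only [Pi.single_apply, mul_ite, mul_one, mul_zero, ite_mul, zero_mul,
      Finset.sum_ite_eq', Finset.mem_univ, if_true] at this
    simpa [Matrix.vecMul, dotProduct] using this
  · intro y hy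
    apply Matrix.eq_zero_of_mulVec_eq_zero hdet
    funext a
    have := hy (Pi.single a 1)
    rw [QuadraticMap.polarBilin_apply_apply, Cfsg.Agent.S2623.polar_eq_gram, hg] at this
    simp only [Pi.single_apply, ite_mul, one_mul, zero_mul, Finset.sum_ite_eq', Finset.mem_univ,
      if_true] at this
    rw [Finset.sum_eq_single a (by intro b _ hb; simp [hb]) (by simp)] at this
    simp only [if_true] at this
    simpa [Matrix.mulVec, dotProduct, mul_comm] using this

theorem eq_of_quadratic_eq (h2 : (2 : F) ≠ 0) (C C' : Matrix (Fin n) (Fin n) F) (hC : Cᵀ = C)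
    (hC' : C'ᵀ = C') (h : ∀ v, v ⬝ᵥ C *ᵥ v = v ⬝ᵥ C' *ᵥ v) : C = C' := by
  have : qf C = qf C' := by
    ext v
    rw [qf_apply, qf_apply, h v]
  rw [← gram_qf h2 C hC, ← gram_qf h2 C' hC', this]

theorem congr_of_isSquare [Fintype F] (h2 : (2 : F) ≠ 0) (B B' : Matrix (Fin n) (Fin n) F)
    (hB : Bᵀ = B) (hB' : B'ᵀ = B') (hd : B.det ≠ 0) (hd' : B'.det ≠ 0)
    (hsq : IsSquare (B.det * B'.det)) :
    ∃ g : Matrix (Fin n) (Fin n) F, IsUnit g.det ∧ gᵀ * B * g = B' := by
  have key := (Cfsg.Agent.S2623.result h2 (qf B') (qf B) (nondegenerate_qf h2 B' hB' hd')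
    (nondegenerate_qf h2 B hB hd)).mpr (by
      change IsSquare ((Cfsg.Agent.S2623.gram (qf B')).det * (Cfsg.Agent.S2623.gram (qf B)).det)
      rw [gram_qf h2 B' hB', gram_qf h2 B hB, mul_comm]
      exact hsq)
  obtain ⟨g, hg⟩ := key
  refine ⟨LinearMap.toMatrix' (g : (Fin n → F) →ₗ[F] (Fin n → F)), ?_, ?_⟩
  · rw [LinearMap.det_toMatrix']
    exact LinearEquiv.isUnit_det' g
  · set G := LinearMap.toMatrix' (g : (Fin n → F) →ₗ[F] (Fin n → F)) with hG
    have hGv : ∀ v, G *ᵥ v = g v := by
      intro v
      rw [hG, LinearMap.toMatrix'_mulVec]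
      rfl
    apply eq_of_quadratic_eq h2
    · rw [Matrix.transpose_mul, Matrix.transpose_mul, Matrix.transpose_transpose, hB, mul_assoc]
    · exact hB'
    · intro v
      have h1 : v ⬝ᵥ (Gᵀ * B * G) *ᵥ v = (G *ᵥ v) ⬝ᵥ B *ᵥ (G *ᵥ v) := by
        rw [mul_assoc, ← Matrix.mulVec_mulVec, ← Matrix.mulVec_mulVec, Matrix.dotProduct_mulVec,
          Matrix.vecMul_transpose]
      have h3 := hg v
      rw [qf_apply, qf_apply] at h3
      have h4 := mul_left_cancel₀ (inv_ne_zero h2) h3
      rw [h1, hGv, h4]

end qf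

section field

variable {F : Type*} [Field F] [Fintype F]

theorem ringChar_ne_two (h2 : (2 : F) ≠ 0) : ringChar F ≠ 2 := by
  intro h
  apply h2
  have := CharP.cast_eq_zero F (ringChar F)
  rw [h] at this
  exact_mod_cast this

theorem isSquare_mul_of_not_isSquare (h2 : (2 : F) ≠ 0) {a b : F} (ha0 : a ≠ 0) (hb0 : b ≠ 0)
    (ha : ¬ IsSquare a) (hb : ¬ IsSquare b) : IsSquare (a * b) := by
  have hF := ringChar_ne_two h2
  rw [FiniteField.isSquare_iff hF ha0] at ha
  rw [FiniteField.isSquare_iff hF hb0] at hb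
  rw [FiniteField.isSquare_iff hF (mul_ne_zero ha0 hb0), mul_pow]
  rcases FiniteField.pow_dichotomy hF ha0 with h | h
  · exact absurd h ha
  rcases FiniteField.pow_dichotomy hF hb0 with h' | h'
  · exact absurd h' hb
  rw [h, h']
  ring

theorem isSquare_mul_of_isSquare_iff (h2 : (2 : F) ≠ 0) {a b : F} (ha0 : a ≠ 0) (hb0 : b ≠ 0)
    (h : IsSquare a ↔ IsSquare b) : IsSquare (a * b) := by
  by_cases ha : IsSquare a
  · exact ha.mul (h.mp ha)
  · exact isSquare_mul_of_not_isSquare h2 ha0 hb0 ha (fun hb => ha (h.mpr hb))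

end field

section general

variable {F : Type*} [Field F] [Fintype F] {ι : Type*} [Fintype ι] [DecidableEq ι]

theorem isSquare_det_iff_of_congr {B B' g : Matrix ι ι F} (hg : IsUnit g.det)
    (h : gᵀ * B * g = B') : IsSquare B.det ↔ IsSquare B'.det := by
  have hdet : B'.det = g.det ^ 2 * B.det := by
    rw [← h, Matrix.det_mul, Matrix.det_mul, Matrix.det_transpose]; ring
  have hg0 : g.det ≠ 0 := hg.ne_zero
  constructor
  · rintro ⟨r, hr⟩
    exact ⟨g.det * r, by rw [hdet, hr]; ring⟩
  · rintro ⟨r, hr⟩
    refine ⟨r / g.det, ?_⟩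
    have : B.det = B'.det / g.det ^ 2 := by
      rw [hdet]; field_simp
    rw [this, hr]
    field_simp

/-- the main congruence criterion on a general index type -/
theorem congr_of_isSquare_iff (h2 : (2 : F) ≠ 0) (B B' : Forms F (1 : F) ι)
    (h : IsSquare B.1.det ↔ IsSquare B'.1.det) : (formSetoid (1 : F) ι).r B B' := by
  obtain ⟨B, hBs, hBd⟩ := B
  obtain ⟨B', hBs', hBd'⟩ := B'
  rw [one_smul] at hBs hBs'
  let e : ι ≃ Fin (Fintype.card ι) := Fintype.equivFin ι
  have hsq := isSquare_mul_of_isSquare_iff h2 hBd.ne_zero hBd'.ne_zero h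
  have hr : ∀ M : Matrix ι ι F, (Matrix.reindex e e M).det = M.det := fun M =>
    Matrix.det_reindex_self e M
  obtain ⟨g₀, hg₀, hg₀B⟩ := congr_of_isSquare h2 (Matrix.reindex e e B) (Matrix.reindex e e B')
    (by rw [Matrix.reindex_apply, Matrix.transpose_submatrix, hBs])
    (by rw [Matrix.reindex_apply, Matrix.transpose_submatrix, hBs'])
    (by rw [hr]; exact hBd.ne_zero) (by rw [hr]; exact hBd'.ne_zero)
    (by rw [hr, hr]; exact hsq)
  refine ⟨g₀.submatrix e e, ?_, ?_⟩
  · rw [Matrix.det_submatrix_equiv_self]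
    exact hg₀
  · show (g₀.submatrix e e)ᵀ * B * (g₀.submatrix e e) = B'
    have hB0 : B = (Matrix.reindex e e B).submatrix e e := by
      ext i j; simp [Matrix.reindex_apply]
    have hB0' : B' = (Matrix.reindex e e B').submatrix e e := by
      ext i j; simp [Matrix.reindex_apply]
    rw [hB0', ← hg₀B, Matrix.transpose_submatrix]
    conv_lhs => rw [hB0]
    rw [Matrix.submatrix_mul_equiv, Matrix.submatrix_mul_equiv]

theorem card_forms_one (h2 : (2 : F) ≠ 0) (ι : Type*) [Fintype ι] [DecidableEq ι] :
    Nat.card (Quotient (formSetoid (1 : F) ι)) = if Fintype.card ι = 0 then 1 else 2 := by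
  classical
  by_cases hι : Fintype.card ι = 0
  · rw [if_pos hι]
    have hemp : IsEmpty ι := Fintype.card_eq_zero_iff.mp hι
    have hsub : Subsingleton (Forms F (1 : F) ι) := by
      constructor
      intro a b
      apply Subtype.ext
      exact Subsingleton.elim _ _
    have hne : Nonempty (Forms F (1 : F) ι) :=
      ⟨⟨1, by rw [Matrix.transpose_one, one_smul], by rw [Matrix.det_one]; exact isUnit_one⟩⟩
    have : Subsingleton (Quotient (formSetoid (1 : F) ι)) := inferInstance
    have : Nonempty (Quotient (formSetoid (1 : F) ι)) := hne.map (Quotient.mk _)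
    exact Nat.card_eq_one_iff_unique.mpr ⟨inferInstance, inferInstance⟩
  · rw [if_neg hι]
    have hne : Nonempty ι := by
      rw [← Fintype.card_pos_iff]; omega
    obtain ⟨i₀⟩ := hne
    obtain ⟨δ, hδ⟩ := FiniteField.exists_nonsquare (ringChar_ne_two h2)
    have hδ0 : δ ≠ 0 := by
      rintro rfl
      exact hδ ⟨0, by ring⟩
    -- the two representatives
    let B₁ : Forms F (1 : F) ι :=
      ⟨1, by rw [Matrix.transpose_one, one_smul], by rw [Matrix.det_one]; exact isUnit_one⟩
    have hdet₂ : (Matrix.diagonal (Function.update (fun _ : ι => (1 : F)) i₀ δ)).det = δ := by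
      rw [Matrix.det_diagonal, Finset.prod_eq_single i₀]
      · simp
      · intro b _ hb
        simp [Function.update_of_ne hb]
      · intro h; exact absurd (Finset.mem_univ _) h
    let B₂ : Forms F (1 : F) ι :=
      ⟨Matrix.diagonal (Function.update (fun _ : ι => (1 : F)) i₀ δ),
        by rw [Matrix.diagonal_transpose, one_smul], by rw [hdet₂]; exact hδ0.isUnit⟩
    rw [Nat.card_eq_two_iff]
    refine ⟨Quotient.mk _ B₁, Quotient.mk _ B₂, ?_, ?_⟩
    · intro h
      have h' := Quotient.exact h
      obtain ⟨g, hg, hgB⟩ := h'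
      have := (isSquare_det_iff_of_congr hg hgB).mp (by
        show IsSquare (1 : Matrix ι ι F).det
        rw [Matrix.det_one]; exact ⟨1, by ring⟩)
      apply hδ
      have h3 : B₂.1.det = δ := hdet₂
      rwa [h3] at this
    · apply Set.eq_univ_of_forall
      intro x
      induction x using Quotient.inductionOn with
      | h B =>
        by_cases hB : IsSquare B.1.det
        · left
          apply Quotient.sound
          apply congr_of_isSquare_iff h2
          constructor
          · intro _
            show IsSquare (1 : Matrix ι ι F).det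
            rw [Matrix.det_one]; exact ⟨1, by ring⟩
          · intro _; exact hB
        · right
          rw [Set.mem_singleton_iff]
          apply Quotient.sound
          apply congr_of_isSquare_iff h2
          constructor
          · intro h; exact absurd h hB
          · intro h
            have h3 : B₂.1.det = δ := hdet₂
            rw [h3] at h
            exact absurd h hδ

end general

end Cfsg.Agent.Lib.Helper3.SymForms
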