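import Mathlib
import Cfsg.Prelude.Def_ClassificationK
import Cfsg.Agent.S3762

/-!
# 2-groups of symplectic type and exponent dividing 4

Using the structure theorem (`S3762`), such a group has all its commutators in `{1, w}`, `w` the
unique involution of its (cyclic) centre.
-/

set_option autoImplicit false
open scoped commutatorElement

namespace Cfsg.Agent.Lib.Helper3.SympT

variable {T : Type*} [Group T]

/-- In a group of symplectic type the centre has at most one involution. -/
theorem central_invol_unique [Finite T] (hT : Cfsg.IsOfSymplecticType T) {w c : T}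
    (hw : w ∈ Subgroup.center T) (hw1 : w ≠ 1) (hww : w * w = 1)
    (hc : c ∈ Subgroup.center T) (hcc : c * c = 1) : c = 1 ∨ c = w := by
  classical
  haveI : IsCyclic (Subgroup.center T) :=
    hT.2 (Subgroup.center T) inferInstance inferInstance
  haveI : Fintype (Subgroup.center T) := Fintype.ofFinite _
  by_contra hcon
  push Not at hcon
  have hle := IsCyclic.card_pow_eq_one_le (α := Subgroup.center T) (n := 2) (by norm_num)
  have hsub : ({1, ⟨w, hw⟩, ⟨c, hc⟩} : Finset (Subgroup.center T)) ⊆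
      Finset.univ.filter (fun a : Subgroup.center T => a ^ 2 = 1) := by
    intro x hx
    simp only [Finset.mem_insert, Finset.mem_singleton] at hx
    simp only [Finset.mem_filter, Finset.mem_univ, true_and]
    rcases hx with rfl | rfl | rfl
    · simp
    · apply Subtype.ext; simp [pow_two, hww]
    · apply Subtype.ext; simp [pow_two, hcc]
  have hcard : ({1, ⟨w, hw⟩, ⟨c, hc⟩} : Finset (Subgroup.center T)).card = 3 := by
    rw [Finset.card_eq_three]
    refine ⟨1, ⟨w, hw⟩, ⟨c, hc⟩, ?_, ?_, ?_, rfl⟩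
    · intro h1; exact hw1 (congrArg Subtype.val h1).symm
    · intro h1; exact hcon.1 (congrArg Subtype.val h1).symm
    · intro h1; exact hcon.2 (congrArg Subtype.val h1).symm
  have := Finset.card_le_card hsub
  omega

/-- An element commuting with `E` and `R`, where `E ⊔ R = ⊤`, is central. -/
theorem central_of_comm_sup {E R : Subgroup T} (hsup : E ⊔ R = ⊤) {c : T}
    (hE : ∀ e ∈ E, e * c = c * e) (hR : ∀ r ∈ R, r * c = c * r) : c ∈ Subgroup.center T := by
  have h1 : E ⊔ R ≤ Subgroup.centralizer ({c} : Set T) := by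
    apply sup_le
    · intro e he
      rw [Subgroup.mem_centralizer_iff]
      intro x hx
      rw [Set.mem_singleton_iff] at hx
      rw [hx]; exact (hE e he).symm
    · intro r hr
      rw [Subgroup.mem_centralizer_iff]
      intro x hx
      rw [Set.mem_singleton_iff] at hx
      rw [hx]; exact (hR r hr).symm
  rw [Subgroup.mem_center_iff]
  intro t
  have ht : t ∈ Subgroup.centralizer ({c} : Set T) := h1 (by rw [hsup]; exact Subgroup.mem_top t)
  exact ((Subgroup.mem_centralizer_iff.mp ht) c rfl).symm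

/-- A finite group in which all fourth powers are trivial and of order at least 16 is not
dihedral, quaternion or quasidihedral. -/
theorem not_big_of_exp_four {R : Type*} [Group R] [Finite R] (h4 : ∀ r : R, r ^ 4 = 1)
    (h16 : 16 ≤ Nat.card R)
    (h : (∃ m : ℕ, Nonempty (R ≃* DihedralGroup m)) ∨ (∃ m : ℕ, Nonempty (R ≃* QuaternionGroup m)) ∨
      Cfsg.IsQuasiDihedral R) : False := by
  rcases h with ⟨m, ⟨e⟩⟩ | ⟨m, ⟨e⟩⟩ | ⟨n, hn, -, x, -, hx, -⟩
  · have h1 : orderOf (e.symm (DihedralGroup.r 1)) = m := by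
      rw [MulEquiv.orderOf_eq, DihedralGroup.orderOf_r_one]
    have h2 : m ∣ 4 := by
      rw [← h1]; exact orderOf_dvd_of_pow_eq_one (h4 _)
    have h3 : m ≤ 4 := Nat.le_of_dvd (by norm_num) h2
    have h5 : Nat.card R = 2 * m := by
      rw [Nat.card_congr e.toEquiv, DihedralGroup.nat_card]
    omega
  · have h1 : orderOf (e.symm (QuaternionGroup.a 1)) = 2 * m := by
      rw [MulEquiv.orderOf_eq, QuaternionGroup.orderOf_a_one]
    have h2 : 2 * m ∣ 4 := by
      rw [← h1]; exact orderOf_dvd_of_pow_eq_one (h4 _)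
    have h3 : 2 * m ≤ 4 := Nat.le_of_dvd (by norm_num) h2
    have hm0 : m ≠ 0 := by
      intro h0
      have : orderOf (e.symm (QuaternionGroup.a 1)) = 0 := by rw [h1, h0]
      exact (orderOf_pos _).ne' this
    haveI : NeZero m := ⟨hm0⟩
    have h5 : Nat.card R = 4 * m := by
      rw [Nat.card_congr e.toEquiv, Nat.card_eq_fintype_card, QuaternionGroup.card]
    omega
  · have h2 : 2 ^ n ∣ 4 := by
      rw [← hx]; exact orderOf_dvd_of_pow_eq_one (h4 _)
    have h3 : 2 ^ n ≤ 4 := Nat.le_of_dvd (by norm_num) h2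
    have h6 : 2 ^ 3 ≤ 2 ^ n := Nat.pow_le_pow_right (by norm_num) hn
    omega

/-- In a finite 2-group of symplectic type with all fourth powers trivial, every commutator
is `1` or the central involution. -/
theorem comm_cases [Finite T] (hT : Cfsg.IsOfSymplecticType T) (h4 : ∀ t : T, t ^ 4 = 1) {w : T}
    (hw : w ∈ Subgroup.center T) (hw1 : w ≠ 1) (hww : w * w = 1) (x y : T) :
    x * y * x⁻¹ * y⁻¹ = 1 ∨ x * y * x⁻¹ * y⁻¹ = w := by
  classical
  haveI : Fact (Nat.Prime 2) := ⟨Nat.prime_two⟩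
  obtain ⟨E, R, hcomm, hsup, hE, hR⟩ := Cfsg.Agent.S3762.result hT.1 hT.2
  -- R is cyclic
  have hRcyc : IsCyclic R := by
    rcases hR with hR | ⟨-, h16, hR⟩
    · exact hR
    · exfalso
      refine not_big_of_exp_four (R := ↥R) ?_ h16 hR
      intro r
      apply Subtype.ext
      simpa using h4 (r : T)
  -- R is central
  have hRcomm : ∀ r ∈ R, ∀ s ∈ R, r * s = s * r := by
    intro r hr s hs
    obtain ⟨g, hg⟩ := hRcyc.exists_generator
    have h1 := hg ⟨r, hr⟩
    have h2 := hg ⟨s, hs⟩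
    rw [Subgroup.mem_zpowers_iff] at h1 h2
    obtain ⟨i, hi⟩ := h1
    obtain ⟨j, hj⟩ := h2
    have h3 : (⟨r, hr⟩ : ↥R) * ⟨s, hs⟩ = ⟨s, hs⟩ * ⟨r, hr⟩ := by
      rw [← hi, ← hj, ← zpow_add, ← zpow_add, add_comm]
    exact congrArg Subtype.val h3
  have hRcen : ∀ r ∈ R, r ∈ Subgroup.center T := by
    intro r hr
    apply central_of_comm_sup hsup
    · intro e he; exact hcomm e he r hr
    · intro s hs; exact hRcomm s hs r hr
  haveI hRn : R.Normal := by
    constructor
    intro r hr t
    have := Subgroup.mem_center_iff.mp (hRcen r hr) t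
    have h1 : t * r * t⁻¹ = r := by
      rw [this]; group
    rw [h1]; exact hr
  -- decompose x and y
  have hdec : ∀ t : T, ∃ e ∈ E, ∃ r ∈ R, t = e * r := by
    intro t
    have ht : t ∈ ((E ⊔ R : Subgroup T) : Set T) := by rw [hsup]; exact Subgroup.mem_top t
    rw [Subgroup.mul_normal] at ht
    obtain ⟨e, he, r, hr, rfl⟩ := Set.mem_mul.mp ht
    exact ⟨e, he, r, hr, rfl⟩
  obtain ⟨e, he, r, hr, rfl⟩ := hdec x
  obtain ⟨e', he', r', hr', rfl⟩ := hdec y
  have hrc := Subgroup.mem_center_iff.mp (hRcen r hr)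
  have hr'c := Subgroup.mem_center_iff.mp (hRcen r' hr')
  have hcomm_eq : e * r * (e' * r') * (e * r)⁻¹ * (e' * r')⁻¹ = e * e' * e⁻¹ * e'⁻¹ := by
    have a1 : r * (e' * r') * r⁻¹ = e' * r' := by
      rw [← hrc (e' * r')]; group
    have a2 : r' * e⁻¹ = e⁻¹ * r' := (hr'c e⁻¹).symm
    calc e * r * (e' * r') * (e * r)⁻¹ * (e' * r')⁻¹
        = e * (r * (e' * r') * r⁻¹) * e⁻¹ * (e' * r')⁻¹ := by group
      _ = e * (e' * r') * e⁻¹ * (e' * r')⁻¹ := by rw [a1]
      _ = e * e' * (r' * e⁻¹) * r'⁻¹ * e'⁻¹ := by group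
      _ = e * e' * (e⁻¹ * r') * r'⁻¹ * e'⁻¹ := by rw [a2]
      _ = e * e' * e⁻¹ * e'⁻¹ := by group
  rw [hcomm_eq]
  rcases hE with hE | hE
  · -- E trivial
    left
    rw [hE, Subgroup.mem_bot] at he he'
    rw [he, he']; group
  · -- E extraspecial
    set eE : ↥E := ⟨e, he⟩ with heE
    set e'E : ↥E := ⟨e', he'⟩ with he'E
    have hcE : ⁅eE, e'E⁆ ∈ Subgroup.center ↥E := by
      rw [← hE.1.2.2, commutator_def]
      exact Subgroup.commutator_mem_commutator (Subgroup.mem_top _) (Subgroup.mem_top _)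
    have hcval : ((⁅eE, e'E⁆ : ↥E) : T) = e * e' * e⁻¹ * e'⁻¹ := by
      simp [commutatorElement_def, heE, he'E]
    have hsq : (⁅eE, e'E⁆ : ↥E) ^ 2 = 1 := by
      have h1 : (⟨⁅eE, e'E⁆, hcE⟩ : Subgroup.center ↥E) ^ Nat.card (Subgroup.center ↥E) = 1 :=
        pow_card_eq_one'
      rw [hE.2] at h1
      exact congrArg Subtype.val h1
    have hsq' : (e * e' * e⁻¹ * e'⁻¹) * (e * e' * e⁻¹ * e'⁻¹) = 1 := by
      rw [← hcval, ← pow_two, ← Subgroup.coe_pow, hsq]; rfl
    have hcen : e * e' * e⁻¹ * e'⁻¹ ∈ Subgroup.center T := by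
      apply central_of_comm_sup hsup
      · intro f hf
        have := Subgroup.mem_center_iff.mp hcE ⟨f, hf⟩
        have h2 := congrArg Subtype.val this
        rw [Subgroup.coe_mul, Subgroup.coe_mul, hcval] at h2
        exact h2
      · intro s hs
        have hEmem : e * e' * e⁻¹ * e'⁻¹ ∈ E :=
          E.mul_mem (E.mul_mem (E.mul_mem he he') (E.inv_mem he)) (E.inv_mem he')
        exact (hcomm _ hEmem s hs).symm
    exact central_invol_unique hT hw hw1 hww hcen hsq'

end Cfsg.Agent.Lib.Helper3.SympT
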