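import Cfsg.Agent.Lib.Helper3.Sz29
import Cfsg.Agent.Lib.Helper3.Sz25
import Cfsg.Agent.Lib.Helper3.Sz21
import Cfsg.Agent.Lib.Helper3.Sz18
import Cfsg.Agent.Lib.Helper3.Sz16
import Cfsg.Agent.Lib.Helper3.Sz15

/-!
Suzuki groups: elementary abelian subgroups of order `q`, their normalizers (the Borel subgroups)
and the uniqueness of the nontrivial elementary abelian normal `2`-subgroup of a Borel subgroup.
Also an abstract lemma for the case `q = 2`.
-/

namespace Cfsg.Agent.Lib.Helper3.SzBorelEA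

open Cfsg.Agent.Lib.Helper3.Sz

/-- The property of a subgroup `E` used below: its normalizer is proper, and `E` is the only
nontrivial subgroup of exponent two which is normal in the normalizer of `E`. -/
def EAProp {Γ : Type*} [Group Γ] (E : Subgroup Γ) : Prop :=
  Subgroup.normalizer (E : Set Γ) ≠ ⊤ ∧
    ∀ V : Subgroup Γ, V ≤ Subgroup.normalizer (E : Set Γ) →
      Subgroup.normalizer (E : Set Γ) ≤ Subgroup.normalizer (V : Set Γ) →
      (∀ x ∈ V, x ^ 2 = 1) → V ≠ ⊥ → V = E

theorem EAProp.map_equiv {Γ Γ' : Type*} [Group Γ] [Group Γ'] (φ : Γ ≃* Γ') {E : Subgroup Γ}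
    (h : EAProp E) : EAProp (E.map φ.toMonoidHom) := by
  obtain ⟨h1, h2⟩ := h
  have hN : ∀ W : Subgroup Γ, Subgroup.normalizer ((W.map φ.toMonoidHom : Subgroup Γ') : Set Γ') =
      (Subgroup.normalizer (W : Set Γ)).map φ.toMonoidHom :=
    fun W => (Subgroup.map_equiv_normalizer_eq W φ).symm
  have hinj : Function.Injective (Subgroup.map φ.toMonoidHom) :=
    Subgroup.map_injective φ.injective
  constructor
  · intro htop
    apply h1
    apply hinj
    rw [← hN, htop]
    ext x
    simp only [Subgroup.mem_top, Subgroup.mem_map_equiv]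
  · intro V hV1 hV2 hV3 hV4
    have hVmap : (V.comap φ.toMonoidHom).map φ.toMonoidHom = V :=
      Subgroup.map_comap_eq_self_of_surjective φ.surjective V
    rw [← hVmap]
    congr 1
    apply h2
    · rw [hN, ← hVmap] at hV1
      exact (Subgroup.map_le_map_iff_of_injective φ.injective).mp hV1
    · rw [hN, ← hVmap, hN] at hV2
      exact (Subgroup.map_le_map_iff_of_injective φ.injective).mp hV2
    · intro x hx
      have := hV3 _ hx
      apply φ.injective
      rw [map_pow, map_one]
      exact this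
    · intro hbot
      apply hV4
      rw [← hVmap, hbot, Subgroup.map_bot]

section Gam

variable {F : Type*} [Field F] [CharP F 2] (T : Tits F)

/-- elements of `Usub` of square one lie in `Esub ⊤` -/
theorem mem_Esub_of_sq {u : Gam T} (hu : u ∈ Usub T) (h2 : u ^ 2 = 1) : u ∈ Esub T ⊤ := by
  obtain ⟨a, b, rfl⟩ := hu
  rw [uG_sq, uG_eq_one_iff] at h2
  have ha : a = 0 := by
    rcases mul_eq_zero.mp h2.2 with h | h
    · exact h
    · exact (T.eq_zero_iff).mp h
  subst ha
  exact ⟨b, AddSubgroup.mem_top _, rfl⟩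

/-- a subgroup of exponent two and order `|F|` is conjugate to `Esub ⊤` -/
theorem exists_conj_eq [Fintype F] (hT : T.IsPow) (E : Subgroup (Gam T))
    (hE2 : ∀ x ∈ E, x ^ 2 = 1) (hcard : Nat.card E = Nat.card F) :
    ∃ g : Gam T, E = (Esub T ⊤).map (MulAut.conj g).toMonoidHom := by
  have hp : IsPGroup 2 E := by
    intro x
    refine ⟨1, ?_⟩
    apply Subtype.ext
    simpa using hE2 x x.2
  obtain ⟨P, hP⟩ := hp.exists_le_sylow
  obtain ⟨g, hg⟩ := exists_conj_sylow T hT P
  refine ⟨g, ?_⟩
  have hle : E ≤ (Esub T ⊤).map (MulAut.conj g).toMonoidHom := by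
    intro x hx
    have hxP : x ∈ (P : Subgroup (Gam T)) := hP hx
    rw [hg] at hxP
    obtain ⟨u, hu, rfl⟩ := hxP
    refine ⟨u, mem_Esub_of_sq T hu ?_, rfl⟩
    have h1 := hE2 _ hx
    rw [← map_pow] at h1
    apply (MulAut.conj g).injective
    rw [map_one]
    exact h1
  apply Subgroup.eq_of_le_of_card_ge hle
  rw [Subgroup.card_map_of_injective (MulAut.conj g).injective, card_Esub, hcard]
  exact le_of_eq (Nat.card_congr AddSubgroup.topEquiv.toEquiv)

/-- the Borel subgroup normalizes `Esub ⊤` -/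
theorem borel_conj_mem_Esub [Fintype F] (hT : T.IsPow) {g : Gam T} (hg : g ∈ Borel T) {h : Gam T}
    (hh : h ∈ Esub T ⊤) : g * h * g⁻¹ ∈ Esub T ⊤ := by
  obtain ⟨c, d, k, rfl⟩ := borel_decomp T hT hg
  obtain ⟨b, -, rfl⟩ := hh
  rw [borel_conj_center]
  exact ⟨_, AddSubgroup.mem_top _, rfl⟩

theorem normalizer_Esub_top [Fintype F] (hT : T.IsPow) :
    Subgroup.normalizer ((Esub T ⊤ : Subgroup (Gam T)) : Set (Gam T)) = Borel T := by
  apply le_antisymm
  · intro x hx
    rw [Subgroup.mem_normalizer_iff] at hx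
    have h1 : uG T 0 1 ∈ Esub T ⊤ := ⟨1, AddSubgroup.mem_top _, rfl⟩
    obtain ⟨b, -, hb⟩ := (hx _).mp h1
    have hb0 : b ≠ 0 := by
      rintro rfl
      rw [uG_zero] at hb
      have : uG T 0 (1 : F) = 1 := by
        have h2 : x⁻¹ * (x * uG T 0 1 * x⁻¹) * x = uG T 0 1 := by group
        rw [hb] at h2
        rw [← h2]; group
      exact one_ne_zero ((uG_eq_one_iff T).mp this).2
    show x • oInf T = oInf T
    by_contra hne
    have hfix : uG T 0 b • (x • oInf T) = x • oInf T := by
      rw [← hb, ← mul_smul, mul_assoc, mul_assoc, inv_mul_cancel, mul_one, mul_smul, uG_smul_oInf]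
    exact hb0 (uG_fix T hfix hne).2
  · intro x hx
    rw [Subgroup.mem_normalizer_iff]
    intro h
    constructor
    · exact fun hh => borel_conj_mem_Esub T hT hx hh
    · intro hh
      have := borel_conj_mem_Esub T hT ((Borel T).inv_mem hx) hh
      have h2 : x⁻¹ * (x * h * x⁻¹) * x⁻¹⁻¹ = h := by group
      rwa [h2] at this

/-- the uniqueness statement inside the Borel subgroup -/
theorem eq_Esub_top [Fintype F] (hT : T.IsPow) (V : Subgroup (Gam T)) (hVB : V ≤ Borel T)
    (hBV : Borel T ≤ Subgroup.normalizer (V : Set (Gam T))) (hV2 : ∀ x ∈ V, x ^ 2 = 1)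
    (hV : V ≠ ⊥) : V = Esub T ⊤ := by
  have hVE : V ≤ Esub T ⊤ := by
    intro x hx
    obtain ⟨a, b, k, rfl⟩ := borel_decomp T hT (hVB hx)
    have h2 := hV2 _ hx
    have hk : k = 1 := by
      have h3 : (uG T a b * hG T k) ^ 2 =
          uG T a b * uG T ((k : F) ^ 2 * a) (T.θ k ^ 2 * (k : F) ^ 2 * b) * hG T (k * k) := by
        rw [pow_two, mul_assoc (uG T a b), ← mul_assoc (hG T k), hG_mul_uG, mul_assoc, mul_assoc,
          hG_mul, ← mul_assoc]
      rw [h3, uG_mul] at h2
      have h4 : uG T (a + (k : F) ^ 2 * a) (b + T.θ k ^ 2 * (k : F) ^ 2 * b + T.θ a * ((k : F) ^ 2 * a)) *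
          hG T (k * k) = uG T 0 0 * hG T 1 := by
        rw [h2, uG_zero, hG_one, mul_one]
      have h5 := (uG_mul_hG_injective T h4).2.2
      apply units_sq_eq_one
      rw [pow_two, ← Units.val_mul, h5, Units.val_one]
    subst hk
    rw [hG_one, mul_one] at h2 ⊢
    exact mem_Esub_of_sq T (uG_mem_Usub T a b) h2
  apply le_antisymm hVE
  -- a nontrivial element
  obtain ⟨x, hx, hx1⟩ : ∃ x ∈ V, x ≠ 1 := by
    by_contra hcon
    push Not at hcon
    exact hV ((Subgroup.eq_bot_iff_forall V).mpr hcon)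
  obtain ⟨b₀, -, rfl⟩ := hVE hx
  have hb₀ : b₀ ≠ 0 := by
    rintro rfl
    exact hx1 (uG_zero T)
  rintro _ ⟨b, -, rfl⟩
  by_cases hb : b = 0
  · subst hb
    rw [uG_zero]; exact V.one_mem
  · obtain ⟨y, hy⟩ := exists_sq (b / b₀)
    obtain ⟨z, hz⟩ := T.norm_surjective y
    have hz0 : z ≠ 0 := by
      rintro rfl
      rw [zero_mul] at hz
      rw [← hz] at hy
      have : b / b₀ ≠ 0 := div_ne_zero hb hb₀
      apply this
      rw [← hy]; ring
    have hmem := (Subgroup.mem_normalizer_iff.mp (hBV (hG_mem_Borel T (Units.mk0 z hz0))) _).mp hx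
    have h6 := borel_conj_center T 0 0 (Units.mk0 z hz0) b₀
    rw [uG_zero, one_mul] at h6
    rw [h6] at hmem
    have h7 : T.θ ((Units.mk0 z hz0 : Fˣ) : F) ^ 2 * ((Units.mk0 z hz0 : Fˣ) : F) ^ 2 * b₀ = b := by
      rw [Units.val_mk0]
      have : T.θ z ^ 2 * z ^ 2 = (z * T.θ z) ^ 2 := by ring
      rw [this, hz, hy]
      field_simp
    rwa [h7] at hmem

theorem eaProp_Esub_top [Fintype F] (hT : T.IsPow) : EAProp (Esub T ⊤ : Subgroup (Gam T)) := by
  constructor
  · rw [normalizer_Esub_top T hT]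
    exact borel_ne_top T
  · intro V h1 h2 h3 h4
    rw [normalizer_Esub_top T hT] at h1 h2
    exact eq_Esub_top T hT V h1 h2 h3 h4

theorem eaProp_of_card [Fintype F] (hT : T.IsPow) (E : Subgroup (Gam T))
    (hE2 : ∀ x ∈ E, x ^ 2 = 1) (hcard : Nat.card E = Nat.card F) : EAProp E := by
  obtain ⟨g, rfl⟩ := exists_conj_eq T hT E hE2 hcard
  exact (eaProp_Esub_top T hT).map_equiv (MulAut.conj g)

end Gam

/-- **Suzuki case.** In a group `Λ` isomorphic to `Sz(q)`, `q = 2^(2m+1)`, `m ≥ 1`, a subgroup `E`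
of exponent two and order `q` has a proper normalizer, and `E` is the only nontrivial subgroup of
exponent two that is normal in the normalizer of `E`. -/
theorem sz_ea_unique {F : Type*} [Field F] [Fintype F] {m : ℕ} (hm : 1 ≤ m)
    (hF : Fintype.card F = 2 ^ (2 * m + 1)) {Λ : Type*} [Group Λ]
    (e : Λ ≃* ↥(Cfsg.Lie.Sz F (2 ^ (m + 1)))) (E : Subgroup Λ) (hE2 : ∀ x ∈ E, x ^ 2 = 1)
    (hcard : Nat.card E = Fintype.card F) :
    Subgroup.normalizer (E : Set Λ) ≠ ⊤ ∧
      ∀ V : Subgroup Λ, V ≤ Subgroup.normalizer (E : Set Λ) →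
        Subgroup.normalizer (E : Set Λ) ≤ Subgroup.normalizer (V : Set Λ) →
        (∀ x ∈ V, x ^ 2 = 1) → V ≠ ⊥ → V = E := by
  have : CharP F 2 := charP_two_of_card hF
  have hT := titsOfCard_isPow hm hF
  let ε : Gam (titsOfCard hF) ≃* Λ :=
    ((gamEquiv (titsOfCard hF)).trans
      (MulEquiv.subgroupCongr (lieSz_eq (titsOfCard hF) hT (titsOfCard_apply hF)).symm)).trans e.symm
  have hmap : (E.comap ε.toMonoidHom).map ε.toMonoidHom = E :=
    Subgroup.map_comap_eq_self_of_surjective ε.surjective E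
  have hprop : EAProp (E.comap ε.toMonoidHom) := by
    apply eaProp_of_card (titsOfCard hF) hT
    · intro x hx
      apply ε.injective
      rw [map_pow, map_one]
      exact hE2 _ hx
    · have hc : Nat.card ((E.comap ε.toMonoidHom).map ε.toMonoidHom) =
          Nat.card (E.comap ε.toMonoidHom) :=
        Subgroup.card_map_of_injective (f := ε.toMonoidHom) ε.injective
      rw [← hc, hmap, hcard, Nat.card_eq_fintype_card]
  have := hprop.map_equiv ε
  rw [hmap] at this
  exact this


section CardTwo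

variable {Λ : Type*} [Group Λ]

/-- a subgroup generated by pairwise commuting involutions has exponent two -/
theorem sq_eq_one_of_closure {k : Set Λ} (hcomm : ∀ x ∈ k, ∀ y ∈ k, x * y = y * x)
    (hsq : ∀ x ∈ k, x * x = 1) : ∀ x ∈ Subgroup.closure k, x * x = 1 := by
  have hc : ∀ a ∈ Subgroup.closure k, ∀ b ∈ Subgroup.closure k, a * b = b * a := by
    intro a ha b hb
    have := (Subgroup.isMulCommutative_closure hcomm).is_comm.comm ⟨a, ha⟩ ⟨b, hb⟩
    exact congrArg Subtype.val this
  intro x hx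
  induction hx using Subgroup.closure_induction with
  | mem x hx => exact hsq x hx
  | one => exact one_mul 1
  | mul a b ha hb iha ihb =>
    calc a * b * (a * b) = a * (b * a) * b := by group
      _ = a * (a * b) * b := by rw [hc b hb a ha]
      _ = (a * a) * (b * b) := by group
      _ = 1 := by rw [iha, ihb, one_mul]
  | inv a ha iha =>
    have : a⁻¹ = a := inv_eq_of_mul_eq_one_left iha
    rw [this, iha]

/-- **Order two.** Let `Λ` be a finite group without nontrivial normal `2`-subgroups and `E` a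
subgroup of order two such that every proper subgroup of `Λ` containing `E` normalizes `E`.
Then `E` is its own normalizer (and `Λ` is generated by two conjugates of the involution). -/
theorem normalizer_eq_of_card_two [Finite Λ]
    (hO2 : ∀ N : Subgroup Λ, N.Normal → IsPGroup 2 N → N = ⊥)
    (E : Subgroup Λ) (hE : Nat.card E = 2)
    (hmax : ∀ X : Subgroup Λ, E ≤ X → X ≠ ⊤ → X ≤ Subgroup.normalizer (E : Set Λ)) :
    Subgroup.normalizer (E : Set Λ) = E := by
  classical
  -- the involution
  obtain ⟨⟨y, hyE⟩, hy1, hyu⟩ := (Nat.card_eq_two_iff' (1 : E)).mp hE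
  have hy1' : y ≠ 1 := fun h => hy1 (Subtype.ext h)
  have hE' : ∀ x ∈ E, x = 1 ∨ x = y := by
    intro x hx
    by_cases h : x = 1
    · exact Or.inl h
    · right
      have := hyu ⟨x, hx⟩ (fun h' => h (congrArg Subtype.val h'))
      exact congrArg Subtype.val this
  have hyy : y * y = 1 := by
    rcases hE' _ (E.mul_mem hyE hyE) with h | h
    · exact h
    · exfalso; apply hy1'
      calc y = y⁻¹ * (y * y) := by group
        _ = y⁻¹ * y := by rw [h]
        _ = 1 := inv_mul_cancel y
  have hyinv : y⁻¹ = y := inv_eq_of_mul_eq_one_left hyy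
  -- the normalizer is the centralizer of y
  have hC : ∀ g : Λ, g ∈ Subgroup.normalizer (E : Set Λ) ↔ g * y * g⁻¹ = y := by
    intro g
    rw [Subgroup.mem_normalizer_iff]
    constructor
    · intro h
      rcases hE' _ ((h y).mp hyE) with h1 | h1
      · exfalso; apply hy1'
        calc y = g⁻¹ * (g * y * g⁻¹) * g := by group
          _ = 1 := by rw [h1]; group
      · exact h1
    · intro h x
      constructor
      · intro hx
        rcases hE' x hx with rfl | rfl
        · rw [mul_one, mul_inv_cancel]; exact E.one_mem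
        · rw [h]; exact hyE
      · intro hx
        rcases hE' _ hx with h1 | h1
        · have : x = 1 := by
            calc x = g⁻¹ * (g * x * g⁻¹) * g := by group
              _ = 1 := by rw [h1]; group
          rw [this]; exact E.one_mem
        · have : x = y := by
            calc x = g⁻¹ * (g * x * g⁻¹) * g := by group
              _ = g⁻¹ * (g * y * g⁻¹) * g := by rw [h1, h]
              _ = y := by group
          rw [this]; exact hyE
  have hEle : E ≤ Subgroup.normalizer (E : Set Λ) := Subgroup.le_normalizer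
  apply le_antisymm _ hEle
  -- Step 1: two conjugates generate
  have hgen : ∃ g : Λ, Subgroup.closure ({y, g * y * g⁻¹} : Set Λ) = ⊤ := by
    by_contra hcon
    push Not at hcon
    have hcomm1 : ∀ g : Λ, (g * y * g⁻¹) * y = y * (g * y * g⁻¹) := by
      intro g
      have hle : E ≤ Subgroup.closure ({y, g * y * g⁻¹} : Set Λ) := by
        intro x hx
        rcases hE' x hx with rfl | rfl
        · exact Subgroup.one_mem _
        · exact Subgroup.subset_closure (Set.mem_insert _ _)
      have hz := hmax _ hle (hcon g)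
        (Subgroup.subset_closure (Set.mem_insert_of_mem _ (Set.mem_singleton _)))
      have h2 := (hC _).mp hz
      calc (g * y * g⁻¹) * y = ((g * y * g⁻¹) * y * (g * y * g⁻¹)⁻¹) * (g * y * g⁻¹) := by group
        _ = y * (g * y * g⁻¹) := by rw [h2]
    have hcomm : ∀ a ∈ Group.conjugatesOfSet ({y} : Set Λ),
        ∀ b ∈ Group.conjugatesOfSet ({y} : Set Λ), a * b = b * a := by
      intro a ha b hb
      rw [Group.mem_conjugatesOfSet_iff] at ha hb
      obtain ⟨y1, hy1s, ha⟩ := ha
      obtain ⟨y2, hy2s, hb⟩ := hb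
      rw [Set.mem_singleton_iff] at hy1s hy2s
      rw [hy1s] at ha
      rw [hy2s] at hb
      rw [isConj_iff] at ha hb
      obtain ⟨g, rfl⟩ := ha
      obtain ⟨h, rfl⟩ := hb
      have h3 := hcomm1 (h⁻¹ * g)
      calc g * y * g⁻¹ * (h * y * h⁻¹)
          = h * (((h⁻¹ * g) * y * (h⁻¹ * g)⁻¹) * y) * h⁻¹ := by group
        _ = h * (y * ((h⁻¹ * g) * y * (h⁻¹ * g)⁻¹)) * h⁻¹ := by rw [h3]
        _ = h * y * h⁻¹ * (g * y * g⁻¹) := by group
    have hsq : ∀ a ∈ Group.conjugatesOfSet ({y} : Set Λ), a * a = 1 := by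
      intro a ha
      rw [Group.mem_conjugatesOfSet_iff] at ha
      obtain ⟨y1, hy1s, ha⟩ := ha
      rw [Set.mem_singleton_iff] at hy1s
      rw [hy1s] at ha
      rw [isConj_iff] at ha
      obtain ⟨g, rfl⟩ := ha
      calc g * y * g⁻¹ * (g * y * g⁻¹) = g * (y * y) * g⁻¹ := by group
        _ = 1 := by rw [hyy]; group
    have hN2 := sq_eq_one_of_closure hcomm hsq
    have hNp : IsPGroup 2 (Subgroup.normalClosure ({y} : Set Λ)) := by
      intro x
      refine ⟨1, ?_⟩
      apply Subtype.ext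
      have := hN2 x.1 x.2
      simpa [pow_two] using this
    have hbot := hO2 _ Subgroup.normalClosure_normal hNp
    have hyN : y ∈ Subgroup.normalClosure ({y} : Set Λ) :=
      Subgroup.subset_normalClosure (Set.mem_singleton y)
    rw [hbot, Subgroup.mem_bot] at hyN
    exact hy1' hyN
  obtain ⟨g, hg⟩ := hgen
  obtain ⟨z, hz⟩ : ∃ z, z = g * y * g⁻¹ := ⟨_, rfl⟩
  rw [← hz] at hg
  have hzz : z * z = 1 := by
    rw [hz]
    calc g * y * g⁻¹ * (g * y * g⁻¹) = g * (y * y) * g⁻¹ := by group
      _ = 1 := by rw [hyy]; group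
  have hzinv : z⁻¹ = z := inv_eq_of_mul_eq_one_left hzz
  obtain ⟨r, hr⟩ : ∃ r, r = y * z := ⟨_, rfl⟩
  have hyr : y * r * y⁻¹ = r⁻¹ := by
    rw [hr, mul_inv_rev, hzinv, hyinv]
    calc y * (y * z) * y = (y * y) * z * y := by group
      _ = z * y := by rw [hyy, one_mul]
  have hyrz : ∀ i : ℤ, y * r ^ i * y⁻¹ = (r ^ i)⁻¹ := by
    intro i
    have : y * r ^ i * y⁻¹ = (y * r * y⁻¹) ^ i := by
      rw [conj_zpow]
    rw [this, hyr, inv_zpow]
  have hzr : z = y⁻¹ * r := by rw [hr]; group
  -- R is normal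
  have hyN : y ∈ Subgroup.normalizer ((Subgroup.zpowers r : Subgroup Λ) : Set Λ) := by
    rw [Subgroup.mem_normalizer_iff]
    have h1 : ∀ h ∈ Subgroup.zpowers r, y * h * y⁻¹ ∈ Subgroup.zpowers r := by
      rintro _ ⟨i, rfl⟩
      rw [hyrz]
      exact (Subgroup.zpowers r).inv_mem ⟨i, rfl⟩
    intro h
    constructor
    · exact h1 h
    · intro hh
      have := h1 _ hh
      have h2 : y * (y * h * y⁻¹) * y⁻¹ = h := by
        rw [hyinv]
        calc y * (y * h * y) * y = (y * y) * h * (y * y) := by group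
          _ = h := by rw [hyy, one_mul, mul_one]
      rwa [h2] at this
  have hRn : (Subgroup.zpowers r).Normal := by
    rw [← Subgroup.normalizer_eq_top_iff, eq_top_iff, ← hg, Subgroup.closure_le]
    intro x hx
    rcases hx with rfl | hx
    · exact hyN
    · rw [Set.mem_singleton_iff] at hx
      rw [hx, hzr]
      exact Subgroup.mul_mem _ (Subgroup.inv_mem _ hyN)
        (Subgroup.le_normalizer (Subgroup.mem_zpowers r))
  -- everything is r^i * e
  have htop : (Subgroup.zpowers r ⊔ E : Subgroup Λ) = ⊤ := by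
    rw [eq_top_iff, ← hg, Subgroup.closure_le]
    intro x hx
    rcases hx with rfl | hx
    · exact (le_sup_right : E ≤ Subgroup.zpowers r ⊔ E) hyE
    · rw [Set.mem_singleton_iff] at hx
      rw [hx, hzr]
      exact Subgroup.mul_mem _ (Subgroup.inv_mem _ ((le_sup_right : E ≤ Subgroup.zpowers r ⊔ E) hyE))
        ((le_sup_left : Subgroup.zpowers r ≤ Subgroup.zpowers r ⊔ E) (Subgroup.mem_zpowers r))
  -- the order of r is odd
  have hodd : Odd (orderOf r) := by
    by_contra heven
    rw [Nat.not_odd_iff_even] at heven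
    obtain ⟨k, hk⟩ := heven
    have hpos : 0 < orderOf r := orderOf_pos r
    have hk0 : 0 < k := by omega
    obtain ⟨c, hc⟩ : ∃ c, c = r ^ k := ⟨_, rfl⟩
    have hcc : c * c = 1 := by
      rw [hc, ← pow_add, ← hk, pow_orderOf_eq_one]
    have hc1 : c ≠ 1 := by
      rw [hc]
      intro h
      have := orderOf_dvd_of_pow_eq_one h
      have := Nat.le_of_dvd hk0 this
      omega
    have hcinv : c⁻¹ = c := inv_eq_of_mul_eq_one_left hcc
    have hcy : y * c * y⁻¹ = c := by
      have := hyrz (k : ℤ)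
      rw [zpow_natCast, ← hc, hcinv] at this
      exact this
    have hcr : r * c = c * r := by
      rw [hc, ← pow_succ', ← pow_succ]
    have hcen : c ∈ Subgroup.center Λ := by
      have hle : (⊤ : Subgroup Λ) ≤ Subgroup.centralizer ({c} : Set Λ) := by
        rw [← hg, Subgroup.closure_le]
        intro x hx
        have hyc : y ∈ Subgroup.centralizer ({c} : Set Λ) := by
          rw [Subgroup.mem_centralizer_singleton_iff]
          calc y * c = (y * c * y⁻¹) * y := by group
            _ = c * y := by rw [hcy]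
        rcases hx with rfl | hx
        · exact hyc
        · rw [Set.mem_singleton_iff] at hx
          rw [hx, hzr]
          refine Subgroup.mul_mem _ (Subgroup.inv_mem _ hyc) ?_
          rw [Subgroup.mem_centralizer_singleton_iff]
          exact hcr
      rw [Subgroup.mem_center_iff]
      intro x
      have := hle (Subgroup.mem_top x)
      rw [Subgroup.mem_centralizer_singleton_iff] at this
      exact this
    have hZn : (Subgroup.zpowers c).Normal := by
      constructor
      intro n hn x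
      obtain ⟨i, rfl⟩ := hn
      have hci : c ^ i ∈ Subgroup.center Λ := Subgroup.zpow_mem _ hcen i
      rw [Subgroup.mem_center_iff] at hci
      have : x * c ^ i * x⁻¹ = c ^ i := by
        rw [hci x]; group
      rw [this]
      exact ⟨i, rfl⟩
    have hZp : IsPGroup 2 (Subgroup.zpowers c) := by
      rintro ⟨x, i, rfl⟩
      refine ⟨1, ?_⟩
      apply Subtype.ext
      show (c ^ i) ^ 2 ^ 1 = 1
      rw [pow_one, ← zpow_natCast, ← zpow_mul, mul_comm, zpow_mul, zpow_natCast, pow_two, hcc,
        one_zpow]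
    have := hO2 _ hZn hZp
    apply hc1
    have hm : c ∈ Subgroup.zpowers c := Subgroup.mem_zpowers c
    rwa [this, Subgroup.mem_bot] at hm
  -- conclusion
  intro x hx
  have hxy := (hC x).mp hx
  have hxtop : x ∈ (Subgroup.zpowers r ⊔ E : Subgroup Λ) := by rw [htop]; exact Subgroup.mem_top x
  rw [← SetLike.mem_coe, Subgroup.normal_mul, Set.mem_mul] at hxtop
  obtain ⟨a, ha, e, he, rfl⟩ := hxtop
  obtain ⟨i, hi⟩ := ha
  have hi' : a = r ^ i := hi.symm
  subst hi'
  have hey : e * y * e⁻¹ = y := (hC e).mp (hEle he)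
  have hri : y * r ^ i * y⁻¹ = r ^ i := by
    have h1 : r ^ i * y * (r ^ i)⁻¹ = y := by
      calc r ^ i * y * (r ^ i)⁻¹ = r ^ i * (e * y * e⁻¹) * (r ^ i)⁻¹ := by rw [hey]
        _ = (r ^ i * e) * y * (r ^ i * e)⁻¹ := by group
        _ = y := hxy
    calc y * r ^ i * y⁻¹ = (r ^ i * y * (r ^ i)⁻¹)* r ^ i * y⁻¹ := by rw [h1]
      _ = r ^ i := by group
  rw [hyrz] at hri
  have h2i : r ^ (2 * i) = 1 := by
    rw [two_mul, zpow_add]
    nth_rewrite 1 [← hri]
    exact inv_mul_cancel _
  have hdvd : (orderOf r : ℤ) ∣ 2 * i := orderOf_dvd_iff_zpow_eq_one.mpr h2i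
  have hcop : IsCoprime (orderOf r : ℤ) 2 := by
    have : Nat.Coprime (orderOf r) 2 := Nat.Coprime.symm (Nat.coprime_two_left.mpr hodd)
    exact_mod_cast Nat.isCoprime_iff_coprime.mpr this
  have hdvd' : (orderOf r : ℤ) ∣ i := hcop.dvd_of_dvd_mul_left hdvd
  have hr1 : r ^ i = 1 := orderOf_dvd_iff_zpow_eq_one.mp hdvd'
  rw [hr1, one_mul]
  exact he

end CardTwo

end Cfsg.Agent.Lib.Helper3.SzBorelEA
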