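import Mathlib
set_option autoImplicit false
set_option linter.unusedSectionVars false

/-!
Biadditive pairings of a field into an abelian group which are invariant under a group of weighted scalings vanish,
when the weights are not additive.
-/

namespace Cfsg.Agent.Lib.Helper3.SzM

section
variable {F : Type*} [Field F] {A : Type*} [Group A]

/-- A biadditive pairing with `c (k a) (w k b) = c a b` for all `k ≠ 0` vanishes, if
`1 / w k₁ + 1 / w k₂ ≠ 1 / w (k₁ + k₂)` for some `k₁`, `k₂`. -/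
theorem pairing_eq_one (c : F → F → A)
    (hl : ∀ a a' b, c (a + a') b = c a b * c a' b) (hr : ∀ a b b', c a (b + b') = c a b * c a b')
    (w : F → F) (hw : ∀ k, k ≠ 0 → w k ≠ 0) (hinv : ∀ k, k ≠ 0 → ∀ a b, c (k * a) (w k * b) = c a b)
    (k₁ k₂ : F) (h1 : k₁ ≠ 0) (h2 : k₂ ≠ 0) (h3 : k₁ + k₂ ≠ 0)
    (hne : (w k₁)⁻¹ + (w k₂)⁻¹ ≠ (w (k₁ + k₂))⁻¹) : ∀ a b, c a b = 1 := by
  have hmove : ∀ k, k ≠ 0 → ∀ a b, c (k * a) b = c a ((w k)⁻¹ * b) := by
    intro k hk a b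
    have := hinv k hk a ((w k)⁻¹ * b)
    rw [← mul_assoc, mul_inv_cancel₀ (hw k hk), one_mul] at this
    exact this
  have hr0 : ∀ a, c a 0 = 1 := by
    intro a
    have := hr a 0 0
    rw [add_zero] at this
    exact (mul_eq_left.mp this.symm)
  have hrsub : ∀ a x y, c a (x - y) = c a x * (c a y)⁻¹ := by
    intro a x y
    have := hr a (x - y) y
    rw [sub_add_cancel] at this
    rw [this, mul_inv_cancel_right]
  set δ := (w k₁)⁻¹ + (w k₂)⁻¹ - (w (k₁ + k₂))⁻¹ with hδ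
  have hδ0 : δ ≠ 0 := sub_ne_zero.mpr hne
  have key : ∀ a b, c a (δ * b) = 1 := by
    intro a b
    have e1 : c ((k₁ + k₂) * a) b = c a ((w (k₁ + k₂))⁻¹ * b) := hmove _ h3 a b
    have e2 : c ((k₁ + k₂) * a) b = c a (((w k₁)⁻¹ + (w k₂)⁻¹) * b) := by
      rw [add_mul, hl, hmove k₁ h1, hmove k₂ h2, ← hr, ← add_mul]
    rw [hδ, sub_mul, hrsub, ← e2, e1, mul_inv_cancel]
  intro a b
  have := key a (δ⁻¹ * b)
  rwa [← mul_assoc, mul_inv_cancel₀ hδ0, one_mul] at this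

end

end Cfsg.Agent.Lib.Helper3.SzM
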