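import Mathlib
import Cfsg.Agent.Lib.Helper3.Sz1
set_option autoImplicit false
set_option linter.unusedSectionVars false

/-!
Fields with a Tits endomorphism: there is no primitive cube root of unity, and the weight `κ ↦ κ θ(κ)` is not additive
when the field is large enough.
-/

namespace Cfsg.Agent.Lib.Helper3.SzM

open Cfsg.Agent.Lib.Helper3.Sz Polynomial

section
variable {F : Type*} [Field F] [CharP F 2] (T : Tits F)

theorem two_eq_zero' : (2 : F) = 0 := CharTwo.two_eq_zero

include T in
/-- A field of characteristic two with a Tits endomorphism has no primitive cube root of unity. -/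
theorem sq_add_add_one_ne_zero (t : F) : t ^ 2 + t + 1 ≠ 0 := by
  intro h
  have h2 : (2 : F) = 0 := two_eq_zero'
  have ht : t ^ 2 = t + 1 := by linear_combination h - (t + 1) * h2
  set s := T.θ t with hs
  have hs2 : s ^ 2 = s + 1 := by
    rw [hs, ← map_pow, ht, map_add, map_one]
  have hθs : T.θ s = t + 1 := by rw [hs, T.sq, ht]
  set x := t + s with hx
  have hθx : T.θ x = x + 1 := by
    rw [hx, map_add, hθs, ← hs]
    ring
  have hxx : x ^ 2 = x := by
    rw [← T.sq, hθx, map_add, map_one, hθx]
    linear_combination h2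
  have hx01 : x = 0 ∨ x = 1 := by
    have : x * (x - 1) = 0 := by linear_combination hxx
    rcases mul_eq_zero.mp this with h0 | h1
    · exact Or.inl h0
    · exact Or.inr (sub_eq_zero.mp h1)
  rcases hx01 with h0 | h1
  · rw [h0, map_zero, zero_add] at hθx
    exact zero_ne_one hθx
  · rw [h1, map_one] at hθx
    have : (1 : F) = 0 := by linear_combination hθx + h2
    exact one_ne_zero this

/-- The weight `κ ↦ κ θ(κ)` is not additive on a large field. -/
theorem exists_weight_not_additive [Fintype F] {s : ℕ} (hs : ∀ x, T.θ x = x ^ s)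
    (hq : 2 * s + 4 < Fintype.card F) :
    ∃ κ : F, κ ≠ 0 ∧ 1 + κ ≠ 0 ∧
      ((1 : F) * T.θ 1)⁻¹ + (κ * T.θ κ)⁻¹ ≠ ((1 + κ) * T.θ (1 + κ))⁻¹ := by
  classical
  by_contra hcon
  push Not at hcon
  have h2 : (2 : F) = 0 := two_eq_zero'
  set E : F[X] := 1 + X + X ^ s + (X ^ 2 + X) * (X ^ (2 * s) + X ^ s) with hE
  have hroot : ∀ κ : F, κ ≠ 0 → κ ≠ 1 → E.eval κ = 0 := by
    intro κ h0 h1
    have h1' : 1 + κ ≠ 0 := by
      intro h
      apply h1
      linear_combination h - h2
    have heq := hcon κ h0 h1'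
    have hy0 : T.θ κ ≠ 0 := fun h => h0 ((T.eq_zero_iff).mp h)
    have hy1 : T.θ (1 + κ) ≠ 0 := fun h => h1' ((T.eq_zero_iff).mp h)
    rw [map_one, mul_one, inv_one] at heq
    have hA : κ * T.θ κ ≠ 0 := mul_ne_zero h0 hy0
    have hB : (1 + κ) * T.θ (1 + κ) ≠ 0 := mul_ne_zero h1' hy1
    have key : ((1 + κ) * T.θ (1 + κ)) * (κ * T.θ κ) + (1 + κ) * T.θ (1 + κ) = κ * T.θ κ := by
      have e1 : (1 : F) + (κ * T.θ κ)⁻¹ = ((κ * T.θ κ) + 1) * (κ * T.θ κ)⁻¹ := by
        field_simp
      rw [e1] at heq
      have e2 : ((κ * T.θ κ) + 1) * ((1 + κ) * T.θ (1 + κ)) = κ * T.θ κ := by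
        have := congrArg (fun z => z * ((κ * T.θ κ) * ((1 + κ) * T.θ (1 + κ)))) heq
        field_simp at this
        linear_combination this
      linear_combination e2
    rw [map_add, map_one] at key
    set y := T.θ κ with hy
    have hys : κ ^ s = y := (hs κ).symm
    rw [hE]
    simp only [eval_add, eval_mul, eval_one, eval_X, eval_pow]
    rw [pow_mul', hys]
    linear_combination key
  have hE0 : E ≠ 0 := by
    intro h
    have : E.eval 0 = 1 := by
      rw [hE]
      have hs0 : s ≠ 0 := by
        rintro rfl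
        have := hs 0
        rw [map_zero, pow_zero] at this
        exact zero_ne_one this
      simp [hs0]
    rw [h, eval_zero] at this
    exact zero_ne_one this
  have hdeg : E.natDegree ≤ 2 * s + 2 := by
    rw [hE]
    compute_degree
    omega
  have hsub : (Finset.univ \ {0, 1} : Finset F) ⊆ E.roots.toFinset := by
    intro κ hκ
    rw [Finset.mem_sdiff, Finset.mem_insert, Finset.mem_singleton, not_or] at hκ
    rw [Multiset.mem_toFinset, mem_roots hE0]
    exact hroot κ hκ.2.1 hκ.2.2
  have hc1 := Finset.card_le_card hsub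
  have hc2 : E.roots.toFinset.card ≤ E.natDegree :=
    (Multiset.toFinset_card_le _).trans (card_roots' E)
  have hc3 : Fintype.card F - 2 ≤ (Finset.univ \ {0, 1} : Finset F).card := by
    rw [Finset.card_sdiff_of_subset (Finset.subset_univ _), Finset.card_univ]
    have : ({0, 1} : Finset F).card ≤ 2 := Finset.card_le_two
    omega
  omega

end

end Cfsg.Agent.Lib.Helper3.SzM
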