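import Mathlib
import Cfsg.Agent.Lib.Helper3.StU1
import Cfsg.Agent.Lib.Helper3.Sz14
import Cfsg.Agent.Lib.Helper3.SzM2
import Cfsg.Agent.Lib.Helper3.SzM3
set_option autoImplicit false
set_option linter.unusedSectionVars false

/-!
Central extensions of the Suzuki group: commutators of lifts of elements of the Sylow `2`-subgroup `U`, part 1
(the centre of `U`).
-/

namespace Cfsg.Agent.Lib.Helper3.SzM

open Cfsg.Agent.Lib.Helper3.Sz Cfsg.Agent.Lib.Helper3.StU
open scoped commutatorElement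

/-- a central extension of the Suzuki group -/
structure SExt {F : Type*} [Field F] [CharP F 2] (T : Tits F) (Γ : Type*) [Group Γ] where
  /-- the projection -/
  σ : Γ →* Gam T
  /-- it is onto -/
  surj : Function.Surjective σ
  /-- its kernel is central -/
  cen : σ.ker ≤ Subgroup.center Γ

section
variable {F : Type*} [Field F] [CharP F 2] {T : Tits F} {Γ : Type*} [Group Γ] (X : SExt T Γ)

/-- a chosen lift -/
noncomputable def SExt.lift (d : Gam T) : Γ := Function.surjInv X.surj d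

theorem SExt.sig_lift (d : Gam T) : X.σ (X.lift d) = d := Function.surjInv_eq X.surj d

theorem SExt.comm_congr' {a a' b b' : Γ} (ha : X.σ a = X.σ a') (hb : X.σ b = X.σ b') : ⁅a, b⁆ = ⁅a', b'⁆ :=
  comm_congr X.σ X.cen ha hb

theorem SExt.comm_mem_center {a b : Γ} (h : Commute (X.σ a) (X.σ b)) : ⁅a, b⁆ ∈ Subgroup.center Γ :=
  X.cen (comm_mem_ker X.σ h)

theorem conj_central {z : Γ} (hz : z ∈ Subgroup.center Γ) (g : Γ) : g * z * g⁻¹ = z := by
  rw [Subgroup.mem_center_iff.mp hz g, mul_inv_cancel_right]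

/-- the weight of the torus on the centre of `U` -/
def nu (T : Tits F) (k : Fˣ) : F := T.θ k ^ 2 * (k : F) ^ 2

theorem nu_ne_zero (k : Fˣ) : nu T k ≠ 0 := by
  unfold nu
  have : T.θ (k : F) ≠ 0 := fun h => k.ne_zero ((T.eq_zero_iff).mp h)
  exact mul_ne_zero (pow_ne_zero 2 this) (pow_ne_zero 2 k.ne_zero)

theorem nu_eq (k : Fˣ) : nu T k = (k : F) ^ 2 * T.θ ((k : F) ^ 2) := by
  unfold nu
  rw [map_pow]
  ring

theorem nu_ne_one {k : Fˣ} (hk : k ≠ 1) : nu T k ≠ 1 := by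
  intro h
  rw [nu_eq] at h
  have h1 := T.norm_eq_one h
  have h2 : (k : F) = 1 := sq_eq_one_iff.mp h1
  exact hk (Units.ext h2)

theorem exists_nu [Finite F] {v : F} (hv : v ≠ 0) : ∃ k : Fˣ, nu T k = v := by
  obtain ⟨x, hx⟩ := T.norm_surjective v
  obtain ⟨y, hy⟩ := exists_sq (F := F) x
  have hx0 : x ≠ 0 := by
    rintro rfl
    rw [zero_mul] at hx
    exact hv hx.symm
  have hy0 : y ≠ 0 := by
    rintro rfl
    rw [zero_pow two_ne_zero] at hy
    exact hx0 hy.symm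
  refine ⟨Units.mk0 y hy0, ?_⟩
  rw [nu_eq, Units.val_mk0, hy, hx]

theorem exists_sq_unit [Finite F] {v : F} (hv : v ≠ 0) : ∃ k : Fˣ, (k : F) ^ 2 = v := by
  obtain ⟨y, hy⟩ := exists_sq (F := F) v
  have hy0 : y ≠ 0 := by
    rintro rfl
    rw [zero_pow two_ne_zero] at hy
    exact hv hy.symm
  exact ⟨Units.mk0 y hy0, by rw [Units.val_mk0, hy]⟩

theorem commute_uG_zero (a b b' : F) : Commute (uG T a b) (uG T 0 b') := by
  show _ * _ = _ * _
  rw [uG_mul, uG_mul, map_zero, zero_mul, mul_zero]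
  congr 1 <;> ring

theorem uG_zero_mul' (b d : F) : uG T 0 b * uG T 0 d = uG T 0 (b + d) := by
  rw [uG_mul, map_zero, zero_mul, add_zero, add_zero]

theorem uG_mul_zero' (a b d : F) : uG T a b * uG T 0 d = uG T a (b + d) := by
  rw [uG_mul, mul_zero, add_zero, add_zero]

theorem hG_conj_uG' (k : Fˣ) (a b : F) :
    hG T k * uG T a b * (hG T k)⁻¹ = uG T ((k : F) ^ 2 * a) (nu T k * b) := by
  rw [hG_mul_uG, mul_assoc, mul_inv_cancel, mul_one]
  rfl

theorem SExt.sig_conj {g x : Γ} {k : Fˣ} {a b : F} (hg : X.σ g = hG T k) (hx : X.σ x = uG T a b) :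
    X.σ (g * x * g⁻¹) = uG T ((k : F) ^ 2 * a) (nu T k * b) := by
  rw [map_mul, map_mul, map_inv, hg, hx, hG_conj_uG']

/-! ### lifts of the centre of `U` commute -/

/-- the commutator of lifts of two elements of the centre of `U` -/
noncomputable def SExt.cZ (b b' : F) : Γ := ⁅X.lift (uG T 0 b), X.lift (uG T 0 b')⁆

theorem SExt.cZ_eq {x y : Γ} {b b' : F} (hx : X.σ x = uG T 0 b) (hy : X.σ y = uG T 0 b') : ⁅x, y⁆ = X.cZ b b' :=
  X.comm_congr' (by rw [hx, X.sig_lift]) (by rw [hy, X.sig_lift])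

theorem SExt.cZ_mem_center (b b' : F) : X.cZ b b' ∈ Subgroup.center Γ :=
  X.comm_mem_center (by rw [X.sig_lift, X.sig_lift]; exact commute_uG_zero 0 b b')

theorem SExt.cZ_add_left (b₁ b₂ b' : F) : X.cZ (b₁ + b₂) b' = X.cZ b₁ b' * X.cZ b₂ b' := by
  have h : X.σ (X.lift (uG T 0 b₁) * X.lift (uG T 0 b₂)) = uG T 0 (b₁ + b₂) := by
    rw [map_mul, X.sig_lift, X.sig_lift, uG_zero_mul']
  rw [← X.cZ_eq h (X.sig_lift _), comm_mul_left_of_central (X.cZ_mem_center b₂ b')]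
  rfl

theorem SExt.cZ_add_right (b b₁ b₂ : F) : X.cZ b (b₁ + b₂) = X.cZ b b₁ * X.cZ b b₂ := by
  have h : X.σ (X.lift (uG T 0 b₁) * X.lift (uG T 0 b₂)) = uG T 0 (b₁ + b₂) := by
    rw [map_mul, X.sig_lift, X.sig_lift, uG_zero_mul']
  rw [← X.cZ_eq (X.sig_lift _) h, comm_mul_right_of_central (X.cZ_mem_center b b₂)]
  rfl

theorem SExt.cZ_tor (k : Fˣ) (b b' : F) : X.cZ (nu T k * b) (nu T k * b') = X.cZ b b' := by
  set g := X.lift (hG T k) with hg
  have hg' : X.σ g = hG T k := X.sig_lift _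
  have h1 := X.sig_conj hg' (X.sig_lift (uG T 0 b))
  have h2 := X.sig_conj hg' (X.sig_lift (uG T 0 b'))
  rw [mul_zero] at h1 h2
  rw [← X.cZ_eq h1 h2, ← conj_comm]
  exact conj_central (X.cZ_mem_center b b') g

theorem SExt.cZ_eq_one [Finite F] {k0 : Fˣ} (hk0 : k0 ≠ 1) (b b' : F) : X.cZ b b' = 1 := by
  have ht0 : (k0 : F) ≠ 0 := k0.ne_zero
  have ht1 : (1 : F) + k0 ≠ 0 := by
    rw [add_comm]
    apply add_one_ne_zero_of_ne_one
    intro h
    exact hk0 (Units.ext h)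
  refine pairing_eq_one X.cZ X.cZ_add_left X.cZ_add_right id (fun k hk => hk) ?_ 1 (k0 : F) one_ne_zero ht0 ht1 ?_ b b'
  · intro v hv a c
    obtain ⟨k, rfl⟩ := exists_nu (T := T) hv
    exact X.cZ_tor k a c
  · intro h
    have h2 : (2 : F) = 0 := two_eq_zero'
    have key := sq_add_add_one_ne_zero T (k0 : F)
    apply key
    rw [id, id, id, inv_one] at h
    field_simp at h
    linear_combination h

end

/-! ### canonical lifts of the centre of `U` -/

section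
variable {F : Type*} [Field F] [CharP F 2] [Finite F] {T : Tits F} {Γ : Type*} [Group Γ] (X : SExt T Γ)
  {k0 : Fˣ} (hk0 : k0 ≠ 1)

/-- the canonical lift of `u(0,b)` -/
noncomputable def SExt.L2 (k0 : Fˣ) (b : F) : Γ :=
  ⁅X.lift (hG T k0), X.lift (uG T 0 (b / (nu T k0 + 1)))⁆

include hk0

theorem nu_add_one_ne_zero : nu T k0 + 1 ≠ 0 := add_one_ne_zero_of_ne_one (nu_ne_one hk0)

theorem SExt.sig_L2 (b : F) : X.σ (X.L2 k0 b) = uG T 0 b := by
  unfold SExt.L2
  rw [map_commutatorElement, X.sig_lift, X.sig_lift, commutator_hG_uG]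
  have h := nu_add_one_ne_zero (T := T) hk0
  congr 1
  · ring
  · rw [zero_mul, mul_zero, add_zero]
    show (nu T k0 + 1) * (b / (nu T k0 + 1)) = b
    field_simp

theorem SExt.commute_Z {x y : Γ} {b b' : F} (hx : X.σ x = uG T 0 b) (hy : X.σ y = uG T 0 b') : x * y = y * x := by
  have := X.cZ_eq hx hy
  rw [X.cZ_eq_one hk0] at this
  exact commutatorElement_eq_one_iff_mul_comm.mp this

theorem SExt.L2_add (b b' : F) : X.L2 k0 (b + b') = X.L2 k0 b * X.L2 k0 b' := by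
  have h1 : X.L2 k0 (b + b') = ⁅X.lift (hG T k0),
      X.lift (uG T 0 (b / (nu T k0 + 1))) * X.lift (uG T 0 (b' / (nu T k0 + 1)))⁆ := by
    apply X.comm_congr' rfl
    rw [map_mul, X.sig_lift, X.sig_lift, X.sig_lift, uG_zero_mul', add_div]
  rw [h1, comm_mul_right_eq]
  have h2 : X.lift (uG T 0 (b / (nu T k0 + 1))) * X.L2 k0 b' = X.L2 k0 b' * X.lift (uG T 0 (b / (nu T k0 + 1))) :=
    X.commute_Z hk0 (X.sig_lift _) (X.sig_L2 hk0 b')
  show X.L2 k0 b * (X.lift (uG T 0 (b / (nu T k0 + 1))) * X.L2 k0 b' * (X.lift (uG T 0 (b / (nu T k0 + 1))))⁻¹) = _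
  rw [h2, mul_inv_cancel_right]

theorem SExt.L2_zero : X.L2 k0 0 = 1 := by
  have := X.L2_add hk0 0 0
  rw [add_zero] at this
  exact (mul_eq_left.mp this.symm)

theorem SExt.L2_mul_self (b : F) : X.L2 k0 b * X.L2 k0 b = 1 := by
  rw [← X.L2_add hk0, CharTwo.add_self_eq_zero, X.L2_zero hk0]

theorem SExt.L2_inv (b : F) : (X.L2 k0 b)⁻¹ = X.L2 k0 b :=
  inv_eq_of_mul_eq_one_left (X.L2_mul_self hk0 b)

theorem SExt.L2_tor {g : Γ} {k : Fˣ} (hg : X.σ g = hG T k) (b : F) :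
    g * X.L2 k0 b * g⁻¹ = X.L2 k0 (nu T k * b) := by
  unfold SExt.L2
  rw [conj_comm]
  apply X.comm_congr'
  · rw [map_mul, map_mul, map_inv, hg, X.sig_lift, hG_mul, mul_comm k k0, ← hG_mul, mul_inv_cancel_right]
  · rw [X.sig_conj hg (X.sig_lift _), X.sig_lift, mul_zero, mul_div_assoc]

/-! ### the pairing between `U` and its centre -/

/-- the commutator of a lift of `u(a,*)` and the canonical lift of `u(0,b)` -/
noncomputable def SExt.cB (k0 : Fˣ) (a b : F) : Γ := ⁅X.lift (uG T a 0), X.L2 k0 b⁆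

theorem SExt.cB_eq {x : Γ} {a b' : F} (hx : X.σ x = uG T a b') (b : F) : ⁅x, X.L2 k0 b⁆ = X.cB k0 a b := by
  have h1 : X.σ x = X.σ (X.lift (uG T a 0) * X.L2 k0 b') := by
    rw [map_mul, X.sig_lift, X.sig_L2 hk0, hx, uG_mul_zero', zero_add]
  rw [X.comm_congr' h1 rfl, comm_mul_left_eq]
  have h2 : ⁅X.L2 k0 b', X.L2 k0 b⁆ = 1 := by
    rw [X.cZ_eq (X.sig_L2 hk0 b') (X.sig_L2 hk0 b), X.cZ_eq_one hk0]
  rw [h2, mul_one, mul_inv_cancel, one_mul]
  rfl

theorem SExt.cB_mem_center (a b : F) : X.cB k0 a b ∈ Subgroup.center Γ :=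
  X.comm_mem_center (by rw [X.sig_lift, X.sig_L2 hk0]; exact commute_uG_zero a 0 b)

theorem SExt.cB_add_left (a a' b : F) : X.cB k0 (a + a') b = X.cB k0 a b * X.cB k0 a' b := by
  have h : X.σ (X.lift (uG T a 0) * X.lift (uG T a' 0)) = uG T (a + a') (0 + 0 + T.θ a * a') := by
    rw [map_mul, X.sig_lift, X.sig_lift, uG_mul]
  rw [← X.cB_eq hk0 h b, comm_mul_left_of_central (X.cB_mem_center hk0 a' b)]
  rfl

theorem SExt.cB_add_right (a b b' : F) : X.cB k0 a (b + b') = X.cB k0 a b * X.cB k0 a b' := by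
  unfold SExt.cB
  rw [X.L2_add hk0, comm_mul_right_of_central (X.cB_mem_center hk0 a b')]

theorem SExt.cB_tor (k : Fˣ) (a b : F) : X.cB k0 ((k : F) ^ 2 * a) (nu T k * b) = X.cB k0 a b := by
  set g := X.lift (hG T k) with hg
  have hg' : X.σ g = hG T k := X.sig_lift _
  have h1 := X.sig_conj hg' (X.sig_lift (uG T a 0))
  rw [← X.cB_eq hk0 h1, ← X.L2_tor hk0 hg', ← conj_comm]
  exact conj_central (X.cB_mem_center hk0 a b) g

end

end Cfsg.Agent.Lib.Helper3.SzM
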