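import Mathlib
import Cfsg.Agent.Lib.Helper3.SzM4
set_option autoImplicit false
set_option linter.unusedSectionVars false

/-!
Central extensions of the Suzuki group, part 2: the derived subgroup of the preimage of the Sylow `2`-subgroup `U`
meets the kernel trivially, when the field has more than eight elements.
-/

namespace Cfsg.Agent.Lib.Helper3.SzM

open Cfsg.Agent.Lib.Helper3.Sz Cfsg.Agent.Lib.Helper3.StU
open scoped commutatorElement

section
variable {Γ : Type*} [Group Γ]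

theorem comm_mul_commute_left {a z b : Γ} (h : z * b = b * z) : ⁅a * z, b⁆ = ⁅a, b⁆ := by
  rw [commutatorElement_def, commutatorElement_def, mul_inv_rev]
  calc a * z * b * (z⁻¹ * a⁻¹) * b⁻¹ = a * (z * b) * z⁻¹ * a⁻¹ * b⁻¹ := by group
    _ = a * (b * z) * z⁻¹ * a⁻¹ * b⁻¹ := by rw [h]
    _ = a * b * a⁻¹ * b⁻¹ := by group

theorem comm_mul_commute_right {a b z : Γ} (h : z * a = a * z) : ⁅a, b * z⁆ = ⁅a, b⁆ := by
  have h' : z * a⁻¹ = a⁻¹ * z := by
    have := congrArg (fun x => a⁻¹ * x * a⁻¹) h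
    simp only [mul_assoc, mul_inv_cancel, mul_one, inv_mul_cancel_left] at this
    exact this.symm
  rw [commutatorElement_def, commutatorElement_def, mul_inv_rev]
  calc a * (b * z) * a⁻¹ * (z⁻¹ * b⁻¹) = a * b * (z * a⁻¹) * z⁻¹ * b⁻¹ := by group
    _ = a * b * (a⁻¹ * z) * z⁻¹ * b⁻¹ := by rw [h']
    _ = a * b * a⁻¹ * b⁻¹ := by group

end

section
variable {F : Type*} [Field F] [CharP F 2] [Fintype F] {T : Tits F} {Γ : Type*} [Group Γ] (X : SExt T Γ)
  {k0 : Fˣ} (hk0 : k0 ≠ 1) {s : ℕ} (hs : ∀ x, T.θ x = x ^ s) (hq : 2 * s + 4 < Fintype.card F)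

include hk0 hs hq

theorem SExt.cB_eq_one (a b : F) : X.cB k0 a b = 1 := by
  obtain ⟨κ, hκ0, hκ1, hne⟩ := exists_weight_not_additive T hs hq
  refine pairing_eq_one (X.cB k0) (X.cB_add_left hk0) (X.cB_add_right hk0) (fun κ => κ * T.θ κ) ?_ ?_ 1 κ
    one_ne_zero hκ0 hκ1 hne a b
  · intro v hv
    exact mul_ne_zero hv (fun h => hv ((T.eq_zero_iff).mp h))
  · intro v hv a c
    obtain ⟨k, rfl⟩ := exists_sq_unit hv
    have := X.cB_tor hk0 k a c
    rw [nu_eq] at this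
    exact this

/-- lifts of elements of `U` commute with the canonical lifts of its centre -/
theorem SExt.commute_L2 {x : Γ} {a b' : F} (hx : X.σ x = uG T a b') (b : F) : X.L2 k0 b * x = x * X.L2 k0 b := by
  have := X.cB_eq hk0 hx b
  rw [X.cB_eq_one hk0 hs hq] at this
  exact (commutatorElement_eq_one_iff_mul_comm.mp this).symm

end

section
variable {Γ : Type*} [Group Γ]

theorem conj_eq_of_commute {x p z : Γ} (hp : p * x = x * p) (hz : z ∈ Subgroup.center Γ) :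
    x * (p * z) * x⁻¹ = p * z := by
  have h := Subgroup.mem_center_iff.mp hz x
  calc x * (p * z) * x⁻¹ = (x * p) * z * x⁻¹ := by group
    _ = (p * x) * z * x⁻¹ := by rw [hp]
    _ = p * (x * z) * x⁻¹ := by group
    _ = p * (z * x) * x⁻¹ := by rw [h]
    _ = p * z := by group

end

section
variable {F : Type*} [Field F] [CharP F 2] (T : Tits F)

/-- the commutator form on `U / Z(U)` -/
def gam (a a' : F) : F := T.θ a * a' + T.θ a' * a

theorem gam_add_left (a₁ a₂ a' : F) : gam T (a₁ + a₂) a' = gam T a₁ a' + gam T a₂ a' := by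
  unfold gam
  rw [map_add]
  ring

theorem gam_add_right (a a₁ a₂ : F) : gam T a (a₁ + a₂) = gam T a a₁ + gam T a a₂ := by
  unfold gam
  rw [map_add]
  ring

theorem gam_tor (k : Fˣ) (a a' : F) : gam T ((k : F) ^ 2 * a) ((k : F) ^ 2 * a') = nu T k * gam T a a' := by
  unfold gam nu
  simp only [map_mul, map_pow]
  ring

theorem comm_uG (a b c d : F) : ⁅uG T a b, uG T c d⁆ = uG T 0 (gam T a c) := by
  have := congrArg Subtype.val (commutator_uU T a b c d)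
  simp only [commutatorElement_def, Subgroup.coe_mul, Subgroup.coe_inv] at this
  rw [commutatorElement_def]
  exact this

end

section
variable {F : Type*} [Field F] [CharP F 2] [Fintype F] {T : Tits F} {Γ : Type*} [Group Γ] (X : SExt T Γ)
  {k0 : Fˣ} (hk0 : k0 ≠ 1) {s : ℕ} (hs : ∀ x, T.θ x = x ^ s) (hq : 2 * s + 4 < Fintype.card F)

/-- the defect of the commutator of two lifts -/
noncomputable def SExt.cC (k0 : Fˣ) (a a' : F) : Γ :=
  (X.L2 k0 (gam T a a'))⁻¹ * ⁅X.lift (uG T a 0), X.lift (uG T a' 0)⁆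

include hk0 hs hq

theorem SExt.cC_eq {x x' : Γ} {a b a' b' : F} (hx : X.σ x = uG T a b) (hx' : X.σ x' = uG T a' b') :
    ⁅x, x'⁆ = X.L2 k0 (gam T a a') * X.cC k0 a a' := by
  have h0' : X.σ (X.lift (uG T a' 0) * X.L2 k0 b') = uG T a' b' := by
    rw [map_mul, X.sig_lift, X.sig_L2 hk0, uG_mul_zero', zero_add]
  have h1 : X.σ x = X.σ (X.lift (uG T a 0) * X.L2 k0 b) := by
    rw [map_mul, X.sig_lift, X.sig_L2 hk0, hx, uG_mul_zero', zero_add]
  have h1' : X.σ x' = X.σ (X.lift (uG T a' 0) * X.L2 k0 b') := by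
    rw [h0', hx']
  rw [X.comm_congr' h1 h1', comm_mul_commute_left (X.commute_L2 hk0 hs hq h0' b),
    comm_mul_commute_right (X.commute_L2 hk0 hs hq (X.sig_lift (uG T a 0)) b')]
  unfold SExt.cC
  rw [mul_inv_cancel_left]

theorem SExt.cC_mem_center (a a' : F) : X.cC k0 a a' ∈ Subgroup.center Γ := by
  apply X.cen
  rw [MonoidHom.mem_ker]
  unfold SExt.cC
  rw [map_mul, map_inv, X.sig_L2 hk0, map_commutatorElement, X.sig_lift, X.sig_lift, comm_uG, inv_mul_cancel]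

theorem SExt.cC_add_left (a₁ a₂ a' : F) : X.cC k0 (a₁ + a₂) a' = X.cC k0 a₁ a' * X.cC k0 a₂ a' := by
  have h12 : X.σ (X.lift (uG T a₁ 0) * X.lift (uG T a₂ 0)) = uG T (a₁ + a₂) (0 + 0 + T.θ a₁ * a₂) := by
    rw [map_mul, X.sig_lift, X.sig_lift, uG_mul]
  have e0 := X.cC_eq hk0 hs hq h12 (X.sig_lift (uG T a' 0))
  have e1 := X.cC_eq hk0 hs hq (X.sig_lift (uG T a₁ 0)) (X.sig_lift (uG T a' 0))
  have e2 := X.cC_eq hk0 hs hq (X.sig_lift (uG T a₂ 0)) (X.sig_lift (uG T a' 0))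
  rw [comm_mul_left_eq, e2, e1,
    conj_eq_of_commute (X.commute_L2 hk0 hs hq (X.sig_lift (uG T a₁ 0)) _) (X.cC_mem_center hk0 hs hq a₂ a'),
    gam_add_left, X.L2_add hk0] at e0
  have hz := Subgroup.mem_center_iff.mp (X.cC_mem_center hk0 hs hq a₂ a')
  have hz1 := Subgroup.mem_center_iff.mp (X.cC_mem_center hk0 hs hq a₁ a')
  have hL : X.L2 k0 (gam T a₁ a') * X.L2 k0 (gam T a₂ a') = X.L2 k0 (gam T a₂ a') * X.L2 k0 (gam T a₁ a') := by
    rw [← X.L2_add hk0, ← X.L2_add hk0, add_comm]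
  have e3 : X.L2 k0 (gam T a₂ a') * X.cC k0 a₂ a' * (X.L2 k0 (gam T a₁ a') * X.cC k0 a₁ a') =
      X.L2 k0 (gam T a₁ a') * X.L2 k0 (gam T a₂ a') * (X.cC k0 a₁ a' * X.cC k0 a₂ a') := by
    calc X.L2 k0 (gam T a₂ a') * X.cC k0 a₂ a' * (X.L2 k0 (gam T a₁ a') * X.cC k0 a₁ a')
        = X.L2 k0 (gam T a₂ a') * (X.cC k0 a₂ a' * X.L2 k0 (gam T a₁ a')) * X.cC k0 a₁ a' := by group
      _ = X.L2 k0 (gam T a₂ a') * (X.L2 k0 (gam T a₁ a') * X.cC k0 a₂ a') * X.cC k0 a₁ a' := by rw [← hz]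
      _ = (X.L2 k0 (gam T a₂ a') * X.L2 k0 (gam T a₁ a')) * (X.cC k0 a₂ a' * X.cC k0 a₁ a') := by group
      _ = (X.L2 k0 (gam T a₁ a') * X.L2 k0 (gam T a₂ a')) * (X.cC k0 a₁ a' * X.cC k0 a₂ a') := by
        rw [← hL, ← hz1]
  rw [e3] at e0
  exact (mul_left_cancel e0).symm

theorem SExt.cC_add_right (a a₁ a₂ : F) : X.cC k0 a (a₁ + a₂) = X.cC k0 a a₁ * X.cC k0 a a₂ := by
  have h12 : X.σ (X.lift (uG T a₁ 0) * X.lift (uG T a₂ 0)) = uG T (a₁ + a₂) (0 + 0 + T.θ a₁ * a₂) := by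
    rw [map_mul, X.sig_lift, X.sig_lift, uG_mul]
  have e0 := X.cC_eq hk0 hs hq (X.sig_lift (uG T a 0)) h12
  have e1 := X.cC_eq hk0 hs hq (X.sig_lift (uG T a 0)) (X.sig_lift (uG T a₁ 0))
  have e2 := X.cC_eq hk0 hs hq (X.sig_lift (uG T a 0)) (X.sig_lift (uG T a₂ 0))
  rw [comm_mul_right_eq, e2, e1,
    conj_eq_of_commute (X.commute_L2 hk0 hs hq (X.sig_lift (uG T a₁ 0)) _) (X.cC_mem_center hk0 hs hq a a₂),
    gam_add_right, X.L2_add hk0] at e0
  have hz1 := Subgroup.mem_center_iff.mp (X.cC_mem_center hk0 hs hq a a₁)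
  have e3 : X.L2 k0 (gam T a a₁) * X.cC k0 a a₁ * (X.L2 k0 (gam T a a₂) * X.cC k0 a a₂) =
      X.L2 k0 (gam T a a₁) * X.L2 k0 (gam T a a₂) * (X.cC k0 a a₁ * X.cC k0 a a₂) := by
    calc X.L2 k0 (gam T a a₁) * X.cC k0 a a₁ * (X.L2 k0 (gam T a a₂) * X.cC k0 a a₂)
        = X.L2 k0 (gam T a a₁) * (X.cC k0 a a₁ * X.L2 k0 (gam T a a₂)) * X.cC k0 a a₂ := by group
      _ = X.L2 k0 (gam T a a₁) * (X.L2 k0 (gam T a a₂) * X.cC k0 a a₁) * X.cC k0 a a₂ := by rw [← hz1]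
      _ = X.L2 k0 (gam T a a₁) * X.L2 k0 (gam T a a₂) * (X.cC k0 a a₁ * X.cC k0 a a₂) := by group
  rw [e3] at e0
  exact (mul_left_cancel e0).symm

theorem SExt.cC_tor (k : Fˣ) (a a' : F) : X.cC k0 ((k : F) ^ 2 * a) ((k : F) ^ 2 * a') = X.cC k0 a a' := by
  set g := X.lift (hG T k) with hg
  have hg' : X.σ g = hG T k := X.sig_lift _
  have h1 := X.sig_conj hg' (X.sig_lift (uG T a 0))
  have h2 := X.sig_conj hg' (X.sig_lift (uG T a' 0))
  have e0 := X.cC_eq hk0 hs hq h1 h2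
  have e1 := X.cC_eq hk0 hs hq (X.sig_lift (uG T a 0)) (X.sig_lift (uG T a' 0))
  rw [← conj_comm, e1, gam_tor] at e0
  have e2 : g * (X.L2 k0 (gam T a a') * X.cC k0 a a') * g⁻¹ =
      (g * X.L2 k0 (gam T a a') * g⁻¹) * (g * X.cC k0 a a' * g⁻¹) := by group
  rw [e2, X.L2_tor hk0 hg', conj_central (X.cC_mem_center hk0 hs hq a a')] at e0
  exact (mul_left_cancel e0).symm

theorem SExt.cC_eq_one (a a' : F) : X.cC k0 a a' = 1 := by
  have ht0 : (k0 : F) ≠ 0 := k0.ne_zero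
  have ht1 : (1 : F) + k0 ≠ 0 := by
    rw [add_comm]
    apply add_one_ne_zero_of_ne_one
    intro h
    exact hk0 (Units.ext h)
  refine pairing_eq_one (X.cC k0) (X.cC_add_left hk0 hs hq) (X.cC_add_right hk0 hs hq) id (fun k hk => hk) ?_ 1
    (k0 : F) one_ne_zero ht0 ht1 ?_ a a'
  · intro v hv a c
    obtain ⟨k, rfl⟩ := exists_sq_unit hv
    exact X.cC_tor hk0 hs hq k a c
  · intro h
    have key := sq_add_add_one_ne_zero T (k0 : F)
    apply key
    rw [id, id, id, inv_one] at h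
    field_simp at h
    linear_combination h

/-- the commutator of two lifts of elements of `U` is the canonical lift of their commutator -/
theorem SExt.comm_eq_L2 {x x' : Γ} {a b a' b' : F} (hx : X.σ x = uG T a b) (hx' : X.σ x' = uG T a' b') :
    ⁅x, x'⁆ = X.L2 k0 (gam T a a') := by
  rw [X.cC_eq hk0 hs hq hx hx', X.cC_eq_one hk0 hs hq, mul_one]

/-- The derived subgroup of the preimage of `U` meets the kernel trivially. -/
theorem SExt.eq_one_of_mem_commutator {z : Γ} (hz : z ∈ X.σ.ker)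
    (hz' : z ∈ ⁅(Usub T).comap X.σ, (Usub T).comap X.σ⁆) : z = 1 := by
  let M : Subgroup Γ :=
    { carrier := {x | ∃ b, x = X.L2 k0 b}
      mul_mem' := by
        rintro _ _ ⟨b, rfl⟩ ⟨b', rfl⟩
        exact ⟨b + b', (X.L2_add hk0 b b').symm⟩
      one_mem' := ⟨0, (X.L2_zero hk0).symm⟩
      inv_mem' := by
        rintro _ ⟨b, rfl⟩
        exact ⟨b, X.L2_inv hk0 b⟩ }
  have hle : ⁅(Usub T).comap X.σ, (Usub T).comap X.σ⁆ ≤ M := by
    rw [Subgroup.commutator_le]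
    intro x hx x' hx'
    obtain ⟨a, b, hab⟩ := hx
    obtain ⟨a', b', hab'⟩ := hx'
    exact ⟨_, X.comm_eq_L2 hk0 hs hq hab hab'⟩
  obtain ⟨b, rfl⟩ := hle hz'
  rw [MonoidHom.mem_ker, X.sig_L2 hk0, ← uG_zero T] at hz
  have := (uG_injective T hz).2
  rw [this, X.L2_zero hk0]

end

end Cfsg.Agent.Lib.Helper3.SzM
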