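import Cfsg.Agent.Lib.Helper3.SzBorelEA
import Cfsg.Agent.Lib.Helper3.Sz39

/-!
Suzuki groups: every element of odd prime order is a product of two involutions ("strongly real").
Consequence: an element whose order is not a power of two has a power which is a product of two
involutions lying in different conjugates of the centre of a Sylow `2`-subgroup.
Also an abstract "pair of involutions" fixed-point lemma.
-/

namespace Cfsg.Agent.Lib.Helper3.SzReal

open Cfsg.Agent.Lib.Helper3.Sz Cfsg.Agent.Lib.Helper3.SzBorelEA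

/-- The property of a subgroup `E` of `Γ` proved below for the Suzuki groups. -/
def RealProp {Γ : Type*} [Group Γ] (E : Subgroup Γ) : Prop :=
  ∀ h : Γ, (¬ ∃ k : ℕ, orderOf h = 2 ^ k) →
    ∃ (j : ℕ) (g x z1 z2 : Γ), z1 ∈ E ∧ z1 ≠ 1 ∧ z2 ∈ E ∧ z2 ≠ 1 ∧
      (g * h * g⁻¹) ^ j = z1 * (x * z2 * x⁻¹) ∧ x ∉ Subgroup.normalizer (E : Set Γ)

theorem RealProp.map_equiv {Γ Γ' : Type*} [Group Γ] [Group Γ'] (φ : Γ ≃* Γ') {E : Subgroup Γ}
    (hE : RealProp E) : RealProp (E.map φ.toMonoidHom) := by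
  intro h' hh'
  have hord : orderOf (φ.symm h') = orderOf h' := MulEquiv.orderOf_eq φ.symm h'
  obtain ⟨j, g, x, z1, z2, hz1, hz11, hz2, hz21, heq, hx⟩ := hE (φ.symm h') (by rwa [hord])
  refine ⟨j, φ g, φ x, φ z1, φ z2, ⟨z1, hz1, rfl⟩, ?_, ⟨z2, hz2, rfl⟩, ?_, ?_, ?_⟩
  · intro h; apply hz11; apply φ.injective; rw [h, map_one]
  · intro h; apply hz21; apply φ.injective; rw [h, map_one]
  · have := congrArg φ heq
    rw [map_pow, map_mul, map_mul, map_inv, φ.apply_symm_apply, map_mul, map_mul, map_mul,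
      map_inv] at this
    exact this
  · intro hmem
    apply hx
    rw [← Subgroup.map_equiv_normalizer_eq] at hmem
    obtain ⟨n, hn, hnx⟩ := hmem
    have : n = x := φ.injective hnx
    rwa [← this]

section Gam

variable {F : Type*} [Field F] [CharP F 2] {T : Tits F}

/-- an element of odd prime order is a product of two involutions -/
theorem exists_invol_mul [Fintype F] (hT : T.IsPow) {m : ℕ} (hm : 1 ≤ m)
    (hq : Nat.card F = 2 ^ (2 * m + 1)) {g : Gam T} {r : ℕ} (hr : r.Prime) (hr2 : r ≠ 2)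
    (hg : orderOf g = r) :
    ∃ t1 t2 : Gam T, t1 * t1 = 1 ∧ t2 * t2 = 1 ∧ g = t1 * t2 := by
  have hg1 : g ≠ 1 := by
    rintro rfl
    rw [orderOf_one] at hg
    exact hr.one_lt.ne' hg.symm
  by_cases hpq : r ∣ Nat.card F ^ 2 + 1
  · -- the fixed-point-free case
    have hfpf : Fpf T g := fpf_of_prime_order hT hr hg hpq
    obtain ⟨g₁, g₂, h₁, h₂, -, -, hN₁, hN₂, hall⟩ := fpf_classes hT hm hq
    have key : ∀ g₀ : Gam T, Fpf T g₀ →
        Nat.card (Subgroup.normalizer (Tor T g₀ : Set (Gam T))) = 4 * Nat.card (Tor T g₀) →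
        g ∈ Kcl T g₀ → ∃ t1 t2 : Gam T, t1 * t1 = 1 ∧ t2 * t2 = 1 ∧ g = t1 * t2 := by
      intro g₀ h₀ hN hK
      obtain ⟨-, y, hy⟩ := hK
      obtain ⟨a, ha⟩ : ∃ a, a = y⁻¹ * g * y := ⟨_, rfl⟩
      rw [← ha] at hy
      have hga : g = y * a * y⁻¹ := by rw [ha]; group
      -- an involution in the normalizer
      have h2 : 2 ∣ Nat.card (Subgroup.normalizer (Tor T g₀ : Set (Gam T))) := by
        rw [hN]; exact ⟨2 * Nat.card (Tor T g₀), by ring⟩
      have : Fact (Nat.Prime 2) := ⟨Nat.prime_two⟩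
      obtain ⟨⟨u, hu⟩, huo⟩ := exists_prime_orderOf_dvd_card' 2 h2
      have huo' : orderOf u = 2 := by
        rw [← huo]; exact (Subgroup.orderOf_mk u hu).symm
      have huu : u * u = 1 := by
        have := pow_orderOf_eq_one u
        rwa [huo', pow_two] at this
      have huinv : u⁻¹ = u := inv_eq_of_mul_eq_one_left huu
      have hodd : ¬ 2 ∣ Nat.card (Tor T g₀) := by
        intro h
        have h3 := h.trans (h₀.card_dvd hT)
        rw [hq] at h3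
        have h4 : 2 ∣ (2 ^ (2 * m + 1)) ^ 2 := by
          rw [← pow_mul]
          exact dvd_pow_self 2 (by omega)
        have := (Nat.dvd_add_right h4).mp h3
        omega
      have hnofix : ∀ c ∈ Tor T g₀, u * c * u⁻¹ = c → c = 1 := by
        intro c hc hfix
        by_contra hc1
        have hcen := h₀.centralizer_eq hT hc hc1
        have hmem : u ∈ Tor T g₀ := by
          show u ∈ Subgroup.centralizer ({g₀} : Set (Gam T))
          rw [← hcen, Subgroup.mem_centralizer_singleton_iff]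
          calc u * c = (u * c * u⁻¹) * u := by group
            _ = c * u := by rw [hfix]
        have := Subgroup.orderOf_dvd_natCard (Tor T g₀) hmem
        rw [huo'] at this
        exact hodd this
      have hconj : ∀ c ∈ Tor T g₀, u * c * u⁻¹ ∈ Tor T g₀ := by
        intro c hc
        exact (Subgroup.mem_normalizer_iff.mp hu c).mp hc
      have hcomm := h₀.centralizer_comm hT
      have hinv : u * a * u⁻¹ = a⁻¹ := by
        have hb : a * (u * a * u⁻¹) ∈ Tor T g₀ := (Tor T g₀).mul_mem hy (hconj a hy)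
        have hbfix : u * (a * (u * a * u⁻¹)) * u⁻¹ = a * (u * a * u⁻¹) := by
          calc u * (a * (u * a * u⁻¹)) * u⁻¹
              = (u * a * u⁻¹) * ((u * u) * a * (u * u)⁻¹) := by group
            _ = (u * a * u⁻¹) * a := by rw [huu]; group
            _ = a * (u * a * u⁻¹) := hcomm _ (hconj a hy) _ hy
        have := hnofix _ hb hbfix
        exact (eq_inv_of_mul_eq_one_right this)
      refine ⟨y * u * y⁻¹, y * (u * a) * y⁻¹, ?_, ?_, ?_⟩
      · calc y * u * y⁻¹ * (y * u * y⁻¹) = y * (u * u) * y⁻¹ := by group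
          _ = 1 := by rw [huu]; group
      · calc y * (u * a) * y⁻¹ * (y * (u * a) * y⁻¹)
            = y * ((u * a * u⁻¹) * (u * u) * a) * y⁻¹ := by group
          _ = 1 := by rw [hinv, huu]; group
      · rw [hga]
        calc y * a * y⁻¹ = y * ((u * u) * a) * y⁻¹ := by rw [huu, one_mul]
          _ = y * u * y⁻¹ * (y * (u * a) * y⁻¹) := by group
    rcases hall g hfpf with hK | hK
    · exact key g₁ h₁ hN₁ hK
    · exact key g₂ h₂ hN₂ hK
  · obtain ⟨P, hP⟩ := exists_fix_of_prime_order T hr hg hpq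
    obtain ⟨z, ⟨a, b, hab, hz⟩ | ⟨k, hk, hz⟩⟩ := exists_conj_of_fix T hT hg1 hP
    · exfalso
      have h4 : g ^ 4 = 1 := by
        have h5 : (z⁻¹ * g * z) ^ 4 = 1 := by rw [hz, uG_pow_four]
        have h6 : g = z * (z⁻¹ * g * z) * z⁻¹ := by group
        rw [h6, conj_pow, h5]; group
      have h7 := orderOf_dvd_of_pow_eq_one h4
      rw [hg] at h7
      have h8 : r ∣ 2 ^ 2 := by norm_num; exact h7
      have := (Nat.prime_dvd_prime_iff_eq hr Nat.prime_two).mp (hr.dvd_of_dvd_pow h8)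
      exact hr2 this
    · have hgz : g = z * hG T k * z⁻¹ := by rw [← hz]; group
      have htt : tG T * tG T = 1 := tG_mul_tG T
      have hth := tG_hG_tG T k
      refine ⟨z * tG T * z⁻¹, z * (tG T * hG T k) * z⁻¹, ?_, ?_, ?_⟩
      · calc z * tG T * z⁻¹ * (z * tG T * z⁻¹) = z * (tG T * tG T) * z⁻¹ := by group
          _ = 1 := by rw [htt]; group
      · calc z * (tG T * hG T k) * z⁻¹ * (z * (tG T * hG T k) * z⁻¹)
            = z * ((tG T * hG T k * tG T) * hG T k) * z⁻¹ := by group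
          _ = 1 := by rw [hth, hG_mul, inv_mul_cancel, hG_one]; group
      · rw [hgz]
        calc z * hG T k * z⁻¹ = z * ((tG T * tG T) * hG T k) * z⁻¹ := by rw [htt, one_mul]
          _ = z * tG T * z⁻¹ * (z * (tG T * hG T k) * z⁻¹) := by group

/-- every involution is conjugate to a central element of `Usub` -/
theorem invol_conj [Fintype F] (hT : T.IsPow) {t : Gam T} (ht : t * t = 1) :
    ∃ (x : Gam T) (b : F), t = x * uG T 0 b * x⁻¹ := by
  have hp : IsPGroup 2 (Subgroup.zpowers t) := by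
    rintro ⟨_, i, rfl⟩
    refine ⟨1, ?_⟩
    apply Subtype.ext
    show (t ^ i) ^ 2 ^ 1 = 1
    rw [pow_one, ← zpow_natCast, ← zpow_mul, mul_comm, zpow_mul, zpow_natCast, pow_two, ht,
      one_zpow]
  obtain ⟨P, hP⟩ := hp.exists_le_sylow
  obtain ⟨g, hg⟩ := exists_conj_sylow T hT P
  have hmem : t ∈ (P : Subgroup (Gam T)) := hP (Subgroup.mem_zpowers t)
  rw [hg] at hmem
  obtain ⟨u, hu, hut⟩ := hmem
  have hu2 : u ^ 2 = 1 := by
    apply (MulAut.conj g).injective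
    rw [map_pow, map_one]
    have : (MulAut.conj g) u = t := hut
    rw [this, pow_two, ht]
  obtain ⟨b, -, hb⟩ := mem_Esub_of_sq T hu hu2
  refine ⟨g, b, ?_⟩
  rw [← hut, hb]
  rfl

theorem realProp_Esub_top [Fintype F] (hT : T.IsPow) {m : ℕ} (hm : 1 ≤ m)
    (hq : Nat.card F = 2 ^ (2 * m + 1)) : RealProp (Esub T ⊤ : Subgroup (Gam T)) := by
  intro h hh
  -- an odd prime divisor of the order
  have hpos : orderOf h ≠ 0 := (orderOf_pos h).ne'
  obtain ⟨r, hr, hrd, hr2⟩ : ∃ r : ℕ, r.Prime ∧ r ∣ orderOf h ∧ r ≠ 2 := by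
    by_contra hcon
    push Not at hcon
    apply hh
    exact ⟨_, Nat.eq_prime_pow_of_unique_prime_dvd hpos (fun {d} hd hdvd => hcon d hd hdvd)⟩
  obtain ⟨j, hj⟩ : ∃ j, j = orderOf h / r := ⟨_, rfl⟩
  have hord : orderOf (h ^ j) = r := by
    rw [hj]; exact orderOf_pow_orderOf_div hpos hrd
  obtain ⟨t1, t2, ht1, ht2, hprod⟩ := exists_invol_mul hT hm hq hr hr2 hord
  have hnot2 : ¬ (h ^ j) ^ 2 = 1 := by
    intro h2
    have := orderOf_dvd_of_pow_eq_one h2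
    rw [hord] at this
    exact hr2 ((Nat.prime_dvd_prime_iff_eq hr Nat.prime_two).mp this)
  obtain ⟨x1, b1, hx1⟩ := invol_conj hT ht1
  obtain ⟨x2, b2, hx2⟩ := invol_conj hT ht2
  have hb1 : b1 ≠ 0 := by
    rintro rfl
    apply hnot2
    rw [uG_zero] at hx1
    have : t1 = 1 := by rw [hx1]; group
    rw [hprod, this, one_mul, pow_two, ht2]
  have hb2 : b2 ≠ 0 := by
    rintro rfl
    apply hnot2
    rw [uG_zero] at hx2
    have : t2 = 1 := by rw [hx2]; group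
    rw [hprod, this, mul_one, pow_two, ht1]
  have hkey : (x1⁻¹ * h * x1⁻¹⁻¹) ^ j = uG T 0 b1 * ((x1⁻¹ * x2) * uG T 0 b2 * (x1⁻¹ * x2)⁻¹) := by
    rw [conj_pow, hprod, hx1, hx2]; group
  refine ⟨j, x1⁻¹, x1⁻¹ * x2, uG T 0 b1, uG T 0 b2, ⟨b1, AddSubgroup.mem_top _, rfl⟩, ?_,
    ⟨b2, AddSubgroup.mem_top _, rfl⟩, ?_, hkey, ?_⟩
  · intro h1
    exact hb1 ((uG_eq_one_iff T).mp h1).2
  · intro h1
    exact hb2 ((uG_eq_one_iff T).mp h1).2
  · intro hx
    rw [normalizer_Esub_top T hT] at hx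
    obtain ⟨b', -, hb'⟩ := borel_conj_mem_Esub T hT hx (⟨b2, AddSubgroup.mem_top _, rfl⟩ :
      uG T 0 b2 ∈ Esub T ⊤)
    rw [hb', uG_zero_mul] at hkey
    apply hnot2
    have h3 : ((x1⁻¹ * h * x1⁻¹⁻¹) ^ j) ^ 2 = 1 := by
      rw [hkey, uG_sq, zero_mul, uG_zero]
    rw [conj_pow, conj_pow] at h3
    have h4 : (h ^ j) ^ 2 = x1 * (x1⁻¹ * (h ^ j) ^ 2 * x1⁻¹⁻¹) * x1⁻¹ := by group
    rw [h4, h3]; group

theorem realProp_of_card [Fintype F] (hT : T.IsPow) {m : ℕ} (hm : 1 ≤ m)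
    (hq : Nat.card F = 2 ^ (2 * m + 1)) (E : Subgroup (Gam T))
    (hE2 : ∀ x ∈ E, x ^ 2 = 1) (hcard : Nat.card E = Nat.card F) : RealProp E := by
  obtain ⟨g, rfl⟩ := exists_conj_eq T hT E hE2 hcard
  exact (realProp_Esub_top hT hm hq).map_equiv (MulAut.conj g)

end Gam

/-- **Suzuki groups are "strongly real" at odd primes.** In a group `Λ` isomorphic to `Sz(q)`,
`q = 2^(2m+1)`, `m ≥ 1`, let `E` be a subgroup of exponent two and order `q`. Every element `h`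
whose order is not a power of two has a conjugate a power of which is `z1 * (x * z2 * x⁻¹)` with
`z1, z2` nontrivial elements of `E` and `x` not normalizing `E`. -/
theorem sz_real {F : Type*} [Field F] [Fintype F] {m : ℕ} (hm : 1 ≤ m)
    (hF : Fintype.card F = 2 ^ (2 * m + 1)) {Λ : Type*} [Group Λ]
    (e : Λ ≃* ↥(Cfsg.Lie.Sz F (2 ^ (m + 1)))) (E : Subgroup Λ) (hE2 : ∀ x ∈ E, x ^ 2 = 1)
    (hcard : Nat.card E = Fintype.card F) (h : Λ) (hh : ¬ ∃ k : ℕ, orderOf h = 2 ^ k) :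
    ∃ (j : ℕ) (g x z1 z2 : Λ), z1 ∈ E ∧ z1 ≠ 1 ∧ z2 ∈ E ∧ z2 ≠ 1 ∧
      (g * h * g⁻¹) ^ j = z1 * (x * z2 * x⁻¹) ∧ x ∉ Subgroup.normalizer (E : Set Λ) := by
  have : CharP F 2 := charP_two_of_card hF
  have hT := titsOfCard_isPow hm hF
  have hq : Nat.card F = 2 ^ (2 * m + 1) := by rw [Nat.card_eq_fintype_card, hF]
  let ε : Gam (titsOfCard hF) ≃* Λ :=
    ((gamEquiv (titsOfCard hF)).trans
      (MulEquiv.subgroupCongr (lieSz_eq (titsOfCard hF) hT (titsOfCard_apply hF)).symm)).trans e.symm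
  have hmap : (E.comap ε.toMonoidHom).map ε.toMonoidHom = E :=
    Subgroup.map_comap_eq_self_of_surjective ε.surjective E
  have hprop : RealProp (E.comap ε.toMonoidHom) := by
    apply realProp_of_card hT hm hq
    · intro x hx
      apply ε.injective
      rw [map_pow, map_one]
      exact hE2 _ hx
    · have hc : Nat.card ((E.comap ε.toMonoidHom).map ε.toMonoidHom) =
          Nat.card (E.comap ε.toMonoidHom) :=
        Subgroup.card_map_of_injective (f := ε.toMonoidHom) ε.injective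
      rw [← hc, hmap, hcard, Nat.card_eq_fintype_card]
  have h1 := hprop.map_equiv ε
  rw [hmap] at h1
  exact h1 h hh

section PairFix

/-- **Pair of involutions, abstract form.** `Ā` is a normal commutative subgroup of exponent two
of a group `Q`, `t1`, `t2` act on it as involutions and have no common nontrivial fixed point in
`Ā`. Then `t1 * t2 * a0` (`a0 ∈ Ā`) has no nontrivial fixed point in `Ā`. -/
theorem pair_fix_quot {Q : Type*} [Group Q] (Ā : Subgroup Q) (hn : Ā.Normal)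
    (hcomm : ∀ a ∈ Ā, ∀ b ∈ Ā, a * b = b * a) (hsq : ∀ a ∈ Ā, a * a = 1)
    (t1 t2 a0 : Q) (h1 : t1 * t1 ∈ Ā) (h2 : t2 * t2 ∈ Ā) (ha0 : a0 ∈ Ā)
    (hfix : ∀ a ∈ Ā, t1 * a * t1⁻¹ = a → t2 * a * t2⁻¹ = a → a = 1) :
    ∀ a ∈ Ā, (t1 * t2 * a0) * a * (t1 * t2 * a0)⁻¹ = a → a = 1 := by
  intro a ha hfa
  have hc0 : a0 * a * a0⁻¹ = a := by
    rw [hcomm a0 ha0 a ha]; group
  -- t2 a t2⁻¹ = t1⁻¹ a t1
  have e1 : t2 * a * t2⁻¹ = t1⁻¹ * a * t1 := by
    calc t2 * a * t2⁻¹ = t2 * (a0 * a * a0⁻¹) * t2⁻¹ := by rw [hc0]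
      _ = t1⁻¹ * ((t1 * t2 * a0) * a * (t1 * t2 * a0)⁻¹) * t1 := by group
      _ = t1⁻¹ * a * t1 := by rw [hfa]
  have e2 : t1 * a * t1⁻¹ = t1⁻¹ * a * t1 := by
    have : (t1 * t1) * a * (t1 * t1)⁻¹ = a := by
      rw [hcomm _ h1 a ha]; group
    calc t1 * a * t1⁻¹ = t1⁻¹ * ((t1 * t1) * a * (t1 * t1)⁻¹) * t1 := by group
      _ = t1⁻¹ * a * t1 := by rw [this]
  have e3 : t2 * a * t2⁻¹ = t1 * a * t1⁻¹ := by rw [e1, e2]
  obtain ⟨a', ha'⟩ : ∃ a', a' = t1 * a * t1⁻¹ := ⟨_, rfl⟩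
  have ha'm : a' ∈ Ā := by rw [ha']; exact hn.conj_mem a ha t1
  have f1 : t1 * a' * t1⁻¹ = a := by
    rw [ha']
    calc t1 * (t1 * a * t1⁻¹) * t1⁻¹ = (t1 * t1) * a * (t1 * t1)⁻¹ := by group
      _ = a := by rw [hcomm _ h1 a ha]; group
  have f2 : t2 * a' * t2⁻¹ = a := by
    rw [ha', ← e3]
    calc t2 * (t2 * a * t2⁻¹) * t2⁻¹ = (t2 * t2) * a * (t2 * t2)⁻¹ := by group
      _ = a := by rw [hcomm _ h2 a ha]; group
  have hb : a * a' ∈ Ā := Ā.mul_mem ha ha'm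
  have g1 : t1 * (a * a') * t1⁻¹ = a * a' := by
    calc t1 * (a * a') * t1⁻¹ = (t1 * a * t1⁻¹) * (t1 * a' * t1⁻¹) := by group
      _ = a' * a := by rw [f1, ← ha']
      _ = a * a' := hcomm _ ha'm _ ha
  have g2 : t2 * (a * a') * t2⁻¹ = a * a' := by
    calc t2 * (a * a') * t2⁻¹ = (t2 * a * t2⁻¹) * (t2 * a' * t2⁻¹) := by group
      _ = a' * a := by rw [f2, e3, ← ha']
      _ = a * a' := hcomm _ ha'm _ ha
  have hb1 := hfix _ hb g1 g2
  have haa : a' = a := by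
    calc a' = (a * a) * a' := by rw [hsq a ha, one_mul]
      _ = a * (a * a') := by group
      _ = a := by rw [hb1, mul_one]
  apply hfix a ha
  · rw [← ha', haa]
  · rw [e3, ← ha', haa]

/-- **Pair of involutions, subgroup form.** `L` a subgroup of `G`; `C ≤ A ≤ L`, both normalized
by `L`, with `A/C` commutative of exponent two. `t1, t2 ∈ L` have squares in `A` and no common
fixed point on `A/C`. Then `t1 * t2 * a0` (`a0 ∈ A`) has no fixed point on `A/C`. -/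
theorem pair_fix {G : Type*} [Group G] (L A C : Subgroup G) (hAL : A ≤ L)
    (hAn : ∀ x ∈ L, ∀ a ∈ A, x * a * x⁻¹ ∈ A) (hCn : ∀ x ∈ L, ∀ c ∈ C, x * c * x⁻¹ ∈ C)
    (hab : ∀ a ∈ A, ∀ b ∈ A, a * b * a⁻¹ * b⁻¹ ∈ C) (hsq : ∀ a ∈ A, a * a ∈ C)
    (t1 t2 a0 : G) (ht1 : t1 ∈ L) (ht2 : t2 ∈ L) (ha0 : a0 ∈ A)
    (h1 : t1 * t1 ∈ A) (h2 : t2 * t2 ∈ A)
    (hfix : ∀ a ∈ A, t1 * a * t1⁻¹ * a⁻¹ ∈ C → t2 * a * t2⁻¹ * a⁻¹ ∈ C → a ∈ C) :
    ∀ a ∈ A, (t1 * t2 * a0) * a * (t1 * t2 * a0)⁻¹ * a⁻¹ ∈ C → a ∈ C := by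
  have hCnorm : (C.subgroupOf L).Normal := by
    constructor
    intro n hn x
    rw [Subgroup.mem_subgroupOf] at hn ⊢
    exact hCn x.1 x.2 _ hn
  let π : ↥L →* ↥L ⧸ C.subgroupOf L := QuotientGroup.mk' (C.subgroupOf L)
  have hπ1 : ∀ x : ↥L, π x = 1 ↔ (x : G) ∈ C := by
    intro x
    show (QuotientGroup.mk x : ↥L ⧸ C.subgroupOf L) = 1 ↔ _
    rw [QuotientGroup.eq_one_iff, Subgroup.mem_subgroupOf]
  have hAnorm : (A.subgroupOf L).Normal := by
    constructor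
    intro n hn x
    rw [Subgroup.mem_subgroupOf] at hn ⊢
    exact hAn x.1 x.2 _ hn
  have hĀn : ((A.subgroupOf L).map π).Normal :=
    Subgroup.Normal.map hAnorm π (QuotientGroup.mk'_surjective _)
  have hmemĀ : ∀ x : ↥L, (x : G) ∈ A → π x ∈ (A.subgroupOf L).map π := by
    intro x hx
    exact ⟨x, Subgroup.mem_subgroupOf.mpr hx, rfl⟩
  have hĀ : ∀ y ∈ (A.subgroupOf L).map π, ∃ x : ↥L, (x : G) ∈ A ∧ π x = y := by
    rintro _ ⟨x, hx, rfl⟩
    exact ⟨x, Subgroup.mem_subgroupOf.mp hx, rfl⟩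
  have key := pair_fix_quot ((A.subgroupOf L).map π) hĀn ?_ ?_
    (π ⟨t1, ht1⟩) (π ⟨t2, ht2⟩) (π ⟨a0, hAL ha0⟩) ?_ ?_ (hmemĀ _ ha0) ?_
  · intro a ha hfa
    have ha' : π ⟨a, hAL ha⟩ = 1 := by
      apply key _ (hmemĀ _ ha)
      have h3 : π ⟨t1, ht1⟩ * π ⟨t2, ht2⟩ * π ⟨a0, hAL ha0⟩ * π ⟨a, hAL ha⟩ *
          (π ⟨t1, ht1⟩ * π ⟨t2, ht2⟩ * π ⟨a0, hAL ha0⟩)⁻¹ * (π ⟨a, hAL ha⟩)⁻¹ = 1 := by
        rw [← map_mul, ← map_mul, ← map_mul, ← map_inv, ← map_mul, ← map_inv, ← map_mul, hπ1]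
        exact hfa
      exact mul_inv_eq_one.mp h3
    exact (hπ1 _).mp ha'
  · -- commutativity
    intro a ha b hb
    obtain ⟨x, hx, rfl⟩ := hĀ a ha
    obtain ⟨y, hy, rfl⟩ := hĀ b hb
    have h3 : π x * π y * (π x)⁻¹ * (π y)⁻¹ = 1 := by
      rw [← map_mul, ← map_inv, ← map_mul, ← map_inv, ← map_mul, hπ1]
      exact hab _ hx _ hy
    calc π x * π y = (π x * π y * (π x)⁻¹ * (π y)⁻¹) * (π y * π x) := by group
      _ = π y * π x := by rw [h3, one_mul]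
  · intro a ha
    obtain ⟨x, hx, rfl⟩ := hĀ a ha
    rw [← map_mul, hπ1]
    exact hsq _ hx
  · rw [← map_mul]
    exact hmemĀ _ h1
  · rw [← map_mul]
    exact hmemĀ _ h2
  · intro a ha hf1 hf2
    obtain ⟨x, hx, rfl⟩ := hĀ a ha
    rw [hπ1]
    apply hfix _ hx
    · have : π (⟨t1, ht1⟩ * x * ⟨t1, ht1⟩⁻¹ * x⁻¹) = 1 := by
        rw [map_mul, map_mul, map_mul, map_inv, map_inv, hf1, mul_inv_cancel]
      exact (hπ1 _).mp this
    · have : π (⟨t2, ht2⟩ * x * ⟨t2, ht2⟩⁻¹ * x⁻¹) = 1 := by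
        rw [map_mul, map_mul, map_mul, map_inv, map_inv, hf2, mul_inv_cancel]
      exact (hπ1 _).mp this

/-- fixed points of `h` are fixed points of its powers -/
theorem fix_pow {G : Type*} [Group G] (C : Subgroup G) (h a : G)
    (hCn : ∀ c ∈ C, h * c * h⁻¹ ∈ C) (hfa : h * a * h⁻¹ * a⁻¹ ∈ C) (j : ℕ) :
    h ^ j * a * (h ^ j)⁻¹ * a⁻¹ ∈ C := by
  induction j with
  | zero => simp
  | succ n ih =>
    have h3 := hCn _ ih
    have h4 : h ^ (n + 1) * a * (h ^ (n + 1))⁻¹ * a⁻¹ =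
        (h * (h ^ n * a * (h ^ n)⁻¹ * a⁻¹) * h⁻¹) * (h * a * h⁻¹ * a⁻¹) := by
      rw [pow_succ']; group
    rw [h4]
    exact C.mul_mem h3 hfa

end PairFix

end Cfsg.Agent.Lib.Helper3.SzReal
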