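import Mathlib
import Cfsg.Agent.Lib.Helper3.Sz88
import Cfsg.Agent.Lib.Helper3.SzRep1

set_option autoImplicit false
set_option linter.unusedSectionVars false
set_option linter.style.haveILetI false

/-!
The radical of the commutator form of the Suzuki `2`-group twisted by an additive character.
-/

namespace Cfsg.Agent.Lib.Helper3.SzRep

open Cfsg
open Cfsg.Agent.Lib.Helper3.Sz

variable {F : Type*} [Field F] [CharP F 2] (T : Tits F)

/-- membership in the image of `u ↦ u + θ u` -/
def InPsi (x : F) : Prop := ∃ u : F, u + T.θ u = x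

theorem inPsi_add {x y : F} (hx : InPsi T x) (hy : InPsi T y) : InPsi T (x + y) := by
  obtain ⟨u, rfl⟩ := hx
  obtain ⟨v, rfl⟩ := hy
  refine ⟨u + v, ?_⟩
  rw [map_add]
  ring

theorem not_inPsi_one : ¬ InPsi T (1 : F) := by
  rintro ⟨u, hu⟩
  exact T.add_ne_one u hu

theorem inPsi_cover [Fintype F] (d : F) : InPsi T d ∨ InPsi T (d + 1) := by
  obtain ⟨u, h | h⟩ := psi_cover T d
  · exact Or.inl ⟨u, h⟩
  · exact Or.inr ⟨u, h⟩

/-- a multiplier of the image of `u ↦ u + θ u` is `0` or `1` -/
theorem multiplier_eq [Fintype F] {κ : F} (h : ∀ x, InPsi T x → InPsi T (κ * x)) :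
    κ = 0 ∨ κ = 1 := by
  have key : ∀ κ' : F, (∀ x, InPsi T x → InPsi T (κ' * x)) → InPsi T κ' → κ' = 0 := by
    intro κ' h' hκ'
    by_contra hne
    have hall : ∀ y : F, InPsi T (κ' * y) := by
      intro y
      rcases inPsi_cover T y with hy | hy
      · exact h' y hy
      · have h1 := h' (y + 1) hy
        have h2 := inPsi_add T h1 hκ'
        have e : κ' * (y + 1) + κ' = κ' * y := by
          rw [mul_add, mul_one, add_assoc, CharTwo.add_self_eq_zero, add_zero]
        rwa [e] at h2
    have := hall κ'⁻¹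
    rw [mul_inv_cancel₀ hne] at this
    exact not_inPsi_one T this
  rcases inPsi_cover T κ with hκ | hκ
  · exact Or.inl (key κ h hκ)
  · right
    have h' : ∀ x, InPsi T x → InPsi T ((κ + 1) * x) := by
      intro x hx
      have := inPsi_add T (h x hx) hx
      have e : κ * x + x = (κ + 1) * x := by ring
      rwa [e] at this
    have := key (κ + 1) h' hκ
    exact CharTwo.add_eq_zero.mp this

/-- the twisted commutator form has a radical with at most one non-zero element -/
theorem radical_unique [Fintype F] (ν : F → ℂˣ) (hadd : ∀ x y, ν (x + y) = ν x * ν y)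
    {b₀ : F} (hb₀ : ν b₀ ≠ 1) {a a' : F} (ha : a ≠ 0) (ha' : a' ≠ 0)
    (hR : ∀ c, ν (T.θ c * a + T.θ a * c) = 1) (hR' : ∀ c, ν (T.θ c * a' + T.θ a' * c) = 1) :
    a = a' := by
  have hν0 : ν 0 = 1 := by
    have := hadd 0 0
    rw [add_zero] at this
    exact (mul_eq_left (a := ν 0)).mp this.symm
  have hN : ∀ {a : F}, a ≠ 0 → a * T.θ a ≠ 0 := by
    intro a ha
    exact mul_ne_zero ha (fun h => ha (T.eq_zero_iff.mp h))
  -- the kernel of ν
  have hker : ∀ {a : F}, a ≠ 0 → (∀ c, ν (T.θ c * a + T.θ a * c) = 1) →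
      ∀ y : F, ν y = 1 ↔ InPsi T (y / (a * T.θ a)) := by
    intro a ha hR
    have hNa := hN ha
    have hpsi : ∀ u : F, ν (a * T.θ a * (u + T.θ u)) = 1 := by
      intro u
      have := hR (a * u)
      have e : T.θ (a * u) * a + T.θ a * (a * u) = a * T.θ a * (u + T.θ u) := by
        rw [map_mul]; ring
      rwa [e] at this
    have hνN : ν (a * T.θ a) ≠ 1 := by
      intro h1
      apply hb₀
      rcases inPsi_cover T (b₀ / (a * T.θ a)) with ⟨u, hu⟩ | ⟨u, hu⟩
      · have := hpsi u
        rwa [hu, mul_div_cancel₀ _ hNa] at this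
      · have := hpsi u
        rw [hu, mul_add, mul_div_cancel₀ _ hNa, mul_one, hadd, h1, mul_one] at this
        exact this
    intro y
    constructor
    · intro hy
      rcases inPsi_cover T (y / (a * T.θ a)) with h | ⟨u, hu⟩
      · exact h
      · exfalso
        have := hpsi u
        rw [hu, mul_add, mul_div_cancel₀ _ hNa, mul_one, hadd, hy, one_mul] at this
        exact hνN this
    · rintro ⟨u, hu⟩
      have := hpsi u
      rwa [hu, mul_div_cancel₀ _ hNa] at this
  have hk := hker ha hR
  have hk' := hker ha' hR'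
  have hNa := hN ha
  have hNa' := hN ha'
  have hmult : ∀ x, InPsi T x → InPsi T ((a' * T.θ a') / (a * T.θ a) * x) := by
    intro x hx
    have h1 : ν (a' * T.θ a' * x) = 1 := by
      rw [hk']
      rwa [mul_div_cancel_left₀ _ hNa']
    rw [hk] at h1
    have e : a' * T.θ a' * x / (a * T.θ a) = (a' * T.θ a') / (a * T.θ a) * x := by
      field_simp
    rwa [e] at h1
  rcases multiplier_eq T hmult with h | h
  · exfalso
    rw [div_eq_zero_iff] at h
    rcases h with h | h
    · exact hNa' h
    · exact hNa h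
  · rw [div_eq_one_iff_eq hNa] at h
    exact (T.norm_injective h).symm

end Cfsg.Agent.Lib.Helper3.SzRep
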