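import Mathlib
import Cfsg.Agent.Lib.Helper3.SzRep2

set_option autoImplicit false
set_option linter.unusedSectionVars false
set_option linter.style.haveILetI false

/-!
Irreducible characters of the Suzuki `2`-group which are non-trivial on the centre have degree at
least `2 ^ m`.
-/

namespace Cfsg.Agent.Lib.Helper3.SzRep

open Cfsg
open Cfsg.Agent.Lib.Helper3.Sz
open Cfsg.Agent.Lib.Helper1 Cfsg.Agent.Lib.Helper4 Cfsg.Agent.Lib.Helper8

universe u

variable {F : Type u} [Field F] [CharP F 2] (T : Tits F)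

/-- the central elements `u(0,b)` as a homomorphism from the additive group of the field -/
def zHom : Multiplicative F →* ↥(Usub T) where
  toFun b := uU T 0 (Multiplicative.toAdd b)
  map_one' := uU_zero T
  map_mul' b b' := by
    rw [uU_mul]
    simp

theorem zHom_apply (b : F) : zHom T (Multiplicative.ofAdd b) = uU T 0 b := rfl

theorem zHom_central (b : Multiplicative F) : zHom T b ∈ Subgroup.center ↥(Usub T) := by
  rw [Subgroup.mem_center_iff]
  intro g
  obtain ⟨a, c, rfl⟩ := uU_surj T g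
  show uU T a c * uU T 0 _ = uU T 0 _ * uU T a c
  rw [uU_mul, uU_mul]
  congr 1
  · ring
  · simp only [map_zero, mul_zero, zero_mul, add_zero]
    ring

/-- conjugation inside `U` -/
theorem uU_conj_uU (a b c e : F) :
    uU T c e * uU T a b * (uU T c e)⁻¹ =
      uU T a b * zHom T (Multiplicative.ofAdd (T.θ c * a + T.θ a * c)) := by
  apply Subtype.ext
  rw [zHom_apply]
  show uG T c e * uG T a b * (uG T c e)⁻¹ = uG T a b * uG T 0 _
  rw [uG_conj_uG, uG_mul]
  congr 1
  · ring
  · simp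

variable [Fintype F]

theorem card_Usub_fintype [Fintype ↥(Usub T)] : Fintype.card ↥(Usub T) = Fintype.card F ^ 2 := by
  rw [← Nat.card_eq_fintype_card, card_Usub, Nat.card_eq_fintype_card]

/-- irreducible characters of `U` non-trivial on the centre have degree at least `2 ^ m` -/
theorem degree_bound [Fintype ↥(Usub T)] {m : ℕ} (hq : Nat.card F = 2 ^ (2 * m + 1))
    {ψ : ↥(Usub T) → ℂ} (hψ : IsIrrCharacter ↥(Usub T) ψ) (μ : Multiplicative F →* ℂˣ)
    (hμ : ∀ x b, ψ (x * zHom T b) = ψ x * ((μ b : ℂˣ) : ℂ)) (hμ1 : μ ≠ 1) :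
    (2 : ℝ) ^ m ≤ (ψ 1).re := by
  classical
  set ν : F → ℂˣ := fun b => μ (Multiplicative.ofAdd b) with hν
  have hadd : ∀ x y, ν (x + y) = ν x * ν y := by
    intro x y
    rw [hν]
    simp only [ofAdd_add, map_mul]
  obtain ⟨b₀, hb₀⟩ : ∃ b₀ : F, ν b₀ ≠ 1 := by
    by_contra h
    push Not at h
    apply hμ1
    apply MonoidHom.ext
    intro b
    have := h (Multiplicative.toAdd b)
    simpa [hν] using this
  -- the radical
  set R : Finset F := Finset.univ.filter (fun a => ∀ c, ν (T.θ c * a + T.θ a * c) = 1) with hR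
  have hRcard : R.card ≤ 2 := by
    by_cases hex : ∃ a₀ ∈ R, a₀ ≠ 0
    · obtain ⟨a₀, ha₀R, ha₀⟩ := hex
      have hsub : R ⊆ {0, a₀} := by
        intro a haR
        rw [Finset.mem_insert, Finset.mem_singleton]
        by_cases ha : a = 0
        · exact Or.inl ha
        · right
          rw [hR, Finset.mem_filter] at haR ha₀R
          exact radical_unique T ν hadd hb₀ ha ha₀ haR.2 ha₀R.2
      exact (Finset.card_le_card hsub).trans Finset.card_le_two
    · push Not at hex
      have hsub : R ⊆ {0} := by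
        intro a haR
        rw [Finset.mem_singleton]
        exact hex a haR
      exact (Finset.card_le_card hsub).trans (by simp)
  set W : Finset ↥(Usub T) := (R ×ˢ (Finset.univ : Finset F)).image (fun p => uU T p.1 p.2)
    with hW
  have hWcard : W.card ≤ 2 * Fintype.card F := by
    calc W.card ≤ (R ×ˢ (Finset.univ : Finset F)).card := Finset.card_image_le
      _ = R.card * Fintype.card F := by rw [Finset.card_product, Finset.card_univ]
      _ ≤ 2 * Fintype.card F := Nat.mul_le_mul_right _ hRcard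
  have hvan : ∀ u, u ∉ W → ψ u = 0 := by
    intro u hu
    obtain ⟨a, b, rfl⟩ := uU_surj T u
    have haR : a ∉ R := by
      intro haR
      apply hu
      rw [hW, Finset.mem_image]
      exact ⟨(a, b), Finset.mem_product.mpr ⟨haR, Finset.mem_univ _⟩, rfl⟩
    rw [hR, Finset.mem_filter] at haR
    push Not at haR
    obtain ⟨c, hc⟩ := haR (Finset.mem_univ _)
    exact apply_eq_zero_of_conj (zHom T) hψ μ hμ (uU_conj_uU T a b c 0) hc
  have h1 := card_le_of_vanish hψ W hvan
  rw [card_Usub_fintype] at h1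
  have hqF : Fintype.card F = 2 ^ (2 * m + 1) := by rw [← Nat.card_eq_fintype_card, hq]
  rw [hqF] at h1 hWcard
  have hd0 : 0 ≤ (ψ 1).re := by
    have := isCharacter_norm_le (isCharacter_of_irr hψ) 1
    exact (norm_nonneg _).trans this
  have h2 : ((2 ^ (2 * m + 1) : ℕ) : ℝ) ^ 2 ≤ (2 * 2 ^ (2 * m + 1) : ℕ) * (ψ 1).re ^ 2 := by
    calc ((2 ^ (2 * m + 1) : ℕ) : ℝ) ^ 2 = (((2 ^ (2 * m + 1)) ^ 2 : ℕ) : ℝ) := by push_cast; ring
      _ ≤ W.card * (ψ 1).re ^ 2 := h1
      _ ≤ (2 * 2 ^ (2 * m + 1) : ℕ) * (ψ 1).re ^ 2 := by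
          apply mul_le_mul_of_nonneg_right _ (sq_nonneg _)
          exact_mod_cast hWcard
  push_cast at h2
  have hpos : (0 : ℝ) < 2 ^ (2 * m + 1) := by positivity
  have h3 : ((2 : ℝ) ^ m) ^ 2 ≤ (ψ 1).re ^ 2 := by
    have e : (2 : ℝ) ^ (2 * m + 1) = 2 * ((2 : ℝ) ^ m) ^ 2 := by
      rw [pow_succ, pow_mul, ← pow_mul, mul_comm 2 m, pow_mul]
      ring
    rw [e] at h2 hpos
    have hpos2 : (0 : ℝ) < 2 * (2 ^ m) ^ 2 := hpos
    nlinarith
  exact (pow_le_pow_iff_left₀ (by positivity) hd0 two_ne_zero).mp h3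

end Cfsg.Agent.Lib.Helper3.SzRep
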