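import Mathlib
import Cfsg.Agent.Lib.Helper3.SzRep3
import Cfsg.Agent.Lib.Helper8.CharKernel

set_option autoImplicit false
set_option linter.unusedSectionVars false
set_option linter.style.haveILetI false

/-!
The minimal degree of a non-trivial irreducible character of the Suzuki group.
-/

namespace Cfsg.Agent.Lib.Helper3.SzRep

open Cfsg
open scoped ComplexConjugate
open Cfsg.Agent.Lib.Helper3.Sz
open Cfsg.Agent.Lib.Helper1 Cfsg.Agent.Lib.Helper4 Cfsg.Agent.Lib.Helper8

universe u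

variable {F : Type u} [Field F] [CharP F 2] (T : Tits F) [Fintype F] (hT : T.IsPow)

include hT in
/-- an irreducible character of degree `≠ 1` has a constituent on `U` non-trivial on the centre -/
theorem exists_constituent [Fintype (Gam T)] [Fintype ↥(Usub T)] {χ : Gam T → ℂ}
    (hχ : IsIrrCharacter (Gam T) χ) (hne : χ 1 ≠ 1) :
    ∃ ψ : ↥(Usub T) → ℂ, IsIrrCharacter ↥(Usub T) ψ ∧
      classInner (fun u : ↥(Usub T) => χ u) ψ ≠ 0 ∧
      ∃ μ : Multiplicative F →* ℂˣ, (∀ x b, ψ (x * zHom T b) = ψ x * ((μ b : ℂˣ) : ℂ)) ∧ μ ≠ 1 := by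
  classical
  by_contra hcon
  push Not at hcon
  haveI : Fintype (IrrCharacter ↥(Usub T)) := Fintype.ofFinite _
  set χU : ↥(Usub T) → ℂ := fun u => χ u with hχU
  have hχc : IsCharacter (Gam T) χ := isCharacter_of_irr hχ
  have hχUc : IsCharacter ↥(Usub T) χU := Cfsg.Agent.S0148.isCharacter_restrict (Usub T) hχc
  have hexp := class_function_expansion χU (isClassFunction_of_isCharacter hχUc)
  -- χ is constant on the centre of U
  have hconst : ∀ b : Multiplicative F, χU (zHom T b) = χU 1 := by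
    intro b
    have h1 : ∀ ξ : IrrCharacter ↥(Usub T),
        (classInner χU ξ • (ξ : ↥(Usub T) → ℂ)) (zHom T b) =
        (classInner χU ξ • (ξ : ↥(Usub T) → ℂ)) 1 := by
      intro ξ
      simp only [Pi.smul_apply, smul_eq_mul]
      by_cases hc : classInner χU ξ = 0
      · rw [hc, zero_mul, zero_mul]
      · obtain ⟨μ, hμ⟩ := exists_hom_central (zHom T) (zHom_central T) ξ.2
        have := hcon ξ ξ.2 hc μ hμ
        have h2 := hμ 1 b
        rw [one_mul, this] at h2
        rw [h2]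
        simp
    have h2 := congrFun hexp (zHom T b)
    have h3 := congrFun hexp 1
    rw [Finset.sum_apply] at h2 h3
    rw [h2, h3]
    exact Finset.sum_congr rfl fun ξ _ => h1 ξ
  -- the kernel
  obtain ⟨K, hKn, hK⟩ := exists_normal_ker hχc
  have hmem : uG T 0 1 ∈ K := by
    rw [hK]
    have := hconst (Multiplicative.ofAdd 1)
    rw [zHom_apply] at this
    exact this
  haveI := isSimpleGroup_Gam T hT
  have hKtop : K = ⊤ := by
    rcases hKn.eq_bot_or_eq_top with h | h
    · exfalso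
      rw [h, Subgroup.mem_bot] at hmem
      have := (uG_eq_one_iff T).mp hmem
      exact one_ne_zero this.2
    · exact h
  have hall : ∀ g : Gam T, χ g = χ 1 := by
    intro g
    rw [← hK, hKtop]
    exact Subgroup.mem_top g
  have h1 := classInner_irr_self hχ
  rw [classInner_def] at h1
  obtain ⟨n, hn⟩ := isCharacter_apply_one hχc
  have hG0 : (Nat.card (Gam T) : ℂ) ≠ 0 := Nat.cast_ne_zero.2 Nat.card_pos.ne'
  have h2 : ∑ g : Gam T, χ g * conj (χ g) = (Nat.card (Gam T) : ℂ) * ((n : ℂ) * (n : ℂ)) := by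
    rw [Finset.sum_congr rfl (fun g _ => by rw [hall g, hn, Complex.conj_natCast]),
      Finset.sum_const, Finset.card_univ, nsmul_eq_mul, Nat.card_eq_fintype_card]
  rw [h2, ← mul_assoc, inv_mul_cancel₀ hG0, one_mul] at h1
  have h3 : n * n = 1 := by exact_mod_cast h1
  have h4 : n = 1 := by
    rcases Nat.eq_one_of_mul_eq_one_left h3 with h
    exact h
  apply hne
  rw [hn, h4, Nat.cast_one]

theorem hG_mem_normalizer_Usub (k : Fˣ) :
    hG T k ∈ Subgroup.normalizer ((Usub T : Subgroup (Gam T)) : Set (Gam T)) := by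
  rw [Subgroup.mem_normalizer_iff]
  intro h
  constructor
  · rintro ⟨a, b, rfl⟩
    rw [hG_conj_uG]
    exact uG_mem_Usub T _ _
  · intro hh
    obtain ⟨a, b, hab⟩ := hh
    have e : h = (hG T k)⁻¹ * (hG T k * h * (hG T k)⁻¹) * hG T k := by group
    rw [e, hab]
    have e2 : (hG T k)⁻¹ = hG T k⁻¹ := by
      rw [inv_eq_iff_mul_eq_one, hG_mul, mul_inv_cancel, hG_one]
    have e3 : hG T k = (hG T k⁻¹)⁻¹ := by rw [← e2, inv_inv]
    rw [e2]
    have e5 : hG T k⁻¹ * uG T a b * hG T k = hG T k⁻¹ * uG T a b * (hG T k⁻¹)⁻¹ := by rw [← e3]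
    rw [e5, hG_conj_uG]
    exact uG_mem_Usub T _ _

include hT in
/-- the minimal degree of a non-linear irreducible character of the Suzuki group -/
theorem min_degree_Gam {m : ℕ} (hq : Nat.card F = 2 ^ (2 * m + 1))
    {χ : Gam T → ℂ} (hχ : IsIrrCharacter (Gam T) χ) (hne : χ 1 ≠ 1) :
    (2 : ℝ) ^ m * (2 ^ (2 * m + 1) - 1) ≤ (χ 1).re := by
  classical
  letI : Fintype (Gam T) := Fintype.ofFinite _
  letI : Fintype ↥(Usub T) := Fintype.ofFinite _
  obtain ⟨ψ, hψ, hψne, μ, hμ, hμ1⟩ := exists_constituent T hT hχ hne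
  have hdeg := degree_bound T hq hψ μ hμ hμ1
  set S : Finset (Gam T) := Finset.univ.image (fun k : Fˣ => hG T k) with hS
  have hScard : S.card = Fintype.card F - 1 := by
    rw [hS, Finset.card_image_of_injective _ (fun k l h => hG_injective T h), Finset.card_univ,
      Fintype.card_units]
  have hSn : ∀ s ∈ S, s ∈ Subgroup.normalizer ((Usub T : Subgroup (Gam T)) : Set (Gam T)) := by
    intro s hs
    rw [hS, Finset.mem_image] at hs
    obtain ⟨k, -, rfl⟩ := hs
    exact hG_mem_normalizer_Usub T k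
  set ν : F → ℂˣ := fun b => μ (Multiplicative.ofAdd b) with hν
  have hadd : ∀ x y, ν (x + y) = ν x * ν y := by
    intro x y
    rw [hν]
    simp only [ofAdd_add, map_mul]
  have hν0 : ν 0 = 1 := by
    rw [hν]
    simp
  have hνsq : ∀ x, ν x * ν x = 1 := by
    intro x
    rw [← hadd, CharTwo.add_self_eq_zero, hν0]
  have hψ1 : ψ 1 ≠ 0 := irr_apply_one_ne_zero hψ
  have hdist : ∀ s (hs : s ∈ S) s' (hs' : s' ∈ S), s ≠ s' →
      (fun u => ψ (conjEquiv (Usub T) s (hSn s hs) u)) ≠
        (fun u => ψ (conjEquiv (Usub T) s' (hSn s' hs') u)) := by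
    intro s hs s' hs' hss hfun
    have hs0 := hs
    have hs0' := hs'
    rw [hS, Finset.mem_image] at hs0 hs0'
    obtain ⟨k, -, hk⟩ := hs0
    obtain ⟨k', -, hk'⟩ := hs0'
    subst hk
    subst hk'
    have hkk : k ≠ k' := fun h => hss (by rw [h])
    set κ : Fˣ → F := fun l => T.θ l ^ 2 * (l : F) ^ 2 with hκ
    have hval : ∀ (l : Fˣ) (hl : hG T l ∈ S) (b : F),
        ψ (conjEquiv (Usub T) (hG T l) (hSn _ hl) (uU T 0 b)) =
          ψ 1 * ((ν (κ l * b) : ℂˣ) : ℂ) := by
      intro l hl b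
      have e : conjEquiv (Usub T) (hG T l) (hSn _ hl) (uU T 0 b) =
          1 * zHom T (Multiplicative.ofAdd (κ l * b)) := by
        apply Subtype.ext
        rw [conjEquiv_apply, one_mul, zHom_apply]
        show hG T l * uG T 0 b * (hG T l)⁻¹ = uG T 0 (κ l * b)
        rw [hG_conj_uG, mul_zero]
      rw [e, hμ]
    have heq : ∀ b : F, ν (κ k * b) = ν (κ k' * b) := by
      intro b
      have h1 : ψ (conjEquiv (Usub T) (hG T k) (hSn _ hs) (uU T 0 b)) =
          ψ (conjEquiv (Usub T) (hG T k') (hSn _ hs') (uU T 0 b)) := congrFun hfun (uU T 0 b)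
      rw [hval k hs b, hval k' hs' b] at h1
      exact Units.ext (mul_left_cancel₀ hψ1 h1)
    have hκne : κ k + κ k' ≠ 0 := by
      intro h
      have h1 : κ k = κ k' := CharTwo.add_eq_zero.mp h
      apply hkk
      have h2 : T.θ ((k * k'⁻¹ : Fˣ) : F) ^ 2 * ((k * k'⁻¹ : Fˣ) : F) ^ 2 = 1 := by
        have hk'0 : (k' : F) ≠ 0 := k'.ne_zero
        have hθk'0 : T.θ (k' : F) ≠ 0 := fun h => hk'0 (T.eq_zero_iff.mp h)
        simp only [hκ] at h1
        rw [Units.val_mul, Units.val_inv_eq_inv_val, map_mul, map_inv₀]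
        field_simp
        linear_combination h1
      have h3 := units_norm_sq_eq_one T h2
      have : k = (k * k'⁻¹) * k' := by group
      rw [this, h3, one_mul]
    have hall : ∀ y : F, ν y = 1 := by
      intro y
      have h1 := hadd (κ k * (y / (κ k + κ k'))) (κ k' * (y / (κ k + κ k')))
      rw [← add_mul, mul_div_cancel₀ _ hκne, heq, hνsq] at h1
      exact h1
    apply hμ1
    apply MonoidHom.ext
    intro b
    have := hall (Multiplicative.toAdd b)
    simpa [hν] using this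
  have hbound := orbit_bound (Usub T) (isCharacter_of_irr hχ) hψ hψne S hSn hdist
  rw [hScard] at hbound
  have hqF : Fintype.card F = 2 ^ (2 * m + 1) := by rw [← Nat.card_eq_fintype_card, hq]
  rw [hqF] at hbound
  have h1 : (((2 ^ (2 * m + 1) - 1 : ℕ)) : ℝ) = 2 ^ (2 * m + 1) - 1 := by
    rw [Nat.cast_sub Nat.one_le_two_pow]
    push_cast
    ring
  rw [h1] at hbound
  have h2 : (0 : ℝ) ≤ 2 ^ (2 * m + 1) - 1 := by
    have : (1 : ℝ) ≤ 2 ^ (2 * m + 1) := one_le_pow₀ (by norm_num)
    linarith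
  calc (2 : ℝ) ^ m * (2 ^ (2 * m + 1) - 1) = (2 ^ (2 * m + 1) - 1) * 2 ^ m := by ring
    _ ≤ (2 ^ (2 * m + 1) - 1) * (ψ 1).re := mul_le_mul_of_nonneg_left hdeg h2
    _ ≤ (χ 1).re := hbound

end Cfsg.Agent.Lib.Helper3.SzRep
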