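import Mathlib
import Cfsg.Agent.Lib.Helper3.SzRep4
import Cfsg.Agent.Lib.Helper3.Sz76

set_option autoImplicit false
set_option linter.unusedSectionVars false
set_option linter.style.haveILetI false

/-!
The minimal degree of a non-trivial irreducible representation of the Suzuki group of the
statements.
-/

namespace Cfsg.Agent.Lib.Helper3.SzRep

open Cfsg
open Cfsg.Agent.Lib.Helper3.Sz
open Cfsg.Agent.Lib.Helper1 Cfsg.Agent.Lib.Helper4 Cfsg.Agent.Lib.Helper8

universe u

variable {F : Type u} [Field F] [CharP F 2] [Fintype F]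

theorem min_degree_lieSz (m : ℕ) (hm : 1 ≤ m) (hF : Fintype.card F = 2 ^ (2 * m + 1))
    (k : ℕ) (ρ : Representation ℂ (Cfsg.Lie.Sz F (2 ^ (m + 1))) (Fin k → ℂ))
    (hρ : ρ.IsIrreducible) (hk : 2 ≤ k) : 2 ^ m * (2 ^ (2 * m + 1) - 1) ≤ k := by
  have hT := titsOfCard_isPow hm hF
  have hq : Nat.card F = 2 ^ (2 * m + 1) := by rw [Nat.card_eq_fintype_card, hF]
  set T := titsOfCard hF with hTdef
  let e : Gam T ≃* ↥(Cfsg.Lie.Sz F (2 ^ (m + 1))) :=
    (gamEquiv T).trans (MulEquiv.subgroupCongr (lieSz_eq T hT (titsOfCard_apply hF)).symm)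
  let ρ' : Representation ℂ (Gam T) (Fin k → ℂ) := ρ.comp e.toMonoidHom
  have hirr : ρ'.IsIrreducible :=
    isIrreducible_comp_surjective ρ hρ e.toMonoidHom e.surjective
  have hχ : IsIrrCharacter (Gam T) ρ'.character := ⟨k, ρ', hirr, rfl⟩
  have h1 : ρ'.character 1 = (k : ℂ) := by
    rw [Representation.char_one]
    simp
  have hne : ρ'.character 1 ≠ 1 := by
    rw [h1]
    intro h
    have : k = 1 := by exact_mod_cast h
    omega
  have hmain := min_degree_Gam T hT hq hχ hne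
  rw [h1] at hmain
  simp only [Complex.natCast_re] at hmain
  have h2 : (((2 ^ m * (2 ^ (2 * m + 1) - 1) : ℕ)) : ℝ) = 2 ^ m * (2 ^ (2 * m + 1) - 1) := by
    rw [Nat.cast_mul, Nat.cast_sub Nat.one_le_two_pow]
    push_cast
    ring
  rw [← h2] at hmain
  exact_mod_cast hmain

end Cfsg.Agent.Lib.Helper3.SzRep
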