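import Mathlib
import Cfsg.Prelude.Def_Local
import Cfsg.Agent.Lib.Lead.ThompsonPQ

set_option autoImplicit false

namespace Cfsg.Agent.Lib.Helper3.TD

open Cfsg.Agent.Lib.Lead

variable {G : Type*} [Group G] [Finite G]

/-- A version of Thompson's `P × Q` lemma inside a nilpotent subgroup `Γ`: `P ≤ Γ`, `Q` centralizes
`P`, acts coprimely on `U ≤ Γ`, and centralizes `C_U(P)`; then `Q` centralizes `U`. -/
theorem nilpotent_PQ_aux (Γ P Q : Subgroup G) [hΓ : Group.IsNilpotent Γ] (hPΓ : P ≤ Γ)
    (hQ : (Nat.card Q).Coprime (Nat.card Γ)) (hPQ : P ≤ Subgroup.centralizer (Q : Set G)) (n : ℕ) :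
    ∀ U : Subgroup G, Nat.card U = n → U ≤ Γ →
      P ≤ Subgroup.normalizer (U : Set G) → Q ≤ Subgroup.normalizer (U : Set G) →
      U ⊓ Subgroup.centralizer (P : Set G) ≤ Subgroup.centralizer (Q : Set G) →
      Q ≤ Subgroup.centralizer (U : Set G) := by
  induction n using Nat.strong_induction_on with
  | _ n ih =>
  intro U hn hUΓ hPU hQU hC
  have hcop : (Nat.card Q).Coprime (Nat.card U) :=
    Nat.Coprime.coprime_dvd_right (Subgroup.card_dvd_of_le hUΓ) hQ
  have hΓsolv : Group.IsSolvable Γ := inferInstance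
  have hUsolv : Group.IsSolvable U := isSolvable_of_le hUΓ
  have hVU : ⁅U, Q⁆ ≤ U := commutator_le_left_of_le_normalizer U Q hQU
  have hPnQ : P ≤ Subgroup.normalizer (Q : Set G) :=
    hPQ.trans (Subgroup.centralizer_le_normalizer _)
  have hQnP : Q ≤ Subgroup.normalizer (P : Set G) := by
    have : Q ≤ Subgroup.centralizer (P : Set G) := Subgroup.le_centralizer_iff.mp hPQ
    exact this.trans (Subgroup.centralizer_le_normalizer _)
  by_cases hV : ⁅U, Q⁆ = U
  · by_cases hUbot : U = ⊥
    · rw [hUbot]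
      intro q _
      rw [Subgroup.mem_centralizer_iff]
      intro u hu
      have : u = 1 := hu
      rw [this, one_mul, mul_one]
    · set W := ⁅U, P⁆ with hW
      have hWU : W ≤ U := commutator_le_left_of_le_normalizer U P hPU
      have hWne : W ≠ U := by
        intro hWeq
        apply hUbot
        apply eq_bot_of_le_commutator_nilpotent Γ U hUΓ
        calc U = ⁅U, P⁆ := hWeq.symm
          _ ≤ ⁅U, Γ⁆ := Subgroup.commutator_mono le_rfl hPΓ
      have hWlt : Nat.card W < n := by
        rw [← hn]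
        have h1 := Subgroup.card_le_of_le hWU
        rcases lt_or_eq_of_le h1 with h | h
        · exact h
        · exact absurd (Subgroup.eq_of_le_of_card_ge hWU h.ge) hWne
      have hPW : P ≤ Subgroup.normalizer (W : Set G) :=
        (le_inf hPU Subgroup.le_normalizer).trans (normalizer_inf_le_normalizer_commutator U P)
      have hQW : Q ≤ Subgroup.normalizer (W : Set G) :=
        (le_inf hQU hQnP).trans (normalizer_inf_le_normalizer_commutator U P)
      have hQcW := ih _ hWlt W rfl (hWU.trans hUΓ) hPW hQW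
        ((inf_le_inf_right _ hWU).trans hC)
      have h1 : ⁅⁅U, P⁆, Q⁆ = ⊥ := by
        rw [Subgroup.commutator_eq_bot_iff_le_centralizer]
        exact Subgroup.le_centralizer_iff.mp hQcW
      have h2 : ⁅⁅P, Q⁆, U⁆ = ⊥ := by
        have : ⁅P, Q⁆ = ⊥ := Subgroup.commutator_eq_bot_iff_le_centralizer.mpr hPQ
        rw [this, Subgroup.commutator_bot_left]
      have h3 : ⁅⁅Q, U⁆, P⁆ = ⊥ := Subgroup.commutator_commutator_eq_bot_of_rotate h1 h2
      rw [Subgroup.commutator_comm Q U, hV, Subgroup.commutator_eq_bot_iff_le_centralizer] at h3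
      have h4 : U ≤ Subgroup.centralizer (Q : Set G) := (le_inf le_rfl h3).trans hC
      exact Subgroup.le_centralizer_iff.mp h4
  · have hVlt : Nat.card (⁅U, Q⁆ : Subgroup G) < n := by
      rw [← hn]
      have h1 := Subgroup.card_le_of_le hVU
      rcases lt_or_eq_of_le h1 with h | h
      · exact h
      · exact absurd (Subgroup.eq_of_le_of_card_ge hVU h.ge) hV
    have hPV : P ≤ Subgroup.normalizer ((⁅U, Q⁆ : Subgroup G) : Set G) :=
      (le_inf hPU hPnQ).trans (normalizer_inf_le_normalizer_commutator U Q)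
    have hQV : Q ≤ Subgroup.normalizer ((⁅U, Q⁆ : Subgroup G) : Set G) :=
      le_normalizer_commutator_right U Q hQU
    have hQcV := ih _ hVlt ⁅U, Q⁆ rfl (hVU.trans hUΓ) hPV hQV ((inf_le_inf_right _ hVU).trans hC)
    have h1 : ⁅⁅U, Q⁆, Q⁆ = ⊥ := by
      rw [Subgroup.commutator_eq_bot_iff_le_centralizer]
      exact Subgroup.le_centralizer_iff.mp hQcV
    rw [coprime_commutator_stable Q U hQU hcop (Or.inr hUsolv)] at h1
    rw [Subgroup.commutator_eq_bot_iff_le_centralizer] at h1
    exact Subgroup.le_centralizer_iff.mp h1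

theorem nilpotent_PQ (Γ P Q : Subgroup G) [hΓ : Group.IsNilpotent Γ] (hPΓ : P ≤ Γ)
    (hQ : (Nat.card Q).Coprime (Nat.card Γ)) (hPQ : P ≤ Subgroup.centralizer (Q : Set G))
    (hQΓ : Q ≤ Subgroup.normalizer (Γ : Set G))
    (hC : Γ ⊓ Subgroup.centralizer (P : Set G) ≤ Subgroup.centralizer (Q : Set G)) :
    Q ≤ Subgroup.centralizer (Γ : Set G) :=
  nilpotent_PQ_aux Γ P Q hPΓ hQ hPQ _ Γ rfl le_rfl (hPΓ.trans Subgroup.le_normalizer) hQΓ hC

end Cfsg.Agent.Lib.Helper3.TD
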