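import Mathlib
import Cfsg.Prelude.Def_Local
import Cfsg.Agent.Lib.Lead.ThompsonPQ
import Cfsg.Agent.Lib.Helper3.Gen3
import Cfsg.Agent.Lib.Helper3.Sig6
import Cfsg.Agent.S1324
import Cfsg.Agent.Lib.Helper3.TD2

set_option autoImplicit false

namespace Cfsg.Agent.Lib.Helper3.TD
open Cfsg.Agent.Lib.Lead Cfsg.Agent.Lib.Helper3.Sig Cfsg.Agent.Lib.Helper3.Gen

variable {G : Type*} [Group G] [Finite G]


/-- an "active" hyperplane: a subgroup `B` of index two in `A` together with an element of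
`C_R(B)` not centralized by `A` -/
theorem exists_active (A R : Subgroup G) (hA : Cfsg.IsElementaryAbelian 2 A) (hA1 : A ≠ ⊥)
    (hodd : Odd (Nat.card R)) (hAR : A ≤ Subgroup.normalizer (R : Set G))
    (hfaith : A ⊓ Subgroup.centralizer (R : Set G) = ⊥) :
    ∃ B : Subgroup G, B ≤ A ∧ B.relIndex A = 2 ∧ ∃ y ∈ R, (∀ b ∈ B, b * y = y * b) ∧
      ∃ a ∈ A, a * y ≠ y * a := by
  have : Fact (Nat.Prime 2) := ⟨Nat.prime_two⟩
  -- not all of `R` is centralized by `A`
  have hnot : ¬ R ≤ Subgroup.centralizer (A : Set G) := by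
    intro h
    apply hA1
    rw [← hfaith]
    exact (le_inf le_rfl (Subgroup.le_centralizer_iff.mp h)).antisymm inf_le_left
  have h2R : ¬ 2 ∣ Nat.card R := by
    intro h
    exact (Nat.not_even_iff_odd.mpr hodd) (even_iff_two_dvd.mpr h)
  by_cases hcard : 2 ^ 2 ≤ Nat.card A
  · have hgen := Cfsg.Agent.S1324.result 2 A R hA hcard h2R hAR
    by_contra hcon
    push Not at hcon
    apply hnot
    rw [hgen]
    apply iSup_le
    rintro ⟨B, hBA, hidx⟩
    intro y hy
    obtain ⟨hyR, hyB⟩ := Subgroup.mem_inf.mp hy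
    rw [Subgroup.mem_centralizer_iff]
    intro a ha
    by_cases hBeq : B = A
    · rw [← hBeq] at ha
      exact Subgroup.mem_centralizer_iff.mp hyB a ha
    · have hidx2 : B.relIndex A = 2 := by
        have h1 : B.relIndex A ≠ 1 := by
          intro h1
          apply hBeq
          exact le_antisymm hBA (Subgroup.relIndex_eq_one.mp h1)
        have h0 : B.relIndex A ≠ 0 := by
          intro h0
          have hd := Subgroup.relIndex_dvd_card B A
          rw [h0, zero_dvd_iff] at hd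
          have := Nat.card_pos (α := A)
          omega
        omega
      have := hcon B hBA hidx2 y hyR (fun b hb => Subgroup.mem_centralizer_iff.mp hyB b hb) a ha
      exact this
  · -- `A` has order two
    push Not at hcard
    refine ⟨⊥, bot_le, ?_, ?_⟩
    · rw [Subgroup.relIndex_bot_left]
      have hA2 : IsPGroup 2 A := ea_isPGroup hA
      obtain ⟨k, hk⟩ := (IsPGroup.iff_card).mp hA2
      have hne1 : Nat.card A ≠ 1 := by
        intro h1
        exact hA1 (Subgroup.card_eq_one.mp h1)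
      rw [hk] at hcard hne1 ⊢
      have hk2 : k < 2 := (Nat.pow_lt_pow_iff_right (by norm_num)).mp hcard
      interval_cases k
      · simp at hne1
      · rfl
    · by_contra hcon
      push Not at hcon
      apply hnot
      intro y hy
      rw [Subgroup.mem_centralizer_iff]
      intro a ha
      have := hcon y hy (fun b hb => by rw [Subgroup.mem_bot.mp hb, one_mul, mul_one]) a ha
      exact this

/-- a "weight vector": a subgroup `B` of index two in `A` and `x ∈ R`, `x ≠ 1`, centralized by `B`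
and inverted by every element of `A` outside `B` -/
theorem exists_weight (A R : Subgroup G) (hA : Cfsg.IsElementaryAbelian 2 A) (hA1 : A ≠ ⊥)
    (hodd : Odd (Nat.card R)) (hAR : A ≤ Subgroup.normalizer (R : Set G))
    (hfaith : A ⊓ Subgroup.centralizer (R : Set G) = ⊥) :
    ∃ B : Subgroup G, B ≤ A ∧ B.relIndex A = 2 ∧ ∃ x ∈ R, x ≠ 1 ∧ (∀ b ∈ B, b * x = x * b) ∧
      ∀ a ∈ A, a ∉ B → a * x * a⁻¹ = x⁻¹ := by
  obtain ⟨B, hBA, hB2, y, hyR, hyB, a, haA, hay⟩ := exists_active A R hA hA1 hodd hAR hfaith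
  have haa : a * a = 1 := by
    have := hA.2 a haA
    rwa [pow_two] at this
  have hcomm : ∀ g ∈ A, ∀ h ∈ A, g * h = h * g := by
    intro g hg h hh
    have := hA.1.is_comm.comm (⟨g, hg⟩ : A) ⟨h, hh⟩
    exact congrArg Subtype.val this
  have haB : a ∉ B := fun h => hay (hyB a h)
  set x := y⁻¹ * (a * y * a⁻¹) with hx
  have hayR : a * y * a⁻¹ ∈ R := ((Subgroup.mem_normalizer_iff.mp (hAR haA)) y).mp hyR
  have hxR : x ∈ R := R.mul_mem (R.inv_mem hyR) hayR
  have hx1 : x ≠ 1 := by
    intro h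
    apply hay
    have h2 : a * y * a⁻¹ = y := by
      have := congrArg (fun z => y * z) h
      simpa [hx, mul_assoc] using this
    calc a * y = a * y * a⁻¹ * a := by group
      _ = y * a := by rw [h2]
  have hxB : ∀ b ∈ B, b * x = x * b := by
    intro b hb
    have h1 : b * y = y * b := hyB b hb
    have h2 : b * a = a * b := hcomm b (hBA hb) a haA
    have h3 : b * y⁻¹ = y⁻¹ * b := by
      have : y⁻¹ * (b * y) * y⁻¹ = y⁻¹ * (y * b) * y⁻¹ := by rw [h1]
      have e1 : y⁻¹ * (b * y) * y⁻¹ = y⁻¹ * b := by group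
      have e2 : y⁻¹ * (y * b) * y⁻¹ = b * y⁻¹ := by group
      rw [e1, e2] at this
      exact this.symm
    have h4 : b * a⁻¹ = a⁻¹ * b := by
      have : a⁻¹ * (b * a) * a⁻¹ = a⁻¹ * (a * b) * a⁻¹ := by rw [h2]
      have e1 : a⁻¹ * (b * a) * a⁻¹ = a⁻¹ * b := by group
      have e2 : a⁻¹ * (a * b) * a⁻¹ = b * a⁻¹ := by group
      rw [e1, e2] at this
      exact this.symm
    calc b * x = (b * y⁻¹) * (a * y * a⁻¹) := by rw [hx]; group
      _ = y⁻¹ * ((b * a) * y * a⁻¹) := by rw [h3]; group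
      _ = y⁻¹ * (a * (b * y) * a⁻¹) := by rw [h2]; group
      _ = y⁻¹ * (a * y * (b * a⁻¹)) := by rw [h1]; group
      _ = x * b := by rw [h4, hx]; group
  refine ⟨B, hBA, hB2, x, hxR, hx1, hxB, ?_⟩
  intro a' ha'A ha'B
  have hb' : a⁻¹ * a' ∈ B := mul_mem_of_relIndex_two hB2 haA ha'A haB ha'B
  have h1 := hxB _ hb'
  have h2 : a * x * a⁻¹ = x⁻¹ := conj_inv_of_mul_self haa y
  calc a' * x * a'⁻¹ = a * ((a⁻¹ * a') * x) * (a⁻¹ * a')⁻¹ * a⁻¹ := by group
    _ = a * (x * (a⁻¹ * a')) * (a⁻¹ * a')⁻¹ * a⁻¹ := by rw [h1]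
    _ = a * x * a⁻¹ := by group
    _ = x⁻¹ := h2

omit [Finite G] in
/-- elements of the four-group generated by two commuting involutions -/
theorem mem_sup_zpowers {a b d : G} (haa : a * a = 1) (hbb : b * b = 1) (hab : b * a = a * b)
    (hd : d ∈ Subgroup.zpowers b ⊔ Subgroup.zpowers a) :
    d = 1 ∨ d = a ∨ d = b ∨ d = b * a := by
  have hle : Subgroup.zpowers b ≤ Subgroup.normalizer ((Subgroup.zpowers a : Subgroup G) : Set G) := by
    refine le_trans ?_ (Subgroup.centralizer_le_normalizer _)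
    rw [Subgroup.zpowers_le]
    exact mem_centralizer_zpowers_iff.mpr hab
  have h1 : d ∈ ((Subgroup.zpowers b ⊔ Subgroup.zpowers a : Subgroup G) : Set G) := hd
  rw [Subgroup.coe_mul_of_left_le_normalizer_right _ _ hle] at h1
  obtain ⟨h, hh, k, hk, rfl⟩ := h1
  rcases mem_zpowers_of_mul_self hbb hh with rfl | rfl <;>
    rcases mem_zpowers_of_mul_self haa hk with rfl | rfl
  · left; simp
  · right; left; simp
  · right; right; left; simp
  · right; right; right; rfl

/-- the choice of `a` outside `B` with `C_R(a)` as large as possible makes `B` faithful on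
`C_R(a)` -/
theorem exists_faithful_centralizer (A B R : Subgroup G) (hA : Cfsg.IsElementaryAbelian 2 A)
    (hBA : B ≤ A) (hB2 : B.relIndex A = 2) (hodd : Odd (Nat.card R))
    (hAR : A ≤ Subgroup.normalizer (R : Set G))
    (hfaith : A ⊓ Subgroup.centralizer (R : Set G) = ⊥) :
    ∃ a ∈ A, a ∉ B ∧
      B ⊓ Subgroup.centralizer ((R ⊓ Subgroup.centralizer {a} : Subgroup G) : Set G) = ⊥ := by
  have : Fact (Nat.Prime 2) := ⟨Nat.prime_two⟩
  have hcomm : ∀ g ∈ A, ∀ h ∈ A, g * h = h * g := by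
    intro g hg h hh
    have := hA.1.is_comm.comm (⟨g, hg⟩ : A) ⟨h, hh⟩
    exact congrArg Subtype.val this
  have hsq : ∀ g ∈ A, g * g = 1 := by
    intro g hg
    have := hA.2 g hg
    rwa [pow_two] at this
  have h2R : ¬ 2 ∣ Nat.card R := by
    intro h
    exact (Nat.not_even_iff_odd.mpr hodd) (even_iff_two_dvd.mpr h)
  set S : Set G := {a | a ∈ A ∧ a ∉ B} with hS
  have hne : S.Nonempty := by
    by_contra hcon
    rw [Set.not_nonempty_iff_eq_empty] at hcon
    have hAB : A ≤ B := by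
      intro g hg
      by_contra hgB
      have : g ∈ S := ⟨hg, hgB⟩
      rw [hcon] at this
      exact this
    have := Subgroup.relIndex_eq_one.mpr hAB
    omega
  obtain ⟨a, ⟨haA, haB⟩, hmax⟩ := Set.exists_max_image S
    (fun a => Nat.card ↥(R ⊓ Subgroup.centralizer {a} : Subgroup G)) (Set.toFinite S) hne
  refine ⟨a, haA, haB, ?_⟩
  rw [Subgroup.eq_bot_iff_forall]
  intro b hb
  by_contra hb1
  obtain ⟨hbB, hbC⟩ := Subgroup.mem_inf.mp hb
  have hbA : b ∈ A := hBA hbB
  have haa := hsq a haA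
  have hbb := hsq b hbA
  have hba : b * a = a * b := hcomm b hbA a haA
  have hbr : ∀ r ∈ R, r * a = a * r → r * b = b * r := by
    intro r hr hra
    exact Subgroup.mem_centralizer_iff.mp hbC r
      (Subgroup.mem_inf.mpr ⟨hr, Subgroup.mem_centralizer_singleton_iff.mpr hra⟩)
  -- the element `b * a`
  have hbaA : b * a ∈ A := A.mul_mem hbA haA
  have hbaB : b * a ∉ B := by
    intro h
    apply haB
    have := B.mul_mem (B.inv_mem hbB) h
    simpa using this
  have hle : (R ⊓ Subgroup.centralizer {a} : Subgroup G) ≤ R ⊓ Subgroup.centralizer {b * a} := by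
    intro r hr
    obtain ⟨hrR, hra⟩ := Subgroup.mem_inf.mp hr
    rw [Subgroup.mem_centralizer_singleton_iff] at hra
    refine Subgroup.mem_inf.mpr ⟨hrR, ?_⟩
    rw [Subgroup.mem_centralizer_singleton_iff]
    have h1 := hbr r hrR hra
    calc r * (b * a) = (r * b) * a := by group
      _ = b * (r * a) := by rw [h1]; group
      _ = b * a * r := by rw [hra]; group
  have heq : (R ⊓ Subgroup.centralizer {a} : Subgroup G) = R ⊓ Subgroup.centralizer {b * a} :=
    Subgroup.eq_of_le_of_card_ge hle (hmax (b * a) ⟨hbaA, hbaB⟩)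
  -- the four-group
  have hbZ : Subgroup.zpowers b ≤ A := Subgroup.zpowers_le.mpr hbA
  have haZ : a ∉ Subgroup.zpowers b := fun h => haB ((Subgroup.zpowers_le.mpr hbB) h)
  obtain ⟨-, hcardE⟩ := sup_zpowers_facts (p := 2) hA.1 hbZ haA (by rw [pow_two]; exact haa) haZ
  have hcardb : Nat.card (Subgroup.zpowers b) = 2 :=
    card_zpowers_of_pow_eq_one (p := 2) (by rw [pow_two]; exact hbb) hb1
  rw [hcardb] at hcardE
  set E := Subgroup.zpowers b ⊔ Subgroup.zpowers a with hE
  have hEA : E ≤ A := sup_le hbZ (Subgroup.zpowers_le.mpr haA)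
  have hEea : Cfsg.IsElementaryAbelian 2 E := ea_of_le hA hEA
  have hgen := le_fixJoin hEea (by rw [hcardE]; norm_num) (Nat.card R) R le_rfl h2R (hEA.trans hAR)
  have hRb : R ≤ Subgroup.centralizer {b} := by
    refine hgen.trans ?_
    apply iSup_le
    rintro ⟨d, hdE, hd1⟩
    intro r hr
    obtain ⟨hrR, hrd⟩ := Subgroup.mem_inf.mp hr
    rw [Subgroup.mem_centralizer_singleton_iff] at hrd ⊢
    rcases mem_sup_zpowers haa hbb hba hdE with rfl | rfl | rfl | rfl
    · exact absurd rfl hd1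
    · exact hbr r hrR hrd
    · exact hrd
    · have : r ∈ (R ⊓ Subgroup.centralizer {a} : Subgroup G) := by
        rw [heq]
        exact Subgroup.mem_inf.mpr ⟨hrR, Subgroup.mem_centralizer_singleton_iff.mpr hrd⟩
      have hra := Subgroup.mem_centralizer_singleton_iff.mp (Subgroup.mem_inf.mp this).2
      exact hbr r hrR hra
  have hbbot : b ∈ A ⊓ Subgroup.centralizer (R : Set G) := by
    refine Subgroup.mem_inf.mpr ⟨hbA, ?_⟩
    rw [Subgroup.mem_centralizer_iff]
    intro r hr
    exact Subgroup.mem_centralizer_singleton_iff.mp (hRb hr)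
  rw [hfaith] at hbbot
  exact hb1 (Subgroup.mem_bot.mp hbbot)

end Cfsg.Agent.Lib.Helper3.TD
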