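import Mathlib
import Cfsg.Prelude.Def_Local
import Cfsg.Agent.Lib.Helper3.TD1
import Cfsg.Agent.Lib.Helper3.TD3

set_option autoImplicit false

namespace Cfsg.Agent.Lib.Helper3.TD

open Cfsg.Agent.Lib.Lead Cfsg.Agent.Lib.Helper3.Sig Cfsg.Agent.Lib.Helper3.Gen

variable {G : Type*} [Group G]

theorem isNilpotent_of_le' {K F : Subgroup G} (hF : Group.IsNilpotent F) (h : K ≤ F) :
    Group.IsNilpotent K := by
  have hinj := Subgroup.inclusion_injective h
  apply Subgroup.isNilpotent_of_ker_le_center (Subgroup.inclusion h)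
  rw [(MonoidHom.ker_eq_bot_iff _).mpr hinj]
  exact bot_le

theorem mem_normalizer_centralizer_of_conj {g x : G}
    (h : g * x * g⁻¹ = x ∨ g * x * g⁻¹ = x⁻¹) :
    g ∈ Subgroup.normalizer ((Subgroup.centralizer {x} : Subgroup G) : Set G) := by
  rw [Subgroup.mem_normalizer_iff]
  intro c
  rw [Subgroup.mem_centralizer_singleton_iff, Subgroup.mem_centralizer_singleton_iff]
  rcases h with h | h
  · have hx : x * g = g * x := by
      calc x * g = (g * x * g⁻¹) * g := by rw [h]
        _ = g * x := by group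
    constructor
    · intro hc
      calc g * c * g⁻¹ * x = g * c * (g⁻¹ * (x * g)) * g⁻¹ := by group
        _ = g * (c * x) * g⁻¹ := by rw [hx]; group
        _ = g * (x * c) * g⁻¹ := by rw [hc]
        _ = (g * x) * c * g⁻¹ := by group
        _ = x * (g * c * g⁻¹) := by rw [← hx]; group
    · intro hc
      calc c * x = g⁻¹ * (g * c * g⁻¹ * (g * x)) := by group
        _ = g⁻¹ * (g * c * g⁻¹ * x) * g := by rw [← hx]; group
        _ = g⁻¹ * (x * (g * c * g⁻¹)) * g := by rw [hc]
        _ = g⁻¹ * (x * g) * c := by group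
        _ = x * c := by rw [hx]; group
  · have hx : x⁻¹ * g = g * x := by
      calc x⁻¹ * g = (g * x * g⁻¹) * g := by rw [h]
        _ = g * x := by group
    have hx' : x * g = g * x⁻¹ := by
      have : x * (x⁻¹ * g) * x⁻¹ = x * (g * x) * x⁻¹ := by rw [hx]
      have e1 : x * (x⁻¹ * g) * x⁻¹ = g * x⁻¹ := by group
      have e2 : x * (g * x) * x⁻¹ = x * g := by group
      rw [e1, e2] at this
      exact this.symm
    have hinv : ∀ c : G, c * x = x * c ↔ c * x⁻¹ = x⁻¹ * c := by
      intro c
      constructor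
      · intro hc
        calc c * x⁻¹ = x⁻¹ * (x * c) * x⁻¹ := by group
          _ = x⁻¹ * (c * x) * x⁻¹ := by rw [hc]
          _ = x⁻¹ * c := by group
      · intro hc
        calc c * x = x * (x⁻¹ * c) * x := by group
          _ = x * (c * x⁻¹) * x := by rw [hc]
          _ = x * c := by group
    constructor
    · intro hc
      have hc' := (hinv c).mp hc
      calc g * c * g⁻¹ * x = g * c * (g⁻¹ * (x * g)) * g⁻¹ := by group
        _ = g * (c * x⁻¹) * g⁻¹ := by rw [hx']; group
        _ = g * (x⁻¹ * c) * g⁻¹ := by rw [hc']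
        _ = (g * x⁻¹) * c * g⁻¹ := by group
        _ = x * (g * c * g⁻¹) := by rw [← hx']; group
    · intro hc
      rw [hinv]
      calc c * x⁻¹ = g⁻¹ * (g * c * g⁻¹ * (g * x⁻¹)) := by group
        _ = g⁻¹ * (g * c * g⁻¹ * x) * g := by rw [← hx']; group
        _ = g⁻¹ * (x * (g * c * g⁻¹)) * g := by rw [hc]
        _ = g⁻¹ * (x * g) * c := by group
        _ = x⁻¹ * c := by rw [hx']; group

variable [Finite G]

/-- faithfulness passes to the centralizer of an element of `R` normalized by `A`
(nilpotent `P × Q` lemma) -/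
theorem faithful_centralizer (A R : Subgroup G) (hA : Cfsg.IsElementaryAbelian 2 A)
    (hnil : Group.IsNilpotent R) (hodd : Odd (Nat.card R))
    (hAR : A ≤ Subgroup.normalizer (R : Set G))
    (hfaith : A ⊓ Subgroup.centralizer (R : Set G) = ⊥) {x : G} (hxR : x ∈ R) :
    A ⊓ Subgroup.centralizer ((R ⊓ Subgroup.centralizer {x} : Subgroup G) : Set G) = ⊥ := by
  rw [Subgroup.eq_bot_iff_forall]
  intro b hb
  obtain ⟨hbA, hbC⟩ := Subgroup.mem_inf.mp hb
  have hbb : b ^ 2 = 1 := hA.2 b hbA
  have hxmem : x ∈ (R ⊓ Subgroup.centralizer {x} : Subgroup G) :=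
    Subgroup.mem_inf.mpr ⟨hxR, Subgroup.mem_centralizer_singleton_iff.mpr rfl⟩
  have hxb : x * b = b * x := Subgroup.mem_centralizer_iff.mp hbC x hxmem
  have hcop : (Nat.card (Subgroup.zpowers b)).Coprime (Nat.card R) := by
    rw [Nat.card_zpowers]
    have h2 : orderOf b ∣ 2 := orderOf_dvd_of_pow_eq_one hbb
    exact Nat.Coprime.coprime_dvd_left h2 (Nat.coprime_two_left.mpr hodd)
  have key := nilpotent_PQ R (Subgroup.zpowers x) (Subgroup.zpowers b)
    (Subgroup.zpowers_le.mpr hxR) hcop
    (Subgroup.zpowers_le.mpr (mem_centralizer_zpowers_iff.mpr hxb))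
    ((Subgroup.zpowers_le.mpr hbA).trans hAR)
    (by
      intro r hr
      obtain ⟨hrR, hrx⟩ := Subgroup.mem_inf.mp hr
      have hrx' : r * x = x * r := mem_centralizer_zpowers_iff.mp hrx
      have hrmem : r ∈ (R ⊓ Subgroup.centralizer {x} : Subgroup G) :=
        Subgroup.mem_inf.mpr ⟨hrR, Subgroup.mem_centralizer_singleton_iff.mpr hrx'⟩
      have hrb : r * b = b * r := Subgroup.mem_centralizer_iff.mp hbC r hrmem
      exact mem_centralizer_zpowers_iff.mpr hrb)
  have hbR : b ∈ Subgroup.centralizer (R : Set G) := key (Subgroup.mem_zpowers b)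
  have : b ∈ A ⊓ Subgroup.centralizer (R : Set G) := Subgroup.mem_inf.mpr ⟨hbA, hbR⟩
  rw [hfaith] at this
  exact Subgroup.mem_bot.mp this

/-- Thompson's dihedral lemma for a nilpotent group `R` of odd order, in element form -/
theorem main_nilpotent : ∀ (d : ℕ) (A R : Subgroup G),
    Cfsg.IsElementaryAbelian 2 A → Nat.card A = 2 ^ d → Group.IsNilpotent R → Odd (Nat.card R) →
    A ≤ Subgroup.normalizer (R : Set G) → A ⊓ Subgroup.centralizer (R : Set G) = ⊥ →
    ∃ (a x : Fin d → G), (∀ i, a i ∈ A ∧ x i ∈ R ∧ x i ≠ 1 ∧ a i * x i * (a i)⁻¹ = (x i)⁻¹) ∧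
      (∀ i j, i ≠ j → a i * x j = x j * a i ∧ x i * x j = x j * x i) ∧
      (⨆ i, Subgroup.zpowers (a i)) = A := by
  intro d
  induction d with
  | zero =>
    intro A R hA hcard _ _ _ _
    refine ⟨Fin.elim0, Fin.elim0, fun i => i.elim0, fun i => i.elim0, ?_⟩
    rw [iSup_of_empty]
    rw [pow_zero] at hcard
    exact (Subgroup.card_eq_one.mp hcard).symm
  | succ d ih =>
    intro A R hA hcard hnil hodd hAR hfaith
    have hcomm : ∀ g ∈ A, ∀ h ∈ A, g * h = h * g := by
      intro g hg h hh
      have := hA.1.is_comm.comm (⟨g, hg⟩ : A) ⟨h, hh⟩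
      exact congrArg Subtype.val this
    have hA1 : A ≠ ⊥ := by
      intro h
      rw [h, Subgroup.card_bot] at hcard
      have : 2 ^ (d + 1) ≥ 2 := by
        calc 2 ^ (d + 1) = 2 ^ d * 2 := pow_succ 2 d
          _ ≥ 1 * 2 := Nat.mul_le_mul_right 2 (Nat.one_le_two_pow)
      omega
    obtain ⟨B, hBA, hB2, x, hxR, hx1, hxB, hxinv⟩ := exists_weight A R hA hA1 hodd hAR hfaith
    have hcardB : Nat.card B = 2 ^ d := by
      have := card_of_relIndex_two hBA hB2
      rw [hcard, pow_succ] at this
      omega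
    -- the centralizer of `x`
    set R₁ : Subgroup G := R ⊓ Subgroup.centralizer {x} with hR₁
    have hnil₁ : Group.IsNilpotent R₁ := isNilpotent_of_le' hnil inf_le_left
    have hodd₁ : Odd (Nat.card R₁) := Odd.of_dvd_nat hodd (Subgroup.card_dvd_of_le inf_le_left)
    have hAx : ∀ g ∈ A, g * x * g⁻¹ = x ∨ g * x * g⁻¹ = x⁻¹ := by
      intro g hg
      by_cases hgB : g ∈ B
      · left
        rw [hxB g hgB]; group
      · right
        exact hxinv g hg hgB
    have hAR₁ : A ≤ Subgroup.normalizer (R₁ : Set G) := by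
      intro g hg
      exact Subgroup.inf_normalizer_le_normalizer_inf
        (Subgroup.mem_inf.mpr ⟨hAR hg, mem_normalizer_centralizer_of_conj (hAx g hg)⟩)
    have hfaith₁ : A ⊓ Subgroup.centralizer (R₁ : Set G) = ⊥ :=
      faithful_centralizer A R hA hnil hodd hAR hfaith hxR
    obtain ⟨a, haA, haB, hBfaith⟩ :=
      exists_faithful_centralizer A B R₁ hA hBA hB2 hodd₁ hAR₁ hfaith₁
    set R₂ : Subgroup G := R₁ ⊓ Subgroup.centralizer {a} with hR₂
    have hnil₂ : Group.IsNilpotent R₂ := isNilpotent_of_le' hnil₁ inf_le_left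
    have hodd₂ : Odd (Nat.card R₂) := Odd.of_dvd_nat hodd₁ (Subgroup.card_dvd_of_le inf_le_left)
    have hBR₂ : B ≤ Subgroup.normalizer (R₂ : Set G) := by
      intro g hg
      refine Subgroup.inf_normalizer_le_normalizer_inf
        (Subgroup.mem_inf.mpr ⟨hAR₁ (hBA hg), mem_normalizer_centralizer_of_conj (Or.inl ?_)⟩)
      rw [hcomm g (hBA hg) a haA]; group
    obtain ⟨as, xs, h1, h2, h3⟩ := ih B R₂ (ea_of_le hA hBA) hcardB hnil₂ hodd₂ hBR₂ hBfaith
    have hxs₁ : ∀ i, xs i * x = x * xs i := by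
      intro i
      have : xs i ∈ R₁ := (inf_le_left : R₂ ≤ R₁) (h1 i).2.1
      exact Subgroup.mem_centralizer_singleton_iff.mp (Subgroup.mem_inf.mp this).2
    have hxs₂ : ∀ i, xs i * a = a * xs i := by
      intro i
      exact Subgroup.mem_centralizer_singleton_iff.mp (Subgroup.mem_inf.mp (h1 i).2.1).2
    refine ⟨Fin.cons a as, Fin.cons x xs, ?_, ?_, ?_⟩
    · refine Fin.cases ?_ ?_
      · simp only [Fin.cons_zero]
        exact ⟨haA, hxR, hx1, hxinv a haA haB⟩
      · intro i
        simp only [Fin.cons_succ]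
        exact ⟨hBA (h1 i).1, (inf_le_left : R₁ ≤ R) ((inf_le_left : R₂ ≤ R₁) (h1 i).2.1),
          (h1 i).2.2.1, (h1 i).2.2.2⟩
    · refine Fin.cases ?_ ?_
      · refine Fin.cases ?_ ?_
        · intro h; exact absurd rfl h
        · intro j _
          simp only [Fin.cons_zero, Fin.cons_succ]
          exact ⟨(hxs₂ j).symm, (hxs₁ j).symm⟩
      · intro i
        refine Fin.cases ?_ ?_
        · intro _
          simp only [Fin.cons_zero, Fin.cons_succ]
          exact ⟨hxB _ (h1 i).1, hxs₁ i⟩
        · intro j hij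
          simp only [Fin.cons_succ]
          exact h2 i j (fun h => hij (by rw [h]))
    · apply le_antisymm
      · apply iSup_le
        refine Fin.cases ?_ ?_
        · simp only [Fin.cons_zero]
          exact Subgroup.zpowers_le.mpr haA
        · intro i
          simp only [Fin.cons_succ]
          exact Subgroup.zpowers_le.mpr (hBA (h1 i).1)
      · have hBle : B ≤ ⨆ i, Subgroup.zpowers ((Fin.cons a as : Fin (d + 1) → G) i) := by
          rw [← h3]
          apply iSup_le
          intro i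
          have := le_iSup (fun i => Subgroup.zpowers ((Fin.cons a as : Fin (d + 1) → G) i)) i.succ
          simpa only [Fin.cons_succ] using this
        have hale : a ∈ ⨆ i, Subgroup.zpowers ((Fin.cons a as : Fin (d + 1) → G) i) := by
          have := le_iSup (fun i => Subgroup.zpowers ((Fin.cons a as : Fin (d + 1) → G) i)) 0
          simp only [Fin.cons_zero] at this
          exact this (Subgroup.mem_zpowers a)
        intro g hg
        by_cases hgB : g ∈ B
        · exact hBle hgB
        · have hb' : a⁻¹ * g ∈ B := mul_mem_of_relIndex_two hB2 haA hg haB hgB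
          have : g = a * (a⁻¹ * g) := by group
          rw [this]
          exact Subgroup.mul_mem _ hale (hBle hb')

end Cfsg.Agent.Lib.Helper3.TD
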