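import Mathlib
import Cfsg.Agent.Lib.Helper3.TD4
import Cfsg.Agent.Lib.Helper3.Components6
import Cfsg.Agent.Lib.Helper1.DihedralIso
import Cfsg.Agent.S0044

set_option autoImplicit false

namespace Cfsg.Agent.Lib.Helper3.TD

open Cfsg.Agent.Lib.Lead Cfsg.Agent.Lib.Helper3.Sig Cfsg.Agent.Lib.Helper3.Gen Cfsg.Agent.Lib.Helper3

variable {G : Type*} [Group G]

/-- an involution inverting an element of odd order generates a dihedral group with it -/
theorem dihedral_of_inverts {a x : G} (ha : orderOf a = 2) (hinv : a * x * a⁻¹ = x⁻¹)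
    (hx : Odd (orderOf x)) :
    Nonempty (↥(Subgroup.zpowers a ⊔ Subgroup.zpowers x) ≃* DihedralGroup (orderOf x)) := by
  have haa : a * a = 1 := by
    have := pow_orderOf_eq_one a
    rwa [ha, pow_two] at this
  have hainv : a⁻¹ = a := inv_eq_of_mul_eq_one_left haa
  have haxax : (a * x) * (a * x) = 1 := by
    calc (a * x) * (a * x) = (a * x * a⁻¹) * x := by rw [hainv]; group
      _ = 1 := by rw [hinv]; group
  have hax1 : a * x ≠ 1 := by
    intro h
    have hxa : x = a := by
      have := eq_inv_of_mul_eq_one_right h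
      rw [this, hainv]
    rw [hxa, ha] at hx
    exact absurd hx (by decide)
  have hax : orderOf (a * x) = 2 :=
    orderOf_eq_prime (by rw [pow_two]; exact haxax) hax1
  have hprod : a * (a * x) = x := by rw [← mul_assoc, haa, one_mul]
  have hn : orderOf (a * (a * x)) ≠ 0 := by
    rw [hprod]
    intro h
    rw [h] at hx
    exact absurd hx (by decide)
  obtain ⟨e⟩ := Cfsg.Agent.Lib.Helper1.DihedralIso.closure_equiv_dihedral a (a * x) ha hax hn
  rw [hprod] at e
  have hcl : Subgroup.closure ({a, a * x} : Set G) = Subgroup.zpowers a ⊔ Subgroup.zpowers x := by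
    apply le_antisymm
    · rw [Subgroup.closure_le]
      intro g hg
      rcases hg with rfl | rfl
      · exact Subgroup.mem_sup_left (Subgroup.mem_zpowers _)
      · exact Subgroup.mul_mem _ (Subgroup.mem_sup_left (Subgroup.mem_zpowers _))
          (Subgroup.mem_sup_right (Subgroup.mem_zpowers _))
    · apply sup_le
      · rw [Subgroup.zpowers_le]
        exact Subgroup.subset_closure (by simp)
      · rw [Subgroup.zpowers_le]
        have h1 : a ∈ Subgroup.closure ({a, a * x} : Set G) := Subgroup.subset_closure (by simp)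
        have h2 : a * x ∈ Subgroup.closure ({a, a * x} : Set G) := Subgroup.subset_closure (by simp)
        have h3 := Subgroup.mul_mem _ (Subgroup.inv_mem _ h1) h2
        rwa [inv_mul_cancel_left] at h3
  exact ⟨(MulEquiv.subgroupCongr hcl.symm).trans e⟩

variable [Finite G]

omit [Finite G] in
/-- the Fitting subgroup of `L`, as a subgroup of `G`, is normalized by `N_G(L)` -/
theorem normalizer_le_normalizer_fitting (L : Subgroup G) :
    Subgroup.normalizer (L : Set G) ≤
      Subgroup.normalizer (((Cfsg.fittingSubgroup ↥L).map L.subtype : Subgroup G) : Set G) := by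
  intro k hkL
  rw [Subgroup.mem_normalizer_iff_map_conj_eq]
  let φ : L ≃* L := Subgroup.normalizerMonoidHom L ⟨k, hkL⟩
  have hφ : (Cfsg.fittingSubgroup L).map φ.toMonoidHom = Cfsg.fittingSubgroup L :=
    fittingSubgroup_map_equiv φ
  conv_rhs => rw [← hφ]
  rw [Subgroup.map_map, Subgroup.map_map]
  congr 1

/-- faithful action on a solvable group of odd order restricts faithfully to the Fitting
subgroup -/
theorem faithful_fitting (L A : Subgroup G) (hLs : Group.IsSolvable ↥L) (hLodd : Odd (Nat.card ↥L))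
    (hA : Cfsg.IsElementaryAbelian 2 A) (hAL : A ≤ Subgroup.normalizer (L : Set G))
    (hfaith : A ⊓ Subgroup.centralizer (L : Set G) = ⊥) :
    A ⊓ Subgroup.centralizer
      (((Cfsg.fittingSubgroup ↥L).map L.subtype : Subgroup G) : Set G) = ⊥ := by
  set F : Subgroup G := (Cfsg.fittingSubgroup ↥L).map L.subtype with hF
  have hFL : F ≤ L := by
    rintro _ ⟨y, _, rfl⟩; exact y.2
  rw [Subgroup.eq_bot_iff_forall]
  intro b hb
  obtain ⟨hbA, hbC⟩ := Subgroup.mem_inf.mp hb
  have hbb : b * b = 1 := by
    have := hA.2 b hbA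
    rwa [pow_two] at this
  have hbf : ∀ f ∈ F, f * b = b * f := fun f hf => Subgroup.mem_centralizer_iff.mp hbC f hf
  have hbL : b ∈ Subgroup.centralizer (L : Set G) := by
    rw [Subgroup.mem_centralizer_iff]
    intro y hy
    set z := y⁻¹ * (b * y * b⁻¹) with hz
    have hbyL : b * y * b⁻¹ ∈ L := ((Subgroup.mem_normalizer_iff.mp (hAL hbA)) y).mp hy
    have hzL : z ∈ L := L.mul_mem (L.inv_mem hy) hbyL
    -- `z` centralizes `F`
    have hzF : ∀ f ∈ F, f * z = z * f := by
      intro f hf
      have hf' : y * f * y⁻¹ ∈ F := by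
        have hyN : y ∈ Subgroup.normalizer (F : Set G) :=
          normalizer_le_normalizer_fitting L (Subgroup.le_normalizer hy)
        exact ((Subgroup.mem_normalizer_iff.mp hyN) f).mp hf
      have h1 := hbf f hf
      have h2 := hbf _ hf'
      have h1' : b⁻¹ * f = f * b⁻¹ := by
        have : b⁻¹ * (f * b) * b⁻¹ = b⁻¹ * (b * f) * b⁻¹ := by rw [h1]
        have e1 : b⁻¹ * (f * b) * b⁻¹ = b⁻¹ * f := by group
        have e2 : b⁻¹ * (b * f) * b⁻¹ = f * b⁻¹ := by group
        rw [e1, e2] at this
        exact this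
      symm
      calc z * f = y⁻¹ * b * y * (b⁻¹ * f) := by rw [hz]; group
        _ = y⁻¹ * (b * (y * f * y⁻¹)) * y * b⁻¹ := by rw [h1']; group
        _ = y⁻¹ * ((y * f * y⁻¹) * b) * y * b⁻¹ := by rw [h2]
        _ = f * z := by rw [hz]; group
    have hzmem : (⟨z, hzL⟩ : L) ∈ Cfsg.fittingSubgroup ↥L := by
      apply Cfsg.Agent.S0044.result (G := ↥L)
      rw [Subgroup.mem_centralizer_iff]
      intro f hf
      apply Subtype.ext
      have : (f : G) ∈ F := ⟨f, hf, rfl⟩
      simpa using hzF f this
    have hzF' : z ∈ F := ⟨⟨z, hzL⟩, hzmem, rfl⟩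
    have hzb : z * b = b * z := hbf z hzF'
    have hzinv : b * z * b⁻¹ = z⁻¹ := conj_inv_of_mul_self hbb y
    have hzz : z = z⁻¹ := by
      rw [← hzinv, ← hzb]; group
    have hz1 : z = 1 := eq_one_of_odd_card hLodd hzL hzz
    have h3 : b * y * b⁻¹ = y := by
      have := congrArg (fun w => y * w) hz1
      simpa [hz, mul_assoc] using this
    calc y * b = (b * y * b⁻¹) * b := by rw [h3]
      _ = b * y := by group
  have : b ∈ A ⊓ Subgroup.centralizer (L : Set G) := Subgroup.mem_inf.mpr ⟨hbA, hbL⟩
  rw [hfaith] at this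
  exact Subgroup.mem_bot.mp this

end Cfsg.Agent.Lib.Helper3.TD
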