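import Mathlib
import Cfsg.Agent.Lib.Helper3.TF2a
set_option autoImplicit false
set_option linter.unusedSectionVars false
set_option linter.style.haveILetI false
open Cfsg Cfsg.Lie

/-!
The twisted group of type `F₄` over the field with two elements: relations between the generators.
-/

namespace Cfsg.Agent.Lib.Helper3.RF4

open Cfsg.Agent.Lib.Helper3.ChevM Cfsg.Agent.Lib.Helper3.ChevSp Cfsg.Agent.Lib.Helper3.ChevAt
open Cfsg.Agent.Lib.Helper3 Cfsg.Agent.Lib.Helper3.SLInv Cfsg.Agent.Lib.Helper3.BitW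

section
variable {K : Type*} [Field K] [CharP K 2]

theorem hasTab_gP : HasTab K cdF4.D ((gP : GL cdF4.D.Idx K) : Matrix cdF4.D.Idx cdF4.D.Idx K)
    (wordTabs [33, 24]) := by
  rw [gP_eq]; exact hasTab_wordG _ (by decide)

theorem hasTab_gC10 : HasTab K cdF4.D ((gC10 : GL cdF4.D.Idx K) : Matrix cdF4.D.Idx cdF4.D.Idx K)
    (wordTabs [27, 25, 28]) := by
  rw [gC10_eq]; exact hasTab_wordG _ (by decide)

theorem hasTab_gC01 : HasTab K cdF4.D ((gC01 : GL cdF4.D.Idx K) : Matrix cdF4.D.Idx cdF4.D.Idx K)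
    (wordTabs [28, 30]) := by
  rw [gC01_eq]; exact hasTab_wordG _ (by decide)

theorem hasTab_gC11 : HasTab K cdF4.D ((gC11 : GL cdF4.D.Idx K) : Matrix cdF4.D.Idx cdF4.D.Idx K)
    (wordTabs [27, 25, 30]) := by
  rw [gC11_eq]; exact hasTab_wordG _ (by decide)

theorem tabN1_cols : ∀ c < 52, tabN1.getD c 0 = applyWs (wordTabs [33, 24, 14, 23, 33, 24]) (1 <<< c) := by
  decide +kernel

theorem tabN2_cols : ∀ c < 52,
    tabN2.getD c 0 = applyWs (wordTabs [28, 30, 19, 17, 28, 30, 19, 17, 28, 30]) (1 <<< c) := by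
  decide +kernel

theorem hasTab_gN1 : HasTab K cdF4.D ((gN1 : GL cdF4.D.Idx K) : Matrix cdF4.D.Idx cdF4.D.Idx K) [tabN1] := by
  rw [gN1_eq]
  apply (hasTab_wordG (K := K) _ (by decide)).compress tabN1 (by decide)
  intro c hc
  rw [← applyWs_eq]
  exact tabN1_cols c hc

theorem hasTab_gN2 : HasTab K cdF4.D ((gN2 : GL cdF4.D.Idx K) : Matrix cdF4.D.Idx cdF4.D.Idx K) [tabN2] := by
  rw [gN2_eq]
  apply (hasTab_wordG (K := K) _ (by decide)).compress tabN2 (by decide)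
  intro c hc
  rw [← applyWs_eq]
  exact tabN2_cols c hc

theorem gN1_sq : (gN1 : GL cdF4.D.Idx K) * gN1 = 1 :=
  eq_of_tabs (hasTab_gN1.mulG hasTab_gN1) hasTab_one_GL (by decide +kernel)

theorem gN2_sq : (gN2 : GL cdF4.D.Idx K) * gN2 = 1 :=
  eq_of_tabs (hasTab_gN2.mulG hasTab_gN2) hasTab_one_GL (by decide +kernel)

theorem gN1_inv : (gN1 : GL cdF4.D.Idx K)⁻¹ = gN1 := inv_eq_of_mul_eq_one_left gN1_sq

theorem gN2_inv : (gN2 : GL cdF4.D.Idx K)⁻¹ = gN2 := inv_eq_of_mul_eq_one_left gN2_sq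

theorem gC10_sq : (gC10 : GL cdF4.D.Idx K) * gC10 = gC01 :=
  eq_of_tabs (hasTab_gC10.mulG hasTab_gC10) hasTab_gC01 (by decide +kernel)

theorem gC10_mul_gC01 : (gC10 : GL cdF4.D.Idx K) * gC01 = gC11 :=
  eq_of_tabs (hasTab_gC10.mulG hasTab_gC01) hasTab_gC11 (by decide +kernel)

/-- the conjugate of `c(1,0)` at the fourth place -/
def gB4 : GL cdF4.D.Idx K := gN1 * gN2 * gN1 * gC10 * gN1 * gN2 * gN1

/-- the conjugate of `c(1,0)` at the second place -/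
def gB2 : GL cdF4.D.Idx K := gN1 * gC10 * gN1

theorem hasTab_gB4 : HasTab K cdF4.D ((gB4 : GL cdF4.D.Idx K) : Matrix cdF4.D.Idx cdF4.D.Idx K)
    ([tabN1] ++ [tabN2] ++ [tabN1] ++ wordTabs [27, 25, 28] ++ [tabN1] ++ [tabN2] ++ [tabN1]) :=
  (((((hasTab_gN1.mulG hasTab_gN2).mulG hasTab_gN1).mulG hasTab_gC10).mulG hasTab_gN1).mulG hasTab_gN2).mulG
    hasTab_gN1

theorem hasTab_gB2 : HasTab K cdF4.D ((gB2 : GL cdF4.D.Idx K) : Matrix cdF4.D.Idx cdF4.D.Idx K)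
    ([tabN1] ++ wordTabs [27, 25, 28] ++ [tabN1]) :=
  (hasTab_gN1.mulG hasTab_gC10).mulG hasTab_gN1

/-- the first relation: the conjugate of `c(0,1)` is a commutator -/
theorem rel_one : (gN1 * gC01 * gN1 : GL cdF4.D.Idx K) * gB4 * gP = gP * gB4 :=
  eq_of_tabs ((((hasTab_gN1.mulG hasTab_gC01).mulG hasTab_gN1).mulG hasTab_gB4).mulG hasTab_gP)
    (hasTab_gP.mulG hasTab_gB4) (by decide +kernel)

/-- the second relation: the conjugate of `p` is a commutator -/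
theorem rel_two : (gN1 * gN2 * gP * gN2 * gN1 : GL cdF4.D.Idx K) * gB4 * gB2 = gB2 * gB4 :=
  eq_of_tabs ((((((hasTab_gN1.mulG hasTab_gN2).mulG hasTab_gP).mulG hasTab_gN2).mulG hasTab_gN1).mulG
    hasTab_gB4).mulG hasTab_gB2) (hasTab_gB2.mulG hasTab_gB4) (by decide +kernel)

end

end Cfsg.Agent.Lib.Helper3.RF4
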