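import Mathlib
import Cfsg.Agent.Lib.Helper3.TF2b
set_option autoImplicit false
set_option linter.unusedSectionVars false
set_option linter.style.haveILetI false
open Cfsg Cfsg.Lie

/-!
The twisted group of type `F₄` over the field with two elements: the elements of `U¹` as nested products,
and their images in the abelianization.
-/

namespace Cfsg.Agent.Lib.Helper3.RF4

open Cfsg.Agent.Lib.Helper3.ChevM Cfsg.Agent.Lib.Helper3.ChevSp Cfsg.Agent.Lib.Helper3.ChevAt
open Cfsg.Agent.Lib.Helper3 Cfsg.Agent.Lib.Helper3.SLInv Cfsg.Agent.Lib.Helper3.BitW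

section
variable {K : Type*} [Field K] [CharP K 2]

/-- the generators as elements of the twisted group -/
def sP : ↥(tF4 K 1) := ⟨gP, pairP_mem_tF4 1 1⟩
def sC10 : ↥(tF4 K 1) := ⟨gC10, clsP_mem_tF4 1 1 0⟩
def sC01 : ↥(tF4 K 1) := ⟨gC01, clsP_mem_tF4 1 0 1⟩
def sC11 : ↥(tF4 K 1) := ⟨gC11, clsP_mem_tF4 1 1 1⟩
def sN1 : ↥(tF4 K 1) := ⟨gN1, nWordU_wJ1_mem 1⟩
def sN2 : ↥(tF4 K 1) := ⟨gN2, nWordU_wJ2_mem 1 one_ne_zero⟩

def bitP (t : Bool) : ↥(tF4 K 1) := if t then sP else 1

def bitC (t u : Bool) : ↥(tF4 K 1) :=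
  match t, u with
  | false, false => 1
  | true, false => sC10
  | false, true => sC01
  | true, true => sC11

/-- the nested products -/
def nestS : Bool → ℕ → List Bool → ↥(tF4 K 1)
  | _, 0, _ => 1
  | true, k + 1, t :: rest => bitP t * (sN1⁻¹ * nestS false k rest * sN1)
  | true, _ + 1, [] => 1
  | false, k + 1, t :: u :: rest => bitC t u * (sN2⁻¹ * nestS true k rest * sN2)
  | false, _ + 1, _ => 1

end

def tabsP (t : Bool) : List (List ℕ) := if t then wordTabs [33, 24] else []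

def tabsC (t u : Bool) : List (List ℕ) :=
  match t, u with
  | false, false => []
  | true, false => wordTabs [27, 25, 28]
  | false, true => wordTabs [28, 30]
  | true, true => wordTabs [27, 25, 30]

/-- the tables of the nested products -/
def nestT : Bool → ℕ → List Bool → List (List ℕ)
  | _, 0, _ => []
  | true, k + 1, t :: rest => tabsP t ++ (([tabN1] ++ nestT false k rest) ++ [tabN1])
  | true, _ + 1, [] => []
  | false, k + 1, t :: u :: rest => tabsC t u ++ (([tabN2] ++ nestT true k rest) ++ [tabN2])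
  | false, _ + 1, _ => []

/-- the number of factors outside the commutator subgroup -/
def chiN : Bool → ℕ → List Bool → ℕ
  | _, 0, _ => 0
  | true, k + 1, _ :: rest => chiN false k rest
  | true, _ + 1, [] => 0
  | false, k + 1, t :: _ :: rest => (if t then 1 else 0) + chiN true k rest
  | false, _ + 1, _ => 0

/-- the number of parameters -/
def lenN : Bool → ℕ → ℕ
  | _, 0 => 0
  | true, k + 1 => 1 + lenN false k
  | false, k + 1 => 2 + lenN true k

/-- all lists of bits of a given length -/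
def allBits : ℕ → List (List Bool)
  | 0 => [[]]
  | n + 1 => (allBits n).flatMap fun l => [false :: l, true :: l]

theorem mem_allBits : ∀ (n : ℕ) (l : List Bool), l.length = n → l ∈ allBits n
  | 0, l, h => by
    rw [List.length_eq_zero_iff] at h
    subst h
    exact List.mem_singleton.mpr rfl
  | n + 1, [], h => by simp at h
  | n + 1, b :: l, h => by
    have hl : l.length = n := by simpa using h
    unfold allBits
    rw [List.mem_flatMap]
    refine ⟨l, mem_allBits n l hl, ?_⟩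
    cases b <;> simp

section
variable {K : Type*} [Field K] [CharP K 2]

theorem hasTab_bitP (t : Bool) :
    HasTab K cdF4.D (((bitP t : ↥(tF4 K 1)) : GL cdF4.D.Idx K) : Matrix cdF4.D.Idx cdF4.D.Idx K) (tabsP t) := by
  cases t
  · exact hasTab_one_GL
  · exact hasTab_gP

theorem hasTab_bitC (t u : Bool) :
    HasTab K cdF4.D (((bitC t u : ↥(tF4 K 1)) : GL cdF4.D.Idx K) : Matrix cdF4.D.Idx cdF4.D.Idx K)
      (tabsC t u) := by
  cases t <;> cases u
  · exact hasTab_one_GL
  · exact hasTab_gC01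
  · exact hasTab_gC10
  · exact hasTab_gC11

theorem coe_sN1_inv : (((sN1 : ↥(tF4 K 1))⁻¹ : ↥(tF4 K 1)) : GL cdF4.D.Idx K) = gN1 := by
  rw [Subgroup.coe_inv]
  exact gN1_inv

theorem coe_sN2_inv : (((sN2 : ↥(tF4 K 1))⁻¹ : ↥(tF4 K 1)) : GL cdF4.D.Idx K) = gN2 := by
  rw [Subgroup.coe_inv]
  exact gN2_inv

theorem hasTab_nestS : ∀ (b : Bool) (k : ℕ) (bits : List Bool),
    HasTab K cdF4.D (((nestS b k bits : ↥(tF4 K 1)) : GL cdF4.D.Idx K) : Matrix cdF4.D.Idx cdF4.D.Idx K)
      (nestT b k bits)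
  | true, 0, _ => hasTab_one_GL
  | false, 0, _ => hasTab_one_GL
  | true, _ + 1, [] => hasTab_one_GL
  | false, _ + 1, [] => hasTab_one_GL
  | false, _ + 1, [_] => hasTab_one_GL
  | true, k + 1, t :: rest => by
    have ih := hasTab_nestS false k rest
    have h1 : HasTab K cdF4.D ((((sN1 : ↥(tF4 K 1))⁻¹ : ↥(tF4 K 1)) : GL cdF4.D.Idx K) :
        Matrix cdF4.D.Idx cdF4.D.Idx K) [tabN1] := by
      rw [coe_sN1_inv]; exact hasTab_gN1
    have h2 : HasTab K cdF4.D (((sN1 : ↥(tF4 K 1)) : GL cdF4.D.Idx K) :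
        Matrix cdF4.D.Idx cdF4.D.Idx K) [tabN1] := hasTab_gN1
    exact (hasTab_bitP t).mulG ((h1.mulG ih).mulG h2)
  | false, k + 1, t :: u :: rest => by
    have ih := hasTab_nestS true k rest
    have h1 : HasTab K cdF4.D ((((sN2 : ↥(tF4 K 1))⁻¹ : ↥(tF4 K 1)) : GL cdF4.D.Idx K) :
        Matrix cdF4.D.Idx cdF4.D.Idx K) [tabN2] := by
      rw [coe_sN2_inv]; exact hasTab_gN2
    have h2 : HasTab K cdF4.D (((sN2 : ↥(tF4 K 1)) : GL cdF4.D.Idx K) :
        Matrix cdF4.D.Idx cdF4.D.Idx K) [tabN2] := hasTab_gN2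
    exact (hasTab_bitC t u).mulG ((h1.mulG ih).mulG h2)

end

end Cfsg.Agent.Lib.Helper3.RF4
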