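import Mathlib
import Cfsg.Agent.Lib.Helper3.TF2c
set_option autoImplicit false
set_option linter.unusedSectionVars false
set_option linter.style.haveILetI false
open Cfsg Cfsg.Lie

/-!
The twisted group of type `F₄` over the field with two elements: the elements of `U¹` with an odd number of
factors outside the commutator subgroup are not involutions.
-/

namespace Cfsg.Agent.Lib.Helper3.RF4

open Cfsg.Agent.Lib.Helper3.ChevM Cfsg.Agent.Lib.Helper3.ChevSp Cfsg.Agent.Lib.Helper3.ChevAt
open Cfsg.Agent.Lib.Helper3 Cfsg.Agent.Lib.Helper3.SLInv Cfsg.Agent.Lib.Helper3.BitW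

/-- the square of the nested product moves the vector of the mask `64`, or the number of odd factors is even -/
def oddCheck (bits : List Bool) : Bool :=
  chiN true 8 bits % 2 == 0 ||
    (applyWs (nestT true 8 bits) (applyWs (nestT true 8 bits) 64) % 2 ^ 52 != 64)

theorem oddCheck_ff : (allBits 10).all (fun l => oddCheck (false :: false :: l)) = true := by decide +kernel

theorem oddCheck_ft : (allBits 10).all (fun l => oddCheck (false :: true :: l)) = true := by decide +kernel

theorem oddCheck_tf : (allBits 10).all (fun l => oddCheck (true :: false :: l)) = true := by decide +kernel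

theorem oddCheck_tt : (allBits 10).all (fun l => oddCheck (true :: true :: l)) = true := by decide +kernel

theorem oddCheck_all (bits : List Bool) (h : bits.length = 12) : oddCheck bits = true := by
  match bits, h with
  | b1 :: b2 :: l, h =>
    have hl : l.length = 10 := by simpa using h
    have hm := mem_allBits 10 l hl
    cases b1 <;> cases b2
    · exact (List.all_eq_true.mp oddCheck_ff) l hm
    · exact (List.all_eq_true.mp oddCheck_ft) l hm
    · exact (List.all_eq_true.mp oddCheck_tf) l hm
    · exact (List.all_eq_true.mp oddCheck_tt) l hm

section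
variable {K : Type*} [Field K] [CharP K 2]

/-- the nested products with an odd number of factors outside the commutator subgroup are not involutions -/
theorem nestS_sq_ne_one (bits : List Bool) (h : bits.length = 12) (hodd : chiN true 8 bits % 2 = 1) :
    (nestS true 8 bits : ↥(tF4 K 1)) * nestS true 8 bits ≠ 1 := by
  intro e
  have hc := oddCheck_all bits h
  unfold oddCheck at hc
  rw [Bool.or_eq_true] at hc
  rcases hc with hc | hc
  · rw [beq_iff_eq] at hc
    omega
  · have hT := hasTab_nestS (K := K) true 8 bits
    have hTT := hT.mulG hT
    have e' : (((nestS true 8 bits : ↥(tF4 K 1)) : GL cdF4.D.Idx K) * (nestS true 8 bits : ↥(tF4 K 1)) :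
        GL cdF4.D.Idx K) = 1 := by
      have := congrArg (fun z : ↥(tF4 K 1) => (z : GL cdF4.D.Idx K)) e
      simpa using this
    have hne := hTT.ne_one_of_mod 64 (by
      rw [applyW_append, ← applyWs_eq, ← applyWs_eq]
      have : cdF4.D.rank + cdF4.D.nroots = 52 := rfl
      rw [this]
      have h64 : 64 % 2 ^ 52 = 64 := by norm_num
      rw [h64]
      simpa using hc)
    apply hne
    rw [e', Units.val_one]

end

end Cfsg.Agent.Lib.Helper3.RF4
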