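import Mathlib
import Cfsg.Agent.Lib.Helper3.TF2d
import Cfsg.Agent.Lib.Helper3.F4Exp
set_option autoImplicit false
set_option linter.unusedSectionVars false
set_option linter.style.haveILetI false
open Cfsg Cfsg.Lie

/-!
The twisted group of type `F₄` over the field with two elements: the involutions lie in the commutator
subgroup.
-/

namespace Cfsg.Agent.Lib.Helper3.RF4

open Cfsg.Agent.Lib.Helper3.ChevM Cfsg.Agent.Lib.Helper3.ChevSp Cfsg.Agent.Lib.Helper3.ChevAt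
open Cfsg.Agent.Lib.Helper3 Cfsg.Agent.Lib.Helper3.SLInv Cfsg.Agent.Lib.Helper3.BitW

section
variable {K : Type*} [Field K] [Fintype K] [CharP K 2]

theorem coe_bitP (t : K) (ht : t = 0 ∨ t = 1) :
    ∃ b : Bool, ((bitP (K := K) b : ↥(tF4 K 1)) : GL cdF4.D.Idx K) = pairP 1 t := by
  rcases ht with rfl | rfl
  · refine ⟨false, ?_⟩
    rw [gP0_eq]
    rfl
  · exact ⟨true, rfl⟩

theorem coe_bitC (t u : K) (ht : t = 0 ∨ t = 1) (hu : u = 0 ∨ u = 1) :
    ∃ b c : Bool, ((bitC (K := K) b c : ↥(tF4 K 1)) : GL cdF4.D.Idx K) = clsP 1 t u := by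
  rcases ht with rfl | rfl <;> rcases hu with rfl | rfl
  · refine ⟨false, false, ?_⟩
    rw [gC00_eq]; rfl
  · exact ⟨false, true, rfl⟩
  · exact ⟨true, false, rfl⟩
  · exact ⟨true, true, rfl⟩

/-- the elements of `U¹` are nested products -/
theorem nest_exists (hK : Fintype.card K = 2 ^ (2 * 0 + 1)) (hK2 : ∀ t : K, t = 0 ∨ t = 1) (k : ℕ)
    (hk : k ≤ 8) :
    (∀ g ∈ (f4Tw (K := K) 0).fixU (altWord k), ∃ bits : List Bool, bits.length = lenN true k ∧
      g = ((nestS true k bits : ↥(tF4 K 1)) : GL cdF4.D.Idx K)) ∧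
    (∀ g ∈ (f4Tw (K := K) 0).fixU (altWord' k), ∃ bits : List Bool, bits.length = lenN false k ∧
      g = ((nestS false k bits : ↥(tF4 K 1)) : GL cdF4.D.Idx K)) := by
  have h1 : ∀ i ∈ wJ1, i < cdF4.D.rank := by decide
  have h2 : ∀ i ∈ wJ2, i < cdF4.D.rank := by decide
  have e20 : (2 : ℕ) ^ 0 = 1 := rfl
  induction k with
  | zero =>
    have e0 : altWord 0 = [] := rfl
    have e0' : altWord' 0 = [] := rfl
    rw [e0, e0', (f4Tw (K := K) 0).fixU_nil atHypF4]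
    refine ⟨?_, ?_⟩
    · intro g hg
      rw [Set.mem_singleton_iff] at hg
      exact ⟨[], rfl, by rw [hg]; rfl⟩
    · intro g hg
      rw [Set.mem_singleton_iff] at hg
      exact ⟨[], rfl, by rw [hg]; rfl⟩
  | succ k ih =>
    have hk8 : k < 8 := by omega
    obtain ⟨m1, m2⟩ := ih (by omega)
    obtain ⟨ew, ew'⟩ := altWord_succ_eq k hk8
    obtain ⟨a1, a2, a3, a4⟩ := alt_addCheck k hk8
    refine ⟨?_, ?_⟩
    · intro g hg
      rw [ew] at hg
      obtain ⟨x, hx, y, hy, rfl⟩ := (f4Tw (K := K) 0).fixU_factor atHypF4 (altWord' k) wJ1 (altWord'_lt k) h1 a1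
        (sg_wJ1 0 hK) (sg_altWord' 0 hK k) g hg
      obtain ⟨t, rfl⟩ := (fixU_wJ1 0 hK x).mp hx
      obtain ⟨rest, hlen, rfl⟩ := m2 y hy
      obtain ⟨b, hb⟩ := coe_bitP t (hK2 t)
      refine ⟨b :: rest, by simp [lenN, hlen]; omega, ?_⟩
      show pairP (2 ^ 0) t * ((relF4.nWordU wJ1)⁻¹ * _ * relF4.nWordU wJ1) = _
      rw [e20, ← hb]
      rfl
    · intro g hg
      rw [ew'] at hg
      obtain ⟨x, hx, y, hy, rfl⟩ := (f4Tw (K := K) 0).fixU_factor atHypF4 (altWord k) wJ2 (altWord_lt k) h2 a3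
        (sg_wJ2 0 hK) (sg_altWord 0 hK k) g hg
      obtain ⟨t, u, rfl⟩ := (fixU_wJ2 0 hK x).mp hx
      obtain ⟨rest, hlen, rfl⟩ := m1 y hy
      obtain ⟨b, c, hb⟩ := coe_bitC t u (hK2 t) (hK2 u)
      refine ⟨b :: c :: rest, by simp [lenN, hlen]; omega, ?_⟩
      show clsP (2 ^ 0) t u * ((relF4.nWordU wJ2)⁻¹ * _ * relF4.nWordU wJ2) = _
      rw [e20, ← hb]
      rfl

end

section
variable {K : Type*} [Field K] [CharP K 2]

/-- the map onto the abelianization -/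
def phiT : ↥(tF4 K 1) →* Abelianization ↥(tF4 K 1) := Abelianization.of

theorem sN1_sq : (sN1 : ↥(tF4 K 1)) * sN1 = 1 := Subtype.ext gN1_sq

theorem sN2_sq : (sN2 : ↥(tF4 K 1)) * sN2 = 1 := Subtype.ext gN2_sq

theorem sC10_sq : (sC10 : ↥(tF4 K 1)) * sC10 = sC01 := Subtype.ext gC10_sq

theorem sC10_mul_sC01 : (sC10 : ↥(tF4 K 1)) * sC01 = sC11 := Subtype.ext gC10_mul_gC01

/-- the conjugate of `c(1,0)` at the fourth place -/
def sB4 : ↥(tF4 K 1) := sN1 * sN2 * sN1 * sC10 * sN1 * sN2 * sN1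

/-- the conjugate of `c(1,0)` at the second place -/
def sB2 : ↥(tF4 K 1) := sN1 * sC10 * sN1

theorem rel_one_s : (sN1 * sC01 * sN1 : ↥(tF4 K 1)) * sB4 * sP = sP * sB4 := Subtype.ext rel_one

theorem rel_two_s : (sN1 * sN2 * sP * sN2 * sN1 : ↥(tF4 K 1)) * sB4 * sB2 = sB2 * sB4 := Subtype.ext rel_two

theorem phiT_N1_sq : phiT (sN1 : ↥(tF4 K 1)) * phiT sN1 = 1 := by
  rw [← map_mul, sN1_sq, map_one]

theorem phiT_N2_sq : phiT (sN2 : ↥(tF4 K 1)) * phiT sN2 = 1 := by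
  rw [← map_mul, sN2_sq, map_one]

theorem phiT_sC01 : phiT (sC01 : ↥(tF4 K 1)) = 1 := by
  have h := congrArg phiT (rel_one_s (K := K))
  simp only [map_mul] at h
  have key : phiT (sN1 : ↥(tF4 K 1)) * phiT sC01 * phiT sN1 * phiT sB4 * phiT sP =
      phiT sC01 * (phiT sN1 * phiT sN1) * (phiT sP * phiT sB4) := by ac_rfl
  rw [key, phiT_N1_sq, mul_one] at h
  exact mul_eq_right.mp h

theorem phiT_sP : phiT (sP : ↥(tF4 K 1)) = 1 := by
  have h := congrArg phiT (rel_two_s (K := K))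
  simp only [map_mul] at h
  have key : phiT (sN1 : ↥(tF4 K 1)) * phiT sN2 * phiT sP * phiT sN2 * phiT sN1 * phiT sB4 * phiT sB2 =
      phiT sP * (phiT sN1 * phiT sN1) * (phiT sN2 * phiT sN2) * (phiT sB2 * phiT sB4) := by ac_rfl
  rw [key, phiT_N1_sq, phiT_N2_sq, mul_one, mul_one] at h
  exact mul_eq_right.mp h

theorem phiT_zeta_sq : phiT (sC10 : ↥(tF4 K 1)) * phiT sC10 = 1 := by
  rw [← map_mul, sC10_sq, phiT_sC01]

theorem phiT_sC11 : phiT (sC11 : ↥(tF4 K 1)) = phiT sC10 := by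
  rw [← sC10_mul_sC01, map_mul, phiT_sC01, mul_one]

theorem phiT_conj (n y : ↥(tF4 K 1)) : phiT (n⁻¹ * y * n) = phiT y := by
  rw [map_mul, map_mul, map_inv, mul_comm, mul_inv_cancel_left]

theorem phiT_bitP (t : Bool) : phiT (bitP t : ↥(tF4 K 1)) = 1 := by
  cases t
  · exact map_one _
  · exact phiT_sP

theorem phiT_bitC (t u : Bool) : phiT (bitC t u : ↥(tF4 K 1)) = phiT sC10 ^ (if t then 1 else 0) := by
  cases t <;> cases u
  · simp [bitC]
  · simpa [bitC] using phiT_sC01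
  · simp [bitC]
  · simpa [bitC] using phiT_sC11

theorem phiT_nestS : ∀ (b : Bool) (k : ℕ) (bits : List Bool),
    phiT (nestS b k bits : ↥(tF4 K 1)) = phiT sC10 ^ chiN b k bits
  | true, 0, _ => by simp [nestS, chiN]
  | false, 0, _ => by simp [nestS, chiN]
  | true, _ + 1, [] => by simp [nestS, chiN]
  | false, _ + 1, [] => by simp [nestS, chiN]
  | false, _ + 1, [_] => by simp [nestS, chiN]
  | true, k + 1, t :: rest => by
    have ih := phiT_nestS false k rest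
    show phiT (bitP t * (sN1⁻¹ * nestS false k rest * sN1)) = phiT sC10 ^ chiN false k rest
    rw [map_mul, phiT_conj, phiT_bitP, one_mul, ih]
  | false, k + 1, t :: u :: rest => by
    have ih := phiT_nestS true k rest
    show phiT (bitC t u * (sN2⁻¹ * nestS true k rest * sN2)) =
      phiT sC10 ^ ((if t then 1 else 0) + chiN true k rest)
    rw [map_mul, phiT_conj, phiT_bitC, ih, pow_add]

end

section
variable {K : Type*} [Field K] [Fintype K] [CharP K 2]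

/-- the involutions of `U¹` lie in the kernel of the map onto the abelianization -/
theorem involution_phiT (hK : Fintype.card K = 2 ^ (2 * 0 + 1)) (hK2 : ∀ t : K, t = 0 ∨ t = 1)
    (u : ↥(tF4 K 1)) (hu : (u : GL cdF4.D.Idx K) ∈ cdF4.D.posUnipotent K) (h2 : u * u = 1) : phiT u = 1 := by
  have hmem : (u : GL cdF4.D.Idx K) ∈ cdF4.D.posUnipotent K ⊓ tF4 K (2 ^ 0) := ⟨hu, u.2⟩
  rw [mem_pos_inf_tF4 0 hK] at hmem
  obtain ⟨bits, hlen, e⟩ := (nest_exists hK hK2 8 le_rfl).1 _ hmem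
  have e' : u = nestS true 8 bits := Subtype.ext e
  have hlen' : bits.length = 12 := hlen
  rcases Nat.mod_two_eq_zero_or_one (chiN true 8 bits) with h0 | h1
  · rw [e', phiT_nestS]
    obtain ⟨j, hj⟩ : ∃ j, chiN true 8 bits = 2 * j := ⟨chiN true 8 bits / 2, by omega⟩
    rw [hj, pow_mul, pow_two, phiT_zeta_sq, one_pow]
  · exfalso
    apply nestS_sq_ne_one (K := K) bits hlen' h1
    rw [← e']
    exact h2

end

/-- the involutions of the twisted group of type `F₄` over the field with two elements lie in the commutator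
subgroup -/
theorem involution_mem_commutator (g : ↥(tF4 (ZMod 2) 1)) (hg : orderOf g = 2) :
    g ∈ commutator ↥(tF4 (ZMod 2) 1) := by
  have hK : Fintype.card (ZMod 2) = 2 ^ (2 * 0 + 1) := by simp
  have hK2 : ∀ t : ZMod 2, t = 0 ∨ t = 1 := by decide
  rw [← Abelianization.ker_of, MonoidHom.mem_ker]
  change phiT g = 1
  obtain ⟨S, hS⟩ := f4_sylow (K := ZMod 2) 0 hK
  have hpg : IsPGroup 2 (Subgroup.zpowers g) := by
    apply IsPGroup.of_card (n := 1)
    rw [Nat.card_zpowers, hg, pow_one]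
  obtain ⟨P, hP⟩ := hpg.exists_le_sylow
  obtain ⟨h, hh⟩ := MulAction.exists_smul_eq ↥(tF4 (ZMod 2) (2 ^ 0)) S P
  have hxP : g ∈ (P : Subgroup ↥(tF4 (ZMod 2) (2 ^ 0))) := hP (Subgroup.mem_zpowers g)
  rw [← hh, Sylow.coe_subgroup_smul, Subgroup.mem_pointwise_smul_iff_inv_smul_mem, hS,
    Subgroup.mem_subgroupOf] at hxP
  have hy : (((MulAut.conj h)⁻¹ g : ↥(tF4 (ZMod 2) (2 ^ 0))) : GL cdF4.D.Idx (ZMod 2)) ∈
      cdF4.D.posUnipotent (ZMod 2) := hxP.1
  have hg2 : g * g = 1 := by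
    have := pow_orderOf_eq_one g
    rw [hg, pow_two] at this
    exact this
  have hu2 : ((MulAut.conj h)⁻¹ g : ↥(tF4 (ZMod 2) (2 ^ 0))) * (MulAut.conj h)⁻¹ g = 1 := by
    rw [← map_mul, hg2, map_one]
  have key := involution_phiT (K := ZMod 2) hK hK2 ((MulAut.conj h)⁻¹ g) hy hu2
  rw [MulAut.conj_inv_apply] at key
  rw [← key]
  exact (phiT_conj h g).symm

end Cfsg.Agent.Lib.Helper3.RF4
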