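import Mathlib
import Cfsg.Agent.Lib.Helper3.TI3f

set_option autoImplicit false

/-! # The special case: the centre is a four-group equal to the commutator subgroup and to the set
of elements of order at most two -/

namespace Cfsg.Agent.Lib.Helper3.ThreeInv

open scoped commutatorElement

variable {H : Type*} [Group H]

/-- the special case -/
structure Beta (H : Type*) [Group H] : Prop extends Cfg H where
  center_sq : ∀ z ∈ Subgroup.center H, z ^ 2 = 1
  card_center : Nat.card (Subgroup.center H) = 4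
  comm_not_le : ∀ u ∈ Subgroup.center H, u ≠ 1 → ¬ commutator H ≤ Subgroup.zpowers u

theorem mem_zpowers_of_sq {u : H} (hu : u ^ 2 = 1) (g : H) :
    g ∈ Subgroup.zpowers u ↔ g = 1 ∨ g = u := by
  constructor
  · rintro ⟨k, rfl⟩
    show u ^ k = 1 ∨ u ^ k = u
    have h2 : (u : H) ^ (2 : ℤ) = 1 := by
      have : (u : H) ^ (2 : ℤ) = u ^ (2 : ℕ) := by norm_cast
      rw [this, hu]
    rcases Int.emod_two_eq_zero_or_one k with h | h
    · left
      have : k = 2 * (k / 2) := by omega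
      rw [this, zpow_mul, h2, one_zpow]
    · right
      have : k = 2 * (k / 2) + 1 := by omega
      rw [this, zpow_add, zpow_mul, h2, one_zpow, one_mul, zpow_one]
  · rintro (rfl | rfl)
    · exact Subgroup.one_mem _
    · exact Subgroup.mem_zpowers _

theorem Beta.sq_ne_one (b : Beta H) {x : H} (hx : x ∉ Subgroup.center H) : x ^ 2 ≠ 1 :=
  fun h => hx (b.inv_mem x h)

/-- a subgroup of order two of the centre has index two in it -/
theorem Beta.two (b : Beta H) {u : H} (hu : u ∈ Subgroup.center H) (hu1 : u ≠ 1) :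
    ∀ a ∈ Subgroup.center H, ∀ b ∈ Subgroup.center H, a ∉ Subgroup.zpowers u →
      b ∉ Subgroup.zpowers u → a * b ∈ Subgroup.zpowers u := by
  have hle : Subgroup.zpowers u ≤ Subgroup.center H := by
    rw [Subgroup.zpowers_le]; exact hu
  have ho : orderOf u = 2 := by
    have : Fact (Nat.Prime 2) := ⟨Nat.prime_two⟩
    exact orderOf_eq_prime (b.center_sq u hu) hu1
  have h1 := card_mul_relIndex (Subgroup.zpowers u) (Subgroup.center H) hle
  rw [Nat.card_zpowers, ho, b.card_center] at h1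
  have h2 : (Subgroup.zpowers u).relIndex (Subgroup.center H) = 2 := by omega
  intro a ha b' hb' haT hbT
  have h3 := Subgroup.mul_mem_iff_of_index_two h2
    (a := (⟨a, ha⟩ : ↥(Subgroup.center H))) (b := ⟨b', hb'⟩)
  rw [Subgroup.mem_subgroupOf, Subgroup.mem_subgroupOf, Subgroup.mem_subgroupOf] at h3
  exact h3.mpr ⟨fun h => absurd h haT, fun h => absurd h hbT⟩

/-- the radical modulo a central subgroup of order two -/
def Beta.Ru (b : Beta H) (u : H) : Subgroup H := b.toCfg.rad (Subgroup.zpowers u) ⊤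

theorem Beta.mem_Ru (b : Beta H) (u g : H) :
    g ∈ b.Ru u ↔ ∀ k, ⁅g, k⁆ ∈ Subgroup.zpowers u := by
  unfold Beta.Ru
  rw [Cfg.mem_rad]
  constructor
  · exact fun h k => h.2 k (Subgroup.mem_top k)
  · exact fun h => ⟨Subgroup.mem_top g, fun k _ => h k⟩

theorem Beta.center_le_Ru (b : Beta H) (u : H) : Subgroup.center H ≤ b.Ru u := by
  intro z hz
  rw [b.mem_Ru]
  intro k
  rw [commElt_of_central_left hz]
  exact Subgroup.one_mem _

theorem Beta.Ru_ne_top (b : Beta H) {u : H} (hu : u ∈ Subgroup.center H) (hu1 : u ≠ 1) :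
    b.Ru u ≠ ⊤ := by
  intro h
  apply b.comm_not_le u hu hu1
  rw [commutator_def, Subgroup.commutator_le]
  intro g _ k _
  have hg : g ∈ b.Ru u := by rw [h]; exact Subgroup.mem_top g
  exact (b.mem_Ru u g).mp hg k

theorem Beta.index_Ru [Finite H] (b : Beta H) {u : H} (hu : u ∈ Subgroup.center H) (hu1 : u ≠ 1) :
    ∃ m : ℕ, (b.Ru u).index = 4 ^ (m + 1) := by
  obtain ⟨m, hm⟩ := b.toCfg.parity (Subgroup.zpowers u) (Subgroup.center H) (b.two hu hu1)
    (fun g h => b.toCfg.comm_mem g h) ⊤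
  rw [Subgroup.relIndex_top_right] at hm
  cases m with
  | zero =>
    exfalso
    rw [pow_zero, Subgroup.index_eq_one] at hm
    exact b.Ru_ne_top hu hu1 hm
  | succ m => exact ⟨m, hm⟩

theorem Beta.map_mem_Ru (b : Beta H) (u : H) (γ : MulAut H) (hγ : γ u = u) (g : H)
    (hg : g ∈ b.Ru u) : γ g ∈ b.Ru u := by
  rw [b.mem_Ru] at hg ⊢
  intro k
  have h1 := hg (γ.symm k)
  have h2 : γ ⁅g, γ.symm k⁆ = ⁅γ g, k⁆ := by
    rw [map_commElt, MulEquiv.apply_symm_apply]
  rw [← h2]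
  obtain ⟨n, hn⟩ := h1
  rw [← hn, map_zpow, hγ]
  exact Subgroup.zpow_mem_zpowers u n

theorem Beta.conj_mem_Ru (b : Beta H) (u x g : H) (hg : g ∈ b.Ru u) : x * g * x⁻¹ ∈ b.Ru u := by
  rw [b.mem_Ru] at hg ⊢
  intro k
  rw [b.toCfg.comm_mul_left, b.toCfg.comm_mul_left, b.toCfg.comm_inv_left]
  have h1 := b.toCfg.comm_sq x k
  have e : ⁅x, k⁆ * ⁅g, k⁆ * ⁅x, k⁆ = ⁅g, k⁆ := by
    rw [b.toCfg.comm_comm g k ⁅x, k⁆, mul_assoc, ← pow_two, h1, mul_one]
  rw [e]
  exact hg k

/-- the centralizer of an element -/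
def Beta.Cen (b : Beta H) (x : H) : Subgroup H where
  carrier := {g | ⁅x, g⁆ = 1}
  one_mem' := commElt_one_right x
  mul_mem' := by
    intro a a' ha ha'
    have h1 : ⁅x, a⁆ = 1 := ha
    have h2 : ⁅x, a'⁆ = 1 := ha'
    show ⁅x, a * a'⁆ = 1
    rw [b.toCfg.comm_mul_right, h1, h2, one_mul]
  inv_mem' := by
    intro a ha
    have h1 : ⁅x, a⁆ = 1 := ha
    show ⁅x, a⁻¹⁆ = 1
    rw [b.toCfg.comm_inv_right, h1]

theorem Beta.mem_Cen (b : Beta H) (x g : H) : g ∈ b.Cen x ↔ ⁅x, g⁆ = 1 := Iff.rfl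

theorem Beta.center_le_Cen (b : Beta H) (x : H) : Subgroup.center H ≤ b.Cen x :=
  fun _ hz => commElt_of_central_right hz x

theorem Beta.self_mem_Cen (b : Beta H) (x : H) : x ∈ b.Cen x := commElt_self x

/-- the subgroup generated by the centre and an element -/
def Beta.Ex (b : Beta H) (x : H) : Subgroup H where
  carrier := {g | g ∈ Subgroup.center H ∨ x⁻¹ * g ∈ Subgroup.center H}
  one_mem' := Or.inl (Subgroup.one_mem _)
  mul_mem' := by
    rintro g g' (hg | hg) (hg' | hg')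
    · exact Or.inl (Subgroup.mul_mem _ hg hg')
    · right
      have e : x⁻¹ * (g * g') = g * (x⁻¹ * g') := by
        rw [← mul_assoc, Subgroup.mem_center_iff.mp hg x⁻¹, mul_assoc]
      rw [e]
      exact Subgroup.mul_mem _ hg hg'
    · right
      rw [← mul_assoc]
      exact Subgroup.mul_mem _ hg hg'
    · left
      have e : g * g' = x ^ 2 * ((x⁻¹ * g) * (x⁻¹ * g')) := by
        have h1 := Subgroup.mem_center_iff.mp hg x
        calc g * g' = x * ((x⁻¹ * g) * x) * (x⁻¹ * g') := by group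
          _ = x * (x * (x⁻¹ * g)) * (x⁻¹ * g') := by rw [← h1]
          _ = x ^ 2 * ((x⁻¹ * g) * (x⁻¹ * g')) := by rw [pow_two]; group
      rw [e]
      exact Subgroup.mul_mem _ (b.sq_mem x) (Subgroup.mul_mem _ hg hg')
  inv_mem' := by
    rintro g (hg | hg)
    · exact Or.inl (Subgroup.inv_mem _ hg)
    · right
      have e : x⁻¹ * g⁻¹ = (x⁻¹ * g)⁻¹ * (x ^ 2)⁻¹ := by
        have h1 := Subgroup.mem_center_iff.mp (Subgroup.inv_mem _ hg) x⁻¹
        calc x⁻¹ * g⁻¹ = x⁻¹ * (x⁻¹ * g)⁻¹ * x⁻¹ := by group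
          _ = (x⁻¹ * g)⁻¹ * x⁻¹ * x⁻¹ := by rw [h1]
          _ = (x⁻¹ * g)⁻¹ * (x ^ 2)⁻¹ := by rw [pow_two]; group
      rw [e]
      exact Subgroup.mul_mem _ (Subgroup.inv_mem _ hg) (Subgroup.inv_mem _ (b.sq_mem x))

theorem Beta.mem_Ex (b : Beta H) (x g : H) :
    g ∈ b.Ex x ↔ g ∈ Subgroup.center H ∨ x⁻¹ * g ∈ Subgroup.center H := Iff.rfl

theorem Beta.center_le_Ex (b : Beta H) (x : H) : Subgroup.center H ≤ b.Ex x :=
  fun _ hz => Or.inl hz

theorem Beta.self_mem_Ex (b : Beta H) (x : H) : x ∈ b.Ex x :=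
  Or.inr (by rw [inv_mul_cancel]; exact Subgroup.one_mem _)

theorem Beta.Ex_le_Cen (b : Beta H) (x : H) : b.Ex x ≤ b.Cen x := by
  rintro g (hg | hg)
  · exact b.center_le_Cen x hg
  · rw [b.mem_Cen]
    have e : g = x * (x⁻¹ * g) := by group
    rw [e, b.toCfg.comm_mul_right, commElt_self, commElt_of_central_right hg, one_mul]

theorem Beta.relIndex_center_Ex (b : Beta H) (x : H) :
    (Subgroup.center H).relIndex (b.Ex x) ≤ 2 := by
  apply relIndex_le_two
  intro a ha a' ha' haZ ha'Z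
  rcases ha with ha | ha
  · exact absurd ha haZ
  rcases ha' with ha' | ha'
  · exact absurd ha' ha'Z
  have e : a⁻¹ * a' = (x⁻¹ * a)⁻¹ * (x⁻¹ * a') := by group
  rw [e]
  exact Subgroup.mul_mem _ (Subgroup.inv_mem _ ha) ha'

/-- an element of the centralizer commutes with the subgroup generated by the centre and `x` -/
theorem Beta.comm_Ex (b : Beta H) (x : H) {e g : H} (he : e ∈ b.Ex x) (hg : g ∈ b.Cen x) :
    ⁅g, e⁆ = 1 := by
  rcases he with he | he
  · exact commElt_of_central_right he g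
  · have e' : e = x * (x⁻¹ * e) := by group
    rw [e', b.toCfg.comm_mul_right, commElt_of_central_right he, mul_one, b.toCfg.comm_symm x g]
    exact hg

theorem Beta.relIndex_Ex_Cen (b : Beta H) {x : H} (hx : x ∉ Subgroup.center H) :
    (b.Ex x).relIndex (b.Cen x) ≤ 4 := by
  have hx2 : x ^ 2 ∈ Subgroup.center H := b.sq_mem x
  have hx21 : x ^ 2 ≠ 1 := b.sq_ne_one hx
  have hsq2 : (x ^ 2) ^ 2 = 1 := b.center_sq _ hx2
  apply b.toCfg.aniso (b.Cen x) (b.Ex x) (Subgroup.center H) (Subgroup.zpowers (x ^ 2))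
    (b.Ex_le_Cen x) (b.two hx2 hx21)
  · intro g _
    exact b.sq_mem g
  · intro g hg hg2
    rw [mem_zpowers_of_sq hsq2] at hg2
    rcases hg2 with h | h
    · exact Or.inl (b.inv_mem g h)
    · right
      apply b.inv_mem
      rw [b.toCfg.mul_sq, inv_sq', h, inv_mul_cancel, one_mul, b.toCfg.comm_inv_left]
      exact hg
  · intro g _ h _
    exact b.toCfg.comm_mem g h
  · intro e he g hg
    rw [b.comm_Ex x he hg]
    exact Subgroup.one_mem _

theorem Beta.relIndex_center_Cen (b : Beta H) {x : H} (hx : x ∉ Subgroup.center H) :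
    (Subgroup.center H).relIndex (b.Cen x) ≤ 8 :=
  relIndex_le_of_steps _ _ _ (b.center_le_Ex x) (b.Ex_le_Cen x) (b.relIndex_center_Ex x)
    (b.relIndex_Ex_Cen hx)

/-- the elements whose commutator with `x` lies in a subgroup -/
def Beta.CenT (b : Beta H) (x : H) (T : Subgroup H) : Subgroup H where
  carrier := {g | ⁅x, g⁆ ∈ T}
  one_mem' := by
    show ⁅x, (1 : H)⁆ ∈ T
    rw [commElt_one_right]; exact T.one_mem
  mul_mem' := by
    intro a a' ha ha'
    show ⁅x, a * a'⁆ ∈ T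
    rw [b.toCfg.comm_mul_right]
    exact T.mul_mem ha ha'
  inv_mem' := by
    intro a ha
    show ⁅x, a⁻¹⁆ ∈ T
    rw [b.toCfg.comm_inv_right]
    exact ha

theorem Beta.mem_CenT (b : Beta H) (x : H) (T : Subgroup H) (g : H) :
    g ∈ b.CenT x T ↔ ⁅x, g⁆ ∈ T := Iff.rfl

theorem Beta.index_CenT (b : Beta H) (x : H) {u : H} (hu : u ∈ Subgroup.center H) (hu1 : u ≠ 1) :
    (b.CenT x (Subgroup.zpowers u)).index ≤ 2 := by
  rw [← Subgroup.relIndex_top_right]
  apply relIndex_le_two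
  intro a _ a' _ ha ha'
  rw [b.mem_CenT] at ha ha' ⊢
  rw [b.toCfg.comm_mul_right, b.toCfg.comm_inv_right]
  exact b.two hu hu1 _ (b.toCfg.comm_mem x a) _ (b.toCfg.comm_mem x a') ha ha'

theorem Beta.relIndex_Cen_CenT (b : Beta H) (x : H) {u : H} (hu2 : u ^ 2 = 1) :
    (b.Cen x).relIndex (b.CenT x (Subgroup.zpowers u)) ≤ 2 := by
  apply relIndex_le_two
  intro a ha a' ha' haC ha'C
  rw [b.mem_CenT, mem_zpowers_of_sq hu2] at ha ha'
  rw [b.mem_Cen] at haC ha'C ⊢
  have h1 : ⁅x, a⁆ = u := ha.resolve_left haC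
  have h2 : ⁅x, a'⁆ = u := ha'.resolve_left ha'C
  rw [b.toCfg.comm_mul_right, b.toCfg.comm_inv_right, h1, h2, ← pow_two, hu2]

theorem Beta.Cen_le_CenT (b : Beta H) (x : H) (T : Subgroup H) : b.Cen x ≤ b.CenT x T := by
  intro g hg
  rw [b.mem_Cen] at hg
  rw [b.mem_CenT, hg]
  exact T.one_mem

/-- the centralizer of a non-central element has index at most four -/
theorem Beta.index_Cen (b : Beta H) {x : H} (hx : x ∉ Subgroup.center H) :
    (b.Cen x).index ≤ 4 := by
  have hx2 : x ^ 2 ∈ Subgroup.center H := b.sq_mem x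
  have hx21 : x ^ 2 ≠ 1 := b.sq_ne_one hx
  have hsq2 : (x ^ 2) ^ 2 = 1 := b.center_sq _ hx2
  have h1 := b.index_CenT x hx2 hx21
  have h2 := b.relIndex_Cen_CenT x hsq2
  rw [← Subgroup.relIndex_top_right] at h1 ⊢
  exact relIndex_le_of_steps _ _ _ (b.Cen_le_CenT x _) le_top h2 h1

/-- the centre has index at most thirty-two -/
theorem Beta.index_center_le (b : Beta H) {x : H} (hx : x ∉ Subgroup.center H) :
    (Subgroup.center H).index ≤ 32 := by
  have h1 := b.index_Cen hx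
  have h2 := b.relIndex_center_Cen hx
  rw [← Subgroup.relIndex_top_right] at h1 ⊢
  exact relIndex_le_of_steps _ _ _ (b.center_le_Cen x) le_top h2 h1

/-- if some radical is larger than the centre, the centre has index at most sixteen -/
theorem Beta.index_center_le_of_mem_Ru (b : Beta H) {u x : H} (hu : u ^ 2 = 1)
    (hxR : x ∈ b.Ru u) (hx : x ∉ Subgroup.center H) : (Subgroup.center H).index ≤ 16 := by
  have h1 : (b.Cen x).index ≤ 2 := by
    have h3 := b.relIndex_Cen_CenT x hu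
    have h4 : b.CenT x (Subgroup.zpowers u) = ⊤ := by
      rw [eq_top_iff]
      intro g _
      exact (b.mem_Ru u x).mp hxR g
    rw [h4, Subgroup.relIndex_top_right] at h3
    exact h3
  have h2 := b.relIndex_center_Cen hx
  rw [← Subgroup.relIndex_top_right] at h1 ⊢
  exact relIndex_le_of_steps _ _ _ (b.center_le_Cen x) le_top h2 h1

end Cfsg.Agent.Lib.Helper3.ThreeInv
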