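import Mathlib
import Cfsg.Agent.Lib.Helper3.TI3g

set_option autoImplicit false

/-! # The special case with trivial radicals: centralizers -/

namespace Cfsg.Agent.Lib.Helper3.ThreeInv

open scoped commutatorElement

variable {H : Type*} [Group H] [Finite H]

/-- the hypotheses of the case with trivial radicals -/
structure Beta2 (H : Type*) [Group H] : Prop extends Beta H where
  rad_le : ∀ u ∈ Subgroup.center H, u ≠ 1 → toBeta.Ru u ≤ Subgroup.center H
  index_center : (Subgroup.center H).index = 16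

omit [Finite H] in
theorem Beta2.exists_not_mem (d : Beta2 H) {x u : H} (hx : x ∉ Subgroup.center H)
    (hu : u ∈ Subgroup.center H) (hu1 : u ≠ 1) : ∃ y, ⁅x, y⁆ ∉ Subgroup.zpowers u := by
  by_contra hcon
  push Not at hcon
  exact hx (d.rad_le u hu hu1 ((d.toBeta.mem_Ru u x).mpr hcon))

omit [Finite H] in
/-- every value of the centre is a commutator with a given non-central element -/
theorem Beta2.exists_comm_eq (d : Beta2 H) {x u : H} (hx : x ∉ Subgroup.center H)
    (hu : u ∈ Subgroup.center H) (hu1 : u ≠ 1) : ∃ g, ⁅x, g⁆ = u := by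
  have hu2 : u ^ 2 = 1 := d.center_sq u hu
  obtain ⟨y, hy⟩ := d.exists_not_mem hx hu hu1
  set w := ⁅x, y⁆ with hw
  have hwZ : w ∈ Subgroup.center H := d.toCfg.comm_mem x y
  have hw1 : w ≠ 1 := fun h => hy (by rw [h]; exact Subgroup.one_mem _)
  have hw2 : w ^ 2 = 1 := d.center_sq w hwZ
  obtain ⟨y', hy'⟩ := d.exists_not_mem hx hwZ hw1
  rw [mem_zpowers_of_sq hw2] at hy'
  push Not at hy'
  by_cases hc : ⁅x, y'⁆ ∈ Subgroup.zpowers u
  · rw [mem_zpowers_of_sq hu2] at hc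
    exact ⟨y', hc.resolve_left hy'.1⟩
  · have h1 := d.toBeta.two hu hu1 w hwZ _ (d.toCfg.comm_mem x y') hy hc
    rw [mem_zpowers_of_sq hu2] at h1
    rcases h1 with h1 | h1
    · exfalso
      apply hy'.2
      have : ⁅x, y'⁆ = w⁻¹ := eq_inv_of_mul_eq_one_right h1
      rw [this]
      rw [pow_two] at hw2
      exact inv_eq_of_mul_eq_one_right hw2
    · exact ⟨y * y', by rw [d.toCfg.comm_mul_right]; exact h1⟩

/-- the centralizer of a non-central element has index four -/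
theorem Beta2.index_Cen (d : Beta2 H) {x : H} (hx : x ∉ Subgroup.center H) :
    (d.toBeta.Cen x).index = 4 := by
  have hx2 : x ^ 2 ∈ Subgroup.center H := d.sq_mem x
  have hx21 : x ^ 2 ≠ 1 := d.toBeta.sq_ne_one hx
  have hsq2 : (x ^ 2) ^ 2 = 1 := d.center_sq _ hx2
  have h1 : (d.toBeta.CenT x (Subgroup.zpowers (x ^ 2))).index = 2 := by
    have hle := d.toBeta.index_CenT x hx2 hx21
    have hne0 : (d.toBeta.CenT x (Subgroup.zpowers (x ^ 2))).index ≠ 0 := Subgroup.index_ne_zero_of_finite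
    have hne1 : (d.toBeta.CenT x (Subgroup.zpowers (x ^ 2))).index ≠ 1 := by
      rw [Ne, Subgroup.index_eq_one]
      intro htop
      obtain ⟨y, hy⟩ := d.exists_not_mem hx hx2 hx21
      apply hy
      have : y ∈ d.toBeta.CenT x (Subgroup.zpowers (x ^ 2)) := by rw [htop]; exact Subgroup.mem_top y
      exact this
    omega
  have h2 : (d.toBeta.Cen x).relIndex (d.toBeta.CenT x (Subgroup.zpowers (x ^ 2))) = 2 := by
    have hle := d.toBeta.relIndex_Cen_CenT x hsq2
    have hne0 : (d.toBeta.Cen x).relIndex (d.toBeta.CenT x (Subgroup.zpowers (x ^ 2))) ≠ 0 := by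
      have : ((d.toBeta.Cen x).subgroupOf (d.toBeta.CenT x (Subgroup.zpowers (x ^ 2)))).FiniteIndex := inferInstance
      exact this.index_ne_zero
    have hne1 : (d.toBeta.Cen x).relIndex (d.toBeta.CenT x (Subgroup.zpowers (x ^ 2))) ≠ 1 := by
      rw [Ne, Subgroup.relIndex_eq_one]
      intro hle'
      obtain ⟨g, hg⟩ := d.exists_comm_eq hx hx2 hx21
      have h3 : g ∈ d.toBeta.CenT x (Subgroup.zpowers (x ^ 2)) := by
        rw [d.toBeta.mem_CenT, hg]
        exact Subgroup.mem_zpowers _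
      have h4 := hle' h3
      rw [d.toBeta.mem_Cen, hg] at h4
      exact hx21 h4
    omega
  have h3 := Subgroup.relIndex_mul_index (d.toBeta.Cen_le_CenT x (Subgroup.zpowers (x ^ 2)))
  rw [h1, h2] at h3
  omega

theorem Beta2.relIndex_center_Cen (d : Beta2 H) {x : H} (hx : x ∉ Subgroup.center H) :
    (Subgroup.center H).relIndex (d.toBeta.Cen x) = 4 := by
  have h := Subgroup.relIndex_mul_index (d.toBeta.center_le_Cen x)
  rw [d.index_Cen hx, d.index_center] at h
  omega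

theorem Beta2.relIndex_Ex_Cen (d : Beta2 H) {x : H} (hx : x ∉ Subgroup.center H) :
    (d.toBeta.Ex x).relIndex (d.toBeta.Cen x) = 2 := by
  have h1 : (Subgroup.center H).relIndex (d.toBeta.Ex x) = 2 := by
    have hle := d.toBeta.relIndex_center_Ex x
    have hne0 : (Subgroup.center H).relIndex (d.toBeta.Ex x) ≠ 0 := by
      have : ((Subgroup.center H).subgroupOf (d.toBeta.Ex x)).FiniteIndex := inferInstance
      exact this.index_ne_zero
    have hne1 : (Subgroup.center H).relIndex (d.toBeta.Ex x) ≠ 1 := by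
      rw [Ne, Subgroup.relIndex_eq_one]
      intro hle'
      exact hx (hle' (d.toBeta.self_mem_Ex x))
    omega
  have h2 := Subgroup.relIndex_mul_relIndex _ _ _ (d.toBeta.center_le_Ex x) (d.toBeta.Ex_le_Cen x)
  rw [h1, d.relIndex_center_Cen hx] at h2
  omega

/-- the centralizer of a non-central element is commutative -/
theorem Beta2.Cen_comm (d : Beta2 H) {x : H} (hx : x ∉ Subgroup.center H) {g g' : H}
    (hg : g ∈ d.toBeta.Cen x) (hg' : g' ∈ d.toBeta.Cen x) : ⁅g, g'⁆ = 1 := by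
  obtain ⟨a, haC, haE, ha⟩ :=
    (Subgroup.relIndex_eq_two_iff_exists_notMem_and).mp (d.relIndex_Ex_Cen hx)
  by_cases h1 : g' ∈ d.toBeta.Ex x
  · exact d.toBeta.comm_Ex x h1 hg
  by_cases h2 : g ∈ d.toBeta.Ex x
  · rw [d.toCfg.comm_symm g' g]
    exact d.toBeta.comm_Ex x h2 hg'
  have h3 : g * a ∈ d.toBeta.Ex x := (ha g hg).resolve_right h2
  have h4 : g' * a ∈ d.toBeta.Ex x := (ha g' hg').resolve_right h1
  have hai : a⁻¹ ∈ d.toBeta.Cen x := Subgroup.inv_mem _ haC
  have h5 : ⁅g * a, g' * a⁆ = 1 :=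
    d.toBeta.comm_Ex x h4 (d.toBeta.Ex_le_Cen x h3)
  have h6 : ⁅g * a, a⁻¹⁆ = 1 := by
    rw [d.toCfg.comm_symm a⁻¹ (g * a)]
    exact d.toBeta.comm_Ex x h3 hai
  have h7 : ⁅a⁻¹, g' * a⁆ = 1 := d.toBeta.comm_Ex x h4 hai
  have key : ⁅g * a * a⁻¹, g' * a * a⁻¹⁆ = 1 := by
    rw [d.toCfg.comm_mul_left (g * a) a⁻¹, d.toCfg.comm_mul_right (g * a) (g' * a) a⁻¹,
      d.toCfg.comm_mul_right a⁻¹ (g' * a) a⁻¹, commElt_self, mul_one, h5, h6, h7, one_mul,
      one_mul]
  have e1 : g * a * a⁻¹ = g := by group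
  have e2 : g' * a * a⁻¹ = g' := by group
  rw [e1, e2] at key
  exact key

/-- the centralizers of the non-central elements of a centralizer coincide with it -/
theorem Beta2.Cen_eq (d : Beta2 H) {x g : H} (hx : x ∉ Subgroup.center H)
    (hg : g ∈ d.toBeta.Cen x) (hgZ : g ∉ Subgroup.center H) :
    d.toBeta.Cen g = d.toBeta.Cen x := by
  have hle : d.toBeta.Cen x ≤ d.toBeta.Cen g := by
    intro k hk
    rw [d.toBeta.mem_Cen]
    exact d.Cen_comm hx hg hk
  have h := Subgroup.relIndex_mul_index hle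
  rw [d.index_Cen hx, d.index_Cen hgZ] at h
  have h1 : (d.toBeta.Cen x).relIndex (d.toBeta.Cen g) = 1 := by omega
  exact le_antisymm (Subgroup.relIndex_eq_one.mp h1) hle

theorem Beta2.Cen_inf_le (d : Beta2 H) {x₁ x₂ : H} (hx₁ : x₁ ∉ Subgroup.center H)
    (hx₂ : x₂ ∉ Subgroup.center H) (h : x₂ ∉ d.toBeta.Cen x₁) :
    d.toBeta.Cen x₁ ⊓ d.toBeta.Cen x₂ ≤ Subgroup.center H := by
  rintro g ⟨hg1, hg2⟩
  by_contra hgZ
  have e1 := d.Cen_eq hx₁ hg1 hgZ
  have e2 := d.Cen_eq hx₂ hg2 hgZ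
  apply h
  rw [← e1, e2]
  exact d.toBeta.self_mem_Cen x₂

/-- squaring separates the cosets of the centre in a centralizer -/
theorem Beta2.sq_inj (d : Beta2 H) {x a a' : H} (hx : x ∉ Subgroup.center H)
    (ha : a ∈ d.toBeta.Cen x) (ha' : a' ∈ d.toBeta.Cen x) (h : a ^ 2 = a' ^ 2) :
    a⁻¹ * a' ∈ Subgroup.center H := by
  apply d.inv_mem
  rw [d.toCfg.mul_sq, inv_sq', h, inv_mul_cancel, one_mul, d.toCfg.comm_inv_left]
  exact d.Cen_comm hx ha ha'

/-- a pair of non-central elements with different squares whose centralizers meet in the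
centre -/
theorem Beta2.exists_pair (d : Beta2 H) : ∃ x₁ x₂ : H, x₁ ∉ Subgroup.center H ∧
    x₂ ∉ Subgroup.center H ∧ x₁ ^ 2 ≠ x₂ ^ 2 ∧
    d.toBeta.Cen x₁ ⊓ d.toBeta.Cen x₂ ≤ Subgroup.center H := by
  have hex : ∃ x : H, x ∉ Subgroup.center H := by
    by_contra hcon
    push Not at hcon
    have : Subgroup.center H = ⊤ := by
      rw [eq_top_iff]; exact fun x _ => hcon x
    have h := d.index_center
    rw [this, Subgroup.index_top] at h
    omega
  obtain ⟨x, hx⟩ := hex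
  have hex2 : ∃ x₂ : H, x₂ ∉ d.toBeta.Cen x := by
    by_contra hcon
    push Not at hcon
    have : d.toBeta.Cen x = ⊤ := by
      rw [eq_top_iff]; exact fun y _ => hcon y
    have h := d.index_Cen hx
    rw [this, Subgroup.index_top] at h
    omega
  obtain ⟨x₂, hx₂⟩ := hex2
  have hx₂Z : x₂ ∉ Subgroup.center H := fun h => hx₂ (d.toBeta.center_le_Cen x h)
  by_cases hsq : x ^ 2 = x₂ ^ 2
  · obtain ⟨a, haC, haE, _⟩ :=
      (Subgroup.relIndex_eq_two_iff_exists_notMem_and).mp (d.relIndex_Ex_Cen hx)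
    have haZ : a ∉ Subgroup.center H := fun h => haE (d.toBeta.center_le_Ex x h)
    have hsq' : a ^ 2 ≠ x₂ ^ 2 := by
      rw [← hsq]
      intro h
      apply haE
      right
      exact d.sq_inj hx (d.toBeta.self_mem_Cen x) haC h.symm
    have hCa := d.Cen_eq hx haC haZ
    refine ⟨a, x₂, haZ, hx₂Z, hsq', ?_⟩
    apply d.Cen_inf_le haZ hx₂Z
    rw [hCa]
    exact hx₂
  · exact ⟨x, x₂, hx, hx₂Z, hsq, d.Cen_inf_le hx hx₂Z hx₂⟩

end Cfsg.Agent.Lib.Helper3.ThreeInv
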