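import Mathlib
import Cfsg.Agent.Lib.Helper3.TI3h

set_option autoImplicit false

/-! # The special case: solvability of the group of automorphisms fixing the centre pointwise -/

namespace Cfsg.Agent.Lib.Helper3.ThreeInv

open scoped commutatorElement

variable {H : Type*} [Group H] [Finite H]

/-- the automorphisms of a group of order at most four form a solvable group -/
theorem isSolvable_mulAut_of_card_le_four (Q : Type*) [Group Q] [Finite Q] (h : Nat.card Q ≤ 4) :
    Group.IsSolvable (MulAut Q) := by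
  have := isSolvable_perm_of_card_le_four Q h
  let f : MulAut Q →* Equiv.Perm Q :=
    { toFun := fun α => α.toEquiv
      map_one' := rfl
      map_mul' := fun _ _ => rfl }
  apply Group.isSolvable_of_isSolvable_injective (f := f)
  intro α β hαβ
  ext x
  exact congrArg (fun e : Equiv.Perm Q => e x) hαβ

omit [Finite H] in
theorem bot_inv {Γ : Type*} [Group Γ] (φ : Γ →* MulAut H) :
    ∀ γ : Γ, ∀ x ∈ (⊥ : Subgroup H), φ γ x ∈ (⊥ : Subgroup H) := by
  intro γ x hx
  rw [Subgroup.mem_bot] at hx ⊢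
  rw [hx, map_one]

omit [Finite H] in
theorem bot_conj (M : Subgroup H) : ∀ x ∈ M, ∀ l ∈ (⊥ : Subgroup H),
    x * l * x⁻¹ ∈ (⊥ : Subgroup H) := by
  intro x _ l hl
  rw [Subgroup.mem_bot] at hl ⊢
  rw [hl]; group

omit [Finite H] in
theorem center_conj (M : Subgroup H) : ∀ x ∈ M, ∀ n ∈ Subgroup.center H,
    x * n * x⁻¹ ∈ Subgroup.center H :=
  fun x _ n hn => (inferInstance : (Subgroup.center H).Normal).conj_mem n hn x

section action

variable {Γ : Type*} [Group Γ] (φ : Γ →* MulAut H)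
  (hfix : ∀ γ : Γ, ∀ z ∈ Subgroup.center H, φ γ z = z)

include hfix

omit [Finite H] in
theorem center_inv_of_fix : ∀ γ : Γ, ∀ x ∈ Subgroup.center H, φ γ x ∈ Subgroup.center H :=
  fun γ x hx => by rw [hfix γ x hx]; exact hx

omit [Finite H] in
theorem secTriv_center_of_fix : SecTriv φ (Subgroup.center H) ⊥ := by
  apply secTriv_of_forall
  intro γ x hx
  rw [hfix γ x hx, inv_mul_cancel]
  exact Subgroup.one_mem _

/-- the case where the centre has index at most four -/
theorem isSolvable_of_index_center_le (hφ : Function.Injective φ)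
    (hidx : (Subgroup.center H).index ≤ 4) : Group.IsSolvable Γ := by
  have s1 := secTriv_center_of_fix φ hfix
  have s2 : SecTriv φ ⊤ (Subgroup.center H) := by
    apply secTriv_of_relIndex_le φ _ _ (fun γ x _ => Subgroup.mem_top _)
      (center_inv_of_fix φ hfix)
    rw [Subgroup.relIndex_top_right]
    exact hidx
  exact isSolvable_of_secTriv φ hφ
    (SecTriv.trans φ ⊤ (Subgroup.center H) ⊥ le_top (center_conj _) (bot_conj _)
      (fun γ x _ => Subgroup.mem_top _) (bot_inv φ) s2 s1)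

/-- the case where some radical is larger than the centre -/
theorem Beta.isSolvable_of_rad (b : Beta H) (hφ : Function.Injective φ) {u x : H}
    (hu : u ∈ Subgroup.center H) (hu1 : u ≠ 1) (hxR : x ∈ b.Ru u)
    (hx : x ∉ Subgroup.center H) : Group.IsSolvable Γ := by
  have hu2 : u ^ 2 = 1 := b.center_sq u hu
  have h16 := b.index_center_le_of_mem_Ru hu2 hxR hx
  obtain ⟨m, hm⟩ := b.index_Ru hu hu1
  have hmul := Subgroup.relIndex_mul_index (b.center_le_Ru u)
  have hne1 : (Subgroup.center H).relIndex (b.Ru u) ≠ 1 := by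
    rw [Ne, Subgroup.relIndex_eq_one]
    exact fun hle => hx (hle hxR)
  have hne0 : (Subgroup.center H).relIndex (b.Ru u) ≠ 0 := by
    have : ((Subgroup.center H).subgroupOf (b.Ru u)).FiniteIndex := inferInstance
    exact this.index_ne_zero
  have hm0 : m = 0 := by
    by_contra hm0
    have : 4 ^ 2 ≤ 4 ^ (m + 1) := Nat.pow_le_pow_right (by norm_num) (by omega)
    rw [hm] at hmul
    have h2 : 2 ≤ (Subgroup.center H).relIndex (b.Ru u) := by omega
    nlinarith
  rw [hm0] at hm
  have hR4 : (b.Ru u).index = 4 := by rw [hm]; norm_num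
  rw [hR4] at hmul
  have hrel : (Subgroup.center H).relIndex (b.Ru u) ≤ 4 := by omega
  have hRi : ∀ γ : Γ, ∀ g ∈ b.Ru u, φ γ g ∈ b.Ru u :=
    fun γ g hg => b.map_mem_Ru u (φ γ) (hfix γ u hu) g hg
  have s1 := secTriv_center_of_fix φ hfix
  have s2 : SecTriv φ (b.Ru u) (Subgroup.center H) :=
    secTriv_of_relIndex_le φ _ _ hRi (center_inv_of_fix φ hfix) hrel
  have s3 : SecTriv φ ⊤ (b.Ru u) := by
    apply secTriv_of_relIndex_le φ _ _ (fun γ x _ => Subgroup.mem_top _) hRi
    rw [Subgroup.relIndex_top_right, hR4]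
  have s4 : SecTriv φ (b.Ru u) ⊥ :=
    SecTriv.trans φ (b.Ru u) (Subgroup.center H) ⊥ (b.center_le_Ru u) (center_conj _) (bot_conj _)
      hRi (bot_inv φ) s2 s1
  have s5 : SecTriv φ ⊤ ⊥ :=
    SecTriv.trans φ ⊤ (b.Ru u) ⊥ le_top (fun x _ n hn => b.conj_mem_Ru u x n hn) (bot_conj _)
      (fun γ x _ => Subgroup.mem_top _) (bot_inv φ) s3 s4
  exact isSolvable_of_secTriv φ hφ s5

omit [Finite H] in
/-- an automorphism fixing the centre pointwise and two suitable cosets acts trivially modulo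
the centre -/
theorem Beta2.triv_of_fix_pair (d : Beta2 H) {x₁ x₂ : H}
    (hC : d.toBeta.Cen x₁ ⊓ d.toBeta.Cen x₂ ≤ Subgroup.center H) (γ : Γ)
    (h1 : x₁⁻¹ * φ γ x₁ ∈ Subgroup.center H) (h2 : x₂⁻¹ * φ γ x₂ ∈ Subgroup.center H) (w : H) :
    w⁻¹ * φ γ w ∈ Subgroup.center H := by
  have key : ∀ x : H, x⁻¹ * φ γ x ∈ Subgroup.center H → ⁅x, w⁻¹ * φ γ w⁆ = 1 := by
    intro x hx
    have e1 : φ γ ⁅x, w⁆ = ⁅x, w⁆ := hfix γ _ (d.toCfg.comm_mem x w)
    have e2 : φ γ ⁅x, w⁆ = ⁅x, φ γ w⁆ := by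
      rw [map_commElt]
      have : φ γ x = x * (x⁻¹ * φ γ x) := by group
      rw [this, d.toCfg.comm_mul_left, commElt_of_central_left hx, mul_one]
    rw [d.toCfg.comm_mul_right, d.toCfg.comm_inv_right, ← e2, e1, ← pow_two]
    exact d.toCfg.comm_sq x w
  exact hC ⟨key x₁ h1, key x₂ h2⟩

end action

end Cfsg.Agent.Lib.Helper3.ThreeInv
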