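import Mathlib
import Cfsg.Agent.Lib.Helper3.TI3i

set_option autoImplicit false

/-! # The special case: the counting argument and the conclusion -/

namespace Cfsg.Agent.Lib.Helper3.ThreeInv

open scoped commutatorElement

variable {H : Type*} [Group H] [Finite H]

section action

variable {Γ : Type*} [Group Γ] (φ : Γ →* MulAut H)
  (hfix : ∀ γ : Γ, ∀ z ∈ Subgroup.center H, φ γ z = z)

include hfix

/-- the case of trivial radicals -/
theorem Beta2.isSolvable (d : Beta2 H) (hφ : Function.Injective φ) : Group.IsSolvable Γ := by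
  classical
  obtain ⟨x₁, x₂, hx₁, hx₂, hsq, hC⟩ := d.exists_pair
  have hΓfin : Finite Γ := Finite.of_injective φ hφ
  have hMi : ∀ γ : Γ, ∀ x ∈ (⊤ : Subgroup H), φ γ x ∈ (⊤ : Subgroup H) :=
    fun γ x _ => Subgroup.mem_top _
  have hZi := center_inv_of_fix φ hfix
  set K0 := trivOn φ ⊤ (Subgroup.center H) hMi hZi with hK0
  have hmemK0 : ∀ γ : Γ, γ ∈ K0 ↔ ∀ w : H, w⁻¹ * φ γ w ∈ Subgroup.center H := by
    intro γ
    rw [hK0, mem_trivOn]
    exact ⟨fun h w => h w (Subgroup.mem_top w), fun h w _ => h w⟩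
  have hK0n : K0.Normal := by
    constructor
    intro γ hγ δ
    rw [hmemK0] at hγ ⊢
    intro w
    have h1 := hZi δ _ (hγ (φ δ⁻¹ w))
    have e : φ δ ((φ δ⁻¹ w)⁻¹ * φ γ (φ δ⁻¹ w)) = w⁻¹ * φ (δ * γ * δ⁻¹) w := by
      rw [map_mul, map_inv, ← MulAut.mul_apply, ← MulAut.mul_apply, ← MulAut.mul_apply,
        ← map_mul, ← map_mul, ← map_mul, mul_inv_cancel, map_one, MulAut.one_apply, mul_assoc]
    rw [e] at h1
    exact h1
  -- the two level sets
  let Z := Subgroup.center H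
  let Sa : Set (H ⧸ Z) := {p | ∃ g : H, (g : H ⧸ Z) = p ∧ g ^ 2 = x₁ ^ 2}
  let Sb : Set (H ⧸ Z) := {p | ∃ g : H, (g : H ⧸ Z) = p ∧ g ^ 2 = x₂ ^ 2}
  have hdisj : Disjoint Sa Sb := by
    rw [Set.disjoint_left]
    rintro p ⟨g, hg, hg2⟩ ⟨g', hg', hg'2⟩
    apply hsq
    have h1 : g⁻¹ * g' ∈ Z := by
      rw [← QuotientGroup.eq, hg, hg']
    have e : g' = g * (g⁻¹ * g') := by group
    rw [← hg2, ← hg'2, e, d.toCfg.mul_sq, commElt_of_central_right h1, mul_one,
      d.center_sq _ h1, mul_one]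
  have h1a : (1 : H ⧸ Z) ∉ Sa ∪ Sb := by
    rintro (⟨g, hg, hg2⟩ | ⟨g, hg, hg2⟩)
    · have hgZ : g ∈ Z := (QuotientGroup.eq_one_iff g).mp hg
      exact d.toBeta.sq_ne_one hx₁ (by rw [← hg2]; exact d.center_sq g hgZ)
    · have hgZ : g ∈ Z := (QuotientGroup.eq_one_iff g).mp hg
      exact d.toBeta.sq_ne_one hx₂ (by rw [← hg2]; exact d.center_sq g hgZ)
  have hcount : Sa.ncard + Sb.ncard + 1 ≤ 16 := by
    have h1 : (insert (1 : H ⧸ Z) (Sa ∪ Sb)).ncard = (Sa ∪ Sb).ncard + 1 :=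
      Set.ncard_insert_of_notMem h1a
    have h2 : (Sa ∪ Sb).ncard = Sa.ncard + Sb.ncard := Set.ncard_union_eq hdisj
    have h3 : (insert (1 : H ⧸ Z) (Sa ∪ Sb)).ncard ≤ Nat.card (H ⧸ Z) := Set.ncard_le_card _
    have h4 : Nat.card (H ⧸ Z) = 16 := by
      rw [← Subgroup.index_eq_card]; exact d.index_center
    omega
  have hprod : Sa.ncard * Sb.ncard ≤ 56 := by
    have h1 : Sa.ncard ≤ 15 := by omega
    generalize Sa.ncard = m at hcount h1
    generalize Sb.ncard = n at hcount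
    interval_cases m <;> omega
  -- the quotient by the kernel of the action modulo the centre
  have hcard : Nat.card (Γ ⧸ K0) ≤ 56 := by
    let G : Γ ⧸ K0 → ↥(Sa ×ˢ Sb) := fun q =>
      ⟨(((φ q.out x₁ : H) : H ⧸ Z), ((φ q.out x₂ : H) : H ⧸ Z)),
        ⟨⟨φ q.out x₁, rfl, by rw [← map_pow, hfix _ _ (d.sq_mem x₁)]⟩,
          ⟨φ q.out x₂, rfl, by rw [← map_pow, hfix _ _ (d.sq_mem x₂)]⟩⟩⟩
    have hG : Function.Injective G := by
      intro q q' hqq
      have h0 := congrArg Subtype.val hqq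
      have h1 : ((φ q.out x₁ : H) : H ⧸ Z) = ((φ q'.out x₁ : H) : H ⧸ Z) :=
        congrArg Prod.fst h0
      have h2 : ((φ q.out x₂ : H) : H ⧸ Z) = ((φ q'.out x₂ : H) : H ⧸ Z) :=
        congrArg Prod.snd h0
      rw [QuotientGroup.eq] at h1 h2
      have hδ : ∀ x : H, (φ q.out x)⁻¹ * φ q'.out x ∈ Z →
          x⁻¹ * φ (q.out⁻¹ * q'.out) x ∈ Z := by
        intro x hx
        have h3 := hZi q.out⁻¹ _ hx
        have e : φ q.out⁻¹ ((φ q.out x)⁻¹ * φ q'.out x) = x⁻¹ * φ (q.out⁻¹ * q'.out) x := by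
          rw [map_mul, map_inv, ← MulAut.mul_apply, ← MulAut.mul_apply, ← map_mul, ← map_mul,
            inv_mul_cancel, map_one, MulAut.one_apply]
        rw [e] at h3
        exact h3
      have h5 : q.out⁻¹ * q'.out ∈ K0 := by
        rw [hmemK0]
        exact d.triv_of_fix_pair φ hfix hC _ (hδ x₁ h1) (hδ x₂ h2)
      have h6 : (q.out : Γ ⧸ K0) = (q'.out : Γ ⧸ K0) := QuotientGroup.eq.mpr h5
      rw [QuotientGroup.out_eq', QuotientGroup.out_eq'] at h6
      exact h6
    have h7 := Nat.card_le_card_of_injective G hG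
    rw [Nat.card_coe_set_eq, Set.ncard_prod] at h7
    exact h7.trans hprod
  have hQs : Group.IsSolvable (Γ ⧸ K0) :=
    Cfsg.Agent.Lib.Helper7.Ord60.solvable_of_card_lt_sixty _ _ rfl (by omega)
  have s2 : SecTriv φ ⊤ (Subgroup.center H) := by
    refine secTriv_of_hom φ ⊤ _ (QuotientGroup.mk' K0) ?_
    intro γ hγ x _
    have : γ ∈ K0 := (QuotientGroup.eq_one_iff γ).mp hγ
    exact (hmemK0 γ).mp this x
  have s1 := secTriv_center_of_fix φ hfix
  exact isSolvable_of_secTriv φ hφ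
    (SecTriv.trans φ ⊤ (Subgroup.center H) ⊥ le_top (center_conj _) (bot_conj _) hMi (bot_inv φ)
      s2 s1)

/-- the special case, for a group of automorphisms fixing the centre pointwise -/
theorem Beta.isSolvable_of_fix (b : Beta H) (hφ : Function.Injective φ) :
    Group.IsSolvable Γ := by
  by_cases h4 : (Subgroup.center H).index ≤ 4
  · exact isSolvable_of_index_center_le φ hfix hφ h4
  by_cases hrad : ∃ u ∈ Subgroup.center H, u ≠ 1 ∧ ∃ x ∈ b.Ru u, x ∉ Subgroup.center H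
  · obtain ⟨u, hu, hu1, x, hxR, hx⟩ := hrad
    exact b.isSolvable_of_rad φ hfix hφ hu hu1 hxR hx
  push Not at hrad
  have hradle : ∀ u ∈ Subgroup.center H, u ≠ 1 → b.Ru u ≤ Subgroup.center H :=
    fun u hu hu1 x hx => hrad u hu hu1 x hx
  have hex : ∃ u ∈ Subgroup.center H, u ≠ 1 := by
    have h1 : 1 < Nat.card (Subgroup.center H) := by rw [b.card_center]; norm_num
    rw [Finite.one_lt_card_iff_nontrivial] at h1
    obtain ⟨z, hz⟩ := exists_ne (1 : ↥(Subgroup.center H))
    exact ⟨z, z.2, fun h => hz (Subtype.ext h)⟩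
  obtain ⟨u, hu, hu1⟩ := hex
  obtain ⟨m, hm⟩ := b.index_Ru hu hu1
  have hRZ : b.Ru u = Subgroup.center H := le_antisymm (hradle u hu hu1) (b.center_le_Ru u)
  rw [hRZ] at hm
  have hexx : ∃ x : H, x ∉ Subgroup.center H := by
    by_contra hcon
    push Not at hcon
    have : Subgroup.center H = ⊤ := by
      rw [eq_top_iff]; exact fun x _ => hcon x
    rw [this, Subgroup.index_top] at h4
    omega
  obtain ⟨x, hx⟩ := hexx
  have h32 := b.index_center_le hx
  have hidx : (Subgroup.center H).index = 16 := by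
    rw [hm] at h32 h4 ⊢
    cases m with
    | zero => norm_num at h4
    | succ m =>
      cases m with
      | zero => norm_num
      | succ m =>
        exfalso
        have : 4 ^ 3 ≤ 4 ^ (m + 1 + 1 + 1) := Nat.pow_le_pow_right (by norm_num) (by omega)
        omega
  exact Beta2.isSolvable φ hfix ⟨b, hradle, hidx⟩ hφ

end action

/-- the special case: the automorphism group is solvable -/
theorem Beta.isSolvable_mulAut (b : Beta H) : Group.IsSolvable (MulAut H) := by
  let g0 : MulAut H →* MulAut ↥(Subgroup.center H) :=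
    resHom (MonoidHom.id (MulAut H)) (Subgroup.center H) (fun γ x hx => map_mem_center γ x hx)
  have hfix : ∀ γ : ↥g0.ker, ∀ z ∈ Subgroup.center H, (g0.ker.subtype γ) z = z := by
    intro γ z hz
    have h1 : g0 γ.1 = 1 := γ.2
    have h2 := resHom_apply (MonoidHom.id (MulAut H)) (Subgroup.center H)
      (fun γ x hx => map_mem_center γ x hx) γ.1 ⟨z, hz⟩
    rw [h1] at h2
    exact h2.symm
  have h1 : Group.IsSolvable ↥g0.ker :=
    b.isSolvable_of_fix g0.ker.subtype hfix (Subgroup.subtype_injective _)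
  have h2 : Group.IsSolvable (MulAut ↥(Subgroup.center H)) :=
    isSolvable_mulAut_of_card_le_four _ (by rw [b.card_center])
  exact Group.isSolvable_of_ker_le_range g0.ker.subtype g0 (by rw [Subgroup.range_subtype])

end Cfsg.Agent.Lib.Helper3.ThreeInv
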