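import Mathlib
import Cfsg.Agent.Lib.Helper3.TI3j

set_option autoImplicit false

/-! # Groups in which all squares and all elements of order at most two are central, with at most
four elements of order at most two: the automorphism group is solvable -/

namespace Cfsg.Agent.Lib.Helper3.ThreeInv

open scoped commutatorElement

variable {H : Type*} [Group H] [Finite H]

/-- if the first case fails, we are in the special case -/
theorem Cfg.beta_of_not_D1 (c : Cfg H) (h2 : IsPGroup 2 H) (hcard : Nat.card c.Om ≤ 4)
    (hD : ¬ c.D1) : Beta H := by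
  classical
  unfold Cfg.D1 at hD
  push Not at hD
  obtain ⟨a, haC, b, hbC, haZ, hbZ, habZ⟩ := hD
  have haO : a ∈ c.Om := c.commutator_le_Om haC
  have hbO : b ∈ c.Om := c.commutator_le_Om hbC
  have ha2 : a ^ 2 = 1 := haO
  have hb2 : b ^ 2 = 1 := hbO
  have ha1 : a ≠ 1 := fun h => haZ (by rw [h]; exact Subgroup.one_mem _)
  have hb1 : b ≠ 1 := fun h => hbZ (by rw [h]; exact Subgroup.one_mem _)
  have hab1 : a * b ≠ 1 := fun h => habZ (by rw [h]; exact Subgroup.one_mem _)
  have hab : a ≠ b := by
    intro h
    apply hab1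
    rw [h, ← pow_two, hb2]
  have haba : a * b ≠ a := fun h => hb1 (by simpa using h)
  have habb : a * b ≠ b := fun h => ha1 (by simpa using h)
  have : Fintype H := Fintype.ofFinite H
  let S : Finset H := {1, a, b, a * b}
  have hScard : S.card = 4 := by
    have h1 : b ∉ ({a * b} : Finset H) := by
      rw [Finset.mem_singleton]; exact fun h => habb h.symm
    have h3 : a ∉ ({b, a * b} : Finset H) := by
      rw [Finset.mem_insert, Finset.mem_singleton]
      rintro (h | h)
      · exact hab h
      · exact haba h.symm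
    have h4 : (1 : H) ∉ ({a, b, a * b} : Finset H) := by
      rw [Finset.mem_insert, Finset.mem_insert, Finset.mem_singleton]
      rintro (h | h | h)
      · exact ha1 h.symm
      · exact hb1 h.symm
      · exact hab1 h.symm
    rw [Finset.card_insert_of_notMem h4, Finset.card_insert_of_notMem h3,
      Finset.card_insert_of_notMem h1, Finset.card_singleton]
  have hSsub : S ⊆ (c.Om : Set H).toFinset := by
    intro x hx
    rw [Set.mem_toFinset]
    simp only [S, Finset.mem_insert, Finset.mem_singleton] at hx
    rcases hx with rfl | rfl | rfl | rfl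
    · exact Subgroup.one_mem _
    · exact haO
    · exact hbO
    · exact Subgroup.mul_mem _ haO hbO
  have hOcard : (c.Om : Set H).toFinset.card = Nat.card c.Om := by
    rw [Set.toFinset_card, Nat.card_eq_fintype_card]
    rfl
  have hSeq : S = (c.Om : Set H).toFinset :=
    Finset.eq_of_subset_of_card_le hSsub (by rw [hOcard, hScard]; exact hcard)
  have hOm : ∀ ω : H, ω ^ 2 = 1 → ω = 1 ∨ ω = a ∨ ω = b ∨ ω = a * b := by
    intro ω hω
    have : ω ∈ (c.Om : Set H).toFinset := by
      rw [Set.mem_toFinset]; exact hω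
    rw [← hSeq] at this
    simpa [S] using this
  have hOm4 : Nat.card c.Om = 4 := by rw [← hOcard, ← hSeq, hScard]
  -- the squares of the centre are trivial
  have hZsq : ∀ w ∈ c.Zsq, w = 1 := by
    intro w hw
    by_contra hw1
    have hex : ∃ k, w ^ 2 ^ k = 1 := h2 w
    have hk0 : Nat.find hex ≠ 0 := by
      intro h0
      have := Nat.find_spec hex
      rw [h0, pow_zero, pow_one] at this
      exact hw1 this
    obtain ⟨k, hk⟩ := Nat.exists_eq_succ_of_ne_zero hk0
    have hv1 : w ^ 2 ^ k ≠ 1 := by
      have := Nat.find_min hex (m := k) (by omega)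
      exact this
    have hv2 : (w ^ 2 ^ k) ^ 2 = 1 := by
      have := Nat.find_spec hex
      rw [hk, Nat.succ_eq_add_one, pow_succ, pow_mul] at this
      exact this
    have hvZ : w ^ 2 ^ k ∈ c.Zsq := Subgroup.pow_mem _ hw _
    rcases hOm _ hv2 with h | h | h | h
    · exact hv1 h
    · exact haZ (h ▸ hvZ)
    · exact hbZ (h ▸ hvZ)
    · exact habZ (h ▸ hvZ)
  have hcsq : ∀ z ∈ Subgroup.center H, z ^ 2 = 1 := fun z hz => hZsq _ ⟨z, hz, rfl⟩
  have hZO : Subgroup.center H = c.Om :=
    le_antisymm (fun z hz => hcsq z hz) c.Om_le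
  refine ⟨c, hcsq, by rw [hZO]; exact hOm4, ?_⟩
  intro u hu hu1 hle
  have hu2 : u ^ 2 = 1 := hcsq u hu
  have h1 := hle haC
  have h3 := hle hbC
  rw [mem_zpowers_of_sq hu2] at h1 h3
  exact hab ((h1.resolve_left ha1).trans (h3.resolve_left hb1).symm)

/-- the main case: all squares and all elements of order at most two are central -/
theorem Cfg.isSolvable_mulAut (c : Cfg H) (h2 : IsPGroup 2 H) (hcard : Nat.card c.Om ≤ 4) :
    Group.IsSolvable (MulAut H) := by
  by_cases hD : c.D1
  · exact c.isSolvable_of_D1 h2 hcard hD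
  · exact (c.beta_of_not_D1 h2 hcard hD).isSolvable_mulAut

end Cfsg.Agent.Lib.Helper3.ThreeInv
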