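import Mathlib
import Cfsg.Agent.Lib.Helper3.TI3k
import Cfsg.Agent.Lib.Lead.Critical2
import Cfsg.Agent.Lib.Lead.Frattini

set_option autoImplicit false

/-! # Finite 2-groups with at most three involutions have a solvable automorphism group -/

namespace Cfsg.Agent.Lib.Helper3.ThreeInv

open scoped commutatorElement

/-- four distinct elements with a property satisfied by at most four elements exhaust it -/
theorem mem_of_four {G : Type*} [Finite G] (P : G → Prop) (hcard : Nat.card {x : G // P x} ≤ 4)
    (e₁ e₂ e₃ e₄ : G) (h12 : e₁ ≠ e₂) (h13 : e₁ ≠ e₃) (h14 : e₁ ≠ e₄) (h23 : e₂ ≠ e₃)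
    (h24 : e₂ ≠ e₄) (h34 : e₃ ≠ e₄) (p1 : P e₁) (p2 : P e₂) (p3 : P e₃) (p4 : P e₄) (t : G)
    (ht : P t) : t = e₁ ∨ t = e₂ ∨ t = e₃ ∨ t = e₄ := by
  classical
  by_contra hcon
  push Not at hcon
  obtain ⟨n1, n2, n3, n4⟩ := hcon
  let f : Fin 5 → {x : G // P x} :=
    ![⟨e₁, p1⟩, ⟨e₂, p2⟩, ⟨e₃, p3⟩, ⟨e₄, p4⟩, ⟨t, ht⟩]
  have hf : Function.Injective f := by
    intro i j hij
    have h := congrArg Subtype.val hij
    fin_cases i <;> fin_cases j <;> simp [f] at h ⊢ <;> first
      | exact absurd h h12 | exact absurd h h13 | exact absurd h h14 | exact absurd h h23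
      | exact absurd h h24 | exact absurd h h34 | exact absurd h.symm h12
      | exact absurd h.symm h13 | exact absurd h.symm h14 | exact absurd h.symm h23
      | exact absurd h.symm h24 | exact absurd h.symm h34 | exact absurd h n1
      | exact absurd h n2 | exact absurd h n3 | exact absurd h n4 | exact absurd h.symm n1
      | exact absurd h.symm n2 | exact absurd h.symm n3 | exact absurd h.symm n4
  have := Nat.card_le_card_of_injective f hf
  rw [Nat.card_eq_fintype_card, Fintype.card_fin] at this
  omega

variable {G : Type*} [Group G] [Finite G]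

/-- in a 2-group with at most four elements of order at most two, these elements commute -/
theorem comm_of_sq_eq_one (h2 : IsPGroup 2 G) (hcard : Nat.card {x : G // x ^ 2 = 1} ≤ 4)
    (s t : G) (hs : s ^ 2 = 1) (ht : t ^ 2 = 1) : s * t = t * s := by
  classical
  by_cases hs1 : s = 1
  · rw [hs1, one_mul, mul_one]
  have hnt : Nontrivial G := ⟨⟨s, 1, hs1⟩⟩
  have hZ : Nontrivial (Subgroup.center G) := h2.center_nontrivial
  obtain ⟨z0, hz0⟩ := exists_ne (1 : ↥(Subgroup.center G))
  -- a central involution
  have hex : ∃ k, (z0 : G) ^ 2 ^ k = 1 := h2 z0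
  have hk0 : Nat.find hex ≠ 0 := by
    intro h0
    have := Nat.find_spec hex
    rw [h0, pow_zero, pow_one] at this
    exact hz0 (Subtype.ext this)
  obtain ⟨k, hk⟩ := Nat.exists_eq_succ_of_ne_zero hk0
  set z : G := (z0 : G) ^ 2 ^ k with hz
  have hz1 : z ≠ 1 := Nat.find_min hex (m := k) (by omega)
  have hz2 : z ^ 2 = 1 := by
    have := Nat.find_spec hex
    rw [hk, Nat.succ_eq_add_one, pow_succ, pow_mul] at this
    exact this
  have hzc : z ∈ Subgroup.center G := Subgroup.pow_mem _ z0.2 _
  have hzcomm : ∀ g : G, g * z = z * g := Subgroup.mem_center_iff.mp hzc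
  by_cases hsz : s = z
  · rw [hsz]; exact (hzcomm t).symm
  have hsz2 : (s * z) ^ 2 = 1 := by
    rw [pow_two]
    calc s * z * (s * z) = s * (z * s) * z := by group
      _ = s * (s * z) * z := by rw [hzcomm s]
      _ = s ^ 2 * z ^ 2 := by rw [pow_two, pow_two]; group
      _ = 1 := by rw [hs, hz2, one_mul]
  have hzinv : z⁻¹ = z := by
    rw [pow_two] at hz2
    exact inv_eq_of_mul_eq_one_right hz2
  have hcases := mem_of_four (fun x : G => x ^ 2 = 1) hcard 1 z s (s * z)
    (fun h => hz1 h.symm) (fun h => hs1 h.symm)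
    (fun h => hsz (by rw [← hzinv]; exact eq_inv_of_mul_eq_one_left h.symm))
    (fun h => hsz h.symm) (fun h => hs1 (by simpa using h.symm))
    (fun h => hz1 (by simpa using h.symm)) (one_pow 2) hz2 hs hsz2 t ht
  rcases hcases with h | h | h | h
  · rw [h, one_mul, mul_one]
  · rw [h]; exact hzcomm s
  · rw [h]
  · rw [h]
    calc s * (s * z) = s * (z * s) := by rw [hzcomm s]
      _ = s * z * s := (mul_assoc s z s).symm

/-- the case where the elements of order at most two are central -/
theorem isSolvable_mulAut_of_central (h2 : IsPGroup 2 G)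
    (hcard : Nat.card {x : G // x ^ 2 = 1} ≤ 4)
    (hcen : ∀ x : G, x ^ 2 = 1 → x ∈ Subgroup.center G) : Group.IsSolvable (MulAut G) := by
  have : Fact (Nat.Prime 2) := ⟨Nat.prime_two⟩
  obtain ⟨K, hKchar, hΦ, _, hC⟩ := Cfsg.Agent.Lib.Lead.exists_critical h2
  have h2K : IsPGroup 2 ↥K := h2.to_subgroup K
  have c : Cfg ↥K := by
    constructor
    · intro y
      rw [Subgroup.mem_center_iff]
      intro g
      have h1 : y ^ 2 ∈ frattini ↥K := Cfsg.Agent.Lib.Lead.pow_mem_frattini_of_isPGroup h2K y
      have h3 : ((y ^ 2 : ↥K) : G) ∈ Subgroup.centralizer (K : Set G) :=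
        hΦ (Subgroup.mem_map_of_mem K.subtype h1)
      rw [Subgroup.mem_centralizer_iff] at h3
      exact Subtype.ext (h3 g g.2)
    · intro y hy
      rw [Subgroup.mem_center_iff]
      intro g
      have h1 : (y : G) ^ 2 = 1 := by
        have := congrArg Subtype.val hy
        simpa using this
      exact Subtype.ext (Subgroup.mem_center_iff.mp (hcen _ h1) g)
  have hcardK : Nat.card c.Om ≤ 4 := by
    refine le_trans ?_ hcard
    apply Nat.card_le_card_of_injective (fun y : c.Om => (⟨((y : ↥K) : G), by
      have := y.2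
      rw [c.mem_Om] at this
      have h := congrArg Subtype.val this
      simpa using h⟩ : {x : G // x ^ 2 = 1}))
    intro a b hab
    have := congrArg Subtype.val hab
    exact Subtype.ext (Subtype.ext this)
  have hs : Group.IsSolvable (MulAut ↥K) := c.isSolvable_mulAut h2K hcardK
  exact isSolvable_mulAut_of_char K hC

/-- a finite 2-group with at most four elements of order at most two has a solvable automorphism
group -/
theorem isSolvable_mulAut_of_card (h2 : IsPGroup 2 G)
    (hcard : Nat.card {x : G // x ^ 2 = 1} ≤ 4) : Group.IsSolvable (MulAut G) := by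
  let N : Subgroup G := Subgroup.centralizer {x : G | x ^ 2 = 1}
  have hNchar : N.Characteristic := by
    rw [Subgroup.characteristic_iff_le_comap]
    intro φ x hx
    rw [Subgroup.mem_comap, Subgroup.mem_centralizer_iff]
    intro v hv
    rw [Subgroup.mem_centralizer_iff] at hx
    have hv' : φ.symm v ∈ {x : G | x ^ 2 = 1} := by
      show (φ.symm v) ^ 2 = 1
      rw [← map_pow, show v ^ 2 = 1 from hv, map_one]
    have h1 := congrArg φ (hx _ hv')
    rw [map_mul, map_mul, MulEquiv.apply_symm_apply] at h1
    exact h1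
  have hVN : {x : G | x ^ 2 = 1} ⊆ (N : Set G) := by
    intro s hs
    rw [SetLike.mem_coe, Subgroup.mem_centralizer_iff]
    intro t ht
    exact comm_of_sq_eq_one h2 hcard t s ht hs
  have hC : Subgroup.centralizer (N : Set G) ≤ N := Subgroup.centralizer_le hVN
  have h2N : IsPGroup 2 ↥N := h2.to_subgroup N
  have hcardN : Nat.card {y : ↥N // y ^ 2 = 1} ≤ 4 := by
    refine le_trans ?_ hcard
    apply Nat.card_le_card_of_injective (fun y : {y : ↥N // y ^ 2 = 1} =>
      (⟨((y : ↥N) : G), by
        have h := congrArg Subtype.val y.2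
        simpa using h⟩ : {x : G // x ^ 2 = 1}))
    intro a b hab
    have := congrArg Subtype.val hab
    exact Subtype.ext (Subtype.ext this)
  have hcenN : ∀ y : ↥N, y ^ 2 = 1 → y ∈ Subgroup.center ↥N := by
    intro y hy
    rw [Subgroup.mem_center_iff]
    intro g
    have h1 : (y : G) ^ 2 = 1 := by
      have := congrArg Subtype.val hy
      simpa using this
    have h3 := g.2
    rw [Subgroup.mem_centralizer_iff] at h3
    exact Subtype.ext (h3 _ h1).symm
  have hs : Group.IsSolvable (MulAut ↥N) := isSolvable_mulAut_of_central h2N hcardN hcenN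
  exact isSolvable_mulAut_of_char N hC

/-- a finite 2-group with exactly three involutions has a solvable automorphism group -/
theorem isSolvable_mulAut_of_three_involutions (h2 : IsPGroup 2 G)
    (h3 : Nat.card {x : G // orderOf x = 2} = 3) : Group.IsSolvable (MulAut G) := by
  classical
  apply isSolvable_mulAut_of_card h2
  have hfin : Finite {x : G // orderOf x = 2} := inferInstance
  have h4 : Nat.card (Option {x : G // orderOf x = 2}) = 4 := by
    rw [Finite.card_option, h3]
  rw [← h4]
  have : Fact (Nat.Prime 2) := ⟨Nat.prime_two⟩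
  apply Nat.card_le_card_of_injective (fun x : {x : G // x ^ 2 = 1} =>
    if h : (x : G) = 1 then (none : Option {x : G // orderOf x = 2})
    else some ⟨x, orderOf_eq_prime x.2 h⟩)
  intro a b hab
  by_cases ha : (a : G) = 1
  · by_cases hb : (b : G) = 1
    · exact Subtype.ext (ha.trans hb.symm)
    · simp only [dif_pos ha, dif_neg hb] at hab
      exact absurd hab (by simp)
  · by_cases hb : (b : G) = 1
    · simp only [dif_neg ha, dif_pos hb] at hab
      exact absurd hab (by simp)
    · simp only [dif_neg ha, dif_neg hb, Option.some.injEq, Subtype.mk.injEq] at hab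
      exact Subtype.ext hab

end Cfsg.Agent.Lib.Helper3.ThreeInv
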