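import Cfsg.Agent.Lib.Helper3.TN1
import Cfsg.Agent.Lib.Helper3.BL1

/-!
# Central extensions of groups with twisted Steinberg data: lifts of commuting root elements
-/

set_option linter.unusedSectionVars false
set_option linter.unusedVariables false
set_option linter.unusedSimpArgs false

namespace Cfsg.Agent.Lib.Helper3.TL

open Cfsg.Agent.Lib.Helper3.DN Cfsg.Agent.Lib.Helper3.DS Cfsg.Agent.Lib.Helper3.BN
  Cfsg.Agent.Lib.Helper3.StU Cfsg.Agent.Lib.Helper3.TN Cfsg.Agent.Lib.Helper3.TW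
  Cfsg.Agent.Lib.Helper3.BL
open scoped commutatorElement

/-- a central extension of a group with twisted Steinberg data -/
structure TExt {J K K' Γ : Type*} [Field K] [Field K'] [Algebra K K'] [Group Γ] {ν : J → J}
    {τ : Tw K K'} (B : TData J K K' Γ ν τ) (E : Type*) [Group E] where
  π : E →* Γ
  surj : Function.Surjective π
  central : π.ker ≤ Subgroup.center E
  third : ∀ a b : J, ∃ c, c ≠ a ∧ c ≠ b ∧ c ≠ ν a ∧ c ≠ ν b
  hLS : ∀ (a b p : J) (t : K) (u : K') (e₁ e₂ : E), p ≠ a → p ≠ b → p ≠ ν a → p ≠ ν b →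
    π e₁ = B.D.y a b t → π e₂ = B.Y p u → Commute e₁ e₂

section text
variable {J K K' Γ E : Type*} [Field K] [Field K'] [Algebra K K'] [Group Γ] [Group E] {ν : J → J}
  {τ : Tw K K'} {B : TData J K K' Γ ν τ} (T : TExt B E)

namespace TExt

/-- a chosen preimage -/
noncomputable def lift (g : Γ) : E := Function.surjInv T.surj g

theorem π_lift (g : Γ) : T.π (T.lift g) = g := Function.surjInv_eq T.surj g

theorem mem_center_of_π_eq_one {e : E} (h : T.π e = 1) : e ∈ Subgroup.center E :=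
  T.central (MonoidHom.mem_ker.2 h)

theorem comm_central {a b : E} (h : Commute (T.π a) (T.π b)) : ⁅a, b⁆ ∈ Subgroup.center E :=
  T.central (comm_mem_ker T.π h)

theorem commute_of_π_eq {w g e : E} (h : Commute w g) (he : T.π e = T.π g) : Commute w e := by
  have hz : g⁻¹ * e ∈ Subgroup.center E :=
    T.mem_center_of_π_eq_one (by rw [map_mul, map_inv, he, inv_mul_cancel])
  have e1 : e = g * (g⁻¹ * e) := by group
  rw [e1]
  exact h.mul_right (commute_of_central hz)

theorem comm_eq {a a' b b' : E} (ha : T.π a = T.π a') (hb : T.π b = T.π b') :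
    ⁅a, b⁆ = ⁅a', b'⁆ := comm_congr T.π T.central ha hb

/-- a long root element is a commutator of short root elements -/
theorem X_eq_comm_YY {p m : J} (h1 : p ≠ m) (h2 : p ≠ ν m) (s v : K') :
    ⁅B.Y p s, B.Y (ν m) (-v)⁆ = B.D.y p m (τ.P s v) := by
  have h3 : ν m ≠ ν p := fun h => h1 (B.D.nu_inj h).symm
  have := B.YY_rel p (ν m) s (-v) (Ne.symm h2) h3
  rw [B.D.nu_nu] at this
  rw [commutatorElement_def, this, τ.P_neg_right, neg_neg]

/-- lifts of long root elements which commute for generic reasons commute -/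
theorem XX_lift {a b p m : J} {t u : K} {e₁ e₂ : E} (h1 : b ≠ p) (h2 : a ≠ m) (h3 : a ≠ ν p)
    (h4 : b ≠ ν m) (he₁ : T.π e₁ = B.D.y a b t) (he₂ : T.π e₂ = B.D.y p m u) :
    Commute e₁ e₂ := by
  by_cases hpm : p = m
  · subst hpm
    rw [B.D.y_self] at he₂
    exact commute_of_central (T.mem_center_of_π_eq_one he₂)
  by_cases hpm' : p = ν m
  · subst hpm'
    rw [B.D.y_opp'] at he₂
    exact commute_of_central (T.mem_center_of_π_eq_one he₂)
  set y₁ := T.lift (B.Y p (u • τ.θ)) with hy₁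
  set y₂ := T.lift (B.Y (ν m) (-1)) with hy₂
  have c1 : ⁅e₁, y₁⁆ ∈ Subgroup.center E := by
    apply T.comm_central
    rw [he₁, T.π_lift]
    exact B.XY_comm a b p t _ (Ne.symm h1) (fun h => h3 (by rw [h, B.D.nu_nu]))
  have c2 : ⁅e₁, y₂⁆ ∈ Subgroup.center E := by
    apply T.comm_central
    rw [he₁, T.π_lift]
    exact B.XY_comm a b (ν m) t _ (Ne.symm h4) (fun h => h2 (B.D.nu_inj h).symm)
  have c3 : Commute e₁ ⁅y₁, y₂⁆ := commute_comm c1 c2
  apply T.commute_of_π_eq c3
  rw [he₂, map_commutatorElement, T.π_lift, T.π_lift, X_eq_comm_YY hpm hpm', τ.P_smul_left,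
    τ.P_θ_one, mul_one]

/-- a short root element is a commutator of a long and a short root element, up to a long root
element -/
theorem Y_eq_comm_XY {k c : J} (h1 : k ≠ c) (h2 : k ≠ ν c) (u : K') :
    B.Y k u = ⁅B.D.y k c 1, B.Y c u⁆ * (B.D.y k (ν c) (τ.N u))⁻¹ := by
  have := B.XY_rel k c 1 u h1 h2
  rw [commutatorElement_def, this, one_smul, one_mul]
  simp

/-- lifts of a long and a short root element which commute for generic reasons commute -/
theorem XY_lift {k l p : J} {t : K} {u : K'} {e₁ e₂ : E} (h1 : p ≠ l) (h2 : p ≠ ν k)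
    (he₁ : T.π e₁ = B.D.y k l t) (he₂ : T.π e₂ = B.Y p u) : Commute e₁ e₂ := by
  -- the case where the long root element is trivial
  by_cases hkl : k = l
  · subst hkl
    rw [B.D.y_self] at he₁
    exact (commute_of_central (T.mem_center_of_π_eq_one he₁)).symm
  by_cases hkl' : k = ν l
  · subst hkl'
    rw [B.D.y_opp'] at he₁
    exact (commute_of_central (T.mem_center_of_π_eq_one he₁)).symm
  have key : ∀ (k l : J) (t : K) (e₁ : E), k ≠ l → k ≠ ν l → T.π e₁ = B.D.y k l t →
      ∀ e₂ : E, T.π e₂ = B.Y k u → Commute e₁ e₂ := by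
    intro k l t e₁ hkl hkl' he₁ e₂ he₂
    obtain ⟨c, hc1, hc2, hc3, hc4⟩ := T.third k l
    have hkc' : k ≠ ν c := fun h => hc3 (by rw [h, B.D.nu_nu])
    set x₁ := T.lift (B.D.y k c 1) with hx₁
    set y := T.lift (B.Y c u) with hy
    set x₂ := T.lift (B.D.y k (ν c) (τ.N u)) with hx₂
    have a1 : Commute e₁ x₁ :=
      T.XX_lift (Ne.symm hkl) (Ne.symm hc1) (B.D.ne_nu k) (fun h => hc4 (by rw [h, B.D.nu_nu]))
        he₁ (T.π_lift _)
    have a2 : Commute e₁ y := T.hLS k l c t u e₁ y hc1 hc2 hc3 hc4 he₁ (T.π_lift _)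
    have a3 : Commute e₁ x₂ :=
      T.XX_lift (Ne.symm hkl) hkc' (B.D.ne_nu k) (by rw [B.D.nu_nu]; exact Ne.symm hc2)
        he₁ (T.π_lift _)
    have a4 : Commute e₁ (⁅x₁, y⁆ * x₂⁻¹) := by
      apply Commute.mul_right
      · rw [commutatorElement_def]
        exact ((a1.mul_right a2).mul_right a1.inv_right).mul_right a2.inv_right
      · exact a3.inv_right
    apply T.commute_of_π_eq a4
    rw [he₂, map_mul, map_inv, map_commutatorElement, T.π_lift, T.π_lift, T.π_lift]
    exact Y_eq_comm_XY (Ne.symm hc1) hkc' u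
  by_cases hpk : p = k
  · subst hpk
    exact key p l t e₁ hkl hkl' he₁ e₂ he₂
  by_cases hpl : p = ν l
  · subst hpl
    rw [B.D.y_flip] at he₁
    exact key (ν l) (ν k) (-t) e₁ (fun h => hkl (B.D.nu_inj h).symm)
      (by rw [B.D.nu_nu]; exact fun h => hkl' h.symm) he₁ e₂ he₂
  · exact T.hLS k l p t u e₁ e₂ hpk h1 h2 hpl he₁ he₂

end TExt

end text

end Cfsg.Agent.Lib.Helper3.TL
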