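import Cfsg.Agent.Lib.Helper3.TL1

/-!
# Central extensions of groups with twisted Steinberg data: the long root elements
-/

set_option linter.unusedSectionVars false
set_option linter.unusedVariables false
set_option linter.unusedSimpArgs false

namespace Cfsg.Agent.Lib.Helper3.TL

open Cfsg.Agent.Lib.Helper3.DN Cfsg.Agent.Lib.Helper3.DS Cfsg.Agent.Lib.Helper3.BN
  Cfsg.Agent.Lib.Helper3.StU Cfsg.Agent.Lib.Helper3.TN Cfsg.Agent.Lib.Helper3.TW
  Cfsg.Agent.Lib.Helper3.BL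
open scoped commutatorElement

section text
variable {J K K' Γ E : Type*} [Field K] [Field K'] [Algebra K K'] [Group Γ] [Group E] {ν : J → J}
  {τ : Tw K K'} {B : TData J K K' Γ ν τ} (T : TExt B E)

namespace TExt

/-- the bracket of lifts of two short root elements -/
noncomputable def N (k m : J) (s v : K') : E := ⁅T.lift (B.Y k s), T.lift (B.Y (ν m) (-v))⁆

theorem N_eq {k m : J} {s v : K'} {a b : E} (ha : T.π a = B.Y k s)
    (hb : T.π b = B.Y (ν m) (-v)) : ⁅a, b⁆ = T.N k m s v :=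
  T.comm_eq (ha.trans (T.π_lift _).symm) (hb.trans (T.π_lift _).symm)

theorem π_N {k m : J} (h1 : k ≠ m) (h2 : k ≠ ν m) (s v : K') :
    T.π (T.N k m s v) = B.D.y k m (τ.P s v) := by
  unfold N
  rw [map_commutatorElement, T.π_lift, T.π_lift]
  exact X_eq_comm_YY h1 h2 s v

theorem N_comm_N {k m : J} (h1 : k ≠ m) (h2 : k ≠ ν m) (s v s' v' : K') :
    Commute (T.N k m s v) (T.N k m s' v') :=
  T.XX_lift (Ne.symm h1) h1 (B.D.ne_nu k) (B.D.ne_nu m) (T.π_N h1 h2 s v) (T.π_N h1 h2 s' v')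

theorem N_add_left {k m : J} (h1 : k ≠ m) (h2 : k ≠ ν m) (s s' v : K') :
    T.N k m (s + s') v = T.N k m s v * T.N k m s' v := by
  set a := T.lift (B.Y k s) with ha
  set a' := T.lift (B.Y k s') with ha'
  set b := T.lift (B.Y (ν m) (-v)) with hb
  have e1 : T.π (a * a') = B.Y k (s + s') := by
    rw [map_mul, T.π_lift, T.π_lift, B.Y_add]
  rw [← T.N_eq e1 (T.π_lift _), comm_mul_left_eq]
  have e2 : ⁅a', b⁆ = T.N k m s' v := rfl
  have e3 : ⁅a, b⁆ = T.N k m s v := rfl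
  have c1 : Commute a ⁅a', b⁆ := by
    rw [e2]
    exact (T.XY_lift h1 (B.D.ne_nu k) (T.π_N h1 h2 s' v) (T.π_lift _)).symm
  have e4 : a * ⁅a', b⁆ * a⁻¹ * ⁅a, b⁆ = ⁅a', b⁆ * ⁅a, b⁆ := by rw [c1.eq]; group
  rw [e4, e2, e3, (T.N_comm_N h1 h2 s' v s v).eq]

theorem N_add_right {k m : J} (h1 : k ≠ m) (h2 : k ≠ ν m) (s v v' : K') :
    T.N k m s (v + v') = T.N k m s v * T.N k m s v' := by
  set a := T.lift (B.Y k s) with ha
  set b := T.lift (B.Y (ν m) (-v)) with hb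
  set b' := T.lift (B.Y (ν m) (-v')) with hb'
  have e1 : T.π (b * b') = B.Y (ν m) (-(v + v')) := by
    rw [map_mul, T.π_lift, T.π_lift, ← B.Y_add, neg_add]
  rw [← T.N_eq (T.π_lift _) e1, comm_mul_right_eq]
  have e2 : ⁅a, b'⁆ = T.N k m s v' := rfl
  have e3 : ⁅a, b⁆ = T.N k m s v := rfl
  have c1 : Commute b ⁅a, b'⁆ := by
    rw [e2]
    exact (T.XY_lift (B.D.nu_ne m) (fun h => h1 (B.D.nu_inj h).symm) (T.π_N h1 h2 s v')
      (T.π_lift _)).symm
  have e4 : b * ⁅a, b'⁆ * b⁻¹ = ⁅a, b'⁆ := by rw [c1.eq]; group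
  rw [e4, e2, e3]

/-- the bracket of two long root elements in terms of the bracket of short root elements -/
theorem N_eq_comm {k l m : J} (hT : Tri ν k l m) (s t' : K') (u : K) {e₁ e₂ : E}
    (he₁ : T.π e₁ = B.D.y k l (τ.P s t')) (he₂ : T.π e₂ = B.D.y l m u) :
    ⁅e₁, e₂⁆ = T.N k m s (u • t') := by
  have hνν := B.D.nu_nu
  set a := T.lift (B.Y k s) with ha
  set b := T.lift (B.Y (ν l) (-t')) with hb
  set c := e₂ with hc
  have hab : T.π ⁅a, b⁆ = B.D.y k l (τ.P s t') := T.π_N hT.ab hT.ab' s t'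
  -- the image of `⁅b, c⁆`
  have hml : ν m ≠ ν l := fun h => hT.bc (B.D.nu_inj h).symm
  have hml' : ν m ≠ ν (ν l) := by rw [hνν]; exact fun h => hT.bc' h.symm
  have hrel := B.XY_rel (ν m) (ν l) (-u) (-t') hml hml'
  rw [hνν, ← B.D.y_flip l m u, show -u • -t' = u • t' by rw [neg_smul, smul_neg, neg_neg],
    show -u * τ.N (-t') = -(u * τ.N t') by rw [τ.N_neg]; ring] at hrel
  set y₂ := T.lift (B.Y (ν m) (u • t')) with hy₂
  set x₂ := T.lift (B.D.y (ν m) l (-(u * τ.N t'))) with hx₂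
  have hbc : T.π ⁅b, c⁆ = T.π (y₂ * x₂)⁻¹ := by
    rw [map_commutatorElement, T.π_lift, he₂, map_inv, map_mul, T.π_lift, T.π_lift, ← hrel]
    simp only [commutatorElement_def]
    group
  -- commutation properties
  have hac : Commute a c :=
    (T.XY_lift hT.ac hT.ab' he₂ (T.π_lift _)).symm
  have q1 : Commute ⁅a, b⁆ y₂ :=
    T.XY_lift (fun h => hT.bc' h.symm) (fun h => hT.ac (B.D.nu_inj h).symm) hab (T.π_lift _)
  have q2 : Commute ⁅a, b⁆ x₂ :=
    T.XX_lift (fun h => hT.bc' h) hT.ab (by rw [hνν]; exact hT.ac) (B.D.ne_nu l) hab (T.π_lift _)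
  have h1 : Commute ⁅a, b⁆ ⁅b, c⁆ :=
    T.commute_of_π_eq (q1.mul_right q2).inv_right hbc
  have h2 : ⁅⁅b, c⁆, c⁆ ∈ Subgroup.center E := by
    apply T.comm_central
    rw [hbc, map_inv, map_mul, T.π_lift, T.π_lift, he₂]
    apply Commute.inv_left
    apply Commute.mul_left
    · exact (B.XY_comm l m (ν m) u _ (B.D.nu_ne m) hml).symm
    · rw [B.D.y_flip l m u]
      have := B.D.comm1 (ν m) l (-(u * τ.N t')) (-u)
      exact this
  have e1 : ⁅e₁, e₂⁆ = ⁅⁅a, b⁆, c⁆ := T.comm_eq (he₁.trans hab.symm) rfl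
  rw [e1, ← hw_aux' hac h1 h2, T.comm_eq (rfl : T.π a = T.π a) hbc, mul_inv_rev,
    comm_mul_right_eq]
  -- the two remaining brackets
  have q3 : Commute a x₂ :=
    (T.XY_lift hT.ab (by rw [hνν]; exact hT.ac) (T.π_lift _) (T.π_lift _)).symm
  have e2 : ⁅a, x₂⁻¹⁆ = 1 := by
    rw [commutatorElement_def, (q3.inv_right).eq]; group
  have e3 : ⁅a, y₂⁻¹⁆ = T.N k m s (u • t') := by
    apply T.N_eq (T.π_lift _)
    rw [map_inv, T.π_lift, B.Y_neg]
  have q4 : Commute x₂ (T.N k m s (u • t')) :=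
    T.XX_lift (Ne.symm hT.ab) (B.D.nu_ne m) (fun h => hT.ac (B.D.nu_inj h).symm) hT.bc'
      (T.π_lift _) (T.π_N hT.ac hT.ac' s (u • t'))
  rw [e2, e3, one_mul, (q4.inv_left).eq]
  group

open Classical in
/-- the canonical lifts of the long root elements -/
noncomputable def xh (k m : J) (x : K) : E :=
  if k ≠ m ∧ k ≠ ν m then T.N k m (x • τ.θ) 1 else 1

theorem xh_root {k m : J} (h1 : k ≠ m) (h2 : k ≠ ν m) (x : K) :
    T.xh k m x = T.N k m (x • τ.θ) 1 := by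
  unfold xh
  rw [if_pos ⟨h1, h2⟩]

theorem xh_not_root {k m : J} (h : ¬ (k ≠ m ∧ k ≠ ν m)) (x : K) : T.xh k m x = 1 := by
  unfold xh
  rw [if_neg h]

/-- the bracket of lifts of short root elements only depends on the value of the polar form -/
theorem N_eq_xh {k m : J} (h1 : k ≠ m) (h2 : k ≠ ν m) (s v : K') :
    T.N k m s v = T.xh k m (τ.P s v) := by
  rw [T.xh_root h1 h2]
  obtain ⟨l, hl1, hl2, hl3, hl4⟩ := T.third k m
  have hT : Tri ν k l m :=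
    ⟨Ne.symm hl1, h1, hl2, fun h => hl3 (by rw [h, B.D.nu_nu]), h2, hl4⟩
  have e1 := T.N_eq_comm hT s v 1 (T.π_lift (B.D.y k l (τ.P s v))) (T.π_lift (B.D.y l m 1))
  have e2 := T.N_eq_comm hT (τ.P s v • τ.θ) 1 1
    (e₁ := T.lift (B.D.y k l (τ.P s v))) (e₂ := T.lift (B.D.y l m 1))
    (by rw [T.π_lift, τ.P_smul_left, τ.P_θ_one, mul_one]) (T.π_lift _)
  rw [one_smul] at e1 e2
  rw [← e1, e2]

theorem π_xh (k m : J) (x : K) : T.π (T.xh k m x) = B.D.y k m x := by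
  by_cases h : k ≠ m ∧ k ≠ ν m
  · rw [T.xh_root h.1 h.2, T.π_N h.1 h.2, τ.P_smul_left, τ.P_θ_one, mul_one]
  · rw [T.xh_not_root h, map_one]
    by_cases h1 : k = m
    · rw [h1, B.D.y_self]
    · have h3 : k = ν m := by
        by_contra h'
        exact h ⟨h1, h'⟩
      rw [h3, B.D.y_opp']

theorem xh_add (k m : J) (x y : K) : T.xh k m (x + y) = T.xh k m x * T.xh k m y := by
  by_cases h : k ≠ m ∧ k ≠ ν m
  · rw [T.xh_root h.1 h.2, T.xh_root h.1 h.2, T.xh_root h.1 h.2, add_smul,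
      T.N_add_left h.1 h.2]
  · rw [T.xh_not_root h, T.xh_not_root h, T.xh_not_root h, one_mul]

theorem xh_zero (k m : J) : T.xh k m 0 = 1 := by
  have h := T.xh_add k m 0 0
  rw [add_zero] at h
  exact (mul_eq_left.1 h.symm)

theorem xh_neg (k m : J) (x : K) : T.xh k m (-x) = (T.xh k m x)⁻¹ := by
  apply eq_inv_of_mul_eq_one_left
  rw [← T.xh_add, neg_add_cancel, T.xh_zero]

/-- the commutator relation of the canonical lifts -/
theorem xh_rel {k l m : J} (hT : Tri ν k l m) (t u : K) {e₁ e₂ : E}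
    (he₁ : T.π e₁ = B.D.y k l t) (he₂ : T.π e₂ = B.D.y l m u) :
    ⁅e₁, e₂⁆ = T.xh k m (t * u) := by
  have e1 := T.N_eq_comm hT (t • τ.θ) 1 u (e₁ := e₁) (e₂ := e₂)
    (by rw [he₁, τ.P_smul_left, τ.P_θ_one, mul_one]) he₂
  rw [e1, T.N_eq_xh hT.ac hT.ac', τ.P_smul_left, τ.P_smul_right, τ.P_θ_one, mul_one]

theorem xh_flip (k m : J) (x : K) : T.xh k m x = T.xh (ν m) (ν k) (-x) := by
  by_cases h : k ≠ m ∧ k ≠ ν m
  · have h1 : ν m ≠ ν k := fun e => h.1 (B.D.nu_inj e).symm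
    have h2 : ν m ≠ ν (ν k) := by rw [B.D.nu_nu]; exact fun e => h.2 e.symm
    rw [T.xh_root h.1 h.2]
    -- `⁅a, b⁆ = ⁅b, a⁆⁻¹`
    have e1 : T.N k m (x • τ.θ) 1 = (T.N (ν m) (ν k) (-1) (-(x • τ.θ)))⁻¹ := by
      unfold N
      rw [B.D.nu_nu, neg_neg, commutatorElement_inv]
    rw [e1, T.N_eq_xh h1 h2, ← T.xh_neg]
    congr 1
    rw [τ.P_neg_left, τ.P_neg_right, neg_neg, τ.P_comm, τ.P_smul_left, τ.P_θ_one, mul_one]
  · rw [T.xh_not_root h, T.xh_not_root]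
    rintro ⟨h1, h2⟩
    apply h
    refine ⟨fun e => h1 (by rw [e]), fun e => h2 ?_⟩
    rw [B.D.nu_nu]
    exact e.symm

theorem xh_comm (k l p m : J) (t u : K) (h1 : l ≠ p) (h2 : k ≠ m) (h3 : k ≠ ν p)
    (h4 : l ≠ ν m) : Commute (T.xh k l t) (T.xh p m u) :=
  T.XX_lift h1 h2 h3 h4 (T.π_xh k l t) (T.π_xh p m u)

end TExt

end text

end Cfsg.Agent.Lib.Helper3.TL
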