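import Cfsg.Agent.Lib.Helper3.TL2

/-!
# Central extensions of groups with twisted Steinberg data: the data of type `D` of the lifts
-/

set_option linter.unusedSectionVars false
set_option linter.unusedVariables false
set_option linter.unusedSimpArgs false

namespace Cfsg.Agent.Lib.Helper3.TL

open Cfsg.Agent.Lib.Helper3.DN Cfsg.Agent.Lib.Helper3.DS Cfsg.Agent.Lib.Helper3.BN
  Cfsg.Agent.Lib.Helper3.StU Cfsg.Agent.Lib.Helper3.TN Cfsg.Agent.Lib.Helper3.TW
  Cfsg.Agent.Lib.Helper3.BL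
open scoped commutatorElement

section text
variable {J K K' Γ E : Type*} [Field K] [Field K'] [Algebra K K'] [Group Γ] [Group E] {ν : J → J}
  {τ : Tw K K'} {B : TData J K K' Γ ν τ} (T : TExt B E)

namespace TExt

theorem commute_of_π_eq_both {a b a' b' : E} (h : Commute a b) (ha : T.π a' = T.π a)
    (hb : T.π b' = T.π b) : Commute a' b' :=
  T.commute_of_π_eq (T.commute_of_π_eq h.symm ha).symm hb

/-- the canonical lifts of the long root elements for the roots `e_k - e_l` and `e_k + e_l`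
commute -/
theorem xh_comm' (k l : J) (t u : K) : Commute (T.xh k l t) (T.xh k (ν l) u) := by
  have hνν := B.D.nu_nu
  by_cases hr : k ≠ l ∧ k ≠ ν l
  · obtain ⟨hkl, hkl'⟩ := hr
    obtain ⟨p, hp1, hp2, hp3, hp4⟩ := T.third k l
    have hkp' : k ≠ ν p := fun h => hp3 (by rw [h, hνν])
    have hlp' : l ≠ ν p := fun h => hp4 (by rw [h, hνν])
    have hlk' : l ≠ ν k := fun h => hkl' (by rw [h, hνν])
    have T1 : Tri ν k p l := ⟨Ne.symm hp1, hkl, hp2, hkp', hkl', hp4⟩
    have T2 : Tri ν p l (ν k) :=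
      ⟨hp2, hp3, hlk', hp4, by rw [hνν]; exact hp1, by rw [hνν]; exact Ne.symm hkl⟩
    have T3 : Tri ν k l (ν p) :=
      ⟨hkl, hkp', hlp', hkl', by rw [hνν]; exact Ne.symm hp1, by rw [hνν]; exact Ne.symm hp2⟩
    set a := T.xh p l t with ha
    set b := T.xh p (ν l) u with hb
    set g := T.xh k p 1 with hg
    set A := T.xh k l t with hA
    set Bb := T.xh k (ν l) u with hBb
    set P := T.xh p (ν k) (t * u) with hP
    have hga : g * a * g⁻¹ = A * a := by
      have h0 : ⁅g, a⁆ = A := by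
        have := T.xh_rel T1 1 t (T.π_xh k p 1) (T.π_xh p l t)
        rw [one_mul] at this
        exact this
      rw [← h0, commutatorElement_def]
      group
    have hgb : g * b * g⁻¹ = Bb * b := by
      have T1' : Tri ν k p (ν l) :=
        ⟨Ne.symm hp1, hkl', hp4, hkp', by rw [hνν]; exact hkl, by rw [hνν]; exact hp2⟩
      have h0 : ⁅g, b⁆ = Bb := by
        have := T.xh_rel T1' 1 u (T.π_xh k p 1) (T.π_xh p (ν l) u)
        rw [one_mul] at this
        exact this
      rw [← h0, commutatorElement_def]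
      group
    have h3 : ⁅a, Bb⁆ = P⁻¹ := by
      have e1 : T.π Bb = B.D.y l (ν k) (-u) := by
        rw [T.π_xh, B.D.y_flip, hνν]
      rw [T.xh_rel T2 t (-u) (T.π_xh p l t) e1, hP, ← T.xh_neg]
      congr 1
      ring
    have h4 : ⁅A, b⁆ = P := by
      have e1 : T.π b = B.D.y l (ν p) (-u) := by
        rw [T.π_xh, B.D.y_flip, hνν]
      rw [T.xh_rel T3 t (-u) (T.π_xh k l t) e1, T.xh_flip, hνν, hP]
      congr 1
      ring
    have hPA : Commute P A := T.xh_comm p (ν k) k l _ _ (B.D.nu_ne k) hp2 hp3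
      (fun h => hkl (B.D.nu_inj h))
    have hPB : Commute P Bb := T.xh_comm p (ν k) k (ν l) _ _ (B.D.nu_ne k) hp4 hp3
      (by rw [hνν]; exact fun h => hlk' h.symm)
    have hPa : Commute P a := T.xh_comm p (ν k) p l _ _ (Ne.symm hp3) hp2 (B.D.ne_nu p)
      (fun h => hkl (B.D.nu_inj h))
    have hPb : Commute P b := T.xh_comm p (ν k) p (ν l) _ _ (Ne.symm hp3) hp4 (B.D.ne_nu p)
      (by rw [hνν]; exact fun h => hlk' h.symm)
    have hFc : ∀ x, ⁅a, b⁆ * x = x * ⁅a, b⁆ := by
      intro x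
      have : ⁅a, b⁆ ∈ Subgroup.center E := by
        apply T.comm_central
        rw [T.π_xh, T.π_xh]
        exact B.D.comm1 p l t u
      exact (Subgroup.mem_center_iff.1 this x).symm
    have hF'c : ∀ x, ⁅A, Bb⁆ * x = x * ⁅A, Bb⁆ := by
      intro x
      have : ⁅A, Bb⁆ ∈ Subgroup.center E := by
        apply T.comm_central
        rw [T.π_xh, T.π_xh]
        exact B.D.comm1 k l t u
      exact (Subgroup.mem_center_iff.1 this x).symm
    have := fork_aux (F := ⁅a, b⁆) (F' := ⁅A, Bb⁆) rfl hFc rfl hF'c h3 h4 hPA hPB hPa hPb hga hgb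
    exact (commutatorElement_eq_one_iff_commute.1 this)
  · rw [T.xh_not_root hr]
    exact Commute.one_left _

/-- lifts of the long root elements for the roots `e_k - e_l` and `e_k + e_l` commute -/
theorem XX'_lift {k l : J} {t u : K} {e₁ e₂ : E} (he₁ : T.π e₁ = B.D.y k l t)
    (he₂ : T.π e₂ = B.D.y k (ν l) u) : Commute e₁ e₂ :=
  T.commute_of_π_eq_both (T.xh_comm' k l t u) (he₁.trans (T.π_xh _ _ _).symm)
    (he₂.trans (T.π_xh _ _ _).symm)

/-- lifts of short root elements for the same root commute -/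
theorem YY_lift {k : J} {s u : K'} {e₁ e₂ : E} (he₁ : T.π e₁ = B.Y k s)
    (he₂ : T.π e₂ = B.Y k u) : Commute e₁ e₂ := by
  have hνν := B.D.nu_nu
  obtain ⟨p, hp1, -, hp3, -⟩ := T.third k k
  have hkp' : k ≠ ν p := fun h => hp3 (by rw [h, hνν])
  set b := T.lift (B.D.y k p 1) with hb
  set c := T.lift (B.Y p u) with hc
  set d := T.lift (B.D.y k (ν p) (τ.N u)) with hd
  have hab : Commute e₁ b :=
    (T.XY_lift (Ne.symm hp1) (B.D.ne_nu k) (T.π_lift _) he₁).symm
  have had : Commute e₁ d :=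
    (T.XY_lift hkp' (B.D.ne_nu k) (T.π_lift _) he₁).symm
  set n := ⁅e₁, c⁆ with hn
  have hπn : T.π n = B.D.y k (ν p) (τ.P s (-u)) := by
    have : n = T.N k (ν p) s (-u) := by
      apply T.N_eq he₁
      rw [hνν, neg_neg, T.π_lift]
    rw [this, T.π_N hkp' (by rw [hνν]; exact Ne.symm hp1)]
  have hnb : Commute n b := (T.XX'_lift (T.π_lift _) hπn).symm
  have hnc : Commute n c :=
    T.XY_lift (B.D.ne_nu p) hp3 hπn (T.π_lift _)
  have e1 : e₁ * b * e₁⁻¹ = b := by rw [hab.eq]; group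
  have e2 : e₁ * c * e₁⁻¹ = n * c := by rw [hn, commutatorElement_def]; group
  have e3 : e₁ * ⁅b, c⁆ * e₁⁻¹ = ⁅b, c⁆ := by
    rw [conj_comm, e1, e2, comm_mul_right_eq]
    have q1 : ⁅b, n⁆ = 1 := commutatorElement_eq_one_iff_commute.2 hnb.symm
    have q2 : Commute n ⁅b, c⁆ := by
      rw [commutatorElement_def]
      exact ((hnb.mul_right hnc).mul_right hnb.inv_right).mul_right hnc.inv_right
    rw [q1, one_mul, q2.eq]
    group
  have e4 : Commute e₁ ⁅b, c⁆ := by
    show e₁ * ⁅b, c⁆ = ⁅b, c⁆ * e₁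
    calc e₁ * ⁅b, c⁆ = e₁ * ⁅b, c⁆ * e₁⁻¹ * e₁ := by group
      _ = ⁅b, c⁆ * e₁ := by rw [e3]
  have e5 : Commute e₁ (⁅b, c⁆ * d⁻¹) := e4.mul_right had.inv_right
  apply T.commute_of_π_eq e5
  rw [he₂, map_mul, map_inv, map_commutatorElement, T.π_lift, T.π_lift, T.π_lift]
  exact Y_eq_comm_XY (Ne.symm hp1) hkp' u

/-- the Steinberg data of type `D` of the canonical lifts -/
noncomputable def liftDD : DData J K E ν where
  nu_nu := B.D.nu_nu
  nu_ne := B.D.nu_ne
  y := T.xh
  y_self := fun k t => T.xh_not_root (fun h => h.1 rfl) t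
  y_opp := fun k t => T.xh_not_root (fun h => h.2 (B.D.nu_nu k).symm) t
  y_flip := T.xh_flip
  y_add := T.xh_add
  y_comm := fun k l p m t u h1 h2 h3 h4 => (T.xh_comm k l p m t u h1 h2 h3 h4).eq
  y_comm' := fun k l t u => (T.xh_comm' k l t u).eq
  y_rel := fun k l m t u h1 h2 h3 h4 h5 h6 => by
    have := T.xh_rel ⟨h1, h3, h2, h4, h6, h5⟩ t u (T.π_xh k l t) (T.π_xh l m u)
    rw [commutatorElement_def] at this
    exact this

theorem liftDD_y (k l : J) (t : K) : T.liftDD.y k l t = T.xh k l t := rfl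

end TExt

end text

end Cfsg.Agent.Lib.Helper3.TL
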