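import Cfsg.Agent.Lib.Helper3.TN5
import Cfsg.Agent.Lib.Helper3.BS1

/-!
# The Steinberg group of twisted type `²D`: the group presented by the relations of `TData`
-/

set_option linter.unusedSectionVars false
set_option linter.unusedVariables false
set_option linter.unusedSimpArgs false

namespace Cfsg.Agent.Lib.Helper3.TS

open Cfsg.Agent.Lib.Helper3.DN Cfsg.Agent.Lib.Helper3.DS Cfsg.Agent.Lib.Helper3.BN
  Cfsg.Agent.Lib.Helper3.BS Cfsg.Agent.Lib.Helper3.TN Cfsg.Agent.Lib.Helper3.TW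

section maps
variable {J K K' G H : Type*} [Field K] [Field K'] [Algebra K K'] [Group G] [Group H] {ν : J → J}
  {τ : Tw K K'}

/-- the image of twisted Steinberg data under a homomorphism -/
def mapT (B : TData J K K' G ν τ) (f : G →* H) : TData J K K' H ν τ where
  D := mapD B.D f
  Y := fun k t => f (B.Y k t)
  Y_add := fun k t u => by rw [B.Y_add, map_mul]
  XY_comm := fun k l p t u h1 h2 => by
    show f _ * f _ = f _ * f _
    rw [← map_mul, ← map_mul, B.XY_comm k l p t u h1 h2]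
  XY_rel := fun k l s t h1 h2 => by
    show f _ * f _ * (f _)⁻¹ * (f _)⁻¹ = f _ * f _
    rw [← map_inv, ← map_inv, ← map_mul, ← map_mul, ← map_mul, ← map_mul, B.XY_rel k l s t h1 h2]
  YY_rel := fun k l s t h1 h2 => by
    show f _ * f _ * (f _)⁻¹ * (f _)⁻¹ = f _
    rw [← map_inv, ← map_inv, ← map_mul, ← map_mul, ← map_mul, B.YY_rel k l s t h1 h2]

theorem mapT_y (B : TData J K K' G ν τ) (f : G →* H) (k l : J) (t : K) :
    (mapT B f).D.y k l t = f (B.D.y k l t) := rfl

theorem mapT_Y (B : TData J K K' G ν τ) (f : G →* H) (k : J) (t : K') :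
    (mapT B f).Y k t = f (B.Y k t) := rfl

end maps

section pres
variable (J K K' : Type*) [Field K] [Field K'] [Algebra K K'] (ν : J → J) (τ : Tw K K')

/-- the generators of the twisted Steinberg group -/
abbrev GenT := (J × J × K) ⊕ (J × K')

variable {J K K'}

/-- the long generators in the free group -/
def fXT (k l : J) (t : K) : FreeGroup (GenT J K K') := FreeGroup.of (Sum.inl (k, l, t))

/-- the short generators in the free group -/
def fYT (k : J) (t : K') : FreeGroup (GenT J K K') := FreeGroup.of (Sum.inr (k, t))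

variable (J K K')

/-- the relators of the twisted Steinberg group -/
def relsT : Set (FreeGroup (GenT J K K')) :=
  (FreeGroup.map (Sum.inl : J × J × K → GenT J K K') '' relsD J K ν) ∪
  {g | ∃ k t u, g = fYT k t * fYT k u * (fYT k (t + u))⁻¹} ∪
  {g | ∃ k l p, ∃ (t : K) (u : K'), p ≠ l ∧ p ≠ ν k ∧
      g = fXT k l t * fYT p u * (fXT k l t)⁻¹ * (fYT p u)⁻¹} ∪
  {g | ∃ k l, ∃ (s : K) (t : K'), k ≠ l ∧ k ≠ ν l ∧
      g = fXT k l s * fYT l t * (fXT k l s)⁻¹ * (fYT l t)⁻¹ *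
        (fYT k (s • t) * fXT k (ν l) (s * τ.N t))⁻¹} ∪
  {g | ∃ k l, ∃ (s t : K'), l ≠ k ∧ l ≠ ν k ∧
      g = fYT k s * fYT l t * (fYT k s)⁻¹ * (fYT l t)⁻¹ * (fXT k (ν l) (-(τ.P s t)))⁻¹}

/-- the twisted Steinberg group -/
abbrev StT := PresentedGroup (relsT J K K' ν τ)

variable {J K K' ν τ}

/-- the long generators -/
def tX (k l : J) (t : K) : StT J K K' ν τ := PresentedGroup.of (Sum.inl (k, l, t))

/-- the short generators -/
def tY (k : J) (t : K') : StT J K K' ν τ := PresentedGroup.of (Sum.inr (k, t))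

theorem mk_fXT (k l : J) (t : K) :
    (QuotientGroup.mk (fXT k l t) : StT J K K' ν τ) = tX k l t := rfl

theorem mk_fYT (k : J) (t : K') :
    (QuotientGroup.mk (fYT k t) : StT J K K' ν τ) = tY k t := rfl

theorem relsD_liftT : ∀ r ∈ relsD J K ν,
    FreeGroup.lift (fun p : J × J × K => (tX p.1 p.2.1 p.2.2 : StT J K K' ν τ)) r = 1 := by
  intro r hr
  have h1 : FreeGroup.map (Sum.inl : J × J × K → GenT J K K') r ∈ relsT J K K' ν τ :=
    Or.inl (Or.inl (Or.inl (Or.inl ⟨r, hr, rfl⟩)))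
  have h2 := PresentedGroup.one_of_mem h1
  have h3 : ∀ x : FreeGroup (J × J × K),
      FreeGroup.lift (fun p : J × J × K => (tX p.1 p.2.1 p.2.2 : StT J K K' ν τ)) x =
        PresentedGroup.mk (relsT J K K' ν τ)
          (FreeGroup.map (Sum.inl : J × J × K → GenT J K K') x) := by
    intro x
    have : FreeGroup.lift (fun p : J × J × K => (tX p.1 p.2.1 p.2.2 : StT J K K' ν τ)) =
        (PresentedGroup.mk (relsT J K K' ν τ)).comp
          (FreeGroup.map (Sum.inl : J × J × K → GenT J K K')) := by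
      ext p
      simp only [FreeGroup.lift_apply_of, MonoidHom.comp_apply, FreeGroup.map.of]
      rfl
    rw [this]
    rfl
  rw [h3]
  exact h2

/-- the homomorphism from the Steinberg group of type `D` -/
def jT : StD J K ν →* StT J K K' ν τ := PresentedGroup.toGroup relsD_liftT

theorem jT_sy (k l : J) (t : K) : jT (sy k l t : StD J K ν) = (tX k l t : StT J K K' ν τ) :=
  PresentedGroup.toGroup.of relsD_liftT

theorem tY_add (k : J) (t u : K') :
    (tY k (t + u) : StT J K K' ν τ) = tY k t * tY k u := by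
  have h : fYT k t * fYT k u * (fYT k (t + u))⁻¹ ∈ relsT J K K' ν τ :=
    Or.inl (Or.inl (Or.inl (Or.inr ⟨k, t, u, rfl⟩)))
  have h1 := PresentedGroup.one_of_mem h
  rw [map_mul, map_mul, map_inv] at h1
  exact (mul_inv_eq_one.mp h1).symm

theorem tXY_comm (k l p : J) (t : K) (u : K') (h1 : p ≠ l) (h2 : p ≠ ν k) :
    (tX k l t : StT J K K' ν τ) * tY p u = tY p u * tX k l t := by
  have h : fXT k l t * fYT p u * (fXT k l t)⁻¹ * (fYT p u)⁻¹ ∈ relsT J K K' ν τ :=
    Or.inl (Or.inl (Or.inr ⟨k, l, p, t, u, h1, h2, rfl⟩))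
  have h5 := PresentedGroup.one_of_mem h
  rw [map_mul, map_mul, map_mul, map_inv, map_inv] at h5
  have h6 := mul_inv_eq_one.mp h5
  exact mul_inv_eq_iff_eq_mul.mp h6

theorem tXY_rel (k l : J) (s : K) (t : K') (h1 : k ≠ l) (h2 : k ≠ ν l) :
    (tX k l s : StT J K K' ν τ) * tY l t * (tX k l s)⁻¹ * (tY l t)⁻¹ =
      tY k (s • t) * tX k (ν l) (s * τ.N t) := by
  have h : fXT k l s * fYT l t * (fXT k l s)⁻¹ * (fYT l t)⁻¹ *
      (fYT k (s • t) * fXT k (ν l) (s * τ.N t))⁻¹ ∈ relsT J K K' ν τ :=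
    Or.inl (Or.inr ⟨k, l, s, t, h1, h2, rfl⟩)
  have h7 := PresentedGroup.one_of_mem h
  rw [map_mul, map_mul, map_mul, map_mul, map_inv, map_inv, map_inv, map_mul] at h7
  exact mul_inv_eq_one.mp h7

theorem tYY_rel (k l : J) (s t : K') (h1 : l ≠ k) (h2 : l ≠ ν k) :
    (tY k s : StT J K K' ν τ) * tY l t * (tY k s)⁻¹ * (tY l t)⁻¹ =
      tX k (ν l) (-(τ.P s t)) := by
  have h : fYT k s * fYT l t * (fYT k s)⁻¹ * (fYT l t)⁻¹ * (fXT k (ν l) (-(τ.P s t)))⁻¹ ∈
      relsT J K K' ν τ :=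
    Or.inr ⟨k, l, s, t, h1, h2, rfl⟩
  have h7 := PresentedGroup.one_of_mem h
  rw [map_mul, map_mul, map_mul, map_mul, map_inv, map_inv, map_inv] at h7
  exact mul_inv_eq_one.mp h7

/-- the tautological Steinberg data -/
def stdT (hν1 : ∀ k, ν (ν k) = k) (hν2 : ∀ k, ν k ≠ k) :
    TData J K K' (StT J K K' ν τ) ν τ where
  D := mapD (stdD hν1 hν2) jT
  Y := tY
  Y_add := tY_add
  XY_comm := fun k l p t u h1 h2 => by
    show jT (sy k l t) * _ = _ * jT (sy k l t)
    rw [jT_sy]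
    exact tXY_comm k l p t u h1 h2
  XY_rel := fun k l s t h1 h2 => by
    show jT (sy k l s) * _ * (jT (sy k l s))⁻¹ * _ = _ * jT (sy k (ν l) (s * τ.N t))
    rw [jT_sy, jT_sy]
    exact tXY_rel k l s t h1 h2
  YY_rel := fun k l s t h1 h2 => by
    show _ = jT (sy k (ν l) (-(τ.P s t)))
    rw [jT_sy]
    exact tYY_rel k l s t h1 h2

theorem stdT_y (hν1 : ∀ k, ν (ν k) = k) (hν2 : ∀ k, ν k ≠ k) (k l : J) (t : K) :
    (stdT (τ := τ) hν1 hν2).D.y k l t = tX k l t := jT_sy k l t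

theorem stdT_Y (hν1 : ∀ k, ν (ν k) = k) (hν2 : ∀ k, ν k ≠ k) (k : J) (t : K') :
    (stdT (τ := τ) hν1 hν2).Y k t = tY k t := rfl

theorem stdT_gen (hν1 : ∀ k, ν (ν k) = k) (hν2 : ∀ k, ν k ≠ k) :
    (stdT (τ := τ) hν1 hν2).Gen := by
  unfold TData.Gen
  rw [eq_top_iff, ← PresentedGroup.closure_range_of (relsT J K K' ν τ)]
  apply Subgroup.closure_mono
  rintro _ ⟨(⟨k, l, t⟩ | ⟨k, t⟩), rfl⟩
  · exact Or.inl ⟨k, l, t, (stdT_y hν1 hν2 k l t).symm⟩
  · exact Or.inr ⟨k, t, rfl⟩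

section lift
variable {G : Type*} [Group G] (B : TData J K K' G ν τ)

/-- the images of the generators -/
def genMapT : GenT J K K' → G
  | Sum.inl p => B.D.y p.1 p.2.1 p.2.2
  | Sum.inr p => B.Y p.1 p.2

theorem lift_fXT (k l : J) (t : K) : FreeGroup.lift (genMapT B) (fXT k l t) = B.D.y k l t := by
  unfold fXT
  rw [FreeGroup.lift_apply_of]
  rfl

theorem lift_fYT (k : J) (t : K') : FreeGroup.lift (genMapT B) (fYT k t) = B.Y k t := by
  unfold fYT
  rw [FreeGroup.lift_apply_of]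
  rfl

theorem relsT_lift : ∀ r ∈ relsT J K K' ν τ, FreeGroup.lift (genMapT B) r = 1 := by
  rintro r ((((⟨r, hr, rfl⟩ | ⟨k, t, u, rfl⟩) | ⟨k, l, p, t, u, h1, h2, rfl⟩) |
    ⟨k, l, s, t, h1, h2, rfl⟩) | ⟨k, l, s, t, h1, h2, rfl⟩)
  · have h1 := relsD_lift B.D r hr
    have h2 : ∀ x : FreeGroup (J × J × K),
        FreeGroup.lift (genMapT B) (FreeGroup.map (Sum.inl : J × J × K → GenT J K K') x) =
          FreeGroup.lift (fun p : J × J × K => B.D.y p.1 p.2.1 p.2.2) x := by
      intro x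
      have : (FreeGroup.lift (genMapT B)).comp
          (FreeGroup.map (Sum.inl : J × J × K → GenT J K K')) =
          FreeGroup.lift (fun p : J × J × K => B.D.y p.1 p.2.1 p.2.2) := by
        ext p
        simp only [FreeGroup.lift_apply_of, MonoidHom.comp_apply, FreeGroup.map.of]
        rfl
      rw [← this]
      rfl
    rw [h2]
    exact h1
  · simp only [map_mul, map_inv, lift_fYT]
    rw [← B.Y_add, mul_inv_cancel]
  · simp only [map_mul, map_inv, lift_fXT, lift_fYT]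
    rw [B.XY_comm k l p t u h1 h2]
    group
  · simp only [map_mul, map_inv, lift_fXT, lift_fYT]
    rw [B.XY_rel k l s t h1 h2, mul_inv_cancel]
  · simp only [map_mul, map_inv, lift_fXT, lift_fYT]
    rw [B.YY_rel k l s t h1 h2, mul_inv_cancel]

/-- the universal property of the Steinberg group -/
def liftT : StT J K K' ν τ →* G := PresentedGroup.toGroup (relsT_lift B)

theorem liftT_tX (k l : J) (t : K) : liftT B (tX k l t) = B.D.y k l t :=
  PresentedGroup.toGroup.of (relsT_lift B)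

theorem liftT_tY (k : J) (t : K') : liftT B (tY k t) = B.Y k t :=
  PresentedGroup.toGroup.of (relsT_lift B)

theorem liftT_surjective (hgen : B.Gen) : Function.Surjective (liftT B) := by
  rw [← MonoidHom.range_eq_top, eq_top_iff, ← hgen, Subgroup.closure_le]
  rintro g (⟨k, l, t, rfl⟩ | ⟨k, t, rfl⟩)
  · exact ⟨tX k l t, liftT_tX B k l t⟩
  · exact ⟨tY k t, liftT_tY B k t⟩

theorem hom_ext_T {f g : StT J K K' ν τ →* G} (h : ∀ k l t, f (tX k l t) = g (tX k l t))
    (h' : ∀ k t, f (tY k t) = g (tY k t)) : f = g := by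
  apply PresentedGroup.ext
  rintro (⟨k, l, t⟩ | ⟨k, t⟩)
  · exact h k l t
  · exact h' k t

end lift

end pres

section perfect
variable {J K K' : Type*} [Field K] [Field K'] [Algebra K K'] {ν : J → J} {τ : Tw K K'}

theorem stT_perfect (hν1 : ∀ k, ν (ν k) = k) (hν2 : ∀ k, ν k ≠ k)
    (hc : ∀ a b : J, ∃ c, c ≠ a ∧ c ≠ b ∧ c ≠ ν a ∧ c ≠ ν b) :
    commutator (StT J K K' ν τ) = ⊤ := by
  have hX : ∀ k l t, (tX k l t : StT J K K' ν τ) ∈ commutator (StT J K K' ν τ) := by
    intro k l t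
    rw [← jT_sy]
    have h1 : (sy k l t : StD J K ν) ∈ commutator (StD J K ν) := by
      rw [stD_perfect hν1 hν2 hc]; trivial
    have h2 := Subgroup.mem_map_of_mem (jT : StD J K ν →* StT J K K' ν τ) h1
    have h3 : (commutator (StD J K ν)).map (jT : StD J K ν →* StT J K K' ν τ) ≤
        commutator (StT J K K' ν τ) := by
      rw [commutator_def, Subgroup.map_commutator, commutator_def]
      exact Subgroup.commutator_mono le_top le_top
    exact h3 h2
  have hY : ∀ k t, (tY k t : StT J K K' ν τ) ∈ commutator (StT J K K' ν τ) := by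
    intro k t
    obtain ⟨l, h1, -, h3, -⟩ := hc k k
    have hkl : k ≠ l := h1.symm
    have hkl' : k ≠ ν l := fun h => h3 (by rw [h, hν1])
    have h := tXY_rel (τ := τ) (ν := ν) k l 1 t hkl hkl'
    have e : (tY k t : StT J K K' ν τ) =
        (tX k l 1 * tY l t * (tX k l 1)⁻¹ * (tY l t)⁻¹) * (tX k (ν l) (1 * τ.N t))⁻¹ := by
      rw [h, one_smul]
      simp
    rw [e]
    refine mul_mem ?_ (inv_mem (hX _ _ _))
    exact Subgroup.commutator_mem_commutator (Subgroup.mem_top _) (Subgroup.mem_top _)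
  rw [eq_top_iff, ← stdT_gen (τ := τ) hν1 hν2, Subgroup.closure_le]
  rintro g (⟨k, l, t, rfl⟩ | ⟨k, t, rfl⟩)
  · rw [stdT_y]; exact hX k l t
  · exact hY k t

end perfect

end Cfsg.Agent.Lib.Helper3.TS
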