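import Cfsg.Agent.Lib.Helper3.TL4
import Cfsg.Agent.Lib.Helper3.TS1

/-!
# Central extensions of the twisted Steinberg group split
-/

set_option linter.unusedSectionVars false
set_option linter.unusedVariables false
set_option linter.unusedSimpArgs false

namespace Cfsg.Agent.Lib.Helper3.TL

open Cfsg.Agent.Lib.Helper3.DN Cfsg.Agent.Lib.Helper3.DS Cfsg.Agent.Lib.Helper3.BN
  Cfsg.Agent.Lib.Helper3.StU Cfsg.Agent.Lib.Helper3.TN Cfsg.Agent.Lib.Helper3.TW
  Cfsg.Agent.Lib.Helper3.BL Cfsg.Agent.Lib.Helper3.TS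
open scoped commutatorElement

section text
variable {J K K' Γ E : Type*} [Field K] [Field K'] [Algebra K K'] [Group Γ] [Group E] {ν : J → J}
  {τ : Tw K K'} {B : TData J K K' Γ ν τ} (T : TExt B E)

namespace TExt

theorem Z_addW {l k : J} (h1 : k ≠ l) (h2 : k ≠ ν l) (s : K) (w w' : K') :
    T.Z l k s (w + w') = T.Z l k s w * T.Z l k s w' := by
  have hνν := B.D.nu_nu
  have hlk' : l ≠ ν k := fun h => h2 (by rw [h, hνν])
  set a := T.lift (B.D.y k l s) with ha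
  set c := T.lift (B.Y l w) with hc
  set c' := T.lift (B.Y l w') with hc'
  have πa : T.π a = B.D.y k l s := T.π_lift _
  have πc : T.π c = B.Y l w := T.π_lift _
  have πc' : T.π c' = B.Y l w' := T.π_lift _
  have e1 : T.π (c * c') = B.Y l (w + w') := by
    rw [map_mul, πc, πc', B.Y_add]
  set Z₀ := T.Z l k s w with hZ₀
  set Z' := T.Z l k s w' with hZ'
  set V₀ := T.xh k (ν l) (s * τ.N w) with hV₀
  set V' := T.xh k (ν l) (s * τ.N w') with hV'
  set M := T.xh k (ν l) (s * τ.P w w') with hM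
  have πZ₀ : T.π Z₀ = B.Y k (s • w) := T.π_Z h1 h2 s w
  have πZ' : T.π Z' = B.Y k (s • w') := T.π_Z h1 h2 s w'
  have q1 := T.Z_eq πa e1
  have q2 : ⁅a, c⁆ = Z₀ * V₀ := T.Z_eq πa πc
  have q3 : ⁅a, c'⁆ = Z' * V' := T.Z_eq πa πc'
  have c2 : Commute c V' := (T.XY_lift (B.D.ne_nu l) hlk' (T.π_xh _ _ _) πc).symm
  have e2 : ⁅c, Z'⁆ = M := by
    have q : ⁅c, Z'⁆ = T.N l (ν k) w (-(s • w')) := by
      apply T.N_eq πc
      rw [hνν, neg_neg]
      exact πZ'
    rw [q, T.N_eq_xh hlk' (by rw [hνν]; exact Ne.symm h1), T.xh_flip, hνν, hM]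
    congr 1
    rw [τ.P_neg_right, τ.P_smul_right, neg_neg]
  have e3 : c * (Z' * V') * c⁻¹ = M * Z' * V' := by
    have : c * V' * c⁻¹ = V' := by rw [c2.eq]; group
    calc c * (Z' * V') * c⁻¹ = (c * Z' * c⁻¹ * Z'⁻¹) * Z' * (c * V' * c⁻¹) := by group
      _ = M * Z' * V' := by rw [this, ← commutatorElement_def, e2]
  have c3 : Commute V₀ Z' := T.XY_lift h2 (B.D.ne_nu k) (T.π_xh _ _ _) πZ'
  have c4 : Commute M Z' := T.XY_lift h2 (B.D.ne_nu k) (T.π_xh _ _ _) πZ'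
  have e4 : T.xh k (ν l) (s * τ.N (w + w')) = V₀ * M * V' := by
    rw [hV₀, hV', hM, ← T.xh_add, ← T.xh_add]
    congr 1
    rw [τ.N_add]
    ring
  rw [comm_mul_right_eq, q3, e3, q2, e4] at q1
  have e5 : Z₀ * V₀ * (M * Z' * V') = Z₀ * Z' * (V₀ * M * V') := by
    calc Z₀ * V₀ * (M * Z' * V') = Z₀ * V₀ * (M * Z') * V' := by group
      _ = Z₀ * V₀ * (Z' * M) * V' := by rw [c4.eq]
      _ = Z₀ * (V₀ * Z') * M * V' := by group
      _ = Z₀ * (Z' * V₀) * M * V' := by rw [c3.eq]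
      _ = Z₀ * Z' * (V₀ * M * V') := by group
  rw [e5] at q1
  exact (mul_right_cancel q1).symm

theorem yh_add (k : J) (x y : K') : T.yh k (x + y) = T.yh k x * T.yh k y :=
  T.Z_addW (T.aux_ne k) (T.aux_ne' k) 1 x y

/-- the twisted Steinberg data of the canonical lifts -/
noncomputable def liftTD : TData J K K' E ν τ where
  D := T.liftDD
  Y := T.yh
  Y_add := T.yh_add
  XY_comm := fun k l p t u h1 h2 => (T.XY_lift h1 h2 (T.π_xh k l t) (T.π_yh p u)).eq
  XY_rel := fun k l s t h1 h2 => by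
    show T.xh k l s * T.yh l t * (T.xh k l s)⁻¹ * (T.yh l t)⁻¹ =
      T.yh k (s • t) * T.xh k (ν l) (s * τ.N t)
    rw [← commutatorElement_def, T.Z_eq (T.π_xh k l s) (T.π_yh l t), T.Z_eq_yh h1 h2]
  YY_rel := fun k l s t h1 h2 => by
    show T.yh k s * T.yh l t * (T.yh k s)⁻¹ * (T.yh l t)⁻¹ = T.xh k (ν l) (-(τ.P s t))
    rw [← commutatorElement_def]
    have hkl' : k ≠ ν l := fun h => h2 (by rw [h, B.D.nu_nu])
    have q : ⁅T.yh k s, T.yh l t⁆ = T.N k (ν l) s (-t) := by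
      apply T.N_eq (T.π_yh k s)
      rw [B.D.nu_nu, neg_neg]
      exact T.π_yh l t
    rw [q, T.N_eq_xh hkl' (by rw [B.D.nu_nu]; exact Ne.symm h1), τ.P_neg_right]

theorem π_liftTD_y (k l : J) (t : K) : T.π (T.liftTD.D.y k l t) = B.D.y k l t := T.π_xh k l t

theorem π_liftTD_Y (k : J) (t : K') : T.π (T.liftTD.Y k t) = B.Y k t := T.π_yh k t

end TExt

end text

section split
variable {J : Type*} {K K' : Type*} [Field K] [Field K'] [Algebra K K'] {ν : J → J} {τ : Tw K K'}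

/-- every central extension of the twisted Steinberg group splits, provided the lifts of a
long and a short root element attached to orthogonal roots commute -/
theorem stT_split_of_hLS (hν1 : ∀ k, ν (ν k) = k) (hν2 : ∀ k, ν k ≠ k)
    (third : ∀ a b : J, ∃ c, c ≠ a ∧ c ≠ b ∧ c ≠ ν a ∧ c ≠ ν b)
    {E : Type*} [Group E] (ψ : E →* StT J K K' ν τ) (hs : Function.Surjective ψ)
    (hc : ψ.ker ≤ Subgroup.center E)
    (hLS : ∀ (a b p : J) (t : K) (u : K') (e₁ e₂ : E), p ≠ a → p ≠ b → p ≠ ν a → p ≠ ν b →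
      ψ e₁ = (stdT (τ := τ) hν1 hν2).D.y a b t → ψ e₂ = (stdT (τ := τ) hν1 hν2).Y p u →
      Commute e₁ e₂) :
    ∃ s : StT J K K' ν τ →* E, ψ.comp s = MonoidHom.id _ := by
  let T : TExt (stdT (τ := τ) hν1 hν2) E := ⟨ψ, hs, hc, third, hLS⟩
  refine ⟨liftT T.liftTD, ?_⟩
  apply hom_ext_T
  · intro k l t
    rw [MonoidHom.comp_apply, liftT_tX, MonoidHom.id_apply, ← stdT_y hν1 hν2]
    exact T.π_liftTD_y k l t
  · intro k t
    rw [MonoidHom.comp_apply, liftT_tY, MonoidHom.id_apply]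
    exact T.π_liftTD_Y k t

end split

end Cfsg.Agent.Lib.Helper3.TL
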