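import Cfsg.Agent.Lib.Helper3.TL5
import Cfsg.Agent.Lib.Helper3.BL6

/-!
# Twisted type: lifts of a long and a short root element attached to orthogonal roots commute
-/

set_option linter.unusedSectionVars false
set_option linter.unusedVariables false
set_option linter.unusedSimpArgs false

namespace Cfsg.Agent.Lib.Helper3.TL

open Cfsg.Agent.Lib.Helper3.DN Cfsg.Agent.Lib.Helper3.DS Cfsg.Agent.Lib.Helper3.BN
  Cfsg.Agent.Lib.Helper3.StU Cfsg.Agent.Lib.Helper3.TN Cfsg.Agent.Lib.Helper3.TW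
  Cfsg.Agent.Lib.Helper3.BL Cfsg.Agent.Lib.Helper3.TS
open scoped commutatorElement

section hLS
variable {J K K' Γ E : Type*} [Field K] [Field K'] [Algebra K K'] [Group Γ] [Group E] {ν : J → J}
  {τ : Tw K K'} {B : TData J K K' Γ ν τ}
  (π : E →* Γ) (hs : Function.Surjective π) (hc : π.ker ≤ Subgroup.center E)
include hs hc

/-- the commutation of lifts, from the torus of the short root `e_p` -/
theorem hLS_of_torusT (third : ∀ a b : J, ∃ c, c ≠ a ∧ c ≠ b ∧ c ≠ ν a ∧ c ≠ ν b)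
    (μ : K') (hμ : μ ≠ 0) (hμ2 : μ ^ 2 ≠ 1)
    (a b p : J) (t : K) (u : K') (e₁ e₂ : E) (hpa : p ≠ a) (hpb : p ≠ b) (hpa' : p ≠ ν a)
    (hpb' : p ≠ ν b) (he₁ : π e₁ = B.D.y a b t) (he₂ : π e₂ = B.Y p u) : Commute e₁ e₂ := by
  have hνν := B.D.nu_nu
  obtain ⟨l, hl1, -, hl3, -⟩ := third p p
  have hap' : a ≠ ν p := fun h => hpa' (by rw [h, hνν])
  have hbp' : b ≠ ν p := fun h => hpb' (by rw [h, hνν])
  -- the torus element
  set h := B.wS p μ * B.wS p (-1) with hh
  have hX : MulAut.conj h (B.D.y a b t) = B.D.y a b t := by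
    rw [hh, map_mul, MulAut.mul_apply, B.cjwS_comm (Ne.symm hpa) hap' (Ne.symm hpb) hbp',
      B.cjwS_comm (Ne.symm hpa) hap' (Ne.symm hpb) hbp']
  have hY : ∀ v : K', MulAut.conj h (B.Y p v) = B.Y p (μ ^ 2 * v) := by
    intro v
    rw [hh, map_mul, MulAut.mul_apply, B.cjwS_Ya hl1 hl3 (neg_ne_zero.mpr one_ne_zero),
      B.cjwS_Yna hl1 hl3 hμ]
    congr 1
    rw [map_neg, map_one, inv_neg, inv_one, neg_one_sq, mul_one, τ.σσ]
  set ht := Function.surjInv hs h with hht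
  have πht : π ht = h := Function.surjInv_eq hs _
  -- the central bracket
  let C : K' → E := fun v => ⁅e₁, Function.surjInv hs (B.Y p v)⁆
  have πl : ∀ v, π (Function.surjInv hs (B.Y p v)) = B.Y p v := fun v => Function.surjInv_eq hs _
  have Ccen : ∀ v, C v ∈ Subgroup.center E := by
    intro v
    apply comm_central0 π hs hc
    rw [he₁, πl]
    exact B.XY_comm a b p t v hpb hpa'
  have Ceq : ∀ (v : K') (e : E), π e = B.Y p v → ⁅e₁, e⁆ = C v := by
    intro v e he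
    exact comm_congr π hc rfl (he.trans (πl v).symm)
  have Cadd : ∀ v v', C (v + v') = C v * C v' := by
    intro v v'
    have e1 : π (Function.surjInv hs (B.Y p v) * Function.surjInv hs (B.Y p v')) =
        B.Y p (v + v') := by
      rw [map_mul, πl, πl, B.Y_add]
    rw [← Ceq (v + v') _ e1, comm_mul_right_of_central (Ccen v')]
  have Cinv : ∀ v, C (μ ^ 2 * v) = C v := by
    intro v
    have e1 : ht * C v * ht⁻¹ = C v := by
      rw [(Subgroup.mem_center_iff.1 (Ccen v) ht)]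
      group
    have e2 : ht * C v * ht⁻¹ = C (μ ^ 2 * v) := by
      show ht * ⁅e₁, Function.surjInv hs (B.Y p v)⁆ * ht⁻¹ = _
      rw [conj_comm]
      have q1 : π (ht * e₁ * ht⁻¹) = π e₁ := by
        rw [map_mul, map_mul, map_inv, πht, he₁, ← MulAut.conj_apply, hX]
      have q2 : π (ht * Function.surjInv hs (B.Y p v) * ht⁻¹) = B.Y p (μ ^ 2 * v) := by
        rw [map_mul, map_mul, map_inv, πht, πl, ← MulAut.conj_apply, hY]
      rw [comm_congr π hc q1 (rfl : π (ht * Function.surjInv hs (B.Y p v) * ht⁻¹) = _)]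
      exact Ceq _ _ q2
    rw [← e2, e1]
  have C0 : C 0 = 1 := by
    have := Cadd 0 0
    rw [add_zero] at this
    exact (mul_eq_left.1 this.symm)
  have Cz : ∀ v, C ((μ ^ 2 - 1) * v) = 1 := by
    intro v
    have : (μ ^ 2 - 1) * v = μ ^ 2 * v + (-v) := by ring
    rw [this, Cadd, Cinv, ← Cadd, add_neg_cancel, C0]
  have hne : μ ^ 2 - 1 ≠ 0 := sub_ne_zero.2 hμ2
  have Call : ∀ v, C v = 1 := by
    intro v
    have := Cz (v / (μ ^ 2 - 1))
    rwa [mul_div_cancel₀ v hne] at this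
  have := Ceq u e₂ he₂
  rw [Call u] at this
  exact commutatorElement_eq_one_iff_commute.1 this

end hLS

section split
variable {J : Type*} {K K' : Type*} [Field K] [Field K'] [Algebra K K'] {ν : J → J} {τ : Tw K K'}

/-- every central extension of the twisted Steinberg group splits, as soon as `K'` has an
element `μ ≠ 0` with `μ ^ 2 ≠ 1` -/
theorem stT_split (hν1 : ∀ k, ν (ν k) = k) (hν2 : ∀ k, ν k ≠ k)
    (third : ∀ a b : J, ∃ c, c ≠ a ∧ c ≠ b ∧ c ≠ ν a ∧ c ≠ ν b)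
    (μ : K') (hμ : μ ≠ 0) (hμ2 : μ ^ 2 ≠ 1)
    {E : Type*} [Group E] (ψ : E →* StT J K K' ν τ) (hs : Function.Surjective ψ)
    (hc : ψ.ker ≤ Subgroup.center E) :
    ∃ s : StT J K K' ν τ →* E, ψ.comp s = MonoidHom.id _ :=
  stT_split_of_hLS hν1 hν2 third ψ hs hc
    (fun a b p t u e₁ e₂ hpa hpb hpa' hpb' he₁ he₂ =>
      hLS_of_torusT ψ hs hc third μ hμ hμ2 a b p t u e₁ e₂ hpa hpb hpa' hpb' he₁ he₂)

end split

end Cfsg.Agent.Lib.Helper3.TL
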