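import Mathlib

/-!
# Quadratic extensions with conjugation, norm and trace

The parameter data for the twisted orthogonal groups: a field `K`, an extension field `K'` with an
involution `σ` whose fixed field is `K`, the norm `N w = w * σ w` and the trace `T w = w + σ w`
with values in `K`, and an element `θ` of trace one.
-/

set_option linter.unusedSectionVars false
set_option linter.unusedVariables false

namespace Cfsg.Agent.Lib.Helper3.TW

/-- a quadratic extension `K'` of `K` with conjugation `σ`, norm `N` and trace `T` -/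
structure Tw (K K' : Type*) [Field K] [Field K'] [Algebra K K'] where
  σ : K' →+* K'
  σσ : ∀ w, σ (σ w) = w
  σ_alg : ∀ c : K, σ (algebraMap K K' c) = algebraMap K K' c
  N : K' → K
  T : K' → K
  hN : ∀ w, algebraMap K K' (N w) = w * σ w
  hT : ∀ w, algebraMap K K' (T w) = w + σ w
  fix : ∀ w, σ w = w → ∃ c : K, w = algebraMap K K' c
  θ : K'
  hθ : T θ = 1
  δ : K'
  hδ : σ δ ≠ δ

variable {K K' : Type*} [Field K] [Field K'] [Algebra K K'] (τ : Tw K K')

namespace Tw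

theorem inj (τ : Tw K K') {a b : K} (h : algebraMap K K' a = algebraMap K K' b) : a = b :=
  (algebraMap K K').injective h

theorem σ_injective : Function.Injective τ.σ := fun a b h => by
  rw [← τ.σσ a, ← τ.σσ b, h]

@[simp] theorem σ_eq_zero {w : K'} : τ.σ w = 0 ↔ w = 0 := by
  constructor
  · intro h; apply τ.σ_injective; rw [h, map_zero]
  · intro h; rw [h, map_zero]

theorem σ_smul (c : K) (w : K') : τ.σ (c • w) = c • τ.σ w := by
  rw [Algebra.smul_def, Algebra.smul_def, map_mul, τ.σ_alg]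

theorem N_σ (w : K') : τ.N (τ.σ w) = τ.N w := by
  apply τ.inj; rw [τ.hN, τ.hN, τ.σσ, mul_comm]

theorem T_σ (w : K') : τ.T (τ.σ w) = τ.T w := by
  apply τ.inj; rw [τ.hT, τ.hT, τ.σσ, add_comm]

@[simp] theorem N_zero : τ.N 0 = 0 := by
  apply τ.inj; rw [τ.hN, map_zero, zero_mul, map_zero]

@[simp] theorem N_one : τ.N 1 = 1 := by
  apply τ.inj; rw [τ.hN, map_one, map_one, one_mul]

theorem N_mul (w w' : K') : τ.N (w * w') = τ.N w * τ.N w' := by
  apply τ.inj; rw [map_mul, τ.hN, τ.hN, τ.hN, map_mul]; ring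

theorem N_alg (c : K) : τ.N (algebraMap K K' c) = c ^ 2 := by
  apply τ.inj; rw [τ.hN, τ.σ_alg, map_pow]; ring

theorem N_smul (c : K) (w : K') : τ.N (c • w) = c ^ 2 * τ.N w := by
  rw [Algebra.smul_def, τ.N_mul, τ.N_alg]

@[simp] theorem N_neg (w : K') : τ.N (-w) = τ.N w := by
  apply τ.inj; rw [τ.hN, τ.hN, map_neg]; ring

theorem N_eq_zero {w : K'} : τ.N w = 0 ↔ w = 0 := by
  constructor
  · intro h
    have h1 := τ.hN w
    rw [h, map_zero] at h1
    rcases mul_eq_zero.1 h1.symm with h2 | h2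
    · exact h2
    · exact (τ.σ_eq_zero).1 h2
  · intro h; rw [h, τ.N_zero]

theorem N_ne_zero {w : K'} (h : w ≠ 0) : τ.N w ≠ 0 := fun e => h (τ.N_eq_zero.1 e)

theorem N_inv (w : K') : τ.N w⁻¹ = (τ.N w)⁻¹ := by
  by_cases h : w = 0
  · rw [h, inv_zero, τ.N_zero, inv_zero]
  · have h1 : τ.N w⁻¹ * τ.N w = 1 := by
      rw [← τ.N_mul, inv_mul_cancel₀ h, τ.N_one]
    exact eq_inv_of_mul_eq_one_left h1

@[simp] theorem T_zero : τ.T 0 = 0 := by
  apply τ.inj; rw [τ.hT, map_zero, map_zero, add_zero]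

theorem T_add (w w' : K') : τ.T (w + w') = τ.T w + τ.T w' := by
  apply τ.inj; rw [map_add, τ.hT, τ.hT, τ.hT, map_add]; ring

theorem T_neg (w : K') : τ.T (-w) = -τ.T w := by
  apply τ.inj; rw [map_neg, τ.hT, τ.hT, map_neg]; ring

theorem T_sub (w w' : K') : τ.T (w - w') = τ.T w - τ.T w' := by
  rw [sub_eq_add_neg, τ.T_add, τ.T_neg, sub_eq_add_neg]

theorem T_smul (c : K) (w : K') : τ.T (c • w) = c * τ.T w := by
  apply τ.inj
  rw [map_mul, τ.hT, τ.hT, τ.σ_smul, Algebra.smul_def, Algebra.smul_def]; ring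

theorem T_alg (c : K) : τ.T (algebraMap K K' c) = 2 * c := by
  apply τ.inj; rw [τ.hT, τ.σ_alg, map_mul, map_ofNat]; ring

theorem T_one : τ.T 1 = 2 := by
  have := τ.T_alg 1
  rwa [map_one, mul_one] at this

/-- the polar form of the norm -/
def P (w w' : K') : K := τ.T (w * τ.σ w')

theorem P_comm (w w' : K') : τ.P w w' = τ.P w' w := by
  unfold P
  rw [← τ.T_σ (w * τ.σ w'), map_mul, τ.σσ, mul_comm]

theorem N_add (w w' : K') : τ.N (w + w') = τ.N w + τ.N w' + τ.P w w' := by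
  apply τ.inj
  unfold P
  rw [map_add, map_add, τ.hN, τ.hN, τ.hN, τ.hT, map_add, map_mul, τ.σσ]; ring

theorem P_add_left (w₁ w₂ w' : K') : τ.P (w₁ + w₂) w' = τ.P w₁ w' + τ.P w₂ w' := by
  unfold P; rw [add_mul, τ.T_add]

theorem P_add_right (w w₁ w₂ : K') : τ.P w (w₁ + w₂) = τ.P w w₁ + τ.P w w₂ := by
  rw [τ.P_comm, τ.P_add_left, τ.P_comm w₁, τ.P_comm w₂]

theorem P_smul_left (c : K) (w w' : K') : τ.P (c • w) w' = c * τ.P w w' := by
  unfold P; rw [smul_mul_assoc, τ.T_smul]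

theorem P_smul_right (c : K) (w w' : K') : τ.P w (c • w') = c * τ.P w w' := by
  rw [τ.P_comm, τ.P_smul_left, τ.P_comm]

theorem P_neg_left (w w' : K') : τ.P (-w) w' = -τ.P w w' := by
  unfold P; rw [neg_mul, τ.T_neg]

theorem P_neg_right (w w' : K') : τ.P w (-w') = -τ.P w w' := by
  rw [τ.P_comm, τ.P_neg_left, τ.P_comm]

@[simp] theorem P_zero_left (w' : K') : τ.P 0 w' = 0 := by
  unfold P; rw [zero_mul, τ.T_zero]

@[simp] theorem P_zero_right (w : K') : τ.P w 0 = 0 := by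
  rw [τ.P_comm, τ.P_zero_left]

theorem P_self (w : K') : τ.P w w = 2 * τ.N w := by
  apply τ.inj
  unfold P
  rw [τ.hT, map_mul, τ.σσ, map_mul, τ.hN, map_ofNat]; ring

theorem P_one_right (w : K') : τ.P w 1 = τ.T w := by
  unfold P; rw [map_one, mul_one]

theorem P_θ_one : τ.P τ.θ 1 = 1 := by rw [τ.P_one_right, τ.hθ]

/-- `w / N w = (σ w)⁻¹` -/
theorem inv_N_smul (w : K') : (τ.N w)⁻¹ • w = (τ.σ w)⁻¹ := by
  by_cases h : w = 0
  · rw [h, smul_zero, map_zero, inv_zero]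
  · have h1 : τ.σ w ≠ 0 := fun e => h (τ.σ_eq_zero.1 e)
    rw [Algebra.smul_def, map_inv₀, τ.hN]
    field_simp

/-- the reflection in `w` -/
theorem refl_eq (w u : K') (hw : w ≠ 0) :
    u - ((τ.N w)⁻¹ * τ.P u w) • w = -(w * (τ.σ w)⁻¹ * τ.σ u) := by
  have h1 : τ.σ w ≠ 0 := fun e => hw (τ.σ_eq_zero.1 e)
  unfold P
  rw [Algebra.smul_def, map_mul, map_inv₀, τ.hN, τ.hT, map_mul, τ.σσ]
  field_simp
  ring

theorem fix_iff (w : K') : τ.σ w = w ↔ ∃ c : K, w = algebraMap K K' c := by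
  constructor
  · exact τ.fix w
  · rintro ⟨c, rfl⟩; exact τ.σ_alg c

end Tw

end Cfsg.Agent.Lib.Helper3.TW
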