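import Cfsg.Agent.Lib.Helper3.BN1
import Cfsg.Agent.Lib.Helper3.TW1

/-!
# Twisted Steinberg data of type `²D`: long root elements (data of type `D` over `K`) and short
root elements parametrised by the quadratic extension `K'`
-/

set_option linter.unusedSectionVars false
set_option linter.unusedVariables false

namespace Cfsg.Agent.Lib.Helper3.TN

open Cfsg.Agent.Lib.Helper5.Stb Cfsg.Agent.Lib.Helper3.AN Cfsg.Agent.Lib.Helper3.DN
  Cfsg.Agent.Lib.Helper3.BN Cfsg.Agent.Lib.Helper3.TW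

/-- Twisted Steinberg data: the long root elements `D.y k l t` (root `e_k - e_l`, `t ∈ K`) form
data of type `D`, and `Y k w` (`w ∈ K'`) is the root element of the short root `e_k`. -/
structure TData (J K K' G : Type*) [Field K] [Field K'] [Algebra K K'] [Group G] (ν : J → J)
    (τ : Tw K K') where
  D : DData J K G ν
  Y : J → K' → G
  Y_add : ∀ k w w', Y k (w + w') = Y k w * Y k w'
  XY_comm : ∀ k l p t w, p ≠ l → p ≠ ν k → D.y k l t * Y p w = Y p w * D.y k l t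
  XY_rel : ∀ k l s w, k ≠ l → k ≠ ν l →
    D.y k l s * Y l w * (D.y k l s)⁻¹ * (Y l w)⁻¹ = Y k (s • w) * D.y k (ν l) (s * τ.N w)
  YY_rel : ∀ k l w w', l ≠ k → l ≠ ν k →
    Y k w * Y l w' * (Y k w)⁻¹ * (Y l w')⁻¹ = D.y k (ν l) (-(τ.P w w'))

variable {J K K' G : Type*} [Field K] [Field K'] [Algebra K K'] [Group G] {ν : J → J}
  {τ : Tw K K'} (B : TData J K K' G ν τ)

namespace TData

theorem Y_zero (k : J) : B.Y k 0 = 1 := by
  have h := B.Y_add k 0 0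
  rw [add_zero] at h
  exact (mul_eq_left.1 h.symm)

theorem Y_neg (k : J) (t : K') : B.Y k (-t) = (B.Y k t)⁻¹ := by
  rw [eq_inv_iff_mul_eq_one, ← B.Y_add, neg_add_cancel, B.Y_zero]

theorem Y_comm_self (k : J) (t u : K') : Commute (B.Y k t) (B.Y k u) := by
  show B.Y k t * B.Y k u = B.Y k u * B.Y k t
  rw [← B.Y_add, ← B.Y_add, add_comm]

theorem XY_commute {k l p : J} (h1 : p ≠ l) (h2 : p ≠ ν k) (t : K) (u : K') :
    Commute (B.D.y k l t) (B.Y p u) := B.XY_comm k l p t u h1 h2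

theorem cjXY_comm {k l p : J} (h1 : p ≠ l) (h2 : p ≠ ν k) (t : K) (u : K') :
    MulAut.conj (B.D.y k l t) (B.Y p u) = B.Y p u :=
  conj_of_commute (B.XY_commute h1 h2 t u)

theorem cjYX_comm {k l p : J} (h1 : p ≠ l) (h2 : p ≠ ν k) (t : K) (u : K') :
    MulAut.conj (B.Y p u) (B.D.y k l t) = B.D.y k l t :=
  conj_of_commute (B.XY_commute h1 h2 t u).symm

theorem cjXY {k l : J} (hkl : k ≠ l) (hkl' : k ≠ ν l) (s : K) (t : K') :
    MulAut.conj (B.D.y k l s) (B.Y l t) =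
      B.Y k (s • t) * B.D.y k (ν l) (s * τ.N t) * B.Y l t := by
  rw [MulAut.conj_apply, ← B.XY_rel k l s t hkl hkl']
  group

theorem cjYX {k l : J} (hkl : k ≠ l) (hkl' : k ≠ ν l) (s : K) (t : K') :
    MulAut.conj (B.Y l t) (B.D.y k l s) =
      B.D.y k l s * B.Y k (-(s • t)) * B.D.y k (ν l) (-(s * τ.N t)) := by
  have h := B.XY_rel k l (-s) t hkl hkl'
  rw [B.D.y_neg, neg_smul, neg_mul] at h
  rw [MulAut.conj_apply, mul_assoc (B.D.y k l s), ← h]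
  group

theorem cjYY {k l : J} (hlk : l ≠ k) (hlk' : l ≠ ν k) (s t : K') :
    MulAut.conj (B.Y k s) (B.Y l t) = B.D.y k (ν l) (-(τ.P s t)) * B.Y l t := by
  rw [MulAut.conj_apply, ← B.YY_rel k l s t hlk hlk']
  group

/-- the short root element `Y k` commutes with the long root element of `e_k - e_l` -/
theorem XY_commute_fst {k l : J} (hkl : k ≠ l) (t : K) (u : K') :
    Commute (B.D.y k l t) (B.Y k u) := B.XY_commute hkl (B.D.ne_nu k) t u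

/-- the short root element `Y l` commutes with the long root element of `e_k + e_l` -/
theorem XY_commute_snd {k l : J} (hkl : k ≠ ν l) (t : K) (u : K') :
    Commute (B.D.y k (ν l) t) (B.Y l u) :=
  B.XY_commute (B.D.ne_nu l) (B.D.ne_nu_symm hkl) t u

/-- the short Weyl elements -/
def wS (k : J) (u : K') : G := B.Y k u * B.Y (ν k) (τ.σ u)⁻¹ * B.Y k u

theorem wS_inv (k : J) (u : K') : (B.wS k u)⁻¹ = B.wS k (-u) := by
  unfold wS
  rw [mul_inv_rev, mul_inv_rev, ← B.Y_neg, ← B.Y_neg, map_neg, inv_neg, mul_assoc]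

/-! ### The action of the long Weyl elements on the short root elements -/

theorem cjwL_Yl {k l : J} (hkl : k ≠ l) (hkl' : k ≠ ν l) {u : K} (hu : u ≠ 0) (t : K') :
    MulAut.conj (B.D.w k l u) (B.Y l t) = B.Y k (u • t) := by
  have hlk' : l ≠ ν k := B.D.ne_nu_symm hkl'
  have s2 : MulAut.conj (B.D.y l k (-u⁻¹))
      (B.Y k (u • t) * B.D.y k (ν l) (u * τ.N t) * B.Y l t) = B.Y k (u • t) := by
    rw [map_mul, map_mul, B.cjXY hkl.symm hlk', conj_of_commute (B.D.comm3 l k _ _),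
      B.cjXY_comm (k := l) (l := k) (p := l) hkl.symm (B.D.ne_nu l)]
    have e1 : B.Y l ((-u⁻¹) • (u • t)) = B.Y l (-t) := by
      congr 1
      rw [smul_smul, neg_mul, inv_mul_cancel₀ hu, neg_one_smul]
    have e2 : B.D.y l (ν k) (-u⁻¹ * τ.N (u • t)) = B.D.y k (ν l) (u * τ.N t) := by
      rw [B.D.y_flip l (ν k), B.D.nu_nu, τ.N_smul]; congr 1; field_simp
    have e3 : B.Y l t = (B.Y l (-t))⁻¹ := by rw [B.Y_neg, inv_inv]
    rw [e1, e2, e3]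
    apply sandwich_aux (z := B.D.y k (ν l) (-(2 * (u * τ.N t))))
    · exact B.XY_commute_fst hkl' _ _
    · exact B.XY_commute_snd hkl' _ _
    · have := B.cjYY (k := l) (l := k) hkl hkl' (-t) (u • t)
      rw [MulAut.conj_apply, B.D.y_flip l (ν k), B.D.nu_nu] at this
      rw [this]
      congr 2
      rw [τ.P_neg_left, τ.P_smul_right, τ.P_self]
      ring
    · rw [← B.D.y_add, ← B.D.y_add]
      have : u * τ.N t + u * τ.N t + -(2 * (u * τ.N t)) = 0 := by ring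
      rw [this, B.D.y_zero]
  unfold DData.w
  rw [conj_mul3, B.cjXY hkl hkl', s2]
  exact B.cjXY_comm hkl (B.D.ne_nu k) _ _

theorem cjwL_Yk {k l c : J} (h : Tri ν k l c) {u : K} (hu : u ≠ 0) (t : K') :
    MulAut.conj (B.D.w k l u) (B.Y k t) = B.Y l ((-u⁻¹) • t) := by
  rw [B.D.w_swap h hu]
  exact B.cjwL_Yl h.ab.symm (B.D.ne_nu_symm h.ab') (neg_ne_zero.mpr (inv_ne_zero hu)) t

theorem cjwL_Ynk {k l : J} (hkl : k ≠ l) (hkl' : k ≠ ν l) {u : K} (hu : u ≠ 0) (t : K') :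
    MulAut.conj (B.D.w k l u) (B.Y (ν k) t) = B.Y (ν l) ((-u) • t) := by
  rw [B.D.w_flip k l u]
  apply B.cjwL_Yl (fun h => hkl (B.D.nu_inj h).symm) _ (neg_ne_zero.mpr hu)
  rw [B.D.nu_nu]
  exact hkl'.symm

theorem cjwL_Ynl {k l c : J} (h : Tri ν k l c) {u : K} (hu : u ≠ 0) (t : K') :
    MulAut.conj (B.D.w k l u) (B.Y (ν l) t) = B.Y (ν k) (u⁻¹ • t) := by
  rw [B.D.w_flip k l u]
  have hT : Tri ν (ν l) (ν k) c :=
    ⟨fun e => h.ab (B.D.nu_inj e).symm, fun e' => h.bc' (by rw [← e', B.D.nu_nu]),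
      fun e' => h.ac' (by rw [← e', B.D.nu_nu]),
      by rw [B.D.nu_nu]; exact h.ab'.symm,
      fun e' => h.bc (B.D.nu_inj e'), fun e' => h.ac (B.D.nu_inj e')⟩
  rw [B.cjwL_Yk hT (neg_ne_zero.mpr hu)]
  congr 1
  rw [inv_neg, neg_neg]

theorem cjwL_Yne [DecidableEq J] {k l p : J} (h1 : p ≠ k) (h2 : p ≠ l) (h3 : p ≠ ν k)
    (h4 : p ≠ ν l) (u : K) (t : K') : MulAut.conj (B.D.w k l u) (B.Y p t) = B.Y p t :=
  B.D.cj_w_of_comm (fun s => B.XY_commute h2 h3 s t) (fun s => B.XY_commute h1 h4 s t)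


end TData

/-! ### Some identities for the norm and the polar form -/

namespace Tw'

variable (τ)

theorem P_inv_σ {u : K'} (hu : u ≠ 0) : τ.P u (τ.σ u)⁻¹ = 2 := by
  unfold Tw.P
  rw [map_inv₀, τ.σσ, mul_inv_cancel₀ hu, τ.T_one]

theorem σ_ne_zero {u : K'} (hu : u ≠ 0) : τ.σ u ≠ 0 := fun e => hu (τ.σ_eq_zero.1 e)

/-- the reflection in `u`, in terms of the field structure -/
def rf (u t : K') : K' := -(u * (τ.σ u)⁻¹ * τ.σ t)

theorem rf_eq {u : K'} (hu : u ≠ 0) (t : K') :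
    rf τ u t = t - ((τ.N u)⁻¹ * τ.P t u) • u := (τ.refl_eq u t hu).symm

theorem N_rf {u : K'} (hu : u ≠ 0) (t : K') : τ.N (rf τ u t) = τ.N t := by
  unfold rf
  rw [τ.N_neg, τ.N_mul, τ.N_mul, τ.N_inv, τ.N_σ, τ.N_σ, mul_inv_cancel₀ (τ.N_ne_zero hu), one_mul]

theorem N_σ_inv (u : K') : τ.N (τ.σ u)⁻¹ = (τ.N u)⁻¹ := by rw [τ.N_inv, τ.N_σ]

theorem P_σ_inv_left (u t : K') : τ.P (τ.σ u)⁻¹ t = (τ.N u)⁻¹ * τ.P u t := by
  rw [← τ.inv_N_smul, τ.P_smul_left]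

end Tw'

namespace TData

open Tw'

/-! ### The action of the short Weyl elements -/

theorem cjwS_Xa {a l : J} (hla : l ≠ a) (hla' : l ≠ ν a) {u : K'} (hu : u ≠ 0) (t : K) :
    MulAut.conj (B.wS a u) (B.D.y a l t) = B.D.y (ν a) l (-(τ.N u)⁻¹ * t) := by
  have nn : ∀ x : J, ν (ν x) = x := B.D.nu_nu
  have hN : τ.N u ≠ 0 := τ.N_ne_zero hu
  have h1 : ν l ≠ ν a := fun e => hla (B.D.nu_inj e)
  have h2 : ν l ≠ a := fun e => hla' (by rw [← e, nn])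
  -- the three commuting families
  have cAY : ∀ s s', Commute (B.D.y a l s) (B.Y (ν l) s') := fun s s' =>
    B.XY_commute (k := a) (l := l) (p := ν l) (B.D.nu_ne l) h1 s s'
  have cAZ : ∀ s s', Commute (B.D.y a l s) (B.D.y (ν l) a s') := fun s s' => by
    have := B.D.comm4 a l s s'
    exact this
  have cYZ : ∀ s s', Commute (B.Y (ν l) s) (B.D.y (ν l) a s') := fun s s' =>
    (B.XY_commute_fst h2 s' s).symm
  have s1 : MulAut.conj (B.Y a u) (B.D.y a l t) = B.D.y a l t :=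
    conj_of_commute (B.XY_commute_fst hla.symm t u).symm
  have s2 : MulAut.conj (B.Y (ν a) (τ.σ u)⁻¹) (B.D.y a l t) =
      B.D.y a l t * B.Y (ν l) (t • (τ.σ u)⁻¹) * B.D.y (ν l) a (t * (τ.N u)⁻¹) := by
    have := B.cjYX (k := ν l) (l := ν a) h1 (by rw [nn]; exact h2) (-t) (τ.σ u)⁻¹
    rw [← B.D.y_flip a l t, nn] at this
    rw [this]
    congr 2
    · congr 1; rw [neg_smul, neg_neg]
    · rw [N_σ_inv]; ring
  have s3a : MulAut.conj (B.Y a u) (B.Y (ν l) (t • (τ.σ u)⁻¹)) =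
      B.D.y a l (-(2 * t)) * B.Y (ν l) (t • (τ.σ u)⁻¹) := by
    rw [B.cjYY h2 h1, nn]
    congr 2
    rw [τ.P_smul_right, P_inv_σ τ hu]
    ring
  have s3b : MulAut.conj (B.Y a u) (B.D.y (ν l) a (t * (τ.N u)⁻¹)) =
      B.D.y (ν l) a (t * (τ.N u)⁻¹) * B.Y (ν l) (-(t • (τ.σ u)⁻¹)) * B.D.y a l t := by
    rw [B.cjYX h2 h1, B.D.y_flip (ν l) (ν a), nn, nn]
    congr 2
    · congr 2; rw [mul_smul, τ.inv_N_smul]
    · field_simp
  unfold wS
  rw [conj_mul3, s1, s2, map_mul, map_mul, s1, s3a, s3b]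
  have e0 : B.D.y (ν a) l (-(τ.N u)⁻¹ * t) = B.D.y (ν l) a (t * (τ.N u)⁻¹) := by
    rw [B.D.y_flip (ν a) l, nn]; congr 1; ring
  rw [e0]
  set A := fun s => B.D.y a l s with hA
  set Yn := fun s => B.Y (ν l) s with hYn
  set Z := B.D.y (ν l) a (t * (τ.N u)⁻¹) with hZ
  set q := t • (τ.σ u)⁻¹ with hq
  have a1 : A t * A (-(2 * t)) * A t = 1 := by
    simp only [hA]
    rw [← B.D.y_add, ← B.D.y_add]
    have : t + -(2 * t) + t = 0 := by ring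
    rw [this, B.D.y_zero]
  have a2 : Yn q * Yn (-q) = 1 := by
    simp only [hYn]
    rw [← B.Y_add, add_neg_cancel, B.Y_zero]
  show A t * (A (-(2 * t)) * Yn q) * (Z * Yn (-q) * A t) = Z
  calc A t * (A (-(2 * t)) * Yn q) * (Z * Yn (-q) * A t)
      = A t * A (-(2 * t)) * (Yn q * Z) * Yn (-q) * A t := by group
    _ = A t * A (-(2 * t)) * (Z * Yn q) * Yn (-q) * A t := by
        rw [(cYZ q _).eq]
    _ = A t * A (-(2 * t)) * Z * (Yn q * Yn (-q)) * A t := by group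
    _ = A t * A (-(2 * t)) * (Z * A t) := by rw [a2]; group
    _ = A t * A (-(2 * t)) * (A t * Z) := by rw [(cAZ t _).eq]
    _ = (A t * A (-(2 * t)) * A t) * Z := by group
    _ = Z := by rw [a1, one_mul]

theorem cjwS_Xna {a l : J} (hla : l ≠ a) (hla' : l ≠ ν a) {u : K'} (hu : u ≠ 0) (t : K) :
    MulAut.conj (B.wS a u) (B.D.y (ν a) l t) = B.D.y a l (-τ.N u * t) := by
  have hN : τ.N u ≠ 0 := τ.N_ne_zero hu
  have h := B.cjwS_Xa hla hla' (neg_ne_zero.mpr hu) (-τ.N u * t)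
  have e : -(τ.N (-u))⁻¹ * (-τ.N u * t) = t := by rw [τ.N_neg]; field_simp
  rw [e, ← B.wS_inv, map_inv, MulAut.inv_apply, MulEquiv.symm_apply_eq] at h
  exact h.symm

theorem cjwS_Yne {a p : J} (hpa : p ≠ a) (hpa' : p ≠ ν a) {u : K'} (hu : u ≠ 0) (t : K') :
    MulAut.conj (B.wS a u) (B.Y p t) = B.Y p (rf τ u t) := by
  have nn : ∀ x : J, ν (ν x) = x := B.D.nu_nu
  have hN : τ.N u ≠ 0 := τ.N_ne_zero hu
  have s1 : ∀ t', MulAut.conj (B.Y a u) (B.Y p t') = B.D.y p (ν a) (τ.P u t') * B.Y p t' := by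
    intro t'
    rw [B.cjYY hpa hpa', B.D.y_flip a (ν p), nn, neg_neg]
  have s2a : MulAut.conj (B.Y (ν a) (τ.σ u)⁻¹) (B.D.y p (ν a) (τ.P u t)) =
      B.D.y p (ν a) (τ.P u t) * B.Y p (-(τ.P u t • (τ.σ u)⁻¹)) *
        B.D.y p a (-(τ.P u t * (τ.N u)⁻¹)) := by
    rw [B.cjYX hpa' (by rw [nn]; exact hpa), nn, N_σ_inv]
  have s2b : MulAut.conj (B.Y (ν a) (τ.σ u)⁻¹) (B.Y p t) =
      B.D.y p a (τ.P u t * (τ.N u)⁻¹) * B.Y p t := by
    rw [B.cjYY hpa' (by rw [nn]; exact hpa), B.D.y_flip (ν a) (ν p), nn, nn, neg_neg,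
      P_σ_inv_left, mul_comm]
  have s3 : MulAut.conj (B.Y a u) (B.D.y p (ν a) (τ.P u t)) = B.D.y p (ν a) (τ.P u t) :=
    conj_of_commute (B.XY_commute_snd hpa' _ _).symm
  have hr : -(τ.P u t • (τ.σ u)⁻¹) + t = rf τ u t := by
    rw [rf_eq τ hu, ← τ.inv_N_smul, smul_smul, τ.P_comm t u, mul_comm (τ.N u)⁻¹]
    abel
  unfold wS
  rw [conj_mul3, s1 t, map_mul, s2a, s2b]
  have e1 : B.D.y p (ν a) (τ.P u t) * B.Y p (-(τ.P u t • (τ.σ u)⁻¹)) *
      B.D.y p a (-(τ.P u t * (τ.N u)⁻¹)) *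
      (B.D.y p a (τ.P u t * (τ.N u)⁻¹) * B.Y p t) =
      B.D.y p (ν a) (τ.P u t) * B.Y p (rf τ u t) := by
    have e2 : B.D.y p a (-(τ.P u t * (τ.N u)⁻¹)) * B.D.y p a (τ.P u t * (τ.N u)⁻¹) = 1 := by
      rw [← B.D.y_add, neg_add_cancel, B.D.y_zero]
    have e3 : B.Y p (-(τ.P u t • (τ.σ u)⁻¹)) * B.Y p t = B.Y p (rf τ u t) := by
      rw [← B.Y_add, hr]
    calc B.D.y p (ν a) (τ.P u t) * B.Y p (-(τ.P u t • (τ.σ u)⁻¹)) *
          B.D.y p a (-(τ.P u t * (τ.N u)⁻¹)) *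
          (B.D.y p a (τ.P u t * (τ.N u)⁻¹) * B.Y p t)
        = B.D.y p (ν a) (τ.P u t) * B.Y p (-(τ.P u t • (τ.σ u)⁻¹)) *
          (B.D.y p a (-(τ.P u t * (τ.N u)⁻¹)) * B.D.y p a (τ.P u t * (τ.N u)⁻¹)) *
            B.Y p t := by group
      _ = B.D.y p (ν a) (τ.P u t) * (B.Y p (-(τ.P u t • (τ.σ u)⁻¹)) * B.Y p t) := by
          rw [e2]; group
      _ = _ := by rw [e3]
  rw [e1, map_mul, s3, s1 (rf τ u t), ← mul_assoc, ← B.D.y_add]
  have : τ.P u t + τ.P u (rf τ u t) = 0 := by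
    rw [rf_eq τ hu, sub_eq_add_neg, τ.P_add_right, τ.P_neg_right, τ.P_smul_right, τ.P_self,
      τ.P_comm t u]
    field_simp
    ring
  rw [this, B.D.y_zero, one_mul]

theorem cjwS_Ya {a l : J} (hla : l ≠ a) (hla' : l ≠ ν a) {u : K'} (hu : u ≠ 0) (t : K') :
    MulAut.conj (B.wS a u) (B.Y a t) = B.Y (ν a) (τ.σ t * ((τ.σ u)⁻¹) ^ 2) := by
  have nn : ∀ x : J, ν (ν x) = x := B.D.nu_nu
  have hN : τ.N u ≠ 0 := τ.N_ne_zero hu
  have hσ : τ.σ u ≠ 0 := σ_ne_zero τ hu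
  have h1 : ν l ≠ a := fun e => hla' (by rw [← e, nn])
  have h2 : ν l ≠ ν a := fun e => hla (B.D.nu_inj e)
  have hrel := B.XY_rel a l 1 t hla.symm (B.D.ne_nu_symm hla')
  rw [one_smul, one_mul] at hrel
  have e1 : B.Y a t = B.D.y a l 1 * B.Y l t * (B.D.y a l 1)⁻¹ * (B.Y l t)⁻¹ *
      (B.D.y a (ν l) (τ.N t))⁻¹ := by rw [hrel]; group
  rw [e1]
  simp only [map_mul, map_inv]
  rw [B.cjwS_Xa hla hla' hu, B.cjwS_Yne hla hla' hu, B.cjwS_Xa h1 h2 hu]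
  have hla'' : ν a ≠ ν l := fun e => hla (B.D.nu_inj e).symm
  have hrel2 := B.XY_rel (ν a) l (-(τ.N u)⁻¹ * 1) (rf τ u t) (Ne.symm hla') hla''
  rw [hrel2, N_rf τ hu, mul_one, mul_inv_cancel_right]
  congr 1
  unfold rf
  rw [Algebra.smul_def, map_neg, map_inv₀, τ.hN]
  field_simp

theorem cjwS_Yna {a l : J} (hla : l ≠ a) (hla' : l ≠ ν a) {u : K'} (hu : u ≠ 0) (t : K') :
    MulAut.conj (B.wS a u) (B.Y (ν a) t) = B.Y a (u ^ 2 * τ.σ t) := by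
  have hσ : τ.σ u ≠ 0 := σ_ne_zero τ hu
  have h := B.cjwS_Ya hla hla' (neg_ne_zero.mpr hu) (u ^ 2 * τ.σ t)
  have e : τ.σ (u ^ 2 * τ.σ t) * ((τ.σ (-u))⁻¹) ^ 2 = t := by
    rw [map_mul, map_pow, τ.σσ, map_neg]; field_simp
  rw [e, ← B.wS_inv, map_inv, MulAut.inv_apply, MulEquiv.symm_apply_eq] at h
  exact h.symm

theorem cjwS_comm {a k l : J} (h1 : k ≠ a) (h2 : k ≠ ν a) (h3 : l ≠ a) (h4 : l ≠ ν a)
    (u : K') (t : K) : MulAut.conj (B.wS a u) (B.D.y k l t) = B.D.y k l t := by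
  have nn : ∀ x : J, ν (ν x) = x := B.D.nu_nu
  have c1 : ∀ s, Commute (B.Y a s) (B.D.y k l t) := fun s =>
    (B.XY_commute h3.symm (fun e => h2 (by rw [e, nn])) t s).symm
  have c2 : ∀ s, Commute (B.Y (ν a) s) (B.D.y k l t) := fun s =>
    (B.XY_commute h4.symm (fun e => h1 (B.D.nu_inj e).symm) t s).symm
  unfold wS
  rw [conj_mul3, conj_of_commute (c1 u), conj_of_commute (c2 _), conj_of_commute (c1 u)]

/-- the rank one relation for the short roots -/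
theorem Yn_eq_ywy (a : J) {b : K'} (hb : b ≠ 0) :
    B.Y (ν a) b = B.Y a (-(τ.σ b)⁻¹) * B.wS a (τ.σ b)⁻¹ * B.Y a (-(τ.σ b)⁻¹) := by
  unfold wS
  rw [map_inv₀, τ.σσ, inv_inv, B.Y_neg]
  group

end TData

end Cfsg.Agent.Lib.Helper3.TN
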