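import Cfsg.Agent.Lib.Helper3.TN1
import Cfsg.Agent.Lib.Helper3.BN2

/-!
# Twisted type: the Weyl elements act monomially
-/

set_option linter.unusedSectionVars false
set_option linter.unusedVariables false

namespace Cfsg.Agent.Lib.Helper3.TN

open Cfsg.Agent.Lib.Helper5.Stb Cfsg.Agent.Lib.Helper3.AN Cfsg.Agent.Lib.Helper3.DN
  Cfsg.Agent.Lib.Helper3.BN Cfsg.Agent.Lib.Helper3.TW

variable {J K K' G : Type*} [Field K] [Field K'] [Algebra K K'] [Group G] {ν : J → J}
  {τ : Tw K K'} (B : TData J K K' G ν τ) [DecidableEq J]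

/-- `g` acts monomially on the long and on the short root elements -/
structure RawMonT (B : TData J K K' G ν τ) (g : G) (π : Equiv.Perm J) (v : J → K)
    (ε : K' ≃ₗ[K] K') : Prop where
  raw : RawMon B.D.y g π v
  nu : ∀ k, π (ν k) = ν (π k)
  short : ∀ k t, MulAut.conj g (B.Y k t) = B.Y (π k) (v k • ε t)

namespace RawMonT

variable {B}

theorem one : RawMonT B 1 1 (fun _ => 1) 1 :=
  ⟨RawMon.one _, fun _ => rfl, fun k t => by
    rw [map_one, one_smul]; rfl⟩

theorem mul {g g' : G} {π π' : Equiv.Perm J} {v v' : J → K} {ε ε' : K' ≃ₗ[K] K'}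
    (h : RawMonT B g π v ε) (h' : RawMonT B g' π' v' ε') :
    RawMonT B (g * g') (π * π') (fun k => v' k * v (π' k)) (ε * ε') := by
  refine ⟨h.raw.mul h'.raw, fun k => ?_, fun k t => ?_⟩
  · rw [Equiv.Perm.mul_apply, Equiv.Perm.mul_apply, h'.nu, h.nu]
  · rw [map_mul, MulAut.mul_apply, h'.short, h.short, Equiv.Perm.mul_apply]
    congr 1
    rw [LinearEquiv.mul_apply, map_smul, smul_smul, mul_comm]

theorem inv {g : G} {π : Equiv.Perm J} {v : J → K} {ε : K' ≃ₗ[K] K'} (h : RawMonT B g π v ε) :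
    RawMonT B g⁻¹ π⁻¹ (fun k => (v (π⁻¹ k))⁻¹) ε⁻¹ := by
  refine ⟨h.raw.inv, fun k => ?_, fun k t => ?_⟩
  · apply π.injective
    rw [h.nu]
    simp
  · obtain ⟨a, rfl⟩ : ∃ a, π a = k := ⟨π⁻¹ k, by simp⟩
    rw [map_inv, MulAut.inv_apply, MulEquiv.symm_apply_eq]
    have e1 : π⁻¹ (π a) = a := by simp
    simp only [e1]
    rw [h.short]
    congr 1
    have h1 := h.raw.1 a
    rw [map_smul, smul_smul, mul_inv_cancel₀ h1, one_smul]
    show t = ε (ε.symm t)
    rw [LinearEquiv.apply_symm_apply]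

theorem congr {g : G} {π π' : Equiv.Perm J} {v v' : J → K} {ε ε' : K' ≃ₗ[K] K'}
    (h : RawMonT B g π v ε)
    (hπ : π = π') (hvec : ∀ k, v k = v' k) (hε : ε = ε') : RawMonT B g π' v' ε' := by
  have : v = v' := funext hvec
  subst this; subst hπ; subst hε; exact h

/-- moving a short root element through a monomial element -/
theorem moveS {g : G} {π : Equiv.Perm J} {v : J → K} {ε : K' ≃ₗ[K] K'} (h : RawMonT B g π v ε)
    (k : J) (t : K') : ∃ t', B.Y (π k) t * g = g * B.Y k t' := by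
  refine ⟨ε.symm ((v k)⁻¹ • t), ?_⟩
  have h1 := h.short k (ε.symm ((v k)⁻¹ • t))
  have h2 : v k • ε (ε.symm ((v k)⁻¹ • t)) = t := by
    have := h.raw.1 k
    rw [LinearEquiv.apply_symm_apply, smul_smul, mul_inv_cancel₀ this, one_smul]
  rw [h2, MulAut.conj_apply] at h1
  rw [← h1]; group

end RawMonT

/-- the monomial entries of the short Weyl element `wS a u`, `c = N u` -/
def vT (ν : J → J) (a : J) (c : K) : J → K := fun k =>
  if k = a then -c⁻¹ else if k = ν a then -c else 1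

omit [Group G] [Field K'] [Algebra K K'] in
theorem vT_a (a : J) (c : K) : vT ν a c a = -c⁻¹ := by simp [vT]

omit [Group G] [Field K'] [Algebra K K'] in
theorem vT_of_ne {a k : J} (c : K) (h1 : k ≠ a) (h2 : k ≠ ν a) : vT ν a c k = 1 := by
  simp [vT, h1, h2]

/-- the reflection as a linear equivalence -/
noncomputable def rfE (τ : Tw K K') (u : K') (hu : u ≠ 0) : K' ≃ₗ[K] K' :=
  LinearEquiv.ofInvolutive
    { toFun := fun t => Tw'.rf τ u t
      map_add' := fun x y => by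
        unfold Tw'.rf; rw [map_add]; ring
      map_smul' := fun c x => by
        unfold Tw'.rf
        rw [RingHom.id_apply, τ.σ_smul, Algebra.smul_def, Algebra.smul_def]; ring }
    (fun t => by
      show Tw'.rf τ u (Tw'.rf τ u t) = t
      have hσ : τ.σ u ≠ 0 := Tw'.σ_ne_zero τ hu
      unfold Tw'.rf
      rw [map_neg, map_mul, map_mul, map_inv₀, τ.σσ, τ.σσ]
      field_simp)

theorem rfE_apply (τ : Tw K K') (u : K') (hu : u ≠ 0) (t : K') :
    rfE τ u hu t = Tw'.rf τ u t := rfl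

namespace TData

include B in
theorem vT_na (a : J) (c : K) : vT ν a c (ν a) = -c := by
  simp [vT, B.D.nu_ne a]

omit [Group G] [Field K'] [Algebra K K'] in
theorem vT_ne_zero {a : J} {c : K} (hc : c ≠ 0) (k : J) : vT ν a c k ≠ 0 := by
  unfold vT
  split_ifs
  · exact neg_ne_zero.mpr (inv_ne_zero hc)
  · exact neg_ne_zero.mpr hc
  · exact one_ne_zero

include B in
theorem swap_nu (a k : J) : Equiv.swap a (ν a) (ν k) = ν (Equiv.swap a (ν a) k) := by
  by_cases h1 : k = a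
  · subst h1
    rw [Equiv.swap_apply_right, Equiv.swap_apply_left, B.D.nu_nu]
  by_cases h2 : k = ν a
  · subst h2
    rw [B.D.nu_nu, Equiv.swap_apply_left, Equiv.swap_apply_right]
  · rw [Equiv.swap_apply_of_ne_of_ne h1 h2, Equiv.swap_apply_of_ne_of_ne]
    · intro e; apply h2; rw [← e, B.D.nu_nu]
    · intro e; exact h1 (B.D.nu_inj e)

include B in
theorem vT_nu {a : J} {c : K} (hc : c ≠ 0) (k : J) : vT ν a c (ν k) = (vT ν a c k)⁻¹ := by
  by_cases h1 : k = a
  · subst h1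
    rw [B.vT_na, vT_a]
    field_simp
  by_cases h2 : k = ν a
  · subst h2
    rw [B.D.nu_nu, B.vT_na, vT_a]
    field_simp
  · rw [vT_of_ne c h1 h2, vT_of_ne c, inv_one]
    · intro e; apply h2; rw [← e, B.D.nu_nu]
    · intro e; exact h1 (B.D.nu_inj e)

/-- the monomial action of `wS a u` on the long root elements of the root `(k, l)` -/
def PS (B : TData J K K' G ν τ) (a : J) (u : K') (k l : J) : Prop :=
  ∀ t, MulAut.conj (B.wS a u) (B.D.y k l t) =
    B.D.y (Equiv.swap a (ν a) k) (Equiv.swap a (ν a) l)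
      (vT ν a (τ.N u) k * t * (vT ν a (τ.N u) l)⁻¹)

theorem PS_flip {a : J} {u : K'} (hu : u ≠ 0) {k l : J} (h : PS B a u (ν l) (ν k)) :
    PS B a u k l := by
  intro t
  have hN : τ.N u ≠ 0 := τ.N_ne_zero hu
  rw [B.D.y_flip k l t, h (-t), B.swap_nu, B.swap_nu,
    B.D.y_flip (ν (Equiv.swap a (ν a) l)) (ν (Equiv.swap a (ν a) k)), B.D.nu_nu, B.D.nu_nu,
    B.vT_nu hN, B.vT_nu hN]
  congr 1
  rw [inv_inv]
  ring

theorem PS_a {a l : J} (hla : l ≠ a) (hla' : l ≠ ν a) {u : K'} (hu : u ≠ 0) : PS B a u a l := by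
  intro t
  rw [B.cjwS_Xa hla hla' hu, Equiv.swap_apply_left, Equiv.swap_apply_of_ne_of_ne hla hla', vT_a,
    vT_of_ne _ hla hla', inv_one, mul_one]

theorem PS_na {a l : J} (hla : l ≠ a) (hla' : l ≠ ν a) {u : K'} (hu : u ≠ 0) :
    PS B a u (ν a) l := by
  intro t
  rw [B.cjwS_Xna hla hla' hu, Equiv.swap_apply_right, Equiv.swap_apply_of_ne_of_ne hla hla',
    B.vT_na, vT_of_ne _ hla hla', inv_one, mul_one]

theorem PS_ne {a k l : J} (h1 : k ≠ a) (h2 : k ≠ ν a) (h3 : l ≠ a) (h4 : l ≠ ν a) (u : K') :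
    PS B a u k l := by
  intro t
  rw [B.cjwS_comm h1 h2 h3 h4, Equiv.swap_apply_of_ne_of_ne h1 h2,
    Equiv.swap_apply_of_ne_of_ne h3 h4, vT_of_ne _ h1 h2, vT_of_ne _ h3 h4, inv_one, mul_one,
    one_mul]

/-- the short Weyl elements act monomially -/
theorem rawMonT_wS {a c : J} (hca : c ≠ a) (hca' : c ≠ ν a) {u : K'} (hu : u ≠ 0) :
    RawMonT B (B.wS a u) (Equiv.swap a (ν a)) (vT ν a (τ.N u)) (rfE τ u hu) := by
  have nn : ∀ x : J, ν (ν x) = x := B.D.nu_nu
  have hN : τ.N u ≠ 0 := τ.N_ne_zero hu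
  have hσ : τ.σ u ≠ 0 := Tw'.σ_ne_zero τ hu
  refine ⟨⟨vT_ne_zero hN, fun k l => ?_⟩, B.swap_nu a, fun k t => ?_⟩
  · change PS B a u k l
    by_cases hkl : k = l
    · subst hkl
      intro t
      rw [B.D.y_self, B.D.y_self, map_one]
    by_cases hkl' : l = ν k
    · subst hkl'
      intro t
      rw [B.D.y_opp, B.swap_nu, B.D.y_opp, map_one]
    by_cases hka : k = a
    · subst hka
      exact B.PS_a (l := l) (Ne.symm hkl) hkl' hu
    by_cases hka' : k = ν a
    · subst hka'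
      refine B.PS_na (fun e => hkl' (by rw [e, nn])) (Ne.symm hkl) hu
    by_cases hla : l = a
    · subst hla
      apply B.PS_flip hu
      exact B.PS_na (l := ν k) (fun e => hkl' e.symm) (fun e => hkl (B.D.nu_inj e)) hu
    by_cases hla' : l = ν a
    · subst hla'
      apply B.PS_flip hu
      rw [nn]
      refine B.PS_a (fun e => hka' (by rw [← e, nn])) (fun e => hka (B.D.nu_inj e)) hu
    · exact B.PS_ne hka hka' hla hla' u
  · rw [rfE_apply]
    by_cases hka : k = a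
    · subst hka
      rw [B.cjwS_Ya hca hca' hu, Equiv.swap_apply_left, vT_a]
      congr 1
      unfold Tw'.rf
      rw [Algebra.smul_def, map_neg, map_inv₀, τ.hN]
      field_simp
    by_cases hka' : k = ν a
    · subst hka'
      rw [B.cjwS_Yna hca hca' hu, Equiv.swap_apply_right, B.vT_na]
      congr 1
      unfold Tw'.rf
      rw [Algebra.smul_def, map_neg, τ.hN]
      field_simp
    · rw [B.cjwS_Yne hka hka' hu, Equiv.swap_apply_of_ne_of_ne hka hka', vT_of_ne _ hka hka',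
        one_smul]

/-- the long Weyl elements act monomially -/
theorem rawMonT_w (hc : ∀ a b : J, ∃ c, c ≠ a ∧ c ≠ b ∧ c ≠ ν a ∧ c ≠ ν b) {i j : J}
    (hij : i ≠ j) (hij' : i ≠ ν j) {u : K} (hu : u ≠ 0) :
    RawMonT B (B.D.w i j u) (sig ν i j) (wvecD ν i j u) 1 := by
  obtain ⟨c, hc1, hc2, hc3, hc4⟩ := hc i j
  have hT : Tri ν i j c :=
    ⟨hij, hc1.symm, hc2.symm, hij', B.D.ne_nu_symm hc3, B.D.ne_nu_symm hc4⟩
  refine ⟨B.D.rawMon_w hc hij hij' hu, sig_nu B.D hij hij', fun k t => ?_⟩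
  have e1 : (1 : K' ≃ₗ[K] K') t = t := rfl
  rw [e1]
  by_cases h1 : k = j
  · subst h1
    rw [B.cjwL_Yl hij hij' hu, sig_j B.D hij hij', wv_j B.D hij hij']
  by_cases h2 : k = i
  · subst h2
    rw [B.cjwL_Yk hT hu, sig_i B.D hij hij', wv_i B.D hij hij']
  by_cases h3 : k = ν j
  · subst h3
    rw [B.cjwL_Ynl hT hu, sig_nj B.D hij hij', wv_nj B.D hij hij']
  by_cases h4 : k = ν i
  · subst h4
    rw [B.cjwL_Ynk hij hij' hu, sig_ni B.D hij hij', wv_ni B.D hij hij']
  · rw [B.cjwL_Yne h2 h1 h4 h3, sig_of_ne h2 h1 h4 h3, wv_of_ne u h2 h1 h4 h3, one_smul]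

end TData

end Cfsg.Agent.Lib.Helper3.TN
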