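import Cfsg.Agent.Lib.Helper3.TN2
import Cfsg.Agent.Lib.Helper3.BN3

/-!
# Twisted type: the unipotent subgroup and the simple reflections
-/

set_option linter.unusedSectionVars false
set_option linter.unusedVariables false

namespace Cfsg.Agent.Lib.Helper3.TN

open Cfsg.Agent.Lib.Helper5.Stb Cfsg.Agent.Lib.Helper3.AN Cfsg.Agent.Lib.Helper3.DN
  Cfsg.Agent.Lib.Helper3.BN Cfsg.Agent.Lib.Helper3.TW

variable {n : ℕ} {K K' G : Type*} [Field K] [Field K'] [Algebra K K'] [Group G] {τ : Tw K K'}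
  (B : TData (Fin (n + n)) K K' G Fin.rev τ)

namespace TData

/-- the positive root elements -/
def posGen : Set G :=
  {g | ∃ k l t, k < l ∧ g = B.D.y k l t} ∪ {g | ∃ (k : Fin (n + n)) (t : K'), k.val < n ∧ g = B.Y k t}

/-- the subgroup generated by the positive root elements -/
def UposB : Subgroup G := Subgroup.closure B.posGen

/-- the positive root elements outside the class of the long root `(a, b)` -/
def genL (a b : Fin (n + n)) : Set G :=
  {g | ∃ k l t, k < l ∧ ¬ (k = a ∧ l = b) ∧ ¬ (k = Fin.rev b ∧ l = Fin.rev a) ∧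
    g = B.D.y k l t} ∪ {g | ∃ (k : Fin (n + n)) (t : K'), k.val < n ∧ g = B.Y k t}

/-- the subgroup generated by the positive root elements outside the class of `(a, b)` -/
def UaL (a b : Fin (n + n)) : Subgroup G := Subgroup.closure (B.genL a b)

/-- the positive root elements other than those of the short simple root -/
def genS : Set G :=
  {g | ∃ k l t, k < l ∧ g = B.D.y k l t} ∪
    {g | ∃ (k : Fin (n + n)) (t : K'), k.val + 1 < n ∧ g = B.Y k t}

/-- the subgroup generated by the positive root elements other than those of the short simple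
root -/
def UaS : Subgroup G := Subgroup.closure B.genS

theorem y_mem_UposB {k l : Fin (n + n)} (hkl : k < l) (t : K) : B.D.y k l t ∈ B.UposB :=
  Subgroup.subset_closure (Or.inl ⟨k, l, t, hkl, rfl⟩)

theorem Y_mem_UposB {k : Fin (n + n)} (hk : k.val < n) (t : K') : B.Y k t ∈ B.UposB :=
  Subgroup.subset_closure (Or.inr ⟨k, t, hk, rfl⟩)

theorem y_mem_UaL {a b k l : Fin (n + n)} (hkl : k < l) (h1 : ¬ (k = a ∧ l = b))
    (h2 : ¬ (k = Fin.rev b ∧ l = Fin.rev a)) (t : K) : B.D.y k l t ∈ B.UaL a b :=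
  Subgroup.subset_closure (Or.inl ⟨k, l, t, hkl, h1, h2, rfl⟩)

theorem Y_mem_UaL (a b : Fin (n + n)) {k : Fin (n + n)} (hk : k.val < n) (t : K') :
    B.Y k t ∈ B.UaL a b :=
  Subgroup.subset_closure (Or.inr ⟨k, t, hk, rfl⟩)

theorem y_mem_UaS {k l : Fin (n + n)} (hkl : k < l) (t : K) : B.D.y k l t ∈ B.UaS :=
  Subgroup.subset_closure (Or.inl ⟨k, l, t, hkl, rfl⟩)

theorem Y_mem_UaS {k : Fin (n + n)} (hk : k.val + 1 < n) (t : K') : B.Y k t ∈ B.UaS :=
  Subgroup.subset_closure (Or.inr ⟨k, t, hk, rfl⟩)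

theorem Ua_le_UaL (a b : Fin (n + n)) : B.D.Ua a b ≤ B.UaL a b := by
  unfold DData.Ua UaL
  apply Subgroup.closure_mono
  rintro g ⟨k, l, t, hkl, h1, h2, rfl⟩
  exact Or.inl ⟨k, l, t, hkl, h1, h2, rfl⟩

theorem UaL_le_UposB (a b : Fin (n + n)) : B.UaL a b ≤ B.UposB := by
  unfold UaL UposB
  apply Subgroup.closure_mono
  rintro g (⟨k, l, t, hkl, -, -, rfl⟩ | ⟨k, t, hk, rfl⟩)
  · exact Or.inl ⟨k, l, t, hkl, rfl⟩
  · exact Or.inr ⟨k, t, hk, rfl⟩

theorem UaS_le_UposB : B.UaS ≤ B.UposB := by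
  unfold UaS UposB
  apply Subgroup.closure_mono
  rintro g (⟨k, l, t, hkl, rfl⟩ | ⟨k, t, hk, rfl⟩)
  · exact Or.inl ⟨k, l, t, hkl, rfl⟩
  · exact Or.inr ⟨k, t, by omega, rfl⟩

/-! ### The long simple roots -/

theorem UaL_conj_gen {a b : Fin (n + n)} (hab : a < b) (hb : b.val < n) (t : K) {g : G}
    (hg : g ∈ B.genL a b) : MulAut.conj (B.D.y a b t) g ∈ B.UaL a b := by
  have hab' : b ≠ Fin.rev a := by
    intro e
    have := congrArg Fin.val e
    rw [Fin.val_rev] at this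
    rw [Fin.lt_def] at hab
    omega
  rcases hg with ⟨k, l, s, hkl, h1, h2, rfl⟩ | ⟨k, s, hk, rfl⟩
  · exact B.Ua_le_UaL a b (B.D.Ua_conj_y hab hab' hkl h1 h2 t s)
  · by_cases hkb : k = b
    · subst hkb
      have han : a ≠ Fin.rev k := B.D.ne_nu_symm hab'
      rw [B.cjXY (ne_of_lt hab) han]
      have ha : a.val < n := by rw [Fin.lt_def] at hab; omega
      refine mul_mem (mul_mem (B.Y_mem_UaL a k ha _) (B.y_mem_UaL ?_ ?_ ?_ _)) (B.Y_mem_UaL a k hk _)
      · rw [Fin.lt_def, Fin.val_rev]; omega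
      · rintro ⟨-, e⟩
        have := congrArg Fin.val e
        rw [Fin.val_rev] at this
        omega
      · rintro ⟨e, -⟩
        exact han e
    · have hka : k ≠ Fin.rev a := by
        intro e
        have := congrArg Fin.val e
        rw [Fin.val_rev] at this
        rw [Fin.lt_def] at hab
        omega
      rw [B.cjXY_comm hkb hka]
      exact B.Y_mem_UaL a b hk _

theorem UaL_conj_y {a b : Fin (n + n)} (hab : a < b) (hb : b.val < n) (t : K) {u : G}
    (hu : u ∈ B.UaL a b) : MulAut.conj (B.D.y a b t) u ∈ B.UaL a b := by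
  unfold UaL at hu
  induction hu using Subgroup.closure_induction with
  | mem y hy => exact B.UaL_conj_gen hab hb t hy
  | one => rw [map_one]; exact one_mem _
  | mul x y _ _ hx hy => rw [map_mul]; exact mul_mem hx hy
  | inv x _ hx => rw [map_inv]; exact inv_mem hx

theorem UposB_decomp_L {a b : Fin (n + n)} (hab : a < b) (hb : b.val < n) {u : G}
    (hu : u ∈ B.UposB) : ∃ u' ∈ B.UaL a b, ∃ t, u = u' * B.D.y a b t := by
  have key : ∀ u' ∈ B.UaL a b, ∀ t, ∀ g ∈ B.posGen,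
      ∃ u'' ∈ B.UaL a b, ∃ t', u' * B.D.y a b t * g = u'' * B.D.y a b t' := by
    intro u' hu' t g hg
    by_cases hgL : g ∈ B.genL a b
    · refine ⟨u' * MulAut.conj (B.D.y a b t) g,
        mul_mem hu' (B.UaL_conj_gen hab hb t hgL), t, ?_⟩
      rw [MulAut.conj_apply]; group
    · rcases hg with ⟨k, l, s, hkl, rfl⟩ | ⟨k, s, hk, rfl⟩
      · by_cases hne : k = a ∧ l = b
        · obtain ⟨rfl, rfl⟩ := hne
          exact ⟨u', hu', t + s, by rw [mul_assoc, ← B.D.y_add]⟩
        by_cases hne' : k = Fin.rev b ∧ l = Fin.rev a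
        · obtain ⟨rfl, rfl⟩ := hne'
          refine ⟨u', hu', t + (-s), ?_⟩
          rw [B.D.y_flip (Fin.rev b) (Fin.rev a) s, Fin.rev_rev, Fin.rev_rev, mul_assoc,
            ← B.D.y_add]
        · exact absurd (Or.inl ⟨k, l, s, hkl, hne, hne', rfl⟩) hgL
      · exact absurd (Or.inr ⟨k, s, hk, rfl⟩) hgL
  have keyinv : ∀ g ∈ B.posGen, g⁻¹ ∈ B.posGen := by
    rintro g (⟨k, l, s, hkl, rfl⟩ | ⟨k, s, hk, rfl⟩)
    · exact Or.inl ⟨k, l, -s, hkl, by rw [B.D.y_neg]⟩
    · exact Or.inr ⟨k, -s, hk, by rw [B.Y_neg]⟩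
  unfold UposB at hu
  induction hu using Subgroup.closure_induction_right with
  | one => exact ⟨1, one_mem _, 0, by rw [B.D.y_zero, mul_one]⟩
  | mul_right x hx y hy ih =>
    obtain ⟨u', hu', t, rfl⟩ := ih
    exact key u' hu' t y hy
  | mul_inv_cancel x hx y hy ih =>
    obtain ⟨u', hu', t, rfl⟩ := ih
    exact key u' hu' t y⁻¹ (keyinv y hy)

theorem UaL_conj_w (hc : ∀ a b : Fin (n + n), ∃ c, c ≠ a ∧ c ≠ b ∧ c ≠ Fin.rev a ∧ c ≠ Fin.rev b)
    {a b : Fin (n + n)} (hs : IsSimpL a b) {c : K} (hc0 : c ≠ 0) {u : G} (hu : u ∈ B.UaL a b) :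
    MulAut.conj (B.D.w a b c) u ∈ B.UaL a b := by
  have hab : a ≠ b := ne_of_lt (simp_lt hs.isSimp)
  have hab' : a ≠ Fin.rev b := B.D.ne_nu_symm (simp_ne_rev hs.isSimp)
  have hmon := B.rawMonT_w hc hab hab' hc0
  unfold UaL at hu
  induction hu using Subgroup.closure_induction with
  | mem y hy =>
    rcases hy with ⟨k, l, s, hkl, h1, h2, rfl⟩ | ⟨k, s, hk, rfl⟩
    · exact B.Ua_le_UaL a b (B.D.Ua_conj_w hc hs.isSimp hc0
        (B.D.y_mem_Ua hkl h1 h2 s))
    · rw [hmon.short]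
      apply B.Y_mem_UaL
      rw [sig_val B.D hab hab' k]
      have h1 := hs.1
      have h2 := hs.2
      have ra := Fin.val_rev a
      have rb := Fin.val_rev b
      simp only [Fin.ext_iff, Fin.val_rev]
      split_ifs <;> omega
  | one => rw [map_one]; exact one_mem _
  | mul x y _ _ hx hy => rw [map_mul]; exact mul_mem hx hy
  | inv x _ hx => rw [map_inv]; exact inv_mem hx

/-! ### The short simple root -/

section short
variable {a₀ : Fin (n + n)} (ha : a₀.val + 1 = n)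
include ha

theorem UaS_conj_gen (t : K') {g : G} (hg : g ∈ B.genS) :
    MulAut.conj (B.Y a₀ t) g ∈ B.UaS := by
  have ra := Fin.val_rev a₀
  rcases hg with ⟨k, l, s, hkl, rfl⟩ | ⟨k, s, hk, rfl⟩
  · have rk := Fin.val_rev k
    have rl := Fin.val_rev l
    have hkl0 := hkl
    rw [Fin.lt_def] at hkl
    by_cases hl : l = a₀
    · subst hl
      have h1 : k ≠ l := ne_of_lt hkl0
      have h2 : k ≠ Fin.rev l := by
        intro e; have := congrArg Fin.val e; omega
      rw [B.cjYX h1 h2]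
      refine mul_mem (mul_mem (B.y_mem_UaS hkl0 _) (B.Y_mem_UaS (by omega) _)) (B.y_mem_UaS ?_ _)
      rw [Fin.lt_def]; omega
    by_cases hk : k = Fin.rev a₀
    · subst hk
      have h1 : Fin.rev l ≠ a₀ := by
        intro e; have := congrArg Fin.val e; omega
      have h2 : Fin.rev l ≠ Fin.rev a₀ := by
        intro e; have := congrArg Fin.val e; omega
      have e0 : B.D.y (Fin.rev a₀) l s = B.D.y (Fin.rev l) a₀ (-s) := by
        rw [B.D.y_flip (Fin.rev a₀) l s, Fin.rev_rev]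
      rw [e0, B.cjYX h1 h2, ← e0]
      refine mul_mem (mul_mem (B.y_mem_UaS hkl0 _) (B.Y_mem_UaS (by omega) _)) (B.y_mem_UaS ?_ _)
      rw [Fin.lt_def]; omega
    · rw [B.cjYX_comm (Ne.symm hl) (fun e => hk (by rw [e, Fin.rev_rev]))]
      exact B.y_mem_UaS hkl0 _
  · have rk := Fin.val_rev k
    have h1 : k ≠ a₀ := by
      intro e; have := congrArg Fin.val e; omega
    have h2 : k ≠ Fin.rev a₀ := by
      intro e; have := congrArg Fin.val e; omega
    rw [B.cjYY h1 h2]
    refine mul_mem (B.y_mem_UaS ?_ _) (B.Y_mem_UaS hk _)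
    rw [Fin.lt_def]; omega

theorem UaS_conj_Y (t : K') {u : G} (hu : u ∈ B.UaS) : MulAut.conj (B.Y a₀ t) u ∈ B.UaS := by
  unfold UaS at hu
  induction hu using Subgroup.closure_induction with
  | mem y hy => exact B.UaS_conj_gen ha t hy
  | one => rw [map_one]; exact one_mem _
  | mul x y _ _ hx hy => rw [map_mul]; exact mul_mem hx hy
  | inv x _ hx => rw [map_inv]; exact inv_mem hx

theorem UposB_decomp_S {u : G} (hu : u ∈ B.UposB) : ∃ u' ∈ B.UaS, ∃ t, u = u' * B.Y a₀ t := by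
  have key : ∀ u' ∈ B.UaS, ∀ t, ∀ g ∈ B.posGen,
      ∃ u'' ∈ B.UaS, ∃ t', u' * B.Y a₀ t * g = u'' * B.Y a₀ t' := by
    intro u' hu' t g hg
    by_cases hgS : g ∈ B.genS
    · refine ⟨u' * MulAut.conj (B.Y a₀ t) g, mul_mem hu' (B.UaS_conj_gen ha t hgS), t, ?_⟩
      rw [MulAut.conj_apply]; group
    · rcases hg with ⟨k, l, s, hkl, rfl⟩ | ⟨k, s, hk, rfl⟩
      · exact absurd (Or.inl ⟨k, l, s, hkl, rfl⟩) hgS
      · have hk' : k = a₀ := by
          by_contra hne
          apply hgS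
          refine Or.inr ⟨k, s, ?_, rfl⟩
          have : k.val ≠ a₀.val := fun e => hne (Fin.ext e)
          omega
        subst hk'
        exact ⟨u', hu', t + s, by rw [mul_assoc, ← B.Y_add]⟩
  have keyinv : ∀ g ∈ B.posGen, g⁻¹ ∈ B.posGen := by
    rintro g (⟨k, l, s, hkl, rfl⟩ | ⟨k, s, hk, rfl⟩)
    · exact Or.inl ⟨k, l, -s, hkl, by rw [B.D.y_neg]⟩
    · exact Or.inr ⟨k, -s, hk, by rw [B.Y_neg]⟩
  unfold UposB at hu
  induction hu using Subgroup.closure_induction_right with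
  | one => exact ⟨1, one_mem _, 0, by rw [B.Y_zero, mul_one]⟩
  | mul_right x hx y hy ih =>
    obtain ⟨u', hu', t, rfl⟩ := ih
    exact key u' hu' t y hy
  | mul_inv_cancel x hx y hy ih =>
    obtain ⟨u', hu', t, rfl⟩ := ih
    exact key u' hu' t y⁻¹ (keyinv y hy)

theorem UaS_conj_w (hn : 2 ≤ n) {c : K'} (hc0 : c ≠ 0) {u : G} (hu : u ∈ B.UaS) :
    MulAut.conj (B.wS a₀ c) u ∈ B.UaS := by
  have ra := Fin.val_rev a₀
  obtain ⟨c', hc1, hc2⟩ : ∃ c' : Fin (n + n), c' ≠ a₀ ∧ c' ≠ Fin.rev a₀ := by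
    refine ⟨⟨0, by omega⟩, ?_, ?_⟩
    · intro e; have := congrArg Fin.val e; simp only [] at this; omega
    · intro e; have := congrArg Fin.val e; simp only [] at this; omega
  have hmon := B.rawMonT_wS hc1 hc2 hc0
  unfold UaS at hu
  induction hu using Subgroup.closure_induction with
  | mem y hy =>
    rcases hy with ⟨k, l, s, hkl, rfl⟩ | ⟨k, s, hk, rfl⟩
    · by_cases hkl' : l = Fin.rev k
      · rw [hkl', B.D.y_opp, map_one]
        exact one_mem _
      rw [hmon.raw.2]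
      apply B.y_mem_UaS
      have rk := Fin.val_rev k
      have rl := Fin.val_rev l
      rw [Fin.lt_def] at hkl ⊢
      rw [Equiv.swap_apply_def, Equiv.swap_apply_def]
      simp only [Fin.ext_iff, Fin.val_rev] at hkl' ⊢
      split_ifs <;> (try simp only [Fin.val_rev]) <;> omega
    · rw [hmon.short]
      have h1 : k ≠ a₀ := by
        intro e; have := congrArg Fin.val e; omega
      have h2 : k ≠ Fin.rev a₀ := by
        intro e; have := congrArg Fin.val e; omega
      rw [Equiv.swap_apply_of_ne_of_ne h1 h2]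
      exact B.Y_mem_UaS hk _
  | one => rw [map_one]; exact one_mem _
  | mul x y _ _ hx hy => rw [map_mul]; exact mul_mem hx hy
  | inv x _ hx => rw [map_inv]; exact inv_mem hx

end short

end TData

end Cfsg.Agent.Lib.Helper3.TN
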