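import Cfsg.Agent.Lib.Helper3.TN4
import Cfsg.Agent.Lib.Helper3.BN5

/-!
# Twisted type: the natural representation on `(J → K) × K'`
-/

set_option linter.unusedSectionVars false
set_option linter.unusedVariables false
set_option linter.unusedSimpArgs false

namespace Cfsg.Agent.Lib.Helper3.TN

open Cfsg.Agent.Lib.Helper5.Stb Cfsg.Agent.Lib.Helper3.AN Cfsg.Agent.Lib.Helper3.DN
  Cfsg.Agent.Lib.Helper3.BN Cfsg.Agent.Lib.Helper3.TW

section generic
variable {J K K' G : Type*} [Field K] [Field K'] [Algebra K K'] [Group G] [DecidableEq J]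
  {ν : J → J} {τ : Tw K K'}

/-- the natural module: hyperbolic part and anisotropic part -/
abbrev Mod (J K K' : Type*) : Type _ := (J → K) × K'

/-- the basis vectors of the hyperbolic part -/
def eJ (l : J) : Mod J K K' := (Pi.single l 1, 0)

/-- the vectors of the anisotropic part -/
def eW (w : K') : Mod J K K' := ((0 : J → K), w)

omit [Algebra K K'] in
@[simp] theorem eJ_fst (l : J) : (eJ l : Mod J K K').1 = Pi.single l 1 := rfl
omit [Algebra K K'] in
@[simp] theorem eJ_snd (l : J) : (eJ l : Mod J K K').2 = 0 := rfl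
omit [Algebra K K'] [DecidableEq J] in
@[simp] theorem eW_fst (w : K') : (eW w : Mod J K K').1 = 0 := rfl
omit [Algebra K K'] [DecidableEq J] in
@[simp] theorem eW_snd (w : K') : (eW w : Mod J K K').2 = w := rfl

omit [DecidableEq J] in
theorem eW_smul (c : K) (w : K') : (eW (c • w) : Mod J K K') = c • eW w := by
  ext <;> simp [eW]

omit [DecidableEq J] [Algebra K K'] in
theorem eW_add (w w' : K') : (eW (w + w') : Mod J K K') = eW w + eW w' := by
  ext <;> simp [eW]

omit [DecidableEq J] [Algebra K K'] in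
theorem eW_sub (w w' : K') : (eW (w - w') : Mod J K K') = eW w - eW w' := by
  ext <;> simp [eW]

omit [DecidableEq J] [Algebra K K'] in
theorem eW_neg (w : K') : (eW (-w) : Mod J K K') = -eW w := by
  ext <;> simp [eW]

omit [DecidableEq J] [Algebra K K'] in
theorem eW_zero : (eW 0 : Mod J K K') = 0 := rfl

/-- `φ` sends the root elements to the standard root elements of the orthogonal group -/
structure IsRepT (B : TData J K K' G ν τ) (φ : G →* Module.End K (Mod J K K')) : Prop where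
  long : ∀ k l t, k ≠ l → l ≠ ν k → ∀ x : Mod J K K',
    φ (B.D.y k l t) x = x + (t * x.1 l) • (eJ k : Mod J K K') -
      (t * x.1 (ν k)) • (eJ (ν l) : Mod J K K')
  short : ∀ k u, ∀ x : Mod J K K',
    φ (B.Y k u) x = x + (τ.P x.2 u - τ.N u * x.1 (ν k)) • (eJ k : Mod J K K') -
      eW (x.1 (ν k) • u)

variable {B : TData J K K' G ν τ} {φ : G →* Module.End K (Mod J K K')} (hφ : IsRepT B φ)
include hφ

theorem repX_l {k l : J} (hkl : k ≠ l) (hkl' : l ≠ ν k) (t : K) :
    φ (B.D.y k l t) (eJ l : Mod J K K') = eJ l + t • eJ k := by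
  rw [hφ.long k l t hkl hkl']
  have h1 : (eJ l : Mod J K K').1 l = 1 := by simp
  have h2 : (eJ l : Mod J K K').1 (ν k) = 0 := by simp [Ne.symm hkl']
  rw [h1, h2, mul_one, mul_zero, zero_smul, sub_zero]

theorem repX_rk {k l : J} (hkl : k ≠ l) (hkl' : l ≠ ν k) (t : K) :
    φ (B.D.y k l t) (eJ (ν k) : Mod J K K') = eJ (ν k) - t • eJ (ν l) := by
  rw [hφ.long k l t hkl hkl']
  have h1 : (eJ (ν k) : Mod J K K').1 (ν k) = 1 := by simp
  have h2 : (eJ (ν k) : Mod J K K').1 l = 0 := by simp [hkl']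
  rw [h1, h2, mul_one, mul_zero, zero_smul, add_zero]

theorem repX_ne {k l m : J} (hkl : k ≠ l) (hkl' : l ≠ ν k) (h1 : m ≠ l) (h2 : m ≠ ν k) (t : K) :
    φ (B.D.y k l t) (eJ m : Mod J K K') = eJ m := by
  rw [hφ.long k l t hkl hkl']
  have h3 : (eJ m : Mod J K K').1 l = 0 := by simp [Ne.symm h1]
  have h4 : (eJ m : Mod J K K').1 (ν k) = 0 := by simp [Ne.symm h2]
  simp only [h3, h4, mul_zero, zero_smul, add_zero, sub_zero]

theorem repX_W (k l : J) (t : K) (w : K') :
    φ (B.D.y k l t) (eW w : Mod J K K') = eW w := by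
  by_cases hkl : k = l
  · rw [hkl, B.D.y_self, map_one]; rfl
  by_cases hkl' : l = ν k
  · rw [hkl', B.D.y_opp, map_one]; rfl
  rw [hφ.long k l t hkl hkl']
  have h3 : (eW w : Mod J K K').1 l = 0 := by simp
  have h4 : (eW w : Mod J K K').1 (ν k) = 0 := by simp
  simp only [h3, h4, mul_zero, zero_smul, add_zero, sub_zero]

theorem repY_W (k : J) (u w : K') :
    φ (B.Y k u) (eW w : Mod J K K') = eW w + τ.P w u • eJ k := by
  rw [hφ.short k u]
  have h1 : (eW w : Mod J K K').2 = w := rfl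
  have h2 : (eW w : Mod J K K').1 (ν k) = 0 := by simp
  rw [h1, h2, mul_zero, sub_zero, zero_smul, eW_zero, sub_zero]

theorem repY_nk (k : J) (u : K') :
    φ (B.Y k u) (eJ (ν k) : Mod J K K') = eJ (ν k) - τ.N u • eJ k - eW u := by
  rw [hφ.short k u]
  have h1 : (eJ (ν k) : Mod J K K').2 = 0 := rfl
  have h2 : (eJ (ν k) : Mod J K K').1 (ν k) = 1 := by simp
  rw [h1, h2, mul_one, one_smul, τ.P_zero_left, zero_sub, neg_smul, ← sub_eq_add_neg]

theorem repY_ne {k m : J} (h : m ≠ ν k) (u : K') :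
    φ (B.Y k u) (eJ m : Mod J K K') = eJ m := by
  rw [hφ.short k u]
  have h1 : (eJ m : Mod J K K').2 = 0 := rfl
  have h2 : (eJ m : Mod J K K').1 (ν k) = 0 := by simp [Ne.symm h]
  rw [h1, h2, mul_zero, τ.P_zero_left, sub_zero, zero_smul, zero_smul, eW_zero, add_zero,
    sub_zero]

omit hφ in
theorem vecT1 {M : Type*} [AddCommGroup M] [Module K M] {u : K} (hu : u ≠ 0) (p q : M) :
    p + u • (q + (-u⁻¹) • p) = u • q := by
  rw [smul_add, smul_smul, mul_neg, mul_inv_cancel₀ hu, neg_one_smul]; abel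

omit hφ in
theorem vecT2 {M : Type*} [AddCommGroup M] [Module K M] {u : K} (hu : u ≠ 0) (p q : M) :
    p + (-u⁻¹) • (q + u • p) = (-u⁻¹) • q := by
  rw [smul_add, smul_smul, neg_mul, inv_mul_cancel₀ hu, neg_one_smul]; abel

omit hφ in
theorem vecT3 {M : Type*} [AddCommGroup M] [Module K M] {u : K} (hu : u ≠ 0) (p q : M) :
    p - (-u⁻¹) • (q - u • p) = u⁻¹ • q := by
  rw [smul_sub, smul_smul, neg_mul, inv_mul_cancel₀ hu, neg_one_smul, neg_smul]; abel

omit hφ in
theorem vecT4 {M : Type*} [AddCommGroup M] [Module K M] {u : K} (hu : u ≠ 0) (p q : M) :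
    p - u • (q - (-u⁻¹) • p) = (-u) • q := by
  rw [smul_sub, smul_smul, mul_neg, mul_inv_cancel₀ hu, neg_one_smul, neg_smul]; abel

/-- the long Weyl elements are represented by monomial matrices -/
theorem rep_w_eJ {i j : J} (hij : i ≠ j) (hij' : i ≠ ν j) {u : K} (hu : u ≠ 0) (l : J) :
    φ (B.D.w i j u) (eJ l : Mod J K K') = wvecD ν i j u l • eJ (sig ν i j l) := by
  have f1 : j ≠ ν i := B.D.ne_nu_symm hij'
  have f4 : ν i ≠ ν j := fun h => hij (B.D.nu_inj h)
  have n1 := B.D.ne_nu i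
  have n2 := B.D.ne_nu j
  unfold DData.w
  rw [map_mul, map_mul, Module.End.mul_apply, Module.End.mul_apply]
  by_cases h1 : l = j
  · subst h1
    rw [repX_l hφ hij f1, map_add, map_smul,
      repX_ne hφ hij.symm hij' hij.symm n2, repX_l hφ hij.symm hij', vecT1 hu,
      map_smul, repX_ne hφ hij f1 hij n1, sig_j B.D hij hij', wv_j B.D hij hij']
  by_cases h2 : l = i
  · subst h2
    rw [repX_ne hφ hij f1 hij n1, repX_l hφ hij.symm hij', map_add,
      map_smul, repX_ne hφ hij f1 hij n1, repX_l hφ hij f1, vecT2 hu,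
      sig_i B.D hij hij', wv_i B.D hij hij']
  by_cases h3 : l = ν j
  · subst h3
    rw [repX_ne hφ hij f1 n2.symm f4.symm, repX_rk hφ hij.symm hij', map_sub,
      map_smul, repX_ne hφ hij f1 n2.symm f4.symm, repX_rk hφ hij f1, vecT3 hu,
      sig_nj B.D hij hij', wv_nj B.D hij hij']
  by_cases h4 : l = ν i
  · subst h4
    rw [repX_rk hφ hij f1, map_sub, map_smul,
      repX_ne hφ hij.symm hij' n1.symm f4, repX_rk hφ hij.symm hij', vecT4 hu,
      map_smul, repX_ne hφ hij f1 n2.symm f4.symm, sig_ni B.D hij hij',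
      wv_ni B.D hij hij']
  · rw [repX_ne hφ hij f1 h1 h4, repX_ne hφ hij.symm hij' h2 h3, repX_ne hφ hij f1 h1 h4,
      sig_of_ne h2 h1 h4 h3, wv_of_ne u h2 h1 h4 h3, one_smul]

theorem rep_w_W (i j : J) (u : K) (w : K') : φ (B.D.w i j u) (eW w : Mod J K K') = eW w := by
  unfold DData.w
  rw [map_mul, map_mul, Module.End.mul_apply, Module.End.mul_apply, repX_W hφ, repX_W hφ,
    repX_W hφ]


/-- the short Weyl elements are represented by monomial matrices -/
theorem rep_wS_eJ (a : J) {u : K'} (hu : u ≠ 0) (l : J) :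
    φ (B.wS a u) (eJ l : Mod J K K') = vT ν a (τ.N u) l • eJ (Equiv.swap a (ν a) l) := by
  have n1 := B.D.ne_nu a
  have nn : ν (ν a) = a := B.D.nu_nu a
  have hN : τ.N u ≠ 0 := τ.N_ne_zero hu
  have s1 : φ (B.Y a u) (eJ (ν a) : Mod J K K') = eJ (ν a) - τ.N u • eJ a - eW u :=
    repY_nk hφ a u
  have s2 : φ (B.Y (ν a) (τ.σ u)⁻¹) (eJ (ν a) : Mod J K K') = eJ (ν a) := by
    apply repY_ne hφ _ _
    rw [nn]; exact n1.symm
  have s3 : φ (B.Y (ν a) (τ.σ u)⁻¹) (eJ a : Mod J K K') =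
      eJ a - (τ.N u)⁻¹ • eJ (ν a) - (τ.N u)⁻¹ • eW u := by
    have := repY_nk hφ (ν a) (τ.σ u)⁻¹
    rw [nn, Tw'.N_σ_inv] at this
    rw [this, ← eW_smul, τ.inv_N_smul]
  have s4 : φ (B.Y a u) (eJ a : Mod J K K') = eJ a := repY_ne hφ n1 u
  have s5 : φ (B.Y a u) (eW u : Mod J K K') = eW u + (2 * τ.N u) • eJ a := by
    rw [repY_W hφ, τ.P_self]
  have s6 : φ (B.Y (ν a) (τ.σ u)⁻¹) (eW u : Mod J K K') = eW u + (2 : K) • eJ (ν a) := by
    rw [repY_W hφ, Tw'.P_inv_σ τ hu]
  unfold TData.wS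
  rw [map_mul, map_mul, Module.End.mul_apply, Module.End.mul_apply]
  by_cases h1 : l = a
  · subst h1
    simp only [map_sub, map_add, map_smul, s1, s2, s3, s4, s5, s6]
    rw [Equiv.swap_apply_left, vT_a]
    match_scalars <;> field_simp <;> ring
  by_cases h2 : l = ν a
  · subst h2
    simp only [map_sub, map_add, map_smul, s1, s2, s3, s4, s5, s6]
    rw [Equiv.swap_apply_right, B.vT_na]
    match_scalars <;> field_simp <;> ring
  · have h3 : l ≠ ν (ν a) := by rw [nn]; exact h1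
    rw [repY_ne hφ h2, repY_ne hφ h3, repY_ne hφ h2, Equiv.swap_apply_of_ne_of_ne h1 h2,
      vT_of_ne _ h1 h2, one_smul]

theorem rep_wS_W (a : J) {u : K'} (hu : u ≠ 0) (w : K') :
    φ (B.wS a u) (eW w : Mod J K K') = eW (Tw'.rf τ u w) := by
  have n1 := B.D.ne_nu a
  have nn : ν (ν a) = a := B.D.nu_nu a
  have hN : τ.N u ≠ 0 := τ.N_ne_zero hu
  have s3 : φ (B.Y (ν a) (τ.σ u)⁻¹) (eJ a : Mod J K K') =
      eJ a - (τ.N u)⁻¹ • eJ (ν a) - (τ.N u)⁻¹ • eW u := by
    have := repY_nk hφ (ν a) (τ.σ u)⁻¹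
    rw [nn, Tw'.N_σ_inv] at this
    rw [this, ← eW_smul, τ.inv_N_smul]
  have s4 : φ (B.Y a u) (eJ a : Mod J K K') = eJ a := repY_ne hφ n1 u
  have s5 : ∀ w', φ (B.Y a u) (eW w' : Mod J K K') = eW w' + τ.P w' u • eJ a := fun w' =>
    repY_W hφ a u w'
  have s6 : ∀ w', φ (B.Y (ν a) (τ.σ u)⁻¹) (eW w' : Mod J K K') =
      eW w' + ((τ.N u)⁻¹ * τ.P w' u) • eJ (ν a) := by
    intro w'
    rw [repY_W hφ, ← τ.inv_N_smul, τ.P_smul_right]
  have hr : (eW (Tw'.rf τ u w) : Mod J K K') = eW w - ((τ.N u)⁻¹ * τ.P w u) • eW u := by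
    rw [Tw'.rf_eq τ hu, eW_sub, eW_smul]
  have hP : τ.P (Tw'.rf τ u w) u = -τ.P w u := by
    rw [Tw'.rf_eq τ hu, sub_eq_add_neg, τ.P_add_left, τ.P_neg_left, τ.P_smul_left, τ.P_self]
    field_simp
    ring
  have step2 : φ (B.Y (ν a) (τ.σ u)⁻¹) (φ (B.Y a u) (eW w : Mod J K K')) =
      eW (Tw'.rf τ u w) + τ.P w u • eJ a := by
    rw [s5 w, map_add, map_smul, s6, s3, hr]
    match_scalars <;> field_simp <;> ring
  unfold TData.wS
  rw [map_mul, map_mul, Module.End.mul_apply, Module.End.mul_apply, step2, map_add, map_smul,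
    s4, s5, hP]
  match_scalars <;> field_simp <;> ring

/-- `g` acts monomially on the root elements and on the natural module -/
structure MonT (B : TData J K K' G ν τ) (φ : G →* Module.End K (Mod J K K')) (g : G)
    (π : Equiv.Perm J) (v : J → K) (ε : K' ≃ₗ[K] K') : Prop where
  raw : RawMonT B g π v ε
  mono : ∀ l, φ g (eJ l : Mod J K K') = v l • eJ (π l)
  monoW : ∀ w, φ g (eW w : Mod J K K') = eW (ε w)

omit hφ in
theorem MonT.one : MonT B φ 1 1 (fun _ => 1) 1 :=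
  ⟨RawMonT.one, fun l => by rw [map_one, one_smul]; rfl, fun w => by rw [map_one]; rfl⟩

omit hφ in
theorem MonT.mul {g g' : G} {π π' : Equiv.Perm J} {v v' : J → K} {ε ε' : K' ≃ₗ[K] K'}
    (h : MonT B φ g π v ε) (h' : MonT B φ g' π' v' ε') :
    MonT B φ (g * g') (π * π') (fun k => v' k * v (π' k)) (ε * ε') := by
  refine ⟨h.raw.mul h'.raw, fun l => ?_, fun w => ?_⟩
  · rw [map_mul, Module.End.mul_apply, h'.mono, map_smul, h.mono, smul_smul,
      Equiv.Perm.mul_apply]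
  · rw [map_mul, Module.End.mul_apply, h'.monoW, h.monoW, LinearEquiv.mul_apply]

omit hφ in
theorem MonT.inv {g : G} {π : Equiv.Perm J} {v : J → K} {ε : K' ≃ₗ[K] K'}
    (h : MonT B φ g π v ε) :
    MonT B φ g⁻¹ π⁻¹ (fun k => (v (π⁻¹ k))⁻¹) ε⁻¹ := by
  have hinv : ∀ z : Mod J K K', φ g⁻¹ (φ g z) = z := fun z => by
    rw [← Module.End.mul_apply, ← map_mul, inv_mul_cancel, map_one]; rfl
  refine ⟨h.raw.inv, fun l => ?_, fun w => ?_⟩
  · obtain ⟨a, rfl⟩ : ∃ a, π a = l := ⟨π⁻¹ l, by simp⟩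
    have e1 : π⁻¹ (π a) = a := by simp
    simp only [e1]
    have h1 := h.mono a
    have h2 : (eJ (π a) : Mod J K K') = (v a)⁻¹ • (φ g (eJ a : Mod J K K')) := by
      rw [h1, smul_smul, inv_mul_cancel₀ (h.raw.raw.1 a), one_smul]
    rw [h2, map_smul, hinv]
  · have h1 := h.monoW (ε⁻¹ w)
    have h2 : ε (ε⁻¹ w) = w := by
      show ε (ε.symm w) = w
      rw [LinearEquiv.apply_symm_apply]
    rw [h2] at h1
    rw [← h1, hinv]

theorem monT_w (hc : ∀ a b : J, ∃ c, c ≠ a ∧ c ≠ b ∧ c ≠ ν a ∧ c ≠ ν b) {i j : J} (hij : i ≠ j)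
    (hij' : i ≠ ν j) {u : K} (hu : u ≠ 0) :
    MonT B φ (B.D.w i j u) (sig ν i j) (wvecD ν i j u) 1 :=
  ⟨B.rawMonT_w hc hij hij' hu, rep_w_eJ hφ hij hij' hu, fun w => by rw [rep_w_W hφ]; rfl⟩

theorem monT_wS {a c : J} (hca : c ≠ a) (hca' : c ≠ ν a) {u : K'} (hu : u ≠ 0) :
    MonT B φ (B.wS a u) (Equiv.swap a (ν a)) (vT ν a (τ.N u)) (rfE τ u hu) :=
  ⟨B.rawMonT_wS hca hca' hu, rep_wS_eJ hφ a hu, fun w => by rw [rep_wS_W hφ a hu, rfE_apply]⟩

end generic

section fin
variable {n : ℕ} {K K' G : Type*} [Field K] [Field K'] [Algebra K K'] [Group G] {τ : Tw K K'}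
  (B : TData (Fin (n + n)) K K' G Fin.rev τ)
  {φ : G →* Module.End K (Mod (Fin (n + n)) K K')} (hφ : IsRepT B φ)

/-- the position of a basis vector of the hyperbolic part in the ordered basis (the anisotropic
part has position `n`) -/
def posJ {n : ℕ} (k : Fin (n + n)) : ℕ := if k.val < n then k.val else k.val + 1

/-- all coordinates beyond the position `p` vanish -/
def UT (p : ℕ) (x : Mod (Fin (n + n)) K K') : Prop :=
  (∀ k : Fin (n + n), p < posJ k → x.1 k = 0) ∧ (p < n → x.2 = 0)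

/-- the coordinates at the positions `≥ p` agree -/
def AgreeGe (p : ℕ) (x y : Mod (Fin (n + n)) K K') : Prop :=
  (∀ k : Fin (n + n), p ≤ posJ k → x.1 k = y.1 k) ∧ (p ≤ n → x.2 = y.2)

theorem posJ_lt {a b : Fin (n + n)} (h : a < b) : posJ a < posJ b := by
  rw [Fin.lt_def] at h
  simp only [posJ]
  split_ifs <;> omega

theorem UT_of_agree {p : ℕ} {x y : Mod (Fin (n + n)) K K'} (h : AgreeGe p x y) (hy : UT p y) :
    UT p x :=
  ⟨fun k hk => by rw [h.1 k (le_of_lt hk)]; exact hy.1 k hk,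
    fun hp => by rw [h.2 (le_of_lt hp)]; exact hy.2 hp⟩

include hφ

namespace TData

theorem UposB_UT {g : G} (hg : g ∈ B.UposB) (p : ℕ) :
    ∀ x : Mod (Fin (n + n)) K K', UT p x → AgreeGe p (φ g x) x := by
  have keyL : ∀ a b : Fin (n + n), a < b → ∀ t : K, ∀ x : Mod (Fin (n + n)) K K', UT p x →
      AgreeGe p (φ (B.D.y a b t) x) x := by
    intro a b hab t x hx
    by_cases hab' : b = Fin.rev a
    · rw [hab', B.D.y_opp, map_one]
      exact ⟨fun _ _ => rfl, fun _ => rfl⟩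
    rw [hφ.long a b t (ne_of_lt hab) hab']
    refine ⟨fun m hlm => ?_, fun _ => ?_⟩
    · simp only [Prod.fst_add, Prod.fst_sub, Prod.smul_fst, eJ_fst, Pi.add_apply, Pi.sub_apply,
        Pi.smul_apply, smul_eq_mul, Pi.single_apply]
      have e1 : (t * x.1 b) * (if m = a then (1 : K) else 0) = 0 := by
        split_ifs with h
        · have : p < posJ b := lt_of_le_of_lt (h ▸ hlm) (posJ_lt hab)
          rw [hx.1 _ this]; ring
        · ring
      have e2 : (t * x.1 (Fin.rev a)) * (if m = Fin.rev b then (1 : K) else 0) = 0 := by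
        split_ifs with h
        · have : p < posJ (Fin.rev a) :=
            lt_of_le_of_lt (h ▸ hlm) (posJ_lt (Fin.rev_lt_rev.2 hab))
          rw [hx.1 _ this]; ring
        · ring
      linear_combination e1 - e2
    · simp [eJ]
  have keyS : ∀ k : Fin (n + n), k.val < n → ∀ u : K', ∀ x : Mod (Fin (n + n)) K K', UT p x →
      AgreeGe p (φ (B.Y k u) x) x := by
    intro k hk u x hx
    have rk := Fin.val_rev k
    have p1 : posJ k = k.val := by simp [posJ, hk]
    have p2 : posJ (Fin.rev k) = (Fin.rev k).val + 1 := by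
      have : ¬ (Fin.rev k).val < n := by omega
      simp only [posJ, this, if_false]
    rw [hφ.short k u]
    refine ⟨fun m hlm => ?_, fun hp => ?_⟩
    · simp only [Prod.fst_add, Prod.fst_sub, Prod.smul_fst, eJ_fst, eW_fst, Pi.add_apply,
        Pi.sub_apply, Pi.smul_apply, smul_eq_mul, Pi.single_apply, Pi.zero_apply, sub_zero]
      have e1 : (τ.P x.2 u - τ.N u * x.1 (Fin.rev k)) * (if m = k then (1 : K) else 0) = 0 := by
        split_ifs with h
        · have h1 : p < posJ (Fin.rev k) := by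
            rw [h, p1] at hlm; rw [p2]; omega
          have h2 : p < n := by rw [h, p1] at hlm; omega
          rw [hx.1 _ h1, hx.2 h2, τ.P_zero_left]; ring
        · ring
      linear_combination e1
    · have h1 : p < posJ (Fin.rev k) := by rw [p2]; omega
      simp only [Prod.snd_add, Prod.snd_sub, Prod.smul_snd, eJ_snd, eW_snd, smul_zero, add_zero]
      rw [hx.1 _ h1, zero_smul, sub_zero]
  have trans : ∀ (f h : Module.End K (Mod (Fin (n + n)) K K')),
      (∀ x, UT p x → AgreeGe p (f x) x) → (∀ x, UT p x → AgreeGe p (h x) x) →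
      ∀ x, UT p x → AgreeGe p ((f * h) x) x := by
    intro f h hf hh x hx
    rw [Module.End.mul_apply]
    have h1 := hh x hx
    have h2 := hf (h x) (UT_of_agree h1 hx)
    exact ⟨fun k hk => (h2.1 k hk).trans (h1.1 k hk), fun hp => (h2.2 hp).trans (h1.2 hp)⟩
  unfold UposB at hg
  induction hg using Subgroup.closure_induction'' with
  | mem y hy =>
    rcases hy with ⟨a, b, t, hab, rfl⟩ | ⟨k, t, hk, rfl⟩
    · exact keyL a b hab t
    · exact keyS k hk t
  | inv_mem y hy =>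
    rcases hy with ⟨a, b, t, hab, rfl⟩ | ⟨k, t, hk, rfl⟩
    · rw [← B.D.y_neg]
      exact keyL a b hab (-t)
    · rw [← B.Y_neg]
      exact keyS k hk (-t)
  | one => intro x hx; rw [map_one]; exact ⟨fun _ _ => rfl, fun _ => rfl⟩
  | mul x y _ _ hx hy =>
    rw [map_mul]
    exact trans _ _ hx hy

theorem NwB_monT (hc : ∀ a b : Fin (n + n), ∃ c, c ≠ a ∧ c ≠ b ∧ c ≠ Fin.rev a ∧ c ≠ Fin.rev b)
    {g : G} (hg : g ∈ B.NwB) : ∃ π v ε, MonT B φ g π v ε := by
  unfold NwB at hg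
  induction hg using Subgroup.closure_induction with
  | mem y hy =>
    rcases hy with ⟨i, j, u, hij, hij', hu, rfl⟩ | ⟨k, u, hu, rfl⟩
    · exact ⟨_, _, _, monT_w hφ hc hij hij' hu⟩
    · obtain ⟨c, hc1, -, hc3, -⟩ := hc k k
      exact ⟨_, _, _, monT_wS hφ hc1 hc3 hu⟩
  | one => exact ⟨_, _, _, MonT.one⟩
  | mul a b _ _ ha hb =>
    obtain ⟨π, v, ε, h1⟩ := ha
    obtain ⟨π', v', ε', h2⟩ := hb
    exact ⟨_, _, _, h1.mul h2⟩
  | inv a _ ha =>
    obtain ⟨π, v, ε, h1⟩ := ha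
    exact ⟨_, _, _, h1.inv⟩

end TData

end fin

end Cfsg.Agent.Lib.Helper3.TN
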