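import Cfsg.Agent.Lib.Helper3.TN5
import Cfsg.Agent.Lib.Helper3.BN6

/-!
# Twisted type: the natural representation is faithful on the unipotent subgroup
-/

set_option linter.unusedSectionVars false
set_option linter.unusedVariables false
set_option linter.unusedSimpArgs false

namespace Cfsg.Agent.Lib.Helper3.TN

open Cfsg.Agent.Lib.Helper5.Stb Cfsg.Agent.Lib.Helper3.AN Cfsg.Agent.Lib.Helper3.DN
  Cfsg.Agent.Lib.Helper3.BN Cfsg.Agent.Lib.Helper3.TW

variable {n : ℕ} {K K' G : Type*} [Field K] [Field K'] [Algebra K K'] [Group G] {τ : Tw K K'}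
  (B : TData (Fin (n + n)) K K' G Fin.rev τ)

namespace TData

/-- the generators of the column subgroups -/
def genCol (m : Fin (n + n)) : Set G :=
  {g | ∃ k t, Fin.rev m < k ∧ k < m ∧ g = B.D.y k m t} ∪
    {g | ∃ t : K', n ≤ m.val ∧ g = B.Y (Fin.rev m) t}

/-- the column subgroups -/
def ColB (m : Fin (n + n)) : Subgroup G := Subgroup.closure (B.genCol m)

/-- the generators in the columns `L` -/
def genVC (L : Finset (Fin (n + n))) : Set G :=
  {g | ∃ k l t, l ∈ L ∧ Fin.rev l < k ∧ k < l ∧ g = B.D.y k l t} ∪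
    {g | ∃ (l : Fin (n + n)) (t : K'), l ∈ L ∧ n ≤ l.val ∧ g = B.Y (Fin.rev l) t}

/-- the subgroup generated by the root elements in the columns `L` -/
def VCB (L : Finset (Fin (n + n))) : Subgroup G := Subgroup.closure (B.genVC L)

theorem y_mem_ColB {k m : Fin (n + n)} (h1 : Fin.rev m < k) (h2 : k < m) (t : K) :
    B.D.y k m t ∈ B.ColB m := Subgroup.subset_closure (Or.inl ⟨k, t, h1, h2, rfl⟩)

theorem Y_mem_ColB {m : Fin (n + n)} (h : n ≤ m.val) (t : K') : B.Y (Fin.rev m) t ∈ B.ColB m :=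
  Subgroup.subset_closure (Or.inr ⟨t, h, rfl⟩)

theorem Col_le_ColB (m : Fin (n + n)) : B.D.Col m ≤ B.ColB m := by
  unfold DData.Col DData.ColJ ColB
  apply Subgroup.closure_mono
  rintro g ⟨k, t, hk, rfl⟩
  have hk' : Fin.rev m < k ∧ k < m := by simpa [DData.rowsOf] using hk
  exact Or.inl ⟨k, t, hk'.1, hk'.2, rfl⟩

theorem genCol_inv {m : Fin (n + n)} {g : G} (hg : g ∈ B.genCol m) : g⁻¹ ∈ B.genCol m := by
  rcases hg with ⟨k, t, h1, h2, rfl⟩ | ⟨t, h, rfl⟩
  · exact Or.inl ⟨k, -t, h1, h2, by rw [B.D.y_neg]⟩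
  · exact Or.inr ⟨-t, h, by rw [B.Y_neg]⟩

theorem genVC_inv {L : Finset (Fin (n + n))} {g : G} (hg : g ∈ B.genVC L) : g⁻¹ ∈ B.genVC L := by
  rcases hg with ⟨k, l, t, hl, h1, h2, rfl⟩ | ⟨l, t, hl, h, rfl⟩
  · exact Or.inl ⟨k, l, -t, hl, h1, h2, by rw [B.D.y_neg]⟩
  · exact Or.inr ⟨l, -t, hl, h, by rw [B.Y_neg]⟩

theorem ColB_decomp {m : Fin (n + n)} {g : G} (hg : g ∈ B.ColB m) :
    ∃ g' ∈ B.D.Col m, ∃ s, g = g' * B.Y (Fin.rev m) s := by
  have key : ∀ g' ∈ B.D.Col m, ∀ s, ∀ h ∈ B.genCol m,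
      ∃ g'' ∈ B.D.Col m, ∃ s', g' * B.Y (Fin.rev m) s * h = g'' * B.Y (Fin.rev m) s' := by
    intro g' hg' s h hh
    rcases hh with ⟨k, t, h1, h2, rfl⟩ | ⟨t, h, rfl⟩
    · refine ⟨g' * B.D.y k m t, mul_mem hg' (B.D.y_mem_Col h1 h2 t), s, ?_⟩
      have hc : Commute (B.D.y k m t) (B.Y (Fin.rev m) s) :=
        B.XY_commute (ne_of_lt (lt_trans h1 h2))
          (fun e => (ne_of_lt h2) (Fin.rev_injective e).symm) t s
      rw [mul_assoc, ← hc.eq, ← mul_assoc]
    · exact ⟨g', hg', s + t, by rw [mul_assoc, ← B.Y_add]⟩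
  unfold ColB at hg
  induction hg using Subgroup.closure_induction_right with
  | one => exact ⟨1, one_mem _, 0, by rw [B.Y_zero, mul_one]⟩
  | mul_right x hx y hy ih =>
    obtain ⟨g', hg', s, rfl⟩ := ih
    exact key g' hg' s y hy
  | mul_inv_cancel x hx y hy ih =>
    obtain ⟨g', hg', s, rfl⟩ := ih
    exact key g' hg' s y⁻¹ (B.genCol_inv hy)

theorem ColB_conj_gen {L : Finset (Fin (n + n))} {m : Fin (n + n)} (hL : ∀ l ∈ L, l < m) {h : G}
    (hh : h ∈ B.genVC L) {r : G} (hr : r ∈ B.ColB m) : MulAut.conj h r ∈ B.ColB m := by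
  have rm := Fin.val_rev m
  unfold ColB at hr
  induction hr using Subgroup.closure_induction with
  | mem y hy =>
    rcases hh with ⟨k, l, t, hl, hkl1, hkl, rfl⟩ | ⟨l, t, hl, hln, rfl⟩
    · have hlm := hL l hl
      rcases hy with ⟨j, s, hj1, hj2, rfl⟩ | ⟨s, hmn, rfl⟩
      · exact B.Col_le_ColB m (B.D.Col_conj hkl1 hkl hlm t (B.D.y_mem_Col hj1 hj2 s))
      · have rl := Fin.val_rev l
        have rk := Fin.val_rev k
        rw [Fin.lt_def] at hkl1 hkl hlm
        rw [B.cjXY_comm]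
        · exact B.Y_mem_ColB hmn s
        · intro e; have := congrArg Fin.val e; omega
        · intro e; have := congrArg Fin.val e; omega
    · have hlm := hL l hl
      have rl := Fin.val_rev l
      rw [Fin.lt_def] at hlm
      rcases hy with ⟨j, s, hj1, hj2, rfl⟩ | ⟨s, hmn, rfl⟩
      · have rj := Fin.val_rev j
        rw [Fin.lt_def] at hj1 hj2
        by_cases hjl : j = l
        · subst hjl
          have e0 : B.D.y j m s = B.D.y (Fin.rev m) (Fin.rev j) (-s) := B.D.y_flip j m s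
          have h1 : Fin.rev m ≠ Fin.rev j := by
            intro e; have := congrArg Fin.val e; omega
          have h2 : Fin.rev m ≠ Fin.rev (Fin.rev j) := by
            intro e; have := congrArg Fin.val e; rw [Fin.rev_rev] at this; omega
          rw [e0, B.cjYX h1 h2, ← e0, Fin.rev_rev]
          have e1 : B.D.y (Fin.rev m) j (-(-s * τ.N t)) = B.D.y (Fin.rev j) m (-s * τ.N t) := by
            rw [B.D.y_flip (Fin.rev m) j, Fin.rev_rev, neg_neg]
          rw [e1]
          refine mul_mem (mul_mem (B.y_mem_ColB ?_ ?_ _) (B.Y_mem_ColB (by omega) _))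
            (B.y_mem_ColB ?_ ?_ _)
          · rw [Fin.lt_def]; omega
          · rw [Fin.lt_def]; omega
          · rw [Fin.lt_def]; omega
          · rw [Fin.lt_def]; omega
        · rw [B.cjYX_comm]
          · exact B.y_mem_ColB (by rw [Fin.lt_def]; omega) (by rw [Fin.lt_def]; omega) s
          · intro e; have := congrArg Fin.val e; omega
          · intro e
            apply hjl
            have := congrArg Fin.rev e
            rw [Fin.rev_rev, Fin.rev_rev] at this
            exact this.symm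
      · have h1 : Fin.rev m ≠ Fin.rev l := by
          intro e; have := congrArg Fin.val e; omega
        have h2 : Fin.rev m ≠ Fin.rev (Fin.rev l) := by
          intro e; have := congrArg Fin.val e; rw [Fin.rev_rev] at this; omega
        rw [B.cjYY h1 h2, Fin.rev_rev]
        refine mul_mem (B.y_mem_ColB ?_ ?_ _) (B.Y_mem_ColB hmn _)
        · rw [Fin.lt_def]; omega
        · rw [Fin.lt_def]; omega
  | one => rw [map_one]; exact one_mem _
  | mul a b _ _ ha hb => rw [map_mul]; exact mul_mem ha hb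
  | inv a _ ha => rw [map_inv]; exact inv_mem ha

theorem VCB_mono {L L' : Finset (Fin (n + n))} (h : L ⊆ L') : B.VCB L ≤ B.VCB L' := by
  unfold VCB
  apply Subgroup.closure_mono
  rintro g (⟨k, l, t, hl, h1, h2, rfl⟩ | ⟨l, t, hl, hn, rfl⟩)
  · exact Or.inl ⟨k, l, t, h hl, h1, h2, rfl⟩
  · exact Or.inr ⟨l, t, h hl, hn, rfl⟩

theorem VCB_decomp {L : Finset (Fin (n + n))} {m : Fin (n + n)} (hL : ∀ l ∈ L, l < m) {g : G}
    (hg : g ∈ B.VCB (insert m L)) : ∃ g' ∈ B.VCB L, ∃ r ∈ B.ColB m, g = g' * r := by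
  have key : ∀ g' ∈ B.VCB L, ∀ r ∈ B.ColB m, ∀ h ∈ B.genVC (insert m L),
      ∃ g'' ∈ B.VCB L, ∃ r' ∈ B.ColB m, g' * r * h = g'' * r' := by
    intro g' hg' r hr h hh
    by_cases hhL : h ∈ B.genVC L
    · refine ⟨g' * h, mul_mem hg' (Subgroup.subset_closure hhL), MulAut.conj h⁻¹ r,
        B.ColB_conj_gen hL (B.genVC_inv hhL) hr, ?_⟩
      rw [MulAut.conj_apply]; group
    · have hcol : h ∈ B.genCol m := by
        rcases hh with ⟨k, l, t, hl, h1, h2, rfl⟩ | ⟨l, t, hl, hn, rfl⟩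
        · rcases Finset.mem_insert.mp hl with rfl | hl'
          · exact Or.inl ⟨k, t, h1, h2, rfl⟩
          · exact absurd (Or.inl ⟨k, l, t, hl', h1, h2, rfl⟩) hhL
        · rcases Finset.mem_insert.mp hl with rfl | hl'
          · exact Or.inr ⟨t, hn, rfl⟩
          · exact absurd (Or.inr ⟨l, t, hl', hn, rfl⟩) hhL
      exact ⟨g', hg', r * h, mul_mem hr (Subgroup.subset_closure hcol), by rw [mul_assoc]⟩
  unfold VCB at hg
  induction hg using Subgroup.closure_induction_right with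
  | one => exact ⟨1, one_mem _, 1, one_mem _, by rw [mul_one]⟩
  | mul_right x hx y hy ih =>
    obtain ⟨g', hg', r, hr, rfl⟩ := ih
    exact key g' hg' r hr y hy
  | mul_inv_cancel x hx y hy ih =>
    obtain ⟨g', hg', r, hr, rfl⟩ := ih
    exact key g' hg' r hr y⁻¹ (B.genVC_inv hy)

theorem UposB_le_VCB : B.UposB ≤ B.VCB Finset.univ := by
  unfold UposB
  rw [Subgroup.closure_le]
  rintro g (⟨k, l, t, hkl, rfl⟩ | ⟨k, t, hk, rfl⟩)
  · by_cases h0 : l = Fin.rev k
    · rw [h0, B.D.y_opp]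
      exact one_mem _
    by_cases h1 : Fin.rev l < k
    · exact Subgroup.subset_closure (Or.inl ⟨k, l, t, Finset.mem_univ _, h1, hkl, rfl⟩)
    · have h2 : k < Fin.rev l := by
        rcases lt_trichotomy k (Fin.rev l) with h | h | h
        · exact h
        · exfalso; apply h0; rw [h, Fin.rev_rev]
        · exact absurd h h1
      rw [B.D.y_flip k l t]
      refine Subgroup.subset_closure
        (Or.inl ⟨Fin.rev l, Fin.rev k, -t, Finset.mem_univ _, ?_, ?_, rfl⟩)
      · rw [Fin.rev_rev]; exact h2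
      · exact Fin.rev_lt_rev.2 hkl
  · have rk := Fin.val_rev k
    have hkn := k.isLt
    refine Subgroup.subset_closure (Or.inr ⟨Fin.rev k, t, Finset.mem_univ _, by omega, ?_⟩)
    rw [Fin.rev_rev]

section rep
variable {φ : G →* Module.End K (Mod (Fin (n + n)) K K')} (hφ : IsRepT B φ)
include hφ

omit hφ in
theorem rep_inv_apply (g : G) (x : Mod (Fin (n + n)) K K') : φ g⁻¹ (φ g x) = x := by
  rw [← Module.End.mul_apply, ← map_mul, inv_mul_cancel, map_one, Module.End.one_apply]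

omit hφ in
theorem rep_fix_inv {g : G} {x : Mod (Fin (n + n)) K K'} (h : φ g x = x) : φ g⁻¹ x = x := by
  conv_lhs => rw [← h]
  exact rep_inv_apply g x

theorem ColJ_fix_revT {m : Fin (n + n)} {S : Finset (Fin (n + n))}
    (hS : ∀ k ∈ S, k ≠ m ∧ k ≠ Fin.rev m) {g : G} (hg : g ∈ B.D.ColJ m S) :
    φ g (eJ (Fin.rev m) : Mod (Fin (n + n)) K K') = eJ (Fin.rev m) := by
  unfold DData.ColJ at hg
  induction hg using Subgroup.closure_induction with
  | mem y hy =>
    obtain ⟨j, s, hj, rfl⟩ := hy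
    obtain ⟨h1, h2⟩ := hS j hj
    exact repX_ne hφ h1 (B.D.ne_nu_symm h2) (B.D.nu_ne m)
      (fun h => h1 (Fin.rev_injective h).symm) s
  | one => rw [map_one, Module.End.one_apply]
  | mul a b _ _ ha hb => rw [map_mul, Module.End.mul_apply, hb, ha]
  | inv a _ ha => exact rep_fix_inv ha

theorem ColJ_fixWT {m : Fin (n + n)} {S : Finset (Fin (n + n))} {g : G}
    (hg : g ∈ B.D.ColJ m S) (w : K') : φ g (eW w : Mod (Fin (n + n)) K K') = eW w := by
  unfold DData.ColJ at hg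
  induction hg using Subgroup.closure_induction with
  | mem y hy =>
    obtain ⟨j, s, hj, rfl⟩ := hy
    exact repX_W hφ j m s w
  | one => rw [map_one, Module.End.one_apply]
  | mul a b _ _ ha hb => rw [map_mul, Module.End.mul_apply, hb, ha]
  | inv a _ ha => exact rep_fix_inv ha

theorem ColJ_fix'T {m : Fin (n + n)} {S : Finset (Fin (n + n))}
    (hS : ∀ k ∈ S, k ≠ m ∧ k ≠ Fin.rev m) {g : G} (hg : g ∈ B.D.ColJ m S) {k : Fin (n + n)}
    (hkm : k ≠ m) : ∃ c : K, φ g (eJ k : Mod (Fin (n + n)) K K') =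
      eJ k + c • eJ (Fin.rev m) := by
  have key : ∀ j ∈ S, ∀ s : K, ∃ c : K,
      φ (B.D.y j m s) (eJ k : Mod (Fin (n + n)) K K') = eJ k + c • eJ (Fin.rev m) := by
    intro j hj s
    obtain ⟨h1, h2⟩ := hS j hj
    by_cases hkj : k = Fin.rev j
    · refine ⟨-s, ?_⟩
      rw [hkj, repX_rk hφ h1 (B.D.ne_nu_symm h2), neg_smul, sub_eq_add_neg]
    · refine ⟨0, ?_⟩
      rw [repX_ne hφ h1 (B.D.ne_nu_symm h2) hkm hkj, zero_smul, add_zero]
  have hg' := hg
  unfold DData.ColJ at hg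
  induction hg using Subgroup.closure_induction'' with
  | mem y hy =>
    obtain ⟨j, s, hj, rfl⟩ := hy
    exact key j hj s
  | inv_mem y hy =>
    obtain ⟨j, s, hj, rfl⟩ := hy
    rw [← B.D.y_neg]
    exact key j hj (-s)
  | one => exact ⟨0, by rw [map_one, Module.End.one_apply, zero_smul, add_zero]⟩
  | mul a b ha hb iha ihb =>
    obtain ⟨ca, hca⟩ := iha ha
    obtain ⟨cb, hcb⟩ := ihb hb
    refine ⟨ca + cb, ?_⟩
    rw [map_mul, Module.End.mul_apply, hcb, map_add, map_smul, hca,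
      B.ColJ_fix_revT hφ hS ha, add_smul, add_assoc]

theorem ColJ_coordT {m : Fin (n + n)} {S : Finset (Fin (n + n))}
    (hS : ∀ k ∈ S, k ≠ m ∧ k ≠ Fin.rev m) {g : G} (hg : g ∈ B.D.ColJ m S)
    {x₀ : Fin (n + n)} (hk : ∀ k ∈ S, x₀ ≠ k) (hkm : x₀ ≠ m)
    (hkm' : x₀ ≠ Fin.rev m) :
    (φ g (eJ m : Mod (Fin (n + n)) K K')).1 x₀ = 0 := by
  have key : ∀ j ∈ S, ∀ s : K, ∀ X : Mod (Fin (n + n)) K K', X.1 x₀ = 0 →
      (φ (B.D.y j m s) X).1 x₀ = 0 := by
    intro j hj s X hX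
    obtain ⟨h1, h2⟩ := hS j hj
    have hkj := hk j hj
    rw [hφ.long j m s h1 (B.D.ne_nu_symm h2)]
    simp [hX, hkj, hkm']
  unfold DData.ColJ at hg
  induction hg using Subgroup.closure_induction_left with
  | one =>
    rw [map_one, Module.End.one_apply]
    simp [hkm]
  | mul_left x hx y hy ih =>
    obtain ⟨j, s, hj, rfl⟩ := hx
    rw [map_mul, Module.End.mul_apply]
    exact key j hj s _ ih
  | inv_mul_cancel x hx y hy ih =>
    obtain ⟨j, s, hj, rfl⟩ := hx
    rw [← B.D.y_neg, map_mul, Module.End.mul_apply]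
    exact key j hj (-s) _ ih

theorem ColJ_coordWT {m : Fin (n + n)} {S : Finset (Fin (n + n))}
    (hS : ∀ k ∈ S, k ≠ m ∧ k ≠ Fin.rev m) {g : G} (hg : g ∈ B.D.ColJ m S) :
    (φ g (eJ m : Mod (Fin (n + n)) K K')).2 = 0 := by
  have key : ∀ j ∈ S, ∀ s : K, ∀ X : Mod (Fin (n + n)) K K', X.2 = 0 →
      (φ (B.D.y j m s) X).2 = 0 := by
    intro j hj s X hX
    obtain ⟨h1, h2⟩ := hS j hj
    rw [hφ.long j m s h1 (B.D.ne_nu_symm h2)]
    simp [hX]
  unfold DData.ColJ at hg
  induction hg using Subgroup.closure_induction_left with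
  | one =>
    rw [map_one, Module.End.one_apply]
    rfl
  | mul_left x hx y hy ih =>
    obtain ⟨j, s, hj, rfl⟩ := hx
    rw [map_mul, Module.End.mul_apply]
    exact key j hj s _ ih
  | inv_mul_cancel x hx y hy ih =>
    obtain ⟨j, s, hj, rfl⟩ := hx
    rw [← B.D.y_neg, map_mul, Module.End.mul_apply]
    exact key j hj (-s) _ ih

theorem ColJ_injT (m : Fin (n + n)) (S : Finset (Fin (n + n))) :
    (∀ k ∈ S, k ≠ m ∧ k ≠ Fin.rev m) → ∀ g ∈ B.D.ColJ m S,
      (∀ k ∈ S, (φ g (eJ m : Mod (Fin (n + n)) K K')).1 k = 0) → g = 1 := by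
  induction S using Finset.induction_on with
  | empty =>
    intro _ g hg _
    have : B.D.ColJ m ∅ = ⊥ := by
      unfold DData.ColJ
      rw [Subgroup.closure_eq_bot_iff]
      rintro g ⟨k, t, hk, -⟩
      exact absurd hk (Finset.notMem_empty k)
    rw [this] at hg
    exact Subgroup.mem_bot.mp hg
  | insert k₀ S hk₀ ih =>
    intro hS g hg hfix
    have hS' : ∀ k ∈ S, k ≠ m ∧ k ≠ Fin.rev m := fun k hk => hS k (Finset.mem_insert_of_mem hk)
    obtain ⟨hk₀m, hk₀m'⟩ := hS k₀ (Finset.mem_insert_self _ _)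
    have hm : m ∉ insert k₀ S := fun h => (hS m h).1 rfl
    obtain ⟨g', hg', t, rfl⟩ := B.D.ColJ_decomp hm hg
    obtain ⟨c, hc⟩ := B.ColJ_fix'T hφ hS' hg' hk₀m
    have e1 : φ (g' * B.D.y k₀ m t) (eJ m : Mod (Fin (n + n)) K K') =
        φ g' (eJ m : Mod (Fin (n + n)) K K') + t • (eJ k₀ + c • eJ (Fin.rev m)) := by
      rw [map_mul, Module.End.mul_apply, repX_l hφ hk₀m (B.D.ne_nu_symm hk₀m'),
        map_add, map_smul, hc]
    have e2 := hfix k₀ (Finset.mem_insert_self _ _)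
    have e3 := B.ColJ_coordT hφ hS' hg' (x₀ := k₀)
      (fun k hk e => hk₀ (by rw [e]; exact hk)) hk₀m hk₀m'
    rw [e1] at e2
    have hne : Fin.rev m ≠ k₀ := fun e => hk₀m' e.symm
    simp only [Prod.fst_add, Pi.add_apply, e3, zero_add, Prod.smul_fst, Pi.smul_apply, eJ_fst,
      Pi.single_eq_same, smul_eq_mul, mul_one, Pi.single_eq_of_ne hne.symm, mul_zero,
      add_zero] at e2
    subst e2
    rw [B.D.y_zero, mul_one]
    apply ih hS' g' hg'
    intro k hk
    have := hfix k (Finset.mem_insert_of_mem hk)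
    rwa [B.D.y_zero, mul_one] at this

theorem ColB_inj {m : Fin (n + n)} {g : G} (hg : g ∈ B.ColB m)
    (hfix : φ g (eJ m : Mod (Fin (n + n)) K K') = eJ m) : g = 1 := by
  obtain ⟨g', hg', s, rfl⟩ := B.ColB_decomp hg
  have hS : ∀ k ∈ DData.rowsOf m, k ≠ m ∧ k ≠ Fin.rev m := by
    intro k hk
    have hk' : Fin.rev m < k ∧ k < m := by simpa [DData.rowsOf] using hk
    exact ⟨ne_of_lt hk'.2, ne_of_gt hk'.1⟩
  have hg'' : g' ∈ B.D.ColJ m (DData.rowsOf m) := hg'
  have e1 : φ (g' * B.Y (Fin.rev m) s) (eJ m : Mod (Fin (n + n)) K K') =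
      φ g' (eJ m : Mod (Fin (n + n)) K K') - τ.N s • eJ (Fin.rev m) - eW s := by
    have h1 := repY_nk hφ (Fin.rev m) s
    rw [Fin.rev_rev] at h1
    rw [map_mul, Module.End.mul_apply, h1, map_sub, map_sub, map_smul,
      B.ColJ_fixWT hφ hg'', B.ColJ_fix_revT hφ hS hg'']
  have e3 := B.ColJ_coordWT hφ hS hg''
  have e2 := congrArg Prod.snd hfix
  rw [e1] at e2
  simp only [Prod.snd_sub, e3, Prod.smul_snd, eJ_snd, smul_zero, sub_zero, eW_snd, zero_sub,
    neg_eq_zero] at e2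
  subst e2
  rw [B.Y_zero, mul_one] at hfix ⊢
  apply B.ColJ_injT hφ m _ hS g' hg''
  intro k hk
  rw [hfix]
  have : k ≠ m := (hS k hk).1
  simp [this]

theorem VCB_fix {L : Finset (Fin (n + n))} {m : Fin (n + n)} (hL : ∀ l ∈ L, l < m) {g : G}
    (hg : g ∈ B.VCB L) : φ g (eJ m : Mod (Fin (n + n)) K K') = eJ m := by
  unfold VCB at hg
  induction hg using Subgroup.closure_induction with
  | mem y hy =>
    rcases hy with ⟨k, l, t, hl, hkl1, hkl, rfl⟩ | ⟨l, t, hl, hln, rfl⟩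
    · have hlm := hL l hl
      refine repX_ne hφ (ne_of_lt hkl) (fun h => (ne_of_lt hkl1) (by rw [h, Fin.rev_rev]))
        (ne_of_gt hlm) (fun h => ?_) t
      have h1 : Fin.rev k < l := by
        have := Fin.rev_lt_rev.2 hkl1
        rwa [Fin.rev_rev] at this
      rw [h] at hlm
      exact lt_asymm hlm h1
    · have hlm := hL l hl
      apply repY_ne hφ _ t
      rw [Fin.rev_rev]
      exact ne_of_gt hlm
  | one => rw [map_one, Module.End.one_apply]
  | mul a b _ _ ha hb => rw [map_mul, Module.End.mul_apply, hb, ha]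
  | inv a _ ha => exact rep_fix_inv ha

theorem VCB_inj (L : Finset (Fin (n + n))) : ∀ g ∈ B.VCB L, φ g = 1 → g = 1 := by
  induction L using Finset.induction_on_max with
  | empty =>
    intro g hg _
    have : B.VCB ∅ = ⊥ := by
      unfold VCB
      rw [Subgroup.closure_eq_bot_iff]
      rintro g (⟨k, l, t, hl, -, -, -⟩ | ⟨l, t, hl, -, -⟩)
      · exact absurd hl (Finset.notMem_empty l)
      · exact absurd hl (Finset.notMem_empty l)
    rw [this] at hg
    exact Subgroup.mem_bot.mp hg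
  | insert m L hL ih =>
    intro g hg hφg
    obtain ⟨g', hg', r, hr, rfl⟩ := B.VCB_decomp hL hg
    have e0' : φ g' (eJ m : Mod (Fin (n + n)) K K') = eJ m := B.VCB_fix hφ hL hg'
    have e2 : φ r (eJ m : Mod (Fin (n + n)) K K') = eJ m := by
      have h1 : φ (g' * r) (eJ m : Mod (Fin (n + n)) K K') = eJ m := by
        rw [hφg, Module.End.one_apply]
      rw [map_mul, Module.End.mul_apply] at h1
      have h2 := congrArg (fun x => φ g'⁻¹ x) h1
      simp only [rep_inv_apply] at h2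
      rw [h2]
      exact rep_fix_inv e0'
    have e3 : r = 1 := B.ColB_inj hφ hr e2
    subst e3
    rw [mul_one] at hφg ⊢
    exact ih g' hg' hφg

/-- the natural representation is faithful on the unipotent subgroup -/
theorem UposB_inj : ∀ g ∈ B.UposB, φ g = 1 → g = 1 :=
  fun g hg => B.VCB_inj hφ Finset.univ g (B.UposB_le_VCB hg)

end rep

end TData

end Cfsg.Agent.Lib.Helper3.TN
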