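import Cfsg.Agent.Lib.Helper3.TN6
import Cfsg.Agent.Lib.Helper3.BN7

/-!
# Twisted type: the kernel of the natural representation is central and monomial
-/

set_option linter.unusedSectionVars false
set_option linter.unusedVariables false
set_option linter.unusedSimpArgs false

namespace Cfsg.Agent.Lib.Helper3.TN

open Cfsg.Agent.Lib.Helper5.Stb Cfsg.Agent.Lib.Helper3.AN Cfsg.Agent.Lib.Helper3.DN
  Cfsg.Agent.Lib.Helper3.BN Cfsg.Agent.Lib.Helper3.TW

section ext
variable {J K K' : Type*} [Field K] [Field K'] [Algebra K K'] [Finite J] [DecidableEq J]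

/-- endomorphisms of the natural module are determined by their values on the basis vectors of
the hyperbolic part and on the anisotropic part -/
theorem mod_ext {f g : Module.End K (Mod J K K')} (h1 : ∀ l, f (eJ l) = g (eJ l))
    (h2 : ∀ w, f (eW w) = g (eW w)) : f = g := by
  apply LinearMap.prod_ext
  · apply LinearMap.pi_ext
    intro l c
    have e : (LinearMap.inl K (J → K) K') (Pi.single l c) = c • (eJ l : Mod J K K') := by
      ext k
      · simp only [LinearMap.inl_apply, Prod.smul_fst, eJ_fst, Pi.smul_apply, smul_eq_mul,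
          Pi.single_apply]
        split_ifs <;> simp
      · simp
    rw [LinearMap.comp_apply, LinearMap.comp_apply, e, map_smul, map_smul, h1]
  · apply LinearMap.ext
    intro w
    exact h2 w

end ext

variable {n : ℕ} {K K' G : Type*} [Field K] [Field K'] [Algebra K K'] [Group G] {τ : Tw K K'}
  (B : TData (Fin (n + n)) K K' G Fin.rev τ)
  {φ : G →* Module.End K (Mod (Fin (n + n)) K K')} (hφ : IsRepT B φ)

namespace TData

include hφ

/-- the kernel of the natural representation lies in the monomial subgroup and is central -/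
theorem ker_centralT (hn : 3 ≤ n) (hgen : B.Gen) (g : G) (hg : φ g = 1) :
    g ∈ B.NwB ∧ ∀ x : G, g * x = x * g := by
  have hc := hc_fin hn
  obtain ⟨u₁, hu₁, m, hm, u₂, hu₂, rfl⟩ := B.bruhatB hc (by omega) hgen g
  have e1 : φ m = φ (u₁⁻¹ * u₂⁻¹) := by
    have h1 : m = u₁⁻¹ * (u₁ * m * u₂) * u₂⁻¹ := by group
    rw [h1, map_mul, map_mul, hg, mul_one, ← map_mul]
  have hu : u₁⁻¹ * u₂⁻¹ ∈ B.UposB := mul_mem (inv_mem hu₁) (inv_mem hu₂)
  obtain ⟨π, v, ε, hmon⟩ := B.NwB_monT hφ hc hm
  have e2 : ∀ l, π l = l ∧ v l = 1 := by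
    intro l
    have h1 := B.UposB_UT hφ hu (posJ l) (eJ l)
      ⟨fun k hk => by
        have : k ≠ l := fun h => by rw [h] at hk; exact lt_irrefl _ hk
        simp [this], fun _ => rfl⟩
    rw [← e1, hmon.mono l] at h1
    have h2 := h1.1 l le_rfl
    have hπ : π l = l := by
      by_contra hne
      simp [hne] at h2
    rw [hπ] at h2
    exact ⟨hπ, by simpa using h2⟩
  have e2' : ∀ w, ε w = w := by
    intro w
    have h1 := B.UposB_UT hφ hu n (eW w) ⟨fun k hk => rfl, fun h => absurd h (lt_irrefl _)⟩
    rw [← e1, hmon.monoW w] at h1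
    exact h1.2 le_rfl
  have e3 : φ m = 1 := by
    apply mod_ext
    · intro l
      have := hmon.mono l
      rw [(e2 l).1, (e2 l).2, one_smul] at this
      rw [this, Module.End.one_apply]
    · intro w
      rw [hmon.monoW w, e2' w, Module.End.one_apply]
  -- `m` is central
  have hcm : ∀ z : G, m * z = z * m := by
    intro z
    have hz : z ∈ Subgroup.closure ({g : G | ∃ k l t, g = B.D.y k l t} ∪
        {g : G | ∃ k t, g = B.Y k t}) := by
      rw [hgen]; trivial
    induction hz using Subgroup.closure_induction with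
    | mem y hy =>
      rcases hy with ⟨k, l, t, rfl⟩ | ⟨k, t, rfl⟩
      · have h1 := hmon.raw.raw.2 k l t
        rw [(e2 k).1, (e2 l).1, (e2 k).2, (e2 l).2, one_mul, inv_one, mul_one,
          MulAut.conj_apply] at h1
        calc m * B.D.y k l t = m * B.D.y k l t * m⁻¹ * m := by group
          _ = B.D.y k l t * m := by rw [h1]
      · have h1 := hmon.raw.short k t
        rw [(e2 k).1, (e2 k).2, e2' t, one_smul, MulAut.conj_apply] at h1
        calc m * B.Y k t = m * B.Y k t * m⁻¹ * m := by group
          _ = B.Y k t * m := by rw [h1]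
    | one => rw [mul_one, one_mul]
    | mul a b _ _ ha hb => rw [← mul_assoc, ha, mul_assoc, hb, mul_assoc]
    | inv a _ ha =>
      calc m * a⁻¹ = a⁻¹ * (a * m) * a⁻¹ := by group
        _ = a⁻¹ * (m * a) * a⁻¹ := by rw [ha]
        _ = a⁻¹ * m := by group
  have e4 : u₁ * u₂ = 1 := by
    apply B.UposB_inj hφ _ (mul_mem hu₁ hu₂)
    have h1 : u₁ * m * u₂ = m * (u₁ * u₂) := by
      rw [← hcm u₁]; group
    rw [h1, map_mul, e3, one_mul] at hg
    exact hg
  have e5 : u₁ * m * u₂ = m := by
    rw [← hcm u₁, mul_assoc, e4, mul_one]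
  rw [e5]
  exact ⟨hm, hcm⟩

end TData

end Cfsg.Agent.Lib.Helper3.TN
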