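import Cfsg.Agent.Lib.Helper3.TN7
import Cfsg.Agent.Lib.Helper3.BN9

/-!
# Twisted type: reindexing, and the kernel of the natural representation for a general index set
-/

set_option linter.unusedSectionVars false
set_option linter.unusedVariables false
set_option linter.unusedSimpArgs false

namespace Cfsg.Agent.Lib.Helper3.TN

open Cfsg.Agent.Lib.Helper5.Stb Cfsg.Agent.Lib.Helper3.AN Cfsg.Agent.Lib.Helper3.DN
  Cfsg.Agent.Lib.Helper3.BN Cfsg.Agent.Lib.Helper3.TW

section transport
variable {J K K' G : Type*} [Field K] [Field K'] [Algebra K K'] [Group G] {ν : J → J}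
  {τ : Tw K K'}

/-- reindexing of twisted Steinberg data -/
def TData.reindex {J' : Type*} {ν' : J' → J'} (B : TData J K K' G ν τ) (e : J' ≃ J)
    (he : ∀ k, e (ν' k) = ν (e k)) : TData J' K K' G ν' τ where
  D := B.D.reindex e he
  Y := fun k t => B.Y (e k) t
  Y_add := fun k t u => B.Y_add _ _ _
  XY_comm := fun k l p t u h1 h2 =>
    B.XY_comm _ _ _ t u (e.injective.ne h1) (by rw [← he]; exact e.injective.ne h2)
  XY_rel := fun k l s t h1 h2 => by
    have := B.XY_rel (e k) (e l) s t (e.injective.ne h1) (by rw [← he]; exact e.injective.ne h2)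
    rw [← he] at this
    exact this
  YY_rel := fun k l s t h1 h2 => by
    have := B.YY_rel (e k) (e l) s t (e.injective.ne h1) (by rw [← he]; exact e.injective.ne h2)
    rw [← he] at this
    exact this

theorem TData.reindex_y {J' : Type*} {ν' : J' → J'} (B : TData J K K' G ν τ) (e : J' ≃ J)
    (he : ∀ k, e (ν' k) = ν (e k)) (k l : J') (t : K) :
    (B.reindex e he).D.y k l t = B.D.y (e k) (e l) t := rfl

theorem TData.reindex_Y {J' : Type*} {ν' : J' → J'} (B : TData J K K' G ν τ) (e : J' ≃ J)
    (he : ∀ k, e (ν' k) = ν (e k)) (k : J') (t : K') :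
    (B.reindex e he).Y k t = B.Y (e k) t := rfl

theorem TData.reindex_gen {J' : Type*} {ν' : J' → J'} (B : TData J K K' G ν τ) (e : J' ≃ J)
    (he : ∀ k, e (ν' k) = ν (e k)) (hgen : B.Gen) : (B.reindex e he).Gen := by
  unfold TData.Gen at hgen ⊢
  rw [← hgen]
  congr 1
  ext g
  constructor
  · rintro (⟨k, l, t, rfl⟩ | ⟨k, t, rfl⟩)
    · exact Or.inl ⟨e k, e l, t, rfl⟩
    · exact Or.inr ⟨e k, t, rfl⟩
  · rintro (⟨k, l, t, rfl⟩ | ⟨k, t, rfl⟩)
    · exact Or.inl ⟨e.symm k, e.symm l, t, by simp [TData.reindex, DData.reindex]⟩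
    · exact Or.inr ⟨e.symm k, t, by simp [TData.reindex]⟩

/-- reindexing of the natural module -/
def modReindex {J' : Type*} (K K' : Type*) [Field K] [Field K'] [Algebra K K'] (e : J' ≃ J) :
    Mod J K K' ≃ₗ[K] Mod J' K K' :=
  LinearEquiv.prodCongr (LinearEquiv.funCongrLeft K K e) (LinearEquiv.refl K K')

theorem modReindex_fst {J' : Type*} (e : J' ≃ J) (x : Mod J K K') (k : J') :
    (modReindex K K' e x).1 k = x.1 (e k) := rfl

theorem modReindex_snd {J' : Type*} (e : J' ≃ J) (x : Mod J K K') :
    (modReindex K K' e x).2 = x.2 := rfl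

theorem modReindex_symm_fst {J' : Type*} (e : J' ≃ J) (x : Mod J' K K') (k : J) :
    ((modReindex K K' e).symm x).1 k = x.1 (e.symm k) := rfl

theorem modReindex_symm_snd {J' : Type*} (e : J' ≃ J) (x : Mod J' K K') :
    ((modReindex K K' e).symm x).2 = x.2 := rfl

theorem modReindex_eJ {J' : Type*} [DecidableEq J] [DecidableEq J'] (e : J' ≃ J) (k : J') :
    modReindex K K' e (eJ (e k) : Mod J K K') = eJ k := by
  ext j
  · rw [modReindex_fst]
    simp only [eJ_fst, Pi.single_apply]
    simp only [e.injective.eq_iff]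
  · rfl

theorem modReindex_eW {J' : Type*} [DecidableEq J] [DecidableEq J'] (e : J' ≃ J) (w : K') :
    modReindex K K' e (eW w : Mod J K K') = eW w := rfl

variable [DecidableEq J]

/-- transport of the natural representation along a reindexing -/
def repReindex {J' : Type*} (e : J' ≃ J) (φ : G →* Module.End K (Mod J K K')) :
    G →* Module.End K (Mod J' K K') where
  toFun g := (modReindex K K' e).conj (φ g)
  map_one' := by
    rw [map_one]
    apply LinearMap.ext
    intro x
    simp [LinearEquiv.conj_apply]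
  map_mul' := fun g h => by
    rw [map_mul]
    apply LinearMap.ext
    intro x
    simp [LinearEquiv.conj_apply]

theorem repReindex_apply {J' : Type*} (e : J' ≃ J) (φ : G →* Module.End K (Mod J K K')) (g : G)
    (x : Mod J' K K') :
    repReindex e φ g x = modReindex K K' e (φ g ((modReindex K K' e).symm x)) := rfl

theorem isRepT_reindex {J' : Type*} [DecidableEq J'] {ν' : J' → J'} (B : TData J K K' G ν τ)
    (e : J' ≃ J) (he : ∀ k, e (ν' k) = ν (e k)) {φ : G →* Module.End K (Mod J K K')}
    (hφ : IsRepT B φ) : IsRepT (B.reindex e he) (repReindex e φ) := by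
  constructor
  · intro k l t hkl hkl' x
    rw [repReindex_apply, TData.reindex_y,
      hφ.long (e k) (e l) t (e.injective.ne hkl) (by rw [← he]; exact e.injective.ne hkl'),
      ← he k, ← he l,
      map_sub, map_add, map_smul, map_smul, LinearEquiv.apply_symm_apply, modReindex_eJ,
      modReindex_eJ, modReindex_symm_fst, modReindex_symm_fst, Equiv.symm_apply_apply,
      Equiv.symm_apply_apply]
  · intro k u x
    rw [repReindex_apply, TData.reindex_Y, hφ.short (e k) u, ← he k, map_sub, map_add, map_smul,
      LinearEquiv.apply_symm_apply, modReindex_eJ, modReindex_eW, modReindex_symm_fst,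
      modReindex_symm_snd, Equiv.symm_apply_apply]

theorem repReindex_eq_one {J' : Type*} (e : J' ≃ J) (φ : G →* Module.End K (Mod J K K'))
    {g : G} (hg : φ g = 1) : repReindex e φ g = 1 := by
  apply LinearMap.ext
  intro x
  rw [repReindex_apply, hg, Module.End.one_apply, Module.End.one_apply,
    LinearEquiv.apply_symm_apply]

/-- the kernel of the natural representation is central (index set in bijection with
`Fin (n + n)`) -/
theorem kerT_central_of_equiv {n : ℕ} (B : TData J K K' G ν τ) (e : Fin (n + n) ≃ J)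
    (he : ∀ k, e (Fin.rev k) = ν (e k)) (hn : 3 ≤ n) (hgen : B.Gen)
    (φ : G →* Module.End K (Mod J K K')) (hφ : IsRepT B φ) (g : G) (hg : φ g = 1) :
    ∀ x : G, g * x = x * g :=
  ((B.reindex e he).ker_centralT (isRepT_reindex B e he hφ) hn (B.reindex_gen e he hgen) g
    (repReindex_eq_one e φ hg)).2

end transport

end Cfsg.Agent.Lib.Helper3.TN
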