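import Cfsg.Agent.Lib.Helper3.BQ3
import Cfsg.Agent.Lib.Helper3.TN5

/-!
# Twisted Steinberg data attached to a hyperbolic family and an anisotropic part of a quadratic
space
-/

set_option linter.unusedSectionVars false
set_option linter.unusedVariables false
set_option linter.unusedSimpArgs false

namespace Cfsg.Agent.Lib.Helper3.TQ

open Matrix Cfsg.Agent.Lib.Helper2 Cfsg.Agent.Lib.Helper2.LongRoot Cfsg.Agent.Lib.Helper3.DN
  Cfsg.Agent.H9Sieg Cfsg.Agent.Lib.Helper5.OBN Cfsg.Agent.Lib.Helper3.BN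
  Cfsg.Agent.Lib.Helper3.BQ Cfsg.Agent.Lib.Helper3.TN Cfsg.Agent.Lib.Helper3.TW

variable {F : Type*} [Field F] {ι : Type} [Fintype ι] [DecidableEq ι]
  {Q : QuadraticForm F (ι → F)}

/-- a family of hyperbolic pairs together with a linear embedding of the quadratic extension,
with the norm form, orthogonal to it -/
structure HFamT (Q : QuadraticForm F (ι → F)) (J : Type*) (ν : J → J) {K' : Type*} [Field K']
    [Algebra F K'] (τ : Tw F K') where
  H : HFam Q J ν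
  W : K' →ₗ[F] (ι → F)
  Q_W : ∀ w, Q (W w) = τ.N w
  polar_W : ∀ k w, QuadraticMap.polar (⇑Q) (H.b k) (W w) = 0

namespace HFamT

variable {J : Type*} {ν : J → J} {K' : Type*} [Field K'] [Algebra F K'] {τ : Tw F K'}
  (HT : HFamT Q J ν τ)

theorem bp_W (k : J) (w : K') : bp Q (HT.H.b k) (HT.W w) = 0 := HT.polar_W k w

theorem bp_W' (k : J) (w : K') : bp Q (HT.W w) (HT.H.b k) = 0 := by
  rw [bp_comm]; exact HT.polar_W k w

theorem bp_WW (w w' : K') : bp Q (HT.W w) (HT.W w') = τ.P w w' := by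
  have : bp Q (HT.W w) (HT.W w') = Q (HT.W w + HT.W w') - Q (HT.W w) - Q (HT.W w') := rfl
  rw [this, ← map_add, HT.Q_W, HT.Q_W, HT.Q_W, τ.N_add]
  ring

theorem epair_W (k : J) (w : K') : EPair Q (HT.H.b k) (HT.W w) :=
  ⟨HT.H.Q_b k, HT.bp_W k w⟩

/-- the short root elements -/
noncomputable def Yhat (k : J) (w : K') : ↥(Cfsg.isometryGroup F ⇑Q) :=
  eich Q (HT.H.b k) (HT.W (-w))

theorem Yhat_mulVec (k : J) (w : K') (x : ι → F) :
    mat (HT.Yhat k w) *ᵥ x = x + (bp Q x (HT.W w) - τ.N w * bp Q x (HT.H.b k)) • HT.H.b k -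
      bp Q x (HT.H.b k) • HT.W w := by
  unfold Yhat
  rw [eich_mulVec (HT.epair_W k (-w)), HT.Q_W, τ.N_neg]
  simp only [map_neg, smul_neg]
  module

theorem Yhat_add (k : J) (w w' : K') : HT.Yhat k (w + w') = HT.Yhat k w * HT.Yhat k w' := by
  unfold Yhat
  rw [eich_mul (HT.epair_W k (-w')) (HT.epair_W k (-w)), ← map_add]
  congr 2
  ring

variable [DecidableEq J]

/-- the twisted Steinberg data attached to the family -/
noncomputable def tD : TData J F K' ↥(Cfsg.isometryGroup F ⇑Q) ν τ where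
  D := HT.H.dD
  Y := HT.Yhat
  Y_add := HT.Yhat_add
  XY_comm := by
    intro k l p t u h1 h2
    show HT.H.yhat k l t * HT.Yhat p u = HT.Yhat p u * HT.H.yhat k l t
    by_cases r : k ≠ l ∧ l ≠ ν k
    · rw [HT.H.yhat_root r.1 r.2]
      unfold HFam.Ehat Yhat
      apply LR_comm_eich
      · exact HT.epair_W p (-u)
      · apply HT.H.bp_ne
        exact fun e => h1 (HT.H.nu_inj e).symm
      · apply HT.H.bp_ne
        exact HT.H.ne_nu_symm h2
      · exact HT.bp_W' _ _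
      · exact HT.bp_W' _ _
    · rw [HT.H.yhat_not_root r, mul_one, one_mul]
  XY_rel := by
    intro k l s w h1 h2
    show HT.H.yhat k l s * HT.Yhat l w * (HT.H.yhat k l s)⁻¹ * (HT.Yhat l w)⁻¹ =
      HT.Yhat k (s • w) * HT.H.yhat k (ν l) (s * τ.N w)
    have h3 : l ≠ ν k := HT.H.ne_nu_symm h2
    have e1 : mat (HT.H.yhat k l s) *ᵥ HT.H.b l = HT.H.b l + s • HT.H.b k := by
      rw [HT.H.yhat_mulVec_bp h1 h3, HT.H.bp_nu, HT.H.bp_ne h2]
      module
    have e2 : mat (HT.H.yhat k l s) *ᵥ (HT.W (-w)) = HT.W (-w) := by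
      rw [HT.H.yhat_mulVec_bp h1 h3, HT.bp_W', HT.bp_W']
      module
    have e3 := eich_conj (HT.epair_W l (-w)) (HT.H.yhat k l s)
    rw [e1, e2] at e3
    have e4 := eich_add_left HT.H.nd (HT.H.b l) (HT.H.b k) (HT.W (-w)) (HT.epair_W l (-w))
      (HT.epair_W k (-w)) (HT.H.polar_ne l k h2) s
    rw [HT.Q_W, τ.N_neg] at e4
    have e5 : s • HT.W (-w) = HT.W (-(s • w)) := by rw [← map_smul, smul_neg]
    rw [e5, ← HT.H.yhat_eq_LR h1 h2] at e4
    show HT.H.yhat k l s * eich Q (HT.H.b l) (HT.W (-w)) * (HT.H.yhat k l s)⁻¹ *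
      (HT.Yhat l w)⁻¹ = _
    rw [e3, e4]
    unfold Yhat
    group
  YY_rel := by
    intro k l w w' h1 h2
    show HT.Yhat k w * HT.Yhat l w' * (HT.Yhat k w)⁻¹ * (HT.Yhat l w')⁻¹ =
      HT.H.yhat k (ν l) (-(τ.P w w'))
    have h3 : k ≠ ν l := HT.H.ne_nu_symm h2
    have e1 : mat (HT.Yhat k w) *ᵥ HT.H.b l = HT.H.b l := by
      rw [HT.Yhat_mulVec, bp_comm (HT.H.b l) (HT.H.b k), HT.H.bp_ne h2, HT.bp_W]
      module
    have e2 : mat (HT.Yhat k w) *ᵥ (HT.W (-w')) = HT.W (-w') + (-(τ.P w w')) • HT.H.b k := by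
      rw [HT.Yhat_mulVec, HT.bp_W', HT.bp_WW, τ.P_neg_left, τ.P_comm w' w]
      module
    have e3 := eich_conj (HT.epair_W l (-w')) (HT.Yhat k w)
    rw [e1, e2] at e3
    rw [← eich_mul (HT.epair_W l (-w')) (HT.H.epair_b h3 (-(τ.P w w'))),
      eich_eq_LR HT.H.nd (HT.H.b l) (HT.H.b k) (HT.H.Q_b l) (HT.H.Q_b k)
        (HT.H.polar_ne l k h3),
      ← HT.H.yhat_eq_LR h1.symm h3] at e3
    show HT.Yhat k w * eich Q (HT.H.b l) (HT.W (-w')) * (HT.Yhat k w)⁻¹ * (HT.Yhat l w')⁻¹ = _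
    rw [e3]
    unfold Yhat
    group

theorem tD_y (k l : J) (t : F) : HT.tD.D.y k l t = HT.H.yhat k l t := rfl

theorem tD_Y (k : J) (w : K') : HT.tD.Y k w = HT.Yhat k w := rfl

end HFamT

end Cfsg.Agent.Lib.Helper3.TQ
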