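import Cfsg.Agent.Lib.Helper3.TQ1
import Cfsg.Agent.Lib.Helper3.BQ4
import Cfsg.Agent.Lib.Helper4.CarveF1
import Cfsg.Agent.Lib.Helper2.OrthCard1

/-!
# The twisted Steinberg data in the orthogonal group of minus type
-/

set_option linter.unusedSectionVars false
set_option linter.unusedVariables false
set_option linter.unusedSimpArgs false

namespace Cfsg.Agent.Lib.Helper3.TQ

open Matrix Cfsg.Agent.Lib.Helper2 Cfsg.Agent.Lib.Helper2.LongRoot Cfsg.Agent.Lib.Helper3.DN
  Cfsg.Agent.H9Sieg Cfsg.Agent.Lib.Helper5.OBN Cfsg.Agent.Lib.Helper3.BN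
  Cfsg.Agent.Lib.Helper3.BQ Cfsg.Agent.Lib.Helper3.TN Cfsg.Agent.Lib.Helper3.TW
  Cfsg.Agent.Lib.Carve.F1 Cfsg.Agent.Lib.Helper5.QuadGlue

universe u

variable {F : Type u} [Field F] [Fintype F] (m : ℕ) (a b : F) [Fact (Aniso a b)]

/-- the underlying space -/
abbrev VM (m : ℕ) (F : Type u) : Type u := (Fin m ⊕ Fin m) ⊕ Fin 2 → F

/-- the basis vectors of the hyperbolic part -/
def eH (k : Fin m ⊕ Fin m) : VM m F := Pi.single (Sum.inl k) 1

/-- the embedding of the quadratic extension as the anisotropic part -/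
noncomputable def wEmb : QExt F a b →ₗ[F] VM m F where
  toFun w := Sum.elim 0 ![w.re, w.im]
  map_add' := fun w w' => by
    funext i
    rcases i with i | i
    · simp
    · fin_cases i <;> simp [add_re, add_im]
  map_smul' := fun c w => by
    funext i
    rcases i with i | i
    · simp
    · fin_cases i <;> simp [smul_re, smul_im]

theorem wEmb_inl (w : QExt F a b) (k : Fin m ⊕ Fin m) : wEmb m a b w (Sum.inl k) = 0 := rfl

theorem wEmb_zero (w : QExt F a b) : wEmb m a b w (Sum.inr 0) = w.re := rfl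

theorem wEmb_one (w : QExt F a b) : wEmb m a b w (Sum.inr 1) = w.im := rfl

theorem QM_eH (k : Fin m ⊕ Fin m) : QM m F a b (eH m k) = 0 := by
  rw [QM_apply]
  unfold Cfsg.quadFormMinus eH
  have : ∀ i : Fin m, (Pi.single (Sum.inl k) 1 : VM m F) (Sum.inl (Sum.inl i)) *
      (Pi.single (Sum.inl k) 1 : VM m F) (Sum.inl (Sum.inr i)) = 0 := by
    intro i
    rcases k with j | j <;> simp [Pi.single_apply]
  simp only [this, Finset.sum_const_zero]
  simp

theorem polar_eH (k : Fin m ⊕ Fin m) (x : VM m F) :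
    QuadraticMap.polar (⇑(QM m F a b)) (eH m k) x = x (Sum.inl (Sum.swap k)) := by
  rw [QuadStd.polar_minus]
  unfold eH
  rcases k with j | j <;> simp [Pi.single_apply]

theorem QM_wEmb (w : QExt F a b) : QM m F a b (wEmb m a b w) = (tw (a := a) (b := b)).N w := by
  rw [QM_apply, tw_N]
  unfold Cfsg.quadFormMinus
  simp only [wEmb_inl, wEmb_zero, wEmb_one, mul_zero, Finset.sum_const_zero, zero_add]

theorem QM_nondeg' : (QuadraticMap.polarBilin (QM m F a b)).Nondegenerate := by
  have h : QM m F a b = OrthCard.QMn m a b := by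
    apply DFunLike.coe_injective
    rw [QuadStd.QM_coe, OrthCard.QMn_coe]
  rw [h]
  exact OrthCard.QMn_nondeg m a b (Fact.out : Aniso a b)

/-- the standard family of the minus type space -/
noncomputable def hMinus :
    HFamT (QM m F a b) (Fin m ⊕ Fin m) Sum.swap (tw (a := a) (b := b)) where
  H :=
    { nd := QM_nondeg' m a b
      b := eH m
      b0 := wEmb m a b 1
      nu_nu := Sum.swap_swap
      nu_ne := swap_ne
      Q_b := QM_eH m a b
      polar_nu := fun k => by
        rw [polar_eH]
        simp [eH]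
      polar_ne := fun k l h => by
        rw [polar_eH]
        simp [eH, Pi.single_apply, Ne.symm h]
      Q_b0 := by rw [QM_wEmb, Tw.N_one]
      polar_b0 := fun k => by
        rw [polar_eH]
        rfl }
  W := wEmb m a b
  Q_W := QM_wEmb m a b
  polar_W := fun k w => by
    rw [polar_eH]
    rfl

/-- the twisted Steinberg data in the isometry group of the minus type form -/
noncomputable def tdMinus : TData (Fin m ⊕ Fin m) F (QExt F a b)
    ↥(Cfsg.isometryGroup F ⇑(QM m F a b)) Sum.swap (tw (a := a) (b := b)) :=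
  (hMinus m a b).tD

/-- coordinates on the natural module -/
noncomputable def modEquiv :
    Mod (Fin m ⊕ Fin m) F (QExt F a b) ≃ₗ[F] VM m F :=
  (LinearEquiv.prodCongr (LinearEquiv.refl F (Fin m ⊕ Fin m → F)) (toVec (a := a) (b := b))).trans
    (LinearEquiv.sumArrowLequivProdArrow (Fin m ⊕ Fin m) (Fin 2) F F).symm

theorem modEquiv_apply (x : Mod (Fin m ⊕ Fin m) F (QExt F a b)) :
    modEquiv m a b x = Sum.elim x.1 ![x.2.re, x.2.im] := by
  unfold modEquiv
  funext i
  rcases i with i | i <;> simp [toVec_apply]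

theorem modEquiv_inl (x : Mod (Fin m ⊕ Fin m) F (QExt F a b)) (k : Fin m ⊕ Fin m) :
    modEquiv m a b x (Sum.inl k) = x.1 k := by
  rw [modEquiv_apply]; rfl

theorem modEquiv_eJ (k : Fin m ⊕ Fin m) :
    modEquiv m a b (eJ k : Mod (Fin m ⊕ Fin m) F (QExt F a b)) = eH m k := by
  rw [modEquiv_apply]
  funext i
  rcases i with i | i
  · simp [eH, Pi.single_apply]
  · fin_cases i <;> simp [eH]

theorem modEquiv_eW (w : QExt F a b) :
    modEquiv m a b (eW w : Mod (Fin m ⊕ Fin m) F (QExt F a b)) = wEmb m a b w := by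
  rw [modEquiv_apply]
  rfl

/-- the natural representation, in the coordinates `modEquiv` -/
noncomputable def repMinus : ↥(Cfsg.isometryGroup F ⇑(QM m F a b)) →*
    Module.End F (Mod (Fin m ⊕ Fin m) F (QExt F a b)) where
  toFun g := (modEquiv m a b).symm.toLinearMap ∘ₗ Matrix.mulVecLin (mat g) ∘ₗ
    (modEquiv m a b).toLinearMap
  map_one' := by
    apply LinearMap.ext
    intro x
    simp [coe_one_mulVec]
  map_mul' := fun g h => by
    apply LinearMap.ext
    intro x
    simp [coe_mul_mulVec]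

theorem repMinus_apply (g : ↥(Cfsg.isometryGroup F ⇑(QM m F a b)))
    (x : Mod (Fin m ⊕ Fin m) F (QExt F a b)) :
    modEquiv m a b (repMinus m a b g x) = mat g *ᵥ modEquiv m a b x := by
  simp [repMinus]

theorem bp_eH (k : Fin m ⊕ Fin m) (x : VM m F) :
    bp (QM m F a b) x (eH m k) = x (Sum.inl (Sum.swap k)) := by
  rw [bp_comm]
  exact polar_eH m a b k x

theorem bp_wEmb (x : Mod (Fin m ⊕ Fin m) F (QExt F a b)) (w : QExt F a b) :
    bp (QM m F a b) (modEquiv m a b x) (wEmb m a b w) = (tw (a := a) (b := b)).P x.2 w := by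
  show QuadraticMap.polar (⇑(QM m F a b)) _ _ = _
  rw [QuadStd.polar_minus]
  simp only [wEmb_inl, wEmb_zero, wEmb_one, mul_zero, zero_mul, add_zero,
    Finset.sum_const_zero, zero_add]
  rw [modEquiv_apply]
  unfold Tw.P
  rw [tw_T, mul_re, mul_im, tw_σ_re, tw_σ_im]
  simp only [Sum.elim_inr, Matrix.cons_val_zero, Matrix.cons_val_one]
  ring

theorem isRepT_minus : IsRepT (tdMinus m a b) (repMinus m a b) := by
  constructor
  · intro k l t hkl hkl' x
    apply (modEquiv m a b).injective
    rw [repMinus_apply]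
    have := (hMinus m a b).H.yhat_mulVec_bp hkl hkl' t (modEquiv m a b x)
    rw [show (tdMinus m a b).D.y k l t = (hMinus m a b).H.yhat k l t from rfl, this]
    show modEquiv m a b x + t • (bp (QM m F a b) (modEquiv m a b x) (eH m (Sum.swap l)) •
      eH m k - bp (QM m F a b) (modEquiv m a b x) (eH m k) • eH m (Sum.swap l)) = _
    rw [bp_eH, bp_eH, Sum.swap_swap, map_sub, map_add, map_smul, map_smul, modEquiv_eJ,
      modEquiv_eJ, modEquiv_inl, modEquiv_inl]
    module
  · intro k u x
    apply (modEquiv m a b).injective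
    rw [repMinus_apply, show (tdMinus m a b).Y k u = (hMinus m a b).Yhat k u from rfl,
      HFamT.Yhat_mulVec]
    show modEquiv m a b x + (bp (QM m F a b) (modEquiv m a b x) (wEmb m a b u) -
      (tw (a := a) (b := b)).N u * bp (QM m F a b) (modEquiv m a b x) (eH m k)) • eH m k -
      bp (QM m F a b) (modEquiv m a b x) (eH m k) • wEmb m a b u = _
    rw [bp_eH, bp_wEmb, map_sub, map_add, map_smul, modEquiv_eJ, modEquiv_eW, modEquiv_inl,
      map_smul]

end Cfsg.Agent.Lib.Helper3.TQ
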