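import Cfsg.Agent.Lib.Helper3.TQ2
import Cfsg.Agent.Lib.Helper3.BQ6

/-!
# Clearing the coordinates of singular vectors in the quadratic space of minus type
-/

set_option linter.unusedSectionVars false
set_option linter.unusedVariables false
set_option linter.unusedSimpArgs false

namespace Cfsg.Agent.Lib.Helper3.TQ

open Matrix Cfsg.Agent.Lib.Helper2 Cfsg.Agent.Lib.Helper2.LongRoot Cfsg.Agent.Lib.Helper3.DN
  Cfsg.Agent.H9Sieg Cfsg.Agent.Lib.Helper5.OBN Cfsg.Agent.Lib.Helper3.BN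
  Cfsg.Agent.Lib.Helper3.BQ Cfsg.Agent.Lib.Helper3.TN Cfsg.Agent.Lib.Helper3.TW
  Cfsg.Agent.Lib.Carve.F1 Cfsg.Agent.Lib.Helper5.QuadGlue

universe u

variable {F : Type u} [Field F] [Fintype F] (m : ℕ) (a b : F) [Fact (Aniso a b)]

theorem eH_inl (k j : Fin m ⊕ Fin m) : (eH m k : VM m F) (Sum.inl j) = if j = k then 1 else 0 := by
  unfold eH
  rw [Pi.single_apply]
  simp

theorem eH_inr (k : Fin m ⊕ Fin m) (i : Fin 2) : (eH m k : VM m F) (Sum.inr i) = 0 := by
  unfold eH
  rw [Pi.single_apply]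
  simp

theorem eH_same (k : Fin m ⊕ Fin m) : (eH m k : VM m F) (Sum.inl k) = 1 := by
  rw [eH_inl, if_pos rfl]

theorem eH_ne {k j : Fin m ⊕ Fin m} (h : j ≠ k) : (eH m k : VM m F) (Sum.inl j) = 0 := by
  rw [eH_inl, if_neg h]

theorem yM_mulVec {k l : Fin m ⊕ Fin m} (hkl : k ≠ l) (hkl' : l ≠ Sum.swap k) (t : F)
    (x : VM m F) :
    mat ((hMinus m a b).H.yhat k l t) *ᵥ x =
      x + (t * x (Sum.inl l)) • eH m k - (t * x (Sum.inl (Sum.swap k))) • eH m (Sum.swap l) := by
  rw [(hMinus m a b).H.yhat_mulVec_bp hkl hkl']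
  show x + t • (bp (QM m F a b) x (eH m (Sum.swap l)) • eH m k -
    bp (QM m F a b) x (eH m k) • eH m (Sum.swap l)) = _
  rw [bp_eH, bp_eH, Sum.swap_swap]
  module

theorem YM_mulVec (k : Fin m ⊕ Fin m) (w : QExt F a b) (x : VM m F) :
    mat ((hMinus m a b).Yhat k w) *ᵥ x =
      x + (bp (QM m F a b) x (wEmb m a b w) -
        (tw (a := a) (b := b)).N w * x (Sum.inl (Sum.swap k))) • eH m k -
        x (Sum.inl (Sum.swap k)) • wEmb m a b w := by
  rw [HFamT.Yhat_mulVec]
  show x + (bp (QM m F a b) x (wEmb m a b w) -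
    (tw (a := a) (b := b)).N w * bp (QM m F a b) x (eH m k)) • eH m k -
    bp (QM m F a b) x (eH m k) • wEmb m a b w = _
  rw [bp_eH]

/-- the subgroup generated by the long root elements with indices in `P` -/
noncomputable def YPT (P : Fin m ⊕ Fin m → Prop) :
    Subgroup ↥(Cfsg.isometryGroup F ⇑(QM m F a b)) :=
  Subgroup.closure {g | ∃ k l t, P k ∧ P l ∧ g = (hMinus m a b).H.yhat k l t}

/-- the subgroup generated by all root elements -/
noncomputable def RT : Subgroup ↥(Cfsg.isometryGroup F ⇑(QM m F a b)) :=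
  Subgroup.closure ({g | ∃ k l t, g = (hMinus m a b).H.yhat k l t} ∪
    {g | ∃ k w, g = (hMinus m a b).Yhat k w})

theorem YPT_le_RT (P : Fin m ⊕ Fin m → Prop) : YPT m a b P ≤ RT m a b := by
  unfold YPT RT
  apply Subgroup.closure_mono
  rintro g ⟨k, l, t, -, -, rfl⟩
  exact Or.inl ⟨k, l, t, rfl⟩

theorem yhat_mem_RT (k l : Fin m ⊕ Fin m) (t : F) : (hMinus m a b).H.yhat k l t ∈ RT m a b :=
  Subgroup.subset_closure (Or.inl ⟨k, l, t, rfl⟩)

theorem Yhat_mem_RT (k : Fin m ⊕ Fin m) (w : QExt F a b) : (hMinus m a b).Yhat k w ∈ RT m a b :=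
  Subgroup.subset_closure (Or.inr ⟨k, w, rfl⟩)

theorem inv_mulVec_of_fixT {g : ↥(Cfsg.isometryGroup F ⇑(QM m F a b))}
    {x : VM m F} (h : mat g *ᵥ x = x) : mat g⁻¹ *ᵥ x = x := by
  have h1 := inv_mulVec_mulVec g x
  rwa [h] at h1

theorem YPT_fix {P : Fin m ⊕ Fin m → Prop} {e : Fin m ⊕ Fin m}
    (hP : ∀ k, P k → k ≠ e ∧ k ≠ Sum.swap e) {g : ↥(Cfsg.isometryGroup F ⇑(QM m F a b))}
    (hg : g ∈ YPT m a b P) : mat g *ᵥ (eH m e : VM m F) = eH m e := by
  unfold YPT at hg
  induction hg using Subgroup.closure_induction with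
  | mem y hy =>
    obtain ⟨k, l, t, hk, hl, rfl⟩ := hy
    by_cases h : k ≠ l ∧ l ≠ Sum.swap k
    · rw [yM_mulVec m a b h.1 h.2]
      have h1 : (eH m e : VM m F) (Sum.inl l) = 0 := eH_ne m (hP l hl).1
      have h3 : (eH m e : VM m F) (Sum.inl (Sum.swap k)) = 0 := by
        apply eH_ne
        exact fun h' => (hP k hk).2 (by rw [← h', Sum.swap_swap])
      rw [h1, h3, mul_zero, zero_smul, zero_smul, add_zero, sub_zero]
    · rw [(hMinus m a b).H.yhat_not_root h, coe_one_mulVec]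
  | one => exact coe_one_mulVec _
  | mul a' b' _ _ ha hb => rw [coe_mul_mulVec, hb, ha]
  | inv a' _ ha => exact inv_mulVec_of_fixT m a b ha

theorem QT_pair {x : VM m F} {l : Fin m ⊕ Fin m} (h0 : ∀ i : Fin 2, x (Sum.inr i) = 0)
    (hx : ∀ k, k ≠ l → k ≠ Sum.swap l → x (Sum.inl k) = 0) :
    QM m F a b x = x (Sum.inl l) * x (Sum.inl (Sum.swap l)) := by
  rw [QM_apply]
  unfold Cfsg.quadFormMinus
  rw [h0 0, h0 1]
  rcases l with j | j
  · rw [Finset.sum_eq_single j]
    · simp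
    · intro i _ hij
      rw [hx (Sum.inl i) (by simpa using hij) (by simp), zero_mul]
    · intro h; exact absurd (Finset.mem_univ j) h
  · rw [Finset.sum_eq_single j]
    · simp [mul_comm]
    · intro i _ hij
      rw [hx (Sum.inr i) (by simpa using hij) (by simp), mul_zero]
    · intro h; exact absurd (Finset.mem_univ j) h

/-- clearing the coordinates of a singular vector of the hyperbolic part -/
theorem TRT (P : Fin m ⊕ Fin m → Prop) (hP : ∀ k, P k → P (Sum.swap k)) :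
    ∀ (s : Finset (Fin m ⊕ Fin m)) (x : VM m F) (l : Fin m ⊕ Fin m), P l →
      x (Sum.inl l) ≠ 0 → QM m F a b x = 0 → (∀ i : Fin 2, x (Sum.inr i) = 0) →
      (∀ k, x (Sum.inl k) ≠ 0 → P k) →
      (∀ k, k ≠ l → k ≠ Sum.swap l → x (Sum.inl k) ≠ 0 → k ∈ s) →
      ∃ g ∈ YPT m a b P, mat g *ᵥ x = x (Sum.inl l) • (eH m l : VM m F) := by
  intro s
  induction s using Finset.induction_on with
  | empty =>
    intro x l hPl hxl hQ0 hx0 hsupp hs
    have hx : ∀ k, k ≠ l → k ≠ Sum.swap l → x (Sum.inl k) = 0 := by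
      intro k h1 h3
      by_contra h
      exact absurd (hs k h1 h3 h) (Finset.notMem_empty k)
    have h1 := QT_pair m a b hx0 hx
    rw [hQ0] at h1
    have h3 : x (Sum.inl (Sum.swap l)) = 0 := by
      rcases mul_eq_zero.1 h1.symm with h | h
      · exact absurd h hxl
      · exact h
    refine ⟨1, one_mem _, ?_⟩
    rw [coe_one_mulVec]
    ext k
    rcases k with k | i
    · by_cases hkl : k = l
      · subst hkl
        simp [eH_same]
      · by_cases hkl' : k = Sum.swap l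
        · rw [hkl', h3]
          simp [eH_ne m (swap_ne l)]
        · rw [hx k hkl hkl']
          simp [eH_ne m hkl]
    · rw [hx0 i]; simp [eH_inr]
  | insert k₀ s hk₀ ih =>
    intro x l hPl hxl hQ0 hx0 hsupp hs
    by_cases hk : k₀ ≠ l ∧ k₀ ≠ Sum.swap l ∧ x (Sum.inl k₀) ≠ 0
    · obtain ⟨hk1, hk2, hk3⟩ := hk
      have hroot : l ≠ Sum.swap k₀ := ne_swap_symm hk2
      set t : F := -(x (Sum.inl k₀) / x (Sum.inl l)) with ht
      set g₀ := (hMinus m a b).H.yhat k₀ l t with hg₀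
      set x' := mat g₀ *ᵥ x with hx'
      have hx'eq : x' = x + (t * x (Sum.inl l)) • (eH m k₀ : VM m F) -
          (t * x (Sum.inl (Sum.swap k₀))) • (eH m (Sum.swap l) : VM m F) :=
        yM_mulVec m a b hk1 hroot t x
      have c0 : ∀ i : Fin 2, x' (Sum.inr i) = 0 := by
        intro i
        rw [hx'eq]
        simp [hx0 i, eH_inr]
      have c1 : x' (Sum.inl l) = x (Sum.inl l) := by
        rw [hx'eq]
        simp [eH_ne m (Ne.symm hk1), eH_ne m (Ne.symm (swap_ne l))]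
      have c2 : x' (Sum.inl k₀) = 0 := by
        rw [hx'eq]
        simp only [Pi.add_apply, Pi.sub_apply, Pi.smul_apply, eH_same, eH_ne m hk2, smul_eq_mul,
          mul_one, mul_zero, sub_zero, ht]
        field_simp
        ring
      have c3 : ∀ k, k ≠ k₀ → k ≠ Sum.swap l → x' (Sum.inl k) = x (Sum.inl k) := by
        intro k h1 h3
        rw [hx'eq]
        simp [eH_ne m h1, eH_ne m h3]
      have hQ' : QM m F a b x' = 0 := by rw [hx', Q_mulVec]; exact hQ0
      have hg₀mem : g₀ ∈ YPT m a b P :=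
        Subgroup.subset_closure ⟨k₀, l, t, hsupp k₀ hk3, hPl, rfl⟩
      obtain ⟨g', hg', hg'x⟩ := ih x' l hPl (by rw [c1]; exact hxl) hQ' c0 (by
          intro k hk
          by_cases h1 : k = Sum.swap l
          · rw [h1]; exact hP l hPl
          by_cases h3 : k = k₀
          · rw [h3] at hk; exact absurd c2 hk
          · rw [c3 k h3 h1] at hk; exact hsupp k hk) (by
          intro k h1 h3 hk
          have h4 : k ≠ k₀ := by
            intro h; rw [h] at hk; exact hk c2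
          rw [c3 k h4 h3] at hk
          rcases Finset.mem_insert.1 (hs k h1 h3 hk) with h | h
          · exact absurd h h4
          · exact h)
      refine ⟨g' * g₀, mul_mem hg' hg₀mem, ?_⟩
      rw [coe_mul_mulVec, ← hx', hg'x, c1]
    · apply ih x l hPl hxl hQ0 hx0 hsupp
      intro k h1 h3 hk'
      rcases Finset.mem_insert.1 (hs k h1 h3 hk') with h | h
      · exfalso
        apply hk
        rw [← h]
        exact ⟨h1, h3, hk'⟩
      · exact h

/-- the anisotropic component of a vector -/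
def wPart (x : VM m F) : QExt F a b := ⟨x (Sum.inr 0), x (Sum.inr 1)⟩

/-- a singular vector with non-zero anisotropic component has a non-zero hyperbolic pair -/
theorem exists_pair_ne_zeroT {x : VM m F} (hQ : QM m F a b x = 0)
    (h0 : ¬ ∀ i : Fin 2, x (Sum.inr i) = 0) :
    ∃ i : Fin m, x (Sum.inl (Sum.inl i)) ≠ 0 ∧ x (Sum.inl (Sum.inr i)) ≠ 0 := by
  by_contra hcon
  have h : ∀ i : Fin m, x (Sum.inl (Sum.inl i)) * x (Sum.inl (Sum.inr i)) = 0 := by
    intro i
    by_contra hi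
    exact hcon ⟨i, left_ne_zero_of_mul hi, right_ne_zero_of_mul hi⟩
  rw [QM_apply] at hQ
  unfold Cfsg.quadFormMinus at hQ
  simp only [h, Finset.sum_const_zero, zero_add] at hQ
  have han : Aniso a b := Fact.out
  obtain ⟨e0, e1⟩ := han _ _ hQ
  apply h0
  intro i
  fin_cases i
  · exact e0
  · exact e1

/-- killing the anisotropic component by a short root element -/
theorem killW (p : Fin m ⊕ Fin m) (x : VM m F) (hp : x (Sum.inl (Sum.swap p)) ≠ 0) (i : Fin 2) :
    (mat ((hMinus m a b).Yhat p ((x (Sum.inl (Sum.swap p)))⁻¹ • wPart m a b x)) *ᵥ x)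
      (Sum.inr i) = 0 := by
  rw [YM_mulVec]
  simp only [Pi.add_apply, Pi.sub_apply, Pi.smul_apply, eH_inr, smul_eq_mul, mul_zero, add_zero]
  fin_cases i
  · show x (Sum.inr 0) - x (Sum.inl (Sum.swap p)) *
      ((x (Sum.inl (Sum.swap p)))⁻¹ • wPart m a b x).re = 0
    rw [smul_re]
    show x (Sum.inr 0) - x (Sum.inl (Sum.swap p)) * ((x (Sum.inl (Sum.swap p)))⁻¹ *
      x (Sum.inr 0)) = 0
    field_simp
    ring
  · show x (Sum.inr 1) - x (Sum.inl (Sum.swap p)) *
      ((x (Sum.inl (Sum.swap p)))⁻¹ • wPart m a b x).im = 0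
    rw [smul_im]
    show x (Sum.inr 1) - x (Sum.inl (Sum.swap p)) * ((x (Sum.inl (Sum.swap p)))⁻¹ *
      x (Sum.inr 1)) = 0
    field_simp
    ring

theorem Yhat_fixT {p e : Fin m ⊕ Fin m} (h : e ≠ Sum.swap p) (w : QExt F a b) :
    mat ((hMinus m a b).Yhat p w) *ᵥ (eH m e : VM m F) = eH m e := by
  rw [YM_mulVec]
  have h3 : (eH m e : VM m F) (Sum.inl (Sum.swap p)) = 0 := eH_ne m (Ne.symm h)
  have h1 : bp (QM m F a b) (eH m e) (wEmb m a b w) = 0 := by
    show QuadraticMap.polar (⇑(QM m F a b)) (eH m e) (wEmb m a b w) = 0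
    rw [polar_eH]
    rfl
  rw [h1, h3]
  simp

theorem Yhat_coordT {p k : Fin m ⊕ Fin m} (h : k ≠ p) (w : QExt F a b) (x : VM m F) :
    (mat ((hMinus m a b).Yhat p w) *ᵥ x) (Sum.inl k) = x (Sum.inl k) := by
  rw [YM_mulVec]
  simp [eH_ne m h, wEmb_inl]

end Cfsg.Agent.Lib.Helper3.TQ
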