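import Cfsg.Agent.Lib.Helper3.TQ4
import Cfsg.Agent.Lib.Helper3.TS1
import Cfsg.Agent.Lib.Helper3.BS2

/-!
# The covering of `PΩ⁻` by the twisted Steinberg group
-/

set_option linter.unusedSectionVars false
set_option linter.unusedVariables false
set_option linter.unusedSimpArgs false

namespace Cfsg.Agent.Lib.Helper3.TS

open Matrix Cfsg.Agent.Lib.Helper2 Cfsg.Agent.Lib.Helper2.LongRoot Cfsg.Agent.Lib.Helper3.DN
  Cfsg.Agent.H9Sieg Cfsg.Agent.Lib.Helper5.OBN Cfsg.Agent.Lib.Helper3.BN
  Cfsg.Agent.Lib.Helper3.BQ Cfsg.Agent.Lib.Helper3.TN Cfsg.Agent.Lib.Helper3.TW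
  Cfsg.Agent.Lib.Carve.F1 Cfsg.Agent.Lib.Helper5.QuadGlue Cfsg.Agent.Lib.Helper3.TQ
  Cfsg.Agent.Lib.Helper3.DS Cfsg.Agent.Lib.Helper3.StU

universe u

section cover
variable {F : Type u} [Field F] [Fintype F] (m : ℕ) (a b : F) [Fact (Aniso a b)]

/-- the twisted Steinberg group over the quadratic extension attached to the binary form -/
abbrev StM : Type u :=
  StT (Fin m ⊕ Fin m) F (QExt F a b) Sum.swap (tw (a := a) (b := b))

/-- the tautological Steinberg data -/
noncomputable abbrev sT : TData (Fin m ⊕ Fin m) F (QExt F a b) (StM m a b) Sum.swap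
    (tw (a := a) (b := b)) :=
  stdT Sum.swap_swap swap_ne

/-- the homomorphism from the Steinberg group to the isometry group -/
noncomputable def thetaT0 : StM m a b →* ↥(Cfsg.isometryGroup F ⇑(QM m F a b)) :=
  liftT (tdMinus m a b)

theorem thetaT0_tX (k l : Fin m ⊕ Fin m) (t : F) :
    thetaT0 m a b (tX k l t) = (hMinus m a b).H.yhat k l t := by
  rw [thetaT0, liftT_tX]
  rfl

theorem thetaT0_tY (k : Fin m ⊕ Fin m) (w : QExt F a b) :
    thetaT0 m a b (tY k w) = (hMinus m a b).Yhat k w := by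
  rw [thetaT0, liftT_tY]
  rfl

/-- the natural representation of the Steinberg group -/
noncomputable def phiT : StM m a b →* Module.End F (Mod (Fin m ⊕ Fin m) F (QExt F a b)) :=
  (repMinus m a b).comp (thetaT0 m a b)

theorem phiT_apply (g : StM m a b) : phiT m a b g = repMinus m a b (thetaT0 m a b g) := rfl

theorem phiT_rep : IsRepT (sT m a b) (phiT m a b) := by
  constructor
  · intro k l t hkl hkl' x
    rw [stdT_y, phiT_apply, thetaT0_tX]
    exact (isRepT_minus m a b).long k l t hkl hkl' x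
  · intro k w x
    rw [stdT_Y, phiT_apply, thetaT0_tY]
    exact (isRepT_minus m a b).short k w x

theorem sT_gen : (sT m a b).Gen := stdT_gen Sum.swap_swap swap_ne

theorem sT_perfect (hm : 3 ≤ m) : commutator (StM m a b) = ⊤ :=
  stT_perfect Sum.swap_swap swap_ne (hc_sum hm)

theorem thetaT0_range_eq : (thetaT0 m a b).range = RT m a b := by
  apply le_antisymm
  · rintro _ ⟨s, rfl⟩
    have hs : s ∈ Subgroup.closure ({g | ∃ k l t, g = (sT m a b).D.y k l t} ∪
        {g | ∃ k t, g = (sT m a b).Y k t}) := by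
      rw [show Subgroup.closure ({g | ∃ k l t, g = (sT m a b).D.y k l t} ∪
        {g | ∃ k t, g = (sT m a b).Y k t}) = ⊤ from sT_gen m a b]
      trivial
    induction hs using Subgroup.closure_induction with
    | mem y hy =>
      rcases hy with ⟨k, l, t, rfl⟩ | ⟨k, t, rfl⟩
      · rw [stdT_y, thetaT0_tX]
        exact yhat_mem_RT m a b k l t
      · rw [stdT_Y, thetaT0_tY]
        exact Yhat_mem_RT m a b k t
    | one => rw [map_one]; exact one_mem _
    | mul a' b' _ _ ha hb => rw [map_mul]; exact mul_mem ha hb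
    | inv a' _ ha => rw [map_inv]; exact inv_mem ha
  · unfold RT
    rw [Subgroup.closure_le]
    rintro g (⟨k, l, t, rfl⟩ | ⟨k, t, rfl⟩)
    · exact ⟨tX k l t, thetaT0_tX m a b k l t⟩
    · exact ⟨tY k t, thetaT0_tY m a b k t⟩

theorem thetaT0_range (hm : 3 ≤ m) : (thetaT0 m a b).range = Cfsg.Omega F ⇑(QM m F a b) := by
  have hcard : 7 ≤ Fintype.card ((Fin m ⊕ Fin m) ⊕ Fin 2) := by
    rw [Fintype.card_sum, Fintype.card_sum, Fintype.card_fin, Fintype.card_fin]; omega
  apply le_antisymm
  · -- the Steinberg group is perfect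
    rintro _ ⟨s, rfl⟩
    have hs : s ∈ commutator (StM m a b) := by
      rw [sT_perfect m a b hm]; trivial
    have h3 : (commutator (StM m a b)).map (thetaT0 m a b) ≤
        commutator ↥(Cfsg.isometryGroup F ⇑(QM m F a b)) := by
      rw [commutator_def, Subgroup.map_commutator, commutator_def]
      exact Subgroup.commutator_mono le_top le_top
    exact h3 (Subgroup.mem_map_of_mem _ hs)
  · rw [← T_eq_Omega (QM_nondeg' m a b) hcard, thetaT0_range_eq]
    exact T_le_RT m a b

/-- the homomorphism onto `Ω` -/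
noncomputable def thetaT1 (hm : 3 ≤ m) : StM m a b →* ↥(Cfsg.Omega F ⇑(QM m F a b)) :=
  (thetaT0 m a b).codRestrict _ (fun s => by rw [← thetaT0_range m a b hm]; exact ⟨s, rfl⟩)

theorem thetaT1_surj (hm : 3 ≤ m) : Function.Surjective (thetaT1 m a b hm) := by
  rintro ⟨w, hw⟩
  rw [← thetaT0_range m a b hm] at hw
  obtain ⟨s, rfl⟩ := hw
  exact ⟨s, rfl⟩

theorem thetaT1_coe (hm : 3 ≤ m) (g : StM m a b) :
    ((thetaT1 m a b hm g : ↥(Cfsg.Omega F ⇑(QM m F a b))) :
      ↥(Cfsg.isometryGroup F ⇑(QM m F a b))) = thetaT0 m a b g := rfl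

/-- the homomorphism onto `PΩ` -/
noncomputable def thetaT (hm : 3 ≤ m) : StM m a b →*
    ↥(Cfsg.Omega F ⇑(QM m F a b)) ⧸ Subgroup.center ↥(Cfsg.Omega F ⇑(QM m F a b)) :=
  (QuotientGroup.mk' (Subgroup.center ↥(Cfsg.Omega F ⇑(QM m F a b)))).comp (thetaT1 m a b hm)

theorem thetaT_surj (hm : 3 ≤ m) : Function.Surjective (thetaT m a b hm) :=
  (QuotientGroup.mk'_surjective _).comp (thetaT1_surj m a b hm)

/-- the natural representation is faithful on the isometry group -/
theorem repMinus_injective : Function.Injective (repMinus m a b) := by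
  rw [injective_iff_map_eq_one]
  intro g hg
  apply iso_ext
  intro v
  obtain ⟨x, rfl⟩ := (modEquiv m a b).surjective v
  rw [← repMinus_apply, hg, coe_one_mulVec]
  rfl

theorem phiT_eq_one_iff (g : StM m a b) : phiT m a b g = 1 ↔ thetaT0 m a b g = 1 := by
  rw [phiT_apply]
  constructor
  · intro h
    apply repMinus_injective m a b
    rw [h, map_one]
  · intro h
    rw [h, map_one]

end cover

end Cfsg.Agent.Lib.Helper3.TS
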