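import Cfsg.Agent.Lib.Helper3.TS2
import Cfsg.Agent.Lib.Helper3.TN9
import Cfsg.Agent.Lib.Helper8.CarveZ1

/-!
# The kernel of the covering of `PΩ⁻` by the twisted Steinberg group
-/

set_option linter.unusedSectionVars false
set_option linter.unusedVariables false
set_option linter.unusedSimpArgs false

namespace Cfsg.Agent.Lib.Helper3.TS

open Matrix Cfsg.Agent.Lib.Helper2 Cfsg.Agent.Lib.Helper2.LongRoot Cfsg.Agent.Lib.Helper3.DN
  Cfsg.Agent.H9Sieg Cfsg.Agent.Lib.Helper5.OBN Cfsg.Agent.Lib.Helper3.BN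
  Cfsg.Agent.Lib.Helper3.BQ Cfsg.Agent.Lib.Helper3.TN Cfsg.Agent.Lib.Helper3.TW
  Cfsg.Agent.Lib.Carve.F1 Cfsg.Agent.Lib.Helper5.QuadGlue Cfsg.Agent.Lib.Helper3.TQ
  Cfsg.Agent.Lib.Helper3.DS Cfsg.Agent.Lib.Helper3.StU

universe u

section kernel
variable {F : Type u} [Field F] [Fintype F] (m : ℕ) (a b : F) [Fact (Aniso a b)]

theorem phiT_ker_central (hm : 3 ≤ m) (g : StM m a b) (hg : phiT m a b g = 1) :
    ∀ x, g * x = x * g :=
  kerT_central_of_equiv (sT m a b) (eD m) (eD_rev m) hm (sT_gen m a b) (phiT m a b)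
    (phiT_rep m a b) g hg

theorem thetaT1_ker_le (hm : 3 ≤ m) :
    (thetaT1 m a b hm).ker ≤ Subgroup.center (StM m a b) := by
  intro g hg
  rw [Subgroup.mem_center_iff]
  intro x
  have h1 : phiT m a b g = 1 := by
    rw [phiT_eq_one_iff, ← thetaT1_coe m a b hm, MonoidHom.mem_ker.1 hg]
    rfl
  exact (phiT_ker_central m a b hm g h1 x).symm

theorem thetaT_ker_le (hm : 3 ≤ m) :
    (thetaT m a b hm).ker ≤ Subgroup.center (StM m a b) := by
  apply ker_comp_le_center (thetaT1 m a b hm) _ (sT_perfect m a b hm) (thetaT1_ker_le m a b hm)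
  rw [QuotientGroup.ker_mk']

theorem mulVec_of_phiT (g : StM m a b) (c : F)
    (hg : phiT m a b g = c • (1 : Module.End F (Mod (Fin m ⊕ Fin m) F (QExt F a b))))
    (v : VM m F) : mat (thetaT0 m a b g) *ᵥ v = c • v := by
  obtain ⟨x, rfl⟩ := (modEquiv m a b).surjective v
  rw [← repMinus_apply, ← phiT_apply, hg, LinearMap.smul_apply, Module.End.one_apply, map_smul]

/-- the kernel of the covering consists of the elements acting as `±1` -/
theorem mem_thetaT_ker (hm : 3 ≤ m) (g : StM m a b) :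
    g ∈ (thetaT m a b hm).ker ↔ phiT m a b g = 1 ∨ phiT m a b g = -1 := by
  have : Nonempty (Fin m ⊕ Fin m) := ⟨Sum.inl ⟨0, by omega⟩⟩
  constructor
  · intro hg
    have hcen := thetaT_ker_le m a b hm hg
    obtain ⟨c, hc⟩ := Cfsg.Agent.Lib.Carve.Z1.scalar_of_commT (phiT_rep m a b) (phiT m a b g)
      (fun k w => by
        rw [← map_mul, ← map_mul, (Subgroup.mem_center_iff.1 hcen ((sT m a b).Y k w)).symm])
    -- `c * c = 1`
    have hcc : c * c = 1 := by
      have h1 := Q_mulVec (thetaT0 m a b g) (wEmb m a b 1 : VM m F)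
      rw [mulVec_of_phiT m a b g c hc, Q_smul, QM_wEmb, Tw.N_one, mul_one] at h1
      exact h1
    have h3 : (c - 1) * (c + 1) = 0 := by
      have : (c - 1) * (c + 1) = c * c - 1 := by ring
      rw [this, hcc, sub_self]
    rcases mul_eq_zero.1 h3 with h | h
    · left
      rw [hc, sub_eq_zero.1 h, one_smul]
    · right
      have hc1 : c = -1 := eq_neg_of_add_eq_zero_left h
      rw [hc, hc1]
      apply LinearMap.ext
      intro x
      simp
  · intro hg
    rw [MonoidHom.mem_ker]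
    show QuotientGroup.mk' _ (thetaT1 m a b hm g) = 1
    rw [QuotientGroup.mk'_apply, QuotientGroup.eq_one_iff, Subgroup.mem_center_iff]
    have hsc : ∃ c : F, ∀ v : VM m F, mat (thetaT0 m a b g) *ᵥ v = c • v := by
      rcases hg with h | h
      · exact ⟨1, fun v => by
          rw [mulVec_of_phiT m a b g 1 (by rw [h, one_smul])]⟩
      · exact ⟨-1, fun v => by
          rw [mulVec_of_phiT m a b g (-1) (by rw [h]; apply LinearMap.ext; intro x; simp)]⟩
    obtain ⟨c, hc⟩ := hsc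
    intro y
    apply Subtype.ext
    apply iso_ext
    intro v
    show mat ((y : ↥(Cfsg.isometryGroup F ⇑(QM m F a b))) * thetaT0 m a b g) *ᵥ v =
      mat (thetaT0 m a b g * (y : ↥(Cfsg.isometryGroup F ⇑(QM m F a b)))) *ᵥ v
    rw [coe_mul_mulVec, coe_mul_mulVec, hc, hc, Matrix.mulVec_smul]

end kernel

end Cfsg.Agent.Lib.Helper3.TS
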