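import Cfsg.Agent.Lib.Helper3.TS3
import Cfsg.Agent.Lib.Helper3.BS5
import Cfsg.Agent.Lib.Helper3.DS22
import Cfsg.Agent.Lib.Helper9.CarveK1

/-!
# The fold of the twisted Steinberg group into the Steinberg group of type `D` over the
quadratic extension, and the central involution
-/

set_option linter.unusedSectionVars false
set_option linter.unusedVariables false
set_option linter.unusedSimpArgs false

namespace Cfsg.Agent.Lib.Helper3.TS

open Matrix Cfsg.Agent.Lib.Helper2 Cfsg.Agent.Lib.Helper2.LongRoot Cfsg.Agent.Lib.Helper3.DN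
  Cfsg.Agent.H9Sieg Cfsg.Agent.Lib.Helper5.OBN Cfsg.Agent.Lib.Helper3.BN
  Cfsg.Agent.Lib.Helper3.BQ Cfsg.Agent.Lib.Helper3.TN Cfsg.Agent.Lib.Helper3.TW
  Cfsg.Agent.Lib.Carve.F1 Cfsg.Agent.Lib.Helper5.QuadGlue Cfsg.Agent.Lib.Helper3.TQ
  Cfsg.Agent.Lib.Helper3.DS Cfsg.Agent.Lib.Helper3.StU Cfsg.Agent.Lib.Helper3.BS
  Cfsg.Agent.Lib.Carve.K1

universe u

section fold
variable {F : Type u} [Field F] [Fintype F] (m : ℕ) (a b : F) [Fact (Aniso a b)]

/-- the Steinberg group of type `D_{m+1}` over the quadratic extension -/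
abbrev StDK : Type u := StD (Fin (m + 1) ⊕ Fin (m + 1)) (QExt F a b) Sum.swap

/-- the folded twisted Steinberg data inside the Steinberg group of type `D_{m+1}` over the
quadratic extension -/
noncomputable def foldST : TData (Fin m ⊕ Fin m) F (QExt F a b) (StDK m a b) Sum.swap
    (tw (a := a) (b := b)) :=
  foldT (tw (a := a) (b := b)) (sD (m + 1) (QExt F a b)) (embF m) embF_inj embF_swap
    (Sum.inl (Fin.last m)) embF_ne_o embF_ne_o'

/-- the folding homomorphism -/
noncomputable def foldHomT : StM m a b →* StDK m a b := liftT (foldST m a b)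

theorem foldHomT_tX (k l : Fin m ⊕ Fin m) (t : F) :
    foldHomT m a b (tX k l t) =
      (sD (m + 1) (QExt F a b)).y (embF m k) (embF m l) (algebraMap F (QExt F a b) t) := by
  rw [foldHomT, liftT_tX]
  rfl

theorem foldHomT_tY (k : Fin m ⊕ Fin m) (w : QExt F a b) :
    foldHomT m a b (tY k w) =
      (sD (m + 1) (QExt F a b)).y (embF m k) (Sum.inl (Fin.last m)) w *
        (sD (m + 1) (QExt F a b)).y (embF m k) (Sum.swap (Sum.inl (Fin.last m)))
          ((tw (a := a) (b := b)).σ w) := by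
  rw [foldHomT, liftT_tY]
  rfl

variable (hm : 3 ≤ m) (o p : Fin m) (hop : o ≠ p)

/-- the central element -/
noncomputable def zT : StM m a b := jT (zD (F := F) hm o p hop)

theorem two_ne_zero_K (h2 : (2 : F) ≠ 0) : (2 : QExt F a b) ≠ 0 := by
  intro h
  apply h2
  have : algebraMap F (QExt F a b) 2 = 0 := by rw [map_ofNat]; exact h
  exact (map_eq_zero (algebraMap F (QExt F a b))).1 this

theorem zT_ne_one (h2 : (2 : F) ≠ 0) : zT m a b hm o p hop ≠ 1 := by
  intro h
  have h1 := congrArg (foldHomT m a b) h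
  rw [map_one] at h1
  unfold zT at h1
  rw [zD_eq] at h1
  have hf : ∀ k l t, ((foldHomT m a b).comp jT) ((sD m F).y k l t) =
      (foldST m a b).D.y k l t := by
    intro k l t
    show foldHomT m a b (jT (sy k l t)) = _
    rw [jT_sy, foldHomT_tX]
    rfl
  have h3 := map_hh (sD m F) (foldST m a b).D ((foldHomT m a b).comp jT) hf
  have hhh : ∀ k l : Fin m ⊕ Fin m, (foldST m a b).D.hh k l (-1) =
      (sD (m + 1) (QExt F a b)).hh (embF m k) (embF m l) (-1) := by
    intro k l
    unfold DData.hh DData.w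
    show (sD (m + 1) (QExt F a b)).y (embF m k) (embF m l) (algebraMap F (QExt F a b) (-1)) *
      (sD (m + 1) (QExt F a b)).y (embF m l) (embF m k) (algebraMap F (QExt F a b) (-(-1)⁻¹)) *
      (sD (m + 1) (QExt F a b)).y (embF m k) (embF m l) (algebraMap F (QExt F a b) (-1)) *
      ((sD (m + 1) (QExt F a b)).y (embF m k) (embF m l) (algebraMap F (QExt F a b) (-1)) *
      (sD (m + 1) (QExt F a b)).y (embF m l) (embF m k)
        (algebraMap F (QExt F a b) (-(-1 : F)⁻¹)) *
      (sD (m + 1) (QExt F a b)).y (embF m k) (embF m l) (algebraMap F (QExt F a b) (-1))) = _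
    simp only [map_neg, map_one, map_inv₀]
  have h4 : foldHomT m a b (jT ((sD m F).hh (Sum.inl p) (Sum.inr o) (-1) *
      ((sD m F).hh (Sum.inl p) (Sum.inl o) (-1))⁻¹)) =
      (sD (m + 1) (QExt F a b)).hh (Sum.inl p.castSucc) (Sum.inr o.castSucc) (-1) *
        ((sD (m + 1) (QExt F a b)).hh (Sum.inl p.castSucc) (Sum.inl o.castSucc) (-1))⁻¹ := by
    rw [map_mul, map_mul, map_inv, map_inv]
    have a1 := h3 (Sum.inl p) (Sum.inr o) (-1)
    have a2 := h3 (Sum.inl p) (Sum.inl o) (-1)
    rw [MonoidHom.comp_apply] at a1 a2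
    rw [a1, a2, hhh, hhh]
    rfl
  rw [h4] at h1
  exact spin_ne_one (two_ne_zero_K a b h2)
    (fun e => hop (Fin.castSucc_injective m e).symm) h1

theorem zT_eq_one_of_two (h2 : (2 : F) = 0) : zT m a b hm o p hop = 1 := by
  unfold zT
  rw [zD_eq]
  have hneg : (-1 : F) = 1 := by
    have : (1 : F) + 1 = 0 := by rw [one_add_one_eq_two]; exact h2
    exact neg_eq_of_add_eq_zero_left this
  have hh1 : ∀ k l : Fin m ⊕ Fin m, (sD m F).hh k l (-1) = 1 := by
    intro k l
    unfold DData.hh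
    nth_rewrite 1 [hneg]
    exact (sD m F).w_one_mul_neg k l
  rw [hh1, hh1, inv_one, mul_one, map_one]

end fold

end Cfsg.Agent.Lib.Helper3.TS
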