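import Cfsg.Agent.Lib.Helper3.TS4

/-!
# The fold intertwines the natural representations
-/

set_option linter.unusedSectionVars false
set_option linter.unusedVariables false
set_option linter.unusedSimpArgs false

namespace Cfsg.Agent.Lib.Helper3.TS

open Matrix Cfsg.Agent.Lib.Helper2 Cfsg.Agent.Lib.Helper2.LongRoot Cfsg.Agent.Lib.Helper3.DN
  Cfsg.Agent.H9Sieg Cfsg.Agent.Lib.Helper5.OBN Cfsg.Agent.Lib.Helper3.BN
  Cfsg.Agent.Lib.Helper3.BQ Cfsg.Agent.Lib.Helper3.TN Cfsg.Agent.Lib.Helper3.TW
  Cfsg.Agent.Lib.Carve.F1 Cfsg.Agent.Lib.Helper5.QuadGlue Cfsg.Agent.Lib.Helper3.TQ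
  Cfsg.Agent.Lib.Helper3.DS Cfsg.Agent.Lib.Helper3.StU Cfsg.Agent.Lib.Helper3.BS
  Cfsg.Agent.Lib.Carve.K1 Cfsg.Agent.Lib.Helper5.Stb

universe u

section inter
variable {F : Type u} [Field F] [Fintype F] (m : ℕ) (a b : F) [Fact (Aniso a b)]

/-- the extra index -/
abbrev oI (m : ℕ) : Fin (m + 1) ⊕ Fin (m + 1) := Sum.inl (Fin.last m)

/-- the natural module of the orthogonal group of plus type over the quadratic extension -/
abbrev VK : Type u := Fin (m + 1) ⊕ Fin (m + 1) → QExt F a b

/-- the map intertwining the natural representations -/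
noncomputable def interP (x : Mod (Fin m ⊕ Fin m) F (QExt F a b)) : VK m a b :=
  (∑ k : Fin m ⊕ Fin m, algebraMap F (QExt F a b) (x.1 k) • (ev (embF m k) : VK m a b)) +
    (tw (a := a) (b := b)).σ x.2 • (ev (oI m) : VK m a b) +
    x.2 • (ev (Sum.swap (oI m)) : VK m a b)

theorem interP_add (x y : Mod (Fin m ⊕ Fin m) F (QExt F a b)) :
    interP m a b (x + y) = interP m a b x + interP m a b y := by
  unfold interP
  simp only [Prod.fst_add, Prod.snd_add, Pi.add_apply, map_add, add_smul,
    Finset.sum_add_distrib]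
  abel

theorem interP_zero : interP m a b 0 = 0 := by
  unfold interP
  simp

theorem interP_neg (x : Mod (Fin m ⊕ Fin m) F (QExt F a b)) :
    interP m a b (-x) = -interP m a b x := by
  have h := interP_add m a b x (-x)
  rw [add_neg_cancel, interP_zero] at h
  exact (neg_eq_of_add_eq_zero_right h.symm).symm

theorem interP_sub (x y : Mod (Fin m ⊕ Fin m) F (QExt F a b)) :
    interP m a b (x - y) = interP m a b x - interP m a b y := by
  rw [sub_eq_add_neg, interP_add, interP_neg, sub_eq_add_neg]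

theorem interP_smul_eJ (c : F) (k : Fin m ⊕ Fin m) :
    interP m a b (c • (eJ k : Mod (Fin m ⊕ Fin m) F (QExt F a b))) =
      algebraMap F (QExt F a b) c • (ev (embF m k) : VK m a b) := by
  unfold interP
  simp only [Prod.smul_fst, Prod.smul_snd, eJ_fst, eJ_snd, smul_zero, map_zero, zero_smul,
    add_zero, Pi.smul_apply, smul_eq_mul]
  rw [Finset.sum_eq_single k]
  · simp
  · intro k' _ hk'
    simp [Pi.single_apply, hk']
  · intro h; exact absurd (Finset.mem_univ k) h

theorem interP_eJ (k : Fin m ⊕ Fin m) :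
    interP m a b (eJ k : Mod (Fin m ⊕ Fin m) F (QExt F a b)) = (ev (embF m k) : VK m a b) := by
  have := interP_smul_eJ m a b 1 k
  rwa [one_smul, map_one, one_smul] at this

theorem interP_eW (w : QExt F a b) :
    interP m a b (eW w : Mod (Fin m ⊕ Fin m) F (QExt F a b)) =
      (tw (a := a) (b := b)).σ w • (ev (oI m) : VK m a b) +
        w • (ev (Sum.swap (oI m)) : VK m a b) := by
  unfold interP
  simp

theorem interP_emb (x : Mod (Fin m ⊕ Fin m) F (QExt F a b)) (l : Fin m ⊕ Fin m) :
    interP m a b x (embF m l) = algebraMap F (QExt F a b) (x.1 l) := by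
  unfold interP
  simp only [Pi.add_apply, Finset.sum_apply, Pi.smul_apply, smul_eq_mul, Pi.single_apply,
    embF_ne_o, embF_ne_o', if_false, mul_zero, add_zero]
  rw [Finset.sum_eq_single l]
  · simp
  · intro k _ hk
    have : embF m l ≠ embF m k := fun h => hk (embF_inj h).symm
    simp [this]
  · intro h; exact absurd (Finset.mem_univ l) h

theorem interP_o (x : Mod (Fin m ⊕ Fin m) F (QExt F a b)) :
    interP m a b x (oI m) = (tw (a := a) (b := b)).σ x.2 := by
  unfold interP
  have h1 : ∀ k, oI m ≠ embF m k := fun k => (embF_ne_o k).symm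
  simp [Finset.sum_apply, Pi.single_apply, h1]

theorem interP_no (x : Mod (Fin m ⊕ Fin m) F (QExt F a b)) :
    interP m a b x (Sum.swap (oI m)) = x.2 := by
  unfold interP
  have h1 : ∀ k, (Sum.inr (Fin.last m) : Fin (m + 1) ⊕ Fin (m + 1)) ≠ embF m k :=
    fun k => (embF_ne_o' k).symm
  simp [Finset.sum_apply, Pi.single_apply, h1]

end inter

section main
variable {F : Type u} [Field F] [Fintype F] (m : ℕ) (a b : F) [Fact (Aniso a b)]

noncomputable instance instFintypeQExt : Fintype (QExt F a b) := Fintype.ofFinite _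

/-- the intertwining property -/
def Inter (g : StM m a b) : Prop :=
  ∀ v : Mod (Fin m ⊕ Fin m) F (QExt F a b),
    phiD (m + 1) (QExt F a b) (foldHomT m a b g) *ᵥ interP m a b v =
      interP m a b (phiT m a b g v)

theorem inter_one : Inter m a b 1 := by
  intro v
  rw [map_one, map_one, map_one, Matrix.one_mulVec]
  rfl

theorem inter_mul {g h : StM m a b} (hg : Inter m a b g) (hh : Inter m a b h) :
    Inter m a b (g * h) := by
  intro v
  rw [map_mul, map_mul, ← Matrix.mulVec_mulVec, hh v, hg, map_mul]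
  rfl

theorem inter_inv {g : StM m a b} (hg : Inter m a b g) : Inter m a b g⁻¹ := by
  intro v
  have h1 := hg (phiT m a b g⁻¹ v)
  have h2 : phiT m a b g (phiT m a b g⁻¹ v) = v := by
    rw [← Module.End.mul_apply, ← map_mul, mul_inv_cancel, map_one]
    rfl
  rw [h2] at h1
  rw [← h1, Matrix.mulVec_mulVec, ← map_mul, ← map_mul, inv_mul_cancel, map_one, map_one,
    Matrix.one_mulVec]

theorem tX_self (k : Fin m ⊕ Fin m) (t : F) : (tX k k t : StM m a b) = 1 := by
  rw [← stdT_y Sum.swap_swap swap_ne]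
  exact (stdT Sum.swap_swap swap_ne).D.y_self k t

theorem tX_opp (k : Fin m ⊕ Fin m) (t : F) : (tX k (Sum.swap k) t : StM m a b) = 1 := by
  rw [← stdT_y Sum.swap_swap swap_ne]
  exact (stdT Sum.swap_swap swap_ne).D.y_opp k t

theorem inter_tX (k l : Fin m ⊕ Fin m) (t : F) : Inter m a b (tX k l t) := by
  by_cases hkl : k = l
  · subst hkl
    rw [tX_self]
    exact inter_one m a b
  by_cases hkl' : l = Sum.swap k
  · subst hkl'
    rw [tX_opp]
    exact inter_one m a b
  intro v
  rw [foldHomT_tX]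
  have h1 : embF m k ≠ embF m l := fun h => hkl (embF_inj h)
  have h2 : embF m l ≠ Sum.swap (embF m k) := by
    rw [← embF_swap]
    exact fun h => hkl' (embF_inj h)
  rw [phiD_rep (embF m k) (embF m l) _ h1 h2]
  have h3 := (phiT_rep m a b).long k l t hkl hkl' v
  rw [stdT_y] at h3
  rw [h3, interP_sub, interP_add, interP_smul_eJ, interP_smul_eJ, interP_emb, ← embF_swap,
    interP_emb, map_mul, map_mul, embF_swap]

theorem inter_tY (k : Fin m ⊕ Fin m) (w : QExt F a b) : Inter m a b (tY k w) := by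
  intro v
  rw [foldHomT_tY, map_mul, ← Matrix.mulVec_mulVec]
  have ho1 : embF m k ≠ oI m := embF_ne_o k
  have ho2 : embF m k ≠ Sum.swap (oI m) := embF_ne_o' k
  have ho3 : Sum.swap (oI m) ≠ Sum.swap (embF m k) := fun h => ho1 (by have := congrArg Sum.swap h; rwa [Sum.swap_swap, Sum.swap_swap, eq_comm] at this)
  have ho4 : oI m ≠ Sum.swap (embF m k) := fun h => ho2 (by rw [h, Sum.swap_swap])
  have hk : embF m k ≠ Sum.swap (embF m k) := (swap_ne _).symm
  have hx1 : interP m a b v (Sum.swap (oI m)) = v.2 := interP_no m a b v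
  have hx2 : interP m a b v (Sum.swap (embF m k)) =
      algebraMap F (QExt F a b) (v.1 (Sum.swap k)) := by
    rw [← embF_swap, interP_emb]
  have hx3 : interP m a b v (oI m) = (tw (a := a) (b := b)).σ v.2 := interP_o m a b v
  rw [phiD_rep (embF m k) (Sum.swap (oI m)) _ ho2 ho3, hx1, hx2, Sum.swap_swap]
  rw [phiD_rep (embF m k) (oI m) _ ho1 ho4]
  have hy1 : (interP m a b v +
      ((tw (a := a) (b := b)).σ w * v.2) • (ev (embF m k) : VK m a b) -
      ((tw (a := a) (b := b)).σ w * algebraMap F (QExt F a b) (v.1 (Sum.swap k))) •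
        (ev (oI m) : VK m a b)) (oI m) =
      (tw (a := a) (b := b)).σ v.2 -
        (tw (a := a) (b := b)).σ w * algebraMap F (QExt F a b) (v.1 (Sum.swap k)) := by
    simp only [Pi.add_apply, Pi.sub_apply, Pi.smul_apply, smul_eq_mul, hx3, Pi.single_apply,
      if_neg ho1.symm, if_true, mul_zero, add_zero, mul_one]
  have hy2 : (interP m a b v +
      ((tw (a := a) (b := b)).σ w * v.2) • (ev (embF m k) : VK m a b) -
      ((tw (a := a) (b := b)).σ w * algebraMap F (QExt F a b) (v.1 (Sum.swap k))) •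
        (ev (oI m) : VK m a b)) (Sum.swap (embF m k)) =
      algebraMap F (QExt F a b) (v.1 (Sum.swap k)) := by
    simp only [Pi.add_apply, Pi.sub_apply, Pi.smul_apply, smul_eq_mul, hx2, Pi.single_apply,
      if_neg hk.symm, if_neg ho4.symm, mul_zero, add_zero, sub_zero]
  rw [hy1, hy2]
  have h3 := (phiT_rep m a b).short k w v
  rw [stdT_Y] at h3
  rw [h3, interP_sub, interP_add, interP_smul_eJ, interP_eW, map_sub, map_mul]
  have hP : algebraMap F (QExt F a b) ((tw (a := a) (b := b)).P v.2 w) =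
      v.2 * (tw (a := a) (b := b)).σ w + (tw (a := a) (b := b)).σ v.2 * w := by
    unfold Tw.P
    rw [(tw (a := a) (b := b)).hT, map_mul, (tw (a := a) (b := b)).σσ]
  rw [hP, (tw (a := a) (b := b)).hN, (tw (a := a) (b := b)).σ_smul,
    Algebra.smul_def (v.1 (Sum.swap k)) w,
    Algebra.smul_def (v.1 (Sum.swap k)) ((tw (a := a) (b := b)).σ w)]
  module

theorem inter_all (g : StM m a b) : Inter m a b g := by
  have hs : g ∈ Subgroup.closure ({g : StM m a b | ∃ k l t, g = (sT m a b).D.y k l t} ∪
      {g | ∃ k t, g = (sT m a b).Y k t}) := by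
    rw [show Subgroup.closure ({g : StM m a b | ∃ k l t, g = (sT m a b).D.y k l t} ∪
      {g | ∃ k t, g = (sT m a b).Y k t}) = ⊤ from sT_gen m a b]
    trivial
  induction hs using Subgroup.closure_induction with
  | mem y hy =>
    rcases hy with ⟨k, l, t, rfl⟩ | ⟨k, t, rfl⟩
    · rw [stdT_y]
      exact inter_tX m a b k l t
    · rw [stdT_Y]
      exact inter_tY m a b k t
  | one => exact inter_one m a b
  | mul x y _ _ hx hy => exact inter_mul m a b hx hy
  | inv x _ hx => exact inter_inv m a b hx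

theorem embF_cases (l : Fin (m + 1) ⊕ Fin (m + 1)) :
    (∃ k, l = embF m k) ∨ l = oI m ∨ l = Sum.swap (oI m) := by
  rcases l with i | i
  · rcases Fin.eq_castSucc_or_eq_last i with ⟨j, rfl⟩ | rfl
    · exact Or.inl ⟨Sum.inl j, rfl⟩
    · exact Or.inr (Or.inl rfl)
  · rcases Fin.eq_castSucc_or_eq_last i with ⟨j, rfl⟩ | rfl
    · exact Or.inl ⟨Sum.inr j, rfl⟩
    · exact Or.inr (Or.inr rfl)

theorem phiD_foldHom_neg (g : StM m a b) (hg : phiT m a b g = -1) :
    phiD (m + 1) (QExt F a b) (foldHomT m a b g) = -1 := by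
  set M := phiD (m + 1) (QExt F a b) (foldHomT m a b g) with hM
  have hW : ∀ v, M *ᵥ interP m a b v = -interP m a b v := by
    intro v
    rw [hM, inter_all m a b g v, hg]
    show interP m a b (-v) = _
    rw [interP_neg]
  have hδ : (tw (a := a) (b := b)).σ (tw (a := a) (b := b)).δ ≠ (tw (a := a) (b := b)).δ :=
    (tw (a := a) (b := b)).hδ
  have hev : ∀ l, M *ᵥ (ev l : VK m a b) = -(ev l : VK m a b) := by
    intro l
    rcases embF_cases m l with ⟨k, rfl⟩ | rfl | rfl
    · rw [← interP_eJ m a b k]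
      exact hW _
    · have hc : (tw (a := a) (b := b)).δ - (tw (a := a) (b := b)).σ (tw (a := a) (b := b)).δ ≠ 0 :=
        sub_ne_zero.2 (Ne.symm hδ)
      have h1 : ((tw (a := a) (b := b)).δ - (tw (a := a) (b := b)).σ (tw (a := a) (b := b)).δ) •
          (ev (oI m) : VK m a b) =
          (tw (a := a) (b := b)).δ • interP m a b (eW 1) -
            interP m a b (eW (tw (a := a) (b := b)).δ) := by
        rw [interP_eW, interP_eW, map_one]
        module
      have h2 : M *ᵥ (((tw (a := a) (b := b)).δ -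
          (tw (a := a) (b := b)).σ (tw (a := a) (b := b)).δ) • (ev (oI m) : VK m a b)) =
          -(((tw (a := a) (b := b)).δ -
          (tw (a := a) (b := b)).σ (tw (a := a) (b := b)).δ) • (ev (oI m) : VK m a b)) := by
        rw [h1, Matrix.mulVec_sub, Matrix.mulVec_smul, hW, hW]
        module
      rw [Matrix.mulVec_smul, ← smul_neg] at h2
      exact smul_right_injective _ hc h2
    · have hc : (tw (a := a) (b := b)).σ (tw (a := a) (b := b)).δ - (tw (a := a) (b := b)).δ ≠ 0 :=
        sub_ne_zero.2 hδ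
      have h1 : ((tw (a := a) (b := b)).σ (tw (a := a) (b := b)).δ - (tw (a := a) (b := b)).δ) •
          (ev (Sum.swap (oI m)) : VK m a b) =
          (tw (a := a) (b := b)).σ (tw (a := a) (b := b)).δ • interP m a b (eW 1) -
            interP m a b (eW (tw (a := a) (b := b)).δ) := by
        rw [interP_eW, interP_eW, map_one]
        module
      have h2 : M *ᵥ (((tw (a := a) (b := b)).σ (tw (a := a) (b := b)).δ -
          (tw (a := a) (b := b)).δ) • (ev (Sum.swap (oI m)) : VK m a b)) =
          -(((tw (a := a) (b := b)).σ (tw (a := a) (b := b)).δ -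
          (tw (a := a) (b := b)).δ) • (ev (Sum.swap (oI m)) : VK m a b)) := by
        rw [h1, Matrix.mulVec_sub, Matrix.mulVec_smul, hW, hW]
        module
      rw [Matrix.mulVec_smul, ← smul_neg] at h2
      exact smul_right_injective _ hc h2
  have h3 : -M = 1 := by
    apply mat_eq_one_of_fix
    intro l
    rw [Matrix.neg_mulVec, hev, neg_neg]
  rw [← h3, neg_neg]

end main

end Cfsg.Agent.Lib.Helper3.TS
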