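import Cfsg.Agent.Lib.Helper3.TS5
import Cfsg.Agent.Lib.Helper2.CarveW1c

/-!
# The kernel of the natural representation of the twisted Steinberg group
-/

set_option linter.unusedSectionVars false
set_option linter.unusedVariables false
set_option linter.unusedSimpArgs false

namespace Cfsg.Agent.Lib.Helper3.TS

open Matrix Cfsg.Agent.Lib.Helper2 Cfsg.Agent.Lib.Helper2.LongRoot Cfsg.Agent.Lib.Helper3.DN
  Cfsg.Agent.H9Sieg Cfsg.Agent.Lib.Helper5.OBN Cfsg.Agent.Lib.Helper3.BN
  Cfsg.Agent.Lib.Helper3.BQ Cfsg.Agent.Lib.Helper3.TN Cfsg.Agent.Lib.Helper3.TW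
  Cfsg.Agent.Lib.Carve.F1 Cfsg.Agent.Lib.Helper5.QuadGlue Cfsg.Agent.Lib.Helper3.TQ
  Cfsg.Agent.Lib.Helper3.DS Cfsg.Agent.Lib.Helper3.StU Cfsg.Agent.Lib.Helper3.BS
  Cfsg.Agent.Lib.Carve.K1 Cfsg.Agent.Lib.Helper5.Stb Cfsg.Agent.Lib.Carve.W1

universe u

section reindexLong
variable {J K K' G : Type*} [Field K] [Field K'] [Algebra K K'] [Group G] {ν : J → J}
  {τ : Tw K K'}

theorem longSubT_reindex_le {J' : Type*} {ν' : J' → J'} (B : TData J K K' G ν τ) (e : J' ≃ J)
    (he : ∀ k, e (ν' k) = ν (e k)) : longSubT (B.reindex e he) ≤ longSubT B := by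
  unfold longSubT
  rw [Subgroup.closure_le]
  rintro g ⟨k, l, t, rfl⟩
  exact Subgroup.subset_closure ⟨e k, e l, t, rfl⟩

/-- the kernel of the natural representation lies in the long root subgroup (index set in
bijection with `Fin (n + n)`) -/
theorem kerT_longSub_of_equiv [DecidableEq J] [Finite K'] {n : ℕ} (B : TData J K K' G ν τ)
    (e : Fin (n + n) ≃ J) (he : ∀ k, e (Fin.rev k) = ν (e k)) (hn : 3 ≤ n) (hgen : B.Gen)
    (φ : G →* Module.End K (Mod J K K')) (hφ : IsRepT B φ) (g : G) (hg : φ g = 1) :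
    g ∈ longSubT B := by
  apply longSubT_reindex_le B e he
  exact kerT_mem_longSub (B.reindex e he) hn (isRepT_reindex B e he hφ)
    (fun g' hg' => (B.reindex e he).ker_centralT (isRepT_reindex B e he hφ) hn
      (B.reindex_gen e he hgen) g' hg') g (repReindex_eq_one e φ hg)

end reindexLong

section kernel
variable {F : Type u} [Field F] [Fintype F] (m : ℕ) (a b : F) [Fact (Aniso a b)]

theorem longSubT_le_range :
    longSubT (sT m a b) ≤
      (jT : StD (Fin m ⊕ Fin m) F Sum.swap →* StM m a b).range := by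
  unfold longSubT
  rw [Subgroup.closure_le]
  rintro g ⟨k, l, t, rfl⟩
  exact ⟨sy k l t, by rw [jT_sy, stdT_y]⟩

/-- the natural representation of the Steinberg group of type `D`, extended by the identity -/
noncomputable def psiT : StD (Fin m ⊕ Fin m) F Sum.swap →*
    Module.End F (Mod (Fin m ⊕ Fin m) F (QExt F a b)) where
  toFun n := LinearMap.prodMap (Matrix.toLin' (phiD m F n)) LinearMap.id
  map_one' := by
    rw [map_one, Matrix.toLin'_one]
    exact LinearMap.prodMap_id
  map_mul' x y := by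
    rw [map_mul, Matrix.toLin'_mul]
    apply LinearMap.ext
    intro v
    rfl

theorem psiT_apply (n : StD (Fin m ⊕ Fin m) F Sum.swap)
    (v : Mod (Fin m ⊕ Fin m) F (QExt F a b)) :
    psiT m a b n v = (phiD m F n *ᵥ v.1, v.2) := rfl

theorem phiT_jT_sy (k l : Fin m ⊕ Fin m) (t : F) :
    phiT m a b (jT (sy k l t)) = psiT m a b (sy k l t) := by
  rw [jT_sy]
  by_cases hkl : k = l
  · subst hkl
    rw [tX_self, sy_self, map_one, map_one]
  by_cases hkl' : l = Sum.swap k
  · subst hkl'
    rw [tX_opp, sy_opp, map_one, map_one]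
  apply LinearMap.ext
  intro v
  have h3 := (phiT_rep m a b).long k l t hkl hkl' v
  rw [stdT_y] at h3
  rw [h3, psiT_apply]
  have hD : phiD m F (sy k l t) *ᵥ v.1 = _ := phiD_rep k l t hkl hkl' v.1
  rw [hD]
  apply Prod.ext
  · simp [TN.eJ, ev]
  · simp [TN.eJ]

theorem phiT_jT (n : StD (Fin m ⊕ Fin m) F Sum.swap) :
    phiT m a b (jT n) = psiT m a b n := by
  have hn : n ∈ Subgroup.closure {g | ∃ k l t, g = (sD m F).y k l t} := by
    rw [show Subgroup.closure {g | ∃ k l t, g = (sD m F).y k l t} = ⊤ from sD_gen]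
    trivial
  induction hn using Subgroup.closure_induction with
  | mem y hy =>
    obtain ⟨k, l, t, rfl⟩ := hy
    exact phiT_jT_sy m a b k l t
  | one => rw [map_one, map_one, map_one]
  | mul x y _ _ hx hy => rw [map_mul, map_mul, map_mul, hx, hy]
  | inv x _ hx =>
    have e1 : phiT m a b (jT x⁻¹) * phiT m a b (jT x) = 1 := by
      rw [← map_mul, ← map_mul, inv_mul_cancel, map_one, map_one]
    have e2 : phiT m a b (jT x) * psiT m a b x⁻¹ = 1 := by
      rw [hx, ← map_mul, mul_inv_cancel, map_one]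
    exact left_inv_eq_right_inv e1 e2

variable (hm : 3 ≤ m) (o p : Fin m) (hop : o ≠ p)

theorem phiT_zT : phiT m a b (zT m a b hm o p hop) = 1 := by
  unfold zT
  rw [phiT_jT]
  apply LinearMap.ext
  intro v
  rw [psiT_apply, phiD_zD, Matrix.one_mulVec]
  rfl

theorem phiT_ker (g : StM m a b) (hg : phiT m a b g = 1) :
    g = 1 ∨ g = zT m a b hm o p hop := by
  have h1 := kerT_longSub_of_equiv (sT m a b) (eD m) (eD_rev m) hm (sT_gen m a b) (phiT m a b)
    (phiT_rep m a b) g hg
  obtain ⟨n, rfl⟩ := longSubT_le_range m a b h1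
  rw [phiT_jT] at hg
  have h2 : phiD m F n = 1 := by
    apply mat_eq_one_of_fix
    intro l
    have := congrArg (fun f : Module.End F (Mod (Fin m ⊕ Fin m) F (QExt F a b)) =>
      (f (ev l, 0)).1) hg
    simp only [psiT_apply, Module.End.one_apply] at this
    exact this
  rcases phiD_ker hm o p hop n h2 with h | h
  · left; rw [h, map_one]
  · right; rw [h]; rfl

end kernel

end Cfsg.Agent.Lib.Helper3.TS
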