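import Cfsg.Agent.Lib.Helper3.TS6
import Cfsg.Agent.Lib.Helper3.BS6
import Cfsg.Agent.Lib.Helper3.TL6
import Cfsg.Agent.Lib.Helper5.CarveC1
import Cfsg.Agent.Lib.Helper9.CarveD1

/-!
# The Schur multiplier of `PΩ⁻_{2m+2}(q)`
-/

set_option linter.unusedSectionVars false
set_option linter.unusedVariables false
set_option linter.unusedSimpArgs false

namespace Cfsg.Agent.Lib.Helper3.TS

open Matrix Cfsg.Agent.Lib.Helper2 Cfsg.Agent.Lib.Helper2.LongRoot Cfsg.Agent.Lib.Helper3.DN
  Cfsg.Agent.H9Sieg Cfsg.Agent.Lib.Helper5.OBN Cfsg.Agent.Lib.Helper3.BN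
  Cfsg.Agent.Lib.Helper3.BQ Cfsg.Agent.Lib.Helper3.TN Cfsg.Agent.Lib.Helper3.TW
  Cfsg.Agent.Lib.Carve.F1 Cfsg.Agent.Lib.Helper5.QuadGlue Cfsg.Agent.Lib.Helper3.TQ
  Cfsg.Agent.Lib.Helper3.DS Cfsg.Agent.Lib.Helper3.StU Cfsg.Agent.Lib.Helper3.BS
  Cfsg.Agent.Lib.Carve.K1 Cfsg.Agent.Lib.Helper5.Stb

universe u

section final
variable {F : Type u} [Field F] [Fintype F] (m : ℕ) (a b : F) [Fact (Aniso a b)]

theorem mat_of_phiT_neg (g : StM m a b) (hg : phiT m a b g = -1) :
    mat (thetaT0 m a b g) = -1 := by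
  apply Cfsg.Agent.H9SLRoot.ext_mulVec
  intro v
  rw [mulVec_of_phiT m a b g (-1) (by rw [hg]; apply LinearMap.ext; intro x; simp),
    Matrix.neg_mulVec, Matrix.one_mulVec, neg_smul, one_smul]

theorem phiT_of_mat_neg (g : StM m a b) (hg : mat (thetaT0 m a b g) = -1) :
    phiT m a b g = -1 := by
  apply LinearMap.ext
  intro x
  apply (modEquiv m a b).injective
  rw [phiT_apply, repMinus_apply, hg, Matrix.neg_mulVec, Matrix.one_mulVec]
  simp

theorem neg_one_end_eq_one (h2 : (2 : F) = 0) :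
    (-1 : Module.End F (Mod (Fin m ⊕ Fin m) F (QExt F a b))) = 1 := by
  have hneg : (-1 : F) = 1 := by
    have : (1 : F) + 1 = 0 := by rw [one_add_one_eq_two]; exact h2
    exact neg_eq_of_add_eq_zero_left this
  apply LinearMap.ext
  intro x
  have : (-1 : F) • x = x := by rw [hneg, one_smul]
  simpa using this

theorem neg_one_sq_end :
    (-1 : Module.End F (Mod (Fin m ⊕ Fin m) F (QExt F a b))) * (-1) = 1 := by
  apply LinearMap.ext
  intro x
  rw [Module.End.mul_apply, LinearMap.neg_apply, Module.End.one_apply, LinearMap.neg_apply,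
    Module.End.one_apply, neg_neg]

variable (hm : 3 ≤ m)

theorem thetaT_ker_card_one (h2 : (2 : F) = 0) :
    IsCyclic ↥(thetaT m a b hm).ker ∧ Nat.card ↥(thetaT m a b hm).ker = 1 := by
  obtain ⟨o, p, hop⟩ : ∃ o p : Fin m, o ≠ p :=
    ⟨⟨0, by omega⟩, ⟨1, by omega⟩, by simp [Fin.ext_iff]⟩
  have hbot : (thetaT m a b hm).ker = ⊥ := by
    rw [eq_bot_iff]
    intro g hg
    rw [mem_thetaT_ker, neg_one_end_eq_one m a b h2, or_self] at hg
    rw [Subgroup.mem_bot]
    rcases phiT_ker m a b hm o p hop g hg with h | h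
    · exact h
    · rw [h, zT_eq_one_of_two m a b hm o p hop h2]
  rw [hbot]
  exact ⟨inferInstance, Subgroup.card_bot⟩

theorem thetaT_ker_card_two (h2 : (2 : F) ≠ 0)
    (h4 : ¬ 4 ∣ Fintype.card F ^ (m + 1) + 1) :
    IsCyclic ↥(thetaT m a b hm).ker ∧ Nat.card ↥(thetaT m a b hm).ker = 2 := by
  classical
  obtain ⟨o, p, hop⟩ : ∃ o p : Fin m, o ≠ p :=
    ⟨⟨0, by omega⟩, ⟨1, by omega⟩, by simp [Fin.ext_iff]⟩
  have hab : Aniso a b := Fact.out
  have hker : ∀ g, g ∈ (thetaT m a b hm).ker ↔ g = 1 ∨ g = zT m a b hm o p hop := by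
    intro g
    rw [mem_thetaT_ker]
    constructor
    · rintro (h | h)
      · exact phiT_ker m a b hm o p hop g h
      · exfalso
        apply h4
        have h5 := mat_of_phiT_neg m a b g h
        rw [← thetaT1_coe m a b hm] at h5
        exact (Cfsg.Agent.Lib.Carve.C1.negOne_mem_Omega_minus_iff h2 m a b hab _ h5).1
          (thetaT1 m a b hm g).2
    · rintro (h | h)
      · left; rw [h, map_one]
      · left; rw [h]; exact phiT_zT m a b hm o p hop
  have hz : zT m a b hm o p hop ∈ (thetaT m a b hm).ker := (hker _).2 (Or.inr rfl)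
  have hne := zT_ne_one m a b hm o p hop h2
  let z : ↥(thetaT m a b hm).ker := ⟨zT m a b hm o p hop, hz⟩
  have hz1 : z ≠ 1 := fun h => hne (congrArg Subtype.val h)
  have hall : ∀ x : ↥(thetaT m a b hm).ker, x = 1 ∨ x = z := by
    rintro ⟨x, hx⟩
    rcases (hker x).1 hx with h | h
    · left; exact Subtype.ext h
    · right; exact Subtype.ext h
  constructor
  · refine ⟨⟨z, fun x => ?_⟩⟩
    rcases hall x with h | h
    · rw [h]; exact (Subgroup.zpowers z).one_mem
    · rw [h]; exact Subgroup.mem_zpowers z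
  · rw [Nat.card_eq_two_iff]
    refine ⟨1, z, Ne.symm hz1, ?_⟩
    ext x
    simp only [Set.mem_insert_iff, Set.mem_singleton_iff, Set.mem_univ, iff_true]
    exact hall x

theorem thetaT_ker_card_four (h2 : (2 : F) ≠ 0)
    (h4 : 4 ∣ Fintype.card F ^ (m + 1) + 1) (hodd : Odd (m + 1)) :
    IsCyclic ↥(thetaT m a b hm).ker ∧ Nat.card ↥(thetaT m a b hm).ker = 4 := by
  classical
  obtain ⟨o, p, hop⟩ : ∃ o p : Fin m, o ≠ p :=
    ⟨⟨0, by omega⟩, ⟨1, by omega⟩, by simp [Fin.ext_iff]⟩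
  have hab : Aniso a b := Fact.out
  have hneg : Spinor.negOne (QM m F a b) ∈ commutator ↥(Cfsg.isometryGroup F ⇑(QM m F a b)) :=
    (Cfsg.Agent.Lib.Carve.C1.negOne_mem_Omega_minus_iff h2 m a b hab _
      (Spinor.negOne_coe _)).2 h4
  obtain ⟨c, hc⟩ := thetaT1_surj m a b hm ⟨Spinor.negOne (QM m F a b), hneg⟩
  have hc0 : thetaT0 m a b c = Spinor.negOne (QM m F a b) := by
    rw [← thetaT1_coe m a b hm, hc]
  have hφc : phiT m a b c = -1 := by
    apply phiT_of_mat_neg
    rw [hc0]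
    exact Spinor.negOne_coe _
  have hne := zT_ne_one m a b hm o p hop h2
  have hφz := phiT_zT m a b hm o p hop
  have hc2 : c * c = zT m a b hm o p hop := by
    have h1 : phiT m a b (c * c) = 1 := by rw [map_mul, hφc]; exact neg_one_sq_end m a b
    rcases phiT_ker m a b hm o p hop (c * c) h1 with h | h
    · exfalso
      have h5 := Cfsg.Agent.Lib.Carve.D1.sq_ne_one_of_phiD_neg (by omega : 4 ≤ m + 1) hodd
        (two_ne_zero_K a b h2) (foldHomT m a b c) (phiD_foldHom_neg m a b c hφc)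
      apply h5
      rw [← map_mul, h, map_one]
    · exact h
  have hz2 : zT m a b hm o p hop * zT m a b hm o p hop = 1 := by
    have h1 : phiT m a b (zT m a b hm o p hop * zT m a b hm o p hop) = 1 := by
      rw [map_mul, hφz, one_mul]
    rcases phiT_ker m a b hm o p hop _ h1 with h | h
    · exact h
    · exfalso
      apply hne
      have := congrArg (fun x => (zT m a b hm o p hop)⁻¹ * x) h
      simpa using this
  have hker : (thetaT m a b hm).ker = Subgroup.zpowers c := by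
    ext g
    rw [mem_thetaT_ker]
    constructor
    · rintro (h | h)
      · rcases phiT_ker m a b hm o p hop g h with h' | h'
        · rw [h']; exact one_mem _
        · rw [h', ← hc2]
          exact mul_mem (Subgroup.mem_zpowers c) (Subgroup.mem_zpowers c)
      · have h1 : phiT m a b (g * c) = 1 := by rw [map_mul, h, hφc]; exact neg_one_sq_end m a b
        rcases phiT_ker m a b hm o p hop _ h1 with h' | h'
        · have : g = c⁻¹ := eq_inv_of_mul_eq_one_left h'
          rw [this]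
          exact inv_mem (Subgroup.mem_zpowers c)
        · have : g = c := by
            rw [← hc2] at h'
            exact mul_right_cancel h'
          rw [this]
          exact Subgroup.mem_zpowers c
    · intro hg
      obtain ⟨k, rfl⟩ := Subgroup.mem_zpowers_iff.1 hg
      have hcm : c ∈ (thetaT m a b hm).ker := (mem_thetaT_ker m a b hm c).2 (Or.inr hφc)
      exact (mem_thetaT_ker m a b hm _).1 (zpow_mem hcm k)
  have hord : orderOf c = 4 := by
    have : Fact (Nat.Prime 2) := ⟨Nat.prime_two⟩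
    have h1 : ¬ c ^ 2 ^ 1 = 1 := by
      rw [pow_one, pow_two, hc2]
      exact hne
    have h3 : c ^ 2 ^ (1 + 1) = 1 := by
      have e : (2 : ℕ) ^ (1 + 1) = 4 := by norm_num
      have : c ^ 2 ^ (1 + 1) = (c * c) * (c * c) := by
        rw [e, show (4 : ℕ) = 2 + 2 from rfl, pow_add, pow_two]
      rw [this, hc2, hz2]
    have h5 := orderOf_eq_prime_pow h1 h3
    norm_num at h5
    exact h5
  rw [hker]
  exact ⟨inferInstance, by rw [Nat.card_zpowers, hord]⟩

theorem exists_torus_scalar_K : ∃ μ : QExt F a b, μ ≠ 0 ∧ μ ^ 2 ≠ 1 := by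
  apply exists_torus_scalar
  rw [← Nat.card_eq_fintype_card, natCard_eq, Nat.card_eq_fintype_card]
  have h1 : 1 < Fintype.card F := Fintype.one_lt_card
  nlinarith

/-- the Schur multiplier of `PΩ⁻_{2m+2}(q)` -/
theorem multiplier_minus (n : ℕ) (hn : n ≠ 0)
    (hk : IsCyclic ↥(thetaT m a b hm).ker ∧ Nat.card ↥(thetaT m a b hm).ker = n) :
    Cfsg.HasCyclicSchurMultiplier
      (↥(Cfsg.Omega F ⇑(QM m F a b)) ⧸ Subgroup.center ↥(Cfsg.Omega F ⇑(QM m F a b))) n := by
  obtain ⟨hcyc, hcard⟩ := hk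
  have : Finite ↥(thetaT m a b hm).ker := by
    apply Nat.finite_of_card_ne_zero
    rw [hcard]; exact hn
  have : Finite (StM m a b) := StS.finite_of_ker_finite (thetaT m a b hm)
  obtain ⟨μ, hμ, hμ2⟩ := exists_torus_scalar_K (F := F) a b
  refine StS.hasCyclicSchurMultiplier_of_cover (thetaT m a b hm) (thetaT_surj m a b hm)
    (thetaT_ker_le m a b hm) (sT_perfect m a b hm) _ hcyc hcard ?_
  intro Γ _ _ σ hσ
  obtain ⟨τ, hτ, -⟩ := existsUnique_lift (sT_perfect (F := F) m a b hm)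
    (fun E' _ ψ' hs hc =>
      Cfsg.Agent.Lib.Helper3.TL.stT_split Sum.swap_swap swap_ne (hc_sum hm) μ hμ hμ2 ψ' hs hc)
    σ hσ.1 hσ.2.1 (thetaT m a b hm)
  exact ⟨τ, hτ⟩

end final

end Cfsg.Agent.Lib.Helper3.TS
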