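import Mathlib
import Cfsg.Prelude.Def_ChevStructure
import Cfsg.Prelude.Def_KGroupFacts
import Cfsg.Agent.Lib.Helper3.TwAut11
import Cfsg.Agent.Lib.Helper3.ChevAut17
set_option autoImplicit false
set_option linter.unusedSectionVars false
set_option linter.style.haveILetI false
open Cfsg Cfsg.Lie

/-!
Automorphisms of twisted groups, general case, part 1: the hypotheses (the opposition may permute the roots of a
class; the classes are distinguished by their lengths and their joins); commutation of the root subgroups of the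
negatives of the classes.
-/

namespace Cfsg.Agent.Lib.Helper3.TwAut

open Cfsg.Agent.Lib.Helper3.ChevM Cfsg.Agent.Lib.Helper3.ChevSp Cfsg.Agent.Lib.Helper3 ChevU ChevT ChevH
open Cfsg.Agent.Lib.Helper3.ChevAt Cfsg.Agent.Lib.Helper3.ChevAut Cfsg.Agent.Lib.Helper1

/-- The table checks for the automorphisms of a twisted group, general case. -/
structure TwAutHypG (C : CDatum) (R : RelData C) extends TwHyp7 C R where
  hd2 : 2 ≤ d
  oppN : ℕ → ℕ
  hoppN : ∀ i < C.D.rank, reflW R.refl w0.flatten (C.D.neg (C.D.simple i)) = C.D.simple (oppN i)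
  hoppJ : ∀ J ∈ cls, (J.map oppN).Perm J
  V : VecHyp C
  hVvec : V.vec = vec
  adj : ℕ → ℕ → Bool
  hnadj : ∀ k < cls.length, ∀ k' < cls.length, adj k k' = false →
    ∀ i ∈ cls.getD k [], ∀ j ∈ cls.getD k' [],
      commEmptyCheck C.D (C.D.neg (C.D.simple i)) (C.D.neg (C.D.simple j)) = true
  adjW : ℕ → ℕ → ℕ × ℕ × ℕ × ℤ
  hadj : ∀ k < cls.length, ∀ k' < cls.length, adj k k' = true →
    (adjW k k').1 ∈ cls.getD k [] ∧ (adjW k k').2.1 ∈ cls.getD k' [] ∧ (adjW k k').2.1 ∉ cls.getD k [] ∧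
    C.D.neg (C.D.simple (adjW k k').2.1) ≠ C.D.neg (C.D.simple (adjW k k').1) ∧
    C.D.neg (C.D.simple (adjW k k').2.1) ≠ C.D.neg (C.D.neg (C.D.simple (adjW k k').1)) ∧
    C.D.IsNegRoot (adjW k k').2.2.1 ∧ ((adjW k k').2.2.2 = 1 ∨ (adjW k k').2.2.2 = -1) ∧
    C.D.commTerms (C.D.neg (C.D.simple (adjW k k').1)) (C.D.neg (C.D.simple (adjW k k').2.1)) =
      [((adjW k k').2.2.1, (adjW k k').2.2.2, 1, 1)]
  rigid : ∀ f : Fin cls.length → Fin cls.length,
    (∀ k, (cls.getD (f k).val []).length = (cls.getD k.val []).length) →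
    (∀ k k', adj k.val k'.val = true → adj (f k).val (f k').val = true) → ∀ k, f k = k

section
variable {K : Type*} [Field K] {C : CDatum} {R : RelData C}

/-- The longest word is an involution on the negative roots. -/
theorem w0_invol_neg (H : TwHyp3 C R) (s : ℕ) (hs : C.D.IsNegRoot s) :
    reflW R.refl H.w0.flatten (reflW R.refl H.w0.flatten s) = s := by
  have h := H.opp s hs.1
  simp only [oppCheck, Bool.and_eq_true, Bool.or_eq_true, Bool.not_eq_true', decide_eq_false_iff_not,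
    decide_eq_true_eq] at h
  rcases h.2 with h1 | h1
  · exact absurd hs h1
  · exact h1.2

/-- Root elements of negative roots whose commutator formula has a single term with coefficient `±1` do not
commute. -/
theorem not_comm_single_neg (H : TwHyp3 C R) (r s k : ℕ) (c : ℤ) (hr : r < C.D.nroots) (hs : s < C.D.nroots)
    (hrs : s ≠ r) (hneg : s ≠ C.D.neg r) (hk : C.D.IsNegRoot k) (hc : c = 1 ∨ c = -1)
    (hct : C.D.commTerms r s = [(k, c, 1, 1)]) (t u : K)
    (hcomm : R.xU s u * R.xU r t = R.xU r t * R.xU s u) : t = 0 ∨ u = 0 := by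
  have h1 := H.U.K.commF (F := K) r s hr hs hrs hneg t u
  have h2 : C.D.commWord K r s t u = [(k, (c : K) * (-t) ^ 1 * u ^ 1)] := by
    unfold ChevalleyDatum.commWord; rw [hct]; rfl
  rw [h2] at h1
  have h3 : C.D.wordMat K [(k, (c : K) * (-t) ^ 1 * u ^ 1)] =
      ((R.xU k ((c : K) * (-t) ^ 1 * u ^ 1) : GL C.D.Idx K) : Matrix _ _ K) := by
    simp [ChevalleyDatum.wordMat]
  rw [h3] at h1
  have h4 : R.xU s u * R.xU r t = R.xU r t * R.xU s u * R.xU k ((c : K) * (-t) ^ 1 * u ^ 1) := by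
    apply Units.ext
    simpa [R.xU_val] using h1
  rw [hcomm] at h4
  have h5 : R.xU k ((c : K) * (-t) ^ 1 * u ^ 1) = 1 := by
    have h4' : R.xU r t * R.xU s u * 1 = R.xU r t * R.xU s u * R.xU k ((c : K) * (-t) ^ 1 * u ^ 1) := by
      rw [mul_one]; exact h4
    exact (mul_left_cancel h4').symm
  rw [← R.xU_zero k] at h5
  have h6 := xU_inj_neg (atH H.toTwHyp2) H.w0.flatten (H.toTwHyp.flatten_lt H.w0 H.w0cls) (w0_neg H) k hk _ _ h5
  have hc0 : (c : K) ≠ 0 := by
    rcases hc with rfl | rfl <;> simp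
  simp only [pow_one] at h6
  rcases mul_eq_zero.mp h6 with h7 | h7
  · rcases mul_eq_zero.mp h7 with h8 | h8
    · exact absurd h8 hc0
    · left; simpa using h8
  · right; exact h7

end

section
variable {K : Type*} [Field K] [Fintype K] {C : CDatum} {R : RelData C}

/-- Conjugation by the representative of the longest word maps the root subgroup of the negatives of a class
onto the root subgroup of the class. -/
theorem conj_w0_xJ_negG (W : TwAutHypG C R) (φ : K →+* K) (J : List ℕ) (hJ : J ∈ W.cls) :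
    ∃ (d : K) (m : ℕ), d ≠ 0 ∧ ∀ c, φ^[J.length] c = c → φ^[J.length] (d * φ^[m] c) = d * φ^[m] c ∧
      R.nCls K W.w0 * R.wordU (clsWord C.D φ J true c) * (R.nCls K W.w0)⁻¹ =
        R.wordU (clsWord C.D φ J false (d * φ^[m] c)) := by
  have H := W.toTwHyp4
  have hl0 := W.toTwHyp.flatten_lt W.w0 W.w0cls
  obtain ⟨⟨-, hn₀G⟩, -⟩ := W.toTwHyp3.w0_spec φ
  obtain ⟨d, hd⟩ := W.B.mono.conj_word_xU (F := K) W.B.dec 1 (Subgroup.one_mem _) W.w0.flatten hl0
  simp only [one_mul] at hd
  have hJlt := W.toTwHyp2.cls_lt J hJ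
  obtain ⟨a, ha⟩ := W.toTwHyp2.cls_ne_nil J hJ
  obtain ⟨a₀, L₀, hJe⟩ : ∃ a₀ L₀, J = a₀ :: L₀ := by
    cases J with
    | nil => simp at ha
    | cons x l => exact ⟨x, l, rfl⟩
  subst hJe
  have ha₀ : a₀ < C.D.rank := hJlt a₀ List.mem_cons_self
  set w : ℕ → ℕ := reflW R.refl W.w0.flatten with hw
  have hwlt : w (C.D.simple a₀) < C.D.nroots :=
    (w0_neg W.toTwHyp3 _ (simple_pos (atH W.toTwHyp2) a₀ ha₀)).1
  refine ⟨d (w (C.D.simple a₀)),
    ((a₀ :: L₀).map (sgnRoot C.D true)).idxOf (w (C.D.simple a₀)), (hd _ hwlt).1, ?_⟩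
  intro c hc
  have hnd := (twTorCheck_spec W.tor _ hJ true).1
  have hconj : R.nCls K W.w0 * R.wordU (clsWord C.D φ (a₀ :: L₀) true c) * (R.nCls K W.w0)⁻¹ =
      R.lp ((a₀ :: L₀).map fun j => C.D.simple (W.oppN j))
        (fun s => d (w s) * clsCoord C.D φ (a₀ :: L₀) true c (w s)) := by
    rw [clsWord_eq_lp (R := R) φ _ true c hnd]
    apply conj_lp_map
    intro j hj
    rw [sgnRoot_true]
    have hjl := hJlt j hj
    have hnl := R.neg_lt _ (R.simple_lt j hjl)
    have h1 := (hd _ hnl).2 (clsCoord C.D φ (a₀ :: L₀) true c (C.D.neg (C.D.simple j)))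
    have hneg : C.D.IsNegRoot (C.D.neg (C.D.simple j)) := neg_simple_neg (atH W.toTwHyp2) j hjl
    have e0 : w (C.D.neg (C.D.simple j)) = C.D.simple (W.oppN j) := W.hoppN j hjl
    have h2 : w (C.D.simple (W.oppN j)) = C.D.neg (C.D.simple j) := by
      rw [← e0]
      exact w0_invol_neg W.toTwHyp3 _ hneg
    rw [e0] at h1
    rw [h2]
    exact h1
  have hperm : ((a₀ :: L₀).map fun j => C.D.simple (W.oppN j)).Perm ((a₀ :: L₀).map C.D.simple) := by
    have := (W.hoppJ _ hJ).map C.D.simple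
    rwa [List.map_map] at this
  have hcomm := W.toTwHyp4.cls_comm_sgn (K := K) _ hJ false
  have hconj2 : R.nCls K W.w0 * R.wordU (clsWord C.D φ (a₀ :: L₀) true c) * (R.nCls K W.w0)⁻¹ =
      R.lp ((a₀ :: L₀).map C.D.simple)
        (fun s => d (w s) * clsCoord C.D φ (a₀ :: L₀) true c (w s)) := by
    rw [hconj]
    apply R.lp_perm _ _ hperm
    intro r hr s hs x y
    have hr' : r ∈ (a₀ :: L₀).map (sgnRoot C.D false) := by
      have := hperm.subset hr
      simpa [sgnRoot_false] using this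
    have hs' : s ∈ (a₀ :: L₀).map (sgnRoot C.D false) := by
      have := hperm.subset hs
      simpa [sgnRoot_false] using this
    exact hcomm r hr' s hs' x y
  have hmem : R.lp ((a₀ :: L₀).map C.D.simple)
      (fun s => d (w s) * clsCoord C.D φ (a₀ :: L₀) true c (w s)) ∈ W.grp φ := by
    rw [← hconj2]
    exact Subgroup.mul_mem _ (Subgroup.mul_mem _ hn₀G (xJ_mem_grp W.toTwHyp φ _ hJ true c hc))
      (Subgroup.inv_mem _ hn₀G)
  have hfix := (mem_fixG _ _).mp (W.toTwHyp.grp_le_fix φ hmem)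
  obtain ⟨a, L, hJe', hfixc, hlp⟩ := fix_class W.toTwHyp2 φ _ hJ _ hfix
  have haa : a = a₀ := by
    injection hJe' with h1 _
    exact h1.symm
  subst haa
  exact ⟨hfixc, by rw [hconj2, hlp]; rfl⟩

/-- The negative generators of a class are injective in the parameter. -/
theorem xJ_neg_injG (W : TwAutHypG C R) (φ : K →+* K) (J : List ℕ) (hJ : J ∈ W.cls) (c c' : K)
    (hc : φ^[J.length] c = c) (hc' : φ^[J.length] c' = c')
    (h : R.wordU (clsWord C.D φ J true c) = R.wordU (clsWord C.D φ J true c')) : c = c' := by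
  obtain ⟨d, m, hd0, hd⟩ := conj_w0_xJ_negG W φ J hJ
  have h1 := (hd c hc).2
  rw [h, (hd c' hc').2] at h1
  have h2 := mul_left_cancel₀ hd0 (xJ_inj W.toTwHyp4 φ J hJ _ _ h1).symm
  exact (Function.Injective.iterate φ.injective m h2)

end

end Cfsg.Agent.Lib.Helper3.TwAut
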