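import Mathlib
import Cfsg.Prelude.Def_ChevStructure
import Cfsg.Prelude.Def_KGroupFacts
import Cfsg.Agent.Lib.Helper3.TwAutG1
set_option autoImplicit false
set_option linter.unusedSectionVars false
set_option linter.style.haveILetI false
open Cfsg Cfsg.Lie

/-!
Automorphisms of twisted groups, general case, part 2: conjugation of the generators by the diagonal matrices of the
characters of the root lattice; the generators of the negatives of two joined classes do not commute.
-/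

namespace Cfsg.Agent.Lib.Helper3.TwAut

open Cfsg.Agent.Lib.Helper3.ChevM Cfsg.Agent.Lib.Helper3.ChevSp Cfsg.Agent.Lib.Helper3 ChevU ChevT ChevH
open Cfsg.Agent.Lib.Helper3.ChevAt Cfsg.Agent.Lib.Helper3.ChevAut Cfsg.Agent.Lib.Helper1

section
variable {K : Type*} [Field K] {C : CDatum} {R : RelData C}

theorem sgnRoot_lt (R : RelData C) (neg : Bool) (j : ℕ) (hj : j < C.D.rank) : sgnRoot C.D neg j < C.D.nroots := by
  cases neg
  · rw [sgnRoot_false]; exact R.simple_lt j hj
  · rw [sgnRoot_true]; exact R.neg_lt _ (R.simple_lt j hj)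

/-- The value of a character of the root lattice on a fundamental root or its negative. -/
theorem wtC_sgnRoot (V : VecHyp C) (R : RelData C) (c : Fin C.D.rank → Kˣ) (neg : Bool) (j : ℕ) (hj : j < C.D.rank) :
    wtC V c (sgnRoot C.D neg j) = if neg then (c ⟨j, hj⟩)⁻¹ else c ⟨j, hj⟩ := by
  cases neg
  · rw [sgnRoot_false, wtC_simple V c j hj]; rfl
  · rw [sgnRoot_true, wtC_neg V c _ (R.simple_lt j hj), wtC_simple V c j hj]; rfl

/-- Conjugation of a generator by the diagonal matrix of a character of the root lattice. -/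
theorem dMat_conj_xJ (H : TwHyp4 C R) (V : VecHyp C) (φ : K →+* K) (c : Fin C.D.rank → Kˣ) (J : List ℕ)
    (hJ : J ∈ H.cls) (neg : Bool) (b : K) :
    dMat V c * R.wordU (clsWord C.D φ J neg b) * (dMat V c)⁻¹ =
      R.lp (J.map (sgnRoot C.D neg)) (fun s => (wtC V c s : K) * clsCoord C.D φ J neg b s) := by
  have hnd := (twTorCheck_spec H.tor J hJ neg).1
  have hJlt := H.toTwHyp2.cls_lt J hJ
  rw [clsWord_eq_lp (R := R) φ J neg b hnd]
  apply conj_lp_map
  intro j hj
  exact dMat_conj_xU V R c _ (sgnRoot_lt R neg j (hJlt j hj)) _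

/-- A generator of a class is fixed by the diagonal matrix of a character trivial on the class. -/
theorem dMat_fix_xJ (H : TwHyp4 C R) (V : VecHyp C) (φ : K →+* K) (c : Fin C.D.rank → Kˣ) (J : List ℕ)
    (hJ : J ∈ H.cls) (neg : Bool) (b : K) (hc : ∀ j (hj : j < C.D.rank), j ∈ J → c ⟨j, hj⟩ = 1) :
    dMat V c * R.wordU (clsWord C.D φ J neg b) * (dMat V c)⁻¹ = R.wordU (clsWord C.D φ J neg b) := by
  have hnd := (twTorCheck_spec H.tor J hJ neg).1
  have hJlt := H.toTwHyp2.cls_lt J hJ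
  rw [dMat_conj_xJ H V φ c J hJ neg b, clsWord_eq_lp (R := R) φ J neg b hnd]
  apply R.lp_congr
  intro r hr
  obtain ⟨j, hj, rfl⟩ := List.mem_map.mp hr
  rw [wtC_sgnRoot V R c neg j (hJlt j hj), hc j (hJlt j hj) hj]
  cases neg <;> simp

/-- Isolating a factor of a generator: an element fixed by the diagonal matrix of a character nontrivial only on
the fundamental root `j` and commuting with a generator of a class containing `j` commutes with a root element of
`j`. -/
theorem isolate_cls (H : TwHyp4 C R) (V : VecHyp C) (φ : K →+* K) (J : List ℕ) (hJ : J ∈ H.cls) (neg : Bool)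
    (j : ℕ) (hj : j ∈ J) (hjl : j < C.D.rank) (t : Kˣ) (ht : t ≠ 1) (g : GL C.D.Idx K)
    (hg : dMat V (Function.update (1 : Fin C.D.rank → Kˣ) ⟨j, hjl⟩ t) * g *
      (dMat V (Function.update (1 : Fin C.D.rank → Kˣ) ⟨j, hjl⟩ t))⁻¹ = g)
    (b : K) (hcomm : g * R.wordU (clsWord C.D φ J neg b) = R.wordU (clsWord C.D φ J neg b) * g) :
    ∃ u : K, (u = 0 → b = 0) ∧ g * R.xU (sgnRoot C.D neg j) u = R.xU (sgnRoot C.D neg j) u * g := by
  classical
  set c : Fin C.D.rank → Kˣ := Function.update (1 : Fin C.D.rank → Kˣ) ⟨j, hjl⟩ t with hc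
  set d := dMat V c with hd
  set L := J.map (sgnRoot C.D neg) with hL
  set coord := clsCoord C.D φ J neg b with hcoord
  have hnd : L.Nodup := (twTorCheck_spec H.tor J hJ neg).1
  have hJlt := H.toTwHyp2.cls_lt J hJ
  set z := R.wordU (clsWord C.D φ J neg b) with hz
  have hzlp : z = R.lp L coord := clsWord_eq_lp (R := R) φ J neg b hnd
  set τ : Kˣ := if neg then t⁻¹ else t with hτ
  have hτ1 : (τ : K) - 1 ≠ 0 := by
    intro e
    have e1 : (τ : K) = 1 := sub_eq_zero.mp e
    have e2 : τ = 1 := Units.ext e1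
    rw [hτ] at e2
    cases neg
    · exact ht (by simpa using e2)
    · exact ht (by simpa using e2)
  set u : K := ((τ : K) - 1) * coord (sgnRoot C.D neg j) with hu
  have hsj : sgnRoot C.D neg j ∈ L := List.mem_map.mpr ⟨j, hj, rfl⟩
  have hconj : d * z * d⁻¹ = z * R.xU (sgnRoot C.D neg j) u := by
    rw [hz, hd, dMat_conj_xJ H V φ c J hJ neg b, ← hz, hzlp, ← R.lp_single L hnd _ hsj u,
      R.lp_add L (H.cls_comm_sgn J hJ neg)]
    apply R.lp_congr
    intro r hr
    obtain ⟨j', hj', rfl⟩ := List.mem_map.mp hr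
    rw [wtC_sgnRoot V R c neg j' (hJlt j' hj')]
    by_cases hjj : j' = j
    · subst hjj
      rw [if_pos rfl, hu, hc, Function.update_self]
      cases neg
      · simp only [hτ]
        show (t : K) * _ = _
        simp only [Bool.false_eq_true, if_false]
        ring
      · simp only [hτ]
        show ((t⁻¹ : Kˣ) : K) * _ = _
        simp only [if_true]
        ring
    · have hne : sgnRoot C.D neg j' ≠ sgnRoot C.D neg j := by
        intro e
        exact hjj (List.inj_on_of_nodup_map hnd hj' hj e)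
      have hcj : c ⟨j', hJlt j' hj'⟩ = 1 := by
        rw [hc, Function.update_of_ne (fun e => hjj (congrArg Fin.val e))]
        rfl
      rw [if_neg hne, hcj, add_zero]
      cases neg <;> simp [hcoord]
  refine ⟨u, ?_, ?_⟩
  · intro hu0
    rcases mul_eq_zero.mp hu0 with h | h
    · exact absurd h hτ1
    · by_contra hb
      exact iterate_ne_zero φ _ b hb h
  · have h1 : d * (g * z) * d⁻¹ = d * (z * g) * d⁻¹ := by rw [hcomm]
    have h2 : d * (g * z) * d⁻¹ = (d * g * d⁻¹) * (d * z * d⁻¹) := by group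
    have h3 : d * (z * g) * d⁻¹ = (d * z * d⁻¹) * (d * g * d⁻¹) := by group
    rw [h2, h3, hg, hconj] at h1
    have h4 : g * z = z * g := hcomm
    have h5 : z * (g * R.xU (sgnRoot C.D neg j) u) = z * (R.xU (sgnRoot C.D neg j) u * g) := by
      rw [← mul_assoc, ← h4, mul_assoc, ← mul_assoc z]
      rw [← mul_assoc] at h1
      rw [mul_assoc g z] at h1
      exact h1
    exact mul_left_cancel h5

end

section
variable {K : Type*} [Field K] [Fintype K] {C : CDatum} {R : RelData C}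

/-- The generators of the negatives of two classes all of whose roots commute commute. -/
theorem comm_cls_neg (H : TwHyp4 C R) (φ : K →+* K) (J₁ J₂ : List ℕ) (hJ₁ : J₁ ∈ H.cls) (hJ₂ : J₂ ∈ H.cls)
    (h : ∀ i ∈ J₁, ∀ j ∈ J₂, commEmptyCheck C.D (C.D.neg (C.D.simple i)) (C.D.neg (C.D.simple j)) = true)
    (a b : K) :
    R.wordU (clsWord C.D φ J₁ true a) * R.wordU (clsWord C.D φ J₂ true b) =
      R.wordU (clsWord C.D φ J₂ true b) * R.wordU (clsWord C.D φ J₁ true a) := by
  have hnd₁ := (twTorCheck_spec H.tor J₁ hJ₁ true).1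
  have hnd₂ := (twTorCheck_spec H.tor J₂ hJ₂ true).1
  have hJlt₁ := H.toTwHyp2.cls_lt J₁ hJ₁
  have hJlt₂ := H.toTwHyp2.cls_lt J₂ hJ₂
  rw [clsWord_eq_lp (R := R) φ J₁ true a hnd₁, clsWord_eq_lp (R := R) φ J₂ true b hnd₂]
  apply R.lp_commute
  intro r hr x
  obtain ⟨i, hi, rfl⟩ := List.mem_map.mp hr
  apply Commute.symm
  apply R.lp_commute
  intro s hs y
  obtain ⟨j, hj, rfl⟩ := List.mem_map.mp hs
  rw [sgnRoot_true, sgnRoot_true]
  exact (H.U.K.xU_comm _ _ (R.neg_lt _ (R.simple_lt i (hJlt₁ i hi))) (R.neg_lt _ (R.simple_lt j (hJlt₂ j hj)))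
    (h i hi j hj) x y).symm

/-- The generators of the negatives of two joined classes do not commute. -/
theorem not_comm_cls_neg (H : TwHyp4 C R) (V : VecHyp C) (φ : K →+* K) (J₁ J₂ : List ℕ) (hJ₁ : J₁ ∈ H.cls)
    (hJ₂ : J₂ ∈ H.cls) (i j : ℕ) (hi : i ∈ J₁) (hj : j ∈ J₂) (hj1 : j ∉ J₁)
    (hne1 : C.D.neg (C.D.simple j) ≠ C.D.neg (C.D.simple i))
    (hne2 : C.D.neg (C.D.simple j) ≠ C.D.neg (C.D.neg (C.D.simple i)))
    (r : ℕ) (c : ℤ) (hr : C.D.IsNegRoot r) (hc : c = 1 ∨ c = -1)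
    (hct : C.D.commTerms (C.D.neg (C.D.simple i)) (C.D.neg (C.D.simple j)) = [(r, c, 1, 1)])
    (t : Kˣ) (ht : t ≠ 1) (a b : K)
    (hcomm : R.wordU (clsWord C.D φ J₁ true a) * R.wordU (clsWord C.D φ J₂ true b) =
      R.wordU (clsWord C.D φ J₂ true b) * R.wordU (clsWord C.D φ J₁ true a)) : a = 0 ∨ b = 0 := by
  classical
  have hil := H.toTwHyp2.cls_lt J₁ hJ₁ i hi
  have hjl := H.toTwHyp2.cls_lt J₂ hJ₂ j hj
  have hij : i ≠ j := fun e => hj1 (e ▸ hi)
  -- first step: isolate the factor of `j`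
  have hfix1 : dMat V (Function.update (1 : Fin C.D.rank → Kˣ) ⟨j, hjl⟩ t) *
      R.wordU (clsWord C.D φ J₁ true a) *
      (dMat V (Function.update (1 : Fin C.D.rank → Kˣ) ⟨j, hjl⟩ t))⁻¹ = R.wordU (clsWord C.D φ J₁ true a) := by
    apply dMat_fix_xJ H V φ _ J₁ hJ₁ true a
    intro j' hj' hj'J
    have : (⟨j', hj'⟩ : Fin C.D.rank) ≠ ⟨j, hjl⟩ := by
      intro e
      have e' : j' = j := congrArg Fin.val e
      exact hj1 (e' ▸ hj'J)
    rw [Function.update_of_ne this]
    rfl
  obtain ⟨u, hu, hcu⟩ := isolate_cls H V φ J₂ hJ₂ true j hj hjl t ht _ hfix1 b hcomm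
  rw [sgnRoot_true] at hcu
  -- second step: isolate the factor of `i`
  have hfix2 : dMat V (Function.update (1 : Fin C.D.rank → Kˣ) ⟨i, hil⟩ t) *
      R.xU (C.D.neg (C.D.simple j)) u *
      (dMat V (Function.update (1 : Fin C.D.rank → Kˣ) ⟨i, hil⟩ t))⁻¹ = R.xU (C.D.neg (C.D.simple j)) u := by
    rw [dMat_conj_xU V R _ _ (R.neg_lt _ (R.simple_lt j hjl)), wtC_neg V _ _ (R.simple_lt j hjl),
      wtC_simple V _ j hjl, Function.update_of_ne (fun e => hij (congrArg Fin.val e).symm)]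
    simp
  obtain ⟨u', hu', hcu'⟩ := isolate_cls H V φ J₁ hJ₁ true i hi hil t ht _ hfix2 a hcu.symm
  rw [sgnRoot_true] at hcu'
  rcases not_comm_single_neg H.toTwHyp3 _ _ r c (R.neg_lt _ (R.simple_lt i hil)) (R.neg_lt _ (R.simple_lt j hjl))
    hne1 hne2 hr hc hct u' u hcu' with h | h
  · exact Or.inl (hu' h)
  · exact Or.inr (hu h)

end

end Cfsg.Agent.Lib.Helper3.TwAut
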