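import Mathlib
import Cfsg.Prelude.Def_ChevStructure
import Cfsg.Prelude.Def_KGroupFacts
import Cfsg.Agent.Lib.Helper3.TwAutG2
set_option autoImplicit false
set_option linter.unusedSectionVars false
set_option linter.style.haveILetI false
open Cfsg Cfsg.Lie

/-!
Automorphisms of twisted groups, general case, part 3: an automorphism preserving `U¹` and `V¹` preserves the root
subgroups of the classes and of their negatives; its action on the generators.
-/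

namespace Cfsg.Agent.Lib.Helper3.TwAut

open Cfsg.Agent.Lib.Helper3.ChevM Cfsg.Agent.Lib.Helper3.ChevSp Cfsg.Agent.Lib.Helper3 ChevU ChevT
open Cfsg.Agent.Lib.Helper3.ChevAt Cfsg.Agent.Lib.Helper3.ChevAut Cfsg.Agent.Lib.Helper1
open Cfsg.Agent.Lib.Helper3.SL2P

section
variable {K : Type*} [Field K] [Fintype K] {C : CDatum} {R : RelData C}

/-- A field with at least four elements has a unit different from one. -/
theorem exists_unit_ne_one {φ : K →+* K} {q d : ℕ} (F : FrobHyp φ q d) (hd : 2 ≤ d) : ∃ t : Kˣ, t ≠ 1 := by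
  classical
  have h1 : 4 ≤ Nat.card K := by
    rw [F.card]
    calc 4 = 2 ^ 2 := rfl
      _ ≤ q ^ 2 := Nat.pow_le_pow_left F.one_lt 2
      _ ≤ q ^ d := Nat.pow_le_pow_right (by have := F.one_lt; omega) hd
  have h2 : Nat.card Kˣ = Nat.card K - 1 := by
    rw [Nat.card_eq_fintype_card, Fintype.card_units, Nat.card_eq_fintype_card]
  haveI : Nontrivial Kˣ := by
    apply (Finite.one_lt_card_iff_nontrivial).mp
    omega
  exact exists_ne 1

/-- An automorphism preserving `U¹` and `V¹` preserves the root subgroups of the negatives of the classes. -/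
theorem pres_neg_class_sameG (W : TwAutHypG C R) (φ : K →+* K) {q : ℕ} (F : FrobHyp φ q W.d)
    (θ : MulAut ↥(W.grp φ))
    (hU : Pres θ (C.D.posUnipotent K ⊓ W.grp φ)) (hV : Pres θ (C.D.negUnipotent K ⊓ W.grp φ))
    (J : List ℕ) (hJ : J ∈ W.cls) (c : K) (hc : φ^[J.length] c = c) :
    ∃ c', φ^[J.length] c' = c' ∧
      ex θ (R.wordU (clsWord C.D φ J true c)) = R.wordU (clsWord C.D φ J true c') := by
  classical
  obtain ⟨t, ht⟩ := exists_unit_ne_one F W.hd2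
  have hget : ∀ k : Fin W.cls.length, W.cls.getD k.val [] ∈ W.cls := fun k => by
    rw [List.getD_eq_getElem _ _ k.isLt]; exact List.getElem_mem _
  have key : ∀ k : Fin W.cls.length, ∃ k' : Fin W.cls.length,
      (∀ c, φ^[(W.cls.getD k.val []).length] c = c → ∃ c', φ^[(W.cls.getD k'.val []).length] c' = c' ∧
        ex θ (R.wordU (clsWord C.D φ (W.cls.getD k.val []) true c)) =
          R.wordU (clsWord C.D φ (W.cls.getD k'.val []) true c')) ∧
      (∀ c', φ^[(W.cls.getD k'.val []).length] c' = c' → ∃ c, φ^[(W.cls.getD k.val []).length] c = c ∧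
        ex θ (R.wordU (clsWord C.D φ (W.cls.getD k.val []) true c)) =
          R.wordU (clsWord C.D φ (W.cls.getD k'.val []) true c')) := by
    intro k
    obtain ⟨J', hJ', h1, h2⟩ := pres_neg_class W.toTwHyp4 φ θ hU hV _ (hget k)
    obtain ⟨i, hi, e⟩ := List.getElem_of_mem hJ'
    refine ⟨⟨i, hi⟩, ?_⟩
    have e' : W.cls.getD i [] = J' := by rw [List.getD_eq_getElem _ _ hi]; exact e
    subst e'
    exact ⟨h1, h2⟩
  choose f hf1 hf2 using key
  have hlen : ∀ k, (W.cls.getD (f k).val []).length = (W.cls.getD k.val []).length := by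
    intro k
    have hle1 : (W.cls.getD k.val []).length ≤ (W.cls.getD (f k).val []).length := by
      apply length_le_of_inj F _ _ (W.lens _ (hget k)) (W.lens _ (hget (f k)))
        (fun c c' => ex θ (R.wordU (clsWord C.D φ (W.cls.getD k.val []) true c)) =
          R.wordU (clsWord C.D φ (W.cls.getD (f k).val []) true c')) (hf1 k)
      intro c₁ c₂ c' hc₁ hc₂ e₁ e₂
      have e3 : ex θ (R.wordU (clsWord C.D φ (W.cls.getD k.val []) true c₁)) =
          ex θ (R.wordU (clsWord C.D φ (W.cls.getD k.val []) true c₂)) := by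
        rw [e₁, e₂]
      exact xJ_neg_injG W φ _ (hget k) _ _ hc₁ hc₂
        (ex_injOn θ (xJ_mem_grp W.toTwHyp φ _ (hget k) true c₁ hc₁)
          (xJ_mem_grp W.toTwHyp φ _ (hget k) true c₂ hc₂) e3)
    have hle2 : (W.cls.getD (f k).val []).length ≤ (W.cls.getD k.val []).length := by
      apply length_le_of_inj F _ _ (W.lens _ (hget (f k))) (W.lens _ (hget k))
        (fun c' c => ex θ (R.wordU (clsWord C.D φ (W.cls.getD k.val []) true c)) =
          R.wordU (clsWord C.D φ (W.cls.getD (f k).val []) true c')) (hf2 k)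
      intro c₁ c₂ c' hc₁ hc₂ e₁ e₂
      have e3 : R.wordU (clsWord C.D φ (W.cls.getD (f k).val []) true c₁) =
          R.wordU (clsWord C.D φ (W.cls.getD (f k).val []) true c₂) := by
        rw [← e₁, ← e₂]
      exact xJ_neg_injG W φ _ (hget (f k)) _ _ hc₁ hc₂ e3
    exact le_antisymm hle2 hle1
  have h1fix : ∀ m, φ^[m] (1 : K) = 1 := fun m => Function.iterate_fixed (map_one φ) m
  have hadjf : ∀ k k' : Fin W.cls.length, W.adj k.val k'.val = true → W.adj (f k).val (f k').val = true := by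
    intro k k' hkk
    by_contra hcon
    have hfalse : W.adj (f k).val (f k').val = false := by simpa using hcon
    have hcommAll := fun a b => comm_cls_neg W.toTwHyp4 φ _ _ (hget (f k)) (hget (f k'))
      (W.hnadj _ (f k).isLt _ (f k').isLt hfalse) a b
    obtain ⟨h1, h2, h3, h4, h5, h6, h7, h8⟩ := W.hadj _ k.isLt _ k'.isLt hkk
    obtain ⟨c₁, hc₁, e₁⟩ := hf1 k 1 (h1fix _)
    obtain ⟨c₂, hc₂, e₂⟩ := hf1 k' 1 (h1fix _)
    have hm1 := xJ_mem_grp W.toTwHyp φ _ (hget k) true 1 (h1fix _)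
    have hm2 := xJ_mem_grp W.toTwHyp φ _ (hget k') true 1 (h1fix _)
    have hyz : R.wordU (clsWord C.D φ (W.cls.getD k.val []) true (1 : K)) *
        R.wordU (clsWord C.D φ (W.cls.getD k'.val []) true (1 : K)) =
        R.wordU (clsWord C.D φ (W.cls.getD k'.val []) true (1 : K)) *
        R.wordU (clsWord C.D φ (W.cls.getD k.val []) true (1 : K)) := by
      apply ex_injOn θ (Subgroup.mul_mem _ hm1 hm2) (Subgroup.mul_mem _ hm2 hm1)
      rw [ex_mul θ hm1 hm2, ex_mul θ hm2 hm1, e₁, e₂]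
      exact hcommAll c₁ c₂
    rcases not_comm_cls_neg W.toTwHyp4 W.V φ _ _ (hget k) (hget k') _ _ h1 h2 h3 h4 h5 _ _ h6 h7 h8 t ht 1 1 hyz
      with h | h
    · exact one_ne_zero h
    · exact one_ne_zero h
  have hfk := W.rigid f hlen hadjf
  obtain ⟨i, hi, e⟩ := List.getElem_of_mem hJ
  have e' : W.cls.getD i [] = J := by rw [List.getD_eq_getElem _ _ hi]; exact e
  subst e'
  have := hf1 ⟨i, hi⟩ c hc
  rw [hfk ⟨i, hi⟩] at this
  exact this

/-- An automorphism preserving `U¹` and `V¹` preserves the root subgroups of the classes. -/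
theorem pres_pos_class_sameG (W : TwAutHypG C R) (φ : K →+* K) {q : ℕ} (F : FrobHyp φ q W.d)
    (θ : MulAut ↥(W.grp φ))
    (hU : Pres θ (C.D.posUnipotent K ⊓ W.grp φ)) (hV : Pres θ (C.D.negUnipotent K ⊓ W.grp φ))
    (J : List ℕ) (hJ : J ∈ W.cls) (c : K) (hc : φ^[J.length] c = c) :
    ∃ c', φ^[J.length] c' = c' ∧
      ex θ (R.wordU (clsWord C.D φ J false c)) = R.wordU (clsWord C.D φ J false c') := by
  obtain ⟨⟨hn₀N, hn₀G⟩, hmap⟩ := W.toTwHyp3.w0_spec φ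
  have hl0 := W.toTwHyp.flatten_lt W.w0 W.w0cls
  have hmap' := map_conj_neg_eq_pos (K := K) (atH W.toTwHyp2) 1 (Subgroup.one_mem _) W.w0.flatten hl0
    (w0_neg W.toTwHyp3)
  rw [one_mul] at hmap'
  set n₀ : GL C.D.Idx K := R.nCls K W.w0 with hn₀
  set a₀ : ↥(W.grp φ) := ⟨n₀, hn₀G⟩ with ha₀
  set θ' : MulAut ↥(W.grp φ) := MulAut.conj a₀⁻¹ * (θ * MulAut.conj a₀) with hθ'
  have hθ'ex : ∀ g ∈ W.grp φ, ex θ' g = n₀⁻¹ * ex θ (n₀ * g * n₀⁻¹) * n₀ := by
    intro g hg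
    have h1 : n₀ * g * n₀⁻¹ ∈ W.grp φ :=
      Subgroup.mul_mem _ (Subgroup.mul_mem _ hn₀G hg) (Subgroup.inv_mem _ hn₀G)
    rw [hθ', ex_mul_aut _ _ hg, ex_mul_aut _ _ hg, ex_conj _ hg, ex_conj _ (ex_mem θ h1)]
    simp [ha₀]
  have hconjG : ∀ g ∈ W.grp φ, n₀ * g * n₀⁻¹ ∈ W.grp φ := fun g hg =>
    Subgroup.mul_mem _ (Subgroup.mul_mem _ hn₀G hg) (Subgroup.inv_mem _ hn₀G)
  have hconjG' : ∀ g ∈ W.grp φ, n₀⁻¹ * g * n₀ ∈ W.grp φ := fun g hg =>
    Subgroup.mul_mem _ (Subgroup.mul_mem _ (Subgroup.inv_mem _ hn₀G) hg) hn₀G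
  have hU' : Pres θ' (C.D.posUnipotent K ⊓ W.grp φ) := by
    intro u hu
    rw [hθ'ex u hu.2]
    have h1 : n₀ * u * n₀⁻¹ ∈ C.D.negUnipotent K ⊓ W.grp φ := by
      refine ⟨?_, hconjG u hu.2⟩
      rw [← hmap]; exact ⟨u, hu.1, rfl⟩
    have h2 := hV _ h1
    refine ⟨?_, hconjG' _ h2.2⟩
    have h3 := h2.1
    rw [← hmap] at h3
    obtain ⟨x, hx, e⟩ := h3
    change n₀ * x * n₀⁻¹ = _ at e
    rw [← e]
    have e4 : n₀⁻¹ * (n₀ * x * n₀⁻¹) * n₀ = x := by group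
    rw [e4]; exact hx
  have hV' : Pres θ' (C.D.negUnipotent K ⊓ W.grp φ) := by
    intro v hv
    rw [hθ'ex v hv.2]
    have h1 : n₀ * v * n₀⁻¹ ∈ C.D.posUnipotent K ⊓ W.grp φ := by
      refine ⟨?_, hconjG v hv.2⟩
      rw [← hmap']; exact ⟨v, hv.1, rfl⟩
    have h2 := hU _ h1
    refine ⟨?_, hconjG' _ h2.2⟩
    have h3 := h2.1
    rw [← hmap'] at h3
    obtain ⟨x, hx, e⟩ := h3
    change n₀ * x * n₀⁻¹ = _ at e
    rw [← e]
    have e4 : n₀⁻¹ * (n₀ * x * n₀⁻¹) * n₀ = x := by group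
    rw [e4]; exact hx
  obtain ⟨d, m, hd0, hd⟩ := conj_w0_xJ_negG W φ J hJ
  let Fm : {c : K // φ^[J.length] c = c} → {c : K // φ^[J.length] c = c} :=
    fun c => ⟨d * φ^[m] c.1, (hd c.1 c.2).1⟩
  have hinj : Function.Injective Fm := by
    intro x y e
    have e1 : d * φ^[m] x.1 = d * φ^[m] y.1 := congrArg Subtype.val e
    exact Subtype.ext (Function.Injective.iterate φ.injective m (mul_left_cancel₀ hd0 e1))
  obtain ⟨⟨c₁, hc₁fix⟩, hc₁⟩ := Finite.injective_iff_surjective.mp hinj ⟨c, hc⟩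
  have hc₁' : d * φ^[m] c₁ = c := congrArg Subtype.val hc₁
  have e1 : R.wordU (clsWord C.D φ J false c) = n₀ * R.wordU (clsWord C.D φ J true c₁) * n₀⁻¹ := by
    rw [(hd c₁ hc₁fix).2, hc₁']
  obtain ⟨c', hc', e2⟩ := pres_neg_class_sameG W φ F θ' hU' hV' J hJ c₁ hc₁fix
  rw [hθ'ex _ (xJ_mem_grp W.toTwHyp φ J hJ true c₁ hc₁fix), ← e1] at e2
  have e3 : ex θ (R.wordU (clsWord C.D φ J false c)) =
      n₀ * R.wordU (clsWord C.D φ J true c') * n₀⁻¹ := by
    rw [← e2]; group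
  refine ⟨d * φ^[m] c', (hd c' hc').1, ?_⟩
  rw [e3, (hd c' hc').2]

/-- The action on the generators of an automorphism preserving `U¹` and `V¹`. -/
theorem exists_twRootActG (W : TwAutHypG C R) (φ : K →+* K) {q : ℕ} (F : FrobHyp φ q W.d)
    (θ : MulAut ↥(W.grp φ))
    (hU : Pres θ (C.D.posUnipotent K ⊓ W.grp φ)) (hV : Pres θ (C.D.negUnipotent K ⊓ W.grp φ)) :
    Nonempty (TwRootAct W.toTwHyp2 φ θ) := by
  classical
  have h1 := fun J (hJ : J ∈ W.cls) c (hc : φ^[J.length] c = c) =>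
    pres_pos_class_sameG W φ F θ hU hV J hJ c hc
  have h2 := fun J (hJ : J ∈ W.cls) c (hc : φ^[J.length] c = c) =>
    pres_neg_class_sameG W φ F θ hU hV J hJ c hc
  choose! f hf1 hf2 using h1
  choose! g hg1 hg2 using h2
  exact ⟨⟨f, g, hf1, hg1, hf2, hg2⟩⟩

variable (W : TwAutHypG C R) {φ : K →+* K} {θ : MulAut ↥(W.grp φ)} (T : TwRootAct W.toTwHyp2 φ θ)

theorem TwRootAct.f_addG (J : List ℕ) (hJ : J ∈ W.cls) (a b : K) (ha : φ^[J.length] a = a)
    (hb : φ^[J.length] b = b) : T.f J (a + b) = T.f J a + T.f J b := by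
  have h1 := T.pos J hJ (a + b) (iterate_add' φ _ a b ha hb)
  rw [← xJ_add W.toTwHyp4 φ J hJ false a b,
    ex_mul θ (xJ_mem_grp W.toTwHyp φ J hJ false a ha) (xJ_mem_grp W.toTwHyp φ J hJ false b hb),
    T.pos J hJ a ha, T.pos J hJ b hb, xJ_add W.toTwHyp4 φ J hJ false] at h1
  exact (xJ_inj W.toTwHyp4 φ J hJ _ _ h1).symm

theorem TwRootAct.f_zeroG (J : List ℕ) (hJ : J ∈ W.cls) : T.f J 0 = 0 := by
  have h0 : φ^[J.length] (0 : K) = 0 := Function.iterate_fixed (map_zero φ) _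
  have := T.f_addG W J hJ 0 0 h0 h0
  rw [add_zero] at this
  exact left_eq_add.mp this

theorem TwRootAct.f_negG (J : List ℕ) (hJ : J ∈ W.cls) (a : K) (ha : φ^[J.length] a = a) :
    T.f J (-a) = -T.f J a := by
  have := T.f_addG W J hJ a (-a) ha (iterate_neg' φ _ a ha)
  rw [add_neg_cancel, T.f_zeroG W J hJ] at this
  exact eq_neg_of_add_eq_zero_right this.symm

theorem TwRootAct.f_injG (J : List ℕ) (hJ : J ∈ W.cls) (a b : K) (ha : φ^[J.length] a = a)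
    (hb : φ^[J.length] b = b) (e : T.f J a = T.f J b) : a = b := by
  have h1 : ex θ (R.wordU (clsWord C.D φ J false a)) = ex θ (R.wordU (clsWord C.D φ J false b)) := by
    rw [T.pos J hJ a ha, T.pos J hJ b hb, e]
  exact xJ_inj W.toTwHyp4 φ J hJ _ _
    (ex_injOn θ (xJ_mem_grp W.toTwHyp φ J hJ false a ha) (xJ_mem_grp W.toTwHyp φ J hJ false b hb) h1)

theorem TwRootAct.f_ne_zeroG (J : List ℕ) (hJ : J ∈ W.cls) (a : K) (ha : φ^[J.length] a = a) (ha0 : a ≠ 0) :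
    T.f J a ≠ 0 := by
  intro e
  rw [← T.f_zeroG W J hJ] at e
  exact ha0 (T.f_injG W J hJ a 0 ha (Function.iterate_fixed (map_zero φ) _) e)

theorem TwRootAct.g_zeroG (J : List ℕ) (hJ : J ∈ W.cls) : T.g J 0 = 0 := by
  have h0 : φ^[J.length] (0 : K) = 0 := Function.iterate_fixed (map_zero φ) _
  have h1 := T.neg J hJ 0 h0
  rw [xJ_zero W.toTwHyp4 φ J hJ true, ex_one] at h1
  have h2 : R.wordU (clsWord C.D φ J true (0 : K)) = R.wordU (clsWord C.D φ J true (T.g J 0)) := by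
    rw [xJ_zero W.toTwHyp4 φ J hJ true]; exact h1
  exact (xJ_neg_injG W φ J hJ _ _ h0 (T.g_fix J hJ 0 h0) h2).symm

variable (hcs : ∀ j < C.D.rank, C.D.cartan j (C.D.neg (C.D.simple j)) = -2)
include hcs

/-- The action on the negative generators is determined by that on the positive generators. -/
theorem TwRootAct.g_eqG (J : List ℕ) (hJ : J ∈ W.cls) (a : K) (ha : φ^[J.length] a = a) (ha0 : a ≠ 0) :
    T.g J (-a⁻¹) = -(T.f J a)⁻¹ := by
  have hR := rel_class W.toTwHyp2 φ hcs J hJ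
  have hc1 : (R.wordU (clsWord C.D φ J false a) * R.wordU (clsWord C.D φ J true (-a⁻¹)) *
      R.wordU (clsWord C.D φ J false a)) * R.wordU (clsWord C.D φ J false 1) *
      (R.wordU (clsWord C.D φ J false a) * R.wordU (clsWord C.D φ J true (-a⁻¹)) *
      R.wordU (clsWord C.D φ J false a))⁻¹ = R.wordU (clsWord C.D φ J true (-(a⁻¹ * a⁻¹ * 1))) :=
    hR.conj a ha0 1
  have h1fix : φ^[J.length] (1 : K) = 1 := Function.iterate_fixed (map_one φ) _
  have hb : φ^[J.length] (-a⁻¹) = -a⁻¹ := iterate_neg_inv φ _ a ha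
  have hd : φ^[J.length] (-(a⁻¹ * a⁻¹ * 1)) = -(a⁻¹ * a⁻¹ * 1) :=
    iterate_neg' φ _ _ (iterate_mul' φ _ _ _ (iterate_mul' φ _ _ _ (iterate_inv' φ _ a ha)
      (iterate_inv' φ _ a ha)) h1fix)
  have hG1 := xJ_mem_grp W.toTwHyp φ J hJ false a ha
  have hG2 := xJ_mem_grp W.toTwHyp φ J hJ true (-a⁻¹) hb
  have hG3 := xJ_mem_grp W.toTwHyp φ J hJ false 1 h1fix
  have hGn := Subgroup.mul_mem _ (Subgroup.mul_mem _ hG1 hG2) hG1
  have h2 := congrArg (ex θ) hc1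
  rw [ex_conj_mul θ hGn hG3, ex_mul θ (Subgroup.mul_mem _ hG1 hG2) hG1, ex_mul θ hG1 hG2, T.pos J hJ a ha,
    T.neg J hJ _ hb, T.pos J hJ 1 h1fix, T.neg J hJ _ hd] at h2
  have hmem : R.wordU (clsWord C.D φ J true (T.g J (-(a⁻¹ * a⁻¹ * 1)))) ∈ C.D.negUnipotent K :=
    xJ_mem_neg W.toTwHyp2 φ J hJ _
  rw [← h2] at hmem
  have h4 := rank_one_key_tw W.toTwHyp4 φ hcs J hJ _ _ _ (T.f_ne_zeroG W J hJ 1 h1fix one_ne_zero) hmem
  have hfa := T.f_ne_zeroG W J hJ a ha ha0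
  rw [eq_neg_iff_add_eq_zero, ← mul_right_inj' hfa, mul_add, mul_inv_cancel₀ hfa, mul_zero]
  linear_combination h4

/-- The image of `n_J(a)`. -/
theorem TwRootAct.ex_nEJG (J : List ℕ) (hJ : J ∈ W.cls) (a : K) (ha : φ^[J.length] a = a) (ha0 : a ≠ 0) :
    ex θ (nEJ R φ J a) = nEJ R φ J (T.f J a) := by
  have hb : φ^[J.length] (-a⁻¹) = -a⁻¹ := iterate_neg_inv φ _ a ha
  have hG1 := xJ_mem_grp W.toTwHyp φ J hJ false a ha
  have hG2 := xJ_mem_grp W.toTwHyp φ J hJ true (-a⁻¹) hb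
  unfold nEJ
  rw [ex_mul θ (Subgroup.mul_mem _ hG1 hG2) hG1, ex_mul θ hG1 hG2, T.pos J hJ a ha, T.neg J hJ _ hb,
    T.g_eqG W hcs J hJ a ha ha0]

/-- The image of `h_J(a)` under a normalized automorphism. -/
theorem TwRootAct.ex_hEJG (J : List ℕ) (hJ : J ∈ W.cls) (hf1 : T.f J 1 = 1) (a : K)
    (ha : φ^[J.length] a = a) (ha0 : a ≠ 0) : ex θ (hEJ R φ J a) = hEJ R φ J (T.f J a) := by
  have h1fix : φ^[J.length] (1 : K) = 1 := Function.iterate_fixed (map_one φ) _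
  unfold hEJ
  rw [ex_mul θ (nEJ_mem W.toTwHyp φ J hJ a ha) (Subgroup.inv_mem _ (nEJ_mem W.toTwHyp φ J hJ 1 h1fix)),
    ex_inv θ (nEJ_mem W.toTwHyp φ J hJ 1 h1fix), T.ex_nEJG W hcs J hJ a ha ha0,
    T.ex_nEJG W hcs J hJ 1 h1fix one_ne_zero, hf1]

/-- The compatibility of a normalized automorphism with the squares. -/
theorem TwRootAct.f_sqG (J : List ℕ) (hJ : J ∈ W.cls) (hf1 : T.f J 1 = 1) (t u : K)
    (ht : φ^[J.length] t = t) (hu : φ^[J.length] u = u) (ht0 : t ≠ 0) :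
    T.f J (t * t * u) = T.f J t * T.f J t * T.f J u := by
  have h1 := hEJ_conj W.toTwHyp2 φ hcs J hJ t ht0 u
  have h2 := congrArg (ex θ) h1
  rw [ex_conj_mul θ (hEJ_mem W.toTwHyp φ J hJ t ht) (xJ_mem_grp W.toTwHyp φ J hJ false u hu),
    T.ex_hEJG W hcs J hJ hf1 t ht ht0, T.pos J hJ u hu,
    T.pos J hJ _ (iterate_mul' φ _ _ _ (iterate_mul' φ _ _ _ ht ht) hu),
    hEJ_conj W.toTwHyp2 φ hcs J hJ _ (T.f_ne_zeroG W J hJ t ht ht0)] at h2
  exact (xJ_inj W.toTwHyp4 φ J hJ _ _ h2).symm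

/-- The compatibility of a normalized automorphism with the action of the diagonal elements of a class on
another class. -/
theorem TwRootAct.f_chiG (J₁ J₂ : List ℕ) (hJ₁ : J₁ ∈ W.cls) (hJ₂ : J₂ ∈ W.cls) (hf1 : T.f J₁ 1 = 1)
    (χ : K → K)
    (hχfix : ∀ t, φ^[J₁.length] t = t → t ≠ 0 → φ^[J₂.length] (χ t) = χ t)
    (hχ : ∀ t, φ^[J₁.length] t = t → t ≠ 0 → ∀ u, φ^[J₂.length] u = u →
      hEJ R φ J₁ t * R.wordU (clsWord C.D φ J₂ false u) * (hEJ R φ J₁ t)⁻¹ =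
        R.wordU (clsWord C.D φ J₂ false (χ t * u)))
    (t u : K) (ht : φ^[J₁.length] t = t) (ht0 : t ≠ 0) (hu : φ^[J₂.length] u = u) :
    T.f J₂ (χ t * u) = χ (T.f J₁ t) * T.f J₂ u := by
  have h1 := hχ t ht ht0 u hu
  have h2 := congrArg (ex θ) h1
  rw [ex_conj_mul θ (hEJ_mem W.toTwHyp φ J₁ hJ₁ t ht) (xJ_mem_grp W.toTwHyp φ J₂ hJ₂ false u hu),
    T.ex_hEJG W hcs J₁ hJ₁ hf1 t ht ht0, T.pos J₂ hJ₂ u hu,
    T.pos J₂ hJ₂ _ (iterate_mul' φ _ _ _ (hχfix t ht ht0) hu),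
    hχ _ (T.f_fix J₁ hJ₁ t ht) (T.f_ne_zeroG W J₁ hJ₁ t ht ht0) _ (T.f_fix J₂ hJ₂ u hu)] at h2
  exact (xJ_inj W.toTwHyp4 φ J₂ hJ₂ _ _ h2).symm

end

end Cfsg.Agent.Lib.Helper3.TwAut
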