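import Mathlib
import Cfsg.Prelude.Def_ChevStructure
import Cfsg.Prelude.Def_KGroupFacts
import Cfsg.Agent.Lib.Helper3.TwAutG3
set_option autoImplicit false
set_option linter.unusedSectionVars false
set_option linter.style.haveILetI false
open Cfsg Cfsg.Lie

/-!
Automorphisms of twisted groups, general case, part 4: the diagonal automorphisms of a twisted group, given by the
characters of the root lattice compatible with the twisting automorphism; normalisation of an automorphism by a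
diagonal automorphism.
-/

namespace Cfsg.Agent.Lib.Helper3.TwAut

open Cfsg.Agent.Lib.Helper3.ChevM Cfsg.Agent.Lib.Helper3.ChevSp Cfsg.Agent.Lib.Helper3 ChevU ChevT ChevH
open Cfsg.Agent.Lib.Helper3.ChevAt Cfsg.Agent.Lib.Helper3.ChevAut Cfsg.Agent.Lib.Helper1

section
variable {K : Type*} [Field K] {C : CDatum} {R : RelData C}

theorem iterate_map_inv' (φ : K →+* K) (n : ℕ) (x : K) : φ^[n] x⁻¹ = (φ^[n] x)⁻¹ := by
  have e : ∀ y : K, φ^[n] y = (φ ^ n) y := fun y => by rw [RingHom.coe_pow]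
  rw [e, e, map_inv₀]

/-- The value of a character of the root lattice on a fundamental root or its negative. -/
theorem wtC_sgnRoot_cN (V : VecHyp C) (R : RelData C) (c : Fin C.D.rank → Kˣ) (neg : Bool) (j : ℕ)
    (hj : j < C.D.rank) :
    (wtC V c (sgnRoot C.D neg j) : K) = if neg then (cN c j)⁻¹ else cN c j := by
  rw [wtC_sgnRoot V R c neg j hj, cN_lt c j hj]
  cases neg
  · rfl
  · simp

/-- Conjugation of a product of root elements by the diagonal matrix of a character of the root lattice. -/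
theorem conj_wordU_dMat (V : VecHyp C) (R : RelData C) (c : Fin C.D.rank → Kˣ) (w : List (ℕ × K))
    (hw : ∀ p ∈ w, p.1 < C.D.nroots) :
    dMat V c * R.wordU w * (dMat V c)⁻¹ = R.wordU (w.map fun p => (p.1, (wtC V c p.1 : K) * p.2)) := by
  induction w with
  | nil => simp [RelData.wordU_nil]
  | cons p w ih =>
    rw [List.map_cons, R.wordU_cons, R.wordU_cons, ← ih (fun q hq => hw q (List.mem_cons_of_mem _ hq)),
      ← dMat_conj_xU V R c p.1 (hw p List.mem_cons_self) p.2]
    group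

theorem dMat_conj_mem_pos (A : AtHyp C R) (V : VecHyp C) (c : Fin C.D.rank → Kˣ) (g : GL C.D.Idx K)
    (hg : g ∈ C.D.posUnipotent K) : dMat V c * g * (dMat V c)⁻¹ ∈ C.D.posUnipotent K := by
  unfold ChevalleyDatum.posUnipotent at hg
  induction hg using Subgroup.closure_induction with
  | mem x hx =>
    obtain ⟨r, t, hr, hx⟩ := hx
    have : x = R.xU r t := Units.ext (by rw [hx, R.xU_val])
    rw [this, dMat_conj_xU V R c r hr.1]
    exact xU_mem_pos A r hr _
  | one => rw [mul_one, mul_inv_cancel]; exact Subgroup.one_mem _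
  | mul x y _ _ ihx ihy =>
    have e : dMat V c * (x * y) * (dMat V c)⁻¹ = (dMat V c * x * (dMat V c)⁻¹) * (dMat V c * y * (dMat V c)⁻¹) := by
      group
    rw [e]; exact Subgroup.mul_mem _ ihx ihy
  | inv x _ ihx =>
    have e : dMat V c * x⁻¹ * (dMat V c)⁻¹ = (dMat V c * x * (dMat V c)⁻¹)⁻¹ := by group
    rw [e]; exact Subgroup.inv_mem _ ihx

theorem dMat_conj_mem_neg (A : AtHyp C R) (V : VecHyp C) (c : Fin C.D.rank → Kˣ) (g : GL C.D.Idx K)
    (hg : g ∈ C.D.negUnipotent K) : dMat V c * g * (dMat V c)⁻¹ ∈ C.D.negUnipotent K := by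
  unfold ChevalleyDatum.negUnipotent at hg
  induction hg using Subgroup.closure_induction with
  | mem x hx =>
    obtain ⟨r, t, hr, hx⟩ := hx
    have : x = R.xU r t := Units.ext (by rw [hx, R.xU_val])
    rw [this, dMat_conj_xU V R c r hr.1]
    exact xU_mem_neg A r hr _
  | one => rw [mul_one, mul_inv_cancel]; exact Subgroup.one_mem _
  | mul x y _ _ ihx ihy =>
    have e : dMat V c * (x * y) * (dMat V c)⁻¹ = (dMat V c * x * (dMat V c)⁻¹) * (dMat V c * y * (dMat V c)⁻¹) := by
      group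
    rw [e]; exact Subgroup.mul_mem _ ihx ihy
  | inv x _ ihx =>
    have e : dMat V c * x⁻¹ * (dMat V c)⁻¹ = (dMat V c * x * (dMat V c)⁻¹)⁻¹ := by group
    rw [e]; exact Subgroup.inv_mem _ ihx

end

section
variable {K : Type*} [Field K] [Fintype K] {C : CDatum} {R : RelData C}

/-- Fixed coordinates along a class. -/
theorem torFix_getD (W : TwHyp7 C R) (φ : K →+* K) (c : Fin C.D.rank → Kˣ) (hc : c ∈ W.torFix φ) (J : List ℕ)
    (hJ : J ∈ W.cls) (m : ℕ) (hm : m < J.length) :
    cN c (J.getD m 0) = φ^[m] (cN c (J.getD 0 0)) ∧ J.getD m 0 < C.D.rank := by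
  obtain ⟨k, hk, e⟩ := List.mem_iff_getElem.mp hJ
  have e' : W.cls.getD k [] = J := by rw [List.getD_eq_getElem _ _ hk]; exact e
  subst e'
  obtain ⟨h0, hall⟩ := W.idx_spec2 k hk
  have hi : (W.cls.getD k []).getD 0 0 < C.D.rank := (hall 0 h0).1
  obtain ⟨h, e1⟩ := W.torFix_iterate φ c hc _ hi m
  have e2 := W.p_iterate k hk m hm
  have hm' : (W.cls.getD k []).getD m 0 < C.D.rank := (hall m hm).1
  refine ⟨?_, hm'⟩
  have e3 : (⟨(W.cls.getD k []).getD m 0, hm'⟩ : Fin C.D.rank) =
      ⟨W.G.p^[m] ((W.cls.getD k []).getD 0 0), h⟩ := Fin.ext e2.symm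
  rw [cN_lt c _ hm', cN_lt c _ hi, ← units_map_iterate, ← e1, e3]

/-- The coordinate at the head of a class is fixed by the power of the field automorphism. -/
theorem torFix_head_fixed (W : TwHyp7 C R) (φ : K →+* K) (c : Fin C.D.rank → Kˣ) (hc : c ∈ W.torFix φ)
    (J : List ℕ) (hJ : J ∈ W.cls) : φ^[J.length] (cN c (J.getD 0 0)) = cN c (J.getD 0 0) := by
  obtain ⟨k, hk, e⟩ := List.mem_iff_getElem.mp hJ
  have e' : W.cls.getD k [] = J := by rw [List.getD_eq_getElem _ _ hk]; exact e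
  obtain ⟨h0, hall⟩ := W.idx_spec2 k hk
  rw [e'] at h0 hall
  have hl : J.length - 1 < J.length := by omega
  obtain ⟨g1, -, -, g4⟩ := hall (J.length - 1) hl
  have e0 : (J.length - 1 + 1) % J.length = 0 := by rw [Nat.sub_add_cancel h0, Nat.mod_self]
  rw [e0] at g4
  have h1 := (W.mem_torFix φ c).mp hc _ g1
  obtain ⟨eA, -⟩ := torFix_getD W φ c hc J hJ (J.length - 1) hl
  have hi := (hall 0 h0).1
  have e3 : cN c (J.getD 0 0) = φ (cN c (J.getD (J.length - 1) 0)) := by
    rw [cN_lt c _ hi, cN_lt c _ g1]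
    have e4 : (⟨J.getD 0 0, hi⟩ : Fin C.D.rank) =
        ⟨W.G.p (J.getD (J.length - 1) 0), (W.G.p_spec _ g1).1⟩ := Fin.ext g4.symm
    rw [e4, h1]
    rfl
  have e5 : φ^[J.length] (cN c (J.getD 0 0)) = φ (φ^[J.length - 1] (cN c (J.getD 0 0))) := by
    rw [← Function.iterate_succ_apply' φ]
    congr 1
    omega
  rw [e5, ← eA, ← e3]

end

end Cfsg.Agent.Lib.Helper3.TwAut
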