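import Mathlib
import Cfsg.Prelude.Def_ChevStructure
import Cfsg.Prelude.Def_KGroupFacts
import Cfsg.Agent.Lib.Helper3.TwAutG4
set_option autoImplicit false
set_option linter.unusedSectionVars false
set_option linter.style.haveILetI false
open Cfsg Cfsg.Lie

/-!
Automorphisms of twisted groups, general case, part 5: the diagonal automorphisms of a twisted group;
normalisation of an automorphism by a diagonal automorphism.
-/

namespace Cfsg.Agent.Lib.Helper3.TwAut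

open Cfsg.Agent.Lib.Helper3.ChevM Cfsg.Agent.Lib.Helper3.ChevSp Cfsg.Agent.Lib.Helper3 ChevU ChevT ChevH
open Cfsg.Agent.Lib.Helper3.ChevAt Cfsg.Agent.Lib.Helper3.ChevAut Cfsg.Agent.Lib.Helper1

section
variable {K : Type*} [Field K] [Fintype K] {C : CDatum} {R : RelData C}

omit [Fintype K] in
theorem iterate_map_mul' (φ : K →+* K) (n : ℕ) (x y : K) : φ^[n] (x * y) = φ^[n] x * φ^[n] y := by
  have e : ∀ z : K, φ^[n] z = (φ ^ n) z := fun z => by rw [RingHom.coe_pow]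
  rw [e, e, e, map_mul]

/-- The scalar by which the diagonal matrix of a character acts on the generators of a class. -/
def headScal (c : Fin C.D.rank → Kˣ) (J : List ℕ) (neg : Bool) : K :=
  if neg then (cN c (J.getD 0 0))⁻¹ else cN c (J.getD 0 0)

theorem headScal_ne_zero (c : Fin C.D.rank → Kˣ) (J : List ℕ) (neg : Bool) : headScal c J neg ≠ 0 := by
  unfold headScal
  cases neg
  · exact cN_ne_zero c _
  · exact inv_ne_zero (cN_ne_zero c _)

theorem headScal_fixed (W : TwHyp7 C R) (φ : K →+* K) (c : Fin C.D.rank → Kˣ) (hc : c ∈ W.torFix φ)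
    (J : List ℕ) (hJ : J ∈ W.cls) (neg : Bool) : φ^[J.length] (headScal c J neg) = headScal c J neg := by
  unfold headScal
  cases neg
  · exact torFix_head_fixed W φ c hc J hJ
  · simp only [if_true]
    rw [iterate_map_inv', torFix_head_fixed W φ c hc J hJ]

/-- Conjugation of a generator by the diagonal matrix of a character compatible with the twisting automorphism. -/
theorem dMat_conj_xJ_fix (W : TwAutHypG C R) (φ : K →+* K) (c : Fin C.D.rank → Kˣ) (hc : c ∈ W.torFix φ)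
    (J : List ℕ) (hJ : J ∈ W.cls) (neg : Bool) (b : K) :
    dMat W.V c * R.wordU (clsWord C.D φ J neg b) * (dMat W.V c)⁻¹ =
      R.wordU (clsWord C.D φ J neg (headScal c J neg * b)) := by
  have hJlt := W.toTwHyp2.cls_lt J hJ
  have hw : ∀ p ∈ clsWord C.D φ J neg b, p.1 < C.D.nroots := by
    intro p hp
    unfold clsWord at hp
    obtain ⟨x, hx, rfl⟩ := List.mem_map.mp hp
    exact sgnRoot_lt R neg _ (hJlt _ (List.fst_mem_of_mem_zipIdx hx))
  rw [conj_wordU_dMat W.V R c _ hw]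
  congr 1
  unfold clsWord
  rw [List.map_map]
  apply List.map_congr_left
  intro p hp
  have hp' := List.mem_zipIdx_iff_getElem?.mp hp
  have hm : p.2 < J.length := by
    by_contra hcon
    rw [List.getElem?_eq_none (by omega)] at hp'
    cases hp'
  have hp1 : J.getD p.2 0 = p.1 := by
    rw [List.getD_eq_getElem?_getD, hp']; rfl
  obtain ⟨eA, hlt⟩ := torFix_getD W.toTwHyp7 φ c hc J hJ p.2 hm
  rw [hp1] at eA hlt
  show (sgnRoot C.D neg p.1, (wtC W.V c (sgnRoot C.D neg p.1) : K) * φ^[p.2] b) =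
    (sgnRoot C.D neg p.1, φ^[p.2] (headScal c J neg * b))
  congr 1
  rw [wtC_sgnRoot_cN W.V R c neg p.1 hlt, iterate_map_mul', eA]
  unfold headScal
  cases neg
  · rfl
  · simp only [if_true]
    rw [iterate_map_inv']

/-- The diagonal matrix of a character compatible with the twisting automorphism normalizes the twisted
group. -/
theorem dMat_conj_mem_tw (W : TwAutHypG C R) (φ : K →+* K) (c : Fin C.D.rank → Kˣ) (hc : c ∈ W.torFix φ)
    (g : GL C.D.Idx K) (hg : g ∈ W.grp φ) : dMat W.V c * g * (dMat W.V c)⁻¹ ∈ W.grp φ := by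
  have h : W.grp φ ≤ (W.grp φ).comap (MulAut.conj (dMat W.V c)).toMonoidHom := by
    show R.twGroup φ W.cls ≤ _
    unfold RelData.twGroup
    rw [Subgroup.closure_le]
    rintro g ⟨J, hJ, neg, t, ht, rfl⟩
    rw [SetLike.mem_coe, Subgroup.mem_comap]
    show dMat W.V c * R.wordU (clsWord C.D φ J neg t) * (dMat W.V c)⁻¹ ∈ _
    rw [dMat_conj_xJ_fix W φ c hc J hJ neg t]
    exact Subgroup.subset_closure ⟨J, hJ, neg, _,
      iterate_mul' φ _ _ _ (headScal_fixed W.toTwHyp7 φ c hc J hJ neg) ht, rfl⟩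
  exact h hg

theorem dMat_conj_mem_tw' (W : TwAutHypG C R) (φ : K →+* K) (c : Fin C.D.rank → Kˣ) (hc : c ∈ W.torFix φ)
    (g : GL C.D.Idx K) (hg : g ∈ W.grp φ) : (dMat W.V c)⁻¹ * g * dMat W.V c ∈ W.grp φ := by
  have := dMat_conj_mem_tw W φ c⁻¹ (Subgroup.inv_mem _ hc) g hg
  rwa [dMat_inv, inv_inv] at this

/-- The diagonal automorphism of a twisted group given by a character compatible with the twisting
automorphism. -/
def dAutTw (W : TwAutHypG C R) (φ : K →+* K) (c : ↥(W.torFix φ)) : MulAut ↥(W.grp φ) :=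
  conjAut (W.grp φ) (dMat W.V c.1) (dMat_conj_mem_tw W φ c.1 c.2) (dMat_conj_mem_tw' W φ c.1 c.2)

theorem ex_dAutTw (W : TwAutHypG C R) (φ : K →+* K) (c : ↥(W.torFix φ)) {g : GL C.D.Idx K}
    (hg : g ∈ W.grp φ) : ex (dAutTw W φ c) g = dMat W.V c.1 * g * (dMat W.V c.1)⁻¹ :=
  ex_conjAut _ _ _ _ hg

theorem ex_dAutTw_xJ (W : TwAutHypG C R) (φ : K →+* K) (c : ↥(W.torFix φ)) (J : List ℕ) (hJ : J ∈ W.cls)
    (neg : Bool) (b : K) (hb : φ^[J.length] b = b) :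
    ex (dAutTw W φ c) (R.wordU (clsWord C.D φ J neg b)) =
      R.wordU (clsWord C.D φ J neg (headScal c.1 J neg * b)) := by
  rw [ex_dAutTw W φ c (xJ_mem_grp W.toTwHyp φ J hJ neg b hb), dMat_conj_xJ_fix W φ c.1 c.2 J hJ neg b]

theorem dAutTw_mul (W : TwAutHypG C R) (φ : K →+* K) (c c' : ↥(W.torFix φ)) :
    dAutTw W φ (c * c') = dAutTw W φ c * dAutTw W φ c' := by
  apply MulEquiv.ext
  intro g
  apply Subtype.ext
  show dMat W.V (c.1 * c'.1) * (g : GL C.D.Idx K) * (dMat W.V (c.1 * c'.1))⁻¹ =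
    dMat W.V c.1 * (dMat W.V c'.1 * (g : GL C.D.Idx K) * (dMat W.V c'.1)⁻¹) * (dMat W.V c.1)⁻¹
  rw [dMat_mul]
  group

theorem dAutTw_one (W : TwAutHypG C R) (φ : K →+* K) : dAutTw W φ (1 : ↥(W.torFix φ)) = 1 := by
  apply MulEquiv.ext
  intro g
  apply Subtype.ext
  show dMat W.V (1 : Fin C.D.rank → Kˣ) * (g : GL C.D.Idx K) * (dMat W.V (1 : Fin C.D.rank → Kˣ))⁻¹ = g
  rw [dMat_one]
  group

/-- The diagonal automorphisms as a homomorphism. -/
def dAutTwHom (W : TwAutHypG C R) (φ : K →+* K) : ↥(W.torFix φ) →* MulAut ↥(W.grp φ) where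
  toFun := dAutTw W φ
  map_one' := dAutTw_one W φ
  map_mul' := dAutTw_mul W φ

theorem dAutTw_inv (W : TwAutHypG C R) (φ : K →+* K) (c : ↥(W.torFix φ)) :
    dAutTw W φ c⁻¹ = (dAutTw W φ c)⁻¹ := map_inv (dAutTwHom W φ) c

theorem pres_dAutTw_pos (W : TwAutHypG C R) (φ : K →+* K) (c : ↥(W.torFix φ)) :
    Pres (dAutTw W φ c) (C.D.posUnipotent K ⊓ W.grp φ) := by
  intro g hg
  rw [ex_dAutTw W φ c hg.2]
  exact ⟨dMat_conj_mem_pos (atH W.toTwHyp2) W.V c.1 g hg.1, dMat_conj_mem_tw W φ c.1 c.2 g hg.2⟩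

theorem pres_dAutTw_neg (W : TwAutHypG C R) (φ : K →+* K) (c : ↥(W.torFix φ)) :
    Pres (dAutTw W φ c) (C.D.negUnipotent K ⊓ W.grp φ) := by
  intro g hg
  rw [ex_dAutTw W φ c hg.2]
  exact ⟨dMat_conj_mem_neg (atH W.toTwHyp2) W.V c.1 g hg.1, dMat_conj_mem_tw W φ c.1 c.2 g hg.2⟩

/-- Up to a diagonal automorphism, an automorphism preserving `U¹` and `V¹` maps `x_J(1)` to `x_J(1)` for all
classes `J`. -/
theorem exists_normalizedG (W : TwAutHypG C R) (φ : K →+* K) {q : ℕ} (F : FrobHyp φ q W.d)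
    (θ : MulAut ↥(W.grp φ))
    (hU : Pres θ (C.D.posUnipotent K ⊓ W.grp φ)) (hV : Pres θ (C.D.negUnipotent K ⊓ W.grp φ)) :
    ∃ χ : ↥(W.torFix φ), ∃ T : TwRootAct W.toTwHyp2 φ ((dAutTw W φ χ)⁻¹ * θ), ∀ J ∈ W.cls, T.f J 1 = 1 := by
  classical
  obtain ⟨T⟩ := exists_twRootActG W φ F θ hU hV
  have h1fix : ∀ n, φ^[n] (1 : K) = 1 := fun n => Function.iterate_fixed (map_one φ) n
  have hc0 : ∀ J ∈ W.cls, T.f J 1 ≠ 0 := fun J hJ => T.f_ne_zeroG W J hJ 1 (h1fix _) one_ne_zero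
  have hcfix : ∀ J ∈ W.cls, φ^[J.length] (T.f J 1) = T.f J 1 := fun J hJ => T.f_fix J hJ 1 (h1fix _)
  let cU : List ℕ → Kˣ := fun J => if h : T.f J 1 ≠ 0 then Units.mk0 (T.f J 1) h else 1
  have hcU : ∀ J ∈ W.cls, ((cU J : Kˣ) : K) = T.f J 1 := by
    intro J hJ
    simp [cU, hc0 J hJ]
  have hcUfix : ∀ J ∈ W.cls, (Units.map φ.toMonoidHom)^[J.length] (cU J) = cU J := by
    intro J hJ
    apply Units.ext
    rw [units_map_iterate, hcU J hJ, hcfix J hJ]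
  let χ : ↥(W.torFix φ) := ⟨torTarget W.toTwHyp7 φ cU, torTarget_mem W.toTwHyp7 φ cU hcUfix⟩
  have hθ₁ : (dAutTw W φ χ)⁻¹ * θ = dAutTw W φ χ⁻¹ * θ := by rw [dAutTw_inv]
  have hU₁ : Pres ((dAutTw W φ χ)⁻¹ * θ) (C.D.posUnipotent K ⊓ W.grp φ) := by
    rw [hθ₁]
    intro g hg
    rw [ex_mul_aut _ _ hg.2]
    exact pres_dAutTw_pos W φ χ⁻¹ _ (hU g hg)
  have hV₁ : Pres ((dAutTw W φ χ)⁻¹ * θ) (C.D.negUnipotent K ⊓ W.grp φ) := by
    rw [hθ₁]
    intro g hg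
    rw [ex_mul_aut _ _ hg.2]
    exact pres_dAutTw_neg W φ χ⁻¹ _ (hV g hg)
  obtain ⟨T₁⟩ := exists_twRootActG W φ F _ hU₁ hV₁
  refine ⟨χ, T₁, ?_⟩
  intro J hJ
  have hm := xJ_mem_grp W.toTwHyp φ J hJ false 1 (h1fix _)
  have e1 := T₁.pos J hJ 1 (h1fix _)
  have e0 : ex ((dAutTw W φ χ)⁻¹ * θ) (R.wordU (clsWord C.D φ J false (1 : K))) =
      ex (dAutTw W φ χ⁻¹) (ex θ (R.wordU (clsWord C.D φ J false (1 : K)))) := by
    rw [ex_mul_aut _ _ hm, dAutTw_inv]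
  rw [e0, T.pos J hJ 1 (h1fix _), ex_dAutTw_xJ W φ χ⁻¹ J hJ false _ (hcfix J hJ)] at e1
  have e2 := xJ_inj W.toTwHyp4 φ J hJ _ _ e1
  rw [← e2]
  -- the value of the scalar
  obtain ⟨a, ha⟩ := W.toTwHyp2.cls_ne_nil J hJ
  obtain ⟨a₀, L₀, hJe⟩ : ∃ a₀ L₀, J = a₀ :: L₀ := by
    cases J with
    | nil => simp at ha
    | cons x l => exact ⟨x, l, rfl⟩
  subst hJe
  have ha₀ : a₀ < C.D.rank := W.toTwHyp2.cls_lt _ hJ a₀ List.mem_cons_self
  have e3 : headScal (χ⁻¹ : ↥(W.torFix φ)).1 (a₀ :: L₀) false = (T.f (a₀ :: L₀) 1)⁻¹ := by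
    unfold headScal
    simp only [Bool.false_eq_true, if_false]
    have e4 : (a₀ :: L₀).getD 0 0 = a₀ := rfl
    rw [e4, cN_lt _ a₀ ha₀]
    show (((torTarget W.toTwHyp7 φ cU)⁻¹ ⟨a₀, ha₀⟩ : Kˣ) : K) = _
    rw [Pi.inv_apply, torTarget_head W.toTwHyp7 φ cU a₀ L₀ hJ ha₀, Units.val_inv_eq_inv_val, hcU _ hJ]
  rw [e3, inv_mul_cancel₀ (hc0 _ hJ)]

/-- An automorphism acting on the generators as a field automorphism is the field automorphism. -/
theorem eq_fAutTw_of_fG (W : TwAutHypG C R) {φ : K →+* K} {θ : MulAut ↥(W.grp φ)}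
    (T : TwRootAct W.toTwHyp2 φ θ)
    (hcs : ∀ j < C.D.rank, C.D.cartan j (C.D.neg (C.D.simple j)) = -2)
    (ψ : K ≃+* K) (hc : ∀ t, ψ (φ t) = φ (ψ t))
    (hf : ∀ J ∈ W.cls, ∀ u, φ^[J.length] u = u → T.f J u = ψ u) :
    θ = fAutTw R φ W.cls ψ hc := by
  apply aut_eq_of_gens R φ W.cls
  intro J hJ neg t ht
  rw [ex_fAutTw_xJ R φ W.cls ψ hc J hJ neg t ht]
  cases neg with
  | false => rw [T.pos J hJ t ht, hf J hJ t ht]
  | true =>
    have hg : T.g J t = ψ t := by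
      by_cases ht0 : t = 0
      · rw [ht0, T.g_zeroG W J hJ, map_zero]
      · have ha : φ^[J.length] (-t⁻¹) = -t⁻¹ := iterate_neg' φ _ _ (iterate_inv' φ _ _ ht)
        have ha0 : -t⁻¹ ≠ 0 := neg_ne_zero.mpr (inv_ne_zero ht0)
        have e := T.g_eqG W hcs J hJ (-t⁻¹) ha ha0
        rw [hf J hJ _ ha] at e
        have e2 : -(-t⁻¹)⁻¹ = t := by rw [inv_neg, inv_inv, neg_neg]
        rw [e2] at e
        rw [e, map_neg, map_inv₀, inv_neg, inv_inv, neg_neg]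
    rw [T.neg J hJ t ht, hg]

end

end Cfsg.Agent.Lib.Helper3.TwAut
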