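import Mathlib
import Cfsg.Prelude.Def_ChevStructure
import Cfsg.Prelude.Def_KGroupFacts
import Cfsg.Agent.Lib.Helper3.TwAutG5
set_option autoImplicit false
set_option linter.unusedSectionVars false
set_option linter.style.haveILetI false
open Cfsg Cfsg.Lie

/-!
Automorphisms of twisted groups, general case, part 6: the inner diagonal automorphisms; a field automorphism which
is the product of an inner and a diagonal automorphism is trivial.
-/

namespace Cfsg.Agent.Lib.Helper3.TwAut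

open Cfsg.Agent.Lib.Helper3.ChevM Cfsg.Agent.Lib.Helper3.ChevSp Cfsg.Agent.Lib.Helper3 ChevU ChevT ChevH
open Cfsg.Agent.Lib.Helper3.ChevAt Cfsg.Agent.Lib.Helper3.ChevAut Cfsg.Agent.Lib.Helper1

section
variable {K : Type*} [Field K] [Fintype K] {C : CDatum} {R : RelData C}

/-- The characters of the roots on the torus, in terms of the character of the root lattice induced by the Cartan
matrix. -/
theorem rootChar_eq_wtC (W : TwAutHypG C R) (z : Fin C.D.rank → Kˣ) (s : ℕ) (hs : s < C.D.nroots) :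
    rootChar C.D K z ⟨s, hs⟩ = wtC W.V (cartanMap C K z) s := by
  show ∏ i, z i ^ C.D.cartan i.val s = ∏ j : Fin C.D.rank, (cartanMap C K z j) ^ W.V.vec s j.val
  have h1 : ∀ i : Fin C.D.rank, C.D.cartan i.val s =
      ∑ j : Fin C.D.rank, W.V.vec s j.val * C.D.cartan i.val (C.D.simple j.val) := by
    intro i
    have := W.hvec i.val i.isLt s hs
    simp only [vecCheck, decide_eq_true_eq] at this
    rw [this, list_range_sum_eq, W.hVvec]
  calc ∏ i, z i ^ C.D.cartan i.val s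
      = ∏ i, ∏ j : Fin C.D.rank, (z i ^ C.D.cartan i.val (C.D.simple j.val)) ^ W.V.vec s j.val := by
        apply Finset.prod_congr rfl
        intro i _
        rw [h1 i, zpow_finset_sum]
        apply Finset.prod_congr rfl
        intro j _
        rw [← zpow_mul, mul_comm]
    _ = ∏ j : Fin C.D.rank, (∏ i, z i ^ C.D.cartan i.val (C.D.simple j.val)) ^ W.V.vec s j.val := by
        rw [Finset.prod_comm]
        apply Finset.prod_congr rfl
        intro j _
        rw [Finset.prod_zpow]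
    _ = ∏ j : Fin C.D.rank, (cartanMap C K z j) ^ W.V.vec s j.val := rfl

/-- An element of the torus and the diagonal matrix of the induced character of the root lattice act in the same way
on the products of root elements. -/
theorem tor_conj_eq_dMat (W : TwAutHypG C R) (z : Fin C.D.rank → Kˣ) (w : List (ℕ × K))
    (hw : ∀ p ∈ w, p.1 < C.D.nroots) :
    R.tor z * R.wordU w * (R.tor z)⁻¹ =
      dMat W.V (cartanMap C K z) * R.wordU w * (dMat W.V (cartanMap C K z))⁻¹ := by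
  induction w with
  | nil => simp [RelData.wordU_nil]
  | cons p w ih =>
    have e1 : R.tor z * (R.xU p.1 p.2 * R.wordU w) * (R.tor z)⁻¹ =
        (R.tor z * R.xU p.1 p.2 * (R.tor z)⁻¹) * (R.tor z * R.wordU w * (R.tor z)⁻¹) := by group
    have e2 : dMat W.V (cartanMap C K z) * (R.xU p.1 p.2 * R.wordU w) * (dMat W.V (cartanMap C K z))⁻¹ =
        (dMat W.V (cartanMap C K z) * R.xU p.1 p.2 * (dMat W.V (cartanMap C K z))⁻¹) *
          (dMat W.V (cartanMap C K z) * R.wordU w * (dMat W.V (cartanMap C K z))⁻¹) := by group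
    have hp := hw p List.mem_cons_self
    rw [R.wordU_cons, e1, e2, ih (fun q hq => hw q (List.mem_cons_of_mem _ hq)), tor_conj_xU R z _ hp,
      dMat_conj_xU W.V R _ _ hp, rootChar_eq_wtC W z _ hp]

theorem clsWord_lt (H : TwHyp2 C R) (φ : K →+* K) (J : List ℕ) (hJ : J ∈ H.cls) (neg : Bool) (b : K) :
    ∀ p ∈ clsWord C.D φ J neg b, p.1 < C.D.nroots := by
  intro p hp
  unfold clsWord at hp
  obtain ⟨x, hx, rfl⟩ := List.mem_map.mp hp
  exact sgnRoot_lt R neg _ (H.cls_lt J hJ _ (List.fst_mem_of_mem_zipIdx hx))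

/-- The diagonal automorphism of a character induced by the torus of the twisted group is inner. -/
theorem dAutTw_pw (W : TwAutHypG C R) (φ : K →+* K) (z : ↥(W.torFix φ)) :
    dAutTw W φ ⟨cartanMap C K z.1, cartanMap_mem_torFix W.toTwHyp7 φ z.1 z.2⟩ =
      MulAut.conj ⟨R.tor z.1, W.toTwHyp6.tor_mem_grp φ z.1 z.2⟩ := by
  apply aut_eq_of_gens R φ W.cls
  intro J hJ neg t ht
  have hm := xJ_mem_grp W.toTwHyp φ J hJ neg t ht
  rw [ex_dAutTw W φ _ hm, ex_conj _ hm]
  exact (tor_conj_eq_dMat W z.1 _ (clsWord_lt W.toTwHyp2 φ J hJ neg t)).symm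

/-- Two families of coordinates fixed by the action and agreeing at the heads of the classes are equal. -/
theorem torFix_ext (W : TwHyp7 C R) (φ : K →+* K) (c c' : Fin C.D.rank → Kˣ) (hc : c ∈ W.torFix φ)
    (hc' : c' ∈ W.torFix φ) (h : ∀ J ∈ W.cls, cN c (J.getD 0 0) = cN c' (J.getD 0 0)) : c = c' := by
  funext i
  obtain ⟨h1, h2, h3⟩ := W.idx_spec1 i.val i.isLt
  have hJ : W.cls.getD (W.clsOf i.val) [] ∈ W.cls := by
    rw [List.getD_eq_getElem _ _ h1]; exact List.getElem_mem _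
  obtain ⟨eA, -⟩ := torFix_getD W φ c hc _ hJ _ h2
  obtain ⟨eA', -⟩ := torFix_getD W φ c' hc' _ hJ _ h2
  rw [h3] at eA eA'
  apply Units.ext
  have e1 := cN_lt c i.val i.isLt
  have e2 := cN_lt c' i.val i.isLt
  show ((c ⟨i.val, i.isLt⟩ : Kˣ) : K) = ((c' ⟨i.val, i.isLt⟩ : Kˣ) : K)
  rw [← e1, ← e2, eA, eA', h _ hJ]

/-- If the product of an inner and a diagonal automorphism is a field automorphism, then the field automorphism
is trivial and the diagonal automorphism is induced by the torus of the twisted group. -/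
theorem field_eq_inner_diag_tw (W : TwAutHypG C R) (φ : K →+* K) {q : ℕ} (F : FrobHyp φ q W.d)
    (hJd : ∃ J ∈ W.cls, J.length = W.d) (τ : K ≃+* K) (hc : ∀ t, τ (φ t) = φ (τ t)) (a : ↥(W.grp φ))
    (e : ↥(W.torFix φ)) (h : fAutTw R φ W.cls τ hc = MulAut.conj a * dAutTw W φ e) :
    τ = 1 ∧ ∃ z : ↥(W.torFix φ), e = ⟨cartanMap C K z.1, cartanMap_mem_torFix W.toTwHyp7 φ z.1 z.2⟩ := by
  have hcj : MulAut.conj a = fAutTw R φ W.cls τ hc * dAutTw W φ e⁻¹ := by
    rw [h, mul_assoc, ← dAutTw_mul, mul_inv_cancel, dAutTw_one, mul_one]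
  have hex : ∀ g ∈ W.grp φ, (a : GL C.D.Idx K) * g * (a : GL C.D.Idx K)⁻¹ =
      glMapEquiv τ (dMat W.V (e⁻¹ : ↥(W.torFix φ)).1 * g * (dMat W.V (e⁻¹ : ↥(W.torFix φ)).1)⁻¹) := by
    intro g hg
    rw [← ex_conj a hg, hcj, ex_mul_aut _ _ hg, ex_dAutTw W φ e⁻¹ hg,
      ex_of_mem _ (dMat_conj_mem_tw W φ _ (e⁻¹ : ↥(W.torFix φ)).2 g hg), fAutTw_coe]
  have h1 : (a : GL C.D.Idx K) ∈ C.D.borelSubgroup K := by
    apply mem_borel_of_conj_pos_tw W.toTwHyp2 φ _ a.2
    intro u hu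
    rw [hex u hu.2]
    exact glMap_mem_pos (atH W.toTwHyp2) τ _ (dMat_conj_mem_pos (atH W.toTwHyp2) W.V _ u hu.1)
  have h2 : (a : GL C.D.Idx K) ∈ negBorel C.D K := by
    apply mem_negBorel_of_conj_neg_tw W.toTwHyp3 φ _ a.2
    intro v hv
    rw [hex v hv.2]
    exact glMap_mem_neg (atH W.toTwHyp2) τ _ (dMat_conj_mem_neg (atH W.toTwHyp2) W.V _ v hv.1)
  have h3 : (a : GL C.D.Idx K) ∈ C.D.diagonalSubgroup K := by
    rw [← borel_inf_negBorel (atH W.toTwHyp2)]
    exact ⟨h1, h2⟩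
  have h4 : (a : GL C.D.Idx K) ∈ C.D.diagonalSubgroup K ⊓ W.grp φ := ⟨h3, a.2⟩
  rw [W.toTwHyp6.diagonal_inf_grp φ F.iter] at h4
  obtain ⟨z, hz, hza⟩ := h4
  have hz' : z ∈ W.torFix φ := hz
  have hza' : R.tor z = (a : GL C.D.Idx K) := hza
  have key : ∀ J ∈ W.cls, ∀ b, φ^[J.length] b = b →
      headScal (cartanMap C K z) J false * b = τ (headScal (e⁻¹ : ↥(W.torFix φ)).1 J false * b) := by
    intro J hJ b hb
    have hm := xJ_mem_grp W.toTwHyp φ J hJ false b hb
    have e1 := hex _ hm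
    rw [dMat_conj_xJ_fix W φ _ (e⁻¹ : ↥(W.torFix φ)).2 J hJ false b, glMap_xJ φ τ hc, ← hza',
      tor_conj_eq_dMat W z _ (clsWord_lt W.toTwHyp2 φ J hJ false b),
      dMat_conj_xJ_fix W φ _ (cartanMap_mem_torFix W.toTwHyp7 φ z hz') J hJ false b] at e1
    exact xJ_inj W.toTwHyp4 φ J hJ _ _ e1
  have hτ : τ = 1 := by
    obtain ⟨J, hJ, hJd⟩ := hJd
    have hall : ∀ u : K, φ^[J.length] u = u := fun u => by rw [hJd]; exact F.iter u
    apply RingEquiv.ext
    intro t
    have k1 := key J hJ 1 (hall 1)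
    have kt := key J hJ t (hall t)
    rw [mul_one, mul_one] at k1
    rw [map_mul, ← k1] at kt
    exact (mul_left_cancel₀ (headScal_ne_zero _ J false) kt).symm
  refine ⟨hτ, ⟨⟨z⁻¹, Subgroup.inv_mem _ hz'⟩, ?_⟩⟩
  have heq : cartanMap C K z = (e⁻¹ : ↥(W.torFix φ)).1 := by
    apply torFix_ext W.toTwHyp7 φ _ _ (cartanMap_mem_torFix W.toTwHyp7 φ z hz') (e⁻¹ : ↥(W.torFix φ)).2
    intro J hJ
    have k1 := key J hJ 1 (Function.iterate_fixed (map_one φ) _)
    rw [mul_one, mul_one, hτ] at k1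
    exact k1
  apply Subtype.ext
  show e.1 = cartanMap C K z⁻¹
  rw [map_inv, heq]
  show e.1 = (e.1⁻¹)⁻¹
  rw [inv_inv]

end

end Cfsg.Agent.Lib.Helper3.TwAut
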