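import Mathlib
import Cfsg.Prelude.Def_ChevStructure
import Cfsg.Prelude.Def_KGroupFacts
import Cfsg.Agent.Lib.Helper3.TwAutG6
set_option autoImplicit false
set_option linter.unusedSectionVars false
set_option linter.style.haveILetI false
open Cfsg Cfsg.Lie

/-!
Automorphisms of twisted groups, general case, part 7: the order of the outer automorphism group, when every
normalised automorphism is a field automorphism: the product of the number of the fixed points of the twisting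
automorphism on the kernel of the torus and of the order of the automorphism group of the field.
-/

namespace Cfsg.Agent.Lib.Helper3.TwAut

open Cfsg.Agent.Lib.Helper3.ChevM Cfsg.Agent.Lib.Helper3.ChevSp Cfsg.Agent.Lib.Helper3 ChevU ChevT ChevH
open Cfsg.Agent.Lib.Helper3.ChevAt Cfsg.Agent.Lib.Helper3.ChevAut Cfsg.Agent.Lib.Helper1

section
variable {K : Type*} [Field K] [Fintype K] {C : CDatum} {R : RelData C}

/-- The map induced by the Cartan matrix on the coordinates fixed by the action. -/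
def pwFix (W : TwHyp7 C R) (φ : K →+* K) : ↥(W.torFix φ) →* ↥(W.torFix φ) :=
  ((cartanMap C K).comp (W.torFix φ).subtype).codRestrict (W.torFix φ)
    (fun z => cartanMap_mem_torFix W φ z.1 z.2)

theorem pwFix_coe (W : TwHyp7 C R) (φ : K →+* K) (z : ↥(W.torFix φ)) :
    (pwFix W φ z : ↥(W.torFix φ)).1 = cartanMap C K z.1 := rfl

/-- The kernel of the map induced by the Cartan matrix on the coordinates fixed by the action. -/
theorem card_ker_pwFix (W : TwHyp7 C R) (φ : K →+* K) :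
    Nat.card (pwFix W φ).ker = Nat.card (W.kerFix φ) := by
  apply Nat.card_congr
  refine
    { toFun := fun x => ⟨x.1.1, ?_⟩
      invFun := fun c => ⟨⟨c.1, c.2.1⟩, ?_⟩
      left_inv := fun x => rfl
      right_inv := fun c => rfl }
  · rw [W.mem_kerFix]
    have h1 : W.G.sigT φ x.1.1 = x.1.1 := x.1.2
    have h2 : pwFix W φ x.1 = 1 := x.2
    have h3 : cartanMap C K x.1.1 = 1 := congrArg Subtype.val h2
    exact ⟨fun j => congrFun h1 j, fun j => congrFun h3 j⟩
  · rw [MonoidHom.mem_ker]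
    apply Subtype.ext
    have h := (W.mem_kerFix φ c.1).mp c.2
    show cartanMap C K c.1 = 1
    funext j
    exact h.2 j

/-- The index of the image of the map induced by the Cartan matrix on the coordinates fixed by the action. -/
theorem index_range_pwFix (W : TwHyp7 C R) (φ : K →+* K) :
    (pwFix W φ).range.index = Nat.card (W.kerFix φ) := by
  rw [← card_ker_pwFix W φ]
  have h1 := Subgroup.index_mul_card (pwFix W φ).range
  have h2 := Subgroup.index_mul_card (pwFix W φ).ker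
  rw [Subgroup.index_ker] at h2
  have hpos : 0 < Nat.card (pwFix W φ).range := Nat.card_pos
  have h3 : (pwFix W φ).range.index * Nat.card (pwFix W φ).range =
      Nat.card (pwFix W φ).ker * Nat.card (pwFix W φ).range := by
    rw [h1, ← h2, mul_comm]
  exact Nat.eq_of_mul_eq_mul_right hpos h3

/-- The order of the outer automorphism group of a twisted group, when every automorphism preserving `U¹` and `V¹`
and mapping `x_J(1)` to `x_J(1)` for all classes `J` acts on the generators as a field automorphism. -/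
theorem card_out_diag_tw (W : TwAutHypG C R) (φ : K →+* K) {q : ℕ} (F : FrobHyp φ q W.d)
    (hcs : ∀ j < C.D.rank, C.D.cartan j (C.D.neg (C.D.simple j)) = -2)
    (hJd : ∃ J ∈ W.cls, J.length = W.d)
    (hcomm : ∀ (ψ : K ≃+* K) (t : K), ψ (φ t) = φ (ψ t))
    (p : ℕ) [Fact p.Prime]
    (hS : ∃ S : Sylow p ↥(W.grp φ),
      (S : Subgroup ↥(W.grp φ)) = (C.D.posUnipotent K ⊓ W.grp φ).subgroupOf (W.grp φ))
    (hfield : ∀ (θ : MulAut ↥(W.grp φ)) (T : TwRootAct W.toTwHyp2 φ θ), (∀ J ∈ W.cls, T.f J 1 = 1) →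
      ∃ ψ : K ≃+* K, ∀ J ∈ W.cls, ∀ u, φ^[J.length] u = u → T.f J u = ψ u) :
    Nat.card (Cfsg.Out ↥(W.grp φ)) = Nat.card (W.kerFix φ) * Nat.card (K ≃+* K) := by
  set Rg := (pwFix W.toTwHyp7 φ).range with hRg
  set Φ := fAutTwHom R φ W.cls hcomm with hΦ
  set Δ := dAutTwHom W φ with hΔ
  have hΦa : ∀ σ, Φ σ = fAutTw R φ W.cls σ (hcomm σ) := fun σ => rfl
  have hΔa : ∀ c, Δ c = dAutTw W φ c := fun c => rfl
  let δ₀ : ↥(W.torFix φ) →* Cfsg.Out ↥(W.grp φ) := (QuotientGroup.mk' (Cfsg.Inn ↥(W.grp φ))).comp Δ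
  have hδ₀ : ∀ c ∈ Rg, δ₀ c = 1 := by
    rintro c ⟨z, rfl⟩
    show (QuotientGroup.mk (dAutTw W φ (pwFix W.toTwHyp7 φ z)) : Cfsg.Out ↥(W.grp φ)) = 1
    have e : pwFix W.toTwHyp7 φ z = ⟨cartanMap C K z.1, cartanMap_mem_torFix W.toTwHyp7 φ z.1 z.2⟩ := rfl
    rw [e, dAutTw_pw W φ z]
    exact (QuotientGroup.eq_one_iff _).mpr ⟨_, rfl⟩
  let δ : ↥(W.torFix φ) ⧸ Rg →* Cfsg.Out ↥(W.grp φ) := QuotientGroup.lift Rg δ₀ hδ₀
  let φh : (K ≃+* K) →* Cfsg.Out ↥(W.grp φ) := (QuotientGroup.mk' (Cfsg.Inn ↥(W.grp φ))).comp Φ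
  let Ξ : (↥(W.torFix φ) ⧸ Rg) × (K ≃+* K) → Cfsg.Out ↥(W.grp φ) := fun x => δ x.1 * φh x.2
  have hΞ : Function.Bijective Ξ := by
    constructor
    · rintro ⟨x, σ⟩ ⟨x', σ'⟩ hx
      obtain ⟨c, rfl⟩ := QuotientGroup.mk_surjective x
      obtain ⟨c', rfl⟩ := QuotientGroup.mk_surjective x'
      have h1 : (QuotientGroup.mk (Δ c * Φ σ) : Cfsg.Out ↥(W.grp φ)) = QuotientGroup.mk (Δ c' * Φ σ') := hx
      rw [QuotientGroup.eq] at h1
      obtain ⟨a, ha⟩ := h1
      have e1 : Δ c * Φ σ * MulAut.conj a = Δ c' * Φ σ' := by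
        rw [ha]; group
      have e2 : Φ σ * MulAut.conj a = MulAut.conj (Φ σ a) * Φ σ := conj_mul_aut _ _
      have e3 : Φ (σ * σ'⁻¹) = MulAut.conj (Φ σ a)⁻¹ * Δ (c⁻¹ * c') := by
        rw [map_mul, map_mul, map_inv, map_inv, map_inv]
        rw [mul_assoc, e2] at e1
        have e4 : Φ σ = (MulAut.conj (Φ σ a))⁻¹ * (Δ c)⁻¹ * (Δ c' * Φ σ') := by
          rw [← e1]; group
        conv_lhs => rw [e4]
        group
      obtain ⟨h3, z, h4⟩ := field_eq_inner_diag_tw W φ F hJd _ (hcomm _) _ _ e3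
      have h5 : σ = σ' := by
        have := congrArg (fun x => x * σ') h3
        simpa using this
      have h6 : (QuotientGroup.mk c : ↥(W.torFix φ) ⧸ Rg) = QuotientGroup.mk c' := by
        rw [QuotientGroup.eq]
        exact ⟨z, h4.symm⟩
      rw [h5, h6]
    · intro x
      obtain ⟨θ, rfl⟩ := QuotientGroup.mk_surjective x
      obtain ⟨a, hU, hV⟩ := exists_conj_pres_tw W.toTwHyp3 φ p hS θ
      obtain ⟨χ, T, hT⟩ := exists_normalizedG W φ F _ hU hV
      obtain ⟨ψ, hψ⟩ := hfield _ T hT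
      have e := eq_fAutTw_of_fG W T hcs ψ (hcomm ψ) hψ
      have e' : θ = (MulAut.conj a)⁻¹ * (Δ χ * Φ ψ) := by
        rw [hΦa, hΔa, ← e]; group
      refine ⟨⟨QuotientGroup.mk χ, ψ⟩, ?_⟩
      show (QuotientGroup.mk (Δ χ) : Cfsg.Out ↥(W.grp φ)) * QuotientGroup.mk (Φ ψ) = _
      rw [e', QuotientGroup.mk_mul, QuotientGroup.mk_mul, QuotientGroup.mk_inv]
      have : (QuotientGroup.mk (MulAut.conj a) : Cfsg.Out ↥(W.grp φ)) = 1 :=
        (QuotientGroup.eq_one_iff _).mpr ⟨a, rfl⟩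
      rw [this, inv_one, one_mul]
  rw [← Nat.card_congr (Equiv.ofBijective Ξ hΞ), Nat.card_prod, ← index_range_pwFix W.toTwHyp7 φ]
  rfl

end

end Cfsg.Agent.Lib.Helper3.TwAut
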