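import Mathlib
import Cfsg.Prelude.Def_ChevStructure
import Cfsg.Prelude.Def_KGroupFacts
import Cfsg.Agent.Lib.Helper3.TwAutG7
import Cfsg.Agent.Lib.Helper3.ChevData.E6TwH
import Cfsg.Agent.Lib.Helper3.ChevTwF
import Cfsg.Agent.Lib.Helper3.ChevAutE6
set_option autoImplicit false
set_option linter.unusedSectionVars false
set_option linter.style.haveILetI false
set_option maxRecDepth 1000000
open Cfsg Cfsg.Lie

/-!
The outer automorphism group of the twisted groups of type E6: its order is the product of the order of the group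
of the diagonal automorphisms and of the order of the group of the automorphisms of the field with `q ^ 2`
elements.
-/

namespace Cfsg.Agent.Lib.Helper3.TwAut

open Cfsg.Agent.Lib.Helper3.ChevM Cfsg.Agent.Lib.Helper3.ChevSp Cfsg.Agent.Lib.Helper3 ChevU ChevT ChevH
open Cfsg.Agent.Lib.Helper3.ChevAt Cfsg.Agent.Lib.Helper3.ChevAut Cfsg.Agent.Lib.Helper1

/-- The joins of the classes of the twisted diagram of type E6. -/
def e6TwAdj (k k' : ℕ) : Bool :=
  (([[false, true, false, false], [true, false, false, true], [false, false, false, true],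
    [false, true, true, false]] : List (List Bool)).getD k []).getD k' false

/-- The witnesses of the joins of the classes of the twisted diagram of type E6. -/
def e6TwAdjW (k k' : ℕ) : ℕ × ℕ × ℕ × ℤ :=
  (([[(0, 0, 0, 0), (1, 3, 24, 1), (0, 0, 0, 0), (0, 0, 0, 0)],
     [(3, 1, 24, -1), (0, 0, 0, 0), (0, 0, 0, 0), (3, 2, 28, -1)],
     [(0, 0, 0, 0), (0, 0, 0, 0), (0, 0, 0, 0), (0, 2, 14, 1)],
     [(0, 0, 0, 0), (2, 3, 28, 1), (2, 0, 14, -1), (0, 0, 0, 0)]] : List (List (ℕ × ℕ × ℕ × ℤ))).getD k []).getD k'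
    (0, 0, 0, 0)

set_option synthInstance.maxSize 10000 in
set_option synthInstance.maxHeartbeats 2000000 in
theorem e6_hadj : ∀ k < twE6G.cls.length, ∀ k' < twE6G.cls.length, e6TwAdj k k' = true →
    (e6TwAdjW k k').1 ∈ twE6G.cls.getD k [] ∧ (e6TwAdjW k k').2.1 ∈ twE6G.cls.getD k' [] ∧
    (e6TwAdjW k k').2.1 ∉ twE6G.cls.getD k [] ∧
    cdE6.D.neg (cdE6.D.simple (e6TwAdjW k k').2.1) ≠ cdE6.D.neg (cdE6.D.simple (e6TwAdjW k k').1) ∧
    cdE6.D.neg (cdE6.D.simple (e6TwAdjW k k').2.1) ≠ cdE6.D.neg (cdE6.D.neg (cdE6.D.simple (e6TwAdjW k k').1)) ∧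
    cdE6.D.IsNegRoot (e6TwAdjW k k').2.2.1 ∧ ((e6TwAdjW k k').2.2.2 = 1 ∨ (e6TwAdjW k k').2.2.2 = -1) ∧
    cdE6.D.commTerms (cdE6.D.neg (cdE6.D.simple (e6TwAdjW k k').1))
        (cdE6.D.neg (cdE6.D.simple (e6TwAdjW k k').2.1)) =
      [((e6TwAdjW k k').2.2.1, (e6TwAdjW k k').2.2.2, 1, 1)] := by
  decide +kernel

/-- The data for the automorphisms of the twisted group of type E6. -/
def twE6W : TwAutHypG cdE6 relE6 where
  toTwHyp7 := twE6G
  hd2 := by decide
  oppN := fun i => ([5, 1, 4, 3, 2, 0] : List ℕ).getD i 0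
  hoppN := by decide +kernel
  hoppJ := by decide
  V := vecHypE6
  hVvec := rfl
  adj := e6TwAdj
  hnadj := by decide +kernel
  adjW := e6TwAdjW
  hadj := e6_hadj
  rigid := by decide +kernel

theorem e6_hcs : ∀ j < cdE6.D.rank, cdE6.D.cartan j (cdE6.D.neg (cdE6.D.simple j)) = -2 := by
  decide +kernel

theorem e6_cartan_vals :
    cdE6.D.cartan 3 (cdE6.D.simple 2) = -1 ∧ cdE6.D.cartan 3 (cdE6.D.simple 4) = -1 ∧
    cdE6.D.cartan 1 (cdE6.D.simple 3) = -1 ∧ cdE6.D.cartan 2 (cdE6.D.simple 0) = -1 ∧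
    cdE6.D.cartan 2 (cdE6.D.simple 5) = 0 ∧ cdE6.D.cartan 4 (cdE6.D.simple 0) = 0 ∧
    cdE6.D.cartan 4 (cdE6.D.simple 5) = -1 := by
  decide +kernel

section
variable {K : Type*} [Field K]

/-- The action of the diagonal elements of the class of the central node on the class of its two neighbours. -/
theorem e6_cross_a (φ : K →+* K) (t : K) (ht : φ t = t) (ht0 : t ≠ 0) (u : K) :
    hEJ relE6 φ [3] t * relE6.wordU (clsWord cdE6.D φ [2, 4] false u) * (hEJ relE6 φ [3] t)⁻¹ =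
      relE6.wordU (clsWord cdE6.D φ [2, 4] false (t⁻¹ * u)) := by
  have hmem : ([3] : List ℕ) ∈ twE6B.cls := by decide
  rw [hEJ_eq_hT twE6B φ e6_hcs [3] hmem t, relE6.hT_one, wordU_clsWord_two, wordU_clsWord_two,
    sgnRoot_false, sgnRoot_false]
  have h3 : (3 : ℕ) < cdE6.D.rank := by decide
  have h2 := relE6.hU_conj_xU (F := K) 3 (cdE6.D.simple 2) h3 (relE6.simple_lt 2 (by decide)) t ht0 u
  have h4 := relE6.hU_conj_xU (F := K) 3 (cdE6.D.simple 4) h3 (relE6.simple_lt 4 (by decide)) t ht0 (φ u)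
  rw [e6_cartan_vals.1, zpow_neg_one] at h2
  rw [e6_cartan_vals.2.1, zpow_neg_one] at h4
  have key : ∀ g x y : GL cdE6.D.Idx K, g * (x * y) * g⁻¹ = (g * x * g⁻¹) * (g * y * g⁻¹) := by
    intros; group
  have hti : φ t⁻¹ = t⁻¹ := by rw [map_inv₀, ht]
  rw [key, h2, h4, map_mul, hti]

/-- The action of the diagonal elements of the class of the other fixed node on the class of the central node. -/
theorem e6_cross_b (φ : K →+* K) (t : K) (ht0 : t ≠ 0) (u : K) :
    hEJ relE6 φ [1] t * relE6.wordU (clsWord cdE6.D φ [3] false u) * (hEJ relE6 φ [1] t)⁻¹ =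
      relE6.wordU (clsWord cdE6.D φ [3] false (t⁻¹ * u)) := by
  have hmem : ([1] : List ℕ) ∈ twE6B.cls := by decide
  rw [hEJ_eq_hT twE6B φ e6_hcs [1] hmem t, relE6.hT_one, wordU_clsWord_one, wordU_clsWord_one,
    sgnRoot_false]
  have h1 : (1 : ℕ) < cdE6.D.rank := by decide
  have h3 := relE6.hU_conj_xU (F := K) 1 (cdE6.D.simple 3) h1 (relE6.simple_lt 3 (by decide)) t ht0
  rw [e6_cartan_vals.2.2.1, zpow_neg_one] at h3
  exact h3 u

/-- The action of the diagonal elements of the class of the neighbours of the central node on the class of the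
end nodes. -/
theorem e6_cross_c (φ : K →+* K) (t : K) (ht0 : t ≠ 0) (u : K) :
    hEJ relE6 φ [2, 4] t * relE6.wordU (clsWord cdE6.D φ [0, 5] false u) * (hEJ relE6 φ [2, 4] t)⁻¹ =
      relE6.wordU (clsWord cdE6.D φ [0, 5] false (t⁻¹ * u)) := by
  have hmem : ([2, 4] : List ℕ) ∈ twE6B.cls := by decide
  rw [hEJ_eq_hT twE6B φ e6_hcs [2, 4] hmem t, relE6.hT_two, wordU_clsWord_two, wordU_clsWord_two,
    sgnRoot_false, sgnRoot_false]
  have hr2 : (2 : ℕ) < cdE6.D.rank := by decide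
  have hr4 : (4 : ℕ) < cdE6.D.rank := by decide
  have hφt0 : φ t ≠ 0 := (map_ne_zero φ).mpr ht0
  have h20 := relE6.hU_conj_xU (F := K) 2 (cdE6.D.simple 0) hr2 (relE6.simple_lt 0 (by decide)) t ht0 u
  have h25 := relE6.hU_conj_xU (F := K) 2 (cdE6.D.simple 5) hr2 (relE6.simple_lt 5 (by decide)) t ht0
    ((φ t)⁻¹ * φ u)
  have h40 := relE6.hU_conj_xU (F := K) 4 (cdE6.D.simple 0) hr4 (relE6.simple_lt 0 (by decide)) (φ t) hφt0 u
  have h45 := relE6.hU_conj_xU (F := K) 4 (cdE6.D.simple 5) hr4 (relE6.simple_lt 5 (by decide)) (φ t) hφt0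
    (φ u)
  rw [e6_cartan_vals.2.2.2.1, zpow_neg_one] at h20
  rw [e6_cartan_vals.2.2.2.2.1, zpow_zero, one_mul] at h25
  rw [e6_cartan_vals.2.2.2.2.2.1, zpow_zero, one_mul] at h40
  rw [e6_cartan_vals.2.2.2.2.2.2, zpow_neg_one] at h45
  have key : ∀ g g' x y : GL cdE6.D.Idx K,
      g * g' * (x * y) * (g * g')⁻¹ = (g * (g' * x * g'⁻¹) * g⁻¹) * (g * (g' * y * g'⁻¹) * g⁻¹) := by
    intros; group
  rw [key, h40, h45, h20, h25, map_mul, map_inv₀]

end

/-- A subgroup of prime power order whose index in a group is prime to the prime, the order of the group being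
given up to a factor: it is a Sylow subgroup. -/
theorem exists_sylow_of_card' {G₀ : Type*} [Group G₀] (Γ X : Subgroup G₀) [Finite Γ] (hX : X ≤ Γ) (p : ℕ)
    [Fact p.Prime] (n g M : ℕ) (hXc : Nat.card X = p ^ n) (hΓ : g * Nat.card Γ = p ^ n * M) (hM : ¬ p ∣ M) :
    ∃ S : Sylow p ↥Γ, (S : Subgroup ↥Γ) = X.subgroupOf Γ := by
  have hp : p.Prime := Fact.out
  obtain ⟨m, hm⟩ : Nat.card X ∣ Nat.card Γ := Subgroup.card_dvd_of_le hX
  rw [hXc] at hm
  apply exists_sylow_of_card Γ X hX p n m hXc hm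
  intro hd
  apply hM
  have e : p ^ n * (g * m) = p ^ n * M := by
    rw [← hΓ, hm]; ring
  have e' : g * m = M := Nat.eq_of_mul_eq_mul_left (pow_pos hp.pos n) e
  rw [← e']
  exact Dvd.dvd.mul_left hd g

section
variable {K : Type*} [Field K] [Fintype K]

/-- An automorphism preserving `U¹` and `V¹` and mapping `x_J(1)` to `x_J(1)` for the four classes `J` acts on
the generators as a field automorphism. -/
theorem e6_hfield (φ : K →+* K) {q : ℕ} (F : FrobHyp φ q twE6W.d) (θ : MulAut ↥(twE6W.grp φ))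
    (T : TwRootAct twE6W.toTwHyp2 φ θ) (hT : ∀ J ∈ twE6W.cls, T.f J 1 = 1) :
    ∃ ψ : K ≃+* K, ∀ J ∈ twE6W.cls, ∀ u, φ^[J.length] u = u → T.f J u = ψ u := by
  have ha : ([1] : List ℕ) ∈ twE6W.cls := by decide
  have hb : ([3] : List ℕ) ∈ twE6W.cls := by decide
  have hc : ([0, 5] : List ℕ) ∈ twE6W.cls := by decide
  have hd : ([2, 4] : List ℕ) ∈ twE6W.cls := by decide
  have hall : ∀ u : K, φ^[2] u = u := F.iter
  have hadd : ∀ x y, T.f [2, 4] (x + y) = T.f [2, 4] x + T.f [2, 4] y :=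
    fun x y => T.f_addG twE6W _ hd x y (hall x) (hall y)
  have h1 : T.f [2, 4] 1 = 1 := hT _ hd
  have hsq : ∀ t u, t ≠ 0 → T.f [2, 4] (t * t * u) = T.f [2, 4] t * T.f [2, 4] t * T.f [2, 4] u :=
    fun t u ht0 => T.f_sqG twE6W e6_hcs _ hd h1 t u (hall t) (hall u) ht0
  have hmul := mul_of_sq (T.f [2, 4]) hadd hsq h1
  have hinj : Function.Injective (T.f [2, 4]) := fun x y e => T.f_injG twE6W _ hd x y (hall x) (hall y) e
  let ψ₀ : K →+* K :=
    { toFun := T.f [2, 4]
      map_one' := h1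
      map_mul' := hmul
      map_zero' := T.f_zeroG twE6W _ hd
      map_add' := hadd }
  have hbij : Function.Bijective ψ₀ := ⟨hinj, Finite.injective_iff_surjective.mp hinj⟩
  have hψinv : ∀ u : K, T.f [2, 4] u⁻¹ = (T.f [2, 4] u)⁻¹ := fun u => map_inv₀ ψ₀ u
  -- the class of the central node
  have h3 : ∀ u : K, φ u = u → T.f [3] u = T.f [2, 4] u := by
    intro u hu
    by_cases hu0 : u = 0
    · rw [hu0, T.f_zeroG twE6W _ hb, T.f_zeroG twE6W _ hd]
    · have e := T.f_chiG twE6W e6_hcs [3] [2, 4] hb hd (hT _ hb) (fun t => t⁻¹)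
        (fun t _ _ => hall _)
        (fun t ht ht0 v _ => e6_cross_a φ t ht ht0 v) u 1 hu hu0 (hall 1)
      rw [mul_one, h1, mul_one, hψinv] at e
      exact (inv_injective e).symm
  refine ⟨RingEquiv.ofBijective ψ₀ hbij, ?_⟩
  intro J hJ u hu
  have hcases : J = [1] ∨ J = [3] ∨ J = [0, 5] ∨ J = [2, 4] := by
    change J ∈ [[1], [3], [0, 5], [2, 4]] at hJ
    simpa using hJ
  rcases hcases with rfl | rfl | rfl | rfl
  · show T.f [1] u = T.f [2, 4] u
    by_cases hu0 : u = 0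
    · rw [hu0, T.f_zeroG twE6W _ ha, T.f_zeroG twE6W _ hd]
    · have hu' : φ u = u := hu
      have hui : φ u⁻¹ = u⁻¹ := by rw [map_inv₀, hu']
      have e := T.f_chiG twE6W e6_hcs [1] [3] ha hb (hT _ ha) (fun t => t⁻¹)
        (fun t ht _ => by
          have ht' : φ t = t := ht
          show φ t⁻¹ = t⁻¹
          rw [map_inv₀, ht'])
        (fun t _ ht0 v _ => e6_cross_b φ t ht0 v) u 1 hu hu0 (by show φ 1 = 1; exact map_one φ)
      rw [mul_one, hT _ hb, mul_one, h3 _ hui, hψinv] at e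
      exact (inv_injective e).symm
  · exact h3 u hu
  · show T.f [0, 5] u = T.f [2, 4] u
    by_cases hu0 : u = 0
    · rw [hu0, T.f_zeroG twE6W _ hc, T.f_zeroG twE6W _ hd]
    · have e := T.f_chiG twE6W e6_hcs [2, 4] [0, 5] hd hc h1 (fun t => t⁻¹)
        (fun t _ _ => hall _)
        (fun t _ ht0 v _ => e6_cross_c φ t ht0 v) u⁻¹ 1 (hall _) (inv_ne_zero hu0) (hall 1)
      rw [mul_one, hT _ hc, mul_one, inv_inv, hψinv, inv_inv] at e
      exact e
  · rfl

/-- The subgroup `U¹` is a Sylow subgroup of the twisted group of type E6. -/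
theorem e6_sylow (p f q : ℕ) [Fact p.Prime] (hf : 1 ≤ f) (hq : q = p ^ f) (φ : K →+* K)
    (hφ : ∀ t, φ t = t ^ q)
    (hφ1 : Nat.card {x : K // φ x = x} = q) (hφd : ∀ x : K, φ^[2] x = x) (hK : Fintype.card K = q ^ 2) :
    ∃ S : Sylow p ↥(twE6W.grp φ),
      (S : Subgroup ↥(twE6W.grp φ)) = (cdE6.D.posUnipotent K ⊓ twE6W.grp φ).subgroupOf (twE6W.grp φ) := by
  have hp : p.Prime := Fact.out
  have hcard : Nat.gcd 3 (q + 1) * Nat.card ↥(twE6W.grp φ) = _ := e6_tw_card φ q hφ hφ1 hφd hK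
  have hU : Nat.card ↥(cdE6.D.posUnipotent K ⊓ twE6W.grp φ) = q ^ 36 :=
    twE6A.card_posUnipotent_inf φ q hφ1 hφd (by rw [Nat.card_eq_fintype_card, hK]; rfl)
  apply exists_sylow_of_card' (twE6W.grp φ) (cdE6.D.posUnipotent K ⊓ twE6W.grp φ) inf_le_right p (f * 36)
    (Nat.gcd 3 (q + 1))
    (((q - 1) ^ 4 * (q + 1) ^ 2) *
      (([0, 2, 4, 5, 7, 6, 9, 8, 10, 9, 11, 11, 13, 13, 15, 14, 16, 15, 18, 17, 19, 20, 22, 24].map
          fun e => q ^ e).sum *
        ([0, 2, 3, 5, 4, 6, 7, 9].map fun e => q ^ e).sum *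
        ([0, 1, 2].map fun e => q ^ e).sum *
        ([0, 1].map fun e => q ^ e).sum))
  · rw [hU, hq, ← pow_mul]
  · rw [hcard, hq, ← pow_mul, mul_assoc]
  · have hpq : p ∣ q := by rw [hq]; exact dvd_pow_self p (by omega)
    have hq1 : 1 ≤ q := by rw [hq]; exact Nat.one_le_pow _ _ hp.pos
    have hnd : ∀ k, ¬ p ∣ q * k + 1 := fun k hd =>
      hp.one_lt.ne' (Nat.dvd_one.mp ((Nat.dvd_add_right (Dvd.dvd.mul_right hpq k)).mp hd))
    have hnd' : ¬ p ∣ q - 1 := by
      intro hd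
      have : p ∣ q - (q - 1) := Nat.dvd_sub hpq hd
      rw [show q - (q - 1) = 1 by omega] at this
      exact hp.one_lt.ne' (Nat.dvd_one.mp this)
    intro hd
    rcases (Nat.Prime.dvd_mul hp).mp hd with h | h
    · rcases (Nat.Prime.dvd_mul hp).mp h with h | h
      · exact hnd' (hp.dvd_of_dvd_pow h)
      · have h' := hp.dvd_of_dvd_pow h
        rw [show q + 1 = q * 1 + 1 by ring] at h'
        exact hnd _ h'
    · rcases (Nat.Prime.dvd_mul hp).mp h with h | h
      · rcases (Nat.Prime.dvd_mul hp).mp h with h | h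
        · rcases (Nat.Prime.dvd_mul hp).mp h with h | h
          · have e : ([0, 2, 4, 5, 7, 6, 9, 8, 10, 9, 11, 11, 13, 13, 15, 14, 16, 15, 18, 17, 19, 20, 22, 24].map
                fun e => q ^ e).sum =
                q * (q + q ^ 3 + q ^ 4 + q ^ 6 + q ^ 5 + q ^ 8 + q ^ 7 + q ^ 9 + q ^ 8 + q ^ 10 + q ^ 10 + q ^ 12 +
                  q ^ 12 + q ^ 14 + q ^ 13 + q ^ 15 + q ^ 14 + q ^ 17 + q ^ 16 + q ^ 18 + q ^ 19 + q ^ 21 +
                  q ^ 23) + 1 := by
              simp only [List.map_cons, List.map_nil, List.sum_cons, List.sum_nil]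
              ring
            rw [e] at h
            exact hnd _ h
          · have e : ([0, 2, 3, 5, 4, 6, 7, 9].map fun e => q ^ e).sum =
                q * (q + q ^ 2 + q ^ 4 + q ^ 3 + q ^ 5 + q ^ 6 + q ^ 8) + 1 := by
              simp only [List.map_cons, List.map_nil, List.sum_cons, List.sum_nil]
              ring
            rw [e] at h
            exact hnd _ h
        · have e : ([0, 1, 2].map fun e => q ^ e).sum = q * (1 + q) + 1 := by
            simp only [List.map_cons, List.map_nil, List.sum_cons, List.sum_nil]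
            ring
          rw [e] at h
          exact hnd _ h
      · have e : ([0, 1].map fun e => q ^ e).sum = q * 1 + 1 := by
          simp only [List.map_cons, List.map_nil, List.sum_cons, List.sum_nil]
          ring
        rw [e] at h
        exact hnd _ h

/-- The order of the outer automorphism group of the twisted groups of type E6. -/
theorem e6_card_out (p f : ℕ) [Fact p.Prime] [CharP K p] (hK : Fintype.card K = p ^ (2 * f)) (hf : 1 ≤ f) :
    Nat.card (Cfsg.Out ↥(Cfsg.Lie.twistedE6 K (p ^ f))) = 2 * Nat.gcd 3 (p ^ f + 1) * f := by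
  have hp : p.Prime := Fact.out
  have hq : IsPrimePow (p ^ f) := ⟨p, f, hp.prime, by omega, rfl⟩
  have hK' : Fintype.card K = (p ^ f) ^ 2 := by rw [hK, ← pow_mul, mul_comm]
  obtain ⟨φ, hφ, hφd, hφ1⟩ := exists_frob K (p ^ f) 2 hq (by norm_num) hK'
  have e : Cfsg.Lie.twistedE6 K (p ^ f) = twE6W.grp φ := twistedE6_eq'' K (p ^ f) φ hφ (fun t => hφd t)
  rw [e]
  have F : FrobHyp φ (p ^ f) twE6W.d :=
    ⟨hφ1, hφd, by rw [Nat.card_eq_fintype_card, hK']; rfl, Nat.one_lt_pow (by omega) hp.one_lt⟩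
  have key := card_out_diag_tw twE6W φ F e6_hcs ⟨[0, 5], by decide, rfl⟩
    (fun ψ t => by rw [hφ, hφ, map_pow]) p (e6_sylow p f (p ^ f) hf rfl φ hφ hφ1 hφd hK')
    (e6_hfield φ F)
  have hker : Nat.card (twE6W.kerFix φ) = Nat.gcd 3 (p ^ f + 1) := e6_card_kerFix φ (p ^ f) hφ hK'
  have haut : Nat.card (K ≃+* K) = 2 * f := card_ringAut_prime p (by rw [Nat.card_eq_fintype_card, hK])
  rw [hker, haut] at key
  exact key.trans (by ring)

end

end Cfsg.Agent.Lib.Helper3.TwAut
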