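import Cfsg.Agent.Lib.Helper3.TwInv10
set_option autoImplicit false
set_option linter.unusedSectionVars false
set_option linter.unusedVariables false
set_option linter.unusedSimpArgs false

/-!
The fusion of four orthogonal roots of a subsystem of type `D₄` with three of them, with an explicit conjugating
element, and its version for fixed roots under the fixed points of the twisting map.
-/

namespace Cfsg.Agent.Lib.Helper3.SLInv

namespace SLSys

variable {G : Type*} [Group G] {F : Type*} [Field F] {l : ℕ} (S : SLSys G F l)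

set_option maxHeartbeats 1600000 in
theorem d4_fuse_g {a b e d : Vec l} (ha : a ∈ S.roots) (hb : b ∈ S.roots) (he : e ∈ S.roots) (hd : d ∈ S.roots)
    (hab : S.B a b = 0) (hae : S.B a e = 0) (hbe : S.B b e = 0)
    (hda : S.B d a = -1) (hdb : S.B d b = -1) (hde : S.B d e = -1) :
    d + d + a + b + e ∈ S.roots ∧ d + e ∈ S.roots ∧ d + b ∈ S.roots ∧ d + a ∈ S.roots ∧
      (S.x (d + e) 1 * S.x b 1 * S.x (d + b) 1 * S.x (d + a) 1) * (S.x a 1 * S.x b 1 * S.x e 1) *
        (S.x (d + e) 1 * S.x b 1 * S.x (d + b) 1 * S.x (d + a) 1)⁻¹ =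
      S.x a 1 * S.x b 1 * S.x e 1 * S.x (d + d + a + b + e) 1 := by
  have haa := S.B_self a ha
  have hbb := S.B_self b hb
  have hee := S.B_self e he
  have hdd := S.B_self d hd
  have hba : S.B b a = 0 := by rw [S.B_symm]; exact hab
  have hea : S.B e a = 0 := by rw [S.B_symm]; exact hae
  have heb : S.B e b = 0 := by rw [S.B_symm]; exact hbe
  have had : S.B a d = -1 := by rw [S.B_symm]; exact hda
  have hbd : S.B b d = -1 := by rw [S.B_symm]; exact hdb
  have hed : S.B e d = -1 := by rw [S.B_symm]; exact hde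
  -- the roots
  have hp : d + a ∈ S.roots := S.add_mem d hd a ha hda
  have hqb : d + b ∈ S.roots := S.add_mem d hd b hb hdb
  have hpe : d + e ∈ S.roots := S.add_mem d hd e he hde
  have hAB : d + a + b ∈ S.roots := S.add_mem (d + a) hp b hb (by
    simp only [S.B_add_left, S.B_add_right, haa, hbb, hee, hdd, hab, hba, hae, hea, hbe, heb, hda, had, hdb, hbd, hde, hed]; norm_num)
  have hAE : d + a + e ∈ S.roots := S.add_mem (d + a) hp e he (by
    simp only [S.B_add_left, S.B_add_right, haa, hbb, hee, hdd, hab, hba, hae, hea, hbe, heb, hda, had, hdb, hbd, hde, hed]; norm_num)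
  have hBE : d + b + e ∈ S.roots := S.add_mem (d + b) hqb e he (by
    simp only [S.B_add_left, S.B_add_right, haa, hbb, hee, hdd, hab, hba, hae, hea, hbe, heb, hda, had, hdb, hbd, hde, hed]; norm_num)
  have hF : d + a + b + e ∈ S.roots := S.add_mem (d + a + b) hAB e he (by
    simp only [S.B_add_left, S.B_add_right, haa, hbb, hee, hdd, hab, hba, hae, hea, hbe, heb, hda, had, hdb, hbd, hde, hed]; norm_num)
  have hG : d + d + a + b + e ∈ S.roots := by
    have := S.add_mem d hd (d + a + b + e) hF (by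
      simp only [S.B_add_left, S.B_add_right, haa, hbb, hee, hdd, hab, hba, hae, hea, hbe, heb, hda, had, hdb, hbd, hde, hed]; norm_num)
    rwa [show d + (d + a + b + e) = d + d + a + b + e by abel] at this
  refine ⟨hG, hpe, hqb, hp, ?_⟩
  -- first conjugation, by the root element of `d + a`
  have c1a : S.x (d + a) 1 * S.x a 1 * (S.x (d + a) 1)⁻¹ = S.x a (1 : F) := S.conj_comm ha hp (by
    simp only [S.B_add_left, S.B_add_right, haa, hbb, hee, hdd, hab, hba, hae, hea, hbe, heb, hda, had, hdb, hbd, hde, hed]; norm_num) 1 1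
  have c1b : S.x (d + a) 1 * S.x b 1 * (S.x (d + a) 1)⁻¹ = S.x b (1 : F) * S.x (d + a + b) 1 := by
    have := S.conj_add hb hp (by
      simp only [S.B_add_left, S.B_add_right, haa, hbb, hee, hdd, hab, hba, hae, hea, hbe, heb, hda, had, hdb, hbd, hde, hed]; norm_num) (1 : F) 1
    rwa [mul_one, show b + (d + a) = d + a + b by abel] at this
  have c1e : S.x (d + a) 1 * S.x e 1 * (S.x (d + a) 1)⁻¹ = S.x e (1 : F) * S.x (d + a + e) 1 := by
    have := S.conj_add he hp (by
      simp only [S.B_add_left, S.B_add_right, haa, hbb, hee, hdd, hab, hba, hae, hea, hbe, heb, hda, had, hdb, hbd, hde, hed]; norm_num) (1 : F) 1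
    rwa [mul_one, show e + (d + a) = d + a + e by abel] at this
  have t1 : S.x (d + a) 1 * (S.x a 1 * S.x b 1 * S.x e 1) * (S.x (d + a) 1)⁻¹ =
      S.x a (1 : F) * (S.x b 1 * S.x (d + a + b) 1) * (S.x e 1 * S.x (d + a + e) 1) := by
    rw [conj_mul_conj (S.x (d + a) 1), conj_mul_conj (S.x (d + a) 1), c1a, c1b, c1e]
  -- second conjugation, by the root element of `d + b`
  have c2a : S.x (d + b) 1 * S.x a 1 * (S.x (d + b) 1)⁻¹ = S.x a (1 : F) * S.x (d + a + b) 1 := by
    have := S.conj_add ha hqb (by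
      simp only [S.B_add_left, S.B_add_right, haa, hbb, hee, hdd, hab, hba, hae, hea, hbe, heb, hda, had, hdb, hbd, hde, hed]; norm_num) (1 : F) 1
    rwa [mul_one, show a + (d + b) = d + a + b by abel] at this
  have c2b : S.x (d + b) 1 * S.x b 1 * (S.x (d + b) 1)⁻¹ = S.x b (1 : F) := S.conj_comm hb hqb (by
    simp only [S.B_add_left, S.B_add_right, haa, hbb, hee, hdd, hab, hba, hae, hea, hbe, heb, hda, had, hdb, hbd, hde, hed]; norm_num) 1 1
  have c2ab : S.x (d + b) 1 * S.x (d + a + b) 1 * (S.x (d + b) 1)⁻¹ = S.x (d + a + b) (1 : F) :=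
    S.conj_comm hAB hqb (by
    simp only [S.B_add_left, S.B_add_right, haa, hbb, hee, hdd, hab, hba, hae, hea, hbe, heb, hda, had, hdb, hbd, hde, hed]; norm_num) 1 1
  have c2e : S.x (d + b) 1 * S.x e 1 * (S.x (d + b) 1)⁻¹ = S.x e (1 : F) * S.x (d + b + e) 1 := by
    have := S.conj_add he hqb (by
      simp only [S.B_add_left, S.B_add_right, haa, hbb, hee, hdd, hab, hba, hae, hea, hbe, heb, hda, had, hdb, hbd, hde, hed]; norm_num) (1 : F) 1
    rwa [mul_one, show e + (d + b) = d + b + e by abel] at this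
  have c2ae : S.x (d + b) 1 * S.x (d + a + e) 1 * (S.x (d + b) 1)⁻¹ =
      S.x (d + a + e) (1 : F) * S.x (d + d + a + b + e) 1 := by
    have := S.conj_add hAE hqb (by
      simp only [S.B_add_left, S.B_add_right, haa, hbb, hee, hdd, hab, hba, hae, hea, hbe, heb, hda, had, hdb, hbd, hde, hed]; norm_num) (1 : F) 1
    rwa [mul_one, show d + a + e + (d + b) = d + d + a + b + e by abel] at this
  have k_ab_b : S.x (d + a + b) 1 * S.x b 1 = S.x b (1 : F) * S.x (d + a + b) 1 :=
    S.x_comm _ hAB b hb (by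
    simp only [S.B_add_left, S.B_add_right, haa, hbb, hee, hdd, hab, hba, hae, hea, hbe, heb, hda, had, hdb, hbd, hde, hed]; norm_num) 1 1
  have t2 : S.x (d + b) 1 * (S.x a (1 : F) * (S.x b 1 * S.x (d + a + b) 1) * (S.x e 1 * S.x (d + a + e) 1)) *
      (S.x (d + b) 1)⁻¹ =
      S.x a (1 : F) * S.x b 1 * (S.x e 1 * S.x (d + b + e) 1 * (S.x (d + a + e) 1 * S.x (d + d + a + b + e) 1)) := by
    rw [conj_mul_conj (S.x (d + b) 1), conj_mul_conj (S.x (d + b) 1), conj_mul_conj (S.x (d + b) 1) (S.x b 1),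
      conj_mul_conj (S.x (d + b) 1) (S.x e 1), c2a, c2b, c2ab, c2e, c2ae]
    have hsq := S.x_sq hAB (1 : F)
    calc S.x a 1 * S.x (d + a + b) 1 * (S.x b 1 * S.x (d + a + b) 1) *
          (S.x e 1 * S.x (d + b + e) 1 * (S.x (d + a + e) 1 * S.x (d + d + a + b + e) 1))
        = S.x a 1 * (S.x (d + a + b) 1 * S.x b 1) * S.x (d + a + b) 1 *
          (S.x e 1 * S.x (d + b + e) 1 * (S.x (d + a + e) 1 * S.x (d + d + a + b + e) 1)) := by group
      _ = S.x a 1 * S.x b 1 * (S.x (d + a + b) 1 * S.x (d + a + b) 1) *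
          (S.x e 1 * S.x (d + b + e) 1 * (S.x (d + a + e) 1 * S.x (d + d + a + b + e) 1)) := by
            rw [k_ab_b]; group
      _ = _ := by rw [hsq, mul_one]
  -- third conjugation, by the root element of `b`
  have c3a : S.x b 1 * S.x a 1 * (S.x b 1)⁻¹ = S.x a (1 : F) := S.conj_comm ha hb (by omega) 1 1
  have c3b : S.x b 1 * S.x b 1 * (S.x b 1)⁻¹ = S.x b (1 : F) := by group
  have c3e : S.x b 1 * S.x e 1 * (S.x b 1)⁻¹ = S.x e (1 : F) := S.conj_comm he hb (by omega) 1 1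
  have c3be : S.x b 1 * S.x (d + b + e) 1 * (S.x b 1)⁻¹ = S.x (d + b + e) (1 : F) := S.conj_comm hBE hb (by
    simp only [S.B_add_left, S.B_add_right, haa, hbb, hee, hdd, hab, hba, hae, hea, hbe, heb, hda, had, hdb, hbd, hde, hed]; norm_num) 1 1
  have c3ae : S.x b 1 * S.x (d + a + e) 1 * (S.x b 1)⁻¹ = S.x (d + a + e) (1 : F) * S.x (d + a + b + e) 1 := by
    have := S.conj_add hAE hb (by
      simp only [S.B_add_left, S.B_add_right, haa, hbb, hee, hdd, hab, hba, hae, hea, hbe, heb, hda, had, hdb, hbd, hde, hed]; norm_num) (1 : F) 1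
    rwa [mul_one, show d + a + e + b = d + a + b + e by abel] at this
  have c3g : S.x b 1 * S.x (d + d + a + b + e) 1 * (S.x b 1)⁻¹ = S.x (d + d + a + b + e) (1 : F) :=
    S.conj_comm hG hb (by
    simp only [S.B_add_left, S.B_add_right, haa, hbb, hee, hdd, hab, hba, hae, hea, hbe, heb, hda, had, hdb, hbd, hde, hed]; norm_num) 1 1
  have t3 : S.x b 1 * (S.x a (1 : F) * S.x b 1 *
      (S.x e 1 * S.x (d + b + e) 1 * (S.x (d + a + e) 1 * S.x (d + d + a + b + e) 1))) * (S.x b 1)⁻¹ =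
      S.x a (1 : F) * S.x b 1 * (S.x e 1 * S.x (d + b + e) 1 *
        (S.x (d + a + e) 1 * S.x (d + a + b + e) 1 * S.x (d + d + a + b + e) 1)) := by
    rw [conj_mul_conj (S.x b 1), conj_mul_conj (S.x b 1) (S.x a 1), conj_mul_conj (S.x b 1) (S.x e 1 * S.x (d + b + e) 1),
      conj_mul_conj (S.x b 1) (S.x e 1), conj_mul_conj (S.x b 1) (S.x (d + a + e) 1), c3a, c3b, c3e, c3be, c3ae, c3g]
  -- fourth conjugation, by the root element of `d + e`
  have c4a : S.x (d + e) 1 * S.x a 1 * (S.x (d + e) 1)⁻¹ = S.x a (1 : F) * S.x (d + a + e) 1 := by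
    have := S.conj_add ha hpe (by
      simp only [S.B_add_left, S.B_add_right, haa, hbb, hee, hdd, hab, hba, hae, hea, hbe, heb, hda, had, hdb, hbd, hde, hed]; norm_num) (1 : F) 1
    rwa [mul_one, show a + (d + e) = d + a + e by abel] at this
  have c4b : S.x (d + e) 1 * S.x b 1 * (S.x (d + e) 1)⁻¹ = S.x b (1 : F) * S.x (d + b + e) 1 := by
    have := S.conj_add hb hpe (by
      simp only [S.B_add_left, S.B_add_right, haa, hbb, hee, hdd, hab, hba, hae, hea, hbe, heb, hda, had, hdb, hbd, hde, hed]; norm_num) (1 : F) 1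
    rwa [mul_one, show b + (d + e) = d + b + e by abel] at this
  have c4e : S.x (d + e) 1 * S.x e 1 * (S.x (d + e) 1)⁻¹ = S.x e (1 : F) := S.conj_comm he hpe (by
    simp only [S.B_add_left, S.B_add_right, haa, hbb, hee, hdd, hab, hba, hae, hea, hbe, heb, hda, had, hdb, hbd, hde, hed]; norm_num) 1 1
  have c4be : S.x (d + e) 1 * S.x (d + b + e) 1 * (S.x (d + e) 1)⁻¹ = S.x (d + b + e) (1 : F) :=
    S.conj_comm hBE hpe (by
    simp only [S.B_add_left, S.B_add_right, haa, hbb, hee, hdd, hab, hba, hae, hea, hbe, heb, hda, had, hdb, hbd, hde, hed]; norm_num) 1 1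
  have c4ae : S.x (d + e) 1 * S.x (d + a + e) 1 * (S.x (d + e) 1)⁻¹ = S.x (d + a + e) (1 : F) :=
    S.conj_comm hAE hpe (by
    simp only [S.B_add_left, S.B_add_right, haa, hbb, hee, hdd, hab, hba, hae, hea, hbe, heb, hda, had, hdb, hbd, hde, hed]; norm_num) 1 1
  have c4f : S.x (d + e) 1 * S.x (d + a + b + e) 1 * (S.x (d + e) 1)⁻¹ = S.x (d + a + b + e) (1 : F) :=
    S.conj_comm hF hpe (by
    simp only [S.B_add_left, S.B_add_right, haa, hbb, hee, hdd, hab, hba, hae, hea, hbe, heb, hda, had, hdb, hbd, hde, hed]; norm_num) 1 1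
  have c4g : S.x (d + e) 1 * S.x (d + d + a + b + e) 1 * (S.x (d + e) 1)⁻¹ = S.x (d + d + a + b + e) (1 : F) :=
    S.conj_comm hG hpe (by
    simp only [S.B_add_left, S.B_add_right, haa, hbb, hee, hdd, hab, hba, hae, hea, hbe, heb, hda, had, hdb, hbd, hde, hed]; norm_num) 1 1
  -- commutation facts for the last simplification
  have k1 : S.x (d + b + e) 1 * S.x e 1 = S.x e (1 : F) * S.x (d + b + e) 1 := S.x_comm _ hBE e he (by
    simp only [S.B_add_left, S.B_add_right, haa, hbb, hee, hdd, hab, hba, hae, hea, hbe, heb, hda, had, hdb, hbd, hde, hed]; norm_num) 1 1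
  have k2 : S.x (d + a + e) 1 * S.x e 1 = S.x e (1 : F) * S.x (d + a + e) 1 := S.x_comm _ hAE e he (by
    simp only [S.B_add_left, S.B_add_right, haa, hbb, hee, hdd, hab, hba, hae, hea, hbe, heb, hda, had, hdb, hbd, hde, hed]; norm_num) 1 1
  have k3 : S.x (d + a + e) 1 * S.x b 1 = S.x b (1 : F) * S.x (d + a + e) 1 * S.x (d + a + b + e) 1 := by
    have := S.x_comm_add b hb (d + a + e) hAE (by
      simp only [S.B_add_left, S.B_add_right, haa, hbb, hee, hdd, hab, hba, hae, hea, hbe, heb, hda, had, hdb, hbd, hde, hed]; norm_num) (1 : F) 1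
    rwa [mul_one, show b + (d + a + e) = d + a + b + e by abel] at this
  have k4 : S.x (d + a + b + e) 1 * S.x e 1 = S.x e (1 : F) * S.x (d + a + b + e) 1 := S.x_comm _ hF e he (by
    simp only [S.B_add_left, S.B_add_right, haa, hbb, hee, hdd, hab, hba, hae, hea, hbe, heb, hda, had, hdb, hbd, hde, hed]; norm_num) 1 1
  have k5 : S.x (d + a + e) 1 * S.x (d + a + b + e) 1 = S.x (d + a + b + e) (1 : F) * S.x (d + a + e) 1 :=
    S.x_comm _ hAE _ hF (by
    simp only [S.B_add_left, S.B_add_right, haa, hbb, hee, hdd, hab, hba, hae, hea, hbe, heb, hda, had, hdb, hbd, hde, hed]; norm_num) 1 1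
  have t4 : S.x (d + e) 1 * (S.x a (1 : F) * S.x b 1 * (S.x e 1 * S.x (d + b + e) 1 *
        (S.x (d + a + e) 1 * S.x (d + a + b + e) 1 * S.x (d + d + a + b + e) 1))) * (S.x (d + e) 1)⁻¹ =
      S.x a (1 : F) * S.x b 1 * S.x e 1 * S.x (d + d + a + b + e) 1 := by
    rw [conj_mul_conj (S.x (d + e) 1), conj_mul_conj (S.x (d + e) 1) (S.x a 1),
      conj_mul_conj (S.x (d + e) 1) (S.x e 1 * S.x (d + b + e) 1),
      conj_mul_conj (S.x (d + e) 1) (S.x e 1), conj_mul_conj (S.x (d + e) 1) (S.x (d + a + e) 1 * S.x (d + a + b + e) 1),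
      conj_mul_conj (S.x (d + e) 1) (S.x (d + a + e) 1), c4a, c4b, c4e, c4be, c4ae, c4f, c4g]
    have s1 := S.x_sq hBE (1 : F)
    have s2 := S.x_sq hAE (1 : F)
    have s3 := S.x_sq hF (1 : F)
    calc S.x a 1 * S.x (d + a + e) 1 * (S.x b 1 * S.x (d + b + e) 1) * (S.x e 1 * S.x (d + b + e) 1 *
          (S.x (d + a + e) 1 * S.x (d + a + b + e) 1 * S.x (d + d + a + b + e) 1))
        = S.x a 1 * (S.x (d + a + e) 1 * S.x b 1) * (S.x (d + b + e) 1 * S.x e 1) * S.x (d + b + e) 1 *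
          S.x (d + a + e) 1 * S.x (d + a + b + e) 1 * S.x (d + d + a + b + e) 1 := by group
      _ = S.x a 1 * S.x b 1 * S.x (d + a + e) 1 * S.x (d + a + b + e) 1 * S.x e 1 *
          (S.x (d + b + e) 1 * S.x (d + b + e) 1) *
          S.x (d + a + e) 1 * S.x (d + a + b + e) 1 * S.x (d + d + a + b + e) 1 := by rw [k3, k1]; group
      _ = S.x a 1 * S.x b 1 * S.x (d + a + e) 1 * (S.x (d + a + b + e) 1 * S.x e 1) *
          S.x (d + a + e) 1 * S.x (d + a + b + e) 1 * S.x (d + d + a + b + e) 1 := by rw [s1]; group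
      _ = S.x a 1 * S.x b 1 * (S.x (d + a + e) 1 * S.x e 1) * S.x (d + a + b + e) 1 *
          S.x (d + a + e) 1 * S.x (d + a + b + e) 1 * S.x (d + d + a + b + e) 1 := by rw [k4]; group
      _ = S.x a 1 * S.x b 1 * S.x e 1 * (S.x (d + a + e) 1 * S.x (d + a + b + e) 1) *
          S.x (d + a + e) 1 * S.x (d + a + b + e) 1 * S.x (d + d + a + b + e) 1 := by rw [k2]; group
      _ = S.x a 1 * S.x b 1 * S.x e 1 * S.x (d + a + b + e) 1 * (S.x (d + a + e) 1 *
          S.x (d + a + e) 1) * S.x (d + a + b + e) 1 * S.x (d + d + a + b + e) 1 := by rw [k5]; group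
      _ = S.x a 1 * S.x b 1 * S.x e 1 * (S.x (d + a + b + e) 1 * S.x (d + a + b + e) 1) *
          S.x (d + d + a + b + e) 1 := by rw [s2]; group
      _ = _ := by rw [s3, mul_one]
  rw [← t4, ← t3, ← t2, ← t1]
  group


end SLSys

namespace TwSys

variable {G : Type*} [Group G] {F : Type*} [Field F] {l : ℕ} {S : SLSys G F l} (W : TwSys S)

/-- the fusion of four fixed orthogonal roots of a subsystem of type `D₄` with three of them -/
theorem d4_fuseσ {a b e d : Vec l} (ha : a ∈ S.roots) (hb : b ∈ S.roots) (he : e ∈ S.roots) (hd : d ∈ S.roots)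
    (hρa : W.ρ a = a) (hρb : W.ρ b = b) (hρe : W.ρ e = e) (hρd : W.ρ d = d)
    (hab : S.B a b = 0) (hae : S.B a e = 0) (hbe : S.B b e = 0)
    (hda : S.B d a = -1) (hdb : S.B d b = -1) (hde : S.B d e = -1)
    (R : List (Vec l)) (hR : ∀ o ∈ R, o ∈ S.roots ∧ S.B a o = 0 ∧ S.B b o = 0 ∧ S.B e o = 0 ∧ S.B d o = 0) :
    d + d + a + b + e ∈ S.roots ∧ W.Cjσ (a :: b :: e :: R) ((d + d + a + b + e) :: a :: b :: e :: R) := by
  obtain ⟨hG, hpe, hqb, hp, e1⟩ := S.d4_fuse_g ha hb he hd hab hae hbe hda hdb hde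
  refine ⟨hG, ?_⟩
  set k := S.x (d + e) 1 * S.x b 1 * S.x (d + b) 1 * S.x (d + a) 1 with hk
  have hkσ : W.σ k = k := by
    rw [hk, map_mul, map_mul, map_mul, W.σ_x _ hpe, W.σ_x _ hb, W.σ_x _ hqb, W.σ_x _ hp, W.ρ_add, W.ρ_add, W.ρ_add,
      hρa, hρb, hρe, hρd, map_one]
  have mem : ∀ {v : Vec l}, v ∈ S.roots → (∀ o ∈ R, S.B v o = 0) → S.x v (1 : F) ∈ S.GT R :=
    fun hv hvp => S.x_mem_GT hv hvp 1
  have hkR : k ∈ S.GT R := by
    rw [hk]
    refine Subgroup.mul_mem _ (Subgroup.mul_mem _ (Subgroup.mul_mem _ (mem hpe ?_) (mem hb ?_)) (mem hqb ?_)) (mem hp ?_)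
    · intro o ho; obtain ⟨-, h1, h2, h3, h4⟩ := hR o ho; rw [S.B_add_left, h4, h3]; rfl
    · intro o ho; exact (hR o ho).2.2.1
    · intro o ho; obtain ⟨-, h1, h2, h3, h4⟩ := hR o ho; rw [S.B_add_left, h4, h2]; rfl
    · intro o ho; obtain ⟨-, h1, h2, h3, h4⟩ := hR o ho; rw [S.B_add_left, h4, h1]; rfl
  have hk0 : k ∈ S.GT [] := TwSys.GT_le_nil R hkR
  have hcomm : k * S.xs R = S.xs R * k := (S.perp_comm (fun o ho => (hR o ho).1) hkR).2.1
  refine ⟨k, hk0, hkσ, ?_⟩
  simp only [SLSys.xs_cons]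
  have haa := S.B_self a ha
  have hbb := S.B_self b hb
  have hee := S.B_self e he
  have hba : S.B b a = 0 := by rw [S.B_symm]; exact hab
  have hea : S.B e a = 0 := by rw [S.B_symm]; exact hae
  have heb : S.B e b = 0 := by rw [S.B_symm]; exact hbe
  have c1 := S.x_comm _ hG _ ha (by
    simp only [S.B_add_left, haa, hab, hba, hae, hea, hbe, heb, hda, hdb, hde]; norm_num) (1 : F) 1
  have c2 := S.x_comm _ hG _ hb (by
    simp only [S.B_add_left, hbb, hab, hba, hae, hea, hbe, heb, hda, hdb, hde]; norm_num) (1 : F) 1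
  have c3 := S.x_comm _ hG _ he (by
    simp only [S.B_add_left, hee, hab, hba, hae, hea, hbe, heb, hda, hdb, hde]; norm_num) (1 : F) 1
  set A := S.x a 1
  set B := S.x b 1
  set E := S.x e 1
  set Gm := S.x (d + d + a + b + e) 1
  set X := S.xs R
  calc k * (A * (B * (E * X))) * k⁻¹ = (k * (A * B * E) * k⁻¹) * (k * X) * k⁻¹ := by group
    _ = (A * B * E * Gm) * (X * k) * k⁻¹ := by rw [e1, hcomm]
    _ = A * B * (E * Gm) * X := by group
    _ = A * (B * Gm) * E * X := by rw [← c3]; group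
    _ = (A * Gm) * B * E * X := by rw [← c2]; group
    _ = Gm * (A * (B * (E * X))) := by rw [← c1]; group

end TwSys

end Cfsg.Agent.Lib.Helper3.SLInv
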