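import Mathlib
import Cfsg.Prelude.Def_ChevStructure
import Cfsg.Agent.Lib.Helper3.SLBridge6
import Cfsg.Agent.Lib.Helper3.TwInv11
import Cfsg.Agent.Lib.Helper3.ChevTw2
set_option autoImplicit false
set_option linter.unusedSectionVars false
set_option linter.unusedVariables false
set_option linter.unusedSimpArgs false
open Cfsg Cfsg.Lie

/-!
The twisting map of a simply laced Chevalley group in characteristic two attached to a graph automorphism of order
two and a field automorphism of order two: the table checks, and the system of root elements with its twisting.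
-/

namespace Cfsg.Agent.Lib.Helper3.SLInv

open Cfsg.Agent.Lib.Helper3.ChevM Cfsg.Agent.Lib.Helper3 ChevU ChevT
open Cfsg.Agent.Lib.Helper3.ChevAt

/-- the table checks of a twisting of order two of a simply laced type -/
structure TwSL (C : CDatum) (R : RelData C) where
  H : SLHyp C R
  G : GraphData C
  tab : twTabCheck C.D G.rho G.eps = true
  wK : ℕ → ℤ
  hpp : ∀ i < C.D.rank, G.p (G.p i) = i
  hvec : ∀ r < C.D.nroots, ∀ i < C.D.rank, cz C.D (G.rho r) i = cz C.D r (G.p i)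
  hcart : ∀ i < C.D.rank, ∀ j < C.D.rank,
    C.D.cartan (G.p i) (C.D.simple (G.p j)) = C.D.cartan i (C.D.simple j)
  hwK : ∀ i < C.D.rank, wK (G.p i) = wK i
  hKpos : ∀ r < C.D.nroots, (0 < keyI C.D wK r ↔ 0 < keyI C.D H.w r)
  hKinj : ∀ r < C.D.nroots, ∀ s < C.D.nroots, keyI C.D wK r = keyI C.D wK s → s = r ∨ s = G.rho r
  horb : ∀ r < C.D.nroots, G.rho r = r ∨ R.pair r (G.rho r) = 0

namespace TwSL

variable {C : CDatum} {R : RelData C} (T : TwSL C R)

/-- the permutation of the coordinates -/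
def pF (i : Fin C.D.rank) : Fin C.D.rank := ⟨T.G.p i.val, (T.G.p_spec i.val i.isLt).1⟩

theorem pF_pF (i : Fin C.D.rank) : T.pF (T.pF i) = i := Fin.ext (T.hpp i.val i.isLt)

/-- the permutation of the coordinates as an equivalence -/
def pE : Equiv.Perm (Fin C.D.rank) := Function.Involutive.toPerm T.pF T.pF_pF

theorem pE_apply (i : Fin C.D.rank) : T.pE i = T.pF i := rfl

/-- the action on the vectors -/
def rhoV (v : Vec C.D.rank) : Vec C.D.rank := fun i => v (T.pF i)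

theorem rhoV_add (u v : Vec C.D.rank) : T.rhoV (u + v) = T.rhoV u + T.rhoV v := rfl

theorem rhoV_rhoV (v : Vec C.D.rank) : T.rhoV (T.rhoV v) = v := by
  funext i
  show v (T.pF (T.pF i)) = v i
  rw [T.pF_pF]

theorem rhoV_vecZ {r : ℕ} (hr : r < C.D.nroots) : T.rhoV (vecZ C.D r) = vecZ C.D (T.G.rho r) := by
  funext i
  show cz C.D r (T.G.p i.val) = cz C.D (T.G.rho r) i.val
  rw [T.hvec r hr i.val i.isLt]

theorem rho_lt {r : ℕ} (hr : r < C.D.nroots) : T.G.rho r < C.D.nroots := (T.G.rho_spec r hr).1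

theorem rho_rho {r : ℕ} (hr : r < C.D.nroots) : T.G.rho (T.G.rho r) = r := by
  apply T.H.vecZ_inj (T.rho_lt (T.rho_lt hr)) hr
  rw [← T.rhoV_vecZ (T.rho_lt hr), ← T.rhoV_vecZ hr, T.rhoV_rhoV]

theorem Bv_rhoV (u v : Vec C.D.rank) : Bv C.D (T.rhoV u) (T.rhoV v) = Bv C.D u v := by
  unfold Bv
  have h1 : ∀ i j : Fin C.D.rank, T.rhoV u i * C.D.cartan i.val (C.D.simple j.val) * T.rhoV v j =
      (fun i' j' : Fin C.D.rank => u i' * C.D.cartan i'.val (C.D.simple j'.val) * v j') (T.pE i) (T.pE j) := by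
    intro i j
    show u (T.pF i) * _ * v (T.pF j) = u (T.pF i) * C.D.cartan (T.pF i).val (C.D.simple (T.pF j).val) * v (T.pF j)
    rw [show (T.pF i).val = T.G.p i.val from rfl, show (T.pF j).val = T.G.p j.val from rfl,
      T.hcart i.val i.isLt j.val j.isLt]
  simp only [h1]
  rw [Equiv.sum_comp T.pE (fun i' => ∑ j : Fin C.D.rank,
    (fun i' j' : Fin C.D.rank => u i' * C.D.cartan i'.val (C.D.simple j'.val) * v j') i' (T.pE j))]
  apply Finset.sum_congr rfl
  intro i _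
  exact Equiv.sum_comp T.pE (fun j' => u i * C.D.cartan i.val (C.D.simple j'.val) * v j')

theorem keyv_rhoV (v : Vec C.D.rank) : keyv C.D T.wK (T.rhoV v) = keyv C.D T.wK v := by
  unfold keyv
  have h1 : ∀ i : Fin C.D.rank, T.rhoV v i * T.wK i.val = (fun i' : Fin C.D.rank => v i' * T.wK i'.val) (T.pE i) := by
    intro i
    show v (T.pF i) * _ = v (T.pF i) * T.wK (T.pF i).val
    rw [show (T.pF i).val = T.G.p i.val from rfl, T.hwK i.val i.isLt]
  simp only [h1]
  exact Equiv.sum_comp T.pE (fun i' => v i' * T.wK i'.val)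

section
variable {F : Type*} [Field F] [Fintype F] [CharP F 2]

theorem sig_xU (φ : F →+* F) {r : ℕ} (hr : r < C.D.nroots) (a : F) :
    T.G.sig φ (R.xU r a) = R.xU (T.G.rho r) (φ a) := by
  rw [T.G.sig_xU φ R r hr, intCast_sign T.H (T.G.rho_spec r hr).2.2.2.2, one_mul]

theorem sig_nU (φ : F →+* F) {r : ℕ} (hr : r < C.D.nroots) (a : F) :
    T.G.sig φ (R.nU r a) = R.nU (T.G.rho r) (φ a) := by
  rw [T.G.sig_nU φ R T.tab r hr, intCast_sign T.H (T.G.rho_spec r hr).2.2.2.2, one_mul]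

theorem sig_hU (φ : F →+* F) {r : ℕ} (hr : r < C.D.nroots) (a : F) :
    T.G.sig φ (R.hU r a) = R.hU (T.G.rho r) (φ a) := by
  rw [R.hU_eq, R.hU_eq, map_mul, T.sig_nU φ hr, T.sig_nU φ hr, map_neg, map_one]

theorem hU_comm {r s : ℕ} (hr : r < C.D.nroots) (hs : s < C.D.nroots) (a b : F) (ha : a ≠ 0)
    (hb : b ≠ 0) : R.hU r a * R.hU s b = R.hU s b * R.hU r a := by
  apply Units.ext
  rw [Units.val_mul, Units.val_mul, R.hU_val, R.hU_val, R.hMat_diag r hr a ha,
    R.hMat_diag s hs b hb, Matrix.diagonal_mul_diagonal, Matrix.diagonal_mul_diagonal]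
  congr 1
  funext j
  rw [mul_comm]

/-- the twisting of the system of root elements -/
noncomputable def tsys (φ : F →+* F) (hφ : ∀ a, φ (φ a) = a) (lam : F) (hlam : lam + φ lam = 1) :
    TwSys (T.H.sys (F := F)) where
  ρ := T.rhoV
  φ := φ
  σ := T.G.sig φ
  K := keyv C.D T.wK
  lam := lam
  ρ_add := T.rhoV_add
  ρ_ρ := T.rhoV_rhoV
  ρ_mem := by
    intro v hv
    obtain ⟨r, hr, rfl⟩ := mem_rootsV.mp hv
    exact mem_rootsV.mpr ⟨T.G.rho r, T.rho_lt hr, (T.rhoV_vecZ hr).symm⟩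
  B_ρ := T.Bv_rhoV
  φ_φ := hφ
  lam_tr := hlam
  σ_x := by
    intro v hv a
    obtain ⟨r, hr, rfl⟩ := mem_rootsV.mp hv
    show T.G.sig φ (R.xU (idx C.D (vecZ C.D r)) a) = R.xU (idx C.D (T.rhoV (vecZ C.D r))) (φ a)
    rw [T.rhoV_vecZ hr, T.H.idx_vecZ hr, T.H.idx_vecZ (T.rho_lt hr), T.sig_xU φ hr]
  σ_h := by
    intro v hv c _
    obtain ⟨r, hr, rfl⟩ := mem_rootsV.mp hv
    show T.G.sig φ (R.hU (idx C.D (vecZ C.D r)) c) = R.hU (idx C.D (T.rhoV (vecZ C.D r))) (φ c)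
    rw [T.rhoV_vecZ hr, T.H.idx_vecZ hr, T.H.idx_vecZ (T.rho_lt hr), T.sig_hU φ hr]
  h_comm := by
    intro v hv u hu c d hc hd
    obtain ⟨r, hr, rfl⟩ := mem_rootsV.mp hv
    obtain ⟨s, hs, rfl⟩ := mem_rootsV.mp hu
    show R.hU (idx C.D (vecZ C.D r)) c * R.hU (idx C.D (vecZ C.D s)) d =
      R.hU (idx C.D (vecZ C.D s)) d * R.hU (idx C.D (vecZ C.D r)) c
    rw [T.H.idx_vecZ hr, T.H.idx_vecZ hs]
    exact TwSL.hU_comm hr hs c d hc hd
  K_add := keyv_add C.D T.wK
  K_ρ := T.keyv_rhoV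
  K_pos := by
    intro v hv
    obtain ⟨r, hr, rfl⟩ := mem_rootsV.mp hv
    show 0 < keyv C.D T.wK (vecZ C.D r) ↔ 0 < keyv C.D T.H.w (vecZ C.D r)
    rw [keyv_vecZ, keyv_vecZ]
    exact T.hKpos r hr
  K_inj := by
    intro v hv u hu h
    obtain ⟨r, hr, rfl⟩ := mem_rootsV.mp hv
    obtain ⟨s, hs, rfl⟩ := mem_rootsV.mp hu
    rw [keyv_vecZ, keyv_vecZ] at h
    rcases T.hKinj r hr s hs h with e | e
    · left; rw [e]
    · right; rw [e, T.rhoV_vecZ hr]
  orb := by
    intro v hv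
    obtain ⟨r, hr, rfl⟩ := mem_rootsV.mp hv
    rw [T.rhoV_vecZ hr]
    rcases T.horb r hr with e | e
    · left; rw [e]
    · right
      show Bv C.D _ _ = 0
      rw [T.H.Bv_vecZ r _ hr (T.rho_lt hr)]
      exact e

end

end TwSL

end Cfsg.Agent.Lib.Helper3.SLInv
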