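import Mathlib
import Cfsg.Prelude.Def_ChevStructure
import Cfsg.Agent.Lib.Helper3.TwBridge1
set_option autoImplicit false
set_option linter.unusedSectionVars false
set_option linter.unusedVariables false
set_option linter.unusedSimpArgs false
open Cfsg Cfsg.Lie

/-!
The twisted reflections on root indices, the conjugacy of the products over lists of root indices under the fixed
points of the twisting map, and the lists of representatives of the orbits of a stable list.
-/

namespace Cfsg.Agent.Lib.Helper3.SLInv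

open Cfsg.Agent.Lib.Helper3.ChevM Cfsg.Agent.Lib.Helper3 ChevU ChevT
open Cfsg.Agent.Lib.Helper3.ChevAt

/-- a field automorphism of order two with an element of trace one -/
structure TwF (F : Type*) [Field F] where
  φ : F →+* F
  hφ : ∀ a, φ (φ a) = a
  lam : F
  hlam : lam + φ lam = 1

/-- the twisted reflection: the reflection in a fixed root, or the product of the reflections in two swapped
roots -/
def sσI (D : ChevalleyDatum) (pair : ℕ → ℕ → ℤ) (rho : ℕ → ℕ) (β r : ℕ) : ℕ :=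
  if rho β = β then sI D pair β r else sI D pair β (sI D pair (rho β) r)

/-- the action of a word of twisted reflections -/
def sσW (D : ChevalleyDatum) (pair : ℕ → ℕ → ℤ) (rho : ℕ → ℕ) : List ℕ → ℕ → ℕ
  | [], r => r
  | β :: w, r => sσI D pair rho β (sσW D pair rho w r)

theorem sσW_append (D : ChevalleyDatum) (pair : ℕ → ℕ → ℤ) (rho : ℕ → ℕ) (w w' : List ℕ) (r : ℕ) :
    sσW D pair rho (w ++ w') r = sσW D pair rho w (sσW D pair rho w' r) := by
  induction w with
  | nil => rfl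
  | cons β w ih => simp only [List.cons_append, sσW, ih]

/-- the union of the orbits of the elements of a list -/
def clI (rho : ℕ → ℕ) (P : List ℕ) : List ℕ := P.flatMap fun r => if rho r = r then [r] else [r, rho r]

theorem clI_nil (rho : ℕ → ℕ) : clI rho [] = [] := rfl

theorem clI_cons (rho : ℕ → ℕ) (r : ℕ) (P : List ℕ) :
    clI rho (r :: P) = (if rho r = r then [r] else [r, rho r]) ++ clI rho P := by
  simp [clI]

theorem mem_clI {rho : ℕ → ℕ} {P : List ℕ} {t : ℕ} : t ∈ clI rho P ↔ ∃ r ∈ P, t = r ∨ t = rho r := by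
  unfold clI
  rw [List.mem_flatMap]
  constructor
  · rintro ⟨r, hr, ht⟩
    refine ⟨r, hr, ?_⟩
    by_cases h : rho r = r
    · rw [if_pos h, List.mem_singleton] at ht
      left; exact ht
    · rw [if_neg h] at ht
      simp only [List.mem_cons, List.not_mem_nil, or_false] at ht
      exact ht
  · rintro ⟨r, hr, ht⟩
    refine ⟨r, hr, ?_⟩
    by_cases h : rho r = r
    · rw [if_pos h, List.mem_singleton]
      rcases ht with e | e
      · exact e
      · rw [e, h]
    · rw [if_neg h]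
      simp only [List.mem_cons, List.not_mem_nil, or_false]
      exact ht

section
variable {C : CDatum} {R : RelData C} (T : TwSL C R) {F : Type*} [Field F] [Fintype F] [CharP F 2] (X : TwF F)

/-- the twisting of the system of root elements -/
noncomputable def TwSL.ts : TwSys (T.H.sys (F := F)) := T.tsys X.φ X.hφ X.lam X.hlam

/-- conjugacy of the products under the fixed points of the twisting map in the Chevalley group -/
def CjσI (O O' : List ℕ) : Prop :=
  ∃ g ∈ C.D.group F, T.G.sig X.φ g = g ∧ g * xsI R F O * g⁻¹ = xsI R F O'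

theorem TwSL.cjσ_iff {O O' : List ℕ} (hO : ∀ r ∈ O, r < C.D.nroots) (hO' : ∀ r ∈ O', r < C.D.nroots) :
    (T.ts X).Cjσ (O.map (vecZ C.D)) (O'.map (vecZ C.D)) ↔ CjσI T X O O' := by
  unfold TwSys.Cjσ CjσI
  rw [T.H.GT_nil, T.H.xs_map F O hO, T.H.xs_map F O' hO']
  rfl

theorem CjσI.rfl' (O : List ℕ) : CjσI T X O O := ⟨1, Subgroup.one_mem _, map_one _, by group⟩

theorem CjσI.trans {O O' O'' : List ℕ} (h : CjσI T X O O') (h' : CjσI T X O' O'') : CjσI T X O O'' := by
  obtain ⟨g, hg, hσ, e⟩ := h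
  obtain ⟨g', hg', hσ', e'⟩ := h'
  exact ⟨g' * g, Subgroup.mul_mem _ hg' hg, by rw [map_mul, hσ, hσ'], by rw [← SLSys.conj_conj, e, e']⟩

theorem CjσI.symm {O O' : List ℕ} (h : CjσI T X O O') : CjσI T X O' O := by
  obtain ⟨g, hg, hσ, e⟩ := h
  exact ⟨g⁻¹, Subgroup.inv_mem _ hg, by rw [map_inv, hσ], by rw [← e]; group⟩

theorem TwSL.cjσI_perm {O O' : List ℕ} (hO : OrthI C.D R.pair O) (h : O.Perm O') : CjσI T X O O' := by
  have hO' : ∀ r ∈ O', r < C.D.nroots := fun r hr => hO.1 r (h.symm.subset hr)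
  rw [← T.cjσ_iff X hO.1 hO']
  exact TwSys.Cjσ.of_perm _ (T.H.orth_map F hO) (h.map _)

theorem TwSL.mem_roots {r : ℕ} (hr : r < C.D.nroots) : vecZ C.D r ∈ (T.H.sys (F := F)).roots :=
  mem_rootsV.mpr ⟨r, hr, rfl⟩

theorem TwSL.ρ_vecZ {r : ℕ} (hr : r < C.D.nroots) : (T.ts X).ρ (vecZ C.D r) = vecZ C.D (T.G.rho r) :=
  T.rhoV_vecZ hr

theorem TwSL.pair_rho {r s : ℕ} (hr : r < C.D.nroots) (hs : s < C.D.nroots) :
    R.pair (T.G.rho r) (T.G.rho s) = R.pair r s := by
  rw [← T.H.Bv_vecZ _ _ (T.rho_lt hr) (T.rho_lt hs), ← T.rhoV_vecZ hr, ← T.rhoV_vecZ hs, T.Bv_rhoV,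
    T.H.Bv_vecZ r s hr hs]

theorem TwSL.pair_rho_left {r s : ℕ} (hr : r < C.D.nroots) (hs : s < C.D.nroots) :
    R.pair (T.G.rho r) s = R.pair r (T.G.rho s) := by
  have := T.pair_rho hr (T.rho_lt hs)
  rw [T.rho_rho hs] at this
  exact this

theorem TwSL.rho_inj {r s : ℕ} (hr : r < C.D.nroots) (hs : s < C.D.nroots) (h : T.G.rho r = T.G.rho s) :
    r = s := by
  rw [← T.rho_rho hr, ← T.rho_rho hs, h]

end

namespace TwSys

variable {G : Type*} [Group G] {F : Type*} [Field F] {l : ℕ} {S : SLSys G F l} (W : TwSys S)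

theorem ρ_sr (β r : Vec l) : W.ρ (S.sr β r) = S.sr (W.ρ β) (W.ρ r) := by
  unfold SLSys.sr
  rw [W.ρ_sub, W.ρ_zsmul, W.B_ρ]

end TwSys

namespace SLSys

variable {G : Type*} [Group G] {F : Type*} [Field F] {l : ℕ} (S : SLSys G F l)

theorem sr_comm {β β' : Vec l} (h : S.B β β' = 0) (r : Vec l) :
    S.sr β (S.sr β' r) = S.sr β' (S.sr β r) := by
  unfold sr
  have h' : S.B β' β = 0 := by rw [S.B_symm]; exact h
  rw [S.B_sub_left, S.B_sub_left, S.B_smul_left, S.B_smul_left, h, h', mul_zero, mul_zero, sub_zero, sub_zero]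
  abel

end SLSys

section
variable {C : CDatum} {R : RelData C} (T : TwSL C R) (F : Type*) [Field F] [Fintype F] [CharP F 2] (X : TwF F)

include F X in
theorem TwSL.rho_sI {β r : ℕ} (hβ : β < C.D.nroots) (hr : r < C.D.nroots) :
    T.G.rho (sI C.D R.pair β r) = sI C.D R.pair (T.G.rho β) (T.G.rho r) := by
  obtain ⟨h1, h2⟩ := T.H.sI_spec F hβ hr
  obtain ⟨h3, h4⟩ := T.H.sI_spec F (T.rho_lt hβ) (T.rho_lt hr)
  apply T.H.vecZ_inj (T.rho_lt h1) h3
  rw [h4, ← T.ρ_vecZ X h1, h2, (T.ts X).ρ_sr, T.ρ_vecZ X hβ, T.ρ_vecZ X hr]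

include T F in
theorem TwSL.sI_comm {β β' r : ℕ} (hβ : β < C.D.nroots) (hβ' : β' < C.D.nroots) (hr : r < C.D.nroots)
    (h : R.pair β β' = 0) :
    sI C.D R.pair β (sI C.D R.pair β' r) = sI C.D R.pair β' (sI C.D R.pair β r) := by
  obtain ⟨h1, h2⟩ := T.H.sI_spec F hβ' hr
  obtain ⟨h3, h4⟩ := T.H.sI_spec F hβ h1
  obtain ⟨h5, h6⟩ := T.H.sI_spec F hβ hr
  obtain ⟨h7, h8⟩ := T.H.sI_spec F hβ' h5
  apply T.H.vecZ_inj h3 h7
  rw [h4, h2, h8, h6]
  apply (T.H.sys (F := F)).sr_comm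
  show Bv C.D _ _ = 0
  rw [T.H.Bv_vecZ _ _ hβ hβ']
  exact h

include F in
theorem TwSL.sσI_lt {β r : ℕ} (hβ : β < C.D.nroots) (hr : r < C.D.nroots) :
    sσI C.D R.pair T.G.rho β r < C.D.nroots := by
  unfold sσI
  split_ifs
  · exact T.H.sI_lt F hβ hr
  · exact T.H.sI_lt F hβ (T.H.sI_lt F (T.rho_lt hβ) hr)

include F in
theorem TwSL.pair_sσI {β r s : ℕ} (hβ : β < C.D.nroots) (hr : r < C.D.nroots) (hs : s < C.D.nroots) :
    R.pair (sσI C.D R.pair T.G.rho β r) (sσI C.D R.pair T.G.rho β s) = R.pair r s := by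
  unfold sσI
  split_ifs
  · exact T.H.pair_sI F hβ hr hs
  · rw [T.H.pair_sI F hβ (T.H.sI_lt F (T.rho_lt hβ) hr) (T.H.sI_lt F (T.rho_lt hβ) hs),
      T.H.pair_sI F (T.rho_lt hβ) hr hs]

theorem TwSL.sσI_fix {β t : ℕ} (hβ : β < C.D.nroots) (ht : t < C.D.nroots) (h : R.pair t β = 0)
    (h' : R.pair t (T.G.rho β) = 0) : sσI C.D R.pair T.G.rho β t = t := by
  unfold sσI
  split_ifs
  · exact T.H.sI_fix hβ ht h
  · rw [T.H.sI_fix (T.rho_lt hβ) ht h', T.H.sI_fix hβ ht h]

include F X in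
theorem TwSL.rho_sσI {β r : ℕ} (hβ : β < C.D.nroots) (hr : r < C.D.nroots) :
    T.G.rho (sσI C.D R.pair T.G.rho β r) = sσI C.D R.pair T.G.rho β (T.G.rho r) := by
  unfold sσI
  by_cases h : T.G.rho β = β
  · rw [if_pos h, if_pos h, T.rho_sI F X hβ hr, h]
  · rw [if_neg h, if_neg h, T.rho_sI F X hβ (T.H.sI_lt F (T.rho_lt hβ) hr), T.rho_sI F X (T.rho_lt hβ) hr,
      T.rho_rho hβ]
    have h0 : R.pair (T.G.rho β) β = 0 := by
      rcases T.horb β hβ with e | e
      · exact absurd e h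
      · rw [T.H.pair_symm (T.rho_lt hβ) hβ]; exact e
    exact T.sI_comm F (T.rho_lt hβ) hβ (T.rho_lt hr) h0

include F in
theorem TwSL.sσW_lt {w : List ℕ} (hw : ∀ β ∈ w, β < C.D.nroots) {r : ℕ} (hr : r < C.D.nroots) :
    sσW C.D R.pair T.G.rho w r < C.D.nroots := by
  induction w with
  | nil => exact hr
  | cons β w ih =>
    exact T.sσI_lt F (hw β List.mem_cons_self) (ih fun b hb => hw b (List.mem_cons_of_mem _ hb))

include F in
theorem TwSL.pair_sσW {w : List ℕ} (hw : ∀ β ∈ w, β < C.D.nroots) {r s : ℕ} (hr : r < C.D.nroots)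
    (hs : s < C.D.nroots) :
    R.pair (sσW C.D R.pair T.G.rho w r) (sσW C.D R.pair T.G.rho w s) = R.pair r s := by
  induction w with
  | nil => rfl
  | cons β w ih =>
    have hw' : ∀ b ∈ w, b < C.D.nroots := fun b hb => hw b (List.mem_cons_of_mem _ hb)
    show R.pair (sσI _ _ _ β _) (sσI _ _ _ β _) = _
    rw [T.pair_sσI F (hw β List.mem_cons_self) (T.sσW_lt F hw' hr) (T.sσW_lt F hw' hs), ih hw']

include F X in
theorem TwSL.rho_sσW {w : List ℕ} (hw : ∀ β ∈ w, β < C.D.nroots) {r : ℕ} (hr : r < C.D.nroots) :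
    T.G.rho (sσW C.D R.pair T.G.rho w r) = sσW C.D R.pair T.G.rho w (T.G.rho r) := by
  induction w with
  | nil => rfl
  | cons β w ih =>
    have hw' : ∀ b ∈ w, b < C.D.nroots := fun b hb => hw b (List.mem_cons_of_mem _ hb)
    show T.G.rho (sσI _ _ _ β _) = sσI _ _ _ β _
    rw [T.rho_sσI F X (hw β List.mem_cons_self) (T.sσW_lt F hw' hr), ih hw']

theorem TwSL.sσW_fix {w : List ℕ} (hw : ∀ β ∈ w, β < C.D.nroots) {t : ℕ} (ht : t < C.D.nroots)
    (h : ∀ β ∈ w, R.pair t β = 0 ∧ R.pair t (T.G.rho β) = 0) : sσW C.D R.pair T.G.rho w t = t := by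
  induction w with
  | nil => rfl
  | cons β w ih =>
    show sσI _ _ _ β _ = t
    rw [ih (fun b hb => hw b (List.mem_cons_of_mem _ hb)) (fun b hb => h b (List.mem_cons_of_mem _ hb))]
    exact T.sσI_fix (hw β List.mem_cons_self) ht (h β List.mem_cons_self).1 (h β List.mem_cons_self).2

/-- conjugation by a twisted reflection -/
theorem TwSL.cjσI_refl {β : ℕ} (hβ : β < C.D.nroots) {O : List ℕ} (hO : ∀ r ∈ O, r < C.D.nroots) :
    CjσI T X O (O.map (sσI C.D R.pair T.G.rho β)) := by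
  have hO' : ∀ r ∈ O.map (sσI C.D R.pair T.G.rho β), r < C.D.nroots := by
    intro r hr
    obtain ⟨o, ho, rfl⟩ := List.mem_map.mp hr
    exact T.sσI_lt F hβ (hO o ho)
  rw [← T.cjσ_iff X hO hO']
  have hOm : ∀ o ∈ O.map (vecZ C.D), o ∈ (T.H.sys (F := F)).roots := by
    intro v hv
    obtain ⟨o, ho, rfl⟩ := List.mem_map.mp hv
    exact T.mem_roots (hO o ho)
  by_cases h : T.G.rho β = β
  · have h1 := TwSys.Cjσ.of_refl_fixed (T.ts X) (T.mem_roots hβ) (by rw [T.ρ_vecZ X hβ, h]) hOm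
    have e : (O.map (vecZ C.D)).map ((T.H.sys (F := F)).sr (vecZ C.D β)) =
        (O.map (sσI C.D R.pair T.G.rho β)).map (vecZ C.D) := by
      rw [List.map_map, List.map_map]
      apply List.map_congr_left
      intro o ho
      simp only [Function.comp]
      unfold sσI
      rw [if_pos h, (T.H.sI_spec F hβ (hO o ho)).2]
    rw [← e]
    exact h1
  · have h0 : R.pair β (T.G.rho β) = 0 := by
      rcases T.horb β hβ with e | e
      · exact absurd e h
      · exact e
    have h1 := TwSys.Cjσ.of_refl_pair (T.ts X) (T.mem_roots hβ) (by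
      rw [T.ρ_vecZ X hβ]
      show Bv C.D _ _ = 0
      rw [T.H.Bv_vecZ _ _ hβ (T.rho_lt hβ)]
      exact h0) hOm
    have e : ((O.map (vecZ C.D)).map ((T.H.sys (F := F)).sr ((T.ts X).ρ (vecZ C.D β)))).map
        ((T.H.sys (F := F)).sr (vecZ C.D β)) = (O.map (sσI C.D R.pair T.G.rho β)).map (vecZ C.D) := by
      rw [List.map_map, List.map_map, List.map_map]
      apply List.map_congr_left
      intro o ho
      simp only [Function.comp]
      unfold sσI
      rw [if_neg h, (T.H.sI_spec F hβ (T.H.sI_lt F (T.rho_lt hβ) (hO o ho))).2,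
        (T.H.sI_spec F (T.rho_lt hβ) (hO o ho)).2, T.ρ_vecZ X hβ]
    rw [← e]
    exact h1

/-- conjugation by a word of twisted reflections -/
theorem TwSL.cjσI_word {w : List ℕ} (hw : ∀ β ∈ w, β < C.D.nroots) {O : List ℕ} (hO : ∀ r ∈ O, r < C.D.nroots) :
    CjσI T X O (O.map (sσW C.D R.pair T.G.rho w)) := by
  induction w with
  | nil =>
    have : O.map (sσW C.D R.pair T.G.rho []) = O := by
      simp [sσW]
    rw [this]
    exact CjσI.rfl' T X O
  | cons β w ih =>
    have hw' : ∀ b ∈ w, b < C.D.nroots := fun b hb => hw b (List.mem_cons_of_mem _ hb)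
    have h1 := ih hw'
    have hO1 : ∀ r ∈ O.map (sσW C.D R.pair T.G.rho w), r < C.D.nroots := by
      intro r hr
      obtain ⟨o, ho, rfl⟩ := List.mem_map.mp hr
      exact T.sσW_lt F hw' (hO o ho)
    have h2 := T.cjσI_refl F X (hw β List.mem_cons_self) hO1
    rw [List.map_map] at h2
    exact CjσI.trans T X h1 h2

include F in
theorem TwSL.orthI_map_sσW {w : List ℕ} (hw : ∀ β ∈ w, β < C.D.nroots) {O : List ℕ}
    (hO : OrthI C.D R.pair O) : OrthI C.D R.pair (O.map (sσW C.D R.pair T.G.rho w)) := by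
  refine ⟨?_, ?_⟩
  · intro r hr
    obtain ⟨o, ho, rfl⟩ := List.mem_map.mp hr
    exact T.sσW_lt F hw (hO.1 o ho)
  · rw [List.pairwise_map]
    have h1 : O.Pairwise fun a b => a ∈ O ∧ b ∈ O ∧ R.pair a b = 0 := by
      have := hO.2
      rw [List.pairwise_iff_getElem] at this ⊢
      intro i j hi hj hij
      exact ⟨List.getElem_mem hi, List.getElem_mem hj, this i j hi hj hij⟩
    refine h1.imp ?_
    rintro a b ⟨ha, hb, hab⟩
    rw [T.pair_sσW F hw (hO.1 a ha) (hO.1 b hb), hab]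

include T F in
/-- a root is fixed as soon as it pairs to two with its image -/
theorem TwSL.eq_of_pair_two {r s : ℕ} (hr : r < C.D.nroots) (hs : s < C.D.nroots) (h : R.pair r s = 2) :
    s = r := by
  apply T.H.vecZ_inj hs hr
  apply (T.H.sys (F := F)).eq_of_B_eq_two (T.mem_roots hr) (T.mem_roots hs)
  show Bv C.D _ _ = 2
  rw [T.H.Bv_vecZ r s hr hs]
  exact h

include F X in
/-- the union of the orbits commutes with the words of twisted reflections -/
theorem TwSL.clI_map {w : List ℕ} (hw : ∀ β ∈ w, β < C.D.nroots) {P : List ℕ} (hP : ∀ r ∈ P, r < C.D.nroots) :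
    clI T.G.rho (P.map (sσW C.D R.pair T.G.rho w)) = (clI T.G.rho P).map (sσW C.D R.pair T.G.rho w) := by
  induction P with
  | nil => rfl
  | cons r P ih =>
    have hr := hP r List.mem_cons_self
    rw [List.map_cons, clI_cons, clI_cons, List.map_append, ih fun s hs => hP s (List.mem_cons_of_mem _ hs)]
    congr 1
    set f := sσW C.D R.pair T.G.rho w with hf
    by_cases h : T.G.rho r = r
    · rw [if_pos h, if_pos (by rw [T.rho_sσW F X hw hr, h])]
      rfl
    · have h2 : T.G.rho (f r) ≠ f r := by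
        intro e
        apply h
        rw [T.rho_sσW F X hw hr] at e
        have h3 := T.pair_sσW F hw hr (T.rho_lt hr)
        rw [e, T.H.pair_self (T.sσW_lt F hw hr)] at h3
        exact T.eq_of_pair_two F hr (T.rho_lt hr) h3.symm
      rw [if_neg h, if_neg h2, T.rho_sσW F X hw hr]
      rfl

end

end Cfsg.Agent.Lib.Helper3.SLInv
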