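import Mathlib
import Cfsg.Prelude.Def_ChevStructure
import Cfsg.Agent.Lib.Helper3.TwBridge2
set_option autoImplicit false
set_option linter.unusedSectionVars false
set_option linter.unusedVariables false
set_option linter.unusedSimpArgs false
open Cfsg Cfsg.Lie

/-!
The fusions on root indices under the fixed points of the twisting map, and the decomposition of a stable list of
orthogonal roots into orbits.
-/

namespace Cfsg.Agent.Lib.Helper3.SLInv

open Cfsg.Agent.Lib.Helper3.ChevM Cfsg.Agent.Lib.Helper3 ChevU ChevT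
open Cfsg.Agent.Lib.Helper3.ChevAt

/-- the check of a quadruple of fixed roots in a subsystem of type `D₄` -/
def d4Checkσ (D : ChevalleyDatum) (pair : ℕ → ℕ → ℤ) (rho : ℕ → ℕ) (d g a b e : ℕ) : Bool :=
  d4Check D pair d g a b e && decide (rho d = d) && decide (rho g = g) && decide (rho a = a) &&
    decide (rho b = b) && decide (rho e = e)

/-- the check of the fusion of a pair of swapped roots with a pair of fixed roots -/
def a3Checkσ (D : ChevalleyDatum) (pair : ℕ → ℕ → ℤ) (rho : ℕ → ℕ) (β a' a'' : ℕ) : Bool :=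
  decide (a' < D.nroots) && decide (a'' < D.nroots) && decide (rho a' = a') && decide (pair a' β = 1) &&
    (List.range D.rank).all fun i => decide (cz D a'' i = cz D β i + cz D (rho β) i - cz D a' i)

section
variable {C : CDatum} {R : RelData C} (T : TwSL C R) (F : Type*) [Field F] [Fintype F] [CharP F 2] (X : TwF F)

theorem TwSL.cjσI_d4 {d g a b e : ℕ} {L : List ℕ} (hO : OrthI C.D R.pair (g :: a :: b :: e :: L))
    (h : d4Checkσ C.D R.pair T.G.rho d g a b e = true) :
    CjσI T X (g :: a :: b :: e :: L) (a :: b :: e :: L) ∧ OrthI C.D R.pair (a :: b :: e :: L) := by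
  simp only [d4Checkσ, d4Check, Bool.and_eq_true, decide_eq_true_eq, List.all_eq_true, List.mem_range] at h
  obtain ⟨⟨⟨⟨⟨⟨⟨⟨⟨hd, hda⟩, hdb⟩, hde⟩, hvec⟩, hρd⟩, hρg⟩, hρa⟩, hρb⟩, hρe⟩ := h
  have hO' : OrthI C.D R.pair (a :: b :: e :: L) :=
    ⟨fun r hr => hO.1 r (List.mem_cons_of_mem _ hr), (List.pairwise_cons.mp hO.2).2⟩
  refine ⟨?_, hO'⟩
  apply CjσI.symm
  rw [← T.cjσ_iff X hO'.1 hO.1]
  set S := T.H.sys (F := F) with hS
  have hg := hO.1 g List.mem_cons_self
  have ha := hO'.1 a List.mem_cons_self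
  have hb := hO'.1 b (List.mem_cons_of_mem _ List.mem_cons_self)
  have he := hO'.1 e (List.mem_cons_of_mem _ (List.mem_cons_of_mem _ List.mem_cons_self))
  have hL : ∀ o ∈ L, o < C.D.nroots := fun o ho => hO'.1 o (List.mem_cons_of_mem _ (List.mem_cons_of_mem _
    (List.mem_cons_of_mem _ ho)))
  have mem : ∀ {r : ℕ}, r < C.D.nroots → vecZ C.D r ∈ S.roots := fun hr => mem_rootsV.mpr ⟨_, hr, rfl⟩
  have hBv : ∀ {r s : ℕ}, r < C.D.nroots → s < C.D.nroots → S.B (vecZ C.D r) (vecZ C.D s) = R.pair r s :=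
    fun hr hs => T.H.Bv_vecZ _ _ hr hs
  have hvg : vecZ C.D g = vecZ C.D d + vecZ C.D d + vecZ C.D a + vecZ C.D b + vecZ C.D e := by
    funext i
    have := hvec i.val i.isLt
    simp only [vecZ, Pi.add_apply]
    rw [this]; ring
  -- orthogonality relations
  have p1 := List.pairwise_cons.mp hO.2
  have p2 := List.pairwise_cons.mp p1.2
  have p3 := List.pairwise_cons.mp p2.2
  have p4 := List.pairwise_cons.mp p3.2
  have hab : R.pair a b = 0 := p2.1 b List.mem_cons_self
  have hae : R.pair a e = 0 := p2.1 e (List.mem_cons_of_mem _ List.mem_cons_self)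
  have hbe : R.pair b e = 0 := p3.1 e List.mem_cons_self
  have hRest : ∀ o ∈ L.map (vecZ C.D), o ∈ S.roots ∧ S.B (vecZ C.D a) o = 0 ∧ S.B (vecZ C.D b) o = 0 ∧
      S.B (vecZ C.D e) o = 0 ∧ S.B (vecZ C.D d) o = 0 := by
    intro v hv
    obtain ⟨o, ho, rfl⟩ := List.mem_map.mp hv
    have ho' := hL o ho
    have q1 : R.pair a o = 0 := p2.1 o (List.mem_cons_of_mem _ (List.mem_cons_of_mem _ ho))
    have q2 : R.pair b o = 0 := p3.1 o (List.mem_cons_of_mem _ ho)
    have q3 : R.pair e o = 0 := p4.1 o ho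
    have q4 : R.pair g o = 0 := p1.1 o (List.mem_cons_of_mem _ (List.mem_cons_of_mem _ (List.mem_cons_of_mem _ ho)))
    rw [hBv ha ho', hBv hb ho', hBv he ho', hBv hd ho']
    refine ⟨mem ho', q1, q2, q3, ?_⟩
    have := hBv hg ho'
    rw [hvg, S.B_add_left, S.B_add_left, S.B_add_left, S.B_add_left, hBv hd ho', hBv ha ho', hBv hb ho',
      hBv he ho', q1, q2, q3, q4] at this
    omega
  have hfix : ∀ {r : ℕ}, r < C.D.nroots → T.G.rho r = r → (T.ts X).ρ (vecZ C.D r) = vecZ C.D r := by
    intro r hr h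
    rw [T.ρ_vecZ X hr, h]
  obtain ⟨-, hcj⟩ := (T.ts X).d4_fuseσ (mem ha) (mem hb) (mem he) (mem hd) (hfix ha hρa) (hfix hb hρb)
    (hfix he hρe) (hfix hd hρd)
    ((hBv ha hb).trans hab) ((hBv ha he).trans hae) ((hBv hb he).trans hbe)
    ((hBv hd ha).trans hda) ((hBv hd hb).trans hdb) ((hBv hd he).trans hde) (L.map (vecZ C.D)) hRest
  simp only [List.map_cons]
  rw [hvg]
  exact hcj

theorem TwSL.cjσI_a3 {β a' a'' : ℕ} {L : List ℕ} (hO : OrthI C.D R.pair (β :: T.G.rho β :: L))
    (h : a3Checkσ C.D R.pair T.G.rho β a' a'' = true) (hL : ∀ o ∈ L, R.pair a' o = 0) :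
    CjσI T X (β :: T.G.rho β :: L) (a' :: a'' :: L) ∧ OrthI C.D R.pair (a' :: a'' :: L) ∧
      T.G.rho a'' = a'' := by
  simp only [a3Checkσ, Bool.and_eq_true, decide_eq_true_eq, List.all_eq_true, List.mem_range] at h
  obtain ⟨⟨⟨⟨ha', ha''⟩, hρa'⟩, hab⟩, hvec⟩ := h
  set S := T.H.sys (F := F) with hS
  have hβ := hO.1 β List.mem_cons_self
  have hβ' := T.rho_lt hβ
  have hLlt : ∀ o ∈ L, o < C.D.nroots := fun o ho => hO.1 o (List.mem_cons_of_mem _ (List.mem_cons_of_mem _ ho))
  have mem : ∀ {r : ℕ}, r < C.D.nroots → vecZ C.D r ∈ S.roots := fun hr => mem_rootsV.mpr ⟨_, hr, rfl⟩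
  have hBv : ∀ {r s : ℕ}, r < C.D.nroots → s < C.D.nroots → S.B (vecZ C.D r) (vecZ C.D s) = R.pair r s :=
    fun hr hs => T.H.Bv_vecZ _ _ hr hs
  have p1 := List.pairwise_cons.mp hO.2
  have p2 := List.pairwise_cons.mp p1.2
  have hρβ : (T.ts X).ρ (vecZ C.D β) = vecZ C.D (T.G.rho β) := T.ρ_vecZ X hβ
  have hva : vecZ C.D a'' = vecZ C.D β + (T.ts X).ρ (vecZ C.D β) - vecZ C.D a' := by
    rw [hρβ]
    funext i
    have := hvec i.val i.isLt
    simp only [vecZ, Pi.add_apply, Pi.sub_apply]
    exact this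
  have hRest : ∀ o ∈ L.map (vecZ C.D), o ∈ S.roots ∧ S.B (vecZ C.D β) o = 0 ∧
      S.B ((T.ts X).ρ (vecZ C.D β)) o = 0 ∧ S.B (vecZ C.D a') o = 0 := by
    intro v hv
    obtain ⟨o, ho, rfl⟩ := List.mem_map.mp hv
    have ho' := hLlt o ho
    rw [hρβ, hBv hβ ho', hBv hβ' ho', hBv ha' ho']
    exact ⟨mem ho', p1.1 o (List.mem_cons_of_mem _ ho), p2.1 o ho, hL o ho⟩
  obtain ⟨hroot, hfix, hperp, hcj⟩ := (T.ts X).a3_fuseσ (mem hβ) (mem ha')
    (by rw [T.ρ_vecZ X ha', hρa']) (by rw [hρβ, hBv hβ hβ']; exact p1.1 _ List.mem_cons_self)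
    ((hBv ha' hβ).trans hab) (L.map (vecZ C.D)) hRest
  rw [← hva] at hroot hfix hperp hcj
  have hρa'' : T.G.rho a'' = a'' := by
    apply T.H.vecZ_inj (T.rho_lt ha'') ha''
    rw [← T.ρ_vecZ X ha'']
    exact hfix
  have hO' : OrthI C.D R.pair (a' :: a'' :: L) := by
    refine ⟨?_, ?_⟩
    · intro r hr
      rcases List.mem_cons.mp hr with e | hr
      · rw [e]; exact ha'
      · rcases List.mem_cons.mp hr with e | hr
        · rw [e]; exact ha''
        · exact hLlt r hr
    · refine List.pairwise_cons.mpr ⟨?_, List.pairwise_cons.mpr ⟨?_, p2.2⟩⟩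
      · intro o ho
        rcases List.mem_cons.mp ho with e | ho
        · rw [e, ← hBv ha' ha'']; exact hperp
        · exact hL o ho
      · intro o ho
        have ho' := hLlt o ho
        rw [← hBv ha'' ho', hva, S.B_sub_left, S.B_add_left, hρβ, hBv hβ ho', hBv hβ' ho', hBv ha' ho',
          p1.1 o (List.mem_cons_of_mem _ ho), p2.1 o ho, hL o ho]
        rfl
  refine ⟨?_, hO', hρa''⟩
  rw [← T.cjσ_iff X hO.1 hO'.1]
  simp only [List.map_cons]
  rw [← hρβ]
  exact hcj

include T F in
theorem TwSL.orthI_nodup {O : List ℕ} (hO : OrthI C.D R.pair O) : O.Nodup := by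
  have h1 : O.Pairwise fun a b => a ∈ O ∧ b ∈ O ∧ R.pair a b = 0 := by
    have := hO.2
    rw [List.pairwise_iff_getElem] at this ⊢
    intro i j hi hj hij
    exact ⟨List.getElem_mem hi, List.getElem_mem hj, this i j hi hj hij⟩
  refine h1.imp ?_
  rintro a b ⟨ha, hb, hab⟩ e
  rw [e, T.H.pair_self (hO.1 b hb)] at hab
  omega

include F in
/-- a stable list of orthogonal roots is a rearrangement of the union of the orbits of a list -/
theorem TwSL.exists_half : ∀ (n : ℕ) (O : List ℕ), O.length = n → OrthI C.D R.pair O →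
    (∀ r ∈ O, T.G.rho r ∈ O) → ∃ P : List ℕ, (∀ r ∈ P, r < C.D.nroots) ∧ O.Perm (clI T.G.rho P) := by
  intro n
  induction n using Nat.strong_induction_on with
  | _ n ih =>
    intro O hlen hO hs
    cases O with
    | nil => exact ⟨[], fun _ h => absurd h List.not_mem_nil, List.Perm.refl _⟩
    | cons o O' =>
      have hnd := T.orthI_nodup F hO
      have ho := hO.1 o List.mem_cons_self
      have hoO' : o ∉ O' := (List.nodup_cons.mp hnd).1
      have hndO' : O'.Nodup := (List.nodup_cons.mp hnd).2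
      have hO' : OrthI C.D R.pair O' :=
        ⟨fun r hr => hO.1 r (List.mem_cons_of_mem _ hr), (List.pairwise_cons.mp hO.2).2⟩
      by_cases hρo : T.G.rho o = o
      · have hs' : ∀ r ∈ O', T.G.rho r ∈ O' := by
          intro r hr
          rcases List.mem_cons.mp (hs r (List.mem_cons_of_mem _ hr)) with e | h
          · exfalso
            have : r = o := T.rho_inj (hO'.1 r hr) ho (by rw [e, hρo])
            exact hoO' (this ▸ hr)
          · exact h
        obtain ⟨P, hP, hperm⟩ := ih O'.length (by simp at hlen; omega) O' rfl hO' hs'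
        refine ⟨o :: P, ?_, ?_⟩
        · intro r hr
          rcases List.mem_cons.mp hr with e | h
          · rw [e]; exact ho
          · exact hP r h
        · rw [clI_cons, if_pos hρo]
          exact List.Perm.cons o hperm
      · have hρmem : T.G.rho o ∈ O' := by
          rcases List.mem_cons.mp (hs o List.mem_cons_self) with e | h
          · exact absurd e hρo
          · exact h
        set O'' := O'.erase (T.G.rho o) with hO''def
        have hperm1 : O'.Perm (T.G.rho o :: O'') := List.perm_cons_erase hρmem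
        have hO''sub : ∀ r ∈ O'', r ∈ O' := fun r hr => List.mem_of_mem_erase hr
        have hO'' : OrthI C.D R.pair O'' :=
          ⟨fun r hr => hO'.1 r (hO''sub r hr), hO'.2.sublist (List.erase_sublist)⟩
        have hs'' : ∀ r ∈ O'', T.G.rho r ∈ O'' := by
          intro r hr
          have hrO' := hO''sub r hr
          have hr_lt := hO'.1 r hrO'
          have hne : r ≠ T.G.rho o := by
            intro e
            rw [e] at hr
            exact (List.Nodup.not_mem_erase hndO') hr
          rcases List.mem_cons.mp (hs r (List.mem_cons_of_mem _ hrO')) with e | h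
          · exfalso
            apply hne
            rw [← e, T.rho_rho hr_lt]
          · rw [hO''def, List.mem_erase_of_ne]
            · exact h
            · intro e
              have : r = o := T.rho_inj hr_lt ho e
              exact hoO' (this ▸ hrO')
        have hlen'' : O''.length < n := by
          have := hperm1.length_eq
          simp at this hlen
          omega
        obtain ⟨P, hP, hperm⟩ := ih O''.length hlen'' O'' rfl hO'' hs''
        refine ⟨o :: P, ?_, ?_⟩
        · intro r hr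
          rcases List.mem_cons.mp hr with e | h
          · rw [e]; exact ho
          · exact hP r h
        · rw [clI_cons, if_neg hρo]
          exact List.Perm.cons o (hperm1.trans (List.Perm.cons _ hperm))

end

end Cfsg.Agent.Lib.Helper3.SLInv
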