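import Mathlib
import Cfsg.Prelude.Def_ChevStructure
import Cfsg.Agent.Lib.Helper3.TwBridge3
set_option autoImplicit false
set_option linter.unusedSectionVars false
set_option linter.unusedVariables false
set_option linter.unusedSimpArgs false
open Cfsg Cfsg.Lie

/-!
The classification of the products of root elements over stable lists of orthogonal roots up to conjugacy under
the fixed points of the twisting map, from a tree of representatives.
-/

namespace Cfsg.Agent.Lib.Helper3.SLInv

open Cfsg.Agent.Lib.Helper3.ChevM Cfsg.Agent.Lib.Helper3 ChevU ChevT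
open Cfsg.Agent.Lib.Helper3.ChevAt

/-- the data of the tree of representatives of the lists of orbits -/
structure OrbDataσ where
  nodes : List (List ℕ)
  dsc : List ℕ → ℕ → ℕ
  fuel : ℕ
  reps : List (List ℕ)
  kind : List ℕ → ℕ × ℕ × ℕ × ℕ × ℕ × ℕ × List ℕ

/-- orthogonality of a root and of its image to the roots of the list -/
def perpσ (pair : ℕ → ℕ → ℤ) (rho : ℕ → ℕ) (N : List ℕ) (r : ℕ) : Bool := perpI pair N r && perpI pair N (rho r)

def descOKσ (D : ChevalleyDatum) (pair : ℕ → ℕ → ℤ) (rho : ℕ → ℕ) (X : OrbDataσ) (N : List ℕ) : ℕ → ℕ → Bool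
  | 0, _ => false
  | f + 1, r =>
    if X.dsc N r = D.nroots then decide ((r :: N) ∈ X.nodes)
    else decide (X.dsc N r < D.nroots) && perpσ pair rho N (X.dsc N r) &&
      descOKσ D pair rho X N f (sσI D pair rho (X.dsc N r) r)

def nodeOKσ (D : ChevalleyDatum) (pair : ℕ → ℕ → ℤ) (rho : ℕ → ℕ) (X : OrbDataσ) (N : List ℕ) : Bool :=
  match X.kind N with
  | (0, _, _, _, _, _, _) => decide (clI rho N ∈ X.reps)
  | (1, d, g, a, b, e, N') => N.isPerm (g :: a :: b :: e :: N') && d4Checkσ D pair rho d g a b e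
  | (2, β, a', a'', _, _, N') => N.isPerm (β :: N') && !decide (rho β = β) && a3Checkσ D pair rho β a' a'' &&
      perpI pair (clI rho N') a'
  | _ => false

def treeOKσ (D : ChevalleyDatum) (pair : ℕ → ℕ → ℤ) (rho : ℕ → ℕ) (X : OrbDataσ) : Bool :=
  decide ([] ∈ X.nodes) && X.nodes.all fun N =>
    nodeOKσ D pair rho X N && N.all (fun r => decide (r < D.nroots)) &&
      (List.range D.nroots).all fun r => !(perpσ pair rho N r) || descOKσ D pair rho X N X.fuel r

/-- the measure of a list of orbits -/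
def muσ (rho : ℕ → ℕ) (P : List ℕ) : ℕ := (P.map fun r => if rho r = r then 1 else 3).sum

section
variable {C : CDatum} {R : RelData C} (T : TwSL C R) (F : Type*) [Field F] [Fintype F] [CharP F 2] (X : TwF F)
  (Y : OrbDataσ)

include F in
/-- descent to a child of a node -/
theorem TwSL.descentσ {N : List ℕ} : ∀ (f r : ℕ), r < C.D.nroots →
    descOKσ C.D R.pair T.G.rho Y N f r = true →
    ∃ w : List ℕ, (∀ β ∈ w, β < C.D.nroots ∧ perpσ R.pair T.G.rho N β = true) ∧
      (sσW C.D R.pair T.G.rho w r :: N) ∈ Y.nodes := by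
  intro f
  induction f with
  | zero => intro r _ h; exact absurd h (by simp [descOKσ])
  | succ f ih =>
    intro r hr h
    unfold descOKσ at h
    by_cases h1 : Y.dsc N r = C.D.nroots
    · rw [if_pos h1] at h
      refine ⟨[], fun _ hb => absurd hb List.not_mem_nil, ?_⟩
      show (r :: N) ∈ Y.nodes
      simpa using h
    · rw [if_neg h1] at h
      simp only [Bool.and_eq_true, decide_eq_true_eq] at h
      obtain ⟨⟨hβ, hβp⟩, hrec⟩ := h
      set β := Y.dsc N r with hβdef
      have hr' : sσI C.D R.pair T.G.rho β r < C.D.nroots := T.sσI_lt F hβ hr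
      obtain ⟨w, hw, hmem⟩ := ih _ hr' hrec
      refine ⟨w ++ [β], ?_, ?_⟩
      · intro b hb
        rcases List.mem_append.mp hb with h | h
        · exact hw b h
        · rw [List.mem_singleton.mp h]; exact ⟨hβ, hβp⟩
      · rw [sσW_append]
        exact hmem

theorem perpσ_iff {pair : ℕ → ℕ → ℤ} {rho : ℕ → ℕ} {N : List ℕ} {r : ℕ} :
    perpσ pair rho N r = true ↔ ∀ t ∈ N, pair r t = 0 ∧ pair (rho r) t = 0 := by
  unfold perpσ perpI
  simp only [Bool.and_eq_true, List.all_eq_true, decide_eq_true_eq]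
  constructor
  · rintro ⟨h1, h2⟩ t ht
    exact ⟨h1 t ht, h2 t ht⟩
  · intro h
    exact ⟨fun t ht => (h t ht).1, fun t ht => (h t ht).2⟩

include F X in
/-- every list of orbits with orthogonal union is mapped to a node by a word of twisted reflections -/
theorem TwSL.to_nodeσ (hY : treeOKσ C.D R.pair T.G.rho Y = true) : ∀ (P : List ℕ),
    OrthI C.D R.pair (clI T.G.rho P) → (∀ r ∈ P, r < C.D.nroots) →
    ∃ w : List ℕ, (∀ β ∈ w, β < C.D.nroots) ∧ P.map (sσW C.D R.pair T.G.rho w) ∈ Y.nodes := by
  simp only [treeOKσ, Bool.and_eq_true, decide_eq_true_eq, List.all_eq_true, Bool.or_eq_true, List.mem_range,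
    Bool.not_eq_true'] at hY
  obtain ⟨hnil, hnodes⟩ := hY
  intro P
  induction P with
  | nil => intro _ _; exact ⟨[], fun _ h => absurd h List.not_mem_nil, by simpa using hnil⟩
  | cons o P ih =>
    intro hO hlt
    have ho := hlt o List.mem_cons_self
    have hPlt : ∀ r ∈ P, r < C.D.nroots := fun r hr => hlt r (List.mem_cons_of_mem _ hr)
    have hsub : (clI T.G.rho P).Sublist (clI T.G.rho (o :: P)) := by
      rw [clI_cons]
      exact List.sublist_append_right _ _
    have hO1 : OrthI C.D R.pair (clI T.G.rho P) :=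
      ⟨fun r hr => hO.1 r (hsub.subset hr), hO.2.sublist hsub⟩
    obtain ⟨w1, hw1, hN⟩ := ih hO1 hPlt
    set N := P.map (sσW C.D R.pair T.G.rho w1) with hNdef
    obtain ⟨⟨-, hNlt⟩, hdesc⟩ := hnodes N hN
    have hNlt' : ∀ t ∈ N, t < C.D.nroots := by
      intro t ht
      exact hNlt t ht
    set o1 := sσW C.D R.pair T.G.rho w1 o with ho1
    have ho1lt : o1 < C.D.nroots := T.sσW_lt F hw1 ho
    -- the new root is orthogonal to the union of the orbits of the tail
    have horth : ∀ t ∈ clI T.G.rho P, R.pair o t = 0 := by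
      intro t ht
      have h1 : (o :: clI T.G.rho P).Sublist (clI T.G.rho (o :: P)) := by
        rw [clI_cons]
        split_ifs
        · exact List.Sublist.refl _
        · exact List.Sublist.cons_cons _ (List.Sublist.cons _ (List.Sublist.refl _))
      exact (List.pairwise_cons.mp (hO.2.sublist h1)).1 t ht
    have hperp : perpσ R.pair T.G.rho N o1 = true := by
      rw [perpσ_iff]
      intro t ht
      rw [hNdef] at ht
      obtain ⟨t0, ht0, rfl⟩ := List.mem_map.mp ht
      have ht0lt := hPlt t0 ht0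
      refine ⟨?_, ?_⟩
      · rw [ho1, T.pair_sσW F hw1 ho ht0lt]
        exact horth t0 (mem_clI.mpr ⟨t0, ht0, Or.inl rfl⟩)
      · rw [ho1, T.rho_sσW F X hw1 ho, T.pair_sσW F hw1 (T.rho_lt ho) ht0lt, T.pair_rho_left ho ht0lt]
        exact horth _ (mem_clI.mpr ⟨t0, ht0, Or.inr rfl⟩)
    rcases hdesc o1 ho1lt with h | h
    · rw [hperp] at h; exact absurd h (by simp)
    · obtain ⟨w2, hw2, hmem⟩ := T.descentσ F Y _ o1 ho1lt h
      refine ⟨w2 ++ w1, ?_, ?_⟩
      · intro b hb
        rcases List.mem_append.mp hb with h | h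
        · exact (hw2 b h).1
        · exact hw1 b h
      · have e : (o :: P).map (sσW C.D R.pair T.G.rho (w2 ++ w1)) = sσW C.D R.pair T.G.rho w2 o1 :: N := by
          rw [List.map_cons, sσW_append]
          congr 1
          rw [hNdef]
          apply List.map_congr_left
          intro t ht
          rw [sσW_append]
          apply T.sσW_fix (fun b hb => (hw2 b hb).1) (T.sσW_lt F hw1 (hPlt t ht))
          intro b hb
          have hbp := perpσ_iff.mp (hw2 b hb).2 (sσW C.D R.pair T.G.rho w1 t) (List.mem_map.mpr ⟨t, ht, rfl⟩)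
          have hblt := (hw2 b hb).1
          have htlt := T.sσW_lt F hw1 (hPlt t ht)
          exact ⟨by rw [T.H.pair_symm htlt hblt]; exact hbp.1,
            by rw [T.H.pair_symm htlt (T.rho_lt hblt)]; exact hbp.2⟩
        rw [e]
        exact hmem

theorem muσ_cons (rho : ℕ → ℕ) (r : ℕ) (P : List ℕ) :
    muσ rho (r :: P) = (if rho r = r then 1 else 3) + muσ rho P := by
  simp [muσ]

theorem muσ_perm (rho : ℕ → ℕ) {P P' : List ℕ} (h : P.Perm P') : muσ rho P = muσ rho P' := by
  unfold muσ
  exact (h.map _).sum_eq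

theorem clI_perm (rho : ℕ → ℕ) {P P' : List ℕ} (h : P.Perm P') : (clI rho P).Perm (clI rho P') := by
  unfold clI
  exact h.flatMap_right _

include F X in
theorem TwSL.muσ_map {w : List ℕ} (hw : ∀ β ∈ w, β < C.D.nroots) {P : List ℕ} (hP : ∀ r ∈ P, r < C.D.nroots) :
    muσ T.G.rho (P.map (sσW C.D R.pair T.G.rho w)) = muσ T.G.rho P := by
  induction P with
  | nil => rfl
  | cons r P ih =>
    have hr := hP r List.mem_cons_self
    rw [List.map_cons, muσ_cons, muσ_cons, ih fun s hs => hP s (List.mem_cons_of_mem _ hs)]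
    congr 1
    by_cases h : T.G.rho r = r
    · rw [if_pos h, if_pos (by rw [T.rho_sσW F X hw hr, h])]
    · have h2 : T.G.rho (sσW C.D R.pair T.G.rho w r) ≠ sσW C.D R.pair T.G.rho w r := by
        intro e
        apply h
        rw [T.rho_sσW F X hw hr] at e
        have h3 := T.pair_sσW F hw hr (T.rho_lt hr)
        rw [e, T.H.pair_self (T.sσW_lt F hw hr)] at h3
        exact T.eq_of_pair_two F hr (T.rho_lt hr) h3.symm
      rw [if_neg h, if_neg h2]

/-- the classification of the products over stable orthogonal lists up to conjugacy under the fixed points -/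
theorem TwSL.classifyσ (hY : treeOKσ C.D R.pair T.G.rho Y = true) : ∀ (n : ℕ) (P : List ℕ),
    muσ T.G.rho P = n → (∀ r ∈ P, r < C.D.nroots) → OrthI C.D R.pair (clI T.G.rho P) →
    ∃ rep ∈ Y.reps, CjσI T X (clI T.G.rho P) rep := by
  have hY' := hY
  simp only [treeOKσ, Bool.and_eq_true, decide_eq_true_eq, List.all_eq_true, Bool.or_eq_true, List.mem_range,
    Bool.not_eq_true'] at hY'
  obtain ⟨-, hnodes⟩ := hY'
  intro n
  induction n using Nat.strong_induction_on with
  | _ n ih =>
    intro P hmu hP hO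
    obtain ⟨w, hw, hN⟩ := T.to_nodeσ F X Y hY P hO hP
    have hcj := T.cjσI_word F X hw hO.1
    have hON := T.orthI_map_sσW F hw hO
    rw [← T.clI_map F X hw hP] at hcj hON
    set N := P.map (sσW C.D R.pair T.G.rho w) with hNdef
    have hmuN : muσ T.G.rho N = n := by rw [hNdef, T.muσ_map F X hw hP, hmu]
    obtain ⟨⟨hnode, hNlt⟩, -⟩ := hnodes N hN
    unfold nodeOKσ at hnode
    split at hnode
    · -- a final node
      rw [decide_eq_true_eq] at hnode
      exact ⟨_, hnode, hcj⟩
    · -- a quadruple of fixed roots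
      rename_i d g a b e N' hk
      simp only [Bool.and_eq_true, List.isPerm_iff] at hnode
      obtain ⟨hperm, hd4⟩ := hnode
      have hd4' := hd4
      simp only [d4Checkσ, Bool.and_eq_true, decide_eq_true_eq] at hd4'
      obtain ⟨⟨⟨⟨⟨-, hρd⟩, hρg⟩, hρa⟩, hρb⟩, hρe⟩ := hd4'
      have hcl : clI T.G.rho (g :: a :: b :: e :: N') = g :: a :: b :: e :: clI T.G.rho N' := by
        rw [clI_cons, clI_cons, clI_cons, clI_cons, if_pos hρg, if_pos hρa, if_pos hρb, if_pos hρe]
        rfl
      have hcl' : clI T.G.rho (a :: b :: e :: N') = a :: b :: e :: clI T.G.rho N' := by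
        rw [clI_cons, clI_cons, clI_cons, if_pos hρa, if_pos hρb, if_pos hρe]
        rfl
      have hpermcl := clI_perm T.G.rho hperm
      rw [hcl] at hpermcl
      have hO2 := T.H.orthI_perm hON hpermcl
      obtain ⟨hcj2, hO3⟩ := T.cjσI_d4 F X hO2 hd4
      have hmu2 : muσ T.G.rho (a :: b :: e :: N') < n := by
        have := muσ_perm T.G.rho hperm
        rw [hmuN, muσ_cons, if_pos hρg] at this
        omega
      have hP2 : ∀ r ∈ a :: b :: e :: N', r < C.D.nroots := by
        intro r hr
        have : r ∈ N := hperm.symm.subset (List.mem_cons_of_mem _ hr)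
        exact hNlt r this
      rw [← hcl'] at hO3
      have hcj2' : CjσI T X (g :: a :: b :: e :: clI T.G.rho N') (clI T.G.rho (a :: b :: e :: N')) := by
        rw [hcl']; exact hcj2
      obtain ⟨rep, hrep, hcj3⟩ := ih _ hmu2 _ rfl hP2 hO3
      exact ⟨rep, hrep, CjσI.trans T X hcj (CjσI.trans T X (T.cjσI_perm X hON hpermcl)
        (CjσI.trans T X hcj2' hcj3))⟩
    · -- a pair of swapped roots
      rename_i β a' a'' x1 x2 N' hk
      simp only [Bool.and_eq_true, List.isPerm_iff, Bool.not_eq_true', decide_eq_false_iff_not] at hnode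
      obtain ⟨⟨⟨hperm, hρβ⟩, ha3⟩, hperpa⟩ := hnode
      have ha3' := ha3
      simp only [a3Checkσ, Bool.and_eq_true, decide_eq_true_eq] at ha3'
      obtain ⟨⟨⟨⟨ha', ha''⟩, hρa'⟩, -⟩, -⟩ := ha3'
      have hcl : clI T.G.rho (β :: N') = β :: T.G.rho β :: clI T.G.rho N' := by
        rw [clI_cons, if_neg hρβ]
        rfl
      have hpermcl := clI_perm T.G.rho hperm
      rw [hcl] at hpermcl
      have hO2 := T.H.orthI_perm hON hpermcl
      have hL : ∀ o ∈ clI T.G.rho N', R.pair a' o = 0 := by
        unfold perpI at hperpa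
        simp only [List.all_eq_true, decide_eq_true_eq] at hperpa
        exact hperpa
      obtain ⟨hcj2, hO3, hρa''⟩ := T.cjσI_a3 F X hO2 ha3 hL
      have hcl' : clI T.G.rho (a' :: a'' :: N') = a' :: a'' :: clI T.G.rho N' := by
        rw [clI_cons, clI_cons, if_pos hρa', if_pos hρa'']
        rfl
      have hmu2 : muσ T.G.rho (a' :: a'' :: N') < n := by
        have := muσ_perm T.G.rho hperm
        rw [hmuN, muσ_cons, if_neg hρβ] at this
        rw [muσ_cons, muσ_cons, if_pos hρa', if_pos hρa'']
        omega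
      have hP2 : ∀ r ∈ a' :: a'' :: N', r < C.D.nroots := by
        intro r hr
        rcases List.mem_cons.mp hr with e | hr
        · rw [e]; exact ha'
        · rcases List.mem_cons.mp hr with e | hr
          · rw [e]; exact ha''
          · exact hNlt r (hperm.symm.subset (List.mem_cons_of_mem _ hr))
      rw [← hcl'] at hcj2 hO3
      obtain ⟨rep, hrep, hcj3⟩ := ih _ hmu2 _ rfl hP2 hO3
      exact ⟨rep, hrep, CjσI.trans T X hcj (CjσI.trans T X (T.cjσI_perm X hON hpermcl)
        (CjσI.trans T X hcj2 hcj3))⟩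
    · exact absurd hnode (by simp)

/-- the classification of the products over stable lists of orthogonal roots -/
theorem TwSL.classify_stable (hY : treeOKσ C.D R.pair T.G.rho Y = true) {O : List ℕ}
    (hO : OrthI C.D R.pair O) (hs : ∀ r ∈ O, T.G.rho r ∈ O) : ∃ rep ∈ Y.reps, CjσI T X O rep := by
  obtain ⟨P, hP, hperm⟩ := T.exists_half F O.length O rfl hO hs
  have hO2 := T.H.orthI_perm hO hperm
  obtain ⟨rep, hrep, hcj⟩ := T.classifyσ F X Y hY _ P rfl hP hO2
  exact ⟨rep, hrep, CjσI.trans T X (T.cjσI_perm X hO hperm) hcj⟩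

end

end Cfsg.Agent.Lib.Helper3.SLInv
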