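import Mathlib
import Cfsg.Prelude.Def_ChevStructure
import Cfsg.Agent.Lib.Helper3.TwBridge4
set_option autoImplicit false
set_option linter.unusedSectionVars false
set_option linter.unusedVariables false
set_option linter.unusedSimpArgs false
open Cfsg Cfsg.Lie

/-!
The cascade of fixed dominant roots from the check on root indices, and the reduction of the involutions of the
twisted group to the representatives of the tree.
-/

namespace Cfsg.Agent.Lib.Helper3.SLInv

open Cfsg.Agent.Lib.Helper3.ChevM Cfsg.Agent.Lib.Helper3 ChevU ChevT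
open Cfsg.Agent.Lib.Helper3.ChevAt

section
variable {C : CDatum} {R : RelData C} (T : TwSL C R) (F : Type*) [Field F] [Fintype F] [CharP F 2] (X : TwF F)

theorem TwSL.cascσ_of_check : ∀ (γs T' : List ℕ), (∀ t ∈ T', t < C.D.nroots) →
    cascCheck C.D R.pair T.H.w T' γs = true → (∀ γ ∈ γs, T.G.rho γ = γ) →
    (T.ts X).Cascσ (T'.map (vecZ C.D)) := by
  intro γs
  induction γs with
  | nil =>
    intro T' hT h _
    apply TwSys.Cascσ.base
    intro v hv hk hp
    obtain ⟨r, hr, rfl⟩ := mem_rootsV.mp hv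
    simp only [cascCheck, List.all_eq_true, List.mem_range, Bool.not_eq_true', Bool.and_eq_false_iff,
      decide_eq_false_iff_not] at h
    rcases h r hr with h1 | h1
    · apply h1
      rw [← keyv_vecZ]
      exact hk
    · rw [(T.H.perp_iff F hT hr).mp hp] at h1
      exact absurd h1 (by simp)
  | cons γ γs ih =>
    intro T' hT h hfix
    simp only [cascCheck, Bool.and_eq_true] at h
    obtain ⟨hd, hrest⟩ := h
    simp only [domCheck, Bool.and_eq_true, decide_eq_true_eq, List.all_eq_true, List.mem_range, Bool.or_eq_true,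
      Bool.not_eq_true', Bool.and_eq_false_iff, decide_eq_false_iff_not] at hd
    obtain ⟨⟨⟨hγ, hkγ⟩, hpγ⟩, hdom⟩ := hd
    have hT' : ∀ t ∈ γ :: T', t < C.D.nroots := by
      intro t ht
      rcases List.mem_cons.mp ht with h | h
      · rw [h]; exact hγ
      · exact hT t h
    refine TwSys.Cascσ.step _ (vecZ C.D γ) ?_ ?_ (by
      have := ih (γ :: T') hT' hrest (fun g hg => hfix g (List.mem_cons_of_mem _ hg))
      rwa [List.map_cons] at this)
    · refine ⟨mem_rootsV.mpr ⟨γ, hγ, rfl⟩, ?_, (T.H.perp_iff F hT hγ).mpr hpγ, ?_⟩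
      · show 0 < keyv C.D T.H.w (vecZ C.D γ)
        rw [keyv_vecZ]; exact hkγ
      · intro v hv hk hp
        obtain ⟨r, hr, rfl⟩ := mem_rootsV.mp hv
        show 0 ≤ Bv C.D _ _
        rw [T.H.Bv_vecZ r γ hr hγ]
        rcases hdom r hr with h1 | h1
        · rcases h1 with h1 | h1
          · exfalso
            apply h1
            rw [← keyv_vecZ]
            exact hk
          · rw [(T.H.perp_iff F hT hr).mp hp] at h1
            exact absurd h1 (by simp)
        · exact h1
    · rw [T.ρ_vecZ X hγ, hfix γ List.mem_cons_self]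

/-- every involution of the unipotent group fixed by the twisting map is conjugate under a fixed element of the
Chevalley group to the product over one of the representatives of the tree -/
theorem TwSL.involution_repσ {γs : List ℕ} (hcasc : cascCheck C.D R.pair T.H.w [] γs = true)
    (hfix : ∀ γ ∈ γs, T.G.rho γ = γ) (Y : OrbDataσ) (hY : treeOKσ C.D R.pair T.G.rho Y = true)
    (u : GL C.D.Idx F) (hu : u ∈ C.D.posUnipotent F) (hσ : T.G.sig X.φ u = u) (hsq : u * u = 1) :
    ∃ rep ∈ Y.reps, ∃ h ∈ C.D.group F, T.G.sig X.φ h = h ∧ h * u * h⁻¹ = xsI R F rep := by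
  have hc : (T.ts X).Cascσ [] := by
    have := T.cascσ_of_check F X γs [] (fun _ h => absurd h List.not_mem_nil) hcasc hfix
    simpa using this
  obtain ⟨g, hg, hσg, O, hO, hOs, e⟩ := (T.ts X).involution_conjσ hc (T.H.posUnipotent_le_UPos F hu) hsq hσ
  rw [T.H.GT_nil] at hg
  -- back to indices
  have hidx : ∀ v ∈ O, ∃ r, r < C.D.nroots ∧ vecZ C.D r = v := fun v hv => mem_rootsV.mp (hO.1 v hv)
  set OI := O.map (idx C.D) with hOI
  have hOIlt : ∀ r ∈ OI, r < C.D.nroots := by
    intro r hr
    obtain ⟨v, hv, rfl⟩ := List.mem_map.mp hr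
    obtain ⟨r', hr', rfl⟩ := hidx v hv
    rw [T.H.idx_vecZ hr']; exact hr'
  have hOmap : OI.map (vecZ C.D) = O := by
    rw [hOI, List.map_map]
    conv_rhs => rw [← List.map_id O]
    apply List.map_congr_left
    intro v hv
    obtain ⟨r, hr, rfl⟩ := hidx v hv
    simp only [Function.comp, id]
    rw [T.H.idx_vecZ hr]
  have hOrthI : OrthI C.D R.pair OI := by
    refine ⟨hOIlt, ?_⟩
    have h2 := hO.2
    rw [← hOmap, List.pairwise_map] at h2
    have h1 : OI.Pairwise fun a b => a ∈ OI ∧ b ∈ OI ∧ (T.H.sys (F := F)).B (vecZ C.D a) (vecZ C.D b) = 0 := by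
      rw [List.pairwise_iff_getElem] at h2 ⊢
      intro i j hi hj hij
      exact ⟨List.getElem_mem hi, List.getElem_mem hj, h2 i j hi hj hij⟩
    refine h1.imp ?_
    rintro a b ⟨ha, hb, hab⟩
    rw [← T.H.Bv_vecZ a b (hOIlt a ha) (hOIlt b hb)]
    exact hab
  have hstab : ∀ r ∈ OI, T.G.rho r ∈ OI := by
    intro r hr
    have hrlt := hOIlt r hr
    have h1 : vecZ C.D r ∈ O := by rw [← hOmap]; exact List.mem_map.mpr ⟨r, hr, rfl⟩
    have h2 := hOs _ h1
    rw [T.ρ_vecZ X hrlt, ← hOmap] at h2
    obtain ⟨s, hs, e⟩ := List.mem_map.mp h2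
    have : s = T.G.rho r := T.H.vecZ_inj (hOIlt s hs) (T.rho_lt hrlt) e
    rw [← this]; exact hs
  obtain ⟨rep, hrep, k, hk, hσk, ek⟩ := T.classify_stable F X Y hY hOrthI hstab
  refine ⟨rep, hrep, k * g, Subgroup.mul_mem _ hk hg, ?_, ?_⟩
  · rw [map_mul, hσk]
    congr 1
  · rw [← SLSys.conj_conj, e, ← hOmap, T.H.xs_map F OI hOIlt]
    exact ek

end

end Cfsg.Agent.Lib.Helper3.SLInv
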