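import Mathlib
import Cfsg.Prelude.Def_ChevStructure
import Cfsg.Prelude.Def_ChevE6
import Cfsg.Agent.Lib.Helper3.TwBridge5
import Cfsg.Agent.Lib.Helper3.SLE6a
import Cfsg.Agent.Lib.Helper3.ChevData.E6TwA
set_option autoImplicit false
set_option linter.unusedSectionVars false
set_option linter.unusedVariables false
set_option linter.style.haveILetI false
set_option maxRecDepth 1000000
open Cfsg Cfsg.Lie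

/-!
The classes of involutions of the twisted groups of type `E₆` in characteristic two: the table checks of the
twisting, and the tree of representatives of the stable lists of orthogonal roots.
-/

namespace Cfsg.Agent.Lib.Helper3.SLInv

open Cfsg.Agent.Lib.Helper3.ChevM Cfsg.Agent.Lib.Helper3 ChevU ChevT
open Cfsg.Agent.Lib.Helper3.ChevAt Cfsg.Agent.Lib.Helper3.ChevAut

/-- the weights of the invariant height function of type `E₆` -/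
def wKE6 : ℕ → ℤ := fun i => ([1, 256, 16, 4096, 16, 1] : List ℤ).getD i 0

/-- the table checks of the twisting of type `E₆` -/
def twslE6 : TwSL cdE6 relE6 where
  H := invHypE6
  G := graphE6A
  tab := twE6A.tab
  wK := wKE6
  hpp := by decide +kernel
  hvec := by decide +kernel
  hcart := by decide +kernel
  hwK := by decide +kernel
  hKpos := by decide +kernel
  hKinj := by decide +kernel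
  horb := by decide +kernel

theorem e6CascFix : ∀ γ ∈ ([71, 60, 44, 39] : List ℕ), graphE6A.rho γ = γ := by decide +kernel

/-- the nodes of the twisted tree of type E6 -/
def e6NodesT : List (List ℕ) :=
  [[],
   [71],
   [68],
   [60, 71],
   [59, 71],
   [53, 68],
   [44, 60, 71],
   [43, 60, 71],
   [39, 59, 71],
   [46, 53, 68],
   [39, 44, 60, 71]]

/-- the descent table of the twisted tree of type E6 -/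
def e6DscTabT : List (List ℕ × List ℕ) :=
  [([], [0, 25, 24, 3, 15, 11, 20, 13, 18, 14, 12, 3, 14, 9, 7, 14, 12, 14, 8, 13, 6, 3, 15, 0, 2, 1, 10, 4, 3, 3, 15, 1, 7, 15, 2, 4, 4, 29, 29, 9, 28, 28, 6, 8, 10, 10, 1, 2, 21, 21, 11, 6, 13, 8, 14, 21, 7, 7, 9, 28, 21, 12, 21, 18, 21, 20, 21, 15, 72, 24, 25, 72]),
   ([71], [0, 0, 0, 0, 0, 0, 0, 0, 0, 0, 0, 11, 12, 29, 28, 12, 0, 0, 0, 0, 0, 0, 0, 0, 0, 0, 27, 12, 27, 27, 28, 14, 13, 29, 13, 11, 15, 13, 15, 14, 14, 15, 28, 29, 15, 15, 0, 0, 0, 0, 0, 0, 0, 0, 0, 0, 27, 28, 29, 72, 72, 0, 0, 0, 0, 0, 0, 0, 0, 0, 0, 0]),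
   ([68], [0, 0, 0, 0, 0, 0, 0, 0, 0, 0, 0, 0, 0, 0, 0, 0, 0, 0, 18, 0, 32, 0, 0, 0, 27, 24, 0, 24, 0, 0, 0, 0, 20, 0, 0, 0, 0, 0, 0, 20, 0, 0, 0, 0, 24, 0, 32, 27, 0, 0, 0, 32, 0, 72, 0, 0, 0, 0, 0, 0, 0, 0, 0, 0, 0, 0, 0, 0, 0, 0, 0, 0]),
   ([60, 71], [0, 0, 0, 0, 0, 0, 0, 0, 0, 0, 0, 0, 0, 0, 0, 0, 0, 0, 0, 0, 0, 0, 0, 0, 0, 0, 0, 27, 28, 28, 0, 32, 28, 0, 27, 0, 0, 29, 0, 29, 29, 0, 32, 72, 72, 0, 0, 0, 0, 0, 0, 0, 0, 0, 0, 0, 0, 0, 0, 0, 0, 0, 0, 0, 0, 0, 0, 0, 0, 0, 0, 0]),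
   ([59, 71], [0, 0, 0, 0, 0, 0, 0, 0, 0, 0, 0, 0, 0, 0, 0, 0, 0, 0, 0, 0, 0, 0, 0, 0, 0, 0, 0, 0, 0, 0, 0, 0, 32, 0, 0, 0, 0, 0, 0, 72, 0, 0, 0, 0, 0, 0, 0, 0, 0, 0, 0, 0, 0, 0, 0, 0, 0, 0, 0, 0, 0, 0, 0, 0, 0, 0, 0, 0, 0, 0, 0, 0]),
   ([53, 68], [0, 0, 0, 0, 0, 0, 0, 0, 0, 0, 0, 0, 0, 0, 0, 0, 0, 0, 0, 0, 0, 0, 0, 0, 0, 25, 0, 0, 0, 0, 0, 0, 0, 0, 0, 0, 0, 0, 0, 0, 0, 0, 0, 0, 0, 0, 72, 0, 0, 0, 0, 0, 0, 0, 0, 0, 0, 0, 0, 0, 0, 0, 0, 0, 0, 0, 0, 0, 0, 0, 0, 0]),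
   ([44, 60, 71], [0, 0, 0, 0, 0, 0, 0, 0, 0, 0, 0, 0, 0, 0, 0, 0, 0, 0, 0, 0, 0, 0, 0, 0, 0, 0, 0, 0, 0, 0, 0, 0, 32, 0, 0, 0, 0, 0, 0, 72, 0, 0, 0, 0, 0, 0, 0, 0, 0, 0, 0, 0, 0, 0, 0, 0, 0, 0, 0, 0, 0, 0, 0, 0, 0, 0, 0, 0, 0, 0, 0, 0]),
   ([43, 60, 71], [0, 0, 0, 0, 0, 0, 0, 0, 0, 0, 0, 0, 0, 0, 0, 0, 0, 0, 0, 0, 0, 0, 0, 0, 0, 0, 0, 0, 0, 0, 0, 0, 0, 0, 0, 0, 0, 0, 0, 0, 0, 0, 0, 0, 0, 0, 0, 0, 0, 0, 0, 0, 0, 0, 0, 0, 0, 0, 0, 0, 0, 0, 0, 0, 0, 0, 0, 0, 0, 0, 0, 0]),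
   ([39, 59, 71], [0, 0, 0, 0, 0, 0, 0, 0, 0, 0, 0, 0, 0, 0, 0, 0, 0, 0, 0, 0, 0, 0, 0, 0, 0, 0, 0, 0, 0, 0, 0, 0, 0, 0, 0, 0, 0, 0, 0, 0, 0, 0, 0, 0, 0, 0, 0, 0, 0, 0, 0, 0, 0, 0, 0, 0, 0, 0, 0, 0, 0, 0, 0, 0, 0, 0, 0, 0, 0, 0, 0, 0]),
   ([46, 53, 68], [0, 0, 0, 0, 0, 0, 0, 0, 0, 0, 0, 0, 0, 0, 0, 0, 0, 0, 0, 0, 0, 0, 0, 0, 0, 0, 0, 0, 0, 0, 0, 0, 0, 0, 0, 0, 0, 0, 0, 0, 0, 0, 0, 0, 0, 0, 0, 0, 0, 0, 0, 0, 0, 0, 0, 0, 0, 0, 0, 0, 0, 0, 0, 0, 0, 0, 0, 0, 0, 0, 0, 0]),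
   ([39, 44, 60, 71], [0, 0, 0, 0, 0, 0, 0, 0, 0, 0, 0, 0, 0, 0, 0, 0, 0, 0, 0, 0, 0, 0, 0, 0, 0, 0, 0, 0, 0, 0, 0, 0, 0, 0, 0, 0, 0, 0, 0, 0, 0, 0, 0, 0, 0, 0, 0, 0, 0, 0, 0, 0, 0, 0, 0, 0, 0, 0, 0, 0, 0, 0, 0, 0, 0, 0, 0, 0, 0, 0, 0, 0])]

/-- the kinds of the nodes of the twisted tree of type E6 -/
def e6KindTabT : List (List ℕ × (ℕ × ℕ × ℕ × ℕ × ℕ × ℕ × List ℕ)) :=
  [([], (0, 0, 0, 0, 0, 0, [])),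
   ([71], (0, 0, 0, 0, 0, 0, [])),
   ([68], (2, 68, 71, 60, 0, 0, [])),
   ([60, 71], (0, 0, 0, 0, 0, 0, [])),
   ([59, 71], (2, 59, 60, 44, 0, 0, [71])),
   ([53, 68], (2, 68, 69, 65, 0, 0, [53])),
   ([44, 60, 71], (0, 0, 0, 0, 0, 0, [])),
   ([43, 60, 71], (2, 43, 44, 39, 0, 0, [60, 71])),
   ([39, 59, 71], (2, 59, 60, 44, 0, 0, [39, 71])),
   ([46, 53, 68], (2, 68, 69, 65, 0, 0, [46, 53])),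
   ([39, 44, 60, 71], (1, 2, 39, 44, 60, 71, []))]

/-- the twisted tree of representatives of type E6 -/
def orbE6T : OrbDataσ where
  nodes := e6NodesT
  dsc := fun N r => ((e6DscTabT.lookup N).getD []).getD r 0
  fuel := 4
  reps := [[], [71], [60, 71], [44, 60, 71]]
  kind := fun N => (e6KindTabT.lookup N).getD (3, 0, 0, 0, 0, 0, [])

theorem e6TreeOKT : treeOKσ cdE6.D relE6.pair graphE6A.rho orbE6T = true := by decide +kernel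

end Cfsg.Agent.Lib.Helper3.SLInv
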