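import Mathlib
import Cfsg.Prelude.Def_ChevStructure
import Cfsg.Prelude.Def_ChevE6
import Cfsg.Agent.Lib.Helper3.TwE6a
import Cfsg.Agent.Lib.Helper3.SLE6c
import Cfsg.Agent.Lib.Helper3.TwAutE6
import Cfsg.Agent.Lib.Helper3.ChevFold2
import Cfsg.Agent.Lib.Helper3.ChevData.E6TwC
import Cfsg.Agent.Lib.Helper3.QDFusion1
set_option autoImplicit false
set_option linter.unusedSectionVars false
set_option linter.unusedVariables false
set_option linter.style.haveILetI false
set_option maxRecDepth 1000000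
open Cfsg Cfsg.Lie

/-!
The twisted groups of type `E₆` in characteristic two have exactly three classes of involutions.
-/

namespace Cfsg.Agent.Lib.Helper3.SLInv

open Cfsg.Agent.Lib.Helper3.ChevM Cfsg.Agent.Lib.Helper3 ChevU ChevT
open Cfsg.Agent.Lib.Helper3.ChevAt Cfsg.Agent.Lib.Helper3.ChevAut Cfsg.Agent.Lib.Helper3.TwAut

section
variable {K : Type*} [Field K] [Fintype K] [CharP K 2]

theorem q_pow_two_sq (q : ℕ) (hK : Fintype.card K = q ^ 2) : ∃ f : ℕ, 1 ≤ f ∧ q = 2 ^ f := by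
  obtain ⟨n, hp, hn⟩ := FiniteField.card K 2
  have hdvd : q ∣ 2 ^ (n : ℕ) := by
    rw [← hn, hK]
    exact dvd_pow_self q (by norm_num)
  obtain ⟨f, -, rfl⟩ := (Nat.dvd_prime_pow Nat.prime_two).mp hdvd
  refine ⟨f, ?_, rfl⟩
  by_contra hf
  have hf0 : f = 0 := by omega
  subst hf0
  have := Fintype.one_lt_card (α := K)
  rw [hK] at this
  norm_num at this

/-- an element of trace one for a field automorphism of order two which is not the identity -/
theorem exists_trace_one (φ : K →+* K) (hφ2 : ∀ a, φ (φ a) = a) {x : K} (hx : φ x ≠ x) :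
    ∃ lam : K, lam + φ lam = 1 := by
  have h2 : ∀ a : K, a + a = 0 := fun a => CharTwo.add_self_eq_zero a
  set t := x + φ x with ht
  have ht0 : t ≠ 0 := by
    intro e
    apply hx
    have : φ x = φ x + (x + φ x) := by rw [← ht, e, add_zero]
    calc φ x = φ x + (x + φ x) := this
      _ = x + (φ x + φ x) := by ring
      _ = x := by rw [h2, add_zero]
  have hφt : φ t = t := by rw [ht, map_add, hφ2, add_comm]
  refine ⟨x * t⁻¹, ?_⟩
  rw [map_mul, map_inv₀, hφt, ← add_mul, ← ht, mul_inv_cancel₀ ht0]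

theorem xsI_sig_fix (φ : K →+* K) {O : List ℕ} (hO : ∀ r ∈ O, r < cdE6.D.nroots ∧ graphE6A.rho r = r) :
    graphE6A.sig φ (xsI relE6 K O) = xsI relE6 K O := by
  unfold xsI
  rw [map_list_prod, List.map_map]
  congr 1
  apply List.map_congr_left
  intro r hr
  simp only [Function.comp]
  have := twslE6.sig_xU (F := K) φ (hO r hr).1 1
  rw [map_one] at this
  rw [show twslE6.G = graphE6A from rfl, (hO r hr).2] at this
  exact this

theorem e6t_fix1 : ∀ r ∈ ([71] : List ℕ), r < cdE6.D.nroots ∧ graphE6A.rho r = r := by decide +kernel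

theorem e6t_fix2 : ∀ r ∈ ([60, 71] : List ℕ), r < cdE6.D.nroots ∧ graphE6A.rho r = r := by decide +kernel

theorem e6t_fix3 : ∀ r ∈ ([44, 60, 71] : List ℕ), r < cdE6.D.nroots ∧ graphE6A.rho r = r := by decide +kernel

theorem e6t_orth2 : OrthI cdE6.D relE6.pair [60, 71] := ⟨by decide, by decide +kernel⟩

theorem e6t_orth3 : OrthI cdE6.D relE6.pair [44, 60, 71] := ⟨by decide, by decide +kernel⟩

theorem e6t_perm2 : ([60, 71] : List ℕ).map (sIW cdE6.D relE6.pair [21]) = [68, 66] := by decide +kernel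

theorem e6t_perm3 : ([44, 60, 71] : List ℕ).map (sIW cdE6.D relE6.pair [22, 33]) = [55, 65, 67] := by
  decide +kernel

theorem e6t_rk1 : (((xsI relE6 K [71] : GL cdE6.D.Idx K) : Matrix cdE6.D.Idx cdE6.D.Idx K) - 1).rank = 22 := by
  rw [e6_val1]; exact e6_rk1 K

theorem e6t_rk2 : (((xsI relE6 K [60, 71] : GL cdE6.D.Idx K) : Matrix cdE6.D.Idx cdE6.D.Idx K) - 1).rank = 32 := by
  obtain ⟨⟨g, -, e⟩, -⟩ := invHypE6.cjI_word K (w := [21]) (by decide) e6t_orth2
  rw [e6t_perm2] at e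
  rw [← rank_conj_sub_one g, e, e6_val2]
  exact e6_rk2 K

theorem e6t_rk3 :
    (((xsI relE6 K [44, 60, 71] : GL cdE6.D.Idx K) : Matrix cdE6.D.Idx cdE6.D.Idx K) - 1).rank = 38 := by
  obtain ⟨⟨g, -, e⟩, -⟩ := invHypE6.cjI_word K (w := [22, 33]) (by decide) e6t_orth3
  rw [e6t_perm3] at e
  rw [← rank_conj_sub_one g, e, e6_val3]
  exact e6_rk3 K

/-- membership in the twisted group of a fixed element of the Chevalley group -/
theorem mem_twE6 (φ : K →+* K) (hφd : ∀ x : K, φ^[2] x = x) {g : GL cdE6.D.Idx K} (hg : g ∈ cdE6.D.group K)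
    (hσ : graphE6A.sig φ g = g) : g ∈ twE6W.grp φ := by
  have h := ChevFold.fix_eq_grp twE6W.toTwHyp6 φ hφd
  have : g ∈ cdE6.D.group K ⊓ fixG (twE6W.toTwHyp6.sig φ) := ⟨hg, hσ⟩
  rw [h] at this
  exact this

theorem xsI_mem_twE6 (φ : K →+* K) (hφd : ∀ x : K, φ^[2] x = x) {O : List ℕ}
    (hO : ∀ r ∈ O, r < cdE6.D.nroots ∧ graphE6A.rho r = r) : xsI relE6 K O ∈ twE6W.grp φ :=
  mem_twE6 φ hφd (invHypE6.xsI_mem K fun r hr => (hO r hr).1) (xsI_sig_fix φ hO)

theorem xsI_order_two {O : List ℕ} (hO : OrthI cdE6.D relE6.pair O) {k : ℕ} (hk : 0 < k)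
    (hrank : (((xsI relE6 K O : GL cdE6.D.Idx K) : Matrix cdE6.D.Idx cdE6.D.Idx K) - 1).rank = k) :
    orderOf (xsI relE6 K O) = 2 := (e6_inv_of K hO hk hrank).2

/-- every involution of the twisted group is conjugate to one of three products of root elements -/
theorem e6t_inv_conj (φ : K →+* K) (hφd : ∀ x : K, φ^[2] x = x) (lam : K) (hlam : lam + φ lam = 1)
    (u : GL cdE6.D.Idx K) (hu : u ∈ cdE6.D.posUnipotent K ⊓ twE6W.grp φ) (hsq : u * u = 1) (hne : u ≠ 1) :
    ∃ rep ∈ ([[71], [60, 71], [44, 60, 71]] : List (List ℕ)), ∃ h ∈ twE6W.grp φ,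
      h * u * h⁻¹ = xsI relE6 K rep := by
  have hφ2 : ∀ a, φ (φ a) = a := fun a => hφd a
  set X : TwF K := ⟨φ, hφ2, lam, hlam⟩ with hX
  have hσu : graphE6A.sig φ u = u := twE6W.toTwHyp.grp_le_fix φ hu.2
  obtain ⟨rep, hrep, h, hh, hσh, e⟩ := twslE6.involution_repσ K X e6CascCheck e6CascFix orbE6T e6TreeOKT
    u hu.1 hσu hsq
  have hreps : orbE6T.reps = [[], [71], [60, 71], [44, 60, 71]] := rfl
  rw [hreps] at hrep
  have hhm : h ∈ twE6W.grp φ := mem_twE6 φ hφd hh hσh
  simp only [List.mem_cons, List.not_mem_nil, or_false] at hrep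
  rcases hrep with rfl | hrep
  · exfalso
    apply hne
    have h1 : h * u * h⁻¹ = 1 := by rw [e]; rfl
    calc u = h⁻¹ * (h * u * h⁻¹) * h := by group
      _ = 1 := by rw [h1]; group
  · refine ⟨rep, ?_, h, hhm, e⟩
    simp only [List.mem_cons, List.not_mem_nil, or_false]
    exact hrep

/-- The twisted group of type `²E₆` over a field of characteristic two has exactly three classes of
involutions. -/
theorem e6t_three_classes (q : ℕ) (hK : Fintype.card K = q ^ 2) :
    (ConjClasses.mk '' {g : ↥(Cfsg.Lie.twistedE6 K q) | orderOf g = 2}).ncard = 3 := by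
  obtain ⟨f, hf, hq⟩ := q_pow_two_sq (K := K) q hK
  have hqp : IsPrimePow q := ⟨2, f, Nat.prime_two.prime, by omega, hq.symm⟩
  obtain ⟨φ, hφ, hφd, hφ1⟩ := exists_frob K q 2 hqp (by norm_num) hK
  have hφ2 : ∀ x : K, φ (φ x) = x := fun t => hφd t
  -- an element of trace one
  have hex : ∃ x : K, φ x ≠ x := by
    by_contra hcon0
    have hcon : ∀ x : K, φ x = x := fun x => by_contra fun h => hcon0 ⟨x, h⟩
    have h1 : Nat.card {x : K // φ x = x} = Nat.card K :=
      Nat.card_congr (Equiv.subtypeUnivEquiv hcon)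
    rw [hφ1, Nat.card_eq_fintype_card, hK] at h1
    have hq2 : 2 ≤ q := by
      rw [hq]
      calc 2 = 2 ^ 1 := by norm_num
        _ ≤ 2 ^ f := Nat.pow_le_pow_right (by norm_num) hf
    nlinarith
  obtain ⟨x, hx⟩ := hex
  obtain ⟨lam, hlam⟩ := exists_trace_one φ hφ2 hx
  have : Fact (Nat.Prime 2) := ⟨Nat.prime_two⟩
  obtain ⟨S, hS⟩ := Cfsg.Agent.Lib.Helper3.TwAut.e6_sylow (p := 2) f q hf hq φ hφ hφ1 hφd hK
  have hS' : ∀ x : ↥(twE6W.grp φ), x ∈ (S : Subgroup ↥(twE6W.grp φ)) →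
      (x : GL cdE6.D.Idx K) ∈ cdE6.D.posUnipotent K ⊓ twE6W.grp φ := by
    intro x hx
    rw [hS] at hx
    exact hx
  set a : ↥(twE6W.grp φ) := ⟨xsI relE6 K [71], xsI_mem_twE6 φ hφd e6t_fix1⟩ with ha
  set b : ↥(twE6W.grp φ) := ⟨xsI relE6 K [60, 71], xsI_mem_twE6 φ hφd e6t_fix2⟩ with hb
  set c : ↥(twE6W.grp φ) := ⟨xsI relE6 K [44, 60, 71], xsI_mem_twE6 φ hφd e6t_fix3⟩ with hc
  have hrank : ∀ {y z : ↥(twE6W.grp φ)}, ConjClasses.mk y = ConjClasses.mk z →
      (((y : GL cdE6.D.Idx K) : Matrix cdE6.D.Idx cdE6.D.Idx K) - 1).rank =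
        (((z : GL cdE6.D.Idx K) : Matrix cdE6.D.Idx cdE6.D.Idx K) - 1).rank := by
    intro y z h
    rw [ConjClasses.mk_eq_mk_iff_isConj, isConj_iff] at h
    obtain ⟨k, hk⟩ := h
    have hk' : (k : GL cdE6.D.Idx K) * (y : GL cdE6.D.Idx K) * (k : GL cdE6.D.Idx K)⁻¹ = z := by
      have := congrArg Subtype.val hk
      simpa using this
    rw [← hk', rank_conj_sub_one]
  have hab : ConjClasses.mk a ≠ ConjClasses.mk b := by
    intro h
    have := hrank h
    rw [show ((a : GL cdE6.D.Idx K)) = xsI relE6 K [71] from rfl,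
      show ((b : GL cdE6.D.Idx K)) = xsI relE6 K [60, 71] from rfl, e6t_rk1, e6t_rk2] at this
    omega
  have hac : ConjClasses.mk a ≠ ConjClasses.mk c := by
    intro h
    have := hrank h
    rw [show ((a : GL cdE6.D.Idx K)) = xsI relE6 K [71] from rfl,
      show ((c : GL cdE6.D.Idx K)) = xsI relE6 K [44, 60, 71] from rfl, e6t_rk1, e6t_rk3] at this
    omega
  have hbc : ConjClasses.mk b ≠ ConjClasses.mk c := by
    intro h
    have := hrank h
    rw [show ((b : GL cdE6.D.Idx K)) = xsI relE6 K [60, 71] from rfl,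
      show ((c : GL cdE6.D.Idx K)) = xsI relE6 K [44, 60, 71] from rfl, e6t_rk2, e6t_rk3] at this
    omega
  have hoa : orderOf a = 2 := by
    rw [← Subgroup.orderOf_coe]
    exact xsI_order_two e6_orth1 (by norm_num : 0 < 22) e6t_rk1
  have hob : orderOf b = 2 := by
    rw [← Subgroup.orderOf_coe]
    exact xsI_order_two e6t_orth2 (by norm_num : 0 < 32) e6t_rk2
  have hoc : orderOf c = 2 := by
    rw [← Subgroup.orderOf_coe]
    exact xsI_order_two e6t_orth3 (by norm_num : 0 < 38) e6t_rk3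
  have hset : ConjClasses.mk '' {g : ↥(twE6W.grp φ) | orderOf g = 2} =
      {ConjClasses.mk a, ConjClasses.mk b, ConjClasses.mk c} := by
    apply Set.eq_of_subset_of_subset
    · rintro _ ⟨g, hg, rfl⟩
      simp only [Set.mem_ofPred_eq] at hg
      obtain ⟨k, hk⟩ := exists_conj_mem_sylow S g 1 (by rw [hg, pow_one])
      have hmem := hS' _ hk
      have hsq : ((k * g * k⁻¹ : ↥(twE6W.grp φ)) : GL cdE6.D.Idx K) *
          ((k * g * k⁻¹ : ↥(twE6W.grp φ)) : GL cdE6.D.Idx K) = 1 := by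
        have h1 : (k * g * k⁻¹) ^ 2 = 1 := by
          have : g ^ 2 = 1 := by rw [← hg]; exact pow_orderOf_eq_one g
          rw [conj_pow, this]; group
        rw [pow_two] at h1
        exact congrArg Subtype.val h1
      have hne : ((k * g * k⁻¹ : ↥(twE6W.grp φ)) : GL cdE6.D.Idx K) ≠ 1 := by
        intro h
        have h1 : k * g * k⁻¹ = 1 := Subtype.ext h
        have h2 : g = 1 := by
          have : g = k⁻¹ * (k * g * k⁻¹) * k := by group
          rw [this, h1]; group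
        rw [h2, orderOf_one] at hg
        norm_num at hg
      obtain ⟨rep, hrep, m, hm, e⟩ := e6t_inv_conj φ hφd lam hlam _ hmem hsq hne
      have hconj : ∀ z : ↥(twE6W.grp φ), (z : GL cdE6.D.Idx K) = xsI relE6 K rep →
          ConjClasses.mk g = ConjClasses.mk z := by
        intro z hz
        rw [ConjClasses.mk_eq_mk_iff_isConj, isConj_iff]
        refine ⟨⟨m, hm⟩ * k, ?_⟩
        apply Subtype.ext
        refine Eq.trans ?_ (e.trans hz.symm)
        simp only [Subgroup.coe_mul, Subgroup.coe_inv, mul_inv_rev, mul_assoc]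
      simp only [List.mem_cons, List.not_mem_nil, or_false] at hrep
      rcases hrep with rfl | rfl | rfl
      · left; exact hconj a rfl
      · right; left; exact hconj b rfl
      · right; right; exact hconj c rfl
    · rintro x (rfl | rfl | rfl)
      · exact ⟨a, hoa, rfl⟩
      · exact ⟨b, hob, rfl⟩
      · exact ⟨c, hoc, rfl⟩
  have key : (ConjClasses.mk '' {g : ↥(twE6W.grp φ) | orderOf g = 2}).ncard = 3 := by
    rw [hset]
    exact Set.ncard_eq_three.mpr ⟨_, _, _, hab, hac, hbc, rfl⟩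
  rw [twistedE6_eq'' K q φ hφ hφ2]
  exact key

end

end Cfsg.Agent.Lib.Helper3.SLInv
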