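import Cfsg.Agent.Lib.Helper3.ChevTw20
import Cfsg.Agent.Lib.Helper3.ChevGen2c
set_option autoImplicit false
open Cfsg Cfsg.Lie

/-!
Two generators for the twisted groups, part 1: an abstract form of the commutator computation, the conjugation
of products of root elements, and the explicit form of the fixed points of the twisting automorphism on the root
subgroups of a class of fundamental roots.
-/

namespace Cfsg.Agent.Lib.Helper3.ChevM

open ChevU ChevT ChevH Cfsg.Agent.Lib.Helper3.ChevAut Cfsg.Agent.Lib.Helper3.ChevGen2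

/-- The commutator computation: `X` is a homomorphism from an additive group, `h` and `h1` commute and act on the
image of `X` through `M` and `N`. -/
theorem tw_trick_abs {G V : Type*} [Group G] [AddCommGroup V] (X : V → G) (hX : ∀ u v, X (u + v) = X u * X v)
    (M N : V → V) (h h1 : G) (hc : h * h1 = h1 * h)
    (hM : ∀ v, h * X v * h⁻¹ = X (M v)) (hN : ∀ v, h1 * X v * h1⁻¹ = X (N v)) (v : V) :
    h * ((X v)⁻¹ * h1 * X v) * h⁻¹ * ((X v)⁻¹ * h1 * X v)⁻¹ = X (-(M v) + N (M v - v) + v) := by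
  have hX0 : X 0 = 1 := by
    have := hX 0 0
    rw [add_zero] at this
    exact (mul_eq_left (a := X 0)).mp this.symm ▸ rfl
  have hXinv : ∀ v, X (-v) = (X v)⁻¹ := by
    intro v
    have := hX (-v) v
    rw [neg_add_cancel, hX0] at this
    exact eq_inv_of_mul_eq_one_left this.symm
  have hXsub : ∀ u v, X (u - v) = X u * (X v)⁻¹ := by
    intro u v
    rw [sub_eq_add_neg, hX, hXinv]
  have e1 : h * h1 * h⁻¹ = h1 := by rw [hc]; group
  calc h * ((X v)⁻¹ * h1 * X v) * h⁻¹ * ((X v)⁻¹ * h1 * X v)⁻¹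
      = (h * X v * h⁻¹)⁻¹ * (h * h1 * h⁻¹) * (h * X v * h⁻¹) * (X v)⁻¹ * h1⁻¹ * X v := by group
    _ = (X (M v))⁻¹ * (h1 * (X (M v) * (X v)⁻¹) * h1⁻¹) * X v := by rw [hM, e1]; group
    _ = X (-(M v) + N (M v - v) + v) := by rw [← hXsub, hN, hX, hX, hXinv]

section
variable {K : Type*} [Field K] {C : CDatum} {R : RelData C}

/-- Conjugation of a product of root elements by an element acting on each factor by a scalar. -/
theorem RelData.lp_conj (g : GL C.D.Idx K) (χ : ℕ → K) (L : List ℕ)
    (h : ∀ r ∈ L, ∀ t : K, g * R.xU r t * g⁻¹ = R.xU r (χ r * t)) (t : ℕ → K) :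
    g * R.lp L t * g⁻¹ = R.lp L (fun r => χ r * t r) := by
  induction L with
  | nil => simp [RelData.lp_nil]
  | cons r L ih =>
    rw [R.lp_cons, R.lp_cons, ← h r List.mem_cons_self, ← ih fun s hs => h s (List.mem_cons_of_mem _ hs)]
    group

theorem RelData.xGrp_mono (L L' : List ℕ) (h : ∀ s ∈ L, s ∈ L') : R.xGrp K L ≤ R.xGrp K L' := by
  apply Subgroup.closure_mono
  rintro g ⟨s, hs, a, rfl⟩
  exact ⟨s, h s hs, a, rfl⟩

end

section
variable {K : Type*} [Field K] [Fintype K] {C : CDatum} {R : RelData C} (H : TwHyp2 C R) (φ : K →+* K)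

omit [Fintype K] in
/-- The explicit form of a fixed point of the twisting automorphism in the product of the root subgroups of a class
of fundamental roots. -/
theorem TwHyp2.fix_cls_explicit (J : List ℕ) (hJ : J ∈ H.cls) (c : ℕ → K)
    (hfix : H.sig φ (R.lp (J.map C.D.simple) c) = R.lp (J.map C.D.simple) c) :
    φ^[J.length] (c (C.D.simple (J.headD 0))) = c (C.D.simple (J.headD 0)) ∧
      R.lp (J.map C.D.simple) c = R.wordU (clsWord C.D φ J false (c (C.D.simple (J.headD 0)))) := by
  have hJs := H.shape J hJ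
  have hcases := clsShape_cases H.G hJs
  simp only [clsShapeCheck, Bool.and_eq_true, List.all_eq_true, decide_eq_true_eq, Bool.or_eq_true] at hJs
  obtain ⟨hall, -⟩ := hJs
  have hpos := H.pos J hJ
  simp only [clsPosCheck, Bool.and_eq_true, List.all_eq_true, decide_eq_true_eq] at hpos
  obtain ⟨hnd, hpos⟩ := hpos
  have hsimple : ∀ a ∈ J, H.G.rho (C.D.simple a) = C.D.simple (H.G.p a) := fun a ha =>
    (twReflCheck_spec (R := R) H.G H.rf a (hall a ha).1.1).2.1
  have hcomm : ∀ r ∈ J.map C.D.simple, ∀ s ∈ J.map C.D.simple, ∀ x y : K,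
      R.xU r x * R.xU s y = R.xU s y * R.xU r x := H.cls_comm J hJ
  have hlt : ∀ r ∈ J.map C.D.simple, r < C.D.nroots := by
    intro r hr
    obtain ⟨a, ha, rfl⟩ := List.mem_map.mp hr
    exact R.simple_lt a (hall a ha).1.1
  have hposL : ∀ r ∈ J.map C.D.simple, C.D.IsPosRoot r := by
    intro r hr
    obtain ⟨a, ha, rfl⟩ := List.mem_map.mp hr
    exact hpos a ha
  have hpermJ : (J.map H.G.p).Perm J := by
    rcases hcases with ⟨a, rfl, h1⟩ | ⟨a, b, rfl, h1, h2⟩ | ⟨a, b, c', rfl, h1, h2, h3⟩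
    · simp [h1]
    · simp only [List.map_cons, List.map_nil, h1, h2]
      exact List.Perm.swap a b []
    · simp only [List.map_cons, List.map_nil, h1, h2, h3]
      exact (List.perm_cons_append_cons a (l₁ := [b, c']) (l₂ := []) (List.Perm.refl _)).symm.trans
        (by simp)
  have hmapρ : (J.map C.D.simple).map H.G.rho = (J.map H.G.p).map C.D.simple := by
    rw [List.map_map, List.map_map]
    apply List.map_congr_left
    intro a ha
    exact hsimple a ha
  have hperm : ((J.map C.D.simple).map H.G.rho).Perm (J.map C.D.simple) := by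
    rw [hmapρ]; exact hpermJ.map _
  have hcomm' : ∀ r ∈ (J.map C.D.simple).map H.G.rho, ∀ s ∈ (J.map C.D.simple).map H.G.rho, ∀ x y : K,
      R.xU r x * R.xU s y = R.xU s y * R.xU r x :=
    fun r hr s hs => hcomm r (hperm.subset hr) s (hperm.subset hs)
  rw [TwHyp.sig, H.G.sig_lp φ _ hlt c, R.lp_perm _ _ hperm _ hcomm'] at hfix
  have hc := H.U.lp_inj_comm _ hnd hposL hcomm _ _ hfix
  have hstep : ∀ a ∈ J, c (C.D.simple (H.G.p a)) = φ (c (C.D.simple a)) := by
    intro a ha
    have hpa : H.G.p a ∈ J := hpermJ.subset (List.mem_map_of_mem ha)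
    have := hc _ (List.mem_map_of_mem hpa)
    rw [← this, ← hsimple a ha, H.G.tw_rho φ c _ (R.simple_lt a (hall a ha).1.1), (hall a ha).1.2, Int.cast_one,
      one_mul]
  rcases hcases with ⟨a, rfl, h1⟩ | ⟨a, b, rfl, h1, h2⟩ | ⟨a, b, c', rfl, h1, h2, h3⟩
  · have e := hstep a (by simp)
    rw [h1] at e
    refine ⟨e.symm, ?_⟩
    rw [wordU_clsWord_one]
    simp [RelData.lp_cons, RelData.lp_nil, sgnRoot]
  · have e1 := hstep a (by simp)
    have e2 := hstep b (by simp)
    rw [h1] at e1
    rw [h2] at e2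
    refine ⟨?_, ?_⟩
    · show φ (φ (c (C.D.simple a))) = c (C.D.simple a)
      rw [← e1, ← e2]
    · rw [wordU_clsWord_two]
      show _ = R.xU (sgnRoot C.D false a) (c (C.D.simple a)) * R.xU (sgnRoot C.D false b) (φ (c (C.D.simple a)))
      rw [← e1]
      simp [RelData.lp_cons, RelData.lp_nil, sgnRoot]
  · have e1 := hstep a (by simp)
    have e2 := hstep b (by simp)
    have e3 := hstep c' (by simp)
    rw [h1] at e1
    rw [h2] at e2
    rw [h3] at e3
    refine ⟨?_, ?_⟩
    · show φ (φ (φ (c (C.D.simple a)))) = c (C.D.simple a)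
      rw [← e1, ← e2, ← e3]
    · rw [wordU_clsWord_three]
      show _ = R.xU (sgnRoot C.D false a) (c (C.D.simple a)) * R.xU (sgnRoot C.D false b) (φ (c (C.D.simple a))) *
        R.xU (sgnRoot C.D false c') (φ (φ (c (C.D.simple a))))
      rw [← e1, ← e2]
      simp [RelData.lp_cons, RelData.lp_nil, sgnRoot, mul_assoc]

end

end Cfsg.Agent.Lib.Helper3.ChevM
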