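import Cfsg.Agent.Lib.Helper3.TwGen1
set_option autoImplicit false
open Cfsg Cfsg.Lie

/-!
Two generators for the twisted groups, part 2: the fixed points of the twisting automorphism on the product of the
root subgroups of a list of roots, and their transport by the representatives of the elements of the Weyl group.
-/

namespace Cfsg.Agent.Lib.Helper3.ChevM

open ChevU ChevT ChevH Cfsg.Agent.Lib.Helper3.ChevAut Cfsg.Agent.Lib.Helper3.ChevGen2

section
variable {K : Type*} [Field K] [Fintype K] {C : CDatum} {R : RelData C} (H : TwHyp C R) (φ : K →+* K)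

/-- The fixed points of the twisting automorphism in the subgroup generated by the root subgroups of a list. -/
def TwHyp.xFix (L : List ℕ) : Subgroup (GL C.D.Idx K) := R.xGrp K L ⊓ fixG (H.sig φ)

omit [Fintype K] in
theorem TwHyp.xFix_mono (L L' : List ℕ) (h : ∀ s ∈ L, s ∈ L') : H.xFix φ L ≤ H.xFix φ L' :=
  inf_le_inf_right _ (R.xGrp_mono L L' h)

omit [Fintype K] in
/-- Transport by a fixed representative of an element of the Weyl group. -/
theorem TwHyp.xFix_orbit (T : Subgroup (GL C.D.Idx K)) (l : List ℕ) (hl : ∀ i ∈ l, i < C.D.rank)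
    (hnT : R.nWordU (F := K) l ∈ T) (hnfix : H.sig φ (R.nWordU (F := K) l) = R.nWordU l)
    (L : List ℕ) (hL : ∀ s ∈ L, s < C.D.nroots) (h : H.xFix φ L ≤ T) :
    H.xFix φ (L.map (reflW R.refl l)) ≤ T := by
  obtain ⟨d, hd⟩ := H.B.mono.tg_conj (F := K) H.B.dec l hl
  set n := R.nWordU (F := K) l with hn
  have key : R.xGrp K (L.map (reflW R.refl l)) ≤ (R.xGrp K L).map (MulAut.conj n).toMonoidHom := by
    apply (Subgroup.closure_le _).mpr
    rintro g ⟨s', hs', a, rfl⟩
    obtain ⟨s, hs, rfl⟩ := List.mem_map.mp hs'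
    refine ⟨R.xU s (a / d s), R.xU_mem_xGrp L s hs _, ?_⟩
    show n * R.xU s (a / d s) * n⁻¹ = _
    rw [(hd s (hL s hs)).2, mul_div_cancel₀ _ (hd s (hL s hs)).1]
  rintro g ⟨hg, hgfix⟩
  obtain ⟨g0, hg0, rfl⟩ := key hg
  have e : (MulAut.conj n).toMonoidHom g0 = n * g0 * n⁻¹ := rfl
  rw [e] at hgfix ⊢
  have hfix0 : H.sig φ g0 = g0 := by
    have := (mem_fixG _ _).mp hgfix
    rw [map_mul, map_mul, map_inv, hnfix] at this
    exact mul_left_cancel (mul_right_cancel this)
  exact T.mul_mem (T.mul_mem hnT (h ⟨hg0, (mem_fixG _ _).mpr hfix0⟩)) (T.inv_mem hnT)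

omit [Fintype K] in
theorem TwHyp.xFix_orbit_iterate (T : Subgroup (GL C.D.Idx K)) (l : List ℕ) (hl : ∀ i ∈ l, i < C.D.rank)
    (hnT : R.nWordU (F := K) l ∈ T) (hnfix : H.sig φ (R.nWordU (F := K) l) = R.nWordU l)
    (L : List ℕ) (hL : ∀ s ∈ L, s < C.D.nroots) (h : H.xFix φ L ≤ T) (k : ℕ) :
    H.xFix φ (L.map (reflW R.refl l)^[k]) ≤ T := by
  induction k with
  | zero => simpa using h
  | succ k ih =>
    have hLk : ∀ s ∈ L.map (reflW R.refl l)^[k], s < C.D.nroots := by
      intro s hs
      obtain ⟨s0, hs0, rfl⟩ := List.mem_map.mp hs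
      have : ∀ j : ℕ, (reflW R.refl l)^[j] s0 < C.D.nroots := by
        intro j
        induction j with
        | zero => exact hL s0 hs0
        | succ j ihj => rw [Function.iterate_succ_apply']; exact R.reflW_lt l hl _ ihj
      exact this k
    have := H.xFix_orbit φ T l hl hnT hnfix _ hLk ih
    rw [List.map_map] at this
    have e : (reflW R.refl l ∘ (reflW R.refl l)^[k]) = (reflW R.refl l)^[k + 1] := by
      rw [Function.iterate_succ']
    rwa [e] at this

omit [Fintype K] in
/-- A word in the root elements of a list of roots lies in the subgroup generated by the root subgroups. -/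
theorem RelData.wordU_mem_xGrp (L : List ℕ) (w : List (ℕ × K)) (hw : ∀ p ∈ w, p.1 ∈ L) : R.wordU w ∈ R.xGrp K L := by
  induction w with
  | nil => rw [R.wordU_nil]; exact Subgroup.one_mem _
  | cons p w ih =>
    rw [R.wordU_cons]
    exact Subgroup.mul_mem _ (R.xU_mem_xGrp L p.1 (hw p List.mem_cons_self) _)
      (ih fun q hq => hw q (List.mem_cons_of_mem _ hq))

end

end Cfsg.Agent.Lib.Helper3.ChevM
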