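import Cfsg.Agent.Lib.Helper3.TwGen2
set_option autoImplicit false
open Cfsg Cfsg.Lie

/-!
Two generators for the twisted groups, part 3: the twisted group is generated by `h x_r(1)` and `n_w A(1)`, where `h`
is a fixed element of the diagonal subgroup centralising the root element `x_r(1)` of a fixed root, `n_w` represents
a twisted Coxeter element and `A(1)` is a generator attached to a class of fundamental roots.
-/

namespace Cfsg.Agent.Lib.Helper3.ChevM

open ChevU ChevT ChevH Cfsg.Agent.Lib.Helper3.ChevAut Cfsg.Agent.Lib.Helper3.ChevGen2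

section
variable {K : Type*} [Field K] [Fintype K] {C : CDatum} {R : RelData C} (H : TwHyp C R) (φ : K →+* K)

omit [Fintype K] in
include H in
/-- The action of the conjugate of a diagonal element by a representative of an element of the Weyl group. -/
theorem TwHyp.conj_tor_xU (l : List ℕ) (hl : ∀ i ∈ l, i < C.D.rank) (c : Fin C.D.rank → Kˣ) (s : ℕ)
    (hs : s < C.D.nroots) (t : K) :
    ((R.nWordU (F := K) l)⁻¹ * R.tor c * R.nWordU l) * R.xU s t * ((R.nWordU (F := K) l)⁻¹ * R.tor c * R.nWordU l)⁻¹ =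
      R.xU s ((rootChar C.D K c ⟨reflW R.refl l s, R.reflW_lt l hl s hs⟩ : K) * t) := by
  obtain ⟨dd, hdd⟩ := H.B.mono.tg_conj (F := K) H.B.dec l hl
  set n := R.nWordU (F := K) l with hn
  set ν : K := ((rootChar C.D K c ⟨reflW R.refl l s, R.reflW_lt l hl s hs⟩ : Kˣ) : K) with hνdef
  have e1 : (n⁻¹ * R.tor c * n) * R.xU s t * (n⁻¹ * R.tor c * n)⁻¹ =
      n⁻¹ * (R.tor c * (n * R.xU s t * n⁻¹) * (R.tor c)⁻¹) * n := by group
  have e2 := tor_conj_xU R c (reflW R.refl l s) (R.reflW_lt l hl s hs) (dd s * t)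
  have e3 := (hdd s hs).2 (ν * t)
  rw [e1, (hdd s hs).2 t, e2]
  have : ν * (dd s * t) = dd s * (ν * t) := by ring
  rw [← hνdef, this, ← e3]
  group

end

end Cfsg.Agent.Lib.Helper3.ChevM
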