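import Cfsg.Agent.Lib.Helper3.TwGen3
set_option autoImplicit false
open Cfsg Cfsg.Lie

/-!
Two generators for the twisted groups, part 4: the twisted group is generated by `h x_r(1)` and `n_w A(1)`, where `h`
is a fixed element of the diagonal subgroup centralising the root element `x_r(1)` of a fixed root, `n_w` represents
a twisted Coxeter element and `A(1)` is a generator attached to a class of fundamental roots.
-/

namespace Cfsg.Agent.Lib.Helper3.ChevM

open ChevU ChevT ChevH Cfsg.Agent.Lib.Helper3.ChevAut Cfsg.Agent.Lib.Helper3.ChevGen2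

section
variable {K : Type*} [Field K] [Fintype K] {C : CDatum} {R : RelData C} (H : TwHyp6 C R) (φ : K →+* K)

set_option maxHeartbeats 1600000 in
theorem TwHyp6.two_gen
    (Ω : List (List ℕ)) (hΩ : ∀ J ∈ Ω, J ∈ H.cls)
    (J0 : List ℕ) (hJ0 : J0 ∈ H.cls) (j1 : ℕ) (hj1 : [j1] ∈ H.cls)
    (r : ℕ) (hr : r < C.D.nroots) (hrρ : H.G.rho r = r) (hrε : H.G.eps r = 1)
    (c : Fin C.D.rank → Kˣ) (hc : H.G.sigT φ c = c)
    (hcr : rootChar C.D K c ⟨r, hr⟩ = 1)
    (μ ν μ1 : Kˣ)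
    (hμ : ∀ hs, rootChar C.D K c ⟨C.D.simple (J0.headD 0), hs⟩ = μ)
    (hν : ∀ hs, rootChar C.D K c ⟨reflW R.refl Ω.flatten (C.D.simple (J0.headD 0)), hs⟩ = ν)
    (hμ1 : ∀ hs, rootChar C.D K c ⟨C.D.simple j1, hs⟩ = μ1)
    (hμne : μ ≠ 1) (hνne : ν ≠ 1)
    (hspanK : ∀ S : AddSubgroup K, (∀ x ∈ S, (μ : K) * x ∈ S) → (∃ x ∈ S, x ≠ 0) → ∀ x, x ∈ S)
    (hspanF : ∀ x : K, x ≠ 0 → φ x = x → ∃ k : ℤ, ((μ1 ^ k : Kˣ) : K) = x)
    (k1 : ℕ) (hk1 : (reflW R.refl Ω.flatten)^[k1] r = C.D.simple j1)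
    (horb : ∀ J ∈ H.cls, ∀ neg : Bool, ∃ k : ℕ, ∃ src : List ℕ,
      (src = J0.map C.D.simple ∨ src = [C.D.simple j1]) ∧
      ∀ s ∈ J.map (sgnRoot C.D neg), s ∈ src.map (reflW R.refl Ω.flatten)^[k]) :
    ∃ a b : ↥(H.grp φ), Subgroup.closure ({a, b} : Set ↥(H.grp φ)) = ⊤ := by
  classical
  set l := Ω.flatten with hldef
  have hl : ∀ i ∈ l, i < C.D.rank := H.flatten_lt Ω hΩ
  set n := R.nWordU (F := K) l with hn
  have hn_grp : n ∈ H.grp φ := H.nCls_mem φ Ω hΩ
  obtain ⟨a0, J0', rfl⟩ : ∃ a0 J0', J0 = a0 :: J0' := by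
    obtain ⟨a, ha⟩ := H.cls_ne_nil J0 hJ0
    cases J0 with
    | nil => simp at ha
    | cons a0 J0' => exact ⟨a0, J0', rfl⟩
  simp only [List.headD_cons] at hμ hν
  set s0 := C.D.simple a0 with hs0def
  have ha0 : a0 < C.D.rank := H.cls_lt _ hJ0 a0 (by simp)
  have hs0 : s0 < C.D.nroots := R.simple_lt a0 ha0
  set L0 := (a0 :: J0').map C.D.simple with hL0def
  have hL0' : (a0 :: J0').map (sgnRoot C.D false) = L0 := by
    apply List.map_congr_left
    intro a _
    simp [sgnRoot]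
  obtain ⟨hnd0, hpos0⟩ := H.cls_pos _ hJ0
  have hcomm0 := H.cls_comm (K := K) _ hJ0
  have hlt0 : ∀ s ∈ L0, s < C.D.nroots := by
    intro s hs
    obtain ⟨a, ha, rfl⟩ := List.mem_map.mp hs
    exact R.simple_lt a (H.cls_lt _ hJ0 a ha)
  set A : K → GL C.D.Idx K := fun t => R.wordU (clsWord C.D φ (a0 :: J0') false t) with hA
  have hA_lp : ∀ t, A t = R.lp L0 (clsCoord C.D φ (a0 :: J0') false t) := by
    intro t
    have := clsWord_eq_lp (R := R) φ (a0 :: J0') false t (by rw [hL0']; exact hnd0)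
    rw [hL0'] at this
    exact this
  have hcoord0 : ∀ t, clsCoord C.D φ (a0 :: J0') false t s0 = t := by
    intro t
    unfold clsCoord
    simp [sgnRoot, hs0def]
  have hA_grp : ∀ t, φ^[(a0 :: J0').length] t = t → A t ∈ H.grp φ :=
    fun t ht => Subgroup.subset_closure ⟨_, hJ0, false, t, ht, rfl⟩
  have ha : R.tor c * R.xU r 1 ∈ H.grp φ :=
    Subgroup.mul_mem _ (H.tor_mem_grp φ c hc) (H.xU_fixed_mem φ r hr hrρ hrε 1 (map_one φ))
  have hb : n * A 1 ∈ H.grp φ := Subgroup.mul_mem _ hn_grp (hA_grp 1 (iterate_map_one φ _))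
  apply two_gen_of_le _ _ _ ha hb
  set T := Subgroup.closure ({R.tor c * R.xU r 1, n * A 1} : Set (GL C.D.Idx K)) with hT
  have haT : R.tor c * R.xU r 1 ∈ T := Subgroup.subset_closure (by simp)
  have hbT : n * A 1 ∈ T := Subgroup.subset_closure (by simp)
  have hT_le : T ≤ H.grp φ := by
    rw [hT, Subgroup.closure_le]
    rintro x (rfl | rfl)
    · exact ha
    · exact hb
  have hT_fix : ∀ g ∈ T, H.sig φ g = g := fun g hg => (mem_fixG _ _).mp (H.grp_le_fix φ (hT_le hg))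
  obtain ⟨hx, ht⟩ := init_A T c r hr hcr haT
  -- the characters
  set χ : ℕ → K := fun s => if h : s < C.D.nroots then ((rootChar C.D K c ⟨s, h⟩ : Kˣ) : K) else 0 with hχ
  have hχlt : ∀ s (h : s < C.D.nroots), χ s = ((rootChar C.D K c ⟨s, h⟩ : Kˣ) : K) := by
    intro s h
    rw [hχ]
    simp only [dif_pos h]
  have hχs0 : χ s0 = μ := by rw [hχlt s0 hs0, hμ hs0]
  have hws0 : reflW R.refl l s0 < C.D.nroots := R.reflW_lt l hl s0 hs0
  have hχws0 : χ (reflW R.refl l s0) = ν := by rw [hχlt _ hws0, hν hws0]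
  have hM : ∀ v : ℕ → K, R.tor c * R.lp L0 v * (R.tor c)⁻¹ = R.lp L0 (fun s => χ s * v s) := by
    intro v
    apply R.lp_conj
    intro s hs t
    rw [tor_conj_xU R c s (hlt0 s hs) t, hχlt s (hlt0 s hs)]
  set h1 := n⁻¹ * R.tor c * n with hh1
  have hN : ∀ v : ℕ → K, h1 * R.lp L0 v * h1⁻¹ = R.lp L0 (fun s => χ (reflW R.refl l s) * v s) := by
    intro v
    apply R.lp_conj (χ := fun s => χ (reflW R.refl l s))
    intro s hs t
    rw [hh1, H.conj_tor_xU l hl c s (hlt0 s hs) t, hχlt _ (R.reflW_lt l hl s (hlt0 s hs))]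
  have hh1H : h1 ∈ C.D.diagonalSubgroup K := by
    have := H.B.mono.conj_mem n⁻¹ (Subgroup.inv_mem _ (R.nWordU_mem l hl)) (R.tor c) (R.tor_mem c)
    rwa [inv_inv] at this
  have hcomm_h : R.tor c * h1 = h1 * R.tor c := R.diagonal_comm H.B.dec _ _ (R.tor_mem c) hh1H
  -- the commutator
  set v1 : ℕ → K := clsCoord C.D φ (a0 :: J0') false 1 with hv1
  have hX : ∀ u v : ℕ → K, R.lp L0 (u + v) = R.lp L0 u * R.lp L0 v :=
    fun u v => (R.lp_add L0 hcomm0 u v).symm
  set g := (n * A 1)⁻¹ * R.tor c * (n * A 1) with hg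
  have hgT : g ∈ T := T.mul_mem (T.mul_mem (T.inv_mem hbT) ht) hbT
  have hg_eq : g = (R.lp L0 v1)⁻¹ * h1 * R.lp L0 v1 := by
    rw [hg, hA_lp 1, hh1, ← hv1]
    group
  have hk0T : R.tor c * g * (R.tor c)⁻¹ * g⁻¹ ∈ T :=
    T.mul_mem (T.mul_mem (T.mul_mem ht hgT) (T.inv_mem ht)) (T.inv_mem hgT)
  have key : R.tor c * g * (R.tor c)⁻¹ * g⁻¹ =
      R.lp L0 (-(fun s => χ s * v1 s) + (fun s => χ (reflW R.refl l s) * ((fun s => χ s * v1 s) - v1) s) + v1) := by
    rw [hg_eq]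
    exact tw_trick_abs (fun v : ℕ → K => R.lp L0 v) hX (fun v s => χ s * v s)
      (fun v s => χ (reflW R.refl l s) * v s) (R.tor c) h1 hcomm_h hM hN v1
  have hc0 : ((ν : K) - 1) * ((μ : K) - 1) ≠ 0 := by
    apply mul_ne_zero
    · intro h; exact hνne (Units.ext (by rw [Units.val_one]; linear_combination h))
    · intro h; exact hμne (Units.ext (by rw [Units.val_one]; linear_combination h))
  have hAc0 : A (((ν : K) - 1) * ((μ : K) - 1)) ∈ T := by
    rw [key] at hk0T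
    have hfix := hT_fix _ hk0T
    obtain ⟨-, e⟩ := H.fix_cls_explicit φ _ hJ0 _ hfix
    rw [e] at hk0T
    simp only [List.headD_cons, Pi.add_apply, Pi.neg_apply, Pi.sub_apply] at hk0T
    rw [← hs0def, hχs0, hχws0, hv1, hcoord0] at hk0T
    have e2 : -((μ : K) * 1) + (ν : K) * ((μ : K) * 1 - 1) + 1 = ((ν : K) - 1) * ((μ : K) - 1) := by ring
    rw [e2] at hk0T
    exact hk0T
  -- the additive group of the parameters of the generators in `T`
  have hA_add : ∀ t t', A t * A t' = A (t + t') := by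
    intro t t'
    rw [hA_lp, hA_lp, hA_lp, R.lp_add L0 hcomm0]
    congr 1
    funext s
    exact clsCoord_add φ _ false t t' s
  have hA_zero : A 0 = 1 := by
    have := hA_add 0 0
    rw [add_zero] at this
    exact mul_left_cancel (this.trans (mul_one _).symm)
  have hA_neg : ∀ t, A (-t) = (A t)⁻¹ := by
    intro t
    exact eq_inv_of_mul_eq_one_left (by rw [hA_add, neg_add_cancel, hA_zero])
  let SA : AddSubgroup K :=
    { carrier := {t | A t ∈ T}
      zero_mem' := by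
        show A 0 ∈ T
        rw [hA_zero]; exact T.one_mem
      add_mem' := by
        intro t t' h1 h2
        show A (t + t') ∈ T
        rw [← hA_add]; exact T.mul_mem h1 h2
      neg_mem' := by
        intro t h1
        show A (-t) ∈ T
        rw [hA_neg]; exact T.inv_mem h1 }
  have hSA : ∀ t ∈ SA, (μ : K) * t ∈ SA := by
    intro t htS
    have h2 : R.tor c * A t * (R.tor c)⁻¹ ∈ T := T.mul_mem (T.mul_mem ht htS) (T.inv_mem ht)
    rw [hA_lp, hM] at h2
    have hfix := hT_fix _ h2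
    obtain ⟨-, e⟩ := H.fix_cls_explicit φ _ hJ0 _ hfix
    rw [e] at h2
    simp only [List.headD_cons] at h2
    rw [← hs0def, hχs0, hcoord0] at h2
    exact h2
  have hAll : ∀ t, A t ∈ T := hspanK SA hSA ⟨_, hAc0, hc0⟩
  have hnT : n ∈ T := by
    have := T.mul_mem hbT (T.inv_mem (hAll 1))
    rwa [mul_inv_cancel_right] at this
  have hnfix : H.sig φ n = n := hT_fix n hnT
  have hX0 : H.xFix φ L0 ≤ T := by
    rintro g ⟨hg, hgfix⟩
    obtain ⟨cc, rfl⟩ := R.exists_lp_of_mem_xGrp L0 hnd0 hcomm0 g hg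
    obtain ⟨-, e⟩ := H.fix_cls_explicit φ _ hJ0 cc ((mem_fixG _ _).mp hgfix)
    rw [e]
    exact hAll _
  -- the fixed roots
  set s1 := C.D.simple j1 with hs1def
  have hj1lt : j1 < C.D.rank := H.cls_lt _ hj1 j1 (by simp)
  have hs1 : s1 < C.D.nroots := R.simple_lt j1 hj1lt
  have horb_r : ∀ k, ∃ e : K, e ≠ 0 ∧ R.xU ((reflW R.refl l)^[k] r) e ∈ T ∧ (reflW R.refl l)^[k] r < C.D.nroots := by
    obtain ⟨d, hd⟩ := H.B.mono.tg_conj (F := K) H.B.dec l hl
    intro k
    induction k with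
    | zero => exact ⟨1, one_ne_zero, hx, hr⟩
    | succ k ih =>
      obtain ⟨e, he, heT, hlt⟩ := ih
      rw [Function.iterate_succ_apply']
      refine ⟨d _ * e, mul_ne_zero (hd _ hlt).1 he, ?_, R.reflW_lt l hl _ hlt⟩
      rw [← (hd _ hlt).2 e]
      exact T.mul_mem (T.mul_mem hnT heT) (T.inv_mem hnT)
  obtain ⟨e1, he1, he1T, -⟩ := horb_r k1
  rw [hk1] at he1T
  have hsingle : ∀ t : K, R.xU s1 t = R.lp ([j1].map C.D.simple) (fun _ => t) := by
    intro t
    simp [RelData.lp_cons, RelData.lp_nil, hs1def]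
  have hfix1 : ∀ t, R.xU s1 t ∈ T → φ t = t := by
    intro t htT
    have := hT_fix _ htT
    rw [hsingle] at this
    exact (H.fix_cls_explicit φ [j1] hj1 _ this).1
  let SB : AddSubgroup K :=
    { carrier := {t | R.xU s1 t ∈ T}
      zero_mem' := by
        show R.xU s1 0 ∈ T
        rw [R.xU_zero]; exact T.one_mem
      add_mem' := by
        intro t t' h1 h2
        show R.xU s1 (t + t') ∈ T
        rw [← R.xU_add]; exact T.mul_mem h1 h2
      neg_mem' := by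
        intro t h1
        show R.xU s1 (-t) ∈ T
        rw [← R.xU_inv]; exact T.inv_mem h1 }
  have hSB : ∀ t ∈ SB, (μ1 : K) * t ∈ SB := by
    intro t htS
    have h2 : R.tor c * R.xU s1 t * (R.tor c)⁻¹ ∈ T := T.mul_mem (T.mul_mem ht htS) (T.inv_mem ht)
    rw [tor_conj_xU R c s1 hs1 t, hμ1 hs1] at h2
    exact h2
  have hB_all : ∀ t, φ t = t → R.xU s1 t ∈ T := by
    intro t htf
    by_cases ht0 : t = 0
    · rw [ht0, R.xU_zero]; exact T.one_mem
    · obtain ⟨k, hk⟩ := hspanF (t / e1) (div_ne_zero ht0 he1) (by rw [map_div₀, htf, hfix1 e1 he1T])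
      have := smul_zpow_mem SB μ1 hSB k e1 he1T
      rw [hk, div_mul_cancel₀ _ he1] at this
      exact this
  have hX1 : H.xFix φ [s1] ≤ T := by
    rintro g ⟨hg, hgfix⟩
    have hcomm1 : ∀ r ∈ [s1], ∀ s ∈ [s1], ∀ x y : K, R.xU r x * R.xU s y = R.xU s y * R.xU r x := by
      intro r hr s hs x y
      rw [List.mem_singleton] at hr hs
      subst hr hs
      rw [R.xU_add, R.xU_add, add_comm]
    obtain ⟨cc, rfl⟩ := R.exists_lp_of_mem_xGrp [s1] (List.nodup_singleton _) hcomm1 g hg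
    have e : R.lp [s1] cc = R.xU s1 (cc s1) := by simp [RelData.lp_cons, RelData.lp_nil]
    rw [e] at hgfix ⊢
    apply hB_all
    have := (mem_fixG _ _).mp hgfix
    rw [hsingle] at this
    exact (H.fix_cls_explicit φ [j1] hj1 _ this).1
  -- conclusion
  show R.twGroup φ H.cls ≤ T
  rw [RelData.twGroup, Subgroup.closure_le]
  rintro g ⟨J, hJ, neg, t, htfix, rfl⟩
  obtain ⟨k, src, hsrc, hsub⟩ := horb J hJ neg
  have hgx : R.wordU (clsWord C.D φ J neg t) ∈ R.xGrp K (J.map (sgnRoot C.D neg)) := by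
    apply R.wordU_mem_xGrp
    intro p hp
    obtain ⟨j, hj, e⟩ := mem_clsWord φ J neg t p hp
    rw [e]
    exact List.mem_map_of_mem hj
  have hgf : R.wordU (clsWord C.D φ J neg t) ∈ fixG (H.sig φ) :=
    H.grp_le_fix φ (Subgroup.subset_closure ⟨J, hJ, neg, t, htfix, rfl⟩)
  have hmem : R.wordU (clsWord C.D φ J neg t) ∈ H.xFix φ (src.map (reflW R.refl l)^[k]) :=
    H.xFix_mono φ _ _ hsub ⟨hgx, hgf⟩
  rcases hsrc with rfl | rfl
  · exact H.xFix_orbit_iterate φ T l hl hnT hnfix L0 hlt0 hX0 k hmem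
  · refine H.xFix_orbit_iterate φ T l hl hnT hnfix [s1] ?_ hX1 k hmem
    intro s hs
    rw [List.mem_singleton] at hs
    rw [hs]; exact hs1

end

end Cfsg.Agent.Lib.Helper3.ChevM
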