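import Cfsg.Agent.Lib.Helper3.SLInv12
set_option autoImplicit false
set_option linter.unusedSectionVars false
set_option linter.unusedVariables false
set_option linter.unusedSimpArgs false

/-!
A simply laced system with a twisting map: a symmetry of the root system combined with a field involution,
and the induced endomorphism of the group. Basic consequences: the subgroups attached to stable lists of roots are
stable, the coordinates of the radical are compatible with the twisting map, and elements of the radical with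
symmetric coordinates can be corrected by a central element to become fixed.
-/

namespace Cfsg.Agent.Lib.Helper3.SLInv

/-- a twisting of a simply laced system -/
structure TwSys {G : Type*} [Group G] {F : Type*} [Field F] {l : ℕ} (S : SLSys G F l) where
  ρ : Vec l → Vec l
  φ : F →+* F
  σ : G →* G
  K : Vec l → ℤ
  lam : F
  ρ_add : ∀ u v, ρ (u + v) = ρ u + ρ v
  ρ_ρ : ∀ v, ρ (ρ v) = v
  ρ_mem : ∀ r ∈ S.roots, ρ r ∈ S.roots
  B_ρ : ∀ u v, S.B (ρ u) (ρ v) = S.B u v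
  φ_φ : ∀ a, φ (φ a) = a
  lam_tr : lam + φ lam = 1
  σ_x : ∀ r ∈ S.roots, ∀ a, σ (S.x r a) = S.x (ρ r) (φ a)
  σ_h : ∀ r ∈ S.roots, ∀ c, c ≠ 0 → σ (S.h r c) = S.h (ρ r) (φ c)
  h_comm : ∀ r ∈ S.roots, ∀ s ∈ S.roots, ∀ c d, c ≠ 0 → d ≠ 0 → S.h r c * S.h s d = S.h s d * S.h r c
  K_add : ∀ u v, K (u + v) = K u + K v
  K_ρ : ∀ v, K (ρ v) = K v
  K_pos : ∀ r ∈ S.roots, (0 < K r ↔ 0 < S.key r)
  K_inj : ∀ r ∈ S.roots, ∀ s ∈ S.roots, K r = K s → s = r ∨ s = ρ r
  orb : ∀ r ∈ S.roots, ρ r = r ∨ S.B r (ρ r) = 0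

namespace TwSys

variable {G : Type*} [Group G] {F : Type*} [Field F] {l : ℕ} {S : SLSys G F l} (W : TwSys S)

theorem ρ_zero : W.ρ 0 = 0 := by
  have h := W.ρ_add 0 0
  rw [add_zero] at h
  have : W.ρ 0 + 0 = W.ρ 0 + W.ρ 0 := by rw [add_zero]; exact h
  exact (add_left_cancel this).symm

theorem ρ_neg (v : Vec l) : W.ρ (-v) = - W.ρ v := by
  have h := W.ρ_add v (-v)
  rw [add_neg_cancel, W.ρ_zero] at h
  exact (neg_eq_of_add_eq_zero_right h.symm).symm

theorem ρ_sub (u v : Vec l) : W.ρ (u - v) = W.ρ u - W.ρ v := by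
  rw [sub_eq_add_neg, W.ρ_add, W.ρ_neg, sub_eq_add_neg]

theorem ρ_inj {u v : Vec l} (h : W.ρ u = W.ρ v) : u = v := by
  rw [← W.ρ_ρ u, ← W.ρ_ρ v, h]

theorem B_ρ_left (u v : Vec l) : S.B (W.ρ u) v = S.B u (W.ρ v) := by
  have := W.B_ρ u (W.ρ v)
  rw [W.ρ_ρ] at this
  exact this

theorem K_zero : W.K 0 = 0 := by
  have h := W.K_add 0 0
  rw [add_zero] at h
  omega

theorem K_neg (v : Vec l) : W.K (-v) = - W.K v := by
  have h := W.K_add v (-v)
  rw [add_neg_cancel, W.K_zero] at h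
  omega

theorem K_sub (u v : Vec l) : W.K (u - v) = W.K u - W.K v := by
  rw [sub_eq_add_neg, W.K_add, W.K_neg]; ring

theorem key_pos_ρ {r : Vec l} (hr : r ∈ S.roots) (h : 0 < S.key r) : 0 < S.key (W.ρ r) := by
  rw [← W.K_pos _ (W.ρ_mem r hr), W.K_ρ, W.K_pos r hr]
  exact h

theorem φ_inj {a b : F} (h : W.φ a = W.φ b) : a = b := by
  rw [← W.φ_φ a, ← W.φ_φ b, h]

theorem φ_lam : W.φ W.lam = 1 + W.lam := by
  have h := W.lam_tr
  have h2 : W.lam + W.lam = 0 := S.add_self _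
  calc W.φ W.lam = (W.lam + W.φ W.lam) + W.lam := by
        rw [add_comm W.lam, add_assoc, h2, add_zero]
    _ = 1 + W.lam := by rw [h]

/-- a list of roots stable under the symmetry -/
def StabL (T : List (Vec l)) : Prop := ∀ t ∈ T, W.ρ t ∈ T

theorem stabL_nil : W.StabL [] := fun _ h => absurd h List.not_mem_nil

theorem stabL_cons {γ : Vec l} {T : List (Vec l)} (hγ : W.ρ γ = γ) (hT : W.StabL T) : W.StabL (γ :: T) := by
  intro t ht
  rcases List.mem_cons.mp ht with h | h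
  · rw [h, hγ]; exact List.mem_cons_self
  · exact List.mem_cons_of_mem _ (hT t h)

theorem stabL_append {T T' : List (Vec l)} (hT : W.StabL T) (hT' : W.StabL T') : W.StabL (T ++ T') := by
  intro t ht
  rcases List.mem_append.mp ht with h | h
  · exact List.mem_append_left _ (hT t h)
  · exact List.mem_append_right _ (hT' t h)

theorem perp_ρ {T : List (Vec l)} (hT : W.StabL T) {r : Vec l} (h : S.perp T r) : S.perp T (W.ρ r) := by
  intro t ht
  rw [W.B_ρ_left]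
  exact h _ (hT t ht)

theorem σ_mem_GT {T : List (Vec l)} (hT : W.StabL T) {g : G} (hg : g ∈ S.GT T) : W.σ g ∈ S.GT T := by
  unfold SLSys.GT at hg ⊢
  induction hg using Subgroup.closure_induction with
  | mem g hg =>
    obtain ⟨r, hr, a, hp, rfl⟩ := hg
    rw [W.σ_x r hr]
    exact Subgroup.subset_closure ⟨W.ρ r, W.ρ_mem r hr, W.φ a, W.perp_ρ hT hp, rfl⟩
  | one => rw [map_one]; exact Subgroup.one_mem _
  | mul a b _ _ ha hb => rw [map_mul]; exact Subgroup.mul_mem _ ha hb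
  | inv a _ ha => rw [map_inv]; exact Subgroup.inv_mem _ ha

theorem σ_mem_UT {T : List (Vec l)} (hT : W.StabL T) {g : G} (hg : g ∈ S.UT T) : W.σ g ∈ S.UT T := by
  unfold SLSys.UT at hg ⊢
  induction hg using Subgroup.closure_induction with
  | mem g hg =>
    obtain ⟨r, hr, a, hk, hp, rfl⟩ := hg
    rw [W.σ_x r hr]
    exact Subgroup.subset_closure ⟨W.ρ r, W.ρ_mem r hr, W.φ a, W.key_pos_ρ hr hk, W.perp_ρ hT hp, rfl⟩
  | one => rw [map_one]; exact Subgroup.one_mem _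
  | mul a b _ _ ha hb => rw [map_mul]; exact Subgroup.mul_mem _ ha hb
  | inv a _ ha => rw [map_inv]; exact Subgroup.inv_mem _ ha

theorem σ_mem_QT {T : List (Vec l)} {γ : Vec l} (hT : W.StabL T) (hγ : W.ρ γ = γ) {g : G}
    (hg : g ∈ S.QT T γ) : W.σ g ∈ S.QT T γ := by
  unfold SLSys.QT at hg ⊢
  induction hg using Subgroup.closure_induction with
  | mem g hg =>
    obtain ⟨r, hr, a, hp, h1, rfl⟩ := hg
    rw [W.σ_x r hr]
    refine Subgroup.subset_closure ⟨W.ρ r, W.ρ_mem r hr, W.φ a, W.perp_ρ hT hp, ?_, rfl⟩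
    rw [W.B_ρ_left, hγ]; exact h1
  | one => rw [map_one]; exact Subgroup.one_mem _
  | mul a b _ _ ha hb => rw [map_mul]; exact Subgroup.mul_mem _ ha hb
  | inv a _ ha => rw [map_inv]; exact Subgroup.inv_mem _ ha

/-- the twisting map is an involution on the group generated by the root elements -/
theorem σ_σ {g : G} (hg : g ∈ S.GT []) : W.σ (W.σ g) = g := by
  unfold SLSys.GT at hg
  induction hg using Subgroup.closure_induction with
  | mem g hg =>
    obtain ⟨r, hr, a, -, rfl⟩ := hg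
    rw [W.σ_x r hr, W.σ_x _ (W.ρ_mem r hr), W.ρ_ρ, W.φ_φ]
  | one => rw [map_one, map_one]
  | mul a b _ _ ha hb => rw [map_mul, map_mul, ha, hb]
  | inv a _ ha => rw [map_inv, map_inv, ha]

theorem GT_le_nil (T : List (Vec l)) : S.GT T ≤ S.GT [] := by
  apply Subgroup.closure_mono
  rintro g ⟨r, hr, a, -, rfl⟩
  exact ⟨r, hr, a, S.perp_nil r, rfl⟩

theorem mem_Lq_ρ {T : List (Vec l)} {γ : Vec l} (hT : W.StabL T) (hγ : W.ρ γ = γ) {r : Vec l}
    (hr : r ∈ S.Lq T γ) : W.ρ r ∈ S.Lq T γ := by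
  obtain ⟨a1, a2, a3⟩ := S.mem_Lq.mp hr
  exact S.mem_Lq.mpr ⟨W.ρ_mem r a1, W.perp_ρ hT a2, by rw [W.B_ρ_left, hγ]; exact a3⟩

/-- the coordinates of the radical are compatible with the twisting map -/
theorem phi_σ {T : List (Vec l)} {γ : Vec l} (D : S.Dom T γ) (hT : W.StabL T) (hγ : W.ρ γ = γ) {r : Vec l}
    (hr : r ∈ S.Lq T γ) {q : G} (hq : q ∈ S.QT T γ) :
    S.phi γ (W.ρ r) (W.σ q) = W.φ (S.phi γ r q) := by
  obtain ⟨a1, a2, a3⟩ := S.mem_Lq.mp hr
  obtain ⟨b1, b2, b3⟩ := S.mem_Lq.mp (W.mem_Lq_ρ hT hγ hr)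
  have h := S.phi_spec D a1 a2 a3 hq
  have h2 := congrArg W.σ h
  have hpm : γ - r ∈ S.roots := S.partner_mem D a1 a3
  rw [map_mul, map_mul, map_mul, map_inv, map_inv, W.σ_x _ hpm, W.σ_x _ D.mem, W.ρ_sub, hγ, map_one] at h2
  exact S.phi_eq D b1 b2 b3 (W.σ_mem_QT hT hγ hq) h2

theorem phi_σ' {T : List (Vec l)} {γ : Vec l} (D : S.Dom T γ) (hT : W.StabL T) (hγ : W.ρ γ = γ) {r : Vec l}
    (hr : r ∈ S.Lq T γ) {q : G} (hq : q ∈ S.QT T γ) :
    S.phi γ r (W.σ q) = W.φ (S.phi γ (W.ρ r) q) := by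
  have := W.phi_σ D hT hγ (W.mem_Lq_ρ hT hγ hr) hq
  rw [W.ρ_ρ] at this
  exact this

/-- the coordinates of a fixed element are symmetric -/
theorem phi_fix {T : List (Vec l)} {γ : Vec l} (D : S.Dom T γ) (hT : W.StabL T) (hγ : W.ρ γ = γ) {r : Vec l}
    (hr : r ∈ S.Lq T γ) {q : G} (hq : q ∈ S.QT T γ) (hσ : W.σ q = q) :
    S.phi γ (W.ρ r) q = W.φ (S.phi γ r q) := by
  have := W.phi_σ D hT hγ hr hq
  rw [hσ] at this
  exact this

/-- two elements of the radical with the same coordinates differ by a central element -/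
theorem eq_mul_of_phi_eq {T : List (Vec l)} {γ : Vec l} (D : S.Dom T γ) {q q' : G} (hq : q ∈ S.QT T γ)
    (hq' : q' ∈ S.QT T γ) (h : ∀ r ∈ S.Lq T γ, S.phi γ r q' = S.phi γ r q) :
    ∃ e : F, q' = q * S.x γ e := by
  obtain ⟨c, hc⟩ := S.nf D hq
  obtain ⟨c', hc'⟩ := S.nf D hq'
  have hpr : S.pr (S.Lq T γ) (fun r => S.phi γ r q') = S.pr (S.Lq T γ) (fun r => S.phi γ r q) :=
    S.pr_congr (fun r hr => h r hr)
  refine ⟨c + c', ?_⟩
  rw [hc', hpr]
  conv_rhs => rw [hc]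
  rw [mul_assoc, ← S.x_add γ D.mem, ← add_assoc, S.add_self, zero_add]

/-- an element of the radical with symmetric coordinates becomes fixed after a central correction -/
theorem fix_lift {T : List (Vec l)} {γ : Vec l} (D : S.Dom T γ) (hT : W.StabL T) (hγ : W.ρ γ = γ) {y : G}
    (hy : y ∈ S.QT T γ) (h : ∀ r ∈ S.Lq T γ, S.phi γ (W.ρ r) y = W.φ (S.phi γ r y)) :
    ∃ d : F, W.σ (y * S.x γ d) = y * S.x γ d := by
  have hσy : W.σ y ∈ S.QT T γ := W.σ_mem_QT hT hγ hy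
  obtain ⟨e, he⟩ := eq_mul_of_phi_eq D hy hσy (by
    intro r hr
    rw [W.phi_σ' D hT hγ hr hy, h r hr, W.φ_φ])
  have hyG : y ∈ S.GT [] := GT_le_nil T (S.QT_le_GT T γ hy)
  have h2 := W.σ_σ hyG
  rw [he, map_mul, he, W.σ_x γ D.mem, hγ, mul_assoc, ← S.x_add γ D.mem] at h2
  have h3 : S.x γ (e + W.φ e) = 1 := by
    have : y * S.x γ (e + W.φ e) = y * 1 := by rw [mul_one]; exact h2
    exact mul_left_cancel this
  have h4 : e + W.φ e = 0 := S.x_inj γ D.mem _ h3
  have h5 : W.φ e = e := by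
    have : W.φ e = e + (e + W.φ e) := by rw [← add_assoc, S.add_self, zero_add]
    rw [this, h4, add_zero]
  refine ⟨W.lam * e, ?_⟩
  rw [map_mul, he, W.σ_x γ D.mem, hγ, map_mul, h5, W.φ_lam, mul_assoc, ← S.x_add γ D.mem]
  congr 2
  have : e + e = 0 := S.add_self e
  calc e + (1 + W.lam) * e = (e + e) + W.lam * e := by ring
    _ = W.lam * e := by rw [this, zero_add]

end TwSys

end Cfsg.Agent.Lib.Helper3.SLInv
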