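import Cfsg.Agent.Lib.Helper3.TwInv9
import Cfsg.Agent.Lib.Helper3.SLInv12
set_option autoImplicit false
set_option linter.unusedSectionVars false
set_option linter.unusedVariables false
set_option linter.unusedSimpArgs false

/-!
Conjugacy of the products of root elements over stable orthogonal lists under the fixed points of the twisting
map: reflections in fixed roots and in pairs of swapped roots, and the fusion of a pair of swapped roots with a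
pair of fixed roots, by means of an element of trace one.
-/

namespace Cfsg.Agent.Lib.Helper3.SLInv

namespace TwSys

variable {G : Type*} [Group G] {F : Type*} [Field F] {l : ℕ} {S : SLSys G F l} (W : TwSys S)

/-- conjugacy under the fixed points of the twisting map -/
def Cjσ (O O' : List (Vec l)) : Prop := ∃ g ∈ S.GT [], W.σ g = g ∧ g * S.xs O * g⁻¹ = S.xs O'

theorem Cjσ.rfl' (O : List (Vec l)) : W.Cjσ O O := ⟨1, Subgroup.one_mem _, map_one _, by group⟩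

theorem Cjσ.trans {O O' O'' : List (Vec l)} (h : W.Cjσ O O') (h' : W.Cjσ O' O'') : W.Cjσ O O'' := by
  obtain ⟨g, hg, hσ, e⟩ := h
  obtain ⟨g', hg', hσ', e'⟩ := h'
  exact ⟨g' * g, Subgroup.mul_mem _ hg' hg, by rw [map_mul, hσ, hσ'], by rw [← SLSys.conj_conj, e, e']⟩

theorem Cjσ.symm {O O' : List (Vec l)} (h : W.Cjσ O O') : W.Cjσ O' O := by
  obtain ⟨g, hg, hσ, e⟩ := h
  exact ⟨g⁻¹, Subgroup.inv_mem _ hg, by rw [map_inv, hσ], by rw [← e]; group⟩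

theorem Cjσ.of_perm {O O' : List (Vec l)} (hO : S.Orth O) (h : O.Perm O') : W.Cjσ O O' :=
  ⟨1, Subgroup.one_mem _, map_one _, by rw [S.xs_perm hO h]; group⟩

/-- the reflection in a fixed root -/
theorem Cjσ.of_refl_fixed {β : Vec l} (hβ : β ∈ S.roots) (hρ : W.ρ β = β) {O : List (Vec l)}
    (hO : ∀ o ∈ O, o ∈ S.roots) : W.Cjσ O (O.map (S.sr β)) :=
  ⟨S.n β, S.n_mem_GT hβ (S.perp_nil β), by rw [W.σ_n hβ, hρ], S.n_conj_xs hβ hO⟩

/-- the reflections in two swapped orthogonal roots -/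
theorem Cjσ.of_refl_pair {β : Vec l} (hβ : β ∈ S.roots) (hB : S.B β (W.ρ β) = 0) {O : List (Vec l)}
    (hO : ∀ o ∈ O, o ∈ S.roots) : W.Cjσ O ((O.map (S.sr (W.ρ β))).map (S.sr β)) := by
  have hβ' := W.ρ_mem β hβ
  have hcomm : S.n (W.ρ β) * S.n β = S.n β * S.n (W.ρ β) := by
    have hm : S.n (W.ρ β) ∈ S.GT ([β] ++ []) := by
      apply S.n_mem_GT hβ'
      intro t ht
      rw [List.append_nil, List.mem_singleton] at ht
      rw [ht, S.B_symm]
      exact hB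
    exact S.GT_comm_n hβ (List.mem_singleton.mpr rfl) hm
  refine ⟨S.n β * S.n (W.ρ β), Subgroup.mul_mem _ (S.n_mem_GT hβ (S.perp_nil β))
    (S.n_mem_GT hβ' (S.perp_nil _)), ?_, ?_⟩
  · rw [map_mul, W.σ_n hβ, W.σ_n hβ', W.ρ_ρ]
    exact hcomm
  · rw [← SLSys.conj_conj, S.n_conj_xs hβ' hO, S.n_conj_xs hβ]
    intro o ho
    obtain ⟨b, hb, rfl⟩ := List.mem_map.mp ho
    exact S.sr_mem hβ' (hO b hb)

/-- a root element of a fixed root with a fixed parameter is fixed -/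
theorem σ_x_fix {r : Vec l} (hr : r ∈ S.roots) (hρ : W.ρ r = r) : W.σ (S.x r 1) = S.x r 1 := by
  rw [W.σ_x r hr, hρ, map_one]

set_option maxHeartbeats 1600000 in
/-- the fusion of a pair of swapped roots with a pair of fixed roots -/
theorem a3_fuseσ {β a' : Vec l} (hβ : β ∈ S.roots) (ha' : a' ∈ S.roots) (hρa' : W.ρ a' = a')
    (hB : S.B β (W.ρ β) = 0) (hab : S.B a' β = 1)
    (R : List (Vec l)) (hR : ∀ o ∈ R, o ∈ S.roots ∧ S.B β o = 0 ∧ S.B (W.ρ β) o = 0 ∧ S.B a' o = 0) :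
    β + W.ρ β - a' ∈ S.roots ∧ W.ρ (β + W.ρ β - a') = β + W.ρ β - a' ∧ S.B a' (β + W.ρ β - a') = 0 ∧
      W.Cjσ (β :: W.ρ β :: R) (a' :: (β + W.ρ β - a') :: R) := by
  set β' := W.ρ β with hβ'def
  have hβ' : β' ∈ S.roots := W.ρ_mem β hβ
  have hρβ' : W.ρ β' = β := W.ρ_ρ β
  have hab' : S.B a' β' = 1 := by
    have := W.B_ρ a' β
    rw [hρa'] at this
    rw [this]; exact hab
  have haa := S.B_self a' ha'
  have hbb := S.B_self β hβ
  have hbb' := S.B_self β' hβ'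
  have hba : S.B β a' = 1 := by rw [S.B_symm]; exact hab
  have hba' : S.B β' a' = 1 := by rw [S.B_symm]; exact hab'
  have hB' : S.B β' β = 0 := by rw [S.B_symm]; exact hB
  -- the roots
  set μ := β' - a' with hμdef
  set μ' := β - a' with hμ'def
  set a := β + β' - a' with hadef
  have hμ : μ ∈ S.roots := S.sub_mem hβ' ha' hba'
  have hμ' : μ' ∈ S.roots := S.sub_mem hβ ha' hba
  have hρμ : W.ρ μ = μ' := by rw [hμdef, W.ρ_sub, hρβ', hρa']
  have hρμ' : W.ρ μ' = μ := by rw [hμ'def, W.ρ_sub, hρa']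
  have hnμ : -μ ∈ S.roots := S.neg_mem μ hμ
  have hnμ' : -μ' ∈ S.roots := S.neg_mem μ' hμ'
  have hρnμ : W.ρ (-μ) = -μ' := by rw [W.ρ_neg, hρμ]
  have hρnμ' : W.ρ (-μ') = -μ := by rw [W.ρ_neg, hρμ']
  have ea1 : β + μ = a := by rw [hμdef, hadef]; abel
  have ea2 : β' + μ' = a := by rw [hμ'def, hadef]; abel
  have ha : a ∈ S.roots := by
    rw [← ea1]
    apply S.add_mem β hβ μ hμ
    rw [hμdef, S.B_sub_right, hB, hba]; rfl
  have hρa : W.ρ a = a := by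
    rw [hadef, W.ρ_sub, W.ρ_add, hρβ', hρa']
    congr 1
    abel
  have haa' : S.B a' a = 0 := by
    rw [hadef, S.B_sub_right, S.B_add_right, hab, hab', haa]; rfl
  refine ⟨ha, hρa, haa', ?_⟩
  -- products of the form
  have bs : ∀ u v : Vec l, S.B u (v - a') = S.B u v - S.B u a' := fun u v => S.B_sub_right u v a'
  -- first conjugation, by the root element of `μ`
  obtain ⟨c, hc⟩ : ∃ c : F, c + W.φ c = 1 := ⟨W.lam, W.lam_tr⟩
  have c1b : S.x μ c * S.x β 1 * (S.x μ c)⁻¹ = S.x β 1 * S.x a c := by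
    have := S.conj_add hβ hμ (by rw [hμdef, S.B_sub_right, hB, hba]; rfl) (1 : F) c
    rwa [one_mul, ea1] at this
  have c1b' : S.x μ c * S.x β' 1 * (S.x μ c)⁻¹ = S.x β' 1 :=
    S.conj_comm hβ' hμ (by rw [hμdef, S.B_sub_right, hbb', hba']; norm_num) 1 c
  have t1 : S.x μ c * (S.x β 1 * S.x β' 1) * (S.x μ c)⁻¹ = S.x β 1 * S.x a c * S.x β' 1 := by
    rw [conj_mul_conj, c1b, c1b']
  -- second conjugation, by the root element of `μ'`
  have c2b : S.x μ' (W.φ c) * S.x β 1 * (S.x μ' (W.φ c))⁻¹ = S.x β 1 :=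
    S.conj_comm hβ hμ' (by rw [hμ'def, S.B_sub_right, hbb, hba]; norm_num) 1 _
  have c2a : S.x μ' (W.φ c) * S.x a c * (S.x μ' (W.φ c))⁻¹ = S.x a c :=
    S.conj_comm ha hμ' (by
      rw [hadef, hμ'def, S.B_sub_left, S.B_add_left, S.B_sub_right, S.B_sub_right, S.B_sub_right, hbb, hba, hB',
        hba', hab, haa]; norm_num) c _
  have c2b' : S.x μ' (W.φ c) * S.x β' 1 * (S.x μ' (W.φ c))⁻¹ = S.x β' 1 * S.x a (W.φ c) := by
    have := S.conj_add hβ' hμ' (by rw [hμ'def, S.B_sub_right, hB', hba']; rfl) (1 : F) (W.φ c)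
    rwa [one_mul, ea2] at this
  have kab' : S.x a c * S.x β' 1 = S.x β' 1 * S.x a c :=
    S.x_comm a ha β' hβ' (by
      rw [hadef, S.B_sub_left, S.B_add_left, hB, hbb', hab']; norm_num) c 1
  have t2 : S.x μ' (W.φ c) * (S.x β 1 * S.x a c * S.x β' 1) * (S.x μ' (W.φ c))⁻¹ =
      S.x β 1 * S.x β' 1 * S.x a 1 := by
    rw [conj_mul_conj, conj_mul_conj, c2b, c2a, c2b']
    calc S.x β 1 * S.x a c * (S.x β' 1 * S.x a (W.φ c))
        = S.x β 1 * (S.x a c * S.x β' 1) * S.x a (W.φ c) := by group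
      _ = S.x β 1 * S.x β' 1 * (S.x a c * S.x a (W.φ c)) := by rw [kab']; group
      _ = S.x β 1 * S.x β' 1 * S.x a 1 := by rw [← S.x_add a ha, hc]
  -- third conjugation, by the root element of `-μ`
  have c3b : S.x (-μ) 1 * S.x β 1 * (S.x (-μ) 1)⁻¹ = S.x β 1 :=
    S.conj_comm hβ hnμ (by rw [S.B_neg_right, hμdef, S.B_sub_right, hB, hba]; norm_num) 1 1
  have c3b' : S.x (-μ) 1 * S.x β' 1 * (S.x (-μ) 1)⁻¹ = S.x β' 1 * S.x a' 1 := by
    have := S.conj_add hβ' hnμ (by rw [S.B_neg_right, hμdef, S.B_sub_right, hbb', hba']; norm_num) (1 : F) 1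
    rwa [one_mul, show β' + -μ = a' by rw [hμdef]; abel] at this
  have c3a : S.x (-μ) 1 * S.x a 1 * (S.x (-μ) 1)⁻¹ = S.x a 1 * S.x β 1 := by
    have := S.conj_add ha hnμ (by
      rw [S.B_neg_right, hadef, hμdef, S.B_sub_left, S.B_add_left, S.B_sub_right, S.B_sub_right, S.B_sub_right,
        hB, hbb', hba, hba', hab', haa]; norm_num) (1 : F) 1
    rwa [one_mul, show a + -μ = β by rw [← ea1]; abel] at this
  have kba' : S.x β 1 * S.x a' 1 = S.x a' 1 * S.x β 1 := S.x_comm β hβ a' ha' (by rw [hba]; norm_num) 1 1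
  have kbb' : S.x β 1 * S.x β' 1 = S.x β' 1 * S.x β 1 := S.x_comm β hβ β' hβ' (by rw [hB]) 1 1
  have kba : S.x β 1 * S.x a 1 = S.x a 1 * S.x β 1 :=
    S.x_comm β hβ a ha (by rw [hadef, S.B_sub_right, S.B_add_right, hbb, hB, hba]; norm_num) 1 1
  have t3 : S.x (-μ) 1 * (S.x β 1 * S.x β' 1 * S.x a 1) * (S.x (-μ) 1)⁻¹ =
      S.x β' 1 * S.x a' 1 * S.x a 1 := by
    rw [conj_mul_conj, conj_mul_conj, c3b, c3b', c3a]
    calc S.x β 1 * (S.x β' 1 * S.x a' 1) * (S.x a 1 * S.x β 1)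
        = (S.x β 1 * S.x β' 1) * S.x a' 1 * S.x a 1 * S.x β 1 := by group
      _ = S.x β' 1 * (S.x β 1 * S.x a' 1) * S.x a 1 * S.x β 1 := by rw [kbb']; group
      _ = S.x β' 1 * S.x a' 1 * (S.x β 1 * S.x a 1) * S.x β 1 := by rw [kba']; group
      _ = S.x β' 1 * S.x a' 1 * S.x a 1 * (S.x β 1 * S.x β 1) := by rw [kba]; group
      _ = S.x β' 1 * S.x a' 1 * S.x a 1 := by rw [S.x_sq hβ, mul_one]
  -- fourth conjugation, by the root element of `-μ'`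
  have c4b' : S.x (-μ') 1 * S.x β' 1 * (S.x (-μ') 1)⁻¹ = S.x β' 1 :=
    S.conj_comm hβ' hnμ' (by rw [S.B_neg_right, hμ'def, S.B_sub_right, hB', hba']; norm_num) 1 1
  have c4a' : S.x (-μ') 1 * S.x a' 1 * (S.x (-μ') 1)⁻¹ = S.x a' 1 :=
    S.conj_comm ha' hnμ' (by rw [S.B_neg_right, hμ'def, S.B_sub_right, hab, haa]; norm_num) 1 1
  have c4a : S.x (-μ') 1 * S.x a 1 * (S.x (-μ') 1)⁻¹ = S.x a 1 * S.x β' 1 := by
    have := S.conj_add ha hnμ' (by
      rw [S.B_neg_right, hadef, hμ'def, S.B_sub_left, S.B_add_left, S.B_sub_right, S.B_sub_right, S.B_sub_right,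
        hbb, hB', hba, hba', hab, haa]; norm_num) (1 : F) 1
    rwa [one_mul, show a + -μ' = β' by rw [← ea2]; abel] at this
  have kb'a' : S.x β' 1 * S.x a' 1 = S.x a' 1 * S.x β' 1 := S.x_comm β' hβ' a' ha' (by rw [hba']; norm_num) 1 1
  have kb'a : S.x β' 1 * S.x a 1 = S.x a 1 * S.x β' 1 :=
    S.x_comm β' hβ' a ha (by rw [hadef, S.B_sub_right, S.B_add_right, hbb', hB', hba']; norm_num) 1 1
  have t4 : S.x (-μ') 1 * (S.x β' 1 * S.x a' 1 * S.x a 1) * (S.x (-μ') 1)⁻¹ = S.x a' 1 * S.x a 1 := by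
    rw [conj_mul_conj, conj_mul_conj, c4b', c4a', c4a]
    calc S.x β' 1 * S.x a' 1 * (S.x a 1 * S.x β' 1)
        = (S.x β' 1 * S.x a' 1) * S.x a 1 * S.x β' 1 := by group
      _ = S.x a' 1 * (S.x β' 1 * S.x a 1) * S.x β' 1 := by rw [kb'a']; group
      _ = S.x a' 1 * S.x a 1 * (S.x β' 1 * S.x β' 1) := by rw [kb'a]; group
      _ = S.x a' 1 * S.x a 1 := by rw [S.x_sq hβ', mul_one]
  -- the conjugating element
  set g := S.x (-μ') 1 * S.x (-μ) 1 * S.x μ' (W.φ c) * S.x μ c with hg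
  have hBμμ' : S.B μ μ' = 0 := by
    rw [hμdef, hμ'def, S.B_sub_left, S.B_sub_right, S.B_sub_right, hB', hba', hab, haa]; norm_num
  have k1 : S.x (-μ') 1 * S.x (-μ) 1 = S.x (-μ) 1 * S.x (-μ') (1 : F) :=
    S.x_comm _ hnμ' _ hnμ (by rw [S.B_neg_left, S.B_neg_right, S.B_symm, hBμμ']; norm_num) 1 1
  have k2 : S.x μ' (W.φ c) * S.x μ c = S.x μ c * S.x μ' (W.φ c) :=
    S.x_comm _ hμ' _ hμ (by rw [S.B_symm, hBμμ']) _ _
  have hgσ : W.σ g = g := by
    rw [hg, map_mul, map_mul, map_mul, W.σ_x _ hnμ', W.σ_x _ hnμ, W.σ_x _ hμ', W.σ_x _ hμ, hρnμ', hρnμ, hρμ', hρμ,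
      map_one, W.φ_φ, ← k1, mul_assoc (S.x (-μ') 1 * S.x (-μ) 1), ← k2, ← mul_assoc]
  have hperpR : ∀ {v : Vec l}, (∀ o ∈ R, S.B v o = 0) → S.perp R v := fun h => h
  have hμR : S.perp R μ := by
    intro o ho
    obtain ⟨-, h1, h2, h3⟩ := hR o ho
    rw [hμdef, S.B_sub_left, h2, h3]; rfl
  have hμ'R : S.perp R μ' := by
    intro o ho
    obtain ⟨-, h1, h2, h3⟩ := hR o ho
    rw [hμ'def, S.B_sub_left, h1, h3]; rfl
  have hgR : g ∈ S.GT R := by
    rw [hg]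
    exact Subgroup.mul_mem _ (Subgroup.mul_mem _ (Subgroup.mul_mem _ (S.x_mem_GT hnμ' (S.perp_neg hμ'R) 1)
      (S.x_mem_GT hnμ (S.perp_neg hμR) 1)) (S.x_mem_GT hμ' hμ'R _)) (S.x_mem_GT hμ hμR _)
  have hgnil : g ∈ S.GT [] := TwSys.GT_le_nil R hgR
  have hcommR : g * S.xs R = S.xs R * g := (S.perp_comm (fun o ho => (hR o ho).1) hgR).2.1
  have hmain : g * (S.x β 1 * S.x β' 1) * g⁻¹ = S.x a' 1 * S.x a 1 := by
    rw [← t4, ← t3, ← t2, ← t1, hg]
    group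
  refine ⟨g, hgnil, hgσ, ?_⟩
  rw [S.xs_cons, S.xs_cons, S.xs_cons, S.xs_cons]
  calc g * (S.x β 1 * (S.x β' 1 * S.xs R)) * g⁻¹
      = g * (S.x β 1 * S.x β' 1) * g⁻¹ * (g * S.xs R) * g⁻¹ := by group
    _ = S.x a' 1 * S.x a 1 * (S.xs R * g) * g⁻¹ := by rw [hmain, hcommR]
    _ = S.x a' 1 * (S.x a 1 * S.xs R) := by group

end TwSys

end Cfsg.Agent.Lib.Helper3.SLInv
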