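import Cfsg.Agent.Lib.Helper3.TwInv1
set_option autoImplicit false
set_option linter.unusedSectionVars false
set_option linter.unusedVariables false
set_option linter.unusedSimpArgs false

/-!
The elimination step for a twisted system: an involution `q * ns O` with `q` in the radical, fixed by the twisting
map, is conjugate under a fixed element of the radical to one with `q` in the radical orthogonal to `O`.
-/

namespace Cfsg.Agent.Lib.Helper3.SLInv

namespace SLSys

variable {G : Type*} [Group G] {F : Type*} [Field F] {l : ℕ} (S : SLSys G F l)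

theorem Orth.nodup {O : List (Vec l)} (hO : S.Orth O) : O.Nodup := by
  induction O with
  | nil => exact List.nodup_nil
  | cons β O ih =>
    refine List.nodup_cons.mpr ⟨?_, ih (hO.tail S)⟩
    intro hmem
    have h1 := hO.head_perp S β hmem
    rw [S.B_self β (hO.head S)] at h1
    omega

end SLSys

namespace TwSys

variable {G : Type*} [Group G] {F : Type*} [Field F] {l : ℕ} {S : SLSys G F l} (W : TwSys S)

theorem ρ_nsmul (n : ℕ) (v : Vec l) : W.ρ (n • v) = n • W.ρ v := by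
  induction n with
  | zero => rw [zero_smul, zero_smul, W.ρ_zero]
  | succ n ih => rw [succ_nsmul, succ_nsmul, W.ρ_add, ih]

theorem ρ_zsmul (k : ℤ) (v : Vec l) : W.ρ (k • v) = k • W.ρ v := by
  cases k with
  | ofNat n => simpa using W.ρ_nsmul n v
  | negSucc n =>
    rw [negSucc_zsmul, negSucc_zsmul, W.ρ_neg, W.ρ_nsmul]

theorem ρ_list_sum (L : List (Vec l)) : W.ρ L.sum = (L.map W.ρ).sum := by
  induction L with
  | nil => simp [W.ρ_zero]
  | cons a L ih => rw [List.sum_cons, W.ρ_add, ih, List.map_cons, List.sum_cons]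

/-- the symmetry permutes a stable list without repetitions -/
theorem map_ρ_perm {O : List (Vec l)} (hnd : O.Nodup) (hOs : W.StabL O) : (O.map W.ρ).Perm O := by
  have hnd' : (O.map W.ρ).Nodup := hnd.map (fun a b h => W.ρ_inj h)
  have hsub : O.map W.ρ ⊆ O := by
    intro x hx
    obtain ⟨a, ha, rfl⟩ := List.mem_map.mp hx
    exact hOs a ha
  exact (List.subperm_of_subset hnd' hsub).perm_of_length_le (by rw [List.length_map])

theorem wv_ρ {O : List (Vec l)} (hO : S.Orth O) (hOs : W.StabL O) (r : Vec l) :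
    W.ρ (S.wv O r) = S.wv O (W.ρ r) := by
  unfold SLSys.wv
  rw [W.ρ_sub, W.ρ_list_sum, List.map_map]
  congr 1
  have h1 : (O.map (W.ρ ∘ fun β => S.B r β • β)) = (O.map W.ρ).map (fun β => S.B (W.ρ r) β • β) := by
    rw [List.map_map]
    apply List.map_congr_left
    intro β _
    simp only [Function.comp]
    rw [W.ρ_zsmul, W.B_ρ]
  rw [h1]
  exact ((W.map_ρ_perm (hO.nodup S) hOs).map _).sum_eq

theorem ρ_eq_self_of_key {r : Vec l} (hr : r ∈ S.roots) (h : S.key r = S.key (W.ρ r)) : W.ρ r = r :=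
  (S.key_inj r hr _ (W.ρ_mem r hr) h).symm

/-- the elimination step with a fixed conjugating element -/
theorem pair_elimσ {T : List (Vec l)} {γ : Vec l} (D : S.Dom T γ) (hT : W.StabL T) (hγ : W.ρ γ = γ)
    {O : List (Vec l)} (hO : S.Orth O) (hOp : ∀ β ∈ O, S.perp (γ :: T) β) (hOs : W.StabL O)
    {q : G} (hq : q ∈ S.QT T γ) (hσq : W.σ q = q) (h : (q * S.ns O) * (q * S.ns O) = 1) :
    ∃ y ∈ S.QT T γ, W.σ y = y ∧ ∃ q' ∈ S.QT (O ++ T) γ, y * (q * S.ns O) * y⁻¹ = q' * S.ns O := by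
  classical
  have P := S.permQ_ns D hO hOp
  set π := S.wv O with hπ
  set t : Vec l → F := fun r => S.phi γ r q with ht
  have tπ : ∀ r ∈ S.Lq T γ, t (π r) = t r := fun r hr => P.phi_invariant S D hq h hr
  have tρ : ∀ r ∈ S.Lq T γ, t (W.ρ r) = W.φ (t r) := fun r hr => W.phi_fix D hT hγ hr hq hσq
  have ππ : ∀ r ∈ S.Lq T γ, π (π r) = r := fun r hr =>
    P.invol r (S.mem_Lq.mp hr).1 (S.mem_Lq.mp hr).2.1 (by rw [(S.mem_Lq.mp hr).2.2])
  have πmem : ∀ r ∈ S.Lq T γ, π r ∈ S.Lq T γ := fun r hr => P.mem_Lq S hr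
  have πρ : ∀ r, π (W.ρ r) = W.ρ (π r) := fun r => (W.wv_ρ hO hOs r).symm
  set c : Vec l → F := fun r =>
    if π r = r then 0 else if W.K r < W.K (π r) then t r else if W.K (π r) < W.K r then 0
    else if S.key r < S.key (W.ρ r) then W.lam * t r else W.φ W.lam * t r with hc
  -- in the balanced case the reflected root is the image under the symmetry
  have hbal : ∀ r ∈ S.Lq T γ, π r ≠ r → ¬ W.K r < W.K (π r) → ¬ W.K (π r) < W.K r →
      π r = W.ρ r ∧ W.ρ r ≠ r := by
    intro r hr hne h1 h2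
    have hK : W.K r = W.K (π r) := by omega
    rcases W.K_inj r (S.mem_Lq.mp hr).1 (π r) (S.mem_Lq.mp (πmem r hr)).1 hK with e | e
    · exact absurd e hne
    · exact ⟨e, fun e2 => hne (by rw [e, e2])⟩
  -- the symmetry of the coefficients
  have csym : ∀ r ∈ S.Lq T γ, c (W.ρ r) = W.φ (c r) := by
    intro r hr
    have hr' := W.mem_Lq_ρ hT hγ hr
    simp only [hc]
    rw [πρ r, W.K_ρ, W.K_ρ, W.ρ_ρ]
    by_cases e1 : π r = r
    · rw [if_pos e1, if_pos (by rw [e1]), map_zero]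
    · have e1' : W.ρ (π r) ≠ W.ρ r := fun e => e1 (W.ρ_inj e)
      rw [if_neg e1, if_neg e1']
      by_cases e2 : W.K r < W.K (π r)
      · rw [if_pos e2, if_pos e2, tρ r hr]
      · rw [if_neg e2, if_neg e2]
        by_cases e3 : W.K (π r) < W.K r
        · rw [if_pos e3, if_pos e3, map_zero]
        · rw [if_neg e3, if_neg e3]
          obtain ⟨-, hne⟩ := hbal r hr e1 e2 e3
          have hkne : S.key r ≠ S.key (W.ρ r) := fun e => hne (W.ρ_eq_self_of_key (S.mem_Lq.mp hr).1 e)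
          by_cases e4 : S.key r < S.key (W.ρ r)
          · rw [if_pos e4, if_neg (by omega), map_mul, tρ r hr]
          · rw [if_neg e4, if_pos (by omega), map_mul, W.φ_φ, tρ r hr]
  -- the sum of the coefficients over an orbit of the reflection
  have csum : ∀ r ∈ S.Lq T γ, π r ≠ r → c r + c (π r) = t r := by
    intro r hr hne
    have hr' := πmem r hr
    have hne' : π (π r) ≠ π r := by rw [ππ r hr]; exact fun e => hne e.symm
    simp only [hc]
    rw [if_neg hne, if_neg hne', ππ r hr]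
    by_cases e2 : W.K r < W.K (π r)
    · rw [if_pos e2, if_neg (by omega), if_pos e2, add_zero]
    · rw [if_neg e2]
      by_cases e3 : W.K (π r) < W.K r
      · rw [if_pos e3, if_pos e3, zero_add, tπ r hr]
      · rw [if_neg e3, if_neg e3, if_neg e2]
        obtain ⟨hπρ, hρne⟩ := hbal r hr hne e2 e3
        have hkne : S.key r ≠ S.key (W.ρ r) := fun e => hρne (W.ρ_eq_self_of_key (S.mem_Lq.mp hr).1 e)
        rw [tπ r hr, hπρ, W.ρ_ρ]
        by_cases e4 : S.key r < S.key (W.ρ r)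
        · rw [if_pos e4, if_neg (by omega), ← add_mul, W.lam_tr, one_mul]
        · rw [if_neg e4, if_pos (by omega), ← add_mul, add_comm, W.lam_tr, one_mul]
  -- the conjugating element
  set y1 := S.pr (S.Lq T γ) c with hy1
  have hy1m : y1 ∈ S.QT T γ := S.pr_mem_QT (fun r hr => hr) c
  have hy1c : ∀ r ∈ S.Lq T γ, S.phi γ r y1 = c r := by
    intro r hr
    rw [hy1, S.phi_pr D hr _ (fun v hv => hv) S.nodup_Lq c, if_pos hr]
  obtain ⟨d, hd⟩ := W.fix_lift D hT hγ hy1m (by
    intro r hr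
    rw [hy1c r hr, hy1c _ (W.mem_Lq_ρ hT hγ hr), csym r hr])
  set y := y1 * S.x γ d with hy
  have hym : y ∈ S.QT T γ := Subgroup.mul_mem _ hy1m (S.xγ_mem_QT D d)
  have hyc : ∀ r ∈ S.Lq T γ, S.phi γ r y = c r := by
    intro r hr
    obtain ⟨m1, m2, m3⟩ := S.mem_Lq.mp hr
    rw [hy, S.phi_mul D m1 m2 m3 hy1m (S.xγ_mem_QT D d), hy1c r hr, S.phi_xγ D hr, add_zero]
  set w := S.ns O with hw
  set q' := y * q * (w * y⁻¹ * w⁻¹) with hq'
  have hwy : w * y⁻¹ * w⁻¹ ∈ S.QT T γ := P.norm S _ (Subgroup.inv_mem _ hym)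
  have hq'm : q' ∈ S.QT T γ := Subgroup.mul_mem _ (Subgroup.mul_mem _ hym hq) hwy
  have hq'c : ∀ r ∈ S.Lq T γ, S.phi γ r q' = c r + t r + c (π r) := by
    intro r hr
    obtain ⟨m1, m2, m3⟩ := S.mem_Lq.mp hr
    rw [hq', S.phi_mul D m1 m2 m3 (Subgroup.mul_mem _ hym hq) hwy, S.phi_mul D m1 m2 m3 hym hq,
      P.phi_conj S D hr (Subgroup.inv_mem _ hym), S.phi_inv D (πmem r hr) hym, hyc r hr, hyc _ (πmem r hr)]
  have hz : ∀ r ∈ S.Lq T γ, ¬ (π r = r) → S.phi γ r q' = 0 := by
    intro r hr hne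
    rw [hq'c r hr, add_right_comm, csum r hr hne, S.add_self]
  refine ⟨y, hym, hd, q', ?_, by rw [hq']; group⟩
  obtain ⟨c0, hc0⟩ := S.nf_support D hq'm (fun r => π r = r) (fun r hr hne => hz r hr hne)
  rw [hc0]
  have hγO : S.perp O γ := fun β hβ => by rw [S.B_symm]; exact (S.perp_cons.mp (hOp β hβ)).1
  refine Subgroup.mul_mem _ (S.pr_mem _ ?_) (S.x_mem_QT D.mem (S.perp_append.mpr ⟨hγO, D.perp⟩)
    (by rw [S.B_self γ D.mem]; omega) c0)
  intro r hr
  obtain ⟨hr1, hr2⟩ := List.mem_filter.mp hr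
  obtain ⟨k1, k2, k3⟩ := S.mem_Lq.mp hr1
  have hfix : S.wv O r = r := by simpa using hr2
  exact S.x_mem_QT k1 (S.perp_append.mpr ⟨S.perp_of_wv_fix hO hfix, k2⟩) (by omega) _

end TwSys

end Cfsg.Agent.Lib.Helper3.SLInv
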