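import Cfsg.Agent.Lib.Helper3.TwInv2
set_option autoImplicit false
set_option linter.unusedSectionVars false
set_option linter.unusedVariables false
set_option linter.unusedSimpArgs false

/-!
The clearing procedure for a twisted system: the coordinates of a fixed involution of the radical at the roots
not orthogonal to a root of least height in the support (or to its image) are cleared by fixed elements.
-/

namespace Cfsg.Agent.Lib.Helper3.SLInv

namespace TwSys

variable {G : Type*} [Group G] {F : Type*} [Field F] {l : ℕ} {S : SLSys G F l} (W : TwSys S)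
variable {T : List (Vec l)} {γ : Vec l}

/-- the effect on the coordinates of the conjugation by a product of two root elements -/
theorem phi_conj_pair (D : S.Dom T γ) {δ δ' : Vec l} (hδ : δ ∈ S.roots) (hδp : S.perp (γ :: T) δ)
    (hδ' : δ' ∈ S.roots) (hδp' : S.perp (γ :: T) δ') (s s' : F) {r : Vec l} (hr : r ∈ S.Lq T γ) {q : G}
    (hq : q ∈ S.QT T γ) :
    S.phi γ r ((S.x δ s * S.x δ' s') * q * (S.x δ s * S.x δ' s')⁻¹) =
      S.phi γ r q + (if S.B r δ' = 1 then s' * S.phi γ (r - δ') q else 0) +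
        (if S.B r δ = 1 then s * (S.phi γ (r - δ) q +
          (if S.B (r - δ) δ' = 1 then s' * S.phi γ (r - δ - δ') q else 0)) else 0) := by
  have e : (S.x δ s * S.x δ' s') * q * (S.x δ s * S.x δ' s')⁻¹ =
      S.x δ s * (S.x δ' s' * q * (S.x δ' s')⁻¹) * (S.x δ s)⁻¹ := by group
  have hq' : S.x δ' s' * q * (S.x δ' s')⁻¹ ∈ S.QT T γ := S.conj_QT_mem (S.x_mem_GT hδ' hδp' s') hq
  rw [e, S.phi_conj_x D hδ hδp s hr hq', S.phi_conj_x D hδ' hδp' s' hr hq]
  by_cases h1 : S.B r δ = 1
  · rw [if_pos h1, if_pos h1, S.phi_conj_x D hδ' hδp' s' (S.sub_mem_Lq D hr hδ hδp h1) hq]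
  · rw [if_neg h1, if_neg h1]

/-- the roots whose coordinates are cleared -/
def Nb (r0 r : Vec l) : Prop :=
  (S.B r r0 = 1 ∨ S.B r (W.ρ r0) = 1) ∧ S.B r r0 ≠ -1 ∧ S.B r (W.ρ r0) ≠ -1

theorem Nb_ρ {r0 r : Vec l} (h : W.Nb r0 r) : W.Nb r0 (W.ρ r) := by
  obtain ⟨h1, h2, h3⟩ := h
  have e1 : S.B (W.ρ r) r0 = S.B r (W.ρ r0) := W.B_ρ_left r r0
  have e2 : S.B (W.ρ r) (W.ρ r0) = S.B r r0 := W.B_ρ r r0
  refine ⟨?_, ?_, ?_⟩
  · rw [e1, e2]; exact h1.symm
  · rw [e1]; exact h3
  · rw [e2]; exact h2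

/-- the state of the clearing procedure -/
structure QStσ (T : List (Vec l)) (γ : Vec l) (Of : List (Vec l)) (r0 : Vec l) (q : G) : Prop where
  mem : q ∈ S.QT T γ
  fix : W.σ q = q
  inv : ∀ r ∈ S.Lq T γ, S.phi γ r q ≠ 0 → r ∈ Of ∨ S.perp Of r
  mink : ∀ r ∈ S.Lq T γ, S.perp Of r → S.phi γ r q ≠ 0 → W.K r0 ≤ W.K r

/-- a root with non-zero coordinate not orthogonal to a root orthogonal to `Of` is orthogonal to `Of`
and is not lower than `r0` -/
theorem source_ok {Of : List (Vec l)} {r0 : Vec l} {q : G} (hq : W.QStσ T γ Of r0 q) {r' d : Vec l}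
    (hr' : r' ∈ S.Lq T γ) (hne : S.phi γ r' q ≠ 0) (hd : S.perp Of d) (hB : S.B d r' ≠ 0) :
    S.perp Of r' ∧ W.K r0 ≤ W.K r' := by
  rcases hq.inv r' hr' hne with h | h
  · exact absurd (hd r' h) hB
  · exact ⟨h, hq.mink r' hr' h hne⟩

/-- the bookkeeping of a clearing step -/
theorem clean_of_move (D : S.Dom T γ) (hT : W.StabL T) (hγ : W.ρ γ = γ) {Of : List (Vec l)}
    (hOf : ∀ o ∈ Of, o ∈ S.Lq T γ) {r0 : Vec l} (hr0 : r0 ∈ S.Lq T γ) {q : G} (hq : W.QStσ T γ Of r0 q)
    (k : ℕ) (hk : 1 ≤ k)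
    (hc : ∀ r ∈ S.Lq T γ, W.Nb r0 r → W.K r < W.K r0 + k → S.phi γ r q = 0)
    {r1 : Vec l} (hr1 : r1 ∈ S.Lq T γ) (hk1 : W.K r1 = W.K r0 + k)
    {g : G} (hg : g ∈ S.GT (γ :: T)) (hgσ : W.σ g = g)
    (M2 : ∀ r ∈ S.Lq T γ, S.phi γ r (g * q * g⁻¹) ≠ S.phi γ r q → S.perp Of r ∧ W.K r0 + k ≤ W.K r)
    (M3 : S.phi γ r1 (g * q * g⁻¹) = 0) :
    W.QStσ T γ Of r0 (g * q * g⁻¹) ∧ S.phi γ r0 (g * q * g⁻¹) = S.phi γ r0 q ∧
      (∀ o ∈ Of, S.phi γ o (g * q * g⁻¹) = S.phi γ o q) ∧
      ∀ r ∈ S.Lq T γ, W.Nb r0 r → W.K r < W.K r0 + (k + 1 : ℕ) → S.phi γ r (g * q * g⁻¹) = 0 := by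
  have hmem : g * q * g⁻¹ ∈ S.QT T γ := S.conj_QT_mem hg hq.mem
  have hfix : W.σ (g * q * g⁻¹) = g * q * g⁻¹ := by
    rw [map_mul, map_mul, map_inv, hgσ, hq.fix]
  refine ⟨⟨hmem, hfix, ?_, ?_⟩, ?_, ?_, ?_⟩
  · intro r hr hne
    by_cases e : S.phi γ r (g * q * g⁻¹) = S.phi γ r q
    · exact hq.inv r hr (by rw [← e]; exact hne)
    · exact Or.inr (M2 r hr e).1
  · intro r hr hrp hne
    by_cases e : S.phi γ r (g * q * g⁻¹) = S.phi γ r q
    · exact hq.mink r hr hrp (by rw [← e]; exact hne)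
    · have := (M2 r hr e).2
      omega
  · by_contra e
    have := (M2 r0 hr0 e).2
    omega
  · intro o ho
    by_contra e
    have h1 := (M2 o (hOf o ho) e).1 o ho
    rw [S.B_self o (S.mem_Lq.mp (hOf o ho)).1] at h1
    omega
  · intro r hr hN hkr
    by_cases hlt : W.K r < W.K r0 + k
    · by_contra hne
      have e : S.phi γ r (g * q * g⁻¹) ≠ S.phi γ r q := by
        rw [hc r hr hN hlt]; exact hne
      have := (M2 r hr e).2
      omega
    · have hKr : W.K r = W.K r1 := by push_cast at hkr; omega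
      rcases W.K_inj r1 (S.mem_Lq.mp hr1).1 r (S.mem_Lq.mp hr).1 hKr.symm with e | e
      · rw [e]; exact M3
      · rw [e, W.phi_fix D hT hγ hr1 hmem hfix, M3, map_zero]

/-- one step of the clearing procedure, for a root not orthogonal to `r0` -/
theorem clean_step_core (D : S.Dom T γ) (hT : W.StabL T) (hγ : W.ρ γ = γ) {Of : List (Vec l)}
    (hOf : ∀ o ∈ Of, o ∈ S.Lq T γ) (hOfs : W.StabL Of)
    {r0 : Vec l} (hr0 : r0 ∈ S.Lq T γ) (hr0p : S.perp Of r0) {q : G} (hq : W.QStσ T γ Of r0 q)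
    (h0 : S.phi γ r0 q ≠ 0) (k : ℕ)
    (hc : ∀ r ∈ S.Lq T γ, W.Nb r0 r → W.K r < W.K r0 + k → S.phi γ r q = 0)
    {r1 : Vec l} (hr1 : r1 ∈ S.Lq T γ) (hB : S.B r1 r0 = 1) (hB' : S.B r1 (W.ρ r0) ≠ -1)
    (hk1 : W.K r1 = W.K r0 + k) (h1 : S.phi γ r1 q ≠ 0) :
    ∃ g ∈ S.GT (γ :: T), W.σ g = g ∧ W.QStσ T γ Of r0 (g * q * g⁻¹) ∧
      S.phi γ r0 (g * q * g⁻¹) = S.phi γ r0 q ∧
      (∀ o ∈ Of, S.phi γ o (g * q * g⁻¹) = S.phi γ o q) ∧
      ∀ r ∈ S.Lq T γ, W.Nb r0 r → W.K r < W.K r0 + (k + 1 : ℕ) → S.phi γ r (g * q * g⁻¹) = 0 := by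
  obtain ⟨a1, a2, a3⟩ := S.mem_Lq.mp hr0
  obtain ⟨b1, b2, b3⟩ := S.mem_Lq.mp hr1
  have hTγ : W.StabL (γ :: T) := W.stabL_cons hγ hT
  set δ := r1 - r0 with hδdef
  have hδ : δ ∈ S.roots := S.sub_mem b1 a1 hB
  have hδγ : S.B δ γ = 0 := by rw [hδdef, S.B_sub_left, a3, b3]; rfl
  have hδp : S.perp (γ :: T) δ := S.perp_cons.mpr ⟨hδγ, S.perp_sub b2 a2⟩
  have hr1Of : S.perp Of r1 := by
    rcases hq.inv r1 hr1 h1 with h | h
    · have := hr0p r1 h
      rw [S.B_symm] at this
      omega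
    · exact h
  have hδOf : S.perp Of δ := S.perp_sub hr1Of hr0p
  have hKδ : W.K δ = k := by rw [hδdef, W.K_sub, hk1]; ring
  -- the level is positive
  have hk : 1 ≤ k := by
    by_contra hlt
    have hk0 : k = 0 := by omega
    rw [hk0] at hk1
    rcases W.K_inj r0 a1 r1 b1 (by rw [hk1]; simp) with e | e
    · rw [e, S.B_self r0 a1] at hB; omega
    · rw [e] at hB
      rcases W.orb r0 a1 with e2 | e2
      · rw [e2, S.B_self r0 a1] at hB; omega
      · rw [S.B_symm, e2] at hB; omega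
  set t0 := S.phi γ r0 q with ht0
  set δ' := W.ρ δ with hδ'def
  have hδ' : δ' ∈ S.roots := W.ρ_mem δ hδ
  have hδp' : S.perp (γ :: T) δ' := W.perp_ρ hTγ hδp
  have hδOf' : S.perp Of δ' := W.perp_ρ hOfs hδOf
  have hKδ' : W.K δ' = k := by rw [hδ'def, W.K_ρ, hKδ]
  have e2 : r1 - δ = r0 := by rw [hδdef]; abel
  have hB1 : S.B r1 δ = 1 := by rw [hδdef, S.B_sub_right, S.B_self r1 b1, hB]; rfl
  by_cases hfixδ : δ' = δ
  · -- both roots are fixed
    have hρ0 : W.ρ r0 = r0 := by
      rcases W.orb r0 a1 with e | e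
      · exact e
      · exfalso
        apply hB'
        have h3 : r1 = r0 + δ := by rw [hδdef]; abel
        have h4 : S.B δ (W.ρ r0) = S.B δ r0 := by
          conv_lhs => rw [← hfixδ, hδ'def, W.B_ρ]
        rw [h3, S.B_add_left, e, h4, hδdef, S.B_sub_left, hB, S.B_self r0 a1]
        rfl
    have hρ1 : W.ρ r1 = r1 := by
      have h3 : r1 = r0 + δ := by rw [hδdef]; abel
      rw [h3, W.ρ_add, hρ0, ← hδ'def, hfixδ]
    have hφ0 : W.φ t0 = t0 := by
      have := W.phi_fix D hT hγ hr0 hq.mem hq.fix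
      rw [hρ0] at this
      exact this.symm
    have hφ1 : W.φ (S.phi γ r1 q) = S.phi γ r1 q := by
      have := W.phi_fix D hT hγ hr1 hq.mem hq.fix
      rw [hρ1] at this
      exact this.symm
    set s := S.phi γ r1 q * t0⁻¹ with hs
    have hst : s * t0 = S.phi γ r1 q := by rw [hs, mul_assoc, inv_mul_cancel₀ h0, mul_one]
    have hφs : W.φ s = s := by rw [hs, map_mul, map_inv₀, hφ0, hφ1]
    have hform : ∀ r ∈ S.Lq T γ, S.phi γ r (S.x δ s * q * (S.x δ s)⁻¹) =
        S.phi γ r q + (if S.B r δ = 1 then s * S.phi γ (r - δ) q else 0) :=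
      fun r hr => S.phi_conj_x D hδ hδp s hr hq.mem
    have hgσ : W.σ (S.x δ s) = S.x δ s := by rw [W.σ_x δ hδ, ← hδ'def, hfixδ, hφs]
    refine ⟨S.x δ s, S.x_mem_GT hδ hδp s, hgσ, W.clean_of_move D hT hγ hOf hr0 hq k hk hc hr1 hk1
      (S.x_mem_GT hδ hδp s) hgσ ?_ ?_⟩
    · intro r hr hne
      rw [hform r hr] at hne
      by_cases hBr : S.B r δ = 1
      · rw [if_pos hBr] at hne
        have hne' : S.phi γ (r - δ) q ≠ 0 := fun e => hne (by rw [e, mul_zero, add_zero])
        have hsrc := W.source_ok hq (S.sub_mem_Lq D hr hδ hδp hBr) hne' hδOf (by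
          rw [S.B_sub_right, S.B_self δ hδ, S.B_symm, hBr]; omega)
        refine ⟨?_, ?_⟩
        · have := S.perp_add hsrc.1 hδOf
          rwa [sub_add_cancel] at this
        · have := hsrc.2
          rw [W.K_sub, hKδ] at this
          omega
      · rw [if_neg hBr, add_zero] at hne
        exact absurd rfl hne
    · rw [hform r1 hr1, if_pos hB1, e2, hst, S.add_self]
  · -- a pair of commuting root elements
    have hcomm : S.B δ δ' = 0 := by
      rcases W.orb δ hδ with e | e
      · exact absurd e hfixδ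
      · exact e
    -- the coefficient
    set c : F := if W.ρ r1 = r1 then W.lam else 1 with hc'
    set s := c * S.phi γ r1 q * t0⁻¹ with hs
    have hst : s * t0 = c * S.phi γ r1 q := by rw [hs, mul_assoc, inv_mul_cancel₀ h0, mul_one]
    set g := S.x δ s * S.x δ' (W.φ s) with hg
    have hgm : g ∈ S.GT (γ :: T) := Subgroup.mul_mem _ (S.x_mem_GT hδ hδp s) (S.x_mem_GT hδ' hδp' _)
    have hgσ : W.σ g = g := by
      rw [hg, map_mul, W.σ_x δ hδ, W.σ_x δ' hδ', ← hδ'def, hδ'def, W.ρ_ρ, W.φ_φ, ← hδ'def]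
      exact (S.x_comm δ hδ δ' hδ' (by omega) s (W.φ s)).symm
    have hform := fun r (hr : r ∈ S.Lq T γ) => phi_conj_pair D hδ hδp hδ' hδp' s (W.φ s) hr hq.mem
    -- a source at a root below `r0` vanishes
    have hlow : ∀ r' ∈ S.Lq T γ, ∀ d : Vec l, S.perp Of d → S.B d r' ≠ 0 → W.K r' < W.K r0 →
        S.phi γ r' q = 0 := by
      intro r' hr' d hd hBd hK
      by_contra hne
      have := (W.source_ok hq hr' hne hd hBd).2
      omega
    refine ⟨g, hgm, hgσ, W.clean_of_move D hT hγ hOf hr0 hq k hk hc hr1 hk1 hgm hgσ ?_ ?_⟩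
    · intro r hr hne
      rw [hform r hr] at hne
      -- one of the three sources is non-zero
      by_cases hA : S.B r δ' = 1 ∧ S.phi γ (r - δ') q ≠ 0
      · obtain ⟨hBr, hne'⟩ := hA
        have hsrc := W.source_ok hq (S.sub_mem_Lq D hr hδ' hδp' hBr) hne' hδOf' (by
          rw [S.B_sub_right, S.B_self δ' hδ', S.B_symm, hBr]; omega)
        refine ⟨?_, ?_⟩
        · have := S.perp_add hsrc.1 hδOf'
          rwa [sub_add_cancel] at this
        · have := hsrc.2
          rw [W.K_sub, hKδ'] at this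
          omega
      · by_cases hBr : S.B r δ = 1
        · have hrδ := S.sub_mem_Lq D hr hδ hδp hBr
          by_cases hB2 : S.phi γ (r - δ) q ≠ 0
          · have hsrc := W.source_ok hq hrδ hB2 hδOf (by
              rw [S.B_sub_right, S.B_self δ hδ, S.B_symm, hBr]; omega)
            refine ⟨?_, ?_⟩
            · have := S.perp_add hsrc.1 hδOf
              rwa [sub_add_cancel] at this
            · have := hsrc.2
              rw [W.K_sub, hKδ] at this
              omega
          · by_cases hC : S.B (r - δ) δ' = 1 ∧ S.phi γ (r - δ - δ') q ≠ 0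
            · obtain ⟨hBr2, hne'⟩ := hC
              have hsrc := W.source_ok hq (S.sub_mem_Lq D hrδ hδ' hδp' hBr2) hne' hδOf' (by
                rw [S.B_sub_right, S.B_self δ' hδ', S.B_symm, hBr2]; omega)
              refine ⟨?_, ?_⟩
              · have := S.perp_add (S.perp_add hsrc.1 hδOf') hδOf
                rwa [sub_add_cancel, sub_add_cancel] at this
              · have := hsrc.2
                rw [W.K_sub, W.K_sub, hKδ, hKδ'] at this
                omega
            · exfalso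
              apply hne
              have z1 : (if S.B r δ' = 1 then W.φ s * S.phi γ (r - δ') q else 0) = 0 := by
                by_cases h : S.B r δ' = 1
                · rw [if_pos h]
                  have : S.phi γ (r - δ') q = 0 := by
                    by_contra h'
                    exact hA ⟨h, h'⟩
                  rw [this, mul_zero]
                · rw [if_neg h]
              have z2 : (if S.B (r - δ) δ' = 1 then W.φ s * S.phi γ (r - δ - δ') q else 0) = 0 := by
                by_cases h : S.B (r - δ) δ' = 1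
                · rw [if_pos h]
                  have : S.phi γ (r - δ - δ') q = 0 := by
                    by_contra h'
                    exact hC ⟨h, h'⟩
                  rw [this, mul_zero]
                · rw [if_neg h]
              have z3 : S.phi γ (r - δ) q = 0 := by
                by_contra h'
                exact hB2 h'
              rw [z1, if_pos hBr, z2, z3, add_zero, add_zero, mul_zero, add_zero]
        · exfalso
          apply hne
          have z1 : (if S.B r δ' = 1 then W.φ s * S.phi γ (r - δ') q else 0) = 0 := by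
            by_cases h : S.B r δ' = 1
            · rw [if_pos h]
              have : S.phi γ (r - δ') q = 0 := by
                by_contra h'
                exact hA ⟨h, h'⟩
              rw [this, mul_zero]
            · rw [if_neg h]
          rw [z1, if_neg hBr, add_zero, add_zero]
    · rw [hform r1 hr1, if_pos hB1, e2]
      -- the second order term vanishes
      have z2 : (if S.B r0 δ' = 1 then W.φ s * S.phi γ (r0 - δ') q else 0) = 0 := by
        by_cases h : S.B r0 δ' = 1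
        · rw [if_pos h]
          have : S.phi γ (r0 - δ') q = 0 := by
            apply hlow _ (S.sub_mem_Lq D hr0 hδ' hδp' h) δ' hδOf'
            · rw [S.B_sub_right, S.B_self δ' hδ', S.B_symm, h]; omega
            · rw [W.K_sub, hKδ']; omega
          rw [this, mul_zero]
        · rw [if_neg h]
      rw [z2, add_zero, hst]
      by_cases hρ1 : W.ρ r1 = r1
      · -- the root `r1` is fixed
        have hBr1 : S.B r1 δ' = 1 := by
          rw [hδ'def, ← hρ1, W.B_ρ, hB1]
        have e3 : r1 - δ' = W.ρ r0 := by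
          rw [hδ'def, hδdef, W.ρ_sub, hρ1]; abel
        have hφ1 : W.φ (S.phi γ r1 q) = S.phi γ r1 q := by
          have := W.phi_fix D hT hγ hr1 hq.mem hq.fix
          rw [hρ1] at this
          exact this.symm
        rw [if_pos hBr1, e3, W.phi_fix D hT hγ hr0 hq.mem hq.fix, ← map_mul, hst, hc', if_pos hρ1, map_mul, hφ1,
          W.φ_lam]
        have h2 : S.phi γ r1 q + S.phi γ r1 q = 0 := S.add_self _
        calc S.phi γ r1 q + (1 + W.lam) * S.phi γ r1 q + W.lam * S.phi γ r1 q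
            = (S.phi γ r1 q + S.phi γ r1 q) + (W.lam * S.phi γ r1 q + W.lam * S.phi γ r1 q) := by ring
          _ = 0 := by rw [h2, S.add_self, add_zero]
      · -- the root `r1` is not fixed
        have hBr1 : S.B r1 δ' ≠ 1 := by
          intro h
          have hmem := S.sub_mem_Lq D hr1 hδ' hδp' h
          have hK : W.K r0 = W.K (r1 - δ') := by rw [W.K_sub, hKδ', hk1]; ring
          rcases W.K_inj r0 a1 _ (S.mem_Lq.mp hmem).1 hK with e | e
          · apply hfixδ
            have : r1 - δ' = r1 - δ := by rw [e, e2]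
            exact (sub_right_injective this)
          · apply hρ1
            have h3 : r1 = W.ρ r0 + δ' := by rw [← e]; abel
            have h4 : W.ρ r0 + δ' = W.ρ r1 := by
              rw [hδ'def, hδdef, W.ρ_sub]; abel
            rw [← h4, ← h3]
        rw [if_neg hBr1, add_zero, hc', if_neg hρ1, one_mul, S.add_self]

end TwSys

end Cfsg.Agent.Lib.Helper3.SLInv
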