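import Cfsg.Agent.Lib.Helper3.TwInv3
set_option autoImplicit false
set_option linter.unusedSectionVars false
set_option linter.unusedVariables false
set_option linter.unusedSimpArgs false

/-!
The clearing procedure for a twisted system, continued: the iteration over the levels.
-/

namespace Cfsg.Agent.Lib.Helper3.SLInv

namespace TwSys

variable {G : Type*} [Group G] {F : Type*} [Field F] {l : ℕ} {S : SLSys G F l} (W : TwSys S)
variable {T : List (Vec l)} {γ : Vec l}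

/-- one step of the clearing procedure -/
theorem clean_stepσ (D : S.Dom T γ) (hT : W.StabL T) (hγ : W.ρ γ = γ) {Of : List (Vec l)}
    (hOf : ∀ o ∈ Of, o ∈ S.Lq T γ) (hOfs : W.StabL Of)
    {r0 : Vec l} (hr0 : r0 ∈ S.Lq T γ) (hr0p : S.perp Of r0) {q : G} (hq : W.QStσ T γ Of r0 q)
    (h0 : S.phi γ r0 q ≠ 0) (k : ℕ)
    (hc : ∀ r ∈ S.Lq T γ, W.Nb r0 r → W.K r < W.K r0 + k → S.phi γ r q = 0)
    {r1 : Vec l} (hr1 : r1 ∈ S.Lq T γ) (hN : W.Nb r0 r1)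
    (hk1 : W.K r1 = W.K r0 + k) (h1 : S.phi γ r1 q ≠ 0) :
    ∃ g ∈ S.GT (γ :: T), W.σ g = g ∧ W.QStσ T γ Of r0 (g * q * g⁻¹) ∧
      S.phi γ r0 (g * q * g⁻¹) = S.phi γ r0 q ∧
      (∀ o ∈ Of, S.phi γ o (g * q * g⁻¹) = S.phi γ o q) ∧
      ∀ r ∈ S.Lq T γ, W.Nb r0 r → W.K r < W.K r0 + (k + 1 : ℕ) → S.phi γ r (g * q * g⁻¹) = 0 := by
  obtain ⟨hN1, hN2, hN3⟩ := hN
  rcases hN1 with hB | hB
  · exact W.clean_step_core D hT hγ hOf hOfs hr0 hr0p hq h0 k hc hr1 hB hN3 hk1 h1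
  · have hr1' := W.mem_Lq_ρ hT hγ hr1
    have e1 : S.B (W.ρ r1) r0 = 1 := by rw [W.B_ρ_left]; exact hB
    have e2 : S.B (W.ρ r1) (W.ρ r0) ≠ -1 := by rw [W.B_ρ]; exact hN2
    have e3 : W.K (W.ρ r1) = W.K r0 + k := by rw [W.K_ρ]; exact hk1
    have e4 : S.phi γ (W.ρ r1) q ≠ 0 := by
      rw [W.phi_fix D hT hγ hr1 hq.mem hq.fix]
      intro h
      apply h1
      have := congrArg W.φ h
      rwa [W.φ_φ, map_zero] at this
    exact W.clean_step_core D hT hγ hOf hOfs hr0 hr0p hq h0 k hc hr1' e1 e2 e3 e4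

/-- the clearing procedure up to a level -/
theorem cleanσ (D : S.Dom T γ) (hT : W.StabL T) (hγ : W.ρ γ = γ) {Of : List (Vec l)}
    (hOf : ∀ o ∈ Of, o ∈ S.Lq T γ) (hOfs : W.StabL Of)
    {r0 : Vec l} (hr0 : r0 ∈ S.Lq T γ) (hr0p : S.perp Of r0) {q : G} (hq : W.QStσ T γ Of r0 q)
    (h0 : S.phi γ r0 q ≠ 0) (k : ℕ) :
    ∃ g ∈ S.GT (γ :: T), W.σ g = g ∧ W.QStσ T γ Of r0 (g * q * g⁻¹) ∧
      S.phi γ r0 (g * q * g⁻¹) = S.phi γ r0 q ∧
      (∀ o ∈ Of, S.phi γ o (g * q * g⁻¹) = S.phi γ o q) ∧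
      ∀ r ∈ S.Lq T γ, W.Nb r0 r → W.K r < W.K r0 + k → S.phi γ r (g * q * g⁻¹) = 0 := by
  induction k with
  | zero =>
    refine ⟨1, Subgroup.one_mem _, map_one _, by simpa using hq, by simp, fun o _ => by simp, ?_⟩
    intro r hr hN hkr
    by_contra hne
    have hne' : S.phi γ r q ≠ 0 := by simpa using hne
    rcases hq.inv r hr hne' with h | h
    · have h1 := hr0p r h
      have h2 := W.perp_ρ hOfs hr0p r h
      rw [S.B_symm] at h1 h2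
      rcases hN.1 with e | e <;> omega
    · have := hq.mink r hr h hne'
      push_cast at hkr
      omega
  | succ k ih =>
    obtain ⟨g, hg, hgσ, hst, e0, eOf, hc⟩ := ih
    by_cases hex : ∃ r1 ∈ S.Lq T γ, W.Nb r0 r1 ∧ W.K r1 = W.K r0 + k ∧ S.phi γ r1 (g * q * g⁻¹) ≠ 0
    · obtain ⟨r1, hr1, hN, hk, h1⟩ := hex
      obtain ⟨g', hg', hgσ', hst', e0', eOf', hc'⟩ :=
        W.clean_stepσ D hT hγ hOf hOfs hr0 hr0p hst (by rw [e0]; exact h0) k hc hr1 hN hk h1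
      have e : g' * (g * q * g⁻¹) * g'⁻¹ = (g' * g) * q * (g' * g)⁻¹ := by group
      rw [e] at hst' e0' eOf' hc'
      refine ⟨g' * g, Subgroup.mul_mem _ hg' hg, by rw [map_mul, hgσ', hgσ], hst', by rw [e0', e0],
        fun o ho => by rw [eOf' o ho, eOf o ho], hc'⟩
    · refine ⟨g, hg, hgσ, hst, e0, eOf, ?_⟩
      intro r hr hN hkr
      by_cases hk : W.K r = W.K r0 + k
      · by_contra hne
        exact hex ⟨r, hr, hN, hk, hne⟩
      · exact hc r hr hN (by push_cast at hkr; omega)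

theorem exists_K_bound (L : List (Vec l)) : ∃ M : ℕ, ∀ r ∈ L, W.K r < M := by
  induction L with
  | nil => exact ⟨0, fun _ h => absurd h List.not_mem_nil⟩
  | cons a L ih =>
    obtain ⟨M, hM⟩ := ih
    refine ⟨M + (W.K a).natAbs + 1, ?_⟩
    intro r hr
    have hle := Int.le_natAbs (a := W.K a)
    rcases List.mem_cons.mp hr with h | h
    · rw [h]; omega
    · have := hM r h; omega

/-- the clearing procedure -/
theorem clean_allσ (D : S.Dom T γ) (hT : W.StabL T) (hγ : W.ρ γ = γ) {Of : List (Vec l)}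
    (hOf : ∀ o ∈ Of, o ∈ S.Lq T γ) (hOfs : W.StabL Of)
    {r0 : Vec l} (hr0 : r0 ∈ S.Lq T γ) (hr0p : S.perp Of r0) {q : G} (hq : W.QStσ T γ Of r0 q)
    (h0 : S.phi γ r0 q ≠ 0) :
    ∃ g ∈ S.GT (γ :: T), W.σ g = g ∧ W.QStσ T γ Of r0 (g * q * g⁻¹) ∧
      S.phi γ r0 (g * q * g⁻¹) = S.phi γ r0 q ∧
      (∀ o ∈ Of, S.phi γ o (g * q * g⁻¹) = S.phi γ o q) ∧
      ∀ r ∈ S.Lq T γ, W.Nb r0 r → S.phi γ r (g * q * g⁻¹) = 0 := by
  obtain ⟨M, hM⟩ := W.exists_K_bound S.roots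
  obtain ⟨g, hg, hgσ, h1, h2, h3, h4⟩ := W.cleanσ D hT hγ hOf hOfs hr0 hr0p hq h0 (M + (W.K r0).natAbs)
  refine ⟨g, hg, hgσ, h1, h2, h3, fun r hr hN => h4 r hr hN ?_⟩
  have := hM r (S.mem_Lq.mp hr).1
  have hle := Int.le_natAbs (a := -W.K r0)
  rw [Int.natAbs_neg] at hle
  omega

end TwSys

end Cfsg.Agent.Lib.Helper3.SLInv
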