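import Cfsg.Agent.Lib.Helper3.TwInv4
set_option autoImplicit false
set_option linter.unusedSectionVars false
set_option linter.unusedVariables false
set_option linter.unusedSimpArgs false

/-!
The square of an element of the radical supported on two orthogonal roots, their partners and the roots
orthogonal to both.
-/

namespace Cfsg.Agent.Lib.Helper3.SLInv

/-- the square of a product of four involutions, two pairs of which do not commute -/
theorem four_sq {G : Type*} [Group G] {A A' U U' Z1 Z2 q2 : G}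
    (hA : A * A = 1) (hA' : A' * A' = 1) (hU : U * U = 1) (hU' : U' * U' = 1) (hq2 : q2 * q2 = 1)
    (c1 : A * A' = A' * A) (c2 : U * U' = U' * U) (c3 : A * U' = U' * A) (c4 : A' * U = U * A')
    (hUA : U * A = A * U * Z1) (hU'A' : U' * A' = A' * U' * Z2)
    (z1A' : Z1 * A' = A' * Z1) (z1U : Z1 * U = U * Z1) (z1U' : Z1 * U' = U' * Z1)
    (z2U : Z2 * U = U * Z2) (z2U' : Z2 * U' = U' * Z2)
    (qA : q2 * A = A * q2) (qA' : q2 * A' = A' * q2) (qU : q2 * U = U * q2) (qU' : q2 * U' = U' * q2) :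
    (A * (A' * (U * (U' * q2)))) * (A * (A' * (U * (U' * q2)))) = Z1 * Z2 := by
  have hX : (U * U') * (A * A') = (A * A') * (U * U') * (Z1 * Z2) := by
    calc (U * U') * (A * A') = U * (U' * A) * A' := by group
      _ = U * (A * U') * A' := by rw [← c3]
      _ = (U * A) * (U' * A') := by group
      _ = (A * U * Z1) * (A' * U' * Z2) := by rw [hUA, hU'A']
      _ = A * U * (Z1 * A') * U' * Z2 := by group
      _ = A * U * (A' * Z1) * U' * Z2 := by rw [z1A']
      _ = A * (U * A') * (Z1 * U') * Z2 := by group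
      _ = A * (A' * U) * (U' * Z1) * Z2 := by rw [← c4, z1U']
      _ = (A * A') * (U * U') * (Z1 * Z2) := by group
  have hZ : (Z1 * Z2) * (U * U') = (U * U') * (Z1 * Z2) := by
    calc (Z1 * Z2) * (U * U') = Z1 * (Z2 * U) * U' := by group
      _ = Z1 * (U * Z2) * U' := by rw [z2U]
      _ = (Z1 * U) * (Z2 * U') := by group
      _ = (U * Z1) * (U' * Z2) := by rw [z1U, z2U']
      _ = U * (Z1 * U') * Z2 := by group
      _ = U * (U' * Z1) * Z2 := by rw [z1U']
      _ = (U * U') * (Z1 * Z2) := by group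
  have hAA : (A * A') * (A * A') = 1 := by
    calc (A * A') * (A * A') = A * (A' * A) * A' := by group
      _ = A * (A * A') * A' := by rw [← c1]
      _ = (A * A) * (A' * A') := by group
      _ = 1 := by rw [hA, hA', one_mul]
  have hUU : (U * U') * (U * U') = 1 := by
    calc (U * U') * (U * U') = U * (U' * U) * U' := by group
      _ = U * (U * U') * U' := by rw [← c2]
      _ = (U * U) * (U' * U') := by group
      _ = 1 := by rw [hU, hU', one_mul]
  have hq : q2 * ((A * A') * (U * U')) = ((A * A') * (U * U')) * q2 := by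
    calc q2 * ((A * A') * (U * U')) = (q2 * A) * A' * U * U' := by group
      _ = (A * q2) * A' * U * U' := by rw [qA]
      _ = A * (q2 * A') * U * U' := by group
      _ = A * (A' * q2) * U * U' := by rw [qA']
      _ = A * A' * (q2 * U) * U' := by group
      _ = A * A' * (U * q2) * U' := by rw [qU]
      _ = A * A' * U * (q2 * U') := by group
      _ = A * A' * U * (U' * q2) := by rw [qU']
      _ = ((A * A') * (U * U')) * q2 := by group
  calc (A * (A' * (U * (U' * q2)))) * (A * (A' * (U * (U' * q2))))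
      = ((A * A') * (U * U')) * (q2 * ((A * A') * (U * U'))) * q2 := by group
    _ = ((A * A') * (U * U')) * (((A * A') * (U * U')) * q2) * q2 := by rw [hq]
    _ = (A * A') * ((U * U') * (A * A')) * (U * U') * (q2 * q2) := by group
    _ = (A * A') * ((A * A') * (U * U') * (Z1 * Z2)) * (U * U') * 1 := by rw [hX, hq2]
    _ = ((A * A') * (A * A')) * (U * U') * ((Z1 * Z2) * (U * U')) := by group
    _ = 1 * (U * U') * ((U * U') * (Z1 * Z2)) := by rw [hAA, hZ]
    _ = ((U * U') * (U * U')) * (Z1 * Z2) := by group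
    _ = Z1 * Z2 := by rw [hUU, one_mul]

namespace SLSys

variable {G : Type*} [Group G] {F : Type*} [Field F] {l : ℕ} (S : SLSys G F l)
variable {T : List (Vec l)} {γ : Vec l}

/-- the relation satisfied by the coordinates of an involution of the radical at two orthogonal roots and their
partners, when the other roots of the support are orthogonal to both -/
theorem sq_pair (D : S.Dom T γ) {r0 r0' : Vec l} (hr0 : r0 ∈ S.Lq T γ) (hr0' : r0' ∈ S.Lq T γ)
    (hB : S.B r0 r0' = 0) {q : G} (hq : q ∈ S.QT T γ) (hsq : q * q = 1)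
    (hsupp : ∀ r ∈ S.Lq T γ, S.phi γ r q ≠ 0 → r = r0 ∨ r = r0' ∨ r = γ - r0 ∨ r = γ - r0' ∨
      (S.B r r0 = 0 ∧ S.B r r0' = 0)) :
    S.phi γ r0 q * S.phi γ (γ - r0) q + S.phi γ r0' q * S.phi γ (γ - r0') q = 0 := by
  classical
  obtain ⟨a1, a2, a3⟩ := S.mem_Lq.mp hr0
  obtain ⟨a1', a2', a3'⟩ := S.mem_Lq.mp hr0'
  have hp0 : γ - r0 ∈ S.Lq T γ := S.mem_Lq.mpr ⟨S.partner_mem D a1 a3, S.partner_perp D a2, S.partner_B D a1 a3⟩
  have hp0' : γ - r0' ∈ S.Lq T γ :=
    S.mem_Lq.mpr ⟨S.partner_mem D a1' a3', S.partner_perp D a2', S.partner_B D a1' a3'⟩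
  obtain ⟨b1, b2, b3⟩ := S.mem_Lq.mp hp0
  obtain ⟨b1', b2', b3'⟩ := S.mem_Lq.mp hp0'
  set p0 := γ - r0 with hp0def
  set p0' := γ - r0' with hp0def'
  set a := S.phi γ r0 q
  set a' := S.phi γ r0' q
  set u := S.phi γ p0 q
  set u' := S.phi γ p0' q
  -- the values of the form
  have B00' : S.B r0' r0 = 0 := by rw [S.B_symm]; exact hB
  have Bγ0 : S.B γ r0 = 1 := by rw [S.B_symm]; exact a3
  have Bγ0' : S.B γ r0' = 1 := by rw [S.B_symm]; exact a3'
  have Bp0r0 : S.B p0 r0 = -1 := by rw [hp0def, S.B_sub_left, Bγ0, S.B_self r0 a1]; rfl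
  have Bp0r0' : S.B p0 r0' = 1 := by rw [hp0def, S.B_sub_left, Bγ0', hB]; rfl
  have Bp0'r0 : S.B p0' r0 = 1 := by rw [hp0def', S.B_sub_left, Bγ0, B00']; rfl
  have Bp0'r0' : S.B p0' r0' = -1 := by rw [hp0def', S.B_sub_left, Bγ0', S.B_self r0' a1']; rfl
  have Bp0p0' : S.B p0 p0' = 0 := by
    rw [hp0def', S.B_sub_right, b3, Bp0r0']; rfl
  -- the four roots are distinct
  have n1 : r0' ≠ r0 := fun e => by rw [e, S.B_self r0 a1] at hB; omega
  have n2 : p0 ≠ r0 := fun e => by rw [e, S.B_self r0 a1] at Bp0r0; omega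
  have n3 : p0 ≠ r0' := fun e => by rw [e, S.B_self r0' a1'] at Bp0r0'; omega
  have n4 : p0' ≠ r0 := fun e => by rw [e, S.B_self r0 a1] at Bp0'r0; omega
  have n5 : p0' ≠ r0' := fun e => by rw [e, S.B_self r0' a1'] at Bp0'r0'; omega
  have n6 : p0' ≠ p0 := fun e => by rw [e, S.B_self p0 b1] at Bp0p0'; omega
  have hxA : S.x r0 a ∈ S.QT T γ := S.x_mem_QT a1 a2 (by omega) a
  have hxA' : S.x r0' a' ∈ S.QT T γ := S.x_mem_QT a1' a2' (by omega) a'
  have hxU : S.x p0 u ∈ S.QT T γ := S.x_mem_QT b1 b2 (by omega) u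
  have hxU' : S.x p0' u' ∈ S.QT T γ := S.x_mem_QT b1' b2' (by omega) u'
  set q2 := S.x p0' u' * (S.x p0 u * (S.x r0' a' * (S.x r0 a * q))) with hq2
  have hm1 : S.x r0 a * q ∈ S.QT T γ := Subgroup.mul_mem _ hxA hq
  have hm2 : S.x r0' a' * (S.x r0 a * q) ∈ S.QT T γ := Subgroup.mul_mem _ hxA' hm1
  have hm3 : S.x p0 u * (S.x r0' a' * (S.x r0 a * q)) ∈ S.QT T γ := Subgroup.mul_mem _ hxU hm2
  have hq2m : q2 ∈ S.QT T γ := Subgroup.mul_mem _ hxU' hm3
  have hcoord : ∀ r ∈ S.Lq T γ, S.phi γ r q2 = S.phi γ r (S.x p0' u') + (S.phi γ r (S.x p0 u) +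
      (S.phi γ r (S.x r0' a') + (S.phi γ r (S.x r0 a) + S.phi γ r q))) := by
    intro r hr
    obtain ⟨m1, m2, m3⟩ := S.mem_Lq.mp hr
    rw [hq2, S.phi_mul D m1 m2 m3 hxU' hm3, S.phi_mul D m1 m2 m3 hxU hm2, S.phi_mul D m1 m2 m3 hxA' hm1,
      S.phi_mul D m1 m2 m3 hxA hq]
  -- the support of `q2`
  have hsupp2 : ∀ r ∈ S.Lq T γ, ¬ (S.B r r0 = 0 ∧ S.B r r0' = 0) → S.phi γ r q2 = 0 := by
    intro r hr hBr
    obtain ⟨m1, m2, m3⟩ := S.mem_Lq.mp hr
    rw [hcoord r hr]
    by_cases e0 : r = r0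
    · subst e0
      rw [S.phi_gen_ne D m1 m2 m3 b1' b2' (by omega) n4, S.phi_gen_ne D m1 m2 m3 b1 b2 (by omega) n2,
        S.phi_gen_ne D m1 m2 m3 a1' a2' (by omega) n1, S.phi_gen_self D m1 m2 m3, zero_add, zero_add, zero_add,
        S.add_self]
    · by_cases e1 : r = r0'
      · subst e1
        rw [S.phi_gen_ne D m1 m2 m3 b1' b2' (by omega) n5, S.phi_gen_ne D m1 m2 m3 b1 b2 (by omega) n3,
          S.phi_gen_self D m1 m2 m3, S.phi_gen_ne D m1 m2 m3 a1 a2 (by omega) (Ne.symm e0), zero_add, zero_add,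
          zero_add, S.add_self]
      · by_cases e2 : r = p0
        · subst e2
          rw [S.phi_gen_ne D m1 m2 m3 b1' b2' (by omega) n6, S.phi_gen_self D m1 m2 m3,
            S.phi_gen_ne D m1 m2 m3 a1' a2' (by omega) (Ne.symm e1),
            S.phi_gen_ne D m1 m2 m3 a1 a2 (by omega) (Ne.symm e0), zero_add, zero_add, zero_add, S.add_self]
        · by_cases e3 : r = p0'
          · subst e3
            rw [S.phi_gen_self D m1 m2 m3, S.phi_gen_ne D m1 m2 m3 b1 b2 (by omega) (Ne.symm e2),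
              S.phi_gen_ne D m1 m2 m3 a1' a2' (by omega) (Ne.symm e1),
              S.phi_gen_ne D m1 m2 m3 a1 a2 (by omega) (Ne.symm e0), zero_add, zero_add, zero_add, S.add_self]
          · rw [S.phi_gen_ne D m1 m2 m3 b1' b2' (by omega) (Ne.symm e3),
              S.phi_gen_ne D m1 m2 m3 b1 b2 (by omega) (Ne.symm e2),
              S.phi_gen_ne D m1 m2 m3 a1' a2' (by omega) (Ne.symm e1),
              S.phi_gen_ne D m1 m2 m3 a1 a2 (by omega) (Ne.symm e0), zero_add, zero_add, zero_add, zero_add]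
            by_contra hne
            rcases hsupp r hr hne with h | h | h | h | h
            · exact e0 h
            · exact e1 h
            · exact e2 h
            · exact e3 h
            · exact hBr h
  obtain ⟨c, hcq⟩ := S.nf_support D hq2m (fun r => S.B r r0 = 0 ∧ S.B r r0' = 0) hsupp2
  generalize hL0 : List.filter _ (S.Lq T γ) = L0 at hcq
  set P := S.pr L0 (fun r => S.phi γ r q2) with hP
  have hL0mem : ∀ v ∈ L0, v ∈ S.Lq T γ ∧ S.B v r0 = 0 ∧ S.B v r0' = 0 := by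
    intro v hv
    rw [← hL0] at hv
    obtain ⟨h1, h2⟩ := List.mem_filter.mp hv
    exact ⟨h1, by simpa using h2⟩
  have hPm : P ∈ S.QT T γ := S.pr_mem_QT (fun v hv => (hL0mem v hv).1) _
  have hPsq : P * P = 1 := by
    apply S.pr_sq L0 (fun v hv => (S.mem_Lq.mp (hL0mem v hv).1).1)
    intro v hv w hw
    obtain ⟨hv1, hv0, -⟩ := hL0mem v hv
    obtain ⟨hw1, hw0, -⟩ := hL0mem w hw
    obtain ⟨m1, m2, m3⟩ := S.mem_Lq.mp hv1
    obtain ⟨k1, k2, k3⟩ := S.mem_Lq.mp hw1
    by_contra hneg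
    have hB' : S.B v w = -1 := by
      rcases S.B_cases v m1 w k1 with h' | h' | h' | h' | h'
      · rw [h', S.B_self v m1] at hneg; omega
      · rw [h', S.B_neg_left, m3] at k3; omega
      all_goals omega
    have hvw := S.add_mem v m1 w k1 hB'
    have := S.eq_of_B_eq_two D.mem hvw (by rw [S.B_symm, S.B_add_left, m3, k3]; rfl)
    have h2 : S.B (v + w) r0 = 0 := by rw [S.B_add_left, hv0, hw0]; rfl
    rw [this, Bγ0] at h2
    omega
  have hq2sq : q2 * q2 = 1 := by
    rw [hcq]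
    have := S.xγ_comm D hPm c
    calc P * S.x γ c * (P * S.x γ c) = P * (S.x γ c * P) * S.x γ c := by group
      _ = (P * P) * (S.x γ c * S.x γ c) := by rw [this]; group
      _ = 1 := by rw [hPsq, S.x_sq D.mem, mul_one]
  -- `q2` commutes with the four root elements
  have hcommq : ∀ (s : Vec l) (hs : s ∈ S.roots), 0 ≤ S.B s γ → (∀ v ∈ L0, 0 ≤ S.B s v) → ∀ b : F,
      q2 * S.x s b = S.x s b * q2 := by
    intro s hs hsγ hsv b
    rw [hcq]
    have e1 := S.x_comm_pr hs b L0 (fun v hv => ⟨(S.mem_Lq.mp (hL0mem v hv).1).1, hsv v hv⟩)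
      (fun r => S.phi γ r q2)
    have e2 := S.x_comm s hs γ D.mem hsγ b c
    rw [← hP] at e1
    calc P * S.x γ c * S.x s b = P * (S.x s b * S.x γ c) := by rw [mul_assoc, e2]
      _ = (S.x s b * P) * S.x γ c := by rw [e1]; group
      _ = S.x s b * (P * S.x γ c) := by group
  have qA := hcommq r0 a1 (by omega) (fun v hv => by rw [S.B_symm, (hL0mem v hv).2.1]) a
  have qA' := hcommq r0' a1' (by omega) (fun v hv => by rw [S.B_symm, (hL0mem v hv).2.2]) a'
  have qU := hcommq p0 b1 (by omega) (fun v hv => by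
    rw [S.B_symm, hp0def, S.B_sub_right, (hL0mem v hv).2.1, (S.mem_Lq.mp (hL0mem v hv).1).2.2]; omega) u
  have qU' := hcommq p0' b1' (by omega) (fun v hv => by
    rw [S.B_symm, hp0def', S.B_sub_right, (hL0mem v hv).2.2, (S.mem_Lq.mp (hL0mem v hv).1).2.2]; omega) u'
  -- the expression of `q`
  have hqe : q = S.x r0 a * (S.x r0' a' * (S.x p0 u * (S.x p0' u' * q2))) := by
    rw [hq2, ← mul_assoc (S.x p0' u'), S.x_sq b1', one_mul, ← mul_assoc (S.x p0 u), S.x_sq b1, one_mul,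
      ← mul_assoc (S.x r0' a'), S.x_sq a1', one_mul, ← mul_assoc, S.x_sq a1, one_mul]
  have hsum : r0 + p0 = γ := by rw [hp0def]; abel
  have hsum' : r0' + p0' = γ := by rw [hp0def']; abel
  have hUA := S.x_comm_add r0 a1 p0 b1 (by rw [S.B_symm]; exact Bp0r0) a u
  have hU'A' := S.x_comm_add r0' a1' p0' b1' (by rw [S.B_symm]; exact Bp0'r0') a' u'
  rw [hsum] at hUA
  rw [hsum'] at hU'A'
  have key := four_sq (S.x_sq a1 a) (S.x_sq a1' a') (S.x_sq b1 u) (S.x_sq b1' u') hq2sq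
    (S.x_comm r0 a1 r0' a1' (by omega) a a') (S.x_comm p0 b1 p0' b1' (by omega) u u')
    (S.x_comm r0 a1 p0' b1' (by rw [S.B_symm]; omega) a u') (S.x_comm r0' a1' p0 b1 (by rw [S.B_symm]; omega) a' u)
    hUA hU'A'
    (S.x_comm γ D.mem r0' a1' (by omega) (a * u) a') (S.x_comm γ D.mem p0 b1 (by rw [S.B_symm]; omega) (a * u) u)
    (S.x_comm γ D.mem p0' b1' (by rw [S.B_symm]; omega) (a * u) u')
    (S.x_comm γ D.mem p0 b1 (by rw [S.B_symm]; omega) (a' * u') u)
    (S.x_comm γ D.mem p0' b1' (by rw [S.B_symm]; omega) (a' * u') u')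
    qA qA' qU qU'
  rw [← hqe, hsq, ← S.x_add γ D.mem] at key
  exact S.x_inj γ D.mem _ key.symm

end SLSys

end Cfsg.Agent.Lib.Helper3.SLInv
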