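import Cfsg.Agent.Lib.Helper3.TwInv5
set_option autoImplicit false
set_option linter.unusedSectionVars false
set_option linter.unusedVariables false
set_option linter.unusedSimpArgs false

/-!
The clearing of the partners of a pair of roots exchanged by the symmetry.
-/

namespace Cfsg.Agent.Lib.Helper3.SLInv

namespace TwSys

variable {G : Type*} [Group G] {F : Type*} [Field F] {l : ℕ} {S : SLSys G F l} (W : TwSys S)
variable {T : List (Vec l)} {γ : Vec l}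

/-- a root of the radical with form `-1` on another one is its partner -/
theorem eq_partner (D : S.Dom T γ) {r r0 : Vec l} (hr : r ∈ S.Lq T γ) (hr0 : r0 ∈ S.Lq T γ)
    (h : S.B r r0 = -1) : r = γ - r0 := by
  obtain ⟨a1, a2, a3⟩ := S.mem_Lq.mp hr0
  obtain ⟨m1, m2, m3⟩ := S.mem_Lq.mp hr
  have hrs := S.add_mem r m1 r0 a1 h
  have := S.eq_of_B_eq_two D.mem hrs (by rw [S.B_symm, S.B_add_left, m3, a3]; rfl)
  rw [← this]; abel

/-- the possible positions of a root of the support after the clearing procedure -/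
theorem supp_cases (D : S.Dom T γ) (hT : W.StabL T) (hγ : W.ρ γ = γ) {Of : List (Vec l)} (hOfs : W.StabL Of)
    {r0 : Vec l} (hr0 : r0 ∈ S.Lq T γ)
    (hr0p : S.perp Of r0) {q : G} (hinv : ∀ r ∈ S.Lq T γ, S.phi γ r q ≠ 0 → r ∈ Of ∨ S.perp Of r)
    (hclr : ∀ r ∈ S.Lq T γ, W.Nb r0 r → S.phi γ r q = 0) {r : Vec l} (hr : r ∈ S.Lq T γ)
    (hne : S.phi γ r q ≠ 0) :
    r = r0 ∨ r = W.ρ r0 ∨ r = γ - r0 ∨ r = γ - W.ρ r0 ∨ (S.B r r0 = 0 ∧ S.B r (W.ρ r0) = 0) := by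
  have hr0' := W.mem_Lq_ρ hT hγ hr0
  obtain ⟨a1, a2, a3⟩ := S.mem_Lq.mp hr0
  obtain ⟨a1', a2', a3'⟩ := S.mem_Lq.mp hr0'
  obtain ⟨m1, m2, m3⟩ := S.mem_Lq.mp hr
  by_cases hmem : r ∈ Of
  · right; right; right; right
    have h1 := hr0p r hmem
    have h2 := W.perp_ρ hOfs hr0p r hmem
    rw [S.B_symm] at h1 h2
    exact ⟨h1, h2⟩
  · rcases S.B_cases' m1 a1 with h | h | h | h | h
    · exact Or.inl h
    · rw [h, S.B_neg_left, a3] at m3; omega
    · rcases S.B_cases' m1 a1' with h' | h' | h' | h' | h'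
      · exact Or.inr (Or.inl h')
      · rw [h', S.B_neg_left, a3'] at m3; omega
      · exact absurd (hclr r hr ⟨Or.inl h, by omega, by omega⟩) hne
      · exact absurd (hclr r hr ⟨Or.inl h, by omega, by omega⟩) hne
      · exact Or.inr (Or.inr (Or.inr (Or.inl (eq_partner D hr hr0' h'))))
    · rcases S.B_cases' m1 a1' with h' | h' | h' | h' | h'
      · exact Or.inr (Or.inl h')
      · rw [h', S.B_neg_left, a3'] at m3; omega
      · exact absurd (hclr r hr ⟨Or.inr h', by omega, by omega⟩) hne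
      · exact Or.inr (Or.inr (Or.inr (Or.inr ⟨h, h'⟩)))
      · exact Or.inr (Or.inr (Or.inr (Or.inl (eq_partner D hr hr0' h'))))
    · exact Or.inr (Or.inr (Or.inl (eq_partner D hr hr0 h)))

/-- the coordinates at the partners of a pair of roots exchanged by the symmetry are cleared -/
theorem clean_partner (D : S.Dom T γ) (hT : W.StabL T) (hγ : W.ρ γ = γ) {Of : List (Vec l)}
    (hOf : ∀ o ∈ Of, o ∈ S.Lq T γ) (hOfs : W.StabL Of)
    {r0 : Vec l} (hr0 : r0 ∈ S.Lq T γ) (hr0p : S.perp Of r0) (hρ0 : W.ρ r0 ≠ r0) {q : G}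
    (hq : W.QStσ T γ Of r0 q) (hsq : q * q = 1) (h0 : S.phi γ r0 q ≠ 0)
    (hclr : ∀ r ∈ S.Lq T γ, W.Nb r0 r → S.phi γ r q = 0) :
    ∃ g ∈ S.GT (γ :: T), W.σ g = g ∧ W.QStσ T γ Of r0 (g * q * g⁻¹) ∧
      S.phi γ r0 (g * q * g⁻¹) = S.phi γ r0 q ∧
      (∀ o ∈ Of, S.phi γ o (g * q * g⁻¹) = S.phi γ o q) ∧
      (∀ r ∈ S.Lq T γ, W.Nb r0 r → S.phi γ r (g * q * g⁻¹) = 0) ∧
      S.phi γ (γ - r0) (g * q * g⁻¹) = 0 ∧ S.phi γ (γ - W.ρ r0) (g * q * g⁻¹) = 0 := by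
  have hr0' := W.mem_Lq_ρ hT hγ hr0
  obtain ⟨a1, a2, a3⟩ := S.mem_Lq.mp hr0
  obtain ⟨a1', a2', a3'⟩ := S.mem_Lq.mp hr0'
  have hB : S.B r0 (W.ρ r0) = 0 := by
    rcases W.orb r0 a1 with e | e
    · exact absurd e hρ0
    · exact e
  have hB' : S.B (W.ρ r0) r0 = 0 := by rw [S.B_symm]; exact hB
  have hsupp := fun r (hr : r ∈ S.Lq T γ) (hne : S.phi γ r q ≠ 0) =>
    W.supp_cases D hT hγ hOfs hr0 hr0p hq.inv hclr hr hne
  have hrel := S.sq_pair D hr0 hr0' hB hq.mem hsq hsupp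
  have hp0 : γ - r0 ∈ S.Lq T γ := S.mem_Lq.mpr ⟨S.partner_mem D a1 a3, S.partner_perp D a2, S.partner_B D a1 a3⟩
  have hp0' : γ - W.ρ r0 ∈ S.Lq T γ :=
    S.mem_Lq.mpr ⟨S.partner_mem D a1' a3', S.partner_perp D a2', S.partner_B D a1' a3'⟩
  obtain ⟨b1, b2, b3⟩ := S.mem_Lq.mp hp0
  obtain ⟨b1', b2', b3'⟩ := S.mem_Lq.mp hp0'
  have hρp0 : W.ρ (γ - r0) = γ - W.ρ r0 := by rw [W.ρ_sub, hγ]
  have hρp0' : W.ρ (γ - W.ρ r0) = γ - r0 := by rw [W.ρ_sub, hγ, W.ρ_ρ]
  set p0 := γ - r0 with hp0def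
  set p0' := γ - W.ρ r0 with hp0def'
  set a := S.phi γ r0 q with ha
  set a' := S.phi γ (W.ρ r0) q with ha'
  set u := S.phi γ p0 q with hu
  set u' := S.phi γ p0' q with hu'
  have ea' : a' = W.φ a := W.phi_fix D hT hγ hr0 hq.mem hq.fix
  have eu' : u' = W.φ u := by
    have := W.phi_fix D hT hγ hp0 hq.mem hq.fix
    rw [hρp0] at this
    exact this
  have ha'0 : a' ≠ 0 := by
    rw [ea']
    intro h
    apply h0
    have := congrArg W.φ h
    rwa [W.φ_φ, map_zero] at this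
  have hrel' : a * u = a' * u' := by
    calc a * u = a * u + (a' * u' + a' * u') := by rw [S.add_self, add_zero]
      _ = (a * u + a' * u') + a' * u' := by ring
      _ = a' * u' := by rw [hrel, zero_add]
  -- the values of the form
  have Bγ0 : S.B γ r0 = 1 := by rw [S.B_symm]; exact a3
  have Bγ0' : S.B γ (W.ρ r0) = 1 := by rw [S.B_symm]; exact a3'
  have Bp0r0 : S.B p0 r0 = -1 := by rw [hp0def, S.B_sub_left, Bγ0, S.B_self r0 a1]; rfl
  have Bp0r0' : S.B p0 (W.ρ r0) = 1 := by rw [hp0def, S.B_sub_left, Bγ0', hB]; rfl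
  have Bp0'r0 : S.B p0' r0 = 1 := by rw [hp0def', S.B_sub_left, Bγ0, hB']; rfl
  have Bp0'r0' : S.B p0' (W.ρ r0) = -1 := by rw [hp0def', S.B_sub_left, Bγ0', S.B_self _ a1']; rfl
  have Bp0p0' : S.B p0 p0' = 0 := by rw [hp0def', S.B_sub_right, b3, Bp0r0']; rfl
  -- the root of the conjugating element
  set δ := p0' - r0 with hδdef
  have hδ : δ ∈ S.roots := S.sub_mem b1' a1 Bp0'r0
  have hδγ : S.B δ γ = 0 := by rw [hδdef, S.B_sub_left, a3, b3']; rfl
  have hδp : S.perp (γ :: T) δ := S.perp_cons.mpr ⟨hδγ, S.perp_sub b2' a2⟩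
  have hρδ : W.ρ δ = δ := by
    rw [hδdef, W.ρ_sub, hρp0', hp0def, hp0def']; abel
  have Bp0δ : S.B p0 δ = 1 := by
    rw [hδdef, S.B_sub_right, Bp0p0', Bp0r0]; rfl
  have Bp0'δ : S.B p0' δ = 1 := by
    rw [hδdef, S.B_sub_right, S.B_self p0' b1', Bp0'r0]; rfl
  set s := u' / a with hs
  have hsa : s * a = u' := by rw [hs, div_mul_cancel₀ _ h0]
  have hφs : W.φ s = s := by
    rw [hs, map_div₀, eu', W.φ_φ, ← ea', ← eu', div_eq_div_iff ha'0 h0, mul_comm u a, hrel', mul_comm]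
  set g := S.x δ s with hg
  have hgm : g ∈ S.GT (γ :: T) := S.x_mem_GT hδ hδp s
  have hgσ : W.σ g = g := by rw [hg, W.σ_x δ hδ, hρδ, hφs]
  have hform : ∀ r ∈ S.Lq T γ, S.phi γ r (g * q * g⁻¹) =
      S.phi γ r q + (if S.B r δ = 1 then s * S.phi γ (r - δ) q else 0) :=
    fun r hr => S.phi_conj_x D hδ hδp s hr hq.mem
  -- only the two partners change
  have E1 : ∀ r ∈ S.Lq T γ, S.B r δ = 1 → S.phi γ (r - δ) q ≠ 0 → r = p0' ∨ r = p0 := by
    intro r hr hBr hne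
    have hmem := S.sub_mem_Lq D hr hδ hδp hBr
    have hBs : S.B (r - δ) δ = -1 := by rw [S.B_sub_left, hBr, S.B_self δ hδ]; rfl
    rcases hsupp (r - δ) hmem hne with h | h | h | h | h
    · left
      have : r = r0 + δ := by rw [← h]; abel
      rw [this, hδdef]; abel
    · right
      have : r = W.ρ r0 + δ := by rw [← h]; abel
      rw [this, hδdef, hp0def', hp0def]; abel
    · rw [h, Bp0δ] at hBs; omega
    · rw [h, Bp0'δ] at hBs; omega
    · exfalso
      have hm3 := (S.mem_Lq.mp hmem).2.2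
      have : S.B (r - δ) δ = 1 := by
        rw [hδdef, hp0def', S.B_sub_right, S.B_sub_right, hm3, h.1, h.2]; rfl
      omega
  have E4 : ∀ r ∈ S.Lq T γ, r ≠ p0 → r ≠ p0' → S.phi γ r (g * q * g⁻¹) = S.phi γ r q := by
    intro r hr h1 h2
    rw [hform r hr]
    by_cases hBr : S.B r δ = 1
    · rw [if_pos hBr]
      have : S.phi γ (r - δ) q = 0 := by
        by_contra hne
        rcases E1 r hr hBr hne with e | e
        · exact h2 e
        · exact h1 e
      rw [this, mul_zero, add_zero]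
    · rw [if_neg hBr, add_zero]
  have hmem : g * q * g⁻¹ ∈ S.QT T γ := S.conj_QT_mem hgm hq.mem
  have hfix : W.σ (g * q * g⁻¹) = g * q * g⁻¹ := by
    rw [map_mul, map_mul, map_inv, hgσ, hq.fix]
  have E2 : S.phi γ p0' (g * q * g⁻¹) = 0 := by
    have e : p0' - δ = r0 := by rw [hδdef]; abel
    rw [hform p0' hp0', if_pos Bp0'δ, e, hsa, S.add_self]
  have E3 : S.phi γ p0 (g * q * g⁻¹) = 0 := by
    have := W.phi_fix D hT hγ hp0' hmem hfix
    rw [hρp0', E2, map_zero] at this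
    exact this
  have hsub : ∀ r ∈ S.Lq T γ, S.phi γ r (g * q * g⁻¹) ≠ 0 →
      S.phi γ r (g * q * g⁻¹) = S.phi γ r q := by
    intro r hr hne
    apply E4 r hr
    · intro e; rw [e] at hne; exact hne E3
    · intro e; rw [e] at hne; exact hne E2
  refine ⟨g, hgm, hgσ, ⟨hmem, hfix, ?_, ?_⟩, ?_, ?_, ?_, E3, E2⟩
  · intro r hr hne
    exact hq.inv r hr (by rw [← hsub r hr hne]; exact hne)
  · intro r hr hrp hne
    exact hq.mink r hr hrp (by rw [← hsub r hr hne]; exact hne)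
  · apply E4 r0 hr0
    · intro e; rw [← e, S.B_self r0 a1] at Bp0r0; omega
    · intro e; rw [← e, S.B_self r0 a1] at Bp0'r0; omega
  · intro o ho
    apply E4 o (hOf o ho)
    · intro e
      have := hr0p o ho
      rw [e, S.B_symm, Bp0r0] at this; omega
    · intro e
      have := hr0p o ho
      rw [e, S.B_symm, Bp0'r0] at this; omega
  · intro r hr hN
    rw [E4 r hr ?_ ?_]
    · exact hclr r hr hN
    · intro e; rw [e] at hN; exact hN.2.1 Bp0r0
    · intro e; rw [e] at hN; exact hN.2.2 Bp0'r0'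

end TwSys

end Cfsg.Agent.Lib.Helper3.SLInv
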