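import Cfsg.Agent.Lib.Helper3.TwInv6
set_option autoImplicit false
set_option linter.unusedSectionVars false
set_option linter.unusedVariables false
set_option linter.unusedSimpArgs false

/-!
Involutions of the radical fixed by the twisting map: conjugation, under fixed elements, to an element supported
on a stable list of orthogonal roots.
-/

namespace Cfsg.Agent.Lib.Helper3.SLInv

namespace TwSys

variable {G : Type*} [Group G] {F : Type*} [Field F] {l : ℕ} {S : SLSys G F l} (W : TwSys S)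
variable {T : List (Vec l)} {γ : Vec l}

open Classical in
theorem mu_cons_le (a : Vec l) (Of : List (Vec l)) : S.mu T γ (a :: Of) ≤ S.mu T γ Of := by
  unfold SLSys.mu
  have hsub : ((S.Lq T γ).filter fun r => decide (S.perp (a :: Of) r)) =
      (((S.Lq T γ).filter fun r => decide (S.perp Of r)).filter fun r => decide (S.B r a = 0)) := by
    rw [List.filter_filter]
    apply List.filter_congr
    intro r _
    simp only [S.perp_cons, Bool.decide_and, Bool.and_comm]
  rw [hsub]
  exact List.length_filter_le _ _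

open Classical in
theorem mu_cons_lt {r0 : Vec l} (hr0 : r0 ∈ S.Lq T γ) {Of : List (Vec l)} (hr0p : S.perp Of r0) :
    S.mu T γ (r0 :: Of) < S.mu T γ Of := by
  unfold SLSys.mu
  have hsub : ((S.Lq T γ).filter fun r => decide (S.perp (r0 :: Of) r)) =
      (((S.Lq T γ).filter fun r => decide (S.perp Of r)).filter fun r => decide (S.B r r0 = 0)) := by
    rw [List.filter_filter]
    apply List.filter_congr
    intro r _
    simp only [S.perp_cons, Bool.decide_and, Bool.and_comm]
  rw [hsub]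
  apply List.length_filter_lt_length_iff_exists.mpr
  refine ⟨r0, List.mem_filter.mpr ⟨hr0, by simpa using hr0p⟩, ?_⟩
  rw [S.B_self r0 (S.mem_Lq.mp hr0).1]
  simp

theorem φ_ne_zero {a : F} (h : a ≠ 0) : W.φ a ≠ 0 := by
  intro e
  apply h
  have := congrArg W.φ e
  rwa [W.φ_φ, map_zero] at this

open Classical in
/-- the recursion accumulating a stable orthogonal support -/
theorem qp_recσ (D : S.Dom T γ) (hT : W.StabL T) (hγ : W.ρ γ = γ) : ∀ (n : ℕ) (Of : List (Vec l)) (q : G),
    (∀ o ∈ Of, o ∈ S.Lq T γ) → S.Orth Of → W.StabL Of → q ∈ S.QT T γ → W.σ q = q → q * q = 1 →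
    (∀ o ∈ Of, S.phi γ o q ≠ 0) →
    (∀ r ∈ S.Lq T γ, S.phi γ r q ≠ 0 → r ∈ Of ∨ S.perp Of r) → S.mu T γ Of = n →
    ∃ g ∈ S.GT (γ :: T), W.σ g = g ∧ ∃ Of' : List (Vec l), (∀ o ∈ Of', o ∈ S.Lq T γ) ∧ S.Orth Of' ∧
      W.StabL Of' ∧ (∀ o ∈ Of', S.phi γ o (g * q * g⁻¹) ≠ 0) ∧
      (∀ r ∈ S.Lq T γ, S.phi γ r (g * q * g⁻¹) ≠ 0 → r ∈ Of') := by
  intro n
  induction n using Nat.strong_induction_on with
  | _ n ih =>
    intro Of q hOf hOrth hOfs hq hσq hsq hI0 hI1 hn
    by_cases hex : ∃ r ∈ S.Lq T γ, S.perp Of r ∧ S.phi γ r q ≠ 0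
    · -- choose such a root of least height
      set cands := ((S.Lq T γ).filter fun r => decide (S.perp Of r ∧ S.phi γ r q ≠ 0)).toFinset with hcands
      have hne : cands.Nonempty := by
        obtain ⟨r, hr, h1, h2⟩ := hex
        exact ⟨r, by rw [hcands, List.mem_toFinset, List.mem_filter]; exact ⟨hr, by simpa using ⟨h1, h2⟩⟩⟩
      obtain ⟨r0, hr0c, hmin⟩ := Finset.exists_min_image cands W.K hne
      rw [hcands, List.mem_toFinset, List.mem_filter] at hr0c
      obtain ⟨hr0, hr0'⟩ := hr0c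
      have hr0p : S.perp Of r0 := (by simpa using hr0' : _ ∧ _).1
      have h0 : S.phi γ r0 q ≠ 0 := (by simpa using hr0' : _ ∧ _).2
      obtain ⟨a1, a2, a3⟩ := S.mem_Lq.mp hr0
      have hst : W.QStσ T γ Of r0 q := by
        refine ⟨hq, hσq, hI1, ?_⟩
        intro r hr hrp hne
        apply hmin
        rw [hcands, List.mem_toFinset, List.mem_filter]
        exact ⟨hr, by simpa using ⟨hrp, hne⟩⟩
      obtain ⟨g1, hg1, hgσ1, hst1, e0, eOf, hclr⟩ := W.clean_allσ D hT hγ hOf hOfs hr0 hr0p hst h0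
      set q1 := g1 * q * g1⁻¹ with hq1
      have hsq1 : q1 * q1 = 1 := SLSys.conj_sq hsq
      have h01 : S.phi γ r0 q1 ≠ 0 := by rw [e0]; exact h0
      by_cases hρ0 : W.ρ r0 = r0
      · -- a fixed root
        have hclr' : ∀ r ∈ S.Lq T γ, S.B r r0 = 1 → S.phi γ r q1 = 0 := by
          intro r hr hB
          exact hclr r hr ⟨Or.inl hB, by omega, by rw [hρ0]; omega⟩
        have hp0 := S.sq_zero D hr0 hst1.mem hsq1 h01 hclr'
        have hOf1 : ∀ o ∈ r0 :: Of, o ∈ S.Lq T γ := by
          intro o ho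
          rcases List.mem_cons.mp ho with h | h
          · rw [h]; exact hr0
          · exact hOf o h
        have hOrth1 : S.Orth (r0 :: Of) := by
          refine ⟨fun o ho => (S.mem_Lq.mp (hOf1 o ho)).1, List.pairwise_cons.mpr ⟨?_, hOrth.2⟩⟩
          intro o ho
          exact hr0p o ho
        have hOfs1 : W.StabL (r0 :: Of) := W.stabL_cons hρ0 hOfs
        have hI01 : ∀ o ∈ r0 :: Of, S.phi γ o q1 ≠ 0 := by
          intro o ho
          rcases List.mem_cons.mp ho with h | h
          · rw [h]; exact h01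
          · rw [eOf o h]; exact hI0 o h
        have hI11 : ∀ r ∈ S.Lq T γ, S.phi γ r q1 ≠ 0 → r ∈ r0 :: Of ∨ S.perp (r0 :: Of) r := by
          intro r hr hne
          rcases hst1.inv r hr hne with h | h
          · exact Or.inl (List.mem_cons_of_mem _ h)
          · rcases W.supp_cases D hT hγ hOfs hr0 hr0p hst1.inv hclr hr hne with h' | h' | h' | h' | h'
            · left; rw [h']; exact List.mem_cons_self
            · left; rw [h', hρ0]; exact List.mem_cons_self
            · rw [h'] at hne; exact absurd hp0 hne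
            · rw [h', hρ0] at hne; exact absurd hp0 hne
            · right; exact S.perp_cons.mpr ⟨h'.1, h⟩
        have hlt : S.mu T γ (r0 :: Of) < n := by rw [← hn]; exact mu_cons_lt hr0 hr0p
        obtain ⟨g2, hg2, hgσ2, Of', h1, h2, h2s, h3, h4⟩ :=
          ih _ hlt (r0 :: Of) q1 hOf1 hOrth1 hOfs1 hst1.mem hst1.fix hsq1 hI01 hI11 rfl
        rw [hq1, SLSys.conj_conj] at h3 h4
        exact ⟨g2 * g1, Subgroup.mul_mem _ hg2 hg1, by rw [map_mul, hgσ2, hgσ1], Of', h1, h2, h2s, h3, h4⟩
      · -- a pair of roots exchanged by the symmetry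
        obtain ⟨g1', hg1', hgσ1', hst2, e0', eOf', hclr2, hz1, hz2⟩ :=
          W.clean_partner D hT hγ hOf hOfs hr0 hr0p hρ0 hst1 hsq1 h01 hclr
        set q2 := g1' * q1 * g1'⁻¹ with hq2
        have hsq2 : q2 * q2 = 1 := SLSys.conj_sq hsq1
        have h02 : S.phi γ r0 q2 ≠ 0 := by rw [e0']; exact h01
        have hr0ρ := W.mem_Lq_ρ hT hγ hr0
        have hr0ρp : S.perp Of (W.ρ r0) := W.perp_ρ hOfs hr0p
        have hB : S.B r0 (W.ρ r0) = 0 := by
          rcases W.orb r0 a1 with e | e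
          · exact absurd e hρ0
          · exact e
        have h02' : S.phi γ (W.ρ r0) q2 ≠ 0 := by
          rw [W.phi_fix D hT hγ hr0 hst2.mem hst2.fix]
          exact W.φ_ne_zero h02
        have hOf1 : ∀ o ∈ r0 :: W.ρ r0 :: Of, o ∈ S.Lq T γ := by
          intro o ho
          rcases List.mem_cons.mp ho with h | h
          · rw [h]; exact hr0
          · rcases List.mem_cons.mp h with h | h
            · rw [h]; exact hr0ρ
            · exact hOf o h
        have hOrth1 : S.Orth (r0 :: W.ρ r0 :: Of) := by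
          refine ⟨fun o ho => (S.mem_Lq.mp (hOf1 o ho)).1,
            List.pairwise_cons.mpr ⟨?_, List.pairwise_cons.mpr ⟨?_, hOrth.2⟩⟩⟩
          · intro o ho
            rcases List.mem_cons.mp ho with h | h
            · rw [h]; exact hB
            · exact hr0p o h
          · intro o ho
            exact hr0ρp o ho
        have hOfs1 : W.StabL (r0 :: W.ρ r0 :: Of) := by
          intro t ht
          rcases List.mem_cons.mp ht with h | h
          · rw [h]; exact List.mem_cons_of_mem _ List.mem_cons_self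
          · rcases List.mem_cons.mp h with h | h
            · rw [h, W.ρ_ρ]; exact List.mem_cons_self
            · exact List.mem_cons_of_mem _ (List.mem_cons_of_mem _ (hOfs t h))
        have hI01 : ∀ o ∈ r0 :: W.ρ r0 :: Of, S.phi γ o q2 ≠ 0 := by
          intro o ho
          rcases List.mem_cons.mp ho with h | h
          · rw [h]; exact h02
          · rcases List.mem_cons.mp h with h | h
            · rw [h]; exact h02'
            · rw [eOf' o h, eOf o h]; exact hI0 o h
        have hI11 : ∀ r ∈ S.Lq T γ, S.phi γ r q2 ≠ 0 →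
            r ∈ r0 :: W.ρ r0 :: Of ∨ S.perp (r0 :: W.ρ r0 :: Of) r := by
          intro r hr hne
          rcases hst2.inv r hr hne with h | h
          · exact Or.inl (List.mem_cons_of_mem _ (List.mem_cons_of_mem _ h))
          · rcases W.supp_cases D hT hγ hOfs hr0 hr0p hst2.inv hclr2 hr hne with h' | h' | h' | h' | h'
            · left; rw [h']; exact List.mem_cons_self
            · left; rw [h']; exact List.mem_cons_of_mem _ List.mem_cons_self
            · rw [h'] at hne; exact absurd hz1 hne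
            · rw [h'] at hne; exact absurd hz2 hne
            · right; exact S.perp_cons.mpr ⟨h'.1, S.perp_cons.mpr ⟨h'.2, h⟩⟩
        have hlt : S.mu T γ (r0 :: W.ρ r0 :: Of) < n := by
          rw [← hn]
          have hp1 : S.perp (W.ρ r0 :: Of) r0 := S.perp_cons.mpr ⟨hB, hr0p⟩
          exact lt_of_lt_of_le (mu_cons_lt hr0 hp1) (mu_cons_le _ _)
        obtain ⟨g2, hg2, hgσ2, Of', h1, h2, h2s, h3, h4⟩ :=
          ih _ hlt (r0 :: W.ρ r0 :: Of) q2 hOf1 hOrth1 hOfs1 hst2.mem hst2.fix hsq2 hI01 hI11 rfl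
        rw [hq2, SLSys.conj_conj, hq1, SLSys.conj_conj] at h3 h4
        exact ⟨g2 * g1' * g1, Subgroup.mul_mem _ (Subgroup.mul_mem _ hg2 hg1') hg1,
          by rw [map_mul, map_mul, hgσ2, hgσ1', hgσ1], Of', h1, h2, h2s, h3, h4⟩
    · refine ⟨1, Subgroup.one_mem _, map_one _, Of, hOf, hOrth, hOfs, by simpa using hI0, ?_⟩
      intro r hr hne
      have hne' : S.phi γ r q ≠ 0 := by simpa using hne
      rcases hI1 r hr hne' with h | h
      · exact h
      · exact absurd ⟨r, hr, h, hne'⟩ hex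

open Classical in
/-- a fixed involution of the radical is conjugate, under a fixed element, to a product over a stable orthogonal
list times a central element -/
theorem qp_formσ (D : S.Dom T γ) (hT : W.StabL T) (hγ : W.ρ γ = γ) {q : G} (hq : q ∈ S.QT T γ)
    (hσq : W.σ q = q) (hsq : q * q = 1) :
    ∃ g ∈ S.GT (γ :: T), W.σ g = g ∧ ∃ (L : List (Vec l)) (t : Vec l → F) (c : F),
      (∀ o ∈ L, o ∈ S.Lq T γ) ∧ S.Orth L ∧ W.StabL L ∧ (∀ o ∈ L, t o ≠ 0) ∧
      (∀ o ∈ L, t (W.ρ o) = W.φ (t o)) ∧ g * q * g⁻¹ = S.pr L t * S.x γ c := by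
  obtain ⟨g, hg, hgσ, Of', h1, h2, h2s, h3, h4⟩ := W.qp_recσ D hT hγ _ [] q
    (fun _ h => absurd h List.not_mem_nil) (SLSys.Orth.nil S) W.stabL_nil hq hσq hsq
    (fun _ h => absurd h List.not_mem_nil) (fun r _ _ => Or.inr (S.perp_nil r)) rfl
  have hq' : g * q * g⁻¹ ∈ S.QT T γ := S.conj_QT_mem hg hq
  have hfix : W.σ (g * q * g⁻¹) = g * q * g⁻¹ := by rw [map_mul, map_mul, map_inv, hgσ, hσq]
  obtain ⟨c, hc⟩ := S.nf_support D hq' (fun r => r ∈ Of') (fun r hr hne => by
    by_contra h
    exact hne (h4 r hr h))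
  generalize hL : List.filter _ (S.Lq T γ) = L at hc
  have hLmem : ∀ o ∈ L, o ∈ S.Lq T γ ∧ o ∈ Of' := by
    intro o ho
    rw [← hL] at ho
    obtain ⟨k1, k2⟩ := List.mem_filter.mp ho
    exact ⟨k1, by simpa using k2⟩
  have hLmem' : ∀ o, o ∈ S.Lq T γ → o ∈ Of' → o ∈ L := by
    intro o h1 h2
    rw [← hL]
    exact List.mem_filter.mpr ⟨h1, by simpa using h2⟩
  have hnd : L.Nodup := by rw [← hL]; exact S.nodup_Lq.filter _
  refine ⟨g, hg, hgσ, L, _, c, fun o ho => (hLmem o ho).1, ⟨fun o ho => (S.mem_Lq.mp (hLmem o ho).1).1, ?_⟩,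
    ?_, fun o ho => h3 o (hLmem o ho).2, ?_, hc⟩
  · apply hnd.pairwise_of_forall_ne
    intro a ha b hb hab
    exact S.orth_ne h2 (hLmem a ha).2 (hLmem b hb).2 hab
  · intro o ho
    exact hLmem' _ (W.mem_Lq_ρ hT hγ (hLmem o ho).1) (h2s o (hLmem o ho).2)
  · intro o ho
    exact W.phi_fix D hT hγ (hLmem o ho).1 hq' hfix

end TwSys

end Cfsg.Agent.Lib.Helper3.SLInv
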