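import Cfsg.Agent.Lib.Helper3.TwInv7
set_option autoImplicit false
set_option linter.unusedSectionVars false
set_option linter.unusedVariables false
set_option linter.unusedSimpArgs false

/-!
Involutions of the radical fixed by the twisting map are conjugate, under fixed elements, to products of root
elements over stable lists of orthogonal roots.
-/

namespace Cfsg.Agent.Lib.Helper3.SLInv

namespace SLSys

variable {G : Type*} [Group G] {F : Type*} [Field F] {l : ℕ} (S : SLSys G F l)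
variable {T : List (Vec l)} {γ : Vec l}

theorem sq_inj (S : SLSys G F l) {a b : F} (h : a * a = b * b) : a = b := by
  have h2 : (a + b) * (a + b) = 0 := by
    have e : (a + b) * (a + b) = a * a + b * b + (a * b + a * b) := by ring
    rw [e, S.add_self, add_zero, h, S.add_self]
  have h3 : a + b = 0 := by
    rcases mul_eq_zero.mp h2 with h | h <;> exact h
  calc a = a + (b + b) := by rw [S.add_self, add_zero]
    _ = (a + b) + b := by ring
    _ = b := by rw [h3, zero_add]

/-- a product of diagonal elements -/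
def hs (lam : Vec l → F) (L : List (Vec l)) : G := (L.map fun o => S.h o (lam o)).prod

theorem hs_nil (lam : Vec l → F) : S.hs lam [] = 1 := rfl

theorem hs_cons (lam : Vec l → F) (o : Vec l) (L : List (Vec l)) :
    S.hs lam (o :: L) = S.h o (lam o) * S.hs lam L := by
  simp [hs]

/-- the exponent product -/
def pe (lam : Vec l → F) (L : List (Vec l)) (v : Vec l) : F := (L.map fun o => lam o ^ (S.B v o)).prod

theorem pe_nil (lam : Vec l → F) (v : Vec l) : S.pe lam [] v = 1 := rfl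

theorem pe_cons (lam : Vec l → F) (o : Vec l) (L : List (Vec l)) (v : Vec l) :
    S.pe lam (o :: L) v = lam o ^ (S.B v o) * S.pe lam L v := by
  simp [pe]

theorem hs_conj (lam : Vec l → F) : ∀ (L : List (Vec l)), (∀ o ∈ L, o ∈ S.roots ∧ lam o ≠ 0) →
    ∀ v ∈ S.roots, ∀ a : F, S.hs lam L * S.x v a * (S.hs lam L)⁻¹ = S.x v (S.pe lam L v * a) := by
  intro L
  induction L with
  | nil =>
    intro _ v _ a
    rw [S.hs_nil, S.pe_nil, one_mul]; group
  | cons o L ih =>
    intro hL v hv a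
    obtain ⟨ho, hlo⟩ := hL o List.mem_cons_self
    rw [S.hs_cons, S.pe_cons, ← conj_conj, ih (fun w hw => hL w (List.mem_cons_of_mem _ hw)) v hv a,
      S.h_conj o ho (lam o) hlo v hv, mul_assoc]

theorem pe_of_perp (lam : Vec l → F) : ∀ (L : List (Vec l)) (v : Vec l), (∀ o ∈ L, S.B v o = 0) →
    S.pe lam L v = 1 := by
  intro L
  induction L with
  | nil => intro v _; exact S.pe_nil lam v
  | cons o L ih =>
    intro v h
    rw [S.pe_cons, h o List.mem_cons_self, zpow_zero, one_mul,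
      ih v (fun w hw => h w (List.mem_cons_of_mem _ hw))]

theorem pe_of_mem (lam : Vec l → F) : ∀ (L : List (Vec l)), S.Orth L → ∀ v ∈ L,
    S.pe lam L v = lam v * lam v := by
  intro L
  induction L with
  | nil => intro _ v hv; exact absurd hv List.not_mem_nil
  | cons o L ih =>
    intro hO v hv
    rw [S.pe_cons]
    rcases List.mem_cons.mp hv with h | h
    · subst h
      rw [S.B_self v (hO.head S), zpow_two, S.pe_of_perp lam L v (fun w hw => hO.head_perp S w hw), mul_one]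
    · have hB : S.B v o = 0 := by rw [S.B_symm]; exact hO.head_perp S v h
      rw [hB, zpow_zero, one_mul, ih (hO.tail S) v h]

theorem conj_pr' {g : G} {L : List (Vec l)} {t t' : Vec l → F}
    (h : ∀ v ∈ L, g * S.x v (t v) * g⁻¹ = S.x v (t' v)) :
    g * S.pr L t * g⁻¹ = S.pr L t' := by
  induction L with
  | nil => rw [S.pr_nil, S.pr_nil]; group
  | cons v L ih =>
    rw [S.pr_cons, S.pr_cons, conj_mul_conj, h v List.mem_cons_self,
      ih fun w hw => h w (List.mem_cons_of_mem _ hw)]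

theorem hs_mem_GT (lam : Vec l → F) : ∀ (L : List (Vec l)),
    (∀ o ∈ L, o ∈ S.roots ∧ S.perp T o ∧ lam o ≠ 0) → S.hs lam L ∈ S.GT T := by
  intro L
  induction L with
  | nil => intro _; exact Subgroup.one_mem _
  | cons o L ih =>
    intro h
    rw [S.hs_cons]
    obtain ⟨h1, h2, h3⟩ := h o List.mem_cons_self
    exact Subgroup.mul_mem _ (S.h_mem_GT h1 h2 h3) (ih fun w hw => h w (List.mem_cons_of_mem _ hw))

/-- conjugating a product over an orthogonal list of roots of the radical by a partner root element -/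
theorem absorb (D : S.Dom T γ) {L : List (Vec l)} (hL : ∀ o ∈ L, o ∈ S.Lq T γ) (hO : S.Orth L)
    {o : Vec l} (ho : o ∈ L) (b c : F) :
    S.x (γ - o) b * (S.xs L * S.x γ c) * (S.x (γ - o) b)⁻¹ = S.xs L * S.x γ (c + b) := by
  have hxs : S.xs L ∈ S.QT T γ := by
    rw [S.xs_eq_pr]
    exact S.pr_mem_QT hL _
  have hq : S.xs L * S.x γ c ∈ S.QT T γ := Subgroup.mul_mem _ hxs (S.xγ_mem_QT D c)
  obtain ⟨m1, m2, m3⟩ := S.mem_Lq.mp (hL o ho)
  have hphi : S.phi γ o (S.xs L * S.x γ c) = 1 := by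
    rw [S.phi_mul D m1 m2 m3 hxs (S.xγ_mem_QT D c), S.phi_xγ D (hL o ho), add_zero, S.xs_eq_pr,
      S.phi_pr D (hL o ho) L hL (hO.nodup S), if_pos ho]
  have h := S.phi_scaled D (hL o ho) b hq
  rw [hphi, mul_one] at h
  have h2 : S.x (γ - o) b * (S.xs L * S.x γ c) * (S.x (γ - o) b)⁻¹ = S.x γ b * (S.xs L * S.x γ c) := by
    rw [← h]; group
  rw [h2, S.xγ_comm D hq, mul_assoc, ← S.x_add γ D.mem]

end SLSys

namespace TwSys

variable {G : Type*} [Group G] {F : Type*} [Field F] {l : ℕ} {S : SLSys G F l} (W : TwSys S)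
variable {T : List (Vec l)} {γ : Vec l}

theorem orth_map_ρ {O : List (Vec l)} (hO : S.Orth O) : S.Orth (O.map W.ρ) := by
  refine ⟨?_, ?_⟩
  · intro β hβ
    obtain ⟨b, hb, rfl⟩ := List.mem_map.mp hβ
    exact W.ρ_mem b (hO.1 b hb)
  · rw [List.pairwise_map]
    refine hO.2.imp ?_
    intro a b hab
    rw [W.B_ρ, hab]

theorem σ_xs : ∀ {O : List (Vec l)}, (∀ o ∈ O, o ∈ S.roots) → W.σ (S.xs O) = S.xs (O.map W.ρ) := by
  intro O
  induction O with
  | nil => intro _; rw [S.xs_nil, map_one, List.map_nil, S.xs_nil]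
  | cons o O ih =>
    intro h
    rw [S.xs_cons, map_mul, W.σ_x o (h o List.mem_cons_self), map_one, List.map_cons, S.xs_cons,
      ih fun w hw => h w (List.mem_cons_of_mem _ hw)]

/-- the product of the root elements over a stable orthogonal list is fixed -/
theorem σ_xs_fix {O : List (Vec l)} (hO : S.Orth O) (hOs : W.StabL O) : W.σ (S.xs O) = S.xs O := by
  rw [W.σ_xs hO.1]
  exact S.xs_perm (W.orth_map_ρ hO) (W.map_ρ_perm (hO.nodup S) hOs)

theorem σ_n {β : Vec l} (hβ : β ∈ S.roots) : W.σ (S.n β) = S.n (W.ρ β) := by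
  unfold SLSys.n
  rw [map_mul, map_mul, W.σ_x β hβ, W.σ_x _ (S.neg_mem β hβ), map_one, W.ρ_neg]

theorem σ_ns : ∀ {O : List (Vec l)}, (∀ o ∈ O, o ∈ S.roots) → W.σ (S.ns O) = S.ns (O.map W.ρ) := by
  intro O
  induction O with
  | nil => intro _; rw [S.ns_nil, map_one, List.map_nil, S.ns_nil]
  | cons o O ih =>
    intro h
    rw [S.ns_cons, map_mul, W.σ_n (h o List.mem_cons_self), List.map_cons, S.ns_cons,
      ih fun w hw => h w (List.mem_cons_of_mem _ hw)]

open Classical in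
/-- scaling the parameters to one by a fixed diagonal element -/
theorem scaleσ (D : S.Dom T γ) (hT : W.StabL T) (hγ : W.ρ γ = γ) {L : List (Vec l)}
    (hL : ∀ o ∈ L, o ∈ S.Lq T γ) (hO : S.Orth L) (hLs : W.StabL L) (t : Vec l → F) (ht : ∀ o ∈ L, t o ≠ 0)
    (hts : ∀ o ∈ L, t (W.ρ o) = W.φ (t o)) (c : F) :
    ∃ g ∈ S.GT T, W.σ g = g ∧ ∃ c' : F, g * (S.pr L t * S.x γ c) * g⁻¹ = S.xs L * S.x γ c' := by
  set lam : Vec l → F := fun o => Classical.choose (S.sq_surj (t o)⁻¹) with hlam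
  have hlam2 : ∀ o, lam o * lam o = (t o)⁻¹ := fun o => Classical.choose_spec (S.sq_surj (t o)⁻¹)
  have hlam0 : ∀ o ∈ L, lam o ≠ 0 := by
    intro o ho e
    have := hlam2 o
    rw [e, mul_zero] at this
    exact ht o ho (inv_eq_zero.mp this.symm)
  have hlamρ : ∀ o ∈ L, W.φ (lam o) = lam (W.ρ o) := by
    intro o ho
    apply S.sq_inj
    rw [← map_mul, hlam2, hlam2, hts o ho, map_inv₀]
  have hLr : ∀ o ∈ L, o ∈ S.roots ∧ lam o ≠ 0 := fun o ho => ⟨(S.mem_Lq.mp (hL o ho)).1, hlam0 o ho⟩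
  set g := S.hs lam L with hg
  have hgm : g ∈ S.GT T :=
    S.hs_mem_GT lam L (fun o ho => ⟨(S.mem_Lq.mp (hL o ho)).1, (S.mem_Lq.mp (hL o ho)).2.1, hlam0 o ho⟩)
  -- the element is fixed
  have hgσ : W.σ g = g := by
    have e1 : W.σ g = S.hs lam (L.map W.ρ) := by
      rw [hg]
      unfold SLSys.hs
      rw [map_list_prod, List.map_map, List.map_map]
      congr 1
      apply List.map_congr_left
      intro o ho
      simp only [Function.comp]
      rw [W.σ_h o (hLr o ho).1 _ (hLr o ho).2, hlamρ o ho]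
    rw [e1]
    unfold SLSys.hs
    have hperm := (W.map_ρ_perm (hO.nodup S) hLs).map (fun o => S.h o (lam o))
    apply hperm.prod_eq'
    apply List.pairwise_of_forall_mem_list
    intro a ha b hb
    obtain ⟨o1, ho1, rfl⟩ := List.mem_map.mp ha
    obtain ⟨o2, ho2, rfl⟩ := List.mem_map.mp hb
    obtain ⟨p1, hp1, rfl⟩ := List.mem_map.mp ho1
    obtain ⟨p2, hp2, rfl⟩ := List.mem_map.mp ho2
    have q1 := hLs p1 hp1
    have q2 := hLs p2 hp2
    exact W.h_comm _ (hLr _ q1).1 _ (hLr _ q2).1 _ _ (hLr _ q1).2 (hLr _ q2).2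
  refine ⟨g, hgm, hgσ, S.pe lam L γ * c, ?_⟩
  rw [conj_mul_conj, S.hs_conj lam L hLr γ D.mem c, S.xs_eq_pr]
  congr 1
  apply S.conj_pr'
  intro v hv
  rw [S.hs_conj lam L hLr v (hLr v hv).1, S.pe_of_mem lam L hO v hv, hlam2, inv_mul_cancel₀ (ht v hv)]

/-- fixed involutions of the radical are conjugate, under fixed elements, to products of root elements over
stable lists of pairwise orthogonal roots -/
theorem QPσ (D : S.Dom T γ) (hT : W.StabL T) (hγ : W.ρ γ = γ) {q : G} (hq : q ∈ S.QT T γ)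
    (hσq : W.σ q = q) (hsq : q * q = 1) :
    ∃ g ∈ S.GT T, W.σ g = g ∧ ∃ O : List (Vec l), (∀ o ∈ O, o ∈ S.roots ∧ S.perp T o) ∧ S.Orth O ∧
      W.StabL O ∧ g * q * g⁻¹ = S.xs O := by
  obtain ⟨g1, hg1, hgσ1, L, t, c, hL, hOrth, hLs, ht, hts, e1⟩ := W.qp_formσ D hT hγ hq hσq hsq
  obtain ⟨g2, hg2, hgσ2, c', e2⟩ := W.scaleσ D hT hγ hL hOrth hLs t ht hts c
  have hg1' : g1 ∈ S.GT T := S.GT_cons_le T γ hg1
  rw [← e1, SLSys.conj_conj] at e2
  have hg21 := Subgroup.mul_mem _ hg2 hg1'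
  have hgσ21 : W.σ (g2 * g1) = g2 * g1 := by rw [map_mul, hgσ2, hgσ1]
  -- the central parameter is fixed
  have hc' : W.φ c' = c' := by
    have h1 : W.σ (S.xs L * S.x γ c') = S.xs L * S.x γ c' := by
      rw [← e2, map_mul, map_mul, map_inv, hgσ21, hσq]
    rw [map_mul, W.σ_xs_fix hOrth hLs, W.σ_x γ D.mem, hγ] at h1
    exact S.x_injective D.mem (mul_left_cancel h1)
  cases L with
  | nil =>
    rw [S.xs_nil, one_mul] at e2
    by_cases hc : c' = 0
    · refine ⟨g2 * g1, hg21, hgσ21, [], fun _ h => absurd h List.not_mem_nil, SLSys.Orth.nil S, W.stabL_nil, ?_⟩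
      rw [e2, hc, S.x_zero D.mem, S.xs_nil]
    · obtain ⟨lam, hlam⟩ := S.sq_surj c'⁻¹
      have hlam0 : lam ≠ 0 := by
        intro e
        rw [e, mul_zero] at hlam
        exact hc (inv_eq_zero.mp hlam.symm)
      have hφlam : W.φ lam = lam := by
        apply S.sq_inj
        rw [← map_mul, hlam, map_inv₀, hc']
      have hhσ : W.σ (S.h γ lam) = S.h γ lam := by rw [W.σ_h γ D.mem lam hlam0, hγ, hφlam]
      refine ⟨S.h γ lam * (g2 * g1), Subgroup.mul_mem _ (S.h_mem_GT D.mem D.perp hlam0) hg21,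
        by rw [map_mul, hhσ, hgσ21], [γ], ?_, ⟨?_, List.pairwise_singleton _ _⟩, ?_, ?_⟩
      · intro o ho
        rw [List.mem_singleton.mp ho]
        exact ⟨D.mem, D.perp⟩
      · intro o ho
        rw [List.mem_singleton.mp ho]
        exact D.mem
      · intro o ho
        rw [List.mem_singleton.mp ho, hγ]
        exact List.mem_singleton.mpr rfl
      · rw [← SLSys.conj_conj, e2, S.h_conj γ D.mem lam hlam0 γ D.mem, S.B_self γ D.mem, zpow_two, hlam,
          inv_mul_cancel₀ hc, S.xs_cons, S.xs_nil, mul_one]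
  | cons o L =>
    have ho : o ∈ o :: L := List.mem_cons_self
    obtain ⟨a1, a2, a3⟩ := S.mem_Lq.mp (hL o ho)
    have hp := S.partner_mem D a1 a3
    have hpp := S.partner_perp D a2
    have hOmem : ∀ v ∈ o :: L, v ∈ S.roots ∧ S.perp T v :=
      fun v hv => ⟨(S.mem_Lq.mp (hL v hv)).1, (S.mem_Lq.mp (hL v hv)).2.1⟩
    by_cases hρo : W.ρ o = o
    · have hxσ : W.σ (S.x (γ - o) c') = S.x (γ - o) c' := by
        rw [W.σ_x _ hp, W.ρ_sub, hγ, hρo, hc']
      refine ⟨S.x (γ - o) c' * (g2 * g1), Subgroup.mul_mem _ (S.x_mem_GT hp hpp c') hg21,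
        by rw [map_mul, hxσ, hgσ21], o :: L, hOmem, hOrth, hLs, ?_⟩
      rw [← SLSys.conj_conj, e2, S.absorb D hL hOrth ho, S.add_self, S.x_zero D.mem, mul_one]
    · have ho' : W.ρ o ∈ o :: L := hLs o ho
      obtain ⟨a1', a2', a3'⟩ := S.mem_Lq.mp (hL _ ho')
      have hp' := S.partner_mem D a1' a3'
      have hpp' := S.partner_perp D a2'
      set b := W.lam * c' with hb
      have hBoo : S.B o (W.ρ o) = 0 := by
        rcases W.orb o a1 with e | e
        · exact absurd e hρo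
        · exact e
      have hcomm : S.x (γ - o) b * S.x (γ - W.ρ o) (W.φ b) = S.x (γ - W.ρ o) (W.φ b) * S.x (γ - o) b := by
        apply S.x_comm _ hp _ hp'
        rw [S.B_sub_left, S.B_sub_right, S.B_sub_right, S.B_self γ D.mem, a3, S.B_symm γ, a3', hBoo]
        omega
      set g3 := S.x (γ - o) b * S.x (γ - W.ρ o) (W.φ b) with hg3
      have hg3σ : W.σ g3 = g3 := by
        rw [hg3, map_mul, W.σ_x _ hp, W.σ_x _ hp', W.ρ_sub, W.ρ_sub, hγ, W.ρ_ρ, W.φ_φ]
        exact hcomm.symm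
      have hg3m : g3 ∈ S.GT T := Subgroup.mul_mem _ (S.x_mem_GT hp hpp b) (S.x_mem_GT hp' hpp' _)
      refine ⟨g3 * (g2 * g1), Subgroup.mul_mem _ hg3m hg21, by rw [map_mul, hg3σ, hgσ21], o :: L, hOmem,
        hOrth, hLs, ?_⟩
      rw [← SLSys.conj_conj, e2, hg3, ← SLSys.conj_conj, S.absorb D hL hOrth ho', S.absorb D hL hOrth ho]
      have hz : c' + W.φ b + b = 0 := by
        rw [hb, map_mul, hc', W.φ_lam]
        have h2 : c' + c' = 0 := S.add_self c'
        calc c' + (1 + W.lam) * c' + W.lam * c' = (c' + c') + (W.lam * c' + W.lam * c') := by ring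
          _ = 0 := by rw [h2, S.add_self, add_zero]
      rw [hz, S.x_zero D.mem, mul_one]

end TwSys

end Cfsg.Agent.Lib.Helper3.SLInv
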