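import Cfsg.Agent.Lib.Helper3.TwInv8
set_option autoImplicit false
set_option linter.unusedSectionVars false
set_option linter.unusedVariables false
set_option linter.unusedSimpArgs false

/-!
Every involution of the unipotent group fixed by the twisting map is conjugate, under a fixed element, to a
product of root elements over a stable list of pairwise orthogonal roots.
-/

namespace Cfsg.Agent.Lib.Helper3.SLInv

namespace TwSys

variable {G : Type*} [Group G] {F : Type*} [Field F] {l : ℕ} {S : SLSys G F l} (W : TwSys S)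
variable {T : List (Vec l)} {γ : Vec l}

/-- the fixed involutions of the unipotent group orthogonal to `T` are conjugate to orthogonal products -/
def PTσ (T : List (Vec l)) : Prop :=
  ∀ u ∈ S.UT T, u * u = 1 → W.σ u = u → ∃ g ∈ S.GT T, W.σ g = g ∧ ∃ O : List (Vec l),
    (∀ o ∈ O, o ∈ S.roots ∧ S.perp T o) ∧ S.Orth O ∧ W.StabL O ∧ g * u * g⁻¹ = S.xs O

theorem PT_baseσ (h : ∀ r ∈ S.roots, 0 < S.key r → ¬ S.perp T r) : W.PTσ T := by
  intro u hu _ _
  have : S.UT T = ⊥ := by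
    unfold SLSys.UT
    rw [Subgroup.closure_eq_bot_iff]
    rintro g ⟨r, hr, a, hk, hp, rfl⟩
    exact absurd hp (h r hr hk)
  rw [this, Subgroup.mem_bot] at hu
  refine ⟨1, Subgroup.one_mem _, map_one _, [], fun _ h => absurd h List.not_mem_nil, SLSys.Orth.nil S,
    W.stabL_nil, ?_⟩
  rw [hu, S.xs_nil]; group

theorem stabL_neg {O : List (Vec l)} (hO : W.StabL O) : W.StabL (O.map Neg.neg) := by
  intro t ht
  obtain ⟨b, hb, rfl⟩ := List.mem_map.mp ht
  rw [W.ρ_neg]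
  exact List.mem_map.mpr ⟨W.ρ b, hO b hb, rfl⟩

theorem σ_conj {g q : G} (hg : W.σ g = g) (hq : W.σ q = q) : W.σ (g * q * g⁻¹) = g * q * g⁻¹ := by
  rw [map_mul, map_mul, map_inv, hg, hq]

/-- the inductive step along a fixed dominant root -/
theorem PT_stepσ (D : S.Dom T γ) (hγ : W.ρ γ = γ) (hT : W.StabL T) (ih : W.PTσ (γ :: T)) : W.PTσ T := by
  intro u hu hsq hσu
  obtain ⟨q, hq, m, hm, rfl⟩ := S.exists_decomp D hu
  have hmsq := S.sq_decomp D hq hm hsq
  have hT' : W.StabL (γ :: T) := W.stabL_cons hγ hT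
  -- both factors are fixed
  have hσq : W.σ q = q := by
    have h1 : W.σ q * W.σ m = q * m := by rw [← map_mul]; exact hσu
    have h2 : q⁻¹ * W.σ q = m * (W.σ m)⁻¹ := by
      calc q⁻¹ * W.σ q = q⁻¹ * (W.σ q * W.σ m) * (W.σ m)⁻¹ := by group
        _ = m * (W.σ m)⁻¹ := by rw [h1]; group
    have h3 : q⁻¹ * W.σ q = 1 := by
      apply S.QT_inf_UT D (Subgroup.mul_mem _ (Subgroup.inv_mem _ hq) (W.σ_mem_QT hT hγ hq))
      rw [h2]
      exact Subgroup.mul_mem _ hm (Subgroup.inv_mem _ (W.σ_mem_UT hT' hm))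
    calc W.σ q = q * (q⁻¹ * W.σ q) := by group
      _ = q := by rw [h3, mul_one]
  have hσm : W.σ m = m := by
    have h1 : W.σ q * W.σ m = q * m := by rw [← map_mul]; exact hσu
    rw [hσq] at h1
    exact mul_left_cancel h1
  obtain ⟨g', hg', hσg', O', hO'1, hO', hO's, e'⟩ := ih m hm hmsq hσm
  -- first conjugation
  set q1 := g' * q * g'⁻¹ with hq1
  have hq1m : q1 ∈ S.QT T γ := S.conj_QT_mem hg' hq
  have hσq1 : W.σ q1 = q1 := W.σ_conj hσg' hσq
  have hu1 : g' * (q * m) * g'⁻¹ = q1 * S.xs O' := by rw [conj_mul_conj, e']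
  -- second conjugation
  set c := S.xs (O'.map Neg.neg) with hc
  have hσc : W.σ c = c := W.σ_xs_fix (S.orth_neg hO') (W.stabL_neg hO's)
  have hcm : c ∈ S.GT (γ :: T) := by
    apply S.xs_mem_GT
    intro β hβ
    obtain ⟨b, hb, rfl⟩ := List.mem_map.mp hβ
    exact ⟨S.neg_mem b (hO'1 b hb).1, S.perp_neg (hO'1 b hb).2⟩
  set q2 := c * q1 * c⁻¹ with hq2
  have hq2m : q2 ∈ S.QT T γ := S.conj_QT_mem hcm hq1m
  have hσq2 : W.σ q2 = q2 := W.σ_conj hσc hσq1
  have hσns : W.σ (S.ns O') = S.ns O' := by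
    rw [← S.conj_xs_neg hO', ← hc]
    exact W.σ_conj hσc (W.σ_xs_fix hO' hO's)
  have hu2 : c * (q1 * S.xs O') * c⁻¹ = q2 * S.ns O' := by rw [conj_mul_conj, S.conj_xs_neg hO']
  have hu2sq : (q2 * S.ns O') * (q2 * S.ns O') = 1 := by
    rw [← hu2, ← hu1]
    exact SLSys.conj_sq (SLSys.conj_sq hsq)
  -- elimination
  obtain ⟨y, hy, hσy, q3, hq3, e3⟩ :=
    W.pair_elimσ D hT hγ hO' (fun β hβ => (hO'1 β hβ).2) hO's hq2m hσq2 hu2sq
  have hσq3 : W.σ q3 = q3 := by
    have h1 : W.σ (q3 * S.ns O') = q3 * S.ns O' := by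
      rw [← e3]
      exact W.σ_conj hσy (by rw [map_mul, hσq2, hσns])
    rw [map_mul, hσns] at h1
    exact mul_right_cancel h1
  have hcomm3 : q3 * S.ns O' = S.ns O' * q3 :=
    S.GT_comm_ns hO'.1 (S.QT_le_GT _ _ hq3) O' (fun _ h => h)
  have hu3sq : (q3 * S.ns O') * (q3 * S.ns O') = 1 := by
    rw [← e3]
    exact SLSys.conj_sq hu2sq
  have hq3sq : q3 * q3 = 1 := by
    have : (q3 * S.ns O') * (q3 * S.ns O') = (q3 * q3) * (S.ns O' * S.ns O') := by
      calc q3 * S.ns O' * (q3 * S.ns O') = q3 * (S.ns O' * q3) * S.ns O' := by group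
        _ = q3 * q3 * (S.ns O' * S.ns O') := by rw [← hcomm3]; group
    rw [this, S.ns_mul_self hO', mul_one] at hu3sq
    exact hu3sq
  -- the radical problem
  have D' : S.Dom (O' ++ T) γ := S.dom_append D (fun β hβ => (S.perp_cons.mp (hO'1 β hβ).2).1)
  obtain ⟨g4, hg4, hσg4, O'', hO''1, hO'', hO''s, e4⟩ :=
    W.QPσ D' (W.stabL_append hO's hT) hγ hq3 hσq3 hq3sq
  have hcomm4 : g4 * S.ns O' = S.ns O' * g4 := S.GT_comm_ns hO'.1 hg4 O' (fun _ h => h)
  have hu4 : g4 * (q3 * S.ns O') * g4⁻¹ = S.xs O'' * S.ns O' := by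
    rw [conj_mul_conj, e4]
    congr 1
    rw [hcomm4]; group
  -- back to root elements
  have hcO'' : c ∈ S.GT O'' := by
    apply S.xs_mem_GT
    intro β hβ
    obtain ⟨b, hb, rfl⟩ := List.mem_map.mp hβ
    refine ⟨S.neg_mem b (hO'1 b hb).1, ?_⟩
    intro o ho
    rw [S.B_neg_left, S.B_symm, (S.perp_append.mp (hO''1 o ho).2).1 b hb, neg_zero]
  have hcomm5 : c * S.xs O'' = S.xs O'' * c := (S.perp_comm hO''.1 hcO'').2.1
  have hu5 : c⁻¹ * (S.xs O'' * S.ns O') * c = S.xs (O'' ++ O') := by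
    rw [S.xs_append, ← S.conj_xs_neg hO', ← hc]
    calc c⁻¹ * (S.xs O'' * (c * S.xs O' * c⁻¹)) * c = c⁻¹ * (S.xs O'' * c) * S.xs O' := by group
      _ = S.xs O'' * S.xs O' := by rw [← hcomm5]; group
  refine ⟨c⁻¹ * g4 * y * c * g', ?_, ?_, O'' ++ O', ?_, ?_, ?_, ?_⟩
  · have h1 : g' ∈ S.GT T := S.GT_cons_le T γ hg'
    have h2 : c ∈ S.GT T := S.GT_cons_le T γ hcm
    have h3 : y ∈ S.GT T := S.QT_le_GT _ _ hy
    have h4 : g4 ∈ S.GT T := S.GT_append_le O' T hg4
    exact Subgroup.mul_mem _ (Subgroup.mul_mem _ (Subgroup.mul_mem _ (Subgroup.mul_mem _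
      (Subgroup.inv_mem _ h2) h4) h3) h2) h1
  · rw [map_mul, map_mul, map_mul, map_mul, map_inv, hσc, hσg4, hσy, hσg']
  · intro o ho
    rcases List.mem_append.mp ho with h | h
    · exact ⟨(hO''1 o h).1, (S.perp_append.mp (hO''1 o h).2).2⟩
    · exact ⟨(hO'1 o h).1, (S.perp_cons.mp (hO'1 o h).2).2⟩
  · exact S.orth_append hO'' hO' (fun a ha b hb => (S.perp_append.mp (hO''1 a ha).2).1 b hb)
  · exact W.stabL_append hO''s hO's
  · rw [← hu5, ← hu4, ← e3, ← hu2, ← hu1]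
    group

/-- a cascade of fixed dominant roots exhausting the positive roots orthogonal to `T` -/
inductive Cascσ (W : TwSys S) : List (Vec l) → Prop
  | base (T : List (Vec l)) : (∀ r ∈ S.roots, 0 < S.key r → ¬ S.perp T r) → Cascσ W T
  | step (T : List (Vec l)) (γ : Vec l) : S.Dom T γ → W.ρ γ = γ → Cascσ W (γ :: T) → Cascσ W T

theorem PT_of_cascσ (h : W.Cascσ T) : W.StabL T → W.PTσ T := by
  induction h with
  | base T h => exact fun _ => W.PT_baseσ h
  | step T γ D hγ _ ih => exact fun hT => W.PT_stepσ D hγ hT (ih (W.stabL_cons hγ hT))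

/-- fixed involutions of the unipotent group are conjugate, under fixed elements, to products of root elements
over stable lists of orthogonal roots -/
theorem involution_conjσ (h : W.Cascσ []) {u : G} (hu : u ∈ S.UPos) (hsq : u * u = 1) (hσ : W.σ u = u) :
    ∃ g ∈ S.GT [], W.σ g = g ∧ ∃ O : List (Vec l), S.Orth O ∧ W.StabL O ∧ g * u * g⁻¹ = S.xs O := by
  rw [← S.UT_nil] at hu
  obtain ⟨g, hg, hσg, O, -, hO, hOs, e⟩ := W.PT_of_cascσ h W.stabL_nil u hu hsq hσ
  exact ⟨g, hg, hσg, O, hO, hOs, e⟩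

end TwSys

end Cfsg.Agent.Lib.Helper3.SLInv
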