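import Mathlib

set_option autoImplicit false
set_option linter.unusedSectionVars false

/-!
Package A of the S2646 swarm: for a finite `K`-algebra `A` (`|K| = q ^ 2`) with a `q`-semilinear
anti-involution `τ` and a surjection `π : A → S` with nilpotent kernel of order `q ^ (2 m)`
compatible with an anti-involution `τS` of `S`, the "unitary" sets satisfy
`|{x | τ x * x = 1}| = |{y | τS y * y = 1}| * q ^ m`.
-/

namespace Cfsg.Agent.Lib.Helper3.UnitaryLift

section field

variable {K : Type*} [Field K] [Fintype K] {q : ℕ} (hK : Fintype.card K = q ^ 2)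
include hK

theorem two_le_q : 2 ≤ q := by
  have h1 : 1 < Fintype.card K := Fintype.one_lt_card
  rw [hK] at h1
  by_contra h
  have : q ≤ 1 := by omega
  interval_cases q <;> simp at h1

theorem pow_q_pow_q (c : K) : (c ^ q) ^ q = c := by
  rw [← pow_mul, ← pow_two, ← hK, FiniteField.pow_card]

theorem exists_char_pow : ∃ p f : ℕ, p.Prime ∧ CharP K p ∧ q = p ^ f := by
  obtain ⟨p, hchar⟩ := CharP.exists K
  obtain ⟨n, hp, hn⟩ := FiniteField.card K p
  have hq : q ∣ p ^ (n : ℕ) := by rw [← hn, hK]; exact dvd_pow_self q two_ne_zero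
  obtain ⟨f, _, hf⟩ := (Nat.dvd_prime_pow hp).mp hq
  exact ⟨p, f, hp, hchar, hf⟩

theorem add_pow_q (a b : K) : (a + b) ^ q = a ^ q + b ^ q := by
  obtain ⟨p, f, hp, hchar, rfl⟩ := exists_char_pow hK
  have := Fact.mk hp
  exact add_pow_char_pow a b p f

theorem sub_pow_q (a b : K) : (a - b) ^ q = a ^ q - b ^ q := by
  obtain ⟨p, f, hp, hchar, rfl⟩ := exists_char_pow hK
  have := Fact.mk hp
  exact sub_pow_char_pow a b f

theorem neg_pow_q (a : K) : (-a) ^ q = -(a ^ q) := by
  have h := sub_pow_q hK 0 a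
  have hq : q ≠ 0 := by have := two_le_q hK; omega
  rwa [zero_sub, zero_pow hq, zero_sub] at h

/-- Some element is moved by the `q`-Frobenius. -/
theorem exists_pow_q_ne : ∃ θ : K, θ ^ q ≠ θ := by
  classical
  by_contra hcon
  push Not at hcon
  have hq := two_le_q hK
  have hall : ∀ u : Kˣ, u ^ (q - 1) = 1 := by
    intro u
    have h1 : (u : K) ^ q = u := hcon u
    apply Units.ext
    have h2 : (u : K) ^ (q - 1) * u = 1 * u := by
      rw [← pow_succ, Nat.sub_add_cancel (by omega), h1, one_mul]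
    simpa using mul_right_cancel₀ u.ne_zero h2
  have hcard := IsCyclic.card_pow_eq_one_le (α := Kˣ) (n := q - 1) (by omega)
  have huniv : (Finset.univ.filter fun u : Kˣ => u ^ (q - 1) = 1) = Finset.univ := by
    ext u; simp [hall u]
  rw [huniv, Finset.card_univ, Fintype.card_units, hK] at hcard
  have : q * q ≤ q := by
    have : q ^ 2 = q * q := pow_two q
    have hpos : 0 < q ^ 2 := by positivity
    omega
  nlinarith

/-- Surjectivity of the trace `c ↦ c + c ^ q` onto `1`. -/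
theorem exists_add_pow_q_eq_one : ∃ c : K, c + c ^ q = 1 := by
  obtain ⟨θ, hθ⟩ := exists_pow_q_ne hK
  have key : ∃ c₀ : K, c₀ + c₀ ^ q ≠ 0 := by
    by_cases h : θ + θ ^ q = 0
    · refine ⟨1 + θ, ?_⟩
      rw [add_pow_q hK, one_pow]
      have hθ' : θ ^ q = -θ := by rw [← add_eq_zero_iff_eq_neg']; exact h
      rw [hθ']
      intro h2
      have h3 : (2 : K) = 0 := by
        have : (1 : K) + θ + (1 + -θ) = 2 := by ring
        rw [← this]; exact h2
      apply hθ
      rw [hθ']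
      have : θ + θ = 0 := by
        have : θ + θ = 2 * θ := by ring
        rw [this, h3, zero_mul]
      exact (add_eq_zero_iff_neg_eq.mp this)
    · exact ⟨θ, h⟩
  obtain ⟨c₀, hc₀⟩ := key
  set t := c₀ + c₀ ^ q with ht
  have htq : t ^ q = t := by
    rw [ht, add_pow_q hK, pow_q_pow_q hK, add_comm]
  refine ⟨c₀ / t, ?_⟩
  rw [div_pow, htq, ← add_div, ← ht, div_self hc₀]

end field

/-- The hypotheses of the package, bundled. -/
structure Hyp {K : Type*} [Field K] (q : ℕ) {A S : Type*} [Ring A] [Algebra K A] [Ring S]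
    [Algebra K S] (τ : A → A) (τS : S → S) (π : A →ₐ[K] S) : Prop where
  add : ∀ x y, τ (x + y) = τ x + τ y
  mul : ∀ x y, τ (x * y) = τ y * τ x
  one : τ 1 = 1
  inv : ∀ x, τ (τ x) = x
  smul : ∀ (c : K) x, τ (c • x) = (c ^ q) • τ x
  surj : Function.Surjective π
  comp : ∀ x, π (τ x) = τS (π x)
  nil : ∀ x, π x = 0 → IsNilpotent x

namespace Hyp

variable {K : Type*} [Field K] {q : ℕ} {A S : Type*} [Ring A] [Algebra K A] [Ring S]
    [Algebra K S] {τ : A → A} {τS : S → S} {π : A →ₐ[K] S} (h : Hyp q τ τS π)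
include h

theorem zero : τ 0 = 0 := by
  have := h.add 0 0
  simpa using this

theorem neg (x : A) : τ (-x) = -τ x := by
  have := h.add x (-x)
  rw [add_neg_cancel, h.zero] at this
  exact (neg_eq_of_add_eq_zero_right this.symm).symm

theorem sub (x y : A) : τ (x - y) = τ x - τ y := by
  rw [sub_eq_add_neg, h.add, h.neg, ← sub_eq_add_neg]

theorem tauS_one : τS 1 = 1 := by
  have := h.comp 1
  rw [h.one, map_one] at this
  exact this.symm

theorem tau_conj_self (x : A) : τ (τ x * x) = τ x * x := by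
  rw [h.mul, h.inv]

theorem pi_conj_self (x : A) : π (τ x * x) = τS (π x) * π x := by
  rw [map_mul, h.comp]

end Hyp

section root

variable {K : Type*} [Field K] [Fintype K] {q : ℕ} (hK : Fintype.card K = q ^ 2)
    {A S : Type*} [Ring A] [Algebra K A] [Ring S]
    [Algebra K S] {τ : A → A} {τS : S → S} {π : A →ₐ[K] S} (h : Hyp q τ τS π)
include h

omit [Fintype K] in
open Polynomial in
/-- (T): a symmetric nilpotent element `s` of the kernel has a "unitary square root":
`τ r * r = 1 + s`. -/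
theorem exists_root_aux {c : K} (hc : c + c ^ q = 1) :
    ∀ k : ℕ, ∀ s : A, τ s = s → π s = 0 → s ^ k = 0 →
      ∃ r r' : A, r * r' = 1 ∧ r' * r = 1 ∧ π r = 1 ∧ τ r * r = 1 + s := by
  intro k
  induction k using Nat.strong_induction_on with
  | _ k ih =>
    intro s hs hπs hk
    by_cases hk1 : k ≤ 1
    · have hs0 : s = 0 := by
        interval_cases k
        · rw [pow_zero] at hk
          have : Subsingleton A := subsingleton_of_zero_eq_one hk.symm
          exact Subsingleton.elim _ _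
        · simpa using hk
      refine ⟨1, 1, by simp, by simp, map_one π, ?_⟩
      rw [h.one, hs0, add_zero, one_mul]
    · push Not at hk1
      set d : K := c ^ q with hd
      -- the polynomial identity
      have hC : (C c + C d : K[X]) = 1 := by rw [← C_add, hc, C_1]
      have hpoly : ((1 - C d * X) * (1 + X) * (1 - C c * X) - 1 : K[X]) =
          X ^ 2 * ((C c * C d - 1) + C c * C d * X) := by
        linear_combination (-(X * (1 + X))) * hC
      set r₁ : A := 1 - c • s with hr₁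
      have hτr₁ : τ r₁ = 1 - d • s := by
        rw [hr₁, h.sub, h.one, h.smul, hs]
      have e₁ : r₁ = aeval s (1 - C c * X : K[X]) := by
        simp [hr₁, Algebra.smul_def]
      have e₁' : τ r₁ = aeval s (1 - C d * X : K[X]) := by
        simp [hτr₁, Algebra.smul_def]
      set s' : A := τ r₁ * (1 + s) * r₁ - 1 with hs'
      have es' : s' = aeval s (X ^ 2 * ((C c * C d - 1) + C c * C d * X) : K[X]) := by
        rw [← hpoly, hs', e₁', e₁]
        simp
      have hτs' : τ s' = s' := by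
        rw [hs', h.sub, h.one, h.mul, h.mul, h.inv, h.add, h.one, hs, mul_assoc]
      have hπr₁ : π r₁ = 1 := by
        rw [hr₁, map_sub, map_one, map_smul, hπs, smul_zero, sub_zero]
      have hπs' : π s' = 0 := by
        rw [hs', map_sub, map_mul, map_mul, h.comp, hπr₁, h.tauS_one, map_add, map_one, hπs,
          add_zero, one_mul, one_mul, sub_self]
      have hk' : (k + 1) / 2 < k := by omega
      have hs'k : s' ^ ((k + 1) / 2) = 0 := by
        rw [es', ← map_pow, mul_pow, ← pow_mul, map_mul, map_pow, aeval_X]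
        have : 2 * ((k + 1) / 2) = k + (2 * ((k + 1) / 2) - k) := by omega
        rw [this, pow_add, hk, zero_mul, zero_mul]
      obtain ⟨r₂, r₂', h21, h22, hπr₂, hr₂⟩ := ih _ hk' s' hτs' hπs' hs'k
      -- `r₁` is a unit
      have hnil : IsNilpotent (c • s) := IsNilpotent.smul ⟨k, hk⟩ c
      obtain ⟨u, hu⟩ := hnil.isUnit_one_sub
      have hu1 : r₁ * (↑u⁻¹ : A) = 1 := by rw [hr₁, ← hu]; exact u.mul_inv
      have hu2 : (↑u⁻¹ : A) * r₁ = 1 := by rw [hr₁, ← hu]; exact u.inv_mul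
      refine ⟨r₂ * ↑u⁻¹, r₁ * r₂', ?_, ?_, ?_, ?_⟩
      · calc r₂ * ↑u⁻¹ * (r₁ * r₂') = r₂ * ((↑u⁻¹ : A) * r₁) * r₂' := by noncomm_ring
          _ = 1 := by rw [hu2, mul_one, h21]
      · calc r₁ * r₂' * (r₂ * ↑u⁻¹) = r₁ * (r₂' * r₂) * (↑u⁻¹ : A) := by noncomm_ring
          _ = 1 := by rw [h22, mul_one, hu1]
      · have : π r₁ * π (↑u⁻¹ : A) = 1 := by rw [← map_mul, hu1, map_one]
        rw [hπr₁, one_mul] at this
        rw [map_mul, hπr₂, this, one_mul]
      · have hτu : τ (↑u⁻¹ : A) * τ r₁ = 1 := by rw [← h.mul, hu1, h.one]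
        calc τ (r₂ * ↑u⁻¹) * (r₂ * ↑u⁻¹) = τ (↑u⁻¹ : A) * (τ r₂ * r₂) * (↑u⁻¹ : A) := by
              rw [h.mul]; noncomm_ring
          _ = τ (↑u⁻¹ : A) * (τ r₁ * (1 + s) * r₁) * (↑u⁻¹ : A) := by
              rw [hr₂, hs', add_sub_cancel]
          _ = (τ (↑u⁻¹ : A) * τ r₁) * (1 + s) * (r₁ * (↑u⁻¹ : A)) := by noncomm_ring
          _ = 1 + s := by rw [hτu, hu1, one_mul, mul_one]

end root

section count

variable {K : Type*} [Field K] [Fintype K] {q : ℕ} (hK : Fintype.card K = q ^ 2)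
    {A S : Type*} [Ring A] [Algebra K A] [Ring S]
    [Algebra K S] {τ : A → A} {τS : S → S} {π : A →ₐ[K] S} (h : Hyp q τ τS π)
include hK h

/-- (T) -/
theorem exists_root (s : A) (hs : τ s = s) (hπs : π s = 0) :
    ∃ r r' : A, r * r' = 1 ∧ r' * r = 1 ∧ π r = 1 ∧ τ r * r = 1 + s := by
  obtain ⟨c, hc⟩ := exists_add_pow_q_eq_one hK
  obtain ⟨k, hk⟩ := h.nil s hπs
  exact exists_root_aux h hc k s hs hπs hk

omit [Fintype K] hK in
theorem sym_of (x : A) : τ (τ x * x - 1) = τ x * x - 1 := by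
  rw [h.sub, h.tau_conj_self, h.one]

/-- conjugating by the inverse of a root -/
theorem conj_rootInv {x r r' : A} (h1 : r * r' = 1) (h4 : τ r * r = τ x * x) :
    τ (x * r') * (x * r') = 1 := by
  have hτ : τ r' * τ r = 1 := by rw [← h.mul, h1, h.one]
  calc τ (x * r') * (x * r') = τ r' * (τ x * x) * r' := by rw [h.mul]; noncomm_ring
    _ = (τ r' * τ r) * (r * r') := by rw [← h4]; noncomm_ring
    _ = 1 := by rw [hτ, h1, one_mul]

omit [Fintype K] hK in
theorem pi_inv_eq_one {r r' : A} (h1 : r * r' = 1) (h3 : π r = 1) : π r' = 1 := by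
  have : π r * π r' = 1 := by rw [← map_mul, h1, map_one]
  rwa [h3, one_mul] at this

theorem exists_lift (y : S) (hy : τS y * y = 1) : ∃ x : A, π x = y ∧ τ x * x = 1 := by
  obtain ⟨x, rfl⟩ := h.surj y
  have hs2 : π (τ x * x - 1) = 0 := by rw [map_sub, h.pi_conj_self, hy, map_one, sub_self]
  obtain ⟨r, r', h1, h2, h3, h4⟩ := exists_root hK h _ (sym_of h x) hs2
  refine ⟨x * r', ?_, ?_⟩
  · rw [map_mul, pi_inv_eq_one h h1 h3, mul_one]
  · apply conj_rootInv hK h h1
    rw [h4, add_sub_cancel]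

/-- (ii) -/
theorem card_J1 :
    Nat.card {r : A // π r = 1} =
      Nat.card {r : A // π r = 1 ∧ τ r * r = 1} * Nat.card {x : A // π x = 0 ∧ τ x = x} := by
  choose root rootInv h1 h2 h3 h4 using
    (fun s : {x : A // π x = 0 ∧ τ x = x} => exists_root hK h s.1 s.2.2 s.2.1)
  have hsym : ∀ r : {r : A // π r = 1}, π (τ r.1 * r.1 - 1) = 0 ∧
      τ (τ r.1 * r.1 - 1) = τ r.1 * r.1 - 1 := by
    intro r
    refine ⟨?_, sym_of h r.1⟩
    rw [map_sub, h.pi_conj_self, r.2, h.tauS_one, one_mul, map_one, sub_self]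
  rw [← Nat.card_prod]
  refine Nat.card_congr
    { toFun := fun r => (⟨r.1 * rootInv ⟨τ r.1 * r.1 - 1, hsym r⟩, ?_, ?_⟩,
        ⟨τ r.1 * r.1 - 1, hsym r⟩)
      invFun := fun p => ⟨p.1.1 * root p.2, ?_⟩
      left_inv := ?_
      right_inv := ?_ }
  · rw [map_mul, r.2, one_mul]
    exact pi_inv_eq_one h (h1 _) (h3 _)
  · apply conj_rootInv hK h (h1 _)
    rw [h4]
    simp
  · rw [map_mul, p.1.2.1, h3, one_mul]
  · intro r
    apply Subtype.ext
    simp only
    rw [mul_assoc, h2, mul_one]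
  · rintro ⟨⟨w, hw1, hw2⟩, s⟩
    have key : (⟨τ (w * root s) * (w * root s) - 1, hsym ⟨w * root s, by
        rw [map_mul, hw1, h3, one_mul]⟩⟩ : {x : A // π x = 0 ∧ τ x = x}) = s := by
      apply Subtype.ext
      simp only
      have : τ (w * root s) * (w * root s) = τ (root s) * (τ w * w) * root s := by
        rw [h.mul]; noncomm_ring
      rw [this, hw2, mul_one, h4, add_sub_cancel_left]
    simp only
    rw [Prod.mk.injEq]
    refine ⟨?_, key⟩
    apply Subtype.ext
    simp only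
    rw [key, mul_assoc, h1, mul_one]

omit [Fintype K] hK h in
theorem card_J1_eq_card_J : Nat.card {r : A // π r = 1} = Nat.card {x : A // π x = 0} := by
  refine Nat.card_congr
    { toFun := fun r => ⟨r.1 - 1, by rw [map_sub, r.2, map_one, sub_self]⟩
      invFun := fun x => ⟨x.1 + 1, by rw [map_add, x.2, map_one, zero_add]⟩
      left_inv := fun r => by simp
      right_inv := fun x => by simp }

/-- (i) -/
theorem card_sym_mul_self :
    Nat.card {x : A // π x = 0 ∧ τ x = x} * Nat.card {x : A // π x = 0 ∧ τ x = x} =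
      Nat.card {x : A // π x = 0} := by
  obtain ⟨θ, hθ⟩ := exists_pow_q_ne hK
  set η : K := θ - θ ^ q with hη
  have hη0 : η ≠ 0 := by
    rw [hη, sub_ne_zero]; exact hθ.symm
  have hηq : η ^ q = -η := by
    rw [hη, sub_pow_q hK, pow_q_pow_q hK, neg_sub]
  have hηinv : (η⁻¹) ^ q = -η⁻¹ := by
    rw [inv_pow, hηq, inv_neg]
  -- the second coordinate
  have hx2 : ∀ x : A, τ (η⁻¹ • (x - τ x)) = η⁻¹ • (x - τ x) := by
    intro x
    rw [h.smul, hηinv, h.sub, h.inv, neg_smul, ← smul_neg, neg_sub]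
  have hx1 : ∀ x : A, τ (x - θ • (η⁻¹ • (x - τ x))) = x - θ • (η⁻¹ • (x - τ x)) := by
    intro x
    rw [h.sub, h.smul, hx2]
    have e : x - τ x = η • (η⁻¹ • (x - τ x)) := by
      rw [smul_smul, mul_inv_cancel₀ hη0, one_smul]
    have e2 : η • (η⁻¹ • (x - τ x)) = θ • (η⁻¹ • (x - τ x)) - θ ^ q • (η⁻¹ • (x - τ x)) := by
      rw [hη, sub_smul]
    rw [e2] at e
    -- τ x - θ^q • x₂ = x - θ • x₂
    have : τ x - θ ^ q • (η⁻¹ • (x - τ x)) - (x - θ • (η⁻¹ • (x - τ x))) = 0 := by
      have : τ x - θ ^ q • (η⁻¹ • (x - τ x)) - (x - θ • (η⁻¹ • (x - τ x))) =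
          (θ • (η⁻¹ • (x - τ x)) - θ ^ q • (η⁻¹ • (x - τ x))) - (x - τ x) := by abel
      rw [this, ← e, sub_self]
    exact sub_eq_zero.mp this
  rw [← Nat.card_prod]
  refine Nat.card_congr
    { toFun := fun p => ⟨p.1.1 + θ • p.2.1, ?_⟩
      invFun := fun x => (⟨x.1 - θ • (η⁻¹ • (x.1 - τ x.1)), ?_, hx1 x.1⟩,
        ⟨η⁻¹ • (x.1 - τ x.1), ?_, hx2 x.1⟩)
      left_inv := ?_
      right_inv := ?_ }
  · rw [map_add, map_smul, p.1.2.1, p.2.2.1, smul_zero, add_zero]
  · rw [map_sub, map_smul, map_smul, map_sub, h.comp, x.2]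
    have : τS 0 = 0 := by
      have := h.comp 0
      rw [h.zero, map_zero] at this
      exact this.symm
    rw [this, sub_zero, smul_zero, smul_zero, sub_zero]
  · rw [map_smul, map_sub, h.comp, x.2]
    have : τS 0 = 0 := by
      have := h.comp 0
      rw [h.zero, map_zero] at this
      exact this.symm
    rw [this, sub_zero, smul_zero]
  · rintro ⟨⟨x₁, hx₁, hx₁'⟩, ⟨x₂, hx₂, hx₂'⟩⟩
    have e : x₁ + θ • x₂ - τ (x₁ + θ • x₂) = η • x₂ := by
      rw [h.add, h.smul, hx₁', hx₂', hη, sub_smul]; abel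
    have e2 : η⁻¹ • (x₁ + θ • x₂ - τ (x₁ + θ • x₂)) = x₂ := by
      rw [e, smul_smul, inv_mul_cancel₀ hη0, one_smul]
    simp only
    rw [Prod.mk.injEq]
    constructor
    · apply Subtype.ext
      simp only
      rw [e2, add_sub_cancel_right]
    · apply Subtype.ext
      simp only
      exact e2
  · intro x
    apply Subtype.ext
    simp only
    rw [sub_add_cancel]

end count

section final

variable {K : Type*} [Field K] [Fintype K] {q : ℕ} (hK : Fintype.card K = q ^ 2)
    {A S : Type*} [Ring A] [Algebra K A] [Finite A] [Ring S]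
    [Algebra K S] {τ : A → A} {τS : S → S} {π : A →ₐ[K] S} (h : Hyp q τ τS π)
include hK h

/-- (iii) -/
theorem card_unitary :
    Nat.card {x : A // τ x * x = 1} =
      Nat.card {y : S // τS y * y = 1} * Nat.card {r : A // π r = 1 ∧ τ r * r = 1} := by
  choose lift hl1 hl2 using (fun y : {y : S // τS y * y = 1} => exists_lift hK h y.1 y.2)
  have hl3 : ∀ y, lift y * τ (lift y) = 1 := fun y => mul_eq_one_comm.mp (hl2 y)
  have hU : ∀ x : {x : A // τ x * x = 1}, τS (π x.1) * π x.1 = 1 := by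
    intro x
    rw [← h.pi_conj_self, x.2, map_one]
  rw [← Nat.card_prod]
  refine Nat.card_congr
    { toFun := fun x => (⟨π x.1, hU x⟩, ⟨τ (lift ⟨π x.1, hU x⟩) * x.1, ?_, ?_⟩)
      invFun := fun p => ⟨lift p.1 * p.2.1, ?_⟩
      left_inv := ?_
      right_inv := ?_ }
  · rw [map_mul, h.comp, hl1]
    exact hU x
  · have : τ (τ (lift ⟨π x.1, hU x⟩) * x.1) * (τ (lift ⟨π x.1, hU x⟩) * x.1) =
        τ x.1 * (lift ⟨π x.1, hU x⟩ * τ (lift ⟨π x.1, hU x⟩)) * x.1 := by
      rw [h.mul, h.inv]; noncomm_ring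
    rw [this, hl3, mul_one, x.2]
  · have : τ (lift p.1 * p.2.1) * (lift p.1 * p.2.1) =
        τ p.2.1 * (τ (lift p.1) * lift p.1) * p.2.1 := by
      rw [h.mul]; noncomm_ring
    rw [this, hl2, mul_one, p.2.2.2]
  · intro x
    apply Subtype.ext
    simp only
    rw [← mul_assoc, hl3, one_mul]
  · rintro ⟨y, ⟨w, hw1, hw2⟩⟩
    have key : (⟨π (lift y * w), hU ⟨lift y * w, by
        have : τ (lift y * w) * (lift y * w) = τ w * (τ (lift y) * lift y) * w := by
          rw [h.mul]; noncomm_ring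
        rw [this, hl2, mul_one, hw2]⟩⟩ : {y : S // τS y * y = 1}) = y := by
      apply Subtype.ext
      simp only
      rw [map_mul, hl1, hw1, mul_one]
    simp only
    rw [Prod.mk.injEq]
    refine ⟨key, ?_⟩
    apply Subtype.ext
    simp only
    rw [key, ← mul_assoc, hl2, one_mul]

end final

/-- PACKAGE A of the S2646 swarm. -/
theorem card_unitary_of_nilpotent_kernel {K : Type*} [Field K] [Fintype K] {q : ℕ}
    (hK : Fintype.card K = q ^ 2)
    {A S : Type*} [Ring A] [Algebra K A] [Finite A] [Ring S] [Algebra K S] (τ : A → A)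
    (τS : S → S)
    (τ_add : ∀ x y, τ (x + y) = τ x + τ y) (τ_mul : ∀ x y, τ (x * y) = τ y * τ x)
    (τ_one : τ 1 = 1)
    (τ_inv : ∀ x, τ (τ x) = x) (τ_smul : ∀ (c : K) x, τ (c • x) = (c ^ q) • τ x)
    (π : A →ₐ[K] S) (hπ : Function.Surjective π) (hcomp : ∀ x, π (τ x) = τS (π x))
    (hnil : ∀ x, π x = 0 → IsNilpotent x) (m : ℕ)
    (hker : Nat.card {x : A // π x = 0} = q ^ (2 * m)) :
    Nat.card {x : A // τ x * x = 1} = Nat.card {y : S // τS y * y = 1} * q ^ m := by
  have h : Hyp q τ τS π := ⟨τ_add, τ_mul, τ_one, τ_inv, τ_smul, hπ, hcomp, hnil⟩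
  have hq := two_le_q hK
  have e1 := card_unitary hK h
  have e2 := card_J1 hK h
  have e3 := card_J1_eq_card_J (π := π)
  have e4 := card_sym_mul_self hK h
  rw [hker] at e4
  rw [e3, hker] at e2
  have hsym : Nat.card {x : A // π x = 0 ∧ τ x = x} = q ^ m := by
    have : Nat.card {x : A // π x = 0 ∧ τ x = x} ^ 2 = (q ^ m) ^ 2 := by
      rw [pow_two, e4, ← pow_mul, mul_comm]
    exact Nat.pow_left_injective (two_ne_zero) this
  rw [hsym] at e2
  have hUJ : Nat.card {r : A // π r = 1 ∧ τ r * r = 1} = q ^ m := by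
    have hpos : 0 < q ^ m := by positivity
    have : q ^ m * q ^ m = Nat.card {r : A // π r = 1 ∧ τ r * r = 1} * q ^ m := by
      rw [← e2, ← pow_add]; congr 1; omega
    exact (Nat.eq_of_mul_eq_mul_right hpos this).symm
  rw [e1, hUJ]

end Cfsg.Agent.Lib.Helper3.UnitaryLift
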