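import Mathlib
import Cfsg.Agent.Lib.Helper3.ChevU1
set_option autoImplicit false
set_option linter.unusedSectionVars false

/-! Uniqueness of the coordinates in a product of root subgroups, by counting, for products taken in any order;
restriction of a collection system to a tail. -/

namespace Cfsg.Agent.Lib.Helper3.WCl

open Cfsg.Agent.Lib.Helper3.ChevU

section
variable {G : Type*} [Group G] {F : Type*} [Field F]
  {x : ℕ → F → G} {P : ℕ → Prop} {pos : ℕ → ℕ}

theorem lprod_congr (M : List ℕ) (t t' : ℕ → F) (h : ∀ r ∈ M, t r = t' r) :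
    RootSys.lprod x M t = RootSys.lprod x M t' := by
  unfold RootSys.lprod
  congr 1
  apply List.map_congr_left
  intro r hr
  rw [h r hr]

theorem lprod_eq_one (hx0 : ∀ r, x r 0 = 1) (M : List ℕ) (t : ℕ → F) (h : ∀ r ∈ M, t r = 0) :
    RootSys.lprod x M t = 1 := by
  induction M with
  | nil => simp [RootSys.lprod]
  | cons r M ih =>
    rw [RootSys.lprod_cons, h r List.mem_cons_self, hx0, one_mul]
    exact ih fun s hs => h s (List.mem_cons_of_mem _ hs)

theorem lprod_single (r : ℕ) (t : ℕ → F) : RootSys.lprod x [r] t = x r (t r) := by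
  simp [RootSys.lprod]

theorem tailSet_restrict (k m : ℕ) :
    tailSet x (fun r => P r ∧ k ≤ pos r) pos m = tailSet x P pos (max k m) := by
  ext g
  constructor
  · rintro ⟨r, t, ⟨hr, hk⟩, hm, rfl⟩
    exact ⟨r, t, hr, max_le hk hm, rfl⟩
  · rintro ⟨r, t, hr, hm, rfl⟩
    exact ⟨r, t, ⟨hr, le_trans (le_max_left _ _) hm⟩, le_trans (le_max_right _ _) hm, rfl⟩

theorem tailGrp_restrict (k m : ℕ) :
    tailGrp x (fun r => P r ∧ k ≤ pos r) pos m = tailGrp x P pos (max k m) := by
  unfold tailGrp
  rw [tailSet_restrict]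

theorem rootSys_restrict (H : RootSys x P pos) (k : ℕ) : RootSys x (fun r => P r ∧ k ≤ pos r) pos where
  add := H.add
  comm := by
    rintro r s ⟨hr, hk⟩ ⟨hs, -⟩ t u
    rw [tailGrp_restrict, max_eq_right (by omega)]
    exact H.comm r s hr hs t u
  inj := fun r s hr hs h => H.inj r s hr.1 hs.1 h

/-- The elements of a tail are products over the roots of the tail, in any order. -/
theorem tail_exists_lprod (H : RootSys x P pos) (K : ℕ) (hK : ∀ r, P r → pos r < K) (k : ℕ) (R : List ℕ)
    (hnd : R.Nodup) (hR : ∀ r, r ∈ R ↔ (P r ∧ k ≤ pos r)) {g : G} (hg : g ∈ tailGrp x P pos k) :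
    ∃ v : ℕ → F, g = RootSys.lprod x R v := by
  have hg' : g ∈ tailGrp x (fun r => P r ∧ k ≤ pos r) pos 0 := by
    rw [tailGrp_restrict, max_eq_left (Nat.zero_le _)]
    exact hg
  exact (rootSys_restrict H k).exists_lprod K (fun r hr => hK r hr.1) R hnd hR hg'

theorem lprod_mem_tail (k : ℕ) (M : List ℕ) (hM : ∀ r ∈ M, P r ∧ k ≤ pos r) (t : ℕ → F) :
    RootSys.lprod x M t ∈ tailGrp x P pos k := by
  unfold RootSys.lprod
  apply Subgroup.list_prod_mem
  intro g hg
  obtain ⟨r, hr, rfl⟩ := List.mem_map.mp hg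
  exact gen_mem x P pos (hM r hr).1 (hM r hr).2 _

/-- Commutators of elements of a tail with arbitrary elements lie in the next tail. -/
theorem comm_mem_succ (H : RootSys x P pos) {m : ℕ} {z g : G} (hz : z ∈ tailGrp x P pos m)
    (hg : g ∈ tailGrp x P pos 0) : g * z * g⁻¹ * z⁻¹ ∈ tailGrp x P pos (m + 1) := by
  have hz0 : ∀ {w : G}, w ∈ tailGrp x P pos m → w ∈ tailGrp x P pos 0 :=
    fun hw => tailGrp_anti x P pos (Nat.zero_le _) hw
  induction hz using Subgroup.closure_induction with
  | mem y hy =>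
    obtain ⟨r, t, hr, hm, rfl⟩ := hy
    exact tailGrp_anti x P pos (by omega) (H.central hr t hg)
  | one => simp
  | mul a b ha hb iha ihb =>
    have e : g * (a * b) * g⁻¹ * (a * b)⁻¹ = (g * a * g⁻¹ * a⁻¹) * (a * (g * b * g⁻¹ * b⁻¹) * a⁻¹) := by group
    rw [e]
    exact Subgroup.mul_mem _ iha (H.conj_mem (hz0 ha) ihb)
  | inv a ha iha =>
    have e : g * a⁻¹ * g⁻¹ * a⁻¹⁻¹ = a⁻¹ * (g * a * g⁻¹ * a⁻¹)⁻¹ * a := by group
    rw [e]
    exact H.conj_mem' (hz0 ha) (Subgroup.inv_mem _ iha)

end

section counting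
variable {G : Type*} [Group G] {F : Type*} [Field F] [Fintype F]
  {x : ℕ → F → G} {P : ℕ → Prop} {pos : ℕ → ℕ}

/-- A collection system whose group has as many elements as there are coordinate vectors. -/
structure Base (x : ℕ → F → G) (P : ℕ → Prop) (pos : ℕ → ℕ) (M₀ : List ℕ) (K : ℕ) : Prop where
  rs : RootSys x P pos
  bound : ∀ r, P r → pos r < K
  nodup : M₀.Nodup
  mem : ∀ r, r ∈ M₀ ↔ P r
  card : Nat.card (tailGrp x P pos 0) = Fintype.card F ^ M₀.length

theorem lprod_inj (H : RootSys x P pos) (K : ℕ) (hK : ∀ r, P r → pos r < K) (M : List ℕ) (hnd : M.Nodup)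
    (hM : ∀ r, r ∈ M ↔ P r) (hcard : Nat.card (tailGrp x P pos 0) = Fintype.card F ^ M.length)
    {t t' : ℕ → F} (h : RootSys.lprod x M t = RootSys.lprod x M t') : ∀ r ∈ M, t r = t' r := by
  classical
  let ext : ({r // r ∈ M} → F) → ℕ → F := fun f r => if h : r ∈ M then f ⟨r, h⟩ else 0
  let Φ : ({r // r ∈ M} → F) → tailGrp x P pos 0 := fun f =>
    ⟨RootSys.lprod x M (ext f), RootSys.lprod_mem M (fun r hr => (hM r).mp hr) _⟩
  have hsurj : Function.Surjective Φ := by
    rintro ⟨g, hg⟩
    obtain ⟨t, rfl⟩ := H.exists_lprod K hK M hnd hM hg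
    refine ⟨fun r => t r.1, Subtype.ext ?_⟩
    apply lprod_congr
    intro r hr
    simp [ext, hr]
  have hlen : Nat.card {r // r ∈ M} = M.length := by
    rw [Nat.card_eq_fintype_card, Fintype.card_of_subtype M.toFinset (fun x => List.mem_toFinset),
      List.toFinset_card_of_nodup hnd]
  have hc : Nat.card ({r // r ∈ M} → F) ≤ Nat.card (tailGrp x P pos 0) := by
    rw [hcard, Nat.card_fun, Nat.card_eq_fintype_card (α := F), hlen]
  have hbij := hsurj.bijective_of_nat_card_le hc
  have e1 : Φ (fun r : {r // r ∈ M} => t r.1) = Φ (fun r : {r // r ∈ M} => t' r.1) := by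
    apply Subtype.ext
    show RootSys.lprod x M (ext fun r => t r.1) = RootSys.lprod x M (ext fun r => t' r.1)
    have a1 : RootSys.lprod x M (ext fun r => t r.1) = RootSys.lprod x M t :=
      lprod_congr _ _ _ fun r hr => by simp [ext, hr]
    have a2 : RootSys.lprod x M (ext fun r => t' r.1) = RootSys.lprod x M t' :=
      lprod_congr _ _ _ fun r hr => by simp [ext, hr]
    rw [a1, a2, h]
  have e2 : (fun r : {r // r ∈ M} => t r.1) = (fun r : {r // r ∈ M} => t' r.1) := hbij.injective e1
  intro r hr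
  exact congrFun e2 ⟨r, hr⟩

variable {M₀ : List ℕ} {K : ℕ} (B : Base x P pos M₀ K)
include B

/-- Uniqueness of the coordinates along any duplicate-free list of roots. -/
theorem Base.lprod_inj_sub (L : List ℕ) (hnd : L.Nodup) (hL : ∀ r ∈ L, P r) {t t' : ℕ → F}
    (h : RootSys.lprod x L t = RootSys.lprod x L t') : ∀ r ∈ L, t r = t' r := by
  classical
  set R := M₀.filter fun r => r ∉ L with hRdef
  have hndM : (L ++ R).Nodup := by
    rw [List.nodup_append]
    refine ⟨hnd, B.nodup.filter _, ?_⟩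
    intro a ha b hb hab
    subst hab
    have := (List.mem_filter.mp hb).2
    simp at this
    exact this ha
  have hM : ∀ r, r ∈ L ++ R ↔ P r := by
    intro r
    rw [List.mem_append]
    constructor
    · rintro (h1 | h1)
      · exact hL r h1
      · exact (B.mem r).mp (List.mem_filter.mp h1).1
    · intro hr
      by_cases h1 : r ∈ L
      · exact Or.inl h1
      · exact Or.inr (List.mem_filter.mpr ⟨(B.mem r).mpr hr, by simpa using h1⟩)
  have hperm : (L ++ R).Perm M₀ := by
    rw [List.perm_ext_iff_of_nodup hndM B.nodup]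
    intro r
    rw [hM r, B.mem r]
  have hcard : Nat.card (tailGrp x P pos 0) = Fintype.card F ^ (L ++ R).length := by
    rw [hperm.length_eq]; exact B.card
  have hx0 : ∀ r, x r 0 = 1 := B.rs.x_zero
  have key : ∀ s : ℕ → F, RootSys.lprod x (L ++ R) (fun r => if r ∈ L then s r else 0) = RootSys.lprod x L s := by
    intro s
    rw [RootSys.lprod_append, lprod_eq_one hx0 R, mul_one]
    · exact lprod_congr _ _ _ fun r hr => by simp [hr]
    · intro r hr
      have := (List.mem_filter.mp hr).2
      simp at this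
      simp [this]
  have h' : RootSys.lprod x (L ++ R) (fun r => if r ∈ L then t r else 0) =
      RootSys.lprod x (L ++ R) (fun r => if r ∈ L then t' r else 0) := by
    rw [key, key, h]
  intro r hr
  have := lprod_inj B.rs K B.bound (L ++ R) hndM hM hcard h' r (List.mem_append_left _ hr)
  simpa [hr] using this

theorem Base.lprod_disjoint (L₁ L₂ : List ℕ) (hnd : (L₁ ++ L₂).Nodup) (hP : ∀ r ∈ L₁ ++ L₂, P r) {t u : ℕ → F}
    (h : RootSys.lprod x L₁ t = RootSys.lprod x L₂ u) : ∀ r ∈ L₁, t r = 0 := by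
  classical
  have hx0 : ∀ r, x r 0 = 1 := B.rs.x_zero
  have hdis : ∀ r ∈ L₁, r ∉ L₂ := by
    intro r h1 h2
    rw [List.nodup_append] at hnd
    exact hnd.2.2 r h1 r h2 rfl
  have e1 : RootSys.lprod x (L₁ ++ L₂) (fun r => if r ∈ L₁ then t r else 0) = RootSys.lprod x L₁ t := by
    rw [RootSys.lprod_append, lprod_eq_one hx0 L₂, mul_one]
    · exact lprod_congr _ _ _ fun r hr => by simp [hr]
    · intro r hr
      have : r ∉ L₁ := fun h1 => hdis r h1 hr
      simp [this]
  have e2 : RootSys.lprod x (L₁ ++ L₂) (fun r => if r ∈ L₁ then 0 else u r) = RootSys.lprod x L₂ u := by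
    rw [RootSys.lprod_append, lprod_eq_one hx0 L₁, one_mul]
    · apply lprod_congr
      intro r hr
      have : r ∉ L₁ := fun h1 => hdis r h1 hr
      simp [this]
    · intro r hr
      simp [hr]
  have := B.lprod_inj_sub (L₁ ++ L₂) hnd hP (e1.trans (h.trans e2.symm))
  intro r hr
  have h3 := this r (List.mem_append_left _ hr)
  simpa [hr] using h3

/-- A root element lying in the tail after its own position is trivial. -/
theorem Base.x_mem_tail_succ {r : ℕ} (hr : P r) {a : F} (h : x r a ∈ tailGrp x P pos (pos r + 1)) : a = 0 := by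
  classical
  set R := M₀.filter fun s => pos r + 1 ≤ pos s with hRdef
  have hR : ∀ s, s ∈ R ↔ (P s ∧ pos r + 1 ≤ pos s) := by
    intro s
    rw [hRdef, List.mem_filter]
    constructor
    · rintro ⟨h1, h2⟩
      exact ⟨(B.mem s).mp h1, by simpa using h2⟩
    · rintro ⟨h1, h2⟩
      exact ⟨(B.mem s).mpr h1, by simpa using h2⟩
  obtain ⟨v, hv⟩ := tail_exists_lprod B.rs K B.bound (pos r + 1) R (B.nodup.filter _) hR h
  have hnd : ([r] ++ R).Nodup := by
    rw [List.nodup_append]
    refine ⟨List.nodup_singleton r, B.nodup.filter _, ?_⟩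
    intro a ha b hb hab
    rw [List.mem_singleton] at ha
    subst ha
    subst hab
    have := ((hR a).mp hb).2
    omega
  have hP : ∀ s ∈ [r] ++ R, P s := by
    intro s hs
    rcases List.mem_append.mp hs with h1 | h1
    · rw [List.mem_singleton] at h1; subst h1; exact hr
    · exact ((hR s).mp h1).1
  have e : RootSys.lprod x [r] (fun _ => a) = RootSys.lprod x R v := by
    rw [lprod_single]; exact hv
  exact B.lprod_disjoint [r] R hnd hP e r (List.mem_singleton.mpr rfl)

end counting

end Cfsg.Agent.Lib.Helper3.WCl
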