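import Mathlib
import Cfsg.Agent.Lib.Helper3.WCl1
set_option autoImplicit false
set_option linter.unusedSectionVars false

/-! A subgroup `X` of a product of root subgroups which is normalized by the product: extraction of the root
subgroups contained in `X` from products lying in `X`. -/

namespace Cfsg.Agent.Lib.Helper3.WCl

open Cfsg.Agent.Lib.Helper3.ChevU

section
variable {G : Type*} [Group G] {F : Type*} [Field F] [Fintype F]
  {x : ℕ → F → G} {P : ℕ → Prop} {pos : ℕ → ℕ} {M₀ : List ℕ} {K : ℕ} {X : Subgroup G}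

/-- The roots whose root subgroup lies in `X`. -/
def PX (x : ℕ → F → G) (P : ℕ → Prop) (X : Subgroup G) : ℕ → Prop := fun r => P r ∧ ∀ a, x r a ∈ X

/-- The part of `X` in the `m`-th tail is generated by root subgroups. -/
def IHm (x : ℕ → F → G) (P : ℕ → Prop) (pos : ℕ → ℕ) (X : Subgroup G) (m : ℕ) : Prop :=
  ∀ g ∈ X, g ∈ tailGrp x P pos m → g ∈ tailGrp x (PX x P X) pos m

/-- `X` lies in the product of the root subgroups and is normalized by it. -/
structure NormHyp (x : ℕ → F → G) (P : ℕ → Prop) (pos : ℕ → ℕ) (X : Subgroup G) : Prop where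
  le : X ≤ tailGrp x P pos 0
  norm : ∀ u ∈ tailGrp x P pos 0, ∀ g ∈ X, u * g * u⁻¹ ∈ X

theorem px_tail_le (m : ℕ) : tailGrp x (PX x P X) pos m ≤ X := by
  unfold tailGrp
  rw [Subgroup.closure_le]
  rintro g ⟨r, t, hr, -, rfl⟩
  exact hr.2 t

theorem px_tail_le_tail (m : ℕ) : tailGrp x (PX x P X) pos m ≤ tailGrp x P pos m := by
  apply Subgroup.closure_mono
  rintro g ⟨r, t, hr, hm, rfl⟩
  exact ⟨r, t, hr.1, hm, rfl⟩

variable (B : Base x P pos M₀ K) (N : NormHyp x P pos X)
include B N

theorem px_rootSys (k : ℕ) (hIH : ∀ m, k < m → IHm x P pos X m) :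
    RootSys x (fun r => PX x P X r ∧ k ≤ pos r) pos where
  add := B.rs.add
  comm := by
    rintro r s ⟨hr, hk⟩ ⟨hs, -⟩ t u
    rw [tailGrp_restrict, max_eq_right (by omega)]
    apply hIH (pos r + 1) (by omega)
    · exact X.mul_mem (X.inv_mem (X.mul_mem (hr.2 t) (hs.2 u))) (X.mul_mem (hs.2 u) (hr.2 t))
    · exact B.rs.comm r s hr.1 hs.1 t u
  inj := fun r s hr hs h => B.rs.inj r s hr.1.1 hs.1.1 h

theorem px_exists_lprod (m : ℕ) (hIH : ∀ m', m < m' → IHm x P pos X m') (Q : List ℕ) (hnd : Q.Nodup)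
    (hQ : ∀ r, r ∈ Q ↔ (PX x P X r ∧ m ≤ pos r)) {g : G} (hg : g ∈ tailGrp x (PX x P X) pos m) :
    ∃ u : ℕ → F, g = RootSys.lprod x Q u := by
  have hg' : g ∈ tailGrp x (fun r => PX x P X r ∧ m ≤ pos r) pos 0 := by
    rw [tailGrp_restrict, max_eq_left (Nat.zero_le _)]
    exact hg
  exact (px_rootSys B N m hIH).exists_lprod K (fun r hr => B.bound r hr.1.1) Q hnd hQ hg'

open Classical in
theorem strip (t : ℕ → F) : ∀ (L : List ℕ) (g : G), g ∈ tailGrp x P pos 0 → (∀ s ∈ L, P s) →
    g * RootSys.lprod x L t ∈ X → g * RootSys.lprod x (L.filter fun s => ¬ PX x P X s) t ∈ X := by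
  intro L
  induction L with
  | nil => intro g _ _ h; simpa using h
  | cons s L ih =>
    intro g hg hL h
    have hLs : P s := hL s List.mem_cons_self
    have hL' : ∀ q ∈ L, P q := fun q hq => hL q (List.mem_cons_of_mem _ hq)
    rw [RootSys.lprod_cons] at h
    by_cases hs : PX x P X s
    · have e1 : (s :: L).filter (fun s => ¬ PX x P X s) = L.filter fun s => ¬ PX x P X s := by
        rw [List.filter_cons_of_neg]; simpa using hs
      rw [e1]
      apply ih g hg hL'
      have e2 : g * (x s (t s) * RootSys.lprod x L t) =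
          (g * x s (t s) * g⁻¹) * (g * RootSys.lprod x L t) := by group
      rw [e2] at h
      exact (X.mul_mem_cancel_left (N.norm g hg _ (hs.2 _))).mp h
    · have e1 : (s :: L).filter (fun s => ¬ PX x P X s) = s :: L.filter fun s => ¬ PX x P X s := by
        rw [List.filter_cons_of_pos]; simpa using hs
      rw [e1, RootSys.lprod_cons, ← mul_assoc]
      apply ih (g * x s (t s)) (Subgroup.mul_mem _ hg (gen_mem x P pos hLs (Nat.zero_le _) _)) hL'
      rw [mul_assoc]; exact h

/-- Extraction: the roots occurring with a non-zero coordinate in a product lying in `X` have their root subgroup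
in `X`, provided the structure of `X` is known from the level of the product on. -/
theorem extract (m : ℕ) (hIH : ∀ m', m ≤ m' → IHm x P pos X m') (L : List ℕ) (hnd : L.Nodup)
    (hL : ∀ s ∈ L, P s ∧ m ≤ pos s) (t : ℕ → F) (hmem : RootSys.lprod x L t ∈ X) :
    ∀ s ∈ L, t s ≠ 0 → PX x P X s := by
  classical
  intro s hs hts
  by_contra hns
  set L' := L.filter fun s => ¬ PX x P X s with hL'def
  have hsL' : s ∈ L' := List.mem_filter.mpr ⟨hs, by simpa using hns⟩
  have h1 : RootSys.lprod x L' t ∈ X := by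
    have := strip B N t L 1 (Subgroup.one_mem _) (fun q hq => (hL q hq).1) (by rw [one_mul]; exact hmem)
    rw [one_mul] at this
    exact this
  have h2 : RootSys.lprod x L' t ∈ tailGrp x P pos m :=
    lprod_mem_tail m L' (fun q hq => hL q (List.mem_filter.mp hq).1) t
  have h3 := hIH m le_rfl _ h1 h2
  set Q := M₀.filter fun r => PX x P X r ∧ m ≤ pos r with hQdef
  have hQ : ∀ r, r ∈ Q ↔ (PX x P X r ∧ m ≤ pos r) := by
    intro r
    rw [hQdef, List.mem_filter]
    constructor
    · rintro ⟨-, h⟩; simpa using h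
    · intro h; exact ⟨(B.mem r).mpr h.1.1, by simpa using h⟩
  obtain ⟨u, hu⟩ := px_exists_lprod B N m (fun m' hm' => hIH m' (le_of_lt hm')) Q (B.nodup.filter _) hQ h3
  have hnd' : (L' ++ Q).Nodup := by
    rw [List.nodup_append]
    refine ⟨hnd.filter _, B.nodup.filter _, ?_⟩
    intro a ha b hb hab
    subst hab
    have h4 := (List.mem_filter.mp ha).2
    simp only [decide_not, Bool.not_eq_eq_eq_not, Bool.not_true, decide_eq_false_iff_not] at h4
    exact h4 ((hQ a).mp hb).1
  have hP : ∀ q ∈ L' ++ Q, P q := by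
    intro q hq
    rcases List.mem_append.mp hq with h | h
    · exact (hL q (List.mem_filter.mp h).1).1
    · exact ((hQ q).mp h).1.1
  exact hts (B.lprod_disjoint L' Q hnd' hP hu s hsL')

end

end Cfsg.Agent.Lib.Helper3.WCl
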