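import Mathlib
import Cfsg.Agent.Lib.Helper3.WCl2
set_option autoImplicit false
set_option linter.unusedSectionVars false

/-! The key lemma: a subgroup `X` of a product of root subgroups, normalized by the product and by a torus whose
characters on the root subgroups are pairwise non-conjugate, is a product of root subgroups. -/

namespace Cfsg.Agent.Lib.Helper3.WCl

open Cfsg.Agent.Lib.Helper3.ChevU

section
variable {G : Type*} [Group G] {F : Type*} [Field F] [Fintype F]
  {x : ℕ → F → G} {P : ℕ → Prop} {pos : ℕ → ℕ} {M₀ : List ℕ} {K : ℕ} {X : Subgroup G}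
  {I : Type*} {tor : I → G} {χ : I → ℕ → F}

/-- The character of the root `r` generates the field additively. -/
def Full (χ : I → ℕ → F) (r : ℕ) : Prop :=
  ∀ A : AddSubgroup F, (∀ i, ∀ a ∈ A, χ i r * a ∈ A) → (∃ a ∈ A, a ≠ 0) → ∀ a, a ∈ A

/-- The characters of the roots `r` and `s` are not conjugate: there is no non-zero equivariant additive map. -/
def NC (χ : I → ℕ → F) (r s : ℕ) : Prop :=
  ∀ ρ : AddSubgroup (F × F), (∀ i, ∀ p ∈ ρ, (χ i r * p.1, χ i s * p.2) ∈ ρ) → (∀ a, ∃ b, (a, b) ∈ ρ) →
    (∀ b, ((0 : F), b) ∈ ρ → b = 0) → ∀ p ∈ ρ, p.2 = 0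

/-- A family of elements acting on the root subgroups by characters and normalizing `X`. -/
structure TorHyp (x : ℕ → F → G) (P : ℕ → Prop) (X : Subgroup G) (tor : I → G) (χ : I → ℕ → F) : Prop where
  act : ∀ i r, P r → ∀ a, tor i * x r a * (tor i)⁻¹ = x r (χ i r * a)
  norm : ∀ i, ∀ g ∈ X, tor i * g * (tor i)⁻¹ ∈ X

theorem TorHyp.conj_tail (T : TorHyp x P X tor χ) (i : I) {m : ℕ} {z : G} (hz : z ∈ tailGrp x P pos m) :
    tor i * z * (tor i)⁻¹ ∈ tailGrp x P pos m := by
  induction hz using Subgroup.closure_induction with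
  | mem y hy =>
    obtain ⟨r, t, hr, hm, rfl⟩ := hy
    rw [T.act i r hr]
    exact gen_mem x P pos hr hm _
  | one => simp
  | mul a b _ _ iha ihb =>
    have e : tor i * (a * b) * (tor i)⁻¹ = (tor i * a * (tor i)⁻¹) * (tor i * b * (tor i)⁻¹) := by group
    rw [e]; exact Subgroup.mul_mem _ iha ihb
  | inv a _ iha =>
    have e : tor i * a⁻¹ * (tor i)⁻¹ = (tor i * a * (tor i)⁻¹)⁻¹ := by group
    rw [e]; exact Subgroup.inv_mem _ iha

/-- The leading coefficients at `r` of the elements of `X` which are trivial between `r` and level `j`. -/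
def Asub (B : Base x P pos M₀ K) (X : Subgroup G) (r j : ℕ) (hr : P r) : AddSubgroup F where
  carrier := {a | ∃ z ∈ tailGrp x P pos j, x r a * z ∈ X}
  zero_mem' := ⟨1, Subgroup.one_mem _, by rw [B.rs.x_zero, one_mul]; exact X.one_mem⟩
  add_mem' := by
    rintro a b ⟨z, hz, h⟩ ⟨z', hz', h'⟩
    refine ⟨(x r b)⁻¹ * z * x r b * z',
      Subgroup.mul_mem _ (B.rs.conj_mem' (gen_mem x P pos hr (Nat.zero_le _) b) hz) hz', ?_⟩
    have e : x r (a + b) * ((x r b)⁻¹ * z * x r b * z') = (x r a * z) * (x r b * z') := by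
      rw [B.rs.add]; group
    rw [e]; exact X.mul_mem h h'
  neg_mem' := by
    rintro a ⟨z, hz, h⟩
    refine ⟨x r a * z⁻¹ * (x r a)⁻¹,
      B.rs.conj_mem (gen_mem x P pos hr (Nat.zero_le _) a) (Subgroup.inv_mem _ hz), ?_⟩
    have e : x r (-a) * (x r a * z⁻¹ * (x r a)⁻¹) = (x r a * z)⁻¹ := by
      rw [B.rs.x_neg]; group
    rw [e]; exact X.inv_mem h

/-- The pairs of coefficients at `r` and `s` of the elements of `X` which are trivial between `r` and `s`. -/
def Rsub (B : Base x P pos M₀ K) (X : Subgroup G) (r s j : ℕ) (hr : P r) (hs : P s) (hj : pos s = j) :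
    AddSubgroup (F × F) where
  carrier := {p | ∃ z ∈ tailGrp x P pos (j + 1), x r p.1 * x s p.2 * z ∈ X}
  zero_mem' := ⟨1, Subgroup.one_mem _, by
    show x r 0 * x s 0 * 1 ∈ X
    rw [B.rs.x_zero, B.rs.x_zero, one_mul, one_mul]; exact X.one_mem⟩
  add_mem' := by
    rintro ⟨a, b⟩ ⟨a', b'⟩ ⟨z, hz, h⟩ ⟨z', hz', h'⟩
    have hxr : ∀ c, x r c ∈ tailGrp x P pos 0 := fun c => gen_mem x P pos hr (Nat.zero_le _) c
    have hxs : ∀ c, x s c ∈ tailGrp x P pos 0 := fun c => gen_mem x P pos hs (Nat.zero_le _) c
    have hd : (x s b * x r a')⁻¹ * (x r a' * x s b) ∈ tailGrp x P pos (j + 1) := by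
      have := B.rs.comm s r hs hr b a'
      rwa [hj] at this
    have hz1 : (x r a')⁻¹ * z * x r a' ∈ tailGrp x P pos (j + 1) := B.rs.conj_mem' (hxr a') hz
    refine ⟨(x s b')⁻¹ * (((x s b * x r a')⁻¹ * (x r a' * x s b))⁻¹ * ((x r a')⁻¹ * z * x r a')) * x s b' * z',
      Subgroup.mul_mem _ (B.rs.conj_mem' (hxs b') (Subgroup.mul_mem _ (Subgroup.inv_mem _ hd) hz1)) hz', ?_⟩
    have e : x r (a + a') * x s (b + b') *
        ((x s b')⁻¹ * (((x s b * x r a')⁻¹ * (x r a' * x s b))⁻¹ * ((x r a')⁻¹ * z * x r a')) * x s b' * z') =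
        (x r a * x s b * z) * (x r a' * x s b' * z') := by
      rw [B.rs.add, B.rs.add]; group
    show x r (a + a') * x s (b + b') * _ ∈ X
    rw [e]; exact X.mul_mem h h'
  neg_mem' := by
    rintro ⟨a, b⟩ ⟨z, hz, h⟩
    have hxr : ∀ c, x r c ∈ tailGrp x P pos 0 := fun c => gen_mem x P pos hr (Nat.zero_le _) c
    have hxs : ∀ c, x s c ∈ tailGrp x P pos 0 := fun c => gen_mem x P pos hs (Nat.zero_le _) c
    have hc : x r a * x s b * (x r a)⁻¹ * (x s b)⁻¹ ∈ tailGrp x P pos (j + 1) := by
      have := B.rs.comm_gen hs hr b a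
      rwa [hj] at this
    refine ⟨(x s b * x r a) * z⁻¹ * (x s b * x r a)⁻¹ * (x r a * x s b * (x r a)⁻¹ * (x s b)⁻¹)⁻¹,
      Subgroup.mul_mem _ (B.rs.conj_mem (Subgroup.mul_mem _ (hxs b) (hxr a)) (Subgroup.inv_mem _ hz))
        (Subgroup.inv_mem _ hc), ?_⟩
    have e : x r (-a) * x s (-b) *
        ((x s b * x r a) * z⁻¹ * (x s b * x r a)⁻¹ * (x r a * x s b * (x r a)⁻¹ * (x s b)⁻¹)⁻¹) =
        (x r a * x s b * z)⁻¹ := by
      rw [B.rs.x_neg, B.rs.x_neg]; group
    show x r (-a) * x s (-b) * _ ∈ X
    rw [e]; exact X.inv_mem h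

variable (B : Base x P pos M₀ K) (N : NormHyp x P pos X) (T : TorHyp x P X tor χ)
include B N T

theorem tail_top_eq_bot : tailGrp x P pos K = ⊥ := by
  unfold tailGrp
  rw [Subgroup.closure_eq_bot_iff]
  rintro g ⟨q, t, hq, hm, rfl⟩
  exact absurd (B.bound q hq) (by omega)

/-- The key lemma. -/
theorem key_lemma {r : ℕ} (hr : P r) (hIH : ∀ m, pos r < m → IHm x P pos X m)
    {g₀ : G} (hg₀ : g₀ ∈ X) (hg₀k : g₀ ∈ tailGrp x P pos (pos r)) (hg₀n : g₀ ∉ tailGrp x P pos (pos r + 1))
    (hfull : Full χ r)
    (hnc : ∀ s, P s → pos r < pos s → ¬ PX x P X s →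
      (∀ a, ∃ z ∈ tailGrp x P pos (pos s), x r a * z ∈ X) → NC χ r s) :
    ∀ a, x r a ∈ X := by
  classical
  have hxr : ∀ a, x r a ∈ tailGrp x P pos 0 := fun a => gen_mem x P pos hr (Nat.zero_le _) a
  have main : ∀ j, pos r + 1 ≤ j → ∀ a, ∃ z ∈ tailGrp x P pos j, x r a * z ∈ X := by
    intro j hj
    induction j, hj using Nat.le_induction with
    | base =>
      obtain ⟨a₀, z, hz, rfl⟩ := B.rs.split hr rfl hg₀k
      have ha₀ : a₀ ≠ 0 := by
        rintro rfl
        apply hg₀n
        rw [B.rs.x_zero, one_mul]; exact hz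
      intro a
      refine hfull (Asub B X r (pos r + 1) hr) ?_ ⟨a₀, ⟨z, hz, hg₀⟩, ha₀⟩ a
      rintro i a' ⟨z', hz', h'⟩
      refine ⟨tor i * z' * (tor i)⁻¹, T.conj_tail i hz', ?_⟩
      have e : x r (χ i r * a') * (tor i * z' * (tor i)⁻¹) = tor i * (x r a' * z') * (tor i)⁻¹ := by
        rw [← T.act i r hr]; group
      rw [e]; exact T.norm i _ h'
    | succ j hj ih =>
      by_cases hex : ∃ s, P s ∧ pos s = j
      · obtain ⟨s, hs, hsj⟩ := hex
        have hxs : ∀ c, x s c ∈ tailGrp x P pos 0 := fun c => gen_mem x P pos hs (Nat.zero_le _) c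
        by_cases hps : PX x P X s
        · intro a
          obtain ⟨z, hz, h⟩ := ih a
          obtain ⟨b, z', hz', rfl⟩ := B.rs.split hs hsj hz
          refine ⟨z', hz', ?_⟩
          have e : x r a * z' = (x r a * (x s b * z')) * (z'⁻¹ * (x s b)⁻¹ * z'⁻¹⁻¹) := by group
          rw [e]
          exact X.mul_mem h (N.norm _ (Subgroup.inv_mem _ (tailGrp_anti x P pos (Nat.zero_le _) hz')) _
            (X.inv_mem (hps.2 b)))
        · have hNC := hnc s hs (by omega) hps (by rw [hsj]; exact ih)
          have hzero : ∀ p ∈ Rsub B X r s j hr hs hsj, p.2 = 0 := by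
            apply hNC
            · rintro i ⟨a', b'⟩ ⟨z', hz', h'⟩
              refine ⟨tor i * z' * (tor i)⁻¹, T.conj_tail i hz', ?_⟩
              have e : x r (χ i r * a') * x s (χ i s * b') * (tor i * z' * (tor i)⁻¹) =
                  tor i * (x r a' * x s b' * z') * (tor i)⁻¹ := by
                rw [← T.act i r hr, ← T.act i s hs]; group
              show x r (χ i r * a') * x s (χ i s * b') * _ ∈ X
              rw [e]; exact T.norm i _ h'
            · intro a
              obtain ⟨z, hz, h⟩ := ih a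
              obtain ⟨b, z', hz', rfl⟩ := B.rs.split hs hsj hz
              exact ⟨b, z', hz', by show x r a * x s b * z' ∈ X; rw [mul_assoc]; exact h⟩
            · rintro b ⟨z', hz', h'⟩
              have h'' : x s b * z' ∈ X := by
                have : x r (0 : F) * x s b * z' ∈ X := h'
                rwa [B.rs.x_zero, one_mul] at this
              by_contra hb0
              set R := M₀.filter fun q => j + 1 ≤ pos q with hRdef
              have hR : ∀ q, q ∈ R ↔ (P q ∧ j + 1 ≤ pos q) := by
                intro q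
                rw [hRdef, List.mem_filter]
                constructor
                · rintro ⟨h1, h2⟩; exact ⟨(B.mem q).mp h1, by simpa using h2⟩
                · rintro ⟨h1, h2⟩; exact ⟨(B.mem q).mpr h1, by simpa using h2⟩
              obtain ⟨v, hv⟩ := tail_exists_lprod B.rs K B.bound (j + 1) R (B.nodup.filter _) hR hz'
              have hsR : s ∉ R := fun h => by have := ((hR s).mp h).2; omega
              have hnd : (s :: R).Nodup := List.nodup_cons.mpr ⟨hsR, B.nodup.filter _⟩
              have hL : ∀ q ∈ s :: R, P q ∧ j ≤ pos q := by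
                intro q hq
                rcases List.mem_cons.mp hq with h | h
                · subst h; exact ⟨hs, by omega⟩
                · exact ⟨((hR q).mp h).1, by have := ((hR q).mp h).2; omega⟩
              have hprod : RootSys.lprod x (s :: R) (fun q => if q = s then b else v q) = x s b * z' := by
                rw [RootSys.lprod_cons, if_pos rfl, hv]
                congr 1
                apply lprod_congr
                intro q hq
                have : q ≠ s := fun e => hsR (e ▸ hq)
                simp [this]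
              have := extract B N j (fun m' hm' => hIH m' (by omega)) (s :: R) hnd hL
                (fun q => if q = s then b else v q) (by rw [hprod]; exact h'') s List.mem_cons_self
                (by simpa using hb0)
              exact hps this
          intro a
          obtain ⟨z, hz, h⟩ := ih a
          obtain ⟨b, z', hz', rfl⟩ := B.rs.split hs hsj hz
          have hp : ((a, b) : F × F) ∈ Rsub B X r s j hr hs hsj :=
            ⟨z', hz', by show x r a * x s b * z' ∈ X; rw [mul_assoc]; exact h⟩
          have hb : b = 0 := hzero _ hp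
          subst hb
          refine ⟨z', hz', ?_⟩
          rwa [B.rs.x_zero, one_mul] at h
      · rw [← B.rs.tail_succ_of_no_root hex]
        exact ih
  intro a
  obtain ⟨z, hz, h⟩ := main K (by have := B.bound r hr; omega) a
  rw [tail_top_eq_bot B N T, Subgroup.mem_bot] at hz
  rwa [hz, mul_one] at h

/-- The structure theorem: `X` is generated by the root subgroups it contains, level by level. -/
theorem structure_thm (hfull : ∀ r, P r → Full χ r)
    (hnc : ∀ r s, P r → P s → pos r < pos s → ¬ PX x P X s → (∀ m, pos r < m → IHm x P pos X m) →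
      (∀ a, ∃ z ∈ tailGrp x P pos (pos s), x r a * z ∈ X) → NC χ r s) :
    ∀ m, IHm x P pos X m := by
  have key : ∀ d m, K ≤ m + d → IHm x P pos X m := by
    intro d
    induction d with
    | zero =>
      intro m hm g _ hgm
      have : tailGrp x P pos m ≤ tailGrp x P pos K := tailGrp_anti x P pos (by omega)
      have h1 := this hgm
      rw [tail_top_eq_bot B N T, Subgroup.mem_bot] at h1
      rw [h1]; exact Subgroup.one_mem _
    | succ d ih =>
      intro m hm g hgX hgm
      have hIH : ∀ m', m < m' → IHm x P pos X m' := fun m' hm' => ih m' (by omega)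
      by_cases hex : ∃ r, P r ∧ pos r = m
      · obtain ⟨r, hr, hrm⟩ := hex
        subst hrm
        obtain ⟨a, z, hz, rfl⟩ := B.rs.split hr rfl hgm
        by_cases ha : a = 0
        · subst ha
          rw [B.rs.x_zero, one_mul] at hgX ⊢
          exact tailGrp_anti x (PX x P X) pos (Nat.le_succ _) (hIH _ (Nat.lt_succ_self _) z hgX hz)
        · have hgn : x r a * z ∉ tailGrp x P pos (pos r + 1) := by
            intro h
            apply ha
            apply B.x_mem_tail_succ hr
            have : x r a = (x r a * z) * z⁻¹ := by group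
            rw [this]
            exact Subgroup.mul_mem _ h (Subgroup.inv_mem _ hz)
          have hPX := key_lemma B N T hr hIH hgX hgm hgn (hfull r hr)
            (fun s hs hrs hps hA => hnc r s hr hs hrs hps hIH hA)
          have hzX : z ∈ X := by
            have : z = (x r a)⁻¹ * (x r a * z) := by group
            rw [this]
            exact X.mul_mem (X.inv_mem (hPX a)) hgX
          exact Subgroup.mul_mem _ (gen_mem x (PX x P X) pos ⟨hr, hPX⟩ le_rfl a)
            (tailGrp_anti x (PX x P X) pos (Nat.le_succ _) (hIH _ (Nat.lt_succ_self _) z hzX hz))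
      · rw [B.rs.tail_succ_of_no_root hex] at hgm
        exact tailGrp_anti x (PX x P X) pos (Nat.le_succ _) (hIH _ (Nat.lt_succ_self _) g hgX hgm)
  intro m
  exact key K m (by omega)

end

end Cfsg.Agent.Lib.Helper3.WCl
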