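import Mathlib
import Cfsg.Agent.Lib.Helper3.WCl3
set_option autoImplicit false
set_option linter.unusedSectionVars false

/-! Consequences of the structure theorem: `X` is generated by the root subgroups it contains; extraction from
products given by lists of pairs. -/

namespace Cfsg.Agent.Lib.Helper3.WCl

open Cfsg.Agent.Lib.Helper3.ChevU

section
variable {G : Type*} [Group G] {F : Type*} [Field F] [Fintype F]
  {x : ℕ → F → G} {P : ℕ → Prop} {pos : ℕ → ℕ} {M₀ : List ℕ} {K : ℕ} {X : Subgroup G}

theorem eq_px_tail (N : NormHyp x P pos X) (hS : ∀ m, IHm x P pos X m) : X = tailGrp x (PX x P X) pos 0 :=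
  le_antisymm (fun g hg => hS 0 g hg (N.le hg)) (px_tail_le 0)

theorem pair_fun : ∀ (l : List (ℕ × F)), (l.map Prod.fst).Nodup → ∃ t : ℕ → F, ∀ p ∈ l, t p.1 = p.2 := by
  intro l
  induction l with
  | nil => intro _; exact ⟨fun _ => 0, by simp⟩
  | cons p l ih =>
    intro hnd
    rw [List.map_cons, List.nodup_cons] at hnd
    obtain ⟨t, ht⟩ := ih hnd.2
    refine ⟨Function.update t p.1 p.2, ?_⟩
    intro q hq
    rcases List.mem_cons.mp hq with h | h
    · subst h; simp
    · have : q.1 ≠ p.1 := by
        intro e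
        apply hnd.1
        rw [← e]
        exact List.mem_map_of_mem h
      rw [Function.update_of_ne this]
      exact ht q h

/-- Extraction from a product given by a list of pairs with distinct roots, from a given level on. -/
theorem extract_pairs_rel (B : Base x P pos M₀ K) (N : NormHyp x P pos X) (m : ℕ)
    (hIH : ∀ m', m ≤ m' → IHm x P pos X m')
    (l : List (ℕ × F)) (hnd : (l.map Prod.fst).Nodup) (hl : ∀ p ∈ l, P p.1 ∧ m ≤ pos p.1)
    (hmem : (l.map fun p => x p.1 p.2).prod ∈ X) : ∀ p ∈ l, p.2 ≠ 0 → PX x P X p.1 := by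
  obtain ⟨t, ht⟩ := pair_fun l hnd
  have e : RootSys.lprod x (l.map Prod.fst) t = (l.map fun p => x p.1 p.2).prod := by
    unfold RootSys.lprod
    rw [List.map_map]
    congr 1
    apply List.map_congr_left
    intro p hp
    simp [ht p hp]
  intro p hp hp0
  have := extract B N m hIH (l.map Prod.fst) hnd
    (fun s hs => by
      obtain ⟨q, hq, rfl⟩ := List.mem_map.mp hs
      exact hl q hq) t (by rw [e]; exact hmem) p.1 (List.mem_map_of_mem hp)
    (by rw [ht p hp]; exact hp0)
  exact this

/-- Extraction from a product given by a list of pairs with distinct roots. -/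
theorem extract_pairs (B : Base x P pos M₀ K) (N : NormHyp x P pos X) (hS : ∀ m, IHm x P pos X m)
    (l : List (ℕ × F)) (hnd : (l.map Prod.fst).Nodup) (hl : ∀ p ∈ l, P p.1)
    (hmem : (l.map fun p => x p.1 p.2).prod ∈ X) : ∀ p ∈ l, p.2 ≠ 0 → PX x P X p.1 :=
  extract_pairs_rel B N 0 (fun m' _ => hS m') l hnd (fun p hp => ⟨hl p hp, Nat.zero_le _⟩) hmem

/-- An element commuting with the generators of a tail commutes with the tail. -/
theorem tail_commute (m : ℕ) (y : G) (hy : ∀ q, P q → m ≤ pos q → ∀ t, Commute (x q t) y) {z : G}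
    (hz : z ∈ tailGrp x P pos m) : Commute z y := by
  induction hz using Subgroup.closure_induction with
  | mem w hw =>
    obtain ⟨q, t, hq, hm, rfl⟩ := hw
    exact hy q hq hm t
  | one => exact Commute.one_left y
  | mul a b _ _ iha ihb => exact iha.mul_left ihb
  | inv a _ iha => exact iha.inv_left

end

end Cfsg.Agent.Lib.Helper3.WCl
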