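import Mathlib
import Cfsg.Agent.Lib.Helper3.WCl3
set_option autoImplicit false
set_option linter.unusedSectionVars false

/-! Characters of a torus given by a table of exponents: the arithmetic conditions under which they generate the
field and are pairwise non-conjugate. -/

namespace Cfsg.Agent.Lib.Helper3.WCl

open Polynomial in
theorem exists_sq_add_sq {F : Type*} [Field F] [Fintype F] (y : F) : ∃ u v : F, u ^ 2 + v ^ 2 = y := by
  classical
  rcases Nat.mod_two_eq_zero_or_one (Fintype.card F) with h0 | h1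
  · have hc : ringChar F = 2 := FiniteField.even_card_iff_char_two.mpr h0
    obtain ⟨u, hu⟩ := FiniteField.isSquare_of_char_two hc y
    exact ⟨u, 0, by rw [hu]; ring⟩
  · let f : F[X] := X ^ 2
    let g : F[X] := X ^ 2 - C y
    obtain ⟨a, b, hab⟩ : ∃ a b, f.eval a + g.eval b = 0 :=
      @FiniteField.exists_root_sum_quadratic _ _ _ _ f g (degree_X_pow 2) (degree_X_pow_sub_C (by decide) _) h1
    refine ⟨a, b, ?_⟩
    rw [← sub_eq_zero]
    simpa only [f, g, eval_C, eval_X, eval_pow, eval_sub, ← add_sub_assoc] using hab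

section
variable {F : Type*} [Field F]

/-- The character with exponent table `A` of the torus element with parameters `c`, as a unit. -/
def chiU (n : ℕ) (A : ℕ → ℕ → ℤ) (c : ℕ → Fˣ) (r : ℕ) : Fˣ := ((List.range n).map fun i => c i ^ A i r).prod

/-- The character with exponent table `A` of the torus element with parameters `c`. -/
def chiF (n : ℕ) (A : ℕ → ℕ → ℤ) (c : ℕ → Fˣ) (r : ℕ) : F := ((chiU n A c r : Fˣ) : F)

theorem chiU_zpow (n : ℕ) (A : ℕ → ℕ → ℤ) (d : Fˣ) (m : ℕ → ℤ) (r : ℕ) :
    chiU n A (fun i => d ^ m i) r = d ^ ((List.range n).map fun i => m i * A i r).sum := by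
  unfold chiU
  generalize List.range n = l
  induction l with
  | nil => simp
  | cons i l ih =>
    rw [List.map_cons, List.prod_cons, List.map_cons, List.sum_cons, zpow_add, ih, zpow_mul]

theorem sum_ite_range (f : ℕ → ℤ) (i : ℕ) : ∀ n : ℕ,
    ((List.range n).map fun k => (if k = i then (1 : ℤ) else 0) * f k).sum = if i < n then f i else 0 := by
  intro n
  induction n with
  | zero => simp
  | succ n ih =>
    rw [List.range_succ, List.map_append, List.sum_append, ih]
    simp only [List.map_cons, List.map_nil, List.sum_cons, List.sum_nil, add_zero]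
    rcases Nat.lt_trichotomy i n with h | h | h
    · have h1 : n ≠ i := by omega
      have h2 : i < n + 1 := by omega
      simp [h, h1, h2]
    · subst h
      simp
    · have h1 : n ≠ i := by omega
      have h2 : ¬ i < n := by omega
      have h3 : ¬ i < n + 1 := by omega
      simp [h1, h2, h3]

theorem chiU_delta (n : ℕ) (A : ℕ → ℕ → ℤ) (d : Fˣ) (i : ℕ) (hi : i < n) (r : ℕ) :
    chiU n A (fun k => d ^ (if k = i then (1 : ℤ) else 0)) r = d ^ A i r := by
  rw [chiU_zpow, sum_ite_range, if_pos hi]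

end

section
variable {F : Type*} [Field F] [Fintype F]

theorem full_of_two (n : ℕ) (A : ℕ → ℕ → ℤ) (r : ℕ)
    (h : ∃ m : ℕ → ℤ, ((List.range n).map fun i => m i * A i r).sum = 2) : Full (chiF (F := F) n A) r := by
  obtain ⟨m, hm⟩ := h
  rintro S hstab ⟨a₀, ha₀, hne⟩ y
  have hsq : ∀ u : F, u ^ 2 * a₀ ∈ S := by
    intro u
    by_cases hu : u = 0
    · subst hu; simp [S.zero_mem]
    · have := hstab (fun i => (Units.mk0 u hu) ^ m i) a₀ ha₀
      rw [chiF, chiU_zpow, hm] at this
      simpa using this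
  obtain ⟨u, v, huv⟩ := exists_sq_add_sq (y / a₀)
  have : y = u ^ 2 * a₀ + v ^ 2 * a₀ := by rw [← add_mul, huv, div_mul_cancel₀ _ hne]
  rw [this]; exact S.add_mem (hsq u) (hsq v)

theorem nc_of_arith (n : ℕ) (A : ℕ → ℕ → ℤ) (r s : ℕ) (hfull : Full (chiF (F := F) n A) r)
    (h : ¬ ∃ ε : ℤ, ∀ i < n, ((Fintype.card F : ℤ) - 1) ∣ (ε * A i r - A i s)) :
    NC (chiF (F := F) n A) r s := by
  classical
  intro ρ hstab htot hfun
  by_contra hne
  push Not at hne
  obtain ⟨⟨a₀, b₀⟩, hp₀, hb₀⟩ := hne
  simp only at hb₀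
  choose w hw using htot
  have huniq : ∀ a b, (a, b) ∈ ρ → b = w a := by
    intro a b hab
    have := ρ.sub_mem hab (hw a)
    simp only [Prod.mk_sub_mk, sub_self] at this
    exact sub_eq_zero.mp (hfun _ this)
  have hwadd : ∀ a a', w (a + a') = w a + w a' := by
    intro a a'
    have := ρ.add_mem (hw a) (hw a')
    simp only [Prod.mk_add_mk] at this
    exact (huniq _ _ this).symm
  have hweq : ∀ c a, w (chiF n A c r * a) = chiF n A c s * w a := fun c a => (huniq _ _ (hstab c _ (hw a))).symm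
  have hwa₀ : w a₀ = b₀ := (huniq _ _ hp₀).symm
  set φ : F → F := fun y => w (y * a₀) / b₀ with hφ
  have hφ1 : φ 1 = 1 := by simp only [hφ, one_mul, hwa₀]; exact div_self hb₀
  have hφadd : ∀ y y', φ (y + y') = φ y + φ y' := by
    intro y y'; simp only [hφ]; rw [add_mul, hwadd, add_div]
  have hφeq : ∀ c y, φ (chiF n A c r * y) = chiF n A c s * φ y := by
    intro c y; simp only [hφ]; rw [mul_assoc, hweq, mul_div_assoc]
  have hφ0 : φ 0 = 0 := by
    have := hφadd 0 0
    rw [add_zero] at this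
    exact left_eq_add.mp this
  have hφneg : ∀ y, φ (-y) = - φ y := by
    intro y
    have := hφadd y (-y)
    rw [add_neg_cancel, hφ0] at this
    exact (neg_eq_of_add_eq_zero_right this.symm).symm
  let Mset : AddSubgroup F :=
    { carrier := {m | ∀ y, φ (m * y) = φ m * φ y}
      zero_mem' := by intro y; simp [hφ0]
      add_mem' := by
        intro a b ha hb y
        rw [add_mul, hφadd, ha y, hb y, hφadd, add_mul]
      neg_mem' := by
        intro a ha y
        rw [neg_mul, hφneg, ha y, hφneg, neg_mul] }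
  have hM : ∀ m, m ∈ Mset := by
    apply hfull Mset
    · intro c m hm y
      rw [mul_assoc, hφeq, hm y, hφeq, mul_assoc]
    · refine ⟨1, ?_, one_ne_zero⟩
      intro y
      rw [one_mul, hφ1, one_mul]
  have hφmul : ∀ m y, φ (m * y) = φ m * φ y := fun m => hM m
  let Φ : F →*₀ F := { toFun := φ, map_zero' := hφ0, map_one' := hφ1, map_mul' := hφmul }
  have hΦ : ∀ y, Φ y = φ y := fun _ => rfl
  obtain ⟨g, hg⟩ := IsCyclic.exists_generator (α := Fˣ)
  have hord : (orderOf g : ℤ) = (Fintype.card F : ℤ) - 1 := by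
    rw [orderOf_eq_card_of_forall_mem_zpowers hg, Nat.card_eq_fintype_card, Fintype.card_units]
    have : 1 ≤ Fintype.card F := Fintype.card_pos
    omega
  have hgne : φ (g : F) ≠ 0 := by
    intro h0
    have : φ ((g : F) * ((g⁻¹ : Fˣ) : F)) = 1 := by
      rw [← Units.val_mul, mul_inv_cancel, Units.val_one, hφ1]
    rw [hφmul, h0, zero_mul] at this
    exact zero_ne_one this
  obtain ⟨k, hk⟩ := Subgroup.mem_zpowers_iff.mp (hg (Units.mk0 _ hgne))
  apply h
  refine ⟨k, fun i hi => ?_⟩
  rw [← hord, orderOf_dvd_iff_zpow_eq_one]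
  have h1 := hφeq (fun j => g ^ (if j = i then (1 : ℤ) else 0)) 1
  rw [mul_one, hφ1, mul_one, chiF, chiF, chiU_delta n A g i hi, chiU_delta n A g i hi] at h1
  rw [Units.val_zpow_eq_zpow_val, ← hΦ, map_zpow₀, hΦ] at h1
  have h2 : φ (g : F) = ((g ^ k : Fˣ) : F) := by rw [hk]; rfl
  rw [h2, ← Units.val_zpow_eq_zpow_val, ← zpow_mul] at h1
  have h3 : g ^ (k * A i r) = g ^ A i s := Units.ext h1
  rw [zpow_sub, h3, mul_inv_cancel]

end

end Cfsg.Agent.Lib.Helper3.WCl
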