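import Mathlib
import Cfsg.Prelude.Def_ChevStructure
import Cfsg.Agent.Lib.Helper3.WCl4
import Cfsg.Agent.Lib.Helper3.WCl5
import Cfsg.Agent.Lib.Helper3.ChevL3
import Cfsg.Agent.Lib.Helper3.ChevU3
import Cfsg.Agent.Lib.Helper3.ChevP1
set_option autoImplicit false
set_option linter.unusedSectionVars false
open Cfsg Cfsg.Lie

/-! Weakly closed subgroups of the unipotent subgroup of a Chevalley group: the concrete setting. -/

namespace Cfsg.Agent.Lib.Helper3.WCl

open Cfsg.Agent.Lib.Helper3.ChevM Cfsg.Agent.Lib.Helper3 ChevU ChevT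

section
variable {F : Type*} [Field F] [Fintype F] {C : CDatum} {R : RelData C}

/-- The collection system of the positive root subgroups has unique coordinates. -/
theorem base_of_uhyp (Uh : UHyp C R) (hlen : C.D.posRoots.length = C.D.nroots / 2) :
    Base (fun r (t : F) => R.xU r t) C.D.IsPosRoot Uh.hpos C.D.posRoots C.D.nroots where
  rs := Uh.K.rootSys Uh.col Uh.inj
  bound := by
    intro r hr
    have := Uh.inj r hr.1
    simp only [hposCheck, hr, decide_true, Bool.not_true, Bool.false_or, Bool.and_eq_true, decide_eq_true_eq] at this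
    exact this.1
  nodup := nodup_posRoots C.D
  mem := mem_posRoots C.D
  card := by
    rw [← R.posUnipotent_eq_tailGrp Uh.hpos, Uh.card_posUnipotent hlen, hlen]

/-- The torus element with parameters `c`. -/
def torU (R : RelData C) (c : ℕ → Fˣ) : GL C.D.Idx F :=
  R.hListU (List.range C.D.rank) (fun i => ((c i : Fˣ) : F))

theorem torU_mem (c : ℕ → Fˣ) : torU R c ∈ C.D.diagonalSubgroup F :=
  R.hListU_mem _ (fun _ hi => List.mem_range.mp hi) _ (fun _ _ => Units.ne_zero _)

theorem chiF_eq (n : ℕ) (A : ℕ → ℕ → ℤ) (c : ℕ → Fˣ) (r : ℕ) :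
    chiF n A c r = ((List.range n).map fun i => ((c i : Fˣ) : F) ^ A i r).prod := by
  unfold chiF chiU
  generalize List.range n = l
  induction l with
  | nil => simp
  | cons i l ih =>
    rw [List.map_cons, List.prod_cons, Units.val_mul, ih, List.map_cons, List.prod_cons,
      Units.val_zpow_eq_zpow_val]

theorem torU_conj (hdec : ∀ r < C.D.nroots, ∀ s < C.D.nroots, hdecCheck C.D R.pair r s = true)
    (c : ℕ → Fˣ) (s : ℕ) (hs : s < C.D.nroots) (t : F) :
    torU R c * R.xU s t * (torU R c)⁻¹ = R.xU s (chiF C.D.rank C.D.cartan c s * t) := by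
  obtain ⟨c', hc', hdiag, hact⟩ := R.diagonal_mul_x hdec (torU R c) (torU_mem c)
  have hval : ((torU R c : GL C.D.Idx F) : Matrix C.D.Idx C.D.Idx F) =
      Matrix.diagonal (R.torusExp fun i => ((c i : Fˣ) : F)) := by
    unfold torU
    rw [R.hListU_val, R.hProd_eq_diag _ (fun i _ => Units.ne_zero _)]
  have heq : R.torusExp c' = R.torusExp fun i => ((c i : Fˣ) : F) :=
    Matrix.diagonal_injective (hdiag.symm.trans hval)
  have hchi : ((List.range C.D.rank).map fun i => c' i ^ C.D.cartan i s).prod = chiF C.D.rank C.D.cartan c s := by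
    rw [chiF_eq, ← R.torusExp_inr c' ⟨s, hs⟩, heq, R.torusExp_inr]
  have h1 : torU R c * R.xU s t = R.xU s (chiF C.D.rank C.D.cartan c s * t) * torU R c := by
    apply Units.ext
    rw [Units.val_mul, Units.val_mul, R.xU_val, R.xU_val, hact s hs t, hchi]
  rw [h1]; group

section wc
variable (X : Subgroup (GL C.D.Idx F)) (hXU : X ≤ C.D.posUnipotent F)
  (hwc : ∀ g ∈ C.D.group F, X.map (MulAut.conj g).toMonoidHom ≤ C.D.posUnipotent F →
    X.map (MulAut.conj g).toMonoidHom = X)
include hXU hwc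

theorem conj_mem_of_wc {g : GL C.D.Idx F} (hg : g ∈ C.D.group F)
    (hU : ∀ y ∈ X, g * y * g⁻¹ ∈ C.D.posUnipotent F) : ∀ y ∈ X, g * y * g⁻¹ ∈ X := by
  have h1 : X.map (MulAut.conj g).toMonoidHom ≤ C.D.posUnipotent F := by
    rintro _ ⟨y, hy, rfl⟩
    simpa using hU y hy
  have h2 := hwc g hg h1
  intro y hy
  rw [← h2]
  exact ⟨y, hy, by simp⟩

theorem normHyp_of_wc (Uh : UHyp C R) : NormHyp (fun r (t : F) => R.xU r t) C.D.IsPosRoot Uh.hpos X where
  le := by rw [← R.posUnipotent_eq_tailGrp Uh.hpos]; exact hXU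
  norm := by
    intro u hu g hg
    rw [← R.posUnipotent_eq_tailGrp Uh.hpos] at hu
    exact conj_mem_of_wc X hXU hwc (R.posUnipotent_le_group hu)
      (fun y hy => Subgroup.mul_mem _ (Subgroup.mul_mem _ hu (hXU hy)) (Subgroup.inv_mem _ hu)) g hg

theorem torHyp_of_wc (hdec : ∀ r < C.D.nroots, ∀ s < C.D.nroots, hdecCheck C.D R.pair r s = true) :
    TorHyp (fun r (t : F) => R.xU r t) C.D.IsPosRoot X (torU R) (chiF C.D.rank C.D.cartan) where
  act := fun c r hr a => torU_conj hdec c r hr.1 a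
  norm := by
    intro c g hg
    have hn := R.diagonal_le_normalizer_closure (F := F) hdec C.D.IsPosRoot (fun s hs => hs.1) (torU_mem (R := R) c)
    rw [Subgroup.mem_normalizer_iff] at hn
    exact conj_mem_of_wc X hXU hwc (R.diagonalSubgroup_le_group (torU_mem (R := R) c))
      (fun y hy => (hn y).mp (hXU hy)) g hg

end wc

end

end Cfsg.Agent.Lib.Helper3.WCl
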