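import Mathlib
import Cfsg.Prelude.Def_ChevStructure
import Cfsg.Agent.Lib.Helper3.WCl6
import Cfsg.Agent.Lib.Helper3.PJFit2
set_option autoImplicit false
set_option linter.unusedSectionVars false
open Cfsg Cfsg.Lie

/-! Weakly closed subgroups of the unipotent subgroup of a Chevalley group: a subgroup generated by positive root
subgroups which is weakly closed is the unipotent radical of a parabolic subgroup. -/

namespace Cfsg.Agent.Lib.Helper3.WCl

open Cfsg.Agent.Lib.Helper3.ChevM Cfsg.Agent.Lib.Helper3 ChevU ChevT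

/-- For the positive root `r`: either `r` is the fundamental root with index `jw r`, or the reflection in the
fundamental root with index `jw r` lowers `r`, and `r` occurs with coefficient `±1` in the commutator formula of
this fundamental root and the positive root `sw r`. -/
def strCheck (D : ChevalleyDatum) (refl : ℕ → ℕ → ℕ) (jw sw : ℕ → ℕ) (r : ℕ) : Bool :=
  !decide (D.IsPosRoot r) ||
  (decide (jw r < D.rank) &&
   (decide (D.simple (jw r) = r) ||
    (decide (0 < (D.coroot.getD r #[]).getD (jw r) 0) && decide (D.IsPosRoot (refl (jw r) r)) &&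
     decide (refl (jw r) r < r) && decide (D.IsPosRoot (sw r)) && decide (sw r ≠ D.simple (jw r)) &&
     decide (sw r ≠ D.neg (D.simple (jw r))) &&
     decide (((D.commTerms (D.simple (jw r)) (sw r)).map (·.1)).Nodup) &&
     (D.commTerms (D.simple (jw r)) (sw r)).all (fun c => decide (D.IsPosRoot c.1)) &&
     (D.commTerms (D.simple (jw r)) (sw r)).any fun c =>
       decide (c.1 = r) && (decide (c.2.1 = 1) || decide (c.2.1 = -1)))))

theorem strCheck_spec {D : ChevalleyDatum} {refl : ℕ → ℕ → ℕ} {jw sw : ℕ → ℕ} {r : ℕ}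
    (h : strCheck D refl jw sw r = true) (hr : D.IsPosRoot r) :
    jw r < D.rank ∧ (D.simple (jw r) = r ∨
      (0 < (D.coroot.getD r #[]).getD (jw r) 0 ∧ D.IsPosRoot (refl (jw r) r) ∧ refl (jw r) r < r ∧
        D.IsPosRoot (sw r) ∧ sw r ≠ D.simple (jw r) ∧ sw r ≠ D.neg (D.simple (jw r)) ∧
        ((D.commTerms (D.simple (jw r)) (sw r)).map (·.1)).Nodup ∧
        (∀ c ∈ D.commTerms (D.simple (jw r)) (sw r), D.IsPosRoot c.1) ∧
        ∃ c ∈ D.commTerms (D.simple (jw r)) (sw r), c.1 = r ∧ (c.2.1 = 1 ∨ c.2.1 = -1))) := by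
  simp only [strCheck, hr, decide_true, Bool.not_true, Bool.false_or, Bool.and_eq_true, Bool.or_eq_true,
    decide_eq_true_eq, List.all_eq_true, List.any_eq_true] at h
  obtain ⟨h1, h2⟩ := h
  refine ⟨h1, ?_⟩
  rcases h2 with h2 | h2
  · exact Or.inl h2
  · right
    obtain ⟨⟨⟨⟨⟨⟨⟨⟨a1, a2⟩, a3⟩, a4⟩, a5⟩, a6⟩, a7⟩, a8⟩, c, hc, a9⟩ := h2
    exact ⟨a1, a2, a3, a4, a5, a6, a7, a8, c, hc, a9⟩

section
variable {F : Type*} [Field F] [Fintype F] {C : CDatum} {R : RelData C}

/-- The table checks for the third step. -/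
structure StrHyp (C : CDatum) (R : RelData C) where
  U : UHyp C R
  B : BNHyp C R
  L : LeviHyp C R
  len : C.D.posRoots.length = C.D.nroots / 2
  rv : ∀ i < C.D.rank, ∀ s < C.D.nroots, reflVecCheck C.D R.refl L.vec i s = true
  nz : ∀ j < C.D.rank, PJFit.nzCheck C.D j = true
  jw : ℕ → ℕ
  sw : ℕ → ℕ
  str : ∀ r < C.D.nroots, strCheck C.D R.refl jw sw r = true

variable (S : StrHyp C R) (X : Subgroup (GL C.D.Idx F)) (hXU : X ≤ C.D.posUnipotent F)
  (hwc : ∀ g ∈ C.D.group F, X.map (MulAut.conj g).toMonoidHom ≤ C.D.posUnipotent F →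
    X.map (MulAut.conj g).toMonoidHom = X)
  (hS : ∀ m, IHm (fun r (t : F) => R.xU r t) C.D.IsPosRoot S.U.hpos X m)
include hXU hwc hS

/-- The reflection in a fundamental root whose root subgroup is not in `X` permutes the root subgroups in `X`. -/
theorem refl_mem (j : ℕ) (hj : j < C.D.rank)
    (hnj : ¬ PX (fun r (t : F) => R.xU r t) C.D.IsPosRoot X (C.D.simple j)) (s : ℕ)
    (hs : PX (fun r (t : F) => R.xU r t) C.D.IsPosRoot X s) :
    PX (fun r (t : F) => R.xU r t) C.D.IsPosRoot X (R.refl j s) := by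
  have N := normHyp_of_wc X hXU hwc S.U
  have hpos : ∀ q, PX (fun r (t : F) => R.xU r t) C.D.IsPosRoot X q → C.D.IsPosRoot (R.refl j q) := by
    intro q hq
    have hne : q ≠ C.D.simple j := fun e => hnj (e ▸ hq)
    have := S.B.mono.wp j hj q hq.1.1
    simp only [wpCheck, hq.1, hne, ne_eq, not_false_eq_true, decide_true, Bool.and_self, Bool.not_true,
      Bool.false_or, Bool.and_eq_true, decide_eq_true_eq] at this
    exact this.1
  have hconj : ∀ q < C.D.nroots, ∃ η : ℤ, (η = 1 ∨ η = -1) ∧ ∀ t : F,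
      R.nU (C.D.simple j) (1 : F) * R.xU q t * (R.nU (C.D.simple j) (1 : F))⁻¹ = R.xU (R.refl j q) ((η : F) * t) := by
    intro q hq
    obtain ⟨η, hη, h⟩ := R.nMat_mul_x (F := F) j q hj hq
    refine ⟨η, hη, fun t => ?_⟩
    have h1 : R.nU (C.D.simple j) (1 : F) * R.xU q t = R.xU (R.refl j q) ((η : F) * t) * R.nU (C.D.simple j) (1 : F) := by
      apply Units.ext
      rw [Units.val_mul, Units.val_mul, R.nU_val, R.xU_val, R.xU_val, R.refl_eq j hj q hq]
      exact h t
    rw [h1]; group
  have hn : R.nU (C.D.simple j) (1 : F) ∈ C.D.group F := R.monomialSubgroup_le_group (R.nU_simple_mem j hj)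
  have hXeq := eq_px_tail N hS
  have hU : ∀ y ∈ X, R.nU (C.D.simple j) (1 : F) * y * (R.nU (C.D.simple j) (1 : F))⁻¹ ∈ C.D.posUnipotent F := by
    intro y hy
    rw [hXeq] at hy
    induction hy using Subgroup.closure_induction with
    | mem y hy =>
      obtain ⟨q, t, hq, -, rfl⟩ := hy
      obtain ⟨η, -, h⟩ := hconj q hq.1.1
      show R.nU (C.D.simple j) (1 : F) * R.xU q t * _ ∈ _
      rw [h t]
      exact Subgroup.subset_closure ⟨R.refl j q, _, hpos q hq, rfl⟩
    | one => simp
    | mul a b _ _ iha ihb =>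
      have e : R.nU (C.D.simple j) (1 : F) * (a * b) * (R.nU (C.D.simple j) (1 : F))⁻¹ =
          (R.nU (C.D.simple j) (1 : F) * a * (R.nU (C.D.simple j) (1 : F))⁻¹) *
          (R.nU (C.D.simple j) (1 : F) * b * (R.nU (C.D.simple j) (1 : F))⁻¹) := by group
      rw [e]; exact Subgroup.mul_mem _ iha ihb
    | inv a _ iha =>
      have e : R.nU (C.D.simple j) (1 : F) * a⁻¹ * (R.nU (C.D.simple j) (1 : F))⁻¹ =
          (R.nU (C.D.simple j) (1 : F) * a * (R.nU (C.D.simple j) (1 : F))⁻¹)⁻¹ := by group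
      rw [e]; exact Subgroup.inv_mem _ iha
  have hnX := conj_mem_of_wc X hXU hwc hn hU
  refine ⟨hpos s hs, fun b => ?_⟩
  obtain ⟨η, hη, h⟩ := hconj s hs.1.1
  have h1 := hnX _ (hs.2 ((η : F) * b))
  have h2 : R.nU (C.D.simple j) (1 : F) * R.xU s ((η : F) * b) * (R.nU (C.D.simple j) (1 : F))⁻¹ =
      R.xU (R.refl j s) ((η : F) * ((η : F) * b)) := h _
  have h3 : (η : F) * ((η : F) * b) = b := by
    rcases hη with rfl | rfl <;> simp
  rw [h2, h3] at h1
  exact h1

/-- The set of the indices of the fundamental roots whose root subgroup is not in `X`. -/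
def JX (R : RelData C) (X : Subgroup (GL C.D.Idx F)) : Set ℕ :=
  {j | j < C.D.rank ∧ ¬ PX (fun r (t : F) => R.xU r t) C.D.IsPosRoot X (C.D.simple j)}

theorem levR_pos_of_px : ∀ r, PX (fun r (t : F) => R.xU r t) C.D.IsPosRoot X r →
    1 ≤ levR C.D S.L.vec (JX R X) r := by
  intro r
  induction r using Nat.strong_induction_on with
  | _ r ih =>
    intro hP
    by_contra hlt
    have hr := hP.1
    obtain ⟨hj, hcase⟩ := strCheck_spec (S.str r hr.1) hr
    have hnotin : ∀ i, i < C.D.rank → (C.D.coroot.getD r #[]).getD i 0 ≠ 0 → i ∈ JX R X := by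
      intro i hi hne
      by_contra hiJ
      exact hlt (levR_pos (JX R X) (S.L.vs r hr.1) hr (PJFit.not_inRootSub (JX R X) hi hiJ hne))
    rcases hcase with hsimp | ⟨hco, hrefl, hlt', -⟩
    · have hnz := S.nz (S.jw r) hj
      simp only [PJFit.nzCheck, Bool.and_eq_true, decide_eq_true_eq] at hnz
      have hnz2 := hnz.2
      rw [hsimp] at hnz2
      have := hnotin (S.jw r) hj hnz2
      exact this.2 (by rw [hsimp]; exact hP)
    · have hjJ := hnotin (S.jw r) hj (ne_of_gt hco)
      have h1 := refl_mem S X hXU hwc hS (S.jw r) hj hjJ.2 r hP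
      have h2 := ih _ hlt' h1
      rw [S.L.levR_refl S.rv (JX R X) (S.jw r) hj hjJ r hr.1] at h2
      exact hlt h2

theorem px_of_levR_pos (B : Base (fun r (t : F) => R.xU r t) C.D.IsPosRoot S.U.hpos C.D.posRoots C.D.nroots) :
    ∀ r, C.D.IsPosRoot r → 1 ≤ levR C.D S.L.vec (JX R X) r →
      PX (fun r (t : F) => R.xU r t) C.D.IsPosRoot X r := by
  have N := normHyp_of_wc X hXU hwc S.U
  intro r
  induction r using Nat.strong_induction_on with
  | _ r ih =>
    intro hr hlev
    obtain ⟨hj, hcase⟩ := strCheck_spec (S.str r hr.1) hr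
    rcases hcase with hsimp | ⟨hco, hrefl, hlt', hsw, hsw1, hsw2, hnd, hallpos, c₀, hc₀, hc₀r, hc₀c⟩
    · by_contra hP
      have hjJ : S.jw r ∈ JX R X := ⟨hj, by rw [hsimp]; exact hP⟩
      have hin : C.D.InRootSub (JX R X) r := by
        refine ⟨hr.1, fun i hi hiJ => ?_⟩
        have hsc := S.L.sc (S.jw r) hj
        simp only [simpleCorootCheck, Bool.and_eq_true, decide_eq_true_eq, List.all_eq_true, List.mem_range,
          Bool.or_eq_true] at hsc
        have hne : i ≠ S.jw r := fun e => hiJ (e ▸ hjJ)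
        rcases hsc.2 i hi with h1 | h1
        · exact absurd h1 hne
        · rw [← hsimp]; exact h1.1
      have := levR_eq_zero (JX R X) (S.L.vs r hr.1) hin
      omega
    · by_cases hjJ : S.jw r ∈ JX R X
      · have h1 : 1 ≤ levR C.D S.L.vec (JX R X) (R.refl (S.jw r) r) := by
          rw [S.L.levR_refl S.rv (JX R X) (S.jw r) hj hjJ r hr.1]; exact hlev
        have h2 := ih _ hlt' hrefl h1
        have h3 := refl_mem S X hXU hwc hS (S.jw r) hj hjJ.2 _ h2
        have hinv := S.B.mono.inv (S.jw r) hj r hr.1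
        simp only [reflInvCheck, decide_eq_true_eq] at hinv
        rwa [hinv] at h3
      · have hpP : PX (fun r (t : F) => R.xU r t) C.D.IsPosRoot X (C.D.simple (S.jw r)) := by
          by_contra hP
          exact hjJ ⟨hj, hP⟩
        set p := C.D.simple (S.jw r) with hp
        set s := S.sw r with hs
        have e := S.U.K.commF p s hpP.1.1 hsw.1 hsw1 hsw2 (-1 : F) 1
        have e' : R.xU s (1 : F) * R.xU p (-1) = R.xU p (-1) * R.xU s 1 * R.wordU (C.D.commWord F p s (-1) 1) := by
          apply Units.ext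
          simp only [Units.val_mul, R.xU_val, R.wordU_val]
          exact e
        have e2 : (R.xU p (-1 : F) * R.xU s 1)⁻¹ * (R.xU s 1 * R.xU p (-1)) = R.wordU (C.D.commWord F p s (-1) 1) := by
          rw [e']; group
        have hmem : R.wordU (C.D.commWord F p s (-1 : F) 1) ∈ X := by
          rw [← e2]
          have e3 : (R.xU p (-1 : F) * R.xU s 1)⁻¹ * (R.xU s 1 * R.xU p (-1)) =
              ((R.xU s (1 : F))⁻¹ * (R.xU p (-1 : F))⁻¹ * (R.xU s (1 : F))⁻¹⁻¹) * R.xU p (-1) := by group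
          rw [e3]
          have hsU : (R.xU s (1 : F))⁻¹ ∈ tailGrp (fun r (t : F) => R.xU r t) C.D.IsPosRoot S.U.hpos 0 :=
            Subgroup.inv_mem _ (gen_mem _ _ _ hsw (Nat.zero_le _) (1 : F))
          exact X.mul_mem (N.norm _ hsU _ (X.inv_mem (hpP.2 (-1)))) (hpP.2 (-1))
        have hw : ((C.D.commWord F p s (-1 : F) 1).map Prod.fst) = (C.D.commTerms p s).map (·.1) := by
          simp only [ChevalleyDatum.commWord, List.map_map]
          rfl
        have hex := extract_pairs B N hS (C.D.commWord F p s (-1 : F) 1) (by rw [hw]; exact hnd)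
          (by
            intro q hq
            simp only [ChevalleyDatum.commWord, List.mem_map] at hq
            obtain ⟨c, hc, rfl⟩ := hq
            exact hallpos c hc) hmem
        have hq₀ : ((c₀.1, ((c₀.2.1 : ℤ) : F) * (-(-1 : F)) ^ c₀.2.2.1 * (1 : F) ^ c₀.2.2.2) : ℕ × F) ∈
            C.D.commWord F p s (-1 : F) 1 := by
          simp only [ChevalleyDatum.commWord, List.mem_map]
          exact ⟨c₀, hc₀, rfl⟩
        have := hex _ hq₀ (by
          simp only [neg_neg, one_pow, mul_one]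
          rcases hc₀c with h | h <;> rw [h] <;> simp)
        simpa [hc₀r] using this

/-- The third step: `X` is the unipotent radical of a parabolic subgroup. -/
theorem eq_unipotentRadical :
    ∃ J : Set ℕ, (∀ j ∈ J, j < C.D.rank) ∧ X = C.D.unipotentRadical F J := by
  have B := base_of_uhyp (F := F) S.U S.len
  have N := normHyp_of_wc X hXU hwc S.U
  refine ⟨JX R X, fun j hj => hj.1, (eq_px_tail N hS).trans ?_⟩
  unfold ChevalleyDatum.unipotentRadical tailGrp
  congr 1
  ext g
  constructor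
  · rintro ⟨r, t, hr, -, rfl⟩
    have h1 := levR_pos_of_px S X hXU hwc hS r hr
    have h2 := S.L.pos_of_levR_pos (JX R X) r hr.1.1 h1
    exact ⟨r, t, h2.1, h2.2, rfl⟩
  · rintro ⟨r, t, hr, hnr, hg⟩
    have h1 := levR_pos (JX R X) (S.L.vs r hr.1) hr hnr
    exact ⟨r, t, px_of_levR_pos S X hXU hwc hS B r hr h1, Nat.zero_le _, Units.ext hg⟩

end

end Cfsg.Agent.Lib.Helper3.WCl
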