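import Mathlib
import Cfsg.Prelude.Def_ChevStructure
import Cfsg.Agent.Lib.Helper3.WCl7
set_option autoImplicit false
set_option linter.unusedSectionVars false
open Cfsg Cfsg.Lie

/-! Weakly closed subgroups of the unipotent subgroup of a Chevalley group: the main statement, and the arithmetic
conditions on the characters of the roots. -/

namespace Cfsg.Agent.Lib.Helper3.WCl

open Cfsg.Agent.Lib.Helper3.ChevM Cfsg.Agent.Lib.Helper3 ChevU ChevT

section
variable {F : Type*} [Field F] [Fintype F] {C : CDatum} {R : RelData C}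

/-- A weakly closed subgroup of `U` is the unipotent radical of a parabolic subgroup, if the characters of the
roots generate the field and colliding characters are dealt with. -/
theorem wcl_main (S : StrHyp C R) (X : Subgroup (GL C.D.Idx F)) (hXU : X ≤ C.D.posUnipotent F)
    (hwc : ∀ g ∈ C.D.group F, X.map (MulAut.conj g).toMonoidHom ≤ C.D.posUnipotent F →
      X.map (MulAut.conj g).toMonoidHom = X)
    (hfull : ∀ r, C.D.IsPosRoot r → Full (chiF (F := F) C.D.rank C.D.cartan) r)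
    (hnc : Base (fun r (t : F) => R.xU r t) C.D.IsPosRoot S.U.hpos C.D.posRoots C.D.nroots →
      NormHyp (fun r (t : F) => R.xU r t) C.D.IsPosRoot S.U.hpos X →
      ∀ r s, C.D.IsPosRoot r → C.D.IsPosRoot s → S.U.hpos r < S.U.hpos s →
        ¬ PX (fun r (t : F) => R.xU r t) C.D.IsPosRoot X s →
        (∀ m, S.U.hpos r < m → IHm (fun r (t : F) => R.xU r t) C.D.IsPosRoot S.U.hpos X m) →
        (∀ a, ∃ z ∈ tailGrp (fun r (t : F) => R.xU r t) C.D.IsPosRoot S.U.hpos (S.U.hpos s), R.xU r a * z ∈ X) →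
        NC (chiF (F := F) C.D.rank C.D.cartan) r s) :
    ∃ J : Set ℕ, (∀ j ∈ J, j < C.D.rank) ∧ X = C.D.unipotentRadical F J := by
  have B := base_of_uhyp (F := F) S.U S.len
  have N := normHyp_of_wc X hXU hwc S.U
  have T := torHyp_of_wc X hXU hwc S.L.dec
  have hS := structure_thm B N T hfull (hnc B N)
  exact eq_unipotentRadical S X hXU hwc hS

end

section arith
variable {C : CDatum} (R : RelData C)

theorem pair_eq_sum (hdec : ∀ r < C.D.nroots, ∀ s < C.D.nroots, hdecCheck C.D R.pair r s = true)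
    (ρ s : ℕ) (hρ : ρ < C.D.nroots) (hs : s < C.D.nroots) :
    R.pair ρ s = ((List.range C.D.rank).map fun i => (C.D.coroot.getD ρ #[]).getD i 0 * C.D.cartan i s).sum := by
  have h := hdec ρ hρ s hs
  simp only [hdecCheck, decide_eq_true_eq] at h
  rw [h]
  congr 1
  apply List.map_congr_left
  intro i hi
  rw [R.pair_simple i (List.mem_range.mp hi) s hs]

theorem sum_lin (m a b : ℕ → ℤ) (ε : ℤ) : ∀ l : List ℕ,
    (l.map fun i => m i * (ε * a i - b i)).sum = ε * (l.map fun i => m i * a i).sum - (l.map fun i => m i * b i).sum := by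
  intro l
  induction l with
  | nil => simp
  | cons i l ih => simp only [List.map_cons, List.sum_cons, ih]; ring

theorem dvd_pair (hdec : ∀ r < C.D.nroots, ∀ s < C.D.nroots, hdecCheck C.D R.pair r s = true)
    (N ε : ℤ) (r s : ℕ) (hr : r < C.D.nroots) (hs : s < C.D.nroots)
    (h : ∀ i < C.D.rank, N ∣ ε * C.D.cartan i r - C.D.cartan i s) (ρ : ℕ) (hρ : ρ < C.D.nroots) :
    N ∣ ε * R.pair ρ r - R.pair ρ s := by
  rw [pair_eq_sum R hdec ρ r hρ hr, pair_eq_sum R hdec ρ s hρ hs, ← sum_lin]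
  apply List.dvd_sum
  intro x hx
  obtain ⟨i, hi, rfl⟩ := List.mem_map.mp hx
  exact Dvd.dvd.mul_left (h i (List.mem_range.mp hi)) _

/-- For fields with more than five elements the characters of two distinct positive roots do not collide. -/
theorem anc_large (hdec : ∀ r < C.D.nroots, ∀ s < C.D.nroots, hdecCheck C.D R.pair r s = true)
    (N : ℤ) (hN : 5 ≤ N) (r s : ℕ) (hr : r < C.D.nroots) (hs : s < C.D.nroots)
    (hrr : R.pair r r = 2) (hss : R.pair s s = 2)
    (h0 : 0 ≤ R.pair r s * R.pair s r) (h3 : R.pair r s * R.pair s r ≤ 3) :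
    ¬ ∃ ε : ℤ, ∀ i < C.D.rank, N ∣ ε * C.D.cartan i r - C.D.cartan i s := by
  rintro ⟨ε, h⟩
  have h1 := dvd_pair R hdec N ε r s hr hs h r hr
  have h2 := dvd_pair R hdec N ε r s hr hs h s hs
  rw [hrr] at h1
  rw [hss] at h2
  have h4 : N ∣ 4 - R.pair r s * R.pair s r := by
    have : 4 - R.pair r s * R.pair s r = R.pair s r * (ε * 2 - R.pair r s) - 2 * (ε * R.pair s r - 2) := by ring
    rw [this]
    exact dvd_sub (Dvd.dvd.mul_left h1 _) (Dvd.dvd.mul_left h2 _)
  have h5 := Int.le_of_dvd (by omega) h4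
  omega

/-- For small fields the collisions are excluded by a finite check. -/
theorem anc_small (N : ℕ) (hN : 0 < N) (r s : ℕ)
    (hchk : ∀ ε' < N, ∃ i < C.D.rank, ¬ (N : ℤ) ∣ (ε' : ℤ) * C.D.cartan i r - C.D.cartan i s) :
    ¬ ∃ ε : ℤ, ∀ i < C.D.rank, (N : ℤ) ∣ ε * C.D.cartan i r - C.D.cartan i s := by
  rintro ⟨ε, h⟩
  have hpos : (0 : ℤ) < N := by exact_mod_cast hN
  have h1 : 0 ≤ ε % N := Int.emod_nonneg _ (ne_of_gt hpos)
  have h2 : ε % N < N := Int.emod_lt_of_pos _ hpos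
  obtain ⟨i, hi, hni⟩ := hchk (ε % N).toNat (by omega)
  apply hni
  rw [Int.toNat_of_nonneg h1]
  have h3 : (N : ℤ) ∣ ε % N - ε := by
    have := Int.emod_add_mul_ediv ε N
    exact ⟨-(ε / N), by linarith⟩
  have h4 : ε % N * C.D.cartan i r - C.D.cartan i s =
      (ε % N - ε) * C.D.cartan i r + (ε * C.D.cartan i r - C.D.cartan i s) := by ring
  rw [h4]
  exact dvd_add (Dvd.dvd.mul_right h3 _) (h i hi)

/-- The check of `anc_small` in terms of the pairing table. -/
def ancChk (D : ChevalleyDatum) (pair : ℕ → ℕ → ℤ) (N : ℕ) (r s : ℕ) : Bool :=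
  decide (r = s) || (List.range N).all fun ε => (List.range D.rank).any fun i =>
    decide (((ε : ℤ) * pair (D.simple i) r - pair (D.simple i) s) % (N : ℤ) ≠ 0)

theorem ancChk_spec (N : ℕ) (r s : ℕ) (hr : r < C.D.nroots) (hs : s < C.D.nroots) (hrs : r ≠ s)
    (h : ancChk C.D R.pair N r s = true) :
    ∀ ε' < N, ∃ i < C.D.rank, ¬ (N : ℤ) ∣ (ε' : ℤ) * C.D.cartan i r - C.D.cartan i s := by
  simp only [ancChk, hrs, decide_false, Bool.false_or, List.all_eq_true, List.mem_range, List.any_eq_true,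
    decide_eq_true_eq] at h
  intro ε' hε'
  obtain ⟨i, hi, hne⟩ := h ε' hε'
  refine ⟨i, hi, ?_⟩
  rw [R.pair_simple i hi r hr, R.pair_simple i hi s hs] at hne
  intro hd
  exact hne (Int.emod_eq_zero_of_dvd hd)

/-- The check of `anc_large`. -/
def genChk (pair : ℕ → ℕ → ℤ) (r s : ℕ) : Bool :=
  decide (r = s) || (decide (0 ≤ pair r s * pair s r) && decide (pair r s * pair s r ≤ 3))

theorem genChk_spec {pair : ℕ → ℕ → ℤ} {r s : ℕ} (hrs : r ≠ s) (h : genChk pair r s = true) :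
    0 ≤ pair r s * pair s r ∧ pair r s * pair s r ≤ 3 := by
  simpa [genChk, hrs] using h

end arith

section
variable {F : Type*} [Field F] [Fintype F] {C : CDatum} {R : RelData C}

theorem full_of_pair (hdec : ∀ r < C.D.nroots, ∀ s < C.D.nroots, hdecCheck C.D R.pair r s = true)
    (r : ℕ) (hr : r < C.D.nroots) (hrr : R.pair r r = 2) : Full (chiF (F := F) C.D.rank C.D.cartan) r := by
  apply full_of_two
  refine ⟨fun i => (C.D.coroot.getD r #[]).getD i 0, ?_⟩
  rw [← pair_eq_sum R hdec r r hr hr, hrr]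

end

section generic
variable {F : Type*} [Field F] [Fintype F] {C : CDatum} {R : RelData C}

/-- The main statement when no two characters of positive roots collide. -/
theorem wcl_generic (S : StrHyp C R) (lo : ℕ) (hlo : ∀ r, C.D.IsPosRoot r → lo ≤ r)
    (hself : ∀ r, lo ≤ r → r < C.D.nroots → R.pair r r = 2)
    (hanc : ∀ r s, lo ≤ r → r < C.D.nroots → lo ≤ s → s < C.D.nroots → r ≠ s →
      ¬ ∃ ε : ℤ, ∀ i < C.D.rank, ((Fintype.card F : ℤ) - 1) ∣ ε * C.D.cartan i r - C.D.cartan i s)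
    (X : Subgroup (GL C.D.Idx F)) (hXU : X ≤ C.D.posUnipotent F)
    (hwc : ∀ g ∈ C.D.group F, X.map (MulAut.conj g).toMonoidHom ≤ C.D.posUnipotent F →
      X.map (MulAut.conj g).toMonoidHom = X) :
    ∃ J : Set ℕ, (∀ j ∈ J, j < C.D.rank) ∧ X = C.D.unipotentRadical F J := by
  apply wcl_main S X hXU hwc
  · intro r hr
    exact full_of_pair S.L.dec r hr.1 (hself r (hlo r hr) hr.1)
  · intro _ _ r s hr hs hlt _ _ _
    have hne : r ≠ s := by rintro rfl; exact lt_irrefl _ hlt
    exact nc_of_arith _ _ r s (full_of_pair S.L.dec r hr.1 (hself r (hlo r hr) hr.1))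
      (hanc r s (hlo r hr) hr.1 (hlo s hs) hs.1 hne)

theorem anc_of_checks (R : RelData C)
    (hdec : ∀ r < C.D.nroots, ∀ s < C.D.nroots, hdecCheck C.D R.pair r s = true) (lo : ℕ)
    (hself : ∀ r, lo ≤ r → r < C.D.nroots → R.pair r r = 2)
    (hgen : ∀ r s, lo ≤ r → r < C.D.nroots → lo ≤ s → s < C.D.nroots → genChk R.pair r s = true)
    (q : ℕ) (hq2 : 2 < q)
    (hsmall : q ≤ 5 → ∀ r s, lo ≤ r → r < C.D.nroots → lo ≤ s → s < C.D.nroots →
      ancChk C.D R.pair (q - 1) r s = true) :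
    ∀ r s, lo ≤ r → r < C.D.nroots → lo ≤ s → s < C.D.nroots → r ≠ s →
      ¬ ∃ ε : ℤ, ∀ i < C.D.rank, ((q : ℤ) - 1) ∣ ε * C.D.cartan i r - C.D.cartan i s := by
  intro r s hr1 hr2 hs1 hs2 hrs
  by_cases hq : q ≤ 5
  · have hcast : (((q - 1 : ℕ)) : ℤ) = (q : ℤ) - 1 := by
      rw [Nat.cast_sub (by omega)]; simp
    rw [← hcast]
    exact anc_small (q - 1) (by omega) r s (ancChk_spec R (q - 1) r s hr2 hs2 hrs (hsmall hq r s hr1 hr2 hs1 hs2))
  · have hg := genChk_spec hrs (hgen r s hr1 hr2 hs1 hs2)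
    exact anc_large R hdec ((q : ℤ) - 1) (by omega) r s hr2 hs2 (hself r hr1 hr2) (hself s hs1 hs2) hg.1 hg.2

end generic

end Cfsg.Agent.Lib.Helper3.WCl
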