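import Mathlib
import Cfsg.Agent.Lib.Helper3.WCl8
import Cfsg.Agent.Lib.Helper3.ChevData.B2UHyp
import Cfsg.Agent.Lib.Helper3.ChevData.B2Bn
import Cfsg.Agent.Lib.Helper3.ChevData.B2Levi
import Cfsg.Agent.Lib.Helper3.ChevData.B2Rv
set_option autoImplicit false
set_option maxRecDepth 1000000
open Cfsg Cfsg.Lie

/-! Weakly closed subgroups of the unipotent subgroup: the table checks for type B2. -/

namespace Cfsg.Agent.Lib.Helper3.WCl

open Cfsg.Agent.Lib.Helper3.ChevM

/-- The fundamental root lowering a positive root of type B2. -/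
def jwB2 (r : ℕ) : ℕ := (#[0, 0, 0, 0, 1, 0, 1, 0] : Array ℕ).getD r 0

/-- The positive root whose commutator with the fundamental root `jwB2 r` involves `r` with coefficient `±1`. -/
def swB2 (r : ℕ) : ℕ := (#[0, 0, 0, 0, 0, 0, 5, 4] : Array ℕ).getD r 0

theorem strB2A : allRange 0 8 (fun r => strCheck Cfsg.Lie.chevB2 reflB2 jwB2 swB2 r) = true := by
  decide +kernel

/-- The table checks of the third step for type B2. -/
def strHypB2 : StrHyp cdB2 relB2 where
  U := uhypB2
  B := bnB2
  L := leviB2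
  len := by decide +kernel
  rv := of_pairRange (m := 2) (n := 8) b2Rv
  nz := by decide +kernel
  jw := jwB2
  sw := swB2
  str := fun r hr => allRange_spec strB2A r (Nat.zero_le _) hr

theorem loB2 : ∀ r, cdB2.D.IsPosRoot r → 4 ≤ r := by
  have h : allRange 0 8 (fun r => !decide (Cfsg.Lie.chevB2.IsPosRoot r) || decide (4 ≤ r)) = true := by
    decide +kernel
  intro r hr
  have h1 := allRange_spec h r (Nat.zero_le _) hr.1
  have hr' : Cfsg.Lie.chevB2.IsPosRoot r := hr
  simpa [hr'] using h1

theorem selfB2 : ∀ r, 4 ≤ r → r < cdB2.D.nroots → relB2.pair r r = 2 := by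
  have h : allRange 4 8 (fun r => decide (pairB2 r r = 2)) = true := by decide +kernel
  intro r h1 h2
  have := allRange_spec h r h1 h2
  simp only [decide_eq_true_eq] at this
  exact this

theorem genB2 : ∀ r s, 4 ≤ r → r < cdB2.D.nroots → 4 ≤ s → s < cdB2.D.nroots →
    genChk relB2.pair r s = true := by
  have h : allRange 0 16 (fun k => genChk pairB2 (4 + k / 4) (4 + k % 4)) = true := by
    decide +kernel
  have h' := of_pairRange (m := 4) (n := 4) (f := fun i s => genChk pairB2 (4 + i) (4 + s))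
    (fun k hk => allRange_spec h k (Nat.zero_le _) hk)
  intro r s h1 h2 h3 h4
  have h2' : r < 8 := h2
  have h4' : s < 8 := h4
  have := h' (r - 4) (by omega) (s - 4) (by omega)
  rwa [show 4 + (r - 4) = r by omega, show 4 + (s - 4) = s by omega] at this

theorem anc3B2 : ∀ r s, 4 ≤ r → r < cdB2.D.nroots → 4 ≤ s → s < cdB2.D.nroots →
    ancChk cdB2.D relB2.pair 3 r s = true := by
  have h : allRange 0 16 (fun k => ancChk Cfsg.Lie.chevB2 pairB2 3 (4 + k / 4) (4 + k % 4)) = true := by
    decide +kernel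
  have h' := of_pairRange (m := 4) (n := 4) (f := fun i s => ancChk Cfsg.Lie.chevB2 pairB2 3 (4 + i) (4 + s))
    (fun k hk => allRange_spec h k (Nat.zero_le _) hk)
  intro r s h1 h2 h3 h4
  have h2' : r < 8 := h2
  have h4' : s < 8 := h4
  have := h' (r - 4) (by omega) (s - 4) (by omega)
  rwa [show 4 + (r - 4) = r by omega, show 4 + (s - 4) = s by omega] at this

theorem anc4B2 : ∀ r s, 4 ≤ r → r < cdB2.D.nroots → 4 ≤ s → s < cdB2.D.nroots →
    ancChk cdB2.D relB2.pair 4 r s = true := by
  have h : allRange 0 16 (fun k => ancChk Cfsg.Lie.chevB2 pairB2 4 (4 + k / 4) (4 + k % 4)) = true := by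
    decide +kernel
  have h' := of_pairRange (m := 4) (n := 4) (f := fun i s => ancChk Cfsg.Lie.chevB2 pairB2 4 (4 + i) (4 + s))
    (fun k hk => allRange_spec h k (Nat.zero_le _) hk)
  intro r s h1 h2 h3 h4
  have h2' : r < 8 := h2
  have h4' : s < 8 := h4
  have := h' (r - 4) (by omega) (s - 4) (by omega)
  rwa [show 4 + (r - 4) = r by omega, show 4 + (s - 4) = s by omega] at this

/-- Weakly closed subgroups of `U` for type B2. -/
theorem wclB2 {F : Type*} [Field F] [Fintype F] (h2 : Fintype.card F ≠ 2) (h3 : Fintype.card F ≠ 3)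
    (X : Subgroup (GL cdB2.D.Idx F)) (hXU : X ≤ cdB2.D.posUnipotent F)
    (hwc : ∀ g ∈ cdB2.D.group F, X.map (MulAut.conj g).toMonoidHom ≤ cdB2.D.posUnipotent F →
      X.map (MulAut.conj g).toMonoidHom = X) :
    ∃ J : Set ℕ, (∀ j ∈ J, j < cdB2.D.rank) ∧ X = cdB2.D.unipotentRadical F J := by
  have h1 : 1 < Fintype.card F := Fintype.one_lt_card
  refine wcl_generic strHypB2 4 loB2 selfB2 ?_ X hXU hwc
  generalize hq : Fintype.card F = q at h1 h2 h3 
  refine anc_of_checks relB2 leviB2.dec 4 selfB2 genB2 q (by omega) ?_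
  intro hq5
  have hq3 : 4 ≤ q := by omega
  interval_cases q
  · exact anc3B2
  · exact anc4B2

end Cfsg.Agent.Lib.Helper3.WCl
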