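import Mathlib
import Cfsg.Agent.Lib.Helper3.WCl8
import Cfsg.Agent.Lib.Helper3.ChevData.D4UHyp
import Cfsg.Agent.Lib.Helper3.ChevData.D4Bn
import Cfsg.Agent.Lib.Helper3.ChevData.D4Levi
import Cfsg.Agent.Lib.Helper3.ChevData.D4Rv
set_option autoImplicit false
set_option maxRecDepth 1000000
open Cfsg Cfsg.Lie

/-! Weakly closed subgroups of the unipotent subgroup: the table checks for type D4. -/

namespace Cfsg.Agent.Lib.Helper3.WCl

open Cfsg.Agent.Lib.Helper3.ChevM

/-- The fundamental root lowering a positive root of type D4. -/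
def jwD4 (r : ℕ) : ℕ := (#[0, 0, 0, 0, 0, 0, 0, 0, 0, 0, 0, 0, 3, 2, 1, 1, 1, 2, 0, 0, 0, 0, 0, 1] : Array ℕ).getD r 0

/-- The positive root whose commutator with the fundamental root `jwD4 r` involves `r` with coefficient `±1`. -/
def swD4 (r : ℕ) : ℕ := (#[0, 0, 0, 0, 0, 0, 0, 0, 0, 0, 0, 0, 0, 0, 0, 12, 13, 15, 0, 14, 15, 16, 17, 22] : Array ℕ).getD r 0

theorem strD4A : allRange 0 24 (fun r => strCheck Cfsg.Lie.chevD4 reflD4 jwD4 swD4 r) = true := by
  decide +kernel

/-- The table checks of the third step for type D4. -/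
def strHypD4 : StrHyp cdD4 relD4 where
  U := uhypD4
  B := bnD4
  L := leviD4
  len := by decide +kernel
  rv := of_pairRange (m := 4) (n := 24) d4Rv
  nz := by decide +kernel
  jw := jwD4
  sw := swD4
  str := fun r hr => allRange_spec strD4A r (Nat.zero_le _) hr

theorem loD4 : ∀ r, cdD4.D.IsPosRoot r → 12 ≤ r := by
  have h : allRange 0 24 (fun r => !decide (Cfsg.Lie.chevD4.IsPosRoot r) || decide (12 ≤ r)) = true := by
    decide +kernel
  intro r hr
  have h1 := allRange_spec h r (Nat.zero_le _) hr.1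
  have hr' : Cfsg.Lie.chevD4.IsPosRoot r := hr
  simpa [hr'] using h1

theorem selfD4 : ∀ r, 12 ≤ r → r < cdD4.D.nroots → relD4.pair r r = 2 := by
  have h : allRange 12 24 (fun r => decide (pairD4 r r = 2)) = true := by decide +kernel
  intro r h1 h2
  have := allRange_spec h r h1 h2
  simp only [decide_eq_true_eq] at this
  exact this

theorem genD4 : ∀ r s, 12 ≤ r → r < cdD4.D.nroots → 12 ≤ s → s < cdD4.D.nroots →
    genChk relD4.pair r s = true := by
  have h : allRange 0 144 (fun k => genChk pairD4 (12 + k / 12) (12 + k % 12)) = true := by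
    decide +kernel
  have h' := of_pairRange (m := 12) (n := 12) (f := fun i s => genChk pairD4 (12 + i) (12 + s))
    (fun k hk => allRange_spec h k (Nat.zero_le _) hk)
  intro r s h1 h2 h3 h4
  have h2' : r < 24 := h2
  have h4' : s < 24 := h4
  have := h' (r - 12) (by omega) (s - 12) (by omega)
  rwa [show 12 + (r - 12) = r by omega, show 12 + (s - 12) = s by omega] at this

theorem anc3D4 : ∀ r s, 12 ≤ r → r < cdD4.D.nroots → 12 ≤ s → s < cdD4.D.nroots →
    ancChk cdD4.D relD4.pair 3 r s = true := by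
  have h : allRange 0 144 (fun k => ancChk Cfsg.Lie.chevD4 pairD4 3 (12 + k / 12) (12 + k % 12)) = true := by
    decide +kernel
  have h' := of_pairRange (m := 12) (n := 12) (f := fun i s => ancChk Cfsg.Lie.chevD4 pairD4 3 (12 + i) (12 + s))
    (fun k hk => allRange_spec h k (Nat.zero_le _) hk)
  intro r s h1 h2 h3 h4
  have h2' : r < 24 := h2
  have h4' : s < 24 := h4
  have := h' (r - 12) (by omega) (s - 12) (by omega)
  rwa [show 12 + (r - 12) = r by omega, show 12 + (s - 12) = s by omega] at this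

theorem anc4D4 : ∀ r s, 12 ≤ r → r < cdD4.D.nroots → 12 ≤ s → s < cdD4.D.nroots →
    ancChk cdD4.D relD4.pair 4 r s = true := by
  have h : allRange 0 144 (fun k => ancChk Cfsg.Lie.chevD4 pairD4 4 (12 + k / 12) (12 + k % 12)) = true := by
    decide +kernel
  have h' := of_pairRange (m := 12) (n := 12) (f := fun i s => ancChk Cfsg.Lie.chevD4 pairD4 4 (12 + i) (12 + s))
    (fun k hk => allRange_spec h k (Nat.zero_le _) hk)
  intro r s h1 h2 h3 h4
  have h2' : r < 24 := h2
  have h4' : s < 24 := h4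
  have := h' (r - 12) (by omega) (s - 12) (by omega)
  rwa [show 12 + (r - 12) = r by omega, show 12 + (s - 12) = s by omega] at this

/-- Weakly closed subgroups of `U` for type D4. -/
theorem wclD4 {F : Type*} [Field F] [Fintype F] (h2 : Fintype.card F ≠ 2) (h3 : Fintype.card F ≠ 3)
    (X : Subgroup (GL cdD4.D.Idx F)) (hXU : X ≤ cdD4.D.posUnipotent F)
    (hwc : ∀ g ∈ cdD4.D.group F, X.map (MulAut.conj g).toMonoidHom ≤ cdD4.D.posUnipotent F →
      X.map (MulAut.conj g).toMonoidHom = X) :
    ∃ J : Set ℕ, (∀ j ∈ J, j < cdD4.D.rank) ∧ X = cdD4.D.unipotentRadical F J := by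
  have h1 : 1 < Fintype.card F := Fintype.one_lt_card
  refine wcl_generic strHypD4 12 loD4 selfD4 ?_ X hXU hwc
  generalize hq : Fintype.card F = q at h1 h2 h3 
  refine anc_of_checks relD4 leviD4.dec 12 selfD4 genD4 q (by omega) ?_
  intro hq5
  have hq3 : 4 ≤ q := by omega
  interval_cases q
  · exact anc3D4
  · exact anc4D4

end Cfsg.Agent.Lib.Helper3.WCl
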