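import Mathlib
import Cfsg.Agent.Lib.Helper3.WCl8
import Cfsg.Agent.Lib.Helper3.ChevData.E6UHyp
import Cfsg.Agent.Lib.Helper3.ChevData.E6Bn
import Cfsg.Agent.Lib.Helper3.ChevData.E6Levi
import Cfsg.Agent.Lib.Helper3.ChevData.E6Rv
set_option autoImplicit false
set_option maxRecDepth 1000000
open Cfsg Cfsg.Lie

/-! Weakly closed subgroups of the unipotent subgroup: the table checks for type E6. -/

namespace Cfsg.Agent.Lib.Helper3.WCl

open Cfsg.Agent.Lib.Helper3.ChevM

/-- The fundamental root lowering a positive root of type E6. -/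
def jwE6 (r : ℕ) : ℕ := (#[0, 0, 0, 0, 0, 0, 0, 0, 0, 0, 0, 0, 0, 0, 0, 0, 0, 0, 0, 0, 0, 0, 0, 0, 0, 0, 0, 0, 0, 0, 0, 0, 0, 0, 0, 0, 5, 4, 4, 3, 3, 3, 2, 2, 2, 2, 1, 1, 1, 1, 1, 1, 1, 3, 3, 4, 0, 0, 0, 0, 0, 0, 0, 0, 0, 0, 0, 2, 2, 2, 3, 1] : Array ℕ).getD r 0

/-- The positive root whose commutator with the fundamental root `jwE6 r` involves `r` with coefficient `±1`. -/
def swE6 (r : ℕ) : ℕ := (#[0, 0, 0, 0, 0, 0, 0, 0, 0, 0, 0, 0, 0, 0, 0, 0, 0, 0, 0, 0, 0, 0, 0, 0, 0, 0, 0, 0, 0, 0, 0, 0, 0, 0, 0, 0, 0, 0, 36, 0, 37, 38, 0, 39, 40, 41, 0, 39, 40, 41, 43, 44, 45, 51, 52, 54, 0, 42, 43, 44, 45, 50, 51, 52, 53, 54, 55, 64, 65, 66, 69, 70] : Array ℕ).getD r 0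

theorem strE6A : allRange 0 72 (fun r => strCheck Cfsg.Lie.chevE6 reflE6 jwE6 swE6 r) = true := by
  decide +kernel

/-- The table checks of the third step for type E6. -/
def strHypE6 : StrHyp cdE6 relE6 where
  U := uhypE6
  B := bnE6
  L := leviE6
  len := by decide +kernel
  rv := of_pairRange (m := 6) (n := 72) e6Rv
  nz := by decide +kernel
  jw := jwE6
  sw := swE6
  str := fun r hr => allRange_spec strE6A r (Nat.zero_le _) hr

theorem loE6 : ∀ r, cdE6.D.IsPosRoot r → 36 ≤ r := by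
  have h : allRange 0 72 (fun r => !decide (Cfsg.Lie.chevE6.IsPosRoot r) || decide (36 ≤ r)) = true := by
    decide +kernel
  intro r hr
  have h1 := allRange_spec h r (Nat.zero_le _) hr.1
  have hr' : Cfsg.Lie.chevE6.IsPosRoot r := hr
  simpa [hr'] using h1

theorem selfE6 : ∀ r, 36 ≤ r → r < cdE6.D.nroots → relE6.pair r r = 2 := by
  have h : allRange 36 72 (fun r => decide (pairE6 r r = 2)) = true := by decide +kernel
  intro r h1 h2
  have := allRange_spec h r h1 h2
  simp only [decide_eq_true_eq] at this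
  exact this

theorem genE6 : ∀ r s, 36 ≤ r → r < cdE6.D.nroots → 36 ≤ s → s < cdE6.D.nroots →
    genChk relE6.pair r s = true := by
  have h : allRange 0 1296 (fun k => genChk pairE6 (36 + k / 36) (36 + k % 36)) = true := by
    decide +kernel
  have h' := of_pairRange (m := 36) (n := 36) (f := fun i s => genChk pairE6 (36 + i) (36 + s))
    (fun k hk => allRange_spec h k (Nat.zero_le _) hk)
  intro r s h1 h2 h3 h4
  have h2' : r < 72 := h2
  have h4' : s < 72 := h4
  have := h' (r - 36) (by omega) (s - 36) (by omega)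
  rwa [show 36 + (r - 36) = r by omega, show 36 + (s - 36) = s by omega] at this

theorem anc2E6 : ∀ r s, 36 ≤ r → r < cdE6.D.nroots → 36 ≤ s → s < cdE6.D.nroots →
    ancChk cdE6.D relE6.pair 2 r s = true := by
  have h : allRange 0 1296 (fun k => ancChk Cfsg.Lie.chevE6 pairE6 2 (36 + k / 36) (36 + k % 36)) = true := by
    decide +kernel
  have h' := of_pairRange (m := 36) (n := 36) (f := fun i s => ancChk Cfsg.Lie.chevE6 pairE6 2 (36 + i) (36 + s))
    (fun k hk => allRange_spec h k (Nat.zero_le _) hk)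
  intro r s h1 h2 h3 h4
  have h2' : r < 72 := h2
  have h4' : s < 72 := h4
  have := h' (r - 36) (by omega) (s - 36) (by omega)
  rwa [show 36 + (r - 36) = r by omega, show 36 + (s - 36) = s by omega] at this

theorem anc3E6 : ∀ r s, 36 ≤ r → r < cdE6.D.nroots → 36 ≤ s → s < cdE6.D.nroots →
    ancChk cdE6.D relE6.pair 3 r s = true := by
  have h : allRange 0 1296 (fun k => ancChk Cfsg.Lie.chevE6 pairE6 3 (36 + k / 36) (36 + k % 36)) = true := by
    decide +kernel
  have h' := of_pairRange (m := 36) (n := 36) (f := fun i s => ancChk Cfsg.Lie.chevE6 pairE6 3 (36 + i) (36 + s))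
    (fun k hk => allRange_spec h k (Nat.zero_le _) hk)
  intro r s h1 h2 h3 h4
  have h2' : r < 72 := h2
  have h4' : s < 72 := h4
  have := h' (r - 36) (by omega) (s - 36) (by omega)
  rwa [show 36 + (r - 36) = r by omega, show 36 + (s - 36) = s by omega] at this

theorem anc4E6 : ∀ r s, 36 ≤ r → r < cdE6.D.nroots → 36 ≤ s → s < cdE6.D.nroots →
    ancChk cdE6.D relE6.pair 4 r s = true := by
  have h : allRange 0 1296 (fun k => ancChk Cfsg.Lie.chevE6 pairE6 4 (36 + k / 36) (36 + k % 36)) = true := by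
    decide +kernel
  have h' := of_pairRange (m := 36) (n := 36) (f := fun i s => ancChk Cfsg.Lie.chevE6 pairE6 4 (36 + i) (36 + s))
    (fun k hk => allRange_spec h k (Nat.zero_le _) hk)
  intro r s h1 h2 h3 h4
  have h2' : r < 72 := h2
  have h4' : s < 72 := h4
  have := h' (r - 36) (by omega) (s - 36) (by omega)
  rwa [show 36 + (r - 36) = r by omega, show 36 + (s - 36) = s by omega] at this

/-- Weakly closed subgroups of `U` for type E6. -/
theorem wclE6 {F : Type*} [Field F] [Fintype F] (h2 : Fintype.card F ≠ 2)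
    (X : Subgroup (GL cdE6.D.Idx F)) (hXU : X ≤ cdE6.D.posUnipotent F)
    (hwc : ∀ g ∈ cdE6.D.group F, X.map (MulAut.conj g).toMonoidHom ≤ cdE6.D.posUnipotent F →
      X.map (MulAut.conj g).toMonoidHom = X) :
    ∃ J : Set ℕ, (∀ j ∈ J, j < cdE6.D.rank) ∧ X = cdE6.D.unipotentRadical F J := by
  have h1 : 1 < Fintype.card F := Fintype.one_lt_card
  refine wcl_generic strHypE6 36 loE6 selfE6 ?_ X hXU hwc
  generalize hq : Fintype.card F = q at h1 h2 
  refine anc_of_checks relE6 leviE6.dec 36 selfE6 genE6 q (by omega) ?_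
  intro hq5
  have hq3 : 3 ≤ q := by omega
  interval_cases q
  · exact anc2E6
  · exact anc3E6
  · exact anc4E6

end Cfsg.Agent.Lib.Helper3.WCl
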