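import Mathlib
import Cfsg.Agent.Lib.Helper3.WCl8
import Cfsg.Agent.Lib.Helper3.ChevData.E7UHyp
import Cfsg.Agent.Lib.Helper3.ChevData.E7Bn
import Cfsg.Agent.Lib.Helper3.ChevData.E7Levi
import Cfsg.Agent.Lib.Helper3.ChevData.E7Rv
set_option autoImplicit false
set_option maxRecDepth 1000000
open Cfsg Cfsg.Lie

/-! Weakly closed subgroups of the unipotent subgroup: the table checks for type E7. -/

namespace Cfsg.Agent.Lib.Helper3.WCl

open Cfsg.Agent.Lib.Helper3.ChevM

/-- The fundamental root lowering a positive root of type E7. -/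
def jwE7 (r : ℕ) : ℕ := (#[0, 0, 0, 0, 0, 0, 0, 0, 0, 0, 0, 0, 0, 0, 0, 0, 0, 0, 0, 0, 0, 0, 0, 0, 0, 0, 0, 0, 0, 0, 0, 0, 0, 0, 0, 0, 0, 0, 0, 0, 0, 0, 0, 0, 0, 0, 0, 0, 0, 0, 0, 0, 0, 0, 0, 0, 0, 0, 0, 0, 0, 0, 0, 6, 5, 5, 4, 4, 4, 3, 3, 3, 3, 2, 2, 2, 2, 2, 1, 1, 1, 1, 1, 1, 1, 1, 1, 3, 3, 3, 4, 4, 5, 0, 0, 0, 0, 0, 0, 0, 0, 0, 0, 0, 0, 0, 0, 0, 0, 2, 2, 2, 2, 2, 2, 3, 3, 3, 4, 1, 1, 1, 1, 3, 2, 0] : Array ℕ).getD r 0

/-- The positive root whose commutator with the fundamental root `jwE7 r` involves `r` with coefficient `±1`. -/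
def swE7 (r : ℕ) : ℕ := (#[0, 0, 0, 0, 0, 0, 0, 0, 0, 0, 0, 0, 0, 0, 0, 0, 0, 0, 0, 0, 0, 0, 0, 0, 0, 0, 0, 0, 0, 0, 0, 0, 0, 0, 0, 0, 0, 0, 0, 0, 0, 0, 0, 0, 0, 0, 0, 0, 0, 0, 0, 0, 0, 0, 0, 0, 0, 0, 0, 0, 0, 0, 0, 0, 0, 63, 0, 64, 65, 0, 66, 67, 68, 0, 69, 70, 71, 72, 0, 69, 70, 71, 72, 74, 75, 76, 77, 84, 85, 86, 88, 89, 91, 0, 73, 74, 75, 76, 77, 83, 84, 85, 86, 87, 88, 89, 90, 91, 92, 103, 104, 105, 106, 107, 108, 112, 113, 114, 117, 115, 116, 117, 118, 122, 123, 124] : Array ℕ).getD r 0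

theorem strE7A : allRange 0 126 (fun r => strCheck Cfsg.Lie.chevE7 reflE7 jwE7 swE7 r) = true := by
  decide +kernel

/-- The table checks of the third step for type E7. -/
def strHypE7 : StrHyp cdE7 relE7 where
  U := uhypE7
  B := bnE7
  L := leviE7
  len := by decide +kernel
  rv := of_pairRange (m := 7) (n := 126) e7Rv
  nz := by decide +kernel
  jw := jwE7
  sw := swE7
  str := fun r hr => allRange_spec strE7A r (Nat.zero_le _) hr

theorem loE7 : ∀ r, cdE7.D.IsPosRoot r → 63 ≤ r := by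
  have h : allRange 0 126 (fun r => !decide (Cfsg.Lie.chevE7.IsPosRoot r) || decide (63 ≤ r)) = true := by
    decide +kernel
  intro r hr
  have h1 := allRange_spec h r (Nat.zero_le _) hr.1
  have hr' : Cfsg.Lie.chevE7.IsPosRoot r := hr
  simpa [hr'] using h1

theorem selfE7 : ∀ r, 63 ≤ r → r < cdE7.D.nroots → relE7.pair r r = 2 := by
  have h : allRange 63 126 (fun r => decide (pairE7 r r = 2)) = true := by decide +kernel
  intro r h1 h2
  have := allRange_spec h r h1 h2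
  simp only [decide_eq_true_eq] at this
  exact this

theorem genE7 : ∀ r s, 63 ≤ r → r < cdE7.D.nroots → 63 ≤ s → s < cdE7.D.nroots →
    genChk relE7.pair r s = true := by
  have h : allRange 0 3969 (fun k => genChk pairE7 (63 + k / 63) (63 + k % 63)) = true := by
    decide +kernel
  have h' := of_pairRange (m := 63) (n := 63) (f := fun i s => genChk pairE7 (63 + i) (63 + s))
    (fun k hk => allRange_spec h k (Nat.zero_le _) hk)
  intro r s h1 h2 h3 h4
  have h2' : r < 126 := h2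
  have h4' : s < 126 := h4
  have := h' (r - 63) (by omega) (s - 63) (by omega)
  rwa [show 63 + (r - 63) = r by omega, show 63 + (s - 63) = s by omega] at this

theorem anc2E7 : ∀ r s, 63 ≤ r → r < cdE7.D.nroots → 63 ≤ s → s < cdE7.D.nroots →
    ancChk cdE7.D relE7.pair 2 r s = true := by
  have h : allRange 0 3969 (fun k => ancChk Cfsg.Lie.chevE7 pairE7 2 (63 + k / 63) (63 + k % 63)) = true := by
    decide +kernel
  have h' := of_pairRange (m := 63) (n := 63) (f := fun i s => ancChk Cfsg.Lie.chevE7 pairE7 2 (63 + i) (63 + s))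
    (fun k hk => allRange_spec h k (Nat.zero_le _) hk)
  intro r s h1 h2 h3 h4
  have h2' : r < 126 := h2
  have h4' : s < 126 := h4
  have := h' (r - 63) (by omega) (s - 63) (by omega)
  rwa [show 63 + (r - 63) = r by omega, show 63 + (s - 63) = s by omega] at this

theorem anc3E7 : ∀ r s, 63 ≤ r → r < cdE7.D.nroots → 63 ≤ s → s < cdE7.D.nroots →
    ancChk cdE7.D relE7.pair 3 r s = true := by
  have h : allRange 0 3969 (fun k => ancChk Cfsg.Lie.chevE7 pairE7 3 (63 + k / 63) (63 + k % 63)) = true := by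
    decide +kernel
  have h' := of_pairRange (m := 63) (n := 63) (f := fun i s => ancChk Cfsg.Lie.chevE7 pairE7 3 (63 + i) (63 + s))
    (fun k hk => allRange_spec h k (Nat.zero_le _) hk)
  intro r s h1 h2 h3 h4
  have h2' : r < 126 := h2
  have h4' : s < 126 := h4
  have := h' (r - 63) (by omega) (s - 63) (by omega)
  rwa [show 63 + (r - 63) = r by omega, show 63 + (s - 63) = s by omega] at this

theorem anc4E7 : ∀ r s, 63 ≤ r → r < cdE7.D.nroots → 63 ≤ s → s < cdE7.D.nroots →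
    ancChk cdE7.D relE7.pair 4 r s = true := by
  have h : allRange 0 3969 (fun k => ancChk Cfsg.Lie.chevE7 pairE7 4 (63 + k / 63) (63 + k % 63)) = true := by
    decide +kernel
  have h' := of_pairRange (m := 63) (n := 63) (f := fun i s => ancChk Cfsg.Lie.chevE7 pairE7 4 (63 + i) (63 + s))
    (fun k hk => allRange_spec h k (Nat.zero_le _) hk)
  intro r s h1 h2 h3 h4
  have h2' : r < 126 := h2
  have h4' : s < 126 := h4
  have := h' (r - 63) (by omega) (s - 63) (by omega)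
  rwa [show 63 + (r - 63) = r by omega, show 63 + (s - 63) = s by omega] at this

/-- Weakly closed subgroups of `U` for type E7. -/
theorem wclE7 {F : Type*} [Field F] [Fintype F] (h2 : Fintype.card F ≠ 2)
    (X : Subgroup (GL cdE7.D.Idx F)) (hXU : X ≤ cdE7.D.posUnipotent F)
    (hwc : ∀ g ∈ cdE7.D.group F, X.map (MulAut.conj g).toMonoidHom ≤ cdE7.D.posUnipotent F →
      X.map (MulAut.conj g).toMonoidHom = X) :
    ∃ J : Set ℕ, (∀ j ∈ J, j < cdE7.D.rank) ∧ X = cdE7.D.unipotentRadical F J := by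
  have h1 : 1 < Fintype.card F := Fintype.one_lt_card
  refine wcl_generic strHypE7 63 loE7 selfE7 ?_ X hXU hwc
  generalize hq : Fintype.card F = q at h1 h2 
  refine anc_of_checks relE7 leviE7.dec 63 selfE7 genE7 q (by omega) ?_
  intro hq5
  have hq3 : 3 ≤ q := by omega
  interval_cases q
  · exact anc2E7
  · exact anc3E7
  · exact anc4E7

end Cfsg.Agent.Lib.Helper3.WCl
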