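import Mathlib
import Cfsg.Agent.Lib.Helper3.WCl8
import Cfsg.Agent.Lib.Helper3.ChevData.E8UHyp
import Cfsg.Agent.Lib.Helper3.ChevData.E8Bn
import Cfsg.Agent.Lib.Helper3.ChevData.E8Levi
import Cfsg.Agent.Lib.Helper3.ChevData.E8Rv
set_option autoImplicit false
set_option maxRecDepth 1000000
open Cfsg Cfsg.Lie

/-! Weakly closed subgroups of the unipotent subgroup: the table checks for type E8. -/

namespace Cfsg.Agent.Lib.Helper3.WCl

open Cfsg.Agent.Lib.Helper3.ChevM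

/-- The fundamental root lowering a positive root of type E8. -/
def jwE8 (r : ℕ) : ℕ := (#[0, 0, 0, 0, 0, 0, 0, 0, 0, 0, 0, 0, 0, 0, 0, 0, 0, 0, 0, 0, 0, 0, 0, 0, 0, 0, 0, 0, 0, 0, 0, 0, 0, 0, 0, 0, 0, 0, 0, 0, 0, 0, 0, 0, 0, 0, 0, 0, 0, 0, 0, 0, 0, 0, 0, 0, 0, 0, 0, 0, 0, 0, 0, 0, 0, 0, 0, 0, 0, 0, 0, 0, 0, 0, 0, 0, 0, 0, 0, 0, 0, 0, 0, 0, 0, 0, 0, 0, 0, 0, 0, 0, 0, 0, 0, 0, 0, 0, 0, 0, 0, 0, 0, 0, 0, 0, 0, 0, 0, 0, 0, 0, 0, 0, 0, 0, 0, 0, 0, 0, 7, 6, 6, 5, 5, 5, 4, 4, 4, 4, 3, 3, 3, 3, 3, 2, 2, 2, 2, 2, 2, 1, 1, 1, 1, 1, 1, 1, 1, 1, 1, 1, 3, 3, 3, 3, 4, 4, 4, 5, 5, 6, 0, 0, 0, 0, 0, 0, 0, 0, 0, 0, 0, 0, 0, 0, 0, 0, 0, 0, 0, 0, 0, 0, 2, 2, 2, 2, 2, 2, 2, 2, 2, 2, 3, 3, 3, 3, 3, 3, 4, 4, 4, 5, 1, 1, 1, 1, 1, 1, 1, 1, 1, 1, 3, 3, 3, 3, 4, 2, 2, 2, 2, 2, 3, 1, 0, 0, 0, 0, 0, 0, 2, 0, 1, 3, 4, 5, 6, 7] : Array ℕ).getD r 0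

/-- The positive root whose commutator with the fundamental root `jwE8 r` involves `r` with coefficient `±1`. -/
def swE8 (r : ℕ) : ℕ := (#[0, 0, 0, 0, 0, 0, 0, 0, 0, 0, 0, 0, 0, 0, 0, 0, 0, 0, 0, 0, 0, 0, 0, 0, 0, 0, 0, 0, 0, 0, 0, 0, 0, 0, 0, 0, 0, 0, 0, 0, 0, 0, 0, 0, 0, 0, 0, 0, 0, 0, 0, 0, 0, 0, 0, 0, 0, 0, 0, 0, 0, 0, 0, 0, 0, 0, 0, 0, 0, 0, 0, 0, 0, 0, 0, 0, 0, 0, 0, 0, 0, 0, 0, 0, 0, 0, 0, 0, 0, 0, 0, 0, 0, 0, 0, 0, 0, 0, 0, 0, 0, 0, 0, 0, 0, 0, 0, 0, 0, 0, 0, 0, 0, 0, 0, 0, 0, 0, 0, 0, 0, 0, 120, 0, 121, 122, 0, 123, 124, 125, 0, 126, 127, 128, 129, 0, 130, 131, 132, 133, 134, 0, 130, 131, 132, 133, 134, 136, 137, 138, 139, 140, 148, 149, 150, 151, 153, 154, 155, 157, 158, 160, 0, 135, 136, 137, 138, 139, 140, 147, 148, 149, 150, 151, 152, 153, 154, 155, 156, 157, 158, 159, 160, 161, 174, 175, 176, 177, 178, 179, 180, 181, 182, 183, 188, 189, 190, 191, 192, 193, 197, 198, 199, 202, 194, 195, 196, 197, 198,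 199, 200, 201, 202, 203, 210, 211, 212, 213, 217, 214, 215, 216, 217, 218, 223, 224, 219, 220, 221, 222, 223, 224, 231, 225, 232, 234, 235, 236, 237, 238] : Array ℕ).getD r 0

theorem strE8A : allRange 0 240 (fun r => strCheck Cfsg.Lie.chevE8 reflE8 jwE8 swE8 r) = true := by
  decide +kernel

/-- The table checks of the third step for type E8. -/
def strHypE8 : StrHyp cdE8 relE8 where
  U := uhypE8
  B := bnE8
  L := leviE8
  len := by decide +kernel
  rv := of_pairRange (m := 8) (n := 240) e8Rv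
  nz := by decide +kernel
  jw := jwE8
  sw := swE8
  str := fun r hr => allRange_spec strE8A r (Nat.zero_le _) hr

theorem loE8 : ∀ r, cdE8.D.IsPosRoot r → 120 ≤ r := by
  have h : allRange 0 240 (fun r => !decide (Cfsg.Lie.chevE8.IsPosRoot r) || decide (120 ≤ r)) = true := by
    decide +kernel
  intro r hr
  have h1 := allRange_spec h r (Nat.zero_le _) hr.1
  have hr' : Cfsg.Lie.chevE8.IsPosRoot r := hr
  simpa [hr'] using h1

theorem selfE8 : ∀ r, 120 ≤ r → r < cdE8.D.nroots → relE8.pair r r = 2 := by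
  have h : allRange 120 240 (fun r => decide (pairE8 r r = 2)) = true := by decide +kernel
  intro r h1 h2
  have := allRange_spec h r h1 h2
  simp only [decide_eq_true_eq] at this
  exact this

theorem genE8 : ∀ r s, 120 ≤ r → r < cdE8.D.nroots → 120 ≤ s → s < cdE8.D.nroots →
    genChk relE8.pair r s = true := by
  have h : allRange 0 14400 (fun k => genChk pairE8 (120 + k / 120) (120 + k % 120)) = true := by
    decide +kernel
  have h' := of_pairRange (m := 120) (n := 120) (f := fun i s => genChk pairE8 (120 + i) (120 + s))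
    (fun k hk => allRange_spec h k (Nat.zero_le _) hk)
  intro r s h1 h2 h3 h4
  have h2' : r < 240 := h2
  have h4' : s < 240 := h4
  have := h' (r - 120) (by omega) (s - 120) (by omega)
  rwa [show 120 + (r - 120) = r by omega, show 120 + (s - 120) = s by omega] at this

theorem anc2E8 : ∀ r s, 120 ≤ r → r < cdE8.D.nroots → 120 ≤ s → s < cdE8.D.nroots →
    ancChk cdE8.D relE8.pair 2 r s = true := by
  have h : allRange 0 14400 (fun k => ancChk Cfsg.Lie.chevE8 pairE8 2 (120 + k / 120) (120 + k % 120)) = true := by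
    decide +kernel
  have h' := of_pairRange (m := 120) (n := 120) (f := fun i s => ancChk Cfsg.Lie.chevE8 pairE8 2 (120 + i) (120 + s))
    (fun k hk => allRange_spec h k (Nat.zero_le _) hk)
  intro r s h1 h2 h3 h4
  have h2' : r < 240 := h2
  have h4' : s < 240 := h4
  have := h' (r - 120) (by omega) (s - 120) (by omega)
  rwa [show 120 + (r - 120) = r by omega, show 120 + (s - 120) = s by omega] at this

theorem anc3E8 : ∀ r s, 120 ≤ r → r < cdE8.D.nroots → 120 ≤ s → s < cdE8.D.nroots →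
    ancChk cdE8.D relE8.pair 3 r s = true := by
  have h : allRange 0 14400 (fun k => ancChk Cfsg.Lie.chevE8 pairE8 3 (120 + k / 120) (120 + k % 120)) = true := by
    decide +kernel
  have h' := of_pairRange (m := 120) (n := 120) (f := fun i s => ancChk Cfsg.Lie.chevE8 pairE8 3 (120 + i) (120 + s))
    (fun k hk => allRange_spec h k (Nat.zero_le _) hk)
  intro r s h1 h2 h3 h4
  have h2' : r < 240 := h2
  have h4' : s < 240 := h4
  have := h' (r - 120) (by omega) (s - 120) (by omega)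
  rwa [show 120 + (r - 120) = r by omega, show 120 + (s - 120) = s by omega] at this

theorem anc4E8 : ∀ r s, 120 ≤ r → r < cdE8.D.nroots → 120 ≤ s → s < cdE8.D.nroots →
    ancChk cdE8.D relE8.pair 4 r s = true := by
  have h : allRange 0 14400 (fun k => ancChk Cfsg.Lie.chevE8 pairE8 4 (120 + k / 120) (120 + k % 120)) = true := by
    decide +kernel
  have h' := of_pairRange (m := 120) (n := 120) (f := fun i s => ancChk Cfsg.Lie.chevE8 pairE8 4 (120 + i) (120 + s))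
    (fun k hk => allRange_spec h k (Nat.zero_le _) hk)
  intro r s h1 h2 h3 h4
  have h2' : r < 240 := h2
  have h4' : s < 240 := h4
  have := h' (r - 120) (by omega) (s - 120) (by omega)
  rwa [show 120 + (r - 120) = r by omega, show 120 + (s - 120) = s by omega] at this

/-- Weakly closed subgroups of `U` for type E8. -/
theorem wclE8 {F : Type*} [Field F] [Fintype F] (h2 : Fintype.card F ≠ 2)
    (X : Subgroup (GL cdE8.D.Idx F)) (hXU : X ≤ cdE8.D.posUnipotent F)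
    (hwc : ∀ g ∈ cdE8.D.group F, X.map (MulAut.conj g).toMonoidHom ≤ cdE8.D.posUnipotent F →
      X.map (MulAut.conj g).toMonoidHom = X) :
    ∃ J : Set ℕ, (∀ j ∈ J, j < cdE8.D.rank) ∧ X = cdE8.D.unipotentRadical F J := by
  have h1 : 1 < Fintype.card F := Fintype.one_lt_card
  refine wcl_generic strHypE8 120 loE8 selfE8 ?_ X hXU hwc
  generalize hq : Fintype.card F = q at h1 h2 
  refine anc_of_checks relE8 leviE8.dec 120 selfE8 genE8 q (by omega) ?_
  intro hq5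
  have hq3 : 3 ≤ q := by omega
  interval_cases q
  · exact anc2E8
  · exact anc3E8
  · exact anc4E8

end Cfsg.Agent.Lib.Helper3.WCl
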