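import Mathlib
import Cfsg.Agent.Lib.Helper3.WCl8
import Cfsg.Agent.Lib.Helper3.ChevData.F4UHyp
import Cfsg.Agent.Lib.Helper3.ChevData.F4Bn
import Cfsg.Agent.Lib.Helper3.ChevData.F4Levi
import Cfsg.Agent.Lib.Helper3.ChevData.F4Rv
set_option autoImplicit false
set_option maxRecDepth 1000000
open Cfsg Cfsg.Lie

/-! Weakly closed subgroups of the unipotent subgroup: the table checks for type F4. -/

namespace Cfsg.Agent.Lib.Helper3.WCl

open Cfsg.Agent.Lib.Helper3.ChevM

/-- The fundamental root lowering a positive root of type F4. -/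
def jwF4 (r : ℕ) : ℕ := (#[0, 0, 0, 0, 0, 0, 0, 0, 0, 0, 0, 0, 0, 0, 0, 0, 0, 0, 0, 0, 0, 0, 0, 0, 3, 2, 2, 1, 2, 3, 1, 1, 2, 0, 0, 0, 0, 1, 1, 2, 1, 0, 0, 0, 0, 1, 2, 3] : Array ℕ).getD r 0

/-- The positive root whose commutator with the fundamental root `jwF4 r` involves `r` with coefficient `±1`. -/
def swF4 (r : ℕ) : ℕ := (#[0, 0, 0, 0, 0, 0, 0, 0, 0, 0, 0, 0, 0, 0, 0, 0, 0, 0, 0, 0, 0, 0, 0, 0, 0, 0, 24, 0, 27, 28, 25, 26, 31, 0, 27, 28, 29, 35, 36, 38, 39, 30, 31, 32, 40, 43, 45, 46] : Array ℕ).getD r 0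

theorem strF4A : allRange 0 48 (fun r => strCheck Cfsg.Lie.chevF4 reflF4 jwF4 swF4 r) = true := by
  decide +kernel

/-- The table checks of the third step for type F4. -/
def strHypF4 : StrHyp cdF4 relF4 where
  U := uhypF4
  B := bnF4
  L := leviF4
  len := by decide +kernel
  rv := of_pairRange (m := 4) (n := 48) f4Rv
  nz := by decide +kernel
  jw := jwF4
  sw := swF4
  str := fun r hr => allRange_spec strF4A r (Nat.zero_le _) hr

theorem loF4 : ∀ r, cdF4.D.IsPosRoot r → 24 ≤ r := by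
  have h : allRange 0 48 (fun r => !decide (Cfsg.Lie.chevF4.IsPosRoot r) || decide (24 ≤ r)) = true := by
    decide +kernel
  intro r hr
  have h1 := allRange_spec h r (Nat.zero_le _) hr.1
  have hr' : Cfsg.Lie.chevF4.IsPosRoot r := hr
  simpa [hr'] using h1

theorem selfF4 : ∀ r, 24 ≤ r → r < cdF4.D.nroots → relF4.pair r r = 2 := by
  have h : allRange 24 48 (fun r => decide (pairF4 r r = 2)) = true := by decide +kernel
  intro r h1 h2
  have := allRange_spec h r h1 h2
  simp only [decide_eq_true_eq] at this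
  exact this

theorem genF4 : ∀ r s, 24 ≤ r → r < cdF4.D.nroots → 24 ≤ s → s < cdF4.D.nroots →
    genChk relF4.pair r s = true := by
  have h : allRange 0 576 (fun k => genChk pairF4 (24 + k / 24) (24 + k % 24)) = true := by
    decide +kernel
  have h' := of_pairRange (m := 24) (n := 24) (f := fun i s => genChk pairF4 (24 + i) (24 + s))
    (fun k hk => allRange_spec h k (Nat.zero_le _) hk)
  intro r s h1 h2 h3 h4
  have h2' : r < 48 := h2
  have h4' : s < 48 := h4
  have := h' (r - 24) (by omega) (s - 24) (by omega)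
  rwa [show 24 + (r - 24) = r by omega, show 24 + (s - 24) = s by omega] at this

theorem anc3F4 : ∀ r s, 24 ≤ r → r < cdF4.D.nroots → 24 ≤ s → s < cdF4.D.nroots →
    ancChk cdF4.D relF4.pair 3 r s = true := by
  have h : allRange 0 576 (fun k => ancChk Cfsg.Lie.chevF4 pairF4 3 (24 + k / 24) (24 + k % 24)) = true := by
    decide +kernel
  have h' := of_pairRange (m := 24) (n := 24) (f := fun i s => ancChk Cfsg.Lie.chevF4 pairF4 3 (24 + i) (24 + s))
    (fun k hk => allRange_spec h k (Nat.zero_le _) hk)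
  intro r s h1 h2 h3 h4
  have h2' : r < 48 := h2
  have h4' : s < 48 := h4
  have := h' (r - 24) (by omega) (s - 24) (by omega)
  rwa [show 24 + (r - 24) = r by omega, show 24 + (s - 24) = s by omega] at this

theorem anc4F4 : ∀ r s, 24 ≤ r → r < cdF4.D.nroots → 24 ≤ s → s < cdF4.D.nroots →
    ancChk cdF4.D relF4.pair 4 r s = true := by
  have h : allRange 0 576 (fun k => ancChk Cfsg.Lie.chevF4 pairF4 4 (24 + k / 24) (24 + k % 24)) = true := by
    decide +kernel
  have h' := of_pairRange (m := 24) (n := 24) (f := fun i s => ancChk Cfsg.Lie.chevF4 pairF4 4 (24 + i) (24 + s))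
    (fun k hk => allRange_spec h k (Nat.zero_le _) hk)
  intro r s h1 h2 h3 h4
  have h2' : r < 48 := h2
  have h4' : s < 48 := h4
  have := h' (r - 24) (by omega) (s - 24) (by omega)
  rwa [show 24 + (r - 24) = r by omega, show 24 + (s - 24) = s by omega] at this

/-- Weakly closed subgroups of `U` for type F4. -/
theorem wclF4 {F : Type*} [Field F] [Fintype F] (h2 : Fintype.card F ≠ 2) (h3 : Fintype.card F ≠ 3)
    (X : Subgroup (GL cdF4.D.Idx F)) (hXU : X ≤ cdF4.D.posUnipotent F)
    (hwc : ∀ g ∈ cdF4.D.group F, X.map (MulAut.conj g).toMonoidHom ≤ cdF4.D.posUnipotent F →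
      X.map (MulAut.conj g).toMonoidHom = X) :
    ∃ J : Set ℕ, (∀ j ∈ J, j < cdF4.D.rank) ∧ X = cdF4.D.unipotentRadical F J := by
  have h1 : 1 < Fintype.card F := Fintype.one_lt_card
  refine wcl_generic strHypF4 24 loF4 selfF4 ?_ X hXU hwc
  generalize hq : Fintype.card F = q at h1 h2 h3 
  refine anc_of_checks relF4 leviF4.dec 24 selfF4 genF4 q (by omega) ?_
  intro hq5
  have hq3 : 4 ≤ q := by omega
  interval_cases q
  · exact anc3F4
  · exact anc4F4

end Cfsg.Agent.Lib.Helper3.WCl
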