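import Mathlib
import Cfsg.Agent.Lib.Helper3.WCl8
import Cfsg.Agent.Lib.Helper3.ChevData.G2UHyp
import Cfsg.Agent.Lib.Helper3.ChevData.G2Bn
import Cfsg.Agent.Lib.Helper3.ChevData.G2Levi
import Cfsg.Agent.Lib.Helper3.ChevData.G2Rv
set_option autoImplicit false
set_option maxRecDepth 1000000
open Cfsg Cfsg.Lie

/-! Weakly closed subgroups of the unipotent subgroup: the table checks for type G2. -/

namespace Cfsg.Agent.Lib.Helper3.WCl

open Cfsg.Agent.Lib.Helper3.ChevM

/-- The fundamental root lowering a positive root of type G2. -/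
def jwG2 (r : ℕ) : ℕ := (#[0, 0, 0, 0, 0, 0, 1, 0, 1, 0, 0, 1] : Array ℕ).getD r 0

/-- The positive root whose commutator with the fundamental root `jwG2 r` involves `r` with coefficient `±1`. -/
def swG2 (r : ℕ) : ℕ := (#[0, 0, 0, 0, 0, 0, 0, 0, 7, 6, 6, 10] : Array ℕ).getD r 0

theorem strG2A : allRange 0 12 (fun r => strCheck Cfsg.Lie.chevG2 reflG2 jwG2 swG2 r) = true := by
  decide +kernel

/-- The table checks of the third step for type G2. -/
def strHypG2 : StrHyp cdG2 relG2 where
  U := uhypG2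
  B := bnG2
  L := leviG2
  len := by decide +kernel
  rv := of_pairRange (m := 2) (n := 12) g2Rv
  nz := by decide +kernel
  jw := jwG2
  sw := swG2
  str := fun r hr => allRange_spec strG2A r (Nat.zero_le _) hr

theorem loG2 : ∀ r, cdG2.D.IsPosRoot r → 6 ≤ r := by
  have h : allRange 0 12 (fun r => !decide (Cfsg.Lie.chevG2.IsPosRoot r) || decide (6 ≤ r)) = true := by
    decide +kernel
  intro r hr
  have h1 := allRange_spec h r (Nat.zero_le _) hr.1
  have hr' : Cfsg.Lie.chevG2.IsPosRoot r := hr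
  simpa [hr'] using h1

theorem selfG2 : ∀ r, 6 ≤ r → r < cdG2.D.nroots → relG2.pair r r = 2 := by
  have h : allRange 6 12 (fun r => decide (pairG2 r r = 2)) = true := by decide +kernel
  intro r h1 h2
  have := allRange_spec h r h1 h2
  simp only [decide_eq_true_eq] at this
  exact this

theorem genG2 : ∀ r s, 6 ≤ r → r < cdG2.D.nroots → 6 ≤ s → s < cdG2.D.nroots →
    genChk relG2.pair r s = true := by
  have h : allRange 0 36 (fun k => genChk pairG2 (6 + k / 6) (6 + k % 6)) = true := by
    decide +kernel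
  have h' := of_pairRange (m := 6) (n := 6) (f := fun i s => genChk pairG2 (6 + i) (6 + s))
    (fun k hk => allRange_spec h k (Nat.zero_le _) hk)
  intro r s h1 h2 h3 h4
  have h2' : r < 12 := h2
  have h4' : s < 12 := h4
  have := h' (r - 6) (by omega) (s - 6) (by omega)
  rwa [show 6 + (r - 6) = r by omega, show 6 + (s - 6) = s by omega] at this

theorem anc4G2 : ∀ r s, 6 ≤ r → r < cdG2.D.nroots → 6 ≤ s → s < cdG2.D.nroots →
    ancChk cdG2.D relG2.pair 4 r s = true := by
  have h : allRange 0 36 (fun k => ancChk Cfsg.Lie.chevG2 pairG2 4 (6 + k / 6) (6 + k % 6)) = true := by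
    decide +kernel
  have h' := of_pairRange (m := 6) (n := 6) (f := fun i s => ancChk Cfsg.Lie.chevG2 pairG2 4 (6 + i) (6 + s))
    (fun k hk => allRange_spec h k (Nat.zero_le _) hk)
  intro r s h1 h2 h3 h4
  have h2' : r < 12 := h2
  have h4' : s < 12 := h4
  have := h' (r - 6) (by omega) (s - 6) (by omega)
  rwa [show 6 + (r - 6) = r by omega, show 6 + (s - 6) = s by omega] at this

/-- Weakly closed subgroups of `U` for type G2. -/
theorem wclG2 {F : Type*} [Field F] [Fintype F] (h2 : Fintype.card F ≠ 2) (h3 : Fintype.card F ≠ 3) (h4 : Fintype.card F ≠ 4)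
    (X : Subgroup (GL cdG2.D.Idx F)) (hXU : X ≤ cdG2.D.posUnipotent F)
    (hwc : ∀ g ∈ cdG2.D.group F, X.map (MulAut.conj g).toMonoidHom ≤ cdG2.D.posUnipotent F →
      X.map (MulAut.conj g).toMonoidHom = X) :
    ∃ J : Set ℕ, (∀ j ∈ J, j < cdG2.D.rank) ∧ X = cdG2.D.unipotentRadical F J := by
  have h1 : 1 < Fintype.card F := Fintype.one_lt_card
  refine wcl_generic strHypG2 6 loG2 selfG2 ?_ X hXU hwc
  generalize hq : Fintype.card F = q at h1 h2 h3 h4 
  refine anc_of_checks relG2 leviG2.dec 6 selfG2 genG2 q (by omega) ?_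
  intro hq5
  have hq3 : 5 ≤ q := by omega
  interval_cases q
  · exact anc4G2

end Cfsg.Agent.Lib.Helper3.WCl
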