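import Mathlib
import Cfsg.Agent.Lib.Helper3.WClG2
set_option autoImplicit false
set_option maxRecDepth 1000000
set_option linter.unusedSectionVars false
open Cfsg Cfsg.Lie

/-! Weakly closed subgroups of the unipotent subgroup: type G2 over the field with four elements, where the
characters of the long roots collide. -/

namespace Cfsg.Agent.Lib.Helper3.WCl

open Cfsg.Agent.Lib.Helper3.ChevM Cfsg.Agent.Lib.Helper3 ChevU ChevT

section
variable {F : Type*} [Field F] {C : CDatum} {R : RelData C} (K : CommData C R)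
include K

theorem comm_word (p s : ℕ) (hp : p < C.D.nroots) (hs : s < C.D.nroots) (h1 : s ≠ p) (h2 : s ≠ C.D.neg p)
    (t u : F) : (R.xU p t * R.xU s u)⁻¹ * (R.xU s u * R.xU p t) = R.wordU (C.D.commWord F p s t u) := by
  have e := K.commF p s hp hs h1 h2 t u
  have e' : R.xU s u * R.xU p t = R.xU p t * R.xU s u * R.wordU (C.D.commWord F p s t u) := by
    apply Units.ext
    simp only [Units.val_mul, R.xU_val, R.wordU_val]
    exact e
  rw [e']; group

theorem comm_of_nil (p s : ℕ) (hp : p < C.D.nroots) (hs : s < C.D.nroots) (h1 : s ≠ p) (h2 : s ≠ C.D.neg p)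
    (hnil : C.D.commTerms p s = []) (t u : F) : Commute (R.xU s u) (R.xU p t) := by
  have e := comm_word K p s hp hs h1 h2 t u
  have e0 : R.wordU (C.D.commWord F p s t u) = 1 := by
    simp [RelData.wordU, ChevalleyDatum.commWord, hnil]
  rw [e0, inv_mul_eq_one] at e
  exact e.symm

end

theorem xU_commute_self {F : Type*} [Field F] {C : CDatum} (R : RelData C) (r : ℕ) (t u : F) :
    Commute (R.xU r t) (R.xU r u) := by
  show R.xU r t * R.xU r u = R.xU r u * R.xU r t
  rw [R.xU_add, R.xU_add, add_comm]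

/-- The pairs of positive roots of type G2 whose characters collide over the field with four elements. -/
def badG2 (r s : ℕ) : Bool := (r == 6 && (s == 10 || s == 11)) || (r == 10 && s == 11)

theorem anc3G2 : ∀ r s, 6 ≤ r → r < 12 → 6 ≤ s → s < 12 → hposG2 r < hposG2 s → badG2 r s = false →
    ancChk cdG2.D relG2.pair 3 r s = true := by
  have h : allRange 0 36 (fun k => !decide (hposG2 (6 + k / 6) < hposG2 (6 + k % 6)) || badG2 (6 + k / 6) (6 + k % 6) ||
      ancChk Cfsg.Lie.chevG2 pairG2 3 (6 + k / 6) (6 + k % 6)) = true := by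
    decide +kernel
  have h' := of_pairRange (m := 6) (n := 6) (f := fun i s => !decide (hposG2 (6 + i) < hposG2 (6 + s)) ||
      badG2 (6 + i) (6 + s) || ancChk Cfsg.Lie.chevG2 pairG2 3 (6 + i) (6 + s))
    (fun k hk => allRange_spec h k (Nat.zero_le _) hk)
  intro r s h1 h2 h3 h4 hlt hbad
  have := h' (r - 6) (by omega) (s - 6) (by omega)
  rw [show 6 + (r - 6) = r by omega, show 6 + (s - 6) = s by omega] at this
  simp only [hlt, hbad, decide_true, Bool.not_true, Bool.false_or] at this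
  exact this

theorem hposG2_ge {q : ℕ} (hq : cdG2.D.IsPosRoot q) : hposG2 q = q - 6 := by
  have h1 := loG2 q hq
  have h2 : q < 12 := hq.1
  interval_cases q <;> rfl

section four
variable {F : Type*} [Field F] [Fintype F] (X : Subgroup (GL cdG2.D.Idx F))
  (B : Base (fun r (t : F) => relG2.xU r t) cdG2.D.IsPosRoot hposG2 cdG2.D.posRoots cdG2.D.nroots)
  (N : NormHyp (fun r (t : F) => relG2.xU r t) cdG2.D.IsPosRoot hposG2 X)
include B N

theorem g2_four_ten (hA : ∃ z ∈ tailGrp (fun r (t : F) => relG2.xU r t) cdG2.D.IsPosRoot hposG2 5,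
      relG2.xU 10 (1 : F) * z ∈ X) :
    PX (fun r (t : F) => relG2.xU r t) cdG2.D.IsPosRoot X 11 := by
  obtain ⟨z, hz, hg⟩ := hA
  refine ⟨by decide +kernel, fun b => ?_⟩
  have hκ := comm_word commG2 6 10 (by decide) (by decide) (by decide) (by decide +kernel) (-b : F) 1
  have hT : cdG2.D.commTerms 6 10 = [(11, 1, 1, 1)] := by decide +kernel
  have hw : relG2.wordU (cdG2.D.commWord F 6 10 (-b : F) 1) = relG2.xU 11 b := by
    simp [RelData.wordU, ChevalleyDatum.commWord, hT]
  rw [hw] at hκ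
  have hgen : ∀ q, cdG2.D.IsPosRoot q → 5 ≤ hposG2 q → q = 11 := by
    intro q hq h5
    have := hposG2_ge hq
    have h2 : q < 12 := hq.1
    omega
  have hz6 : Commute z (relG2.xU 6 (-b : F)) := by
    apply tail_commute 5 _ _ hz
    intro q hq h5 t
    obtain rfl := hgen q hq h5
    exact comm_of_nil commG2 6 11 (by decide) (by decide) (by decide) (by decide +kernel) (by decide +kernel) _ _
  have hz11 : Commute z (relG2.xU 11 b) := by
    apply tail_commute 5 _ _ hz
    intro q hq h5 t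
    obtain rfl := hgen q hq h5
    exact xU_commute_self relG2 11 _ _
  have h6U : (relG2.xU 6 (-b : F))⁻¹ ∈ tailGrp (fun r (t : F) => relG2.xU r t) cdG2.D.IsPosRoot hposG2 0 :=
    Subgroup.inv_mem _ (gen_mem _ _ _ (by decide +kernel) (Nat.zero_le _) _)
  have hc : (relG2.xU 10 (1 : F) * z)⁻¹ * ((relG2.xU 6 (-b : F))⁻¹ * (relG2.xU 10 (1 : F) * z) *
      (relG2.xU 6 (-b : F))⁻¹⁻¹) ∈ X := X.mul_mem (X.inv_mem hg) (N.norm _ h6U _ hg)
  have e1 : (relG2.xU 10 (1 : F) * z)⁻¹ * ((relG2.xU 6 (-b : F))⁻¹ * (relG2.xU 10 (1 : F) * z) *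
      (relG2.xU 6 (-b : F))⁻¹⁻¹) =
      z⁻¹ * ((relG2.xU 6 (-b : F) * relG2.xU 10 1)⁻¹ * (relG2.xU 10 1 * relG2.xU 6 (-b : F))) *
        ((relG2.xU 6 (-b : F))⁻¹ * z * relG2.xU 6 (-b : F)) := by group
  have e2 : (relG2.xU 6 (-b : F))⁻¹ * z * relG2.xU 6 (-b : F) = z := by
    rw [mul_assoc, hz6.eq, ← mul_assoc, inv_mul_cancel, one_mul]
  rw [e1, e2, hκ] at hc
  have e3 : z⁻¹ * relG2.xU 11 b * z = relG2.xU 11 b := by
    rw [mul_assoc, ← hz11.eq, ← mul_assoc, inv_mul_cancel, one_mul]
  rwa [e3] at hc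

theorem g2_four_six (hIH : ∀ m, 0 < m → IHm (fun r (t : F) => relG2.xU r t) cdG2.D.IsPosRoot hposG2 X m)
    (hA : ∃ z ∈ tailGrp (fun r (t : F) => relG2.xU r t) cdG2.D.IsPosRoot hposG2 4,
      relG2.xU 6 (1 : F) * z ∈ X) :
    PX (fun r (t : F) => relG2.xU r t) cdG2.D.IsPosRoot X 10 ∧
      PX (fun r (t : F) => relG2.xU r t) cdG2.D.IsPosRoot X 11 := by
  obtain ⟨z, hz, hg⟩ := hA
  have hκ := comm_word commG2 7 6 (by decide) (by decide) (by decide) (by decide +kernel) (-1 : F) 1
  have hT : cdG2.D.commTerms 7 6 = [(8, -1, 1, 1), (9, 1, 2, 1), (10, 1, 3, 1), (11, 1, 3, 2)] := by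
    decide +kernel
  have hw : cdG2.D.commWord F 7 6 (-1 : F) 1 = [(8, (-1 : F)), (9, 1), (10, 1), (11, 1)] := by
    simp [ChevalleyDatum.commWord, hT]
  rw [hw] at hκ
  have hp8 : cdG2.D.IsPosRoot 8 := by decide +kernel
  have hp9 : cdG2.D.IsPosRoot 9 := by decide +kernel
  have hp10 : cdG2.D.IsPosRoot 10 := by decide +kernel
  have hp11 : cdG2.D.IsPosRoot 11 := by decide +kernel
  have hgen : ∀ q, cdG2.D.IsPosRoot q → 4 ≤ hposG2 q → q = 10 ∨ q = 11 := by
    intro q hq h5
    have := hposG2_ge hq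
    have h2 : q < 12 := hq.1
    omega
  have hcc : ∀ q, (q = 10 ∨ q = 11) → ∀ k, (k = 8 ∨ k = 9 ∨ k = 10 ∨ k = 11) → ∀ t c : F,
      Commute (relG2.xU q t) (relG2.xU k c) := by
    intro q hq k hk t c
    rcases hq with rfl | rfl <;> rcases hk with rfl | rfl | rfl | rfl
    · exact comm_of_nil commG2 8 10 (by decide) (by decide) (by decide) (by decide +kernel) (by decide +kernel) _ _
    · exact comm_of_nil commG2 9 10 (by decide) (by decide) (by decide) (by decide +kernel) (by decide +kernel) _ _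
    · exact xU_commute_self relG2 10 _ _
    · exact comm_of_nil commG2 11 10 (by decide) (by decide) (by decide) (by decide +kernel) (by decide +kernel) _ _
    · exact comm_of_nil commG2 8 11 (by decide) (by decide) (by decide) (by decide +kernel) (by decide +kernel) _ _
    · exact comm_of_nil commG2 9 11 (by decide) (by decide) (by decide) (by decide +kernel) (by decide +kernel) _ _
    · exact comm_of_nil commG2 10 11 (by decide) (by decide) (by decide) (by decide +kernel) (by decide +kernel) _ _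
    · exact xU_commute_self relG2 11 _ _
  have hz7 : Commute z (relG2.xU 7 (-1 : F)) := by
    apply tail_commute 4 _ _ hz
    intro q hq h5 t
    rcases hgen q hq h5 with rfl | rfl
    · exact comm_of_nil commG2 7 10 (by decide) (by decide) (by decide) (by decide +kernel) (by decide +kernel) _ _
    · exact comm_of_nil commG2 7 11 (by decide) (by decide) (by decide) (by decide +kernel) (by decide +kernel) _ _
  have hzκ : Commute z (relG2.wordU [(8, (-1 : F)), (9, 1), (10, 1), (11, 1)]) := by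
    apply tail_commute 4 _ _ hz
    intro q hq h5 t
    have hq' := hgen q hq h5
    unfold RelData.wordU
    apply Commute.list_prod_right
    intro y hy
    simp only [List.map_cons, List.map_nil, List.mem_cons, List.not_mem_nil, or_false] at hy
    rcases hy with rfl | rfl | rfl | rfl
    · exact hcc q hq' 8 (by simp) _ _
    · exact hcc q hq' 9 (by simp) _ _
    · exact hcc q hq' 10 (by simp) _ _
    · exact hcc q hq' 11 (by simp) _ _
  have h7U : (relG2.xU 7 (-1 : F))⁻¹ ∈ tailGrp (fun r (t : F) => relG2.xU r t) cdG2.D.IsPosRoot hposG2 0 :=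
    Subgroup.inv_mem _ (gen_mem _ _ _ (by decide +kernel) (Nat.zero_le _) _)
  have hc : (relG2.xU 6 (1 : F) * z)⁻¹ * ((relG2.xU 7 (-1 : F))⁻¹ * (relG2.xU 6 (1 : F) * z) *
      (relG2.xU 7 (-1 : F))⁻¹⁻¹) ∈ X := X.mul_mem (X.inv_mem hg) (N.norm _ h7U _ hg)
  have e1 : (relG2.xU 6 (1 : F) * z)⁻¹ * ((relG2.xU 7 (-1 : F))⁻¹ * (relG2.xU 6 (1 : F) * z) *
      (relG2.xU 7 (-1 : F))⁻¹⁻¹) =
      z⁻¹ * ((relG2.xU 7 (-1 : F) * relG2.xU 6 1)⁻¹ * (relG2.xU 6 1 * relG2.xU 7 (-1 : F))) *
        ((relG2.xU 7 (-1 : F))⁻¹ * z * relG2.xU 7 (-1 : F)) := by group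
  have e2 : (relG2.xU 7 (-1 : F))⁻¹ * z * relG2.xU 7 (-1 : F) = z := by
    rw [mul_assoc, hz7.eq, ← mul_assoc, inv_mul_cancel, one_mul]
  rw [e1, e2, hκ] at hc
  have e3 : z⁻¹ * relG2.wordU [(8, (-1 : F)), (9, 1), (10, 1), (11, 1)] * z =
      relG2.wordU [(8, (-1 : F)), (9, 1), (10, 1), (11, 1)] := by
    rw [mul_assoc, ← hzκ.eq, ← mul_assoc, inv_mul_cancel, one_mul]
  rw [e3] at hc
  have hex := extract_pairs_rel B N 1 (fun m' hm' => hIH m' (by omega)) [(8, (-1 : F)), (9, 1), (10, 1), (11, 1)]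
    (by simp)
    (by
      intro p hp
      simp only [List.mem_cons, List.not_mem_nil, or_false] at hp
      rcases hp with rfl | rfl | rfl | rfl
      · exact ⟨hp8, by show 1 ≤ hposG2 8; decide⟩
      · exact ⟨hp9, by show 1 ≤ hposG2 9; decide⟩
      · exact ⟨hp10, by show 1 ≤ hposG2 10; decide⟩
      · exact ⟨hp11, by show 1 ≤ hposG2 11; decide⟩) hc
  exact ⟨hex (10, 1) (by simp) one_ne_zero, hex (11, 1) (by simp) one_ne_zero⟩

end four

section four'
variable {F : Type*} [Field F] [Fintype F] (X : Subgroup (GL cdG2.D.Idx F))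

/-- Weakly closed subgroups of `U` for type G2 over the field with four elements. -/
theorem wclG2_four (h4 : Fintype.card F = 4) (hXU : X ≤ cdG2.D.posUnipotent F)
    (hwc : ∀ g ∈ cdG2.D.group F, X.map (MulAut.conj g).toMonoidHom ≤ cdG2.D.posUnipotent F →
      X.map (MulAut.conj g).toMonoidHom = X) :
    ∃ J : Set ℕ, (∀ j ∈ J, j < cdG2.D.rank) ∧ X = cdG2.D.unipotentRadical F J := by
  apply wcl_main strHypG2 X hXU hwc
  · intro r hr
    exact full_of_pair leviG2.dec r hr.1 (selfG2 r (loG2 r hr) hr.1)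
  · intro B' N' r s hr hs hlt hnP hIH hA
    have hfull := full_of_pair (F := F) leviG2.dec r hr.1 (selfG2 r (loG2 r hr) hr.1)
    have hlt' : hposG2 r < hposG2 s := hlt
    have hr6 := loG2 r hr
    have hs6 := loG2 s hs
    have hr12 : r < 12 := hr.1
    have hs12 : s < 12 := hs.1
    by_cases hbad : badG2 r s = true
    · exfalso
      simp only [badG2, Bool.or_eq_true, Bool.and_eq_true, beq_iff_eq] at hbad
      rcases hbad with ⟨rfl, hs'⟩ | ⟨rfl, rfl⟩
      · have hIH0 : ∀ m, 0 < m → IHm (fun r (t : F) => relG2.xU r t) cdG2.D.IsPosRoot hposG2 X m := by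
          intro m hm
          exact hIH m (by show hposG2 6 < m; exact hm)
        have hA4 : ∃ z ∈ tailGrp (fun r (t : F) => relG2.xU r t) cdG2.D.IsPosRoot hposG2 4,
            relG2.xU 6 (1 : F) * z ∈ X := by
          obtain ⟨z, hz, h⟩ := hA 1
          refine ⟨z, tailGrp_anti _ _ _ ?_ hz, h⟩
          rcases hs' with rfl | rfl
          · show 4 ≤ hposG2 10; decide
          · show 4 ≤ hposG2 11; decide
        have := g2_four_six X B' N' hIH0 hA4
        rcases hs' with rfl | rfl
        · exact hnP this.1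
        · exact hnP this.2
      · have hA5 : ∃ z ∈ tailGrp (fun r (t : F) => relG2.xU r t) cdG2.D.IsPosRoot hposG2 5,
            relG2.xU 10 (1 : F) * z ∈ X := by
          obtain ⟨z, hz, h⟩ := hA 1
          exact ⟨z, hz, h⟩
        exact hnP (g2_four_ten X B' N' hA5)
    · have hbad' : badG2 r s = false := by simpa using hbad
      have hne : r ≠ s := by rintro rfl; exact lt_irrefl _ hlt'
      apply nc_of_arith _ _ r s hfull
      rw [h4]
      have := anc_small (C := cdG2) 3 (by decide) r s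
        (ancChk_spec relG2 3 r s hr.1 hs.1 hne (anc3G2 r s hr6 hr12 hs6 hs12 hlt' hbad'))
      simpa using this

end four'

end Cfsg.Agent.Lib.Helper3.WCl
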