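import Mathlib
import Cfsg.Prelude

set_option autoImplicit false
set_option linter.unusedSectionVars false
set_option linter.unusedSimpArgs false

/-!
# Weil representation of `Sp_2n(q)`, `q` odd: definitions and the Heisenberg operator calculus

`U = Fin n → F` (positions), `V = Fin n ⊕ Fin n → F` (phase space, with `Cfsg.sympForm`).
`hop ψ v` is the Heisenberg operator (a monomial matrix indexed by `U`), `par` the parity operator.
-/

namespace Cfsg.Agent.Lib.Helper3.Weil

open Matrix

variable {F : Type*} [Field F] [Fintype F] [DecidableEq F] {n : ℕ}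

/-- position half of a phase-space vector -/
def vx (v : Fin n ⊕ Fin n → F) : Fin n → F := fun i => v (Sum.inl i)

/-- momentum half of a phase-space vector -/
def vy (v : Fin n ⊕ Fin n → F) : Fin n → F := fun i => v (Sum.inr i)

/-- The Heisenberg operator `(h(x,y) f)(u) = ψ(y·u + x·y/2) f(u + x)` as a matrix. -/
def hop (ψ : AddChar F ℂ) (v : Fin n ⊕ Fin n → F) : Matrix (Fin n → F) (Fin n → F) ℂ :=
  fun u u' => if u' = u + vx v then ψ (vy v ⬝ᵥ u + 2⁻¹ * (vx v ⬝ᵥ vy v)) else 0

/-- The parity operator `(P f)(u) = f(-u)` as a matrix. -/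
def par : Matrix (Fin n → F) (Fin n → F) ℂ := fun u u' => if u' = -u then 1 else 0

theorem sympForm_eq (v w : Fin n ⊕ Fin n → F) :
    Cfsg.sympForm n F v w = vy v ⬝ᵥ vx w - vx v ⬝ᵥ vy w := by
  unfold Cfsg.sympForm Matrix.J vx vy
  simp only [dotProduct, Matrix.mulVec, Fintype.sum_sum_type, Matrix.fromBlocks_apply₁₁,
    Matrix.fromBlocks_apply₁₂, Matrix.fromBlocks_apply₂₁, Matrix.fromBlocks_apply₂₂,
    Matrix.zero_apply, Matrix.neg_apply, Matrix.one_apply, zero_mul, Finset.sum_const_zero,
    zero_add, add_zero]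
  simp only [neg_mul, ite_mul, one_mul, zero_mul, Finset.sum_neg_distrib, Finset.sum_ite_eq,
    Finset.mem_univ, if_true, mul_neg]
  ring

theorem vx_add (v w : Fin n ⊕ Fin n → F) : vx (v + w) = vx v + vx w := rfl
theorem vy_add (v w : Fin n ⊕ Fin n → F) : vy (v + w) = vy v + vy w := rfl
theorem vx_neg (v : Fin n ⊕ Fin n → F) : vx (-v) = - vx v := rfl
theorem vy_neg (v : Fin n ⊕ Fin n → F) : vy (-v) = - vy v := rfl
theorem vx_zero : vx (0 : Fin n ⊕ Fin n → F) = 0 := rfl
theorem vy_zero : vy (0 : Fin n ⊕ Fin n → F) = 0 := rfl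

theorem hop_zero (ψ : AddChar F ℂ) : hop ψ (0 : Fin n ⊕ Fin n → F) = 1 := by
  ext u u'
  simp only [hop, vx_zero, vy_zero, add_zero, zero_dotProduct, dotProduct_zero, mul_zero,
    AddChar.map_zero_eq_one, Matrix.one_apply]
  by_cases h : u = u'
  · subst h; simp
  · rw [if_neg (fun h' => h h'.symm), if_neg h]

theorem hop_mul (h2 : (2 : F) ≠ 0) (ψ : AddChar F ℂ) (v w : Fin n ⊕ Fin n → F) :
    hop ψ v * hop ψ w = ψ (2⁻¹ * Cfsg.sympForm n F w v) • hop ψ (v + w) := by
  ext u u''
  rw [Matrix.mul_apply, Matrix.smul_apply, smul_eq_mul]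
  simp only [hop]
  rw [Finset.sum_eq_single (u + vx v)]
  · rw [if_pos rfl, vx_add, vy_add]
    by_cases h : u'' = u + vx v + vx w
    · rw [if_pos h, if_pos (by rw [h, add_assoc])]
      rw [← AddChar.map_add_eq_mul, ← AddChar.map_add_eq_mul]
      congr 1
      rw [sympForm_eq]
      simp only [dotProduct_add, add_dotProduct]
      rw [dotProduct_comm (vy w) (vx v), dotProduct_comm (vy v) u, dotProduct_comm (vy w) u,
        dotProduct_comm (vx w) (vy v)]
      field_simp
      ring
    · rw [if_neg h, if_neg (by rw [← add_assoc]; exact h), mul_zero, mul_zero]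
  · intro b _ hb
    rw [if_neg hb, zero_mul]
  · intro h; exact absurd (Finset.mem_univ _) h

theorem hop_mul_neg (h2 : (2 : F) ≠ 0) (ψ : AddChar F ℂ) (v : Fin n ⊕ Fin n → F) :
    hop ψ v * hop ψ (-v) = 1 := by
  rw [hop_mul h2, add_neg_cancel, hop_zero, sympForm_eq]
  simp only [vx_neg, vy_neg, neg_dotProduct, dotProduct_neg]
  rw [dotProduct_comm (vy v) (vx v)]
  simp

theorem hop_neg_mul (h2 : (2 : F) ≠ 0) (ψ : AddChar F ℂ) (v : Fin n ⊕ Fin n → F) :
    hop ψ (-v) * hop ψ v = 1 := by
  have := hop_mul_neg h2 ψ (-v)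
  rwa [neg_neg] at this

theorem par_mul_par : (par : Matrix (Fin n → F) (Fin n → F) ℂ) * par = 1 := by
  ext u u''
  rw [Matrix.mul_apply]
  simp only [par]
  rw [Finset.sum_eq_single (-u)]
  · rw [if_pos rfl, neg_neg, one_mul, Matrix.one_apply]
    by_cases h : u = u''
    · rw [if_pos h, if_pos h.symm]
    · rw [if_neg h, if_neg (fun h' => h h'.symm)]
  · intro b _ hb
    rw [if_neg hb, zero_mul]
  · intro h; exact absurd (Finset.mem_univ _) h

theorem par_mul_hop (ψ : AddChar F ℂ) (v : Fin n ⊕ Fin n → F) :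
    par * hop ψ v = hop ψ (-v) * par := by
  ext u u''
  rw [Matrix.mul_apply, Matrix.mul_apply]
  simp only [par, hop]
  rw [Finset.sum_eq_single (-u), Finset.sum_eq_single (u + vx (-v))]
  · rw [if_pos rfl, if_pos rfl, one_mul, vx_neg, vy_neg]
    by_cases h : u'' = -u + vx v
    · rw [if_pos h, if_pos (by rw [h]; abel), mul_one]
      congr 1
      simp only [neg_dotProduct, dotProduct_neg, neg_neg]
    · rw [if_neg h, if_neg (fun h' => h (by rw [h']; abel)), mul_zero]
  · intro b _ hb
    rw [if_neg hb, zero_mul]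
  · intro h; exact absurd (Finset.mem_univ _) h
  · intro b _ hb
    rw [if_neg hb, zero_mul]
  · intro h; exact absurd (Finset.mem_univ _) h

theorem trace_par (h2 : (2 : F) ≠ 0) :
    Matrix.trace (par : Matrix (Fin n → F) (Fin n → F) ℂ) = 1 := by
  unfold Matrix.trace
  simp only [Matrix.diag_apply, par]
  rw [Finset.sum_eq_single (0 : Fin n → F)]
  · simp
  · intro b _ hb
    rw [if_neg]
    intro h
    apply hb
    funext i
    have hi : b i = - b i := congrFun h i
    have : (2 : F) * b i = 0 := by linear_combination hi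
    rcases mul_eq_zero.mp this with h' | h'
    · exact absurd h' h2
    · exact h'
  · intro h; exact absurd (Finset.mem_univ _) h

end Cfsg.Agent.Lib.Helper3.Weil
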